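import Cfsg.Statements.S2533

set_option autoImplicit false
open Cfsg

namespace Cfsg.Agent.S2533

/-- The translation part. -/
abbrev V (p : ℕ) := Fin 3 → ZMod p

/-- `±1` acting on `V`. -/
def act (p : ℕ) : ℤˣ →* MulAut (Multiplicative (V p)) where
  toFun e :=
    { toFun := fun a => Multiplicative.ofAdd (((e : ℤ) : ZMod p) • a.toAdd)
      invFun := fun a => Multiplicative.ofAdd (((e : ℤ) : ZMod p) • a.toAdd)
      left_inv := fun a => by
        rcases Int.units_eq_one_or e with rfl | rfl <;> simp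
      right_inv := fun a => by
        rcases Int.units_eq_one_or e with rfl | rfl <;> simp
      map_mul' := fun a b => by
        show Multiplicative.ofAdd (((e : ℤ) : ZMod p) • (a.toAdd + b.toAdd)) = _
        rw [smul_add, ofAdd_add] }
  map_one' := MulEquiv.ext fun a => by simp
  map_mul' e f := MulEquiv.ext fun a => by
    rw [MulAut.mul_apply]
    show Multiplicative.ofAdd _ = Multiplicative.ofAdd (((e : ℤ) : ZMod p) • (((f : ℤ) : ZMod p) • a.toAdd))
    rw [smul_smul]
    push_cast
    rfl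

/-- The group `p³:2`. -/
abbrev Gp (p : ℕ) := SemidirectProduct (Multiplicative (V p)) ℤˣ (act p)

/-- The Kronecker matrix attached to a vector. -/
def X {p : ℕ} (k : ℕ) (a : V p) : Matrix (Fin (k + 1)) (Fin k) (ZMod p) :=
  Matrix.of fun i j => (if (i : ℕ) = j then a 0 else 0) + (if (i : ℕ) = j + 1 then a 1 else 0) +
    (if (i : ℕ) = 0 ∧ (j : ℕ) = 1 then a 2 else 0)

theorem X_add {p : ℕ} (k : ℕ) (a b : V p) : X k (a + b) = X k a + X k b := by
  ext i j
  simp only [X, Matrix.of_apply, Matrix.add_apply, Pi.add_apply]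
  split_ifs <;> ring

theorem X_smul {p : ℕ} (k : ℕ) (c : ZMod p) (a : V p) : X k (c • a) = c • X k a := by
  ext i j
  simp only [X, Matrix.of_apply, Matrix.smul_apply, Pi.smul_apply, smul_eq_mul]
  split_ifs <;> ring

theorem X_zero {p : ℕ} (k : ℕ) : X k (0 : V p) = 0 := by
  ext i j
  simp [X]

/-- The matrix of an element. -/
def mat {p : ℕ} (k : ℕ) (g : Gp p) : Matrix (Fin k ⊕ Fin (k + 1)) (Fin k ⊕ Fin (k + 1)) (ZMod p) :=
  Matrix.fromBlocks (((g.right : ℤ) : ZMod p) • 1) 0 (((g.right : ℤ) : ZMod p) • X k g.left.toAdd) 1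

theorem mat_mul {p : ℕ} (k : ℕ) (g h : Gp p) : mat k (g * h) = mat k g * mat k h := by
  simp only [mat, SemidirectProduct.mul_right, SemidirectProduct.mul_left, Matrix.fromBlocks_multiply]
  have hl : ((g.left * (act p g.right) h.left : Multiplicative (V p))).toAdd
      = g.left.toAdd + ((g.right : ℤ) : ZMod p) • h.left.toAdd := rfl
  rw [hl]
  congr 1
  · simp [smul_smul, mul_comm]
  · simp
  · simp only [X_add, X_smul, Matrix.one_mul, Matrix.smul_mul, Matrix.mul_smul, Matrix.mul_one, Units.val_mul,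
      Int.cast_mul, smul_add, smul_smul]
    rcases Int.units_eq_one_or g.right with hg | hg <;> simp [hg]
  · simp

theorem mat_det {p : ℕ} (k : ℕ) (hk : Even k) (g : Gp p) : (mat k g).det = 1 := by
  rw [mat, Matrix.det_fromBlocks_zero₁₂, Matrix.det_smul, Matrix.det_one, Matrix.det_one, Fintype.card_fin]
  rcases Int.units_eq_one_or g.right with hg | hg <;> simp [hg, hk.neg_one_pow]

/-- Only scalars commute with the Kronecker matrices. -/
theorem brick {p k : ℕ} [Fact p.Prime] (hk : 1 ≤ k) (α : Matrix (Fin k) (Fin k) (ZMod p))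
    (δ : Matrix (Fin (k + 1)) (Fin (k + 1)) (ZMod p)) (h : ∀ a, δ * X k a = X k a * α) :
    ∃ t : ZMod p, α = t • 1 ∧ δ = t • 1 := by
  classical
  let d : ℕ → ℕ → ZMod p := fun i j =>
    if hij : i < k + 1 ∧ j < k + 1 then δ ⟨i, hij.1⟩ ⟨j, hij.2⟩ else 0
  let a : ℕ → ℕ → ZMod p := fun i j =>
    if hij : i < k ∧ j < k then α ⟨i, hij.1⟩ ⟨j, hij.2⟩ else 0
  have hd : ∀ (i j : Fin (k + 1)), δ i j = d i j := fun i j => by
    simp only [d]; rw [dif_pos ⟨i.2, j.2⟩]
  have ha : ∀ (i j : Fin k), α i j = a i j := fun i j => by simp [a, i.2, j.2]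
  have hX0 : ∀ i < k + 1, ∀ j < k, d i j = if i < k then a i j else 0 := by
    intro i hi j hj
    have h0 := congrFun (congrFun (h ![1, 0, 0]) ⟨i, hi⟩) ⟨j, hj⟩
    change ∑ l, δ ⟨i, hi⟩ l * X k _ l ⟨j, hj⟩ = ∑ l, X k _ ⟨i, hi⟩ l * α l ⟨j, hj⟩ at h0
    simp [X, -Finset.sum_boole] at h0
    rw [Finset.sum_eq_single (⟨j, by omega⟩ : Fin (k + 1))] at h0
    · simp only [if_true] at h0
      rw [show d i j = δ ⟨i, hi⟩ ⟨j, by omega⟩ from by simp only [d]; rw [dif_pos ⟨hi, by omega⟩], h0]
      by_cases hik : i < k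
      · rw [Finset.sum_eq_single (⟨i, hik⟩ : Fin k)]
        · simp [a, hik, hj]
        · intro b _ hb
          rw [if_neg]; intro hh; exact hb (Fin.ext hh.symm)
        · simp
      · rw [if_neg hik]
        exact Finset.sum_eq_zero fun b _ => if_neg (by omega)
    · intro b _ hb
      rw [if_neg]; intro hh; exact hb (Fin.ext hh)
    · simp
  have hX1 : ∀ i < k + 1, ∀ j < k, d i (j + 1) = if i = 0 then 0 else a (i - 1) j := by
    intro i hi j hj
    have h0 := congrFun (congrFun (h ![0, 1, 0]) ⟨i, hi⟩) ⟨j, hj⟩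
    change ∑ l, δ ⟨i, hi⟩ l * X k _ l ⟨j, hj⟩ = ∑ l, X k _ ⟨i, hi⟩ l * α l ⟨j, hj⟩ at h0
    simp [X, -Finset.sum_boole] at h0
    rw [Finset.sum_eq_single (⟨j + 1, by omega⟩ : Fin (k + 1))] at h0
    · simp only [if_true] at h0
      rw [show d i (j + 1) = δ ⟨i, hi⟩ ⟨j + 1, by omega⟩ from by simp only [d]; rw [dif_pos ⟨hi, by omega⟩], h0]
      by_cases hi0 : i = 0
      · rw [if_pos hi0]
        exact Finset.sum_eq_zero fun b _ => if_neg (by omega)
      · rw [if_neg hi0, Finset.sum_eq_single (⟨i - 1, by omega⟩ : Fin k)]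
        · simp only [a]; rw [dif_pos ⟨by omega, hj⟩, if_pos (show i = i - 1 + 1 by omega)]
        · intro b _ hb
          rw [if_neg]; intro hh; exact hb (Fin.ext (show (b : ℕ) = i - 1 by omega))
        · simp
    · intro b _ hb
      rw [if_neg]; intro hh; exact hb (Fin.ext hh)
    · simp
  have hrec : ∀ i < k, ∀ j < k, d (i + 1) (j + 1) = d i j := by
    intro i hi j hj
    rw [hX1 (i + 1) (by omega) j hj, if_neg (by omega), hX0 i (by omega) j hj, if_pos hi, Nat.add_sub_cancel]
  have hupper : ∀ i, ∀ e, i + e + 1 < k + 1 → d i (i + e + 1) = 0 := by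
    intro i
    induction i with
    | zero => intro e he; rw [zero_add, hX1 0 (by omega) e (by omega), if_pos rfl]
    | succ i ih =>
      intro e he
      rw [show i + 1 + e + 1 = i + e + 1 + 1 by omega, hrec i (by omega) _ (by omega)]
      exact ih e (by omega)
  have hlower : ∀ t, ∀ j, j + t < k → j + t ≤ k → ∀ i, i + t = k → j < i → d i j = 0 := by
    intro t
    induction t with
    | zero =>
      intro j hj _ i hi _
      rw [hX0 i (by omega) j (by omega), if_neg (by omega)]
    | succ t ih =>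
      intro j hj _ i hi hji
      rw [← hrec i (by omega) j (by omega)]
      exact ih (j + 1) (by omega) (by omega) (i + 1) (by omega) (by omega)
  have hdiag : ∀ i < k + 1, d i i = d 0 0 := by
    intro i
    induction i with
    | zero => intro; rfl
    | succ i ih => intro hi; rw [hrec i (by omega) i (by omega), ih (by omega)]
  have hδ : δ = d 0 0 • 1 := by
    ext i j
    rw [hd, Matrix.smul_apply, Matrix.one_apply]
    rcases lt_trichotomy (i : ℕ) j with h' | h' | h'
    · rw [if_neg (fun e => by rw [e] at h'; exact lt_irrefl _ h'), smul_zero,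
        show (j : ℕ) = i + (j - i - 1) + 1 by omega]
      exact hupper i _ (by omega)
    · rw [if_pos (Fin.ext h'), ← h', hdiag i i.2, smul_eq_mul, mul_one]
    · rw [if_neg (fun e => by rw [e] at h'; exact lt_irrefl _ h'), smul_zero]
      exact hlower (k - i) j (by omega) (by omega) i (by omega) h'
  refine ⟨d 0 0, ?_, hδ⟩
  ext i j
  have := hX0 i (by omega) j j.2
  rw [if_pos i.2] at this
  rw [ha, ← this, ← hd ⟨i, by omega⟩ ⟨j, by omega⟩, hδ]
  simp [Matrix.one_apply, Fin.ext_iff]

/-- For every odd prime `p` there is a finite group `H` of order `2p³` which, for infinitely many `n`, embeds in the projective special linear group `PSL(n, p)` as a subgroup with trivial centralizer. -/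
theorem result
    (p : ℕ) [Fact p.Prime] (hp : p ≠ 2) :
    ∃ (H : Type) (_ : Group H) (_ : Finite H), Nat.card H = 2 * p ^ 3 ∧
      ∀ N : ℕ, ∃ n, N ≤ n ∧ ∃ φ : H →* Matrix.ProjectiveSpecialLinearGroup (Fin n) (ZMod p),
        Function.Injective φ ∧ Subgroup.centralizer (φ.range : Set (Matrix.ProjectiveSpecialLinearGroup (Fin n) (ZMod p))) = ⊥ := by
  classical
  haveI : NeZero p := ⟨(Fact.out : p.Prime).ne_zero⟩
  haveI : Finite (Gp p) := Finite.of_equiv _ SemidirectProduct.equivProd.symm
  refine ⟨Gp p, inferInstance, inferInstance, ?_, fun N => ?_⟩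
  · rw [Nat.card_congr SemidirectProduct.equivProd, Nat.card_prod, Nat.card_congr Multiplicative.toAdd,
      Nat.card_eq_fintype_card (α := ℤˣ)]
    simp [mul_comm]
  let k := 2 * (N + 1)
  have hk : Even k := ⟨N + 1, by omega⟩
  have h2 : (2 : ZMod p) ≠ 0 := by
    have h := Nat.Prime.two_le (Fact.out : p.Prime)
    intro h0
    have : p ∣ 2 := (ZMod.natCast_eq_zero_iff 2 p).1 (by exact_mod_cast h0)
    exact hp (le_antisymm (Nat.le_of_dvd (by norm_num) this) h)
  have hneg : (-1 : ZMod p) ≠ 1 := fun h => h2 (by linear_combination -h)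
  let e : Fin k ⊕ Fin (k + 1) ≃ Fin (k + (k + 1)) := finSumFinEquiv
  let R := Matrix.reindexAlgEquiv (ZMod p) (ZMod p) e
  let ψ : Gp p →* Matrix.SpecialLinearGroup (Fin (k + (k + 1))) (ZMod p) :=
    MonoidHom.mk' (fun g => ⟨R (mat k g), by rw [Matrix.det_reindexAlgEquiv, mat_det k hk]⟩)
      (fun g h => Subtype.ext (by
        show R (mat k (g * h)) = R (mat k g) * R (mat k h)
        rw [mat_mul, map_mul]))
  refine ⟨k + (k + 1), by omega, (QuotientGroup.mk' _).comp ψ, ?_, ?_⟩
  · rw [injective_iff_map_eq_one]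
    intro g hg
    have hc : ψ g ∈ Subgroup.center _ := (QuotientGroup.eq_one_iff _).1 hg
    rw [Matrix.SpecialLinearGroup.mem_center_iff] at hc
    obtain ⟨r, -, hr⟩ := hc
    have hm : mat k g = r • 1 := by
      apply R.injective
      rw [map_smul, map_one]
      rw [Matrix.smul_one_eq_diagonal]
      exact hr.symm
    rw [← Matrix.fromBlocks_one, Matrix.fromBlocks_smul, mat, Matrix.fromBlocks_inj] at hm
    obtain ⟨h1, -, h3, h4⟩ := hm
    have hr1 : r = 1 := by simpa using (congrFun (congrFun h4 0) 0).symm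
    have hs : ((g.right : ℤ) : ZMod p) = 1 := by
      simpa [hr1] using congrFun (congrFun h1 ⟨0, by omega⟩) ⟨0, by omega⟩
    have hright : g.right = 1 := by
      rcases Int.units_eq_one_or g.right with h | h
      · exact h
      · rw [h] at hs; exact absurd (by simpa using hs) hneg
    rw [smul_zero, hs, one_smul] at h3
    have e0 := congrFun (congrFun h3 (⟨0, by omega⟩ : Fin (k + 1))) (⟨0, by omega⟩ : Fin k)
    have e1 := congrFun (congrFun h3 (⟨1, by omega⟩ : Fin (k + 1))) (⟨0, by omega⟩ : Fin k)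
    have e2 := congrFun (congrFun h3 (⟨0, by omega⟩ : Fin (k + 1))) (⟨1, by omega⟩ : Fin k)
    simp [X, show k ≠ 1 by omega, Nat.mod_eq_of_lt (show 1 < k by omega)] at e0 e1 e2
    refine SemidirectProduct.ext ?_ hright
    apply Multiplicative.toAdd.injective
    funext i
    fin_cases i
    · exact e0
    · exact e1 (by omega)
    · exact e2
  · rw [Subgroup.eq_bot_iff_forall]
    intro x hx
    obtain ⟨g, rfl⟩ := QuotientGroup.mk_surjective x
    rw [Subgroup.mem_centralizer_iff] at hx
    obtain ⟨G₀, hG₀⟩ : ∃ G₀, R G₀ = (g : Matrix (Fin (k + (k + 1))) (Fin (k + (k + 1))) (ZMod p)) := R.surjective _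
    have hcomm : ∀ h : Gp p, ∃ c : ZMod p, mat k h * G₀ = c • (G₀ * mat k h) := by
      intro h
      have h1 := hx _ ⟨h, rfl⟩
      have h2 : (g * ψ h)⁻¹ * (ψ h * g) ∈ Subgroup.center _ :=
        QuotientGroup.eq.1 (h1.symm)
      rw [Matrix.SpecialLinearGroup.mem_center_iff] at h2
      obtain ⟨c, -, hc⟩ := h2
      refine ⟨c, R.injective ?_⟩
      rw [map_smul, map_mul, map_mul, hG₀]
      have := congrArg Subtype.val (show ψ h * g = (g * ψ h) * ((g * ψ h)⁻¹ * (ψ h * g)) by group)
      rw [Matrix.SpecialLinearGroup.coe_mul, Matrix.SpecialLinearGroup.coe_mul, ← hc] at this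
      rw [show R (mat k h) = (ψ h : Matrix _ _ (ZMod p)) from rfl, this]
      rw [Matrix.SpecialLinearGroup.coe_mul, Matrix.scalar_apply, ← Matrix.smul_one_eq_diagonal, Matrix.mul_smul, Matrix.mul_one]
    obtain ⟨α, β, γ, δ, rfl⟩ : ∃ α β γ δ, G₀ = Matrix.fromBlocks α β γ δ :=
      ⟨_, _, _, _, (Matrix.fromBlocks_toBlocks G₀).symm⟩
    have hG0 : Matrix.fromBlocks α β γ δ ≠ 0 := by
      intro h0
      rw [h0, map_zero] at hG₀
      have := g.2
      rw [← hG₀] at this
      haveI hne : Nonempty (Fin (k + (k + 1))) := ⟨⟨0, by omega⟩⟩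
      rw [Matrix.det_zero] at this
      exact zero_ne_one this
    -- the involution
    obtain ⟨c, hc⟩ := hcomm ⟨1, -1⟩
    simp only [mat, toAdd_one, X_zero, smul_zero, Matrix.fromBlocks_multiply, Matrix.fromBlocks_smul,
      Units.val_neg, Units.val_one, Int.cast_neg, Int.cast_one, Matrix.smul_mul, Matrix.mul_smul,
      Matrix.one_mul, Matrix.mul_one, Matrix.zero_mul, Matrix.mul_zero, add_zero, zero_add,
      Matrix.fromBlocks_inj, neg_one_smul, smul_neg, Matrix.mul_neg, Matrix.neg_mul] at hc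
    obtain ⟨hc1, hc2, hc3, hc4⟩ := hc
    have hc_one : c = 1 := by
      by_contra hne
      have hα : α = 0 := by
        have h : (c - 1) • α = 0 := by rw [sub_smul, one_smul, ← neg_neg (c • α), ← hc1, neg_neg, sub_self]
        exact (smul_eq_zero.1 h).resolve_left (sub_ne_zero.2 hne)
      have hδ : δ = 0 := by
        have h : (c - 1) • δ = 0 := by rw [sub_smul, one_smul, ← hc4, sub_self]
        exact (smul_eq_zero.1 h).resolve_left (sub_ne_zero.2 hne)
      subst hα; subst hδ
      obtain ⟨d, hd⟩ := hcomm ⟨Multiplicative.ofAdd ![1, 0, 0], 1⟩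
      simp only [mat, toAdd_ofAdd, Matrix.fromBlocks_multiply, Matrix.fromBlocks_smul, Units.val_one, Int.cast_one,
        one_smul, Matrix.one_mul, Matrix.mul_one, Matrix.zero_mul, Matrix.mul_zero, add_zero, zero_add,
        Matrix.fromBlocks_inj, smul_zero] at hd
      obtain ⟨hd1, hd2, hd3, hd4⟩ := hd
      by_cases hd' : d = 0
      · subst hd'
        rw [zero_smul] at hd2 hd3
        exact hG0 (by rw [hd2, hd3, Matrix.fromBlocks_zero])
      have hb : β * X (p := p) k ![1, 0, 0] = 0 := (smul_eq_zero.1 hd1.symm).resolve_left hd'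
      have hxb : X (p := p) k ![1, 0, 0] * β = 0 := hd4
      have hβ : β = 0 := by
        ext i j
        have := congrFun (congrFun hxb i.castSucc) j
        rw [Matrix.mul_apply, Finset.sum_eq_single i] at this
        · simpa [X] using this
        · intro b _ hb'
          have : ((i.castSucc : Fin (k + 1)) : ℕ) ≠ b := fun h => hb' (Fin.ext h.symm)
          simp [X] at this ⊢
          simp [this]
        · simp
      subst hβ
      have hdet : (Matrix.fromBlocks (0 : Matrix (Fin k) (Fin k) (ZMod p)) 0 γ (0 : Matrix (Fin (k + 1)) (Fin (k + 1)) (ZMod p))).det = 1 := by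
        have := g.2
        rwa [← hG₀, Matrix.det_reindexAlgEquiv] at this
      rw [Matrix.det_fromBlocks_zero₁₂] at hdet
      simp at hdet
    subst hc_one
    rw [one_smul] at hc2 hc3
    have hβ : β = 0 := by
      have h : (2 : ZMod p) • β = 0 := by
        rw [two_smul]; nth_rewrite 1 [← neg_neg β]; rw [hc2, neg_add_cancel]
      exact (smul_eq_zero.1 h).resolve_left h2
    have hγ : γ = 0 := by
      have h : (2 : ZMod p) • γ = 0 := by
        rw [two_smul]; nth_rewrite 1 [hc3]; rw [neg_add_cancel]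
      exact (smul_eq_zero.1 h).resolve_left h2
    subst hβ; subst hγ
    have hXcomm : ∀ a, δ * X k a = X k a * α := by
      intro a
      obtain ⟨d, hd⟩ := hcomm ⟨Multiplicative.ofAdd a, 1⟩
      simp only [mat, toAdd_ofAdd, Matrix.fromBlocks_multiply, Matrix.fromBlocks_smul, Units.val_one, Int.cast_one,
        one_smul, Matrix.one_mul, Matrix.mul_one, Matrix.zero_mul, Matrix.mul_zero, add_zero, zero_add,
        Matrix.fromBlocks_inj, smul_zero] at hd
      obtain ⟨hd1, -, hd3, hd4⟩ := hd
      have hd' : d = 1 := by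
        by_contra hne
        have hα : α = 0 := by
          have h : (d - 1) • α = 0 := by rw [sub_smul, one_smul, ← hd1, sub_self]
          exact (smul_eq_zero.1 h).resolve_left (sub_ne_zero.2 hne)
        have hδ : δ = 0 := by
          have h : (d - 1) • δ = 0 := by rw [sub_smul, one_smul, ← hd4, sub_self]
          exact (smul_eq_zero.1 h).resolve_left (sub_ne_zero.2 hne)
        exact hG0 (by rw [hα, hδ, Matrix.fromBlocks_zero])
      rw [hd', one_smul] at hd3
      exact hd3.symm
    obtain ⟨t, ht1, ht2⟩ := brick (by omega) α δ hXcomm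
    rw [QuotientGroup.eq_one_iff, Subgroup.mem_center_iff]
    intro y
    apply Subtype.ext
    rw [Matrix.SpecialLinearGroup.coe_mul, Matrix.SpecialLinearGroup.coe_mul, ← hG₀, ht1, ht2,
      ← smul_zero (A := Matrix (Fin k) (Fin (k + 1)) (ZMod p)) t,
      ← smul_zero (A := Matrix (Fin (k + 1)) (Fin k) (ZMod p)) t, ← Matrix.fromBlocks_smul,
      Matrix.fromBlocks_one, map_smul, map_one, Matrix.mul_smul, Matrix.smul_mul, Matrix.mul_one, Matrix.one_mul]

end Cfsg.Agent.S2533
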