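import Cfsg.Statements.S2534
import Cfsg.Agent.Lib.HallSymMain76

set_option autoImplicit false
open Cfsg

namespace Cfsg.Agent.S2534

open Cfsg.Agent.HallSymMain76 Cfsg.Agent.HallSymDom76 Equiv Equiv.Perm

/-- A `π`-subgroup of `A_n` cut out by the centraliser of a permutation. -/
theorem exists_le_std {n : ℕ} (hn : 2 ≤ n) {π : Set ℕ} (hT : Two π n) (hF : ¬ Full π n)
    (hD : Cfsg.IsDPiGroup π ↥(alternatingGroup (Fin n))) (S : Subgroup (Perm (Fin n)))
    (hS : ∀ p : ℕ, p.Prime → p ∣ Nat.card S → p ∈ π) :
    ∃ K, IsStd π n K ∧ ∀ g ∈ S, g ∈ alternatingGroup (Fin n) → g ∈ K := by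
  obtain ⟨M, hM, hle⟩ := dom_of_dpi hD (S.subgroupOf (alternatingGroup (Fin n))) (by
    intro p hp hd
    refine hS p hp (hd.trans ?_)
    rw [← Subgroup.inf_subgroupOf_right,
      Nat.card_congr (Subgroup.subgroupOfEquivOfLe inf_le_right).toEquiv]
    exact Subgroup.card_dvd_of_le inf_le_left)
  obtain ⟨K, hK, hMK⟩ := exists_std hT hF (near_of_hall_alt hn hM)
  refine ⟨K, hK, fun g hg hga => hMK ?_⟩
  have hmem : (⟨g, hga⟩ : alternatingGroup (Fin n)) ∈ S.subgroupOf (alternatingGroup (Fin n)) :=
    Subgroup.mem_subgroupOf.2 hg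
  exact Subgroup.mem_map_of_mem _ (hle hmem)

theorem primes_of_centralizer {n : ℕ} (τ : Perm (Fin n)) {d : ℕ}
    (hd : Nat.card (Subgroup.centralizer {τ}) = d) (h : ∀ p : ℕ, p.Prime → p ∣ d → p ≤ 4)
    {π : Set ℕ} (h23 : 2 ∈ π ∧ 3 ∈ π) :
    ∀ p : ℕ, p.Prime → p ∣ Nat.card (Subgroup.centralizer ({τ} : Set (Perm (Fin n)))) → p ∈ π := by
  intro p hp hpd
  rw [hd] at hpd
  have := h p hp hpd
  have := hp.two_le
  rcases (show p = 2 ∨ p = 3 ∨ p = 4 by omega) with rfl | rfl | rfl
  · exact h23.1
  · exact h23.2
  · norm_num at hp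

theorem small_le {d p : ℕ} (hd : d ∈ ({12, 48, 96} : Finset ℕ)) (hp : p.Prime) (h : p ∣ d) :
    p ≤ 4 := by
  have hdd : p ∣ 2 ^ 5 * 3 := by
    simp only [Finset.mem_insert, Finset.mem_singleton] at hd
    rcases hd with rfl | rfl | rfl <;> exact h.trans (by norm_num)
  rcases (hp.dvd_mul).1 hdd with h | h
  · have := Nat.le_of_dvd (by norm_num) (hp.dvd_of_dvd_pow h)
    omega
  · have := Nat.le_of_dvd (by norm_num) h
    omega


/-- For `n ≥ 5` and a set of primes `π`, the alternating group of degree `n` satisfies the full Sylow analogue for `π` (its maximal `π`-subgroups are pairwise conjugate; for a finite group this says Hall `π`-subgroups exist, are all conjugate, and contain every `π`-subgroup up to conjugacy) if and only if either at most one prime of `π` divides its order or every prime dividing its order lies in `π`. -/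
theorem result (n : ℕ) (hn : 5 ≤ n) (π : Set ℕ) :
    Cfsg.IsDPiGroup π ↥(alternatingGroup (Fin n)) ↔
      ((∀ r s : ℕ, r.Prime → s.Prime → r ∈ π → s ∈ π → r ∣ Nat.card ↥(alternatingGroup (Fin n)) → s ∣ Nat.card ↥(alternatingGroup (Fin n)) → r = s) ∨
        ∀ r : ℕ, r.Prime → r ∣ Nat.card ↥(alternatingGroup (Fin n)) → r ∈ π) := by
  constructor
  · intro hD
    by_contra hne
    push Not at hne
    obtain ⟨⟨r, s, hr, hs, hrπ, hsπ, hrd, hsd, hrs⟩, t, ht, htd, htπ⟩ := hne
    have hT : Two π n := by
      rcases lt_or_gt_of_ne hrs with h | h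
      · exact ⟨r, s, hr, hs, h, hrπ, hsπ, card_alt_dvd_le hs hsd⟩
      · exact ⟨s, r, hs, hr, h, hsπ, hrπ, card_alt_dvd_le hr hrd⟩
    have hF : ¬ Full π n := fun h => htπ (h t ht (card_alt_dvd_le ht htd))
    obtain ⟨M, hM, -⟩ := dom_of_dpi hD ⊥ (fun p hp hd => by
      rw [Subgroup.card_bot] at hd; exact absurd (Nat.dvd_one.1 hd) hp.ne_one)
    obtain ⟨K₀, hK₀, -⟩ := exists_std hT hF (near_of_hall_alt (by omega) hM)
    rcases hK₀ with ⟨hnp, hiff, -⟩ | ⟨hn7, hiff, -⟩ | ⟨hn8, hiff, -⟩
    · rcases (show n = 5 ∨ 7 ≤ n by
        rcases (show n = 5 ∨ n = 6 ∨ 7 ≤ n by omega) with h | h | h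
        · exact Or.inl h
        · rw [h] at hnp; norm_num at hnp
        · exact Or.inr h) with hn5 | hn7
      · subst hn5
        have hc : Nat.card (Subgroup.centralizer ({swap 3 4} : Set (Perm (Fin 5)))) = 12 := by
          rw [Equiv.Perm.nat_card_centralizer]; decide +kernel
        obtain ⟨K, hK, hle⟩ := exists_le_std (by omega) hT hF hD _ (primes_of_centralizer _ hc
          (fun p hp h => small_le (by decide) hp h)
          ⟨(hiff 2 Nat.prime_two (by omega)).2 (by omega),
            (hiff 3 Nat.prime_three (by omega)).2 (by omega)⟩)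
        rcases hK with ⟨-, -, x, rfl⟩ | ⟨h, -⟩ | ⟨h, -⟩
        · have h1 := hle (swap 0 1 * swap 3 4)
            (Subgroup.mem_centralizer_singleton_iff.2 (by decide +kernel))
            (mem_alternatingGroup.2 (by decide +kernel))
          have h2 := hle (swap 0 2 * swap 3 4)
            (Subgroup.mem_centralizer_singleton_iff.2 (by decide +kernel))
            (mem_alternatingGroup.2 (by decide +kernel))
          rw [MulAction.mem_stabilizer_iff, Perm.smul_def] at h1 h2
          clear hle
          revert h1 h2
          revert x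
          decide +kernel
        · omega
        · omega
      · obtain ⟨g, hg⟩ := (Equiv.Perm.exists_with_cycleType_iff (Fin n) (m := {2, 2, n - 4})).2
          ⟨by simp; omega, fun a ha => by simp at ha; omega⟩
        have hsum : g.cycleType.sum = n := by rw [hg]; simp; omega
        have hga : g ∈ alternatingGroup (Fin n) := by
          rw [mem_alternatingGroup, sign_of_cycleType, hsum, hg]
          have hodd : n % 2 = 1 := hnp.eq_two_or_odd.resolve_left (by omega)
          simp only [Multiset.insert_eq_cons, Multiset.card_cons, Multiset.card_singleton]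
          exact Even.neg_one_pow ⟨(n + 3) / 2, by omega⟩
        obtain ⟨K, hK, hle⟩ := exists_le_std (by omega) hT hF hD (Subgroup.zpowers g) (by
          intro p hp hd
          rw [Nat.card_zpowers, ← lcm_cycleType, hg] at hd
          have hd' : p ∣ 2 * (n - 4) := hd.trans (Multiset.lcm_dvd.2 (by
            intro a ha
            simp at ha
            rcases ha with rfl | rfl
            · exact dvd_mul_right _ _
            · exact dvd_mul_left _ _))
          have hple : p < n := by
            rcases (hp.dvd_mul).1 hd' with h | h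
            · have := Nat.le_of_dvd (by norm_num) h; omega
            · have := Nat.le_of_dvd (by omega) h; omega
          exact (hiff p hp hple.le).2 hple)
        rcases hK with ⟨-, -, x, rfl⟩ | ⟨h, hiff', -⟩ | ⟨h, -⟩
        · have h1 := hle g (Subgroup.mem_zpowers g) hga
          rw [MulAction.mem_stabilizer_iff, Perm.smul_def] at h1
          have hx : x ∈ g.support := by
            have : g.support = Finset.univ := by
              rw [← Finset.card_eq_iff_eq_univ, ← sum_cycleType, hsum, Fintype.card_fin]
            rw [this]; exact Finset.mem_univ x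
          exact mem_support.1 hx h1
        · rcases (hiff' 5 (by norm_num) (by omega)).1 ((hiff 5 (by norm_num) (by omega)).2 (by omega))
            with h | h <;> omega
        · rw [h] at hnp; norm_num at hnp
    · subst hn7
      have hc : Nat.card (Subgroup.centralizer
          ({swap 0 1 * swap 2 3 * swap 4 5} : Set (Perm (Fin 7)))) = 48 := by
        rw [Equiv.Perm.nat_card_centralizer]; decide +kernel
      obtain ⟨K, hK, hle⟩ := exists_le_std (by omega) hT hF hD _ (primes_of_centralizer _ hc
        (fun p hp h => small_le (by decide) hp h)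
        ⟨(hiff 2 Nat.prime_two (by omega)).2 (Or.inl rfl),
          (hiff 3 Nat.prime_three (by omega)).2 (Or.inr rfl)⟩)
      rcases hK with ⟨-, hiff', -⟩ | ⟨-, -, A, hA, rfl⟩ | ⟨h, -⟩
      · rcases (hiff 5 (by norm_num) (by omega)).1
          ((hiff' 5 (by norm_num) (by omega)).2 (by omega)) with h | h <;> omega
      · have h1 := hle (swap 0 2 * swap 2 4 * (swap 1 3 * swap 3 5))
          (Subgroup.mem_centralizer_singleton_iff.2 (by decide +kernel))
          (mem_alternatingGroup.2 (by decide +kernel))
        have h2 := hle (swap 0 1 * swap 2 3)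
          (Subgroup.mem_centralizer_singleton_iff.2 (by decide +kernel))
          (mem_alternatingGroup.2 (by decide +kernel))
        rw [mem_setStab] at h1 h2
        clear hle
        revert hA h1 h2
        revert A
        decide +kernel
      · omega
    · subst hn8
      have hc : Nat.card (Subgroup.centralizer
          ({swap 0 1 * swap 2 3 * swap 4 5} : Set (Perm (Fin 8)))) = 96 := by
        rw [Equiv.Perm.nat_card_centralizer]; decide +kernel
      obtain ⟨K, hK, hle⟩ := exists_le_std (by omega) hT hF hD _ (primes_of_centralizer _ hc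
        (fun p hp h => small_le (by decide) hp h)
        ⟨(hiff 2 Nat.prime_two (by omega)).2 (Or.inl rfl),
          (hiff 3 Nat.prime_three (by omega)).2 (Or.inr rfl)⟩)
      rcases hK with ⟨h, -⟩ | ⟨h, -⟩ | ⟨-, -, A, hA, rfl⟩
      · norm_num at h
      · omega
      · have h1 := hle (swap 0 2 * swap 2 4 * (swap 1 3 * swap 3 5))
          (Subgroup.mem_centralizer_singleton_iff.2 (by decide +kernel))
          (mem_alternatingGroup.2 (by decide +kernel))
        have h2 := hle (swap 0 1 * swap 2 3)
          (Subgroup.mem_centralizer_singleton_iff.2 (by decide +kernel))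
          (mem_alternatingGroup.2 (by decide +kernel))
        change (∀ x, _ ↔ x ∈ A) ∨ (∀ x, _ ↔ x ∉ A) at h1 h2
        clear hle
        revert hA h1 h2
        revert A
        decide +kernel
  · rintro (h | h)
    · exact (dom_of_one fun r s hr hs hrπ hsπ hrd hsd => h r s hr hs hrπ hsπ hrd hsd).dpi
    · exact (dom_of_all fun p hp hd => h p hp hd).dpi

end Cfsg.Agent.S2534
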