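import Cfsg.Statements.S2536
import Cfsg.Agent.Lib.HallSymMain76

set_option autoImplicit false
open Cfsg

namespace Cfsg.Agent.S2536

open Cfsg.Agent.HallSymMain76 Cfsg.Agent.HallSymDom76 Equiv Equiv.Perm

/-- Let `π` be a set of primes and `n` a natural number such that at least two primes of `π` divide `n!` but not every prime dividing `n!` lies in `π`. Then the symmetric group of degree `n` has a Hall `π`-subgroup if and only if either `n` is prime and the primes of `π` dividing `n!` are exactly the primes smaller than `n` (a point stabilizer is then such a subgroup), or `n ∈ {7, 8}` and the primes of `π` dividing `n!` are exactly 2 and 3. -/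
theorem result (n : ℕ) (π : Set ℕ)
    (h2 : ∃ r s : ℕ, r.Prime ∧ s.Prime ∧ r ≠ s ∧ r ∈ π ∧ s ∈ π ∧ r ≤ n ∧ s ≤ n)
    (hns : ∃ r : ℕ, r.Prime ∧ r ≤ n ∧ r ∉ π) :
    Cfsg.IsEPiGroup π (Equiv.Perm (Fin n)) ↔
      ((n.Prime ∧ ∀ r : ℕ, r.Prime → r ≤ n → (r ∈ π ↔ r < n)) ∨
       ((n = 7 ∨ n = 8) ∧ ∀ r : ℕ, r.Prime → r ≤ n → (r ∈ π ↔ (r = 2 ∨ r = 3)))) := by
  obtain ⟨r, s, hr, hs, hrs, hrπ, hsπ, hrn, hsn⟩ := h2
  obtain ⟨t, ht, htn, htπ⟩ := hns
  have hF : ¬ Full π n := fun h => htπ (h t ht htn)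
  have hT : Two π n := by
    rcases lt_or_gt_of_ne hrs with h | h
    · exact ⟨r, s, hr, hs, h, hrπ, hsπ, hsn⟩
    · exact ⟨s, r, hs, hr, h, hsπ, hrπ, hrn⟩
  constructor
  · rintro ⟨H, hH⟩
    obtain ⟨K, hK, -⟩ := exists_std hT hF (near_of_hall_perm hH)
    rcases hK with ⟨hn, hiff, -⟩ | ⟨hn, hiff, -⟩ | ⟨hn, hiff, -⟩
    · exact Or.inl ⟨hn, hiff⟩
    · exact Or.inr ⟨Or.inl hn, hiff⟩
    · exact Or.inr ⟨Or.inr hn, hiff⟩
  · have h5 := hT.five_le hF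
    obtain ⟨A, -, hA⟩ := Finset.exists_subset_card_eq (s := (Finset.univ : Finset (Fin n))) (n := 4)
      (by rw [Finset.card_univ, Fintype.card_fin]; omega)
    rintro (⟨hn, hiff⟩ | ⟨hn | hn, hiff⟩)
    · exact ⟨MulAction.stabilizer _ (⟨0, by omega⟩ : Fin n),
        IsStd.hall (Or.inl ⟨hn, hiff, _, rfl⟩)⟩
    · exact ⟨setStab A, IsStd.hall (Or.inr (Or.inl ⟨hn, hiff, A, hA, rfl⟩))⟩
    · exact ⟨pairStab A, IsStd.hall (Or.inr (Or.inr ⟨hn, hiff, A, hA, rfl⟩))⟩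

end Cfsg.Agent.S2536
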