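import Cfsg.Statements.S2537
import Cfsg.Agent.S0802
import Cfsg.Agent.S0803
import Cfsg.Agent.Lib.DicksonPSL
import Cfsg.Agent.Lib.DicksonTorus
import Cfsg.Agent.Lib.PSLCard

set_option autoImplicit false
open Cfsg

namespace Cfsg.Agent.S2537

open Matrix

theorem factorization_eq_zero_of_coprime {r q : ℕ} (h : ¬ r ∣ q) : q.factorization r = 0 :=
  Nat.factorization_eq_zero_of_not_dvd h

/-- The `{2,3}`-arithmetic of `|PSL(2,q)|`. -/
theorem arith {q E O N : ℕ} (h2 : ¬ 2 ∣ q) (h3 : ¬ 3 ∣ q) (hq : 1 < q)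
    (hEO : (E = q - 1 ∧ O = q + 1 ∧ q % 4 = 1) ∨ (E = q + 1 ∧ O = q - 1 ∧ q % 4 = 3)) (hN : N = q * (q ^ 2 - 1) / 2) :
    N.factorization 2 = E.factorization 2 ∧ (q ^ 2 - 1).factorization 2 = E.factorization 2 + 1 ∧
      N.factorization 3 = (q ^ 2 - 1).factorization 3 ∧
      (q ^ 2 - 1).factorization 3 = E.factorization 3 + O.factorization 3 := by
  obtain ⟨m, hm⟩ : ∃ m, O = 2 * m ∧ ¬ 2 ∣ m := ⟨O / 2, by omega, by omega⟩
  have hE : 0 < E := by omega
  have hO : 0 < O := by omega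
  have hprod : q ^ 2 - 1 = E * O := by
    rw [show q ^ 2 - 1 = (q + 1) * (q - 1) by simpa using Nat.sq_sub_sq q 1]
    rcases hEO with ⟨rfl, rfl, -⟩ | ⟨rfl, rfl, -⟩
    · exact mul_comm _ _
    · rfl
  have hN' : N = q * (E * m) := by
    rw [hN, hprod, hm.1, show q * (E * (2 * m)) = 2 * (q * (E * m)) by ring, Nat.mul_div_cancel_left _ two_pos]
  have hm0 : m ≠ 0 := by omega
  have hO2 : O.factorization 2 = 1 := by
    rw [hm.1, Nat.factorization_mul two_ne_zero hm0, Finsupp.add_apply, Nat.Prime.factorization_self Nat.prime_two,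
      Nat.factorization_eq_zero_of_not_dvd hm.2]
  have hO3 : O.factorization 3 = m.factorization 3 := by
    rw [hm.1, Nat.factorization_mul two_ne_zero hm0, Finsupp.add_apply,
      Nat.factorization_eq_zero_of_not_dvd (show ¬ 3 ∣ 2 by norm_num), zero_add]
  have hf : ∀ r, (q ^ 2 - 1).factorization r = E.factorization r + O.factorization r := fun r => by
    rw [hprod, Nat.factorization_mul hE.ne' hO.ne', Finsupp.add_apply]
  have hfN : ∀ r, N.factorization r = q.factorization r + (E.factorization r + m.factorization r) := fun r => by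
    rw [hN', Nat.factorization_mul (by omega) (mul_ne_zero hE.ne' hm0), Finsupp.add_apply,
      Nat.factorization_mul hE.ne' hm0, Finsupp.add_apply]
  refine ⟨?_, ?_, ?_, hf 3⟩
  · rw [hfN, Nat.factorization_eq_zero_of_not_dvd h2, Nat.factorization_eq_zero_of_not_dvd hm.2]; omega
  · rw [hf, hO2]
  · rw [hfN, hf, hO3, Nat.factorization_eq_zero_of_not_dvd h3, zero_add]

theorem hall_iff {G : Type*} [Group G] [Finite G] (H : Subgroup G) :
    Cfsg.IsPiHall ({2, 3} : Set ℕ) H ↔
      Nat.card H = 2 ^ (Nat.card G).factorization 2 * 3 ^ (Nat.card G).factorization 3 := by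
  have hm := H.card_mul_index
  have hH0 : Nat.card H ≠ 0 := Nat.card_pos.ne'
  have hI0 : H.index ≠ 0 := H.index_ne_zero_of_finite
  have hsum : ∀ r, (Nat.card G).factorization r = (Nat.card H).factorization r + H.index.factorization r := fun r => by
    rw [← hm, Nat.factorization_mul hH0 hI0, Finsupp.add_apply]
  have hM : 2 ^ (Nat.card G).factorization 2 * 3 ^ (Nat.card G).factorization 3 ≠ 0 := by positivity
  have hMf : ∀ r, (2 ^ (Nat.card G).factorization 2 * 3 ^ (Nat.card G).factorization 3).factorization r =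
      (if r = 2 then (Nat.card G).factorization 2 else 0) + (if r = 3 then (Nat.card G).factorization 3 else 0) := fun r => by
    rw [Nat.factorization_mul (by positivity) (by positivity), Finsupp.add_apply, Nat.Prime.factorization_pow Nat.prime_two,
      Nat.Prime.factorization_pow Nat.prime_three, Finsupp.single_apply, Finsupp.single_apply]
    simp only [eq_comm]
  constructor
  · rintro ⟨h1, h2⟩
    refine Nat.eq_of_factorization_eq hH0 hM fun r => ?_
    rw [hMf]
    by_cases hr : r = 2 ∨ r = 3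
    · have hz : H.index.factorization r = 0 :=
        Nat.factorization_eq_zero_of_not_dvd (h2 r (by rcases hr with rfl | rfl <;> norm_num) (by simpa using hr))
      have := hsum r
      rcases hr with rfl | rfl <;> simp <;> omega
    · push Not at hr
      rw [if_neg hr.1, if_neg hr.2]
      by_contra hne
      have hpr : r ∈ (Nat.card H).primeFactors := by rw [← Nat.support_factorization]; exact Finsupp.mem_support_iff.2 hne
      rw [Nat.mem_primeFactors] at hpr
      exact (by simpa [hr.1, hr.2] using h1 r hpr.1 hpr.2.1 : False)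
  · intro h
    refine ⟨fun r hr hd => ?_, fun r hr hmem hd => ?_⟩
    · rw [h] at hd
      rcases hr.dvd_mul.1 hd with h' | h'
      · exact Or.inl ((Nat.prime_dvd_prime_iff_eq hr Nat.prime_two).1 (hr.dvd_of_dvd_pow h'))
      · exact Or.inr ((Nat.prime_dvd_prime_iff_eq hr Nat.prime_three).1 (hr.dvd_of_dvd_pow h'))
    · have hpos := hr.factorization_pos_of_dvd hI0 hd
      have := hsum r
      rw [h, hMf] at this
      rcases hmem with rfl | rfl <;> simp at this <;> omega

theorem three_dvd_other {q E O : ℕ} (h3 : ¬ 3 ∣ q) (h3E : ¬ 3 ∣ E) (h1 : 1 < q)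
    (hEO : (E = q - 1 ∧ O = q + 1 ∧ q % 4 = 1) ∨ (E = q + 1 ∧ O = q - 1 ∧ q % 4 = 3)) : 3 ∣ O := by
  rcases hEO with ⟨hE, hO, -⟩ | ⟨hE, hO, -⟩ <;> omega

/-- Let `F` be a finite field with `q` elements of characteristic `p ≥ 5`, and `ε = 1` if `q ≡ 1 (mod 4)`, `ε = -1` otherwise. Then `PSL(2, F)` has a Hall `{2, 3}`-subgroup if and only if `3` divides `q − ε`, or the `{2,3}`-part of `q² − 1` is 24, or the `{2,3}`-part of `q² − 1` is 48 (the `{2,3}`-part of `m` being the largest divisor of `m` with no prime factor other than 2 and 3). -/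
theorem result {F : Type*} [Field F] [Fintype F] {p : ℕ} [Fact p.Prime] [CharP F p]
    (hp : 5 ≤ p) (q : ℕ) (hq : Fintype.card F = q) :
    (∃ H : Subgroup (Matrix.ProjectiveSpecialLinearGroup (Fin 2) F), Cfsg.IsPiHall ({2, 3} : Set ℕ) H) ↔
      (3 ∣ q - 1 ∧ q % 4 = 1) ∨ (3 ∣ q + 1 ∧ q % 4 = 3) ∨
        2 ^ (q ^ 2 - 1).factorization 2 * 3 ^ (q ^ 2 - 1).factorization 3 = 24 ∨
        2 ^ (q ^ 2 - 1).factorization 2 * 3 ^ (q ^ 2 - 1).factorization 3 = 48 := by
  classical
  have hqn : Nat.card F = q := Nat.card_eq_fintype_card.trans hq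
  have hp' : p.Prime := Fact.out
  obtain ⟨n, hn⟩ : ∃ n : ℕ, q = p ^ n := by
    obtain ⟨n, -, hn⟩ := FiniteField.card F p
    exact ⟨n, hq ▸ hn⟩
  have hq1 : 1 < q := hqn ▸ Cfsg.Agent.PSLCard.one_lt_card F
  have hndvd : ∀ r, r.Prime → r < 5 → ¬ r ∣ q := fun r hr h5 hd => by
    rw [hn] at hd
    have := (Nat.prime_dvd_prime_iff_eq hr hp').1 (hr.dvd_of_dvd_pow hd)
    omega
  have h2 := hndvd 2 Nat.prime_two (by norm_num)
  have h3 := hndvd 3 Nat.prime_three (by norm_num)
  obtain ⟨E, O, hEO⟩ : ∃ E O, (E = q - 1 ∧ O = q + 1 ∧ q % 4 = 1) ∨ (E = q + 1 ∧ O = q - 1 ∧ q % 4 = 3) := by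
    rcases (show q % 4 = 1 ∨ q % 4 = 3 by omega) with h | h
    · exact ⟨q - 1, q + 1, Or.inl ⟨rfl, rfl, h⟩⟩
    · exact ⟨q + 1, q - 1, Or.inr ⟨rfl, rfl, h⟩⟩
  have hodd : Odd (Nat.card F) := by rw [hqn, Nat.odd_iff]; omega
  have hcard := Cfsg.Agent.PSLCard.card_PSL2_odd (F := F) hodd
  rw [hqn] at hcard
  obtain ⟨hN2, hA2, hN3, hA3⟩ := arith h2 h3 hq1 hEO hcard
  set M := 2 ^ (Nat.card (Matrix.ProjectiveSpecialLinearGroup (Fin 2) F)).factorization 2 *
    3 ^ (Nat.card (Matrix.ProjectiveSpecialLinearGroup (Fin 2) F)).factorization 3 with hMdef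
  have hM0 : M ≠ 0 := by positivity
  have hcond : ((3 ∣ q - 1 ∧ q % 4 = 1) ∨ (3 ∣ q + 1 ∧ q % 4 = 3)) ↔ 3 ∣ E := by
    rcases hEO with ⟨rfl, -, h⟩ | ⟨rfl, -, h⟩ <;> simp [h]
  have hpart : 2 ^ (q ^ 2 - 1).factorization 2 * 3 ^ (q ^ 2 - 1).factorization 3 = 2 * M := by
    rw [hMdef, hN2, hA2, hN3, pow_succ]; ring
  have hR : ((3 ∣ q - 1 ∧ q % 4 = 1) ∨ (3 ∣ q + 1 ∧ q % 4 = 3) ∨ 2 ^ (q ^ 2 - 1).factorization 2 * 3 ^ (q ^ 2 - 1).factorization 3 = 24 ∨
      2 ^ (q ^ 2 - 1).factorization 2 * 3 ^ (q ^ 2 - 1).factorization 3 = 48) ↔ (3 ∣ E ∨ M = 12 ∨ M = 24) := by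
    rw [← or_assoc, hcond, hpart]; omega
  rw [hR]
  have hE0 : 0 < E := by omega
  have hdd : Cfsg.Agent.DicksonPSL.dd F = 2 := by
    show Nat.gcd 2 (Nat.card F - 1) = 2
    rw [hqn]; exact Nat.gcd_eq_left (by omega)
  constructor
  · rintro ⟨H, hH⟩
    rw [hall_iff, ← hMdef] at hH
    have hpM : ∀ r, r.Prime → 5 ≤ r → ¬ r ∣ Nat.card H := fun r hr hr5 hd => by
      rw [hH, hMdef] at hd
      rcases hr.dvd_mul.1 hd with h | h
      · have := (Nat.prime_dvd_prime_iff_eq hr Nat.prime_two).1 (hr.dvd_of_dvd_pow h); omega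
      · have := (Nat.prime_dvd_prime_iff_eq hr Nat.prime_three).1 (hr.dvd_of_dvd_pow h); omega
    have hv2 : M.factorization 2 = E.factorization 2 := by
      rw [hMdef, Nat.factorization_mul (by positivity) (by positivity), Finsupp.add_apply,
        Nat.Prime.factorization_pow Nat.prime_two, Nat.Prime.factorization_pow Nat.prime_three, hN2]
      simp
    have hv2E : 2 ≤ E.factorization 2 :=
      (Nat.prime_two.pow_dvd_iff_le_factorization hE0.ne').1 (by omega)
    -- a divisor of `(q ± 1) / 2` with enough twos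
    have hbad : ∀ k, (k ∣ (q + 1) / 2 ∨ k ∣ (q - 1) / 2) → M ∣ k → False := by
      intro k hk hMk
      have h4 : 2 ^ E.factorization 2 ∣ k := hv2 ▸ (Nat.ordProj_dvd M 2).trans hMk
      have hbig : ¬ 2 ^ E.factorization 2 ∣ E / 2 := by
        intro hd
        have := (Nat.prime_two.pow_dvd_iff_le_factorization (by omega)).1 hd
        rw [Nat.factorization_div (by omega : 2 ∣ E), Finsupp.tsub_apply, Nat.Prime.factorization_self Nat.prime_two] at this
        omega
      have h4' : 4 ∣ k := (pow_dvd_pow 2 hv2E).trans h4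
      rcases hEO with ⟨hE, -, hm⟩ | ⟨hE, -, hm⟩ <;> rcases hk with hk | hk
      · have := h4'.trans hk; omega
      · exact hbig (hE ▸ h4.trans hk)
      · exact hbig (hE ▸ h4.trans hk)
      · have := h4'.trans hk; omega
    rcases Cfsg.Agent.DicksonPSL.dickson_psl_strong p H with ⟨-, -, hk⟩ | ⟨hd, -⟩ | ⟨k, hk2, -, hk, ⟨e⟩⟩ | ⟨-, ⟨e⟩⟩ | ⟨-, ⟨e⟩⟩ |
        ⟨-, ⟨e⟩⟩ | ⟨R, -, -, hR⟩
    · rw [hqn, hdd] at hk
      exact (hbad _ hk (hH ▸ dvd_rfl)).elim
    · exact absurd hd (hpM p hp' hp)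
    · rw [hqn, hdd] at hk
      rw [Nat.card_congr e.toEquiv, DihedralGroup.nat_card] at hH
      by_cases h3E : 3 ∣ E
      · exact Or.inl h3E
      exfalso
      have hkE : k ∣ E / 2 := by
        have h4M : 4 ∣ M := by
          have := (pow_dvd_pow 2 hv2E).trans (hv2 ▸ Nat.ordProj_dvd M 2)
          simpa using this
        have h2k : 2 ∣ k := by omega
        rcases hEO with ⟨hE, -, hm⟩ | ⟨hE, -, hm⟩ <;> rcases hk with hk | hk
        · have := h2k.trans hk; omega
        · rwa [hE]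
        · rwa [hE]
        · have := h2k.trans hk; omega
      -- no prime 3 in the order: the order is a power of two
      have h3k : ¬ 3 ∣ k := fun h => h3E ((h.trans hkE).trans (Nat.div_dvd_of_dvd (by omega)))
      have hM3 : ¬ 3 ∣ M := by
        rw [← hH]
        intro h
        exact h3k ((Nat.Coprime.dvd_of_dvd_mul_left (by norm_num) h))
      -- but three divides the order of the group
      apply hM3
      rw [hMdef, hN3]
      refine (dvd_pow_self 3 ?_).mul_left _
      rw [hA3]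
      have h3O : 3 ∣ O := three_dvd_other h3 h3E hq1 hEO
      have := Nat.prime_three.factorization_pos_of_dvd (by omega : O ≠ 0) h3O
      omega
    · rw [Nat.card_congr e.toEquiv, nat_card_alternatingGroup, Nat.card_fin] at hH
      exact Or.inr (Or.inl (hH.symm.trans rfl))
    · rw [Nat.card_congr e.toEquiv, Nat.card_perm, Nat.card_fin] at hH
      exact Or.inr (Or.inr (hH.symm.trans rfl))
    · rw [Nat.card_congr e.toEquiv, nat_card_alternatingGroup, Nat.card_fin] at hpM
      exact absurd (by decide) (hpM 5 (by norm_num) le_rfl)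
    · exfalso
      haveI : CharP R p := inferInstance
      have hpR : p ∣ Nat.card R := by
        obtain ⟨a, -, ha⟩ := FiniteField.card' R
        letI := Fintype.ofFinite R
        obtain ⟨b, -, hb⟩ := FiniteField.card R p
        rw [Nat.card_eq_fintype_card, hb]
        exact dvd_pow_self p b.ne_zero
      refine hpM p hp' hp ?_
      rcases hR with ⟨⟨e⟩⟩ | ⟨ho, ⟨e⟩⟩
      · rw [Nat.card_congr e.toEquiv, Cfsg.Agent.PSLCard.card_PGL2]
        exact hpR.mul_right _
      · rw [Nat.card_congr e.toEquiv, Cfsg.Agent.PSLCard.card_PSL2_odd ho, Nat.mul_div_assoc]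
        · exact hpR.mul_right _
        · have : Nat.card R % 2 = 1 := Nat.odd_iff.1 ho
          have : Nat.card R ^ 2 % 2 = 1 := by rw [Nat.pow_mod, this]
          omega
  · intro h
    by_cases h3E : 3 ∣ E
    · have hv3O : O.factorization 3 = 0 := by
        refine Nat.factorization_eq_zero_of_not_dvd ?_
        rcases hEO with ⟨hE, hO, -⟩ | ⟨hE, hO, -⟩ <;> omega
      have hME : M ∣ E := by
        rw [hMdef, hN2, hN3, hA3, hv3O, add_zero]
        exact Nat.Coprime.mul_dvd_of_dvd_of_dvd (Nat.Coprime.pow _ _ (by norm_num)) (Nat.ordProj_dvd E 2) (Nat.ordProj_dvd E 3)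
      have h2M : 2 ∣ M := by
        rw [hMdef, hN2]
        refine (dvd_pow_self 2 ?_).mul_right _
        exact (Nat.prime_two.factorization_pos_of_dvd hE0.ne' (by omega)).ne'
      obtain ⟨g, x, hg, hgx, hx, hxg⟩ := Cfsg.Agent.DicksonTorus.exists_torus (F := F) p (N := E)
        (by rw [hqn]; omega) (by omega)
      rw [hdd] at hg
      obtain ⟨k, hk⟩ := h2M
      obtain ⟨c, hc⟩ := hME
      have hE2 : E / 2 = k * c := by rw [hc, hk, mul_assoc, Nat.mul_div_cancel_left _ two_pos]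
      have hc0 : c ≠ 0 := by rintro rfl; omega
      have hk0 : 0 < k := by rcases Nat.eq_zero_or_pos k with rfl | h' <;> omega
      have hgk : orderOf (g ^ c) = k := by
        rw [orderOf_pow' _ hc0, hg, hE2, Nat.gcd_mul_left_left, Nat.mul_div_cancel _ (Nat.pos_of_ne_zero hc0)]
      obtain ⟨D, -, -, hD, -⟩ := Cfsg.Agent.DicksonTorus.exists_dihedral_sub hgk hk0
        (by rw [← conj_pow, hgx, inv_pow]) hx (fun hm => hxg (Subgroup.zpowers_le.2 (Subgroup.pow_mem _ (Subgroup.mem_zpowers g) c) hm))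
      exact ⟨D, by rw [hall_iff, ← hMdef, hD, hk]⟩
    · rcases (h.resolve_left h3E) with h12 | h24
      · obtain ⟨H, ⟨e⟩⟩ := (Cfsg.Agent.S0802.result (F := F) p n (hq.trans hn)).2 (fun h' => by omega)
        refine ⟨H, ?_⟩
        rw [hall_iff, ← hMdef, h12, Nat.card_congr e.toEquiv, nat_card_alternatingGroup, Nat.card_fin]
        rfl
      · have h16 : q ^ 2 % 16 = 1 := by
          have h48 : 2 ^ (q ^ 2 - 1).factorization 2 * 3 ^ (q ^ 2 - 1).factorization 3 = 48 := by rw [hpart, h24]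
          have hne : q ^ 2 - 1 ≠ 0 := by
            have : 2 ^ 2 ≤ q ^ 2 := Nat.pow_le_pow_left hq1 2
            omega
          have hdvd : 16 ∣ q ^ 2 - 1 := by
            refine Dvd.dvd.trans ?_ (Nat.ordProj_dvd (q ^ 2 - 1) 2)
            have h16' : 16 ∣ 2 ^ (q ^ 2 - 1).factorization 2 * 3 ^ (q ^ 2 - 1).factorization 3 := by rw [h48]; norm_num
            exact Nat.Coprime.dvd_of_dvd_mul_right (Nat.Coprime.pow_right _ (by norm_num)) h16'
          omega
        obtain ⟨H, ⟨e⟩⟩ := (Cfsg.Agent.S0803.result (F := F) hq).2 h16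
        refine ⟨H, ?_⟩
        rw [hall_iff, ← hMdef, h24, Nat.card_congr e.toEquiv, Nat.card_perm, Nat.card_fin]
        rfl

end Cfsg.Agent.S2537
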