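import Cfsg.Statements.S2540
import Cfsg.Agent.Lib.PSLSimple

set_option autoImplicit false
open Cfsg

namespace Cfsg.Agent.S2540

open scoped commutatorElement

/-- Let F be a finite field and n ≥ 1, excluding the case n = 2 with #F ≤ 3. A subgroup of GL_n(F) that is normalized by every element of SL_n(F) either consists of scalar matrices or contains SL_n(F). -/
theorem result {F : Type*} [Field F] [Fintype F] (n : ℕ) (hn : 1 ≤ n) (hex : ¬ (n = 2 ∧ Fintype.card F ≤ 3)) (G : Subgroup (Matrix.GeneralLinearGroup (Fin n) F)) (hG : ∀ s : Matrix.SpecialLinearGroup (Fin n) F, ∀ g ∈ G, (Matrix.SpecialLinearGroup.toGL s) * g * (Matrix.SpecialLinearGroup.toGL s)⁻¹ ∈ G) : (∀ g ∈ G, ∃ c : F, (g : Matrix (Fin n) (Fin n) F) = c • (1 : Matrix (Fin n) (Fin n) F)) ∨ (Matrix.SpecialLinearGroup.toGL : Matrix.SpecialLinearGroup (Fin n) F →* _).range ≤ G := by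
  classical
  rcases eq_or_lt_of_le hn with rfl | hn2
  · left
    intro g _
    refine ⟨(g : Matrix (Fin 1) (Fin 1) F) 0 0, ?_⟩
    ext i j
    fin_cases i; fin_cases j
    simp
  have h2 : n = 2 → 4 ≤ Nat.card F := by
    intro h
    rw [Nat.card_eq_fintype_card]
    by_contra h'
    exact hex ⟨h, by omega⟩
  have hperf : commutator (Matrix.SpecialLinearGroup (Fin n) F) = ⊤ := by
    refine Cfsg.Agent.PSLSimple.commutator_SL_fin_eq_top hn2 fun h => ?_
    exact Cfsg.Agent.PSLSimple.exists_sq_ne_one (h2 h)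
  haveI := Cfsg.Agent.PSLSimple.isSimpleGroup_PSL_fin' (F := F) hn2 h2
  let N : Subgroup (Matrix.SpecialLinearGroup (Fin n) F) := G.comap Matrix.SpecialLinearGroup.toGL
  haveI hN : N.Normal := ⟨fun a ha s => by
    show Matrix.SpecialLinearGroup.toGL (s * a * s⁻¹) ∈ G
    rw [map_mul, map_mul, map_inv]
    exact hG s _ ha⟩
  let Z := Subgroup.center (Matrix.SpecialLinearGroup (Fin n) F)
  haveI hmap : (N.map (QuotientGroup.mk' Z)).Normal := hN.map _ (QuotientGroup.mk'_surjective _)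
  rcases (hmap.eq_bot_or_eq_top) with hb | ht
  · left
    have hNZ : N ≤ Z := by
      rwa [Subgroup.map_eq_bot_iff, QuotientGroup.ker_mk'] at hb
    intro g hg
    let L := Matrix.SpecialLinearGroup (Fin n) F
    have hc : ∀ s : L, ∃ z ∈ Z, Matrix.SpecialLinearGroup.toGL s * g * (Matrix.SpecialLinearGroup.toGL s)⁻¹ * g⁻¹ = Matrix.SpecialLinearGroup.toGL z := by
      intro s
      have hdet : ((Matrix.SpecialLinearGroup.toGL s * g * (Matrix.SpecialLinearGroup.toGL s)⁻¹ * g⁻¹ : GL (Fin n) F) : Matrix (Fin n) (Fin n) F).det = 1 := by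
        rw [← Matrix.GeneralLinearGroup.val_det_apply]
        simp only [map_mul, map_inv]
        rw [mul_inv_cancel_comm, mul_inv_cancel, Units.val_one]
      refine ⟨⟨_, hdet⟩, hNZ ?_, Units.ext rfl⟩
      show Matrix.SpecialLinearGroup.toGL (⟨_, hdet⟩ : L) ∈ G
      rw [show Matrix.SpecialLinearGroup.toGL (⟨_, hdet⟩ : L) = Matrix.SpecialLinearGroup.toGL s * g * (Matrix.SpecialLinearGroup.toGL s)⁻¹ * g⁻¹ from Units.ext rfl]
      exact G.mul_mem (hG s g hg) (G.inv_mem hg)
    choose z hz hzeq using hc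
    have hinj := Matrix.SpecialLinearGroup.toGL_injective (n := Fin n) (R := F)
    have hzhom : ∀ s r : L, z (s * r) = z r * z s := by
      intro s r
      apply hinj
      rw [map_mul, ← hzeq, map_mul]
      have hcen : Matrix.SpecialLinearGroup.toGL s * Matrix.SpecialLinearGroup.toGL (z r)
          = Matrix.SpecialLinearGroup.toGL (z r) * Matrix.SpecialLinearGroup.toGL s := by
        rw [← map_mul, ← map_mul, Subgroup.mem_center_iff.1 (hz r) s]
      calc Matrix.SpecialLinearGroup.toGL s * Matrix.SpecialLinearGroup.toGL r * g * (Matrix.SpecialLinearGroup.toGL s * Matrix.SpecialLinearGroup.toGL r)⁻¹ * g⁻¹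
          = Matrix.SpecialLinearGroup.toGL s * (Matrix.SpecialLinearGroup.toGL r * g * (Matrix.SpecialLinearGroup.toGL r)⁻¹ * g⁻¹) * g * (Matrix.SpecialLinearGroup.toGL s)⁻¹ * g⁻¹ := by group
        _ = _ := by
          rw [hzeq, hcen, ← hzeq s]
          group
    let ψ : L →* Z := MonoidHom.mk' (fun s => ⟨z s, hz s⟩) fun s r => Subtype.ext (by
      show z (s * r) = z s * z r
      rw [hzhom, Subgroup.mem_center_iff.1 (hz s) (z r)])
    have hker : (⊤ : Subgroup L) ≤ ψ.ker := by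
      rw [← hperf, commutator_eq_closure, Subgroup.closure_le]
      rintro _ ⟨x, y, rfl⟩
      show ψ _ = 1
      rw [map_commutatorElement, commutatorElement_eq_one_iff_mul_comm]
      exact Subtype.ext ((Subgroup.mem_center_iff.1 (ψ x).2 _).symm)
    have hcomm : ∀ s : L, Commute (g : Matrix (Fin n) (Fin n) F) (s : Matrix (Fin n) (Fin n) F) := by
      intro s
      have h1 : z s = 1 := congrArg Subtype.val (hker (Subgroup.mem_top s))
      have h2 := hzeq s
      rw [h1, map_one, mul_inv_eq_one, mul_inv_eq_iff_eq_mul] at h2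
      exact (congrArg Units.val h2).symm
    obtain ⟨c, hc⟩ := Matrix.mem_range_scalar_of_commute_transvectionStruct (M := (g : Matrix (Fin n) (Fin n) F))
      (fun t => (hcomm ⟨t.toMatrix, t.det⟩).symm)
    exact ⟨c, by rw [← hc, Matrix.scalar_apply, Matrix.smul_one_eq_diagonal]⟩
  · right
    rintro _ ⟨s, rfl⟩
    have htop : (⊤ : Subgroup (Matrix.SpecialLinearGroup (Fin n) F)) ≤ N := by
      rw [← hperf, commutator_eq_closure, Subgroup.closure_le]
      rintro _ ⟨x, y, rfl⟩
      obtain ⟨a, ha, hax⟩ : (QuotientGroup.mk' Z) x ∈ N.map (QuotientGroup.mk' Z) := ht ▸ Subgroup.mem_top _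
      obtain ⟨b, hb, hby⟩ : (QuotientGroup.mk' Z) y ∈ N.map (QuotientGroup.mk' Z) := ht ▸ Subgroup.mem_top _
      have hza : a⁻¹ * x ∈ Z := QuotientGroup.eq.1 hax
      have hzb : b⁻¹ * y ∈ Z := QuotientGroup.eq.1 hby
      obtain ⟨za, hza', rfl⟩ : ∃ za ∈ Z, x = a * za := ⟨_, hza, (mul_inv_cancel_left a x).symm⟩
      obtain ⟨zb, hzb', rfl⟩ : ∃ zb ∈ Z, y = b * zb := ⟨_, hzb, (mul_inv_cancel_left b y).symm⟩
      have e1 : ∀ w, za * w = w * za := fun w => (Subgroup.mem_center_iff.1 hza' w).symm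
      have e2 : ∀ w, zb * w = w * zb := fun w => (Subgroup.mem_center_iff.1 hzb' w).symm
      have : ⁅a * za, b * zb⁆ = ⁅a, b⁆ := by
        simp only [commutatorElement_def, mul_inv_rev]
        calc a * za * (b * zb) * (za⁻¹ * a⁻¹) * (zb⁻¹ * b⁻¹) = a * (za * (b * zb)) * za⁻¹ * (a⁻¹ * (zb⁻¹ * b⁻¹)) := by group
          _ = a * b * (zb * a⁻¹) * zb⁻¹ * b⁻¹ := by rw [e1]; group
          _ = _ := by rw [e2]; group
      rw [this]
      show ⁅a, b⁆ ∈ N
      rw [commutatorElement_def]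
      exact N.mul_mem (N.mul_mem (N.mul_mem ha hb) (N.inv_mem ha)) (N.inv_mem hb)
    exact htop (Subgroup.mem_top s)

end Cfsg.Agent.S2540
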