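import Cfsg.Statements.S2541

set_option autoImplicit false
open Cfsg

namespace Cfsg.Agent.S2541

/-- Let F be a field with 9 elements. The symmetric group S_6 is not isomorphic to PGL_2(F) (although both have index-2 subgroups isomorphic to A_6). -/
theorem result {F : Type*} [Field F] [Fintype F] (hF : Fintype.card F = 9) : ¬ Nonempty (Equiv.Perm (Fin 6) ≃* Matrix.ProjGenLinGroup (Fin 2) F) := by
  classical
  rintro ⟨e⟩
  obtain ⟨ω, hω⟩ := IsCyclic.exists_ofOrder_eq_natCard (α := Fˣ)
  have hω8 : orderOf ω = 8 := by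
    rw [hω, Nat.card_eq_fintype_card, Fintype.card_units, hF]
  let D : (Fin 2 → Fˣ) →* GL (Fin 2) F :=
    (Units.map (Matrix.diagonalRingHom (Fin 2) F).toMonoidHom).comp MulEquiv.piUnits.symm.toMonoidHom
  have hDval : ∀ a : Fin 2 → Fˣ, (D a : Matrix (Fin 2) (Fin 2) F) = Matrix.diagonal (fun i => (a i : F)) :=
    fun a => rfl
  have hnc : ∀ c : Fˣ, c ≠ 1 → D ![c, 1] ∉ Subgroup.center (GL (Fin 2) F) := by
    intro c hc hmem
    rw [Subgroup.mem_center_iff] at hmem
    have hu : IsUnit (!![(1 : F), 1; 0, 1]).det := by simp [Matrix.det_fin_two]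
    have h := congrArg (fun M : GL (Fin 2) F => (M : Matrix (Fin 2) (Fin 2) F) 0 1)
      (hmem (Matrix.GeneralLinearGroup.mkOfDetNeZero !![(1 : F), 1; 0, 1] hu.ne_zero))
    simp [hDval, Matrix.GeneralLinearGroup.mkOfDetNeZero] at h
    exact hc (Units.ext h.symm)
  let x : Matrix.ProjGenLinGroup (Fin 2) F := QuotientGroup.mk (D ![ω, 1])
  have hpow : ∀ k : ℕ, x ^ k = QuotientGroup.mk (D ![ω ^ k, 1]) := by
    intro k
    have : (![ω, 1] : Fin 2 → Fˣ) ^ k = ![ω ^ k, 1] := by
      funext i; fin_cases i <;> simp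
    rw [← this, map_pow]
    rfl
  have hx : orderOf x = 8 := by
    haveI : Fact (Nat.Prime 2) := ⟨Nat.prime_two⟩
    have h := orderOf_eq_prime_pow (x := x) (p := 2) (n := 2) ?_ ?_
    · exact h
    · rw [hpow]
      intro h
      refine hnc (ω ^ (2 ^ 2)) ?_ ((QuotientGroup.eq_one_iff _).1 h)
      intro h4
      have := orderOf_dvd_of_pow_eq_one h4
      rw [hω8] at this
      norm_num at this
    · rw [hpow]
      have : ω ^ 2 ^ (2 + 1) = 1 := by
        have := pow_orderOf_eq_one ω
        rwa [hω8] at this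
      rw [this]
      have h1 : (![1, 1] : Fin 2 → Fˣ) = 1 := by funext i; fin_cases i <;> simp
      rw [h1, map_one]
      rfl
  have hσ : orderOf (e.symm x) = 8 := by rw [MulEquiv.orderOf_eq, hx]
  rw [← Equiv.Perm.lcm_cycleType] at hσ
  have h60 : (e.symm x).cycleType.lcm ∣ 60 := by
    refine Multiset.lcm_dvd.2 fun c hc => ?_
    have h1 : c ≤ 6 := (Multiset.le_sum_of_mem hc).trans (by
      rw [Equiv.Perm.sum_cycleType]; exact (Finset.card_le_univ _).trans (by simp))
    have h2 := Equiv.Perm.two_le_of_mem_cycleType hc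
    interval_cases c <;> norm_num
  rw [hσ] at h60
  norm_num at h60

end Cfsg.Agent.S2541
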