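import Cfsg.Statements.S2542
import Cfsg.Agent.Lib.PSL211A5

set_option autoImplicit false
open Cfsg

namespace Cfsg.Agent.S2542

open Cfsg.Agent.PSL211A5

/-- Let F be a field with 11 elements. PSL_2(F) has a subgroup H of index 11 isomorphic to the alternating group A_5, and the action of PSL_2(F) on the cosets of H is 2-transitive (of degree 11). -/
theorem result {F : Type*} [Field F] [Fintype F] (hF : Fintype.card F = 11) : ∃ H : Subgroup (Matrix.ProjectiveSpecialLinearGroup (Fin 2) F), H.index = 11 ∧ Nonempty (H ≃* alternatingGroup (Fin 5)) ∧ MulAction.IsMultiplyPretransitive (Matrix.ProjectiveSpecialLinearGroup (Fin 2) F) ((Matrix.ProjectiveSpecialLinearGroup (Fin 2) F) ⧸ H) 2 := by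
  have hc : Nat.card (ZMod 11) = Nat.card F := by rw [Nat.card_zmod, Nat.card_eq_fintype_card, hF]
  let e := Cfsg.Agent.PSLCard.pslEquivOfCard (ι := Fin 2) hc
  refine ⟨H0.map e.toMonoidHom, ?_, ?_, ?_⟩
  · exact (Subgroup.index_map_equiv H0 e).trans (index_of_iso H0_iso)
  · exact ⟨(e.subgroupMap H0).symm.trans H0_iso.some⟩
  · have hmem : ∀ x, e x ∈ H0.map e.toMonoidHom ↔ x ∈ H0 := fun x =>
      Subgroup.mem_map_iff_mem e.injective
    refine isMultiplyPretransitive_two (w := e (pr (up 1))) ?_ ?_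
    · rw [hmem]; exact H0_up 1 one_ne_zero
    · intro x hx
      obtain ⟨y, rfl⟩ := e.surjective x
      rw [hmem] at hx
      obtain ⟨h, hh, hh2⟩ := H0_double y hx
      refine ⟨e h, (hmem h).2 hh, ?_⟩
      rw [← map_inv, ← map_mul, ← map_mul, hmem]
      exact hh2

end Cfsg.Agent.S2542
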