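import Cfsg.Statements.S2543
import Cfsg.Agent.Lib.PSL211A5

set_option autoImplicit false
open scoped Pointwise
open Cfsg

namespace Cfsg.Agent.S2543

open Cfsg.Agent.PSL211A5
open scoped Pointwise

set_option maxRecDepth 100000

/-- determinant of a code -/
def detc (x : ℕ) : ℕ := (ea x * ed x + nm (eb x) * ec x) % 11

theorem toV_lt (A : S11) : toV A < 14641 := by
  have h1 := ZMod.val_lt (A.1 0 0); have h2 := ZMod.val_lt (A.1 0 1)
  have h3 := ZMod.val_lt (A.1 1 0); have h4 := ZMod.val_lt (A.1 1 1)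
  unfold toV code
  omega

theorem toV_cases (A : S11) : ∃ a ∈ List.range 11, ∃ b ∈ List.range 11, ∃ c ∈ List.range 11,
    ∃ d ∈ List.range 11, toV A = code a b c d :=
  ⟨_, val_mem_range _, _, val_mem_range _, _, val_mem_range _, _, val_mem_range _, rfl⟩

theorem detc_toV (A : S11) : detc (toV A) = 1 := by
  obtain ⟨a1, a2, a3, a4⟩ := decode_toV A
  rw [detc, a1, a2, a3, a4, ← val_neg']
  have h := A.2
  rw [Matrix.det_fin_two, sub_eq_add_neg, ← neg_mul] at h
  have h' := congrArg ZMod.val h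
  rw [ZMod.val_add, ZMod.val_mul, ZMod.val_mul, ← Nat.add_mod] at h'
  exact h'.trans (ZMod.val_one 11)

theorem exists_code {a b c d : ℕ} (ha : a < 11) (hb : b < 11) (hc : c < 11) (hd : d < 11)
    (h : detc (code a b c d) = 1) : ∃ A : S11, toV A = code a b c d := by
  obtain ⟨e1, e2, e3, e4⟩ := decode (a := a) hb hc hd
  rw [detc, e1, e2, e3, e4] at h
  have hdet : (!![(a : R), b; c, d] : Matrix (Fin 2) (Fin 2) R).det = 1 := by
    have h' : ((a * d + nm b * c : ℕ) : R) = ((1 : ℕ) : R) := by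
      rw [← ZMod.natCast_mod, h]
    have hn : ((nm b : ℕ) : R) = -(b : R) := by
      rw [nm, ZMod.natCast_mod, Nat.cast_sub (by omega), show ((11 : ℕ) : R) = 0 from ZMod.natCast_self 11, zero_sub]
    push_cast [hn] at h'
    rw [Matrix.det_fin_two_of]
    linear_combination h'
  refine ⟨⟨_, hdet⟩, ?_⟩
  simp [toV, ZMod.val_natCast, Nat.mod_eq_of_lt, ha, hb, hc, hd]

theorem sq_cube_facts : ∀ a ∈ List.range 11, ∀ b ∈ List.range 11, ∀ c ∈ List.range 11, ∀ d ∈ List.range 11,
    detc (code a b c d) = 1 →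
      (mu (code a b c d) (code a b c d) = 1332 → code a b c d = 1332 ∨ code a b c d = 13320) ∧
      (mu (code a b c d) (code a b c d) = 13320 → d = nm a) ∧
      (mu (mu (code a b c d) (code a b c d)) (code a b c d) = 1332 → code a b c d = 1332 ∨ d = nm (a + 1)) := by
  decide +kernel

theorem RS_ok : ∀ g ∈ RS, g < 14641 ∧ detc g = 1 := by decide +kernel

theorem inv_conj : ∀ a ∈ List.range 11, ∀ b ∈ List.range 11, ∀ c ∈ List.range 11,
    detc (code a b c (nm a)) = 1 →
      ∃ g ∈ RS, mu g 1221 = mu (code a b c (nm a)) g ∨ mu g 1221 = ng (mu (code a b c (nm a)) g) := by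
  decide +kernel

theorem R3_ok : ∀ g ∈ [231, 4667, 4777], g < 14641 ∧ detc g = 1 ∧
    (mu g 1221 = mu 1221 g ∨ mu g 1221 = ng (mu 1221 g)) := by decide +kernel

theorem order_three_cases : ∀ a ∈ List.range 11, ∀ b ∈ List.range 11, ∀ c ∈ List.range 11,
    let x := code a b c (nm (a + 1))
    let m := mu (iv x) 1221
    detc x = 1 → (mu (mu (mu (mu m m) m) m) m = 1332 ∨ mu (mu (mu (mu m m) m) m) m = 13320) →
      ∃ g ∈ [231, 4667, 4777], InL (mu (mu g x) (iv g)) ∨ InL (dl (mu (mu g x) (iv g))) := by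
  decide +kernel

theorem S_mem : InL 1221 ∧ InL (dl 1221) ∧ detc 1221 = 1 := by decide +kernel

theorem cross_facts : ∀ k ∈ List.range 11, ∃ g ∈ [9540, 3997],
    ¬ InL (dl (mu (mu (1332 + 121 * k) g) (1332 + 121 * nm k))) := by
  decide +kernel

theorem exists_of_ok {x : ℕ} (h : x < 14641) (hd : detc x = 1) : ∃ A : S11, toV A = x := by
  have e : x = code (ea x) (eb x) (ec x) (ed x) := by unfold ea eb ec ed code; omega
  rw [e] at hd ⊢
  exact exists_code (by unfold ea; omega) (by unfold eb; omega) (by unfold ec; omega) (by unfold ed; omega) hd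

theorem pr_neg (A : S11) : pr (-A) = pr A := pr_eq_iff.2 (Or.inr (neg_neg A).symm)

theorem toV_pr_eq {A B : S11} (h : toV A = toV B ∨ toV A = ng (toV B)) : pr A = pr B := by
  rcases h with h | h
  · rw [toV_injective h]
  · rw [← toV_neg] at h; rw [toV_injective h, pr_neg]

/-- every icosahedral subgroup is conjugate to one of the two standard ones -/
theorem classify (L : Subgroup G11) (hL : Nonempty (L ≃* alternatingGroup (Fin 5))) :
    ∃ g : G11, MulAut.conj g • L = H0 ∨ MulAut.conj g • L = K0 := by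
  classical
  obtain ⟨e⟩ := hL
  haveI : Finite G11 := Nat.finite_of_card_ne_zero (by rw [card_G11]; norm_num)
  let f : alternatingGroup (Fin 5) →* G11 := L.subtype.comp e.symm.toMonoidHom
  have hf : Function.Injective f := L.subtype_injective.comp e.symm.injective
  have hrange : f.range = L := by
    ext y
    constructor
    · rintro ⟨u, rfl⟩; exact (e.symm u).2
    · intro hy; exact ⟨e ⟨y, hy⟩, congrArg Subtype.val (e.symm_apply_apply ⟨y, hy⟩)⟩
  set x := Cfsg.Agent.S3377.a5 0 with hx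
  set y := Cfsg.Agent.S3377.a5 1 with hy
  have hgen : L = Subgroup.closure {f (x * y), f x} := by
    apply le_antisymm
    · rw [← hrange, MonoidHom.range_eq_map, ← Cfsg.Agent.S3377.a5_closure, MonoidHom.map_closure,
        Subgroup.closure_le]
      rintro _ ⟨u, rfl | rfl, rfl⟩
      · exact Subgroup.subset_closure (by simp [hx])
      · rw [show f (Cfsg.Agent.S3377.a5 1) = (f x)⁻¹ * f (x * y) by rw [map_mul, inv_mul_cancel_left, hy]]
        exact Subgroup.mul_mem _ (Subgroup.inv_mem _ (Subgroup.subset_closure (by simp))) (Subgroup.subset_closure (by simp))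
    · rw [Subgroup.closure_le]
      rintro _ (rfl | rfl) <;> exact hrange ▸ ⟨_, rfl⟩
  have e1 : (x * y) ^ 2 = 1 ∧ x * y ≠ 1 ∧ x ^ 3 = 1 ∧ x ≠ 1 ∧ y ^ 5 = 1 := by
    rw [hx, hy]; decide +kernel
  obtain ⟨A, hA⟩ := QuotientGroup.mk'_surjective (Subgroup.center S11) (f (x * y))
  -- the involution lifts to a matrix of trace zero
  have hA2 : pr (A * A) = pr 1 := by
    rw [map_mul, map_one, hA, ← map_mul, ← pow_two, e1.1, map_one]
  obtain ⟨a, ha, b, hb, c, hc, d, hd, hAc⟩ := toV_cases A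
  have hAdet := detc_toV A
  rw [hAc] at hAdet
  have hd0 : d = nm a := by
    obtain ⟨f1, f2, -⟩ := sq_cube_facts a ha b hb c hc d hd hAdet
    rw [← hAc, ← toV_mul] at f1 f2
    rcases pr_eq_iff.1 hA2.symm with h | h
    · rw [h, toV_one] at f1
      exfalso
      apply e1.2.1
      apply hf
      rw [map_one, ← hA]
      exact pr_eq_one.2 (f1 rfl)
    · rw [h, toV_neg, toV_one] at f2
      exact f2 rfl
  subst hd0
  obtain ⟨g, hg, hgS⟩ := inv_conj a ha b hb c hc hAdet
  obtain ⟨Gm, rfl⟩ := exists_of_ok (RS_ok g hg).1 (RS_ok g hg).2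
  obtain ⟨Sm, hSm⟩ := exists_of_ok (x := 1221) (by norm_num) S_mem.2.2
  have hconjA : pr Gm * pr Sm = f (x * y) * pr Gm := by
    rw [← hA, ← map_mul, ← map_mul]
    apply toV_pr_eq
    rw [toV_mul, toV_mul, hSm, hAc]
    exact hgS
  -- the element of order three
  obtain ⟨B₀, hB₀⟩ := QuotientGroup.mk'_surjective (Subgroup.center S11) ((pr Gm)⁻¹ * f x * pr Gm)
  have hB03 : pr (B₀ * B₀ * B₀) = pr 1 := by
    rw [map_mul, map_mul, map_one, hB₀]
    calc _ = (pr Gm)⁻¹ * f (x ^ 3) * pr Gm := by rw [map_pow, pow_succ, pow_two]; group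
      _ = 1 := by rw [e1.2.2.1, map_one]; group
  obtain ⟨B, hB, hB3⟩ : ∃ B, pr B = (pr Gm)⁻¹ * f x * pr Gm ∧ B * B * B = 1 := by
    rcases pr_eq_iff.1 hB03.symm with h | h
    · exact ⟨B₀, hB₀, h⟩
    · exact ⟨-B₀, by rw [pr_neg, hB₀], by simp [h]⟩
  obtain ⟨a', ha', b', hb', c', hc', d', hd', hBc⟩ := toV_cases B
  have hBdet := detc_toV B
  rw [hBc] at hBdet
  have hd1 : d' = nm (a' + 1) := by
    obtain ⟨-, -, f3⟩ := sq_cube_facts a' ha' b' hb' c' hc' d' hd' hBdet
    rw [← hBc, ← toV_mul, ← toV_mul, hB3, toV_one] at f3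
    refine (f3 rfl).resolve_left fun h => e1.2.2.2.1 (hf ?_)
    have h1 : pr B = 1 := pr_eq_one.2 (Or.inl h)
    rw [hB] at h1
    rw [map_one]
    calc f x = pr Gm * ((pr Gm)⁻¹ * f x * pr Gm) * (pr Gm)⁻¹ := by group
      _ = 1 := by rw [h1]; group
  subst hd1
  have hm5 : pr ((B⁻¹ * Sm) * (B⁻¹ * Sm) * (B⁻¹ * Sm) * (B⁻¹ * Sm) * (B⁻¹ * Sm)) = 1 := by
    have hS : pr Sm = (pr Gm)⁻¹ * f (x * y) * pr Gm := by rw [mul_assoc, ← hconjA, inv_mul_cancel_left]
    simp only [map_mul, map_inv, hB, hS]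
    calc _ = (pr Gm)⁻¹ * (f x⁻¹ * f (x * y)) ^ 5 * pr Gm := by
            simp only [map_inv, map_mul, pow_succ, pow_zero, one_mul]; group
      _ = 1 := by rw [← map_mul, inv_mul_cancel_left, ← map_pow, e1.2.2.2.2, map_one]; group
  rw [pr_eq_one] at hm5
  simp only [toV_mul, toV_inv, hBc, hSm] at hm5
  obtain ⟨g3, hg3, hin⟩ := order_three_cases a' ha' b' hb' c' hc' hBdet hm5
  obtain ⟨hg31, hg32, hg33⟩ := R3_ok g3 hg3
  obtain ⟨G3, rfl⟩ := exists_of_ok hg31 hg32
  have hG3 : pr G3 * pr Sm = pr Sm * pr G3 := by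
    rw [← map_mul, ← map_mul]
    apply toV_pr_eq
    rw [toV_mul, toV_mul, hSm]
    exact hg33
  refine ⟨pr G3 * (pr Gm)⁻¹, ?_⟩
  have hle : ∀ M : Subgroup G11, pr Sm ∈ M → pr (G3 * B * G3⁻¹) ∈ M → Nonempty (M ≃* alternatingGroup (Fin 5)) →
      MulAut.conj (pr G3 * (pr Gm)⁻¹) • L = M := by
    intro M h1 h2 hM
    obtain ⟨eM⟩ := hM
    refine Subgroup.eq_of_le_of_card_ge ?_ ?_
    · rw [Subgroup.pointwise_smul_def]
      refine Subgroup.map_le_iff_le_comap.2 ?_
      rw [hgen, Subgroup.closure_le]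
      rintro _ (rfl | rfl)
      · show MulAut.conj (pr G3 * (pr Gm)⁻¹) (f (x * y)) ∈ M
        have : MulAut.conj (pr G3 * (pr Gm)⁻¹) (f (x * y)) = pr Sm := by
          rw [MulAut.conj_apply]
          calc _ = pr G3 * ((pr Gm)⁻¹ * (f (x * y) * pr Gm)) * (pr G3)⁻¹ := by group
            _ = _ := by rw [← hconjA, inv_mul_cancel_left, hG3, mul_inv_cancel_right]
        rwa [this]
      · show MulAut.conj (pr G3 * (pr Gm)⁻¹) (f x) ∈ M
        have : MulAut.conj (pr G3 * (pr Gm)⁻¹) (f x) = pr (G3 * B * G3⁻¹) := by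
          rw [MulAut.conj_apply, map_mul, map_mul, map_inv, hB]; group
        rwa [this]
    · rw [Nat.card_congr eM.toEquiv, Nat.card_congr (Subgroup.equivSMul (MulAut.conj (pr G3 * (pr Gm)⁻¹)) L).symm.toEquiv,
        Nat.card_congr e.toEquiv]
  rcases hin with h | h
  · exact Or.inl (hle H0 ((mem_H0 _).2 (hSm ▸ S_mem.1)) ((mem_H0 _).2 (by rwa [toV_mul, toV_mul, toV_inv, hBc])) H0_iso)
  · exact Or.inr (hle K0 ((mem_K0 _).2 (hSm ▸ S_mem.2.1)) ((mem_K0 _).2 (by rwa [toV_mul, toV_mul, toV_inv, hBc])) K0_iso)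

/-- conjugates by the transversal -/
def cu (k : R) : MulAut G11 := MulAut.conj (pr (up k))

theorem conj_eq_cu {M : Subgroup G11} (hM : M.index = 11) (hu : ∀ k : R, k ≠ 0 → pr (up k) ∉ M) (g : G11) :
    ∃ k : R, MulAut.conj g • M = cu k • M := by
  obtain ⟨k, hk⟩ := exists_up hM hu g
  refine ⟨k, ?_⟩
  have : g = pr (up k) * ((pr (up k))⁻¹ * g) := by group
  conv_lhs => rw [this, map_mul, mul_smul, Subgroup.conj_smul_eq_self_of_mem hk]
  rfl

theorem cu_add (k l : R) : cu (k + l) = cu k * cu l := by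
  rw [cu, cu, cu, up_add, map_mul, map_mul]

theorem cu_sub_eq {M N : Subgroup G11} {k l : R} (h : cu k • M = cu l • N) : cu (-l + k) • M = N := by
  rw [cu_add, mul_smul, h, ← mul_smul, ← cu_add, neg_add_cancel]
  simp [cu, show up 0 = 1 from toV_injective (by simp [toV_up, toV_one])]

theorem mem_cu {M : Subgroup G11} {W : S11} (k : R) (h : pr W ∈ M) :
    pr (up k * W * up (-k)) ∈ cu k • M := by
  have : pr (up k * W * up (-k)) = cu k • pr W := by
    rw [← up_inv, map_mul, map_mul, map_inv]; rfl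
  rw [this]
  exact Subgroup.smul_mem_pointwise_smul _ _ _ h

theorem H0_cu_ne (k : R) (hk : k ≠ 0) : cu k • H0 ≠ H0 := by
  intro h
  obtain ⟨g, hg, hn⟩ := up_conj_H _ (val_mem_range k) (val_ne_zero' hk)
  have hgL : InL g := by
    have : ∀ g ∈ [9540, 3997], InL g := by decide +kernel
    exact this g hg
  obtain ⟨u, rfl⟩ := exists_of_mem_L ((inL_iff _).1 hgL)
  have := mem_cu (M := H0) k ((mem_H0 (Cfsg.Agent.SL25Presentation.toSL11 u)).2 hgL)
  rw [h, mem_H0, toV_mul, toV_mul, toV_up, toV_up, val_neg'] at this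
  exact hn this

theorem K0_cu_ne (k : R) (hk : k ≠ 0) : cu k • K0 ≠ K0 := by
  intro h
  obtain ⟨g, hg, hn⟩ := up_conj_K _ (val_mem_range k) (val_ne_zero' hk)
  have hgL : InL g ∧ dl (dl g) = g := by
    have : ∀ g ∈ [9540, 3997], InL g ∧ dl (dl g) = g := by decide +kernel
    exact this g hg
  obtain ⟨u, rfl⟩ := exists_of_mem_L ((inL_iff _).1 hgL.1)
  have := mem_cu (M := K0) k (W := delta (Cfsg.Agent.SL25Presentation.toSL11 u))
    ((mem_K0 _).2 (by rw [toV_delta, hgL.2]; exact hgL.1))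
  rw [h, mem_K0, toV_mul, toV_mul, toV_up, toV_up, val_neg', toV_delta] at this
  exact hn this

theorem cross_ne (k : R) : cu k • H0 ≠ K0 := by
  intro h
  obtain ⟨g, hg, hn⟩ := cross_facts _ (val_mem_range k)
  have hgL : InL g := by
    have : ∀ g ∈ [9540, 3997], InL g := by decide +kernel
    exact this g hg
  obtain ⟨u, rfl⟩ := exists_of_mem_L ((inL_iff _).1 hgL)
  have := mem_cu (M := H0) k ((mem_H0 (Cfsg.Agent.SL25Presentation.toSL11 u)).2 hgL)
  rw [h, mem_K0, toV_mul, toV_mul, toV_up, toV_up, val_neg'] at this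
  exact hn this

theorem iso_smul {M : Subgroup G11} (h : Nonempty (M ≃* alternatingGroup (Fin 5))) (σ : MulAut G11) :
    Nonempty ((σ • M : Subgroup G11) ≃* alternatingGroup (Fin 5)) :=
  ⟨(Subgroup.equivSMul σ M).symm.trans h.some⟩

theorem card_icos : Nat.card {H : Subgroup G11 // Nonempty (H ≃* alternatingGroup (Fin 5))} = 22 := by
  let Φ : R ⊕ R → {H : Subgroup G11 // Nonempty (H ≃* alternatingGroup (Fin 5))} :=
    Sum.elim (fun k => ⟨cu k • H0, iso_smul H0_iso _⟩) (fun k => ⟨cu k • K0, iso_smul K0_iso _⟩)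
  have hinj : Function.Injective Φ := by
    rintro (k | k) (l | l) h <;> have h' := congrArg Subtype.val h <;> simp only [Φ, Sum.elim_inl, Sum.elim_inr] at h'
    · by_contra hne
      exact H0_cu_ne (-l + k) (fun h0 => hne (by rw [neg_add_eq_zero.1 h0])) (cu_sub_eq h')
    · exact absurd (cu_sub_eq h') (cross_ne _)
    · exact absurd (cu_sub_eq h'.symm) (cross_ne _)
    · by_contra hne
      exact K0_cu_ne (-l + k) (fun h0 => hne (by rw [neg_add_eq_zero.1 h0])) (cu_sub_eq h')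
  have hsurj : Function.Surjective Φ := by
    rintro ⟨L, hL⟩
    obtain ⟨g, hg⟩ := classify L hL
    have key : ∀ M, MulAut.conj g • L = M → L = MulAut.conj g⁻¹ • M := fun M h => by
      rw [← h, map_inv, inv_smul_smul]
    rcases hg with h | h
    · obtain ⟨k, hk⟩ := conj_eq_cu (index_of_iso H0_iso) H0_up g⁻¹
      exact ⟨Sum.inl k, Subtype.ext ((key _ h).trans hk).symm⟩
    · obtain ⟨k, hk⟩ := conj_eq_cu (index_of_iso K0_iso) K0_up g⁻¹
      exact ⟨Sum.inr k, Subtype.ext ((key _ h).trans hk).symm⟩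
  rw [← Nat.card_eq_of_bijective Φ ⟨hinj, hsurj⟩, Nat.card_sum, Nat.card_zmod]

/-- Let F be a field with 11 elements. PSL_2(F) has exactly 22 subgroups isomorphic to the alternating group A_5, and they form two conjugacy classes: there are two such subgroups that are not conjugate, and every such subgroup is conjugate to one of these two. -/
theorem result {F : Type*} [Field F] [Fintype F] (hF : Fintype.card F = 11) : Nat.card {H : Subgroup (Matrix.ProjectiveSpecialLinearGroup (Fin 2) F) // Nonempty (H ≃* alternatingGroup (Fin 5))} = 22 ∧ ∃ H K : Subgroup (Matrix.ProjectiveSpecialLinearGroup (Fin 2) F), Nonempty (H ≃* alternatingGroup (Fin 5)) ∧ Nonempty (K ≃* alternatingGroup (Fin 5)) ∧ (∀ g : Matrix.ProjectiveSpecialLinearGroup (Fin 2) F, MulAut.conj g • H ≠ K) ∧ ∀ L : Subgroup (Matrix.ProjectiveSpecialLinearGroup (Fin 2) F), Nonempty (L ≃* alternatingGroup (Fin 5)) → ∃ g : Matrix.ProjectiveSpecialLinearGroup (Fin 2) F, MulAut.conj g • L = H ∨ MulAut.conj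 g • L = K := by
  have hc : Nat.card (ZMod 11) = Nat.card F := by rw [Nat.card_zmod, Nat.card_eq_fintype_card, hF]
  let e := Cfsg.Agent.PSLCard.pslEquivOfCard (ι := Fin 2) hc
  have hiso : ∀ M : Subgroup Cfsg.Agent.PSL211A5.G11, Nonempty (M ≃* alternatingGroup (Fin 5)) →
      Nonempty (M.map e.toMonoidHom ≃* alternatingGroup (Fin 5)) := fun M h =>
    ⟨(e.subgroupMap M).symm.trans h.some⟩
  have hiso' : ∀ M : Subgroup Cfsg.Agent.PSL211A5.G11, Nonempty (M.map e.toMonoidHom ≃* alternatingGroup (Fin 5)) →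
      Nonempty (M ≃* alternatingGroup (Fin 5)) := fun M h => ⟨(e.subgroupMap M).trans h.some⟩
  have hsurjM : ∀ L, ∃ M : Subgroup Cfsg.Agent.PSL211A5.G11, M.map e.toMonoidHom = L := fun L =>
    ⟨L.comap e.toMonoidHom, Subgroup.map_comap_eq_self_of_surjective e.surjective L⟩
  have hconj : ∀ (g : Cfsg.Agent.PSL211A5.G11) (M : Subgroup Cfsg.Agent.PSL211A5.G11),
      (MulAut.conj g • M).map e.toMonoidHom = MulAut.conj (e g) • M.map e.toMonoidHom := fun g M => by
    simp only [Subgroup.pointwise_smul_def, Subgroup.map_map]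
    congr 1
    ext x
    simp
  refine ⟨?_, H0.map e.toMonoidHom, K0.map e.toMonoidHom, hiso _ H0_iso, hiso _ K0_iso, ?_, ?_⟩
  · rw [← card_icos]
    refine (Nat.card_congr (Equiv.ofBijective
      (fun M => ⟨M.1.map e.toMonoidHom, hiso _ M.2⟩) ⟨?_, ?_⟩)).symm
    · intro M N h
      exact Subtype.ext (Subgroup.map_injective (f := e.toMonoidHom) e.injective (congrArg Subtype.val h))
    · rintro ⟨L, hL⟩
      obtain ⟨M, rfl⟩ := hsurjM L
      exact ⟨⟨M, hiso' M hL⟩, rfl⟩
  · intro g h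
    obtain ⟨y, rfl⟩ := e.surjective g
    rw [← hconj] at h
    obtain ⟨k, hk⟩ := conj_eq_cu (index_of_iso H0_iso) H0_up y
    exact cross_ne k (hk ▸ Subgroup.map_injective (f := e.toMonoidHom) e.injective h)
  · intro L hL
    obtain ⟨M, rfl⟩ := hsurjM L
    obtain ⟨g, hg⟩ := classify M (hiso' M hL)
    refine ⟨e g, ?_⟩
    rw [← hconj]
    exact hg.imp (fun h => by rw [h]) (fun h => by rw [h])

end Cfsg.Agent.S2543
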