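import Cfsg.Statements.S2551
import Mathlib
import Cfsg.Agent.Lib.A8Subgroups
import Cfsg.Agent.Lib.PSLCard
import Cfsg.Agent.Lib.AltTwoCycles
-- import your own Cfsg.Agent.* helpers here

set_option autoImplicit false
open Cfsg

namespace Cfsg.Agent.S2551

open scoped MatrixGroups

theorem stabilizer_iso : Nonempty
    (MulAction.stabilizer (alternatingGroup (Fin 8)) (0 : Fin 8) ≃* alternatingGroup (Fin 7)) := by
  classical
  haveI : MulAction.IsPretransitive (alternatingGroup (Fin 8)) (Fin 8) :=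
    alternatingGroup.isPretransitive_of_three_le_card (Fin 8) (by simp)
  set K := MulAction.stabilizer (alternatingGroup (Fin 8)) (0 : Fin 8)
  have hcard : Nat.card K = 2520 := by
    have h := K.card_mul_index
    rw [MulAction.index_stabilizer_of_transitive, Nat.card_fin, nat_card_alternatingGroup,
      Nat.card_fin, show Nat.factorial 8 / 2 = 20160 from rfl] at h
    omega
  have hp : ∀ k : K, ∀ x : Fin 8, ((k.1 : Equiv.Perm (Fin 8)) x ≠ 0 ↔ x ≠ 0) := by
    intro k x
    have h0 : (k.1 : Equiv.Perm (Fin 8)) 0 = 0 := k.2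
    exact not_congr ⟨fun h => (k.1 : Equiv.Perm (Fin 8)).injective (h.trans h0.symm),
      fun h => h ▸ h0⟩
  let em : {x : Fin 8 // x ≠ 0} ≃ Fin 7 := (finSuccAboveEquiv 0).symm
  let f : K →* Equiv.Perm (Fin 7) := em.permCongrHom.toMonoidHom.comp
    { toFun := fun k => (k.1 : Equiv.Perm (Fin 8)).subtypePerm fun x => hp k x
      map_one' := Equiv.ext fun _ => rfl
      map_mul' := fun _ _ => Equiv.ext fun _ => rfl }
  have hf : Function.Injective f := by
    intro a b h
    have h' := em.permCongrHom.injective h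
    refine Subtype.ext (Subtype.ext (Equiv.ext fun x => ?_))
    by_cases hx : x = 0
    · subst hx; exact a.2.trans b.2.symm
    · exact congrArg Subtype.val (Equiv.congr_fun h' ⟨x, hx⟩)
  have hi : f.range.index = 2 := by
    have := f.range.card_mul_index
    rw [← Nat.card_congr (MonoidHom.ofInjective hf).toEquiv, Nat.card_perm, Nat.card_fin, hcard,
      show Nat.factorial 7 = 2520 * 2 from rfl] at this
    exact Nat.eq_of_mul_eq_mul_left (by norm_num) this
  exact ⟨(MonoidHom.ofInjective hf).trans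
    (MulEquiv.subgroupCongr (Equiv.Perm.eq_alternatingGroup_of_index_eq_two hi))⟩

theorem stab_dvd {v : Fin 4 → ZMod 2} (hv : v ≠ 0) (S : Subgroup (GL (Fin 4) (ZMod 2)))
    (hS : ∀ g ∈ S, g.1.mulVec v = v) : Nat.card S ∣ 1344 := by
  letI := A8Subgroups.vecAction
  let Ψ := (MulEquiv.ofBijective _ A8Subgroups.toGL_bijective).symm
  have h1 : Nat.card (MulAction.stabilizer SL(4, ZMod 2) v) = 1344 := A8Subgroups.card_stab v hv
  rw [← h1, ← Subgroup.card_map_of_injective (f := Ψ.toMonoidHom) Ψ.injective]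
  refine Subgroup.card_dvd_of_le ?_
  rintro _ ⟨g, hg, rfl⟩
  show (Ψ g).1.mulVec v = v
  have : ((Ψ g).1 : Matrix (Fin 4) (Fin 4) (ZMod 2)) = g.1 :=
    congrArg Units.val ((MulEquiv.ofBijective _ A8Subgroups.toGL_bijective).apply_symm_apply g)
  rw [this]; exact hS g hg

theorem pair_dvd {v w : Fin 4 → ZMod 2} (hv : v ≠ 0) (hw : w ≠ 0) (hwv : w ≠ v)
    (S : Subgroup (GL (Fin 4) (ZMod 2))) (hS : ∀ g ∈ S, g.1.mulVec v = v ∧ g.1.mulVec w = w) :
    Nat.card S ∣ 96 := by
  letI := A8Subgroups.vecAction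
  let Ψ := (MulEquiv.ofBijective _ A8Subgroups.toGL_bijective).symm
  have h1 : Nat.card ↥(MulAction.stabilizer SL(4, ZMod 2) v ⊓ MulAction.stabilizer SL(4, ZMod 2) w)
      = 96 := A8Subgroups.card_stab_pair v w hv hw hwv
  rw [← h1, ← Subgroup.card_map_of_injective (f := Ψ.toMonoidHom) Ψ.injective]
  refine Subgroup.card_dvd_of_le ?_
  rintro _ ⟨g, hg, rfl⟩
  have : ((Ψ g).1 : Matrix (Fin 4) (Fin 4) (ZMod 2)) = g.1 :=
    congrArg Units.val ((MulEquiv.ofBijective _ A8Subgroups.toGL_bijective).apply_symm_apply g)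
  exact ⟨show (Ψ g).1.mulVec v = v by rw [this]; exact (hS g hg).1,
    show (Ψ g).1.mulVec w = w by rw [this]; exact (hS g hg).2⟩

theorem two_transitive (H : Subgroup (GL (Fin 4) (ZMod 2)))
    (hH : Nonempty (H ≃* alternatingGroup (Fin 7))) (v w v' w' : Fin 4 → ZMod 2) (hv : v ≠ 0)
    (hw : w ≠ 0) (hvw : v ≠ w) (hv' : v' ≠ 0) (hw' : w' ≠ 0) (hvw' : v' ≠ w') :
    ∃ g ∈ H, g.1.mulVec v = v' ∧ g.1.mulVec w = w' := by
  classical
  obtain ⟨e⟩ := hH
  have hcard : Nat.card H = 2520 := by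
    rw [Nat.card_congr e.toEquiv, nat_card_alternatingGroup, Nat.card_fin]; rfl
  letI act : MulAction H (Fin 4 → ZMod 2) :=
    { smul := fun g x => g.1.1.mulVec x
      one_smul := fun x => Matrix.one_mulVec x
      mul_smul := fun g h x => (Matrix.mulVec_mulVec x g.1.1 h.1.1).symm }
  have hsmul : ∀ (g : H) x, g • x = g.1.1.mulVec x := fun _ _ => rfl
  have hz : ∀ g : H, g • (0 : Fin 4 → ZMod 2) = 0 := fun g => Matrix.mulVec_zero _
  have hnz : ∀ (g : H) (x : Fin 4 → ZMod 2), x ≠ 0 → g • x ≠ 0 := fun g x hx h =>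
    hx (by rw [← inv_smul_smul g x, h, hz])
  have hn15 : ({u : Fin 4 → ZMod 2 | u ≠ 0}).ncard = 15 := by
    rw [Set.ncard_eq_toFinset_card']; decide
  -- transitivity
  have hcardv : ∀ x : Fin 4 → ZMod 2, x ≠ 0 →
      Nat.card (MulAction.stabilizer H x) = 168 ∧ MulAction.orbit H x = {u | u ≠ 0} := by
    intro x hx
    set K := MulAction.stabilizer H x
    have hsub : MulAction.orbit H x ⊆ {u | u ≠ 0} := by
      rintro _ ⟨g, rfl⟩; exact hnz g x hx
    have h1 := K.card_mul_index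
    rw [hcard] at h1
    have h2 : Nat.card K ∣ 1344 := by
      rw [← Subgroup.card_map_of_injective (f := H.subtype) Subtype.val_injective]
      exact stab_dvd hx _ (by rintro _ ⟨g, hg, rfl⟩; exact hg)
    have h3 : K.index ≤ 15 := by
      rw [MulAction.index_stabilizer, ← hn15]
      exact Set.ncard_le_ncard hsub
    have h4 : Nat.card K ∣ 168 := Nat.dvd_gcd h2 (h1 ▸ dvd_mul_right _ _ : Nat.card K ∣ 2520)
    have h5 : Nat.card K ≤ 168 := Nat.le_of_dvd (by norm_num) h4
    have h6 : Nat.card K = 168 := by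
      refine le_antisymm h5 ?_
      by_contra hlt
      push Not at hlt
      have : Nat.card K * K.index < 168 * 15 :=
        Nat.mul_lt_mul_of_lt_of_le hlt h3 (by norm_num)
      omega
    refine ⟨h6, Set.eq_of_subset_of_ncard_le hsub ?_⟩
    rw [h6] at h1
    rw [hn15, ← MulAction.index_stabilizer]
    change 15 ≤ K.index
    omega
  -- an involution moves some vector
  haveI : Fact (Nat.Prime 2) := ⟨Nat.prime_two⟩
  obtain ⟨t, ht⟩ := exists_prime_orderOf_dvd_card' (G := H) 2 (by rw [hcard]; norm_num)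
  obtain ⟨a, ha⟩ : ∃ a : Fin 4 → ZMod 2, t • a ≠ a := by
    by_contra hall
    push Not at hall
    have : t = 1 := by
      refine Subtype.ext (Units.ext (Matrix.ext_of_mulVec_single fun i => ?_))
      show t.1.1.mulVec _ = (1 : Matrix (Fin 4) (Fin 4) (ZMod 2)).mulVec _
      rw [Matrix.one_mulVec, ← hsmul, hall]
    rw [this, orderOf_one] at ht
    norm_num at ht
  set b := t • a with hb
  have ha0 : a ≠ 0 := fun h => ha (by rw [hb, h, hz])
  have hb0 : b ≠ 0 := hnz t a ha0
  have hta : t • b = a := by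
    have h2 := pow_orderOf_eq_one t
    rw [ht, sq] at h2
    rw [hb, ← mul_smul, h2, one_smul]
  -- the pair stabiliser has order 12
  set K := MulAction.stabilizer H a
  set S := MulAction.stabilizer K b with hS
  have hn14 : ({u : Fin 4 → ZMod 2 | u ≠ 0 ∧ u ≠ a}).ncard = 14 := by
    rw [show {u : Fin 4 → ZMod 2 | u ≠ 0 ∧ u ≠ a} = {u | u ≠ 0} \ {a} from rfl,
      Set.ncard_sdiff_singleton_of_mem (show a ∈ {u : Fin 4 → ZMod 2 | u ≠ 0} from ha0), hn15]
  have hsub : MulAction.orbit K b ⊆ {u | u ≠ 0 ∧ u ≠ a} := by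
    rintro _ ⟨g, rfl⟩
    exact ⟨hnz g.1 b hb0, fun h => ha (MulAction.injective g.1 (h.trans g.2.symm))⟩
  have hS1 := S.card_mul_index
  rw [(hcardv a ha0).1] at hS1
  have hS2 : S.index ≤ 14 := by
    rw [hS, MulAction.index_stabilizer, ← hn14]
    exact Set.ncard_le_ncard hsub
  have hS3 : Nat.card S ∣ 24 := by
    have h1 : Nat.card S ∣ 168 := hS1 ▸ dvd_mul_right _ _
    have h2 : Nat.card S ∣ 96 := by
      rw [← Subgroup.card_map_of_injective (f := H.subtype.comp K.subtype)
        (Subtype.val_injective.comp Subtype.val_injective)]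
      exact pair_dvd ha0 hb0 ha _ (by rintro _ ⟨g, hg, rfl⟩; exact ⟨g.2, hg⟩)
    exact Nat.dvd_gcd h2 h1
  -- the setwise stabiliser doubles it
  have hU : 2 * Nat.card S ∣ 2520 := by
    let U : Subgroup H :=
      { carrier := {g | (g • a = a ∧ g • b = b) ∨ (g • a = b ∧ g • b = a)}
        one_mem' := Or.inl ⟨one_smul _ _, one_smul _ _⟩
        mul_mem' := fun {x y} hx hy => by
          show _ ∨ _
          rw [mul_smul, mul_smul]
          rcases hx with ⟨h1, h2⟩ | ⟨h1, h2⟩ <;> rcases hy with ⟨h3, h4⟩ | ⟨h3, h4⟩ <;>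
            rw [h3, h4] <;> simp [h1, h2]
        inv_mem' := fun {x} hx => by
          show _ ∨ _
          rcases hx with ⟨h1, h2⟩ | ⟨h1, h2⟩
          · exact Or.inl ⟨inv_smul_eq_iff.2 h1.symm, inv_smul_eq_iff.2 h2.symm⟩
          · exact Or.inr ⟨inv_smul_eq_iff.2 h2.symm, inv_smul_eq_iff.2 h1.symm⟩ }
    set L := MulAction.stabilizer U a with hL
    have horb : MulAction.orbit U a = {a, b} := by
      ext x
      constructor
      · rintro ⟨⟨g, hg⟩, rfl⟩
        rcases hg with ⟨h1, -⟩ | ⟨h1, -⟩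
        · exact Or.inl h1
        · exact Or.inr h1
      · rintro (rfl | rfl)
        · exact MulAction.mem_orbit_self _
        · exact ⟨⟨t, Or.inr ⟨rfl, hta⟩⟩, rfl⟩
    have hidx : L.index = 2 := by
      rw [hL, MulAction.index_stabilizer, horb, Set.ncard_pair (Ne.symm ha)]
    have hLS : Nat.card L = Nat.card S := Nat.card_congr
      { toFun := fun g => ⟨⟨g.1.1, g.2⟩, by
          rcases g.1.2 with ⟨-, h⟩ | ⟨h, -⟩
          · exact h
          · exact absurd (h.symm.trans g.2) ha⟩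
        invFun := fun g => ⟨⟨g.1.1, Or.inl ⟨g.1.2, g.2⟩⟩, g.1.2⟩
        left_inv := fun _ => rfl
        right_inv := fun _ => rfl }
    have := L.card_mul_index
    rw [hidx, hLS, mul_comm] at this
    rw [this, ← hcard]
    exact U.card_subgroup_dvd_card
  have hS12 : Nat.card S = 12 := by
    have hge : 12 ≤ Nat.card S := by
      by_contra hlt
      push Not at hlt
      have : Nat.card S * S.index < 12 * 14 := Nat.mul_lt_mul_of_lt_of_le hlt hS2 (by norm_num)
      omega
    have hle := Nat.le_of_dvd (by norm_num) hS3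
    interval_cases h : Nat.card S <;> first | rfl | omega
  have horb14 : MulAction.orbit K b = {u | u ≠ 0 ∧ u ≠ a} := by
    refine Set.eq_of_subset_of_ncard_le hsub ?_
    rw [hn14, ← MulAction.index_stabilizer]
    rw [hS12] at hS1
    rw [← hS]
    omega
  -- every pair reaches `(a, b)`
  have key : ∀ x y : Fin 4 → ZMod 2, x ≠ 0 → y ≠ 0 → x ≠ y → ∃ g : H, g • a = x ∧ g • b = y := by
    intro x y hx hy hxy
    obtain ⟨g, hg⟩ : x ∈ MulAction.orbit H a := by rw [(hcardv a ha0).2]; exact hx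
    have hy' : g⁻¹ • y ∈ MulAction.orbit K b := by
      rw [horb14]
      refine ⟨hnz _ y hy, fun h => hxy ?_⟩
      rw [inv_smul_eq_iff] at h
      exact hg.symm.trans h.symm
    obtain ⟨k, hk⟩ := hy'
    refine ⟨g * k.1, ?_, ?_⟩
    · rw [mul_smul, show k.1 • a = a from k.2]; exact hg
    · rw [mul_smul, show k.1 • b = g⁻¹ • y from hk, smul_inv_smul]
  obtain ⟨g₁, h11, h12⟩ := key v w hv hw hvw
  obtain ⟨g₂, h21, h22⟩ := key v' w' hv' hw' hvw'
  exact ⟨(g₂ * g₁⁻¹ : H).1, (g₂ * g₁⁻¹).2,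
    (hsmul _ _).symm.trans (by rw [← h11, mul_smul, inv_smul_smul]; exact h21),
    (hsmul _ _).symm.trans (by rw [← h12, mul_smul, inv_smul_smul]; exact h22)⟩


/-- Let F be the field with 2 elements. GL_4(F) (≅ A_8) has a subgroup isomorphic to the alternating group A_7, and every such subgroup acts 2-transitively on the 15 non-zero vectors of F⁴: any ordered pair of distinct non-zero vectors is carried to any other by some element of the subgroup. -/
theorem result {F : Type*} [Field F] [Fintype F] (hF : Fintype.card F = 2) : (∃ H : Subgroup (Matrix.GeneralLinearGroup (Fin 4) F), Nonempty (H ≃* alternatingGroup (Fin 7))) ∧ ∀ H : Subgroup (Matrix.GeneralLinearGroup (Fin 4) F), Nonempty (H ≃* alternatingGroup (Fin 7)) → ∀ v w v' w' : Fin 4 → F, v ≠ 0 → w ≠ 0 → v ≠ w → v' ≠ 0 → w' ≠ 0 → v' ≠ w' → ∃ g ∈ H, (g : Matrix (Fin 4) (Fin 4) F).mulVec v = v' ∧ (g : Matrix (Fin 4) (Fin 4) F).mulVec w = w' := by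
  haveI : Fact (Nat.Prime 2) := ⟨Nat.prime_two⟩
  let φ : F ≃+* ZMod 2 := FiniteField.ringEquivOfCardEq (by rw [hF, ZMod.card])
  let Φ := PSLCard.glEquiv (ι := Fin 4) φ
  refine ⟨?_, ?_⟩
  · obtain ⟨E⟩ := A8Subgroups.exists_glEquiv
    obtain ⟨i⟩ := stabilizer_iso
    let f : alternatingGroup (Fin 8) →* GL (Fin 4) F := (E.symm.trans Φ.symm).toMonoidHom
    exact ⟨_, ⟨((MulAction.stabilizer (alternatingGroup (Fin 8)) (0 : Fin 8)).equivMapOfInjective f
      (E.symm.trans Φ.symm).injective).symm.trans i⟩⟩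
  · intro H hH v w v' w' hv hw hvw hv' hw' hvw'
    obtain ⟨i⟩ := hH
    let H' := H.map Φ.toMonoidHom
    have e : H' ≃* alternatingGroup (Fin 7) := (H.equivMapOfInjective _ Φ.injective).symm.trans i
    have hne : ∀ x : Fin 4 → F, x ≠ 0 → φ ∘ x ≠ 0 := fun x hx h => hx (funext fun j =>
      φ.injective (by rw [show φ (x j) = 0 from congrFun h j]; simp))
    have hinj : ∀ x y : Fin 4 → F, φ ∘ x = φ ∘ y → x = y := fun x y h =>
      funext fun j => φ.injective (congrFun h j)
    obtain ⟨g, ⟨g0, hg0, rfl⟩, h1, h2⟩ := two_transitive H' ⟨e⟩ _ _ _ _ (hne v hv) (hne w hw)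
      (fun h => hvw (hinj _ _ h)) (hne v' hv') (hne w' hw') (fun h => hvw' (hinj _ _ h))
    have key : ∀ x : Fin 4 → F, (Φ g0).1.mulVec (φ ∘ x) = φ ∘ (g0.1.mulVec x) := fun x => by
      funext j
      exact (RingHom.map_mulVec φ.toRingHom g0.1 x j).symm
    exact ⟨g0, hg0, hinj _ _ ((key v).symm.trans h1), hinj _ _ ((key w).symm.trans h2)⟩

end Cfsg.Agent.S2551
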