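import Cfsg.Statements.S2552

set_option autoImplicit false
open Cfsg

namespace Cfsg.Agent.S2552

/-- Let F be a finite field and n ≥ 1. For every k, the special linear group SL_n(F) acts transitively on the set of k-dimensional subspaces of F^n: any two subspaces of the same dimension are carried onto each other by some matrix of determinant 1. -/
theorem result {F : Type*} [Field F] [Fintype F] (n : ℕ) (hn : 1 ≤ n) (U₁ U₂ : Submodule F (Fin n → F)) (h : Module.finrank F U₁ = Module.finrank F U₂) : ∃ g : Matrix.SpecialLinearGroup (Fin n) F, U₁.map ((Matrix.SpecialLinearGroup.toLin' g : (Fin n → F) ≃ₗ[F] (Fin n → F)) : (Fin n → F) →ₗ[F] (Fin n → F)) = U₂ := by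
  classical
  obtain ⟨C₁, hC₁⟩ := U₁.exists_isCompl
  obtain ⟨C₂, hC₂⟩ := U₂.exists_isCompl
  have hC : Module.finrank F C₁ = Module.finrank F C₂ := by
    have h1 := Submodule.finrank_add_eq_of_isCompl hC₁
    have h2 := Submodule.finrank_add_eq_of_isCompl hC₂
    omega
  let g₀ : (Fin n → F) ≃ₗ[F] (Fin n → F) :=
    (Submodule.prodEquivOfIsCompl U₁ C₁ hC₁).symm ≪≫ₗ
      ((LinearEquiv.ofFinrankEq U₁ U₂ h).prodCongr (LinearEquiv.ofFinrankEq C₁ C₂ hC)) ≪≫ₗ
      Submodule.prodEquivOfIsCompl U₂ C₂ hC₂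
  have hg₀ : U₁.map (g₀ : (Fin n → F) →ₗ[F] (Fin n → F)) ≤ U₂ := by
    rintro _ ⟨v, hv, rfl⟩
    simp only [LinearEquiv.coe_coe, g₀, LinearEquiv.trans_apply]
    rw [Submodule.prodEquivOfIsCompl_symm_apply_left _ _ _ (⟨v, hv⟩ : U₁)]
    simp
  let b : Module.Basis (Fin (Module.finrank F U₁) ⊕ Fin (Module.finrank F C₁)) F (Fin n → F) :=
    ((Module.finBasis F U₁).prod (Module.finBasis F C₁)).map (Submodule.prodEquivOfIsCompl U₁ C₁ hC₁)
  have hpos : 0 < Module.finrank F U₁ + Module.finrank F C₁ := by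
    rw [Submodule.finrank_add_eq_of_isCompl hC₁, Module.finrank_fin_fun]; omega
  have hne : Nonempty (Fin (Module.finrank F U₁) ⊕ Fin (Module.finrank F C₁)) := by
    rcases Nat.eq_zero_or_pos (Module.finrank F U₁) with h0 | h0
    · exact ⟨Sum.inr ⟨0, by omega⟩⟩
    · exact ⟨Sum.inl ⟨0, h0⟩⟩
  obtain ⟨i₀⟩ := hne
  let c : F := (LinearMap.det (g₀ : (Fin n → F) →ₗ[F] (Fin n → F)))⁻¹
  let w : (Fin (Module.finrank F U₁) ⊕ Fin (Module.finrank F C₁)) → F := Function.update 1 i₀ c
  let d : (Fin n → F) →ₗ[F] (Fin n → F) := Matrix.toLin b b (Matrix.diagonal w)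
  have hd : LinearMap.det d = c := by
    simp [d, w, LinearMap.det_toLin, Matrix.det_diagonal, Finset.prod_update_of_mem]
  have hdb : ∀ i, d (b i) = w i • b i := by
    intro i
    simp [d, Matrix.toLin_self, Matrix.diagonal_apply, ite_smul]
  have hdU : U₁.map d ≤ U₁ := by
    rintro _ ⟨v, hv, rfl⟩
    have hv' : v = ∑ i, (Module.finBasis F U₁).repr ⟨v, hv⟩ i • b (Sum.inl i) := by
      have := congrArg Subtype.val ((Module.finBasis F U₁).sum_repr ⟨v, hv⟩)
      simp only [AddSubmonoidClass.coe_finsetSum, Submodule.coe_smul] at this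
      simpa [b] using this.symm
    rw [hv', map_sum]
    refine Submodule.sum_mem _ fun i _ => ?_
    rw [map_smul, hdb]
    refine Submodule.smul_mem _ _ (Submodule.smul_mem _ _ ?_)
    simp [b]
  let f : (Fin n → F) →ₗ[F] (Fin n → F) := (g₀ : (Fin n → F) →ₗ[F] (Fin n → F)) ∘ₗ d
  have hdet : LinearMap.det f = 1 := by
    rw [LinearMap.det_comp, hd]
    exact mul_inv_cancel₀ (LinearEquiv.isUnit_det' g₀).ne_zero
  refine ⟨⟨LinearMap.toMatrix' f, by rw [LinearMap.det_toMatrix', hdet]⟩, ?_⟩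
  have hf : Function.Injective f := by
    rw [← LinearMap.ker_eq_bot]
    refine (LinearMap.isUnit_iff_ker_eq_bot f).1 ?_
    rw [LinearMap.isUnit_iff_isUnit_det, hdet]
    exact isUnit_one
  have hmap : U₁.map f = U₂ := by
    apply Submodule.eq_of_le_of_finrank_eq
    · rw [Submodule.map_comp]
      exact (Submodule.map_mono hdU).trans hg₀
    · rw [← h]
      exact (LinearEquiv.finrank_eq (Submodule.equivMapOfInjective f hf U₁)).symm
  rw [← hmap]
  ext y
  simp only [Submodule.mem_map]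
  have hap : ∀ v, (Matrix.SpecialLinearGroup.toLin' (⟨LinearMap.toMatrix' f, by rw [LinearMap.det_toMatrix', hdet]⟩ : Matrix.SpecialLinearGroup (Fin n) F)) v = f v := fun v => by
    show Matrix.toLin' (LinearMap.toMatrix' f) v = f v
    exact congrFun (congrArg DFunLike.coe (Matrix.toLin'_toMatrix' f)) v
  constructor
  · rintro ⟨v, hv, rfl⟩; exact ⟨v, hv, (hap v).symm⟩
  · rintro ⟨v, hv, rfl⟩; exact ⟨v, hv, hap v⟩

end Cfsg.Agent.S2552
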