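import Cfsg.Statements.S2553
import Mathlib
import Cfsg.Agent.Lib.A8SubgroupsStructure
-- import your own Cfsg.Agent.* helpers here

set_option autoImplicit false
open Cfsg

namespace Cfsg.Agent.S2553


/-- Let H be a nontrivial subgroup of GL(4,2) (a group isomorphic to the alternating group of degree 8) whose largest normal 2-subgroup and largest normal subgroup of odd order are both trivial. Then H is isomorphic to an alternating group of degree n for some 5 ≤ n ≤ 8, to the symmetric group of degree 5 or 6, or to GL(3,2). -/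
theorem result (H : Subgroup (GL (Fin 4) (ZMod 2))) (hH : H ≠ ⊥) (hO : Cfsg.pPrimeCore 2 ↥H = ⊥) (hO2 : Cfsg.pCore 2 ↥H = ⊥) :
    (∃ n : ℕ, 5 ≤ n ∧ n ≤ 8 ∧ Nonempty (↥H ≃* alternatingGroup (Fin n))) ∨
    Nonempty (↥H ≃* Equiv.Perm (Fin 5)) ∨ Nonempty (↥H ≃* Equiv.Perm (Fin 6)) ∨ Nonempty (↥H ≃* GL (Fin 3) (ZMod 2)) := by
  obtain ⟨E⟩ := A8Subgroups.exists_glEquiv
  let f : GL (Fin 4) (ZMod 2) →* Equiv.Perm (Fin 8) :=
    (alternatingGroup (Fin 8)).subtype.comp E.toMonoidHom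
  have hf : Function.Injective f := Subtype.val_injective.comp E.injective
  let e : H ≃* H.map f := H.equivMapOfInjective f hf
  have hA : H.map f ≤ alternatingGroup (Fin 8) := by
    rintro _ ⟨x, -, rfl⟩; exact (E x).2
  have h2 : Cfsg.pCore 2 (H.map f) = ⊥ := by
    refine le_bot_iff.1 (sSup_le ?_)
    rintro N ⟨hN, hp⟩
    have h : N.map e.symm.toMonoidHom ≤ Cfsg.pCore 2 H :=
      le_sSup ⟨hN.map _ e.symm.surjective, hp.map _⟩
    rw [hO2, le_bot_iff, Subgroup.map_eq_bot_iff_of_injective _ e.symm.injective] at h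
    exact h.le
  have h2' : Cfsg.pPrimeCore 2 (H.map f) = ⊥ := by
    refine le_bot_iff.1 (sSup_le ?_)
    rintro N ⟨hN, hp⟩
    have h : N.map e.symm.toMonoidHom ≤ Cfsg.pPrimeCore 2 H :=
      le_sSup ⟨hN.map _ e.symm.surjective, by
        rwa [Subgroup.card_map_of_injective (f := e.symm.toMonoidHom) e.symm.injective]⟩
    rw [hO, le_bot_iff, Subgroup.map_eq_bot_iff_of_injective _ e.symm.injective] at h
    exact h.le
  have hne : H.map f ≠ ⊥ := fun h => hH ((Subgroup.map_eq_bot_iff_of_injective _ hf).1 h)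
  rcases A8SubgroupsStructure.classify (H.map f) hA hne h2 h2' with
    ⟨n, h5, h8, ⟨i⟩⟩ | ⟨⟨i⟩⟩ | ⟨⟨i⟩⟩ | ⟨⟨i⟩⟩
  · exact Or.inl ⟨n, h5, h8, ⟨e.trans i⟩⟩
  · exact Or.inr (Or.inl ⟨e.trans i⟩)
  · exact Or.inr (Or.inr (Or.inl ⟨e.trans i⟩))
  · exact Or.inr (Or.inr (Or.inr ⟨e.trans i⟩))

end Cfsg.Agent.S2553
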