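import Cfsg.Statements.S2556
import Cfsg.Agent.Lib.SuzukiGroupLie
import Cfsg.Agent.Lib.SuzukiTwoAut

set_option autoImplicit false
open Cfsg

namespace Cfsg.Agent.S2556

open Cfsg.Agent.SuzukiGroupBasic Cfsg.Agent.SuzukiGroupStructure Cfsg.Agent.SuzukiTwoAut

/-- A normal `p`-subgroup of index prime to `p` is the `p`-core. -/
theorem pCore_eq_of_normal {A : Type*} [Group A] [Finite A] (K : Subgroup A) [K.Normal]
    (hK : IsPGroup 2 K) (hi : ¬ 2 ∣ K.index) : Cfsg.pCore 2 A = K := by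
  refine le_antisymm (sSup_le ?_) (le_sSup ⟨inferInstance, hK⟩)
  rintro N ⟨-, hN⟩ x hx
  obtain ⟨k, hk⟩ := hN ⟨x, hx⟩
  have hx2 : x ^ (2 ^ k) = 1 := by simpa using congrArg Subtype.val hk
  have h1 : orderOf (x : A ⧸ K) ∣ 2 ^ k := by
    apply orderOf_dvd_of_pow_eq_one
    rw [← QuotientGroup.mk_pow, hx2, QuotientGroup.mk_one]
  have h2 : orderOf (x : A ⧸ K) ∣ K.index := by
    rw [Subgroup.index_eq_card]
    exact orderOf_dvd_natCard _
  have hc : Nat.Coprime (2 ^ k) K.index :=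
    Nat.Coprime.pow_left _ ((Nat.prime_two.coprime_iff_not_dvd).mpr hi)
  have := Nat.eq_one_of_dvd_coprimes hc h1 h2
  exact (QuotientGroup.eq_one_iff x).mp (orderOf_eq_one_iff.mp this)

/-- Let S be a Sylow 2-subgroup of the Suzuki group Sz(q), q = 2ⁿ with n = 2m + 1 ≥ 3 (realised as 4 × 4 matrices over the field with q elements). Then the largest normal 2-subgroup of the automorphism group of S is elementary abelian of order 2^(n²), and the automorphism group of S has order 2^(n²) · n · (q − 1). -/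
theorem result {S : Type*} [Group S] [Finite S] (m : ℕ) (hm : 1 ≤ m)
    {F : Type*} [Field F] [Fintype F] (hF : Fintype.card F = 2 ^ (2 * m + 1))
    (P : Sylow 2 ↥(Cfsg.Lie.Sz F (2 ^ (m + 1)))) (hS : Nonempty (S ≃* ↥(P : Subgroup ↥(Cfsg.Lie.Sz F (2 ^ (m + 1)))))) :
    Cfsg.IsElementaryAbelian 2 (Cfsg.pCore 2 (MulAut S)) ∧ Nat.card ↥(Cfsg.pCore 2 (MulAut S)) = 2 ^ ((2 * m + 1) ^ 2) ∧
      Nat.card (MulAut S) = 2 ^ ((2 * m + 1) ^ 2) * ((2 * m + 1) * (2 ^ (2 * m + 1) - 1)) := by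
  haveI hP := Param.mk' hm hF
  haveI : Fact (Nat.Prime 2) := ⟨Nat.prime_two⟩
  obtain ⟨e0⟩ := hS
  let e := SuzukiGroupLie.lieEquiv (F := F) (m := m)
  obtain ⟨e1⟩ : Nonempty ((unipotent : Subgroup ↥(Cfsg.Sz F m)) ≃*
      ↥(P : Subgroup ↥(Cfsg.Lie.Sz F (2 ^ (m + 1))))) := by
    obtain ⟨f⟩ := exists_sylow_equiv (P.mapSurjective (f := e.toMonoidHom) e.surjective)
    exact ⟨f.trans (e.subgroupMap (P : Subgroup _)).symm⟩
  let c := MulAut.congr (e1.trans e0.symm)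
  set K := (shears : Subgroup (MulAut ↥(unipotent : Subgroup ↥(Cfsg.Sz F m)))).map c.toMonoidHom
  haveI : K.Normal := Subgroup.Normal.map inferInstance _ c.surjective
  have hcard : Nat.card (MulAut S) =
      2 ^ ((2 * m + 1) ^ 2) * ((2 * m + 1) * (2 ^ (2 * m + 1) - 1)) := by
    rw [← Nat.card_congr c.toEquiv, natCard_mulAut]
  haveI : Finite (MulAut S) := Finite.of_injective _ DFunLike.coe_injective
  have hK : Nat.card K = 2 ^ ((2 * m + 1) ^ 2) := by
    rw [← natCard_shears (F := F) (m := m)]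
    exact Subgroup.card_map_of_injective c.injective
  have hi : K.index = (2 * m + 1) * (2 ^ (2 * m + 1) - 1) := by
    have := K.card_mul_index
    rw [hK, hcard] at this
    exact Nat.eq_of_mul_eq_mul_left (Nat.two_pow_pos _) this
  have hcore : Cfsg.pCore 2 (MulAut S) = K := by
    refine pCore_eq_of_normal K (IsPGroup.of_card hK) ?_
    rw [hi, Nat.prime_two.dvd_mul, not_or]
    refine ⟨by omega, fun h => ?_⟩
    have h2 : 2 ∣ 2 ^ (2 * m + 1) := dvd_pow_self 2 (by omega)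
    have h3 : 1 ≤ 2 ^ (2 * m + 1) := Nat.one_le_two_pow
    omega
  rw [hcore]
  refine ⟨⟨⟨⟨?_⟩⟩, ?_⟩, hK, hcard⟩
  · rintro ⟨_, φ, hφ, rfl⟩ ⟨_, ψ, hψ, rfl⟩
    refine Subtype.ext ?_
    change c φ * c ψ = c ψ * c φ
    rw [← map_mul, ← map_mul, (shears_elementary hφ hψ).1]
  · rintro _ ⟨φ, hφ, rfl⟩
    change c φ ^ 2 = 1
    rw [← map_pow, (shears_elementary hφ hφ).2, map_one]

end Cfsg.Agent.S2556
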