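import Cfsg.Statements.S2557
import Cfsg.Agent.Lib.UniTwoClasses53
import Cfsg.Agent.Lib.FormTransport53
import Cfsg.Agent.Lib.SympSemisimpleClasses

set_option autoImplicit false
open Cfsg

namespace Cfsg.Agent.S2557

open Cfsg.Agent.FormTransport53 Cfsg.Agent.SymplecticBasic Cfsg.Agent.UniTwoClasses53 in
theorem upper {F : Type*} [Field F] [Fintype F] [CharP F 2] (n : ℕ) (hn : 1 ≤ n) :
    5 * Nat.card (ConjClasses (Matrix.symplecticGroup (Fin n) F)) ≤ 76 * Fintype.card F ^ n := by
  classical
  haveI : NeZero (n + n) := ⟨by omega⟩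
  let ι := finSumFinEquiv (m := n) (n := n)
  let f₀ : ↥(Matrix.symplecticGroup (Fin n) F) →* GL (Fin n ⊕ Fin n) F :=
    (Submonoid.subtype (Matrix.symplecticGroup (Fin n) F)).toHomUnits
  let B : LinearMap.BilinForm F (Fin n ⊕ Fin n → F) := LinearMap.mk₂ F (Cfsg.sympForm n F)
    form_add_left form_smul_left form_add_right form_smul_right
  let Φ : FormMatrix53.Std F (1 : F) (n + n) := stdOf ι B
    (fun x y => by
      simp only [B, LinearMap.mk₂_apply]
      rw [form_swap x y, CharTwo.neg_eq, one_mul])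
    (fun x hx => form_nondeg hx)
  let Ψ : Std2 F false (n + n) :=
    { Φ := Φ
      alt := fun x => by simp [Φ, stdOf, B, form_self]
      Q := fun _ => 0
      Qadd := fun h => absurd h Bool.false_ne_true
      Qsmul := fun h => absurd h Bool.false_ne_true }
  have key : ∀ (g : GL (Fin n ⊕ Fin n) F) (x y : Fin (n + n) → F),
      Φ.B (((toGL ι g : GL (Fin (n + n)) F) : Matrix (Fin (n + n)) (Fin (n + n)) F).mulVec x)
        (((toGL ι g : GL (Fin (n + n)) F) : Matrix (Fin (n + n)) (Fin (n + n)) F).mulVec y) =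
      Cfsg.sympForm n F ((g : Matrix (Fin n ⊕ Fin n) (Fin n ⊕ Fin n) F).mulVec (x ∘ ι))
        ((g : Matrix (Fin n ⊕ Fin n) (Fin n ⊕ Fin n) F).mulVec (y ∘ ι)) := by
    intro g x y
    rw [toGL_mulVec, toGL_mulVec]
    simp [Φ, stdOf, B, LinearMap.funLeft, Function.comp_def]
  have h := card_classes_le Ψ (show n + n = 2 * n by omega) ((toGL ι).comp f₀)
    ((toGL_injective ι).comp (fun a b hab => Subtype.ext (congrArg Units.val hab)))
    (fun g => ⟨fun x y => by
      rw [MonoidHom.comp_apply, key]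
      exact mem_sp_iff_form.1 g.2 _ _, fun h => absurd h Bool.false_ne_true⟩)
    (fun g hg => by
      obtain ⟨g', rfl⟩ := toGL_surjective ι g
      have hg' : ∀ x y, Cfsg.sympForm n F ((g' : Matrix (Fin n ⊕ Fin n) (Fin n ⊕ Fin n) F).mulVec x)
          ((g' : Matrix (Fin n ⊕ Fin n) (Fin n ⊕ Fin n) F).mulVec y) = Cfsg.sympForm n F x y := by
        intro x y
        have := hg.1 (x ∘ ι.symm) (y ∘ ι.symm)
        rw [key] at this
        simpa [Ψ, Φ, stdOf, B, LinearMap.funLeft, Function.comp_def] using this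
      exact ⟨⟨g'.1, mem_sp_iff_form.2 hg'⟩, congrArg (toGL ι) (Units.ext rfl)⟩)
  simp only [Bool.false_eq_true, if_false] at h
  have h2 : ((5 * Nat.card (ConjClasses (Matrix.symplecticGroup (Fin n) F)) : ℕ) : ℚ) ≤
      ((76 * Fintype.card F ^ n : ℕ) : ℚ) := by
    push_cast
    have : (0 : ℚ) ≤ (Fintype.card F : ℚ) ^ n := by positivity
    linarith
  exact_mod_cast h2

/-- The number of conjugacy classes of Sp(2n,q), q even: for F a finite field of even order q and n ≥ 1, the number k of conjugacy classes of Sp(2n,F) satisfies q^n ≤ k ≤ 15.2·q^n. -/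
theorem result {F : Type*} [Field F] [Fintype F] (heven : Even (Fintype.card F)) (n : ℕ) (hn : 1 ≤ n) :
    Fintype.card F ^ n ≤ Nat.card (ConjClasses (Matrix.symplecticGroup (Fin n) F)) ∧
      5 * Nat.card (ConjClasses (Matrix.symplecticGroup (Fin n) F)) ≤ 76 * Fintype.card F ^ n := by
  classical
  haveI : CharP F 2 := by
    haveI := ringChar.charP F
    have h : ringChar F = 2 := by
      by_contra h
      have := FiniteField.odd_card_of_char_ne_two h
      rw [Nat.even_iff] at heven
      omega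
    exact h ▸ ringChar.charP F
  haveI : Fact (Nat.Prime 2) := ⟨Nat.prime_two⟩
  refine ⟨?_, upper n hn⟩
  rw [← Cfsg.Agent.SympSemisimpleClasses.card_classes (F := F) (n := n) (p := 2)]
  exact Finite.card_subtype_le _

end Cfsg.Agent.S2557
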