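import Cfsg.Statements.S2559
import Cfsg.Agent.Lib.UniTwoRealise53
import Cfsg.Agent.Lib.AutOrth45Forms

set_option autoImplicit false
open Cfsg

namespace Cfsg.Agent.S2559

open Cfsg.Agent.UniTwoSys53 Cfsg.Agent.UniTwoGauss53 Cfsg.Agent.QuadClassify

universe u

variable {F : Type u} [Field F] [Fintype F] [CharP F 2]

theorem sum_plus (m : ℕ) :
    ∑ v : Fin m ⊕ Fin m → F, chi (Cfsg.quadFormPlus m F v) = (Fintype.card F : ℤ) ^ m := by
  classical
  have hprod : ∀ (s : Finset (Fin m)) (f : Fin m → F), chi (∑ i ∈ s, f i) = ∏ i ∈ s, chi (f i) := by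
    intro s f
    induction s using Finset.induction_on with
    | empty => simp [chi_zero]
    | insert a s ha ih => rw [Finset.sum_insert ha, Finset.prod_insert ha, chi_add, ih]
  let e : (Fin m → F × F) ≃ (Fin m ⊕ Fin m → F) :=
    (Equiv.arrowProdEquivProdArrow _ _ _).trans (Equiv.sumArrowEquivProdArrow _ _ _).symm
  rw [← e.sum_comp]
  have h1 : ∑ p : F × F, chi (p.1 * p.2) = (Fintype.card F : ℤ) := by
    have := plane_zero (F := F) 0
    simp only [zero_mul, add_zero] at this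
    rw [Fintype.sum_prod_type]
    exact this
  calc ∑ f : Fin m → F × F, chi (Cfsg.quadFormPlus m F (e f))
      = ∑ f : Fin m → F × F, ∏ i, chi ((f i).1 * (f i).2) :=
        Finset.sum_congr rfl fun f _ => by
          rw [Cfsg.quadFormPlus, hprod]
          rfl
    _ = ∏ _i : Fin m, ∑ p : F × F, chi (p.1 * p.2) :=
        (Fintype.prod_sum (fun (_ : Fin m) (p : F × F) => chi (p.1 * p.2))).symm
    _ = _ := by rw [h1, Finset.prod_const, Finset.card_univ, Fintype.card_fin]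

theorem sum_minus (m : ℕ) {a b : F}
    (hab : ∀ z₁ z₂ : F, z₁ ^ 2 + a * z₁ * z₂ + b * z₂ ^ 2 = 0 → z₁ = 0 ∧ z₂ = 0) :
    ∑ v : (Fin m ⊕ Fin m) ⊕ Fin 2 → F, chi (Cfsg.quadFormMinus m F a b v) < 0 := by
  classical
  obtain ⟨ζ, g, hζ, hg⟩ := exists_zeta hab
  have h2 : ∑ w : Fin 2 → F, chi (qBin F a b w) = -(Fintype.card F : ℤ) := by
    rw [← g.toEquiv.sum_comp, ← Equiv.sum_comp (finTwoArrowEquiv F).symm, Fintype.sum_prod_type, Finset.sum_comm,
      ← plane_aniso (F := F) (ζ := ζ) (fun c hc => hζ c (by linear_combination hc + ζ * two_zero (F := F)))]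
    refine Finset.sum_congr rfl fun x _ => Finset.sum_congr rfl fun y _ => congrArg chi ?_
    rw [LinearEquiv.coe_toEquiv, hg, qBin_apply]
    simp
    ring
  rw [← Equiv.sum_comp (Equiv.sumArrowEquivProdArrow _ _ _).symm, Fintype.sum_prod_type]
  have e : ∀ (x : Fin m ⊕ Fin m → F) (w : Fin 2 → F),
      chi (Cfsg.quadFormMinus m F a b ((Equiv.sumArrowEquivProdArrow _ _ _).symm (x, w))) =
        chi (Cfsg.quadFormPlus m F x) * chi (qBin F a b w) := fun x w => by
    rw [← chi_add, qBin_apply]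
    rfl
  simp only [e, ← Finset.mul_sum, ← Finset.sum_mul, h2, sum_plus]
  have : (0 : ℤ) < Fintype.card F := by exact_mod_cast Fintype.card_pos
  have : (0 : ℤ) < (Fintype.card F : ℤ) ^ m := by positivity
  nlinarith

theorem G_of_equiv {U : USys F true} {ι : Type} [Fintype ι] [DecidableEq ι] (R : (ι → F) → F)
    (T : U.S.V ≃ₗ[F] (ι → F)) (hT : ∀ x, R (T x) = U.Q x) : G U = ∑ v : ι → F, chi (R v) := by
  haveI : Finite U.S.V := Module.finite_of_finite F
  haveI : Fintype U.S.V := Fintype.ofFinite _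
  rw [UniTwoGauss53.G_eq, ← T.toEquiv.sum_comp]
  exact Finset.sum_congr rfl fun x _ => by rw [LinearEquiv.coe_toEquiv, hT]

theorem classify {n : ℕ} (hn : 1 ≤ n) {a b : F}
    (hab : ∀ z₁ z₂ : F, z₁ ^ 2 + a * z₁ * z₂ + b * z₂ ^ 2 = 0 → z₁ = 0 ∧ z₂ = 0) (U : USys F true)
    (hU : Module.finrank F U.S.V = 2 * n) :
    (∃ T : U.S.V ≃ₗ[F] (Fin n ⊕ Fin n → F), ∀ x, Cfsg.quadFormPlus n F (T x) = U.Q x) ∨
      ∃ T : U.S.V ≃ₗ[F] ((Fin (n - 1) ⊕ Fin (n - 1)) ⊕ Fin 2 → F),
        ∀ x, Cfsg.quadFormMinus (n - 1) F a b (T x) = U.Q x := by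
  have hpolar : ∀ x y, QuadraticMap.polar U.Q x y = U.S.B x y := fun x y => by
    rw [QuadraticMap.polar, U.Qadd rfl]; ring
  let Q : QuadraticForm F U.S.V := QuadraticMap.ofPolar U.Q
    (fun c x => by rw [U.Qsmul rfl, smul_eq_mul, pow_two])
    (fun x x' y => by simp only [hpolar, map_add, LinearMap.add_apply])
    (fun c x y => by simp only [hpolar, map_smul, LinearMap.smul_apply])
  have hQ : (QuadraticMap.polarBilin Q).Nondegenerate :=
    ⟨fun x hx => U.S.nd x fun y => (hpolar x y).symm.trans (hx y),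
      fun y hy => FormSys53.nd' U.S fun x => (hpolar x y).symm.trans (hy x)⟩
  obtain ⟨k, e, f, W, hD, hW⟩ := exists_decomp Q hQ
  have hd := hD.2.2.2.2.2.1
  rw [finrank_top, hU] at hd
  by_cases h0 : Module.finrank F W = 0
  · obtain rfl : k = n := by omega
    obtain ⟨T, hT⟩ := iso_plus Q hD.1 hU
    exact Or.inl ⟨T, fun x => hT x⟩
  · obtain ⟨j, rfl⟩ : ∃ j, n = j + 1 := ⟨n - 1, by omega⟩
    obtain rfl : k = j := by omega
    obtain ⟨T, hT⟩ := iso_minus Q hD (by omega) hab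
    exact Or.inr ⟨T, fun x => hT x⟩

/-- The number of conjugacy classes of the full orthogonal groups O⁺(2n,q) and O⁻(2n,q), q even, 2n ≥ 4: for F a finite field of even order q and n ≥ 2, the number k of conjugacy classes of the isometry group of the hyperbolic quadratic form Σ xᵢyᵢ on F^{2n}, and likewise of the elliptic form Σ xᵢyᵢ + (z₁² + a z₁z₂ + b z₂²) with anisotropic binary part, satisfies q^n/2 ≤ k ≤ 15·q^n. -/
theorem result {F : Type*} [Field F] [Fintype F] (heven : Even (Fintype.card F)) (n : ℕ) (hn : 2 ≤ n) (a b : F) (hab : ∀ z₁ z₂ : F, z₁ ^ 2 + a * z₁ * z₂ + b * z₂ ^ 2 = 0 → z₁ = 0 ∧ z₂ = 0) :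
    (Fintype.card F ^ n ≤ 2 * Nat.card (ConjClasses ↥(Cfsg.isometryGroup F (Cfsg.quadFormPlus n F))) ∧
      Nat.card (ConjClasses ↥(Cfsg.isometryGroup F (Cfsg.quadFormPlus n F))) ≤ 15 * Fintype.card F ^ n) ∧
    (Fintype.card F ^ n ≤ 2 * Nat.card (ConjClasses ↥(Cfsg.isometryGroup F (Cfsg.quadFormMinus (n - 1) F a b))) ∧
      Nat.card (ConjClasses ↥(Cfsg.isometryGroup F (Cfsg.quadFormMinus (n - 1) F a b))) ≤ 15 * Fintype.card F ^ n) := by
  classical
  haveI : CharP F 2 := by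
    have h : ringChar F = 2 := by
      by_contra h
      have := FiniteField.odd_card_of_char_ne_two h
      rw [Nat.even_iff] at heven
      omega
    exact h ▸ ringChar.charP F
  have h1 : Fintype.card (Fin n ⊕ Fin n) = 2 * n := by simp; omega
  have h2 : Fintype.card ((Fin (n - 1) ⊕ Fin (n - 1)) ⊕ Fin 2) = 2 * n := by simp; omega
  have nP := AutOrth45Forms.nondegenerate_qPlus (F := F) n
  have nM := AutOrth45Forms.nondegenerate_qMinus (F := F) (a := a) (b := b) hab (n - 1)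
  have sP : (0 : ℤ) < ∑ v : Fin n ⊕ Fin n → F, UniTwoGauss53.chi (Cfsg.quadFormPlus n F v) := by
    rw [sum_plus]
    have : (0 : ℤ) < Fintype.card F := by exact_mod_cast Fintype.card_pos
    positivity
  have sM := sum_minus (n - 1) hab
  rw [← QuadClassify.qPlus_coe, ← QuadClassify.qMinus_coe]
  refine ⟨⟨UniTwoRealise53.lower hn 1 (Or.inl rfl) fun U hU hG => ?_, UniTwoOrth53.upper nP h1 (by omega)⟩,
    UniTwoRealise53.lower hn (-1) (Or.inr rfl) fun U hU hG => ?_, UniTwoOrth53.upper nM h2 (by omega)⟩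
  · rcases classify (by omega) hab U hU with ⟨T, hT⟩ | ⟨T, hT⟩
    · exact ⟨T, fun x => by rw [QuadClassify.qPlus_coe]; exact hT x⟩
    · have := G_of_equiv _ T hT
      omega
  · rcases classify (by omega) hab U hU with ⟨T, hT⟩ | ⟨T, hT⟩
    · have := G_of_equiv _ T hT
      omega
    · exact ⟨T, fun x => by rw [QuadClassify.qMinus_coe]; exact hT x⟩

end Cfsg.Agent.S2559
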