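import Cfsg.Statements.S2561
import Cfsg.Agent.Lib.QuadFormF2

set_option autoImplicit false
open Cfsg

namespace Cfsg.Agent.S2561

open Cfsg.Agent.QuadFormF2

/-- Fix the non-singular alternating form on the 2m-dimensional space over the field of two elements obtained by polarizing the plus-type form Σ xᵢyᵢ (m ≥ 1). The functions q on the space with q(u + v) = q(u) + q(v) + f(u, v) (the quadratic forms polarizing to f) number 2^(2m); each is equivalent under an invertible linear map either to the plus-type form or to the minus-type form Σ xᵢyᵢ + (z₁² + z₁z₂ + z₂²); and those of plus type number 2^(2m−1) + 2^(m−1), those of minus type 2^(2m−1) − 2^(m−1). -/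
theorem result (m : ℕ) (hm : 1 ≤ m) :
    Nat.card {q : (Fin m ⊕ Fin m → ZMod 2) → ZMod 2 // (∀ u v : (Fin m ⊕ Fin m → ZMod 2), q (u + v) = q u + q v + (Cfsg.quadFormPlus m (ZMod 2) (u + v) - Cfsg.quadFormPlus m (ZMod 2) u - Cfsg.quadFormPlus m (ZMod 2) v))} = 2 ^ (2 * m) ∧
    (∀ q : (Fin m ⊕ Fin m → ZMod 2) → ZMod 2, (∀ u v : (Fin m ⊕ Fin m → ZMod 2), q (u + v) = q u + q v + (Cfsg.quadFormPlus m (ZMod 2) (u + v) - Cfsg.quadFormPlus m (ZMod 2) u - Cfsg.quadFormPlus m (ZMod 2) v)) →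
      (∃ g : (Fin m ⊕ Fin m → ZMod 2) ≃ₗ[ZMod 2] (Fin m ⊕ Fin m → ZMod 2), ∀ v, q v = Cfsg.quadFormPlus m (ZMod 2) (g v)) ∨
      (∃ g : (Fin m ⊕ Fin m → ZMod 2) ≃ₗ[ZMod 2] ((Fin (m - 1) ⊕ Fin (m - 1)) ⊕ Fin 2 → ZMod 2), ∀ v, q v = Cfsg.quadFormMinus (m - 1) (ZMod 2) 1 1 (g v))) ∧
    Nat.card {q : (Fin m ⊕ Fin m → ZMod 2) → ZMod 2 // (∀ u v : (Fin m ⊕ Fin m → ZMod 2), q (u + v) = q u + q v + (Cfsg.quadFormPlus m (ZMod 2) (u + v) - Cfsg.quadFormPlus m (ZMod 2) u - Cfsg.quadFormPlus m (ZMod 2) v)) ∧ ∃ g : (Fin m ⊕ Fin m → ZMod 2) ≃ₗ[ZMod 2] (Fin m ⊕ Fin m → ZMod 2), ∀ v, q v = Cfsg.quadFormPlus m (ZMod 2) (g v)} = 2 ^ (2 * m - 1) + 2 ^ (m - 1) ∧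
    Nat.card {q : (Fin m ⊕ Fin m → ZMod 2) → ZMod 2 // (∀ u v : (Fin m ⊕ Fin m → ZMod 2), q (u + v) = q u + q v + (Cfsg.quadFormPlus m (ZMod 2) (u + v) - Cfsg.quadFormPlus m (ZMod 2) u - Cfsg.quadFormPlus m (ZMod 2) v)) ∧ ∃ g : (Fin m ⊕ Fin m → ZMod 2) ≃ₗ[ZMod 2] ((Fin (m - 1) ⊕ Fin (m - 1)) ⊕ Fin 2 → ZMod 2), ∀ v, q v = Cfsg.quadFormMinus (m - 1) (ZMod 2) 1 1 (g v)} = 2 ^ (2 * m - 1) - 2 ^ (m - 1) := by
  classical
  simp only [Cfsg.Agent.QuadFormF2.polar_Q]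
  obtain ⟨k, rfl⟩ : ∃ k, m = k + 1 := ⟨m - 1, by omega⟩
  simp only [Nat.add_sub_cancel]
  let E : V (k + 1) ≃ {q : V (k + 1) → ZMod 2 // ∀ u v, q (u + v) = q u + q v + f u v} :=
    Equiv.ofBijective (fun w => ⟨qw w, qw_polar w⟩) ⟨fun a b h => qw_injective (congrArg Subtype.val h),
      fun q => by obtain ⟨w, hw⟩ := exists_qw q.1 q.2; exact ⟨w, Subtype.ext hw.symm⟩⟩
  have h01 : ∀ w : V (k + 1), Q w = 0 ∨ Q w = 1 := fun w => by generalize Q w = x; revert x; decide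
  have hplus : ∀ w : V (k + 1), (∃ g : V (k + 1) ≃ₗ[ZMod 2] V (k + 1), ∀ v, qw w v = Q (g v)) ↔ Q w = 0 := by
    intro w
    refine ⟨fun ⟨g, hg⟩ => ?_, exists_plus_equiv w⟩
    have := Q_eq_of_equiv w 0 g (fun v => by rw [qw_zero, hg])
    rw [this]; simp [Q, Cfsg.quadFormPlus]
  have hminus : ∀ w : V (k + 1), (∃ g : V (k + 1) ≃ₗ[ZMod 2] ((Fin k ⊕ Fin k) ⊕ Fin 2 → ZMod 2),
      ∀ v, qw w v = Cfsg.quadFormMinus k (ZMod 2) 1 1 (g v)) ↔ Q w = 1 := by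
    intro w
    refine ⟨fun ⟨g, hg⟩ => ?_, exists_minus_equiv w⟩
    let e : V (k + 1) := Pi.single (.inl 0) 1 + Pi.single (.inr 0) 1
    have he : Q e = 1 := by simp [Q, Cfsg.quadFormPlus, e, Pi.single_apply]
    obtain ⟨g', hg'⟩ := exists_minus_equiv e he
    rw [← he]
    exact Q_eq_of_equiv w e (g.trans g'.symm) (fun v => by rw [hg, hg']; simp)
  refine ⟨?_, ?_, ?_, ?_⟩
  · rw [← Nat.card_congr E, Nat.card_fun]
    simp [two_mul]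
  · intro q hq
    obtain ⟨w, rfl⟩ := exists_qw q hq
    rcases h01 w with h | h
    · exact Or.inl ((hplus w).2 h)
    · exact Or.inr ((hminus w).2 h)
  · refine Eq.trans ?_ ((card_Q (k + 1) hm).1.trans (by rw [Nat.add_sub_cancel]))
    refine (Nat.card_congr ((E.subtypeEquiv (q := fun q => ∃ g : V (k + 1) ≃ₗ[ZMod 2] V (k + 1), ∀ v, q.1 v = Q (g v))
      (fun w => (hplus w).symm)).trans (Equiv.subtypeSubtypeEquivSubtypeInter (fun q : V (k + 1) → ZMod 2 => ∀ u v, q (u + v) = q u + q v + f u v) (fun q => ∃ g : V (k + 1) ≃ₗ[ZMod 2] V (k + 1), ∀ v, q v = Q (g v))))).symm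
  · refine Eq.trans ?_ ((card_Q (k + 1) hm).2.trans (by rw [Nat.add_sub_cancel]))
    refine (Nat.card_congr ((E.subtypeEquiv (q := fun q => ∃ g : V (k + 1) ≃ₗ[ZMod 2] ((Fin k ⊕ Fin k) ⊕ Fin 2 → ZMod 2), ∀ v, q.1 v = Cfsg.quadFormMinus k (ZMod 2) 1 1 (g v))
      (fun w => (hminus w).symm)).trans (Equiv.subtypeSubtypeEquivSubtypeInter (fun q : V (k + 1) → ZMod 2 => ∀ u v, q (u + v) = q u + q v + f u v) (fun q => ∃ g : V (k + 1) ≃ₗ[ZMod 2] ((Fin k ⊕ Fin k) ⊕ Fin 2 → ZMod 2), ∀ v, q v = Cfsg.quadFormMinus k (ZMod 2) 1 1 (g v))))).symm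

end Cfsg.Agent.S2561
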