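import Cfsg.Statements.S2562
import Cfsg.Agent.Lib.QuadFormF2

set_option autoImplicit false
open Cfsg

namespace Cfsg.Agent.S2562

open Cfsg.Agent.QuadFormF2

/-- Witt indices over the field of two elements, m ≥ 1: for the plus-type form Σ xᵢyᵢ in dimension 2m some m-dimensional subspace is totally singular and no totally singular subspace has larger dimension; for the minus-type form Σ xᵢyᵢ + (z₁² + z₁z₂ + z₂²) in dimension 2m the maximal dimension of a totally singular subspace is m − 1. -/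
theorem result (m : ℕ) (hm : 1 ≤ m) :
    (∃ U : Submodule (ZMod 2) (Fin m ⊕ Fin m → ZMod 2), (∀ u ∈ U, Cfsg.quadFormPlus m (ZMod 2) u = 0) ∧ Module.finrank (ZMod 2) ↥U = m) ∧
    (∀ U : Submodule (ZMod 2) (Fin m ⊕ Fin m → ZMod 2), (∀ u ∈ U, Cfsg.quadFormPlus m (ZMod 2) u = 0) → Module.finrank (ZMod 2) ↥U ≤ m) ∧
    (∃ U : Submodule (ZMod 2) ((Fin (m - 1) ⊕ Fin (m - 1)) ⊕ Fin 2 → ZMod 2), (∀ u ∈ U, Cfsg.quadFormMinus (m - 1) (ZMod 2) 1 1 u = 0) ∧ Module.finrank (ZMod 2) ↥U = m - 1) ∧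
    (∀ U : Submodule (ZMod 2) ((Fin (m - 1) ⊕ Fin (m - 1)) ⊕ Fin 2 → ZMod 2), (∀ u ∈ U, Cfsg.quadFormMinus (m - 1) (ZMod 2) 1 1 u = 0) → Module.finrank (ZMod 2) ↥U ≤ m - 1) := by
  classical
  obtain ⟨k, rfl⟩ : ∃ k, m = k + 1 := ⟨m - 1, by omega⟩
  simp only [Nat.add_sub_cancel]
  refine ⟨⟨LinearMap.range (LinearMap.funLeft (ZMod 2) (ZMod 2) (id : Fin (k + 1) → Fin (k + 1)) |>.prod 0 |> fun g =>
      (LinearEquiv.sumArrowLequivProdArrow (Fin (k + 1)) (Fin (k + 1)) (ZMod 2) (ZMod 2)).symm.toLinearMap ∘ₗ g), ?_, ?_⟩, ?_, ?_, ?_⟩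
  · rintro _ ⟨x, rfl⟩
    simp [Cfsg.quadFormPlus, LinearEquiv.sumArrowLequivProdArrow_symm_apply_inl, LinearEquiv.sumArrowLequivProdArrow_symm_apply_inr]
  · rw [LinearMap.finrank_range_of_inj, Module.finrank_fin_fun]
    intro x y h
    exact congrArg Prod.fst ((LinearEquiv.sumArrowLequivProdArrow (Fin (k + 1)) (Fin (k + 1)) (ZMod 2) (ZMod 2)).symm.injective h)
  · intro U hU
    exact (singular_le 0 U (fun u hu => by rw [qw_zero]; exact hU u hu)).1
  · let g : (Fin k → ZMod 2) →ₗ[ZMod 2] ((Fin k ⊕ Fin k) ⊕ Fin 2 → ZMod 2) :=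
      { toFun := fun x => Sum.elim (Sum.elim x 0) 0
        map_add' := fun x y => by funext s; rcases s with (s | s) | s <;> simp
        map_smul' := fun c x => by funext s; rcases s with (s | s) | s <;> simp }
    refine ⟨LinearMap.range g, ?_, ?_⟩
    · rintro _ ⟨x, rfl⟩
      simp [g, Cfsg.quadFormMinus]
    · rw [LinearMap.finrank_range_of_inj, Module.finrank_fin_fun]
      intro x y h
      funext i
      exact congrFun h (.inl (.inl i))
  · intro U hU
    let e : V (k + 1) := Pi.single (.inl 0) 1 + Pi.single (.inr 0) 1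
    have he : Q e = 1 := by simp [Q, Cfsg.quadFormPlus, e, Pi.single_apply]
    obtain ⟨g, hg⟩ := exists_minus_equiv e he
    have hs := singular_le e (U.map g.symm.toLinearMap) (by
      rintro _ ⟨u, hu, rfl⟩
      rw [hg]
      simpa using hU u hu)
    rw [LinearEquiv.finrank_map_eq] at hs
    obtain ⟨h1, h2⟩ := hs
    rcases h1.lt_or_eq with hlt | heq
    · exact Nat.lt_succ_iff.1 hlt
    exfalso
    have h0 := h2 heq
    rw [he] at h0
    exact one_ne_zero h0

end Cfsg.Agent.S2562
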