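import Cfsg.Statements.S2563
import Cfsg.Agent.Lib.QuadFormF2

set_option autoImplicit false
open Cfsg

namespace Cfsg.Agent.S2563

open Cfsg.Agent.QuadFormF2

variable (k : ℕ)


/-- Functions on the `4k+4` points. -/
abbrev P := Fin (4 * k + 4) → ZMod 2

/-- The short vectors. -/
def av (i : Fin (2 * k + 1)) : P k := fun s => if (s : ℕ) = 2 * i ∨ (s : ℕ) = 2 * i + 1 then 1 else 0

/-- The long vectors. -/
def bv (i : Fin (2 * k + 1)) : P k := fun s => if 2 * (i : ℕ) + 1 ≤ s ∧ (s : ℕ) ≤ 4 * k + 2 then 1 else 0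

/-- Weight. -/
def wt (v : P k) : ℕ := (Finset.univ.filter fun s => v s = 1).card

/-- Half the weight modulo 2. -/
def qq (v : P k) : ZMod 2 := ((wt k v / 2 : ℕ) : ZMod 2)

/-- Embedding. -/
def L : V (2 * k + 1) →ₗ[ZMod 2] P k :=
  Fintype.linearCombination (ZMod 2) (Sum.elim (av k) (bv k))

/-- Coordinates. -/
def proj : P k →ₗ[ZMod 2] V (2 * k + 1) where
  toFun v := Sum.elim (fun i => v ⬝ᵥ bv k i) (fun i => v ⬝ᵥ av k i)
  map_add' u v := by funext s; rcases s with i | i <;> simp [add_dotProduct]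
  map_smul' c u := by funext s; rcases s with i | i <;> simp [smul_dotProduct]

variable {k}

theorem count_range (lo hi : ℕ) (h : hi ≤ 4 * k + 4) :
    (Finset.univ.filter fun s : Fin (4 * k + 4) => lo ≤ (s : ℕ) ∧ (s : ℕ) < hi).card = hi - lo := by
  rw [← Nat.card_Ico lo hi]
  refine Finset.card_bij (fun s _ => (s : ℕ)) ?_ ?_ ?_
  · intro s hs; simpa [Finset.mem_Ico] using hs
  · intro a _ b _ hab; exact Fin.ext hab
  · intro b hb
    rw [Finset.mem_Ico] at hb
    exact ⟨⟨b, by omega⟩, by simp; omega, rfl⟩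

theorem dot_av (v : P k) (i : Fin (2 * k + 1)) :
    v ⬝ᵥ av k i = v ⟨2 * i, by omega⟩ + v ⟨2 * i + 1, by omega⟩ := by
  have hne : (⟨2 * (i : ℕ), by omega⟩ : Fin (4 * k + 4)) ≠ ⟨2 * i + 1, by omega⟩ := by simp
  rw [dotProduct, Finset.sum_eq_add _ _ hne]
  · simp [av]
  · intro c _ hc
    simp [Fin.ext_iff] at hc
    simp [av, hc]
  · simp
  · simp

theorem sum_eq_wt (v : P k) : ∑ s, v s = (wt k v : ZMod 2) := by
  rw [wt, ← Finset.sum_boole]
  refine Finset.sum_congr rfl fun s _ => ?_
  generalize v s = x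
  revert x; decide

theorem dot_eq_wt (u v : P k) :
    u ⬝ᵥ v = ((Finset.univ.filter fun s => u s = 1 ∧ v s = 1).card : ZMod 2) := by
  rw [← Finset.sum_boole]
  refine Finset.sum_congr rfl fun s _ => ?_
  generalize u s = x
  generalize v s = y
  revert x y; decide

theorem wt_add (u v : P k) :
    wt k (u + v) + 2 * (Finset.univ.filter fun s => u s = 1 ∧ v s = 1).card = wt k u + wt k v := by
  simp only [wt, Finset.card_filter, ← Finset.sum_add_distrib, Finset.mul_sum]
  refine Finset.sum_congr rfl fun s _ => ?_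
  rw [Pi.add_apply]
  generalize u s = x
  generalize v s = y
  revert x y; decide

theorem qq_add (u v : P k) (hu : ∑ s, u s = 0) (hv : ∑ s, v s = 0) :
    qq k (u + v) = qq k u + qq k v + u ⬝ᵥ v := by
  rw [sum_eq_wt, ZMod.natCast_eq_zero_iff] at hu hv
  obtain ⟨a, ha⟩ := hu
  obtain ⟨b, hb⟩ := hv
  have h := wt_add u v
  rw [dot_eq_wt]
  simp only [qq, ha, hb]
  rw [Nat.mul_div_cancel_left a (by norm_num), Nat.mul_div_cancel_left b (by norm_num)]
  generalize (Finset.univ.filter fun s => u s = 1 ∧ v s = 1).card = c at h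
  have : wt k (u + v) / 2 + 2 * c = a + b + c := by omega
  have h' := congrArg (fun t : ℕ => (t : ZMod 2)) this
  push_cast at h'
  rw [show (2 : ZMod 2) = 0 from rfl, zero_mul, add_zero] at h'
  exact h'

theorem qq_smul (c : ZMod 2) (v : P k) : qq k (c • v) = c * qq k v := by
  rcases (show c = 0 ∨ c = 1 by revert c; decide) with rfl | rfl
  · simp [qq, wt]
  · simp

theorem qq_compl (v : P k) (hv : ∑ s, v s = 0) : qq k (v + fun _ => 1) = qq k v := by
  have h1 : ∑ s : Fin (4 * k + 4), (1 : ZMod 2) = 0 := by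
    rw [Finset.sum_const, Finset.card_univ, Fintype.card_fin, nsmul_one]
    rw [show 4 * k + 4 = 2 * (2 * k + 2) by ring, Nat.cast_mul, show ((2 : ℕ) : ZMod 2) = 0 from rfl, zero_mul]
  rw [qq_add v _ hv h1]
  have h2 : qq k (fun _ => (1 : ZMod 2)) = 0 := by
    simp only [qq, wt, Finset.filter_true, Finset.card_univ, Fintype.card_fin]
    rw [show (4 * k + 4) / 2 = 2 * (k + 1) by omega, Nat.cast_mul, show ((2 : ℕ) : ZMod 2) = 0 from rfl, zero_mul]
  have h3 : v ⬝ᵥ (fun _ => (1 : ZMod 2)) = 0 := by simp [dotProduct, hv]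
  rw [h2, h3, add_zero, add_zero]

theorem av_sum (i : Fin (2 * k + 1)) : ∑ s, av k i s = 0 := by
  have h : ∑ s, av k i s = (1 : P k) ⬝ᵥ av k i := by simp [dotProduct]
  rw [h, dot_av]
  rfl

theorem bv_wt (i : Fin (2 * k + 1)) : wt k (bv k i) = 2 * ((2 * k + 1) - i) := by
  rw [wt, show (Finset.univ.filter fun s => bv k i s = 1) = Finset.univ.filter fun s : Fin (4 * k + 4) =>
    2 * (i : ℕ) + 1 ≤ (s : ℕ) ∧ (s : ℕ) < 4 * k + 3 from Finset.filter_congr fun s _ => by simp [bv]; omega,
    count_range _ _ (by omega)]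
  omega

theorem bv_sum (i : Fin (2 * k + 1)) : ∑ s, bv k i s = 0 := by
  rw [sum_eq_wt, bv_wt, Nat.cast_mul, show ((2 : ℕ) : ZMod 2) = 0 from rfl, zero_mul]

theorem L_sum (u : V (2 * k + 1)) : ∑ s, L k u s = 0 := by
  simp only [L, Fintype.linearCombination_apply, Finset.sum_apply, Pi.smul_apply, smul_eq_mul]
  rw [Finset.sum_comm]
  refine Finset.sum_eq_zero fun t _ => ?_
  rw [← Finset.mul_sum]
  rcases t with i | i <;> simp [av_sum, bv_sum]

theorem proj_L (u : V (2 * k + 1)) : proj k (L k u) = u := by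
  have hab : ∀ i j : Fin (2 * k + 1), av k i ⬝ᵥ bv k j = if i = j then 1 else 0 := by
    intro i j
    rw [dotProduct_comm, dot_av]
    simp only [bv, Fin.ext_iff]
    by_cases h1 : (i : ℕ) = j
    · rw [if_pos h1, if_neg (by omega), if_pos (by omega), zero_add]
    · rw [if_neg h1]
      by_cases h2 : (j : ℕ) < i
      · rw [if_pos (by omega), if_pos (by omega)]; rfl
      · rw [if_neg (by omega), if_neg (by omega), add_zero]
  have haa : ∀ i j : Fin (2 * k + 1), av k i ⬝ᵥ av k j = 0 := by
    intro i j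
    rw [dot_av]
    by_cases h : (i : ℕ) = j
    · simp [av, h]; rfl
    · simp [av, show ¬(2 * (j : ℕ) = 2 * i) by omega, show ¬(2 * (j : ℕ) = 2 * i + 1) by omega,
        show ¬(2 * (j : ℕ) + 1 = 2 * i) by omega, Ne.symm h]
  have hbb : ∀ i j : Fin (2 * k + 1), bv k i ⬝ᵥ bv k j = 0 := by
    intro i j
    rw [dot_eq_wt, show (Finset.univ.filter fun s => bv k i s = 1 ∧ bv k j s = 1) = Finset.univ.filter fun s : Fin (4 * k + 4) =>
      2 * (max (i : ℕ) j) + 1 ≤ (s : ℕ) ∧ (s : ℕ) < 4 * k + 3 from Finset.filter_congr fun s _ => by simp [bv]; omega,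
      count_range _ _ (by omega)]
    rw [show 4 * k + 3 - (2 * max (i : ℕ) j + 1) = 2 * (2 * k + 1 - max (i : ℕ) j) by omega, Nat.cast_mul,
      show ((2 : ℕ) : ZMod 2) = 0 from rfl, zero_mul]
  have : (proj k).comp (L k) = LinearMap.id := by
    refine LinearMap.pi_ext' fun t => LinearMap.ext_ring ?_
    funext s
    rcases t with j | j <;> rcases s with i | i <;>
      simp [L, proj, Fintype.linearCombination_apply, Pi.single_apply, hab, haa, hbb, dotProduct_comm (bv k _) (av k _), eq_comm]
  exact LinearMap.congr_fun this u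

theorem kernel_trivial (v : P k) (hv : ∑ s, v s = 0) (h : proj k v = 0) : v = 0 ∨ v = fun _ => 1 := by
  have ha : ∀ i : Fin (2 * k + 1), v ⟨2 * i, by omega⟩ = v ⟨2 * i + 1, by omega⟩ := by
    intro i
    have := congrFun h (.inr i)
    simp only [proj, LinearMap.coe_mk, AddHom.coe_mk, Sum.elim_inr, Pi.zero_apply, dot_av] at this
    exact CharTwo.add_eq_zero.1 this
  have hb : ∀ i : Fin (2 * k + 1), v ⬝ᵥ bv k i = 0 := fun i => congrFun h (.inl i)
  have hodd : ∀ i : Fin (2 * k + 1), v ⟨2 * i + 1, by omega⟩ = v ⟨2 * i + 2, by omega⟩ := by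
    intro i
    by_cases hi : (i : ℕ) + 1 < (2 * k + 1)
    · have e : bv k i = bv k ⟨i + 1, hi⟩ + (fun s => if (s : ℕ) = 2 * (i : ℕ) + 1 ∨ (s : ℕ) = 2 * i + 2 then 1 else 0 : P k) := by
        funext s
        simp only [bv, Pi.add_apply]
        have := hi
        by_cases h1 : 2 * ((i : ℕ) + 1) + 1 ≤ (s : ℕ) ∧ (s : ℕ) ≤ 4 * k + 2
        · rw [if_pos h1, if_pos (by omega), if_neg (by omega), add_zero]
        · rw [if_neg h1]
          by_cases h2 : (s : ℕ) = 2 * i + 1 ∨ (s : ℕ) = 2 * i + 2
          · rw [if_pos h2, if_pos (by omega), zero_add]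
          · rw [if_neg h2, if_neg (by omega), zero_add]
      have h0 := hb i
      rw [e, dotProduct_add, hb, zero_add, dotProduct] at h0
      rw [Finset.sum_eq_add (⟨2 * i + 1, by omega⟩ : Fin (4 * k + 4)) ⟨2 * i + 2, by omega⟩ (by simp)] at h0
      · simp at h0
        exact CharTwo.add_eq_zero.1 h0
      · intro c _ hc
        rw [if_neg, mul_zero]
        simp [Fin.ext_iff] at hc
        omega
      · simp
      · simp
    · have h0 := hb i
      rw [dotProduct, Finset.sum_eq_add (⟨2 * i + 1, by omega⟩ : Fin (4 * k + 4)) ⟨2 * i + 2, by omega⟩ (by simp)] at h0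
      · simp only [bv] at h0
        skip
        rw [if_pos (by omega), if_pos (by omega), mul_one, mul_one] at h0
        exact CharTwo.add_eq_zero.1 h0
      · intro c _ hc
        simp [Fin.ext_iff] at hc
        simp only [bv]
        skip
        rw [if_neg (by omega), mul_zero]
      · simp
      · simp
  have hall : ∀ j, ∀ hj : j ≤ 4 * k + 2, v ⟨j, by omega⟩ = v ⟨0, by omega⟩ := by
    intro j
    induction j with
    | zero => intro _; rfl
    | succ j ih =>
      intro hj
      rw [← ih (by omega)]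
      rcases Nat.even_or_odd' j with ⟨i, hi | hi⟩
      · subst hi; exact (ha ⟨i, by omega⟩).symm
      · subst hi; exact (hodd ⟨i, by omega⟩).symm
  have hlast : v (Fin.last (4 * k + 3)) = v ⟨0, by omega⟩ := by
    obtain ⟨c, hc⟩ : ∃ c, c = v ⟨0, by omega⟩ := ⟨_, rfl⟩
    replace hall : ∀ j, ∀ hj : j ≤ 4 * k + 2, v ⟨j, by omega⟩ = c := fun j hj => (hall j hj).trans hc.symm
    refine Eq.trans ?_ hc
    rw [Fin.sum_univ_castSucc] at hv
    rw [Finset.sum_congr rfl (fun (s : Fin (4 * k + 3)) _ => (hall s (by omega) : v s.castSucc = c)), Finset.sum_const,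
      Finset.card_univ, Fintype.card_fin, nsmul_eq_mul, show ((4 * k + 3 : ℕ) : ZMod 2) = ((2 * (2 * k + 1) + 1 : ℕ) : ZMod 2) by congr 1; ring, Nat.cast_add,
      Nat.cast_mul, show ((2 : ℕ) : ZMod 2) = 0 from rfl, zero_mul, zero_add, Nat.cast_one, one_mul] at hv
    exact (CharTwo.add_eq_zero.1 hv).symm
  have hconst : ∀ s, v s = v ⟨0, by omega⟩ := by
    intro s
    by_cases hs : (s : ℕ) ≤ 4 * k + 2
    · exact hall s hs
    · rw [show s = Fin.last (4 * k + 3) from Fin.ext (by simp; omega)]; exact hlast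
  rcases (show v ⟨0, by omega⟩ = 0 ∨ v ⟨0, by omega⟩ = 1 by generalize v ⟨0, _⟩ = x; revert x; decide) with h0 | h0
  · exact Or.inl (funext fun s => (hconst s).trans h0)
  · exact Or.inr (funext fun s => (hconst s).trans h0)

/-- For k ≥ 1 the symmetric group of degree 4k + 4 embeds in a full orthogonal group in dimension 4k + 2 over the field of two elements: in the isometry group of the plus-type form Σ xᵢyᵢ when k is odd, and in that of the minus-type form Σ xᵢyᵢ + (z₁² + z₁z₂ + z₂²) when k is even (through its action on even partitions of a (4k+4)-set, with the form 'half the size of a part, modulo 2'). -/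
theorem result (k : ℕ) (hk : 1 ≤ k) :
    (Odd k → ∃ φ : Equiv.Perm (Fin (4 * k + 4)) →* ↥(Cfsg.isometryGroup (ZMod 2) (Cfsg.quadFormPlus (2 * k + 1) (ZMod 2))), Function.Injective φ) ∧
    (Even k → ∃ φ : Equiv.Perm (Fin (4 * k + 4)) →* ↥(Cfsg.isometryGroup (ZMod 2) (Cfsg.quadFormMinus (2 * k) (ZMod 2) 1 1)), Function.Injective φ) := by
  classical
  let act : Equiv.Perm (Fin (4 * k + 4)) → P k →ₗ[ZMod 2] P k := fun σ =>
    LinearMap.funLeft (ZMod 2) (ZMod 2) (σ⁻¹ : Equiv.Perm (Fin (4 * k + 4)))
  have hact_sum : ∀ σ v, ∑ s, act σ v s = ∑ s, v s := fun σ v => Equiv.sum_comp σ⁻¹ v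
  have hact_q : ∀ σ v, qq k (act σ v) = qq k v := by
    intro σ v
    have : wt k (act σ v) = wt k v := by
      refine Finset.card_equiv σ⁻¹ fun s => ?_
      simp only [Finset.mem_filter, Finset.mem_univ, true_and]
      rfl
    simp [qq, this]
  have hproj : ∀ v : P k, ∑ s, v s = 0 → L k (proj k v) = v ∨ L k (proj k v) = v + fun _ => 1 := by
    intro v hv
    have hd : ∑ s, (L k (proj k v) + v) s = 0 := by
      simp only [Pi.add_apply, Finset.sum_add_distrib, L_sum, hv, add_zero]
    rcases kernel_trivial _ hd (by rw [map_add, proj_L]; exact funext fun s => CharTwo.add_self_eq_zero _) with h | h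
    · left; funext s; exact CharTwo.add_eq_zero.1 (congrFun h s)
    · right; funext s
      have := congrFun h s
      rw [Pi.add_apply] at this ⊢
      rw [← this, add_comm (L k (proj k v) s), ← add_assoc, CharTwo.add_self_eq_zero, zero_add]
  let Φ : Equiv.Perm (Fin (4 * k + 4)) → V (2 * k + 1) →ₗ[ZMod 2] V (2 * k + 1) := fun σ => (proj k).comp ((act σ).comp (L k))
  have hΦmul : ∀ σ τ, Φ (σ * τ) = Φ σ * Φ τ := by
    intro σ τ
    refine LinearMap.ext fun u => ?_
    show proj k (act (σ * τ) (L k u)) = proj k (act σ (L k (proj k (act τ (L k u)))))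
    have hc : act (σ * τ) (L k u) = act σ (act τ (L k u)) := by
      funext s; rfl
    rw [hc]
    rcases hproj _ ((hact_sum τ _).trans (L_sum u)) with h | h
    · rw [h]
    · rw [h, map_add, map_add]
      have h1 : act σ (fun _ => (1 : ZMod 2)) = fun _ => 1 := rfl
      have h2 : proj k (fun _ => (1 : ZMod 2)) = 0 := by
        funext t
        rcases t with i | i
        · show (fun _ => (1 : ZMod 2)) ⬝ᵥ bv k i = 0
          simp [dotProduct, bv_sum]
        · show (fun _ => (1 : ZMod 2)) ⬝ᵥ av k i = 0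
          simp [dotProduct, av_sum]
      rw [h1, h2, add_zero]
  have hΦone : Φ 1 = 1 := LinearMap.ext fun u => by
    show proj k (act 1 (L k u)) = u
    have : act 1 (L k u) = L k u := rfl
    rw [this, proj_L]
  have hΦq : ∀ σ u, qq k (L k (Φ σ u)) = qq k (L k u) := by
    intro σ u
    have hs : ∑ s, act σ (L k u) s = 0 := (hact_sum σ _).trans (L_sum u)
    show qq k (L k (proj k (act σ (L k u)))) = _
    rcases hproj _ hs with h | h
    · rw [h, hact_q]
    · rw [h, qq_compl _ hs, hact_q]
  have hpolar : ∀ u v, qq k (L k (u + v)) = qq k (L k u) + qq k (L k v) + f u v := by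
    intro u v
    rw [map_add, qq_add _ _ (L_sum u) (L_sum v)]
    congr 1
    have h := proj_L (k := k) v
    have : L k u ⬝ᵥ L k v = ∑ t, u t * (Sum.elim (fun i => proj k (L k v) (.inr i)) (fun i => proj k (L k v) (.inl i)) t) := by
      simp only [L, Fintype.linearCombination_apply, sum_dotProduct, smul_dotProduct, smul_eq_mul]
      refine Finset.sum_congr rfl fun t _ => ?_
      congr 1
      rcases t with i | i
      · exact dotProduct_comm _ _
      · exact dotProduct_comm _ _
    rw [this, h, Fintype.sum_sum_type, f, Finset.sum_add_distrib]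
    rfl
  obtain ⟨a, ha⟩ := exists_qw (fun u => qq k (L k u)) hpolar
  have ha1 : ∀ i, a (.inr i) = 1 := by
    intro i
    have h := congrFun ha (Pi.single (.inl i) 1)
    simp only [qw, f_single_left_inl] at h
    have hQ : Q (Pi.single (.inl i) 1 : V (2 * k + 1)) = 0 := by simp [Q, Cfsg.quadFormPlus, Pi.single_apply]
    have hL : L k (Pi.single (.inl i) 1) = av k i := by
      simp [L, Fintype.linearCombination_apply, Pi.single_apply, Fintype.sum_sum_type]
    rw [hQ, zero_add, hL] at h
    rw [← h]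
    have hw : wt k (av k i) = 2 := by
      rw [wt, show (Finset.univ.filter fun s => av k i s = 1) = Finset.univ.filter fun s : Fin (4 * k + 4) =>
        2 * (i : ℕ) ≤ (s : ℕ) ∧ (s : ℕ) < 2 * i + 2 from Finset.filter_congr fun s _ => by simp [av]; omega,
        count_range _ _ (by omega)]
      omega
    simp [qq, hw]
  have ha2 : ∀ i : Fin (2 * k + 1), a (.inl i) = (((2 * k + 1) - i : ℕ) : ZMod 2) := by
    intro i
    have h := congrFun ha (Pi.single (.inr i) 1)
    simp only [qw, f_single_left_inr] at h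
    have hQ : Q (Pi.single (.inr i) 1 : V (2 * k + 1)) = 0 := by simp [Q, Cfsg.quadFormPlus, Pi.single_apply]
    have hL : L k (Pi.single (.inr i) 1) = bv k i := by
      simp [L, Fintype.linearCombination_apply, Pi.single_apply, Fintype.sum_sum_type]
    rw [hQ, zero_add, hL] at h
    rw [← h, qq, bv_wt, Nat.mul_div_cancel_left _ (by norm_num)]
  have hQa : Q a = ((k + 1 : ℕ) : ZMod 2) := by
    show ∑ i : Fin (2 * k + 1), a (.inl i) * a (.inr i) = _
    simp only [ha1, ha2, mul_one, ← Nat.cast_sum]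
    rw [← Equiv.sum_comp Fin.revPerm]
    have : ∀ i : Fin (2 * k + 1), (2 * k + 1) - (Fin.revPerm i : ℕ) = i + 1 := fun i => by simp [Fin.revPerm_apply, Fin.val_rev]; omega
    simp only [this, Finset.sum_add_distrib, Fin.sum_univ_eq_sum_range (fun i => i) (2 * k + 1), Finset.sum_const,
      Finset.card_univ, Fintype.card_fin, smul_eq_mul, mul_one]
    have hg := Finset.sum_range_id_mul_two (2 * k + 1)
    have : (∑ i ∈ Finset.range (2 * k + 1), i) + (2 * k + 1) = (2 * k + 1) * (k + 1) := by
      rw [show 2 * k + 1 - 1 = 2 * k by omega] at hg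
      nlinarith
    rw [this, Nat.cast_mul, Nat.cast_add, Nat.cast_mul, show ((2 : ℕ) : ZMod 2) = 0 from rfl, zero_mul, zero_add,
      Nat.cast_one, one_mul]
  have main : ∀ {ι : Type} [Fintype ι] [DecidableEq ι] (q : (ι → ZMod 2) → ZMod 2) (g : V (2 * k + 1) ≃ₗ[ZMod 2] (ι → ZMod 2)),
      (∀ v, qw a v = q (g v)) → ∃ φ : Equiv.Perm (Fin (4 * k + 4)) →* ↥(Cfsg.isometryGroup (ZMod 2) q), Function.Injective φ := by
    intro ι _ _ q g hg
    let Ψ : Equiv.Perm (Fin (4 * k + 4)) →* Module.End (ZMod 2) (ι → ZMod 2) :=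
      { toFun := fun σ => g.conj (Φ σ)
        map_one' := by rw [hΦone]; exact LinearMap.ext fun x => by simp [LinearEquiv.conj_apply]
        map_mul' := fun σ τ => by rw [hΦmul]; exact LinearMap.ext fun x => by simp [LinearEquiv.conj_apply] }
    let M : Equiv.Perm (Fin (4 * k + 4)) →* GL ι (ZMod 2) :=
      ((Matrix.toLinAlgEquiv'.symm.toMulEquiv.toMonoidHom).comp Ψ).toHomUnits
    have hM : ∀ σ v, (M σ : Matrix ι ι (ZMod 2)).mulVec v = g (Φ σ (g.symm v)) := by
      intro σ v
      show (Matrix.toLinAlgEquiv'.symm (Ψ σ)).mulVec v = _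
      rw [← Matrix.toLinAlgEquiv'_apply, AlgEquiv.apply_symm_apply]
      rfl
    have hiso : ∀ σ, M σ ∈ Cfsg.isometryGroup (ZMod 2) q := by
      intro σ u _
      show q ((M σ : Matrix ι ι (ZMod 2)).mulVec u) = q u
      rw [hM, ← hg, ← congrFun ha]
      rw [hΦq, congrFun ha, hg, LinearEquiv.apply_symm_apply]
    refine ⟨M.codRestrict _ hiso, (injective_iff_map_eq_one _).2 fun σ hσ => ?_⟩
    have hfix : ∀ u, proj k (act σ (L k u)) = u := by
      intro u
      have h := hM σ (g u)
      rw [show M σ = 1 from congrArg Subtype.val hσ, Units.val_one, Matrix.one_mulVec, LinearEquiv.symm_apply_apply] at h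
      exact (g.injective h).symm
    by_contra hne
    obtain ⟨s, hs⟩ : ∃ s, σ⁻¹ s ≠ s := by
      by_contra hcon
      push Not at hcon
      exact hne (inv_eq_one.1 (Equiv.ext hcon))
    obtain ⟨t, ht1, ht2⟩ : ∃ t, t ≠ s ∧ t ≠ σ⁻¹ s := by
      obtain ⟨t, -, ht⟩ : ∃ t ∈ (Finset.univ : Finset (Fin (4 * k + 4))), t ∉ ({s, σ⁻¹ s} : Finset (Fin (4 * k + 4))) :=
        Finset.exists_mem_notMem_of_card_lt_card (lt_of_le_of_lt Finset.card_le_two (by simp))
      simp at ht
      exact ⟨t, ht⟩
    -- the pair `{s, t}` is moved to a set which is neither itself nor its complement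
    let v : P k := Pi.single s 1 + Pi.single t 1
    have hv : ∑ r, v r = 0 := by
      simp [v, Finset.sum_add_distrib]
      rfl
    have hkey : act σ v = v ∨ act σ v = v + fun _ => 1 := by
      have hd : ∑ r, (act σ v + v) r = 0 := by
        simp only [Pi.add_apply, Finset.sum_add_distrib, hact_sum, hv, add_zero]
      have hp : proj k (act σ v) = proj k v := by
        rcases hproj v hv with h | h
        · conv_lhs => rw [← h]
          exact hfix _
        · have hv' : v = L k (proj k v) + fun _ => 1 := by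
            rw [h, add_assoc]
            funext r
            simp [CharTwo.add_self_eq_zero]
          have h2 : proj k (fun _ => (1 : ZMod 2)) = 0 := by
            funext t
            rcases t with i | i
            · show (fun _ => (1 : ZMod 2)) ⬝ᵥ bv k i = 0
              simp [dotProduct, bv_sum]
            · show (fun _ => (1 : ZMod 2)) ⬝ᵥ av k i = 0
              simp [dotProduct, av_sum]
          conv_lhs => rw [hv']
          rw [map_add, map_add, hfix, show act σ (fun _ => (1 : ZMod 2)) = fun _ => 1 from rfl, h2, add_zero]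
      rcases kernel_trivial _ hd (by rw [map_add, hp]; exact funext fun r => CharTwo.add_self_eq_zero _) with h | h
      · left; funext r; exact CharTwo.add_eq_zero.1 (congrFun h r)
      · right; funext r
        have := congrFun h r
        rw [Pi.add_apply] at this ⊢
        rw [← this, add_comm (act σ v r), ← add_assoc, CharTwo.add_self_eq_zero, zero_add]
    have hw : ∀ w : P k, w = v → wt k w = 2 := by
      rintro _ rfl
      rw [wt, show (Finset.univ.filter fun r => v r = 1) = {s, t} from ?_, Finset.card_pair ht1.symm]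
      ext r
      simp only [Finset.mem_filter, Finset.mem_univ, true_and, Finset.mem_insert, Finset.mem_singleton, v, Pi.add_apply,
        Pi.single_apply]
      by_cases h1 : r = s <;> by_cases h2 : r = t <;> simp [h1, h2, ht1, Ne.symm ht1] at *
    rcases hkey with h | h
    · have := congrFun h s
      have e1 : act σ v s = 0 := by
        show (Pi.single s 1 : P k) (σ⁻¹ s) + (Pi.single t 1 : P k) (σ⁻¹ s) = 0
        rw [Pi.single_eq_of_ne hs, Pi.single_eq_of_ne ht2.symm, add_zero]
      rw [e1] at this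
      simp [v, ht1.symm] at this
    · have hw1 : wt k (act σ v) = 2 := by
        have : wt k (act σ v) = wt k v := Finset.card_equiv σ⁻¹ fun r => by
          simp only [Finset.mem_filter, Finset.mem_univ, true_and]
          rfl
        rw [this, hw v rfl]
      have h2 := wt_add v (fun _ => (1 : ZMod 2))
      rw [← h, hw1, hw v rfl] at h2
      simp only [and_true] at h2
      have hcv : (Finset.univ.filter fun r => v r = 1).card = 2 := hw v rfl
      rw [hcv] at h2
      have hall : wt k (fun _ => (1 : ZMod 2)) = 4 * k + 4 := by simp [wt]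
      omega
  constructor
  · intro hodd
    obtain ⟨g, hg⟩ := exists_plus_equiv a (by
      rw [hQa, ZMod.natCast_eq_zero_iff, ← even_iff_two_dvd, Nat.even_add_one, Nat.not_even_iff_odd]
      exact hodd)
    exact main _ g hg
  · intro heven
    obtain ⟨g, hg⟩ := exists_minus_equiv a (by
      rw [hQa, Nat.cast_add, Nat.cast_one, show ((k : ℕ) : ZMod 2) = 0 by
        rw [ZMod.natCast_eq_zero_iff, ← even_iff_two_dvd]; exact heven, zero_add])
    exact main _ g hg

end Cfsg.Agent.S2563
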