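import Cfsg.Statements.S2565
import Cfsg.Agent.S0256
import Cfsg.Agent.Lib.OrthUnitaryKlein
import Cfsg.Agent.Lib.OrthUnitarySmallIso
-- import your own Cfsg.Agent.* helpers here

set_option autoImplicit false
open Cfsg

namespace Cfsg.Agent.S2565

open Cfsg.Agent.OrthUnitaryKlein Cfsg.Agent.OrthUnitarySmallIso Cfsg.Agent.OrthUnitaryQuad
open Cfsg.Agent.OrthUnitaryIsoCore Cfsg.Agent.OrthUnitaryPrelude Cfsg.Agent.OrthUnitaryForms

/-- The commutator subgroup of the full orthogonal group of the plus-type form Σ xᵢyᵢ in dimension 6 over the field of two elements (the group Ω⁺₆(2), of index 2) is isomorphic to the alternating group of degree 8. -/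
theorem result :
    (Cfsg.Omega (ZMod 2) (Cfsg.quadFormPlus 3 (ZMod 2))).index = 2 ∧
    Nonempty (↥(Cfsg.Omega (ZMod 2) (Cfsg.quadFormPlus 3 (ZMod 2))) ≃* alternatingGroup (Fin 8)) := by
  refine ⟨?_, ?_⟩
  · have hf : quadFormPlus 3 (ZMod 2) = ⇑(qfPlus (ZMod 2) 3) :=
      funext fun v => (qfPlus_apply (ZMod 2) 3 v).symm
    rw [hf, index_Omega, index_commutator (nondegenerate_qfPlus 3)
      (by simp [Module.finrank_fintype_fun_eq_card]) (Or.inr (by simp [Module.finrank_fintype_fun_eq_card]))]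
    rfl
  · obtain ⟨⟨e1⟩, ⟨e2⟩⟩ := klein (F := ZMod 2)
    obtain ⟨e3⟩ := Cfsg.Agent.S0256.result (F := ZMod 2) (ZMod.card 2)
    have hk : (kleinHom (F := ZMod 2)).ker = ⊥ := by
      rw [← Subgroup.card_le_one_iff_eq_bot]
      exact (card_ker_kleinHom (F := ZMod 2)).1.trans (by rw [if_pos (by decide)])
    have hc : Subgroup.center (Matrix.SpecialLinearGroup (Fin 4) (ZMod 2)) = ⊥ := by
      rw [← Subgroup.card_le_one_iff_eq_bot, PSLCard.card_center_SL]
      simp
    exact ⟨e2.symm.trans ((QuotientGroup.quotientMulEquivOfEq (hk.trans hc.symm)).trans e3)⟩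

end Cfsg.Agent.S2565
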