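import Cfsg.Statements.S2566

set_option autoImplicit false
open Cfsg

namespace Cfsg.Agent.S2566

/-- The index type. -/
abbrev I := Fin 2 ⊕ Fin 2

/-- `GL₂(2)` from `S₃`, permuting the three nonzero vectors. -/
def P (σ : Equiv.Perm (Fin 3)) : Matrix (Fin 2) (Fin 2) (ZMod 2) :=
  Matrix.of fun i j => ((![![1, 0], ![0, 1], ![1, 1]] : Fin 3 → Fin 2 → ZMod 2) (σ j.castSucc)) i

/-- Coordinates as a `2×2` matrix. -/
def toM (v : I → ZMod 2) : Matrix (Fin 2) (Fin 2) (ZMod 2) :=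
  !![v (.inl 0), v (.inl 1); v (.inr 1), v (.inr 0)]

/-- And back. -/
def ofM (X : Matrix (Fin 2) (Fin 2) (ZMod 2)) : I → ZMod 2 :=
  Sum.elim ![X 0 0, X 0 1] ![X 1 1, X 1 0]

/-- Left multiplication. -/
def LA (σ : Equiv.Perm (Fin 3)) : Matrix I I (ZMod 2) :=
  Matrix.of fun i j => ofM (P σ * toM (Pi.single j 1)) i

/-- Right multiplication. -/
def RB (σ : Equiv.Perm (Fin 3)) : Matrix I I (ZMod 2) :=
  Matrix.of fun i j => ofM (toM (Pi.single j 1) * P σ⁻¹) i

/-- Transposition. -/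
def TT : Matrix I I (ZMod 2) :=
  Matrix.of fun i j => ofM (toM (Pi.single j 1)).transpose i

set_option maxRecDepth 10000 in
theorem fact0 : ∀ σ τ, LA (σ * τ) = LA σ * LA τ := by decide +kernel

set_option maxRecDepth 10000 in
theorem fact1 : ∀ σ τ, RB (σ * τ) = RB σ * RB τ := by decide +kernel

set_option maxRecDepth 10000 in
theorem fact2 : ∀ σ τ, LA σ * RB τ = RB τ * LA σ := by decide +kernel

set_option maxRecDepth 10000 in
theorem fact3 : ∀ σ, LA σ = 1 → σ = 1 := by decide +kernel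

set_option maxRecDepth 10000 in
theorem fact4 : ∀ σ, RB σ = 1 → σ = 1 := by decide +kernel

set_option maxRecDepth 10000 in
theorem fact5 : ∀ σ τ, LA σ = RB τ → σ = 1 := by decide +kernel

set_option maxRecDepth 10000 in
theorem fact6 : ∀ σ τ, LA σ * RB τ ≠ TT := by decide +kernel

set_option maxRecDepth 10000 in
theorem fact7 : TT * TT = 1 := by decide +kernel

set_option maxRecDepth 10000 in
theorem fact8 : ∀ σ, ∃ τ, TT * LA σ * TT = RB τ := by decide +kernel

set_option maxRecDepth 10000 in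
theorem fact9 : ∀ σ, ∃ τ, TT * LA τ * TT = RB σ := by decide +kernel

set_option maxRecDepth 10000 in
theorem fact10 : LA 1 = 1 := by decide +kernel

set_option maxRecDepth 10000 in
theorem fact11 : RB 1 = 1 := by decide +kernel

theorem facts : (∀ σ τ, LA (σ * τ) = LA σ * LA τ) ∧ (∀ σ τ, RB (σ * τ) = RB σ * RB τ) ∧ (∀ σ τ, LA σ * RB τ = RB τ * LA σ) ∧ (∀ σ, LA σ = 1 → σ = 1) ∧ (∀ σ, RB σ = 1 → σ = 1) ∧ (∀ σ τ, LA σ = RB τ → σ = 1) ∧ (∀ σ τ, LA σ * RB τ ≠ TT) ∧ (TT * TT = 1) ∧ (∀ σ, ∃ τ, TT * LA σ * TT = RB τ) ∧ (∀ σ, ∃ τ, TT * LA τ * TT = RB σ) ∧ (LA 1 = 1) ∧ (RB 1 = 1) :=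
  ⟨fact0, fact1, fact2, fact3, fact4, fact5, fact6, fact7, fact8, fact9, fact10, fact11⟩

set_option maxRecDepth 10000 in
theorem isom : (∀ σ, ∀ v : I → ZMod 2, Cfsg.quadFormPlus 2 (ZMod 2) ((LA σ).mulVec v) = Cfsg.quadFormPlus 2 (ZMod 2) v) ∧
    (∀ σ, ∀ v : I → ZMod 2, Cfsg.quadFormPlus 2 (ZMod 2) ((RB σ).mulVec v) = Cfsg.quadFormPlus 2 (ZMod 2) v) ∧
    (∀ v : I → ZMod 2, Cfsg.quadFormPlus 2 (ZMod 2) (TT.mulVec v) = Cfsg.quadFormPlus 2 (ZMod 2) v) := by
  decide +kernel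

/-- All vectors. -/
def vec (n : Fin 16) : I → ZMod 2 :=
  Sum.elim ![((n.val % 2 : ℕ) : ZMod 2), ((n.val / 2 % 2 : ℕ) : ZMod 2)] ![((n.val / 4 % 2 : ℕ) : ZMod 2), ((n.val / 8 : ℕ) : ZMod 2)]

/-- The form. -/
def qb (n : Fin 16) : Bool := decide (Cfsg.quadFormPlus 2 (ZMod 2) (vec n) = 0)

/-- Orthogonality. -/
def fb (a b : Fin 16) : Bool :=
  decide (Cfsg.quadFormPlus 2 (ZMod 2) (vec a + vec b) = Cfsg.quadFormPlus 2 (ZMod 2) (vec a) + Cfsg.quadFormPlus 2 (ZMod 2) (vec b))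

/-- Images of a hyperbolic basis. -/
def frames : List (Fin 16 × Fin 16 × Fin 16 × Fin 16) :=
  ((List.finRange 16).filter qb).flatMap fun a =>
    ((List.finRange 16).filter fun c => qb c && !fb a c).flatMap fun c =>
      ((List.finRange 16).filter fun b => qb b && fb a b && fb c b).flatMap fun b =>
        ((List.finRange 16).filter fun d => qb d && fb a d && fb c d && !fb b d).map fun d => (a, c, b, d)

set_option maxRecDepth 10000 in
theorem frames_length : frames.length ≤ 72 := by decide +kernel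

set_option maxRecDepth 10000 in
theorem vec_surj : Function.Surjective vec := by decide +kernel

/-- The full orthogonal group of the plus-type form x₁y₁ + x₂y₂ in dimension 4 over the field of two elements has order 72 and is isomorphic to the wreath product of the symmetric group of degree 3 by a group of order 2: it has a normal subgroup isomorphic to the direct product of two symmetric groups of degree 3, of index 2, whose two direct factors are interchanged by conjugation by some element. -/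
theorem result :
    Nat.card ↥(Cfsg.isometryGroup (ZMod 2) (Cfsg.quadFormPlus 2 (ZMod 2))) = 72 ∧
    ∃ (A B : Subgroup ↥(Cfsg.isometryGroup (ZMod 2) (Cfsg.quadFormPlus 2 (ZMod 2)))),
      Nonempty (↥A ≃* Equiv.Perm (Fin 3)) ∧ Nonempty (↥B ≃* Equiv.Perm (Fin 3)) ∧ A ⊓ B = ⊥ ∧ (∀ a ∈ A, ∀ b ∈ B, a * b = b * a) ∧
      (A ⊔ B).index = 2 ∧ ∃ g : ↥(Cfsg.isometryGroup (ZMod 2) (Cfsg.quadFormPlus 2 (ZMod 2))), A.map (MulAut.conj g).toMonoidHom = B := by
  classical
  let O := Cfsg.isometryGroup (ZMod 2) (Cfsg.quadFormPlus 2 (ZMod 2))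
  have memO : ∀ g : GL I (ZMod 2), g ∈ O ↔ ∀ v, Cfsg.quadFormPlus 2 (ZMod 2) ((g : Matrix I I (ZMod 2)).mulVec v) = Cfsg.quadFormPlus 2 (ZMod 2) v :=
    fun g => ⟨fun h v => h v v, fun h v _ => h v⟩
  obtain ⟨hA, hB, hAB, hAi, hBi, hdis, hT, hTT, hc1, hc2, hA1, hB1⟩ := facts
  let a : Equiv.Perm (Fin 3) →* O := MonoidHom.codRestrict
    (MonoidHom.toHomUnits ⟨⟨LA, hA1⟩, hA⟩) O (fun σ => (memO _).2 (isom.1 σ))
  let b : Equiv.Perm (Fin 3) →* O := MonoidHom.codRestrict
    (MonoidHom.toHomUnits ⟨⟨RB, hB1⟩, hB⟩) O (fun σ => (memO _).2 (isom.2.1 σ))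
  let t : O := ⟨⟨TT, TT, hTT, hTT⟩, (memO _).2 isom.2.2⟩
  have ha : Function.Injective a := (injective_iff_map_eq_one a).2 fun σ h =>
    hAi σ (congrArg (fun g : O => (g.1.1 : Matrix I I (ZMod 2))) h)
  have hb : Function.Injective b := (injective_iff_map_eq_one b).2 fun σ h =>
    hBi σ (congrArg (fun g : O => (g.1.1 : Matrix I I (ZMod 2))) h)
  have hcomm : ∀ σ τ, Commute (a σ) (b τ) := fun σ τ => Subtype.ext (Units.ext (hAB σ τ))
  have hdisj : a.range ⊓ b.range = ⊥ := by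
    rw [eq_bot_iff]
    rintro x ⟨⟨σ, rfl⟩, ⟨τ, hτ⟩⟩
    rw [Subgroup.mem_bot, hdis σ τ (congrArg (fun g : O => (g.1.1 : Matrix I I (ZMod 2))) hτ.symm), map_one]
  let ab := MonoidHom.noncommCoprod a b hcomm
  have hab : Function.Injective ab := by
    rw [injective_iff_map_eq_one]
    rintro ⟨σ, τ⟩ h
    have h1 : a σ = b τ⁻¹ := by
      rw [map_inv, eq_inv_iff_mul_eq_one]
      exact h
    have hs := hdis σ τ⁻¹ (congrArg (fun g : O => (g.1.1 : Matrix I I (ZMod 2))) h1)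
    subst hs
    rw [map_one, eq_comm] at h1
    have : τ = 1 := by simpa using hb (h1.trans (map_one b).symm)
    rw [this]; rfl
  have hcardK : Nat.card ab.range = 36 := by
    rw [← Nat.card_congr (MonoidHom.ofInjective hab).toEquiv, Nat.card_prod, Nat.card_perm, Nat.card_fin]
    rfl
  have htK : t ∉ ab.range := by
    rintro ⟨⟨σ, τ⟩, h⟩
    exact hT σ τ (congrArg (fun g : O => (g.1.1 : Matrix I I (ZMod 2))) h)
  have hle : Nat.card O ≤ 72 := by
    refine le_trans ?_ frames_length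
    let col : GL I (ZMod 2) → I → Fin 16 := fun g s =>
      Function.surjInv vec_surj ((g : Matrix I I (ZMod 2)).mulVec (Pi.single s 1))
    have hcol : ∀ g s, vec (col g s) = (g : Matrix I I (ZMod 2)).mulVec (Pi.single s 1) := fun g s =>
      Function.surjInv_eq vec_surj _
    have hq : ∀ g ∈ O, ∀ s, qb (col g s) = true := by
      intro g hg s
      rw [qb, decide_eq_true_iff, hcol, (memO g).1 hg]
      revert s; decide +kernel
    have hf : ∀ g ∈ O, ∀ s r, fb (col g s) (col g r) =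
        decide (Cfsg.quadFormPlus 2 (ZMod 2) (Pi.single s 1 + Pi.single r 1) = Cfsg.quadFormPlus 2 (ZMod 2) (Pi.single s 1) + Cfsg.quadFormPlus 2 (ZMod 2) (Pi.single r 1)) := by
      intro g hg s r
      simp only [fb, hcol, ← Matrix.mulVec_add, (memO g).1 hg]
    let F : O → {x // x ∈ frames.toFinset} := fun g => ⟨(col g.1 (.inl 0), col g.1 (.inr 0), col g.1 (.inl 1), col g.1 (.inr 1)), by
      rw [List.mem_toFinset]
      simp only [frames, List.mem_flatMap, List.mem_map, List.mem_filter, List.mem_finRange, true_and,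
        Bool.and_eq_true, Bool.not_eq_true']
      refine ⟨_, hq _ g.2 _, _, ⟨hq _ g.2 _, ?_⟩, _, ⟨⟨hq _ g.2 _, ?_⟩, ?_⟩, _, ⟨⟨⟨hq _ g.2 _, ?_⟩, ?_⟩, ?_⟩, rfl⟩
      all_goals (rw [hf _ g.2]; decide +kernel)⟩
    have hF : Function.Injective F := by
      intro g h hgh
      have he := congrArg Subtype.val hgh
      simp only [F, Prod.mk.injEq] at he
      obtain ⟨e0, e1, e2, e3⟩ := he
      refine Subtype.ext (Units.ext (Matrix.ext_of_mulVec_single fun s => ?_))
      rw [← hcol, ← hcol]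
      rcases s with s | s <;> fin_cases s
      · exact congrArg vec e0
      · exact congrArg vec e2
      · exact congrArg vec e1
      · exact congrArg vec e3
    refine (Nat.card_le_card_of_injective F hF).trans ?_
    rw [Nat.card_eq_fintype_card, Fintype.card_coe]
    exact List.toFinset_card_le _
  have hcard : Nat.card O = 72 := by
    have hdvd := ab.range.card_mul_index
    rw [hcardK] at hdvd
    have hi1 : ab.range.index ≠ 1 := fun h => htK (by rw [Subgroup.index_eq_one.1 h]; trivial)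
    have hi0 : ab.range.index ≠ 0 := Subgroup.index_ne_zero_of_finite
    omega
  refine ⟨hcard, a.range, b.range, ⟨(MonoidHom.ofInjective ha).symm⟩, ⟨(MonoidHom.ofInjective hb).symm⟩, hdisj, ?_, ?_, t, ?_⟩
  · rintro _ ⟨σ, rfl⟩ _ ⟨τ, rfl⟩
    exact hcomm σ τ
  · have h : a.range ⊔ b.range = ab.range := (MonoidHom.noncommCoprod_range a b hcomm).symm
    have hdvd := ab.range.card_mul_index
    rw [hcardK, hcard] at hdvd
    show (a.range ⊔ b.range).index = 2
    rw [h]
    omega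
  · have hti : t⁻¹ = t := inv_eq_of_mul_eq_one_right (Subtype.ext (Units.ext hTT))
    ext x
    rw [Subgroup.mem_map]
    constructor
    · rintro ⟨_, ⟨σ, rfl⟩, rfl⟩
      obtain ⟨τ, hτ⟩ := hc1 σ
      refine ⟨τ, ?_⟩
      show b τ = t * a σ * t⁻¹
      rw [hti]
      exact Subtype.ext (Units.ext hτ.symm)
    · rintro ⟨σ, rfl⟩
      obtain ⟨τ, hτ⟩ := hc2 σ
      refine ⟨a τ, ⟨τ, rfl⟩, ?_⟩
      show t * a τ * t⁻¹ = b σ
      rw [hti]
      exact Subtype.ext (Units.ext hτ)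

end Cfsg.Agent.S2566
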