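import Cfsg.Statements.S2567

set_option autoImplicit false
open Cfsg

namespace Cfsg.Agent.S2567

/-- Lifting elements of prime order from PGL to GL: let F be a finite field with q elements, r a prime not dividing q − 1, and x an element of order r in GL_n(F) modulo its centre (the scalar matrices). Then x has exactly one preimage in GL_n(F) of order r. -/
theorem result {F : Type*} [Field F] [Fintype F] {q n r : ℕ} (hF : Fintype.card F = q) (hr : r.Prime) (hdiv : ¬ r ∣ q - 1) (x : GL (Fin n) F ⧸ Subgroup.center (GL (Fin n) F)) (hx : orderOf x = r) : ∃! g : GL (Fin n) F, (QuotientGroup.mk g : GL (Fin n) F ⧸ Subgroup.center (GL (Fin n) F)) = x ∧ orderOf g = r := by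
  classical
  subst hF
  have hscal : ∀ z : GL (Fin n) F, z ∈ Subgroup.center (GL (Fin n) F) → z ^ (Fintype.card F - 1) = 1 := by
    intro z hz
    rw [Matrix.GeneralLinearGroup.center_eq_range_scalar, MonoidHom.mem_range] at hz
    obtain ⟨c, rfl⟩ := hz
    rw [← map_pow, ← Fintype.card_units, pow_card_eq_one, map_one]
  have hcop : Nat.Coprime r (Fintype.card F - 1) := (Nat.Prime.coprime_iff_not_dvd hr).2 hdiv
  obtain ⟨g0, hg0⟩ := QuotientGroup.mk_surjective x
  have hx1 : x ^ r = 1 := by rw [← hx]; exact pow_orderOf_eq_one x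
  have hg0r : g0 ^ r ∈ Subgroup.center (GL (Fin n) F) := by
    rw [← QuotientGroup.eq_one_iff, QuotientGroup.mk_pow, hg0, hx1]
  have hroot : ∀ z : GL (Fin n) F, z ∈ Subgroup.center (GL (Fin n) F) →
      ∃ w ∈ Subgroup.center (GL (Fin n) F), w ^ r = z := by
    intro z hz
    have hc : (orderOf z).Coprime r :=
      (hcop.coprime_dvd_right (orderOf_dvd_of_pow_eq_one (hscal z hz))).symm
    obtain ⟨k, hk⟩ := exists_pow_eq_self_of_coprime hc.symm
    exact ⟨z ^ k, Subgroup.pow_mem _ hz k, by rw [← pow_mul, mul_comm, pow_mul]; exact hk⟩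
  obtain ⟨w, hw, hwr⟩ := hroot _ hg0r
  haveI := Fact.mk hr
  have hmk : (QuotientGroup.mk (g0 * w⁻¹) : GL (Fin n) F ⧸ Subgroup.center (GL (Fin n) F)) = x := by
    rw [QuotientGroup.mk_mul_of_mem _ (Subgroup.inv_mem _ hw), hg0]
  have hcomm : Commute g0 w⁻¹ := ((Subgroup.mem_center_iff.1 (Subgroup.inv_mem _ hw)) g0)
  have hpow : (g0 * w⁻¹) ^ r = 1 := by rw [hcomm.mul_pow, inv_pow, hwr, mul_inv_cancel]
  have hne : g0 * w⁻¹ ≠ 1 := by
    intro h
    rw [h, QuotientGroup.mk_one] at hmk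
    rw [← hmk, orderOf_one] at hx
    exact hr.one_lt.ne hx
  refine ⟨g0 * w⁻¹, ⟨hmk, orderOf_eq_prime hpow hne⟩, ?_⟩
  rintro g ⟨hgx, hgr⟩
  have hz : (g0 * w⁻¹)⁻¹ * g ∈ Subgroup.center (GL (Fin n) F) := QuotientGroup.eq.1 (hmk.trans hgx.symm)
  have hcz : Commute (g0 * w⁻¹) ((g0 * w⁻¹)⁻¹ * g) := (Subgroup.mem_center_iff.1 hz) _
  have hzr : ((g0 * w⁻¹)⁻¹ * g) ^ r = 1 := by
    have h := hcz.mul_pow r
    rw [mul_inv_cancel_left, hpow, one_mul, ← hgr, pow_orderOf_eq_one] at h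
    rw [← hgr]; exact h.symm
  have := pow_gcd_eq_one.2 ⟨hzr, hscal _ hz⟩
  rw [hcop.gcd_eq_one, pow_one, inv_mul_eq_one] at this
  exact this.symm

end Cfsg.Agent.S2567
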