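import Cfsg.Statements.S2568
import Cfsg.Agent.Lib.PrimeOrderClassCount
open Polynomial

set_option autoImplicit false
open Cfsg

namespace Cfsg.Agent.S2568

/-- Number of conjugacy classes of elements of a given prime order r, coprime to the characteristic, in GL_n(q): if i is the multiplicative order of q modulo r and t = (r − 1)/i, the classes correspond to the non-zero t-tuples of natural numbers (a_1, …, a_t) with i(a_1 + ⋯ + a_t) ≤ n (a_j is the multiplicity of the j-th Frobenius orbit of nontrivial r-th roots of unity among the eigenvalues), so there are exactly C(⌊n/i⌋ + t, t) − 1 of them. -/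
theorem result {F : Type*} [Field F] [Fintype F] {p q : ℕ} [Fact p.Prime] [CharP F p] (hF : Fintype.card F = q) (n r i t : ℕ) (hr : r.Prime) (hrp : r ≠ p) (hi : i = orderOf (q : ZMod r)) (ht : t * i = r - 1) : Nat.card {C : ConjClasses (GL (Fin n) F) // ∃ g : GL (Fin n) F, ConjClasses.mk g = C ∧ orderOf g = r} = Nat.choose (n / i + t) t - 1 := by
  classical
  obtain ⟨S, hS, hi0, hmem, hdeg⟩ :=
    Cfsg.Agent.PrimeOrderClassCount.exists_factors (p := p) hF hr hrp hi ht
  have hm : ∀ B ∈ S, B.Monic := fun B hB => ((hmem B).1 hB).1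
  let T := Cfsg.Agent.PrimeOrderClassCount.prods S i n
  have hT : ∀ P ∈ T, ∃ N, P ∣ (X ^ r - 1) ^ N := by
    rintro P ⟨f, -, rfl⟩
    refine ⟨(n - i * ∑ B ∈ S, f B) + ∑ B ∈ S, f B, ?_⟩
    rw [pow_add, ← Finset.prod_pow_eq_pow_sum]
    exact mul_dvd_mul (pow_dvd_pow_of_dvd (Cfsg.Agent.PrimeOrderClassCount.lin_dvd_X_pow_sub_one r) _)
      (Finset.prod_dvd_prod_of_dvd _ _ fun B hB => pow_dvd_pow_of_dvd ((hmem B).1 hB).2.2.1 _)
  rw [Cfsg.Agent.PrimeOrderClassCount.card_classes (ι := Fin n) (F := F) (p := p) hr hrp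
    (MonoidHom.id (GL (Fin n) F)) Function.injective_id ?_ T ?_ ?_ hT,
    Cfsg.Agent.PrimeOrderClassCount.ncard_prods hi0 hm id ?_ ?_, hS]
  · intro B hB B' hB'
    exact Cfsg.Agent.PrimeOrderClassCount.cnt_irreducible _ ((hmem B').1 hB').2.1 (hm B' hB')
  · exact fun B hB => ((hmem B).1 hB).2.2.2
  · intro g h hg hh hgh
    obtain ⟨P, hP⟩ := Cfsg.Agent.SemisimpleConjGL.exists_gl_conj
      (Cfsg.Agent.SemisimpleConjGL.isSemisimple_of_coprime (MonoidHom.id (GL (Fin n) F)) hg)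
      (Cfsg.Agent.SemisimpleConjGL.isSemisimple_of_coprime (MonoidHom.id (GL (Fin n) F)) hh) hgh
    have hPu : (P : GL (Fin n) F) * g = h * P := Units.ext hP
    exact isConj_iff.2 ⟨P, by rw [hPu, mul_inv_cancel_right]⟩
  · intro g hg
    refine Cfsg.Agent.PrimeOrderClassCount.mem_prods hm hdeg
      (fun P => P.Monic ∧ ∀ μ : F[X], μ.Monic → Irreducible μ → μ ∣ P → μ ∣ X ^ r - 1)
      (fun P h => h.1) ?_ n _ ⟨Matrix.charpoly_monic _, fun μ _ hirr hd =>
        Cfsg.Agent.PrimeOrderClassCount.dvd_of_pow_eq_one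
          (by rw [← Units.val_pow_eq_pow_val]; simp [hg]) hirr hd⟩
      (by rw [Matrix.charpoly_natDegree_eq_dim, Fintype.card_fin])
    rintro P μ ⟨hP, hfac⟩ hμ hirr ⟨P', rfl⟩ hne
    have hP' : P'.Monic := hμ.of_mul_monic_left hP
    exact ⟨μ, (hmem μ).2 ⟨hμ, hirr, hfac μ hμ hirr (dvd_mul_right _ _), hne⟩,
      hirr.natDegree_pos.ne', P', rfl, hP', fun ν h1 h2 h3 => hfac ν h1 h2 (h3.mul_left _)⟩
  · intro P hP
    obtain ⟨hPm, hPd⟩ := Cfsg.Agent.PrimeOrderClassCount.prods_natDegree hm hdeg hP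
    obtain ⟨A, hA⟩ := Cfsg.Agent.SemisimpleConjGL.exists_matrix_charpoly P hPm hPd
    refine ⟨Matrix.GeneralLinearGroup.mkOfDetNeZero A ?_, hA⟩
    intro h0
    obtain ⟨N, Z, hZ⟩ := hT P hP
    have h1 := congrArg (eval 0) hZ
    rw [eval_mul, ← hA, ← Polynomial.coeff_zero_eq_eval_zero A.charpoly] at h1
    have h2 : A.charpoly.coeff 0 = 0 := by
      have := Matrix.det_eq_sign_charpoly_coeff A
      rw [h0] at this
      simpa using this.symm
    rw [h2, zero_mul] at h1
    simp [hr.ne_zero] at h1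

end Cfsg.Agent.S2568
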