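import Cfsg.Statements.S2569
import Cfsg.Agent.Lib.SemisimpleConjGL

set_option autoImplicit false
open Cfsg

namespace Cfsg.Agent.S2569

/-- In GL_n over a finite field of characteristic p, the conjugacy class of a semisimple element (an element of order prime to p) under the special linear group is its whole GL-conjugacy class: for every such x and every invertible g there is h of determinant one with h x h⁻¹ = g x g⁻¹. -/
theorem result {F : Type*} [Field F] [Fintype F] {p : ℕ} [Fact p.Prime] [CharP F p] {n : ℕ} (x g : GL (Fin n) F) (hx : (orderOf x).Coprime p) : ∃ h : GL (Fin n) F, (h : Matrix (Fin n) (Fin n) F).det = 1 ∧ h * x * h⁻¹ = g * x * g⁻¹ := by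
  classical
  rcases Nat.eq_zero_or_pos n with rfl | hn
  · exact ⟨g, Matrix.det_fin_zero, rfl⟩
  haveI : Nonempty (Fin n) := ⟨⟨0, hn⟩⟩
  have hg0 : (g : Matrix (Fin n) (Fin n) F).det ≠ 0 :=
    ((Matrix.isUnit_iff_isUnit_det _).1 g.isUnit).ne_zero
  obtain ⟨T, hT, hd⟩ := Cfsg.Agent.SemisimpleConjGL.exists_gl_commute_det
    (Cfsg.Agent.SemisimpleConjGL.isSemisimple_of_coprime (MonoidHom.id (GL (Fin n) F)) hx)
    (inv_ne_zero hg0)
  refine ⟨g * T, ?_, ?_⟩
  · rw [Units.val_mul, Matrix.det_mul, hd, mul_inv_cancel₀ hg0]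
  · have hTx : (T : GL (Fin n) F) * x = x * T := Units.ext hT
    rw [_root_.mul_inv_rev, mul_assoc g, hTx, ← mul_assoc g, ← mul_assoc, mul_assoc (g * x),
      mul_inv_cancel, mul_one]

end Cfsg.Agent.S2569
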