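import Cfsg.Statements.S2570
import Cfsg.Agent.Lib.JordanTypeClasses

set_option autoImplicit false
open Cfsg

namespace Cfsg.Agent.S2570

open Cfsg.Agent.JordanType

theorem rk_eq_zero_iff {n : ℕ} (μ : Nat.Partition n) (k : ℕ) : rk (parts μ) k = 0 ↔ ∀ a ∈ μ.parts, a ≤ k := by
  rw [rk, Finset.sum_eq_zero_iff]
  constructor
  · intro h a ha
    rw [← parts_map μ] at ha
    obtain ⟨i, -, rfl⟩ := Multiset.mem_map.1 ha
    have := h i (Finset.mem_univ _)
    omega
  · intro h i _
    have : parts μ i ∈ μ.parts := by rw [← parts_map μ]; exact Multiset.mem_map.2 ⟨i, Finset.mem_univ i, rfl⟩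
    have := h _ this
    omega

/-- Number of conjugacy classes of elements of order p in GL_n over a finite field of characteristic p: they correspond to the Jordan types, that is, to the partitions of n with all parts at most p other than the partition into ones, so there are (number of partitions of n with parts ≤ p) − 1 of them. -/
theorem result {F : Type*} [Field F] [Fintype F] {p : ℕ} [Fact p.Prime] [CharP F p] (n : ℕ) : Nat.card {C : ConjClasses (GL (Fin n) F) // ∃ g : GL (Fin n) F, ConjClasses.mk g = C ∧ orderOf g = p} = (Finset.univ.filter (fun μ : Nat.Partition n => ∀ a ∈ μ.parts, a ≤ p)).card - 1 := by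
  classical
  have hp := (Fact.out : p.Prime)
  have hpow : ∀ (μ : Nat.Partition n) (k : ℕ), ((repr F μ : Matrix (Fin n) (Fin n) F) - 1) ^ k = 0 ↔ ∀ a ∈ μ.parts, a ≤ k := by
    intro μ k
    rw [← rk_eq_zero_iff, ← rank_pow (F := F)]
    constructor
    · intro h; rw [h, Matrix.rank_zero]
    · intro h
      rw [Matrix.rank, Submodule.finrank_eq_zero, LinearMap.range_eq_bot] at h
      exact Matrix.toLin'.injective (h.trans (map_zero Matrix.toLin').symm)
  have heq : ∀ g : GL (Fin n) F, (∃ g', ConjClasses.mk g' = ConjClasses.mk g ∧ orderOf g' = p) ↔ orderOf g = p := by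
    intro g
    refine ⟨fun ⟨g', h1, h2⟩ => ?_, fun h => ⟨g, rfl, h⟩⟩
    obtain ⟨c, hc⟩ := ConjClasses.mk_eq_mk_iff_isConj.1 h1
    rw [← SemiconjBy.orderOf_eq _ hc, h2]
  have hbase := card_classes (F := F) (n := n) (fun g => orderOf g = p)
    (fun μ => (∀ a ∈ μ.parts, a ≤ p) ∧ ¬ ∀ a ∈ μ.parts, a ≤ 1) ?_ ?_ ?_
  · rw [show Nat.card {C : ConjClasses (GL (Fin n) F) // ∃ g : GL (Fin n) F, ConjClasses.mk g = C ∧ orderOf g = p} =
        Nat.card {C : ConjClasses (GL (Fin n) F) // ∃ g, orderOf g = p ∧ ConjClasses.mk g = C} from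
      Nat.card_congr (Equiv.subtypeEquivRight fun C => by simp only [and_comm]), hbase, Nat.card_eq_fintype_card,
      Fintype.card_subtype]
    let o : Nat.Partition n := ⟨Multiset.replicate n 1, fun {i} hi => by rw [Multiset.eq_of_mem_replicate hi]; omega, by simp⟩
    have ho : o ∈ Finset.univ.filter (fun μ : Nat.Partition n => ∀ a ∈ μ.parts, a ≤ p) := by
      simp only [Finset.mem_filter, Finset.mem_univ, true_and]
      intro a ha
      rw [Multiset.eq_of_mem_replicate ha]
      exact hp.one_le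
    rw [← Finset.card_erase_of_mem ho]
    congr 1
    ext μ
    simp only [Finset.mem_filter, Finset.mem_univ, true_and, Finset.mem_erase]
    refine ⟨fun h => ⟨fun h' => h.2 fun a ha => by rw [h'] at ha; exact (Multiset.eq_of_mem_replicate ha).le, h.1⟩,
      fun h => ⟨h.2, fun h' => h.1 (Nat.Partition.ext ?_)⟩⟩
    have hr : μ.parts = Multiset.replicate μ.parts.card 1 :=
      Multiset.eq_replicate.2 ⟨rfl, fun a ha => le_antisymm (h' a ha) (μ.parts_pos ha)⟩
    have hs := μ.parts_sum
    rw [hr, Multiset.sum_replicate, smul_eq_mul, mul_one] at hs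
    rw [hr, hs]
  · rintro g h ⟨c, hc⟩ hg
    rw [← SemiconjBy.orderOf_eq _ hc, hg]
  · intro g hg
    exact (isNilpotent_iff_pow_prime p g).1 ⟨1, by rw [hg, pow_one]⟩
  · intro μ
    have h1 : repr F μ = 1 ↔ ∀ a ∈ μ.parts, a ≤ 1 := by
      rw [← hpow μ 1, pow_one, sub_eq_zero, Units.ext_iff, Units.val_one]
    rw [orderOf_eq_prime_iff, Ne, h1, ← hpow μ p]
    have := pow_eq_one_iff p (repr F μ) 1
    rw [pow_one] at this
    rw [this]

end Cfsg.Agent.S2570
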