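import Cfsg.Statements.S2571
import Cfsg.Agent.Lib.RegularNilpotent

set_option autoImplicit false
open Cfsg

namespace Cfsg.Agent.S2571

open Cfsg.Agent.RegularNilpotent in
theorem comm_iff {F : Type*} [Field F] {n : ℕ} {M X : Matrix (Fin n) (Fin n) F} :
    Commute M X ↔ Commute (M + 1) X :=
  ⟨fun h => h.add_left (Commute.one_left X), fun h => by simpa using h.sub_left (Commute.one_left X)⟩

/-- Centraliser of a regular unipotent element in GL_n(q): if u is an invertible n × n matrix over the field with q elements, n ≥ 1, with (u − 1)^n = 0 and rank(u − 1) = n − 1 (a single unipotent Jordan block), then its centraliser in GL_n(q) has order (q − 1) q^(n−1). -/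
theorem result {F : Type*} [Field F] [Fintype F] {q n : ℕ} (hF : Fintype.card F = q) (hn : 1 ≤ n) (u : GL (Fin n) F) (hnil : ((u : Matrix (Fin n) (Fin n) F) - 1) ^ n = 0) (hreg : ((u : Matrix (Fin n) (Fin n) F) - 1).rank = n - 1) : Nat.card ↥(Subgroup.centralizer ({u} : Set (GL (Fin n) F))) = (q - 1) * q ^ (n - 1) := by
  classical
  subst hF
  let M : Matrix (Fin n) (Fin n) F := (u : Matrix (Fin n) (Fin n) F) - 1
  have hc := Fintype.card_fin n
  have hpos : 0 < n := hn
  have hu : ((u : Matrix (Fin n) (Fin n) F)) = M + 1 := by simp [M]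
  let i₀ : Fin n := ⟨0, hpos⟩
  have hU : ∀ c : Fin n → F, c i₀ ≠ 0 → IsUnit (Cfsg.Agent.RegularNilpotent.mpoly n M c) :=
    fun c h => (Cfsg.Agent.RegularNilpotent.isUnit_mpoly_iff hc hnil hreg hpos c).2 h
  let f : {c : Fin n → F // c i₀ ≠ 0} → Subgroup.centralizer ({u} : Set (GL (Fin n) F)) := fun c =>
    ⟨(hU c.1 c.2).unit, by
      rw [Subgroup.mem_centralizer_singleton_iff]
      apply Units.ext
      show Cfsg.Agent.RegularNilpotent.mpoly n M c.1 * (u : Matrix _ _ F) = (u : Matrix _ _ F) * _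
      rw [hu]
      exact (comm_iff.1 (Cfsg.Agent.RegularNilpotent.commute_mpoly c.1)).symm.eq⟩
  have hf : Function.Bijective f := by
    constructor
    · intro a b h
      exact Subtype.ext (Cfsg.Agent.RegularNilpotent.mpoly_injective hc hnil hreg
        (show ((f a).1.1 : Matrix (Fin n) (Fin n) F) = (f b).1.1 by rw [h]))
    · rintro ⟨x, hx⟩
      rw [Subgroup.mem_centralizer_singleton_iff] at hx
      have hx' : Commute M (x : Matrix _ _ F) := by
        rw [comm_iff, ← hu]
        exact (congrArg Units.val hx).symm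
      obtain ⟨c, hxc⟩ := Cfsg.Agent.RegularNilpotent.eq_mpoly_of_commute hc hnil hreg _ hx'
      have : c i₀ ≠ 0 := (Cfsg.Agent.RegularNilpotent.isUnit_mpoly_iff hc hnil hreg hpos c).1 (hxc ▸ x.isUnit)
      exact ⟨⟨c, this⟩, Subtype.ext (Units.ext hxc.symm)⟩
  have hcount : Nat.card {c : Fin n → F // c i₀ ≠ 0} = Nat.card ({x : F // x ≠ 0} × ({j : Fin n // j ≠ i₀} → F)) :=
    Nat.card_congr (((Equiv.funSplitAt i₀ F).subtypeEquiv (q := fun p => p.1 ≠ 0) fun c => Iff.rfl).trans
      (Equiv.prodSubtypeFstEquivSubtypeProd (p := fun x : F => x ≠ 0)))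
  rw [← Nat.card_congr (Equiv.ofBijective f hf), hcount, Nat.card_prod, Nat.card_fun]
  simp [Nat.card_eq_fintype_card, Fintype.card_subtype_compl]

end Cfsg.Agent.S2571
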