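import Cfsg.Statements.S2574
import Cfsg.Agent.Lib.RegularNilpotent

set_option autoImplicit false
open Cfsg

namespace Cfsg.Agent.S2574

/-- A regular unipotent element of the symplectic group has totally isotropic small invariant subspaces: over a finite field, if u ∈ Sp_2m(F) satisfies (u − 1)^(2m) = 0 and rank(u − 1) = 2m − 1, and W is a u-invariant subspace with 2 dim W ≤ 2m, then the alternating form vanishes identically on W. -/
theorem result {F : Type*} [Field F] [Finite F] {m : ℕ} (u : Matrix.symplecticGroup (Fin m) F) (hnil : ((u : Matrix (Fin m ⊕ Fin m) (Fin m ⊕ Fin m) F) - 1) ^ (2 * m) = 0) (hreg : ((u : Matrix (Fin m ⊕ Fin m) (Fin m ⊕ Fin m) F) - 1).rank = 2 * m - 1) (W : Submodule F (Fin m ⊕ Fin m → F)) (hW : ∀ v ∈ W, (u : Matrix (Fin m ⊕ Fin m) (Fin m ⊕ Fin m) F).mulVec v ∈ W) (hdim : 2 * Module.finrank F W ≤ 2 * m) : ∀ v ∈ W, ∀ w ∈ W, Cfsg.sympForm m F v w = 0 := by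
  classical
  let U : Matrix (Fin m ⊕ Fin m) (Fin m ⊕ Fin m) F := (u : Matrix (Fin m ⊕ Fin m) (Fin m ⊕ Fin m) F)
  let M := U - 1
  have hc : Fintype.card (Fin m ⊕ Fin m) = 2 * m := by simp [two_mul]
  have hMW : ∀ v ∈ W, M.mulVec v ∈ W := by
    intro v hv
    rw [Matrix.sub_mulVec, Matrix.one_mulVec]
    exact W.sub_mem (hW v hv) hv
  let d := Module.finrank F W
  have hd : W = LinearMap.ker (Matrix.mulVecLin (M ^ d)) :=
    Cfsg.Agent.RegularNilpotent.matrix_invariant_eq_ker hc hnil hreg W hMW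
  have hrange : LinearMap.range (Matrix.mulVecLin (M ^ (2 * m - d))) = W := by
    apply Submodule.eq_of_le_of_finrank_eq
    · rintro _ ⟨v, rfl⟩
      rw [hd, LinearMap.mem_ker, Matrix.mulVecLin_apply, Matrix.mulVecLin_apply, Matrix.mulVec_mulVec, ← pow_add,
        Nat.add_sub_cancel' (show d ≤ 2 * m by omega), hnil, Matrix.zero_mulVec]
    · have h := LinearMap.finrank_range_add_finrank_ker (Matrix.mulVecLin (M ^ (2 * m - d)))
      have h2 := Cfsg.Agent.RegularNilpotent.finrank_ker_pow (N := Matrix.toLinAlgEquiv' M)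
        (by rw [Module.finrank_pi, hc]) (Cfsg.Agent.RegularNilpotent.toEnd_hyps hnil hreg).1
        (Cfsg.Agent.RegularNilpotent.toEnd_hyps hnil hreg).2 (2 * m - d) (Nat.sub_le _ _)
      rw [Cfsg.Agent.RegularNilpotent.toEnd_pow] at h2
      rw [h2, Module.finrank_pi, hc] at h
      omega
  intro v hv w hw
  rw [← hrange] at hv hw
  obtain ⟨a, rfl⟩ := hv
  obtain ⟨b, rfl⟩ := hw
  let J := Matrix.J (Fin m) F
  let Ui : Matrix (Fin m ⊕ Fin m) (Fin m ⊕ Fin m) F := ((u⁻¹ : Matrix.symplecticGroup (Fin m) F) : Matrix _ _ F)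
  have hUi : U * Ui = 1 := congrArg Subtype.val (mul_inv_cancel u)
  have hiU : Ui * U = 1 := congrArg Subtype.val (inv_mul_cancel u)
  have hUJ : U.transpose * J = J * Ui := by
    have h := SymplecticGroup.mem_iff'.1 u.2
    calc U.transpose * J = U.transpose * J * (U * Ui) := by rw [hUi, mul_one]
      _ = J * Ui := by rw [← mul_assoc, h]
  have hcomm : Commute Ui M := ((show Commute Ui U from hiU.trans hUi.symm)).sub_right (Commute.one_right _)
  have h1 : M.transpose * J = J * (-(Ui * M)) := by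
    simp only [M, Matrix.transpose_sub, Matrix.transpose_one, sub_mul, one_mul, hUJ, mul_sub, hiU, mul_one,
      neg_sub]
  have hk : ∀ k, (M ^ k).transpose * J = J * (-(Ui * M)) ^ k := by
    intro k
    induction k with
    | zero => simp
    | succ k ih => rw [pow_succ', Matrix.transpose_mul, mul_assoc, h1, ← mul_assoc, ih, mul_assoc, ← pow_succ]
  show Matrix.mulVec _ a ⬝ᵥ J.mulVec (Matrix.mulVec _ b) = 0
  rw [← Matrix.vecMul_transpose, ← Matrix.dotProduct_mulVec, Matrix.mulVec_mulVec, Matrix.mulVec_mulVec,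
    hk, neg_pow, hcomm.mul_pow]
  simp only [mul_assoc, ← pow_add]
  rw [pow_eq_zero_of_le (show 2 * m ≤ 2 * m - d + (2 * m - d) by omega) hnil]
  simp

end Cfsg.Agent.S2574
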