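import Cfsg.Statements.S2575

set_option autoImplicit false
open Cfsg

namespace Cfsg.Agent.S2575

/-- Which diagonal involutions of PGL_n(q) lie in PSL_n(q), q odd: for the diagonal matrix t with i entries −1 and n − i entries 1, some non-zero scalar multiple of t has determinant one if and only if i is even or the 2-part of q − 1 exceeds the 2-part of n (that is, −1 is an n-th power in the field exactly in the latter case). -/
theorem result {F : Type*} [Field F] [Fintype F] {q : ℕ} (hF : Fintype.card F = q) (hq : Odd q) {n : ℕ} (hn : 1 ≤ n) (i : ℕ) (hi : i ≤ n) : (∃ c : F, c ≠ 0 ∧ (c • Matrix.diagonal (fun j : Fin n => if (j : ℕ) < i then (-1 : F) else 1)).det = 1) ↔ (Even i ∨ padicValNat 2 n < padicValNat 2 (q - 1)) := by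
  classical
  subst hF
  have hdet : ∀ c : F, (c • Matrix.diagonal (fun j : Fin n => if (j : ℕ) < i then (-1 : F) else 1)).det = c ^ n * (-1) ^ i := by
    intro c
    rw [Matrix.det_smul, Fintype.card_fin, Matrix.det_diagonal]
    congr 1
    rw [Finset.prod_ite, Finset.prod_const_one, mul_one, Finset.prod_const]
    congr 1
    have : (Finset.univ.filter fun j : Fin n => (j : ℕ) < i).map Fin.valEmbedding = Finset.range i := by
      ext x
      simp only [Finset.mem_map, Finset.mem_filter, Finset.mem_univ, true_and, Fin.valEmbedding_apply, Finset.mem_range]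
      constructor
      · rintro ⟨a, ha, rfl⟩; exact ha
      · intro hx; exact ⟨⟨x, by omega⟩, hx, rfl⟩
    rw [← Finset.card_map, this, Finset.card_range]
  simp only [hdet]
  rcases Nat.even_or_odd i with hie | hio
  · exact ⟨fun _ => Or.inl hie, fun _ => ⟨1, one_ne_zero, by rw [one_pow, one_mul, hie.neg_one_pow]⟩⟩
  have hne : (-1 : F) ≠ 1 := by
    intro h
    have h2 : ((2 : ℕ) : F) = 0 := by push_cast; linear_combination -h
    haveI := Fact.mk Nat.prime_two
    have := FiniteField.even_card_of_char_two (CharP.ringChar_of_prime_eq_zero Nat.prime_two h2)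
    rw [Nat.odd_iff] at hq
    omega
  rw [hio.neg_one_pow]
  simp only [Nat.not_even_iff_odd.2 hio, false_or]
  haveI := Fact.mk Nat.prime_two
  have hq1 : Fintype.card F - 1 ≠ 0 := by have := Fintype.one_lt_card (α := F); omega
  constructor
  · rintro ⟨c, hc0, hc⟩
    let u : Fˣ := Units.mk0 c hc0
    have hn0 : c ^ n = -1 := by linear_combination -hc
    have h1 : u ^ n ≠ 1 := fun h => hne (by rw [← hn0]; exact congrArg Units.val h)
    have h2 : u ^ (2 * n) = 1 := Units.ext (by rw [Units.val_pow_eq_pow_val, Units.val_one, mul_comm, pow_mul]; show (c ^ n) ^ 2 = 1; rw [hn0, neg_one_sq])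
    have hd1 : ¬ orderOf u ∣ n := fun h => h1 (orderOf_dvd_iff_pow_eq_one.1 h)
    have hd2 : orderOf u ∣ 2 * n := orderOf_dvd_of_pow_eq_one h2
    have hd3 : orderOf u ∣ Fintype.card F - 1 := by rw [← Fintype.card_units]; exact orderOf_dvd_card
    by_contra hle
    push Not at hle
    apply hd1
    have hg : orderOf u ∣ Nat.gcd (2 * n) (Fintype.card F - 1) := Nat.dvd_gcd hd2 hd3
    refine hg.trans ?_
    have hgn : Nat.gcd (2 * n) (Fintype.card F - 1) ∣ 2 * n := Nat.gcd_dvd_left _ _
    obtain ⟨k, o, ho, rfl⟩ := Nat.exists_eq_two_pow_mul_odd (show n ≠ 0 by omega)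
    have hk : padicValNat 2 (2 ^ k * o) = k := by
      rw [padicValNat.mul (by positivity) ho.pos.ne', padicValNat.prime_pow,
        padicValNat.eq_zero_of_not_dvd (by rw [Nat.two_dvd_ne_zero]; exact Nat.odd_iff.1 ho), add_zero]
    rw [hk] at hle
    set G := Nat.gcd (2 * (2 ^ k * o)) (Fintype.card F - 1) with hG
    have hG0 : G ≠ 0 := Nat.gcd_ne_zero_right hq1
    have hv : padicValNat 2 G ≤ k := by
      refine le_trans ?_ hle
      obtain ⟨e, he⟩ := Nat.gcd_dvd_right (2 * (2 ^ k * o)) (Fintype.card F - 1)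
      have he0 : e ≠ 0 := by intro h; rw [h, mul_zero] at he; exact hq1 he
      rw [he, ← hG, padicValNat.mul hG0 he0]
      exact Nat.le_add_right _ _
    obtain ⟨a, b, hb, hab⟩ := Nat.exists_eq_two_pow_mul_odd hG0
    have ha : padicValNat 2 G = a := by
      rw [hab, padicValNat.mul (by positivity) hb.pos.ne', padicValNat.prime_pow,
        padicValNat.eq_zero_of_not_dvd (by rw [Nat.two_dvd_ne_zero]; exact Nat.odd_iff.1 hb), add_zero]
    rw [hab]
    refine Nat.Coprime.mul_dvd_of_dvd_of_dvd (Nat.Coprime.pow_left _ (Nat.coprime_two_left.2 hb))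
      (Dvd.dvd.mul_right (pow_dvd_pow 2 (ha ▸ hv)) _) (Dvd.dvd.mul_left ?_ _)
    have hbd : b ∣ 2 ^ (k + 1) * o := by
      rw [pow_succ', mul_assoc]
      exact (Dvd.intro_left _ hab.symm).trans hgn
    exact (Nat.Coprime.pow_right _ (Nat.coprime_two_right.2 hb)).dvd_of_dvd_mul_left hbd
  · intro hlt
    obtain ⟨g, hg⟩ := IsCyclic.exists_ofOrder_eq_natCard (α := Fˣ)
    rw [Nat.card_eq_fintype_card, Fintype.card_units] at hg
    obtain ⟨k, o, ho, rfl⟩ := Nat.exists_eq_two_pow_mul_odd (show n ≠ 0 by omega)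
    have hk : padicValNat 2 (2 ^ k * o) = k := by
      rw [padicValNat.mul (by positivity) ho.pos.ne', padicValNat.prime_pow,
        padicValNat.eq_zero_of_not_dvd (by rw [Nat.two_dvd_ne_zero]; exact Nat.odd_iff.1 ho), add_zero]
    rw [hk] at hlt
    obtain ⟨d, hd⟩ : 2 ^ (k + 1) ∣ Fintype.card F - 1 := (padicValNat_dvd_iff_le hq1).2 hlt
    have hd0 : d ≠ 0 := by intro h; rw [h, mul_zero] at hd; exact hq1 hd
    let c := g ^ d
    have hc : orderOf c = 2 ^ (k + 1) := by
      rw [orderOf_pow_of_dvd hd0 (by rw [hg, hd]; exact Dvd.intro_left _ rfl), hg, hd,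
        Nat.mul_div_cancel _ (Nat.pos_of_ne_zero hd0)]
    have hsq : (((c : F)) ^ (2 ^ k * o)) ^ 2 = 1 := by
      rw [← pow_mul, show 2 ^ k * o * 2 = 2 ^ (k + 1) * o by ring, pow_mul, ← Units.val_pow_eq_pow_val, ← hc,
        pow_orderOf_eq_one, Units.val_one, one_pow]
    rcases sq_eq_one_iff.1 hsq with h | h
    · exfalso
      have h' : c ^ (2 ^ k * o) = 1 := Units.ext (by rw [Units.val_pow_eq_pow_val, h, Units.val_one])
      have hdv := orderOf_dvd_of_pow_eq_one h'
      rw [hc, pow_succ] at hdv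
      exact (Nat.odd_iff.1 ho) |> fun ho' => by
        have := (Nat.mul_dvd_mul_iff_left (show 0 < 2 ^ k by positivity)).1 hdv
        omega
    · exact ⟨c, c.ne_zero, by rw [h]; ring⟩

end Cfsg.Agent.S2575
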