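import Cfsg.Statements.S2576

set_option autoImplicit false
open Cfsg

namespace Cfsg.Agent.S2576

/-- Which involutions of PGL_2m(q) coming from a scalar of the quadratic extension field lie in PSL_2m(q), q odd: let μ generate the Sylow 2-subgroup of the multiplicative group of the field with q elements (μ has order the 2-part of q − 1) and let t be the block-diagonal matrix with m diagonal blocks [[0, 1], [μ, 0]] (so t² is the scalar μ and t is an involution modulo scalars). Then some non-zero scalar multiple of t has determinant one if and only if q ≡ 3 (mod 4) or the 2-part of q − 1 is less than the 2-part of 2m. -/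
theorem result {F : Type*} [Field F] [Fintype F] {q : ℕ} (hF : Fintype.card F = q) (hq : Odd q) {m : ℕ} (hm : 1 ≤ m) (μ : F) (hμ : orderOf μ = 2 ^ padicValNat 2 (q - 1)) : (∃ c : F, c ≠ 0 ∧ (c • Matrix.blockDiagonal (fun _ : Fin m => !![(0 : F), 1; μ, 0])).det = 1) ↔ (q % 4 = 3 ∨ padicValNat 2 (q - 1) < padicValNat 2 (2 * m)) := by
  classical
  subst hF
  have hdet : ∀ c : F, (c • Matrix.blockDiagonal (fun _ : Fin m => !![(0 : F), 1; μ, 0])).det = ((-μ) * c ^ 2) ^ m := by
    intro c
    rw [Matrix.det_smul, Matrix.det_blockDiagonal, Fintype.card_prod, Fintype.card_fin, Fintype.card_fin,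
      Finset.prod_const, Finset.card_univ, Fintype.card_fin, Matrix.det_fin_two, mul_pow, ← pow_mul]
    simp [mul_comm]
  simp only [hdet]
  haveI := Fact.mk Nat.prime_two
  have hne : (-1 : F) ≠ 1 := by
    intro h
    have h2 : ((2 : ℕ) : F) = 0 := by push_cast; linear_combination -h
    have := FiniteField.even_card_of_char_two (CharP.ringChar_of_prime_eq_zero Nat.prime_two h2)
    rw [Nat.odd_iff] at hq
    omega
  have hq1 : Fintype.card F - 1 ≠ 0 := by have := Fintype.one_lt_card (α := F); omega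
  obtain ⟨v, d, hd, hvd⟩ := Nat.exists_eq_two_pow_mul_odd hq1
  have hv : padicValNat 2 (Fintype.card F - 1) = v := by
    rw [hvd, padicValNat.mul (by positivity) hd.pos.ne', padicValNat.prime_pow,
      padicValNat.eq_zero_of_not_dvd (by rw [Nat.two_dvd_ne_zero]; exact Nat.odd_iff.1 hd), add_zero]
  rw [hv] at hμ ⊢
  obtain ⟨k, o, ho, rfl⟩ := Nat.exists_eq_two_pow_mul_odd (show m ≠ 0 by omega)
  have hk : padicValNat 2 (2 * (2 ^ k * o)) = k + 1 := by
    rw [← mul_assoc, ← pow_succ', padicValNat.mul (by positivity) ho.pos.ne', padicValNat.prime_pow,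
      padicValNat.eq_zero_of_not_dvd (by rw [Nat.two_dvd_ne_zero]; exact Nat.odd_iff.1 ho), add_zero]
  rw [hk]
  have hv1 : 1 ≤ v := by
    rcases Nat.eq_zero_or_pos v with h | h
    · subst h
      rw [pow_zero, one_mul] at hvd
      rw [Nat.odd_iff] at hq hd
      omega
    · exact h
  have hμv : μ ^ 2 ^ v = 1 := by rw [← hμ]; exact pow_orderOf_eq_one μ
  have hhalf : μ ^ 2 ^ (v - 1) = -1 := by
    have h2 : (μ ^ 2 ^ (v - 1)) ^ 2 = 1 := by
      rw [← pow_mul, ← pow_succ, Nat.sub_add_cancel hv1, hμv]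
    rcases sq_eq_one_iff.1 h2 with h | h
    · exfalso
      have := orderOf_dvd_of_pow_eq_one h
      rw [hμ, Nat.pow_dvd_pow_iff_le_right (by norm_num)] at this
      omega
    · exact h
  constructor
  · rintro ⟨c, hc0, hc⟩
    by_contra hcon
    push Not at hcon
    obtain ⟨hq3, hle⟩ := hcon
    have hv2 : 2 ≤ v := by
      by_contra h
      have : v = 1 := by omega
      subst this
      rw [Nat.odd_iff] at hq hd
      omega
    have hkv : k + 1 ≤ v := hle
    let y := ((-μ) * c ^ 2) ^ d
    have hy : y ^ 2 ^ (v - 1) = -1 := by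
      simp only [y]
      rw [← pow_mul, mul_comm d, pow_mul, mul_pow, ← pow_mul, ← pow_succ', Nat.sub_add_cancel hv1,
        (Even.pow_of_ne_zero (even_two : Even 2) (by omega : v - 1 ≠ 0)).neg_pow, hhalf, mul_pow,
        hd.neg_one_pow, ← pow_mul, ← hvd, FiniteField.pow_card_sub_one_eq_one c hc0, mul_one]
    have h1 : y ^ (2 ^ k * o) = 1 := by
      simp only [y]
      rw [← pow_mul, mul_comm d, pow_mul, hc, one_pow]
    have h2 : y ^ 2 ^ v = 1 := by
      rw [← Nat.sub_add_cancel hv1, pow_succ, pow_mul, hy, neg_one_sq]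
    have hyo := Nat.dvd_gcd (orderOf_dvd_of_pow_eq_one h1) (orderOf_dvd_of_pow_eq_one h2)
    have hg : Nat.gcd (2 ^ k * o) (2 ^ v) = 2 ^ k := by
      rw [Nat.Coprime.gcd_mul_right_cancel _ (Nat.Coprime.pow_right v (Nat.coprime_two_right.2 ho)),
        Nat.gcd_eq_left (pow_dvd_pow 2 (by omega))]
    rw [hg] at hyo
    have h3 : y ^ 2 ^ (v - 1) = 1 := orderOf_dvd_iff_pow_eq_one.1 (hyo.trans (pow_dvd_pow 2 (by omega)))
    exact hne (hy.symm.trans h3)
  · rintro (h3 | hlt)
    · refine ⟨1, one_ne_zero, ?_⟩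
      have : v = 1 := by
        by_contra h
        have h4 : 4 ∣ 2 ^ v * d := Dvd.dvd.mul_right (by rw [show (4:ℕ) = 2 ^ 2 by norm_num]; exact pow_dvd_pow 2 (by omega)) d
        rw [← hvd] at h4
        omega
      subst this
      simp only [Nat.sub_self, pow_zero, pow_one] at hhalf
      rw [hhalf, neg_neg, one_pow, one_mul, one_pow]
    · refine ⟨1, one_ne_zero, ?_⟩
      rw [one_pow, mul_one, pow_mul, (Even.pow_of_ne_zero (even_two : Even 2) (by omega : k ≠ 0)).neg_pow,
        show 2 ^ k = 2 ^ v * 2 ^ (k - v) by rw [← pow_add]; congr 1; omega, pow_mul, hμv, one_pow, one_pow]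

end Cfsg.Agent.S2576
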