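import Cfsg.Statements.S2577
import Cfsg.Agent.Lib.SquareScalarBasis

set_option autoImplicit false
open Cfsg

namespace Cfsg.Agent.S2577

open Matrix
open Cfsg.Agent.InvolBlocks Cfsg.Agent.SquareScalarBasis

section Classify

variable {F : Type*} [Field F] {n : ℕ}

/-- linear equivalences intertwining give similarity -/
theorem isConj_of_equiv {g h : Matrix (Fin n) (Fin n) F} (L : (Fin n → F) ≃ₗ[F] (Fin n → F))
    (hL : ∀ v, L (g *ᵥ v) = h *ᵥ L v) : IsConj g h := by
  refine ⟨⟨LinearMap.toMatrix' L.toLinearMap, LinearMap.toMatrix' L.symm.toLinearMap,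
    by rw [← LinearMap.toMatrix'_comp]; simp, by rw [← LinearMap.toMatrix'_comp]; simp⟩, ?_⟩
  apply Matrix.toLin'.injective
  refine LinearMap.ext fun v => ?_
  simp only [Matrix.toLin'_mul, Matrix.toLin'_toMatrix', LinearMap.comp_apply, Matrix.toLin'_apply, LinearEquiv.coe_coe]
  exact hL v

/-- the `+1` space and the `-1` space -/
theorem isCompl_eigen (h2 : (2 : F) ≠ 0) {g : Matrix (Fin n) (Fin n) F} (hg : g * g = 1) :
    IsCompl (LinearMap.ker (Matrix.toLin' (g - 1))) (LinearMap.ker (Matrix.toLin' (g + 1))) := by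
  have hp : ∀ v, v ∈ LinearMap.ker (Matrix.toLin' (g - 1)) ↔ g *ᵥ v = v := fun v => by
    rw [LinearMap.mem_ker, Matrix.toLin'_apply, Matrix.sub_mulVec, Matrix.one_mulVec, sub_eq_zero]
  have hm : ∀ v, v ∈ LinearMap.ker (Matrix.toLin' (g + 1)) ↔ g *ᵥ v = -v := fun v => by
    rw [LinearMap.mem_ker, Matrix.toLin'_apply, Matrix.add_mulVec, Matrix.one_mulVec, add_eq_zero_iff_eq_neg]
  refine ⟨Submodule.disjoint_def.2 fun v h1 h1' => ?_, codisjoint_iff.2 (Submodule.eq_top_iff'.2 fun v => ?_)⟩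
  · rw [hp] at h1
    rw [hm, h1, eq_neg_iff_add_eq_zero, ← two_smul F] at h1'
    exact (smul_eq_zero.1 h1').resolve_left h2
  · have hgg : g *ᵥ (g *ᵥ v) = v := by rw [Matrix.mulVec_mulVec, hg, Matrix.one_mulVec]
    have hv : v = (2 : F)⁻¹ • (v + g *ᵥ v) + (2 : F)⁻¹ • (v - g *ᵥ v) := by
      rw [← smul_add, add_add_sub_cancel, ← two_smul F, inv_smul_smul₀ h2]
    rw [hv]
    refine Submodule.add_mem_sup (Submodule.smul_mem _ _ ((hp _).2 ?_)) (Submodule.smul_mem _ _ ((hm _).2 ?_))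
    · rw [Matrix.mulVec_add, hgg, add_comm]
    · rw [Matrix.mulVec_sub, hgg, neg_sub]

theorem finrank_ker_add_rank (A : Matrix (Fin n) (Fin n) F) :
    A.rank + Module.finrank F (LinearMap.ker (Matrix.toLin' A)) = n := by
  have := (Matrix.toLin' A).finrank_range_add_finrank_ker
  rw [Module.finrank_fintype_fun_eq_card, Fintype.card_fin] at this
  exact this

theorem rank_plus (h2 : (2 : F) ≠ 0) {g : Matrix (Fin n) (Fin n) F} (hg : g * g = 1) :
    (g - 1).rank + (g + 1).rank = n := by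
  have h := Submodule.finrank_add_eq_of_isCompl (isCompl_eigen h2 hg)
  rw [Module.finrank_fintype_fun_eq_card, Fintype.card_fin] at h
  have h3 := finrank_ker_add_rank (g - 1)
  have h4 := finrank_ker_add_rank (g + 1)
  omega

theorem isConj_of_rank (h2 : (2 : F) ≠ 0) {g h : Matrix (Fin n) (Fin n) F} (hg : g * g = 1) (hh : h * h = 1)
    (hr : (g - 1).rank = (h - 1).rank) : IsConj g h := by
  have hg' := rank_plus h2 hg
  have hh' := rank_plus h2 hh
  have h3 := finrank_ker_add_rank (g - 1)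
  have h4 := finrank_ker_add_rank (g + 1)
  have h5 := finrank_ker_add_rank (h - 1)
  have h6 := finrank_ker_add_rank (h + 1)
  let e1 := LinearEquiv.ofFinrankEq (R := F) (LinearMap.ker (Matrix.toLin' (g - 1))) (LinearMap.ker (Matrix.toLin' (h - 1))) (by omega)
  let e2 := LinearEquiv.ofFinrankEq (R := F) (LinearMap.ker (Matrix.toLin' (g + 1))) (LinearMap.ker (Matrix.toLin' (h + 1))) (by omega)
  let L := (Submodule.prodEquivOfIsCompl _ _ (isCompl_eigen h2 hg)).symm.trans
    ((e1.prodCongr e2).trans (Submodule.prodEquivOfIsCompl _ _ (isCompl_eigen h2 hh)))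
  refine isConj_of_equiv L fun v => ?_
  obtain ⟨⟨⟨a, ha⟩, ⟨b, hb⟩⟩, rfl⟩ := (Submodule.prodEquivOfIsCompl _ _ (isCompl_eigen h2 hg)).surjective v
  have hga : g *ᵥ a = a := by
    rw [LinearMap.mem_ker, Matrix.toLin'_apply, Matrix.sub_mulVec, Matrix.one_mulVec, sub_eq_zero] at ha; exact ha
  have hgb : g *ᵥ b = -b := by
    rw [LinearMap.mem_ker, Matrix.toLin'_apply, Matrix.add_mulVec, Matrix.one_mulVec, add_eq_zero_iff_eq_neg] at hb
    exact hb
  have hha : ∀ a' : LinearMap.ker (Matrix.toLin' (h - 1)), h *ᵥ (a' : Fin n → F) = a' := fun a' => by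
    have := a'.2
    rw [LinearMap.mem_ker, Matrix.toLin'_apply, Matrix.sub_mulVec, Matrix.one_mulVec, sub_eq_zero] at this
    exact this
  have hhb : ∀ b' : LinearMap.ker (Matrix.toLin' (h + 1)), h *ᵥ (b' : Fin n → F) = -b' := fun b' => by
    have := b'.2
    rw [LinearMap.mem_ker, Matrix.toLin'_apply, Matrix.add_mulVec, Matrix.one_mulVec, add_eq_zero_iff_eq_neg] at this
    exact this
  have himg : g *ᵥ (Submodule.prodEquivOfIsCompl _ _ (isCompl_eigen h2 hg) (⟨a, ha⟩, ⟨b, hb⟩)) =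
      Submodule.prodEquivOfIsCompl _ _ (isCompl_eigen h2 hg) (⟨a, ha⟩, -⟨b, hb⟩) := by
    simp only [Submodule.coe_prodEquivOfIsCompl', Submodule.coe_neg]
    rw [Matrix.mulVec_add, hga, hgb]
  rw [himg]
  simp only [L, LinearEquiv.trans_apply, LinearEquiv.symm_apply_apply]
  simp only [LinearEquiv.prodCongr_apply, map_neg,
    Submodule.coe_prodEquivOfIsCompl', Submodule.coe_neg]
  rw [Matrix.mulVec_add, hha, hhb]
  simp

/-- a basis in which a square root of a non-square is standard -/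
theorem exists_pair_basis {g : Matrix (Fin n) (Fin n) F} {μ : F} (hμ : ∀ c : F, c * c ≠ μ) (hg : g * g = μ • 1) :
    ∃ (k : ℕ) (b : Module.Basis (Fin k × Fin 2) F (Fin n → F)), 2 * k = n ∧
      ∀ m, g *ᵥ b (m, 0) = b (m, 1) ∧ g *ᵥ b (m, 1) = μ • b (m, 0) := by
  have hgg : ∀ v, g *ᵥ (g *ᵥ v) = μ • v := fun v => by
    rw [Matrix.mulVec_mulVec, hg, Matrix.smul_mulVec, Matrix.one_mulVec]
  obtain ⟨k, r, b, hb⟩ := monomial_of_not_square (Matrix.toLin' g) μ hgg hμ
  have hr : r = 0 := by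
    by_contra hr
    obtain ⟨c, hc⟩ := hb (Sum.inr ⟨0, Nat.pos_of_ne_zero hr⟩)
    simp only [swapPairs, Sum.map_inr, id_eq, Matrix.toLin'_apply] at hc
    have h' := hgg (b (Sum.inr ⟨0, Nat.pos_of_ne_zero hr⟩))
    rw [hc, Matrix.mulVec_smul, hc, smul_smul] at h'
    have := congrArg (fun v => b.repr v (Sum.inr ⟨0, Nat.pos_of_ne_zero hr⟩)) h'
    simp at this
    exact hμ c this
  subst hr
  choose c hc using fun m : Fin k => hb (Sum.inl (m, 0))
  have hc' : ∀ m, g *ᵥ b (Sum.inl (m, 0)) = c m • b (Sum.inl (m, 1)) := fun m => by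
    have := hc m
    simp only [swapPairs, Sum.map_inl, Matrix.toLin'_apply] at this
    rw [this]; rfl
  have hc0 : ∀ m, c m ≠ 0 := fun m h => by
    have h' := hgg (b (Sum.inl (m, 0)))
    rw [hc', h, zero_smul, Matrix.mulVec_zero, eq_comm, smul_eq_zero] at h'
    exact h'.elim (fun h0 => hμ 0 (by rw [h0, mul_zero])) (b.ne_zero _)
  let w : Fin k × Fin 2 → Fˣ := fun p => if p.2 = 0 then 1 else Units.mk0 (c p.1) (hc0 p.1)
  refine ⟨k, (b.reindex (Equiv.sumEmpty _ _)).unitsSMul w, ?_, fun m => ⟨?_, ?_⟩⟩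
  · have := Module.finrank_eq_card_basis b
    simp [Fintype.card_sum] at this
    omega
  · rw [Module.Basis.unitsSMul_apply, Module.Basis.unitsSMul_apply, Module.Basis.reindex_apply, Module.Basis.reindex_apply]
    simp [w, hc', Units.smul_def]
  · rw [Module.Basis.unitsSMul_apply, Module.Basis.unitsSMul_apply, Module.Basis.reindex_apply, Module.Basis.reindex_apply]
    simp only [w, Equiv.sumEmpty_symm_apply, one_ne_zero, if_false, if_true, Units.smul_def, Units.val_mk0, Units.val_one, one_smul]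
    rw [← hc', hgg]

theorem isConj_of_nonsquare {g h : Matrix (Fin n) (Fin n) F} {μ : F} (hμ : ∀ c : F, c * c ≠ μ) (hg : g * g = μ • 1)
    (hh : h * h = μ • 1) : IsConj g h := by
  obtain ⟨k, b, hk, hb⟩ := exists_pair_basis hμ hg
  obtain ⟨k', b', hk', hb'⟩ := exists_pair_basis hμ hh
  obtain rfl : k = k' := by omega
  refine isConj_of_equiv (b.equiv b' (Equiv.refl _)) fun v => ?_
  have : (b.equiv b' (Equiv.refl _)).toLinearMap ∘ₗ Matrix.toLin' g =
      Matrix.toLin' h ∘ₗ (b.equiv b' (Equiv.refl _)).toLinearMap := by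
    refine b.ext ?_
    rintro ⟨m, e⟩
    simp only [LinearMap.comp_apply, LinearEquiv.coe_coe, Matrix.toLin'_apply, Module.Basis.equiv_apply, Equiv.refl_apply]
    fin_cases e
    · simp only [Fin.zero_eta, (hb m).1, (hb' m).1, Module.Basis.equiv_apply, Equiv.refl_apply]
    · simp only [Fin.mk_one, (hb m).2, (hb' m).2, map_smul, Module.Basis.equiv_apply, Equiv.refl_apply]
  exact LinearMap.congr_fun this v

theorem exists_root (μ : F) (h : Even n) : ∃ J : Matrix (Fin n) (Fin n) F, J * J = μ • 1 := by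
  obtain ⟨k, rfl⟩ := h
  let e : Fin k ⊕ Fin k ≃ Fin (k + k) := finSumFinEquiv
  refine ⟨Matrix.reindexAlgEquiv F F e (Matrix.fromBlocks 0 1 (μ • 1) 0), ?_⟩
  rw [← map_mul, Matrix.fromBlocks_multiply]
  simp only [Matrix.mul_zero, Matrix.zero_mul, Matrix.one_mul, Matrix.mul_one, zero_add, add_zero]
  rw [show Matrix.fromBlocks (μ • (1 : Matrix (Fin k) (Fin k) F)) 0 0 (μ • (1 : Matrix (Fin k) (Fin k) F)) =
    μ • (1 : Matrix (Fin k ⊕ Fin k) (Fin k ⊕ Fin k) F) by rw [← Matrix.fromBlocks_one, Matrix.fromBlocks_smul]; simp,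
    map_smul, map_one]

/-- a unit that squares to a scalar -/
theorem exists_unit_sq {μ : F} (hμ : μ ≠ 0) {J : Matrix (Fin n) (Fin n) F} (hJ : J * J = μ • 1) :
    ∃ u : GL (Fin n) F, (u : Matrix (Fin n) (Fin n) F) = J :=
  ⟨⟨J, μ⁻¹ • J, by rw [Matrix.mul_smul, hJ, smul_smul, inv_mul_cancel₀ hμ, one_smul],
    by rw [Matrix.smul_mul, hJ, smul_smul, inv_mul_cancel₀ hμ, one_smul]⟩, rfl⟩

/-- diagonal involution with `i` entries `-1` -/
def diagInv (F : Type*) [Field F] (n i : ℕ) : Matrix (Fin n) (Fin n) F :=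
  Matrix.diagonal fun j : Fin n => if (j : ℕ) < i then -1 else 1

theorem diagInv_sq (i : ℕ) : diagInv F n i * diagInv F n i = 1 := by
  rw [diagInv, Matrix.diagonal_mul_diagonal, ← Matrix.diagonal_one]
  congr 1; funext j; split_ifs <;> simp

theorem rank_diagInv [Fintype F] (h2 : (2 : F) ≠ 0) {i : ℕ} (hi : i ≤ n) : (diagInv F n i - 1).rank = i := by
  classical
  rw [diagInv, ← Matrix.diagonal_one, Matrix.diagonal_sub, Matrix.rank_diagonal]
  have hiff : ∀ j : Fin n, ((if (j : ℕ) < i then (-1 : F) else 1) - 1 ≠ 0) ↔ (j : ℕ) < i := by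
    intro j
    split_ifs with h
    · simp only [h, iff_true]; intro h'; exact h2 (by linear_combination -h')
    · simp [h]
  rw [Fintype.card_congr ((Equiv.subtypeEquivRight hiff).trans (Fin.castLEquiv hi).symm), Fintype.card_fin]

end Classify

/-- Number of conjugacy classes of involutions in PGL_n(q) for q odd and n ≥ 2: there are ⌊n/2⌋ classes represented by diagonal matrices with i entries −1 (1 ≤ i ≤ n/2) and, when n is even, one more class represented by a block-diagonal matrix of 2 × 2 blocks [[0, 1], [μ, 0]] with μ a non-square (a matrix squaring to a scalar but having no eigenvalue in the field); in all ⌊n/2⌋ + 1 classes if n is even and ⌊n/2⌋ if n is odd. -/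
theorem result {F : Type*} [Field F] [Fintype F] {q : ℕ} (hF : Fintype.card F = q) (hq : Odd q) {n : ℕ} (hn : 2 ≤ n) : Nat.card {C : ConjClasses (GL (Fin n) F ⧸ Subgroup.center (GL (Fin n) F)) // ∃ g : GL (Fin n) F ⧸ Subgroup.center (GL (Fin n) F), ConjClasses.mk g = C ∧ orderOf g = 2} = n / 2 + (if Even n then 1 else 0) := by
  classical
  have h2 : (2 : F) ≠ 0 := by
    intro h
    have hc : CharP F 2 := CharTwo.of_one_ne_zero_of_two_eq_zero one_ne_zero h
    have := FiniteField.even_card_of_char_two (F := F) ((ringChar.eq_iff).2 hc)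
    rw [hF, Nat.odd_iff.1 hq] at this
    exact one_ne_zero this
  obtain ⟨μ, hμ'⟩ := FiniteField.exists_nonsquare (F := F) (fun h => h2 (by
    haveI : CharP F 2 := ringChar.of_eq h; exact CharTwo.two_eq_zero))
  have hμ : ∀ c : F, c * c ≠ μ := fun c hc => hμ' ⟨c, hc.symm⟩
  have hμ0 : μ ≠ 0 := fun h => hμ 0 (by rw [h, mul_zero])
  -- scalars
  have hcent : ∀ g : GL (Fin n) F, g ∈ Subgroup.center (GL (Fin n) F) ↔ ∃ c : F, (g : Matrix (Fin n) (Fin n) F) = c • 1 := by
    intro g
    rw [Matrix.GeneralLinearGroup.center_eq_range_scalar]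
    constructor
    · rintro ⟨c, rfl⟩
      exact ⟨c, (Matrix.smul_one_eq_diagonal _).symm⟩
    · rintro ⟨c, hc⟩
      have hc0 : c ≠ 0 := by
        rintro rfl
        haveI : Nonempty (Fin n) := ⟨⟨0, by omega⟩⟩
        rw [zero_smul] at hc
        exact g.ne_zero hc
      exact ⟨Units.mk0 c hc0, Units.ext (((Matrix.smul_one_eq_diagonal c).symm).trans hc.symm)⟩
  let π := QuotientGroup.mk' (Subgroup.center (GL (Fin n) F))
  have hord : ∀ g : GL (Fin n) F, orderOf (π g) = 2 ↔
      (∃ c : F, (g : Matrix (Fin n) (Fin n) F) * g = c • 1) ∧ ¬ ∃ c : F, (g : Matrix (Fin n) (Fin n) F) = c • 1 := by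
    intro g
    rw [orderOf_eq_prime_iff, ← map_pow, QuotientGroup.mk'_apply, QuotientGroup.eq_one_iff, hcent, Ne,
      show π g = (g : GL (Fin n) F ⧸ Subgroup.center (GL (Fin n) F)) from rfl, QuotientGroup.eq_one_iff, hcent, pow_two,
      Units.val_mul]
  -- conjugacy modulo scalars
  have hconj : ∀ g h : GL (Fin n) F, IsConj (π g) (π h) ↔
      ∃ z : F, z ≠ 0 ∧ IsConj (z • (g : Matrix (Fin n) (Fin n) F)) (h : Matrix (Fin n) (Fin n) F) := by
    intro g h
    constructor
    · intro hc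
      obtain ⟨x, hx⟩ := isConj_iff.1 hc
      obtain ⟨a, rfl⟩ := QuotientGroup.mk'_surjective _ x
      rw [← map_inv, ← map_mul, ← map_mul, QuotientGroup.mk'_eq_mk'] at hx
      obtain ⟨s, hs, hsh⟩ := hx
      obtain ⟨c, hcs⟩ := (hcent s).1 hs
      have hc0 : c ≠ 0 := by
        rintro rfl
        haveI : Nonempty (Fin n) := ⟨⟨0, by omega⟩⟩
        rw [zero_smul] at hcs
        exact s.ne_zero hcs
      refine ⟨c, hc0, a, ?_⟩
      have h' := congrArg (Units.val) (show a * g * a⁻¹ * s * a = h * a by rw [hsh])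
      simp only [Units.val_mul, hcs, Matrix.smul_mul, Matrix.mul_smul, Matrix.mul_one, Matrix.one_mul, Matrix.mul_assoc,
        Units.inv_mul] at h'
      show (a : Matrix (Fin n) (Fin n) F) * (c • (g : Matrix (Fin n) (Fin n) F)) = _
      rw [Matrix.mul_smul]
      exact h'
    · rintro ⟨z, hz, a, ha⟩
      let s : GL (Fin n) F := Matrix.GeneralLinearGroup.scalar (Fin n) (Units.mk0 z hz)
      have hs : s ∈ Subgroup.center (GL (Fin n) F) := by
        rw [Matrix.GeneralLinearGroup.center_eq_range_scalar]; exact ⟨_, rfl⟩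
      have hsval : (s : Matrix (Fin n) (Fin n) F) = z • 1 := (Matrix.smul_one_eq_diagonal _).symm
      refine isConj_iff.2 ⟨π a, ?_⟩
      rw [← map_inv, ← map_mul, ← map_mul, QuotientGroup.mk'_eq_mk']
      refine ⟨s, hs, ?_⟩
      rw [mul_assoc _ a⁻¹, ← Subgroup.mem_center_iff.1 hs a⁻¹ |>.symm, ← mul_assoc, mul_inv_eq_iff_eq_mul]
      refine Units.ext ?_
      simp only [Units.val_mul, hsval, Matrix.mul_smul, Matrix.mul_one]
      have := ha.eq
      rwa [Matrix.mul_smul] at this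
  have hDu : ∀ i, ∃ u : GL (Fin n) F, (u : Matrix (Fin n) (Fin n) F) = diagInv F n i := fun i =>
    exists_unit_sq one_ne_zero (by rw [one_smul]; exact diagInv_sq i)
  choose D hD using hDu
  have hJu : Even n → ∃ u : GL (Fin n) F, (u : Matrix (Fin n) (Fin n) F) * u = μ • 1 := fun h => by
    obtain ⟨J, hJ⟩ := exists_root μ h
    obtain ⟨u, rfl⟩ := exists_unit_sq hμ0 hJ
    exact ⟨u, hJ⟩
  choose J hJ using hJu
  let rep : Fin (n / 2) ⊕ {_u : Unit // Even n} → GL (Fin n) F := Sum.elim (fun i => D (i + 1)) (fun u => J u.2)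
  have hrepD : ∀ i : Fin (n / 2), (D (i + 1) : Matrix (Fin n) (Fin n) F) * D (i + 1) = 1 ∧
      ((D (i + 1) : Matrix (Fin n) (Fin n) F) - 1).rank = i + 1 := fun i => by
    rw [hD]; exact ⟨diagInv_sq _, rank_diagInv h2 (by omega)⟩
  have hrepord : ∀ x, orderOf (π (rep x)) = 2 := by
    intro x
    rw [hord]
    rcases x with i | u
    · refine ⟨⟨1, by rw [one_smul]; exact (hrepD i).1⟩, ?_⟩
      rintro ⟨c, hc⟩
      simp only [rep, Sum.elim_inl, hD] at hc
      have h0 := congrFun (congrFun hc ⟨0, by omega⟩) ⟨0, by omega⟩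
      have h1 := congrFun (congrFun hc ⟨n - 1, by omega⟩) ⟨n - 1, by omega⟩
      simp [diagInv, show ¬ (n - 1 < (i : ℕ) + 1) by omega, show ¬ (n ≤ (i : ℕ) + 1) by omega] at h0 h1
      exact h2 (by linear_combination h1 - h0)
    · refine ⟨⟨μ, hJ u.2⟩, ?_⟩
      rintro ⟨c, hc⟩
      simp only [rep, Sum.elim_inr] at hc
      have := hJ u.2
      rw [hc, Matrix.smul_mul, Matrix.one_mul, smul_smul] at this
      have := congrFun (congrFun this ⟨0, by omega⟩) ⟨0, by omega⟩
      simp at this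
      exact hμ c this
  have hcount : Fintype.card (Fin (n / 2) ⊕ {_u : Unit // Even n}) = n / 2 + if Even n then 1 else 0 := by
    rw [Fintype.card_sum, Fintype.card_fin, Fintype.card_subtype]
    split_ifs with h <;> simp [h]
  rw [← hcount, ← Nat.card_eq_fintype_card]
  refine (Nat.card_eq_of_bijective (fun x => (⟨ConjClasses.mk (π (rep x)), π (rep x), rfl, hrepord x⟩ :
    {C : ConjClasses (GL (Fin n) F ⧸ Subgroup.center (GL (Fin n) F)) // ∃ g, ConjClasses.mk g = C ∧ orderOf g = 2})) ⟨?_, ?_⟩).symm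
  · -- injective
    intro x y hxy
    obtain ⟨z, hz, a, ha⟩ := (hconj _ _).1 (ConjClasses.mk_eq_mk_iff_isConj.1 (congrArg Subtype.val hxy))
    have hsq : ∀ (c d : F), (rep x : Matrix (Fin n) (Fin n) F) * rep x = c • 1 → (rep y : Matrix (Fin n) (Fin n) F) * rep y = d • 1 → z * z * c = d := by
      intro c d hc hd
      have h' := (ha.mul_right ha).eq
      have e : (z • (rep x : Matrix (Fin n) (Fin n) F)) * (z • (rep x : Matrix (Fin n) (Fin n) F)) = (z * z * c) • 1 := by
        rw [Matrix.smul_mul, Matrix.mul_smul, smul_smul, hc, smul_smul]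
      rw [e, hd, Matrix.mul_smul, Matrix.smul_mul, Matrix.mul_one, Matrix.one_mul] at h'
      haveI : Nonempty (Fin n) := ⟨⟨0, by omega⟩⟩
      exact smul_left_injective F a.ne_zero h'
    rcases x with i | u <;> rcases y with j | v
    · simp only [rep, Sum.elim_inl] at hsq ha
      have hz2 := hsq 1 1 (by rw [one_smul]; exact (hrepD i).1) (by rw [one_smul]; exact (hrepD j).1)
      rw [mul_one] at hz2
      have ha1 := (ha.sub_right (SemiconjBy.one_right _)).eq
      have hU : IsUnit (a : Matrix (Fin n) (Fin n) F).det := (Matrix.isUnit_iff_isUnit_det _).1 a.isUnit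
      have hr : ((z • (D (i + 1) : Matrix (Fin n) (Fin n) F)) - 1).rank = ((D (j + 1) : Matrix (Fin n) (Fin n) F) - 1).rank := by
        rw [← Matrix.rank_mul_eq_right_of_isUnit_det (a : Matrix (Fin n) (Fin n) F) _ hU, ha1,
          Matrix.rank_mul_eq_left_of_isUnit_det _ _ hU]
      rw [(hrepD j).2] at hr
      rcases mul_self_eq_one_iff.1 hz2 with rfl | rfl
      · rw [one_smul, (hrepD i).2] at hr
        exact congrArg Sum.inl (Fin.ext (by omega))
      · have h' := rank_plus h2 (hrepD i).1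
        have hneg : ((-1 : F) • (D (i + 1) : Matrix (Fin n) (Fin n) F)) - 1 = (-1 : F) • ((D (i + 1) : Matrix (Fin n) (Fin n) F) + 1) := by
          rw [smul_add, neg_one_smul F (1 : Matrix (Fin n) (Fin n) F), sub_eq_add_neg]
        have hrank : ((-1 : F) • ((D (i + 1) : Matrix (Fin n) (Fin n) F) + 1)).rank = ((D (i + 1) : Matrix (Fin n) (Fin n) F) + 1).rank := by
          rw [neg_one_smul, ← neg_one_mul ((D (i + 1) : Matrix (Fin n) (Fin n) F) + 1)]
          exact Matrix.rank_mul_eq_right_of_isUnit_det _ _ ((Matrix.isUnit_iff_isUnit_det _).1 (isUnit_one (M := Matrix (Fin n) (Fin n) F)).neg)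
        rw [hneg, hrank] at hr
        rw [(hrepD i).2] at h'
        exact congrArg Sum.inl (Fin.ext (by omega))
    · simp only [rep, Sum.elim_inl, Sum.elim_inr] at hsq
      exact absurd (by simpa using hsq 1 μ (by rw [one_smul]; exact (hrepD i).1) (hJ v.2)) (hμ z)
    · simp only [rep, Sum.elim_inl, Sum.elim_inr] at hsq
      have := hsq μ 1 (hJ u.2) (by rw [one_smul]; exact (hrepD j).1)
      exact absurd (show z⁻¹ * z⁻¹ = μ by field_simp; linear_combination -this) (hμ z⁻¹)
    · exact congrArg Sum.inr (Subsingleton.elim _ _)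
  · -- surjective
    rintro ⟨_, x, rfl, hx⟩
    obtain ⟨g, rfl⟩ := QuotientGroup.mk'_surjective _ x
    obtain ⟨⟨c, hc⟩, hns⟩ := (hord g).1 hx
    have hc0 : c ≠ 0 := by
      rintro rfl
      haveI : Nonempty (Fin n) := ⟨⟨0, by omega⟩⟩
      rw [zero_smul, ← Units.val_mul] at hc
      exact (g * g).ne_zero hc
    have fin : ∀ (y : Fin (n / 2) ⊕ {_u : Unit // Even n}) (z : F), z ≠ 0 →
        IsConj (z • (g : Matrix (Fin n) (Fin n) F)) (rep y : Matrix (Fin n) (Fin n) F) →
        ∃ a, (⟨ConjClasses.mk (π (rep a)), π (rep a), rfl, hrepord a⟩ :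
          {C : ConjClasses (GL (Fin n) F ⧸ Subgroup.center (GL (Fin n) F)) // ∃ g, ConjClasses.mk g = C ∧ orderOf g = 2}) =
          ⟨ConjClasses.mk (π g), π g, rfl, hx⟩ := fun y z hz h =>
      ⟨y, Subtype.ext (ConjClasses.mk_eq_mk_iff_isConj.2 ((hconj g (rep y)).2 ⟨z, hz, h⟩).symm)⟩
    by_cases hsc : IsSquare c
    · obtain ⟨s, rfl⟩ := hsc
      have hs0 : s ≠ 0 := left_ne_zero_of_mul hc0
      let g' : Matrix (Fin n) (Fin n) F := s⁻¹ • (g : Matrix (Fin n) (Fin n) F)
      have hg' : g' * g' = 1 := by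
        rw [Matrix.smul_mul, Matrix.mul_smul, smul_smul, hc, smul_smul, mul_mul_mul_comm, inv_mul_cancel₀ hs0,
          one_mul, one_smul]
      have hsum := rank_plus h2 hg'
      have hpos1 : 0 < (g' - 1).rank := by
        rcases Nat.eq_zero_or_pos (g' - 1).rank with h0 | h0
        · exfalso
          rw [Matrix.rank, Submodule.finrank_eq_zero, LinearMap.range_eq_bot] at h0
          have : g' - 1 = 0 := Matrix.toLin'.injective (h0.trans (map_zero Matrix.toLin').symm)
          rw [sub_eq_zero, inv_smul_eq_iff₀ hs0] at this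
          exact hns ⟨s, this⟩
        · exact h0
      have hpos2 : 0 < (g' + 1).rank := by
        rcases Nat.eq_zero_or_pos (g' + 1).rank with h0 | h0
        · exfalso
          rw [Matrix.rank, Submodule.finrank_eq_zero, LinearMap.range_eq_bot] at h0
          have : g' + 1 = 0 := Matrix.toLin'.injective (h0.trans (map_zero Matrix.toLin').symm)
          rw [add_eq_zero_iff_eq_neg, inv_smul_eq_iff₀ hs0, smul_neg, ← neg_smul] at this
          exact hns ⟨-s, this⟩
        · exact h0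
      by_cases hle : (g' - 1).rank ≤ n / 2
      · obtain ⟨i, hi⟩ : ∃ i : Fin (n / 2), (i : ℕ) + 1 = (g' - 1).rank := ⟨⟨(g' - 1).rank - 1, by omega⟩, by simp only; omega⟩
        refine fin (Sum.inl i) s⁻¹ (inv_ne_zero hs0) (isConj_of_rank h2 hg' (hrepD i).1 ?_)
        exact hi.symm.trans (hrepD i).2.symm
      · obtain ⟨i, hi⟩ : ∃ i : Fin (n / 2), (i : ℕ) + 1 = (g' + 1).rank := ⟨⟨(g' + 1).rank - 1, by omega⟩, by simp only; omega⟩
        refine fin (Sum.inl i) (-s⁻¹) (neg_ne_zero.2 (inv_ne_zero hs0)) (isConj_of_rank h2 ?_ (hrepD i).1 ?_)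
        · rw [neg_smul, neg_mul_neg]; exact hg'
        · show ((-s⁻¹) • (g : Matrix (Fin n) (Fin n) F) - 1).rank = ((D ((i : ℕ) + 1) : Matrix (Fin n) (Fin n) F) - 1).rank
          have hneg : (-s⁻¹) • (g : Matrix (Fin n) (Fin n) F) - 1 = (-1 : Matrix (Fin n) (Fin n) F) * (g' + 1) := by
            rw [neg_one_mul, neg_add, neg_smul, sub_eq_add_neg]
          rw [hneg, Matrix.rank_mul_eq_right_of_isUnit_det _ _ ((Matrix.isUnit_iff_isUnit_det _).1 (isUnit_one (M := Matrix (Fin n) (Fin n) F)).neg), (hrepD i).2, hi]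
    · obtain ⟨s, hs⟩ : IsSquare (μ / c) := by
        have hne : ringChar F ≠ 2 := fun h => h2 (by haveI : CharP F 2 := ringChar.of_eq h; exact CharTwo.two_eq_zero)
        rw [FiniteField.isSquare_iff hne (div_ne_zero hμ0 hc0)]
        rw [FiniteField.isSquare_iff hne hc0] at hsc
        rw [FiniteField.isSquare_iff hne hμ0] at hμ'
        rw [div_pow, (FiniteField.pow_dichotomy hne hc0).resolve_left hsc, (FiniteField.pow_dichotomy hne hμ0).resolve_left hμ', div_self (neg_ne_zero.2 one_ne_zero)]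
      have hs0 : s ≠ 0 := fun h => div_ne_zero hμ0 hc0 (by rw [hs, h, mul_zero])
      have hg' : (s • (g : Matrix (Fin n) (Fin n) F)) * (s • (g : Matrix (Fin n) (Fin n) F)) = μ • 1 := by
        rw [Matrix.smul_mul, Matrix.mul_smul, smul_smul, hc, smul_smul, ← hs, div_mul_cancel₀ _ hc0]
      obtain ⟨k, b, hk, -⟩ := exists_pair_basis hμ hg'
      exact fin (Sum.inr ⟨(), ⟨k, by omega⟩⟩) s hs0 (isConj_of_nonsquare hμ hg' (hJ _))

end Cfsg.Agent.S2577
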