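import Cfsg.Statements.S2578
import Cfsg.Agent.Lib.RegularCentralizer

set_option autoImplicit false
open Cfsg

namespace Cfsg.Agent.S2578

open Cfsg.Agent.RegularNilpotent Cfsg.Agent.RegularCentralizer

/-- The shift matrix. -/
def shift (F : Type*) [Field F] (n : ℕ) : Matrix (Fin n) (Fin n) F :=
  Matrix.of fun i j => if (j : ℕ) = i + 1 then 1 else 0

theorem shift_regular (F : Type*) [Field F] (n : ℕ) : shift F n ^ n = 0 ∧ (shift F n).rank = n - 1 :=
  regular_of_order (Equiv.refl _) _ (fun i j h => if_neg h) (fun i j h => by simp [shift] at *; exact h)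

/-- Regular unipotent classes of SL_n(q): for n ≥ 2 over the field with q elements, the matrices u of determinant one with (u − 1)^n = 0 and rank(u − 1) = n − 1 form a single GL_n(q)-class which splits into exactly gcd(n, q − 1) conjugacy classes of SL_n(q). -/
theorem result {F : Type*} [Field F] [Fintype F] {q : ℕ} (hF : Fintype.card F = q) {n : ℕ} (hn : 2 ≤ n) : Nat.card {C : ConjClasses (Matrix.SpecialLinearGroup (Fin n) F) // ∃ u : Matrix.SpecialLinearGroup (Fin n) F, ConjClasses.mk u = C ∧ ((u : Matrix (Fin n) (Fin n) F) - 1) ^ n = 0 ∧ ((u : Matrix (Fin n) (Fin n) F) - 1).rank = n - 1} = Nat.gcd n (q - 1) := by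
  classical
  subst hF
  have hpos : 0 < n := by omega
  have hc := Fintype.card_fin n
  obtain ⟨hN, hNr⟩ := shift_regular F n
  let N := shift F n
  have hdet0 : (1 + N).det = 1 := by
    rw [Matrix.det_of_upperTriangular]
    · refine Finset.prod_eq_one fun i _ => ?_
      simp [N, shift]
    · intro i j h
      have hji : (j : ℕ) < i := h
      have : i ≠ j := fun e => by rw [e] at hji; exact lt_irrefl _ hji
      simp [N, shift, this, show ¬ ((j : ℕ) = i + 1) by omega]
  let u₀ : GL (Fin n) F := Matrix.SpecialLinearGroup.toGL ⟨1 + N, hdet0⟩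
  let mkC : GL (Fin n) F → Matrix.SpecialLinearGroup (Fin n) F := fun g =>
    ⟨((g * u₀ * g⁻¹ : GL (Fin n) F) : Matrix (Fin n) (Fin n) F), by
      rw [Units.val_mul, Units.val_mul, Matrix.det_units_conj]
      exact hdet0⟩
  have hprop : ∀ g, ((mkC g : Matrix (Fin n) (Fin n) F) - 1) ^ n = 0 ∧ ((mkC g : Matrix (Fin n) (Fin n) F) - 1).rank = n - 1 := by
    intro g
    have h : (mkC g : Matrix (Fin n) (Fin n) F) - 1 = (g : Matrix (Fin n) (Fin n) F) * N * ((g⁻¹ : GL (Fin n) F) : Matrix (Fin n) (Fin n) F) := by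
      show (g : Matrix (Fin n) (Fin n) F) * (1 + N) * _ - 1 = _
      rw [mul_add, add_mul, mul_one, Units.mul_inv]
      abel
    rw [h]
    refine ⟨?_, ?_⟩
    · rw [Units.conj_pow, hN, mul_zero, zero_mul]
    · rw [Matrix.rank_mul_eq_left_of_isUnit_det _ _ ((Matrix.isUnit_iff_isUnit_det _).1 (g⁻¹).isUnit),
        Matrix.rank_mul_eq_right_of_isUnit_det _ _ ((Matrix.isUnit_iff_isUnit_det _).1 g.isUnit), hNr]
  have hdetc : ∀ x : GL (Fin n) F, x ∈ cent N → ∃ a : Fˣ, Matrix.GeneralLinearGroup.det x = a ^ n := by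
    intro x hx
    obtain ⟨c, hcx⟩ := eq_mpoly_of_commute hc hN hNr _ hx
    have h0 : c ⟨0, hpos⟩ ≠ 0 := (isUnit_mpoly_iff hc hN hNr hpos c).1 (hcx ▸ x.isUnit)
    refine ⟨Units.mk0 _ h0, Units.ext ?_⟩
    rw [Matrix.GeneralLinearGroup.val_det_apply, hcx, det_mpoly hc hN hpos, Units.val_pow_eq_pow_val]
    rfl
  have hcentu : ∀ x : GL (Fin n) F, x ∈ cent N ↔ x * u₀ = u₀ * x := by
    intro x
    rw [Units.ext_iff, Units.val_mul, Units.val_mul]
    show Commute N (x : Matrix (Fin n) (Fin n) F) ↔ (x : Matrix (Fin n) (Fin n) F) * (1 + N) = (1 + N) * (x : Matrix (Fin n) (Fin n) F)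
    rw [mul_add, add_mul, mul_one, one_mul, add_right_inj]
    exact ⟨fun h => h.symm, fun h => h.symm⟩
  have hcrit : ∀ g h : GL (Fin n) F, ConjClasses.mk (mkC g) = ConjClasses.mk (mkC h) ↔
      ∃ a : Fˣ, Matrix.GeneralLinearGroup.det g = Matrix.GeneralLinearGroup.det h * a ^ n := by
    intro g h
    rw [ConjClasses.mk_eq_mk_iff_isConj, isConj_iff]
    constructor
    · rintro ⟨s, hs⟩
      have hs' : Matrix.SpecialLinearGroup.toGL s * (g * u₀ * g⁻¹) * (Matrix.SpecialLinearGroup.toGL s)⁻¹ = h * u₀ * h⁻¹ := by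
        have := congrArg Matrix.SpecialLinearGroup.toGL hs
        rw [map_mul, map_mul, map_inv] at this
        have e : ∀ x : GL (Fin n) F, Matrix.SpecialLinearGroup.toGL (mkC x) = x * u₀ * x⁻¹ := fun x => Units.ext rfl
        rwa [e, e] at this
      obtain ⟨a, ha⟩ := hdetc (h⁻¹ * Matrix.SpecialLinearGroup.toGL s * g) (by
        rw [hcentu]
        calc h⁻¹ * Matrix.SpecialLinearGroup.toGL s * g * u₀
            = h⁻¹ * (Matrix.SpecialLinearGroup.toGL s * (g * u₀ * g⁻¹) * (Matrix.SpecialLinearGroup.toGL s)⁻¹) * Matrix.SpecialLinearGroup.toGL s * g := by group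
          _ = _ := by rw [hs']; group)
      refine ⟨a, ?_⟩
      have hs1 : Matrix.GeneralLinearGroup.det (Matrix.SpecialLinearGroup.toGL s) = 1 := Units.ext s.2
      rw [← ha, map_mul, map_mul, map_inv, hs1, mul_one, mul_inv_cancel_left]
    · rintro ⟨a, ha⟩
      let z : GL (Fin n) F := Matrix.GeneralLinearGroup.scalar (Fin n) a
      have hz : ∀ x : GL (Fin n) F, z * x = x * z := fun x => Units.ext ((Matrix.scalar_commute (a : F) (fun r => mul_comm _ r) _).eq)
      have hdz : Matrix.GeneralLinearGroup.det z = a ^ n := by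
        apply Units.ext
        simp [z, Matrix.GeneralLinearGroup.scalar]
      have hsdet : (((h * z * g⁻¹ : GL (Fin n) F)) : Matrix (Fin n) (Fin n) F).det = 1 := by
        rw [← Matrix.GeneralLinearGroup.val_det_apply, map_mul, map_mul, map_inv, hdz, ← ha, mul_inv_cancel,
          Units.val_one]
      obtain ⟨s, hs⟩ : ∃ s : Matrix.SpecialLinearGroup (Fin n) F, (s : Matrix (Fin n) (Fin n) F) = ((h * z * g⁻¹ : GL (Fin n) F) : Matrix (Fin n) (Fin n) F) := ⟨⟨_, hsdet⟩, rfl⟩
      refine ⟨s, ?_⟩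
      apply Matrix.SpecialLinearGroup.toGL_injective
      have e : ∀ x : GL (Fin n) F, Matrix.SpecialLinearGroup.toGL (mkC x) = x * u₀ * x⁻¹ := fun x => Units.ext rfl
      have e' : Matrix.SpecialLinearGroup.toGL s = h * z * g⁻¹ := Units.ext hs
      refine (map_mul _ _ _).trans ?_
      rw [map_inv, show ∀ a b : Matrix.SpecialLinearGroup (Fin n) F, Matrix.SpecialLinearGroup.toGL (a * b) = Matrix.SpecialLinearGroup.toGL a * Matrix.SpecialLinearGroup.toGL b from map_mul _, e, e, e']
      calc h * z * g⁻¹ * (g * u₀ * g⁻¹) * (h * z * g⁻¹)⁻¹ = h * (z * u₀) * z⁻¹ * h⁻¹ := by group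
        _ = _ := by rw [hz]; group
  let D : Fˣ → GL (Fin n) F := fun d =>
    Matrix.GeneralLinearGroup.mkOfDetNeZero (Matrix.diagonal (Function.update (1 : Fin n → F) ⟨0, hpos⟩ (d : F))) (by
      rw [Matrix.det_diagonal, Finset.prod_update_of_mem (Finset.mem_univ _)]
      simp)
  have hD : ∀ d, Matrix.GeneralLinearGroup.det (D d) = d := by
    intro d
    apply Units.ext
    simp [D, Matrix.GeneralLinearGroup.mkOfDetNeZero, Finset.prod_update_of_mem]
  let R : Subgroup Fˣ := (powMonoidHom n : Fˣ →* Fˣ).range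
  let S := {C : ConjClasses (Matrix.SpecialLinearGroup (Fin n) F) // ∃ u : Matrix.SpecialLinearGroup (Fin n) F,
    ConjClasses.mk u = C ∧ ((u : Matrix (Fin n) (Fin n) F) - 1) ^ n = 0 ∧ ((u : Matrix (Fin n) (Fin n) F) - 1).rank = n - 1}
  let f : Fˣ ⧸ R → S := Quotient.lift (fun d => ⟨ConjClasses.mk (mkC (D d)), mkC (D d), rfl, hprop _⟩) (by
    intro d e hde
    have hde' : d⁻¹ * e ∈ R := QuotientGroup.leftRel_apply.1 hde
    obtain ⟨a, ha⟩ := hde'
    refine Subtype.ext ((hcrit _ _).2 ⟨a⁻¹, ?_⟩)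
    simp only [powMonoidHom_apply] at ha
    rw [hD, hD, inv_pow, ha, mul_inv_rev, inv_inv, mul_inv_cancel_left])
  have hf : Function.Bijective f := by
    constructor
    · intro x y hxy
      induction x using QuotientGroup.induction_on with
      | H d =>
      induction y using QuotientGroup.induction_on with
      | H e =>
      obtain ⟨a, ha⟩ := (hcrit _ _).1 (congrArg Subtype.val hxy)
      rw [hD, hD] at ha
      rw [QuotientGroup.eq]
      exact ⟨a⁻¹, by rw [powMonoidHom_apply, ha, inv_pow, mul_inv_rev, inv_mul_cancel_right]⟩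
    · rintro ⟨C, u, rfl, hu, hur⟩
      obtain ⟨P, hP, hPN⟩ := exists_conj hc hN hNr hu hur
      refine ⟨QuotientGroup.mk (Matrix.GeneralLinearGroup.det hP.unit), Subtype.ext ?_⟩
      have hg : mkC hP.unit = u := by
        apply Subtype.ext
        show P * (1 + N) * ((hP.unit⁻¹ : GL (Fin n) F) : Matrix (Fin n) (Fin n) F) = _
        rw [mul_add, mul_one, hPN, add_mul, mul_assoc]
        have h1 : P * ((hP.unit⁻¹ : GL (Fin n) F) : Matrix (Fin n) (Fin n) F) = 1 := hP.mul_val_inv
        rw [h1, mul_one, add_sub_cancel]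
      show ConjClasses.mk (mkC (D _)) = ConjClasses.mk u
      rw [← hg, hcrit]
      exact ⟨1, by rw [hD, one_pow, mul_one]⟩
  rw [← Nat.card_congr (Equiv.ofBijective f hf), ← Subgroup.index_eq_card]
  show (powMonoidHom n : Fˣ →* Fˣ).range.index = _
  rw [IsCyclic.index_powMonoidHom_range, Nat.card_units, Nat.card_eq_fintype_card, Nat.gcd_comm]

end Cfsg.Agent.S2578
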