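import Cfsg.Statements.S2579
import Cfsg.Agent.Lib.TransvectionForm

set_option autoImplicit false
open Cfsg

namespace Cfsg.Agent.S2579

open Cfsg.Agent.TransvectionForm

/-- In SL_n(F) with n ≥ 3, over a finite field F, any two transvections (matrices t with t − 1 of rank one and square zero) are conjugate by an element of SL_n(F). -/
theorem result {F : Type*} [Field F] [Finite F] {n : ℕ} (hn : 3 ≤ n) (s t : Matrix.SpecialLinearGroup (Fin n) F) (hs : Cfsg.IsTransvection (s : Matrix (Fin n) (Fin n) F)) (ht : Cfsg.IsTransvection (t : Matrix (Fin n) (Fin n) F)) : IsConj s t := by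
  classical
  obtain ⟨k, rfl⟩ : ∃ k, n = 2 + k := ⟨n - 2, by omega⟩
  have hk : 0 < k := by omega
  obtain ⟨P, hP, hsP⟩ := exists_normal_form _ hs.1 hs.2
  obtain ⟨Q, hQ, htQ⟩ := exists_normal_form _ ht.1 ht.2
  let E := Matrix.reindex finSumFinEquiv finSumFinEquiv (std F k)
  let j₀ : Fin (2 + k) := ⟨2, by omega⟩
  let d : F := P.det / Q.det
  have hPd : P.det ≠ 0 := ((Matrix.isUnit_iff_isUnit_det P).1 hP).ne_zero
  have hQd : Q.det ≠ 0 := ((Matrix.isUnit_iff_isUnit_det Q).1 hQ).ne_zero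
  let D : Matrix (Fin (2 + k)) (Fin (2 + k)) F := Matrix.diagonal (Function.update 1 j₀ d)
  have hDE : D * E = E * D := by
    have hEz : ∀ i j, (i = j₀ ∨ j = j₀) → E i j = 0 := by
      intro i j hij
      obtain ⟨a, rfl⟩ := finSumFinEquiv.surjective i
      obtain ⟨b, rfl⟩ := finSumFinEquiv.surjective j
      simp only [E, Matrix.reindex_apply, Matrix.submatrix_apply, Equiv.symm_apply_apply, std, Matrix.of_apply]
      rw [if_neg]
      rintro ⟨rfl, rfl⟩
      rcases hij with h | h <;> simp [j₀, Fin.ext_iff, finSumFinEquiv] at h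
    ext i j
    rw [Matrix.diagonal_mul, Matrix.mul_diagonal]
    by_cases h : i = j₀ ∨ j = j₀
    · rw [hEz i j h, mul_zero, zero_mul]
    · push Not at h
      simp [h.1, h.2]
  let Pi' := P⁻¹
  let g : Matrix (Fin (2 + k)) (Fin (2 + k)) F := Q * D * P⁻¹
  have hdet : g.det = 1 := by
    simp only [g, D, Matrix.det_mul, Matrix.det_nonsing_inv, Ring.inverse_eq_inv', Matrix.det_diagonal,
      Finset.prod_update_of_mem (Finset.mem_univ _)]
    simp [d]
    field_simp
  let gs : Matrix.SpecialLinearGroup (Fin (2 + k)) F := ⟨g, hdet⟩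
  rw [isConj_iff]
  refine ⟨gs, ?_⟩
  rw [mul_inv_eq_iff_eq_mul]
  apply Subtype.ext
  show g * (s : Matrix (Fin (2 + k)) (Fin (2 + k)) F) = (t : Matrix (Fin (2 + k)) (Fin (2 + k)) F) * g
  have hkey : g * ((s : Matrix (Fin (2 + k)) (Fin (2 + k)) F) - 1) = ((t : Matrix (Fin (2 + k)) (Fin (2 + k)) F) - 1) * g := by
    apply hP.mul_right_cancel
    have h1 : P⁻¹ * P = 1 := Matrix.nonsing_inv_mul P ((Matrix.isUnit_iff_isUnit_det P).1 hP)
    simp only [g, mul_assoc, h1, mul_one]
    rw [hsP, ← mul_assoc P⁻¹, h1, one_mul, ← mul_assoc _ Q D, htQ, mul_assoc, show D * Matrix.reindex finSumFinEquiv finSumFinEquiv (std F k) = Matrix.reindex finSumFinEquiv finSumFinEquiv (std F k) * D from hDE]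
  rw [mul_sub, sub_mul, mul_one, one_mul] at hkey
  exact sub_left_injective hkey

end Cfsg.Agent.S2579
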