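import Cfsg.Statements.S2582
import Cfsg.Agent.Lib.JordanTypeIso

set_option autoImplicit false
open Cfsg

namespace Cfsg.Agent.S2582

open Matrix
open Cfsg.Agent.JordanType

/-- Which unipotent Jordan types occur in the finite symplectic group: over a finite field, a unipotent matrix with Jordan block sizes d_1, …, d_t (sum 2m, all at least 1) is similar to an element of Sp_2m(F) if and only if every odd block size occurs an even number of times. -/
theorem result {F : Type*} [Field F] [Fintype F] {m t : ℕ} (d : Fin t → ℕ) (hd : ∀ k, 1 ≤ d k) (hsum : ∑ k, d k = 2 * m) : (∃ e : ((k : Fin t) × Fin (d k)) ≃ (Fin m ⊕ Fin m), ∃ A : Matrix.symplecticGroup (Fin m) F, IsConj (Matrix.reindex e e (Cfsg.jordanTypeMatrix d F)) (A : Matrix (Fin m ⊕ Fin m) (Fin m ⊕ Fin m) F)) ↔ ∀ j : ℕ, Odd j → Even (Finset.univ.filter (fun k : Fin t => d k = j)).card := by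
  classical
  constructor
  · rintro ⟨e, A, hA⟩
    refine even_count_odd d fun i => ?_
    rw [← rank_pow_of_isConj d e _ hA (2 * i)]
    refine even_rank_even_pow (G := Matrix.J (Fin m) F) (h := ((A⁻¹ : Matrix.symplecticGroup (Fin m) F) : Matrix (Fin m ⊕ Fin m) (Fin m ⊕ Fin m) F))
      (Matrix.J_transpose (Fin m) F) ?_ (Matrix.isUnit_det_J (Fin m) F) (SymplecticGroup.mem_iff'.1 A.2) (congrArg Subtype.val (mul_inv_cancel A)) i
    rintro (i | i) <;> simp [Matrix.J]
  · intro h
    obtain ⟨σ, hσ, hdσ, hP⟩ := exists_pairing d (fun j => Even j) fun j hj => h j (Nat.not_even_iff_odd.1 hj)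
    have hK : ∀ a, σ a = a → IsTable (d a) (altTable F (d a)) := fun a ha => altTable_table (hP a ha)
    have hε : (-1 : F) ≠ 0 := neg_ne_zero.2 one_ne_zero
    let e : Ix d ≃ (Fin m ⊕ Fin m) := Fintype.equivOfCardEq (by rw [card_Ix, hsum]; simp [two_mul])
    refine ⟨e, exists_symplectic_conj (Matrix.reindex e e (JordanType.gram d σ (altTable F) (-1))) _ ?_ ?_
      (reindex_ker e _ fun v => gram_mulVec_injective hσ hdσ hK hε) (reindex_congr_invariant e _ _ (gram_invariant hσ hdσ hK hε))⟩
    · ext p q
      simp only [Matrix.transpose_apply, Matrix.neg_apply, Matrix.reindex_apply, Matrix.submatrix_apply, JordanType.gram, Matrix.of_apply]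
      rw [gTab_swap hσ (by ring : (-1 : F) * -1 = 1) (fun e i j => by rw [altTable_swap, neg_one_mul]), neg_one_mul]
    · intro p
      exact gTab_diag altTable_diag _ _

end Cfsg.Agent.S2582
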