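import Cfsg.Statements.S2583
import Cfsg.Agent.Lib.JordanTypeIso

set_option autoImplicit false
open Cfsg

namespace Cfsg.Agent.S2583

open Matrix
open Cfsg.Agent.JordanType

theorem mem_iso {F : Type*} [Field F] {n : ℕ} (Q : (Fin n → F) → F) (g : GL (Fin n) F)
    (h : ∀ v, Q ((g : Matrix (Fin n) (Fin n) F) *ᵥ v) = Q v) : g ∈ Cfsg.isometryGroup F Q := fun u _ => h u

theorem iso_map {F : Type*} [Field F] {n : ℕ} (Q : (Fin n → F) → F) (g : ↥(Cfsg.isometryGroup F Q)) (v : Fin n → F) :
    Q (((g : GL (Fin n) F) : Matrix (Fin n) (Fin n) F) *ᵥ v) = Q v := g.2 v v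

/-- the unit with the given Gram-invariant matrix -/
theorem exists_unit {F : Type*} [Field F] {n : ℕ} (G J : Matrix (Fin n) (Fin n) F) (hG : ∀ v, G *ᵥ v = 0 → v = 0)
    (h : Jᵀ * G * J = G) : ∃ g : GL (Fin n) F, (g : Matrix (Fin n) (Fin n) F) = J := by
  have hu := isUnit_det_of_ker hG
  rw [← h, Matrix.det_mul, IsUnit.mul_iff] at hu
  exact ⟨((Matrix.isUnit_iff_isUnit_det J).2 hu.2).unit, IsUnit.unit_spec _⟩

/-- Which unipotent Jordan types occur in a finite orthogonal group in odd characteristic: over a finite field of odd order, a unipotent matrix with Jordan block sizes d_1, …, d_t (sum n, all at least 1) is similar to an isometry of some quadratic form on F^n with non-degenerate polar form if and only if every even block size occurs an even number of times. -/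
theorem result {F : Type*} [Field F] [Fintype F] (h2 : (2 : F) ≠ 0) {n t : ℕ} (d : Fin t → ℕ) (hd : ∀ k, 1 ≤ d k) (hsum : ∑ k, d k = n) : (∃ Q : QuadraticForm F (Fin n → F), (QuadraticMap.polarBilin Q).Nondegenerate ∧ ∃ e : ((k : Fin t) × Fin (d k)) ≃ Fin n, ∃ A : ↥(Cfsg.isometryGroup F ⇑Q), IsConj (Matrix.reindex e e (Cfsg.jordanTypeMatrix d F)) ((A : Matrix.GeneralLinearGroup (Fin n) F) : Matrix (Fin n) (Fin n) F)) ↔ ∀ j : ℕ, Even j → 0 < j → Even (Finset.univ.filter (fun k : Fin t => d k = j)).card := by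
  classical
  constructor
  · rintro ⟨Q, hQ, e, A, hA⟩
    obtain ⟨G, hG, hdet, hinv, -⟩ := polar_gram Q hQ _ (iso_map _ A)
    refine even_count_even d fun i => ?_
    rw [← rank_pow_of_isConj d e _ hA (2 * i + 1)]
    refine even_rank_odd_pow (h := (((A : GL (Fin n) F)⁻¹ : GL (Fin n) F) : Matrix (Fin n) (Fin n) F)) h2 hG hdet hinv
      (Units.mul_inv _) ⟨n + 1, ?_⟩ i
    have h0 : rk d (n + 1) = 0 := by
      refine Finset.sum_eq_zero fun a _ => ?_
      have := Finset.single_le_sum (fun b _ => Nat.zero_le (d b)) (Finset.mem_univ a)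
      omega
    have hr := rank_pow_of_isConj d e _ hA (n + 1)
    rw [h0, Matrix.rank, Submodule.finrank_eq_zero, LinearMap.range_eq_bot] at hr
    exact Matrix.toLin'.injective (hr.trans (map_zero Matrix.toLin').symm)
  · intro h
    obtain ⟨σ, hσ, hdσ, hP⟩ := exists_pairing d (fun j => Odd j) fun j hj => by
      rcases Nat.eq_zero_or_pos j with rfl | hpos
      · rw [Finset.filter_false_of_mem fun k _ => (Nat.one_le_iff_ne_zero.1 (hd k))]; simp
      · exact h j (Nat.not_odd_iff_even.1 hj) hpos
    have hK : ∀ a, σ a = a → IsTable (d a) (symTable F (d a)) := fun a ha => symTable_table (hP a ha) h2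
    let e : Ix d ≃ Fin n := Fintype.equivOfCardEq (by rw [card_Ix, hsum, Fintype.card_fin])
    let M := Matrix.reindex e e (JordanType.gram d σ (symTable F) 1)
    have hker := reindex_ker e _ fun v => gram_mulVec_injective hσ hdσ hK one_ne_zero (v := v)
    have hinv := reindex_congr_invariant e _ _ (gram_invariant hσ hdσ hK one_ne_zero)
    have hsym : Mᵀ = M := by
      ext p q
      simp only [M, Matrix.transpose_apply, Matrix.reindex_apply, Matrix.submatrix_apply, JordanType.gram, Matrix.of_apply]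
      rw [gTab_swap hσ (one_mul (1 : F)) (fun e i j => by rw [one_mul, symTable, symTable, add_comm]), one_mul]
    have h2M : M + Mᵀ = (2 : F) • M := by rw [hsym, two_smul]
    obtain ⟨g, hg⟩ := exists_unit M _ hker hinv
    obtain ⟨Q, hQ, hQg⟩ := exists_quad M (g : Matrix (Fin n) (Fin n) F)
      (fun v hv => hker v (by
        rw [h2M, Matrix.smul_mulVec] at hv
        exact (smul_eq_zero.1 hv).resolve_left h2))
      (by rw [h2M, Matrix.mul_smul, Matrix.smul_mul, hg]; exact congrArg _ hinv) (fun i => by rw [hg]; exact congrFun (congrFun hinv i) i)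
    exact ⟨Q, hQ, e, ⟨g, mem_iso _ g hQg⟩, by rw [hg]⟩

end Cfsg.Agent.S2583
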