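import Cfsg.Statements.S2584
import Cfsg.Agent.Lib.JordanTypeIso

set_option autoImplicit false
open Cfsg

namespace Cfsg.Agent.S2584

open Matrix
open Cfsg.Agent.JordanType

theorem mem_iso {F : Type*} [Field F] {n : ℕ} (Q : (Fin n → F) → F) (g : GL (Fin n) F)
    (h : ∀ v, Q ((g : Matrix (Fin n) (Fin n) F) *ᵥ v) = Q v) : g ∈ Cfsg.isometryGroup F Q := fun u _ => h u

theorem iso_map {F : Type*} [Field F] {n : ℕ} (Q : (Fin n → F) → F) (g : ↥(Cfsg.isometryGroup F Q)) (v : Fin n → F) :
    Q (((g : GL (Fin n) F) : Matrix (Fin n) (Fin n) F) *ᵥ v) = Q v := g.2 v v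

/-- the unit with the given Gram-invariant matrix -/
theorem exists_unit {F : Type*} [Field F] {n : ℕ} (G J : Matrix (Fin n) (Fin n) F) (hG : ∀ v, G *ᵥ v = 0 → v = 0)
    (h : Jᵀ * G * J = G) : ∃ g : GL (Fin n) F, (g : Matrix (Fin n) (Fin n) F) = J := by
  have hu := isUnit_det_of_ker hG
  rw [← h, Matrix.det_mul, IsUnit.mul_iff] at hu
  exact ⟨((Matrix.isUnit_iff_isUnit_det J).2 hu.2).unit, IsUnit.unit_spec _⟩

/-- Which unipotent Jordan types occur in a finite orthogonal group in characteristic two: over a finite field of characteristic 2 and in even dimension 2m, a unipotent matrix with Jordan block sizes d_1, …, d_t (sum 2m, all at least 1) is similar to an isometry of some quadratic form on F^(2m) with non-degenerate polar form if and only if every odd block size occurs an even number of times (the same condition as for the symplectic group, which contains these orthogonal groups). -/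
theorem result {F : Type*} [Field F] [Fintype F] [CharP F 2] {m t : ℕ} (d : Fin t → ℕ) (hd : ∀ k, 1 ≤ d k) (hsum : ∑ k, d k = 2 * m) : (∃ Q : QuadraticForm F (Fin (2 * m) → F), (QuadraticMap.polarBilin Q).Nondegenerate ∧ ∃ e : ((k : Fin t) × Fin (d k)) ≃ Fin (2 * m), ∃ A : ↥(Cfsg.isometryGroup F ⇑Q), IsConj (Matrix.reindex e e (Cfsg.jordanTypeMatrix d F)) ((A : Matrix.GeneralLinearGroup (Fin (2 * m)) F) : Matrix (Fin (2 * m)) (Fin (2 * m)) F)) ↔ ∀ j : ℕ, Odd j → Even (Finset.univ.filter (fun k : Fin t => d k = j)).card := by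
  classical
  constructor
  · rintro ⟨Q, hQ, e, A, hA⟩
    obtain ⟨G, hG, hdet, hinv, hdiag⟩ := polar_gram Q hQ _ (iso_map _ A)
    refine even_count_odd d fun i => ?_
    rw [← rank_pow_of_isConj d e _ hA (2 * i)]
    have hG' : Gᵀ = -G := by
      rw [hG]; ext i j; rw [Matrix.neg_apply, CharTwo.neg_eq]
    exact even_rank_even_pow (h := (((A : GL (Fin (2 * m)) F)⁻¹ : GL (Fin (2 * m)) F) : Matrix (Fin (2 * m)) (Fin (2 * m)) F))
      hG' (fun j => by rw [hdiag, CharTwo.two_eq_zero, zero_mul]) hdet hinv (Units.mul_inv _) i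
  · intro h
    obtain ⟨σ, hσ, hdσ, hP⟩ := exists_pairing d (fun j => Even j) fun j hj => h j (Nat.not_even_iff_odd.1 hj)
    have hK : ∀ a, σ a = a → IsTable (d a) (altTable F (d a)) := fun a ha => altTable_table (hP a ha)
    have hε : (-1 : F) ≠ 0 := neg_ne_zero.2 one_ne_zero
    let e : Ix d ≃ Fin (2 * m) := Fintype.equivOfCardEq (by rw [card_Ix, hsum, Fintype.card_fin])
    let g0 : Fin t → ℕ → Fin t → ℕ → F := gTab d σ (altTable F) (-1)
    have hswap : ∀ p q : Ix d, g0 p.1 p.2 q.1 q.2 = g0 q.1 q.2 p.1 p.2 := fun p q => by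
      simp only [g0]
      rw [gTab_swap hσ (by ring : (-1 : F) * -1 = 1) (fun e i j => by rw [altTable_swap, neg_one_mul]), neg_one_mul,
        CharTwo.neg_eq]
    let ord := Fintype.equivFin (Ix d)
    let M0 : Matrix (Ix d) (Ix d) F := Matrix.of fun p q =>
      if p = q then (if (p.2 : ℕ) = 0 then 0 else g0 p.1 ((p.2 : ℕ) - 1) p.1 p.2)
      else if ord p < ord q then g0 p.1 p.2 q.1 q.2 else 0
    have hpol0 : M0 + M0ᵀ = JordanType.gram d σ (altTable F) (-1) := by
      ext p q
      simp only [Matrix.add_apply, Matrix.transpose_apply, M0, Matrix.of_apply, JordanType.gram]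
      by_cases hpq : p = q
      · subst hpq
        rw [CharTwo.add_self_eq_zero, gTab_diag altTable_diag]
      · rw [if_neg hpq, if_neg (Ne.symm hpq)]
        have hne : ord p ≠ ord q := fun h' => hpq (ord.injective h')
        rcases lt_or_gt_of_ne hne with h' | h'
        · rw [if_pos h', if_neg h'.asymm, add_zero]
        · rw [if_neg h'.asymm, if_pos h', zero_add]; exact hswap q p
    let M := Matrix.reindex e e M0
    have hker := reindex_ker e _ fun v => gram_mulVec_injective hσ hdσ hK hε (v := v)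
    have hinv := reindex_congr_invariant e _ _ (gram_invariant hσ hdσ hK hε)
    have hMM : M + Mᵀ = Matrix.reindex e e (JordanType.gram d σ (altTable F) (-1)) := by
      rw [← hpol0]; ext i j; rfl
    obtain ⟨g, hg⟩ := exists_unit _ _ hker hinv
    have hS : ∀ p : Ix d, ((sh d F 1)ᵀ * M0 * sh d F 1) p p + (((sh d F 1)ᵀ * M0) p p + (M0 * sh d F 1) p p) = 0 := by
      rintro ⟨a, i⟩
      by_cases hi : (i : ℕ) + 1 < d a
      · have hcol : ∀ r : Ix d, sh d F 1 r ⟨a, i⟩ = if r = ⟨a, ⟨i + 1, hi⟩⟩ then 1 else 0 := by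
          rintro ⟨c, k⟩
          simp only [sh, Matrix.of_apply, Sigma.mk.injEq]
          by_cases hc : c = a
          · subst hc; simp [Fin.ext_iff]
          · simp [hc]
        simp only [Matrix.mul_apply, Matrix.transpose_apply, hcol, ite_mul, mul_ite, one_mul, mul_one, zero_mul, mul_zero,
          Finset.sum_ite_eq', Finset.mem_univ, if_true]
        have hne : (⟨a, ⟨i + 1, hi⟩⟩ : Ix d) ≠ ⟨a, i⟩ := fun h' => by
          have := congrArg (fun x : Ix d => (x.2 : ℕ)) h'
          simp at this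
        have h3 := congrFun (congrFun hpol0 (⟨a, ⟨i + 1, hi⟩⟩ : Ix d)) ⟨a, i⟩
        simp only [Matrix.add_apply, Matrix.transpose_apply, JordanType.gram, Matrix.of_apply] at h3
        rw [h3]
        simp only [M0, Matrix.of_apply, if_true, g0, Nat.succ_ne_zero, if_false, Nat.add_sub_cancel]
        have h4 : gTab d σ (altTable F) (-1) a (i : ℕ) a ((i : ℕ) + 1) = gTab d σ (altTable F) (-1) a ((i : ℕ) + 1) a (i : ℕ) :=
          hswap ⟨a, i⟩ ⟨a, ⟨i + 1, hi⟩⟩
        rw [h4, CharTwo.add_self_eq_zero]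
      · have hcol : ∀ r : Ix d, sh d F 1 r ⟨a, i⟩ = 0 := by
          rintro ⟨c, k⟩
          simp only [sh, Matrix.of_apply]
          rw [if_neg]
          rintro ⟨rfl, h'⟩
          omega
        simp [Matrix.mul_apply, hcol]
    obtain ⟨Q, hQ, hQg⟩ := exists_quad M (g : Matrix (Fin (2 * m)) (Fin (2 * m)) F) (fun v hv => hker v (by rwa [hMM] at hv))
      (by rw [hMM, hg]; exact hinv) (fun i => by
        rw [hg]
        simp only [M, Matrix.reindex_apply, Matrix.transpose_submatrix, Matrix.submatrix_mul_equiv, Matrix.submatrix_apply]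
        have := hS (e.symm i)
        rw [jordanTypeMatrix_eq, Matrix.transpose_add, Matrix.transpose_one, add_mul, one_mul, mul_add, mul_one, add_mul,
          Matrix.add_apply, Matrix.add_apply, Matrix.add_apply]
        linear_combination this)
    exact ⟨Q, hQ, e, ⟨g, mem_iso _ g hQg⟩, by rw [hg]⟩

end Cfsg.Agent.S2584
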