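import Cfsg.Statements.S2585

set_option autoImplicit false
open Cfsg

namespace Cfsg.Agent.S2585

/-- Over a finite field of characteristic two every element of the symplectic group is orthogonal for a suitable quadratic form: for each A in Sp_2m(F) there is a quadratic form Q on F^(2m) whose polar form is the alternating form defining Sp_2m(F) (so Q is non-degenerate) and which A preserves. Equivalently, for m ≥ 1, Sp_2m(F) is the union of the conjugates of its two orthogonal subgroups O⁺_2m(F) and O⁻_2m(F). -/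
theorem result {F : Type*} [Field F] [Fintype F] [CharP F 2] {m : ℕ} (A : Matrix.symplecticGroup (Fin m) F) : ∃ Q : QuadraticForm F (Fin m ⊕ Fin m → F), (∀ u v : Fin m ⊕ Fin m → F, QuadraticMap.polar ⇑Q u v = Cfsg.sympForm m F u v) ∧ ∀ v : Fin m ⊕ Fin m → F, Q ((A : Matrix (Fin m ⊕ Fin m) (Fin m ⊕ Fin m) F).mulVec v) = Q v := by
  classical
  let V := Fin m ⊕ Fin m → F
  let T : V →ₗ[F] V := Matrix.mulVecLin (A : Matrix (Fin m ⊕ Fin m) (Fin m ⊕ Fin m) F)
  let x : Fin m → V →ₗ[F] F := fun i => LinearMap.proj (Sum.inl i)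
  let y : Fin m → V →ₗ[F] F := fun i => LinearMap.proj (Sum.inr i)
  let Q₀ : QuadraticForm F V := ∑ i, QuadraticMap.linMulLin (x i) (y i)
  have hQ₀ : ∀ v : V, Q₀ v = ∑ i, v (Sum.inl i) * v (Sum.inr i) := by
    intro v; simp [Q₀, x, y, QuadraticMap.sum_apply]; rfl
  have hneg : ∀ a : F, -a = a := fun a => CharTwo.neg_eq a
  have hadd : ∀ a : F, a + a = 0 := fun a => CharTwo.add_self_eq_zero a
  have hpol : ∀ u v : V, QuadraticMap.polar (⇑Q₀) u v = Cfsg.sympForm m F u v := by
    intro u v
    simp only [QuadraticMap.polar, hQ₀, Pi.add_apply, Cfsg.sympForm, Matrix.J,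
      Matrix.fromBlocks_mulVec, dotProduct, Fintype.sum_sum_type, Sum.elim_inl, Sum.elim_inr,
      Matrix.zero_mulVec, Matrix.one_mulVec, Matrix.neg_mulVec, zero_add, add_zero, Function.comp_apply,
      Pi.neg_apply, ← Finset.sum_sub_distrib, ← Finset.sum_add_distrib, hneg]
    exact Finset.sum_congr rfl fun i _ => by rw [Pi.add_apply, Pi.add_apply]; ring
  have hform : ∀ u v : V, Cfsg.sympForm m F (T u) (T v) = Cfsg.sympForm m F u v := by
    intro u v
    show Matrix.mulVec _ u ⬝ᵥ Matrix.mulVec _ (Matrix.mulVec _ v) = _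
    rw [← Matrix.vecMul_transpose, ← Matrix.dotProduct_mulVec, Matrix.mulVec_mulVec, Matrix.mulVec_mulVec,
      SymplecticGroup.mem_iff'.1 A.2]
    rfl
  let Δ : V → F := fun v => Q₀ (T v) + Q₀ v
  have hΔadd : ∀ u v, Δ (u + v) = Δ u + Δ v := by
    intro u v
    have h := hform u v
    rw [← hpol, ← hpol] at h
    simp only [QuadraticMap.polar] at h
    simp only [Δ, map_add]
    have := hadd (Q₀ (u + v) - Q₀ u - Q₀ v)
    linear_combination h + this
  have hΔsmul : ∀ (c : F) v, Δ (c • v) = c ^ 2 * Δ v := by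
    intro c v
    simp only [Δ, map_smul, QuadraticMap.map_smul, smul_eq_mul]
    ring
  let ℓ : V →ₗ[F] F :=
    { toFun := fun v => (frobeniusEquiv F 2).symm (Δ v)
      map_add' := fun u v => by rw [hΔadd, map_add]
      map_smul' := fun c v => by
        rw [hΔsmul, map_mul, RingHom.id_apply, smul_eq_mul]
        congr 1
        rw [RingEquiv.symm_apply_eq, frobeniusEquiv_apply, frobenius_def] }
  have hℓ : ∀ v, ℓ v ^ 2 = Δ v := by
    intro v
    exact (frobeniusEquiv F 2).apply_symm_apply (Δ v)
  let D : V →ₗ[F] V := T + LinearMap.id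
  have hmem : ℓ ∈ LinearMap.range D.dualMap := by
    rw [LinearMap.range_dualMap_eq_dualAnnihilator_ker, Submodule.mem_dualAnnihilator]
    intro v hv
    have hTv : T v = v := by
      have h : T v + v = 0 := hv
      rw [add_eq_zero_iff_eq_neg] at h
      rw [h]
      exact funext fun i => hneg _
    have : Δ v = 0 := by simp only [Δ, hTv, hadd]
    exact eq_zero_of_pow_eq_zero ((hℓ v).trans this)
  obtain ⟨l, hl⟩ := hmem
  refine ⟨Q₀ + QuadraticMap.linMulLin l l, ?_, ?_⟩
  · intro u v
    rw [← hpol]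
    simp only [QuadraticMap.polar, QuadraticMap.add_apply, QuadraticMap.linMulLin_apply, map_add]
    linear_combination hadd (l u * l v)
  · intro v
    show (Q₀ + QuadraticMap.linMulLin l l) (T v) = _
    have h1 : l (T v) + l v = ℓ v := by
      rw [← map_add]
      exact LinearMap.congr_fun hl v
    have h2 := hℓ v
    simp only [QuadraticMap.add_apply, QuadraticMap.linMulLin_apply]
    simp only [Δ] at h2
    linear_combination -h2 - (ℓ v + l (T v) + l v) * h1 + hadd (l (T v) * l (T v)) + hadd (l (T v) * l v) - hadd (Q₀ v)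

end Cfsg.Agent.S2585
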