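import Cfsg.Statements.S2587
import Cfsg.Agent.Lib.HermitianFactor

set_option autoImplicit false
open Cfsg

namespace Cfsg.Agent.S2587

/-- Conjugacy in the finite general unitary group is controlled by the general linear group: two elements of GU_n(q) (the invertible matrices over the field with q² elements preserving the Hermitian form Σ u_i v_i^q) are conjugate in GU_n(q) if and only if they are conjugate in GL_n(q²). -/
theorem result {K : Type*} [Field K] [Fintype K] {q n : ℕ} (hK : Fintype.card K = q ^ 2) (A B : ↥(Cfsg.GU n K q)) : IsConj A B ↔ IsConj (A : GL (Fin n) K) (B : GL (Fin n) K) := by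
  classical
  obtain ⟨σ, hq, hσ, c, hc⟩ := Cfsg.Agent.HermitianFactor.exists_conjugation hK
  constructor
  · intro h
    exact (Cfsg.GU n K q).subtype.map_isConj h
  intro h
  obtain ⟨g, hg⟩ := isConj_iff.1 h
  let gm : Matrix (Fin n) (Fin n) K := ((g : GL (Fin n) K) : Matrix (Fin n) (Fin n) K)
  let Am : Matrix (Fin n) (Fin n) K := ((A : GL (Fin n) K) : Matrix (Fin n) (Fin n) K)
  let Bm : Matrix (Fin n) (Fin n) K := ((B : GL (Fin n) K) : Matrix (Fin n) (Fin n) K)
  have hA : Cfsg.Agent.HermitianFactor.ct σ Am * Am = 1 := (Cfsg.Agent.HermitianFactor.mem_GU_iff hq hσ _).1 A.2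
  have hB : Cfsg.Agent.HermitianFactor.ct σ Bm * Bm = 1 := (Cfsg.Agent.HermitianFactor.mem_GU_iff hq hσ _).1 B.2
  have hgAB : Bm * gm = gm * Am := by
    show ((B : GL (Fin n) K) : Matrix (Fin n) (Fin n) K) * (g : Matrix (Fin n) (Fin n) K) = _
    rw [← Units.val_mul, ← hg, inv_mul_cancel_right]
    rfl
  let P := Cfsg.Agent.HermitianFactor.ct σ gm * gm
  have hPinv : Cfsg.Agent.HermitianFactor.ct σ Am * P * Am = P := by
    calc Cfsg.Agent.HermitianFactor.ct σ Am * P * Am
        = Cfsg.Agent.HermitianFactor.ct σ (gm * Am) * (gm * Am) := by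
          simp only [P, Cfsg.Agent.HermitianFactor.ct_mul, mul_assoc]
      _ = P := by
          rw [← hgAB, Cfsg.Agent.HermitianFactor.ct_mul, mul_assoc, ← mul_assoc _ Bm gm, hB, one_mul]
  have hPA : Commute Am P := by
    have hA' : Am * Cfsg.Agent.HermitianFactor.ct σ Am = 1 := mul_eq_one_comm.1 hA
    show Am * P = P * Am
    conv_lhs => rw [← hPinv]
    rw [← mul_assoc, ← mul_assoc, hA', one_mul]
  obtain ⟨s, hs, hsu, he⟩ := Cfsg.Agent.HermitianFactor.exists_factor hσ c hc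
    (P := P) ((Cfsg.Agent.HermitianFactor.isUnit_ct g.isUnit).mul g.isUnit)
    (by simp only [P, Cfsg.Agent.HermitianFactor.ct_mul, Cfsg.Agent.HermitianFactor.ct_ct hσ])
  have hAs : Commute Am s := Algebra.commute_of_mem_adjoin_singleton_of_commute hs hPA
  have hcomm : Commute (A : GL (Fin n) K) hsu.unit := Units.ext hAs
  have hmem : g * hsu.unit⁻¹ ∈ Cfsg.GU n K q := by
    rw [Cfsg.Agent.HermitianFactor.mem_GU_iff hq hσ]
    have h1 : s * ((hsu.unit⁻¹ : GL (Fin n) K) : Matrix (Fin n) (Fin n) K) = 1 := hsu.mul_val_inv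
    show Cfsg.Agent.HermitianFactor.ct σ (gm * ((hsu.unit⁻¹ : GL (Fin n) K) : Matrix (Fin n) (Fin n) K)) * (gm * _) = 1
    rw [Cfsg.Agent.HermitianFactor.ct_mul, mul_assoc, ← mul_assoc (Cfsg.Agent.HermitianFactor.ct σ gm), show Cfsg.Agent.HermitianFactor.ct σ gm * gm = P from rfl, ← he, mul_assoc, h1, mul_one,
      ← Cfsg.Agent.HermitianFactor.ct_mul, h1, Cfsg.Agent.HermitianFactor.ct_one]
  refine isConj_iff.2 ⟨⟨g * hsu.unit⁻¹, hmem⟩, Subtype.ext ?_⟩
  show g * hsu.unit⁻¹ * (A : GL (Fin n) K) * (g * hsu.unit⁻¹)⁻¹ = (B : GL (Fin n) K)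
  rw [mul_assoc g, ← hcomm.inv_right.eq, mul_inv_rev, inv_inv, mul_assoc g, mul_assoc (A : GL (Fin n) K),
    inv_mul_cancel_left, ← mul_assoc]
  exact hg

end Cfsg.Agent.S2587
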