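import Cfsg.Statements.S2590
import Cfsg.Agent.Lib.OrthSemisimpleForms

set_option autoImplicit false
open Cfsg

namespace Cfsg.Agent.S2590

open Matrix

/-- Two semisimple elements of odd order of a finite orthogonal group (isometry group of a quadratic form on F^n with non-degenerate polar form, F finite of characteristic p; the elements have odd order prime to p) are conjugate in the orthogonal group if and only if they are conjugate in GL_n(F). -/
theorem result {F : Type*} [Field F] [Fintype F] {p : ℕ} [Fact p.Prime] [CharP F p] {n : ℕ} (Q : QuadraticForm F (Fin n → F)) (hQ : (QuadraticMap.polarBilin Q).Nondegenerate) (A B : ↥(Cfsg.isometryGroup F ⇑Q)) (hodd : Odd (orderOf A)) (hA : (orderOf A).Coprime p) : IsConj A B ↔ IsConj ((A : Matrix.GeneralLinearGroup (Fin n) F) : Matrix (Fin n) (Fin n) F) ((B : Matrix.GeneralLinearGroup (Fin n) F) : Matrix (Fin n) (Fin n) F) := by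
  let ι : ↥(Cfsg.isometryGroup F ⇑Q) →* Matrix (Fin n) (Fin n) F :=
    (Units.coeHom _).comp (Cfsg.isometryGroup F ⇑Q).subtype
  constructor
  · intro h; exact ι.map_isConj h
  · rintro ⟨P, hP⟩
    have hiso : ∀ g : ↥(Cfsg.isometryGroup F ⇑Q), ∀ v, Q (Matrix.toLin' (ι g) v) = Q v := fun g v => g.2 v v
    have hN : ((orderOf A : ℕ) : F) ≠ 0 := by
      rw [Ne, CharP.cast_eq_zero_iff F p]
      exact (Fact.out : p.Prime).coprime_iff_not_dvd.1 hA.symm
    have hAN : (Matrix.toLin' (ι A)) ^ orderOf A = 1 := by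
      rw [← Matrix.toLin'_pow, ← map_pow ι, pow_orderOf_eq_one, map_one, Matrix.toLin'_one]
      rfl
    let P' : (Fin n → F) ≃ₗ[F] (Fin n → F) := Matrix.toLin'OfInv P.inv_mul P.mul_inv
    have hP' : ∀ v, P' (Matrix.toLin' (ι A) v) = Matrix.toLin' (ι B) (P' v) := by
      intro v
      show (P : Matrix (Fin n) (Fin n) F) *ᵥ ((ι A) *ᵥ v) = (ι B) *ᵥ ((P : Matrix (Fin n) (Fin n) F) *ᵥ v)
      rw [Matrix.mulVec_mulVec, Matrix.mulVec_mulVec]
      exact congrArg (· *ᵥ v) hP.eq
    obtain ⟨R, hR, hRB⟩ := Cfsg.Agent.OrthSemisimpleForms.exists_orth_conj Q hQ hodd hAN hN (hiso A) (hiso B) P' hP'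
    let r := LinearMap.toMatrix' (R : (Fin n → F) →ₗ[F] (Fin n → F))
    let r' := LinearMap.toMatrix' (R.symm : (Fin n → F) →ₗ[F] (Fin n → F))
    have hrv : ∀ v, r *ᵥ v = R v := fun v => by rw [← Matrix.toLin'_apply]; simp [r]
    let u : GL (Fin n) F := ⟨r, r', by rw [← LinearMap.toMatrix'_comp]; simp, by rw [← LinearMap.toMatrix'_comp]; simp⟩
    have hu : u ∈ Cfsg.isometryGroup F ⇑Q := fun x _ => by
      show Q (r *ᵥ x) = Q x
      rw [hrv, hR]
    refine (isConj_iff.2 ⟨⟨u, hu⟩, ?_⟩).symm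
    rw [mul_inv_eq_iff_eq_mul]
    refine Subtype.ext (Units.ext (Matrix.toLin'.injective (LinearMap.ext fun v => ?_)))
    show Matrix.toLin' (r * ι B) v = Matrix.toLin' (ι A * r) v
    rw [Matrix.toLin'_mul, Matrix.toLin'_mul, LinearMap.comp_apply, LinearMap.comp_apply,
      Matrix.toLin'_apply r, Matrix.toLin'_apply r, hrv, hrv]
    exact hRB v

end Cfsg.Agent.S2590
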