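import Cfsg.Statements.S2591
import Cfsg.Agent.Lib.SymplecticRegular

set_option autoImplicit false
open Cfsg

namespace Cfsg.Agent.S2591

open Cfsg.Agent.SymplecticRegular Cfsg.Agent.RegularCentralizer Cfsg.Agent.RegularNilpotent

variable {F : Type*} [Field F] [Fintype F] {m : ℕ}

/-- Symplectic conjugacy criterion for regular unipotent elements. -/
theorem conj_of_square (hm : 1 ≤ m) (hq : Odd (Fintype.card F))
    {M M' : Matrix (Fin m ⊕ Fin m) (Fin m ⊕ Fin m) F} (hM : M ^ (2 * m) = 0) (hr : M.rank = 2 * m - 1)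
    (hskew : adj M = -M) (hskew' : adj M' = -M') (u u' : Matrix.symplecticGroup (Fin m) F)
    (hu : u.1 * (1 - M) = 1 + M) (hu' : u'.1 * (1 - M') = 1 + M')
    (P : GL (Fin m ⊕ Fin m) F) (hP : P.1 * M = M' * P.1)
    (a : F) (ha : adj P.1 * P.1 * M ^ (2 * m - 1) = a • M ^ (2 * m - 1)) (hsq : ∃ b : Fˣ, a = (b : F) ^ 2) :
    IsConj u u' := by
  have hmem : adjU P * P ∈ cent M := by
    rw [mem_cent]
    have h1 := congrArg adj hP
    rw [adj_mul, adj_mul, hskew, hskew', neg_mul, mul_neg, neg_inj] at h1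
    show M * (adj P.1 * P.1) = adj P.1 * P.1 * M
    rw [← mul_assoc, h1, mul_assoc, ← hP, mul_assoc]
  obtain ⟨χ, hχ⟩ := exists_lead card_index hM hr (show 0 < 2 * m by omega)
  obtain ⟨b, hb⟩ := hsq
  let e : cent M := ⟨adjU P * P, hmem⟩
  have hae : (χ e : F) = a := by
    refine smul_left_injective F ?_ ((hχ e).symm.trans ha)
    intro h0
    apply RegularNilpotent.pow_pred_ne_zero (N := Matrix.toLinAlgEquiv' M)
      (by rw [Module.finrank_pi, card_index]) (toEnd_hyps hM hr).1 (toEnd_hyps hM hr).2 (show 0 < 2 * m by omega)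
    rw [← map_pow, h0, map_zero]
  have hfix : adjHom hM hr hskew e = e := Subtype.ext (by
    show adjU (adjU P * P) = adjU P * P
    rw [adjU_mul, adjU_adjU])
  obtain ⟨x, hx⟩ := (norm_facts hm hq hM hr hskew).2 χ hχ e⁻¹ (by rw [map_inv, hfix])
    ⟨b⁻¹, by rw [map_inv, inv_pow, show χ e = b ^ 2 from Units.ext (by rw [hae, hb, Units.val_pow_eq_pow_val])]⟩
  have hx' : adjU x.1 * x.1 = (adjU P * P)⁻¹ := congrArg Subtype.val hx
  let g := P * x.1
  have hg : adj g.1 * g.1 = 1 := by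
    have h1 : adjU g * g = 1 := by
      show adjU (P * x.1) * (P * x.1) = 1
      have hc : adjU x.1 * (adjU P * P) = (adjU P * P) * adjU x.1 :=
        cent_comm card_index hM hr (adjU_mem_cent hskew x.2) hmem
      rw [adjU_mul, mul_assoc, ← mul_assoc (adjU P), ← mul_assoc, hc, mul_assoc, hx', mul_inv_cancel]
    exact congrArg Units.val h1
  have hgM : g.1 * M = M' * g.1 := by
    show P.1 * x.1.1 * M = M' * (P.1 * x.1.1)
    rw [mul_assoc, ← (mem_cent.1 x.2).eq, ← mul_assoc, hP, mul_assoc]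
  rw [isConj_iff]
  refine ⟨⟨g.1, (mem_iff_adj _).2 hg⟩, ?_⟩
  rw [mul_inv_eq_iff_eq_mul]
  apply Subtype.ext
  show g.1 * u.1 = u'.1 * g.1
  have hV : IsUnit (1 - M) := IsNilpotent.isUnit_one_sub ⟨_, hM⟩
  refine hV.mul_right_cancel ?_
  have h1 : g.1 * (1 - M) = (1 - M') * g.1 := by rw [mul_sub, sub_mul, hgM, mul_one, one_mul]
  rw [mul_assoc, hu, mul_assoc (u'.1), h1, ← mul_assoc, hu', mul_add, add_mul, hgM, mul_one, one_mul]

/-- Over a finite field of odd order and for m ≥ 1, the regular unipotent elements of Sp_2m(F) (u − 1 nilpotent of rank 2m − 1, a single Jordan block) form exactly two conjugacy classes of Sp_2m(F) (one class under the similarity group, which splits in two). -/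
theorem result {F : Type*} [Field F] [Fintype F] {q : ℕ} (hF : Fintype.card F = q) (hq : Odd q) {m : ℕ} (hm : 1 ≤ m) : Nat.card {C : ConjClasses ↥(Matrix.symplecticGroup (Fin m) F) // ∃ u : Matrix.symplecticGroup (Fin m) F, ConjClasses.mk u = C ∧ ((u : Matrix (Fin m ⊕ Fin m) (Fin m ⊕ Fin m) F) - 1) ^ (2 * m) = 0 ∧ ((u : Matrix (Fin m ⊕ Fin m) (Fin m ⊕ Fin m) F) - 1).rank = 2 * m - 1} = 2 := by
  classical
  subst hF
  have h2 : (2 : F) ≠ 0 := by
    intro h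
    haveI := Fact.mk Nat.prime_two
    have hc : ringChar F = 2 := CharP.ringChar_of_prime_eq_zero Nat.prime_two (by exact_mod_cast h)
    have := FiniteField.even_card_of_char_two hc
    rw [Nat.odd_iff] at hq
    omega
  obtain ⟨hM, hr⟩ := stdM_regular (F := F) (m := m)
  let M := stdM F m
  have hskew : adj M = -M := stdM_skew
  have hpos : 0 < 2 * m := by omega
  let Sq : Subgroup Fˣ := (powMonoidHom 2).range
  have hidx : Sq.index = 2 := by
    rw [IsCyclic.index_powMonoidHom_range, Nat.card_units, Nat.card_eq_fintype_card]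
    rw [Nat.odd_iff] at hq
    exact Nat.gcd_eq_right (by omega)
  obtain ⟨l, hl⟩ : ∃ l : Fˣ, l ∉ Sq := by
    by_contra h
    push Not at h
    rw [show Sq = ⊤ from eq_top_iff.2 (fun x _ => h x), Subgroup.index_top] at hidx
    omega
  -- the standard element
  obtain ⟨V, hV⟩ : IsUnit (1 - M) := IsNilpotent.isUnit_one_sub ⟨_, hM⟩
  have hadjV : adj (V : Matrix (Fin m ⊕ Fin m) (Fin m ⊕ Fin m) F) = 1 + M := by
    rw [hV, adj_sub, adj_one, hskew, sub_neg_eq_add]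
  have hVM : Commute (V : Matrix (Fin m ⊕ Fin m) (Fin m ⊕ Fin m) F) M := by
    rw [hV]; exact (Commute.one_left M).sub_left (Commute.refl M)
  let U₀ : Matrix (Fin m ⊕ Fin m) (Fin m ⊕ Fin m) F := (1 + M) * ((V⁻¹ : (Matrix (Fin m ⊕ Fin m) (Fin m ⊕ Fin m) F)ˣ) : Matrix (Fin m ⊕ Fin m) (Fin m ⊕ Fin m) F)
  have hU₀ : adj U₀ * U₀ = 1 := by
    have h1 : adj ((V⁻¹ : (Matrix (Fin m ⊕ Fin m) (Fin m ⊕ Fin m) F)ˣ) : Matrix (Fin m ⊕ Fin m) (Fin m ⊕ Fin m) F) * (1 + M) = 1 := by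
      rw [← hadjV, ← adj_mul, Units.mul_inv, adj_one]
    have hc : (1 - M) * (1 + M) = (1 + M) * (1 - M) := by noncomm_ring
    have : adj (1 + M) = (V : Matrix (Fin m ⊕ Fin m) (Fin m ⊕ Fin m) F) := by rw [adj_add, adj_one, hskew, hV, sub_eq_add_neg]
    simp only [U₀, adj_mul, this, mul_assoc]
    rw [← mul_assoc (V : Matrix (Fin m ⊕ Fin m) (Fin m ⊕ Fin m) F), hV, hc, ← hV, mul_assoc, Units.mul_inv, mul_one, h1]
  let u₀ : Matrix.symplecticGroup (Fin m) F := ⟨U₀, (mem_iff_adj _).2 hU₀⟩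
  have hu₀ : u₀.1 * (1 - M) = 1 + M := by
    show U₀ * (1 - M) = 1 + M
    rw [← hV]
    simp only [U₀, mul_assoc, Units.inv_mul, mul_one]
  have hu₀reg : (U₀ - 1) ^ (2 * m) = 0 ∧ (U₀ - 1).rank = 2 * m - 1 := by
    have h : U₀ - 1 = M * ((2 : F) • ((V⁻¹ : (Matrix (Fin m ⊕ Fin m) (Fin m ⊕ Fin m) F)ˣ) : Matrix (Fin m ⊕ Fin m) (Fin m ⊕ Fin m) F)) := by
      rw [mul_smul_comm, two_smul, ← add_mul]
      calc U₀ - 1 = U₀ - (V : Matrix (Fin m ⊕ Fin m) (Fin m ⊕ Fin m) F) * ((V⁻¹ : (Matrix (Fin m ⊕ Fin m) (Fin m ⊕ Fin m) F)ˣ) : Matrix (Fin m ⊕ Fin m) (Fin m ⊕ Fin m) F) := by rw [Units.mul_inv]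
        _ = _ := by simp only [U₀]; rw [← sub_mul, hV]; congr 1; abel
    rw [h]
    exact regular_mul_unit (((V⁻¹).isUnit).smul (Units.mk0 (2 : F) h2)) ((hVM.symm.units_inv_right).smul_right _) hM hr
  -- the second element
  let D := simil (F := F) m l
  have hDD : adj D.1 * D.1 = (l : F) • (1 : Matrix (Fin m ⊕ Fin m) (Fin m ⊕ Fin m) F) := adj_simil_mul l
  have hadjDi : adj ((D⁻¹ : GL (Fin m ⊕ Fin m) F) : Matrix (Fin m ⊕ Fin m) (Fin m ⊕ Fin m) F) = ((l⁻¹ : Fˣ) : F) • D.1 := by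
    have h1 : adj ((D⁻¹ : GL (Fin m ⊕ Fin m) F) : Matrix (Fin m ⊕ Fin m) (Fin m ⊕ Fin m) F) * adj D.1 = 1 := by rw [← adj_mul, Units.mul_inv, adj_one]
    calc adj ((D⁻¹ : GL (Fin m ⊕ Fin m) F) : Matrix (Fin m ⊕ Fin m) (Fin m ⊕ Fin m) F)
        = ((l⁻¹ : Fˣ) : F) • (adj ((D⁻¹ : GL (Fin m ⊕ Fin m) F) : Matrix (Fin m ⊕ Fin m) (Fin m ⊕ Fin m) F) * ((l : F) • (1 : Matrix (Fin m ⊕ Fin m) (Fin m ⊕ Fin m) F))) := by
          rw [mul_smul_comm, smul_smul, Units.inv_mul, one_smul, mul_one]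
      _ = _ := by rw [← hDD, ← mul_assoc, h1, one_mul]
  let U₁ : Matrix (Fin m ⊕ Fin m) (Fin m ⊕ Fin m) F := D.1 * U₀ * ((D⁻¹ : GL (Fin m ⊕ Fin m) F) : Matrix (Fin m ⊕ Fin m) (Fin m ⊕ Fin m) F)
  have hU₁ : adj U₁ * U₁ = 1 := by
    simp only [U₁, adj_mul, hadjDi, mul_assoc, Matrix.smul_mul]
    rw [← mul_assoc (adj D.1), hDD, Matrix.smul_mul, one_mul, mul_smul_comm, ← mul_assoc (adj U₀), hU₀, one_mul,
      mul_smul_comm, Units.mul_inv, smul_smul, Units.inv_mul, one_smul]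
  let u₁ : Matrix.symplecticGroup (Fin m) F := ⟨U₁, (mem_iff_adj _).2 hU₁⟩
  let M₁ : Matrix (Fin m ⊕ Fin m) (Fin m ⊕ Fin m) F := D.1 * M * ((D⁻¹ : GL (Fin m ⊕ Fin m) F) : Matrix (Fin m ⊕ Fin m) (Fin m ⊕ Fin m) F)
  have hDM : D.1 * M = M₁ * D.1 := by simp only [M₁, mul_assoc, Units.inv_mul, mul_one]
  have hM₁ : M₁ ^ (2 * m) = 0 ∧ M₁.rank = 2 * m - 1 := by
    refine ⟨by rw [Units.conj_pow, hM, mul_zero, zero_mul], ?_⟩
    simp only [M₁]
    rw [Matrix.rank_mul_eq_left_of_isUnit_det _ _ ((Matrix.isUnit_iff_isUnit_det _).1 (D⁻¹).isUnit),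
      Matrix.rank_mul_eq_right_of_isUnit_det _ _ ((Matrix.isUnit_iff_isUnit_det _).1 D.isUnit), hr]
  have hskew₁ : adj M₁ = -M₁ := by
    have hDa : adj D.1 = (l : F) • ((D⁻¹ : GL (Fin m ⊕ Fin m) F) : Matrix (Fin m ⊕ Fin m) (Fin m ⊕ Fin m) F) := by
      calc adj D.1 = adj D.1 * D.1 * ((D⁻¹ : GL (Fin m ⊕ Fin m) F) : Matrix (Fin m ⊕ Fin m) (Fin m ⊕ Fin m) F) := by rw [mul_assoc, Units.mul_inv, mul_one]
        _ = _ := by rw [hDD, Matrix.smul_mul, one_mul]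
    simp only [M₁, adj_mul, hadjDi, hskew, hDa, Matrix.smul_mul, mul_smul_comm, smul_smul, Units.inv_mul, Units.mul_inv,
      one_smul, mul_neg, neg_mul, smul_neg, mul_assoc]
  have hu₁ : u₁.1 * (1 - M₁) = 1 + M₁ := by
    show U₁ * (1 - M₁) = 1 + M₁
    have h1 : ∀ Z : Matrix (Fin m ⊕ Fin m) (Fin m ⊕ Fin m) F, D.1 * Z * ((D⁻¹ : GL (Fin m ⊕ Fin m) F) : Matrix (Fin m ⊕ Fin m) (Fin m ⊕ Fin m) F) * (D.1) = D.1 * Z := fun Z => by
      rw [mul_assoc, Units.inv_mul, mul_one]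
    apply D.isUnit.mul_right_cancel
    rw [mul_assoc, sub_mul, one_mul, ← hDM, ← mul_one D.1, mul_assoc D.1, one_mul, ← mul_sub, ← mul_assoc, h1,
      mul_assoc, show U₀ * (1 - M) = 1 + M from hu₀, mul_add, add_mul, one_mul, mul_one, ← hDM]
  have hu₁reg : (U₁ - 1) ^ (2 * m) = 0 ∧ (U₁ - 1).rank = 2 * m - 1 := by
    have h : U₁ - 1 = D.1 * (U₀ - 1) * ((D⁻¹ : GL (Fin m ⊕ Fin m) F) : Matrix (Fin m ⊕ Fin m) (Fin m ⊕ Fin m) F) := by
      rw [mul_sub, sub_mul, mul_one, Units.mul_inv]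
    rw [h]
    refine ⟨by rw [Units.conj_pow, hu₀reg.1, mul_zero, zero_mul], ?_⟩
    rw [Matrix.rank_mul_eq_left_of_isUnit_det _ _ ((Matrix.isUnit_iff_isUnit_det _).1 (D⁻¹).isUnit),
      Matrix.rank_mul_eq_right_of_isUnit_det _ _ ((Matrix.isUnit_iff_isUnit_det _).1 D.isUnit), hu₀reg.2]
  obtain ⟨χ, hχ⟩ := exists_lead card_index hM hr hpos
  have hne : M ^ (2 * m - 1) ≠ 0 := by
    intro h0
    apply RegularNilpotent.pow_pred_ne_zero (N := Matrix.toLinAlgEquiv' M)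
      (by rw [Module.finrank_pi, card_index]) (toEnd_hyps hM hr).1 (toEnd_hyps hM hr).2 hpos
    rw [← map_pow, h0, map_zero]
  -- they are not conjugate
  have hnot : ¬ IsConj u₀ u₁ := by
    intro h
    obtain ⟨g, hg⟩ := isConj_iff.1 h
    rw [mul_inv_eq_iff_eq_mul] at hg
    have hg' : g.1 * U₀ = U₁ * g.1 := congrArg Subtype.val hg
    let gU : GL (Fin m ⊕ Fin m) F := ⟨g.1, (g⁻¹).1, congrArg Subtype.val (mul_inv_cancel g), congrArg Subtype.val (inv_mul_cancel g)⟩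
    let x : GL (Fin m ⊕ Fin m) F := gU⁻¹ * D
    have hxU : Commute U₀ x.1 := by
      show U₀ * ((g⁻¹).1 * D.1) = (g⁻¹).1 * D.1 * U₀
      have hgi : (g⁻¹).1 * g.1 = 1 := congrArg Subtype.val (inv_mul_cancel g)
      have hig : g.1 * (g⁻¹).1 = 1 := congrArg Subtype.val (mul_inv_cancel g)
      have hD0 : D.1 * U₀ = U₁ * D.1 := by simp only [U₁, mul_assoc, Units.inv_mul, mul_one]
      calc U₀ * ((g⁻¹).1 * D.1) = (g⁻¹).1 * (g.1 * U₀) * (g⁻¹).1 * D.1 := by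
            rw [← mul_assoc (g⁻¹).1, hgi, one_mul, ← mul_assoc U₀]
        _ = (g⁻¹).1 * U₁ * (g.1 * (g⁻¹).1) * D.1 := by rw [hg']; simp only [mul_assoc]
        _ = _ := by rw [hig, mul_one, mul_assoc, ← hD0, mul_assoc]
    have hxM : Commute M x.1 := by
      refine (?_ : Commute x.1 M).symm
      have h1 : Commute x.1 (U₀ + 1) := hxU.symm.add_right (Commute.one_right _)
      have h3 : (U₀ + 1) * (V : Matrix (Fin m ⊕ Fin m) (Fin m ⊕ Fin m) F) = (2 : F) • 1 := by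
        rw [add_mul, one_mul, hV, show U₀ * (1 - M) = 1 + M from hu₀, two_smul]; abel
      have h4 : (U₀ - 1) * (V : Matrix (Fin m ⊕ Fin m) (Fin m ⊕ Fin m) F) = (2 : F) • M := by
        rw [sub_mul, one_mul, hV, show U₀ * (1 - M) = 1 + M from hu₀, two_smul]; abel
      have h5 : Commute x.1 (V : Matrix (Fin m ⊕ Fin m) (Fin m ⊕ Fin m) F) := by
        have hu : IsUnit (U₀ + 1) := IsUnit.of_mul_eq_one (((2 : F)⁻¹) • (V : Matrix (Fin m ⊕ Fin m) (Fin m ⊕ Fin m) F)) (by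
          rw [mul_smul_comm, h3, smul_smul, inv_mul_cancel₀ h2, one_smul])
        refine hu.mul_left_cancel ?_
        rw [← mul_assoc, ← h1.eq, mul_assoc, h3, ← mul_assoc, h3, mul_smul_comm, mul_one, smul_mul_assoc, one_mul]
      have h6 : Commute x.1 ((2 : F) • M) := h4 ▸ (hxU.symm.sub_right (Commute.one_right _)).mul_right h5
      have h7 := h6.smul_right ((2 : F)⁻¹)
      rwa [smul_smul, inv_mul_cancel₀ h2, one_smul] at h7
    let xc : cent M := ⟨x, hxM⟩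
    have hnorm : adj x.1 * x.1 = (l : F) • (1 : Matrix (Fin m ⊕ Fin m) (Fin m ⊕ Fin m) F) := by
      have hgg : adj (g⁻¹).1 * (g⁻¹).1 = 1 := (mem_iff_adj _).1 (g⁻¹).2
      show adj ((g⁻¹).1 * D.1) * ((g⁻¹).1 * D.1) = _
      rw [adj_mul, mul_assoc, ← mul_assoc (adj (g⁻¹).1), hgg, one_mul, hDD]
    apply hl
    refine ⟨χ xc, Units.ext (smul_left_injective F hne ?_)⟩
    show ((χ xc ^ 2 : Fˣ) : F) • M ^ (2 * m - 1) = (l : F) • M ^ (2 * m - 1)
    have := hχ (adjHom hM hr hskew xc * xc)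
    rw [map_mul, lead_adj hm hM hr hskew χ hχ, ← _root_.sq] at this
    rw [← this]
    show adj x.1 * x.1 * _ = _
    rw [hnorm, Matrix.smul_mul, one_mul]
  -- every regular unipotent is conjugate to one of them
  have hall : ∀ u : Matrix.symplecticGroup (Fin m) F, (u.1 - 1) ^ (2 * m) = 0 → (u.1 - 1).rank = 2 * m - 1 →
      IsConj u₀ u ∨ IsConj u₁ u := by
    intro u hn hrk
    obtain ⟨M', hM', hr', hskew', hu', -⟩ := exists_cayley h2 u hn hrk
    obtain ⟨P, hP, hPM⟩ := exists_conj card_index hM hr hM' hr'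
    obtain ⟨P, rfl⟩ := hP
    have hmem : adjU P * P ∈ cent M := by
      rw [mem_cent]
      have h1 := congrArg adj hPM
      rw [adj_mul, adj_mul, hskew, hskew', neg_mul, mul_neg, neg_inj] at h1
      show M * (adj P.1 * P.1) = adj P.1 * P.1 * M
      rw [← mul_assoc, h1, mul_assoc, ← hPM, mul_assoc]
    let e : cent M := ⟨adjU P * P, hmem⟩
    by_cases he : χ e ∈ Sq
    · obtain ⟨b, hb⟩ := he
      exact Or.inl (conj_of_square hm hq hM hr hskew hskew' u₀ u hu₀ hu' P hPM (χ e : F) (hχ e)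
        ⟨b, by rw [← hb]; rfl⟩)
    · right
      have hmul : l⁻¹ * χ e ∈ Sq := by
        rw [Subgroup.mul_mem_iff_of_index_two hidx]
        simp [hl, he]
      obtain ⟨b, hb⟩ := hmul
      refine conj_of_square hm hq hM₁.1 hM₁.2 hskew₁ hskew' u₁ u hu₁ hu' (P * D⁻¹) ?_ ((l⁻¹ * χ e : Fˣ) : F) ?_
        ⟨b, by rw [← hb]; rfl⟩
      · show P.1 * ((D⁻¹ : GL (Fin m ⊕ Fin m) F) : Matrix (Fin m ⊕ Fin m) (Fin m ⊕ Fin m) F) * M₁ = M' * (P.1 * ((D⁻¹ : GL (Fin m ⊕ Fin m) F) : Matrix (Fin m ⊕ Fin m) (Fin m ⊕ Fin m) F))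
        simp only [M₁, mul_assoc, Units.inv_mul_cancel_left]
        rw [← mul_assoc, hPM, mul_assoc]
      · show adj (P.1 * ((D⁻¹ : GL (Fin m ⊕ Fin m) F) : Matrix (Fin m ⊕ Fin m) (Fin m ⊕ Fin m) F)) * (P.1 * ((D⁻¹ : GL (Fin m ⊕ Fin m) F) : Matrix (Fin m ⊕ Fin m) (Fin m ⊕ Fin m) F)) * M₁ ^ (2 * m - 1) = _
        rw [Units.conj_pow, adj_mul, hadjDi]
        simp only [mul_assoc, Units.inv_mul_cancel_left, Matrix.smul_mul]
        have h := hχ e
        change adj P.1 * P.1 * M ^ (2 * m - 1) = _ at h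
        rw [← mul_assoc (adj P.1), ← mul_assoc (adj P.1 * P.1), h, Units.val_mul, Matrix.smul_mul, mul_smul_comm,
          smul_smul]
  have hset : ∀ C : ConjClasses (Matrix.symplecticGroup (Fin m) F),
      (∃ u : Matrix.symplecticGroup (Fin m) F, ConjClasses.mk u = C ∧ (u.1 - 1) ^ (2 * m) = 0 ∧ (u.1 - 1).rank = 2 * m - 1)
        ↔ (C = ConjClasses.mk u₀ ∨ C = ConjClasses.mk u₁) := by
    intro C
    constructor
    · rintro ⟨u, rfl, h1, h2⟩
      rcases hall u h1 h2 with h | h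
      · exact Or.inl (ConjClasses.mk_eq_mk_iff_isConj.2 h.symm)
      · exact Or.inr (ConjClasses.mk_eq_mk_iff_isConj.2 h.symm)
    · rintro (rfl | rfl)
      · exact ⟨u₀, rfl, hu₀reg⟩
      · exact ⟨u₁, rfl, hu₁reg⟩
  rw [Nat.card_congr (Equiv.subtypeEquivRight hset)]
  rw [Nat.card_eq_two_iff]
  refine ⟨⟨_, Or.inl rfl⟩, ⟨_, Or.inr rfl⟩, fun h => hnot (ConjClasses.mk_eq_mk_iff_isConj.1 (congrArg Subtype.val h)), ?_⟩
  refine Set.eq_univ_of_forall fun x => ?_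
  rcases x.2 with h | h
  · exact Or.inl (Subtype.ext h)
  · exact Or.inr (Subtype.ext h)

end Cfsg.Agent.S2591
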