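import Cfsg.Statements.S2592
import Cfsg.Agent.Lib.SymplecticRegular

set_option autoImplicit false
open Cfsg

namespace Cfsg.Agent.S2592

open Cfsg.Agent.SymplecticRegular Cfsg.Agent.RegularCentralizer

/-- Over a finite field with q elements, q odd, the centraliser in Sp_2m(F) (m ≥ 1) of a regular unipotent element (u − 1 nilpotent of rank 2m − 1) has order 2 q^m. -/
theorem result {F : Type*} [Field F] [Fintype F] {q : ℕ} (hF : Fintype.card F = q) (hq : Odd q) {m : ℕ} (hm : 1 ≤ m) (u : Matrix.symplecticGroup (Fin m) F) (hnil : ((u : Matrix (Fin m ⊕ Fin m) (Fin m ⊕ Fin m) F) - 1) ^ (2 * m) = 0) (hreg : ((u : Matrix (Fin m ⊕ Fin m) (Fin m ⊕ Fin m) F) - 1).rank = 2 * m - 1) : Nat.card ↥(Subgroup.centralizer ({u} : Set ↥(Matrix.symplecticGroup (Fin m) F))) = 2 * q ^ m := by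
  classical
  subst hF
  have h2 : (2 : F) ≠ 0 := by
    intro h
    haveI := Fact.mk Nat.prime_two
    have hc : ringChar F = 2 := CharP.ringChar_of_prime_eq_zero Nat.prime_two (by exact_mod_cast h)
    have := FiniteField.even_card_of_char_two hc
    rw [Nat.odd_iff] at hq
    omega
  obtain ⟨M, hM, hr, hskew, -, hcomm⟩ := exists_cayley h2 u hnil hreg
  rw [← (norm_facts hm hq hM hr hskew).1]
  refine (Nat.card_congr (Equiv.ofBijective (fun x => (⟨⟨((x.1 : GL (Fin m ⊕ Fin m) F) : Matrix (Fin m ⊕ Fin m) (Fin m ⊕ Fin m) F), (mem_iff_adj _).2 x.2⟩, ?_⟩ : Subgroup.centralizer ({u} : Set (Matrix.symplecticGroup (Fin m) F)))) ⟨?_, ?_⟩)).symm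
  · rw [Subgroup.mem_centralizer_singleton_iff]
    exact Subtype.ext ((hcomm _).2 (mem_cent.1 x.1.2)).symm.eq
  · intro a b h
    exact Subtype.ext (Subtype.ext (Units.ext
      (congrArg (fun z : Subgroup.centralizer ({u} : Set (Matrix.symplecticGroup (Fin m) F)) => (z.1.1 : Matrix (Fin m ⊕ Fin m) (Fin m ⊕ Fin m) F)) h)))
  · rintro ⟨x, hx⟩
    rw [Subgroup.mem_centralizer_singleton_iff] at hx
    refine ⟨⟨⟨⟨x.1, (x⁻¹).1, congrArg Subtype.val (mul_inv_cancel x), congrArg Subtype.val (inv_mul_cancel x)⟩,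
      (hcomm _).1 (congrArg Subtype.val hx).symm⟩, (mem_iff_adj _).1 x.2⟩, rfl⟩

end Cfsg.Agent.S2592
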