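import Cfsg.Statements.S2593
import Cfsg.Agent.Lib.CharTwoInvolForms
import Cfsg.Agent.S2166
import Cfsg.Agent.Lib.CharTwoInvolSp

set_option autoImplicit false
open Cfsg

namespace Cfsg.Agent.S2593

open Matrix Module Cfsg.Agent.SymplecticBasic Cfsg.Agent.CharTwoInvolCount
open Cfsg.Agent.OrthUnitaryQuad Cfsg.Agent.OrthCharTwo

universe u

variable {F : Type u} [Field F] [CharP F 2] {m : ℕ}

open scoped Classical in
/-- The invariant of a symplectic involution. -/
noncomputable def spInv (a : ↥(Matrix.symplecticGroup (Fin m) F)) : ℕ × Bool :=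
  (((a : Matrix (Fin m ⊕ Fin m) (Fin m ⊕ Fin m) F) - 1).rank,
    decide (∀ v, Cfsg.sympForm m F v ((a : Matrix (Fin m ⊕ Fin m) (Fin m ⊕ Fin m) F) *ᵥ v) = 0))

theorem isConj_iff_spInv [Fintype F] (a b : ↥(Matrix.symplecticGroup (Fin m) F))
    (ha : orderOf a = 2) (hb : orderOf b = 2) : IsConj a b ↔ spInv a = spInv b := by
  set M := (a : Matrix (Fin m ⊕ Fin m) (Fin m ⊕ Fin m) F)
  set N := (b : Matrix (Fin m ⊕ Fin m) (Fin m ⊕ Fin m) F)
  constructor
  · rw [isConj_iff]
    rintro ⟨c, hc⟩
    set G := (c : Matrix (Fin m ⊕ Fin m) (Fin m ⊕ Fin m) F)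
    set G' := ((c⁻¹ : ↥(Matrix.symplecticGroup (Fin m) F)) :
      Matrix (Fin m ⊕ Fin m) (Fin m ⊕ Fin m) F)
    have h1 : G * G' = 1 := congrArg Subtype.val (mul_inv_cancel c)
    have h2 : G' * G = 1 := congrArg Subtype.val (inv_mul_cancel c)
    have hN : N = G * M * G' := (congrArg Subtype.val hc).symm
    refine Prod.ext ?_ (decide_eq_decide.2 ?_)
    · show (M - 1).rank = (N - 1).rank
      have hN1 : N - 1 = G * (M - 1) * G' := by
        rw [hN, Matrix.mul_sub, Matrix.sub_mul, Matrix.mul_one, h1]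
      rw [hN1]
      refine le_antisymm ?_ ((Matrix.rank_mul_le_left _ _).trans (Matrix.rank_mul_le_right _ _))
      calc (M - 1).rank = (G' * (G * (M - 1) * G') * G).rank := by
            rw [← Matrix.mul_assoc, ← Matrix.mul_assoc, h2, Matrix.one_mul, Matrix.mul_assoc, h2,
              Matrix.mul_one]
        _ ≤ _ := (Matrix.rank_mul_le_left _ _).trans (Matrix.rank_mul_le_right _ _)
    · have key : ∀ v, Cfsg.sympForm m F (G *ᵥ v) (N *ᵥ (G *ᵥ v)) =
          Cfsg.sympForm m F v (M *ᵥ v) := fun v => by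
        rw [hN, Matrix.mulVec_mulVec, Matrix.mul_assoc, h2, Matrix.mul_one,
          ← Matrix.mulVec_mulVec, mem_sp_iff_form.1 c.2]
      constructor
      · intro h v
        have := key (G' *ᵥ v)
        rw [Matrix.mulVec_mulVec, h1, Matrix.one_mulVec] at this
        rw [this]; exact h _
      · exact fun h v => (key v).symm.trans (h _)
  · intro h
    obtain ⟨a1, a2, a3, a4⟩ := S2166.facts a ha
    obtain ⟨b1, b2, b3, b4⟩ := S2166.facts b hb
    have hB : (S2166.form m F).Nondegenerate := by
      refine ⟨fun u hu => form_nondeg fun v => ?_, fun v hv => form_nondeg fun u => ?_⟩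
      · rw [← S2166.form_apply]; exact hu v
      · rw [form_swap, ← S2166.form_apply, hv u, neg_zero]
    have hA : (S2166.form m F).IsAlt := fun u => by rw [S2166.form_apply, form_self]
    obtain ⟨g, hg, hgA⟩ := SympInvolClasses.exists_conj CharTwoInvolCentralizer.exists_sqrt
      (S2166.form m F) hB hA (Matrix.toLin' (M - 1)) (Matrix.toLin' (N - 1)) a1 a2 b1 b2
      (by rw [← a3, ← b3]; exact congrArg Prod.fst h)
      (by simp only [a4, b4, M, N]; exact decide_eq_decide.1 (congrArg Prod.snd h))
    refine isConj_iff.2 ⟨⟨LinearMap.toMatrix' g.toLinearMap,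
      mem_sp_iff_form.2 fun u v => ?_⟩,
      mul_inv_eq_iff_eq_mul.2 (Subtype.ext ?_)⟩
    · rw [← Matrix.toLin'_apply, ← Matrix.toLin'_apply, Matrix.toLin'_toMatrix',
        ← S2166.form_apply, ← S2166.form_apply]
      exact hg u v
    · have e := congrArg LinearMap.toMatrix'
        (LinearMap.ext hgA : g.toLinearMap ∘ₗ Matrix.toLin' (M - 1)
          = Matrix.toLin' (N - 1) ∘ₗ g.toLinearMap)
      rw [LinearMap.toMatrix'_comp, LinearMap.toMatrix'_comp, LinearMap.toMatrix'_toLin',
        LinearMap.toMatrix'_toLin', Matrix.mul_sub, Matrix.sub_mul, Matrix.mul_one,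
        Matrix.one_mul] at e
      exact sub_left_inj.1 e

theorem sympForm_eq_polar (u v : Fin m ⊕ Fin m → F) :
    Cfsg.sympForm m F u v = QuadraticMap.polar (qfPlus F m) u v := by
  rw [CharTwoInvolBridge.polar_plus, form_eq_sum]
  exact Finset.sum_congr rfl fun i _ => by rw [CharTwo.sub_eq_add]; ring

theorem count [Fintype F] (hm : 1 ≤ m) :
    Nat.card {C : ConjClasses ↥(Matrix.symplecticGroup (Fin m) F) //
      ∃ g, ConjClasses.mk g = C ∧ orderOf g = 2} = m + m / 2 := by
  classical
  rw [← card_invSet m m]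
  refine card_classes (fun g => orderOf g = 2) spInv isConj_iff_spInv _ fun i => ?_
  constructor
  · intro hi
    obtain ⟨t, ht, hti⟩ := (CharTwoInvolForms.realised_plus (F := F) m i).1 hi
    obtain ⟨ht2, hrk⟩ := (orderOf_two_iff t).1 ht
    set M := LinearMap.toMatrix' (t.1 : (Fin m ⊕ Fin m → F) →ₗ[F] (Fin m ⊕ Fin m → F)) with hMdef
    have happ : ∀ v, M *ᵥ v = t.1 v := fun v => by
      rw [hMdef, LinearMap.toMatrix'_mulVec]; rfl
    have hM : M ∈ Matrix.symplecticGroup (Fin m) F := mem_sp_iff_form.2 fun u v => by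
      rw [happ, happ, sympForm_eq_polar, sympForm_eq_polar]
      exact polar_orth t u v
    have hrank : (M - 1).rank = finrank F (LinearMap.range (dif t)) := by
      rw [Matrix.rank]
      have hmv : (M - 1).mulVecLin = dif t := LinearMap.ext fun x => by
        rw [Matrix.mulVecLin_apply, Matrix.sub_mulVec, Matrix.one_mulVec, dif_apply, happ]
      rw [hmv]
    refine ⟨⟨M, hM⟩, ?_, ?_⟩
    · rw [orderOf_eq_prime_iff, pow_two]
      refine ⟨Subtype.ext (Matrix.toLin'.injective (LinearMap.ext fun v => ?_)), fun h1 => ?_⟩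
      · show (M * M).toLin' v = Matrix.toLin' 1 v
        rw [Matrix.toLin'_apply, Matrix.toLin'_apply, ← Matrix.mulVec_mulVec, happ, happ,
          Matrix.one_mulVec]
        exact LinearEquiv.congr_fun (congrArg Subtype.val ht2) v
      · have : M = 1 := congrArg Subtype.val h1
        rw [this, sub_self, Matrix.rank_zero] at hrank
        omega
    · obtain ⟨-, -, t3⟩ := CharTwoInvolOrbit.dif_facts t ht2
      rw [← hti]
      refine Prod.ext hrank (decide_eq_decide.2 ?_)
      have key : ∀ v, Cfsg.sympForm m F v (M *ᵥ v) = qfPlus F m (dif t v) := fun v => by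
        rw [t3 v, dif_apply, happ, sympForm_eq_polar, QuadraticMap.polar_sub_right,
          polar_self_mul, CharTwo.two_eq_zero, zero_mul, sub_zero]
      simp only [key]
  · rintro ⟨g, hg, rfl⟩
    obtain ⟨hle, c, -, h1, -⟩ := CharTwoInvolSp.card_centralizer_sp rfl g
      (by rw [← hg, pow_orderOf_eq_one]) rfl
    have hge : 1 ≤ (spInv g).1 := by
      rw [Nat.one_le_iff_ne_zero]
      intro h0
      have h0' : Matrix.toLin' ((g : Matrix (Fin m ⊕ Fin m) (Fin m ⊕ Fin m) F) - 1) = 0 := by
        rw [← LinearMap.range_eq_bot, ← Submodule.finrank_eq_zero]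
        exact h0
      have : g = 1 := Subtype.ext (sub_eq_zero.1
        (Matrix.toLin'.injective (h0'.trans (map_zero _).symm)))
      rw [this, orderOf_one] at hg
      exact absurd hg (by decide)
    simp only [invSet, Finset.mem_union, Finset.mem_image, Finset.mem_Icc]
    cases hb : (spInv g).2
    · exact Or.inl ⟨(spInv g).1, ⟨hge, hle⟩, Prod.ext rfl hb.symm⟩
    · obtain ⟨k, hk, -⟩ := h1 (@of_decide_eq_true _ (Classical.propDecidable _) hb)
      have hk' : (spInv g).1 = 2 * k := hk
      exact Or.inr ⟨k, ⟨by omega, by have : (spInv g).1 ≤ m := hle; omega⟩,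
        Prod.ext hk'.symm hb.symm⟩

/-- Number of conjugacy classes of involutions in the symplectic group Sp_2m(F) over a finite field of characteristic two (m ≥ 1): for each s with 1 ≤ s ≤ m there is one class with rank(t − 1) = s if s is odd and two if s is even (according as v ↦ f(v, tv), f the symplectic form, vanishes identically or not), so m + ⌊m/2⌋ classes in all. -/
theorem result {F : Type*} [Field F] [Fintype F] [CharP F 2] {m : ℕ} (hm : 1 ≤ m) : Nat.card {C : ConjClasses ↥(Matrix.symplecticGroup (Fin m) F) // ∃ g : Matrix.symplecticGroup (Fin m) F, ConjClasses.mk g = C ∧ orderOf g = 2} = m + m / 2 := by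
  exact count hm

end Cfsg.Agent.S2593
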