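import Cfsg.Statements.S2599
-- import your own Cfsg.Agent.* helpers here

set_option autoImplicit false
open Cfsg

namespace Cfsg.Agent.S2599

/-- An irreducible invariant subspace of a semisimple isometry is non-degenerate or totally singular: let Q be a quadratic form on F^n (F finite of characteristic p) with non-degenerate polar form f, x an isometry of Q of order prime to p, and U a non-zero x-invariant subspace containing no x-invariant subspace other than 0 and U. Then U meets its f-orthogonal trivially, or Q vanishes on U, or p = 2, U is a line spanned by a non-singular vector and x fixes U pointwise. -/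
theorem result {F : Type*} [Field F] [Fintype F] {p : ℕ} [Fact p.Prime] [CharP F p] {n : ℕ} (Q : QuadraticForm F (Fin n → F)) (hQ : (QuadraticMap.polarBilin Q).Nondegenerate) (x : ↥(Cfsg.isometryGroup F ⇑Q)) (hx : (orderOf x).Coprime p) (U : Submodule F (Fin n → F)) (hU0 : U ≠ ⊥) (hUx : ∀ u ∈ U, ((x : Matrix.GeneralLinearGroup (Fin n) F) : Matrix (Fin n) (Fin n) F).mulVec u ∈ U) (hirr : ∀ W : Submodule F (Fin n → F), W ≤ U → (∀ w ∈ W, ((x : Matrix.GeneralLinearGroup (Fin n) F) : Matrix (Fin n) (Fin n) F).mulVec w ∈ W) → W = ⊥ ∨ W = U) : U ⊓ LinearMap.BilinForm.orthogonal (QuadraticMap.polarBilin Q) U = ⊥ ∨ (∀ u ∈ U, Q u = 0) ∨ (p = 2 ∧ Module.finrank F U = 1 ∧ (∃ u ∈ U, Q u ≠ 0) ∧ ∀ u ∈ U, ((x : Matrix.GeneralLinearGroup (Fin n) F) : Matrix (Fin n) (Fin n) F).mulVec u = u) := by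
  classical
  set M := ((x : Matrix.GeneralLinearGroup (Fin n) F) : Matrix (Fin n) (Fin n) F) with hM
  set B := QuadraticMap.polarBilin Q with hB
  have hiso : ∀ v, Q (M.mulVec v) = Q v := fun v => x.2 v v
  have hpol : ∀ v w, B (M.mulVec v) (M.mulVec w) = B v w := by
    intro v w
    simp only [hB, QuadraticMap.polarBilin_apply_apply, QuadraticMap.polar, ← Matrix.mulVec_add, hiso]
  -- the matrix is injective on U, hence surjective
  let f : U →ₗ[F] U := (Matrix.mulVecLin M).restrict hUx
  have hinj : Function.Injective f := by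
    intro u v huv
    have h' : M.mulVec (u : Fin n → F) = M.mulVec (v : Fin n → F) := congrArg Subtype.val huv
    exact Subtype.ext (Matrix.mulVec_injective_of_isUnit ⟨(x : Matrix.GeneralLinearGroup (Fin n) F), rfl⟩ h')
  have hsur : Function.Surjective f := LinearMap.injective_iff_surjective.mp hinj
  have hcap : ∀ w ∈ U ⊓ LinearMap.BilinForm.orthogonal B U,
      M.mulVec w ∈ U ⊓ LinearMap.BilinForm.orthogonal B U := by
    rintro w ⟨hw, hw'⟩
    refine ⟨hUx w hw, fun u hu => ?_⟩
    obtain ⟨u', hu'⟩ := hsur ⟨u, hu⟩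
    have hu'' : M.mulVec (u' : Fin n → F) = u := congrArg Subtype.val hu'
    change B u (M.mulVec w) = 0
    rw [← hu'', hpol]
    exact hw' u' u'.2
  rcases hirr _ inf_le_left hcap with h0 | h1
  · exact Or.inl h0
  right
  have hzero : ∀ u ∈ U, ∀ v ∈ U, B u v = 0 := by
    intro u hu v hv
    rw [← h1] at hv
    exact hv.2 u hu
  have hadd : ∀ u ∈ U, ∀ v ∈ U, Q (u + v) = Q u + Q v := by
    intro u hu v hv
    have := hzero u hu v hv
    rw [hB, QuadraticMap.polarBilin_apply_apply, QuadraticMap.polar] at this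
    linear_combination this
  by_cases hp : p = 2
  · subst hp
    let W : Submodule F (Fin n → F) :=
      { carrier := {u | u ∈ U ∧ Q u = 0}
        add_mem' := fun {u v} hu hv => ⟨U.add_mem hu.1 hv.1, by rw [hadd u hu.1 v hv.1, hu.2, hv.2, add_zero]⟩
        zero_mem' := ⟨U.zero_mem, QuadraticMap.map_zero Q⟩
        smul_mem' := fun c u hu => ⟨U.smul_mem c hu.1, by rw [QuadraticMap.map_smul, hu.2, smul_zero]⟩ }
    rcases hirr W (fun u hu => hu.1) (fun w hw => ⟨hUx w hw.1, by rw [hiso]; exact hw.2⟩) with hW | hW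
    · right
      obtain ⟨u, hu, hu0⟩ := Submodule.exists_mem_ne_zero_of_ne_bot hU0
      have hQu : Q u ≠ 0 := fun h => hu0 ((Submodule.mem_bot F).mp (hW ▸ (⟨hu, h⟩ : u ∈ W)))
      have hspan : ∀ v ∈ U, ∃ c : F, c • u = v ∧ Q v = c * c * Q u := by
        intro v hv
        have hsq : IsSquare (Q v / Q u) := FiniteField.isSquare_of_char_two (ringChar.eq F 2) _
        obtain ⟨c, hc⟩ := hsq
        refine ⟨c, ?_, by rw [← hc, div_mul_cancel₀ _ hQu]⟩
        have hcu : c • u ∈ U := U.smul_mem c hu
        have hz : c • u + v = 0 := by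
          refine (Submodule.mem_bot F).mp (hW ▸ (⟨U.add_mem hcu hv, ?_⟩ : c • u + v ∈ W))
          rw [hadd _ hcu _ hv, QuadraticMap.map_smul, smul_eq_mul, ← hc, div_mul_cancel₀ _ hQu,
            CharTwo.add_self_eq_zero]
        have hneg : -v = v := by
          funext i
          exact CharTwo.neg_eq (v i)
        rw [eq_neg_of_add_eq_zero_left hz, hneg]
      have hU1 : U = F ∙ u := by
        refine le_antisymm (fun v hv => ?_) ((Submodule.span_singleton_le_iff_mem u U).mpr hu)
        obtain ⟨c, hc, -⟩ := hspan v hv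
        exact Submodule.mem_span_singleton.mpr ⟨c, hc⟩
      refine ⟨rfl, by rw [hU1, finrank_span_singleton hu0], ⟨u, hu, hQu⟩, fun v hv => ?_⟩
      obtain ⟨c, hc, -⟩ := hspan v hv
      obtain ⟨d, hd, hd'⟩ := hspan _ (hUx u hu)
      rw [hiso] at hd'
      have h2 : d * d = 1 := by
        have := mul_right_cancel₀ hQu ((one_mul (Q u)).trans hd')
        exact this.symm
      have : d = 1 := by
        rcases mul_self_eq_one_iff.mp h2 with h | h
        · exact h
        · rw [h, CharTwo.neg_eq]
      rw [← hc, Matrix.mulVec_smul, ← hd, this, one_smul]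
    · exact Or.inl fun u hu => ((hW ▸ hu : u ∈ W)).2
  · left
    intro u hu
    have h := hadd u hu u hu
    rw [← two_smul F u, QuadraticMap.map_smul, smul_eq_mul] at h
    have h2 : (2 : F) ≠ 0 := Ring.two_ne_zero (by rw [ringChar.eq F p]; exact hp)
    exact (mul_eq_zero.mp (show (2 : F) * Q u = 0 by linear_combination h)).resolve_left h2

end Cfsg.Agent.S2599
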