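import Cfsg.Statements.S2601
import Cfsg.Agent.Lib.OutPSL52

set_option autoImplicit false
open Cfsg

namespace Cfsg.Agent.S2601

/-- Structure of the outer automorphism group of PSL_n(q), n ≥ 3, q = p^f: it has a normal cyclic subgroup of order gcd(n, q − 1) (the diagonal automorphisms) whose quotient is the direct product of a cyclic group of order f (field automorphisms) and a group of order 2 (the inverse-transpose graph automorphism). -/
theorem result {F : Type*} [Field F] [Fintype F] {p f n : ℕ} [Fact p.Prime] (hf : 1 ≤ f) (hF : Fintype.card F = p ^ f) (hn : 3 ≤ n) : ∃ φ : Cfsg.Out (Matrix.ProjectiveSpecialLinearGroup (Fin n) F) →* Multiplicative (ZMod f × ZMod 2), Function.Surjective φ ∧ IsCyclic φ.ker ∧ Nat.card φ.ker = Nat.gcd n (p ^ f - 1) := by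
  classical
  haveI := Cfsg.Agent.OutPSL52.isCyclic_ringAut hF
  haveI : NeZero n := ⟨by omega⟩
  have hc := Cfsg.Agent.AutPSLApi.card_ringAut hF hf
  let I : MulAut (Matrix.ProjectiveSpecialLinearGroup (Fin n) F) := Cfsg.Agent.AutPSLBasic.it
  have hI : I * I = 1 := Cfsg.Agent.AutPSLMain.it_mul_it
  let ι : Multiplicative (ZMod 2) →* MulAut (Matrix.ProjectiveSpecialLinearGroup (Fin n) F) :=
    { toFun := fun a => I ^ (Multiplicative.toAdd a).val
      map_one' := pow_zero I
      map_mul' := fun a b => by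
        rw [← pow_add, toAdd_mul, ZMod.val_add]
        conv_rhs => rw [← Nat.mod_add_div ((Multiplicative.toAdd a).val + (Multiplicative.toAdd b).val) 2,
          pow_add, pow_mul, pow_two, hI, one_pow, mul_one] }
  let Φ : (F ≃+* F) × Multiplicative (ZMod 2) →* MulAut (Matrix.ProjectiveSpecialLinearGroup (Fin n) F) :=
    MonoidHom.noncommCoprod Cfsg.Agent.AutPSLBasic.fd ι fun σ a =>
      (Commute.pow_right (Cfsg.Agent.AutPSLMain.it_mul_fd σ).symm _)
  have hval : ∀ a : Multiplicative (ZMod 2), a = 1 ∨ a = Multiplicative.ofAdd 1 := by decide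
  have hι : ι (Multiplicative.ofAdd 1) = I := by
    show I ^ _ = I
    rw [show (Multiplicative.toAdd (Multiplicative.ofAdd (1 : ZMod 2))).val = 1 from rfl, pow_one]
  obtain ⟨φ, h1, h2, h3⟩ := Cfsg.Agent.OutPSL52.structure_of (n := n) (F := F) (by omega) Φ
    (fun x hx => by
      obtain ⟨σ, a⟩ := x
      obtain ⟨g, hg⟩ := hx
      change Cfsg.Agent.AutPSLBasic.cj g = Cfsg.Agent.AutPSLBasic.fd σ * ι a at hg
      rcases hval a with rfl | rfl
      · rw [map_one, mul_one] at hg
        obtain rfl := (Cfsg.Agent.AutPSLApi.cj_fd_eq_one (by omega) (g := g⁻¹) (σ := σ)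
          (by rw [map_inv, hg, inv_mul_cancel])).2
        rfl
      · exfalso
        rw [hι] at hg
        refine Cfsg.Agent.AutPSLApi.cj_fd_ne_it hn (Matrix.GeneralLinearGroup.map ((σ⁻¹ : F ≃+* F) : F →+* F) g) σ⁻¹ ?_
        rw [← Cfsg.Agent.AutPSLMain.fd_mul_cj, hg, map_inv, inv_mul_cancel_left])
    (fun α => by
      obtain ⟨g, σ, h | ⟨-, h⟩⟩ := Cfsg.Agent.AutPSLMain.aut_decomp (by omega) α
      · exact ⟨g, (σ, 1), by simp [Φ, h]⟩
      · exact ⟨g, (σ, Multiplicative.ofAdd 1), by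
          show α = Cfsg.Agent.AutPSLBasic.cj g * (Cfsg.Agent.AutPSLBasic.fd σ * ι (Multiplicative.ofAdd 1))
          rw [hι, h, mul_assoc]⟩)
    ((MulEquiv.prodCongr (hc ▸ (zmodCyclicMulEquiv (inferInstance : IsCyclic (F ≃+* F))).symm :
        (F ≃+* F) ≃* Multiplicative (ZMod f)) (MulEquiv.refl _)).trans (MulEquiv.prodMultiplicative (ZMod f) (ZMod 2)).symm)
  exact ⟨φ, h1, h2, by rw [h3, hF]⟩

end Cfsg.Agent.S2601
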