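import Cfsg.Statements.S2609
import Cfsg.Agent.Lib.OrthUnitaryPrelude
-- import your own Cfsg.Agent.* helpers here

set_option autoImplicit false
open Cfsg
open Cfsg.Agent.OrthUnitaryQuad Cfsg.Agent.OrthUnitaryRefl Cfsg.Agent.OrthUnitaryOmega Cfsg.Agent.OrthUnitaryPrelude

namespace Cfsg.Agent.S2609

/-- Spinor norm criterion for Ω over a finite field of odd order: let Q be a quadratic form on F^n, n ≥ 2, with non-degenerate polar form, and let g be an isometry written as a product of reflections in non-singular vectors v_1, …, v_k. Then g lies in Ω (the commutator subgroup of the orthogonal group) if and only if k is even and Q(v_1)⋯Q(v_k) is a square; in particular, for g of determinant one, whether that product is a square does not depend on the chosen factorisation (it is the spinor norm of g). -/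
theorem result {F : Type*} [Field F] [Fintype F] (h2 : (2 : F) ≠ 0) {n : ℕ} (hn : 2 ≤ n) (Q : QuadraticForm F (Fin n → F)) (hQ : (QuadraticMap.polarBilin Q).Nondegenerate) (g : ↥(Cfsg.isometryGroup F ⇑Q)) (vs : List (Fin n → F)) (hvs : ∀ v ∈ vs, Q v ≠ 0) (hg : ((g : Matrix.GeneralLinearGroup (Fin n) F) : Matrix (Fin n) (Fin n) F) = (vs.map (fun v => Cfsg.reflectionMatrix ⇑Q v)).prod) : g ∈ Cfsg.Omega F ⇑Q ↔ (Even vs.length ∧ IsSquare (vs.map (fun v => Q v)).prod) := by
  classical
  have hmain := (odd_main h2 (isReg_of_nondegenerate hQ)).1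
  rw [mem_Omega_iff, hmain]
  obtain ⟨k, hk, hd, ht⟩ : ∃ k : orth Q,
      (∀ x, k.1 x = (vs.map (fun v => Cfsg.reflectionMatrix (⇑Q) v)).prod.mulVec x) ∧
      detHom Q k = (-1) ^ vs.length ∧
      ((theta Q k : ℤˣ) : ℤ) = (-1) ^ vs.length * quadraticChar F (vs.map (fun v => Q v)).prod := by
    clear hg
    induction vs with
    | nil => exact ⟨1, fun x => by simp, by simp, by simp⟩
    | cons v vs ih =>
      have hv : Q v ≠ 0 := hvs v (by simp)
      obtain ⟨k, hk, hd, ht⟩ := ih (fun w hw => hvs w (by simp [hw]))
      refine ⟨refl Q v hv * k, fun x => ?_, ?_, ?_⟩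
      · rw [List.map_cons, List.prod_cons, ← Matrix.mulVec_mulVec, ← hk, reflectionMatrix_mulVec hv]
        rfl
      · rw [map_mul, detHom_refl, hd, List.length_cons, pow_succ']
      · rw [map_mul, theta_refl h2, List.map_cons, List.prod_cons, map_mul, Units.val_mul, ht,
          List.length_cons, pow_succ']
        split_ifs with hs
        · rw [(quadraticChar_one_iff_isSquare hv).2 hs, Units.val_neg, Units.val_one]; ring
        · rw [quadraticChar_neg_one_iff_not_isSquare.2 hs, Units.val_one]; ring
  rw [(iso_eq_iff_mat g k _ hk).1 hg, hd]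
  have hp : (vs.map (fun v => Q v)).prod ≠ 0 := by
    apply List.prod_ne_zero
    simpa using hvs
  have hne : (-1 : Fˣ) ≠ 1 := fun h => h2 (by
    have := congrArg Units.val h
    simp only [Units.val_neg, Units.val_one] at this
    linear_combination -this)
  rw [show theta Q k = 1 ↔ ((theta Q k : ℤˣ) : ℤ) = 1 from Units.ext_iff, ht, ← quadraticChar_one_iff_isSquare hp]
  rcases Nat.even_or_odd vs.length with he | ho
  · simp [he, he.neg_one_pow]
  · simp [ho.neg_one_pow, hne, Nat.not_even_iff_odd.2 ho]

end Cfsg.Agent.S2609
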