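import Cfsg.Statements.S2610
import Cfsg.Agent.Lib.OmegaStd

set_option autoImplicit false
open Cfsg

namespace Cfsg.Agent.S2610

open Cfsg.Agent.OrthUnitaryQuad Cfsg.Agent.OrthUnitaryPrelude Cfsg.Agent.OmegaClasses Cfsg.Agent.OmegaStd

/-- For a quadratic form Q on F^n with non-degenerate polar form, F finite of odd order and n ≥ 2 even, the isometry −1 lies in Ω (the commutator subgroup of the orthogonal group) if and only if the discriminant of Q (the determinant of the Gram matrix of its polar form) is a square. -/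
theorem result {F : Type*} [Field F] [Fintype F] (h2 : (2 : F) ≠ 0) {n : ℕ} (hn : 2 ≤ n) (he : Even n) (Q : QuadraticForm F (Fin n → F)) (hQ : (QuadraticMap.polarBilin Q).Nondegenerate) : (∃ g : ↥(Cfsg.isometryGroup F ⇑Q), g ∈ Cfsg.Omega F ⇑Q ∧ ((g : Matrix.GeneralLinearGroup (Fin n) F) : Matrix (Fin n) (Fin n) F) = -1) ↔ IsSquare (Matrix.of (fun i j : Fin n => QuadraticMap.polar ⇑Q (Pi.single i 1) (Pi.single j 1))).det := by
  classical
  haveI : Invertible (2 : F) := invertibleOfNonzero h2
  obtain ⟨b, hb⟩ := LinearMap.BilinForm.exists_orthogonal_basis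
    (B := QuadraticMap.polarBilin Q) ⟨fun u v => QuadraticMap.polar_comm (⇑Q) u v⟩
  have hNn : Module.finrank F (Fin n → F) = n := by
    rw [Module.finrank_fintype_fun_eq_card, Fintype.card_fin]
  have hborth : ∀ i j, i ≠ j → QuadraticMap.polar ⇑Q (b i) (b j) = 0 := fun i j hij => by simpa [Function.onFun] using hb hij
  have hne : ∀ i, Q (b i) ≠ 0 := by
    intro i h0
    refine b.ne_zero i (hQ.1 (b i) fun y => ?_)
    rw [← b.sum_repr y, map_sum]
    refine Finset.sum_eq_zero fun j _ => ?_
    rw [map_smul, QuadraticMap.polarBilin_apply_apply]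
    rcases eq_or_ne i j with rfl | hij
    · rw [polar_self_mul, h0, mul_zero, smul_zero]
    · rw [hborth i j hij, smul_zero]
  set vs := List.ofFn b
  have hns : NS Q vs := fun v hv => by obtain ⟨i, rfl⟩ := List.mem_ofFn.1 hv; exact hne i
  have hact : ∀ x, (rprod Q vs).1 x = (-1 : Matrix (Fin n) (Fin n) F).mulVec x := by
    intro x
    rw [rprod_orthogonal hns (by rw [List.pairwise_ofFn]; exact fun i j hij => hborth i j hij.ne)]
    simp only [vs, List.map_ofFn, List.sum_ofFn, Function.comp_def, Matrix.neg_mulVec, Matrix.one_mulVec]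
    have hx : ∀ i, QuadraticMap.polar ⇑Q (b i) x = b.repr x i * (2 * Q (b i)) := by
      intro i
      conv_lhs => rw [← b.sum_repr x, ← QuadraticMap.polarBilin_apply_apply, map_sum]
      rw [Finset.sum_eq_single i (fun j _ hj => by simp [hborth i j (Ne.symm hj)]) (by simp)]
      simp [polar_self_mul]
    simp only [hx]
    have h3 : ∀ i, ((Q (b i))⁻¹ * (b.repr x i * (2 * Q (b i)))) • b i = (2 : F) • (b.repr x i • b i) := by
      intro i
      rw [smul_smul]; congr 1
      field_simp [hne i]
    simp only [h3, ← Finset.smul_sum, b.sum_repr]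
    module
  rw [exists_mat_iff _ hact, rprod_mem_iff hQ
    (Or.inl fun hc => h2 (by
      have := FiniteField.cast_card_eq_zero F
      rw [hc] at this; exact_mod_cast this)) hns,
    and_iff_right (by simpa [vs, hNn] using he)]
  have hst : (fun i : Fin n => Pi.single i (1 : F)) = ⇑(Pi.basisFun F (Fin n)) := by funext i; simp
  change _ ↔ IsSquare (QuadClassify.gram Q (fun i : Fin n => Pi.single i (1 : F))).det
  rw [hst, QuadClassify.isSquare_gram_det_iff Q b]
  have hg : QuadClassify.gram Q b = Matrix.diagonal fun i => 2 * Q (b i) := by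
    ext i j
    rcases eq_or_ne i j with rfl | hij
    · simp [QuadClassify.gram_apply, polar_self_mul]
    · simp [QuadClassify.gram_apply, hij, hborth i j hij]
  rw [hg, Matrix.det_diagonal, Finset.prod_mul_distrib, Finset.prod_const, Finset.card_univ,
    Fintype.card_fin]
  have hp : (vs.map fun v => Q v).prod = ∏ i, Q (b i) := by
    rw [List.map_ofFn, List.prod_ofFn]
    rfl
  rw [show (vs.map ⇑Q).prod = ∏ i, Q (b i) from hp]
  obtain ⟨r, hr⟩ := (hNn.symm ▸ he : Even (Module.finrank F (Fin n → F)))
  rw [show (2 : F) ^ Module.finrank F (Fin n → F) = 2 ^ r * 2 ^ r by rw [← pow_add, ← hr]]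
  constructor
  · rintro ⟨s, hs⟩; exact ⟨2 ^ r * s, by rw [hs]; ring⟩
  · rintro ⟨s, hs⟩
    refine ⟨s / 2 ^ r, ?_⟩
    field_simp
    linear_combination hs

end Cfsg.Agent.S2610
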