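import Cfsg.Statements.S2611
import Cfsg.Agent.Lib.OmegaStd
import Cfsg.Agent.S0264
import Cfsg.Agent.Lib.OrthUnitaryRefl

set_option autoImplicit false
open Cfsg

namespace Cfsg.Agent.S2611

open Cfsg.Agent.OrthUnitaryQuad Cfsg.Agent.OrthUnitaryRefl Cfsg.Agent.OrthUnitaryPrelude Cfsg.Agent.OmegaClasses Cfsg.Agent.OmegaStd
open Matrix in
/-- The Levi embedding of the general linear group. -/
def levi (F : Type*) [Field F] (m : ℕ) : GL (Fin m) F →* GL (Fin m ⊕ Fin m) F where
  toFun A :=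
    { val := fromBlocks (A : Matrix (Fin m) (Fin m) F) 0 0 ((A⁻¹ : GL (Fin m) F) : Matrix (Fin m) (Fin m) F).transpose
      inv := fromBlocks ((A⁻¹ : GL (Fin m) F) : Matrix (Fin m) (Fin m) F) 0 0 (A : Matrix (Fin m) (Fin m) F).transpose
      val_inv := by simp [fromBlocks_multiply, ← transpose_mul, fromBlocks_one]
      inv_val := by simp [fromBlocks_multiply, ← transpose_mul, fromBlocks_one] }
  map_one' := Units.ext (by simp [fromBlocks_one])
  map_mul' A B := Units.ext (by simp [fromBlocks_multiply, transpose_mul])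

open Matrix in
theorem levi_isometry {F : Type*} [Field F] {m : ℕ} (A : GL (Fin m) F) :
    levi F m A ∈ Cfsg.isometryGroup F ⇑(QuadClassify.qPlus m F) := by
  intro x _
  rw [QuadClassify.qPlus_coe]
  have hdot : ∀ z : Fin m ⊕ Fin m → F, Cfsg.quadFormPlus m F z = (z ∘ Sum.inl) ⬝ᵥ (z ∘ Sum.inr) :=
    fun z => rfl
  show Cfsg.quadFormPlus m F ((levi F m A : Matrix (Fin m ⊕ Fin m) (Fin m ⊕ Fin m) F) *ᵥ x) =
    Cfsg.quadFormPlus m F x
  rw [hdot, hdot, show (levi F m A : Matrix (Fin m ⊕ Fin m) (Fin m ⊕ Fin m) F) =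
    fromBlocks (A : Matrix (Fin m) (Fin m) F) 0 0 ((A⁻¹ : GL (Fin m) F) : Matrix (Fin m) (Fin m) F).transpose from rfl,
    fromBlocks_mulVec]
  simp only [Sum.elim_comp_inl, Sum.elim_comp_inr, zero_mulVec, add_zero, zero_add]
  rw [Matrix.mulVec_transpose, dotProduct_comm, ← Matrix.dotProduct_mulVec, Matrix.mulVec_mulVec,
    Units.inv_mul, Matrix.one_mulVec, dotProduct_comm]

/-- For the hyperbolic quadratic form Σ x_i y_i on F^(2m) (F finite, m ≥ 1, excluding m = 2 over the field of two elements) and an invertible m × m matrix A, the block-diagonal isometry diag(A, (A⁻¹)ᵀ), which stabilises the two maximal totally singular subspaces x = 0 and y = 0, lies in Ω⁺_2m(F) (the commutator subgroup of the orthogonal group) if and only if det A is a square in F. -/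
theorem result {F : Type*} [Field F] [Fintype F] {m : ℕ} (hm : 1 ≤ m) (h : Fintype.card F ≠ 2 ∨ m ≠ 2) (A : GL (Fin m) F) : (∃ g : ↥(Cfsg.isometryGroup F (Cfsg.quadFormPlus m F)), g ∈ Cfsg.Omega F (Cfsg.quadFormPlus m F) ∧ ((g : Matrix.GeneralLinearGroup (Fin m ⊕ Fin m) F) : Matrix (Fin m ⊕ Fin m) (Fin m ⊕ Fin m) F) = Matrix.fromBlocks (A : Matrix (Fin m) (Fin m) F) 0 0 ((A : Matrix (Fin m) (Fin m) F)⁻¹).transpose) ↔ IsSquare (A : Matrix (Fin m) (Fin m) F).det := by
  classical
  have hQ : Cfsg.quadFormPlus m F = ⇑(QuadClassify.qPlus m F) := (QuadClassify.qPlus_coe m).symm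
  rw [hQ]
  let G : GL (Fin m) F →* ↥(Cfsg.isometryGroup F ⇑(QuadClassify.qPlus m F)) :=
    (levi F m).codRestrict _ (levi_isometry)
  have hG : ∀ A : GL (Fin m) F, mat (G A) = Matrix.fromBlocks (A : Matrix (Fin m) (Fin m) F) 0 0
      ((A : Matrix (Fin m) (Fin m) F)⁻¹).transpose := fun A => by
    show Matrix.fromBlocks _ 0 0 _ = _
    rw [Matrix.coe_units_inv]
  trans G A ∈ Cfsg.Omega F ⇑(QuadClassify.qPlus m F)
  · refine ⟨?_, fun hA => ⟨G A, hA, hG A⟩⟩
    rintro ⟨g, hg, hgm⟩
    have : g = G A := Subtype.ext (Units.ext (hgm.trans (hG A).symm))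
    rw [← this]; exact hg
  let i₀ : Fin m := ⟨0, hm⟩
  set d := (A : Matrix (Fin m) (Fin m) F).det with hd
  have hd0 : d ≠ 0 := Matrix.GeneralLinearGroup.det_ne_zero A
  set δ : Fin m → F := Function.update (fun _ => 1) i₀ d with hδ
  have hδdet : (Matrix.diagonal δ).det = d := by
    rw [Matrix.det_diagonal, hδ, Finset.prod_update_of_mem (Finset.mem_univ i₀)]
    simp
  let D : GL (Fin m) F := Matrix.GeneralLinearGroup.mkOfDetNeZero (Matrix.diagonal δ) (by rw [hδdet]; exact hd0)
  have hdetD : Matrix.GeneralLinearGroup.det D = Matrix.GeneralLinearGroup.det A :=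
    Units.ext (by simp only [Matrix.GeneralLinearGroup.val_det_apply]; exact hδdet)
  have hB : D⁻¹ * A ∈ commutator (GL (Fin m) F) := by
    rw [S0264.result m (fun hm2 => ?_), MonoidHom.mem_ker, map_mul, map_inv, hdetD, inv_mul_cancel]
    exact OrthUnitaryRefl.exists_ne_zero_one (h.resolve_right (not_not_intro hm2))
  have hBΩ : G (D⁻¹ * A) ∈ Cfsg.Omega F ⇑(QuadClassify.qPlus m F) := by
    have hle : (commutator (GL (Fin m) F)).map G ≤ commutator _ := by
      rw [commutator_def, commutator_def, Subgroup.map_commutator]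
      exact Subgroup.commutator_mono le_top le_top
    exact hle (Subgroup.mem_map_of_mem _ hB)
  rw [show A = D * (D⁻¹ * A) by rw [mul_inv_cancel_left], map_mul,
    Subgroup.mul_mem_cancel_right _ hBΩ, mem_Omega_iff]
  obtain ⟨hns, hprod, hact⟩ := scale_apply (Q := QuadClassify.qPlus m F)
    (e := Pi.single (Sum.inl i₀) 1) (f := Pi.single (Sum.inr i₀) 1) (qPlus_single _) (qPlus_single _)
    (by rw [polar_plus_single_inl]; simp) hd0
  have hDinv : ((D⁻¹ : GL (Fin m) F) : Matrix (Fin m) (Fin m) F) =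
      Matrix.diagonal (Function.update (fun _ => (1 : F)) i₀ d⁻¹) := by
    refine Units.inv_eq_of_mul_eq_one_right ?_
    show Matrix.diagonal δ * _ = 1
    rw [Matrix.diagonal_mul_diagonal, ← Matrix.diagonal_one]
    congr 1
    funext i
    rcases eq_or_ne i i₀ with rfl | hi
    · simp [hδ, hd0]
    · simp [hδ, hi]
  have hk : iso (QuadClassify.qPlus m F) (G D) = rprod (QuadClassify.qPlus m F)
      [Pi.single (Sum.inl i₀) 1 - Pi.single (Sum.inr i₀) 1,
        Pi.single (Sum.inl i₀) 1 - d • Pi.single (Sum.inr i₀) 1] := by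
    refine (iso_eq_iff_mat _ _ _ fun x => ?_).1 rfl
    rw [hact, polar_plus_single_inr, polar_plus_single_inl]
    show _ = (Matrix.fromBlocks (Matrix.diagonal δ) 0 0 (((D⁻¹ : GL (Fin m) F) : Matrix (Fin m) (Fin m) F)).transpose).mulVec x
    rw [hDinv, Matrix.diagonal_transpose, Matrix.fromBlocks_diagonal]
    funext s
    rcases s with i | i <;> rcases eq_or_ne i i₀ with rfl | hi <;>
      simp [Matrix.mulVec_diagonal, hδ, *] <;> try ring
  rw [hk, rprod_mem_iff nondeg_plus (exc_plus h) hns, hprod, and_iff_right (by simp)]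

end Cfsg.Agent.S2611
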