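import Cfsg.Statements.S2612
import Cfsg.Agent.Lib.OmegaStd

set_option autoImplicit false
open Cfsg

namespace Cfsg.Agent.S2612

open Cfsg.Agent.OrthUnitaryQuad Cfsg.Agent.OrthUnitaryRefl Cfsg.Agent.OrthUnitaryPrelude Cfsg.Agent.OmegaClasses Cfsg.Agent.OmegaStd

/-- For the hyperbolic quadratic form Σ x_i y_i on F^(2m) (F finite, m ≥ 1, excluding m = 2 over the field of two elements), Ω⁺_2m(F) (the commutator subgroup of the orthogonal group) contains an element interchanging the two complementary maximal totally singular subspaces {y = 0} and {x = 0} if and only if m is even (dimension divisible by 4). -/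
theorem result {F : Type*} [Field F] [Fintype F] {m : ℕ} (hm : 1 ≤ m) (h : Fintype.card F ≠ 2 ∨ m ≠ 2) : (∃ g : ↥(Cfsg.isometryGroup F (Cfsg.quadFormPlus m F)), g ∈ Cfsg.Omega F (Cfsg.quadFormPlus m F) ∧ (∀ v : Fin m ⊕ Fin m → F, (∀ i, v (Sum.inr i) = 0) → ∀ i, (((g : Matrix.GeneralLinearGroup (Fin m ⊕ Fin m) F) : Matrix (Fin m ⊕ Fin m) (Fin m ⊕ Fin m) F).mulVec v) (Sum.inl i) = 0) ∧ (∀ v : Fin m ⊕ Fin m → F, (∀ i, v (Sum.inl i) = 0) → ∀ i, (((g : Matrix.GeneralLinearGroup (Fin m ⊕ Fin m) F) : Matrix (Fin m ⊕ Fin m) (Fin m ⊕ Fin m) F).mulVec v) (Sum.inr i) = 0)) ↔ Even m := by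
  classical
  rw [← QuadClassify.qPlus_coe]
  have hnd := nondeg_plus (F := F) (m := m)
  have hU := lagr_plus (F := F) (m := m)
  set U := LinearMap.ker (LinearMap.funLeft F F (Sum.inr : Fin m → Fin m ⊕ Fin m)) with hUdef
  have hUdim : Module.finrank F U = m := by
    have := hU.2; rw [finrank_plus] at this; omega
  constructor
  · rintro ⟨g, hg, hswap, -⟩
    obtain ⟨vs, hns, hk⟩ := exists_rprod (reflGroup_top hnd (exc_plus h)) (iso _ g)
    have hev : Even vs.length := by
      have := (mem_Omega_iff g).1 hg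
      rw [hk, rprod_mem_iff hnd (exc_plus h) hns] at this
      exact this.1
    have hpar := parity_rprod hnd hU hU hns
    rw [← hk, ← map_mulVecLin, inf_idem, hUdim] at hpar
    have hbot : U ⊓ U.map (Matrix.mulVecLin (mat g)) = ⊥ := by
      rw [eq_bot_iff]
      rintro _ ⟨hxU, w, hw, rfl⟩
      rw [Submodule.mem_bot]
      funext s
      rcases s with i | i
      · exact hswap w (fun j => congrFun hw j) i
      · exact congrFun hxU i
    rw [hbot, finrank_bot, zero_add, Nat.even_add] at hpar
    exact hpar.2 hev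
  · intro hev
    obtain ⟨vs, hns, hlen, hprod, hact⟩ := hyp_swap (hyp_plus (F := F) (m := m))
    have hmem : rprod (QuadClassify.qPlus m F) vs ∈ commutator (orth (QuadClassify.qPlus m F)) := by
      rw [rprod_mem_iff hnd (exc_plus h) hns, hlen, hprod, hev.neg_one_pow]
      exact ⟨hev, IsSquare.one⟩
    have hswap : ∀ x, (rprod (QuadClassify.qPlus m F) vs).1 x = Sum.elim (x ∘ Sum.inr) (x ∘ Sum.inl) := by
      intro x
      rw [hact]
      simp only [polar_plus_single_inl, polar_plus_single_inr]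
      funext s
      rcases s with i | i <;> simp [Finset.sum_apply, Pi.single_apply, Finset.sum_ite_eq]
    refine ⟨(iso (QuadClassify.qPlus m F)).symm (rprod (QuadClassify.qPlus m F) vs), ?_, fun v hv i => ?_, fun v hv i => ?_⟩
    · rw [mem_Omega_iff, MulEquiv.apply_symm_apply]; exact hmem
    all_goals
      rw [← iso_apply, MulEquiv.apply_symm_apply, hswap]
      simp [hv]

end Cfsg.Agent.S2612
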