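import Cfsg.Statements.S2613
import Cfsg.Agent.Lib.OmegaStd

set_option autoImplicit false
open Cfsg

namespace Cfsg.Agent.S2613

open Cfsg.Agent.OrthUnitaryQuad Cfsg.Agent.OrthUnitaryPrelude Cfsg.Agent.OmegaClasses Cfsg.Agent.OmegaStd

/-- For the hyperbolic form Σ x_j y_j on F^(2m), F finite with q elements, q odd, and 1 ≤ i ≤ m: the involution negating the first i hyperbolic pairs (x_j, y_j ↦ −x_j, −y_j for j < i) and fixing the rest lies in Ω⁺_2m(q) (commutator subgroup of the orthogonal group) if and only if q^i ≡ 1 (mod 4); its (−1)-eigenspace is a hyperbolic 2i-space. -/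
theorem result {F : Type*} [Field F] [Fintype F] {q : ℕ} (hF : Fintype.card F = q) (hq : Odd q) {m : ℕ} (i : ℕ) (hi : 1 ≤ i) (him : i ≤ m) : (∃ g : ↥(Cfsg.isometryGroup F (Cfsg.quadFormPlus m F)), g ∈ Cfsg.Omega F (Cfsg.quadFormPlus m F) ∧ ((g : Matrix.GeneralLinearGroup (Fin m ⊕ Fin m) F) : Matrix (Fin m ⊕ Fin m) (Fin m ⊕ Fin m) F) = Matrix.diagonal (fun k : Fin m ⊕ Fin m => if (Sum.elim (fun j : Fin m => (j : ℕ)) (fun j : Fin m => (j : ℕ)) k) < i then (-1 : F) else 1)) ↔ q ^ i % 4 = 1 := by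
  classical
  rw [← QuadClassify.qPlus_coe]
  rw [diagonal_mem_iff nondeg_plus (Or.inl (card_ne_two_of_odd hF hq))
    (k := i) (fun j => Sum.inl (Fin.castLE him j)) (fun j => Sum.inr (Fin.castLE him j))
    (fun j x => polar_plus_single_inr _ x) (fun j x => polar_plus_single_inl _ x)
    (fun j => qPlus_single _) (fun j => qPlus_single _)
    (Sum.inl_injective.comp (Fin.castLE_injective _)) (Sum.inr_injective.comp (Fin.castLE_injective _))
    (fun a b => by simp) _ (fun j => by simp) (fun j => by simp)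
    (fun s h1 h2 => by
      rcases s with j | j
      · exact if_neg fun hj => h1 ⟨j, hj⟩ rfl
      · exact if_neg fun hj => h2 ⟨j, hj⟩ rfl)]
  exact isSquare_neg_one_pow hF hq i

end Cfsg.Agent.S2613
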