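import Cfsg.Statements.S2614
import Cfsg.Agent.Lib.OmegaStd

set_option autoImplicit false
open Cfsg

namespace Cfsg.Agent.S2614

open Cfsg.Agent.OrthUnitaryQuad Cfsg.Agent.OrthUnitaryPrelude Cfsg.Agent.OmegaClasses Cfsg.Agent.OmegaStd

/-- For the form x_0² + Σ x_j y_j on F^(2m+1), F finite with q elements, q odd, and 1 ≤ i ≤ m: the involution of determinant one negating the first i hyperbolic pairs (and fixing x_0 and the other pairs) lies in Ω_(2m+1)(q) (commutator subgroup of the orthogonal group) if and only if q^i ≡ 1 (mod 4); its (−1)-eigenspace is a hyperbolic 2i-space. -/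
theorem result {F : Type*} [Field F] [Fintype F] {q : ℕ} (hF : Fintype.card F = q) (hq : Odd q) {m : ℕ} (i : ℕ) (hi : 1 ≤ i) (him : i ≤ m) : (∃ g : ↥(Cfsg.isometryGroup F (Cfsg.quadFormOdd m F)), g ∈ Cfsg.Omega F (Cfsg.quadFormOdd m F) ∧ ((g : Matrix.GeneralLinearGroup (Unit ⊕ (Fin m ⊕ Fin m)) F) : Matrix (Unit ⊕ (Fin m ⊕ Fin m)) (Unit ⊕ (Fin m ⊕ Fin m)) F) = Matrix.diagonal (fun k : Unit ⊕ (Fin m ⊕ Fin m) => if (Sum.elim (fun _ : Unit => i) (Sum.elim (fun j : Fin m => (j : ℕ)) (fun j : Fin m => (j : ℕ))) k) < i then (-1 : F) else 1)) ↔ q ^ i % 4 = 1 := by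
  classical
  have h2 := OmegaStd.two_ne_zero hF hq
  have hp : ∀ s x, QuadraticMap.polar (QuadClassify.qOdd m F) (Pi.single (Sum.inr s) 1) x =
      QuadraticMap.polar (QuadClassify.qPlus m F) (Pi.single s 1) (x ∘ Sum.inr) := by
    intro s x
    have e1 : (Pi.single (Sum.inr s) 1 : Unit ⊕ (Fin m ⊕ Fin m) → F) ∘ Sum.inr = Pi.single s 1 := by
      funext t; simp [Pi.single_apply]
    simp only [QuadraticMap.polar, QuadClassify.qOdd_coe, QuadClassify.qPlus_coe, Cfsg.quadFormOdd,
      Cfsg.quadFormPlus, ← e1, Pi.add_apply, Function.comp_apply]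
    simp
    ring
  have hqs : ∀ s, QuadClassify.qOdd m F (Pi.single (Sum.inr s) 1) = 0 := by
    intro s
    rcases s with j | j <;> simp [QuadClassify.qOdd_coe, Cfsg.quadFormOdd, Pi.single_apply]
  have hnd : (QuadraticMap.polarBilin (QuadClassify.qOdd m F)).Nondegenerate := by
    have key : ∀ x, (∀ y, QuadraticMap.polar (QuadClassify.qOdd m F) x y = 0) → x = 0 := by
      intro x hx
      funext s
      rcases s with u | (j | j)
      · have := hx (Pi.single (Sum.inl u) 1)
        simp [QuadraticMap.polar, QuadClassify.qOdd_coe, Cfsg.quadFormOdd] at this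
        have h' : (2 : F) * x (Sum.inl u) = 0 := by linear_combination this
        exact (mul_eq_zero.1 h').resolve_left h2
      · have := hx (Pi.single (Sum.inr (Sum.inr j)) 1)
        rw [QuadraticMap.polar_comm, hp, polar_plus_single_inr] at this
        exact this
      · have := hx (Pi.single (Sum.inr (Sum.inl j)) 1)
        rw [QuadraticMap.polar_comm, hp, polar_plus_single_inl] at this
        exact this
    exact ⟨fun x hx => key x hx, fun x hx => key x fun y => (QuadraticMap.polar_comm _ x y).trans (hx y)⟩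
  rw [← QuadClassify.qOdd_coe]
  rw [diagonal_mem_iff hnd (Or.inl (card_ne_two_of_odd hF hq))
    (k := i) (fun j => Sum.inr (Sum.inl (Fin.castLE him j))) (fun j => Sum.inr (Sum.inr (Fin.castLE him j)))
    (fun j x => by rw [hp, polar_plus_single_inr]; rfl) (fun j x => by rw [hp, polar_plus_single_inl]; rfl)
    (fun j => hqs _) (fun j => hqs _)
    (Sum.inr_injective.comp (Sum.inl_injective.comp (Fin.castLE_injective _)))
    (Sum.inr_injective.comp (Sum.inr_injective.comp (Fin.castLE_injective _)))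
    (fun a b => by simp) _ (fun j => by simp) (fun j => by simp)
    (fun s h1 h2 => by
      rcases s with u | (j | j)
      · simp
      · exact if_neg fun hj => h1 ⟨j, hj⟩ rfl
      · exact if_neg fun hj => h2 ⟨j, hj⟩ rfl)]
  exact isSquare_neg_one_pow hF hq i

end Cfsg.Agent.S2614
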