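import Cfsg.Statements.S2615
import Cfsg.Agent.Lib.OmegaStd

set_option autoImplicit false
open Cfsg

namespace Cfsg.Agent.S2615

open Cfsg.Agent.OrthUnitaryQuad Cfsg.Agent.OrthUnitaryPrelude Cfsg.Agent.OmegaClasses Cfsg.Agent.OmegaStd

/-- For an elliptic form Σ_(j<m−1) x_j y_j + (z₁² + a z₁z₂ + b z₂²) (anisotropic binary part) on F^(2m), F finite with q elements, q odd, and 1 ≤ i ≤ m − 1: the involution negating the first i hyperbolic pairs and fixing the rest lies in Ω⁻_2m(q) (commutator subgroup of the orthogonal group) if and only if q^i ≡ 1 (mod 4). -/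
theorem result {F : Type*} [Field F] [Fintype F] {q : ℕ} (hF : Fintype.card F = q) (hq : Odd q) {m : ℕ} (a b : F) (hab : ∀ z₁ z₂ : F, z₁ ^ 2 + a * z₁ * z₂ + b * z₂ ^ 2 = 0 → z₁ = 0 ∧ z₂ = 0) (i : ℕ) (hi : 1 ≤ i) (him : i + 1 ≤ m) : (∃ g : ↥(Cfsg.isometryGroup F (Cfsg.quadFormMinus (m - 1) F a b)), g ∈ Cfsg.Omega F (Cfsg.quadFormMinus (m - 1) F a b) ∧ ((g : Matrix.GeneralLinearGroup ((Fin (m - 1) ⊕ Fin (m - 1)) ⊕ Fin 2) F) : Matrix ((Fin (m - 1) ⊕ Fin (m - 1)) ⊕ Fin 2) ((Fin (m - 1) ⊕ Fin (m - 1)) ⊕ Fin 2) F) = Matrix.diagonal (fun k : (Fin (m - 1) ⊕ Fin (m - 1)) ⊕ Fin 2 => if (Sum.elim (Sum.elim (fun j : Fin (m - 1) => (j : ℕ)) (fun j : Fin (m - 1) => (j : ℕ))) (fun _ : Fin 2 => i) k) < i then (-1 : F) else 1)) ↔ q ^ i % 4 = 1 := by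
  classical
  obtain ⟨k, rfl⟩ : ∃ k, m = k + 1 := ⟨m - 1, by omega⟩
  have h2 := OmegaStd.two_ne_zero hF hq
  have hd : 4 * b - a ^ 2 ≠ 0 := QuadClassify.qBin_disc_ne hab
  have hp : ∀ s x, QuadraticMap.polar (QuadClassify.qMinus (k + 1 - 1) F a b) (Pi.single (Sum.inl s) 1) x =
      QuadraticMap.polar (QuadClassify.qPlus (k + 1 - 1) F) (Pi.single s 1) (x ∘ Sum.inl) := by
    intro s x
    have e1 : (Pi.single (Sum.inl s) 1 : (Fin (k + 1 - 1) ⊕ Fin (k + 1 - 1)) ⊕ Fin 2 → F) ∘ Sum.inl =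
        Pi.single s 1 := by
      funext t; simp [Pi.single_apply]
    simp only [QuadraticMap.polar, QuadClassify.qMinus_coe, QuadClassify.qPlus_coe, Cfsg.quadFormMinus,
      Cfsg.quadFormPlus, ← e1, Pi.add_apply, Function.comp_apply]
    simp
    ring
  have hqs : ∀ s, QuadClassify.qMinus (k + 1 - 1) F a b (Pi.single (Sum.inl s) 1) = 0 := by
    intro s
    rcases s with j | j <;> simp [QuadClassify.qMinus_coe, Cfsg.quadFormMinus, Pi.single_apply]
  have hnd : (QuadraticMap.polarBilin (QuadClassify.qMinus (k + 1 - 1) F a b)).Nondegenerate := by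
    have key : ∀ x, (∀ y, QuadraticMap.polar (QuadClassify.qMinus (k + 1 - 1) F a b) x y = 0) → x = 0 := by
      intro x hx
      have h0 := hx (Pi.single (Sum.inr 0) 1)
      have h1 := hx (Pi.single (Sum.inr 1) 1)
      simp [QuadraticMap.polar, QuadClassify.qMinus_coe, Cfsg.quadFormMinus] at h0 h1
      have d0 : (4 * b - a ^ 2) * x (Sum.inr 0) = 0 := by linear_combination 2 * b * h0 - a * h1
      have d1 : (4 * b - a ^ 2) * x (Sum.inr 1) = 0 := by linear_combination 2 * h1 - a * h0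
      funext s
      rcases s with (j | j) | u
      · have := hx (Pi.single (Sum.inl (Sum.inr j)) 1)
        rw [QuadraticMap.polar_comm, hp, polar_plus_single_inr] at this
        exact this
      · have := hx (Pi.single (Sum.inl (Sum.inl j)) 1)
        rw [QuadraticMap.polar_comm, hp, polar_plus_single_inl] at this
        exact this
      · fin_cases u
        · exact (mul_eq_zero.1 d0).resolve_left hd
        · exact (mul_eq_zero.1 d1).resolve_left hd
    exact ⟨fun x hx => key x hx, fun x hx => key x fun y => (QuadraticMap.polar_comm _ x y).trans (hx y)⟩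
  have him' : i ≤ k + 1 - 1 := by omega
  rw [← QuadClassify.qMinus_coe]
  rw [diagonal_mem_iff hnd (Or.inl (card_ne_two_of_odd hF hq))
    (k := i) (fun j => Sum.inl (Sum.inl (Fin.castLE him' j))) (fun j => Sum.inl (Sum.inr (Fin.castLE him' j)))
    (fun j x => by rw [hp, polar_plus_single_inr]; rfl) (fun j x => by rw [hp, polar_plus_single_inl]; rfl)
    (fun j => hqs _) (fun j => hqs _)
    (Sum.inl_injective.comp (Sum.inl_injective.comp (Fin.castLE_injective _)))
    (Sum.inl_injective.comp (Sum.inr_injective.comp (Fin.castLE_injective _)))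
    (fun a b => by simp) _ (fun j => by simp) (fun j => by simp)
    (fun s h1 h2 => by
      rcases s with (j | j) | u
      · exact if_neg fun hj => h1 ⟨j, hj⟩ rfl
      · exact if_neg fun hj => h2 ⟨j, hj⟩ rfl
      · simp)]
  exact isSquare_neg_one_pow hF hq i

end Cfsg.Agent.S2615
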