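import Cfsg.Statements.S2616
import Cfsg.Agent.Lib.QuadClassify

set_option autoImplicit false
open Cfsg

namespace Cfsg.Agent.S2616

/-- Standard bases of a non-degenerate quadratic space of even dimension 2m over a finite field: either there is a hyperbolic basis e_i, f_i (Q(e_i) = Q(f_i) = 0, B(e_i, f_j) = δ_ij, the e's pairwise orthogonal and the f's pairwise orthogonal, B the polar form), or there is an elliptic basis: hyperbolic pairs e_i, f_i for i < m − 1 together with x, y orthogonal to them with Q(x) = 1, B(x, y) = 1, Q(y) = ζ where t² + t + ζ has no root in the field. -/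
theorem result {F V : Type*} [Field F] [Finite F] [AddCommGroup V] [Module F V] [FiniteDimensional F V] {m : ℕ} (hm : 1 ≤ m) (hV : Module.finrank F V = 2 * m) (Q : QuadraticForm F V) (hQ : (QuadraticMap.polarBilin Q).Nondegenerate) : (∃ b : Module.Basis (Fin m ⊕ Fin m) F V, (∀ i, Q (b (Sum.inl i)) = 0 ∧ Q (b (Sum.inr i)) = 0) ∧ (∀ i j, QuadraticMap.polar ⇑Q (b (Sum.inl i)) (b (Sum.inr j)) = if i = j then 1 else 0) ∧ (∀ i j, QuadraticMap.polar ⇑Q (b (Sum.inl i)) (b (Sum.inl j)) = 0 ∧ QuadraticMap.polar ⇑Q (b (Sum.inr i)) (b (Sum.inr j)) = 0)) ∨ (∃ (b : Module.Basis ((Fin (m - 1) ⊕ Fin (m - 1)) ⊕ Fin 2) F V) (ζ : F), (∀ t : F, t ^ 2 + t + ζ ≠ 0) ∧ (∀ i, Q (b (Sum.inl (Sum.inl i))) = 0 ∧ Q (b (Sum.inl (Sum.inr i))) = 0) ∧ (∀ i j, QuadraticMap.polar ⇑Q (b (Sum.inl (Sum.inl i))) (b (Sum.inl (Sum.inr j))) = if i = j then 1 else 0) ∧ (∀ i j, QuadraticMap.polar ⇑Q (b (Sum.inl (Sum.inl i))) (b (Sum.inl (Sum.inl j))) = 0 ∧ QuadraticMap.polar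 ⇑Q (b (Sum.inl (Sum.inr i))) (b (Sum.inl (Sum.inr j))) = 0) ∧ (∀ i (k : Fin 2), QuadraticMap.polar ⇑Q (b (Sum.inl (Sum.inl i))) (b (Sum.inr k)) = 0 ∧ QuadraticMap.polar ⇑Q (b (Sum.inl (Sum.inr i))) (b (Sum.inr k)) = 0) ∧ Q (b (Sum.inr 0)) = 1 ∧ QuadraticMap.polar ⇑Q (b (Sum.inr 0)) (b (Sum.inr 1)) = 1 ∧ Q (b (Sum.inr 1)) = ζ) := by
  classical
  obtain ⟨k, e, f, W, hdec, hW2⟩ := QuadClassify.exists_decomp Q hQ
  obtain ⟨hH, -, -, -, horth, hd, han, hnd⟩ := hdec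
  rw [finrank_top, hV] at hd
  rcases (show Module.finrank F W = 0 ∨ Module.finrank F W = 2 by omega) with h0 | h0
  · left
    obtain rfl : k = m := by omega
    obtain ⟨b, hbe, hbf, -, -⟩ := hH.exists_basis (ι := Fin 0) (z := Fin.elim0)
      linearIndependent_empty_type (fun _ l => l.elim0) (fun _ l => l.elim0) (by simp [hV])
    refine ⟨b.reindex (Equiv.sumEmpty _ _), fun i => ?_, fun i j => ?_, fun i j => ?_⟩ <;>
      simp [hbe, hbf, hH.qe, hH.qf, hH.pef, hH.pee, hH.pff]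
  · right
    obtain rfl : k = m - 1 := by omega
    obtain ⟨x, hx, y, hy, hli, hQx, hxy, hroot⟩ := QuadClassify.exists_plane_normal Q han hnd h0
    have hmem : ∀ l, (![x, y] : Fin 2 → V) l ∈ W := fun l => by fin_cases l <;> assumption
    obtain ⟨b, hbe, hbf, hbz, -⟩ := hH.exists_basis hli
      (fun i l => (horth i _ (hmem l)).1) (fun i l => (horth i _ (hmem l)).2) (by simp [hV]; omega)
    exact ⟨b, Q y, hroot, fun i => by simp [hbe, hbf, hH.qe, hH.qf],
      fun i j => by simp [hbe, hbf, hH.pef], fun i j => by simp [hbe, hbf, hH.pee, hH.pff],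
      fun i l => by rw [hbe, hbf, hbz]; exact horth i _ (hmem l),
      by simp [hbz, hQx], by simp [hbz, hxy], by simp [hbz]⟩

end Cfsg.Agent.S2616
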