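import Cfsg.Statements.S2617
import Cfsg.Agent.Lib.OrthUnitaryForms
-- import your own Cfsg.Agent.* helpers here

set_option autoImplicit false
open Cfsg

namespace Cfsg.Agent.S2617

/-- The two standard quadratic forms of even dimension 2m over a finite field are not isometric: there is no linear isomorphism carrying the elliptic form Σ_(i<m−1) x_i y_i + z₁² + z₁z₂ + ζ z₂² (t² + t + ζ without roots) to the hyperbolic form Σ_(i<m) x_i y_i (they have different Witt index). -/
theorem result {F : Type*} [Field F] [Finite F] {m : ℕ} (hm : 1 ≤ m) (ζ : F) (hζ : ∀ t : F, t ^ 2 + t + ζ ≠ 0) (g : (Fin m ⊕ Fin m → F) ≃ₗ[F] ((Fin (m - 1) ⊕ Fin (m - 1)) ⊕ Fin 2 → F)) : ¬ (∀ v : Fin m ⊕ Fin m → F, Cfsg.quadFormMinus (m - 1) F 1 ζ (g v) = Cfsg.quadFormPlus m F v) := by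
  classical
  cases nonempty_fintype F
  obtain ⟨m, rfl⟩ : ∃ k, m = k + 1 := ⟨m - 1, by omega⟩
  intro h
  have hab : OrthUnitaryForms.IsAniso (1 : F) ζ := by
    intro z₁ z₂ hz
    rcases eq_or_ne z₂ 0 with rfl | h2
    · exact ⟨by simpa using hz, rfl⟩
    · exact absurd (by field_simp; linear_combination hz) (hζ (z₁ / z₂))
  have e : Nat.card {v : Fin (m + 1) ⊕ Fin (m + 1) → F // Cfsg.quadFormPlus (m + 1) F v = 0}
      = Nat.card {v : (Fin m ⊕ Fin m) ⊕ Fin 2 → F // Cfsg.quadFormMinus m F 1 ζ v = 0} :=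
    Nat.card_congr (g.toEquiv.subtypeEquiv (fun v => by
      rw [← h v]
      exact Iff.rfl))
  have h1 := OrthUnitaryForms.q_mul_card_zero_plus (F := F) rfl (m + 1)
  rw [e, OrthUnitaryForms.q_mul_card_zero_minus rfl hab m] at h1
  have hq : (1 : ℤ) < Fintype.card F := by exact_mod_cast Fintype.one_lt_card
  have hp : (0 : ℤ) < (Fintype.card F : ℤ) ^ m := pow_pos (by omega) m
  have hpos : (0 : ℤ) < (Fintype.card F : ℤ) ^ m * (((Fintype.card F : ℤ) - 1) * Fintype.card F) := by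
    positivity
  ring_nf at h1 hpos
  nlinarith [h1, hpos]

end Cfsg.Agent.S2617
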