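import Cfsg.Statements.S2618
import Cfsg.Agent.Lib.QuadClassify

set_option autoImplicit false
open Cfsg

namespace Cfsg.Agent.S2618

/-- Standard (parabolic) basis of a non-degenerate quadratic space of odd dimension 2m + 1 over a finite field (the non-degeneracy of the polar form forces the characteristic to be odd): there is a basis e_i, f_i (i < m), x with Q(e_i) = Q(f_i) = 0, B(e_i, f_j) = δ_ij (B the polar form), the e's pairwise orthogonal and the f's pairwise orthogonal, x orthogonal to all of them and Q(x) ≠ 0. -/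
theorem result {F V : Type*} [Field F] [Finite F] [AddCommGroup V] [Module F V] [FiniteDimensional F V] {m : ℕ} (hV : Module.finrank F V = 2 * m + 1) (Q : QuadraticForm F V) (hQ : (QuadraticMap.polarBilin Q).Nondegenerate) : ∃ b : Module.Basis (Unit ⊕ (Fin m ⊕ Fin m)) F V, Q (b (Sum.inl ())) ≠ 0 ∧ (∀ i, QuadraticMap.polar ⇑Q (b (Sum.inl ())) (b (Sum.inr (Sum.inl i))) = 0 ∧ QuadraticMap.polar ⇑Q (b (Sum.inl ())) (b (Sum.inr (Sum.inr i))) = 0) ∧ (∀ i, Q (b (Sum.inr (Sum.inl i))) = 0 ∧ Q (b (Sum.inr (Sum.inr i))) = 0) ∧ (∀ i j, QuadraticMap.polar ⇑Q (b (Sum.inr (Sum.inl i))) (b (Sum.inr (Sum.inr j))) = if i = j then 1 else 0) ∧ (∀ i j, QuadraticMap.polar ⇑Q (b (Sum.inr (Sum.inl i))) (b (Sum.inr (Sum.inl j))) = 0 ∧ QuadraticMap.polar ⇑Q (b (Sum.inr (Sum.inr i))) (b (Sum.inr (Sum.inr j))) = 0) := by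
  classical
  obtain ⟨k, e, f, W, hdec, hW2⟩ := QuadClassify.exists_decomp Q hQ
  obtain ⟨hH, -, -, -, horth, hd, han, hnd⟩ := hdec
  rw [finrank_top, hV] at hd
  obtain rfl : k = m := by omega
  obtain ⟨x, hx, hx0⟩ := Submodule.exists_mem_ne_zero_of_ne_bot (p := W)
    (fun hb => by rw [hb, finrank_bot] at hd; omega)
  obtain ⟨b, hbe, hbf, hbz, -⟩ := hH.exists_basis (ι := Unit) (z := fun _ => x)
    (LinearIndependent.of_subsingleton () hx0) (fun i _ => (horth i x hx).1)
    (fun i _ => (horth i x hx).2) (by simp [hV])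
  refine ⟨b.reindex (Equiv.sumComm _ _), ?_, fun i => ?_, fun i => ?_, fun i j => ?_, fun i j => ?_⟩
  · simp [hbz]
    exact fun h => hx0 (han x hx h)
  · simp [hbe, hbf, hbz, QuadraticMap.polar_comm (⇑Q) x, horth i x hx]
  all_goals simp [hbe, hbf, hH.qe, hH.qf, hH.pef, hH.pee, hH.pff]

end Cfsg.Agent.S2618
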