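import Cfsg.Statements.S2619
-- import your own Cfsg.Agent.* helpers here

set_option autoImplicit false
open Cfsg

namespace Cfsg.Agent.S2619

/-- Over a finite field of characteristic two, given an alternating bilinear form B on a finite-dimensional space, a basis (v_i) and scalars (λ_i), there is exactly one quadratic form whose polar form is B and whose value at each v_i is λ_i. -/
theorem result {F V ι : Type*} [Field F] [Finite F] [CharP F 2] [AddCommGroup V] [Module F V] [Fintype ι] (b : Module.Basis ι F V) (B : LinearMap.BilinForm F V) (hB : B.IsAlt) (c : ι → F) : ∃! Q : QuadraticForm F V, QuadraticMap.polarBilin Q = B ∧ ∀ i, Q (b i) = c i := by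
  classical
  letI : LinearOrder ι := LinearOrder.lift' (Fintype.equivFin ι) (Fintype.equivFin ι).injective
  let C : LinearMap.BilinMap F V F :=
    b.constr F fun i => b.constr F fun j => if i < j then B (b i) (b j) else if i = j then c i else 0
  have hC : ∀ i j, C (b i) (b j) = if i < j then B (b i) (b j) else if i = j then c i else 0 := by
    intro i j
    simp only [C, Module.Basis.constr_basis]
  refine ⟨LinearMap.BilinMap.toQuadraticMap C, ⟨?_, fun i => ?_⟩, ?_⟩
  · refine b.ext fun i => b.ext fun j => ?_
    rw [QuadraticMap.polarBilin_apply_apply, LinearMap.BilinMap.polar_toQuadraticMap, hC, hC]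
    rcases lt_trichotomy i j with h | h | h
    · simp [h, h.not_gt, h.ne, h.ne']
    · subst h
      simp [hB (b i), CharTwo.add_self_eq_zero]
    · simp only [h, h.not_gt, h.ne', if_true, if_false, zero_add]
      rw [← LinearMap.IsAlt.neg hB, CharTwo.neg_eq]
  · rw [LinearMap.BilinMap.toQuadraticMap_apply, hC]
    simp
  · rintro Q ⟨hQ, hc⟩
    have hval : ∀ i, LinearMap.BilinMap.toQuadraticMap C (b i) = c i := by
      intro i
      rw [LinearMap.BilinMap.toQuadraticMap_apply, hC]
      simp
    have hpC : QuadraticMap.polarBilin (LinearMap.BilinMap.toQuadraticMap C) = B := by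
      refine b.ext fun i => b.ext fun j => ?_
      rw [QuadraticMap.polarBilin_apply_apply, LinearMap.BilinMap.polar_toQuadraticMap, hC, hC]
      rcases lt_trichotomy i j with h | h | h
      · simp [h, h.not_gt, h.ne, h.ne']
      · subst h
        simp [hB (b i), CharTwo.add_self_eq_zero]
      · simp only [h, h.not_gt, h.ne', if_true, if_false, zero_add]
        rw [← LinearMap.IsAlt.neg hB, CharTwo.neg_eq]
    ext v
    let Z : QuadraticForm F V := Q - LinearMap.BilinMap.toQuadraticMap C
    have hZadd : ∀ u w, Z (u + w) = Z u + Z w := by
      intro u w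
      have h1 := congrFun (congrArg DFunLike.coe (LinearMap.congr_fun (hQ.trans hpC.symm) u)) w
      simp only [QuadraticMap.polarBilin_apply_apply, QuadraticMap.polar] at h1
      simp only [Z, QuadraticMap.sub_apply]
      linear_combination h1
    have hZb : ∀ (r : F) i, Z (r • b i) = 0 := by
      intro r i
      simp [Z, QuadraticMap.map_smul, hc, hval]
    have key : ∀ s : Finset ι, Z (∑ i ∈ s, b.repr v i • b i) = 0 := by
      intro s
      induction s using Finset.induction_on with
      | empty => simp
      | insert i s his ih => rw [Finset.sum_insert his, hZadd, hZb, ih, add_zero]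
    have := key Finset.univ
    rw [b.sum_repr] at this
    exact sub_eq_zero.mp this

end Cfsg.Agent.S2619
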