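import Cfsg.Statements.S2620
import Cfsg.Agent.Lib.QuadClassify

set_option autoImplicit false
open Cfsg

namespace Cfsg.Agent.S2620

theorem isSquare_neg_one_pow_iff {F : Type*} [Field F] [Fintype F] {q : ℕ}
    (hF : Fintype.card F = q) (hq : Odd q) (m : ℕ) :
    IsSquare ((-1 : F) ^ m) ↔ Even (m * (q - 1) / 2) := by
  obtain ⟨h, rfl⟩ := hq
  have h1 : m * (2 * h + 1 - 1) / 2 = m * h := by
    rw [Nat.add_sub_cancel, ← mul_left_comm, Nat.mul_div_cancel_left _ two_pos]
  rw [h1, Nat.even_mul]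
  rcases Nat.even_or_odd m with hm | hm
  · simp [hm.neg_one_pow, hm, IsSquare.one]
  · rw [hm.neg_one_pow, FiniteField.isSquare_neg_one_iff, hF]
    simp [Nat.not_even_iff_odd.mpr hm, Nat.even_iff]
    omega

theorem det_antidiag (m : ℕ) (F : Type*) [Field F] :
    (Matrix.fromBlocks (0 : Matrix (Fin m) (Fin m) F) (1 : Matrix (Fin m) (Fin m) F)
      (1 : Matrix (Fin m) (Fin m) F) (0 : Matrix (Fin m) (Fin m) F)).det = (-1) ^ m := by
  have h : Matrix.fromBlocks (1 : Matrix (Fin m) (Fin m) F) (1 : Matrix (Fin m) (Fin m) F) 0 (1 : Matrix (Fin m) (Fin m) F) *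
      Matrix.fromBlocks 0 (1 : Matrix (Fin m) (Fin m) F) (1 : Matrix (Fin m) (Fin m) F) 0 =
      Matrix.fromBlocks 1 (1 : Matrix (Fin m) (Fin m) F) (1 : Matrix (Fin m) (Fin m) F) 0 := by simp [Matrix.fromBlocks_multiply]
  have h' := congrArg Matrix.det h
  rw [Matrix.det_mul, Matrix.det_fromBlocks_zero₂₁, Matrix.det_fromBlocks_one₁₁] at h'
  simpa [Matrix.det_neg] using h'

theorem polar_plus {F : Type*} [Field F] {m : ℕ} (u v : Fin m ⊕ Fin m → F) :
    QuadraticMap.polar (Cfsg.quadFormPlus m F) u v =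
      ∑ l, (u (.inl l) * v (.inr l) + u (.inr l) * v (.inl l)) := by
  simp only [QuadraticMap.polar, Cfsg.quadFormPlus, Pi.add_apply, ← Finset.sum_sub_distrib]
  exact Finset.sum_congr rfl fun l _ => by ring

/-- Discriminant of the hyperbolic quadratic form Σ_(i<m) x_i y_i over a field with q elements, q odd, m ≥ 1: the determinant of the Gram matrix of its polar form in any basis is a square if and only if m(q − 1)/2 is even (equivalently q^m ≡ 1 (mod 4)). -/
theorem result {F : Type*} [Field F] [Fintype F] {q : ℕ} (hF : Fintype.card F = q) (hq : Odd q) {m : ℕ} (hm : 1 ≤ m) {ι : Type*} [Fintype ι] [DecidableEq ι] (b : Module.Basis ι F (Fin m ⊕ Fin m → F)) : IsSquare (Matrix.of (fun i j : ι => QuadraticMap.polar (Cfsg.quadFormPlus m F) (b i) (b j))).det ↔ Even (m * (q - 1) / 2) := by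
  classical
  rw [← QuadClassify.qPlus_coe]
  change IsSquare (QuadClassify.gram (QuadClassify.qPlus m F) b).det ↔ _
  rw [QuadClassify.isSquare_gram_det_iff _ (Pi.basisFun F _) b]
  have hG : QuadClassify.gram (QuadClassify.qPlus m F) (Pi.basisFun F (Fin m ⊕ Fin m)) =
      Matrix.fromBlocks 0 (1 : Matrix (Fin m) (Fin m) F) (1 : Matrix (Fin m) (Fin m) F) 0 := by
    ext (i | i) (j | j) <;>
      simp [QuadClassify.gram_apply, QuadClassify.qPlus_coe, polar_plus, Matrix.one_apply,
        Pi.single_apply, eq_comm]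
  rw [hG, det_antidiag]
  exact isSquare_neg_one_pow_iff hF hq m

end Cfsg.Agent.S2620
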