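import Cfsg.Statements.S2621
import Cfsg.Agent.Lib.QuadClassify

set_option autoImplicit false
open Cfsg

namespace Cfsg.Agent.S2621

theorem isSquare_neg_one_pow_iff {F : Type*} [Field F] [Fintype F] {q : ℕ}
    (hF : Fintype.card F = q) (hq : Odd q) (m : ℕ) :
    IsSquare ((-1 : F) ^ m) ↔ Even (m * (q - 1) / 2) := by
  obtain ⟨h, rfl⟩ := hq
  have h1 : m * (2 * h + 1 - 1) / 2 = m * h := by
    rw [Nat.add_sub_cancel, ← mul_left_comm, Nat.mul_div_cancel_left _ two_pos]
  rw [h1, Nat.even_mul]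
  rcases Nat.even_or_odd m with hm | hm
  · simp [hm.neg_one_pow, hm, IsSquare.one]
  · rw [hm.neg_one_pow, FiniteField.isSquare_neg_one_iff, hF]
    simp [Nat.not_even_iff_odd.mpr hm, Nat.even_iff]
    omega

theorem det_antidiag (m : ℕ) (F : Type*) [Field F] :
    (Matrix.fromBlocks (0 : Matrix (Fin m) (Fin m) F) (1 : Matrix (Fin m) (Fin m) F)
      (1 : Matrix (Fin m) (Fin m) F) (0 : Matrix (Fin m) (Fin m) F)).det = (-1) ^ m := by
  have h : Matrix.fromBlocks (1 : Matrix (Fin m) (Fin m) F) (1 : Matrix (Fin m) (Fin m) F) 0 (1 : Matrix (Fin m) (Fin m) F) *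
      Matrix.fromBlocks 0 (1 : Matrix (Fin m) (Fin m) F) (1 : Matrix (Fin m) (Fin m) F) 0 =
      Matrix.fromBlocks 1 (1 : Matrix (Fin m) (Fin m) F) (1 : Matrix (Fin m) (Fin m) F) 0 := by simp [Matrix.fromBlocks_multiply]
  have h' := congrArg Matrix.det h
  rw [Matrix.det_mul, Matrix.det_fromBlocks_zero₂₁, Matrix.det_fromBlocks_one₁₁] at h'
  simpa [Matrix.det_neg] using h'

theorem polar_plus {F : Type*} [Field F] {m : ℕ} (u v : Fin m ⊕ Fin m → F) :
    QuadraticMap.polar (Cfsg.quadFormPlus m F) u v =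
      ∑ l, (u (.inl l) * v (.inr l) + u (.inr l) * v (.inl l)) := by
  simp only [QuadraticMap.polar, Cfsg.quadFormPlus, Pi.add_apply, ← Finset.sum_sub_distrib]
  exact Finset.sum_congr rfl fun l _ => by ring

/-- Discriminant of an elliptic quadratic form Σ_(i<m−1) x_i y_i + z₁² + a z₁z₂ + c z₂² (binary part anisotropic) in dimension 2m over a field with q elements, q odd, m ≥ 1: the determinant of the Gram matrix of its polar form in any basis is a square if and only if m(q − 1)/2 is odd (equivalently q^m ≡ 3 (mod 4)). -/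
theorem result {F : Type*} [Field F] [Fintype F] {q : ℕ} (hF : Fintype.card F = q) (hq : Odd q) {m : ℕ} (hm : 1 ≤ m) (a c : F) (hac : ∀ z₁ z₂ : F, z₁ ^ 2 + a * z₁ * z₂ + c * z₂ ^ 2 = 0 → z₁ = 0 ∧ z₂ = 0) {ι : Type*} [Fintype ι] [DecidableEq ι] (b : Module.Basis ι F ((Fin (m - 1) ⊕ Fin (m - 1)) ⊕ Fin 2 → F)) : IsSquare (Matrix.of (fun i j : ι => QuadraticMap.polar (Cfsg.quadFormMinus (m - 1) F a c) (b i) (b j))).det ↔ ¬ Even (m * (q - 1) / 2) := by
  classical
  obtain ⟨k, rfl⟩ : ∃ k, m = k + 1 := ⟨m - 1, by omega⟩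
  rw [show Cfsg.quadFormMinus (k + 1 - 1) F a c = ⇑(QuadClassify.qMinus k F a c) from
    (QuadClassify.qMinus_coe k a c).symm]
  change IsSquare (QuadClassify.gram (QuadClassify.qMinus k F a c) b).det ↔ _
  rw [QuadClassify.isSquare_gram_det_iff (QuadClassify.qMinus k F a c)
    (Pi.basisFun F ((Fin k ⊕ Fin k) ⊕ Fin 2)) b]
  have hp : ∀ u v, QuadraticMap.polar (QuadClassify.qMinus k F a c) u v =
      (∑ l, (u (.inl (.inl l)) * v (.inl (.inr l)) + u (.inl (.inr l)) * v (.inl (.inl l)))) +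
      (2 * u (.inr 0) * v (.inr 0) + a * (u (.inr 0) * v (.inr 1) + u (.inr 1) * v (.inr 0)) +
        2 * c * u (.inr 1) * v (.inr 1)) := by
    intro u v
    rw [QuadClassify.qMinus_coe]
    have h := polar_plus (u ∘ Sum.inl : Fin k ⊕ Fin k → F) (v ∘ Sum.inl)
    simp only [QuadraticMap.polar, Cfsg.quadFormPlus, Cfsg.quadFormMinus, Pi.add_apply,
      Function.comp_apply] at h ⊢
    linear_combination h
  have hG : QuadClassify.gram (QuadClassify.qMinus k F a c) (Pi.basisFun F _) =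
      Matrix.fromBlocks (Matrix.fromBlocks 0 (1 : Matrix (Fin k) (Fin k) F) (1 : Matrix (Fin k) (Fin k) F) 0) 0 0 !![2, a; a, 2 * c] := by
    ext ((i | i) | i) ((j | j) | j) <;>
      first
      | (fin_cases i <;> fin_cases j <;>
          simp [QuadClassify.gram_apply, hp, Pi.single_apply])
      | simp [QuadClassify.gram_apply, hp, Matrix.one_apply, Pi.single_apply, eq_comm]
  rw [hG, Matrix.det_fromBlocks_zero₂₁, det_antidiag, Matrix.det_fin_two_of]
  have h2 : (2 : F) ≠ 0 := Ring.two_ne_zero fun h => by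
    have := FiniteField.even_card_of_char_two (F := F) h
    rw [hF] at this
    obtain ⟨r, rfl⟩ := hq
    omega
  have hd : ¬ IsSquare (a ^ 2 - 4 * c) := by
    rintro ⟨r, hr⟩
    exact one_ne_zero (hac ((r - a) / 2) 1 (by field_simp; linear_combination -hr)).2
  rw [← isSquare_neg_one_pow_iff hF hq (k + 1),
    show (-1 : F) ^ k * (2 * (2 * c) - a * a) = (-1) ^ (k + 1) * (a ^ 2 - 4 * c) by ring]
  have hd0 : a ^ 2 - 4 * c ≠ 0 := fun h => hd (h ▸ IsSquare.zero)
  have hm0 : (-1 : F) ^ (k + 1) ≠ 0 := pow_ne_zero _ (neg_ne_zero.mpr one_ne_zero)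
  rw [← quadraticChar_one_iff_isSquare (mul_ne_zero hm0 hd0), ← quadraticChar_one_iff_isSquare hm0,
    map_mul, quadraticChar_neg_one_iff_not_isSquare.mpr hd]
  rcases quadraticChar_dichotomy hm0 with h | h <;> rw [h] <;> norm_num

end Cfsg.Agent.S2621
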