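import Cfsg.Statements.S2622
import Cfsg.Agent.S0756

set_option autoImplicit false
open Cfsg

namespace Cfsg.Agent.S2622

theorem exists_one {F V : Type*} [Field F] [Finite F] [CharP F 2] [AddCommGroup V] [Module F V]
    (B : LinearMap.BilinForm F V) (h : ∃ v, B v v ≠ 0) : ∃ v, B v v = 1 := by
  obtain ⟨v, hv⟩ := h
  cases nonempty_fintype F
  obtain ⟨s, hs⟩ := FiniteField.isSquare_of_char_two (ringChar.eq F 2) (B v v)⁻¹
  exact ⟨s • v, by simp [← mul_assoc, ← hs, hv]⟩

/-- A non-alternating form has a vector of norm one whose complement is non-alternating. -/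
theorem exists_good {F V : Type*} [Field F] [Finite F] [CharP F 2] [AddCommGroup V] [Module F V]
    [FiniteDimensional F V] (B : LinearMap.BilinForm F V) (hS : B.IsSymm) (hB : B.Nondegenerate)
    (h : ∃ v, B v v ≠ 0) (hn : 2 ≤ Module.finrank F V) :
    ∃ v, B v v = 1 ∧ ∃ w, B v w = 0 ∧ B w w ≠ 0 := by
  obtain ⟨v, hv⟩ := exists_one B h
  by_cases hc : ∃ w, B v w = 0 ∧ B w w ≠ 0
  · exact ⟨v, hv, hc⟩
  push Not at hc
  obtain ⟨-, hW, hr⟩ := S0756.restrict_ker B hS hB (v := v) (by rw [hv]; exact one_ne_zero)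
  have : Nontrivial (LinearMap.ker (B v)) := Module.nontrivial_of_finrank_pos (R := F) (by omega)
  obtain ⟨u, hu⟩ := exists_ne (0 : LinearMap.ker (B v))
  obtain ⟨w, hw⟩ : ∃ w : LinearMap.ker (B v), B (u : V) (w : V) ≠ 0 := by
    by_contra hh
    push Not at hh
    exact hu (hW.1 u hh)
  set w' := (B (u : V) (w : V))⁻¹ • (w : V) with hw'
  have h1 : B (u : V) w' = 1 := by simp [hw', hw]
  have hvu : B v (u : V) = 0 := u.2
  have hvw : B v w' = 0 := by
    have : B v (w : V) = 0 := w.2
    simp [hw', this]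
  have huu := hc _ hvu
  have hww := hc _ hvw
  refine ⟨v + u, ?_, v + w', ?_, ?_⟩ <;>
    simp [hv, hvu, hvw, huu, hww, h1, hS.eq (u : V) v, hS.eq w' v, CharTwo.add_self_eq_zero]

theorem exists_family.{u₁, u₂} {F : Type u₁} [Field F] [Finite F] [CharP F 2] : ∀ (n : ℕ)
    {V : Type u₂} [AddCommGroup V] [Module F V] [FiniteDimensional F V]
    (B : LinearMap.BilinForm F V), B.IsSymm → B.Nondegenerate → Module.finrank F V = n →
    (n = 0 ∨ ∃ v, B v v ≠ 0) →
    ∃ b : Fin n → V, ∀ i j, B (b i) (b j) = if i = j then 1 else 0 := by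
  intro n
  induction n with
  | zero => exact fun _ _ _ _ _ => ⟨Fin.elim0, fun i => i.elim0⟩
  | succ n ih =>
    intro V _ _ _ B hS hB hn h
    have hna := h.resolve_left (Nat.succ_ne_zero n)
    obtain ⟨v, hv, hrest⟩ : ∃ v, B v v = 1 ∧ (n = 0 ∨ ∃ w, B v w = 0 ∧ B w w ≠ 0) := by
      rcases Nat.eq_zero_or_pos n with h0 | h0
      · obtain ⟨v, hv⟩ := exists_one B hna
        exact ⟨v, hv, Or.inl h0⟩
      · obtain ⟨v, hv, hw⟩ := exists_good B hS hB hna (by omega)
        exact ⟨v, hv, Or.inr hw⟩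
    obtain ⟨hS', hB', hr⟩ := S0756.restrict_ker B hS hB (v := v) (by rw [hv]; exact one_ne_zero)
    obtain ⟨b, hb⟩ := ih (B.restrict (LinearMap.ker (B v))) hS' hB' (by omega)
      (hrest.imp id fun ⟨w, hw1, hw2⟩ => ⟨⟨w, hw1⟩, hw2⟩)
    have hbv : ∀ i, B v (b i : V) = 0 := fun i => (b i).2
    refine ⟨Fin.cons v (fun i => (b i : V)), fun i j => ?_⟩
    induction i using Fin.cases with
    | zero =>
      induction j using Fin.cases with
      | zero => simpa using hv
      | succ j => simp [hbv, (Fin.succ_ne_zero j).symm]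
    | succ i =>
      induction j using Fin.cases with
      | zero => simp [hS.eq (b i : V) v, hbv, Fin.succ_ne_zero i]
      | succ j => simpa [Fin.succ_inj] using hb i j

/-- Over a finite field of characteristic two, a non-degenerate symmetric bilinear form that is not alternating (some vector v has B(v, v) ≠ 0) admits an orthonormal basis. -/
theorem result {F V : Type*} [Field F] [Finite F] [CharP F 2] [AddCommGroup V] [Module F V] [FiniteDimensional F V] {n : ℕ} (hV : Module.finrank F V = n) (B : LinearMap.BilinForm F V) (hS : B.IsSymm) (hB : B.Nondegenerate) (hna : ∃ v : V, B v v ≠ 0) : ∃ b : Module.Basis (Fin n) F V, ∀ i j, B (b i) (b j) = if i = j then 1 else 0 := by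
  classical
  obtain ⟨b, hb⟩ := exists_family n B hS hB hV (Or.inr hna)
  have hli : LinearIndependent F b := by
    rw [Fintype.linearIndependent_iff]
    intro c hc i
    have := congrArg (B (b i)) hc
    simpa [map_sum, hb] using this
  exact ⟨Module.Basis.mk hli (hli.span_eq_top_of_card_eq_finrank' (by simp [hV])).ge, by simpa using hb⟩

end Cfsg.Agent.S2622
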