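import Cfsg.Statements.S2623
import Cfsg.Agent.Lib.QuadClassify
import Cfsg.Agent.S0756

set_option autoImplicit false
open Cfsg

namespace Cfsg.Agent.S2623

/-- Over a finite field of odd order, two quadratic forms on F^n with non-degenerate polar forms are isometric (related by an invertible linear change of variables) if and only if their discriminants (determinants of the Gram matrices of their polar forms) lie in the same square class. -/
theorem result {F : Type*} [Field F] [Fintype F] (h2 : (2 : F) ≠ 0) {n : ℕ} (Q₁ Q₂ : QuadraticForm F (Fin n → F)) (h₁ : (QuadraticMap.polarBilin Q₁).Nondegenerate) (h₂ : (QuadraticMap.polarBilin Q₂).Nondegenerate) : (∃ g : (Fin n → F) ≃ₗ[F] (Fin n → F), ∀ v, Q₂ (g v) = Q₁ v) ↔ IsSquare ((Matrix.of (fun i j : Fin n => QuadraticMap.polar ⇑Q₁ (Pi.single i 1) (Pi.single j 1))).det * (Matrix.of (fun i j : Fin n => QuadraticMap.polar ⇑Q₂ (Pi.single i 1) (Pi.single j 1))).det) := by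
  classical
  change _ ↔ IsSquare ((QuadClassify.gram Q₁ (fun i : Fin n => Pi.single i (1 : F))).det *
    (QuadClassify.gram Q₂ (fun i : Fin n => Pi.single i (1 : F))).det)
  have hst : (fun i : Fin n => Pi.single i (1 : F)) = ⇑(Pi.basisFun F (Fin n)) := by
    funext i; simp
  rw [hst]
  set D := Pi.basisFun F (Fin n)
  constructor
  · rintro ⟨g, hg⟩
    have h1 : QuadClassify.gram Q₂ (D.map g) = QuadClassify.gram Q₁ D := by
      ext i j
      simp [QuadClassify.gram_apply, QuadraticMap.polar, ← map_add, hg]
    rw [← h1, QuadClassify.gram_change Q₂ D (D.map g)]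
    exact ⟨(D.toMatrix (D.map g)).det * (QuadClassify.gram Q₂ D).det, by ring⟩
  · intro hsq
    obtain rfl | ⟨k, rfl⟩ : n = 0 ∨ ∃ k, n = k + 1 := by
      rcases n with _ | k
      · exact Or.inl rfl
      · exact Or.inr ⟨k, rfl⟩
    · exact ⟨LinearEquiv.refl F _, fun v => by
        rw [show v = 0 from Subsingleton.elim _ _, map_zero, QuadraticMap.map_zero, QuadraticMap.map_zero]⟩
    obtain ⟨α, hα⟩ := FiniteField.exists_nonsquare (F := F) (fun h => Ring.two_ne_zero
      (R := F) (fun h' => h2 (by have := ringChar.charP F; rw [h] at this; exact CharP.cast_eq_zero F 2)) |> fun _ => h2 (by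
        have := ringChar.charP F; rw [h] at this; exact CharP.cast_eq_zero F 2))
    have key : ∀ Q : QuadraticForm F (Fin (k + 1) → F), (QuadraticMap.polarBilin Q).Nondegenerate →
        ∃ (b : Module.Basis (Fin (k + 1)) F (Fin (k + 1) → F)) (c : F), (c = 1 ∨ c = α) ∧
          (∀ i j, QuadraticMap.polar ⇑Q (b i) (b j) =
            if i = j then (if i = Fin.last k then c else 1) else 0) ∧
          ∃ s : F, s ≠ 0 ∧ (QuadClassify.gram Q D).det = s * s * c := by
      intro Q hQ
      obtain ⟨b, hb1, hb2, hb3⟩ := S0756.result h2 (QuadraticMap.polarBilin Q)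
        ⟨fun u v => QuadraticMap.polar_comm (⇑Q) u v⟩ hQ (n := k) (by simp) α hα
      have hpol : ∀ i j, QuadraticMap.polar ⇑Q (b i) (b j) = if i = j then
          (if i = Fin.last k then QuadraticMap.polar ⇑Q (b (Fin.last k)) (b (Fin.last k)) else 1)
          else 0 := by
        intro i j
        by_cases hij : i = j
        · subst hij
          by_cases hi : i = Fin.last k
          · simp [hi]
          · simpa [hi] using hb2 i hi
        · simpa [hij] using hb1 i j hij
      refine ⟨b, _, hb3, hpol, (b.toMatrix D).det, ?_, ?_⟩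
      · rw [← b.det_apply]; exact (b.isUnit_det D).ne_zero
      · rw [QuadClassify.gram_change Q b D]
        congr 1
        rw [show QuadClassify.gram Q b = Matrix.diagonal (fun i => if i = Fin.last k then
            QuadraticMap.polar ⇑Q (b (Fin.last k)) (b (Fin.last k)) else 1) from by
          ext i j; rw [QuadClassify.gram_apply, hpol, Matrix.diagonal_apply], Matrix.det_diagonal]
        simp [Finset.prod_ite_eq']
    obtain ⟨b₁, c₁, hc₁, hp₁, s₁, hs₁, hd₁⟩ := key Q₁ h₁
    obtain ⟨b₂, c₂, hc₂, hp₂, s₂, hs₂, hd₂⟩ := key Q₂ h₂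
    have hcc : c₁ = c₂ := by
      obtain ⟨r, hr⟩ := hsq
      rw [hd₁, hd₂] at hr
      rcases hc₁ with rfl | rfl <;> rcases hc₂ with rfl | rfl
      · rfl
      · exact absurd ⟨r / (s₁ * s₂), by field_simp; linear_combination hr⟩ hα
      · exact absurd ⟨r / (s₁ * s₂), by field_simp; linear_combination hr⟩ hα
      · rfl
    subst hcc
    refine ⟨b₁.equiv b₂ (Equiv.refl _), fun v => ?_⟩
    set g := b₁.equiv b₂ (Equiv.refl _) with hg
    have hB : (QuadraticMap.polarBilin Q₂).compl₁₂ (g : (Fin (k + 1) → F) →ₗ[F] _)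
        (g : (Fin (k + 1) → F) →ₗ[F] _) = QuadraticMap.polarBilin Q₁ := by
      refine b₁.ext fun i => b₁.ext fun j => ?_
      simp [hg, hp₁, hp₂]
    have h := LinearMap.congr_fun (LinearMap.congr_fun hB v) v
    simp only [LinearMap.compl₁₂_apply, LinearEquiv.coe_coe, QuadraticMap.polarBilin_apply_apply,
      QuadraticMap.polar_self, two_smul] at h
    exact mul_left_cancel₀ h2 (by linear_combination h)

end Cfsg.Agent.S2623
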