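import Cfsg.Statements.S2624
import Cfsg.Agent.Lib.QuadClassify

set_option autoImplicit false
open Cfsg

namespace Cfsg.Agent.S2624

/-- For a quadratic form Q on F^n with non-degenerate polar form, F finite and n ≥ 2 even, every non-zero scalar c is the multiplier of some similarity: there is an invertible linear map g with Q(g v) = c·Q(v) for all v. -/
theorem result {F : Type*} [Field F] [Fintype F] {n : ℕ} (hn : 2 ≤ n) (he : Even n) (Q : QuadraticForm F (Fin n → F)) (hQ : (QuadraticMap.polarBilin Q).Nondegenerate) (c : F) (hc : c ≠ 0) : ∃ g : (Fin n → F) ≃ₗ[F] (Fin n → F), ∀ v, Q (g v) = c * Q v := by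
  classical
  obtain ⟨k, e, f, W, hdec, hW2⟩ := QuadClassify.exists_decomp Q hQ
  have hdec' : QuadClassify.Decomp (c • Q) ⊤ k e (fun i => c⁻¹ • f i) W := by
    obtain ⟨hH, hWU, heU, hfU, horth, hd, han, hnd⟩ := hdec
    have hp : ∀ u v, QuadraticMap.polar ⇑(c • Q) u v = c * QuadraticMap.polar ⇑Q u v := by
      intro u v
      simp only [QuadraticMap.polar, QuadraticMap.smul_apply, smul_eq_mul]
      ring
    refine ⟨⟨fun i => ?_, fun i => ?_, fun i j => ?_, fun i j => ?_, fun i j => ?_⟩, hWU, heU,
      fun i => trivial, fun i w hw => ?_, hd, fun u hu h => ?_, fun u hu h => ?_⟩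
    · simp [hH.qe]
    · simp [QuadraticMap.map_smul, hH.qf]
    · rw [hp, QuadraticMap.polar_smul_right, hH.pef]; split_ifs <;> simp [hc]
    · rw [hp, hH.pee, mul_zero]
    · rw [hp, QuadraticMap.polar_smul_left, QuadraticMap.polar_smul_right, hH.pff]; simp
    · rw [hp, hp, QuadraticMap.polar_smul_left]; simp [horth i w hw]
    · exact han u hu (by simpa [hc] using h)
    · refine hnd u hu fun v hv => ?_
      have := h v hv
      rw [hp] at this
      simpa [hc] using this
  have hd := hdec.2.2.2.2.2.1
  rw [finrank_top, Module.finrank_fintype_fun_eq_card, Fintype.card_fin] at hd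
  obtain ⟨g, hg⟩ := QuadClassify.iso_of_decomp Q (c • Q) hdec hdec' rfl
    (by obtain ⟨j, rfl⟩ := he; omega)
  refine ⟨g.symm, fun v => ?_⟩
  have := hg (g.symm v)
  simpa using this.symm

end Cfsg.Agent.S2624
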