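import Cfsg.Statements.S2625
-- import your own Cfsg.Agent.* helpers here

set_option autoImplicit false
open Cfsg

namespace Cfsg.Agent.S2625

/-- For a quadratic form Q on F^n with non-degenerate polar form, F finite and n odd (so |F| is odd), the multiplier of any similarity is a square: if g is an invertible linear map with Q(g v) = c·Q(v) for all v then c is a square. -/
theorem result {F : Type*} [Field F] [Fintype F] {n : ℕ} (hn : Odd n) (Q : QuadraticForm F (Fin n → F)) (hQ : (QuadraticMap.polarBilin Q).Nondegenerate) (g : (Fin n → F) ≃ₗ[F] (Fin n → F)) (c : F) (hg : ∀ v, Q (g v) = c * Q v) : IsSquare c := by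
  classical
  obtain ⟨k, rfl⟩ := hn
  set G := LinearMap.toMatrix₂' F (QuadraticMap.polarBilin Q) with hG
  have hG0 : G.det ≠ 0 := by
    have := hQ
    rw [← LinearMap.nondegenerate_toMatrix₂'_iff, Matrix.nondegenerate_iff_det_ne_zero] at this
    exact this
  set A := LinearMap.toMatrix' (g : (Fin (2 * k + 1) → F) →ₗ[F] (Fin (2 * k + 1) → F)) with hA
  have hA0 : A.det ≠ 0 := by
    rw [hA, LinearMap.det_toMatrix']
    exact (LinearEquiv.isUnit_det' g).ne_zero
  have hBg : (QuadraticMap.polarBilin Q).compl₁₂ (g : (Fin (2 * k + 1) → F) →ₗ[F] _)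
      (g : (Fin (2 * k + 1) → F) →ₗ[F] _) = c • QuadraticMap.polarBilin Q := by
    refine LinearMap.ext fun u => LinearMap.ext fun v => ?_
    simp only [LinearMap.compl₁₂_apply, LinearEquiv.coe_coe, LinearMap.smul_apply,
      QuadraticMap.polarBilin_apply_apply, QuadraticMap.polar, ← map_add, hg, smul_eq_mul]
    ring
  have h := congrArg (fun B => (LinearMap.toMatrix₂' F B).det) hBg
  simp only [LinearMap.toMatrix₂'_compl₁₂, map_smul, Matrix.det_mul, Matrix.det_transpose,
    Matrix.det_smul, Fintype.card_fin] at h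
  have h' : A.det * A.det = c ^ (2 * k + 1) := mul_right_cancel₀ hG0 (by linear_combination h)
  have hc : c ≠ 0 := by
    rintro rfl
    rw [zero_pow (by omega)] at h'
    exact hA0 (mul_self_eq_zero.mp h')
  refine ⟨A.det * (c ^ k)⁻¹, ?_⟩
  field_simp
  linear_combination -h'

end Cfsg.Agent.S2625
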