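import Cfsg.Statements.S2626
-- import your own Cfsg.Agent.* helpers here

set_option autoImplicit false
open Cfsg

namespace Cfsg.Agent.S2626

/-- block diagonal matrices, as a monoid hom -/
def embMat {F : Type*} [Field F] {k l : ℕ} :
    Matrix (Fin k) (Fin k) F × Matrix (Fin l) (Fin l) F →* Matrix (Fin k ⊕ Fin l) (Fin k ⊕ Fin l) F where
  toFun p := Matrix.fromBlocks p.1 0 0 p.2
  map_one' := by simp [Matrix.fromBlocks_one]
  map_mul' p q := by simp [Matrix.fromBlocks_multiply]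

/-- block diagonal invertible matrices -/
def emb {F : Type*} [Field F] {k l : ℕ} :
    GL (Fin k) F × GL (Fin l) F →* GL (Fin k ⊕ Fin l) F :=
  (Units.map embMat).comp MulEquiv.prodUnits.symm.toMonoidHom

lemma map_commutator_le {A B : Type*} [Group A] [Group B] (φ : A →* B) :
    (commutator A).map φ ≤ commutator B := by
  rw [commutator_def, commutator_def, Subgroup.map_commutator]
  exact Subgroup.commutator_mono le_top le_top

/-- Ω of an orthogonal direct sum contains the product of the Ω's: for quadratic forms Q₁ on F^k and Q₂ on F^l with non-degenerate polar forms (F finite) and Q = Q₁ ⊕ Q₂ on F^(k+l), if g₁ lies in Ω(Q₁) and g₂ in Ω(Q₂) (commutator subgroups of the orthogonal groups) then the block-diagonal isometry diag(g₁, g₂) lies in Ω(Q). -/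
theorem result {F : Type*} [Field F] [Fintype F] {k l : ℕ} (Q₁ : QuadraticForm F (Fin k → F)) (Q₂ : QuadraticForm F (Fin l → F)) (h₁ : (QuadraticMap.polarBilin Q₁).Nondegenerate) (h₂ : (QuadraticMap.polarBilin Q₂).Nondegenerate) (g₁ : ↥(Cfsg.isometryGroup F ⇑Q₁)) (g₂ : ↥(Cfsg.isometryGroup F ⇑Q₂)) (hg₁ : g₁ ∈ Cfsg.Omega F ⇑Q₁) (hg₂ : g₂ ∈ Cfsg.Omega F ⇑Q₂) : ∃ g : ↥(Cfsg.isometryGroup F (fun v : Fin k ⊕ Fin l → F => Q₁ (v ∘ Sum.inl) + Q₂ (v ∘ Sum.inr))), g ∈ Cfsg.Omega F (fun v : Fin k ⊕ Fin l → F => Q₁ (v ∘ Sum.inl) + Q₂ (v ∘ Sum.inr)) ∧ ((g : Matrix.GeneralLinearGroup (Fin k ⊕ Fin l) F) : Matrix (Fin k ⊕ Fin l) (Fin k ⊕ Fin l) F) = Matrix.fromBlocks ((g₁ : Matrix.GeneralLinearGroup (Fin k) F) : Matrix (Fin k) (Fin k) F) 0 0 ((g₂ : Matrix.GeneralLinearGroup (Fin l) F) : Matrix (Fin l) (Fin l) F) := by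
  have hmem : ∀ (a : ↥(Cfsg.isometryGroup F ⇑Q₁)) (b : ↥(Cfsg.isometryGroup F ⇑Q₂)),
      emb (a.1, b.1) ∈ Cfsg.isometryGroup F
        (fun v : Fin k ⊕ Fin l → F => Q₁ (v ∘ Sum.inl) + Q₂ (v ∘ Sum.inr)) := by
    intro a b u w
    have ha := a.2 (u ∘ Sum.inl) (u ∘ Sum.inl)
    have hb := b.2 (u ∘ Sum.inr) (u ∘ Sum.inr)
    simp only [Units.coeHom_apply] at ha hb
    simp [emb, embMat, MulEquiv.prodUnits, Matrix.fromBlocks_mulVec, ha, hb]
  let e : ↥(Cfsg.isometryGroup F ⇑Q₁) × ↥(Cfsg.isometryGroup F ⇑Q₂) →*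
      ↥(Cfsg.isometryGroup F (fun v : Fin k ⊕ Fin l → F => Q₁ (v ∘ Sum.inl) + Q₂ (v ∘ Sum.inr))) :=
    (emb.comp ((Cfsg.isometryGroup F ⇑Q₁).subtype.prodMap (Cfsg.isometryGroup F ⇑Q₂).subtype)).codRestrict
      _ (fun ab => hmem ab.1 ab.2)
  have hmap : ∀ {A : Type _} [Group A] (φ : A →* ↥(Cfsg.isometryGroup F
      (fun v : Fin k ⊕ Fin l → F => Q₁ (v ∘ Sum.inl) + Q₂ (v ∘ Sum.inr)))) (a : A),
      a ∈ commutator A → φ a ∈ Cfsg.Omega F
        (fun v : Fin k ⊕ Fin l → F => Q₁ (v ∘ Sum.inl) + Q₂ (v ∘ Sum.inr)) := by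
    intro A _ φ a ha
    exact map_commutator_le φ ⟨a, ha, rfl⟩
  refine ⟨e (g₁, g₂), ?_, rfl⟩
  have : (g₁, g₂) = (g₁, 1) * (1, g₂) := by simp
  rw [this, map_mul]
  exact mul_mem (hmap (e.comp (MonoidHom.inl _ _)) g₁ hg₁) (hmap (e.comp (MonoidHom.inr _ _)) g₂ hg₂)

end Cfsg.Agent.S2626
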