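import Cfsg.Statements.S2627
import Cfsg.Agent.Lib.OmegaStd

set_option autoImplicit false
open Cfsg

namespace Cfsg.Agent.S2627

open Cfsg.Agent.OrthUnitaryQuad Cfsg.Agent.OrthUnitaryRefl Cfsg.Agent.OrthUnitaryPrelude Cfsg.Agent.OmegaClasses Cfsg.Agent.OmegaStd
variable {F : Type*} [Field F] {k l : ℕ}

/-- The orthogonal sum. -/
def sumForm (Q₁ : QuadraticForm F (Fin k → F)) (Q₂ : QuadraticForm F (Fin l → F)) :
    QuadraticForm F (Fin k ⊕ Fin l → F) :=
  Q₁.comp (LinearMap.funLeft F F Sum.inl) + Q₂.comp (LinearMap.funLeft F F Sum.inr)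

/-- The first summand. -/
def inlMap : (Fin k → F) →ₗ[F] (Fin k ⊕ Fin l → F) where
  toFun x := Sum.elim x 0
  map_add' x y := by ext s; cases s <;> simp
  map_smul' c x := by ext s; cases s <;> simp

theorem sumForm_inl (Q₁ : QuadraticForm F (Fin k → F)) (Q₂ : QuadraticForm F (Fin l → F))
    (x : Fin k → F) : sumForm Q₁ Q₂ (inlMap x) = Q₁ x := by
  show Q₁ x + Q₂ 0 = _
  simp

theorem polar_sumForm (Q₁ : QuadraticForm F (Fin k → F)) (Q₂ : QuadraticForm F (Fin l → F))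
    (x y : Fin k ⊕ Fin l → F) : QuadraticMap.polar (sumForm Q₁ Q₂) x y =
      QuadraticMap.polar Q₁ (x ∘ Sum.inl) (y ∘ Sum.inl) + QuadraticMap.polar Q₂ (x ∘ Sum.inr) (y ∘ Sum.inr) := by
  show (Q₁ ((x + y) ∘ Sum.inl) + Q₂ ((x + y) ∘ Sum.inr)) - (Q₁ (x ∘ Sum.inl) + Q₂ (x ∘ Sum.inr)) -
    (Q₁ (y ∘ Sum.inl) + Q₂ (y ∘ Sum.inr)) = _
  simp only [QuadraticMap.polar, Pi.add_comp]
  ring

theorem sumForm_nondeg (Q₁ : QuadraticForm F (Fin k → F)) (Q₂ : QuadraticForm F (Fin l → F))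
    (h₁ : (QuadraticMap.polarBilin Q₁).Nondegenerate) (h₂ : (QuadraticMap.polarBilin Q₂).Nondegenerate) :
    (QuadraticMap.polarBilin (sumForm Q₁ Q₂)).Nondegenerate := by
  have key : ∀ x, (∀ y, QuadraticMap.polar (sumForm Q₁ Q₂) x y = 0) → x = 0 := by
    intro x hx
    have e1 : x ∘ Sum.inl = 0 := h₁.1 _ fun y => by
      have := hx (Sum.elim y 0)
      rw [polar_sumForm] at this
      simpa [QuadraticMap.polar] using this
    have e2 : x ∘ Sum.inr = 0 := h₂.1 _ fun y => by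
      have := hx (Sum.elim (0 : Fin k → F) y)
      rw [polar_sumForm] at this
      simpa [QuadraticMap.polar] using this
    funext s
    rcases s with i | i
    · exact congrFun e1 i
    · exact congrFun e2 i
  exact ⟨fun x hx => key x hx, fun x hx => key x fun y => (QuadraticMap.polar_comm _ x y).trans (hx y)⟩

/-- The action of the extended product. -/
theorem sum_rprod (Q₁ : QuadraticForm F (Fin k → F)) (Q₂ : QuadraticForm F (Fin l → F))
    {vs : List (Fin k → F)} (hvs : NS Q₁ vs) (x : Fin k ⊕ Fin l → F) :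
    (rprod (sumForm Q₁ Q₂) (vs.map inlMap)).1 x =
      Sum.elim ((rprod Q₁ vs).1 (x ∘ Sum.inl)) (x ∘ Sum.inr) := by
  have hx : x = inlMap (x ∘ Sum.inl) + Sum.elim (0 : Fin k → F) (x ∘ Sum.inr) := by
    funext s; cases s <;> simp [inlMap]
  conv_lhs => rw [hx, map_add, rprod_map inlMap (sumForm_inl Q₁ Q₂) hvs,
    rprod_fix (NS.map inlMap (sumForm_inl Q₁ Q₂) hvs) (x := Sum.elim (0 : Fin k → F) (x ∘ Sum.inr)) (fun v hv => by
      obtain ⟨w, -, rfl⟩ := List.mem_map.1 hv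
      rw [polar_sumForm]
      simp [inlMap, QuadraticMap.polar])]
  funext s; cases s <;> simp [inlMap]

/-- For an orthogonal direct sum Q = Q₁ ⊕ Q₂ of quadratic forms with non-degenerate polar forms over a finite field, an isometry g₁ of Q₁ extended by the identity on the second summand lies in Ω(Q) (the commutator subgroup of the orthogonal group of Q) if and only if g₁ lies in Ω(Q₁). (Excluded: the field of two elements when the first summand or the whole space has dimension 4, where the commutator subgroup of O⁺₄(2) is smaller than the group usually called Ω.) -/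
theorem result {F : Type*} [Field F] [Fintype F] {k l : ℕ} (h : Fintype.card F ≠ 2 ∨ (k ≠ 4 ∧ k + l ≠ 4)) (Q₁ : QuadraticForm F (Fin k → F)) (Q₂ : QuadraticForm F (Fin l → F)) (h₁ : (QuadraticMap.polarBilin Q₁).Nondegenerate) (h₂ : (QuadraticMap.polarBilin Q₂).Nondegenerate) (g₁ : ↥(Cfsg.isometryGroup F ⇑Q₁)) : (∃ g : ↥(Cfsg.isometryGroup F (fun v : Fin k ⊕ Fin l → F => Q₁ (v ∘ Sum.inl) + Q₂ (v ∘ Sum.inr))), g ∈ Cfsg.Omega F (fun v : Fin k ⊕ Fin l → F => Q₁ (v ∘ Sum.inl) + Q₂ (v ∘ Sum.inr)) ∧ ((g : Matrix.GeneralLinearGroup (Fin k ⊕ Fin l) F) : Matrix (Fin k ⊕ Fin l) (Fin k ⊕ Fin l) F) = Matrix.fromBlocks ((g₁ : Matrix.GeneralLinearGroup (Fin k) F) : Matrix (Fin k) (Fin k) F) 0 0 1) ↔ g₁ ∈ Cfsg.Omega F ⇑Q₁ := by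
  classical
  have hfun : (fun v : Fin k ⊕ Fin l → F => Q₁ (v ∘ Sum.inl) + Q₂ (v ∘ Sum.inr)) = ⇑(sumForm Q₁ Q₂) := by
    funext v; rfl
  rw [hfun]
  have hexc1 : Fintype.card F ≠ 2 ∨ Module.finrank F (Fin k → F) ≠ 4 :=
    h.imp_right fun h => by rw [Module.finrank_fintype_fun_eq_card, Fintype.card_fin]; exact h.1
  have hexc : Fintype.card F ≠ 2 ∨ Module.finrank F (Fin k ⊕ Fin l → F) ≠ 4 :=
    h.imp_right fun h => by
      rw [Module.finrank_fintype_fun_eq_card, Fintype.card_sum, Fintype.card_fin, Fintype.card_fin]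
      exact h.2
  obtain ⟨vs, hns, hk⟩ := exists_rprod (reflGroup_top h₁ hexc1) (iso Q₁ g₁)
  have hact := sum_rprod Q₁ Q₂ hns
  rw [mem_Omega_iff g₁, hk, rprod_mem_iff h₁ hexc1 hns]
  rw [exists_mat_iff (rprod (sumForm Q₁ Q₂) (vs.map inlMap)) (fun x => by
    rw [hact, ← hk, iso_apply, Matrix.fromBlocks_mulVec]
    simp)]
  rw [rprod_mem_iff (sumForm_nondeg Q₁ Q₂ h₁ h₂) hexc (NS.map inlMap (sumForm_inl Q₁ Q₂) hns),
    List.length_map]
  exact and_congr_right' (iff_of_eq (congrArg IsSquare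
    (prod_map inlMap (sumForm_inl Q₁ Q₂) vs)))

end Cfsg.Agent.S2627
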