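import Cfsg.Statements.S2628
import Cfsg.Agent.Lib.OmegaStd
import Cfsg.Agent.S2627

set_option autoImplicit false
open Cfsg

namespace Cfsg.Agent.S2628

open Cfsg.Agent.OrthUnitaryQuad Cfsg.Agent.OrthUnitaryRefl Cfsg.Agent.OrthUnitaryPrelude Cfsg.Agent.OmegaClasses Cfsg.Agent.OmegaStd

/-- For the orthogonal direct sum Q ⊕ Q of two copies of a quadratic form Q with non-degenerate polar form on F^k (F finite), every isometry g of Q acting diagonally, diag(g, g), lies in Ω(Q ⊕ Q), the commutator subgroup of the orthogonal group of Q ⊕ Q. (Excluded: k = 2 over the field of two elements, where Q ⊕ Q is the hyperbolic 4-space whose orthogonal group's commutator subgroup is smaller than the group usually called Ω.) -/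
theorem result {F : Type*} [Field F] [Fintype F] {k : ℕ} (h : Fintype.card F ≠ 2 ∨ k ≠ 2) (Q : QuadraticForm F (Fin k → F)) (hQ : (QuadraticMap.polarBilin Q).Nondegenerate) (g : ↥(Cfsg.isometryGroup F ⇑Q)) : ∃ x : ↥(Cfsg.isometryGroup F (fun v : Fin k ⊕ Fin k → F => Q (v ∘ Sum.inl) + Q (v ∘ Sum.inr))), x ∈ Cfsg.Omega F (fun v : Fin k ⊕ Fin k → F => Q (v ∘ Sum.inl) + Q (v ∘ Sum.inr)) ∧ ((x : Matrix.GeneralLinearGroup (Fin k ⊕ Fin k) F) : Matrix (Fin k ⊕ Fin k) (Fin k ⊕ Fin k) F) = Matrix.fromBlocks ((g : Matrix.GeneralLinearGroup (Fin k) F) : Matrix (Fin k) (Fin k) F) 0 0 ((g : Matrix.GeneralLinearGroup (Fin k) F) : Matrix (Fin k) (Fin k) F) := by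
  classical
  have hfun : (fun v : Fin k ⊕ Fin k → F => Q (v ∘ Sum.inl) + Q (v ∘ Sum.inr)) = ⇑(S2627.sumForm Q Q) := by
    funext v; rfl
  rw [hfun]
  set W := S2627.sumForm Q Q with hW
  have hnd := S2627.sumForm_nondeg Q Q hQ hQ
  have hexc : Fintype.card F ≠ 2 ∨ Module.finrank F (Fin k ⊕ Fin k → F) ≠ 4 :=
    h.imp_right fun h => by
      rw [Module.finrank_fintype_fun_eq_card, Fintype.card_sum, Fintype.card_fin]; omega
  -- the element g ⊕ 1
  let gL := (iso Q g).1
  have hgQ : ∀ y, Q (gL y) = Q y := fun y => (iso Q g).2 y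
  let e := LinearEquiv.sumArrowLequivProdArrow (Fin k) (Fin k) F F
  let a : ↥(orth W) := ⟨e.trans ((gL.prodCongr (LinearEquiv.refl F _)).trans e.symm), fun y => by
    show Q _ + Q _ = Q _ + Q _
    congr 1
    exact hgQ (y ∘ Sum.inl)⟩
  let σ : ↥(orth W) := ⟨LinearEquiv.funCongrLeft F F (Equiv.sumComm (Fin k) (Fin k)), fun y => by
    show Q _ + Q _ = Q _ + Q _
    rw [add_comm]
    rfl⟩
  have ha : ∀ y, a.1 y = Sum.elim (gL (y ∘ Sum.inl)) (y ∘ Sum.inr) := fun y => by
    funext s; cases s <;> rfl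
  have hσ : ∀ y, σ.1 y = Sum.elim (y ∘ Sum.inr) (y ∘ Sum.inl) := fun y => by
    funext s; cases s <;> rfl
  obtain ⟨ws, hns, haw⟩ := exists_rprod (reflGroup_top hnd hexc) a
  have hconj := conj_rprod σ hns
  have hns' : NS W (ws.map σ.1) := fun v hv => by
    obtain ⟨w, hw, rfl⟩ := List.mem_map.1 hv
    rw [map_orth σ]; exact hns w hw
  have hk : a * (σ * a * σ⁻¹) ∈ commutator (orth W) := by
    rw [haw, hconj, ← rprod_append, rprod_mem_iff hnd hexc (hns.append hns')]
    refine ⟨⟨ws.length, by simp⟩, (ws.map ⇑W).prod, ?_⟩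
    rw [List.map_append, List.prod_append, List.map_map]
    congr 2
    exact List.map_congr_left fun v _ => map_orth σ v
  refine (exists_mat_iff (a * (σ * a * σ⁻¹)) fun x => ?_).2 hk
  have hinv : (σ⁻¹ : ↥(orth W)) = σ := inv_eq_of_mul_eq_one_right (Subtype.ext (LinearEquiv.ext fun y => by
    funext s; cases s <;> rfl))
  rw [hinv]
  show a.1 (σ.1 (a.1 (σ.1 x))) = _
  rw [ha, hσ, ha, hσ, Matrix.fromBlocks_mulVec]
  funext s
  cases s <;> simp [gL, iso_apply]

end Cfsg.Agent.S2628
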