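import Cfsg.Statements.S2629
import Cfsg.Agent.Lib.OmegaStd

set_option autoImplicit false
open Cfsg

namespace Cfsg.Agent.S2629

open Cfsg.Agent.OrthUnitaryQuad Cfsg.Agent.OrthUnitaryRefl Cfsg.Agent.OrthUnitaryPrelude Cfsg.Agent.OmegaClasses Cfsg.Agent.OmegaStd

/-- For the hyperbolic form Σ x_i y_i on F^(2m) over a finite field of odd order (m ≥ 1), an isometry g preserves the class of the maximal totally singular subspace U₀ = {y = 0} (that is, m − dim(U₀ ∩ gU₀) is even) if and only if det g = 1: the stabiliser of each of the two classes of maximal totally singular subspaces is SO. -/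
theorem result {F : Type*} [Field F] [Fintype F] (h2 : (2 : F) ≠ 0) {m : ℕ} (hm : 1 ≤ m) (g : ↥(Cfsg.isometryGroup F (Cfsg.quadFormPlus m F))) : Even (m - Module.finrank F ↥(LinearMap.ker (LinearMap.funLeft F F (Sum.inr : Fin m → Fin m ⊕ Fin m)) ⊓ (LinearMap.ker (LinearMap.funLeft F F (Sum.inr : Fin m → Fin m ⊕ Fin m))).map (Matrix.mulVecLin ((g : Matrix.GeneralLinearGroup (Fin m ⊕ Fin m) F) : Matrix (Fin m ⊕ Fin m) (Fin m ⊕ Fin m) F)))) ↔ ((g : Matrix.GeneralLinearGroup (Fin m ⊕ Fin m) F) : Matrix (Fin m ⊕ Fin m) (Fin m ⊕ Fin m) F).det = 1 := by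
  classical
  revert g
  rw [← QuadClassify.qPlus_coe]
  intro g
  have hnd := nondeg_plus (F := F) (m := m)
  have hU := lagr_plus (F := F) (m := m)
  set U := LinearMap.ker (LinearMap.funLeft F F (Sum.inr : Fin m → Fin m ⊕ Fin m)) with hUdef
  have hUdim : Module.finrank F U = m := by
    have := hU.2; rw [finrank_plus] at this; omega
  have hexc : Fintype.card F ≠ 2 ∨ Module.finrank F (Fin m ⊕ Fin m → F) ≠ 4 := Or.inl fun hc => h2 (by
      have := FiniteField.cast_card_eq_zero F
      rw [hc] at this; exact_mod_cast this)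
  obtain ⟨vs, hns, hk⟩ := exists_rprod (reflGroup_top hnd hexc) (iso _ g)
  have hpar := parity_rprod hnd hU hU hns
  rw [← hk, ← map_mulVecLin, inf_idem, hUdim] at hpar
  have hle : Module.finrank F ↥(U ⊓ U.map (Matrix.mulVecLin (mat g))) ≤ m :=
    (Submodule.finrank_mono inf_le_left).trans hUdim.le
  have hiff : Even (m - Module.finrank F ↥(U ⊓ U.map (Matrix.mulVecLin (mat g)))) ↔ Even vs.length := by
    rw [Nat.even_iff] at hpar
    rw [Nat.even_iff, Nat.even_iff]
    omega
  rw [hiff]
  rw [det_mat g, hk, detHom_rprod hns]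
  rcases Nat.even_or_odd vs.length with he | ho
  · simp [he, he.neg_one_pow]
  · have hne : (-1 : F) ≠ 1 := fun hh => h2 (by linear_combination -hh)
    simp [ho.neg_one_pow, hne, Nat.not_even_iff_odd.2 ho]

end Cfsg.Agent.S2629
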