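import Cfsg.Statements.S2630
import Cfsg.Agent.Lib.OmegaStd

set_option autoImplicit false
open Cfsg

namespace Cfsg.Agent.S2630

open Cfsg.Agent.OrthUnitaryQuad Cfsg.Agent.OrthUnitaryRefl Cfsg.Agent.OrthUnitaryPrelude Cfsg.Agent.OmegaClasses Cfsg.Agent.OmegaStd

/-- For the hyperbolic form Σ x_i y_i on F^(2m) over a finite field of characteristic two (m ≥ 1, excluding m = 2 over the field of two elements), an isometry g preserves the class of the maximal totally singular subspace U₀ = {y = 0} (m − dim(U₀ ∩ gU₀) even) if and only if g lies in Ω (the commutator subgroup of the orthogonal group): the stabiliser of each class is Ω. -/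
theorem result {F : Type*} [Field F] [Fintype F] [CharP F 2] {m : ℕ} (hm : 1 ≤ m) (h : Fintype.card F ≠ 2 ∨ m ≠ 2) (g : ↥(Cfsg.isometryGroup F (Cfsg.quadFormPlus m F))) : Even (m - Module.finrank F ↥(LinearMap.ker (LinearMap.funLeft F F (Sum.inr : Fin m → Fin m ⊕ Fin m)) ⊓ (LinearMap.ker (LinearMap.funLeft F F (Sum.inr : Fin m → Fin m ⊕ Fin m))).map (Matrix.mulVecLin ((g : Matrix.GeneralLinearGroup (Fin m ⊕ Fin m) F) : Matrix (Fin m ⊕ Fin m) (Fin m ⊕ Fin m) F)))) ↔ g ∈ Cfsg.Omega F (Cfsg.quadFormPlus m F) := by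
  classical
  revert g
  rw [← QuadClassify.qPlus_coe]
  intro g
  have hnd := nondeg_plus (F := F) (m := m)
  have hU := lagr_plus (F := F) (m := m)
  set U := LinearMap.ker (LinearMap.funLeft F F (Sum.inr : Fin m → Fin m ⊕ Fin m)) with hUdef
  have hUdim : Module.finrank F U = m := by
    have := hU.2; rw [finrank_plus] at this; omega
  have hexc : Fintype.card F ≠ 2 ∨ Module.finrank F (Fin m ⊕ Fin m → F) ≠ 4 := exc_plus h
  obtain ⟨vs, hns, hk⟩ := exists_rprod (reflGroup_top hnd hexc) (iso _ g)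
  have hpar := parity_rprod hnd hU hU hns
  rw [← hk, ← map_mulVecLin, inf_idem, hUdim] at hpar
  have hle : Module.finrank F ↥(U ⊓ U.map (Matrix.mulVecLin (mat g))) ≤ m :=
    (Submodule.finrank_mono inf_le_left).trans hUdim.le
  have hiff : Even (m - Module.finrank F ↥(U ⊓ U.map (Matrix.mulVecLin (mat g)))) ↔ Even vs.length := by
    rw [Nat.even_iff] at hpar
    rw [Nat.even_iff, Nat.even_iff]
    omega
  rw [hiff]
  rw [mem_Omega_iff, hk, rprod_mem_iff hnd hexc hns]
  exact ⟨fun he => ⟨he, QuadClassify.isSquare_of_two_eq_zero CharTwo.two_eq_zero _⟩, And.left⟩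

end Cfsg.Agent.S2630
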