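import Cfsg.Statements.S2631
import Cfsg.Agent.Lib.OmegaStd
import Cfsg.Agent.Lib.Witt

set_option autoImplicit false
open Cfsg

namespace Cfsg.Agent.S2631

open Cfsg.Agent.OrthUnitaryQuad Cfsg.Agent.OrthUnitaryRefl Cfsg.Agent.OrthUnitaryPrelude Cfsg.Agent.OmegaClasses Cfsg.Agent.OmegaStd

/-- For the hyperbolic form Σ x_i y_i on F^(2m) over a finite field (m ≥ 1, excluding m = 2 over the field of two elements), Ω (the commutator subgroup of the orthogonal group) acts transitively on each of the two classes of maximal totally singular subspaces: if U and W are m-dimensional totally singular subspaces with m − dim(U ∩ W) even, some element of Ω carries U to W. -/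
theorem result {F : Type*} [Field F] [Fintype F] {m : ℕ} (hm : 1 ≤ m) (h : Fintype.card F ≠ 2 ∨ m ≠ 2) (U W : Submodule F (Fin m ⊕ Fin m → F)) (hU : Module.finrank F U = m) (hW : Module.finrank F W = m) (hU0 : ∀ u ∈ U, Cfsg.quadFormPlus m F u = 0) (hW0 : ∀ w ∈ W, Cfsg.quadFormPlus m F w = 0) (he : Even (m - Module.finrank F ↥(U ⊓ W))) : ∃ g : ↥(Cfsg.isometryGroup F (Cfsg.quadFormPlus m F)), g ∈ Cfsg.Omega F (Cfsg.quadFormPlus m F) ∧ U.map (Matrix.mulVecLin ((g : Matrix.GeneralLinearGroup (Fin m ⊕ Fin m) F) : Matrix (Fin m ⊕ Fin m) (Fin m ⊕ Fin m) F)) = W := by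
  classical
  rw [← QuadClassify.qPlus_coe] at *
  have hnd := nondeg_plus (F := F) (m := m)
  have hexc := exc_plus (F := F) h
  have hLU : Lagr (QuadClassify.qPlus m F) U := ⟨hU0, by rw [finrank_plus, hU]⟩
  have hLW : Lagr (QuadClassify.qPlus m F) W := ⟨hW0, by rw [finrank_plus, hW]⟩
  let e : U ≃ₗ[F] W := LinearEquiv.ofFinrankEq _ _ (hU.trans hW.symm)
  obtain ⟨g, hg, hgU⟩ := Witt.quad_extend (QuadClassify.qPlus m F) hnd U (W.subtype ∘ₗ e.toLinearMap)
    (W.injective_subtype.comp e.injective) (fun a => (hW0 _ (e a).2).trans (hU0 _ a.2).symm)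
  obtain ⟨vs, hns, hk⟩ := exists_rprod (reflGroup_top hnd hexc) ⟨g, hg⟩
  have hgW : ∀ u ∈ U, g u ∈ W := fun u hu => by rw [hgU ⟨u, hu⟩]; exact (e _).2
  have hev : Even vs.length := by
    have hpar := parity_rprod hnd hLU hLU hns
    have hmap : U.map ((rprod (QuadClassify.qPlus m F) vs).1 : (Fin m ⊕ Fin m → F) →ₗ[F] _) = W := by
      rw [← hk]
      refine Submodule.eq_of_le_of_finrank_eq ?_ (by rw [LinearEquiv.finrank_map_eq, hU, hW])
      rintro _ ⟨u, hu, rfl⟩
      exact hgW u hu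
    rw [hmap, inf_idem, hU] at hpar
    have hle : Module.finrank F ↥(U ⊓ W) ≤ m := (Submodule.finrank_mono inf_le_left).trans hU.le
    rw [Nat.even_iff] at he hpar ⊢
    omega
  obtain ⟨u₀, hu₀, hu₀0⟩ := Submodule.exists_mem_ne_zero_of_ne_bot (p := U)
    (fun hb => by rw [hb, finrank_bot] at hU; omega)
  obtain ⟨f, -, hf, huf⟩ := QuadClassify.exists_partner _ (QuadClassify.nondeg_top hnd)
    (Submodule.mem_top (x := u₀)) hu₀0 (hU0 _ hu₀)
  obtain ⟨k, hkP, hkc⟩ := exists_adjust hnd hexc (fun k => ∀ u ∈ U, k.1 u ∈ U) (fun u hu => hu)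
    (fun a b ha hb u hu => ha _ (hb u hu)) hns
    (fun ho => absurd hev (Nat.not_even_iff_odd.2 ho))
    (fun c hc => by
      obtain ⟨hns', hprod, hact⟩ := scale_apply (hU0 _ hu₀) hf huf hc
      refine Or.inr ⟨_, hns', by simp, hprod, fun u hu => ?_⟩
      rw [hact, polar_of_sing hU0 hu₀ hu, mul_zero, zero_smul, add_zero]
      exact U.add_mem hu (U.smul_mem _ hu₀))
  exact exists_Omega_map U W (hU.trans hW.symm) _ hkc (fun u hu => by
    rw [← hk]; exact hgW _ (hkP u hu))

end Cfsg.Agent.S2631
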