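import Cfsg.Statements.S2632
import Cfsg.Agent.Lib.OmegaStd
import Cfsg.Agent.Lib.Witt
import Cfsg.Agent.Lib.OrthUnitaryRefl

set_option autoImplicit false
open Cfsg

namespace Cfsg.Agent.S2632

open Cfsg.Agent.OrthUnitaryQuad Cfsg.Agent.OrthUnitaryRefl Cfsg.Agent.OrthUnitaryPrelude Cfsg.Agent.OmegaClasses Cfsg.Agent.OmegaStd

/-- Ω is transitive on non-degenerate subspaces of each isometry type: for a quadratic form Q on F^n, n ≥ 3, with non-degenerate polar form (F finite; excluding dimension 4 over the field of two elements), if U and W are subspaces on which the polar form is non-degenerate and there is a Q-preserving linear isomorphism U → W, then some element of Ω (the commutator subgroup of the orthogonal group) carries U to W. (In dimension 2 this fails: Ω can be {±1}, which fixes every line.) -/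
theorem result {F : Type*} [Field F] [Fintype F] {n : ℕ} (hn : 3 ≤ n) (h : Fintype.card F ≠ 2 ∨ n ≠ 4) (Q : QuadraticForm F (Fin n → F)) (hQ : (QuadraticMap.polarBilin Q).Nondegenerate) (U W : Submodule F (Fin n → F)) (hU : U ⊓ LinearMap.BilinForm.orthogonal (QuadraticMap.polarBilin Q) U = ⊥) (hW : W ⊓ LinearMap.BilinForm.orthogonal (QuadraticMap.polarBilin Q) W = ⊥) (e : U ≃ₗ[F] W) (he : ∀ u : U, Q (e u : Fin n → F) = Q (u : Fin n → F)) : ∃ g : ↥(Cfsg.isometryGroup F ⇑Q), g ∈ Cfsg.Omega F ⇑Q ∧ U.map (Matrix.mulVecLin ((g : Matrix.GeneralLinearGroup (Fin n) F) : Matrix (Fin n) (Fin n) F)) = W := by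
  classical
  have hexc : Fintype.card F ≠ 2 ∨ Module.finrank F (Fin n → F) ≠ 4 :=
    h.imp_right fun hn4 => by rw [Module.finrank_fintype_fun_eq_card, Fintype.card_fin]; exact hn4
  set B := QuadraticMap.polarBilin Q with hB
  set U' := LinearMap.BilinForm.orthogonal B U with hU'
  have hdU' : Module.finrank F U' = n - Module.finrank F U := by
    rw [hU', LinearMap.BilinForm.finrank_orthogonal hQ U, Module.finrank_fintype_fun_eq_card, Fintype.card_fin]
  have hsup : U ⊔ U' = ⊤ := by
    refine Submodule.eq_top_of_finrank_eq ?_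
    have h1 := Submodule.finrank_sup_add_finrank_inf_eq U U'
    rw [hU, finrank_bot, hdU'] at h1
    have h2 := Submodule.finrank_le U
    rw [Module.finrank_fintype_fun_eq_card, Fintype.card_fin] at h2 ⊢
    omega
  have hndU : QuadClassify.Nondeg Q U := by
    intro u hu hu'
    have : u ∈ U ⊓ U' := ⟨hu, fun w hw => (QuadraticMap.polar_comm (⇑Q) w u).trans (hu' w hw)⟩
    rw [hU] at this
    exact this
  have hndU' : QuadClassify.Nondeg Q U' := by
    intro u hu hu'
    refine hQ.1 u fun y => ?_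
    obtain ⟨a, ha, b, hb, rfl⟩ := Submodule.mem_sup.1 (show y ∈ U ⊔ U' by rw [hsup]; trivial)
    show QuadraticMap.polar (⇑Q) u (a + b) = 0
    rw [QuadraticMap.polar_add_right, hu' b hb, add_zero, QuadraticMap.polar_comm]
    exact hu a ha
  obtain ⟨g, hg, hgU⟩ := Witt.quad_extend Q hQ U (W.subtype ∘ₗ e.toLinearMap)
    (W.injective_subtype.comp e.injective) he
  obtain ⟨vs, hns, hk⟩ := exists_rprod (reflGroup_top hQ hexc) ⟨g, hg⟩
  -- reflections in vectors of either summand stabilise U
  obtain ⟨X, hX, hXd, hXstab⟩ : ∃ X : Submodule F (Fin n → F), QuadClassify.Nondeg Q X ∧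
      2 ≤ Module.finrank F X ∧ ∀ z (hz : Q z ≠ 0), z ∈ X → ∀ u ∈ U, (refl Q z hz).1 u ∈ U := by
    by_cases h2U : 2 ≤ Module.finrank F U
    · exact ⟨U, hndU, h2U, fun z hz hzX u hu => by
        rw [refl_apply]; exact U.sub_mem hu (U.smul_mem _ hzX)⟩
    · refine ⟨U', hndU', by omega, fun z hz hzX u hu => ?_⟩
      rw [refl_apply, QuadraticMap.polar_comm (⇑Q) z u, show QuadraticMap.polar (⇑Q) u z = 0 from hzX u hu]
      simpa using hu
  obtain ⟨k, hkP, hkc⟩ := exists_adjust hQ hexc (fun k => ∀ u ∈ U, k.1 u ∈ U) (fun u hu => hu)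
    (fun a b ha hb u hu => ha _ (hb u hu)) hns
    (fun _ => by
      obtain ⟨z, hz, hz1⟩ := nondeg_represents hX hXd 1
      have hz0 : Q z ≠ 0 := by rw [hz1]; exact one_ne_zero
      exact ⟨[z], fun w hw => by rw [List.mem_singleton.1 hw]; exact hz0, by simp,
        by rw [rprod_singleton hz0]; exact hXstab z hz0 hz⟩)
    (fun c hc => by
      obtain ⟨z, hz, hz1⟩ := nondeg_represents hX hXd 1
      obtain ⟨z', hz', hz1'⟩ := nondeg_represents hX hXd c
      have hz0 : Q z ≠ 0 := by rw [hz1]; exact one_ne_zero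
      have hz0' : Q z' ≠ 0 := by rw [hz1']; exact hc
      have hns' : NS Q [z, z'] := by simp [NS, hz0, hz0']
      refine Or.inr ⟨_, hns', by simp, by simp [hz1, hz1'], fun u hu => ?_⟩
      rw [rprod_cons hz0, rprod_singleton hz0']
      exact hXstab z hz0 hz _ (hXstab z' hz0' hz' u hu))
  exact exists_Omega_map U W e.finrank_eq _ hkc (fun u hu => by
    rw [← hk]
    show g (k.1 u) ∈ W
    rw [hgU ⟨_, hkP u hu⟩]
    exact (e _).2)

end Cfsg.Agent.S2632
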