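import Cfsg.Statements.S2633
import Cfsg.Agent.Lib.OmegaStd
import Cfsg.Agent.Lib.Witt
import Cfsg.Agent.Lib.OrthUnitaryRefl

set_option autoImplicit false
open Cfsg

namespace Cfsg.Agent.S2633

open Cfsg.Agent.OrthUnitaryQuad Cfsg.Agent.OrthUnitaryRefl Cfsg.Agent.OrthUnitaryPrelude Cfsg.Agent.OmegaClasses Cfsg.Agent.OmegaStd

/-- Ω is transitive on totally singular subspaces of each dimension less than half the dimension: for a quadratic form Q on F^n with non-degenerate polar form (F finite; excluding dimension 4 over the field of two elements), if U and W are subspaces of the same dimension k with 2k < n on which Q vanishes, then some element of Ω (the commutator subgroup of the orthogonal group) carries U to W. -/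
theorem result {F : Type*} [Field F] [Fintype F] {n : ℕ} (h : Fintype.card F ≠ 2 ∨ n ≠ 4) (Q : QuadraticForm F (Fin n → F)) (hQ : (QuadraticMap.polarBilin Q).Nondegenerate) (U W : Submodule F (Fin n → F)) {k : ℕ} (hk : 2 * k < n) (hU : Module.finrank F U = k) (hW : Module.finrank F W = k) (hU0 : ∀ u ∈ U, Q u = 0) (hW0 : ∀ w ∈ W, Q w = 0) : ∃ g : ↥(Cfsg.isometryGroup F ⇑Q), g ∈ Cfsg.Omega F ⇑Q ∧ U.map (Matrix.mulVecLin ((g : Matrix.GeneralLinearGroup (Fin n) F) : Matrix (Fin n) (Fin n) F)) = W := by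
  classical
  have hexc : Fintype.card F ≠ 2 ∨ Module.finrank F (Fin n → F) ≠ 4 :=
    h.imp_right fun hn4 => by rw [Module.finrank_fintype_fun_eq_card, Fintype.card_fin]; exact hn4
  let e : U ≃ₗ[F] W := LinearEquiv.ofFinrankEq _ _ (hU.trans hW.symm)
  obtain ⟨g, hg, hgU⟩ := Witt.quad_extend Q hQ U (W.subtype ∘ₗ e.toLinearMap)
    (W.injective_subtype.comp e.injective) (fun a => (hW0 _ (e a).2).trans (hU0 _ a.2).symm)
  obtain ⟨vs, hns, hk'⟩ := exists_rprod (reflGroup_top hQ hexc) ⟨g, hg⟩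
  obtain ⟨z, hz, hz0⟩ : ∃ z ∈ LinearMap.BilinForm.orthogonal (QuadraticMap.polarBilin Q) U, Q z ≠ 0 := by
    by_contra hc
    push Not at hc
    have h1 := two_finrank_le hQ hc
    rw [LinearMap.BilinForm.finrank_orthogonal hQ U, Module.finrank_fintype_fun_eq_card,
      Fintype.card_fin, hU] at h1
    omega
  rcases Nat.eq_zero_or_pos k with rfl | hk0
  · refine exists_Omega_map U W (hU.trans hW.symm) 1 (Subgroup.one_mem _) fun u hu => ?_
    rw [Submodule.finrank_eq_zero.1 hU, Submodule.mem_bot] at hu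
    rw [hu]; exact W.zero_mem
  obtain ⟨u₀, hu₀, hu₀0⟩ := Submodule.exists_mem_ne_zero_of_ne_bot (p := U)
    (fun hb => by rw [hb, finrank_bot] at hU; omega)
  obtain ⟨f, -, hf, huf⟩ := QuadClassify.exists_partner Q (QuadClassify.nondeg_top hQ)
    (Submodule.mem_top (x := u₀)) hu₀0 (hU0 _ hu₀)
  obtain ⟨a, haP, hac⟩ := exists_adjust hQ hexc (fun a => ∀ u ∈ U, a.1 u ∈ U) (fun u hu => hu)
    (fun a b ha hb u hu => ha _ (hb u hu)) hns
    (fun _ => ⟨[z], fun w hw => by rw [List.mem_singleton.1 hw]; exact hz0, by simp, fun u hu => by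
      rw [rprod_singleton hz0, refl_apply, QuadraticMap.polar_comm (⇑Q) z u,
        show QuadraticMap.polar (⇑Q) u z = 0 from hz u hu]
      simpa using hu⟩)
    (fun c hc => by
      obtain ⟨hns', hprod, hact⟩ := scale_apply (hU0 _ hu₀) hf huf hc
      refine Or.inr ⟨_, hns', by simp, hprod, fun u hu => ?_⟩
      rw [hact, polar_of_sing hU0 hu₀ hu, mul_zero, zero_smul, add_zero]
      exact U.add_mem hu (U.smul_mem _ hu₀))
  exact exists_Omega_map U W (hU.trans hW.symm) _ hac (fun u hu => by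
    rw [← hk']
    show g (a.1 u) ∈ W
    rw [hgU ⟨_, haP u hu⟩]
    exact (e _).2)

end Cfsg.Agent.S2633
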