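import Cfsg.Statements.S2634
import Cfsg.Agent.Lib.OmegaStd
import Cfsg.Agent.Lib.OrthUnitaryRefl

set_option autoImplicit false
open Cfsg

namespace Cfsg.Agent.S2634

open Cfsg.Agent.OrthUnitaryQuad Cfsg.Agent.OrthUnitaryRefl Cfsg.Agent.OrthUnitaryPrelude Cfsg.Agent.OmegaClasses Cfsg.Agent.OmegaStd

/-- Over a finite field of characteristic two, Ω (the commutator subgroup of the orthogonal group of a quadratic form Q on F^n with non-degenerate polar form; excluding dimension 4 over the field of two elements) acts transitively on the non-singular 1-spaces: for u, v with Q(u) ≠ 0 and Q(v) ≠ 0 some element of Ω carries the line through u to the line through v. -/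
theorem result {F : Type*} [Field F] [Fintype F] [CharP F 2] {n : ℕ} (h : Fintype.card F ≠ 2 ∨ n ≠ 4) (Q : QuadraticForm F (Fin n → F)) (hQ : (QuadraticMap.polarBilin Q).Nondegenerate) (u v : Fin n → F) (hu : Q u ≠ 0) (hv : Q v ≠ 0) : ∃ g : ↥(Cfsg.isometryGroup F ⇑Q), g ∈ Cfsg.Omega F ⇑Q ∧ (F ∙ ((g : Matrix.GeneralLinearGroup (Fin n) F) : Matrix (Fin n) (Fin n) F).mulVec u) = F ∙ v := by
  classical
  have h2 : (2 : F) = 0 := CharTwo.two_eq_zero
  have hexc : Fintype.card F ≠ 2 ∨ Module.finrank F (Fin n → F) ≠ 4 :=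
    h.imp_right fun hn4 => by rw [Module.finrank_fintype_fun_eq_card, Fintype.card_fin]; exact hn4
  obtain ⟨s, hs⟩ := QuadClassify.isSquare_of_two_eq_zero h2 (Q v / Q u)
  have hs0 : s ≠ 0 := fun h0 => div_ne_zero hv hu (by rw [hs, h0, mul_zero])
  have hQs : Q (s • u) = Q v := by
    rw [QuadraticMap.map_smul, smul_eq_mul, ← hs, div_mul_cancel₀ _ hu]
  obtain ⟨g, hg⟩ := OrthUnitaryOmega.exists_orth_map hQ (by rw [hQs]; exact hv) hQs
  obtain ⟨vs, hns, hk⟩ := exists_rprod (reflGroup_top hQ hexc) g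
  obtain ⟨a, haP, hac⟩ := exists_adjust hQ hexc (fun a => ∃ c : F, c ≠ 0 ∧ a.1 u = c • u)
    ⟨1, one_ne_zero, (one_smul F u).symm⟩
    (fun a b ⟨c, hc, ha⟩ ⟨d, hd, hb⟩ => ⟨d * c, mul_ne_zero hd hc, by
      show a.1 (b.1 u) = _
      rw [hb, map_smul, ha, smul_smul]⟩) hns
    (fun _ => ⟨[u], fun w hw => by rw [List.mem_singleton.1 hw]; exact hu, by simp, -1,
      neg_ne_zero.2 one_ne_zero, by
        rw [rprod_singleton hu, refl_apply, polar_self_mul, h2]
        simp [CharTwo.neg_eq]⟩)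
    (fun c _ => Or.inl (QuadClassify.isSquare_of_two_eq_zero h2 c))
  obtain ⟨c, hc, hcu⟩ := haP
  refine ⟨(iso Q).symm (rprod Q vs * a), by rw [mem_Omega_iff, MulEquiv.apply_symm_apply]; exact hac, ?_⟩
  rw [← iso_apply, MulEquiv.apply_symm_apply]
  show (F ∙ (rprod Q vs).1 (a.1 u)) = F ∙ v
  rw [hcu, ← hk, map_smul]
  have hgu : g.1 u = s⁻¹ • v := by
    rw [← hg, map_smul, smul_smul, inv_mul_cancel₀ hs0, one_smul]
  rw [hgu, smul_smul, Submodule.span_singleton_smul_eq (IsUnit.mk0 _ (mul_ne_zero hc (inv_ne_zero hs0)))]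

end Cfsg.Agent.S2634
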