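import Cfsg.Statements.S2635
import Cfsg.Agent.Lib.OrthUnitaryPrelude
-- import your own Cfsg.Agent.* helpers here

set_option autoImplicit false
open Cfsg
open Cfsg.Agent.OrthUnitaryQuad Cfsg.Agent.OrthUnitaryRefl Cfsg.Agent.OrthUnitaryOmega Cfsg.Agent.OrthUnitaryPrelude

namespace Cfsg.Agent.S2635

/-- Over a finite field of characteristic two, for a quadratic form Q on F^n with non-degenerate polar form, n ≥ 2, other than dimension 4 over the field of two elements, Ω (the commutator subgroup of the orthogonal group) is exactly the subgroup generated by the products of two reflections (orthogonal transvections) x ↦ x − Q(v)⁻¹ f(x, v) v, Q(v) ≠ 0: the products of an even number of reflections. -/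
theorem result {F : Type*} [Field F] [Fintype F] [CharP F 2] {n : ℕ} (hn : 2 ≤ n) (h : Fintype.card F ≠ 2 ∨ n ≠ 4) (Q : QuadraticForm F (Fin n → F)) (hQ : (QuadraticMap.polarBilin Q).Nondegenerate) : Cfsg.Omega F ⇑Q = Subgroup.closure {g : ↥(Cfsg.isometryGroup F ⇑Q) | ∃ u v : Fin n → F, Q u ≠ 0 ∧ Q v ≠ 0 ∧ ((g : Matrix.GeneralLinearGroup (Fin n) F) : Matrix (Fin n) (Fin n) F) = Cfsg.reflectionMatrix ⇑Q u * Cfsg.reflectionMatrix ⇑Q v} := by
  have h2 : (2 : F) = 0 := CharTwo.two_eq_zero
  obtain ⟨D, hD⟩ := exists_dickson h2 hQ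
  have hexc : Fintype.card F ≠ 2 ∨ Module.finrank F (Fin n → F) ≠ 4 :=
    h.imp id (fun hn => by rwa [finrank_pi, Fintype.card_fin])
  have hgen := reflGroup_eq_top (isReg_of_nondegenerate hQ) (hexc.imp_left exists_ne_zero_one)
  have hne : Multiplicative.ofAdd (1 : F) ≠ 1 := by simp
  apply le_antisymm
  · intro g hg
    rw [mem_Omega_iff, (even_main h2 hQ hexc D hD).1, ← mem_pairGroup_iff hgen D hne hD] at hg
    suffices H : ∀ k, k ∈ pairGroup Q → (iso Q).symm k ∈ Subgroup.closure {g : ↥(Cfsg.isometryGroup F ⇑Q) | ∃ u v : Fin n → F, Q u ≠ 0 ∧ Q v ≠ 0 ∧ ((g : Matrix.GeneralLinearGroup (Fin n) F) : Matrix (Fin n) (Fin n) F) = Cfsg.reflectionMatrix ⇑Q u * Cfsg.reflectionMatrix ⇑Q v} by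
      simpa using H _ hg
    intro k hk
    induction hk using Subgroup.closure_induction with
    | mem k hk =>
      obtain ⟨u, v, hu, hv, rfl⟩ := hk
      refine Subgroup.subset_closure ⟨u, v, hu, hv, ?_⟩
      exact (mat_eq_reflectionMatrix_mul_iff _ hu hv).2 (MulEquiv.apply_symm_apply _ _)
    | one => rw [map_one]; exact Subgroup.one_mem _
    | mul a b _ _ ha hb => rw [map_mul]; exact Subgroup.mul_mem _ ha hb
    | inv a _ ha => rw [map_inv]; exact Subgroup.inv_mem _ ha
  · rw [Subgroup.closure_le]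
    rintro g ⟨u, v, hu, hv, hg⟩
    rw [SetLike.mem_coe, mem_Omega_iff, (even_main h2 hQ hexc D hD).1,
      (mat_eq_reflectionMatrix_mul_iff g hu hv).1 hg, map_mul, hD, hD, ← ofAdd_add]
    rw [show (1 : F) + 1 = 0 by linear_combination h2]
    rfl

end Cfsg.Agent.S2635
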