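import Cfsg.Statements.S2636
-- import your own Cfsg.Agent.* helpers here

set_option autoImplicit false
open Cfsg

namespace Cfsg.Agent.S2636

/-- Centraliser of a field automorphism in PGL_n: let F be the field with q = q₀^r elements, σ a field automorphism of F of prime order r (so its fixed field has q₀ elements) and n ≥ 1. The invertible matrices g whose entrywise image under σ is a scalar multiple of g — those whose coset modulo scalars is fixed by σ — number (q − 1)/(q₀ − 1) · |GL_n(q₀)|; equivalently the centraliser in PGL_n(q) of the induced automorphism has the order of PGL_n(q₀). -/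
theorem result {F : Type*} [Field F] [Fintype F] {q₀ r n : ℕ} (hr : r.Prime) (hn : 1 ≤ n) (hF : Fintype.card F = q₀ ^ r) (σ : F ≃+* F) (hσ : orderOf σ = r) : Nat.card {g : GL (Fin n) F // ∃ c : F, c ≠ 0 ∧ (g : Matrix (Fin n) (Fin n) F).map σ = c • (g : Matrix (Fin n) (Fin n) F)} = (q₀ ^ r - 1) / (q₀ - 1) * ∏ i : Fin n, (q₀ ^ n - q₀ ^ (i : ℕ)) := by
  classical
  haveI : Nonempty (Fin n) := ⟨⟨0, hn⟩⟩
  set H : Subgroup (F ≃+* F) := Subgroup.zpowers σ
  haveI : FaithfulSMul ↥H F :=
    ⟨fun {a b} h => Subtype.ext (RingEquiv.ext fun x => h x)⟩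
  haveI : Finite (F ≃+* F) := Finite.of_injective (fun e : F ≃+* F => (e : F → F)) DFunLike.coe_injective
  set K := FixedPoints.subfield ↥H F with hK
  have memK : ∀ x : F, x ∈ K ↔ σ x = x := by
    intro x
    constructor
    · intro h
      exact h ⟨σ, Subgroup.mem_zpowers σ⟩
    · intro h a
      exact (Subgroup.zpowers_le (H := MulAction.stabilizer (F ≃+* F) x)).mpr h a.2
  haveI := Fintype.ofFinite ↥H
  have hdeg : Module.finrank ↥K F = r := by
    rw [FixedPoints.finrank_eq_card ↥H F, Fintype.card_eq_nat_card, Nat.card_zpowers, hσ]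
  have hcardK : Nat.card ↥K = q₀ := by
    have h := Module.natCard_eq_pow_finrank (K := ↥K) (V := F)
    rw [hdeg, Nat.card_eq_fintype_card, hF] at h
    exact (Nat.pow_left_injective hr.ne_zero h).symm
  have hq2 : 2 ≤ q₀ := hcardK ▸ Finite.one_lt_card
  let ι : GL (Fin n) ↥K →* GL (Fin n) F := Matrix.GeneralLinearGroup.map K.subtype
  let sc : Fˣ →* GL (Fin n) F := Units.map (Matrix.scalar (Fin n)).toMonoidHom
  let φ : Fˣ × GL (Fin n) ↥K →* GL (Fin n) F :=
    sc.noncommCoprod ι (fun a g => Units.ext (Matrix.scalar_commute _ (fun _ => Commute.all _ _) _))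
  have φval : ∀ a g, ((φ (a, g) : GL (Fin n) F) : Matrix (Fin n) (Fin n) F)
      = (a : F) • ((g : Matrix (Fin n) (Fin n) ↥K)).map K.subtype := by
    intro a g
    simp [φ, sc, ι, MonoidHom.noncommCoprod, Matrix.smul_eq_diagonal_mul]
  have hrange : ∀ g : GL (Fin n) F, g ∈ φ.range ↔ ∃ c : F, c ≠ 0 ∧
      (g : Matrix (Fin n) (Fin n) F).map σ = c • (g : Matrix (Fin n) (Fin n) F) := by
    intro g
    constructor
    · rintro ⟨⟨a, g0⟩, rfl⟩
      refine ⟨σ a / a, div_ne_zero ?_ a.ne_zero, ?_⟩
      · exact (map_ne_zero σ).mpr a.ne_zero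
      · rw [φval]
        ext i j
        simp [(memK _).mp (((g0 : Matrix (Fin n) (Fin n) ↥K) i j)).2]
        field_simp
    · rintro ⟨c, hc, hg⟩
      have hgne : (g : Matrix (Fin n) (Fin n) F) ≠ 0 := g.ne_zero
      obtain ⟨i, j, hij⟩ : ∃ i j, (g : Matrix (Fin n) (Fin n) F) i j ≠ 0 := by
        by_contra h
        push Not at h
        exact hgne (Matrix.ext h)
      set a := (g : Matrix (Fin n) (Fin n) F) i j with ha
      have hent : ∀ k l, σ ((g : Matrix (Fin n) (Fin n) F) k l) = c * (g : Matrix (Fin n) (Fin n) F) k l := by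
        intro k l
        simpa using congrFun (congrFun hg k) l
      have hmem : ∀ k l, (g : Matrix (Fin n) (Fin n) F) k l / a ∈ K := by
        intro k l
        rw [memK, map_div₀, hent, ha, hent, mul_div_mul_left _ _ hc]
      let M : Matrix (Fin n) (Fin n) ↥K :=
        Matrix.of fun k l => ⟨(g : Matrix (Fin n) (Fin n) F) k l / a, hmem k l⟩
      have hM : M.map K.subtype = a⁻¹ • (g : Matrix (Fin n) (Fin n) F) := by
        ext k l
        simp [M, div_eq_inv_mul]
      have hdet : M.det ≠ 0 := by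
        intro h
        have h' := congrArg K.subtype h
        rw [RingHom.map_det, RingHom.mapMatrix_apply, hM, map_zero, Matrix.det_smul] at h'
        rcases mul_eq_zero.mp h' with h'' | h''
        · exact inv_ne_zero hij (pow_eq_zero_iff'.mp h'').1
        · exact Matrix.GeneralLinearGroup.det_ne_zero g h''
      refine ⟨(Units.mk0 a hij, Matrix.GeneralLinearGroup.mkOfDetNeZero M hdet), Units.ext ?_⟩
      rw [φval]
      change a • M.map K.subtype = _
      rw [hM, smul_smul, mul_inv_cancel₀ hij, one_smul]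
  -- the kernel consists of the scalars of the fixed field
  have hker : Nat.card ↥φ.ker = q₀ - 1 := by
    rw [← hcardK, ← Nat.card_units]
    let scK : (↥K)ˣ →* GL (Fin n) ↥K := Units.map (Matrix.scalar (Fin n)).toMonoidHom
    let f : (↥K)ˣ → ↥φ.ker := fun c => ⟨((Units.map K.subtype.toMonoidHom c)⁻¹, scK c), by
      refine MonoidHom.mem_ker.mpr (Units.ext ?_)
      rw [φval]
      ext k l
      by_cases hkl : k = l <;> simp [scK, hkl]⟩
    refine (Nat.card_eq_of_bijective f ⟨fun c d h => ?_, fun x => ?_⟩).symm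
    · refine Units.ext (Subtype.ext ?_)
      have := congrArg (fun z : ↥φ.ker => ((z.1.1⁻¹ : Fˣ) : F)) h
      simpa [f] using this
    · obtain ⟨⟨a, g0⟩, hx⟩ := x
      have h1 := congrArg Units.val (MonoidHom.mem_ker.mp hx)
      rw [φval] at h1
      have hent : ∀ k l, (a : F) * ((g0 : Matrix (Fin n) (Fin n) ↥K) k l : F) = if k = l then 1 else 0 := by
        intro k l
        simpa [Matrix.one_apply] using congrFun (congrFun h1 k) l
      set d := (g0 : Matrix (Fin n) (Fin n) ↥K) ⟨0, hn⟩ ⟨0, hn⟩ with hd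
      have had : (a : F) * (d : F) = 1 := by simpa using hent ⟨0, hn⟩ ⟨0, hn⟩
      have hd0 : d ≠ 0 := by
        intro h; simp [h] at had
      refine ⟨Units.mk0 d hd0, Subtype.ext (Prod.ext (Units.ext ?_) (Units.ext ?_))⟩
      · simp [f, eq_inv_of_mul_eq_one_left had]
      · ext k l
        have := hent k l
        by_cases hkl : k = l
        · subst hkl
          simp only [if_true] at this
          have hd' : ((g0 : Matrix (Fin n) (Fin n) ↥K) k k : F) = d :=
            mul_left_cancel₀ a.ne_zero (this.trans had.symm)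
          simp [f, scK, hd']
        · simp only [hkl, if_false, mul_eq_zero, a.ne_zero, false_or] at this
          simp [f, scK, hkl, this]
  have hdom : Nat.card (Fˣ × GL (Fin n) ↥K) = (q₀ ^ r - 1) * ∏ i : Fin n, (q₀ ^ n - q₀ ^ (i : ℕ)) := by
    haveI := Fintype.ofFinite ↥K
    rw [Nat.card_prod, Nat.card_units, Nat.card_eq_fintype_card, hF, Matrix.card_GL_field,
      Fintype.card_eq_nat_card, hcardK]
  have hmul : Nat.card ↥φ.range * (q₀ - 1) = (q₀ ^ r - 1) * ∏ i : Fin n, (q₀ ^ n - q₀ ^ (i : ℕ)) := by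
    rw [← hdom, ← hker, ← Subgroup.index_ker, Subgroup.index_mul_card]
  rw [show Nat.card {g : GL (Fin n) F // ∃ c : F, c ≠ 0 ∧
      (g : Matrix (Fin n) (Fin n) F).map σ = c • (g : Matrix (Fin n) (Fin n) F)} = Nat.card ↥φ.range from
      Nat.card_congr (Equiv.subtypeEquivRight fun g => (hrange g).symm)]
  obtain ⟨t, ht⟩ : q₀ - 1 ∣ q₀ ^ r - 1 := Nat.sub_one_dvd_pow_sub_one q₀ r
  rw [ht, Nat.mul_div_cancel_left _ (by omega)]
  rw [ht, mul_assoc, mul_comm] at hmul
  exact Nat.eq_of_mul_eq_mul_left (by omega) hmul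

end Cfsg.Agent.S2636
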