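import Cfsg.Statements.S2638
-- import your own Cfsg.Agent.* helpers here

set_option autoImplicit false
open Cfsg

namespace Cfsg.Agent.S2638

open Polynomial in
lemma minpoly_irreducible {F : Type*} [Field F] [Fintype F] {p q : ℕ} [Fact p.Prime] [CharP F p]
    (hF : Fintype.card F = q) {n r : ℕ} (hr : r.Prime) (hrp : r ≠ p)
    (hi : orderOf (q : ZMod r) = n) (A : Matrix (Fin n) (Fin n) F) (hA : A ^ r = 1) (hA1 : A ≠ 1) :
    Irreducible (minpoly F A) ∧ (minpoly F A).natDegree = n := by
  classical
  haveI : Fact r.Prime := ⟨hr⟩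
  have hrF : (r : F) ≠ 0 := by
    rw [Ne, CharP.cast_eq_zero_iff F p, Nat.prime_dvd_prime_iff_eq Fact.out hr]
    exact fun h => hrp h.symm
  have hdvd : minpoly F A ∣ (Polynomial.X ^ r - C 1) := minpoly.dvd F A (by simp [hA])
  have hsep : (Polynomial.X ^ r - C (1 : F)).Separable := separable_X_pow_sub_C 1 hrF one_ne_zero
  have hsq : Squarefree (minpoly F A) := (hsep.of_dvd hdvd).squarefree
  have hint : IsIntegral F A := Algebra.IsIntegral.isIntegral A
  have hne : minpoly F A ≠ 0 := minpoly.ne_zero hint
  have hle : (minpoly F A).natDegree ≤ n := by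
    calc (minpoly F A).natDegree ≤ A.charpoly.natDegree :=
          natDegree_le_of_dvd (Matrix.minpoly_dvd_charpoly A) (A.charpoly_monic.ne_zero)
      _ = n := by rw [Matrix.charpoly_natDegree_eq_dim, Fintype.card_fin]
  -- an irreducible factor different from T - 1
  obtain ⟨f, hf, hfd, hf1⟩ : ∃ f, Irreducible f ∧ f ∣ minpoly F A ∧ ¬ f ∣ (Polynomial.X - C 1) := by
    by_contra hcon
    push Not at hcon
    apply hA1
    have : minpoly F A ∣ Polynomial.X - C 1 := by
      rw [UniqueFactorizationMonoid.dvd_iff_normalizedFactors_le_normalizedFactors hne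
        (X_sub_C_ne_zero 1)]
      rw [Multiset.le_iff_subset ((UniqueFactorizationMonoid.squarefree_iff_nodup_normalizedFactors hne).mp hsq)]
      intro g hg
      have hgirr := UniqueFactorizationMonoid.irreducible_of_normalized_factor g hg
      have hgd := hcon g hgirr (UniqueFactorizationMonoid.dvd_of_mem_normalizedFactors hg)
      obtain ⟨g', hg', hass⟩ := UniqueFactorizationMonoid.exists_mem_normalizedFactors_of_dvd
        (X_sub_C_ne_zero (1 : F)) hgirr hgd
      have : g = g' := by
        have h1 := UniqueFactorizationMonoid.normalize_normalized_factor g hg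
        have h2 := UniqueFactorizationMonoid.normalize_normalized_factor g' hg'
        rw [← h1, ← h2]
        exact normalize_eq_normalize_iff.mpr ⟨hass.dvd, hass.symm.dvd⟩
      rw [this]; exact hg'
    obtain ⟨c, hc⟩ := this
    have := congrArg (aeval A) hc
    rw [map_mul, minpoly.aeval, zero_mul, map_sub, aeval_X, aeval_C, map_one] at this
    exact sub_eq_zero.mp this
  haveI : Fact (Irreducible f) := ⟨hf⟩
  let pb := AdjoinRoot.powerBasis hf.ne_zero
  haveI : Module.Finite F (AdjoinRoot f) := pb.finite
  haveI : Finite (AdjoinRoot f) := Module.finite_of_finite F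
  haveI := Fintype.ofFinite (AdjoinRoot f)
  set α := AdjoinRoot.root f with hα
  have hαr : α ^ r = 1 := by
    have h := AdjoinRoot.mk_eq_zero.mpr (hfd.trans hdvd)
    simpa [sub_eq_zero, hα] using h
  have hα1 : α ≠ 1 := by
    intro h
    apply hf1
    rw [← AdjoinRoot.mk_eq_zero, map_sub, AdjoinRoot.mk_X, map_one, map_one]
    exact sub_eq_zero.mpr h
  have hα0 : α ≠ 0 := by
    intro h
    rw [h, zero_pow hr.ne_zero] at hαr
    exact zero_ne_one hαr
  have hord : orderOf α = r := orderOf_eq_prime hαr hα1
  have hdiv : r ∣ q ^ f.natDegree - 1 := by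
    have h1 := FiniteField.pow_card_sub_one_eq_one α hα0
    rw [← hord]
    refine orderOf_dvd_of_pow_eq_one ?_
    rwa [Fintype.card_eq_nat_card, Module.natCard_eq_pow_finrank (K := F), pb.finrank,
      AdjoinRoot.powerBasis_dim, Nat.card_eq_fintype_card, hF] at h1
  have hqf : (q : ZMod r) ^ f.natDegree = 1 := by
    have hq1 : 1 ≤ q ^ f.natDegree := Nat.one_le_pow _ _ (hF ▸ Fintype.card_pos)
    have := (ZMod.natCast_eq_zero_iff (q ^ f.natDegree - 1) r).mpr hdiv
    rwa [Nat.cast_sub hq1, sub_eq_zero, Nat.cast_pow, Nat.cast_one] at this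
  have hnd : n ≤ f.natDegree := Nat.le_of_dvd hf.natDegree_pos (hi ▸ orderOf_dvd_of_pow_eq_one hqf)
  have hfle : f.natDegree ≤ (minpoly F A).natDegree := natDegree_le_of_dvd hfd hne
  have hassoc : Associated f (minpoly F A) :=
    associated_of_dvd_of_natDegree_le hfd hne (by omega)
  exact ⟨hassoc.irreducible hf, by omega⟩

/-- If an element x of GL_n(q), n ≥ 1, has prime order r and the multiplicative order of q modulo r is n (r is a primitive prime divisor of q^n − 1, so x acts irreducibly), then the centraliser of x in GL_n(q) is cyclic of order q^n − 1 (the multiplicative group of the field with q^n elements, a Singer cycle). -/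
theorem result {F : Type*} [Field F] [Fintype F] {p q : ℕ} [Fact p.Prime] [CharP F p] (hF : Fintype.card F = q) {n r : ℕ} (hn : 1 ≤ n) (hr : r.Prime) (hrp : r ≠ p) (hi : orderOf (q : ZMod r) = n) (x : GL (Fin n) F) (hx : orderOf x = r) : IsCyclic ↥(Subgroup.centralizer ({x} : Set (GL (Fin n) F))) ∧ Nat.card ↥(Subgroup.centralizer ({x} : Set (GL (Fin n) F))) = q ^ n - 1 := by
  classical
  haveI : Nonempty (Fin n) := ⟨⟨0, hn⟩⟩
  haveI : Fact r.Prime := ⟨hr⟩
  set X := (x : Matrix (Fin n) (Fin n) F) with hX
  have hXr : X ^ r = 1 := by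
    rw [hX, ← Units.val_pow_eq_pow_val, ← hx, pow_orderOf_eq_one]; rfl
  have hX1 : X ≠ 1 := by
    intro h
    have : x = 1 := Units.ext h
    rw [this, orderOf_one] at hx
    exact hr.ne_one hx.symm
  obtain ⟨hirr, hdeg⟩ := minpoly_irreducible hF hr hrp hi X hXr hX1
  haveI : Fact (Irreducible (minpoly F X)) := ⟨hirr⟩
  have hne : minpoly F X ≠ 0 := hirr.ne_zero
  let pb := AdjoinRoot.powerBasis hne
  haveI : Module.Finite F (AdjoinRoot (minpoly F X)) := pb.finite
  haveI : Finite (AdjoinRoot (minpoly F X)) := Module.finite_of_finite F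
  let φ : AdjoinRoot (minpoly F X) →ₐ[F] Matrix (Fin n) (Fin n) F :=
    Ideal.Quotient.liftₐ (Ideal.span {minpoly F X}) (Polynomial.aeval X) (fun P hP =>
      minpoly.dvd_iff.mp (Ideal.mem_span_singleton.mp hP))
  have hroot : φ (AdjoinRoot.root _) = X := by
    change Polynomial.aeval X (Polynomial.X : Polynomial F) = X
    exact Polynomial.aeval_X X
  have hcomm : ∀ k, X * φ k = φ k * X := by
    intro k
    calc X * φ k = φ (AdjoinRoot.root _) * φ k := by rw [hroot]
      _ = φ k * φ (AdjoinRoot.root _) := by rw [← map_mul, ← map_mul, mul_comm]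
      _ = φ k * X := by rw [hroot]
  -- the module is one dimensional
  let v : Fin n → F := Pi.single ⟨0, hn⟩ 1
  have hv : v ≠ 0 := by
    intro h
    simpa [v] using congrFun h ⟨0, hn⟩
  let L : AdjoinRoot (minpoly F X) →ₗ[F] (Fin n → F) :=
    { toFun := fun k => (φ k).mulVec v
      map_add' := fun a b => by rw [map_add, Matrix.add_mulVec]
      map_smul' := fun c a => by rw [map_smul, Matrix.smul_mulVec, RingHom.id_apply] }
  have hLinj : Function.Injective L := by
    rw [injective_iff_map_eq_zero]
    intro k hk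
    by_contra h
    apply hv
    have : (φ (k⁻¹ * k)).mulVec v = 0 := by
      rw [map_mul, ← Matrix.mulVec_mulVec]
      change (φ k⁻¹).mulVec (L k) = 0
      rw [hk, Matrix.mulVec_zero]
    rwa [inv_mul_cancel₀ h, map_one, Matrix.one_mulVec] at this
  have hfin : Module.finrank F (AdjoinRoot (minpoly F X)) = n := by
    rw [pb.finrank, AdjoinRoot.powerBasis_dim, hdeg]
  have hLsur : Function.Surjective L :=
    (LinearMap.injective_iff_surjective_of_finrank_eq_finrank
      (by rw [hfin, Module.finrank_fintype_fun_eq_card, Fintype.card_fin])).mp hLinj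
  let ψ : (AdjoinRoot (minpoly F X))ˣ →* ↥(Subgroup.centralizer ({x} : Set (GL (Fin n) F))) :=
    (Units.map (φ : AdjoinRoot (minpoly F X) →* Matrix (Fin n) (Fin n) F)).codRestrict _ (fun k => by
      rw [Subgroup.mem_centralizer_singleton_iff]
      exact Units.ext (hcomm k).symm)
  have hψ : Function.Bijective ψ := by
    refine ⟨fun a b hab => Units.ext (φ.toRingHom.injective ?_), fun m => ?_⟩
    · exact congrArg (fun z : ↥(Subgroup.centralizer ({x} : Set (GL (Fin n) F))) =>
        ((z : GL (Fin n) F) : Matrix (Fin n) (Fin n) F)) hab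
    · set M := ((m : GL (Fin n) F) : Matrix (Fin n) (Fin n) F) with hM
      have hMX : M * X = X * M := by
        have := Subgroup.mem_centralizer_singleton_iff.mp m.2
        exact congrArg Units.val this
      have hMφ : ∀ k, M * φ k = φ k * M := by
        intro k
        obtain ⟨P, rfl⟩ := AdjoinRoot.mk_surjective k
        induction P using Polynomial.induction_on' with
        | add p q hp hq => rw [map_add, map_add, mul_add, add_mul, hp, hq]
        | monomial i c =>
          rw [← Polynomial.C_mul_X_pow_eq_monomial, map_mul, map_pow, AdjoinRoot.mk_X,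
            AdjoinRoot.mk_C, map_mul, map_pow, hroot]
          rw [← AdjoinRoot.algebraMap_eq, AlgHom.commutes]
          rw [← mul_assoc, ← Algebra.commutes, mul_assoc, mul_assoc]
          congr 1
          exact Commute.pow_right hMX i
      obtain ⟨k0, hk0⟩ := hLsur (M.mulVec v)
      have hMk : M = φ k0 := by
        refine Matrix.ext_of_mulVec_single fun j => ?_
        obtain ⟨k, hk⟩ := hLsur (Pi.single j 1)
        rw [← hk]
        change M.mulVec ((φ k).mulVec v) = (φ k0).mulVec ((φ k).mulVec v)
        rw [Matrix.mulVec_mulVec, hMφ, ← Matrix.mulVec_mulVec, ← hk0]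
        change (φ k).mulVec ((φ k0).mulVec v) = _
        rw [Matrix.mulVec_mulVec, Matrix.mulVec_mulVec, ← map_mul, ← map_mul, mul_comm]
      have hk0u : k0 ≠ 0 := by
        rintro rfl
        rw [map_zero] at hMk
        exact (m : GL (Fin n) F).ne_zero hMk
      exact ⟨Units.mk0 k0 hk0u, Subtype.ext (Units.ext hMk.symm)⟩
  refine ⟨isCyclic_of_surjective ψ hψ.2, ?_⟩
  rw [← Nat.card_eq_of_bijective ψ hψ, Nat.card_units, Module.natCard_eq_pow_finrank (K := F), hfin,
    Nat.card_eq_fintype_card, hF]

end Cfsg.Agent.S2638
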