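import Mathlib
import Cfsg.Statements.S2642
import Cfsg.Agent.Lib.HermitianFactor
import Cfsg.Agent.Lib.UnitaryPrimeOrderClasses
import Cfsg.Agent.Lib.JordanTypeClasses
import Cfsg.Agent.S2570

/-!
Classes of elements of order `p` of `GU_n(q)` are those of `GL_n(q^2)`: linear conjugacy is unitary
conjugacy, and every Jordan type fixes a hermitian form since `(ct A)⁻¹` is similar to `A`.
-/

set_option autoImplicit false
open Cfsg

namespace Cfsg.Agent.S2642

open Matrix HermitianFactor JordanType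

variable {K : Type*} [Field K] [Fintype K]

theorem isConj_of_rank {n : ℕ} (μ : Nat.Partition n) (g : GL (Fin n) K)
    (hg : IsNilpotent ((g : Matrix (Fin n) (Fin n) K) - 1))
    (h : ∀ k, (((g : Matrix (Fin n) (Fin n) K) - 1) ^ k).rank =
      (((JordanType.repr K μ : Matrix (Fin n) (Fin n) K) - 1) ^ k).rank) :
    IsConj (JordanType.repr K μ) g := by
  obtain ⟨ν, hν⟩ := exists_repr g hg
  suffices μ = ν by rwa [this]
  have hrk : ∀ k, rk (parts μ) k = rk (parts ν) k := by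
    intro k
    obtain ⟨c, hc⟩ := isConj_sub_one.1 hν
    rw [← rank_pow (F := K), ← rank_pow (F := K), ← h k]
    have hU : IsUnit (c : Matrix (Fin n) (Fin n) K).det := (Matrix.isUnit_iff_isUnit_det _).1 c.isUnit
    rw [← Matrix.rank_mul_eq_right_of_isUnit_det (c : Matrix (Fin n) (Fin n) K) (((JordanType.repr K ν : Matrix (Fin n) (Fin n) K) - 1) ^ k) hU,
      (hc.pow_right k).eq, Matrix.rank_mul_eq_left_of_isUnit_det _ _ hU]
  apply Nat.Partition.ext
  ext j
  rcases Nat.eq_zero_or_pos j with rfl | hj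
  · rw [Multiset.count_eq_zero.2 fun h0 => (μ.parts_pos h0).ne' rfl, Multiset.count_eq_zero.2 fun h0 => (ν.parts_pos h0).ne' rfl]
  · rw [← parts_map μ, ← parts_map ν, ← count_parts, ← count_parts, count_eq_of_rk _ _ hrk j hj]

theorem exists_unitary {σ : K →+* K} {q n : ℕ} (hq : ∀ x, σ x = x ^ q) (hσ : ∀ x, σ (σ x) = x)
    (c : K) (hc : σ c ≠ c) (μ : Nat.Partition n) :
    ∃ g : ↥(Cfsg.GU n K q), IsConj (JordanType.repr K μ) (g : GL (Fin n) K) := by
  set A := JordanType.repr K μ with hA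
  obtain ⟨B, hB⟩ := isUnit_ct (σ := σ) A.isUnit
  have hmap : ct σ ((A : Matrix (Fin n) (Fin n) K)) - 1 = ((A : Matrix (Fin n) (Fin n) K) - 1).transpose := by
    have h1 : ((A : Matrix (Fin n) (Fin n) K) - 1).map σ = (A : Matrix (Fin n) (Fin n) K) - 1 := by
      rw [hA, repr_sub_one]
      ext i j
      simp only [nilMat, Matrix.map_apply, Matrix.reindex_apply, Matrix.submatrix_apply, sh, Matrix.of_apply]
      split_ifs <;> simp
    calc ct σ (A : Matrix (Fin n) (Fin n) K) - 1 = (((A : Matrix (Fin n) (Fin n) K) - 1).map σ).transpose := by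
          simp [ct, Matrix.map_sub, Matrix.transpose_sub]
      _ = _ := by rw [h1]
  have he : ((B⁻¹ : GL (Fin n) K) : Matrix (Fin n) (Fin n) K) - 1 =
      ((A : Matrix (Fin n) (Fin n) K) - 1).transpose * -((B⁻¹ : GL (Fin n) K) : Matrix (Fin n) (Fin n) K) := by
    rw [← hmap, ← hB, sub_mul, mul_neg, Units.mul_inv, one_mul]; abel
  have hcom : Commute ((A : Matrix (Fin n) (Fin n) K) - 1).transpose (-((B⁻¹ : GL (Fin n) K) : Matrix (Fin n) (Fin n) K)) := by
    rw [← hmap, ← hB]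
    exact Commute.neg_right (Commute.sub_left ((Commute.refl (B : Matrix (Fin n) (Fin n) K)).units_inv_right) (Commute.one_left _))
  have hconj : IsConj A B⁻¹ := by
    refine isConj_of_rank μ _ ?_ fun k => ?_
    · rw [he]
      have := isNilpotent_nilMat (F := K) μ
      rw [← repr_sub_one] at this
      exact hcom.isNilpotent_mul_right (by
        obtain ⟨k, hk⟩ := this
        exact ⟨k, by rw [← Matrix.transpose_pow, hk, Matrix.transpose_zero]⟩)
    · rw [he, hcom.mul_pow, Matrix.rank_mul_eq_left_of_isUnit_det, ← Matrix.transpose_pow, Matrix.rank_transpose]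
      rw [Matrix.det_pow]
      exact ((Matrix.isUnit_iff_isUnit_det _).1 (B⁻¹ : GL (Fin n) K).isUnit.neg).pow k
  obtain ⟨P, hP⟩ := isConj_iff.1 hconj
  have hinv : ct σ (A : Matrix (Fin n) (Fin n) K) * (P : Matrix (Fin n) (Fin n) K) * A = P := by
    have h1 : B * (P * A) = P := by rw [eq_mul_inv_iff_mul_eq.1 hP.symm |>.symm, mul_inv_cancel_left]
    rw [← hB, mul_assoc]
    exact congrArg Units.val h1
  obtain ⟨H, hHu, hHfix, hHinv⟩ := exists_hermitian_invariant hσ c hc A.isUnit P.isUnit hinv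
  obtain ⟨s, -, hsu, hs⟩ := exists_factor hσ c hc hHu hHfix
  obtain ⟨U, rfl⟩ := hsu
  refine ⟨⟨U * A * U⁻¹, (mem_GU_iff hq hσ _).2 ?_⟩, isConj_iff.2 ⟨U, rfl⟩⟩
  show ct σ ((U : Matrix (Fin n) (Fin n) K) * (A : Matrix (Fin n) (Fin n) K) * ((U⁻¹ : GL (Fin n) K) : Matrix (Fin n) (Fin n) K)) *
    ((U : Matrix (Fin n) (Fin n) K) * (A : Matrix (Fin n) (Fin n) K) * ((U⁻¹ : GL (Fin n) K) : Matrix (Fin n) (Fin n) K)) = 1
  rw [ct_mul, ct_mul]
  calc ct σ ((U⁻¹ : GL (Fin n) K) : Matrix (Fin n) (Fin n) K) * (ct σ (A : Matrix (Fin n) (Fin n) K) * ct σ (U : Matrix (Fin n) (Fin n) K)) * ((U : Matrix (Fin n) (Fin n) K) * (A : Matrix (Fin n) (Fin n) K) * ((U⁻¹ : GL (Fin n) K) : Matrix (Fin n) (Fin n) K))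
      = ct σ ((U⁻¹ : GL (Fin n) K) : Matrix (Fin n) (Fin n) K) * (ct σ (A : Matrix (Fin n) (Fin n) K) * (ct σ (U : Matrix (Fin n) (Fin n) K) * (U : Matrix (Fin n) (Fin n) K)) * (A : Matrix (Fin n) (Fin n) K)) * ((U⁻¹ : GL (Fin n) K) : Matrix (Fin n) (Fin n) K) := by
        simp only [mul_assoc]
    _ = 1 := by
        rw [hs, hHinv, ← hs, mul_assoc, mul_assoc, Units.mul_inv, mul_one, ← ct_mul, Units.mul_inv, ct_one]

theorem result {K : Type*} [Field K] [Fintype K] {p q n : ℕ} [Fact p.Prime] [CharP K p] (hK : Fintype.card K = q ^ 2) : Nat.card {C : ConjClasses ↥(Cfsg.GU n K q) // ∃ g : ↥(Cfsg.GU n K q), ConjClasses.mk g = C ∧ orderOf g = p} = (Finset.univ.filter (fun μ : Nat.Partition n => ∀ a ∈ μ.parts, a ≤ p)).card - 1 := by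
  classical
  obtain ⟨σ, hq, hσ, c, hc⟩ := exists_conjugation hK
  rw [← Cfsg.Agent.S2570.result (F := K) (p := p) n]
  refine Nat.card_eq_of_bijective (fun C => ⟨ConjClasses.map (Cfsg.GU n K q).subtype C.1, ?_⟩) ⟨?_, ?_⟩
  · obtain ⟨g, hg, hgo⟩ := C.2
    exact ⟨g.1, by rw [← hg]; rfl, by rw [Subgroup.orderOf_coe, hgo]⟩
  · rintro ⟨C, g, rfl, hg⟩ ⟨D, h, rfl, hh⟩ he
    obtain ⟨P, hP⟩ := ConjClasses.mk_eq_mk_iff_isConj.1 (congrArg Subtype.val he)
    exact Subtype.ext (ConjClasses.mk_eq_mk_iff_isConj.2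
      (UnitaryPrimeOrderClasses.isConj_of_linear hq hσ c hc g h P.val hP.eq))
  · rintro ⟨C, g, rfl, hg⟩
    obtain ⟨μ, hμ⟩ := exists_repr g ((isNilpotent_iff_pow_prime p g).1 ⟨1, by rw [pow_one]; exact hg⟩)
    obtain ⟨u, hu⟩ := exists_unitary hq hσ c hc μ
    have huo : orderOf u = p := by
      rw [← Subgroup.orderOf_coe]
      obtain ⟨x, hx⟩ := hu.symm.trans hμ
      rw [SemiconjBy.orderOf_eq _ hx, hg]
    exact ⟨⟨ConjClasses.mk u, u, rfl, huo⟩, Subtype.ext (ConjClasses.mk_eq_mk_iff_isConj.2 (hu.symm.trans hμ))⟩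

end Cfsg.Agent.S2642
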