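import Mathlib
import Cfsg.Statements.S2643
import Cfsg.Agent.Lib.HermitianFactor
import Cfsg.Agent.Lib.UnitaryPrimeOrderClasses
import Cfsg.Agent.Lib.RegularNilpotent
import Cfsg.Agent.Lib.RegUnipGen

/-!
Regular unipotent classes of `SU_n(q)`: one class in `GU_n(q)`, and the determinants of the
centraliser are the `n`th powers in the norm one subgroup, cyclic of order `q + 1`.
-/

set_option autoImplicit false
open Cfsg

namespace Cfsg.Agent.S2643

open Matrix HermitianFactor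

variable {K : Type*} [Field K] [Fintype K]

/-- Regular unipotent. -/
def IsRU {n : ℕ} (A : Matrix (Fin n) (Fin n) K) : Prop := (A - 1) ^ n = 0 ∧ (A - 1).rank = n - 1

theorem isUnit_of_rank {n : ℕ} {A : Matrix (Fin n) (Fin n) K} (h : A.rank = n) : IsUnit A := by
  rw [← Matrix.mulVec_surjective_iff_isUnit]
  have htop : LinearMap.range A.mulVecLin = ⊤ :=
    Submodule.eq_top_of_finrank_eq (by rw [Module.finrank_fin_fun]; exact h)
  exact LinearMap.range_eq_top.1 htop

theorem isRU_conj {n : ℕ} {A : Matrix (Fin n) (Fin n) K} (U : (Matrix (Fin n) (Fin n) K)ˣ)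
    (h : IsRU A) : IsRU ((U : Matrix (Fin n) (Fin n) K) * A * ((U⁻¹ : (Matrix (Fin n) (Fin n) K)ˣ) : Matrix (Fin n) (Fin n) K)) := by
  have he : (U : Matrix (Fin n) (Fin n) K) * A * ((U⁻¹ : (Matrix (Fin n) (Fin n) K)ˣ) : Matrix (Fin n) (Fin n) K) - 1 =
      (U : Matrix (Fin n) (Fin n) K) * (A - 1) * ((U⁻¹ : (Matrix (Fin n) (Fin n) K)ˣ) : Matrix (Fin n) (Fin n) K) := by
    rw [mul_sub, sub_mul, mul_one, Units.mul_inv]
  unfold IsRU
  rw [he]
  refine ⟨?_, ?_⟩
  · rw [Units.conj_pow, h.1, mul_zero, zero_mul]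
  · rw [Matrix.rank_mul_eq_left_of_isUnit_det _ _ ((Matrix.isUnit_iff_isUnit_det _).1 U⁻¹.isUnit),
      Matrix.rank_mul_eq_right_of_isUnit_det _ _ ((Matrix.isUnit_iff_isUnit_det _).1 U.isUnit), h.2]

theorem isRU_upper (m : ℕ) : IsRU (RegUnipGen.upper m K) := by
  have h0 : (RegUnipGen.upper m K - 1) ^ (m + 1) = 0 := by
    ext r c
    rw [RegUnipGen.upper, add_sub_cancel_left, RegUnipGen.shiftUp_pow, Matrix.zero_apply, if_neg (by omega)]
  refine ⟨h0, le_antisymm ?_ ?_⟩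
  · by_contra h
    have h2 := Matrix.rank_le_card_height (RegUnipGen.upper m K - 1)
    rw [Fintype.card_fin] at h2
    have hu : IsUnit (RegUnipGen.upper m K - 1) :=
      isUnit_of_rank (by omega)
    have := hu.pow (m + 1)
    rw [h0] at this
    exact not_isUnit_zero this
  · show m + 1 - 1 ≤ _
    rw [Nat.add_sub_cancel]
    set N := RegUnipGen.upper m K - 1 with hN
    have hli : LinearIndependent K (fun i : Fin m => N *ᵥ Pi.single i.succ 1) := by
      have he : (fun i : Fin m => N *ᵥ Pi.single i.succ 1) =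
          fun i : Fin m => (Pi.basisFun K (Fin (m + 1))) i.castSucc := by
        funext i
        rw [hN, Matrix.sub_mulVec, RegUnipGen.upper_col_succ, Matrix.one_mulVec, Pi.basisFun_apply]
        simp
      rw [he]
      exact (Pi.basisFun K (Fin (m + 1))).linearIndependent.comp _ (Fin.castSucc_injective _)
    have hle : Submodule.span K (Set.range fun i : Fin m => N *ᵥ Pi.single i.succ 1) ≤
        LinearMap.range N.mulVecLin := by
      rw [Submodule.span_le]
      rintro _ ⟨i, rfl⟩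
      exact ⟨Pi.single i.succ 1, rfl⟩
    have := Submodule.finrank_mono hle
    rwa [finrank_span_eq_card hli, Fintype.card_fin] at this

/-- A regular unipotent matrix of determinant one fixing the hermitian form. -/
theorem exists_unitary {σ : K →+* K} (hσ : ∀ x, σ (σ x) = x) (c : K) (hc : σ c ≠ c) (m : ℕ) :
    ∃ A : Matrix (Fin (m + 1)) (Fin (m + 1)) K, IsRU A ∧ A.det = 1 ∧ ct σ A * A = 1 := by
  set A := RegUnipGen.upper m K with hA
  have hdet : A.det = 1 := RegUnipGen.upper_det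
  have hAu : IsUnit A := (Matrix.isUnit_iff_isUnit_det _).2 (by rw [hdet]; exact isUnit_one)
  have hB : IsUnit (ct σ A) := isUnit_ct hAu
  obtain ⟨B, hB'⟩ := hB
  -- the inverse of the conjugate transpose is regular unipotent
  have hr : IsRU (ct σ A) := by
    have he : ct σ A - 1 = ((A - 1).map σ).transpose := by
      simp [ct, Matrix.map_sub, Matrix.transpose_sub]
    unfold IsRU
    rw [he]
    refine ⟨?_, ?_⟩
    · rw [← Matrix.transpose_pow, ← RingHom.mapMatrix_apply, ← map_pow, (isRU_upper m).1, map_zero,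
        Matrix.transpose_zero]
    · rw [Matrix.rank_transpose]
      refine le_antisymm ?_ ?_
      · by_contra h
        have hc' := Matrix.rank_le_card_height ((A - 1).map σ)
        rw [Fintype.card_fin] at hc'
        have hu : IsUnit ((A - 1).map σ) := isUnit_of_rank (by omega)
        have := hu.pow (m + 1)
        rw [← RingHom.mapMatrix_apply, ← map_pow, (isRU_upper m).1, map_zero] at this
        exact not_isUnit_zero this
      · show m + 1 - 1 ≤ _
        rw [Nat.add_sub_cancel]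
        set N := (A - 1).map σ with hN
        have he' : (fun i : Fin m => N *ᵥ Pi.single i.succ 1) =
            fun i : Fin m => (Pi.basisFun K (Fin (m + 1))) i.castSucc := by
          funext i r
          have h1 := congrFun (RegUnipGen.upper_col_succ (F := K) i) r
          rw [Matrix.mulVec_single_one] at h1
          rw [Matrix.mulVec_single_one, Pi.basisFun_apply]
          simp only [hN, hA, Matrix.col_apply, Matrix.map_apply, Matrix.sub_apply] at h1 ⊢
          rw [h1]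
          by_cases hr1 : r = i.succ <;> by_cases hr2 : r = i.castSucc <;>
            simp [hr1, hr2, Matrix.one_apply, Pi.single_apply]
        have hli : LinearIndependent K (fun i : Fin m => N *ᵥ Pi.single i.succ 1) := by
          rw [he']
          exact (Pi.basisFun K (Fin (m + 1))).linearIndependent.comp _ (Fin.castSucc_injective _)
        have hle : Submodule.span K (Set.range fun i : Fin m => N *ᵥ Pi.single i.succ 1) ≤
            LinearMap.range N.mulVecLin := by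
          rw [Submodule.span_le]
          rintro _ ⟨i, rfl⟩
          exact ⟨Pi.single i.succ 1, rfl⟩
        have := Submodule.finrank_mono hle
        rwa [finrank_span_eq_card hli, Fintype.card_fin] at this
  have hr' : IsRU ((B⁻¹ : (Matrix (Fin (m + 1)) (Fin (m + 1)) K)ˣ) : Matrix (Fin (m + 1)) (Fin (m + 1)) K) := by
    rw [← hB'] at hr
    have he : ((B⁻¹ : (Matrix (Fin (m + 1)) (Fin (m + 1)) K)ˣ) : Matrix (Fin (m + 1)) (Fin (m + 1)) K) - 1 =
        ((B : Matrix (Fin (m + 1)) (Fin (m + 1)) K) - 1) * -((B⁻¹ : (Matrix (Fin (m + 1)) (Fin (m + 1)) K)ˣ) : Matrix (Fin (m + 1)) (Fin (m + 1)) K) := by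
      rw [sub_mul, mul_neg, Units.mul_inv, one_mul]; abel
    have hcom : Commute ((B : Matrix (Fin (m + 1)) (Fin (m + 1)) K) - 1) (-((B⁻¹ : (Matrix (Fin (m + 1)) (Fin (m + 1)) K)ˣ) : Matrix (Fin (m + 1)) (Fin (m + 1)) K)) := by
      refine Commute.neg_right (Commute.sub_left ?_ (Commute.one_left _))
      exact (Commute.refl (B : Matrix (Fin (m + 1)) (Fin (m + 1)) K)).units_inv_right
    unfold IsRU
    rw [he]
    refine ⟨?_, ?_⟩
    · rw [hcom.mul_pow, hr.1, zero_mul]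
    · rw [Matrix.rank_mul_eq_left_of_isUnit_det _ _ ((Matrix.isUnit_iff_isUnit_det _).1 B⁻¹.isUnit.neg), hr.2]
  obtain ⟨P, hPu, hP⟩ := RegularNilpotent.exists_conj (Fintype.card_fin _) (isRU_upper m).1 (isRU_upper m).2 hr'.1 hr'.2
  rw [mul_sub, sub_mul, mul_one, one_mul, ← hA, sub_left_inj] at hP
  have hinv : ct σ A * P * A = P := by
    rw [mul_assoc, hP, ← hB', Units.mul_inv_cancel_left]
  obtain ⟨H, hHu, hHfix, hHinv⟩ := exists_hermitian_invariant hσ c hc hAu hPu hinv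
  obtain ⟨s, -, hsu, hs⟩ := exists_factor hσ c hc hHu hHfix
  obtain ⟨U, rfl⟩ := hsu
  refine ⟨(U : Matrix _ _ K) * A * ((U⁻¹ : (Matrix (Fin (m + 1)) (Fin (m + 1)) K)ˣ) : Matrix (Fin (m + 1)) (Fin (m + 1)) K), isRU_conj U (isRU_upper m), ?_, ?_⟩
  · rw [Matrix.det_units_conj, hdet]
  · rw [ct_mul, ct_mul]
    calc ct σ ((U⁻¹ : (Matrix (Fin (m + 1)) (Fin (m + 1)) K)ˣ) : Matrix _ _ K) * (ct σ A * ct σ (U : Matrix _ _ K)) * ((U : Matrix _ _ K) * A * ((U⁻¹ : (Matrix (Fin (m + 1)) (Fin (m + 1)) K)ˣ) : Matrix _ _ K))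
        = ct σ ((U⁻¹ : (Matrix (Fin (m + 1)) (Fin (m + 1)) K)ˣ) : Matrix _ _ K) * (ct σ A * (ct σ (U : Matrix _ _ K) * (U : Matrix _ _ K)) * A) * ((U⁻¹ : (Matrix (Fin (m + 1)) (Fin (m + 1)) K)ˣ) : Matrix _ _ K) := by
          simp only [mul_assoc]
      _ = 1 := by
          rw [hs, hHinv, ← hs, mul_assoc, mul_assoc, Units.mul_inv, mul_one, ← ct_mul, Units.mul_inv, ct_one]

/-- The norm one units. -/
noncomputable def U1 (K : Type*) [Field K] (q : ℕ) : Subgroup Kˣ := (powMonoidHom (q + 1) : Kˣ →* Kˣ).ker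

theorem card_U1 {q : ℕ} (hK : Fintype.card K = q ^ 2) : Nat.card (U1 K q) = q + 1 := by
  classical
  unfold U1
  rw [IsCyclic.card_powMonoidHom_ker, Nat.card_units, Nat.card_eq_fintype_card, hK]
  exact Nat.gcd_eq_right ⟨q - 1, by rw [pow_two, ← Nat.mul_self_sub_mul_self_eq q 1]⟩

theorem det_mem {σ : K →+* K} {q n : ℕ} (hq : ∀ x, σ x = x ^ q) (hσ : ∀ x, σ (σ x) = x)
    (g : ↥(Cfsg.GU n K q)) : Matrix.GeneralLinearGroup.det (g : GL (Fin n) K) ∈ U1 K q := by
  have h := congrArg Matrix.det ((mem_GU_iff hq hσ _).1 g.2)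
  rw [Matrix.det_mul, Matrix.det_one, ct, Matrix.det_transpose, ← RingHom.mapMatrix_apply,
    ← RingHom.map_det, hq] at h
  refine Units.ext ?_
  show ((Matrix.GeneralLinearGroup.det (g : GL (Fin n) K)) ^ (q + 1) : Kˣ).val = 1
  rw [Units.val_pow_eq_pow_val, pow_succ]
  exact h

theorem centraliser_det {σ : K →+* K} {q n : ℕ} (hq : ∀ x, σ x = x ^ q) (hσ : ∀ x, σ (σ x) = x)
    (hn : 0 < n) (u X : ↥(Cfsg.GU n K q)) (hu : IsRU ((u : GL (Fin n) K) : Matrix (Fin n) (Fin n) K))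
    (hX : X * u = u * X) :
    ∃ c : U1 K q, Matrix.GeneralLinearGroup.det (X : GL (Fin n) K) = (c : Kˣ) ^ n := by
  classical
  set A := ((u : GL (Fin n) K) : Matrix (Fin n) (Fin n) K) with hA
  set B := ((X : GL (Fin n) K) : Matrix (Fin n) (Fin n) K) with hB
  have hAB : B * A = A * B := congrArg (fun g : ↥(Cfsg.GU n K q) => ((g : GL (Fin n) K) : Matrix (Fin n) (Fin n) K)) hX
  obtain ⟨a, ha⟩ := RegularNilpotent.eq_mpoly_of_commute (Fintype.card_fin n) hu.1 hu.2 B
    (show (A - 1) * B = B * (A - 1) by rw [sub_mul, mul_sub, mul_one, one_mul, hAB])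
  have hBu : IsUnit B := (X : GL (Fin n) K).isUnit
  set c0 := a ⟨0, hn⟩ with hc0
  have hc0ne : c0 ≠ 0 := (RegularNilpotent.isUnit_mpoly_iff (Fintype.card_fin n) hu.1 hu.2 hn a).1 (ha ▸ hBu)
  obtain ⟨v, hv0, hv⟩ : ∃ v, v ≠ 0 ∧ (A - 1) *ᵥ v = 0 := by
    refine Matrix.exists_mulVec_eq_zero_iff.2 ?_
    have hnil : IsNilpotent (A - 1) := ⟨n, hu.1⟩
    haveI : Nonempty (Fin n) := ⟨⟨0, hn⟩⟩
    by_contra h
    exact hnil.not_isUnit ((Matrix.isUnit_iff_isUnit_det _).2 (Ne.isUnit h))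
  have hAv : A *ᵥ v = v := by rwa [Matrix.sub_mulVec, Matrix.one_mulVec, sub_eq_zero] at hv
  have hctA : ct σ A *ᵥ v = v := by
    conv_lhs => rw [← hAv]
    rw [Matrix.mulVec_mulVec, (mem_GU_iff hq hσ _).1 u.2, Matrix.one_mulVec]
  have hpow : ∀ i : ℕ, i ≠ 0 → (A - 1) ^ i *ᵥ v = 0 := fun i hi => by
    obtain ⟨j, rfl⟩ := Nat.exists_eq_succ_of_ne_zero hi
    rw [pow_succ, ← Matrix.mulVec_mulVec, hv, Matrix.mulVec_zero]
  have hcp : ∀ i : ℕ, i ≠ 0 → ct σ ((A - 1) ^ i) *ᵥ v = 0 := by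
    intro i hi
    obtain ⟨j, rfl⟩ := Nat.exists_eq_succ_of_ne_zero hi
    rw [pow_succ', ct_mul, ← Matrix.mulVec_mulVec, show ct σ (A - 1) *ᵥ v = 0 by
      rw [show ct σ (A - 1) = ct σ A - 1 by simp [ct, Matrix.map_sub, Matrix.transpose_sub],
        Matrix.sub_mulVec, hctA, Matrix.one_mulVec, sub_self], Matrix.mulVec_zero]
  have hBv : B *ᵥ v = c0 • v := by
    rw [ha, RegularNilpotent.mpoly_apply, Matrix.sum_mulVec, Finset.sum_eq_single (⟨0, hn⟩ : Fin n)]
    · simp [Matrix.smul_mulVec, hc0]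
    · intro i _ hi
      rw [Matrix.smul_mulVec, hpow _ (fun h => hi (Fin.ext h)), smul_zero]
    · simp
  have hctB : ct σ B *ᵥ v = σ c0 • v := by
    have hsum : ct σ B = ∑ i : Fin n, σ (a i) • ct σ ((A - 1) ^ (i : ℕ)) := by
      rw [ha, RegularNilpotent.mpoly_apply]
      ext r s
      simp [ct, Matrix.sum_apply, map_sum]
    rw [hsum, Matrix.sum_mulVec, Finset.sum_eq_single (⟨0, hn⟩ : Fin n)]
    · simp [Matrix.smul_mulVec, hc0, ct_one]
    · intro i _ hi
      rw [Matrix.smul_mulVec, hcp _ (fun h => hi (Fin.ext h)), smul_zero]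
    · simp
  have hnorm : c0 * σ c0 = 1 := by
    have h := congrArg (fun M : Matrix (Fin n) (Fin n) K => M *ᵥ v) ((mem_GU_iff hq hσ _).1 X.2)
    simp only [← hB, ← Matrix.mulVec_mulVec, hBv, Matrix.mulVec_smul, hctB, Matrix.one_mulVec, smul_smul] at h
    have h' : (c0 * σ c0 - 1) • v = 0 := by rw [sub_smul, h, one_smul, sub_self]
    exact sub_eq_zero.1 ((smul_eq_zero.1 h').resolve_right hv0)
  refine ⟨⟨Units.mk0 c0 hc0ne, Units.ext ?_⟩, Units.ext ?_⟩
  · show ((Units.mk0 c0 hc0ne) ^ (q + 1) : Kˣ).val = 1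
    rw [Units.val_pow_eq_pow_val, Units.val_mk0, pow_succ, ← hq, mul_comm]
    exact hnorm
  · rw [Units.val_pow_eq_pow_val]
    show B.det = c0 ^ n
    rw [ha, RegularNilpotent.det_mpoly (Fintype.card_fin n) hu.1 hn]

theorem result {K : Type*} [Field K] [Fintype K] {q n : ℕ} (hK : Fintype.card K = q ^ 2) (hn : 2 ≤ n) : Nat.card {C : ConjClasses ↥(Cfsg.SU n K q) // ∃ u : ↥(Cfsg.SU n K q), ConjClasses.mk u = C ∧ (((u : GL (Fin n) K) : Matrix (Fin n) (Fin n) K) - 1) ^ n = 0 ∧ (((u : GL (Fin n) K) : Matrix (Fin n) (Fin n) K) - 1).rank = n - 1} = Nat.gcd n (q + 1) := by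
  classical
  obtain ⟨σ, hq, hσ, c, hc⟩ := exists_conjugation hK
  obtain ⟨m, rfl⟩ : ∃ m, n = m + 1 := ⟨n - 1, by omega⟩
  let emb : ↥(Cfsg.SU (m + 1) K q) → ↥(Cfsg.GU (m + 1) K q) := fun s => ⟨(s : GL (Fin (m + 1)) K), s.2⟩
  have hemb : ∀ s t, emb (s * t) = emb s * emb t := fun s t => Subtype.ext (map_mul _ _ _)
  have hinj : Function.Injective emb := fun s t h => Subtype.ext (Subtype.ext (congrArg (fun g : ↥(Cfsg.GU (m + 1) K q) => ((g : GL (Fin (m + 1)) K) : Matrix (Fin (m + 1)) (Fin (m + 1)) K)) h))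
  have hdetemb : ∀ s, Matrix.GeneralLinearGroup.det (emb s : GL (Fin (m + 1)) K) = 1 := fun s => Units.ext s.1.2
  have hsurj : ∀ g : ↥(Cfsg.GU (m + 1) K q), Matrix.GeneralLinearGroup.det (g : GL (Fin (m + 1)) K) = 1 →
      ∃ s, emb s = g := by
    intro g hg
    exact ⟨⟨⟨((g : GL (Fin (m + 1)) K) : Matrix (Fin (m + 1)) (Fin (m + 1)) K), congrArg Units.val hg⟩, g.2⟩,
      Subtype.ext (Units.ext rfl)⟩
  obtain ⟨A, hA, hAdet, hAu⟩ := exists_unitary hσ c hc m
  let u0 : ↥(Cfsg.GU (m + 1) K q) := ⟨Matrix.GeneralLinearGroup.mkOfDetNeZero A (by rw [hAdet]; exact one_ne_zero),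
    (mem_GU_iff hq hσ _).2 hAu⟩
  have hu0 : Matrix.GeneralLinearGroup.det (u0 : GL (Fin (m + 1)) K) = 1 := Units.ext hAdet
  let D : ↥(Cfsg.GU (m + 1) K q) →* U1 K q :=
    (Matrix.GeneralLinearGroup.det.comp (Cfsg.GU (m + 1) K q).subtype).codRestrict (U1 K q) (det_mem hq hσ)
  let N : Subgroup (U1 K q) := (powMonoidHom (m + 1)).range
  have hDdiag : ∀ d : U1 K q, ∃ g, D g = d := by
    intro d
    set Dg : Matrix (Fin (m + 1)) (Fin (m + 1)) K := Matrix.diagonal (fun i => if i = 0 then ((d : Kˣ) : K) else 1)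
    have hdet : Dg.det = ((d : Kˣ) : K) := by simp [Dg]
    have hd : ((d : Kˣ) : K) ^ (q + 1) = 1 := by
      rw [← Units.val_pow_eq_pow_val]; exact congrArg Units.val d.2
    refine ⟨⟨Matrix.GeneralLinearGroup.mkOfDetNeZero Dg (by rw [hdet]; exact Units.ne_zero _), (mem_GU_iff hq hσ _).2 ?_⟩, ?_⟩
    · show ct σ Dg * Dg = 1
      simp only [Dg, ct, Matrix.diagonal_map (map_zero σ), Matrix.diagonal_transpose, Matrix.diagonal_mul_diagonal]
      rw [← Matrix.diagonal_one]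
      congr 1
      funext i
      by_cases hi : i = 0
      · simp only [hi, if_true, hq, ← pow_succ, hd]
      · simp [hi]
    · exact Subtype.ext (Units.ext hdet)
  have hg : ∀ x : ↥(Cfsg.GU (m + 1) K q), ∃ s, emb s = x * u0 * x⁻¹ := fun x => hsurj _ (by
    rw [Subgroup.coe_mul, Subgroup.coe_mul, map_mul, map_mul, hu0, mul_one, Subgroup.coe_inv, map_inv, mul_inv_cancel])
  choose g hg using hg
  let S := {C : ConjClasses ↥(Cfsg.SU (m + 1) K q) // ∃ u : ↥(Cfsg.SU (m + 1) K q), ConjClasses.mk u = C ∧ (((u : GL (Fin (m + 1)) K) : Matrix (Fin (m + 1)) (Fin (m + 1)) K) - 1) ^ (m + 1) = 0 ∧ (((u : GL (Fin (m + 1)) K) : Matrix (Fin (m + 1)) (Fin (m + 1)) K) - 1).rank = (m + 1) - 1}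
  have hgRU : ∀ x, IsRU ((((g x) : GL (Fin (m + 1)) K) : Matrix (Fin (m + 1)) (Fin (m + 1)) K)) := by
    intro x
    rw [show (((g x) : GL (Fin (m + 1)) K)) = ((emb (g x) : ↥(Cfsg.GU (m + 1) K q)) : GL (Fin (m + 1)) K) from rfl, hg x]
    exact isRU_conj (x : GL (Fin (m + 1)) K) hA
  let F : ↥(Cfsg.GU (m + 1) K q) → S := fun x => ⟨ConjClasses.mk (g x), g x, rfl, hgRU x⟩
  have hF : Function.Surjective F := by
    rintro ⟨C, u, rfl, hu⟩
    obtain ⟨P, hPu, hP⟩ := RegularNilpotent.exists_conj (Fintype.card_fin _) hA.1 hA.2 hu.1 hu.2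
    rw [mul_sub, sub_mul, mul_one, one_mul, sub_left_inj] at hP
    obtain ⟨P', rfl⟩ := hPu
    obtain ⟨x, hx⟩ := isConj_iff.1 (UnitaryPrimeOrderClasses.isConj_of_linear hq hσ c hc u0 (emb u) P' (Units.ext hP))
    exact ⟨x, Subtype.ext (congrArg ConjClasses.mk (hinj ((hg x).trans hx)))⟩
  let Θ : ↥(Cfsg.GU (m + 1) K q) → U1 K q ⧸ N := fun x => QuotientGroup.mk (D x)
  have hΘ : Function.Surjective Θ := fun y => by
    obtain ⟨d, rfl⟩ := QuotientGroup.mk_surjective y
    obtain ⟨x, hx⟩ := hDdiag d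
    exact ⟨x, congrArg _ hx⟩
  have hDC : ∀ z : ↥(Cfsg.GU (m + 1) K q), z * u0 = u0 * z → D z ∈ N := by
    intro z hz
    obtain ⟨d, hd⟩ := centraliser_det hq hσ (Nat.succ_pos m) u0 z hA hz
    exact ⟨d, Subtype.ext hd.symm⟩
  have hker : ∀ x y, F x = F y ↔ Θ x = Θ y := by
    intro x y
    rw [Subtype.ext_iff]
    show ConjClasses.mk (g x) = ConjClasses.mk (g y) ↔ QuotientGroup.mk (D x) = QuotientGroup.mk (D y)
    rw [ConjClasses.mk_eq_mk_iff_isConj, isConj_iff, QuotientGroup.eq]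
    constructor
    · rintro ⟨s, hs⟩
      have hz : (y⁻¹ * emb s * x) * u0 = u0 * (y⁻¹ * emb s * x) := by
        have h := congrArg emb (eq_mul_inv_iff_mul_eq.1 hs.symm)
        rw [hemb, hemb, hg, hg] at h
        calc (y⁻¹ * emb s * x) * u0 = y⁻¹ * (emb s * (x * u0 * x⁻¹)) * x := by group
          _ = y⁻¹ * ((y * u0 * y⁻¹) * emb s) * x := by rw [h]
          _ = _ := by group
      have := hDC _ hz
      rw [map_mul, map_mul, show D (emb s) = 1 from Subtype.ext (hdetemb s), mul_one, map_inv, mul_comm] at this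
      have h' := N.inv_mem this
      rwa [_root_.mul_inv_rev, inv_inv, mul_comm] at h'
    · rintro ⟨d, hd⟩
      -- scalar in the centraliser
      have hd1 : ((d : Kˣ) : K) ^ (q + 1) = 1 := by
        rw [← Units.val_pow_eq_pow_val]; exact congrArg Units.val d.2
      set Sc : Matrix (Fin (m + 1)) (Fin (m + 1)) K := ((d : Kˣ) : K) • 1 with hSc
      have hScdet : Sc.det = ((d : Kˣ) : K) ^ (m + 1) := by simp [hSc]
      let z : ↥(Cfsg.GU (m + 1) K q) := ⟨Matrix.GeneralLinearGroup.mkOfDetNeZero Sc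
        (by rw [hScdet]; exact pow_ne_zero _ (Units.ne_zero _)), (mem_GU_iff hq hσ _).2 (by
          show ct σ Sc * Sc = 1
          have : ct σ Sc = σ ((d : Kˣ) : K) • 1 := by
            ext i j
            by_cases hij : i = j <;> simp [ct, hSc, hij, Ne.symm]
          rw [this, hSc, smul_mul_smul_comm, one_mul, hq, ← pow_succ, hd1, one_smul])⟩
      have hDz : D z = (D x)⁻¹ * D y := by
        rw [← hd]
        exact Subtype.ext (Units.ext (by rw [powMonoidHom_apply, SubgroupClass.coe_pow, Units.val_pow_eq_pow_val]; exact hScdet))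
      have hzc : ∀ w : ↥(Cfsg.GU (m + 1) K q), z * w = w * z := fun w => Subtype.ext (Units.ext (by
        show Sc * _ = _ * Sc
        rw [hSc, smul_mul_assoc, one_mul, mul_smul_comm, mul_one]))
      obtain ⟨s, hs⟩ := hsurj (y * z⁻¹ * x⁻¹) (congrArg Subtype.val (show D (y * z⁻¹ * x⁻¹) = 1 by
        rw [map_mul, map_mul, map_inv, map_inv, hDz, _root_.mul_inv_rev, inv_inv, mul_inv_cancel_left, mul_inv_cancel]))
      refine ⟨s, eq_mul_inv_iff_mul_eq.2 (hinj ?_) |>.symm⟩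
      rw [hemb, hemb, hg, hg, hs]
      calc y * u0 * y⁻¹ * (y * z⁻¹ * x⁻¹) = y * (u0 * z⁻¹) * x⁻¹ := by group
        _ = y * (z⁻¹ * u0) * x⁻¹ := by rw [(Commute.inv_left (hzc u0 : Commute z u0)).eq]
        _ = y * z⁻¹ * x⁻¹ * (x * u0 * x⁻¹) := by group
  have e : S ≃ U1 K q ⧸ N :=
    (Setoid.quotientKerEquivOfSurjective F hF).symm.trans
      ((Quotient.congrRight fun x y => hker x y).trans (Setoid.quotientKerEquivOfSurjective Θ hΘ))
  show Nat.card S = _
  rw [Nat.card_congr e, ← Subgroup.index_eq_card]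
  show (powMonoidHom (m + 1) : U1 K q →* U1 K q).range.index = _
  rw [IsCyclic.index_powMonoidHom_range, card_U1 hK, Nat.gcd_comm]

end Cfsg.Agent.S2643
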