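import Cfsg.Statements.S2645
import Cfsg.Agent.Lib.SympSemisimpleClasses
import Cfsg.Agent.Lib.SelfReciprocalFactors
open Polynomial

set_option autoImplicit false
open Cfsg

namespace Cfsg.Agent.S2645

/-- Number of conjugacy classes of elements of odd prime order r, r different from the characteristic, in the symplectic group Sp_2m(q): let i be the multiplicative order of q modulo r and t = (r − 1)/i. If i is odd the eigenvalue orbits pair off (Λ ≠ Λ⁻¹) and the classes correspond to the non-zero (t/2)-tuples (a_j) with 2i Σ a_j ≤ 2m, giving C(⌊m/i⌋ + t/2, t/2) − 1 classes; if i is even (Λ = Λ⁻¹) they correspond to the non-zero t-tuples with i Σ a_j ≤ 2m, giving C(⌊2m/i⌋ + t, t) − 1 classes. -/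
theorem result {F : Type*} [Field F] [Fintype F] {p q : ℕ} [Fact p.Prime] [CharP F p] (hF : Fintype.card F = q) (m r i t : ℕ) (hr : r.Prime) (hr2 : r ≠ 2) (hrp : r ≠ p) (hi : i = orderOf (q : ZMod r)) (ht : t * i = r - 1) : Nat.card {C : ConjClasses ↥(Matrix.symplecticGroup (Fin m) F) // ∃ g : Matrix.symplecticGroup (Fin m) F, ConjClasses.mk g = C ∧ orderOf g = r} = if Odd i then Nat.choose (m / i + t / 2) (t / 2) - 1 else Nat.choose (2 * m / i + t) t - 1 := by
  classical
  obtain ⟨hi0, S, ρ, hcard, hS, hρ, hcover⟩ :=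
    Cfsg.Agent.SelfReciprocalFactors.exists_blocks (p := p) hF hr hr2 hrp hi ht
  let e := if Odd i then 2 * i else i
  have hm : ∀ B ∈ S, B.Monic := fun B hB => (hS B hB).1
  have hd : ∀ B ∈ S, B.natDegree = e := fun B hB => (hS B hB).2.1
  have he : 0 < e := by simp only [e]; split_ifs <;> omega
  have hee : Even e := by
    simp only [e]
    split_ifs with h
    · exact even_two_mul i
    · exact Nat.not_odd_iff_even.1 h
  let T := Cfsg.Agent.PrimeOrderClassCount.prods S e (2 * m)
  have hcardι : Fintype.card (Fin m ⊕ Fin m) = 2 * m := by simp [two_mul]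
  have hT : ∀ P ∈ T, ∃ N, P ∣ (X ^ r - 1) ^ N := by
    rintro P ⟨f, -, rfl⟩
    refine ⟨(2 * m - e * ∑ B ∈ S, f B) + ∑ B ∈ S, 2 * f B, ?_⟩
    rw [pow_add, ← Finset.prod_pow_eq_pow_sum]
    refine mul_dvd_mul (pow_dvd_pow_of_dvd (Cfsg.Agent.PrimeOrderClassCount.lin_dvd_X_pow_sub_one r) _)
      (Finset.prod_dvd_prod_of_dvd _ _ fun B hB => ?_)
    rw [pow_mul]
    exact pow_dvd_pow_of_dvd (hS B hB).2.2.2.1 _
  have hTm : ∀ P ∈ T, P.mirror = P := by
    rintro P ⟨f, -, rfl⟩
    have hpow : ∀ (a : F[X]) (k : ℕ), a.mirror = a → (a ^ k).mirror = a ^ k := by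
      intro a k ha
      induction k with
      | zero => rw [pow_zero, ← C_1, mirror_C]
      | succ k ih => rw [pow_succ, mirror_mul_of_domain, ih, ha]
    have hprod : (∏ B ∈ S, B ^ f B).mirror = ∏ B ∈ S, B ^ f B :=
      Finset.prod_induction _ (fun a : F[X] => a.mirror = a)
        (fun a b ha hb => by rw [mirror_mul_of_domain, ha, hb]) (by rw [← C_1, mirror_C])
        fun B hB => hpow B _ (hS B hB).2.2.1
    obtain ⟨c, hc⟩ : Even (2 * m - e * ∑ B ∈ S, f B) :=
      Even.tsub (even_two_mul m) (hee.mul_right _)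
    rw [mirror_mul_of_domain, hprod, hc, ← two_mul, pow_mul,
      hpow _ _ Cfsg.Agent.SelfReciprocalFactors.lin_sq_mirror]
  have hpal : ∀ g : Matrix.symplecticGroup (Fin m) F, g.1.charpoly.mirror = g.1.charpoly := by
    intro g
    have h2m : g.1.charpoly.natDegree = 2 * m := by rw [Matrix.charpoly_natDegree_eq_dim, hcardι]
    have h0 : g.1.charpoly.coeff 0 = 1 := by
      rw [Cfsg.Agent.SympSemisimpleClasses.charpoly_coeff_palindromic g.2 (Nat.zero_le _), Nat.sub_zero,
        ← h2m]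
      exact (Matrix.charpoly_monic g.1).coeff_natDegree
    have ht0 : g.1.charpoly.natTrailingDegree = 0 :=
      natTrailingDegree_eq_zero.2 (Or.inr (by rw [h0]; exact one_ne_zero))
    ext k
    rw [coeff_mirror, h2m, ht0, add_zero]
    rcases le_or_gt k (2 * m) with hk | hk
    · rw [revAt_le hk, ← Cfsg.Agent.SympSemisimpleClasses.charpoly_coeff_palindromic g.2 hk]
    · rw [revAt_eq_self_of_lt hk]
  rw [Cfsg.Agent.PrimeOrderClassCount.card_classes (ι := Fin m ⊕ Fin m) (F := F) (p := p) hr hrp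
    (Cfsg.Agent.SympSemisimpleClasses.unitsHom m F) ?_
    (fun g h hg hh => Cfsg.Agent.SympSemisimpleClasses.isConj_of_charpoly g h hg hh) T ?_ ?_ hT,
    Cfsg.Agent.PrimeOrderClassCount.ncard_prods he hm ρ hρ (fun B hB => (hS B hB).2.2.2.2)]
  · simp only [e]
    split_ifs with h
    · rw [hcard, if_pos h, Nat.mul_div_mul_left _ _ two_pos]
    · rw [hcard, if_neg h]
  · intro g h hgh
    exact Subtype.ext (congrArg Units.val hgh)
  · intro g hg
    refine Cfsg.Agent.PrimeOrderClassCount.mem_prods hm hd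
      (Cfsg.Agent.SelfReciprocalFactors.Adm r) (fun P h => h.1) ?_ (2 * m) _
      ⟨Matrix.charpoly_monic _, hpal g, fun μ _ hirr hdv =>
        Cfsg.Agent.PrimeOrderClassCount.dvd_of_pow_eq_one
          (by rw [← Units.val_pow_eq_pow_val, ← map_pow, hg, map_one, Units.val_one]) hirr hdv⟩
      (by rw [Matrix.charpoly_natDegree_eq_dim, hcardι])
    intro P μ hP hμ hirr hdv hne
    obtain ⟨B, hB, hBd⟩ := hcover μ ⟨hμ, hirr, hP.2.2 μ hμ hirr hdv, hne⟩
    obtain ⟨P', hP'⟩ := hBd P hP.2.1 hdv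
    exact ⟨B, hB, by rw [hd B hB]; omega, P', hP',
      Cfsg.Agent.SelfReciprocalFactors.adm_of_dvd (hm B hB) (hS B hB).2.2.1 hP hP'⟩
  · intro P hP
    obtain ⟨hPm, hPd⟩ := Cfsg.Agent.PrimeOrderClassCount.prods_natDegree hm hd hP
    obtain ⟨g, hg⟩ := Cfsg.Agent.SympSemisimpleClasses.exists_halfCoeffs (F := F) (n := m)
      fun j => P.coeff (j + 1)
    refine ⟨g, ?_⟩
    show g.1.charpoly = P
    have hPsym : ∀ k ≤ 2 * m, P.coeff k = P.coeff (2 * m - k) := by
      intro k hk
      have h0 : P.natTrailingDegree = 0 := by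
        refine natTrailingDegree_eq_zero.2 (Or.inr fun hc => ?_)
        obtain ⟨N, Z, hZ⟩ := hT P hP
        have h1 := congrArg (eval 0) hZ
        rw [eval_mul, ← Polynomial.coeff_zero_eq_eval_zero P, hc, zero_mul] at h1
        simp [hr.ne_zero] at h1
      conv_lhs => rw [← hTm P hP, coeff_mirror, h0, hPd, add_zero, revAt_le hk]
    have htop : P.coeff (2 * m) = 1 := hPd ▸ hPm.coeff_natDegree
    have h2m : g.1.charpoly.natDegree = 2 * m := by rw [Matrix.charpoly_natDegree_eq_dim, hcardι]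
    have hlow : ∀ k ≤ m, g.1.charpoly.coeff k = P.coeff k := by
      intro k hk
      rcases k with _ | j
      · rw [Cfsg.Agent.SympSemisimpleClasses.charpoly_coeff_palindromic g.2 (Nat.zero_le _),
          hPsym 0 (Nat.zero_le _), Nat.sub_zero, htop, ← h2m]
        exact (Matrix.charpoly_monic g.1).coeff_natDegree
      · exact congrFun hg ⟨j, hk⟩
    ext k
    rcases le_or_gt k m with hk | hk
    · exact hlow k hk
    rcases le_or_gt k (2 * m) with hk' | hk'
    · rw [Cfsg.Agent.SympSemisimpleClasses.charpoly_coeff_palindromic g.2 hk', hPsym k hk',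
        hlow _ (by omega)]
    · rw [coeff_eq_zero_of_natDegree_lt (h2m ▸ hk'), coeff_eq_zero_of_natDegree_lt (hPd ▸ hk')]

end Cfsg.Agent.S2645
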