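import Cfsg.Statements.S2646
import Cfsg.Agent.Lib.OrthUnitaryUnipotentCount
-- import your own Cfsg.Agent.* helpers here

set_option autoImplicit false
open Cfsg

namespace Cfsg.Agent.S2646

open Cfsg.Agent.JordanType Cfsg.Agent.S2581 Cfsg.Agent.HermitianFactor Cfsg.Agent.OrthUnitaryUnipotent

/-- Order of the centraliser in the general unitary group GU_n(q) of a unipotent element of given Jordan type: if u ∈ GU_n(q) (isometries of Σ u_i v_i^q over the field with q² elements) is similar to the unipotent matrix with a_i Jordan blocks of size i (all sizes at least 1), then its centraliser in GU_n(q) has order q^γ · Π_i |GU_(a_i)(q)| with γ = 2 Σ_(i<j) i a_i a_j + Σ_i (i − 1) a_i², the same exponent as in GL_n(q), where |GU_a(q)| = q^(a(a−1)/2) Π_(k=1)^a (q^k − (−1)^k). -/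
theorem result {K : Type*} [Field K] [Fintype K] {q n t : ℕ} (hK : Fintype.card K = q ^ 2) (d : Fin t → ℕ) (hd : ∀ k, 1 ≤ d k) (e : ((k : Fin t) × Fin (d k)) ≃ Fin n) (u : ↥(Cfsg.GU n K q)) (hu : IsConj (Matrix.reindex e e (Cfsg.jordanTypeMatrix d K)) ((u : GL (Fin n) K) : Matrix (Fin n) (Fin n) K)) : (Nat.card ↥(Subgroup.centralizer ({u} : Set ↥(Cfsg.GU n K q))) : ℤ) = (q : ℤ) ^ (2 * (∑ i ∈ Finset.range (Finset.univ.sup d + 1), ∑ j ∈ Finset.range (Finset.univ.sup d + 1), if i < j then i * (Finset.univ.filter (fun k : Fin t => d k = i)).card * (Finset.univ.filter (fun k : Fin t => d k = j)).card else 0) + ∑ i ∈ Finset.range (Finset.univ.sup d + 1), (i - 1) * (Finset.univ.filter (fun k : Fin t => d k = i)).card ^ 2) * ∏ i ∈ Finset.range (Finset.univ.sup d + 1), ((q : ℤ) ^ ((Finset.univ.filter (fun k : Fin t => d k = i)).card * ((Finset.univ.filter (fun k : Fin t => d k = i)).card - 1) / 2) * ∏ j : Fin (Finset.univ.filter (fun k : Fin t => d k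 = i)).card, ((q : ℤ) ^ ((j : ℕ) + 1) - (-1) ^ ((j : ℕ) + 1))) := by
  classical
  obtain ⟨σ, hq, hσ, c, hc⟩ := Cfsg.Agent.HermitianFactor.exists_conjugation hK
  obtain ⟨P, hP⟩ := hu
  let e' : Matrix (Fin n) (Fin n) K ≃ₐ[K] Matrix (Ix d) (Ix d) K := Matrix.reindexAlgEquiv K K e.symm
  let A : Matrix (Fin n) (Fin n) K := ((u : GL (Fin n) K) : Matrix (Fin n) (Fin n) K)
  let Pm : Matrix (Fin n) (Fin n) K := (P : Matrix (Fin n) (Fin n) K)
  let Pi' : Matrix (Fin n) (Fin n) K := ((P⁻¹ : (Matrix (Fin n) (Fin n) K)ˣ) : Matrix (Fin n) (Fin n) K)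
  have hPi : Pm * Pi' = 1 := P.mul_inv
  have hiP : Pi' * Pm = 1 := P.inv_mul
  have hJr : e' (Pi' * A * Pm) = 1 + sh d K 1 := by
    have h1 : Pi' * A * Pm = Matrix.reindex e e (Cfsg.jordanTypeMatrix d K) := by
      rw [mul_assoc, ← hP.eq, ← mul_assoc, hiP, one_mul]
    rw [h1, jordanTypeMatrix_eq]
    ext p r
    simp [e', Matrix.one_apply]
  let G : Matrix (Ix d) (Ix d) K := e' (ct σ Pm * Pm)
  have hcte : ∀ X : Matrix (Fin n) (Fin n) K, ct σ (e' X) = e' (ct σ X) := fun X => by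
    ext p r
    simp [e', ct]
  have hGu : IsUnit G := ((isUnit_ct P.isUnit).mul P.isUnit).map e'.toAlgHom
  have hG : ct σ G = G := by simp only [G, hcte, ct_mul, ct_ct hσ]
  have hu1 : ct σ A * A = 1 := (mem_GU_iff hq hσ _).1 u.2
  have hcc : ct σ Pi' * ct σ Pm = 1 := by rw [← ct_mul, hPi, ct_one]
  have hJ : ct σ (1 + sh d K 1) * G * (1 + sh d K 1) = G := by
    rw [← hJr, hcte]
    simp only [G, ← map_mul, ct_mul]
    congr 1
    calc _ = ct σ Pm * ct σ A * (ct σ Pi' * ct σ Pm) * (Pm * Pi') * A * Pm := by simp only [mul_assoc]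
      _ = ct σ Pm * (ct σ A * A) * Pm := by rw [hcc, hPi]; simp only [mul_one, mul_assoc]
      _ = _ := by rw [hu1, mul_one]
  have hiff : ∀ X : Matrix (Fin n) (Fin n) K, (X * A = A * X ∧ ct σ X * X = 1) ↔
      (e' (Pi' * X * Pm) ∈ comm d K ∧ ct σ (e' (Pi' * X * Pm)) * G * e' (Pi' * X * Pm) = G) := by
    intro X
    have e1 : e' (Pi' * X * Pm) * (1 + sh d K 1) = (1 + sh d K 1) * e' (Pi' * X * Pm) ↔ X * A = A * X := by
      rw [← hJr, ← map_mul, ← map_mul, e'.injective.eq_iff]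
      constructor
      · intro h
        have h' := congrArg (fun Z => Pm * Z * Pi') h
        simp only [← mul_assoc, hPi, one_mul] at h'
        simp only [mul_assoc, hPi, mul_one] at h'
        exact h'
      · intro h
        calc Pi' * X * Pm * (Pi' * A * Pm) = Pi' * (X * (Pm * Pi') * A) * Pm := by simp only [mul_assoc]
          _ = Pi' * (A * (Pm * Pi') * X) * Pm := by rw [hPi, mul_one, mul_one, h]
          _ = _ := by simp only [mul_assoc]
    have e2 : ct σ (e' (Pi' * X * Pm)) * G * e' (Pi' * X * Pm) = G ↔ ct σ X * X = 1 := by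
      simp only [G, hcte, ← map_mul, e'.injective.eq_iff, ct_mul]
      have : ct σ Pm * (ct σ X * ct σ Pi') * (ct σ Pm * Pm) * (Pi' * X * Pm) = ct σ Pm * (ct σ X * X) * Pm := by
        calc _ = ct σ Pm * ct σ X * (ct σ Pi' * ct σ Pm) * (Pm * Pi') * X * Pm := by simp only [mul_assoc]
          _ = _ := by rw [hcc, hPi]; simp only [mul_one, mul_assoc]
      rw [this]
      constructor
      · intro h
        have h' := (isUnit_ct (σ := σ) P.isUnit).mul_left_cancel (a := ct σ Pm)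
          (show ct σ Pm * ((ct σ X * X) * Pm) = ct σ Pm * Pm by rw [← mul_assoc]; exact h)
        exact P.isUnit.mul_right_cancel (h'.trans (one_mul _).symm)
      · intro h; rw [h, mul_one]
    rw [← e2, ← e1, mem_comm, mul_add, add_mul, mul_one, one_mul, add_right_inj]
  have hmem : ∀ g : ↥(Cfsg.GU n K q), g ∈ Subgroup.centralizer ({u} : Set ↥(Cfsg.GU n K q)) ↔
      ((g : GL (Fin n) K) : Matrix (Fin n) (Fin n) K) * A = A * ((g : GL (Fin n) K) : Matrix (Fin n) (Fin n) K) := by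
    intro g
    rw [Subgroup.mem_centralizer_singleton_iff]
    exact ⟨fun h => congrArg (fun z : ↥(Cfsg.GU n K q) => ((z : GL (Fin n) K) : Matrix (Fin n) (Fin n) K)) h,
      fun h => Subtype.ext (Units.ext h)⟩
  have hcard : Nat.card ↥(Subgroup.centralizer ({u} : Set ↥(Cfsg.GU n K q))) =
      Nat.card {Y : Matrix (Ix d) (Ix d) K // Y ∈ comm d K ∧ ct σ Y * G * Y = G} := by
    refine Nat.card_eq_of_bijective (fun g => ⟨e' (Pi' * ((g.1 : GL (Fin n) K) : Matrix (Fin n) (Fin n) K) * Pm),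
      (hiff _).1 ⟨(hmem g.1).1 g.2, (mem_GU_iff hq hσ _).1 g.1.2⟩⟩) ⟨fun g g' h => ?_, fun Y => ?_⟩
    · have h' := e'.injective (congrArg Subtype.val h)
      exact Subtype.ext (Subtype.ext (Units.ext ((P⁻¹).isUnit.mul_left_cancel (P.isUnit.mul_right_cancel h'))))
    · have hX : Pi' * (Pm * e'.symm Y.1 * Pi') * Pm = e'.symm Y.1 := by
        simp only [mul_assoc, hiP, mul_one]; rw [← mul_assoc, hiP, one_mul]
      have hY := (hiff (Pm * e'.symm Y.1 * Pi')).2 (by rw [hX, AlgEquiv.apply_symm_apply]; exact Y.2)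
      let g : GL (Fin n) K := ⟨_, _, mul_eq_one_comm.1 hY.2, hY.2⟩
      let g' : ↥(Cfsg.GU n K q) := ⟨g, (mem_GU_iff hq hσ g).2 hY.2⟩
      refine ⟨⟨g', (hmem g').2 hY.1⟩, Subtype.ext ?_⟩
      show e' (Pi' * (Pm * e'.symm Y.1 * Pi') * Pm) = Y.1
      rw [hX, AlgEquiv.apply_symm_apply]
  rw [hcard, card_unitary hK hq hσ c hc hd hGu hG hJ, Nat.cast_mul, Nat.cast_pow, Nat.cast_prod,
    Fin.prod_univ_eq_prod_range (fun j => (Nat.card ↥(Cfsg.GU (cnt d j) K q) : ℤ))]
  congr 1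
  refine Finset.prod_congr rfl fun j _ => ?_
  exact card_GU_int hK (cnt d j)

end Cfsg.Agent.S2646
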