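import Cfsg.Statements.S2648
import Mathlib
import Cfsg.Agent.Lib.LinearPGroupDL73
import Cfsg.Agent.Lib.DerivedLengthLower73

set_option autoImplicit false
set_option linter.all false
open Cfsg

namespace Cfsg.Agent.S2648

open Cfsg.Agent
open Cfsg.Agent.DerivedLengthLower73
open scoped commutatorElement

theorem two_ne_zero_of_card {F : Type*} [Field F] [Fintype F] (hodd : Odd (Fintype.card F)) : (2 : F) ≠ 0 := by
  intro h
  have : CharP F 2 := by
    obtain ⟨r, hr⟩ := CharP.exists F
    have hd : r ∣ 2 := (CharP.cast_eq_zero_iff F r 2).mp (by simpa using h)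
    rcases (Nat.dvd_prime Nat.prime_two).mp hd with h1 | h1
    · exact absurd h1 (CharP.char_ne_one F r)
    · exact h1 ▸ hr
  obtain ⟨j, _, hj⟩ := FiniteField.card F 2
  rw [hj, Nat.odd_pow_iff j.ne_zero] at hodd
  exact absurd hodd (by decide)

theorem exists_sq_add_sq_eq_neg_one {F : Type*} [Field F] [Fintype F] (hodd : Odd (Fintype.card F)) :
    ∃ a b : F, a ^ 2 + b ^ 2 = -1 := by
  obtain ⟨a, b, h⟩ := FiniteField.exists_root_sum_quadratic (R := F) (f := Polynomial.X ^ 2)
    (g := Polynomial.X ^ 2 - Polynomial.C (-1)) (Polynomial.degree_X_pow 2)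
    (Polynomial.degree_X_pow_sub_C (by decide) _) (Nat.odd_iff.mp hodd)
  simp at h
  exact ⟨a, b, by linear_combination h⟩

theorem base_sp {F : Type*} [Field F] [Fintype F] (hodd : Odd (Fintype.card F)) :
    HasPDL 2 1 (Matrix.symplecticGroup (Fin 1) F) := by
  classical
  obtain ⟨a, b, hab⟩ := exists_sq_add_sq_eq_neg_one hodd
  let mx : Matrix (Fin 1 ⊕ Fin 1) (Fin 1 ⊕ Fin 1) F := Matrix.fromBlocks 0 1 (-1) 0
  let my : Matrix (Fin 1 ⊕ Fin 1) (Fin 1 ⊕ Fin 1) F := Matrix.fromBlocks (a • 1) (b • 1) (b • 1) (-a • 1)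
  have hab' : a * a + b * b = -1 := by linear_combination hab
  have hmx : mx ∈ Matrix.symplecticGroup (Fin 1) F := by
    simp [SymplecticGroup.mem_iff, mx, Matrix.J, Matrix.fromBlocks_multiply, Matrix.fromBlocks_transpose]
  have hmy : my ∈ Matrix.symplecticGroup (Fin 1) F := by
    rw [SymplecticGroup.mem_iff]
    ext i j
    rcases i with i | i <;> rcases j with j | j <;> fin_cases i <;> fin_cases j <;>
      simp [my, Matrix.J, Matrix.fromBlocks_multiply, Matrix.fromBlocks_transpose] <;> first | ring1 | linear_combination hab' | linear_combination -hab'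
  let x : Matrix.symplecticGroup (Fin 1) F := ⟨mx, hmx⟩
  let y : Matrix.symplecticGroup (Fin 1) F := ⟨my, hmy⟩
  let z : Matrix.symplecticGroup (Fin 1) F := ⟨-1, SymplecticGroup.neg_mem (one_mem _)⟩
  have hxx : x * x = z := Subtype.ext (by
    show mx * mx = -1
    simp [mx, Matrix.fromBlocks_multiply, ← Matrix.fromBlocks_one, Matrix.fromBlocks_neg])
  have hyy : y * y = z := Subtype.ext (by
    show my * my = -1
    ext i j
    rcases i with i | i <;> rcases j with j | j <;> fin_cases i <;> fin_cases j <;>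
      simp [my, Matrix.fromBlocks_multiply] <;> first | ring1 | linear_combination hab' | linear_combination -hab')
  have hxy : x * y = z * (y * x) := Subtype.ext (by
    show mx * my = -1 * (my * mx)
    simp [mx, my, Matrix.fromBlocks_multiply, Matrix.fromBlocks_neg])
  have hz : z * z = 1 := Subtype.ext (by show (-1 : Matrix _ _ F) * -1 = 1; simp)
  have hz1 : z ≠ 1 := by
    intro h
    have h1 : (-1 : F) = 1 := by
      simpa [z] using congrFun (congrFun (congrArg Subtype.val h) (Sum.inl 0)) (Sum.inl 0)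
    exact two_ne_zero_of_card hodd (by linear_combination -h1)
  have hzc : ∀ g : Matrix.symplecticGroup (Fin 1) F, z * g = g * z := fun g => Subtype.ext (by
    show -1 * g.1 = g.1 * -1
    simp)
  have h4 : ∀ g : Matrix.symplecticGroup (Fin 1) F, g * g = z → IsPGroup 2 (Subgroup.zpowers g) := by
    intro g hg
    have h : g ^ 2 ^ 2 = 1 := by rw [show (2:ℕ) ^ 2 = 2 * 2 by norm_num, pow_mul, sq g, hg, sq, hz]
    obtain ⟨j, _, hj⟩ := (Nat.dvd_prime_pow Nat.prime_two).mp (orderOf_dvd_of_pow_eq_one h)
    exact IsPGroup.of_card (n := j) (by rw [Nat.card_zpowers, hj])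
  have hconj : y * x * y⁻¹ = x⁻¹ := by
    rw [mul_inv_eq_iff_eq_mul, eq_inv_mul_iff_mul_eq, ← mul_assoc, hxy, mul_assoc, mul_assoc, hxx,
      ← hzc y, ← mul_assoc, hz, one_mul]
  have hnorm : Subgroup.zpowers y ≤ Subgroup.normalizer (Subgroup.zpowers x) := by
    rw [Subgroup.zpowers_le, Subgroup.mem_normalizer_iff]
    intro g
    have hconj' : MulAut.conj y x = x⁻¹ := hconj
    constructor
    · intro hg
      obtain ⟨i, rfl⟩ := Subgroup.mem_zpowers_iff.mp hg
      refine Subgroup.mem_zpowers_iff.mpr ⟨-i, ?_⟩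
      show x ^ (-i) = MulAut.conj y (x ^ i)
      rw [map_zpow, hconj', zpow_neg, inv_zpow]
    · intro hg
      obtain ⟨i, hi⟩ := Subgroup.mem_zpowers_iff.mp hg
      refine Subgroup.mem_zpowers_iff.mpr ⟨-i, (MulAut.conj y).injective ?_⟩
      show MulAut.conj y (x ^ (-i)) = y * g * y⁻¹
      rw [map_zpow, hconj', zpow_neg, inv_zpow, inv_inv, hi]
  set M : Subgroup (Matrix.symplecticGroup (Fin 1) F) := Subgroup.zpowers x ⊔ Subgroup.zpowers y
  refine ⟨M, (h4 x hxx).to_sup_of_normal_left' (h4 y hyy) hnorm, fun hbot => ?_⟩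
  let x' : M := ⟨x, (le_sup_left : Subgroup.zpowers x ≤ M) (Subgroup.mem_zpowers x)⟩
  let y' : M := ⟨y, (le_sup_right : Subgroup.zpowers y ≤ M) (Subgroup.mem_zpowers y)⟩
  have h := Subgroup.commutator_mem_commutator (Subgroup.mem_top x') (Subgroup.mem_top y')
  rw [← commutator_def, ← derivedSeries_one, hbot, Subgroup.mem_bot, commutatorElement_eq_one_iff_mul_comm] at h
  have h' : x * y = y * x := congrArg Subtype.val h
  rw [hxy, mul_eq_right] at h'
  exact hz1 h'

theorem lower_bound {F : Type*} [Field F] [Fintype F] (hodd : Odd (Fintype.card F)) (k : ℕ) :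
    HasPDL 2 (k + 1) (Matrix.symplecticGroup (Fin (2 ^ k)) F) := by
  induction k with
  | zero => exact sp_reindex (finCongr (pow_zero 2).symm) (base_sp hodd)
  | succ k ih =>
    rw [pow_succ]
    exact sp_step ih

/-- The tautological representation of the symplectic group over an extension field. -/
noncomputable def rep {F : Type*} [Field F] (K : Type*) [Field K] [Algebra F K] {l : Type*} [Fintype l] [DecidableEq l] :
    Matrix.symplecticGroup l F →* Module.End K (l ⊕ l → K) :=
  (Matrix.toLinAlgEquiv' (R := K) (n := l ⊕ l)).toMonoidHom.comp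
    ((algebraMap F K).mapMatrix.toMonoidHom.comp (Matrix.symplecticGroup l F).subtype)

theorem rep_injective {F : Type*} [Field F] (K : Type*) [Field K] [Algebra F K] {l : Type*} [Fintype l] [DecidableEq l] :
    Function.Injective (rep (F := F) K (l := l)) := fun A B h =>
  Subtype.ext (Matrix.map_injective (algebraMap F K).injective
    ((Matrix.toLinAlgEquiv' (R := K) (n := l ⊕ l)).injective h))

/-- Let q be odd, F a field with q elements and n ≥ 1. A Sylow 2-subgroup R of the symplectic group Sp_{2n}(F) has derived length exactly k + 1, where 2^k ≤ 2n < 2^{k+1}: the (k+1)-st term of its derived series is trivial and the k-th is not. -/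
theorem result {F : Type*} [Field F] [Fintype F] [DecidableEq F] (q : ℕ) (hF : Fintype.card F = q) (hq : Odd q) (n : ℕ) (hn : 1 ≤ n) (R : Sylow 2 ↥(Matrix.symplecticGroup (Fin n) F)) : derivedSeries ↥(R : Subgroup ↥(Matrix.symplecticGroup (Fin n) F)) (Nat.log 2 (2 * n) + 1) = ⊥ ∧ derivedSeries ↥(R : Subgroup ↥(Matrix.symplecticGroup (Fin n) F)) (Nat.log 2 (2 * n)) ≠ ⊥ := by
  classical
  have hodd : Odd (Fintype.card F) := hF ▸ hq
  have hlog : Nat.log 2 (2 * n) = Nat.log 2 n + 1 := by
    rw [mul_comm]; exact Nat.log_mul_base one_lt_two (by omega)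
  constructor
  · have hchar : ((2 : ℕ) : AlgebraicClosure F) ≠ 0 := by
      rw [Nat.cast_ofNat, ← map_ofNat (algebraMap F (AlgebraicClosure F)) 2, Ne, map_eq_zero]
      exact two_ne_zero_of_card hodd
    let ρ := (rep (F := F) (AlgebraicClosure F) (l := Fin n)).comp (R : Subgroup ↥(Matrix.symplecticGroup (Fin n) F)).subtype
    rw [Subgroup.eq_bot_iff_forall]
    intro g hg
    have h := LinearPGroupDL73.derived_acts_trivial hchar (2 * n) _ R.2 _ ρ (by simp [two_mul]) g hg
    exact Subtype.ext (rep_injective (AlgebraicClosure F) (h.trans (map_one ρ).symm |>.trans (by simp [ρ])))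
  · rw [hlog]
    exact (sp_pad (Nat.pow_log_le_self 2 (by omega)) (lower_bound hodd _)).sylow R

end Cfsg.Agent.S2648
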