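import Cfsg.Statements.S2650
import Cfsg.Agent.Lib.ParkerM23Ext60
import Cfsg.Agent.Lib.ParkerM23Nonsplit60

set_option autoImplicit false
open Cfsg Cfsg.Agent.ParkerM23Ext60

namespace Cfsg.Agent.S2650

/-- A non-split extension of the Mathieu group M₂₃ by its cocode module exists. There is a finite group E with a normal subgroup N, an isomorphism φ from E/N onto M₂₃ = `Spor.M23` (the stabiliser of the extra point `none` in M₂₄ acting on the 24 points `GolayPt`), and a surjective additive homomorphism θ from the binary words on `GolayPt` onto N whose kernel consists of the words of the Golay code `golayCode` and their translates by the unit vector at `none` (so N is elementary abelian of order 2¹¹), such that θ carries the coordinate permutation w ↦ w ∘ σ⁻¹, σ = φ(gN), to conjugation by g on N — and such that N has no complement in E. -/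
theorem result :
    ∃ (E : Type) (_ : Group E) (_ : Finite E) (N : Subgroup E) (_ : N.Normal)
      (φ : E ⧸ N ≃* ↥Cfsg.Spor.M23) (θ : (Cfsg.GolayPt → ZMod 2) →+ Additive ↥N),
      Function.Surjective θ ∧
      (∀ w : Cfsg.GolayPt → ZMod 2, θ w = 0 ↔ (w ∈ Cfsg.golayCode ∨ w + Pi.single none 1 ∈ Cfsg.golayCode)) ∧
      (∀ (g : E) (w : Cfsg.GolayPt → ZMod 2),
        ((θ (w ∘ ⇑(((φ (QuotientGroup.mk g) : ↥Cfsg.Spor.M23) : Equiv.Perm Cfsg.GolayPt)⁻¹))).toMul : E)
          = g * ((θ w).toMul : E) * g⁻¹) ∧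
      ∀ H : Subgroup E, H ⊓ N = ⊥ → H ⊔ N ≠ ⊤ := by
  classical
  let pib : ↥E0 ⧸ Z →* ↥Cfsg.Spor.M23 := QuotientGroup.lift Z pi (by
    intro z hz
    rcases mem_Z.1 hz with rfl | rfl
    · exact map_one _
    · exact pi_gw _)
  have hsurj : Function.Surjective pib := fun s => by
    obtain ⟨g, hg⟩ := pi_surjective s
    exact ⟨QuotientGroup.mk g, hg⟩
  let φ := QuotientGroup.quotientKerEquivOfSurjective pib hsurj
  let θ : (Cfsg.GolayPt → ZMod 2) →+ Additive ↥pib.ker := AddMonoidHom.mk'
    (fun w => Additive.ofMul ⟨QuotientGroup.mk (gw w), pi_gw w⟩) (fun v w => by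
      apply Additive.toMul.injective
      exact Subtype.ext (congrArg QuotientGroup.mk (gw_add v w)))
  refine ⟨↥E0 ⧸ Z, inferInstance, inferInstance, pib.ker, inferInstance, φ, θ, ?_, ?_, ?_, ?_⟩
  · intro n
    obtain ⟨g, hg⟩ := QuotientGroup.mk_surjective ((Additive.toMul n : ↥pib.ker) : ↥E0 ⧸ Z)
    have h1 : pi g = 1 := by
      have h2 : pib (QuotientGroup.mk g) = 1 := by rw [hg]; exact (Additive.toMul n).2
      exact h2
    obtain ⟨w, rfl⟩ := exists_gw_of_pi_eq_one h1
    exact ⟨w, Additive.toMul.injective (Subtype.ext hg)⟩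
  · intro w
    have h1 : θ w = 0 ↔ gw w ∈ Z := by
      rw [← QuotientGroup.eq_one_iff]
      exact ⟨fun h => congrArg (fun a : Additive ↥pib.ker => ((Additive.toMul a : ↥pib.ker) : ↥E0 ⧸ Z)) h,
        fun h => Additive.toMul.injective (Subtype.ext h)⟩
    rw [h1, mem_Z, gw_eq_one_iff]
    refine or_congr_right ?_
    change _ ↔ w + delta ∈ golayCode
    rw [← gw_eq_one_iff, gw_add]
    have hd : gw delta * gw delta = 1 := by
      rw [← gw_add, show delta + delta = (0 : Cfsg.GolayPt → ZMod 2) from funext fun p => two _, gw_zero]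
    constructor
    · intro h; rw [h, hd]
    · intro h; exact mul_right_cancel (h.trans hd.symm)
  · intro x w
    obtain ⟨g, rfl⟩ := QuotientGroup.mk_surjective x
    change (QuotientGroup.mk (gw (Cfsg.Agent.GolayModule.act (pi g).1 w)) : ↥E0 ⧸ Z) = _
    rw [← conj_gw]
    rfl
  · intro H hH htop
    have hsurjH : ∀ s, ∃ h ∈ H, pib h = s := by
      intro s
      obtain ⟨x, rfl⟩ := hsurj s
      have hx : x ∈ H ⊔ pib.ker := htop ▸ Subgroup.mem_top x
      have h2 : pib x ∈ (H ⊔ pib.ker).map pib := Subgroup.mem_map_of_mem pib hx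
      rw [Subgroup.map_sup, (Subgroup.map_eq_bot_iff pib.ker).2 le_rfl, sup_bot_eq] at h2
      exact h2
    choose σ hσH hσ using hsurjH
    choose g hg using fun i => QuotientGroup.mk_surjective (σ (ParkerM23Nonsplit60.m i))
    refine ParkerM23Nonsplit60.no_lifts g (fun i => ?_) (fun r hr => ?_)
    · calc pi (g i) = pib (QuotientGroup.mk (g i)) := rfl
        _ = _ := by rw [hg]; exact hσ _
    · rw [← QuotientGroup.eq_one_iff]
      have hmem : ∀ l : List Bool, ((QuotientGroup.mk (l.map g).prod : ↥E0 ⧸ Z) ∈ H ∧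
          pib (QuotientGroup.mk (l.map g).prod) = (l.map ParkerM23Nonsplit60.m).prod) := by
        intro l
        induction l with
        | nil => exact ⟨one_mem H, map_one pib⟩
        | cons i l ih =>
          rw [List.map_cons, List.prod_cons, List.map_cons, List.prod_cons, QuotientGroup.mk_mul, hg,
            map_mul, hσ, ih.2]
          exact ⟨mul_mem (hσH _) ih.1, rfl⟩
      have h3 : ParkerM23Nonsplit60.relOk r.1 = true := by
        have := List.all_eq_true.1 ParkerM23Nonsplit60.rels_ok r hr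
        simp only [Bool.and_eq_true] at this
        exact this.1.1
      have h4 : (QuotientGroup.mk (r.1.map g).prod : ↥E0 ⧸ Z) ∈ H ⊓ pib.ker :=
        ⟨(hmem r.1).1, ((hmem r.1).2).trans (ParkerM23Nonsplit60.prod_eq_one h3)⟩
      rwa [hH, Subgroup.mem_bot] at h4

end Cfsg.Agent.S2650
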