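import Cfsg.Statements.S2653
import Cfsg.Agent.Lib.AltSectionReduce95

set_option autoImplicit false
open scoped MatrixGroups
open Cfsg

namespace Cfsg.Agent.S2653

/-- Alternating sections of finite linear groups. Let `F` be a finite field of characteristic `p` and `n` a natural number, and suppose some subgroup `H` of GL_n(F) has a normal subgroup `K` with `H ⧸ K` isomorphic to the alternating group of degree `r ≥ 9`. Then `n ≥ r - 2` when `p` divides `r`, and `n ≥ r - 1` otherwise (the smallest degree of a nontrivial projective representation of that alternating group in characteristic `p`). The same bound follows for every classical group with natural module of dimension `n` over `F`, since each is a section of a subgroup of GL_n(F). -/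
theorem result {F : Type*} [Field F] [Fintype F] (p : ℕ) [Fact p.Prime] [CharP F p]
    (n : ℕ) (r : ℕ) (H : Subgroup (GL (Fin n) F)) (K : Subgroup ↥H) [K.Normal]
    (h : Nonempty (↥H ⧸ K ≃* ↥(alternatingGroup (Fin r)))) (hr : 9 ≤ r) :
    r - 1 - (if p ∣ r then 1 else 0) ≤ n := by
  classical
  obtain ⟨e⟩ := h
  let k := AlgebraicClosure F
  have : CharP k p := charP_of_injective_algebraMap (algebraMap F k).injective p
  let ρ : Representation k H (Fin n → k) :=
    (Matrix.toLinAlgEquiv' : Matrix (Fin n) (Fin n) k ≃ₐ[k] _).toAlgHom.toRingHom.toMonoidHom.comp
      ((algebraMap F k).mapMatrix.toMonoidHom.comp ((Units.coeHom _).comp H.subtype))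
  have hinj : Function.Injective ρ :=
    Matrix.toLinAlgEquiv'.injective.comp ((Matrix.map_injective (algebraMap F k).injective).comp
      (Units.val_injective.comp H.subtype_injective))
  let φ : H →* alternatingGroup (Fin r) := e.toMonoidHom.comp (QuotientGroup.mk' K)
  have hφ : Function.Surjective φ := e.surjective.comp (QuotientGroup.mk'_surjective K)
  obtain ⟨h1, h2⟩ := AltSection95.below_all (Module.finrank k (Fin n → k) + Nat.card H + 1)
    k (Fin n → k) H ρ r φ hr hφ hinj (Nat.lt_succ_self _)
  rw [Module.finrank_fin_fun] at h1 h2
  split_ifs with hp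
  · omega
  · have := h2 fun h0 => hp ((CharP.cast_eq_zero_iff k p r).1 h0)
    omega

end Cfsg.Agent.S2653
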