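import Cfsg.Statements.S2657
import Cfsg.Agent.Lib.AltSectionTorus68
import Cfsg.Agent.Lib.AltSectionTorus95
import Cfsg.Agent.Lib.F4WeylEigen68

set_option autoImplicit false
open scoped MatrixGroups
open Cfsg

namespace Cfsg.Agent.S2657

open Cfsg.Lie Cfsg.Agent.ChevalleyCert Cfsg.Agent.ChevWeyl Cfsg.Agent.ChevBruhat
open Cfsg.Agent.F4WeylEigen68 (C X)
open Equiv

theorem hs : suppCheck chevF4 = true := by decide +kernel

theorem hpoly : ChevOrder.polyOK X.chain chevF4.rank [2, 6, 8, 12] = true := by decide +kernel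

theorem card_weyl : Nat.card X.W = 1152 := by
  rw [ChevSylowTorus68.card_W X]
  decide +kernel

theorem three_pow : ¬ (((3 : ℕ) : ℤ) : ZMod 11) ^ 1152 = 1 := by decide +kernel

theorem exists_eleven : ∃ c d : alternatingGroup (Fin 11), orderOf c = 11 ∧ d * c * d⁻¹ = c ^ 3 := by
  let c : Perm (Fin 11) :=
    ⟨fun i => i + 1, fun i => i - 1, fun i => by simp, fun i => by simp⟩
  let d : Perm (Fin 11) := ⟨fun i => 3 * i, fun i => 4 * i, by decide, by decide⟩
  have hc : Perm.sign c = 1 := by decide +kernel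
  have hd : Perm.sign d = 1 := by decide +kernel
  refine ⟨⟨c, hc⟩, ⟨d, hd⟩, ?_, Subtype.ext ?_⟩
  · rw [← Subgroup.orderOf_coe]
    have : Fact (Nat.Prime 11) := ⟨by norm_num⟩
    exact orderOf_eq_prime (by decide +kernel : c ^ 11 = 1) (by decide +kernel : c ≠ 1)
  · show d * c * d⁻¹ = c ^ 3
    decide +kernel

theorem exists_twelve : ∃ c c' d : alternatingGroup (Fin 12), orderOf c = 7 ∧ orderOf c' = 5 ∧
    c * c' = c' * c ∧ d * c * d⁻¹ = c ^ 3 ∧ d * c' * d⁻¹ = c' ^ 2 := by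
  let c : Perm (Fin 12) := ⟨![1, 2, 3, 4, 5, 6, 0, 7, 8, 9, 10, 11],
    ![6, 0, 1, 2, 3, 4, 5, 7, 8, 9, 10, 11], by decide, by decide⟩
  let c' : Perm (Fin 12) := ⟨![0, 1, 2, 3, 4, 5, 6, 8, 9, 10, 11, 7],
    ![0, 1, 2, 3, 4, 5, 6, 11, 7, 8, 9, 10], by decide, by decide⟩
  let d : Perm (Fin 12) := ⟨![0, 3, 6, 2, 5, 1, 4, 7, 9, 11, 8, 10],
    ![0, 5, 3, 1, 6, 4, 2, 7, 10, 8, 11, 9], by decide, by decide⟩
  have hc : Perm.sign c = 1 := by decide +kernel
  have hc' : Perm.sign c' = 1 := by decide +kernel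
  have hd : Perm.sign d = 1 := by decide +kernel
  refine ⟨⟨c, hc⟩, ⟨c', hc'⟩, ⟨d, hd⟩, ?_, ?_, Subtype.ext ?_, Subtype.ext ?_, Subtype.ext ?_⟩
  · rw [← Subgroup.orderOf_coe]
    have : Fact (Nat.Prime 7) := ⟨by norm_num⟩
    exact orderOf_eq_prime (by decide +kernel : c ^ 7 = 1) (by decide +kernel : c ≠ 1)
  · rw [← Subgroup.orderOf_coe]
    have : Fact (Nat.Prime 5) := ⟨by norm_num⟩
    exact orderOf_eq_prime (by decide +kernel : c' ^ 5 = 1) (by decide +kernel : c' ≠ 1)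
  · show c * c' = c' * c; decide +kernel
  · show d * c * d⁻¹ = c ^ 3; decide +kernel
  · show d * c' * d⁻¹ = c' ^ 2; decide +kernel

theorem conj_of_mem_zpowers {A : Type*} [Group A] {s c d : A} {e : ℕ} (hs : Commute s c)
    (h : d * c * d⁻¹ = c ^ e) : s * d * c * (s * d)⁻¹ = c ^ e := by
  rw [show s * d * c * (s * d)⁻¹ = s * (d * c * d⁻¹) * s⁻¹ by group, h, (hs.pow_right e).eq,
    mul_inv_cancel_right]

variable {K : Type*} [Field K] [Fintype K]

/-- the torus as a subgroup -/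
abbrev T : Subgroup ↥(chevF4.group K) := (chevF4.diagonalSubgroup K).subgroupOf (chevF4.group K)

theorem torus_move {r : ℕ} [Fact r.Prime] (hcong : (Fintype.card K : ZMod r) = 1)
    (hr : ∀ e ∈ [2, 6, 8, 12], ¬ r ∣ e) {Q : Subgroup ↥(chevF4.group K)} (hQ : IsPGroup r Q) :
    ∃ a : ↥(chevF4.group K), ∀ x ∈ Q, a * x * a⁻¹ ∈ T := by
  obtain ⟨a, ha, h⟩ := ChevSylowTorus68.exists_conj_torus C X hs ChevalleyTorusCard.smithF4
    [2, 6, 8, 12] hpoly rfl hcong hr hQ
  exact ⟨⟨a, ha⟩, fun x hx => h x hx⟩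

theorem eleven {H : Type*} [Group H] (ι : H →* ↥(chevF4.group K)) (hι : Function.Injective ι)
    (π : H →* alternatingGroup (Fin 11)) (hπ : Function.Surjective π)
    (h11 : (Fintype.card K : ZMod 11) = 1) : False := by
  classical
  have : Fact (Nat.Prime 11) := ⟨by norm_num⟩
  have : Finite H := Finite.of_injective ι hι
  obtain ⟨c, d, hc, hdc⟩ := exists_eleven
  obtain ⟨x, hx⟩ := hπ c
  obtain ⟨y, hy⟩ := hπ d
  obtain ⟨P, hP, -, hPc, ⟨z, hz, hzc⟩, hnorm⟩ :=
    AltSectionLift68.exists_lift π hc ⊤ (Subgroup.mem_top x) hx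
  obtain ⟨s, -, hs', hn⟩ := hnorm y 3 (fun u _ => Subgroup.mem_top _) (by rw [hy, hdc])
  obtain ⟨a, ha⟩ := torus_move h11 (by decide) (hP.map ι)
  let j : H →* GL chevF4.Idx K :=
    (chevF4.group K).subtype.comp ((MulAut.conj a).toMonoidHom.comp ι)
  have hj : Function.Injective j :=
    (chevF4.group K).subtype_injective.comp ((MulAut.conj a).injective.comp hι)
  obtain ⟨v, hv⟩ := TorusAutomiser68.exists_weyl C ChevalleyTorusCard.smithF4 X hs (g := j (s * y))
    (SetLike.coe_mem _)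
  have hgc : π (s * y) * c * (π (s * y))⁻¹ = c ^ 3 := by
    obtain ⟨k, hk⟩ := Subgroup.mem_zpowers_iff.1 hs'
    rw [map_mul, hy, ← hk]
    exact conj_of_mem_zpowers ((Commute.refl c).zpow_left k) hdc
  have h := (AltSectionTorus68.eigen C ChevalleyTorusCard.smithF4 X π j hj hv hc hPc hz hzc hn hgc
    fun x hx => ha (ι x) ⟨x, hx, rfl⟩).2
  rw [card_weyl] at h
  exact three_pow h

theorem twelve {H : Type*} [Group H] (ι : H →* ↥(chevF4.group K)) (hι : Function.Injective ι)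
    (π : H →* alternatingGroup (Fin 12)) (hπ : Function.Surjective π)
    (h7 : (Fintype.card K : ZMod 7) = 1) (h5 : (Fintype.card K : ZMod 5) = 1) : False := by
  classical
  have : Fact (Nat.Prime 7) := ⟨by norm_num⟩
  have : Fact (Nat.Prime 5) := ⟨by norm_num⟩
  have : Finite H := Finite.of_injective ι hι
  obtain ⟨c, c', d, hc, hc', hcc, hdc, hdc'⟩ := exists_twelve
  obtain ⟨x, hx⟩ := hπ c
  obtain ⟨x', hx'⟩ := hπ c'
  obtain ⟨y, hy⟩ := hπ d
  -- the lift of the seven cycle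
  obtain ⟨P, hP, -, hPc, ⟨z, hz, hzc⟩, hnorm⟩ :=
    AltSectionLift68.exists_lift π hc ⊤ (Subgroup.mem_top x) hx
  obtain ⟨s, -, hs', hn1⟩ := hnorm y 3 (fun u _ => Subgroup.mem_top _) (by rw [hy, hdc])
  obtain ⟨t, -, ht', hn5⟩ := hnorm x' 1 (fun u _ => Subgroup.mem_top _)
    (by rw [hx', ← hcc, mul_inv_cancel_right, pow_one])
  obtain ⟨a, ha⟩ := torus_move h7 (by decide) (hP.map ι)
  let ι1 : H →* ↥(chevF4.group K) := (MulAut.conj a).toMonoidHom.comp ι
  have hι1 : Function.Injective ι1 := (MulAut.conj a).injective.comp hι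
  have hPT : ∀ u ∈ P, ι1 u ∈ T := fun u hu => ha (ι u) ⟨u, hu, rfl⟩
  -- the centraliser of the lift contains a lift of the five cycle
  let U : Subgroup H := Subgroup.centralizer (P : Set H)
  have hcent : (t * x') ^ 1152 ∈ U := by
    refine Subgroup.mem_centralizer_iff.2 fun u hu => ?_
    let f : H →* GL chevF4.Idx K := (chevF4.group K).subtype.comp ι1
    have h := TorusAutomiser68.pow_card_commute C ChevalleyTorusCard.smithF4 X hs
      (P := P.map f) (by rintro _ ⟨w, hw, rfl⟩; exact hPT w hw) (g := f (t * x')) (SetLike.coe_mem _)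
      (by rintro _ ⟨w, hw, rfl⟩; exact ⟨_, hn5 w hw, by simp⟩) ⟨u, hu, rfl⟩
    rw [card_weyl, ← map_pow, ← map_inv, ← map_mul, ← map_mul] at h
    have h1 := ((chevF4.group K).subtype_injective.comp hι1) h
    exact (mul_inv_eq_iff_eq_mul.1 h1).symm
  obtain ⟨k, hk⟩ := Subgroup.mem_zpowers_iff.1 ht'
  have hπ5 : π ((t * x') ^ 32256) = c' := by
    rw [map_pow, map_mul, hx', ← hk, ((show Commute c c' from hcc).zpow_left k).mul_pow]
    have h1 : c ^ 32256 = 1 := orderOf_dvd_iff_pow_eq_one.1 (by rw [hc]; decide)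
    have h2 : c' ^ 32256 = c' := by
      rw [← pow_mod_orderOf, hc', show 32256 % 5 = 1 from rfl, pow_one]
    rw [h2, ← zpow_natCast, ← zpow_mul, mul_comm k, zpow_mul, zpow_natCast, h1, one_zpow, one_mul]
  have hmem5 : (t * x') ^ 32256 ∈ U := by
    rw [show 32256 = 1152 * 28 from rfl, pow_mul]; exact pow_mem hcent _
  obtain ⟨Q, hQ, hQU, hQc, ⟨z', hz', hzc'⟩, hnorm'⟩ :=
    AltSectionLift68.exists_lift π hc' U hmem5 hπ5
  set g1 := s * y with hg1
  have hg1U : ∀ u ∈ U, g1 * u * g1⁻¹ ∈ U := by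
    intro u hu
    refine Subgroup.mem_centralizer_iff.2 fun w hw => ?_
    obtain ⟨w', hw', rfl⟩ : ∃ w' ∈ P, g1 * w' * g1⁻¹ = w := by
      have h := Subgroup.mem_normalizer_iff.1 ((Subgroup.mem_normalizer_fintype
        (fun n hn => hn1 n hn) : g1 ∈ Subgroup.normalizer (P : Set H))) (g1⁻¹ * w * g1)
      refine ⟨g1⁻¹ * w * g1, h.2 ?_, by group⟩
      rw [show g1 * (g1⁻¹ * w * g1) * g1⁻¹ = w by group]
      exact hw
    have := Subgroup.mem_centralizer_iff.1 hu w' hw'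
    rw [show g1 * w' * g1⁻¹ * (g1 * u * g1⁻¹) = g1 * (w' * u) * g1⁻¹ by group, this]
    group
  obtain ⟨k1, hk1⟩ := Subgroup.mem_zpowers_iff.1 hs'
  obtain ⟨s2, hs2U, hs2, hn2⟩ := hnorm' g1 2 hg1U (by
    rw [hg1, map_mul, hy, ← hk1]
    exact conj_of_mem_zpowers ((show Commute c c' from hcc).zpow_left k1) hdc')
  obtain ⟨k2, hk2⟩ := Subgroup.mem_zpowers_iff.1 hs2
  set g := s2 * g1 with hg
  have hgc : π g * c * (π g)⁻¹ = c ^ 3 := by
    rw [hg, hg1, map_mul, map_mul, hy, ← hk1, ← hk2, ← mul_assoc]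
    exact conj_of_mem_zpowers
      (((show Commute c' c from hcc.symm).zpow_left k2).mul_left ((Commute.refl c).zpow_left k1)) hdc
  have hgc' : π g * c' * (π g)⁻¹ = c' ^ 2 := by
    rw [hg, hg1, map_mul, map_mul, hy, ← hk1, ← hk2, ← mul_assoc]
    exact conj_of_mem_zpowers
      (((Commute.refl c').zpow_left k2).mul_left ((show Commute c c' from hcc).zpow_left k1)) hdc'
  have hnP : ∀ w ∈ P, g * w * g⁻¹ ∈ P := fun w hw => by
    have h1 := hn1 w hw
    rw [hg, show s2 * g1 * w * (s2 * g1)⁻¹ = s2 * (g1 * w * g1⁻¹) * s2⁻¹ by group,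
      ← Subgroup.mem_centralizer_iff.1 hs2U _ h1, mul_inv_cancel_right]
    exact h1
  -- both in the torus
  have hTcomm : ∀ u ∈ (T : Subgroup ↥(chevF4.group K)), ∀ w ∈ T, u * w = w * u :=
    fun u hu w hw => Subtype.ext (ChevalleyTorus.H_comm C hu hw)
  obtain ⟨b, hb, hb'⟩ := AltSectionLift68.exists_conj_fix T hTcomm
    (AltSectionLift68.not_dvd_index T fun R hR => torus_move h5 (by decide) hR)
    (P := P.map ι1) (Q := Q.map ι1) (by rintro _ ⟨u, hu, rfl⟩; exact hPT u hu) (hQ.map ι1)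
    (by
      rintro _ ⟨u, hu, rfl⟩ _ ⟨w, hw, rfl⟩
      rw [← map_mul, Subgroup.mem_centralizer_iff.1 (hQU hw) u hu, map_mul])
  let j : H →* GL chevF4.Idx K :=
    (chevF4.group K).subtype.comp ((MulAut.conj b).toMonoidHom.comp ι1)
  have hj : Function.Injective j :=
    (chevF4.group K).subtype_injective.comp ((MulAut.conj b).injective.comp hι1)
  obtain ⟨v, hv⟩ := TorusAutomiser68.exists_weyl C ChevalleyTorusCard.smithF4 X hs (g := j g)
    (SetLike.coe_mem _)
  have h7' := (AltSectionTorus68.eigen C ChevalleyTorusCard.smithF4 X π j hj hv hc hPc hz hzc hnP hgc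
    fun u hu => by
      show ((b * ι1 u * b⁻¹ : ↥(chevF4.group K)) : GL chevF4.Idx K) ∈ _
      rw [hb _ ⟨u, hu, rfl⟩]; exact hPT u hu).1
  have h5' := (AltSectionTorus68.eigen C ChevalleyTorusCard.smithF4 X π j hj hv hc' hQc hz' hzc' hn2
    hgc' fun u hu => hb' (ι1 u) ⟨u, hu, rfl⟩).1
  exact F4WeylEigen68.no_eigen v ⟨h7', h5'⟩

theorem pow_sixty {ℓ m : ℕ} [Fact ℓ.Prime] (hm : ¬ ℓ ∣ m) (h : ℓ - 1 ∣ 60) :
    ((m ^ 60 : ℕ) : ZMod ℓ) = 1 := by
  obtain ⟨k, hk⟩ := h
  rw [hk, pow_mul, Nat.cast_pow, Nat.cast_pow,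
    ZMod.pow_card_sub_one_eq_one (fun h => hm ((ZMod.natCast_eq_zero_iff _ _).1 h)), one_pow]

/-- Alternating sections of the groups of type F₄. Let `F` be a finite field of characteristic `p` and let `G` be the Chevalley group of type F₄ over `F`. If some subgroup of `G` has a quotient isomorphic to the alternating group of degree `r`, then `r` is at most 10, or 11 in characteristic 11. (Only an upper bound is asserted.) -/
theorem result {F : Type*} [Field F] [Fintype F] (p : ℕ) [Fact p.Prime] [CharP F p]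
    (r : ℕ) (H : Subgroup ↥(Cfsg.Lie.chevF4.group F)) (K : Subgroup ↥H) [K.Normal]
    (h : Nonempty (↥H ⧸ K ≃* ↥(alternatingGroup (Fin r)))) :
    r ≤ 10 + (if p = 11 then 1 else 0) := by
  classical
  obtain ⟨e⟩ := h
  let π : ↥H →* ↥(alternatingGroup (Fin r)) := e.toMonoidHom.comp (QuotientGroup.mk' K)
  have hπ : Function.Surjective π := e.surjective.comp (QuotientGroup.mk'_surjective K)
  obtain ⟨n, hp, hn⟩ := FiniteField.card F p
  let E := FiniteField.Extension F p 60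
  let : Fintype E := Fintype.ofFinite _
  have hE : Fintype.card E = (p ^ (n : ℕ)) ^ 60 := by
    rw [← hn, ← Nat.card_eq_fintype_card, FiniteField.natCard_extension, Nat.card_eq_fintype_card]
  let ι0 : GL chevF4.Idx F →* GL chevF4.Idx E := Matrix.GeneralLinearGroup.map (algebraMap F E)
  let ι : ↥H →* ↥(chevF4.group E) := (ι0.comp ((chevF4.group F).subtype.comp H.subtype)).codRestrict _
    fun x => ChevCoxTorus68.map_mem_group C _ (x : ↥(chevF4.group F)).2
  have hι : Function.Injective ι := by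
    intro a b hab
    apply Subtype.ext; apply Subtype.ext; apply Units.ext
    have h := congrArg (fun g : ↥(chevF4.group E) => ((g : GL chevF4.Idx E) : Matrix chevF4.Idx chevF4.Idx E)) hab
    exact Matrix.map_injective (algebraMap F E).injective h
  have hnd : ∀ ℓ : ℕ, ℓ.Prime → p ≠ ℓ → ¬ ℓ ∣ p ^ (n : ℕ) := fun ℓ hℓ hne h =>
    hne ((Nat.prime_dvd_prime_iff_eq hℓ hp).1 (hℓ.dvd_of_dvd_pow h)).symm
  by_contra hr
  split_ifs at hr with h11
  · obtain ⟨H', π', hπ'⟩ := AltSectionTorus95.reduce (show 12 ≤ r by omega) π hπ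
    have : Fact (Nat.Prime 7) := ⟨by norm_num⟩
    have : Fact (Nat.Prime 5) := ⟨by norm_num⟩
    exact twelve (ι.comp H'.subtype) (hι.comp H'.subtype_injective) π' hπ'
      (by rw [hE]; exact pow_sixty (hnd 7 (by norm_num) (by omega)) (by norm_num))
      (by rw [hE]; exact pow_sixty (hnd 5 (by norm_num) (by omega)) (by norm_num))
  · obtain ⟨H', π', hπ'⟩ := AltSectionTorus95.reduce (show 11 ≤ r by omega) π hπ
    have : Fact (Nat.Prime 11) := ⟨by norm_num⟩
    exact eleven (ι.comp H'.subtype) (hι.comp H'.subtype_injective) π' hπ'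
      (by rw [hE]; exact pow_sixty (hnd 11 (by norm_num) h11) (by norm_num))

end Cfsg.Agent.S2657
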