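import Cfsg.Statements.S2658
import Cfsg.Agent.Lib.AltSectionTorus95
import Cfsg.Agent.Lib.TorusAutomizer15
import Cfsg.Agent.Lib.G2EvenWeyl68

set_option autoImplicit false
open scoped MatrixGroups
open Cfsg

namespace Cfsg.Agent.S2658

open Cfsg.Lie Cfsg.Agent.ChevalleyCert Cfsg.Agent.ChevalleyTorus Cfsg.Agent.ChevWeyl Cfsg.Agent.ChevBruhat
open Cfsg.Agent.G2EvenWeyl68 (C X)

theorem weyl_six (w : X.W) : w ^ 6 = 1 := by
  apply G2EvenWeyl68.Pm_eq_one
  rw [ChevCoxTorus68.Pm_pow]
  have h : ∀ M ∈ G2EvenWeyl68.Ws, M ^ 6 = 1 := by decide +kernel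
  exact h _ (G2EvenWeyl68.Pm_mem w)

theorem card_weyl : Nat.card X.W = 12 := by
  let := Fintype.ofFinite X.W
  have h := X.poincare 1
  simp only [one_pow, Finset.sum_const, Finset.card_univ, smul_eq_mul, mul_one] at h
  rw [Nat.card_eq_fintype_card, h]
  decide +kernel

variable {K : Type*} [Field K]

theorem hs : suppCheck chevG2 = true := by decide +kernel

/-- the Bruhat data -/
noncomputable abbrev S : Sys chevG2 K := ChevBruhatInstance.mkSys C X hs

theorem auto_six (P : Subgroup (GL chevG2.Idx K)) (hP : P ≤ chevG2.diagonalSubgroup K) {g : GL chevG2.Idx K}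
    (hg : g ∈ chevG2.group K) (hnorm : ∀ x ∈ P, g * x * g⁻¹ ∈ P) {x : GL chevG2.Idx K} (hx : x ∈ P) :
    g ^ 6 * x * (g ^ 6)⁻¹ = x := by
  obtain ⟨b, hb, n, u, hu, he⟩ := S.exists_cell_form hg
  have key : ∀ y ∈ P, (n : GL chevG2.Idx K) * y * (n : GL chevG2.Idx K)⁻¹ = g * y * g⁻¹ := fun y hy =>
    TorusAutomizer15.monomial_conj S (fun a ha b hb => H_comm C ha hb) hb hu (hP (hnorm y hy)) (hP hy)
      (by rw [← he]; group)
  have it : ∀ j : ℕ, g ^ j * x * (g ^ j)⁻¹ ∈ P ∧
      (n : GL chevG2.Idx K) ^ j * x * ((n : GL chevG2.Idx K) ^ j)⁻¹ = g ^ j * x * (g ^ j)⁻¹ := by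
    intro j
    induction j with
    | zero => simpa using hx
    | succ j ih =>
      have e : ∀ a : GL chevG2.Idx K, a ^ (j + 1) * x * (a ^ (j + 1))⁻¹ = a * (a ^ j * x * (a ^ j)⁻¹) * a⁻¹ :=
        fun a => by rw [pow_succ']; group
      rw [e g, e (n : GL chevG2.Idx K)]
      exact ⟨hnorm _ ih.1, by rw [ih.2, key _ ih.1]⟩
  have hn : n ^ 6 ∈ S.toW.ker := by
    rw [MonoidHom.mem_ker, map_pow]
    exact weyl_six _
  have hd : ((n ^ 6 : ↥(chevG2.monomialSubgroup K)) : GL chevG2.Idx K) ∈ chevG2.diagonalSubgroup K :=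
    S.toW_ker.le hn
  rw [Subgroup.coe_pow] at hd
  rw [← (it 6).2, H_comm C hd (hP hx)]
  group

theorem card_H [Fintype K] : Nat.card ↥(chevG2.diagonalSubgroup K) = (Fintype.card K - 1) ^ 2 := by
  have h := ChevalleyTorusCard.card_H (F := K) C ChevalleyTorusCard.smithG2
  rw [pow_zero, one_mul] at h
  exact h

theorem card_G [Fintype K] : Nat.card ↥(chevG2.group K) =
    Fintype.card K ^ 6 * ((Fintype.card K ^ 2 - 1) * (Fintype.card K ^ 6 - 1)) := by
  have h := ChevOrder.order_eq (F := K) C X hs [2, 6] (by decide +kernel) (g := 1)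
    (by simpa using ChevalleyTorusCard.card_H (F := K) C ChevalleyTorusCard.smithG2)
  rw [one_mul] at h
  rw [h, show chevG2.nroots / 2 = 6 by decide +kernel]
  simp

theorem index_eq [Fintype K] :
    ((chevG2.diagonalSubgroup K).subgroupOf (chevG2.group K)).index =
      Fintype.card K ^ 6 * ((Fintype.card K + 1) * ∑ i ∈ Finset.range 6, Fintype.card K ^ i) := by
  set q := Fintype.card K
  have hq : 1 < q := Fintype.one_lt_card
  have h := ((chevG2.diagonalSubgroup K).subgroupOf (chevG2.group K)).card_mul_index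
  rw [Nat.card_congr (Subgroup.subgroupOfEquivOfLe (S (K := K)).H_le_group).toEquiv, card_H, card_G,
    ← geom_sum_mul_of_one_le hq.le 6, ← geom_sum_mul_of_one_le hq.le 2, Finset.sum_range_succ,
    Finset.sum_range_one, pow_zero, pow_one] at h
  apply Nat.eq_of_mul_eq_mul_left (pow_pos (show 0 < q - 1 by omega) 2)
  rw [h]; ring

theorem no_section [Fintype K] {H : Type*} [Group H] (ι : H →* ↥(chevG2.group K)) (hι : Function.Injective ι)
    {r : ℕ} (π : H →* alternatingGroup (Fin r)) (hπ : Function.Surjective π) :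
    (7 ≤ r → Fintype.card K % 5 ≠ 1) ∧ (8 ≤ r → Fintype.card K % 8 ≠ 1) := by
  classical
  set q := Fintype.card K with hq
  let T := (chevG2.diagonalSubgroup K).subgroupOf (chevG2.group K)
  refine ⟨fun hr h5 => ?_, fun hr h8 => ?_⟩
  · refine AltSectionTorus95.no_seven T ?_ ?_ ι hι hr π hπ
    · rw [index_eq, ← hq, Nat.dvd_iff_mod_eq_zero]
      simp [Nat.mul_mod, Nat.add_mod, Nat.pow_mod, h5, Finset.sum_range_succ]
    · intro P hP g hg x hx
      apply Subtype.ext
      push_cast
      exact auto_six (P.map (chevG2.group K).subtype) (by rintro _ ⟨y, hy, rfl⟩; exact hP hy) g.2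
        (by rintro _ ⟨y, hy, rfl⟩; exact ⟨_, hg y hy, rfl⟩) ⟨x, hx, rfl⟩
  · let N := (chevG2.monomialSubgroup K).subgroupOf (chevG2.group K)
    let eN : ↥N ≃* ↥(chevG2.monomialSubgroup K) := Subgroup.subgroupOfEquivOfLe (S (K := K)).N_le_group
    let φ : ↥N →* X.W := (S (K := K)).toW.comp eN.toMonoidHom
    have hφs : Function.Surjective φ := (S (K := K)).toW_surjective.comp eN.surjective
    have hker : ∀ x : ↥N, φ x = 1 ↔ ((x : ↥(chevG2.group K)) : GL chevG2.Idx K) ∈ chevG2.diagonalSubgroup K :=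
      fun x => ⟨fun h => (S (K := K)).toW_ker.le (show eN x ∈ (S (K := K)).toW.ker from h),
        fun h => (S (K := K)).toW_eq ((S (K := K)).acts_H h)⟩
    have hcard : Nat.card φ.ker = (q - 1) ^ 2 := by
      rw [hq, ← card_H]
      refine Nat.card_congr ⟨fun x => ⟨_, (hker _).1 x.2⟩,
        fun d => ⟨⟨⟨d, (S (K := K)).H_le_group d.2⟩, Sys.H_le_N d.2⟩, (hker _).2 d.2⟩,
        fun x => rfl, fun d => rfl⟩
    refine AltSectionTorus95.no_eight N ?_ φ (dvd_of_eq card_weyl) ?_ ?_ ι hι hr π hπ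
    · have hN : Nat.card N = (q - 1) ^ 2 * 12 := by
        rw [← φ.ker.card_mul_index, Subgroup.index_ker, MonoidHom.range_eq_top.2 hφs, Subgroup.card_top,
          card_weyl, hcard]
      have h := N.card_mul_index
      have h' := T.card_mul_index
      rw [hN] at h
      rw [Nat.card_congr (Subgroup.subgroupOfEquivOfLe (S (K := K)).H_le_group).toEquiv, card_H, ← hq,
        ← h, index_eq, mul_assoc] at h'
      have hq2 : 1 < q := Fintype.one_lt_card
      have e := Nat.eq_of_mul_eq_mul_left (pow_pos (show 0 < q - 1 by omega) 2) h'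
      intro h2
      have h24 : 8 ∣ 12 * N.index := by
        obtain ⟨k, hk⟩ := h2
        exact ⟨3 * k, by rw [hk]; ring⟩
      rw [← e, Nat.dvd_iff_mod_eq_zero] at h24
      rw [← hq] at h24
      simp [Nat.mul_mod, Nat.add_mod, Nat.pow_mod, h8, Finset.sum_range_succ] at h24
    · intro x hx y hy
      exact Subtype.ext (Subtype.ext (H_comm C ((hker x).1 hx) ((hker y).1 hy)))
    · have hsq : ∀ x : {x : N // φ x = 1 ∧ x ^ 2 = 1}, ∃ c : Fin chevG2.rank → Kˣ, (∀ i, c i ^ 2 = 1) ∧
          torus chevG2 c = (((x : N) : ↥(chevG2.group K)) : GL chevG2.Idx K) := by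
        rintro ⟨x, h1, h2⟩
        obtain ⟨c, hc⟩ := (ChevalleyTorus.mem_H_iff C).1 ((hker x).1 h1)
        refine ⟨c, fun i => congrFun (ChevFieldAut77.torus_injective ChevalleyTorusCard.smithG2 C
          (show torus chevG2 (c ^ 2) = torus chevG2 1 by
            rw [map_pow, map_one, hc]
            exact congrArg (fun z : N => ((z : ↥(chevG2.group K)) : GL chevG2.Idx K)) h2)) i, hc⟩
      choose c hc hc' using hsq
      let g : {x : N // φ x = 1 ∧ x ^ 2 = 1} → (Fin chevG2.rank → rootsOfUnity 2 K) :=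
        fun x i => ⟨c x i, hc x i⟩
      refine le_trans (Nat.card_le_card_of_injective g fun x y e => ?_) ?_
      · apply Subtype.ext; apply Subtype.ext; apply Subtype.ext
        rw [← hc' x, ← hc' y]
        exact congrArg _ (funext fun i => congrArg Subtype.val (congrFun e i))
      · rw [Nat.card_fun, Nat.card_fin, show chevG2.rank = 2 from rfl, Nat.card_eq_fintype_card]
        refine le_trans (Nat.pow_le_pow_left ?_ 2) (le_refl (2 ^ 2))
        simpa [Nat.card_eq_fintype_card] using card_rootsOfUnity K 2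

/-- Alternating sections of the groups of type G₂. Let `F` be a finite field of characteristic `p` and let `G` be the Chevalley group of type G₂ over `F`. If some subgroup of `G` has a quotient isomorphic to the alternating group of degree `r`, then `r` is at most 6, or 7 in characteristic 5. (Only an upper bound is asserted.) -/
theorem result {F : Type*} [Field F] [Fintype F] (p : ℕ) [Fact p.Prime] [CharP F p]
    (r : ℕ) (H : Subgroup ↥(Cfsg.Lie.chevG2.group F)) (K : Subgroup ↥H) [K.Normal]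
    (h : Nonempty (↥H ⧸ K ≃* ↥(alternatingGroup (Fin r)))) :
    r ≤ 6 + (if p = 5 then 1 else 0) := by
  classical
  obtain ⟨e⟩ := h
  let π : ↥H →* ↥(alternatingGroup (Fin r)) := e.toMonoidHom.comp (QuotientGroup.mk' K)
  have hπ : Function.Surjective π := e.surjective.comp (QuotientGroup.mk'_surjective K)
  obtain ⟨n, hp, hn⟩ := FiniteField.card F p
  let E := FiniteField.Extension F p 4
  let : Fintype E := Fintype.ofFinite _
  have hE : Fintype.card E = (p ^ (n : ℕ)) ^ 4 := by
    rw [← hn, ← Nat.card_eq_fintype_card, FiniteField.natCard_extension, Nat.card_eq_fintype_card]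
  let ι0 : GL chevG2.Idx F →* GL chevG2.Idx E := Matrix.GeneralLinearGroup.map (algebraMap F E)
  let ι : ↥H →* ↥(chevG2.group E) := (ι0.comp ((chevG2.group F).subtype.comp H.subtype)).codRestrict _
    fun x => ChevCoxTorus68.map_mem_group C _ (x : ↥(chevG2.group F)).2
  have hι : Function.Injective ι := by
    intro a b hab
    apply Subtype.ext; apply Subtype.ext; apply Units.ext
    have h := congrArg (fun g : ↥(chevG2.group E) => ((g : GL chevG2.Idx E) : Matrix chevG2.Idx chevG2.Idx E)) hab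
    exact Matrix.map_injective (algebraMap F E).injective h
  obtain ⟨h7, h8⟩ := no_section ι hι π hπ
  rw [hE, ← pow_mul, mul_comm, pow_mul] at h7 h8
  by_contra hr
  split_ifs at hr with h5
  · subst h5
    exact h8 (by omega) (by rw [Nat.pow_mod]; simp [Nat.pow_mod])
  · refine h7 (by omega) ?_
    have hp5 : ¬ 5 ∣ p := fun h => h5 ((Nat.prime_dvd_prime_iff_eq (by norm_num) hp).1 h).symm
    have : p % 5 = 1 ∨ p % 5 = 2 ∨ p % 5 = 3 ∨ p % 5 = 4 := by omega
    rcases this with h | h | h | h <;> rw [Nat.pow_mod] <;> simp [Nat.pow_mod, h]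

end Cfsg.Agent.S2658
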