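import Cfsg.Statements.S2660
import Cfsg.Agent.Lib.AltSectionTorus95
import Cfsg.Agent.Lib.TorusAutomizer15
import Cfsg.Agent.Lib.TwistedD4Torus
import Cfsg.Agent.Lib.G2EvenWeyl68

set_option autoImplicit false
open scoped MatrixGroups
open Cfsg

namespace Cfsg.Agent.S2660

open Cfsg.Lie Cfsg.Agent.ChevalleyCert Cfsg.Agent.ChevalleyTorus Cfsg.Agent.ChevWeyl Cfsg.Agent.TwistedD4

theorem weyl_six' (w : G2EvenWeyl68.X.W) : w ^ 6 = 1 := by
  apply G2EvenWeyl68.Pm_eq_one
  rw [ChevCoxTorus68.Pm_pow]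
  have h : ∀ M ∈ G2EvenWeyl68.Ws, M ^ 6 = 1 := by decide +kernel
  exact h _ (G2EvenWeyl68.Pm_mem w)

theorem weyl_six (w : CoxeterMatrix.G₂.Group) : w ^ 6 = 1 := weyl_six' w

variable {K : Type*} [Field K] [Fintype K] {q : ℕ} (f : K →+* K) (hf : ∀ t, f t = t ^ q)
  (hK : Fintype.card K = q ^ 3)

include hf in
theorem sq_fix {t : Kˣ} (ht : t ^ 2 = 1) : t ^ q = t := by
  apply Units.ext
  have h2 : (t : K) ^ 2 = 1 := by rw [← Units.val_pow_eq_pow_val, ht, Units.val_one]
  rw [Units.val_pow_eq_pow_val]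
  rcases sq_eq_one_iff.mp h2 with h | h <;> rw [h]
  · exact one_pow q
  · rw [← hf, map_neg, map_one]

include hf hK in
theorem involutions :
    Nat.card {x : ↥(chevD4.diagonalSubgroup K ⊓ twistedD4 K q) // (x : GL chevD4.Idx K) ^ 2 = 1} ≤ 4 := by
  classical
  let Ψ : {a : Kˣ // a ^ q = a} × Kˣ → ↥(chevD4.diagonalSubgroup K ⊓ twistedD4 K q) := fun p =>
    ⟨torus chevD4 (tp q p.1.1 p.2), torus_mem_H c4 _, torus_tp_mem f hf p.1.2 p.2⟩
  have hker : ∀ (a : {a : Kˣ // a ^ q = a}) (b : Kˣ), torus chevD4 (tp q a.1 b) = 1 → a.1 = 1 ∧ b = 1 := by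
    intro a b h
    obtain ⟨h1, h0, -, -, hp⟩ := ker_eqs h
    simp only [tp, List.getD_cons_succ, List.getD_cons_zero] at h1 h0 hp
    refine ⟨h1, ?_⟩
    have hz := sq_fix f hf h0
    rw [pow_two q, pow_mul, hz, hz, ← pow_two, h0, one_mul] at hp
    exact hp
  have htp : ∀ a a' b b' : Kˣ, tp q (a * a') (b * b') = tp q a b * tp q a' b' := fun a a' b b' => by
    funext i
    have hi : i = nd 0 ∨ i = nd 1 ∨ i = nd 2 ∨ i = nd 3 := by revert i; decide
    rcases hi with rfl | rfl | rfl | rfl <;> simp [tp, mul_pow]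
  have hinj : Function.Injective Ψ := by
    rintro ⟨⟨a, ha⟩, b⟩ ⟨⟨a', ha'⟩, b'⟩ h
    have e : torus chevD4 (tp q a b) = torus chevD4 (tp q a' b') := congrArg Subtype.val h
    have hd : (a * a'⁻¹) ^ q = a * a'⁻¹ := by rw [mul_pow, inv_pow, ha, ha']
    have := hker ⟨a * a'⁻¹, hd⟩ (b * b'⁻¹) (by
      show torus chevD4 (tp q (a * a'⁻¹) (b * b'⁻¹)) = 1
      have e2 := congrArg (fun z => z * torus chevD4 (tp q a'⁻¹ b'⁻¹)) e
      simp only [← map_mul, ← htp, mul_inv_cancel] at e2
      rw [e2]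
      have : tp q (1 : Kˣ) 1 = 1 := funext fun i => by
        have hi : i = nd 0 ∨ i = nd 1 ∨ i = nd 2 ∨ i = nd 3 := by revert i; decide
        rcases hi with rfl | rfl | rfl | rfl <;> simp [tp]
      rw [this, map_one])
    obtain ⟨rfl, rfl⟩ : a = a' ∧ b = b' := ⟨mul_inv_eq_one.1 this.1, mul_inv_eq_one.1 this.2⟩
    rfl
  have hbij : Function.Bijective Ψ := by
    rw [Nat.bijective_iff_injective_and_card]
    refine ⟨hinj, ?_⟩
    rw [card_H1 f hf hK, Nat.card_prod, TwistedField.card_units_fix hK, TwistedField.card_units_eq, hK,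
      pow_two, mul_assoc]
    congr 1
    have hq := TwistedField.one_lt_base hK
    obtain ⟨k, rfl⟩ : ∃ k, q = k + 1 := ⟨q - 1, by omega⟩
    have : (k + 1) ^ 3 = k * ((k + 1) ^ 2 + (k + 1) + 1) + 1 := by ring
    simp [this]
  have hsq : ∀ x : {x : ↥(chevD4.diagonalSubgroup K ⊓ twistedD4 K q) // (x : GL chevD4.Idx K) ^ 2 = 1},
      ∃ p : rootsOfUnity 2 K × rootsOfUnity 2 K,
        torus chevD4 (tp q (p.1 : Kˣ) (p.2 : Kˣ)) = ((x : ↥(chevD4.diagonalSubgroup K ⊓ twistedD4 K q)) : GL chevD4.Idx K) := by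
    rintro ⟨x, hx⟩
    obtain ⟨⟨a, b⟩, rfl⟩ := hbij.2 x
    have h1 := hker ⟨a.1 * a.1, by rw [mul_pow, a.2]⟩ (b * b) (by
      show torus chevD4 (tp q (a.1 * a.1) (b * b)) = 1
      rw [htp, map_mul, ← pow_two]
      exact hx)
    exact ⟨(⟨a.1, by rw [mem_rootsOfUnity, pow_two]; exact h1.1⟩,
      ⟨b, by rw [mem_rootsOfUnity, pow_two]; exact h1.2⟩), rfl⟩
  choose g hg using hsq
  refine le_trans (Nat.card_le_card_of_injective g fun x y e => ?_) ?_
  · apply Subtype.ext; apply Subtype.ext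
    rw [← hg x, ← hg y, e]
  · rw [Nat.card_prod]
    have h2 : Nat.card (rootsOfUnity 2 K) ≤ 2 := by
      simpa [Nat.card_eq_fintype_card] using card_rootsOfUnity K 2
    exact Nat.mul_le_mul h2 h2

include hf hK in
theorem index_eq :
    ((chevD4.diagonalSubgroup K).subgroupOf (twistedD4 K q)).index =
      q ^ 12 * ((q + 1) * (q ^ 3 + 1) * (q ^ 8 + q ^ 4 + 1)) := by
  have hq := TwistedField.one_lt_base hK
  have h := ((chevD4.diagonalSubgroup K).subgroupOf (twistedD4 K q)).card_mul_index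
  rw [← Subgroup.inf_subgroupOf_right, Nat.card_congr (Subgroup.subgroupOfEquivOfLe inf_le_right).toEquiv,
    card_H1 f hf hK, card_group f hf hK] at h
  rw [Subgroup.inf_subgroupOf_right] at h
  obtain ⟨k, rfl⟩ : ∃ k, q = k + 1 := ⟨q - 1, by omega⟩
  have h2 : (k + 1) ^ 2 - 1 = k * ((k + 1) + 1) := by
    have : (k + 1) ^ 2 = k * ((k + 1) + 1) + 1 := by ring
    omega
  have h6 : (k + 1) ^ 6 - 1 = k * ((k + 1) ^ 2 + (k + 1) + 1) * ((k + 1) ^ 3 + 1) := by
    have : (k + 1) ^ 6 = k * ((k + 1) ^ 2 + (k + 1) + 1) * ((k + 1) ^ 3 + 1) + 1 := by ring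
    omega
  rw [h2, h6, Nat.add_sub_cancel] at h
  apply Nat.eq_of_mul_eq_mul_left (show 0 < k ^ 2 * ((k + 1) ^ 2 + (k + 1) + 1) by
    exact Nat.mul_pos (pow_pos (by omega) 2) (by omega))
  rw [h]; ring

include hf hK in
theorem no_section {H : Type*} [Group H] (ι : H →* ↥(twistedD4 K q)) (hι : Function.Injective ι)
    {r : ℕ} (π : H →* alternatingGroup (Fin r)) (hπ : Function.Surjective π) :
    (7 ≤ r → q % 5 ≠ 1) ∧ (8 ≤ r → q % 8 ≠ 1) := by
  classical
  have hq := TwistedField.one_lt_base hK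
  let T := (chevD4.diagonalSubgroup K).subgroupOf (twistedD4 K q)
  obtain ⟨φ0, hφs, hφk⟩ := exists_N1 f hf hK
  have hfin : Finite CoxeterMatrix.G₂.Group := finite_G2
  refine ⟨fun hr h5 => ?_, fun hr h8 => ?_⟩
  · refine AltSectionTorus95.no_seven T ?_ ?_ ι hι hr π hπ
    · rw [index_eq f hf hK, Nat.dvd_iff_mod_eq_zero]
      simp [Nat.mul_mod, Nat.add_mod, Nat.pow_mod, h5]
    · intro P hP g hg x hx
      apply Subtype.ext
      push_cast
      refine TorusAutomizer15.automizer_pow (classes f hf hK) (k := 6) (fun n hn => ?_)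
        (P.map (twistedD4 K q).subtype) (by rintro _ ⟨y, hy, rfl⟩; exact hP hy) g.2
        (by rintro _ ⟨y, hy, rfl⟩; exact ⟨_, hg y hy, rfl⟩) ⟨x, hx, rfl⟩
      have h1 := weyl_six (φ0 ⟨n, hn⟩)
      rw [← map_pow, ← MonoidHom.mem_ker, hφk, Subgroup.mem_subgroupOf] at h1
      exact h1.1
  · let N := (chevD4.monomialSubgroup K).subgroupOf (twistedD4 K q)
    let eN : ↥N ≃* ↥(chevD4.monomialSubgroup K ⊓ twistedD4 K q) :=
      (MulEquiv.subgroupCongr (Subgroup.inf_subgroupOf_right _ _).symm).trans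
        (Subgroup.subgroupOfEquivOfLe inf_le_right)
    let φ : ↥N →* CoxeterMatrix.G₂.Group := φ0.comp eN.toMonoidHom
    have hker : ∀ x : ↥N, φ x = 1 ↔ ((x : ↥(twistedD4 K q)) : GL chevD4.Idx K) ∈ chevD4.diagonalSubgroup K := by
      intro x
      show φ0 (eN x) = 1 ↔ _
      rw [← MonoidHom.mem_ker, hφk, Subgroup.mem_subgroupOf, Subgroup.mem_inf]
      exact ⟨fun h => h.1, fun h => ⟨h, x.1.2⟩⟩
    have hN1 : (chevD4.diagonalSubgroup K).subgroupOf (twistedD4 K q) ≤ N := fun x hx =>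
      show (x : GL chevD4.Idx K) ∈ chevD4.monomialSubgroup K from Subgroup.mem_sup_left hx
    have hTN : T.relIndex N = Nat.card CoxeterMatrix.G₂.Group := by
      have e : T.subgroupOf N = φ.ker := by
        ext x
        exact (hker x).symm
      rw [Subgroup.relIndex, e, Subgroup.index_ker,
        MonoidHom.range_eq_top.2 (show Function.Surjective φ from hφs.comp eN.surjective), Subgroup.card_top]
    have hW : Nat.card CoxeterMatrix.G₂.Group = 12 := by
      have hfin : Finite G2EvenWeyl68.X.W := inferInstance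
      let := Fintype.ofFinite G2EvenWeyl68.X.W
      have h := G2EvenWeyl68.X.poincare 1
      simp only [one_pow, Finset.sum_const, Finset.card_univ, smul_eq_mul, mul_one] at h
      show Nat.card G2EvenWeyl68.X.W = 12
      rw [Nat.card_eq_fintype_card, h]
      decide +kernel
    refine AltSectionTorus95.no_eight N ?_ φ (dvd_of_eq hW) ?_ ?_ ι hι hr π hπ
    · intro h2
      have h := Subgroup.relIndex_mul_index hN1
      rw [hTN, hW, index_eq f hf hK] at h
      have h8' : 8 ∣ 12 * N.index := by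
        obtain ⟨k, hk⟩ := h2
        exact ⟨3 * k, by rw [hk]; ring⟩
      rw [h, Nat.dvd_iff_mod_eq_zero] at h8'
      simp [Nat.mul_mod, Nat.add_mod, Nat.pow_mod, h8] at h8'
    · intro x hx y hy
      exact Subtype.ext (Subtype.ext (H_comm c4 ((hker x).1 hx) ((hker y).1 hy)))
    · refine le_trans (Nat.card_le_card_of_injective
        (fun x => (⟨⟨((x.1 : ↥(twistedD4 K q)) : GL chevD4.Idx K), (hker _).1 x.2.1, x.1.1.2⟩,
          congrArg (fun z : N => ((z : ↥(twistedD4 K q)) : GL chevD4.Idx K)) x.2.2⟩ :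
          {x : ↥(chevD4.diagonalSubgroup K ⊓ twistedD4 K q) // (x : GL chevD4.Idx K) ^ 2 = 1}))
        fun x y e => ?_) (involutions f hf hK)
      exact Subtype.ext (Subtype.ext (Subtype.ext (congrArg (fun z => ((z.1 : ↥(chevD4.diagonalSubgroup K ⊓ twistedD4 K q)) : GL chevD4.Idx K)) e)))

/-- Alternating sections of the triality-twisted groups ³D₄. Let `q = p^a` be a prime power and `K` a field with `q³` elements, and let `G` be the twisted group ³D₄(q) realised over `K`. If some subgroup of `G` has a quotient isomorphic to the alternating group of degree `r`, then `r` is at most 6, or 7 in characteristic 5. (Only an upper bound is asserted.) -/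
theorem result {K : Type*} [Field K] [Fintype K] (p a : ℕ) [Fact p.Prime] [CharP K p]
    (ha : 1 ≤ a) (hK : Fintype.card K = (p ^ a) ^ 3) (r : ℕ) (H : Subgroup ↥(Cfsg.Lie.twistedD4 K (p ^ a))) (N : Subgroup ↥H) [N.Normal]
    (h : Nonempty (↥H ⧸ N ≃* ↥(alternatingGroup (Fin r)))) :
    r ≤ 6 + (if p = 5 then 1 else 0) := by
  classical
  obtain ⟨q, hq⟩ : ∃ q, q = p ^ a := ⟨_, rfl⟩
  revert H
  rw [← hq] at hK ⊢
  intro H N _ h
  obtain ⟨e⟩ := h
  let π : ↥H →* ↥(alternatingGroup (Fin r)) := e.toMonoidHom.comp (QuotientGroup.mk' N)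
  have hπ : Function.Surjective π := e.surjective.comp (QuotientGroup.mk'_surjective N)
  let E := FiniteField.Extension K p 4
  let : Fintype E := Fintype.ofFinite _
  have hE : Fintype.card E = (q ^ 4) ^ 3 := by
    rw [← Nat.card_eq_fintype_card, FiniteField.natCard_extension, Nat.card_eq_fintype_card, hK]
    ring
  have : CharP E p := charP_of_injective_algebraMap (algebraMap K E).injective p
  let f : E →+* E := iterateFrobenius E p (a * 4)
  have hf : ∀ t, f t = t ^ q ^ 4 := fun t => by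
    rw [iterateFrobenius_def, hq, pow_mul p a 4]
  have hpq : ∀ t : K, t ^ q ^ 4 = t ^ q := fun t => by
    rw [show q ^ 4 = q ^ 3 * q by ring, pow_mul, ← hK, FiniteField.pow_card]
  let ι0 : GL chevD4.Idx K →* GL chevD4.Idx E := Matrix.GeneralLinearGroup.map (algebraMap K E)
  have hmem : ∀ g ∈ twistedD4 K q, ι0 g ∈ twistedD4 E (q ^ 4) := by
    intro g hg
    induction hg using Subgroup.closure_induction with
    | mem g hg =>
      obtain ⟨w, hw, hgw⟩ := hg
      refine Subgroup.subset_closure ⟨w.map fun x => (x.1, algebraMap K E x.2), ?_, ?_⟩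
      · rcases hw with ⟨t, ht, r, hr, rfl⟩ | ⟨t, rs, hrs, rfl⟩
        · exact Or.inl ⟨algebraMap K E t, by rw [← map_pow, hpq, ht], r, hr, rfl⟩
        · refine Or.inr ⟨algebraMap K E t, rs, hrs, ?_⟩
          have h2 : t ^ (q ^ 4) ^ 2 = t ^ q ^ 2 := by
            rw [pow_two, pow_mul, hpq, hpq, ← pow_mul, pow_two]
          simp only [List.map_cons, List.map_nil, ← map_pow, hpq, h2]
      · have hr : ∀ r : ℕ, ∀ t : K, (chevD4.x K r t).map (algebraMap K E) = chevD4.x E r (algebraMap K E t) := by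
          intro r t
          by_cases h : r < chevD4.nroots
          · exact ChevFieldAut77.map_x c4 _ h t
          · rw [ChevalleyDatum.x, dif_neg h, ChevalleyDatum.x, dif_neg h]
            exact Matrix.map_one _ (map_zero _) (map_one _)
        show ((g : GL chevD4.Idx K) : Matrix chevD4.Idx chevD4.Idx K).map (algebraMap K E) = _
        rw [hgw, ChevalleyDatum.wordMat, ← RingHom.mapMatrix_apply, map_list_prod, List.map_map,
          ChevalleyDatum.wordMat, List.map_map]
        congr 1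
        exact List.map_congr_left fun x _ => hr x.1 x.2
    | one => rw [map_one]; exact one_mem _
    | mul a b _ _ ha hb => rw [map_mul]; exact mul_mem ha hb
    | inv a _ ha => rw [map_inv]; exact inv_mem ha
  let ι : ↥H →* ↥(twistedD4 E (q ^ 4)) := (ι0.comp ((twistedD4 K q).subtype.comp H.subtype)).codRestrict _
    fun x => hmem _ (x : ↥(twistedD4 K q)).2
  have hι : Function.Injective ι := by
    intro a b hab
    apply Subtype.ext; apply Subtype.ext; apply Units.ext
    have h := congrArg (fun g : ↥(twistedD4 E (q ^ 4)) => ((g : GL chevD4.Idx E) : Matrix chevD4.Idx chevD4.Idx E)) hab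
    exact Matrix.map_injective (algebraMap K E).injective h
  obtain ⟨h7, h8⟩ := no_section f hf hE ι hι π hπ
  rw [hq, ← pow_mul, mul_comm, pow_mul] at h7 h8
  by_contra hr
  split_ifs at hr with h5
  · subst h5
    exact h8 (by omega) (by simp [Nat.pow_mod])
  · refine h7 (by omega) ?_
    have hp : p.Prime := Fact.out
    have hp5 : ¬ 5 ∣ p := fun h => h5 ((Nat.prime_dvd_prime_iff_eq (by norm_num) hp).1 h).symm
    have : p % 5 = 1 ∨ p % 5 = 2 ∨ p % 5 = 3 ∨ p % 5 = 4 := by omega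
    rcases this with h | h | h | h <;> rw [Nat.pow_mod] <;> simp [Nat.pow_mod, h]

end Cfsg.Agent.S2660
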