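import Cfsg.Statements.S2661
import Cfsg.Agent.Lib.TorusAutomizer15

set_option autoImplicit false
open scoped MatrixGroups
open Cfsg

namespace Cfsg.Agent.S2661

open Cfsg.Lie Cfsg.Agent.TwistedF4Classes

/-- In `A_r`, `r ≥ 7`, an element of order 7 is carried to its square by conjugation. -/
theorem exists_seven {r : ℕ} (hr : 7 ≤ r) : ∃ c d : alternatingGroup (Fin r),
    orderOf c = 7 ∧ d * c * d⁻¹ = c ^ 2 := by
  let ι : Fin 7 ↪ Fin r := Fin.castLEEmb hr
  let f : alternatingGroup (Fin 7) →* alternatingGroup (Fin r) :=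
    ((Equiv.Perm.viaEmbeddingHom ι).comp (alternatingGroup (Fin 7)).subtype).codRestrict _ fun x => by
      rw [Equiv.Perm.mem_alternatingGroup, MonoidHom.comp_apply, Equiv.Perm.viaEmbeddingHom_apply,
        Equiv.Perm.viaEmbedding]
      classical
      convert (Equiv.Perm.sign_extendDomain _ (Equiv.ofInjective ι.1 ι.2)).trans x.2 using 3
      rfl
  have hf : Function.Injective f := fun a b h => by
    apply Subtype.ext
    exact Equiv.Perm.viaEmbeddingHom_injective ι (congrArg Subtype.val h)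
  let c : Equiv.Perm (Fin 7) := finRotate 7
  let d : Equiv.Perm (Fin 7) :=
    ⟨fun x => 2 * x, fun x => 4 * x, by decide, by decide⟩
  have hc : Equiv.Perm.sign c = 1 := by decide +kernel
  have hd : Equiv.Perm.sign d = 1 := by decide +kernel
  refine ⟨f ⟨c, hc⟩, f ⟨d, hd⟩, ?_, ?_⟩
  · rw [orderOf_injective f hf, ← Subgroup.orderOf_coe]
    have : Fact (Nat.Prime 7) := ⟨by norm_num⟩
    show orderOf c = 7
    exact orderOf_eq_prime (by decide +kernel) (by decide +kernel)
  · rw [← map_inv, ← map_mul, ← map_mul, ← map_pow]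
    congr 1
    apply Subtype.ext
    show d * c * d⁻¹ = c ^ 2
    decide +kernel

/-- A prime not dividing the second factor. -/
theorem seven_factor {q : ℕ} (hq : q % 7 = 1) :
    ¬ 7 ∣ q ^ 12 * (q ^ 3 + 1) * ((q + 1) * (q ^ 2 + 1)) * (q ^ 6 + 1) := by
  rw [Nat.dvd_iff_mod_eq_zero]
  simp [Nat.mul_mod, Nat.add_mod, Nat.pow_mod, hq]

/-- The order formula modulo 7. -/
theorem seven_order {q : ℕ} (m : ℕ) (hq : q = 2 ^ (2 * m + 1))
    (h : 7 ∣ q ^ 12 * (q - 1) * (q ^ 3 + 1) * (q ^ 4 - 1) * (q ^ 6 + 1)) : q % 7 = 1 := by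
  have h1 : q % 7 = 1 ∨ q % 7 = 2 ∨ q % 7 = 4 := by
    subst hq
    clear h
    induction m with
    | zero => simp
    | succ m ih =>
      rw [show 2 * (m + 1) + 1 = 2 * m + 1 + 2 by ring, pow_add, Nat.mul_mod]
      rcases ih with h | h | h <;> simp [h]
  have hp : (Nat.Prime 7) := by norm_num
  have hpos : 1 ≤ q := hq ▸ Nat.one_le_two_pow
  by_contra hne
  rcases h1.resolve_left hne |>.symm with h2 | h2 <;>
  · have a3 : ¬ 7 ∣ q := by omega
    have a4 : ¬ 7 ∣ q - 1 := by omega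
    have b3 : (q ^ 3 + 1) % 7 = 2 := by simp [Nat.add_mod, Nat.pow_mod, h2]
    have b4 : (q ^ 4) % 7 ≠ 1 := by simp [Nat.pow_mod, h2]
    have b6 : (q ^ 6 + 1) % 7 = 2 := by simp [Nat.add_mod, Nat.pow_mod, h2]
    have c4 : 1 ≤ q ^ 4 := Nat.one_le_pow _ _ hpos
    rcases (Nat.Prime.dvd_mul hp).mp h with h | h
    · rcases (Nat.Prime.dvd_mul hp).mp h with h | h
      · rcases (Nat.Prime.dvd_mul hp).mp h with h | h
        · rcases (Nat.Prime.dvd_mul hp).mp h with h | h
          · exact a3 (hp.dvd_of_dvd_pow h)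
          · exact a4 h
        · omega
      · omega
    · omega

/-- Alternating sections of the large Ree groups ²F₄. Let `m ≥ 1`, let `K` be a field with `2^(2m+1)` elements and let `G` be the large Ree group ²F₄(2^(2m+1)) realised over `K`. If some subgroup of `G` has a quotient isomorphic to the alternating group of degree `r`, then `r ≤ 6`. (Only an upper bound is asserted.) -/
theorem result {K : Type*} [Field K] [Fintype K] {m : ℕ} (hm : 1 ≤ m)
    (hK : Fintype.card K = 2 ^ (2 * m + 1)) (r : ℕ) (H : Subgroup ↥(Cfsg.Lie.twistedF4 K (2 ^ m))) (N : Subgroup ↥H) [N.Normal]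
    (h : Nonempty (↥H ⧸ N ≃* ↥(alternatingGroup (Fin r)))) :
    r ≤ 6 := by
  by_contra hr
  replace hr : 7 ≤ r := by omega
  have : Fact (Nat.Prime 7) := ⟨by norm_num⟩
  have : CharP K 2 := charP_two m hK
  obtain ⟨e⟩ := h
  let π : ↥H →* ↥(alternatingGroup (Fin r)) := e.toMonoidHom.comp (QuotientGroup.mk' N)
  have hπ : Function.Surjective π := e.surjective.comp (QuotientGroup.mk'_surjective N)
  obtain ⟨c, d, hc, hdc⟩ := exists_seven hr
  set q := 2 ^ (2 * m + 1) with hqdef
  -- a Sylow 7-subgroup lies in the torus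
  have h7 : q % 7 = 1 := by
    refine seven_order m rfl ?_
    rw [← card_group m hK]
    exact ((hc ▸ orderOf_dvd_natCard c).trans (Subgroup.card_dvd_of_surjective π hπ)).trans
      (Subgroup.card_subgroup_dvd_card H)
  let T1 : Subgroup ↥(twistedF4 K (2 ^ m)) :=
    (chevF4.diagonalSubgroup K).subgroupOf (twistedF4 K (2 ^ m))
  have hT1 : Nat.card T1 = (q - 1) ^ 2 := by
    rw [← card_H1 m hK]
    exact (Nat.card_congr (Subgroup.subgroupOfEquivOfLe inf_le_right).toEquiv).symm.trans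
      (by rw [Subgroup.inf_subgroupOf_right]) |>.symm
  obtain ⟨S0⟩ : Nonempty (Sylow 7 T1) := inferInstance
  let S1 : Subgroup ↥(twistedF4 K (2 ^ m)) := (S0 : Subgroup T1).map T1.subtype
  have hS1 : Nat.card S1 = 7 ^ (Nat.card ↥(twistedF4 K (2 ^ m))).factorization 7 := by
    have hR := seven_factor h7
    have hq4 : q ^ 4 - 1 = (q - 1) * ((q + 1) * (q ^ 2 + 1)) := by
      obtain ⟨k, hk⟩ : ∃ k, q = k + 1 := ⟨q - 1, by omega⟩
      rw [hk, Nat.add_sub_cancel]
      have : (k + 1) ^ 4 = k * ((k + 1 + 1) * ((k + 1) ^ 2 + 1)) + 1 := by ring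
      omega
    have hG : Nat.card ↥(twistedF4 K (2 ^ m)) =
        (q - 1) ^ 2 * (q ^ 12 * (q ^ 3 + 1) * ((q + 1) * (q ^ 2 + 1)) * (q ^ 6 + 1)) := by
      rw [card_group m hK, ← hqdef, hq4]; ring
    have hq1 : 1 < q := Nat.one_lt_two_pow (by omega)
    rw [Subgroup.card_map_of_injective T1.subtype_injective, S0.card_eq_multiplicity, hT1, hG,
      Nat.factorization_mul (pow_ne_zero _ (Nat.sub_ne_zero_of_lt hq1)) (fun h0 => hR (by rw [h0]; exact dvd_zero 7)),
      Finsupp.add_apply, Nat.factorization_eq_zero_of_not_dvd hR, add_zero]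
  let S : Sylow 7 ↥(twistedF4 K (2 ^ m)) := Sylow.ofCard S1 hS1
  -- a 7-subgroup of H with an automorphism squaring it
  let M : Subgroup ↥H := (Subgroup.zpowers c).comap π
  obtain ⟨y, hy⟩ := hπ d
  obtain ⟨P⟩ : Nonempty (Sylow 7 M) := inferInstance
  have hyM : y ∈ Subgroup.normalizer (M : Set ↥H) := by
    have hmap : (Subgroup.zpowers c).map (MulAut.conj d).toMonoidHom = Subgroup.zpowers c := by
      apply Subgroup.eq_of_le_of_card_ge
      · rw [MonoidHom.map_zpowers, Subgroup.zpowers_le]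
        show d * c * d⁻¹ ∈ _
        rw [hdc]; exact Subgroup.pow_mem _ (Subgroup.mem_zpowers c) 2
      · rw [Subgroup.card_map_of_injective (MulAut.conj d).injective]
    rw [Subgroup.mem_normalizer_iff]
    intro z
    show π z ∈ Subgroup.zpowers c ↔ π (y * z * y⁻¹) ∈ Subgroup.zpowers c
    rw [map_mul, map_mul, map_inv, hy]
    constructor
    · intro hz
      rw [← hmap]
      exact ⟨π z, hz, rfl⟩
    · intro hz
      rw [← hmap] at hz
      obtain ⟨w, hw, hwe⟩ := hz
      rwa [← (MulAut.conj d).injective hwe]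
  obtain ⟨P', hP'⟩ : ∃ P' : Sylow 7 M, (P' : Subgroup M).map M.subtype =
      ((P : Subgroup M).map M.subtype).map (MulAut.conj y).toMonoidHom := by
    have hle : ((P : Subgroup M).map M.subtype).map (MulAut.conj y).toMonoidHom ≤ M := by
      rintro _ ⟨z, ⟨z', -, rfl⟩, rfl⟩
      exact (Subgroup.mem_normalizer_iff.mp hyM _).mp z'.2
    refine ⟨Sylow.ofCard ((((P : Subgroup M).map M.subtype).map (MulAut.conj y).toMonoidHom).subgroupOf M) ?_, ?_⟩
    · rw [Nat.card_congr (Subgroup.subgroupOfEquivOfLe hle).toEquiv,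
        Subgroup.card_map_of_injective (MulAut.conj y).injective,
        Subgroup.card_map_of_injective M.subtype_injective, P.card_eq_multiplicity]
    · rw [Sylow.coe_ofCard, Subgroup.map_subgroupOf_eq_of_le hle]
  obtain ⟨z, hz⟩ := MulAction.exists_smul_eq M P' P
  set g : ↥H := (z : ↥H) * y with hgdef
  have hgP : ∀ x ∈ (P : Subgroup M).map M.subtype, g * x * g⁻¹ ∈ (P : Subgroup M).map M.subtype := by
    intro x hx
    have h1 : y * x * y⁻¹ ∈ (P' : Subgroup M).map M.subtype := hP' ▸ ⟨x, hx, rfl⟩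
    obtain ⟨w, hw, hwe⟩ := h1
    refine ⟨z * w * z⁻¹, ?_, ?_⟩
    · rw [← hz, Sylow.coe_subgroup_smul]
      exact Subgroup.smul_mem_pointwise_smul w (MulAut.conj z) _ hw
    · simp only [Subgroup.coe_subtype] at hwe ⊢
      rw [Subgroup.coe_mul, Subgroup.coe_mul, Subgroup.coe_inv, hwe, hgdef]
      group
  -- the image of P is the cyclic group of order 7
  obtain ⟨x, hxP, hπx⟩ : ∃ x ∈ (P : Subgroup M).map M.subtype, π x = c := by
    let f : M →* ↥(Subgroup.zpowers c) := π.subgroupComap _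
    have hfs : Function.Surjective f := π.subgroupComap_surjective_of_surjective _ hπ
    have htop : (P.mapSurjective hfs : Subgroup ↥(Subgroup.zpowers c)) = ⊤ := by
      have := (P.mapSurjective hfs).card_eq_multiplicity
      rw [Nat.card_zpowers, hc, Nat.Prime.factorization_self (by norm_num), pow_one] at this
      exact Subgroup.eq_top_of_card_eq _ (by rw [this, Nat.card_zpowers, hc])
    have : (⟨c, Subgroup.mem_zpowers c⟩ : ↥(Subgroup.zpowers c)) ∈ (P : Subgroup M).map f := by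
      rw [← Sylow.coe_mapSurjective hfs P, htop]; trivial
    obtain ⟨w, hw, hwe⟩ := this
    exact ⟨w, ⟨w, hw, rfl⟩, congrArg Subtype.val hwe⟩
  -- move into the torus
  let ι : ↥H →* ↥(twistedF4 K (2 ^ m)) := H.subtype
  have hpg : IsPGroup 7 ↥(((P : Subgroup M).map M.subtype).map ι) := (P.isPGroup'.map _).map _
  obtain ⟨Q, hQ⟩ := hpg.exists_le_sylow
  obtain ⟨a, ha⟩ := MulAction.exists_smul_eq ↥(twistedF4 K (2 ^ m)) Q S
  set R : Subgroup ↥(twistedF4 K (2 ^ m)) :=
    (((P : Subgroup M).map M.subtype).map ι).map (MulAut.conj a).toMonoidHom with hRdef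
  have hRT : R ≤ T1 := by
    have h1 : R ≤ (S : Subgroup ↥(twistedF4 K (2 ^ m))) := by
      rw [← ha, Sylow.coe_subgroup_smul]
      rintro _ ⟨w, hw, rfl⟩
      exact Subgroup.smul_mem_pointwise_smul w (MulAut.conj a) _ (hQ hw)
    exact h1.trans (Subgroup.map_subtype_le _)
  set g' := MulAut.conj a (ι g) with hg'
  have hn : ∀ w ∈ R, g' * w * g'⁻¹ ∈ R := by
    rintro _ ⟨_, ⟨w, hw, rfl⟩, rfl⟩
    refine ⟨ι (g * w * g⁻¹), ⟨_, hgP w hw, rfl⟩, ?_⟩
    simp [hg']
    group
  have key := TorusAutomizer15.twistedF4_automizer m hK (R.map (twistedF4 K (2 ^ m)).subtype)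
    (by rintro _ ⟨w, hw, rfl⟩; exact hRT hw) g'.2
    (by rintro _ ⟨w, hw, rfl⟩; exact ⟨_, hn w hw, rfl⟩)
    (x := (MulAut.conj a (ι x) : ↥(twistedF4 K (2 ^ m)))) ⟨_, ⟨_, ⟨x, hxP, rfl⟩, rfl⟩, rfl⟩
  have key' : g ^ 16 * x * (g ^ 16)⁻¹ = x := by
    apply H.subtype_injective
    apply (MulAut.conj a).injective
    apply Subtype.ext
    refine Eq.trans ?_ key
    simp only [hg', ι, map_mul, map_pow, map_inv, Subgroup.coe_mul, Subgroup.coe_pow, Subgroup.coe_inv]
  -- the action in the alternating group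
  have hg2 : π g * c * (π g)⁻¹ = c ^ 2 := by
    obtain ⟨k, hk⟩ := Subgroup.mem_zpowers_iff.mp (z.2 : π (z : ↥H) ∈ Subgroup.zpowers c)
    rw [hgdef, map_mul, hy, ← hk, show c ^ k * d * c * (c ^ k * d)⁻¹ = c ^ k * (d * c * d⁻¹) * (c ^ k)⁻¹ by group,
      hdc, ((Commute.refl c).zpow_left k).pow_right 2 |>.eq, mul_inv_cancel_right]
  have hgn : ∀ j : ℕ, π g ^ j * c * (π g ^ j)⁻¹ = c ^ 2 ^ j := by
    intro j
    induction j with
    | zero => simp
    | succ j ih =>
      rw [show π g ^ (j + 1) * c * (π g ^ (j + 1))⁻¹ = π g * (π g ^ j * c * (π g ^ j)⁻¹) * (π g)⁻¹ by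
        rw [pow_succ']; group, ih, ← conj_pow, hg2, ← pow_mul, ← pow_succ']
  have h16 := congrArg π key'
  simp only [map_mul, map_pow, map_inv, hπx, hgn] at h16
  have h17 : c ^ (2 ^ 16 % orderOf c) = c := by rw [pow_mod_orderOf]; exact h16
  rw [hc, show (2 : ℕ) ^ 16 % 7 = 2 from by norm_num, pow_two, mul_eq_left] at h17
  rw [h17, orderOf_one] at hc
  omega

end Cfsg.Agent.S2661
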