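import Cfsg.Statements.S2665
-- import your own Cfsg.Agent.* helpers here

set_option autoImplicit false
open scoped MatrixGroups
open Cfsg

namespace Cfsg.Agent.S2665

open Polynomial in
/-- The coefficient recursion of the existence proof. -/
noncomputable def cf {K : Type*} [Field K] (q : ℕ) (a : ℕ → K) : ℕ → K[X]
  | 0 => C (a 0) * X ^ q
  | (i + 1) => cf q a i ^ q + C (a (i + 1)) * X ^ q

open Polynomial in
lemma exists_root_pow_sub {K : Type*} [Field K] [IsAlgClosed K] {q : ℕ} (hq : 2 ≤ q) (b : K) :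
    ∃ d : K, d ^ q - d = b := by
  obtain ⟨d, hd⟩ := IsAlgClosed.exists_root (k := K) (X ^ q - (X + C b)) (by
    rw [degree_sub_eq_left_of_degree_lt]
    · rw [degree_X_pow]; exact_mod_cast (by omega : q ≠ 0)
    · rw [degree_X_pow, degree_X_add_C]; exact_mod_cast hq)
  exact ⟨d, by simp [IsRoot] at hd; linear_combination hd⟩

open Polynomial in
lemma cf_ne_zero {K : Type*} [Field K] {q : ℕ} (hq : 2 ≤ q) (hqK : (q : K) = 0) (a : ℕ → K) :
    ∀ i, (derivative (cf q a i) = 0) ∧ (cf q a i).eval 0 = 0 ∧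
      (cf q a i ≠ 0 → 2 ≤ (cf q a i).natDegree) ∧ ((∃ j ≤ i, a j ≠ 0) → cf q a i ≠ 0) := by
  have small : ∀ P : K[X], derivative P = 0 → P.eval 0 = 0 → P ≠ 0 → 2 ≤ P.natDegree := by
    intro P h1 h2 h3
    by_contra h
    have hP := eq_X_add_C_of_natDegree_le_one (p := P) (by omega)
    rw [hP] at h1 h2
    simp at h1 h2
    apply h3
    rw [hP, h1, h2]
    simp
  have hqC : (C (q : K) : K[X]) = 0 := by rw [hqK, C_0]
  intro i
  induction i with
  | zero =>
    have h1 : derivative (cf q a 0) = 0 := by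
      simp [cf, derivative_X_pow, hqK, hqC]
    have h2 : (cf q a 0).eval 0 = 0 := by simp [cf, zero_pow (by omega : q ≠ 0)]
    refine ⟨h1, h2, small _ h1 h2, ?_⟩
    rintro ⟨j, hj, haj⟩
    obtain rfl : j = 0 := by omega
    simp [cf, haj]
  | succ i ih =>
    obtain ⟨ih1, ih2, ih3, ih4⟩ := ih
    have h1 : derivative (cf q a (i + 1)) = 0 := by
      simp [cf, derivative_X_pow, derivative_pow, hqK, hqC]
    have h2 : (cf q a (i + 1)).eval 0 = 0 := by
      simp [cf, ih2, zero_pow (by omega : q ≠ 0)]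
    refine ⟨h1, h2, small _ h1 h2, ?_⟩
    rintro ⟨j, hj, haj⟩ h0
    rw [cf] at h0
    by_cases hi : cf q a i = 0
    · rw [hi, zero_pow (by omega : q ≠ 0), zero_add] at h0
      have hai : a (i + 1) = 0 := by simpa using h0
      rcases Nat.lt_or_ge i j with hlt | hge
      · exact haj (by rw [show j = i + 1 by omega]; exact hai)
      · exact ih4 ⟨j, hge, haj⟩ hi
    · have hdeg := congrArg natDegree (eq_neg_of_add_eq_zero_left h0)
      rw [natDegree_pow, natDegree_neg] at hdeg
      have hle := natDegree_C_mul_X_pow_le (a (i + 1)) q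
      have := ih3 hi
      nlinarith

open Polynomial in
lemma exists_nonzero_root {K : Type*} [Field K] [IsAlgClosed K] {q : ℕ} (hq : 2 ≤ q)
    (hqK : (q : K) = 0) (a : ℕ → K) (m : ℕ) (ha : ∃ j ≤ m, a j ≠ 0) :
    ∃ t : K, t ≠ 0 ∧ (cf q a m).eval t = t := by
  obtain ⟨hd, h0, h2, hne⟩ := cf_ne_zero hq hqK a m
  have hdeg2 := h2 (hne ha)
  set P := cf q a m - X with hP
  have hPdeg : P.natDegree = (cf q a m).natDegree :=
    natDegree_sub_eq_left_of_natDegree_lt (by rw [natDegree_X]; omega)
  have hP0 : P ≠ 0 := by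
    intro h; rw [h, natDegree_zero] at hPdeg; omega
  have hsep : P.Separable := by
    rw [separable_def, hP, derivative_sub, hd, derivative_X, zero_sub]
    exact isCoprime_one_right.neg_right
  have hcard : P.roots.card = P.natDegree := (IsAlgClosed.splits P).natDegree_eq_card_roots.symm
  have hnd := nodup_roots hsep
  by_contra hcon
  push Not at hcon
  have hsub : P.roots ≤ {0} := by
    rw [Multiset.le_iff_subset hnd]
    intro t ht
    rw [mem_roots hP0, IsRoot, hP, eval_sub, eval_X, sub_eq_zero] at ht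
    simp only [Multiset.mem_singleton]
    by_contra ht0
    exact hcon t ht0 ht
  have := Multiset.card_le_card hsub
  simp at this
  omega

open Finset in
lemma span_fixed_eq_top {K V : Type*} [Field K] [IsAlgClosed K] [AddCommGroup V] [Module K V]
    [FiniteDimensional K V] {q : ℕ} (hq : 2 ≤ q) (hqK : (q : K) = 0) (φ : V → V)
    (hadd : ∀ v w, φ (v + w) = φ v + φ w) (hsmul : ∀ (c : K) v, φ (c • v) = c ^ q • φ v)
    (hinj : Function.Injective φ) : Submodule.span K {v | φ v = v} = ⊤ := by
  classical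
  set W := Submodule.span K {v | φ v = v} with hW
  let Φ : V →+ V := AddMonoidHom.mk' φ hadd
  have hΦ : ∀ v, Φ v = φ v := fun _ => rfl
  -- images and differences inside W
  have hpre : ∀ z ∈ W, ∀ c : K, (∃ z' ∈ W, φ z' = c • z) ∧ (∃ z' ∈ W, φ z' - z' = c • z) := by
    intro z hz
    induction hz using Submodule.span_induction with
    | mem y hy =>
      intro c
      obtain ⟨d, hd⟩ := IsAlgClosed.exists_pow_nat_eq c (by omega : 0 < q)
      obtain ⟨e, he⟩ := exists_root_pow_sub hq c
      exact ⟨⟨d • y, W.smul_mem _ (Submodule.subset_span hy), by rw [hsmul, hy, hd]⟩,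
        ⟨e • y, W.smul_mem _ (Submodule.subset_span hy), by rw [hsmul, hy, ← sub_smul, he]⟩⟩
    | zero =>
      intro c
      have : φ 0 = 0 := Φ.map_zero
      exact ⟨⟨0, W.zero_mem, by rw [this, smul_zero]⟩, ⟨0, W.zero_mem, by rw [this, smul_zero, sub_zero]⟩⟩
    | add x y _ _ hx hy =>
      intro c
      obtain ⟨⟨x1, hx1, ex1⟩, ⟨x2, hx2, ex2⟩⟩ := hx c
      obtain ⟨⟨y1, hy1, ey1⟩, ⟨y2, hy2, ey2⟩⟩ := hy c
      exact ⟨⟨x1 + y1, W.add_mem hx1 hy1, by rw [hadd, ex1, ey1, smul_add]⟩,
        ⟨x2 + y2, W.add_mem hx2 hy2, by rw [hadd, smul_add, ← ex2, ← ey2]; abel⟩⟩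
    | smul b x _ hx =>
      intro c
      rw [smul_smul]
      exact hx (c * b)
  have hback : ∀ v, φ v ∈ W → v ∈ W := by
    intro v hv
    obtain ⟨⟨z', hz', he⟩, -⟩ := hpre _ hv 1
    rw [one_smul] at he
    exact hinj he ▸ hz'
  by_contra hne
  obtain ⟨w, hw⟩ : ∃ w, w ∉ W := by
    by_contra h; push Not at h
    exact hne (Submodule.eq_top_iff'.mpr h)
  let S : ℕ → Submodule K V := fun m => W ⊔ Submodule.span K (Set.range fun i : Fin m => φ^[i] w)
  have hex : ∃ k, φ^[k] w ∈ S k := by
    by_contra h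
    push Not at h
    have hlt : ∀ k, S k < S (k + 1) := by
      intro k
      refine SetLike.lt_iff_le_and_exists.mpr ⟨?_, φ^[k] w, ?_, h k⟩
      · refine sup_le_sup_left (Submodule.span_mono ?_) _
        rintro _ ⟨i, rfl⟩
        exact ⟨i.castSucc, rfl⟩
      · exact Submodule.mem_sup_right (Submodule.subset_span ⟨Fin.last k, rfl⟩)
    have hge : ∀ k, k ≤ Module.finrank K (S k) := by
      intro k
      induction k with
      | zero => exact Nat.zero_le _
      | succ k ih => have := Submodule.finrank_lt_finrank_of_lt (hlt k); omega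
    have := (hge (Module.finrank K V + 1)).trans (Submodule.finrank_le _)
    omega
  set k := Nat.find hex with hk
  have hkmem : φ^[k] w ∈ S k := Nat.find_spec hex
  obtain ⟨m, hm⟩ : ∃ m, k = m + 1 := by
    rcases Nat.eq_zero_or_pos k with h | h
    · exfalso
      rw [h] at hkmem
      apply hw
      simpa [S] using hkmem
    · exact ⟨k - 1, by omega⟩
  have hmin : φ^[m] w ∉ S m := Nat.find_min hex (by omega)
  rw [hm] at hkmem
  obtain ⟨z, hz, y, hy, hzy⟩ := Submodule.mem_sup.mp hkmem
  obtain ⟨c, hc⟩ := (Submodule.mem_span_range_iff_exists_fun K).mp hy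
  let a : ℕ → K := fun i => if h : i < m + 1 then c ⟨i, h⟩ else 0
  have hrel : φ^[m + 1] w = (∑ i ∈ range (m + 1), a i • φ^[i] w) + z := by
    rw [← hzy, ← hc, Finset.sum_range, add_comm]
    congr 1
    refine Finset.sum_congr rfl fun i _ => ?_
    simp only [a]; rw [dif_pos i.2]
  have hsuccit : ∀ i, φ^[i + 1] w = φ (φ^[i] w) := fun i => Function.iterate_succ_apply' φ i w
  have ha : ∃ j ≤ m, a j ≠ 0 := by
    by_contra h
    push Not at h
    have hzero : φ^[m + 1] w = z := by
      rw [hrel, Finset.sum_eq_zero, zero_add]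
      intro i hi
      rw [h i (by simpa [Nat.lt_succ_iff] using hi), zero_smul]
    rw [hsuccit] at hzero
    exact hmin (Submodule.mem_sup_left (hback _ (hzero ▸ hz)))
  obtain ⟨t, ht0, ht⟩ := exists_nonzero_root hq hqK a m ha
  let e : ℕ → K := fun i => (cf q a i).eval t
  have he0 : e 0 = a 0 * t ^ q := by simp [e, cf]
  have hesucc : ∀ i, e (i + 1) = e i ^ q + a (i + 1) * t ^ q := by
    intro i; simp [e, cf]
  set u := ∑ i ∈ range (m + 1), e i • φ^[i] w with hu
  have huW : u ∉ W := by
    intro hmem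
    apply hmin
    have hlow : ∑ i ∈ range m, e i • φ^[i] w ∈ S m := Submodule.mem_sup_right
      (Submodule.sum_mem _ fun i hi => Submodule.smul_mem _ _
        (Submodule.subset_span ⟨⟨i, Finset.mem_range.mp hi⟩, rfl⟩))
    have hlast : e m • φ^[m] w ∈ S m := by
      have := Submodule.sub_mem _ (Submodule.mem_sup_left hmem : u ∈ S m) hlow
      rwa [hu, Finset.sum_range_succ, add_sub_cancel_left] at this
    have := (S m).smul_mem t⁻¹ hlast
    rwa [show e m = t from ht, smul_smul, inv_mul_cancel₀ ht0, one_smul] at this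
  have hφu : φ u = u + t ^ q • z := by
    have h1 : φ u = ∑ i ∈ range (m + 1), e i ^ q • φ^[i + 1] w := by
      rw [hu, ← hΦ, map_sum]
      exact Finset.sum_congr rfl fun i _ => by rw [hΦ, hsmul, hsuccit]
    have h2 : u = t ^ q • (∑ i ∈ range (m + 1), a i • φ^[i] w) + ∑ i ∈ range m, e i ^ q • φ^[i + 1] w := by
      rw [hu, Finset.sum_range_succ' (fun i => e i • φ^[i] w), Finset.smul_sum,
        Finset.sum_range_succ' (fun i => t ^ q • a i • φ^[i] w), he0]
      simp only [hesucc, add_smul, Finset.sum_add_distrib, smul_smul, mul_comm (t ^ q)]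
      rw [add_assoc, add_comm]
    rw [h1, Finset.sum_range_succ, show e m = t from ht, hrel, smul_add, h2]
    abel
  obtain ⟨-, z', hz', hz'e⟩ := hpre z hz (-t ^ q)
  apply huW
  have hfix : φ (u + z') = u + z' := by
    rw [hadd, hφu, eq_add_of_sub_eq hz'e, neg_smul]
    abel
  have : u + z' ∈ W := Submodule.subset_span hfix
  simpa using W.sub_mem this hz'

lemma exists_fixed_basis {K : Type*} [Field K] {n : ℕ} (φ : (Fin n → K) → (Fin n → K))
    (h : Submodule.span K {v | φ v = v} = ⊤) :
    ∃ b : Module.Basis (Fin n) K (Fin n → K), ∀ j, φ (b j) = b j := by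
  obtain ⟨s, hs, hspan, hli⟩ := exists_linearIndependent K {v : Fin n → K | φ v = v}
  have b := Module.Basis.mk hli (by rw [Subtype.range_coe, hspan, h])
  have hfin : Fintype s := FiniteDimensional.fintypeBasisIndex (Module.Basis.mk hli (by rw [Subtype.range_coe, hspan, h]))
  have hcard : Fintype.card s = n := by
    rw [← Module.finrank_eq_card_basis b, Module.finrank_fintype_fun_eq_card, Fintype.card_fin]
  refine ⟨(Module.Basis.mk hli (by rw [Subtype.range_coe, hspan, h])).reindex
    (Fintype.equivFinOfCardEq hcard), fun j => ?_⟩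
  simp only [Module.Basis.reindex_apply, Module.Basis.mk_apply]
  exact hs (Subtype.prop _)

/-- The Lang–Steinberg Theorem for the general linear group. Let `K` be an algebraically closed field of prime characteristic `p`, let `q = p^f` with `f ≥ 1`, and let `σ` be the endomorphism of GL_n(K) raising every matrix entry to the `q`-th power. Then every element `g` of GL_n(K) can be written `g = x · σ(x)⁻¹` for some `x` in GL_n(K): the map `x ↦ x σ(x)⁻¹` is surjective. -/
theorem result {K : Type*} [Field K] [IsAlgClosed K] (p : ℕ) [Fact p.Prime] [CharP K p]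
    (f : ℕ) (hf : 1 ≤ f) (n : ℕ) (g : GL (Fin n) K) :
    ∃ x : GL (Fin n) K, g = x * (Matrix.GeneralLinearGroup.map (iterateFrobenius K p f) x)⁻¹ := by
  classical
  set q := p ^ f with hqdef
  have hq : 2 ≤ q := Nat.one_lt_pow (by omega) (Fact.out : p.Prime).one_lt
  have hqK : (q : K) = 0 := by
    rw [hqdef, Nat.cast_pow, CharP.cast_eq_zero, zero_pow (by omega)]
  set G := (g : Matrix (Fin n) (Fin n) K) with hG
  have hGinj : Function.Injective G.mulVec := Matrix.mulVec_injective_of_isUnit ⟨g, rfl⟩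
  let φ : (Fin n → K) → (Fin n → K) := fun v => G.mulVec (fun i => v i ^ q)
  have hadd : ∀ v w, φ (v + w) = φ v + φ w := by
    intro v w
    simp only [φ, Pi.add_apply, hqdef, add_pow_char_pow]
    exact Matrix.mulVec_add G _ _
  have hsmul : ∀ (c : K) v, φ (c • v) = c ^ q • φ v := by
    intro c v
    simp only [φ, Pi.smul_apply, smul_eq_mul, mul_pow]
    exact Matrix.mulVec_smul G (c ^ q) (fun i => v i ^ q)
  have hinj : Function.Injective φ := by
    intro v w h
    have h' := hGinj h
    funext i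
    have := congrFun h' i
    exact iterateFrobenius_inj K p f (by simpa [iterateFrobenius_def, hqdef] using this)
  have hspan := span_fixed_eq_top hq hqK φ hadd hsmul hinj
  obtain ⟨b, hb⟩ := exists_fixed_basis φ hspan
  let x : GL (Fin n) K := Matrix.GeneralLinearGroup.mkOfDetNeZero (Matrix.of fun i j => b j i) (by
    have h1 : (Matrix.of fun i j => b j i) = (Pi.basisFun K (Fin n)).toMatrix b := by
      ext i j
      simp [Module.Basis.toMatrix_apply, Pi.basisFun_repr]
    rw [h1, ← Module.Basis.det_apply]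
    exact ((Pi.basisFun K (Fin n)).isUnit_det b).ne_zero)
  refine ⟨x, ?_⟩
  rw [eq_mul_inv_iff_mul_eq]
  refine Units.ext (Matrix.ext fun i j => ?_)
  have := congrFun (hb j) i
  simpa [x, φ, Matrix.mul_apply, Matrix.mulVec, dotProduct, hG, iterateFrobenius_def, hqdef] using this

end Cfsg.Agent.S2665
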