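import Cfsg.Statements.S2666
-- import your own Cfsg.Agent.* helpers here

set_option autoImplicit false
open Cfsg

namespace Cfsg.Agent.S2666

/-- Shintani descent, in an abstract form. Let `σ` be an automorphism of a group `X` such that the maps `a ↦ a·σ(a)⁻¹` and `a ↦ a·σᵉ(a)⁻¹` are surjective on `X` (the Lang–Steinberg property, which holds when `X` is a connected algebraic group and `σ` a Steinberg endomorphism), where `e ≥ 1`. Write `G` for the subgroup of fixed points of `σᵉ` and `H` for the subgroup of fixed points of `σ`. The `G`-conjugacy classes in the coset `G σ` of the semidirect product of `G` by `σ` correspond to the orbits of `G` on itself under twisted conjugation `g ↦ k g σ(k)⁻¹`, and the `e`-th power of `g σ` has `G`-part the norm `g σ(g) ⋯ σ^(e-1)(g)`. For `g` in `G` and any `a` with `g = a σ(a)⁻¹`, put `x = σᵉ(a)⁻¹ a`. Then: (1) `x` lies in `H`, and `a⁻¹ · (g σ(g) ⋯ σ^(e-1)(g)) · a = x`; (2) for `g, g'` in `G`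 with such elements `a, b` and `x, x'`, the elements `g, g'` are twisted-conjugate under `G` if and only if `x, x'` are conjugate in `H`; (3) every element of `H` arises as such an `x`. So `g ↦ x` induces a well-defined bijection from the twisted `G`-classes of `G` onto the conjugacy classes of `H` (the Shintani map). -/
theorem result {X : Type*} [Group X] (σ : MulAut X) (e : ℕ) (he : 1 ≤ e)
    (hL : ∀ g : X, ∃ a : X, g = a * (σ a)⁻¹) (hLe : ∀ g : X, ∃ a : X, g = a * ((σ ^ e) a)⁻¹) :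
    (∀ g ∈ (MulEquiv.toMonoidHom (σ ^ e)).eqLocus (MonoidHom.id X), ∀ a : X, g = a * (σ a)⁻¹ →
        ((σ ^ e) a)⁻¹ * a ∈ (MulEquiv.toMonoidHom σ).eqLocus (MonoidHom.id X) ∧
          a⁻¹ * ((List.range e).map (fun i => (σ ^ i) g)).prod * a = ((σ ^ e) a)⁻¹ * a) ∧
    (∀ g ∈ (MulEquiv.toMonoidHom (σ ^ e)).eqLocus (MonoidHom.id X), ∀ g' ∈ (MulEquiv.toMonoidHom (σ ^ e)).eqLocus (MonoidHom.id X), ∀ a b : X,
        g = a * (σ a)⁻¹ → g' = b * (σ b)⁻¹ →
          ((∃ k ∈ (MulEquiv.toMonoidHom (σ ^ e)).eqLocus (MonoidHom.id X), g' = k * g * (σ k)⁻¹) ↔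
            (∃ h ∈ (MulEquiv.toMonoidHom σ).eqLocus (MonoidHom.id X), ((σ ^ e) b)⁻¹ * b = h * (((σ ^ e) a)⁻¹ * a) * h⁻¹))) ∧
    (∀ x ∈ (MulEquiv.toMonoidHom σ).eqLocus (MonoidHom.id X), ∃ g ∈ (MulEquiv.toMonoidHom (σ ^ e)).eqLocus (MonoidHom.id X), ∃ a : X,
        g = a * (σ a)⁻¹ ∧ ((σ ^ e) a)⁻¹ * a = x) := by
  have memS : ∀ (τ : MulAut X) (y : X), y ∈ (MulEquiv.toMonoidHom τ).eqLocus (MonoidHom.id X) ↔ τ y = y := fun _ _ => Iff.rfl
  simp only [memS]
  have comm : ∀ y : X, (σ ^ e) (σ y) = σ ((σ ^ e) y) := by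
    intro y
    rw [← MulAut.mul_apply, ← MulAut.mul_apply, ← pow_succ, ← pow_succ']
  have fixpow : ∀ (n : ℕ) (h : X), σ h = h → (σ ^ n) h = h := by
    intro n h hh
    induction n with
    | zero => rfl
    | succ n ih => rw [pow_succ, MulAut.mul_apply, hh, ih]
  have norm : ∀ (a : X) (n : ℕ),
      ((List.range n).map (fun i => (σ ^ i) (a * (σ a)⁻¹))).prod = a * ((σ ^ n) a)⁻¹ := by
    intro a n
    induction n with
    | zero => simp
    | succ n ih =>
      rw [List.range_succ, List.map_append, List.prod_append, ih]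
      simp only [List.map_cons, List.map_nil, List.prod_cons, List.prod_nil, mul_one, map_mul,
        map_inv, pow_succ, MulAut.mul_apply]
      group
  have fx : ∀ a : X, (σ ^ e) (a * (σ a)⁻¹) = a * (σ a)⁻¹ ↔
      σ (((σ ^ e) a)⁻¹ * a) = ((σ ^ e) a)⁻¹ * a := by
    intro a
    simp only [map_mul, map_inv, ← comm a]
    constructor
    · intro h
      calc ((σ ^ e) (σ a))⁻¹ * σ a
          = ((σ ^ e) a)⁻¹ * ((σ ^ e) a * ((σ ^ e) (σ a))⁻¹) * σ a := by group
        _ = ((σ ^ e) a)⁻¹ * (a * (σ a)⁻¹) * σ a := by rw [h]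
        _ = _ := by group
    · intro h
      calc (σ ^ e) a * ((σ ^ e) (σ a))⁻¹
          = (σ ^ e) a * (((σ ^ e) (σ a))⁻¹ * σ a) * (σ a)⁻¹ := by group
        _ = (σ ^ e) a * (((σ ^ e) a)⁻¹ * a) * (σ a)⁻¹ := by rw [h]
        _ = _ := by group
  refine ⟨?_, ?_, ?_⟩
  · intro g hg a ha
    subst ha
    refine ⟨(fx a).mp hg, ?_⟩
    rw [norm]; group
  · intro g hg g' hg' a b ha hb
    subst ha hb
    constructor
    · rintro ⟨k, hk, hkg⟩
      refine ⟨b⁻¹ * k * a, ?_, ?_⟩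
      · have : σ k = σ b * b⁻¹ * k * a * (σ a)⁻¹ := by
          calc σ k = (b * (σ b)⁻¹)⁻¹ * ((b * (σ b)⁻¹) * σ k) := by group
            _ = (b * (σ b)⁻¹)⁻¹ * ((k * (a * (σ a)⁻¹) * (σ k)⁻¹) * σ k) := by rw [hkg]
            _ = _ := by group
        simp only [map_mul, map_inv, this]
        group
      · have hσ : σ (b⁻¹ * k * a) = b⁻¹ * k * a := by
          have : σ k = σ b * b⁻¹ * k * a * (σ a)⁻¹ := by
            calc σ k = (b * (σ b)⁻¹)⁻¹ * ((b * (σ b)⁻¹) * σ k) := by group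
              _ = (b * (σ b)⁻¹)⁻¹ * ((k * (a * (σ a)⁻¹) * (σ k)⁻¹) * σ k) := by rw [hkg]
              _ = _ := by group
          simp only [map_mul, map_inv, this]
          group
        have ht := fixpow e _ hσ
        simp only [map_mul, map_inv, hk] at ht
        calc ((σ ^ e) b)⁻¹ * b
            = (((σ ^ e) b)⁻¹ * k * (σ ^ e) a) * ((σ ^ e) a)⁻¹ * k⁻¹ * b := by group
          _ = (b⁻¹ * k * a) * ((σ ^ e) a)⁻¹ * k⁻¹ * b := by rw [ht]
          _ = _ := by group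
    · rintro ⟨h, hh, hx⟩
      refine ⟨b * h * a⁻¹, ?_, ?_⟩
      · simp only [map_mul, map_inv, fixpow e h hh]
        calc (σ ^ e) b * h * ((σ ^ e) a)⁻¹
            = (σ ^ e) b * (h * (((σ ^ e) a)⁻¹ * a) * h⁻¹) * h * a⁻¹ := by group
          _ = (σ ^ e) b * (((σ ^ e) b)⁻¹ * b) * h * a⁻¹ := by rw [hx]
          _ = _ := by group
      · simp only [map_mul, map_inv, hh]
        group
  · intro x hx
    obtain ⟨c, hc⟩ := hLe x⁻¹
    have hxa : ((σ ^ e) c⁻¹)⁻¹ * c⁻¹ = x := by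
      rw [← inv_inv x, hc, map_inv]; group
    exact ⟨c⁻¹ * (σ c⁻¹)⁻¹, (fx _).mpr (by rw [hxa]; exact hx), c⁻¹, rfl, hxa⟩

end Cfsg.Agent.S2666
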