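import Cfsg.Statements.S2667
-- import your own Cfsg.Agent.* helpers here

set_option autoImplicit false
open Cfsg

namespace Cfsg.Agent.S2667

/-- Shintani descent, in an abstract form. Let `σ` be an automorphism of a group `X` and `e ≥ 1` (no surjectivity of the Lang maps is needed for this part; in the classical setting `X` is a connected algebraic group and `σ` a Steinberg endomorphism). Write `G` for the subgroup of fixed points of `σᵉ` and `H` for the subgroup of fixed points of `σ`. The `G`-conjugacy classes in the coset `G σ` of the semidirect product of `G` by `σ` correspond to the orbits of `G` on itself under twisted conjugation `g ↦ k g σ(k)⁻¹`, and the `e`-th power of `g σ` has `G`-part the norm `g σ(g) ⋯ σ^(e-1)(g)`. For `g` in `G` and any `a` with `g = a σ(a)⁻¹`, put `x = σᵉ(a)⁻¹ a`. Then conjugation by `a⁻¹` carries the twisted centralizer `{k ∈ G : k g σ(k)⁻¹ = g}` (the centralizer of `g σ` in `G`) exactly onto the centralizer of `x`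 in `H`: an element `k` of `X` lies in `G` and satisfies `k g σ(k)⁻¹ = g` if and only if `a⁻¹ k a` lies in `H` and commutes with `x`. In particular the two centralizers are conjugate in `X` and have the same order. -/
theorem result {X : Type*} [Group X] (σ : MulAut X) (e : ℕ) (he : 1 ≤ e)
    (g : X) (hg : g ∈ (MulEquiv.toMonoidHom (σ ^ e)).eqLocus (MonoidHom.id X)) (a : X) (ha : g = a * (σ a)⁻¹) (k : X) :
    (k ∈ (MulEquiv.toMonoidHom (σ ^ e)).eqLocus (MonoidHom.id X) ∧ k * g * (σ k)⁻¹ = g) ↔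
      (a⁻¹ * k * a ∈ (MulEquiv.toMonoidHom σ).eqLocus (MonoidHom.id X) ∧
        (a⁻¹ * k * a) * (((σ ^ e) a)⁻¹ * a) = (((σ ^ e) a)⁻¹ * a) * (a⁻¹ * k * a)) := by
  change (σ ^ e) g = g at hg
  change ((σ ^ e) k = k ∧ _) ↔ (σ (a⁻¹ * k * a) = a⁻¹ * k * a ∧ _)
  obtain ⟨h, rfl⟩ : ∃ h, k = a * h * a⁻¹ := ⟨a⁻¹ * k * a, by group⟩
  have e1 : a⁻¹ * (a * h * a⁻¹) * a = h := by group
  rw [e1]
  subst ha
  have comm : ∀ y : X, (σ ^ e) (σ y) = σ ((σ ^ e) y) := by
    intro y
    rw [← MulAut.mul_apply, ← MulAut.mul_apply, ← pow_succ, ← pow_succ']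
  have fixpow : ∀ (n : ℕ) (y : X), σ y = y → (σ ^ n) y = y := by
    intro n y hy
    induction n with
    | zero => rfl
    | succ n ih => rw [pow_succ, MulAut.mul_apply, hy, ih]
  have h1 : a * h * a⁻¹ * (a * (σ a)⁻¹) * (σ (a * h * a⁻¹))⁻¹ = a * (σ a)⁻¹ ↔ σ h = h := by
    simp only [map_mul, map_inv, mul_inv_rev, inv_inv]
    constructor
    · intro hh
      have : h * (σ h)⁻¹ = 1 := by
        calc h * (σ h)⁻¹ = a⁻¹ * (a * h * a⁻¹ * (a * (σ a)⁻¹) * (σ a * ((σ h)⁻¹ * (σ a)⁻¹))) * σ a := by group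
          _ = a⁻¹ * (a * (σ a)⁻¹) * σ a := by rw [hh]
          _ = 1 := by group
      exact (mul_inv_eq_one.mp this).symm
    · intro hh
      rw [hh]; group
  rw [h1, and_comm]
  constructor
  · rintro ⟨hs, hk⟩
    have ht : (σ ^ e) h = h := fixpow e h hs
    refine ⟨hs, ?_⟩
    simp only [map_mul, map_inv, ht] at hk
    calc h * (((σ ^ e) a)⁻¹ * a)
        = ((σ ^ e) a)⁻¹ * ((σ ^ e) a * h * ((σ ^ e) a)⁻¹) * a := by group
      _ = ((σ ^ e) a)⁻¹ * (a * h * a⁻¹) * a := by rw [hk]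
      _ = _ := by group
  · rintro ⟨hs, hk⟩
    have ht : (σ ^ e) h = h := fixpow e h hs
    refine ⟨hs, ?_⟩
    simp only [map_mul, map_inv, ht]
    calc (σ ^ e) a * h * ((σ ^ e) a)⁻¹
        = (σ ^ e) a * (h * (((σ ^ e) a)⁻¹ * a)) * a⁻¹ := by group
      _ = (σ ^ e) a * ((((σ ^ e) a)⁻¹ * a) * h) * a⁻¹ := by rw [hk]
      _ = _ := by group

end Cfsg.Agent.S2667
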