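import Cfsg.Statements.S2668
-- import your own Cfsg.Agent.* helpers here

set_option autoImplicit false
open Cfsg

namespace Cfsg.Agent.S2668

/-- Shintani descent and powers (abstract form). Let `σ` be an automorphism of a group `X`, `e ≥ 1` and `d ≥ 1`, let `g` be fixed by `σᵉ` and let `a` satisfy `g = a σ(a)⁻¹`, so that the Shintani map of `(X, σ, e)` sends the class of `g σ` to the class of `x = σᵉ(a)⁻¹ a`. Put `h = g σ(g) ⋯ σ^(d-1)(g)`, the part in `X` of the `d`-th power `(g σ)^d = h σ^d`. Then `h = a σ^d(a)⁻¹` (so `a` also serves for `h` with respect to `σ^d`), `h` is fixed by `(σ^d)ᵉ`, and `(σ^d)ᵉ(a)⁻¹ a = x^d`: the Shintani map of `(X, σ^d, e)` sends the class of `(g σ)^d` to the class of `x^d`. (When `d` divides `e`, the Shintani map of `(X, σ^d, e/d)` sends it to the class of `x` itself, since `(σ^d)^(e/d) = σᵉ`.) -/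
theorem result {X : Type*} [Group X] (σ : MulAut X) (e d : ℕ) (he : 1 ≤ e) (hd : 1 ≤ d)
    (g : X) (hg : g ∈ (MulEquiv.toMonoidHom (σ ^ e)).eqLocus (MonoidHom.id X)) (a : X) (ha : g = a * (σ a)⁻¹) :
    ((List.range d).map (fun i => (σ ^ i) g)).prod = a * ((σ ^ d) a)⁻¹ ∧
      ((List.range d).map (fun i => (σ ^ i) g)).prod ∈ (MulEquiv.toMonoidHom ((σ ^ d) ^ e)).eqLocus (MonoidHom.id X) ∧
      (((σ ^ d) ^ e) a)⁻¹ * a = (((σ ^ e) a)⁻¹ * a) ^ d := by
  have hσ : ∀ (k : ℕ) (u : X), (σ ^ (k+1)) u = (σ ^ k) (σ u) := fun k u => by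
    rw [pow_succ]; rfl
  have hge : (σ ^ e) g = g := hg
  have h1 : ∀ k : ℕ, ((List.range k).map (fun i => (σ ^ i) g)).prod = a * ((σ ^ k) a)⁻¹ := by
    intro k
    induction k with
    | zero => simp
    | succ k ih =>
      rw [List.range_succ, List.map_append, List.prod_append, ih, List.map_singleton,
        List.prod_singleton, hσ k a]
      conv_lhs => rw [ha]
      simp only [map_mul, map_inv]
      group
  have hfix : ∀ (k : ℕ) (u : X), (σ ^ e) u = u → ((σ ^ e) ^ k) u = u := by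
    intro k u hu
    induction k with
    | zero => rfl
    | succ k ih => rw [pow_succ', MulAut.mul_apply, ih, hu]
  have hcomm : ∀ u : X, (σ ^ e) (σ u) = σ ((σ ^ e) u) := fun u => by
    rw [← MulAut.mul_apply, ← MulAut.mul_apply, ← pow_succ, ← pow_succ']
  have hsa : σ a = g⁻¹ * a := by rw [ha]; group
  have hx : σ (((σ ^ e) a)⁻¹ * a) = ((σ ^ e) a)⁻¹ * a := by
    rw [map_mul, map_inv, ← hcomm, hsa, map_mul, map_inv, hge]
    group
  have hxe : ∀ k : ℕ, (σ ^ k) (((σ ^ e) a)⁻¹ * a) = ((σ ^ e) a)⁻¹ * a := by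
    intro k
    induction k with
    | zero => rfl
    | succ k ih => rw [hσ, hx, ih]
  refine ⟨h1 d, ?_, ?_⟩
  · rw [← pow_mul, mul_comm, pow_mul]
    show ((σ ^ e) ^ d) _ = _
    apply hfix
    rw [map_list_prod, List.map_map]
    congr 1
    apply List.map_congr_left
    intro i _
    show (σ ^ e) ((σ ^ i) g) = (σ ^ i) g
    rw [← MulAut.mul_apply, ← pow_add, add_comm, pow_add, MulAut.mul_apply, hge]
  · generalize hxdef : ((σ ^ e) a)⁻¹ * a = x at hxe
    have hea : (σ ^ e) a = a * x⁻¹ := by rw [← hxdef]; group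
    have h3 : ∀ k : ℕ, ((σ ^ e) ^ k) a = a * (x ^ k)⁻¹ := by
      intro k
      induction k with
      | zero => simp
      | succ k ih =>
        rw [pow_succ', MulAut.mul_apply, ih, map_mul, map_inv, map_pow, hxe, hea, pow_succ]
        group
    rw [← pow_mul, mul_comm d e, pow_mul, h3]
    group

end Cfsg.Agent.S2668
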