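import Cfsg.Statements.S2669
-- import your own Cfsg.Agent.* helpers here

set_option autoImplicit false
open Cfsg

namespace Cfsg.Agent.S2669

/-- Shintani descent preserves numbers of fixed points on coset spaces (abstract form). Let `σ` be an automorphism of a group `X` and `e ≥ 1`; write `G` for the fixed points of `σᵉ` and `H` for the fixed points of `σ`, and assume `G` is finite. Let `Y` be a `σ`-stable subgroup of `X` on which the maps `a ↦ a σ(a)⁻¹` and `a ↦ a σᵉ(a)⁻¹` are surjective (as for a closed connected `σ`-stable subgroup of an algebraic group). Let `g ∈ G`, let `a ∈ X` satisfy `g = a σ(a)⁻¹` and put `x = σᵉ(a)⁻¹ a` (the Shintani image, an element of `H`). The element `g σ` of the semidirect product acts on the cosets of `Y ∩ G` in `G` by `k (Y ∩ G) ↦ g σ(k) (Y ∩ G)`, fixing that coset exactly when `k⁻¹ g σ(k) ∈ Y`; and `x` fixes the coset `h (Y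 ∩ H)` of `H` exactly when `h⁻¹ x h ∈ Y`. Then the two numbers of fixed cosets agree; in cross-multiplied form, `#{k ∈ G : k⁻¹ g σ(k) ∈ Y} · |Y ∩ H| = #{h ∈ H : h⁻¹ x h ∈ Y} · |Y ∩ G|`. -/
theorem result {X : Type*} [Group X] (σ : MulAut X) (e : ℕ) (he : 1 ≤ e)
    [Finite ↥((MulEquiv.toMonoidHom (σ ^ e)).eqLocus (MonoidHom.id X))]
    (Y : Subgroup X) (hY : ∀ y : X, y ∈ Y ↔ σ y ∈ Y)
    (hYL : ∀ y ∈ Y, ∃ a ∈ Y, y = a * (σ a)⁻¹) (hYLe : ∀ y ∈ Y, ∃ a ∈ Y, y = a * ((σ ^ e) a)⁻¹)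
    (g : X) (hg : g ∈ (MulEquiv.toMonoidHom (σ ^ e)).eqLocus (MonoidHom.id X)) (a : X) (ha : g = a * (σ a)⁻¹) :
    Nat.card {k : ↥((MulEquiv.toMonoidHom (σ ^ e)).eqLocus (MonoidHom.id X)) // (k : X)⁻¹ * g * σ k ∈ Y} *
        Nat.card ↥(Y ⊓ (MulEquiv.toMonoidHom σ).eqLocus (MonoidHom.id X)) =
      Nat.card {h : ↥((MulEquiv.toMonoidHom σ).eqLocus (MonoidHom.id X)) // (h : X)⁻¹ * (((σ ^ e) a)⁻¹ * a) * h ∈ Y} *
        Nat.card ↥(Y ⊓ (MulEquiv.toMonoidHom (σ ^ e)).eqLocus (MonoidHom.id X)) := by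
  classical
  set G : Subgroup X := (MulEquiv.toMonoidHom (σ ^ e)).eqLocus (MonoidHom.id X) with hG
  set H : Subgroup X := (MulEquiv.toMonoidHom σ).eqLocus (MonoidHom.id X) with hH
  set x : X := ((σ ^ e) a)⁻¹ * a with hx
  have memG : ∀ u : X, u ∈ G ↔ (σ ^ e) u = u := fun u => Iff.rfl
  have memH : ∀ u : X, u ∈ H ↔ σ u = u := fun u => Iff.rfl
  have hHe : ∀ u : X, σ u = u → ∀ k : ℕ, (σ ^ k) u = u := by
    intro u hu k
    induction k with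
    | zero => rfl
    | succ k ih => rw [pow_succ', MulAut.mul_apply, ih, hu]
  let P := {p : X × X // p.1 ∈ G ∧ p.2 ∈ Y ∧ σ (a⁻¹ * p.1 * p.2) = a⁻¹ * p.1 * p.2}
  have hgood : ∀ p : P, p.1.1⁻¹ * g * σ p.1.1 ∈ Y := by
    rintro ⟨⟨k, b⟩, hk, hb, h⟩
    have hsk : σ k = σ a * (a⁻¹ * k * b) * (σ b)⁻¹ := by rw [← h]; simp only [map_mul, map_inv]; group
    have h2 : k⁻¹ * g * σ k = b * (σ b)⁻¹ := by rw [hsk, ha]; group
    show k⁻¹ * g * σ k ∈ Y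
    rw [h2]
    exact Y.mul_mem hb (Y.inv_mem ((hY b).1 hb))
  have hexb : ∀ k : {k : ↥G // (k : X)⁻¹ * g * σ k ∈ Y}, ∃ b ∈ Y,
      σ (a⁻¹ * (k.1 : X) * b) = a⁻¹ * (k.1 : X) * b := by
    rintro ⟨k, hk⟩
    obtain ⟨b, hb, hbeq⟩ := hYL _ hk
    refine ⟨b, hb, ?_⟩
    have hsb : σ b = ((k : X)⁻¹ * g * σ k)⁻¹ * b := by rw [hbeq]; group
    simp only [map_mul, map_inv, hsb, ha]
    group
  choose b0 hb0Y hb0 using hexb
  have heq1 : Nat.card P = Nat.card {k : ↥G // (k : X)⁻¹ * g * σ k ∈ Y} * Nat.card ↥(Y ⊓ H) := by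
    rw [← Nat.card_prod]
    refine Nat.card_congr
      { toFun := fun p => (⟨⟨p.1.1, p.2.1⟩, hgood p⟩,
          ⟨(b0 ⟨⟨p.1.1, p.2.1⟩, hgood p⟩)⁻¹ * p.1.2, ?_, ?_⟩)
        invFun := fun q => ⟨((q.1.1 : X), b0 q.1 * (q.2 : X)), q.1.1.2, Y.mul_mem (hb0Y _) q.2.2.1, ?_⟩
        left_inv := ?_
        right_inv := ?_ }
    · exact Y.mul_mem (Y.inv_mem (hb0Y _)) p.2.2.1
    · show σ _ = _
      have e1 : σ (a⁻¹ * p.1.1 * b0 ⟨⟨p.1.1, p.2.1⟩, hgood p⟩) =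
          a⁻¹ * p.1.1 * b0 ⟨⟨p.1.1, p.2.1⟩, hgood p⟩ := hb0 ⟨⟨p.1.1, p.2.1⟩, hgood p⟩
      have e2 := p.2.2.2
      generalize b0 ⟨⟨p.1.1, p.2.1⟩, hgood p⟩ = c at e1 ⊢
      generalize p.1.1 = k at e1 e2 ⊢
      generalize p.1.2 = b at e2 ⊢
      calc σ (c⁻¹ * b) = (σ (a⁻¹ * k * c))⁻¹ * σ (a⁻¹ * k * b) := by
            rw [← map_inv, ← map_mul]; congr 1; group
        _ = c⁻¹ * b := by rw [e1, e2]; group
    · show σ _ = _
      have e1 := hb0 q.1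
      have e2 : σ (q.2 : X) = q.2 := q.2.2.2
      simp only [← mul_assoc] at e1 ⊢
      rw [map_mul, e1, e2]
    · rintro ⟨⟨k, b⟩, h⟩
      simp
    · rintro ⟨k, y⟩
      simp
  have hhmem : ∀ p : P, a⁻¹ * p.1.1 * p.1.2 ∈ H := fun p => p.2.2.2
  have hhgood : ∀ p : P, (a⁻¹ * p.1.1 * p.1.2)⁻¹ * x * (a⁻¹ * p.1.1 * p.1.2) =
      ((σ ^ e) p.1.2)⁻¹ * p.1.2 := by
    rintro ⟨⟨k, b⟩, hk, hb, h⟩
    have h' := hHe _ h e
    have hk' : (σ ^ e) k = k := hk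
    have hea : (σ ^ e) a = k * (σ ^ e) b * (a⁻¹ * k * b)⁻¹ := by
      conv_rhs => rw [← h']
      simp only [map_mul, map_inv, hk']
      group
    show _ = ((σ ^ e) b)⁻¹ * b
    rw [hx, hea]
    group
  have hYe : ∀ (k : ℕ) (y : X), y ∈ Y → (σ ^ k) y ∈ Y := by
    intro k
    induction k with
    | zero => exact fun y hy => hy
    | succ k ih => intro y hy; rw [pow_succ', MulAut.mul_apply]; exact (hY _).1 (ih y hy)
  have hhgood' : ∀ p : P, (a⁻¹ * p.1.1 * p.1.2)⁻¹ * x * (a⁻¹ * p.1.1 * p.1.2) ∈ Y := fun p => by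
    rw [hhgood p]; exact Y.mul_mem (Y.inv_mem (hYe e _ p.2.2.1)) p.2.2.1
  have hexc : ∀ h : {h : ↥H // (h : X)⁻¹ * x * h ∈ Y}, ∃ b ∈ Y,
      (σ ^ e) (a * (h.1 : X) * b⁻¹) = a * (h.1 : X) * b⁻¹ := by
    rintro ⟨⟨h, hh⟩, hy⟩
    obtain ⟨c, hc, hceq⟩ := hYLe _ (Y.inv_mem hy)
    refine ⟨c⁻¹, Y.inv_mem hc, ?_⟩
    have hh' : (σ ^ e) h = h := hHe h hh e
    have hc' : (σ ^ e) c = h⁻¹ * x * h * c := by
      have := congrArg (fun u : X => u⁻¹) hceq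
      simp only [inv_inv, mul_inv_rev] at this
      rw [this]; group
    show (σ ^ e) (a * h * c⁻¹⁻¹) = a * h * c⁻¹⁻¹
    simp only [inv_inv, map_mul, hh', hc', hx]
    group
  choose c0 hc0Y hc0 using hexc
  have heq2 : Nat.card P = Nat.card {h : ↥H // (h : X)⁻¹ * x * h ∈ Y} * Nat.card ↥(Y ⊓ G) := by
    rw [← Nat.card_prod]
    refine Nat.card_congr
      { toFun := fun p => (⟨⟨_, hhmem p⟩, hhgood' p⟩,
          ⟨c0 ⟨⟨_, hhmem p⟩, hhgood' p⟩ * p.1.2⁻¹, ?_, ?_⟩)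
        invFun := fun q => ⟨(a * (q.1.1 : X) * (c0 q.1)⁻¹ * (q.2 : X), (q.2 : X)⁻¹ * c0 q.1),
          G.mul_mem (hc0 q.1) q.2.2.2, Y.mul_mem (Y.inv_mem q.2.2.1) (hc0Y _), ?_⟩
        left_inv := ?_
        right_inv := ?_ }
    · exact Y.mul_mem (hc0Y _) (Y.inv_mem p.2.2.1)
    · show (σ ^ e) _ = _
      have e1 := hc0 ⟨⟨_, hhmem p⟩, hhgood' p⟩
      have e2 : (σ ^ e) p.1.1 = p.1.1 := p.2.1
      generalize c0 ⟨⟨_, hhmem p⟩, hhgood' p⟩ = c at e1 ⊢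
      calc (σ ^ e) (c * p.1.2⁻¹)
          = ((σ ^ e) (a * (a⁻¹ * p.1.1 * p.1.2) * c⁻¹))⁻¹ * (σ ^ e) p.1.1 := by
            rw [← map_inv, ← map_mul]; congr 1; group
        _ = c * p.1.2⁻¹ := by rw [e1, e2]; group
    · have e2 : σ (q.1.1 : X) = q.1.1 := q.1.1.2
      have : a⁻¹ * (a * (q.1.1 : X) * (c0 q.1)⁻¹ * (q.2 : X)) * ((q.2 : X)⁻¹ * c0 q.1) = q.1.1 := by group
      simp only []
      rw [this, e2]
    · rintro ⟨⟨k, b⟩, h⟩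
      apply Subtype.ext
      simp only [Prod.mk.injEq]
      constructor <;> group
    · rintro ⟨h, y⟩
      have hh : ∀ (w : X) (hw : w ∈ H) (hw' : w⁻¹ * x * w ∈ Y), w = (h.1 : X) →
          (⟨⟨w, hw⟩, hw'⟩ : {h : ↥H // (h : X)⁻¹ * x * h ∈ Y}) = h :=
        fun w hw hw' he => Subtype.ext (Subtype.ext he)
      refine Prod.ext ?_ ?_
      · exact hh _ _ _ (by group)
      · apply Subtype.ext
        simp only []
        rw [hh _ _ _ (by group)]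
        group
  exact heq1.symm.trans heq2

end Cfsg.Agent.S2669
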