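import Cfsg.Statements.S2670
import Cfsg.Agent.Lib.PglPrimeClasses10

set_option autoImplicit false
open Cfsg

namespace Cfsg.Agent.S2670

open Matrix Polynomial PglPrimeClasses10

theorem natCast_ne_zero {F : Type*} [Field F] [Fintype F] {r : ℕ} (hr : r.Prime)
    (hrq : r ∣ Fintype.card F - 1) : (r : F) ≠ 0 := by
  obtain ⟨p, hp⟩ := CharP.exists F
  obtain ⟨f, hpp, hf⟩ := FiniteField.card F p
  rw [Ne, CharP.cast_eq_zero_iff F p]
  intro hd
  rw [hf, (Nat.prime_dvd_prime_iff_eq hpp hr).1 hd] at hrq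
  have h1 : 1 ≤ r ^ (f : ℕ) := Nat.one_le_pow _ _ hr.pos
  have h2 := (Nat.dvd_sub_iff_right h1 (dvd_pow_self r f.ne_zero)).1 hrq
  exact hr.ne_one (Nat.dvd_one.1 h2)

theorem count_classes {F : Type*} [Field F] [Fintype F] {n r : ℕ} (hn : 2 ≤ n) (hr : r.Prime)
    (hrq : r ∣ Fintype.card F - 1) :
    Nat.card {C : ConjClasses (GL (Fin n) F ⧸ Subgroup.center (GL (Fin n) F)) //
        ∃ g : GL (Fin n) F ⧸ Subgroup.center (GL (Fin n) F),
          ConjClasses.mk g = C ∧ orderOf g = r} =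
      Nat.card (AddAction.orbitRel.Quotient (ZMod r) (Tup r n)) +
        (r - 1) * (if r ∣ n then 1 else 0) := by
  classical
  haveI : Fact r.Prime := ⟨hr⟩
  haveI : Nonempty (Fin n) := ⟨⟨0, by omega⟩⟩
  have hrF := natCast_ne_zero (F := F) hr hrq
  have hcardU : Nat.card Fˣ = Fintype.card F - 1 := by
    rw [Nat.card_eq_fintype_card, Fintype.card_units]
  obtain ⟨ζ, hζ'⟩ := exists_prime_orderOf_dvd_card' (G := Fˣ) r (hcardU ▸ hrq)
  have hζ : IsPrimitiveRoot ζ r := hζ' ▸ IsPrimitiveRoot.orderOf ζ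
  set N := (powMonoidHom r : Fˣ →* Fˣ).range with hN
  let mk := fun g : GL (Fin n) F => (g : GL (Fin n) F ⧸ Subgroup.center (GL (Fin n) F))
  have hsc : Function.Injective (fun c : Fˣ => Matrix.scalar (Fin n) (c : F)) := fun a b h =>
    Units.ext (Matrix.scalar_inj.1 h)
  have horder : ∀ (g : GL (Fin n) F) (c : Fˣ),
      (g : Matrix (Fin n) (Fin n) F) ^ r = Matrix.scalar (Fin n) (c : F) →
      (∀ μ : Fˣ, (g : Matrix (Fin n) (Fin n) F) ≠ Matrix.scalar (Fin n) (μ : F)) →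
      orderOf (mk g) = r := by
    intro g c hg hne
    refine orderOf_eq_prime ?_ ?_
    · rw [← QuotientGroup.mk_pow, QuotientGroup.eq_one_iff,
        Matrix.GeneralLinearGroup.center_eq_range_scalar]
      exact ⟨c, Units.ext (by rw [Units.val_pow_eq_pow_val, hg, val_scalar])⟩
    · intro h
      rw [QuotientGroup.eq_one_iff, Matrix.GeneralLinearGroup.center_eq_range_scalar] at h
      obtain ⟨μ, rfl⟩ := h
      exact hne μ rfl
  have hsmul : ∀ (μ c : Fˣ) (g : GL (Fin n) F),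
      (g : Matrix (Fin n) (Fin n) F) ^ r = Matrix.scalar (Fin n) (c : F) →
      ((Matrix.GeneralLinearGroup.scalar (Fin n) μ * g : GL (Fin n) F) :
        Matrix (Fin n) (Fin n) F) ^ r = Matrix.scalar (Fin n) ((μ ^ r * c : Fˣ) : F) := by
    intro μ c g hg
    rw [← Units.val_pow_eq_pow_val, Commute.mul_pow
      (show Commute (Matrix.GeneralLinearGroup.scalar (Fin n) μ) g from
        Matrix.GeneralLinearGroup.scalar_commute μ g), Units.val_mul, ← map_pow, val_scalar,
      Units.val_pow_eq_pow_val g, hg, ← map_mul, ← Units.val_mul]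
  -- the representatives
  have hA : ∀ s : Tup r n, ∃ g : GL (Fin n) F,
      (g : Matrix (Fin n) (Fin n) F) ^ r = Matrix.scalar (Fin n) ((1 : Fˣ) : F) ∧
      (g : Matrix (Fin n) (Fin n) F).charpoly = poly ζ s.1 ∧ orderOf (mk g) = r := by
    intro s
    obtain ⟨f, hf⟩ := symOf_surjective s.1
    refine ⟨diagEl ζ f, diagEl_pow hζ f, by rw [charpoly_diagEl, hf],
      horder _ 1 (diagEl_pow hζ f) fun μ hμ => s.2 (f ⟨0, by omega⟩) ?_⟩
    have h2 : ∀ i, ((z ζ (f i) : Fˣ) : F) = μ := fun i => by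
      have := congrArg (fun M : Matrix (Fin n) (Fin n) F => M i i) hμ
      simpa [diagEl, Matrix.scalar_apply] using this
    rw [← hf]
    refine Sym.eq_replicate.2 fun x hx => ?_
    have hx' : x ∈ (Finset.univ : Finset (Fin n)).val.map f := hx
    obtain ⟨i, -, rfl⟩ := Multiset.mem_map.1 hx'
    exact z_injective hζ ((h2 i).trans (h2 _).symm)
  choose gA hA1 hA2 hA3 using hA
  have hnN : ∀ c : Fˣ, c ∉ N → ∀ b : F, b ^ r ≠ (c : F) := by
    intro c hc b hb
    have hb0 : b ≠ 0 := fun h => c.ne_zero (by rw [← hb, h, zero_pow hr.ne_zero])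
    exact hc ⟨Units.mk0 b hb0, Units.ext (by simpa using hb)⟩
  have hB : ∀ c : Fˣ, c ∉ N → r ∣ n → ∃ g : GL (Fin n) F,
      (g : Matrix (Fin n) (Fin n) F) ^ r = Matrix.scalar (Fin n) (c : F) ∧ orderOf (mk g) = r := by
    intro c hc hd
    obtain ⟨m, hm⟩ := hd
    obtain ⟨A, hA⟩ := exists_pow_eq_scalar hr (c : F) hm
    have hu : IsUnit A := (isUnit_pow_iff hr.ne_zero).1 (hA ▸ c.isUnit.map (Matrix.scalar (Fin n)))
    refine ⟨hu.unit, hA, horder _ c hA fun μ hμ => hnN c hc μ ?_⟩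
    refine Matrix.scalar_inj (n := Fin n) |>.1 ?_
    rw [map_pow, ← hμ, ← hA]
    rfl
  choose gB hB1 hB2 using hB
  let R := AddAction.orbitRel.Quotient (ZMod r) (Tup r n) ⊕ {c : Fˣ ⧸ N // c ≠ 1 ∧ r ∣ n}
  have hout : ∀ c : {c : Fˣ ⧸ N // c ≠ 1 ∧ r ∣ n}, (c.1.out : Fˣ) ∉ N := fun c h =>
    c.2.1 (by rw [← Quotient.out_eq c.1]; exact (QuotientGroup.eq_one_iff _).2 h)
  let Φ : R → {C : ConjClasses (GL (Fin n) F ⧸ Subgroup.center (GL (Fin n) F)) //
      ∃ g : GL (Fin n) F ⧸ Subgroup.center (GL (Fin n) F),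
        ConjClasses.mk g = C ∧ orderOf g = r} :=
    Sum.elim (fun o => ⟨ConjClasses.mk (mk (gA o.out)), _, rfl, hA3 _⟩)
      (fun c => ⟨ConjClasses.mk (mk (gB c.1.out (hout c) c.2.2)), _, rfl, hB2 _ _ _⟩)
  have hconj : ∀ (g g' : GL (Fin n) F) (c c' : Fˣ),
      (g : Matrix (Fin n) (Fin n) F) ^ r = Matrix.scalar (Fin n) (c : F) →
      (g' : Matrix (Fin n) (Fin n) F) ^ r = Matrix.scalar (Fin n) (c' : F) →
      IsConj (mk g) (mk g') →
      ∃ μ : Fˣ, μ ^ r * c = c' ∧ IsConj (Matrix.GeneralLinearGroup.scalar (Fin n) μ * g) g' := by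
    intro g g' c c' hg hg' h
    obtain ⟨μ, hμ⟩ := (isConj_mk_iff g g').1 h
    refine ⟨μ, hsc ?_, hμ⟩
    obtain ⟨d, hd⟩ := isConj_iff.1 hμ
    have h1 := hsmul μ c g hg
    rw [← Units.val_pow_eq_pow_val] at h1
    have h2 : g' ^ r = Matrix.GeneralLinearGroup.scalar (Fin n) (μ ^ r * c) := by
      rw [← hd, conj_pow, Units.ext (h1.trans (val_scalar _).symm),
        ← Matrix.GeneralLinearGroup.scalar_commute, mul_assoc, mul_inv_cancel, mul_one]
    have h3 := congrArg Units.val h2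
    rw [Units.val_pow_eq_pow_val, hg', val_scalar] at h3
    exact h3.symm
  have hinjA : ∀ s t : Tup r n, IsConj (mk (gA s)) (mk (gA t)) →
      ∃ k : ZMod r, k +ᵥ s = t := by
    intro s t h
    obtain ⟨μ, hμ, hc⟩ := hconj _ _ 1 1 (hA1 s) (hA1 t) h
    rw [mul_one] at hμ
    obtain ⟨k, hk⟩ := exists_z hζ (x := (μ : F)) (by rw [← Units.val_pow_eq_pow_val, hμ, Units.val_one])
    obtain rfl : z ζ k = μ := Units.ext hk
    obtain ⟨f, hf⟩ := symOf_surjective s.1
    refine ⟨k, Subtype.ext (poly_injective hζ ?_)⟩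
    rw [vadd_val, ← hA2 t, ← hf, ← symOf_add, ← charpoly_diagEl, ← scalar_mul_diagEl hζ]
    have h4 : IsConj (gA s) (diagEl ζ f) :=
      isConj_of_charpoly one_ne_zero hrF (hA1 s) (diagEl_pow hζ f)
        (by rw [hA2 s, charpoly_diagEl, hf])
    obtain ⟨d, hd⟩ := isConj_iff.1 h4
    have h5 : IsConj (Matrix.GeneralLinearGroup.scalar (Fin n) (z ζ k) * gA s)
        (Matrix.GeneralLinearGroup.scalar (Fin n) (z ζ k) * diagEl ζ f) :=
      isConj_iff.2 ⟨d, by
        rw [← hd, ← mul_assoc d, ← Matrix.GeneralLinearGroup.scalar_commute (z ζ k) d]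
        group⟩
    exact SemisimpleConjGL.charpoly_eq_of_isConj_val (MonoidHom.id _) (h5.symm.trans hc)
  have hsurjA : ∀ (g : GL (Fin n) F), orderOf (mk g) = r →
      (g : Matrix (Fin n) (Fin n) F) ^ r = Matrix.scalar (Fin n) ((1 : Fˣ) : F) →
      ∃ o, IsConj (mk g) (mk (gA (Quotient.out (s := AddAction.orbitRel (ZMod r) (Tup r n)) o))) := by
    intro g hg hp
    obtain ⟨f, hf⟩ := exists_diag hζ hrF g hp
    have hne : ∀ j, symOf f ≠ Sym.replicate n j := by
      intro j hj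
      have hconst : ∀ i, f i = j := fun i => by
        have hi : f i ∈ symOf f := (Multiset.mem_map_of_mem f (Finset.mem_univ i) :
          f i ∈ (Finset.univ : Finset (Fin n)).val.map f)
        rw [hj] at hi
        exact (Sym.mem_replicate.1 hi).2
      have h1 : mk (diagEl ζ f) = 1 := by
        refine (QuotientGroup.eq_one_iff _).2 ?_
        rw [Matrix.GeneralLinearGroup.center_eq_range_scalar]
        exact ⟨z ζ j, Units.ext (by
          rw [val_scalar, Matrix.scalar_apply]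
          show _ = Matrix.diagonal _
          simp [hconst])⟩
      have h2 : IsConj (mk g) (1 : GL (Fin n) F ⧸ Subgroup.center (GL (Fin n) F)) :=
        h1 ▸ MonoidHom.map_isConj (QuotientGroup.mk' _) hf
      rw [isConj_one_left.1 h2, orderOf_one] at hg
      exact hr.one_lt.ne hg
    let s : Tup r n := ⟨symOf f, hne⟩
    refine ⟨Quotient.mk _ s, ?_⟩
    obtain ⟨k, hk⟩ := AddAction.orbitRel_apply.1
      (Quotient.mk_out (s := AddAction.orbitRel (ZMod r) (Tup r n)) s)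
    have hk' : ((Quotient.mk (AddAction.orbitRel (ZMod r) (Tup r n)) s).out).1 =
        symOf (fun i => f i + k) := by
      rw [← hk, symOf_add]
      rfl
    refine (MonoidHom.map_isConj (QuotientGroup.mk' _) hf).trans ?_
    refine (isConj_mk_iff _ _).2 ⟨z ζ k, ?_⟩
    rw [scalar_mul_diagEl hζ]
    exact isConj_of_charpoly one_ne_zero hrF (diagEl_pow hζ _) (hA1 _)
      (by rw [charpoly_diagEl, hA2, hk'])
  have hΦ : Function.Bijective Φ := by
    constructor
    · rintro (o | c) (o' | c') h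
      · obtain ⟨k, hk⟩ := hinjA _ _ (ConjClasses.mk_eq_mk_iff_isConj.1 (congrArg Subtype.val h))
        congr 1
        rw [← Quotient.out_eq o, ← Quotient.out_eq o']
        exact (Quotient.sound (AddAction.orbitRel_apply.2 ⟨k, hk⟩)).symm
      · obtain ⟨μ, hμ, -⟩ := hconj _ _ 1 _ (hA1 _) (hB1 _ _ _)
          (ConjClasses.mk_eq_mk_iff_isConj.1 (congrArg Subtype.val h))
        exact absurd ⟨μ, by rw [powMonoidHom_apply, ← hμ, mul_one]⟩ (hout c')
      · obtain ⟨μ, hμ, -⟩ := hconj _ _ 1 _ (hA1 _) (hB1 _ _ _)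
          (ConjClasses.mk_eq_mk_iff_isConj.1 (congrArg Subtype.val h.symm))
        exact absurd ⟨μ, by rw [powMonoidHom_apply, ← hμ, mul_one]⟩ (hout c)
      · obtain ⟨μ, hμ, -⟩ := hconj _ _ _ _ (hB1 _ _ _) (hB1 _ _ _)
          (ConjClasses.mk_eq_mk_iff_isConj.1 (congrArg Subtype.val h))
        congr 1
        apply Subtype.ext
        rw [← Quotient.out_eq c.1, ← Quotient.out_eq c'.1]
        refine QuotientGroup.eq.2 ⟨μ, ?_⟩
        rw [powMonoidHom_apply, ← hμ, mul_comm (μ ^ r), inv_mul_cancel_left]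
    · rintro ⟨C, x, rfl, hx⟩
      obtain ⟨g, rfl⟩ := QuotientGroup.mk_surjective x
      have hpow : g ^ r ∈ Subgroup.center (GL (Fin n) F) := by
        rw [← QuotientGroup.eq_one_iff, QuotientGroup.mk_pow, ← hx, pow_orderOf_eq_one]
      rw [Matrix.GeneralLinearGroup.center_eq_range_scalar] at hpow
      obtain ⟨c, hc⟩ := hpow
      have hg : (g : Matrix (Fin n) (Fin n) F) ^ r = Matrix.scalar (Fin n) (c : F) := by
        rw [← Units.val_pow_eq_pow_val, ← hc, val_scalar]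
      by_cases hcN : c ∈ N
      · obtain ⟨μ, hμ⟩ := hcN
        rw [powMonoidHom_apply] at hμ
        have hg' := hsmul μ⁻¹ c g hg
        rw [inv_pow, hμ, inv_mul_cancel] at hg'
        have hcj : IsConj (mk g) (mk (Matrix.GeneralLinearGroup.scalar (Fin n) μ⁻¹ * g)) :=
          (isConj_mk_iff _ _).2 ⟨μ⁻¹, IsConj.refl _⟩
        have ho : orderOf (mk (Matrix.GeneralLinearGroup.scalar (Fin n) μ⁻¹ * g)) = r := by
          obtain ⟨d, hd⟩ := isConj_iff.1 hcj
          rw [← hd, ← MulAut.conj_apply, MulEquiv.orderOf_eq]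
          exact hx
        obtain ⟨o, ho'⟩ := hsurjA _ ho hg'
        exact ⟨Sum.inl o, Subtype.ext (ConjClasses.mk_eq_mk_iff_isConj.2 (hcj.trans ho').symm)⟩
      · obtain ⟨hdvd, hcp⟩ := charpoly_eq_pow hr (hnN c hcN) hg
        have hne : (c : Fˣ ⧸ N) ≠ 1 := fun h => hcN ((QuotientGroup.eq_one_iff _).1 h)
        let c' : {c : Fˣ ⧸ N // c ≠ 1 ∧ r ∣ n} := ⟨c, hne, hdvd⟩
        refine ⟨Sum.inr c', Subtype.ext (ConjClasses.mk_eq_mk_iff_isConj.2 ?_)⟩
        obtain ⟨μ, hμ⟩ := QuotientGroup.eq.1 (Quotient.out_eq c'.1)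
        rw [powMonoidHom_apply] at hμ
        refine (isConj_mk_iff _ _).2 ⟨μ, ?_⟩
        have h1 := hsmul μ _ _ (hB1 c'.1.out (hout c') c'.2.2)
        rw [hμ, mul_comm _ (c'.1.out : Fˣ), mul_inv_cancel_left] at h1
        exact isConj_of_charpoly c.ne_zero hrF h1 hg
          ((charpoly_eq_pow hr (hnN c hcN) h1).2.trans hcp.symm)
  rw [← Nat.card_eq_of_bijective Φ hΦ, Nat.card_sum]
  congr 1
  have hidx : Nat.card (Fˣ ⧸ N) = r := by
    rw [← Subgroup.index_eq_card, hN, IsCyclic.index_powMonoidHom_range, Nat.gcd_eq_right]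
    rw [hcardU]; exact hrq
  split_ifs with hd
  · rw [mul_one, Nat.card_congr (Equiv.subtypeEquivRight fun c : Fˣ ⧸ N =>
      show (c ≠ 1 ∧ r ∣ n) ↔ c ≠ 1 from and_iff_left hd), Nat.card_eq_fintype_card,
      Fintype.card_subtype_compl, Fintype.card_subtype_eq, ← Nat.card_eq_fintype_card, hidx]
  · haveI : IsEmpty {c : Fˣ ⧸ N // c ≠ 1 ∧ r ∣ n} := ⟨fun c => hd c.2.2⟩
    rw [mul_zero, Nat.card_of_isEmpty]

/-- Number of conjugacy classes of elements of prime order r in PGL_n(q) = GL_n(q)/scalars when r divides q − 1 (n ≥ 2): the classes of elements with a diagonalisable lift correspond to the orbits of the cyclic rotation on the r-tuples of eigenvalue multiplicities (a_0, …, a_(r−1)) summing to n with every a_j < n, and when r divides n there are r − 1 further classes (lifts acting irreducibly on blocks of size r); in all (C(n+r−1, r−1) − r − [r ∣ n])/r + r·[r ∣ n] classes. -/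
theorem result {F : Type*} [Field F] [Fintype F] {q : ℕ} (hF : Fintype.card F = q) {n r : ℕ} (hn : 2 ≤ n) (hr : r.Prime) (hrq : r ∣ q - 1) : Nat.card {C : ConjClasses (GL (Fin n) F ⧸ Subgroup.center (GL (Fin n) F)) // ∃ g : GL (Fin n) F ⧸ Subgroup.center (GL (Fin n) F), ConjClasses.mk g = C ∧ orderOf g = r} = (Nat.choose (n + r - 1) (r - 1) - r - (if r ∣ n then 1 else 0)) / r + r * (if r ∣ n then 1 else 0) := by
  subst hF
  haveI : Fact r.Prime := ⟨hr⟩
  rw [count_classes hn hr hrq, card_orbits hn, add_assoc]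
  congr 1
  have := hr.one_le
  split_ifs <;> omega

end Cfsg.Agent.S2670
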