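import Cfsg.Statements.S2672
import Cfsg.Agent.Lib.PglPrimeClasses10
import Cfsg.Agent.Lib.UnitaryPrimeOrderClasses
import Cfsg.Agent.S0783
import Cfsg.Agent.S2588
import Cfsg.Agent.S2670

set_option autoImplicit false
open Cfsg

namespace Cfsg.Agent.S2672

open Matrix Polynomial PglPrimeClasses10

section

variable {K : Type*} [Field K] [Fintype K] {n q : ℕ}

/-- The elements of norm one. -/
def nrm (K : Type*) [Field K] (q : ℕ) : Subgroup Kˣ := (powMonoidHom (q + 1) : Kˣ →* Kˣ).ker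

variable {σ : K →+* K}

theorem diag_mem_GU (hq : ∀ x, σ x = x ^ q) (hσ : ∀ x, σ (σ x) = x) (A : GL (Fin n) K)
    (d : Fin n → Kˣ) (hd : ∀ i, d i ∈ nrm K q)
    (hA : (A : Matrix (Fin n) (Fin n) K) = Matrix.diagonal fun i => (d i : K)) :
    A ∈ Cfsg.GU n K q := by
  rw [HermitianFactor.mem_GU_iff hq hσ, hA, HermitianFactor.ct, Matrix.diagonal_map (map_zero σ),
    Matrix.diagonal_transpose, Matrix.diagonal_mul_diagonal, ← Matrix.diagonal_one]
  congr 1
  funext i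
  show σ ((d i : Kˣ) : K) * ((d i : Kˣ) : K) = 1
  rw [hq, ← pow_succ, ← Units.val_pow_eq_pow_val, show d i ^ (q + 1) = 1 from hd i, Units.val_one]

/-- Scalars of norm one in the unitary group. -/
def scU (hq : ∀ x, σ x = x ^ q) (hσ : ∀ x, σ (σ x) = x) : nrm K q →* ↥(Cfsg.GU n K q) where
  toFun c := ⟨Matrix.GeneralLinearGroup.scalar (Fin n) (c : Kˣ),
    diag_mem_GU hq hσ _ (fun _ => (c : Kˣ)) (fun _ => c.2) rfl⟩
  map_one' := Subtype.ext (map_one _)
  map_mul' a b := Subtype.ext (map_mul _ (a : Kˣ) b)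

theorem mem_center_iff (hK : Fintype.card K = q ^ 2) (hq : ∀ x, σ x = x ^ q)
    (hσ : ∀ x, σ (σ x) = x) (hn : 0 < n) (g : ↥(Cfsg.GU n K q)) :
    g ∈ Subgroup.center ↥(Cfsg.GU n K q) ↔ ∃ c : nrm K q, scU hq hσ c = g := by
  constructor
  · intro hg
    have hs := Cfsg.Agent.S0783.center_GU_scalar hK g hg ⟨0, hn⟩
    set a := ((g : GL (Fin n) K) : Matrix (Fin n) (Fin n) K) ⟨0, hn⟩ ⟨0, hn⟩ with ha
    have h := (HermitianFactor.mem_GU_iff hq hσ _).1 g.2
    rw [hs, HermitianFactor.ct, Matrix.diagonal_map (map_zero σ), Matrix.diagonal_transpose,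
      Matrix.diagonal_mul_diagonal] at h
    have h1 : a ^ (q + 1) = 1 := by
      have := congrArg (fun M : Matrix (Fin n) (Fin n) K => M ⟨0, hn⟩ ⟨0, hn⟩) h
      simpa [hq, ← pow_succ] using this
    have ha0 : a ≠ 0 := fun h0 => by rw [h0, zero_pow (Nat.succ_ne_zero q)] at h1; exact zero_ne_one h1
    exact ⟨⟨Units.mk0 a ha0, Units.ext (by simpa using h1)⟩,
      Subtype.ext (Units.ext hs.symm)⟩
  · rintro ⟨c, rfl⟩
    rw [Subgroup.mem_center_iff]
    intro k
    exact Subtype.ext (Matrix.GeneralLinearGroup.scalar_commute (c : Kˣ) (k : GL (Fin n) K)).symm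

theorem isConj_mk_iff' (hK : Fintype.card K = q ^ 2) (hq : ∀ x, σ x = x ^ q)
    (hσ : ∀ x, σ (σ x) = x) (hn : 0 < n) (g g' : ↥(Cfsg.GU n K q)) :
    IsConj (g : ↥(Cfsg.GU n K q) ⧸ Subgroup.center ↥(Cfsg.GU n K q)) g' ↔
      ∃ μ : nrm K q, IsConj (scU hq hσ μ * g) g' := by
  have hcomm : ∀ (μ : nrm K q) (A : ↥(Cfsg.GU n K q)), scU hq hσ μ * A = A * scU hq hσ μ :=
    fun μ A => Subtype.ext (Matrix.GeneralLinearGroup.scalar_commute (μ : Kˣ) (A : GL (Fin n) K))
  constructor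
  · intro h
    obtain ⟨c, hc⟩ := isConj_iff.1 h
    obtain ⟨c, rfl⟩ := QuotientGroup.mk_surjective c
    rw [← QuotientGroup.mk_inv, ← QuotientGroup.mk_mul, ← QuotientGroup.mk_mul,
      QuotientGroup.eq, mem_center_iff hK hq hσ hn] at hc
    obtain ⟨μ, hμ⟩ := hc
    refine ⟨μ, isConj_iff.2 ⟨c, ?_⟩⟩
    rw [hcomm μ g, ← mul_assoc, mul_assoc (c * g), hcomm μ c⁻¹, ← mul_assoc, hμ]
    group
  · rintro ⟨μ, h⟩
    have hz : ((scU hq hσ μ * g : ↥(Cfsg.GU n K q)) :
        ↥(Cfsg.GU n K q) ⧸ Subgroup.center ↥(Cfsg.GU n K q)) = g := by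
      rw [QuotientGroup.eq, mem_center_iff hK hq hσ hn]
      exact ⟨μ⁻¹, by rw [_root_.mul_inv_rev, ← map_inv, mul_assoc, hcomm μ⁻¹ g, inv_mul_cancel_left]⟩
    rw [← hz]
    exact MonoidHom.map_isConj (QuotientGroup.mk' _) h

theorem isConj_GU (hq : ∀ x, σ x = x ^ q) (hσ : ∀ x, σ (σ x) = x) (c₀ : K) (hc₀ : σ c₀ ≠ c₀)
    {r : ℕ} {g g' : ↥(Cfsg.GU n K q)} {c : K} (hc : c ≠ 0) (hr : (r : K) ≠ 0)
    (hg : ((g : GL (Fin n) K) : Matrix (Fin n) (Fin n) K) ^ r = Matrix.scalar (Fin n) c)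
    (hg' : ((g' : GL (Fin n) K) : Matrix (Fin n) (Fin n) K) ^ r = Matrix.scalar (Fin n) c)
    (h : ((g : GL (Fin n) K) : Matrix (Fin n) (Fin n) K).charpoly =
      ((g' : GL (Fin n) K) : Matrix (Fin n) (Fin n) K).charpoly) :
    IsConj g g' := by
  obtain ⟨d, hd⟩ := isConj_iff.1 (isConj_of_charpoly hc hr hg hg' h)
  exact UnitaryPrimeOrderClasses.isConj_of_linear hq hσ c₀ hc₀ g g' d (mul_inv_eq_iff_eq_mul.1 hd)

end

theorem count_classes {K : Type*} [Field K] [Fintype K] {q n r : ℕ}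
    (hK : Fintype.card K = q ^ 2) (hn : 2 ≤ n) (hr : r.Prime) (hr2 : r ≠ 2) (hrq : r ∣ q + 1) :
    Nat.card {C : ConjClasses (↥(Cfsg.GU n K q) ⧸ Subgroup.center ↥(Cfsg.GU n K q)) //
        ∃ g : ↥(Cfsg.GU n K q) ⧸ Subgroup.center ↥(Cfsg.GU n K q),
          ConjClasses.mk g = C ∧ orderOf g = r} =
      Nat.card (AddAction.orbitRel.Quotient (ZMod r) (Tup r n)) +
        (r - 1) * (if r ∣ n then 1 else 0) := by
  classical
  haveI : Fact r.Prime := ⟨hr⟩
  haveI : Nonempty (Fin n) := ⟨⟨0, by omega⟩⟩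
  have hn0 : 0 < n := by omega
  obtain ⟨σ, hq, hσ, c₀, hc₀⟩ := HermitianFactor.exists_conjugation hK
  have hq1 : 1 ≤ q := by
    rcases Nat.eq_zero_or_pos q with h | h
    · subst h; simp at hK
    · exact h
  have hrF : (r : K) ≠ 0 := Cfsg.Agent.S2670.natCast_ne_zero hr (by
    rw [hK, show q ^ 2 - 1 = (q + 1) * (q - 1) from by rw [← Nat.sq_sub_sq, one_pow]]
    exact hrq.mul_right _)
  have hcardM : Nat.card (nrm K q) = q + 1 := OrthUnitaryHerm.card_normOne hK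
  obtain ⟨ζ', hζ'⟩ := exists_prime_orderOf_dvd_card' (G := nrm K q) r (hcardM ▸ hrq)
  set ζ : Kˣ := (ζ' : Kˣ) with hζdef
  have hζo : orderOf ζ = r := by rw [hζdef, Subgroup.orderOf_coe]; exact hζ'
  have hζ : IsPrimitiveRoot ζ r := hζo ▸ IsPrimitiveRoot.orderOf ζ
  have hzmem : ∀ j : ZMod r, z ζ j ∈ nrm K q := fun j => Subgroup.pow_mem _ ζ'.2 _
  let dU : (Fin n → ZMod r) → ↥(Cfsg.GU n K q) := fun f =>
    ⟨diagEl ζ f, diag_mem_GU hq hσ _ (fun i => z ζ (f i)) (fun i => hzmem _) rfl⟩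
  have hdU : ∀ f k, scU hq hσ ⟨z ζ k, hzmem k⟩ * dU f = dU fun i => f i + k := fun f k =>
    Subtype.ext (scalar_mul_diagEl hζ f k)
  set N := (powMonoidHom r : nrm K q →* nrm K q).range with hN
  let mk := fun g : ↥(Cfsg.GU n K q) =>
    (g : ↥(Cfsg.GU n K q) ⧸ Subgroup.center ↥(Cfsg.GU n K q))
  let val := fun g : ↥(Cfsg.GU n K q) => ((g : GL (Fin n) K) : Matrix (Fin n) (Fin n) K)
  have hval : ∀ c : nrm K q, val (scU hq hσ c) = Matrix.scalar (Fin n) ((c : Kˣ) : K) := fun _ => rfl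
  have hvpow : ∀ (g : ↥(Cfsg.GU n K q)) (k : ℕ), val (g ^ k) = val g ^ k := fun g k => by
    simp [val]
  have hinjV : Function.Injective val := fun a b h => Subtype.ext (Units.ext h)
  have hsc : ∀ a b : nrm K q, Matrix.scalar (Fin n) ((a : Kˣ) : K) =
      Matrix.scalar (Fin n) ((b : Kˣ) : K) → a = b := fun a b h =>
    Subtype.ext (Units.ext (Matrix.scalar_inj.1 h))
  have horder : ∀ (g : ↥(Cfsg.GU n K q)) (c : nrm K q),
      val g ^ r = Matrix.scalar (Fin n) ((c : Kˣ) : K) →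
      (∀ μ : nrm K q, val g ≠ Matrix.scalar (Fin n) ((μ : Kˣ) : K)) →
      orderOf (mk g) = r := by
    intro g c hg hne
    refine orderOf_eq_prime ?_ ?_
    · rw [← QuotientGroup.mk_pow, QuotientGroup.eq_one_iff, mem_center_iff hK hq hσ hn0]
      exact ⟨c, hinjV (by rw [hval, hvpow, hg])⟩
    · intro h
      rw [QuotientGroup.eq_one_iff, mem_center_iff hK hq hσ hn0] at h
      obtain ⟨μ, rfl⟩ := h
      exact hne μ (hval μ)
  have hsmul : ∀ (μ c : nrm K q) (g : ↥(Cfsg.GU n K q)),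
      val g ^ r = Matrix.scalar (Fin n) ((c : Kˣ) : K) →
      val (scU hq hσ μ * g) ^ r = Matrix.scalar (Fin n) (((μ ^ r * c : nrm K q) : Kˣ) : K) := by
    intro μ c g hg
    rw [← hvpow, Commute.mul_pow (show Commute (scU hq hσ μ) g from
      Subtype.ext (Matrix.GeneralLinearGroup.scalar_commute (μ : Kˣ) (g : GL (Fin n) K))), ← map_pow]
    show val (scU hq hσ (μ ^ r)) * val (g ^ r) = _
    rw [hval, hvpow, hg, ← map_mul]
    rfl
  -- the representatives
  have hA : ∀ s : Tup r n, ∃ g : ↥(Cfsg.GU n K q),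
      val g ^ r = Matrix.scalar (Fin n) (((1 : nrm K q) : Kˣ) : K) ∧
      (val g).charpoly = poly ζ s.1 ∧ orderOf (mk g) = r := by
    intro s
    obtain ⟨f, hf⟩ := symOf_surjective s.1
    refine ⟨dU f, diagEl_pow hζ f, by rw [← hf]; exact charpoly_diagEl f,
      horder _ 1 (diagEl_pow hζ f) fun μ hμ => s.2 (f ⟨0, by omega⟩) ?_⟩
    have h2 : ∀ i, ((z ζ (f i) : Kˣ) : K) = ((μ : Kˣ) : K) := fun i => by
      have := congrArg (fun M : Matrix (Fin n) (Fin n) K => M i i) hμ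
      simpa [val, dU, diagEl, Matrix.scalar_apply] using this
    rw [← hf]
    refine Sym.eq_replicate.2 fun x hx => ?_
    have hx' : x ∈ (Finset.univ : Finset (Fin n)).val.map f := hx
    obtain ⟨i, -, rfl⟩ := Multiset.mem_map.1 hx'
    exact z_injective hζ ((h2 i).trans (h2 _).symm)
  choose gA hA1 hA2 hA3 using hA
  have hnN : ∀ c : nrm K q, c ∉ N → ∀ b : K, b ^ r ≠ ((c : Kˣ) : K) := by
    intro c hc b hb
    have hb0 : b ≠ 0 := fun h => (c : Kˣ).ne_zero (by rw [← hb, h, zero_pow hr.ne_zero])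
    set β := Units.mk0 b hb0 with hβ
    have hβr : β ^ r = (c : Kˣ) := Units.ext (by simpa [hβ] using hb)
    set w := β ^ (q + 1) with hw
    have hw1 : w ^ r = 1 := by
      rw [hw, ← pow_mul, mul_comm, pow_mul, hβr]
      exact c.2
    have hw2 : w ^ (q - 1) = 1 := by
      rw [hw, ← pow_mul, ← Nat.sq_sub_sq, one_pow, ← hK, ← Fintype.card_units, pow_card_eq_one]
    have hw3 : β ∈ nrm K q := by
      show w = 1
      rw [← orderOf_eq_one_iff]
      rcases (Nat.dvd_prime hr).1 (orderOf_dvd_of_pow_eq_one hw1) with h | h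
      · exact h
      · exfalso
        have hd : r ∣ q - 1 := h ▸ orderOf_dvd_of_pow_eq_one hw2
        have h2 : r ∣ 2 := by
          have := Nat.dvd_sub hrq hd
          rwa [show q + 1 - (q - 1) = 2 by omega] at this
        exact hr2 ((Nat.prime_dvd_prime_iff_eq hr Nat.prime_two).1 h2)
    exact hc ⟨⟨β, hw3⟩, Subtype.ext hβr⟩
  have hB : ∀ c : nrm K q, c ∉ N → r ∣ n → ∃ g : ↥(Cfsg.GU n K q),
      val g ^ r = Matrix.scalar (Fin n) ((c : Kˣ) : K) ∧ orderOf (mk g) = r := by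
    intro c hc hd
    obtain ⟨m, hm⟩ := hd
    obtain ⟨A, hA⟩ := exists_pow_eq_scalar hr ((c : Kˣ) : K) hm
    have hu : IsUnit A :=
      (isUnit_pow_iff hr.ne_zero).1 (hA ▸ (c : Kˣ).isUnit.map (Matrix.scalar (Fin n)))
    set Y := (HermitianFactor.ct σ A)⁻¹ with hY
    have hYr : Y ^ r = Matrix.scalar (Fin n) ((c : Kˣ) : K) := by
      have hctp : ∀ k : ℕ, HermitianFactor.ct σ A ^ k = HermitianFactor.ct σ (A ^ k) := by
        intro k
        induction k with
        | zero => simp [HermitianFactor.ct_one]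
        | succ k ih => rw [pow_succ, ih, pow_succ', HermitianFactor.ct_mul]
      rw [hY, Matrix.inv_pow', hctp, hA, HermitianFactor.ct, Matrix.scalar_apply,
        Matrix.diagonal_map (map_zero σ), Matrix.diagonal_transpose]
      refine Matrix.inv_eq_right_inv ?_
      rw [Matrix.diagonal_mul_diagonal, ← Matrix.diagonal_one]
      congr 1
      funext i
      show σ ((c : Kˣ) : K) * ((c : Kˣ) : K) = 1
      rw [hq, ← pow_succ, ← Units.val_pow_eq_pow_val, show (c : Kˣ) ^ (q + 1) = 1 from c.2,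
        Units.val_one]
    obtain ⟨U, hU⟩ := SemisimpleConjGL.exists_gl_conj
      (isSemisimple_of_pow_eq_scalar (c : Kˣ).ne_zero hrF hA)
      (isSemisimple_of_pow_eq_scalar (c : Kˣ).ne_zero hrF hYr)
      ((charpoly_eq_pow hr (hnN c hc) hA).2.trans (charpoly_eq_pow hr (hnN c hc) hYr).2.symm)
    have hconj : IsConj (hu.unit : Matrix (Fin n) (Fin n) K)
        (((hu.unit : Matrix (Fin n) (Fin n) K).map (fun y : K => y ^ q)).transpose)⁻¹ := by
      refine ⟨U, ?_⟩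
      have h1 : ((hu.unit : Matrix (Fin n) (Fin n) K).map (fun y : K => y ^ q)).transpose =
          HermitianFactor.ct σ A := by
        ext i j; simp [HermitianFactor.ct, hq]
      rw [h1]
      exact hU
    obtain ⟨g, hg⟩ := (Cfsg.Agent.S2588.result hK hu.unit).2 hconj
    obtain ⟨d, hd'⟩ := isConj_iff.1 hg
    have hgr : val g ^ r = Matrix.scalar (Fin n) ((c : Kˣ) : K) := by
      show ((g : GL (Fin n) K) : Matrix (Fin n) (Fin n) K) ^ r = _
      rw [← hd', ← Units.val_pow_eq_pow_val, conj_pow,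
        show hu.unit ^ r = Matrix.GeneralLinearGroup.scalar (Fin n) (c : Kˣ) from
          Units.ext (by rw [Units.val_pow_eq_pow_val, IsUnit.unit_spec, hA, val_scalar]),
        ← Matrix.GeneralLinearGroup.scalar_commute, mul_assoc, mul_inv_cancel, mul_one, val_scalar]
    refine ⟨g, hgr, horder _ c hgr fun μ hμ => hnN c hc ((μ : Kˣ) : K) ?_⟩
    refine Matrix.scalar_inj (n := Fin n) |>.1 ?_
    rw [map_pow, ← hμ, hgr]
  choose gB hB1 hB2 using hB
  let R := AddAction.orbitRel.Quotient (ZMod r) (Tup r n) ⊕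
    {c : nrm K q ⧸ N // c ≠ 1 ∧ r ∣ n}
  have hout : ∀ c : {c : nrm K q ⧸ N // c ≠ 1 ∧ r ∣ n}, (c.1.out : nrm K q) ∉ N := fun c h =>
    c.2.1 (by rw [← Quotient.out_eq c.1]; exact (QuotientGroup.eq_one_iff _).2 h)
  let Φ : R → {C : ConjClasses (↥(Cfsg.GU n K q) ⧸ Subgroup.center ↥(Cfsg.GU n K q)) //
      ∃ g : ↥(Cfsg.GU n K q) ⧸ Subgroup.center ↥(Cfsg.GU n K q),
        ConjClasses.mk g = C ∧ orderOf g = r} :=
    Sum.elim (fun o => ⟨ConjClasses.mk (mk (gA o.out)), _, rfl, hA3 _⟩)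
      (fun c => ⟨ConjClasses.mk (mk (gB c.1.out (hout c) c.2.2)), _, rfl, hB2 _ _ _⟩)
  have hconj : ∀ (g g' : ↥(Cfsg.GU n K q)) (c c' : nrm K q),
      val g ^ r = Matrix.scalar (Fin n) ((c : Kˣ) : K) →
      val g' ^ r = Matrix.scalar (Fin n) ((c' : Kˣ) : K) →
      IsConj (mk g) (mk g') →
      ∃ μ : nrm K q, μ ^ r * c = c' ∧ IsConj (scU hq hσ μ * g) g' := by
    intro g g' c c' hg hg' h
    obtain ⟨μ, hμ⟩ := (isConj_mk_iff' hK hq hσ hn0 g g').1 h
    refine ⟨μ, hsc _ _ ?_, hμ⟩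
    obtain ⟨d, hd⟩ := isConj_iff.1 hμ
    have h1 := hsmul μ c g hg
    rw [← hvpow] at h1
    have h2 : g' ^ r = scU hq hσ (μ ^ r * c) := by
      rw [← hd, conj_pow, hinjV (h1.trans (hval _).symm),
        show d * scU hq hσ (μ ^ r * c) = scU hq hσ (μ ^ r * c) * d from
          Subtype.ext (Matrix.GeneralLinearGroup.scalar_commute _ (d : GL (Fin n) K)).symm,
        mul_assoc, mul_inv_cancel, mul_one]
    have h3 := congrArg val h2
    rw [hvpow, hg', hval] at h3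
    exact h3.symm
  have hinjA : ∀ s t : Tup r n, IsConj (mk (gA s)) (mk (gA t)) →
      ∃ k : ZMod r, k +ᵥ s = t := by
    intro s t h
    obtain ⟨μ, hμ, hc⟩ := hconj _ _ 1 1 (hA1 s) (hA1 t) h
    rw [mul_one] at hμ
    obtain ⟨k, hk⟩ := exists_z hζ (x := ((μ : Kˣ) : K)) (by
      rw [← Units.val_pow_eq_pow_val, ← SubgroupClass.coe_pow, hμ, OneMemClass.coe_one, Units.val_one])
    obtain rfl : (⟨z ζ k, hzmem k⟩ : nrm K q) = μ := Subtype.ext (Units.ext hk)
    obtain ⟨f, hf⟩ := symOf_surjective s.1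
    refine ⟨k, Subtype.ext (poly_injective hζ ?_)⟩
    rw [vadd_val, ← hA2 t, ← hf, ← symOf_add, ← charpoly_diagEl]
    show (val (dU fun i => f i + k)).charpoly = _
    rw [← hdU f k]
    have h4 : IsConj (gA s) (dU f) :=
      isConj_GU hq hσ c₀ hc₀ one_ne_zero hrF (hA1 s) (diagEl_pow hζ f)
        (by rw [show (_ : Matrix (Fin n) (Fin n) K).charpoly = _ from hA2 s, ← hf]
            exact (charpoly_diagEl f).symm)
    obtain ⟨d, hd⟩ := isConj_iff.1 h4
    have h5 : IsConj (scU hq hσ ⟨z ζ k, hzmem k⟩ * gA s) (scU hq hσ ⟨z ζ k, hzmem k⟩ * dU f) :=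
      isConj_iff.2 ⟨d, by
        rw [← hd, ← mul_assoc d, show d * scU hq hσ ⟨z ζ k, hzmem k⟩ = scU hq hσ ⟨z ζ k, hzmem k⟩ * d
          from Subtype.ext (Matrix.GeneralLinearGroup.scalar_commute (z ζ k) (d : GL (Fin n) K)).symm]
        group⟩
    have h6 : ((Cfsg.GU n K q).subtype (scU hq hσ ⟨z ζ k, hzmem k⟩ * dU f) :
          Matrix (Fin n) (Fin n) K).charpoly =
        ((Cfsg.GU n K q).subtype (gA t) : Matrix (Fin n) (Fin n) K).charpoly :=
      SemisimpleConjGL.charpoly_eq_of_isConj_val _ (h5.symm.trans hc)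
    simp only [Subgroup.subtype_apply] at h6
    exact h6
  have hsurjA : ∀ (g : ↥(Cfsg.GU n K q)), orderOf (mk g) = r →
      val g ^ r = Matrix.scalar (Fin n) (((1 : nrm K q) : Kˣ) : K) →
      ∃ o, IsConj (mk g) (mk (gA (Quotient.out (s := AddAction.orbitRel (ZMod r) (Tup r n)) o))) := by
    intro g hg hp
    obtain ⟨f, hf'⟩ := exists_diag hζ hrF (g : GL (Fin n) K) hp
    have hf : IsConj g (dU f) := isConj_GU hq hσ c₀ hc₀ one_ne_zero hrF hp (diagEl_pow hζ f)
      (SemisimpleConjGL.charpoly_eq_of_isConj_val (MonoidHom.id _) hf')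
    have hne : ∀ j, symOf f ≠ Sym.replicate n j := by
      intro j hj
      have hconst : ∀ i, f i = j := fun i => by
        have hi : f i ∈ symOf f := (Multiset.mem_map_of_mem f (Finset.mem_univ i) :
          f i ∈ (Finset.univ : Finset (Fin n)).val.map f)
        rw [hj] at hi
        exact (Sym.mem_replicate.1 hi).2
      have h1 : mk (dU f) = 1 := by
        refine (QuotientGroup.eq_one_iff _).2 ?_
        rw [mem_center_iff hK hq hσ hn0]
        exact ⟨⟨z ζ j, hzmem j⟩, hinjV (by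
          rw [hval, Matrix.scalar_apply]
          show _ = Matrix.diagonal _
          simp [hconst])⟩
      have h2 : IsConj (mk g) (1 : ↥(Cfsg.GU n K q) ⧸ Subgroup.center ↥(Cfsg.GU n K q)) :=
        h1 ▸ MonoidHom.map_isConj (QuotientGroup.mk' _) hf
      rw [isConj_one_left.1 h2, orderOf_one] at hg
      exact hr.one_lt.ne hg
    let s : Tup r n := ⟨symOf f, hne⟩
    refine ⟨Quotient.mk _ s, ?_⟩
    obtain ⟨k, hk⟩ := AddAction.orbitRel_apply.1
      (Quotient.mk_out (s := AddAction.orbitRel (ZMod r) (Tup r n)) s)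
    have hk' : ((Quotient.mk (AddAction.orbitRel (ZMod r) (Tup r n)) s).out).1 =
        symOf (fun i => f i + k) := by
      rw [← hk, symOf_add]
      rfl
    refine (MonoidHom.map_isConj (QuotientGroup.mk' _) hf).trans ?_
    refine (isConj_mk_iff' hK hq hσ hn0 _ _).2 ⟨⟨z ζ k, hzmem k⟩, ?_⟩
    rw [hdU]
    refine isConj_GU hq hσ c₀ hc₀ one_ne_zero hrF (diagEl_pow hζ _) (hA1 _) ?_
    show _ = (val (gA _)).charpoly
    rw [hA2, hk']
    exact charpoly_diagEl _
  have hΦ : Function.Bijective Φ := by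
    constructor
    · rintro (o | c) (o' | c') h
      · obtain ⟨k, hk⟩ := hinjA _ _ (ConjClasses.mk_eq_mk_iff_isConj.1 (congrArg Subtype.val h))
        congr 1
        rw [← Quotient.out_eq o, ← Quotient.out_eq o']
        exact (Quotient.sound (AddAction.orbitRel_apply.2 ⟨k, hk⟩)).symm
      · obtain ⟨μ, hμ, -⟩ := hconj _ _ 1 _ (hA1 _) (hB1 _ _ _)
          (ConjClasses.mk_eq_mk_iff_isConj.1 (congrArg Subtype.val h))
        exact absurd ⟨μ, by rw [powMonoidHom_apply, ← hμ, mul_one]⟩ (hout c')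
      · obtain ⟨μ, hμ, -⟩ := hconj _ _ 1 _ (hA1 _) (hB1 _ _ _)
          (ConjClasses.mk_eq_mk_iff_isConj.1 (congrArg Subtype.val h.symm))
        exact absurd ⟨μ, by rw [powMonoidHom_apply, ← hμ, mul_one]⟩ (hout c)
      · obtain ⟨μ, hμ, -⟩ := hconj _ _ _ _ (hB1 _ _ _) (hB1 _ _ _)
          (ConjClasses.mk_eq_mk_iff_isConj.1 (congrArg Subtype.val h))
        congr 1
        apply Subtype.ext
        rw [← Quotient.out_eq c.1, ← Quotient.out_eq c'.1]
        refine QuotientGroup.eq.2 ⟨μ, ?_⟩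
        rw [powMonoidHom_apply, ← hμ, mul_comm (μ ^ r), inv_mul_cancel_left]
    · rintro ⟨C, x, rfl, hx⟩
      obtain ⟨g, rfl⟩ := QuotientGroup.mk_surjective x
      have hpow : g ^ r ∈ Subgroup.center ↥(Cfsg.GU n K q) := by
        rw [← QuotientGroup.eq_one_iff, QuotientGroup.mk_pow, ← hx, pow_orderOf_eq_one]
      rw [mem_center_iff hK hq hσ hn0] at hpow
      obtain ⟨c, hc⟩ := hpow
      have hg : val g ^ r = Matrix.scalar (Fin n) ((c : Kˣ) : K) := by
        rw [← hvpow, ← hc, hval]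
      by_cases hcN : c ∈ N
      · obtain ⟨μ, hμ⟩ := hcN
        rw [powMonoidHom_apply] at hμ
        have hg' := hsmul μ⁻¹ c g hg
        rw [inv_pow, hμ, inv_mul_cancel] at hg'
        have hcj : IsConj (mk g) (mk (scU hq hσ μ⁻¹ * g)) :=
          (isConj_mk_iff' hK hq hσ hn0 _ _).2 ⟨μ⁻¹, IsConj.refl _⟩
        have ho : orderOf (mk (scU hq hσ μ⁻¹ * g)) = r := by
          obtain ⟨d, hd⟩ := isConj_iff.1 hcj
          rw [← hd, ← MulAut.conj_apply, MulEquiv.orderOf_eq]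
          exact hx
        obtain ⟨o, ho'⟩ := hsurjA _ ho hg'
        exact ⟨Sum.inl o, Subtype.ext (ConjClasses.mk_eq_mk_iff_isConj.2 (hcj.trans ho').symm)⟩
      · obtain ⟨hdvd, hcp⟩ := charpoly_eq_pow hr (hnN c hcN) hg
        have hne : (c : nrm K q ⧸ N) ≠ 1 := fun h => hcN ((QuotientGroup.eq_one_iff _).1 h)
        let c' : {c : nrm K q ⧸ N // c ≠ 1 ∧ r ∣ n} := ⟨c, hne, hdvd⟩
        refine ⟨Sum.inr c', Subtype.ext (ConjClasses.mk_eq_mk_iff_isConj.2 ?_)⟩
        obtain ⟨μ, hμ⟩ := QuotientGroup.eq.1 (Quotient.out_eq c'.1)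
        rw [powMonoidHom_apply] at hμ
        refine (isConj_mk_iff' hK hq hσ hn0 _ _).2 ⟨μ, ?_⟩
        have h1 := hsmul μ _ _ (hB1 c'.1.out (hout c') c'.2.2)
        rw [hμ, mul_comm _ (c'.1.out : nrm K q), mul_inv_cancel_left] at h1
        exact isConj_GU hq hσ c₀ hc₀ (c : Kˣ).ne_zero hrF h1 hg
          ((charpoly_eq_pow hr (hnN c hcN) h1).2.trans hcp.symm)
  rw [← Nat.card_eq_of_bijective Φ hΦ, Nat.card_sum]
  congr 1
  have hidx : Nat.card (nrm K q ⧸ N) = r := by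
    rw [← Subgroup.index_eq_card, hN, IsCyclic.index_powMonoidHom_range, Nat.gcd_eq_right]
    rw [hcardM]; exact hrq
  split_ifs with hd
  · rw [mul_one, Nat.card_congr (Equiv.subtypeEquivRight fun c : nrm K q ⧸ N =>
      show (c ≠ 1 ∧ r ∣ n) ↔ c ≠ 1 from and_iff_left hd), Nat.card_eq_fintype_card,
      Fintype.card_subtype_compl, Fintype.card_subtype_eq, ← Nat.card_eq_fintype_card, hidx]
  · haveI : IsEmpty {c : nrm K q ⧸ N // c ≠ 1 ∧ r ∣ n} := ⟨fun c => hd c.2.2⟩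
    rw [mul_zero, Nat.card_of_isEmpty]

/-- Number of conjugacy classes of elements of odd prime order r in PGU_n(q) = GU_n(q)/scalars (n ≥ 3) when r divides q + 1: as in the linear case with q − 1 replaced by q + 1, the classes correspond to the rotation orbits on r-tuples of eigenvalue multiplicities summing to n with every entry < n, plus r − 1 further classes when r divides n; in all (C(n+r−1, r−1) − r − [r ∣ n])/r + r·[r ∣ n]. -/
theorem result {K : Type*} [Field K] [Fintype K] {q n r : ℕ} (hK : Fintype.card K = q ^ 2) (hn : 3 ≤ n) (hr : r.Prime) (hr2 : r ≠ 2) (hrq : r ∣ q + 1) : Nat.card {C : ConjClasses (↥(Cfsg.GU n K q) ⧸ Subgroup.center ↥(Cfsg.GU n K q)) // ∃ g : ↥(Cfsg.GU n K q) ⧸ Subgroup.center ↥(Cfsg.GU n K q), ConjClasses.mk g = C ∧ orderOf g = r} = (Nat.choose (n + r - 1) (r - 1) - r - (if r ∣ n then 1 else 0)) / r + r * (if r ∣ n then 1 else 0) := by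
  haveI : Fact r.Prime := ⟨hr⟩
  rw [count_classes hK (by omega) hr hr2 hrq, card_orbits (by omega), add_assoc]
  congr 1
  have := hr.one_le
  split_ifs <;> omega

end Cfsg.Agent.S2672
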