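import Cfsg.Statements.S2673
import Cfsg.Agent.Lib.OrthPrimeOrderClasses73

set_option autoImplicit false
open Cfsg
open Polynomial Module
open Cfsg.Agent.PrimeOrderClassCount (lin)
open Cfsg.Agent.OrthPrimeOrderClasses73 Cfsg.Agent.OrthTypeCount73

namespace Cfsg.Agent.S2673

/-- Number of conjugacy classes of elements of odd prime order r ≠ p in the orthogonal group O_(2m+1)(q) of x_0² + Σ x_j y_j, q odd: with i the multiplicative order of q mod r and t = (r − 1)/i, there are C(⌊m/i⌋ + t/2, t/2) − 1 classes if i is odd (dual pairs of totally singular i-blocks) and C(⌊(2m+1)/i⌋ + t, t) − 1 if i is even (elliptic i-blocks). -/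
theorem result {F : Type*} [Field F] [Fintype F] {p q : ℕ} [Fact p.Prime] [CharP F p] (hF : Fintype.card F = q) (hq : Odd q) (m r i t : ℕ) (hr : r.Prime) (hr2 : r ≠ 2) (hrp : r ≠ p) (hi : i = orderOf (q : ZMod r)) (ht : t * i = r - 1) : Nat.card {C : ConjClasses ↥(Cfsg.isometryGroup F (Cfsg.quadFormOdd m F)) // ∃ g : ↥(Cfsg.isometryGroup F (Cfsg.quadFormOdd m F)), ConjClasses.mk g = C ∧ orderOf g = r} = if Odd i then Nat.choose (m / i + t / 2) (t / 2) - 1 else Nat.choose ((2 * m + 1) / i + t) t - 1 := by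
  classical
  haveI := Fact.mk hr
  haveI : Finite F := Finite.of_fintype F
  obtain ⟨hi0, S, ρ, hS, hcard⟩ := exists_blocks73 (F := F) hF hr hr2 hrp hi ht
  have htpos : 0 < t := Nat.pos_of_ne_zero fun h => by
    rw [h, zero_mul] at ht; have := hr.two_le; omega
  have hhalf : Odd i → 0 < t / 2 := fun ho => by
    have : Even (t * i) := by rw [ht]; exact hr.even_sub_one hr2
    obtain ⟨k, hk⟩ := (Nat.even_mul.1 this).resolve_right (Nat.not_even_iff_odd.2 ho)
    omega
  have h2 : (2 : F) ≠ 0 := Ring.two_ne_zero fun h => by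
    have := ringChar.eq F p
    haveI : CharP F 2 := ringChar.of_eq h
    have : Even (Fintype.card F) := FiniteField.even_card_iff_char_two.1 h |> Nat.even_iff.2
    rw [hF] at this
    exact Nat.not_odd_iff_even.2 this hq
  rw [← QuadClassify.qOdd_coe]
  rw [card_classes hr hr2 hrp hS (QuadClassify.qOdd m F) (OmegaMaxGlue.nondeg_odd h2)
    (n := 2 * m + 1) (by simp; omega) False (fun h => h.elim) (fun _ _ _ _ h => h)
    (fun a P₀ hm₀ hdeg hev _ hrefl h1 hn1 _ _ => realise_odd h2 hm₀ hdeg hev hrefl h1 hn1),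
    if_neg not_false, hcard]
  by_cases ho : Odd i
  · rw [if_pos ho, if_pos ho, if_pos ho, ← Nat.div_div_eq_div_mul, show (2 * m + 1) / 2 = m by omega]
  · rw [if_neg ho, if_neg ho, if_neg ho]

end Cfsg.Agent.S2673
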