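import Cfsg.Statements.S2674
import Cfsg.Agent.Lib.OrthPrimeOrderClasses73

set_option autoImplicit false
open Cfsg
open Polynomial Module
open Cfsg.Agent.PrimeOrderClassCount (lin)
open Cfsg.Agent.OrthPrimeOrderClasses73 Cfsg.Agent.OrthTypeCount73

namespace Cfsg.Agent.S2674

/-- Number of conjugacy classes of elements of odd prime order r ≠ p in the orthogonal group O⁺_2m(q) of Σ x_j y_j (m ≥ 1): with i the multiplicative order of q mod r and t = (r − 1)/i — if i is odd, C(⌊m/i⌋ + t/2, t/2) − 1; if i is even, C(⌊2m/i⌋ + t, t) − 1 minus, when i divides 2m with odd quotient, the C(2m/i + t − 1, t − 1) tuples using the whole space (an odd number of elliptic i-blocks fills an elliptic, not a hyperbolic, space). -/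
theorem result {F : Type*} [Field F] [Fintype F] {p q : ℕ} [Fact p.Prime] [CharP F p] (hF : Fintype.card F = q) (m r i t : ℕ) (hm : 1 ≤ m) (hr : r.Prime) (hr2 : r ≠ 2) (hrp : r ≠ p) (hi : i = orderOf (q : ZMod r)) (ht : t * i = r - 1) : Nat.card {C : ConjClasses ↥(Cfsg.isometryGroup F (Cfsg.quadFormPlus m F)) // ∃ g : ↥(Cfsg.isometryGroup F (Cfsg.quadFormPlus m F)), ConjClasses.mk g = C ∧ orderOf g = r} = if Odd i then Nat.choose (m / i + t / 2) (t / 2) - 1 else Nat.choose (2 * m / i + t) t - 1 - (if i ∣ 2 * m ∧ Odd (2 * m / i) then Nat.choose (2 * m / i + t - 1) (t - 1) else 0) := by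
  classical
  haveI := Fact.mk hr
  haveI : Finite F := Finite.of_fintype F
  obtain ⟨hi0, S, ρ, hS, hcard⟩ := exists_blocks73 (F := F) hF hr hr2 hrp hi ht
  have htpos : 0 < t := Nat.pos_of_ne_zero fun h => by
    rw [h, zero_mul] at ht; have := hr.two_le; omega
  have hhalf : Odd i → 0 < t / 2 := fun ho => by
    have : Even (t * i) := by rw [ht]; exact hr.even_sub_one hr2
    obtain ⟨k, hk⟩ := (Nat.even_mul.1 this).resolve_right (Nat.not_even_iff_odd.2 ho)
    omega
  rw [← QuadClassify.qPlus_coe]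
  rw [card_classes hr hr2 hrp hS (QuadClassify.qPlus m F) OmegaStd.nondeg_plus
    (n := 2 * m) (by simp; omega) (¬ Odd i ∧ i ∣ 2 * m ∧ Odd (2 * m / i)) (fun _ => by omega) ?_ ?_,
    hcard]
  · by_cases ho : Odd i
    · rw [if_pos ho, if_pos ho, if_pos ho, if_neg (fun h => h.1 ho),
        Nat.mul_div_mul_left _ _ two_pos]
    · rw [if_neg ho, if_neg ho, if_neg ho]
      by_cases hx : i ∣ 2 * m ∧ Odd (2 * m / i)
      · rw [if_pos ⟨ho, hx⟩, if_pos hx]
        exact choose_excl hi0 (Nat.mul_div_cancel' hx.1).symm (by omega) htpos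
      · rw [if_neg (fun h => hx h.2), if_neg hx, Nat.sub_zero]
  · rintro A hA hAr h1 ⟨ho, hd, hodd⟩
    obtain ⟨N, hN⟩ := prof_qPlus (F := F) m
    have h := dvd_of_free hr _ hN (by simp [Cfsg.quadFormPlus]) (Matrix.toLin' A)
      (fun v => by simpa [QuadClassify.qPlus_coe] using hA v)
      (by rw [← Matrix.toLin'_pow, hAr, Matrix.toLin'_one]; rfl) (fixed_zero h1)
    rw [hF] at h
    exact not_both hr hr2 h (((sign_of_dvd hi hi0).2 ho hd).2 hodd)
  · intro a P₀ hm₀ hdeg hev hediv hrefl h1 hn1 hdvd hx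
    refine realise_even hr hr2 (QuadClassify.qPlus m F) (ε := 1) (Or.inl rfl) ?_ hm₀ hdeg hev hrefl
      h1 hn1 hdvd hrp fun ha => ?_
    · intro V _ _ _ Q hQ hd ⟨N, hN⟩
      rw [one_mul] at hN
      obtain ⟨g, hg⟩ := iso_plus_of_prof Q hQ hd hN
      exact ⟨g, fun v => by rw [QuadClassify.qPlus_coe]; exact hg v⟩
    · rw [one_mul, hF]
      rw [show P₀.natDegree = 2 * m by omega] at hediv
      by_cases ho : Odd i
      · rw [if_pos ho] at hediv
        exact (sign_of_dvd hi hi0).1 ho (Nat.dvd_of_mul_dvd_mul_left two_pos hediv)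
      · rw [if_neg ho] at hediv
        exact ((sign_of_dvd hi hi0).2 ho hediv).1
          (Nat.not_odd_iff_even.1 fun h => hx ha ⟨ho, hediv, h⟩)

end Cfsg.Agent.S2674
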