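import Cfsg.Statements.S2675
import Cfsg.Agent.Lib.OrthPrimeOrderClasses73

set_option autoImplicit false
open Cfsg
open Polynomial Module
open Cfsg.Agent.PrimeOrderClassCount (lin)
open Cfsg.Agent.OrthPrimeOrderClasses73 Cfsg.Agent.OrthTypeCount73

namespace Cfsg.Agent.S2675

/-- Number of conjugacy classes of elements of odd prime order r ≠ p in the orthogonal group O⁻_2m(q) of an elliptic form Σ_(j<m−1) x_j y_j + z₁² + a z₁z₂ + c z₂² (binary part anisotropic, m ≥ 1): with i the multiplicative order of q mod r and t = (r − 1)/i — if i is odd, C(⌊m/i⌋ + t/2, t/2) − 1 minus, when i divides m, the C(m/i + t/2 − 1, t/2 − 1) tuples filling the whole space (dual pairs of totally singular blocks fill a hyperbolic space); if i is even, C(⌊2m/i⌋ + t, t) − 1 minus, when i divides 2m with even quotient, the C(2m/i + t − 1, t − 1) tuples filling the whole space with an even number of elliptic blocks. -/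
theorem result {F : Type*} [Field F] [Fintype F] {p q : ℕ} [Fact p.Prime] [CharP F p] (hF : Fintype.card F = q) (m r i t : ℕ) (hm : 1 ≤ m) (a c : F) (hac : ∀ z₁ z₂ : F, z₁ ^ 2 + a * z₁ * z₂ + c * z₂ ^ 2 = 0 → z₁ = 0 ∧ z₂ = 0) (hr : r.Prime) (hr2 : r ≠ 2) (hrp : r ≠ p) (hi : i = orderOf (q : ZMod r)) (ht : t * i = r - 1) : Nat.card {C : ConjClasses ↥(Cfsg.isometryGroup F (Cfsg.quadFormMinus (m - 1) F a c)) // ∃ g : ↥(Cfsg.isometryGroup F (Cfsg.quadFormMinus (m - 1) F a c)), ConjClasses.mk g = C ∧ orderOf g = r} = if Odd i then Nat.choose (m / i + t / 2) (t / 2) - 1 - (if i ∣ m then Nat.choose (m / i + t / 2 - 1) (t / 2 - 1) else 0) else Nat.choose (2 * m / i + t) t - 1 - (if i ∣ 2 * m ∧ Even (2 * m / i) then Nat.choose (2 * m / i + t - 1) (t - 1) else 0) := by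
  classical
  haveI := Fact.mk hr
  haveI : Finite F := Finite.of_fintype F
  obtain ⟨hi0, S, ρ, hS, hcard⟩ := exists_blocks73 (F := F) hF hr hr2 hrp hi ht
  have htpos : 0 < t := Nat.pos_of_ne_zero fun h => by
    rw [h, zero_mul] at ht; have := hr.two_le; omega
  have hhalf : Odd i → 0 < t / 2 := fun ho => by
    have : Even (t * i) := by rw [ht]; exact hr.even_sub_one hr2
    obtain ⟨k, hk⟩ := (Nat.even_mul.1 this).resolve_right (Nat.not_even_iff_odd.2 ho)
    omega
  rw [← QuadClassify.qMinus_coe]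
  rw [card_classes hr hr2 hrp hS (QuadClassify.qMinus (m - 1) F a c) (nd_minus _ hac)
    (n := 2 * m) (by simp; omega)
    ((Odd i ∧ i ∣ m) ∨ (¬ Odd i ∧ i ∣ 2 * m ∧ Even (2 * m / i))) (fun _ => by omega) ?_ ?_, hcard]
  · by_cases ho : Odd i
    · rw [if_pos ho, if_pos ho, if_pos ho]
      by_cases hx : i ∣ m
      · rw [if_pos (Or.inl ⟨ho, hx⟩), if_pos hx]
        exact choose_excl (by omega) (by rw [mul_assoc, Nat.mul_div_cancel' hx]) (by omega) (hhalf ho)
      · rw [if_neg (fun h => h.elim (fun h => hx h.2) fun h => h.1 ho), if_neg hx,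
          Nat.mul_div_mul_left _ _ two_pos, Nat.sub_zero]
    · rw [if_neg ho, if_neg ho, if_neg ho]
      by_cases hx : i ∣ 2 * m ∧ Even (2 * m / i)
      · rw [if_pos (Or.inr ⟨ho, hx⟩), if_pos hx]
        exact choose_excl hi0 (Nat.mul_div_cancel' hx.1).symm (by omega) htpos
      · rw [if_neg (fun h => h.elim (fun h => ho h.1) fun h => hx h.2), if_neg hx, Nat.sub_zero]
  · intro A hA hAr h1 hex
    obtain ⟨N, hN⟩ := prof_qMinus (m - 1) hac
    have h := dvd_of_free hr _ hN (by simp [Cfsg.quadFormMinus]) (Matrix.toLin' A)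
      (fun v => by simpa [QuadClassify.qMinus_coe] using hA v)
      (by rw [← Matrix.toLin'_pow, hAr, Matrix.toLin'_one]; rfl) (fixed_zero h1)
    rw [hF, show m - 1 + 1 = m by omega, show (-(q : ℤ) ^ m - 1) = -((q : ℤ) ^ m + 1) by ring,
      dvd_neg] at h
    rcases hex with ⟨ho, hd⟩ | ⟨ho, hd, hev⟩
    · exact not_both hr hr2 ((sign_of_dvd hi hi0).1 ho hd) h
    · exact not_both hr hr2 (((sign_of_dvd hi hi0).2 ho hd).1 hev) h
  · intro a' P₀ hm₀ hdeg hev hediv hrefl h1 hn1 hdvd hx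
    refine realise_even hr hr2 (QuadClassify.qMinus (m - 1) F a c) (ε := -1) (Or.inr rfl) ?_ hm₀
      hdeg hev hrefl h1 hn1 hdvd hrp fun ha => ?_
    · intro V _ _ _ Q hQ hd ⟨N, hN⟩
      rw [neg_one_mul] at hN
      obtain ⟨g, hg⟩ := iso_minus_of_prof Q hQ hd hN hac
      exact ⟨g, fun v => by rw [QuadClassify.qMinus_coe]; exact hg v⟩
    · rw [hF, show (-1 * (q : ℤ) ^ m - 1) = -((q : ℤ) ^ m + 1) by ring, dvd_neg]
      rw [show P₀.natDegree = 2 * m by omega] at hediv
      by_cases ho : Odd i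
      · rw [if_pos ho] at hediv
        exact absurd (Or.inl ⟨ho, Nat.dvd_of_mul_dvd_mul_left two_pos hediv⟩) (hx ha)
      · rw [if_neg ho] at hediv
        exact ((sign_of_dvd hi hi0).2 ho hediv).2
          (Nat.not_even_iff_odd.1 fun h => hx ha (Or.inr ⟨ho, hediv, h⟩))

end Cfsg.Agent.S2675
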