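import Cfsg.Statements.S2676
import Cfsg.Agent.Lib.OrthUnitarySympUnipotentForms
import Cfsg.Agent.S2570
-- import your own Cfsg.Agent.* helpers here

set_option autoImplicit false
open Classical
open Cfsg

namespace Cfsg.Agent.S2676

open Matrix Cfsg.Agent.JordanType Cfsg.Agent.OrthUnitaryUnipotent Cfsg.Agent.OrthUnitarySympUnipotent
open Cfsg.Agent.FormCongruence Cfsg.Agent.S2581

variable {F : Type*} [Field F] [Fintype F] {m : ℕ}

/-- `g` has Jordan type `d` and induces the form `G` -/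
def Rep {t : ℕ} (g : Matrix (Fin m ⊕ Fin m) (Fin m ⊕ Fin m) F) (d : Fin t → ℕ) (G : Matrix (Ix d) (Ix d) F) : Prop :=
  ∃ (Q : Matrix (Fin m ⊕ Fin m) (Ix d) F) (Q' : Matrix (Ix d) (Fin m ⊕ Fin m) F), Q * Q' = 1 ∧ Q' * Q = 1 ∧
    Qᵀ * Matrix.J (Fin m) F * Q = G ∧ g * Q = Q * (1 + sh d F 1)

theorem sub_one_pow {t : ℕ} {g : Matrix (Fin m ⊕ Fin m) (Fin m ⊕ Fin m) F} {d : Fin t → ℕ}
    {G : Matrix (Ix d) (Ix d) F} (h : Rep g d G) (k : ℕ) :
    ∃ (Q : Matrix (Fin m ⊕ Fin m) (Ix d) F) (Q' : Matrix (Ix d) (Fin m ⊕ Fin m) F), Q * Q' = 1 ∧ Q' * Q = 1 ∧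
      (g - 1) ^ k = Q * sh d F k * Q' := by
  obtain ⟨Q, Q', h1, h2, -, h4⟩ := h
  refine ⟨Q, Q', h1, h2, ?_⟩
  have hN : (g - 1) * Q = Q * sh d F 1 := by
    rw [Matrix.sub_mul, h4, Matrix.one_mul, Matrix.mul_add, Matrix.mul_one, add_sub_cancel_left]
  induction k with
  | zero => rw [← sh_pow, pow_zero, pow_zero, Matrix.mul_one, h1]
  | succ k ih =>
    calc (g - 1) ^ (k + 1) = (g - 1) ^ k * ((g - 1) * (Q * Q')) := by rw [h1, mul_one, pow_succ]
      _ = Q * sh d F k * (Q' * Q) * sh d F 1 * Q' := by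
        rw [ih, ← Matrix.mul_assoc (g - 1), hN]; simp only [Matrix.mul_assoc]
      _ = _ := by rw [h2, Matrix.mul_one, Matrix.mul_assoc Q (sh d F k), sh_mul_one]

theorem rk_eq_rank {t : ℕ} {g : Matrix (Fin m ⊕ Fin m) (Fin m ⊕ Fin m) F} {d : Fin t → ℕ}
    {G : Matrix (Ix d) (Ix d) F} (h : Rep g d G) (k : ℕ) : ((g - 1) ^ k).rank = rk d k := by
  obtain ⟨Q, Q', h1, h2, hk⟩ := sub_one_pow h k
  rw [← rank_sh (F := F) d k, hk]
  refine le_antisymm ((Matrix.rank_mul_le_left _ _).trans (Matrix.rank_mul_le_right _ _)) ?_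
  have : sh d F k = Q' * (Q * sh d F k * Q') * Q := by
    rw [show Q' * (Q * sh d F k * Q') * Q = (Q' * Q) * sh d F k * (Q' * Q) by simp only [Matrix.mul_assoc], h2,
      Matrix.one_mul, Matrix.mul_one]
  conv_lhs => rw [this]
  exact (Matrix.rank_mul_le_left _ _).trans (Matrix.rank_mul_le_right _ _)

theorem rank_eq_zero {n : Type*} [Fintype n] [DecidableEq n] {M : Matrix n n F} (h : M.rank = 0) : M = 0 := by
  rw [Matrix.rank, Submodule.finrank_eq_zero, LinearMap.range_eq_bot] at h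
  exact Matrix.toLin'.injective (h.trans (map_zero Matrix.toLin').symm)

theorem pow_sub_one_eq_zero_iff {g : Matrix (Fin m ⊕ Fin m) (Fin m ⊕ Fin m) F} {μ : Nat.Partition (2 * m)}
    {G : Matrix (Ix (parts μ)) (Ix (parts μ)) F} (h : Rep g (parts μ) G) (k : ℕ) :
    (g - 1) ^ k = 0 ↔ ∀ a ∈ μ.parts, a ≤ k := by
  rw [← Cfsg.Agent.S2570.rk_eq_zero_iff, ← rk_eq_rank h]
  exact ⟨fun h0 => by rw [h0, Matrix.rank_zero], rank_eq_zero⟩

theorem orderOf_eq_iff' {p : ℕ} [Fact p.Prime] [CharP F p] (g : ↥(Matrix.symplecticGroup (Fin m) F)) :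
    orderOf g = p ↔ ((g : Matrix (Fin m ⊕ Fin m) (Fin m ⊕ Fin m) F) - 1) ^ p = 0 ∧
      (g : Matrix (Fin m ⊕ Fin m) (Fin m ⊕ Fin m) F) - 1 ≠ 0 := by
  have hpoly : ((g : Matrix (Fin m ⊕ Fin m) (Fin m ⊕ Fin m) F) - 1) ^ p =
      (g : Matrix (Fin m ⊕ Fin m) (Fin m ⊕ Fin m) F) ^ p - 1 := by
    have h : (Polynomial.X - 1 : Polynomial F) ^ p = Polynomial.X ^ p - 1 ^ p := sub_pow_char _ _
    simpa using congrArg (Polynomial.aeval (g : Matrix (Fin m ⊕ Fin m) (Fin m ⊕ Fin m) F)) h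
  rw [hpoly, orderOf_eq_prime_iff, sub_eq_zero, sub_ne_zero]
  constructor
  · exact fun h => ⟨by simpa using congrArg Subtype.val h.1, fun h' => h.2 (Subtype.ext h')⟩
  · exact fun h => ⟨Subtype.ext (by simpa using h.1), fun h' => h.2 (congrArg Subtype.val h')⟩

theorem parts_pos' {n : ℕ} (μ : Nat.Partition n) (a : Fin μ.parts.toList.length) : 1 ≤ parts μ a :=
  μ.parts_pos (by rw [← Multiset.mem_toList]; exact List.get_mem _ _)

theorem cnt_parts {n : ℕ} (μ : Nat.Partition n) (j : ℕ) : cnt (parts μ) j = μ.parts.count j := by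
  rw [cnt, count_parts, parts_map]

theorem exists_rep_of_form (h2 : (2 : F) ≠ 0) {μ : Nat.Partition (2 * m)} {G : Matrix (Ix (parts μ)) (Ix (parts μ)) F}
    (hG : IsForm G) : ∃ g : ↥(Matrix.symplecticGroup (Fin m) F),
      Rep (g : Matrix (Fin m ⊕ Fin m) (Fin m ⊕ Fin m) F) (parts μ) G := by
  let e : Ix (parts μ) ≃ Fin (2 * m) := place μ
  let A := Matrix.reindex e e G
  have hskew : Aᵀ = -A := by
    ext i j; exact congrFun (congrFun hG.skew (e.symm i)) (e.symm j)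
  have halt : ∀ v, v ⬝ᵥ (A *ᵥ v) = 0 := fun v => alt_dot A hskew (fun i => by
    have h := congrFun (congrFun hskew i) i
    simp only [Matrix.transpose_apply, Matrix.neg_apply] at h
    have : (2 : F) * A i i = 0 := by linear_combination h
    exact (mul_eq_zero.1 this).resolve_left h2) v
  have hdet : A.det ≠ 0 := by
    rw [Matrix.det_reindex_self]
    exact ((Matrix.isUnit_iff_isUnit_det _).1 hG.unit).ne_zero
  obtain ⟨m', hm', T, T', h1, h2', h3⟩ := classify_alt halt hdet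
  obtain rfl : m = m' := by omega
  let Q : Matrix (Fin m ⊕ Fin m) (Ix (parts μ)) F := T.submatrix id e
  let Q' : Matrix (Ix (parts μ)) (Fin m ⊕ Fin m) F := T'.submatrix e id
  have hQ1 : Q * Q' = 1 := by rw [Matrix.submatrix_mul_equiv, h1, Matrix.submatrix_id_id]
  have hQ2 : Q' * Q = 1 := by
    rw [← Matrix.submatrix_mul _ _ _ _ _ Function.bijective_id, h2', Matrix.submatrix_one _ e.injective]
  have hQG : Qᵀ * Matrix.J (Fin m) F * Q = G := by
    have : A.submatrix e e = G := by ext i j; simp [A]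
    rw [← this, h3]
    simp only [Q, Matrix.transpose_submatrix]
    conv_lhs => rw [← Matrix.submatrix_id_id (Matrix.J (Fin m) F), ← Matrix.submatrix_mul _ _ _ id _ Function.bijective_id,
      ← Matrix.submatrix_mul _ _ _ id _ Function.bijective_id]
  let g := Q * (1 + sh (parts μ) F 1) * Q'
  have hg : gᵀ * Matrix.J (Fin m) F * g = Matrix.J (Fin m) F := by
    calc gᵀ * Matrix.J (Fin m) F * g
        = Q'ᵀ * ((1 + sh (parts μ) F 1)ᵀ * (Qᵀ * Matrix.J (Fin m) F * Q) * (1 + sh (parts μ) F 1)) * Q' := by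
          simp only [g, Matrix.transpose_mul, Matrix.mul_assoc]
      _ = Q'ᵀ * (Qᵀ * Matrix.J (Fin m) F * Q) * Q' := by rw [hQG, hG.inv]
      _ = (Q * Q')ᵀ * Matrix.J (Fin m) F * (Q * Q') := by rw [Matrix.transpose_mul]; simp only [Matrix.mul_assoc]
      _ = _ := by rw [hQ1, Matrix.transpose_one, Matrix.one_mul, Matrix.mul_one]
  refine ⟨⟨g, SymplecticGroup.mem_iff'.2 hg⟩, Q, Q', hQ1, hQ2, hQG, ?_⟩
  show Q * (1 + sh (parts μ) F 1) * Q' * Q = _
  rw [Matrix.mul_assoc _ Q', hQ2, Matrix.mul_one]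

theorem exists_rep (g : ↥(Matrix.symplecticGroup (Fin m) F))
    (hg : IsNilpotent ((g : Matrix (Fin m ⊕ Fin m) (Fin m ⊕ Fin m) F) - 1)) :
    ∃ (μ : Nat.Partition (2 * m)) (G : Matrix (Ix (parts μ)) (Ix (parts μ)) F), IsForm G ∧
      Rep (g : Matrix (Fin m ⊕ Fin m) (Fin m ⊕ Fin m) F) (parts μ) G := by
  classical
  let N := (g : Matrix (Fin m ⊕ Fin m) (Fin m ⊕ Fin m) F) - 1
  obtain ⟨t, d, e, P, hP⟩ := exists_type N hg
  have hsum : (Finset.univ.val.map d).sum = 2 * m := by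
    have := Fintype.card_congr e
    rw [Fintype.card_sigma, Fintype.card_sum, Fintype.card_fin] at this
    simp only [Fintype.card_fin] at this
    rw [two_mul]
    exact this
  let μ := Nat.Partition.ofSums (2 * m) (Finset.univ.val.map d) hsum
  obtain ⟨f, hf⟩ := exists_equiv (F := F) (parts μ) d fun j hj => by
    rw [count_parts, count_parts, parts_map, Nat.Partition.count_ofSums_of_ne_zero hsum hj.ne']
  let E : Ix (parts μ) ≃ (Fin m ⊕ Fin m) := f.trans e
  let Pm : Matrix (Fin m ⊕ Fin m) (Fin m ⊕ Fin m) F := P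
  let Pi : Matrix (Fin m ⊕ Fin m) (Fin m ⊕ Fin m) F :=
    ((P⁻¹ : (Matrix (Fin m ⊕ Fin m) (Fin m ⊕ Fin m) F)ˣ) : Matrix (Fin m ⊕ Fin m) (Fin m ⊕ Fin m) F)
  let Q : Matrix (Fin m ⊕ Fin m) (Ix (parts μ)) F := Pm.submatrix id E
  let Q' : Matrix (Ix (parts μ)) (Fin m ⊕ Fin m) F := Pi.submatrix E id
  have hQ1 : Q * Q' = 1 := by
    rw [Matrix.submatrix_mul_equiv, show Pm * Pi = 1 from P.mul_inv, Matrix.submatrix_id_id]
  have hQ2 : Q' * Q = 1 := by
    rw [← Matrix.submatrix_mul _ _ _ _ _ Function.bijective_id, show Pi * Pm = 1 from P.inv_mul,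
      Matrix.submatrix_one _ E.injective]
  have hNQ : N * Q = Q * sh (parts μ) F 1 := by
    have hsh : sh (parts μ) F 1 = (Matrix.reindex e e (sh d F 1)).submatrix E E := by
      rw [← hf]; ext i j; simp [E]
    rw [hsh, Matrix.submatrix_mul_equiv, show Pm * Matrix.reindex e e (sh d F 1) = N * Pm from hP,
      Matrix.submatrix_mul _ _ id id _ Function.bijective_id, Matrix.submatrix_id_id]
  have hgQ : (g : Matrix (Fin m ⊕ Fin m) (Fin m ⊕ Fin m) F) * Q = Q * (1 + sh (parts μ) F 1) := by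
    rw [Matrix.mul_add, Matrix.mul_one, ← hNQ, Matrix.sub_mul, Matrix.one_mul, add_sub_cancel]
  refine ⟨μ, Qᵀ * Matrix.J (Fin m) F * Q, ⟨?_, ?_, ?_⟩, Q, Q', hQ1, hQ2, rfl, hgQ⟩
  · simp only [Matrix.transpose_mul, Matrix.transpose_transpose, Matrix.J_transpose, Matrix.neg_mul, Matrix.mul_neg,
      Matrix.mul_assoc]
  · refine IsUnit.of_mul_eq_one (Q' * (-Matrix.J (Fin m) F) * Q'ᵀ) ?_
    calc Qᵀ * Matrix.J (Fin m) F * Q * (Q' * (-Matrix.J (Fin m) F) * Q'ᵀ)
        = Qᵀ * (Matrix.J (Fin m) F * (Q * Q') * (-Matrix.J (Fin m) F)) * Q'ᵀ := by simp only [Matrix.mul_assoc]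
      _ = (Q' * Q)ᵀ := by
        rw [hQ1, Matrix.mul_one, Matrix.mul_neg, Matrix.J_squared, neg_neg, Matrix.mul_one, Matrix.transpose_mul]
      _ = 1 := by rw [hQ2, Matrix.transpose_one]
  · calc (1 + sh (parts μ) F 1)ᵀ * (Qᵀ * Matrix.J (Fin m) F * Q) * (1 + sh (parts μ) F 1)
        = (Q * (1 + sh (parts μ) F 1))ᵀ * Matrix.J (Fin m) F * (Q * (1 + sh (parts μ) F 1)) := by
          rw [Matrix.transpose_mul]; simp only [Matrix.mul_assoc]
      _ = Qᵀ * ((g : Matrix (Fin m ⊕ Fin m) (Fin m ⊕ Fin m) F)ᵀ * Matrix.J (Fin m) F * (g : Matrix (Fin m ⊕ Fin m) (Fin m ⊕ Fin m) F)) * Q := by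
          rw [← hgQ, Matrix.transpose_mul]; simp only [Matrix.mul_assoc]
      _ = _ := by rw [SymplecticGroup.mem_iff'.1 g.2]

theorem isConj_of_rep {μ : Nat.Partition (2 * m)} (h2 : (2 : F) ≠ 0) (hF : Odd (Fintype.card F))
    {g g' : ↥(Matrix.symplecticGroup (Fin m) F)} {G G' : Matrix (Ix (parts μ)) (Ix (parts μ)) F} (hG : IsForm G)
    (hG' : IsForm G') (hg : Rep (g : Matrix (Fin m ⊕ Fin m) (Fin m ⊕ Fin m) F) (parts μ) G)
    (hg' : Rep (g' : Matrix (Fin m ⊕ Fin m) (Fin m ⊕ Fin m) F) (parts μ) G')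
    (h : ∀ j, Even j → (IsSquare (blockH G' j).det ↔ IsSquare (blockH G j).det)) : IsConj g g' := by
  obtain ⟨a, ha, -, haG⟩ := exists_congr h2 hF (parts_pos' μ) hG hG' h
  have haJ : a * (1 + sh (parts μ) F 1) = (1 + sh (parts μ) F 1) * a := by
    rw [mul_add, add_mul, mem_comm.1 ha, one_mul, mul_one]
  obtain ⟨Q, Q', h1, h2', h3, h4⟩ := hg
  obtain ⟨R, R', k1, k2, k3, k4⟩ := hg'
  let c := R * a * Q'
  have hc : cᵀ * Matrix.J (Fin m) F * c = Matrix.J (Fin m) F := by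
    calc cᵀ * Matrix.J (Fin m) F * c = Q'ᵀ * (aᵀ * (Rᵀ * Matrix.J (Fin m) F * R) * a) * Q' := by
          simp only [c, Matrix.transpose_mul, Matrix.mul_assoc]
      _ = (Q * Q')ᵀ * Matrix.J (Fin m) F * (Q * Q') := by
          rw [k3, haG, ← h3, Matrix.transpose_mul]; simp only [Matrix.mul_assoc]
      _ = _ := by rw [h1, Matrix.transpose_one, Matrix.one_mul, Matrix.mul_one]
  let cS : ↥(Matrix.symplecticGroup (Fin m) F) := ⟨c, SymplecticGroup.mem_iff'.2 hc⟩
  refine ⟨toUnits cS, Subtype.ext ?_⟩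
  show c * (g : Matrix (Fin m ⊕ Fin m) (Fin m ⊕ Fin m) F) = (g' : Matrix (Fin m ⊕ Fin m) (Fin m ⊕ Fin m) F) * c
  calc c * (g : Matrix (Fin m ⊕ Fin m) (Fin m ⊕ Fin m) F) = c * ((g : Matrix (Fin m ⊕ Fin m) (Fin m ⊕ Fin m) F) * Q) * Q' := by
        rw [Matrix.mul_assoc c, Matrix.mul_assoc _ Q, h1, Matrix.mul_one]
    _ = R * a * (Q' * Q) * (1 + sh (parts μ) F 1) * Q' := by rw [h4]; simp only [c, Matrix.mul_assoc]
    _ = R * (a * (1 + sh (parts μ) F 1)) * Q' := by rw [h2', Matrix.mul_one]; simp only [Matrix.mul_assoc]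
    _ = (R * (1 + sh (parts μ) F 1)) * a * Q' := by rw [haJ]; simp only [Matrix.mul_assoc]
    _ = _ := by rw [← k4]; simp only [c, Matrix.mul_assoc]

theorem isSquare_iff_of_isConj {μ : Nat.Partition (2 * m)} {g g' : ↥(Matrix.symplecticGroup (Fin m) F)}
    {G G' : Matrix (Ix (parts μ)) (Ix (parts μ)) F} (hG' : IsForm G')
    (hg : Rep (g : Matrix (Fin m ⊕ Fin m) (Fin m ⊕ Fin m) F) (parts μ) G)
    (hg' : Rep (g' : Matrix (Fin m ⊕ Fin m) (Fin m ⊕ Fin m) F) (parts μ) G') (h : IsConj g g') (j : ℕ) :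
    IsSquare (blockH G j).det ↔ IsSquare (blockH G' j).det := by
  obtain ⟨c, hc⟩ := h
  obtain ⟨Q, Q', h1, h2', h3, h4⟩ := hg
  obtain ⟨R, R', k1, k2, k3, k4⟩ := hg'
  let cm : Matrix (Fin m ⊕ Fin m) (Fin m ⊕ Fin m) F := ((c : ↥(Matrix.symplecticGroup (Fin m) F)) : Matrix (Fin m ⊕ Fin m) (Fin m ⊕ Fin m) F)
  let ci : Matrix (Fin m ⊕ Fin m) (Fin m ⊕ Fin m) F := ((c⁻¹ : (↥(Matrix.symplecticGroup (Fin m) F))ˣ) : ↥(Matrix.symplecticGroup (Fin m) F))
  have hcg : cm * (g : Matrix (Fin m ⊕ Fin m) (Fin m ⊕ Fin m) F) = (g' : Matrix (Fin m ⊕ Fin m) (Fin m ⊕ Fin m) F) * cm :=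
    congrArg Subtype.val hc
  have hci : cm * ci = 1 := congrArg Subtype.val c.mul_inv
  have hic : ci * cm = 1 := congrArg Subtype.val c.inv_mul
  let a := R' * cm * Q
  have hau : IsUnit a := by
    refine IsUnit.of_mul_eq_one (Q' * ci * R) ?_
    calc R' * cm * Q * (Q' * ci * R) = R' * cm * (Q * Q') * ci * R := by simp only [Matrix.mul_assoc]
      _ = R' * (cm * ci) * R := by rw [h1, Matrix.mul_one]; simp only [Matrix.mul_assoc]
      _ = 1 := by rw [hci, Matrix.mul_one, k2]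
  have ha : a ∈ comm (parts μ) F := by
    rw [mem_comm]
    have k4' : R' * (g' : Matrix (Fin m ⊕ Fin m) (Fin m ⊕ Fin m) F) = (1 + sh (parts μ) F 1) * R' := by
      calc R' * (g' : Matrix (Fin m ⊕ Fin m) (Fin m ⊕ Fin m) F) = R' * ((g' : Matrix (Fin m ⊕ Fin m) (Fin m ⊕ Fin m) F) * R) * R' := by
            rw [Matrix.mul_assoc R', Matrix.mul_assoc _ R, k1, Matrix.mul_one]
        _ = _ := by rw [k4, ← Matrix.mul_assoc R', k2, Matrix.one_mul]
    have : a * (1 + sh (parts μ) F 1) = (1 + sh (parts μ) F 1) * a := by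
      calc a * (1 + sh (parts μ) F 1) = R' * cm * ((g : Matrix (Fin m ⊕ Fin m) (Fin m ⊕ Fin m) F) * Q) := by
            rw [h4]; simp only [a, Matrix.mul_assoc]
        _ = R' * (cm * (g : Matrix (Fin m ⊕ Fin m) (Fin m ⊕ Fin m) F)) * Q := by simp only [Matrix.mul_assoc]
        _ = (R' * (g' : Matrix (Fin m ⊕ Fin m) (Fin m ⊕ Fin m) F)) * cm * Q := by rw [hcg]; simp only [Matrix.mul_assoc]
        _ = _ := by rw [k4']; simp only [a, Matrix.mul_assoc]
    rwa [mul_add, add_mul, mul_one, one_mul, add_right_inj] at this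
  have haG : aᵀ * G' * a = G := by
    have hRR : R * a = cm * Q := by
      simp only [a, ← Matrix.mul_assoc, k1, Matrix.one_mul]
    calc aᵀ * G' * a = (R * a)ᵀ * Matrix.J (Fin m) F * (R * a) := by
          rw [← k3, Matrix.transpose_mul R a]; simp only [Matrix.mul_assoc]
      _ = Qᵀ * (cmᵀ * Matrix.J (Fin m) F * cm) * Q := by
          rw [hRR, Matrix.transpose_mul]; simp only [Matrix.mul_assoc]
      _ = G := by rw [SymplecticGroup.mem_iff'.1 (c : ↥(Matrix.symplecticGroup (Fin m) F)).2, h3]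
  rw [← haG, isSquare_iff_of_congr (parts_pos' μ) hG' ha hau]

theorem partition_eq_of_rep {μ ν : Nat.Partition (2 * m)} {g g' : ↥(Matrix.symplecticGroup (Fin m) F)}
    {G : Matrix (Ix (parts μ)) (Ix (parts μ)) F} {G' : Matrix (Ix (parts ν)) (Ix (parts ν)) F}
    (hg : Rep (g : Matrix (Fin m ⊕ Fin m) (Fin m ⊕ Fin m) F) (parts μ) G)
    (hg' : Rep (g' : Matrix (Fin m ⊕ Fin m) (Fin m ⊕ Fin m) F) (parts ν) G') (h : IsConj g g') : μ = ν := by
  obtain ⟨c, hc⟩ := h
  let cm : Matrix (Fin m ⊕ Fin m) (Fin m ⊕ Fin m) F := ((c : ↥(Matrix.symplecticGroup (Fin m) F)) : Matrix (Fin m ⊕ Fin m) (Fin m ⊕ Fin m) F)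
  have hcg : SemiconjBy cm (g : Matrix (Fin m ⊕ Fin m) (Fin m ⊕ Fin m) F) (g' : Matrix (Fin m ⊕ Fin m) (Fin m ⊕ Fin m) F) :=
    congrArg Subtype.val hc
  have hU : IsUnit cm.det := (Matrix.isUnit_iff_isUnit_det _).1 (c.isUnit.map (Matrix.symplecticGroup (Fin m) F).subtype)
  have hrk : ∀ k, rk (parts μ) k = rk (parts ν) k := by
    intro k
    rw [← rk_eq_rank hg, ← rk_eq_rank hg', ← Matrix.rank_mul_eq_right_of_isUnit_det cm _ hU,
      ((hcg.sub_right (SemiconjBy.one_right _)).pow_right k).eq, Matrix.rank_mul_eq_left_of_isUnit_det _ _ hU]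
  apply Nat.Partition.ext
  ext j
  rcases Nat.eq_zero_or_pos j with rfl | hj
  · rw [Multiset.count_eq_zero.2 fun h0 => (μ.parts_pos h0).ne' rfl, Multiset.count_eq_zero.2 fun h0 => (ν.parts_pos h0).ne' rfl]
  · rw [← parts_map μ, ← parts_map ν, ← count_parts, ← count_parts, count_eq_of_rk _ _ hrk j hj]

/-- Number of conjugacy classes of elements of order p in Sp_2m(q), q a power of the odd prime p: the classes correspond to the signed partitions of 2m — partitions with all parts at most p in which every odd part has even multiplicity, each even part size that occurs carrying a sign — other than the all-ones partition; so the count is the sum over such partitions of 2^(number of distinct even parts), minus one. -/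
theorem result {F : Type*} [Field F] [Fintype F] {p : ℕ} [Fact p.Prime] [CharP F p] (hp : p ≠ 2) (m : ℕ) : Nat.card {C : ConjClasses ↥(Matrix.symplecticGroup (Fin m) F) // ∃ g : Matrix.symplecticGroup (Fin m) F, ConjClasses.mk g = C ∧ orderOf g = p} = (∑ μ ∈ Finset.univ.filter (fun μ : Nat.Partition (2 * m) => (∀ a ∈ μ.parts, a ≤ p) ∧ ∀ j : ℕ, Odd j → Even (μ.parts.count j)), 2 ^ ((μ.parts.toFinset.filter (fun j : ℕ => Even j)).card)) - 1 := by
  classical
  have hpp : p.Prime := Fact.out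
  have h2 : (2 : F) ≠ 0 := Ring.two_ne_zero (by rw [ringChar.eq F p]; exact hp)
  have hF : Odd (Fintype.card F) := by
    obtain ⟨n, -, hn⟩ := FiniteField.card F p
    rw [hn]
    exact (hpp.odd_of_ne_two hp).pow
  obtain ⟨ν, hν⟩ := FiniteField.exists_nonsquare (F := F) (by rw [ringChar.eq F p]; exact hp)
  have hν0 : ν ≠ 0 := fun h => hν (h ▸ IsSquare.zero)
  let S := Finset.univ.filter fun μ : Nat.Partition (2 * m) =>
    (∀ a ∈ μ.parts, a ≤ p) ∧ ∀ j : ℕ, Odd j → Even (μ.parts.count j)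
  let o : Nat.Partition (2 * m) :=
    ⟨Multiset.replicate (2 * m) 1, fun {i} hi => by rw [Multiset.eq_of_mem_replicate hi]; omega, by simp⟩
  have hoS : o ∈ S := by
    simp only [S, Finset.mem_filter, Finset.mem_univ, true_and, o]
    refine ⟨fun a ha => (Multiset.eq_of_mem_replicate ha).trans_le hpp.one_le, fun j _ => ?_⟩
    rw [Multiset.count_replicate]
    split_ifs
    exacts [even_two_mul m, Even.zero]
  have hone : ∀ μ : Nat.Partition (2 * m), μ ≠ o → ¬ ∀ a ∈ μ.parts, a ≤ 1 := by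
    intro μ hne h
    refine hne (Nat.Partition.ext ?_)
    have hr : μ.parts = Multiset.replicate μ.parts.card 1 :=
      Multiset.eq_replicate.2 ⟨rfl, fun a ha => le_antisymm (h a ha) (μ.parts_pos ha)⟩
    have hs := μ.parts_sum
    rw [hr, Multiset.sum_replicate, smul_eq_mul, mul_one] at hs
    rw [hr, hs]
  let X := (μ : {μ // μ ∈ S.erase o}) × ({j // j ∈ μ.1.parts.toFinset.filter fun j : ℕ => Even j} → Bool)
  let u : X → ℕ → F := fun x j =>
    if h : j ∈ x.1.1.parts.toFinset.filter fun j : ℕ => Even j then (if x.2 ⟨j, h⟩ then 1 else ν) else 1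
  have hu : ∀ x j, u x j ≠ 0 := fun x j => by
    simp only [u]; split_ifs <;> first | exact one_ne_zero | exact hν0
  have hpar : ∀ x : X, ∀ j, Odd j → Even (cnt (parts x.1.1) j) := fun x j hj => by
    rw [cnt_parts]
    exact (Finset.mem_filter.1 (Finset.mem_of_mem_erase x.1.2)).2.2 j hj
  choose G hG hGu using fun x : X => exists_form h2 (parts_pos' x.1.1) (hpar x) (u x) (hu x)
  choose g hg using fun x : X => exists_rep_of_form h2 (hG x)
  have hord : ∀ x, orderOf (g x) = p := fun x => by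
    rw [orderOf_eq_iff', pow_sub_one_eq_zero_iff (hg x)]
    refine ⟨(Finset.mem_filter.1 (Finset.mem_of_mem_erase x.1.2)).2.1, fun h => ?_⟩
    exact hone _ (Finset.ne_of_mem_erase x.1.2) ((pow_sub_one_eq_zero_iff (hg x) 1).1 (by rw [pow_one, h]))
  let f : X → {C : ConjClasses ↥(Matrix.symplecticGroup (Fin m) F) //
      ∃ g : Matrix.symplecticGroup (Fin m) F, ConjClasses.mk g = C ∧ orderOf g = p} := fun x =>
    ⟨ConjClasses.mk (g x), g x, rfl, hord x⟩
  have hbij : Function.Bijective f := by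
    constructor
    · intro x y hxy
      have hc : IsConj (g x) (g y) := ConjClasses.mk_eq_mk_iff_isConj.1 (congrArg Subtype.val hxy)
      obtain ⟨⟨μ, hμ⟩, b⟩ := x
      obtain ⟨⟨μ', hμ'⟩, b'⟩ := y
      obtain rfl : μ = μ' := partition_eq_of_rep (hg _) (hg _) hc
      refine congrArg (Sigma.mk _) (funext fun ⟨j, hj⟩ => ?_)
      have hje : Even j := (Finset.mem_filter.1 hj).2
      have hjc : 0 < cnt (parts μ) j := by
        rw [cnt_parts, Multiset.count_pos]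
        exact Multiset.mem_toFinset.1 (Finset.mem_filter.1 hj).1
      have h := isSquare_iff_of_isConj (hG ⟨⟨μ, hμ'⟩, b'⟩) (hg ⟨⟨μ, hμ⟩, b⟩) (hg ⟨⟨μ, hμ'⟩, b'⟩) hc j
      rw [hGu ⟨⟨μ, hμ⟩, b⟩ j hje hjc, hGu ⟨⟨μ, hμ'⟩, b'⟩ j hje hjc] at h
      simp only [u, dif_pos hj] at h
      cases hb : b ⟨j, hj⟩ <;> cases hb' : b' ⟨j, hj⟩ <;> simp [hb, hb', hν] at h <;> rfl
    · rintro ⟨_, g0, rfl, hg0⟩
      obtain ⟨hgp, hg1⟩ := (orderOf_eq_iff' g0).1 hg0
      obtain ⟨μ, G0, hG0, hr⟩ := exists_rep g0 ⟨p, hgp⟩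
      have hμ : μ ∈ S.erase o := by
        refine Finset.mem_erase.2 ⟨fun h => ?_, Finset.mem_filter.2
          ⟨Finset.mem_univ _, (pow_sub_one_eq_zero_iff hr p).1 hgp, fun j hj => ?_⟩⟩
        · refine hg1 ?_
          rw [← pow_one ((g0 : Matrix (Fin m ⊕ Fin m) (Fin m ⊕ Fin m) F) - 1), pow_sub_one_eq_zero_iff hr]
          subst h
          exact fun a ha => (Multiset.eq_of_mem_replicate ha).le
        · rw [← cnt_parts]; exact hG0.even_cnt h2 (parts_pos' μ) hj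
      let b : {j // j ∈ μ.parts.toFinset.filter fun j : ℕ => Even j} → Bool := fun j =>
        decide (IsSquare (blockH G0 j.1).det)
      refine ⟨⟨⟨μ, hμ⟩, b⟩, Subtype.ext (ConjClasses.mk_eq_mk_iff_isConj.2
        (isConj_of_rep h2 hF (hG _) hG0 (hg ⟨⟨μ, hμ⟩, b⟩) hr fun j hj => ?_))⟩
      by_cases hc : 0 < cnt (parts μ) j
      · have hj' : j ∈ μ.parts.toFinset.filter fun j : ℕ => Even j := by
          rw [cnt_parts, Multiset.count_pos] at hc
          exact Finset.mem_filter.2 ⟨Multiset.mem_toFinset.2 hc, hj⟩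
        rw [hGu ⟨⟨μ, hμ⟩, b⟩ j hj hc]
        simp only [u, dif_pos hj', b]
        by_cases hs : IsSquare (blockH G0 j).det <;> simp [hs, hν]
      · haveI : IsEmpty (Fin (cnt (parts μ) j)) := ⟨fun x => hc (Fin.pos x)⟩
        simp [Matrix.det_isEmpty]
  rw [← Nat.card_eq_of_bijective f hbij, Nat.card_eq_fintype_card, Fintype.card_sigma]
  simp only [Fintype.card_fun, Fintype.card_bool, Fintype.card_coe]
  rw [Finset.sum_coe_sort (S.erase o) (fun μ => 2 ^ (μ.parts.toFinset.filter fun j : ℕ => Even j).card),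
    ← Finset.add_sum_erase S _ hoS]
  have ho : (o.parts.toFinset.filter fun j : ℕ => Even j).card = 0 := by
    rw [Finset.card_eq_zero, Finset.filter_eq_empty_iff]
    intro a ha
    rw [Multiset.mem_toFinset] at ha
    rw [Multiset.eq_of_mem_replicate ha]
    exact Nat.not_even_one
  rw [ho, pow_zero, Nat.add_sub_cancel_left]

end Cfsg.Agent.S2676
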