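import Cfsg.Statements.S2678
import Cfsg.Agent.Lib.SymplecticBasic
import Cfsg.Agent.Lib.HermitianFactor
import Cfsg.Agent.Lib.GaloisDescentGL

set_option autoImplicit false
open Cfsg

namespace Cfsg.Agent.S2678

open Matrix

section
variable {F K : Type*} [Field F] [Field K] [Algebra F K] [FiniteDimensional F K]

/-- Restriction of scalars of the symplectic group along a degree two extension. -/
lemma restrict_symplectic (h2 : Module.finrank F K = 2) (a : ℕ) :
    ∃ φ : ↥(Matrix.symplecticGroup (Fin a) K) →* ↥(Matrix.symplecticGroup (Fin (2 * a)) F), Function.Injective φ := by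
  classical
  let b : Module.Basis (Fin 2) F K := Module.finBasisOfFinrankEq F K h2
  let lam : K →ₗ[F] F := b.coord 0
  let β : LinearMap.BilinForm F K := (LinearMap.mul F K).compr₂ lam
  have hβ : ∀ x y : K, β x y = lam (x * y) := fun x y => rfl
  have hl : lam (b 0) = 1 := by simp [lam]
  have hsep : ∀ x : K, (∀ y, β x y = 0) → x = 0 := by
    intro x hx
    by_contra hx0
    have := hx (x⁻¹ * b 0)
    rw [hβ, ← mul_assoc, mul_inv_cancel₀ hx0, one_mul, hl] at this
    exact one_ne_zero this
  have hnd : β.Nondegenerate := by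
    refine ⟨hsep, fun y hy => hsep y fun x => ?_⟩
    have := hy x
    rw [hβ] at this ⊢
    rwa [mul_comm]
  let d := β.dualBasis hnd b
  have hd : ∀ x y : K, lam (x * y) = ∑ k : Fin 2, d.repr x k * b.repr y k := by
    intro x y
    conv_lhs => rw [← b.sum_repr y, Finset.mul_sum, map_sum]
    refine Finset.sum_congr rfl fun k _ => ?_
    rw [mul_smul_comm, map_smul, smul_eq_mul, LinearMap.BilinForm.dualBasis_repr_apply, hβ, mul_comm]
  let e : Fin 2 × Fin a ≃ Fin (2 * a) := finProdFinEquiv
  let Φ : (Fin a ⊕ Fin a → K) ≃ₗ[F] (Fin (2 * a) ⊕ Fin (2 * a) → F) :=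
    { toFun := fun u => Sum.elim (fun j => d.repr (u (.inl (e.symm j).2)) (e.symm j).1)
        (fun j => b.repr (u (.inr (e.symm j).2)) (e.symm j).1)
      map_add' := fun u v => by ext (j | j) <;> simp
      map_smul' := fun r u => by ext (j | j) <;> simp
      invFun := fun z => Sum.elim (fun i => ∑ k, z (.inl (e (k, i))) • d k) (fun i => ∑ k, z (.inr (e (k, i))) • b k)
      left_inv := fun u => by
        ext (i | i) <;> simp only [Sum.elim_inl, Sum.elim_inr, Equiv.symm_apply_apply]
        · exact d.sum_repr _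
        · exact b.sum_repr _
      right_inv := fun z => by
        ext (j | j) <;>
        · obtain ⟨⟨k, i⟩, rfl⟩ := e.surjective j
          simp only [Sum.elim_inl, Sum.elim_inr, Equiv.symm_apply_apply]
          rw [Module.Basis.repr_sum_self] }
  have hform : ∀ u v, Cfsg.sympForm (2 * a) F (Φ u) (Φ v) = lam (Cfsg.sympForm a K u v) := by
    intro u v
    simp only [SymplecticBasic.form_eq_sum, map_sum, map_sub]
    rw [← Equiv.sum_comp e, Fintype.sum_prod_type, Finset.sum_comm]
    refine Finset.sum_congr rfl fun i _ => ?_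
    rw [Finset.sum_sub_distrib]
    simp only [Φ, LinearEquiv.coe_mk, LinearMap.coe_mk, AddHom.coe_mk, Sum.elim_inl, Sum.elim_inr,
      Equiv.symm_apply_apply]
    rw [mul_comm (u (Sum.inr i)), hd, hd]
    congr 1
    exact Finset.sum_congr rfl fun k _ => mul_comm _ _
  let R : Matrix (Fin a ⊕ Fin a) (Fin a ⊕ Fin a) K → Matrix (Fin (2 * a) ⊕ Fin (2 * a)) (Fin (2 * a) ⊕ Fin (2 * a)) F :=
    fun A => LinearMap.toMatrix' ((Φ.toLinearMap.comp ((A.mulVecLin).restrictScalars F)).comp Φ.symm.toLinearMap)
  have hR : ∀ A z, R A *ᵥ z = Φ (A *ᵥ Φ.symm z) := by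
    intro A z
    rw [← Matrix.toLin'_apply, Matrix.toLin'_toMatrix']
    rfl
  have hmem : ∀ A ∈ Matrix.symplecticGroup (Fin a) K, R A ∈ Matrix.symplecticGroup (Fin (2 * a)) F := by
    intro A hA
    rw [SymplecticBasic.mem_sp_iff_form] at hA ⊢
    intro u v
    rw [hR, hR, hform, hA, ← hform, LinearEquiv.apply_symm_apply, LinearEquiv.apply_symm_apply]
  refine ⟨{ toFun := fun g => ⟨R g.1, hmem g.1 g.2⟩
            map_one' := ?_
            map_mul' := ?_ }, ?_⟩
  · refine Subtype.ext (Matrix.ext_of_mulVec_single fun j => ?_)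
    show R (1 : Matrix _ _ K) *ᵥ _ = (1 : Matrix _ _ F) *ᵥ _
    rw [hR, Matrix.one_mulVec, LinearEquiv.apply_symm_apply, Matrix.one_mulVec]
  · intro g h
    refine Subtype.ext (Matrix.ext_of_mulVec_single fun j => ?_)
    show R (g.1 * h.1) *ᵥ _ = (R g.1 * R h.1) *ᵥ _
    rw [hR, ← Matrix.mulVec_mulVec, ← Matrix.mulVec_mulVec, hR, hR, LinearEquiv.symm_apply_apply]
  · intro g h e'
    refine Subtype.ext (Matrix.ext_of_mulVec_single fun j => ?_)
    have := congrArg (fun M => M *ᵥ Φ (Pi.single j 1)) (congrArg Subtype.val e')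
    simpa [hR] using this

end


/-- Field-extension embedding of symplectic groups: for a field K with q² elements and a field F with q elements there is an injective homomorphism Sp_2a(K) → Sp_4a(F). -/
theorem result {K F : Type*} [Field K] [Fintype K] [Field F] [Fintype F] {q : ℕ} (hK : Fintype.card K = q ^ 2) (hF : Fintype.card F = q) (a : ℕ) : ∃ φ : ↥(Matrix.symplecticGroup (Fin a) K) →* ↥(Matrix.symplecticGroup (Fin (2 * a)) F), Function.Injective φ := by
  classical
  haveI : DecidableEq F := Classical.decEq F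
  obtain ⟨σ, hσ, hσσ, c, hc⟩ := HermitianFactor.exists_conjugation hK
  let σ' : K ≃+* K := RingEquiv.ofBijective σ
    ⟨σ.injective, fun x => ⟨σ x, hσσ x⟩⟩
  have hord : orderOf σ' = 2 := orderOf_eq_prime
    (RingEquiv.ext fun x => hσσ x)
    (fun e => hc (congrArg (fun τ : K ≃+* K => τ c) e))
  let K₀ : Subfield K := (σ' : K →+* K).eqLocusField (RingHom.id K)
  letI : Fintype K₀ := Fintype.ofFinite K₀
  have h1 := GaloisDescentGL.card_fixed σ'
  rw [hord, Nat.card_eq_fintype_card (α := K), hK] at h1
  have hK₀ : Fintype.card K₀ = q := by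
    rw [← Nat.card_eq_fintype_card]
    exact Nat.pow_left_injective two_ne_zero h1
  let ι : F →+* K := K₀.subtype.comp (FiniteField.ringEquivOfCardEq (hF.trans hK₀.symm)).toRingHom
  letI : Algebra F K := ι.toAlgebra
  haveI : FiniteDimensional F K := Module.Finite.of_finite
  refine restrict_symplectic ?_ a
  have h2 := Module.card_eq_pow_finrank (K := F) (V := K)
  rw [hK, hF] at h2
  have hq : 2 ≤ q := hF ▸ Fintype.one_lt_card
  exact (Nat.pow_right_injective hq h2).symm

end Cfsg.Agent.S2678
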