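import Cfsg.Statements.S2679
import Mathlib

set_option autoImplicit false
open Cfsg

namespace Cfsg.Agent.S2679

open Matrix

variable {F K : Type*} [Field F] [Field K]

/-- A matrix has vanishing quadratic form iff it is alternating. -/
lemma quad_zero_iff {ι : Type} [Fintype ι] [DecidableEq ι] (C : Matrix ι ι F) :
    (∀ v : ι → F, v ⬝ᵥ (C *ᵥ v) = 0) ↔ (∀ i, C i i = 0) ∧ ∀ i j, C i j + C j i = 0 := by
  constructor
  · intro h
    have hd : ∀ i, C i i = 0 := fun i => by simpa [single_dotProduct] using h (Pi.single i 1)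
    refine ⟨hd, fun i j => ?_⟩
    have := h (Pi.single i 1 + Pi.single j 1)
    simp [mulVec_add, add_dotProduct, dotProduct_add, hd] at this
    linear_combination this
  · rintro ⟨hd, hs⟩ v
    letI : LinearOrder ι := LinearOrder.lift' (Fintype.equivFin ι) (Fintype.equivFin ι).injective
    let U : Matrix ι ι F := Matrix.of fun i j => if i < j then C i j else 0
    have hC : C = U - Uᵀ := by
      ext i j
      simp only [U, Matrix.sub_apply, Matrix.of_apply, Matrix.transpose_apply]
      rcases lt_trichotomy i j with h | h | h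
      · simp [h, h.not_gt]
      · subst h; simp [hd]
      · simp [h, h.not_gt]
        linear_combination hs i j
    rw [hC, Matrix.sub_mulVec, dotProduct_sub, sub_eq_zero]
    conv_rhs => rw [mulVec_transpose, dotProduct_comm, ← dotProduct_mulVec]

/-- The matrix of `quadFormMinus`. -/
def qMat (m : ℕ) (F : Type*) [Field F] (a c : F) : Matrix ((Fin m ⊕ Fin m) ⊕ Fin 2) ((Fin m ⊕ Fin m) ⊕ Fin 2) F :=
  Matrix.fromBlocks (Matrix.fromBlocks 0 1 0 0) 0 0 !![1, a; 0, c]

lemma qMat_form (m : ℕ) (F : Type*) [Field F] (a c : F) (v : (Fin m ⊕ Fin m) ⊕ Fin 2 → F) :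
    v ⬝ᵥ (qMat m F a c *ᵥ v) = Cfsg.quadFormMinus m F a c v := by
  simp [qMat, Matrix.fromBlocks_mulVec, dotProduct, Fintype.sum_sum_type, Fin.sum_univ_two, Cfsg.quadFormMinus,
    Matrix.mulVec, Matrix.one_apply]
  ring

lemma qMat_map (m : ℕ) (ι : F →+* K) (a c : F) : (qMat m F a c).map ι = qMat m K (ι a) (ι c) := by
  ext (i | i) (j | j)
  · rcases i with i | i <;> rcases j with j | j <;> simp [qMat, Matrix.one_apply, apply_ite ι]
  · simp [qMat]
  · simp [qMat]
  · fin_cases i <;> fin_cases j <;> simp [qMat]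

lemma quad_comp {ι : Type} [Fintype ι] [DecidableEq ι] (A g : Matrix ι ι F) (v : ι → F) :
    v ⬝ᵥ ((gᵀ * A * g - A) *ᵥ v) = (g *ᵥ v) ⬝ᵥ (A *ᵥ (g *ᵥ v)) - v ⬝ᵥ (A *ᵥ v) := by
  rw [Matrix.sub_mulVec, dotProduct_sub, ← Matrix.mulVec_mulVec, ← Matrix.mulVec_mulVec, dotProduct_mulVec v,
    vecMul_transpose]

/-- Base change of an isometry. -/
lemma isometry_map (m : ℕ) (ι : F →+* K) (a c : F) (g : GL ((Fin m ⊕ Fin m) ⊕ Fin 2) F)
    (hg : g ∈ Cfsg.isometryGroup F (Cfsg.quadFormMinus m F a c)) (v : (Fin m ⊕ Fin m) ⊕ Fin 2 → K) :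
    Cfsg.quadFormMinus m K (ι a) (ι c) ((g : Matrix ((Fin m ⊕ Fin m) ⊕ Fin 2) ((Fin m ⊕ Fin m) ⊕ Fin 2) F).map ι *ᵥ v) =
      Cfsg.quadFormMinus m K (ι a) (ι c) v := by
  set G := (g : Matrix ((Fin m ⊕ Fin m) ⊕ Fin 2) ((Fin m ⊕ Fin m) ⊕ Fin 2) F)
  have h0 : ∀ v, v ⬝ᵥ ((Gᵀ * qMat m F a c * G - qMat m F a c) *ᵥ v) = 0 := by
    intro v
    rw [quad_comp, qMat_form, qMat_form, sub_eq_zero]
    exact hg v v
  obtain ⟨h1, h2⟩ := (quad_zero_iff _).1 h0
  have hmap : (G.map ι)ᵀ * qMat m K (ι a) (ι c) * G.map ι - qMat m K (ι a) (ι c) =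
      (Gᵀ * qMat m F a c * G - qMat m F a c).map ι := by
    rw [Matrix.map_sub _ (map_sub ι), Matrix.map_mul, Matrix.map_mul, qMat_map, Matrix.transpose_map]
  have h3 := (quad_zero_iff ((G.map ι)ᵀ * qMat m K (ι a) (ι c) * G.map ι - qMat m K (ι a) (ι c))).2
    ⟨fun i => by rw [hmap, Matrix.map_apply, h1, map_zero],
     fun i j => by rw [hmap, Matrix.map_apply, Matrix.map_apply, ← map_add, h2, map_zero]⟩ v
  rw [quad_comp, qMat_form, qMat_form, sub_eq_zero] at h3
  exact h3

lemma embed (k : ℕ) (ι : F →+* K) (a c : F) (r s : K) (hrs : r ≠ s) (hsum : r + s = -(ι a)) (hprod : r * s = ι c) :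
    ∃ φ : ↥(Cfsg.isometryGroup F (Cfsg.quadFormMinus k F a c)) →*
      ↥(Cfsg.isometryGroup K (Cfsg.quadFormPlus (k + 1) K)), Function.Injective φ := by
  classical
  have hd : r - s ≠ 0 := sub_ne_zero.2 hrs
  let T : ((Fin k ⊕ Fin k) ⊕ Fin 2 → K) ≃ₗ[K] (Fin (k + 1) ⊕ Fin (k + 1) → K) :=
    { toFun := fun v => Sum.elim (Fin.snoc (fun i => v (.inl (.inl i))) (v (.inr 0) - r * v (.inr 1)))
        (Fin.snoc (fun i => v (.inl (.inr i))) (v (.inr 0) - s * v (.inr 1)))
      map_add' := fun u v => by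
        ext (i | i) <;> refine Fin.lastCases ?_ (fun j => ?_) i <;> simp <;> ring
      map_smul' := fun t u => by
        ext (i | i) <;> refine Fin.lastCases ?_ (fun j => ?_) i <;> simp <;> ring
      invFun := fun z => Sum.elim (Sum.elim (fun i => z (.inl i.castSucc)) (fun i => z (.inr i.castSucc)))
        ![(r * z (.inr (Fin.last k)) - s * z (.inl (Fin.last k))) / (r - s),
          (z (.inr (Fin.last k)) - z (.inl (Fin.last k))) / (r - s)]
      left_inv := fun v => by
        ext ((i | i) | i)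
        · simp
        · simp
        · fin_cases i <;> simp <;> field_simp <;> ring
      right_inv := fun z => by
        ext (i | i) <;> refine Fin.lastCases ?_ (fun j => ?_) i <;> simp <;> field_simp <;> ring }
  have hT : ∀ v, Cfsg.quadFormPlus (k + 1) K (T v) = Cfsg.quadFormMinus k K (ι a) (ι c) v := by
    intro v
    simp only [Cfsg.quadFormPlus, Cfsg.quadFormMinus, Fin.sum_univ_castSucc, T, LinearEquiv.coe_mk,
      LinearMap.coe_mk, AddHom.coe_mk, Sum.elim_inl, Sum.elim_inr, Fin.snoc_castSucc, Fin.snoc_last]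
    linear_combination (-(v (.inr 0)) * v (.inr 1)) * hsum + (v (.inr 1)) ^ 2 * hprod
  let R : GL ((Fin k ⊕ Fin k) ⊕ Fin 2) F →* Matrix (Fin (k + 1) ⊕ Fin (k + 1)) (Fin (k + 1) ⊕ Fin (k + 1)) K :=
    { toFun := fun g => LinearMap.toMatrix' ((T.toLinearMap.comp
        ((g : Matrix ((Fin k ⊕ Fin k) ⊕ Fin 2) ((Fin k ⊕ Fin k) ⊕ Fin 2) F).map ι).mulVecLin).comp T.symm.toLinearMap)
      map_one' := by
        refine Matrix.ext_of_mulVec_single fun j => ?_
        rw [Matrix.one_mulVec, ← Matrix.toLin'_apply, Matrix.toLin'_toMatrix']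
        simp [Matrix.map_one, -Matrix.mulVec_single]
      map_mul' := fun g h => by
        refine Matrix.ext_of_mulVec_single fun j => ?_
        rw [← Matrix.mulVec_mulVec]
        simp only [← Matrix.toLin'_apply, Matrix.toLin'_toMatrix']
        simp [Matrix.map_mul, Matrix.mulVec_mulVec] }
  have hR : ∀ g z, R g *ᵥ z = T ((g : Matrix ((Fin k ⊕ Fin k) ⊕ Fin 2) ((Fin k ⊕ Fin k) ⊕ Fin 2) F).map ι *ᵥ T.symm z) := by
    intro g z
    show LinearMap.toMatrix' _ *ᵥ z = _
    rw [← Matrix.toLin'_apply, Matrix.toLin'_toMatrix']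
    rfl
  have hmem : ∀ g ∈ Cfsg.isometryGroup F (Cfsg.quadFormMinus k F a c),
      R.toHomUnits g ∈ Cfsg.isometryGroup K (Cfsg.quadFormPlus (k + 1) K) := by
    intro g hg u _
    show Cfsg.quadFormPlus (k + 1) K (R g *ᵥ u) = Cfsg.quadFormPlus (k + 1) K u
    rw [hR, hT, isometry_map k ι a c g hg, ← hT, LinearEquiv.apply_symm_apply]
  refine ⟨{ toFun := fun g => ⟨R.toHomUnits g.1, hmem g.1 g.2⟩
            map_one' := Subtype.ext (map_one R.toHomUnits)
            map_mul' := fun g h => Subtype.ext (map_mul R.toHomUnits g.1 h.1) }, ?_⟩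
  intro g h e
  refine Subtype.ext (Units.ext (Matrix.map_injective ι.injective ?_))
  refine Matrix.ext_of_mulVec_single fun j => ?_
  have e' : R g.1 = R h.1 := congrArg Units.val (congrArg Subtype.val e)
  have := congrArg (fun M => M *ᵥ T (Pi.single j 1)) e'
  simpa [hR] using this


/-- An elliptic orthogonal group embeds in the hyperbolic orthogonal group of the same dimension over the quadratic extension: for a field F with q elements and a field K with q² elements there is an injective homomorphism from O⁻_2m(F) (isometries of Σ_(j<m−1) x_j y_j + z₁² + a z₁z₂ + c z₂², binary part anisotropic) to O⁺_2m(K) (isometries of Σ_(j<m) x_j y_j over K). -/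
theorem result {F K : Type*} [Field F] [Fintype F] [Field K] [Fintype K] {q : ℕ} (hF : Fintype.card F = q) (hK : Fintype.card K = q ^ 2) {m : ℕ} (hm : 1 ≤ m) (a c : F) (hac : ∀ z₁ z₂ : F, z₁ ^ 2 + a * z₁ * z₂ + c * z₂ ^ 2 = 0 → z₁ = 0 ∧ z₂ = 0) : ∃ φ : ↥(Cfsg.isometryGroup F (Cfsg.quadFormMinus (m - 1) F a c)) →* ↥(Cfsg.isometryGroup K (Cfsg.quadFormPlus m K)), Function.Injective φ := by
  classical
  obtain ⟨k, rfl⟩ : ∃ k, m = k + 1 := ⟨m - 1, by omega⟩

  let P : Polynomial F := Polynomial.X ^ 2 + Polynomial.C a * Polynomial.X + Polynomial.C c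
  have hPdeg : P.natDegree = 2 := by simp only [P]; compute_degree!
  have hPm : P.Monic := by simp only [P]; monicity!
  have hroot : ∀ z : F, ¬ P.IsRoot z := by
    intro z hz
    have h := hac (-z) (-1) (by simp [P] at hz; linear_combination hz)
    exact one_ne_zero (neg_eq_zero.1 h.2)
  haveI : Fact (Irreducible P) := ⟨Polynomial.irreducible_of_degree_le_three_of_not_isRoot
    (Finset.mem_Icc.2 ⟨by omega, by omega⟩) hroot⟩
  let L := AdjoinRoot P
  let pb := AdjoinRoot.powerBasis (hPm.ne_zero)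
  haveI : Module.Finite F L := Module.Finite.of_basis pb.basis
  haveI : Finite L := Module.finite_of_finite F
  letI : Fintype L := Fintype.ofFinite L
  have hL : Fintype.card L = Fintype.card K := by
    rw [hK, Module.card_fintype pb.basis, hF, Fintype.card_fin, AdjoinRoot.powerBasis_dim, hPdeg]
  let E : L ≃+* K := FiniteField.ringEquivOfCardEq hL
  let ι : F →+* K := E.toRingHom.comp (AdjoinRoot.of P)
  let r : K := E (AdjoinRoot.root P)
  have hr : r ^ 2 + ι a * r + ι c = 0 := by
    have h := congrArg E (AdjoinRoot.eval₂_root P)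
    simp [P, Polynomial.eval₂_add, Polynomial.eval₂_mul] at h
    simpa [ι, r] using h
  have hne : r ≠ -(ι a) - r := by
    intro e
    by_cases h2 : (2 : F) = 0
    · have ha : a = 0 := by
        apply ι.injective
        rw [map_zero]
        have h2' : (2 : K) = 0 := by rw [← map_ofNat ι, h2, map_zero]
        linear_combination e - r * h2'
      haveI : CharP F 2 := CharTwo.of_one_ne_zero_of_two_eq_zero one_ne_zero h2
      obtain ⟨z, hz⟩ := FiniteField.isSquare_of_char_two (ringChar.eq F 2) c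
      have h := hac z 1 (by rw [ha, hz]; linear_combination (z * z) * h2)
      exact one_ne_zero h.2
    · have h2' : (2 : K) ≠ 0 := by
        intro e0
        apply h2
        apply ι.injective
        rw [map_zero, map_ofNat, e0]
      have hrr : r = ι (-a / 2) := by
        rw [map_div₀, map_neg, map_ofNat, eq_div_iff h2']
        linear_combination e
      apply hroot (-a / 2)
      show Polynomial.eval _ P = 0
      apply ι.injective
      rw [hrr] at hr
      simpa [P, map_add, map_mul, map_pow, map_zero] using hr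
  exact embed k ι a c r (-(ι a) - r) hne (by ring) (by linear_combination -hr)

end Cfsg.Agent.S2679
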