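import Cfsg.Statements.S2682
import Cfsg.Agent.Lib.CharTwoInvolSp

set_option autoImplicit false
open Cfsg

namespace Cfsg.Agent.S2682

/-- Centraliser order of an involution t of Sp_2m(q), q even, with s = rank(t − 1) even and f(v, tv) ≠ 0 for some v, f the symplectic form (type c_s): |C(t)| = q^(2ms − (3s² − 3s)/2 − 1) · |Sp_(s−2)(q)| · |Sp_(2m−2s)(q)|. -/
theorem result {F : Type*} [Field F] [Fintype F] [CharP F 2] {q : ℕ} (hF : Fintype.card F = q) {m s : ℕ} (t : Matrix.symplecticGroup (Fin m) F) (ht : t ^ 2 = 1) (hs : ((t : Matrix (Fin m ⊕ Fin m) (Fin m ⊕ Fin m) F) - 1).rank = s) (heven : Even s) (hna : ∃ v : Fin m ⊕ Fin m → F, Cfsg.sympForm m F v ((t : Matrix (Fin m ⊕ Fin m) (Fin m ⊕ Fin m) F).mulVec v) ≠ 0) : Nat.card ↥(Subgroup.centralizer ({t} : Set ↥(Matrix.symplecticGroup (Fin m) F))) = q ^ (2 * m * s - (3 * s ^ 2 - 3 * s) / 2 - 1) * ((q : ℕ) ^ (((s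 - 2) / 2) ^ 2) * ∏ i : Fin ((s - 2) / 2), (q ^ (2 * ((i : ℕ) + 1)) - 1)) * ((q : ℕ) ^ ((m - s) ^ 2) * ∏ i : Fin (m - s), (q ^ (2 * ((i : ℕ) + 1)) - 1)) := by
  obtain ⟨hle, c, hcard, -, h2⟩ := CharTwoInvolSp.card_centralizer_sp hF t ht hs
  obtain ⟨k, ⟨hk, -⟩ | ⟨hk, hc⟩⟩ := h2 hna
  · rw [hk, Nat.even_iff] at heven
    omega
  · rw [hcard, hc, show (s - 2) / 2 = k by omega]
    unfold CharTwoInvolCentralizer.spOrder
    subst hk
    obtain ⟨d, rfl⟩ : ∃ d, m = 2 * k + 2 + d := ⟨m - (2 * k + 2), by omega⟩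
    have e1 : 3 * (2 * k + 2) ^ 2 - (2 * k + 2) = 2 * (6 * k ^ 2 + 11 * k + 5) := by
      have : 3 * (2 * k + 2) ^ 2 = 2 * (6 * k ^ 2 + 11 * k + 5) + (2 * k + 2) := by ring
      omega
    have e2 : 3 * (2 * k + 2) ^ 2 - 3 * (2 * k + 2) = 2 * (6 * k ^ 2 + 9 * k + 3) := by
      have : 3 * (2 * k + 2) ^ 2 = 2 * (6 * k ^ 2 + 9 * k + 3) + 3 * (2 * k + 2) := by ring
      omega
    have e3 : 2 * (2 * k + 2 + d) * (2 * k + 2) =
        (8 * k ^ 2 + 16 * k + 8) + 4 * (d * k) + 4 * d := by ring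
    have e4 : 2 * (2 * k + 2 + d) * (2 * k + 2) - (3 * (2 * k + 2) ^ 2 - 3 * (2 * k + 2)) / 2 - 1 =
        (2 * (2 * k + 2 + d) * (2 * k + 2) - (3 * (2 * k + 2) ^ 2 - (2 * k + 2)) / 2) + (2 * k + 1) := by
      omega
    rw [e4, pow_add]
    ring

end Cfsg.Agent.S2682
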