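import Cfsg.Statements.S2683
import Cfsg.Agent.Lib.CharTwoInvolBridge

set_option autoImplicit false
open Cfsg

namespace Cfsg.Agent.S2683

/-- For the hyperbolic form Σ x_j y_j on F^(2m) over a finite field with q elements, q even (excluding m = 2 over the field of two elements), and an involution x of the orthogonal group with s = rank(x − 1) odd (type b_s; such x lie outside Ω): the elements of Ω (the commutator subgroup of the orthogonal group) commuting with x number q^(2m(s−1) − (3s² − 3s)/2) · |Sp_(s−1)(q)| · |Sp_(2m−2s)(q)|, where |Sp_2k(q)| = q^(k²) Π_(i=1)^k (q^(2i) − 1). -/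
theorem result {F : Type*} [Field F] [Fintype F] [CharP F 2] {q : ℕ} (hF : Fintype.card F = q) {m s : ℕ} (h : Fintype.card F ≠ 2 ∨ m ≠ 2) (x : ↥(Cfsg.isometryGroup F (Cfsg.quadFormPlus m F))) (hx : x ^ 2 = 1) (hs : (((x : Matrix.GeneralLinearGroup (Fin m ⊕ Fin m) F) : Matrix (Fin m ⊕ Fin m) (Fin m ⊕ Fin m) F) - 1).rank = s) (hodd : Odd s) : Nat.card {g : ↥(Cfsg.Omega F (Cfsg.quadFormPlus m F)) // (g : ↥(Cfsg.isometryGroup F (Cfsg.quadFormPlus m F))) * x = x * (g : ↥(Cfsg.isometryGroup F (Cfsg.quadFormPlus m F)))} = q ^ (2 * m * (s - 1) - (3 * s ^ 2 - 3 * s) / 2) * ((q : ℕ) ^ (((s - 1) / 2) ^ 2) * ∏ i : Fin ((s - 1) / 2), (q ^ (2 * ((i : ℕ) + 1)) - 1)) * ((q : ℕ) ^ ((m - s) ^ 2) * ∏ i : Fin (m - s), (q ^ (2 * ((i : ℕ) + 1)) - 1)) := by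
  obtain ⟨hle, n, c, hn, h1, h2⟩ := CharTwoInvolBridge.card_omega_plus hF h x hx hs
  rw [Nat.odd_iff] at hodd
  have hna : ∃ v, Cfsg.quadFormPlus m F ((((x : Matrix.GeneralLinearGroup (Fin m ⊕ Fin m) F) : Matrix (Fin m ⊕ Fin m) (Fin m ⊕ Fin m) F) - 1).mulVec v) ≠ 0 := by
    by_contra! h'
    obtain ⟨k, hk, -⟩ := h1 h'
    omega
  obtain ⟨k, hk, hN⟩ := h2 hna
  obtain ⟨hk, hc⟩ | ⟨hk, -⟩ := hk
  swap
  · omega
  have hq : 0 < q := hF ▸ Fintype.card_pos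
  rw [← hn]
  refine Nat.eq_of_mul_eq_mul_right (pow_pos hq (2 * m - s)) (hN.trans ?_)
  subst hk hc
  rw [show (2 * k + 1 - 1) / 2 = k by omega]
  unfold CharTwoInvolCentralizer.spOrder
  obtain ⟨d, rfl⟩ : ∃ d, m = 2 * k + 1 + d := ⟨m - (2 * k + 1), by omega⟩
  have e1 : 3 * (2 * k + 1) ^ 2 - (2 * k + 1) = 2 * (6 * k ^ 2 + 5 * k + 1) := by
    have : 3 * (2 * k + 1) ^ 2 = 2 * (6 * k ^ 2 + 5 * k + 1) + (2 * k + 1) := by ring
    omega
  have e2 : 3 * (2 * k + 1) ^ 2 - 3 * (2 * k + 1) = 2 * (6 * k ^ 2 + 3 * k) := by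
    have : 3 * (2 * k + 1) ^ 2 = 2 * (6 * k ^ 2 + 3 * k) + 3 * (2 * k + 1) := by ring
    omega
  have e3 : 2 * (2 * k + 1 + d) * (2 * k + 1) = 8 * k ^ 2 + 8 * k + 2 + 4 * (d * k) + 2 * d := by
    ring
  have e3' : 2 * (2 * k + 1 + d) * (2 * k + 1 - 1) = 8 * k ^ 2 + 4 * k + 4 * (d * k) := by
    rw [Nat.add_sub_cancel]; ring
  have e4 : 2 * (2 * k + 1 + d) * (2 * k + 1) - (3 * (2 * k + 1) ^ 2 - (2 * k + 1)) / 2 =
      (2 * (2 * k + 1 + d) * (2 * k + 1 - 1) - (3 * (2 * k + 1) ^ 2 - 3 * (2 * k + 1)) / 2) +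
        (2 * (2 * k + 1 + d) - (2 * k + 1)) := by
    omega
  rw [e4, pow_add]
  ring

end Cfsg.Agent.S2683
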