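import Cfsg.Statements.S2684
import Cfsg.Agent.Lib.CharTwoInvolBridge

set_option autoImplicit false
open Cfsg

namespace Cfsg.Agent.S2684

/-- For the hyperbolic form Q = Σ x_j y_j on F^(2m) over a finite field with q elements, q even (excluding m = 2 over the field of two elements), and an involution x ≠ 1 of the orthogonal group with s = rank(x − 1) even and Q vanishing on the image of x − 1 (equivalently f(v, xv) = 0 for all v, where f(u, w) = Q(u + w) − Q(u) − Q(w) is the bilinear form of Q; type a_s, which lies in Ω): its centraliser in Ω (the commutator subgroup of the orthogonal group) has order q^(2ms − (3s² + s)/2) · |Sp_s(q)| · |Ω⁺_(2m−2s)(q)|, where |Ω⁺_2k(q)| = q^(k(k−1)) (q^k − 1) Π_(i=1)^(k−1) (q^(2i) − 1) for k ≥ 1 and the last factor is 1 when s = m. -/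
theorem result {F : Type*} [Field F] [Fintype F] [CharP F 2] {q : ℕ} (hF : Fintype.card F = q) {m s : ℕ} (h : Fintype.card F ≠ 2 ∨ m ≠ 2) (x : ↥(Cfsg.isometryGroup F (Cfsg.quadFormPlus m F))) (hx : x ^ 2 = 1) (hx1 : x ≠ 1) (hs : (((x : Matrix.GeneralLinearGroup (Fin m ⊕ Fin m) F) : Matrix (Fin m ⊕ Fin m) (Fin m ⊕ Fin m) F) - 1).rank = s) (heven : Even s) (halt : ∀ v : Fin m ⊕ Fin m → F, Cfsg.quadFormPlus m F ((((x : Matrix.GeneralLinearGroup (Fin m ⊕ Fin m) F) : Matrix (Fin m ⊕ Fin m) (Fin m ⊕ Fin m) F) - 1).mulVec v) = 0) : Nat.card {g : ↥(Cfsg.Omega F (Cfsg.quadFormPlus m F)) // (g : ↥(Cfsg.isometryGroup F (Cfsg.quadFormPlus m F))) * x = x * (g : ↥(Cfsg.isometryGroup F (Cfsg.quadFormPlus m F)))} = q ^ (2 * m * s - (3 * s ^ 2 + s) / 2) * ((q : ℕ) ^ ((s / 2) ^ 2) * ∏ i : Fin (s / 2), (q ^ (2 * ((i : ℕ) + 1)) - 1)) * (if s = m then 1 else q ^ ((m - s) * (m - s - 1)) * (q ^ (m - s) - 1) * ∏ i : Fin (m - s - 1),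 (q ^ (2 * ((i : ℕ) + 1)) - 1)) := by
  obtain ⟨hle, n, c, hn, h1, -⟩ := CharTwoInvolBridge.card_omega_plus hF h x hx hs
  obtain ⟨k, hk, hc, hN⟩ := h1 halt
  have hq : 0 < q := hF ▸ Fintype.card_pos
  rw [← hn]
  subst hk hc
  rw [show (2 * k) / 2 = k by omega]
  unfold CharTwoInvolCentralizer.spOrder at hN
  obtain ⟨d, rfl⟩ : ∃ d, m = 2 * k + d := ⟨m - 2 * k, by omega⟩
  have e1 : 3 * (2 * k) ^ 2 - 2 * k = 2 * (6 * k ^ 2 - k) := by
    have : 3 * (2 * k) ^ 2 = 2 * (6 * k ^ 2) := by ring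
    omega
  have e2 : 3 * (2 * k) ^ 2 + 2 * k = 2 * (6 * k ^ 2 + k) := by ring
  have e3 : 2 * (2 * k + d) * (2 * k) = 8 * k ^ 2 + 4 * (d * k) := by ring
  have hkk : k ≤ k ^ 2 := Nat.le_self_pow two_ne_zero k
  have e4 : 2 * (2 * k + d) * (2 * k) - (3 * (2 * k) ^ 2 - 2 * k) / 2 =
      (2 * (2 * k + d) * (2 * k) - (3 * (2 * k) ^ 2 + 2 * k) / 2) + 2 * k := by
    omega
  rw [Nat.add_sub_cancel_left] at hN ⊢
  rw [e4] at hN
  rcases d with _ | j
  · rw [if_pos (by omega)] at hN ⊢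
    refine Nat.eq_of_mul_eq_mul_right (pow_pos hq (2 * k + 0)) (hN.trans ?_)
    simp only [Finset.univ_eq_empty, Finset.prod_empty, zero_pow two_ne_zero, pow_zero, add_zero,
      mul_one, pow_add]
    ring
  · rw [if_neg (by omega)] at hN ⊢
    have hd2 : 2 * (2 * k + (j + 1)) - 2 * k = (2 * k + (j + 1)) + (j + 1) := by omega
    rw [hd2] at hN
    have hne : 0 < q ^ (2 * k + (j + 1) + (j + 1)) + q ^ (2 * k + (j + 1)) := by positivity
    refine Nat.eq_of_mul_eq_mul_right hne (hN.trans ?_)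
    rw [show j + 1 - 1 = j from rfl]
    rw [Fin.prod_univ_castSucc]
    simp only [Fin.val_castSucc, Fin.val_last, Nat.add_sub_cancel]
    have hsq : q ^ (2 * (j + 1)) - 1 = (q ^ (j + 1) - 1) * (q ^ (j + 1) + 1) := by
      have hsq' := Nat.sq_sub_sq (q ^ (j + 1)) 1
      rw [one_pow, ← pow_mul, mul_comm (j + 1) 2] at hsq'
      rw [hsq', mul_comm]
    rw [hsq, show (j + 1) ^ 2 = (j + 1) * j + (j + 1) by ring]
    simp only [pow_add]
    ring

end Cfsg.Agent.S2684
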