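import Cfsg.Statements.S2685
import Cfsg.Agent.Lib.CharTwoInvolBridge

set_option autoImplicit false
open Cfsg

namespace Cfsg.Agent.S2685

/-- For the hyperbolic form Q = Σ x_j y_j on F^(2m) over a finite field with q elements, q even (excluding m = 2 over the field of two elements), and an involution x of the orthogonal group with s = rank(x − 1) even and Q not vanishing on the image of x − 1 (f(v, xv) ≠ 0 for some v, where f(u, w) = Q(u + w) − Q(u) − Q(w) is the bilinear form of Q; type c_s, which lies in Ω): its centraliser in Ω (the commutator subgroup of the orthogonal group) has order q^(2m(s−1) − (3s² − 5s)/2 − 1) · |Sp_(s−2)(q)| · |Sp_(2m−2s)(q)|. -/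
theorem result {F : Type*} [Field F] [Fintype F] [CharP F 2] {q : ℕ} (hF : Fintype.card F = q) {m s : ℕ} (h : Fintype.card F ≠ 2 ∨ m ≠ 2) (x : ↥(Cfsg.isometryGroup F (Cfsg.quadFormPlus m F))) (hx : x ^ 2 = 1) (hs : (((x : Matrix.GeneralLinearGroup (Fin m ⊕ Fin m) F) : Matrix (Fin m ⊕ Fin m) (Fin m ⊕ Fin m) F) - 1).rank = s) (heven : Even s) (hna : ∃ v : Fin m ⊕ Fin m → F, Cfsg.quadFormPlus m F ((((x : Matrix.GeneralLinearGroup (Fin m ⊕ Fin m) F) : Matrix (Fin m ⊕ Fin m) (Fin m ⊕ Fin m) F) - 1).mulVec v) ≠ 0) : Nat.card {g : ↥(Cfsg.Omega F (Cfsg.quadFormPlus m F)) // (g : ↥(Cfsg.isometryGroup F (Cfsg.quadFormPlus m F))) * x = x * (g : ↥(Cfsg.isometryGroup F (Cfsg.quadFormPlus m F)))} = q ^ (2 * m * (s - 1) - (3 * s ^ 2 - 5 * s) / 2 - 1) * ((q : ℕ) ^ (((s - 2) / 2) ^ 2) * ∏ i : Fin ((s - 2) / 2), (q ^ (2 * ((i : ℕ) + 1)) - 1)) * ((q : ℕ) ^ ((m - s) ^ 2) * ∏ i : Fin (m - s), (q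 ^ (2 * ((i : ℕ) + 1)) - 1)) := by
  obtain ⟨hle, n, c, hn, h1, h2⟩ := CharTwoInvolBridge.card_omega_plus hF h x hx hs
  rw [Nat.even_iff] at heven
  obtain ⟨k, hk, hN⟩ := h2 hna
  obtain ⟨hk, -⟩ | ⟨hk, hc⟩ := hk
  · omega
  have hq : 0 < q := hF ▸ Fintype.card_pos
  rw [← hn]
  refine Nat.eq_of_mul_eq_mul_right (pow_pos hq (2 * m - s)) (hN.trans ?_)
  subst hk hc
  rw [show (2 * k + 2 - 2) / 2 = k by omega]
  unfold CharTwoInvolCentralizer.spOrder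
  obtain ⟨d, rfl⟩ : ∃ d, m = 2 * k + 2 + d := ⟨m - (2 * k + 2), by omega⟩
  have e1 : 3 * (2 * k + 2) ^ 2 - (2 * k + 2) = 2 * (6 * k ^ 2 + 11 * k + 5) := by
    have : 3 * (2 * k + 2) ^ 2 = 2 * (6 * k ^ 2 + 11 * k + 5) + (2 * k + 2) := by ring
    omega
  have e2 : 3 * (2 * k + 2) ^ 2 - 5 * (2 * k + 2) = 2 * (6 * k ^ 2 + 7 * k + 1) := by
    have : 3 * (2 * k + 2) ^ 2 = 2 * (6 * k ^ 2 + 7 * k + 1) + 5 * (2 * k + 2) := by ring
    omega
  have e3 : 2 * (2 * k + 2 + d) * (2 * k + 2) = 8 * k ^ 2 + 16 * k + 8 + 4 * (d * k) + 4 * d := by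
    ring
  have e3' : 2 * (2 * k + 2 + d) * (2 * k + 2 - 1) =
      8 * k ^ 2 + 12 * k + 4 + 4 * (d * k) + 2 * d := by
    rw [show 2 * k + 2 - 1 = 2 * k + 1 by omega]; ring
  have e4 : (2 * (2 * k + 2 + d) * (2 * k + 2) - (3 * (2 * k + 2) ^ 2 - (2 * k + 2)) / 2) + (2 * k + 1) =
      (2 * (2 * k + 2 + d) * (2 * k + 2 - 1) - (3 * (2 * k + 2) ^ 2 - 5 * (2 * k + 2)) / 2 - 1) +
        (2 * (2 * k + 2 + d) - (2 * k + 2)) := by
    omega
  have e5 : ∀ a b c : ℕ, q ^ a * (q ^ (2 * k + 1) * b) * c = q ^ (a + (2 * k + 1)) * b * c := by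
    intro a b c; rw [pow_add]; ring
  rw [e5, e4, pow_add]
  ring

end Cfsg.Agent.S2685
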