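import Cfsg.Statements.S2686
import Cfsg.Agent.Lib.AutPSLBalance
import Cfsg.Agent.Lib.AutPSLGraphBalance
import Cfsg.Agent.Lib.AutPSLField
-- import your own Cfsg.Agent.* helpers here

set_option autoImplicit false
open Cfsg

namespace Cfsg.Agent.S2686


/-- A criterion for the failure of local balance in almost simple groups with linear socle. Let F be a finite field of characteristic r and K = PSL_n(F) (n ≥ 2) simple. Let A be a group of automorphisms of K containing all inner automorphisms (an almost simple group with socle K), and β ∈ A an automorphism of prime order p ≠ r that is not inner-diagonal (not induced by conjugation by an invertible matrix). Then the largest normal subgroup of C_A(β) of order prime to p is nontrivial if and only if β is the composite of an inner-diagonal automorphism with the automorphism induced by a field automorphism applied entrywise (β is of field type) and p does not divide the number of fixed points of β on K. -/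
theorem result
    (F : Type*) [Field F] [Fintype F] (r : ℕ) [Fact r.Prime] [CharP F r] (n : ℕ) (hn : 2 ≤ n)
    (hK : IsSimpleGroup (Matrix.ProjectiveSpecialLinearGroup (Fin n) F))
    (𝒢 : Subgroup (MulAut (Matrix.ProjectiveSpecialLinearGroup (Fin n) F))) (hinn : ∀ k : Matrix.ProjectiveSpecialLinearGroup (Fin n) F, MulAut.conj k ∈ 𝒢)
    (p : ℕ) [Fact p.Prime] (hpr : p ≠ r) (β : MulAut (Matrix.ProjectiveSpecialLinearGroup (Fin n) F)) (hβ : β ∈ 𝒢) (hord : orderOf β = p)
    (hnot : ¬ Cfsg.IsInnerDiagonalAutPSL β) :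
    Cfsg.pPrimeCore p ↥(𝒢 ⊓ Subgroup.centralizer {β}) ≠ ⊥ ↔
      ((∃ γ φ : MulAut (Matrix.ProjectiveSpecialLinearGroup (Fin n) F), Cfsg.IsInnerDiagonalAutPSL γ ∧ Cfsg.IsFieldAutPSL φ ∧ β = φ.trans γ) ∧
        Nat.Coprime p (Nat.card ↥(MonoidHom.eqLocus β.toMonoidHom (MonoidHom.id (Matrix.ProjectiveSpecialLinearGroup (Fin n) F))))) := by
  classical
  have hp := (Fact.out : p.Prime)
  have hr := (Fact.out : r.Prime)
  obtain ⟨g, σ, h | ⟨h3, h⟩⟩ := AutPSLMain.aut_decomp hn β
  · subst h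
    have hσ : σ ≠ 1 := fun e => hnot ((AutPSLApi.isInnerDiagonal_iff _).2 ⟨g, by rw [e, map_one, mul_one]⟩)
    have hpow : (AutPSLBasic.cj g * AutPSLBasic.fd σ : MulAut (AutPSLBasic.P n F)) ^ p = 1 := hord ▸ pow_orderOf_eq_one _
    have hσp : σ ^ p = 1 := by
      have e := hpow
      rw [AutPSLField.pow_cj_fd] at e
      exact (AutPSLApi.cj_fd_eq_one hn e).2
    have hoσ : orderOf σ = p := orderOf_eq_prime hσp hσ
    obtain ⟨b, hb⟩ := AutPSLField.field_coset hn σ g (by rw [hoσ]; exact hpow)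
    let F₀ : Subfield F := (σ : F →+* F).eqLocusField (RingHom.id F)
    have hι : ∀ x, σ x = x ↔ x ∈ Set.range (F₀.subtype : F₀ → F) :=
      fun x => ⟨fun hx => ⟨⟨x, hx⟩, rfl⟩, fun ⟨y, hy⟩ => hy ▸ y.2⟩
    haveI : Fintype F₀ := Fintype.ofFinite F₀
    have hpF : (p : F₀) ≠ 0 := fun e => by
      have e' : (p : F) = 0 := by
        have h5 := congrArg F₀.subtype e
        rwa [map_natCast, map_zero] at h5
      rw [CharP.cast_eq_zero_iff F r] at e'
      exact hpr ((Nat.prime_dvd_prime_iff_eq hr hp).1 e').symm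
    have key := AutPSLBalance.balance hn σ F₀.subtype hι hoσ hpF b 𝒢 hinn
    rw [← hb] at key
    rw [key]
    refine ⟨fun hc => ⟨⟨AutPSLBasic.cj g, AutPSLBasic.fd σ, (AutPSLApi.isInnerDiagonal_iff _).2 ⟨g, rfl⟩,
      ⟨σ, (AutPSLApi.isStdField_iff σ _).2 rfl⟩, rfl⟩, hc⟩, fun hc => hc.2⟩
  · subst h
    set g' := g * GaloisDescentGL.gmap σ (AutPSLMain.glInvT g) with hg'
    have hsq : (AutPSLBasic.cj g * AutPSLBasic.fd σ * AutPSLBasic.it : MulAut (AutPSLBasic.P n F)) *
        (AutPSLBasic.cj g * AutPSLBasic.fd σ * AutPSLBasic.it) = AutPSLBasic.cj g' * AutPSLBasic.fd (σ * σ) := by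
      calc (AutPSLBasic.cj g * AutPSLBasic.fd σ * AutPSLBasic.it : MulAut (AutPSLBasic.P n F)) *
            (AutPSLBasic.cj g * AutPSLBasic.fd σ * AutPSLBasic.it)
          = AutPSLBasic.cj g * AutPSLBasic.fd σ * (AutPSLBasic.it * AutPSLBasic.cj g) *
              (AutPSLBasic.fd σ * AutPSLBasic.it) := by simp only [mul_assoc]
        _ = AutPSLBasic.cj g * (AutPSLBasic.fd σ * AutPSLBasic.cj (AutPSLMain.glInvT g)) *
              (AutPSLBasic.it * AutPSLBasic.fd σ) * AutPSLBasic.it := by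
            rw [AutPSLMain.it_mul_cj]; simp only [mul_assoc]
        _ = AutPSLBasic.cj g * AutPSLBasic.cj (GaloisDescentGL.gmap σ (AutPSLMain.glInvT g)) * AutPSLBasic.fd σ *
              (AutPSLBasic.fd σ * AutPSLBasic.it) * AutPSLBasic.it := by
            rw [AutPSLField.fd_mul_cj', AutPSLMain.it_mul_fd]; simp only [mul_assoc]
        _ = AutPSLBasic.cj g' * AutPSLBasic.fd (σ * σ) * (AutPSLBasic.it * AutPSLBasic.it) := by
            rw [hg', map_mul AutPSLBasic.cj, map_mul AutPSLBasic.fd]; simp only [mul_assoc]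
        _ = _ := by rw [AutPSLMain.it_mul_it, mul_one]
    have hp2 : p = 2 := by
      rcases hp.eq_two_or_odd' with e | ⟨k, hk⟩
      · exact e
      exfalso
      have e := hord ▸ pow_orderOf_eq_one (AutPSLBasic.cj g * AutPSLBasic.fd σ * AutPSLBasic.it :
        MulAut (AutPSLBasic.P n F))
      rw [hk, pow_succ, pow_mul, pow_two, hsq, AutPSLField.pow_cj_fd] at e
      have e2 : (AutPSLBasic.cj (GaloisDescentGL.ntw (σ * σ) g' k) * AutPSLBasic.fd ((σ * σ) ^ k)) *
          (AutPSLBasic.cj g * AutPSLBasic.fd σ) = (AutPSLBasic.it : MulAut (AutPSLBasic.P n F)) := by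
        rw [← mul_assoc _ (AutPSLBasic.cj g * AutPSLBasic.fd σ), mul_eq_one_iff_eq_inv] at e
        rw [e, inv_eq_of_mul_eq_one_right AutPSLMain.it_mul_it]
      rw [← mul_assoc, mul_assoc (AutPSLBasic.cj _) (AutPSLBasic.fd _), AutPSLField.fd_mul_cj', ← mul_assoc,
        ← map_mul, mul_assoc, ← map_mul] at e2
      exact AutPSLApi.cj_fd_ne_it h3 _ _ e2
    subst hp2
    have h2 : (2 : F) ≠ 0 := fun e => by
      have e' : r ∣ 2 := (CharP.cast_eq_zero_iff F r 2).1 (by exact_mod_cast e)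
      exact hpr ((Nat.prime_dvd_prime_iff_eq hr Nat.prime_two).1 e').symm
    have key := AutPSLGraphBalance.balance h3 h2 g σ hord 𝒢 hinn
    refine ⟨fun hc => absurd key hc, fun hc => ?_⟩
    obtain ⟨⟨γ, φ, hγ, ⟨τ, hφ⟩, hβ'⟩, -⟩ := hc
    obtain ⟨a, rfl⟩ := (AutPSLApi.isInnerDiagonal_iff _).1 hγ
    obtain rfl := (AutPSLApi.isStdField_iff τ φ).1 hφ
    exfalso
    have e : AutPSLBasic.cj g * AutPSLBasic.fd σ * AutPSLBasic.it =
        (AutPSLBasic.cj a * AutPSLBasic.fd τ : MulAut (AutPSLBasic.P n F)) := hβ'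
    have e2 : (AutPSLBasic.it : MulAut (AutPSLBasic.P n F)) =
        AutPSLBasic.fd σ⁻¹ * AutPSLBasic.cj (g⁻¹ * a) * AutPSLBasic.fd τ := by
      simp only [map_mul, map_inv, mul_assoc, ← e, inv_mul_cancel_left]
    rw [AutPSLField.fd_mul_cj', mul_assoc, ← map_mul] at e2
    exact AutPSLApi.cj_fd_ne_it h3 _ _ e2.symm

end Cfsg.Agent.S2686
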