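import Cfsg.Statements.S2687
import Cfsg.Agent.Lib.AutPSU52BalOdd

set_option autoImplicit false
open Cfsg

namespace Cfsg.Agent.S2687

/-- A criterion for the failure of local balance in almost simple groups with unitary socle. Let F be a finite field of characteristic r with q² elements and K = PSU_n(q) (n ≥ 3, the central quotient of the determinant-one isometries of the standard Hermitian form) simple. Let A be a group of automorphisms of K containing all inner automorphisms, and β ∈ A an automorphism of prime order p ≠ r that is not inner-diagonal (not induced by conjugation by a matrix of the general unitary group). Then the largest normal subgroup of C_A(β) of order prime to p is nontrivial if and only if β is the composite of an inner-diagonal automorphism with the automorphism induced by a field automorphism of F applied entrywise and p does not divide the number of fixed points of β on K. -/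
theorem result
    (F : Type*) [Field F] [Fintype F] (r : ℕ) [Fact r.Prime] [CharP F r] (q : ℕ) (hF : Fintype.card F = q ^ 2)
    (n : ℕ) (hn : 3 ≤ n) (hK : IsSimpleGroup (Cfsg.PSU n F q))
    (𝒢 : Subgroup (MulAut (Cfsg.PSU n F q))) (hinn : ∀ k : Cfsg.PSU n F q, MulAut.conj k ∈ 𝒢)
    (p : ℕ) [Fact p.Prime] (hpr : p ≠ r) (β : MulAut (Cfsg.PSU n F q)) (hβ : β ∈ 𝒢) (hord : orderOf β = p)
    (hnot : ¬ Cfsg.IsInnerDiagonalAutPSU β) :
    Cfsg.pPrimeCore p ↥(𝒢 ⊓ Subgroup.centralizer {β}) ≠ ⊥ ↔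
      ((∃ γ φ : MulAut (Cfsg.PSU n F q), Cfsg.IsInnerDiagonalAutPSU γ ∧ (∃ σ : F ≃+* F, Cfsg.IsFieldAutPSUOf σ φ) ∧ β = φ.trans γ) ∧
        Nat.Coprime p (Nat.card ↥(MonoidHom.eqLocus β.toMonoidHom (MonoidHom.id (Cfsg.PSU n F q))))) := by
  classical
  have hp := (Fact.out : p.Prime)
  have h32 : ¬(n = 3 ∧ q = 2) := by
    rintro ⟨rfl, rfl⟩
    have hF4 : Fintype.card F = 4 := by rw [hF]; norm_num
    obtain ⟨N, hN, hN9, -, -⟩ := S0827.result hF4
    have h72 := (S0282.result hF4).1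
    rcases IsSimpleGroup.eq_bot_or_eq_top_of_normal N hN with h | h
    · rw [h, Subgroup.card_bot] at hN9; omega
    · rw [h, Subgroup.card_top, h72] at hN9; omega
  obtain ⟨g, σ, rfl⟩ := AutPSU52Api.aut_decomp hF hn h32 β
  have hσ1 : σ ≠ 1 := fun h => hnot ((AutPSU52Api.isInnerDiagonal_iff _).2 ⟨g, by rw [h, map_one, mul_one]⟩)
  have hσp : orderOf σ = p := by
    have h := pow_orderOf_eq_one (AutPSU52Basic.cj g * AutPSU52Basic.fd σ : MulAut (Cfsg.PSU n F q))
    rw [hord, AutPSU52Field.pow_cj_fd] at h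
    exact orderOf_eq_prime (AutPSU52Api.cj_fd_eq_one hF hn h).2 hσ1
  have hclause : ∃ γ φ : MulAut (Cfsg.PSU n F q), Cfsg.IsInnerDiagonalAutPSU γ ∧
      (∃ τ : F ≃+* F, Cfsg.IsFieldAutPSUOf τ φ) ∧
      (AutPSU52Basic.cj g * AutPSU52Basic.fd σ : MulAut (Cfsg.PSU n F q)) = φ.trans γ :=
    ⟨AutPSU52Basic.cj g, AutPSU52Basic.fd σ, (AutPSU52Api.isInnerDiagonal_iff _).2 ⟨g, rfl⟩,
      ⟨σ, (AutPSU52Api.isField_iff _ _).2 rfl⟩, rfl⟩
  rw [and_iff_right hclause]
  obtain ⟨f, hf⟩ : ∃ f, q = r ^ f := by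
    obtain ⟨r', f, hr', hc, -, hq⟩ := OrthUnitaryHerm.exists_prime_pow hF
    exact ⟨f, by rw [hq, CharP.eq F hc ‹CharP F r›]⟩
  rcases eq_or_ne p 2 with rfl | hp2
  · have hodd : Odd q := by
      rw [hf]
      exact ((Fact.out : r.Prime).odd_of_ne_two (Ne.symm hpr)).pow
    exact AutPSU52BalTwo.balance_two hF hn hodd hσp hord 𝒢 hinn
  · have hQ := GaloisDescentGL.card_fixed σ
    rw [hσp, Nat.card_eq_fintype_card (α := F), hF, hf] at hQ
    set Q := Nat.card {y : F // σ y = y}
    obtain ⟨a, -, hQa⟩ : ∃ a ≤ f * 2, Q = r ^ a :=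
      (Nat.dvd_prime_pow Fact.out).1 (by rw [pow_mul, ← hQ]; exact dvd_pow_self Q hp.ne_zero)
    rw [hQa, ← pow_mul, ← pow_mul] at hQ
    have hap : a * p = f * 2 := Nat.pow_right_injective (Fact.out : r.Prime).two_le hQ
    have hpf : p ∣ f := ((hp.dvd_mul.1 (Dvd.intro_left a hap)).resolve_right fun h =>
      hp2 ((Nat.prime_dvd_prime_iff_eq hp Nat.prime_two).1 h))
    have hq₀ : (r ^ (f / p)) ^ orderOf σ = q := by
      rw [hσp, ← pow_mul, Nat.div_mul_cancel hpf, hf]
    obtain ⟨b, hb⟩ := AutPSU52Field.field_coset hF hn σ (hσp ▸ hp.odd_of_ne_two hp2) hq₀ g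
      (by rw [hσp, ← hord]; exact pow_orderOf_eq_one _)
    rw [hb]
    exact AutPSU52BalOdd.balance_odd hF hn h32 hp2 hσp hq₀ b 𝒢 hinn

end Cfsg.Agent.S2687
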