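import Cfsg.Statements.S2697
import Cfsg.Agent.Lib.AutPSLField

set_option autoImplicit false
open Cfsg

namespace Cfsg.Agent.S2697

/-- Let T = PSL_n(F) be simple over a finite field (n ≥ 2; |F| ≥ 4 when n = 2) and let x be a field automorphism or a graph-field automorphism of T of prime order r. Then an element y of the coset Inndiag(T)·x (that is, y = δ x with δ in the inner-diagonal group, the image of PGL_n(F)) has order r if and only if y is conjugate to x by an element of Inndiag(T). -/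
theorem result {F : Type*} [Field F] [Fintype F] {p f : ℕ} [Fact p.Prime] (hF : Fintype.card F = p ^ f) (hf : 1 ≤ f) {n : ℕ} (hn : 2 ≤ n) (hs : n = 2 → 4 ≤ Fintype.card F) (x δ : MulAut (Matrix.ProjectiveSpecialLinearGroup (Fin n) F)) (hx : Cfsg.IsFieldAutClassPSL x ∨ Cfsg.IsGraphFieldAutClassPSL x) {r : ℕ} (hr : r.Prime) (hxr : orderOf x = r) (hδ : δ ∈ Cfsg.inndiagPSL n F) :
    orderOf (δ * x) = r ↔ Cfsg.IsConjUnder (Cfsg.inndiagPSL n F) x (δ * x) := by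
  have hn2 : 2 ≤ n := hn
  obtain ⟨a, rfl⟩ := (Cfsg.Agent.AutPSLApi.mem_inndiag δ).1 hδ
  constructor
  swap
  · rintro ⟨k, -, e⟩
    rw [e, Cfsg.Agent.AutPSLField.orderOf_conj', hxr]
  intro hord
  have key : ∀ (h : GL (Fin n) F) (ψ : MulAut (Matrix.ProjectiveSpecialLinearGroup (Fin n) F)),
      x = Cfsg.Agent.AutPSLBasic.cj h * ψ * (Cfsg.Agent.AutPSLBasic.cj h)⁻¹ →
      (∀ a' : GL (Fin n) F, orderOf (Cfsg.Agent.AutPSLBasic.cj a' * ψ) = orderOf ψ →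
        ∃ b, Cfsg.Agent.AutPSLBasic.cj a' * ψ = Cfsg.Agent.AutPSLBasic.cj b * ψ * (Cfsg.Agent.AutPSLBasic.cj b)⁻¹) →
      Cfsg.IsConjUnder (Cfsg.inndiagPSL n F) x (Cfsg.Agent.AutPSLBasic.cj a * x) := by
    intro h ψ hx' H
    have e : Cfsg.Agent.AutPSLBasic.cj a * x = Cfsg.Agent.AutPSLBasic.cj h *
        (Cfsg.Agent.AutPSLBasic.cj (h⁻¹ * a * h) * ψ) * (Cfsg.Agent.AutPSLBasic.cj h)⁻¹ := by
      rw [hx']; simp [mul_assoc]
    obtain ⟨b, hb⟩ := H (h⁻¹ * a * h) (by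
      rw [← Cfsg.Agent.AutPSLField.orderOf_conj' (Cfsg.Agent.AutPSLBasic.cj h), ← e, hord, ← hxr, hx',
        Cfsg.Agent.AutPSLField.orderOf_conj'])
    refine ⟨Cfsg.Agent.AutPSLBasic.cj (h * b * h⁻¹), (Cfsg.Agent.AutPSLApi.mem_inndiag _).2 ⟨_, rfl⟩, ?_⟩
    rw [e, hb, hx']
    simp [mul_assoc]
  rcases hx with hx | hx
  · obtain ⟨h, σ, -, hx'⟩ := Cfsg.Agent.AutPSLField.field_class hn2 hx
    refine key h _ hx' fun a' ha' => Cfsg.Agent.AutPSLField.field_coset hn2 σ a' ?_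
    rw [← orderOf_injective Cfsg.Agent.AutPSLBasic.fd (Cfsg.Agent.AutPSLApi.fd_injective hn2) σ, ← ha',
      pow_orderOf_eq_one]
  · obtain ⟨hn3, h, σ, hσ, hx'⟩ := Cfsg.Agent.AutPSLField.graphField_class hx
    have h2 : orderOf (Cfsg.Agent.AutPSLBasic.fd σ * Cfsg.Agent.AutPSLBasic.it :
        MulAut (Matrix.ProjectiveSpecialLinearGroup (Fin n) F)) = r := by
      rw [← hxr, hx', Cfsg.Agent.AutPSLField.orderOf_conj']
    obtain ⟨r2, hσ2⟩ := Cfsg.Agent.AutPSLField.graphField_order hn3 σ hr h2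
    refine key h _ hx' fun a' ha' => Cfsg.Agent.AutPSLField.graphField_coset hn3 σ hσ2 hσ a' ?_
    rw [← r2, ← h2, ← ha', pow_orderOf_eq_one]

end Cfsg.Agent.S2697
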