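import Cfsg.Statements.S2698
import Cfsg.Agent.Lib.AutPSLField

set_option autoImplicit false
open Cfsg

namespace Cfsg.Agent.S2698

/-- Let T = PSL_n(F) be simple over the field F with p^f elements (n ≥ 2; p^f ≥ 4 when n = 2), G = Inndiag(T) the image of PGL_n(F) in Aut(T), and x a field automorphism of T of prime order r. Then r divides f; the centralizer C_G(x) is isomorphic to PGL_n(F₀) for the subfield size |F₀| = p^(f/r); and the G-class of x is the union of exactly gcd(n, (p^f − 1)/(p^(f/r) − 1)) classes under conjugation by T (the inner automorphism group). -/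
theorem result {F : Type*} [Field F] [Fintype F] {p f : ℕ} [Fact p.Prime] (hF : Fintype.card F = p ^ f) (hf : 1 ≤ f) {n : ℕ} (hn : 2 ≤ n) (hs : n = 2 → 4 ≤ Fintype.card F) (x : MulAut (Matrix.ProjectiveSpecialLinearGroup (Fin n) F)) (hx : Cfsg.IsFieldAutClassPSL x) {r : ℕ} (hr : r.Prime) (hxr : orderOf x = r) (F₀ : Type*) [Field F₀] [Fintype F₀] (hF₀ : Fintype.card F₀ = p ^ (f / r)) :
    r ∣ f ∧ Nonempty (↥(Cfsg.inndiagPSL n F ⊓ Subgroup.centralizer {x}) ≃* Matrix.ProjGenLinGroup (Fin n) F₀) ∧ Cfsg.splitClassCount (Cfsg.inndiagPSL n F) (Cfsg.Inn (Matrix.ProjectiveSpecialLinearGroup (Fin n) F)) x = Nat.gcd n ((p ^ f - 1) / (p ^ (f / r) - 1)) := by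
  obtain ⟨h, σ, -, hx'⟩ := Cfsg.Agent.AutPSLField.field_class hn hx
  have hσr : orderOf σ = r := by
    rw [← hxr, hx', Cfsg.Agent.AutPSLField.orderOf_conj',
      orderOf_injective Cfsg.Agent.AutPSLBasic.fd (Cfsg.Agent.AutPSLApi.fd_injective hn) σ]
  have hrf : r ∣ f := by
    rw [← hσr, ← Cfsg.Agent.AutPSLApi.card_ringAut hF hf]
    exact orderOf_dvd_natCard σ
  have hfix : Nat.card {y : F // σ y = y} = p ^ (f / r) := by
    have h1 := Cfsg.Agent.GaloisDescentGL.card_fixed σ
    rw [hσr, Nat.card_eq_fintype_card (α := F), hF] at h1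
    have h2 : (p ^ (f / r)) ^ r = p ^ f := by rw [← pow_mul, Nat.div_mul_cancel hrf]
    exact Nat.pow_left_injective hr.ne_zero (h1.trans h2.symm)
  refine ⟨hrf, ?_, ?_⟩
  · let K : Subfield F := (σ : F →+* F).eqLocusField (RingHom.id F)
    letI : Fintype K := Fintype.ofFinite K
    have hK : Fintype.card F₀ = Fintype.card K := by
      rw [hF₀, ← hfix, ← Nat.card_eq_fintype_card]
      rfl
    let e : F₀ ≃+* K := FiniteField.ringEquivOfCardEq hK
    rw [hx']
    refine Cfsg.Agent.AutPSLField.field_centralizer hn σ h F₀ (K.subtype.comp (e : F₀ →+* K)) fun y => ?_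
    constructor
    · exact fun hy => ⟨e.symm ⟨y, hy⟩, by simp⟩
    · rintro ⟨z, rfl⟩
      exact (e z).2
  · rw [hx', Cfsg.Agent.AutPSLField.field_split hn]
    have h1 := (Cfsg.Agent.GaloisDescentGL.fixedUnits σ).card_mul_index
    have h2 := Cfsg.Agent.GaloisDescentGL.card_fixedUnits σ
    have h3 : Nat.card (Cfsg.Agent.GaloisDescentGL.fixedUnits σ) = p ^ (f / r) - 1 := by
      rw [← hfix, ← h2, Nat.add_sub_cancel]
    rw [Nat.card_units, Nat.card_eq_fintype_card (α := F), hF] at h1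
    rw [← h1, h3, Nat.mul_div_cancel_left]
    rw [← h3]
    exact Nat.card_pos

end Cfsg.Agent.S2698
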