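import Cfsg.Statements.S2699
import Cfsg.Agent.Lib.AutPSLBasic
import Cfsg.Agent.Lib.AutPSLMain
import Cfsg.Agent.Lib.AutPSLApi
import Cfsg.Agent.Lib.AutPSLGraph
import Cfsg.Agent.Lib.AutPSLGraphForms
import Cfsg.Agent.Lib.FormCongruence
import Cfsg.Agent.S0304
-- import your own Cfsg.Agent.* helpers here

set_option autoImplicit false
open Cfsg

namespace Cfsg.Agent.S2699

open Matrix
open Cfsg.Agent.AutPSLBasic Cfsg.Agent.AutPSLMain Cfsg.Agent.AutPSLGraph Cfsg.Agent.AutPSLGraphForms Cfsg.Agent.FormCongruence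

variable {F : Type*} [Field F]

/-- The symplectic group inside the isometries of `[1] ⊕ J`. -/
noncomputable def spHom (m : ℕ) : Matrix.symplecticGroup (Fin m) F →* GL (Unit ⊕ (Fin m ⊕ Fin m)) F :=
  MonoidHom.toHomUnits
    { toFun := fun y => Matrix.fromBlocks 1 0 0 (y : Matrix (Fin m ⊕ Fin m) (Fin m ⊕ Fin m) F)
      map_one' := by rw [Submonoid.coe_one, fromBlocks_one]
      map_mul' := fun y z => by simp [fromBlocks_multiply] }

lemma coe_spHom {m : ℕ} (y : Matrix.symplecticGroup (Fin m) F) :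
    ((spHom m y : GL (Unit ⊕ (Fin m ⊕ Fin m)) F) : Matrix (Unit ⊕ (Fin m ⊕ Fin m)) (Unit ⊕ (Fin m ⊕ Fin m)) F) =
      Matrix.fromBlocks 1 0 0 (y : Matrix (Fin m ⊕ Fin m) (Fin m ⊕ Fin m) F) := rfl

lemma spHom_injective (m : ℕ) : Function.Injective (spHom (F := F) m) := by
  intro y z e
  have e2 := congrArg Units.val e
  rw [coe_spHom, coe_spHom, fromBlocks_inj] at e2
  exact Subtype.ext e2.2.2.2

lemma nOdd_quad {m : ℕ} (w : Unit ⊕ (Fin m ⊕ Fin m) → F) : w ⬝ᵥ (nOdd m F *ᵥ w) = w (.inl ()) ^ 2 := by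
  have h := SymplecticBasic.form_self (w ∘ Sum.inr)
  simp only [sympForm, dotProduct, Function.comp_apply] at h
  simp only [nOdd, fromBlocks_mulVec, dotProduct, Fintype.sum_sum_type, Sum.elim_inl, Sum.elim_inr, zero_mulVec,
    add_zero, zero_add, one_mulVec, Function.comp_apply]
  rw [Fintype.sum_sum_type] at h
  rw [h, add_zero]
  simp [pow_two]

lemma spHom_range [CharP F 2] {m : ℕ} (x : GL (Unit ⊕ (Fin m ⊕ Fin m)) F) :
    x ∈ (spHom m).range ↔ (x : Matrix (Unit ⊕ (Fin m ⊕ Fin m)) (Unit ⊕ (Fin m ⊕ Fin m)) F)ᵀ * nOdd m F *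
      (x : Matrix (Unit ⊕ (Fin m ⊕ Fin m)) (Unit ⊕ (Fin m ⊕ Fin m)) F) = nOdd m F := by
  set X := (x : Matrix (Unit ⊕ (Fin m ⊕ Fin m)) (Unit ⊕ (Fin m ⊕ Fin m)) F) with hX
  constructor
  · rintro ⟨y, rfl⟩
    rw [hX, coe_spHom, nOdd, fromBlocks_transpose, fromBlocks_multiply, fromBlocks_multiply]
    simp [SymplecticGroup.mem_iff'.1 y.2]
  · intro h
    have hrow : ∀ v, (X *ᵥ v) (.inl ()) = v (.inl ()) := by
      intro v
      have e := nOdd_quad (X *ᵥ v)
      rw [dot_congr, h, nOdd_quad] at e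
      have e2 : ((X *ᵥ v) (.inl ()) - v (.inl ())) ^ 2 = 0 := by
        linear_combination -e - ((X *ᵥ v) (.inl ()) * v (.inl ()) - v (.inl ()) ^ 2) * (CharTwo.two_eq_zero : (2 : F) = 0)
      exact sub_eq_zero.1 ((pow_eq_zero_iff two_ne_zero).1 e2)
    have h11 : X.toBlocks₁₁ = 1 := by
      ext i j
      simpa [mulVec_single_one, toBlocks₁₁] using hrow (Pi.single (.inl j) 1)
    have h12 : X.toBlocks₁₂ = 0 := by
      ext i j
      simpa [mulVec_single_one, toBlocks₁₂] using hrow (Pi.single (.inr j) 1)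
    rw [← fromBlocks_toBlocks X, h11, h12, nOdd, fromBlocks_transpose, fromBlocks_multiply, fromBlocks_multiply,
      fromBlocks_inj] at h
    simp only [Matrix.transpose_zero, Matrix.transpose_one, Matrix.mul_zero, Matrix.zero_mul, Matrix.mul_one,
      Matrix.one_mul, add_zero, zero_add] at h
    obtain ⟨-, -, h21, h22⟩ := h
    have hmem : X.toBlocks₂₂ ∈ Matrix.symplecticGroup (Fin m) F := SymplecticGroup.mem_iff'.2 h22
    have hdet : (X.toBlocks₂₂ᵀ * Matrix.J (Fin m) F).det ≠ 0 := by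
      rw [det_mul, det_transpose, SymplecticGroup.det_eq_one hmem, one_mul]
      exact det_J_ne_zero m
    have h0 : X.toBlocks₂₁ = 0 := by
      have := congrArg (fun Z => (X.toBlocks₂₂ᵀ * Matrix.J (Fin m) F)⁻¹ * Z) h21
      simpa only [← Matrix.mul_assoc, nonsing_inv_mul _ hdet.isUnit, Matrix.one_mul, Matrix.mul_zero] using this
    refine ⟨⟨_, hmem⟩, Units.ext ?_⟩
    rw [coe_spHom]
    show _ = X
    conv_rhs => rw [← fromBlocks_toBlocks X, h11, h12, h0]

/-- Let T = PSL_n(F) over the field with p^f elements with n ≥ 3 odd, n = 2m + 1, and G = Inndiag(T) the image of PGL_n(F). Every involutory graph automorphism γ of T (an inner-diagonal automorphism followed by inverse-transpose, of order 2) has centralizer C_G(γ) isomorphic to the projective conformal orthogonal group of the form x₀² + Σ xᵢ yᵢ in dimension n (for q even this group is isomorphic to Sp_{n−1}(q)), and any two involutory graph automorphisms are G-conjugate. -/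
theorem result {F : Type*} [Field F] [Fintype F] {p f : ℕ} [Fact p.Prime] (hF : Fintype.card F = p ^ f) (hf : 1 ≤ f) {n : ℕ} (hn : 3 ≤ n) {m : ℕ} (hnm : n = 2 * m + 1) (γ γ' : MulAut (Matrix.ProjectiveSpecialLinearGroup (Fin n) F)) (hγ : Cfsg.IsGraphAutClassPSL γ) (hγ2 : orderOf γ = 2) (hγ' : Cfsg.IsGraphAutClassPSL γ') (hγ'2 : orderOf γ' = 2) :
    Nonempty (↥(Cfsg.inndiagPSL n F ⊓ Subgroup.centralizer {γ}) ≃* Cfsg.PGO F (Cfsg.quadFormOdd m F)) ∧ Cfsg.IsConjUnder (Cfsg.inndiagPSL n F) γ γ' := by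
  obtain ⟨A, rfl, hA⟩ := graph_class hγ hγ2
  obtain ⟨B, rfl, hB⟩ := graph_class hγ' hγ'2
  have hn2 : 2 ≤ n := by omega
  have hdet : ∀ A : GL (Fin n) F, (A : Matrix (Fin n) (Fin n) F).det ≠ 0 :=
    fun A => ((Matrix.isUnit_iff_isUnit_det _).1 A.isUnit).ne_zero
  by_cases h2 : (2 : F) = 0
  · haveI : CharP F 2 := CharTwo.of_one_ne_zero_of_two_eq_zero one_ne_zero h2
    have key : ∀ A : GL (Fin n) F, ((A : Matrix (Fin n) (Fin n) F)ᵀ = A ∨ (A : Matrix (Fin n) (Fin n) F)ᵀ = -A) →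
        CongrS (A : Matrix (Fin n) (Fin n) F) (nOdd m F) := by
      intro A hA
      have hA' : (A : Matrix (Fin n) (Fin n) F)ᵀ = A := hA.elim id fun e => e.trans (by
        ext i j; exact CharTwo.neg_eq _)
      rcases classify_two hA' (hdet A) with h | ⟨m', hm', h⟩ | ⟨k, hk, -⟩
      · obtain ⟨k, hk, -⟩ := classify_alt h (hdet A)
        omega
      · obtain rfl : m' = m := by omega
        exact ⟨1, one_ne_zero, by rwa [one_smul]⟩
      · omega
    refine ⟨?_, isConj_of_congrS hn2 (key A hA) (key B hB)⟩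
    obtain ⟨e1⟩ := centralizer_equiv_isometry hn2 h2 (QuadClassify.isSquare_of_two_eq_zero h2)
      (fun e => det_nOdd_ne_zero (F := F) m (by rw [e, det_zero])) (key A hA) (spHom m) (spHom_injective m) spHom_range
    obtain ⟨e2⟩ := S0304.result (F := F) m
    obtain ⟨e3⟩ := pgo_equiv_isometry h2 (quadFormOdd m F) (odd_smul m)
      ⟨Sum.elim (fun _ => 1) 0, by simp [quadFormOdd]⟩
    exact ⟨e1.trans (e2.symm.trans e3.symm)⟩
  · have key : ∀ A : GL (Fin n) F, ((A : Matrix (Fin n) (Fin n) F)ᵀ = A ∨ (A : Matrix (Fin n) (Fin n) F)ᵀ = -A) →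
        CongrS (A : Matrix (Fin n) (Fin n) F) (pOdd m F) := by
      intro A hA
      refine classify_odd h2 hnm (hA.resolve_right fun e => hdet A ?_) (hdet A)
      have := congrArg Matrix.det e
      rw [det_transpose, det_neg, Fintype.card_fin, (Odd.neg_one_pow ⟨m, hnm⟩), neg_one_mul] at this
      have h3 : (2 : F) * (A : Matrix (Fin n) (Fin n) F).det = 0 := by linear_combination this
      exact (mul_eq_zero.1 h3).resolve_left h2
    exact ⟨centralizer_equiv hn2 (key A hA) _ (mem_odd_sim h2 m), isConj_of_congrS hn2 (key A hA) (key B hB)⟩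

end Cfsg.Agent.S2699
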