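import Cfsg.Statements.S2700
import Cfsg.Agent.Lib.AutPSLBasic
import Cfsg.Agent.Lib.AutPSLMain
import Cfsg.Agent.Lib.AutPSLApi
import Cfsg.Agent.Lib.AutPSLGraph
import Cfsg.Agent.Lib.AutPSLGraphForms
import Cfsg.Agent.Lib.FormCongruence
-- import your own Cfsg.Agent.* helpers here

set_option autoImplicit false
open Cfsg

namespace Cfsg.Agent.S2700

open Matrix
open Cfsg.Agent.AutPSLBasic Cfsg.Agent.AutPSLMain Cfsg.Agent.AutPSLGraph Cfsg.Agent.AutPSLGraphForms Cfsg.Agent.FormCongruence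

/-- Let T = PSL_n(F) over a finite field of odd order with n = 2m ≥ 4 even, and G = Inndiag(T) the image of PGL_n(F). The involutory graph automorphisms of T fall into exactly three G-classes, with representatives γ₁, γ₂, γ₃ whose centralizers in G are isomorphic respectively to the projective conformal symplectic group PGSp_n(F), the projective conformal orthogonal group of the plus-type form Σ xᵢ yᵢ, and that of a minus-type form Σ xᵢ yᵢ + z₁² + a z₁ z₂ + b z₂² (anisotropic binary part) in dimension n. -/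
theorem result {F : Type*} [Field F] [Fintype F] (hodd : Odd (Fintype.card F)) {n m : ℕ} (hm : 2 ≤ m) (hnm : n = 2 * m) :
    ∃ (γ₁ γ₂ γ₃ : MulAut (Matrix.ProjectiveSpecialLinearGroup (Fin n) F)) (a b : F), (∀ z₁ z₂ : F, z₁ ^ 2 + a * z₁ * z₂ + b * z₂ ^ 2 = 0 → z₁ = 0 ∧ z₂ = 0) ∧ Cfsg.IsGraphAutClassPSL γ₁ ∧ orderOf γ₁ = 2 ∧ Cfsg.IsGraphAutClassPSL γ₂ ∧ orderOf γ₂ = 2 ∧ Cfsg.IsGraphAutClassPSL γ₃ ∧ orderOf γ₃ = 2 ∧ ¬ Cfsg.IsConjUnder (Cfsg.inndiagPSL n F) γ₁ γ₂ ∧ ¬ Cfsg.IsConjUnder (Cfsg.inndiagPSL n F) γ₁ γ₃ ∧ ¬ Cfsg.IsConjUnder (Cfsg.inndiagPSL n F) γ₂ γ₃ ∧ (∀ γ : MulAut (Matrix.ProjectiveSpecialLinearGroup (Fin n) F), Cfsg.IsGraphAutClassPSL γ → orderOf γ = 2 → Cfsg.IsConjUnder (Cfsg.inndiagPSL n F) γ₁ γ ∨ Cfsg.IsConjUnder (Cfsg.inndiagPSL n F) γ₂ γ ∨ Cfsg.IsConjUnder (Cfsg.inndiagPSL n F) γ₃ γ) ∧ Nonempty (↥(Cfsg.inndiagPSL n F ⊓ Subgroup.centralizer {γ₁}) ≃* Cfsg.PGSp m F) ∧ Nonempty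 (↥(Cfsg.inndiagPSL n F ⊓ Subgroup.centralizer {γ₂}) ≃* Cfsg.PGO F (Cfsg.quadFormPlus m F)) ∧ Nonempty (↥(Cfsg.inndiagPSL n F ⊓ Subgroup.centralizer {γ₃}) ≃* Cfsg.PGO F (Cfsg.quadFormMinus (m - 1) F a b)) := by
  obtain ⟨a, b, hab⟩ : ∃ a b : F, ∀ z₁ z₂ : F, z₁ ^ 2 + a * z₁ * z₂ + b * z₂ ^ 2 = 0 → z₁ = 0 ∧ z₂ = 0 :=
    exists_aniso (OrthUnitaryForms.two_ne_zero_of_odd rfl hodd)
  have h2 : (2 : F) ≠ 0 := OrthUnitaryForms.two_ne_zero_of_odd rfl hodd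
  have hn : 3 ≤ n := by omega
  have hn2 : 2 ≤ n := by omega
  obtain ⟨A₁, h1⟩ := exists_gl (n := n) (det_J_ne_zero (F := F) m) (by simp; omega)
  obtain ⟨A₂, h2'⟩ := exists_gl (n := n) (det_pPlus_ne_zero (F := F) m) (by simp; omega)
  obtain ⟨A₃, h3⟩ := exists_gl (n := n) (det_pMinus_ne_zero h2 (m - 1) hab) (by simp; omega)
  have s1 : (A₁ : Matrix (Fin n) (Fin n) F)ᵀ = -A₁ := h1.skew (sympTranspose m)
  have s2 : (A₂ : Matrix (Fin n) (Fin n) F)ᵀ = A₂ := h2'.symm_of_symm (pPlus_transpose m)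
  have s3 : (A₃ : Matrix (Fin n) (Fin n) F)ᵀ = A₃ := h3.symm_of_symm (pMinus_transpose _ a b)
  have hdet : ∀ A : GL (Fin n) F, (A : Matrix (Fin n) (Fin n) F).det ≠ 0 :=
    fun A => ((Matrix.isUnit_iff_isUnit_det _).1 A.isUnit).ne_zero
  have hone : ∀ {ι : Type} [Fintype ι] [DecidableEq ι] {X : Matrix (Fin n) (Fin n) F} {N : Matrix ι ι F},
      Congr X N → CongrS X N := fun h => ⟨1, one_ne_zero, by rwa [one_smul]⟩
  have hne : ∀ A B : GL (Fin n) F, (A : Matrix (Fin n) (Fin n) F)ᵀ = -A → (B : Matrix (Fin n) (Fin n) F)ᵀ = B →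
      ¬ Cfsg.IsConjUnder (Cfsg.inndiagPSL n F) (gam A) (gam B) := by
    intro A B hA hB h
    obtain ⟨u, -, hc⟩ := congrS_of_isConj hn2 h
    have e := hc.skew (by rw [transpose_smul, hA, smul_neg])
    rw [hB] at e
    refine hdet B ?_
    have : (B : Matrix (Fin n) (Fin n) F) = 0 := by
      ext i j
      have := congrFun (congrFun e i) j
      rw [Matrix.neg_apply, eq_neg_iff_add_eq_zero, ← two_mul] at this
      exact (mul_eq_zero.1 this).resolve_left h2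
    haveI hne0 : Nonempty (Fin n) := ⟨⟨0, by omega⟩⟩
    rw [this, det_zero]
  refine ⟨gam A₁, gam A₂, gam A₃, a, b, hab, isGraph_gam hn _, (orderOf_gam_iff hn _).2 (Or.inr s1),
    isGraph_gam hn _, (orderOf_gam_iff hn _).2 (Or.inl s2), isGraph_gam hn _, (orderOf_gam_iff hn _).2 (Or.inl s3),
    hne _ _ s1 s2, hne _ _ s1 s3, ?_, ?_, centralizer_equiv hn2 (hone h1) _ (mem_GSp_iff m),
    centralizer_equiv hn2 (hone h2') _ (mem_plus_sim h2 m), centralizer_equiv hn2 (hone h3) _ (mem_minus_sim h2 _ hab)⟩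
  · intro h
    obtain ⟨u, hu, hc⟩ := congrS_of_isConj hn2 h
    have hc' := (hc.trans (h2'.smul u)).smul u⁻¹
    rw [smul_smul u⁻¹ u, inv_mul_cancel₀ hu, one_smul] at hc'
    refine not_congr_both h2 (by omega : 1 ≤ m) hab ⟨u ^ m, pow_ne_zero _ hu, ?_⟩ hc' h3
    rw [det_smul, Fintype.card_fin, ← mul_assoc, inv_pow]
    rw [show (u ^ m) ^ 2 = u ^ n by rw [← pow_mul, mul_comm, ← hnm]]
    field_simp
  · intro γ hγ hγ2
    obtain ⟨A, rfl, hA | hA⟩ := graph_class hγ hγ2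
    · rcases classify_even h2 hnm hab hA (hdet A) with h | h
      · refine Or.inr (Or.inl (isConj_of_congrS hn2 (hone h2') ⟨2⁻¹, inv_ne_zero h2, ?_⟩))
        have := h.smul (2 : F)⁻¹
        rwa [inv_smul_smul₀ h2] at this
      · refine Or.inr (Or.inr (isConj_of_congrS hn2 (hone h3) ⟨2⁻¹, inv_ne_zero h2, ?_⟩))
        have := h.smul (2 : F)⁻¹
        rwa [inv_smul_smul₀ h2] at this
    · have halt : ∀ v, v ⬝ᵥ ((A : Matrix (Fin n) (Fin n) F) *ᵥ v) = 0 := by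
        intro v
        have : v ⬝ᵥ ((A : Matrix (Fin n) (Fin n) F) *ᵥ v) = -(v ⬝ᵥ ((A : Matrix (Fin n) (Fin n) F) *ᵥ v)) := by
          conv_lhs => rw [dotProduct_mulVec, ← mulVec_transpose, hA, neg_mulVec, neg_dotProduct, dotProduct_comm]
        rw [eq_neg_iff_add_eq_zero, ← two_mul] at this
        exact (mul_eq_zero.1 this).resolve_left h2
      obtain ⟨m', hm', h⟩ := classify_alt halt (hdet A)
      obtain rfl : m' = m := by omega
      exact Or.inl (isConj_of_congrS hn2 (hone h1) (hone h))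

end Cfsg.Agent.S2700
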