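import Cfsg.Statements.S2701
import Cfsg.Agent.Lib.AutPSLBasic
import Cfsg.Agent.Lib.AutPSLMain
import Cfsg.Agent.Lib.AutPSLApi
import Cfsg.Agent.Lib.AutPSLGraph
import Cfsg.Agent.Lib.AutPSLGraphForms
import Cfsg.Agent.Lib.FormCongruence
import Cfsg.Agent.Lib.SymplecticTransv
-- import your own Cfsg.Agent.* helpers here

set_option autoImplicit false
open Cfsg

namespace Cfsg.Agent.S2701

open Matrix
open Cfsg.Agent.AutPSLBasic Cfsg.Agent.AutPSLMain Cfsg.Agent.AutPSLGraph Cfsg.Agent.AutPSLGraphForms Cfsg.Agent.FormCongruence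

variable {F : Type*} [Field F]

/-- The inclusion in `GL`. -/
noncomputable def spGLHom (m : ℕ) : Matrix.symplecticGroup (Fin m) F →* GL (Fin m ⊕ Fin m) F :=
  MonoidHom.toHomUnits (Submonoid.subtype _)

lemma coe_spGLHom {m : ℕ} (y : Matrix.symplecticGroup (Fin m) F) :
    ((spGLHom m y : GL (Fin m ⊕ Fin m) F) : Matrix (Fin m ⊕ Fin m) (Fin m ⊕ Fin m) F) = (y : Matrix (Fin m ⊕ Fin m) (Fin m ⊕ Fin m) F) := rfl

lemma spGLHom_injective (m : ℕ) : Function.Injective (spGLHom (F := F) m) :=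
  fun y z e => Subtype.ext (congrArg Units.val e)

lemma spGLHom_range (m : ℕ) (x : GL (Fin m ⊕ Fin m) F) :
    x ∈ (spGLHom m).range ↔ (x : Matrix (Fin m ⊕ Fin m) (Fin m ⊕ Fin m) F)ᵀ * Matrix.J (Fin m) F *
      (x : Matrix (Fin m ⊕ Fin m) (Fin m ⊕ Fin m) F) = Matrix.J (Fin m) F :=
  ⟨by rintro ⟨y, rfl⟩; exact SymplecticGroup.mem_iff'.1 y.2,
    fun h => ⟨⟨_, SymplecticGroup.mem_iff'.2 h⟩, Units.ext rfl⟩⟩

lemma nonAlt_range [CharP F 2] (k : ℕ) (x : GL (Fin (k + 1) ⊕ Fin (k + 1)) F) :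
    x ∈ ((spGLHom (k + 1)).comp (Subgroup.centralizer
        ({SymplecticBasic.transv (Pi.single (Sum.inr 0) 1) 1} : Set (Matrix.symplecticGroup (Fin (k + 1)) F))).subtype).range ↔
      (x : Matrix (Fin (k + 1) ⊕ Fin (k + 1)) (Fin (k + 1) ⊕ Fin (k + 1)) F)ᵀ * nNonAlt k F *
        (x : Matrix (Fin (k + 1) ⊕ Fin (k + 1)) (Fin (k + 1) ⊕ Fin (k + 1)) F) = nNonAlt k F := by
  set v : Fin (k + 1) ⊕ Fin (k + 1) → F := Pi.single (Sum.inr 0) 1 with hv
  have hform : ∀ u, sympForm (k + 1) F u v = u (.inl 0) := fun u => by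
    rw [hv, SymplecticBasic.form_single_inr_right]; simp [CharTwo.neg_eq]
  have h2 : (2 : F) = 0 := CharTwo.two_eq_zero
  rw [SymplecticTransv.centralizer_transv (by rw [hv]; simp) one_ne_zero]
  constructor
  · rintro ⟨⟨y, hy⟩, rfl⟩
    refine ext_form fun u w => ?_
    rw [← dot_congr, nNonAlt_mulVec, nNonAlt_mulVec]
    show sympForm _ F (y • u) (y • w) + (y • u) (.inl 0) * (y • w) (.inl 0) = _
    have hy' : ∀ u : Fin (k + 1) ⊕ Fin (k + 1) → F, (y • u) (.inl 0) = u (.inl 0) := fun u => by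
      rw [← hform (y • u), ← hform u]
      conv_lhs => rw [← (hy : y • v = v)]
      exact SymplecticBasic.form_map y u v
    rw [hy', hy', SymplecticBasic.form_map]
  · intro h
    set X := (x : Matrix (Fin (k + 1) ⊕ Fin (k + 1)) (Fin (k + 1) ⊕ Fin (k + 1)) F) with hX
    have hf : ∀ u w, sympForm (k + 1) F (X *ᵥ u) (X *ᵥ w) + (X *ᵥ u) (.inl 0) * (X *ᵥ w) (.inl 0) =
        sympForm (k + 1) F u w + u (.inl 0) * w (.inl 0) := fun u w => by
      rw [← nNonAlt_mulVec, ← nNonAlt_mulVec, dot_congr, h]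
    have hrow : ∀ u, (X *ᵥ u) (.inl 0) = u (.inl 0) := fun u => by
      have e := hf u u
      rw [SymplecticBasic.form_self, SymplecticBasic.form_self] at e
      have e2 : ((X *ᵥ u) (.inl 0) - u (.inl 0)) ^ 2 = 0 := by
        linear_combination e - ((X *ᵥ u) (.inl 0) * u (.inl 0) - u (.inl 0) ^ 2) * h2
      exact sub_eq_zero.1 ((pow_eq_zero_iff two_ne_zero).1 e2)
    have hsp : X ∈ Matrix.symplecticGroup (Fin (k + 1)) F := SymplecticBasic.mem_sp_iff_form.2 fun u w => by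
      have e := hf u w
      rw [hrow, hrow] at e
      exact add_right_cancel e
    let y : Matrix.symplecticGroup (Fin (k + 1)) F := ⟨X, hsp⟩
    refine ⟨⟨y, ?_⟩, Units.ext rfl⟩
    show y • v = v
    refine sub_eq_zero.1 (SymplecticBasic.form_nondeg fun w => ?_)
    obtain ⟨u, rfl⟩ : ∃ u, y • u = w := ⟨y⁻¹ • w, smul_inv_smul _ _⟩
    rw [SymplecticBasic.form_sub_left, SymplecticBasic.form_map, SymplecticBasic.form_swap (y • u) v,
      SymplecticBasic.form_swap u v, hform, hform]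
    show -(u (.inl 0)) - -((X *ᵥ u) (.inl 0)) = 0
    rw [hrow]; ring

/-- Let T = PSL_n(F) over a finite field of characteristic 2 with n = 2m ≥ 4 even, and G = Inndiag(T) the image of PGL_n(F). The involutory graph automorphisms of T fall into exactly two G-classes, with representatives γ₁ and γ₃ whose centralizers in G are isomorphic respectively to the symplectic group Sp_n(F) and to the centralizer in Sp_n(F) of a symplectic transvection. -/
theorem result {F : Type*} [Field F] [Fintype F] [CharP F 2] {n m : ℕ} (hm : 2 ≤ m) (hnm : n = 2 * m) :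
    ∃ (γ₁ γ₃ : MulAut (Matrix.ProjectiveSpecialLinearGroup (Fin n) F)) (t : ↥(Matrix.symplecticGroup (Fin m) F)), Cfsg.IsTransvection (t : Matrix (Fin m ⊕ Fin m) (Fin m ⊕ Fin m) F) ∧ Cfsg.IsGraphAutClassPSL γ₁ ∧ orderOf γ₁ = 2 ∧ Cfsg.IsGraphAutClassPSL γ₃ ∧ orderOf γ₃ = 2 ∧ ¬ Cfsg.IsConjUnder (Cfsg.inndiagPSL n F) γ₁ γ₃ ∧ (∀ γ : MulAut (Matrix.ProjectiveSpecialLinearGroup (Fin n) F), Cfsg.IsGraphAutClassPSL γ → orderOf γ = 2 → Cfsg.IsConjUnder (Cfsg.inndiagPSL n F) γ₁ γ ∨ Cfsg.IsConjUnder (Cfsg.inndiagPSL n F) γ₃ γ) ∧ Nonempty (↥(Cfsg.inndiagPSL n F ⊓ Subgroup.centralizer {γ₁}) ≃* ↥(Matrix.symplecticGroup (Fin m) F)) ∧ Nonempty (↥(Cfsg.inndiagPSL n F ⊓ Subgroup.centralizer {γ₃}) ≃* ↥(Subgroup.centralizer ({t} : Set ↥(Matrix.symplecticGroup (Fin m) F)))) := by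
  obtain ⟨k, rfl⟩ : ∃ k, m = k + 1 := ⟨m - 1, by omega⟩
  have h2 : (2 : F) = 0 := CharTwo.two_eq_zero
  have hn : 3 ≤ n := by omega
  have hn2 : 2 ≤ n := by omega
  obtain ⟨A₁, h1⟩ := exists_gl (n := n) (det_J_ne_zero (F := F) (k + 1)) (by simp; omega)
  obtain ⟨A₃, h3⟩ := exists_gl (n := n) (det_nNonAlt_ne_zero (F := F) k) (by simp; omega)
  have hsym : ∀ A : GL (Fin n) F, ((A : Matrix (Fin n) (Fin n) F)ᵀ = A ∨ (A : Matrix (Fin n) (Fin n) F)ᵀ = -A) →
      (A : Matrix (Fin n) (Fin n) F)ᵀ = A := fun A hA => hA.elim id fun e => e.trans (by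
        ext i j; exact CharTwo.neg_eq _)
  have hdet : ∀ A : GL (Fin n) F, (A : Matrix (Fin n) (Fin n) F).det ≠ 0 :=
    fun A => ((Matrix.isUnit_iff_isUnit_det _).1 A.isUnit).ne_zero
  have hone : ∀ {ι : Type} [Fintype ι] [DecidableEq ι] {X : Matrix (Fin n) (Fin n) F} {N : Matrix ι ι F},
      Congr X N → CongrS X N := fun h => ⟨1, one_ne_zero, by rwa [one_smul]⟩
  have s1 := h1.skew (sympTranspose (k + 1))
  have s3 : (A₃ : Matrix (Fin n) (Fin n) F)ᵀ = A₃ := h3.symm_of_symm (by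
    rw [nNonAlt, transpose_add, transpose_vecMulVec, sympTranspose]
    congr 1
    ext i j; exact CharTwo.neg_eq _)
  have hJalt : ∀ v, v ⬝ᵥ (Matrix.J (Fin (k + 1)) F *ᵥ v) = 0 := SymplecticBasic.form_self
  refine ⟨gam A₁, gam A₃, SymplecticBasic.transv (Pi.single (Sum.inr 0) 1) 1, ⟨?_, ?_⟩, isGraph_gam hn _,
    (orderOf_gam_iff hn _).2 (Or.inr s1), isGraph_gam hn _, (orderOf_gam_iff hn _).2 (Or.inl s3), ?_, ?_, ?_, ?_⟩
  · exact SymplecticTransv.rank_transv_sub_one (by simp) one_ne_zero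
  · rw [SymplecticBasic.coe_transv, sympTransvection, add_sub_cancel_left, one_smul, vecMulVec_mul_vecMulVec,
      dotProduct_comm]
    simp [Matrix.J]
  · intro h
    obtain ⟨u, hu, hc⟩ := congrS_of_isConj hn2 h
    have halt : ∀ v, v ⬝ᵥ ((A₃ : Matrix (Fin n) (Fin n) F) *ᵥ v) = 0 := hc.alternating fun v => by
      rw [smul_mulVec, dotProduct_smul, h1.alternating hJalt, smul_zero]
    have := h3.symm.alternating halt (Pi.single (Sum.inl 0) 1)
    rw [nNonAlt_mulVec, SymplecticBasic.form_self] at this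
    simp at this
  · intro γ hγ hγ2
    obtain ⟨A, rfl, hA⟩ := graph_class hγ hγ2
    rcases classify_two (hsym A hA) (hdet A) with h | ⟨m', hm', -⟩ | ⟨k', hk', h⟩
    · obtain ⟨m', hm', h'⟩ := classify_alt h (hdet A)
      obtain rfl : m' = k + 1 := by omega
      exact Or.inl (isConj_of_congrS hn2 (hone h1) (hone h'))
    · omega
    · obtain rfl : k' = k := by omega
      exact Or.inr (isConj_of_congrS hn2 (hone h3) (hone h))
  · exact centralizer_equiv_isometry hn2 h2 (QuadClassify.isSquare_of_two_eq_zero h2)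
      (fun e => det_J_ne_zero (F := F) (k + 1) (by rw [e, det_zero])) (hone h1) (spGLHom (k + 1)) (spGLHom_injective _)
      (spGLHom_range _)
  · exact centralizer_equiv_isometry hn2 h2 (QuadClassify.isSquare_of_two_eq_zero h2)
      (fun e => det_nNonAlt_ne_zero (F := F) k (by rw [e, det_zero])) (hone h3) _
      ((spGLHom_injective _).comp Subtype.val_injective) (nonAlt_range k)

end Cfsg.Agent.S2701
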