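import Cfsg.Statements.S2702
import Cfsg.Agent.Lib.AutPSLBasic
import Cfsg.Agent.Lib.AutPSLMain
import Cfsg.Agent.Lib.AutPSLApi
import Cfsg.Agent.Lib.AutPSLGraph
import Cfsg.Agent.Lib.AutPSLGraphForms
import Cfsg.Agent.Lib.FormCongruence
import Cfsg.Agent.Lib.OrthUnitaryForms
-- import your own Cfsg.Agent.* helpers here

set_option autoImplicit false
open Cfsg

namespace Cfsg.Agent.S2702

open Matrix
open Cfsg.Agent.AutPSLBasic Cfsg.Agent.AutPSLMain Cfsg.Agent.AutPSLGraph Cfsg.Agent.AutPSLGraphForms Cfsg.Agent.FormCongruence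

/-- Let T = PSL_n(F) over the field with q = p^f elements, n ≥ 3, G = Inndiag(T) the image of PGL_n(F), and γ an involutory graph automorphism of T. The G-class of γ is the union of exactly c T-classes, where: if n is even and q is odd, c = gcd(n/2, q − 1) when C_G(γ) is isomorphic to the projective conformal symplectic group PGSp_n(F) (symplectic type) and c = gcd(n, q − 1)/2 otherwise; and c = gcd(n, q − 1) when n is odd or q is even. -/
theorem result {F : Type*} [Field F] [Fintype F] {p f : ℕ} [Fact p.Prime] (hF : Fintype.card F = p ^ f) (hf : 1 ≤ f) {n : ℕ} (hn : 3 ≤ n) (γ : MulAut (Matrix.ProjectiveSpecialLinearGroup (Fin n) F)) (hγ : Cfsg.IsGraphAutClassPSL γ) (hγ2 : orderOf γ = 2) :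
    ((Even n ∧ Odd p ∧ Nonempty (↥(Cfsg.inndiagPSL n F ⊓ Subgroup.centralizer {γ}) ≃* Cfsg.PGSp (n / 2) F)) → Cfsg.splitClassCount (Cfsg.inndiagPSL n F) (Cfsg.Inn (Matrix.ProjectiveSpecialLinearGroup (Fin n) F)) γ = Nat.gcd (n / 2) (p ^ f - 1)) ∧ ((Even n ∧ Odd p ∧ ¬ Nonempty (↥(Cfsg.inndiagPSL n F ⊓ Subgroup.centralizer {γ}) ≃* Cfsg.PGSp (n / 2) F)) → Cfsg.splitClassCount (Cfsg.inndiagPSL n F) (Cfsg.Inn (Matrix.ProjectiveSpecialLinearGroup (Fin n) F)) γ = Nat.gcd n (p ^ f - 1) / 2) ∧ (¬ (Even n ∧ Odd p) → Cfsg.splitClassCount (Cfsg.inndiagPSL n F) (Cfsg.Inn (Matrix.ProjectiveSpecialLinearGroup (Fin n) F)) γ = Nat.gcd n (p ^ f - 1)) := by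
  have hn2 : 2 ≤ n := by omega
  obtain ⟨A, rfl, hA⟩ := graph_class hγ hγ2
  have hq : Nat.card Fˣ = p ^ f - 1 := by rw [Nat.card_units, Nat.card_eq_fintype_card, hF]
  have hrange : ∀ d, ((powMonoidHom d : Fˣ →* Fˣ).range).index = Nat.gcd d (p ^ f - 1) := fun d => by
    rw [IsCyclic.index_powMonoidHom_range, hq, Nat.gcd_comm]
  have hdet : ∀ A : GL (Fin n) F, (A : Matrix (Fin n) (Fin n) F).det ≠ 0 :=
    fun A => ((Matrix.isUnit_iff_isUnit_det _).1 A.isUnit).ne_zero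
  have heven : Even n → Odd p → (CongrS (A : Matrix (Fin n) (Fin n) F) (Matrix.J (Fin (n / 2)) F)) ∨
      ((A : Matrix (Fin n) (Fin n) F)ᵀ = A ∧
        ¬ Nonempty (↥(Cfsg.inndiagPSL n F ⊓ Subgroup.centralizer {gam A}) ≃* Cfsg.PGSp (n / 2) F)) := by
    intro hev hp
    have h2 : (2 : F) ≠ 0 := OrthUnitaryForms.two_ne_zero_of_odd hF hp.pow
    obtain ⟨m, hnm⟩ : ∃ m, n = 2 * m := ⟨n / 2, by obtain ⟨k, rfl⟩ := hev; omega⟩
    have hm : n / 2 = m := by omega
    rw [hm]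
    rcases hA with hA | hA
    · right
      refine ⟨hA, ?_⟩
      rintro ⟨e⟩
      obtain ⟨a, b, hab⟩ := exists_aniso h2
      rcases classify_even h2 hnm hab hA (hdet A) with h | h
      · have h' := h.smul (2 : F)⁻¹
        rw [inv_smul_smul₀ h2] at h'
        obtain ⟨e'⟩ := centralizer_equiv hn2 ⟨_, inv_ne_zero h2, h'⟩ _ (mem_plus_sim h2 m)
        obtain ⟨k, rfl⟩ : ∃ k, m = k + 1 := ⟨m - 1, by omega⟩
        refine not_iso_of_card_isometry (F := F) (k + 1) (by omega) (quadFormPlus (k + 1) F) ?_ ⟨e.symm.trans e'⟩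
        rw [OrthUnitaryForms.card_isometryGroup_plus rfl, Nat.add_sub_cancel]
        exact Nat.mul_le_mul_right _ (Nat.mul_le_mul_left _ (by omega))
      · have h' := h.smul (2 : F)⁻¹
        rw [inv_smul_smul₀ h2] at h'
        obtain ⟨e'⟩ := centralizer_equiv hn2 ⟨_, inv_ne_zero h2, h'⟩ _ (mem_minus_sim h2 (m - 1) hab)
        refine not_iso_of_card_isometry (F := F) m (by omega) (quadFormMinus (m - 1) F a b) ?_ ⟨e.symm.trans e'⟩
        rw [OrthUnitaryForms.card_isometryGroup_minus rfl hab, show m - 1 + 1 = m by omega]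
    · left
      have halt : ∀ v, v ⬝ᵥ ((A : Matrix (Fin n) (Fin n) F) *ᵥ v) = 0 := by
        intro v
        have : v ⬝ᵥ ((A : Matrix (Fin n) (Fin n) F) *ᵥ v) = -(v ⬝ᵥ ((A : Matrix (Fin n) (Fin n) F) *ᵥ v)) := by
          conv_lhs => rw [dotProduct_mulVec, ← mulVec_transpose, hA, neg_mulVec, neg_dotProduct, dotProduct_comm]
        rw [eq_neg_iff_add_eq_zero, ← two_mul] at this
        exact (mul_eq_zero.1 this).resolve_left h2
      obtain ⟨m', hm', h⟩ := classify_alt halt (hdet A)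
      obtain rfl : m' = m := by omega
      exact ⟨1, one_ne_zero, by rwa [one_smul]⟩
  refine ⟨?_, ?_, ?_⟩
  · rintro ⟨hev, hp, hiso⟩
    rcases heven hev hp with h | ⟨-, h⟩
    · rw [split_gam hn2, simDet_skew hn2 h, hrange]
    · exact absurd hiso h
  · rintro ⟨hev, hp, hiso⟩
    rcases heven hev hp with h | ⟨hsym, -⟩
    · exact absurd (centralizer_equiv hn2 h _ (mem_GSp_iff _)) hiso
    · have h2 : (2 : F) ≠ 0 := OrthUnitaryForms.two_ne_zero_of_odd hF hp.pow
      obtain ⟨m, hnm⟩ : ∃ m, n = 2 * m := ⟨n / 2, by obtain ⟨k, rfl⟩ := hev; omega⟩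
      rw [split_gam hn2, simDet_sym h2 hn2 (by omega) hnm hsym, Subgroup.index_comap]
      have hle : (powMonoidHom n : Fˣ →* Fˣ).range ≤ (powMonoidHom 2 : Fˣ →* Fˣ).range := by
        rintro _ ⟨y, rfl⟩
        exact ⟨y ^ m, show (y ^ m) ^ 2 = y ^ n by rw [← pow_mul, mul_comm, ← hnm]⟩
      have e := Subgroup.relIndex_mul_index hle
      rw [hrange, hrange, Nat.gcd_eq_left (Nat.dvd_of_mod_eq_zero (by
        have : p ^ f % 2 = 1 := Nat.odd_iff.1 hp.pow
        omega))] at e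
      omega
  · intro hne
    rw [split_gam hn2, simDet_eq_range hn2, hrange]
    rcases Nat.even_or_odd n with hev | hod
    · right
      by_contra h2
      have h1 := QuadClassify.card_odd (F := F) h2
      have hp2 : p = 2 := ((Fact.out : p.Prime).eq_two_or_odd').resolve_right fun ho => hne ⟨hev, ho⟩
      rw [hF, hp2, Nat.pow_mod] at h1
      simp [Nat.one_le_iff_ne_zero.1 hf] at h1
    · exact Or.inl hod

end Cfsg.Agent.S2702
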