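import Cfsg.Statements.S2703
import Cfsg.Agent.Lib.AutPSLBasic
import Cfsg.Agent.Lib.AutPSLMain
import Cfsg.Agent.Lib.AutPSLApi
import Cfsg.Agent.Lib.AutPSLGraph
import Cfsg.Agent.Lib.AutPSLGraphForms
import Cfsg.Agent.Lib.FormCongruence
import Cfsg.Agent.Lib.OrthUnitaryForms
-- import your own Cfsg.Agent.* helpers here

set_option autoImplicit false
open Cfsg

namespace Cfsg.Agent.S2703

open Matrix
open Cfsg.Agent.AutPSLBasic Cfsg.Agent.AutPSLMain Cfsg.Agent.AutPSLGraph Cfsg.Agent.AutPSLGraphForms Cfsg.Agent.FormCongruence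

/-- Let T = PSL_n(F) over the field with q elements, q odd, n = 2m ≥ 4 even, and ι the inverse-transpose automorphism. Its centralizer in G = Inndiag(T) (the image of PGL_n(F)) is isomorphic to the projective conformal orthogonal group of the plus-type form Σ xᵢ yᵢ in dimension n when n(q − 1)/4 is even, and to that of a minus-type form (Σ xᵢ yᵢ + z₁² + a z₁ z₂ + b z₂² with anisotropic binary part) when n(q − 1)/4 is odd. -/
theorem result {F : Type*} [Field F] [Fintype F] (hodd : Odd (Fintype.card F)) {n m : ℕ} (hm : 2 ≤ m) (hnm : n = 2 * m) (ι : MulAut (Matrix.ProjectiveSpecialLinearGroup (Fin n) F)) (hι : Cfsg.IsInverseTransposeAutPSL ι) :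
    (Even (n * (Fintype.card F - 1) / 4) → Nonempty (↥(Cfsg.inndiagPSL n F ⊓ Subgroup.centralizer {ι}) ≃* Cfsg.PGO F (Cfsg.quadFormPlus m F))) ∧ (¬ Even (n * (Fintype.card F - 1) / 4) → ∃ a b : F, (∀ z₁ z₂ : F, z₁ ^ 2 + a * z₁ * z₂ + b * z₂ ^ 2 = 0 → z₁ = 0 ∧ z₂ = 0) ∧ Nonempty (↥(Cfsg.inndiagPSL n F ⊓ Subgroup.centralizer {ι}) ≃* Cfsg.PGO F (Cfsg.quadFormMinus (m - 1) F a b))) := by
  have h2 : (2 : F) ≠ 0 := OrthUnitaryForms.two_ne_zero_of_odd rfl hodd
  have hn2 : 2 ≤ n := by omega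
  obtain ⟨a, b, hab⟩ := exists_aniso h2
  have hι' : ι = gam 1 := by
    rw [(AutPSLApi.isInverseTranspose_iff ι).1 hι, gam, inv_one, map_one, one_mul]
  subst hι'
  have hcl := classify_even h2 hnm hab (A := (1 : Matrix (Fin n) (Fin n) F)) transpose_one (by rw [det_one]; exact one_ne_zero)
  set q := Fintype.card F with hq
  have hpar : Even (n * (q - 1) / 4) ↔ IsSquare ((-1 : F) ^ m) := by
    have hq1 : q % 2 = 1 := Nat.odd_iff.1 hodd
    obtain ⟨r, hr⟩ : ∃ r, q = 2 * r + 1 := ⟨q / 2, by omega⟩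
    have e : n * (q - 1) / 4 = m * r := by
      rw [hnm, hr, Nat.add_sub_cancel, show 2 * m * (2 * r) = 4 * (m * r) by ring, Nat.mul_div_cancel_left _ (by norm_num)]
    rw [e, Nat.even_mul]
    rcases Nat.even_or_odd m with hm' | hm'
    · simp [hm', hm'.neg_one_pow]
    · rw [hm'.neg_one_pow, or_iff_right (Nat.not_even_iff_odd.2 hm'), FiniteField.isSquare_neg_one_iff]
      rw [← hq, hr, Nat.even_iff]
      omega
  have hd : ((2 : F) • (1 : Matrix (Fin n) (Fin n) F)).det = (2 ^ m) ^ 2 := by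
    rw [det_smul, det_one, Fintype.card_fin, mul_one, ← pow_mul, hnm, mul_comm]
  refine ⟨fun he => ?_, fun he => ⟨a, b, hab, ?_⟩⟩
  · rcases hcl with h | h
    · have h' := h.smul (2 : F)⁻¹
      rw [inv_smul_smul₀ h2] at h'
      exact centralizer_equiv hn2 ⟨_, inv_ne_zero h2, h'⟩ _ (mem_plus_sim h2 m)
    · exfalso
      obtain ⟨s, hs, e⟩ := h.det_eq
      rw [hd, det_pMinus, show m - 1 + 1 = m by omega] at e
      obtain ⟨t, ht⟩ := hpar.1 he
      have ht0 : t ≠ 0 := fun e0 => pow_ne_zero m (neg_ne_zero.2 one_ne_zero) (by rw [ht, e0, mul_zero])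
      refine disc_not_square h2 hab ⟨2 ^ m / (s * t), ?_⟩
      rw [ht] at e
      field_simp
      linear_combination -e
  · rcases hcl with h | h
    · exfalso
      obtain ⟨s, hs, e⟩ := h.det_eq
      rw [hd, det_pPlus] at e
      refine he (hpar.2 ⟨2 ^ m / s, ?_⟩)
      field_simp
      linear_combination -e
    · have h' := h.smul (2 : F)⁻¹
      rw [inv_smul_smul₀ h2] at h'
      exact centralizer_equiv hn2 ⟨_, inv_ne_zero h2, h'⟩ _ (mem_minus_sim h2 (m - 1) hab)

end Cfsg.Agent.S2703
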