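import Cfsg.Statements.S2704
import Cfsg.Agent.Lib.AutPSLField

set_option autoImplicit false
open Cfsg

namespace Cfsg.Agent.S2704

/-- Let T = PSL_n(F) over the field F with p^f elements, n ≥ 3, and G = Inndiag(T) the image of PGL_n(F). If x is an involutory graph-field automorphism of T then f is even; x is G-conjugate to every other involutory graph-field automorphism; C_G(x) is isomorphic to the projective general unitary group PGU_n(q₀) with q₀² = p^f, realised over F itself through the Hermitian form Σ uᵢ vᵢ^{q₀}; and the G-class of x is the union of exactly gcd(n, q₀ − 1) T-classes. -/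
theorem result {F : Type*} [Field F] [Fintype F] {p f : ℕ} [Fact p.Prime] (hF : Fintype.card F = p ^ f) (hf : 1 ≤ f) {n : ℕ} (hn : 3 ≤ n) (x : MulAut (Matrix.ProjectiveSpecialLinearGroup (Fin n) F)) (hx : Cfsg.IsGraphFieldAutClassPSL x) (hx2 : orderOf x = 2) :
    Even f ∧ (∀ y : MulAut (Matrix.ProjectiveSpecialLinearGroup (Fin n) F), Cfsg.IsGraphFieldAutClassPSL y → orderOf y = 2 → Cfsg.IsConjUnder (Cfsg.inndiagPSL n F) x y) ∧ Nonempty (↥(Cfsg.inndiagPSL n F ⊓ Subgroup.centralizer {x}) ≃* Cfsg.PGU n F (p ^ (f / 2))) ∧ Cfsg.splitClassCount (Cfsg.inndiagPSL n F) (Cfsg.Inn (Matrix.ProjectiveSpecialLinearGroup (Fin n) F)) x = Nat.gcd n (p ^ (f / 2) - 1) := by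
  obtain ⟨-, h, σ, hσ, hx'⟩ := Cfsg.Agent.AutPSLField.graphField_class hx
  have hord : ∀ τ : F ≃+* F, orderOf (Cfsg.Agent.AutPSLBasic.fd τ * Cfsg.Agent.AutPSLBasic.it :
      MulAut (Matrix.ProjectiveSpecialLinearGroup (Fin n) F)) = 2 → τ * τ = 1 := fun τ hτ =>
    (Cfsg.Agent.AutPSLField.graphField_order hn τ Nat.prime_two hτ).2
  have hσ2 : σ * σ = 1 := hord σ (by rw [← hx2, hx', Cfsg.Agent.AutPSLField.orderOf_conj'])
  have hσo : ∀ τ : F ≃+* F, τ * τ = 1 → τ ≠ 1 → orderOf τ = 2 := fun τ h1 h2 =>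
    orderOf_eq_prime (by rw [pow_two, h1]) h2
  have h2f : 2 ∣ f := by
    rw [← hσo σ hσ2 hσ, ← Cfsg.Agent.AutPSLApi.card_ringAut hF hf]
    exact orderOf_dvd_natCard σ
  have hFq : Fintype.card F = (p ^ (f / 2)) ^ 2 := by rw [hF, ← pow_mul, Nat.div_mul_cancel h2f]
  have hfix : ∀ τ : F ≃+* F, τ * τ = 1 → τ ≠ 1 → Nat.card {y : F // τ y = y} = p ^ (f / 2) := by
    intro τ h1 h2
    have h3 := Cfsg.Agent.GaloisDescentGL.card_fixed τ
    rw [hσo τ h1 h2, Nat.card_eq_fintype_card (α := F), hFq] at h3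
    exact Nat.pow_left_injective two_ne_zero h3
  have hpow : ∀ τ : F ≃+* F, τ * τ = 1 → τ ≠ 1 → ∀ a, τ a = a ^ (p ^ (f / 2)) := fun τ h1 h2 =>
    Cfsg.Agent.AutPSLField.involution_eq_pow τ h1 h2 (hfix τ h1 h2) hFq
  refine ⟨even_iff_two_dvd.2 h2f, ?_, ?_, ?_⟩
  · intro y hy hy2
    obtain ⟨-, h', τ, hτ, hy'⟩ := Cfsg.Agent.AutPSLField.graphField_class hy
    have hτ2 : τ * τ = 1 := hord τ (by rw [← hy2, hy', Cfsg.Agent.AutPSLField.orderOf_conj'])
    have : τ = σ := RingEquiv.ext fun a => by rw [hpow τ hτ2 hτ, hpow σ hσ2 hσ]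
    subst this
    refine ⟨Cfsg.Agent.AutPSLBasic.cj (h' * h⁻¹), (Cfsg.Agent.AutPSLApi.mem_inndiag _).2 ⟨_, rfl⟩, ?_⟩
    rw [hy', hx']
    simp [mul_assoc]
  · rw [hx']
    exact Cfsg.Agent.AutPSLField.graphField_centralizer hn σ hσ2 hσ _ (hpow σ hσ2 hσ) h
  · rw [hx', Cfsg.Agent.AutPSLField.graphField_split hn σ hσ2 hσ, ← hfix σ hσ2 hσ,
      ← Cfsg.Agent.GaloisDescentGL.card_fixedUnits σ, Nat.add_sub_cancel]

end Cfsg.Agent.S2704
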