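import Cfsg.Statements.S2705
import Cfsg.Agent.Lib.AutPSU52Field

set_option autoImplicit false
open Cfsg

namespace Cfsg.Agent.S2705

/-- Let T = PSU_n(q) be simple (n ≥ 3, (n, q) ≠ (3, 2), q = p^f), realised over the field F with q² elements, G = Inndiag(T) the image of PGU_n(q) in Aut(T), and x a field automorphism of T (conjugate to a standard field automorphism of odd order) of odd prime order r. Then r divides f; C_G(x) is isomorphic to PGU_n(q₀) with q₀ = p^(f/r), realised over a field F₀ with q₀² elements; and the G-class of x is the union of exactly gcd(n, (q + 1)/(q₀ + 1)) T-classes. -/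
theorem result {F : Type*} [Field F] [Fintype F] {p f q : ℕ} [Fact p.Prime] (hq : q = p ^ f) (hf : 1 ≤ f) (hF : Fintype.card F = q ^ 2) {n : ℕ} (hn : 3 ≤ n) (hs : ¬ (n = 3 ∧ q = 2)) (x : MulAut (Cfsg.PSU n F q)) (hx : Cfsg.IsFieldAutClassPSU x) {r : ℕ} (hr : r.Prime) (hro : Odd r) (hxr : orderOf x = r) (F₀ : Type*) [Field F₀] [Fintype F₀] (hF₀ : Fintype.card F₀ = p ^ (2 * (f / r))) :
    r ∣ f ∧ Nonempty (↥(Cfsg.inndiagPSU n F q ⊓ Subgroup.centralizer {x}) ≃* Cfsg.PGU n F₀ (p ^ (f / r))) ∧ Cfsg.splitClassCount (Cfsg.inndiagPSU n F q) (Cfsg.Inn (Cfsg.PSU n F q)) x = Nat.gcd n ((q + 1) / (p ^ (f / r) + 1)) := by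
  classical
  obtain ⟨h, σ, hσ, hodd, rfl⟩ := Cfsg.Agent.AutPSU52Field.field_class hF hn hs hx
  have hor : orderOf σ = r := by
    rw [Cfsg.Agent.AutPSLField.orderOf_conj',
      orderOf_injective (Cfsg.Agent.AutPSU52Basic.fd (n := n) (F := F) (q := q))
        (Cfsg.Agent.AutPSU52Field.fd_injective hF hn)] at hxr
    exact hxr
  have hF' : Fintype.card F = p ^ (2 * f) := by rw [hF, hq, ← pow_mul, mul_comm]
  have hrf : r ∣ f := by
    have h1 : r ∣ 2 * f := by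
      rw [← hor, ← Cfsg.Agent.AutPSLApi.card_ringAut hF' (by omega)]
      exact orderOf_dvd_natCard σ
    refine (Nat.Coprime.dvd_of_dvd_mul_left ?_ h1)
    rcases hr.eq_two_or_odd' with h2 | h2
    · exact absurd hro (by rw [h2]; decide)
    · exact Nat.coprime_two_right.2 h2
  set q₀ := p ^ (f / r) with hq₀'
  have hq₀ : q₀ ^ orderOf σ = q := by
    rw [hor, hq₀', ← pow_mul, Nat.div_mul_cancel hrf, hq]
  refine ⟨hrf, ?_, Cfsg.Agent.AutPSU52Field.field_split hF hn σ hodd hq₀ h⟩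
  have hF₀' : Fintype.card F₀ = q₀ ^ 2 := by rw [hF₀, hq₀', ← pow_mul, mul_comm]
  haveI : Fintype (Cfsg.Agent.AutPSU52Lang.Kf σ) := Fintype.ofFinite _
  let e : F₀ ≃+* Cfsg.Agent.AutPSU52Lang.Kf σ := FiniteField.ringEquivOfCardEq
    (hF₀'.trans (Cfsg.Agent.AutPSU52Lang.card_Kf σ hF hq₀).symm)
  refine Cfsg.Agent.AutPSU52Field.field_centralizer hF hn σ hodd hq₀ h hF₀'
    ((Cfsg.Agent.AutPSU52Lang.Kf σ).subtype.comp (e : F₀ →+* Cfsg.Agent.AutPSU52Lang.Kf σ))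
    fun x => ⟨fun hx => ?_, ?_⟩
  · exact ⟨e.symm ⟨x, hx⟩, by simp⟩
  · rintro ⟨y, rfl⟩
    exact (e y).2

end Cfsg.Agent.S2705
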