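import Cfsg.Statements.S2706
import Cfsg.Agent.Lib.AutPSU52Graph
import Cfsg.Agent.Lib.AutPSU52GraphSplit
import Cfsg.Agent.Lib.AutPSLGraphForms
import Cfsg.Agent.Lib.FormCongruence
import Cfsg.Agent.S2699
import Cfsg.Agent.S0304
-- import your own Cfsg.Agent.* helpers here

set_option autoImplicit false
open Cfsg

namespace Cfsg.Agent.S2706

open Matrix
open Cfsg.Agent.AutPSU52Basic Cfsg.Agent.AutPSU52Api Cfsg.Agent.AutPSU52Graph Cfsg.Agent.AutPSU52GraphSplit
open Cfsg.Agent.FormCongruence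


/-- Let T = PSU_n(q) be simple with n = 2m + 1 ≥ 3 odd, realised over the field F with q² elements, and G = Inndiag(T) the image of PGU_n(q). Every involutory graph automorphism γ of T (an inner-diagonal automorphism times a standard field automorphism of even order, of order 2) has centralizer C_G(γ) isomorphic to the projective conformal orthogonal group of the form x₀² + Σ xᵢ yᵢ in dimension n over a field F₀ with q elements, and any two involutory graph automorphisms of T are G-conjugate. -/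
theorem result {F : Type*} [Field F] [Fintype F] {p f q : ℕ} [Fact p.Prime] (hq : q = p ^ f) (hf : 1 ≤ f) (hF : Fintype.card F = q ^ 2) {n : ℕ} (hn : 3 ≤ n) (hs : ¬ (n = 3 ∧ q = 2)) {m : ℕ} (hnm : n = 2 * m + 1) (F₀ : Type*) [Field F₀] [Fintype F₀] (hF₀ : Fintype.card F₀ = q) (γ γ' : MulAut (Cfsg.PSU n F q)) (hγ : Cfsg.IsGraphAutClassPSU γ) (hγ2 : orderOf γ = 2) (hγ' : Cfsg.IsGraphAutClassPSU γ') (hγ'2 : orderOf γ' = 2) :
    Nonempty (↥(Cfsg.inndiagPSU n F q ⊓ Subgroup.centralizer {γ}) ≃* Cfsg.PGO F₀ (Cfsg.quadFormOdd m F₀)) ∧ Cfsg.IsConjUnder (Cfsg.inndiagPSU n F q) γ γ' := by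
  obtain ⟨σ, hσ, hσ2⟩ := exists_frob hF
  obtain ⟨emb, he⟩ := exists_embed σ hF hF₀ hσ
  obtain ⟨N, hN, hN'⟩ := exists_rep hF hn hσ hσ2 he hγ hγ2
  obtain ⟨N', hM, hM'⟩ := exists_rep hF hn hσ hσ2 he hγ' hγ'2
  by_cases h2 : (2 : F₀) = 0
  · haveI : CharP F₀ 2 := CharTwo.of_one_ne_zero_of_two_eq_zero one_ne_zero h2
    have key : ∀ (β : MulAut (Cfsg.PSU n F q)) (N : Matrix (Fin n) (Fin n) F₀), Rep σ emb β N →
        (Nᵀ = N ∨ Nᵀ = -N) → Rep σ emb β (nOdd m F₀) := by
      rintro β N ⟨D⟩ hN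
      have hN' : Nᵀ = N := hN.elim id fun e => e.trans (by ext i j; exact CharTwo.neg_eq _)
      rcases classify_two hN' D.det_ne_zero with h | ⟨m', hm', h⟩ | ⟨k, hk, -⟩
      · obtain ⟨k, hk, -⟩ := classify_alt h D.det_ne_zero
        omega
      · obtain rfl : m' = m := by omega
        exact Rep.congr he ⟨D⟩ ⟨1, one_ne_zero, by rwa [one_smul]⟩
      · omega
    refine ⟨?_, isConj_of_rep hF hn hσ he (key γ N hN hN') (key γ' N' hM hM')⟩
    obtain ⟨e1⟩ := centralizer_equiv_isometry hF hn hσ he (key γ N hN hN') h2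
      (QuadClassify.isSquare_of_two_eq_zero h2) (S2699.spHom m) (S2699.spHom_injective m)
      S2699.spHom_range
    obtain ⟨e2⟩ := S0304.result (F := F₀) m
    obtain ⟨e3⟩ := AutPSLGraphForms.pgo_equiv_isometry h2 (quadFormOdd m F₀)
      (AutPSLGraphForms.odd_smul m) ⟨Sum.elim (fun _ => 1) 0, by simp [quadFormOdd]⟩
    exact ⟨e1.trans (e2.symm.trans e3.symm)⟩
  · have key : ∀ (β : MulAut (Cfsg.PSU n F q)) (N : Matrix (Fin n) (Fin n) F₀), Rep σ emb β N →
        (Nᵀ = N ∨ Nᵀ = -N) → Rep σ emb β (pOdd m F₀) := by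
      rintro β N ⟨D⟩ hN
      refine Rep.congr he ⟨D⟩ (classify_odd h2 hnm (hN.resolve_right fun e => D.det_ne_zero ?_)
        D.det_ne_zero)
      have := congrArg Matrix.det e
      rw [det_transpose, det_neg, Fintype.card_fin, (Odd.neg_one_pow ⟨m, hnm⟩), neg_one_mul] at this
      have h3 : (2 : F₀) * N.det = 0 := by linear_combination this
      exact (mul_eq_zero.1 h3).resolve_left h2
    exact ⟨centralizer_equiv hF hn hσ he (key γ N hN hN') _ (AutPSLGraphForms.mem_odd_sim h2 m),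
      isConj_of_rep hF hn hσ he (key γ N hN hN') (key γ' N' hM hM')⟩

end Cfsg.Agent.S2706
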