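import Cfsg.Statements.S2707
import Cfsg.Agent.Lib.AutPSU52Graph
import Cfsg.Agent.Lib.AutPSU52GraphSplit
import Cfsg.Agent.Lib.AutPSLGraphForms
import Cfsg.Agent.Lib.FormCongruence
-- import your own Cfsg.Agent.* helpers here

set_option autoImplicit false
open Cfsg

namespace Cfsg.Agent.S2707

open Matrix
open Cfsg.Agent.AutPSU52Basic Cfsg.Agent.AutPSU52Api Cfsg.Agent.AutPSU52Graph Cfsg.Agent.AutPSU52GraphSplit
open Cfsg.Agent.FormCongruence


/-- Let T = PSU_n(q) with n = 2m ≥ 4 even and q odd, realised over the field F with q² elements, and G = Inndiag(T) the image of PGU_n(q). The involutory graph automorphisms of T fall into exactly three G-classes, with representatives whose centralizers in G are isomorphic respectively to the projective conformal symplectic group PGSp_n(F₀), the projective conformal orthogonal group of the plus-type form Σ xᵢ yᵢ, and that of a minus-type form Σ xᵢ yᵢ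 + z₁² + a z₁ z₂ + b z₂² (anisotropic binary part) in dimension n, all over a field F₀ with q elements. -/
theorem result {F : Type*} [Field F] [Fintype F] {q : ℕ} (hodd : Odd q) (hF : Fintype.card F = q ^ 2) {n m : ℕ} (hm : 2 ≤ m) (hnm : n = 2 * m) (F₀ : Type*) [Field F₀] [Fintype F₀] (hF₀ : Fintype.card F₀ = q) :
    ∃ (γ₁ γ₂ γ₃ : MulAut (Cfsg.PSU n F q)) (a b : F₀), (∀ z₁ z₂ : F₀, z₁ ^ 2 + a * z₁ * z₂ + b * z₂ ^ 2 = 0 → z₁ = 0 ∧ z₂ = 0) ∧ Cfsg.IsGraphAutClassPSU γ₁ ∧ orderOf γ₁ = 2 ∧ Cfsg.IsGraphAutClassPSU γ₂ ∧ orderOf γ₂ = 2 ∧ Cfsg.IsGraphAutClassPSU γ₃ ∧ orderOf γ₃ = 2 ∧ ¬ Cfsg.IsConjUnder (Cfsg.inndiagPSU n F q) γ₁ γ₂ ∧ ¬ Cfsg.IsConjUnder (Cfsg.inndiagPSU n F q) γ₁ γ₃ ∧ ¬ Cfsg.IsConjUnder (Cfsg.inndiagPSU n F q) γ₂ γ₃ ∧ (∀ γ : MulAut (Cfsg.PSU n F q), Cfsg.IsGraphAutClassPSU γ → orderOf γ = 2 → Cfsg.IsConjUnder (Cfsg.inndiagPSU n F q) γ₁ γ ∨ Cfsg.IsConjUnder (Cfsg.inndiagPSU n F q) γ₂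 γ ∨ Cfsg.IsConjUnder (Cfsg.inndiagPSU n F q) γ₃ γ) ∧ Nonempty (↥(Cfsg.inndiagPSU n F q ⊓ Subgroup.centralizer {γ₁}) ≃* Cfsg.PGSp m F₀) ∧ Nonempty (↥(Cfsg.inndiagPSU n F q ⊓ Subgroup.centralizer {γ₂}) ≃* Cfsg.PGO F₀ (Cfsg.quadFormPlus m F₀)) ∧ Nonempty (↥(Cfsg.inndiagPSU n F q ⊓ Subgroup.centralizer {γ₃}) ≃* Cfsg.PGO F₀ (Cfsg.quadFormMinus (m - 1) F₀ a b)) := by
  have h2 : (2 : F₀) ≠ 0 := two_ne_zero_small hF₀ hodd
  have hn : 3 ≤ n := by omega
  obtain ⟨a, b, hab⟩ := exists_aniso h2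
  obtain ⟨σ, hσ, hσ2⟩ := exists_frob hF
  obtain ⟨emb, he⟩ := exists_embed σ hF hF₀ hσ
  obtain ⟨γ₁, g1, o1, r1⟩ := exists_of_form (σ := σ) (emb := emb) (n := n) hF hn hσ hσ2 he
    (Matrix.J (Fin m) F₀) (det_J_ne_zero m) (by simp; omega)
    (Or.inr (AutPSLGraphForms.sympTranspose m))
  obtain ⟨γ₂, g2, o2, r2⟩ := exists_of_form (σ := σ) (emb := emb) (n := n) hF hn hσ hσ2 he
    (pPlus m F₀) (AutPSLGraphForms.det_pPlus_ne_zero m) (by simp; omega)
    (Or.inl (pPlus_transpose m))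
  obtain ⟨γ₃, g3, o3, r3⟩ := exists_of_form (σ := σ) (emb := emb) (n := n) hF hn hσ hσ2 he
    (pMinus (m - 1) F₀ a b) (AutPSLGraphForms.det_pMinus_ne_zero h2 (m - 1) hab) (by simp; omega)
    (Or.inl (pMinus_transpose (m - 1) a b))
  have hne : ∀ {κ : Type} [Fintype κ] [DecidableEq κ] (M : Matrix κ κ F₀), M.det ≠ 0 → Mᵀ = M →
      0 < Fintype.card κ → ¬ CongrS M (Matrix.J (Fin m) F₀) := by
    intro κ _ _ M hd hM hc hcon
    obtain ⟨u, -, hc'⟩ := hcon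
    have e := hc'.skew (by rw [transpose_smul, AutPSLGraphForms.sympTranspose, smul_neg])
    rw [hM] at e
    haveI : Nonempty κ := Fintype.card_pos_iff.1 hc
    refine hd ?_
    have : M = 0 := by
      ext i j
      have := congrFun (congrFun e i) j
      rw [Matrix.neg_apply, eq_neg_iff_add_eq_zero, ← two_mul] at this
      exact (mul_eq_zero.1 this).resolve_left h2
    rw [this, det_zero]
  refine ⟨γ₁, γ₂, γ₃, a, b, hab, g1, o1, g2, o2, g3, o3, ?_, ?_, ?_, ?_,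
    centralizer_equiv hF hn hσ he r1 _ (AutPSLGraphForms.mem_GSp_iff m),
    centralizer_equiv hF hn hσ he r2 _ (AutPSLGraphForms.mem_plus_sim h2 m),
    centralizer_equiv hF hn hσ he r3 _ (AutPSLGraphForms.mem_minus_sim h2 _ hab)⟩
  · exact fun h => hne _ (AutPSLGraphForms.det_pPlus_ne_zero m) (pPlus_transpose m)
      (by simp; omega) (congrS_of_isConj hF hn hσ he r1 r2 h)
  · exact fun h => hne _ (AutPSLGraphForms.det_pMinus_ne_zero h2 (m - 1) hab)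
      (pMinus_transpose (m - 1) a b) (by simp) (congrS_of_isConj hF hn hσ he r1 r3 h)
  · intro h
    obtain ⟨u, hu, hc⟩ := congrS_of_isConj hF hn hσ he r2 r3 h
    obtain ⟨s, hs, e⟩ := hc.det_eq
    rw [det_smul, det_pPlus, det_pMinus, show m - 1 + 1 = m by omega, Fintype.card_sum,
      Fintype.card_fin] at e
    refine disc_not_square h2 hab ⟨s * u ^ m, ?_⟩
    refine mul_left_cancel₀ (pow_ne_zero m (neg_ne_zero.2 one_ne_zero) : (-1 : F₀) ^ m ≠ 0) ?_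
    rw [e]; ring
  · intro γ hγ hγ2
    obtain ⟨N, hN, hN' | hN'⟩ := exists_rep hF hn hσ hσ2 he hγ hγ2
    · rcases classify_even_rep he h2 hnm hab hN hN' with h | h
      · exact Or.inr (Or.inl (isConj_of_rep hF hn hσ he r2 h))
      · exact Or.inr (Or.inr (isConj_of_rep hF hn hσ he r3 h))
    · exact Or.inl (isConj_of_rep hF hn hσ he r1 (rep_J_of_alt he hnm hN (alt_of_skew h2 hN')))

end Cfsg.Agent.S2707
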