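import Cfsg.Statements.S2708
import Cfsg.Agent.Lib.AutPSU52Graph
import Cfsg.Agent.Lib.AutPSU52GraphSplit
import Cfsg.Agent.Lib.AutPSLGraphForms
import Cfsg.Agent.Lib.FormCongruence
import Cfsg.Agent.S2701
import Cfsg.Agent.Lib.SymplecticTransv
-- import your own Cfsg.Agent.* helpers here

set_option autoImplicit false
open Cfsg

namespace Cfsg.Agent.S2708

open Matrix
open Cfsg.Agent.AutPSU52Basic Cfsg.Agent.AutPSU52Api Cfsg.Agent.AutPSU52Graph Cfsg.Agent.AutPSU52GraphSplit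
open Cfsg.Agent.FormCongruence


/-- Let T = PSU_n(q) with n = 2m ≥ 4 even and q even, realised over the field F (of characteristic 2) with q² elements, and G = Inndiag(T) the image of PGU_n(q). The involutory graph automorphisms of T fall into exactly two G-classes, with representatives whose centralizers in G are isomorphic respectively to the symplectic group Sp_n(F₀) and to the centralizer in Sp_n(F₀) of a symplectic transvection, F₀ a field with q elements. -/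
theorem result {F : Type*} [Field F] [Fintype F] [CharP F 2] {q : ℕ} (hF : Fintype.card F = q ^ 2) {n m : ℕ} (hm : 2 ≤ m) (hnm : n = 2 * m) (F₀ : Type*) [Field F₀] [Fintype F₀] (hF₀ : Fintype.card F₀ = q) :
    ∃ (γ₁ γ₃ : MulAut (Cfsg.PSU n F q)) (t : ↥(Matrix.symplecticGroup (Fin m) F₀)), Cfsg.IsTransvection (t : Matrix (Fin m ⊕ Fin m) (Fin m ⊕ Fin m) F₀) ∧ Cfsg.IsGraphAutClassPSU γ₁ ∧ orderOf γ₁ = 2 ∧ Cfsg.IsGraphAutClassPSU γ₃ ∧ orderOf γ₃ = 2 ∧ ¬ Cfsg.IsConjUnder (Cfsg.inndiagPSU n F q) γ₁ γ₃ ∧ (∀ γ : MulAut (Cfsg.PSU n F q), Cfsg.IsGraphAutClassPSU γ → orderOf γ = 2 → Cfsg.IsConjUnder (Cfsg.inndiagPSU n F q) γ₁ γ ∨ Cfsg.IsConjUnder (Cfsg.inndiagPSU n F q) γ₃ γ) ∧ Nonempty (↥(Cfsg.inndiagPSU n F q ⊓ Subgroup.centralizer {γ₁}) ≃* ↥(Matrix.symplecticGroup (Fin m) F₀)) ∧ Nonempty (↥(Cfsg.inndiagPSU n F q ⊓ Subgroup.centralizer {γ₃}) ≃* ↥(Subgroup.centralizer ({t} : Set ↥(Matrix.symplecticGroup (Fin m) F₀)))) :=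 by
  obtain ⟨k, rfl⟩ : ∃ k, m = k + 1 := ⟨m - 1, by omega⟩
  have hn : 3 ≤ n := by omega
  obtain ⟨σ, hσ, hσ2⟩ := exists_frob hF
  obtain ⟨emb, he⟩ := exists_embed σ hF hF₀ hσ
  have h2 : (2 : F₀) = 0 := emb.injective (by rw [map_ofNat, map_zero]; exact CharTwo.two_eq_zero)
  haveI : CharP F₀ 2 := CharTwo.of_one_ne_zero_of_two_eq_zero one_ne_zero h2
  have s1 : (Matrix.J (Fin (k + 1)) F₀)ᵀ = Matrix.J (Fin (k + 1)) F₀ :=
    (AutPSLGraphForms.sympTranspose (k + 1)).trans (by ext i j; exact CharTwo.neg_eq _)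
  have s3 : (nNonAlt k F₀)ᵀ = nNonAlt k F₀ := by
    rw [nNonAlt, transpose_add, transpose_vecMulVec, s1]
  obtain ⟨γ₁, g1, o1, r1⟩ := exists_of_form (σ := σ) (emb := emb) (n := n) hF hn hσ hσ2 he
    (Matrix.J (Fin (k + 1)) F₀) (det_J_ne_zero _) (by simp; omega) (Or.inl s1)
  obtain ⟨γ₃, g3, o3, r3⟩ := exists_of_form (σ := σ) (emb := emb) (n := n) hF hn hσ hσ2 he
    (nNonAlt k F₀) (det_nNonAlt_ne_zero k) (by simp; omega) (Or.inl s3)
  have hsq : ∀ c : F₀, IsSquare c := QuadClassify.isSquare_of_two_eq_zero h2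
  refine ⟨γ₁, γ₃, SymplecticBasic.transv (Pi.single (Sum.inr 0) 1) 1, ⟨?_, ?_⟩, g1, o1, g3, o3,
    ?_, ?_, ?_, ?_⟩
  · exact SymplecticTransv.rank_transv_sub_one (by simp) one_ne_zero
  · rw [SymplecticBasic.coe_transv, sympTransvection, add_sub_cancel_left, one_smul,
      vecMulVec_mul_vecMulVec, dotProduct_comm]
    simp [Matrix.J]
  · intro h
    obtain ⟨u, hu, hc⟩ := congrS_of_isConj hF hn hσ he r1 r3 h
    have halt := hc.alternating (fun v => by
      rw [smul_mulVec, dotProduct_smul, show v ⬝ᵥ (Matrix.J (Fin (k + 1)) F₀ *ᵥ v) = 0 from SymplecticBasic.form_self v, smul_zero])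
    have := halt (Pi.single (Sum.inl 0) 1)
    rw [nNonAlt_mulVec, SymplecticBasic.form_self] at this
    simp at this
  · intro γ hγ hγ2
    obtain ⟨N, hN, hN'⟩ := exists_rep hF hn hσ hσ2 he hγ hγ2
    have hN'' : Nᵀ = N := hN'.elim id fun e => e.trans (by ext i j; exact CharTwo.neg_eq _)
    obtain ⟨D⟩ := hN
    rcases classify_two hN'' D.det_ne_zero with h | ⟨m', hm', -⟩ | ⟨k', hk', h⟩
    · exact Or.inl (isConj_of_rep hF hn hσ he r1 (rep_J_of_alt he hnm ⟨D⟩ h))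
    · omega
    · obtain rfl : k' = k := by omega
      exact Or.inr (isConj_of_rep hF hn hσ he r3 (Rep.congr he ⟨D⟩ ⟨1, one_ne_zero, by rwa [one_smul]⟩))
  · exact centralizer_equiv_isometry hF hn hσ he r1 h2 hsq (S2701.spGLHom (k + 1))
      (S2701.spGLHom_injective _) (S2701.spGLHom_range _)
  · exact centralizer_equiv_isometry hF hn hσ he r3 h2 hsq _
      ((S2701.spGLHom_injective _).comp Subtype.val_injective) (S2701.nonAlt_range k)

end Cfsg.Agent.S2708
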