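import Cfsg.Statements.S2709
import Cfsg.Agent.Lib.AutPSU52Graph
import Cfsg.Agent.Lib.AutPSU52GraphSplit
import Cfsg.Agent.Lib.AutPSLGraphForms
import Cfsg.Agent.Lib.FormCongruence
-- import your own Cfsg.Agent.* helpers here

set_option autoImplicit false
open Cfsg

namespace Cfsg.Agent.S2709

open Matrix
open Cfsg.Agent.AutPSU52Basic Cfsg.Agent.AutPSU52Api Cfsg.Agent.AutPSU52Graph Cfsg.Agent.AutPSU52GraphSplit
open Cfsg.Agent.FormCongruence


/-- Let T = PSU_n(q) be simple (n ≥ 3, (n,q) ≠ (3,2), q = p^f), realised over the field F with q² elements, G = Inndiag(T) the image of PGU_n(q), and γ an involutory graph automorphism of T. The G-class of γ is the union of exactly c T-classes, where: if n is even and q is odd, c = gcd(n/2, q + 1) when C_G(γ) is isomorphic to PGSp_n(F₀) for a field F₀ with q elements (symplectic type) and c = gcd(n, q + 1)/2 otherwise; and c = gcd(n, q + 1) when n is odd or q is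 even. -/
theorem result {F : Type*} [Field F] [Fintype F] {p f q : ℕ} [Fact p.Prime] (hq : q = p ^ f) (hf : 1 ≤ f) (hF : Fintype.card F = q ^ 2) {n : ℕ} (hn : 3 ≤ n) (hs : ¬ (n = 3 ∧ q = 2)) (F₀ : Type*) [Field F₀] [Fintype F₀] (hF₀ : Fintype.card F₀ = q) (γ : MulAut (Cfsg.PSU n F q)) (hγ : Cfsg.IsGraphAutClassPSU γ) (hγ2 : orderOf γ = 2) :
    ((Even n ∧ Odd q ∧ Nonempty (↥(Cfsg.inndiagPSU n F q ⊓ Subgroup.centralizer {γ}) ≃* Cfsg.PGSp (n / 2) F₀)) → Cfsg.splitClassCount (Cfsg.inndiagPSU n F q) (Cfsg.Inn (Cfsg.PSU n F q)) γ = Nat.gcd (n / 2) (q + 1)) ∧ ((Even n ∧ Odd q ∧ ¬ Nonempty (↥(Cfsg.inndiagPSU n F q ⊓ Subgroup.centralizer {γ}) ≃* Cfsg.PGSp (n / 2) F₀)) → Cfsg.splitClassCount (Cfsg.inndiagPSU n F q) (Cfsg.Inn (Cfsg.PSU n F q)) γ = Nat.gcd n (q + 1) / 2) ∧ (¬ (Even n ∧ Odd q) → Cfsg.splitClassCount (Cfsg.inndiagPSU n F q) (Cfsg.Inn (Cfsg.PSU n F q)) γ = Nat.gcd n (q + 1)) := by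
  obtain ⟨σ, hσ, hσ2⟩ := exists_frob hF
  obtain ⟨emb, he⟩ := exists_embed σ hF hF₀ hσ
  obtain ⟨N, hN, hN'⟩ := exists_rep hF hn hσ hσ2 he hγ hγ2
  obtain ⟨D⟩ := hN
  have heven : Even n → Odd q → Rep σ emb γ (Matrix.J (Fin (n / 2)) F₀) ∨
      (Nᵀ = N ∧ ¬ Nonempty (↥(Cfsg.inndiagPSU n F q ⊓ Subgroup.centralizer {γ})
        ≃* Cfsg.PGSp (n / 2) F₀)) := by
    intro hev hodd
    have h2 : (2 : F₀) ≠ 0 := two_ne_zero_small hF₀ hodd
    have hnm : n = 2 * (n / 2) := (Nat.two_mul_div_two_of_even hev).symm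
    rcases hN' with hN' | hN'
    · exact Or.inr ⟨hN', not_sp_of_sym hF hn hσ he h2 hnm ⟨D⟩ hN'⟩
    · exact Or.inl (rep_J_of_alt he hnm ⟨D⟩ (alt_of_skew h2 hN'))
  refine ⟨?_, ?_, ?_⟩
  · rintro ⟨hev, hodd, hiso⟩
    rcases heven hev hodd with ⟨⟨D'⟩⟩ | ⟨-, h⟩
    · rw [split_eq hF (by omega), detCent_skew hF hn hσ he D', index_range hF]
    · exact absurd hiso h
  · rintro ⟨hev, hodd, hiso⟩
    rcases heven hev hodd with h | ⟨hsym, -⟩
    · exact absurd (centralizer_equiv hF hn hσ he h _ (AutPSLGraphForms.mem_GSp_iff _)) hiso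
    · have hnm : n = 2 * (n / 2) := (Nat.two_mul_div_two_of_even hev).symm
      rw [split_eq hF (by omega), detCent_sym hF hn hσ he (two_ne_zero_small hF₀ hodd) hnm D hsym,
        index_sym hF hodd hnm]
  · intro hne
    rw [split_eq hF (by omega), detCent_eq_range hF hn hσ he D, index_range hF]
    rcases Nat.even_or_odd n with hev | hod
    · exact Or.inr ((Nat.not_odd_iff_even.1 fun h => hne ⟨hev, h⟩).add_one)
    · exact Or.inl hod

end Cfsg.Agent.S2709
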