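import Cfsg.Statements.S2710
import Cfsg.Agent.Lib.AutPSU52Graph
import Cfsg.Agent.Lib.AutPSU52GraphSplit
import Cfsg.Agent.Lib.AutPSLGraphForms
import Cfsg.Agent.Lib.FormCongruence
-- import your own Cfsg.Agent.* helpers here

set_option autoImplicit false
open Cfsg

namespace Cfsg.Agent.S2710

open Matrix
open Cfsg.Agent.AutPSU52Basic Cfsg.Agent.AutPSU52Api Cfsg.Agent.AutPSU52Graph Cfsg.Agent.AutPSU52GraphSplit
open Cfsg.Agent.FormCongruence


/-- Let T = PSU_n(q) with n ≥ 4 divisible by 4 (n = 2m) and q odd, realised over the field F with q² elements, G = Inndiag(T) the image of PGU_n(q), and φ the standard field automorphism of T attached to the q-th power map of F (it induces inverse-transpose on the unitary matrices and is a graph automorphism). Its centralizer in G is isomorphic to the projective conformal orthogonal group of the plus-type form Σ xᵢ yᵢ in dimension n over a field F₀ with q elements. (Dimensions n ≡ 2 (mod 4) are not covered.) -/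
theorem result {F : Type*} [Field F] [Fintype F] {q : ℕ} (hodd : Odd q) (hF : Fintype.card F = q ^ 2) {n m : ℕ} (hm : 2 ≤ m) (hnm : n = 2 * m) (h4 : 4 ∣ n) (F₀ : Type*) [Field F₀] [Fintype F₀] (hF₀ : Fintype.card F₀ = q) (σ : F ≃+* F) (hσ : ∀ a : F, σ a = a ^ q) (φ : MulAut (Cfsg.PSU n F q)) (hφ : Cfsg.IsFieldAutPSUOf σ φ) :
    Nonempty (↥(Cfsg.inndiagPSU n F q ⊓ Subgroup.centralizer {φ}) ≃* Cfsg.PGO F₀ (Cfsg.quadFormPlus m F₀)) := by
  have h2 : (2 : F₀) ≠ 0 := two_ne_zero_small hF₀ hodd
  have hn : 3 ≤ n := by omega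
  obtain ⟨emb, he⟩ := exists_embed σ hF hF₀ hσ
  obtain ⟨a, b, hab⟩ := exists_aniso h2
  have hrep : Rep σ emb φ (1 : Matrix (Fin n) (Fin n) F₀) :=
    ⟨{ b := 1, b' := 1, θ := 1, s := 1, a := 1, hb := Matrix.mul_one 1, hb' := Matrix.mul_one 1,
       hθ := one_ne_zero,
       hN := by
        rw [transpose_one, Matrix.one_mul, AutPSU52Graph.map_one',
          Matrix.map_one emb (map_zero emb) (map_one emb), one_smul],
       ha := by
        rw [AutPSU52Graph.map_one', Matrix.mul_one, one_smul]
        rfl,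
       hγ := by rw [(isField_iff σ φ).1 hφ, map_one, one_mul] }⟩
  have hcl := classify_even h2 hnm hab (A := (1 : Matrix (Fin n) (Fin n) F₀)) transpose_one
    (by rw [det_one]; exact one_ne_zero)
  rcases hcl with h | h
  · refine centralizer_equiv hF hn hσ he (Rep.congr he hrep ⟨2⁻¹, inv_ne_zero h2, ?_⟩) _
      (AutPSLGraphForms.mem_plus_sim h2 m)
    have := h.smul (2 : F₀)⁻¹
    rwa [inv_smul_smul₀ h2] at this
  · exfalso
    obtain ⟨s, hs, e⟩ := h.det_eq
    have hm' : Even m := by
      obtain ⟨j, hj⟩ := h4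
      exact ⟨j, by omega⟩
    rw [det_smul, det_one, mul_one, Fintype.card_fin, det_pMinus, show m - 1 + 1 = m by omega,
      hm'.neg_one_pow, one_mul, hnm] at e
    refine disc_not_square h2 hab ⟨2 ^ m / s, ?_⟩
    field_simp
    linear_combination -e

end Cfsg.Agent.S2710
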