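import Cfsg.Statements.S2711
import Cfsg.Agent.Lib.AutPSU52Field

set_option autoImplicit false
open Cfsg

namespace Cfsg.Agent.S2711

/-- Let T = PSU_n(q) be simple (n ≥ 3, (n,q) ≠ (3,2)), realised over the field F with q² elements, and let x be a field automorphism of T (conjugate to a standard field automorphism of odd order) of prime order r. Then an element y of the coset Inndiag(T)·x (y = δ x with δ in the image of PGU_n(q)) has order r if and only if y is conjugate to x by an element of Inndiag(T). (T has no graph-field automorphisms.) -/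
theorem result {F : Type*} [Field F] [Fintype F] {p f q : ℕ} [Fact p.Prime] (hq : q = p ^ f) (hf : 1 ≤ f) (hF : Fintype.card F = q ^ 2) {n : ℕ} (hn : 3 ≤ n) (hs : ¬ (n = 3 ∧ q = 2)) (x δ : MulAut (Cfsg.PSU n F q)) (hx : Cfsg.IsFieldAutClassPSU x) {r : ℕ} (hr : r.Prime) (hxr : orderOf x = r) (hδ : δ ∈ Cfsg.inndiagPSU n F q) :
    orderOf (δ * x) = r ↔ Cfsg.IsConjUnder (Cfsg.inndiagPSU n F q) x (δ * x) := by
  classical
  obtain ⟨h, σ, hσ, hodd, rfl⟩ := Cfsg.Agent.AutPSU52Field.field_class hF hn hs hx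
  have hor : orderOf σ = r := by
    rw [Cfsg.Agent.AutPSLField.orderOf_conj',
      orderOf_injective (Cfsg.Agent.AutPSU52Basic.fd (n := n) (F := F) (q := q))
        (Cfsg.Agent.AutPSU52Field.fd_injective hF hn)] at hxr
    exact hxr
  have hF' : Fintype.card F = p ^ (2 * f) := by rw [hF, hq, ← pow_mul, mul_comm]
  have hrf : r ∣ f := by
    have h1 : r ∣ 2 * f := by
      rw [← hor, ← Cfsg.Agent.AutPSLApi.card_ringAut hF' (by omega)]
      exact orderOf_dvd_natCard σ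
    refine (Nat.Coprime.dvd_of_dvd_mul_left ?_ h1)
    exact Nat.coprime_two_right.2 (hor ▸ hodd)
  set q₀ := p ^ (f / r) with hq₀'
  have hq₀ : q₀ ^ orderOf σ = q := by
    rw [hor, hq₀', ← pow_mul, Nat.div_mul_cancel hrf, hq]
  constructor
  · intro hord
    obtain ⟨d, rfl⟩ := (Cfsg.Agent.AutPSU52Api.mem_inndiag _).1 hδ
    have he : (Cfsg.Agent.AutPSU52Basic.cj d * (Cfsg.Agent.AutPSU52Basic.cj h *
        Cfsg.Agent.AutPSU52Basic.fd σ * (Cfsg.Agent.AutPSU52Basic.cj h)⁻¹) : MulAut (PSU n F q))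
        = Cfsg.Agent.AutPSU52Basic.cj h * (Cfsg.Agent.AutPSU52Basic.cj (h⁻¹ * d * h) *
          Cfsg.Agent.AutPSU52Basic.fd σ) * (Cfsg.Agent.AutPSU52Basic.cj h)⁻¹ := by
      simp [mul_assoc]
    rw [he, Cfsg.Agent.AutPSLField.orderOf_conj'] at hord
    obtain ⟨b, hb⟩ := Cfsg.Agent.AutPSU52Field.field_coset hF hn σ hodd hq₀ (h⁻¹ * d * h)
      (by rw [hor, ← hord]; exact pow_orderOf_eq_one _)
    refine ⟨Cfsg.Agent.AutPSU52Basic.cj (h * b * h⁻¹),
      (Cfsg.Agent.AutPSU52Api.mem_inndiag _).2 ⟨_, rfl⟩, ?_⟩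
    rw [he, hb]
    simp [mul_assoc]
  · rintro ⟨c, -, e⟩
    rw [e, Cfsg.Agent.AutPSLField.orderOf_conj', hxr]

end Cfsg.Agent.S2711
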