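import Cfsg.Statements.S2712
import Cfsg.Agent.Lib.AutPSpField
import Cfsg.Agent.Lib.AutPSpFull
-- import your own Cfsg.Agent.* helpers here

set_option autoImplicit false
open Cfsg

namespace Cfsg.Agent.S2712

open Cfsg.Agent.AutPSpBasic Cfsg.Agent.AutPSpApi Cfsg.Agent.AutPSpField in

/-- Let T = PSp_{2m}(F) be simple over the field F with p^f elements (m ≥ 2, (2m, |F|) ≠ (4, 2)), G = Inndiag(T) the image of the projective conformal symplectic group PGSp_{2m}(F), and x a field automorphism of T of prime order r. Then r divides f; C_G(x) is isomorphic to PGSp_{2m}(F₀) for a field F₀ with p^(f/r) elements; and the G-class of x is the union of exactly gcd(gcd(2, p^f − 1), r) T-classes. -/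
theorem result {F : Type*} [Field F] [Fintype F] {p f : ℕ} [Fact p.Prime] (hF : Fintype.card F = p ^ f) (hf : 1 ≤ f) {m : ℕ} (hm : 2 ≤ m) (hs : m = 2 → 3 ≤ Fintype.card F) (x : MulAut (Cfsg.PSp m F)) (hx : Cfsg.IsFieldAutClassPSp x) {r : ℕ} (hr : r.Prime) (hxr : orderOf x = r) (F₀ : Type*) [Field F₀] [Fintype F₀] (hF₀ : Fintype.card F₀ = p ^ (f / r)) :
    r ∣ f ∧ Nonempty (↥(Cfsg.inndiagPSp m F ⊓ Subgroup.centralizer {x}) ≃* Cfsg.PGSp m F₀) ∧ Cfsg.splitClassCount (Cfsg.inndiagPSp m F) (Cfsg.Inn (Cfsg.PSp m F)) x = Nat.gcd (Nat.gcd 2 (p ^ f - 1)) r := by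
  classical
  obtain ⟨h, σ, hσ, rfl⟩ := field_class hm hx
  have hor : orderOf σ = r := by
    rw [AutPSLField.orderOf_conj', orderOf_injective (fd (m := m) (F := F)) (fd_injective hm)] at hxr
    exact hxr
  have hrf : r ∣ f := by
    rw [← hor, ← AutPSLApi.card_ringAut hF hf]
    exact orderOf_dvd_natCard σ
  refine ⟨hrf, ?_, ?_⟩
  · let K : Subfield F := (σ : F →+* F).eqLocusField (RingHom.id F)
    haveI : Fintype K := Fintype.ofFinite K
    have hK : Fintype.card F₀ = Fintype.card K := by
      have h1 := GaloisDescentGL.card_fixed σ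
      rw [hor, Nat.card_eq_fintype_card (α := F), hF] at h1
      apply Nat.pow_left_injective hr.ne_zero
      show Fintype.card F₀ ^ r = Fintype.card K ^ r
      rw [hF₀, ← pow_mul, Nat.div_mul_cancel hrf, ← h1, ← Nat.card_eq_fintype_card (α := K)]
      rfl
    let e : F₀ ≃+* K := FiniteField.ringEquivOfCardEq hK
    refine field_centralizer hm σ h (K.subtype.comp (e : F₀ →+* K)) fun x => ⟨fun hx => ?_, ?_⟩
    · exact ⟨e.symm ⟨x, hx⟩, by simp⟩
    · rintro ⟨y, rfl⟩
      exact (e y).2
  · have hq0 : Nat.card {y : F // σ y = y} ^ r = p ^ f := by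
      have h1 := GaloisDescentGL.card_fixed σ
      rwa [hor, Nat.card_eq_fintype_card (α := F), hF] at h1
    have hU := (GaloisDescentGL.fixedUnits σ).card_mul_index
    rw [Nat.card_units, Nat.card_eq_fintype_card (α := F), hF] at hU
    rw [field_split hm σ h, GaloisDescentGL.index_powers_sup]
    set I := (GaloisDescentGL.fixedUnits σ).index
    set q₀ := Nat.card {y : F // σ y = y} with hq0def
    have hU0 : Nat.card (GaloisDescentGL.fixedUnits σ) = q₀ - 1 := by
      rw [hq0def, ← GaloisDescentGL.card_fixedUnits σ, Nat.add_sub_cancel]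
    rw [hU0] at hU
    by_cases hev : 2 ∣ p ^ f - 1
    · rw [Nat.gcd_eq_left hev]
      have hodd : Odd q₀ := by
        rcases Nat.even_or_odd q₀ with he | ho
        · exfalso
          have h2 : 2 ∣ p ^ f := hq0 ▸ dvd_pow he.two_dvd hr.ne_zero
          have : 0 < p ^ f := pow_pos (Fact.out : p.Prime).pos f
          omega
        · exact ho
      have hq1 : 2 ≤ q₀ := by
        by_contra hlt
        have h01 : q₀ = 1 := by obtain ⟨k, hk⟩ := hodd; omega
        rw [h01, one_pow] at hq0
        exact (Nat.one_lt_pow (by omega) (Fact.out : p.Prime).one_lt).ne hq0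
      have hI : I = ∑ i ∈ Finset.range r, q₀ ^ i := by
        apply Nat.eq_of_mul_eq_mul_left (show 0 < q₀ - 1 by omega)
        rw [hU, ← hq0, mul_comm, geom_sum_mul_of_one_le (by omega)]
      have hpar : ∀ k, (∑ i ∈ Finset.range k, q₀ ^ i) % 2 = k % 2 := by
        intro k
        induction k with
        | zero => simp
        | succ k ih =>
          rw [Finset.sum_range_succ, Nat.add_mod, ih, Nat.odd_iff.1 hodd.pow]
          omega
      rw [Nat.gcd_rec, Nat.gcd_rec 2 r, hI, hpar]
    · have h1 : Nat.gcd 2 (p ^ f - 1) = 1 := Nat.Prime.coprime_iff_not_dvd Nat.prime_two |>.2 hev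
      rw [h1, Nat.gcd_one_left]
      exact Nat.Prime.coprime_iff_not_dvd Nat.prime_two |>.2 fun hd => hev (hd.trans (Dvd.intro_left _ hU))

end Cfsg.Agent.S2712
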