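import Cfsg.Statements.S2713
import Cfsg.Agent.Lib.AutPSpField
-- import your own Cfsg.Agent.* helpers here

set_option autoImplicit false
open Cfsg

namespace Cfsg.Agent.S2713

open Cfsg.Agent.AutPSpBasic Cfsg.Agent.AutPSpApi Cfsg.Agent.AutPSpField in

/-- Let T = PSp_{2m}(F) be simple over a finite field (m ≥ 2, (2m, |F|) ≠ (4, 2)) and let x be a field automorphism of T of prime order r. Then an element y of the coset Inndiag(T)·x (y = δ x with δ in the image of the projective conformal symplectic group) has order r if and only if y is conjugate to x by an element of Inndiag(T). -/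
theorem result {F : Type*} [Field F] [Fintype F] {m : ℕ} (hm : 2 ≤ m) (hs : m = 2 → 3 ≤ Fintype.card F) (x δ : MulAut (Cfsg.PSp m F)) (hx : Cfsg.IsFieldAutClassPSp x) {r : ℕ} (hr : r.Prime) (hxr : orderOf x = r) (hδ : δ ∈ Cfsg.inndiagPSp m F) :
    orderOf (δ * x) = r ↔ Cfsg.IsConjUnder (Cfsg.inndiagPSp m F) x (δ * x) := by
  obtain ⟨h, σ, hσ, rfl⟩ := field_class hm hx
  have hor : orderOf σ = r := by
    rw [AutPSLField.orderOf_conj', orderOf_injective (fd (m := m) (F := F)) (fd_injective hm)] at hxr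
    exact hxr
  constructor
  · intro hord
    obtain ⟨d, rfl⟩ := (mem_inndiag _).1 hδ
    have he : cj d * (cj h * fd σ * (cj h)⁻¹) = (cj h * (cj (h⁻¹ * d * h) * fd σ) * (cj h)⁻¹ : MulAut (PS m F)) := by
      simp [mul_assoc]
    rw [he, AutPSLField.orderOf_conj'] at hord
    obtain ⟨b, hb⟩ := field_coset hm σ (h⁻¹ * d * h) (by rw [hor, ← hord]; exact pow_orderOf_eq_one _)
    refine ⟨cj (h * b * h⁻¹), (mem_inndiag _).2 ⟨_, rfl⟩, ?_⟩
    rw [he, hb]
    simp [mul_assoc]
  · rintro ⟨c, -, e⟩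
    rw [e, AutPSLField.orderOf_conj', hxr]

end Cfsg.Agent.S2713
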