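import Cfsg.Statements.S2714
import Cfsg.Agent.Lib.AutOrthOdd52Classes
-- import your own Cfsg.Agent.* helpers here

set_option autoImplicit false
open Cfsg

namespace Cfsg.Agent.S2714

/-- Let T = Ω_{2m+1}(F) (m ≥ 3, |F| = p^f odd; realised as PΩ of the form x₀² + Σ xᵢ yᵢ), G = Inndiag(T) the image of the conformal orthogonal group in Aut(T), and x a field automorphism of T of prime order r. Then r divides f; C_G(x) is isomorphic to Inndiag(Ω_{2m+1}(F₀)) for a field F₀ with p^(f/r) elements; and the G-class of x is a single T-class when r is odd and the union of exactly two T-classes when r = 2. -/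
theorem result {F : Type*} [Field F] [Fintype F] {p f : ℕ} [Fact p.Prime] (hF : Fintype.card F = p ^ f) (hf : 1 ≤ f) (hodd : Odd (Fintype.card F)) {m : ℕ} (hm : 3 ≤ m) (x : MulAut (Cfsg.POmega F (Cfsg.quadFormOdd m F))) (hx : Cfsg.IsFieldAutClassPOmega (Cfsg.quadFormOdd m F) x) {r : ℕ} (hr : r.Prime) (hxr : orderOf x = r) (F₀ : Type*) [Field F₀] [Fintype F₀] (hF₀ : Fintype.card F₀ = p ^ (f / r)) :
    r ∣ f ∧ Nonempty (↥(Cfsg.inndiagPOmegaOdd m F ⊓ Subgroup.centralizer {x}) ≃* ↥(Cfsg.inndiagPOmegaOdd m F₀)) ∧ (Odd r → Cfsg.splitClassCount (Cfsg.inndiagPOmegaOdd m F) (Cfsg.Inn (Cfsg.POmega F (Cfsg.quadFormOdd m F))) x = 1) ∧ (r = 2 → Cfsg.splitClassCount (Cfsg.inndiagPOmegaOdd m F) (Cfsg.Inn (Cfsg.POmega F (Cfsg.quadFormOdd m F))) x = 2) := by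
  classical
  have h2 : (2 : F) ≠ 0 := OmegaStd.two_ne_zero rfl hodd
  have h := AutOrth45Forms.good_odd (F := F) h2 hm
  -- transport to the bundled form
  suffices key : ∀ x : MulAut (Cfsg.POmega F ⇑(Cfsg.Agent.QuadClassify.qOdd m F)),
      Cfsg.IsFieldAutClassPOmega ⇑(Cfsg.Agent.QuadClassify.qOdd m F) x → orderOf x = r →
      r ∣ f ∧ Nonempty (↥(Cfsg.pgoAut F ⇑(Cfsg.Agent.QuadClassify.qOdd m F) ⊓ Subgroup.centralizer {x}) ≃*
          ↥(Cfsg.pgoAut F₀ ⇑(Cfsg.Agent.QuadClassify.qOdd m F₀))) ∧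
        Cfsg.splitClassCount (Cfsg.pgoAut F ⇑(Cfsg.Agent.QuadClassify.qOdd m F))
          (Cfsg.Inn (Cfsg.POmega F ⇑(Cfsg.Agent.QuadClassify.qOdd m F))) x = if r = 2 then 2 else 1 by
    rw [QuadClassify.qOdd_coe, QuadClassify.qOdd_coe] at key
    obtain ⟨h1, h3, h4⟩ := key x hx hxr
    refine ⟨h1, h3, fun ho => ?_, fun he => ?_⟩
    · exact h4.trans (if_neg (by rintro rfl; exact absurd ho (by decide)))
    · exact h4.trans (if_pos he)
  intro x hx hxr
  obtain ⟨σ, B, hσ1, hxB⟩ := AutOrthOdd52Classes.exists_conjugate h2 h x hx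
  have hσr : orderOf σ = r := by
    rw [← hxr, hxB, AutPSLField.orderOf_conj',
      orderOf_injective (AutOrth45Api.fd h (AutOrth45Forms.inv_odd (F := F) m)) (AutOrth45Api.fd_injective h _)]
  let K : Subfield F := (σ : F →+* F).eqLocusField (RingHom.id F)
  haveI : Fintype K := Fintype.ofFinite K
  have hcardK : Fintype.card K ^ r = p ^ f := by
    rw [← hσr, ← hF, ← Nat.card_eq_fintype_card (α := F), ← GaloisDescentGL.card_fixed σ]
    congr 1
    exact Nat.card_eq_fintype_card.symm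
  obtain ⟨k, -, hk⟩ := (Nat.dvd_prime_pow (Fact.out : p.Prime)).1
    ((hcardK ▸ dvd_pow_self (Fintype.card K) hr.ne_zero) : Fintype.card K ∣ p ^ f)
  have hkf : k * r = f := Nat.pow_right_injective (Fact.out : p.Prime).two_le (by
    show p ^ (k * r) = p ^ f
    rw [pow_mul, ← hk, hcardK])
  have hrf : r ∣ f := ⟨k, by rw [← hkf, mul_comm]⟩
  let ι : F₀ ≃+* K := FiniteField.ringEquivOfCardEq (by
    rw [hF₀, hk, ← hkf, Nat.mul_div_cancel _ hr.pos])
  let emb : F₀ →+* F := K.subtype.comp ι.toRingHom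
  have he : ∀ y, σ y = y ↔ y ∈ emb.range := fun y => by
    refine ⟨fun hy => ⟨ι.symm ⟨y, hy⟩, ?_⟩, ?_⟩
    · show ((ι (ι.symm ⟨y, hy⟩) : K) : F) = y
      rw [ι.apply_symm_apply]
    · rintro ⟨z, rfl⟩
      exact (ι z).2
  have h20 : (2 : F₀) ≠ 0 := fun h0 => h2 (by rw [← map_ofNat emb 2, h0, map_zero])
  rw [AutOrthOdd52Classes.inndiag_eq h, AutOrthOdd52Classes.inndiag_eq (AutOrth45Forms.good_odd h20 hm)]
  exact ⟨hrf, AutOrthOdd52Classes.centralizer_equiv hm h σ emb he h2 B hxB,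
    AutOrthOdd52Classes.split_count hm h σ emb he h2 B hxB hr hσr⟩
end Cfsg.Agent.S2714
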