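import Cfsg.Statements.S2715
import Cfsg.Agent.Lib.AutOrth45PlusCount
import Cfsg.Agent.Lib.AutOrth45DFour
import Cfsg.Agent.Lib.AutOrth45FieldTools
import Cfsg.Agent.Lib.DFourOutOrth
-- import your own Cfsg.Agent.* helpers here

set_option autoImplicit false
open Cfsg
open Cfsg.Agent Cfsg.Agent.OrthUnitarySimAut Cfsg.Agent.AutOrth45Api Cfsg.Agent.AutOrth45InnDiag

namespace Cfsg.Agent.S2715

/-- Let T = PΩ⁺_{2m}(F) (m ≥ 4, |F| = p^f; the form Σ xᵢ yᵢ), G = Inndiag(T) the image of the class-preserving similarities in Aut(T), and x a field automorphism of T of prime order r. Then r divides f; C_G(x) is isomorphic to Inndiag(PΩ⁺_{2m}(F₀)) for a field F₀ with p^(f/r) elements; and the G-class of x is the union of exactly c T-classes, where c = 1 if r is odd or p = 2, and otherwise (r = 2, p odd) c = 2 when m is odd and p^(f/2) ≡ 1 (mod 4), and c = 4 in the remaining cases. -/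
theorem result {F : Type*} [Field F] [Fintype F] {p f : ℕ} [Fact p.Prime] (hF : Fintype.card F = p ^ f) (hf : 1 ≤ f) {m : ℕ} (hm : 4 ≤ m) (x : MulAut (Cfsg.POmega F (Cfsg.quadFormPlus m F))) (hx : Cfsg.IsFieldAutClassPOmega (Cfsg.quadFormPlus m F) x) {r : ℕ} (hr : r.Prime) (hxr : orderOf x = r) (F₀ : Type*) [Field F₀] [Fintype F₀] (hF₀ : Fintype.card F₀ = p ^ (f / r)) :
    r ∣ f ∧ Nonempty (↥(Cfsg.inndiagPOmegaPlus m F ⊓ Subgroup.centralizer {x}) ≃* ↥(Cfsg.inndiagPOmegaPlus m F₀)) ∧ ((Odd r ∨ p = 2) → Cfsg.splitClassCount (Cfsg.inndiagPOmegaPlus m F) (Cfsg.Inn (Cfsg.POmega F (Cfsg.quadFormPlus m F))) x = 1) ∧ ((r = 2 ∧ p ≠ 2 ∧ Odd m ∧ p ^ (f / 2) % 4 = 1) → Cfsg.splitClassCount (Cfsg.inndiagPOmegaPlus m F) (Cfsg.Inn (Cfsg.POmega F (Cfsg.quadFormPlus m F))) x = 2) ∧ ((r = 2 ∧ p ≠ 2 ∧ ¬ (Odd m ∧ p ^ (f / 2) % 4 = 1)) → Cfsg.splitClassCount (Cfsg.inndiagPOmegaPlus m F) (Cfsg.Inn (Cfsg.POmega F (Cfsg.quadFormPlus m F))) x = 4) := by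
  classical
  have hm3 : 3 ≤ m := by omega
  suffices gen : ∀ (f₁ : (Fin m ⊕ Fin m → F) → F) (f₀ : (Fin m ⊕ Fin m → F₀) → F₀),
      ⇑(QuadClassify.qPlus m F) = f₁ → ⇑(QuadClassify.qPlus m F₀) = f₀ →
      ∀ (S : Subgroup (MulAut (POmega F f₁))) (S₀ : Subgroup (MulAut (POmega F₀ f₀))),
      S = autSubgroupOf (fun β : POmega F f₁ ≃* POmega F f₁ =>
        ∃ g : GL (Fin m ⊕ Fin m) F, g ∈ Geo.quadSimilarityGroup (F := F) f₁ ∧
          PreservesSingularClasses f₁ g.1 ∧
          IsInducedBySemilinearPOmega f₁ g (RingEquiv.refl F) β) →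
      S₀ = autSubgroupOf (fun β : POmega F₀ f₀ ≃* POmega F₀ f₀ =>
        ∃ g : GL (Fin m ⊕ Fin m) F₀, g ∈ Geo.quadSimilarityGroup (F := F₀) f₀ ∧
          PreservesSingularClasses f₀ g.1 ∧
          IsInducedBySemilinearPOmega f₀ g (RingEquiv.refl F₀) β) →
      ∀ x : MulAut (POmega F f₁), IsFieldAutClassPOmega f₁ x → orderOf x = r →
      r ∣ f ∧ Nonempty (↥(S ⊓ Subgroup.centralizer {x}) ≃* ↥S₀) ∧
      ((Odd r ∨ p = 2) → splitClassCount S (Inn (POmega F f₁)) x = 1) ∧
      ((r = 2 ∧ p ≠ 2 ∧ Odd m ∧ p ^ (f / 2) % 4 = 1) → splitClassCount S (Inn (POmega F f₁)) x = 2) ∧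
      ((r = 2 ∧ p ≠ 2 ∧ ¬ (Odd m ∧ p ^ (f / 2) % 4 = 1)) →
        splitClassCount S (Inn (POmega F f₁)) x = 4) from
    gen _ _ (QuadClassify.qPlus_coe m) (QuadClassify.qPlus_coe m) (inndiagPOmegaPlus m F)
      (inndiagPOmegaPlus m F₀) rfl rfl x hx hxr
  clear hx hxr x
  rintro f₁ f₀ rfl rfl S S₀ rfl rfl x ⟨α, y, σ, hσ1, hy, hxy⟩ hxr
  rw [inndiag_plus_eq hm3, inndiag_plus_eq hm3]
  haveI hN : ((keepSub (hyp_plus (F := F) hm3) (OmegaStd.lagr_plus (F := F) (m := m))).map (conjP (QuadClassify.qPlus m F))).Normal := by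
    rcases Nat.lt_or_ge 4 m with h4 | h4
    · exact map_normal (AutOrth45Forms.good_plus (by omega)) (classSub_keep (hyp_plus hm3) OmegaStd.lagr_plus)
    · obtain rfl : m = 4 := by omega
      exact AutOrth45DFour.normal
  -- reduce to the standard field automorphism
  have hmap : ∀ K : Subgroup (MulAut (POmega F ⇑(QuadClassify.qPlus m F))), K.Normal →
      K.map (MulAut.conj α).toMonoidHom = K := fun K hK => by
    refine le_antisymm ?_ fun z hz => ⟨α⁻¹ * z * α, ?_, ?_⟩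
    · rintro _ ⟨z, hz, rfl⟩
      exact hK.conj_mem z hz α
    · simpa using hK.conj_mem z hz α⁻¹
    · show α * (α⁻¹ * z * α) * α⁻¹ = z
      group
  have hxy' : MulAut.conj α x = y := hxy
  have hyr : orderOf y = r := by rw [← hxy', MulEquiv.orderOf_eq, hxr]
  have hcount : splitClassCount ((keepSub (hyp_plus (F := F) hm3) (OmegaStd.lagr_plus (F := F) (m := m))).map (conjP (QuadClassify.qPlus m F))) (Inn (POmega F ⇑(QuadClassify.qPlus m F))) x =
      splitClassCount ((keepSub (hyp_plus (F := F) hm3) (OmegaStd.lagr_plus (F := F) (m := m))).map (conjP (QuadClassify.qPlus m F))) (Inn (POmega F ⇑(QuadClassify.qPlus m F))) y := by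
    rw [← AutOrth45Centralizer.splitClassCount_map (MulAut.conj α), hxy', hmap _ hN,
      hmap _ inferInstance]
  obtain ⟨e₁⟩ := AutOrth45Centralizer.centralizer_map (MulAut.conj α) ((keepSub (hyp_plus (F := F) hm3) (OmegaStd.lagr_plus (F := F) (m := m))).map (conjP (QuadClassify.qPlus m F))) x
  rw [hxy', hmap _ hN] at e₁
  rw [hcount]
  -- the field automorphism
  have hinv : AutOrth45Api.Inv (QuadClassify.qPlus m F) := AutOrth45Forms.inv_plus m
  have hnd := AutOrth45Forms.nondegenerate_qPlus (F := F) m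
  have h5 := AutOrth45PlusTorus.five_le (m := m) hm3
  have hy' := AutOrth45Twine.twine_field hinv hy
  have hσr : orderOf σ = r := by
    haveI := Fact.mk hr
    refine orderOf_eq_prime ?_ hσ1
    have hT := AutOrth45Twine.twine_pow hinv hy' r
    rw [← hyr, pow_orderOf_eq_one, hyr] at hT
    refine RingEquiv.ext fun c => ?_
    generalize σ ^ r = τ at hT ⊢
    by_cases hc : c = 0
    · rw [hc, map_zero, map_zero]
    obtain ⟨l, -, hl⟩ := AutOrth45Twine.fixed_of_twine_one hinv hnd h5 hT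
      (AutOrth45PlusTorus.tor ((fun _ => 1), Units.mk0 c hc))
    let i : Fin m := ⟨0, by omega⟩
    have e0 := congrFun (congrFun hl (Sum.inl i)) (Sum.inl i)
    have e1 := congrFun (congrFun hl (Sum.inr i)) (Sum.inr i)
    simp [AutOrth45PlusTorus.tor_coe, AutOrth45PlusTorus.torGL_coe, AutOrth45PlusTorus.ent] at e0 e1
    rw [← e0, one_mul] at e1
    exact e1
  obtain ⟨hrf, φ, hφ⟩ := AutOrth45FieldTools.exists_emb hF hf hr hσr F₀ hF₀
  have hp := field_pair hinv σ
  obtain ⟨e₂⟩ := AutOrth45Centralizer.centralizer_equiv' (AutOrth45PlusCount.map_plus φ) hφ hp hnd h5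
    hy' (AutOrth45Forms.nondegenerate_qPlus m) (keepSub (hyp_plus (F := F) hm3) (OmegaStd.lagr_plus (F := F) (m := m))) _ (AutOrth45PlusCount.rat_mem_keep φ hm3)
    (AutOrth45PlusTorus.scalar_le hm3)
  haveI := DFourOutOrth.charP (p := p) hF
  refine ⟨hrf, ⟨e₁.trans e₂⟩, fun hor => ?_, ?_, ?_⟩
  · by_cases h2 : (2 : F) = 0
    · have hle := AutOrth45PlusTorus.le_inn_two hm3 h2
      haveI : ((innSim (QuadClassify.qPlus m F)).subgroupOf (keepSub (hyp_plus (F := F) hm3) (OmegaStd.lagr_plus (F := F) (m := m)))).Normal := inferInstance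
      have hrange : ((conjP (QuadClassify.qPlus m F)).comp (keepSub (hyp_plus (F := F) hm3) (OmegaStd.lagr_plus (F := F) (m := m))).subtype).range = (keepSub (hyp_plus (F := F) hm3) (OmegaStd.lagr_plus (F := F) (m := m))).map (conjP (QuadClassify.qPlus m F)) := by
        rw [MonoidHom.range_comp, Subgroup.range_subtype]
      have hinn : Inn (POmega F ⇑(QuadClassify.qPlus m F)) =
          ((innSim (QuadClassify.qPlus m F)).subgroupOf (keepSub (hyp_plus (F := F) hm3) (OmegaStd.lagr_plus (F := F) (m := m)))).map ((conjP (QuadClassify.qPlus m F)).comp (keepSub (hyp_plus (F := F) hm3) (OmegaStd.lagr_plus (F := F) (m := m))).subtype) := by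
        refine le_antisymm ?_ ?_
        · rw [inn_eq]
          rintro _ ⟨g, hg, rfl⟩
          exact ⟨⟨g, AutOrth45Centralizer.omega_le' (classSub_keep (hyp_plus hm3) OmegaStd.lagr_plus)
            (fun v hv => not_keeps_ofOrth (hyp_plus hm3) OmegaStd.lagr_plus v hv) hnd h5 hg⟩,
            AutOrth45PlusTorus.omega_le_inn hm3 hg, rfl⟩
        · rintro _ ⟨g, hg, rfl⟩
          exact hg
      rw [← hrange, hinn, SplitClassIndex.splitClassCount_eq, Subgroup.index_eq_one, eq_top_iff]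
      exact fun g _ => Subgroup.mem_sup_left (hle g.2)
    · have hodd : Odd r := hor.resolve_right fun hp2 => h2 (by
        subst hp2
        exact CharTwo.two_eq_zero)
      exact AutOrth45Centralizer.split_one' (classSub_keep (hyp_plus hm3) OmegaStd.lagr_plus)
        (fun v hv => not_keeps_ofOrth (hyp_plus hm3) OmegaStd.lagr_plus v hv)
        (AutOrth45PlusCount.map_plus φ) hnd h5 (AutOrth45Forms.nondegenerate_qPlus m) hφ hy'
        (hσr ▸ hodd)
        (fun c _ => ⟨AutOrth45PlusTorus.tor (1, c), AutOrth45PlusTorus.torGL_q _⟩)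
        (AutOrth45PlusTorus.scalar_le hm3)
  all_goals
    rintro ⟨rfl, hp2, hcase⟩
    have h2 : (2 : F) ≠ 0 := fun h => hp2 (by
      have : ((2 : ℕ) : F) = 0 := by exact_mod_cast h
      rw [CharP.cast_eq_zero_iff F p] at this
      exact (Nat.prime_dvd_prime_iff_eq Fact.out Nat.prime_two).1 this)
    have hq : Fintype.card F = Fintype.card F₀ ^ 2 := by
      rw [hF, hF₀, ← pow_mul, Nat.div_mul_cancel hrf]
    have hsplit := AutOrth45PlusCount.split_two hm3 hφ hy' hq h2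
    rw [hF₀] at hsplit
    first
      | exact hsplit.1 hcase
      | exact hsplit.2 hcase

end Cfsg.Agent.S2715
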