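import Cfsg.Statements.S2716
import Cfsg.Agent.Lib.AutOrth45MinusField
-- import your own Cfsg.Agent.* helpers here

set_option autoImplicit false
open Cfsg
open Cfsg.Agent Cfsg.Agent.AutOrth45Api Cfsg.Agent.AutOrth45Gal Cfsg.Agent.AutOrth45InnDiag Cfsg.Agent.AutOrth45MinusClass Cfsg.Agent.AutOrth45MinusField

namespace Cfsg.Agent.S2716

/-- Let T = PΩ⁻_{2m+2}(F) (m ≥ 3, |F| = p^f; the form Σ xᵢ yᵢ + z₁² + a z₁ z₂ + b z₂² with anisotropic binary part), G = Inndiag(T), and x a field automorphism of T of prime order r. Then r is odd and divides f; C_G(x) is isomorphic to Inndiag(PΩ⁻_{2m+2}(F₀)) for a field F₀ with p^(f/r) elements and some anisotropic binary part over F₀; and the G-class of x is a single T-class. -/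
theorem result {F : Type*} [Field F] [Fintype F] {p f : ℕ} [Fact p.Prime] (hF : Fintype.card F = p ^ f) (hf : 1 ≤ f) {m : ℕ} (hm : 3 ≤ m) (a b : F) (hab : (∀ z₁ z₂ : F, z₁ ^ 2 + a * z₁ * z₂ + b * z₂ ^ 2 = 0 → z₁ = 0 ∧ z₂ = 0)) (x : MulAut (Cfsg.POmega F (Cfsg.quadFormMinus m F a b))) (hx : Cfsg.IsFieldAutClassPOmegaMinus m x) {r : ℕ} (hr : r.Prime) (hxr : orderOf x = r) (F₀ : Type*) [Field F₀] [Fintype F₀] (hF₀ : Fintype.card F₀ = p ^ (f / r)) :
    Odd r ∧ r ∣ f ∧ (∃ a₀ b₀ : F₀, (∀ z₁ z₂ : F₀, z₁ ^ 2 + a₀ * z₁ * z₂ + b₀ * z₂ ^ 2 = 0 → z₁ = 0 ∧ z₂ = 0) ∧ Nonempty (↥(Cfsg.inndiagPOmegaMinus m F a b ⊓ Subgroup.centralizer {x}) ≃* ↥(Cfsg.inndiagPOmegaMinus m F₀ a₀ b₀))) ∧ Cfsg.splitClassCount (Cfsg.inndiagPOmegaMinus m F a b) (Cfsg.Inn (Cfsg.POmega F (Cfsg.quadFormMinus m F a b))) x = 1 := by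
  classical
  obtain ⟨a', b', ψ, σ, hab', hσ, ha', hb', hφ⟩ := hx
  have hm2 : 2 ≤ m := by omega
  haveI := Fact.mk (irreducible_poly (F := F) hab)
  have hK := finrank_adjoin (F := F) hab
  haveI := finite_ext hK
  letI := Fintype.ofFinite (AdjoinRoot
    (Polynomial.X ^ 2 + Polynomial.C a * Polynomial.X + Polynomial.C b : Polynomial F))
  suffices gen : ∀ (f₁ f₂ : ((Fin m ⊕ Fin m) ⊕ Fin 2 → F) → F),
      ⇑(QuadClassify.qMinus m F a b) = f₁ → ⇑(QuadClassify.qMinus m F a' b') = f₂ →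
      ∀ (S : Subgroup (MulAut (POmega F f₁))),
      S = autSubgroupOf (fun β : POmega F f₁ ≃* POmega F f₁ =>
        ∃ g : GL ((Fin m ⊕ Fin m) ⊕ Fin 2) F, g ∈ Geo.quadSimilarityGroup (F := F) f₁ ∧
          PreservesSingularClassesMinus m a b g.1 ∧
          IsInducedBySemilinearPOmega f₁ g (RingEquiv.refl F) β) →
      ∀ (x : MulAut (POmega F f₁)) (ψ : POmega F f₁ ≃* POmega F f₂),
      IsFieldAutPOmegaOf f₂ σ ((ψ.symm.trans x).trans ψ) → orderOf x = r →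
      Odd r ∧ r ∣ f ∧ (∃ a₀ b₀ : F₀,
        (∀ z₁ z₂ : F₀, z₁ ^ 2 + a₀ * z₁ * z₂ + b₀ * z₂ ^ 2 = 0 → z₁ = 0 ∧ z₂ = 0) ∧
        Nonempty (↥(S ⊓ Subgroup.centralizer {x}) ≃* ↥(inndiagPOmegaMinus m F₀ a₀ b₀))) ∧
      splitClassCount S (Inn (POmega F f₁)) x = 1 from
    gen _ _ (QuadClassify.qMinus_coe m a b) (QuadClassify.qMinus_coe m a' b')
      (inndiagPOmegaMinus m F a b) rfl x ψ hφ hxr
  clear hφ ψ hxr x
  rintro f₁ f₂ rfl rfl S rfl x ψ hφ hxr
  rw [inndiag_minus_eq hm2 hab hK]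
  have h := AutOrth45Forms.good_minus (F := F) hm hab'
  have hp : IsSemisimilarityPair ⇑(QuadClassify.qMinus m F a' b')
      (1 : GL ((Fin m ⊕ Fin m) ⊕ Fin 2) F) σ := ⟨1, fun v => by
    have e := map_qMinus (σ : F →+* F) a' b' v
    rw [RingEquiv.coe_toRingHom, ha', hb'] at e
    rw [Units.val_one, Units.val_one, Matrix.one_mulVec, one_mul, e]⟩
  have hx₂ : MulAut.congr ψ x = semiAut h 1 σ hp := by
    refine (induced_iff h 1 σ hp _).1 fun s s' hs => ?_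
    refine hφ s s' ?_
    simpa using hs
  have hσr : orderOf σ = r := by
    haveI := Fact.mk hr
    refine orderOf_eq_prime ?_ hσ
    have e := congrArg (galHom h) (pow_orderOf_eq_one (semiAut h 1 σ hp))
    rwa [map_pow, map_one, galHom_semiAut, ← hx₂, MulEquiv.orderOf_eq, hxr] at e
  obtain ⟨hrf, φ, hφF⟩ := AutOrth45FieldTools.exists_emb hF hf hr hσr F₀ hF₀
  obtain ⟨a₀, ha₀⟩ := (hφF a').1 ha'
  obtain ⟨b₀, hb₀⟩ := (hφF b').1 hb'
  have hab₀ : OrthUnitaryForms.IsAniso a₀ b₀ := fun z₁ z₂ hz => by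
    obtain ⟨e1, e2⟩ := hab' (φ z₁) (φ z₂) (by
      rw [← ha₀, ← hb₀, ← map_pow, ← map_pow, ← map_mul, ← map_mul, ← map_mul, ← map_add, ← map_add,
        hz, map_zero])
    exact ⟨φ.injective (e1.trans (map_zero φ).symm), φ.injective (e2.trans (map_zero φ).symm)⟩
  have hodd : Odd r := by
    refine hr.odd_of_ne_two fun h2 => ?_
    subst h2
    letI : Algebra F₀ F := φ.toAlgebra
    have hfr : Module.finrank F₀ F = 2 := by
      have e := Module.card_eq_pow_finrank (K := F₀) (V := F)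
      rw [hF, hF₀, ← pow_mul] at e
      have e' := Nat.pow_right_injective (Fact.out : p.Prime).two_le e
      have h1 : f / 2 * 2 = f := Nat.div_mul_cancel hrf
      have h0 : 0 < f / 2 := by omega
      exact (Nat.eq_of_mul_eq_mul_left h0 (h1.trans e')).symm
    obtain ⟨ω, hω⟩ := exists_zero_ext (F := F₀) (K := F) hab₀ hfr
    rw [RingHom.algebraMap_toAlgebra, ha₀, hb₀] at hω
    exact one_ne_zero (hab' ω 1 (by linear_combination hω)).2
  haveI := Fact.mk (irreducible_poly (F := F₀) hab₀)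
  have hK₀ := finrank_adjoin (F := F₀) hab₀
  haveI := finite_ext hK₀
  letI := Fintype.ofFinite (AdjoinRoot
    (Polynomial.X ^ 2 + Polynomial.C a₀ * Polynomial.X + Polynomial.C b₀ : Polynomial F₀))
  have hQ : ∀ v, QuadClassify.qMinus m F a' b' (AutOrth45BaseChange.emb φ v) =
      φ (QuadClassify.qMinus m F₀ a₀ b₀ v) := fun v => by
    rw [map_qMinus, ha₀, hb₀]
    rfl
  obtain ⟨L, hL⟩ := exists_isometry m hab hab'
  have hH' := classSub_minus (K := AdjoinRoot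
    (Polynomial.X ^ 2 + Polynomial.C a * Polynomial.X + Polynomial.C b : Polynomial F)) hm2 hab' hK
  haveI := map_normal h hH'
  have hG := AutOrth45FieldTools.map_congr_eq _ ψ (map_minusSub hm2 hab hK hab' L hL)
  obtain ⟨ω, hω⟩ := exists_zero_ext (K := AdjoinRoot
    (Polynomial.X ^ 2 + Polynomial.C a * Polynomial.X + Polynomial.C b : Polynomial F)) hab' hK
  let ψK : AdjoinRoot (Polynomial.X ^ 2 + Polynomial.C a₀ * Polynomial.X + Polynomial.C b₀ :
      Polynomial F₀) →+* AdjoinRoot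
      (Polynomial.X ^ 2 + Polynomial.C a * Polynomial.X + Polynomial.C b : Polynomial F) :=
    AdjoinRoot.lift ((algebraMap F _).comp φ) ω (by simpa [ha₀, hb₀] using hω)
  have hψK : ∀ z, ψK (algebraMap F₀ _ z) = algebraMap F _ (φ z) := fun z => by
    rw [AdjoinRoot.algebraMap_eq]
    exact AdjoinRoot.lift_of _
  refine ⟨hodd, hrf, ⟨a₀, b₀, hab₀, ?_⟩, ?_⟩
  · obtain ⟨e₁⟩ := AutOrth45Centralizer.centralizer_map (MulAut.congr ψ) _ x
    rw [hx₂, hG] at e₁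
    obtain ⟨e₂⟩ := AutOrth45Centralizer.centralizer_equiv hQ h hφF hp
      (AutOrth45Forms.nondegenerate_qMinus hab₀ m) _ _
      (rat_mem_minusSub hm2 hab' hK hab₀ hK₀ ha₀ hb₀ ψK hψK hQ) (scalar_le hm2 hab' hK)
    refine ⟨e₁.trans (e₂.trans ?_)⟩
    show _ ≃* ↥(inndiagPOmegaMinus m F₀ a₀ b₀)
    exact Classical.choice (nonempty_inndiag hm2 hab₀ hK₀)
  · rw [← AutOrth45Centralizer.splitClassCount_map (MulAut.congr ψ), hx₂, hG,
      AutOrth45FieldTools.map_inn]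
    refine AutOrth45Centralizer.split_one hH' (refl_notMem hm2 hab' hK) hQ h
      (AutOrth45Forms.nondegenerate_qMinus hab₀ m) hφF hp (hσr ▸ hodd) (fun c hc => ?_)
      (scalar_le hm2 hab' hK)
    have h20 : (2 : F₀) ≠ 0 := fun e => hc (QuadClassify.isSquare_of_two_eq_zero e _)
    obtain ⟨d, hd, -, -⟩ := (OrthUnitarySimClasses.good_minus hm2 h20 hab₀).swap c
    exact ⟨d, hd⟩

end Cfsg.Agent.S2716
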