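import Cfsg.Statements.S2717
import Cfsg.Agent.Lib.OrthPlusGraphFieldSplit
import Cfsg.Agent.Lib.AutOrth45Frob
import Cfsg.Agent.Lib.AutPSLApi

set_option autoImplicit false
open Cfsg

namespace Cfsg.Agent.S2717

open QuadraticMap Module
open scoped Matrix MatrixGroups
open Cfsg.Agent.OrthUnitaryRefl
open Cfsg.Agent.OrthUnitaryQuad
open Cfsg.Agent.OmegaClasses
open Cfsg.Agent.OrthUnitarySimAut
open Cfsg.Agent.OrthUnitarySimilar
open Cfsg.Agent.OrthMinusKeep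
open Cfsg.Agent.OrthPlusGraphField

/-- The graph-field class of a form. -/
def GFClass {ι : Type} [Fintype ι] [DecidableEq ι] {F : Type*} [Field F] (f : (ι → F) → F)
    (β : MulAut (POmega F f)) : Prop :=
  ∃ (α γ φ : MulAut (POmega F f)) (σ : F ≃+* F) (v : ι → F) (r : GL ι F),
    σ ≠ RingEquiv.refl F ∧ f v ≠ 0 ∧ (∀ i, σ (v i) = v i) ∧
    (r : Matrix ι ι F) = reflectionMatrix f v ∧
    IsInducedBySemilinearPOmega f r (RingEquiv.refl F) γ ∧
    IsFieldAutPOmegaOf f σ φ ∧ α * β * α⁻¹ = γ * φ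

/-- The automorphisms induced by similarities with a property. -/
def diagGroup {ι : Type} [Fintype ι] [DecidableEq ι] {F : Type*} [Field F]
    (R : ((ι → F) → F) → Matrix ι ι F → Prop) (f : (ι → F) → F) : Subgroup (MulAut (POmega F f)) :=
  autSubgroupOf fun β => ∃ g : GL ι F, g ∈ Geo.quadSimilarityGroup (F := F) f ∧ R f g.1 ∧
    IsInducedBySemilinearPOmega f g (RingEquiv.refl F) β

theorem reflectionMatrix_eq {ι : Type} [Fintype ι] [DecidableEq ι] {F : Type*} [Field F]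
    [Fintype F] (Q : QuadraticForm F (ι → F)) (v : ι → F) (hv : Q v ≠ 0) :
    reflectionMatrix (⇑Q) v = (ofOrth (refl Q v hv) : GL ι F).1 := by
  refine Matrix.ext_iff_mulVec.2 fun x => ?_
  have e : polarVec (⇑Q) v ⬝ᵥ x = polar Q v x := by
    conv_rhs => rw [pi_eq_sum_univ' x, ← polarBilin_apply_apply, map_sum]
    refine Finset.sum_congr rfl fun j _ => ?_
    rw [map_smul, smul_eq_mul, mul_comm]
    rfl
  rw [ofOrth_mulVec, refl_apply, reflectionMatrix, Matrix.sub_mulVec, Matrix.one_mulVec,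
    Matrix.smul_mulVec, Matrix.vecMulVec_mulVec, e]
  funext i
  simp [mul_comm, mul_left_comm]

variable {F : Type*} [Field F] [Fintype F]

theorem map_refl' {ι : Type} [Fintype ι] [DecidableEq ι] {Q : QuadraticForm F (ι → F)}
    (hinv : AutOrth45Api.Inv Q) (τ : F ≃+* F) {v : ι → F} (hv : Q v ≠ 0)
    (hv' : Q (fun i => τ (v i)) ≠ 0) :
    mapSim hinv τ (ofOrth (refl Q v hv)) = ofOrth (refl Q (fun i => τ (v i)) hv') := by
  refine Subtype.ext (Units.ext (Matrix.ext_iff_mulVec.2 fun x => ?_))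
  obtain ⟨u, rfl⟩ : ∃ u : ι → F, (fun i => τ (u i)) = x :=
    ⟨fun i => τ.symm (x i), funext fun i => τ.apply_symm_apply _⟩
  rw [mapSim_mulVec, ofOrth_mulVec, ofOrth_mulVec, refl_apply, refl_apply]
  have hp : polar Q (fun i => τ (v i)) (fun i => τ (u i)) = τ (polar Q v u) := by
    have e : (fun i => τ (v i)) + (fun i => τ (u i)) = fun i => τ ((v + u) i) := by funext i; simp
    rw [polar, polar, e, hinv, hinv, hinv, map_sub, map_sub]
  have hq : Q (fun i => τ (v i)) = τ (Q v) := hinv τ v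
  funext i
  simp [hp, hq]

theorem galois_facts {p f : ℕ} [Fact p.Prime] (hF : Fintype.card F = p ^ f) (hf : 1 ≤ f)
    {σ : F ≃+* F} (hσ : orderOf σ = 2) :
    Even f ∧ ∀ τ : F ≃+* F, orderOf τ = 2 → τ = σ := by
  obtain ⟨φ, hφ, -⟩ := AutOrth45Frob.exists_frobenius hF hf
  haveI : Finite (F ≃+* F) := Finite.of_injective (fun e => (e : F → F)) DFunLike.coe_injective
  have htop : Subgroup.zpowers φ = ⊤ := Subgroup.eq_top_of_card_eq _
    (by rw [Nat.card_zpowers, hφ, AutPSLApi.card_ringAut hF hf])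
  have key : ∀ τ : F ≃+* F, orderOf τ = 2 → 2 ∣ f ∧ τ = φ ^ (f / 2) := by
    intro τ hτ
    obtain ⟨j, hj, rfl⟩ : ∃ j < f, φ ^ j = τ := by
      have hm : τ ∈ Submonoid.powers φ := by
        exact mem_powers_iff_mem_zpowers.2 (htop ▸ Subgroup.mem_top τ)
      obtain ⟨k, hk⟩ := hm
      exact ⟨k % f, Nat.mod_lt _ hf, by rw [← hφ, pow_mod_orderOf]; exact hk⟩
    have h2 : (φ ^ j) ^ 2 = 1 := hτ ▸ pow_orderOf_eq_one _
    rw [← pow_mul, ← orderOf_dvd_iff_pow_eq_one, hφ] at h2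
    have hj0 : j ≠ 0 := fun e => by rw [e, pow_zero, orderOf_one] at hτ; omega
    obtain ⟨c, hc⟩ := h2
    have : c = 1 := by
      rcases c with _ | _ | c
      · omega
      · rfl
      · exfalso; nlinarith
    subst this
    exact ⟨⟨j, by omega⟩, by rw [show j = f / 2 by omega]⟩
  obtain ⟨hd, hs⟩ := key σ hσ
  exact ⟨even_iff_two_dvd.2 hd, fun τ hτ => (key τ hτ).2.trans hs.symm⟩

theorem split_congr {X : Type*} [Group X] {H K : Subgroup X} {x y : X} (h : IsConjUnder H x y) :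
    splitClassCount H K x = splitClassCount H K y := by
  obtain ⟨a, ha, rfl⟩ := h
  refine Nat.card_congr (Quot.congr (Equiv.subtypeEquivRight fun z => ⟨?_, ?_⟩) fun _ _ => Iff.rfl)
  · rintro ⟨b, hb, rfl⟩
    exact ⟨b * a⁻¹, H.mul_mem hb (H.inv_mem ha), by group⟩
  · rintro ⟨b, hb, rfl⟩
    exact ⟨b * a, H.mul_mem hb ha, by group⟩

theorem centraliser_congr {X : Type*} [Group X] {H : Subgroup X} {x y : X}
    (h : IsConjUnder H x y) :
    Nonempty (↥(H ⊓ Subgroup.centralizer {x}) ≃* ↥(H ⊓ Subgroup.centralizer {y})) := by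
  obtain ⟨a, ha, rfl⟩ := h
  refine ⟨((MulAut.conj a).subgroupMap _).trans (MulEquiv.subgroupCongr ?_)⟩
  ext z
  constructor
  · rintro ⟨w, ⟨hw, hwx⟩, rfl⟩
    refine ⟨H.mul_mem (H.mul_mem ha hw) (H.inv_mem ha), ?_⟩
    have hc := Subgroup.mem_centralizer_singleton_iff.1 hwx
    refine Subgroup.mem_centralizer_singleton_iff.2 ?_
    show a * w * a⁻¹ * (a * x * a⁻¹) = a * x * a⁻¹ * (a * w * a⁻¹)
    calc a * w * a⁻¹ * (a * x * a⁻¹) = a * (w * x) * a⁻¹ := by group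
      _ = a * (x * w) * a⁻¹ := by rw [hc]
      _ = _ := by group
  · rintro ⟨hz, hzy⟩
    have hc := Subgroup.mem_centralizer_singleton_iff.1 hzy
    refine ⟨a⁻¹ * z * a, ⟨H.mul_mem (H.mul_mem (H.inv_mem ha) hz) ha,
      Subgroup.mem_centralizer_singleton_iff.2 ?_⟩, by simp [mul_assoc]⟩
    calc a⁻¹ * z * a * x = a⁻¹ * (z * (a * x * a⁻¹)) * a := by group
      _ = a⁻¹ * (a * x * a⁻¹ * z) * a := by rw [hc]
      _ = _ := by group

/-- An involution of the class is inner-diagonally conjugate to the canonical one. -/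
theorem exists_conj {p f : ℕ} [Fact p.Prime] (hF : Fintype.card F = p ^ f) (hf : 1 ≤ f)
    {F₀ : Type*} [Field F₀] [Fintype F₀] (hF₀ : Fintype.card F₀ = p ^ (f / 2)) {n : ℕ} (hn : 4 ≤ n)
    {x : MulAut (POmega F ⇑(QuadClassify.qPlus (n + 1) F))}
    (hx : GFClass (⇑(QuadClassify.qPlus (n + 1) F)) x) (hx2 : orderOf x = 2) :
    ∃ σ : F ≃+* F, orderOf σ = 2 ∧ Fintype.card F₀ * Fintype.card F₀ = Fintype.card F ∧
      IsConjUnder (inndiag hn) x (x0 hn σ) := by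
  obtain ⟨α, γ, D, σ, v, r, hσ, hv, hfix, hr, hγ, hD, he⟩ := hx
  set h := AutOrth45Forms.good_plus (F := F) (show 5 ≤ n + 1 by omega) with hh
  set hi := inv_plus (F := F) (n + 1)
  obtain rfl : r = (ofOrth (refl _ v hv) : GL (Fin (n + 1) ⊕ Fin (n + 1)) F) :=
    Units.ext (hr.trans (reflectionMatrix_eq _ v hv))
  rw [OrthUnitarySimAut.induced_iff _ _ (ofOrth (refl _ v hv)).2] at hγ
  rw [AutOrth45Api.isField_iff h hi] at hD
  subst hγ hD
  set P := conjP (QuadClassify.qPlus (n + 1) F)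
  set R := ofOrth (refl (QuadClassify.qPlus (n + 1) F) v hv)
  set d := AutOrth45Api.fd h hi
  have hdR : d σ * P R = P R * d σ := by
    have := fd_conjP h hi σ R
    rwa [map_refl hi σ hv hfix] at this
  have hRR : P R * P R = 1 := by
    rw [← map_mul, ← ofOrth_mul, refl_sq, OrthBaseChange.ofOrth_one, map_one]
  have hxx : x * x = 1 := by rw [← pow_two, ← hx2, pow_orderOf_eq_one]
  have h2 : (P R * d σ) * (P R * d σ) = 1 := by
    have : α * x * α⁻¹ * (α * x * α⁻¹) = α * (x * x) * α⁻¹ := by group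
    rw [hxx, mul_one, mul_inv_cancel] at this
    rw [← he]
    exact this
  have hdd : d (σ * σ) = 1 := by
    rw [mul_assoc, ← mul_assoc (d σ), hdR, mul_assoc (P R), ← mul_assoc, hRR, one_mul] at h2
    rw [map_mul]; exact h2
  have hσσ : σ * σ = 1 := AutOrth45Api.fd_injective h hi (hdd.trans (map_one d).symm)
  have hσ2 : orderOf σ = 2 := orderOf_eq_prime (by rw [pow_two, hσσ]) hσ
  obtain ⟨hfe, huniq⟩ := galois_facts hF hf hσ2
  have hcard : Fintype.card F₀ * Fintype.card F₀ = Fintype.card F := by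
    obtain ⟨k, rfl⟩ := hfe
    rw [hF₀, hF, ← pow_add]
    congr 1
    omega
  refine ⟨σ, hσ2, hcard, ?_⟩
  obtain ⟨φ, hφσ, hφ⟩ := exists_emb hσ2 hcard
  obtain ⟨g, τ, hg⟩ := AutOrth45Api.aut_decomp h hi α⁻¹
  have hx' : x = α⁻¹ * (P R * d σ) * α⁻¹⁻¹ := by
    rw [← he]; group
  have hcomm : d τ * d σ = d σ * d τ := by
    rw [← map_mul, ← map_mul]
    congr 1
    have ho : orderOf (MulAut.conj τ σ) = 2 := by
      rw [MulEquiv.orderOf_eq, hσ2]
    have := huniq _ ho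
    rw [MulAut.conj_apply, mul_inv_eq_iff_eq_mul] at this
    exact this
  have hv' : QuadClassify.qPlus (n + 1) F (fun i => τ (v i)) ≠ 0 := by
    rw [hi]; exact (map_ne_zero τ).2 hv
  have hfix' : ∀ i, σ (τ (v i)) = τ (v i) := fun i => by
    have e : τ * σ = σ * τ := AutOrth45Api.fd_injective h hi (by rw [map_mul, map_mul]; exact hcomm)
    have := RingEquiv.congr_fun e (v i)
    rw [show (τ * σ) (v i) = τ (σ (v i)) from rfl, hfix i,
      show (σ * τ) (v i) = σ (τ (v i)) from rfl] at this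
    exact this.symm
  have hdτ : d τ * P R = P (ofOrth (refl _ _ hv')) * d τ := by
    have := fd_conjP h hi τ R
    rwa [map_refl' hi τ hv hv'] at this
  have hxe : x = P g * (P (ofOrth (refl _ _ hv')) * d σ) * (P g)⁻¹ := by
    rw [hx', hg, mul_inv_rev]
    calc P g * d τ * (P R * d σ) * ((d τ)⁻¹ * (P g)⁻¹)
        = P g * (d τ * P R) * d σ * (d τ)⁻¹ * (P g)⁻¹ := by group
      _ = P g * P (ofOrth (refl _ _ hv')) * (d τ * d σ) * (d τ)⁻¹ * (P g)⁻¹ := by rw [hdτ]; group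
      _ = _ := by rw [hcomm]; group
  rw [hxe]
  exact isConj_x0 hn hφσ hφ g hv' hfix'

theorem core {p f : ℕ} [Fact p.Prime] (hF : Fintype.card F = p ^ f) (hf : 1 ≤ f)
    (F₀ : Type*) [Field F₀] [Fintype F₀] (hF₀ : Fintype.card F₀ = p ^ (f / 2)) {n : ℕ} (hn : 4 ≤ n)
    (x : MulAut (POmega F ⇑(QuadClassify.qPlus (n + 1) F)))
    (hx : GFClass (⇑(QuadClassify.qPlus (n + 1) F)) x) (hx2 : orderOf x = 2) :
    Even f ∧
    (∀ y, GFClass (⇑(QuadClassify.qPlus (n + 1) F)) y → orderOf y = 2 →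
      IsConjUnder (diagGroup PreservesSingularClasses (⇑(QuadClassify.qPlus (n + 1) F))) x y) ∧
    (∃ a₀ b₀ : F₀, (∀ z₁ z₂ : F₀, z₁ ^ 2 + a₀ * z₁ * z₂ + b₀ * z₂ ^ 2 = 0 → z₁ = 0 ∧ z₂ = 0) ∧
      Nonempty (↥(diagGroup PreservesSingularClasses (⇑(QuadClassify.qPlus (n + 1) F)) ⊓
          Subgroup.centralizer {x}) ≃*
        ↥(diagGroup (fun _ g => PreservesSingularClassesMinus n a₀ b₀ g)
          (⇑(QuadClassify.qMinus n F₀ a₀ b₀))))) ∧
    (p = 2 → splitClassCount (diagGroup PreservesSingularClasses (⇑(QuadClassify.qPlus (n + 1) F)))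
      (Inn _) x = 1) ∧
    ((p ≠ 2 ∧ Odd (n + 1) ∧ p ^ (f / 2) % 4 = 1) →
      splitClassCount (diagGroup PreservesSingularClasses (⇑(QuadClassify.qPlus (n + 1) F)))
        (Inn _) x = 4) ∧
    ((p ≠ 2 ∧ ¬ (Odd (n + 1) ∧ p ^ (f / 2) % 4 = 1)) →
      splitClassCount (diagGroup PreservesSingularClasses (⇑(QuadClassify.qPlus (n + 1) F)))
        (Inn _) x = 2) := by
  obtain ⟨σ, hσ, hcard, hcx⟩ := exists_conj hF hf hF₀ hn hx hx2
  have hH : diagGroup PreservesSingularClasses (⇑(QuadClassify.qPlus (n + 1) F)) = inndiag hn := by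
    refine autSubgroupOf_eq _ _ _ fun β => ⟨?_, ?_⟩
    · rintro ⟨g, hg, hr, hi⟩
      exact ⟨⟨g, hg⟩, hr, (OrthUnitarySimAut.induced_iff _ g hg β).1 hi⟩
    · rintro ⟨g, hg, rfl⟩
      exact ⟨g.1, g.2, hg, (OrthUnitarySimAut.induced_iff _ g.1 g.2 _).2 rfl⟩
  rw [hH]
  obtain ⟨φ, hφσ, hφ⟩ := exists_emb hσ hcard
  obtain ⟨a, b, hab, S, hω⟩ := OrthPlusGraphField.exists_frame hσ hφ hφσ
  refine ⟨(galois_facts hF hf hσ).1, fun y hy hy2 => ?_, ⟨a, b, hab, ?_⟩, fun hp => ?_, ?_⟩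
  · obtain ⟨τ, hτ, -, a', ha', hcy⟩ := exists_conj hF hf hF₀ hn hy hy2
    obtain ⟨c, hc, hcx'⟩ := hcx
    rw [(galois_facts hF hf hσ).2 τ hτ, hcx'] at hcy
    exact ⟨a'⁻¹ * c, (inndiag hn).mul_mem ((inndiag hn).inv_mem ha') hc, by
      rw [show a'⁻¹ * c * x * (a'⁻¹ * c)⁻¹ = a'⁻¹ * (c * x * c⁻¹) * a' by group, hcy]
      group⟩
  · have hK : diagGroup (fun _ g => PreservesSingularClassesMinus n a b g)
        (⇑(QuadClassify.qMinus n F₀ a b))
        = (keep0 S hn).map (conjP (QuadClassify.qMinus n F₀ a b)) := by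
      refine autSubgroupOf_eq _ _ _ fun β => ⟨?_, ?_⟩
      · rintro ⟨g, hg, hr, hi⟩
        exact ⟨⟨g, hg⟩, (preservesMinus_iff hab S (show 2 ≤ n by omega) ⟨g, hg⟩).1 hr,
          (OrthUnitarySimAut.induced_iff _ g hg β).1 hi⟩
      · rintro ⟨g, hg, rfl⟩
        exact ⟨g.1, g.2, (preservesMinus_iff hab S (show 2 ≤ n by omega) g).2 hg,
          (OrthUnitarySimAut.induced_iff _ g.1 g.2 _).2 rfl⟩
    rw [hK]
    obtain ⟨e⟩ := centraliser_congr hcx
    obtain ⟨e'⟩ := centraliser_iso S hn hab hσ hω hφσ hφ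
    exact ⟨e.trans e'⟩
  · haveI : CharP F p := charP_of_card_eq_prime_pow hF
    subst hp
    exact OrthPlusGraphFieldSplit.count_eq_one
      (OrthPlusGraphFieldSplit.inndiag_le_inn (CharP.cast_eq_zero F 2) hn) x
  · haveI : CharP F p := charP_of_card_eq_prime_pow hF
    have key : p ≠ 2 → (2 : F) ≠ 0 ∧ (IsSquare (-1 : F₀) ↔ p ^ (f / 2) % 4 = 1) := by
      intro hp
      refine ⟨Ring.two_ne_zero (by rw [ringChar.eq F p]; exact hp), ?_⟩
      have hodd : Odd (p ^ (f / 2)) := ((Fact.out : p.Prime).odd_of_ne_two hp).pow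
      rw [FiniteField.isSquare_neg_one_iff, hF₀]
      rcases OrthUnitarySimClasses.four_cases hodd with h | h <;> omega
    rw [split_congr hcx]
    refine ⟨fun hp => ?_, fun hp => ?_⟩
    · obtain ⟨h2, hiff⟩ := key hp.1
      exact (OrthPlusGraphFieldSplit.count_odd S h2 hn hab hσ hω hφσ hφ hcard).1
        ⟨hp.2.1, hiff.2 hp.2.2⟩
    · obtain ⟨h2, hiff⟩ := key hp.1
      exact (OrthPlusGraphFieldSplit.count_odd S h2 hn hab hσ hω hφσ hφ hcard).2
        fun hc => hp.2 ⟨hc.1, hiff.1 hc.2⟩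

theorem aux {p f : ℕ} [Fact p.Prime] (hF : Fintype.card F = p ^ f) (hf : 1 ≤ f)
    (F₀ : Type*) [Field F₀] [Fintype F₀] (hF₀ : Fintype.card F₀ = p ^ (f / 2)) {n : ℕ} (hn : 4 ≤ n)
    (fp : (Fin (n + 1) ⊕ Fin (n + 1) → F) → F) (hfp : ⇑(QuadClassify.qPlus (n + 1) F) = fp)
    (fm : F₀ → F₀ → ((Fin n ⊕ Fin n) ⊕ Fin 2 → F₀) → F₀)
    (hfm : (fun a b => ⇑(QuadClassify.qMinus n F₀ a b)) = fm)
    (x : MulAut (POmega F fp)) (hx : GFClass fp x) (hx2 : orderOf x = 2) :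
    Even f ∧
    (∀ y, GFClass fp y → orderOf y = 2 →
      IsConjUnder (diagGroup PreservesSingularClasses fp) x y) ∧
    (∃ a₀ b₀ : F₀, (∀ z₁ z₂ : F₀, z₁ ^ 2 + a₀ * z₁ * z₂ + b₀ * z₂ ^ 2 = 0 → z₁ = 0 ∧ z₂ = 0) ∧
      Nonempty (↥(diagGroup PreservesSingularClasses fp ⊓ Subgroup.centralizer {x}) ≃*
        ↥(diagGroup (fun _ g => PreservesSingularClassesMinus n a₀ b₀ g) (fm a₀ b₀)))) ∧
    (p = 2 → splitClassCount (diagGroup PreservesSingularClasses fp) (Inn _) x = 1) ∧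
    ((p ≠ 2 ∧ Odd (n + 1) ∧ p ^ (f / 2) % 4 = 1) →
      splitClassCount (diagGroup PreservesSingularClasses fp) (Inn _) x = 4) ∧
    ((p ≠ 2 ∧ ¬ (Odd (n + 1) ∧ p ^ (f / 2) % 4 = 1)) →
      splitClassCount (diagGroup PreservesSingularClasses fp) (Inn _) x = 2) := by
  subst hfp hfm
  exact core hF hf F₀ hF₀ hn x hx hx2

/-- Let T = PΩ⁺_{2m}(F) with m ≥ 5 (dimension 2m ≠ 8) and |F| = p^f, G = Inndiag(T), and x an involutory graph-field automorphism of T. Then f is even; any two involutory graph-field automorphisms of T are G-conjugate; C_G(x) is isomorphic to Inndiag(PΩ⁻_{2m}(F₀)) for a field F₀ with p^(f/2) elements (some anisotropic binary part over F₀); and the G-class of x is the union of exactly c T-classes with c = 1 if p = 2, c = 4 if p is odd, m is odd and p^(f/2) ≡ 1 (mod 4), and c = 2 otherwise. -/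
theorem result {F : Type*} [Field F] [Fintype F] {p f : ℕ} [Fact p.Prime] (hF : Fintype.card F = p ^ f) (hf : 1 ≤ f) {m : ℕ} (hm : 5 ≤ m) (x : MulAut (Cfsg.POmega F (Cfsg.quadFormPlus m F))) (hx : Cfsg.IsGraphFieldAutClassPOmegaPlus m x) (hx2 : orderOf x = 2) (F₀ : Type*) [Field F₀] [Fintype F₀] (hF₀ : Fintype.card F₀ = p ^ (f / 2)) :
    Even f ∧ (∀ y : MulAut (Cfsg.POmega F (Cfsg.quadFormPlus m F)), Cfsg.IsGraphFieldAutClassPOmegaPlus m y → orderOf y = 2 → Cfsg.IsConjUnder (Cfsg.inndiagPOmegaPlus m F) x y) ∧ (∃ a₀ b₀ : F₀, (∀ z₁ z₂ : F₀, z₁ ^ 2 + a₀ * z₁ * z₂ + b₀ * z₂ ^ 2 = 0 → z₁ = 0 ∧ z₂ = 0) ∧ Nonempty (↥(Cfsg.inndiagPOmegaPlus m F ⊓ Subgroup.centralizer {x}) ≃* ↥(Cfsg.inndiagPOmegaMinus (m - 1) F₀ a₀ b₀))) ∧ (p = 2 → Cfsg.splitClassCount (Cfsg.inndiagPOmegaPlus m F) (Cfsg.Inn (Cfsg.POmega F (Cfsg.quadFormPlus m F))) x = 1) ∧ ((p ≠ 2 ∧ Odd m ∧ p ^ (f / 2) % 4 = 1) → Cfsg.splitClassCount (Cfsg.inndiagPOmegaPlus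 m F) (Cfsg.Inn (Cfsg.POmega F (Cfsg.quadFormPlus m F))) x = 4) ∧ ((p ≠ 2 ∧ ¬ (Odd m ∧ p ^ (f / 2) % 4 = 1)) → Cfsg.splitClassCount (Cfsg.inndiagPOmegaPlus m F) (Cfsg.Inn (Cfsg.POmega F (Cfsg.quadFormPlus m F))) x = 2) := by
  obtain ⟨n, rfl⟩ : ∃ n, m = n + 1 := ⟨m - 1, by omega⟩
  exact aux hF hf F₀ hF₀ (show 4 ≤ n by omega) (quadFormPlus (n + 1) F)
    (QuadClassify.qPlus_coe (n + 1)) (fun a b => quadFormMinus n F₀ a b)
    (funext fun a => funext fun b => QuadClassify.qMinus_coe n a b) x hx hx2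

end Cfsg.Agent.S2717
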