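import Cfsg.Statements.S2718
import Cfsg.Agent.Lib.OrthUnitarySimClasses
import Cfsg.Agent.Lib.OrthGraphSplit
-- import your own Cfsg.Agent.* helpers here

set_option autoImplicit false
open Cfsg

namespace Cfsg.Agent.S2718

/-- Let T = PΩ⁺_{2m}(F) with m ≥ 4 and |F| = q odd, G = Inndiag(T), and γ an involutory graph automorphism of T induced by a similarity (one interchanging the two classes of maximal totally singular subspaces). Then the G-class of γ is either a single T-class or the union of exactly two T-classes, and it is the union of two unless m is odd and q ≡ 3 (mod 4). -/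
theorem result {F : Type*} [Field F] [Fintype F] (hodd : Odd (Fintype.card F)) {m : ℕ} (hm : 4 ≤ m) (γ : MulAut (Cfsg.POmega F (Cfsg.quadFormPlus m F))) (hγ : Cfsg.IsSimilarityGraphAutPOmegaPlus m γ) (hγ2 : orderOf γ = 2) :
    (Cfsg.splitClassCount (Cfsg.inndiagPOmegaPlus m F) (Cfsg.Inn (Cfsg.POmega F (Cfsg.quadFormPlus m F))) γ = 1 ∨ Cfsg.splitClassCount (Cfsg.inndiagPOmegaPlus m F) (Cfsg.Inn (Cfsg.POmega F (Cfsg.quadFormPlus m F))) γ = 2) ∧ (¬ (Odd m ∧ Fintype.card F % 4 = 3) → Cfsg.splitClassCount (Cfsg.inndiagPOmegaPlus m F) (Cfsg.Inn (Cfsg.POmega F (Cfsg.quadFormPlus m F))) γ = 2) := by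
  have h2 : (2 : F) ≠ 0 := Agent.OmegaStd.two_ne_zero rfl hodd
  have h := Agent.OrthUnitarySimClasses.good_plus (F := F) (m := m) (by omega) h2
  have e := Agent.OrthGraphSplit.split_count' h
    (fun f g => PreservesSingularClasses f g.1) (fun g => by
      rw [Agent.OrthUnitarySimilar.mem_S1, Agent.OrthUnitarySimilar.dHom_eq_one_iff,
        Agent.OrthUnitarySimClasses.preserves_iff (by omega) h2 (LinearEquiv.refl F _)
          (fun v => (Agent.QuadClassify.qPlus_apply m v).symm)
          (Agent.OrthUnitarySimilar.mult h g).ne_zero (Agent.OrthUnitarySimilar.mult_spec h g)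
          (Matrix.GeneralLinearGroup.det_ne_zero _)])
    (quadFormPlus m F) (Agent.QuadClassify.qPlus_coe m) (inndiagPOmegaPlus m F) rfl γ hγ hγ2
  exact ⟨e.1, fun hc => e.2 ((Agent.OrthUnitarySimClasses.negMem_plus hodd).2 hc)⟩

end Cfsg.Agent.S2718
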