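import Cfsg.Statements.S2719
import Cfsg.Agent.Lib.OrthUnitarySimClasses
import Cfsg.Agent.Lib.OrthGraphSplit
import Cfsg.Agent.Lib.OrthSemiInvolution
import Cfsg.Agent.Lib.OrthGraphSplitEven
-- import your own Cfsg.Agent.* helpers here

set_option autoImplicit false
open Cfsg

namespace Cfsg.Agent.S2719

/-- Let T = PΩ⁻_{2m+2}(F) with m ≥ 3 and |F| = q odd (form with anisotropic binary part z₁² + a z₁ z₂ + b z₂²), G = Inndiag(T), and γ an involutory graph automorphism of T (an automorphism in the image of the semisimilarity group, not inner-diagonal, of order 2). Then the G-class of γ is either a single T-class or the union of exactly two T-classes, and it is the union of two unless m is even and q ≡ 1 (mod 4). -/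
theorem result {F : Type*} [Field F] [Fintype F] (hodd : Odd (Fintype.card F)) {m : ℕ} (hm : 3 ≤ m) (a b : F) (hab : (∀ z₁ z₂ : F, z₁ ^ 2 + a * z₁ * z₂ + b * z₂ ^ 2 = 0 → z₁ = 0 ∧ z₂ = 0)) (γ : MulAut (Cfsg.POmega F (Cfsg.quadFormMinus m F a b))) (hγ : Cfsg.IsGraphAutClassPOmegaMinus m a b γ) (hγ2 : orderOf γ = 2) :
    (Cfsg.splitClassCount (Cfsg.inndiagPOmegaMinus m F a b) (Cfsg.Inn (Cfsg.POmega F (Cfsg.quadFormMinus m F a b))) γ = 1 ∨ Cfsg.splitClassCount (Cfsg.inndiagPOmegaMinus m F a b) (Cfsg.Inn (Cfsg.POmega F (Cfsg.quadFormMinus m F a b))) γ = 2) ∧ (¬ (Even m ∧ Fintype.card F % 4 = 1) → Cfsg.splitClassCount (Cfsg.inndiagPOmegaMinus m F a b) (Cfsg.Inn (Cfsg.POmega F (Cfsg.quadFormMinus m F a b))) γ = 2) := by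
  have h2 : (2 : F) ≠ 0 := Agent.OmegaStd.two_ne_zero rfl hodd
  have h := Agent.OrthUnitarySimClasses.good_minus (F := F) (m := m) (by omega) h2 hab
  obtain ⟨g, hg, hgi⟩ := Agent.OrthSemiInvolution.sim_of_involution' h2 h.nd h.five
    (Agent.OrthSemiInvolution.hasPairs_minus (by omega) a b) h.card
    (Agent.OrthSemiInvolution.disc_minus h2 hab) (quadFormMinus m F a b)
    (Agent.QuadClassify.qMinus_coe m a b) hγ.1 (by have := pow_orderOf_eq_one γ; rwa [hγ2, pow_two] at this)
  have e := Agent.OrthGraphSplit.split_count' h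
    (fun _ g => PreservesSingularClassesMinus m a b g.1) (fun g => by
      rw [Agent.OrthUnitarySimilar.mem_S1, Agent.OrthUnitarySimilar.dHom_eq_one_iff,
        Agent.OrthUnitarySimClasses.preserves_minus (by omega) h2 hab
          (Agent.OrthUnitarySimilar.mult h g).ne_zero
          (fun v => by simpa [Agent.QuadClassify.qMinus_apply] using
            Agent.OrthUnitarySimilar.mult_spec h g v)
          (Matrix.GeneralLinearGroup.det_ne_zero _)])
    (quadFormMinus m F a b) (Agent.QuadClassify.qMinus_coe m a b) (inndiagPOmegaMinus m F a b) rfl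
    γ ⟨g, hg, fun hp => hγ.2.1 (Subgroup.subset_closure ⟨g, hg, hp, hgi⟩), hgi⟩ hγ2
  refine ⟨e.1, fun hc => ?_⟩
  rcases Nat.even_or_odd m with hme | hmo
  · refine e.2 ((Agent.OrthUnitarySimClasses.negMem_minus hodd hab).2 ⟨hme, ?_⟩)
    exact (Agent.OrthUnitarySimClasses.four_cases hodd).resolve_left fun h4 => hc ⟨hme, h4⟩
  · exact Agent.OrthGraphSplit.split_count_even' h (Nat.even_add_one.2 (Nat.not_even_iff_odd.2 hmo))
      (fun _ g => PreservesSingularClassesMinus m a b g.1) (fun g => by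
        rw [Agent.OrthUnitarySimilar.mem_S1, Agent.OrthUnitarySimilar.dHom_eq_one_iff,
          Agent.OrthUnitarySimClasses.preserves_minus (by omega) h2 hab
            (Agent.OrthUnitarySimilar.mult h g).ne_zero
            (fun v => by simpa [Agent.QuadClassify.qMinus_apply] using
              Agent.OrthUnitarySimilar.mult_spec h g v)
            (Matrix.GeneralLinearGroup.det_ne_zero _)])
      (quadFormMinus m F a b) (Agent.QuadClassify.qMinus_coe m a b) (inndiagPOmegaMinus m F a b) rfl
      γ ⟨g, hg, fun hp => hγ.2.1 (Subgroup.subset_closure ⟨g, hg, hp, hgi⟩), hgi⟩ hγ2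

end Cfsg.Agent.S2719
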