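import Cfsg.Statements.S2720
import Cfsg.Agent.Lib.OrthUnitarySimClasses
import Cfsg.Agent.Lib.OrthSemisimpleFusion
-- import your own Cfsg.Agent.* helpers here

set_option autoImplicit false
open Cfsg

namespace Cfsg.Agent.S2720

/-- Let T = PΩ⁺_{2m}(F) (m ≥ 4, F finite of odd characteristic p), G = Inndiag(T), and let x be an automorphism of T induced by a similarity of the form (an element of the image G̃ of the conformal orthogonal group) of odd prime order r ≠ p. Then the T-class, the PSO-class and the G-class of x coincide (conjugacy under inner automorphisms, under the image of the special orthogonal group, and under G), and the PO-class of x coincides with its G̃-class. (In characteristic 2 the first equality fails: there the special orthogonal group is the full orthogonal group and some such classes split.) -/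
theorem result {F : Type*} [Field F] [Fintype F] {p : ℕ} [Fact p.Prime] [CharP F p] (hp : p ≠ 2) {m : ℕ} (hm : 4 ≤ m) (x : MulAut (Cfsg.POmega F (Cfsg.quadFormPlus m F))) (hx : x ∈ Cfsg.pgoAut F (Cfsg.quadFormPlus m F)) {r : ℕ} (hr : r.Prime) (hro : Odd r) (hrp : r ≠ p) (hxr : orderOf x = r) :
    (∀ y : MulAut (Cfsg.POmega F (Cfsg.quadFormPlus m F)), (Cfsg.IsConjUnder (Cfsg.Inn (Cfsg.POmega F (Cfsg.quadFormPlus m F))) x y ↔ Cfsg.IsConjUnder (Cfsg.inndiagPOmegaPlus m F) x y) ∧ (Cfsg.IsConjUnder (Cfsg.psoAut F (Cfsg.quadFormPlus m F)) x y ↔ Cfsg.IsConjUnder (Cfsg.inndiagPOmegaPlus m F) x y)) ∧ (∀ y : MulAut (Cfsg.POmega F (Cfsg.quadFormPlus m F)), Cfsg.IsConjUnder (Cfsg.poAut F (Cfsg.quadFormPlus m F)) x y ↔ Cfsg.IsConjUnder (Cfsg.pgoAut F (Cfsg.quadFormPlus m F)) x y) := by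
  have h2 : (2 : F) ≠ 0 := Ring.two_ne_zero (by rw [ringChar.eq F p]; exact hp)
  have h := Agent.OrthUnitarySimClasses.good_plus (F := F) (m := m) (by omega) h2
  exact Agent.OrthSemisimpleFusion.fusion' h (fun f g => PreservesSingularClasses f g.1)
    (fun g => by
      rw [Agent.OrthUnitarySimilar.mem_S1, Agent.OrthUnitarySimilar.dHom_eq_one_iff,
        Agent.OrthUnitarySimClasses.preserves_iff (by omega) h2 (LinearEquiv.refl F _)
          (fun v => (Agent.QuadClassify.qPlus_apply m v).symm)
          (Agent.OrthUnitarySimilar.mult h g).ne_zero (Agent.OrthUnitarySimilar.mult_spec h g)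
          (Matrix.GeneralLinearGroup.det_ne_zero _)])
    (quadFormPlus m F) (Agent.QuadClassify.qPlus_coe m) (inndiagPOmegaPlus m F) rfl x hx hr hro hrp hxr

end Cfsg.Agent.S2720
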