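import Cfsg.Statements.S2721
import Cfsg.Agent.Lib.OrthUnitarySimClasses
import Cfsg.Agent.Lib.OrthSemisimpleFusion
-- import your own Cfsg.Agent.* helpers here

set_option autoImplicit false
open Cfsg

namespace Cfsg.Agent.S2721

/-- Let T = PΩ⁻_{2m+2}(F) (m ≥ 3, F finite of odd characteristic p), G = Inndiag(T), and let x be an automorphism of T induced by a similarity of the form (an element of the image G̃ of the conformal orthogonal group) of odd prime order r ≠ p. Then the T-class, the PSO-class and the G-class of x coincide (conjugacy under inner automorphisms, under the image of the special orthogonal group, and under G), and the PO-class of x coincides with its G̃-class. (In characteristic 2 the first equality fails: there the special orthogonal group is the full orthogonal group and some such classes split.) -/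
theorem result {F : Type*} [Field F] [Fintype F] {p : ℕ} [Fact p.Prime] [CharP F p] (hp : p ≠ 2) {m : ℕ} (hm : 3 ≤ m) (a b : F) (hab : (∀ z₁ z₂ : F, z₁ ^ 2 + a * z₁ * z₂ + b * z₂ ^ 2 = 0 → z₁ = 0 ∧ z₂ = 0)) (x : MulAut (Cfsg.POmega F (Cfsg.quadFormMinus m F a b))) (hx : x ∈ Cfsg.pgoAut F (Cfsg.quadFormMinus m F a b)) {r : ℕ} (hr : r.Prime) (hro : Odd r) (hrp : r ≠ p) (hxr : orderOf x = r) :
    (∀ y : MulAut (Cfsg.POmega F (Cfsg.quadFormMinus m F a b)), (Cfsg.IsConjUnder (Cfsg.Inn (Cfsg.POmega F (Cfsg.quadFormMinus m F a b))) x y ↔ Cfsg.IsConjUnder (Cfsg.inndiagPOmegaMinus m F a b) x y) ∧ (Cfsg.IsConjUnder (Cfsg.psoAut F (Cfsg.quadFormMinus m F a b)) x y ↔ Cfsg.IsConjUnder (Cfsg.inndiagPOmegaMinus m F a b) x y)) ∧ (∀ y : MulAut (Cfsg.POmega F (Cfsg.quadFormMinus m F a b)), Cfsg.IsConjUnder (Cfsg.poAut F (Cfsg.quadFormMinus m F a b)) x y ↔ Cfsg.IsConjUnder (Cfsg.pgoAut F (Cfsg.quadFormMinus m F a b)) x y) := by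
  have h2 : (2 : F) ≠ 0 := Ring.two_ne_zero (by rw [ringChar.eq F p]; exact hp)
  have h := Agent.OrthUnitarySimClasses.good_minus (F := F) (m := m) (by omega) h2 hab
  exact Agent.OrthSemisimpleFusion.fusion' h (fun _ g => PreservesSingularClassesMinus m a b g.1)
    (fun g => by
      rw [Agent.OrthUnitarySimilar.mem_S1, Agent.OrthUnitarySimilar.dHom_eq_one_iff,
        Agent.OrthUnitarySimClasses.preserves_minus (by omega) h2 hab
          (Agent.OrthUnitarySimilar.mult h g).ne_zero
          (fun v => by simpa [Agent.QuadClassify.qMinus_apply] using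
            Agent.OrthUnitarySimilar.mult_spec h g v)
          (Matrix.GeneralLinearGroup.det_ne_zero _)])
    (quadFormMinus m F a b) (Agent.QuadClassify.qMinus_coe m a b) (inndiagPOmegaMinus m F a b) rfl x hx hr
    hro hrp hxr

end Cfsg.Agent.S2721
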