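import Cfsg.Statements.S2725
import Cfsg.Agent.Lib.OrthUnitarySimClasses
-- import your own Cfsg.Agent.* helpers here

set_option autoImplicit false
open Cfsg

namespace Cfsg.Agent.S2725
open Cfsg.Agent


/-- Let T = PΩ⁺_{2m}(F) with m ≥ 4 and |F| = q odd. The inner-diagonal group G = Inndiag(T) (image of the class-preserving similarities) taken modulo the inner automorphism group T is cyclic of order 2 when m is odd and q ≡ 3 (mod 4), cyclic of order 4 when m is odd and q ≡ 1 (mod 4), and elementary abelian of order 4 when m is even. -/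
theorem result {F : Type*} [Field F] [Fintype F] (hodd : Odd (Fintype.card F)) {m : ℕ} (hm : 4 ≤ m) :
    ((Odd m ∧ Fintype.card F % 4 = 3) → (∃ φ : ↥(Cfsg.inndiagPOmegaPlus m F) →* Multiplicative (ZMod 2), Function.Surjective φ ∧ φ.ker = (Cfsg.Inn (Cfsg.POmega F (Cfsg.quadFormPlus m F))).subgroupOf (Cfsg.inndiagPOmegaPlus m F))) ∧ ((Odd m ∧ Fintype.card F % 4 = 1) → (∃ φ : ↥(Cfsg.inndiagPOmegaPlus m F) →* Multiplicative (ZMod 4), Function.Surjective φ ∧ φ.ker = (Cfsg.Inn (Cfsg.POmega F (Cfsg.quadFormPlus m F))).subgroupOf (Cfsg.inndiagPOmegaPlus m F))) ∧ (Even m → (∃ φ : ↥(Cfsg.inndiagPOmegaPlus m F) →* Multiplicative (ZMod 2 × ZMod 2), Function.Surjective φ ∧ φ.ker = (Cfsg.Inn (Cfsg.POmega F (Cfsg.quadFormPlus m F))).subgroupOf (Cfsg.inndiagPOmegaPlus m F))) := by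
  have h2 := OmegaStd.two_ne_zero (F := F) rfl hodd
  have hm' : 3 ≤ m := by omega
  obtain ⟨e1, e2, e3⟩ := OrthUnitarySimClasses.inndiag_mod_inn'
    (OrthUnitarySimClasses.good_plus hm' h2) (fun f g => Cfsg.PreservesSingularClasses f g.1) (OrthUnitarySimClasses.inner_diag_plus hm' h2) _ (QuadClassify.qPlus_coe m) (Cfsg.inndiagPOmegaPlus m F) rfl
  have hneg := OrthUnitarySimClasses.negMem_plus (m := m) hodd
  refine ⟨fun h => e1 fun h' => hneg.1 h' h, fun h => e2 (hneg.2 fun h' => by omega) h.1,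
    fun h => e3 (hneg.2 fun h' => Nat.not_odd_iff_even.2 h h'.1) h⟩

end Cfsg.Agent.S2725
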