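import Cfsg.Statements.S2729
import Cfsg.Agent.Lib.OrthUnitarySimClasses
-- import your own Cfsg.Agent.* helpers here

set_option autoImplicit false
open Cfsg

namespace Cfsg.Agent.S2729
open Cfsg.Agent


/-- Let T = PΩ⁻_{2m+2}(F) with m ≥ 3 and |F| = q odd (form with anisotropic binary part). The inner-diagonal group G = Inndiag(T) (image of the class-preserving similarities) taken modulo the inner automorphism group T is cyclic of order 4 when m is even and q ≡ 3 (mod 4), and of order 2 otherwise. -/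
theorem result {F : Type*} [Field F] [Fintype F] (hodd : Odd (Fintype.card F)) {m : ℕ} (hm : 3 ≤ m) (a b : F) (hab : (∀ z₁ z₂ : F, z₁ ^ 2 + a * z₁ * z₂ + b * z₂ ^ 2 = 0 → z₁ = 0 ∧ z₂ = 0)) :
    ((Even m ∧ Fintype.card F % 4 = 3) → (∃ φ : ↥(Cfsg.inndiagPOmegaMinus m F a b) →* Multiplicative (ZMod 4), Function.Surjective φ ∧ φ.ker = (Cfsg.Inn (Cfsg.POmega F (Cfsg.quadFormMinus m F a b))).subgroupOf (Cfsg.inndiagPOmegaMinus m F a b))) ∧ (¬ (Even m ∧ Fintype.card F % 4 = 3) → (∃ φ : ↥(Cfsg.inndiagPOmegaMinus m F a b) →* Multiplicative (ZMod 2), Function.Surjective φ ∧ φ.ker = (Cfsg.Inn (Cfsg.POmega F (Cfsg.quadFormMinus m F a b))).subgroupOf (Cfsg.inndiagPOmegaMinus m F a b))) := by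
  have h2 := OmegaStd.two_ne_zero (F := F) rfl hodd
  have hm' : 2 ≤ m := by omega
  obtain ⟨e1, e2, -⟩ := OrthUnitarySimClasses.inndiag_mod_inn'
    (OrthUnitarySimClasses.good_minus hm' h2 hab) (fun _ g => Cfsg.PreservesSingularClassesMinus m a b g.1) (OrthUnitarySimClasses.inner_diag_minus hm' h2 hab) _ (QuadClassify.qMinus_coe m a b) (Cfsg.inndiagPOmegaMinus m F a b) rfl
  have hneg := OrthUnitarySimClasses.negMem_minus (m := m) hodd hab
  exact ⟨fun h => e2 (hneg.2 h) (by obtain ⟨r, hr⟩ := h.1; exact ⟨r, by omega⟩),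
    fun h => e1 fun h' => h (hneg.1 h')⟩

end Cfsg.Agent.S2729
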