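import Cfsg.Statements.S2730
import Cfsg.Agent.Lib.AutPSpBalance
-- import your own Cfsg.Agent.* helpers here

set_option autoImplicit false
open Cfsg

namespace Cfsg.Agent.S2730

open Cfsg.Agent.AutPSpBasic Cfsg.Agent.AutPSpMain Cfsg.Agent.AutPSpApi Cfsg.Agent.AutPSpField in

/-- A criterion for the failure of local balance in almost simple groups whose socle is a projective symplectic group PSp_{2m}(F) (m ≥ 2, (2m, |F|) ≠ (4, 2)). Let F be a finite field of characteristic r and K the (simple) group in question; let A be a group of automorphisms of K containing all inner automorphisms, and x ∈ A an automorphism of prime order p ≠ r that is not inner-diagonal (not induced by a conformal symplectic matrix). Then the largest normal subgroup of C_A(x) of order prime to p is nontrivial if and only if x is a field automorphism of K (conjugate under Aut(K) to a non-identity standard field automorphism) and p does not divide the number of fixed points of x on K. -/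
theorem result {F : Type*} [Field F] [Fintype F] {r : ℕ} [Fact r.Prime] [CharP F r] {m : ℕ} (hm : 2 ≤ m) (hs : m = 2 → 3 ≤ Fintype.card F) (hK : IsSimpleGroup (Cfsg.PSp m F)) (A : Subgroup (MulAut (Cfsg.PSp m F))) (hinn : ∀ k : Cfsg.PSp m F, MulAut.conj k ∈ A) {p : ℕ} [Fact p.Prime] (hpr : p ≠ r) (x : MulAut (Cfsg.PSp m F)) (hxA : x ∈ A) (hord : orderOf x = p) (hnot : ¬ Cfsg.IsInnerDiagonalAutPSp x) :
    Cfsg.pPrimeCore p ↥(A ⊓ Subgroup.centralizer {x}) ≠ ⊥ ↔ (Cfsg.IsFieldAutClassPSp x ∧ Nat.Coprime p (Nat.card ↥(MonoidHom.eqLocus x.toMonoidHom (MonoidHom.id (Cfsg.PSp m F))))) := by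
  classical
  have hr2 : (2 : F) = 0 → r = 2 := fun h2 => by
    by_contra hr
    exact AutPSpFull.two_ne_zero_of (F := F) hr h2
  obtain ⟨g, σ, rfl⟩ : ∃ (g : ↥(Cfsg.GSp m F)) (σ : F ≃+* F), x = cj g * fd σ := by
    by_cases hne : 3 ≤ m ∨ (2 : F) ≠ 0
    · exact AutPSpMain.aut_decomp hm hne x
    push Not at hne
    obtain rfl : m = 2 := by omega
    haveI : CharP F 2 := CharTwo.of_one_ne_zero_of_two_eq_zero one_ne_zero hne.2
    obtain ⟨g, σ, hx | hx⟩ := AutPSp4Duality.aut_decomp x
    · exact ⟨g, σ, hx⟩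
    exfalso
    have hp2 : p ≠ 2 := fun e => hpr (e.trans (hr2 hne.2).symm)
    obtain ⟨k, hk⟩ := (Fact.out : p.Prime).odd_of_ne_two hp2
    obtain ⟨g', hg'⟩ := AutPSp4Duality.aut_conj_cj hm (AutPSp4Duality.gam F) g
    have hsq : x * x = cj g' * fd σ * fd (AutPSp4Duality.frob F) * (cj g * fd σ) := by
      calc x * x = (AutPSp4Duality.gam F * cj g * (AutPSp4Duality.gam F)⁻¹) *
            (AutPSp4Duality.gam F * fd σ) * AutPSp4Duality.gam F * (cj g * fd σ) := by rw [hx]; simp [mul_assoc]
        _ = cj g' * (fd σ * AutPSp4Duality.gam F) * AutPSp4Duality.gam F * (cj g * fd σ) := by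
            rw [hg', AutPSp4Duality.gam_fd]
        _ = _ := by rw [← AutPSp4Duality.gam_sq]; simp [mul_assoc]
    have hgood : Good (x * x) := by
      rw [hsq]
      exact good_mul (good_mul (good_mul (good_cj _) (good_fd _)) (good_fd _)) (good_mul (good_cj _) (good_fd _))
    have hpow : ∀ n : ℕ, Good ((x * x) ^ n) := by
      intro n
      induction n with
      | zero => exact fun _ => Iff.rfl
      | succ n ih => rw [pow_succ]; exact good_mul ih hgood
    have hxx : x = (x * x) ^ (k + 1) := by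
      rw [← pow_two, ← pow_mul, show 2 * (k + 1) = p + 1 by omega, pow_succ, ← hord, pow_orderOf_eq_one, one_mul]
    have hxg : Good x := hxx ▸ hpow (k + 1)
    refine AutPSp4Duality.not_good_gam (F := F) ?_
    rw [← mul_inv_cancel_right (AutPSp4Duality.gam F) (cj g * fd σ), ← hx]
    exact good_mul hxg (good_inv (good_mul (good_cj g) (good_fd σ)))
  have hσ1 : σ ≠ 1 := fun e => hnot ((isInnerDiagonal_iff _).2 ⟨g, by rw [e, map_one, mul_one]⟩)
  have hpow := pow_orderOf_eq_one (cj g * fd σ : MulAut (PS m F))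
  rw [hord, pow_cj_fd] at hpow
  have hσ : orderOf σ = p := orderOf_eq_prime (cj_fd_eq_one hm hpow).2 hσ1
  obtain ⟨b, hb⟩ := field_coset hm σ g (by rw [hσ, ← hord]; exact pow_orderOf_eq_one _)
  rw [hb]
  have hclass : Cfsg.IsFieldAutClassPSp (cj b * fd σ * (cj b)⁻¹ : MulAut (PS m F)) :=
    ⟨(cj b)⁻¹, σ, hσ1, (isStdField_iff σ _).2 (by group)⟩
  let K : Subfield F := (σ : F →+* F).eqLocusField (RingHom.id F)
  haveI : Fintype K := Fintype.ofFinite K
  rw [AutPSpBalance.balance hm σ K.subtype (fun y => ⟨fun hy => ⟨⟨y, hy⟩, rfl⟩, by rintro ⟨z, rfl⟩; exact z.2⟩) hσ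
    (fun _ hK2 e => hpr (e.trans (hr2 ?_).symm)) b A hinn]
  · exact ⟨fun h => ⟨hclass, h⟩, fun h => h.2⟩
  · haveI : CharP K 2 := charP_of_card_eq_prime (R := K) hK2
    have := congrArg K.subtype (CharTwo.two_eq_zero (R := K))
    rwa [map_ofNat, map_zero] at this

end Cfsg.Agent.S2730
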