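import Cfsg.Statements.S2733
import Cfsg.Agent.Lib.AutOrthMinus52Balance
-- import your own Cfsg.Agent.* helpers here

set_option autoImplicit false
open Cfsg

namespace Cfsg.Agent.S2733

/-- A criterion for the failure of local balance in almost simple groups whose socle is a minus-type orthogonal group PΩ⁻_{2m+2}(F) (m ≥ 3; the form Σ xᵢ yᵢ + z₁² + a z₁ z₂ + b z₂² with anisotropic binary part). Let F be a finite field of characteristic r and K the (simple) group in question; let A be a group of automorphisms of K containing all inner automorphisms, and x ∈ A an automorphism of prime order p ≠ r that is not inner-diagonal (not induced by a class-preserving similarity, classes read over a quadratic extension). Then the largest normal subgroup of C_A(x) of order prime to p is nontrivial if and only if x is a field automorphism of K (conjugate under Aut(K) to a non-identity standard field automorphism) and p does not divide the number of fixed points of x on K. -/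
theorem result {F : Type*} [Field F] [Fintype F] {r : ℕ} [Fact r.Prime] [CharP F r] {m : ℕ} (hm : 3 ≤ m) (a b : F) (hab : (∀ z₁ z₂ : F, z₁ ^ 2 + a * z₁ * z₂ + b * z₂ ^ 2 = 0 → z₁ = 0 ∧ z₂ = 0)) (hK : IsSimpleGroup (Cfsg.POmega F (Cfsg.quadFormMinus m F a b))) (A : Subgroup (MulAut (Cfsg.POmega F (Cfsg.quadFormMinus m F a b)))) (hinn : ∀ k : Cfsg.POmega F (Cfsg.quadFormMinus m F a b), MulAut.conj k ∈ A) {p : ℕ} [Fact p.Prime] (hpr : p ≠ r) (x : MulAut (Cfsg.POmega F (Cfsg.quadFormMinus m F a b))) (hxA : x ∈ A) (hord : orderOf x = p) (hnot : ¬ Cfsg.IsInnerDiagonalAutPOmegaMinus m a b x) :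
    Cfsg.pPrimeCore p ↥(A ⊓ Subgroup.centralizer {x}) ≠ ⊥ ↔ (Cfsg.IsFieldAutClassPOmegaMinus m x ∧ Nat.Coprime p (Nat.card ↥(MonoidHom.eqLocus x.toMonoidHom (MonoidHom.id (Cfsg.POmega F (Cfsg.quadFormMinus m F a b)))))) := by
  classical
  suffices gen : ∀ (f₁ : ((Fin m ⊕ Fin m) ⊕ Fin 2 → F) → F),
      ⇑(Cfsg.Agent.QuadClassify.qMinus m F a b) = f₁ →
      ∀ (A : Subgroup (MulAut (POmega F f₁))), (∀ k : POmega F f₁, MulAut.conj k ∈ A) →
      ∀ (x : MulAut (POmega F f₁)), orderOf x = p →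
      (∀ g : GL ((Fin m ⊕ Fin m) ⊕ Fin 2) F, g ∈ Geo.quadSimilarityGroup (F := F) f₁ →
        PreservesSingularClassesMinus m a b g.1 →
        ¬ IsInducedBySemilinearPOmega f₁ g (RingEquiv.refl F) x) →
      (Cfsg.pPrimeCore p ↥(A ⊓ Subgroup.centralizer {x}) ≠ ⊥ ↔
        ((∃ (a' b' : F) (ψ : POmega F f₁ ≃* POmega F (quadFormMinus m F a' b')) (σ : F ≃+* F),
          (∀ z₁ z₂ : F, z₁ ^ 2 + a' * z₁ * z₂ + b' * z₂ ^ 2 = 0 → z₁ = 0 ∧ z₂ = 0) ∧
          σ ≠ RingEquiv.refl F ∧ σ a' = a' ∧ σ b' = b' ∧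
          IsFieldAutPOmegaOf (quadFormMinus m F a' b') σ ((ψ.symm.trans x).trans ψ)) ∧
        Nat.Coprime p (Nat.card ↥(MonoidHom.eqLocus x.toMonoidHom (MonoidHom.id (POmega F f₁)))))) from
    gen _ (Cfsg.Agent.QuadClassify.qMinus_coe m a b) A hinn x hord
      fun g hg hpres hind => hnot ⟨g, hg, hpres, hind⟩
  rintro f₁ rfl A hinn x hord hnot
  refine Cfsg.Agent.AutOrthMinus52Balance.main hm hab A hinn hpr x hord fun g hpres hx => ?_
  exact hnot g.1 g.2 hpres ((Cfsg.Agent.OrthUnitarySimAut.induced_iff _ g.1 g.2 x).2 hx)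

end Cfsg.Agent.S2733
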