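import Cfsg.Statements.S2734
-- import your own Cfsg.Agent.* helpers here
import Cfsg.Agent.Lib.ChevD4ToG2_77
open Cfsg.Agent Cfsg.Lie Cfsg.Agent.ChevalleyCore

set_option autoImplicit false
open Cfsg

namespace Cfsg.Agent.S2734

set_option maxRecDepth 100000

theorem sym_cases : ∀ π : Equiv.Perm (Fin chevD4.rank),
    (∀ i j : Fin chevD4.rank, i ≠ j → chevD4.bonds (π i).val (π j).val = chevD4.bonds i.val j.val) →
    (∀ i : Fin chevD4.rank, (π (π i)).val = i.val) ∨
    (∀ i : Fin chevD4.rank, (π i).val = ChevalleyGraph.symD4a.pi i.val) ∨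
    ∀ i : Fin chevD4.rank, (π (π i)).val = ChevalleyGraph.symD4a.pi i.val := by
  decide +kernel

theorem not_long : ∀ i : Fin chevD4.rank, chevD4.isLong (chevD4.simple i.val) = false := by decide +kernel

theorem graphExp_one (c : ℕ) (i j : Fin chevD4.rank) : chevD4.graphExp c i.val j.val = 1 := by
  simp [ChevalleyDatum.graphExp, not_long]

variable {F : Type*} [Field F] [Fintype F]

theorem equiv_of_sigma (φ : MulAut ↥(chevD4.group F)) (π : Fin chevD4.rank → Fin chevD4.rank)
    (hpi : ∀ i, (π i).val = ChevalleyGraph.symD4a.pi i.val)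
    (hval : ∀ (i : Fin chevD4.rank) (t : F),
      ((φ ⟨_, xg_mem_group ChevD4Graph77.CD (chevD4.simple i.val) t⟩ : ↥(chevD4.group F)) : GL chevD4.Idx F) =
          xg ChevD4Graph77.CD (chevD4.simple (π i).val) t ∧
      ((φ ⟨_, xg_mem_group ChevD4Graph77.CD (chevD4.neg (chevD4.simple i.val)) t⟩ : ↥(chevD4.group F)) :
          GL chevD4.Idx F) = xg ChevD4Graph77.CD (chevD4.neg (chevD4.simple (π i).val)) t) :
    Nonempty (↥(MonoidHom.eqLocus φ.toMonoidHom (MonoidHom.id ↥(chevD4.group F))) ≃* ↥(chevG2.group F)) := by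
  set C := ChevD4Graph77.CD
  let T := ChevD4Graph77.twist F
  have hσ : ∀ y : ↥(chevD4.group F), ((φ y : ↥(chevD4.group F)) : GL chevD4.Idx F) = T.σ y := by
    intro y
    refine DFunLike.congr_fun (f := ((chevD4.group F).subtype.comp φ.toMonoidHom)) (g := T.σ)
      (ChevSimpleGen.hom_ext C _ _ fun i hi t => ⟨?_, ?_⟩) y
    · refine ((hval ⟨i, hi⟩ t).1).trans ?_
      rw [T.σ_pos i hi t, hpi ⟨i, hi⟩]
      rfl
    · refine ((hval ⟨i, hi⟩ t).2).trans ?_
      rw [T.σ_neg i hi t, hpi ⟨i, hi⟩]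
      rfl
  have hmap : (MonoidHom.eqLocus φ.toMonoidHom (MonoidHom.id _)).map (chevD4.group F).subtype = T.Fixed := by
    ext g
    constructor
    · rintro ⟨y, hy, rfl⟩
      refine ⟨y.2, ?_⟩
      show T.sg (y : GL chevD4.Idx F) = _
      rw [T.sg_eq y.2]
      exact (hσ y).symm.trans (congrArg Subtype.val hy)
    · rintro ⟨hg, hg'⟩
      rw [T.sg_eq hg] at hg'
      exact ⟨⟨g, hg⟩, Subtype.ext ((hσ ⟨g, hg⟩).trans hg'), rfl⟩
  obtain ⟨e⟩ := ChevD4ToG2_77.fixed_equiv F
  exact ⟨(Subgroup.equivMapOfInjective _ _ (chevD4.group F).subtype_injective).trans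
    ((MulEquiv.subgroupCongr hmap).trans e)⟩


/-- In the Chevalley group of type D₄ over a finite field F (the matrix group generated by the root elements), a graph automorphism attached to a symmetry π of the Dynkin diagram (sending each fundamental root element x_p(t) to x_{π(p)}(t) and each x_{−p}(t) to x_{−π(p)}(t)) that has order 3 — a standard triality graph automorphism, π being a 3-cycle of the three outer nodes — has fixed-point subgroup isomorphic to the Chevalley group of type G₂ over F. -/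
theorem result {F : Type*} [Field F] [Fintype F] (τ : MulAut ↥(Cfsg.Lie.chevD4.group F)) (hτ : Cfsg.Lie.chevD4.IsGraphAut τ) (hτ3 : orderOf τ = 3) :
    Nonempty (↥(MonoidHom.eqLocus τ.toMonoidHom (MonoidHom.id ↥(Cfsg.Lie.chevD4.group F))) ≃* ↥(Cfsg.Lie.chevG2.group F)) := by
  obtain ⟨π, hsym, hπ⟩ := hτ
  set C := ChevD4Graph77.CD
  have hval : ∀ (i : Fin chevD4.rank) (t : F),
      τ ⟨_, xg_mem_group C (chevD4.simple i.val) t⟩ = ⟨_, xg_mem_group C (chevD4.simple (π i).val) t⟩ ∧
      τ ⟨_, xg_mem_group C (chevD4.neg (chevD4.simple i.val)) t⟩ =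
        ⟨_, xg_mem_group C (chevD4.neg (chevD4.simple (π i).val)) t⟩ := by
    intro i t
    have h1 := (hπ ⟨_, xg_mem_group C (chevD4.simple i.val) t⟩ i t).1 rfl
    have h2 := (hπ ⟨_, xg_mem_group C (chevD4.neg (chevD4.simple i.val)) t⟩ i t).2 rfl
    rw [graphExp_one, pow_one] at h1 h2
    exact ⟨Subtype.ext (Units.ext h1), Subtype.ext (Units.ext h2)⟩
  have hval2 : ∀ (i : Fin chevD4.rank) (t : F),
      (τ * τ) ⟨_, xg_mem_group C (chevD4.simple i.val) t⟩ = ⟨_, xg_mem_group C (chevD4.simple (π (π i)).val) t⟩ ∧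
      (τ * τ) ⟨_, xg_mem_group C (chevD4.neg (chevD4.simple i.val)) t⟩ =
        ⟨_, xg_mem_group C (chevD4.neg (chevD4.simple (π (π i)).val)) t⟩ := by
    intro i t
    rw [MulAut.mul_apply, MulAut.mul_apply, (hval i t).1, (hval i t).2, (hval (π i) t).1, (hval (π i) t).2]
    exact ⟨rfl, rfl⟩
  have h3 : τ * (τ * τ) = 1 := by
    have := pow_orderOf_eq_one τ
    rw [hτ3, pow_succ', pow_two] at this
    exact this
  rcases sym_cases π hsym with hinv | ha | hb
  · exfalso
    have hττ : τ * τ = 1 := MulEquiv.ext fun y => DFunLike.congr_fun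
      (ChevSimpleGen.hom_ext C (τ * τ).toMonoidHom (1 : MulAut ↥(chevD4.group F)).toMonoidHom fun i hi t => by
        constructor
        · refine ((hval2 ⟨i, hi⟩ t).1).trans (Subtype.ext ?_)
          rw [hinv ⟨i, hi⟩]
          rfl
        · refine ((hval2 ⟨i, hi⟩ t).2).trans (Subtype.ext ?_)
          rw [hinv ⟨i, hi⟩]
          rfl) y
    rw [hττ, mul_one] at h3
    rw [h3, orderOf_one] at hτ3
    omega
  · exact equiv_of_sigma τ π ha fun i t => ⟨congrArg Subtype.val (hval i t).1, congrArg Subtype.val (hval i t).2⟩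
  · obtain ⟨e⟩ := equiv_of_sigma (τ * τ) (fun i => π (π i)) hb
      fun i t => ⟨congrArg Subtype.val (hval2 i t).1, congrArg Subtype.val (hval2 i t).2⟩
    have heq : MonoidHom.eqLocus τ.toMonoidHom (MonoidHom.id ↥(chevD4.group F)) =
        MonoidHom.eqLocus (τ * τ).toMonoidHom (MonoidHom.id ↥(chevD4.group F)) := by
      ext y
      change τ y = y ↔ τ (τ y) = y
      constructor
      · intro h; rw [h, h]
      · intro h
        conv_lhs => rw [← h]
        exact congrArg (fun f : MulAut ↥(chevD4.group F) => f y) h3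
    exact ⟨(MulEquiv.subgroupCongr heq).trans e⟩

end Cfsg.Agent.S2734
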