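import Cfsg.Statements.S2735
import Cfsg.Agent.Lib.AutOrth45Coset
import Cfsg.Agent.Lib.AutOrth45Forms
-- import your own Cfsg.Agent.* helpers here

set_option autoImplicit false
open Cfsg
open Cfsg.Agent Cfsg.Agent.AutOrth45Api Cfsg.Agent.AutOrth45Gal Cfsg.Agent.AutOrth45Coset

namespace Cfsg.Agent.S2735

/-- Let T = Ω_{2m+1}(F) (m ≥ 3, |F| odd) and x a field automorphism of T of prime order r. Then an element y of the coset Inndiag(T)·x (y = δ x with δ induced by a similarity of the form) has order r if and only if y is conjugate to x by an element of Inndiag(T). (T has no graph or graph-field automorphisms.) -/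
theorem result {F : Type*} [Field F] [Fintype F] (hodd : Odd (Fintype.card F)) {m : ℕ} (hm : 3 ≤ m) (x δ : MulAut (Cfsg.POmega F (Cfsg.quadFormOdd m F))) (hx : Cfsg.IsFieldAutClassPOmega (Cfsg.quadFormOdd m F) x) {r : ℕ} (hr : r.Prime) (hxr : orderOf x = r) (hδ : δ ∈ Cfsg.inndiagPOmegaOdd m F) :
    orderOf (δ * x) = r ↔ Cfsg.IsConjUnder (Cfsg.inndiagPOmegaOdd m F) x (δ * x) := by
  classical
  have h2 : (2 : F) ≠ 0 := OrthUnitaryForms.two_ne_zero_of_odd rfl hodd
  have h := AutOrth45Forms.good_odd (F := F) h2 hm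
  have hinv := AutOrth45Forms.inv_odd (F := F) m
  obtain ⟨α, φ, σ, hσ, hφ, hαx⟩ := hx
  revert x δ α φ
  show ∀ (x δ : MulAut (POmega F (quadFormOdd m F))), orderOf x = r →
    δ ∈ pgoAut F (quadFormOdd m F) → ∀ (α φ : MulAut (POmega F (quadFormOdd m F))),
      IsFieldAutPOmegaOf (quadFormOdd m F) σ φ → α * x * α⁻¹ = φ →
        (orderOf (δ * x) = r ↔ IsConjUnder (pgoAut F (quadFormOdd m F)) x (δ * x))
  rw [← QuadClassify.qOdd_coe]
  intro x δ hxr hδ α φ hφ hαx
  rw [isField_iff h hinv] at hφ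
  subst hφ
  have hH : pgoAut F ⇑(QuadClassify.qOdd m F) = (galHom h).ker := by
    rw [ker_galHom h, OrthUnitarySimAut.pgoAut_eq, MonoidHom.range_eq_map]
  rw [hH] at hδ ⊢
  have hσr : orderOf σ = r := by
    have e : orderOf (fd h hinv σ) = r := by
      rw [← hαx, show α * x * α⁻¹ = MulAut.conj α x from rfl, MulEquiv.orderOf_eq, hxr]
    rwa [orderOf_injective (fd h hinv) (fd_injective h hinv)] at e
  refine reduce _ hαx hxr (fun δ hδ ho => ?_) hδ
  rw [ker_galHom h] at hδ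
  obtain ⟨d, rfl⟩ := hδ
  rw [conjP_eq h, fd_apply, semiAut_mul] at ho ⊢
  have hs : RingEquiv.refl F * σ = σ := one_mul σ
  generalize hp : pair_mul (sim_pair d) (field_pair hinv σ) = hpp at ho ⊢
  clear hp
  generalize RingEquiv.refl F * σ = τ at hs hpp ho ⊢
  subst hs
  have hσ0 : (fd h hinv τ) ^ orderOf τ = 1 := by rw [← map_pow, pow_orderOf_eq_one, map_one]
  obtain ⟨b, v, hv, hb, -⟩ := exists_conj h hpp (field_pair hinv τ)
    (by rw [hσr, ← ho, pow_orderOf_eq_one]) hσ0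
    (fun g₁ g₂ B B₀ y y₀ q q₀ _ _ _ _ _ _ D D₀ => AutOrth45Types.similar_odd D D₀ ⟨m, by
      simp only [Fintype.card_sum, Fintype.card_unit, Fintype.card_fin]; omega⟩)
  exact ⟨OrthUnitarySimAut.conjP _ b, by rw [ker_galHom h]; exact ⟨b, rfl⟩, hb⟩

end Cfsg.Agent.S2735
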