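import Cfsg.Statements.S2736
import Cfsg.Agent.Lib.AutOrth45InnDiag
-- import your own Cfsg.Agent.* helpers here

set_option autoImplicit false
open Cfsg
open Cfsg.Agent Cfsg.Agent.AutOrth45Api Cfsg.Agent.AutOrth45Gal Cfsg.Agent.AutOrth45Coset Cfsg.Agent.AutOrth45InnDiag

namespace Cfsg.Agent.S2736

/-- Let T = PΩ⁺_{2m}(F) with m ≥ 5 (dimension ≠ 8) and x a field automorphism or a graph-field automorphism of T of prime order r. Then an element y of the coset Inndiag(T)·x (y = δ x with δ induced by a class-preserving similarity) has order r if and only if y is conjugate to x by an element of Inndiag(T). -/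
theorem result {F : Type*} [Field F] [Fintype F] {m : ℕ} (hm : 5 ≤ m) (x δ : MulAut (Cfsg.POmega F (Cfsg.quadFormPlus m F))) (hx : Cfsg.IsFieldAutClassPOmega (Cfsg.quadFormPlus m F) x ∨ Cfsg.IsGraphFieldAutClassPOmegaPlus m x) {r : ℕ} (hr : r.Prime) (hxr : orderOf x = r) (hδ : δ ∈ Cfsg.inndiagPOmegaPlus m F) :
    orderOf (δ * x) = r ↔ Cfsg.IsConjUnder (Cfsg.inndiagPOmegaPlus m F) x (δ * x) := by
  classical
  have hm3 : 3 ≤ m := by omega
  have h := AutOrth45Forms.good_plus (F := F) hm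
  have hinv := AutOrth45Forms.inv_plus (F := F) m
  have hQ := hyp_plus (F := F) hm3
  have hI := inndiag_plus_eq (F := F) hm3
  suffices gen : ∀ (f : (Fin m ⊕ Fin m → F) → F), ⇑(QuadClassify.qPlus m F) = f →
      ∀ (S : Subgroup (MulAut (POmega F f))),
      S = autSubgroupOf (fun β : POmega F f ≃* POmega F f =>
        ∃ g : GL (Fin m ⊕ Fin m) F, g ∈ Geo.quadSimilarityGroup (F := F) f ∧
          PreservesSingularClasses f g.1 ∧ IsInducedBySemilinearPOmega f g (RingEquiv.refl F) β) →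
      ∀ (x δ : MulAut (POmega F f)),
      ((∃ (α φ : MulAut (POmega F f)) (σ : F ≃+* F),
          σ ≠ RingEquiv.refl F ∧ IsFieldAutPOmegaOf f σ φ ∧ α * x * α⁻¹ = φ) ∨
        ∃ (α γ φ : MulAut (POmega F f)) (σ : F ≃+* F) (v : Fin m ⊕ Fin m → F)
          (r : GL (Fin m ⊕ Fin m) F),
          σ ≠ RingEquiv.refl F ∧ f v ≠ 0 ∧ (∀ i, σ (v i) = v i) ∧
          (r : Matrix (Fin m ⊕ Fin m) (Fin m ⊕ Fin m) F) = reflectionMatrix f v ∧
          IsInducedBySemilinearPOmega f r (RingEquiv.refl F) γ ∧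
          IsFieldAutPOmegaOf f σ φ ∧ α * x * α⁻¹ = γ * φ) →
      orderOf x = r → δ ∈ S → (orderOf (δ * x) = r ↔ IsConjUnder S x (δ * x)) from
    gen _ (QuadClassify.qPlus_coe m) (inndiagPOmegaPlus m F) rfl x δ hx hxr hδ
  clear hx hxr hδ x δ
  rintro f rfl S rfl
  intro x δ hx hxr hδ
  rw [hI] at hδ ⊢
  obtain ⟨α, g₀, σ, hp₀, hσ, hαx⟩ : ∃ (α : MulAut (POmega F ⇑(QuadClassify.qPlus m F)))
      (g₀ : GL (Fin m ⊕ Fin m) F) (σ : F ≃+* F)
      (hp₀ : IsSemisimilarityPair ⇑(QuadClassify.qPlus m F) g₀ σ),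
      σ ≠ RingEquiv.refl F ∧ α * x * α⁻¹ = semiAut h g₀ σ hp₀ := by
    rcases hx with ⟨α, φ, σ, hσ, hφ, hαx⟩ | ⟨α, γ, φ, σ, v, r', hσ, hv, -, hr', hγ, hφ, hαx⟩
    · rw [isField_iff h hinv] at hφ
      exact ⟨α, 1, σ, field_pair hinv σ, hσ, hαx.trans hφ⟩
    · rw [isField_iff h hinv] at hφ
      have hsim : r' ∈ OrthUnitarySimAut.Sim (QuadClassify.qPlus m F) := ⟨1, fun w => by
        rw [Units.val_one, one_mul, hr', OrthUnitaryPrelude.reflectionMatrix_mulVec hv,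
          OrthUnitaryQuad.map_orth]⟩
      have hγ' : γ = OrthUnitarySimAut.conjP _ ⟨r', hsim⟩ :=
        (OrthUnitarySimAut.induced_iff _ r' hsim γ).1 hγ
      obtain ⟨hp, e⟩ := sim_mul_semiAut h (field_pair hinv σ) ⟨r', hsim⟩
      refine ⟨α, _, σ, hp, hσ, ?_⟩
      rw [hαx, hγ', hφ, fd_apply, e]
  have ho : orderOf (semiAut h g₀ σ hp₀) = r := by
    rw [← hαx, show α * x * α⁻¹ = MulAut.conj α x from rfl, MulEquiv.orderOf_eq, hxr]
  have hσr : orderOf σ = r := by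
    haveI := Fact.mk hr
    refine orderOf_eq_prime ?_ hσ
    have e := congrArg (galHom h) (pow_orderOf_eq_one (semiAut h g₀ σ hp₀))
    rwa [map_pow, map_one, galHom_semiAut, ho] at e
  have hH := classSub_keep hQ (OmegaStd.lagr_plus (F := F) (m := m))
  haveI := map_normal h hH
  refine reduce _ hαx hxr (coset h hH hp₀ hσr (by rw [← ho, pow_orderOf_eq_one]) ?_) hδ
  intro d hd g₁ g₂ B B₀ y y₀ q q₀ l l₀ e₁ e₂ hp₁ hp₂ D D₀
  have hcard : Fintype.card (Fin m ⊕ Fin m) = 2 * m := by simp; omega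
  obtain ⟨L, hL⟩ := AutOrth45Types.similar_even D D₀ hcard (by
    rw [AutOrth45Types.split_iff D hQ hp₁ hcard OmegaStd.lagr_plus,
      AutOrth45Types.split_iff D₀ hQ hp₂ hcard OmegaStd.lagr_plus,
      keeps_smul l.ne_zero e₁, keeps_smul l₀.ne_zero e₂, semi_sim_mul,
      AutOrth45Parity.keeps_trans hQ (AutOrth45Types.isSS_semi hp₀) (isSS_simMap d)
        OmegaStd.lagr_plus, iff_true_intro ((mem_keepSub hQ _).1 hd), iff_true])
  exact ⟨L, 1, one_ne_zero, fun w => by rw [hL, one_mul]⟩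

end Cfsg.Agent.S2736
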