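import Cfsg.Statements.S2737
import Cfsg.Agent.Lib.AutOrth45MinusClass
import Cfsg.Agent.Lib.AutOrth45Congr
-- import your own Cfsg.Agent.* helpers here

set_option autoImplicit false
open Cfsg
open Cfsg.Agent Cfsg.Agent.AutOrth45Api Cfsg.Agent.AutOrth45Gal Cfsg.Agent.AutOrth45Coset Cfsg.Agent.AutOrth45InnDiag Cfsg.Agent.AutOrth45MinusClass

namespace Cfsg.Agent.S2737

/-- Let T = PΩ⁻_{2m+2}(F) (m ≥ 3; form with anisotropic binary part) and x a field automorphism of T of prime order r. Then an element y of the coset Inndiag(T)·x has order r if and only if y is conjugate to x by an element of Inndiag(T). (T has no graph-field automorphisms.) -/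
theorem result {F : Type*} [Field F] [Fintype F] {m : ℕ} (hm : 3 ≤ m) (a b : F) (hab : (∀ z₁ z₂ : F, z₁ ^ 2 + a * z₁ * z₂ + b * z₂ ^ 2 = 0 → z₁ = 0 ∧ z₂ = 0)) (x δ : MulAut (Cfsg.POmega F (Cfsg.quadFormMinus m F a b))) (hx : Cfsg.IsFieldAutClassPOmegaMinus m x) {r : ℕ} (hr : r.Prime) (hxr : orderOf x = r) (hδ : δ ∈ Cfsg.inndiagPOmegaMinus m F a b) :
    orderOf (δ * x) = r ↔ Cfsg.IsConjUnder (Cfsg.inndiagPOmegaMinus m F a b) x (δ * x) := by
  classical
  haveI := Fact.mk (irreducible_poly (F := F) hab)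
  have hK := finrank_adjoin (F := F) hab
  haveI := finite_ext hK
  letI := Fintype.ofFinite (AdjoinRoot
    (Polynomial.X ^ 2 + Polynomial.C a * Polynomial.X + Polynomial.C b : Polynomial F))
  have hm2 : 2 ≤ m := by omega
  have h := AutOrth45Forms.good_minus (F := F) hm hab
  obtain ⟨a', b', ψ, σ, hab', hσ, ha', hb', hφ⟩ := hx
  suffices gen : ∀ (f f' : ((Fin m ⊕ Fin m) ⊕ Fin 2 → F) → F),
      ⇑(QuadClassify.qMinus m F a b) = f → ⇑(QuadClassify.qMinus m F a' b') = f' →
      ∀ (S : Subgroup (MulAut (POmega F f))),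
      S = autSubgroupOf (fun β : POmega F f ≃* POmega F f =>
        ∃ g : GL ((Fin m ⊕ Fin m) ⊕ Fin 2) F, g ∈ Geo.quadSimilarityGroup (F := F) f ∧
          PreservesSingularClassesMinus m a b g.1 ∧
          IsInducedBySemilinearPOmega f g (RingEquiv.refl F) β) →
      ∀ (x δ : MulAut (POmega F f)) (ψ : POmega F f ≃* POmega F f'),
      IsFieldAutPOmegaOf f' σ ((ψ.symm.trans x).trans ψ) → orderOf x = r → δ ∈ S →
        (orderOf (δ * x) = r ↔ IsConjUnder S x (δ * x)) from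
    gen _ _ (QuadClassify.qMinus_coe m a b) (QuadClassify.qMinus_coe m a' b')
      (inndiagPOmegaMinus m F a b) rfl x δ ψ hφ hxr hδ
  clear hφ ψ hxr hδ x δ
  rintro f f' rfl rfl S rfl x δ ψ hφ hxr hδ
  rw [inndiag_minus_eq hm2 hab hK] at hδ ⊢
  have h' := AutOrth45Forms.good_minus (F := F) hm hab'
  have hp' : IsSemisimilarityPair ⇑(QuadClassify.qMinus m F a' b')
      (1 : GL ((Fin m ⊕ Fin m) ⊕ Fin 2) F) σ := ⟨1, fun v => by
    have e := map_qMinus (σ : F →+* F) a' b' v
    rw [RingEquiv.coe_toRingHom, ha', hb'] at e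
    rw [Units.val_one, Units.val_one, Matrix.one_mulVec, one_mul, e]⟩
  have hφ' : (ψ.symm.trans x).trans ψ = semiAut h' 1 σ hp' := by
    refine (induced_iff h' 1 σ hp' _).1 fun s s' hs => ?_
    refine hφ s s' ?_
    simpa using hs
  obtain ⟨L, hL⟩ := exists_isometry m hab hab'
  have hne := AutOrth45Congr.galHom_ne_one L hL h h' hσ hp' ψ x hφ'
  obtain ⟨τ, g₀, hp₀, rfl⟩ := exists_semiAut h x
  rw [galHom_semiAut] at hne
  have hτr : orderOf τ = r := by
    haveI := Fact.mk hr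
    refine orderOf_eq_prime ?_ hne
    have e := congrArg (galHom h) (pow_orderOf_eq_one (semiAut h g₀ τ hp₀))
    rwa [map_pow, map_one, galHom_semiAut, hxr] at e
  have hH := classSub_minus (K := AdjoinRoot
    (Polynomial.X ^ 2 + Polynomial.C a * Polynomial.X + Polynomial.C b : Polynomial F)) hm2 hab hK
  haveI := map_normal h hH
  refine reduce _ (α := 1) (by rw [one_mul, inv_one, mul_one]) hxr
    (coset h hH hp₀ hτr (by rw [← hxr, pow_orderOf_eq_one]) ?_) hδ
  intro d _ g₁ g₂ B B₀ y y₀ q q₀ l l₀ _ _ _ _ D D₀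
  have hcard : Fintype.card ((Fin m ⊕ Fin m) ⊕ Fin 2) = 2 * (m + 1) := by simp; omega
  have hno := not_lagr hm2 hab
  obtain ⟨Λ, hΛ⟩ := AutOrth45Types.similar_even D D₀ hcard (iff_of_false
    (AutOrth45Types.not_split D hcard hno) (AutOrth45Types.not_split D₀ hcard hno))
  exact ⟨Λ, 1, one_ne_zero, fun w => by rw [hΛ, one_mul]⟩

end Cfsg.Agent.S2737
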