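import Cfsg.Statements.S2738
-- import your own Cfsg.Agent.* helpers here

set_option autoImplicit false
open Cfsg

namespace Cfsg.Agent.S2738

/-- The special linear group SL(3, 4) has centre of order 3 and does not split over it: no subgroup is a complement to the centre (so SL(3, 4) is a non-split central extension of PSL(3, 4) by a group of order 3). -/
theorem result (F : Type*) [Field F] [Fintype F] (hF : Fintype.card F = 4) : Nat.card ↥(Subgroup.center (Matrix.SpecialLinearGroup (Fin 3) F)) = 3 ∧ ¬ ∃ K : Subgroup (Matrix.SpecialLinearGroup (Fin 3) F), Subgroup.IsComplement' (Subgroup.center (Matrix.SpecialLinearGroup (Fin 3) F)) K := by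
  classical
  haveI : Fact (Nat.Prime 2) := ⟨Nat.prime_two⟩
  obtain ⟨w, hw1, hw3⟩ : ∃ w : F, w ≠ 1 ∧ w ^ 3 = 1 := by
    haveI : Nontrivial Fˣ := Fintype.one_lt_card_iff_nontrivial.1 (by rw [Fintype.card_units, hF]; norm_num)
    obtain ⟨w, hw⟩ := exists_ne (1 : Fˣ)
    refine ⟨(w : F), by simpa using hw, ?_⟩
    have h := FiniteField.pow_card_sub_one_eq_one (w : F) (Units.ne_zero w)
    rw [hF] at h
    exact h
  constructor
  · rw [Nat.card_congr (Matrix.SpecialLinearGroup.center_equiv_rootsOfUnity' (R := F) (0 : Fin 3)).toEquiv]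
    have : rootsOfUnity (Fintype.card (Fin 3)) F = ⊤ := by
      refine eq_top_iff.2 fun u _ => ?_
      rw [mem_rootsOfUnity, Fintype.card_fin]
      apply Units.ext
      have h := FiniteField.pow_card_sub_one_eq_one (u : F) (Units.ne_zero u)
      rw [hF] at h
      simpa using h
    rw [this, Subgroup.card_top, Nat.card_eq_fintype_card, Fintype.card_units, hF]
  · rintro ⟨K, hK⟩
    let A : Matrix.SpecialLinearGroup (Fin 3) F :=
      ⟨!![1, 0, 0; 0, w, 0; 0, 0, w ^ 2], by simp [Matrix.det_fin_three]; linear_combination hw3⟩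
    let B : Matrix.SpecialLinearGroup (Fin 3) F :=
      ⟨!![0, 0, 1; 1, 0, 0; 0, 1, 0], by simp [Matrix.det_fin_three]⟩
    let Z : Matrix.SpecialLinearGroup (Fin 3) F :=
      ⟨!![w, 0, 0; 0, w, 0; 0, 0, w], by simp [Matrix.det_fin_three]; linear_combination hw3⟩
    have hAB : A * B = Z * (B * A) := by
      apply Subtype.ext
      show (A : Matrix (Fin 3) (Fin 3) F) * B = (Z : Matrix (Fin 3) (Fin 3) F) * ((B : Matrix (Fin 3) (Fin 3) F) * A)
      simp only [A, B, Z]
      ext i j
      fin_cases i <;> fin_cases j <;> simp [Matrix.mul_apply, Fin.sum_univ_three] <;>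
        first
        | exact hw3.symm
        | ring1
        | linear_combination hw3
        | linear_combination -hw3
    have hZc : Z ∈ Subgroup.center (Matrix.SpecialLinearGroup (Fin 3) F) := by
      rw [Matrix.SpecialLinearGroup.mem_center_iff]
      refine ⟨w, by simpa using hw3, ?_⟩
      ext i j
      fin_cases i <;> fin_cases j <;> simp [Z]
    obtain ⟨⟨⟨za, hza⟩, ⟨ka, hka⟩⟩, ha⟩ := hK.2 A
    obtain ⟨⟨⟨zb, hzb⟩, ⟨kb, hkb⟩⟩, hb⟩ := hK.2 B
    simp only at ha hb
    have hcom : A * B * A⁻¹ * B⁻¹ = ka * kb * ka⁻¹ * kb⁻¹ := by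
      have c1 := Subgroup.mem_center_iff.1 hza
      have c2 := Subgroup.mem_center_iff.1 hzb
      rw [← ha, ← hb, mul_inv_rev, mul_inv_rev]
      calc za * ka * (zb * kb) * (ka⁻¹ * za⁻¹) * (kb⁻¹ * zb⁻¹)
          = za * (ka * zb) * kb * ka⁻¹ * (za⁻¹ * kb⁻¹) * zb⁻¹ := by group
        _ = za * (zb * ka) * kb * ka⁻¹ * (kb⁻¹ * za⁻¹) * zb⁻¹ := by
            rw [c2 ka, Subgroup.mem_center_iff.1 (Subgroup.inv_mem _ hza) kb⁻¹]
        _ = (za * zb) * (ka * kb * ka⁻¹ * kb⁻¹) * (za⁻¹ * zb⁻¹) := by group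
        _ = ka * kb * ka⁻¹ * kb⁻¹ := by
            rw [← Subgroup.mem_center_iff.1 (Subgroup.mul_mem _ hza hzb) (ka * kb * ka⁻¹ * kb⁻¹),
              c2 za]
            group
    have hZK : Z ∈ K := by
      have : Z = A * B * A⁻¹ * B⁻¹ := by rw [hAB]; group
      rw [this, hcom]
      exact K.mul_mem (K.mul_mem (K.mul_mem hka hkb) (K.inv_mem hka)) (K.inv_mem hkb)
    have : Z = 1 := Subgroup.disjoint_def.1 hK.disjoint hZc hZK
    have := congrArg (fun M : Matrix.SpecialLinearGroup (Fin 3) F => (M : Matrix (Fin 3) (Fin 3) F) 0 0) this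
    simp [Z] at this
    exact hw1 this

end Cfsg.Agent.S2738
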