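import Cfsg.Statements.S2739
-- import your own Cfsg.Agent.* helpers here

set_option autoImplicit false
open scoped Pointwise
open Cfsg

namespace Cfsg.Agent.S2739

open Matrix

variable {F : Type*} [Field F]

lemma cayley3 (M : Matrix (Fin 3) (Fin 3) F) :
    M * M * M - M.trace • (M * M) +
      (M 0 0 * M 1 1 - M 0 1 * M 1 0 + (M 0 0 * M 2 2 - M 0 2 * M 2 0) + (M 1 1 * M 2 2 - M 1 2 * M 2 1)) • M -
      M.det • (1 : Matrix (Fin 3) (Fin 3) F) = 0 := by
  ext i j
  fin_cases i <;> fin_cases j <;>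
    simp [Matrix.mul_apply, Fin.sum_univ_three, Matrix.det_fin_three, Matrix.trace] <;> ring

lemma field_four [Fintype F] (hF : Fintype.card F = 4) :
    (2 : F) = 0 ∧ (∀ a : F, a ≠ 0 → a ^ 3 = 1) ∧ ∃ w : F, w ^ 2 + w + 1 = 0 ∧ w ≠ 1 ∧ w ≠ 0 := by
  have h2 : (2 : F) = 0 := by
    have h4 : (4 : F) = 0 := by
      have := Nat.cast_card_eq_zero F
      rw [hF] at this
      exact_mod_cast this
    have : (2 : F) * 2 = 0 := by linear_combination h4
    rcases mul_eq_zero.1 this with h | h <;> exact h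
  have hc : ∀ a : F, a ≠ 0 → a ^ 3 = 1 := fun a ha => by
    have := FiniteField.pow_card_sub_one_eq_one a ha
    rwa [hF] at this
  refine ⟨h2, hc, ?_⟩
  classical
  obtain ⟨w, hw⟩ : ∃ w : F, w ∉ ({0, 1} : Finset F) := by
    by_contra hall
    push Not at hall
    have := Finset.card_le_card (show (Finset.univ : Finset F) ⊆ {0, 1} from fun c _ => hall c)
    simp [hF] at this
  simp only [Finset.mem_insert, Finset.mem_singleton, not_or] at hw
  refine ⟨w, ?_, hw.2, hw.1⟩
  have h := hc w hw.1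
  have : (w - 1) * (w ^ 2 + w + 1) = 0 := by linear_combination h
  exact (mul_eq_zero.1 this).resolve_left (sub_ne_zero.2 hw.2)

lemma exists_conj_diag [Fintype F] (hF : Fintype.card F = 4) :
    ∃ x0 : Matrix.ProjectiveSpecialLinearGroup (Fin 3) F,
      ∀ x : Matrix.ProjectiveSpecialLinearGroup (Fin 3) F, x ^ 3 = 1 → x ≠ 1 → ∃ g, x = g * x0 * g⁻¹ := by
  classical
  obtain ⟨h2, hc3, w, hw, hw1, hw0⟩ := field_four hF
  let D : Matrix (Fin 3) (Fin 3) F := Matrix.diagonal ![1, w, w ^ 2]
  have hDdet : D.det = 1 := by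
    simp [D, Matrix.det_diagonal, Fin.prod_univ_three]
    linear_combination hc3 w hw0
  refine ⟨QuotientGroup.mk (⟨D, hDdet⟩ : Matrix.SpecialLinearGroup (Fin 3) F), fun x hx3 hx1 => ?_⟩
  obtain ⟨s, rfl⟩ := QuotientGroup.mk_surjective x
  set S : Matrix (Fin 3) (Fin 3) F := (s : Matrix (Fin 3) (Fin 3) F) with hS
  have hns : ∀ k : F, S ≠ k • (1 : Matrix (Fin 3) (Fin 3) F) := by
    intro k hk
    apply hx1
    rw [QuotientGroup.eq_one_iff, Matrix.SpecialLinearGroup.mem_center_iff]
    refine ⟨k, ?_, by rw [← hS, hk, Matrix.scalar_apply, ← Matrix.smul_one_eq_diagonal]⟩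
    have := congrArg Matrix.det hk
    rw [hS, s.det_coe, Matrix.det_smul, Matrix.det_one, mul_one] at this
    exact this.symm
  obtain ⟨c, hc1, hc⟩ : ∃ c : F, c ^ 3 = 1 ∧ S * S * S = c • (1 : Matrix (Fin 3) (Fin 3) F) := by
    rw [← QuotientGroup.mk_pow, QuotientGroup.eq_one_iff, Matrix.SpecialLinearGroup.mem_center_iff] at hx3
    obtain ⟨r, hr, hr'⟩ := hx3
    refine ⟨r, by simpa using hr, ?_⟩
    rw [Matrix.SpecialLinearGroup.coe_pow, Matrix.scalar_apply, ← Matrix.smul_one_eq_diagonal] at hr'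
    rw [hr', pow_three, ← hS, mul_assoc]
  have hneg : ∀ a : F, -a = a := fun a => by linear_combination (-a) * h2
  obtain ⟨e, he⟩ : ∃ e : F, (c + 1) • (1 : Matrix (Fin 3) (Fin 3) F) + e • S + S.trace • (S * S) = 0 := by
    refine ⟨S 0 0 * S 1 1 - S 0 1 * S 1 0 + (S 0 0 * S 2 2 - S 0 2 * S 2 0) + (S 1 1 * S 2 2 - S 1 2 * S 2 1), ?_⟩
    have h := cayley3 S
    rw [hc, show S.det = 1 from s.det_coe, one_smul] at h
    ext i j
    have h' := congrFun (congrFun h i) j
    simp only [Matrix.add_apply, Matrix.sub_apply, Matrix.smul_apply, smul_eq_mul, Matrix.zero_apply] at h' ⊢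
    linear_combination h' + (S.trace * (S * S) i j + (1 : Matrix (Fin 3) (Fin 3) F) i j) * h2
  have hsol : ∀ k m : F, k • S = m • (1 : Matrix (Fin 3) (Fin 3) F) → k = 0 ∧ m = 0 := by
    intro k m h
    have hk : k = 0 := by
      by_contra hk
      exact hns (m / k) (by rw [div_eq_inv_mul, mul_smul, ← h, smul_smul, inv_mul_cancel₀ hk, one_smul])
    refine ⟨hk, ?_⟩
    rw [hk, zero_smul] at h
    exact (smul_eq_zero.1 h.symm).resolve_right one_ne_zero
  have ht : S.trace = 0 ∧ c = 1 := by
    by_cases ht : S.trace = 0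
    · refine ⟨ht, ?_⟩
      rw [ht, zero_smul, add_zero] at he
      have := hsol e (c + 1) (by
        ext i j
        have h' := congrFun (congrFun he i) j
        simp only [Matrix.add_apply, Matrix.smul_apply, smul_eq_mul, Matrix.zero_apply] at h' ⊢
        linear_combination h' - ((c + 1) * (1 : Matrix (Fin 3) (Fin 3) F) i j) * h2)
      linear_combination this.2 - h2
    · exfalso
      obtain ⟨α, β, hS2⟩ : ∃ α β : F, S * S = α • S + β • (1 : Matrix (Fin 3) (Fin 3) F) := by
        refine ⟨e / S.trace, (c + 1) / S.trace, ?_⟩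
        ext i j
        have h' := congrFun (congrFun he i) j
        simp only [Matrix.add_apply, Matrix.smul_apply, smul_eq_mul, Matrix.zero_apply] at h' ⊢
        field_simp
        linear_combination h' - (e * S i j + (c + 1) * (1 : Matrix (Fin 3) (Fin 3) F) i j) * h2
      have hcube : S * S * S = (α * α + β) • S + (α * β) • (1 : Matrix (Fin 3) (Fin 3) F) := by
        rw [hS2, add_mul, smul_mul_assoc, smul_mul_assoc, one_mul, hS2]
        module
      rw [hc] at hcube
      obtain ⟨h4, h5⟩ := hsol (α * α + β) (c - α * β) (by rw [sub_smul, hcube]; module)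
      by_cases hα : α = 0
      · have : c = 0 := by linear_combination h5 + β * hα
        simp [this] at hc1
      · have hcone : c = 1 := by linear_combination h5 + α * h4 - hc3 α hα - h2
        rw [hcone, show (1 : F) + 1 = 0 by linear_combination h2, zero_smul, zero_add] at he
        -- `S` is invertible, so `e + t S = 0`
        have he2 : e • (1 : Matrix (Fin 3) (Fin 3) F) + S.trace • S = 0 := by
          have hSu : IsUnit S := (Matrix.isUnit_iff_isUnit_det S).2 (by rw [hS, s.det_coe]; exact isUnit_one)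
          apply hSu.mul_right_cancel
          rw [zero_mul, add_mul, smul_mul_assoc, smul_mul_assoc, one_mul]
          exact he
        exact ht (hsol S.trace (-e) (by rw [neg_smul, eq_neg_iff_add_eq_zero, add_comm]; exact he2)).1
  obtain ⟨htr, rfl⟩ := ht
  rw [one_smul] at hc
  -- the three eigenvectors
  let Q : F → Matrix (Fin 3) (Fin 3) F := fun a => (1 : Matrix (Fin 3) (Fin 3) F) + (a ^ 2) • S + a • (S * S)
  have htr2 : (S * S).trace = 0 := by
    have : (S * S).trace = S.trace ^ 2 := by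
      simp [Matrix.trace, Matrix.mul_apply, Fin.sum_univ_three]
      linear_combination (S 0 1 * S 1 0 + S 0 2 * S 2 0 + S 1 2 * S 2 1 - S 0 0 * S 1 1 - S 0 0 * S 2 2 - S 1 1 * S 2 2) * h2
    rw [this, htr]; ring
  have hQtr : ∀ a, (Q a).trace = 1 := by
    intro a
    simp only [Q, Matrix.trace_add, Matrix.trace_smul, Matrix.trace_one, htr, htr2, Fintype.card_fin]
    push_cast
    simp only [smul_eq_mul, mul_zero, add_zero]
    linear_combination h2
  have hSQ : ∀ a : F, a ^ 3 = 1 → S * Q a = a • Q a := by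
    intro a ha
    simp only [Q, mul_add, mul_one, Matrix.mul_smul, ← mul_assoc, hc, smul_add, smul_smul]
    rw [show a * a ^ 2 = a ^ 3 by ring, ha, one_smul]
    simp only [pow_two]
    abel
  have hev : ∀ a : F, a ^ 3 = 1 → ∃ v : Fin 3 → F, v ≠ 0 ∧ S *ᵥ v = a • v := by
    intro a ha
    have hne : Q a ≠ 0 := by
      intro h0
      have := hQtr a
      rw [h0, Matrix.trace_zero] at this
      exact zero_ne_one this
    obtain ⟨j, hj⟩ : ∃ j, Q a *ᵥ Pi.single j 1 ≠ 0 := by
      by_contra hall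
      push Not at hall
      refine hne (Matrix.ext fun i j => ?_)
      have := congrFun (hall j) i
      simpa using this
    refine ⟨_, hj, ?_⟩
    rw [Matrix.mulVec_mulVec, hSQ a ha, Matrix.smul_mulVec]
  have hd3 : ∀ i : Fin 3, (![1, w, w ^ 2] i) ^ 3 = 1 := by
    intro i
    fin_cases i
    · simp
    · exact hc3 w hw0
    · exact hc3 _ (pow_ne_zero 2 hw0)
  choose v hv0 hv using fun i : Fin 3 => hev _ (hd3 i)
  let G : Matrix (Fin 3) (Fin 3) F := Matrix.of fun a i => v i a
  have hSG : S * G = G * D := by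
    ext a i
    have := congrFun (hv i) a
    rw [Matrix.mul_diagonal]
    simpa [G, Matrix.mulVec, dotProduct, Matrix.mul_apply, mul_comm] using this
  have hdist : ∀ i j : Fin 3, i ≠ j → (![1, w, w ^ 2] i) ≠ (![1, w, w ^ 2] j) := by
    have a1 : w ^ 2 ≠ 1 := fun h => hw1 (by
      have h3 := hc3 w hw0
      rw [pow_succ, h, one_mul] at h3
      exact h3)
    have a2 : w ≠ w ^ 2 := fun h => hw1 (mul_left_cancel₀ hw0 (by linear_combination -h))
    intro i j hij
    fin_cases i <;> fin_cases j <;>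
      first | exact absurd rfl hij | exact hw1.symm | exact hw1 | exact a1.symm | exact a1 | exact a2 | exact a2.symm
  have hQv : ∀ i j : Fin 3, Q (![1, w, w ^ 2] i) *ᵥ v j = if i = j then v j else 0 := by
    intro i j
    set a := ![1, w, w ^ 2] i with ha_def
    set b := ![1, w, w ^ 2] j with hb_def
    have hval : Q a *ᵥ v j = (1 + a ^ 2 * b + a * (b * b)) • v j := by
      simp only [Q, Matrix.add_mulVec, Matrix.one_mulVec, Matrix.smul_mulVec, ← Matrix.mulVec_mulVec, hv j,
        Matrix.mulVec_smul, smul_smul, ← hb_def]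
      module
    rw [hval]
    split_ifs with h
    · subst h
      rw [show (1 : F) + a ^ 2 * b + a * (b * b) = 1 by
        have : b ^ 3 = 1 := hd3 i
        rw [ha_def, ← hb_def]
        linear_combination 2 * this + h2, one_smul]
    · have hu : (a ^ 2 * b) ^ 3 = 1 := by rw [mul_pow, ← pow_mul, pow_mul' a 2 3, hd3 i, hd3 j]; simp
      have hne : a ^ 2 * b ≠ 1 := fun e1 => hdist i j h (by
        have h3 : a ^ 3 = 1 := hd3 i
        calc a = a * (a ^ 2 * b) := by rw [e1, mul_one]
          _ = a ^ 3 * b := by ring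
          _ = b := by rw [h3, one_mul])
      have hz : (a ^ 2 * b - 1) * (1 + a ^ 2 * b + (a ^ 2 * b) ^ 2) = 0 := by linear_combination hu
      have hz2 := (mul_eq_zero.1 hz).resolve_left (sub_ne_zero.2 hne)
      rw [show (1 : F) + a ^ 2 * b + a * (b * b) = 0 by
        have h3 : a ^ 3 = 1 := hd3 i
        linear_combination hz2 - (a * b * b) * h3, zero_smul]
  have hGinj : Function.Injective G.mulVec := by
    intro y y' hyy
    rw [← sub_eq_zero]
    have h0 : G *ᵥ (y - y') = 0 := by rw [Matrix.mulVec_sub, hyy, sub_self]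
    generalize y - y' = z at h0
    have hz : ∑ j, z j • v j = 0 := by
      rw [← h0]; ext a
      simp [G, Matrix.mulVec, dotProduct, mul_comm]
    funext i
    have h1 := congrArg (fun u => Q (![1, w, w ^ 2] i) *ᵥ u) hz
    simp only [Matrix.mulVec_sum, Matrix.mulVec_smul, hQv, Matrix.mulVec_zero, smul_ite, smul_zero,
      Finset.sum_ite_eq, Finset.mem_univ, if_true] at h1
    exact (smul_eq_zero.1 h1).resolve_right (hv0 i)
  have hGdet : G.det ≠ 0 := ((Matrix.isUnit_iff_isUnit_det G).1 (Matrix.mulVec_injective_iff_isUnit.1 hGinj)).ne_zero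
  let G' : Matrix (Fin 3) (Fin 3) F := G * Matrix.diagonal ![G.det⁻¹, 1, 1]
  have hG'det : G'.det = 1 := by
    simp [G', Matrix.det_mul, Matrix.det_diagonal, Fin.prod_univ_three, mul_inv_cancel₀ hGdet]
  refine ⟨QuotientGroup.mk (⟨G', hG'det⟩ : Matrix.SpecialLinearGroup (Fin 3) F), ?_⟩
  rw [eq_mul_inv_iff_mul_eq]
  refine congrArg (QuotientGroup.mk (s := Subgroup.center (Matrix.SpecialLinearGroup (Fin 3) F))) (Subtype.ext ?_)
  show S * G' = G' * D
  simp only [G', ← mul_assoc, hSG]
  simp only [D, mul_assoc, Matrix.diagonal_mul_diagonal]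
  congr 2
  funext i
  exact mul_comm _ _


/-- In the projective special linear group PSL(3, 4) all subgroups of order 3 are conjugate. -/
theorem result (F : Type*) [Field F] [Fintype F] (hF : Fintype.card F = 4) (X Y : Subgroup (Matrix.ProjectiveSpecialLinearGroup (Fin 3) F)) (hX : Nat.card ↥X = 3) (hY : Nat.card ↥Y = 3) : ∃ g : Matrix.ProjectiveSpecialLinearGroup (Fin 3) F, MulAut.conj g • X = Y := by
  haveI : Fact (Nat.Prime 3) := ⟨Nat.prime_three⟩
  obtain ⟨x0, hx0⟩ := exists_conj_diag hF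
  have key : ∀ Z : Subgroup (Matrix.ProjectiveSpecialLinearGroup (Fin 3) F), Nat.card ↥Z = 3 →
      ∃ g : Matrix.ProjectiveSpecialLinearGroup (Fin 3) F, MulAut.conj g • Subgroup.zpowers x0 = Z := by
    intro Z hZ
    obtain ⟨⟨x, hxZ⟩, hx1⟩ : ∃ x : Z, x ≠ 1 := by
      haveI : Finite Z := Nat.finite_of_card_ne_zero (by omega)
      haveI : Nontrivial Z := Finite.one_lt_card_iff_nontrivial.1 (by omega)
      exact exists_ne 1
    have hx1' : x ≠ 1 := fun e => hx1 (Subtype.ext e)
    have hx3 : x ^ 3 = 1 := by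
      have h := pow_card_eq_one' (x := (⟨x, hxZ⟩ : Z))
      rw [hZ] at h
      exact congrArg Subtype.val h
    obtain ⟨g, hg⟩ := hx0 x hx3 hx1'
    refine ⟨g, ?_⟩
    have hsub : MulAut.conj g • Subgroup.zpowers x0 = Subgroup.zpowers x := by
      show (Subgroup.zpowers x0).map (MulAut.conj g).toMonoidHom = _
      rw [MonoidHom.map_zpowers, hg]
      rfl
    rw [hsub]
    refine Subgroup.eq_of_le_of_card_ge (Subgroup.zpowers_le.2 hxZ) ?_
    rw [hZ, Nat.card_zpowers, orderOf_eq_prime hx3 hx1']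
  obtain ⟨g, hg⟩ := key X hX
  obtain ⟨g', hg'⟩ := key Y hY
  refine ⟨g' * g⁻¹, ?_⟩
  rw [← hg, ← hg', smul_smul, ← map_mul, inv_mul_cancel_right]

end Cfsg.Agent.S2739
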