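import Cfsg.Statements.S2751
import Cfsg.Agent.Lib.GoldRadius82Setup

set_option autoImplicit false
open Cfsg

namespace Cfsg.Agent.S2751

open Subgroup GoldRadius82

/-- The index data of one side. -/
theorem side_of {G : Type*} [Group G] {M T : Subgroup G} [Finite M] (hle : T ≤ M)
    (ha : ∃ P : Sylow 2 M, (P : Subgroup M) = T.subgroupOf M)
    (hb : Nonempty (M ⧸ Cfsg.pCore 2 M ≃* Equiv.Perm (Fin 3))) : Side M T := by
  haveI : Fact (Nat.Prime 2) := ⟨Nat.prime_two⟩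
  obtain ⟨P, hP⟩ := ha
  obtain ⟨e⟩ := hb
  have h6 : (Cfsg.pCore 2 M).index = 6 := by
    rw [Subgroup.index_eq_card, Nat.card_congr e.toEquiv, Nat.card_perm, Nat.card_fin]; rfl
  refine ⟨hle, (hP ▸ P.isPGroup').of_equiv (subgroupOfEquivOfLe hle), ?_, h6⟩
  have hi : (P : Subgroup M).index ∣ 6 := h6 ▸ Subgroup.index_dvd_of_le (LocGroup56.pCore_le_sylow P)
  have hodd : ¬ 2 ∣ (P : Subgroup M).index := P.not_dvd_index
  have hne1 : (P : Subgroup M).index ≠ 1 := by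
    intro e1
    have htop := Subgroup.index_eq_one.mp e1
    have h2 : IsPGroup 2 M := by
      have := P.isPGroup'
      rw [show (P : Subgroup M) = ⊤ from htop] at this
      exact this.of_equiv Subgroup.topEquiv
    haveI : (Cfsg.pCore 2 M).Normal := Cfsg.pCore_normal 2 _
    obtain ⟨n, hn⟩ := (h2.to_quotient (Cfsg.pCore 2 M)).exists_card_eq
    rw [← Subgroup.index_eq_card, h6] at hn
    have : 3 ∣ 2 ^ n := hn ▸ (by norm_num)
    exact absurd (Nat.prime_three.dvd_of_dvd_pow this) (by norm_num)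
  rw [← hP]
  have hle' := Nat.le_of_dvd (by norm_num) hi
  interval_cases h : (P : Subgroup M).index <;> omega

/-- The data pass to a subgroup containing both sides. -/
theorem side_sub {G : Type*} [Group G] {M T H : Subgroup G} (hH : M ≤ H) (h : Side M T) :
    Side (M.subgroupOf H) (T.subgroupOf H) := by
  refine ⟨fun x hx => h.le hx, h.two.of_equiv (subgroupOfEquivOfLe (h.le.trans hH)).symm, ?_, ?_⟩
  · show (T.subgroupOf H).relIndex (M.subgroupOf H) = 3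
    rw [Subgroup.relIndex_subgroupOf hH]
    exact h.idx
  · rw [← Subgroup.index_map_equiv (Cfsg.pCore 2 (M.subgroupOf H)) (subgroupOfEquivOfLe hH)]
    show ((Cfsg.pCore 2 (M.subgroupOf H)).map (subgroupOfEquivOfLe hH).toMonoidHom).index = 6
    rw [LocGroup56.pCore_map_equiv]
    exact h.core

/-- Goldschmidt's bound for amalgams of index (3, 3): let M₁ and M₂ be finite subgroups of a group G such that M₁ ⊓ M₂ is a Sylow 2-subgroup of both M₁ and M₂, each quotient Mᵢ / O₂(Mᵢ) is isomorphic to the symmetric group of degree 3, and no nontrivial subgroup of M₁ ⊓ M₂ is normal in both M₁ and M₂. Then M₁ ⊓ M₂ has order at most 2^7. -/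
theorem result {G : Type*} [Group G] (M₁ M₂ : Subgroup G) [Finite M₁] [Finite M₂] (ha₁ : ∃ P : Sylow 2 M₁, (P : Subgroup M₁) = (M₁ ⊓ M₂).subgroupOf M₁) (ha₂ : ∃ P : Sylow 2 M₂, (P : Subgroup M₂) = (M₁ ⊓ M₂).subgroupOf M₂) (hb₁ : Nonempty (M₁ ⧸ Cfsg.pCore 2 M₁ ≃* Equiv.Perm (Fin 3))) (hb₂ : Nonempty (M₂ ⧸ Cfsg.pCore 2 M₂ ≃* Equiv.Perm (Fin 3))) (hc : ∀ N : Subgroup G, N ≤ M₁ ⊓ M₂ → (N.subgroupOf M₁).Normal → (N.subgroupOf M₂).Normal → N = ⊥) : Nat.card ↥(M₁ ⊓ M₂) ≤ 2 ^ 7 := by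
  have hs₁ : Side M₁ (M₁ ⊓ M₂) := side_of inf_le_left ha₁ hb₁
  have hs₂ : Side M₂ (M₁ ⊓ M₂) := side_of inf_le_right ha₂ hb₂
  have faith : ∀ K : Subgroup G, K ≤ M₁ ⊓ M₂ → M₁ ≤ normalizer (K : Set G) →
      M₂ ≤ normalizer (K : Set G) → K = ⊥ := fun K hK h1 h2 => hc K hK
    (Subgroup.normal_subgroupOf_of_le_normalizer h1) (Subgroup.normal_subgroupOf_of_le_normalizer h2)
  by_cases hc₁ : Subgroup.centralizer (Cfsg.pCore 2 M₁ : Set M₁) ≤ Cfsg.pCore 2 M₁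
  swap
  · exact card_le_of_not_charP M₁ M₂ _ hs₁ hs₂ hc₁ faith
  by_cases hc₂ : Subgroup.centralizer (Cfsg.pCore 2 M₂ : Set M₂) ≤ Cfsg.pCore 2 M₂
  swap
  · exact card_le_of_not_charP M₂ M₁ _ hs₂ hs₁ hc₂ fun K hK h1 h2 => faith K hK h2 h1
  set H := M₁ ⊔ M₂ with hH
  have l₁ : M₁ ≤ H := le_sup_left
  have l₂ : M₂ ≤ H := le_sup_right
  haveI : Finite (M₁.subgroupOf H) := Finite.of_equiv _ (subgroupOfEquivOfLe l₁).symm.toEquiv
  haveI : Finite (M₂.subgroupOf H) := Finite.of_equiv _ (subgroupOfEquivOfLe l₂).symm.toEquiv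
  set P₁ := M₁.subgroupOf H with hP₁
  set P₂ := M₂.subgroupOf H with hP₂
  have hT : (M₁ ⊓ M₂).subgroupOf H = P₁ ⊓ P₂ := Subgroup.comap_inf M₁ M₂ H.subtype
  have hgen : P₁ ⊔ P₂ = ⊤ := by
    rw [hP₁, hP₂, ← Subgroup.subgroupOf_sup l₁ l₂, Subgroup.subgroupOf_self]
  have t₁ : Side P₁ (P₁ ⊓ P₂) := hT ▸ side_sub l₁ hs₁
  have t₂ : Side P₂ (P₁ ⊓ P₂) := hT ▸ side_sub l₂ hs₂
  have c₁ := LocGroup56.charP_equiv (subgroupOfEquivOfLe l₁).symm hc₁
  have c₂ := LocGroup56.charP_equiv (subgroupOfEquivOfLe l₂).symm hc₂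
  have fX : ∀ N : Subgroup H, N ≤ P₁ ⊓ P₂ → P₁ ≤ normalizer (N : Set H) →
      P₂ ≤ normalizer (N : Set H) → N = ⊥ := by
    intro N hN h1 h2
    have hle : N.map H.subtype ≤ M₁ ⊓ M₂ := by
      rintro _ ⟨x, hx, rfl⟩
      exact ⟨(hN hx).1, (hN hx).2⟩
    have hn : ∀ {M : Subgroup G}, M ≤ H → M.subgroupOf H ≤ normalizer (N : Set H) →
        M ≤ normalizer (N.map H.subtype : Set G) := fun {M} hM h => LocGroup56.le_normalizer_of_conj
      fun g hg => by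
        rintro _ ⟨x, hx, rfl⟩
        exact Subgroup.mem_map_of_mem H.subtype
          (LocGroup56.conj_mem_of_mem_normalizer (h (show (⟨g, hM hg⟩ : H) ∈ M.subgroupOf H from hg)) hx)
    have := faith _ hle (hn l₁ h1) (hn l₂ h2)
    rwa [Subgroup.map_eq_bot_iff_of_injective _ H.subtype_injective] at this
  rw [← Nat.card_congr (subgroupOfEquivOfLe (inf_le_left.trans l₁ : M₁ ⊓ M₂ ≤ H)).toEquiv, hT]
  by_cases n₂ : GoldRadius82.Central P₂ (P₁ ⊓ P₂)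
  · exact card_le_of_central P₁ P₂ hgen t₁ t₂ c₁ c₂ fX n₂
  by_cases n₁ : GoldRadius82.Central P₁ (P₁ ⊓ P₂)
  · rw [inf_comm] at t₁ t₂ n₁ ⊢
    exact card_le_of_central P₂ P₁ (sup_comm P₁ P₂ ▸ hgen) t₂ t₁ c₂ c₁
      (fun N hN h1 h2 => fX N (inf_comm P₂ P₁ ▸ hN) h2 h1) n₁
  exact card_le_of_not_central P₁ P₂ hgen t₁ t₂ c₁ c₂ fX n₁ n₂

end Cfsg.Agent.S2751
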