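import Cfsg.Statements.S2752
import Cfsg.Agent.Lib.SquaredBound

set_option autoImplicit false
universe u
open Cfsg
open scoped IsMulCommutative commutatorElement

namespace Cfsg.Agent.S2752

/-- Let M be an elementary abelian 2-subgroup of a finite group L and G a subgroup of L acting faithfully on M by conjugation (G normalizes M and meets C(M) trivially). Assume O₂(G) = 1, the symmetric group of degree 3 is not involved in G, and every non-abelian composition factor of G is a Suzuki group Sz(2^(2n+1)) or a group PSL₂(3^(2n+1)). Then every elementary abelian 2-subgroup A of G satisfies |M / C_M(A)| ≥ |A|² and |[M, A]| ≥ |A|². -/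
theorem result {L : Type u} [Group L] [Finite L] (M G : Subgroup L) (hM : Cfsg.IsElementaryAbelian 2 M) (hGM : G ≤ Subgroup.normalizer (M : Set L)) (hf : G ⊓ Subgroup.centralizer (M : Set L) = ⊥) (ha : Cfsg.pCore 2 ↥G = ⊥) (hb : ¬ Cfsg.Involves (Equiv.Perm (Fin 3)) ↥G) (hc : Cfsg.IsCompositionKGroupWith Cfsg.IsSuzukiOrPSL2OddPowerThree ↥G) (A : Subgroup L) (hA : A ≤ G) (hAe : Cfsg.IsElementaryAbelian 2 A) : Nat.card A ^ 2 * Nat.card ↥(M ⊓ Subgroup.centralizer (A : Set L)) ≤ Nat.card M ∧ Nat.card A ^ 2 ≤ Nat.card ↥⁅M, A⁆ := by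
  classical
  haveI := hM.1
  let φ : ↥G →* MulAut ↥M := M.normalizerMonoidHom.comp (Subgroup.inclusion hGM)
  have hφv : ∀ (g : G) (v : M), ((φ g v : M) : L) = (g : L) * v * (g : L)⁻¹ := fun g v => rfl
  have hφ : Function.Injective φ := by
    refine (injective_iff_map_eq_one φ).mpr fun g hg => Subtype.ext ?_
    have : (g : L) ∈ G ⊓ Subgroup.centralizer (M : Set L) := ⟨g.2, fun m hm => by
      have h1 := hφv g ⟨m, hm⟩
      rw [hg] at h1
      exact (mul_inv_eq_iff_eq_mul.mp (show (g : L) * m * (g : L)⁻¹ = m from h1.symm)).symm⟩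
    rw [hf, Subgroup.mem_bot] at this
    exact this
  have hV : ∀ v : M, v * v = 1 := fun v => Subtype.ext (by
    rw [Subgroup.coe_mul, ← pow_two, hM.2 v v.2]; rfl)
  have h3 := SquaredBound.noThree_of_not_involves hb
  have hA' : Cfsg.IsElementaryAbelian 2 (A.subgroupOf G) := by
    refine ⟨⟨⟨fun a b => Subtype.ext (Subtype.ext ?_)⟩⟩, fun a haA => Subtype.ext ?_⟩
    · show ((a : G) : L) * ((b : G) : L) = ((b : G) : L) * ((a : G) : L)
      exact congrArg Subtype.val (hAe.1.is_comm.comm (⟨_, a.2⟩ : A) ⟨_, b.2⟩)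
    · rw [SubmonoidClass.coe_pow]; exact hAe.2 _ haA
  have hcardA : Nat.card (A.subgroupOf G) = Nat.card A :=
    Nat.card_congr (Subgroup.subgroupOfEquivOfLe hA).toEquiv
  constructor
  · have h := SquaredBound.sqLE_bot φ hφ hV h3 ha hc (A.subgroupOf G) hA'
    rw [hcardA] at h
    refine le_trans (Nat.mul_le_mul_left _ ?_) h
    refine Nat.card_le_card_of_injective (fun m => ⟨⟨m.1, m.2.1⟩, fun a haA => Subtype.ext ?_⟩)
      (fun m m' he => Subtype.ext (congrArg (fun z : SquaredBound.fix φ (A.subgroupOf G) => ((z : M) : L)) he :))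
    rw [hφv]
    show (a : L) * m.1 * (a : L)⁻¹ = m.1
    rw [m.2.2 (a : L) haA, mul_inv_cancel_right]
  · have hle : ⁅M, A⁆ ≤ M := ComponentsBasic.commutator_le_left_of_normalizes (hA.trans hGM)
    have h := SquaredBound.sq_card_le_commutator φ hφ hV h3 ha hc (A.subgroupOf G) hA'
      (⁅M, A⁆.subgroupOf M) (fun a haA v => by
        rw [Subgroup.mem_subgroupOf, Subgroup.coe_mul, InvMemClass.coe_inv, hφv]
        have h1 : ⁅(v : L)⁻¹, (a : L)⁆ ∈ ⁅M, A⁆ :=
          Subgroup.commutator_mem_commutator (M.inv_mem v.2) haA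
        rw [commutatorElement_def, inv_inv] at h1
        simpa [mul_assoc] using h1)
    rwa [hcardA, Nat.card_congr (Subgroup.subgroupOfEquivOfLe hle).toEquiv] at h

end Cfsg.Agent.S2752
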