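import Cfsg.Statements.S2756
import Cfsg.Agent.Lib.InvertedPush
import Cfsg.Agent.Lib.BaerSuzuki
-- import your own Cfsg.Agent.* helpers here

set_option autoImplicit false
set_option linter.style.haveILetI false
open Cfsg

namespace Cfsg.Agent.S2756

universe u

open Subgroup Cfsg.Agent.InvertedPush

section

variable {G : Type u} [Group G] [Finite G]

/-- A group with normal Sylow 2-subgroups has no inverted element of odd prime power order. -/
theorem not_bad (h : ∀ P : Sylow 2 G, (P : Subgroup G).Normal) {q : ℕ} [hq : Fact q.Prime]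
    (hq2 : q ≠ 2) : ¬ Bad q (⊤ : Subgroup G) := by
  haveI : Fact (Nat.Prime 2) := ⟨Nat.prime_two⟩
  rintro ⟨g, -, x, -, hx1, ⟨k, hk⟩, hgx⟩
  obtain ⟨j, l, hjl⟩ := exists_odd_pow g
  have hinv := conj_pow_inv hgx j
  set g' := g ^ (2 * j + 1)
  have hg' : IsPGroup 2 (zpowers g') := fun z => ⟨l, Subtype.ext (by
    obtain ⟨i, hi⟩ := z.2
    rw [SubgroupClass.coe_pow, ← hi, ← zpow_natCast, ← zpow_mul, mul_comm, zpow_mul, zpow_natCast,
      hjl, one_zpow, OneMemClass.coe_one])⟩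
  obtain ⟨P, hP⟩ := hg'.exists_le_sylow
  haveI := h P
  have hgP : g' ∈ (P : Subgroup G) := hP (mem_zpowers g')
  have h1 : x * g' * x⁻¹ * g'⁻¹ ∈ (P : Subgroup G) :=
    Subgroup.mul_mem _ ((h P).conj_mem g' hgP x) (Subgroup.inv_mem _ hgP)
  have h2 : x * g' * x⁻¹ * g'⁻¹ = x ^ 2 := by
    have e : g' * x⁻¹ * g'⁻¹ = x := by simpa [mul_assoc] using congrArg (·⁻¹) hinv
    calc x * g' * x⁻¹ * g'⁻¹ = x * (g' * x⁻¹ * g'⁻¹) := by group
      _ = x ^ 2 := by rw [e, sq]
  rw [h2] at h1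
  obtain ⟨i, hi⟩ := P.isPGroup' ⟨_, h1⟩
  have hi' : (x ^ 2) ^ 2 ^ i = 1 := congrArg Subtype.val hi
  rw [← pow_mul, ← pow_succ'] at hi'
  refine hx1 (orderOf_eq_one_iff.mp (Nat.eq_one_of_dvd_coprimes ?_ (orderOf_dvd_of_pow_eq_one hk)
    (orderOf_dvd_of_pow_eq_one hi')))
  exact ((Nat.coprime_primes hq.out Nat.prime_two).mpr hq2).pow k (i + 1)

omit [Finite G] in
/-- Normal Sylow 2-subgroups pass to subgroups. -/
theorem normal_sub (h : ∀ P : Sylow 2 G, (P : Subgroup G).Normal) (N : Subgroup G)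
    (P : Sylow 2 N) : (P : Subgroup N).Normal := by
  haveI : Fact (Nat.Prime 2) := ⟨Nat.prime_two⟩
  obtain ⟨Q, hQ⟩ := (P.isPGroup'.map N.subtype).exists_le_sylow
  haveI := h Q
  have hle : (P : Subgroup N) ≤ (Q : Subgroup G).subgroupOf N := fun x hx =>
    mem_subgroupOf.mpr (hQ (mem_map_of_mem _ hx))
  rw [← P.is_maximal' Q.isPGroup'.comap_subtype hle]
  exact normal_subgroupOf

/-- Without a normal Sylow 2-subgroup some element of odd prime order is inverted. -/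
theorem exists_bad (h : ¬ ∀ P : Sylow 2 G, (P : Subgroup G).Normal) :
    ∃ (q : ℕ) (_ : Fact q.Prime), q ≠ 2 ∧ Bad q (⊤ : Subgroup G) := by
  haveI h2 : Fact (Nat.Prime 2) := ⟨Nat.prime_two⟩
  haveI := HallCore.pCore_normal 2 G
  set O := Cfsg.pCore 2 G with hO
  set π := QuotientGroup.mk' O with hπ
  have hd : 2 ∣ Nat.card (G ⧸ O) := by
    by_contra hd
    apply h
    intro P
    have hPO : (P : Subgroup G) = O := by
      refine le_antisymm (fun x hx => ?_) (HallCore.pCore_le_sylow P)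
      obtain ⟨i, hi⟩ := P.isPGroup' ⟨x, hx⟩
      have hi' : x ^ 2 ^ i = 1 := congrArg Subtype.val hi
      refine (QuotientGroup.eq_one_iff x).mp (orderOf_eq_one_iff.mp (Nat.eq_one_of_dvd_coprimes
        ?_ (orderOf_dvd_natCard (π x)) (orderOf_dvd_of_pow_eq_one (by
          rw [← map_pow, hi', map_one] : π x ^ 2 ^ i = 1))))
      exact ((Nat.prime_two.coprime_iff_not_dvd.mpr hd).symm.pow_right i)
    rw [hPO]; infer_instance
  obtain ⟨t, ht⟩ := exists_prime_orderOf_dvd_card' 2 hd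
  obtain ⟨x, hx1, hodd, hx⟩ := BaerSuzuki.exists_inverted_odd t ht fun N hN hNp htN => by
    have h1 : t ∈ Cfsg.pCore 2 (G ⧸ O) := (le_sSup ⟨hN, hNp⟩ : N ≤ Cfsg.pCore 2 (G ⧸ O)) htN
    rw [HallCore.pCore_quotient_self 2 G, mem_bot] at h1
    rw [h1, orderOf_one] at ht
    omega
  obtain ⟨q, hq, hqd⟩ := Nat.exists_prime_and_dvd (n := orderOf x) fun h => hx1 (orderOf_eq_one_iff.mp h)
  haveI hqF : Fact q.Prime := ⟨hq⟩
  have hq2 : q ≠ 2 := fun h => by
    subst h
    exact (Nat.not_even_iff_odd.mpr hodd) (even_iff_two_dvd.mpr hqd)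
  have hbad : Bad q (⊤ : Subgroup (G ⧸ O)) := by
    have ho : orderOf (x ^ (orderOf x / q)) = q :=
      orderOf_pow_orderOf_div (orderOf_pos x).ne' hqd
    refine ⟨t, mem_top _, x ^ (orderOf x / q), mem_top _, fun h => ?_,
      ⟨1, by rw [pow_one]; nth_rw 2 [← ho]; exact pow_orderOf_eq_one _⟩, ?_⟩
    · rw [h, orderOf_one] at ho
      exact hq.one_lt.ne ho
    · rw [← conj_pow, hx, inv_pow]
  refine ⟨q, hqF, hq2, exists_inverted_quotient (π := π) (QuotientGroup.mk'_surjective O) ?_ hbad⟩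
  rw [QuotientGroup.ker_mk']
  obtain ⟨i, hi⟩ := IsPGroup.iff_card.mp (HallCore.isPGroup_pCore 2 G)
  rw [hi]
  exact ((Nat.coprime_primes Nat.prime_two hq).mpr (Ne.symm hq2)).pow_left i
end

/-- For a finite group G the following are equivalent: (a) G has a normal Sylow 2-subgroup; (b) for every odd prime q dividing the order of G and every Sylow q-subgroup T, the normalizer of Z(J(T)) has a normal Sylow 2-subgroup; (c) for every odd prime q and every Sylow q-subgroup T, no nonidentity element of T is inverted by an element of the normalizer of Z(J(T)). Here J(T) is the Thompson subgroup generated by the abelian subgroups of T of largest order. Stated as the two equivalences (a) ⇔ (b) and (a) ⇔ (c). -/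
theorem result {G : Type*} [Group G] [Finite G] : ((∀ P : Sylow 2 G, (P : Subgroup G).Normal) ↔ ∀ (q : ℕ) [Fact q.Prime], q ≠ 2 → q ∣ Nat.card G → ∀ T : Sylow q G, ∀ P : Sylow 2 ↥(Subgroup.normalizer (Cfsg.centerThompsonAOf (T : Subgroup G) : Set G)), (P : Subgroup ↥(Subgroup.normalizer (Cfsg.centerThompsonAOf (T : Subgroup G) : Set G))).Normal) ∧ ((∀ P : Sylow 2 G, (P : Subgroup G).Normal) ↔ ∀ (q : ℕ) [Fact q.Prime], q ≠ 2 → ∀ T : Sylow q G, ∀ x ∈ (T : Subgroup G), x ≠ 1 → ∀ g ∈ Subgroup.normalizer (Cfsg.centerThompsonAOf (T : Subgroup G) : Set G), g * x * g⁻¹ ≠ x⁻¹) := by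
  have hY : ∀ {q : ℕ} (T : Sylow q G),
      Cfsg.centerThompsonAOf (T : Subgroup G) = GlaubermanZJ.thomY 0 (T : Subgroup G) :=
    fun T => GlaubermanZJ.centerThompsonAOf_eq _
  have hc_a : (∀ (q : ℕ) [Fact q.Prime], q ≠ 2 → ∀ T : Sylow q G, ∀ x ∈ (T : Subgroup G), x ≠ 1 →
      ∀ g ∈ Subgroup.normalizer (Cfsg.centerThompsonAOf (T : Subgroup G) : Set G),
        g * x * g⁻¹ ≠ x⁻¹) → ∀ P : Sylow 2 G, (P : Subgroup G).Normal := by
    intro hc
    by_contra h
    obtain ⟨q, hq, hq2, hbad⟩ := exists_bad h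
    obtain ⟨T⟩ := (inferInstance : Nonempty (Sylow q G))
    set N := normalizer (GlaubermanZJ.thomY 0 (T : Subgroup G) : Set G)
    obtain ⟨g, hg, x, hx, hx1, ⟨k, hk⟩, hgx⟩ := InvertedPush.bad_normalizer hq2 _ G rfl T hbad
    have hTN : (T : Subgroup G) ≤ N := le_normalizer.trans (GlaubermanZJ.normalizer_le_thomY _)
    have hxp : IsPGroup q (zpowers (⟨x, hx⟩ : N)) := fun z => ⟨k, Subtype.ext (by
      obtain ⟨i, hi⟩ := z.2
      rw [SubgroupClass.coe_pow, ← hi, ← zpow_natCast, ← zpow_mul, mul_comm, zpow_mul, zpow_natCast,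
        show (⟨x, hx⟩ : N) ^ q ^ k = 1 from Subtype.ext hk, one_zpow, OneMemClass.coe_one])⟩
    obtain ⟨T₁, hT₁⟩ := hxp.exists_le_sylow
    obtain ⟨c, hc'⟩ := MulAction.exists_smul_eq N T₁ (T.subtype hTN)
    have hxT : (c : G) * x * (c : G)⁻¹ ∈ (T : Subgroup G) := by
      have h1 : MulAut.conj c ⟨x, hx⟩ ∈ ((c • T₁ : Sylow q N) : Subgroup N) :=
        mem_map_of_mem _ (hT₁ (mem_zpowers _))
      rw [hc', Sylow.coe_subtype, mem_subgroupOf] at h1
      exact h1
    refine hc q hq2 T _ hxT (fun h => hx1 (conj_eq_one_iff.mp h)) ((c : G) * g * (c : G)⁻¹) ?_ ?_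
    · rw [hY]; exact Subgroup.mul_mem _ (Subgroup.mul_mem _ c.2 hg) (Subgroup.inv_mem _ c.2)
    · calc _ = (c : G) * (g * x * g⁻¹) * (c : G)⁻¹ := by group
        _ = _ := by rw [hgx, conj_inv]
  refine ⟨⟨fun h q _ _ _ T P => normal_sub h _ P, fun hb => hc_a ?_⟩,
    ⟨fun h q _ hq2 T x hx hx1 g _ hgx => ?_, hc_a⟩⟩
  · intro q _ hq2 T x hx hx1 g hg hgx
    obtain ⟨k, hk⟩ := T.isPGroup' ⟨x, hx⟩
    have hk' : x ^ q ^ k = 1 := congrArg Subtype.val hk
    have hd : q ∣ Nat.card G := by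
      refine dvd_trans ?_ (orderOf_dvd_natCard x)
      obtain ⟨i, -, hi⟩ := (Nat.dvd_prime_pow (Fact.out : q.Prime)).mp (orderOf_dvd_of_pow_eq_one hk')
      rcases Nat.eq_zero_or_pos i with rfl | hpos
      · exact absurd (orderOf_eq_one_iff.mp (by simpa using hi)) hx1
      · rw [hi]; exact dvd_pow_self q hpos.ne'
    have hTN : (T : Subgroup G) ≤ normalizer (Cfsg.centerThompsonAOf (T : Subgroup G) : Set G) := by
      rw [hY]; exact le_normalizer.trans (GlaubermanZJ.normalizer_le_thomY _)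
    exact not_bad (hb q hq2 hd T) (q := q) hq2
      (Bad.top ⟨g, hg, x, hTN hx, hx1, ⟨k, hk'⟩, hgx⟩)
  · obtain ⟨k, hk⟩ := T.isPGroup' ⟨x, hx⟩
    exact not_bad h (q := q) hq2
      ⟨g, mem_top g, x, mem_top x, hx1, ⟨k, congrArg Subtype.val hk⟩, hgx⟩
end Cfsg.Agent.S2756
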