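import Cfsg.Statements.S2758
import Mathlib

set_option autoImplicit false
open Cfsg

set_option linter.all false

namespace Cfsg.Agent.S2758


variable {G : Type*} [Group G] [Finite G] {p : ℕ} [hp : Fact p.Prime]

/-- A `2`-part of an element with the same image on a `2`-element. -/
theorem two_part {H : Type*} [Group H] (f : G →* H) (n : G) (hf : (f n) ^ 2 = 1) :
    ∃ x : G, (∃ k, orderOf x = 2 ^ k) ∧ f x = f n ∧ x ∈ Subgroup.zpowers n := by
  obtain ⟨e, m, hm, hnm⟩ :=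
    Nat.exists_eq_pow_mul_and_not_dvd (orderOf_pos n).ne' 2 (by norm_num)
  obtain ⟨k, rfl⟩ : Odd m := Nat.odd_iff.2 (by omega)
  refine ⟨n ^ (2 * k + 1), ?_, ?_, Subgroup.npow_mem_zpowers _ _⟩
  · have h1 : orderOf (n ^ (2 * k + 1)) ∣ 2 ^ e := by
      rw [orderOf_dvd_iff_pow_eq_one, ← pow_mul, mul_comm, ← hnm, pow_orderOf_eq_one]
    obtain ⟨i, -, hi⟩ := (Nat.dvd_prime_pow Nat.prime_two).mp h1
    exact ⟨i, hi⟩
  · rw [map_pow, pow_succ, pow_mul, hf, one_pow, one_mul]

/-- An involution inverting an element of order `p` gives `DihedralGroup p`. -/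
noncomputable def dihHom {Q : Type*} [Group Q] (s : Q) (τ : Multiplicative (ZMod p) →* Q) (hs : s * s = 1)
    (h : ∀ i, s * τ i * s = (τ i)⁻¹) : DihedralGroup p →* Q where
  toFun d := match d with
    | .r i => τ (Multiplicative.ofAdd i)
    | .sr i => s * τ (Multiplicative.ofAdd i)
  map_one' := by show τ (Multiplicative.ofAdd 0) = 1; rw [ofAdd_zero, map_one]
  map_mul' a b := by
    have hc : ∀ i, τ i * s = s * (τ i)⁻¹ := fun i => by
      rw [← h i, ← mul_assoc, ← mul_assoc, hs, one_mul]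
    rcases a with i | i <;> rcases b with j | j <;>
      simp only [DihedralGroup.r_mul_r, DihedralGroup.r_mul_sr, DihedralGroup.sr_mul_r,
        DihedralGroup.sr_mul_sr]
    · rw [ofAdd_add, map_mul]
    · rw [sub_eq_neg_add, ofAdd_add, ofAdd_neg, map_mul, map_inv, ← mul_assoc, ← mul_assoc, hc]
    · rw [ofAdd_add, map_mul, mul_assoc]
    · rw [sub_eq_neg_add, ofAdd_add, ofAdd_neg, map_mul, map_inv, mul_assoc, ← mul_assoc (τ _), hc,
        ← mul_assoc, ← mul_assoc, hs, one_mul]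

theorem exists_of_involves (hp2 : p ≠ 2) (h : Cfsg.Involves (DihedralGroup p) G) :
    ∃ (x : G) (P : Subgroup G), (∃ k : ℕ, orderOf x = 2 ^ k) ∧ IsPGroup p ↥P ∧
      x ∈ Subgroup.normalizer (P : Set G) ∧ x ∉ Subgroup.centralizer (P : Set G) := by
  obtain ⟨K, R, hR, ⟨e⟩⟩ := h
  let ψ : ↥K →* DihedralGroup p := e.toMonoidHom.comp (QuotientGroup.mk' _)
  have hψ : Function.Surjective ψ := e.surjective.comp (QuotientGroup.mk'_surjective _)
  haveI : NeZero p := ⟨hp.out.ne_zero⟩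
  let Rot : Subgroup (DihedralGroup p) := Subgroup.zpowers (DihedralGroup.r 1)
  haveI : Rot.Normal := by
    refine Subgroup.normal_of_index_eq_two ?_
    have h1 := Rot.card_mul_index
    rw [Nat.card_zpowers, DihedralGroup.orderOf_r_one, DihedralGroup.nat_card, mul_comm 2] at h1
    exact Nat.eq_of_mul_eq_mul_left hp.out.pos h1
  set N := Rot.comap ψ
  obtain ⟨Y⟩ : Nonempty (Sylow p ↥N) := inferInstance
  have hfr := Y.normalizer_sup_eq_top
  set Y' : Subgroup ↥K := (Y : Subgroup ↥N).map N.subtype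
  have hsr : DihedralGroup.sr (0 : ZMod p) ∈ (Subgroup.normalizer (Y' : Set ↥K)).map ψ ⊔ Rot := by
    obtain ⟨k, hk⟩ := hψ (DihedralGroup.sr 0)
    have h1 : ψ k ∈ (Subgroup.normalizer (Y' : Set ↥K) ⊔ N).map ψ := by
      rw [hfr]; exact Subgroup.mem_map_of_mem _ (Subgroup.mem_top k)
    rw [Subgroup.map_sup, Subgroup.map_comap_eq_self_of_surjective hψ, hk] at h1
    exact h1
  obtain ⟨_, ⟨n, hn, rfl⟩, c, hc, hnc⟩ := Subgroup.mem_sup_of_normal_right.mp hsr
  obtain ⟨j, hj⟩ := Subgroup.mem_zpowers_iff.mp hc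
  rw [DihedralGroup.r_one_zpow] at hj
  have hψn : ψ n = DihedralGroup.sr (-(j : ZMod p)) := by
    rw [← mul_inv_eq_iff_eq_mul.mpr hnc.symm, ← hj, DihedralGroup.inv_r, DihedralGroup.sr_mul_r, zero_add]
  obtain ⟨x, hx2, hfx, hxn⟩ := two_part ψ n (by rw [hψn, pow_two, DihedralGroup.sr_mul_self])
  refine ⟨(x : G), Y'.map K.subtype, ?_, (Y.2.map _).map _, ?_, ?_⟩
  · obtain ⟨k, hk⟩ := hx2; exact ⟨k, by rwa [Subgroup.orderOf_coe]⟩
  · exact Subgroup.le_normalizer_map _ (Subgroup.mem_map_of_mem K.subtype ((Subgroup.zpowers_le.mpr hn) hxn))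
  · intro hcent
    have hsurj : Function.Surjective (ψ.subgroupComap Rot) := fun ⟨d, hd⟩ => by
      obtain ⟨k, rfl⟩ := hψ d
      exact ⟨⟨k, hd⟩, rfl⟩
    have hRp : IsPGroup p Rot := IsPGroup.of_card (n := 1) (by
      rw [Nat.card_zpowers, DihedralGroup.orderOf_r_one, pow_one])
    have htop : ((Y.mapSurjective hsurj : Sylow p Rot) : Subgroup Rot) = ⊤ :=
      ((Y.mapSurjective hsurj).3 (hRp.to_subgroup ⊤) le_top).symm
    obtain ⟨y, hy, hyr⟩ : (⟨DihedralGroup.r 1, Subgroup.mem_zpowers _⟩ : ↥Rot) ∈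
        (Y : Subgroup ↥N).map (ψ.subgroupComap Rot) := by
      rw [← Sylow.coe_mapSurjective hsurj, htop]; exact Subgroup.mem_top _
    have hy' : ((y : ↥K) : G) ∈ Y'.map K.subtype := Subgroup.mem_map_of_mem _ (Subgroup.mem_map_of_mem N.subtype hy)
    have hcm : (y : ↥K) * x = x * (y : ↥K) := Subtype.ext (Subgroup.mem_centralizer_iff.mp hcent _ hy')
    have h2 := congrArg ψ hcm
    rw [map_mul, map_mul, show ψ (y : ↥K) = DihedralGroup.r 1 from congrArg Subtype.val hyr, hfx, hψn,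
      DihedralGroup.r_mul_sr, DihedralGroup.sr_mul_r, DihedralGroup.sr.injEq] at h2
    have h3 : ((2 : ℕ) : ZMod p) = 0 := by push_cast; linear_combination -h2
    rw [ZMod.natCast_eq_zero_iff] at h3
    exact hp2 ((Nat.prime_dvd_prime_iff_eq hp.out Nat.prime_two).mp h3)

theorem inverted_of_exists {x : G} {P : Subgroup G} (hx : ∃ k : ℕ, orderOf x = 2 ^ k)
    (hP : IsPGroup p ↥P) (hn : x ∈ Subgroup.normalizer (P : Set G))
    (hc : x ∉ Subgroup.centralizer (P : Set G)) :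
    ∃ x y : G, (∃ k : ℕ, orderOf x = 2 ^ k) ∧ (∃ k : ℕ, orderOf y = p ^ k) ∧ y ≠ 1 ∧ x * y * x⁻¹ = y⁻¹ := by
  obtain ⟨k, hk⟩ := hx
  induction k generalizing x with
  | zero =>
    refine absurd ?_ hc
    rw [pow_zero, orderOf_eq_one_iff] at hk
    rw [hk]; exact one_mem _
  | succ k ih =>
    by_cases hc2 : x ^ 2 ∈ Subgroup.centralizer (P : Set G)
    · rw [Subgroup.mem_centralizer_iff] at hc
      push Not at hc
      obtain ⟨z, hz, hne⟩ := hc
      have hmem : z⁻¹ * (x * z * x⁻¹) ∈ P := P.mul_mem (P.inv_mem hz) ((Subgroup.mem_normalizer_iff.mp hn z).mp hz)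
      refine ⟨x, z⁻¹ * (x * z * x⁻¹), ⟨k + 1, hk⟩, ?_, ?_, ?_⟩
      · obtain ⟨i, hi⟩ := IsPGroup.iff_orderOf.mp hP ⟨_, hmem⟩
        exact ⟨i, by rwa [Subgroup.orderOf_mk] at hi⟩
      · intro h1
        rw [inv_mul_eq_one, eq_mul_inv_iff_mul_eq] at h1
        exact hne h1
      · have h2 := Subgroup.mem_centralizer_iff.mp hc2 z hz
        rw [pow_two, ← mul_assoc] at h2
        have e : x * (x * z * x⁻¹) * x⁻¹ = z := by
          calc x * (x * z * x⁻¹) * x⁻¹ = (x * x * z) * x⁻¹ * x⁻¹ := by group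
            _ = (z * x * x) * x⁻¹ * x⁻¹ := by rw [h2]
            _ = z := by group
        calc x * (z⁻¹ * (x * z * x⁻¹)) * x⁻¹ = (x * z * x⁻¹)⁻¹ * (x * (x * z * x⁻¹) * x⁻¹) := by group
          _ = (x * z * x⁻¹)⁻¹ * z := by rw [e]
          _ = _ := by group
    · exact ih (Subgroup.pow_mem _ hn 2) hc2 (by
        rw [orderOf_pow, hk, Nat.gcd_eq_right (dvd_pow_self 2 (Nat.succ_ne_zero k)), pow_succ, Nat.mul_div_cancel _ two_pos])

theorem involves_of_inverted {x y : G} (hp2 : p ≠ 2) (hy : ∃ k : ℕ, orderOf y = p ^ k) (hy1 : y ≠ 1)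
    (hxy : x * y * x⁻¹ = y⁻¹) : Cfsg.Involves (DihedralGroup p) G := by
  obtain ⟨k, hk⟩ := hy
  obtain ⟨i, rfl⟩ : ∃ i, k = i + 1 := by
    cases k with
    | zero => exact absurd (orderOf_eq_one_iff.mp (by simpa using hk)) hy1
    | succ i => exact ⟨i, rfl⟩
  set w := y ^ (p ^ i) with hw
  have hwo : orderOf w = p := by
    rw [hw, orderOf_pow, hk, Nat.gcd_eq_right (pow_dvd_pow p (Nat.le_succ i)), pow_succ,
      Nat.mul_div_cancel_left _ (pow_pos hp.out.pos _)]
  have hwx : x * w * x⁻¹ = w⁻¹ := by rw [hw, ← conj_pow, hxy, inv_pow]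
  set K := Subgroup.closure ({x, w} : Set G) with hK
  set Z := Subgroup.zpowers (x ^ 2) with hZ
  have hxxw : x ^ 2 * w = w * x ^ 2 := by
    have h1 : x * (x * w * x⁻¹) * x⁻¹ = w := by rw [hwx, ← conj_inv, hwx, inv_inv]
    rw [pow_two]
    calc x * x * w = x * (x * w * x⁻¹) * x⁻¹ * (x * x) := by group
      _ = w * (x * x) := by rw [h1]
  have hZc : K ≤ Subgroup.centralizer (Z : Set G) := by
    rw [hK, Subgroup.closure_le]
    intro g hg
    refine Subgroup.mem_centralizer_iff.mpr fun z hz => ?_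
    obtain ⟨j, rfl⟩ := Subgroup.mem_zpowers_iff.mp hz
    rcases hg with h | h
    · rw [h]; exact ((Commute.pow_self x 2).zpow_left j).eq
    · rw [h]; exact ((show Commute (x ^ 2) w from hxxw).zpow_left j).eq
  haveI hN : (Z.subgroupOf K).Normal := ⟨fun z hz g => by
    rw [Subgroup.mem_subgroupOf] at hz ⊢
    have h2 := Subgroup.mem_centralizer_iff.mp (hZc g.2) _ hz
    simpa [← h2] using hz⟩
  let xK : ↥K := ⟨x, Subgroup.subset_closure (Or.inl rfl)⟩
  let wK : ↥K := ⟨w, Subgroup.subset_closure (Or.inr rfl)⟩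
  set π := QuotientGroup.mk' (Z.subgroupOf K)
  have hwp : (π wK) ^ (p : ℕ) = 1 := by
    rw [← map_pow]
    have : wK ^ p = 1 := Subtype.ext (by rw [Subgroup.coe_pow, Subgroup.coe_one, ← hwo]; exact pow_orderOf_eq_one w)
    rw [this, map_one]
  let τ : Multiplicative (ZMod p) →* ↥K ⧸ Z.subgroupOf K :=
    AddMonoidHom.toMultiplicativeLeft (ZMod.lift p ⟨zmultiplesHom _ (Additive.ofMul (π wK)), by
      show ((p : ℤ) • Additive.ofMul (π wK)) = 0
      rw [natCast_zsmul, ← ofMul_pow, hwp, ofMul_one]⟩)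
  have hτ : ∀ j : ℤ, τ (Multiplicative.ofAdd (j : ZMod p)) = π wK ^ j := fun j => by
    show Additive.toMul (ZMod.lift p _ ((j : ℤ) : ZMod p)) = _
    rw [ZMod.lift_coe]
    simp [zmultiplesHom_apply]
  have hs : π xK * π xK = 1 := by
    rw [← map_mul]
    refine (QuotientGroup.eq_one_iff _).mpr (Subgroup.mem_subgroupOf.mpr ?_)
    show x * x ∈ Z
    rw [← pow_two]; exact Subgroup.mem_zpowers _
  have hinv : ∀ i, π xK * τ i * π xK = (τ i)⁻¹ := by
    intro i
    obtain ⟨a, rfl⟩ := Multiplicative.ofAdd.surjective i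
    obtain ⟨j, rfl⟩ := ZMod.intCast_surjective a
    have h1 : π xK * π wK * (π xK)⁻¹ = (π wK)⁻¹ := by
      rw [← map_inv, ← map_inv, ← map_mul, ← map_mul]; congr 1; exact Subtype.ext hwx
    rw [hτ]
    conv_lhs => arg 2; rw [← inv_eq_of_mul_eq_one_right hs]
    rw [← conj_zpow, h1, inv_zpow]
  let f := dihHom (π xK) τ hs hinv
  have hwne : π wK ≠ 1 := fun h => by
    have h1 : w ∈ Z := Subgroup.mem_subgroupOf.mp ((QuotientGroup.eq_one_iff wK).mp h)
    -- `w` would be fixed and inverted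
    have h2 := Subgroup.mem_centralizer_iff.mp (hZc (Subgroup.subset_closure (Or.inl rfl))) w h1
    have h3 : w * w = 1 := by
      conv_lhs => arg 2; rw [← inv_inv w, ← hwx, ← h2, mul_inv_cancel_right]
      exact mul_inv_cancel w
    have := orderOf_dvd_of_pow_eq_one (show w ^ 2 = 1 by rw [pow_two, h3])
    rw [hwo] at this
    exact hp2 ((Nat.prime_dvd_prime_iff_eq hp.out Nat.prime_two).mp this)
  haveI : NeZero p := ⟨hp.out.ne_zero⟩
  have hτi : Function.Injective τ := by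
    rw [injective_iff_map_eq_one]
    intro i hi
    obtain ⟨a, rfl⟩ := Multiplicative.ofAdd.surjective i
    obtain ⟨j, rfl⟩ := ZMod.intCast_surjective a
    rw [hτ, ← orderOf_dvd_iff_zpow_eq_one, orderOf_eq_prime hwp hwne] at hi
    rw [(ZMod.intCast_zmod_eq_zero_iff_dvd j p).mpr hi]; rfl
  have hfi : Function.Injective f := by
    rw [injective_iff_map_eq_one]
    intro d hd
    rcases d with i | i
    · have := hτi (a₁ := Multiplicative.ofAdd i) (a₂ := 1) (hd.trans (map_one τ).symm)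
      replace this : i = 0 := this
      rw [DihedralGroup.one_def, this]
    · exfalso
      have h1 : π xK = (τ (Multiplicative.ofAdd i))⁻¹ := eq_inv_of_mul_eq_one_left hd
      have h2 : ∀ a b, τ a * τ b = τ b * τ a := fun a b => by rw [← map_mul, ← map_mul, mul_comm]
      have h3 := hinv (Multiplicative.ofAdd ((1 : ℤ) : ZMod p))
      have hcm : π xK * τ (Multiplicative.ofAdd ((1 : ℤ) : ZMod p)) =
          τ (Multiplicative.ofAdd ((1 : ℤ) : ZMod p)) * π xK := by
        rw [h1]; exact (Commute.inv_left (h2 _ _)).eq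
      rw [hcm, mul_assoc, hs, mul_one, hτ, zpow_one] at h3
      have h6 : (π wK) ^ 2 = 1 := by rw [pow_two]; nth_rw 2 [h3]; exact mul_inv_cancel _
      have := orderOf_dvd_of_pow_eq_one h6
      rw [orderOf_eq_prime hwp hwne] at this
      exact hp2 ((Nat.prime_dvd_prime_iff_eq hp.out Nat.prime_two).mp this)
  have hfs : Function.Surjective f := by
    rw [← MonoidHom.range_eq_top, eq_top_iff]
    intro q h'
    clear h'
    obtain ⟨⟨g, hg⟩, rfl⟩ := QuotientGroup.mk'_surjective _ q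
    induction hg using Subgroup.closure_induction with
    | mem g hg =>
      rcases hg with rfl | rfl
      · exact ⟨.sr 0, by show π xK * τ _ = _; rw [ofAdd_zero, map_one, mul_one]⟩
      · exact ⟨.r ((1 : ℤ) : ZMod p), by show τ _ = _; rw [hτ, zpow_one]⟩
    | one => exact ⟨1, map_one f⟩
    | mul a b ha hb iha ihb =>
      rw [show (⟨a * b, _⟩ : ↥K) = ⟨a, ha⟩ * ⟨b, hb⟩ from rfl, map_mul]
      exact f.range.mul_mem iha ihb
    | inv a ha iha =>
      rw [show (⟨a⁻¹, _⟩ : ↥K) = (⟨a, ha⟩ : ↥K)⁻¹ from rfl, map_inv]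
      exact f.range.inv_mem iha
  exact ⟨K, Z, hN, ⟨(MulEquiv.ofBijective f ⟨hfi, hfs⟩).symm⟩⟩

/-- For an odd prime p and a finite group G the following are equivalent: the dihedral group of order 2p is involved in G; some element of 2-power order normalizes but does not centralize some p-subgroup of G; some element of 2-power order inverts some nonidentity element of p-power order. -/
theorem result {G : Type*} [Group G] [Finite G] {p : ℕ} [Fact p.Prime] (hp : p ≠ 2) : (Cfsg.Involves (DihedralGroup p) G ↔ ∃ (x : G) (P : Subgroup G), (∃ k : ℕ, orderOf x = 2 ^ k) ∧ IsPGroup p ↥P ∧ x ∈ Subgroup.normalizer (P : Set G) ∧ x ∉ Subgroup.centralizer (P : Set G)) ∧ (Cfsg.Involves (DihedralGroup p) G ↔ ∃ x y : G, (∃ k : ℕ, orderOf x = 2 ^ k) ∧ (∃ k : ℕ, orderOf y = p ^ k) ∧ y ≠ 1 ∧ x * y * x⁻¹ = y⁻¹) := by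
  refine ⟨⟨exists_of_involves hp, fun ⟨x, P, hx, hP, hn, hc⟩ => ?_⟩,
    ⟨fun h => ?_, fun ⟨x, y, _, hy, hy1, hxy⟩ => involves_of_inverted hp hy hy1 hxy⟩⟩
  · obtain ⟨x', y, -, hy, hy1, hxy⟩ := inverted_of_exists hx hP hn hc
    exact involves_of_inverted hp hy hy1 hxy
  · obtain ⟨x, P, hx, hP, hn, hc⟩ := exists_of_involves hp h
    exact inverted_of_exists hx hP hn hc

end Cfsg.Agent.S2758
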