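import Cfsg.Statements.S2760
import Cfsg.Agent.Lib.LocPReduced56

set_option autoImplicit false
open Cfsg

set_option linter.all false

namespace Cfsg.Agent.S2760
open Subgroup Cfsg.Agent.LocGroup56 Cfsg.Agent.LocCoprime56 Cfsg.Agent.LocPReduced56
open scoped commutatorElement


variable {G : Type*} [Group G] [Finite G]

theorem charP_of_normal {p : ℕ} [Fact p.Prime]
    (hchar : Subgroup.centralizer (Cfsg.pCore p G : Set G) ≤ Cfsg.pCore p G)
    (K : Subgroup G) [K.Normal] :
    Subgroup.centralizer (Cfsg.pCore p K : Set K) ≤ Cfsg.pCore p K := by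
  refine le_pCore (centralizer_normal (pCore_normal p K)) (isPGroup_of_coprime_eq_one fun a ha hac => ?_)
  let B : ℕ → Subgroup G := fun i =>
    if i = 0 then ⊥ else if i = 1 then Cfsg.pCore p G ⊓ K else Cfsg.pCore p G
  have h := commute_of_chain (pCore_isPGroup p G) (a := (a : G)) (by rwa [orderOf_coe]) 2 B
    (fun i _ => by
      simp only [B]; split_ifs
      · exact bot_le
      · exact inf_le_left
      · exact le_rfl) rfl
    (fun i hi x hx => by
      rcases Nat.lt_succ_iff.mp hi |>.eq_or_lt with rfl | hi0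
      · have hx' : x ∈ Cfsg.pCore p G := hx
        show ⁅x, (a : G)⁆ ∈ Cfsg.pCore p G ⊓ K
        refine Subgroup.mem_inf.mpr ⟨?_, ?_⟩
        · have h1 := mul_mem hx' ((pCore_normal p G).conj_mem _ (inv_mem hx') (a : G))
          rw [commutatorElement_def]
          simpa only [mul_assoc] using h1
        · have h1 := mul_mem ((inferInstance : K.Normal).conj_mem _ a.2 x) (inv_mem a.2)
          rw [commutatorElement_def]
          exact h1
      · obtain rfl : i = 0 := by omega
        obtain ⟨hx1, hx2⟩ := Subgroup.mem_inf.mp hx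
        have hmem : (⟨x, hx2⟩ : K) ∈ Cfsg.pCore p K :=
          le_pCore ((pCore_normal p G).subgroupOf K)
            ((pCore_isPGroup p G).comap_of_injective _ K.subtype_injective) hx1
        have := congrArg Subtype.val (Subgroup.mem_centralizer_iff.mp ha _ hmem)
        rw [show ⁅x, (a : G)⁆ = 1 from commutatorElement_eq_one_iff_commute.mpr this]
        exact Subgroup.one_mem _) 2 le_rfl
  have haQ : (a : G) ∈ Cfsg.pCore p G :=
    hchar (Subgroup.mem_centralizer_iff.mpr fun x hx => (h x hx).symm.eq)
  exact Subtype.ext (eq_one_of_pGroup (pCore_isPGroup p G) haQ (by rwa [orderOf_coe]))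

/-- Let G be a finite group with C_G(O₂(G)) ≤ O₂(G) and H a subgroup of G such that H is normal in G, or the subgroup O²(H) generated by the elements of H of odd order is normal in G. Then C_H(O₂(H)) ≤ O₂(H). -/
theorem result {G : Type*} [Group G] [Finite G] (hchar : Subgroup.centralizer (Cfsg.pCore 2 G : Set G) ≤ Cfsg.pCore 2 G) (H : Subgroup G) (hH : H.Normal ∨ ((Cfsg.pResidual 2 ↥H).map H.subtype).Normal) : Subgroup.centralizer (Cfsg.pCore 2 ↥H : Set ↥H) ≤ Cfsg.pCore 2 ↥H := by
  rcases hH with hH | hH
  · exact charP_of_normal hchar H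
  · set K : Subgroup G := (Cfsg.pResidual 2 ↥H).map H.subtype with hKdef
    have hKH : K ≤ H := Subgroup.map_subtype_le _
    have hK := charP_of_normal hchar K
    refine le_pCore (centralizer_normal (pCore_normal 2 H))
      (isPGroup_of_coprime_eq_one fun a ha hac => ?_)
    have haK : (a : G) ∈ K := ⟨a, Subgroup.subset_closure hac, rfl⟩
    have hn : (((Cfsg.pCore 2 K).map K.subtype).subgroupOf H).Normal := by
      refine ⟨fun x hx g => ?_⟩
      obtain ⟨y, hy, hyx⟩ := hx
      haveI := hH
      let e : K ≃* K := MulAut.conjNormal (g : G)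
      refine ⟨e y, (pCore_map_equiv 2 e) ▸ ⟨y, hy, rfl⟩, ?_⟩
      simp only [Subgroup.coe_subtype] at hyx
      simp [e, MulAut.conjNormal_apply, hyx]
    have hp : IsPGroup 2 ↥(((Cfsg.pCore 2 K).map K.subtype).subgroupOf H) :=
      ((pCore_isPGroup 2 K).map _).comap_of_injective _ H.subtype_injective
    have haC : (⟨a, haK⟩ : K) ∈ Subgroup.centralizer (Cfsg.pCore 2 K : Set K) := by
      refine Subgroup.mem_centralizer_iff.mpr fun y hy => Subtype.ext ?_
      have hy' : (⟨(y : G), hKH y.2⟩ : H) ∈ Cfsg.pCore 2 H := le_pCore hn hp ⟨y, hy, rfl⟩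
      exact congrArg (fun z : H => (z : G)) (Subgroup.mem_centralizer_iff.mp ha _ hy')
    have := eq_one_of_pGroup (pCore_isPGroup 2 K) (hK haC)
      (by rw [← orderOf_coe]; simpa using hac)
    exact Subtype.ext (by simpa using congrArg Subtype.val this)

end Cfsg.Agent.S2760
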