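import Cfsg.Statements.S2762
import Cfsg.Agent.Lib.QdStructure56

set_option autoImplicit false
open Cfsg

set_option linter.all false

namespace Cfsg.Agent.S2762
open Matrix hiding vec
open Cfsg.Agent.QdStructure56
open scoped MatrixGroups Pointwise

/-- Structure of Qd over a finite field F of characteristic p (the affine subgroup of SL₃(F)): its largest normal p-subgroup is the group of translations (matrices with upper-left block the identity), the block-diagonal matrices form a complement isomorphic to SL₂(F), and the translation subgroup is a natural SL₂(F)-module for that complement. -/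
theorem result {F : Type*} [Field F] [Fintype F] {p : ℕ} [Fact p.Prime] [CharP F p] : (∀ M : ↥(Cfsg.qdOver F), M ∈ Cfsg.pCore p ↥(Cfsg.qdOver F) ↔ ((M : Matrix.SpecialLinearGroup (Fin 3) F) : Matrix (Fin 3) (Fin 3) F) 0 0 = 1 ∧ ((M : Matrix.SpecialLinearGroup (Fin 3) F) : Matrix (Fin 3) (Fin 3) F) 0 1 = 0 ∧ ((M : Matrix.SpecialLinearGroup (Fin 3) F) : Matrix (Fin 3) (Fin 3) F) 1 0 = 0 ∧ ((M : Matrix.SpecialLinearGroup (Fin 3) F) : Matrix (Fin 3) (Fin 3) F) 1 1 = 1) ∧ ∃ K : Subgroup ↥(Cfsg.qdOver F), (∀ M : ↥(Cfsg.qdOver F), M ∈ K ↔ ((M : Matrix.SpecialLinearGroup (Fin 3) F) : Matrix (Fin 3) (Fin 3) F) 0 2 = 0 ∧ ((M : Matrix.SpecialLinearGroup (Fin 3) F) : Matrix (Fin 3) (Fin 3) F) 1 2 = 0) ∧ K ⊓ Cfsg.pCore p ↥(Cfsg.qdOver F) = ⊥ ∧ K ⊔ Cfsg.pCore p ↥(Cfsg.qdOver F) = ⊤ ∧ Nonempty (↥K ≃* Matrix.SpecialLinearGroup (Fin 2) F) ∧ Cfsg.IsNaturalSL2Module F (Cfsg.pCore p ↥(Cfsg.qdOver F)) K := by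
  have hpc : Cfsg.pCore p (Qd F) = transl F := transl_eq_pCore
  refine ⟨fun M => ?_, (lift : SL(2, F) →* Qd F).range, fun M => ?_, ?_, ?_, ?_, ?_⟩
  · rw [hpc, mem_transl]
    constructor
    · intro h
      obtain ⟨a, b, c, d⟩ := blk_apply M
      rw [h] at a b c d
      exact ⟨by simpa [ent] using a.symm, by simpa [ent] using b.symm, by simpa [ent] using c.symm,
        by simpa [ent] using d.symm⟩
    · rintro ⟨a, b, c, d⟩
      apply PSL2Elements.ext2 <;> simp [blk, ent, a, b, c, d]
  · constructor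
    · rintro ⟨A, rfl⟩
      have h := vec_lift A
      exact ⟨congrFun h 0, congrFun h 1⟩
    · intro h
      refine ⟨blk M, ext_blk_vec (blk_lift _) ?_⟩
      rw [vec_lift]
      funext i; fin_cases i <;> simp [vec, ent, h.1, h.2]
  · rw [hpc, Subgroup.eq_bot_iff_forall]
    rintro M ⟨⟨A, rfl⟩, hM⟩
    rw [show A = 1 by simpa using mem_transl.mp hM, map_one]
  · rw [hpc, Subgroup.eq_top_iff']
    intro M
    have h2 : lift (blk M) ∈ (lift : SL(2, F) →* Qd F).range := ⟨_, rfl⟩
    have h3 : (lift (blk M))⁻¹ * M ∈ transl F := by rw [mem_transl, map_mul, map_inv, blk_lift, inv_mul_cancel]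
    have := Subgroup.mul_mem_sup h2 h3
    rwa [mul_inv_cancel_left] at this
  · exact ⟨(MonoidHom.ofInjective lift_injective).symm⟩
  · rw [hpc]
    refine ⟨fun k _ => by simp [Subgroup.normalizer_eq_top], (blk : Qd F →* SL(2, F)).comp (Subgroup.subtype _),
      { toFun := fun v => vec (Additive.toMul v).1
        invFun := fun v => Additive.ofMul ⟨trn (Multiplicative.ofAdd v), by simp [mem_transl, trn]⟩
        left_inv := fun v => by
          apply Additive.toMul.injective
          exact Subtype.ext (eq_trn_of_blk (mem_transl.mp (Additive.toMul v).2)).symm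
        right_inv := fun v => by simp [trn]
        map_add' := fun a b => by
          show vec ((Additive.toMul a).1 * (Additive.toMul b).1) = _
          rw [vec_mul, mem_transl.mp (Additive.toMul a).2, coeOne, Matrix.one_mulVec, add_comm] }, ?_, ?_, ?_⟩
    · intro A
      exact ⟨⟨lift A, A, rfl⟩, blk_lift A⟩
    · ext ⟨k, A, rfl⟩
      rw [MonoidHom.mem_ker, Subgroup.mem_subgroupOf, Subgroup.mem_centralizer_iff]
      show blk (lift A) = 1 ↔ _
      constructor
      · intro h v _
        rw [blk_lift] at h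
        subst h
        simp
      · intro h
        rw [blk_lift]
        refine eq_one_of_mulVec fun v _ => ?_
        have hv : trn (Multiplicative.ofAdd v) ∈ transl F := by simp [mem_transl, trn]
        have h1 := h _ hv
        have h2 := conj_transl (lift A) hv
        rw [← h1, mul_inv_cancel_right, blk_lift] at h2
        simpa [trn] using h2.symm
    · intro l v
      exact ⟨⟨_, (inferInstance : (transl F).Normal).conj_mem _ v.2 _⟩, rfl, conj_transl _ v.2⟩

end Cfsg.Agent.S2762
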