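import Cfsg.Statements.S2770
import Cfsg.Agent.Lib.ThompsonAgemoFactor
-- import your own Cfsg.Agent.* helpers here

set_option autoImplicit false
open Cfsg

namespace Cfsg.Agent.S2770

/-- A subgroup of the centre is normal. -/
theorem normal_of_le_center {G : Type*} [Group G] {H : Subgroup G} (h : H ≤ Subgroup.center G) :
    H.Normal :=
  ⟨fun x hx g => by
    rw [Subgroup.mem_center_iff.mp (h hx) g, mul_inv_cancel_right]; exact hx⟩

open Cfsg.Agent.GlaubermanZJ Subgroup in
theorem core {G : Type*} [Group G] [Finite G] {p : ℕ} [Fact p.Prime] (S : Sylow p G)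
    (hE₁ : Subgroup.centralizer (Cfsg.pCore p G : Set G) ≤ Cfsg.pCore p G)
    (hE₂ : ∃! M : Subgroup G, IsCoatom M ∧ (S : Subgroup G) ≤ M) :
    (Cfsg.powerClosure p 1 ((S : Subgroup G) ⊓ Subgroup.centralizer ((S : Subgroup G) : Set G))).Normal ∨
      (((S : Subgroup G) ⊓ Subgroup.centralizer (thomY 0 (S : Subgroup G) : Set G))).Normal := by
  set P : Subgroup G := (S : Subgroup G) with hP
  set Z := P ⊓ Subgroup.centralizer (P : Set G) with hZ
  obtain ⟨M, ⟨hMc, -⟩, hMu⟩ := hE₂
  have hproper : ∀ H : Subgroup G, P ≤ H → H ≠ ⊤ → H ≤ M := by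
    intro H hPH hH
    rcases eq_top_or_exists_le_coatom H with h | ⟨N, hN, hHN⟩
    · exact absurd h hH
    · exact hMu N ⟨hN, hPH.trans hHN⟩ ▸ hHN
  set C1 := Subgroup.centralizer ((Cfsg.powerClosure p 1 Z : Subgroup G) : Set G) with hC1
  have hcen : ∀ {u : G}, (∀ z ∈ Z, u * z ^ p = z ^ p * u) → u ∈ C1 := by
    intro u hu
    rw [hC1, Cfsg.powerClosure, centralizer_closure, mem_centralizer_iff]
    rintro _ ⟨z, hz, rfl⟩
    rw [pow_one]
    exact (hu z hz).symm
  have hZc : ∀ z ∈ Z, ∀ s ∈ P, z * s = s * z := fun z hz s hs =>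
    (mem_centralizer_iff.mp hz.2 s hs).symm
  have hPC1 : P ≤ C1 := fun s hs => hcen fun z hz =>
    ((show Commute s z from (hZc z hz s hs).symm).pow_right p).eq
  by_cases hC1top : C1 = ⊤
  · left
    refine normal_of_le_center fun x hx => mem_center_iff.mpr fun g => ?_
    have hg : g ∈ C1 := by rw [hC1top]; trivial
    exact (mem_centralizer_iff.mp hg x hx).symm
  have hPN : P ≤ normalizer (thomJ 0 P : Set G) :=
    le_normalizer.trans (normalizer_le_thomJ P)
  have hJ : normalizer (thomJ 0 P : Set G) = ⊤ := by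
    by_contra hN
    refine hMc.1 (eq_top_iff.mpr fun g _ => ?_)
    obtain ⟨u, n, rfl, hn, hu⟩ := ThompsonAgemoFactor.factor p G hE₁ S g
    exact mul_mem (hproper C1 hPC1 hC1top (hcen fun z hz => hu z hz.1 (hZc z hz)))
      (hproper _ hPN hN hn)
  haveI hJn : (thomJ 0 P).Normal := normalizer_eq_top_iff.mp hJ
  haveI hYn : (thomY 0 P).Normal := by unfold thomY; infer_instance
  set C := Subgroup.centralizer (thomY 0 P : Set G) with hC
  haveI hCn : C.Normal := inferInstance
  by_cases htop : P ⊔ C = ⊤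
  · left
    have hZY : Z ≤ thomY 0 P := by
      intro z hz
      obtain ⟨A, hA⟩ := exists_maxFam 0 P
      refine ⟨le_thomJ hA (mem_of_commute hA hz.1 (pow_zero z) fun a ha => (hZc z hz a (hA.1.le ha)).symm),
        mem_centralizer_iff.mpr fun a ha => (hZc z hz a (thomJ_le P ha)).symm⟩
    refine normal_of_le_center ?_
    rw [Cfsg.powerClosure, closure_le]
    rintro _ ⟨z, hz, rfl⟩
    refine (Subgroup.center G).pow_mem ?_ _
    have hc : P ⊔ C ≤ Subgroup.centralizer ({z} : Set G) := by
      refine sup_le (fun s hs => mem_centralizer_iff.mpr ?_) (fun c hc => mem_centralizer_iff.mpr ?_)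
      · intro y hy; rw [Set.mem_singleton_iff.mp hy]; exact hZc z hz s hs
      · intro y hy; rw [Set.mem_singleton_iff.mp hy]; exact mem_centralizer_iff.mp hc z (hZY hz)
    rw [htop] at hc
    exact mem_center_iff.mpr fun g => (mem_centralizer_iff.mp (hc (mem_top g)) z rfl).symm
  · right
    have hPN2 : P ≤ normalizer ((P ⊓ C : Subgroup G) : Set G) := by
      intro s hs
      refine mem_normalizer_iff.mpr fun x => ⟨fun hx => ?_, fun hx => ?_⟩
      · exact ⟨P.mul_mem (P.mul_mem hs hx.1) (P.inv_mem hs), hCn.conj_mem x hx.2 s⟩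
      · refine ⟨?_, ?_⟩
        · have := P.mul_mem (P.mul_mem (P.inv_mem hs) hx.1) hs
          rwa [show s⁻¹ * (s * x * s⁻¹) * s = x by group] at this
        · have := hCn.conj_mem _ hx.2 s⁻¹
          simpa [mul_assoc] using this
    refine normalizer_eq_top_iff.mp ?_
    by_contra hN
    refine hMc.1 (eq_top_iff.mpr ?_)
    obtain ⟨T, hT⟩ := LocalBasics.exists_sylow_inf S C
    have hTm : (T : Subgroup C).map C.subtype = P ⊓ C := by
      rw [hT, subgroupOf_map_subtype]
    have hfr := Sylow.normalizer_sup_eq_top T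
    rw [hTm] at hfr
    rw [← hfr]
    exact sup_le (hproper _ hPN2 hN) (le_sup_right.trans (hproper _ le_sup_left htop))

/-- Let G be a finite group and p a prime with C_G(O_p(G)) ≤ O_p(G), S a Sylow p-subgroup lying in exactly one maximal subgroup of G, and G/K ≅ PSL₂(p^n) for some normal K and n ≥ 1. If Z(S) is not elementary abelian, then either ℧¹(Z(S)) (the subgroup generated by the p-th powers of the elements of Z(S)) is normal in G or C_S(Z(J(S))) is normal in G, J(S) being generated by the abelian subgroups of S of largest order. -/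
theorem result {G : Type*} [Group G] [Finite G] {p : ℕ} [Fact p.Prime] (S : Sylow p G) (hE₁ : Subgroup.centralizer (Cfsg.pCore p G : Set G) ≤ Cfsg.pCore p G) (hE₂ : ∃! M : Subgroup G, IsCoatom M ∧ (S : Subgroup G) ≤ M) (K : Subgroup G) [K.Normal] (F : Type) [Field F] [Fintype F] (n : ℕ) (hn : 1 ≤ n) (hF : Fintype.card F = p ^ n) (hE₃ : Nonempty (G ⧸ K ≃* Matrix.ProjectiveSpecialLinearGroup (Fin 2) F)) (h : ¬ Cfsg.IsElementaryAbelian p ((S : Subgroup G) ⊓ Subgroup.centralizer ((S : Subgroup G) : Set G))) : (Cfsg.powerClosure p 1 ((S : Subgroup G) ⊓ Subgroup.centralizer ((S : Subgroup G) : Set G))).Normal ∨ (((S : Subgroup G) ⊓ Subgroup.centralizer (Cfsg.centerThompsonAOf (S : Subgroup G) : Set G))).Normal := by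
  rw [GlaubermanZJ.centerThompsonAOf_eq]
  exact core S hE₁ hE₂

end Cfsg.Agent.S2770
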