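import Cfsg.Statements.S2772
import Cfsg.Agent.Lib.DihedralPushingUpMain

set_option autoImplicit false
open Cfsg

namespace Cfsg.Agent.S2772

/-- Sims' Theorem in local form: let H be a finite non-abelian simple group and G a maximal subgroup of H with C_G(O₂(G)) ≤ O₂(G), such that N_H(S) is not contained in G for a Sylow 2-subgroup S of G and G/O₂(G) is dihedral of order 2q for a prime q. Then G is isomorphic to the symmetric group of degree 4 or to its direct product with a group of order 2. -/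
theorem result {H : Type*} [Group H] [Finite H] [IsSimpleGroup H] (hna : ¬ IsMulCommutative H) (G : Subgroup H) (hG : IsCoatom G) (hchar : Subgroup.centralizer (Cfsg.pCore 2 ↥G : Set ↥G) ≤ Cfsg.pCore 2 ↥G) (S : Sylow 2 ↥G) (hN : ¬ Subgroup.normalizer (((S : Subgroup ↥G).map G.subtype : Subgroup H) : Set H) ≤ G) (q : ℕ) (hq : q.Prime) (hD : Nonempty (↥G ⧸ Cfsg.pCore 2 ↥G ≃* DihedralGroup q)) : Nonempty (↥G ≃* Equiv.Perm (Fin 4)) ∨ Nonempty (↥G ≃* Equiv.Perm (Fin 4) × Multiplicative (ZMod 2)) := by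
  classical
  have : Fact (Nat.Prime 2) := ⟨Nat.prime_two⟩
  have hq2 := hq.two_le
  set P := (S : Subgroup ↥G).map G.subtype with hPdef
  have hPG : P ≤ G := Subgroup.map_subtype_le _
  obtain ⟨y, hyN, hyG⟩ := SetLike.not_le_iff_exists.1 hN
  have hcard2 : Nat.card (↥G ⧸ pCore 2 ↥G) = 2 * q := by
    obtain ⟨e⟩ := hD
    rw [Nat.card_congr e.toEquiv, DihedralGroup.nat_card]
  have hO : pCore 2 ↥G ≠ ⊥ := by
    intro h0
    rw [h0] at hchar
    have h1 : ∀ g : ↥G, g = 1 := fun g => Subgroup.mem_bot.1 (hchar (Subgroup.mem_centralizer_iff.2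
      fun z hz => by rw [SetLike.mem_coe, Subgroup.mem_bot] at hz; rw [hz, one_mul, mul_one]))
    have : Subsingleton ↥G := ⟨fun a b => by rw [h1 a, h1 b]⟩
    have h2 : Nat.card (↥G ⧸ pCore 2 ↥G) ≤ Nat.card ↥G :=
      Nat.card_le_card_of_surjective _ QuotientGroup.mk_surjective
    rw [Nat.card_of_subsingleton (1 : ↥G), hcard2] at h2
    omega
  have hGbot : G ≠ ⊥ := by
    intro h0
    apply hO
    rw [← Subgroup.map_eq_bot_iff_of_injective _ G.subtype_injective, eq_bot_iff]
    exact (Subgroup.map_subtype_le _).trans h0.le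
  have hnotn : ∀ X : Subgroup H, X ≠ ⊥ → X ≤ G → G ≤ Subgroup.normalizer (X : Set H) →
      Subgroup.normalizer (X : Set H) = G := by
    intro X hX hXG hle
    rcases hle.lt_or_eq with hlt | heq
    · exfalso
      have htop := hG.2 _ hlt
      have hn : X.Normal := Subgroup.normalizer_eq_top_iff.1 htop
      rcases hn.eq_bot_or_eq_top with h | h
      · exact hX h
      · exact hG.1 (top_le_iff.1 (h ▸ hXG))
    · exact heq.symm
  have hy : Cfsg.Agent.DihedralPushingUp.cn y P = P := by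
    refine Subgroup.eq_of_le_of_card_ge (fun z hz => ?_) (le_of_eq (Cfsg.Agent.DihedralPushingUp.card_cn _ _).symm)
    have h1 := (Subgroup.mem_normalizer_iff.1 hyN _).1 (Cfsg.Agent.DihedralPushingUp.mem_cn.1 hz)
    simpa [mul_assoc] using h1
  have hPsyl : ¬ 2 ∣ P.relIndex G := by
    have h1 : P.subgroupOf G = (S : Subgroup ↥G) := Subgroup.comap_map_eq_self_of_injective G.subtype_injective _
    rw [Subgroup.relIndex, h1]
    exact S.not_dvd_index
  have key := Cfsg.Agent.DihedralPushingUpMain.pushing_up G P y hO q hq2 hD hPG (S.2.map G.subtype) hPsyl hy ?_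
  · have hodd : oddCore ↥G = ⊥ := by
      rw [eq_bot_iff]
      intro o ho
      have h1 : o ∈ pCore 2 ↥G := hchar (Subgroup.mem_centralizer_iff.2 fun z hz =>
        (Cfsg.Agent.HallCore.commute_pCore_pPrimeCore hz ho).eq)
      rw [← Cfsg.Agent.HallCore.pCore_inf_pPrimeCore 2 ↥G]
      exact Subgroup.mem_inf.2 ⟨h1, ho⟩
    let e0 : ↥G ⧸ oddCore ↥G ≃* ↥G := (QuotientGroup.quotientMulEquivOfEq hodd).trans QuotientGroup.quotientBot
    rcases key.2 with ⟨⟨e⟩⟩ | ⟨⟨e⟩⟩ | ⟨⟨e⟩⟩
    · exfalso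
      have h4 : Nat.card ↥G = 4 := by rw [Nat.card_congr (e0.symm.trans e).toEquiv]; simp
      have hp : IsPGroup 2 (⊤ : Subgroup ↥G) :=
        IsPGroup.of_card (n := 2) (by rw [Subgroup.card_top, h4]; norm_num)
      have htop : pCore 2 ↥G = ⊤ := top_le_iff.1 (Cfsg.Agent.HallCore.le_pCore hp)
      rw [← Subgroup.index_eq_card, htop, Subgroup.index_top] at hcard2
      omega
    · exact Or.inl ⟨e0.symm.trans e⟩
    · exact Or.inr ⟨e0.symm.trans e⟩
  · intro N hNP hNn hMn
    by_contra hne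
    apply hyG
    have hM : Cfsg.Agent.DihedralPushingUp.cn y N ≠ ⊥ := fun h =>
      hne (Cfsg.Agent.DihedralPushingUp.cn_injective y (h.trans (Subgroup.map_bot _).symm))
    have hMG : Cfsg.Agent.DihedralPushingUp.cn y N ≤ G :=
      ((Cfsg.Agent.DihedralPushingUp.cn_mono hNP).trans hy.le).trans hPG
    have hMe := hnotn _ hM hMG hMn
    have hyy : y ∈ Subgroup.normalizer (G : Set H) := by
      refine Subgroup.mem_normalizer_fintype fun k hk => ?_
      show y * k * y⁻¹ ∈ G
      rw [← hMe]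
      refine Subgroup.mem_normalizer_fintype fun m hm => ?_
      have h1 := Cfsg.Agent.DihedralPushingUp.mem_cn.1 hm
      have h2 := (Subgroup.mem_normalizer_iff.1 (hNn hk) _).1 h1
      have h3 := Cfsg.Agent.DihedralPushingUp.conj_mem_cn (y := y) h2
      simpa [mul_assoc] using h3
    rwa [hnotn G hGbot le_rfl Subgroup.le_normalizer] at hyy

end Cfsg.Agent.S2772
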