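import Cfsg.Statements.S2774
import Cfsg.Agent.Lib.LocOddCore

set_option autoImplicit false
open Cfsg

namespace Cfsg.Agent.S2774

/-- Let p be an odd prime and S a nontrivial Sylow p-subgroup of a finite group G. Then S ∩ G' is generated by the subgroups S ∩ (N_G(K))' as K ranges over the nontrivial characteristic subgroups of S (derived subgroups of the normalizers). -/
theorem result {G : Type*} [Group G] [Finite G] {p : ℕ} [Fact p.Prime] (hp : p ≠ 2) (S : Sylow p G) (hS : (S : Subgroup G) ≠ ⊥) : (S : Subgroup G) ⊓ commutator G = ⨆ K : {K : Subgroup ↥(S : Subgroup G) // K ≠ ⊥ ∧ K.Characteristic}, (S : Subgroup G) ⊓ ⁅Subgroup.normalizer ((((K : Subgroup ↥(S : Subgroup G))).map (S : Subgroup G).subtype : Subgroup G) : Set G), Subgroup.normalizer ((((K : Subgroup ↥(S : Subgroup G))).map (S : Subgroup G).subtype : Subgroup G) : Set G)⁆ := by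
  rw [_root_.commutator_def]
  refine le_antisymm ?_ (iSup_le fun K => inf_le_inf_left _ (Subgroup.commutator_mono le_top le_top))
  refine (ConjFunctorTransfer.inf_commutator_le_tgt
    (ConjFunctorSection.isConjugacyFunctor_img (LocOdd.isCharPFunctor_fam (p := p)))
    (LocOdd.controls_fam hp) (ConjFunctorBasic.isSylowIn_top S)).trans (iSup₂_le ?_)
  rintro _ ⟨W, hW, rfl⟩
  have hW2 := LocOdd.isCharPFunctor_fam W hW
  have hn : Nontrivial ↥(S : Subgroup G) := (Subgroup.nontrivial_iff_ne_bot _).mpr hS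
  refine le_trans (le_of_eq ?_) (le_iSup _
    ⟨W ↥(S : Subgroup G), hW2.1 _ S.isPGroup' hn,
      Subgroup.characteristic_iff_map_eq.mpr fun φ => hW2.2 _ _ S.isPGroup' φ⟩)
  simp only [top_inf_eq]
  rfl

end Cfsg.Agent.S2774
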