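import Cfsg.Statements.S2779
import Cfsg.Agent.Lib.NaturalSL2Mod56

set_option autoImplicit false
open Cfsg

set_option linter.all false

namespace Cfsg.Agent.S2779
open Matrix
open scoped MatrixGroups Pointwise commutatorElement
open Cfsg.Agent.PSL2Elements Cfsg.Agent.NaturalSL2Mod56

/-- Let L act on the elementary abelian p-group V (inside a finite group, by conjugation, faithfully) as SL₂(F) on its natural module, F a field with p^n elements, and let S be a Sylow p-subgroup of L. Then [V, S, S] = 1; |V| = p^(2n) and |C_V(S)| = p^n; and for every nonidentity s ∈ S and every v ∈ V outside C_V(S): C_V(s) = C_V(S) = [V, S] = [V, s] = the subgroup generated by the commutators [v, t], t ∈ S. -/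
theorem result {G : Type*} [Group G] [Finite G] {p : ℕ} [Fact p.Prime] {F : Type*} [Field F] [Fintype F] (n : ℕ) (hF : Fintype.card F = p ^ n) (V L : Subgroup G) (hnat : Cfsg.IsNaturalSL2Module F V L) (hf : L ⊓ Subgroup.centralizer (V : Set G) = ⊥) (S : Sylow p ↥L) (T : Subgroup G) (hT : T = ((S : Subgroup ↥L).map L.subtype)) : ⁅⁅V, T⁆, T⁆ = ⊥ ∧ Nat.card V = p ^ (2 * n) ∧ Nat.card ↥(V ⊓ Subgroup.centralizer ((T : Subgroup G) : Set G)) = p ^ n ∧ ∀ s ∈ T, s ≠ 1 → (V ⊓ Subgroup.centralizer ({s} : Set G)) = (V ⊓ Subgroup.centralizer ((T : Subgroup G) : Set G)) ∧ ⁅V, T⁆ = (V ⊓ Subgroup.centralizer ((T : Subgroup G) : Set G)) ∧ ⁅V, Subgroup.zpowers s⁆ = (V ⊓ Subgroup.centralizer ((T : Subgroup G) : Set G)) ∧ ∀ v ∈ V, v ∉ Subgroup.centralizer (T : Set G) → Subgroup.closure {x : G | ∃ t ∈ T, x = v * t * v⁻¹ * t⁻¹} = (V ⊓ Subgroup.centralizer ((T : Subgroup G) : Set G)) := by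
  classical
  have hn0 : n ≠ 0 := fun h => by
    have := Fintype.one_lt_card (α := F)
    rw [hF, h, pow_zero] at this
    exact lt_irrefl _ this
  haveI : CharP F p := charP_of_card_eq_prime_pow hF
  obtain ⟨c⟩ := exists_coord hnat hf S
  rw [← hT] at c
  set C := V ⊓ Subgroup.centralizer ((T : Subgroup G) : Set G) with hC
  have hcomm : ∀ t ∈ T, ∀ x, ∀ hv : x ∈ V, ∀ a : F, (∀ htL : t ∈ L, c.e ⟨t, htL⟩ = u a) →
      ∃ h : x * t * x⁻¹ * t⁻¹ ∈ V, c.co h = ![-(a * c.co hv 1), 0] := by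
    intro t ht x hv a ha
    have hm : t * x⁻¹ * t⁻¹ ∈ V := c.mem ⟨t, c.T_le ht⟩ ⟨x⁻¹, inv_mem hv⟩
    have e : x * t * x⁻¹ * t⁻¹ = x * (t * x⁻¹ * t⁻¹) := by group
    have h0 : x * t * x⁻¹ * t⁻¹ ∈ V := e ▸ mul_mem hv hm
    refine ⟨h0, ?_⟩
    have h1 : c.co h0 = c.co hv + c.co hm := by
      rw [← c.co_mul hv hm (mul_mem hv hm)]
      congr 1
    have h2 : c.co hm = (u a).1 *ᵥ (-c.co hv) := by
      rw [← ha (c.T_le ht), ← c.co_inv hv]
      exact c.co_conj ⟨t, c.T_le ht⟩ (inv_mem hv) hm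
    rw [h1, h2, u_mulVec]
    funext i
    fin_cases i <;> simp
  have hcommC : ∀ t ∈ T, ∀ x ∈ V, ⁅x, t⁆ ∈ C := by
    intro t ht x hv
    obtain ⟨a, ha⟩ := PSL2Sylow.mem_uSub.mp ((c.mem_T ⟨t, c.T_le ht⟩).mp ht)
    obtain ⟨h, hco⟩ := hcomm t ht x hv a fun _ => ha
    exact c.mem_fixed_iff.mpr ⟨h, by rw [show c.co (v := ⁅x, t⁆) h = _ from hco]; simp⟩
  have hVT : ⁅V, T⁆ ≤ C := Subgroup.commutator_le.mpr fun x hx t ht => hcommC t ht x hx
  let f : ↥V ≃ (Fin 2 → F) := Additive.ofMul.trans c.ψ.toEquiv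
  have hcardV : Nat.card V = p ^ (2 * n) := by
    rw [Nat.card_congr f, Nat.card_fun, Nat.card_eq_fintype_card, hF, Nat.card_eq_fintype_card (α := Fin 2),
      Fintype.card_fin, ← pow_mul, mul_comm]
  let g : ↥C ≃ F :=
    { toFun := fun x => c.co (v := (x : G)) x.2.1 0
      invFun := fun a => ⟨((Additive.toMul (c.ψ.symm ![a, 0]) : ↥V) : G), c.mem_fixed_iff.mpr
        ⟨(Additive.toMul (c.ψ.symm ![a, 0])).2, by simp [Coord.co]⟩⟩
      left_inv := fun x => by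
        refine Subtype.ext (c.co_inj (Additive.toMul (c.ψ.symm _)).2 x.2.1 ?_)
        obtain ⟨_, h1⟩ := c.mem_fixed_iff.mp x.2
        show c.ψ (c.ψ.symm _) = _
        rw [AddEquiv.apply_symm_apply]
        funext i; fin_cases i <;> simp [h1]
      right_inv := fun a => by simp [Coord.co] }
  refine ⟨?_, hcardV, by rw [Nat.card_congr g, Nat.card_eq_fintype_card, hF], fun s hs hs1 => ?_⟩
  · rw [← le_bot_iff]
    refine (Subgroup.commutator_mono hVT le_rfl).trans (le_of_eq ?_)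
    rw [Subgroup.commutator_eq_bot_iff_le_centralizer]
    exact inf_le_right
  obtain ⟨a, ha⟩ := PSL2Sylow.mem_uSub.mp ((c.mem_T ⟨s, c.T_le hs⟩).mp hs)
  have ha0 : a ≠ 0 := by
    rintro rfl
    rw [u_zero, EmbeddingLike.map_eq_one_iff] at ha
    exact hs1 (congrArg Subtype.val ha)
  have hfix : V ⊓ Subgroup.centralizer ({s} : Set G) = C := by
    refine le_antisymm (fun x hx => c.mem_fixed_iff.mpr ⟨hx.1, ?_⟩)
      (inf_le_inf_left _ (Subgroup.centralizer_le (Set.singleton_subset_iff.mpr hs)))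
    exact ((c.fix_u_iff ⟨s, c.T_le hs⟩ ha hx.1).mp
      (Subgroup.mem_centralizer_iff.mp hx.2 s rfl)).resolve_left ha0
  have hgen : ∀ (X : Subgroup G), (∀ b : F, ∃ t ∈ T, ∃ x, ∃ hv : x ∈ V, (∀ htL : t ∈ L, ∃ r : F, c.e ⟨t, htL⟩ = u r ∧ -(r * c.co hv 1) = b) ∧ x * t * x⁻¹ * t⁻¹ ∈ X) → C ≤ X := by
    intro X h y hy
    obtain ⟨hyV, hy1⟩ := c.mem_fixed_iff.mp hy
    obtain ⟨t, ht, x, hv, hr, hX⟩ := h (c.co hyV 0)
    obtain ⟨r, hr1, hr2⟩ := hr (c.T_le ht)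
    obtain ⟨hm, hco⟩ := hcomm t ht x hv r fun _ => hr1
    have he : y = x * t * x⁻¹ * t⁻¹ := c.co_inj hyV hm (by
      rw [hco, hr2]; funext i; fin_cases i <;> simp [hy1])
    rw [he]; exact hX
  have hVs : ⁅V, Subgroup.zpowers s⁆ = C := by
    refine le_antisymm ((Subgroup.commutator_mono le_rfl (Subgroup.zpowers_le.mpr hs)).trans hVT) (hgen _ fun b => ?_)
    obtain ⟨x, hx, hxc⟩ := c.co_surj ![0, -(a⁻¹ * b)]
    refine ⟨s, hs, x, hx, fun _ => ⟨a, ha, ?_⟩, Subgroup.commutator_mem_commutator hx (Subgroup.mem_zpowers s)⟩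
    rw [hxc]; simp; field_simp
  refine ⟨hfix, le_antisymm hVT (hVs.ge.trans (Subgroup.commutator_mono le_rfl (Subgroup.zpowers_le.mpr hs))),
    hVs, fun v hv hvc => le_antisymm ?_ (hgen _ fun b => ?_)⟩
  · rw [Subgroup.closure_le]
    rintro _ ⟨t, ht, rfl⟩
    exact hcommC t ht v hv
  · have hv1 : c.co hv 1 ≠ 0 := fun h0 => hvc (c.mem_fixed_iff.mpr ⟨hv, h0⟩).2
    refine ⟨(c.e.symm (u (-(b / c.co hv 1))) : ↥L), ?_, v, hv,
      fun htL => ⟨-(b / c.co hv 1), ?_, by field_simp⟩, Subgroup.subset_closure ⟨_, ?_, rfl⟩⟩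
    · rw [c.mem_T, MulEquiv.apply_symm_apply]; exact PSL2Sylow.mem_uSub.mpr ⟨_, rfl⟩
    · simp
    · rw [c.mem_T, MulEquiv.apply_symm_apply]; exact PSL2Sylow.mem_uSub.mpr ⟨_, rfl⟩

end Cfsg.Agent.S2779
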