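import Cfsg.Statements.S2780
import Cfsg.Agent.Lib.NaturalSL2Mod56

set_option autoImplicit false
open Cfsg

set_option linter.all false

namespace Cfsg.Agent.S2780
open Matrix
open scoped MatrixGroups Pointwise commutatorElement
open Cfsg.Agent.PSL2Elements Cfsg.Agent.NaturalSL2Mod56

theorem hdiag {G : Type*} [Group G] {F : Type*} [Field F] [Finite F] {V L : Subgroup G} (T : Subgroup G)
    (c : Coord F V L T) (a : Fˣ) : ∃ l : ↥L, c.e l = d a ∧ (l : G) ∈ Subgroup.normalizer (T : Set G) := by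
  refine ⟨c.e.symm (d a), MulEquiv.apply_symm_apply _ _, Subgroup.mem_normalizer_iff.mpr fun t => ?_⟩
  have hB : d a ∈ Subgroup.normalizer (PSL2Sylow.uSub F : Set SL(2, F)) := by
    rw [PSL2Sylow.normalizer_uSub, PSL2Sylow.mem_borel]; simp [d]
  set l := c.e.symm (d a)
  have hl : c.e l = d a := MulEquiv.apply_symm_apply _ _
  constructor
  · intro ht
    have := (Subgroup.mem_normalizer_iff.mp hB _).mp ((c.mem_T ⟨t, c.T_le ht⟩).mp ht)
    rw [← hl, ← map_inv, ← map_mul, ← map_mul, ← c.mem_T] at this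
    exact this
  · intro ht
    have htL : t ∈ L := by
      have := L.mul_mem (L.mul_mem (L.inv_mem l.2) (c.T_le ht)) l.2
      simpa [mul_assoc] using this
    rw [show t = ((⟨t, htL⟩ : ↥L) : G) from rfl, c.mem_T, Subgroup.mem_normalizer_iff.mp hB,
      ← hl, ← map_inv, ← map_mul, ← map_mul, ← c.mem_T]
    exact ht


/-- Let L act on the elementary abelian p-group V (inside a finite group, faithfully) as SL₂(F) on its natural module, F a field with p^n elements, S a Sylow p-subgroup of L. Then: for every g ∈ L not normalizing S, V is the internal direct product of C_V(S) and C_V(gSg⁻¹); every nonidentity element of L of order prime to p acts on V without nonidentity fixed points; and C_V(S) and V/C_V(S) are irreducible for N_L(S): the only N_L(S)-invariant subgroups of C_V(S) are 1 and C_V(S), and the only N_L(S)-invariant subgroups between C_V(S) and V are those two. -/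
theorem result {G : Type*} [Group G] [Finite G] {p : ℕ} [Fact p.Prime] {F : Type*} [Field F] [Fintype F] (n : ℕ) (hF : Fintype.card F = p ^ n) (V L : Subgroup G) (hnat : Cfsg.IsNaturalSL2Module F V L) (hf : L ⊓ Subgroup.centralizer (V : Set G) = ⊥) (S : Sylow p ↥L) (T : Subgroup G) (hT : T = ((S : Subgroup ↥L).map L.subtype)) : (∀ g ∈ L, g ∉ Subgroup.normalizer (T : Set G) → Cfsg.IsInternalDirectProduct (V ⊓ Subgroup.centralizer ((T : Subgroup G) : Set G)) (V ⊓ Subgroup.centralizer ((T.map (MulAut.conj g).toMonoidHom : Subgroup G) : Set G)) V) ∧ (∀ x ∈ L, x ≠ 1 → (orderOf x).Coprime p → (V ⊓ Subgroup.centralizer ({x} : Set G)) = ⊥) ∧ (∀ U : Subgroup G, U ≤ (V ⊓ Subgroup.centralizer ((T : Subgroup G) : Set G)) → L ⊓ Subgroup.normalizer (T : Set G) ≤ Subgroup.normalizer (U : Set G) → U = ⊥ ∨ U = (V ⊓ Subgroup.centralizer ((T : Subgroup G) : Set G))) ∧ (∀ U : Subgroup G, (V ⊓ Subgroup.centralizer ((T : Subgroup G) : Set G)) ≤ U → U ≤ V → L ⊓ Subgroup.normalizer (T : Set G)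 ≤ Subgroup.normalizer (U : Set G) → U = (V ⊓ Subgroup.centralizer ((T : Subgroup G) : Set G)) ∨ U = V) := by
  classical
  have hn0 : n ≠ 0 := fun h => by
    have := Fintype.one_lt_card (α := F)
    rw [hF, h, pow_zero] at this
    exact lt_irrefl _ this
  haveI : CharP F p := charP_of_card_eq_prime_pow hF
  obtain ⟨c⟩ := exists_coord hnat hf S
  rw [← hT] at c
  set C := V ⊓ Subgroup.centralizer ((T : Subgroup G) : Set G) with hC
  refine ⟨fun g hg hgN => ?_, fun x hx hx1 hco => ?_, fun U hU hN => ?_, fun U hU hUV hN => ?_⟩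
  · have hg10 : (c.e ⟨g, hg⟩).1 1 0 ≠ 0 := by
      intro h0
      refine hgN (Subgroup.mem_normalizer_iff.mpr fun t => ?_)
      have hB : c.e ⟨g, hg⟩ ∈ Subgroup.normalizer (PSL2Sylow.uSub F : Set SL(2, F)) := by
        rw [PSL2Sylow.normalizer_uSub, PSL2Sylow.mem_borel]; exact h0
      constructor
      · intro ht
        have := (Subgroup.mem_normalizer_iff.mp hB _).mp ((c.mem_T ⟨t, c.T_le ht⟩).mp ht)
        rw [← map_inv, ← map_mul, ← map_mul, ← c.mem_T] at this
        exact this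
      · intro ht
        have htL : t ∈ L := by
          have := L.mul_mem (L.mul_mem (L.inv_mem hg) (c.T_le ht)) hg
          simpa [mul_assoc] using this
        rw [show t = ((⟨t, htL⟩ : ↥L) : G) from rfl, c.mem_T, Subgroup.mem_normalizer_iff.mp hB,
          ← map_inv, ← map_mul, ← map_mul, ← c.mem_T]
        exact ht
    set T' := T.map (MulAut.conj g).toMonoidHom with hT'
    have hmem' : ∀ v, v ∈ V ⊓ Subgroup.centralizer (T' : Set G) ↔ g⁻¹ * v * g ∈ C := by
      intro v
      have hVg : g⁻¹ * v * g ∈ V ↔ v ∈ V := by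
        constructor
        · intro h
          have := c.mem ⟨g, hg⟩ ⟨_, h⟩
          simpa [mul_assoc] using this
        · intro h
          have := c.mem (⟨g, hg⟩⁻¹ : ↥L) ⟨v, h⟩
          simpa [mul_assoc] using this
      rw [hC, Subgroup.mem_inf, Subgroup.mem_inf, hVg, Subgroup.mem_centralizer_iff, Subgroup.mem_centralizer_iff]
      refine and_congr_right fun _ => ⟨fun h t ht => ?_, fun h t ht => ?_⟩
      · have := h _ ⟨t, ht, rfl⟩
        simp [MulAut.conj_apply] at this
        calc t * (g⁻¹ * v * g) = g⁻¹ * (g * t * g⁻¹ * v) * g := by group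
          _ = g⁻¹ * (v * (g * t * g⁻¹)) * g := by rw [this]
          _ = g⁻¹ * v * g * t := by group
      · obtain ⟨y, hy, rfl⟩ := ht
        show g * y * g⁻¹ * v = v * (g * y * g⁻¹)
        calc g * y * g⁻¹ * v = g * (y * (g⁻¹ * v * g)) * g⁻¹ := by group
          _ = g * (g⁻¹ * v * g * y) * g⁻¹ := by rw [h y hy]
          _ = v * (g * y * g⁻¹) := by group
    set m := c.e ⟨g, hg⟩ with hm
    have hline : ∀ v, ∀ hv : v ∈ V, v ∈ V ⊓ Subgroup.centralizer (T' : Set G) ↔
        ∃ r : F, c.co hv = ![m.1 0 0 * r, m.1 1 0 * r] := by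
      intro v hv
      rw [hmem', c.mem_fixed_iff]
      constructor
      · rintro ⟨hw, h1⟩
        refine ⟨c.co hw 0, ?_⟩
        have hh : g * (g⁻¹ * v * g) * g⁻¹ ∈ V := by simpa [mul_assoc] using hv
        have := c.co_conj ⟨g, hg⟩ hw hh
        have he : c.co hh = c.co hv := by congr 1; simp [mul_assoc]
        rw [he] at this
        rw [this]
        funext i; fin_cases i <;> simp [Matrix.mulVec, dotProduct, Fin.sum_univ_two, h1, m]
      · rintro ⟨r, hr⟩
        obtain ⟨w, hw, hwc⟩ := c.co_surj ![r, 0]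
        have h2 := c.co_conj ⟨g, hg⟩ hw (c.mem ⟨g, hg⟩ ⟨w, hw⟩)
        have h3 : g * w * g⁻¹ = v := c.co_inj _ hv (by
          rw [h2, hwc, hr]
          funext i; fin_cases i <;> simp [Matrix.mulVec, dotProduct, Fin.sum_univ_two, m])
        have h4 : g⁻¹ * v * g = w := by rw [← h3]; group
        subst h4
        exact ⟨hw, by rw [hwc]; simp⟩
    refine ⟨inf_le_left, inf_le_left, fun a ha b hb => ?_, ?_, ?_⟩
    · refine c.co_inj (mul_mem ha.1 hb.1) (mul_mem hb.1 ha.1) ?_
      rw [c.co_mul ha.1 hb.1, c.co_mul hb.1 ha.1, add_comm]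
    · rw [Subgroup.eq_bot_iff_forall]
      rintro v ⟨hv1, hv2⟩
      obtain ⟨hv, h1⟩ := c.mem_fixed_iff.mp hv1
      obtain ⟨r, hr⟩ := (hline v hv).mp hv2
      rw [hr] at h1
      have hr0 : r = 0 := by simpa [hg10] using h1
      refine c.co_inj hv V.one_mem ?_
      rw [hr, hr0, show c.co (V.one_mem) = 0 from map_zero c.ψ]
      funext i; fin_cases i <;> simp
    · refine le_antisymm (sup_le inf_le_left inf_le_left) fun v hv => ?_
      obtain ⟨b, hb, hbc⟩ := c.co_surj ![m.1 0 0 * (c.co hv 1 / m.1 1 0), c.co hv 1]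
      have hbmem : b ∈ V ⊓ Subgroup.centralizer (T' : Set G) :=
        (hline b hb).mpr ⟨c.co hv 1 / m.1 1 0, by rw [hbc]; congr 2; field_simp⟩
      have hamem : v * b⁻¹ ∈ C := c.mem_fixed_iff.mpr ⟨mul_mem hv (inv_mem hb), by
        rw [c.co_mul hv (inv_mem hb), c.co_inv hb, hbc]; simp⟩
      have := Subgroup.mul_mem_sup hamem hbmem
      rwa [inv_mul_cancel_right] at this
  · rw [Subgroup.eq_bot_iff_forall]
    rintro v ⟨hv, hvc⟩
    by_contra hv1
    have hw : c.co hv ≠ 0 := fun h0 => hv1 (c.co_inj hv V.one_mem (h0.trans (map_zero c.ψ).symm))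
    have hfix := (c.fix_iff ⟨x, hx⟩ hv).mp (Subgroup.mem_centralizer_iff.mp hvc x rfl)
    set A := c.e ⟨x, hx⟩ with hA
    have htr : tr A = 2 := by
      by_contra htr
      have hd := det_eq A
      have h0 := congrFun hfix 0
      have h1 := congrFun hfix 1
      simp [Matrix.mulVec, dotProduct, Fin.sum_univ_two] at h0 h1
      have key : ∀ i, (tr A - 2) * c.co hv i = 0 := by
        refine Fin.forall_fin_two.mpr ⟨?_, ?_⟩
        · simp only [tr]; linear_combination (c.co hv 0) * hd - (A.1 1 1 - 1) * h0 + A.1 0 1 * h1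
        · simp only [tr]; linear_combination (c.co hv 1) * hd - (A.1 0 0 - 1) * h1 + A.1 1 0 * h0
      exact hw (funext fun i => (mul_eq_zero.mp (key i)).resolve_left (sub_ne_zero.mpr htr))
    have hp := pow_char p htr
    have hord : orderOf A = orderOf x := by
      rw [hA, MulEquiv.orderOf_eq, ← Subgroup.orderOf_coe]
    have h3 := Nat.eq_one_of_dvd_coprimes (hord ▸ hco) dvd_rfl (orderOf_dvd_of_pow_eq_one hp)
    rw [hord, orderOf_eq_one_iff] at h3
    exact hx1 h3
  · by_cases hU1 : U = ⊥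
    · exact Or.inl hU1
    right
    obtain ⟨w, hw, hw1⟩ := (Subgroup.bot_or_exists_ne_one U).resolve_left hU1
    obtain ⟨hwV, hw0⟩ := c.mem_fixed_iff.mp (hU hw)
    have hwc : c.co hwV 0 ≠ 0 := fun h0 => hw1 (c.co_inj hwV V.one_mem (by
      rw [show c.co V.one_mem = 0 from map_zero c.ψ]; funext i; fin_cases i <;> simp [h0, hw0]))
    refine le_antisymm hU fun y hy => ?_
    obtain ⟨hyV, hy0⟩ := c.mem_fixed_iff.mp hy
    by_cases hyc : c.co hyV 0 = 0
    · rw [c.co_inj hyV V.one_mem (by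
        rw [show c.co V.one_mem = 0 from map_zero c.ψ]; funext i; fin_cases i <;> simp [hyc, hy0])]
      exact U.one_mem
    obtain ⟨l, hl, hlN⟩ := hdiag T c (Units.mk0 _ (div_ne_zero hyc hwc))
    have hm := c.mem l ⟨w, hwV⟩
    have h2 := c.co_conj l hwV hm
    rw [hl] at h2
    have he : y = (l : G) * w * (l : G)⁻¹ := c.co_inj hyV hm (by
      rw [h2]; funext i; fin_cases i <;> simp [Matrix.mulVec, dotProduct, Fin.sum_univ_two, d, hy0, hw0] <;> field_simp)
    rw [he]
    exact (Subgroup.mem_normalizer_iff.mp (hN ⟨l.2, hlN⟩) w).mp hw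
  · by_cases hU1 : U = C
    · exact Or.inl hU1
    right
    obtain ⟨w, hw, hwn⟩ : ∃ w ∈ U, w ∉ C := by
      by_contra h
      push Not at h
      exact hU1 (le_antisymm h hU)
    have hwV := hUV hw
    have hw1 : c.co hwV 1 ≠ 0 := fun h0 => hwn (c.mem_fixed_iff.mpr ⟨hwV, h0⟩)
    refine le_antisymm hUV fun y hy => ?_
    by_cases hy1 : c.co hy 1 = 0
    · exact hU (c.mem_fixed_iff.mpr ⟨hy, hy1⟩)
    obtain ⟨l, hl, hlN⟩ := hdiag T c (Units.mk0 _ (div_ne_zero hw1 hy1))
    have hm := c.mem l ⟨w, hwV⟩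
    have h2 := c.co_conj l hwV hm
    rw [hl] at h2
    have hU' : (l : G) * w * (l : G)⁻¹ ∈ U := (Subgroup.mem_normalizer_iff.mp (hN ⟨l.2, hlN⟩) w).mp hw
    have hC' : y * ((l : G) * w * (l : G)⁻¹)⁻¹ ∈ C := c.mem_fixed_iff.mpr ⟨mul_mem hy (inv_mem hm), by
      rw [c.co_mul hy (inv_mem hm), c.co_inv hm, h2]
      simp [Matrix.mulVec, dotProduct, Fin.sum_univ_two, d]
      field_simp
      simp⟩
    have := mul_mem (hU hC') hU'
    rwa [inv_mul_cancel_right] at this

end Cfsg.Agent.S2780
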