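import Cfsg.Statements.S2781
import Cfsg.Agent.Lib.LocAverage56
import Cfsg.Agent.Lib.LocPReduced56

set_option autoImplicit false
open Cfsg

set_option linter.all false

namespace Cfsg.Agent.S2781
open Subgroup Cfsg.Agent.LocGroup56 Cfsg.Agent.LocCoprime56 Cfsg.Agent.LocPReduced56
open scoped commutatorElement

/-- Let H act faithfully by conjugation on the elementary abelian p-subgroup V of a finite group, let O^p(H) be the subgroup of H generated by its elements of order prime to p, and T a Sylow p-subgroup of O^p(H). If V is generated by the H-conjugates of C_V(T) (V is the smallest H-invariant subgroup containing C_V(T)), then V = [V, O^p(H)]·C_V(O^p(H)). -/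
theorem result {G : Type*} [Group G] [Finite G] {p : ℕ} [Fact p.Prime] (V H : Subgroup G) (hV : Cfsg.IsElementaryAbelian p V) (hHV : H ≤ Subgroup.normalizer (V : Set G)) (hf : H ⊓ Subgroup.centralizer (V : Set G) = ⊥) (R : Subgroup G) (hR : R = (Cfsg.pResidual p ↥H).map H.subtype) (S : Sylow p ↥R) (T : Subgroup G) (hT : T = ((S : Subgroup ↥R).map R.subtype)) (hgen : ∀ W : Subgroup G, H ≤ Subgroup.normalizer (W : Set G) → (V ⊓ Subgroup.centralizer ((T : Subgroup G) : Set G)) ≤ W → V ≤ W) : ⁅V, R⁆ ⊔ (V ⊓ Subgroup.centralizer ((R : Subgroup G) : Set G)) = V := by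
  subst hT
  set T : Subgroup G := (S : Subgroup ↥R).map R.subtype with hTdef
  have hRH : R ≤ H := hR ▸ Subgroup.map_subtype_le _
  haveI : IsMulCommutative ↥V := hV.1
  have hidx : (T.relIndex R).Coprime p := by
    have e : T.subgroupOf R = (S : Subgroup ↥R) := by
      rw [hTdef, Subgroup.subgroupOf, Subgroup.comap_map_eq_self_of_injective R.subtype_injective]
    rw [Subgroup.relIndex, e]
    exact ((Fact.out : p.Prime).coprime_iff_not_dvd.mpr S.not_dvd_index).symm
  have hRn : H ≤ Subgroup.normalizer (R : Set G) := by
    rw [hR]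
    exact le_normalizer_trans_map fun g hg => by
      have h3 := Cfsg.Agent.TransferPResidual.map_pResidual_equiv (p := p) (MulAut.conj (⟨g, hg⟩ : H))
      rw [Subgroup.map_map]
      conv_rhs => rw [← h3, Subgroup.map_map]
      rfl
  set W : Subgroup G := ⁅V, R⁆ ⊔ (V ⊓ Subgroup.centralizer (R : Set G)) with hW
  have hWV : W ≤ V := sup_le (Subgroup.commutator_le.mpr fun v hv a ha => by
    have := mul_mem hv (conj_mem_of_mem_normalizer (hHV (hRH ha)) (inv_mem hv))
    rw [commutatorElement_def]
    simpa only [mul_assoc] using this) inf_le_left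
  have hWn : H ≤ Subgroup.normalizer (W : Set G) := le_normalizer_trans_map fun g hg => by
    have h1 : V.map (MulAut.conj g).toMonoidHom = V :=
      Subgroup.mem_normalizer_iff_map_conj_eq.mp (hHV hg)
    have h2 : R.map (MulAut.conj g).toMonoidHom = R :=
      Subgroup.mem_normalizer_iff_map_conj_eq.mp (hRn hg)
    have h3 : (Subgroup.centralizer (R : Set G)).map (MulAut.conj g).toMonoidHom =
        Subgroup.centralizer (R : Set G) :=
      Subgroup.mem_normalizer_iff_map_conj_eq.mp (le_normalizer_of_conj (fun k hk x hx => by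
        refine Subgroup.mem_centralizer_iff.mpr fun r hr => ?_
        have hr' := conj_mem_of_mem_normalizer (inv_mem (hRn hk)) hr
        rw [inv_inv] at hr'
        have h4 : Commute (k⁻¹ * r * k) x := Subgroup.mem_centralizer_iff.mp hx _ hr'
        have h5 := h4.map (MulAut.conj k).toMonoidHom
        simpa [mul_assoc, Commute, SemiconjBy] using h5) hg)
    rw [hW, Subgroup.map_sup, Subgroup.map_commutator, Subgroup.map_inf _ _ _ (MulAut.conj g).injective,
      h1, h2, h3]
  refine le_antisymm hWV (hgen W hWn fun v hv => ?_)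
  exact Cfsg.Agent.LocAverage56.mem_commutator_sup_fixed V R T
    (isPGroup_of_elementary hV) hidx hv (hRH.trans hHV)

end Cfsg.Agent.S2781
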