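import Cfsg.Statements.S2787
import Cfsg.Agent.Lib.H74Quadratic
import Cfsg.Agent.Lib.H74ReeTwo

set_option autoImplicit false
open Cfsg

namespace Cfsg.Agent.S2787

open scoped commutatorElement

theorem core {G : Type*} [Group G] [Finite G] {p : ℕ} [Fact p.Prime] (V H : Subgroup G)
    (hV : Cfsg.IsElementaryAbelian p V) (hHV : H ≤ Subgroup.normalizer (V : Set G))
    (hirr : ∀ U : Subgroup G, U ≤ V → H ≤ Subgroup.normalizer (U : Set G) → U = ⊥ ∨ U = V)
    (hnt : ¬ H ≤ Subgroup.centralizer (V : Set G))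
    [hn : ((Subgroup.centralizer (V : Set G)).subgroupOf H).Normal] :
    Cfsg.pCore p (↥H ⧸ (Subgroup.centralizer (V : Set G)).subgroupOf H) = ⊥ := by
  classical
  set C := (Subgroup.centralizer (V : Set G)).subgroupOf H with hC
  set N := Cfsg.pCore p (↥H ⧸ C) with hN
  haveI : N.Normal := HallCore.pCore_normal p _
  let θ : ↥H →* MulAut V := V.normalizerMonoidHom.comp (Subgroup.inclusion hHV)
  have hθ : ∀ (h : ↥H) (v : V), (θ h v : G) = (h : G) * v * (h : G)⁻¹ := fun h v => rfl
  have hker : C ≤ θ.ker := by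
    intro g hg
    refine MulEquiv.ext fun v => Subtype.ext ?_
    show (θ g v : G) = v
    have h1 : (v : G) * (g : G) = (g : G) * (v : G) :=
      (hg : (g : G) ∈ Subgroup.centralizer (V : Set G)) v v.2
    rw [hθ, ← h1, mul_inv_cancel_right]
  let θ' := QuotientGroup.lift C θ hker
  set M : Subgroup G := (N.comap (QuotientGroup.mk' C)).map H.subtype with hM
  have hMn : ∀ h ∈ H, h ∈ Subgroup.normalizer (M : Set G) := fun h hh =>
    Subgroup.le_normalizer_map H.subtype ⟨⟨h, hh⟩, by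
      rw [Subgroup.normalizer_eq_top]; trivial, rfl⟩
  set U := V ⊓ Subgroup.centralizer (M : Set G) with hU
  have hUn : H ≤ Subgroup.normalizer (U : Set G) := by
    intro h hh
    have key : ∀ k : G, k ∈ H → ∀ u ∈ U, k * u * k⁻¹ ∈ U := by
      intro k hk u hu
      refine ⟨(Subgroup.mem_normalizer_iff.1 (hHV hk) u).1 hu.1, fun x hx => ?_⟩
      have hx' : k⁻¹ * x * k ∈ M := (Subgroup.mem_normalizer_iff''.1 (hMn k hk) x).1 hx
      have h1 : k⁻¹ * x * k * u = u * (k⁻¹ * x * k) := hu.2 _ hx'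
      calc x * (k * u * k⁻¹) = k * ((k⁻¹ * x * k) * u) * k⁻¹ := by group
        _ = k * (u * (k⁻¹ * x * k)) * k⁻¹ := by rw [h1]
        _ = k * u * k⁻¹ * x := by group
    refine Subgroup.mem_normalizer_iff.2 fun u => ⟨key h hh u, fun hu => ?_⟩
    have := key h⁻¹ (inv_mem hh) _ hu
    rwa [inv_inv, show h⁻¹ * (h * u * h⁻¹) * h = u by group] at this
  rcases hirr U inf_le_left hUn with h0 | h0
  · exfalso
    letI : MulAction N ↥V := MulAction.compHom ↥V (θ'.comp N.subtype)
    obtain ⟨-, hp⟩ := (Offenders.ea_iff V).1 hV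
    have hVp : IsPGroup p V := fun x => ⟨1, Subtype.ext (by
      rw [pow_one, SubmonoidClass.coe_pow]; exact hp _ x.2)⟩
    have hV1 : p ∣ Nat.card V := by
      obtain ⟨k, hk⟩ := hVp.exists_card_eq
      rcases Nat.eq_zero_or_pos k with rfl | hk0
      · exfalso
        rw [pow_zero, Subgroup.card_eq_one] at hk
        exact hnt fun h _ => by
          rw [hk]; intro v hv; rw [SetLike.mem_coe, Subgroup.mem_bot] at hv; simp [hv]
      · rw [hk]; exact dvd_pow_self p hk0.ne'
    have h1 : (1 : V) ∈ MulAction.fixedPoints N ↥V := fun n => map_one (θ' n.1)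
    obtain ⟨b, hb, hb1⟩ :=
      (HallCore.isPGroup_pCore p (↥H ⧸ C)).exists_fixed_point_of_prime_dvd_card_of_fixed_point
        ↥V hV1 h1
    have hbU : (b : G) ∈ U := by
      refine ⟨b.2, ?_⟩
      rintro _ ⟨h, hh, rfl⟩
      have h2 : θ h b = b := hb ⟨_, hh⟩
      have h3 := congrArg Subtype.val h2
      rw [hθ] at h3
      exact mul_inv_eq_iff_eq_mul.1 h3
    rw [h0, Subgroup.mem_bot] at hbU
    exact hb1 (Subtype.ext hbU.symm)
  · refine (Subgroup.eq_bot_iff_forall _).2 fun x hx => ?_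
    obtain ⟨h, rfl⟩ := QuotientGroup.mk_surjective x
    rw [QuotientGroup.eq_one_iff]
    intro v hv
    rw [← h0] at hv
    exact ((hv.2 (h : G)) ⟨h, hx, rfl⟩).symm

/-- Let p be a prime and let H act by conjugation on the elementary abelian p-subgroup V of a finite group, irreducibly (no H-invariant subgroups of V other than 1 and V) and nontrivially, and suppose H/C_H(V) is isomorphic to PSL₂(F) for a field F with p^n elements, p^n odd, or p = 3 and H/C_H(V) is isomorphic to a Ree group ²G₂(3^(2m+1)), m ≥ 1. Then no subgroup A of H acting nontrivially on V acts quadratically: [V, A, A] = 1 forces [V, A] = 1. -/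
theorem result {G : Type*} [Group G] [Finite G] {p : ℕ} [Fact p.Prime] (V H : Subgroup G) (hV : Cfsg.IsElementaryAbelian p V) (hHV : H ≤ Subgroup.normalizer (V : Set G)) (hirr : ∀ U : Subgroup G, U ≤ V → H ≤ Subgroup.normalizer (U : Set G) → U = ⊥ ∨ U = V) (hnt : ¬ H ≤ Subgroup.centralizer (V : Set G)) [hn : ((Subgroup.centralizer (V : Set G)).subgroupOf H).Normal] (hq : (∃ (F : Type) (_ : Field F) (_ : Fintype F) (n : ℕ), Fintype.card F = p ^ n ∧ Odd (Fintype.card F) ∧ Nonempty (↥H ⧸ (Subgroup.centralizer (V : Set G)).subgroupOf H ≃* Matrix.ProjectiveSpecialLinearGroup (Fin 2) F)) ∨ (p = 3 ∧ Cfsg.Lie.IsoRee (↥H ⧸ (Subgroup.centralizer (V : Set G)).subgroupOf H))) (A : Subgroup G) (hA : A ≤ H) (hquad : ⁅⁅V, A⁆, A⁆ = ⊥) : ⁅V, A⁆ = ⊥ := by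
  classical
  set C := (Subgroup.centralizer (V : Set G)).subgroupOf H with hC
  obtain ⟨hc, hp⟩ := (Offenders.ea_iff V).1 hV
  letI instV : CommGroup V :=
    { (inferInstance : Group V) with mul_comm := fun a b => Subtype.ext (hc a a.2 b b.2) }
  haveI instM : Module (ZMod p) (Additive V) :=
    AddCommGroup.zmodModule (G := Additive V) fun x => by
      apply Additive.toMul.injective
      exact Subtype.ext (by rw [toMul_nsmul, SubmonoidClass.coe_pow]; exact hp _ x.toMul.2)
  let θ : ↥H →* MulAut V := V.normalizerMonoidHom.comp (Subgroup.inclusion hHV)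
  have hθ : ∀ (h : ↥H) (v : V), (θ h v : G) = (h : G) * v * (h : G)⁻¹ := fun h v => rfl
  have hker : C ≤ θ.ker := by
    intro g hg
    refine MulEquiv.ext fun v => Subtype.ext ?_
    show (θ g v : G) = v
    have h1 : (v : G) * (g : G) = (g : G) * (v : G) :=
      (hg : (g : G) ∈ Subgroup.centralizer (V : Set G)) v v.2
    rw [hθ, ← h1, mul_inv_cancel_right]
  obtain ⟨ρ, hρ'⟩ := QuadraticGroup.rep_aux (p := p) (QuotientGroup.lift C θ hker)
  have hρ : ∀ (g : ↥H) (v : Additive V),
      ((ρ g v).toMul : G) = (g : G) * (v.toMul : G) * (g : G)⁻¹ := fun g v => by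
    rw [hρ']; exact hθ g _
  have hinj : Function.Injective ρ := by
    rw [injective_iff_map_eq_one]
    intro x hx
    obtain ⟨g, rfl⟩ := QuotientGroup.mk_surjective x
    rw [QuotientGroup.eq_one_iff]
    intro v hv
    have h' := hρ g (Additive.ofMul ⟨v, hv⟩)
    rw [hx] at h'
    have h'' : v = (g : G) * v * (g : G)⁻¹ := h'
    exact mul_inv_eq_iff_eq_mul.1 h''.symm |>.symm
  rw [Subgroup.commutator_eq_bot_iff_le_centralizer]
  suffices hmain : ∀ a : ↥H, (a : G) ∈ A → a ∈ C by
    intro v hv a ha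
    exact ((hmain ⟨a, hA ha⟩ ha : a ∈ Subgroup.centralizer (V : Set G)) v hv).symm
  intro a ha
  have hz : Subgroup.zpowers (a : G) ≤ A := Subgroup.zpowers_le.2 ha
  have hq0 : ⁅⁅V, Subgroup.zpowers (a : G)⁆, Subgroup.zpowers (a : G)⁆ = ⊥ :=
    le_bot_iff.1 ((Subgroup.commutator_mono (Subgroup.commutator_mono le_rfl hz) hz).trans
      hquad.le)
  have hquad' : (ρ a - 1) * (ρ a - 1) = 0 := by
    refine LinearMap.ext fun v => ?_
    set z := (ρ a - 1) v with hzd
    have hzG : (z.toMul : G) = ⁅(a : G), (v.toMul : G)⁆ := by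
      rw [hzd, LinearMap.sub_apply, Module.End.one_apply, sub_eq_add_neg, toMul_add, toMul_neg,
        Subgroup.coe_mul, Subgroup.coe_inv, hρ, commutatorElement_def]
    have hmem : (z.toMul : G) ∈ ⁅V, Subgroup.zpowers (a : G)⁆ := by
      rw [hzG, Subgroup.commutator_comm]
      exact Subgroup.commutator_mem_commutator (Subgroup.mem_zpowers _) v.toMul.2
    have hcz := Subgroup.commutator_eq_bot_iff_le_centralizer.1 hq0 hmem (a : G)
      (Subgroup.mem_zpowers _)
    show (ρ a - 1) z = 0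
    rw [LinearMap.sub_apply, Module.End.one_apply, sub_eq_zero]
    apply Additive.toMul.injective
    exact Subtype.ext (by rw [hρ, hcz, mul_inv_cancel_right])
  rw [← QuotientGroup.eq_one_iff]
  rcases hq with ⟨F, _, _, n, hF, hodd, ⟨e⟩⟩ | ⟨rfl, K, _, _, m, -, hK, ⟨e⟩⟩
  · exact H74Quadratic.psl_quad ρ hinj hF hodd e hquad'
  · by_contra ha1
    haveI : Fact (Nat.Prime 2) := ⟨Nat.prime_two⟩
    haveI : CharP K 3 := charP_of_card_eq_prime_pow (f := 2 * m + 1) hK
    obtain ⟨X, hX⟩ := ReeInstance17.exists_ctx hK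
    obtain ⟨T⟩ := (inferInstance : Nonempty (Sylow 2 (↥H ⧸ C)))
    refine QuadraticMain.sylow_two_nonabelian ρ (by norm_num) hinj hquad'
      (fun h => ha1 (by
        exact Subgroup.mem_bot.1 ((SetLike.ext_iff.1 (core V H hV hHV hirr hnt) _).1 h))) T ?_
    obtain ⟨e'⟩ : Nonempty ((↥H ⧸ C) ≃* ↥X.G1) := by
      rw [ReeInstance17.Ctx.G1, hX]; exact ⟨e⟩
    exact QuadraticMain.abelian_sylow_of_surjective (f := e'.symm.toMonoidHom) e'.symm.surjective
      (fun S => H74ReeTwo.sylow_abelian X hK S) T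

end Cfsg.Agent.S2787
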