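import Cfsg.Statements.S2791
import Cfsg.Agent.Lib.TransferAlperin
import Cfsg.Agent.Lib.LocCoprime56

set_option autoImplicit false
open Cfsg

set_option linter.all false

namespace Cfsg.Agent.S2791


open Subgroup Cfsg.Agent.LocGroup56 Cfsg.Agent.LocCoprime56 Cfsg.Agent.TransferAlperin
open scoped commutatorElement Pointwise

variable {G : Type*} [Group G]

/-- The elements of `N(T)` centralizing both `T ⊓ A` and `T / (T ⊓ A)`. -/
def chainStab (T A : Subgroup G) : Subgroup G where
  carrier := {n | n ∈ normalizer (T : Set G) ∧ (∀ x ∈ T ⊓ A, Commute n x) ∧ ∀ x ∈ T, ⁅x, n⁆ ∈ T ⊓ A}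
  one_mem' := ⟨one_mem _, fun x _ => Commute.one_left x, fun x _ => by simp⟩
  mul_mem' := by
    rintro a b ⟨ha, ha1, ha2⟩ ⟨hb, hb1, hb2⟩
    refine ⟨mul_mem ha hb, fun x hx => (ha1 x hx).mul_left (hb1 x hx), fun x hx => ?_⟩
    have e : ⁅x, a * b⁆ = ⁅x, a⁆ * (a * ⁅x, b⁆ * a⁻¹) := by
      simp only [commutatorElement_def]; group
    rw [e, (ha1 _ (hb2 x hx)).eq, mul_inv_cancel_right]
    exact Subgroup.mul_mem _ (ha2 x hx) (hb2 x hx)
  inv_mem' := by
    rintro a ⟨ha, ha1, ha2⟩
    refine ⟨inv_mem ha, fun x hx => (ha1 x hx).inv_left, fun x hx => ?_⟩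
    have h := Subgroup.inv_mem _ (ha2 x hx)
    have e : ⁅x, a⁻¹⁆ = a⁻¹ * ⁅x, a⁆⁻¹ * a := by
      simp only [commutatorElement_def]; group
    rw [e, ((ha1 _ h).inv_left).eq, inv_mul_cancel_right]
    exact h

theorem mem_chainStab {T A : Subgroup G} {n : G} : n ∈ chainStab T A ↔
    n ∈ normalizer (T : Set G) ∧ (∀ x ∈ T ⊓ A, Commute n x) ∧ ∀ x ∈ T, ⁅x, n⁆ ∈ T ⊓ A := Iff.rfl

theorem main [Finite G] {p : ℕ} [Fact p.Prime] (S : Sylow p G) (A : Subgroup G)
    (hA : IsMulCommutative ↥A) (hsc : Cfsg.IsStronglyClosed A (S : Subgroup G)) :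
    ∀ T g, T ≤ (S : Subgroup G) → cj g T ≤ (S : Subgroup G) →
      ∃ n ∈ normalizer (A : Set G), ∀ x ∈ T, g * x * g⁻¹ = n * x * n⁻¹ := by
  let N := normalizer (A : Set G)
  have hSN : (S : Subgroup G) ≤ normalizer (A : Set G) := le_normalizer_of_conj fun s hs a ha =>
    hsc.2 a ha s (mul_mem (mul_mem hs (hsc.1 ha)) (inv_mem hs))
  refine alperin_induction_centric S
    (fun T g => ∃ n ∈ normalizer (A : Set G), ∀ x ∈ T, g * x * g⁻¹ = n * x * n⁻¹) ?_ ?_ ?_ ?_ ?_
  · rintro T g h - - - ⟨n₁, hn₁, h₁⟩ ⟨n₂, hn₂, h₂⟩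
    refine ⟨n₂ * n₁, mul_mem hn₂ hn₁, fun x hx => ?_⟩
    calc h * g * x * (h * g)⁻¹ = h * (g * x * g⁻¹) * h⁻¹ := by group
      _ = n₂ * (g * x * g⁻¹) * n₂⁻¹ := h₂ _ (conj_mem_cj hx)
      _ = n₂ * n₁ * x * (n₂ * n₁)⁻¹ := by rw [h₁ x hx]; group
  · rintro T g - - ⟨n, hn, h⟩
    refine ⟨n⁻¹, inv_mem hn, fun y hy => ?_⟩
    have h2 := h _ (mem_cj.mp hy)
    have e : g⁻¹ * y * g = n⁻¹ * y * n := by
      calc g⁻¹ * y * g = n⁻¹ * (n * (g⁻¹ * y * g) * n⁻¹) * n := by group
        _ = n⁻¹ * (g * (g⁻¹ * y * g) * g⁻¹) * n := by rw [h2]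
        _ = n⁻¹ * y * n := by group
    simpa only [inv_inv] using e
  · rintro R T g hRT - - ⟨n, hn, h⟩
    exact ⟨n, hn, fun x hx => h x (hRT hx)⟩
  · intro T _ c hc
    exact ⟨1, one_mem _, fun x hx => by
      rw [← Subgroup.mem_centralizer_iff.mp hc x hx]; group⟩
  intro T hT hfn _ _ hbig c hc _
  by_cases hAT : A ≤ T
  · refine ⟨c, ?_, fun x _ => rfl⟩
    have hmap : A.map (MulAut.conj c).toMonoidHom = A := by
      refine eq_of_le_of_card_ge ?_ ?_
      · rintro _ ⟨a, ha, rfl⟩
        exact hsc.2 a ha c (hT (conj_mem_of_mem_normalizer hc (hAT ha)))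
      · rw [Subgroup.card_map_of_injective (MulAut.conj c).injective]
    exact Subgroup.mem_normalizer_iff_map_conj_eq.mpr hmap
  · set D := chainStab T A with hD
    set Q := (S : Subgroup G) ⊓ D with hQ
    have hBn : ∀ m ∈ normalizer (T : Set G), ∀ x ∈ T ⊓ A, m * x * m⁻¹ ∈ T ⊓ A := fun m hm x hx =>
      ⟨conj_mem_of_mem_normalizer hm hx.1,
        hsc.2 x hx.2 m (hT (conj_mem_of_mem_normalizer hm hx.1))⟩
    have hDn : ∀ m ∈ normalizer (T : Set G), ∀ d ∈ D, m * d * m⁻¹ ∈ D := by
      rintro m hm d ⟨hd, hd1, hd2⟩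
      refine ⟨mul_mem (mul_mem hm hd) (inv_mem hm), fun x hx => ?_, fun x hx => ?_⟩
      · have h1 := hBn m⁻¹ (inv_mem hm) x hx
        rw [inv_inv] at h1
        have h2 := (hd1 _ h1).map (MulAut.conj m).toMonoidHom
        simpa [mul_assoc] using h2
      · have hx' : m⁻¹ * x * m ∈ T := by
          simpa using conj_mem_of_mem_normalizer (inv_mem hm) hx
        have e : ⁅x, m * d * m⁻¹⁆ = m * ⁅m⁻¹ * x * m, d⁆ * m⁻¹ := by
          simp only [commutatorElement_def]; group
        rw [e]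
        exact hBn m hm _ (hd2 _ hx')
    have hcomm : ∀ a ∈ A, ∀ b ∈ A, Commute a b := fun a ha b hb =>
      congrArg Subtype.val (hA.is_comm.comm (⟨a, ha⟩ : A) ⟨b, hb⟩)
    have hnot : ¬ Q ≤ T := by
      intro hle
      have hlt : T < T ⊔ A := lt_of_le_of_ne le_sup_left fun e => hAT (e ▸ le_sup_right)
      have hcard := card_lt_card_inf_normalizer
        (S.isPGroup'.to_le (sup_le hT hsc.1)) hlt
      have : (T ⊔ A) ⊓ normalizer (T : Set G) ≤ T := by
        intro u hu
        obtain ⟨hu1, hu2⟩ := Subgroup.mem_inf.mp hu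
        have : u ∈ (T : Set G) * (A : Set G) := by
          rw [← Subgroup.coe_mul_of_left_le_normalizer_right T A (hT.trans hSN)]
          exact hu1
        obtain ⟨t, ht, a, ha, rfl⟩ := this
        have haN : a ∈ normalizer (T : Set G) := by
          simpa using mul_mem (inv_mem (Subgroup.le_normalizer ht)) hu2
        refine mul_mem ht (hle ⟨hsc.1 ha, haN, fun x hx => hcomm a ha x hx.2, fun x hx => ?_⟩)
        refine Subgroup.mem_inf.mpr ⟨?_, ?_⟩
        · have h1 := mul_mem hx (conj_mem_of_mem_normalizer haN (inv_mem hx))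
          rw [commutatorElement_def]
          simpa only [mul_assoc] using h1
        · have h1 := mul_mem (conj_mem_of_mem_normalizer (hSN (hT hx)) ha) (inv_mem ha)
          rw [commutatorElement_def]
          exact h1
      exact absurd (Subgroup.card_le_of_le this) (not_le.mpr hcard)
    have hQp : IsPGroup p ↥Q := S.isPGroup'.to_le inf_le_left
    have hmax : ∀ R : Subgroup G, R ≤ D → IsPGroup p ↥R → Nat.card R ≤ Nat.card Q := by
      intro R hR hRp
      obtain ⟨e, he, hle⟩ := hfn R (fun r hr => (hR hr).1) hRp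
      rw [← card_cj e R]
      refine Subgroup.card_le_of_le (le_inf hle ?_)
      rintro _ ⟨r, hr, rfl⟩
      exact hDn e he r (hR hr)
    have hB : cj c Q ≤ D := by
      rintro _ ⟨q, hq, rfl⟩
      exact hDn c hc q hq.2
    obtain ⟨d, hd, hle⟩ :=
      exists_cj_le_of_max hQp (isPGroup_cj hQp) inf_le_right hB hmax
    have hmQ : d * c ∈ normalizer (Q : Set G) :=
      mem_normalizer_of_cj_eq (eq_of_le_of_card_ge (by rw [cj_mul]; exact hle) (card_cj _ _).ge)
    have hmT : d * c ∈ normalizer (T : Set G) := mul_mem hd.1 hc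
    have hlt : T < T ⊔ Q := lt_of_le_of_ne le_sup_left fun e => hnot (e ▸ le_sup_right)
    have hWS : T ⊔ Q ≤ (S : Subgroup G) := sup_le hT inf_le_left
    have hmW : cj (d * c) (T ⊔ Q) = T ⊔ Q := by
      rw [cj, Subgroup.map_sup, ← cj, ← cj, cj_eq_self hmT, cj_eq_self hmQ]
    obtain ⟨n, hn, hnW⟩ := hbig (T ⊔ Q) (d * c) hWS (hmW.le.trans hWS)
      (Set.Finite.card_lt_card (Set.toFinite _) hlt)
    -- write `d` as a product of an element centralizing `T` and an element of `Q`
    have hcop : ∀ z ∈ D, (orderOf z).Coprime p → z ∈ Subgroup.centralizer (T : Set G) := by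
      intro z hz hzc
      let B : ℕ → Subgroup G := fun i => if i = 0 then ⊥ else if i = 1 then T ⊓ A else T
      have h := commute_of_chain (S.isPGroup'.to_le hT) hzc 2 B
        (fun i _ => by
          simp only [B]; split_ifs
          · exact bot_le
          · exact inf_le_left
          · exact le_rfl) rfl
        (fun i hi x hx => by
          rcases Nat.lt_succ_iff.mp hi |>.eq_or_lt with rfl | hi0
          · exact hz.2.2 x hx
          · obtain rfl : i = 0 := by omega
            have : ⁅x, z⁆ = 1 := commutatorElement_eq_one_iff_commute.mpr (hz.2.1 x hx).symm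
            rw [this]
            exact Subgroup.one_mem _) 2 le_rfl
      exact Subgroup.mem_centralizer_iff.mpr fun x hx => (h x hx).symm.eq
    obtain ⟨z, hz, t, ht, hdzt⟩ : ∃ z ∈ Subgroup.centralizer (T : Set G), ∃ t ∈ Q, d = z * t := by
      obtain ⟨R, hR⟩ := (hQp.comap_subtype (K := D)).exists_le_sylow
      have hRQ : (R : Subgroup D).map D.subtype = Q := by
        refine (eq_of_le_of_card_ge ?_ (hmax _ (map_subtype_le _) (R.isPGroup'.map _))).symm
        exact fun q hq => ⟨⟨q, hq.2⟩, hR (show (⟨q, hq.2⟩ : D) ∈ Q.subgroupOf D from hq), rfl⟩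
      haveI : ((Subgroup.centralizer (T : Set G)).subgroupOf D).Normal := by
        refine ⟨fun x hx g => Subgroup.mem_centralizer_iff.mpr fun y hy => ?_⟩
        have hy' := conj_mem_of_mem_normalizer (inv_mem g.2.1) hy
        have h2 : Commute ((g : G)⁻¹ * y * g) (x : G) := by
          have h0 := Subgroup.mem_centralizer_iff.mp hx _ hy'
          simp only [inv_inv] at h0
          exact h0
        have h3 := h2.map (MulAut.conj (g : G)).toMonoidHom
        simpa [mul_assoc, Commute, SemiconjBy] using h3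
      have hRes : Cfsg.pResidual p D ≤ (Subgroup.centralizer (T : Set G)).subgroupOf D :=
        Cfsg.Agent.TransferPResidual.pResidual_le_iff_coprime.mpr fun g hg =>
          hcop g g.2 (by rwa [orderOf_coe])
      have htop : (⟨d, hd⟩ : D) ∈
          (Subgroup.centralizer (T : Set G)).subgroupOf D ⊔ (R : Subgroup D) :=
        (sup_le le_sup_right (hRes.trans le_sup_left))
          ((Cfsg.Agent.TransferPResidual.sylow_sup_pResidual R) ▸ Subgroup.mem_top _)
      obtain ⟨z, hz, t, ht, e⟩ := Subgroup.mem_sup_of_normal_left.mp htop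
      exact ⟨z, hz, t, hRQ ▸ ⟨t, ht, rfl⟩, (congrArg Subtype.val e).symm⟩
    refine ⟨t⁻¹ * n, mul_mem (inv_mem (hSN ht.1)) hn, fun x hx => ?_⟩
    have h1 := hnW x (Subgroup.mem_sup_left hx)
    have h2 : Commute z ((d * c) * x * (d * c)⁻¹) :=
      (Subgroup.mem_centralizer_iff.mp hz _ (conj_mem_of_mem_normalizer hmT hx)).symm
    calc c * x * c⁻¹ = d⁻¹ * ((d * c) * x * (d * c)⁻¹) * d := by group
      _ = t⁻¹ * (z⁻¹ * ((d * c) * x * (d * c)⁻¹) * z) * t := by rw [hdzt]; group
      _ = t⁻¹ * ((d * c) * x * (d * c)⁻¹) * t := by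
        rw [mul_assoc z⁻¹, h2.symm.eq, inv_mul_cancel_left]
      _ = t⁻¹ * n * x * (t⁻¹ * n)⁻¹ := by rw [h1]; group

/-- Let S be a Sylow p-subgroup of the finite group G and A an abelian subgroup of S that is strongly closed in S with respect to G. Then A controls strong fusion in G: for some Sylow p-subgroup T containing A, whenever a subset of T is conjugated into T by an element of G, the same elementwise conjugation is induced by an element of N_G(A). -/
theorem result {G : Type*} [Group G] [Finite G] {p : ℕ} [Fact p.Prime] (S : Sylow p G) (A : Subgroup G) (hA : IsMulCommutative ↥A) (hsc : Cfsg.IsStronglyClosed A (S : Subgroup G)) : Cfsg.ControlsStrongFusion p A := by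
  refine ⟨S, hsc.1, fun X hX => ⟨hX, fun g hg => ?_⟩⟩
  obtain ⟨n, hn, h⟩ := main S A hA hsc (Subgroup.closure X) g ((Subgroup.closure_le _).mpr hX) (by
    rw [cj, MonoidHom.map_closure, Subgroup.closure_le]
    exact hg)
  exact ⟨n, hn, fun a ha => h a (Subgroup.subset_closure ha)⟩

end Cfsg.Agent.S2791
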