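import Cfsg.Statements.S2792
import Cfsg.Agent.Lib.WeakTransfer56
import Cfsg.Agent.Lib.PGroupsBasic

set_option autoImplicit false
open Cfsg

set_option linter.all false

namespace Cfsg.Agent.S2792


variable {p : ℕ} [hp : Fact p.Prime]

open Cfsg.Agent.WeakTransfer56 Finset

/-- `(-1)^(p-1-j) C(p-1,j) = 1` modulo `p`. -/
theorem signed_choose_eq_one {j : ℕ} (hj : j ≤ p - 1) :
    ((-1 : ZMod p) ^ (p - 1 - j) * ((p - 1).choose j : ZMod p)) = 1 := by
  have h1 : ∀ i ≤ p - 1, (((p - 1).choose i : ℕ) : ZMod p) = (-1) ^ i := by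
    intro i
    induction i with
    | zero => simp
    | succ i ih =>
      intro hi
      have h2 : ((p.choose (i + 1) : ℕ) : ZMod p) = 0 :=
        (ZMod.natCast_eq_zero_iff _ _).mpr (hp.out.dvd_choose_self (Nat.succ_ne_zero i) (by omega))
      have e : p.choose (i + 1) = (p - 1).choose i + (p - 1).choose (i + 1) := by
        conv_lhs => rw [← Nat.sub_add_cancel hp.out.one_le]
        exact Nat.choose_succ_succ' _ _
      rw [e] at h2
      rw [Nat.cast_add, ih (by omega)] at h2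
      rw [pow_succ, mul_neg_one]
      exact eq_neg_of_add_eq_zero_right h2
  rw [h1 j hj, ← pow_add, Nat.sub_add_cancel hj]
  exact ZMod.pow_card_sub_one_eq_one (neg_ne_zero.mpr one_ne_zero)

/-- Let S be a Sylow p-subgroup of the finite group G and W a subgroup of S weakly closed in S with respect to G. If S ∩ G' ≠ S ∩ (N_G(W))', then there are x ∈ S, z ∈ W and a maximal subgroup W₀ of W such that the iterated commutator [x, z; p−1] (with [x, z] = x⁻¹z⁻¹xz and [x, z; i+1] = [[x, z; i], z]) lies in W₀ but not in the Frattini subgroup of W₀; in particular [x, z; p−1] ≠ 1. -/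
theorem result {G : Type*} [Group G] [Finite G] {p : ℕ} [Fact p.Prime] (S : Sylow p G) (W : Subgroup G) (hW : Cfsg.IsWeaklyClosed W (S : Subgroup G)) (h : (S : Subgroup G) ⊓ commutator G ≠ (S : Subgroup G) ⊓ ⁅Subgroup.normalizer (W : Set G), Subgroup.normalizer (W : Set G)⁆) : ∃ x ∈ (S : Subgroup G), ∃ z ∈ W, ∃ W₀ : Subgroup ↥W, IsCoatom W₀ ∧ (fun y : G => y⁻¹ * z⁻¹ * y * z)^[p - 1] x ∈ W₀.map W.subtype ∧ (fun y : G => y⁻¹ * z⁻¹ * y * z)^[p - 1] x ∉ ((frattini ↥W₀).map W₀.subtype).map W.subtype := by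
  obtain ⟨S', π, z, x, χ, hS'S, hWS', hzW, hz, hN⟩ := exists_config S hW h
  have hp1 : p - 1 ≠ 0 := by have := (Fact.out : p.Prime).two_le; omega
  let F : ↥π.ker → ↥π.ker := fun u => u⁻¹ * MulAut.conjNormal z⁻¹ u
  let A : ℕ → ↥π.ker → ℕ → ZMod p := fun n u k =>
    Multiplicative.toAdd (χ (MulAut.conjNormal (z ^ k)⁻¹ (F^[n] u)))
  have hA : ∀ n k, A (n + 1) x k = A n x (k + 1) - A n x k := by
    intro n k
    simp only [A, Function.iterate_succ_apply', F]
    rw [map_mul, map_inv, map_mul, map_inv, toAdd_mul, toAdd_inv, neg_add_eq_sub,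
      ← MulAut.mul_apply, ← map_mul, ← mul_inv_rev, ← pow_succ']
  have hA2 : ∀ n, (fun k => A n x k) = (fwdDiff (1 : ℕ))^[n] (fun k => A 0 x k) := by
    intro n
    induction n with
    | zero => rfl
    | succ n ih => rw [Function.iterate_succ_apply', ← ih]; funext k; exact hA n k
  have hy : Multiplicative.toAdd (χ (F^[p - 1] x)) =
      Multiplicative.toAdd (∏ i : Fin p, χ (MulAut.conjNormal (z ^ (i : ℕ))⁻¹ x)) := by
    have h1 : Multiplicative.toAdd (χ (F^[p - 1] x)) = A (p - 1) x 0 := by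
      show Multiplicative.toAdd (χ _) = Multiplicative.toAdd (χ _)
      congr 2
      exact Subtype.ext (by rw [MulAut.conjNormal_apply]; simp)
    rw [h1, show A (p - 1) x 0 = (fun k => A (p - 1) x k) 0 from rfl, hA2, fwdDiff_iter_eq_sum_shift,
      Nat.sub_add_cancel (Fact.out : p.Prime).one_le, toAdd_prod, Finset.sum_range]
    refine Finset.sum_congr rfl fun i _ => ?_
    rw [zsmul_eq_mul]
    push_cast
    rw [signed_choose_eq_one (by have := i.2; omega), one_mul]
    simp [A]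
  have hG : ∀ n, (((F^[n] x : ↥π.ker) : ↥S') : G) = (fun y : G => y⁻¹ * (z : G)⁻¹ * y * z)^[n] ((x : ↥S') : G) := by
    intro n
    induction n with
    | zero => rfl
    | succ n ih =>
      rw [Function.iterate_succ_apply', Function.iterate_succ_apply', ← ih]
      simp [F, MulAut.conjNormal_apply, mul_assoc]
  have hyW : (((F^[p - 1] x : ↥π.ker) : ↥S') : G) ∈ W := by
    obtain ⟨m, hm⟩ := Nat.exists_eq_succ_of_ne_zero hp1
    rw [hm, Function.iterate_succ_apply']
    set u := (((F^[m] x : ↥π.ker) : ↥S') : G) with hu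
    have huS : u ∈ (S : Subgroup G) := hS'S (F^[m] x : ↥π.ker).1.2
    have hWu : W.map (MulAut.conj u⁻¹).toMonoidHom = W := by
      refine hW.2 _ ?_
      rintro _ ⟨w, hw, rfl⟩
      simpa using (S : Subgroup G).mul_mem ((S : Subgroup G).mul_mem ((S : Subgroup G).inv_mem huS) (hW.1 hw)) huS
    have h1 : u⁻¹ * (z : G)⁻¹ * u ∈ W := by
      have h2 : (MulAut.conj u⁻¹).toMonoidHom (z : G)⁻¹ ∈ W.map (MulAut.conj u⁻¹).toMonoidHom :=
        Subgroup.mem_map_of_mem _ (W.inv_mem hzW)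
      rw [hWu] at h2
      simpa using h2
    have e : (((F (F^[m] x) : ↥π.ker) : ↥S') : G) = u⁻¹ * (z : G)⁻¹ * u * (z : G) := by
      simp [F, hu, MulAut.conjNormal_apply, mul_assoc]
    rw [e]
    exact W.mul_mem h1 hzW
  let πW : ↥W →* Zp p := π.comp (Subgroup.inclusion hWS')
  have hπWz : πW ⟨(z : G), hzW⟩ = Multiplicative.ofAdd 1 := hz
  have hsurj : Function.Surjective πW := fun q =>
    haveI : NeZero p := ⟨(Fact.out : p.Prime).ne_zero⟩
    ⟨⟨(z : G), hzW⟩ ^ (Multiplicative.toAdd q).val, by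
      rw [map_pow, hπWz, ← ofAdd_nsmul, nsmul_one, ZMod.natCast_zmod_val, ofAdd_toAdd]⟩
  have hidx : πW.ker.index = p := by
    rw [Subgroup.index_ker, MonoidHom.range_eq_top.mpr hsurj, Subgroup.card_top,
      Nat.card_congr Multiplicative.toAdd, Nat.card_zmod]
  refine ⟨((x : ↥S') : G), hS'S (x : ↥S').2, (z : G), hzW, πW.ker,
    Cfsg.Agent.PGroupsBasic.isCoatom_of_index_eq hidx, ?_, ?_⟩
  · rw [← hG]
    exact ⟨⟨_, hyW⟩, (F^[p - 1] x : ↥π.ker).2, rfl⟩
  · rw [← hG]
    rintro ⟨w, ⟨v, hv, rfl⟩, he⟩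
    apply hN
    apply Multiplicative.toAdd.injective
    rw [← hy]
    let χ' : ↥πW.ker →* Zp p := χ.comp
      { toFun := fun u => ⟨Subgroup.inclusion hWS' (u : ↥W), u.2⟩
        map_one' := rfl
        map_mul' := fun _ _ => rfl }
    have hWp : IsPGroup p ↥πW.ker := (S.2.to_le hW.1).to_subgroup _
    have hfle : frattini ↥πW.ker ≤ χ'.ker := by
      refine Cfsg.Agent.PGroupsBasic.frattini_le_of_elementary_quotient (p := p)
        (Abelianization.commutator_subset_ker χ') fun u => ?_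
      rw [MonoidHom.mem_ker, map_pow]
      apply Multiplicative.toAdd.injective
      rw [toAdd_pow, toAdd_one, nsmul_eq_mul, ZMod.natCast_self, zero_mul]
    have h1 : χ' v = 1 := MonoidHom.mem_ker.mp (hfle hv)
    have h2 : (⟨Subgroup.inclusion hWS' (v : ↥W), v.2⟩ : ↥π.ker) = F^[p - 1] x :=
      Subtype.ext (Subtype.ext he)
    rw [← h2]
    exact congrArg Multiplicative.toAdd h1

end Cfsg.Agent.S2792
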