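import Cfsg.Statements.S2801
import Cfsg.Agent.Lib.LocPReduced56

set_option autoImplicit false
open Cfsg

set_option linter.all false

namespace Cfsg.Agent.S2801
open Subgroup Cfsg.Agent.LocGroup56 Cfsg.Agent.LocCoprime56 Cfsg.Agent.LocPReduced56

/-- Let L be a finite group and p a prime with C_L(O_p(L)) ≤ O_p(L). Then L has a unique largest p-reduced normal subgroup: some normal elementary abelian p-subgroup Y with O_p(L/C_L(Y)) = 1 contains every other such subgroup. -/
theorem result {L : Type*} [Group L] [Finite L] {p : ℕ} [Fact p.Prime] (hchar : Subgroup.centralizer (Cfsg.pCore p L : Set L) ≤ Cfsg.pCore p L) : ∃ Y : Subgroup L, (Cfsg.IsPReducedNormal p Y ∧ ∀ V : Subgroup L, Cfsg.IsPReducedNormal p V → V ≤ Y) := by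
  let 𝒱 := {V : Subgroup L | Cfsg.IsPReducedNormal p V}
  set Y : Subgroup L := Subgroup.closure (⋃ V ∈ 𝒱, (V : Set L)) with hYdef
  have hmax : ∀ V : Subgroup L, Cfsg.IsPReducedNormal p V → V ≤ Y := fun V hV x hx =>
    Subgroup.subset_closure (Set.mem_iUnion₂.mpr ⟨V, hV, hx⟩)
  refine ⟨Y, isPReducedNormal_intro ?_ ?_ ?_, hmax⟩
  · refine ⟨fun n hn g => ?_⟩
    induction hn using Subgroup.closure_induction with
    | mem x hx =>
      obtain ⟨V, hV, hxV⟩ := Set.mem_iUnion₂.mp hx
      exact hmax V hV (hV.1.conj_mem x hxV g)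
    | one => simpa using Subgroup.one_mem _
    | mul a b _ _ ha hb =>
      have := Subgroup.mul_mem _ ha hb
      simpa only [mul_assoc, inv_mul_cancel_left] using this
    | inv a _ ha =>
      have := Subgroup.inv_mem _ ha
      simpa only [mul_inv_rev, inv_inv, mul_assoc] using this
  · refine isElementaryAbelian_closure (inf_centralizer_comm (Cfsg.pCore p L)) ?_ ?_
    · intro x hx
      obtain ⟨V, hV, hxV⟩ := Set.mem_iUnion₂.mp hx
      exact le_center_pCore hV hxV
    · intro x hx
      obtain ⟨V, hV, hxV⟩ := Set.mem_iUnion₂.mp hx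
      exact hV.2.1.2 x hxV
  · intro D hD _ hpow d hd
    rw [hYdef, Subgroup.centralizer_closure, Subgroup.mem_centralizer_iff]
    intro x hx
    obtain ⟨V, hV, hxV⟩ := Set.mem_iUnion₂.mp hx
    refine (Subgroup.mem_centralizer_iff.mp (quotient_pGroup_le hV hD (fun g hg => ?_) hd)) x hxV
    obtain ⟨k, hk⟩ := hpow g hg
    exact ⟨k, Subgroup.centralizer_le (SetLike.coe_subset_coe.mpr (hmax V hV)) hk⟩

end Cfsg.Agent.S2801
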