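import Cfsg.Statements.S2802
import Cfsg.Agent.Lib.LocPReduced56

set_option autoImplicit false
open Cfsg

set_option linter.all false

namespace Cfsg.Agent.S2802
open Subgroup Cfsg.Agent.LocGroup56 Cfsg.Agent.LocCoprime56 Cfsg.Agent.LocPReduced56

/-- Let L be a finite group and p a prime with C_L(O_p(L)) ≤ O_p(L), T a Sylow p-subgroup of L and R a subgroup with T ≤ R. If X is a p-reduced normal subgroup of R (normal in R, elementary abelian, O_p(R/C_R(X)) = 1), then the normal closure of X in L is a p-reduced normal subgroup of L. -/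
theorem result {L : Type*} [Group L] [Finite L] {p : ℕ} [Fact p.Prime] (hchar : Subgroup.centralizer (Cfsg.pCore p L : Set L) ≤ Cfsg.pCore p L) (T : Sylow p L) (R : Subgroup L) (hTR : (T : Subgroup L) ≤ R) (X : Subgroup ↥R) (hX : Cfsg.IsPReducedNormal p X) : Cfsg.IsPReducedNormal p (Subgroup.normalClosure ((X.map R.subtype : Subgroup L) : Set L)) := by
  set X' : Subgroup L := X.map R.subtype with hX'
  set Y : Subgroup L := Subgroup.normalClosure (X' : Set L) with hY
  haveI hn : Y.Normal := Subgroup.normalClosure_normal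
  have hQR : Cfsg.pCore p L ≤ R := (pCore_le_sylow T).trans hTR
  have hcent : ∀ x ∈ X', ∀ q ∈ Cfsg.pCore p L, q * x = x * q := by
    rintro _ ⟨x, hx, rfl⟩ q hq
    have hq' : (⟨q, hQR hq⟩ : R) ∈ Subgroup.centralizer (X : Set R) := by
      refine pCore_le_centralizer hX (le_pCore ((Cfsg.pCore_normal p L).subgroupOf R)
        ((pCore_isPGroup p L).comap_of_injective _ R.subtype_injective) ?_)
      exact hq
    exact congrArg Subtype.val (Subgroup.mem_centralizer_iff.mp hq' x hx).symm
  haveI hZn : (Cfsg.pCore p L ⊓ Subgroup.centralizer (Cfsg.pCore p L : Set L)).Normal :=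
    inferInstance
  have hXZ : (X' : Set L) ⊆
      (Cfsg.pCore p L ⊓ Subgroup.centralizer (Cfsg.pCore p L : Set L) : Subgroup L) := fun x hx => by
    have h := Subgroup.mem_centralizer_iff.mpr (hcent x hx)
    exact ⟨hchar h, h⟩
  refine isPReducedNormal_intro hn ?_ fun D hD _ hpow => ?_
  · refine isElementaryAbelian_closure (inf_centralizer_comm (Cfsg.pCore p L)) ?_ ?_
    · intro x hx
      obtain ⟨y, hy, hc⟩ := Group.mem_conjugatesOfSet_iff.mp hx
      obtain ⟨g, rfl⟩ := isConj_iff.mp hc
      exact hZn.conj_mem y (hXZ hy) g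
    · intro x hx
      obtain ⟨y, hy, hc⟩ := Group.mem_conjugatesOfSet_iff.mp hx
      obtain ⟨g, rfl⟩ := isConj_iff.mp hc
      obtain ⟨y', hy', rfl⟩ := hy
      have := congrArg Subtype.val (hX.2.1.2 y' hy')
      rw [conj_pow, show (R.subtype y') ^ p = 1 by simpa using this]
      simp
  · haveI := hD
    have hXY : (X' : Set L) ⊆ Y := Subgroup.subset_normalClosure
    have hDR : D.subgroupOf R ≤ Subgroup.centralizer (X : Set R) :=
      quotient_pGroup_le hX (hD.subgroupOf R) fun g hg => by
        obtain ⟨k, hk⟩ := hpow g hg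
        refine ⟨k, Subgroup.mem_centralizer_iff.mpr fun x hx => Subtype.ext ?_⟩
        simpa using Subgroup.mem_centralizer_iff.mp hk x (hXY ⟨x, hx, rfl⟩)
    have hDX : D ≤ Subgroup.centralizer (X' : Set L) := by
      refine le_of_sylow_of_coprime T (fun g hg => ?_) (fun g hg hgc => ?_)
      · refine Subgroup.mem_centralizer_iff.mpr ?_
        rintro _ ⟨x, hx, rfl⟩
        exact congrArg Subtype.val
          (Subgroup.mem_centralizer_iff.mp (hDR (x := ⟨g, hTR hg.1⟩) hg.2) x hx)
      · obtain ⟨k, hk⟩ := hpow g hg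
        exact Subgroup.centralizer_le hXY (mem_of_pow_mem hgc hk)
    haveI : (Subgroup.centralizer (D : Set L)).Normal := inferInstance
    exact Subgroup.le_centralizer_iff.mp
      (Subgroup.normalClosure_le_normal (Subgroup.le_centralizer_iff.mp hDX))

end Cfsg.Agent.S2802
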