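import Cfsg.Statements.S2803
import Cfsg.Agent.Lib.LocPReduced56
import Cfsg.Agent.S2802

set_option autoImplicit false
open Cfsg

set_option linter.all false

namespace Cfsg.Agent.S2803
open Subgroup Cfsg.Agent.LocGroup56 Cfsg.Agent.LocCoprime56 Cfsg.Agent.LocPReduced56

/-- Let L be a finite group and p a prime with C_L(O_p(L)) ≤ O_p(L), T a Sylow p-subgroup, and Y the largest p-reduced normal subgroup of L. Put T_L = C_T(Y) and L_T = N_L(T_L). Then L = L_T · C_L(Y) (elementwise), T_L = O_p(L_T), and Y = Ω₁(Z(T_L)). -/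
theorem result {L : Type*} [Group L] [Finite L] {p : ℕ} [Fact p.Prime] (hchar : Subgroup.centralizer (Cfsg.pCore p L : Set L) ≤ Cfsg.pCore p L) (T : Sylow p L) (Y : Subgroup L) (hY : (Cfsg.IsPReducedNormal p Y ∧ ∀ V : Subgroup L, Cfsg.IsPReducedNormal p V → V ≤ Y)) (TL : Subgroup L) (hTL : TL = (T : Subgroup L) ⊓ Subgroup.centralizer (Y : Set L)) : (∀ g : L, ∃ a ∈ Subgroup.normalizer (TL : Set L), ∃ c ∈ Subgroup.centralizer (Y : Set L), g = a * c) ∧ (Cfsg.pCore p ↥(Subgroup.normalizer (TL : Set L))).map (Subgroup.normalizer (TL : Set L)).subtype = TL ∧ Y = Cfsg.omegaOne p (TL ⊓ Subgroup.centralizer (TL : Set L)) := by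
  subst hTL
  set C : Subgroup L := Subgroup.centralizer (Y : Set L) with hC
  haveI hCn : C.Normal := centralizer_normal hY.1.1
  haveI hYn : Y.Normal := hY.1.1
  set TL : Subgroup L := (T : Subgroup L) ⊓ C with hTL
  set N : Subgroup L := Subgroup.normalizer (TL : Set L) with hN
  have hidx : ¬ p ∣ ((T : Subgroup L).subgroupOf C).index :=
    Cfsg.Agent.StrongPEmb.not_dvd_relIndex_sylow T C
  let P : Sylow p C := (T.isPGroup'.comap_of_injective _ C.subtype_injective).toSylow hidx
  have hP : (P : Subgroup C).map C.subtype = TL := by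
    show ((T : Subgroup L).subgroupOf C).map C.subtype = TL
    rw [Subgroup.subgroupOf_map_subtype]
  have hsup : N ⊔ C = ⊤ := by
    have := Sylow.normalizer_sup_eq_top P
    rwa [hP] at this
  have hfac : ∀ g : L, ∃ a ∈ N, ∃ c ∈ C, g = a * c := fun g => by
    obtain ⟨a, ha, c, hc, e⟩ := Subgroup.mem_sup_of_normal_right.mp (hsup ▸ Subgroup.mem_top g)
    exact ⟨a, ha, c, hc, e.symm⟩
  have hTN : (T : Subgroup L) ≤ N := le_normalizer_of_conj fun t ht x hx =>
    Subgroup.mem_inf.mpr ⟨mul_mem (mul_mem ht (Subgroup.mem_inf.mp hx).1) (inv_mem ht),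
      hCn.conj_mem x (Subgroup.mem_inf.mp hx).2 t⟩
  let f : ↥N →* L ⧸ C := (QuotientGroup.mk' C).comp N.subtype
  have hf : Function.Surjective f := fun x => by
    obtain ⟨g, rfl⟩ := QuotientGroup.mk_surjective x
    obtain ⟨a, ha, c, hc, rfl⟩ := hfac g
    refine ⟨⟨a, ha⟩, ?_⟩
    simp [f, (QuotientGroup.eq_one_iff c).mpr hc]
  have key : ∀ D : Subgroup N, D.Normal → (∀ d ∈ D, ∃ k : ℕ, (d : L) ^ p ^ k ∈ C) →
      ∀ d ∈ D, (d : L) ∈ C := by
    intro D hD hpow d hd
    obtain ⟨-, -, _, hcore⟩ := hY.1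
    have hPG : IsPGroup p ↥(D.map f) := fun x => by
      obtain ⟨g, hg, hgx⟩ := Subgroup.mem_map.mp x.2
      obtain ⟨k, hk⟩ := hpow g hg
      refine ⟨k, Subtype.ext ?_⟩
      rw [SubmonoidClass.coe_pow, ← hgx, ← map_pow]
      exact (QuotientGroup.eq_one_iff _).mpr hk
    have hle := le_pCore (hD.map f hf) hPG
    rw [hcore, le_bot_iff] at hle
    exact (QuotientGroup.eq_one_iff (d : L)).mp (Subgroup.mem_bot.mp (hle ▸ ⟨d, hd, rfl⟩))
  have hTLp : IsPGroup p ↥TL := T.isPGroup'.to_le inf_le_left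
  haveI hTLn : (TL.subgroupOf N).Normal :=
    ⟨fun x hx g => conj_mem_of_mem_normalizer (H := TL) (x := ((x : N) : L)) g.2 hx⟩
  have hYTL : Y ≤ TL := le_inf
    ((le_pCore hY.1.1 (isPGroup_of_elementary hY.1.2.1)).trans (pCore_le_sylow T))
    fun y hy => Subgroup.mem_centralizer_iff.mpr fun z hz => comm_of_elementary hY.1.2.1 hz hy
  refine ⟨hfac, ?_, ?_⟩
  · apply le_antisymm
    · rintro _ ⟨x, hx, rfl⟩
      refine ⟨?_, key _ (Cfsg.pCore_normal p N) (fun d hd => ?_) x hx⟩
      · have hT' : ¬ p ∣ ((T : Subgroup L).subgroupOf N).index :=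
          fun h => T.not_dvd_index (h.trans (Subgroup.relIndex_dvd_index_of_le hTN))
        exact pCore_le_sylow ((T.isPGroup'.comap_of_injective _ N.subtype_injective).toSylow hT') hx
      · obtain ⟨k, hk⟩ := pCore_isPGroup p N ⟨d, hd⟩
        refine ⟨k, ?_⟩
        rw [show (d : L) ^ p ^ k = 1 from by simpa [Subtype.ext_iff] using hk]
        exact one_mem C
    · intro x hx
      exact ⟨⟨x, Subgroup.le_normalizer hx⟩,
        le_pCore hTLn (hTLp.comap_of_injective _ N.subtype_injective) hx, rfl⟩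
  · set Z : Subgroup L := Cfsg.omegaOne p (TL ⊓ Subgroup.centralizer (TL : Set L)) with hZ
    have hle : Y ≤ Z := fun y hy => mem_omegaOne
      ⟨hYTL hy, Subgroup.mem_centralizer_iff.mpr fun z hz =>
        (Subgroup.mem_centralizer_iff.mp hz.2 y hy).symm⟩ (hY.1.2.1.2 y hy)
    refine le_antisymm hle ?_
    have hNn : N ≤ Subgroup.normalizer (Z : Set L) := le_normalizer_trans_map fun g hg => by
      rw [hZ, omegaOne_map p _ (MulAut.conj g).injective, map_inf_centralizer _
        (MulAut.conj g).injective,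
        show TL.map (MulAut.conj g).toMonoidHom = TL from Subgroup.mem_normalizer_iff_map_conj_eq.mp hg]
    have hZN : Z ≤ N := (omegaOne_le p _).trans (inf_le_left.trans Subgroup.le_normalizer)
    have hZel := omegaOne_elementary (p := p) (inf_centralizer_comm TL)
    let X : Subgroup N := Z.subgroupOf N
    haveI hXn : X.Normal := ⟨fun x hx g => conj_mem_of_mem_normalizer (H := Z) (x := ((x : N) : L)) (hNn g.2) hx⟩
    have hXel : Cfsg.IsElementaryAbelian p X :=
      ⟨⟨⟨fun a b => Subtype.ext (Subtype.ext (comm_of_elementary hZel a.2 b.2))⟩⟩,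
        fun a ha => Subtype.ext (by simpa using hZel.2 (a : L) ha)⟩
    have hred : Cfsg.IsPReducedNormal p X := by
      refine isPReducedNormal_intro hXn hXel fun D hD _ hpow => ?_
      haveI := hD
      have hDC : ∀ d ∈ D, (d : L) ∈ C := key D hD fun d hd => by
        obtain ⟨k, hk⟩ := hpow d hd
        refine ⟨k, Subgroup.mem_centralizer_iff.mpr fun y hy => ?_⟩
        have := Subgroup.mem_centralizer_iff.mp hk ⟨y, hZN (hle hy)⟩ (hle hy)
        simpa using congrArg Subtype.val this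
      have hT' : ¬ p ∣ ((T : Subgroup L).subgroupOf N).index :=
        fun h => T.not_dvd_index (h.trans (Subgroup.relIndex_dvd_index_of_le hTN))
      refine le_of_sylow_of_coprime
        ((T.isPGroup'.comap_of_injective _ N.subtype_injective).toSylow hT') (fun d hd => ?_)
        (fun d hd hdc => ?_)
      · refine Subgroup.mem_centralizer_iff.mpr fun x hx => Subtype.ext ?_
        exact (Subgroup.mem_centralizer_iff.mp ((omegaOne_le p _ hx).2) _ ⟨hd.1, hDC d hd.2⟩).symm
      · obtain ⟨k, hk⟩ := hpow d hd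
        exact mem_of_pow_mem hdc hk
    have := hY.2 _ (Cfsg.Agent.S2802.result hchar T N hTN X hred)
    intro z hz
    exact this (Subgroup.subset_normalClosure ⟨⟨z, hZN hz⟩, hz, rfl⟩)

end Cfsg.Agent.S2803
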