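import Cfsg.Statements.S2804
import Cfsg.Agent.Lib.LocPReduced56
import Cfsg.Agent.Lib.ComponentsCores

set_option autoImplicit false
open Cfsg

set_option linter.all false

namespace Cfsg.Agent.S2804
open Subgroup Cfsg.Agent.LocGroup56 Cfsg.Agent.LocCoprime56 Cfsg.Agent.LocPReduced56
open scoped commutatorElement

/-- Let L be a finite group and p a prime with C_L(O_p(L)) ≤ O_p(L), V a p-reduced normal subgroup of L and K a subnormal subgroup of L. Then [V, O^p(K)] is contained in K and is a p-reduced normal subgroup of K, where O^p(K) is the subgroup of K generated by its elements of order prime to p. -/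
theorem result {L : Type*} [Group L] [Finite L] {p : ℕ} [Fact p.Prime] (hchar : Subgroup.centralizer (Cfsg.pCore p L : Set L) ≤ Cfsg.pCore p L) (V : Subgroup L) (hV : Cfsg.IsPReducedNormal p V) (K : Subgroup L) (hK : K.IsSubnormal) : ⁅V, (Cfsg.pResidual p ↥K).map K.subtype⁆ ≤ K ∧ Cfsg.IsPReducedNormal p ((⁅V, (Cfsg.pResidual p ↥K).map K.subtype⁆).subgroupOf K) := by
  set R : Subgroup L := (Cfsg.pResidual p ↥K).map K.subtype with hR
  have hVp : IsPGroup p ↥V := isPGroup_of_elementary hV.2.1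
  haveI hVn : V.Normal := hV.1
  have hVc : ∀ g : L, ∀ v ∈ V, ⁅v, g⁆ ∈ V := fun g v hv => by
    have := mul_mem hv (hVn.conj_mem _ (inv_mem hv) g)
    rw [commutatorElement_def]
    simpa only [mul_assoc] using this
  have hgen : ∀ a : L, a ∈ K → (orderOf a).Coprime p → ∀ v ∈ V, ⁅v, a⁆ ∈ K := by
    intro a haK hac
    suffices h : ∀ M : Subgroup L, M.IsSubnormal → a ∈ M → ∀ v ∈ V, ⁅v, a⁆ ∈ M from h K hK haK
    intro M hM
    induction hM with
    | top => exact fun _ v _ => Subgroup.mem_top _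
    | step H M h_le _ hN ih =>
      intro haH v hv
      obtain ⟨v', hv', e⟩ := exists_comm_comm hV.2.1.1 hVp (fun w hw => hVc a w hw) hac hv
      have hc : ⁅v', a⁆ ∈ M := ih (h_le haH) v' hv'
      have := hN.conj_mem ⟨a, h_le haH⟩ haH ⟨_, hc⟩
      rw [e, commutatorElement_def ⁅v', a⁆ a]
      exact Subgroup.mul_mem H this (Subgroup.inv_mem H haH)
  have hWK : ∀ a ∈ R, ∀ v ∈ V, ⁅v, a⁆ ∈ K := by
    rintro _ ⟨a, ha, rfl⟩
    induction ha using Subgroup.closure_induction with
    | mem x hx => exact hgen x x.2 (by rwa [orderOf_coe])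
    | one => intro v hv; simp
    | mul x y _ _ hx hy =>
      intro v hv
      have e : ⁅v, (x : L) * y⁆ = ⁅v, (x : L)⁆ * ((x : L) * ⁅v, (y : L)⁆ * (x : L)⁻¹) := by
        simp only [commutatorElement_def]; group
      show ⁅v, (x : L) * y⁆ ∈ K
      rw [e]
      exact mul_mem (hx v hv) (mul_mem (mul_mem x.2 (hy v hv)) (inv_mem x.2))
    | inv x _ hx =>
      intro v hv
      have e : ⁅v, (x : L)⁻¹⁆ = (x : L)⁻¹ * ⁅v, (x : L)⁆⁻¹ * (x : L) := by
        simp only [commutatorElement_def]; group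
      show ⁅v, (x : L)⁻¹⁆ ∈ K
      rw [e]
      exact mul_mem (mul_mem (inv_mem x.2) (inv_mem (hx v hv))) x.2
  set W : Subgroup L := ⁅V, R⁆ with hW
  have hWleK : W ≤ K := Subgroup.commutator_le.mpr fun v hv a ha => hWK a ha v hv
  have hWV : W ≤ V := Subgroup.commutator_le.mpr fun v hv a _ => hVc a v hv
  refine ⟨hWleK, ?_⟩
  have hKW : K ≤ Subgroup.normalizer (W : Set L) := le_normalizer_trans_map fun g hg => by
    rw [hW, Subgroup.map_commutator]
    have h1 : V.map (MulAut.conj g).toMonoidHom = V :=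
      Subgroup.mem_normalizer_iff_map_conj_eq.mp (Subgroup.le_normalizer_of_normal (K := K) hg)
    have h2 : R.map (MulAut.conj g).toMonoidHom = R := by
      have h3 := Cfsg.Agent.TransferPResidual.map_pResidual_equiv (p := p) (MulAut.conj (⟨g, hg⟩ : K))
      rw [hR, Subgroup.map_map]
      conv_rhs => rw [← h3, Subgroup.map_map]
      rfl
    rw [h1, h2]
  have hWel : Cfsg.IsElementaryAbelian p (W.subgroupOf K) :=
    ⟨⟨⟨fun a b => Subtype.ext (Subtype.ext (comm_of_elementary hV.2.1 (hWV a.2) (hWV b.2)))⟩⟩,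
      fun a ha => Subtype.ext (by simpa using hV.2.1.2 (a : L) (hWV ha))⟩
  refine isPReducedNormal_intro
    ⟨fun x hx g => conj_mem_of_mem_normalizer (H := W) (x := ((x : K) : L)) (hKW g.2) hx⟩ hWel
    fun D hD _ hpow => ?_
  haveI hCn : (Subgroup.centralizer (V : Set L)).Normal := centralizer_normal hV.1
  have hpowV : ∀ d ∈ D, ∃ k : ℕ, (d : L) ^ p ^ k ∈ Subgroup.centralizer (V : Set L) := by
    intro d hd
    obtain ⟨k, hk⟩ := hpow d hd
    obtain ⟨j, hj⟩ := exists_coprime_pow (p := p) (d : L)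
    refine ⟨k + j, Subgroup.mem_centralizer_iff.mpr fun v hv => ?_⟩
    have hb : ((d : L) ^ p ^ (k + j)) = (((d ^ p ^ j) ^ p ^ k : K) : L) := by
      simp [← pow_mul, pow_add, mul_comm]
    set b : K := (d ^ p ^ j) ^ p ^ k with hbdef
    have hbc : (orderOf (b : L)).Coprime p := by
      refine Nat.Coprime.coprime_dvd_left ?_ hj
      simp only [hbdef, SubmonoidClass.coe_pow]
      exact orderOf_pow_dvd _
    have hbC : b ∈ Subgroup.centralizer (W.subgroupOf K : Set K) := by
      rw [hbdef, ← pow_mul, mul_comm, pow_mul]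
      exact pow_mem hk _
    have hbR : (b : L) ∈ R := ⟨b, Subgroup.subset_closure (by simpa [orderOf_coe] using hbc), rfl⟩
    have hcmem : ⁅v⁻¹, (b : L)⁆ ∈ W := Subgroup.commutator_mem_commutator (inv_mem hv) hbR
    have hfix : Commute (b : L) ⁅v⁻¹, (b : L)⁆ :=
      (congrArg Subtype.val (Subgroup.mem_centralizer_iff.mp hbC ⟨_, hWleK hcmem⟩ hcmem)).symm
    obtain ⟨m, hm⟩ := hVp ⟨_, hVc (b : L) v⁻¹ (inv_mem hv)⟩
    have h1 : ⁅v⁻¹, (b : L)⁆ = 1 := Cfsg.Agent.OmegaCoprime.eq_one_of_fixed_comm hbc (x := v)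
      (by rw [commutatorElement_def]; group) (by rw [hfix.eq]; group)
      ⟨m, by simpa [Subtype.ext_iff] using hm⟩
    rw [commutatorElement_eq_one_iff_commute] at h1
    rw [hb]
    exact (Commute.inv_left_iff.mp h1).eq
  obtain ⟨-, -, _, hcore⟩ := hV
  let f := QuotientGroup.mk' (Subgroup.centralizer (V : Set L))
  have hsub : ((D.map K.subtype).map f).IsSubnormal :=
    (Subgroup.IsSubnormal.trans' hD.isSubnormal hK).map (QuotientGroup.mk'_surjective _)
  have hP : IsPGroup p ↥((D.map K.subtype).map f) := fun x => by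
    obtain ⟨_, ⟨g, hg, rfl⟩, hgx⟩ := Subgroup.mem_map.mp x.2
    obtain ⟨k, hk⟩ := hpowV g hg
    refine ⟨k, Subtype.ext ?_⟩
    rw [SubmonoidClass.coe_pow, ← hgx, ← map_pow]
    exact (QuotientGroup.eq_one_iff _).mpr hk
  have hbot := Cfsg.Agent.ComponentsCores.subnormal_pGroup_le_pCore hsub hP
  rw [hcore, le_bot_iff] at hbot
  intro d hd
  have : (d : L) ∈ Subgroup.centralizer (V : Set L) :=
    (QuotientGroup.eq_one_iff (d : L)).mp (Subgroup.mem_bot.mp (hbot ▸ ⟨_, ⟨d, hd, rfl⟩, rfl⟩))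
  exact Subgroup.mem_centralizer_iff.mpr fun x hx =>
    Subtype.ext (Subgroup.mem_centralizer_iff.mp this (x : L) (hWV hx))

end Cfsg.Agent.S2804
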