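import Cfsg.Statements.S2805
import Cfsg.Agent.Lib.LocKieler56

set_option autoImplicit false
open Cfsg

set_option linter.all false

namespace Cfsg.Agent.S2805
open Subgroup Cfsg.Agent.LocGroup56 Cfsg.Agent.LocCoprime56 Cfsg.Agent.LocPReduced56 Cfsg.Agent.LocKieler56


theorem key {G : Type*} [Group G] [Finite G] {p : ℕ} [Fact p.Prime]
    (hG : Subgroup.centralizer (Cfsg.pCore p G : Set G) ≤ Cfsg.pCore p G) (T : Sylow p G)
    (M : Subgroup G) (hM : M.IsSubnormal) :
    (Subgroup.centralizer (Cfsg.pCore p ↥M : Set ↥M) ≤ Cfsg.pCore p ↥M) ∧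
    (¬ p ∣ (T : Subgroup G).relIndex M) ∧
    ∀ x ∈ M, ((∀ z ∈ Cfsg.omegaOne p ((T : Subgroup G) ⊓
        Subgroup.centralizer ((T : Subgroup G) : Set G)), Commute x z) ↔
      ∀ z ∈ Cfsg.omegaOne p (((T : Subgroup G) ⊓ M) ⊓
        Subgroup.centralizer ((((T : Subgroup G) ⊓ M) : Subgroup G) : Set G)), Commute x z) := by
  induction hM with
  | top =>
    refine ⟨charP_equiv Subgroup.topEquiv.symm hG, ?_, fun x _ => by rw [inf_top_eq]⟩
    rw [Subgroup.relIndex_top_right]
    exact T.not_dvd_index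
  | step L M h_le _ hN ih =>
    obtain ⟨hc, hidx, hiff⟩ := ih
    haveI := hN
    let P : Sylow p ↥M := (T.isPGroup'.comap_of_injective _ M.subtype_injective).toSylow hidx
    have hP : (P : Subgroup ↥M).map M.subtype = (T : Subgroup G) ⊓ M := by
      show ((T : Subgroup G).subgroupOf M).map M.subtype = _
      rw [Subgroup.subgroupOf_map_subtype]
    have hPL : ((P : Subgroup ↥M) ⊓ L.subgroupOf M).map M.subtype = (T : Subgroup G) ⊓ L := by
      rw [Subgroup.map_inf _ _ _ M.subtype_injective, hP, Subgroup.subgroupOf_map_subtype,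
        inf_of_le_left h_le, inf_assoc, inf_of_le_right h_le]
    refine ⟨charP_equiv (Subgroup.subgroupOfEquivOfLe h_le) (charP_of_normal hc (L.subgroupOf M)),
      ?_, fun x hx => ?_⟩
    · have h2 := Cfsg.Agent.StrongPEmb.not_dvd_relIndex_sylow P (L.subgroupOf M)
      rwa [← Subgroup.relIndex_map_map_of_injective _ _ M.subtype_injective, hP,
        Subgroup.subgroupOf_map_subtype, inf_of_le_left h_le,
        ← Subgroup.inf_relIndex_right, inf_assoc, inf_of_le_right h_le,
        Subgroup.inf_relIndex_right] at h2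
    · have hkey := kieler_normal hc P (L.subgroupOf M) ⟨x, h_le hx⟩ hx
      have e1 : (Cfsg.omegaOne p ((P : Subgroup ↥M) ⊓
          Subgroup.centralizer ((P : Subgroup ↥M) : Set ↥M))).map M.subtype =
          Cfsg.omegaOne p (((T : Subgroup G) ⊓ M) ⊓
            Subgroup.centralizer ((((T : Subgroup G) ⊓ M) : Subgroup G) : Set G)) := by
        rw [omegaOne_map p _ M.subtype_injective, map_inf_centralizer _ M.subtype_injective, hP]
      have e2 : (Cfsg.omegaOne p (((P : Subgroup ↥M) ⊓ L.subgroupOf M) ⊓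
          Subgroup.centralizer ((((P : Subgroup ↥M) ⊓ L.subgroupOf M) : Subgroup ↥M) : Set ↥M))).map
            M.subtype =
          Cfsg.omegaOne p (((T : Subgroup G) ⊓ L) ⊓
            Subgroup.centralizer ((((T : Subgroup G) ⊓ L) : Subgroup G) : Set G)) := by
        rw [omegaOne_map p _ M.subtype_injective, map_inf_centralizer _ M.subtype_injective, hPL]
      rw [hiff x (h_le hx), ← e1, ← e2]
      constructor
      · rintro h _ ⟨z, hz, rfl⟩
        exact congrArg Subtype.val (hkey.mp (fun w hw => Subtype.ext (h _ ⟨w, hw, rfl⟩).eq) z hz).eq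
      · rintro h _ ⟨z, hz, rfl⟩
        exact congrArg Subtype.val (hkey.mpr (fun w hw => Subtype.ext (h _ ⟨w, hw, rfl⟩).eq) z hz).eq

/-- Kieler's Lemma: let H be a finite group of characteristic p (C_H(O_p(H)) ≤ O_p(H)), T a Sylow p-subgroup of H and L a subnormal subgroup of H. Then C_L(Ω₁(Z(T))) = C_L(Ω₁(Z(T ∩ L))), Ω₁(Z(·)) denoting the elements of order dividing p in the centre. -/
theorem result {H : Type*} [Group H] [Finite H] {p : ℕ} [Fact p.Prime] (hH : Subgroup.centralizer (Cfsg.pCore p H : Set H) ≤ Cfsg.pCore p H) (T : Sylow p H) (L : Subgroup H) (hL : L.IsSubnormal) : L ⊓ Subgroup.centralizer ((Cfsg.omegaOne p ((T : Subgroup H) ⊓ Subgroup.centralizer ((T : Subgroup H) : Set H))) : Set H) = L ⊓ Subgroup.centralizer ((Cfsg.omegaOne p (((T : Subgroup H) ⊓ L) ⊓ Subgroup.centralizer ((((T : Subgroup H) ⊓ L) : Subgroup H) : Set H))) : Set H) := by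
  ext x
  simp only [Subgroup.mem_inf, Subgroup.mem_centralizer_iff, SetLike.mem_coe]
  constructor
  · rintro ⟨hxL, hx⟩
    exact ⟨hxL, fun z hz => (((key hH T L hL).2.2 x hxL).mp (fun w hw => (hx w hw).symm) z hz).symm⟩
  · rintro ⟨hxL, hx⟩
    exact ⟨hxL, fun z hz => (((key hH T L hL).2.2 x hxL).mpr (fun w hw => (hx w hw).symm) z hz).symm⟩

end Cfsg.Agent.S2805
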