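import Cfsg.Statements.S2806
import Cfsg.Agent.S2805
import Cfsg.Agent.Lib.SubnormalSylow56
import Cfsg.Agent.Lib.CoprimeTools

set_option autoImplicit false
open Cfsg

set_option linter.all false

namespace Cfsg.Agent.S2806

open Subgroup Cfsg.Agent.LocGroup56 Cfsg.Agent.LocKieler56 Cfsg.Agent.SubnormalSylow56

variable {H : Type*} [Group H] [Finite H] {p : ℕ} [Fact p.Prime]

/-- `Z(X)` read in the ambient group. -/
abbrev ZOf (p : ℕ) (X : Subgroup H) : Subgroup H := Cfsg.omegaOne p (X ⊓ Subgroup.centralizer (X : Set H))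

theorem zOf_ne_bot {X : Subgroup H} (hX : IsPGroup p ↥X) (hne : X ≠ ⊥) : ZOf p X ≠ ⊥ := by
  refine omegaOne_ne_bot (hX.to_le inf_le_left) fun h => ?_
  haveI : Nontrivial ↥X := (Subgroup.nontrivial_iff_ne_bot X).mpr hne
  haveI := hX.center_nontrivial
  obtain ⟨⟨z, hz⟩, hz1⟩ := exists_ne (1 : Subgroup.center ↥X)
  have h1 : (z : H) ∈ X ⊓ Subgroup.centralizer (X : Set H) :=
    ⟨z.2, Subgroup.mem_centralizer_iff.mpr fun y hy =>
      congrArg Subtype.val (Subgroup.mem_center_iff.mp hz ⟨y, hy⟩)⟩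
  rw [h, Subgroup.mem_bot] at h1
  exact hz1 (Subtype.ext (Subtype.ext h1))

theorem zOf_isPGroup {X : Subgroup H} (hX : IsPGroup p ↥X) : IsPGroup p ↥(ZOf p X) :=
  hX.to_le ((omegaOne_le p _).trans inf_le_left)

theorem normalizer_le_zOf (X : Subgroup H) :
    Subgroup.normalizer (X : Set H) ≤ Subgroup.normalizer (ZOf p X : Set H) :=
  le_normalizer_trans_map fun g hg => by
    rw [ZOf, omegaOne_map p _ (MulAut.conj g).injective,
      map_inf_centralizer _ (MulAut.conj g).injective,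
      show X.map (MulAut.conj g).toMonoidHom = X from Subgroup.mem_normalizer_iff_map_conj_eq.mp hg]

/-- Subnormal subgroups of `p`-locals have characteristic `p`. -/
theorem charP_sub (hH : Cfsg.IsOfLocalCharacteristic p H) {R K : Subgroup H} (hR : IsPGroup p ↥R)
    (hne : R ≠ ⊥) (hKN : K ≤ Subgroup.normalizer (R : Set H))
    (hK : (K.subgroupOf (Subgroup.normalizer (R : Set H))).IsSubnormal) :
    Subgroup.centralizer (Cfsg.pCore p ↥K : Set ↥K) ≤ Cfsg.pCore p ↥K := by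
  obtain ⟨T⟩ := (inferInstance : Nonempty (Sylow p ↥(Subgroup.normalizer (R : Set H))))
  exact charP_equiv (Subgroup.subgroupOfEquivOfLe hKN) (Cfsg.Agent.S2805.key (hH.2 R hR hne) T _ hK).1

/-- One normal step, inside any `C` of characteristic `p` between `T ∩ M` and `M`. -/
theorem step (T : Sylow p H) {L M C : Subgroup H} (hLM : L ≤ M) [hn : (L.subgroupOf M).Normal]
    (hM : M.IsSubnormal) (hCM : C ≤ M) (hTC : (T : Subgroup H) ⊓ M ≤ C)
    (hchar : Subgroup.centralizer (Cfsg.pCore p ↥C : Set ↥C) ≤ Cfsg.pCore p ↥C)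
    {x : H} (hxL : x ∈ L) (hxC : x ∈ C) :
    (∀ z ∈ ZOf p ((T : Subgroup H) ⊓ M), Commute x z) ↔
      ∀ z ∈ ZOf p ((T : Subgroup H) ⊓ L), Commute x z := by
  have hTC' : (T : Subgroup H) ⊓ C = (T : Subgroup H) ⊓ M :=
    le_antisymm (inf_le_inf_left _ hCM) (le_inf inf_le_left hTC)
  have hidx : ¬ p ∣ (T : Subgroup H).relIndex C := fun h => not_dvd_relIndex_subnormal hM T (by
    rw [← Subgroup.inf_relIndex_right, ← Subgroup.relIndex_mul_relIndex _ C M hTC hCM,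
      ← hTC', Subgroup.inf_relIndex_right]
    exact Dvd.dvd.mul_right h _)
  let P : Sylow p ↥C := (T.isPGroup'.comap_of_injective _ C.subtype_injective).toSylow hidx
  have hP : (P : Subgroup ↥C).map C.subtype = (T : Subgroup H) ⊓ M := by
    show ((T : Subgroup H).subgroupOf C).map C.subtype = _
    rw [Subgroup.subgroupOf_map_subtype, hTC']
  haveI : (L.subgroupOf C).Normal := by
    refine ⟨fun y hy g => ?_⟩
    exact hn.conj_mem ⟨y, hCM y.2⟩ hy ⟨g, hCM g.2⟩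
  have hPL : ((P : Subgroup ↥C) ⊓ L.subgroupOf C).map C.subtype = (T : Subgroup H) ⊓ L := by
    rw [Subgroup.map_inf _ _ _ C.subtype_injective, hP, Subgroup.subgroupOf_map_subtype]
    refine le_antisymm (le_inf (inf_le_left.trans inf_le_left) (inf_le_right.trans inf_le_left)) ?_
    exact le_inf (inf_le_inf_left _ hLM) (le_inf inf_le_right ((inf_le_inf_left _ hLM).trans hTC))
  have hkey := kieler_normal hchar P (L.subgroupOf C) ⟨x, hxC⟩ hxL
  have e1 : (Cfsg.omegaOne p ((P : Subgroup ↥C) ⊓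
      Subgroup.centralizer ((P : Subgroup ↥C) : Set ↥C))).map C.subtype =
      ZOf p ((T : Subgroup H) ⊓ M) := by
    rw [omegaOne_map p _ C.subtype_injective, map_inf_centralizer _ C.subtype_injective, hP]
  have e2 : (Cfsg.omegaOne p (((P : Subgroup ↥C) ⊓ L.subgroupOf C) ⊓
      Subgroup.centralizer ((((P : Subgroup ↥C) ⊓ L.subgroupOf C) : Subgroup ↥C) : Set ↥C))).map
        C.subtype = ZOf p ((T : Subgroup H) ⊓ L) := by
    rw [omegaOne_map p _ C.subtype_injective, map_inf_centralizer _ C.subtype_injective, hPL]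
  rw [← e1, ← e2]
  constructor
  · rintro h _ ⟨z, hz, rfl⟩
    exact congrArg Subtype.val (hkey.mp (fun w hw => Subtype.ext (h _ ⟨w, hw, rfl⟩).eq) z hz).eq
  · rintro h _ ⟨z, hz, rfl⟩
    exact congrArg Subtype.val (hkey.mpr (fun w hw => Subtype.ext (h _ ⟨w, hw, rfl⟩).eq) z hz).eq

theorem kieler (hH : Cfsg.IsOfLocalCharacteristic p H) (T : Sylow p H) {X : Subgroup H}
    (hX : X.IsSubnormal) (hne : (T : Subgroup H) ⊓ X ≠ ⊥) : ∀ x ∈ X,
    ((∀ z ∈ ZOf p (T : Subgroup H), Commute x z) ↔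
      ∀ z ∈ ZOf p ((T : Subgroup H) ⊓ X), Commute x z) := by
  induction hX with
  | top => intro x _; rw [inf_top_eq]
  | step L M h_le hM hN ih =>
    intro x hxL
    haveI := hN
    have hneM : (T : Subgroup H) ⊓ M ≠ ⊥ := ne_bot_of_le_ne_bot hne (inf_le_inf_left _ h_le)
    have hpM : IsPGroup p ↥((T : Subgroup H) ⊓ M) := T.2.to_le inf_le_left
    have hpL : IsPGroup p ↥((T : Subgroup H) ⊓ L) := T.2.to_le inf_le_left
    rw [ih hneM x (h_le hxL)]
    constructor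
    · intro h
      set N := Subgroup.normalizer (ZOf p ((T : Subgroup H) ⊓ M) : Set H)
      set D := Subgroup.centralizer (ZOf p ((T : Subgroup H) ⊓ M) : Set H) with hD
      have hDN : D ≤ N := Subgroup.centralizer_le_normalizer _
      haveI : (D.subgroupOf N).Normal := Subgroup.normal_subgroupOf_of_le_normalizer
        (Cfsg.Agent.CoprimeTools.le_normalizer_centralizer_of_le le_rfl)
      have hsn : ((M ⊓ D).subgroupOf N).IsSubnormal := by
        rw [show (M ⊓ D).subgroupOf N = M.subgroupOf N ⊓ D.subgroupOf N from Subgroup.comap_inf _ _ _]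
        exact hM.subgroupOf.inf (Subgroup.Normal.isSubnormal inferInstance)
      have hTD : (T : Subgroup H) ⊓ M ≤ M ⊓ D := le_inf inf_le_right fun t ht =>
        Subgroup.mem_centralizer_iff.mpr fun z hz =>
          (Subgroup.mem_centralizer_iff.mp ((omegaOne_le p _ hz).2) t ht).symm
      have hxD : x ∈ M ⊓ D := ⟨h_le hxL, Subgroup.mem_centralizer_iff.mpr fun z hz => (h z hz).symm.eq⟩
      exact (step T h_le hM inf_le_left hTD (charP_sub hH (zOf_isPGroup hpM) (zOf_ne_bot hpM hneM)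
        (inf_le_right.trans hDN) hsn) hxL hxD).mp h
    · intro h
      set N := Subgroup.normalizer (ZOf p ((T : Subgroup H) ⊓ L) : Set H)
      have hsn : ((M ⊓ N).subgroupOf N).IsSubnormal := by
        rw [show (M ⊓ N).subgroupOf N = M.subgroupOf N ⊓ N.subgroupOf N from Subgroup.comap_inf _ _ _,
          Subgroup.subgroupOf_self, inf_top_eq]
        exact hM.subgroupOf
      have hTN : (T : Subgroup H) ⊓ M ≤ M ⊓ N := le_inf inf_le_right (by
        refine le_trans ?_ (normalizer_le_zOf _)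
        refine le_normalizer_of_conj fun g hg y hy => ⟨?_, ?_⟩
        · exact (T : Subgroup H).mul_mem ((T : Subgroup H).mul_mem hg.1 hy.1) ((T : Subgroup H).inv_mem hg.1)
        · exact hN.conj_mem ⟨y, h_le hy.2⟩ hy.2 ⟨g, hg.2⟩)
      have hxN : x ∈ M ⊓ N := ⟨h_le hxL, Subgroup.centralizer_le_normalizer _
        (Subgroup.mem_centralizer_iff.mpr fun z hz => (h z hz).symm.eq)⟩
      exact (step T h_le hM inf_le_left hTN (charP_sub hH (zOf_isPGroup hpL) (zOf_ne_bot hpL hne)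
        inf_le_right hsn) hxL hxN).mpr h

theorem pointStab_eq (hH : Cfsg.IsOfLocalCharacteristic p H) (T : Sylow p H) {X : Subgroup H}
    (hX : X.IsSubnormal) (hne : (T : Subgroup H) ⊓ X ≠ ⊥) :
    Cfsg.pointStabilizer p X ((T : Subgroup H) ⊓ X) =
      Cfsg.pElementClosure p (X ⊓ Subgroup.centralizer (ZOf p (T : Subgroup H) : Set H)) := by
  unfold Cfsg.pointStabilizer Cfsg.pElementClosure
  congr 1
  ext x
  simp only [Set.mem_ofPred_eq, Subgroup.mem_inf, Subgroup.mem_centralizer_iff, SetLike.mem_coe]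
  constructor
  · rintro ⟨⟨hxX, hx⟩, hk⟩
    exact ⟨⟨hxX, fun z hz => (((kieler hH T hX hne x hxX).mpr (fun w hw => (hx w hw).symm)) z hz).symm.eq⟩, hk⟩
  · rintro ⟨⟨hxX, hx⟩, hk⟩
    exact ⟨⟨hxX, fun z hz => (((kieler hH T hX hne x hxX).mp (fun w hw => (hx w hw).symm)) z hz).symm.eq⟩, hk⟩

theorem pElem_eq_one {X : Subgroup H} (hX : X.IsSubnormal) (T : Sylow p H)
    (h : (T : Subgroup H) ⊓ X = ⊥) {x : H} (hxX : x ∈ X) (hk : ∃ k, orderOf x = p ^ k) : x = 1 := by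
  obtain ⟨k, hk⟩ := hk
  have hb : (sylowOf T hX : Subgroup ↥X) = ⊥ := by
    rw [coe_sylowOf, Subgroup.subgroupOf_eq_bot, disjoint_iff, h]
  have h1 : (⟨x, hxX⟩ : ↥X) ∈ (⊥ : Subgroup ↥X) :=
    mem_of_sylow_le (Subgroup.Normal.isSubnormal inferInstance) (sylowOf T hX) hb.le
      ⟨k, by rw [← Subgroup.orderOf_coe, hk]⟩
  exact congrArg Subtype.val (Subgroup.mem_bot.mp h1)

theorem degenerate (T : Sylow p H) {L₁ L₂ : Subgroup H} (h₁ : L₁.IsSubnormal) (h₂ : L₂.IsSubnormal)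
    (h : (T : Subgroup H) ⊓ L₁ = ⊥) :
    Cfsg.pointStabilizer p (L₁ ⊔ L₂) ((T : Subgroup H) ⊓ (L₁ ⊔ L₂)) =
      Cfsg.pointStabilizer p L₁ ((T : Subgroup H) ⊓ L₁) ⊔ Cfsg.pointStabilizer p L₂ ((T : Subgroup H) ⊓ L₂) := by
  have hT : (T : Subgroup H) ⊓ (L₁ ⊔ L₂) = (T : Subgroup H) ⊓ L₂ := by
    rw [sylow_inf_sup T h₁ h₂, h, bot_sup_eq]
  have h1 : Cfsg.pointStabilizer p L₁ ((T : Subgroup H) ⊓ L₁) = ⊥ :=
    Subgroup.closure_eq_bot_iff.mpr fun x hx => pElem_eq_one h₁ T h hx.1.1 hx.2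
  rw [h1, bot_sup_eq, hT]
  unfold Cfsg.pointStabilizer
  congr 1
  ext x
  simp only [Set.mem_ofPred_eq, Subgroup.mem_inf]
  constructor
  · rintro ⟨⟨hx, hxc⟩, k, hk⟩
    have hJ := Cfsg.Agent.SubnormalJoin.isSubnormal_sup h₁ h₂
    have h2 : (⟨x, hx⟩ : ↥(L₁ ⊔ L₂)) ∈ L₂.subgroupOf (L₁ ⊔ L₂) :=
      mem_of_sylow_le h₂.subgroupOf (sylowOf T hJ) (fun t ht => by
        have h3 : (t : H) ∈ (T : Subgroup H) ⊓ (L₁ ⊔ L₂) := ⟨ht, t.2⟩
        rw [hT] at h3
        exact h3.2) ⟨k, by rw [← Subgroup.orderOf_coe, hk]⟩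
    exact ⟨⟨h2, hxc⟩, k, hk⟩
  · rintro ⟨⟨hx, hxc⟩, hk⟩
    exact ⟨⟨Subgroup.mem_sup_right hx, hxc⟩, hk⟩


/-- Let H be a finite group of local characteristic p, T a Sylow p-subgroup, and L₁, L₂ subnormal subgroups of H generating the subgroup L. Then the point stabilizer of L with respect to T ∩ L is generated by the point stabilizers of L₁ and L₂ with respect to T ∩ L₁ and T ∩ L₂ (point stabilizer of X w.r.t. R: the subgroup generated by the p-elements of X centralizing Ω₁(Z(R))). -/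
theorem result {H : Type*} [Group H] [Finite H] {p : ℕ} [Fact p.Prime] (hH : Cfsg.IsOfLocalCharacteristic p H) (T : Sylow p H) (L₁ L₂ : Subgroup H) (h₁ : L₁.IsSubnormal) (h₂ : L₂.IsSubnormal) : Cfsg.pointStabilizer p (L₁ ⊔ L₂) ((T : Subgroup H) ⊓ (L₁ ⊔ L₂)) = Cfsg.pointStabilizer p L₁ ((T : Subgroup H) ⊓ L₁) ⊔ Cfsg.pointStabilizer p L₂ ((T : Subgroup H) ⊓ L₂) := by
  by_cases e1 : (T : Subgroup H) ⊓ L₁ = ⊥
  · exact degenerate T h₁ h₂ e1
  by_cases e2 : (T : Subgroup H) ⊓ L₂ = ⊥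
  · rw [sup_comm L₁ L₂, degenerate T h₂ h₁ e2]
    exact sup_comm _ _
  have hJ := Cfsg.Agent.SubnormalJoin.isSubnormal_sup h₁ h₂
  have e : (T : Subgroup H) ⊓ (L₁ ⊔ L₂) ≠ ⊥ := ne_bot_of_le_ne_bot e1 (inf_le_inf_left _ le_sup_left)
  rw [pointStab_eq hH T hJ e, pointStab_eq hH T h₁ e1, pointStab_eq hH T h₂ e2]
  set C := Subgroup.centralizer (ZOf p (T : Subgroup H) : Set H)
  refine le_antisymm ?_ (sup_le (Subgroup.closure_mono fun x hx => ⟨⟨Subgroup.mem_sup_left hx.1.1, hx.1.2⟩, hx.2⟩)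
    (Subgroup.closure_mono fun x hx => ⟨⟨Subgroup.mem_sup_right hx.1.1, hx.1.2⟩, hx.2⟩))
  set R := Cfsg.pElementClosure p (L₁ ⊓ C) ⊔ Cfsg.pElementClosure p (L₂ ⊓ C)
  set J := (L₁ ⊔ L₂) ⊓ C
  have hTC : (T : Subgroup H) ≤ C := fun t ht => Subgroup.mem_centralizer_iff.mpr fun z hz =>
    (Subgroup.mem_centralizer_iff.mp ((omegaOne_le p _ hz).2) t ht).symm
  have hpart : ∀ (L : Subgroup H), L.IsSubnormal → L ≤ L₁ ⊔ L₂ →
      ((Cfsg.pElementClosure p (L ⊓ C)).subgroupOf J).IsSubnormal ∧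
      (T : Subgroup H) ⊓ L ≤ Cfsg.pElementClosure p (L ⊓ C) := by
    intro L hL hle
    refine ⟨?_, le_pElementClosure (T.2.to_le inf_le_left) (le_inf inf_le_right (inf_le_left.trans hTC))⟩
    have hle' : L ⊓ C ≤ J := inf_le_inf_right _ hle
    have hsub : ((L ⊓ C).subgroupOf J).IsSubnormal := by
      have h1 : (L ⊓ C).subgroupOf J = L.subgroupOf J ⊓ C.subgroupOf J := Subgroup.comap_inf _ _ _
      rw [h1, Subgroup.subgroupOf_eq_top.mpr (inf_le_right : J ≤ C), inf_top_eq]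
      exact hL.subgroupOf
    refine Subgroup.IsSubnormal.step _ ((L ⊓ C).subgroupOf J) (Subgroup.comap_mono (pElementClosure_le p _)) hsub ?_
    refine (Subgroup.normal_subgroupOf_iff_le_normalizer (Subgroup.comap_mono (pElementClosure_le p _))).mpr ?_
    exact (Subgroup.comap_mono (pElementClosure_normalized p _)).trans (Subgroup.le_normalizer_comap _)
  obtain ⟨hs1, ht1⟩ := hpart L₁ h₁ le_sup_left
  obtain ⟨hs2, ht2⟩ := hpart L₂ h₂ le_sup_right
  have hR1 : Cfsg.pElementClosure p (L₁ ⊓ C) ≤ J := (pElementClosure_le p _).trans (inf_le_inf_right _ le_sup_left)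
  have hR2 : Cfsg.pElementClosure p (L₂ ⊓ C) ≤ J := (pElementClosure_le p _).trans (inf_le_inf_right _ le_sup_right)
  have hRsn : (R.subgroupOf J).IsSubnormal := by
    rw [Subgroup.subgroupOf_sup hR1 hR2]
    exact Cfsg.Agent.SubnormalJoin.isSubnormal_sup hs1 hs2
  have hTJ : (T : Subgroup H) ⊓ (L₁ ⊔ L₂) ≤ R := by
    rw [sylow_inf_sup T h₁ h₂]
    exact sup_le_sup ht1 ht2
  have hidx : ¬ p ∣ (T : Subgroup H).relIndex J := fun h => not_dvd_relIndex_subnormal hJ T (by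
    have hle : (T : Subgroup H) ⊓ (L₁ ⊔ L₂) ≤ J := le_inf inf_le_right (inf_le_left.trans hTC)
    have heq : (T : Subgroup H) ⊓ J = (T : Subgroup H) ⊓ (L₁ ⊔ L₂) :=
      le_antisymm (inf_le_inf_left _ inf_le_left) (le_inf inf_le_left hle)
    rw [← Subgroup.inf_relIndex_right, ← Subgroup.relIndex_mul_relIndex _ J (L₁ ⊔ L₂) hle inf_le_left,
      ← heq, Subgroup.inf_relIndex_right]
    exact Dvd.dvd.mul_right h _)
  let P : Sylow p ↥J := (T.isPGroup'.comap_of_injective _ J.subtype_injective).toSylow hidx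
  rw [Cfsg.pElementClosure, Subgroup.closure_le]
  rintro x ⟨hxJ, k, hk⟩
  exact mem_of_sylow_le hRsn P (fun t ht => hTJ ⟨ht, t.2.1⟩) (x := ⟨x, hxJ⟩)
    ⟨k, by rw [← Subgroup.orderOf_coe, hk]⟩

end Cfsg.Agent.S2806
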