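import Cfsg.Statements.S2807
import Cfsg.Agent.Lib.WeakTransfer56

set_option autoImplicit false
open Cfsg

set_option linter.all false

namespace Cfsg.Agent.S2807


variable {p : ℕ} [hp : Fact p.Prime]

open Cfsg.Agent.WeakTransfer56 RegularWreathProduct
open scoped commutatorElement

/-- A lift of `Zp` along the powers of `z`. -/
def tau {S : Type*} [Group S] (z : S) (q : Zp p) : S := z ^ (Multiplicative.toAdd q).val

theorem pi_tau {S : Type*} [Group S] (π : S →* Zp p) {z : S} (hz : π z = Multiplicative.ofAdd 1) (q : Zp p) :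
    π (tau z q) = q := by
  haveI : NeZero p := ⟨hp.out.ne_zero⟩
  rw [tau, map_pow, hz, ← ofAdd_nsmul, nsmul_one, ZMod.natCast_zmod_val, ofAdd_toAdd]

/-- The monomial representation induced from `χ`. -/
noncomputable def wrMap {S : Type*} [Group S] (π : S →* Zp p) (z : S) (hz : π z = Multiplicative.ofAdd 1)
    (χ : ↥π.ker →* Zp p) : S →* Zp p ≀ᵣ Zp p where
  toFun s := ⟨fun q => χ ⟨(tau z q)⁻¹ * s * tau z ((π s)⁻¹ * q), by
    rw [MonoidHom.mem_ker, map_mul, map_mul, map_inv, pi_tau π hz, pi_tau π hz]; group⟩, π s⟩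
  map_one' := by
    ext q
    · show χ _ = 1
      exact (congrArg χ (Subtype.ext (by simp))).trans (map_one χ)
    · simp
  map_mul' s t := by
    ext q
    · show χ _ = χ _ * χ _
      refine (congrArg χ ?_).trans (map_mul χ _ _)
      apply Subtype.ext
      simp only [map_mul, mul_inv_rev, Subgroup.coe_mul, mul_assoc, mul_inv_cancel_left]
    · simp

/-- Total of the base, and the top. -/
noncomputable def totals [NeZero p] : Zp p ≀ᵣ Zp p →* Zp p × Zp p where
  toFun w := (∏ q, w.left q, w.right)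
  map_one' := by simp
  map_mul' a b := by
    refine Prod.ext ?_ rfl
    show ∏ q, (a * b).left q = (∏ q, a.left q) * ∏ q, b.left q
    simp only [mul_left, Pi.mul_apply]
    rw [Finset.prod_mul_distrib]
    congr 1
    exact Equiv.prod_comp (Equiv.mulLeft a.right⁻¹) b.left

theorem totals_ker_le [NeZero p] : (totals (p := p)).ker ≤ commutator (Zp p ≀ᵣ Zp p) := by
  rintro ⟨g, r⟩ hw
  obtain ⟨hg, hr⟩ := Prod.ext_iff.mp (MonoidHom.mem_ker.mp hw)
  change ∏ q, g q = 1 at hg
  change r = 1 at hr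
  subst hr
  let h : Zp p → Zp p := fun q => ∏ j ∈ Finset.range ((Multiplicative.toAdd q).val + 1),
    g (Multiplicative.ofAdd (j : ZMod p))
  have hrange : ∏ j ∈ Finset.range p, g (Multiplicative.ofAdd (j : ZMod p)) = 1 := by
    rw [← hg]
    refine Finset.prod_nbij (fun j : ℕ => Multiplicative.ofAdd (j : ZMod p))
      (fun a _ => Finset.mem_univ _) ?_ ?_ (fun _ _ => rfl)
    · intro a ha b hb hab
      have := congrArg (fun t => (Multiplicative.toAdd t).val) hab
      simpa [ZMod.val_natCast, Nat.mod_eq_of_lt (Finset.mem_range.mp ha),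
        Nat.mod_eq_of_lt (Finset.mem_range.mp hb)] using this
    · intro q _
      exact ⟨(Multiplicative.toAdd q).val, Finset.mem_range.mpr (ZMod.val_lt _), by simp⟩
  have key : ∀ q, h q / h ((Multiplicative.ofAdd (1 : ZMod p))⁻¹ * q) = g q := by
    intro q
    obtain ⟨a, rfl⟩ := Multiplicative.ofAdd.surjective q
    rw [← ofAdd_neg, ← ofAdd_add, neg_add_eq_sub]
    show (∏ j ∈ Finset.range (a.val + 1), _) / (∏ j ∈ Finset.range ((a - 1).val + 1), _) = _
    rcases Nat.eq_zero_or_pos a.val with h0 | h0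
    · have ha : a = 0 := (ZMod.val_eq_zero a).mp h0
      subst ha
      have h1 : ((0 : ZMod p) - 1).val + 1 = p := by
        obtain ⟨n, rfl⟩ : ∃ n, p = n + 1 := ⟨p - 1, (Nat.sub_add_cancel hp.out.one_le).symm⟩
        simp [ZMod.val_neg_one]
      rw [h1, hrange, div_one, h0]
      simp
    · have h1 : (a - 1).val + 1 = a.val := by
        rw [ZMod.val_sub (by rw [ZMod.val_one]; exact h0), ZMod.val_one]
        exact Nat.sub_add_cancel h0
      rw [h1, Finset.prod_range_succ, mul_div_cancel_left, ZMod.natCast_zmod_val]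
  have e : (⟨g, 1⟩ : Zp p ≀ᵣ Zp p) = ⁅(⟨h, 1⟩ : Zp p ≀ᵣ Zp p), ⟨1, Multiplicative.ofAdd 1⟩⁆ := by
    ext q
    · simp [commutatorElement_def, ← key q, div_eq_mul_inv]
    · simp [commutatorElement_def]
  rw [e]
  exact Subgroup.commutator_mem_commutator (Subgroup.mem_top _) (Subgroup.mem_top _)

/-- `PUnit ≀ Zp` is `Zp`. -/
noncomputable def punitWreath {H : Type*} [Group H] : PUnit ≀ᵣ H ≃* H :=
  MulEquiv.ofBijective rightHom ⟨fun a b hab => by ext; exact hab, fun q => ⟨inl q, rfl⟩⟩

/-- Let S be a Sylow p-subgroup of the finite group G. If S ∩ G' ≠ S ∩ (N_G(S))' (derived subgroups), then the wreath product Z_p ≀ Z_p — realised as a Sylow p-subgroup of the symmetric group of degree p² — is a homomorphic image of S. -/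
theorem result {G : Type*} [Group G] [Finite G] {p : ℕ} [Fact p.Prime] (S : Sylow p G) (h : (S : Subgroup G) ⊓ commutator G ≠ (S : Subgroup G) ⊓ ⁅Subgroup.normalizer ((S : Subgroup G) : Set G), Subgroup.normalizer ((S : Subgroup G) : Set G)⁆) : ∃ (P : Sylow p (Equiv.Perm (Fin (p ^ 2)))) (f : ↥(S : Subgroup G) →* ↥(P : Subgroup (Equiv.Perm (Fin (p ^ 2))))), Function.Surjective f := by
  haveI : NeZero p := ⟨(Fact.out : p.Prime).ne_zero⟩
  have hW : Cfsg.IsWeaklyClosed (S : Subgroup G) (S : Subgroup G) :=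
    ⟨le_rfl, fun g hg => Subgroup.eq_of_le_of_card_ge hg
      (Subgroup.card_map_of_injective (MulAut.conj g).injective).ge⟩
  obtain ⟨S', π, z, x, χ, hS'S, hSS', -, hz, hN⟩ := exists_config S hW h
  obtain rfl : S' = (S : Subgroup G) := le_antisymm hS'S hSS'
  let f := wrMap π z hz χ
  have hfz : totals (f z) = (∏ q, (f z).left q, Multiplicative.ofAdd 1) := Prod.ext rfl hz
  have hfx : totals (f (x : ↥(S : Subgroup G))) = (∏ i : Fin p, χ (MulAut.conjNormal (z ^ (i : ℕ))⁻¹ x), 1) := by
    refine Prod.ext ?_ x.2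
    show @Finset.prod (Zp p) (Zp p) _ Finset.univ (fun q => (f (x : ↥(S : Subgroup G))).left q) =
      ∏ i : Fin p, χ (MulAut.conjNormal (z ^ (i : ℕ))⁻¹ x)
    refine (Finset.prod_bij (fun (i : Fin p) _ => Multiplicative.ofAdd ((i : ℕ) : ZMod p))
      (fun a _ => Finset.mem_univ _) ?_ ?_ ?_).symm
    · intro a _ b _ hab
      have h2 := congrArg (fun t => (Multiplicative.toAdd t).val) hab
      simp [ZMod.val_natCast, Nat.mod_eq_of_lt a.2, Nat.mod_eq_of_lt b.2] at h2
      exact Fin.ext h2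
    · intro q _
      exact ⟨⟨(Multiplicative.toAdd q).val, ZMod.val_lt _⟩, Finset.mem_univ _, by simp⟩
    · intro a _
      show χ _ = χ _
      congr 1
      apply Subtype.ext
      rw [MulAut.conjNormal_apply]
      simp [tau, MonoidHom.mem_ker.mp x.2, ZMod.val_natCast, Nat.mod_eq_of_lt a.2]
  have hsurj : Function.Surjective f := by
    rw [← MonoidHom.range_eq_top]
    refine frattini_nongenerating ?_
    rw [eq_top_iff]
    intro w _
    set c := ∏ i : Fin p, χ (MulAut.conjNormal (z ^ (i : ℕ))⁻¹ x) with hc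
    obtain ⟨k, hk⟩ : ∃ k : ℕ, (∏ q, (f z).left q) ^ (Multiplicative.toAdd w.right).val * c ^ k = (totals w).1 := by
      obtain ⟨k, hk⟩ := (mem_powers_of_prime_card (G := Zp p) (p := p) (by simp) hN
        (g' := ((∏ q, (f z).left q) ^ (Multiplicative.toAdd w.right).val)⁻¹ * (totals w).1))
      exact ⟨k, by simp at hk; rw [hk, mul_inv_cancel_left]⟩
    set i := z ^ (Multiplicative.toAdd w.right).val * (x : ↥(S : Subgroup G)) ^ k with hi
    have ht : totals (f i) = totals w := by
      rw [hi, map_mul, map_mul, map_pow, map_pow, map_pow, map_pow, hfz, hfx]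
      refine Prod.ext ?_ ?_
      · simpa using hk
      · show (Multiplicative.ofAdd (1 : ZMod p)) ^ (Multiplicative.toAdd w.right).val * 1 ^ k = w.right
        rw [one_pow, mul_one, ← ofAdd_nsmul, nsmul_one, ZMod.natCast_zmod_val, ofAdd_toAdd]
    have hker : (f i)⁻¹ * w ∈ totals.ker := by rw [MonoidHom.mem_ker, map_mul, map_inv, ht, inv_mul_cancel]
    have hp' : IsPGroup p (Zp p ≀ᵣ Zp p) := IsPGroup.of_card (n := p + 1) (by
      rw [RegularWreathProduct.card, Nat.card_congr Multiplicative.toAdd, Nat.card_zmod, pow_succ])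
    have := Subgroup.mul_mem_sup (MonoidHom.mem_range.mpr ⟨i, rfl⟩ : f i ∈ f.range)
      (Cfsg.Agent.PGroupsBasic.commutator_le_frattini hp' (totals_ker_le hker))
    rwa [mul_inv_cancel_left] at this
  let P : Sylow p (Equiv.Perm (Fin (p ^ 2))) := default
  let e : ↥(P : Subgroup (Equiv.Perm (Fin (p ^ 2)))) ≃* IteratedWreathProduct (Zp p) 2 :=
    Sylow.mulEquivIteratedWreathProduct p 2 (Fin (p ^ 2)) (by simp) (Zp p) (by simp) P
  let e2 : IteratedWreathProduct (Zp p) 2 ≃* Zp p ≀ᵣ Zp p :=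
    RegularWreathProduct.congr (punitWreath (H := Zp p)) (MulEquiv.refl (Zp p))
  exact ⟨P, (e.trans e2).symm.toMonoidHom.comp f, (e.trans e2).symm.surjective.comp hsurj⟩

end Cfsg.Agent.S2807
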