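import Cfsg.Statements.S2809
import Cfsg.Agent.Lib.LocCoprime56

set_option autoImplicit false
open Cfsg

set_option linter.all false

namespace Cfsg.Agent.S2809
open Subgroup Cfsg.Agent.LocGroup56 Cfsg.Agent.LocCoprime56
open scoped commutatorElement

/-- Let H be a finite group, p a prime, R a p-subgroup of H with C_H(R) ≤ R, and L a subgroup of N_H(R) acting nilpotently on R (some iterated commutator [R, L, …, L] is trivial). Then L is a p-group. -/
theorem result {H : Type*} [Group H] [Finite H] {p : ℕ} [Fact p.Prime] (R : Subgroup H) (hR : IsPGroup p ↥R) (hC : Subgroup.centralizer (R : Set H) ≤ R) (L : Subgroup H) (hL : L ≤ Subgroup.normalizer (R : Set H)) (hnil : ∃ n : ℕ, Cfsg.iterCommutator R L n = ⊥) : IsPGroup p ↥L := by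
  obtain ⟨n, hn⟩ := hnil
  have hle : ∀ i, Cfsg.iterCommutator R L i ≤ R := by
    intro i
    induction i with
    | zero => exact le_rfl
    | succ i ih =>
      refine (Subgroup.commutator_le.mpr fun a ha b hb => ?_)
      have h1 := conj_mem_of_mem_normalizer (hL hb) (inv_mem (ih ha))
      rw [commutatorElement_def]
      have h2 := Subgroup.mul_mem R (ih ha) h1
      simpa only [mul_assoc] using h2
  refine isPGroup_of_coprime_eq_one fun a haL ha => ?_
  have hcm := commute_of_chain hR ha n (fun i => Cfsg.iterCommutator R L (n - i)) (fun i _ => hle _)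
    (by simpa using hn) (fun i hi x hx => by
      have e : n - i = (n - (i + 1)) + 1 := by omega
      show ⁅x, a⁆ ∈ Cfsg.iterCommutator R L (n - i)
      rw [e]
      exact Subgroup.commutator_mem_commutator hx haL) n le_rfl
  simp only [Nat.sub_self] at hcm
  have haR : a ∈ R := hC (Subgroup.mem_centralizer_iff.mpr fun x hx => (hcm x hx).symm.eq)
  exact eq_one_of_pGroup hR haR ha

end Cfsg.Agent.S2809
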