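import Cfsg.Statements.S2810
import Cfsg.Agent.Lib.LocCoprime56

set_option autoImplicit false
open Cfsg

set_option linter.all false

namespace Cfsg.Agent.S2810
open Subgroup Cfsg.Agent.LocGroup56 Cfsg.Agent.LocCoprime56
open scoped commutatorElement

/-- Let H be a finite group of characteristic p and L a subgroup of H centralizing every factor of some H-invariant chain 1 = A₀ ≤ A₁ ≤ … ≤ Aₙ = O_p(H) of normal subgroups (that is, [A_{i+1}, L] ≤ Aᵢ for each i). Then L ≤ O_p(H). -/
theorem result {H : Type*} [Group H] [Finite H] {p : ℕ} [Fact p.Prime] (hchar : Subgroup.centralizer (Cfsg.pCore p H : Set H) ≤ Cfsg.pCore p H) (L : Subgroup H) (n : ℕ) (A : Fin (n + 1) → Subgroup H) (h0 : A 0 = ⊥) (hn : A (Fin.last n) = Cfsg.pCore p H) (hmono : Monotone A) (hnorm : ∀ i, (A i).Normal) (hcent : ∀ i : Fin n, ⁅A i.succ, L⁆ ≤ A i.castSucc) : L ≤ Cfsg.pCore p H := by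
  let K : Subgroup H := Subgroup.normalClosure (L : Set H)
  have hK : ∀ i : Fin n, ∀ x ∈ A i.succ, ∀ g ∈ K, ⁅x, g⁆ ∈ A i.castSucc := by
    intro i
    haveI := hnorm i.castSucc
    haveI := hnorm i.succ
    haveI : ((A i.succ).map (QuotientGroup.mk' (A i.castSucc))).Normal :=
      (hnorm i.succ).map _ (QuotientGroup.mk'_surjective _)
    let C : Subgroup H := (Subgroup.centralizer
      (((A i.succ).map (QuotientGroup.mk' (A i.castSucc)) : Subgroup _) : Set _)).comap
        (QuotientGroup.mk' (A i.castSucc))
    have hmem : ∀ g, g ∈ C ↔ ∀ x ∈ A i.succ, ⁅x, g⁆ ∈ A i.castSucc := by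
      intro g
      simp only [C, Subgroup.mem_comap, Subgroup.mem_centralizer_iff, SetLike.mem_coe,
        Subgroup.mem_map]
      constructor
      · intro hg x hx
        rw [← QuotientGroup.eq_one_iff]
        have := hg _ ⟨x, hx, rfl⟩
        simp only [QuotientGroup.mk'_apply] at this
        simp only [commutatorElement_def, QuotientGroup.mk_mul, QuotientGroup.mk_inv, this]
        group
      · rintro hg _ ⟨x, hx, rfl⟩
        have := hg x hx
        rw [← QuotientGroup.eq_one_iff] at this
        simp only [QuotientGroup.mk'_apply]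
        simp only [commutatorElement_def, QuotientGroup.mk_mul, QuotientGroup.mk_inv] at this
        exact mul_inv_eq_iff_eq_mul.mp (mul_inv_eq_one.mp this)
    have hKC : K ≤ C := Subgroup.normalClosure_le_normal fun l hl =>
      (hmem l).mpr fun x hx => hcent i (Subgroup.commutator_mem_commutator hx hl)
    exact fun x hx g hg => (hmem g).mp (hKC hg) x hx
  have hKp : IsPGroup p ↥K := isPGroup_of_coprime_eq_one fun a haK ha => by
    let B : ℕ → Subgroup H := fun i => A ⟨min i n, Nat.lt_succ_of_le (min_le_right i n)⟩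
    have hcm := commute_of_chain (pCore_isPGroup p H) ha n B
      (fun i _ => by
        rw [← hn]
        exact hmono (Fin.mk_le_mk.mpr (min_le_right i n)))
      (by simp [B, h0]) (fun i hi x hx => by
        have e1 : (⟨min (i + 1) n, Nat.lt_succ_of_le (min_le_right _ _)⟩ : Fin (n + 1)) =
            (⟨i, hi⟩ : Fin n).succ := Fin.ext (by simp; omega)
        have e2 : (⟨min i n, Nat.lt_succ_of_le (min_le_right _ _)⟩ : Fin (n + 1)) =
            (⟨i, hi⟩ : Fin n).castSucc := Fin.ext (by simp; omega)
        simp only [B, e1] at hx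
        simp only [B, e2]
        exact hK ⟨i, hi⟩ x hx a haK) n le_rfl
    have e3 : B n = Cfsg.pCore p H := by
      rw [← hn]
      exact congrArg A (Fin.ext (by simp))
    rw [e3] at hcm
    exact eq_one_of_pGroup (pCore_isPGroup p H)
      (hchar (Subgroup.mem_centralizer_iff.mpr fun x hx => (hcm x hx).symm.eq)) ha
  exact (Subgroup.subset_normalClosure.trans
    (SetLike.coe_subset_coe.mpr (le_pCore Subgroup.normalClosure_normal hKp)))

end Cfsg.Agent.S2810
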