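import Cfsg.Statements.S2812
import Cfsg.Agent.Lib.GenFittingStructure
import Cfsg.Agent.Lib.CoprimeAction
import Cfsg.Agent.Lib.LocGroup56

set_option autoImplicit false
open Cfsg

set_option linter.all false

namespace Cfsg.Agent.S2812

open scoped Pointwise commutatorElement
open Subgroup Cfsg.Agent.ComponentsBasic Cfsg.Agent.ComponentsFitting Cfsg.Agent.ComponentsCores
  Cfsg.Agent.GenFittingStructure

theorem key {G : Type*} [Group G] [Finite G] {p : ℕ} [Fact p.Prime] (Y L : Subgroup G)
    (hY : IsPGroup p ↥Y) (hYL : Y ≤ Subgroup.normalizer (L : Set G))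
    (hgen : Cfsg.generalizedFittingSubgroup ↥L = ⊤)
    (hcop : (Nat.card ↥(Cfsg.fittingSubgroup ↥L)).Coprime p) :
    ⁅L, Y⁆ ⊔ (L ⊓ Subgroup.centralizer (Y : Set G)) = L ∧ ⁅L, Y⁆ = ⁅⁅L, Y⁆, Y⁆ := by
  set C := ⁅L, Y⁆ with hC
  set D := C ⊔ (L ⊓ Subgroup.centralizer (Y : Set G)) with hD
  have hCL : C ≤ L := Cfsg.Agent.CoprimeAction.commutator_le_self_of_le_normalizer hYL
  have hCn : L ≤ Subgroup.normalizer (C : Set G) := Subgroup.normalizer_commutator_ge_left L Y
  have hLD : L ≤ D := by
    have h0 : L = (Cfsg.layer ↥L).map L.subtype ⊔ (Cfsg.fittingSubgroup ↥L).map L.subtype := by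
      have := congrArg (Subgroup.map L.subtype) hgen
      rw [← MonoidHom.range_eq_map, L.range_subtype, Cfsg.generalizedFittingSubgroup, Subgroup.map_sup] at this
      exact this.symm
    rw [h0]
    refine sup_le (Subgroup.map_le_iff_le_comap.mpr (sSup_le fun K hK => ?_)) ?_
    · rw [← Subgroup.map_le_iff_le_comap]
      set K' := K.map L.subtype with hK'
      have hperf : ⁅K', K'⁆ = K' := by rw [hK', ← Subgroup.map_commutator, IsComponent.perfect hK]
      have hKL : K' ≤ L := Subgroup.map_subtype_le _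
      by_cases hall : ∀ y ∈ Y, K'.map (MulAut.conj y).toMonoidHom = K'
      · have hYK : Y ≤ Subgroup.normalizer (K' : Set G) := by
          refine Cfsg.Agent.LocGroup56.le_normalizer_of_conj fun y hy k hk => ?_
          have : (MulAut.conj y).toMonoidHom k ∈ K'.map (MulAut.conj y).toMonoidHom :=
            Subgroup.mem_map_of_mem _ hk
          rw [hall y hy] at this
          simpa using this
        have hKYle : ⁅K', Y⁆ ≤ K' := Cfsg.Agent.CoprimeAction.commutator_le_self_of_le_normalizer hYK
        haveI : (⁅K', Y⁆.subgroupOf K').Normal := (Subgroup.normal_subgroupOf_iff_le_normalizer hKYle).mpr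
          (Subgroup.normalizer_commutator_ge_left K' Y)
        have hq : Cfsg.IsQuasisimple ↥K' :=
          isQuasisimple_map_of_injective L.subtype L.subtype_injective hK.2
        rcases normal_le_center_or_eq_top hq (⁅K', Y⁆.subgroupOf K') with h | h
        · have hcK : ⁅⁅Y, K'⁆, K'⁆ = ⊥ := by
            rw [Subgroup.commutator_eq_bot_iff_le_centralizer, Subgroup.commutator_comm]
            intro z hz
            rw [Subgroup.mem_centralizer_iff]
            intro k hk
            exact congrArg Subtype.val (Subgroup.mem_center_iff.mp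
              (h (show (⟨z, hKYle hz⟩ : ↥K') ∈ ⁅K', Y⁆.subgroupOf K' from hz)) ⟨k, hk⟩)
          exact le_sup_of_le_right (le_inf hKL (Subgroup.commutator_eq_bot_iff_le_centralizer.mp
            (commutator_eq_bot_of_perfect hperf hcK)))
        · exact le_sup_of_le_left ((Subgroup.subgroupOf_eq_top.mp h).trans
            (Subgroup.commutator_mono hKL le_rfl))
      · simp only [not_forall] at hall
        obtain ⟨y, hy, hne⟩ := hall
        let φ := conjAutOfNormalizer L y (hYL hy)
        have hK2 : IsComponent (K.map φ.toMonoidHom) := isComponent_map_mulEquiv φ hK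
        have heq : (K.map φ.toMonoidHom).map L.subtype = K'.map (MulAut.conj y).toMonoidHom := by
          rw [hK', Subgroup.map_map, Subgroup.map_map]
          rfl
        have hcomm : ⁅K'.map (MulAut.conj y).toMonoidHom, K'⁆ = ⊥ := by
          rw [← heq, hK', ← Subgroup.map_commutator,
            components_commute hK2 hK (fun h => hne (by rw [← heq, h])), Subgroup.map_bot]
        refine le_sup_of_le_left ?_
        rw [← hperf, Subgroup.commutator_le]
        intro k hk k' hk'
        have h1 : k * y * k⁻¹ * y⁻¹ ∈ C := Subgroup.commutator_mem_commutator (hKL hk) hy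
        have h2 : Commute (y * k⁻¹ * y⁻¹) k' := by
          have := Subgroup.commutator_eq_bot_iff_le_centralizer.mp hcomm
            (show y * k⁻¹ * y⁻¹ ∈ K'.map (MulAut.conj y).toMonoidHom from ⟨k⁻¹, inv_mem hk, rfl⟩)
          exact (Subgroup.mem_centralizer_iff.mp this k' hk').symm
        have h3 : k' * (k * y * k⁻¹ * y⁻¹) * k'⁻¹ ∈ C :=
          (Subgroup.mem_normalizer_iff.mp (hCn (hKL hk')) _).mp h1
        have h4 : ⁅k, k'⁆ = (k * y * k⁻¹ * y⁻¹) * (k' * (k * y * k⁻¹ * y⁻¹) * k'⁻¹)⁻¹ := by
          have e : k * y * k⁻¹ * y⁻¹ = k * (y * k⁻¹ * y⁻¹) := by group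
          rw [e, commutatorElement_def]
          calc k * k' * k⁻¹ * k'⁻¹ = k * (k' * (y * k⁻¹ * y⁻¹)) * (y * k⁻¹ * y⁻¹)⁻¹ * k⁻¹ * k'⁻¹ := by
                group
            _ = k * ((y * k⁻¹ * y⁻¹) * k') * (y * k⁻¹ * y⁻¹)⁻¹ * k⁻¹ * k'⁻¹ := by rw [h2.eq]
            _ = _ := by group
        rw [h4]
        exact mul_mem h1 (inv_mem h3)
    · set F := (Cfsg.fittingSubgroup ↥L).map L.subtype with hF
      have hFL : F ≤ L := Subgroup.map_subtype_le _
      have hYF : Y ≤ Subgroup.normalizer (F : Set G) :=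
        hYL.trans (normalizer_le_normalizer_map_subtype L _)
      have hcard : Nat.card ↥F = Nat.card ↥(Cfsg.fittingSubgroup ↥L) :=
        Subgroup.card_subtype L _
      have hco : (Nat.card ↥Y).Coprime (Nat.card ↥F) := by
        obtain ⟨k, hk⟩ := hY.exists_card_eq
        rw [hk, hcard]
        exact (hcop.pow_right k).symm
      have hsolv : Group.IsSolvable ↥Y ∨ Group.IsSolvable ↥F := by
        haveI : Group.IsNilpotent ↥Y := hY.isNilpotent
        exact Or.inl inferInstance
      conv_lhs => rw [← Cfsg.Agent.CoprimeAction.commutator_sup_centralizer_eq hYF hco hsolv]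
      exact sup_le (le_sup_of_le_left (Subgroup.commutator_mono hFL le_rfl))
        (le_sup_of_le_right (inf_le_inf_right _ hFL))
  refine ⟨le_antisymm (sup_le hCL inf_le_left) hLD, le_antisymm ?_ ?_⟩
  · rw [hC, Subgroup.commutator_le]
    intro l hl y hy
    have hn : L ⊓ Subgroup.centralizer (Y : Set G) ≤ Subgroup.normalizer (C : Set G) :=
      inf_le_left.trans hCn
    have hmem : l ∈ ((C : Set G) * ((L ⊓ Subgroup.centralizer (Y : Set G) : Subgroup G) : Set G)) := by
      rw [← Subgroup.coe_mul_of_right_le_normalizer_left _ _ hn]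
      exact hLD hl
    obtain ⟨c, hc, x, hx, rfl⟩ := Set.mem_mul.mp hmem
    have hxy : y * x = x * y := Subgroup.mem_centralizer_iff.mp hx.2 y hy
    have e : ⁅c * x, y⁆ = ⁅c, y⁆ := by
      rw [commutatorElement_def, commutatorElement_def]
      calc c * x * y * (c * x)⁻¹ * y⁻¹ = c * (x * y) * x⁻¹ * c⁻¹ * y⁻¹ := by group
        _ = _ := by rw [← hxy]; group
    rw [e]
    exact Subgroup.commutator_mem_commutator hc hy
  · exact Cfsg.Agent.CoprimeAction.commutator_le_self_of_le_normalizer
      (Subgroup.normalizer_commutator_ge_right L Y)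


/-- Let H be a subgroup of the finite group G with O_p(H) = 1, Y a p-subgroup of G normalizing H, and L a subgroup of the generalized Fitting subgroup F*(H) that is subnormal in H and normalized by Y. Then L = [L, Y]·C_L(Y) and [L, Y] = [L, Y, Y]. -/
theorem result {G : Type*} [Group G] [Finite G] {p : ℕ} [Fact p.Prime] (H : Subgroup G) (hO : Cfsg.pCore p ↥H = ⊥) (Y : Subgroup G) (hY : IsPGroup p ↥Y) (hYH : Y ≤ Subgroup.normalizer (H : Set G)) (L : Subgroup G) (hLF : L ≤ (Cfsg.generalizedFittingSubgroup ↥H).map H.subtype) (hLsn : (L.subgroupOf H).IsSubnormal) (hYL : Y ≤ Subgroup.normalizer (L : Set G)) : ⁅L, Y⁆ ⊔ (L ⊓ Subgroup.centralizer (Y : Set G)) = L ∧ ⁅L, Y⁆ = ⁅⁅L, Y⁆, Y⁆ := by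
  have hLH : L ≤ H := hLF.trans (Subgroup.map_subtype_le _)
  set L' := L.subgroupOf H with hL'
  have hle : L' ≤ Cfsg.generalizedFittingSubgroup ↥H := by
    intro x hx
    obtain ⟨z, hz, hzx⟩ := hLF hx
    rwa [Subtype.ext hzx] at hz
  let e : ↥L' ≃* ↥L := Subgroup.subgroupOfEquivOfLe hLH
  have hgen' : Cfsg.generalizedFittingSubgroup ↥L' = ⊤ := by
    refine Subgroup.map_injective L'.subtype_injective ?_
    rw [Cfsg.generalizedFittingSubgroup, Subgroup.map_sup, sup_comm, subnormal_gen_eq hLsn hle,
      ← MonoidHom.range_eq_map, L'.range_subtype]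
  have hgen : Cfsg.generalizedFittingSubgroup ↥L = ⊤ := by
    rw [← gen_map_mulEquiv e, hgen', Subgroup.map_top_of_surjective _ e.surjective]
  have hcopH : (Nat.card ↥(Cfsg.fittingSubgroup ↥H)).Coprime p := by
    rw [Nat.coprime_comm, (Fact.out : p.Prime).coprime_iff_not_dvd]
    intro hd
    obtain ⟨P⟩ := (inferInstance : Nonempty (Sylow p ↥(Cfsg.fittingSubgroup ↥H)))
    haveI : (P : Subgroup ↥(Cfsg.fittingSubgroup ↥H)).Normal := inferInstance
    haveI := P.characteristic_of_normal inferInstance
    have hle1 := Cfsg.Agent.LocGroup56.le_pCore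
      (inferInstance : ((P : Subgroup ↥(Cfsg.fittingSubgroup ↥H)).map
        (Cfsg.fittingSubgroup ↥H).subtype).Normal) (P.2.map _)
    rw [hO, le_bot_iff, Subgroup.map_eq_bot_iff_of_injective _ (Subgroup.subtype_injective _)] at hle1
    exact P.not_dvd_index (by rw [hle1, Subgroup.index_bot]; exact hd)
  refine key Y L hY hYL hgen (Nat.Coprime.coprime_dvd_left ?_ hcopH)
  rw [← fitting_map_mulEquiv e, Subgroup.card_map_of_injective (f := e.toMonoidHom) e.injective,
    ← Subgroup.card_subtype L']
  exact Subgroup.card_dvd_of_le (fitting_map_subtype_le hLsn)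

end Cfsg.Agent.S2812
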