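import Cfsg.Statements.S2813
import Cfsg.Agent.Lib.LocCoprime56

set_option autoImplicit false
open Cfsg

set_option linter.all false

namespace Cfsg.Agent.S2813
open Subgroup Cfsg.Agent.LocGroup56 Cfsg.Agent.LocCoprime56
open scoped commutatorElement

/-- Let K be a subgroup of the finite group H with O_p(K) = 1 and Y a p-subgroup of N_H(K) with [K, Y, Y] = 1. Then [K, Y] = 1. -/
theorem result {H : Type*} [Group H] [Finite H] {p : ℕ} [Fact p.Prime] (K : Subgroup H) (hO : Cfsg.pCore p ↥K = ⊥) (Y : Subgroup H) (hY : IsPGroup p ↥Y) (hYK : Y ≤ Subgroup.normalizer (K : Set H)) (hq : ⁅⁅K, Y⁆, Y⁆ = ⊥) : ⁅K, Y⁆ = ⊥ := by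
  set N : Subgroup H := ⁅K, Y⁆ with hN
  have hNK : N ≤ K := Subgroup.commutator_le.mpr fun k hk y hy => by
    have h1 := conj_mem_of_mem_normalizer (hYK hy) (inv_mem hk)
    rw [commutatorElement_def]
    have h2 := Subgroup.mul_mem K hk h1
    simpa only [mul_assoc] using h2
  have hfix : ∀ n ∈ N, ∀ y ∈ Y, Commute n y := fun n hn y hy => by
    have := Subgroup.commutator_mem_commutator hn hy
    rw [hq, Subgroup.mem_bot, commutatorElement_eq_one_iff_commute] at this
    exact this
  have hconj : ∀ k ∈ K, ∀ n ∈ N, k * n * k⁻¹ ∈ N := by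
    intro k hk n hn
    rw [hN, Subgroup.commutator_def] at hn ⊢
    induction hn using Subgroup.closure_induction with
    | mem x hx =>
      obtain ⟨k', hk', y, hy, rfl⟩ := hx
      have e : k * ⁅k', y⁆ * k⁻¹ = ⁅k * k', y⁆ * ⁅k, y⁆⁻¹ := by
        simp only [commutatorElement_def]; group
      rw [e]
      exact Subgroup.mul_mem _ (Subgroup.subset_closure ⟨k * k', mul_mem hk hk', y, hy, rfl⟩)
        (Subgroup.inv_mem _ (Subgroup.subset_closure ⟨k, hk, y, hy, rfl⟩))
    | one => simpa using Subgroup.one_mem _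
    | mul a b _ _ ha hb =>
      have := Subgroup.mul_mem _ ha hb
      simpa only [mul_assoc, inv_mul_cancel_left] using this
    | inv a _ ha =>
      have := Subgroup.inv_mem _ ha
      simpa only [mul_inv_rev, inv_inv, mul_assoc] using this
  have hgen : ∀ k ∈ K, ∀ y ∈ Y, ∀ n ∈ N, Commute ⁅k, y⁆ n := by
    intro k hk y hy n hn
    have hn' := hfix n hn y hy
    have h1 := hfix _ (hconj k⁻¹ (inv_mem hk) n hn) y hy
    simp only [inv_inv] at h1
    rw [commutatorElement_def]
    rw [Commute, SemiconjBy]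
    calc k * y * k⁻¹ * y⁻¹ * n = k * y * k⁻¹ * (y⁻¹ * n) := by group
      _ = k * y * k⁻¹ * (n * y⁻¹) := by rw [(hn'.inv_right).symm.eq]
      _ = k * (y * (k⁻¹ * n * k)) * k⁻¹ * y⁻¹ := by group
      _ = k * ((k⁻¹ * n * k) * y) * k⁻¹ * y⁻¹ := by rw [h1.symm.eq]
      _ = n * (k * y * k⁻¹ * y⁻¹) := by group
  have hab : ∀ a ∈ N, ∀ b ∈ N, Commute a b := by
    intro a ha b hb
    have hle : N ≤ Subgroup.centralizer ({b} : Set H) := Subgroup.commutator_le.mpr
      fun k hk y hy => Subgroup.mem_centralizer_iff.mpr fun m hm => by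
        rw [Set.mem_singleton_iff.mp hm]
        exact (hgen k hk y hy b hb).symm.eq
    exact (Subgroup.mem_centralizer_iff.mp (hle ha) b rfl).symm
  have hp : ∀ n ∈ N, ∃ j : ℕ, n ^ p ^ j = 1 := by
    intro n hn
    rw [hN, Subgroup.commutator_def] at hn
    have hn' : n ∈ N ∧ ∃ j : ℕ, n ^ p ^ j = 1 := by
      induction hn using Subgroup.closure_induction with
      | mem x hx =>
        obtain ⟨k, hk, y, hy, rfl⟩ := hx
        refine ⟨Subgroup.commutator_mem_commutator hk hy, ?_⟩
        have hpow : ∀ m : ℕ, ⁅k, y⁆ ^ m = ⁅k, y ^ m⁆ := by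
          intro m
          induction m with
          | zero => simp
          | succ m ih =>
            have hc := hfix _ (Subgroup.commutator_mem_commutator hk hy) (y ^ m) (pow_mem hy m)
            have e : ⁅k, y ^ (m + 1)⁆ = ⁅k, y ^ m⁆ * (y ^ m * ⁅k, y⁆ * (y ^ m)⁻¹) := by
              rw [pow_succ]; simp only [commutatorElement_def]; group
            rw [e, pow_succ, ih, ← hc.eq, mul_inv_cancel_right]
        obtain ⟨j, hj⟩ := hY ⟨y, hy⟩
        exact ⟨j, by rw [hpow, show y ^ p ^ j = 1 from by simpa [Subtype.ext_iff] using hj]; simp⟩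
      | one => exact ⟨one_mem N, 0, by simp⟩
      | mul a b _ _ ha hb =>
        obtain ⟨haN, i, hi⟩ := ha
        obtain ⟨hbN, j, hj⟩ := hb
        refine ⟨mul_mem haN hbN, i + j, ?_⟩
        rw [(hab a haN b hbN).mul_pow]
        rw [pow_add, pow_mul, hi, one_pow, one_mul, mul_comm (p ^ i), pow_mul, hj, one_pow]
      | inv a _ ha =>
        obtain ⟨haN, i, hi⟩ := ha
        exact ⟨inv_mem haN, i, by rw [inv_pow, hi, inv_one]⟩
    exact hn'.2
  have hnor : (N.subgroupOf K).Normal :=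
    ⟨fun x hx k => hconj (k : H) k.2 (x : H) hx⟩
  have hP : IsPGroup p ↥(N.subgroupOf K) := fun x => by
    obtain ⟨j, hj⟩ := hp ((x : K) : H) x.2
    exact ⟨j, Subtype.ext (Subtype.ext (by simpa using hj))⟩
  have h0 := le_pCore hnor hP
  rw [hO, le_bot_iff, Subgroup.subgroupOf_eq_bot] at h0
  exact h0.eq_bot_of_le hNK

end Cfsg.Agent.S2813
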