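import Cfsg.Statements.S2814
import Cfsg.Agent.Lib.LocGroup56
import Cfsg.Agent.Lib.TransferPResidual
import Cfsg.Prelude.Def_LocalStructure

set_option autoImplicit false
open Cfsg

set_option linter.all false

namespace Cfsg.Agent.S2814
open Subgroup Cfsg.Agent.LocGroup56
open scoped commutatorElement


variable {G : Type*} [Group G] [Finite G]

theorem isSubnormal_of_nilpotent [Group.IsNilpotent G] (H : Subgroup G) : H.IsSubnormal := by
  suffices key : ∀ (k : ℕ) (H : Subgroup G), H.index = k → H.IsSubnormal from key _ H rfl
  intro k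
  induction k using Nat.strong_induction_on with
  | _ k ih =>
    intro H hk
    by_cases hH : H = ⊤
    · exact hH ▸ Subgroup.IsSubnormal.top
    · have hlt : H < Subgroup.normalizer (H : Set G) :=
        Group.normalizerCondition_of_isNilpotent H (lt_top_iff_ne_top.mpr hH)
      refine Subgroup.IsSubnormal.step H _ Subgroup.le_normalizer
        (ih _ ?_ (Subgroup.normalizer (H : Set G)) rfl)
        ((Subgroup.normal_subgroupOf_iff_le_normalizer Subgroup.le_normalizer).mpr le_rfl)
      rw [← hk]
      exact Subgroup.index_strictAnti hlt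

theorem isSubnormal_subnormalClosure (A : Subgroup G) :
    (Cfsg.subnormalClosure A).IsSubnormal := by
  suffices key : ∀ s : Set (Subgroup G), s.Finite → (∀ K ∈ s, K.IsSubnormal) →
      (sInf s).IsSubnormal from key _ (Set.toFinite _) fun K hK => hK.2
  intro s hs
  induction s, hs using Set.Finite.induction_on with
  | empty => intro _; rw [sInf_empty]; exact Subgroup.IsSubnormal.top
  | insert _ _ ih =>
    intro h
    rw [sInf_insert]
    exact (h _ (Set.mem_insert _ _)).inf (ih fun K hK => h K (Set.mem_insert_of_mem _ hK))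

/-- Let A be a subgroup of the finite group H and K the subnormal closure of A (intersection of the subnormal subgroups containing A). Then K is the normal closure of A inside K and N_H(A) ≤ N_H(K); K = A·O^p(K), O^p(K) being generated by the elements of K of order prime to p; and if A is a p-group, O^p(K) = [O^p(K), A]. -/
theorem result {H : Type*} [Group H] [Finite H] {p : ℕ} [Fact p.Prime] (A : Subgroup H) (K : Subgroup H) (hK : K = Cfsg.subnormalClosure A) : (Subgroup.normalClosure ((A.subgroupOf K : Subgroup ↥K) : Set ↥K)).map K.subtype = K ∧ Subgroup.normalizer (A : Set H) ≤ Subgroup.normalizer (K : Set H) ∧ A ⊔ (Cfsg.pResidual p ↥K).map K.subtype = K ∧ (IsPGroup p ↥A → ⁅(Cfsg.pResidual p ↥K).map K.subtype, A⁆ = (Cfsg.pResidual p ↥K).map K.subtype) := by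
  have hAK : A ≤ K := hK ▸ le_sInf fun L hL => hL.1
  have hKsn : K.IsSubnormal := hK ▸ isSubnormal_subnormalClosure A
  have hmin : ∀ L : Subgroup ↥K, A.subgroupOf K ≤ L → L.IsSubnormal → L = ⊤ := by
    intro L hL hLsn
    have h1 : K ≤ L.map K.subtype := by
      conv_lhs => rw [hK]
      refine sInf_le ⟨fun a ha => ⟨⟨a, hAK ha⟩, hL ha, rfl⟩, hLsn.trans' hKsn⟩
    exact top_unique fun x _ => by
      obtain ⟨y, hy, e⟩ := h1 x.2
      exact (K.subtype_injective e) ▸ hy
  set R := Cfsg.pResidual p ↥K with hR
  haveI : R.Normal := Subgroup.normal_of_characteristic R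
  set A' := A.subgroupOf K with hA'
  refine ⟨?_, ?_, ?_, fun hAp => ?_⟩
  · rw [hmin _ Subgroup.subset_normalClosure Subgroup.normalClosure_normal.isSubnormal,
      ← MonoidHom.range_eq_map, Subgroup.range_subtype]
  · rw [hK]
    refine le_normalizer_of_conj fun g hg x hx => ?_
    simp only [Cfsg.subnormalClosure, Subgroup.mem_sInf, Set.mem_setOf_eq] at hx ⊢
    intro L hL
    have h2 : L.map (MulAut.conj g⁻¹).toMonoidHom ∈
        {K : Subgroup H | A ≤ K ∧ K.IsSubnormal} := by
      refine ⟨fun a ha => ?_, hL.2.map (MulAut.conj g⁻¹).surjective⟩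
      exact ⟨g * a * g⁻¹, hL.1 (conj_mem_of_mem_normalizer hg ha), by simp [mul_assoc]⟩
    obtain ⟨l, hl, e⟩ := hx _ h2
    rw [← e]
    simpa [mul_assoc] using hl
  · have h1 : (A' ⊔ R).IsSubnormal := by
      haveI := (Cfsg.Agent.TransferPResidual.isPGroup_quotient_pResidual (G := ↥K) (p := p)).isNilpotent
      have h2 := (isSubnormal_of_nilpotent (A'.map (QuotientGroup.mk' R))).comap (QuotientGroup.mk' R)
      rwa [Subgroup.comap_map_eq, QuotientGroup.ker_mk'] at h2
    have h2 := congrArg (Subgroup.map K.subtype) (hmin _ le_sup_left h1)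
    rwa [Subgroup.map_sup, ← MonoidHom.range_eq_map, Subgroup.range_subtype,
      Subgroup.subgroupOf_map_subtype, inf_of_le_left hAK] at h2
  · set N : Subgroup ↥K := ⁅R, A'⁆ with hN
    have hNR : N ≤ R := Subgroup.commutator_le_left R A'
    have h3 : A' ⊔ R = ⊤ := by
      haveI := (Cfsg.Agent.TransferPResidual.isPGroup_quotient_pResidual (G := ↥K) (p := p)).isNilpotent
      have h2 := (isSubnormal_of_nilpotent (A'.map (QuotientGroup.mk' R))).comap (QuotientGroup.mk' R)
      rw [Subgroup.comap_map_eq, QuotientGroup.ker_mk'] at h2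
      exact hmin _ le_sup_left h2
    haveI hNn : N.Normal := by
      rw [← Subgroup.normalizer_eq_top_iff, ← top_le_iff, ← h3]
      refine sup_le ?_ ?_
      · exact le_normalizer_trans_map fun a ha => by
          rw [hN, Subgroup.map_commutator, map_conj_eq_self ha]
          congr 1
          exact Subgroup.mem_normalizer_iff_map_conj_eq.mp
            (Subgroup.le_normalizer_of_normal (K := (⊤ : Subgroup ↥K)) (Subgroup.mem_top a))
      · refine le_normalizer_of_conj fun r hr x hx => ?_
        rw [hN, Subgroup.commutator_def] at hx ⊢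
        induction hx using Subgroup.closure_induction with
        | mem y hy =>
          obtain ⟨s, hs, a, ha, rfl⟩ := hy
          have e : r * ⁅s, a⁆ * r⁻¹ = ⁅r * s, a⁆ * ⁅r, a⁆⁻¹ := by
            simp only [commutatorElement_def]; group
          rw [e]
          exact Subgroup.mul_mem _ (Subgroup.subset_closure ⟨r * s, mul_mem hr hs, a, ha, rfl⟩)
            (Subgroup.inv_mem _ (Subgroup.subset_closure ⟨r, hr, a, ha, rfl⟩))
        | one => simpa using Subgroup.one_mem _
        | mul a b _ _ ha hb =>
          have := Subgroup.mul_mem _ ha hb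
          simpa only [mul_assoc, inv_mul_cancel_left] using this
        | inv a _ ha =>
          have := Subgroup.inv_mem _ ha
          simpa only [mul_inv_rev, inv_inv, mul_assoc] using this
    let f := QuotientGroup.mk' N
    have hAn : (A'.map f).Normal := by
      rw [← Subgroup.normalizer_eq_top_iff, ← top_le_iff,
        ← Subgroup.map_top_of_surjective f (QuotientGroup.mk'_surjective N), ← h3, Subgroup.map_sup]
      refine sup_le Subgroup.le_normalizer ((le_trans ?_ (Subgroup.centralizer_le_normalizer _)))
      rintro _ ⟨r, hr, rfl⟩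
      refine Subgroup.mem_centralizer_iff.mpr ?_
      rintro _ ⟨a, ha, rfl⟩
      have hc : f ⁅r, a⁆ = 1 :=
        (QuotientGroup.eq_one_iff _).mpr (Subgroup.commutator_mem_commutator hr ha)
      rw [map_commutatorElement, commutatorElement_eq_one_iff_commute] at hc
      exact hc.symm.eq
    have htop : A'.map f = ⊤ := by
      have h5 := hmin _ (Subgroup.le_comap_map f A') (hAn.comap f).isSubnormal
      rw [← Subgroup.map_comap_eq_self_of_surjective (QuotientGroup.mk'_surjective N) (A'.map f), h5,
        Subgroup.map_top_of_surjective f (QuotientGroup.mk'_surjective N)]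
    have hq : IsPGroup p (↥K ⧸ N) := by
      have h6 := (hAp.comap_of_injective _ K.subtype_injective).map f
      rw [show A.comap K.subtype = A' from rfl, htop] at h6
      exact h6.of_equiv Subgroup.topEquiv
    have h7 : R ≤ N := Cfsg.Agent.TransferPResidual.pResidual_le_of_isPGroup_quotient hq
    have h8 := congrArg (Subgroup.map K.subtype) (le_antisymm hNR h7)
    rwa [hN, Subgroup.map_commutator, Subgroup.subgroupOf_map_subtype, inf_of_le_left hAK] at h8

end Cfsg.Agent.S2814
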