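import Cfsg.Statements.S2815
import Cfsg.Agent.Lib.ComponentsBasic
import Cfsg.Agent.Lib.ComponentsFitting
import Cfsg.Agent.Lib.TransferPResidual
import Cfsg.Agent.Lib.LocGroup56
import Cfsg.Agent.Lib.CoprimeTools

set_option autoImplicit false
open Cfsg

set_option linter.all false

namespace Cfsg.Agent.S2815

open Subgroup Cfsg.Agent.TransferPResidual Cfsg.Agent.ComponentsBasic Cfsg.Agent.ComponentsFitting

/-- A subgroup centralising a perfect subgroup modulo commutators. -/
theorem comm_of_comm_le {H : Type*} [Group H] {K C : Subgroup H} (hK : ⁅K, K⁆ = K)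
    (h : ⁅⁅C, K⁆, K⁆ = ⊥) : C ≤ Subgroup.centralizer (K : Set H) := by
  have h1 := commutator_eq_bot_of_perfect hK h
  rw [Subgroup.commutator_comm] at h1
  exact Subgroup.commutator_eq_bot_iff_le_centralizer.mp h1


/-- Let H be a finite group and p a prime dividing its order with O_p(H) = 1, and suppose K = O^p(H) (generated by the elements of order prime to p) is quasisimple. Then K = F*(H); for every nontrivial p-subgroup Y of H, K = [K, Y] and K lies in the subgroup generated by the K-conjugates of Y; every normal subgroup of H not containing K has order prime to p; and H is p-irreducible. -/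
theorem result {H : Type*} [Group H] [Finite H] {p : ℕ} [Fact p.Prime] (hp : p ∣ Nat.card H) (hO : Cfsg.pCore p H = ⊥) (hq : Cfsg.IsQuasisimple ↥(Cfsg.pResidual p H)) : Cfsg.pResidual p H = Cfsg.generalizedFittingSubgroup H ∧ (∀ Y : Subgroup H, IsPGroup p ↥Y → Y ≠ ⊥ → ⁅Cfsg.pResidual p H, Y⁆ = Cfsg.pResidual p H ∧ Cfsg.pResidual p H ≤ ⨆ k : ↥(Cfsg.pResidual p H), Y.map (MulAut.conj (k : H)).toMonoidHom) ∧ (∀ C : Subgroup H, C.Normal → ¬ Cfsg.pResidual p H ≤ C → (Nat.card ↥C).Coprime p) ∧ Cfsg.IsPIrreducible p H := by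
  set K := Cfsg.pResidual p H with hKdef
  haveI hKn : K.Normal := by rw [hKdef]; infer_instance
  have hperf : ⁅K, K⁆ = K := isQuasisimple_perfect hq
  have hKc : IsComponent K := ⟨Subgroup.Normal.isSubnormal hKn, hq⟩
  have hQ : IsPGroup p (H ⧸ K) := isPGroup_quotient_pResidual
  haveI : Group.IsNilpotent (H ⧸ K) := hQ.isNilpotent
  -- K = F*(H)
  have hF : K = Cfsg.generalizedFittingSubgroup H := by
    refine le_antisymm (component_le_gen hKc) (sup_le (sSup_le fun L hL => ?_) ?_)
    · exact perfect_le_of_quotient_solvable (IsComponent.perfect hL) K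
    · rw [fittingSubgroup_eq_iSup]
      refine iSup_le fun q => ?_
      have hqp : (q : ℕ).Prime := Nat.prime_of_mem_primeFactors q.2
      haveI := Fact.mk hqp
      by_cases hqe : (q : ℕ) = p
      · rw [hqe, hO]; exact bot_le
      · intro x hx
        obtain ⟨k, hk⟩ := (IsPGroup.iff_orderOf.mp (Cfsg.Agent.LocGroup56.pCore_isPGroup (q : ℕ) H)) ⟨x, hx⟩
        rw [← Subgroup.orderOf_coe] at hk
        refine mem_pResidual_of_coprime ?_
        rw [show orderOf x = (q : ℕ) ^ k from hk]
        exact Nat.Coprime.pow_left _ ((Nat.coprime_primes hqp Fact.out).mpr hqe)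
  -- the centraliser of K
  set C := Subgroup.centralizer (K : Set H) with hCdef
  have hCK : C ≤ K := by
    have := centralizer_gen_le (G := H)
    rw [← hF] at this
    exact this
  have hCp : ∀ x ∈ C, ∀ k : ℕ, x ^ p ^ k = 1 → x = 1 := by
    intro x hx k hk
    have hab : ∀ a ∈ C, ∀ b ∈ C, Commute a b := fun a ha b hb =>
      (Subgroup.mem_centralizer_iff.mp hb a (hCK ha))
    let P : Subgroup H := {
      carrier := {a | a ∈ C ∧ ∃ k : ℕ, a ^ p ^ k = 1}
      mul_mem' := by
        rintro a b ⟨ha, ka, hka⟩ ⟨hb, kb, hkb⟩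
        refine ⟨C.mul_mem ha hb, ka + kb, ?_⟩
        rw [(hab a ha b hb).mul_pow, pow_add, pow_mul, hka, one_pow, one_mul, mul_comm, pow_mul,
          hkb, one_pow]
      one_mem' := ⟨C.one_mem, 0, by simp⟩
      inv_mem' := by
        rintro a ⟨ha, ka, hka⟩
        exact ⟨C.inv_mem ha, ka, by rw [inv_pow, hka, inv_one]⟩ }
    have hCn : C.Normal := by rw [hCdef]; infer_instance
    have hPn : P.Normal := ⟨by
      rintro a ⟨ha, ka, hka⟩ g
      exact ⟨hCn.conj_mem a ha g, ka, by rw [conj_pow, hka]; group⟩⟩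
    have hPp : IsPGroup p ↥P := by
      rintro ⟨a, ha, ka, hka⟩
      exact ⟨ka, Subtype.ext hka⟩
    have := Cfsg.Agent.LocGroup56.le_pCore hPn hPp (show x ∈ P from ⟨hx, k, hk⟩)
    rwa [hO, Subgroup.mem_bot] at this
  have hCcop : (Nat.card ↥C).Coprime p := by
    rw [Nat.coprime_comm, (Fact.out : p.Prime).coprime_iff_not_dvd]
    intro hd
    obtain ⟨x, hx⟩ := exists_prime_orderOf_dvd_card' (G := ↥C) p hd
    have hx1 := hCp (x : H) x.2 1 (by
      rw [pow_one, ← hx, ← Subgroup.orderOf_coe, pow_orderOf_eq_one])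
    rw [← Subgroup.orderOf_coe, hx1, orderOf_one] at hx
    exact (Fact.out : p.Prime).ne_one hx.symm
  have h3 : ∀ N : Subgroup H, N.Normal → ¬ K ≤ N → N ≤ C := by
    intro N hN hKN
    have h4 : N ⊓ K ≤ C := by
      rcases normal_le_center_or_eq_top hq (N.subgroupOf K) with h | h
      · intro z hz
        rw [hCdef, Subgroup.mem_centralizer_iff]
        intro k hk
        exact congrArg Subtype.val (Subgroup.mem_center_iff.mp
          (h (show (⟨z, hz.2⟩ : ↥K) ∈ N.subgroupOf K from hz.1)) ⟨k, hk⟩)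
      · exact absurd (Subgroup.subgroupOf_eq_top.mp h) hKN
    refine comm_of_comm_le hperf ?_
    rw [Subgroup.commutator_eq_bot_iff_le_centralizer]
    exact (le_inf (Subgroup.commutator_le_left N K) (Subgroup.commutator_le_right N K)).trans h4
  refine ⟨hF, fun Y hY hY1 => ?_, fun N hN hKN => ?_, fun hcl => ?_, fun N hN hNc => ?_⟩
  · have hle : ⁅K, Y⁆ ≤ K := Subgroup.commutator_le_left K Y
    have hnorm : K ≤ Subgroup.normalizer ((⁅K, Y⁆ : Subgroup H) : Set H) :=
      Subgroup.normalizer_commutator_ge_left K Y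
    have heq : ⁅K, Y⁆ = K := by
      haveI : (⁅K, Y⁆.subgroupOf K).Normal := (Subgroup.normal_subgroupOf_iff_le_normalizer hle).mpr hnorm
      rcases normal_le_center_or_eq_top hq (⁅K, Y⁆.subgroupOf K) with h | h
      · exfalso
        have hc : ⁅K, Y⁆ ≤ C := by
          intro z hz
          rw [hCdef, Subgroup.mem_centralizer_iff]
          intro k hk
          exact congrArg Subtype.val (Subgroup.mem_center_iff.mp
            (h (show (⟨z, hle hz⟩ : ↥K) ∈ ⁅K, Y⁆.subgroupOf K from hz)) ⟨k, hk⟩)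
        have hYC : Y ≤ C := by
          refine comm_of_comm_le hperf ?_
          rw [Subgroup.commutator_eq_bot_iff_le_centralizer, Subgroup.commutator_comm]
          exact hc
        refine hY1 (Subgroup.eq_bot_iff_forall _ |>.mpr fun y hy => ?_)
        obtain ⟨k, hk⟩ := hY ⟨y, hy⟩
        exact hCp y (hYC hy) k (congrArg Subtype.val hk)
      · exact le_antisymm hle (Subgroup.subgroupOf_eq_top.mp h)
    refine ⟨heq, ?_⟩
    conv_lhs => rw [← heq]
    rw [Subgroup.commutator_le]
    intro k hk y hy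
    have h1 : k * y * k⁻¹ ∈ ⨆ k : ↥K, Y.map (MulAut.conj (k : H)).toMonoidHom :=
      Subgroup.mem_iSup_of_mem ⟨k, hk⟩ ⟨y, hy, rfl⟩
    have h2 : y⁻¹ ∈ ⨆ k : ↥K, Y.map (MulAut.conj (k : H)).toMonoidHom :=
      Subgroup.mem_iSup_of_mem ⟨1, K.one_mem⟩ ⟨y⁻¹, Y.inv_mem hy, by simp⟩
    exact mul_mem h1 h2
  · exact Nat.Coprime.coprime_dvd_left (Subgroup.card_dvd_of_le (h3 N hN hKN)) hCcop
  · obtain ⟨P⟩ := (inferInstance : Nonempty (Sylow p H))
    have h1 := Cfsg.Agent.LocGroup56.le_pCore (hcl P) P.2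
    rw [hO, le_bot_iff] at h1
    exact P.not_dvd_index (by rw [h1, Subgroup.index_bot]; exact hp)
  · by_contra hKN
    have hco : (Nat.card ↥N).Coprime p :=
      Nat.Coprime.coprime_dvd_left (Subgroup.card_dvd_of_le (h3 N hN hKN)) hCcop
    refine hNc fun P => ?_
    have h1 : (P : Subgroup ↥N) = ⊥ := by
      obtain ⟨k, hk⟩ := P.2.exists_card_eq
      refine Subgroup.card_eq_one.mp ?_
      have hd : p ^ k ∣ Nat.card ↥N := hk ▸ Subgroup.card_subgroup_dvd_card _
      rw [hk]
      exact (hco.pow_right k).symm.eq_one_of_dvd hd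
    rw [h1]; infer_instance

end Cfsg.Agent.S2815
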