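import Cfsg.Statements.S2817
import Cfsg.Agent.Lib.ComponentsCommutator

set_option autoImplicit false
open Cfsg

namespace Cfsg.Agent.S2817

open Cfsg.Agent.ComponentsCommutator Subgroup
open scoped commutatorElement
open Cfsg.Agent.ComponentsBasic Cfsg.Agent.ComponentsCores Cfsg.Agent.ComponentsFitting

variable {H : Type*} [Group H] [Finite H]

/-- A central subgroup centralized by coprime operators generating `L` by commutators lies in `Φ(L)`. -/
theorem le_frattini_of_central {L Q Z : Subgroup H} (hQL : Q ≤ normalizer (L : Set H))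
    (hLQ : ⁅L, Q⁆ = L) (hZL : Z ≤ L) (hcen : L ≤ centralizer (Z : Set H))
    (hQZ : Q ≤ centralizer (Z : Set H)) (hcop : (Nat.card Q).Coprime (Nat.card Z)) :
    Z ≤ (frattini L).map L.subtype := by
  classical
  haveI : Fintype Q := Fintype.ofFinite _
  let c : Q → (L →* L) := fun q =>
    { toFun := fun l => ⟨(q : H) * l * (q : H)⁻¹, CoprimeAction.conj_mem (hQL q.2) l.2⟩
      map_one' := Subtype.ext (by simp)
      map_mul' := fun a b => Subtype.ext (by simp [mul_assoc]) }
  let ν : L →* Abelianization L := ∏ q : Q, Abelianization.of.comp (c q)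
  have hν : ∀ (q₀ : Q) (l : L), ν (c q₀ l) = ν l := by
    intro q₀ l
    simp only [ν, MonoidHom.finsetProd_apply, MonoidHom.comp_apply]
    refine Fintype.prod_equiv (Equiv.mulRight q₀) _ _ fun q => ?_
    congr 1
    exact Subtype.ext (by simp [c, mul_assoc])
  have hker : L ≤ ν.ker.map L.subtype := by
    conv_lhs => rw [← hLQ]
    rw [commutator_le]
    intro l hl q hq
    refine ⟨⟨l, hl⟩ * (c ⟨q, hq⟩ ⟨l, hl⟩)⁻¹, ?_, by simp [c, commutatorElement_def, mul_assoc]⟩
    simp [MonoidHom.mem_ker, hν]
  intro z hz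
  set w : L := ⟨z, hZL hz⟩ with hwdef
  have h1 : ν w = 1 := by
    obtain ⟨l, hl, he⟩ := hker (hZL hz)
    rw [show w = l from Subtype.ext he.symm]
    exact hl
  have h2 : (Abelianization.of w) ^ Nat.card Q = 1 := by
    rw [← h1]
    simp only [ν, MonoidHom.finsetProd_apply, MonoidHom.comp_apply]
    rw [Finset.prod_congr rfl (g := fun _ => Abelianization.of w), Finset.prod_const,
      Finset.card_univ, Nat.card_eq_fintype_card]
    intro q _
    congr 1
    refine Subtype.ext ?_
    show (q : H) * z * (q : H)⁻¹ = z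
    rw [← mem_centralizer_iff.mp (hQZ q.2) z hz, mul_inv_cancel_right]
  have h3 : Abelianization.of w = 1 := by
    rw [← orderOf_eq_one_iff]
    refine Nat.eq_one_of_dvd_coprimes hcop (orderOf_dvd_of_pow_eq_one h2) ?_
    refine (orderOf_map_dvd _ w).trans ?_
    rw [← orderOf_coe]
    show orderOf z ∣ _
    rw [← orderOf_mk z hz]
    exact _root_.orderOf_dvd_natCard _
  refine ⟨w, ?_, rfl⟩
  rw [SetLike.mem_coe, frattini, Order.radical, Subgroup.mem_iInf]
  intro M
  rw [Subgroup.mem_iInf]
  intro hM
  by_contra hwM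
  have hcw : ∀ m : L, w * m = m * w := fun m =>
    Subtype.ext (mem_centralizer_iff.mp (hcen m.2) z hz)
  have htop : M ⊔ zpowers w = ⊤ :=
    hM.2 _ (lt_of_le_not_ge le_sup_left fun h => hwM (h (mem_sup_right (mem_zpowers w))))
  haveI hn : M.Normal := by
    rw [← normalizer_eq_top_iff, ← top_le_iff, ← htop]
    refine sup_le le_normalizer ?_
    rw [zpowers_le, mem_normalizer_iff]
    intro m
    rw [hcw m, mul_inv_cancel_right]
  have hcomm : commutator L ≤ M := by
    refine Subgroup.Normal.commutator_le_of_self_sup_commutative_eq_top htop ?_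
    exact inferInstance
  exact hwM (hcomm (by rw [← Abelianization.ker_of]; exact h3))

/-- Let H be a finite group and p a prime with O_p(H) = 1, Q a p-subgroup of H, L = [F*(H), Q], and F the largest normal subgroup of F*(H) centralized by Q (a normal subgroup of F*(H) centralized by Q and containing every such). Then F = C_{F*(H)}(LQ); L = [L, Q]; L ∩ F ≤ Φ(L); every p-subgroup B of N_H(Q) with [L, B] ≤ F satisfies [L, B] = 1; and C_H(FL) has order prime to p. -/
theorem result {H : Type*} [Group H] [Finite H] {p : ℕ} [Fact p.Prime] (hO : Cfsg.pCore p H = ⊥) (Q : Subgroup H) (hQ : IsPGroup p ↥Q) (L : Subgroup H) (hL : L = ⁅Cfsg.generalizedFittingSubgroup H, Q⁆) (F : Subgroup H) (hF : F ≤ Cfsg.generalizedFittingSubgroup H ∧ Cfsg.generalizedFittingSubgroup H ≤ Subgroup.normalizer (F : Set H) ∧ Q ≤ Subgroup.centralizer (F : Set H) ∧ ∀ N : Subgroup H, N ≤ Cfsg.generalizedFittingSubgroup H → Cfsg.generalizedFittingSubgroup H ≤ Subgroup.normalizer (N : Set H) → Q ≤ Subgroup.centralizer (N : Set H) → N ≤ F) : F = Cfsg.generalizedFittingSubgroup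 H ⊓ Subgroup.centralizer ((L ⊔ Q : Subgroup H) : Set H) ∧ ⁅L, Q⁆ = L ∧ L ⊓ F ≤ (frattini ↥L).map L.subtype ∧ (∀ B : Subgroup H, IsPGroup p ↥B → B ≤ Subgroup.normalizer (Q : Set H) → ⁅L, B⁆ ≤ F → ⁅L, B⁆ = ⊥) ∧ (Nat.card ↥(Subgroup.centralizer ((F ⊔ L : Subgroup H) : Set H))).Coprime p := by
  set X := generalizedFittingSubgroup H with hX
  obtain ⟨hFX, hXF, hQF, hmax⟩ := hF
  have hXtop : ∀ A : Subgroup H, A ≤ normalizer (X : Set H) := fun A => by
    rw [normalizer_eq_top_iff.mpr inferInstance]; exact le_top
  have hQcop : ∀ {N : Subgroup H}, N ≤ fittingSubgroup H → (Nat.card Q).Coprime (Nat.card N) :=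
    fun hN => CoprimeAction.coprime_of_le_right hN (coprime_pGroup hQ (coprime_fitting hO))
  have hLQ : ⁅L, Q⁆ = L := by rw [hL]; exact comm_comm_eq hO hQ
  have hLX : L ≤ X := hL ▸ CoprimeAction.commutator_le_self_of_le_normalizer (hXtop Q)
  have hXL : X ≤ normalizer (L : Set H) := hL ▸ normalizer_commutator_ge_left _ _
  have hQL : Q ≤ normalizer (L : Set H) := hL ▸ normalizer_commutator_ge_right _ _
  have hFL : F ≤ centralizer (L : Set H) := by
    rw [← commutator_eq_bot_iff_le_centralizer, commutator_comm, hL]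
    refine commutator_commutator_eq_bot_of_rotate ?_ ?_
    · rw [commutator_eq_bot_iff_le_centralizer.mpr hQF, commutator_bot_left]
    · rw [← le_bot_iff, ← commutator_eq_bot_iff_le_centralizer.mpr hQF, commutator_comm Q F]
      exact commutator_mono (CoprimeAction.commutator_le_self_of_le_normalizer hXF |>.trans_eq rfl) le_rfl
  have hXLQ : X ≤ normalizer ((L ⊔ Q : Subgroup H) : Set H) := by
    refine CoprimeAction.le_normalizer_of_conj_mem fun x hx b hb => ?_
    refine (show L ⊔ Q ≤ (L ⊔ Q).comap (MulAut.conj x).toMonoidHom from sup_le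
      (fun l hl => mem_sup_left (CoprimeAction.conj_mem (hXL hx) hl)) fun q hq => ?_) hb
    show x * q * x⁻¹ ∈ L ⊔ Q
    have h : ⁅x, q⁆ ∈ L := hL ▸ commutator_mem_commutator hx hq
    rw [show x * q * x⁻¹ = ⁅x, q⁆ * q by simp [commutatorElement_def]]
    exact mul_mem (mem_sup_left h) (mem_sup_right hq)
  have hFeq : F = X ⊓ centralizer ((L ⊔ Q : Subgroup H) : Set H) := by
    refine le_antisymm (le_inf hFX ?_) (hmax _ inf_le_left ?_ ?_)
    · rw [le_centralizer_iff]
      exact sup_le (le_centralizer_iff.mp hFL) hQF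
    · exact CoprimeAction.le_normalizer_inf (hXtop X)
        (CoprimeTools.le_normalizer_centralizer_of_le hXLQ)
    · exact le_centralizer_iff.mp (inf_le_right.trans (centralizer_le (SetLike.coe_subset_coe.mpr (le_sup_right : Q ≤ L ⊔ Q))))
  have hnF : ∀ {B : Subgroup H}, B ≤ normalizer (Q : Set H) → B ≤ normalizer (L : Set H) →
      B ≤ normalizer (F : Set H) := fun {B} hBQ hBL => by
    rw [hFeq]
    exact CoprimeAction.le_normalizer_inf (hXtop B) (CoprimeTools.le_normalizer_centralizer_of_le
      ((le_inf hBL hBQ).trans (normalizer_inf_normalizer_le_normalizer_sup _ _)))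
  have hLC : L ≤ centralizer ((L ⊓ F : Subgroup H) : Set H) :=
    le_centralizer_iff.mp (inf_le_right.trans hFL)
  have hZfit : L ⊓ F ≤ fittingSubgroup H := by
    refine subnormal_nilpotent_le_fitting (isSubnormal_of_le_normalizer (inf_le_left.trans hLX)
      (Normal.isSubnormal inferInstance) (CoprimeAction.le_normalizer_inf hXL hXF)) ?_
    haveI : IsMulCommutative (L ⊓ F : Subgroup H) :=
      le_centralizer_iff_isMulCommutative.mp (inf_le_left.trans hLC)
    open scoped IsMulCommutative in infer_instance
  have hQZ : Q ≤ centralizer ((L ⊓ F : Subgroup H) : Set H) :=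
    hQF.trans (centralizer_le inf_le_right)
  refine ⟨hFeq, hLQ, le_frattini_of_central hQL hLQ inf_le_left hLC hQZ (hQcop hZfit), ?_, ?_⟩
  · intro B hB hBQ hBF
    have hBL : B ≤ normalizer (L : Set H) :=
      hL ▸ CoprimeTools.le_normalizer_commutator_of_le (hXtop B) hBQ
    have hZ : ⁅L, B⁆ ≤ L ⊓ F :=
      le_inf (CoprimeAction.commutator_le_self_of_le_normalizer hBL) hBF
    have hnZ : ∀ {A : Subgroup H}, A ≤ normalizer (Q : Set H) → A ≤ normalizer (L : Set H) →
        A ≤ normalizer ((L ⊓ F : Subgroup H) : Set H) := fun h1 h2 =>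
      CoprimeAction.le_normalizer_inf h2 (hnF h1 h2)
    have hz1 : ⁅⁅L, B⁆, Q⁆ = ⊥ := le_bot_iff.mp ((commutator_mono hZ le_rfl).trans
      ((commutator_comm (L ⊓ F) Q).trans_le (commutator_eq_bot_iff_le_centralizer.mpr hQZ).le))
    have h1 : ⁅⁅B, Q⁆, L⁆ ≤ L ⊓ F := by
      refine CoprimeTools.commutator_rotate_le (hnZ hBQ hBL) (hnZ le_normalizer hQL)
        (hLC.trans (centralizer_le_normalizer _)) ?_ (hz1.trans_le bot_le)
      rw [commutator_comm Q L, hLQ]
      exact hZ
    have hQ1 : ⁅B, Q⁆ ≤ Q :=
      (commutator_comm B Q).trans_le (CoprimeAction.commutator_le_self_of_le_normalizer hBQ)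
    have h2 : ⁅B, Q⁆ ≤ centralizer (L : Set H) := by
      refine CoprimeAction.le_centralizer_of_stabilizes (N := L ⊓ F)
        (CoprimeAction.coprime_of_le_left hQ1 (hQcop hZfit))
        (le_centralizer_iff.mp (hQ1.trans hQZ)) fun a ha k hk => ?_
      rw [commutator_comm] at h1
      have := h1 (commutator_mem_commutator (inv_mem hk) ha)
      simpa [commutatorElement_def] using this
    have h3 : ⁅⁅Q, L⁆, B⁆ = ⊥ := commutator_commutator_eq_bot_of_rotate hz1
      (commutator_eq_bot_iff_le_centralizer.mpr h2)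
    rwa [commutator_comm Q L, hLQ] at h3
  · rw [Nat.coprime_comm, (Fact.out : p.Prime).coprime_iff_not_dvd]
    intro hd
    obtain ⟨c, hc⟩ := exists_prime_orderOf_dvd_card' p hd
    set P := zpowers (c : H)
    have hP : IsPGroup p P :=
      IsPGroup.of_card (n := 1) (by rw [pow_one, Nat.card_zpowers, orderOf_coe, hc])
    have hPC : P ≤ centralizer ((F ⊔ L : Subgroup H) : Set H) := zpowers_le.mpr c.2
    have hPF : P ≤ centralizer (F : Set H) := hPC.trans (centralizer_le (SetLike.coe_subset_coe.mpr (le_sup_left : F ≤ F ⊔ L)))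
    have hPL : P ≤ centralizer (L : Set H) := hPC.trans (centralizer_le (SetLike.coe_subset_coe.mpr (le_sup_right : L ≤ F ⊔ L)))
    have hlay : P ≤ centralizer (layer H : Set H) := by
      refine le_centralizer_iff.mp (sSup_le fun M hM => ?_)
      by_cases h : ⁅M, Q⁆ = ⊥
      · refine (hmax M (component_le_gen hM) (gen_le_normalizer_component hM) ?_).trans
          (le_centralizer_iff.mp hPF)
        exact le_centralizer_iff.mp (commutator_eq_bot_iff_le_centralizer.mp h)
      · refine ((comp_le_or_centralized hM ?_ ?_).resolve_right h).trans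
          (le_centralizer_iff.mp hPL)
        · exact isSubnormal_of_le_normalizer hLX (Normal.isSubnormal inferInstance) hXL
        · exact hL ▸ commutator_mono (component_le_gen hM) le_rfl
    set Ft := fittingSubgroup H
    have htop : ∀ A : Subgroup H, A ≤ normalizer (Ft : Set H) := fun A => by
      rw [normalizer_eq_top_iff.mpr inferInstance]; exact le_top
    set W := Ft ⊓ centralizer (L : Set H)
    have hW : ⁅Ft, P⁆ ≤ W := by
      refine le_inf (CoprimeAction.commutator_le_self_of_le_normalizer (htop P)) ?_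
      rw [← commutator_eq_bot_iff_le_centralizer]
      refine commutator_commutator_eq_bot_of_rotate ?_ ?_
      · rw [commutator_eq_bot_iff_le_centralizer.mpr hPL, commutator_bot_left]
      · rw [← le_bot_iff, ← commutator_eq_bot_iff_le_centralizer.mpr hPL, commutator_comm P L,
          commutator_comm L Ft]
        exact commutator_mono ((commutator_comm Ft L).trans_le
          (CoprimeAction.commutator_le_self_of_le_normalizer (fitting_le_gen.trans hXL))) le_rfl
    have hQW : Q ≤ normalizer (W : Set H) := CoprimeAction.le_normalizer_inf (htop Q)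
      (CoprimeTools.le_normalizer_centralizer_of_le hQL)
    have hPW : W ≤ centralizer (P : Set H) := by
      rw [← CoprimeAction.commutator_sup_centralizer_eq hQW (hQcop inf_le_left)
        (.inl (CoprimeAction.isSolvable_of_isPGroup hQ))]
      refine sup_le ?_ ?_
      · refine le_trans ?_ (le_centralizer_iff.mp hPL)
        rw [hL]
        exact commutator_mono (inf_le_left.trans fitting_le_gen) le_rfl
      · refine le_trans ?_ (le_centralizer_iff.mp hPF)
        rw [hFeq]
        refine le_inf (inf_le_left.trans (inf_le_left.trans fitting_le_gen)) ?_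
        rw [le_centralizer_iff]
        exact sup_le (le_centralizer_iff.mp (inf_le_left.trans inf_le_right))
          (le_centralizer_iff.mp inf_le_right)
    have hfit : P ≤ centralizer (Ft : Set H) := by
      refine CoprimeAction.le_centralizer_of_commutator_commutator_eq_bot (htop P)
        (coprime_pGroup hP (coprime_fitting hO)) (.inl (CoprimeAction.isSolvable_of_isPGroup hP)) ?_
      rw [← le_bot_iff, ← commutator_eq_bot_iff_le_centralizer.mpr hPW]
      exact commutator_mono hW le_rfl
    have hbot : P = ⊥ := by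
      refine eq_bot_of_pGroup_le hP (coprime_fitting hO)
        (le_trans ?_ ComponentsBender.centralizer_gen_le_fitting)
      rw [le_centralizer_iff]
      exact sup_le (le_centralizer_iff.mp hlay) (le_centralizer_iff.mp hfit)
    rw [zpowers_eq_bot] at hbot
    rw [← orderOf_coe, hbot, orderOf_one] at hc
    exact (Fact.out : p.Prime).one_lt.ne hc

end Cfsg.Agent.S2817
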