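import Cfsg.Statements.S2818
import Mathlib
import Cfsg.Agent.Lib.PGroupsBasic
import Cfsg.Agent.Lib.LocPReduced56


set_option autoImplicit false
open Cfsg
open Cfsg.Agent
open scoped commutatorElement

namespace Cfsg.Agent.S2818

/-- Let P be a finite p-subgroup of a group G and H a subgroup of N_G(P) with [P, H] ≤ Ω₁(Z(P)) (the elements of order dividing p in the centre of P). Then H centralizes the Frattini subgroup of P. -/
theorem result {G : Type*} [Group G] [Finite G] {p : ℕ} [Fact p.Prime] (P : Subgroup G) (hP : IsPGroup p ↥P) (H : Subgroup G) (hH : H ≤ Subgroup.normalizer (P : Set G)) (h : ⁅P, H⁆ ≤ Cfsg.omegaOne p (P ⊓ Subgroup.centralizer (P : Set G))) : ⁅(frattini ↥P).map P.subtype, H⁆ = ⊥ := by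
  set Om := Cfsg.omegaOne p (P ⊓ Subgroup.centralizer (P : Set G)) with hOm
  have hOel : Cfsg.IsElementaryAbelian p Om :=
    LocPReduced56.omegaOne_elementary (LocPReduced56.inf_centralizer_comm P)
  have hOle : Om ≤ P ⊓ Subgroup.centralizer (P : Set G) :=
    (Subgroup.closure_le _).mpr fun x hx => hx.1
  rw [Subgroup.commutator_eq_bot_iff_le_centralizer]
  have hPp : IsPGroup p ↥P := hP
  rw [PGroupsBasic.frattini_eq_sup hPp, Subgroup.map_le_iff_le_comap]
  have hdef : ∀ g ∈ H, ∀ x : ↥P, ∃ e ∈ Om, g * x * g⁻¹ = x * e := by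
    intro g hg x
    refine ⟨⁅(x : G)⁻¹, g⁆, h (Subgroup.commutator_mem_commutator (P.inv_mem x.2) hg), ?_⟩
    rw [commutatorElement_def]; group
  refine sup_le ?_ ?_
  · rw [commutator_def, Subgroup.commutator_le]
    intro x _ y _ g hg
    obtain ⟨e, he, hex⟩ := hdef g hg x
    obtain ⟨f, hf, hfy⟩ := hdef g hg y
    have hce : ∀ z ∈ P, z * e = e * z := fun z hz => (hOle he).2 z hz
    have hcf : ∀ z ∈ P, z * f = f * z := fun z hz => (hOle hf).2 z hz
    show g * ↑⁅x, y⁆ = ↑⁅x, y⁆ * g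
    rw [← mul_inv_eq_iff_eq_mul]
    show g * ⁅(x : G), (y : G)⁆ * g⁻¹ = ⁅(x : G), (y : G)⁆
    rw [conjugate_commutatorElement, hex, hfy]
    simp only [commutatorElement_def]
    have hy1 : (y : G) * f ∈ P := mul_mem y.2 (hOle hf).1
    calc (x : G) * e * ((y : G) * f) * ((x : G) * e)⁻¹ * ((y : G) * f)⁻¹
        = (x : G) * (e * ((y : G) * f)) * e⁻¹ * (x : G)⁻¹ * ((y : G) * f)⁻¹ := by group
      _ = (x : G) * ((y : G) * f * e) * e⁻¹ * (x : G)⁻¹ * ((y : G) * f)⁻¹ := by rw [hce _ hy1]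
      _ = (x : G) * (y : G) * (f * (x : G)⁻¹) * f⁻¹ * (y : G)⁻¹ := by group
      _ = (x : G) * (y : G) * ((x : G)⁻¹ * f) * f⁻¹ * (y : G)⁻¹ := by rw [hcf _ (inv_mem x.2)]
      _ = (x : G) * (y : G) * (x : G)⁻¹ * (y : G)⁻¹ := by group
  · rw [Subgroup.closure_le]
    rintro _ ⟨x, rfl⟩ g hg
    obtain ⟨e, he, hex⟩ := hdef g hg x
    show g * ((x : G) ^ p) = (x : G) ^ p * g
    rw [← mul_inv_eq_iff_eq_mul, ← conj_pow, hex,
      (show Commute (x : G) e from (hOle he).2 x x.2).mul_pow, hOel.2 e he, mul_one]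

end Cfsg.Agent.S2818
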