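import Cfsg.Statements.S2819
import Mathlib
import Cfsg.Agent.Lib.PGroupsBasic
import Cfsg.Agent.Lib.LocalBasics
import Cfsg.Agent.Lib.OmegaCoprime


set_option autoImplicit false
open Cfsg
open Cfsg.Agent
open scoped commutatorElement

namespace Cfsg.Agent.S2819

/-- Let P be a finite p-subgroup of a group G, H a subgroup of N_G(P), and Y a subgroup of H centralizing the derived subgroup P' such that [P, Y] is elementary abelian. Then O^p(⟨Y^H⟩), the subgroup of the normal closure of Y in H generated by its elements of order prime to p, centralizes the Frattini subgroup of P. -/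
theorem result {G : Type*} [Group G] [Finite G] {p : ℕ} [Fact p.Prime] (P : Subgroup G) (hP : IsPGroup p ↥P) (H : Subgroup G) (hH : H ≤ Subgroup.normalizer (P : Set G)) (Y : Subgroup G) (hYH : Y ≤ H) (hYc : Y ≤ Subgroup.centralizer ((⁅P, P⁆ : Subgroup G) : Set G)) (hel : Cfsg.IsElementaryAbelian p ⁅P, Y⁆) (NY : Subgroup G) (hNY : NY = (Subgroup.normalClosure ((Y.subgroupOf H : Subgroup ↥H) : Set ↥H)).map H.subtype) : (Cfsg.pResidual p ↥NY).map NY.subtype ≤ Subgroup.centralizer (((frattini ↥P).map P.subtype : Subgroup G) : Set G) := by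
  set P' : Subgroup G := ⁅P, P⁆ with hP'
  have hP'P : P' ≤ P := Subgroup.commutator_le_self P
  have hHP' : H ≤ Subgroup.normalizer (P' : Set G) := by
    refine LocalBasics.le_normalizer_of_conj fun g hg k hk => ?_
    have e1 : P.map (MulAut.conj g).toMonoidHom ≤ P := by
      rintro _ ⟨r, hr, rfl⟩; exact LocalBasics.conj_mem_of_le_normalizer hH hg hr
    exact Subgroup.commutator_mono e1 e1
      ((Subgroup.map_commutator P P (MulAut.conj g).toMonoidHom).le ⟨k, hk, rfl⟩)
  -- the subgroup of elements of `H` acting trivially on the `p`-th powers modulo `P'`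
  let S : Subgroup ↥H :=
    { carrier := {g | ∀ x ∈ P, (x ^ p)⁻¹ * ((g : G) * x ^ p * (g : G)⁻¹) ∈ P'}
      one_mem' := fun x _ => by simp
      mul_mem' := by
        intro a b ha hb x hx
        have h1 := LocalBasics.conj_mem_of_le_normalizer hHP' a.2 (hb x hx)
        have h2 := mul_mem (ha x hx) h1
        convert h2 using 1
        push_cast
        group
      inv_mem' := by
        intro a ha x hx
        have h1 := LocalBasics.conj_mem_of_le_normalizer hHP' (H.inv_mem a.2) (P'.inv_mem (ha x hx))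
        convert h1 using 1
        push_cast
        group }
  have hSn : S.Normal := ⟨fun a ha k x hx => by
    have h1 : (k : G)⁻¹ * x * (k : G)⁻¹⁻¹ ∈ P :=
      LocalBasics.conj_mem_of_le_normalizer hH (H.inv_mem k.2) hx
    have h2 := LocalBasics.conj_mem_of_le_normalizer hHP' k.2 (ha _ h1)
    rw [conj_pow] at h2
    convert h2 using 1
    push_cast
    group⟩
  have hY : ((Y.subgroupOf H : Subgroup ↥H) : Set ↥H) ⊆ S := by
    intro y hy x hx
    have hyy : (y : G) ∈ Y := hy
    have he : x⁻¹ * ((y : G) * x * (y : G)⁻¹) ∈ ⁅P, Y⁆ := by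
      have := Subgroup.commutator_mem_commutator (P.inv_mem hx) hyy
      convert this using 1
      rw [commutatorElement_def]; group
    have hconj : (y : G) * x * (y : G)⁻¹ ∈ P :=
      LocalBasics.conj_mem_of_le_normalizer hH (hYH hyy) hx
    have heP : x⁻¹ * ((y : G) * x * (y : G)⁻¹) ∈ P := mul_mem (P.inv_mem hx) hconj
    set e : ↥P := ⟨_, heP⟩ with hedef
    have hep : e ^ p = 1 := Subtype.ext (hel.2 _ he)
    have hab : Abelianization.of (((⟨x, hx⟩ : ↥P) ^ p)⁻¹ * (⟨x, hx⟩ * e) ^ p) = 1 := by
      rw [map_mul, map_pow, map_mul, mul_pow, ← map_pow Abelianization.of e, hep, map_one, mul_one,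
        map_inv, map_pow, inv_mul_cancel]
    have hmem : ((⟨x, hx⟩ : ↥P) ^ p)⁻¹ * (⟨x, hx⟩ * e) ^ p ∈ commutator ↥P :=
      (QuotientGroup.eq_one_iff _).mp hab
    have := Subgroup.mem_map_of_mem P.subtype hmem
    rw [Subgroup.map_subtype_commutator] at this
    convert this using 1
    simp [hedef, ← conj_pow]
  have hNYS : Subgroup.normalClosure ((Y.subgroupOf H : Subgroup ↥H) : Set ↥H) ≤ S :=
    Subgroup.normalClosure_le_normal hY
  have hNYC : NY ≤ Subgroup.centralizer (P' : Set G) := by
    rw [hNY, Subgroup.map_le_iff_le_comap]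
    haveI : ((Subgroup.centralizer (P' : Set G)).subgroupOf H).Normal :=
      LocalBasics.normal_subgroupOf_of_le (LocalBasics.le_normalizer_centralizer hHP')
    exact Subgroup.normalClosure_le_normal (N := (Subgroup.centralizer (P' : Set G)).subgroupOf H) (fun y hy => hYc hy)
  rw [Subgroup.map_le_iff_le_comap, TransferPResidual.pResidual_le_iff_coprime]
  intro g hg
  have hgC := hNYC g.2
  obtain ⟨g', hg', hgg'⟩ : (g : G) ∈
      (Subgroup.normalClosure ((Y.subgroupOf H : Subgroup ↥H) : Set ↥H)).map H.subtype :=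
    hNY ▸ g.2
  have hgS : ∀ x ∈ P, (x ^ p)⁻¹ * ((g : G) * x ^ p * (g : G)⁻¹) ∈ P' := by
    rw [← hgg']; exact hNYS hg'
  have hgH : (g : G) ∈ H := by rw [← hgg']; exact g'.2
  let T : Subgroup ↥P :=
    { carrier := {z | (z : G)⁻¹ * ((g : G) * z * (g : G)⁻¹) ∈ P'}
      one_mem' := by simp
      mul_mem' := by
        intro a b ha hb
        show ((a * b : ↥P) : G)⁻¹ * _ ∈ P'
        have hPn : P ≤ Subgroup.normalizer (P' : Set G) := Subgroup.normalizer_commutator_ge_left P P
        have h2 := mul_mem (LocalBasics.conj_mem_of_le_normalizer hPn (P.inv_mem b.2) ha) hb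
        convert h2 using 1
        push_cast
        group
      inv_mem' := by
        intro a ha
        show ((a⁻¹ : ↥P) : G)⁻¹ * _ ∈ P'
        have hPn : P ≤ Subgroup.normalizer (P' : Set G) := Subgroup.normalizer_commutator_ge_left P P
        have h2 := LocalBasics.conj_mem_of_le_normalizer hPn a.2 (P'.inv_mem ha)
        convert h2 using 1
        push_cast
        group }
  have hPhi : frattini ↥P ≤ T := by
    rw [PGroupsBasic.frattini_eq_sup hP]
    refine sup_le ?_ ((Subgroup.closure_le _).mpr ?_)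
    · intro z hz
      show (z : G)⁻¹ * _ ∈ P'
      have hz' : (z : G) ∈ P' := by
        have := Subgroup.mem_map_of_mem P.subtype hz
        rwa [Subgroup.map_subtype_commutator] at this
      exact mul_mem (P'.inv_mem hz') (LocalBasics.conj_mem_of_le_normalizer hHP' hgH hz')
    · rintro _ ⟨x, rfl⟩
      exact hgS x x.2
  rintro _ ⟨z, hz, rfl⟩
  set c := (z : G)⁻¹ * ((g : G) * z * (g : G)⁻¹) with hc
  have hcP' : c ∈ P' := hPhi hz
  have hfix : (g : G) * c * (g : G)⁻¹ = c := by
    rw [← hgC c hcP', mul_inv_cancel_right]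
  obtain ⟨k, hk⟩ := hP ⟨c, hP'P hcP'⟩
  have h1 : c = 1 := OmegaCoprime.eq_one_of_fixed_comm (x := (z : G))
    (by rwa [Subgroup.orderOf_coe] : (orderOf (g : G)).Coprime p) (by rw [hc]; group) hfix
    ⟨k, congrArg Subtype.val hk⟩
  show (z : G) * (g : G) = (g : G) * (z : G)
  rw [hc, inv_mul_eq_one, eq_comm, mul_inv_eq_iff_eq_mul] at h1
  exact h1.symm

end Cfsg.Agent.S2819
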