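import Cfsg.Statements.S2820
import Mathlib
import Cfsg.Agent.Lib.HallCore
import Cfsg.Agent.Lib.TransferPResidual


set_option autoImplicit false
open Cfsg
open Cfsg.Agent
open scoped commutatorElement

namespace Cfsg.Agent.S2820

theorem le_normalizer_map_normal {H : Type*} [Group H] (M : Subgroup H) (N : Subgroup ↥M) [N.Normal] :
    M ≤ Subgroup.normalizer ((N.map M.subtype : Subgroup H) : Set H) := by
  have h := Subgroup.le_normalizer_map (H := N) M.subtype
  rw [Subgroup.normalizer_eq_top] at h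
  rwa [← MonoidHom.range_eq_map, Subgroup.range_subtype] at h

theorem subnormal_pgroup_le {H : Type*} [Group H] [Finite H] {p : ℕ} (A : Subgroup H)
    (hA : A.IsSubnormal) (hp : IsPGroup p A) : A ≤ Cfsg.pCore p H := by
  suffices h : ∀ K : Subgroup H, K.IsSubnormal →
      (Cfsg.pCore p ↥K).map K.subtype ≤ Cfsg.pCore p H by
    have h1 : Cfsg.pCore p ↥A = ⊤ := HallCore.pCore_eq_top_iff.mpr hp
    have h2 := h A hA
    rwa [h1, ← MonoidHom.range_eq_map, Subgroup.range_subtype] at h2
  intro K hK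
  induction hK with
  | top =>
    refine (Subgroup.map_mono ?_).trans
      (le_of_eq (HallCore.map_equiv_pCore (p := p) Subgroup.topEquiv))
    exact le_rfl
  | step K L hKL hL hN ih =>
    refine le_trans ?_ ih
    have e1 := HallCore.map_subtype_pCore (p := p) (K.subgroupOf L)
    have e2 := HallCore.map_equiv_pCore (p := p) (Subgroup.subgroupOfEquivOfLe hKL)
    rw [← e2, Subgroup.map_map]
    rintro _ ⟨x, hx, rfl⟩
    refine ⟨x.1, ?_, rfl⟩
    exact (e1.le ⟨x, hx, rfl⟩).1

open scoped Pointwise in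
theorem descend {H : Type*} [Group H] [Finite H] {p : ℕ} [Fact p.Prime] (B P : Subgroup H) [P.Normal]
    (hP : IsPGroup p P) (hB : B.IsSubnormal) :
    ∀ m ∈ B ⊔ P, Nat.Coprime (orderOf m) p → m ∈ B := by
  suffices h : ∀ K : Subgroup H, K.IsSubnormal → B ≤ K →
      ∀ m ∈ B ⊔ P, Nat.Coprime (orderOf m) p → m ∈ K by exact h B hB le_rfl
  intro K hK
  induction hK with
  | top => intros; exact Subgroup.mem_top _
  | step K L hKL hL hN ih =>
    intro hBK m hm hc
    have hmL := ih (hBK.trans hKL) m hm hc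
    have hcoe : ((B ⊔ P : Subgroup H) : Set H) = (B : Set H) * (P : Set H) :=
      Subgroup.mul_normal B P
    have hm' : m ∈ ((B ⊔ P : Subgroup H) : Set H) := hm
    rw [hcoe] at hm'
    obtain ⟨b, hb, x, hx, rfl⟩ := Set.mem_mul.mp hm'
    have hxL : x ∈ L := by
      have := L.mul_mem (L.inv_mem (hKL (hBK hb))) hmL
      rwa [inv_mul_cancel_left] at this
    set q := QuotientGroup.mk' (K.subgroupOf L)
    have h1 : q ⟨b * x, hmL⟩ = q ⟨x, hxL⟩ := by
      have hb1 : q ⟨b, hKL (hBK hb)⟩ = 1 :=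
        (QuotientGroup.eq_one_iff _).mpr (hBK hb)
      calc q ⟨b * x, hmL⟩ = q (⟨b, hKL (hBK hb)⟩ * ⟨x, hxL⟩) := rfl
        _ = _ := by rw [map_mul, hb1, one_mul]
    obtain ⟨k, hk⟩ := hP ⟨x, hx⟩
    have hk' : x ^ p ^ k = 1 := congrArg Subtype.val hk
    have hd1 : orderOf (q ⟨b * x, hmL⟩) ∣ p ^ k := by
      rw [h1]
      exact orderOf_dvd_of_pow_eq_one (by
        rw [← map_pow, show (⟨x, hxL⟩ : L) ^ p ^ k = 1 from Subtype.ext (by simpa using hk'), map_one])
    have hd2 : orderOf (q ⟨b * x, hmL⟩) ∣ orderOf (b * x) := by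
      refine (orderOf_map_dvd q _).trans ?_
      rw [← Subgroup.orderOf_coe]
    have h3 : q ⟨b * x, hmL⟩ = 1 :=
      orderOf_eq_one_iff.mp (Nat.eq_one_of_dvd_coprimes (hc.pow_right k) hd2 hd1)
    exact (QuotientGroup.eq_one_iff (⟨b * x, hmL⟩ : ↥L)).mp h3

/-- Let A and B be subnormal subgroups of the finite group H with A a p-group and B = O^p(B) (B generated by its elements of order prime to p). Then A normalizes B and B = O^p(AB), the subgroup of ⟨A, B⟩ generated by its elements of order prime to p. -/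
theorem result {H : Type*} [Group H] [Finite H] {p : ℕ} [Fact p.Prime] (A B : Subgroup H) (hA : A.IsSubnormal) (hB : B.IsSubnormal) (hAp : IsPGroup p ↥A) (hBres : (Cfsg.pResidual p ↥B).map B.subtype = B) : A ≤ Subgroup.normalizer (B : Set H) ∧ (Cfsg.pResidual p ↥(A ⊔ B)).map (A ⊔ B).subtype = B := by
  have hAO : A ≤ Cfsg.pCore p H := subnormal_pgroup_le A hA hAp
  set P := Cfsg.pCore p H with hP
  have hPp : IsPGroup p P := HallCore.isPGroup_pCore p H
  set M := A ⊔ B with hM
  set R := (Cfsg.pResidual p ↥B).map B.subtype with hR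
  have hkey : ∀ m ∈ M, Nat.Coprime (orderOf m) p → m ∈ B := by
    intro m hm hc
    have h1 : m ∈ B ⊔ P := (sup_le (hAO.trans le_sup_right) le_sup_left : M ≤ B ⊔ P) hm
    exact descend B P hPp hB m h1 hc
  have hres : (Cfsg.pResidual p ↥M).map M.subtype = B := by
    refine le_antisymm ?_ ?_
    · rw [Subgroup.map_le_iff_le_comap, TransferPResidual.pResidual_le_iff_coprime]
      exact fun g hg => hkey g g.2 (by rwa [Subgroup.orderOf_coe])
    · conv_lhs => rw [← hBres]
      exact TransferPResidual.map_pResidual_mono le_sup_right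
  refine ⟨?_, hres⟩
  rw [← hres]
  exact le_sup_left.trans (le_normalizer_map_normal M (Cfsg.pResidual p ↥M))

end Cfsg.Agent.S2820
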