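import Cfsg.Statements.S2821
import Mathlib
import Cfsg.Agent.Lib.LocalPReduced57


set_option autoImplicit false
open Cfsg
open Cfsg.Agent Cfsg.Agent.LocalPReduced57
open scoped commutatorElement

namespace Cfsg.Agent.S2821

/-- Let H be a finite group, p a prime, T a Sylow p-subgroup and L a subgroup of characteristic p containing T; let Y_L be the largest p-reduced normal subgroup of L (the join of the normal elementary abelian p-subgroups V of L with O_p(L/C_L(V)) = 1). Then T₀ := C_T(Y_L) is a Sylow p-subgroup of C_H(Y_L); moreover O_p(L) ≤ T₀ ≤ C_L(Y_L) and Ω₁(Z(T)) ≤ Z_L ≤ Y_L ≤ Ω₁(Z(O_p(L))), where Z_L is generated by the Ω₁(Z(S)) over the Sylow p-subgroups S of L. -/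
theorem result {H : Type*} [Group H] [Finite H] {p : ℕ} [Fact p.Prime] (T : Sylow p H) (L : Subgroup H) (hTL : (T : Subgroup H) ≤ L) (hL : Subgroup.centralizer (Cfsg.pCore p ↥L : Set ↥L) ≤ Cfsg.pCore p ↥L) (T₀ : Subgroup H) (hT₀ : T₀ = (T : Subgroup H) ⊓ Subgroup.centralizer (((Cfsg.largestPReducedOf p L) : Subgroup H) : Set H)) : (∃ P : Sylow p ↥(Subgroup.centralizer (((Cfsg.largestPReducedOf p L) : Subgroup H) : Set H)), (P : Subgroup ↥(Subgroup.centralizer (((Cfsg.largestPReducedOf p L) : Subgroup H) : Set H))) = T₀.subgroupOf (Subgroup.centralizer (((Cfsg.largestPReducedOf p L) : Subgroup H) : Set H))) ∧ (Cfsg.pCoreOf p L) ≤ T₀ ∧ T₀ ≤ L ⊓ Subgroup.centralizer (((Cfsg.largestPReducedOf p L) : Subgroup H) : Set H) ∧ (Cfsg.omegaOne p ((T : Subgroup H) ⊓ Subgroup.centralizer (((T : Subgroup H) : Subgroup H) : Set H))) ≤ Cfsg.sylowCenterClosure p L ∧ Cfsg.sylowCenterClosure p L ≤ (Cfsg.largestPReducedOf p L) ∧ (Cfsg.largestPReducedOf p L) ≤ (Cfsg.omegaOne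 p ((Cfsg.pCoreOf p L) ⊓ Subgroup.centralizer (((Cfsg.pCoreOf p L) : Subgroup H) : Set H))) := by
  subst hT₀
  set Y := Cfsg.largestPReducedOf p L with hY
  have hred := red_largest p L
  have hTC : (T : Subgroup H) ≤ Subgroup.normalizer
      ((Subgroup.centralizer (Y : Set H) : Subgroup H) : Set H) :=
    hTL.trans (LocalBasics.le_normalizer_centralizer hred.2.1)
  refine ⟨?_, le_inf (pCoreOf_le_sylow T hTL) hred.pCoreOf_le, inf_le_inf_right _ hTL, ?_, ?_, hred.le_omega⟩
  · obtain ⟨P, hP⟩ := exists_sylow_inf_eq T hTC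
    exact ⟨P, hP.trans (Subgroup.inf_subgroupOf_right _ _).symm⟩
  · refine le_trans ?_ (le_iSup _ (T.subtype hTL))
    rw [Sylow.coe_subtype, Subgroup.map_subgroupOf_eq_of_le hTL]
  · refine le_trans ?_ (le_largest (omegaCenter_red T hTL hL))
    refine iSup_le fun S => ?_
    obtain ⟨l, hl⟩ := MulAction.exists_smul_eq ↥L (T.subtype hTL) S
    have hS : (S : Subgroup ↥L).map L.subtype =
        (T : Subgroup H).map (MulAut.conj (l : H)).toMonoidHom := by
      rw [← hl]
      apply le_antisymm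
      · rintro _ ⟨_, ⟨y, hy, rfl⟩, rfl⟩
        exact ⟨(y : H), hy, rfl⟩
      · rintro _ ⟨y, hy, rfl⟩
        exact ⟨_, ⟨⟨y, hTL hy⟩, hy, rfl⟩, rfl⟩
    rw [hS, ← LocGroup56.map_inf_centralizer _ (MulAut.conj (l : H)).injective,
      ← LocGroup56.omegaOne_map p _ (MulAut.conj (l : H)).injective]
    exact le_iSup (fun x : ↥L => (Cfsg.omegaOne p ((T : Subgroup H) ⊓
      Subgroup.centralizer ((T : Subgroup H) : Set H))).map (MulAut.conj (x : H)).toMonoidHom) l

end Cfsg.Agent.S2821
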