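import Cfsg.Statements.S2823
import Mathlib
import Cfsg.Agent.Lib.LocalPReduced57
import Cfsg.Agent.Lib.LocalTrace57
import Cfsg.Agent.S2821


set_option autoImplicit false
open Cfsg
open Cfsg.Agent Cfsg.Agent.LocalPReduced57
open scoped commutatorElement

namespace Cfsg.Agent.S2823

theorem map_sylow {H : Type*} [Group H] [Finite H] {p : ℕ} [Fact p.Prime] (T : Sylow p H) {L : Subgroup H}
    (hTL : (T : Subgroup H) ≤ L) {S : Sylow p ↥L} {l : ↥L} (hl : l • T.subtype hTL = S) :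
    (S : Subgroup ↥L).map L.subtype = (T : Subgroup H).map (MulAut.conj (l : H)).toMonoidHom := by
  rw [← hl]
  apply le_antisymm
  · rintro _ ⟨_, ⟨y, hy, rfl⟩, rfl⟩
    exact ⟨(y : H), hy, rfl⟩
  · rintro _ ⟨y, hy, rfl⟩
    exact ⟨_, ⟨⟨y, hTL hy⟩, hy, rfl⟩, rfl⟩

/-- Let H be a finite group, p a prime, T a Sylow p-subgroup and L a subgroup of characteristic p containing T; let Z_L be the subgroup generated by the Ω₁(Z(S)) over the Sylow p-subgroups S of L and O^p(L) the subgroup generated by the elements of L of order prime to p. Then Z_L = Ω₁(Z(L))·[Z_L, O^p(L)] and [Z_L, L] = [Z_L, O^p(L)]. -/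
theorem result {H : Type*} [Group H] [Finite H] {p : ℕ} [Fact p.Prime] (T : Sylow p H) (L : Subgroup H) (hTL : (T : Subgroup H) ≤ L) (hL : Subgroup.centralizer (Cfsg.pCore p ↥L : Set ↥L) ≤ Cfsg.pCore p ↥L) : Cfsg.sylowCenterClosure p L = (Cfsg.omegaOne p (L ⊓ Subgroup.centralizer ((L : Subgroup H) : Set H))) ⊔ ⁅Cfsg.sylowCenterClosure p L, (Cfsg.pResidual p ↥L).map L.subtype⁆ ∧ ⁅Cfsg.sylowCenterClosure p L, L⁆ = ⁅Cfsg.sylowCenterClosure p L, (Cfsg.pResidual p ↥L).map L.subtype⁆ := by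
  set Z₀ := Cfsg.omegaOne p ((T : Subgroup H) ⊓ Subgroup.centralizer ((T : Subgroup H) : Set H)) with hZ₀
  set Z := Cfsg.sylowCenterClosure p L with hZdef
  set R := (Cfsg.pResidual p ↥L).map L.subtype with hR
  have hRL : R ≤ L := Subgroup.map_subtype_le _
  obtain ⟨-, -, -, hZ₀Z, hZY, -⟩ := Cfsg.Agent.S2821.result T L hTL hL _ rfl
  have hY := red_largest p L
  have hZeq : Z = conjClosure Z₀ L := by
    refine le_antisymm (iSup_le fun S => ?_) (iSup_le fun l => ?_)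
    · obtain ⟨l, hl⟩ := MulAction.exists_smul_eq ↥L (T.subtype hTL) S
      rw [map_sylow T hTL hl, ← LocGroup56.map_inf_centralizer _ (MulAut.conj (l : H)).injective,
        ← LocGroup56.omegaOne_map p _ (MulAut.conj (l : H)).injective]
      exact le_iSup (fun x : ↥L => Z₀.map (MulAut.conj (x : H)).toMonoidHom) l
    · rw [hZ₀, LocGroup56.omegaOne_map p _ (MulAut.conj (l : H)).injective,
        LocGroup56.map_inf_centralizer _ (MulAut.conj (l : H)).injective,
        ← map_sylow T hTL (S := l • T.subtype hTL) rfl]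
      exact le_iSup (fun S : Sylow p ↥L => Cfsg.omegaOne p (((S : Subgroup ↥L).map L.subtype) ⊓
        Subgroup.centralizer (((S : Subgroup ↥L).map L.subtype : Subgroup H) : Set H))) _
  have hLZ : L ≤ Subgroup.normalizer (Z : Set H) := hZeq ▸ le_normalizer_conjClosure Z₀ L
  have hZel : Cfsg.IsElementaryAbelian p Z := PGroupsBasic.isElementaryAbelian_mono hY.2.2.1 hZY
  have hab : ∀ a ∈ Z, ∀ b ∈ Z, a * b = b * a := fun a ha b hb =>
    PGroupsBasic.comm_of_isMulCommutative hZel.1 ha hb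
  set B := ⁅Z, R⁆ with hB
  have hLR : L ≤ Subgroup.normalizer (R : Set H) := LocalBasics.le_normalizer_map_normal L _
  have hLB : L ≤ Subgroup.normalizer (B : Set H) := by
    refine LocalBasics.le_normalizer_of_conj fun g hg k hk => ?_
    have e1 : Z.map (MulAut.conj g).toMonoidHom ≤ Z := by
      rintro _ ⟨r, hr, rfl⟩; exact LocalBasics.conj_mem_of_le_normalizer hLZ hg hr
    have e2 : R.map (MulAut.conj g).toMonoidHom ≤ R := by
      rintro _ ⟨r, hr, rfl⟩; exact LocalBasics.conj_mem_of_le_normalizer hLR hg hr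
    exact Subgroup.commutator_mono e1 e2
      ((Subgroup.map_commutator Z R (MulAut.conj g).toMonoidHom).le ⟨k, hk, rfl⟩)
  have hBZ : B ≤ Z := Subgroup.le_normalizer_iff_commutator_le_left.mp (hRL.trans hLZ)
  have hdec : ∀ l ∈ L, ∃ r ∈ R, ∃ t ∈ (T : Subgroup H), l = r * t := by
    intro l hl
    obtain ⟨r, hr, t, ht, e⟩ := Subgroup.mem_sup_of_normal_left.mp
      (show (⟨l, hl⟩ : ↥L) ∈ Cfsg.pResidual p ↥L ⊔ (T.subtype hTL : Subgroup ↥L) by
        rw [sup_comm, TransferPResidual.sylow_sup_pResidual]; trivial)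
    exact ⟨r, ⟨r, hr, rfl⟩, t, ht, (congrArg Subtype.val e).symm⟩
  have hz₀ : ∀ z ∈ Z₀, ∀ t ∈ (T : Subgroup H), t * z = z * t := fun z hz t ht =>
    (LocGroup56.omegaOne_le p _ hz).2 t ht
  have hmodl : ∀ z ∈ Z₀, ∀ l ∈ L, z⁻¹ * (l * z * l⁻¹) ∈ B := by
    intro z hz l hl
    obtain ⟨r, hr, t, ht, rfl⟩ := hdec l hl
    have e : z⁻¹ * (r * t * z * (r * t)⁻¹) = ⁅z⁻¹, r⁆ := by
      rw [show r * t * z * (r * t)⁻¹ = r * (t * z) * t⁻¹ * r⁻¹ by group, hz₀ z hz t ht,
        commutatorElement_def]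
      group
    rw [e]
    exact Subgroup.commutator_mem_commutator (inv_mem (hZ₀Z hz)) hr
  have hgen : Z ≤ Z₀ ⊔ B := by
    rw [hZeq]
    refine iSup_le fun l => ?_
    rintro _ ⟨z, hz, rfl⟩
    have h2 := mul_mem (Subgroup.mem_sup_left (T := B) hz) (Subgroup.mem_sup_right (S := Z₀) (hmodl z hz l l.2))
    rw [mul_inv_cancel_left] at h2
    exact h2
  have hZL : ⁅Z, L⁆ ≤ B := by
    refine Subgroup.commutator_le.mpr fun u hu l hl => ?_
    obtain ⟨z, hz, b, hb, rfl⟩ :=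
      exists_mul_of_mem_sup (((LocGroup56.omegaOne_le p _).trans inf_le_left |>.trans hTL).trans hLB) (hgen hu)
    have h2 : l * b * l⁻¹ ∈ B := LocalBasics.conj_mem_of_le_normalizer hLB hl hb
    have h3 := hmodl z hz l hl
    have hm : (z * b)⁻¹ * (l * (z * b) * l⁻¹) ∈ B := by
      have e : (z * b)⁻¹ * (l * (z * b) * l⁻¹) = b⁻¹ * (z⁻¹ * (l * z * l⁻¹)) * (l * b * l⁻¹) := by group
      rw [e]; exact mul_mem (mul_mem (inv_mem hb) h3) h2
    have hc : l * (z * b) * l⁻¹ ∈ Z := LocalBasics.conj_mem_of_le_normalizer hLZ hl hu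
    have e : ⁅z * b, l⁆ = ((z * b)⁻¹ * (l * (z * b) * l⁻¹))⁻¹ := by
      rw [mul_inv_rev, inv_inv, hab _ (inv_mem hc) _ hu, commutatorElement_def]
      group
    rw [e]; exact inv_mem hm
  refine ⟨le_antisymm ?_ (sup_le ?_ hBZ), le_antisymm hZL (Subgroup.commutator_mono le_rfl hRL)⟩
  · refine hgen.trans (sup_le (fun z hz => ?_) le_sup_right)
    have h4 := LocalTrace57.mem_of_average (L := L) (S := (T : Subgroup H)) hTL
      (by
        have h := (T.subtype hTL).not_dvd_index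
        rwa [Sylow.coe_subtype] at h)
      hZel hBZ hLZ (hZ₀Z hz) (fun s hs => hz₀ z hz s hs) (hmodl z hz)
    refine (sup_le_sup_right ?_ B) h4
    rintro w ⟨hw, hwC⟩
    exact LocGroup56.mem_omegaOne ⟨(hZY.trans hY.1) hw, hwC⟩ (hZel.2 w hw)
  · refine (Subgroup.closure_le _).mpr ?_
    rintro w ⟨⟨hwL, hwC⟩, hwp⟩
    have hO : Cfsg.pCoreOf p L ≤ (T : Subgroup H) := pCoreOf_le_sylow T hTL
    have hwO : w ∈ Cfsg.pCoreOf p L :=
      charp_inf hL ⟨hwL, fun q hq => hwC q (hTL (hO hq))⟩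
    exact hZ₀Z (LocGroup56.mem_omegaOne ⟨hO hwO, fun t ht => hwC t (hTL ht)⟩ hwp)

end Cfsg.Agent.S2823
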