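import Cfsg.Statements.S2825
import Mathlib
import Cfsg.Agent.Lib.LocalPReduced57
import Cfsg.Agent.Lib.LocalLarge57
import Cfsg.Agent.Lib.LocCoprime56
import Cfsg.Agent.Lib.LocPReduced56

set_option autoImplicit false
open Cfsg
open Subgroup
open Cfsg.Agent Cfsg.Agent.LocalPReduced57

namespace Cfsg.Agent.S2825

theorem subnormal_map {H K : Type*} [Group H] [Group K] {f : H →* K} (hf : Function.Surjective f)
    {D : Subgroup H} (hD : D.IsSubnormal) : (D.map f).IsSubnormal := by
  induction hD with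
  | top => rw [Subgroup.map_top_of_surjective f hf]; exact IsSubnormal.top
  | step A B hle _ hn ih =>
    refine IsSubnormal.step _ _ (map_mono hle) ih ?_
    refine LocalBasics.normal_subgroupOf_of_le (LocalBasics.le_normalizer_of_conj ?_)
    rintro _ ⟨b, hb, rfl⟩ _ ⟨a, ha, rfl⟩
    refine ⟨b * a * b⁻¹, ?_, by simp⟩
    exact hn.conj_mem ⟨a, hle ha⟩ ha ⟨b, hb⟩

variable {H : Type*} [Group H] {p : ℕ}

theorem red_top [Finite H] : IsRed p (Cfsg.largestPReduced p H) ⊤ := by
  have hY := isPReducedNormal_largest p H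
  exact ⟨le_top, LocalBasics.le_normalizer_of_conj fun x _ u hu => hY.1.conj_mem u hu x, hY.2.1,
    fun D _ hn hpow => LocPReduced56.quotient_pGroup_le hY
      (normalizer_eq_top_iff.mp (top_le_iff.mp hn)) hpow⟩

theorem le_of_red_top [Finite H] {U : Subgroup H} (h : IsRed p U ⊤) :
    U ≤ Cfsg.largestPReduced p H :=
  le_sSup (LocPReduced56.isPReducedNormal_intro (normalizer_eq_top_iff.mp (top_le_iff.mp h.2.1))
    h.2.2.1 fun D hD _ hpow => h.2.2.2 D le_top
      (by rw [normalizer_eq_top_iff.mpr hD]) hpow)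

theorem le_centralizer_of_subnormal [Finite H] [Fact p.Prime] {D : Subgroup H}
    (hD : D.IsSubnormal) (hpow : PowMod p D (Cfsg.largestPReduced p H)) :
    D ≤ centralizer (Cfsg.largestPReduced p H : Set H) := by
  obtain ⟨-, -, hn, hcore⟩ := isPReducedNormal_largest p H
  let f := QuotientGroup.mk' (centralizer (Cfsg.largestPReduced p H : Set H))
  have hP : IsPGroup p ↥(D.map f) := fun x => by
    obtain ⟨g, hg, hgx⟩ := Subgroup.mem_map.mp x.2
    obtain ⟨k, hk⟩ := hpow g hg
    refine ⟨k, Subtype.ext ?_⟩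
    rw [SubmonoidClass.coe_pow, ← hgx, ← map_pow]
    exact (QuotientGroup.eq_one_iff _).mpr hk
  have hle := LocalBasics.le_pCore_of_subnormal
    (subnormal_map (QuotientGroup.mk'_surjective _) hD) hP
  rw [hcore, le_bot_iff] at hle
  exact fun g hg => (QuotientGroup.eq_one_iff g).mp (mem_bot.mp (hle ▸ ⟨g, hg, rfl⟩))

/-- A coprime element of a subnormal subgroup centralizing `Y ⊓ L` centralizes `Y`. -/
theorem commute_of_inf [Finite H] [Fact p.Prime] {L : Subgroup H} {Y : Subgroup H} (hY : Y.Normal)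
    (hYp : IsPGroup p ↥Y) {g : H} (hg : g ∈ L) (hgp : (orderOf g).Coprime p)
    {K : Subgroup H} (hK : K.IsSubnormal) (hLK : L ≤ K) (hc : ∀ x ∈ Y ⊓ K, Commute g x) :
    ∀ y ∈ Y, Commute g y := by
  induction hK with
  | top => exact fun y hy => hc y ⟨hy, trivial⟩
  | step A B hle _ hn ih =>
    refine ih (hLK.trans hle) fun x hx => ?_
    have h1 : x⁻¹ * (g * x * g⁻¹) ∈ Y := mul_mem (inv_mem hx.1) (hY.conj_mem x hx.1 g)
    have h2 : x⁻¹ * (g * x * g⁻¹) ∈ A := by
      rw [show x⁻¹ * (g * x * g⁻¹) = (x⁻¹ * g * x⁻¹⁻¹) * g⁻¹ by group]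
      exact mul_mem (hn.conj_mem ⟨g, hle (hLK hg)⟩ (hLK hg) ⟨x⁻¹, inv_mem hx.2⟩) (inv_mem (hLK hg))
    obtain ⟨k, hk⟩ := hYp ⟨_, h1⟩
    have h3 : x⁻¹ * (g * x * g⁻¹) = 1 := OmegaCoprime.eq_one_of_fixed_comm hgp (x := x) (by group)
      (by rw [(hc _ ⟨h1, h2⟩).eq]; group) ⟨k, by simpa [Subtype.ext_iff] using hk⟩
    rw [inv_mul_eq_one] at h3
    exact mul_inv_eq_iff_eq_mul.mp h3.symm

/-- Fixed coset. -/
theorem exists_fixed_coset [Finite H] [Fact p.Prime] {U V Q : Subgroup H} (hV : IsPGroup p ↥V)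
    (hQ : IsPGroup p ↥Q) (hQV : Q ≤ normalizer (V : Set H)) (hQU : Q ≤ normalizer (U : Set H))
    (hUV : U ≤ V) (hVU : V ≤ normalizer (U : Set H)) (hne : U ≠ V) :
    ∃ v ∈ V, v ∉ U ∧ ∀ q ∈ Q, v⁻¹ * (q * v * q⁻¹) ∈ U := by
  have hP := isPGroup_sup hV hQ hQV
  set P := V ⊔ Q with hPdef
  haveI : (U.subgroupOf P).Normal := LocalBasics.normal_subgroupOf_of_le (sup_le hVU hQU)
  haveI : (V.subgroupOf P).Normal :=
    LocalBasics.normal_subgroupOf_of_le (sup_le le_normalizer hQV)
  let f := QuotientGroup.mk' (U.subgroupOf P)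
  haveI := (inferInstance : (V.subgroupOf P).Normal).map f (QuotientGroup.mk'_surjective _)
  have hne' : (V.subgroupOf P).map f ≠ ⊥ := by
    intro h0
    refine hne (le_antisymm hUV fun v hv => ?_)
    have := mem_bot.mp (h0 ▸ mem_map_of_mem f (show (⟨v, mem_sup_left hv⟩ : ↥P) ∈ V.subgroupOf P from hv))
    exact (QuotientGroup.eq_one_iff (⟨v, mem_sup_left hv⟩ : ↥P)).mp this
  obtain ⟨⟨x, hxV, hxZ⟩, hx⟩ := Subgroup.ne_bot_iff_exists_ne_one.mp
    (PGroupsBasic.inf_center_ne_bot (hP.to_quotient _) hne')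
  obtain ⟨v, hv, rfl⟩ := hxV
  refine ⟨v, hv, fun hvU => hx (Subtype.ext ((QuotientGroup.eq_one_iff v).mpr hvU)), fun q hq => ?_⟩
  have h := Subgroup.mem_center_iff.mp hxZ (f ⟨q, mem_sup_right hq⟩)
  have h1 : f (v⁻¹ * (⟨q, mem_sup_right hq⟩ * v * (⟨q, mem_sup_right hq⟩)⁻¹)) = 1 := by
    simp only [map_mul, map_inv]
    rw [h]; group
  have h2 : (v⁻¹ * (⟨q, mem_sup_right hq⟩ * v * (⟨q, mem_sup_right hq⟩)⁻¹) : ↥P) ∈ U.subgroupOf P :=
    (QuotientGroup.eq_one_iff _).mp h1
  exact h2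

/-- The normal case. -/
theorem normal_case [Finite H] [Fact p.Prime] {L M : Subgroup H} (hLM : L ≤ M)
    (hn : M ≤ normalizer (L : Set H)) :
    L ⊓ centralizer ((Cfsg.largestPReducedOf p M : Subgroup H) : Set H) ≤
      centralizer ((Cfsg.largestPReducedOf p L : Subgroup H) : Set H) := by
  classical
  have hW := red_largest p L
  set W := Cfsg.largestPReducedOf p L
  set V₀ := conjClosure W M
  have hMΩ : M ≤ normalizer ((omegaCore p L : Subgroup H) : Set H) :=
    le_normalizer_omegaOne (LocalBasics.le_normalizer_inf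
      (LocalLarge57.le_normalizer_pCoreOf_of_le_normalizer hn)
      (LocalBasics.le_normalizer_centralizer (LocalLarge57.le_normalizer_pCoreOf_of_le_normalizer hn)))
  have hV₀el : Cfsg.IsElementaryAbelian p V₀ :=
    PGroupsBasic.isElementaryAbelian_mono (omegaCore_el p L) (conjClosure_le hW.le_omega hMΩ)
  set 𝒮 := {V : Subgroup H | V ≤ V₀ ∧ M ≤ normalizer (V : Set H) ∧
      L ⊓ centralizer (V : Set H) ≤ centralizer (W : Set H)}
  obtain ⟨V, ⟨hV0, hMV, hVW⟩, hmin⟩ := (Set.toFinite 𝒮).exists_minimal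
    ⟨V₀, le_rfl, le_normalizer_conjClosure W M,
      inf_le_right.trans (centralizer_le (SetLike.coe_subset_coe.mpr (le_conjClosure W M)))⟩
  suffices hred : IsRed p V M from
    fun x hx => hVW ⟨hx.1, centralizer_le (SetLike.coe_subset_coe.mpr (le_largest hred)) hx.2⟩
  have hVel := PGroupsBasic.isElementaryAbelian_mono hV₀el hV0
  have hVp := PGroupsBasic.isPGroup_of_isElementaryAbelian hVel
  have hVcomm : ∀ a ∈ V, ∀ b ∈ V, Commute a b := fun a ha b hb =>
    LocPReduced56.comm_of_elementary hVel ha hb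
  have hV0L : V ≤ L :=
    hV0.trans (((conjClosure_le hW.le_omega hMΩ).trans (omegaCore_le p L)).trans
      (LocalBasics.pCoreOf_le p L))
  refine ⟨hV0L.trans hLM, hMV, hVel, fun D hDM hDn hpow => ?_⟩
  by_contra hDC
  have hLD : L ⊓ D ≤ centralizer (V : Set H) := by
    have h1 : L ⊓ D ≤ centralizer (W : Set H) :=
      hW.2.2.2 _ inf_le_left (LocalBasics.le_normalizer_inf le_normalizer (hLM.trans hDn))
        fun g hg => by
          obtain ⟨k, hk⟩ := hpow g hg.2
          exact ⟨k, hVW ⟨pow_mem hg.1 _, hk⟩⟩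
    refine le_centralizer_symm (hV0.trans (conjClosure_le (le_centralizer_symm h1) ?_))
    exact LocalBasics.le_normalizer_centralizer (LocalBasics.le_normalizer_inf hn hDn)
  set V₁ := V ⊓ centralizer (D : Set H) with hV₁
  have hVW₁ : L ⊓ centralizer (V₁ : Set H) ≤ centralizer (W : Set H) := by
    refine hW.2.2.2 _ inf_le_left (LocalBasics.le_normalizer_inf le_normalizer
      (LocalBasics.le_normalizer_centralizer (LocalBasics.le_normalizer_inf (hLM.trans hMV)
        (LocalBasics.le_normalizer_centralizer (hLM.trans hDn))))) fun g hg => ?_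
    obtain ⟨k, hk⟩ := LocCoprime56.exists_coprime_pow (p := p) g
    refine ⟨k, hVW ⟨pow_mem hg.1 _, ?_⟩⟩
    have hgC : g ^ p ^ k ∈ centralizer (V₁ : Set H) := pow_mem hg.2 (p ^ k)
    have hgL : g ^ p ^ k ∈ L := pow_mem hg.1 (p ^ k)
    set a := g ^ p ^ k
    set U := V ⊓ centralizer ({a} : Set H) with hU
    suffices hUV : U = V from fun v hv => (mem_centralizer_iff.mp (hUV.ge hv).2 a rfl).symm
    by_contra hne
    obtain ⟨Q⟩ : Nonempty (Sylow p ↥D) := inferInstance
    set Q' := (Q : Subgroup ↥D).map D.subtype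
    have hQD : Q' ≤ D := map_subtype_le _
    have hDV : D ≤ normalizer (V : Set H) := hDM.trans hMV
    have comm_mem : ∀ d ∈ D, a⁻¹ * (d * a * d⁻¹) ∈ centralizer (V : Set H) := fun d hd =>
      hLD (Subgroup.mem_inf.mpr ⟨mul_mem (inv_mem hgL) (LocalBasics.conj_mem_of_le_normalizer hn (hDM hd) hgL), by
        rw [show a⁻¹ * (d * a * d⁻¹) = (a⁻¹ * d * a⁻¹⁻¹) * d⁻¹ by group]
        exact mul_mem (LocalBasics.conj_mem_of_le_normalizer (hLM.trans hDn) (inv_mem hgL) hd)
          (inv_mem hd)⟩)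
    have hDU : D ≤ normalizer (U : Set H) := by
      refine LocalBasics.le_normalizer_of_conj fun d hd u hu =>
        ⟨LocalBasics.conj_mem_of_le_normalizer hDV hd hu.1, mem_centralizer_iff.mpr ?_⟩
      intro z hz
      rw [Set.mem_singleton_iff.mp hz]
      have e1 := comm_mem d⁻¹ (inv_mem hd) u hu.1
      have e2 : a * u = u * a := mem_centralizer_iff.mp hu.2 a rfl
      have e3 : d⁻¹ * a * d * u = u * (d⁻¹ * a * d) := by
        calc d⁻¹ * a * d * u = a * (a⁻¹ * (d⁻¹ * a * d⁻¹⁻¹) * u) := by group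
          _ = a * u * (a⁻¹ * (d⁻¹ * a * d⁻¹⁻¹)) := by rw [← e1]; group
          _ = u * (d⁻¹ * a * d) := by rw [e2]; group
      calc a * (d * u * d⁻¹) = d * (d⁻¹ * a * d * u) * d⁻¹ := by group
        _ = d * (u * (d⁻¹ * a * d)) * d⁻¹ := by rw [e3]
        _ = d * u * d⁻¹ * a := by group
    obtain ⟨v, hv, hvU, hfix⟩ := exists_fixed_coset hVp (Q.isPGroup'.map _) (hQD.trans hDV)
      (hQD.trans hDU) inf_le_left
      (LocalBasics.le_normalizer_of_conj fun y hy u hu => by
        have : y * u * y⁻¹ = u := by rw [(hVcomm y hy u hu.1).eq, mul_inv_cancel_right]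
        rw [this]; exact hu) hne
    set c := v⁻¹ * (a * v * a⁻¹) with hc
    have hcV : c ∈ V := mul_mem (inv_mem hv)
      (LocalBasics.conj_mem_of_le_normalizer (hLM.trans hMV) hgL hv)
    have hQc : Q' ≤ centralizer ({c} : Set H) := by
      intro q hq
      refine mem_centralizer_iff.mpr fun z hz => ?_
      rw [Set.mem_singleton_iff.mp hz]
      set u := v⁻¹ * (q * v * q⁻¹) with hu'
      obtain ⟨huV, hua⟩ := hfix q hq
      have e2 : a * u = u * a := mem_centralizer_iff.mp hua a rfl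
      set w := a⁻¹ * (q * a * q⁻¹) with hw
      have hwV := comm_mem q (hQD hq)
      have e4 : w * (v * u) * w⁻¹ = v * u := by
        rw [← hwV (v * u) (mul_mem hv huV), mul_inv_cancel_right]
      have e5 : q * c * q⁻¹ = c := by
        calc q * c * q⁻¹ = (v * u)⁻¹ * (a * (w * (v * u) * w⁻¹) * a⁻¹) := by
              rw [hc, hu', hw]; group
          _ = u⁻¹ * v⁻¹ * (a * v * (u * a⁻¹)) := by rw [e4]; group
          _ = u⁻¹ * v⁻¹ * (a * v * (a⁻¹ * u)) := by
              rw [show u * a⁻¹ = a⁻¹ * u from (Commute.inv_left e2).eq.symm]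
          _ = u⁻¹ * c * u := by rw [hc]; group
          _ = c := by rw [mul_assoc, (hVcomm c hcV u huV).eq, inv_mul_cancel_left]
      rw [← mul_inv_eq_iff_eq_mul.mp e5]
    have hcV₁ : c ∈ V₁ := by
      refine ⟨hcV, fun d hd => ?_⟩
      have hall : (centralizer ({c} : Set H)).subgroupOf D = ⊤ := by
        refine top_le_iff.mp ?_
        rw [← TransferPResidual.sylow_sup_pResidual Q]
        refine sup_le (fun y hy => hQc (mem_map_of_mem D.subtype hy)) ?_
        rw [TransferPResidual.pResidual_le_iff_coprime]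
        intro e he
        obtain ⟨j, hj⟩ := hpow e e.2
        refine LocCoprime56.mem_of_pow_mem (g := (e : H)) (by rwa [orderOf_coe]) (k := j)
          (mem_centralizer_iff.mpr fun z hz => ?_)
        rw [Set.mem_singleton_iff.mp hz]
        exact hj c hcV
      have := mem_top (G := ↥D) ⟨d, hd⟩
      rw [← hall] at this
      exact (mem_centralizer_iff.mp this c rfl).symm
    have e2 : c * a = a * c := hgC c hcV₁
    obtain ⟨j, hj⟩ := hVp ⟨c, hcV⟩
    have hone : c = 1 := OmegaCoprime.eq_one_of_fixed_comm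
      hk (x := v) (by rw [hc]; group)
      (by rw [← e2, mul_inv_cancel_right]) ⟨j, by simpa [Subtype.ext_iff] using hj⟩
    refine hvU ⟨hv, mem_centralizer_iff.mpr fun z hz => ?_⟩
    rw [Set.mem_singleton_iff.mp hz]
    rw [hc, inv_mul_eq_one] at hone
    exact mul_inv_eq_iff_eq_mul.mp hone.symm
  have h2 := hmin ⟨inf_le_left.trans hV0, LocalBasics.le_normalizer_inf hMV
    (LocalBasics.le_normalizer_centralizer hDn), hVW₁⟩ inf_le_left
  exact hDC (le_centralizer_symm (h2.trans inf_le_right))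

/-- `C_L(Y_H) ≤ C_L(Y_L)` for subnormal `L`. -/
theorem inf_centralizer_le [Finite H] [Fact p.Prime] {L : Subgroup H} (hL : L.IsSubnormal) :
    L ⊓ centralizer (Cfsg.largestPReduced p H : Set H) ≤
      centralizer ((Cfsg.largestPReducedOf p L : Subgroup H) : Set H) := by
  induction hL with
  | top =>
    refine inf_le_right.trans (centralizer_le (SetLike.coe_subset_coe.mpr ?_))
    exact le_of_red_top (red_largest p ⊤)
  | step A B hle _ hn ih =>
    intro x hx
    exact normal_case hle ((normal_subgroupOf_iff_le_normalizer hle).mp hn)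
      ⟨hx.1, ih ⟨hle hx.1, hx.2⟩⟩

/-- Let L be a subnormal subgroup of the finite group H, p a prime, Y_H and Y_L the largest p-reduced normal subgroups. Then Y_H ∩ L = Y_H ∩ Y_L and this subgroup is a p-reduced normal subgroup of L; C_L(Y_L) = C_L(Y_H) = C_L(Y_H ∩ L); and if O^p(H) ≤ L, then [Y_L, L] = 1 if and only if [Y_H, H] = 1. -/
theorem result {H : Type*} [Group H] [Finite H] {p : ℕ} [Fact p.Prime] (L : Subgroup H) (hL : L.IsSubnormal) : Cfsg.largestPReduced p H ⊓ L = Cfsg.largestPReduced p H ⊓ (Cfsg.largestPReducedOf p L) ∧ Cfsg.IsPReducedNormal p ((Cfsg.largestPReduced p H ⊓ L).subgroupOf L) ∧ L ⊓ Subgroup.centralizer ((Cfsg.largestPReducedOf p L : Subgroup H) : Set H) = L ⊓ Subgroup.centralizer (Cfsg.largestPReduced p H : Set H) ∧ L ⊓ Subgroup.centralizer (Cfsg.largestPReduced p H : Set H) = L ⊓ Subgroup.centralizer ((Cfsg.largestPReduced p H ⊓ L : Subgroup H) : Set H) ∧ (Cfsg.pResidual p H ≤ L → (⁅(Cfsg.largestPReducedOf p L), L⁆ = ⊥ ↔ ⁅Cfsg.largestPReduced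 p H, (⊤ : Subgroup H)⁆ = ⊥)) := by
  have hY := isPReducedNormal_largest p H
  set Y := Cfsg.largestPReduced p H with hYdef
  have hYp : IsPGroup p ↥Y := PGroupsBasic.isPGroup_of_isElementaryAbelian hY.2.1
  have hW := red_largest p L
  set W := Cfsg.largestPReducedOf p L
  have hLn : L ≤ normalizer ((Y ⊓ L : Subgroup H) : Set H) :=
    LocalBasics.le_normalizer_inf (by rw [normalizer_eq_top_iff.mpr hY.1]; exact le_top) le_normalizer
  have hCZ : L ⊓ centralizer ((Y ⊓ L : Subgroup H) : Set H) ≤ centralizer (Y : Set H) := by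
    refine le_centralizer_of_subnormal (IsSubnormal.step _ L inf_le_left hL
      (LocalBasics.normal_subgroupOf_of_le (LocalBasics.le_normalizer_inf le_normalizer
        (LocalBasics.le_normalizer_centralizer hLn)))) fun g hg => ?_
    obtain ⟨k, hk⟩ := LocCoprime56.exists_coprime_pow (p := p) g
    refine ⟨k, fun y hy => ?_⟩
    exact (commute_of_inf hY.1 hYp (pow_mem hg.1 _) hk hL le_rfl
      (fun x hx => ((pow_mem hg.2 (p ^ k)) x hx).symm) y hy).eq.symm
  have hZ : IsRed p (Y ⊓ L) L := by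
    refine ⟨inf_le_right, hLn, PGroupsBasic.isElementaryAbelian_mono hY.2.1 inf_le_left,
      fun D hDL hDn hpow => ?_⟩
    refine le_trans ?_ (centralizer_le (SetLike.coe_subset_coe.mpr inf_le_left))
    refine le_centralizer_of_subnormal
      (IsSubnormal.step D L hDL hL (LocalBasics.normal_subgroupOf_of_le hDn)) fun g hg => ?_
    obtain ⟨k, hk⟩ := hpow g hg
    exact ⟨k, hCZ ⟨pow_mem (hDL hg) _, hk⟩⟩
  have hZW := le_largest hZ
  have hCW : L ⊓ centralizer (W : Set H) = L ⊓ centralizer (Y : Set H) :=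
    le_antisymm (le_inf inf_le_left ((inf_le_inf_left L
      (centralizer_le (SetLike.coe_subset_coe.mpr hZW))).trans hCZ))
      (le_inf inf_le_left (inf_centralizer_le hL))
  refine ⟨le_antisymm (le_inf inf_le_left hZW) (inf_le_inf_left Y hW.1), (isRed_iff.mp hZ).2, hCW,
    le_antisymm (inf_le_inf_left L (centralizer_le (SetLike.coe_subset_coe.mpr inf_le_left)))
      (le_inf inf_le_left hCZ), fun hres => ?_⟩
  rw [commutator_eq_bot_iff_le_centralizer, commutator_eq_bot_iff_le_centralizer]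
  constructor
  · intro h
    have h1 : L ≤ centralizer (Y : Set H) :=
      (le_inf le_rfl (le_centralizer_symm h)).trans (hCW.le.trans inf_le_right)
    refine le_centralizer_symm (le_centralizer_of_subnormal IsSubnormal.top fun g _ => ?_)
    obtain ⟨k, hk⟩ := LocCoprime56.exists_coprime_pow (p := p) g
    exact ⟨k, h1 (hres (Subgroup.subset_closure hk))⟩
  · intro h
    refine le_centralizer_symm ((le_inf le_rfl ?_).trans (hCW.ge.trans inf_le_right))
    exact le_top.trans (le_centralizer_symm h)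

end Cfsg.Agent.S2825
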