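import Cfsg.Statements.S2826
import Mathlib
import Cfsg.Agent.Lib.LocalPReduced57
import Cfsg.Agent.Lib.LocalTrace57


set_option autoImplicit false
open Cfsg
open Cfsg.Agent Cfsg.Agent.LocalPReduced57
open scoped commutatorElement

namespace Cfsg.Agent.S2826

/-- Let H be a finite group of characteristic p, T a Sylow p-subgroup, and V a normal elementary abelian p-subgroup of H containing Ω₁(Z(T)). Then C_H(Ω₁(Z(T))) = C_H([V, O^p(H)] ∩ Ω₁(Z(T))), O^p(H) being generated by the elements of order prime to p. -/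
theorem result {H : Type*} [Group H] [Finite H] {p : ℕ} [Fact p.Prime] (hH : Subgroup.centralizer (Cfsg.pCore p H : Set H) ≤ Cfsg.pCore p H) (T : Sylow p H) (V : Subgroup H) [V.Normal] (hV : Cfsg.IsElementaryAbelian p V) (hZV : (Cfsg.omegaOne p ((T : Subgroup H) ⊓ Subgroup.centralizer (((T : Subgroup H) : Subgroup H) : Set H))) ≤ V) : Subgroup.centralizer ((Cfsg.omegaOne p ((T : Subgroup H) ⊓ Subgroup.centralizer (((T : Subgroup H) : Subgroup H) : Set H))) : Set H) = Subgroup.centralizer (((⁅V, Cfsg.pResidual p H⁆ ⊓ (Cfsg.omegaOne p ((T : Subgroup H) ⊓ Subgroup.centralizer (((T : Subgroup H) : Subgroup H) : Set H)))) : Subgroup H) : Set H) := by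
  set Z := Cfsg.omegaOne p ((T : Subgroup H) ⊓ Subgroup.centralizer ((T : Subgroup H) : Set H)) with hZ
  set B := ⁅V, Cfsg.pResidual p H⁆ with hB
  have hBV : B ≤ V := Subgroup.commutator_le_left _ _
  have hVT : V ≤ (T : Subgroup H) :=
    (HallCore.le_pCore (PGroupsBasic.isPGroup_of_isElementaryAbelian hV)).trans (HallCore.pCore_le_sylow T)
  refine le_antisymm (Subgroup.centralizer_le (SetLike.coe_subset_coe.mpr inf_le_right)) ?_
  intro c hc z hz
  have hzle : z ∈ (T : Subgroup H) ⊓ Subgroup.centralizer ((T : Subgroup H) : Set H) :=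
    LocGroup56.omegaOne_le p _ hz
  have h1 : z ∈ (V ⊓ Subgroup.centralizer ((⊤ : Subgroup H) : Set H)) ⊔ B := by
    refine LocalTrace57.mem_of_average (L := (⊤ : Subgroup H)) (S := (T : Subgroup H)) le_top ?_ hV hBV
      (LocalBasics.le_normalizer_of_normal _) (hZV hz) (fun s hs => hzle.2 s hs) ?_
    · rw [Subgroup.relIndex_top_right]; exact T.not_dvd_index
    · intro l _
      obtain ⟨r, hr, t, ht, rfl⟩ := Subgroup.mem_sup_of_normal_left.mp
        (show l ∈ Cfsg.pResidual p H ⊔ (T : Subgroup H) by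
          rw [sup_comm, TransferPResidual.sylow_sup_pResidual]; trivial)
      have ht' : t * z = z * t := hzle.2 t ht
      have e : z⁻¹ * (r * t * z * (r * t)⁻¹) = ⁅z⁻¹, r⁆ := by
        rw [show r * t * z * (r * t)⁻¹ = r * (t * z) * t⁻¹ * r⁻¹ by group, ht', commutatorElement_def]
        group
      rw [e]
      exact Subgroup.commutator_mem_commutator (inv_mem (hZV hz)) hr
  obtain ⟨w, ⟨hwV, hwC⟩, b, hb, rfl⟩ :=
    LocalPReduced57.exists_mul_of_mem_sup (LocalBasics.le_normalizer_of_normal (A := B) _) h1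
  have hwZ : w ∈ Z := LocGroup56.mem_omegaOne ⟨hVT hwV, fun t _ => hwC t (Subgroup.mem_top t)⟩ (hV.2 w hwV)
  have hbZ : b ∈ Z := by
    have := mul_mem (inv_mem hwZ) hz
    rwa [inv_mul_cancel_left] at this
  have e1 := hc b ⟨hb, hbZ⟩
  have e2 : c * w = w * c := hwC c (Subgroup.mem_top c)
  rw [mul_assoc, e1, ← mul_assoc, ← e2, mul_assoc]

end Cfsg.Agent.S2826
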