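import Cfsg.Statements.S2827
import Mathlib
import Cfsg.Agent.Lib.LocalBasics


set_option autoImplicit false
open Cfsg
open Cfsg.Agent
open scoped commutatorElement

namespace Cfsg.Agent.S2827

/-- Let H be a finite p-irreducible group (not p-closed, and O^p(H) lies in every normal subgroup that is not p-closed) and T a Sylow p-subgroup. Then H is generated by the conjugates of T and H = H'·T; O^p(H) ≤ H'; and for every normal subgroup Y of T not contained in O_p(H), O^p(H) = [O^p(H), Y] and O^p(H) is contained in the normal closure of Y in H. -/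
theorem result {H : Type*} [Group H] [Finite H] {p : ℕ} [Fact p.Prime] (hH : Cfsg.IsPIrreducible p H) (T : Sylow p H) : Subgroup.normalClosure ((T : Subgroup H) : Set H) = ⊤ ∧ commutator H ⊔ (T : Subgroup H) = ⊤ ∧ Cfsg.pResidual p H ≤ commutator H ∧ ∀ Y : Subgroup H, Y ≤ (T : Subgroup H) → (T : Subgroup H) ≤ Subgroup.normalizer (Y : Set H) → ¬ Y ≤ Cfsg.pCore p H → ⁅Cfsg.pResidual p H, Y⁆ = Cfsg.pResidual p H ∧ Cfsg.pResidual p H ≤ Subgroup.normalClosure (Y : Set H) := by
  have hR : (Cfsg.pResidual p H).Normal := inferInstance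
  have hTR := TransferPResidual.sylow_sup_pResidual (p := p) T
  have key : ∀ N : Subgroup H, N.Normal → ∀ Y : Subgroup H, IsPGroup p Y → Y ≤ N →
      ¬ Y ≤ Cfsg.pCore p H → Cfsg.pResidual p H ≤ N := fun N hN Y hY hYN hYO =>
    hH.2 N hN fun hc => hYO (LocalBasics.sylow_le_pCore (hn := hN) hc hY hYN)
  have hTO : ¬ (T : Subgroup H) ≤ Cfsg.pCore p H := fun h => hH.1
    (LocalBasics.isPClosed_iff.mpr ⟨T, by
      rw [show (T : Subgroup H) = Cfsg.pCore p H from le_antisymm h (HallCore.pCore_le_sylow T)]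
      infer_instance⟩)
  have htop : ∀ N : Subgroup H, N.Normal → (T : Subgroup H) ≤ N → N = ⊤ := fun N hN hTN =>
    top_le_iff.mp (hTR.ge.trans (sup_le hTN (key N hN _ T.isPGroup' hTN hTO)))
  have h1 : Subgroup.normalClosure ((T : Subgroup H) : Set H) = ⊤ :=
    htop _ inferInstance Subgroup.subset_normalClosure
  have h2 : commutator H ⊔ (T : Subgroup H) = ⊤ :=
    htop _ (Subgroup.Normal.of_commutator_le H le_sup_left) le_sup_right
  have h3 : Cfsg.pResidual p H ≤ commutator H := by
    refine TransferPResidual.pResidual_le_of_isPGroup_quotient ?_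
    refine T.isPGroup'.of_surjective
      ((QuotientGroup.mk' (commutator H)).comp (T : Subgroup H).subtype) ?_
    intro x
    obtain ⟨g, rfl⟩ := QuotientGroup.mk'_surjective (commutator H) x
    obtain ⟨c, hc, t, ht, rfl⟩ := Subgroup.mem_sup_of_normal_left.mp
      (show g ∈ commutator H ⊔ (T : Subgroup H) by rw [h2]; trivial)
    refine ⟨⟨t, ht⟩, ?_⟩
    have hc1 : QuotientGroup.mk' (commutator H) c = 1 := (QuotientGroup.eq_one_iff c).mpr hc
    rw [map_mul, hc1, one_mul]; rfl
  refine ⟨h1, h2, h3, fun Y hYT hTY hYO => ?_⟩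
  set R := Cfsg.pResidual p H with hRdef
  set C := ⁅R, Y⁆ with hC
  have hCn : C.Normal := by
    rw [← Subgroup.normalizer_eq_top_iff, eq_top_iff, ← hTR, sup_le_iff]
    refine ⟨LocalBasics.le_normalizer_of_conj fun t ht k hk => ?_, Subgroup.normalizer_commutator_ge_left R Y⟩
    have e1 : R.map (MulAut.conj t).toMonoidHom ≤ R := by
      rintro _ ⟨r, hr, rfl⟩; exact hR.conj_mem r hr t
    have e2 : Y.map (MulAut.conj t).toMonoidHom ≤ Y := by
      rintro _ ⟨y, hy, rfl⟩; exact LocalBasics.conj_mem_of_le_normalizer hTY ht hy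
    have e3 := (Subgroup.map_commutator R Y (MulAut.conj t).toMonoidHom).le ⟨k, hk, rfl⟩
    exact Subgroup.commutator_mono e1 e2 e3
  have hNn : (C ⊔ Y).Normal := by
    rw [← Subgroup.normalizer_eq_top_iff, eq_top_iff, ← hTR, sup_le_iff]
    refine ⟨LocalBasics.le_normalizer_sup (LocalBasics.le_normalizer_of_normal (A := C) _) hTY, ?_⟩
    refine LocalBasics.le_normalizer_of_conj fun r hr k hk => ?_
    obtain ⟨c, hc, y, hy, rfl⟩ := Subgroup.mem_sup_of_normal_left.mp hk
    have e : r * (c * y) * r⁻¹ = (r * c * r⁻¹) * (⁅r, y⁆ * y) := by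
      rw [commutatorElement_def]; group
    rw [e]
    exact mul_mem (Subgroup.mem_sup_left (hCn.conj_mem c hc r))
      (mul_mem (Subgroup.mem_sup_left (Subgroup.commutator_mem_commutator hr hy)) (Subgroup.mem_sup_right hy))
  have hYp : IsPGroup p Y := T.isPGroup'.to_le hYT
  have hRN := key _ hNn Y hYp le_sup_right hYO
  refine ⟨le_antisymm (Subgroup.commutator_le_left _ _) ?_,
    key _ inferInstance Y hYp Subgroup.subset_normalClosure hYO⟩
  rw [hRdef, TransferPResidual.pResidual_le_iff_coprime]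
  intro g hg
  obtain ⟨c, hc, y, hy, rfl⟩ := Subgroup.mem_sup_of_normal_left.mp
    (hRN (TransferPResidual.mem_pResidual_of_coprime hg))
  obtain ⟨k, hk⟩ := hYp ⟨y, hy⟩
  have e1 : orderOf (QuotientGroup.mk' C (c * y)) ∣ p ^ k := by
    refine orderOf_dvd_of_pow_eq_one ?_
    have hc1 : QuotientGroup.mk' C c = 1 := (QuotientGroup.eq_one_iff c).mpr hc
    rw [map_mul, hc1, one_mul, ← map_pow, show y ^ p ^ k = 1 from congrArg Subtype.val hk, map_one]
  exact (QuotientGroup.eq_one_iff (c * y)).mp (orderOf_eq_one_iff.mp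
    (Nat.eq_one_of_dvd_coprimes (hg.pow_right k) (orderOf_map_dvd (QuotientGroup.mk' C) (c * y)) e1))

end Cfsg.Agent.S2827
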