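import Cfsg.Statements.S2828
import Mathlib
import Cfsg.Agent.Lib.LocalBasics


set_option autoImplicit false
open Cfsg
open Cfsg.Agent
open scoped commutatorElement

namespace Cfsg.Agent.S2828

theorem closed_subgroup {A : Type*} [Group A] [Finite A] {p : ℕ} [Fact p.Prime]
    (h : Cfsg.IsPClosed p A) (K : Subgroup A) : Cfsg.IsPClosed p ↥K := by
  refine LocalBasics.isPClosed_iff_pCore.mpr fun Q => ?_
  obtain ⟨U, hU⟩ := (Q.isPGroup'.map K.subtype).exists_le_sylow
  intro q hq
  exact HallCore.pCore_subgroupOf_le K (LocalBasics.isPClosed_iff_pCore.mp h U (hU ⟨q, hq, rfl⟩))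

theorem closed_iff {A B : Type*} [Group A] [Group B] [Finite A] {p : ℕ} [Fact p.Prime] (f : A →* B)
    (hf : Function.Surjective f) (hker : IsPGroup p f.ker) :
    Cfsg.IsPClosed p A ↔ Cfsg.IsPClosed p B := by
  have : Finite B := Finite.of_surjective f hf
  constructor
  · intro h
    obtain ⟨P⟩ : Nonempty (Sylow p A) := inferInstance
    exact LocalBasics.isPClosed_iff.mpr ⟨P.mapSurjective hf, by
      rw [Sylow.coe_mapSurjective]; exact Subgroup.Normal.map (h P) f hf⟩
  · intro h P
    have hk : f.ker ≤ (P : Subgroup A) :=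
      (HallCore.le_pCore hker).trans (HallCore.pCore_le_sylow P)
    have h1 := (h (P.mapSurjective hf)).comap f
    rwa [Sylow.coe_mapSurjective, Subgroup.comap_map_eq_self hk] at h1

theorem closed_iff_map {A B : Type*} [Group A] [Group B] [Finite A] {p : ℕ} [Fact p.Prime]
    (f : A →* B) (hker : IsPGroup p f.ker) (N : Subgroup A) :
    Cfsg.IsPClosed p ↥N ↔ Cfsg.IsPClosed p ↥(N.map f) := by
  refine closed_iff (f.subgroupMap N) (f.subgroupMap_surjective N) ?_
  rintro ⟨x, hx⟩
  have hx' : f x.1 = 1 := congrArg Subtype.val hx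
  obtain ⟨k, hk⟩ := hker ⟨x.1, hx'⟩
  exact ⟨k, Subtype.ext (Subtype.ext (congrArg Subtype.val hk :))⟩

/-- Let H be a finite group, p a prime and D a normal p-subgroup of H. Then H is p-irreducible if and only if H/D is p-irreducible, and H is strongly p-irreducible if and only if H/D is strongly p-irreducible. -/
theorem result {H : Type*} [Group H] [Finite H] {p : ℕ} [Fact p.Prime] (D : Subgroup H) [D.Normal] (hD : IsPGroup p ↥D) : (Cfsg.IsPIrreducible p H ↔ Cfsg.IsPIrreducible p (H ⧸ D)) ∧ (Cfsg.IsStronglyPIrreducible p H ↔ Cfsg.IsStronglyPIrreducible p (H ⧸ D)) := by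
  set q := QuotientGroup.mk' D with hqdef
  have hq : Function.Surjective q := QuotientGroup.mk'_surjective D
  have hker : IsPGroup p q.ker := by rw [hqdef, QuotientGroup.ker_mk']; exact hD
  have hRmap : (Cfsg.pResidual p H).map q = Cfsg.pResidual p (H ⧸ D) :=
    TransferPResidual.map_pResidual_eq_of_surjective q hq
  have hDO : D ≤ Cfsg.pCore p H := HallCore.le_pCore hD
  have hOcomap : (Cfsg.pCore p (H ⧸ D)).comap q = Cfsg.pCore p H := by
    rw [HallCore.pCore_quotient hD, Subgroup.comap_map_eq_self]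
    rw [hqdef, QuotientGroup.ker_mk']; exact hDO
  have htc := closed_iff q hq hker
  have hres : ∀ N : Subgroup H, N.Normal → Cfsg.pResidual p H ≤ N ⊔ D → Cfsg.pResidual p H ≤ N := by
    intro N hN hle
    rw [TransferPResidual.pResidual_le_iff_coprime]
    intro g hg
    obtain ⟨n, hn, d, hd, rfl⟩ := Subgroup.mem_sup_of_normal_left.mp
      (hle (TransferPResidual.mem_pResidual_of_coprime hg))
    obtain ⟨k, hk⟩ := hD ⟨d, hd⟩
    have e1 : orderOf (QuotientGroup.mk' N (n * d)) ∣ p ^ k := by
      refine orderOf_dvd_of_pow_eq_one ?_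
      have hn1 : QuotientGroup.mk' N n = 1 := (QuotientGroup.eq_one_iff n).mpr hn
      rw [map_mul, hn1, one_mul, ← map_pow, show d ^ p ^ k = 1 from congrArg Subtype.val hk, map_one]
    exact (QuotientGroup.eq_one_iff (n * d)).mp (orderOf_eq_one_iff.mp
      (Nat.eq_one_of_dvd_coprimes (hg.pow_right k) (orderOf_map_dvd (QuotientGroup.mk' N) (n * d)) e1))
  have hback : ∀ N : Subgroup H, Cfsg.pResidual p (H ⧸ D) ≤ N.map q →
      Cfsg.pResidual p H ≤ N ⊔ D := by
    intro N h
    rw [← hRmap, Subgroup.map_le_map_iff, hqdef, QuotientGroup.ker_mk'] at h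
    exact h
  have hfwd : ∀ M : Subgroup (H ⧸ D), Cfsg.pResidual p H ≤ M.comap q →
      Cfsg.pResidual p (H ⧸ D) ≤ M := fun M h => by
    rw [← hRmap, Subgroup.map_le_iff_le_comap]; exact h
  constructor
  · constructor
    · rintro ⟨h1, h2⟩
      refine ⟨fun h => h1 (htc.mpr h), fun M hM hMc => hfwd M (h2 _ (hM.comap q) fun hc => hMc ?_)⟩
      have := (closed_iff_map q hker (M.comap q)).mp hc
      rwa [Subgroup.map_comap_eq_self_of_surjective hq] at this
    · rintro ⟨h1, h2⟩
      refine ⟨fun h => h1 (htc.mp h), fun N hN hNc =>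
        hres N hN (hback N (h2 _ (hN.map q hq) fun hc => hNc ?_))⟩
      exact (closed_iff_map q hker N).mpr hc
  · constructor
    · rintro ⟨h1, h2⟩
      refine ⟨fun h => h1 (htc.mpr h), fun M hM hMc => hfwd M (h2 _ (hM.comap q) fun hc => hMc ?_)⟩
      have h3 := Subgroup.map_mono (f := q) hc
      rw [Subgroup.map_commutator, Subgroup.map_comap_eq_self_of_surjective hq,
        Subgroup.map_top_of_surjective q hq] at h3
      exact h3.trans (le_of_eq (HallCore.pCore_quotient hD).symm)
    · rintro ⟨h1, h2⟩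
      refine ⟨fun h => h1 (htc.mp h), fun N hN hNc =>
        hres N hN (hback N (h2 _ (hN.map q hq) fun hc => hNc ?_))⟩
      rw [← Subgroup.map_top_of_surjective q hq, ← Subgroup.map_commutator,
        Subgroup.map_le_iff_le_comap, hOcomap] at hc
      exact hc

end Cfsg.Agent.S2828
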