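import Cfsg.Statements.S2829
import Mathlib
import Cfsg.Agent.Lib.HallCore


set_option autoImplicit false
open Cfsg
open Cfsg.Agent
open scoped commutatorElement

namespace Cfsg.Agent.S2829

/-- Every strongly p-irreducible finite group is p-irreducible. -/
theorem result {H : Type*} [Group H] [Finite H] {p : ℕ} [Fact p.Prime] (hH : Cfsg.IsStronglyPIrreducible p H) : Cfsg.IsPIrreducible p H := by
  refine ⟨hH.1, fun N hN hNp => ?_⟩
  refine hH.2 N hN fun hle => hNp ?_
  intro P
  have h1 : ∀ n ∈ (P : Subgroup ↥N), ∀ g : ↥N, g * n * g⁻¹ ∈ (P : Subgroup ↥N) := by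
    intro n hn g
    have h2 : ((g * n * g⁻¹ * n⁻¹ : ↥N) : H) ∈ Cfsg.pCore p H :=
      hle (Subgroup.commutator_mem_commutator g.2 (Subgroup.mem_top (n : H)))
    have h3 : g * n * g⁻¹ * n⁻¹ ∈ (Cfsg.pCore p H).subgroupOf N := h2
    have h4 := (HallCore.pCore_subgroupOf_le N).trans (HallCore.pCore_le_sylow P) h3
    have h5 := mul_mem h4 hn
    rwa [inv_mul_cancel_right] at h5
  exact ⟨h1⟩

end Cfsg.Agent.S2829
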