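import Cfsg.Statements.S2831
import Mathlib
import Cfsg.Agent.Lib.LocalBasics


set_option autoImplicit false
open Cfsg
open Cfsg.Agent
open scoped commutatorElement Pointwise

namespace Cfsg.Agent.S2831

/-- Let H be a finite group with Sylow p-subgroup T such that H is T-minimal (H is generated by the conjugates of T and T lies in exactly one maximal subgroup of H). Then H is p-irreducible: H is not p-closed and O^p(H) lies in every normal subgroup of H that is not p-closed. -/
theorem result {H : Type*} [Group H] [Finite H] {p : ℕ} [Fact p.Prime] (T : Sylow p H) (hmin : Cfsg.IsMinimalOver (T : Subgroup H)) : Cfsg.IsPIrreducible p H := by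
  obtain ⟨hgen, M, ⟨hM, hTM⟩, huniq⟩ := hmin
  refine ⟨fun hc => ?_, fun N hN hNp => ?_⟩
  · have hT := hc T
    have h1 : (T : Subgroup H) = ⊤ := top_le_iff.mp (hgen ▸ Subgroup.normalClosure_le_normal le_rfl)
    exact hM.1 (top_le_iff.mp (h1 ▸ hTM))
  · have hfin : ∀ K : Subgroup H, (T : Subgroup H) ≤ K → K ≠ ⊤ → K ≤ M := by
      intro K hK hne
      obtain ⟨C, hC, hKC⟩ := (eq_top_or_exists_le_coatom K).resolve_left hne
      rwa [← huniq C ⟨hC, hK.trans hKC⟩]
    set R : Subgroup ↥N := (T : Subgroup H).subgroupOf N with hR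
    obtain ⟨Q, hQ⟩ : ∃ Q : Sylow p ↥N, (Q : Subgroup ↥N) = R := LocalBasics.exists_sylow_inf T N
    have hTN : (T : Subgroup H) ≤ Subgroup.normalizer ((R.map N.subtype : Subgroup H) : Set H) := by
      rw [hR, Subgroup.subgroupOf_map_subtype]
      exact LocalBasics.le_normalizer_inf Subgroup.le_normalizer
        (LocalBasics.le_normalizer_of_normal (A := N) _)
    have hne : Subgroup.normalizer ((R.map N.subtype : Subgroup H) : Set H) ≠ ⊤ := by
      intro htop
      have hn : (R.map N.subtype).Normal := Subgroup.normalizer_eq_top_iff.mp htop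
      apply hNp
      intro Q'
      have hRn : (Q : Subgroup ↥N).Normal := by
        rw [hQ]
        have h2 : R = (R.map N.subtype).subgroupOf N :=
          (Subgroup.comap_map_eq_self_of_injective N.subtype_injective R).symm
        rw [h2]
        exact Subgroup.Normal.subgroupOf hn N
      have hu : Unique (Sylow p ↥N) := Sylow.unique_of_normal Q hRn
      rwa [Subsingleton.elim Q' Q]
    have h1 := hfin _ hTN hne
    have hfr : Subgroup.normalizer ((R.map N.subtype : Subgroup H) : Set H) ⊔ N = ⊤ := by
      rw [← hQ]; exact Sylow.normalizer_sup_eq_top Q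
    have h2 : N ⊔ (T : Subgroup H) = ⊤ := by
      by_contra hne'
      have h3 : N ≤ M := le_sup_left.trans (hfin _ le_sup_right hne')
      exact hM.1 (top_le_iff.mp (hfr ▸ sup_le h1 h3))
    refine TransferPResidual.pResidual_le_of_isPGroup_quotient ?_
    refine T.isPGroup'.of_surjective ((QuotientGroup.mk' N).comp (T : Subgroup H).subtype) ?_
    intro x
    obtain ⟨g, rfl⟩ := QuotientGroup.mk'_surjective N x
    have hg : g ∈ ((N ⊔ (T : Subgroup H) : Subgroup H) : Set H) := by rw [h2]; trivial
    rw [Subgroup.normal_mul] at hg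
    obtain ⟨n, hn, t, ht, rfl⟩ := Set.mem_mul.mp hg
    refine ⟨⟨t, ht⟩, ?_⟩
    have hn1 : QuotientGroup.mk' N n = 1 := (QuotientGroup.eq_one_iff n).mpr hn
    rw [map_mul, hn1, one_mul]; rfl

end Cfsg.Agent.S2831
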