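import Cfsg.Statements.S2832
import Mathlib


set_option autoImplicit false
open Cfsg
open scoped commutatorElement

namespace Cfsg.Agent.S2832

/-- Let H be a finite group with Sylow p-subgroup T such that H is T-minimal (generated by the conjugates of T, with T in exactly one maximal subgroup), and let N be a normal subgroup of H. Then either H/N is a p-group or H/N is minimal over the image of T in the same sense. -/
theorem result {H : Type*} [Group H] [Finite H] {p : ℕ} [Fact p.Prime] (T : Sylow p H) (hmin : Cfsg.IsMinimalOver (T : Subgroup H)) (N : Subgroup H) [N.Normal] : IsPGroup p (H ⧸ N) ∨ Cfsg.IsMinimalOver ((T : Subgroup H).map (QuotientGroup.mk' N)) := by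
  obtain ⟨hgen, M, ⟨hM, hTM⟩, huniq⟩ := hmin
  set q := QuotientGroup.mk' N with hqdef
  have hq : Function.Surjective q := QuotientGroup.mk'_surjective N
  set Tb := (T : Subgroup H).map q with hTb
  by_cases htop : Tb = ⊤
  · left
    intro x
    obtain ⟨k, hk⟩ := (T.isPGroup'.map q) ⟨x, by rw [← hTb, htop]; trivial⟩
    exact ⟨k, congrArg Subtype.val hk⟩
  · right
    refine ⟨?_, ?_⟩
    · rw [hTb, Subgroup.coe_map, ← Subgroup.map_normalClosure _ _ hq, hgen,
        Subgroup.map_top_of_surjective q hq]
    · obtain ⟨C, hC, hTC⟩ := (eq_top_or_exists_le_coatom Tb).resolve_left htop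
      have key : ∀ D : Subgroup (H ⧸ N), IsCoatom D → Tb ≤ D → D.comap q = M := by
        intro D hD hTD
        refine huniq _ ⟨⟨?_, ?_⟩, Subgroup.map_le_iff_le_comap.mp hTD⟩
        · intro h
          apply hD.1
          rw [← Subgroup.map_comap_eq_self_of_surjective hq D, h,
            Subgroup.map_top_of_surjective q hq]
        · intro X hX
          have hDX : D < X.map q := by
            refine lt_of_le_of_ne ?_ ?_
            · rw [← Subgroup.map_comap_eq_self_of_surjective hq D]
              exact Subgroup.map_mono hX.le
            · intro he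
              have h1 : X ≤ D.comap q := Subgroup.map_le_iff_le_comap.mp he.ge
              exact hX.not_ge h1
          have h2 := hD.2 _ hDX
          have h3 : (X.map q).comap q = X := by
            refine Subgroup.comap_map_eq_self ?_
            exact (MonoidHom.comap_bot q).ge.trans ((Subgroup.comap_mono bot_le).trans hX.le)
          rw [← h3, h2, Subgroup.comap_top]
      refine ⟨C, ⟨hC, hTC⟩, ?_⟩
      rintro D ⟨hD, hTD⟩
      apply Subgroup.comap_injective hq
      rw [key D hD hTD, key C hC hTC]

end Cfsg.Agent.S2832
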