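import Cfsg.Statements.S2833
import Mathlib

set_option autoImplicit false
open Cfsg
open scoped commutatorElement

namespace Cfsg.Agent.S2833

theorem comm_le {G : Type*} [Group G] (V X : Subgroup G) (h : X ≤ Subgroup.normalizer (V : Set G)) :
    ⁅V, X⁆ ≤ V := by
  refine Subgroup.commutator_le.mpr fun v hv x hx => ?_
  have h2 : ⁅v, x⁆ = v * (x * v⁻¹ * x⁻¹) := by rw [commutatorElement_def]; group
  rw [h2]
  exact V.mul_mem hv ((Subgroup.mem_normalizer_iff.mp (h hx) _).mp (V.inv_mem hv))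

theorem le_normalizer_of_stable {G : Type*} [Group G] (X J : Subgroup G)
    (h : ∀ x ∈ X, ∀ j ∈ J, x * j * x⁻¹ ∈ J) : X ≤ Subgroup.normalizer (J : Set G) := by
  intro x hx
  rw [Subgroup.mem_normalizer_iff]
  refine fun j => ⟨h x hx j, fun hj => ?_⟩
  simpa [mul_assoc] using h x⁻¹ (X.inv_mem hx) _ hj

theorem left_normalizes {G : Type*} [Group G] (V X : Subgroup G)
    (h : X ≤ Subgroup.normalizer (V : Set G)) :
    V ≤ Subgroup.normalizer ((⁅V, X⁆ : Subgroup G) : Set G) := by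
  refine le_normalizer_of_stable V ⁅V, X⁆ fun v hv j hj => ?_
  revert j
  show ∀ j ∈ ⁅V, X⁆, v * j * v⁻¹ ∈ ⁅V, X⁆
  have h1 : ⁅V, X⁆ ≤ (⁅V, X⁆).comap (MulAut.conj v).toMonoidHom := by
    refine Subgroup.commutator_le.mpr fun w hw x hx => ?_
    show v * ⁅w, x⁆ * v⁻¹ ∈ ⁅V, X⁆
    have h2 : v * ⁅w, x⁆ * v⁻¹ = ⁅v * w, x⁆ * ⁅v, x⁆⁻¹ := by
      simp only [commutatorElement_def]; group
    rw [h2]
    exact mul_mem (Subgroup.commutator_mem_commutator (V.mul_mem hv hw) hx)
      (inv_mem (Subgroup.commutator_mem_commutator hv hx))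
  exact fun j hj => h1 hj

theorem stable_sup {G : Type*} [Group G] (X A B : Subgroup G)
    (hA : ∀ x ∈ X, ∀ a ∈ A, x * a * x⁻¹ ∈ A ⊔ B) (hB : ∀ x ∈ X, ∀ b ∈ B, x * b * x⁻¹ ∈ A ⊔ B) :
    ∀ x ∈ X, ∀ j ∈ A ⊔ B, x * j * x⁻¹ ∈ A ⊔ B := by
  intro x hx j hj
  have h1 : A ⊔ B ≤ (A ⊔ B).comap (MulAut.conj x).toMonoidHom :=
    sup_le (fun a ha => hA x hx a ha) (fun b hb => hB x hx b hb)
  exact h1 hj

/-- Let V be a subgroup of a finite group G normalized by the subgroup L, let X ≤ L and g ∈ L with [V, X, X] = 1 and L generated by X and gXg⁻¹. Put W = [V, L]. Then W = [V, X]·[V, gXg⁻¹], C_W(X) = [V, X], and C_W(L) = [V, X] ∩ [V, gXg⁻¹]. -/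
theorem result {G : Type*} [Group G] [Finite G] (V L : Subgroup G) (hLV : L ≤ Subgroup.normalizer (V : Set G)) (X : Subgroup G) (hX : X ≤ L) (g : G) (hg : g ∈ L) (hq : ⁅⁅V, X⁆, X⁆ = ⊥) (hgen : X ⊔ X.map (MulAut.conj g).toMonoidHom = L) (W : Subgroup G) (hW : W = ⁅V, L⁆) : ⁅V, X⁆ ⊔ ⁅V, X.map (MulAut.conj g).toMonoidHom⁆ = W ∧ W ⊓ Subgroup.centralizer (X : Set G) = ⁅V, X⁆ ∧ W ⊓ Subgroup.centralizer (L : Set G) = ⁅V, X⁆ ⊓ ⁅V, X.map (MulAut.conj g).toMonoidHom⁆ := by
  subst hW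
  set X' := X.map (MulAut.conj g).toMonoidHom with hX'def
  have hX' : X' ≤ L := by
    rintro _ ⟨x, hx, rfl⟩
    exact L.mul_mem (L.mul_mem hg (hX hx)) (L.inv_mem hg)
  have hXV := hX.trans hLV
  have hX'V := hX'.trans hLV
  have hAV : ⁅V, X⁆ ≤ V := comm_le V X hXV
  have hBV : ⁅V, X'⁆ ≤ V := comm_le V X' hX'V
  set A := ⁅V, X⁆ with hA
  set B := ⁅V, X'⁆ with hB
  have hVA : V ≤ Subgroup.normalizer (A : Set G) := left_normalizes V X hXV
  have hmap : B = A.map (MulAut.conj g).toMonoidHom := by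
    have hgV : V.map (MulAut.conj g).toMonoidHom = V := by
      ext x
      have := Subgroup.mem_normalizer_iff.mp (hLV hg)
      constructor
      · rintro ⟨y, hy, rfl⟩; exact (this y).mp hy
      · intro hx
        refine ⟨g⁻¹ * x * g, ?_, ?_⟩
        · exact (this _).mpr (by simpa [mul_assoc] using hx)
        · simp [MulEquiv.coe_toMonoidHom, mul_assoc]
    rw [hA, hB, Subgroup.map_commutator, hgV]
  have hAX : A ≤ Subgroup.centralizer (X : Set G) :=
    Subgroup.commutator_eq_bot_iff_le_centralizer.mp hq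
  have hBX : B ≤ Subgroup.centralizer (X' : Set G) := by
    refine Subgroup.commutator_eq_bot_iff_le_centralizer.mp ?_
    rw [hmap, hX'def, ← Subgroup.map_commutator, hq, Subgroup.map_bot]
  have hnX : ∀ x ∈ X, ∀ j ∈ A ⊔ B, x * j * x⁻¹ ∈ A ⊔ B :=
    stable_sup X A B (fun x hx a ha => by
      have := hAX ha x hx
      rw [this, mul_inv_cancel_right]
      exact Subgroup.mem_sup_left ha) (fun x hx b hb => by
      have h1 : ⁅b, x⁆ ∈ A := Subgroup.commutator_mem_commutator (hBV hb) hx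
      have h2 : x * b * x⁻¹ = ⁅b, x⁆⁻¹ * b := by rw [commutatorElement_def]; group
      rw [h2]
      exact mul_mem (Subgroup.mem_sup_left (inv_mem h1)) (Subgroup.mem_sup_right hb))
  have hnX' : ∀ x ∈ X', ∀ j ∈ A ⊔ B, x * j * x⁻¹ ∈ A ⊔ B :=
    stable_sup X' A B (fun x hx a ha => by
      have h1 : ⁅a, x⁆ ∈ B := Subgroup.commutator_mem_commutator (hAV ha) hx
      have h2 : x * a * x⁻¹ = ⁅a, x⁆⁻¹ * a := by rw [commutatorElement_def]; group
      rw [h2]
      exact mul_mem (Subgroup.mem_sup_right (inv_mem h1)) (Subgroup.mem_sup_left ha))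
      (fun x hx b hb => by
      have := hBX hb x hx
      rw [this, mul_inv_cancel_right]
      exact Subgroup.mem_sup_right hb)
  have hnL : L ≤ Subgroup.normalizer ((A ⊔ B : Subgroup G) : Set G) := by
    rw [← hgen]
    exact sup_le (le_normalizer_of_stable X _ hnX) (le_normalizer_of_stable X' _ hnX')
  have hWeq : A ⊔ B = ⁅V, L⁆ := by
    refine le_antisymm (sup_le (Subgroup.commutator_mono le_rfl hX)
      (Subgroup.commutator_mono le_rfl hX')) ?_
    let K : Subgroup G :=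
      { carrier := {l | l ∈ L ∧ ∀ v ∈ V, ⁅v, l⁆ ∈ A ⊔ B}
        one_mem' := ⟨L.one_mem, fun v _ => by simp [commutatorElement_def]⟩
        mul_mem' := by
          rintro a b ⟨ha, ha'⟩ ⟨hb, hb'⟩
          refine ⟨L.mul_mem ha hb, fun v hv => ?_⟩
          have h2 : ⁅v, a * b⁆ = ⁅v, a⁆ * (a * ⁅v, b⁆ * a⁻¹) := by
            simp only [commutatorElement_def]; group
          rw [h2]
          exact mul_mem (ha' v hv) ((Subgroup.mem_normalizer_iff.mp (hnL ha) _).mp (hb' v hv))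
        inv_mem' := by
          rintro a ⟨ha, ha'⟩
          refine ⟨L.inv_mem ha, fun v hv => ?_⟩
          have h2 : ⁅v, a⁻¹⁆ = a⁻¹ * ⁅v, a⁆⁻¹ * a⁻¹⁻¹ := by
            simp only [commutatorElement_def]; group
          rw [h2]
          exact (Subgroup.mem_normalizer_iff.mp (hnL (L.inv_mem ha)) _).mp (inv_mem (ha' v hv)) }
    have hK : L ≤ K := by
      conv_lhs => rw [← hgen]
      exact sup_le (fun x hx => ⟨hX hx, fun v hv =>
          Subgroup.mem_sup_left (Subgroup.commutator_mem_commutator hv hx)⟩)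
        (fun x hx => ⟨hX' hx, fun v hv =>
          Subgroup.mem_sup_right (Subgroup.commutator_mem_commutator hv hx)⟩)
    exact Subgroup.commutator_le.mpr fun v hv l hl => (hK hl).2 v hv
  have hmul : ∀ w ∈ A ⊔ B, ∃ a ∈ A, ∃ b ∈ B, a * b = w := fun w hw => by
    have := Subgroup.coe_mul_of_right_le_normalizer_left A B (hBV.trans hVA)
    have hw' : w ∈ ((A ⊔ B : Subgroup G) : Set G) := hw
    rw [this] at hw'
    exact Set.mem_mul.mp hw'
  have hCL : ∀ b ∈ B, b ∈ Subgroup.centralizer (X : Set G) →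
      b ∈ Subgroup.centralizer (L : Set G) ∧ b ∈ A := by
    intro b hb hbX
    have hbL : b ∈ Subgroup.centralizer (L : Set G) := by
      have h1 : L ≤ Subgroup.centralizer ({b} : Set G) := by
        rw [← hgen]
        refine sup_le (fun x hx => ?_) (fun x hx => ?_)
        · exact Subgroup.mem_centralizer_singleton_iff.mpr (hbX x hx)
        · exact Subgroup.mem_centralizer_singleton_iff.mpr (hBX hb x hx)
      exact fun l hl => Subgroup.mem_centralizer_singleton_iff.mp (h1 hl)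
    refine ⟨hbL, ?_⟩
    rw [hmap] at hb
    obtain ⟨a, ha, hab⟩ := hb
    have h2 : g * a * g⁻¹ = b := hab
    have h3 : b = a := by
      calc b = g⁻¹ * (g * b) := by group
        _ = g⁻¹ * (b * g) := by rw [hbL g hg]
        _ = g⁻¹ * (g * a * g⁻¹ * g) := by rw [h2]
        _ = a := by group
    rwa [h3]
  refine ⟨hWeq, ?_, ?_⟩
  · refine le_antisymm ?_ (le_inf (Subgroup.commutator_mono le_rfl hX) hAX)
    rintro w ⟨hw, hwX⟩
    rw [← hWeq] at hw
    obtain ⟨a, ha, b, hb, rfl⟩ := hmul w hw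
    have hbX : b ∈ Subgroup.centralizer (X : Set G) := by
      have := mul_mem (inv_mem (hAX ha)) hwX
      rwa [inv_mul_cancel_left] at this
    exact mul_mem ha (hCL b hb hbX).2
  · refine le_antisymm ?_ ?_
    · rintro w ⟨hw, hwL⟩
      rw [← hWeq] at hw
      obtain ⟨a, ha, b, hb, rfl⟩ := hmul w hw
      have hwX : a * b ∈ Subgroup.centralizer (X : Set G) := fun x hx => hwL x (hX hx)
      have hbX : b ∈ Subgroup.centralizer (X : Set G) := by
        have := mul_mem (inv_mem (hAX ha)) hwX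
        rwa [inv_mul_cancel_left] at this
      obtain ⟨-, hbA⟩ := hCL b hb hbX
      have hwA : a * b ∈ A := mul_mem ha hbA
      refine ⟨hwA, ?_⟩
      show a * b ∈ B
      rw [hmap]
      refine ⟨a * b, hwA, ?_⟩
      show g * (a * b) * g⁻¹ = a * b
      rw [hwL g hg, mul_inv_cancel_right]
    · rintro w ⟨hwA, hwB⟩
      exact ⟨Subgroup.commutator_mono le_rfl hX hwA, (hCL w hwB (hAX hwA)).1⟩

end Cfsg.Agent.S2833
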