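import Cfsg.Statements.S2834
import Mathlib
import Cfsg.Agent.Lib.LocalLarge57
import Cfsg.Agent.Lib.HallCore

set_option autoImplicit false
set_option maxHeartbeats 400000
open Cfsg
open Cfsg.Agent

namespace Cfsg.Agent.S2834

open Subgroup LocalLarge57

variable {H : Type*} [Group H] [Finite H] {p : ℕ} [Fact p.Prime]

/-- Every `p`-subgroup inside a conjugate of `M` lies in a conjugate of `T` inside it. -/
theorem exists_conj_sylow (T : Sylow p H) {M : Subgroup H} (hTM : (T : Subgroup H) ≤ M) {g : H}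
    {R : Subgroup H} (hR : IsPGroup p ↥R) (hRM : R ≤ conjBy g M) :
    ∃ k : H, conjBy k M = conjBy g M ∧ R ≤ conjBy k (T : Subgroup H) := by
  have h1 : conjBy g⁻¹ R ≤ M := by rwa [conjBy_le_iff, inv_inv]
  obtain ⟨P, hP⟩ := ((hR.map (MulAut.conj g⁻¹).toMonoidHom).comap_subtype (K := M)).exists_le_sylow
  obtain ⟨m, hm⟩ := MulAction.exists_smul_eq ↥M (T.subtype hTM) P
  refine ⟨g * m, by rw [← conjBy_conjBy, mem_normalizer_iff_conjBy.mp (le_normalizer m.2)], ?_⟩
  intro r hr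
  have h2 : g⁻¹ * r * g ∈ conjBy g⁻¹ R := ⟨r, hr, by simp⟩
  have h3 : (⟨g⁻¹ * r * g, h1 h2⟩ : ↥M) ∈ (P : Subgroup ↥M) := hP h2
  rw [← hm, Sylow.coe_subgroup_smul] at h3
  obtain ⟨t, ht, hte⟩ := (Subgroup.mem_smul_pointwise_iff_exists _ _ _).mp h3
  refine mem_conjBy.mpr ?_
  have : (t : H) = (m : H)⁻¹ * (g⁻¹ * r * g) * m := by
    have := congrArg Subtype.val hte
    simp only [MulAut.smul_def, MulAut.conj_apply, Subgroup.coe_mul, InvMemClass.coe_inv] at this
    rw [← this]; group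
  rw [show (g * (m : H))⁻¹ * r * (g * m) = (m : H)⁻¹ * (g⁻¹ * r * g) * m by group, ← this]
  exact ht

/-- Some conjugate of `M` contains a given `p`-subgroup. -/
theorem exists_conj_ge (T : Sylow p H) {M : Subgroup H} (hTM : (T : Subgroup H) ≤ M)
    {R : Subgroup H} (hR : IsPGroup p ↥R) : ∃ g : H, R ≤ conjBy g M := by
  obtain ⟨S, hS⟩ := hR.exists_le_sylow
  obtain ⟨g, hg⟩ := MulAction.exists_smul_eq H T S
  exact ⟨g, hS.trans (hg ▸ conjBy_mono g hTM)⟩

/-- The construction of `L` from a `p`-group `R ⊔ A` lying in a single conjugate of `M`. -/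
theorem core (T : Sylow p H) (M : Subgroup H) (hTM : (T : Subgroup H) ≤ M)
    (hself : normalizer (M : Set H) = M) (A : Subgroup H) {R Z : Subgroup H} {k : H}
    (hO : Cfsg.pCore p H ≤ R) (hRp : IsPGroup p ↥(R ⊔ A)) (hRZ : R ≤ Z)
    (hZ : Z ≤ normalizer (R : Set H)) (hAZ : A ≤ Z) (hk : R ⊔ A ≤ conjBy k M)
    (huniq : ∀ g : H, R ⊔ A ≤ conjBy g M → conjBy g M = conjBy k M) (hnot : ¬ Z ≤ conjBy k M) :
    ∃ L : Subgroup H, A ⊔ Cfsg.pCore p H ≤ L ∧ ∃ L₀ : Subgroup H, A ⊔ (Cfsg.pCoreOf p L) ≤ L₀ ∧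
      L₀ < L ∧ (∀ X : Subgroup H, A ⊔ (Cfsg.pCoreOf p L) ≤ X → X < L → X ≤ L₀) ∧
      (∃ g : H, L₀ = L ⊓ ((M : Subgroup H).map (MulAut.conj (g : H)).toMonoidHom)) ∧
      ∀ x ∈ L, x ∉ L₀ → (A ⊔ ((A : Subgroup H).map (MulAut.conj (x : H)).toMonoidHom)) ⊔
        (Cfsg.pCoreOf p L) = L := by
  obtain ⟨L, ⟨hL1, hLZ, hLn⟩, hmin⟩ := (Set.toFinite {U : Subgroup H | R ⊔ A ≤ U ∧ U ≤ Z ∧
    ¬ U ≤ conjBy k M}).exists_minimal ⟨Z, sup_le hRZ hAZ, le_rfl, hnot⟩
  have hfix : ∀ x : H, conjBy x (R ⊔ A) ≤ conjBy k M → x ∈ conjBy k M := by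
    intro x hx
    have h1 := huniq (x⁻¹ * k) (by rw [← conjBy_conjBy]; exact conjBy_le_iff.mp hx)
    rw [← conjBy_conjBy] at h1
    have h2 : x⁻¹ ∈ normalizer ((conjBy k M : Subgroup H) : Set H) := mem_normalizer_iff_conjBy.mpr h1
    rw [normalizer_conjBy, hself] at h2
    simpa using inv_mem h2
  set P := Cfsg.pCoreOf p L
  have hRL : R ≤ L := le_sup_left.trans hL1
  have hRP : R ≤ P := LocalBasics.le_pCoreOf hRL (hLZ.trans hZ) (hRp.to_le le_sup_left)
  have hAL : A ≤ L := le_sup_right.trans hL1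
  have hPA : IsPGroup p ↥(P ⊔ A) := isPGroup_sup_normalizing (LocalBasics.isPGroup_pCoreOf p L)
    (hRp.to_le le_sup_right) (hAL.trans (LocalBasics.le_normalizer_pCoreOf p L))
  have hPM : P ⊔ A ≤ conjBy k M := by
    obtain ⟨g, hg⟩ := exists_conj_ge T hTM hPA
    exact hg.trans (huniq g ((sup_le_sup_right hRP A).trans hg)).le
  refine ⟨L, sup_le hAL (hO.trans hRL), L ⊓ conjBy k M, ?_, ?_, ?_, ⟨k, rfl⟩, ?_⟩
  · exact le_inf (sup_le hAL (LocalBasics.pCoreOf_le p L)) (sup_comm A P ▸ hPM)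
  · exact lt_of_le_of_ne inf_le_left fun he => hLn (inf_eq_left.mp he)
  · intro X hX hXL
    refine le_inf hXL.le (by_contra fun hXn => hXL.not_ge (hmin ⟨?_, hXL.le.trans hLZ, hXn⟩ hXL.le))
    exact sup_le (hRP.trans (le_sup_right.trans hX)) (le_sup_left.trans hX)
  · intro x hx hx0
    set V := A ⊔ conjBy x A ⊔ P
    have hVL : V ≤ L := sup_le (sup_le hAL ((conjBy_mono x hAL).trans
      (mem_normalizer_iff_conjBy.mp (le_normalizer hx)).le)) (LocalBasics.pCoreOf_le p L)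
    refine le_antisymm hVL (hmin ⟨?_, hVL.trans hLZ, fun hVM => hx0 ⟨hx, hfix x ?_⟩⟩ hVL)
    · exact sup_le (hRP.trans le_sup_right) (le_sup_left.trans le_sup_left)
    · rw [conjBy, Subgroup.map_sup]
      refine sup_le ?_ ((le_sup_right.trans le_sup_left).trans hVM)
      show conjBy x R ≤ _
      rw [mem_normalizer_iff_conjBy.mp (hZ (hLZ hx))]
      exact (hRP.trans le_sup_right).trans hVM

/-- `O_p(H)` and the conjugates of `A` inside `X`. -/
def mem_closure' (p : ℕ) (A X : Subgroup H) : Subgroup H :=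
  Cfsg.pCore p H ⊔ ⨆ y : {y : H // conjBy y A ≤ X}, conjBy (y : H) A

theorem closure'_mono (p : ℕ) (A : Subgroup H) {X Y : Subgroup H} (h : X ≤ Y) :
    mem_closure' p A X ≤ mem_closure' p A Y :=
  sup_le le_sup_left (iSup_le fun y =>
    le_trans (le_iSup_of_le ⟨(y : H), y.2.trans h⟩ le_rfl) le_sup_right)

theorem conjBy_le_closure' (p : ℕ) (A : Subgroup H) {X : Subgroup H} {y : H} (h : conjBy y A ≤ X) :
    conjBy y A ≤ mem_closure' p A X :=
  le_trans (le_iSup_of_le ⟨y, h⟩ le_rfl) le_sup_right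

theorem closure'_le {p : ℕ} {A X W : Subgroup H} (h : Cfsg.pCore p H ≤ W)
    (h' : ∀ y, conjBy y A ≤ X → conjBy y A ≤ W) : mem_closure' p A X ≤ W :=
  sup_le h (iSup_le fun y => h' y y.2)

theorem conjBy_pCore (g : H) : conjBy g (Cfsg.pCore p H) = Cfsg.pCore p H :=
  HallCore.map_equiv_pCore (p := p) (MulAut.conj g)

theorem le_normalizer_closure' (A X : Subgroup H) :
    normalizer (X : Set H) ≤ normalizer ((mem_closure' p A X : Subgroup H) : Set H) := by
  refine LocalBasics.le_normalizer_of_conj fun g hg w hw => ?_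
  have h1 : mem_closure' p A X ≤ (mem_closure' p A X).comap (MulAut.conj g).toMonoidHom := by
    refine sup_le (map_le_iff_le_comap.mp ((conjBy_pCore g).le.trans le_sup_left)) (iSup_le fun y => ?_)
    rw [← map_le_iff_le_comap]
    show conjBy g (conjBy (y : H) A) ≤ _
    rw [conjBy_conjBy]
    refine le_trans ?_ le_sup_right
    refine le_iSup_of_le ⟨g * y, ?_⟩ le_rfl
    rw [← conjBy_conjBy]
    exact (conjBy_mono g y.2).trans (mem_normalizer_iff_conjBy.mp hg).le
  exact h1 hw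

/-- The L-Lemma: let H be a finite group with Sylow p-subgroup T such that H is T-minimal (generated by the conjugates of T, T in exactly one maximal subgroup M), and let A ≤ T with A not contained in O_p(H). Then there is a subgroup L of H containing A·O_p(H) such that (a) A·O_p(L) lies in exactly one maximal subgroup L₀ of L, and L₀ = L ∩ gMg⁻¹ for some g ∈ H; (b) L = ⟨A, xAx⁻¹⟩·O_p(L) for every x ∈ L outside L₀. -/
theorem result {H : Type*} [Group H] [Finite H] {p : ℕ} [Fact p.Prime] (T : Sylow p H) (hmin : Cfsg.IsMinimalOver (T : Subgroup H)) (M : Subgroup H) (hM : IsCoatom M ∧ (T : Subgroup H) ≤ M) (A : Subgroup H) (hAT : A ≤ (T : Subgroup H)) (hA : ¬ A ≤ Cfsg.pCore p H) : ∃ L : Subgroup H, A ⊔ Cfsg.pCore p H ≤ L ∧ ∃ L₀ : Subgroup H, A ⊔ (Cfsg.pCoreOf p L) ≤ L₀ ∧ L₀ < L ∧ (∀ X : Subgroup H, A ⊔ (Cfsg.pCoreOf p L) ≤ X → X < L → X ≤ L₀) ∧ (∃ g : H, L₀ = L ⊓ ((M : Subgroup H).map (MulAut.conj (g : H)).toMonoidHom)) ∧ ∀ x ∈ L, x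 ∉ L₀ → (A ⊔ ((A : Subgroup H).map (MulAut.conj (x : H)).toMonoidHom)) ⊔ (Cfsg.pCoreOf p L) = L := by
  obtain ⟨hMc, hTM⟩ := hM
  obtain ⟨hgen, M₀, -, hM₀⟩ := hmin
  set O := Cfsg.pCore p H
  have hOT : O ≤ (T : Subgroup H) := HallCore.pCore_le_sylow T
  have hself : Subgroup.normalizer (M : Set H) = M := by
    rcases hMc.le_iff.mp (Subgroup.le_normalizer (H := M)) with h | h
    · exfalso
      haveI : M.Normal := Subgroup.normalizer_eq_top_iff.mp h
      have := Subgroup.normalClosure_le_normal (N := M) (s := ((T : Subgroup H) : Set H)) hTM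
      rw [hgen] at this
      exact hMc.1 (top_le_iff.mp this)
    · exact h
  -- the unique maximal subgroup over a conjugate of `T`
  have hT : ∀ (k : H) (X : Subgroup H), X ≠ ⊤ → conjBy k (T : Subgroup H) ≤ X → X ≤ conjBy k M := by
    intro k X hX hk
    obtain ⟨W, hWc, hXW⟩ := (eq_top_or_exists_le_coatom X).resolve_left hX
    refine hXW.trans ?_
    have h1 : IsCoatom (conjBy k⁻¹ W) := (OrderIso.isCoatom_iff
      ((MulAut.conj k⁻¹).mapSubgroup : Subgroup H ≃o Subgroup H) W).mpr hWc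
    have h2 : conjBy k⁻¹ W = M :=
      (hM₀ _ ⟨h1, conjBy_le_iff.mp (hk.trans hXW)⟩).trans (hM₀ _ ⟨hMc, hTM⟩).symm
    rw [← h2, conjBy_self_inv]
  have hTuniq : ∀ k g : H, conjBy k (T : Subgroup H) ≤ conjBy g M → conjBy g M = conjBy k M := by
    intro k g hk
    have hne : conjBy g M ≠ ⊤ := fun h => hMc.1 (by
      have := congrArg (conjBy g⁻¹) h
      rwa [conjBy_inv_self, conjBy, Subgroup.map_top_of_surjective _ (MulEquiv.surjective _)] at this)
    exact Subgroup.eq_of_le_of_card_ge (hT k _ hne hk) (by rw [card_conjBy, card_conjBy])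
  have hnO : ∀ y : H, ¬ conjBy y A ≤ O := fun y h => hA (by
    have := conjBy_le_iff.mp h
    rwa [conjBy_pCore] at this)
  set 𝒮 : Set (Subgroup H) := {R | IsPGroup p ↥R ∧ mem_closure' p A R = R ∧ (∃ y, conjBy y A ≤ R) ∧
    ∃ g g' : H, R ≤ conjBy g M ∧ R ≤ conjBy g' M ∧ conjBy g M ≠ conjBy g' M}
  rcases Set.eq_empty_or_nonempty 𝒮 with hempty | hne
  · refine core T M hTM hself A (R := O) (Z := ⊤) (k := 1) le_rfl (T.isPGroup'.to_le (sup_le hOT hAT))
      le_top (LocalBasics.le_normalizer_of_normal _) le_top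
      (by rw [conjBy_one]; exact (sup_le hOT hAT).trans hTM) ?_
      (fun h => hMc.1 (top_le_iff.mp (by rwa [conjBy_one] at h)))
    intro g hg
    by_contra hne
    refine (Set.eq_empty_iff_forall_notMem.mp hempty (O ⊔ A)) ⟨T.isPGroup'.to_le (sup_le hOT hAT),
      le_antisymm (closure'_le le_sup_left fun y hy => hy) (sup_le le_sup_left ?_),
      ⟨1, by rw [conjBy_one]; exact le_sup_right⟩, g, 1, hg,
      by rw [conjBy_one]; exact (sup_le hOT hAT).trans hTM, hne⟩
    exact (conjBy_one A).ge.trans (conjBy_le_closure' p A (by rw [conjBy_one]; exact le_sup_right))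
  obtain ⟨R, ⟨hRp, hRgen, ⟨y₀, hy₀⟩, g, g', hg, hg', hgg⟩, hmax⟩ := (Set.toFinite 𝒮).exists_maximal hne
  have hOR : O ≤ R := le_sup_left.trans hRgen.le
  have hNR : Subgroup.normalizer (R : Set H) ≠ ⊤ := fun h => by
    haveI : R.Normal := Subgroup.normalizer_eq_top_iff.mp h
    exact hnO y₀ (hy₀.trans (HallCore.le_pCore hRp))
  -- in each conjugate of `M` over `R`: either a Sylow normalizes `R`, or we can grow `R`
  have grow : ∀ j : H, R ≤ conjBy j M →
      (∃ k, conjBy k M = conjBy j M ∧ conjBy k (T : Subgroup H) ≤ Subgroup.normalizer (R : Set H)) ∨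
      ∃ y, conjBy y A ≤ Subgroup.normalizer (R : Set H) ⊓ conjBy j M ∧ ¬ conjBy y A ≤ R ∧
        IsPGroup p ↥(R ⊔ conjBy y A) := by
    intro j hj
    obtain ⟨k, hk, hRT⟩ := exists_conj_sylow T hTM hRp hj
    set P := conjBy k (T : Subgroup H)
    have hPp : IsPGroup p ↥P := T.isPGroup'.map _
    set N := P ⊓ Subgroup.normalizer (R : Set H)
    by_cases hall : ∀ y, conjBy y A ≤ N → conjBy y A ≤ R
    · refine Or.inl ⟨k, hk, ?_⟩
      have hNN : P ⊓ Subgroup.normalizer (N : Set H) ≤ N := by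
        intro x hx
        refine ⟨hx.1, ?_⟩
        have h1 := le_normalizer_closure' (p := p) A N hx.2
        have h2 : mem_closure' p A N = R := by
          refine le_antisymm (closure'_le hOR hall) ?_
          conv_lhs => rw [← hRgen]
          exact closure'_mono p A (le_inf hRT Subgroup.le_normalizer)
        rwa [h2] at h1
      have hPN : N.subgroupOf P = ⊤ := by
        haveI := hPp.isNilpotent
        by_contra hlt
        obtain ⟨u, hu, huN⟩ := SetLike.exists_of_lt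
          ((Group.normalizerCondition_of_isNilpotent (G := ↥P)) _ (lt_top_iff_ne_top.mpr hlt))
        refine huN (hNN ⟨u.2, ?_⟩)
        refine (Subgroup.mem_normalizer_iff).mpr fun x => ⟨fun hx => ?_, fun hx => ?_⟩
        · exact ((Subgroup.mem_normalizer_iff.mp hu) ⟨x, hx.1⟩).mp hx
        · have hxP : x ∈ P := by
            have := mul_mem (mul_mem (inv_mem u.2) (show (u : H) * x * (u : H)⁻¹ ∈ P from hx.1)) u.2
            simpa [mul_assoc] using this
          exact ((Subgroup.mem_normalizer_iff.mp hu) ⟨x, hxP⟩).mpr hx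
      exact (Subgroup.subgroupOf_eq_top.mp hPN).trans inf_le_right
    · obtain ⟨y, hy, hyR⟩ : ∃ y, conjBy y A ≤ N ∧ ¬ conjBy y A ≤ R := by
        by_contra hcon
        exact hall fun y hy => by_contra fun hyR => hcon ⟨y, hy, hyR⟩
      refine Or.inr ⟨y, le_inf (hy.trans inf_le_right) ((hy.trans inf_le_left).trans ?_), hyR,
        hPp.to_le (sup_le hRT (hy.trans inf_le_left))⟩
      exact (conjBy_mono k hTM).trans hk.le
  have huniqR : ∀ y, ¬ conjBy y A ≤ R → IsPGroup p ↥(R ⊔ conjBy y A) → ∀ a b : H,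
      R ⊔ conjBy y A ≤ conjBy a M → R ⊔ conjBy y A ≤ conjBy b M → conjBy a M = conjBy b M := by
    intro y hy hp a b ha hb
    by_contra hab
    refine hy (le_sup_right.trans (hmax ⟨hp, ?_, ⟨y, le_sup_right⟩, a, b, ha, hb, hab⟩ le_sup_left))
    refine le_antisymm (closure'_le (hOR.trans le_sup_left) fun z hz => hz) (sup_le ?_ ?_)
    · conv_lhs => rw [← hRgen]
      exact closure'_mono p A le_sup_left
    · exact conjBy_le_closure' p A le_sup_right
  have main : ∀ a b : H, R ≤ conjBy b M → conjBy a M ≠ conjBy b M → ∀ y,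
      conjBy y A ≤ Subgroup.normalizer (R : Set H) ⊓ conjBy a M → ¬ conjBy y A ≤ R →
      IsPGroup p ↥(R ⊔ conjBy y A) → R ≤ conjBy a M →
      ∃ (R₁ : Subgroup H) (k : H), O ≤ R₁ ∧ IsPGroup p ↥(R₁ ⊔ A) ∧
        A ≤ Subgroup.normalizer (R₁ : Set H) ∧ R₁ ⊔ A ≤ conjBy k M ∧
        (∀ t, R₁ ⊔ A ≤ conjBy t M → conjBy t M = conjBy k M) ∧
        ¬ Subgroup.normalizer (R₁ : Set H) ≤ conjBy k M := by
    intro a b hb hab y hy hyR hyp hRa
    have hZ : ¬ Subgroup.normalizer (R : Set H) ≤ conjBy a M := by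
      intro hle
      rcases grow b hb with ⟨k, hk, hkN⟩ | ⟨z, hz, hzR, hzp⟩
      · exact hab ((hTuniq k a (hkN.trans hle)).trans hk)
      · exact hab (huniqR z hzR hzp a b (sup_le hRa ((hz.trans inf_le_left).trans hle))
          (sup_le hb (hz.trans inf_le_right)))
    have e : conjBy y⁻¹ (R ⊔ conjBy y A) = conjBy y⁻¹ R ⊔ A := by
      rw [conjBy, Subgroup.map_sup]
      exact congrArg _ (conjBy_inv_self y A)
    refine ⟨conjBy y⁻¹ R, y⁻¹ * a, ?_, ?_, ?_, ?_, ?_, ?_⟩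
    · exact (conjBy_pCore (p := p) y⁻¹).ge.trans (conjBy_mono _ hOR)
    · rw [← e]; exact hyp.map _
    · rw [normalizer_conjBy]
      exact (conjBy_inv_self y A).ge.trans (conjBy_mono _ (hy.trans inf_le_left))
    · rw [← e, ← conjBy_conjBy]; exact conjBy_mono _ (sup_le hRa (hy.trans inf_le_right))
    · intro t ht
      rw [← e, conjBy_le_iff, inv_inv, conjBy_conjBy] at ht
      have := huniqR y hyR hyp (y * t) a ht (sup_le hRa (hy.trans inf_le_right))
      rw [← conjBy_conjBy y⁻¹, ← this, ← conjBy_conjBy y, conjBy_inv_self]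
    · intro hle
      rw [normalizer_conjBy, ← conjBy_conjBy, conjBy_le_iff, inv_inv, conjBy_self_inv] at hle
      exact hZ hle
  obtain ⟨R₁, k, h1, h2, h3, h4, h5, h6⟩ : ∃ (R₁ : Subgroup H) (k : H), O ≤ R₁ ∧
      IsPGroup p ↥(R₁ ⊔ A) ∧ A ≤ Subgroup.normalizer (R₁ : Set H) ∧ R₁ ⊔ A ≤ conjBy k M ∧
        (∀ t, R₁ ⊔ A ≤ conjBy t M → conjBy t M = conjBy k M) ∧
        ¬ Subgroup.normalizer (R₁ : Set H) ≤ conjBy k M := by
    rcases grow g hg with ⟨k, hk, hkN⟩ | ⟨y, hy, hyR, hyp⟩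
    · rcases grow g' hg' with ⟨k', hk', hkN'⟩ | ⟨y, hy, hyR, hyp⟩
      · refine absurd ?_ hgg
        have hN := hT k' _ hNR hkN'
        exact (hk.symm.trans (hTuniq k k' (hkN.trans hN)).symm).trans hk'
      · exact main g' g hg (Ne.symm hgg) y hy hyR hyp hg'
    · exact main g g' hg' hgg y hy hyR hyp hg
  exact core T M hTM hself A h1 h2 Subgroup.le_normalizer le_rfl h3 h4 h5 h6

end Cfsg.Agent.S2834
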