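import Cfsg.Statements.S2835
import Mathlib
import Cfsg.Agent.Lib.HallCore


set_option autoImplicit false
open Cfsg
open Cfsg.Agent
open scoped commutatorElement

namespace Cfsg.Agent.S2835

/-- Let L be a finite group, L₀ a maximal subgroup, T a Sylow p-subgroup of L₀ and Y ≤ T, and suppose L is Y-minimal (generated by the conjugates of Y, with Y in exactly one maximal subgroup, necessarily L₀). Then N_L(T) ≤ L₀, O_p(L) ≤ L₀ and T is a Sylow p-subgroup of L; N_L(L₀) = L₀; L = ⟨Y, gYg⁻¹⟩ for each g ∈ L outside L₀; and if Y is abelian then Y ∩ gYg⁻¹ = C_Y(L) for each such g. -/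
theorem result {L : Type*} [Group L] [Finite L] {p : ℕ} [Fact p.Prime] (L₀ : Subgroup L) (hL₀ : IsCoatom L₀) (T : Sylow p ↥L₀) (Y : Subgroup L) (hYT : Y ≤ (T : Subgroup ↥L₀).map L₀.subtype) (hmin : Cfsg.IsMinimalOver Y) : Subgroup.normalizer (((T : Subgroup ↥L₀).map L₀.subtype : Subgroup L) : Set L) ≤ L₀ ∧ Cfsg.pCore p L ≤ L₀ ∧ (∃ P : Sylow p L, (P : Subgroup L) = (T : Subgroup ↥L₀).map L₀.subtype) ∧ Subgroup.normalizer (L₀ : Set L) = L₀ ∧ (∀ g : L, g ∉ L₀ → Y ⊔ Y.map (MulAut.conj g).toMonoidHom = ⊤) ∧ (IsMulCommutative ↥Y → ∀ g : L, g ∉ L₀ → Y ⊓ Y.map (MulAut.conj g).toMonoidHom = Y ⊓ Subgroup.center L) := by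
  obtain ⟨hgen, M, ⟨hM, hYM⟩, huniq⟩ := hmin
  set T' := (T : Subgroup ↥L₀).map L₀.subtype with hT'
  have hT'L : T' ≤ L₀ := Subgroup.map_subtype_le _
  have hYL₀ : Y ≤ L₀ := hYT.trans hT'L
  obtain rfl : L₀ = M := huniq L₀ ⟨hL₀, hYL₀⟩
  have hfin : ∀ K : Subgroup L, Y ≤ K → K ≠ ⊤ → K ≤ L₀ := by
    intro K hK hne
    obtain ⟨C, hC, hKC⟩ := (eq_top_or_exists_le_coatom K).resolve_left hne
    rwa [← huniq C ⟨hC, hK.trans hKC⟩]
  have hnN : ∀ K : Subgroup L, Y ≤ K → K ≤ L₀ → Subgroup.normalizer (K : Set L) ≤ L₀ := by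
    intro K hK hKL
    refine hfin _ (hK.trans Subgroup.le_normalizer) fun htop => ?_
    have : K.Normal := Subgroup.normalizer_eq_top_iff.mp htop
    exact hL₀.1 (top_le_iff.mp (hgen ▸ (Subgroup.normalClosure_le_normal hK).trans hKL))
  have hNT := hnN T' hYT hT'L
  have hNL : Subgroup.normalizer (L₀ : Set L) = L₀ :=
    le_antisymm (hnN L₀ hYL₀ le_rfl) Subgroup.le_normalizer
  have hT'p : IsPGroup p T' := T.isPGroup'.map _
  obtain ⟨P, hP⟩ := hT'p.exists_le_sylow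
  have hPT : (P : Subgroup L) = T' := by
    by_contra hne
    have hlt : T' < (P : Subgroup L) := lt_of_le_of_ne hP (Ne.symm hne)
    have hnc : NormalizerCondition ↥(P : Subgroup L) := by
      have := P.isPGroup'.isNilpotent
      exact Group.normalizerCondition_of_isNilpotent
    have h1 : T'.subgroupOf (P : Subgroup L) < ⊤ := by
      rw [lt_top_iff_ne_top, Ne, Subgroup.subgroupOf_eq_top]
      exact hlt.not_ge
    obtain ⟨x, hx, hxn⟩ := SetLike.exists_of_lt (hnc _ h1)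
    have hxN : (x : L) ∈ Subgroup.normalizer (T' : Set L) := by
      rw [Subgroup.mem_normalizer_iff]
      intro y
      constructor
      · intro hy
        exact (Subgroup.mem_normalizer_iff.mp hx ⟨y, hP hy⟩).mp hy
      · intro hy
        have hyP : y ∈ (P : Subgroup L) := by
          have := mul_mem (mul_mem (inv_mem x.2) (hP hy)) x.2
          simpa [mul_assoc] using this
        exact (Subgroup.mem_normalizer_iff.mp hx ⟨y, hyP⟩).mpr hy
    have hxL : (x : L) ∈ L₀ := hNT hxN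
    -- a larger p-subgroup of L₀
    have h2 : ((P : Subgroup L).subgroupOf L₀) = (T : Subgroup ↥L₀) := by
      refine T.is_maximal' ((P.isPGroup').comap_subtype) ?_
      intro t ht
      exact hP ⟨t, ht, rfl⟩
    apply hxn
    have hxT : (⟨x, hxL⟩ : ↥L₀) ∈ (T : Subgroup ↥L₀) := by rw [← h2]; exact x.2
    exact ⟨⟨x, hxL⟩, hxT, rfl⟩
  have hO : Cfsg.pCore p L ≤ L₀ := (HallCore.pCore_le_sylow P).trans (hPT.le.trans hT'L)
  have hjoin : ∀ g : L, g ∉ L₀ → Y ⊔ Y.map (MulAut.conj g).toMonoidHom = ⊤ := by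
    intro g hg
    by_contra hne
    have h1 := hfin _ le_sup_left hne
    -- g⁻¹ L₀ g contains Y
    have h2 : Y ≤ L₀.comap (MulAut.conj g).toMonoidHom := fun y hy =>
      h1 (Subgroup.mem_sup_right ⟨y, hy, rfl⟩)
    have hco : IsCoatom (L₀.comap (MulAut.conj g).toMonoidHom) :=
      (OrderIso.isCoatom_iff (MulEquiv.comapSubgroup (MulAut.conj g)) L₀).mpr hL₀
    have h3 := huniq _ ⟨hco, h2⟩
    refine hg (hNL.le ?_)
    rw [Subgroup.mem_normalizer_iff]
    intro y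
    conv_lhs => rw [← h3]
    rfl
  refine ⟨hNT, hO, ⟨P, hPT⟩, hNL, hjoin, fun hab g hg => le_antisymm ?_ ?_⟩
  · rintro z ⟨hz, hz'⟩
    refine ⟨hz, ?_⟩
    show z ∈ Subgroup.center L
    obtain ⟨y₀, hy₀, hy₀z⟩ := hz'
    have h1 : Y ⊔ Y.map (MulAut.conj g).toMonoidHom ≤ Subgroup.centralizer ({z} : Set L) := by
      refine sup_le (fun y hy => ?_) ?_
      · rw [Subgroup.mem_centralizer_singleton_iff]
        have := hab.is_comm.comm ⟨y, hy⟩ ⟨z, hz⟩
        exact congrArg Subtype.val this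
      · rintro _ ⟨y, hy, rfl⟩
        rw [Subgroup.mem_centralizer_singleton_iff, ← hy₀z, ← map_mul, ← map_mul]
        exact congrArg _ (congrArg Subtype.val (hab.is_comm.comm ⟨y, hy⟩ ⟨y₀, hy₀⟩))
    rw [hjoin g hg, top_le_iff] at h1
    rw [Subgroup.mem_center_iff]
    intro w
    have : w ∈ Subgroup.centralizer ({z} : Set L) := by rw [h1]; trivial
    exact Subgroup.mem_centralizer_singleton_iff.mp this
  · rintro z ⟨hz, hzc⟩
    refine ⟨hz, z, hz, ?_⟩
    show g * z * g⁻¹ = z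
    rw [Subgroup.mem_center_iff.mp hzc g, mul_inv_cancel_right]

end Cfsg.Agent.S2835
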