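import Mathlib
import Cfsg.Statements.S2836
import Cfsg.Agent.S2835
import Cfsg.Agent.Lib.HallCore

set_option autoImplicit false
open Cfsg

namespace Cfsg.Agent.S2836

open Subgroup
open scoped Pointwise

theorem index_of_sup_normal_eq_top {L : Type*} [Group L] [Finite L] (H N : Subgroup L) [N.Normal]
    (h : H ⊔ N = ⊤) : H.index = H.relIndex N := by
  have h1 : N.relIndex H = N.index := by
    rw [← relIndex_sup_right, h, relIndex_top_right]
  have h2 := relIndex_mul_index (inf_le_right : H ⊓ N ≤ N)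
  have h3 := relIndex_mul_index (inf_le_left : H ⊓ N ≤ H)
  rw [inf_relIndex_right] at h2
  rw [inf_relIndex_left, h1, ← h2, mul_comm] at h3
  exact Nat.eq_of_mul_eq_mul_right (Nat.pos_of_ne_zero index_ne_zero_of_finite) h3

theorem result {L : Type*} [Group L] [Finite L] {p : ℕ} [Fact p.Prime] (L₀ : Subgroup L) (hL₀ : IsCoatom L₀) (T : Sylow p ↥L₀) (Y : Subgroup L) (hYT : Y ≤ (T : Subgroup ↥L₀).map L₀.subtype) (hmin : Cfsg.IsMinimalOver Y) : (Cfsg.pCore p L ≤ L₀.normalCore ∧ (L₀.normalCore).map (QuotientGroup.mk' (Cfsg.pCore p L)) = frattini (L ⧸ Cfsg.pCore p L) ∧ Cfsg.IsPClosed p ↥(L₀.normalCore)) ∧ ∀ (N : Subgroup L) [N.Normal], N ≤ L₀ → Cfsg.IsPClosed p ↥N ∧ Group.IsNilpotent (↥N ⧸ Cfsg.pCore p ↥N) ∧ (Nat.card (↥N ⧸ Cfsg.pCore p ↥N)).Coprime p := by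
  classical
  obtain ⟨-, hOL, ⟨P, hP⟩, -, -, -⟩ := Cfsg.Agent.S2835.result L₀ hL₀ T Y hYT hmin
  have hYP : Y ≤ (P : Subgroup L) := hP ▸ hYT
  have hPL : (P : Subgroup L) ≤ L₀ := hP ▸ map_subtype_le _
  have hYL : Y ≤ L₀ := hYP.trans hPL
  obtain ⟨-, M₀, -, huniq⟩ := hmin
  have hfin : ∀ K : Subgroup L, Y ≤ K → K ≠ ⊤ → K ≤ L₀ := by
    intro K hK hne
    obtain ⟨C, hC, hKC⟩ := (eq_top_or_exists_le_coatom K).resolve_left hne
    have e : C = L₀ := (huniq C ⟨hC, hK.trans hKC⟩).trans (huniq L₀ ⟨hL₀, hYL⟩).symm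
    rwa [← e]
  have hp : p.Prime := Fact.out
  -- a subgroup of p'-index contains a conjugate of the Sylow subgroup
  have hsyl : ∀ K : Subgroup L, ¬ p ∣ K.index →
      ∃ g : L, (P : Subgroup L).map (MulAut.conj g).toMonoidHom ≤ K := by
    intro K hK
    obtain ⟨Q⟩ := (inferInstance : Nonempty (Sylow p K))
    have hQ : ¬ p ∣ ((Q : Subgroup K).map K.subtype).index := by
      rw [index_map_subtype]
      exact hp.not_dvd_mul Q.not_dvd_index hK
    obtain ⟨g, hg⟩ := MulAction.exists_smul_eq L P ((Q.isPGroup'.map K.subtype).toSylow hQ)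
    refine ⟨g, le_trans (le_of_eq ?_) (map_subtype_le (Q : Subgroup K))⟩
    have h := congrArg Sylow.toSubgroup hg
    rw [Sylow.coe_subgroup_smul] at h
    exact h.trans (IsPGroup.toSylow_coe _ _)
  -- Frattini: subgroups of N of p'-conjugacy-count are normal
  have hfr : ∀ (N : Subgroup L) [N.Normal], N ≤ L₀ → ∀ M : Subgroup L,
      normalizer (M : Set L) ⊔ N = ⊤ → ¬ p ∣ (normalizer (M : Set L)).index → M.Normal := by
    intro N _ hN M hsup hidx
    rw [← normalizer_eq_top_iff]
    set H := normalizer (M : Set L) with hH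
    obtain ⟨g, hg⟩ := hsyl H hidx
    set H' := H.map (MulAut.conj g⁻¹).toMonoidHom with hH'
    have hYH : Y ≤ H' := fun y hy =>
      ⟨g * y * g⁻¹, hg ⟨y, hYP hy, rfl⟩, by simp [mul_assoc]⟩
    by_contra hne
    have hH'ne : H' ≠ ⊤ := by
      intro h
      apply hne
      rw [eq_top_iff']
      intro x
      obtain ⟨y, hy, hxy⟩ := h.ge (mem_top (g⁻¹ * x * g⁻¹⁻¹))
      have : y = x := (MulAut.conj g⁻¹).injective hxy
      exact this ▸ hy
    have h1 := hfin H' hYH hH'ne
    apply hL₀.1
    rw [eq_top_iff]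
    intro x _
    have h2 : (⊤ : Subgroup L) ≤ (H' ⊔ N).comap (MulAut.conj g⁻¹).toMonoidHom := by
      rw [← hsup]
      refine sup_le (fun h hh => mem_sup_left ⟨h, hh, rfl⟩) (fun n hn => mem_sup_right ?_)
      exact Normal.conj_mem inferInstance n hn g⁻¹
    have h3 := h2 (mem_top ((MulAut.conj g⁻¹).symm x))
    rw [mem_comap, MulEquiv.coe_toMonoidHom, MulEquiv.apply_symm_apply] at h3
    exact sup_le h1 hN h3
  have hmain : ∀ (N : Subgroup L) [N.Normal], N ≤ L₀ →
      Cfsg.IsPClosed p ↥N ∧ Group.IsNilpotent (↥N ⧸ Cfsg.pCore p ↥N) ∧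
        (Nat.card (↥N ⧸ Cfsg.pCore p ↥N)).Coprime p := by
    intro N hNn hN
    -- index of a normalizer, computed in N
    have hidx : ∀ M : Subgroup L, normalizer (M : Set L) ⊔ N = ⊤ →
        (normalizer (M : Set L)).index = ((normalizer (M : Set L)).subgroupOf N).index := by
      intro M hsup
      rw [index_of_sup_normal_eq_top _ _ hsup]
      rfl
    have hclosed : Cfsg.IsPClosed p ↥N := by
      intro Q
      have hsup := Sylow.normalizer_sup_eq_top Q
      have h := hfr N hN _ hsup (by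
        rw [hidx _ hsup]
        have hle : normalizer ((Q : Subgroup N) : Set N) ≤
            (normalizer (((Q : Subgroup N).map N.subtype : Subgroup L) : Set L)).subgroupOf N := by
          intro x hx
          exact le_normalizer_map N.subtype ⟨x, hx, rfl⟩
        intro hdvd
        have := hdvd.trans (index_dvd_of_le hle)
        have he : Nat.card (Sylow p N) = (normalizer ((Q : Subgroup N) : Set N)).index :=
          Q.card_eq_index_normalizer
        exact not_dvd_card_sylow p N (he ▸ this))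
      have h2 := h.comap N.subtype
      rwa [comap_map_eq_self_of_injective N.subtype_injective] at h2
    set R := Cfsg.pCore p ↥N with hR
    haveI : R.Normal := HallCore.pCore_normal p N
    have hRsyl : ∃ Q : Sylow p N, (Q : Subgroup N) = R := by
      obtain ⟨Q⟩ := (inferInstance : Nonempty (Sylow p N))
      haveI := hclosed Q
      exact ⟨Q, le_antisymm (HallCore.le_pCore Q.isPGroup') (HallCore.pCore_le_sylow Q)⟩
    obtain ⟨Qp, hQp⟩ := hRsyl
    have hRidx : ¬ p ∣ R.index := hQp ▸ Qp.not_dvd_index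
    have hcop : (Nat.card (↥N ⧸ R)).Coprime p := by
      rw [← index_eq_card]
      exact (hp.coprime_iff_not_dvd.mpr hRidx).symm
    haveI hRL : (R.map N.subtype).Normal := by
      haveI := HallCore.pCore_characteristic p N
      exact ConjAct.normal_of_characteristic_of_normal
    refine ⟨hclosed, ?_, hcop⟩
    rw [(Group.isNilpotent_of_finite_tfae (G := ↥N ⧸ R)).out 0 3 rfl rfl]
    intro q _ Q'
    obtain ⟨Q, rfl⟩ := Sylow.mapSurjective_surjective (QuotientGroup.mk'_surjective R) q Q'
    set M := ((Q : Subgroup N) ⊔ R).map N.subtype with hM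
    have hle : normalizer (((Q : Subgroup N).map N.subtype : Subgroup L) : Set L) ≤ normalizer (M : Set L) := by
      intro x hx
      rw [hM, Subgroup.map_sup]
      refine mem_normalizer_iff_map_conj_eq.mpr ?_
      rw [Subgroup.map_sup, mem_normalizer_iff_map_conj_eq.mp hx,
        mem_normalizer_iff_map_conj_eq.mp ((normalizer_eq_top (H := R.map N.subtype)).ge (mem_top x))]
    have hsup : normalizer (M : Set L) ⊔ N = ⊤ := eq_top_iff.mpr
      ((Sylow.normalizer_sup_eq_top Q).ge.trans (sup_le_sup_right hle N))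
    have hMn := hfr N hN M hsup (by
      rw [hidx M hsup]
      intro hdvd
      refine hRidx (hdvd.trans (index_dvd_of_le ?_))
      intro x hx
      exact le_normalizer ⟨x, mem_sup_right hx, rfl⟩)
    have h2 := hMn.comap N.subtype
    rw [hM, comap_map_eq_self_of_injective N.subtype_injective] at h2
    have h3 := h2.map (QuotientGroup.mk' R) (QuotientGroup.mk'_surjective R)
    rwa [Subgroup.map_sup, QuotientGroup.map_mk'_self, sup_bot_eq] at h3
  set D := L₀.normalCore with hD
  set R := Cfsg.pCore p L with hR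
  haveI : R.Normal := HallCore.pCore_normal p L
  have hRD : R ≤ D := normal_le_normalCore.mpr hOL
  haveI : D.Normal := normalCore_normal L₀
  obtain ⟨hDclosed, -, hDcop⟩ := hmain D (normalCore_le L₀)
  have hDR : (Cfsg.pCore p D).map D.subtype ≤ R := by
    rw [HallCore.map_subtype_pCore]; exact inf_le_left
  refine ⟨⟨hRD, ?_, hDclosed⟩, fun N _ hN => hmain N hN⟩
  refine le_antisymm ?_ ?_
  · rw [frattini, Order.radical]
    refine le_iInf₂ fun K hK => ?_
    rw [map_le_iff_le_comap]
    set K' := K.comap (QuotientGroup.mk' R) with hK'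
    have hK'c : IsCoatom K' :=
      Subgroup.isCoatom_comap_of_surjective (QuotientGroup.mk'_surjective R) hK
    by_contra hDK
    have hsup : K' ⊔ D = ⊤ := hK'c.2 _ (lt_of_le_of_ne le_sup_left fun h => hDK (h ▸ le_sup_right))
    have hidx : ¬ p ∣ K'.index := by
      rw [index_of_sup_normal_eq_top _ _ hsup]
      intro hdvd
      have h1 : (Cfsg.pCore p D) ≤ K'.subgroupOf D := fun x hx =>
        QuotientGroup.le_comap_mk' R K (hDR ⟨x, hx, rfl⟩)
      exact (hp.coprime_iff_not_dvd.mp hDcop.symm) (by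
        rw [← index_eq_card]; exact hdvd.trans (index_dvd_of_le h1))
    obtain ⟨g, hg⟩ := hsyl K' hidx
    have hK'' : K'.map (MulAut.conj g⁻¹).toMonoidHom = L₀ := by
      have hY : Y ≤ K'.map (MulAut.conj g⁻¹).toMonoidHom := fun y hy =>
        ⟨g * y * g⁻¹, hg ⟨y, hYP hy, rfl⟩, by simp [mul_assoc]⟩
      have hc : IsCoatom (K'.map (MulAut.conj g⁻¹).toMonoidHom) :=
        ((MulEquiv.mapSubgroup (MulAut.conj g⁻¹)).isCoatom_iff K').mpr hK'c
      exact (huniq _ ⟨hc, hY⟩).trans (huniq L₀ ⟨hL₀, hYL⟩).symm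
    apply hDK
    intro x hx
    obtain ⟨y, hy, hxy⟩ := hK''.ge (normalCore_le L₀ ((normalCore_normal L₀).conj_mem x hx g⁻¹))
    have : y = x := (MulAut.conj g⁻¹).injective hxy
    exact this ▸ hy
  · have hc : IsCoatom (L₀.map (QuotientGroup.mk' R)) := by
      refine ⟨fun h => hL₀.1 ?_, fun K hK => ?_⟩
      · have := congrArg (Subgroup.comap (QuotientGroup.mk' R)) h
        rwa [comap_map_eq, QuotientGroup.ker_mk', sup_eq_left.mpr hOL, comap_top] at this
      · have h1 : L₀ < K.comap (QuotientGroup.mk' R) := by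
          refine lt_of_le_of_ne (map_le_iff_le_comap.mp hK.le) fun h => hK.ne ?_
          rw [h, map_comap_eq_self_of_surjective (QuotientGroup.mk'_surjective R)]
        exact comap_injective (QuotientGroup.mk'_surjective R) ((hL₀.2 _ h1).trans (Subgroup.comap_top _).symm)
    haveI : ((frattini (L ⧸ R)).comap (QuotientGroup.mk' R)).Normal := Normal.comap inferInstance _
    have h1 : (frattini (L ⧸ R)).comap (QuotientGroup.mk' R) ≤ D := by
      refine normal_le_normalCore.mpr ?_
      refine (comap_mono (frattini_le_coatom hc)).trans ?_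
      rw [comap_map_eq, QuotientGroup.ker_mk', sup_eq_left.mpr hOL]
    intro x hx
    obtain ⟨y, rfl⟩ := QuotientGroup.mk'_surjective R x
    exact mem_map_of_mem _ (h1 hx)

end Cfsg.Agent.S2836
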