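import Cfsg.Statements.S2837
import Mathlib
import Cfsg.Agent.Lib.LocalLarge57
import Cfsg.Agent.Lib.LocalPReduced57
import Cfsg.Agent.Lib.PGroupsBasic

set_option autoImplicit false
open Cfsg
open Cfsg.Agent
open scoped commutatorElement

namespace Cfsg.Agent.S2837

/-- Let L be a finite group of characteristic p, L₀ a maximal subgroup, Y an elementary abelian p-subgroup of L₀ with L Y-minimal and O_p(L) ≤ N_L(Y). Put A = the normal closure of O_p(L) ∩ Y in L. Then for every g ∈ L outside L₀: Φ(A) = A' = [A ∩ Y, A] = [A ∩ Y, A ∩ gYg⁻¹] ≤ C_Y(L), and Y ∩ gYg⁻¹ = (A ∩ Y) ∩ (A ∩ gYg⁻¹) = C_Y(L) = C_A(L). -/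
theorem result {L : Type*} [Group L] [Finite L] {p : ℕ} [Fact p.Prime] (hchar : Subgroup.centralizer (Cfsg.pCore p L : Set L) ≤ Cfsg.pCore p L) (L₀ : Subgroup L) (hL₀ : IsCoatom L₀) (Y : Subgroup L) (hYL₀ : Y ≤ L₀) (hYel : Cfsg.IsElementaryAbelian p Y) (hmin : Cfsg.IsMinimalOver Y) (hOY : Cfsg.pCore p L ≤ Subgroup.normalizer (Y : Set L)) (A : Subgroup L) (hA : A = Subgroup.normalClosure (((Cfsg.pCore p L ⊓ Y : Subgroup L)) : Set L)) (g : L) (hg : g ∉ L₀) : (frattini ↥A).map A.subtype = ⁅A, A⁆ ∧ ⁅A, A⁆ = ⁅A ⊓ Y, A⁆ ∧ ⁅A ⊓ Y, A⁆ = ⁅A ⊓ Y, A ⊓ Y.map (MulAut.conj g).toMonoidHom⁆ ∧ ⁅A ⊓ Y, A⁆ ≤ Y ⊓ Subgroup.center L ∧ Y ⊓ Y.map (MulAut.conj g).toMonoidHom = Y ⊓ Subgroup.center L ∧ (A ⊓ Y) ⊓ (A ⊓ Y.map (MulAut.conj g).toMonoidHom) = Y ⊓ Subgroup.center L ∧ A ⊓ Subgroup.center L = Y ⊓ Subgroup.center L := by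
  obtain ⟨hgen, M₀, -, hM₀⟩ := hmin
  set P := Cfsg.pCore p L with hP
  have hPn : P.Normal := HallCore.pCore_normal p L
  have hPp : IsPGroup p ↥P := HallCore.isPGroup_pCore p L
  have huniq : ∀ K : Subgroup L, Y ≤ K → K ≠ ⊤ → K ≤ L₀ := by
    intro K hK hne
    obtain ⟨W, hW, hKW⟩ := (eq_top_or_exists_le_coatom K).resolve_left hne
    exact hKW.trans ((hM₀ W ⟨hW, hK.trans hKW⟩).trans (hM₀ L₀ ⟨hL₀, hYL₀⟩).symm).le
  have hself : Subgroup.normalizer (L₀ : Set L) = L₀ := by
    rcases hL₀.le_iff.mp (Subgroup.le_normalizer (H := L₀)) with h | h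
    · exfalso
      haveI : L₀.Normal := Subgroup.normalizer_eq_top_iff.mp h
      have := Subgroup.normalClosure_le_normal (N := L₀) (s := ((Y : Subgroup L) : Set L)) hYL₀
      rw [hgen] at this
      exact hL₀.1 (top_le_iff.mp this)
    · exact h
  set Yg := LocalLarge57.conjBy g Y
  have hgenL : Y ⊔ Yg = ⊤ := by
    by_contra hne
    have h1 : Yg ≤ L₀ := le_sup_right.trans (huniq _ le_sup_left hne)
    have hne' : LocalLarge57.conjBy g⁻¹ L₀ ≠ ⊤ := fun h => hL₀.1 (by
      have := congrArg (LocalLarge57.conjBy g) h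
      rwa [LocalLarge57.conjBy_self_inv, LocalLarge57.conjBy,
        Subgroup.map_top_of_surjective _ (MulEquiv.surjective _)] at this)
    have h2 : LocalLarge57.conjBy g⁻¹ L₀ = L₀ :=
      Subgroup.eq_of_le_of_card_ge (huniq _ (LocalLarge57.conjBy_le_iff.mp h1) hne')
        (by rw [LocalLarge57.card_conjBy])
    have h3 : g⁻¹ ∈ Subgroup.normalizer (L₀ : Set L) := LocalLarge57.mem_normalizer_iff_conjBy.mpr h2
    rw [hself] at h3
    exact hg (by simpa using inv_mem h3)
  have comm : ∀ a ∈ Y, ∀ b ∈ Y, a * b = b * a := fun a ha b hb =>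
    PGroupsBasic.comm_of_isMulCommutative hYel.1 ha hb
  have central : ∀ z, (∀ y ∈ Y, y * z = z * y) → (∀ y ∈ Yg, y * z = z * y) → z ∈ Subgroup.center L := by
    intro z h1 h2
    have : Y ⊔ Yg ≤ Subgroup.centralizer ({z} : Set L) := sup_le
      (fun y hy => Subgroup.mem_centralizer_iff.mpr fun w hw => by
        rw [Set.mem_singleton_iff.mp hw]; exact (h1 y hy).symm)
      (fun y hy => Subgroup.mem_centralizer_iff.mpr fun w hw => by
        rw [Set.mem_singleton_iff.mp hw]; exact (h2 y hy).symm)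
    rw [hgenL] at this
    exact Subgroup.mem_center_iff.mpr fun w =>
      (Subgroup.mem_centralizer_iff.mp (this (Subgroup.mem_top w)) z rfl).symm
  have hYgcomm : ∀ a ∈ Yg, ∀ b ∈ Yg, a * b = b * a := by
    rintro _ ⟨a, ha, rfl⟩ _ ⟨b, hb, rfl⟩
    rw [← map_mul, ← map_mul, comm a ha b hb]
  have hZg : ∀ z ∈ Y ⊓ Subgroup.center L, z ∈ Yg := fun z hz => ⟨z, hz.1, by
    show g * z * g⁻¹ = z
    rw [(Subgroup.mem_center_iff.mp hz.2 g), mul_inv_cancel_right]⟩
  have hYY : Y ⊓ Yg = Y ⊓ Subgroup.center L :=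
    le_antisymm (fun z hz => ⟨hz.1, central z (fun y hy => comm y hy z hz.1)
      (fun y hy => hYgcomm y hy z hz.2)⟩) (fun z hz => ⟨hz.1, hZg z hz⟩)
  set X := P ⊓ Y with hX
  set X' := P ⊓ Yg with hX'
  have hXX' : LocalLarge57.conjBy g X = X' := by
    rw [hX, LocalLarge57.conjBy, Subgroup.map_inf _ _ _ (MulEquiv.injective _)]
    congr 1
    exact HallCore.map_equiv_pCore (p := p) (MulAut.conj g)
  have hOYg : P ≤ Subgroup.normalizer (Yg : Set L) := by
    rw [LocalLarge57.normalizer_conjBy]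
    exact (HallCore.map_equiv_pCore (p := p) (MulAut.conj g)).ge.trans (LocalLarge57.conjBy_mono g hOY)
  have hPY : ∀ (W : Subgroup L), P ≤ Subgroup.normalizer (W : Set L) → ∀ x ∈ P, ∀ y ∈ W,
      x⁻¹ * (y * x * y⁻¹) ∈ P ⊓ W := fun W hW x hx y hy => by
    refine Subgroup.mem_inf.mpr ⟨mul_mem (inv_mem hx) (hPn.conj_mem x hx y), ?_⟩
    rw [show x⁻¹ * (y * x * y⁻¹) = (x⁻¹ * y * x⁻¹⁻¹) * y⁻¹ by group]
    exact mul_mem (LocalBasics.conj_mem_of_le_normalizer hW (inv_mem hx) hy) (inv_mem hy)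
  have hAB : A = X ⊔ X' := by
    have hn : ∀ (W : Subgroup L), P ≤ Subgroup.normalizer (W : Set L) → P ⊓ W ≤ X ⊔ X' →
        W ≤ Subgroup.normalizer ((X ⊔ X' : Subgroup L) : Set L) := by
      intro W hW hle
      refine LocalBasics.le_normalizer_of_conj fun y hy b hb => ?_
      have hbP : b ∈ P := (sup_le inf_le_left inf_le_left : X ⊔ X' ≤ P) hb
      rw [show y * b * y⁻¹ = b * (b⁻¹ * (y * b * y⁻¹)) by group]
      exact mul_mem hb (hle (hPY W hW b hbP y hy))
    haveI : (X ⊔ X').Normal := by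
      rw [← Subgroup.normalizer_eq_top_iff, ← top_le_iff, ← hgenL]
      exact sup_le (hn Y hOY le_sup_left) (hn Yg hOYg le_sup_right)
    rw [hA]
    refine le_antisymm (Subgroup.normalClosure_le_normal (le_sup_left : X ≤ X ⊔ X')) ?_
    refine sup_le Subgroup.subset_normalClosure ?_
    rw [← hXX']
    rintro _ ⟨x, hx, rfl⟩
    exact Subgroup.normalClosure_normal.conj_mem x (Subgroup.subset_normalClosure hx) g
  have hAP : A ≤ P := hAB.le.trans (sup_le inf_le_left inf_le_left)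
  have hAY : A ⊓ Y = X := le_antisymm (inf_le_inf_right Y hAP)
    (le_inf (le_sup_left.trans hAB.ge) inf_le_right)
  have hAYg : A ⊓ Yg = X' := le_antisymm (inf_le_inf_right Yg hAP)
    (le_inf (le_sup_right.trans hAB.ge) inf_le_right)
  have hCle : ⁅X, X'⁆ ≤ Y ⊓ Subgroup.center L := by
    rw [← hYY]
    exact (LocalLarge57.commutator_le_inf (inf_le_left.trans
      (LocalBasics.le_normalizer_inf (LocalBasics.le_normalizer_of_normal P) hOYg))
      (inf_le_left.trans (LocalBasics.le_normalizer_inf (LocalBasics.le_normalizer_of_normal P) hOY))).trans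
      (inf_le_inf inf_le_right inf_le_right)
  set C := ⁅X, X'⁆
  haveI hCn : C.Normal := PGroupsBasic.normal_of_le_center (hCle.trans inf_le_right)
  let f := QuotientGroup.mk' C
  have hel : Cfsg.IsElementaryAbelian p (A.map f) := by
    have e1 : Cfsg.IsElementaryAbelian p (X.map f) :=
      PGroupsBasic.isElementaryAbelian_map_hom (PGroupsBasic.isElementaryAbelian_mono hYel inf_le_right) f
    have e2 : Cfsg.IsElementaryAbelian p (X'.map f) := PGroupsBasic.isElementaryAbelian_map_hom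
      (hXX' ▸ PGroupsBasic.isElementaryAbelian_map_hom
        (PGroupsBasic.isElementaryAbelian_mono hYel inf_le_right) _) f
    rw [hAB, Subgroup.map_sup]
    refine PGroupsBasic.isElementaryAbelian_sup e1 e2 ?_
    rintro _ ⟨a, ha, rfl⟩ _ ⟨b, hb, rfl⟩
    rw [eq_comm, ← commutatorElement_eq_one_iff_mul_comm, ← map_commutatorElement]
    exact (QuotientGroup.eq_one_iff _).mpr (Subgroup.commutator_mem_commutator ha hb)
  have hAA : ⁅A, A⁆ ≤ C := Subgroup.commutator_le.mpr fun a ha b hb => by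
    refine (QuotientGroup.eq_one_iff _).mp ?_
    show f ⁅a, b⁆ = 1
    rw [map_commutatorElement, commutatorElement_eq_one_iff_mul_comm]
    exact PGroupsBasic.comm_of_isMulCommutative hel.1 ⟨a, ha, rfl⟩ ⟨b, hb, rfl⟩
  have hXA : X ≤ A := le_sup_left.trans hAB.ge
  have hX'A : X' ≤ A := le_sup_right.trans hAB.ge
  have h1 : ⁅A, A⁆ = C := le_antisymm hAA (Subgroup.commutator_mono hXA hX'A)
  have h2 : ⁅X, A⁆ = C := le_antisymm ((Subgroup.commutator_mono hXA le_rfl).trans hAA)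
    (Subgroup.commutator_mono le_rfl hX'A)
  have hAp : IsPGroup p ↥A := hPp.to_le hAP
  rw [hAY, hAYg]
  refine ⟨le_antisymm ?_ ?_, h1.trans h2.symm, h2, h2.le.trans hCle, hYY, ?_, ?_⟩
  · rw [h1]
    haveI : (C.subgroupOf A).Normal := hCn.subgroupOf A
    refine Subgroup.map_le_iff_le_comap.mpr (PGroupsBasic.frattini_le_of_elementary_quotient (p := p)
      (N := C.subgroupOf A) ?_ ?_)
    · rw [commutator_def, Subgroup.commutator_le]
      exact fun a _ b _ => hAA (Subgroup.commutator_mem_commutator a.2 b.2)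
    · intro a
      refine (QuotientGroup.eq_one_iff (N := C) ((a : L) ^ p)).mp ?_
      show f ((a : L) ^ p) = 1
      rw [map_pow]
      exact hel.2 _ ⟨a, a.2, rfl⟩
  · exact (Subgroup.map_subtype_commutator A).ge.trans
      (Subgroup.map_mono (PGroupsBasic.commutator_le_frattini hAp))
  · rw [← hYY]
    refine le_antisymm (inf_le_inf inf_le_right inf_le_right) fun z hz => ?_
    have hz' : z ∈ Y ⊓ Subgroup.center L := hYY ▸ hz
    have hzP : z ∈ P := HallCore.le_pCore (hN := PGroupsBasic.normal_of_le_center inf_le_right)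
      ((PGroupsBasic.isPGroup_of_isElementaryAbelian hYel).to_le inf_le_left) hz'
    exact ⟨⟨hzP, hz.1⟩, hzP, hz.2⟩
  · refine le_antisymm (fun a ha => ?_) fun z hz => ?_
    · have hXn : X ≤ Subgroup.normalizer (X' : Set L) := inf_le_left.trans
        (LocalBasics.le_normalizer_inf (LocalBasics.le_normalizer_of_normal P) hOYg)
      obtain ⟨x, hx, x', hx', rfl⟩ := LocalPReduced57.exists_mul_of_mem_sup hXn (hAB ▸ ha.1)
      have hzc := fun w : L => Subgroup.mem_center_iff.mp ha.2 w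
      have hx'Z : x' ∈ Subgroup.center L := central x' (fun y hy => ?_) (fun y hy => hYgcomm y hy x' hx'.2)
      · have : x' ∈ Yg ⊓ Subgroup.center L := ⟨hx'.2, hx'Z⟩
        refine ⟨Y.mul_mem hx.2 ?_, ha.2⟩
        obtain ⟨y, hy, rfl⟩ := hx'.2
        have e : y = (MulAut.conj g).toMonoidHom y := by
          have := Subgroup.mem_center_iff.mp hx'Z g
          exact mul_left_cancel (this.trans (by simp [mul_assoc])).symm
        rwa [← e]
      · calc y * x' = x⁻¹ * (y * (x * x')) := by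
              rw [← mul_assoc, ← mul_assoc, mul_assoc x⁻¹ y x, comm y hy x hx.2]; group
          _ = x⁻¹ * (x * x' * y) := by rw [hzc y]
          _ = x' * y := by group
    · have hzP : z ∈ P := HallCore.le_pCore (hN := PGroupsBasic.normal_of_le_center inf_le_right)
        ((PGroupsBasic.isPGroup_of_isElementaryAbelian hYel).to_le inf_le_left) hz
      exact ⟨hXA ⟨hzP, hz.1⟩, hz.2⟩

end Cfsg.Agent.S2837
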