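import Cfsg.Statements.S2839
import Mathlib
import Cfsg.Agent.Lib.LocalLarge57


set_option autoImplicit false
open Cfsg
open Cfsg.Agent Cfsg.Agent.LocalLarge57
open scoped commutatorElement

namespace Cfsg.Agent.S2839

/-- Let Q be a nontrivial p-subgroup of the finite group H that is a weakly closed subgroup, K a subgroup containing Q and N a normal subgroup of H. Then Q is a weakly closed subgroup of K; every H-conjugate of Q contained in K is a K-conjugate of Q; N_K(Q) contains a Sylow p-subgroup of K; N = N_N(Q)·O^p(N); and QN/N is a weakly closed subgroup of H/N. -/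
theorem result {H : Type*} [Group H] [Finite H] {p : ℕ} [Fact p.Prime] (Q : Subgroup H) (hQp : IsPGroup p ↥Q) (hQ1 : Q ≠ ⊥) (hwc : Cfsg.IsWeaklyClosedSubgroup p Q) (K : Subgroup H) (hQK : Q ≤ K) (N' : Subgroup H) [N'.Normal] : Cfsg.IsWeaklyClosedSubgroup p (Q.subgroupOf K) ∧ (∀ g : H, ((Q : Subgroup H).map (MulAut.conj (g : H)).toMonoidHom) ≤ K → ∃ k ∈ K, ((Q : Subgroup H).map (MulAut.conj (g : H)).toMonoidHom) = ((Q : Subgroup H).map (MulAut.conj (k : H)).toMonoidHom)) ∧ Cfsg.IsParabolic p ((Subgroup.normalizer ((Q : Subgroup H) : Set H)).subgroupOf K) ∧ (N' ⊓ Subgroup.normalizer ((Q : Subgroup H) : Set H)) ⊔ (Cfsg.pResidual p ↥N').map N'.subtype = N' ∧ Cfsg.IsWeaklyClosedSubgroup p (Q.map (QuotientGroup.mk' N')) := by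
  refine ⟨?_, fun g hg => exists_conj_of_wc hwc hQp hQK hg, ?_, ?_, ?_⟩
  · obtain ⟨S, hS⟩ := (hQp.comap_subtype (K := K)).exists_le_sylow
    refine ⟨S, hS, fun k hk => ?_⟩
    have h1 : conjBy (k : H) Q = Q := by
      refine unique_of_wc hwc (S.isPGroup'.map K.subtype) ?_ (g := (k : H)) ?_
      · exact fun q hq => ⟨⟨q, hQK hq⟩, hS hq, rfl⟩
      · rintro _ ⟨q, hq, rfl⟩
        exact ⟨k * ⟨q, hQK hq⟩ * k⁻¹, hk ⟨⟨q, hQK hq⟩, hq, rfl⟩, rfl⟩
    apply Subgroup.map_injective K.subtype_injective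
    rw [Subgroup.map_subgroupOf_eq_of_le hQK]
    refine (le_antisymm ?_ ?_).trans h1
    · rintro _ ⟨_, ⟨y, hy, rfl⟩, rfl⟩
      exact ⟨(y : H), hy, rfl⟩
    · rintro _ ⟨q, hq, rfl⟩
      exact ⟨_, ⟨⟨q, hQK hq⟩, hq, rfl⟩, rfl⟩
  · obtain ⟨S, hS⟩ := (hQp.comap_subtype (K := K)).exists_le_sylow
    refine ⟨S, fun y hy => ?_⟩
    exact le_normalizer_of_wc hwc (S.isPGroup'.map K.subtype)
      (fun q hq => ⟨⟨q, hQK hq⟩, hS hq, rfl⟩) ⟨y, hy, rfl⟩
  · obtain ⟨T, hT⟩ := hQp.exists_le_sylow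
    obtain ⟨S, hS⟩ := LocalBasics.exists_sylow_inf T N'
    have hTQ : (T : Subgroup H) ≤ Subgroup.normalizer (Q : Set H) :=
      le_normalizer_of_wc hwc T.isPGroup' hT
    refine le_antisymm (sup_le inf_le_left (Subgroup.map_subtype_le _)) ?_
    calc N' = ((S : Subgroup ↥N') ⊔ Cfsg.pResidual p ↥N').map N'.subtype := by
          rw [TransferPResidual.sylow_sup_pResidual, ← MonoidHom.range_eq_map, Subgroup.range_subtype]
      _ ≤ _ := by
          rw [Subgroup.map_sup]
          refine sup_le_sup_right ?_ _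
          rw [hS, Subgroup.subgroupOf_map_subtype]
          exact le_inf inf_le_right (inf_le_left.trans hTQ)
  · set q := QuotientGroup.mk' N' with hqdef
    have hq : Function.Surjective q := QuotientGroup.mk'_surjective N'
    obtain ⟨T, hT⟩ := hQp.exists_le_sylow
    refine ⟨T.mapSurjective hq, ?_, fun gb hgb => ?_⟩
    · rw [Sylow.coe_mapSurjective]; exact Subgroup.map_mono hT
    obtain ⟨g, rfl⟩ := hq gb
    have e : (Q.map q).map (MulAut.conj (q g)).toMonoidHom = (conjBy g Q).map q := by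
      rw [conjBy, Subgroup.map_map, Subgroup.map_map]
      refine congrArg (fun f => Q.map f) ?_
      ext x
      simp
    rw [e] at hgb ⊢
    rw [Sylow.coe_mapSurjective, Subgroup.map_le_map_iff, hqdef, QuotientGroup.ker_mk'] at hgb
    obtain ⟨k, hk, hkg⟩ := exists_conj_of_wc hwc hQp (hT.trans le_sup_left) hgb
    rw [sup_comm] at hk
    obtain ⟨n, hn, t, ht, rfl⟩ := Subgroup.mem_sup_of_normal_left.mp hk
    rw [hkg, ← conjBy_conjBy, mem_normalizer_iff_conjBy.mp (le_normalizer_of_wc hwc T.isPGroup' hT ht)]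
    rw [conjBy, Subgroup.map_map]
    have hn1 : q n = 1 := (QuotientGroup.eq_one_iff n).mpr hn
    refine congrArg (fun f => Q.map f) ?_
    ext x
    simp [hn1]

end Cfsg.Agent.S2839
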