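import Cfsg.Statements.S2840
import Mathlib
import Cfsg.Agent.Lib.LocalLarge57


set_option autoImplicit false
open Cfsg
open Cfsg.Agent Cfsg.Agent.LocalLarge57
open scoped commutatorElement

namespace Cfsg.Agent.S2840

/-- Let Q be a nontrivial p-subgroup of the finite group H that is a weakly closed subgroup and K a subgroup containing Q; let K° be the weak closure of Q in K (generated by the H-conjugates of Q inside K). Then K° is generated by the K-conjugates of Q, and K° is the subnormal closure of Q in K. -/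
theorem result {H : Type*} [Group H] [Finite H] {p : ℕ} [Fact p.Prime] (Q : Subgroup H) (hQp : IsPGroup p ↥Q) (hQ1 : Q ≠ ⊥) (hwc : Cfsg.IsWeaklyClosedSubgroup p Q) (K : Subgroup H) (hQK : Q ≤ K) (Kc : Subgroup H) (hKc : Kc = Cfsg.weakClosure Q K) : Kc = ⨆ k : ↥K, ((Q : Subgroup H).map (MulAut.conj ((k : H) : H)).toMonoidHom) ∧ Kc = (Cfsg.subnormalClosure (Q.subgroupOf K)).map K.subtype := by
  subst hKc
  have hgen : Cfsg.weakClosure Q K = ⨆ k : ↥K, Q.map (MulAut.conj (k : H)).toMonoidHom := by
    refine le_antisymm (iSup_le fun x => ?_) (iSup_le fun k => ?_)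
    · obtain ⟨k, hk, he⟩ := exists_conj_of_wc hwc hQp hQK x.2
      exact le_trans (le_of_eq he) (le_iSup (fun k : ↥K => Q.map (MulAut.conj (k : H)).toMonoidHom) ⟨k, hk⟩)
    · exact conjBy_le_weakClosure
        ((conjBy_mono (k : H) hQK).trans (mem_normalizer_iff_conjBy.mp (Subgroup.le_normalizer k.2)).le)
  refine ⟨hgen, le_antisymm ?_ ?_⟩
  · suffices h : ∀ X : Subgroup ↥K, X.IsSubnormal → Q.subgroupOf K ≤ X →
        (Cfsg.weakClosure Q K).subgroupOf K ≤ X by
      have h2 : (Cfsg.weakClosure Q K).subgroupOf K ≤ Cfsg.subnormalClosure (Q.subgroupOf K) :=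
        le_sInf fun X hX => h X hX.2 hX.1
      have h3 := Subgroup.map_mono (f := K.subtype) h2
      rwa [Subgroup.map_subgroupOf_eq_of_le (weakClosure_le Q K)] at h3
    intro X hX
    induction hX with
    | top => exact fun _ => le_top
    | step X X' hXX' hX' hN ih =>
      intro hQX
      have h4 := ih (hQX.trans hXX')
      have hQX' : Q ≤ X'.map K.subtype := fun y hy =>
        ⟨⟨y, hQK hy⟩, hXX' (hQX hy), rfl⟩
      have hcl : Cfsg.weakClosure Q K ≤ X.map K.subtype := by
        refine iSup_le fun g => ?_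
        have hg : conjBy (g : H) Q ≤ X'.map K.subtype := by
          refine (conjBy_le_weakClosure g.2).trans ?_
          rw [← Subgroup.map_subgroupOf_eq_of_le (weakClosure_le Q K)]
          exact Subgroup.map_mono h4
        obtain ⟨x, hx, he⟩ := exists_conj_of_wc hwc hQp hQX' hg
        show conjBy (g : H) Q ≤ _
        rw [he]
        obtain ⟨x', hx', rfl⟩ := hx
        rintro _ ⟨y, hy, rfl⟩
        exact ⟨x' * ⟨y, hQK hy⟩ * x'⁻¹,
          hN.conj_mem ⟨⟨y, hQK hy⟩, hXX' (hQX hy)⟩ (hQX hy) ⟨x', hx'⟩, rfl⟩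
      intro z hz
      obtain ⟨w, hw, he⟩ := hcl hz
      rwa [Subtype.ext he] at hw
  · have h1 : ((Cfsg.weakClosure Q K).subgroupOf K).Normal :=
      LocalBasics.normal_subgroupOf_of_le (le_normalizer_weakClosure Q K)
    have h2 : Cfsg.subnormalClosure (Q.subgroupOf K) ≤ (Cfsg.weakClosure Q K).subgroupOf K :=
      sInf_le ⟨fun y hy => le_weakClosure hQK hy, h1.isSubnormal⟩
    refine (Subgroup.map_mono h2).trans (le_of_eq ?_)
    exact Subgroup.map_subgroupOf_eq_of_le (weakClosure_le Q K)

end Cfsg.Agent.S2840
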