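import Cfsg.Statements.S2841
import Mathlib
import Cfsg.Agent.Lib.LocalLarge57
import Cfsg.Agent.Lib.LocalPReduced57


set_option autoImplicit false
open Cfsg
open Cfsg.Agent Cfsg.Agent.LocalLarge57
open scoped commutatorElement

namespace Cfsg.Agent.S2841

/-- Let Q be a nontrivial p-subgroup of the finite group H that is a weakly closed subgroup and N a normal subgroup of H. Then N = N_N(Q)·[N, Q] and [N, Q] = (Q ∩ [N, Q])·[N, Q, Q]. -/
theorem result {H : Type*} [Group H] [Finite H] {p : ℕ} [Fact p.Prime] (Q : Subgroup H) (hQp : IsPGroup p ↥Q) (hQ1 : Q ≠ ⊥) (hwc : Cfsg.IsWeaklyClosedSubgroup p Q) (N' : Subgroup H) [N'.Normal] : (∀ n : H, n ∈ N' → ∃ a ∈ N' ⊓ Subgroup.normalizer ((Q : Subgroup H) : Set H), ∃ b ∈ ⁅N', Q⁆, n = a * b) ∧ (∀ c : H, c ∈ ⁅N', Q⁆ → ∃ a ∈ Q ⊓ ⁅N', Q⁆, ∃ b ∈ ⁅⁅N', Q⁆, Q⁆, c = a * b) := by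
  set B := ⁅N', Q⁆ with hB
  have hQB : Q ≤ Subgroup.normalizer (B : Set H) := Subgroup.normalizer_commutator_ge_right N' Q
  have hNB : N' ≤ Subgroup.normalizer (B : Set H) := Subgroup.normalizer_commutator_ge_left N' Q
  have hBN : B ≤ N' := Subgroup.commutator_le_left _ _
  have first : ∀ n ∈ N', ∃ a ∈ N' ⊓ Subgroup.normalizer (Q : Set H), ∃ b ∈ B, n = a * b := by
    intro n hn
    have hg : conjBy n Q ≤ Q ⊔ B := by
      rintro _ ⟨y, hy, rfl⟩
      have e : (MulAut.conj n).toMonoidHom y = ⁅n, y⁆ * y := by simp [commutatorElement_def]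
      rw [e]
      exact mul_mem (Subgroup.mem_sup_right (Subgroup.commutator_mem_commutator hn hy))
        (Subgroup.mem_sup_left hy)
    obtain ⟨x, hx, he⟩ := exists_conj_of_wc hwc hQp le_sup_left hg
    obtain ⟨q, hq, b, hb, rfl⟩ := LocalPReduced57.exists_mul_of_mem_sup hQB hx
    have hb' : q * b * q⁻¹ ∈ B := LocalBasics.conj_mem_of_le_normalizer hQB hq hb
    set b' := q * b * q⁻¹ with hb'def
    have he' : conjBy n Q = conjBy b' Q := by
      rw [he, show q * b = b' * q by rw [hb'def]; group, ← conjBy_conjBy,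
        mem_normalizer_iff_conjBy.mp (Subgroup.le_normalizer hq)]
    have ha : b'⁻¹ * n ∈ Subgroup.normalizer (Q : Set H) := by
      rw [mem_normalizer_iff_conjBy, ← conjBy_conjBy, he', conjBy_inv_self]
    have haN : b'⁻¹ * n ∈ N' := mul_mem (inv_mem (hBN hb')) hn
    refine ⟨b'⁻¹ * n, ⟨haN, ha⟩, (b'⁻¹ * n)⁻¹ * b' * (b'⁻¹ * n), ?_, by group⟩
    have := LocalBasics.conj_mem_of_le_normalizer hNB (inv_mem haN) hb'
    simpa using this
  refine ⟨first, ?_⟩
  set B₂ := ⁅B, Q⁆ with hB₂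
  have hQB₂ : Q ≤ Subgroup.normalizer (B₂ : Set H) := Subgroup.normalizer_commutator_ge_right B Q
  have hprod : ∀ c ∈ B, c ∈ (Q ⊓ B) ⊔ B₂ := by
    intro c hc
    revert c
    show B ≤ (Q ⊓ B) ⊔ B₂
    refine Subgroup.commutator_le.mpr fun n hn y hy => ?_
    obtain ⟨a, ⟨haN, haQ⟩, b, hb, rfl⟩ := first n hn
    have e : ⁅a * b, y⁆ = (a * ⁅b, y⁆ * a⁻¹) * ⁅a, y⁆ := by
      simp only [commutatorElement_def]; group
    have haB₂ : a ∈ Subgroup.normalizer (B₂ : Set H) := by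
      rw [mem_normalizer_iff_conjBy]
      show Subgroup.map _ ⁅B, Q⁆ = _
      rw [Subgroup.map_commutator]
      show ⁅conjBy a B, conjBy a Q⁆ = _
      rw [mem_normalizer_iff_conjBy.mp (hNB haN), mem_normalizer_iff_conjBy.mp haQ]
    rw [e]
    refine mul_mem (Subgroup.mem_sup_right
      ((Subgroup.mem_normalizer_iff.mp haB₂ _).mp (Subgroup.commutator_mem_commutator hb hy)))
      (Subgroup.mem_sup_left ⟨?_, Subgroup.commutator_mem_commutator haN hy⟩)
    rw [commutatorElement_def]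
    exact Q.mul_mem ((Subgroup.mem_normalizer_iff.mp haQ y).mp hy) (Q.inv_mem hy)
  intro c hc
  exact LocalPReduced57.exists_mul_of_mem_sup (inf_le_left.trans hQB₂) (hprod c hc)

end Cfsg.Agent.S2841
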