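import Cfsg.Statements.S2842
import Mathlib
import Cfsg.Agent.Lib.LocalLarge57
import Cfsg.Agent.Lib.LocalPReduced57
import Cfsg.Agent.Lib.LocCoprime56
import Cfsg.Agent.Lib.CharPBasic

set_option autoImplicit false
open Cfsg
open Cfsg.Agent
open scoped commutatorElement

namespace Cfsg.Agent.S2842

open Subgroup in
/-- Characteristic `p` passes to centralizers of normalizing `p`-groups. -/
theorem charp_centralizer {H : Type*} [Group H] [Finite H] {p : ℕ} [Fact p.Prime] {X B : Subgroup H}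
    (hX : X ⊓ centralizer ((Cfsg.pCoreOf p X : Subgroup H) : Set H) ≤ Cfsg.pCoreOf p X)
    (hB : IsPGroup p ↥B) (hBX : B ≤ normalizer (X : Set H)) :
    (X ⊓ centralizer (B : Set H)) ⊓
      centralizer ((Cfsg.pCoreOf p (X ⊓ centralizer (B : Set H)) : Subgroup H) : Set H) ≤
        Cfsg.pCoreOf p (X ⊓ centralizer (B : Set H)) := by
  set D := X ⊓ centralizer (B : Set H)
  set P := Cfsg.pCoreOf p X
  set O := Cfsg.pCoreOf p D
  have hBP : B ≤ normalizer (P : Set H) := LocalLarge57.le_normalizer_pCoreOf_of_le_normalizer hBX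
  have hPO : P ⊓ centralizer (B : Set H) ≤ O :=
    LocalBasics.le_pCoreOf (inf_le_inf_right _ (LocalBasics.pCoreOf_le p X))
      (LocalBasics.le_normalizer_inf (inf_le_left.trans (LocalBasics.le_normalizer_pCoreOf p X))
        (inf_le_right.trans le_normalizer))
      ((LocalBasics.isPGroup_pCoreOf p X).to_le inf_le_left)
  refine LocalBasics.le_pCoreOf inf_le_left (LocalBasics.le_normalizer_inf le_normalizer
    (LocalBasics.le_normalizer_centralizer (LocalBasics.le_normalizer_pCoreOf p D))) ?_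
  refine LocCoprime56.isPGroup_of_coprime_eq_one fun x hx hxo => ?_
  have hc := CharPBasic.commute_of_centralizes_fixed (LocalBasics.isPGroup_pCoreOf p X) hB hBP hxo
    (LocalBasics.le_normalizer_pCoreOf p X hx.1.1) (fun q hq => (hx.1.2 q hq).symm)
    (fun y hy hyB => (hx.2 y (hPO ⟨hy, fun q hq => hyB q hq⟩)).symm)
  exact LocalLarge57.eq_one_of_coprime_isPGroup (LocalBasics.isPGroup_pCoreOf p X)
    (hX ⟨hx.1.1, fun y hy => (hc y hy).symm⟩) hxo

/-- Let Q be a nontrivial p-subgroup of the finite group H that is a weakly closed subgroup with C_H(Q) ≤ Q, and Q ≤ L ≤ H. Suppose H has characteristic p, or more generally that C_H(y) has characteristic p for some nonidentity y ∈ C_{O_p(L)}(Q). Then [Q, C_H(O_p(L))] ≤ Q ∩ O_p(L), C_H(O_p(L)) is a p-group, and L has characteristic p. -/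
theorem result {H : Type*} [Group H] [Finite H] {p : ℕ} [Fact p.Prime] (Q : Subgroup H) (hQp : IsPGroup p ↥Q) (hQ1 : Q ≠ ⊥) (hwc : Cfsg.IsWeaklyClosedSubgroup p Q) (hCQ : Subgroup.centralizer ((Q : Subgroup H) : Set H) ≤ Q) (L : Subgroup H) (hQL : Q ≤ L) (hyp : Subgroup.centralizer (Cfsg.pCore p H : Set H) ≤ Cfsg.pCore p H ∨ ∃ y : H, y ≠ 1 ∧ y ∈ (Cfsg.pCoreOf p L) ⊓ Subgroup.centralizer ((Q : Subgroup H) : Set H) ∧ Subgroup.centralizer (Cfsg.pCore p ↥(Subgroup.centralizer ({y} : Set H)) : Set ↥(Subgroup.centralizer ({y} : Set H))) ≤ Cfsg.pCore p ↥(Subgroup.centralizer ({y} : Set H))) : ⁅Q, Subgroup.centralizer (((Cfsg.pCoreOf p L) : Subgroup H) : Set H)⁆ ≤ Q ⊓ (Cfsg.pCoreOf p L) ∧ IsPGroup p ↥(Subgroup.centralizer (((Cfsg.pCoreOf p L) : Subgroup H) : Set H)) ∧ Subgroup.centralizer (Cfsg.pCore p ↥L : Set ↥L) ≤ Cfsg.pCore p ↥L := by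
  set R := Cfsg.pCoreOf p L with hR
  set C := Subgroup.centralizer (R : Set H) with hC
  have hRp : IsPGroup p ↥R := LocalBasics.isPGroup_pCoreOf p L
  have hLR : L ≤ Subgroup.normalizer (R : Set H) := LocalBasics.le_normalizer_pCoreOf p L
  have hQR : Q ≤ Subgroup.normalizer (R : Set H) := hQL.trans hLR
  have hRQ : R ≤ Subgroup.normalizer (Q : Set H) :=
    le_sup_left.trans (LocalLarge57.le_normalizer_of_wc hwc
      (LocalLarge57.isPGroup_sup_normalizing hRp hQp hQR) le_sup_right)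
  have hCc : C ⊓ Subgroup.centralizer ((Cfsg.pCoreOf p C : Subgroup H) : Set H) ≤ Cfsg.pCoreOf p C := by
    rcases hyp with hH | ⟨y, -, ⟨hyR, hyQ⟩, hy⟩
    · have h0 : (⊤ : Subgroup H) ⊓ Subgroup.centralizer
          ((Cfsg.pCoreOf p (⊤ : Subgroup H) : Subgroup H) : Set H) ≤ Cfsg.pCoreOf p (⊤ : Subgroup H) := by
        rw [LocalBasics.pCoreOf_top]; exact inf_le_right.trans hH
      have := charp_centralizer h0 hRp (LocalBasics.le_normalizer_of_normal R)
      rwa [top_inf_eq] at this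
    · set K := Subgroup.centralizer ({y} : Set H)
      set R₁ := R ⊓ Q
      have hyR₁ : y ∈ R₁ := ⟨hyR, hCQ hyQ⟩
      have hR₁K : R₁ ≤ K := fun r hr => Subgroup.mem_centralizer_iff.mpr fun z hz => by
        rw [Set.mem_singleton_iff.mp hz]; exact (hyQ r hr.2).symm
      have h1 := charp_centralizer (LocalPReduced57.charp_inf hy) (hRp.to_le inf_le_left)
        (hR₁K.trans Subgroup.le_normalizer)
      rw [inf_eq_right.mpr (show Subgroup.centralizer (R₁ : Set H) ≤ K from fun c hc =>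
        Subgroup.mem_centralizer_iff.mpr fun z hz => by
          rw [Set.mem_singleton_iff.mp hz]; exact hc y hyR₁)] at h1
      have h2 := charp_centralizer h1 hRp (LocalBasics.le_normalizer_centralizer
        (LocalBasics.le_normalizer_inf Subgroup.le_normalizer hRQ))
      rwa [inf_eq_right.mpr (Subgroup.centralizer_le (SetLike.coe_subset_coe.mpr inf_le_left))] at h2
  have hLC : L ≤ Subgroup.normalizer (C : Set H) := LocalBasics.le_normalizer_centralizer hLR
  set O := Cfsg.pCoreOf p C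
  have hOp : IsPGroup p ↥O := LocalBasics.isPGroup_pCoreOf p C
  have hLO : L ≤ Subgroup.normalizer (O : Set H) := LocalLarge57.le_normalizer_pCoreOf_of_le_normalizer hLC
  have hQO : Q ≤ Subgroup.normalizer (O : Set H) := hQL.trans hLO
  have hQOp := LocalLarge57.isPGroup_sup_normalizing hOp hQp hQO
  have hOQ : O ≤ Subgroup.normalizer (Q : Set H) :=
    le_sup_left.trans (LocalLarge57.le_normalizer_of_wc hwc hQOp le_sup_right)
  have hOLR : O ⊓ L ≤ R := LocalBasics.le_pCoreOf inf_le_right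
    (LocalBasics.le_normalizer_inf hLO Subgroup.le_normalizer) (hOp.to_le inf_le_left)
  have hcentral : ∀ z ∈ O ⊓ Q, ∀ c ∈ C, Commute c z := fun z hz c hc =>
    (hc z (hOLR ⟨hz.1, hQL hz.2⟩)).symm
  have hQC : ⁅Q, C⁆ ≤ O := by
    have hD : ⁅Q, C⁆ ≤ C := Subgroup.le_normalizer_iff_commutator_le_right.mp (hQL.trans hLC)
    let D : Subgroup H :=
      { carrier := {c | c ∈ C ∧ ∀ o ∈ O, c * o * c⁻¹ * o⁻¹ ∈ O ⊓ Q}
        one_mem' := ⟨one_mem _, fun o _ => by simp⟩
        mul_mem' := by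
          rintro a b ⟨ha, ha'⟩ ⟨hb, hb'⟩
          refine ⟨mul_mem ha hb, fun o ho => ?_⟩
          have e : a * (b * o * b⁻¹ * o⁻¹) * a⁻¹ = b * o * b⁻¹ * o⁻¹ := by
            rw [(hcentral _ (hb' o ho) a ha).eq, mul_inv_cancel_right]
          rw [show a * b * o * (a * b)⁻¹ * o⁻¹ =
            (a * (b * o * b⁻¹ * o⁻¹) * a⁻¹) * (a * o * a⁻¹ * o⁻¹) by group, e]
          exact mul_mem (hb' o ho) (ha' o ho)
        inv_mem' := by
          rintro a ⟨ha, ha'⟩
          refine ⟨inv_mem ha, fun o ho => ?_⟩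
          have h1 : a⁻¹ * o * a ∈ O := by
            simpa using LocalBasics.conj_mem_of_le_normalizer (LocalBasics.le_normalizer_pCoreOf p C)
              (inv_mem ha) ho
          rw [show a⁻¹ * o * a⁻¹⁻¹ * o⁻¹ =
            (a * (a⁻¹ * o * a) * a⁻¹ * (a⁻¹ * o * a)⁻¹)⁻¹ by group]
          exact inv_mem (ha' _ h1) }
    have hDC : D ≤ C := fun x hx => hx.1
    have hDn : C ≤ Subgroup.normalizer (D : Set H) := by
      refine LocalBasics.le_normalizer_of_conj fun g hg x hx =>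
        ⟨mul_mem (mul_mem hg hx.1) (inv_mem hg), fun o ho => ?_⟩
      have h1 : g⁻¹ * o * g ∈ O := by
        simpa using LocalBasics.conj_mem_of_le_normalizer (LocalBasics.le_normalizer_pCoreOf p C)
          (inv_mem hg) ho
      rw [show g * x * g⁻¹ * o * (g * x * g⁻¹)⁻¹ * o⁻¹ =
        g * (x * (g⁻¹ * o * g) * x⁻¹ * (g⁻¹ * o * g)⁻¹) * g⁻¹ by group,
        (hcentral _ (hx.2 _ h1) g hg).eq, mul_inv_cancel_right]
      exact hx.2 _ h1
    have hDp : IsPGroup p ↥D := by
      refine LocCoprime56.isPGroup_of_coprime_eq_one fun x hx hxo => ?_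
      refine LocalLarge57.eq_one_of_coprime_isPGroup hOp (hCc ⟨hx.1, fun o ho => ?_⟩) hxo
      exact ((CharPBasic.commute_of_comm_commute hOp hxo (hx.2 o ho).1
        (hcentral _ (hx.2 o ho) x hx.1)).eq).symm
    refine le_trans ?_ (LocalBasics.le_pCoreOf hDC hDn hDp)
    refine Subgroup.commutator_le.mpr fun q hq c hc =>
      ⟨hD (Subgroup.commutator_mem_commutator hq hc), fun o ho => ?_⟩
    -- `q` centralizes `O` modulo `O ⊓ Q`
    have hqz : ∀ a ∈ Q, ∀ w ∈ O, w⁻¹ * (a * w * a⁻¹) ∈ O ⊓ Q := fun a ha w hw => by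
      refine Subgroup.mem_inf.mpr ⟨mul_mem (inv_mem hw) (LocalBasics.conj_mem_of_le_normalizer hQO ha hw), ?_⟩
      rw [show w⁻¹ * (a * w * a⁻¹) = (w⁻¹ * a * w⁻¹⁻¹) * a⁻¹ by group]
      exact mul_mem (LocalBasics.conj_mem_of_le_normalizer hOQ (inv_mem hw) ha) (inv_mem ha)
    have hCO := LocalBasics.le_normalizer_pCoreOf p C
    set w := c⁻¹ * o * c
    have hw : w ∈ O := by simpa using LocalBasics.conj_mem_of_le_normalizer hCO (inv_mem hc) ho
    set u := q⁻¹ * w * q
    have hu : u ∈ O := by simpa using LocalBasics.conj_mem_of_le_normalizer hQO (inv_mem hq) hw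
    set v := c * u * c⁻¹
    have hv : v ∈ O := LocalBasics.conj_mem_of_le_normalizer hCO hc hu
    set z := w⁻¹ * (q⁻¹ * w * q⁻¹⁻¹)
    have hz : z ∈ O ⊓ Q := hqz _ (inv_mem hq) w hw
    have hvo : v = o * z := by
      calc v = c * (w * z) * c⁻¹ := by simp only [v, u, z]; group
        _ = c * w * (z * c⁻¹) := by group
        _ = c * w * (c⁻¹ * z) := by rw [(hcentral z hz c⁻¹ (inv_mem hc)).eq]
        _ = o * z := by simp only [w]; group
    set z' := v⁻¹ * (q * v * q⁻¹)
    have hz' : z' ∈ O ⊓ Q := hqz q hq v hv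
    rw [commutatorElement_def]
    rw [show q * c * q⁻¹ * c⁻¹ * o * (q * c * q⁻¹ * c⁻¹)⁻¹ * o⁻¹ = v * z' * o⁻¹ by
      simp only [v, u, w, z']; group, hvo]
    refine Subgroup.mem_inf.mpr ⟨mul_mem (mul_mem (mul_mem ho hz.1) hz'.1) (inv_mem ho), ?_⟩
    rw [show o * z * z' * o⁻¹ = o * (z * z') * o⁻¹ by group]
    exact LocalBasics.conj_mem_of_le_normalizer hOQ ho (mul_mem hz.2 hz'.2)
  have hCQn : C ≤ Subgroup.normalizer (Q : Set H) := by
    refine le_trans ?_ (LocalLarge57.normalizer_le_of_wc hwc hQOp le_sup_right)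
    refine LocalBasics.le_normalizer_of_conj fun c hc x hx => ?_
    have h1 : O ⊔ Q ≤ (O ⊔ Q).comap (MulAut.conj c).toMonoidHom := by
      refine sup_le (fun o ho => Subgroup.mem_sup_left
        (LocalBasics.conj_mem_of_le_normalizer (LocalBasics.le_normalizer_pCoreOf p C) hc ho)) fun q hq => ?_
      show c * q * c⁻¹ ∈ O ⊔ Q
      rw [show c * q * c⁻¹ = ⁅q, c⁆⁻¹ * q by rw [commutatorElement_def]; group]
      exact mul_mem (Subgroup.mem_sup_left (inv_mem (hQC (Subgroup.commutator_mem_commutator hq hc))))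
        (Subgroup.mem_sup_right hq)
    exact h1 hx
  have hfirst : ⁅Q, C⁆ ≤ Q ⊓ R := by
    refine le_inf (Subgroup.le_normalizer_iff_commutator_le_left.mp hCQn) fun x hx => hOLR ⟨hQC hx, ?_⟩
    exact hQL (Subgroup.le_normalizer_iff_commutator_le_left.mp hCQn hx)
  have hCp : IsPGroup p ↥C := by
    refine LocCoprime56.isPGroup_of_coprime_eq_one fun x hx hxo => ?_
    refine LocalLarge57.eq_one_of_coprime_isPGroup hQp (hCQ fun q hq => ?_) hxo
    have h1 : x * q * x⁻¹ * q⁻¹ ∈ Q ⊓ R := by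
      have := hfirst (Subgroup.commutator_mem_commutator hq hx)
      have := inv_mem this
      rwa [commutatorElement_def, show (q * x * q⁻¹ * x⁻¹)⁻¹ = x * q * x⁻¹ * q⁻¹ by group] at this
    exact ((CharPBasic.commute_of_comm_commute hQp hxo h1.1 (hx _ h1.2).symm).eq).symm
  refine ⟨hfirst, hCp, fun x hx => ?_⟩
  have hxC : (x : H) ∈ C := by
    rintro _ ⟨r, hr, rfl⟩
    exact congrArg Subtype.val (hx r hr)
  obtain ⟨y, hy, hyx⟩ := LocalBasics.le_pCoreOf (inf_le_left : L ⊓ C ≤ L)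
    (LocalBasics.le_normalizer_inf Subgroup.le_normalizer hLC) (hCp.to_le inf_le_right) ⟨x.2, hxC⟩
  rwa [← Subtype.ext (hyx : (y : H) = (x : H))]

end Cfsg.Agent.S2842
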