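import Cfsg.Statements.S2843
import Mathlib
import Cfsg.Agent.Lib.LocalLarge57
import Cfsg.Agent.Lib.LocalPReduced57


set_option autoImplicit false
open Cfsg
open Cfsg.Agent Cfsg.Agent.LocalLarge57
open scoped commutatorElement

namespace Cfsg.Agent.S2843

/-- Let Q be a nontrivial large p-subgroup of the finite group H, Q ≤ L ≤ H, and Y a nontrivial p-subgroup of H normalized by L. Let L° be the weak closure of Q in L (generated by the conjugates of Q inside L). Then L° equals the weak closure of Q in L·C_H(Y), and [L°, C_H(Y)] ≤ O_p(L°); in particular C_H(Y) normalizes L°. -/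
theorem result {H : Type*} [Group H] [Finite H] {p : ℕ} [Fact p.Prime] (Q : Subgroup H) (hQp : IsPGroup p ↥Q) (hQ1 : Q ≠ ⊥) (hL : Cfsg.IsLarge Q) (L : Subgroup H) (hQL : Q ≤ L) (Y : Subgroup H) (hYp : IsPGroup p ↥Y) (hY1 : Y ≠ ⊥) (hLY : L ≤ Subgroup.normalizer ((Y : Subgroup H) : Set H)) : Cfsg.weakClosure Q L = Cfsg.weakClosure Q (L ⊔ Subgroup.centralizer ((Y : Subgroup H) : Set H)) ∧ ⁅Cfsg.weakClosure Q L, Subgroup.centralizer ((Y : Subgroup H) : Set H)⁆ ≤ (Cfsg.pCoreOf p (Cfsg.weakClosure Q L)) ∧ Subgroup.centralizer ((Y : Subgroup H) : Set H) ≤ Subgroup.normalizer (((Cfsg.weakClosure Q L) : Subgroup H) : Set H) := by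
  set C := Subgroup.centralizer (Y : Set H) with hC
  have hLC : L ≤ Subgroup.normalizer (C : Set H) := LocalBasics.le_normalizer_centralizer hLY
  have hCg : ∀ g : H, conjBy g Q ≤ L → C ≤ Subgroup.normalizer ((conjBy g Q : Subgroup H) : Set H) :=
    fun g hg => centralizer_le_of_large (large_conjBy hL g) (hQp.map _) hYp hY1 (hg.trans hLY)
  have hwc := wc_of_large hL hQp hQ1
  have heq : Cfsg.weakClosure Q L = Cfsg.weakClosure Q (L ⊔ C) := by
    refine le_antisymm (weakClosure_mono fun g hg => hg.trans le_sup_left) (weakClosure_mono fun g hg => ?_)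
    obtain ⟨k, hk, he⟩ := exists_conj_of_wc hwc hQp (hQL.trans le_sup_left) hg
    obtain ⟨l, hl, c, hc, rfl⟩ := LocalPReduced57.exists_mul_of_mem_sup hLC hk
    have h1 : c ∈ Subgroup.normalizer (Q : Set H) := by
      have := hCg 1 (by rwa [conjBy_one]) hc
      rwa [conjBy_one] at this
    rw [he, ← conjBy_conjBy, mem_normalizer_iff_conjBy.mp h1]
    exact (conjBy_mono l hQL).trans (mem_normalizer_iff_conjBy.mp (Subgroup.le_normalizer hl)).le
  set W := Cfsg.weakClosure Q L with hW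
  have hWL : W ≤ L := weakClosure_le Q L
  have hCW : C ≤ Subgroup.normalizer (W : Set H) := by
    rw [heq]
    exact le_sup_right.trans (le_normalizer_weakClosure Q (L ⊔ C))
  refine ⟨heq, ?_, hCW⟩
  set A := W ⊓ Cfsg.pCoreOf p C with hA
  have hWA : W ≤ Subgroup.normalizer (A : Set H) :=
    LocalBasics.le_normalizer_inf Subgroup.le_normalizer (le_normalizer_pCoreOf_of_le_normalizer (hWL.trans hLC))
  have hAO : A ≤ Cfsg.pCoreOf p W :=
    LocalBasics.le_pCoreOf inf_le_left hWA ((LocalBasics.isPGroup_pCoreOf p C).to_le inf_le_right)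
  have hPg : ∀ g : H, conjBy g Q ≤ L → ∀ x ∈ conjBy g Q, ∀ c ∈ C, ⁅x, c⁆ ∈ A := by
    intro g hg x hx c hc
    have hxC : x ∈ Subgroup.normalizer (C : Set H) := hLC (hg hx)
    have h1 : ⁅x, c⁆ ∈ conjBy g Q ⊓ C :=
      commutator_le_inf (hg.trans hLC) (hCg g hg) (Subgroup.commutator_mem_commutator hx hc)
    refine ⟨conjBy_le_weakClosure hg h1.1, ?_⟩
    exact LocalBasics.le_pCoreOf inf_le_right (LocalBasics.le_normalizer_inf (hCg g hg) Subgroup.le_normalizer)
      ((hQp.map _).to_le inf_le_left) h1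
  refine le_trans ?_ hAO
  let K : Subgroup H :=
    { carrier := {w | w ∈ W ∧ ∀ c ∈ C, ⁅w, c⁆ ∈ A}
      one_mem' := ⟨one_mem _, fun c _ => by simp [commutatorElement_def]⟩
      mul_mem' := by
        rintro a b ⟨ha, ha'⟩ ⟨hb, hb'⟩
        refine ⟨W.mul_mem ha hb, fun c hc => ?_⟩
        rw [show ⁅a * b, c⁆ = (a * ⁅b, c⁆ * a⁻¹) * ⁅a, c⁆ by simp only [commutatorElement_def]; group]
        exact A.mul_mem (LocalBasics.conj_mem_of_le_normalizer hWA ha (hb' c hc)) (ha' c hc)
      inv_mem' := by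
        rintro a ⟨ha, ha'⟩
        refine ⟨W.inv_mem ha, fun c hc => ?_⟩
        rw [show ⁅a⁻¹, c⁆ = a⁻¹ * ⁅a, c⁆⁻¹ * a⁻¹⁻¹ by simp only [commutatorElement_def]; group]
        exact LocalBasics.conj_mem_of_le_normalizer hWA (W.inv_mem ha) (A.inv_mem (ha' c hc)) }
  have hWK : W ≤ K := iSup_le fun g x hx => ⟨conjBy_le_weakClosure g.2 hx, hPg g g.2 x hx⟩
  exact Subgroup.commutator_le.mpr fun w hw c hc => (hWK hw).2 c hc

end Cfsg.Agent.S2843
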