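import Cfsg.Statements.S2844
import Mathlib
import Cfsg.Agent.Lib.LocalLarge57


set_option autoImplicit false
open Cfsg
open Cfsg.Agent Cfsg.Agent.LocalLarge57
open scoped commutatorElement

namespace Cfsg.Agent.S2844

/-- Let Q be a nontrivial large p-subgroup of the finite group H and Q• = O_p(N_H(Q)). Then for every g ∈ H outside N_H(Q): C_H(Q) ∩ C_H(gQg⁻¹) = 1, C_H(Q•) ∩ C_H(gQ•g⁻¹) = 1, Z(Q) ∩ Z(gQg⁻¹) = 1 and Z(Q•) ∩ Z(gQ•g⁻¹) = 1; moreover N_H(Q) = N_H(Q•) and Q• is large in H. -/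
theorem result {H : Type*} [Group H] [Finite H] {p : ℕ} [Fact p.Prime] (Q : Subgroup H) (hQp : IsPGroup p ↥Q) (hQ1 : Q ≠ ⊥) (hL : Cfsg.IsLarge Q) (Qb : Subgroup H) (hQb : Qb = Cfsg.largeBullet p Q) : (∀ g : H, g ∉ Subgroup.normalizer ((Q : Subgroup H) : Set H) → Subgroup.centralizer ((Q : Subgroup H) : Set H) ⊓ Subgroup.centralizer ((((Q : Subgroup H).map (MulAut.conj (g : H)).toMonoidHom) : Subgroup H) : Set H) = ⊥ ∧ Subgroup.centralizer ((Qb : Subgroup H) : Set H) ⊓ Subgroup.centralizer ((((Qb : Subgroup H).map (MulAut.conj (g : H)).toMonoidHom) : Subgroup H) : Set H) = ⊥ ∧ (Q ⊓ Subgroup.centralizer ((Q : Subgroup H) : Set H)) ⊓ (((Q : Subgroup H).map (MulAut.conj (g : H)).toMonoidHom) ⊓ Subgroup.centralizer ((((Q : Subgroup H).map (MulAut.conj (g : H)).toMonoidHom) : Subgroup H) : Set H)) = ⊥ ∧ (Qb ⊓ Subgroup.centralizer ((Qb : Subgroup H) : Set H)) ⊓ (((Qb : Subgroup H).map (MulAut.conj (g : H)).toMonoidHom) ⊓ Subgroup.centralizer ((((Qb : Subgroup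 H).map (MulAut.conj (g : H)).toMonoidHom) : Subgroup H) : Set H)) = ⊥) ∧ Subgroup.normalizer ((Q : Subgroup H) : Set H) = Subgroup.normalizer ((Qb : Subgroup H) : Set H) ∧ Cfsg.IsLarge Qb := by
  subst hQb
  set N := Subgroup.normalizer (Q : Set H) with hN
  set Qb := Cfsg.largeBullet p Q with hQb
  have hQQb : Q ≤ Qb := LocalBasics.le_pCoreOf Subgroup.le_normalizer le_rfl hQp
  have hCC : Subgroup.centralizer (Qb : Set H) ≤ Subgroup.centralizer (Q : Set H) :=
    Subgroup.centralizer_le hQQb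
  have main : ∀ g : H, g ∉ N →
      Subgroup.centralizer (Q : Set H) ⊓ Subgroup.centralizer ((conjBy g Q : Subgroup H) : Set H) = ⊥ := by
    intro g hg
    by_contra hne
    set U := Subgroup.centralizer (Q : Set H) ⊓ Subgroup.centralizer ((conjBy g Q : Subgroup H) : Set H)
    have h1 : conjBy g Q ≤ N := by
      refine le_trans ?_ (hL.2 U inf_le_left hne)
      refine le_trans ?_ (LocalBasics.centralizer_le_normalizer U)
      exact fun x hx u hu => ((hu : u ∈ U).2 x hx).symm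
    exact hg (mem_normalizer_iff_conjBy.mpr (eq_of_large hL hQp hQ1 h1))
  have hNQb : N = Subgroup.normalizer (Qb : Set H) := by
    refine le_antisymm (LocalBasics.le_normalizer_pCoreOf p N) ?_
    exact large_normalizer_cond hL hQ1 (LocalBasics.isPGroup_pCoreOf p N) hQQb
  refine ⟨fun g hg => ?_, hNQb, ⟨hCC.trans (hL.1.trans hQQb), fun U hU hU1 => ?_⟩⟩
  · have hg' : g ∉ N := hg
    refine ⟨main g hg', le_bot_iff.mp ?_, le_bot_iff.mp ?_, le_bot_iff.mp ?_⟩
    · rw [← main g hg']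
      exact inf_le_inf hCC (Subgroup.centralizer_le (Subgroup.map_mono hQQb))
    · rw [← main g hg']
      exact inf_le_inf inf_le_right inf_le_right
    · rw [← main g hg']
      exact inf_le_inf (inf_le_right.trans hCC)
        (inf_le_right.trans (Subgroup.centralizer_le (Subgroup.map_mono hQQb)))
  · rw [← hNQb]
    exact hL.2 U (hU.trans hCC) hU1

end Cfsg.Agent.S2844
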