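import Cfsg.Statements.S2845
import Mathlib
import Cfsg.Agent.Lib.LocalLarge57
import Cfsg.Agent.Lib.LocCoprime56


set_option autoImplicit false
open Cfsg
open Cfsg.Agent Cfsg.Agent.LocalLarge57
open scoped commutatorElement

namespace Cfsg.Agent.S2845

theorem core_centralizer {H : Type*} [Group H] [Finite H] {p : ℕ} [Fact p.Prime] {Q : Subgroup H}
    (hQp : IsPGroup p ↥Q) (hL : Cfsg.IsLarge Q) {L : Subgroup H} (hQL : Q ≤ L)
    (hO : Cfsg.pCoreOf p L ≠ ⊥) :
    IsPGroup p ↥(Subgroup.centralizer ((Cfsg.pCoreOf p L : Subgroup H) : Set H)) := by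
  set O := Cfsg.pCoreOf p L with hOdef
  set D := Subgroup.centralizer (O : Set H) with hD
  have hLD : L ≤ Subgroup.normalizer (D : Set H) :=
    LocalBasics.le_normalizer_centralizer (LocalBasics.le_normalizer_pCoreOf p L)
  have hDQ : D ≤ Subgroup.normalizer (Q : Set H) :=
    centralizer_le_of_large hL hQp (LocalBasics.isPGroup_pCoreOf p L) hO
      (hQL.trans (LocalBasics.le_normalizer_pCoreOf p L))
  have hX : Q ⊓ D ≤ O := by
    have h1 : Q ⊓ D ≤ Cfsg.pCoreOf p (D ⊓ L) := LocalBasics.le_pCoreOf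
      (le_inf inf_le_right (inf_le_left.trans hQL))
      (LocalBasics.le_normalizer_inf (inf_le_left.trans hDQ) (inf_le_left.trans Subgroup.le_normalizer))
      (hQp.to_le inf_le_left)
    exact h1.trans (pCoreOf_le_pCoreOf inf_le_right (LocalBasics.le_normalizer_inf hLD Subgroup.le_normalizer))
  refine LocCoprime56.isPGroup_of_coprime_eq_one fun x hx hco => ?_
  have hxQ : x ∈ Subgroup.centralizer (Q : Set H) := by
    intro q hq
    set c := q⁻¹ * (x * q * x⁻¹) with hc
    have hcX : c ∈ Q ⊓ D := by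
      refine ⟨Q.mul_mem (Q.inv_mem hq) (LocalBasics.conj_mem_of_le_normalizer hDQ hx hq), ?_⟩
      have h1 : q⁻¹ * x * q ∈ D := by
        simpa using LocalBasics.conj_mem_of_le_normalizer (hQL.trans hLD) (inv_mem hq) hx
      have h2 := mul_mem h1 (inv_mem hx)
      rw [hc]
      simpa [mul_assoc] using h2
    have hfix : x * c * x⁻¹ = c := by
      rw [← (show c * x = x * c from hx c (hX hcX)), mul_inv_cancel_right]
    obtain ⟨k, hk⟩ := hQp ⟨c, hcX.1⟩
    have h3 : c = 1 := OmegaCoprime.eq_one_of_fixed_comm (x := q) hco (by rw [hc]; group) hfix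
      ⟨k, congrArg Subtype.val hk⟩
    rw [hc, inv_mul_eq_one, eq_mul_inv_iff_mul_eq] at h3
    exact h3
  exact eq_one_of_coprime_isPGroup hQp (hL.1 hxQ) hco

theorem parabolic_core {H : Type*} [Group H] [Finite H] {p : ℕ} [Fact p.Prime] {Q : Subgroup H}
    (hQp : IsPGroup p ↥Q) (hL : Cfsg.IsLarge Q) {R : Subgroup H} (hR : Cfsg.IsParabolic p R)
    (hO : Cfsg.pCore p ↥R ≠ ⊥) :
    Subgroup.centralizer ((Cfsg.pCoreOf p R : Subgroup H) : Set H) ≤ Cfsg.pCoreOf p R := by
  obtain ⟨T, hT⟩ := hR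
  obtain ⟨T', hT'⟩ := hQp.exists_le_sylow
  obtain ⟨g, hg⟩ := MulAction.exists_smul_eq H T' T
  have hgQ : conjBy g Q ≤ R := by
    refine le_trans ?_ hT
    rw [← hg]
    exact Subgroup.map_mono hT'
  have hO' : Cfsg.pCoreOf p R ≠ ⊥ := fun h =>
    hO ((Subgroup.map_eq_bot_iff_of_injective _ R.subtype_injective).mp h)
  have hD := core_centralizer (hQp.map (MulAut.conj g).toMonoidHom) (large_conjBy hL g) hgQ hO'
  have hTn := LocalBasics.le_normalizer_centralizer (hT.trans (LocalBasics.le_normalizer_pCoreOf p R))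
  have hDT : Subgroup.centralizer ((Cfsg.pCoreOf p R : Subgroup H) : Set H) ≤ R :=
    (le_sup_left.trans (T.3 (isPGroup_sup_normalizing hD T.isPGroup' hTn) le_sup_right).le).trans hT
  exact LocalBasics.le_pCoreOf hDT
    (LocalBasics.le_normalizer_centralizer (LocalBasics.le_normalizer_pCoreOf p R)) hD

/-- Let Q be a nontrivial large p-subgroup of the finite group H. Then for every subgroup L ≥ Q with O_p(L) ≠ 1, C_H(O_p(L)) is a p-group and L has characteristic p, and either the weak closure L° of Q in L equals Q or C_H(L°) = 1; for every subgroup R of H containing a Sylow p-subgroup of H with O_p(R) ≠ 1, C_H(O_p(R)) ≤ O_p(R); and H has parabolic characteristic p. -/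
theorem result {H : Type*} [Group H] [Finite H] {p : ℕ} [Fact p.Prime] (Q : Subgroup H) (hQp : IsPGroup p ↥Q) (hQ1 : Q ≠ ⊥) (hL : Cfsg.IsLarge Q) : (∀ L : Subgroup H, Q ≤ L → Cfsg.pCore p ↥L ≠ ⊥ → IsPGroup p ↥(Subgroup.centralizer (((Cfsg.pCoreOf p L) : Subgroup H) : Set H)) ∧ Subgroup.centralizer (Cfsg.pCore p ↥L : Set ↥L) ≤ Cfsg.pCore p ↥L ∧ (Cfsg.weakClosure Q L = Q ∨ Subgroup.centralizer (((Cfsg.weakClosure Q L) : Subgroup H) : Set H) = ⊥)) ∧ (∀ R : Subgroup H, Cfsg.IsParabolic p R → Cfsg.pCore p ↥R ≠ ⊥ → Subgroup.centralizer (((Cfsg.pCoreOf p R) : Subgroup H) : Set H) ≤ (Cfsg.pCoreOf p R)) ∧ Cfsg.IsOfParabolicCharacteristic p H := by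
  refine ⟨fun L hQL hO => ?_, fun R hR hO => parabolic_core hQp hL hR hO, fun R hRp hR1 hRpar => ?_⟩
  · have hO' : Cfsg.pCoreOf p L ≠ ⊥ := fun h =>
      hO ((Subgroup.map_eq_bot_iff_of_injective _ L.subtype_injective).mp h)
    have hD := core_centralizer hQp hL hQL hO'
    refine ⟨hD, ?_, or_iff_not_imp_right.mpr fun hU => ?_⟩
    · refine HallCore.le_pCore fun x => ?_
      have hxD : ((x : ↥L) : H) ∈ Subgroup.centralizer ((Cfsg.pCoreOf p L : Subgroup H) : Set H) := by
        rintro _ ⟨o, ho, rfl⟩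
        exact congrArg Subtype.val (x.2 o ho)
      obtain ⟨k, hk⟩ := hD ⟨_, hxD⟩
      exact ⟨k, Subtype.ext (Subtype.ext (congrArg Subtype.val hk :))⟩
    · set W := Cfsg.weakClosure Q L
      set U := Subgroup.centralizer (W : Set H)
      have hQW : Q ≤ W := le_weakClosure hQL
      have hWN : W ≤ Subgroup.normalizer (Q : Set H) := by
        refine le_trans ?_ (hL.2 U (Subgroup.centralizer_le hQW) hU)
        refine le_trans ?_ (LocalBasics.centralizer_le_normalizer U)
        exact fun w hw u hu => (hu w hw).symm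
      refine le_antisymm (iSup_le fun g => ?_) hQW
      exact (eq_of_large hL hQp hQ1 ((conjBy_le_weakClosure g.2).trans hWN)).le
  · have hne : Cfsg.pCore p ↥(Subgroup.normalizer (R : Set H)) ≠ ⊥ := by
      intro h0
      apply hR1
      have h1 := LocalBasics.le_pCoreOf Subgroup.le_normalizer le_rfl hRp
      rw [Cfsg.pCoreOf, h0, Subgroup.map_bot] at h1
      exact le_bot_iff.mp h1
    intro x hx
    have h1 := parabolic_core hQp hL hRpar hne (x := (x : H)) (by
      rintro _ ⟨o, ho, rfl⟩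
      exact congrArg Subtype.val (hx o ho))
    obtain ⟨o, ho, he⟩ := h1
    rwa [Subtype.ext he] at ho

end Cfsg.Agent.S2845
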