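import Cfsg.Statements.S2848
import Mathlib
import Cfsg.Agent.Lib.LocalPReduced57
import Cfsg.Agent.S2830


set_option autoImplicit false
open Cfsg
open Cfsg.Agent Cfsg.Agent.LocalPReduced57
open scoped commutatorElement

namespace Cfsg.Agent.S2848

/-- Standing hypotheses: G a finite group, S a Sylow p-subgroup, Q a nontrivial large p-subgroup of G contained in S (C_G(Q) ≤ Q and N_G(U) ≤ N_G(Q) for all nontrivial U ≤ C_G(Q)), and M a subgroup containing S with the basic property (M ∈ 𝔐_G(S)); Y_M denotes the largest p-reduced normal subgroup of M and M† = M·C_G(Y_M). Then O_p(M) is a weakly closed subgroup of M† (for p): it is the only M†-conjugate of itself inside some Sylow p-subgroup of M† containing it. -/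
theorem result {G : Type*} [Group G] [Finite G] {p : ℕ} [Fact p.Prime] (S : Sylow p G) (Q : Subgroup G) (hQp : IsPGroup p ↥Q) (hQ1 : Q ≠ ⊥) (hQS : Q ≤ (S : Subgroup G)) (hQ : Cfsg.IsLarge Q) (M : Subgroup G) (hSM : (S : Subgroup G) ≤ M) (hM : Cfsg.IsInFrakM p M) : Cfsg.IsWeaklyClosedSubgroup p (((Cfsg.pCoreOf p M)).subgroupOf (M ⊔ Subgroup.centralizer (((Cfsg.largestPReducedOf p M) : Subgroup G) : Set G))) := by
  obtain ⟨-, -, -, -, hpc, -⟩ := hM
  set Y := Cfsg.largestPReducedOf p M
  set C := Subgroup.centralizer (Y : Set G)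
  have hY := red_largest p M
  have hSC : (S : Subgroup G) ≤ Subgroup.normalizer (C : Set G) :=
    hSM.trans (LocalBasics.le_normalizer_centralizer hY.2.1)
  have hT₀ : (S : Subgroup G) ⊓ C ≤ Cfsg.pCoreOf p M := by
    have : ((M ⊓ C).subgroupOf M).Normal :=
      LocalBasics.normal_subgroupOf_of_le (LocalBasics.le_normalizer_inf Subgroup.le_normalizer
        (LocalBasics.le_normalizer_centralizer hY.2.1))
    have hc := Cfsg.Agent.S2830.isPClosed_equiv (Subgroup.subgroupOfEquivOfLe (inf_le_left : M ⊓ C ≤ M)).symm hpc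
    intro x hx
    have h3 : IsPGroup p ↥(((S : Subgroup G) ⊓ C).subgroupOf M) :=
      (S.isPGroup'.to_le inf_le_left).comap_subtype
    have h4 := LocalBasics.sylow_le_pCore hc h3 (fun y hy => ⟨y.2, hy.2⟩)
      (show (⟨x, hSM hx.1⟩ : ↥M) ∈ ((S : Subgroup G) ⊓ C).subgroupOf M from hx)
    exact ⟨_, h4, rfl⟩
  set N := M ⊔ C with hN
  have hNC : N ≤ Subgroup.normalizer (C : Set G) :=
    sup_le (LocalBasics.le_normalizer_centralizer hY.2.1) Subgroup.le_normalizer
  set O := Cfsg.pCoreOf p M with hO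
  have hOS : O ≤ (S : Subgroup G) := pCoreOf_le_sylow S hSM
  have hON : O ≤ N := (LocalBasics.pCoreOf_le p M).trans le_sup_left
  refine ⟨S.subtype (hSM.trans le_sup_left), fun x hx => hOS hx, fun g hg => ?_⟩
  refine Subgroup.eq_of_le_of_card_ge ?_ (le_of_eq ?_)
  · rintro _ ⟨x, hx, rfl⟩
    refine hT₀ ⟨hg ⟨x, hx, rfl⟩, ?_⟩
    exact LocalBasics.conj_mem_of_le_normalizer hNC g.2 (hY.pCoreOf_le hx)
  · exact (Subgroup.card_map_of_injective (MulEquiv.injective _)).symm

end Cfsg.Agent.S2848
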