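import Cfsg.Statements.S2849
import Mathlib
import Cfsg.Agent.Lib.LocalPReduced57


set_option autoImplicit false
open Cfsg
open Cfsg.Agent Cfsg.Agent.LocalPReduced57
open scoped commutatorElement

namespace Cfsg.Agent.S2849

/-- Standing hypotheses: G a finite group, S a Sylow p-subgroup, Q a nontrivial large p-subgroup of G contained in S (C_G(Q) ≤ Q and N_G(U) ≤ N_G(Q) for all nontrivial U ≤ C_G(Q)), and M a subgroup containing S with the basic property (M ∈ 𝔐_G(S)); Y_M denotes the largest p-reduced normal subgroup of M and M† = M·C_G(Y_M). Suppose Y_M is asymmetric in G. Then for every subgroup R with Y_M ≤ R ≤ M†, the normal closure of Y_M in N_G(R) is elementary abelian. -/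
theorem result {G : Type*} [Group G] [Finite G] {p : ℕ} [Fact p.Prime] (S : Sylow p G) (Q : Subgroup G) (hQp : IsPGroup p ↥Q) (hQ1 : Q ≠ ⊥) (hQS : Q ≤ (S : Subgroup G)) (hQ : Cfsg.IsLarge Q) (M : Subgroup G) (hSM : (S : Subgroup G) ≤ M) (hM : Cfsg.IsInFrakM p M) (hasym : ¬ Cfsg.IsSymmetricIn (Cfsg.largestPReducedOf p M)) (R : Subgroup G) (hYR : (Cfsg.largestPReducedOf p M) ≤ R) (hRM : R ≤ (M ⊔ Subgroup.centralizer (((Cfsg.largestPReducedOf p M) : Subgroup G) : Set G))) : Cfsg.IsElementaryAbelian p ((Subgroup.normalClosure ((((Cfsg.largestPReducedOf p M)).subgroupOf (Subgroup.normalizer ((R : Subgroup G) : Set G)) : Subgroup ↥(Subgroup.normalizer ((R : Subgroup G) : Set G))) : Set ↥(Subgroup.normalizer ((R : Subgroup G) : Set G)))).map (Subgroup.normalizer ((R : Subgroup G) : Set G)).subtype) := by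
  set Y := Cfsg.largestPReducedOf p M
  have hY := red_largest p M
  set N := Subgroup.normalizer ((R : Subgroup G) : Set G)
  have hRN : R ≤ Subgroup.normalizer (Y : Set G) :=
    hRM.trans (sup_le hY.2.1 (LocalBasics.centralizer_le_normalizer Y))
  have key : ∀ n ∈ N, ∀ a ∈ Y, ∀ b ∈ Y, a * (n * b * n⁻¹) = n * b * n⁻¹ * a := by
    intro n hn a ha b hb
    have hYn : Y.map (MulAut.conj n).toMonoidHom ≤ R := by
      rintro _ ⟨y, hy, rfl⟩
      exact (Subgroup.mem_normalizer_iff.mp hn y).mp (hYR hy)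
    have h1 : ⁅Y, Y.map (MulAut.conj n).toMonoidHom⁆ ≤ Y ⊓ Y.map (MulAut.conj n).toMonoidHom := by
      refine le_inf (Subgroup.le_normalizer_iff_commutator_le_left.mp (hYn.trans hRN))
        (Subgroup.le_normalizer_iff_commutator_le_right.mp ?_)
      refine LocalBasics.le_normalizer_of_conj fun x hx k hk => ?_
      obtain ⟨y, hy, rfl⟩ := hk
      refine ⟨n⁻¹ * x * n * y * (n⁻¹ * x * n)⁻¹, ?_, by simp [mul_assoc]⟩
      refine LocalBasics.conj_mem_of_le_normalizer hRN ?_ hy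
      simpa using LocalBasics.conj_mem_of_le_normalizer
        (show N ≤ Subgroup.normalizer (R : Set G) from le_rfl) (inv_mem hn) (hYR hx)
    have h2 : ⁅Y, Y.map (MulAut.conj n).toMonoidHom⁆ = ⊥ := by
      by_contra h
      exact hasym ⟨n, h, h1⟩
    exact ((Subgroup.commutator_eq_bot_iff_le_centralizer.mp h2) ha _ ⟨b, hb, rfl⟩).symm
  rw [Subgroup.normalClosure, MonoidHom.map_closure]
  refine PGroupsBasic.isElementaryAbelian_closure ?_ ?_
  · rintro _ ⟨x, hx, rfl⟩ _ ⟨y, hy, rfl⟩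
    obtain ⟨a, ha, hxa⟩ := Group.mem_conjugatesOfSet_iff.mp hx
    obtain ⟨b, hb, hyb⟩ := Group.mem_conjugatesOfSet_iff.mp hy
    obtain ⟨c, rfl⟩ := isConj_iff.mp hxa
    obtain ⟨d, rfl⟩ := isConj_iff.mp hyb
    have h1 := key ((c : G)⁻¹ * d) (mul_mem (inv_mem c.2) d.2) a ha b hb
    show (c : G) * (a : G) * (c : G)⁻¹ * ((d : G) * (b : G) * (d : G)⁻¹) =
      (d : G) * (b : G) * (d : G)⁻¹ * ((c : G) * (a : G) * (c : G)⁻¹)
    calc (c : G) * (a : G) * (c : G)⁻¹ * ((d : G) * (b : G) * (d : G)⁻¹)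
        = (c : G) * ((a : G) * ((c : G)⁻¹ * d * b * ((c : G)⁻¹ * d)⁻¹)) * (c : G)⁻¹ := by group
      _ = (c : G) * (((c : G)⁻¹ * d * b * ((c : G)⁻¹ * d)⁻¹) * (a : G)) * (c : G)⁻¹ := by rw [h1]
      _ = _ := by group
  · rintro _ ⟨x, hx, rfl⟩
    obtain ⟨a, ha, hxa⟩ := Group.mem_conjugatesOfSet_iff.mp hx
    obtain ⟨c, rfl⟩ := isConj_iff.mp hxa
    show ((c : G) * (a : G) * (c : G)⁻¹) ^ p = 1
    rw [conj_pow, show (a : G) ^ p = 1 from hY.2.2.1.2 (a : G) ha, mul_one, mul_inv_cancel]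

end Cfsg.Agent.S2849
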