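import Cfsg.Statements.S2850
import Mathlib
import Cfsg.Agent.Lib.LocalAsym57
import Cfsg.Agent.S2845

set_option autoImplicit false
open Cfsg
open Cfsg.Agent

namespace Cfsg.Agent.S2850

/-- Standing hypotheses: G a finite group, S a Sylow p-subgroup, Q a nontrivial large p-subgroup of G contained in S (C_G(Q) ≤ Q and N_G(U) ≤ N_G(Q) for all nontrivial U ≤ C_G(Q)), and M a subgroup containing S with the basic property (M ∈ 𝔐_G(S)); Y_M denotes the largest p-reduced normal subgroup of M and M† = M·C_G(Y_M). Suppose Y_M is asymmetric in G. Then N_G(L) ≤ N_G(O_p(M)) ≤ M† for every p-subgroup L containing O_p(M); O_p(M) is a weakly closed subgroup of G; for every subgroup L containing O_p(M), L ∩ M† contains a Sylow p-subgroup of L; and two elements of Y_M conjugate in G are conjugate in M. -/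
theorem result {G : Type*} [Group G] [Finite G] {p : ℕ} [Fact p.Prime] (S : Sylow p G) (Q : Subgroup G) (hQp : IsPGroup p ↥Q) (hQ1 : Q ≠ ⊥) (hQS : Q ≤ (S : Subgroup G)) (hQ : Cfsg.IsLarge Q) (M : Subgroup G) (hSM : (S : Subgroup G) ≤ M) (hM : Cfsg.IsInFrakM p M) (hasym : ¬ Cfsg.IsSymmetricIn (Cfsg.largestPReducedOf p M)) : (∀ L : Subgroup G, IsPGroup p ↥L → (Cfsg.pCoreOf p M) ≤ L → Subgroup.normalizer ((L : Subgroup G) : Set G) ≤ Subgroup.normalizer (((Cfsg.pCoreOf p M) : Subgroup G) : Set G) ∧ Subgroup.normalizer (((Cfsg.pCoreOf p M) : Subgroup G) : Set G) ≤ (M ⊔ Subgroup.centralizer (((Cfsg.largestPReducedOf p M) : Subgroup G) : Set G))) ∧ Cfsg.IsWeaklyClosedSubgroup p (Cfsg.pCoreOf p M) ∧ (∀ L : Subgroup G, (Cfsg.pCoreOf p M) ≤ L → Cfsg.IsParabolic p ((L ⊓ (M ⊔ Subgroup.centralizer (((Cfsg.largestPReducedOf p M) : Subgroup G) : Set G))).subgroupOf L)) ∧ (∀ x ∈ (Cfsg.largestPReducedOf p M), ∀ g : G, g * x * g⁻¹ ∈ (Cfsg.largestPReducedOf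 p M) → ∃ m ∈ M, m * x * m⁻¹ = g * x * g⁻¹) := by
  have hG := (Cfsg.Agent.S2845.result Q hQp hQ1 hQ).2.2
  have hR := LocalBasics.isPGroup_pCoreOf p M
  have hwc := LocalAsym57.core_wc hG S hSM hM hasym
  have hNd := LocalAsym57.normalizer_core_le hG S hSM hM
  refine ⟨fun L hL hRL => ⟨LocalLarge57.normalizer_le_of_wc hwc hL hRL, hNd⟩, hwc, fun L hRL => ?_,
    fun x hx g hgx => ?_⟩
  · obtain ⟨P, hP⟩ := (hR.comap_subtype (K := L)).exists_le_sylow
    refine ⟨P, fun z hz => ⟨z.2, hNd ?_⟩⟩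
    refine LocalLarge57.le_normalizer_of_wc hwc (R := (P : Subgroup ↥L).map L.subtype)
      (P.isPGroup'.map _) ?_ ⟨z, hz, rfl⟩
    intro r hr
    exact ⟨⟨r, hRL hr⟩, hP hr, rfl⟩
  · set Y := Cfsg.largestPReducedOf p M
    set y := g * x * g⁻¹ with hy
    have hYR := (LocalPReduced57.red_largest p M).pCoreOf_le
    have h1 : Cfsg.pCoreOf p M ≤ Subgroup.centralizer ({y} : Set G) := fun r hr =>
      Subgroup.mem_centralizer_iff.mpr fun w hw => by
        rw [Set.mem_singleton_iff.mp hw]; exact hYR hr y hgx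
    have h2 : LocalLarge57.conjBy g (Cfsg.pCoreOf p M) ≤ Subgroup.centralizer ({y} : Set G) := by
      rintro _ ⟨r, hr, rfl⟩
      refine Subgroup.mem_centralizer_iff.mpr fun w hw => ?_
      rw [Set.mem_singleton_iff.mp hw]
      show g * x * g⁻¹ * (g * r * g⁻¹) = g * r * g⁻¹ * (g * x * g⁻¹)
      calc g * x * g⁻¹ * (g * r * g⁻¹) = g * (x * r) * g⁻¹ := by group
        _ = g * (r * x) * g⁻¹ := by rw [hYR hr x hx]
        _ = g * r * g⁻¹ * (g * x * g⁻¹) := by group
    obtain ⟨k, hk, hkg⟩ := LocalLarge57.exists_conj_of_wc hwc hR h1 h2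
    have h3 : k⁻¹ * g ∈ LocalAsym57.dag p M := hNd (LocalLarge57.mem_normalizer_iff_conjBy.mpr (by
      rw [← LocalLarge57.conjBy_conjBy, hkg, LocalLarge57.conjBy_inv_self]))
    obtain ⟨m, hm, c, hc, he⟩ := LocalPReduced57.exists_mul_of_mem_sup
      (LocalBasics.le_normalizer_centralizer (LocalPReduced57.red_largest p M).2.1) h3
    refine ⟨m, hm, ?_⟩
    have hky : y * k = k * y := Subgroup.mem_centralizer_iff.mp hk y rfl
    have hcx : x * c = c * x := hc x hx
    calc m * x * m⁻¹ = m * (c * x * c⁻¹) * m⁻¹ := by rw [← hcx, mul_inv_cancel_right]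
      _ = (m * c) * x * (m * c)⁻¹ := by group
      _ = (k⁻¹ * g) * x * (k⁻¹ * g)⁻¹ := by rw [he]
      _ = k⁻¹ * (y * k) := by rw [hy]; group
      _ = y := by rw [hky, inv_mul_cancel_left]

end Cfsg.Agent.S2850
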