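import Cfsg.Statements.S2859
import Mathlib
import Cfsg.Agent.Lib.LocalLarge57
import Cfsg.Agent.Lib.LocalPReduced57
import Cfsg.Agent.Lib.LocCoprime56

set_option autoImplicit false
open Cfsg
open Cfsg.Agent
open scoped commutatorElement

namespace Cfsg.Agent.S2859

open Subgroup LocalLarge57

variable {G : Type*} [Group G] {p : ℕ}

abbrev res (p : ℕ) (X : Subgroup G) : Subgroup G := (Cfsg.pResidual p ↥X).map X.subtype

theorem mem_res {X : Subgroup G} {x : G} (hx : x ∈ X) (hc : (orderOf x).Coprime p) : x ∈ res p X :=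
  ⟨⟨x, hx⟩, TransferPResidual.mem_pResidual_of_coprime (by rwa [Subgroup.orderOf_mk]), rfl⟩

theorem res_le {X K : Subgroup G} (h : ∀ x ∈ X, (orderOf x).Coprime p → x ∈ K) : res p X ≤ K :=
  map_le_iff_le_comap.mpr (TransferPResidual.pResidual_le_iff_coprime.mpr fun g hg =>
    h g g.2 (by rwa [Subgroup.orderOf_coe]))

theorem le_normalizer_res {X Z : Subgroup G} (h : Z ≤ normalizer (X : Set G)) :
    Z ≤ normalizer ((res p X : Subgroup G) : Set G) := by
  refine LocalBasics.le_normalizer_of_conj fun z hz x hx => ?_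
  let c : ↥X →* ↥X :=
    { toFun := fun y => ⟨z * y * z⁻¹, LocalBasics.conj_mem_of_le_normalizer h hz y.2⟩
      map_one' := Subtype.ext (by simp)
      map_mul' := fun a b => Subtype.ext (by simp [mul_assoc]) }
  obtain ⟨y, hy, rfl⟩ := hx
  exact ⟨c y, TransferPResidual.map_pResidual_le c ⟨y, hy, rfl⟩, rfl⟩

theorem mem_of_sup_pGroup [Fact p.Prime] {N P : Subgroup G} (hP : IsPGroup p ↥P)
    (hn : P ≤ normalizer (N : Set G)) {x : G} (hx : x ∈ N ⊔ P) (hc : (orderOf x).Coprime p) :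
    x ∈ N := by
  haveI : (N.subgroupOf (N ⊔ P)).Normal :=
    LocalBasics.normal_subgroupOf_of_le (sup_le le_normalizer hn)
  let f := QuotientGroup.mk' (N.subgroupOf (N ⊔ P))
  obtain ⟨b, hb, a, ha, e⟩ := LocalPReduced57.exists_mul_of_mem_sup hn (sup_comm N P ▸ hx)
  obtain ⟨j, hj⟩ := hP ⟨b, hb⟩
  have hfa : f ⟨a, mem_sup_left ha⟩ = 1 := (QuotientGroup.eq_one_iff _).mpr ha
  have hfx : f ⟨x, hx⟩ = f ⟨b, mem_sup_right hb⟩ := by
    rw [show (⟨x, hx⟩ : ↥(N ⊔ P)) = ⟨b, mem_sup_right hb⟩ * ⟨a, mem_sup_left ha⟩ from Subtype.ext e,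
      map_mul, hfa, mul_one]
  have h2 : (⟨x, hx⟩ : ↥(N ⊔ P)) ^ p ^ j ∈ N.subgroupOf (N ⊔ P) := by
    refine (QuotientGroup.eq_one_iff _).mp ?_
    show f (_ ^ p ^ j) = 1
    rw [map_pow, hfx, ← map_pow]
    exact (QuotientGroup.eq_one_iff _).mpr (by
      rw [mem_subgroupOf, SubmonoidClass.coe_pow]
      rw [show b ^ p ^ j = 1 from congrArg Subtype.val hj]
      exact one_mem _)
  exact LocCoprime56.mem_of_pow_mem hc h2

theorem le_normalizer_commutator (K Q : Subgroup G) (h : Q ≤ normalizer (K : Set G)) :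
    K ⊔ Q ≤ normalizer ((⁅K, Q⁆ : Subgroup G) : Set G) := by
  refine sup_le (LocalBasics.le_normalizer_of_conj fun k hk c hc => ?_)
    (LocalBasics.le_normalizer_of_conj fun q hq c hc => ?_)
  · have h1 : ⁅K, Q⁆ ≤ (⁅K, Q⁆ : Subgroup G).comap (MulAut.conj k).toMonoidHom :=
      commutator_le.mpr fun a ha b hb => by
        show k * ⁅a, b⁆ * k⁻¹ ∈ (⁅K, Q⁆ : Subgroup G)
        rw [show k * ⁅a, b⁆ * k⁻¹ = ⁅k * a, b⁆ * ⁅k, b⁆⁻¹ by
          simp only [commutatorElement_def]; group]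
        exact mul_mem (commutator_mem_commutator (mul_mem hk ha) hb)
          (inv_mem (commutator_mem_commutator hk hb))
    exact h1 hc
  · have h1 : ⁅K, Q⁆ ≤ (⁅K, Q⁆ : Subgroup G).comap (MulAut.conj q).toMonoidHom :=
      commutator_le.mpr fun a ha b hb => by
        rw [Subgroup.mem_comap, map_commutatorElement]
        exact commutator_mem_commutator (LocalBasics.conj_mem_of_le_normalizer h hq ha)
          (mul_mem (mul_mem hq hb) (inv_mem hq))
    exact h1 hc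

variable [Finite G] [Fact p.Prime]

/-- `W = O^p(W) Q` and `O^p(W) = [O^p(W), Q]` for a weak closure `W`. -/
theorem closure_facts {Q X : Subgroup G} (hQp : IsPGroup p ↥Q)
    (hwc : Cfsg.IsWeaklyClosedSubgroup p Q) (hQX : Q ≤ X) :
    let W := Cfsg.weakClosure Q X
    res p W ⊔ Q = W ∧ ⁅res p W, Q⁆ = res p W := by
  intro W
  have hQW : Q ≤ W := le_weakClosure hQX
  have hKn : W ≤ normalizer ((res p W : Subgroup G) : Set G) := le_normalizer_res le_normalizer
  have hKW : res p W ≤ W := map_subtype_le _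
  obtain ⟨P, hP⟩ := (hQp.comap_subtype (K := W)).exists_le_sylow
  have hQP : Q ≤ (P : Subgroup ↥W).map W.subtype := fun q hq => ⟨⟨q, hQW hq⟩, hP hq, rfl⟩
  have hPQ := LocalLarge57.le_normalizer_of_wc hwc (P.isPGroup'.map _) hQP
  have hgen : ∀ Z : Subgroup G, Q ≤ Z → W ≤ normalizer (Z : Set G) → W ≤ Z := by
    intro Z hQZ hn
    refine iSup_le fun g => ?_
    obtain ⟨w, hw, he⟩ := LocalLarge57.exists_conj_of_wc hwc hQp hQW
      (LocalLarge57.conjBy_le_weakClosure g.2)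
    show conjBy (g : G) Q ≤ Z
    rw [he]
    exact (conjBy_mono w hQZ).trans (mem_normalizer_iff_conjBy.mp (hn hw)).le
  have hWdec : W ≤ res p W ⊔ (P : Subgroup ↥W).map W.subtype := by
    intro w hw
    have h1 : (⟨w, hw⟩ : ↥W) ∈ (P : Subgroup ↥W) ⊔ Cfsg.pResidual p ↥W := by
      rw [TransferPResidual.sylow_sup_pResidual]; trivial
    have h2 := mem_map_of_mem W.subtype h1
    rwa [Subgroup.map_sup, sup_comm] at h2
  have h1 : res p W ⊔ Q = W := by
    refine le_antisymm (sup_le hKW hQW) (hgen _ le_sup_right ?_)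
    refine hWdec.trans (sup_le (le_sup_left.trans le_normalizer) ?_)
    exact LocalBasics.le_normalizer_sup ((map_subtype_le _).trans hKn) hPQ
  refine ⟨h1, le_antisymm ?_ ?_⟩
  · exact le_normalizer_iff_commutator_le_left.mp (hQW.trans hKn)
  · set N := (⁅res p W, Q⁆ : Subgroup G)
    have hn := le_normalizer_commutator (res p W) Q (hQW.trans hKn)
    have hle : W ≤ N ⊔ Q := by
      refine hgen _ le_sup_right (h1.ge.trans (sup_le ?_ (le_sup_right.trans le_normalizer)))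
      refine LocalBasics.le_normalizer_of_conj fun k hk x hx => ?_
      have h2 : N ⊔ Q ≤ (N ⊔ Q).comap (MulAut.conj k).toMonoidHom :=
        sup_le (fun a ha => mem_sup_left (LocalBasics.conj_mem_of_le_normalizer
          (le_sup_left.trans hn) hk ha)) fun q hq => by
          show k * q * k⁻¹ ∈ N ⊔ Q
          rw [show k * q * k⁻¹ = ⁅k, q⁆ * q by rw [commutatorElement_def]; group]
          exact mul_mem (mem_sup_left (commutator_mem_commutator hk hq)) (mem_sup_right hq)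
      exact h2 hx
    exact res_le fun x hx hc => mem_of_sup_pGroup hQp (le_sup_right.trans hn) (hle hx) hc

/-- The facts about one factor. -/
theorem factor_facts {Q A B Hc O : Subgroup G} (hQp : IsPGroup p ↥Q)
    (hwc : Cfsg.IsWeaklyClosedSubgroup p Q) (hA : A ≤ Hc) (hAn : Hc ≤ normalizer (A : Set G))
    (hBn : Hc ≤ normalizer (B : Set G)) (hprod : A ⊔ B = Hc) (hQ : Q ≤ Hc)
    (hD : ⁅A, B⁆ ≤ normalizer (Q : Set G)) (hOp : IsPGroup p ↥O) (hO : ⁅⁅A, A⁆, B⁆ ≤ O) :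
    let K := res p (Cfsg.weakClosure Q (A ⊔ Q))
    ⁅K, Q⁆ = K ∧ ⁅K, A⁆ = K ∧ K ≤ ⁅A, A⁆ ∧ Hc ≤ normalizer (K : Set G) ∧
      A ≤ normalizer (((K ⊔ Q : Subgroup G)) : Set G) := by
  intro K
  set W := Cfsg.weakClosure Q (A ⊔ Q)
  have hcf := closure_facts hQp hwc (le_sup_right : Q ≤ A ⊔ Q)
  have hWQ : K ⊔ Q = W := hcf.1
  have hKQ : (⁅K, Q⁆ : Subgroup G) = K := hcf.2
  have hQA : Q ≤ normalizer (A : Set G) := hQ.trans hAn
  have hB : B ≤ Hc := le_sup_right.trans hprod.le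
  have hKA : K ≤ A := res_le fun x hx hc => mem_of_sup_pGroup hQp hQA (weakClosure_le _ _ hx) hc
  have hWn : A ⊔ Q ≤ normalizer (W : Set G) := le_normalizer_weakClosure Q _
  have hKn : A ⊔ Q ≤ normalizer (K : Set G) := le_normalizer_res hWn
  have hDA : (⁅A, B⁆ : Subgroup G) ≤ A := le_normalizer_iff_commutator_le_left.mp (hB.trans hAn)
  set N := (⁅K, A⁆ : Subgroup G) with hN
  have hNK : N ≤ K := le_normalizer_iff_commutator_le_left.mp (le_sup_left.trans hKn)
  have hAN : A ≤ normalizer (N : Set G) := by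
    rw [hN, commutator_comm]
    exact le_sup_left.trans (le_normalizer_commutator A K (hKA.trans le_normalizer))
  have hQN : Q ≤ normalizer (N : Set G) := by
    refine LocalBasics.le_normalizer_of_conj fun q hq c hc => ?_
    have h1 : N ≤ N.comap (MulAut.conj q).toMonoidHom := commutator_le.mpr fun a ha b hb => by
      rw [Subgroup.mem_comap, map_commutatorElement]
      exact commutator_mem_commutator
        (LocalBasics.conj_mem_of_le_normalizer (le_sup_right.trans hKn) hq ha)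
        (LocalBasics.conj_mem_of_le_normalizer hQA hq hb)
    exact h1 hc
  -- `[K,Q] ≤ N [K,B]`
  have hM : (⁅K, B⁆ : Subgroup G) ≤ ⁅A, B⁆ := commutator_mono hKA le_rfl
  have hstep : K ≤ N ⊔ ⁅K, B⁆ := by
    conv_lhs => rw [← hKQ]
    refine commutator_le.mpr fun k hk q hq => ?_
    obtain ⟨a, ha, b, hb, rfl⟩ := LocalPReduced57.exists_mul_of_mem_sup (hA.trans hBn)
      (hprod.ge (hQ hq))
    rw [show ⁅k, a * b⁆ = ⁅k, a⁆ * (a * ⁅k, b⁆ * a⁻¹) by simp only [commutatorElement_def]; group]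
    refine mul_mem (mem_sup_left (commutator_mem_commutator hk ha)) ?_
    have e : a * ⁅k, b⁆ * a⁻¹ = ⁅a * k * a⁻¹, a * b * a⁻¹⁆ := map_commutatorElement (MulAut.conj a).toMonoidHom k b
    rw [e]
    exact mem_sup_right (commutator_mem_commutator
      (LocalBasics.conj_mem_of_le_normalizer (le_sup_left.trans hKn) ha hk)
      (LocalBasics.conj_mem_of_le_normalizer (hA.trans hBn) ha hb))
  set T := N ⊔ (Q ⊓ A)
  have hAT : N ⊔ ⁅K, B⁆ ≤ normalizer (T : Set G) := by
    refine sup_le (le_sup_left.trans le_normalizer) ?_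
    exact LocalBasics.le_normalizer_sup ((hM.trans hDA).trans hAN)
      (LocalBasics.le_normalizer_inf (hM.trans hD) ((hM.trans hDA).trans le_normalizer))
  have hKN : K ≤ N := by
    let E : Subgroup G :=
      { carrier := {x | x ∈ N ⊔ ⁅K, B⁆ ∧ ∀ q ∈ Q, ⁅x, q⁆ ∈ T}
        one_mem' := ⟨one_mem _, fun q _ => by simp⟩
        mul_mem' := by
          rintro x y ⟨hx, hx'⟩ ⟨hy, hy'⟩
          refine ⟨mul_mem hx hy, fun q hq => ?_⟩
          rw [show ⁅x * y, q⁆ = (x * ⁅y, q⁆ * x⁻¹) * ⁅x, q⁆ by simp only [commutatorElement_def]; group]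
          exact mul_mem (LocalBasics.conj_mem_of_le_normalizer hAT hx (hy' q hq)) (hx' q hq)
        inv_mem' := by
          rintro x ⟨hx, hx'⟩
          refine ⟨inv_mem hx, fun q hq => ?_⟩
          rw [show ⁅x⁻¹, q⁆ = x⁻¹ * ⁅x, q⁆⁻¹ * x⁻¹⁻¹ by simp only [commutatorElement_def]; group]
          exact LocalBasics.conj_mem_of_le_normalizer hAT (inv_mem hx) (inv_mem (hx' q hq)) }
    have hE : N ⊔ ⁅K, B⁆ ≤ E := sup_le
      (fun n hn => ⟨mem_sup_left hn, fun q hq => mem_sup_left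
        (le_normalizer_iff_commutator_le_left.mp hQN (commutator_mem_commutator hn hq))⟩)
      (fun m hm => ⟨mem_sup_right hm, fun q hq => mem_sup_right
        (Subgroup.mem_inf.mpr ⟨le_normalizer_iff_commutator_le_right.mp (hM.trans hD) (commutator_mem_commutator hm hq),
          le_normalizer_iff_commutator_le_left.mp hQA (commutator_mem_commutator (hDA (hM hm)) hq)⟩)⟩)
    have h1 : K ≤ T := by
      conv_lhs => rw [← hKQ]
      exact commutator_le.mpr fun k hk q hq => (hE (hstep hk)).2 q hq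
    refine res_le fun x hx hc => ?_
    exact mem_of_sup_pGroup (hQp.to_le inf_le_left) (inf_le_left.trans hQN) (h1 (mem_res hx hc)) hc
  have hKAA : K ≤ ⁅A, A⁆ := hKN.trans (commutator_mono hKA le_rfl)
  refine ⟨hKQ, le_antisymm hNK hKN, hKAA, ?_, ?_⟩
  · rw [← hprod]
    refine sup_le (le_sup_left.trans hKn) (LocalBasics.le_normalizer_of_conj fun b hb k hk => ?_)
    have h1 : K ≤ K.comap (MulAut.conj b).toMonoidHom := by
      refine res_le fun x hx hc => ?_
      show b * x * b⁻¹ ∈ K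
      have hxK : x ∈ K := mem_res hx hc
      have hO' : ⁅x, b⁆ ∈ O ⊓ ⁅A, B⁆ :=
        ⟨hO (commutator_mem_commutator (hKAA hxK) hb), commutator_mem_commutator (hKA hxK) hb⟩
      have hn : (O ⊓ ⁅A, B⁆ : Subgroup G) ≤ normalizer (K : Set G) :=
        inf_le_right.trans (hDA.trans (le_sup_left.trans hKn))
      refine mem_of_sup_pGroup (hOp.to_le inf_le_left) hn ?_ ?_
      · rw [show b * x * b⁻¹ = ⁅x, b⁆⁻¹ * x by rw [commutatorElement_def]; group]
        exact mul_mem (mem_sup_right (inv_mem hO')) (mem_sup_left hxK)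
      · rwa [show orderOf (b * x * b⁻¹) = orderOf x from
          orderOf_injective (MulAut.conj b).toMonoidHom (MulAut.conj b).injective x]
    exact h1 hk
  · rw [hWQ]; exact le_sup_left.trans hWn

/-- Let Q be a nontrivial p-subgroup of the finite group H that is a weakly closed subgroup, H° the weak closure of Q in H (generated by the conjugates of Q) and H_∘ = O^p(H°). Suppose H₁, H₂ are normal subgroups of H° with H° = H₁H₂ and [H₁, H₂] ≤ N_H(Q), and put Kᵢ = O^p of the weak closure of Q in HᵢQ. Then for i = 1, 2: Kᵢ = [Kᵢ, Q] = [Kᵢ, Hᵢ] ≤ Hᵢ′ and Kᵢ is normal in H°; H_∘ = K₁K₂; and [K₁, K₂] ≤ O_p(H°). -/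
theorem result {G : Type*} [Group G] [Finite G] {p : ℕ} [Fact p.Prime] (Q : Subgroup G) (hQp : IsPGroup p ↥Q) (hQ1 : Q ≠ ⊥) (hwc : Cfsg.IsWeaklyClosedSubgroup p Q) (Hc : Subgroup G) (hHc : Hc = Cfsg.weakClosure Q ⊤) (H₁ H₂ : Subgroup G) (hn₁ : H₁ ≤ Hc ∧ Hc ≤ Subgroup.normalizer ((H₁ : Subgroup G) : Set G)) (hn₂ : H₂ ≤ Hc ∧ Hc ≤ Subgroup.normalizer ((H₂ : Subgroup G) : Set G)) (hprod : H₁ ⊔ H₂ = Hc) (hcomm : ⁅H₁, H₂⁆ ≤ Subgroup.normalizer ((Q : Subgroup G) : Set G)) (K₁ K₂ : Subgroup G) (hK₁ : K₁ = ((Cfsg.pResidual p ↥(Cfsg.weakClosure Q (H₁ ⊔ Q))).map ((Cfsg.weakClosure Q (H₁ ⊔ Q))).subtype)) (hK₂ : K₂ = ((Cfsg.pResidual p ↥(Cfsg.weakClosure Q (H₂ ⊔ Q))).map ((Cfsg.weakClosure Q (H₂ ⊔ Q))).subtype)) : (⁅K₁, Q⁆ = K₁ ∧ ⁅K₁, H₁⁆ = K₁ ∧ K₁ ≤ ⁅H₁, H₁⁆ ∧ Hc ≤ Subgroup.normalizer ((K₁ : Subgroup G) : Set G)) ∧ (⁅K₂, Q⁆ = K₂ ∧ ⁅K₂, H₂⁆ = K₂ ∧ K₂ ≤ ⁅H₂, H₂⁆ ∧ Hc ≤ Subgroup.normalizer ((K₂ : Subgroup G) : Set G)) ∧ K₁ ⊔ K₂ = ((Cfsg.pResidual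 p ↥Hc).map (Hc).subtype) ∧ ⁅K₁, K₂⁆ ≤ (Cfsg.pCoreOf p Hc) := by
  obtain ⟨h1le, h1n⟩ := hn₁
  obtain ⟨h2le, h2n⟩ := hn₂
  have hQH : Q ≤ Hc := by rw [hHc]; exact LocalLarge57.le_weakClosure le_top
  haveI hHn : Hc.Normal := by
    rw [hHc, ← Subgroup.normalizer_eq_top_iff, ← top_le_iff]
    exact LocalLarge57.le_normalizer_weakClosure Q ⊤
  set O := Cfsg.pCoreOf p Hc with hO
  haveI hOn : O.Normal := by
    rw [← Subgroup.normalizer_eq_top_iff, ← top_le_iff]
    exact LocalLarge57.le_normalizer_pCoreOf_of_le_normalizer (LocalBasics.le_normalizer_of_normal ⊤)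
  set D := (⁅H₁, H₂⁆ : Subgroup G) with hD
  have hDH : D ≤ Hc := (Subgroup.le_normalizer_iff_commutator_le_left.mp (h2le.trans h1n)).trans h1le
  have hDn : Hc ≤ Subgroup.normalizer (D : Set G) := by
    refine LocalBasics.le_normalizer_of_conj fun x hx c hc => ?_
    have h1 : D ≤ D.comap (MulAut.conj x).toMonoidHom := Subgroup.commutator_le.mpr fun a ha b hb => by
      rw [Subgroup.mem_comap, map_commutatorElement]
      exact Subgroup.commutator_mem_commutator (LocalBasics.conj_mem_of_le_normalizer h1n hx ha)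
        (LocalBasics.conj_mem_of_le_normalizer h2n hx hb)
    exact h1 hc
  let f := QuotientGroup.mk' O
  have hcen : Hc.map f ≤ Subgroup.centralizer ((D.map f : Subgroup _) : Set (G ⧸ O)) := by
    rw [Subgroup.map_le_iff_le_comap, hHc]
    refine iSup_le fun g => ?_
    show LocalLarge57.conjBy (g : G) Q ≤ _
    obtain ⟨k, hk, he⟩ := LocalLarge57.exists_conj_of_wc hwc hQp hQH (g := (g : G))
      (by rw [hHc]; exact LocalLarge57.conjBy_le_weakClosure g.2)
    rw [he]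
    intro y hy
    rintro _ ⟨d, hd, rfl⟩
    have hDk : D ≤ Subgroup.normalizer ((LocalLarge57.conjBy k Q : Subgroup G) : Set G) := by
      rw [LocalLarge57.normalizer_conjBy, ← LocalLarge57.mem_normalizer_iff_conjBy.mp (hDn hk)]
      exact LocalLarge57.conjBy_mono k hcomm
    have h1 : ⁅d, y⁆ ∈ D ⊓ LocalLarge57.conjBy k Q := LocalLarge57.commutator_le_inf hDk
      (((LocalLarge57.conjBy_mono k hQH).trans
        (LocalLarge57.mem_normalizer_iff_conjBy.mp (Subgroup.le_normalizer hk)).le).trans hDn)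
      (Subgroup.commutator_mem_commutator hd hy)
    have h2 : ⁅d, y⁆ ∈ O := LocalLarge57.pCoreOf_le_pCoreOf hDH hDn
      (LocalBasics.le_pCoreOf inf_le_left (LocalBasics.le_normalizer_inf Subgroup.le_normalizer hDk)
        ((hQp.map _).to_le inf_le_right) h1)
    show f d * f y = f y * f d
    rw [← commutatorElement_eq_one_iff_mul_comm, ← map_commutatorElement]
    exact (QuotientGroup.eq_one_iff _).mpr h2
  have three : ∀ A B : Subgroup G, A ≤ Hc → (⁅A, B⁆ : Subgroup G) ≤ D → ⁅⁅A, A⁆, B⁆ ≤ O := by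
    intro A B hA hAB
    have h0 : ∀ X : Subgroup G, X ≤ D → ⁅⁅X, A⁆.map f, (⊥ : Subgroup (G ⧸ O))⁆ = ⊥ := fun X _ => by simp
    have h1 : ⁅⁅A.map f, B.map f⁆, A.map f⁆ = ⊥ := by
      rw [Subgroup.commutator_eq_bot_iff_le_centralizer, ← Subgroup.map_commutator]
      exact (Subgroup.map_mono hAB).trans (LocalPReduced57.le_centralizer_symm
        ((Subgroup.map_mono hA).trans hcen))
    have h2 : ⁅⁅B.map f, A.map f⁆, A.map f⁆ = ⊥ := by rwa [Subgroup.commutator_comm (B.map f)]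
    have h3 := Subgroup.commutator_commutator_eq_bot_of_rotate h1 h2
    rw [← Subgroup.map_commutator, ← Subgroup.map_commutator, Subgroup.map_eq_bot_iff,
      QuotientGroup.ker_mk'] at h3
    exact h3
  have hOp : IsPGroup p ↥O := LocalBasics.isPGroup_pCoreOf p Hc
  have hc2 : (⁅H₂, H₁⁆ : Subgroup G) ≤ D := (Subgroup.commutator_comm H₂ H₁).le
  obtain ⟨a1, a2, a3, a4, a5⟩ := factor_facts hQp hwc h1le h1n h2n hprod hQH hcomm hOp
    (three H₁ H₂ h1le le_rfl)
  obtain ⟨b1, b2, b3, b4, b5⟩ := factor_facts hQp hwc h2le h2n h1n (by rw [sup_comm]; exact hprod)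
    hQH (hc2.trans hcomm) hOp (three H₂ H₁ h2le hc2)
  subst hK₁ hK₂
  set K₁ := res p (Cfsg.weakClosure Q (H₁ ⊔ Q))
  set K₂ := res p (Cfsg.weakClosure Q (H₂ ⊔ Q))
  refine ⟨⟨a1, a2, a3, a4⟩, ⟨b1, b2, b3, b4⟩, ?_, ?_⟩
  · have hmono : ∀ A : Subgroup G, A ≤ Hc → res p (Cfsg.weakClosure Q (A ⊔ Q)) ≤ res p Hc :=
      fun A hA => TransferPResidual.map_pResidual_mono
        ((LocalLarge57.weakClosure_le _ _).trans (sup_le hA hQH))
    refine le_antisymm (sup_le (hmono _ h1le) (hmono _ h2le)) ?_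
    set N := K₁ ⊔ K₂
    have hNn : Hc ≤ Subgroup.normalizer (N : Set G) := LocalBasics.le_normalizer_sup a4 b4
    have hNQ : Hc ≤ Subgroup.normalizer ((N ⊔ Q : Subgroup G) : Set G) := by
      have key : ∀ A : Subgroup G, A ≤ Hc → ∀ K : Subgroup G, K ≤ N →
          A ≤ Subgroup.normalizer ((K ⊔ Q : Subgroup G) : Set G) →
          A ≤ Subgroup.normalizer ((N ⊔ Q : Subgroup G) : Set G) := by
        intro A hA K hKN hAK
        have e : N ⊔ Q = N ⊔ (K ⊔ Q) := by rw [← sup_assoc, sup_eq_left.mpr hKN]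
        rw [e]
        exact LocalBasics.le_normalizer_sup (hA.trans hNn) hAK
      rw [← hprod]
      exact sup_le (key H₁ h1le K₁ le_sup_left a5) (key H₂ h2le K₂ le_sup_right b5)
    have hall : Hc ≤ N ⊔ Q := by
      conv_lhs => rw [hHc]
      refine iSup_le fun g => ?_
      show LocalLarge57.conjBy (g : G) Q ≤ _
      obtain ⟨k, hk, he⟩ := LocalLarge57.exists_conj_of_wc hwc hQp hQH (g := (g : G))
        (by rw [hHc]; exact LocalLarge57.conjBy_le_weakClosure g.2)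
      rw [he]
      exact (LocalLarge57.conjBy_mono k le_sup_right).trans
        (LocalLarge57.mem_normalizer_iff_conjBy.mp (hNQ hk)).le
    exact res_le fun x hx hc => mem_of_sup_pGroup hQp (hQH.trans hNn) (hall hx) hc
  · refine (Subgroup.commutator_mono a3 ?_).trans (three H₁ H₂ h1le le_rfl)
    exact res_le fun x hx hc => mem_of_sup_pGroup hQp (hQH.trans h2n)
      (LocalLarge57.weakClosure_le _ _ hx) hc

end Cfsg.Agent.S2859
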