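import Cfsg.Statements.S2855
import Mathlib
import Cfsg.Agent.Lib.LocalBasics
import Cfsg.Agent.S2828
import Cfsg.Agent.S2859

set_option autoImplicit false
open Cfsg
open Cfsg.Agent
open scoped commutatorElement Pointwise

namespace Cfsg.Agent.S2855


open Subgroup

variable {H : Type*} [Group H]

/-- The conjugate `hXh⁻¹`. -/
abbrev cj (h : H) (X : Subgroup H) : Subgroup H := X.map (MulAut.conj h).toMonoidHom

theorem mem_cj {h : H} {X : Subgroup H} {x : H} : x ∈ cj h X ↔ h⁻¹ * x * h ∈ X := by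
  constructor
  · rintro ⟨y, hy, rfl⟩
    simpa [mul_assoc] using hy
  · exact fun hx => ⟨_, hx, by simp [mul_assoc]⟩

theorem cj_cj (a b : H) (X : Subgroup H) : cj a (cj b X) = cj (a * b) X := by
  ext x; simp [mem_cj, mul_assoc]

theorem cj_one (X : Subgroup H) : cj 1 X = X := by
  ext x; simp [mem_cj]

theorem cj_inv_cj (a : H) (X : Subgroup H) : cj a⁻¹ (cj a X) = X := by
  rw [cj_cj, inv_mul_cancel, cj_one]

theorem cj_cj_inv (a : H) (X : Subgroup H) : cj a (cj a⁻¹ X) = X := by
  rw [cj_cj, mul_inv_cancel, cj_one]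

theorem cj_normal (h : H) (X : Subgroup H) [hX : X.Normal] : cj h X = X :=
  Subgroup.ext fun x => by
    rw [mem_cj]
    exact ⟨fun hx => by simpa [mul_assoc] using hX.conj_mem _ hx h,
      fun hx => by simpa [mul_assoc] using hX.conj_mem _ hx h⁻¹⟩

theorem cj_of_mem_normalizer {h : H} {X : Subgroup H} (hh : h ∈ normalizer (X : Set H)) :
    cj h X = X := Subgroup.ext fun x => by
  rw [mem_cj]
  have := (mem_normalizer_iff.mp hh (h⁻¹ * x * h))
  simpa [mul_assoc] using this

theorem cj_mono {h : H} {X Y : Subgroup H} (hXY : X ≤ Y) : cj h X ≤ cj h Y := map_mono hXY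

theorem cj_le_of_mem {h : H} {X Y : Subgroup H} (hh : h ∈ Y) (hXY : X ≤ Y) : cj h X ≤ Y :=
  fun _ hx => by
    have := mul_mem (mul_mem hh (hXY (mem_cj.mp hx))) (inv_mem hh)
    simpa [mul_assoc] using this

/-- The join of the proper overgroups of `T ∩ W` in `W`. -/
abbrev topOver (T W : Subgroup H) : Subgroup H := sSup {X | T ⊓ W ≤ X ∧ X < W}

section setup

variable [Finite H] {p : ℕ} [Fact p.Prime] {𝒦 : Set (Subgroup H)}

/-- A `p`-subgroup of `EP` containing a Sylow intersection is inside it. -/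
theorem sylow_max (hres : Cfsg.pResidual p H ≤ sSup 𝒦) [(sSup 𝒦).Normal] (T : Sylow p H)
    {W : Subgroup H} (hW : sSup 𝒦 ≤ normalizer (W : Set H))
    {Q : Subgroup H} (hQW : Q ≤ W) (hQ : IsPGroup p ↥Q) (hle : (T : Subgroup H) ⊓ W ≤ Q) :
    Q ≤ (T : Subgroup H) ⊓ W := by
  obtain ⟨S, hS⟩ := hQ.exists_le_sylow
  obtain ⟨h, rfl⟩ := MulAction.exists_smul_eq H T S
  have htop : h ∈ sSup 𝒦 ⊔ (T : Subgroup H) := by
    have h1 : h ∈ (T : Subgroup H) ⊔ Cfsg.pResidual p H := by
      rw [TransferPResidual.sylow_sup_pResidual]; trivial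
    exact sup_le le_sup_right (hres.trans le_sup_left) h1
  obtain ⟨r, hr, t, ht, rfl⟩ := Subgroup.mem_sup_of_normal_left.mp htop
  have h2 : Q ≤ cj r ((T : Subgroup H) ⊓ W) := by
    intro x hx
    rw [mem_cj]
    refine ⟨?_, ?_⟩
    · have h3 := hS hx
      rw [Sylow.coe_subgroup_smul] at h3
      obtain ⟨y, hy, rfl⟩ := h3
      have h4 : t * y * t⁻¹ ∈ (T : Subgroup H) := mul_mem (mul_mem ht hy) (inv_mem ht)
      simp [mul_assoc] at h4 ⊢
      exact h4
    · exact mem_cj.mp ((cj_of_mem_normalizer (hW hr)).ge (hQW hx))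
  refine (Subgroup.eq_of_le_of_card_ge hle ?_).ge
  exact (Subgroup.card_le_of_le h2).trans_eq
    (Subgroup.card_map_of_injective (MulAut.conj r).injective)

end setup

/-- The key commutator argument in a group without normal `p`-subgroups. -/
theorem centralize {A : Type*} [Group A] [Finite A] {p : ℕ} [Fact p.Prime]
    (hA : Cfsg.pCore p A = ⊥) {X W : Subgroup A} (hWX : W ≤ normalizer (X : Set A))
    (hXW : X ≤ normalizer (W : Set A)) (hsub : (X ⊓ W).IsSubnormal)
    (hc : X ⊓ W ≤ centralizer (W : Set A))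
    (hgen : W ≤ Subgroup.closure {a : A | a ∈ W ∧ ∃ k : ℕ, a ^ p ^ k = 1}) :
    X ≤ centralizer (W : Set A) := by
  have hpf : ∀ c ∈ X ⊓ W, ∀ k : ℕ, c ^ p ^ k = 1 → c = 1 := by
    intro c hcX k hk
    have hle : Subgroup.zpowers c ≤ X ⊓ W := zpowers_le.mpr hcX
    have hn : ((Subgroup.zpowers c).subgroupOf (X ⊓ W)).Normal := by
      refine ⟨fun a ha b => ?_⟩
      have h1 : (b : A) * (a : A) = (a : A) * b :=
        mem_centralizer_iff.mp (hc a.2) (b : A) b.2.2
      rw [mem_subgroupOf] at ha ⊢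
      simp only [coe_mul, coe_inv]
      rw [h1, mul_assoc, mul_inv_cancel, mul_one]
      exact ha
    have h2 : IsPGroup p ↥(Subgroup.zpowers c) := by
      rintro ⟨y, hy⟩
      obtain ⟨i, rfl⟩ := mem_zpowers_iff.mp hy
      refine ⟨k, Subtype.ext ?_⟩
      show (c ^ i) ^ p ^ k = 1
      rw [← zpow_natCast, ← zpow_mul, mul_comm, zpow_mul, zpow_natCast, hk, one_zpow]
    have h3 := LocalBasics.le_pCore_of_subnormal
      (Subgroup.IsSubnormal.trans hle hn.isSubnormal hsub) h2
    rw [hA] at h3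
    exact mem_bot.mp (h3 (mem_zpowers c))
  intro n hn
  rw [mem_centralizer_iff]
  intro w hw
  have hcl : W ≤ centralizer ({n} : Set A) := by
    refine hgen.trans ((closure_le _).mpr ?_)
    rintro a ⟨ha, k, hk⟩
    rw [SetLike.mem_coe, mem_centralizer_iff]
    rintro m rfl
    set c := m * a * m⁻¹ * a⁻¹ with hcdef
    have hcXW : c ∈ X ⊓ W := by
      refine mem_inf.mpr ⟨?_, mul_mem (LocalBasics.conj_mem_of_le_normalizer hXW hn ha) (inv_mem ha)⟩
      have h1 : a * m⁻¹ * a⁻¹ ∈ X :=
        LocalBasics.conj_mem_of_le_normalizer hWX ha (inv_mem hn)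
      have h2 : c = m * (a * m⁻¹ * a⁻¹) := by rw [hcdef]; group
      exact h2 ▸ mul_mem hn h1
    have hcomm : Commute c a := (mem_centralizer_iff.mp (hc hcXW) a ha).symm
    have h3 : (c * a) ^ p ^ k = 1 := by
      rw [show c * a = MulAut.conj m a by rw [hcdef, MulAut.conj_apply]; group,
        ← map_pow, hk, map_one]
    rw [hcomm.mul_pow, hk, mul_one] at h3
    have h4 : c = 1 := hpf c hcXW k h3
    rw [hcdef] at h4
    calc m * a = m * a * m⁻¹ * a⁻¹ * (a * m) := by group
      _ = a * m := by rw [h4, one_mul]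
  exact (mem_centralizer_iff.mp (hcl hw) n rfl).symm

/-- A non-`p`-closed strongly `p`-irreducible group is generated by its `p`-elements. -/
theorem closure_pElements {E : Type*} [Group E] [Finite E] {p : ℕ} [Fact p.Prime]
    (hE : Cfsg.IsStronglyPIrreducible p E) :
    Subgroup.closure {a : E | ∃ k : ℕ, a ^ p ^ k = 1} = ⊤ := by
  set N := Subgroup.closure {a : E | ∃ k : ℕ, a ^ p ^ k = 1} with hNdef
  have hN : N.Normal := by
    refine ⟨fun a ha g => ?_⟩
    have h1 : N ≤ N.comap (MulAut.conj g).toMonoidHom := by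
      refine (closure_le _).mpr ?_
      rintro b ⟨k, hk⟩
      refine subset_closure ⟨k, ?_⟩
      show (MulAut.conj g b) ^ p ^ k = 1
      rw [← map_pow, hk, map_one]
    exact h1 ha
  obtain ⟨S⟩ : Nonempty (Sylow p E) := inferInstance
  have hSN : (S : Subgroup E) ≤ N := fun a ha => by
    obtain ⟨k, hk⟩ := S.isPGroup' ⟨a, ha⟩
    exact subset_closure ⟨k, congrArg Subtype.val hk⟩
  by_cases hc : ⁅N, (⊤ : Subgroup E)⁆ ≤ Cfsg.pCore p E
  · refine absurd (LocalBasics.isPClosed_iff.mpr ⟨S, ?_⟩) hE.1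
    refine ⟨fun a ha g => ?_⟩
    have h1 : ⁅a, g⁆ ∈ (S : Subgroup E) :=
      HallCore.pCore_le_sylow S (hc (commutator_mem_commutator (hSN ha) (mem_top g)))
    have h2 := mul_mem (inv_mem h1) ha
    have h3 : ⁅a, g⁆⁻¹ * a = g * a * g⁻¹ := by rw [commutatorElement_def]; group
    rwa [h3] at h2
  · exact top_le_iff.mp ((TransferPResidual.sylow_sup_pResidual S).ge.trans
      (sup_le hSN (hE.2 N hN hc)))

/-- Let H be a finite group, p a prime, and 𝒦 a nonempty set of subgroups of H permuted transitively by conjugation, with R the subgroup generated by the members of 𝒦. Suppose O^p(H) ≤ R, each E ∈ 𝒦 has E·O_p(H) normal in R·O_p(H), and each E ∈ 𝒦 is p-minimal (generated by the conjugates of a Sylow p-subgroup T_E of E, with T_E in exactly one maximal subgroup of E). Then H is p-minimal in the same sense. If instead each E ∈ 𝒦 is strongly p-irreducible, then H is p-irreducible and, for E, K ∈ 𝒦, either O^p(E·O_p(H)) = O^p(K·O_p(H)) or [E, K] ≤ O_p(H). -/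
theorem result {H : Type*} [Group H] [Finite H] {p : ℕ} [Fact p.Prime] (𝒦 : Set (Subgroup H)) (hne : 𝒦.Nonempty) (hinv : ∀ h : H, ∀ E ∈ 𝒦, E.map (MulAut.conj h).toMonoidHom ∈ 𝒦) (htr : ∀ E ∈ 𝒦, ∀ K ∈ 𝒦, ∃ h : H, K = E.map (MulAut.conj h).toMonoidHom) (hres : Cfsg.pResidual p H ≤ sSup 𝒦) (hnorm : ∀ E ∈ 𝒦, sSup 𝒦 ⊔ Cfsg.pCore p H ≤ Subgroup.normalizer ((E ⊔ Cfsg.pCore p H : Subgroup H) : Set H)) : ((∀ E ∈ 𝒦, ∀ T : Sylow p ↥E, Cfsg.IsMinimalOver (T : Subgroup ↥E)) → ∀ T : Sylow p H, Cfsg.IsMinimalOver (T : Subgroup H)) ∧ ((∀ E ∈ 𝒦, Cfsg.IsStronglyPIrreducible p ↥E) → Cfsg.IsPIrreducible p H ∧ ∀ E ∈ 𝒦, ∀ K ∈ 𝒦, (Cfsg.pResidual p ↥(E ⊔ Cfsg.pCore p H)).map (E ⊔ Cfsg.pCore p H).subtype = (Cfsg.pResidual p ↥(K ⊔ Cfsg.pCore p H)).map (K ⊔ Cfsg.pCore p H).subtype ∨ ⁅E, K⁆ ≤ Cfsg.pCore p H) := by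
  set P := Cfsg.pCore p H with hPdef
  set R := sSup 𝒦 with hRdef
  have hPn : P.Normal := HallCore.pCore_normal p H
  have hRn : R.Normal := by
    refine ⟨fun a ha g => ?_⟩
    have h1 : R ≤ R.comap (MulAut.conj g).toMonoidHom :=
      sSup_le fun E hE => map_le_iff_le_comap.mp (le_sSup (hinv g E hE))
    exact h1 ha
  have hER : ∀ E ∈ 𝒦, E ≤ R := fun E hE => le_sSup hE
  have hWn : ∀ E ∈ 𝒦, R ≤ normalizer ((E ⊔ P : Subgroup H) : Set H) :=
    fun E hE => le_sup_left.trans (hnorm E hE)
  have hcjW : ∀ (h : H) (E : Subgroup H), cj h (E ⊔ P) = cj h E ⊔ P := fun h E => by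
    rw [cj, Subgroup.map_sup, ← cj, ← cj, cj_normal h P]
  have hTR : ∀ T : Sylow p H, R ⊔ (T : Subgroup H) = ⊤ := fun T =>
    top_le_iff.mp ((TransferPResidual.sylow_sup_pResidual T).ge.trans
      (sup_le le_sup_right (hres.trans le_sup_left)))
  refine ⟨fun hmin T => ?_, fun hstr => ?_⟩
  · have hPT : P ≤ (T : Subgroup H) := HallCore.pCore_le_sylow T
    have hloc : ∀ E ∈ 𝒦, ∃ S : Sylow p ↥E, (S : Subgroup ↥E) = (T : Subgroup H).subgroupOf E := by
      intro E hE
      obtain ⟨S, hS⟩ := (T.isPGroup'.comap_subtype (K := E)).exists_le_sylow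
      refine ⟨S, le_antisymm (fun x hx => ?_) hS⟩
      have hQ : IsPGroup p ↥((S : Subgroup ↥E).map E.subtype ⊔ P) :=
        (S.isPGroup'.map E.subtype).to_sup_of_normal_right (HallCore.isPGroup_pCore p H)
      refine (sylow_max hres T (hWn E hE) (sup_le_sup_right (map_subtype_le _) P) hQ ?_
        (mem_sup_left (mem_map_of_mem E.subtype hx))).1
      rintro y ⟨hyT, hyW⟩
      obtain ⟨e, he, d, hd, rfl⟩ := Subgroup.mem_sup_of_normal_right.mp hyW
      have heT : e ∈ (T : Subgroup H) := by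
        simpa [mul_assoc] using mul_mem (show e * d ∈ (T : Subgroup H) from hyT) (inv_mem (hPT hd))
      exact mul_mem_sup ⟨⟨e, he⟩, hS heT, rfl⟩ hd
    have hnotp : ∀ E ∈ 𝒦, ¬ E ≤ (T : Subgroup H) := by
      intro E hE hle
      obtain ⟨S, hS⟩ := hloc E hE
      obtain ⟨M, ⟨hM, hSM⟩, -⟩ := (hmin E hE S).2
      refine hM.1 (top_le_iff.mp (le_trans ?_ hSM))
      rw [hS]
      exact fun x _ => hle x.2
    have hgen : ∀ E ∈ 𝒦, ∀ X : Subgroup H, (T : Subgroup H) ≤ X → E ≤ X → X = ⊤ := by
      intro E hE X hTX hEX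
      have hRX : R ≤ X := by
        refine sSup_le fun K hK => ?_
        obtain ⟨h, rfl⟩ := htr E hE K hK
        have hh : h ∈ (T : Subgroup H) ⊔ R := by rw [sup_comm, hTR]; trivial
        obtain ⟨t, ht, r, hr, rfl⟩ := Subgroup.mem_sup_of_normal_right.mp hh
        refine le_trans le_sup_left ((hcjW (t * r) E).ge.trans ?_)
        rw [← cj_cj, cj_of_mem_normalizer (hWn E hE hr)]
        exact cj_le_of_mem (hTX ht) (sup_le hEX (hPT.trans hTX))
      exact top_le_iff.mp ((hTR T).ge.trans (sup_le hRX hTX))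
    have hX : ∀ E ∈ 𝒦, ∀ X : Subgroup H, (T : Subgroup H) ⊓ (E ⊔ P) ≤ X → X < E ⊔ P →
        X ≤ topOver (T : Subgroup H) (E ⊔ P) := fun E _ X h1 h2 => le_sSup ⟨h1, h2⟩
    have htop : ∀ E ∈ 𝒦, topOver (T : Subgroup H) (E ⊔ P) < E ⊔ P := by
      intro E hE
      obtain ⟨S, hS⟩ := hloc E hE
      obtain ⟨M, ⟨hM, hSM⟩, huniq⟩ := (hmin E hE S).2
      have hle : topOver (T : Subgroup H) (E ⊔ P) ≤ M.map E.subtype ⊔ P := by
        refine sSup_le fun X hX x hx => ?_
        obtain ⟨hTX, hXW⟩ := hX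
        have hPX : P ≤ X := (le_inf hPT le_sup_right).trans hTX
        obtain ⟨e, he, d, hd, rfl⟩ := Subgroup.mem_sup_of_normal_right.mp (hXW.le hx)
        have heX : e ∈ X := by simpa [mul_assoc] using mul_mem hx (inv_mem (hPX hd))
        have hne : X.subgroupOf E ≠ ⊤ := fun h =>
          hXW.not_ge (sup_le (fun y hy => (h.ge (mem_top ⟨y, hy⟩) :)) hPX)
        obtain ⟨M', hM', hXM'⟩ := (IsCoatomic.eq_top_or_exists_le_coatom _).resolve_left hne
        have : M' = M := huniq M' ⟨hM', le_trans (hS ▸ fun y hy => hTX ⟨hy, mem_sup_left y.2⟩) hXM'⟩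
        exact mul_mem_sup ⟨⟨e, he⟩, this ▸ hXM' heX, rfl⟩ hd
      refine lt_of_le_of_ne (sSup_le fun X hX => hX.2.le) fun h => hM.1 ?_
      refine top_le_iff.mp fun y _ => ?_
      obtain ⟨m, hm, d, hd, e⟩ := Subgroup.mem_sup_of_normal_right.mp
        (hle (h.ge (mem_sup_left y.2)))
      obtain ⟨m, hm, rfl⟩ := hm
      have hd' : m⁻¹ * y ∈ M := hSM (by
        rw [hS, mem_subgroupOf]
        show (m : H)⁻¹ * y ∈ _
        rw [← e]
        simpa [mul_assoc] using hPT hd)
      simpa using mul_mem hm hd'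
    have hTW : ∀ E ∈ 𝒦, (T : Subgroup H) ⊓ (E ⊔ P) ≤ topOver (T : Subgroup H) (E ⊔ P) := by
      intro E hE
      refine hX E hE _ le_rfl (lt_of_le_of_ne inf_le_right fun h => hnotp E hE ?_)
      exact le_sup_left.trans (h.ge.trans inf_le_left)
    let Ms : Subgroup H :=
      { carrier := {h | ∀ E ∈ 𝒦, cj h (topOver (T : Subgroup H) (E ⊔ P)) =
          topOver (T : Subgroup H) (cj h E ⊔ P)}
        one_mem' := fun E _ => by simp only [cj_one]
        mul_mem' := fun {a b} ha hb E hE => by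
          rw [← cj_cj, hb E hE, ha _ (hinv b E hE), cj_cj]
        inv_mem' := fun {a} ha E hE => by
          have h1 := ha _ (hinv a⁻¹ E hE)
          rw [cj_cj_inv] at h1
          rw [← h1, cj_inv_cj] }
    have hproper : Ms ≠ ⊤ := by
      intro h
      obtain ⟨E, hE⟩ := hne
      obtain ⟨S, hS⟩ := hloc E hE
      have hn : ((topOver (T : Subgroup H) (E ⊔ P)).subgroupOf E).Normal := by
        refine ⟨fun a ha g => ?_⟩
        have h1 := (h.ge (mem_top (g : H)) : (g : H) ∈ Ms) E hE
        rw [cj_of_mem_normalizer (le_normalizer g.2 : (g : H) ∈ normalizer (E : Set H))] at h1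
        rw [mem_subgroupOf] at ha ⊢
        exact h1.le ⟨_, ha, rfl⟩
      have h2 : (⊤ : Subgroup ↥E) ≤ (topOver (T : Subgroup H) (E ⊔ P)).subgroupOf E := by
        rw [← (hmin E hE S).1]
        refine Subgroup.normalClosure_le_normal fun a ha => ?_
        rw [hS] at ha
        exact hTW E hE ⟨ha, mem_sup_left a.2⟩
      exact (htop E hE).not_ge (sup_le (fun x hx => h2 (mem_top (⟨x, hx⟩ : ↥E)))
        ((le_inf hPT le_sup_right).trans (hTW E hE)))
    have hle : ∀ X : Subgroup H, (T : Subgroup H) ≤ X → X ≠ ⊤ → X ≤ Ms := by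
      intro X hTX hXtop x hx
      have hlt : ∀ E ∈ 𝒦, X ⊓ (E ⊔ P) ≤ topOver (T : Subgroup H) (E ⊔ P) := fun E hE =>
        hX E hE _ (inf_le_inf_right _ hTX) (lt_of_le_of_ne inf_le_right fun h =>
          hXtop (hgen E hE X hTX (le_sup_left.trans (h.ge.trans inf_le_left))))
      have key : ∀ z ∈ X, ∀ E ∈ 𝒦, cj z (topOver (T : Subgroup H) (E ⊔ P)) ≤
          topOver (T : Subgroup H) (cj z E ⊔ P) := by
        intro z hz E hE
        have hE' : cj z E ∈ 𝒦 := hinv z E hE
        let W := E ⊔ P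
        let W' := cj z E ⊔ P
        have hzW : cj z W = W' := hcjW z E
        let S₀ := cj z ((T : Subgroup H) ⊓ W)
        have hS₀ : S₀ ≤ X ⊓ W' :=
          le_inf (cj_le_of_mem hz (inf_le_left.trans hTX)) ((cj_mono inf_le_right).trans hzW.le)
        obtain ⟨S, hS⟩ := ((T.isPGroup'.to_le (inf_le_left : (T : Subgroup H) ⊓ W' ≤ T)).comap_subtype
          (K := X ⊓ W')).exists_le_sylow
        obtain ⟨S', hS'⟩ := (((T.isPGroup'.to_le inf_le_left).map (MulAut.conj z).toMonoidHom :
          IsPGroup p ↥S₀).comap_subtype (K := X ⊓ W')).exists_le_sylow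
        obtain ⟨y, hy⟩ := MulAction.exists_smul_eq ↥(X ⊓ W') S S'
        have hSeq : (S : Subgroup ↥(X ⊓ W')).map (X ⊓ W').subtype ≤ (T : Subgroup H) ⊓ W' :=
          sylow_max hres T (hWn _ hE') ((map_subtype_le _).trans inf_le_right)
            (S.isPGroup'.map _) (fun a ha => ⟨⟨a, hTX ha.1, ha.2⟩, hS ha, rfl⟩)
        have hyW : cj (y : H) W' = W' := cj_of_mem_normalizer (le_normalizer y.2.2)
        have h1 : S₀ ≤ cj (y : H) ((T : Subgroup H) ⊓ W') := by
          intro a ha
          have h2 : (⟨a, hS₀ ha⟩ : ↥(X ⊓ W')) ∈ (S' : Subgroup ↥(X ⊓ W')) := hS' ha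
          rw [← hy, Sylow.coe_subgroup_smul] at h2
          obtain ⟨b, hb, hb'⟩ := h2
          exact ⟨b, hSeq ⟨b, hb, rfl⟩, congrArg Subtype.val hb'⟩
        have h2 : cj z⁻¹ (cj (y : H) ((T : Subgroup H) ⊓ W')) ≤ (T : Subgroup H) ⊓ W := by
          refine sylow_max hres T (hWn E hE) ?_
            (((T.isPGroup'.to_le inf_le_left).map _).map _) ?_
          · have := cj_mono (h := z⁻¹) ((cj_mono (h := (y : H))
              (inf_le_right : (T : Subgroup H) ⊓ W' ≤ W')).trans (hyW.le.trans hzW.ge))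
            rwa [cj_inv_cj] at this
          · have := cj_mono (h := z⁻¹) h1
            rwa [cj_inv_cj] at this
        have h3 : cj (y : H) ((T : Subgroup H) ⊓ W') ≤ S₀ := by
          have := cj_mono (h := z) h2
          rwa [cj_cj_inv] at this
        let A := cj z (topOver (T : Subgroup H) W)
        have hAW : A < W' := by
          refine lt_of_le_of_ne ((cj_mono (htop E hE).le).trans hzW.le) fun h => (htop E hE).ne ?_
          have := congrArg (cj z⁻¹) (h.trans hzW.symm)
          rwa [cj_inv_cj, cj_inv_cj] at this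
        have hA : cj (y : H)⁻¹ A ≤ topOver (T : Subgroup H) W' := by
          refine hX _ hE' _ ?_ (lt_of_le_of_ne ?_ fun h => hAW.ne ?_)
          · have := cj_mono (h := (y : H)⁻¹) (h3.trans (cj_mono (hTW E hE)))
            rwa [cj_inv_cj] at this
          · exact (cj_mono hAW.le).trans
              (cj_of_mem_normalizer (le_normalizer (inv_mem y.2.2))).le
          · have := congrArg (cj (y : H)) h
            rwa [cj_cj_inv, hyW] at this
        have h4 := cj_mono (h := (y : H)) hA
        rw [cj_cj_inv] at h4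
        exact h4.trans (cj_le_of_mem (hlt _ hE' y.2) le_rfl)
      intro E hE
      refine le_antisymm (key x hx E hE) ?_
      have h1 := key x⁻¹ (inv_mem hx) _ (hinv x E hE)
      rw [cj_inv_cj] at h1
      have h2 := cj_mono (h := x) h1
      rwa [cj_cj_inv] at h2
    have hTtop : (T : Subgroup H) ≠ ⊤ := fun h => by
      obtain ⟨E, hE⟩ := hne
      exact hnotp E hE (h ▸ le_top)
    refine ⟨?_, Ms, ⟨⟨hproper, fun X hX => ?_⟩, hle _ le_rfl hTtop⟩, fun M hM => ?_⟩
    · have hN := Subgroup.normalClosure_normal (s := ((T : Subgroup H) : Set H))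
      refine top_le_iff.mp ((hTR T).ge.trans (sup_le (sSup_le fun E hE => ?_)
        Subgroup.le_normalClosure))
      obtain ⟨S, hS⟩ := hloc E hE
      have h1 : (⊤ : Subgroup ↥E) ≤
          (Subgroup.normalClosure ((T : Subgroup H) : Set H)).subgroupOf E := by
        rw [← (hmin E hE S).1]
        refine Subgroup.normalClosure_le_normal fun a ha => ?_
        rw [hS] at ha
        exact Subgroup.le_normalClosure ha
      exact fun x hx => h1 (mem_top (⟨x, hx⟩ : ↥E))
    · by_contra h
      exact hX.not_ge (hle X ((hle _ le_rfl hTtop).trans hX.le) h)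
    · exact ((hle M hM.2 hM.1.1).lt_or_eq.resolve_left fun h => hproper (hM.1.2 _ h))
  · set q := QuotientGroup.mk' P with hqdef
    have hq : Function.Surjective q := QuotientGroup.mk'_surjective P
    have hA : Cfsg.pCore p (H ⧸ P) = ⊥ := HallCore.pCore_quotient_self p H
    have hqP : ∀ x ∈ P, q x = 1 := fun x hx => (QuotientGroup.eq_one_iff x).mpr hx
    have hqmem : ∀ {X : Subgroup H}, P ≤ X → ∀ {x : H}, q x ∈ X.map q → x ∈ X := by
      intro X hPX x hx
      obtain ⟨y, hy, hyx⟩ := hx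
      have h1 : y⁻¹ * x ∈ P := (QuotientGroup.eq).mp hyx
      simpa using mul_mem hy (hPX h1)
    have hWmap : ∀ E : Subgroup H, (E ⊔ P).map q = E.map q := fun E => by
      rw [Subgroup.map_sup, QuotientGroup.map_mk'_self, sup_bot_eq]
    have hRq : ∀ E ∈ 𝒦, R.map q ≤ normalizer ((E.map q : Subgroup (H ⧸ P)) : Set (H ⧸ P)) := by
      intro E hE
      rw [← hWmap E]
      exact (map_mono (hWn E hE)).trans (le_normalizer_map q)
    have hRqn : (R.map q).Normal := hRn.map q hq
    have hEsub : ∀ E ∈ 𝒦, (E.map q).IsSubnormal := fun E hE =>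
      Subgroup.IsSubnormal.trans (map_mono (hER E hE))
        (LocalBasics.normal_subgroupOf_of_le (hRq E hE)).isSubnormal hRqn.isSubnormal
    have hgenE : ∀ E ∈ 𝒦, E.map q ≤
        Subgroup.closure {a : H ⧸ P | a ∈ E.map q ∧ ∃ k : ℕ, a ^ p ^ k = 1} := by
      intro E hE
      rintro _ ⟨x, hx, rfl⟩
      have h1 : (⊤ : Subgroup ↥E) ≤ (Subgroup.closure {a : H ⧸ P | a ∈ E.map q ∧
          ∃ k : ℕ, a ^ p ^ k = 1}).comap (q.comp E.subtype) := by
        rw [← closure_pElements (hstr E hE)]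
        refine (closure_le _).mpr ?_
        rintro a ⟨k, hk⟩
        refine subset_closure ⟨⟨a, a.2, rfl⟩, k, ?_⟩
        rw [← map_pow, hk, map_one]
      exact h1 (mem_top (⟨x, hx⟩ : ↥E))
    have hgenR : R.map q ≤
        Subgroup.closure {a : H ⧸ P | a ∈ R.map q ∧ ∃ k : ℕ, a ^ p ^ k = 1} :=
      map_le_iff_le_comap.mpr (sSup_le fun E hE => map_le_iff_le_comap.mp
        ((hgenE E hE).trans (closure_mono fun a ha => ⟨map_mono (hER E hE) ha.1, ha.2⟩)))
    have hcase : ∀ E ∈ 𝒦, ∀ N : Subgroup H, P ≤ N → E ≤ normalizer (N : Set H) →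
        (Cfsg.pResidual p ↥E).map E.subtype ≤ N ∨
          N.map q ⊓ E.map q ≤ centralizer ((E.map q : Subgroup (H ⧸ P)) : Set (H ⧸ P)) := by
      intro E hE N hPN hEN
      have hn : (N.subgroupOf E).Normal := ⟨fun a ha g => by
        rw [mem_subgroupOf] at ha ⊢
        exact LocalBasics.conj_mem_of_le_normalizer hEN g.2 ha⟩
      by_cases hc : ⁅N.subgroupOf E, (⊤ : Subgroup ↥E)⁆ ≤ Cfsg.pCore p ↥E
      · right
        have hcore : (Cfsg.pCore p ↥E).map (q.comp E.subtype) ≤ Cfsg.pCore p (H ⧸ P) := by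
          refine (LocalBasics.le_pCoreOf ?_ ?_ ((HallCore.isPGroup_pCore p ↥E).map _)).trans
            (LocalBasics.pCoreOf_le_of_subnormal p (hEsub E hE))
          · rintro _ ⟨x, -, rfl⟩
            exact ⟨x, x.2, rfl⟩
          · refine LocalBasics.le_normalizer_of_conj ?_
            rintro _ ⟨x, hx, rfl⟩ _ ⟨y, hy, rfl⟩
            refine ⟨⟨x, hx⟩ * y * ⟨x, hx⟩⁻¹,
              (HallCore.pCore_normal p ↥E).conj_mem y hy _, ?_⟩
            simp
        rw [hA] at hcore
        rintro _ ⟨⟨n, hnN, rfl⟩, hne'⟩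
        obtain ⟨e, he, hqe⟩ := hne'
        have heN : e ∈ N := hqmem hPN ⟨n, hnN, hqe.symm⟩
        rw [← hqe, mem_centralizer_iff]
        rintro _ ⟨w, hw, rfl⟩
        have h1 : q (⁅(⟨e, he⟩ : ↥E), ⟨w, hw⟩⁆ : ↥E) = 1 :=
          mem_bot.mp (hcore ⟨_, hc (commutator_mem_commutator heN (mem_top _)), rfl⟩)
        rw [commutatorElement_def] at h1
        simp only [coe_mul, coe_inv, map_mul, map_inv] at h1
        exact (commutatorElement_eq_one_iff_mul_comm.mp
          (by rw [commutatorElement_def]; exact h1)).symm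
      · exact Or.inl ((map_mono ((hstr E hE).2 _ hn hc)).trans (fun x ⟨y, hy, e⟩ => e ▸ hy))
    refine ⟨⟨?_, ?_⟩, ?_⟩
    · intro hc
      obtain ⟨E, hE⟩ := hne
      exact (hstr E hE).1 (S2828.closed_subgroup hc E)
    · intro N₀ hN₀ hnc
      let N := N₀ ⊔ P
      have hN : N.Normal := inferInstance
      suffices h : Cfsg.pResidual p H ≤ N by
        rw [TransferPResidual.pResidual_le_iff_coprime] at h ⊢
        exact fun g hg => S2859.mem_of_sup_pGroup (HallCore.isPGroup_pCore p H)
          (LocalBasics.le_normalizer_of_normal P) (h g hg) hg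
      by_cases hA' : ∃ E ∈ 𝒦, (Cfsg.pResidual p ↥E).map E.subtype ≤ N
      · obtain ⟨E, hE, hEN⟩ := hA'
        refine TransferPResidual.pResidual_le_of_isPGroup_quotient ?_
        set f := QuotientGroup.mk' N
        have hf : Function.Surjective f := QuotientGroup.mk'_surjective N
        have hEp : IsPGroup p ↥(E.map f) := by
          rintro ⟨_, x, hx, rfl⟩
          obtain ⟨k, hk⟩ := TransferPResidual.exists_pow_mem_pResidual (p := p) (⟨x, hx⟩ : ↥E)
          refine ⟨k, Subtype.ext ?_⟩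
          show f x ^ p ^ k = 1
          rw [← map_pow]
          exact (QuotientGroup.eq_one_iff _).mpr (hEN ⟨_, hk, rfl⟩)
        have hK : ∀ K ∈ 𝒦, K.map f ≤ Cfsg.pCore p (H ⧸ N) := by
          intro K hK
          have hKf : (K ⊔ P).map f = K.map f := by
            rw [Subgroup.map_sup, (map_eq_bot_iff P).mpr, sup_bot_eq]
            rw [QuotientGroup.ker_mk']; exact le_sup_right
          obtain ⟨h, rfl⟩ := htr E hE K hK
          refine LocalBasics.le_pCore_of_subnormal ?_ ?_
          · rw [← hKf]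
            refine Subgroup.IsSubnormal.map hf (Subgroup.IsSubnormal.trans
              (sup_le_sup_right (hER _ hK) P)
              (LocalBasics.normal_subgroupOf_of_le (hnorm _ hK)).isSubnormal
              (inferInstance : (R ⊔ P).Normal).isSubnormal)
          · have h1 : (cj h E).map f = (E.map f).map (MulAut.conj (f h)).toMonoidHom := by
              rw [cj, Subgroup.map_map, Subgroup.map_map]
              congr 1
            rw [h1]
            exact hEp.map _
        have hRp : IsPGroup p ↥(R.map f) :=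
          (HallCore.isPGroup_pCore p (H ⧸ N)).to_le (map_le_iff_le_comap.mpr
            (sSup_le fun K hK' => map_le_iff_le_comap.mp (hK K hK')))
        obtain ⟨T⟩ : Nonempty (Sylow p H) := inferInstance
        haveI : (R.map f).Normal := hRn.map f hf
        have h2 := hRp.to_sup_of_normal_left (T.isPGroup'.map f)
        rw [← Subgroup.map_sup, hTR T, Subgroup.map_top_of_surjective f hf] at h2
        exact h2.of_equiv Subgroup.topEquiv
      · refine absurd ?_ hnc
        suffices h : Cfsg.IsPClosed p ↥N by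
          let e := Subgroup.subgroupOfEquivOfLe (le_sup_left : N₀ ≤ N)
          exact (S2828.closed_iff e.toMonoidHom e.surjective (by
            rw [MonoidHom.ker_eq_bot_iff e.toMonoidHom |>.mpr e.injective]
            exact IsPGroup.of_bot)).mp (S2828.closed_subgroup h _)
        have hNn : N.map q ≤ centralizer ((R.map q : Subgroup (H ⧸ P)) : Set (H ⧸ P)) := by
          haveI : (N.map q).Normal := hN.map q hq
          refine centralize hA (LocalBasics.le_normalizer_of_normal _)
            (LocalBasics.le_normalizer_of_normal _) (inferInstance : (N.map q ⊓ R.map q).Normal).isSubnormal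
            ?_ hgenR
          rw [le_centralizer_iff]
          refine map_le_iff_le_comap.mpr (sSup_le fun E hE => map_le_iff_le_comap.mp ?_)
          rw [le_centralizer_iff]
          have hXE : N.map q ⊓ R.map q ⊓ E.map q ≤
              centralizer ((E.map q : Subgroup (H ⧸ P)) : Set (H ⧸ P)) :=
            (inf_le_inf_right _ inf_le_left).trans
              ((hcase E hE N le_sup_right (LocalBasics.le_normalizer_of_normal E)).resolve_left
                fun h => hA' ⟨E, hE, h⟩)
          exact centralize hA (LocalBasics.le_normalizer_of_normal _)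
            (inf_le_right.trans (hRq E hE))
            (((inferInstance : (N.map q ⊓ R.map q).Normal).isSubnormal).inf (hEsub E hE))
            hXE (hgenE E hE)
        refine LocalBasics.isPClosed_iff.mpr ⟨default, ?_⟩
        generalize (default : Sylow p ↥N) = S
        have hPS : P.subgroupOf N ≤ (S : Subgroup ↥N) := by
          haveI : (P.subgroupOf N).Normal := hPn.subgroupOf N
          exact (HallCore.le_pCore (HallCore.isPGroup_pCore p H).comap_subtype).trans
            (HallCore.pCore_le_sylow S)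
        rw [← normalizer_eq_top_iff, eq_top_iff, ← TransferPResidual.sylow_sup_pResidual S]
        refine sup_le le_normalizer (TransferPResidual.pResidual_le_iff_coprime.mpr fun z hz => ?_)
        have hzR : q (z : H) ∈ R.map q := mem_map_of_mem q (hres
          (TransferPResidual.mem_pResidual_of_coprime (by rwa [Subgroup.orderOf_coe])))
        have hconj : ∀ w : ↥N, ∀ s ∈ (S : Subgroup ↥N), q (w : H) ∈ R.map q → w * s * w⁻¹ ∈
            (S : Subgroup ↥N) := by
          intro w s hs hw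
          have h1 : q (w : H) * q (s : H) = q (s : H) * q (w : H) :=
            mem_centralizer_iff.mp (hNn (mem_map_of_mem q s.2)) _ hw
          have h2 : w * s * w⁻¹ * s⁻¹ ∈ P.subgroupOf N := by
            rw [mem_subgroupOf]
            refine (QuotientGroup.eq_one_iff _).mp ?_
            show q ((w : H) * s * (w : H)⁻¹ * (s : H)⁻¹) = 1
            rw [map_mul, map_mul, map_mul, h1, map_inv, map_inv]
            group
          simpa [mul_assoc] using mul_mem (hPS h2) hs
        rw [mem_normalizer_iff]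
        intro s
        refine ⟨fun hs => hconj z s hs hzR, fun hs => ?_⟩
        have h3 := hconj z⁻¹ _ hs (by simpa using inv_mem hzR)
        simpa [mul_assoc] using h3
    · intro E hE K hK
      have hres' : ∀ E ∈ 𝒦, ∀ K : Subgroup H, (Cfsg.pResidual p ↥E).map E.subtype ≤ K ⊔ P →
          S2859.res p (E ⊔ P) ≤ S2859.res p (K ⊔ P) := by
        intro E _ K hEK
        refine S2859.res_le fun x hx hc => S2859.mem_res ?_ hc
        obtain ⟨e, he, d, hd, rfl⟩ := Subgroup.mem_sup_of_normal_right.mp hx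
        obtain ⟨k, hk⟩ := TransferPResidual.exists_pow_mem_pResidual (p := p) (⟨e, he⟩ : ↥E)
        refine LocCoprime56.mem_of_pow_mem (k := k) hc (hqmem le_sup_right ?_)
        rw [map_pow, map_mul, hqP d hd, mul_one, ← map_pow]
        exact mem_map_of_mem q (hEK ⟨_, hk, rfl⟩)
      have hdich : ∀ E ∈ 𝒦, ∀ K ∈ 𝒦, (Cfsg.pResidual p ↥E).map E.subtype ≤ K ⊔ P ∨
          ⁅E, K⁆ ≤ P := by
        intro E hE K hK
        refine (hcase E hE (K ⊔ P) le_sup_right ((hER E hE).trans (hWn K hK))).imp_right fun h => ?_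
        rw [hWmap] at h
        have h1 := centralize hA ((map_mono (hER E hE)).trans (hRq K hK))
          ((map_mono (hER K hK)).trans (hRq E hE)) ((hEsub K hK).inf (hEsub E hE)) h (hgenE E hE)
        rw [commutator_le]
        intro e he k hk
        refine (QuotientGroup.eq_one_iff _).mp ?_
        show q ⁅e, k⁆ = 1
        rw [map_commutatorElement, commutatorElement_eq_one_iff_mul_comm]
        exact mem_centralizer_iff.mp (h1 (mem_map_of_mem q hk)) _ (mem_map_of_mem q he)
      rcases hdich E hE K hK with h1 | h1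
      · rcases hdich K hK E hE with h2 | h2
        · exact Or.inl (le_antisymm (hres' E hE K h1) (hres' K hK E h2))
        · exact Or.inr (by rwa [Subgroup.commutator_comm])
      · exact Or.inr h1


end Cfsg.Agent.S2855
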