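import Cfsg.Statements.S2860
import Mathlib
import Cfsg.Agent.S2859
import Cfsg.Agent.S2843
import Cfsg.Agent.Lib.ComponentsBasic

set_option autoImplicit false
open Cfsg
open Cfsg.Agent
open scoped commutatorElement

namespace Cfsg.Agent.S2860

open Subgroup LocalLarge57
open Cfsg.Agent.S2859 (res mem_res res_le le_normalizer_res mem_of_sup_pGroup le_normalizer_commutator)

theorem commutator_eq_bot_three {K : Type*} [Group K] {X W : Subgroup K}
    (hX : ⁅X, X⁆ = X) (h : ⁅⁅X, W⁆, X⁆ = ⊥) : ⁅X, W⁆ = ⊥ := by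
  have h2 : ⁅⁅W, X⁆, X⁆ = ⊥ := by rwa [Subgroup.commutator_comm W]
  have := Subgroup.commutator_commutator_eq_bot_of_rotate h h2
  rwa [hX] at this

/-- A perfect central extension of a quasisimple group is quasisimple. -/
theorem quasisimple_of_central {K K' : Type*} [Group K] [Group K'] (f : K →* K')
    (hf : Function.Surjective f) (hK : ⁅(⊤ : Subgroup K), (⊤ : Subgroup K)⁆ = ⊤)
    (hker : ⁅f.ker, (⊤ : Subgroup K)⁆ = ⊥) (h : Cfsg.IsQuasisimple K') : Cfsg.IsQuasisimple K := by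
  haveI : Nontrivial K' := ComponentsBasic.isQuasisimple_nontrivial h
  refine ComponentsBasic.isQuasisimple_iff.mpr ⟨Group.isPerfect_def.mpr (by rw [commutator_def]; exact hK),
    hf.nontrivial, fun N hN => ?_⟩
  haveI := hN
  haveI : (N.map f).Normal := hN.map f hf
  rcases ComponentsBasic.normal_le_center_or_eq_top h (N.map f) with h1 | h1
  · left
    have h2 : ⁅⁅(⊤ : Subgroup K), N⁆, (⊤ : Subgroup K)⁆ = ⊥ := by
      refine le_bot_iff.mp ((commutator_mono ?_ le_rfl).trans hker.le)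
      refine commutator_le.mpr fun a _ b hb => ?_
      rw [MonoidHom.mem_ker, map_commutatorElement, commutatorElement_eq_one_iff_mul_comm]
      exact mem_center_iff.mp (h1 ⟨b, hb, rfl⟩) (f a)
    have h3 := commutator_eq_bot_three hK h2
    intro x hx
    exact mem_center_iff.mpr fun y => by
      rw [← commutatorElement_eq_one_iff_mul_comm, ← mem_bot, ← h3]
      exact commutator_mem_commutator (mem_top y) hx
  · right
    have h2 : (⊤ : Subgroup K) ≤ N ⊔ f.ker := by
      rw [← comap_map_eq, h1, comap_top]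
    have h3 : commutator K ≤ N := by
      rw [commutator_def, commutator_le]
      intro a ha b _
      obtain ⟨n, hn, c, hc, rfl⟩ := LocalPReduced57.exists_mul_of_mem_sup
        (LocalBasics.le_normalizer_of_normal N) (h2 ha)
      have e : c * b = b * c := by
        rw [← commutatorElement_eq_one_iff_mul_comm, ← mem_bot, ← hker]
        exact commutator_mem_commutator hc (mem_top b)
      have h4 : ⁅n * c, b⁆ = n * (b * n⁻¹ * b⁻¹) := by
        calc ⁅n * c, b⁆ = n * (c * b) * c⁻¹ * n⁻¹ * b⁻¹ := by rw [commutatorElement_def]; group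
          _ = n * (b * c) * c⁻¹ * n⁻¹ * b⁻¹ := by rw [e]
          _ = _ := by group
      rw [h4]
      exact mul_mem hn (hN.conj_mem _ (inv_mem hn) b)
    rw [commutator_def, hK] at h3
    exact top_le_iff.mp h3

/-- The absorption step. -/
theorem le_of_sup {G : Type*} [Group G] [Finite G] {p : ℕ} [Fact p.Prime] {R Z N C O : Subgroup G}
    (hRZ : (⁅R, Z⁆ : Subgroup G) = R) (hres : res p R = R) (hN : N ≤ R)
    (hRN : R ≤ normalizer (N : Set G)) (hZN : Z ≤ normalizer (N : Set G)) (hOp : IsPGroup p ↥O)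
    (hOR : O ≤ R) (hRO : R ≤ normalizer (O : Set G)) (hC : C ≤ R) (hCZ : (⁅C, Z⁆ : Subgroup G) ≤ O)
    (h : R ≤ N ⊔ C) : R ≤ N := by
  have h1 : R ≤ N ⊔ O := by
    conv_lhs => rw [← hRZ]
    refine commutator_le.mpr fun r hr z hz => ?_
    obtain ⟨c, hc, n, hn, rfl⟩ := LocalPReduced57.exists_mul_of_mem_sup (hC.trans hRN) (sup_comm N C ▸ h hr)
    rw [show ⁅c * n, z⁆ = (c * ⁅n, z⁆ * c⁻¹) * ⁅c, z⁆ by simp only [commutatorElement_def]; group]
    exact mul_mem (mem_sup_left (LocalBasics.conj_mem_of_le_normalizer (hC.trans hRN) hc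
      (le_normalizer_iff_commutator_le_left.mp hZN (commutator_mem_commutator hn hz))))
      (mem_sup_right (hCZ (commutator_mem_commutator hc hz)))
  rw [← hres]
  exact res_le fun x hx hc => mem_of_sup_pGroup hOp (hOR.trans hRN) (h1 hx) hc

/-- Let Q be a nontrivial large p-subgroup of the finite group H, U a nontrivial elementary abelian p-subgroup of H, and Q ≤ E ≤ N_H(U) with Q not normal in E. Suppose O_p(E/C_E(U)) = 1 and O^p(E)·C_E(U)/C_E(U) is quasisimple. Let E° be the weak closure of Q in E (generated by the conjugates of Q inside E) and E_∘ = O^p(E°). Then O^p(E)·C_E(U) = E_∘·C_E(U); E_∘ is perfect and equals O^p(E_∘); E_∘/C_{E_∘}(U) and E_∘/O_p(E_∘) are quasisimple; and E_∘ = [E_∘, Y] for every p-subgroup Y of E not centralizing U. -/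
theorem result {G : Type*} [Group G] [Finite G] {p : ℕ} [Fact p.Prime] (Q : Subgroup G) (hQp : IsPGroup p ↥Q) (hQ1 : Q ≠ ⊥) (hQ : Cfsg.IsLarge Q) (U : Subgroup G) (hU : Cfsg.IsElementaryAbelian p U) (hU1 : U ≠ ⊥) (E : Subgroup G) (hQE : Q ≤ E) (hEU : E ≤ Subgroup.normalizer ((U : Subgroup G) : Set G)) (hQn : ¬ E ≤ Subgroup.normalizer ((Q : Subgroup G) : Set G)) [hn : ((Subgroup.centralizer ((U : Subgroup G) : Set G)).subgroupOf E).Normal] (hred : Cfsg.pCore p (↥E ⧸ (Subgroup.centralizer ((U : Subgroup G) : Set G)).subgroupOf E) = ⊥) (hqs : Cfsg.IsQuasisimple ↥(((Cfsg.pResidual p ↥E) ⊔ (Subgroup.centralizer ((U : Subgroup G) : Set G)).subgroupOf E).map (QuotientGroup.mk' ((Subgroup.centralizer ((U : Subgroup G) : Set G)).subgroupOf E)))) (Er : Subgroup G) (hEr : Er = ((Cfsg.pResidual p ↥(Cfsg.weakClosure Q E)).map ((Cfsg.weakClosure Q E)).subtype)) [hn2 : ((Subgroup.centralizer ((U : Subgroup G) : Set G)).subgroupOf Er).Normal] : ((Cfsg.pResidual p ↥E).map (E).subtype)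 ⊔ (E ⊓ Subgroup.centralizer ((U : Subgroup G) : Set G)) = Er ⊔ (E ⊓ Subgroup.centralizer ((U : Subgroup G) : Set G)) ∧ ⁅Er, Er⁆ = Er ∧ ((Cfsg.pResidual p ↥Er).map (Er).subtype) = Er ∧ Cfsg.IsQuasisimple (↥Er ⧸ (Subgroup.centralizer ((U : Subgroup G) : Set G)).subgroupOf Er) ∧ Cfsg.IsQuasisimple (↥Er ⧸ Cfsg.pCore p ↥Er) ∧ ∀ Y : Subgroup G, Y ≤ E → IsPGroup p ↥Y → ¬ Y ≤ Subgroup.centralizer ((U : Subgroup G) : Set G) → ⁅Er, Y⁆ = Er := by
  set W := Cfsg.weakClosure Q E with hWdef
  set CU := Subgroup.centralizer (U : Set G)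
  have hQW : Q ≤ W := LocalLarge57.le_weakClosure hQE
  have hWE : W ≤ E := LocalLarge57.weakClosure_le Q E
  have hwc := LocalLarge57.wc_of_large hQ hQp hQ1
  obtain ⟨-, hWC, hCW⟩ := Cfsg.Agent.S2843.result Q hQp hQ1 hQ E hQE U
    (PGroupsBasic.isPGroup_of_isElementaryAbelian hU) hU1 hEU
  have hcf := Cfsg.Agent.S2859.closure_facts hQp hwc hQE
  have hWQ : res p W ⊔ Q = W := hcf.1
  have hKQ : (⁅res p W, Q⁆ : Subgroup G) = res p W := hcf.2
  change Er = res p W at hEr
  have hErQ : (⁅Er, Q⁆ : Subgroup G) = Er := by rw [hEr]; exact hKQ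
  have hWdec : Er ⊔ Q = W := by rw [hEr]; exact hWQ
  have hErW : Er ≤ W := le_sup_left.trans hWdec.le
  have hErE : Er ≤ E := hErW.trans hWE
  have hEW : E ≤ Subgroup.normalizer (W : Set G) := LocalLarge57.le_normalizer_weakClosure Q E
  have hEEr : E ≤ Subgroup.normalizer (Er : Set G) := by rw [hEr]; exact le_normalizer_res hEW
  have hresEr : res p Er = Er := le_antisymm (Subgroup.map_subtype_le _) (by
    conv_lhs => rw [hEr]
    exact res_le fun x hx hc => mem_res (by rw [hEr]; exact mem_res hx hc) hc)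
  -- the quotient by the kernel on `U`
  set C := CU.subgroupOf E
  let f := QuotientGroup.mk' C
  set Xb := Cfsg.pResidual p (↥E ⧸ C)
  have hXb : ((Cfsg.pResidual p ↥E) ⊔ C).map f = Xb := by
    rw [Subgroup.map_sup, TransferPResidual.map_pResidual_eq_of_surjective f (QuotientGroup.mk'_surjective _),
      (Subgroup.map_eq_bot_iff _).mpr (QuotientGroup.ker_mk' _).ge, sup_bot_eq]
  change Cfsg.IsQuasisimple ↥(((Cfsg.pResidual p ↥E) ⊔ C).map f) at hqs
  rw [hXb] at hqs
  have hperf : ⁅Xb, Xb⁆ = Xb := ComponentsBasic.isQuasisimple_perfect hqs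
  have hdich : ∀ N : Subgroup (↥E ⧸ C), N ≤ Xb → Xb ≤ Subgroup.normalizer (N : Set (↥E ⧸ C)) →
      ⁅N, Xb⁆ = ⊥ ∨ N = Xb := by
    intro N hN hn
    haveI := LocalBasics.normal_subgroupOf_of_le hn
    rcases ComponentsBasic.normal_le_center_or_eq_top hqs (N.subgroupOf Xb) with h1 | h1
    · left
      rw [Subgroup.commutator_eq_bot_iff_le_centralizer]
      intro x hx y hy
      exact congrArg Subtype.val (Subgroup.mem_center_iff.mp
        (h1 (show (⟨x, hN hx⟩ : ↥Xb) ∈ N.subgroupOf Xb from hx)) ⟨y, hy⟩)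
    · exact Or.inr (le_antisymm hN (Subgroup.subgroupOf_eq_top.mp h1))
  have hmaple : ∀ A : Subgroup G, A ≤ E → E ≤ Subgroup.normalizer (A : Set G) →
      ((A.subgroupOf E).map f).Normal := fun A _ hA =>
    (LocalBasics.normal_subgroupOf_of_le hA).map f (QuotientGroup.mk'_surjective _)
  have hmapP : ∀ A : Subgroup G, IsPGroup p ↥A → IsPGroup p ↥((A.subgroupOf E).map f) :=
    fun A hA => (hA.comap_subtype).map f
  have hnormal_bot : ∀ P : Subgroup (↥E ⧸ C), P.Normal → IsPGroup p ↥P → P = ⊥ := fun P hP hPp => by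
    have h1 := HallCore.le_pCore (hN := hP) hPp
    rwa [hred, le_bot_iff] at h1
  have hpres : ∀ A : Subgroup G, A ≤ E → ∀ x ∈ A, x ∈ CU ↔ ∀ h : x ∈ E, f ⟨x, h⟩ = 1 := fun A hA x hx =>
    ⟨fun h _ => (QuotientGroup.eq_one_iff _).mpr h, fun h => ((QuotientGroup.eq_one_iff (N := C) _).mp (h (hA hx)))⟩
  set Eb := (Er.subgroupOf E).map f
  set Qb := (Q.subgroupOf E).map f
  haveI hEbn : Eb.Normal := hmaple Er hErE hEEr
  have hmapcomm : ∀ A B : Subgroup G, A ≤ E → B ≤ E → (⁅A, B⁆ : Subgroup G).subgroupOf E =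
      ⁅A.subgroupOf E, B.subgroupOf E⁆ := by
    intro A B hA hB
    apply Subgroup.map_injective E.subtype_injective
    rw [Subgroup.map_commutator, Subgroup.map_subgroupOf_eq_of_le hA, Subgroup.map_subgroupOf_eq_of_le hB,
      Subgroup.map_subgroupOf_eq_of_le ((Subgroup.commutator_mono hA hB).trans
        (Subgroup.le_normalizer_iff_commutator_le_left.mp Subgroup.le_normalizer))]
  have hEbQb : ⁅Eb, Qb⁆ = Eb := by
    rw [← Subgroup.map_commutator, ← hmapcomm Er Q hErE hQE, hErQ]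
  have hQC : ¬ Q ≤ CU := by
    intro hle
    apply hQn
    intro e he
    rw [LocalLarge57.mem_normalizer_iff_conjBy]
    refine LocalLarge57.eq_of_large hQ hQp hQ1 (le_trans ?_
      (LocalLarge57.centralizer_le_of_large hQ hQp (PGroupsBasic.isPGroup_of_isElementaryAbelian hU) hU1
        (hQE.trans hEU)))
    exact (LocalLarge57.conjBy_mono e hle).trans
      (LocalLarge57.mem_normalizer_iff_conjBy.mp (LocalBasics.le_normalizer_centralizer hEU he)).le
  have hQb : Qb ≠ ⊥ := fun h0 => hQC fun q hq => (hpres Q hQE q hq).mpr fun h =>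
    Subgroup.mem_bot.mp (h0 ▸ Subgroup.mem_map_of_mem f (show (⟨q, h⟩ : ↥E) ∈ Q.subgroupOf E from hq))
  have hWb : (W.subgroupOf E).map f = Eb ⊔ Qb := by
    rw [← Subgroup.map_sup, ← hWdec, Subgroup.subgroupOf_sup hErE hQE]
  haveI hWbn : ((W.subgroupOf E).map f).Normal := hmaple W hWE hEW
  have hEb1 : Eb ≠ ⊥ := by
    intro h0
    rw [h0, bot_sup_eq] at hWb
    exact hQb (hnormal_bot Qb (hWb ▸ hWbn) (hmapP Q hQp))
  have hEbX : Eb ≤ Xb := by
    rw [← hXb]
    refine Subgroup.map_mono (le_trans ?_ le_sup_left)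
    intro x hx
    have h1 : res p Er ≤ res p E := TransferPResidual.map_pResidual_mono hErE
    rw [hresEr] at h1
    obtain ⟨y, hy, hyx⟩ := h1 hx
    exact (Subtype.ext hyx : y = x) ▸ hy
  have hEq : Eb = Xb := by
    refine (hdich Eb hEbX (LocalBasics.le_normalizer_of_normal Xb)).resolve_left fun hcen => hEb1 ?_
    set Wb := (W.subgroupOf E).map f
    haveI : Xb.Normal := inferInstanceAs (Cfsg.pResidual p (↥E ⧸ C)).Normal
    rcases hdich ⁅Xb, Wb⁆ (Subgroup.commutator_le_left Xb Wb) (LocalBasics.le_normalizer_of_normal Xb)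
      with h1 | h1
    · have h2 := commutator_eq_bot_three hperf h1
      rw [← le_bot_iff]
      conv_lhs => rw [← hEbQb]
      exact (Subgroup.commutator_mono hEbX (le_sup_right.trans hWb.ge)).trans h2.le
    · exfalso
      have hXW : Xb ≤ Wb := h1.ge.trans (Subgroup.commutator_le_right Xb Wb)
      have h3 : Xb ≤ Eb := TransferPResidual.pResidual_le_iff_coprime.mpr fun g hg =>
        mem_of_sup_pGroup (hmapP Q hQp) (LocalBasics.le_normalizer_of_normal _)
          (hWb ▸ hXW (Subgroup.subset_closure hg)) hg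
      have h4 : Xb = ⊥ := le_bot_iff.mp (hperf.ge.trans
        ((Subgroup.commutator_mono h3 le_rfl).trans hcen.le))
      exact hEb1 (le_bot_iff.mp (hEbX.trans h4.le))
  have hfirst : ∀ A : Subgroup G, A ≤ E → (A.subgroupOf E).map f = Xb → Er ≤ A ⊔ (Er ⊓ CU) ∨ ¬ A ≤ Er := by
    intro A hA hAX
    by_cases hAE : A ≤ Er
    · refine Or.inl fun x hx => ?_
      have h1 : f ⟨x, hErE hx⟩ ∈ (A.subgroupOf E).map f := by
        rw [hAX, ← hEq]
        exact Subgroup.mem_map_of_mem f (show (⟨x, hErE hx⟩ : ↥E) ∈ Er.subgroupOf E from hx)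
      obtain ⟨a, ha, hax⟩ := h1
      have h2 : a⁻¹ * ⟨x, hErE hx⟩ ∈ C := QuotientGroup.eq.mp hax
      have haA : (a : G) ∈ A := ha
      have h3 : (a : G)⁻¹ * x ∈ Er ⊓ CU := Subgroup.mem_inf.mpr ⟨mul_mem (inv_mem (hAE haA)) hx, h2⟩
      have := mul_mem (Subgroup.mem_sup_left (T := Er ⊓ CU) haA) (Subgroup.mem_sup_right (S := A) h3)
      rwa [mul_inv_cancel_left] at this
    · exact Or.inr hAE
  -- `[C ∩ Er, ·]` lies in the core
  set O := Cfsg.pCoreOf p Er
  have hOp : IsPGroup p ↥O := LocalBasics.isPGroup_pCoreOf p Er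
  have hOR : O ≤ Er := LocalBasics.pCoreOf_le p Er
  have hRO : Er ≤ Subgroup.normalizer (O : Set G) := LocalBasics.le_normalizer_pCoreOf p Er
  have hCO : ∀ Z : Subgroup G, Z ≤ W → (⁅Er ⊓ CU, Z⁆ : Subgroup G) ≤ O := by
    intro Z hZ
    refine le_trans (le_inf ?_ ?_) (LocalBasics.le_pCoreOf (A := Cfsg.pCoreOf p W ⊓ Er) inf_le_right ?_ ?_)
    · rw [Subgroup.commutator_comm]
      exact (Subgroup.commutator_mono hZ inf_le_right).trans hWC
    · exact (Subgroup.commutator_mono inf_le_left le_rfl).trans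
        (Subgroup.le_normalizer_iff_commutator_le_left.mp ((hZ.trans hWE).trans hEEr))
    · exact LocalBasics.le_normalizer_inf (hErW.trans (LocalBasics.le_normalizer_pCoreOf p W))
        Subgroup.le_normalizer
    · exact (LocalBasics.isPGroup_pCoreOf p W).to_le inf_le_left
  have hN : ∀ Y : Subgroup G, Y ≤ E → (⁅Er, Y⁆ : Subgroup G) ≤ Er ∧
      Er ⊔ Y ≤ Subgroup.normalizer ((⁅Er, Y⁆ : Subgroup G) : Set G) := fun Y hY =>
    ⟨Subgroup.le_normalizer_iff_commutator_le_left.mp (hY.trans hEEr),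
      le_normalizer_commutator Er Y (hY.trans hEEr)⟩
  have hperfEr : (⁅Er, Er⁆ : Subgroup G) = Er := by
    refine le_antisymm (hN Er hErE).1 (le_of_sup (Z := Q) (C := Er ⊓ CU) hErQ hresEr (hN Er hErE).1
      (le_sup_left.trans (hN Er hErE).2) ?_ hOp hOR hRO inf_le_left (hCO Q hQW) ?_)
    · refine LocalBasics.le_normalizer_of_conj fun q hq c hc => ?_
      have h1 : (⁅Er, Er⁆ : Subgroup G) ≤ (⁅Er, Er⁆ : Subgroup G).comap (MulAut.conj q).toMonoidHom :=
        Subgroup.commutator_le.mpr fun a ha b hb => by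
          rw [Subgroup.mem_comap, map_commutatorElement]
          exact Subgroup.commutator_mem_commutator
            (LocalBasics.conj_mem_of_le_normalizer (hQE.trans hEEr) hq ha)
            (LocalBasics.conj_mem_of_le_normalizer (hQE.trans hEEr) hq hb)
      exact h1 hc
    · refine (hfirst _ ((hN Er hErE).1.trans hErE) ?_).resolve_right (not_not.mpr (hN Er hErE).1)
      rw [hmapcomm Er Er hErE hErE, Subgroup.map_commutator]
      show ⁅Eb, Eb⁆ = Xb
      rw [hEq, hperf]
  -- the quotient `Er / C_Er(U)`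
  have hqsC : Cfsg.IsQuasisimple (↥Er ⧸ CU.subgroupOf Er) := by
    let φ : ↥Er →* ↥Eb :=
      { toFun := fun x => ⟨f ⟨x, hErE x.2⟩, Subgroup.mem_map_of_mem f
          (show (⟨x, hErE x.2⟩ : ↥E) ∈ Er.subgroupOf E from x.2)⟩
        map_one' := Subtype.ext (map_one f)
        map_mul' := fun a b => Subtype.ext (map_mul f ⟨a, hErE a.2⟩ ⟨b, hErE b.2⟩) }
    have hφ : Function.Surjective φ := by
      rintro ⟨_, y, hy, rfl⟩
      exact ⟨⟨y, hy⟩, rfl⟩
    have hker : φ.ker = CU.subgroupOf Er := by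
      ext x
      exact ⟨fun h => (hpres Er hErE x x.2).mpr fun _ => congrArg Subtype.val h,
        fun h => Subtype.ext ((hpres Er hErE x x.2).mp h (hErE x.2))⟩
    refine ComponentsBasic.isQuasisimple_of_mulEquiv
      ((QuotientGroup.quotientKerEquivOfSurjective φ hφ).symm.trans
        (QuotientGroup.quotientMulEquivOfEq hker)) ?_
    rw [hEq]; exact hqs
  refine ⟨?_, hperfEr, hresEr, hqsC, ?_, fun Y hY hYp hYU => ?_⟩
  · have h1 : Er.subgroupOf E ⊔ C = Cfsg.pResidual p ↥E ⊔ C := by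
      have h2 := congrArg (Subgroup.comap f) (hEq.trans hXb.symm)
      rwa [Subgroup.comap_map_eq, Subgroup.comap_map_eq, QuotientGroup.ker_mk', sup_assoc, sup_idem] at h2
    have h3 := congrArg (Subgroup.map E.subtype) h1
    rw [Subgroup.map_sup, Subgroup.map_sup, Subgroup.map_subgroupOf_eq_of_le hErE,
      Subgroup.subgroupOf_map_subtype, inf_comm] at h3
    exact h3.symm
  · set R := Cfsg.pCore p ↥Er
    have hOC : R ≤ CU.subgroupOf Er := by
      intro x hx
      refine (hpres Er hErE x x.2).mpr fun h => Subgroup.mem_bot.mp ?_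
      rw [← hnormal_bot ((O.subgroupOf E).map f) (hmaple O (hOR.trans hErE)
        (LocalLarge57.le_normalizer_pCoreOf_of_le_normalizer hEEr)) (hmapP O hOp)]
      exact Subgroup.mem_map_of_mem f (show (⟨x, h⟩ : ↥E) ∈ O.subgroupOf E from ⟨x, hx, rfl⟩)
    refine quasisimple_of_central (QuotientGroup.lift R (QuotientGroup.mk' (CU.subgroupOf Er)) (by
      rw [QuotientGroup.ker_mk']; exact hOC)) ?_ ?_ ?_ hqsC
    · intro y
      obtain ⟨x, rfl⟩ := QuotientGroup.mk_surjective y
      exact ⟨QuotientGroup.mk x, rfl⟩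
    · rw [← Subgroup.map_top_of_surjective _ (QuotientGroup.mk'_surjective R), ← Subgroup.map_commutator]
      congr 1
      apply Subgroup.map_injective Er.subtype_injective
      rw [Subgroup.map_commutator, ← MonoidHom.range_eq_map, Subgroup.range_subtype, hperfEr]
    · rw [← le_bot_iff, Subgroup.commutator_le]
      intro a ha b _
      obtain ⟨x, rfl⟩ := QuotientGroup.mk_surjective a
      obtain ⟨y, rfl⟩ := QuotientGroup.mk_surjective b
      have hx : x ∈ CU.subgroupOf Er := (QuotientGroup.eq_one_iff x).mp ha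
      rw [Subgroup.mem_bot, ← QuotientGroup.mk'_apply, ← QuotientGroup.mk'_apply R y, ← map_commutatorElement]
      refine (QuotientGroup.eq_one_iff _).mpr ?_
      obtain ⟨z, hz, hzx⟩ := hCO Er hErW (Subgroup.commutator_mem_commutator
        (show (x : G) ∈ Er ⊓ CU from ⟨x.2, hx⟩) y.2)
      exact (Subtype.ext hzx : z = ⁅x, y⁆) ▸ hz
  · obtain ⟨hNle, hNn⟩ := hN Y hY
    refine le_antisymm hNle (le_of_sup (Z := Er) (C := Er ⊓ CU) hperfEr hresEr hNle
      (le_sup_left.trans hNn) (le_sup_left.trans hNn) hOp hOR hRO inf_le_left (hCO Er hErW) ?_)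
    refine (hfirst _ (hNle.trans hErE) ?_).resolve_right (not_not.mpr hNle)
    rw [hmapcomm Er Y hErE hY, Subgroup.map_commutator]
    set Yb := (Y.subgroupOf E).map f
    show ⁅Eb, Yb⁆ = Xb
    rw [hEq]
    haveI : Xb.Normal := inferInstanceAs (Cfsg.pResidual p (↥E ⧸ C)).Normal
    refine (hdich ⁅Xb, Yb⁆ (Subgroup.commutator_le_left Xb Yb)
      (le_sup_left.trans (le_normalizer_commutator Xb Yb (LocalBasics.le_normalizer_of_normal _)))).resolve_left
      fun hcen => hYU ?_
    have h2 := commutator_eq_bot_three hperf hcen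
    rw [Subgroup.commutator_comm, Subgroup.commutator_eq_bot_iff_le_centralizer] at h2
    set Kc := Subgroup.centralizer (Xb : Set (↥E ⧸ C))
    haveI : Kc.Normal := inferInstanceAs (Subgroup.centralizer (Xb : Set (↥E ⧸ C))).Normal
    obtain ⟨P, hP⟩ := ((hmapP Y hYp).comap_subtype (K := Kc)).exists_le_sylow
    have hPn : (P : Subgroup ↥Kc).Normal := by
      rw [← Subgroup.normalizer_eq_top_iff, ← top_le_iff, ← TransferPResidual.sylow_sup_pResidual P]
      refine sup_le Subgroup.le_normalizer (TransferPResidual.pResidual_le_iff_coprime.mpr fun g hg => ?_)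
      refine LocalBasics.centralizer_le_normalizer _ fun y _ => Subtype.ext ?_
      exact (y.2 g (Subgroup.subset_closure (show (orderOf (g : ↥E ⧸ C)).Coprime p by
        rwa [Subgroup.orderOf_coe]))).symm
    have hbot := hnormal_bot (Cfsg.pCoreOf p Kc) (by
      rw [← Subgroup.normalizer_eq_top_iff, ← top_le_iff]
      exact LocalLarge57.le_normalizer_pCoreOf_of_le_normalizer (LocalBasics.le_normalizer_of_normal ⊤))
      (LocalBasics.isPGroup_pCoreOf p Kc)
    intro y hy
    refine (hpres Y hY y hy).mpr fun h => Subgroup.mem_bot.mp ?_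
    rw [← hbot]
    have hyb : f ⟨y, h⟩ ∈ Yb := Subgroup.mem_map_of_mem f (show (⟨y, h⟩ : ↥E) ∈ Y.subgroupOf E from hy)
    exact ⟨⟨_, h2 hyb⟩, HallCore.le_pCore (hN := hPn) P.isPGroup' (hP hyb), rfl⟩

end Cfsg.Agent.S2860
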