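import Cfsg.Statements.S2861
import Cfsg.Agent.Lib.FrakLSetting43

set_option autoImplicit false
open Cfsg

namespace Cfsg.Agent.S2861

/-- Standing hypotheses: G a finite group, S a Sylow p-subgroup, Q a nontrivial large p-subgroup of G contained in S, M a subgroup containing S with the basic property (M ∈ 𝔐_G(S)); Y_M the largest p-reduced normal subgroup of M and M† = M·C_G(Y_M). Let L ∈ 𝔏_G(Y_M) (L ∈ 𝔏_G(Y_M): Y_M ≤ L; O_p(L) is the normal closure in L of Y_M ∩ O_p(L) and normalizes Y_M; L is Y_M-minimal of characteristic p with N_L(Y_M) its unique maximal subgroup over Y_M; and L/O_p(L) ≅ SL₂(q) with q = |Y_M : Y_M ∩ O_p(L)|, or p = 2 and L/O_p(L) is a Suzuki group Sz(q) or dihedral of order 2r, r an odd prime) and A = O_p(L). Then Y_M·A/A is the unique nontrivial elementary abelian normal p-subgroup of N_L(Y_M)/A. -/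
theorem result {G : Type*} [Group G] [Finite G] {p : ℕ} [Fact p.Prime] (S : Sylow p G) (Q : Subgroup G) (hQp : IsPGroup p ↥Q) (hQ1 : Q ≠ ⊥) (hQS : Q ≤ (S : Subgroup G)) (hQ : Cfsg.IsLarge Q) (M : Subgroup G) (hSM : (S : Subgroup G) ≤ M) (hM : Cfsg.IsInFrakM p M) (L : Subgroup G) (hL : Cfsg.IsInFrakL p M L) (NL : Subgroup G) (hNL : NL = L ⊓ Subgroup.normalizer (((Cfsg.largestPReducedOf p M) : Subgroup G) : Set G)) [hn : (((Cfsg.pCoreOf p L)).subgroupOf NL).Normal] : let Ybar : Subgroup (↥NL ⧸ ((Cfsg.pCoreOf p L)).subgroupOf NL) := (((Cfsg.largestPReducedOf p M)).subgroupOf NL).map (QuotientGroup.mk' (((Cfsg.pCoreOf p L)).subgroupOf NL)); Ybar ≠ ⊥ ∧ Ybar.Normal ∧ Cfsg.IsElementaryAbelian p Ybar ∧ ∀ (V : Subgroup (↥NL ⧸ ((Cfsg.pCoreOf p L)).subgroupOf NL)), V.Normal → Cfsg.IsElementaryAbelian p V → V ≠ ⊥ → V = Ybar := by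
  intro Ybar
  have S' := FrakLSetting43.setting hL
  obtain ⟨Q', _, π, hsurj, hker, huniq⟩ := FrakLSetting43.exists_hom_uniqueNormal hL
  have hYL : Cfsg.largestPReducedOf p M ≤ L := hL.1
  have hne := FrakLCases43.Setting.image_ne S' π hker
  have hcomap := FrakLSetting43.normalizer_eq_comap S' hsurj hker
  rw [FrakLSetting43.normalizer_subgroupOf_eq hYL] at hcomap
  set Y := Cfsg.largestPReducedOf p M
  have hNLL : NL ≤ L := hNL ▸ inf_le_left
  -- the induced map on `NL`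
  let φ : ↥NL →* Q' := π.comp (Subgroup.inclusion hNLL)
  have hφker : φ.ker = (Cfsg.pCoreOf p L).subgroupOf NL := by
    ext k
    rw [MonoidHom.mem_ker, Subgroup.mem_subgroupOf]
    show π _ = 1 ↔ _
    rw [← MonoidHom.mem_ker, hker]
    exact ⟨fun hk => ⟨_, hk, rfl⟩, fun ⟨j, hj, he⟩ => by
      rwa [show j = Subgroup.inclusion hNLL k from Subtype.ext he] at hj⟩
  have hφrange : ∀ z, z ∈ φ.range ↔
      z ∈ Subgroup.normalizer (((Y.subgroupOf L).map π : Subgroup Q') : Set Q') := by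
    intro z
    constructor
    · rintro ⟨k, rfl⟩
      have hk : (Subgroup.inclusion hNLL k) ∈ (Subgroup.normalizer (Y : Set G)).subgroupOf L := by
        rw [Subgroup.mem_subgroupOf]
        exact (Subgroup.mem_inf.mp (hNL ▸ k.2 : (k : G) ∈ L ⊓ Subgroup.normalizer (Y : Set G))).2
      rw [hcomap] at hk
      exact hk
    · intro hz
      obtain ⟨k, rfl⟩ := hsurj z
      have hk : k ∈ (Subgroup.normalizer (Y : Set G)).subgroupOf L := hcomap ▸ hz
      exact ⟨⟨k, hNL ▸ Subgroup.mem_inf.mpr ⟨k.2, hk⟩⟩, rfl⟩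
  have hYN : Y ≤ NL := hNL ▸ le_inf hYL Subgroup.le_normalizer
  have hYnormal : (Y.subgroupOf NL).Normal :=
    LocalBasics.normal_subgroupOf_of_le (hNL ▸ inf_le_right)
  let ψ := QuotientGroup.lift ((Cfsg.pCoreOf p L).subgroupOf NL) φ hφker.ge
  have hψinj : Function.Injective ψ := by
    refine (MonoidHom.ker_eq_bot_iff ψ).mp ?_
    rw [QuotientGroup.ker_lift, hφker, QuotientGroup.map_mk'_self]
  have hψr : ψ.range = φ.range := by
    ext z
    exact ⟨fun ⟨k, hk⟩ => by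
      obtain ⟨k, rfl⟩ := QuotientGroup.mk_surjective k
      exact ⟨k, hk⟩, fun ⟨k, hk⟩ => ⟨QuotientGroup.mk k, hk⟩⟩
  have hψY : Ybar.map ψ = (Y.subgroupOf L).map π := by
    show ((Y.subgroupOf NL).map (QuotientGroup.mk' _)).map ψ = _
    rw [Subgroup.map_map]
    ext z
    constructor
    · rintro ⟨k, hk, rfl⟩
      exact ⟨_, hk, rfl⟩
    · rintro ⟨k, hk, rfl⟩
      exact ⟨⟨k, hYN hk⟩, hk, rfl⟩
  refine ⟨fun e => ?_, hYnormal.map _ (QuotientGroup.mk'_surjective _), ?_, fun V hVn hVe hV1 => ?_⟩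
  · obtain ⟨y, hy, hy1⟩ := hne
    have : π y ∈ Ybar.map ψ := hψY ▸ ⟨y, hy, rfl⟩
    rw [e, Subgroup.map_bot] at this
    exact hy1 (Subgroup.mem_bot.mp this)
  · have hel := (LocalPReduced57.red_largest p M).2.2.1
    refine ⟨⟨⟨fun a b => Subtype.ext ?_⟩⟩, fun a ha => ?_⟩
    · obtain ⟨_, a', ha', rfl⟩ := a
      obtain ⟨_, b', hb', rfl⟩ := b
      show QuotientGroup.mk' _ a' * QuotientGroup.mk' _ b' = QuotientGroup.mk' _ b' * QuotientGroup.mk' _ a'
      rw [← map_mul, ← map_mul, show a' * b' = b' * a' from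
        Subtype.ext (LocPReduced56.comm_of_elementary hel ha' hb')]
    · obtain ⟨a', ha', rfl⟩ := ha
      rw [← map_pow, show a' ^ p = 1 from Subtype.ext (by simpa using hel.2 _ ha'), map_one]
  · refine Subgroup.map_injective hψinj ?_
    rw [hψY]
    refine huniq _ ?_ ?_ ?_ ?_
    · rintro _ ⟨v, hv, rfl⟩
      exact (hφrange _).mp (hψr ▸ ⟨v, rfl⟩)
    · intro z hz
      obtain ⟨k, rfl⟩ := hψr ▸ (hφrange z).mpr hz
      exact Subgroup.le_normalizer_map ψ ⟨k, (Subgroup.normalizer_eq_top_iff.mpr hVn).symm ▸ Subgroup.mem_top k, rfl⟩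
    · rintro _ ⟨v, hv, rfl⟩
      rw [← map_pow, hVe.2 v hv, map_one]
    · rwa [Ne, Subgroup.map_eq_bot_iff_of_injective _ hψinj]

end Cfsg.Agent.S2861
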