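import Cfsg.Statements.S2862
import Cfsg.Agent.S2845
import Cfsg.Agent.Lib.LocalFrakHMin46

set_option autoImplicit false
open Cfsg
open Subgroup (le_normalizer subgroupOf_self map_subtype_le comap_map_eq_self_of_injective subgroupOf_eq_top map_injective range_subtype mem_sup_left mem_sup_right commutator_mem_commutator commutator_le comap_map_eq comap_top map_comap_eq_self_of_surjective map_top_of_surjective normalizer mem_map_of_mem mem_bot bot_or_exists_ne_one)
open scoped commutatorElement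

namespace Cfsg.Agent.S2862

/-- Standing hypotheses: G a finite group, S a Sylow p-subgroup, Q a nontrivial large p-subgroup of G contained in S, M a subgroup containing S with the basic property (M ∈ 𝔐_G(S)); Y_M the largest p-reduced normal subgroup of M and M† = M·C_G(Y_M). Suppose Y_M is char-p-tall and asymmetric in G, H ∈ ℌ_G(O_p(M)), and L is minimal among the subgroups of H containing Y_M with Y_M ≰ O_p(L). Then H = ⟨L, O_p(M)⟩ = ⟨hY_Mh⁻¹, O_p(M)⟩ for every h ∈ L outside N_L(Y_M); L is Y_M-minimal and of characteristic p, with N_L(Y_M) the unique maximal subgroup of L containing Y_M; [V, O^p(L)] ≠ 1 for every noncentral chief factor V/W of H inside O_p(H) (that is, O^p(L) does not act trivially on V/W); and the normal closure of O_p(L) ∩ Y_M in L lies in O_p(H). -/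
theorem result {G : Type*} [Group G] [Finite G] {p : ℕ} [Fact p.Prime] (S : Sylow p G) (Q : Subgroup G) (hQp : IsPGroup p ↥Q) (hQ1 : Q ≠ ⊥) (hQS : Q ≤ (S : Subgroup G)) (hQ : Cfsg.IsLarge Q) (M : Subgroup G) (hSM : (S : Subgroup G) ≤ M) (hM : Cfsg.IsInFrakM p M) (htall : Cfsg.IsCharPTall p (Cfsg.largestPReducedOf p M)) (hasym : ¬ Cfsg.IsSymmetricIn (Cfsg.largestPReducedOf p M)) (H : Subgroup G) (hH : Cfsg.IsInFrakH p M H) (L : Subgroup G) (hLH : L ≤ H) (hYL : (Cfsg.largestPReducedOf p M) ≤ L) (hYO : ¬ (Cfsg.largestPReducedOf p M) ≤ (Cfsg.pCoreOf p L)) (hmin : ∀ L' : Subgroup G, L' ≤ L → (Cfsg.largestPReducedOf p M) ≤ L' → ¬ (Cfsg.largestPReducedOf p M) ≤ (Cfsg.pCoreOf p L') → L' = L) : (L ⊔ (Cfsg.pCoreOf p M) = H ∧ ∀ h ∈ L, h ∉ Subgroup.normalizer (((Cfsg.largestPReducedOf p M) : Subgroup G) : Set G) → (((Cfsg.largestPReducedOf p M) : Subgroup G).map (MulAut.conj (h : G)).toMonoidHom) ⊔ (Cfsg.pCoreOf p M) = H) ∧ (Cfsg.IsMinimalOver (((Cfsg.largestPReducedOf p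 M)).subgroupOf L) ∧ Subgroup.centralizer (Cfsg.pCore p ↥L : Set ↥L) ≤ Cfsg.pCore p ↥L ∧ L ⊓ Subgroup.normalizer (((Cfsg.largestPReducedOf p M) : Subgroup G) : Set G) < L ∧ ∀ X : Subgroup G, (Cfsg.largestPReducedOf p M) ≤ X → X < L → X ≤ L ⊓ Subgroup.normalizer (((Cfsg.largestPReducedOf p M) : Subgroup G) : Set G)) ∧ (∀ V W' : Subgroup G, V ≤ (Cfsg.pCoreOf p H) → H ≤ Subgroup.normalizer ((V : Subgroup G) : Set G) → H ≤ Subgroup.normalizer ((W' : Subgroup G) : Set G) → W' < V → (∀ Z' : Subgroup G, H ≤ Subgroup.normalizer ((Z' : Subgroup G) : Set G) → W' ≤ Z' → Z' ≤ V → Z' = W' ∨ Z' = V) → ¬ ⁅V, H⁆ ≤ W' → ¬ ⁅V, ((Cfsg.pResidual p ↥L).map (L).subtype)⁆ ≤ W') ∧ (Subgroup.normalClosure (((((Cfsg.pCoreOf p L) ⊓ (Cfsg.largestPReducedOf p M)).subgroupOf L : Subgroup ↥L)) : Set ↥L)).map L.subtype ≤ (Cfsg.pCoreOf p H) := by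
  classical
  set Y := Cfsg.largestPReducedOf p M with hYdef
  set O := Cfsg.pCoreOf p M
  have d : LocalFrakHMin46.Data p M H L S :=
    ⟨⟨(Cfsg.Agent.S2845.result Q hQp hQ1 hQ).2.2, hSM, hM⟩, hasym, hH, hLH, hYL, hYO, hmin⟩
  set N := L ⊓ normalizer (Y : Set G)
  have hYN : Y ≤ N := le_inf hYL le_normalizer
  have hprop : ∀ X : Subgroup G, Y ≤ X → X < L → X ≤ N := fun X h1 h2 =>
    le_inf h2.le (d.le_normalizer_of_proper h2.le h1 h2.ne)
  have hproper : ∀ K : Subgroup ↥L, Y.subgroupOf L ≤ K → K ≠ ⊤ → K ≤ N.subgroupOf L := by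
    intro K hK hne
    have h1 : Y ≤ K.map L.subtype := fun y hy => ⟨⟨y, hYL hy⟩, hK hy, rfl⟩
    have h2 : K.map L.subtype < L := by
      refine lt_of_le_of_ne (map_subtype_le K) fun e => hne ?_
      rw [← comap_map_eq_self_of_injective L.subtype_injective K, e]
      exact subgroupOf_self L
    exact fun k hk => hprop _ h1 h2 ⟨k, hk, rfl⟩
  refine ⟨⟨d.sup_eq, fun h hh hn => d.conj_sup_eq hh hn⟩, ⟨⟨?_, ?_⟩, d.charP, d.inf_lt, hprop⟩, ?_, ?_⟩
  · apply map_injective L.subtype_injective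
    rw [LocalFrakHProps43.normalClosure_map_eq hYL, d.closure_eq, ← MonoidHom.range_eq_map,
      range_subtype]
  · have hNne : N.subgroupOf L ≠ ⊤ := fun e => d.inf_lt.not_ge (subgroupOf_eq_top.mp e)
    refine ⟨N.subgroupOf L, ⟨⟨hNne, fun K hK => ?_⟩, fun y hy => hYN hy⟩, fun K hK => ?_⟩
    · by_contra hne
      exact hK.not_ge (hproper K (le_trans (fun y hy => hYN hy) hK.le) hne)
    · exact (hproper K hK.2 hK.1.1).eq_or_lt.resolve_right fun hlt => hNne (hK.1.2 _ hlt)
  · intro V W' hVR hVn hWn hWV hchief hnc hres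
    apply hnc
    have hVH : V ≤ H := hVR.trans (LocalBasics.pCoreOf_le p H)
    set R := LocalFrakHProps43.residOf p L
    -- the elements acting trivially on `V / W'`
    let C : Subgroup G :=
      { carrier := {g | g ∈ H ∧ ∀ v ∈ V, g * v * g⁻¹ * v⁻¹ ∈ W'}
        one_mem' := ⟨one_mem _, fun v _ => by simp⟩
        mul_mem' := by
          rintro a b ⟨ha, a1⟩ ⟨hb, b1⟩
          refine ⟨mul_mem ha hb, fun v hv => ?_⟩
          rw [show a * b * v * (a * b)⁻¹ * v⁻¹ =
            (a * (b * v * b⁻¹) * a⁻¹ * (b * v * b⁻¹)⁻¹) * (b * v * b⁻¹ * v⁻¹) by group]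
          exact mul_mem (a1 _ (LocalBasics.conj_mem_of_le_normalizer hVn hb hv)) (b1 v hv)
        inv_mem' := by
          rintro a ⟨ha, a1⟩
          refine ⟨inv_mem ha, fun v hv => ?_⟩
          have := inv_mem (a1 _ (LocalBasics.conj_mem_of_le_normalizer hVn (inv_mem ha) hv))
          simpa [mul_assoc] using this }
    have hCn : H ≤ normalizer (C : Set G) := LocalBasics.le_normalizer_of_conj fun g hg a ha => by
      refine ⟨mul_mem (mul_mem hg ha.1) (inv_mem hg), fun v hv => ?_⟩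
      have hv' : g⁻¹ * v * g ∈ V := by
        simpa using LocalBasics.conj_mem_of_le_normalizer hVn (inv_mem hg) hv
      rw [show g * a * g⁻¹ * v * (g * a * g⁻¹)⁻¹ * v⁻¹ =
        g * (a * (g⁻¹ * v * g) * a⁻¹ * (g⁻¹ * v * g)⁻¹) * g⁻¹ by group]
      exact LocalBasics.conj_mem_of_le_normalizer hWn hg (ha.2 _ hv')
    have hRC : R ≤ C := fun r hr => ⟨hLH (map_subtype_le _ hr), fun v hv => by
      have h1 := inv_mem (hres (commutator_mem_commutator hv hr))
      rw [commutatorElement_def] at h1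
      simpa [mul_assoc] using h1⟩
    -- `L = O^p(L) Y`
    have hRY : L ≤ R ⊔ Y := by
      by_contra hne
      set K : Subgroup ↥L := (R ⊔ Y).subgroupOf L
      have hRK : Cfsg.pResidual p ↥L ≤ K := fun x hx => mem_sup_left (show (x : G) ∈ R from ⟨x, hx, rfl⟩)
      have hKt : K.map (QuotientGroup.mk' (Cfsg.pResidual p ↥L)) ≠ ⊤ := by
        intro e
        have e' := congrArg (Subgroup.comap (QuotientGroup.mk' (Cfsg.pResidual p ↥L))) e
        rw [comap_map_eq, QuotientGroup.ker_mk', sup_eq_left.mpr hRK, comap_top] at e'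
        exact hne (subgroupOf_eq_top.mp e')
      obtain ⟨K', hKc, hKK⟩ := PGroupsBasic.exists_isCoatom_ge hKt
      haveI := PGroupsBasic.normal_of_isCoatom
        (TransferPResidual.isPGroup_quotient_pResidual (G := ↥L) (p := p)) hKc
      set P := (K'.comap (QuotientGroup.mk' (Cfsg.pResidual p ↥L))).map L.subtype
      have hP : L ≤ P := by
        conv_lhs => rw [← d.closure_eq]
        exact LocalPReduced57.conjClosure_le
          (fun y hy => ⟨⟨y, hYL hy⟩, hKK ⟨⟨y, hYL hy⟩, mem_sup_right hy, rfl⟩, rfl⟩)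
          (LocalBasics.le_normalizer_map_normal L _)
      refine hKc.1 ?_
      rw [← map_comap_eq_self_of_surjective (QuotientGroup.mk'_surjective _) K',
        ← map_top_of_surjective _ (QuotientGroup.mk'_surjective (Cfsg.pResidual p ↥L))]
      congr 1
      refine eq_top_iff.mpr fun x _ => ?_
      obtain ⟨z, hz, he⟩ := hP x.2
      exact (Subtype.ext he : z = x) ▸ hz
    have hHCO : H ≤ C ⊔ O := by
      rw [← d.sup_eq]
      exact sup_le (hRY.trans (sup_le (hRC.trans le_sup_left)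
        (d.ctx.largest_le_pCoreOf.trans le_sup_right))) le_sup_right
    -- a nontrivial element of `V / W'` fixed by `O`
    set T := V ⊔ O
    have hT : IsPGroup p ↥T := ((LocalBasics.isPGroup_pCoreOf p H).to_le hVR).to_sup_of_normal_left'
      (LocalBasics.isPGroup_pCoreOf p M) (hH.2.1.trans hVn)
    have hTH : T ≤ H := sup_le hVH hH.2.1
    haveI := LocalBasics.normal_subgroupOf_of_le (hTH.trans hWn)
    haveI hVT := LocalBasics.normal_subgroupOf_of_le (hTH.trans hVn)
    set q := QuotientGroup.mk' (W'.subgroupOf T)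
    haveI : ((V.subgroupOf T).map q).Normal := hVT.map q (QuotientGroup.mk'_surjective _)
    have hne : (V.subgroupOf T).map q ≠ ⊥ := by
      intro e
      refine hWV.not_ge fun v hv => ?_
      have h1 : q ⟨v, mem_sup_left hv⟩ ∈ (V.subgroupOf T).map q := mem_map_of_mem q hv
      rw [e, mem_bot] at h1
      exact (QuotientGroup.eq_one_iff (⟨v, mem_sup_left hv⟩ : ↥T)).mp h1
    obtain ⟨z, ⟨hzV, hzc⟩, hz1⟩ := (bot_or_exists_ne_one _).resolve_left
      (PGroupsBasic.inf_center_ne_bot (hT.to_quotient _) hne)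
    obtain ⟨t, ht, rfl⟩ := hzV
    -- the fixed points of `H` on `V / W'` fill `V`
    let Z : Subgroup G :=
      { carrier := {v | v ∈ V ∧ ∀ g ∈ H, g * v * g⁻¹ * v⁻¹ ∈ W'}
        one_mem' := ⟨one_mem _, fun g _ => by simp⟩
        mul_mem' := by
          rintro a b ⟨ha, a1⟩ ⟨hb, b1⟩
          refine ⟨mul_mem ha hb, fun g hg => ?_⟩
          rw [show g * (a * b) * g⁻¹ * (a * b)⁻¹ =
            (g * a * g⁻¹ * a⁻¹) * (a * (g * b * g⁻¹ * b⁻¹) * a⁻¹) by group]
          exact mul_mem (a1 g hg) (LocalBasics.conj_mem_of_le_normalizer hWn (hVH ha) (b1 g hg))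
        inv_mem' := by
          rintro a ⟨ha, a1⟩
          refine ⟨inv_mem ha, fun g hg => ?_⟩
          rw [show g * a⁻¹ * g⁻¹ * a⁻¹⁻¹ = a⁻¹ * (g * a * g⁻¹ * a⁻¹)⁻¹ * a⁻¹⁻¹ by group]
          exact LocalBasics.conj_mem_of_le_normalizer hWn (hVH (inv_mem ha)) (inv_mem (a1 g hg)) }
    have hZn : H ≤ normalizer (Z : Set G) := LocalBasics.le_normalizer_of_conj fun h hh v hv => by
      refine ⟨LocalBasics.conj_mem_of_le_normalizer hVn hh hv.1, fun g hg => ?_⟩
      have h1 := hv.2 _ (mul_mem (mul_mem (inv_mem hh) hg) hh)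
      rw [show g * (h * v * h⁻¹) * g⁻¹ * (h * v * h⁻¹)⁻¹ =
        h * (h⁻¹ * g * h * v * (h⁻¹ * g * h)⁻¹ * v⁻¹) * h⁻¹ by group]
      exact LocalBasics.conj_mem_of_le_normalizer hWn hh h1
    have hWZ : W' ≤ Z := fun w hw => ⟨hWV.le hw, fun g hg =>
      mul_mem (LocalBasics.conj_mem_of_le_normalizer hWn hg hw) (inv_mem hw)⟩
    have htZ : (t : G) ∈ Z := by
      refine ⟨ht, fun g hg => ?_⟩
      have hgen : H ≤ ({ carrier := {g | g ∈ H ∧ g * (t : G) * g⁻¹ * (t : G)⁻¹ ∈ W'}
                         one_mem' := ⟨one_mem _, by simp⟩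
                         mul_mem' := by
                           rintro a b ⟨ha, a1⟩ ⟨hb, b1⟩
                           refine ⟨mul_mem ha hb, ?_⟩
                           rw [show a * b * (t : G) * (a * b)⁻¹ * (t : G)⁻¹ =
                             a * (b * t * b⁻¹ * (t : G)⁻¹) * a⁻¹ * (a * t * a⁻¹ * (t : G)⁻¹) by group]
                           exact mul_mem (LocalBasics.conj_mem_of_le_normalizer hWn ha b1) a1
                         inv_mem' := by
                           rintro a ⟨ha, a1⟩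
                           refine ⟨inv_mem ha, ?_⟩
                           have := LocalBasics.conj_mem_of_le_normalizer hWn (inv_mem ha) (inv_mem a1)
                           simpa [mul_assoc] using this } : Subgroup G) := by
        refine hHCO.trans (sup_le (fun c hc => ⟨hc.1, hc.2 _ ht⟩) fun o ho => ⟨hH.2.1 ho, ?_⟩)
        have h1 : q ⟨o, mem_sup_right ho⟩ * q t = q t * q ⟨o, mem_sup_right ho⟩ :=
          Subgroup.mem_center_iff.mp hzc _
        have h2 : q (⟨o, mem_sup_right ho⟩ * t * (⟨o, mem_sup_right ho⟩ : ↥T)⁻¹ * t⁻¹) = 1 := by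
          rw [map_mul, map_mul, map_mul, h1, map_inv, map_inv]
          group
        exact (QuotientGroup.eq_one_iff ((⟨o, mem_sup_right ho⟩ : ↥T) * t * (⟨o, mem_sup_right ho⟩ : ↥T)⁻¹ * t⁻¹)).mp h2
      exact (hgen hg).2
    have hZV : Z = V := by
      refine (hchief Z hZn hWZ fun v hv => hv.1).resolve_left fun e => hz1 ?_
      exact (QuotientGroup.eq_one_iff t).mpr (e ▸ htZ : (t : G) ∈ W')
    rw [commutator_le]
    intro v hv g hg
    have hv' : v ∈ Z := hZV.ge hv
    have := inv_mem (hv'.2 g hg)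
    rw [commutatorElement_def]
    simpa [mul_assoc] using this
  · rw [LocalFrakHProps43.normalClosure_map_eq (inf_le_right.trans hYL)]
    exact LocalPReduced57.conjClosure_le d.inf_core_le (hLH.trans d.Rn)


end Cfsg.Agent.S2862
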