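import Cfsg.Statements.S2863
import Cfsg.Agent.Lib.FrakLCases43

set_option autoImplicit false
open Cfsg

namespace Cfsg.Agent.S2863

/-- Standing hypotheses: G a finite group, S a Sylow p-subgroup, Q a nontrivial large p-subgroup of G contained in S, M a subgroup containing S with the basic property (M ∈ 𝔐_G(S)); Y_M the largest p-reduced normal subgroup of M and M† = M·C_G(Y_M). Let L ∈ 𝔏_G(Y_M) (L ∈ 𝔏_G(Y_M): Y_M ≤ L; O_p(L) is the normal closure in L of Y_M ∩ O_p(L) and normalizes Y_M; L is Y_M-minimal of characteristic p with N_L(Y_M) its unique maximal subgroup over Y_M; and L/O_p(L) ≅ SL₂(q) with q = |Y_M : Y_M ∩ O_p(L)|, or p = 2 and L/O_p(L) is a Suzuki group Sz(q) or dihedral of order 2r, r an odd prime), A = O_p(L), and C = C_{Y_M}(L). Then every element h of L whose order is not a power of p acts without nontrivial fixed points on A/C: for a ∈ A, hah⁻¹a⁻¹ ∈ C implies a ∈ C. -/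
theorem result {G : Type*} [Group G] [Finite G] {p : ℕ} [Fact p.Prime] (S : Sylow p G) (Q : Subgroup G) (hQp : IsPGroup p ↥Q) (hQ1 : Q ≠ ⊥) (hQS : Q ≤ (S : Subgroup G)) (hQ : Cfsg.IsLarge Q) (M : Subgroup G) (hSM : (S : Subgroup G) ≤ M) (hM : Cfsg.IsInFrakM p M) (L : Subgroup G) (hL : Cfsg.IsInFrakL p M L) (h : G) (hh : h ∈ L) (hnp : ¬ ∃ k : ℕ, orderOf h = p ^ k) : ∀ a ∈ (Cfsg.pCoreOf p L), h * a * h⁻¹ * a⁻¹ ∈ (Cfsg.largestPReducedOf p M) ⊓ Subgroup.centralizer ((L : Subgroup G) : Set G) → a ∈ (Cfsg.largestPReducedOf p M) ⊓ Subgroup.centralizer ((L : Subgroup G) : Set G) := by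
  obtain ⟨hYL, hcl, hnorm, hgen, _, ⟨hlt, hmax⟩, hq⟩ := hL
  set Y := Cfsg.largestPReducedOf p M with hY
  have hAL : Cfsg.pCoreOf p L ≤ L := Subgroup.map_subtype_le _
  have hRY : ((Y ⊓ Cfsg.pCoreOf p L).subgroupOf L) = Y.subgroupOf L ⊓ Cfsg.pCore p ↥L := by
    ext k
    simp [Subgroup.mem_subgroupOf, Cfsg.pCoreOf]
  have hnY : Subgroup.normalizer ((Y.subgroupOf L : Subgroup ↥L) : Set ↥L) =
      (Subgroup.normalizer (Y : Set G)).subgroupOf L := by
    ext k
    simp only [Subgroup.mem_subgroupOf, Subgroup.mem_normalizer_iff]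
    refine ⟨fun hk z => ⟨fun hz => ?_, fun hz => ?_⟩, fun hk z => hk z⟩
    · exact (hk ⟨z, hYL hz⟩).mp hz
    · have hzL : z ∈ L := by
        simpa [mul_assoc] using mul_mem (mul_mem (inv_mem k.2) (hYL hz)) k.2
      exact (hk ⟨z, hzL⟩).mpr hz
  have hel := (LocalPReduced57.red_largest p M).2.2.1
  rw [← hY] at hel
  have S' : FrakLSplit43.Setting p (Y.subgroupOf L) := by
    refine ⟨⟨⟨⟨fun a b => Subtype.ext (Subtype.ext ?_)⟩⟩, fun a ha => Subtype.ext ?_⟩, ?_, ?_, hgen.1,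
      ?_, ?_⟩
    · exact LocPReduced56.comm_of_elementary hel a.2 b.2
    · simpa using hel.2 (a : G) ha
    · rw [hnY]
      intro k hk
      exact hnorm ⟨k, hk, rfl⟩
    · have := congrArg (Subgroup.comap L.subtype) hcl
      rw [Cfsg.pCoreOf, Subgroup.comap_map_eq_self_of_injective L.subtype_injective,
        Subgroup.comap_map_eq_self_of_injective L.subtype_injective] at this
      rw [← hRY]
      exact this
    · rw [hnY]
      intro e
      exact hlt.ne (inf_eq_left.mpr (Subgroup.subgroupOf_eq_top.mp e))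
    · intro X hX hXne
      rw [hnY]
      intro k hk
      have h1 : Y ≤ X.map L.subtype := by
        intro y hy
        exact ⟨⟨y, hYL hy⟩, hX hy, rfl⟩
      have h2 : X.map L.subtype < L := by
        refine lt_of_le_of_ne (Subgroup.map_subtype_le _) fun e => hXne ?_
        have := congrArg (Subgroup.comap L.subtype) e
        rwa [Subgroup.comap_map_eq_self_of_injective L.subtype_injective,
          ← Subgroup.subgroupOf, Subgroup.subgroupOf_self] at this
      exact (Subgroup.mem_inf.mp (hmax _ h1 h2 ⟨k, hk, rfl⟩)).2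
  have hrel : (Y ⊓ Cfsg.pCoreOf p L).relIndex Y =
      (Y.subgroupOf L ⊓ Cfsg.pCore p ↥L).relIndex (Y.subgroupOf L) := by
    rw [← hRY, ← Subgroup.relIndex_map_map_of_injective _ _ L.subtype_injective,
      Subgroup.map_subgroupOf_eq_of_le hYL, Subgroup.map_subgroupOf_eq_of_le (inf_le_left.trans hYL)]
  rw [hrel] at hq
  have mk : ∀ {Q : Type} [Group Q], Nonempty (↥L ⧸ Cfsg.pCore p ↥L ≃* Q) →
      ∃ π : ↥L →* Q, Function.Surjective π ∧ π.ker = Cfsg.pCore p ↥L := fun ⟨e⟩ =>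
    ⟨e.toMonoidHom.comp (QuotientGroup.mk' _),
      e.surjective.comp (QuotientGroup.mk'_surjective _),
      (MonoidHom.ker_mulEquiv_comp _ e).trans (QuotientGroup.ker_mk' _)⟩
  intro a ha hC
  obtain ⟨a', ha', rfl⟩ := Subgroup.mem_map.mp ha
  have hfix : ∀ c : ↥L, c ∈ FrakLSplit43.fixedPart (Y.subgroupOf L) ↔
      (c : G) ∈ Y ⊓ Subgroup.centralizer (L : Set G) := by
    intro c
    rw [FrakLSplit43.mem_fixedPart, Subgroup.mem_inf, Subgroup.mem_centralizer_iff,
      Subgroup.mem_subgroupOf]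
    refine and_congr_right fun _ => ⟨fun hc l hl => congrArg Subtype.val (hc ⟨l, hl⟩),
      fun hc l => Subtype.ext (hc l l.2)⟩
  refine (hfix a').mp (FrakLCases43.fixed_point_free S' ?_ (g := ⟨h, hh⟩) ?_ ha' ?_)
  · rcases hq with ⟨F, iF, iFt, hc, he⟩ | ⟨hp, F, iF, iFt, m, hF, hc, he⟩ | ⟨hp, r, hr, hr2, he⟩
    · exact Or.inl ⟨F, iF, iFt, hc, mk he⟩
    · exact Or.inr (Or.inl ⟨hp, F, iF, iFt, m, hF, hc, mk he⟩)
    · exact Or.inr (Or.inr ⟨hp, r, hr, hr2, mk he⟩)
  · intro ⟨k, hk⟩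
    refine hnp ⟨k, ?_⟩
    rw [← hk, Subgroup.orderOf_mk]
  · exact (hfix _).mpr (by simpa using hC)

end Cfsg.Agent.S2863
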