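import Cfsg.Statements.S2864
import Mathlib
import Cfsg.Agent.Lib.LocalFrakM57
import Cfsg.Agent.S2845
import Cfsg.Agent.Lib.CoprimeAction
import Cfsg.Agent.Lib.LocCoprime56
import Cfsg.Agent.Lib.PGroupsBasic

set_option autoImplicit false
open Cfsg
open Cfsg.Agent
open scoped commutatorElement

namespace Cfsg.Agent.S2864

theorem isSubnormal_nilpotent {H : Type*} [Group H] [Finite H] [Group.IsNilpotent H]
    (K : Subgroup H) : K.IsSubnormal := by
  induction K using WellFoundedGT.induction with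
  | _ K ih =>
    rcases eq_or_ne K ⊤ with rfl | hne
    · exact Subgroup.IsSubnormal.top
    · exact Subgroup.IsSubnormal.step K _ Subgroup.le_normalizer
        (ih _ (Group.normalizerCondition_of_isNilpotent _ (lt_top_iff_ne_top.mpr hne)))
        Subgroup.normal_in_normalizer

/-- Standing hypotheses: G a finite group, S a Sylow p-subgroup, Q a nontrivial large p-subgroup of G contained in S, M a subgroup containing S with the basic property (M ∈ 𝔐_G(S)); Y_M the largest p-reduced normal subgroup of M and M† = M·C_G(Y_M). Let I be a nontrivial normal p-subgroup of M and Y ≤ O_p(M†); let L be a subgroup of G containing Y and A a normal p-subgroup of L with I ≤ A ≤ M. If [Y, A] ≤ [I, A], then Y ≤ O_p(L). -/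
theorem result {G : Type*} [Group G] [Finite G] {p : ℕ} [Fact p.Prime] (S : Sylow p G) (Q : Subgroup G) (hQp : IsPGroup p ↥Q) (hQ1 : Q ≠ ⊥) (hQS : Q ≤ (S : Subgroup G)) (hQ : Cfsg.IsLarge Q) (M : Subgroup G) (hSM : (S : Subgroup G) ≤ M) (hM : Cfsg.IsInFrakM p M) (I : Subgroup G) (hI1 : I ≠ ⊥) (hIp : IsPGroup p ↥I) (hIM : I ≤ M ∧ M ≤ Subgroup.normalizer ((I : Subgroup G) : Set G)) (Y : Subgroup G) (hY : Y ≤ (Cfsg.pCoreOf p (M ⊔ Subgroup.centralizer (((Cfsg.largestPReducedOf p M) : Subgroup G) : Set G)))) (L : Subgroup G) (hYL : Y ≤ L) (A : Subgroup G) (hAp : IsPGroup p ↥A) (hAL : A ≤ L ∧ L ≤ Subgroup.normalizer ((A : Subgroup G) : Set G)) (hIA : I ≤ A) (hAM : A ≤ M) (hc : ⁅Y, A⁆ ≤ ⁅I, A⁆) : Y ≤ (Cfsg.pCoreOf p L) := by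
  obtain ⟨hIM1, hMI⟩ := hIM
  obtain ⟨hAL1, hLA⟩ := hAL
  set C₀ := Subgroup.centralizer ((Cfsg.largestPReducedOf p M : Subgroup G) : Set G)
  set Md := M ⊔ C₀
  -- `N(I) ≤ M†`
  have hNI : Subgroup.normalizer (I : Set G) ≤ Md := by
    have hNL := LocalFrakM57.mem_of_parabolic (Cfsg.Agent.S2845.result Q hQp hQ1 hQ).2.2 S
      (hSM.trans hMI) hIp hI1 le_rfl
    obtain ⟨X, ⟨hX, hle⟩, hmax⟩ := (Set.toFinite {X : Subgroup G |
      X ∈ Cfsg.charPSubgroups p G ∧ Subgroup.normalizer (I : Set G) ≤ X}).exists_maximal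
      ⟨_, hNL, le_rfl⟩
    have := hM.2.2.1 X ⟨hX, fun Z hZ hXZ => le_antisymm (hmax ⟨hZ, hle.trans hXZ⟩ hXZ) hXZ⟩
      (hMI.trans hle)
    exact hle.trans this.le
  set D := ⁅A, A⁆
  have hDA : D ≤ A := Subgroup.commutator_le.mpr fun a ha b hb =>
    mul_mem (mul_mem (mul_mem ha hb) (inv_mem ha)) (inv_mem hb)
  have hLD : L ≤ Subgroup.normalizer (D : Set G) := by
    refine LocalBasics.le_normalizer_of_conj fun x hx d hd => ?_
    have h1 : D ≤ D.comap (MulAut.conj x).toMonoidHom := Subgroup.commutator_le.mpr fun a ha b hb => by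
      rw [Subgroup.mem_comap, map_commutatorElement]
      exact Subgroup.commutator_mem_commutator (LocalBasics.conj_mem_of_le_normalizer hLA hx ha)
        (LocalBasics.conj_mem_of_le_normalizer hLA hx hb)
    exact h1 hd
  have hD' : D ≤ (frattini ↥A).map A.subtype :=
    (Subgroup.map_subtype_commutator A).ge.trans (Subgroup.map_mono (PGroupsBasic.commutator_le_frattini hAp))
  -- the kernel of `L` on `A / [A,A]`
  let K : Subgroup G :=
    { carrier := {x | x ∈ L ∧ ∀ a ∈ A, x * a * x⁻¹ * a⁻¹ ∈ D}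
      one_mem' := ⟨one_mem _, fun a _ => by simp⟩
      mul_mem' := by
        rintro x y ⟨hx, hx'⟩ ⟨hy, hy'⟩
        refine ⟨mul_mem hx hy, fun a ha => ?_⟩
        rw [show x * y * a * (x * y)⁻¹ * a⁻¹ =
          (x * (y * a * y⁻¹ * a⁻¹) * x⁻¹) * (x * a * x⁻¹ * a⁻¹) by group]
        exact mul_mem (LocalBasics.conj_mem_of_le_normalizer hLD hx (hy' a ha)) (hx' a ha)
      inv_mem' := by
        rintro x ⟨hx, hx'⟩
        refine ⟨inv_mem hx, fun a ha => ?_⟩
        have hb : x⁻¹ * a * x ∈ A := by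
          simpa using LocalBasics.conj_mem_of_le_normalizer hLA (inv_mem hx) ha
        rw [show x⁻¹ * a * x⁻¹⁻¹ * a⁻¹ =
          (x * (x⁻¹ * a * x) * x⁻¹ * (x⁻¹ * a * x)⁻¹)⁻¹ by group]
        exact inv_mem (hx' _ hb) }
  have hKL : K ≤ L := fun x hx => hx.1
  have hLK : L ≤ Subgroup.normalizer (K : Set G) := by
    refine LocalBasics.le_normalizer_of_conj fun g hg x hx =>
      ⟨mul_mem (mul_mem hg hx.1) (inv_mem hg), fun a ha => ?_⟩
    have hb : g⁻¹ * a * g ∈ A := by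
      simpa using LocalBasics.conj_mem_of_le_normalizer hLA (inv_mem hg) ha
    rw [show g * x * g⁻¹ * a * (g * x * g⁻¹)⁻¹ * a⁻¹ =
      g * (x * (g⁻¹ * a * g) * x⁻¹ * (g⁻¹ * a * g)⁻¹) * g⁻¹ by group]
    exact LocalBasics.conj_mem_of_le_normalizer hLD hg (hx.2 _ hb)
  have hYK : Y ≤ K := fun y hy => ⟨hYL hy, fun a ha => by
    have := (hc.trans (Subgroup.commutator_mono hIA le_rfl))
      (Subgroup.commutator_mem_commutator hy ha)
    rwa [commutatorElement_def] at this⟩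
  set Z := Subgroup.centralizer (A : Set G)
  have hpow : ∀ x ∈ K, ∃ k : ℕ, x ^ p ^ k ∈ Z := by
    intro x hx
    obtain ⟨k, hk⟩ := LocCoprime56.exists_coprime_pow (p := p) x
    refine ⟨k, CoprimeAction.le_centralizer_of_frattini (A := Subgroup.zpowers (x ^ p ^ k)) (K := A)
      ?_ ?_ ?_ (Subgroup.mem_zpowers _)⟩
    · exact (Subgroup.zpowers_le.mpr (pow_mem hx.1 _)).trans hLA
    · obtain ⟨n, hn⟩ := IsPGroup.iff_card.mp (hAp.to_subgroup (frattini ↥A))
      rw [hn, Nat.card_zpowers]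
      exact hk.pow_right n
    · intro a ha b hb
      exact hD' (((Subgroup.zpowers_le.mpr (pow_mem hx (p ^ k))) ha).2 b hb)
  haveI hZn : (Z.subgroupOf K).Normal := LocalBasics.normal_subgroupOf_of_le
    (LocalBasics.le_normalizer_centralizer (hKL.trans hLA))
  have hQp' : IsPGroup p (↥K ⧸ Z.subgroupOf K) := by
    intro x
    obtain ⟨y, rfl⟩ := QuotientGroup.mk_surjective x
    obtain ⟨k, hk⟩ := hpow y y.2
    exact ⟨k, by rw [← QuotientGroup.mk_pow, QuotientGroup.eq_one_iff]; exact hk⟩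
  haveI := hQp'.isNilpotent
  set W := Y.subgroupOf K ⊔ Z.subgroupOf K
  have hW : W.IsSubnormal := by
    have h1 := (isSubnormal_nilpotent (W.map (QuotientGroup.mk' (Z.subgroupOf K)))).comap
      (QuotientGroup.mk' (Z.subgroupOf K))
    rwa [Subgroup.comap_map_eq, QuotientGroup.ker_mk',
      sup_eq_left.mpr (le_sup_right : Z.subgroupOf K ≤ W)] at h1
  set W' := W.map K.subtype with hW'
  have hW'Md : W' ≤ Md := by
    rw [hW', Subgroup.map_sup, Subgroup.map_subgroupOf_eq_of_le hYK]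
    refine sup_le (hY.trans (LocalBasics.pCoreOf_le p _)) ?_
    rintro _ ⟨z, hz, rfl⟩
    refine hNI (LocalBasics.centralizer_le_normalizer I ?_)
    exact fun i hi => hz i (hIA hi)
  have h1 : Y ≤ Cfsg.pCoreOf p W' := fun y hy => LocalBasics.pCoreOf_inf_le p hW'Md
    ⟨hY hy, ⟨⟨y, hYK hy⟩, Subgroup.mem_sup_left hy, rfl⟩⟩
  have hK' : (K.subgroupOf L).Normal := LocalBasics.normal_subgroupOf_of_le hLK
  refine h1.trans (le_trans ?_ (LocalLarge57.pCoreOf_le_pCoreOf hKL hLK))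
  intro x hx
  obtain ⟨w, hw, rfl⟩ : x ∈ W.map K.subtype := LocalBasics.pCoreOf_le p _ hx
  have hR : (Cfsg.pCoreOf p W').subgroupOf K ≤ Cfsg.pCoreOf p W := by
    have hRW : (Cfsg.pCoreOf p W').subgroupOf K ≤ W := by
      intro z hz
      obtain ⟨w', hw', he⟩ := LocalBasics.pCoreOf_le p W' hz
      exact (Subtype.ext he : w' = z) ▸ hw'
    refine LocalBasics.le_pCoreOf hRW (LocalBasics.le_normalizer_of_conj fun z hz r hr => ?_)
      ((LocalBasics.isPGroup_pCoreOf p W').comap_subtype)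
    exact LocalBasics.conj_mem_of_le_normalizer (LocalBasics.le_normalizer_pCoreOf p W')
      ⟨z, hz, rfl⟩ hr
  exact ⟨w, LocalBasics.pCoreOf_le_of_subnormal p hW (hR hx), rfl⟩

end Cfsg.Agent.S2864
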