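import Cfsg.Statements.S2872
import Cfsg.Agent.Lib.TransferFixed
import Cfsg.Agent.Lib.TransferThompson
import Cfsg.Agent.Lib.TransferTate

set_option autoImplicit false
open Cfsg

namespace Cfsg.Agent.S2872

/-- Let S be a Sylow 2-subgroup of the finite group G. Then G has a proper normal subgroup of 2-power index (O²(G) ≠ G), or Ω₁(Z(S)) is contained in the Frattini subgroup of S, or N_G(S) acts nontrivially on Ω₁(Z(S)) by conjugation. -/
theorem result {G : Type*} [Group G] [Finite G] (S : Sylow 2 G) : Cfsg.pResidual 2 G ≠ ⊤ ∨ Cfsg.omegaOne 2 ((S : Subgroup G) ⊓ Subgroup.centralizer ((S : Subgroup G) : Set G)) ≤ (frattini ↥(S : Subgroup G)).map (S : Subgroup G).subtype ∨ ∃ g ∈ Subgroup.normalizer ((S : Subgroup G) : Set G), ∃ z ∈ Cfsg.omegaOne 2 ((S : Subgroup G) ⊓ Subgroup.centralizer ((S : Subgroup G) : Set G)), g * z * g⁻¹ ≠ z := by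
  classical
  rw [or_iff_not_imp_left, not_not]
  intro htop
  rw [or_iff_not_imp_left]
  intro hne
  by_contra hno
  push Not at hno
  have hgen : ¬ ({x : G | x ∈ (S : Subgroup G) ⊓ Subgroup.centralizer ((S : Subgroup G) : Set G) ∧ x ^ 2 = 1} ⊆
      ((frattini ↥(S : Subgroup G)).map (S : Subgroup G).subtype : Set G)) := fun h =>
    hne ((Subgroup.closure_le _).mpr h)
  obtain ⟨z, ⟨hz, hz2⟩, hzF⟩ := Set.not_subset.mp hgen
  obtain ⟨hzS, hzc⟩ := Subgroup.mem_inf.mp hz
  -- a maximal subgroup avoiding `z`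
  obtain ⟨Q, hQc, hQz⟩ : ∃ Q : Subgroup (S : Subgroup G), IsCoatom Q ∧ (⟨z, hzS⟩ : (S : Subgroup G)) ∉ Q := by
    by_contra h
    push Not at h
    refine hzF ⟨⟨z, hzS⟩, ?_, rfl⟩
    rw [SetLike.mem_coe, frattini, Order.radical]
    simp only [Subgroup.mem_iInf]
    exact fun M hM => h M hM
  haveI : Group.IsNilpotent (S : Subgroup G) := S.isPGroup'.isNilpotent
  haveI hQn : Q.Normal :=
    Subgroup.NormalizerCondition.normal_of_coatom Q (normalizerCondition_of_isNilpotent (G := (S : Subgroup G))) hQc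
  have hQi : Q.index = 2 := by
    haveI : IsSimpleGroup ((S : Subgroup G) ⧸ Q) := by
      rw [isSimpleGroup_iff]
      refine ⟨?_, fun M _ => ?_⟩
      · exact QuotientGroup.nontrivial_iff.mpr hQc.1
      · rcases eq_or_lt_of_le (QuotientGroup.le_comap_mk' Q M) with h | h
        · left
          rw [← Subgroup.map_comap_eq_self_of_surjective (QuotientGroup.mk'_surjective Q) M, ← h,
            QuotientGroup.map_mk'_self]
        · right
          rw [← Subgroup.map_comap_eq_self_of_surjective (QuotientGroup.mk'_surjective Q) M, hQc.2 _ h,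
            Subgroup.map_top_of_surjective _ (QuotientGroup.mk'_surjective Q)]
    have hp := (S.isPGroup'.to_quotient Q)
    haveI := hp.isNilpotent
    haveI : IsCyclic ((S : Subgroup G) ⧸ Q) := inferInstance
    letI : CommGroup ((S : Subgroup G) ⧸ Q) := IsCyclic.commGroup
    obtain ⟨i, hi⟩ := IsPGroup.iff_card.mp hp
    have hprime : (Nat.card ((S : Subgroup G) ⧸ Q)).Prime := IsSimpleGroup.prime_card
    rw [hi] at hprime
    have : i = 1 := (Nat.Prime.pow_eq_iff hprime).mp rfl |>.2
    exact hi.trans (by rw [this, pow_one])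
  haveI : IsCyclic ((S : Subgroup G) ⧸ Q) := isCyclic_of_prime_card (p := 2) hQi
  letI : CommGroup ((S : Subgroup G) ⧸ Q) := IsCyclic.commGroup
  let ϕ : (S : Subgroup G) →* (S : Subgroup G) ⧸ Q := QuotientGroup.mk' Q
  have ha2 : ∀ a : (S : Subgroup G) ⧸ Q, a ^ 2 = 1 := fun a => by
    have h := pow_card_eq_one' (x := a)
    rwa [show Nat.card ((S : Subgroup G) ⧸ Q) = 2 from hQi] at h
  haveI : Fintype (G ⧸ (S : Subgroup G)) := Fintype.ofFinite _
  obtain ⟨e, he⟩ := IsPGroup.iff_orderOf.mp S.isPGroup' ⟨z, hzS⟩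
  rw [Subgroup.orderOf_mk] at he
  have hV := TransferFixed.transfer_eq_prod_fixedValue ϕ he (by
    intro g k hk h
    obtain ⟨j, rfl⟩ := hk
    have e : (⟨_, h⟩ : (S : Subgroup G)) = 1 := by
      apply Subtype.ext
      simp [pow_mul, hz2]
    rw [e, map_one])
  have hzS' : ∀ s : (S : Subgroup G), (s : G) * z = z * s := fun s =>
    Subgroup.mem_centralizer_iff.mp hzc s s.2
  have hinv : ∀ (s : (S : Subgroup G)) (q : G ⧸ (S : Subgroup G)),
      TransferFixed.fixedValue ϕ z (s • q) = TransferFixed.fixedValue ϕ z q := by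
    intro s q
    induction q using QuotientGroup.induction_on with
    | _ g =>
      change TransferFixed.fixedValue ϕ z (((s : G) * g : G) : G ⧸ (S : Subgroup G)) = _
      by_cases h : g⁻¹ * z * g ∈ (S : Subgroup G)
      · have e : ((s : G) * g)⁻¹ * z * ((s : G) * g) = g⁻¹ * z * g := by
          calc ((s : G) * g)⁻¹ * z * ((s : G) * g) = g⁻¹ * ((s : G)⁻¹ * (z * s)) * g := by group
            _ = g⁻¹ * z * g := by rw [← hzS']; group
        rw [TransferFixed.fixedValue_mk ϕ (e.symm ▸ h), TransferFixed.fixedValue_mk ϕ h]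
        congr 1
        exact Subtype.ext e
      · rw [TransferFixed.fixedValue_of_ne, TransferFixed.fixedValue_of_ne]
        · intro hf
          refine h ?_
          have := QuotientGroup.eq.mp (hf : ((z * g : G) : G ⧸ (S : Subgroup G)) = _).symm
          simpa [mul_assoc] using this
        · intro hf
          refine h ?_
          have h3 := QuotientGroup.eq.mp (hf : ((z * ((s : G) * g) : G) : G ⧸ (S : Subgroup G)) = _).symm
          simp only [smul_eq_mul] at h3
          rw [← mul_assoc z, ← hzS'] at h3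
          simpa [mul_assoc] using h3
  rw [TransferFixed.prod_eq_prod_fixed (S := (S : Subgroup G)) _ (fun q hq => by
    have hconst : ∀ b ∈ Finset.univ.filter (· ∈ MulAction.orbit (S : Subgroup G) q),
        TransferFixed.fixedValue ϕ z b = TransferFixed.fixedValue ϕ z q := by
      intro b hb
      obtain ⟨s, rfl⟩ := (Finset.mem_filter.mp hb).2
      exact hinv s q
    rw [Finset.prod_congr rfl hconst, Finset.prod_const]
    obtain ⟨i, hi⟩ := S.isPGroup'.card_orbit q
    have hcard : (Finset.univ.filter (· ∈ MulAction.orbit (S : Subgroup G) q)).card = 2 ^ i := by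
      rw [← hi, Nat.card_eq_fintype_card, ← Set.toFinset_card]
      congr 1
      ext; simp
    rcases i.eq_zero_or_pos with h0 | h0
    · refine absurd (fun s => ?_) hq
      rw [h0, pow_zero] at hcard
      exact Finset.card_le_one.mp hcard.le _ (by simp [MulAction.mem_orbit]) _ (by simp)
    · obtain ⟨c, hc⟩ := dvd_pow_self 2 h0.ne'
      rw [hcard, hc, pow_mul, ha2, one_pow])] at hV
  have hfix : ∀ q ∈ Finset.univ.filter
      (· ∈ MulAction.fixedPoints (S : Subgroup G) (G ⧸ (S : Subgroup G))),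
      TransferFixed.fixedValue ϕ z q = ϕ ⟨z, hzS⟩ := by
    intro q hq
    induction q using QuotientGroup.induction_on with
    | _ g =>
      have hg := TransferFixed.mem_normalizer_of_fixed S (Finset.mem_filter.mp hq).2
      have hgen' : z ∈ Cfsg.omegaOne 2 ((S : Subgroup G) ⊓ Subgroup.centralizer ((S : Subgroup G) : Set G)) :=
        Subgroup.subset_closure ⟨Subgroup.mem_inf.mpr ⟨hzS, hzc⟩, hz2⟩
      have h1 := hno g⁻¹ (inv_mem hg) z hgen'
      rw [inv_inv] at h1
      rw [TransferFixed.fixedValue_mk ϕ (g := g) (by rw [h1]; exact hzS)]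
      congr 1
      exact Subtype.ext h1
  rw [Finset.prod_congr rfl hfix, Finset.prod_const] at hV
  obtain ⟨c, hc⟩ : Odd (Finset.univ.filter
      (· ∈ MulAction.fixedPoints (S : Subgroup G) (G ⧸ (S : Subgroup G)))).card :=
    Nat.not_even_iff_odd.mp (fun h => TransferFixed.not_dvd_card_fixed S (even_iff_two_dvd.mp h))
  rw [hc, pow_succ, pow_mul, ha2, one_pow, one_mul] at hV
  have hzR : z ∈ Cfsg.pResidual 2 G := htop ▸ Subgroup.mem_top z
  have h1 := TransferPResidual.pResidual_le_ker (MonoidHom.transfer ϕ) (S.isPGroup'.to_quotient Q) hzR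
  rw [MonoidHom.mem_ker, hV] at h1
  exact hQz ((QuotientGroup.eq_one_iff _).mp h1)

end Cfsg.Agent.S2872
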