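import Cfsg.Statements.S2873
import Mathlib
import Cfsg.Agent.Lib.LocalLarge57
import Cfsg.Agent.Lib.LocalPReduced57
import Cfsg.Agent.Lib.HallCore

set_option autoImplicit false
open Cfsg
open Cfsg.Agent

namespace Cfsg.Agent.S2873

open Subgroup in
theorem conj_of_odd_product {G : Type*} [Group G] {a b : G} {r : ℕ} (hr : Odd r) (ha : a * a = 1)
    (hb : b * b = 1) (hy : (b * a) ^ r = 1) : ∃ g : G, g * a * g⁻¹ = b := by
  obtain ⟨m, hm⟩ := hr
  refine ⟨(b * a) ^ (m + 1), ?_⟩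
  have hinv : a * (b * a)⁻¹ * a⁻¹ = b * a := by
    rw [mul_inv_rev, inv_eq_of_mul_eq_one_left ha, inv_eq_of_mul_eq_one_left hb, ← mul_assoc a a b,
      ha, one_mul]
  have h1 : ∀ n : ℕ, a * ((b * a) ^ n)⁻¹ = (b * a) ^ n * a := by
    intro n
    rw [← inv_pow, ← mul_inv_eq_iff_eq_mul, ← conj_pow, hinv]
  rw [mul_assoc, h1, ← mul_assoc, ← pow_add, show m + 1 + (m + 1) = r + 1 by omega, pow_succ, hy,
    one_mul, mul_assoc, ha, mul_one]

/-- Let G be a finite group and r an odd prime such that G ⧸ O₂(G) is dihedral of order 2r, and let R be a Sylow r-subgroup of G with C_{O₂(G)}(R) = 1. Then N_G(R) is dihedral of order 2r; for any involution a of N_G(R), every involution of G outside O₂(G) is conjugate to a; and |C_{O₂(G)}(a)|² = |O₂(G)|. -/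
theorem result {G : Type*} [Group G] [Finite G] {r : ℕ} [Fact r.Prime] (hr : r ≠ 2) [hN : (Cfsg.pCore 2 G).Normal] (hquot : Nonempty (G ⧸ Cfsg.pCore 2 G ≃* DihedralGroup r)) (R : Sylow r G) (hC : Cfsg.pCore 2 G ⊓ Subgroup.centralizer ((R : Subgroup G) : Set G) = ⊥) : Nonempty (↥(Subgroup.normalizer ((R : Subgroup G) : Set G)) ≃* DihedralGroup r) ∧ ∀ a : G, a ∈ Subgroup.normalizer ((R : Subgroup G) : Set G) → orderOf a = 2 → (∀ b : G, orderOf b = 2 → b ∉ Cfsg.pCore 2 G → ∃ g : G, g * a * g⁻¹ = b) ∧ Nat.card ↥(Cfsg.pCore 2 G ⊓ Subgroup.centralizer ({a} : Set G)) ^ 2 = Nat.card ↥(Cfsg.pCore 2 G) := by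
  classical
  set O := Cfsg.pCore 2 G
  have hOp : IsPGroup 2 ↥O := HallCore.isPGroup_pCore 2 G
  let f := QuotientGroup.mk' O
  obtain ⟨e⟩ := hquot
  have hrp : r.Prime := Fact.out
  have hodd : Odd r := hrp.odd_of_ne_two hr
  have hcard : Nat.card (G ⧸ O) = 2 * r := by rw [Nat.card_congr e.toEquiv, DihedralGroup.nat_card]
  have hRO : (R : Subgroup G) ⊓ O = ⊥ := by
    haveI : Fact (Nat.Prime 2) := ⟨Nat.prime_two⟩
    exact disjoint_iff.mp (IsPGroup.disjoint_of_ne r 2 hr _ _ R.isPGroup' hOp)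
  set Rb := (R : Subgroup G).map f
  have hRb : Nat.card Rb = Nat.card (R : Subgroup G) := by
    refine (Nat.card_congr (Equiv.ofBijective (fun x : (R : Subgroup G) => (⟨f x, x, x.2, rfl⟩ : Rb)) ⟨?_, ?_⟩)).symm
    · intro x y hxy
      have : (x : G)⁻¹ * y ∈ (R : Subgroup G) ⊓ O := Subgroup.mem_inf.mpr
        ⟨mul_mem (inv_mem x.2) y.2, QuotientGroup.eq.mp (congrArg Subtype.val hxy)⟩
      rw [hRO, Subgroup.mem_bot, inv_mul_eq_one] at this
      exact Subtype.ext this
    · rintro ⟨_, x, hx, rfl⟩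
      exact ⟨⟨x, hx⟩, rfl⟩
  have hrdvd : r ∣ Nat.card G := (Dvd.intro_left 2 hcard.symm).trans (Subgroup.card_quotient_dvd_card O)
  have hRr : Nat.card (R : Subgroup G) = r := by
    obtain ⟨k, hk⟩ := IsPGroup.iff_card.mp R.isPGroup'
    have h1 : r ^ k ∣ 2 * r := hk ▸ hcard ▸ hRb ▸ Subgroup.card_subgroup_dvd_card Rb
    have hk0 : k ≠ 0 := by
      rintro rfl
      exact R.ne_bot_of_dvd_card hrdvd (Subgroup.card_eq_one.mp (by rw [hk, pow_zero]))
    have hk1 : k ≤ 1 := by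
      by_contra hlt
      have h2 : r ^ 2 ∣ 2 * r := (pow_dvd_pow r (by omega : 2 ≤ k)).trans h1
      rw [pow_two] at h2
      exact hr ((Nat.prime_dvd_prime_iff_eq hrp Nat.prime_two).mp (Nat.dvd_of_mul_dvd_mul_right hrp.pos h2))
    rw [hk, show k = 1 by omega, pow_one]
  set K := (R : Subgroup G) ⊔ O
  have hKf : K = Rb.comap f := by rw [Subgroup.comap_map_eq, QuotientGroup.ker_mk']
  have hKi : K.index = 2 := by
    rw [hKf, Subgroup.index_comap_of_surjective _ (QuotientGroup.mk'_surjective O)]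
    have h1 := Rb.card_mul_index
    rw [hRb, hRr, hcard, mul_comm 2 r] at h1
    exact Nat.eq_of_mul_eq_mul_left hrp.pos h1
  haveI hKn : K.Normal := Subgroup.normal_of_index_eq_two hKi
  set N := Subgroup.normalizer ((R : Subgroup G) : Set G)
  have hNO : N ⊔ O = ⊤ := by
    have h1 := Sylow.normalizer_sup_eq_top (R.subtype (le_sup_left : (R : Subgroup G) ≤ K))
    rw [Sylow.coe_subtype, Subgroup.map_subgroupOf_eq_of_le (le_sup_left : (R : Subgroup G) ≤ K)] at h1
    rw [← top_le_iff, ← h1]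
    exact sup_le le_sup_left (sup_le (Subgroup.le_normalizer.trans le_sup_left) le_sup_right)
  have hNinf : N ⊓ O = ⊥ := by
    refine le_bot_iff.mp (hC.le.trans' (le_inf inf_le_right fun n hn q hq => ?_))
    have h1 : n * q * n⁻¹ * q⁻¹ ∈ (R : Subgroup G) ⊓ O := by
      refine Subgroup.mem_inf.mpr ⟨mul_mem (LocalBasics.conj_mem_of_le_normalizer le_rfl hn.1 hq) (inv_mem hq), ?_⟩
      rw [show n * q * n⁻¹ * q⁻¹ = n * (q * n⁻¹ * q⁻¹) by group]
      exact mul_mem hn.2 (hN.conj_mem _ (inv_mem hn.2) q)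
    rw [hRO, Subgroup.mem_bot, mul_inv_eq_one, mul_inv_eq_iff_eq_mul] at h1
    exact h1.symm
  let φ : ↥N →* G ⧸ O := f.comp N.subtype
  have hφ : Function.Bijective φ := by
    constructor
    · rw [injective_iff_map_eq_one]
      intro x hx
      have : (x : G) ∈ N ⊓ O := ⟨x.2, (QuotientGroup.eq_one_iff _).mp hx⟩
      rw [hNinf] at this
      exact Subtype.ext this
    · intro y
      obtain ⟨g, rfl⟩ := QuotientGroup.mk'_surjective O y
      obtain ⟨n, hn, o, ho, rfl⟩ := LocalPReduced57.exists_mul_of_mem_sup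
        (LocalBasics.le_normalizer_of_normal N) (hNO.ge (Subgroup.mem_top g))
      refine ⟨⟨n, hn⟩, ?_⟩
      show f n = f (n * o)
      rw [map_mul, show f o = 1 from (QuotientGroup.eq_one_iff o).mpr ho, mul_one]
  let ψ : ↥N ≃* DihedralGroup r := (MulEquiv.ofBijective φ hφ).trans e
  refine ⟨⟨ψ⟩, ?_⟩
  -- elements of `R`
  have hgenR : ∀ z ∈ (R : Subgroup G), z ≠ 1 → Subgroup.zpowers z = R ∧ orderOf z = r := by
    intro z hz hz1
    have h1 : orderOf z = r := ((Nat.dvd_prime hrp).mp (hRr ▸ Subgroup.orderOf_dvd_natCard _ hz)).resolve_left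
      (fun h => hz1 (orderOf_eq_one_iff.mp h))
    exact ⟨Subgroup.eq_of_le_of_card_ge (Subgroup.zpowers_le.mpr hz) (by rw [Nat.card_zpowers, h1, hRr]), h1⟩
  have hconjz : ∀ z ∈ (R : Subgroup G), z ≠ 1 →
      (∀ c ∈ O, c * z = z * c → c = 1) ∧ ∀ o ∈ O, ∃ w ∈ O, w * z * w⁻¹ = z * o := by
    intro z hz hz1
    have hfix : ∀ c ∈ O, c * z = z * c → c = 1 := fun c hc hcz => by
      have : c ∈ O ⊓ Subgroup.centralizer ((R : Subgroup G) : Set G) := ⟨hc, fun q hq => by
        obtain ⟨i, rfl⟩ := Subgroup.mem_zpowers_iff.mp ((hgenR z hz hz1).1.ge hq)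
        exact ((Commute.zpow_right (show Commute c z from hcz) i).eq).symm⟩
      rwa [hC, Subgroup.mem_bot] at this
    refine ⟨hfix, fun o ho => ?_⟩
    let F : ↥O → ↥O := fun w => ⟨z⁻¹ * ((w : G) * z * (w : G)⁻¹), by
      rw [show z⁻¹ * ((w : G) * z * (w : G)⁻¹) = (z⁻¹ * w * z⁻¹⁻¹) * (w : G)⁻¹ by group]
      exact mul_mem (hN.conj_mem _ w.2 _) (inv_mem w.2)⟩
    have hF : Function.Injective F := fun w v hwv => by
      have h1 : (w : G) * z * (w : G)⁻¹ = v * z * (v : G)⁻¹ := mul_left_cancel (congrArg Subtype.val hwv)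
      have h2 := hfix ((v : G)⁻¹ * w) (mul_mem (inv_mem v.2) w.2) (by
        calc (v : G)⁻¹ * w * z = (v : G)⁻¹ * ((w : G) * z * (w : G)⁻¹) * w := by group
          _ = z * ((v : G)⁻¹ * w) := by rw [h1]; group)
      exact Subtype.ext (inv_mul_eq_one.mp h2).symm
    obtain ⟨w, hw⟩ := (Finite.injective_iff_surjective.mp hF) ⟨o, ho⟩
    exact ⟨w, w.2, inv_mul_eq_iff_eq_mul.mp (congrArg Subtype.val hw)⟩
  have hKord : ∀ k ∈ K, k ∉ O → orderOf k = r := by
    intro k hk hkO
    obtain ⟨z, hz, o, ho, rfl⟩ := LocalPReduced57.exists_mul_of_mem_sup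
      (LocalBasics.le_normalizer_of_normal (R : Subgroup G)) hk
    have hz1 : z ≠ 1 := fun h => hkO (by rw [h, one_mul]; exact ho)
    obtain ⟨w, -, hw⟩ := (hconjz z hz hz1).2 o ho
    rw [← hw]
    exact (orderOf_injective (MulAut.conj w).toMonoidHom (MulAut.conj w).injective z).trans (hgenR z hz hz1).2
  have hsq : ∀ g : G, orderOf g = 2 → g * g = 1 := fun g hg => by
    rw [← pow_two, ← hg, pow_orderOf_eq_one]
  have hinvK : ∀ g : G, orderOf g = 2 → g ∉ O → g ∉ K := fun g hg hgO hgK =>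
    hr ((hKord g hgK hgO).symm.trans hg)
  intro a ha ha2
  have haO : a ∉ O := fun h => by
    have : a ∈ N ⊓ O := ⟨ha, h⟩
    rw [hNinf, Subgroup.mem_bot] at this
    rw [this, orderOf_one] at ha2
    omega
  have haK := hinvK a ha2 haO
  have haa := hsq a ha2
  obtain ⟨x, hx, hx1⟩ : ∃ x ∈ (R : Subgroup G), x ≠ 1 := by
    by_contra hcon
    push_neg at hcon
    have : (R : Subgroup G) = ⊥ := (Subgroup.eq_bot_iff_forall _).mpr hcon
    rw [this, Subgroup.card_bot] at hRr
    exact hrp.ne_one hRr.symm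
  set a' := a * x
  have ha'K : a' ∉ K := fun h => haK (by
    have := mul_mem h (inv_mem (Subgroup.mem_sup_left (T := O) hx))
    rwa [mul_inv_cancel_right] at this)
  have ha'a : a' * a' = 1 := by
    have ha'N : a' ∈ N := mul_mem ha (Subgroup.le_normalizer hx)
    rcases h : ψ ⟨a', ha'N⟩ with i | i
    · exfalso
      have h1 : (⟨a', ha'N⟩ : ↥N) ^ r = 1 := ψ.injective (by
        rw [map_pow, h, map_one, DihedralGroup.r_pow, ZMod.natCast_self, mul_zero, DihedralGroup.r_zero])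
      have h2 : a' ^ r = 1 := congrArg Subtype.val h1
      obtain ⟨m, hm⟩ := hodd
      have h4 : a' ^ 2 ∈ K := by rw [pow_two, Subgroup.mul_mem_iff_of_index_two hKi]
      rw [hm, pow_succ, pow_mul] at h2
      exact ha'K (by rw [eq_inv_of_mul_eq_one_right h2]; exact inv_mem (pow_mem h4 m))
    · have h1 : (⟨a', ha'N⟩ : ↥N) * ⟨a', ha'N⟩ = 1 := ψ.injective (by
        rw [map_mul, h, map_one, DihedralGroup.sr_mul_self])
      exact congrArg Subtype.val h1
  have hinv : a * x = x⁻¹ * a := by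
    have h1 : (a * x) * (a * x) = 1 := ha'a
    rw [eq_inv_of_mul_eq_one_left h1, mul_inv_rev, inv_eq_of_mul_eq_one_left haa]
  have hya : ∀ b : G, orderOf b = 2 → b ∉ O → ∀ c : G, c * c = 1 → c ∉ K → b * c ∉ O →
      ∃ g, g * c * g⁻¹ = b := fun b hb hbO c hc hcK hbc => by
    refine conj_of_odd_product hodd hc (hsq b hb) ?_
    have h1 : b * c ∈ K := by
      rw [Subgroup.mul_mem_iff_of_index_two hKi]
      exact iff_of_false (hinvK b hb hbO) hcK
    rw [← hKord _ h1 hbc, pow_orderOf_eq_one]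
  have hxO : x ∉ O := fun h => hx1 (by
    have : x ∈ (R : Subgroup G) ⊓ O := ⟨hx, h⟩
    rwa [hRO, Subgroup.mem_bot] at this)
  obtain ⟨g₀, hg₀⟩ : ∃ g, g * a' * g⁻¹ = a := hya a ha2 haO a' ha'a ha'K (by
    rw [← mul_assoc, haa, one_mul]; exact hxO)
  refine ⟨fun b hb hbO => ?_, ?_⟩
  · by_cases hba : b * a ∈ O
    · have hba' : b * a' ∉ O := fun h => hxO (by
        have := mul_mem (inv_mem hba) h
        rwa [show (b * a)⁻¹ * (b * (a * x)) = x by group] at this)
      obtain ⟨g, hg⟩ := hya b hb hbO a' ha'a ha'K hba'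
      exact ⟨g * g₀⁻¹, by rw [← hg, ← hg₀]; group⟩
    · exact hya b hb hbO a haa haK hba
  · -- the counting
    set C := O ⊓ Subgroup.centralizer ({a} : Set G)
    set C' := O ⊓ Subgroup.centralizer ({a'} : Set G)
    have memC : ∀ c w : G, w ∈ O ⊓ Subgroup.centralizer ({c} : Set G) ↔ w ∈ O ∧ c * w = w * c := by
      intro c w
      refine ⟨fun h => ⟨h.1, Subgroup.mem_centralizer_iff.mp h.2 c rfl⟩, fun h => ⟨h.1, ?_⟩⟩
      refine Subgroup.mem_centralizer_iff.mpr fun z hz => ?_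
      rw [Set.mem_singleton_iff.mp hz]; exact h.2
    have hCC : Nat.card C' = Nat.card C := by
      rw [← LocalLarge57.card_conjBy g₀ C']
      congr 1
      have : LocalLarge57.conjBy g₀ C' = C := by
        ext w
        rw [LocalLarge57.mem_conjBy, memC, memC, ← hg₀]
        constructor
        · rintro ⟨h1, h2⟩
          refine ⟨by simpa [mul_assoc] using hN.conj_mem _ h1 g₀, ?_⟩
          calc g₀ * a' * g₀⁻¹ * w = g₀ * (a' * (g₀⁻¹ * w * g₀)) * g₀⁻¹ := by group
            _ = g₀ * (g₀⁻¹ * w * g₀ * a') * g₀⁻¹ := by rw [h2]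
            _ = _ := by group
        · rintro ⟨h1, h2⟩
          refine ⟨by simpa [mul_assoc] using hN.conj_mem _ h1 g₀⁻¹, ?_⟩
          calc a' * (g₀⁻¹ * w * g₀) = g₀⁻¹ * (g₀ * a' * g₀⁻¹ * w) * g₀ := by group
            _ = g₀⁻¹ * (w * (g₀ * a' * g₀⁻¹)) * g₀ := by rw [h2]
            _ = _ := by group
      rw [this]
    set Co := C.subgroupOf O
    set Co' := C'.subgroupOf O
    have hbij : Function.Bijective (fun w : ↥O => ((w : ↥O ⧸ Co), (w : ↥O ⧸ Co'))) := by
      constructor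
      · intro w v hwv
        simp only [Prod.mk.injEq, QuotientGroup.eq] at hwv
        obtain ⟨h1, h2⟩ := hwv
        obtain ⟨hd, h1'⟩ := (memC a _).mp h1
        obtain ⟨-, h2'⟩ := (memC a' _).mp h2
        set d := ((w⁻¹ * v : ↥O) : G)
        replace h1' : a * d = d * a := h1'
        replace h2' : a' * d = d * a' := h2'
        have h3 : d * x = x * d := by
          calc d * x = a⁻¹ * (a * d) * x := by group
            _ = a⁻¹ * (d * (a * x)) := by rw [h1']; group
            _ = a⁻¹ * (a * x * d) := by rw [h2']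
            _ = x * d := by group
        exact inv_mul_eq_one.mp (Subtype.ext ((hconjz x hx hx1).1 d hd h3))
      · rintro ⟨p₁, p₂⟩
        obtain ⟨o₁, rfl⟩ := QuotientGroup.mk_surjective p₁
        obtain ⟨o₂, rfl⟩ := QuotientGroup.mk_surjective p₂
        set b := (o₁ : G) * a * (o₁ : G)⁻¹ with hb
        set b' := (o₂ : G) * a' * (o₂ : G)⁻¹ with hb'
        have hbb' : b * b' = x * (x⁻¹ * (b * b')) := by group
        have hmem : x⁻¹ * (b * b') ∈ O := by
          refine (QuotientGroup.eq_one_iff _).mp ?_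
          show f (x⁻¹ * (b * b')) = 1
          have hf : ∀ o : ↥O, f (o : G) = 1 := fun o => (QuotientGroup.eq_one_iff _).mpr o.2
          simp only [b, b', map_mul, map_inv, hf, inv_one, mul_one, one_mul]
          rw [← map_mul, ← map_inv, ← map_mul, show x⁻¹ * (a * (a * x)) = x⁻¹ * (a * a) * x by group, haa,
            mul_one, inv_mul_cancel, map_one]
        obtain ⟨w, hw, hwx⟩ := (hconjz x hx hx1).2 _ hmem
        rw [← hbb'] at hwx
        set c := w⁻¹ * b * w with hc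
        have hcx : c * x * c = x⁻¹ := by
          have e1 : x = w⁻¹ * (b * b') * w := by rw [← hwx]; group
          have hbb : b * b = 1 := by
            rw [hb, show (o₁ : G) * a * (o₁ : G)⁻¹ * ((o₁ : G) * a * (o₁ : G)⁻¹) = (o₁ : G) * (a * a) * (o₁ : G)⁻¹ by group, haa]; group
          have hbb2 : b' * b' = 1 := by
            rw [hb', show (o₂ : G) * a' * (o₂ : G)⁻¹ * ((o₂ : G) * a' * (o₂ : G)⁻¹) = (o₂ : G) * (a' * a') * (o₂ : G)⁻¹ by group, ha'a]; group
          rw [e1, hc]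
          calc w⁻¹ * b * w * (w⁻¹ * (b * b') * w) * (w⁻¹ * b * w) = w⁻¹ * (b * b) * (b' * b) * w := by group
            _ = w⁻¹ * (b' * b) * w := by rw [hbb, mul_one]
            _ = w⁻¹ * (b'⁻¹ * b⁻¹) * w := by rw [inv_eq_of_mul_eq_one_left hbb, inv_eq_of_mul_eq_one_left hbb2]
            _ = _ := by group
        have hcc : c * c = 1 := by
          rw [hc, show w⁻¹ * b * w * (w⁻¹ * b * w) = w⁻¹ * (b * b) * w by group, hb,
            show (o₁ : G) * a * (o₁ : G)⁻¹ * ((o₁ : G) * a * (o₁ : G)⁻¹) = (o₁ : G) * (a * a) * (o₁ : G)⁻¹ by group, haa]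
          group
        have hca : c = a := by
          have h1 : a⁻¹ * c ∈ O := by
            refine (QuotientGroup.eq_one_iff _).mp ?_
            show f (a⁻¹ * c) = 1
            simp only [hc, hb, map_mul, map_inv, show f w = 1 from (QuotientGroup.eq_one_iff _).mpr hw,
              show f (o₁ : G) = 1 from (QuotientGroup.eq_one_iff _).mpr o₁.2, inv_one, mul_one, one_mul, inv_mul_cancel]
          have h2 := (hconjz x hx hx1).1 _ h1 ?_
          · exact (inv_mul_eq_one.mp h2).symm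
          · have e : c * x = x⁻¹ * c := by
              calc c * x = c * x * (c * c) := by rw [hcc, mul_one]
                _ = c * x * c * c := by group
                _ = x⁻¹ * c := by rw [hcx]
            calc a⁻¹ * c * x = a⁻¹ * (x⁻¹ * c) := by rw [mul_assoc, e]
              _ = a⁻¹ * (x⁻¹ * a) * (a⁻¹ * c) := by group
              _ = a⁻¹ * (a * x) * (a⁻¹ * c) := by rw [hinv]
              _ = x * (a⁻¹ * c) := by group
        refine ⟨⟨w, hw⟩, Prod.ext (QuotientGroup.eq.mpr ((memC a _).mpr ⟨((⟨w, hw⟩ : ↥O)⁻¹ * o₁).2, ?_⟩))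
          (QuotientGroup.eq.mpr ((memC a' _).mpr ⟨((⟨w, hw⟩ : ↥O)⁻¹ * o₂).2, ?_⟩))⟩
        · show a * (w⁻¹ * (o₁ : G)) = w⁻¹ * (o₁ : G) * a
          rw [hc, hb] at hca
          calc a * (w⁻¹ * (o₁ : G)) = (w⁻¹ * ((o₁ : G) * a * (o₁ : G)⁻¹) * w) * (w⁻¹ * (o₁ : G)) := by rw [hca]
            _ = _ := by group
        · show a' * (w⁻¹ * (o₂ : G)) = w⁻¹ * (o₂ : G) * a'
          have e : w⁻¹ * b' * w = a' := by
            calc w⁻¹ * b' * w = c⁻¹ * (w⁻¹ * (b * b') * w) := by rw [hc]; group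
              _ = a⁻¹ * x := by rw [hca, ← hwx]; group
              _ = a' := by rw [inv_eq_of_mul_eq_one_left haa]
          rw [hb'] at e
          calc a' * (w⁻¹ * (o₂ : G)) = (w⁻¹ * ((o₂ : G) * a' * (o₂ : G)⁻¹) * w) * (w⁻¹ * (o₂ : G)) := by rw [e]
            _ = _ := by group
    have hcardO := Nat.card_congr (Equiv.ofBijective _ hbij)
    rw [Nat.card_prod] at hcardO
    have e1 := Co.card_eq_card_quotient_mul_card_subgroup
    have e2 := Co'.card_eq_card_quotient_mul_card_subgroup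
    rw [Nat.card_congr (Subgroup.subgroupOfEquivOfLe inf_le_left).toEquiv] at e1 e2
    rw [hCC] at e2
    have e3 : Nat.card (↥O ⧸ Co) = Nat.card (↥O ⧸ Co') :=
      Nat.eq_of_mul_eq_mul_right Nat.card_pos (e1.symm.trans e2)
    rw [← e3] at hcardO
    have e4 : Nat.card (↥O ⧸ Co) = Nat.card C :=
      Nat.eq_of_mul_eq_mul_left Nat.card_pos (hcardO.symm.trans e1)
    rw [pow_two]
    rw [e4] at hcardO
    exact hcardO.symm

end Cfsg.Agent.S2873
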