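import Cfsg.Statements.S2874
import Mathlib

set_option autoImplicit false
open Cfsg
open scoped Matrix

namespace Cfsg.Agent.S2874


variable {k : ℕ}

abbrev R (k : ℕ) := ZMod (2 ^ k)
abbrev M (k : ℕ) := Matrix (Fin 2) (Fin 2) (ZMod (2 ^ k))

/-- Reduction modulo `2`. -/
def red (hk : 2 ≤ k) : R k →+* ZMod 2 := ZMod.castHom (dvd_pow_self 2 (by omega)) (ZMod 2)

theorem red_val (hk : 2 ≤ k) (r : R k) : red hk r = ((ZMod.val r : ℕ) : ZMod 2) := by
  conv_lhs => rw [← ZMod.natCast_zmod_val r]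
  exact map_natCast _ _

theorem exists_two_mul (hk : 2 ≤ k) {r : R k} (h : red hk r = 0) : ∃ s, r = 2 * s := by
  rw [red_val, ZMod.natCast_eq_zero_iff] at h
  obtain ⟨m, hm⟩ := h
  exact ⟨(m : R k), by rw [← ZMod.natCast_zmod_val r, hm, Nat.cast_mul, Nat.cast_ofNat]⟩

theorem isUnit_of_red (hk : 2 ≤ k) {r : R k} (h : red hk r ≠ 0) : IsUnit r := by
  rw [red_val, Ne, ZMod.natCast_eq_zero_iff] at h
  rw [← ZMod.natCast_zmod_val r, ZMod.isUnit_iff_coprime]
  exact Nat.Coprime.pow_right _ ((Nat.prime_two.coprime_iff_not_dvd.mpr h).symm)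

theorem top_of_two_mul (hk : 2 ≤ k) {y : R k} (h : 2 * y = 0) :
    ∃ c : R k, y = 2 ^ (k - 1) * c := by
  have h' : ((2 * ZMod.val y : ℕ) : R k) = 0 := by
    push_cast
    rwa [ZMod.natCast_zmod_val]
  rw [ZMod.natCast_eq_zero_iff] at h'
  replace h := h'
  have h1 : 2 ^ k = 2 * 2 ^ (k - 1) := by rw [← pow_succ']; congr 1; omega
  conv at h => lhs; rw [h1]
  obtain ⟨m, hm⟩ := (Nat.mul_dvd_mul_iff_left (Nat.succ_pos 1)).mp h
  exact ⟨(m : R k), by rw [← ZMod.natCast_zmod_val y, hm, Nat.cast_mul, Nat.cast_pow, Nat.cast_ofNat]⟩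

theorem two_pow_self (k : ℕ) : (2 : R k) ^ k = 0 := by
  have h := ZMod.natCast_self (2 ^ k)
  rwa [Nat.cast_pow, Nat.cast_ofNat] at h

theorem top_mul_two (hk : 2 ≤ k) : (2 : R k) ^ (k - 1) * 2 = 0 := by
  rw [← pow_succ, Nat.sub_add_cancel (by omega : 1 ≤ k), two_pow_self]

theorem top_sq (hk : 2 ≤ k) : (2 : R k) ^ (k - 1) * 2 ^ (k - 1) = 0 := by
  rw [← pow_add, show k - 1 + (k - 1) = k + (k - 2) by omega, pow_add, two_pow_self, zero_mul]

theorem red_eq_zero_of_top (hk : 2 ≤ k) {r : R k} (h : (2 : R k) ^ (k - 1) * r = 0) :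
    red hk r = 0 := by
  by_contra h1
  have h2 : (2 : R k) ^ (k - 1) = 0 := (isUnit_of_red hk h1).mul_left_eq_zero.mp h
  replace h2 : ((2 ^ (k - 1) : ℕ) : R k) = 0 := by
    push_cast
    exact h2
  rw [ZMod.natCast_eq_zero_iff] at h2
  have h3 := Nat.le_of_dvd (Nat.pos_of_ne_zero (by positivity)) h2
  have h4 : 2 ^ (k - 1) < 2 ^ k := Nat.pow_lt_pow_right Nat.one_lt_two (by omega)
  omega

abbrev mred (hk : 2 ≤ k) : M k →+* Matrix (Fin 2) (Fin 2) (ZMod 2) := (red hk).mapMatrix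

theorem mat_two_mul (hk : 2 ≤ k) {A : M k} (h : mred hk A = 0) : ∃ B, A = (2 : R k) • B := by
  choose s hs using fun i j => exists_two_mul hk (congrFun (congrFun h i) j :)
  exact ⟨Matrix.of s, Matrix.ext fun i j => hs i j⟩

theorem mat_top (hk : 2 ≤ k) {A : M k} (h : (2 : R k) • A = 0) :
    ∃ B, A = (2 : R k) ^ (k - 1) • B := by
  choose s hs using fun i j => top_of_two_mul hk (congrFun (congrFun h i) j :)
  exact ⟨Matrix.of s, Matrix.ext fun i j => hs i j⟩

theorem mat_red_zero (hk : 2 ≤ k) {A : M k} (h : (2 : R k) ^ (k - 1) • A = 0) : mred hk A = 0 :=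
  Matrix.ext fun i j => red_eq_zero_of_top hk (congrFun (congrFun h i) j :)

/-- The matrix of the primitive cube root of unity. -/
def Cm (A : Type*) [Ring A] : Matrix (Fin 2) (Fin 2) A := !![0, -1; 1, -1]

theorem Cm_cube (A : Type*) [CommRing A] : Cm A * Cm A * Cm A = 1 := by
  ext i j; fin_cases i <;> fin_cases j <;> simp [Cm, Matrix.mul_apply, Fin.sum_univ_two]

theorem red_Cm (hk : 2 ≤ k) : mred hk (Cm (R k)) = Cm (ZMod 2) := by
  ext i j; fin_cases i <;> fin_cases j <;> simp [Cm]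

def sol : Finset (Matrix (Fin 2) (Fin 2) (ZMod 2)) :=
  Finset.univ.filter fun b => b + Cm _ * b * (Cm _ * Cm _) + Cm _ * Cm _ * b * Cm _ = 0

theorem card_sol : sol.card = 4 := by decide +kernel

theorem idem_sol : ∀ a : Matrix (Fin 2) (Fin 2) (ZMod 2),
    a + Cm _ * a * (Cm _ * Cm _) + Cm _ * Cm _ * a * Cm _ = 0 → a + a * a = 0 → a = 0 := by
  decide +kernel

theorem f2_commutator : ∀ a b a' b' : Matrix (Fin 2) (Fin 2) (ZMod 2), a * a' = 1 → b * b' = 1 →
    (a * b * a' * b') ^ 2 = 1 → a * b * a' * b' = 1 := by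
  decide +kernel

theorem f2_order_three : ∀ a : Matrix (Fin 2) (Fin 2) (ZMod 2), a * a * a = 1 → a ≠ 1 →
    (a - 1) 0 0 * (a - 1) 1 1 - (a - 1) 0 1 * (a - 1) 1 0 ≠ 0 ∧ a 1 0 ≠ 0 := by
  decide +kernel

theorem alt4_facts : (∀ x : ↥(alternatingGroup (Fin 4)), x ^ 2 = 1 →
      (∃ y z, x = y * z * y⁻¹ * z⁻¹) ∧
      ∀ w, w ≠ 1 → w ^ 3 = 1 → x * (w * x * (w * w)) * (w * w * x * w) = 1) ∧
    (∀ z w : ↥(alternatingGroup (Fin 4)), w ≠ 1 → w ^ 3 = 1 →
      z ^ 2 = 1 ∨ (z * w) ^ 2 = 1 ∨ (z * w * w) ^ 2 = 1) ∧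
    (∃ w : ↥(alternatingGroup (Fin 4)), w ≠ 1 ∧ w ^ 3 = 1) ∧
    (Finset.univ.filter fun x : ↥(alternatingGroup (Fin 4)) => x ^ 2 = 1).card = 4 := by
  refine ⟨?_, ?_, ?_, ?_⟩ <;> decide +kernel

/-- An element of order `3` is conjugate to the standard one. -/
theorem exists_conj (hk : 2 ≤ k) (w : GL (Fin 2) (R k)) (h1 : w ≠ 1) (h3 : w ^ 3 = 1) :
    ∃ g : GL (Fin 2) (R k), ((g * w * g⁻¹ : GL (Fin 2) (R k)) : M k) = Cm (R k) := by
  have h3' : (w : M k) * w * w = 1 := by
    rw [← Units.val_mul, ← Units.val_mul, ← pow_three', h3, Units.val_one]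
  have hne : mred hk (w : M k) ≠ 1 := by
    intro h
    obtain ⟨A, hA⟩ := mat_two_mul hk (show mred hk ((w : M k) - 1) = 0 by rw [map_sub, h, map_one, sub_self])
    have e : ((w : M k) - 1) * ((w : M k) * w + w + 1) = 0 := by
      rw [sub_mul, mul_add, mul_add, one_mul, mul_one, ← mul_assoc, h3']; abel
    have hu : IsUnit ((w : M k) * w + w + 1) := by
      rw [Matrix.isUnit_iff_isUnit_det]
      refine isUnit_of_red hk ?_
      rw [RingHom.map_det]
      show (mred hk ((w : M k) * w + w + 1)).det ≠ 0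
      rw [map_add, map_add, map_mul, h, map_one]
      decide
    exact h1 (Units.ext (sub_eq_zero.mp (hu.mul_left_eq_zero.mp e)))
  obtain ⟨hdet, h10⟩ := f2_order_three (mred hk (w : M k)) (by rw [← map_mul, ← map_mul, h3', map_one]) hne
  have hu : IsUnit ((w : M k) - 1) := by
    rw [Matrix.isUnit_iff_isUnit_det]
    refine isUnit_of_red hk ?_
    rw [RingHom.map_det]
    show (mred hk ((w : M k) - 1)).det ≠ 0
    rw [map_sub, map_one, Matrix.det_fin_two]
    exact hdet
  have hq : (w : M k) * w + w + 1 = 0 := by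
    refine hu.mul_right_eq_zero.mp ?_
    rw [sub_mul, mul_add, mul_add, one_mul, mul_one, ← mul_assoc, h3']; abel
  have e00 := congrFun (congrFun hq 0) 0
  have e10 := congrFun (congrFun hq 1) 0
  simp only [Matrix.add_apply, Matrix.mul_apply, Fin.sum_univ_two, Matrix.one_apply_eq,
    Matrix.zero_apply, Matrix.one_apply_ne (show (1 : Fin 2) ≠ 0 by decide)] at e00 e10
  set P : M k := !![1, (w : M k) 0 0; 0, (w : M k) 1 0] with hP
  have hPu : IsUnit P := by
    rw [Matrix.isUnit_iff_isUnit_det, Matrix.det_fin_two]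
    simp only [hP, Matrix.cons_val', Matrix.of_apply, Matrix.cons_val_zero, Matrix.cons_val_one,
      Matrix.head_cons, Matrix.empty_val', Matrix.cons_val_fin_one, one_mul, mul_zero, sub_zero]
    exact isUnit_of_red hk h10
  have hwP : (w : M k) * P = P * Cm (R k) := by
    ext i j
    fin_cases i <;> fin_cases j <;>
      simp [hP, Cm, Matrix.mul_apply, Fin.sum_univ_two] <;>
      first
        | linear_combination e00
        | linear_combination e10
  refine ⟨hPu.unit⁻¹, ?_⟩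
  rw [inv_inv, Units.val_mul, Units.val_mul, IsUnit.unit_spec, mul_assoc, hwP, ← mul_assoc]
  rw [IsUnit.val_inv_mul, one_mul]

/-- The four matrices of the normal four-group. -/
def four (k : ℕ) (b : Matrix (Fin 2) (Fin 2) (ZMod 2)) : M k :=
  1 + (2 : R k) ^ (k - 1) • b.map fun a => ((a.val : ℕ) : R k)

theorem involution_mem (hk : 2 ≤ k) {H : Subgroup (GL (Fin 2) (R k))}
    (e : ↥H ≃* ↥(alternatingGroup (Fin 4))) {c : GL (Fin 2) (R k)} (hcH : c ∈ H)
    (hc : (c : M k) = Cm (R k)) {x : GL (Fin 2) (R k)} (hx : x ∈ H) (hx2 : x ^ 2 = 1) :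
    (x : M k) ∈ (four k) '' (sol : Set (Matrix (Fin 2) (Fin 2) (ZMod 2))) := by
  have hc3 : c ^ 3 = 1 := Units.ext (by
    rw [pow_three', Units.val_mul, Units.val_mul, hc, Cm_cube, Units.val_one])
  have hc1 : c ≠ 1 := by
    rintro rfl
    have := congrArg (fun m => red hk (m 1 0)) hc
    simp [Cm] at this
  obtain ⟨⟨y, z, hyz⟩, hrel⟩ := alt4_facts.1 (e ⟨x, hx⟩)
    (by rw [← map_pow, show (⟨x, hx⟩ : ↥H) ^ 2 = 1 from Subtype.ext hx2, map_one])
  have hrel' := hrel (e ⟨c, hcH⟩) (by simpa using hc1)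
    (by rw [← map_pow, show (⟨c, hcH⟩ : ↥H) ^ 3 = 1 from Subtype.ext hc3, map_one])
  rw [← map_mul, ← map_mul, ← map_mul, ← map_mul, ← map_mul, ← map_mul, ← map_mul,
    EmbeddingLike.map_eq_one_iff] at hrel'
  have hr : (x : M k) * (Cm (R k) * x * (Cm (R k) * Cm (R k))) *
      (Cm (R k) * Cm (R k) * x * Cm (R k)) = 1 := by
    rw [← hc, ← Units.val_one (α := M k), ← Units.val_mul, ← Units.val_mul, ← Units.val_mul,
      ← Units.val_mul, ← Units.val_mul, ← Units.val_mul]
    exact congrArg Units.val (congrArg Subtype.val hrel')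
  obtain ⟨yy, rfl⟩ := e.surjective y
  obtain ⟨zz, rfl⟩ := e.surjective z
  rw [← map_inv, ← map_inv, ← map_mul, ← map_mul, ← map_mul, EmbeddingLike.apply_eq_iff_eq] at hyz
  have hxred : mred hk (x : M k) = 1 := by
    have h1 : (x : M k) = (yy : GL (Fin 2) (R k)) * (zz : GL (Fin 2) (R k)) *
        ((yy : GL (Fin 2) (R k))⁻¹ : GL (Fin 2) (R k)) * ((zz : GL (Fin 2) (R k))⁻¹ : GL (Fin 2) (R k)) := by
      rw [← Units.val_mul, ← Units.val_mul, ← Units.val_mul]
      exact congrArg Units.val (congrArg Subtype.val hyz)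
    rw [h1, map_mul, map_mul, map_mul]
    refine f2_commutator _ _ _ _ (by rw [← map_mul, Units.mul_inv, map_one])
      (by rw [← map_mul, Units.mul_inv, map_one]) ?_
    rw [← map_mul, ← map_mul, ← map_mul, ← h1, ← map_pow, ← Units.val_pow_eq_pow_val, hx2,
      Units.val_one, map_one]
  have hsq : (x : M k) * x = 1 := by rw [← Units.val_mul, ← sq, hx2, Units.val_one]
  set C := Cm (R k) with hCdef
  have hC3 : C * C * C = 1 := Cm_cube _
  obtain ⟨A, hA⟩ := mat_two_mul hk (show mred hk ((x : M k) - 1) = 0 by rw [map_sub, hxred, map_one, sub_self])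
  have hxA : (x : M k) = 1 + (2 : R k) • A := by rw [← hA]; abel
  -- the relation, linearised
  have hlin : ∀ (t : R k) (B : M k), (x : M k) = 1 + t • B →
      t • (B + C * B * (C * C) + C * C * B * C) + (t * t) • (B * (C * B * (C * C)) +
        B * (C * C * B * C) + C * B * (C * C) * (C * C * B * C)) +
        (t * t * t) • (B * (C * B * (C * C)) * (C * C * B * C)) = 0 := by
    intro t B hB
    have h1 : C * (x : M k) * (C * C) = 1 + t • (C * B * (C * C)) := by
      rw [hB, mul_add, add_mul, mul_one, ← mul_assoc C C C, hC3, mul_smul_comm, smul_mul_assoc]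
    have h2 : C * C * (x : M k) * C = 1 + t • (C * C * B * C) := by
      rw [hB, mul_add, add_mul, mul_one, hC3, mul_smul_comm, smul_mul_assoc]
    rw [h1, h2, hB] at hr
    simp only [add_mul, mul_add, one_mul, mul_one, smul_mul_assoc, mul_smul_comm, smul_smul] at hr
    simp only [smul_add]
    rw [← sub_eq_zero] at hr
    rw [← hr]
    module
  obtain ⟨B, hB⟩ : ∃ B, (x : M k) = 1 + (2 : R k) ^ (k - 1) • B := by
    rcases Nat.lt_or_ge k 3 with h | h
    · exact ⟨A, by rw [hxA]; congr 2; rw [show k - 1 = 1 by omega, pow_one]⟩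
    have hA0 : mred hk A = 0 := by
      refine idem_sol _ ?_ ?_
      · have h1 := hlin 2 A hxA
        rw [← red_Cm hk, ← map_mul, ← map_mul, ← map_mul, ← map_mul, ← map_mul, ← map_add,
          ← map_add, ← hCdef]
        refine mat_red_zero hk ?_
        have h2 := congrArg (fun m => (2 : R k) ^ (k - 2) • m) h1
        simp only [smul_add, smul_smul, smul_zero] at h2
        rw [show (2 : R k) ^ (k - 2) * 2 = 2 ^ (k - 1) by rw [← pow_succ]; congr 1; omega,
          show (2 : R k) ^ (k - 2) * (2 * 2) = 0 by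
            rw [← sq, ← pow_add, show k - 2 + 2 = k by omega, two_pow_self],
          show (2 : R k) ^ (k - 2) * (2 * 2 * 2) = 0 by
            rw [← mul_assoc, ← sq, ← pow_add, show k - 2 + 2 = k by omega, two_pow_self, zero_mul]]
          at h2
        simpa [smul_add, add_assoc] using h2
      · rw [← map_mul, ← map_add]
        refine mat_red_zero hk ?_
        rw [hxA] at hsq
        simp only [add_mul, mul_add, one_mul, mul_one, smul_mul_assoc, mul_smul_comm, smul_smul] at hsq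
        have h1 : (2 * 2 : R k) • (A + A * A) = 0 := by
          rw [← sub_eq_zero] at hsq
          rw [← hsq]; module
        have h2 := congrArg (fun m => (2 : R k) ^ (k - 3) • m) h1
        simp only [smul_smul, smul_zero] at h2
        rwa [show (2 : R k) ^ (k - 3) * (2 * 2) = 2 ^ (k - 1) by
          rw [← sq, ← pow_add]; congr 1; omega] at h2
    obtain ⟨A', rfl⟩ := mat_two_mul hk hA0
    have hu : IsUnit (1 + (2 : R k) • A') := by
      rw [Matrix.isUnit_iff_isUnit_det]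
      refine isUnit_of_red hk ?_
      rw [RingHom.map_det]
      show (mred hk (1 + (2 : R k) • A')).det ≠ 0
      have : mred hk ((2 : R k) • A') = 0 := Matrix.ext fun i j => by
        show red hk (2 * A' i j) = 0
        rw [map_mul, map_ofNat, show (2 : ZMod 2) = 0 from rfl, zero_mul]
      rw [map_add, map_one, this, add_zero, Matrix.det_one]
      exact one_ne_zero
    have h0 : ((2 : R k) • ((x : M k) - 1)) * (1 + (2 : R k) • A') = 0 := by
      rw [hxA] at hsq ⊢
      rw [← sub_eq_zero] at hsq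
      rw [← hsq]
      simp only [add_mul, mul_add, one_mul, mul_one, smul_mul_assoc, mul_smul_comm, smul_smul,
        add_sub_cancel_left]
      module
    obtain ⟨B, hB⟩ := mat_top hk (hu.mul_left_eq_zero.mp h0)
    exact ⟨B, by rw [← hB]; abel⟩
  refine ⟨mred hk B, ?_, ?_⟩
  · simp only [sol, Finset.coe_filter, Finset.mem_univ, true_and, Set.mem_ofPred_eq]
    rw [← red_Cm hk, ← map_mul, ← map_mul, ← map_mul, ← map_mul, ← map_mul, ← map_add, ← map_add,
      ← hCdef]
    refine mat_red_zero hk ?_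
    have h1 := hlin _ B hB
    rwa [top_sq hk, zero_mul, zero_smul, zero_smul, add_zero, add_zero] at h1
  · rw [hB, four]
    congr 1
    obtain ⟨D, hD⟩ := mat_two_mul hk (A := (mred hk B).map (fun a => ((a.val : ℕ) : R k)) - B) (by
      rw [map_sub, sub_eq_zero]
      refine Matrix.ext fun i j => ?_
      show red hk (((red hk (B i j)).val : ℕ) : R k) = red hk (B i j)
      rw [map_natCast, ZMod.natCast_zmod_val])
    rw [← sub_eq_zero, ← smul_sub, hD, smul_smul, top_mul_two hk, zero_smul]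

theorem eq_std (hk : 2 ≤ k) {H : Subgroup (GL (Fin 2) (R k))}
    (e : ↥H ≃* ↥(alternatingGroup (Fin 4))) {c : GL (Fin 2) (R k)} (hcH : c ∈ H)
    (hc : (c : M k) = Cm (R k)) (x : GL (Fin 2) (R k)) : x ∈ H ↔
      (x : M k) ∈ (four k) '' (sol : Set _) ∨ ((x * c : GL (Fin 2) (R k)) : M k) ∈ (four k) '' (sol : Set _) ∨
      ((x * c * c : GL (Fin 2) (R k)) : M k) ∈ (four k) '' (sol : Set _) := by
  classical
  have hc3 : c ^ 3 = 1 := Units.ext (by
    rw [pow_three', Units.val_mul, Units.val_mul, hc, Cm_cube, Units.val_one])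
  have hc1 : c ≠ 1 := by
    rintro rfl
    have := congrArg (fun m => red hk (m 1 0)) hc
    simp [Cm] at this
  constructor
  · intro hx
    have h := alt4_facts.2.1 (e ⟨x, hx⟩) (e ⟨c, hcH⟩) (by simpa using hc1)
      (by rw [← map_pow, show (⟨c, hcH⟩ : ↥H) ^ 3 = 1 from Subtype.ext hc3, map_one])
    simp only [← map_mul, ← map_pow, EmbeddingLike.map_eq_one_iff, Subtype.ext_iff] at h
    exact h.imp (involution_mem hk e hcH hc hx)
      (Or.imp (involution_mem hk e hcH hc (mul_mem hx hcH))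
        (involution_mem hk e hcH hc (mul_mem (mul_mem hx hcH) hcH)))
  · have hall : ∀ y : GL (Fin 2) (R k), (y : M k) ∈ (four k) '' (sol : Set _) → y ∈ H := by
      intro y hy
      let S := (Finset.univ.filter fun z : ↥(alternatingGroup (Fin 4)) => z ^ 2 = 1).image
        fun z => (((e.symm z : ↥H) : GL (Fin 2) (R k)) : M k)
      have hS : S ⊆ sol.image (four k) := by
        intro m hm
        obtain ⟨z, hz, rfl⟩ := Finset.mem_image.mp hm
        have hz2 : ((e.symm z : ↥H) : GL (Fin 2) (R k)) ^ 2 = 1 := by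
          rw [← Subgroup.coe_pow, ← map_pow, (Finset.mem_filter.mp hz).2, map_one, Subgroup.coe_one]
        have := involution_mem hk e hcH hc (e.symm z).2 hz2
        simpa using this
      have hcard : (sol.image (four k)).card ≤ S.card := by
        rw [Finset.card_image_of_injective _ fun a b hab =>
          e.symm.injective (Subtype.ext (Units.ext hab)), alt4_facts.2.2.2]
        exact Finset.card_image_le.trans card_sol.le
      have hyS : (y : M k) ∈ S := by
        rw [Finset.eq_of_subset_of_card_le hS hcard]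
        simpa using hy
      obtain ⟨z, -, hz⟩ := Finset.mem_image.mp hyS
      exact Units.ext hz ▸ (e.symm z).2
    rintro (h | h | h)
    · exact hall x h
    · exact (mul_mem_cancel_right hcH).mp (hall _ h)
    · exact (mul_mem_cancel_right hcH).mp ((mul_mem_cancel_right hcH).mp (hall _ h))

/-- For k ≥ 2, any two subgroups of GL₂(ℤ/2ᵏℤ) (the automorphism group of the homocyclic group ℤ/2ᵏ × ℤ/2ᵏ) that are isomorphic to the alternating group of degree 4 are conjugate. -/
theorem result (k : ℕ) (hk : 2 ≤ k) (H₁ H₂ : Subgroup (GL (Fin 2) (ZMod (2 ^ k)))) (h₁ : Nonempty (↥H₁ ≃* ↥(alternatingGroup (Fin 4)))) (h₂ : Nonempty (↥H₂ ≃* ↥(alternatingGroup (Fin 4)))) : ∃ g : GL (Fin 2) (ZMod (2 ^ k)), H₂ = H₁.map (MulAut.conj g).toMonoidHom := by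
  obtain ⟨e₁⟩ := h₁
  obtain ⟨e₂⟩ := h₂
  have key : ∀ (H : Subgroup (GL (Fin 2) (ZMod (2 ^ k)))), (↥H ≃* ↥(alternatingGroup (Fin 4))) →
      ∃ g c : GL (Fin 2) (ZMod (2 ^ k)), (c : M k) = Cm (R k) ∧
        c ∈ H.map (MulAut.conj g).toMonoidHom := by
    intro H e
    obtain ⟨w, hw1, hw3⟩ := alt4_facts.2.2.1
    obtain ⟨g, hg⟩ := exists_conj hk ((e.symm w : ↥H) : GL (Fin 2) (ZMod (2 ^ k)))
      (by simpa using hw1) (by rw [← Subgroup.coe_pow, ← map_pow, hw3, map_one, Subgroup.coe_one])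
    exact ⟨g, _, hg, ⟨_, (e.symm w).2, by simp⟩⟩
  obtain ⟨g₁, c₁, hc₁, hm₁⟩ := key H₁ e₁
  obtain ⟨g₂, c₂, hc₂, hm₂⟩ := key H₂ e₂
  obtain rfl : c₁ = c₂ := Units.ext (hc₁.trans hc₂.symm)
  have heq : H₁.map (MulAut.conj g₁).toMonoidHom = H₂.map (MulAut.conj g₂).toMonoidHom :=
    Subgroup.ext fun x => (eq_std hk ((MulEquiv.subgroupMap (MulAut.conj g₁) H₁).symm.trans e₁) hm₁ hc₁ x).trans
      (eq_std hk ((MulEquiv.subgroupMap (MulAut.conj g₂) H₂).symm.trans e₂) hm₂ hc₁ x).symm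
  refine ⟨g₂⁻¹ * g₁, ?_⟩
  have h1 := congrArg (Subgroup.map (MulAut.conj g₂⁻¹).toMonoidHom) heq
  rw [Subgroup.map_map, Subgroup.map_map] at h1
  have h2 : ∀ a b : GL (Fin 2) (ZMod (2 ^ k)), (MulAut.conj a).toMonoidHom.comp
      (MulAut.conj b).toMonoidHom = (MulAut.conj (a * b)).toMonoidHom := fun a b => by
    ext x : 1; simp [mul_assoc]
  rw [h2, h2, inv_mul_cancel, map_one] at h1
  rw [h1]
  exact (Subgroup.map_id H₂).symm


end Cfsg.Agent.S2874
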