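import Cfsg.Statements.S2879
import Cfsg.Agent.Lib.BinaryOctahedral
import Cfsg.Agent.Lib.HallCore
import Cfsg.Agent.Lib.ComponentsFitting
import Cfsg.Agent.Lib.CharTwoLocal
import Cfsg.Agent.Lib.GenQuatFacts62
import Cfsg.Agent.Lib.PSLCard
import Cfsg.Agent.Lib.PGroupsCyclic

set_option autoImplicit false
open Cfsg

namespace Cfsg.Agent.S2879
open BinaryOctahedral

/-- The properties of the Sylow subgroup that matter. -/
structure Shape {S : Type*} [Group S] (R : Subgroup S) : Prop where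
  cyc : IsCyclic R
  idx : R.index = 2
  fix : ∀ y ∉ R, ∀ r ∈ R, y * r = r * y → r * r = 1
  invol : ∃ y ∉ R, orderOf y = 2

theorem exists_shape {S : Type*} [Group S] [Finite S]
    (h : (∃ n : ℕ, 4 ≤ n ∧ Nonempty (S ≃* DihedralGroup n)) ∨ Cfsg.IsQuasiDihedral S) :
    ∃ R : Subgroup S, Shape R := by
  rcases h with ⟨n, hn, ⟨e⟩⟩ | ⟨n, hn, hcard, x, y, hx, hy, hrel⟩
  · haveI : NeZero n := ⟨by omega⟩
    set R := (Subgroup.zpowers (DihedralGroup.r (1 : ZMod n))).comap e.toMonoidHom with hR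
    have hmem : ∀ s, s ∈ R ↔ ∃ i, e s = DihedralGroup.r i := by
      intro s
      simp only [hR, Subgroup.mem_comap, MulEquiv.coe_toMonoidHom, Subgroup.mem_zpowers_iff,
        DihedralGroup.r_one_zpow]
      constructor
      · rintro ⟨k, hk⟩; exact ⟨_, hk.symm⟩
      · rintro ⟨i, hi⟩
        exact ⟨i.val, by rw [hi, Int.cast_natCast, ZMod.natCast_zmod_val]⟩
    refine ⟨R, ⟨?_, ?_, ?_, ?_⟩⟩
    · haveI : IsCyclic (Subgroup.zpowers (DihedralGroup.r (1 : ZMod n))) := inferInstance
      exact isCyclic_of_injective (e.toMonoidHom.subgroupComap (Subgroup.zpowers (DihedralGroup.r (1 : ZMod n))))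
        (fun a b hab => Subtype.ext (e.injective (congrArg Subtype.val hab)))
    · rw [hR, Subgroup.index_comap_of_surjective _ e.surjective]
      have h := (Subgroup.zpowers (DihedralGroup.r (1 : ZMod n))).card_mul_index
      rw [Nat.card_zpowers, DihedralGroup.orderOf_r_one, DihedralGroup.nat_card, mul_comm 2 n] at h
      exact Nat.eq_of_mul_eq_mul_left (by omega) h
    · intro y hy r hr hc
      obtain ⟨i, hi⟩ := (hmem r).1 hr
      have hyr : ∃ j, e y = DihedralGroup.sr j := by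
        cases hey : e y with
        | r j => exact absurd ((hmem y).2 ⟨j, hey⟩) hy
        | sr j => exact ⟨j, rfl⟩
      obtain ⟨j, hj⟩ := hyr
      have h := congrArg e hc
      rw [map_mul, map_mul, hi, hj, DihedralGroup.sr_mul_r, DihedralGroup.r_mul_sr] at h
      have h' : j + i = j - i := DihedralGroup.sr.inj h
      apply e.injective
      rw [map_mul, map_one, hi, DihedralGroup.r_mul_r, DihedralGroup.one_def]
      congr 1
      have : i = -i := by rw [sub_eq_add_neg] at h'; exact add_left_cancel h'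
      nth_rewrite 1 [this]
      exact neg_add_cancel i
    · refine ⟨e.symm (DihedralGroup.sr 0), fun hmem' => ?_, ?_⟩
      · obtain ⟨i, hi⟩ := (hmem _).1 hmem'
        rw [e.apply_symm_apply] at hi
        exact absurd hi (by simp)
      · rw [MulEquiv.orderOf_eq, DihedralGroup.orderOf_sr]
  · set R := Subgroup.zpowers x with hR
    have hidx : R.index = 2 := by
      have h := R.card_mul_index
      rw [hR, Nat.card_zpowers, hx, hcard, pow_succ] at h
      exact Nat.eq_of_mul_eq_mul_left (by positivity) h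
    have hconj : ∀ r ∈ R, y * r * y⁻¹ = r ^ (2 ^ (n - 1) - 1) := by
      intro r hr
      obtain ⟨k, rfl⟩ := hr
      simp only
      rw [← conj_zpow, hrel, ← zpow_natCast, ← zpow_mul, ← zpow_natCast (x ^ k), ← zpow_mul, mul_comm]
    have hyR : y ∉ R := by
      intro hyR
      have hc : Commute y x := by
        obtain ⟨k, hk⟩ := hyR
        rw [← hk]; exact (Commute.refl x).zpow_left k
      rw [hc.eq, mul_inv_cancel_right] at hrel
      have h1 : x ^ (2 ^ (n - 1) - 2) = 1 := by
        have h4 : 4 ≤ 2 ^ (n - 1) :=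
          le_trans (by norm_num) (Nat.pow_le_pow_right (by norm_num) (show 2 ≤ n - 1 by omega))
        have e2 : x ^ (2 ^ (n - 1) - 1) = x ^ (2 ^ (n - 1) - 2) * x := by
          rw [← pow_succ]; congr 1; omega
        rw [e2] at hrel
        exact mul_eq_right.1 hrel.symm
      have hd := orderOf_dvd_of_pow_eq_one h1
      rw [hx] at hd
      have h4 : 4 ≤ 2 ^ (n - 1) :=
        le_trans (by norm_num) (Nat.pow_le_pow_right (by norm_num) (show 2 ≤ n - 1 by omega))
      have hle := Nat.le_of_dvd (by omega) hd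
      have : 2 ^ (n - 1) ≤ 2 ^ n := Nat.pow_le_pow_right (by norm_num) (by omega)
      omega
    refine ⟨R, ⟨inferInstance, hidx, ?_, y, hyR, hy⟩⟩
    intro w hw r hr hc
    -- w acts on R as y does
    have hwy : y * r * y⁻¹ = r := by
      have h1 : y⁻¹ * w ∈ R := by
        rw [Subgroup.mul_mem_iff_of_index_two hidx]
        exact iff_of_false (fun h => hyR ((R.inv_mem_iff).1 h)) hw
      obtain ⟨k, hk⟩ := h1
      obtain ⟨l, hl⟩ := hr
      have h2 : Commute (y⁻¹ * w) r := by
        simp only at hk hl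
        rw [← hk, ← hl]; exact Commute.zpow_zpow_self x k l
      have h3 : Commute (w * (y⁻¹ * w)⁻¹) r := (show Commute w r from hc).mul_left h2.inv_left
      rw [show w * (y⁻¹ * w)⁻¹ = y by group] at h3
      rw [h3.eq, mul_inv_cancel_right]
    rw [hconj r hr] at hwy
    obtain ⟨k, rfl⟩ := hr
    simp only at hwy ⊢
    have h4 : 4 ≤ 2 ^ (n - 1) :=
      le_trans (by norm_num) (Nat.pow_le_pow_right (by norm_num) (show 2 ≤ n - 1 by omega))
    have h1 : x ^ (k * ((2 ^ (n - 1) - 2 : ℕ) : ℤ)) = 1 := by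
      rw [zpow_mul, zpow_natCast]
      have e2 : (x ^ k) ^ (2 ^ (n - 1) - 1) = (x ^ k) ^ (2 ^ (n - 1) - 2) * x ^ k := by
        rw [← pow_succ]; congr 1; omega
      rw [e2] at hwy
      exact mul_eq_right.1 hwy
    rw [← orderOf_dvd_iff_zpow_eq_one, hx] at h1
    rw [← zpow_add, ← orderOf_dvd_iff_zpow_eq_one, hx]
    -- divide by the odd part
    obtain ⟨d, hd⟩ : ∃ d : ℕ, 2 ^ (n - 1) - 2 = 2 * (2 * d + 1) := by
      obtain ⟨m, hm⟩ : ∃ m, n - 1 = m + 2 := ⟨n - 3, by omega⟩
      refine ⟨2 ^ m - 1, ?_⟩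
      rw [hm, pow_add]
      have := Nat.one_le_two_pow (n := m)
      omega
    rw [hd] at h1
    have hcop : IsCoprime ((2 ^ n : ℕ) : ℤ) ((2 * d + 1 : ℕ) : ℤ) :=
      Nat.isCoprime_iff_coprime.2 (Nat.Coprime.pow_left n ((Nat.coprime_two_left).2 ⟨d, rfl⟩))
    refine hcop.dvd_of_dvd_mul_right ?_
    rw [show (k + k) * ((2 * d + 1 : ℕ) : ℤ) = k * ((2 * (2 * d + 1) : ℕ) : ℤ) by push_cast; ring]
    exact h1

/-- An automorphism of odd order fixing an involution of the cyclic part is trivial, unless the group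
is a quaternion group of order eight. -/
theorem auto_trivial {S : Type*} [Group S] [Finite S] (hS : IsPGroup 2 S) {R : Subgroup S} (hR : Shape R)
    (A : Subgroup S) {z : S} (hzA : z ∈ A) (hz2 : orderOf z = 2) (hzR : z ∈ R)
    (hQ : IsEmpty (A ≃* QuaternionGroup 2))
    (φ : MulAut A) (hφ : Odd (orderOf φ)) (hfix : φ ⟨z, hzA⟩ = ⟨z, hzA⟩) : φ = 1 := by
  classical
  haveI : Fact (Nat.Prime 2) := ⟨Nat.prime_two⟩
  have hA : IsPGroup 2 A := hS.to_subgroup A
  set B := R.subgroupOf A with hB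
  haveI hcyc : IsCyclic B := by
    haveI := hR.cyc
    exact isCyclic_of_injective
      (MonoidHom.codRestrict ((A.subtype).comp B.subtype) R fun b => Subgroup.mem_subgroupOf.1 b.2)
      (fun a b hab => Subtype.ext (Subtype.ext (congrArg (fun t : R => (t : S)) hab)))
  have htriv : ∀ a : A, (∀ n : ℕ, a ∈ B → (φ ^ n) a ∈ B) → a ∈ B → φ a ∈ B := fun a h ha => by
    simpa using h 1 ha
  by_cases hinv : ∀ b ∈ B, φ b ∈ B
  · -- invariant cyclic part
    let φB : MulAut B :=
      MulEquiv.ofBijective (MonoidHom.mk' (fun b : B => (⟨φ b, hinv b b.2⟩ : B)) fun a b => Subtype.ext (map_mul φ a.1 b.1))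
        (Finite.injective_iff_bijective.1 fun a b hab => Subtype.ext (φ.injective (congrArg Subtype.val hab)))
    have hpow : ∀ (n : ℕ) (b : B), ((φB ^ n) b : A) = (φ ^ n) (b : A) := by
      intro n
      induction n with
      | zero => intro b; rfl
      | succ n ih =>
        intro b
        rw [pow_succ', pow_succ', MulAut.mul_apply, MulAut.mul_apply, ← ih]
        rfl
    have hφB : φB = 1 := by
      have h1 : orderOf φB ∣ orderOf φ := orderOf_dvd_of_pow_eq_one
        (MulEquiv.ext fun b => Subtype.ext (by rw [hpow, pow_orderOf_eq_one]; rfl))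
      obtain ⟨k, hk⟩ := (hA.to_subgroup B).exists_card_eq
      have h := orderOf_dvd_natCard φB
      rw [IsCyclic.card_mulAut, hk] at h
      rcases Nat.eq_zero_or_pos k with rfl | hk0
      · rw [pow_zero, Nat.totient_one, Nat.dvd_one] at h
        exact orderOf_eq_one_iff.1 h
      · rw [Nat.totient_prime_pow Nat.prime_two hk0, show (2 - 1 : ℕ) = 1 from rfl, mul_one] at h
        exact orderOf_eq_one_iff.1 (Nat.eq_one_of_dvd_coprimes
          (((Nat.coprime_two_right.2 (Odd.of_dvd_nat hφ h1))).pow_right (k - 1)) dvd_rfl h)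
    have hBfix : ∀ b ∈ B, φ b = b := fun b hb => congrArg Subtype.val (congrArg (fun e : MulAut B => e ⟨b, hb⟩) hφB)
    refine MulEquiv.ext fun a => ?_
    show φ a = a
    by_cases ha : a ∈ B
    · exact hBfix a ha
    have hφa : φ a ∉ B := fun h => ha (by
      have h' := hBfix _ h
      rwa [φ.injective h'] at h)
    have hmem : a⁻¹ * φ a ∈ B := by
      rw [hB, Subgroup.mem_subgroupOf]
      show (a : S)⁻¹ * (φ a : S) ∈ R
      rw [Subgroup.mul_mem_iff_of_index_two hR.idx]
      exact iff_of_false (fun h => ha (Subgroup.mem_subgroupOf.2 (R.inv_mem_iff.1 h)))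
        (fun h => hφa (Subgroup.mem_subgroupOf.2 h))
    set β := a⁻¹ * φ a with hβ
    have hn : ∀ n : ℕ, (φ ^ n) a = a * β ^ n := by
      intro n
      induction n with
      | zero => simp
      | succ n ih =>
        rw [pow_succ', MulAut.mul_apply, ih, map_mul, map_pow, hBfix β hmem, pow_succ', ← mul_assoc, hβ,
          mul_inv_cancel_left]
    have h1 : β ^ orderOf φ = 1 := by
      have := hn (orderOf φ)
      rw [pow_orderOf_eq_one] at this
      simpa using this.symm
    obtain ⟨k, hk⟩ := hA β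
    have h2 : orderOf β = 1 := Nat.eq_one_of_dvd_coprimes
      ((Nat.coprime_two_left.2 hφ).pow_left k) (orderOf_dvd_of_pow_eq_one hk) (orderOf_dvd_of_pow_eq_one h1)
    have := orderOf_eq_one_iff.1 h2
    rw [hβ, inv_mul_eq_one] at this
    exact this.symm
  -- two different cyclic subgroups of index two
  exfalso
  push Not at hinv
  obtain ⟨b₀, hb₀, hb₀'⟩ := hinv
  obtain ⟨b, hb⟩ := hcyc.exists_generator
  set c := φ (b : A) with hc
  have hgenB : ∀ v ∈ B, ∃ k : ℤ, (b : A) ^ k = v := by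
    intro v hv
    obtain ⟨k, hk⟩ := hb ⟨v, hv⟩
    exact ⟨k, congrArg Subtype.val hk⟩
  have hcB : c ∉ B := by
    intro hcB
    obtain ⟨k, hk⟩ := hgenB b₀ hb₀
    exact hb₀' (by rw [← hk, map_zpow]; exact B.zpow_mem hcB k)
  have hcR : (c : S) ∉ R := fun h => hcB (Subgroup.mem_subgroupOf.2 h)
  have hc2B : c * c ∈ B := Subgroup.mem_subgroupOf.2 (by
    show (c : S) * (c : S) ∈ R
    exact Subgroup.mul_self_mem_of_index_two hR.idx _)
  have hc4 : c * c * (c * c) = 1 := by
    have h := hR.fix _ hcR ((c : S) * (c : S)) (Subgroup.mul_self_mem_of_index_two hR.idx _) (by group)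
    exact Subtype.ext h
  have hb4 : (b : A) * b * ((b : A) * b) = 1 := φ.injective (by
    simp only [map_mul, map_one]
    exact hc4)
  let z' : A := ⟨z, hzA⟩
  have hzB : z' ∈ B := Subgroup.mem_subgroupOf.2 hzR
  have hz' : orderOf z' = 2 := by rw [← Subgroup.orderOf_coe]; exact hz2
  have hzne : z' ≠ 1 := fun h => by rw [h, orderOf_one] at hz'; omega
  have hbb : (b : A) * b ≠ 1 := by
    intro h
    -- then B has order two and is fixed
    obtain ⟨k, hk⟩ := hgenB z' hzB
    rcases Int.even_or_odd k with ⟨j, rfl⟩ | ⟨j, rfl⟩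
    · rw [zpow_add, ← (Commute.refl (b : A)).mul_zpow, h, one_zpow] at hk
      exact hzne hk.symm
    · have hbz : (b : A) = z' := by
        rw [zpow_add, zpow_one, two_mul, zpow_add, ← (Commute.refl (b : A)).mul_zpow, h, one_zpow, one_mul] at hk
        exact hk
      apply hcB
      rw [hc, hbz, hfix]
      exact hzB
  have hb1 : (b : A) ≠ 1 := fun h => hbb (by rw [h, one_mul])
  have hob : orderOf (b : A) = 4 := by
    have hd : orderOf (b : A) ∣ 2 ^ 2 := orderOf_dvd_of_pow_eq_one (by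
      rw [show (2 : ℕ) ^ 2 = 2 + 2 from rfl, pow_add, pow_two]; exact hb4)
    obtain ⟨k, hk, hk'⟩ := (Nat.dvd_prime_pow Nat.prime_two).1 hd
    interval_cases k
    · exact absurd (orderOf_eq_one_iff.1 hk') hb1
    · exact absurd (by rw [← pow_two, ← (show orderOf (b : A) = 2 from hk'), pow_orderOf_eq_one]) hbb
    · exact hk'
  have hBidx : B.index = 2 := by
    refine Subgroup.index_eq_two_iff.2 ⟨c, fun v => ?_⟩
    by_cases hv : v ∈ B
    · exact Or.inr ⟨hv, fun h => hcB ((B.mul_mem_cancel_left hv).1 h)⟩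
    · refine Or.inl ⟨?_, hv⟩
      rw [hB, Subgroup.mem_subgroupOf]
      show (v : S) * (c : S) ∈ R
      rw [Subgroup.mul_mem_iff_of_index_two hR.idx]
      exact iff_of_false (fun h => hv (Subgroup.mem_subgroupOf.2 h)) hcR
  haveI := Subgroup.normal_of_index_eq_two hBidx
  have hBcard : Nat.card B = 4 := by
    rw [← hob, Subgroup.orderOf_coe, orderOf_eq_card_of_forall_mem_zpowers hb]
  have hA8 : Nat.card A = 8 := by rw [← B.card_mul_index, hBcard, hBidx]
  have hsq2 : ∀ v ∈ B, v * v = 1 → v = 1 ∨ v = z' := by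
    intro v hv h2
    have huniq : ∀ p q : B, p * p = 1 → p ≠ 1 → q * q = 1 → q ≠ 1 → p = q := by
      intro p q hp hp1 hq hq1
      have e : ∀ t : B, t * t = 1 → t ≠ 1 → Subgroup.zpowers t = Subgroup.zpowers p := by
        intro t ht ht1
        refine PGroupsCyclic.eq_of_card_eq_of_isCyclic (A := (⊤ : Subgroup B))
          (isCyclic_of_surjective Subgroup.topEquiv.symm.toMonoidHom Subgroup.topEquiv.symm.surjective) le_top le_top ?_
        rw [Nat.card_zpowers, Nat.card_zpowers, orderOf_eq_prime (by rw [pow_two, ht]) ht1,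
          orderOf_eq_prime (by rw [pow_two, hp]) hp1]
      have hmem : q ∈ Subgroup.zpowers p := e q hq hq1 ▸ Subgroup.mem_zpowers q
      obtain ⟨k, hk⟩ := hmem
      simp only at hk
      rcases Int.even_or_odd k with ⟨j, rfl⟩ | ⟨j, rfl⟩
      · rw [zpow_add, ← (Commute.refl p).mul_zpow, hp, one_zpow] at hk
        exact absurd hk.symm hq1
      · rw [zpow_add, zpow_one, two_mul, zpow_add, ← (Commute.refl p).mul_zpow, hp, one_zpow, one_mul] at hk
        exact hk
    by_cases hv1 : v = 1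
    · exact Or.inl hv1
    · right
      have := huniq ⟨v, hv⟩ ⟨z', hzB⟩ (Subtype.ext h2) (fun h => hv1 (congrArg Subtype.val h))
        (Subtype.ext (by
          show z' * z' = 1
          rw [← pow_two, ← hz', pow_orderOf_eq_one]))
        (fun h => hzne (congrArg Subtype.val h))
      exact congrArg Subtype.val this
  have hzb : (b : A) * b = z' := (hsq2 _ (B.mul_mem b.2 b.2) hb4).resolve_left hbb
  have hcz : c * c = z' := by rw [hc, ← map_mul, hzb]; exact hfix
  have hconjB : c * b * c⁻¹ ∈ B := ‹B.Normal›.conj_mem _ b.2 c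
  have hbinv : c * b * c⁻¹ = (b : A)⁻¹ := by
    -- the only other generator
    obtain ⟨k, hk⟩ := hgenB _ hconjB
    have h4 : (b : A) ^ (4 : ℤ) = 1 := by
      rw [show (4 : ℤ) = ((4 : ℕ) : ℤ) from rfl, zpow_natCast, ← hob, pow_orderOf_eq_one]
    have hk4 : (b : A) ^ (k % 4) = c * b * c⁻¹ := by
      rw [← hk]
      conv_rhs => rw [← Int.emod_add_mul_ediv k 4, zpow_add, zpow_mul, h4, one_zpow, mul_one]
    have hcases : k % 4 = 0 ∨ k % 4 = 1 ∨ k % 4 = 2 ∨ k % 4 = 3 := by omega
    rcases hcases with h | h | h | h <;> rw [h] at hk4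
    · rw [zpow_zero] at hk4
      exact absurd (conj_eq_one_iff.1 hk4.symm) hb1
    · rw [zpow_one] at hk4
      exfalso
      have hcomm : Commute c (b : A) := mul_inv_eq_iff_eq_mul.1 hk4.symm
      have := hR.fix _ hcR (((b : A) : S)) (Subgroup.mem_subgroupOf.1 b.2) (congrArg Subtype.val hcomm.eq)
      exact hbb (Subtype.ext this)
    · exfalso
      rw [zpow_two] at hk4
      have e1 : (c * (b : A) * c⁻¹) * (c * (b : A) * c⁻¹) = 1 := by rw [← hk4]; exact hb4
      rw [show (c * (b : A) * c⁻¹) * (c * (b : A) * c⁻¹) = c * ((b : A) * b) * c⁻¹ by group] at e1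
      exact hbb (conj_eq_one_iff.1 e1)
    · rw [← hk4, show (3 : ℤ) = -1 + 4 from rfl, zpow_add, h4, mul_one, zpow_neg_one]
  -- unique involution
  have huniq : ∀ v : A, orderOf v = 2 → v = z' := by
    intro v hv
    have hvv : v * v = 1 := by rw [← pow_two, ← hv, pow_orderOf_eq_one]
    by_cases hvB : v ∈ B
    · exact (hsq2 v hvB hvv).resolve_left (fun h => by rw [h, orderOf_one] at hv; omega)
    exfalso
    have hcv : c⁻¹ * v ∈ B := by
      rw [Subgroup.mul_mem_iff_of_index_two hBidx]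
      exact iff_of_false (fun h => hcB (B.inv_mem_iff.1 h)) hvB
    obtain ⟨k, hk⟩ := hgenB _ hcv
    have : v * v = z' := by
      rw [show v = c * (b : A) ^ k by rw [hk]; group]
      rw [show c * (b : A) ^ k * (c * (b : A) ^ k) = (c * (b : A) * c⁻¹) ^ k * (c * c) * (b : A) ^ k by
        rw [conj_zpow]; group]
      rw [hbinv, hcz, ← hzb, inv_zpow', zpow_neg]
      have hcm : Commute ((b : A) ^ k)⁻¹ ((b : A) * b) :=
        ((Commute.refl (b : A)).zpow_left k).inv_left.mul_right ((Commute.refl (b : A)).zpow_left k).inv_left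
      rw [hcm.eq]
      group
      exact zpow_two (b : A)
    exact hzne (this.symm.trans hvv)
  have hna : ¬ IsMulCommutative A := by
    intro hcomm
    have h := hcomm.is_comm.comm c (b : A)
    have hbinv' := hbinv
    rw [h, mul_inv_cancel_right] at hbinv'
    exact hbb (mul_eq_one_iff_eq_inv.2 hbinv')
  obtain ⟨m, -, ⟨e⟩⟩ := GenQuatFacts62.exists_iso hA hna ⟨z', hz', huniq⟩
  have hm : Nat.card A = 4 * 2 ^ m := by
    rw [Nat.card_congr e.toEquiv, Nat.card_eq_fintype_card, QuaternionGroup.card]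
  rw [hA8] at hm
  have : m = 1 := by
    have h2 : 2 ^ m = 2 := by omega
    exact Nat.pow_right_injective (le_refl 2) (h2.trans (pow_one 2).symm)
  subst this
  exact hQ.false e
theorem coord_invol : ∀ x : BinaryOctahedral.Coord, BinaryOctahedral.mulC (QuaternionGroup.a 2) x x = (1, 0, 0) →
    x = (1, 0, 0) ∨ x = (QuaternionGroup.a 2, 0, 0) := by
  decide +kernel

/-- Quaternion generators in `GL(2,3)`. -/
def glQ : BinaryOctahedral.Q8 → GL (Fin 2) (ZMod 3)
  | .a k => (⟨!![0, 2; 1, 0], !![0, 1; 2, 0], by decide +kernel, by decide +kernel⟩ : GL (Fin 2) (ZMod 3)) ^ k.val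
  | .xa k => (⟨!![2, 2; 2, 1], !![1, 1; 1, 2], by decide +kernel, by decide +kernel⟩ : GL (Fin 2) (ZMod 3)) *
      (⟨!![0, 2; 1, 0], !![0, 1; 2, 0], by decide +kernel, by decide +kernel⟩ : GL (Fin 2) (ZMod 3)) ^ k.val

theorem glQ_mul : ∀ x y, glQ (x * y) = glQ x * glQ y := by decide +kernel

/-- The element of order three. -/
def glC : GL (Fin 2) (ZMod 3) := ⟨!![1, 0; 2, 1], !![1, 0; 1, 1], by decide +kernel, by decide +kernel⟩

/-- The involution. -/
def glU : GL (Fin 2) (ZMod 3) := ⟨!![1, 0; 0, 2], !![1, 0; 0, 2], by decide +kernel, by decide +kernel⟩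

theorem gl_facts : glC ^ 3 = 1 ∧ (∀ q, glC * glQ q * glC⁻¹ = glQ (BinaryOctahedral.sig q)) ∧
    (∀ q, glU * glQ q * glU⁻¹ = glQ (BinaryOctahedral.tau q)) ∧ glU * glC * glU⁻¹ = glC⁻¹ ∧ glU * glU = glQ 1 := by
  decide +kernel

theorem gl_bij : Function.Bijective (BinaryOctahedral.toH (MonoidHom.mk' glQ glQ_mul) glC glU) := by
  decide +kernel


/-- Let G be a finite solvable group with O(G) = 1 whose Sylow 2-subgroup T is dihedral of order at least 8 or semidihedral, with G ≠ T and Z(T) normal in G. Then G has a normal subgroup isomorphic to SL₂(3). -/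
theorem result {G : Type*} [Group G] [Finite G] (hsol : IsSolvable G) (hO : Cfsg.oddCore G = ⊥) (T : Sylow 2 G) (hT : (∃ n : ℕ, 4 ≤ n ∧ Nonempty (↥(T : Subgroup G) ≃* DihedralGroup n)) ∨ Cfsg.IsQuasiDihedral ↥(T : Subgroup G)) (hne : (T : Subgroup G) ≠ ⊤) (hZ : ((T : Subgroup G) ⊓ Subgroup.centralizer ((T : Subgroup G) : Set G)).Normal) : ∃ U : Subgroup G, U.Normal ∧ Nonempty (↥U ≃* Matrix.SpecialLinearGroup (Fin 2) (ZMod 3)) := by
  classical
  haveI : Group.IsSolvable G := hsol
  obtain ⟨R, hR⟩ := exists_shape hT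
  have hp2 : IsPGroup 2 (T : Subgroup G) := T.isPGroup'
  -- the central involution
  obtain ⟨y, hyR, hy⟩ := hR.invol
  haveI hnt : Nontrivial (T : Subgroup G) := ⟨⟨y, 1, fun h => by rw [h, orderOf_one] at hy; omega⟩⟩
  haveI : Fact (Nat.Prime 2) := ⟨Nat.prime_two⟩
  have hR2 : 2 < Nat.card R := by
    have h3 := R.card_mul_index
    rw [hR.idx] at h3
    rcases hT with ⟨n, hn, ⟨e⟩⟩ | ⟨n, hn, hcard', -⟩
    · rw [Nat.card_congr e.toEquiv, DihedralGroup.nat_card] at h3
      omega
    · rw [hcard'] at h3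
      have : 2 ^ 4 ≤ 2 ^ (n + 1) := Nat.pow_le_pow_right (by norm_num) (by omega)
      omega
  have hcenR : ∀ v : (T : Subgroup G), (∀ s, s * v = v * s) → v ∈ R ∧ v * v = 1 := by
    intro v hv
    have hvR : v ∈ R := by
      by_contra hvR
      obtain ⟨r, hr⟩ := hR.cyc.exists_generator
      have h1 := hR.fix _ hvR (r : (T : Subgroup G)) r.2 (hv _).symm
      have h2 : Nat.card R ≤ 2 := by
        rw [← orderOf_eq_card_of_forall_mem_zpowers hr]
        exact Nat.le_of_dvd (by norm_num) (orderOf_dvd_of_pow_eq_one (by rw [pow_two]; exact Subtype.ext h1))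
      omega
    exact ⟨hvR, hR.fix y hyR v hvR (hv y)⟩
  obtain ⟨z, hz, hzc⟩ : ∃ z : (T : Subgroup G), orderOf z = 2 ∧ ∀ s, s * z = z * s := by
    haveI := hp2.center_nontrivial
    obtain ⟨v, hv1⟩ := exists_ne (1 : Subgroup.center (T : Subgroup G))
    refine ⟨v, orderOf_eq_prime ?_ (fun h => hv1 (Subtype.ext h)), fun s => Subgroup.mem_center_iff.1 v.2 s⟩
    rw [pow_two]
    exact (hcenR _ fun s => Subgroup.mem_center_iff.1 v.2 s).2
  have hzR := (hcenR z hzc).1
  have hZ2 : ∀ v ∈ (T : Subgroup G) ⊓ Subgroup.centralizer ((T : Subgroup G) : Set G), v = 1 ∨ v = z := by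
    rintro v ⟨hv, hvc⟩
    obtain ⟨hvR, hv2⟩ := hcenR ⟨v, hv⟩ fun s => Subtype.ext (Subgroup.mem_centralizer_iff.1 hvc s s.2)
    by_cases hv1 : v = 1
    · exact Or.inl hv1
    right
    haveI := hR.cyc
    have e1 : Subgroup.zpowers (⟨⟨v, hv⟩, hvR⟩ : R) = Subgroup.zpowers (⟨z, hzR⟩ : R) := by
      refine PGroupsCyclic.eq_of_card_eq_of_isCyclic (A := (⊤ : Subgroup R))
        (isCyclic_of_surjective Subgroup.topEquiv.symm.toMonoidHom Subgroup.topEquiv.symm.surjective) le_top le_top ?_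
      rw [Nat.card_zpowers, Nat.card_zpowers, ← Subgroup.orderOf_coe (⟨⟨v, hv⟩, hvR⟩ : R),
        ← Subgroup.orderOf_coe (⟨z, hzR⟩ : R)]
      show orderOf (⟨v, hv⟩ : (T : Subgroup G)) = orderOf z
      rw [hz]
      exact orderOf_eq_prime (by rw [pow_two, hv2]) (fun h => hv1 (congrArg Subtype.val h))
    obtain ⟨k, hk⟩ := (e1 ▸ Subgroup.mem_zpowers (⟨⟨v, hv⟩, hvR⟩ : R) :
      (⟨⟨v, hv⟩, hvR⟩ : R) ∈ Subgroup.zpowers (⟨z, hzR⟩ : R))
    have hk' : (z : G) ^ k = v := congrArg (fun t : R => ((t : (T : Subgroup G)) : G)) hk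
    have hz2 : (z : G) * z = 1 := by
      rw [← pow_two]
      have := pow_orderOf_eq_one (z : G)
      rwa [Subgroup.orderOf_coe, hz] at this
    rcases Int.even_or_odd k with ⟨j, rfl⟩ | ⟨j, rfl⟩
    · rw [zpow_add, ← (Commute.refl (z : G)).mul_zpow, hz2, one_zpow] at hk'
      exact absurd hk'.symm hv1
    · rw [zpow_add, zpow_one, two_mul, zpow_add, ← (Commute.refl (z : G)).mul_zpow, hz2, one_zpow,
        one_mul] at hk'
      exact hk'.symm
  have hzne : (z : G) ≠ 1 := fun h => by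
    rw [← Subgroup.orderOf_coe, h, orderOf_one] at hz; omega
  have hzG : ∀ x : G, x * (z : G) * x⁻¹ = z := by
    intro x
    have hc : (z : G) ∈ (T : Subgroup G) ⊓ Subgroup.centralizer ((T : Subgroup G) : Set G) :=
      ⟨z.2, Subgroup.mem_centralizer_iff.2 fun s hs' => congrArg Subtype.val (hzc ⟨s, hs'⟩)⟩
    rcases hZ2 _ (hZ.conj_mem _ hc x) with h | h
    · exact absurd (conj_eq_one_iff.1 h) hzne
    · exact h
  set A := Cfsg.pCore 2 G
  have hC : Subgroup.centralizer (A : Set G) ≤ A := by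
    have h := ComponentsFitting.centralizer_fitting_le_of_solvable (G := G)
    rw [CharTwoLocal.fitting_eq_pCore_of_oddCore_eq_bot hO] at h
    exact h
  have hA2 : IsPGroup 2 A := HallCore.isPGroup_pCore 2 G
  haveI : A.Normal := HallCore.pCore_normal 2 G
  have hAT : A ≤ (T : Subgroup G) := HallCore.pCore_le_sylow T
  have hzA : (z : G) ∈ A := hC (Subgroup.mem_centralizer_iff.2 fun a _ => mul_inv_eq_iff_eq_mul.1 (hzG a))
  obtain ⟨eQ⟩ : Nonempty (A ≃* QuaternionGroup 2) := by
    by_contra hQ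
    have hQ' : IsEmpty ((A.subgroupOf (T : Subgroup G)) ≃* QuaternionGroup 2) :=
      ⟨fun e => hQ ⟨(Subgroup.subgroupOfEquivOfLe hAT).symm.trans e⟩⟩
    apply hne
    have hG : IsPGroup 2 G := by
      refine IsPGroup.of_card (n := (Nat.card G).primeFactorsList.length) ?_
      refine Nat.eq_prime_pow_of_unique_prime_dvd Nat.card_pos.ne' fun {p} hp hdvd => ?_
      by_contra hp2'
      haveI : Fact p.Prime := ⟨hp⟩
      obtain ⟨x, hx⟩ := exists_prime_orderOf_dvd_card' p hdvd
      let A' := A.subgroupOf (T : Subgroup G)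
      let eA : A' ≃* A := Subgroup.subgroupOfEquivOfLe hAT
      let φ : MulAut A' := (MulAut.congr eA.symm) (MulAut.conjNormal (H := A) x)
      have hφ : Odd (orderOf φ) := Odd.of_dvd_nat (hp.odd_of_ne_two hp2')
        (hx ▸ (orderOf_map_dvd (MulAut.congr eA.symm).toMonoidHom _).trans (orderOf_map_dvd _ x))
      have h1 := auto_trivial hp2 hR A' (Subgroup.mem_subgroupOf.2 hzA) hz hzR hQ' φ hφ
        (Subtype.ext (Subtype.ext (hzG x)))
      have hxA : x ∈ A := hC (by
        rw [Subgroup.mem_centralizer_iff]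
        intro a ha
        have h2 : x * a * x⁻¹ = a := by
          have h3 := congrArg (fun ψ : MulAut A' => ((eA (ψ (eA.symm ⟨a, ha⟩)) : A) : G)) h1
          simpa [φ] using h3
        exact (mul_inv_eq_iff_eq_mul.1 h2).symm)
      obtain ⟨k, hk⟩ := hA2 ⟨x, hxA⟩
      have hk' : x ^ 2 ^ k = 1 := by simpa using congrArg Subtype.val hk
      have hd := orderOf_dvd_of_pow_eq_one hk'
      rw [hx] at hd
      exact hp2' ((Nat.prime_dvd_prime_iff_eq hp Nat.prime_two).1 (hp.dvd_of_dvd_pow hd))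
    exact ((T.is_maximal' (hG.to_subgroup ⊤) le_top).symm)
  have hP : ¬ ∃ P : Sylow 2 G, (P : Subgroup G).Normal := by
    rintro ⟨P, hPn⟩
    haveI := hPn
    haveI := Sylow.unique_of_normal P hPn
    obtain rfl : P = T := Subsingleton.elim _ _
    have hTA : (P : Subgroup G) ≤ A := le_sSup ⟨hPn, P.isPGroup'⟩
    have key : ∀ p q : QuaternionGroup 2, p * p = 1 ∧ p ≠ 1 → q * q = 1 ∧ q ≠ 1 → p = q := by decide +kernel
    have hord : ∀ (v : (P : Subgroup G)), orderOf v = 2 →
        eQ ⟨v, hTA v.2⟩ * eQ ⟨v, hTA v.2⟩ = 1 ∧ eQ ⟨v, hTA v.2⟩ ≠ 1 := by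
      intro v hv2
      rw [← pow_two]
      exact orderOf_eq_prime_iff.1 (by rw [MulEquiv.orderOf_eq, Subgroup.orderOf_mk, Subgroup.orderOf_coe, hv2])
    have h := congrArg Subtype.val (eQ.injective (key _ _ (hord y hy) (hord z hz)))
    exact hyR ((Subtype.ext h : y = z) ▸ hzR)
  obtain ⟨f, c, u, w, hF, hbij⟩ := BinaryOctahedral.exists_frame A eQ.symm hC hP
  rcases hF.hw with rfl | rfl
  · have hG : BinaryOctahedral.Frame (MonoidHom.mk' glQ glQ_mul) glC glU 1 :=
      ⟨gl_facts.1, gl_facts.2.1, gl_facts.2.2.1, gl_facts.2.2.2.1, gl_facts.2.2.2.2, Or.inl rfl⟩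
    obtain ⟨Φ, hΦ⟩ := BinaryOctahedral.exists_hom hF hG hbij
    have hΦb : Function.Bijective Φ := by
      refine ⟨fun a b h => ?_, fun g => ?_⟩
      · obtain ⟨a, rfl⟩ := hbij.2 a
        obtain ⟨b, rfl⟩ := hbij.2 b
        rw [hΦ, hΦ] at h
        rw [gl_bij.1 h]
      · obtain ⟨a, rfl⟩ := gl_bij.2 g
        exact ⟨_, hΦ a⟩
    let E : G ≃* GL (Fin 2) (ZMod 3) := MulEquiv.ofBijective Φ hΦb
    haveI : Fact (Nat.Prime 3) := ⟨Nat.prime_three⟩
    set U : Subgroup G := (Matrix.GeneralLinearGroup.det (n := Fin 2) (R := ZMod 3)).ker.comap E.toMonoidHom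
    refine ⟨U, inferInstance, ⟨?_⟩⟩
    refine ((E.subgroupMap U).trans (MulEquiv.subgroupCongr
      (Subgroup.map_comap_eq_self_of_surjective (f := E.toMonoidHom) E.surjective _))).trans ?_
    exact ((MulEquiv.subgroupCongr (PSLCard.range_toGL_eq_ker_det (ι := Fin 2) (R := ZMod 3))).symm.trans
      (MonoidHom.ofInjective Matrix.SpecialLinearGroup.toGL_injective).symm)
  · exfalso
    have hu : ∀ v : G, v * v = 1 → v = 1 ∨ v = BinaryOctahedral.toH f c u (QuaternionGroup.a 2, 0, 0) := by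
      intro v hv
      obtain ⟨x, rfl⟩ := hbij.2 v
      have h1 : BinaryOctahedral.toH f c u (1, 0, 0) = 1 := by simp [BinaryOctahedral.toH]
      rcases coord_invol x (hbij.1 (by rw [BinaryOctahedral.toH_mul hF, hv, h1])) with rfl | rfl
      · exact Or.inl h1
      · exact Or.inr rfl
    have hsq : ∀ v : (T : Subgroup G), orderOf v = 2 → (v : G) * v = 1 ∧ (v : G) ≠ 1 := by
      intro v hv
      rw [← pow_two]
      exact orderOf_eq_prime_iff.1 (by rw [Subgroup.orderOf_coe, hv])
    have hy' := (hu _ (hsq y hy).1).resolve_left (hsq y hy).2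
    have hz' := (hu _ (hsq z hz).1).resolve_left (hsq z hz).2
    exact hyR ((Subtype.ext (hy'.trans hz'.symm) : y = z) ▸ hzR)

end Cfsg.Agent.S2879
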