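import Cfsg.Statements.S2880
import Mathlib


set_option autoImplicit false
open Cfsg
open scoped commutatorElement

namespace Cfsg.Agent.S2880

open scoped commutatorElement in
theorem count {E : Type*} [Group E] [Finite E] (m : ℕ) (hm : 1 ≤ m) (hE : Cfsg.IsExtraspecial 2 E)
    (hcard : Nat.card E = 2 ^ (2 * m + 1)) (A : Subgroup E) (hA : Cfsg.IsElementaryAbelian 2 A)
    (hAcard : Nat.card A = 2 ^ (m + 1)) :
    Nat.card {x : E // orderOf x = 4} = 2 ^ (2 * m) - 2 ^ m := by
  classical
  have : Fintype E := Fintype.ofFinite E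
  obtain ⟨⟨-, -, hder⟩, hZcard⟩ := hE
  set Z := Subgroup.center E with hZ
  have hcomm : ∀ x y : E, ⁅x, y⁆ ∈ Z := fun x y => by
    rw [← hder, commutator_def]
    exact Subgroup.commutator_mem_commutator (Subgroup.mem_top x) (Subgroup.mem_top y)
  have hZpow : ∀ z ∈ Z, z ^ 2 = 1 := by
    intro z hz
    have h1 := pow_card_eq_one' (x := (⟨z, hz⟩ : Z))
    rw [hZcard] at h1
    exact congrArg Subtype.val h1
  -- the centre is `{1, c}`
  obtain ⟨c, hcZ, hc1⟩ : ∃ c ∈ Z, c ≠ 1 := by
    have hne : Z ≠ ⊥ := by intro h; rw [h] at hZcard; simp at hZcard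
    obtain ⟨a, ha⟩ := Subgroup.ne_bot_iff_exists_ne_one.mp hne
    exact ⟨a, a.2, fun h => ha (Subtype.ext h)⟩
  have hZtwo : ∀ z ∈ Z, z = 1 ∨ z = c := by
    intro z hz
    by_contra h
    push Not at h
    have h2 := Nat.card_eq_two_iff' (⟨1, Z.one_mem⟩ : Z) |>.mp hZcard
    obtain ⟨w, -, hw⟩ := h2
    have a1 := hw ⟨z, hz⟩ (fun e => h.1 (congrArg Subtype.val e))
    have a2 := hw ⟨c, hcZ⟩ (fun e => hc1 (congrArg Subtype.val e))
    exact h.2 (congrArg Subtype.val (a1.trans a2.symm))
  have hAab : ∀ a ∈ A, ∀ b ∈ A, a * b = b * a := fun a ha b hb =>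
    congrArg Subtype.val (hA.1.is_comm.comm ⟨a, ha⟩ ⟨b, hb⟩)
  -- squares are central
  have hsq : ∀ x : E, x ^ 2 ∈ Z := by
    intro x
    rw [Subgroup.mem_center_iff]
    intro g
    have hc := hcomm x g
    have h2 := hZpow _ hc
    have hxg : x * g = ⁅x, g⁆ * (g * x) := by simp [commutatorElement_def, mul_assoc]
    have hcc := Subgroup.mem_center_iff.mp hc
    symm
    calc x ^ 2 * g = x * (x * g) := by rw [sq, mul_assoc]
      _ = x * ⁅x, g⁆ * (g * x) := by rw [hxg, ← mul_assoc]
      _ = ⁅x, g⁆ * (x * g) * x := by rw [hcc x]; simp [mul_assoc]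
      _ = ⁅x, g⁆ * ⁅x, g⁆ * (g * x * x) := by rw [hxg]; simp [mul_assoc]
      _ = g * x ^ 2 := by rw [← sq, h2, one_mul, sq, mul_assoc]
  have hmul : ∀ (a : E), a ∈ A → ∀ x : E, (a * x) ^ 2 = ⁅x, a⁆ * x ^ 2 := by
    intro a ha x
    have hxa : x * a = ⁅x, a⁆ * (a * x) := by simp [commutatorElement_def, mul_assoc]
    have hcc := Subgroup.mem_center_iff.mp (hcomm x a)
    have ha2 : a * a = 1 := by rw [← sq]; exact hA.2 a ha
    calc (a * x) ^ 2 = a * (x * a) * x := by simp [sq, mul_assoc]
      _ = a * ⁅x, a⁆ * (a * x) * x := by rw [hxa]; simp [mul_assoc]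
      _ = ⁅x, a⁆ * (a * a) * (x * x) := by rw [hcc a]; simp [mul_assoc]
      _ = ⁅x, a⁆ * x ^ 2 := by rw [ha2, mul_one, sq]
  have hord : ∀ x : E, orderOf x = 4 ↔ x ^ 2 ≠ 1 := by
    intro x
    constructor
    · intro h h2
      have := orderOf_dvd_of_pow_eq_one h2
      rw [h] at this; norm_num at this
    · intro h
      have h4 : x ^ 4 = 1 := by
        rw [show 4 = 2 * 2 from rfl, pow_mul]
        exact hZpow _ (hsq x)
      exact orderOf_eq_prime_pow (p := 2) (n := 1) h h4
  -- commutator with a fixed element is injective on cosets of its centralizer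
  have hdiff : ∀ (x a b : E), a ∈ A → b ∈ A → ⁅x, b * a⁆ = ⁅x, b⁆ * ⁅x, a⁆ := by
    intro x a b _ _
    have hcc := Subgroup.mem_center_iff.mp (hcomm x a)
    have : ⁅x, b * a⁆ = ⁅x, b⁆ * (b * ⁅x, a⁆ * b⁻¹) := by
      simp [commutatorElement_def, mul_assoc]
    rw [this, hcc b, mul_inv_cancel_right]
  -- a maximal abelian: an element centralizing A lies in A
  have hCA : ∀ x : E, (∀ a ∈ A, ⁅x, a⁆ = 1) → x ∈ A := by
    set B := Subgroup.centralizer (A : Set E) with hB
    have hAB : A ≤ B := fun a ha b hb => hAab b hb a ha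
    have hkey : ∀ n : ℕ, ∀ K : Subgroup E, Nat.card K ≤ n → B ≤ K →
        Nat.card A * Nat.card B ≤ Nat.card ↥(A ⊓ Subgroup.centralizer (K : Set E)) * Nat.card K := by
      intro n
      induction n with
      | zero => intro K hK _; exact absurd hK (Nat.not_le.mpr Nat.card_pos)
      | succ n ih =>
        intro K hK hBK
        rcases eq_or_ne B K with rfl | hne
        · rw [inf_of_le_left]
          exact fun a ha b hb => (hb a ha).symm
        obtain ⟨K', hK'⟩ := (Set.toFinite {X : Subgroup E | B ≤ X ∧ X < K}).exists_maximal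
          ⟨B, le_rfl, lt_of_le_of_ne hBK hne⟩
        obtain ⟨x, hxK, hxK'⟩ := SetLike.exists_of_lt hK'.1.2
        set U := A ⊓ Subgroup.centralizer (K' : Set E) with hU
        set U' := A ⊓ Subgroup.centralizer (K : Set E) with hU'
        let f : ↥U →* ↥Z :=
          { toFun := fun a => ⟨⁅x, (a : E)⁆, hcomm x a⟩
            map_one' := Subtype.ext (commutatorElement_one_right x)
            map_mul' := fun a b => Subtype.ext (hdiff x b a b.2.1 a.2.1) }
        have hker : ∀ a : ↥U, a ∈ f.ker → (a : E) ∈ U' := by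
          intro a ha
          have h1 : ⁅x, (a : E)⁆ = 1 := congrArg Subtype.val ha
          refine ⟨a.2.1, ?_⟩
          have h2 : K ≤ Subgroup.centralizer ({(a : E)} : Set E) := by
            have h3 : K' ⊔ Subgroup.zpowers x = K := by
              by_contra h4
              have h5 : K' ⊔ Subgroup.zpowers x ≤ K' := hK'.2
                ⟨hK'.1.1.trans le_sup_left, lt_of_le_of_ne
                  (sup_le hK'.1.2.le (Subgroup.zpowers_le.mpr hxK)) h4⟩ le_sup_left
              exact hxK' (h5 (Subgroup.mem_sup_right (Subgroup.mem_zpowers x)))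
            rw [← h3]
            refine sup_le (fun k hk => ?_) (Subgroup.zpowers_le.mpr ?_)
            · exact Subgroup.mem_centralizer_singleton_iff.mpr (a.2.2 k hk)
            · exact Subgroup.mem_centralizer_singleton_iff.mpr
                (commutatorElement_eq_one_iff_mul_comm.mp h1)
          exact fun k hk => Subgroup.mem_centralizer_singleton_iff.mp (h2 hk)
        have h6 : Nat.card U ≤ 2 * Nat.card U' := by
          rw [← f.ker.index_mul_card]
          refine Nat.mul_le_mul ?_ ?_
          · rw [Subgroup.index_ker, ← hZcard]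
            exact Nat.card_le_card_of_injective Subtype.val Subtype.val_injective
          · exact Nat.card_le_card_of_injective (fun a => (⟨a.1.1, hker a.1 a.2⟩ : ↥U'))
              (fun a b h => Subtype.ext (Subtype.ext (congrArg (fun u : ↥U' => (u : E)) h)))
        have h7 : 2 * Nat.card K' ≤ Nat.card K := by
          have h8 := Subgroup.card_dvd_of_le hK'.1.2.le
          obtain ⟨j, hj⟩ := h8
          have h9 : Nat.card K' < Nat.card K :=
            Set.ncard_lt_ncard (s := (K' : Set E)) (t := (K : Set E))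
              (SetLike.coe_ssubset_coe.mpr hK'.1.2) (Set.toFinite _)
          rw [hj] at h9 ⊢
          have hj2 : 2 ≤ j := by
            by_contra hj2
            interval_cases j <;> simp at h9
          rw [mul_comm 2]; exact Nat.mul_le_mul_left _ hj2
        calc Nat.card A * Nat.card B ≤ Nat.card U * Nat.card K' :=
              ih K' (by have := Nat.card_pos (α := K'); omega) hK'.1.1
          _ ≤ (2 * Nat.card U') * Nat.card K' := Nat.mul_le_mul_right _ h6
          _ = Nat.card U' * (2 * Nat.card K') := by ring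
          _ ≤ _ := Nat.mul_le_mul_left _ h7
    have h1 := hkey _ ⊤ le_rfl le_top
    have h2 : Nat.card ↥(A ⊓ Subgroup.centralizer ((⊤ : Subgroup E) : Set E)) ≤ 2 := by
      rw [← hZcard, hZ, Subgroup.coe_top, Subgroup.centralizer_univ]
      exact Nat.card_le_card_of_injective _ (Subgroup.inclusion_injective inf_le_right)
    rw [Subgroup.card_top, hcard, hAcard] at h1
    have h3 : Nat.card B ≤ 2 ^ (m + 1) := by
      refine Nat.le_of_mul_le_mul_left ?_ (show 0 < 2 ^ (m + 1) by positivity)
      refine h1.trans ((Nat.mul_le_mul_right _ h2).trans (le_of_eq ?_))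
      ring
    intro x hx
    have h4 : (A : Set E) = (B : Set E) := Set.eq_of_subset_of_ncard_le hAB
      (le_trans (le_of_eq (Nat.card_coe_set_eq (B : Set E)).symm)
        (h3.trans (le_of_eq (hAcard.symm.trans (Nat.card_coe_set_eq (A : Set E)))))) (Set.toFinite _)
    have hxB : x ∈ (B : Set E) := fun a ha => (commutatorElement_eq_one_iff_mul_comm.mp (hx a ha)).symm
    rw [← h4] at hxB
    exact hxB
  -- count
  let S : Finset E := Finset.univ.filter (fun x => x ^ 2 ≠ 1)
  have hS : Nat.card {x : E // orderOf x = 4} = S.card := by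
    rw [Nat.card_eq_fintype_card, Fintype.card_subtype]
    exact congrArg _ (Finset.filter_congr fun x _ => hord x)
  rw [hS]
  let W : Finset (E × E) := (Finset.univ.filter (fun x => x ∉ A)) ×ˢ
    (Finset.univ.filter (fun a => a ∈ A))
  -- every x ∉ A: exactly half of A x has square ≠ 1
  have hhalf : ∀ x : E, x ∉ A →
      2 * (Finset.univ.filter (fun a => a ∈ A ∧ (a * x) ^ 2 ≠ 1)).card = 2 ^ (m + 1) := by
    intro x hx
    have hex : ∃ b ∈ A, ⁅x, b⁆ = c := by
      by_contra h
      push Not at h
      exact hx (hCA x fun a ha => (hZtwo _ (hcomm x a)).resolve_right (h a ha))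
    obtain ⟨b, hb, hbc⟩ := hex
    have hflip : ∀ a ∈ A, ((b * a * x) ^ 2 = 1 ↔ ¬ (a * x) ^ 2 = 1) := by
      intro a ha
      rw [hmul _ (A.mul_mem hb ha), hdiff x a b ha hb, hbc, mul_assoc, ← hmul a ha]
      rcases hZtwo _ (hsq (a * x)) with h | h
      · rw [h, mul_one]; simp [hc1]
      · rw [h, ← sq, hZpow c hcZ]; simp [hc1]
    have hbb : b * b = 1 := by rw [← sq]; exact hA.2 b hb
    have heq : (Finset.univ.filter (fun a => a ∈ A ∧ (a * x) ^ 2 ≠ 1)).card =
        (Finset.univ.filter (fun a => a ∈ A ∧ ¬ (a * x) ^ 2 ≠ 1)).card := by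
      refine Finset.card_bij' (fun a _ => b * a) (fun a _ => b * a) ?_ ?_ ?_ ?_
      · intro a ha
        simp only [Finset.mem_filter, Finset.mem_univ, true_and] at ha ⊢
        exact ⟨A.mul_mem hb ha.1, not_not.mpr ((hflip a ha.1).mpr ha.2)⟩
      · intro a ha
        simp only [Finset.mem_filter, Finset.mem_univ, true_and] at ha ⊢
        exact ⟨A.mul_mem hb ha.1, fun h => ((hflip a ha.1).mp h) (not_not.mp ha.2)⟩
      · intro a _; rw [← mul_assoc, hbb, one_mul]
      · intro a _; rw [← mul_assoc, hbb, one_mul]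
    have hsum := Finset.card_filter_add_card_filter_not
      (s := Finset.univ.filter (fun a => a ∈ A)) (fun a => (a * x) ^ 2 ≠ 1)
    rw [Finset.filter_filter, Finset.filter_filter, ← heq] at hsum
    have hA' : (Finset.univ.filter (fun a => a ∈ A)).card = 2 ^ (m + 1) := by
      rw [← hAcard, Nat.card_eq_fintype_card, Fintype.card_subtype]
    omega
  -- double counting
  have hdouble : (W.filter (fun q => (q.2 * q.1) ^ 2 ≠ 1)).card =
      S.card * 2 ^ (m + 1) := by
    have hA' : (Finset.univ.filter (fun a => a ∈ A)).card = 2 ^ (m + 1) := by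
      rw [← hAcard, Nat.card_eq_fintype_card, Fintype.card_subtype]
    rw [← hA', ← Finset.card_product]
    refine Finset.card_bij' (fun q _ => (q.2 * q.1, q.2)) (fun q _ => (q.2⁻¹ * q.1, q.2)) ?_ ?_ ?_ ?_
    · intro q hq
      simp only [W, S, Finset.mem_filter, Finset.mem_product, Finset.mem_univ, true_and] at hq ⊢
      exact ⟨hq.2, hq.1.2⟩
    · intro q hq
      simp only [W, S, Finset.mem_filter, Finset.mem_product, Finset.mem_univ, true_and] at hq ⊢
      rw [mul_inv_cancel_left]
      refine ⟨⟨fun h => hq.1 ?_, hq.2⟩, hq.1⟩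
      have := A.mul_mem hq.2 h
      rw [mul_inv_cancel_left] at this
      exact hA.2 _ this
    · intro q _; simp
    · intro q _; simp
  have hW : 2 * (W.filter (fun q => (q.2 * q.1) ^ 2 ≠ 1)).card =
      (Finset.univ.filter (fun x => x ∉ A)).card * 2 ^ (m + 1) := by
    rw [Finset.card_filter, Finset.sum_product, Finset.mul_sum,
      Finset.sum_const_nat (m := 2 ^ (m + 1))]
    intro x hx
    rw [← Finset.card_filter, Finset.filter_filter]
    exact hhalf x (Finset.mem_filter.mp hx).2
  have hout : (Finset.univ.filter (fun x => x ∉ A)).card = 2 ^ (2 * m + 1) - 2 ^ (m + 1) := by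
    have h1 := Finset.card_filter_add_card_filter_not (s := (Finset.univ : Finset E)) (fun x => x ∈ A)
    have hA' : (Finset.univ.filter (fun a => a ∈ A)).card = 2 ^ (m + 1) := by
      rw [← hAcard, Nat.card_eq_fintype_card, Fintype.card_subtype]
    rw [Finset.card_univ, ← Nat.card_eq_fintype_card, hcard, hA'] at h1
    omega
  rw [hdouble, ← mul_assoc] at hW
  have h3 := Nat.eq_of_mul_eq_mul_right (by positivity) hW
  rw [hout] at h3
  have h4 : 2 ^ (2 * m + 1) = 2 * 2 ^ (2 * m) := by rw [pow_succ]; ring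
  have h5 : 2 ^ (m + 1) = 2 * 2 ^ m := by rw [pow_succ]; ring
  omega

/-- Let E be an extraspecial 2-group of order 2^(2m+1) of plus type, that is, containing an elementary abelian subgroup of order 2^(m+1) (equivalently, a central product of m dihedral groups of order 8). Then E has exactly 2^(2m) − 2^m elements of order 4. -/
theorem result {E : Type*} [Group E] [Finite E] (m : ℕ) (hm : 1 ≤ m) (hE : Cfsg.IsExtraspecial 2 E) (hcard : Nat.card E = 2 ^ (2 * m + 1)) (hplus : ∃ A : Subgroup E, Cfsg.IsElementaryAbelian 2 A ∧ Nat.card A = 2 ^ (m + 1)) : Nat.card {x : E // orderOf x = 4} = 2 ^ (2 * m) - 2 ^ m := by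
  obtain ⟨A, hA, hAcard⟩ := hplus
  exact count m hm hE hcard A hA hAcard

end Cfsg.Agent.S2880
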