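import Cfsg.Statements.S2881
import Mathlib
import Cfsg.Agent.S2880

set_option autoImplicit false
open Cfsg

namespace Cfsg.Agent.S2881

/-- Let E be an extraspecial 2-group of order 2^(2m+1) of plus type (containing an elementary abelian subgroup of order 2^(m+1)), and let ω be an automorphism of E of order 5 whose fixed points are exactly the centre of E. Then m is divisible by 4. -/
theorem result {E : Type*} [Group E] [Finite E] (m : ℕ) (hm : 1 ≤ m) (hE : Cfsg.IsExtraspecial 2 E) (hcard : Nat.card E = 2 ^ (2 * m + 1)) (hplus : ∃ A : Subgroup E, Cfsg.IsElementaryAbelian 2 A ∧ Nat.card A = 2 ^ (m + 1)) (ω : E ≃* E) (hω : orderOf ω = 5) (hfix : ∀ x : E, ω x = x ↔ x ∈ Subgroup.center E) : 4 ∣ m := by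
  classical
  have : Fintype E := Fintype.ofFinite E
  have hp5 : Fact (Nat.Prime 5) := ⟨by norm_num⟩
  have hcnt := Cfsg.Agent.S2880.result m hm hE hcard hplus
  let σ : Equiv.Perm {x : E // orderOf x = 4} :=
    ω.toEquiv.subtypeEquiv fun x => by
      show orderOf x = 4 ↔ orderOf (ω x) = 4
      rw [orderOf_injective ω.toMonoidHom ω.injective x |>.symm]
      rfl
  have hpow : ∀ (n : ℕ) (a : {x : E // orderOf x = 4}), ((σ ^ n) a : E) = (ω ^ n) (a : E) := by
    intro n
    induction n with
    | zero => intro a; rfl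
    | succ n ih =>
      intro a
      rw [pow_succ, pow_succ]
      exact ih (σ a)
  have hσ : σ ^ (5 ^ 1) = 1 := by
    ext a
    rw [hpow]
    rw [pow_one, ← hω, pow_orderOf_eq_one]
    rfl
  have hdvd : 5 ∣ Fintype.card {x : E // orderOf x = 4} := by
    by_contra hnd
    obtain ⟨⟨x, hx⟩, hfx⟩ := Equiv.Perm.exists_fixed_point_of_prime (p := 5) (n := 1) hnd hσ
    have h1 : ω x = x := congrArg Subtype.val hfx
    have h2 := (hfix x).mp h1
    have h3 := hE.2
    have h4 : orderOf x ∣ 2 := by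
      rw [← h3]
      exact Subgroup.orderOf_dvd_natCard _ h2
    rw [hx] at h4
    norm_num at h4
  rw [← Nat.card_eq_fintype_card, hcnt] at hdvd
  have hge : 2 ^ m ≤ 2 ^ (2 * m) := Nat.pow_le_pow_right (by norm_num) (by omega)
  have h5 : 2 ^ (2 * m) % 5 = 2 ^ m % 5 := by
    omega
  rw [show 2 * m = m + m from by ring, pow_add, Nat.mul_mod] at h5
  have hm4 : 2 ^ m % 5 = 2 ^ (m % 4) % 5 := by
    conv_lhs => rw [← Nat.div_add_mod m 4, pow_add, pow_mul, Nat.mul_mod, Nat.pow_mod]
    simp
  rw [hm4] at h5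
  have : m % 4 < 4 := Nat.mod_lt _ (by norm_num)
  rw [Nat.dvd_iff_mod_eq_zero]
  interval_cases h : m % 4 <;> first | rfl | (norm_num at h5)

end Cfsg.Agent.S2881
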