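import Mathlib
import Cfsg.Statements.S2896
import Cfsg.Agent.Lib.CharPLocal

set_option autoImplicit false
open Cfsg

namespace Cfsg.Agent.S2896

/-- Let p be a prime dividing the order of the finite group G, S a Sylow p-subgroup of G and X a subgroup of S. (i) If some nontrivial element z of the centre of X has F*(C_G(z)) = O_p(C_G(z)), then F*(N_G(X)) = O_p(N_G(X)). (ii) G has parabolic characteristic p if and only if F*(C_G(z)) = O_p(C_G(z)) for every nontrivial z ∈ Ω₁(Z(S)). (iii) If F*(C_G(z)) = O_p(C_G(z)) for every element z of S of order p, then G has local characteristic p. -/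
theorem result {G : Type*} [Group G] [Finite G] {p : ℕ} [Fact p.Prime] (hdiv : p ∣ Nat.card G) (S : Sylow p G) (X : Subgroup G) (hX : X ≤ (S : Subgroup G)) : (∀ z : G, z ≠ 1 → z ∈ X → (∀ x ∈ X, x * z = z * x) → Cfsg.generalizedFittingSubgroup ↥(Subgroup.centralizer ({z} : Set G)) = Cfsg.pCore p ↥(Subgroup.centralizer ({z} : Set G)) → Cfsg.generalizedFittingSubgroup ↥(Subgroup.normalizer (X : Set G)) = Cfsg.pCore p ↥(Subgroup.normalizer (X : Set G))) ∧ (Cfsg.IsOfParabolicCharacteristic p G ↔ ∀ z : G, z ≠ 1 → z ∈ Cfsg.omegaOne p ((S : Subgroup G) ⊓ Subgroup.centralizer ((S : Subgroup G) : Set G)) → Cfsg.generalizedFittingSubgroup ↥(Subgroup.centralizer ({z} : Set G)) = Cfsg.pCore p ↥(Subgroup.centralizer ({z} : Set G))) ∧ ((∀ z : G, z ∈ (S : Subgroup G) → orderOf z = p → Cfsg.generalizedFittingSubgroup ↥(Subgroup.centralizer ({z} : Set G)) = Cfsg.pCore p ↥(Subgroup.centralizer ({z} : Set G))) → Cfsg.IsOfLocalCharacteristic p G) := by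
  simp only [Cfsg.Agent.CharPLocal.gen_eq_pCore_iff]
  have main : ∀ (R : Subgroup G), IsPGroup p R → ∀ z, z ∈ R → (∀ x ∈ R, x * z = z * x) →
      Cfsg.Agent.CharPBasic.HasCharP p (Subgroup.centralizer ({z} : Set G)) →
      Cfsg.Agent.CharPBasic.HasCharP p (Subgroup.normalizer (R : Set G)) := by
    intro R hR z hzR hc hz
    refine Cfsg.Agent.CharPLocal.hasCharP_normalizer_of_centralizer R hR
      (Cfsg.Agent.CharPLocal.hasCharP_centralizer_of_le R _ hR ?_ ?_ hz)
    · intro x hx
      exact Subgroup.mem_centralizer_iff.mpr fun y hy => by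
        rw [Set.mem_singleton_iff.mp hy]; exact (hc x hx).symm
    · exact Subgroup.centralizer_le (Set.singleton_subset_iff.mpr hzR)
  have back : ∀ (g : G) (R : Subgroup G),
      Cfsg.Agent.CharPBasic.HasCharP p
        (Subgroup.normalizer ((R.map (MulAut.conj g).toMonoidHom : Subgroup G) : Set G)) →
      Cfsg.Agent.CharPBasic.HasCharP p (Subgroup.normalizer (R : Set G)) := by
    intro g R h
    have h' := Cfsg.Agent.CharPLocal.hasCharP_normalizer_conj g⁻¹ _ h
    have e : (R.map (MulAut.conj g).toMonoidHom).map (MulAut.conj g⁻¹).toMonoidHom = R := by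
      rw [Subgroup.map_map]
      ext x
      simp [Subgroup.mem_map, MulAut.conj_apply, mul_assoc]
    rwa [e] at h'
  refine ⟨fun z _ hzX hc hz => main X (S.2.to_le hX) z hzX hc hz, ⟨?_, ?_⟩, ?_⟩
  · intro hpar z hz1 hz
    have hle : Cfsg.omegaOne p ((S : Subgroup G) ⊓ Subgroup.centralizer ((S : Subgroup G) : Set G)) ≤
        (S : Subgroup G) ⊓ Subgroup.centralizer ((S : Subgroup G) : Set G) :=
      (Subgroup.closure_le _).mpr fun x hx => hx.1
    obtain ⟨hzS, hzc⟩ := hle hz
    set Y := Subgroup.zpowers z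
    have hY : IsPGroup p Y := S.2.to_le (Subgroup.zpowers_le.mpr hzS)
    have hSY : (S : Subgroup G) ≤ Subgroup.centralizer (Y : Set G) := by
      rw [Cfsg.Agent.CharPLocal.centralizer_zpowers]
      intro s hs
      exact Subgroup.mem_centralizer_iff.mpr fun y hy => by
        rw [Set.mem_singleton_iff.mp hy]; exact (Subgroup.mem_centralizer_iff.mp hzc s hs).symm
    have hN := hpar Y hY (by simpa [Y] using hz1)
      ⟨S, hSY.trans (Subgroup.centralizer_le_normalizer _)⟩
    have := Cfsg.Agent.CharPBasic.hasCharP_of_le (H := Subgroup.centralizer (Y : Set G))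
      (Subgroup.centralizer_le_normalizer _) inferInstance hN
    rwa [Cfsg.Agent.CharPLocal.centralizer_zpowers] at this
  · intro h R hR hR1 hpar
    obtain ⟨T, hT⟩ := hpar
    obtain ⟨g, hg⟩ := MulAction.exists_smul_eq G T S
    refine back g R ?_
    set R' := R.map (MulAut.conj g).toMonoidHom
    have hR' : IsPGroup p R' := hR.map _
    have hSN : (S : Subgroup G) ≤ Subgroup.normalizer (R' : Set G) := by
      rw [← Subgroup.map_normalizer_eq_of_bijective R (f := (MulAut.conj g).toMonoidHom)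
        (MulAut.conj g).bijective, ← hg, Sylow.coe_subgroup_smul]
      rintro _ ⟨x, hx, rfl⟩
      exact ⟨x, hT hx, rfl⟩
    have hR'S := Cfsg.Agent.CharPLocal.le_sylow_of_normalized hR' S hSN
    have hR'1 : R' ≠ ⊥ := fun e => hR1
      ((Subgroup.map_eq_bot_iff_of_injective R (f := (MulAut.conj g).toMonoidHom)
        (MulAut.conj g).injective).mp e)
    obtain ⟨z, hzR, hzo, hzc⟩ :=
      Cfsg.Agent.CharPLocal.exists_orderOf_eq_centralized S.2 hR'S hSN hR'1
    refine main R' hR' z hzR (fun x hx => hzc x (hR'S hx)) (h z ?_ ?_)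
    · rintro rfl; simp at hzo; exact (Fact.out : p.Prime).ne_one hzo.symm
    · refine Subgroup.subset_closure ⟨⟨hR'S hzR, Subgroup.mem_centralizer_iff.mpr hzc⟩, ?_⟩
      rw [← hzo]; exact pow_orderOf_eq_one z
  · intro h
    refine ⟨hdiv, fun R hR hR1 => ?_⟩
    obtain ⟨g, hg⟩ := Cfsg.Agent.CharPLocal.exists_conj_le_sylow hR S
    refine back g R ?_
    set R' := R.map (MulAut.conj g).toMonoidHom
    have hR' : IsPGroup p R' := hR.map _
    have hR'1 : R' ≠ ⊥ := fun e => hR1
      ((Subgroup.map_eq_bot_iff_of_injective R (f := (MulAut.conj g).toMonoidHom)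
        (MulAut.conj g).injective).mp e)
    obtain ⟨z, hzR, hzo, hzc⟩ :=
      Cfsg.Agent.CharPLocal.exists_orderOf_eq_centralized hR' le_rfl Subgroup.le_normalizer hR'1
    exact main R' hR' z hzR hzc (h z (hg hzR) hzo)

end Cfsg.Agent.S2896
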