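import Mathlib
import Cfsg.Statements.S2897
import Cfsg.Agent.Lib.CharPLocal

set_option autoImplicit false
open Cfsg

namespace Cfsg.Agent.S2897

/-- Let p be a prime dividing the order of the finite group G, suppose G has parabolic characteristic p, let S be a Sylow p-subgroup of G and G₁ a normal subgroup of G. If Ω₁(Z(S ∩ G₁)) is nontrivial and contained in Ω₁(Z(S)), then G₁ has parabolic characteristic p. -/
theorem result {G : Type*} [Group G] [Finite G] {p : ℕ} [Fact p.Prime] (hdiv : p ∣ Nat.card G) (hG : Cfsg.IsOfParabolicCharacteristic p G) (S : Sylow p G) (G₁ : Subgroup G) [G₁.Normal] (hne : Cfsg.omegaOne p (((S : Subgroup G) ⊓ G₁) ⊓ Subgroup.centralizer (((S : Subgroup G) ⊓ G₁ : Subgroup G) : Set G)) ≠ ⊥) (hle : Cfsg.omegaOne p (((S : Subgroup G) ⊓ G₁) ⊓ Subgroup.centralizer (((S : Subgroup G) ⊓ G₁ : Subgroup G) : Set G)) ≤ Cfsg.omegaOne p ((S : Subgroup G) ⊓ Subgroup.centralizer ((S : Subgroup G) : Set G))) : Cfsg.IsOfParabolicCharacteristic p ↥G₁ := by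
  intro R hR hR1 hpar
  obtain ⟨T, hT⟩ := hpar
  set S₁ : Subgroup G := (S : Subgroup G) ⊓ G₁
  -- every Sylow subgroup of G₁ is conjugate under G₁ to S ∩ G₁
  have hS₁p : IsPGroup p (S₁.subgroupOf G₁) :=
    (S.2.to_le inf_le_left).of_equiv (Subgroup.subgroupOfEquivOfLe inf_le_right).symm
  obtain ⟨U, hU⟩ := hS₁p.exists_le_sylow
  have hUeq : (U : Subgroup G₁) = S₁.subgroupOf G₁ := by
    refine le_antisymm ?_ hU
    -- `U` lifts into a Sylow subgroup of G conjugate to S
    obtain ⟨V, hV⟩ := (U.2.map G₁.subtype).exists_le_sylow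
    obtain ⟨g, hg⟩ := MulAction.exists_smul_eq G V S
    have hcard : Nat.card ((U : Subgroup G₁).map G₁.subtype) ≤ Nat.card S₁ := by
      have h1 : ((U : Subgroup G₁).map G₁.subtype).map (MulAut.conj g).toMonoidHom ≤ S₁ := by
        refine le_inf ?_ ?_
        · rw [← hg, Sylow.coe_subgroup_smul]
          rintro _ ⟨x, hx, rfl⟩
          exact ⟨x, hV hx, rfl⟩
        · rintro _ ⟨x, hx, rfl⟩
          exact (inferInstance : G₁.Normal).conj_mem x (Subgroup.map_subtype_le _ hx) g
      rw [← Subgroup.card_map_of_injective (f := (MulAut.conj g).toMonoidHom)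
        (MulAut.conj g).injective]
      exact Subgroup.card_le_of_le h1
    rw [Subgroup.card_map_of_injective G₁.subtype_injective,
      ← Nat.card_congr (Subgroup.subgroupOfEquivOfLe (inf_le_right : S₁ ≤ G₁)).toEquiv] at hcard
    exact (Subgroup.eq_of_le_of_card_ge hU hcard).ge
  obtain ⟨a, ha⟩ := MulAction.exists_smul_eq G₁ T U
  set R' := R.map (MulAut.conj a).toMonoidHom
  suffices h : Cfsg.Agent.CharPBasic.HasCharP p (Subgroup.normalizer (R' : Set ↥G₁)) by
    have h' := Cfsg.Agent.CharPLocal.hasCharP_normalizer_conj a⁻¹ _ h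
    have e : R'.map (MulAut.conj a⁻¹).toMonoidHom = R := by
      rw [Subgroup.map_map]
      ext x
      simp [Subgroup.mem_map, MulAut.conj_apply, mul_assoc]
    rwa [e] at h'
  have hR' : IsPGroup p R' := hR.map _
  have hUN : (U : Subgroup G₁) ≤ Subgroup.normalizer (R' : Set ↥G₁) := by
    rw [← Subgroup.map_normalizer_eq_of_bijective R (f := (MulAut.conj a).toMonoidHom)
      (MulAut.conj a).bijective, ← ha, Sylow.coe_subgroup_smul]
    rintro _ ⟨x, hx, rfl⟩
    exact ⟨x, hT hx, rfl⟩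
  have hR'U := Cfsg.Agent.CharPLocal.le_sylow_of_normalized hR' U hUN
  have hR'1 : R' ≠ ⊥ := fun e => hR1
    ((Subgroup.map_eq_bot_iff_of_injective R (f := (MulAut.conj a).toMonoidHom)
      (MulAut.conj a).injective).mp e)
  obtain ⟨z, hzR, hzo, hzc⟩ :=
    Cfsg.Agent.CharPLocal.exists_orderOf_eq_centralized U.2 hR'U hUN hR'1
  have hzS₁ : (z : G) ∈ S₁ := by
    have := hR'U hzR
    rw [hUeq] at this
    exact this
  have hzΩ : (z : G) ∈ Cfsg.omegaOne p
      ((S : Subgroup G) ⊓ Subgroup.centralizer ((S : Subgroup G) : Set G)) := by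
    refine hle (Subgroup.subset_closure ⟨⟨hzS₁, Subgroup.mem_centralizer_iff.mpr fun y hy => ?_⟩, ?_⟩)
    · have hy' : (⟨y, hy.2⟩ : G₁) ∈ (U : Subgroup G₁) := by rw [hUeq]; exact hy
      exact congrArg Subtype.val (hzc _ hy')
    · rw [← SubmonoidClass.coe_pow, ← hzo, pow_orderOf_eq_one]; rfl
  obtain ⟨hzS, hzcS⟩ : (z : G) ∈
      (S : Subgroup G) ⊓ Subgroup.centralizer ((S : Subgroup G) : Set G) :=
    (Subgroup.closure_le _).mpr (fun x hx => hx.1) hzΩ
  set RG : Subgroup G := R'.map G₁.subtype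
  have hRG : IsPGroup p RG := hR'.map _
  have hz : Cfsg.Agent.CharPBasic.HasCharP p (Subgroup.centralizer ({(z : G)} : Set G)) := by
    set Y := Subgroup.zpowers (z : G)
    have hY : IsPGroup p Y := S.2.to_le (Subgroup.zpowers_le.mpr hzS)
    have hSY : (S : Subgroup G) ≤ Subgroup.centralizer (Y : Set G) := by
      rw [Cfsg.Agent.CharPLocal.centralizer_zpowers]
      intro s hs
      exact Subgroup.mem_centralizer_iff.mpr fun y hy => by
        rw [Set.mem_singleton_iff.mp hy]; exact (Subgroup.mem_centralizer_iff.mp hzcS s hs).symm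
    have hz1 : (z : G) ≠ 1 := by
      intro h
      rw [show z = 1 from Subtype.ext h, orderOf_one] at hzo
      exact (Fact.out : p.Prime).ne_one hzo.symm
    have hN := hG Y hY (by simpa [Y] using hz1)
      ⟨S, hSY.trans (Subgroup.centralizer_le_normalizer _)⟩
    have := Cfsg.Agent.CharPBasic.hasCharP_of_le (H := Subgroup.centralizer (Y : Set G))
      (Subgroup.centralizer_le_normalizer _) inferInstance hN
    rwa [Cfsg.Agent.CharPLocal.centralizer_zpowers] at this
  have hc : Cfsg.Agent.CharPBasic.HasCharP p (Subgroup.centralizer (RG : Set G)) := by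
    refine Cfsg.Agent.CharPLocal.hasCharP_centralizer_of_le RG _ hRG ?_
      (Subgroup.centralizer_le (Set.singleton_subset_iff.mpr ⟨z, hzR, rfl⟩)) hz
    rintro _ ⟨x, hx, rfl⟩
    exact Subgroup.mem_centralizer_iff.mpr fun y hy => by
      rw [Set.mem_singleton_iff.mp hy]; exact congrArg Subtype.val (hzc x (hR'U hx)).symm
  refine Cfsg.Agent.CharPLocal.hasCharP_normalizer_of_centralizer R' hR' ?_
  have hcG : Cfsg.Agent.CharPBasic.HasCharP p
      ((Subgroup.centralizer (RG : Set G)).subgroupOf G₁) := by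
    have h1 := Cfsg.Agent.CharPBasic.hasCharP_of_normal hc
      (G₁.subgroupOf (Subgroup.centralizer (RG : Set G)))
    exact Cfsg.Agent.CharPBasic.hasCharP_of_equiv
      (((Subgroup.subgroupOfEquivOfLe (inf_le_right : G₁ ⊓ Subgroup.centralizer (RG : Set G) ≤ _)).symm.trans
        (MulEquiv.subgroupCongr (Subgroup.inf_subgroupOf_right _ _))).symm.trans
        ((Subgroup.subgroupOfEquivOfLe (inf_le_left : G₁ ⊓ Subgroup.centralizer (RG : Set G) ≤ _)).symm.trans
          (MulEquiv.subgroupCongr (Subgroup.inf_subgroupOf_left _ _)))) h1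
  have e : Subgroup.centralizer (R' : Set ↥G₁) =
      (Subgroup.centralizer (RG : Set G)).subgroupOf G₁ := by
    ext x
    simp only [Subgroup.mem_centralizer_iff, Subgroup.mem_subgroupOf, SetLike.mem_coe]
    refine ⟨fun h y hy => ?_, fun h y hy => Subtype.ext (h y ⟨y, hy, rfl⟩)⟩
    obtain ⟨w, hw, rfl⟩ := hy
    exact congrArg Subtype.val (h w hw)
  rwa [e]

end Cfsg.Agent.S2897
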