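import Mathlib
import Cfsg.Statements.S2898
import Cfsg.Agent.Lib.PEmbCore
import Cfsg.Agent.Lib.CharPLocal

set_option autoImplicit false
open Cfsg

namespace Cfsg.Agent.S2898

/-- Let G be a finite group of even order with parabolic characteristic 2. If the centre of G ⧸ O(G) is trivial, then O(G) = 1. -/
theorem result {G : Type*} [Group G] [Finite G] (h2 : 2 ∣ Nat.card G) (hG : Cfsg.IsOfParabolicCharacteristic 2 G) [hN : (Cfsg.oddCore G).Normal] (hZ : Subgroup.center (G ⧸ Cfsg.oddCore G) = ⊥) : Cfsg.oddCore G = ⊥ := by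
  haveI : Fact (Nat.Prime 2) := ⟨Nat.prime_two⟩
  by_contra hO1
  set O := Cfsg.oddCore G with hO
  have hOodd : ∀ a ∈ O, (orderOf a).Coprime 2 := fun a ha =>
    (Cfsg.Agent.HallCore.coprime_card_pPrimeCore 2 G).coprime_dvd_left
      (by simpa using Subgroup.orderOf_dvd_natCard O ha)
  obtain ⟨S⟩ : Nonempty (Sylow 2 G) := inferInstance
  have hS1 : (S : Subgroup G) ≠ ⊥ := S.ne_bot_of_dvd_card h2
  -- central involutions of S have trivial centralizer in O
  have free : ∀ t ∈ (S : Subgroup G), t ≠ 1 → (∀ s ∈ (S : Subgroup G), s * t = t * s) →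
      ∀ a ∈ O, Commute t a → a = 1 := by
    intro t ht ht1 htc a ha hta
    set Y := Subgroup.zpowers t
    have hY : IsPGroup 2 Y := S.2.to_le (Subgroup.zpowers_le.mpr ht)
    set N := Subgroup.normalizer (Y : Set G)
    have hCN : Subgroup.centralizer ({t} : Set G) ≤ N := by
      rw [← Cfsg.Agent.CharPLocal.centralizer_zpowers]
      exact Subgroup.centralizer_le_normalizer _
    have hNp := hG Y hY (by simpa [Y] using ht1) ⟨S, fun s hs => hCN
      (Subgroup.mem_centralizer_iff.mpr fun z hz => by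
        rw [Set.mem_singleton_iff.mp hz]; exact (htc s hs).symm)⟩
    have haN : a ∈ N := hCN (Subgroup.mem_centralizer_iff.mpr fun z hz => by
      rw [Set.mem_singleton_iff.mp hz]; exact hta.eq)
    set aN : N := ⟨a, haN⟩
    have hao : (orderOf aN).Coprime 2 := by simpa [aN] using hOodd a ha
    have hc : aN ∈ Subgroup.centralizer (Cfsg.pCore 2 N : Set N) := by
      refine Subgroup.mem_centralizer_iff.mpr fun q hq => ?_
      have h1 : aN * q * aN⁻¹ * q⁻¹ ∈ O.subgroupOf N ⊓ Cfsg.pCore 2 N := by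
        refine ⟨?_, (Cfsg.pCore 2 N).mul_mem ((Cfsg.Agent.HallCore.pCore_normal 2 N).conj_mem q hq aN) ((Cfsg.pCore 2 N).inv_mem hq)⟩
        show a * (q : G) * a⁻¹ * (q : G)⁻¹ ∈ O
        have := O.mul_mem ha (hN.conj_mem _ (O.inv_mem ha) (q : G))
        simpa [mul_assoc] using this
      have h2 : aN * q * aN⁻¹ * q⁻¹ = 1 :=
        Cfsg.Agent.CharPBasic.eq_one_of_coprime_of_mem (Cfsg.Agent.HallCore.isPGroup_pCore 2 N) h1.2
          (by rw [← Subgroup.orderOf_coe]; exact hOodd _ h1.1)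
      rw [mul_inv_eq_one, mul_inv_eq_iff_eq_mul] at h2
      exact h2.symm
    exact congrArg Subtype.val (Cfsg.Agent.CharPBasic.eq_one_of_coprime_of_mem
      (Cfsg.Agent.HallCore.isPGroup_pCore 2 N) (hNp hc) hao)
  -- such involutions invert O
  have inv : ∀ t ∈ (S : Subgroup G), orderOf t = 2 → (∀ s ∈ (S : Subgroup G), s * t = t * s) →
      ∀ a ∈ O, t * a * t⁻¹ = a⁻¹ := by
    intro t ht hto htc
    let φ : O →* O :=
      { toFun := fun a => ⟨t * a * t⁻¹, hN.conj_mem _ a.2 t⟩
        map_one' := Subtype.ext (by simp)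
        map_mul' := fun a b => Subtype.ext (by simp [mul_assoc]) }
    have hfix : MonoidHom.FixedPointFree φ := by
      intro a ha
      have h' : t * (a : G) * t⁻¹ = a := congrArg Subtype.val ha
      have ht1 : t ≠ 1 := by rintro rfl; simp at hto
      exact Subtype.ext (free t ht ht1 htc a a.2 (mul_inv_eq_iff_eq_mul.mp h'))
    have hinv : Function.Involutive φ := by
      intro a
      have h' : t ^ 2 = 1 := hto ▸ pow_orderOf_eq_one t
      apply Subtype.ext
      show t * (t * (a : G) * t⁻¹) * t⁻¹ = a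
      have : t⁻¹ = t := inv_eq_of_mul_eq_one_left (by rw [← pow_two]; exact h')
      rw [this]
      calc t * (t * (a : G) * t) * t = (t ^ 2) * a * (t ^ 2) := by simp only [pow_two, mul_assoc]
        _ = a := by rw [h']; group
    intro a ha
    exact congrArg Subtype.val (congrFun (hfix.coe_eq_inv_of_involutive hinv) ⟨a, ha⟩)
  obtain ⟨t, ht, hto, htc⟩ := Cfsg.Agent.CharPLocal.exists_orderOf_eq_centralized S.2 le_rfl
    Subgroup.le_normalizer hS1
  have hcomm : ∀ a ∈ O, ∀ b ∈ O, Commute a b := by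
    intro a ha b hb
    have h := inv t ht hto htc _ (O.mul_mem ha hb)
    have h1 : t * (a * b) * t⁻¹ = (t * a * t⁻¹) * (t * b * t⁻¹) := by group
    rw [h1, inv t ht hto htc a ha, inv t ht hto htc b hb, ← mul_inv_rev] at h
    exact (inv_injective h).symm
  obtain ⟨a₀, ha₀, ha₀1⟩ : ∃ a ∈ O, a ≠ 1 := (Subgroup.bot_or_exists_ne_one O).resolve_left hO1
  set C := Subgroup.centralizer (O : Set G) with hC
  have hCn : C.Normal := inferInstance
  have hCS : ∀ c ∈ C, c ∈ (S : Subgroup G) → c = 1 := by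
    by_contra hcon
    push_neg at hcon
    obtain ⟨c, hcC, hcS, hc1⟩ := hcon
    obtain ⟨u, ⟨huC, huS⟩, huo, huc⟩ :=
      Cfsg.Agent.CharPLocal.exists_orderOf_eq_centralized (R := C ⊓ (S : Subgroup G)) S.2
        inf_le_right (fun s hs => by
          refine Subgroup.mem_normalizer_iff.mpr fun y => ⟨fun hy => ⟨hCn.conj_mem y hy.1 s,
            (S : Subgroup G).mul_mem ((S : Subgroup G).mul_mem hs hy.2)
              ((S : Subgroup G).inv_mem hs)⟩, fun hy => ⟨?_, ?_⟩⟩
          · simpa [mul_assoc] using hCn.conj_mem _ hy.1 s⁻¹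
          · have h5 := (S : Subgroup G).mul_mem
              ((S : Subgroup G).mul_mem ((S : Subgroup G).inv_mem hs) hy.2) hs
            have e : s⁻¹ * (s * y * s⁻¹) * s = y := by group
            rw [e] at h5; exact h5)
        (fun h => hc1 (by simpa using (h ▸ (⟨hcC, hcS⟩ : c ∈ C ⊓ (S : Subgroup G)) : c ∈ (⊥ : Subgroup G))))
    have hu1 : u ≠ 1 := by rintro rfl; simp at huo
    exact ha₀1 (free u huS hu1 huc a₀ ha₀ (Subgroup.mem_centralizer_iff.mp huC a₀ ha₀).symm)
  have hCO : C ≤ O := by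
    refine Cfsg.Agent.HallCore.le_pPrimeCore (hN := hCn) ?_
    rw [Nat.coprime_comm, Nat.prime_two.coprime_iff_not_dvd]
    intro hdvd
    obtain ⟨c, hc⟩ := exists_prime_orderOf_dvd_card' 2 hdvd
    obtain ⟨g, hg⟩ := Cfsg.Agent.CharPLocal.exists_conj_le_sylow
      (IsPGroup.of_card (G := Subgroup.zpowers (c : G)) (n := 1)
        (by rw [Nat.card_zpowers, Subgroup.orderOf_coe, hc, pow_one])) S
    have h1 := hCS _ (hCn.conj_mem _ c.2 g) (hg ⟨c, Subgroup.mem_zpowers _, rfl⟩)
    rw [mul_inv_eq_one] at h1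
    have : (c : G) = 1 := by simpa using h1
    rw [← Subgroup.orderOf_coe, this, orderOf_one] at hc
    exact absurd hc (by norm_num)
  have hcent : (QuotientGroup.mk t : G ⧸ O) ∈ Subgroup.center (G ⧸ O) := by
    rw [Subgroup.mem_center_iff]
    intro q
    induction q using QuotientGroup.induction_on with
    | H g =>
      rw [← QuotientGroup.mk_mul, ← QuotientGroup.mk_mul, QuotientGroup.eq]
      apply hCO
      rw [hC, Subgroup.mem_centralizer_iff]
      intro a ha
      have e1 : ∀ b ∈ O, t⁻¹ * b * t = b⁻¹ := by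
        intro b hb
        have h' := inv t ht hto htc b⁻¹ (O.inv_mem hb)
        rw [inv_inv] at h'
        have h3 : t⁻¹ * b * t = t⁻¹ * (t * b⁻¹ * t⁻¹) * t := by rw [h']
        simpa [mul_assoc] using h3
      have hga : t * a * t⁻¹ = a⁻¹ := inv t ht hto htc a ha
      have hgag : g * a⁻¹ * g⁻¹ ∈ O := hN.conj_mem _ (O.inv_mem ha) g
      -- conjugation by (g * t)⁻¹ * (t * g) fixes a
      have hfixed : ((g * t)⁻¹ * (t * g)) * a * ((g * t)⁻¹ * (t * g))⁻¹ = a := by
        have h1 : g * a * g⁻¹ ∈ O := hN.conj_mem _ ha g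
        have h2 := inv t ht hto htc _ h1
        have h3 : g⁻¹ * (g * a * g⁻¹)⁻¹ * g = a⁻¹ := by group
        calc ((g * t)⁻¹ * (t * g)) * a * ((g * t)⁻¹ * (t * g))⁻¹
            = t⁻¹ * (g⁻¹ * (t * (g * a * g⁻¹) * t⁻¹) * g) * t := by group
          _ = t⁻¹ * a⁻¹ * t := by rw [h2, h3]
          _ = a := by rw [e1 _ (O.inv_mem ha), inv_inv]
      exact (mul_inv_eq_iff_eq_mul.mp hfixed).symm
  rw [hZ, Subgroup.mem_bot, QuotientGroup.eq_one_iff] at hcent
  have := Cfsg.Agent.CharPBasic.eq_one_of_coprime_of_mem (p := 2) S.2 ht (hOodd t hcent)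
  simp [this] at hto

end Cfsg.Agent.S2898
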