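import Mathlib
import Cfsg.Statements.S2905
import Cfsg.Agent.Lib.TransferPResidual
import Cfsg.Agent.Lib.SubnormalJoin
import Cfsg.Agent.Lib.CoprimeAction
import Cfsg.Agent.Lib.HallCore
import Cfsg.Agent.Lib.CharPLocal
import Cfsg.Agent.Lib.StrongPEmb

set_option autoImplicit false
open Cfsg

namespace Cfsg.Agent.S2905

open scoped Pointwise

/-- Let P be a finite p-minimal group (a Sylow p-subgroup S is not normal and lies in a unique maximal subgroup M of P) and let F be the normal core of M. Then: every subnormal subgroup N of P contained in M satisfies N ∩ S ≤ O_p(P); if O^p(P) has a normal Sylow p-subgroup then the order of P has at most two prime divisors; every normal subgroup N of P either contains O^p(P) or is contained in F; and O^p(P)F ⧸ F is a minimal normal subgroup of P ⧸ F. -/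
theorem result {P : Type*} [Group P] [Finite P] {p : ℕ} [Fact p.Prime] (hP : Cfsg.IsPMinimal p P) (S : Sylow p P) (M : Subgroup P) (hM : IsCoatom M) (hSM : (S : Subgroup P) ≤ M) [hF : M.normalCore.Normal] : (∀ N : Subgroup P, N.IsSubnormal → N ≤ M → N ⊓ (S : Subgroup P) ≤ Cfsg.pCore p P) ∧ ((∀ T : Sylow p ↥(Cfsg.pResidual p P), (T : Subgroup ↥(Cfsg.pResidual p P)).Normal) → (Nat.card P).primeFactors.card ≤ 2) ∧ (∀ N : Subgroup P, N.Normal → Cfsg.pResidual p P ≤ N ∨ N ≤ M.normalCore) ∧ (∀ N : Subgroup P, N.Normal → M.normalCore ≤ N → N ≤ Cfsg.pResidual p P ⊔ M.normalCore → N = M.normalCore ∨ N = Cfsg.pResidual p P ⊔ M.normalCore) ∧ M.normalCore < Cfsg.pResidual p P ⊔ M.normalCore := by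
  classical
  obtain ⟨hSn, M', -, huniq'⟩ := hP S
  have hle : ∀ K : Subgroup P, (S : Subgroup P) ≤ K → K ≠ ⊤ → K ≤ M := by
    intro K hSK hK
    obtain ⟨K', hK', hKK'⟩ := (eq_top_or_exists_le_coatom K).resolve_left hK
    exact ((huniq' K' ⟨hK', hSK.trans hKK'⟩).trans (huniq' M ⟨hM, hSM⟩).symm) ▸ hKK'
  have hMtop : M ≠ ⊤ := hM.1
  set F := M.normalCore with hFdef
  set R := Cfsg.pResidual p P with hRdef
  haveI hRn : R.Normal := by
    refine ⟨fun x hx g => ?_⟩
    have h := Cfsg.Agent.TransferPResidual.map_pResidual_equiv (p := p) (MulAut.conj g)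
    exact h.le ⟨x, hx, by simp⟩
  have hFM : F ≤ M := M.normalCore_le
  have hnormalM : ∀ N : Subgroup P, N.Normal → N ≤ M → N ≤ F := fun N hN h =>
    haveI := hN
    Subgroup.normal_le_normalCore.mpr h
  have hRS : R ⊔ (S : Subgroup P) = ⊤ := by
    rw [sup_comm]; exact Cfsg.Agent.TransferPResidual.sylow_sup_pResidual S
  have hRM : ¬ R ≤ M := fun h => hMtop (top_le_iff.mp (hRS ▸ sup_le h hSM))
  have dich : ∀ N : Subgroup P, N.Normal → R ≤ N ∨ N ≤ F := by
    intro N hN
    by_cases hNM : N ≤ M
    · exact Or.inr (hnormalM N hN hNM)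
    left
    haveI := hN
    refine Cfsg.Agent.TransferPResidual.pResidual_le_of_isPGroup_quotient ?_
    have htop : N ⊔ (S : Subgroup P) = ⊤ := by
      by_contra h
      exact hNM (le_sup_left.trans (hle _ le_sup_right h))
    refine (S.2).of_surjective ((QuotientGroup.mk' N).comp (S : Subgroup P).subtype) fun q => ?_
    induction q using QuotientGroup.induction_on with
    | H g =>
      have hg : g ∈ (N : Set P) * ((S : Subgroup P) : Set P) := by
        rw [← Subgroup.normal_mul, htop]; trivial
      obtain ⟨n, hn, s, hs, rfl⟩ := Set.mem_mul.mp hg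
      exact ⟨⟨s, hs⟩, by simp [(QuotientGroup.eq_one_iff n).mpr hn]⟩
  -- subnormal S-invariant subgroups of M lie in the core
  have hsub : ∀ D : Subgroup P, D.IsSubnormal → D ≤ M →
      (S : Subgroup P) ≤ Subgroup.normalizer (D : Set P) → D ≤ F := by
    intro D hD hDM hSD
    obtain ⟨L, ⟨hDL, hSL, hLtop⟩, hmin⟩ :=
      (Set.toFinite {L : Subgroup P | D ≤ L ∧ (S : Subgroup P) ≤ Subgroup.normalizer (L : Set P) ∧
        L ⊔ (S : Subgroup P) = ⊤}).exists_minimal
        ⟨⊤, le_top, le_top.trans (le_of_eq (Subgroup.normalizer_eq_top_iff.mpr inferInstance).symm),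
          top_sup_eq _⟩
    have hne : D.subgroupOf L ≠ ⊤ := fun h => hMtop (top_le_iff.mp
      (hLtop ▸ sup_le ((Subgroup.subgroupOf_eq_top.mp h).trans hDM) hSM))
    obtain ⟨K, hKn, hDK, hKlt⟩ := (hD.subgroupOf (K := L)).lt_normal.resolve_left hne
    set K1 : Subgroup P := Subgroup.closure {z | ∃ l ∈ L, ∃ d ∈ D, z = l * d * l⁻¹}
    have hK1K : K1 ≤ K.map L.subtype := (Subgroup.closure_le _).mpr (by
      rintro z ⟨l, hl, d, hd, rfl⟩
      exact ⟨⟨l, hl⟩ * ⟨d, hDL hd⟩ * ⟨l, hl⟩⁻¹, hKn.conj_mem _ (hDK hd) _, rfl⟩)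
    have hDK1 : D ≤ K1 := fun d hd =>
      Subgroup.subset_closure ⟨1, L.one_mem, d, hd, by simp⟩
    have hK1L : K1 ≤ L := hK1K.trans (Subgroup.map_subtype_le _)
    have mk : ∀ (X : Subgroup P), (∀ g ∈ X, ∀ l ∈ L, ∀ d ∈ D, g * (l * d * l⁻¹) * g⁻¹ ∈ K1) →
        X ≤ Subgroup.normalizer (K1 : Set P) := by
      intro X hX
      have key : ∀ g ∈ X, ∀ z ∈ K1, g * z * g⁻¹ ∈ K1 := by
        intro g hg z hz
        have hle : K1 ≤ K1.comap (MulAut.conj g).toMonoidHom := (Subgroup.closure_le _).mpr (by
          rintro w ⟨l, hl, d, hd, rfl⟩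
          simpa using hX g hg l hl d hd)
        simpa using hle hz
      intro g hg
      refine Subgroup.mem_normalizer_iff.mpr fun z => ⟨key g hg z, fun h => ?_⟩
      simpa [mul_assoc] using key g⁻¹ (X.inv_mem hg) _ h
    have hLK1 : L ≤ Subgroup.normalizer (K1 : Set P) := mk L fun g hg l hl d hd =>
      Subgroup.subset_closure ⟨g * l, L.mul_mem hg hl, d, hd, by group⟩
    have hSK1 : (S : Subgroup P) ≤ Subgroup.normalizer (K1 : Set P) := mk _ fun g hg l hl d hd =>
      Subgroup.subset_closure ⟨g * l * g⁻¹, (Subgroup.mem_normalizer_iff.mp (hSL hg) l).mp hl,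
        g * d * g⁻¹, (Subgroup.mem_normalizer_iff.mp (hSD hg) d).mp hd, by group⟩
    have hK1n : K1.Normal :=
      Subgroup.normalizer_eq_top_iff.mp (top_le_iff.mp (hLtop ▸ sup_le hLK1 hSK1))
    have hK1M : K1 ≤ M := by
      by_contra h
      have htop : K1 ⊔ (S : Subgroup P) = ⊤ := by
        by_contra hne'
        exact h (le_sup_left.trans (hle _ le_sup_right hne'))
      have hLK : L ≤ K1 := hmin ⟨hDK1, hSK1, htop⟩ hK1L
      refine hKlt.ne (top_le_iff.mp fun l _ => ?_)
      obtain ⟨k, hk, hkl⟩ := hK1K (hLK l.2)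
      exact (Subtype.ext hkl : k = l) ▸ hk
    exact hDK1.trans (hnormalM K1 hK1n hK1M)
  have hFS : F ⊓ (S : Subgroup P) ≤ Cfsg.pCore p P := by
    set W := F ⊓ (S : Subgroup P)
    have hWp : IsPGroup p W := S.2.to_le inf_le_right
    have hWn : W.Normal := by
      by_contra hWn
      set U := (S : Subgroup P).subgroupOf F
      have hUp : IsPGroup p U := S.2.comap_of_injective F.subtype F.subtype_injective
      have hidx : ¬ p ∣ U.index := Cfsg.Agent.StrongPEmb.not_dvd_relIndex_sylow S F
      have hfr := Sylow.normalizer_sup_eq_top (hUp.toSylow hidx)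
      have hN : Subgroup.normalizer (W : Set P) ≠ ⊤ := fun h =>
        hWn (Subgroup.normalizer_eq_top_iff.mp h)
      have hSN : (S : Subgroup P) ≤ Subgroup.normalizer (W : Set P) := by
        have key : ∀ s ∈ (S : Subgroup P), ∀ w ∈ W, s * w * s⁻¹ ∈ W := fun s hs w hw =>
          ⟨hF.conj_mem w hw.1 s, (S : Subgroup P).mul_mem ((S : Subgroup P).mul_mem hs hw.2)
            ((S : Subgroup P).inv_mem hs)⟩
        intro s hs
        refine Subgroup.mem_normalizer_iff.mpr fun w => ⟨key s hs w, fun h => ?_⟩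
        simpa [mul_assoc] using key s⁻¹ ((S : Subgroup P).inv_mem hs) _ h
      apply hMtop
      rw [IsPGroup.toSylow_coe, show U.map F.subtype = W by
        simp only [U, W, Subgroup.subgroupOf_map_subtype, inf_comm]] at hfr
      exact top_le_iff.mp (hfr ▸ sup_le (hle _ hSN hN) hFM)
    exact Cfsg.Agent.HallCore.le_pCore hWp
  refine ⟨?_, ?_, dich, ?_, ?_⟩
  · intro N hN hNM
    set D : Subgroup P := ⨆ s : (S : Subgroup P), N.map (MulAut.conj (s : P)).toMonoidHom with hDdef
    have hDsub : D.IsSubnormal := by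
      haveI := Fintype.ofFinite ↥(S : Subgroup P)
      rw [hDdef, ← Finset.sup_univ_eq_iSup]
      refine Finset.sup_induction (p := Subgroup.IsSubnormal) Subgroup.IsSubnormal.bot
        (fun _ ha _ hb => Cfsg.Agent.SubnormalJoin.isSubnormal_sup ha hb) fun s _ => ?_
      exact hN.map (MulAut.conj (s : P)).surjective
    have hDM : D ≤ M := iSup_le fun s => by
      rintro _ ⟨n, hn, rfl⟩
      simpa using M.mul_mem (M.mul_mem (hSM s.2) (hNM hn)) (M.inv_mem (hSM s.2))
    have hSD : (S : Subgroup P) ≤ Subgroup.normalizer (D : Set P) := by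
      have key : ∀ s ∈ (S : Subgroup P), ∀ d ∈ D, s * d * s⁻¹ ∈ D := by
        intro s hs d hd
        have hle : D ≤ D.comap (MulAut.conj s).toMonoidHom := iSup_le fun t => by
          rintro _ ⟨n, hn, rfl⟩
          exact le_iSup (fun s : (S : Subgroup P) => N.map (MulAut.conj (s : P)).toMonoidHom)
            (⟨s, hs⟩ * t) ⟨n, hn, by simp [MulAut.conj_apply, mul_assoc]⟩
        simpa using hle hd
      intro s hs
      refine Subgroup.mem_normalizer_iff.mpr fun d => ⟨key s hs d, fun h => ?_⟩
      simpa [mul_assoc] using key s⁻¹ ((S : Subgroup P).inv_mem hs) _ h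
    intro x hx
    refine hFS ⟨hsub D hDsub hDM hSD ?_, hx.2⟩
    exact le_iSup (fun s : (S : Subgroup P) => N.map (MulAut.conj (s : P)).toMonoidHom) 1
      ⟨x, hx.1, by simp⟩
  · intro hclosed
    obtain ⟨U₀⟩ : Nonempty (Sylow p ↥R) := inferInstance
    haveI hU₀c : (U₀ : Subgroup ↥R).Characteristic := Sylow.characteristic_of_normal U₀ (hclosed U₀)
    set U : Subgroup P := (U₀ : Subgroup ↥R).map R.subtype with hUdef
    haveI hUn : U.Normal := by rw [hUdef]; infer_instance
    have hUp : IsPGroup p U := U₀.2.map _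
    have hUS : U ≤ (S : Subgroup P) :=
      Cfsg.Agent.CharPLocal.le_sylow_of_normalized hUp S
        (le_top.trans (le_of_eq (Subgroup.normalizer_eq_top_iff.mpr hUn).symm))
    set π := QuotientGroup.mk' U
    set A := (S : Subgroup P).map π
    set K := R.map π
    have hA : IsPGroup p A := S.2.map _
    have hKp : ¬ p ∣ Nat.card K := by
      rw [← Subgroup.relIndex_ker, QuotientGroup.ker_mk']
      show ¬ p ∣ (U.subgroupOf R).index
      rw [hUdef, Subgroup.subgroupOf, Subgroup.comap_map_eq_self_of_injective R.subtype_injective]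
      exact U₀.not_dvd_index
    have hcop : (Nat.card A).Coprime (Nat.card K) := by
      obtain ⟨k, hk⟩ := IsPGroup.iff_card.mp hA
      rw [hk]
      exact Nat.Coprime.pow_left _ ((Fact.out : p.Prime).coprime_iff_not_dvd.mpr hKp)
    have hAK : A ≤ Subgroup.normalizer (K : Set (P ⧸ U)) := by
      haveI : K.Normal := hRn.map π (QuotientGroup.mk'_surjective U)
      exact le_top.trans (le_of_eq (Subgroup.normalizer_eq_top_iff.mpr inferInstance).symm)
    haveI : Group.IsNilpotent A := hA.isNilpotent
    have hsolv : Group.IsSolvable A ∨ Group.IsSolvable K := Or.inl inferInstance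
    by_contra hcard
    push Not at hcard
    apply hRM
    have hKM : K ≤ M.map π := by
      refine le_of_eq_of_le ?_ (inf_le_right : K ⊓ M.map π ≤ M.map π)
      refine (Subgroup.eq_of_le_of_card_ge inf_le_left (Nat.le_of_dvd Nat.card_pos ?_)).symm
      rw [Nat.dvd_iff_prime_pow_dvd_dvd]
      intro t j ht htj
      haveI := Fact.mk ht
      obtain ⟨T, hT⟩ := Cfsg.Agent.CoprimeAction.exists_invariant_sylow hAK hcop hsolv t
      set T' : Subgroup (P ⧸ U) := (T : Subgroup ↥K).map K.subtype
      have hTM : T' ≤ M.map π := by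
        by_cases htop : T' ⊔ A = ⊤
        · exfalso
          have hT'n : T'.Normal := Subgroup.normalizer_eq_top_iff.mp
            (top_le_iff.mp (htop ▸ sup_le Subgroup.le_normalizer hT))
          have hsub : (Nat.card P).primeFactors ⊆ {p, t} := by
            intro r hr
            rw [Nat.mem_primeFactors] at hr
            obtain ⟨hr, hrd, -⟩ := hr
            rw [Finset.mem_insert, Finset.mem_singleton]
            by_contra hne
            simp only [not_or] at hne
            obtain ⟨u, hu⟩ := IsPGroup.iff_card.mp hUp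
            obtain ⟨a, ha⟩ := IsPGroup.iff_card.mp hA
            obtain ⟨c, hc⟩ := IsPGroup.iff_card.mp (T.2.map K.subtype)
            have hidx : T'.index ∣ Nat.card A := by
              have hre : T'.relIndex (A ⊔ T') = T'.relIndex A := Subgroup.relIndex_sup_right A T'
              rw [sup_comm, htop, Subgroup.relIndex_top_right] at hre
              exact hre ▸ Subgroup.relIndex_dvd_card T' A
            have hQ : Nat.card (P ⧸ U) ∣ p ^ a * t ^ c := by
              rw [← T'.card_mul_index, ← ha, mul_comm (Nat.card A)]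
              exact mul_dvd_mul (dvd_of_eq hc) hidx
            have hP' : r ∣ p ^ u * (p ^ a * t ^ c) := by
              refine hrd.trans ?_
              rw [← U.card_mul_index, hu]
              exact mul_dvd_mul_left _ hQ
            rcases (Nat.Prime.dvd_mul hr).mp hP' with h | h
            · exact hne.1 ((Nat.prime_dvd_prime_iff_eq hr Fact.out).mp (hr.dvd_of_dvd_pow h))
            · rcases (Nat.Prime.dvd_mul hr).mp h with h | h
              · exact hne.1 ((Nat.prime_dvd_prime_iff_eq hr Fact.out).mp (hr.dvd_of_dvd_pow h))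
              · exact hne.2 ((Nat.prime_dvd_prime_iff_eq hr ht).mp (hr.dvd_of_dvd_pow h))
          exact absurd ((Finset.card_le_card hsub).trans Finset.card_le_two) (not_le.mpr hcard)
        · have hS' : (S : Subgroup P) ≤ (T' ⊔ A).comap π :=
            Subgroup.map_le_iff_le_comap.mp le_sup_right
          have hne : (T' ⊔ A).comap π ≠ ⊤ := fun h => htop (by
            rw [← Subgroup.map_comap_eq_self_of_surjective (QuotientGroup.mk'_surjective U) (T' ⊔ A),
              h, Subgroup.map_top_of_surjective _ (QuotientGroup.mk'_surjective U)])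
          intro x hx
          obtain ⟨y, rfl⟩ := QuotientGroup.mk'_surjective U x
          exact ⟨y, hle _ hS' hne (Subgroup.mem_sup_left hx), rfl⟩
      have h1 : t ^ j ∣ Nat.card T' := by
        rw [Subgroup.card_map_of_injective K.subtype_injective, T.card_eq_multiplicity]
        exact pow_dvd_pow t ((ht.pow_dvd_iff_le_factorization Nat.card_pos.ne').mp htj)
      exact h1.trans (Subgroup.card_dvd_of_le (le_inf (Subgroup.map_subtype_le _) hTM))
    intro x hx
    obtain ⟨m, hm, hmx⟩ := hKM ⟨x, hx, rfl⟩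
    have h1 : m⁻¹ * x ∈ U := QuotientGroup.eq.mp hmx
    simpa using M.mul_mem hm (hSM (hUS h1))
  · intro N hN hFN hNle
    by_cases hNF : N ≤ F
    · exact Or.inl (le_antisymm hNF hFN)
    · exact Or.inr (le_antisymm hNle (sup_le ((dich N hN).resolve_right hNF) hFN))
  · refine lt_of_le_of_ne le_sup_right fun h => hRM ?_
    exact (le_sup_left.trans h.ge).trans hFM

end Cfsg.Agent.S2905
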