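import Mathlib
import Cfsg.Statements.S2906
import Cfsg.Agent.S2905
import Cfsg.Agent.Lib.ComponentsFitting
import Cfsg.Agent.Lib.StrongPEmb
import Cfsg.Agent.Lib.LocalBasics
import Cfsg.Agent.Lib.HallCore
import Cfsg.Agent.Lib.CoprimeAction
import Cfsg.Agent.Lib.TransferPResidual

set_option autoImplicit false
open Cfsg

namespace Cfsg.Agent.S2906

open Subgroup Cfsg.Agent
open scoped Pointwise

theorem isSolvable_of_sylow {P : Type*} [Group P] [Finite P] {p t : ℕ} [Fact p.Prime] [Fact t.Prime]
    (T : Subgroup P) [T.Normal] (hT : IsPGroup t T) (S : Sylow p P) (h : T ⊔ (S : Subgroup P) = ⊤) :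
    Group.IsSolvable P := by
  haveI : Group.IsNilpotent ↥T := hT.isNilpotent
  haveI : Group.IsSolvable (P ⧸ T) := by
    haveI : Group.IsNilpotent ↥(S : Subgroup P) := S.2.isNilpotent
    refine Group.isSolvable_of_surjective (f := (QuotientGroup.mk' T).comp (S : Subgroup P).subtype) fun q => ?_
    induction q using QuotientGroup.induction_on with
    | H g =>
      have hg : g ∈ ((T ⊔ (S : Subgroup P) : Subgroup P) : Set P) := by rw [h]; trivial
      rw [Subgroup.normal_mul] at hg
      obtain ⟨n, hn, s, hs, rfl⟩ := Set.mem_mul.mp hg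
      exact ⟨⟨s, hs⟩, by simp [(QuotientGroup.eq_one_iff n).mpr hn]⟩
  exact Group.isSolvable_of_ker_le_range T.subtype (QuotientGroup.mk' T)
    (by rw [QuotientGroup.ker_mk', Subgroup.range_subtype])

/-- Let P be a finite p-minimal group with O_p(P) = 1, S a Sylow p-subgroup of P and K a component of P. Then O^p(P) = F*(P) = E(P) is generated by the S-conjugates of K, and the subgroup K·N_S(K) is again p-minimal. -/
theorem result {P : Type*} [Group P] [Finite P] {p : ℕ} [Fact p.Prime] (hP : Cfsg.IsPMinimal p P) (hOp : Cfsg.pCore p P = ⊥) (S : Sylow p P) (K : Subgroup P) (hK : Cfsg.IsComponent K) : Cfsg.pResidual p P = Cfsg.generalizedFittingSubgroup P ∧ Cfsg.generalizedFittingSubgroup P = Cfsg.layer P ∧ Cfsg.layer P = ⨆ s : ↥(S : Subgroup P), K.map (MulAut.conj (s : P)).toMonoidHom ∧ Cfsg.IsPMinimal p ↥(K ⊔ ((S : Subgroup P) ⊓ Subgroup.normalizer (K : Set P))) := by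
  classical
  obtain ⟨hSn, M, hM', huniq⟩ := hP S
  obtain ⟨hM, hSM⟩ := hM'
  haveI hFn : M.normalCore.Normal := M.normalCore_normal
  obtain ⟨h1, -, h3, -, -⟩ := Cfsg.Agent.S2905.result hP S M hM hSM
  have hKp := ComponentsBasic.IsComponent.perfect hK
  have hPns : ¬ Group.IsSolvable P := fun h =>
    ComponentsBasic.IsComponent.not_isSolvable hK inferInstance
  have hle : ∀ X : Subgroup P, (S : Subgroup P) ≤ X → X ≠ ⊤ → X ≤ M := by
    intro X hSX hX
    obtain ⟨X', hX', hXX'⟩ := (eq_top_or_exists_le_coatom X).resolve_left hX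
    exact (huniq X' ⟨hX', hSX.trans hXX'⟩) ▸ hXX'
  -- a normal `p'`-subgroup inside `M` or above `R` has all invariant Sylow subgroups in `M`
  set R := Cfsg.pResidual p P with hRdef
  haveI hRn : R.Normal := by
    refine ⟨fun x hx g => ?_⟩
    have h := TransferPResidual.map_pResidual_equiv (p := p) (MulAut.conj g)
    exact h.le ⟨x, hx, by simp⟩
  have hRS : R ⊔ (S : Subgroup P) = ⊤ := by
    rw [sup_comm]; exact TransferPResidual.sylow_sup_pResidual S
  set F := M.normalCore with hFdef
  have hFM : F ≤ M := M.normalCore_le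
  have hFp : ∀ N : Subgroup P, N.IsSubnormal → N ≤ M → N ⊓ (S : Subgroup P) = ⊥ := fun N hN hNM =>
    le_bot_iff.mp (hOp ▸ h1 N hN hNM)
  have hinv : ∀ N : Subgroup P, N.Normal → ¬ p ∣ Nat.card N → ∀ t : ℕ, ∀ _ : Fact t.Prime,
      ∃ T : Sylow t ↥N,
        (S : Subgroup P) ≤ normalizer ((T : Subgroup ↥N).map N.subtype : Set P) := by
    intro N hN hNp t ht
    haveI := ht
    haveI := hN
    haveI : Group.IsNilpotent ↥(S : Subgroup P) := S.2.isNilpotent
    refine CoprimeAction.exists_invariant_sylow (LocalBasics.le_normalizer_of_normal _) ?_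
      (Or.inl inferInstance) t
    obtain ⟨k, hk⟩ := IsPGroup.iff_card.mp S.2
    rw [hk]
    exact Nat.Coprime.pow_left _ ((Fact.out : p.Prime).coprime_iff_not_dvd.mpr hNp)
  have hFcard : ¬ p ∣ Nat.card F := by
    intro h
    have := StrongPEmb.not_dvd_relIndex_sylow S F
    rw [← Subgroup.inf_relIndex_right, inf_comm, hFp F (Normal.isSubnormal hFn) hFM,
      Subgroup.relIndex_bot_left] at this
    exact this h
  -- `F` is nilpotent
  have hFnil : Group.IsNilpotent ↥F := by
    refine Group.isNilpotent_of_finite_tfae.out 3 0 |>.mp fun t ht T => ?_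
    haveI := ht
    obtain ⟨T₀, hT₀⟩ := hinv F hFn hFcard t inferInstance
    suffices h : (T₀ : Subgroup ↥F).Normal by
      haveI := Sylow.unique_of_normal T₀ h
      rwa [Subsingleton.elim T T₀]
    have hfr := Sylow.normalizer_sup_eq_top T₀
    have htop : normalizer ((T₀ : Subgroup ↥F).map F.subtype : Set P) = ⊤ := by
      by_contra hne
      exact hM.1 (top_le_iff.mp (hfr ▸ sup_le (hle _ hT₀ hne) hFM))
    haveI : ((T₀ : Subgroup ↥F).map F.subtype).Normal := normalizer_eq_top_iff.mp htop
    have h := (inferInstance : (((T₀ : Subgroup ↥F).map F.subtype).comap F.subtype).Normal)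
    rwa [comap_map_eq_self_of_injective F.subtype_injective] at h
  haveI := hFnil
  haveI : Group.IsSolvable ↥F := inferInstance
  set E := Cfsg.layer P with hEdef
  haveI hEn : E.Normal := by
    refine ⟨fun x hx g => ?_⟩
    exact (ComponentsBasic.layer_map_mulEquiv (MulAut.conj g)).le ⟨x, hx, by simp⟩
  have hKF : ¬ K ≤ F := ComponentsBasic.isQuasisimple_not_le_solvable hK.2
  have hRleE : R ≤ E := (h3 E hEn).resolve_right fun h =>
    hKF ((ComponentsBasic.component_le_layer hK).trans h)
  -- a perfect subgroup lies in every normal subgroup with `p`-group quotient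
  have hperf : ∀ X : Subgroup P, ⁅X, X⁆ = X → X ≤ R := by
    intro X hX
    haveI : Group.IsSolvable (P ⧸ R) := by
      haveI : Group.IsNilpotent ↥(S : Subgroup P) := S.2.isNilpotent
      refine Group.isSolvable_of_surjective (f := (QuotientGroup.mk' R).comp (S : Subgroup P).subtype) fun q => ?_
      induction q using QuotientGroup.induction_on with
      | H g =>
        have hg : g ∈ ((R ⊔ (S : Subgroup P) : Subgroup P) : Set P) := by rw [hRS]; trivial
        rw [Subgroup.normal_mul] at hg
        obtain ⟨n, hn, s, hs, rfl⟩ := Set.mem_mul.mp hg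
        exact ⟨⟨s, hs⟩, by simp [(QuotientGroup.eq_one_iff n).mpr hn]⟩
    exact ComponentsBasic.perfect_le_of_quotient_solvable hX R
  have hRE : R = E := le_antisymm hRleE (hperf E ComponentsBasic.layer_perfect)
  have hFit : Cfsg.fittingSubgroup P ≤ R := by
    rw [ComponentsFitting.fittingSubgroup_eq_iSup]
    refine iSup_le fun q => ?_
    by_cases hq : (q : ℕ) = p
    · rw [hq, hOp]; exact bot_le
    haveI : Fact (Nat.Prime q) := ⟨Nat.prime_of_mem_primeFactors q.2⟩
    intro x hx
    refine Subgroup.subset_closure ?_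
    obtain ⟨k, hk⟩ := (IsPGroup.iff_orderOf.mp (HallCore.isPGroup_pCore (q : ℕ) P)) ⟨x, hx⟩
    show Nat.Coprime (orderOf x) p
    rw [show x = ((⟨x, hx⟩ : ↥(Cfsg.pCore (q : ℕ) P)) : P) from rfl, orderOf_coe, hk]
    exact Nat.Coprime.pow_left _ ((Nat.coprime_primes (Fact.out) (Fact.out)).mpr hq)
  have hgen : Cfsg.generalizedFittingSubgroup P = E :=
    le_antisymm (sup_le le_rfl (hFit.trans hRleE)) le_sup_left
  -- conjugates of `K` under `S`
  set cj : P → Subgroup P := fun s => K.map (MulAut.conj s).toMonoidHom with hcj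
  have hcomp : ∀ s, Cfsg.IsComponent (cj s) := fun s => ComponentsBasic.isComponent_conj hK s
  have hKE : K ≤ E := ComponentsBasic.component_le_layer hK
  set D : Subgroup P := ⨆ s : ↥(S : Subgroup P), cj (s : P) with hDdef
  have hED : E ≤ normalizer (D : Set P) := by
    refine LocalBasics.le_normalizer_of_conj fun e he d hd => ?_
    have h : D ≤ D.comap (MulAut.conj e).toMonoidHom := iSup_le fun t => fun x hx =>
      le_iSup (fun s : ↥(S : Subgroup P) => cj (s : P)) t
        (LocalBasics.conj_mem_of_le_normalizer (ComponentsBasic.layer_le_normalizer_component (hcomp _)) he hx)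
    exact h hd
  have hSD : (S : Subgroup P) ≤ normalizer (D : Set P) := by
    refine LocalBasics.le_normalizer_of_conj fun s hs d hd => ?_
    have h : D ≤ D.comap (MulAut.conj s).toMonoidHom := iSup_le fun t => by
      rintro _ ⟨x, hx, rfl⟩
      exact le_iSup (fun s : ↥(S : Subgroup P) => cj (s : P)) (⟨s, hs⟩ * t)
        ⟨x, hx, by simp [mul_assoc]⟩
    exact h hd
  haveI hDn : D.Normal := normalizer_eq_top_iff.mp (top_le_iff.mp (hRS ▸ sup_le (hRE ▸ hED) hSD))
  have hKD : K ≤ D := fun x hx => le_iSup (fun s : ↥(S : Subgroup P) => cj (s : P)) 1 ⟨x, hx, by simp⟩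
  have hEgen : E = D := le_antisymm (hRE ▸ (h3 D hDn).resolve_right fun h => hKF (hKD.trans h))
    (iSup_le fun s => ComponentsBasic.component_le_layer (hcomp _))
  refine ⟨hRE.trans hgen.symm, hgen, hEgen, ?_⟩
  have hKM : ¬ K ≤ M := fun h => by
    refine hKF (hKD.trans (Subgroup.normal_le_normalCore.mpr (iSup_le fun s => ?_)))
    rintro _ ⟨x, hx, rfl⟩
    simpa using M.mul_mem (M.mul_mem (hSM s.2) (h hx)) (M.inv_mem (hSM s.2))
  -- Sylow subgroups of `K`
  have hKEn : (K.subgroupOf E).Normal := ComponentsBasic.component_normal_in_layer hK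
  have hSK : ¬ p ∣ (S : Subgroup P).relIndex K := by
    obtain ⟨Q, hQ⟩ := LocalBasics.exists_sylow_inf S E
    haveI := hKEn
    have h := StrongPEmb.not_dvd_relIndex_sylow Q (K.subgroupOf E)
    rw [hQ, Subgroup.subgroupOf, Subgroup.relIndex_comap, map_subgroupOf_eq_of_le hKE] at h
    exact h
  have hpK : p ∣ Nat.card K := by
    by_contra hK0
    have hcardE : ¬ p ∣ Nat.card E := by
      intro h
      have hprod : ∀ L : Finset ↥(S : Subgroup P), ¬ p ∣ Nat.card ↥(L.sup fun s => cj (s : P)) := by
        intro L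
        induction L using Finset.induction_on with
        | empty => simp [(Fact.out : p.Prime).ne_one]
        | @insert a L ha ih =>
          rw [Finset.sup_insert]
          intro hd
          have hn : (L.sup fun s => cj (s : P)) ≤ normalizer (cj (a : P) : Set P) :=
            Finset.sup_le fun s _ => ComponentsBasic.component_le_normalizer (hcomp _) (hcomp _)
          have hc : Nat.card ↥(cj (a : P)) = Nat.card K :=
            card_map_of_injective (MulAut.conj (a : P)).injective
          set N := normalizer (cj (a : P) : Set P)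
          haveI : ((cj (a : P)).subgroupOf N).Normal := LocalBasics.normal_subgroupOf_of_le le_rfl
          have hdvd := HallCore.card_sup_dvd ((L.sup fun s => cj (s : P)).subgroupOf N)
            ((cj (a : P)).subgroupOf N)
          rw [← subgroupOf_sup hn le_normalizer, sup_comm,
            Nat.card_congr (subgroupOfEquivOfLe (sup_le le_normalizer hn)).toEquiv,
            Nat.card_congr (subgroupOfEquivOfLe hn).toEquiv,
            Nat.card_congr (subgroupOfEquivOfLe (le_normalizer : cj (a : P) ≤ N)).toEquiv, mul_comm] at hdvd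
          rcases (Nat.Prime.dvd_mul Fact.out).mp (hd.trans hdvd) with h' | h'
          · exact hK0 (hc ▸ h')
          · exact ih h'
      haveI := Fintype.ofFinite ↥(S : Subgroup P)
      exact hprod Finset.univ (by rw [Finset.sup_univ_eq_iSup, ← hDdef, ← hEgen]; exact h)
    refine hKM (hKE.trans ?_)
    refine le_of_eq_of_le ?_ (inf_le_right : E ⊓ M ≤ M)
    refine (eq_of_le_of_card_ge inf_le_left (Nat.le_of_dvd Nat.card_pos ?_)).symm
    rw [Nat.dvd_iff_prime_pow_dvd_dvd]
    intro t j ht htj
    haveI := Fact.mk ht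
    obtain ⟨T, hT⟩ := hinv E hEn hcardE t inferInstance
    set T' : Subgroup P := (T : Subgroup ↥E).map E.subtype
    have hTM : T' ≤ M := by
      by_cases htop : normalizer (T' : Set P) = ⊤
      · haveI hT'n : T'.Normal := normalizer_eq_top_iff.mp htop
        rcases h3 T' hT'n with h | h
        · refine absurd ?_ (ComponentsBasic.IsComponent.not_isSolvable hK)
          haveI : Group.IsNilpotent ↥T' := (T.2.map E.subtype).isNilpotent
          exact Group.isSolvable_of_isSolvable_injective (f := inclusion (hKE.trans (hRE ▸ h))) (inclusion_injective _)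
        · exact h.trans hFM
      · exact le_normalizer.trans (hle _ hT htop)
    have h1' : t ^ j ∣ Nat.card T' := by
      rw [card_map_of_injective E.subtype_injective, T.card_eq_multiplicity]
      exact pow_dvd_pow t ((ht.pow_dvd_iff_le_factorization Nat.card_pos.ne').mp htj)
    exact h1'.trans (card_dvd_of_le (le_inf (map_subtype_le _) hTM))
  set R₀ : Subgroup P := (S : Subgroup P) ⊓ normalizer (K : Set P) with hR₀
  set Q : Subgroup P := K ⊔ R₀ with hQdef
  have hR₀K : R₀ ≤ normalizer (K : Set P) := inf_le_right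
  have hR₀p : IsPGroup p R₀ := S.2.to_le inf_le_left
  have hQcoe : (Q : Set P) = (K : Set P) * (R₀ : Set P) := coe_mul_of_right_le_normalizer_left K R₀ hR₀K
  have hR₀idx : ¬ p ∣ R₀.relIndex Q := by
    have hKQ : Q ≤ normalizer (K : Set P) := sup_le le_normalizer hR₀K
    haveI : (K.subgroupOf Q).Normal := LocalBasics.normal_subgroupOf_of_le hKQ
    intro hd
    have hcard := Nat.card_congr (QuotientGroup.quotientInfEquivProdNormalQuotient
      (R₀.subgroupOf Q) (K.subgroupOf Q)).toEquiv
    -- `R₀.relIndex Q = R₀.relIndex K`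
    have hrel : R₀.relIndex Q ∣ R₀.relIndex K := by
      have h2 := relIndex_mul_relIndex (R₀ ⊓ K) R₀ Q inf_le_left le_sup_right
      have h4 := relIndex_mul_relIndex (R₀ ⊓ K) K Q inf_le_right le_sup_left
      rw [inf_relIndex_left] at h2
      rw [inf_relIndex_right] at h4
      have h5 : K.relIndex Q = K.relIndex R₀ := by
        have htop : R₀.subgroupOf Q ⊔ K.subgroupOf Q = ⊤ := by
          rw [← subgroupOf_sup le_sup_right le_sup_left, subgroupOf_eq_top, sup_comm]
        have h6 : (K.subgroupOf Q).relIndex (R₀.subgroupOf Q ⊔ K.subgroupOf Q) =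
            (K.subgroupOf Q).relIndex (R₀.subgroupOf Q) := relIndex_sup_right _ _
        rw [htop, relIndex_top_right, relIndex_subgroupOf le_sup_right] at h6
        exact h6
      rw [h5] at h4
      exact dvd_of_eq (Nat.eq_of_mul_eq_mul_left (Nat.pos_of_ne_zero index_ne_zero_of_finite)
        (h2.trans (h4.symm.trans (mul_comm _ _))))
    refine hSK ((hd.trans hrel).trans ?_)
    rw [hR₀, ← inf_relIndex_right, inf_assoc, inf_of_le_right (le_normalizer : K ≤ normalizer (K : Set P)),
      inf_relIndex_right]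
  obtain ⟨Q₀, hQ₀⟩ : ∃ Q₀ : Sylow p ↥Q, (Q₀ : Subgroup ↥Q) = R₀.subgroupOf Q :=
    ⟨(hR₀p.comap_of_injective Q.subtype Q.subtype_injective).toSylow hR₀idx, rfl⟩
  -- every proper overgroup of `R₀` in `Q` lies in `M`
  have main : ∀ X : Subgroup P, R₀ ≤ X → X ≤ Q → ¬ K ≤ X → X ≤ M := by
    intro X hR₀X hXQ hKX
    set A := X ⊓ K with hA
    set DA : Subgroup P := ⨆ s : ↥(S : Subgroup P), A.map (MulAut.conj (s : P)).toMonoidHom with hDA
    set B : Subgroup P := ⨆ s : {s : ↥(S : Subgroup P) // cj (s : P) ≠ K}, cj (s.1 : P) with hB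
    have hBC : B ≤ centralizer (K : Set P) := iSup_le fun s =>
      commutator_eq_bot_iff_le_centralizer.mp (ComponentsBasic.components_commute (hcomp _) hK s.2)
    have hAR₀ : R₀ ≤ normalizer (A : Set P) :=
      LocalBasics.le_normalizer_inf (hR₀X.trans le_normalizer) hR₀K
    have hDAB : DA ≤ A ⊔ B := iSup_le fun s => by
      by_cases hs : cj (s : P) = K
      · rintro _ ⟨a, ha, rfl⟩
        refine mem_sup_left (LocalBasics.conj_mem_of_le_normalizer hAR₀ ⟨s.2, ?_⟩ ha)
        have key : ∀ k ∈ K, (s : P) * k * (s : P)⁻¹ ∈ K := fun k hk => hs.le ⟨k, hk, by simp⟩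
        refine mem_normalizer_iff.mpr fun k => ⟨key k, fun hk => ?_⟩
        obtain ⟨k', hk', he⟩ := hs.ge hk
        rwa [← mul_left_cancel (mul_right_cancel (show (s : P) * k' * (s : P)⁻¹ = _ from he))]
      · exact (map_mono inf_le_right).trans
          (le_sup_of_le_right (le_iSup (fun t : {t : ↥(S : Subgroup P) // cj (t : P) ≠ K} => cj (t.1 : P)) ⟨s, hs⟩))
    have hSDA : (S : Subgroup P) ≤ normalizer (DA : Set P) := by
      refine LocalBasics.le_normalizer_of_conj fun s hs d hd => ?_
      have h : DA ≤ DA.comap (MulAut.conj s).toMonoidHom := iSup_le fun t => by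
        rintro _ ⟨x, hx, rfl⟩
        exact le_iSup (fun s : ↥(S : Subgroup P) => A.map (MulAut.conj (s : P)).toMonoidHom) (⟨s, hs⟩ * t)
          ⟨x, hx, by simp [mul_assoc]⟩
      exact h hd
    by_cases htop : DA ⊔ (S : Subgroup P) = ⊤
    · exfalso
      haveI : DA.Normal := normalizer_eq_top_iff.mp
        (top_le_iff.mp (htop ▸ sup_le le_normalizer hSDA))
      haveI : Group.IsSolvable (P ⧸ DA) := by
        haveI : Group.IsNilpotent ↥(S : Subgroup P) := S.2.isNilpotent
        refine Group.isSolvable_of_surjective (f := (QuotientGroup.mk' DA).comp (S : Subgroup P).subtype) fun q => ?_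
        induction q using QuotientGroup.induction_on with
        | H g =>
          have hg : g ∈ ((DA ⊔ (S : Subgroup P) : Subgroup P) : Set P) := by rw [htop]; trivial
          rw [Subgroup.normal_mul] at hg
          obtain ⟨n, hn, s, hs, rfl⟩ := Set.mem_mul.mp hg
          exact ⟨⟨s, hs⟩, by simp [(QuotientGroup.eq_one_iff n).mpr hn]⟩
      have hKDA : K ≤ A ⊔ B := (ComponentsBasic.perfect_le_of_quotient_solvable hKp DA).trans hDAB
      have hAN : A ≤ normalizer (B : Set P) := inf_le_right.trans fun k hk =>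
        LocalBasics.centralizer_le_normalizer _ fun b hb => ((hBC hb) k hk).symm
      refine hKX ?_
      conv_lhs => rw [← hKp]
      refine commutator_le.mpr fun a ha b hb => ?_
      have hsplit : ∀ x ∈ K, ∃ a ∈ A, ∃ c, (∀ k ∈ K, k * c = c * k) ∧ x = a * c := by
        intro x hx
        have h : x ∈ ((A ⊔ B : Subgroup P) : Set P) := hKDA hx
        rw [coe_mul_of_left_le_normalizer_right A B hAN] at h
        obtain ⟨a, ha, c, hc, rfl⟩ := Set.mem_mul.mp h
        exact ⟨a, ha, c, fun k hk => hBC hc k hk, rfl⟩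
      obtain ⟨a', ha', c, hc, rfl⟩ := hsplit a ha
      obtain ⟨b', hb', d, hd, rfl⟩ := hsplit b hb
      have hdK : d ∈ K := by simpa using K.mul_mem (K.inv_mem hb'.2) hb
      have hcd : Commute c d := ((hc d hdK)).symm
      have e1 : Commute a' d := hd a' ha'.2
      have e2 : Commute c b' := (hc b' hb'.2).symm
      rw [commutatorElement_def]
      have : a' * c * (b' * d) * (a' * c)⁻¹ * (b' * d)⁻¹ = a' * b' * a'⁻¹ * b'⁻¹ := by
        have e3 : a' * c * (b' * d) * (a' * c)⁻¹ = a' * (c * b' * c⁻¹) * (c * d * c⁻¹) * a'⁻¹ := by group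
        rw [e3, e2.eq, mul_inv_cancel_right, hcd.eq, mul_inv_cancel_right, mul_assoc _ d,
          e1.inv_left.eq.symm]
        group
      rw [this]
      exact mul_mem (mul_mem (mul_mem ha'.1 hb'.1) (inv_mem ha'.1)) (inv_mem hb'.1)
    · intro x hx
      have h : x ∈ (Q : Set P) := hXQ hx
      rw [hQcoe] at h
      obtain ⟨k, hk, r, hr, rfl⟩ := Set.mem_mul.mp h
      have hkX : k ∈ X := by simpa using mul_mem hx (inv_mem (hR₀X hr))
      refine mul_mem (hle _ le_sup_right htop (mem_sup_left ?_)) (hSM hr.1)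
      exact le_iSup (fun s : ↥(S : Subgroup P) => A.map (MulAut.conj (s : P)).toMonoidHom) 1
        ⟨k, ⟨hkX, hk⟩, by simp⟩
  have hQ₀n : ¬ (Q₀ : Subgroup ↥Q).Normal := by
    intro hn
    rw [hQ₀] at hn
    have hn' := (normal_subgroupOf_iff_le_normalizer le_sup_right).mp hn
    have hN : ((R₀ ⊓ K).subgroupOf K).Normal := LocalBasics.normal_subgroupOf_of_le
      (LocalBasics.le_normalizer_inf (le_sup_left.trans hn') le_normalizer)
    have hidx : ¬ p ∣ ((R₀ ⊓ K).subgroupOf K).index := by
      intro hd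
      refine hSK ?_
      rw [show ((R₀ ⊓ K).subgroupOf K).index = (R₀ ⊓ K).relIndex K from rfl, inf_relIndex_right, hR₀,
        ← inf_relIndex_right, inf_assoc, inf_of_le_right (le_normalizer : K ≤ normalizer (K : Set P)),
        inf_relIndex_right] at hd
      exact hd
    rcases ComponentsBasic.normal_le_center_or_eq_top hK.2 ((R₀ ⊓ K).subgroupOf K) with h | h
    · have hc : (center ↥K).map K.subtype ≤ F := by
        haveI : Group.IsNilpotent ↥(center ↥K) := by
          letI : CommGroup ↥(center ↥K) := { (inferInstance : Group ↥(center ↥K)) with mul_comm := fun a b => Subtype.ext ((Subgroup.mem_center_iff.mp b.2 a)) }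
          exact CommGroup.isNilpotent
        have hsol : ((center ↥K).map K.subtype) ≤ Cfsg.fittingSubgroup P :=
          (map_mono (le_sSup (show (center ↥K) ∈ {N : Subgroup ↥K | N.Normal ∧ Group.IsNilpotent N} from
            ⟨inferInstance, inferInstance⟩))).trans (ComponentsFitting.fitting_map_subtype_le hK.1)
        haveI hFn' : (Cfsg.fittingSubgroup P).Normal := inferInstance
        refine hsol.trans ((h3 _ hFn').resolve_left fun hR => ?_)
        refine ComponentsBasic.isQuasisimple_not_le_solvable (S := Cfsg.fittingSubgroup P) hK.2 ?_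
        exact hKE.trans (hRE ▸ hR)
      have hbot : (S : Subgroup P) ⊓ K = ⊥ := le_bot_iff.mp fun x hx => by
        have hxF : x ∈ F := hc ⟨⟨x, hx.2⟩, h (mem_subgroupOf.mpr ⟨⟨hx.1, le_normalizer hx.2⟩, hx.2⟩), rfl⟩
        exact (hFp F (Normal.isSubnormal hFn) hFM).le ⟨hxF, hx.1⟩
      have h' := hSK
      rw [← inf_relIndex_right, hbot, relIndex_bot_left] at h'
      exact h' hpK
    · refine ComponentsBasic.IsComponent.not_isSolvable hK ?_
      haveI : Group.IsNilpotent ↥R₀ := hR₀p.isNilpotent
      exact Group.isSolvable_of_isSolvable_injective (f := inclusion ((subgroupOf_eq_top.mp h).trans inf_le_left))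
        (inclusion_injective _)
  intro T
  obtain ⟨q, rfl⟩ := MulAction.exists_smul_eq ↥Q Q₀ T
  refine ⟨fun hn => hQ₀n ?_, ?_⟩
  · haveI := Sylow.unique_of_normal (q • Q₀) hn
    rwa [Subsingleton.elim Q₀ (q • Q₀)]
  set M₀ : Subgroup ↥Q := M.subgroupOf Q with hM₀
  set c := (MulAut.conj q).toMonoidHom
  have hM₀ne : M₀ ≠ ⊤ := fun h => hKM (le_sup_left.trans (subgroupOf_eq_top.mp h))
  have hdir : ∀ Y : Subgroup ↥Q, (Q₀ : Subgroup ↥Q) ≤ Y → Y ≠ ⊤ → Y ≤ M₀ := by
    intro Y hY hYne
    have h1' : R₀ ≤ Y.map Q.subtype := fun r hr =>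
      ⟨⟨r, mem_sup_right hr⟩, hY (hQ₀ ▸ hr), rfl⟩
    have h2' : ¬ K ≤ Y.map Q.subtype := fun h => hYne (eq_top_iff.mpr fun x _ => by
      have hx : (x : P) ∈ Y.map Q.subtype := (sup_le h h1' : Q ≤ _) x.2
      obtain ⟨y, hy, hyx⟩ := hx
      rwa [← Subtype.ext hyx (a1 := y) (a2 := x)])
    exact fun y hy => main _ h1' (map_subtype_le _) h2' ⟨y, hy, rfl⟩
  have hco : IsCoatom M₀ := ⟨hM₀ne, fun Y hY => by
    by_contra hne
    refine hY.not_ge (hdir Y ?_ hne)
    exact fun x hx => hY.le (by
      rw [hQ₀] at hx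
      exact mem_subgroupOf.mpr (hSM (mem_subgroupOf.mp hx).1))⟩
  have hQ₀M₀ : (Q₀ : Subgroup ↥Q) ≤ M₀ := by
    rw [hQ₀]; exact fun x hx => mem_subgroupOf.mpr (hSM (mem_subgroupOf.mp hx).1)
  refine ⟨MulAut.conj q • M₀, ⟨?_, ?_⟩, fun Y ⟨hY, hTY⟩ => ?_⟩
  · exact (OrderIso.isCoatom_iff (MulAut.conj q).mapSubgroup M₀).mpr hco
  · rw [Sylow.coe_subgroup_smul]
    exact smul_mono_right _ hQ₀M₀
  · rw [Sylow.coe_subgroup_smul] at hTY
    have h1' : (Q₀ : Subgroup ↥Q) ≤ (MulAut.conj q)⁻¹ • Y := by
      have := smul_mono_right (MulAut.conj q)⁻¹ hTY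
      rwa [inv_smul_smul] at this
    have hYco : IsCoatom ((MulAut.conj q)⁻¹ • Y) :=
      (OrderIso.isCoatom_iff ((MulAut.conj q)⁻¹).mapSubgroup Y).mpr hY
    have heq : M₀ = (MulAut.conj q)⁻¹ • Y :=
      (hYco.le_iff.mp (hdir _ h1' hYco.1)).resolve_left hco.1
    rw [heq, smul_inv_smul]

end Cfsg.Agent.S2906
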