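import Mathlib
import Cfsg.Statements.S2907

set_option autoImplicit false
open Cfsg

namespace Cfsg.Agent.S2907

/-- Let X be a finite semi-extraspecial p-group and x an element of X outside the centre. Then the index of C_X(x) in X equals the order of Z(X), and the commutators [x, y], y ∈ X, form exactly the centre Z(X). -/
theorem result {X : Type*} [Group X] [Finite X] {p : ℕ} [Fact p.Prime] (hX : Cfsg.IsSemiExtraspecial p X) (x : X) (hx : x ∉ Subgroup.center X) : (Subgroup.centralizer ({x} : Set X)).index = Nat.card ↥(Subgroup.center X) ∧ {z : X | ∃ y : X, z = x * y * x⁻¹ * y⁻¹} = (Subgroup.center X : Set X) := by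
  obtain ⟨⟨-, -, hcomm⟩, hss⟩ := hX
  have hc : ∀ a b : X, a * b * a⁻¹ * b⁻¹ ∈ Subgroup.center X := fun a b =>
    hcomm ▸ Subgroup.commutator_mem_commutator (Subgroup.mem_top a) (Subgroup.mem_top b)
  let f : X →* Subgroup.center X :=
    { toFun := fun y => ⟨x * y * x⁻¹ * y⁻¹, hc x y⟩
      map_one' := Subtype.ext (by simp)
      map_mul' := fun y z => Subtype.ext (by
        show x * (y * z) * x⁻¹ * (y * z)⁻¹ = (x * y * x⁻¹ * y⁻¹) * (x * z * x⁻¹ * z⁻¹)
        calc x * (y * z) * x⁻¹ * (y * z)⁻¹
            = (x * y * x⁻¹) * (x * z * x⁻¹ * z⁻¹) * y⁻¹ := by group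
          _ = (x * y * x⁻¹) * (y⁻¹ * (x * z * x⁻¹ * z⁻¹)) := by
            rw [Subgroup.mem_center_iff.mp (hc x z) y⁻¹]; group
          _ = (x * y * x⁻¹ * y⁻¹) * (x * z * x⁻¹ * z⁻¹) := by group) }
  have hker : f.ker = Subgroup.centralizer ({x} : Set X) := by
    ext y
    rw [MonoidHom.mem_ker, Subgroup.mem_centralizer_iff]
    constructor
    · intro h z hz
      rw [Set.mem_singleton_iff.mp hz]
      have h' : x * y * x⁻¹ * y⁻¹ = 1 := congrArg Subtype.val h
      rwa [mul_inv_eq_one, mul_inv_eq_iff_eq_mul] at h'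
    · intro h
      apply Subtype.ext
      show x * y * x⁻¹ * y⁻¹ = 1
      rw [h x rfl]; group
  have hrange : f.range = ⊤ := by
    by_contra hne
    obtain ⟨Y, hY, hfY⟩ := (eq_top_or_exists_le_coatom f.range).resolve_left hne
    set Y' : Subgroup X := Y.map (Subgroup.center X).subtype with hY'
    have hYle : Y' ≤ Subgroup.center X := Subgroup.map_subtype_le _
    have hYeq : Y'.subgroupOf (Subgroup.center X) = Y :=
      Subgroup.comap_map_eq_self_of_injective (Subgroup.subtype_injective _) Y
    obtain ⟨hn, -, hcard⟩ := hss Y' hYle (hYeq.symm ▸ hY)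
    have hle : (Subgroup.center X).map (QuotientGroup.mk' Y') ≤ Subgroup.center (X ⧸ Y') := by
      rintro _ ⟨z, hz, rfl⟩
      rw [Subgroup.mem_center_iff]
      intro q
      induction q using QuotientGroup.induction_on with
      | H g => exact congrArg (QuotientGroup.mk' Y') (Subgroup.mem_center_iff.mp hz g)
    have hne' : (Subgroup.center X).map (QuotientGroup.mk' Y') ≠ ⊥ := by
      intro h
      rw [Subgroup.map_eq_bot_iff, QuotientGroup.ker_mk'] at h
      exact hY.1 (top_le_iff.mp fun z _ => by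
        obtain ⟨w, hw, hwz⟩ := h z.2
        exact (Subtype.ext hwz : w = z) ▸ hw)
    have heq : (Subgroup.center X).map (QuotientGroup.mk' Y') = Subgroup.center (X ⧸ Y') := by
      refine Subgroup.eq_of_le_of_card_ge hle ?_
      rw [hcard]
      have hdvd := Subgroup.card_dvd_of_le hle
      rw [hcard] at hdvd
      rcases (Fact.out : p.Prime).eq_one_or_self_of_dvd _ hdvd with h1 | h1
      · exact absurd (Subgroup.card_eq_one.mp h1) hne'
      · exact h1.ge
    have hxc : (QuotientGroup.mk x : X ⧸ Y') ∈ Subgroup.center (X ⧸ Y') := by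
      rw [Subgroup.mem_center_iff]
      intro q
      induction q using QuotientGroup.induction_on with
      | H g =>
        rw [← QuotientGroup.mk_mul, ← QuotientGroup.mk_mul, QuotientGroup.eq]
        have h1 : f g ∈ Y := hfY ⟨g, rfl⟩
        have h2 : x * g * x⁻¹ * g⁻¹ ∈ Y' := ⟨f g, h1, rfl⟩
        have h3 := hn.conj_mem _ h2 (g * x)⁻¹
        simpa [mul_assoc] using h3
    rw [← heq] at hxc
    obtain ⟨z, hz, hzx⟩ := hxc
    have h4 : z⁻¹ * x ∈ Y' := QuotientGroup.eq.mp hzx
    exact hx (by simpa using (Subgroup.center X).mul_mem hz (hYle h4))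
  constructor
  · rw [← hker, Subgroup.index_ker, hrange, Subgroup.card_top]
  · ext z
    constructor
    · rintro ⟨y, rfl⟩
      exact hc x y
    · intro hz
      obtain ⟨y, hy⟩ : (⟨z, hz⟩ : Subgroup.center X) ∈ f.range := hrange ▸ Subgroup.mem_top _
      exact ⟨y, (congrArg Subtype.val hy).symm⟩

end Cfsg.Agent.S2907
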