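import Cfsg.Statements.S2908
import Cfsg.Agent.Lib.CoprimeTools
-- import your own Cfsg.Agent.* helpers here

set_option autoImplicit false
open Cfsg

namespace Cfsg.Agent.S2908

open scoped Pointwise commutatorElement
open Cfsg.Agent.CoprimeSZ Cfsg.Agent.CoprimeAction Cfsg.Agent.CoprimeGen Cfsg.Agent.CoprimeExtra Cfsg.Agent.CoprimeTools


/-- Let P be a p-subgroup of a finite group, normalized by a p-subgroup A and by a subgroup B of order prime to p that commutes elementwise with A. If [P, B] ≤ [P, A], then B centralizes P. -/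
theorem result {G : Type*} [Group G] [Finite G] {p : ℕ} [Fact p.Prime] (P A B : Subgroup G) (hP : IsPGroup p ↥P) (hA : IsPGroup p ↥A) (hB : ¬ p ∣ Nat.card ↥B) (hnA : A ≤ Subgroup.normalizer (P : Set G)) (hnB : B ≤ Subgroup.normalizer (P : Set G)) (hAB : ⁅A, B⁆ = ⊥) (hcomm : ⁅P, B⁆ ≤ ⁅P, A⁆) : ⁅P, B⁆ = ⊥ := by
  have hp : p.Prime := Fact.out
  set D : Subgroup G := ⁅P, B⁆ with hD
  have hDP : D ≤ P := commutator_le_self_of_le_normalizer hnB
  have hcop : (Nat.card B).Coprime (Nat.card P) := by
    obtain ⟨m, hm⟩ := IsPGroup.iff_card.1 hP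
    rw [hm]
    exact Nat.Coprime.pow_right _ ((Nat.Prime.coprime_iff_not_dvd hp).2 hB).symm
  have hsolv : Group.IsSolvable B ∨ Group.IsSolvable P := Or.inr (isSolvable_of_isPGroup hP)
  have hDD : ⁅D, B⁆ = D := commutator_commutator_eq hnB hcop hsolv
  have hAcB : A ≤ Subgroup.centralizer (B : Set G) :=
    Subgroup.commutator_eq_bot_iff_le_centralizer.1 hAB
  have hAnB : A ≤ Subgroup.normalizer (B : Set G) :=
    hAcB.trans (Subgroup.centralizer_le_normalizer _)
  have hBnA : B ≤ Subgroup.normalizer (A : Set G) :=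
    (Subgroup.le_centralizer_iff.1 hAcB).trans (Subgroup.centralizer_le_normalizer _)
  set L := P ⊔ A with hL
  have hLp : IsPGroup p L := hP.to_sup_of_normal_left' hA hnA
  have hPD : P ≤ Subgroup.normalizer (D : Set G) := Subgroup.normalizer_commutator_ge_left P B
  have hBD : B ≤ Subgroup.normalizer (D : Set G) := Subgroup.normalizer_commutator_ge_right P B
  have hAD : A ≤ Subgroup.normalizer (D : Set G) := le_normalizer_commutator_of_le hnA hAnB
  have hBL : B ≤ Subgroup.normalizer (L : Set G) := by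
    intro b hb
    refine mem_normalizer_of_conj_smul_eq ?_
    rw [hL, Subgroup.smul_sup, conj_smul_eq_self (hnB hb), conj_smul_eq_self (hBnA hb)]
  set N : Subgroup G := ⁅D, L⁆ with hN
  have hLD : L ≤ Subgroup.normalizer (D : Set G) := sup_le hPD hAD
  have hPN : P ≤ Subgroup.normalizer (N : Set G) :=
    le_normalizer_commutator_of_le hPD ((le_sup_left : P ≤ L).trans Subgroup.le_normalizer)
  have hAN : A ≤ Subgroup.normalizer (N : Set G) :=
    le_normalizer_commutator_of_le hAD ((le_sup_right : A ≤ L).trans Subgroup.le_normalizer)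
  have hBN : B ≤ Subgroup.normalizer (N : Set G) := le_normalizer_commutator_of_le hBD hBL
  have key : ⁅⁅P, A⁆, B⁆ ≤ N := by
    refine commutator_rotate_le hPN hAN hBN (by rw [hAB, Subgroup.commutator_bot_left]; exact bot_le) ?_
    rw [Subgroup.commutator_comm B P]
    exact Subgroup.commutator_mono le_rfl le_sup_right
  have h2 : D ≤ N := le_trans (hDD ▸ Subgroup.commutator_mono hcomm le_rfl) key
  have := hLp.isNilpotent
  exact eq_bot_of_le_commutator (L := L) (hDP.trans le_sup_left) h2

end Cfsg.Agent.S2908
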