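import Mathlib
import Cfsg.Statements.S2909
import Cfsg.Agent.Lib.CoprimeGen
import Cfsg.Agent.Lib.CharPBasic
import Cfsg.Agent.S2908

set_option autoImplicit false
open Cfsg
open scoped commutatorElement

namespace Cfsg.Agent.S2909

/-- Let p be a prime, E a normal p-subgroup of the finite group G, and U a non-cyclic elementary abelian p-subgroup of G such that either C_E(U) = C_E(u) for every nontrivial u ∈ U, or [E, U] = [E, ⟨u⟩] for every nontrivial u ∈ U. If R is a subgroup of order prime to p normalized by U, then [R, U] centralizes E. -/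
theorem result {G : Type*} [Group G] [Finite G] {p : ℕ} [Fact p.Prime] (E : Subgroup G) [E.Normal] (hE : IsPGroup p ↥E) (U : Subgroup G) (hU : Cfsg.IsElementaryAbelian p U) (hnc : ¬ IsCyclic ↥U) (hcond : (∀ u ∈ U, u ≠ 1 → E ⊓ Subgroup.centralizer (U : Set G) = E ⊓ Subgroup.centralizer ({u} : Set G)) ∨ (∀ u ∈ U, u ≠ 1 → ⁅E, U⁆ = ⁅E, Subgroup.zpowers u⁆)) (R : Subgroup G) (hR : ¬ p ∣ Nat.card ↥R) (hRU : U ≤ Subgroup.normalizer (R : Set G)) : ⁅R, U⁆ ≤ Subgroup.centralizer (E : Set G) := by
  obtain ⟨hUc, hUp⟩ := hU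
  set C := Subgroup.centralizer (E : Set G)
  have hCn : C.Normal := inferInstance
  have hcU : ∀ a ∈ U, ∀ b ∈ U, Commute a b := fun a ha b hb =>
    congrArg Subtype.val (hUc.is_comm.comm ⟨a, ha⟩ ⟨b, hb⟩)
  have hUpg : IsPGroup p U := fun x => ⟨1, Subtype.ext (by simpa using hUp x x.2)⟩
  set H : Subgroup G :=
    (Subgroup.centralizer ((U.map (QuotientGroup.mk' C) : Subgroup (G ⧸ C)) : Set (G ⧸ C))).comap
      (QuotientGroup.mk' C)
  have hmemH : ∀ r, r ∈ H ↔ ∀ u ∈ U, r * u * r⁻¹ * u⁻¹ ∈ C := by
    intro r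
    simp only [H, Subgroup.mem_comap, Subgroup.mem_centralizer_iff, Subgroup.coe_map,
      Set.forall_mem_image]
    refine forall₂_congr fun u _ => ?_
    rw [← QuotientGroup.eq_one_iff, ← QuotientGroup.mk'_apply C]
    simp only [map_mul, map_inv, mul_inv_eq_one, mul_inv_eq_iff_eq_mul]
    simp only [one_mul]
    exact eq_comm
  have hRH : R ≤ H := by
    haveI := hUc
    have hcop : (Nat.card U).Coprime (Nat.card R) := by
      obtain ⟨k, hk⟩ := IsPGroup.iff_card.mp hUpg
      rw [hk]
      exact Nat.Coprime.pow_left _ ((Fact.out : p.Prime).coprime_iff_not_dvd.mpr hR)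
    refine Cfsg.Agent.CoprimeGen.le_of_centralizers hnc hRU hcop ?_
    rintro w hw hw1 r ⟨hrR, hrw⟩
    have hrw' : Commute w r := Subgroup.mem_centralizer_iff.mp hrw w rfl
    rw [hmemH]
    intro u hu
    set c := r * u * r⁻¹ * u⁻¹
    have hcR : c ∈ R := by
      have h := R.mul_mem hrR ((Subgroup.mem_normalizer_iff.mp (hRU hu) r⁻¹).mp (R.inv_mem hrR))
      simpa [c, mul_assoc] using h
    have hco : (orderOf c).Coprime p :=
      (((Fact.out : p.Prime).coprime_iff_not_dvd.mpr hR).symm).coprime_dvd_left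
        (Subgroup.orderOf_dvd_natCard R hcR)
    have hwc : Commute w c :=
      ((hrw'.mul_right (hcU w hw u hu)).mul_right hrw'.inv_right).mul_right
        (hcU w hw u hu).inv_right
    have hEn : ∀ g : G, ∀ y ∈ E, g * y * g⁻¹ ∈ E := fun g y hy =>
      (inferInstance : E.Normal).conj_mem y hy g
    rw [Subgroup.mem_centralizer_iff]
    rcases hcond with h1 | h2
    · have hfix : ∀ y ∈ E, (∀ q ∈ Subgroup.zpowers w, Commute q y) → Commute c y := by
        intro y hy hyw
        have hy' : r⁻¹ * y * r ∈ E := by simpa using hEn r⁻¹ y hy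
        have key : ∀ z ∈ E, Commute w z → Commute u z := by
          intro z hz hzw
          have hm : z ∈ E ⊓ Subgroup.centralizer ({w} : Set G) :=
            ⟨hz, Subgroup.mem_centralizer_iff.mpr fun a ha => by
              rw [Set.mem_singleton_iff.mp ha]; exact hzw.eq⟩
          rw [← h1 w hw hw1] at hm
          exact Subgroup.mem_centralizer_iff.mp hm.2 u hu
        have k1 : Commute u y := key y hy (hyw w (Subgroup.mem_zpowers w))
        have k2 : Commute u (r⁻¹ * y * r) := key _ hy'
          ((hrw'.inv_right.mul_right (hyw w (Subgroup.mem_zpowers w))).mul_right hrw')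
        show c * y = y * c
        calc c * y = r * u * r⁻¹ * (u⁻¹ * y) := by simp [c, mul_assoc]
          _ = r * u * r⁻¹ * (y * u⁻¹) := by rw [k1.inv_left.eq]
          _ = r * (u * (r⁻¹ * y * r)) * r⁻¹ * u⁻¹ := by simp [mul_assoc]
          _ = r * ((r⁻¹ * y * r) * u) * r⁻¹ * u⁻¹ := by rw [k2.eq]
          _ = y * c := by simp [c, mul_assoc]
      intro y hy
      refine (Cfsg.Agent.CharPBasic.commute_of_centralizes_fixed hE
        (hUpg.to_le (Subgroup.zpowers_le.mpr hw))
        (le_top.trans (le_of_eq (Subgroup.normalizer_eq_top_iff.mpr inferInstance).symm)) hco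
        ((Subgroup.normalizer_eq_top_iff.mpr (inferInstance : E.Normal)).symm ▸ Subgroup.mem_top c)
        (fun q hq => ?_) hfix y hy).eq.symm
      obtain ⟨i, rfl⟩ := Subgroup.mem_zpowers_iff.mp hq
      exact hwc.symm.zpow_right i
    · set I := ⁅E, Subgroup.zpowers w⁆
      have hIeq : ⁅E, U⁆ = I := h2 w hw hw1
      have hrI : ∀ z ∈ I, r * z * r⁻¹ ∈ I := by
        intro z hz
        have h : z ∈ I.comap (MulAut.conj r).toMonoidHom := by
          have hle : I ≤ I.comap (MulAut.conj r).toMonoidHom := by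
            refine Subgroup.commutator_le.mpr fun y hy q hq => ?_
            rw [Subgroup.mem_comap, map_commutatorElement]
            refine Subgroup.commutator_mem_commutator (hEn r y hy) ?_
            obtain ⟨i, rfl⟩ := Subgroup.mem_zpowers_iff.mp hq
            have hc := (hrw'.symm.zpow_right i)
            show r * w ^ i * r⁻¹ ∈ Subgroup.zpowers w
            rw [hc.eq, mul_inv_cancel_right]
            exact ⟨i, rfl⟩
          exact hle hz
        simpa using h
      have hu' : ∀ v ∈ U, ∀ y ∈ E, v * y * v⁻¹ * y⁻¹ ∈ I := by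
        intro v hv y hy
        have h := I.inv_mem (hIeq ▸ Subgroup.commutator_mem_commutator hy hv :
          ⁅y, v⁆ ∈ I)
        simpa [commutatorElement_def, mul_assoc] using h
      have hcE : ∀ y ∈ E, c * y * c⁻¹ * y⁻¹ ∈ I := by
        intro y hy
        have hy2 : u⁻¹ * y * u ∈ E := by simpa using hEn u⁻¹ y hy
        have hy3 : r⁻¹ * (u⁻¹ * y * u) * r ∈ E := by simpa using hEn r⁻¹ _ hy2
        have a1 := hrI _ (hu' u hu _ hy3)
        have a2 := hu' u⁻¹ (U.inv_mem hu) y hy
        have := I.mul_mem a1 a2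
        simpa [c, mul_assoc] using this
      have hcomm : ⁅E, Subgroup.zpowers c⁆ ≤ ⁅E, Subgroup.zpowers w⁆ := by
        refine Subgroup.commutator_le.mpr fun y hy q hq => ?_
        have hstab : ∀ i : ℕ, ∀ y ∈ E, c ^ i * y * (c ^ i)⁻¹ * y⁻¹ ∈ I := by
          intro i
          induction i with
          | zero => intro y _; simp [I.one_mem]
          | succ i ih =>
            intro y hy
            have := I.mul_mem (ih _ (hEn c y hy)) (hcE y hy)
            simpa [pow_succ, mul_assoc] using this
        obtain ⟨i, hi⟩ : ∃ i : ℕ, c ^ i = q := by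
          have := (mem_powers_iff_mem_zpowers (x := c) (y := q)).mpr hq
          exact this
        have := I.inv_mem (hstab i y hy)
        rw [hi] at this
        simpa [commutatorElement_def, mul_assoc] using this
      have hpc : ¬ p ∣ Nat.card (Subgroup.zpowers c) := by
        rw [Nat.card_zpowers]
        exact fun hd => (Fact.out : p.Prime).ne_one (Nat.eq_one_of_dvd_coprimes hco hd dvd_rfl)
      have hAB : ⁅Subgroup.zpowers w, Subgroup.zpowers c⁆ = ⊥ := by
        rw [eq_bot_iff, Subgroup.commutator_le]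
        intro a ha b hb
        obtain ⟨i, rfl⟩ := Subgroup.mem_zpowers_iff.mp ha
        obtain ⟨j, rfl⟩ := Subgroup.mem_zpowers_iff.mp hb
        exact Subgroup.mem_bot.mpr
          (commutatorElement_eq_one_iff_commute.mpr ((hwc.zpow_left i).zpow_right j))
      have hn : ∀ K : Subgroup G, K ≤ Subgroup.normalizer (E : Set G) := fun K =>
        le_top.trans (le_of_eq (Subgroup.normalizer_eq_top_iff.mpr inferInstance).symm)
      have hres := Cfsg.Agent.S2908.result E (Subgroup.zpowers w) (Subgroup.zpowers c) hE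
        (hUpg.to_le (Subgroup.zpowers_le.mpr hw)) hpc (hn _) (hn _) hAB hcomm
      intro y hy
      exact (commutatorElement_eq_one_iff_commute.mp (Subgroup.mem_bot.mp
        (hres ▸ Subgroup.commutator_mem_commutator hy (Subgroup.mem_zpowers c)))).eq
  rw [Subgroup.commutator_le]
  intro r hr u hu
  rw [commutatorElement_def]
  exact (hmemH r).mp (hRH hr) u hu

end Cfsg.Agent.S2909
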