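import Cfsg.Statements.S2910
import Cfsg.Agent.Lib.TransferOmega

set_option autoImplicit false
open Cfsg

namespace Cfsg.Agent.S2910

/-- Let p be an odd prime dividing the order of the finite group G and P a Sylow p-subgroup of G. If Ω₁(P) (generated by the elements of order dividing p) is contained in the centre of G, then G has a normal p-complement. In particular, if G is quasisimple then Ω₁(P) is not central in G. -/
theorem result {G : Type*} [Group G] [Finite G] {p : ℕ} [Fact p.Prime] (hp : p ≠ 2) (hdiv : p ∣ Nat.card G) (P : Sylow p G) (hZ : Cfsg.omegaOne p (P : Subgroup G) ≤ Subgroup.center G) : Cfsg.HasNormalPComplement p G ∧ ¬ Cfsg.IsQuasisimple G := by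
  have hN : Cfsg.HasNormalPComplement p G := by
    refine TransferOmega.hasNormalPComplement_of_small P fun R hR hs g _ _ => ?_
    rw [Subgroup.mem_centralizer_iff]
    intro x hx
    have h1 : x ^ p = 1 := (hs x hx).resolve_right fun h => hp h.1
    have h2 : x ∈ Cfsg.omegaOne p (P : Subgroup G) := by
      rw [Cfsg.omegaOne]
      exact Subgroup.subset_closure ⟨hR hx, h1⟩
    exact (Subgroup.mem_center_iff.mp (hZ h2) g).symm
  refine ⟨hN, fun hq => ?_⟩
  haveI := Finite.of_equiv G (Equiv.refl G)
  -- `O^p(G)` contains `G' = G` but has order prime to `p`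
  haveI hcomm : IsPGroup p (G ⧸ Cfsg.pResidual p G) := TransferPResidual.isPGroup_quotient_pResidual
  have hperf : commutator G = ⊤ := Group.isPerfect_def.mp hq.1
  haveI : Group.IsNilpotent (G ⧸ Cfsg.pResidual p G) := hcomm.isNilpotent
  have htop : Cfsg.pResidual p G = ⊤ := by
    obtain ⟨n, hn⟩ : ∃ n, (⊤ : Subgroup (G ⧸ Cfsg.pResidual p G)).lowerCentralSeries n = ⊥ :=
      Subgroup.nilpotent_iff_lowerCentralSeries.mp inferInstance
    have hall : ∀ k, (⊤ : Subgroup (G ⧸ Cfsg.pResidual p G)).lowerCentralSeries k = ⊤ := by
      intro k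
      induction k with
      | zero => exact Subgroup.lowerCentralSeries_zero _
      | succ k ih =>
        rw [Subgroup.lowerCentralSeries_succ, ih,
          ← Subgroup.map_top_of_surjective _ (QuotientGroup.mk'_surjective (Cfsg.pResidual p G)),
          ← Subgroup.map_commutator]
        rw [commutator_def] at hperf
        rw [hperf]
    have h3 := (hall n).symm.trans hn
    rw [Subgroup.eq_top_iff']
    intro x
    have h4 : (QuotientGroup.mk x : G ⧸ Cfsg.pResidual p G) ∈ (⊤ : Subgroup _) := Subgroup.mem_top _
    rw [h3, Subgroup.mem_bot] at h4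
    exact (QuotientGroup.eq_one_iff x).mp h4
  have h := TransferPResidual.hasNormalPComplement_iff_not_dvd.mp hN
  rw [htop, Subgroup.card_top] at h
  exact h hdiv

end Cfsg.Agent.S2910
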