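import Mathlib
import Cfsg.Statements.S2911
import Cfsg.Agent.Lib.TransferThompson
import Cfsg.Agent.Lib.CharPLocal

set_option autoImplicit false
open Cfsg

namespace Cfsg.Agent.S2911

open Subgroup

abbrev W := Multiplicative (ZMod 2) × DihedralGroup 4

def cA : W := (Multiplicative.ofAdd 1, 1)
def cZ : W := (1, DihedralGroup.r 2)
def cR : W := (1, DihedralGroup.r 1)

def sig : DihedralGroup 4 → Multiplicative (ZMod 2)
  | .r _ => 1
  | .sr _ => Multiplicative.ofAdd 1

def phiTwo : W →* Multiplicative (ZMod 2) where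
  toFun x := x.1 * sig x.2
  map_one' := by decide
  map_mul' := by decide

def par : DihedralGroup 4 → Bool
  | .r i => i.val % 2 == 0
  | .sr i => i.val % 2 == 0

/-- The non-central involutions. -/
abbrev NCI (v : W) : Prop := v * v = 1 ∧ v ≠ 1 ∧ v ≠ cA ∧ v ≠ cZ ∧ v ≠ cA * cZ

theorem sq_vals : ∀ w : W, w * w = 1 ∨ w * w = cZ := by decide

theorem cases_phiOne : ∀ y : W, y.1 = 1 → y * y = 1 → y ≠ 1 →
    y = cZ ∨ NCI y := by decide

theorem cases_phiTwo : ∀ y : W, phiTwo y = 1 → y * y = 1 → y ≠ 1 →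
    y = cZ ∨ NCI y := by decide

theorem central : ∀ w : W, w * cA = cA * w ∧ w * cZ = cZ * w := by decide

theorem nci_conj : ∀ v : W, NCI v → cR * v * cR⁻¹ = v * cZ := by decide

set_option synthInstance.maxSize 2000 in
/-- Non-central involutions are conjugate to one of four representatives. -/
theorem nci_reps : ∀ v w : W, NCI v → NCI w → decide (v.1 = 1) = decide (w.1 = 1) →
    par v.2 = par w.2 → w = v ∨ w = v * cZ := by decide

theorem nci_phi : ∀ v : W, NCI v → ((v.1 = 1 ∧ phiTwo v ≠ 1) ∨ (v.1 ≠ 1 ∧ phiTwo v = 1)) := by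
  decide

variable {G : Type*} [Group G]

theorem odd_conj (n x y : G) (h1 : n * x * n⁻¹ = y) (h2 : n * y * n⁻¹ = x) :
    ∀ k : ℕ, n ^ (2 * k + 1) * x * (n ^ (2 * k + 1))⁻¹ = y := by
  intro k
  induction k with
  | zero => simpa using h1
  | succ k ih =>
    calc n ^ (2 * (k + 1) + 1) * x * (n ^ (2 * (k + 1) + 1))⁻¹
        = n * (n * (n ^ (2 * k + 1) * x * (n ^ (2 * k + 1))⁻¹) * n⁻¹) * n⁻¹ := by
          rw [show 2 * (k + 1) + 1 = 2 * k + 1 + 1 + 1 by ring, pow_succ', pow_succ']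
          simp [mul_assoc]
      _ = y := by rw [ih, h2, h1]

/-- A finite group whose Sylow 2-subgroups are isomorphic to the direct product of a group of order 2 and a dihedral group of order 8 has a subgroup of index two. -/
theorem result {G : Type*} [Group G] [Finite G] (S : Sylow 2 G) (hS : Nonempty (↥(S : Subgroup G) ≃* Multiplicative (ZMod 2) × DihedralGroup 4)) : ∃ H : Subgroup G, H.index = 2 := by
  classical
  obtain ⟨e⟩ := hS
  by_contra hno
  push Not at hno
  set emb : W →* G := (S : Subgroup G).subtype.comp e.symm.toMonoidHom with hemb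
  have hinj : Function.Injective emb :=
    (Subgroup.subtype_injective _).comp e.symm.injective
  have hrange : emb.range = (S : Subgroup G) := by
    rw [hemb, MonoidHom.range_comp, MonoidHom.range_eq_top.mpr e.symm.surjective,
      ← MonoidHom.range_eq_map, Subgroup.range_subtype]
  have hmem : ∀ w, emb w ∈ (S : Subgroup G) := fun w => hrange ▸ ⟨w, rfl⟩
  have hex : ∀ x ∈ (S : Subgroup G), ∃ w, emb w = x := fun x hx => by rwa [← hrange] at hx
  have hcent : ∀ c : W, (∀ w, w * c = c * w) → emb c ∈ Subgroup.centralizer ((S : Subgroup G) : Set G) := by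
    intro c hc
    rw [Subgroup.mem_centralizer_iff]
    intro x hx
    obtain ⟨w, rfl⟩ := hex x hx
    rw [← map_mul, ← map_mul, hc]
  -- conjugation of central elements happens in the normalizer
  have burn : ∀ c d : W, (∀ w, w * c = c * w) → (∀ w, w * d = d * w) → IsConj (emb c) (emb d) →
      ∃ n ∈ Subgroup.normalizer ((S : Subgroup G) : Set G), n * emb c * n⁻¹ = emb d := by
    intro c d hc hd h
    obtain ⟨g, hg⟩ := isConj_iff.mp h
    obtain ⟨n, hn, hn'⟩ := S.conj_eq_normalizer_conj_of_mem_centralizer (emb c) g⁻¹ (hcent c hc)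
      (by rw [inv_inv, hg]; exact hcent d hd)
    refine ⟨n⁻¹, inv_mem hn, ?_⟩
    rw [inv_inv] at hn' ⊢
    rw [← hn', hg]
  have hsqZ : ∀ n ∈ Subgroup.normalizer ((S : Subgroup G) : Set G), n * emb cZ * n⁻¹ = emb cZ := by
    intro n hn
    obtain ⟨w, hw⟩ := hex _ ((Subgroup.mem_normalizer_iff.mp hn _).mp (hmem cR))
    have h : n * emb cZ * n⁻¹ = emb (w * w) := by
      rw [map_mul, hw, show cZ = cR * cR by decide, map_mul]; group
    rcases sq_vals w with h' | h'
    · rw [h', map_one, conj_eq_one_iff, ← map_one emb] at h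
      exact absurd (hinj h) (by decide)
    · rw [h, h']
  have hzA : ¬ IsConj (emb cZ) (emb cA) := fun h => by
    obtain ⟨n, hn, hnc⟩ := burn _ _ (fun w => (central w).2) (fun w => (central w).1) h
    rw [hsqZ n hn] at hnc
    exact absurd (hinj hnc) (by decide)
  have hzAZ : ¬ IsConj (emb cZ) (emb (cA * cZ)) := fun h => by
    obtain ⟨n, hn, hnc⟩ := burn _ _ (fun w => (central w).2)
      (fun w => by rw [← mul_assoc, (central w).1, mul_assoc, (central w).2, mul_assoc]) h
    rw [hsqZ n hn] at hnc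
    exact absurd (hinj hnc) (by decide)
  have hAAZ : ¬ IsConj (emb cA) (emb (cA * cZ)) := fun h => by
    obtain ⟨n, hn, h1⟩ := burn _ _ (fun w => (central w).1)
      (fun w => by rw [← mul_assoc, (central w).1, mul_assoc, (central w).2, mul_assoc]) h
    have h2 : n * emb (cA * cZ) * n⁻¹ = emb cA := by
      calc n * emb (cA * cZ) * n⁻¹ = (n * emb cA * n⁻¹) * (n * emb cZ * n⁻¹) := by
            rw [map_mul]; group
        _ = emb cA := by rw [h1, hsqZ n hn, ← map_mul]; congr 1
    obtain ⟨k, m, hm, hkm⟩ := Nat.exists_eq_pow_mul_and_not_dvd (orderOf_pos n).ne' 2 (by norm_num)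
    obtain ⟨j, rfl⟩ : ∃ j, m = 2 * j + 1 := ⟨m / 2, by omega⟩
    have hp : IsPGroup 2 (Subgroup.zpowers (n ^ (2 * j + 1))) := by
      refine IsPGroup.of_card (n := k) ?_
      rw [Nat.card_zpowers, orderOf_pow_of_dvd (by omega) (hkm ▸ dvd_mul_left _ _), hkm,
        Nat.mul_div_cancel _ (by omega)]
    have hle : Subgroup.zpowers (n ^ (2 * j + 1)) ≤ Subgroup.normalizer ((S : Subgroup G) : Set G) :=
      Subgroup.zpowers_le.mpr (pow_mem hn _)
    have hin : n ^ (2 * j + 1) ∈ (S : Subgroup G) :=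
      (S.3 (hp.to_sup_of_normal_right' S.2 hle) le_sup_right).le
        (Subgroup.mem_sup_left (Subgroup.mem_zpowers _))
    obtain ⟨w, hw⟩ := hex _ hin
    have h3 := odd_conj n _ _ h1 h2 j
    rw [← hw, ← map_inv, ← map_mul, ← map_mul, (central w).1, mul_inv_cancel_right] at h3
    exact absurd (hinj h3) (by decide)
  -- Thompson transfer
  have transfer : ∀ φ : W →* Multiplicative (ZMod 2), ∀ u : W, u * u = 1 → φ u ≠ 1 →
      ∃ y : W, φ y = 1 ∧ y * y = 1 ∧ y ≠ 1 ∧ IsConj (emb u) (emb y) := by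
    intro φ u hu hφ
    by_contra hcon
    push Not at hcon
    have hQ : (φ.ker.map emb).relIndex (S : Subgroup G) = 2 := by
      rw [← hrange, MonoidHom.range_eq_map, Subgroup.relIndex_map_map_of_injective _ _ hinj,
        Subgroup.relIndex_top_right, Subgroup.index_ker]
      have hs : φ.range = ⊤ := MonoidHom.range_eq_top.mpr fun b => by
        rcases (show ∀ b c : Multiplicative (ZMod 2), c ≠ 1 → b = 1 ∨ b = c by decide) b _ hφ with
          rfl | rfl
        · exact ⟨1, map_one φ⟩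
        · exact ⟨u, rfl⟩
      rw [hs, Subgroup.card_top, Nat.card_congr Multiplicative.toAdd, Nat.card_zmod]
    have hu1 : orderOf (emb u) = 2 := by
      rw [orderOf_injective emb hinj]
      exact orderOf_eq_prime (by rw [pow_two, hu]) fun h => hφ (by rw [h, map_one])
    obtain ⟨M, -, hM, -⟩ := Cfsg.Agent.TransferThompson.thompson_transfer S (φ.ker.map emb)
      (hrange ▸ Subgroup.map_le_range emb _) hQ hu1 (hmem u) fun g hg => by
        obtain ⟨y, hy, hye⟩ := hg
        have hc : IsConj (emb u) (emb y) := isConj_iff.mpr ⟨g, hye.symm⟩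
        refine hcon y hy (hinj ?_) ?_ hc
        · rw [map_mul, hye, map_one]
          calc g * emb u * g⁻¹ * (g * emb u * g⁻¹) = g * (emb u * emb u) * g⁻¹ := by group
            _ = 1 := by rw [← map_mul, hu, map_one, mul_one, mul_inv_cancel]
        · rintro rfl
          rw [map_one, eq_comm, conj_eq_one_iff, ← map_one emb] at hye
          exact hφ (by rw [hinj hye, map_one])
    exact hno M hM
  have hclass : ∀ v w : W, NCI v → NCI w → (v.1 = 1 ↔ w.1 = 1) → par v.2 = par w.2 →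
      IsConj (emb v) (emb w) := by
    intro v w hv hw h h'
    rcases nci_reps v w hv hw (decide_eq_decide.mpr h) h' with rfl | rfl
    · exact IsConj.refl _
    · exact isConj_iff.mpr ⟨emb cR, by rw [← map_inv, ← map_mul, ← map_mul, nci_conj v hv]⟩
  have hAZ2 : cA * cZ * (cA * cZ) = 1 := by decide
  obtain ⟨u, hu1, hu⟩ : ∃ u : W, u.1 = 1 ∧ NCI u ∧ IsConj (emb cA) (emb u) := by
    obtain ⟨y, h1, h2, h3, h4⟩ := transfer (MonoidHom.fst _ _) cA (by decide) (by decide)
    rcases cases_phiOne y h1 h2 h3 with rfl | hy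
    · exact absurd h4.symm hzA
    · exact ⟨y, h1, hy, h4⟩
  obtain ⟨u', hu'1, hu'⟩ : ∃ u : W, phiTwo u = 1 ∧ NCI u ∧ IsConj (emb cA) (emb u) := by
    obtain ⟨y, h1, h2, h3, h4⟩ := transfer phiTwo cA (by decide) (by decide)
    rcases cases_phiTwo y h1 h2 h3 with rfl | hy
    · exact absurd h4.symm hzA
    · exact ⟨y, h1, hy, h4⟩
  obtain ⟨t, ht1, ht⟩ : ∃ u : W, u.1 = 1 ∧ NCI u ∧ IsConj (emb (cA * cZ)) (emb u) := by
    obtain ⟨y, h1, h2, h3, h4⟩ := transfer (MonoidHom.fst _ _) (cA * cZ) hAZ2 (by decide)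
    rcases cases_phiOne y h1 h2 h3 with rfl | hy
    · exact absurd h4.symm hzAZ
    · exact ⟨y, h1, hy, h4⟩
  obtain ⟨t', ht'1, ht'⟩ : ∃ u : W, phiTwo u = 1 ∧ NCI u ∧ IsConj (emb (cA * cZ)) (emb u) := by
    obtain ⟨y, h1, h2, h3, h4⟩ := transfer phiTwo (cA * cZ) hAZ2 (by decide)
    rcases cases_phiTwo y h1 h2 h3 with rfl | hy
    · exact absurd h4.symm hzAZ
    · exact ⟨y, h1, hy, h4⟩
  -- no non-central involution is conjugate to `z`
  have two : ∀ v p q : W, NCI v → NCI p → NCI q → (v.1 = 1 ↔ p.1 = 1) → (v.1 = 1 ↔ q.1 = 1) →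
      IsConj (emb cA) (emb p) → IsConj (emb (cA * cZ)) (emb q) → ¬ IsConj (emb cZ) (emb v) := by
    intro v p q hv hp hq h1 h2 hpc hqc hconj
    have hpq : par p.2 ≠ par q.2 := fun h =>
      hAAZ (hpc.trans ((hclass p q hp hq (h1.symm.trans h2) h).trans hqc.symm))
    have hor : par v.2 = par p.2 ∨ par v.2 = par q.2 := by
      revert hpq; cases par v.2 <;> cases par p.2 <;> cases par q.2 <;> simp
    rcases hor with h | h
    · exact hzA (hconj.trans ((hclass v p hv hp h1 h).trans hpc.symm))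
    · exact hzAZ (hconj.trans ((hclass v q hv hq h2 h).trans hqc.symm))
  have hnoZ : ∀ v : W, NCI v → ¬ IsConj (emb cZ) (emb v) := by
    intro v hv
    have hnot : ∀ w : W, NCI w → phiTwo w = 1 → w.1 ≠ 1 := fun w hw h1 => by
      rcases nci_phi w hw with ⟨-, h⟩ | ⟨h, -⟩
      · exact absurd h1 h
      · exact h
    by_cases hv1 : v.1 = 1
    · exact two v u t hv hu.1 ht.1 (iff_of_true hv1 hu1) (iff_of_true hv1 ht1) hu.2 ht.2
    · exact two v u' t' hv hu'.1 ht'.1 (iff_of_false hv1 (hnot u' hu'.1 hu'1))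
        (iff_of_false hv1 (hnot t' ht'.1 ht'1)) hu'.2 ht'.2
  -- move `u` to `a` inside a Sylow subgroup of the centralizer of `a`
  obtain ⟨g, hg⟩ := isConj_iff.mp hu.2.symm
  obtain ⟨k, hku, hkE⟩ : ∃ k : G, k * emb u * k⁻¹ = emb cA ∧
      (k * emb cA * k⁻¹ ∈ (S : Subgroup G) ∧ k * emb cZ * k⁻¹ ∈ (S : Subgroup G)) := by
    have hSC : (S : Subgroup G) ≤ Subgroup.centralizer {emb cA} := fun x hx => by
      obtain ⟨w, rfl⟩ := hex x hx
      rw [Subgroup.mem_centralizer_singleton_iff, ← map_mul, ← map_mul, (central w).1]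
    set C := Subgroup.centralizer {emb cA} with hC
    set E : Subgroup G := (Subgroup.centralizer {u}).map ((MulAut.conj g).toMonoidHom.comp emb) with hE
    have hEC : E ≤ C := by
      rintro _ ⟨w, hw, rfl⟩
      rw [Subgroup.mem_centralizer_singleton_iff, ← hg]
      simp only [MonoidHom.comp_apply, MulEquiv.coe_toMonoidHom, MulAut.conj_apply]
      calc g * emb w * g⁻¹ * (g * emb u * g⁻¹) = g * emb (w * u) * g⁻¹ := by rw [map_mul]; group
        _ = g * emb (u * w) * g⁻¹ := by
          rw [(Subgroup.mem_centralizer_singleton_iff.mp hw)]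
        _ = _ := by rw [map_mul]; group
    have hW : IsPGroup 2 W := IsPGroup.of_card (n := 4) (by rw [Nat.card_eq_fintype_card]; rfl)
    have hEp : IsPGroup 2 E := (hW.to_subgroup _).map _
    obtain ⟨h, hh⟩ := Cfsg.Agent.CharPLocal.exists_conj_le_sylow
      (hEp.comap_of_injective C.subtype C.subtype_injective : IsPGroup 2 (E.subgroupOf C))
      (S.subtype hSC)
    have hmove : ∀ c : W, c * u = u * c → (h : G) * g * emb c * ((h : G) * g)⁻¹ ∈ (S : Subgroup G) := by
      intro c hc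
      have h' : g * emb c * g⁻¹ ∈ E := ⟨c, Subgroup.mem_centralizer_singleton_iff.mpr hc, rfl⟩
      have h'' := hh ⟨⟨_, hEC h'⟩, h', rfl⟩
      simpa [Subgroup.mem_subgroupOf, Sylow.coe_subtype, mul_assoc] using h''
    refine ⟨(h : G) * g, ?_, hmove _ (central u).1.symm, hmove _ (central u).2.symm⟩
    calc (h : G) * g * emb u * ((h : G) * g)⁻¹ = (h : G) * (g * emb u * g⁻¹) * (h : G)⁻¹ := by group
      _ = emb cA := by rw [hg, Subgroup.mem_centralizer_singleton_iff.mp h.2, mul_inv_cancel_right]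
  obtain ⟨x, hx⟩ := hex _ hkE.1
  obtain ⟨z', hz'⟩ := hex _ hkE.2
  have inv : ∀ c : W, c * c = 1 → c ≠ 1 → ∀ w, emb w = k * emb c * k⁻¹ → w * w = 1 ∧ w ≠ 1 := by
    intro c hc hc1 w hw
    refine ⟨hinj ?_, ?_⟩
    · rw [map_mul, hw, map_one]
      calc k * emb c * k⁻¹ * (k * emb c * k⁻¹) = k * emb (c * c) * k⁻¹ := by rw [map_mul]; group
        _ = 1 := by rw [hc, map_one, mul_one, mul_inv_cancel]
    · rintro rfl
      rw [map_one, eq_comm, conj_eq_one_iff, ← map_one emb] at hw
      exact hc1 (hinj hw)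
  have hzz : z' = cZ := by
    obtain ⟨h1, h2⟩ := inv cZ (by decide) (by decide) z' hz'
    have hc : IsConj (emb cZ) (emb z') := isConj_iff.mpr ⟨k, hz'.symm⟩
    by_contra h3
    exact hnoZ z' ⟨h1, h2, fun h => hzA (h ▸ hc), h3, fun h => hzAZ (h ▸ hc)⟩ hc
  subst hzz
  obtain ⟨h1, h2⟩ := inv cA (by decide) (by decide) x hx
  have hc : IsConj (emb cA) (emb x) := isConj_iff.mpr ⟨k, hx.symm⟩
  have hxA : x ≠ cA := by
    rintro rfl
    have : emb u = emb cA := mul_left_cancel (mul_right_cancel (hku.trans hx))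
    exact hu.1.2.2.1 (hinj this)
  have hxn : NCI x := ⟨h1, h2, hxA, fun h => hzA (h ▸ hc).symm, fun h => hAAZ (h ▸ hc)⟩
  have hprod : emb (x * cZ) = k * emb (cA * cZ) * k⁻¹ := by
    rw [map_mul, map_mul, hx]; conv_lhs => rw [hz']
    group
  have hc2 : IsConj (emb (cA * cZ)) (emb (x * cZ)) := isConj_iff.mpr ⟨k, hprod.symm⟩
  have hc3 : IsConj (emb x) (emb (x * cZ)) :=
    isConj_iff.mpr ⟨emb cR, by rw [← map_inv, ← map_mul, ← map_mul, nci_conj x hxn]⟩
  exact hAAZ (hc.trans (hc3.trans hc2.symm))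

end Cfsg.Agent.S2911
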