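import Mathlib
import Cfsg.Statements.S2912

set_option autoImplicit false
open Cfsg

namespace Cfsg.Agent.S2912

open Polynomial

variable {k V : Type*} [Field k] [AddCommGroup V] [Module k V]

theorem commute_aeval {B : Type*} [Ring B] [Algebra k B] (a x : B) (h : Commute a x) (q : k[X]) :
    Commute a (aeval x q) := by
  induction q using Polynomial.induction_on' with
  | add u v hu hv => rw [map_add]; exact hu.add_right hv
  | monomial i c =>
    rw [aeval_monomial]
    exact (Algebra.commute_algebraMap_right c a).mul_right (h.pow_right i)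

theorem exists_irreducible_kernel (T : Module.End k V) :
    ∀ g : k[X], g ≠ 0 → ∀ v : V, v ≠ 0 → aeval T g v = 0 →
      ∃ f : k[X], Irreducible f ∧ f ∣ g ∧ ∃ v' : V, v' ≠ 0 ∧ aeval T f v' = 0 := by
  intro g
  induction g using UniqueFactorizationMonoid.induction_on_prime with
  | h₁ => exact fun h => absurd rfl h
  | h₂ x hx =>
    intro _ v hv h
    obtain ⟨u, rfl⟩ := hx
    refine absurd ?_ hv
    have := congrArg (fun y => aeval T (↑u⁻¹ : k[X]) y) h
    simpa [← Module.End.mul_apply, ← map_mul] using this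
  | h₃ a q ha hq ih =>
    intro _ v hv h
    rw [mul_comm, map_mul, Module.End.mul_apply] at h
    by_cases h' : aeval T q v = 0
    · exact ⟨q, hq.irreducible, dvd_mul_right q a, v, hv, h'⟩
    · obtain ⟨f, hf, hfa, hv'⟩ := ih ha _ h' h
      exact ⟨f, hf, hfa.mul_left q, hv'⟩

set_option maxHeartbeats 1600000 in
/-- Let p and r be distinct primes, let E be an extraspecial subgroup of order p^(2w+1) of a finite group, and let A be an elementary abelian r-subgroup normalized by E on which E acts faithfully (C_E(A) = 1). If n ≥ 1 is least with p dividing rⁿ − 1 (the smallest dimension of a faithful representation of a group of order p over the field with r elements), then the order of A is at least r^(n·p^w). -/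
theorem result {G : Type*} [Group G] [Finite G] {p r : ℕ} [Fact p.Prime] [hr : Fact r.Prime] (hpr : p ≠ r) (E A : Subgroup G) (w : ℕ) (hE : Cfsg.IsExtraspecial p ↥E) (hEcard : Nat.card ↥E = p ^ (2 * w + 1)) (hA : Cfsg.IsElementaryAbelian r A) (hnorm : E ≤ Subgroup.normalizer (A : Set G)) (hfaith : E ⊓ Subgroup.centralizer (A : Set G) = ⊥) (n : ℕ) (hn : 1 ≤ n) (hdiv : p ∣ r ^ n - 1) (hmin : ∀ k : ℕ, 1 ≤ k → p ∣ r ^ k - 1 → n ≤ k) : r ^ (n * p ^ w) ≤ Nat.card ↥A := by
  classical
  obtain ⟨hAc, hexp⟩ := hA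
  obtain ⟨⟨hEp, -, hcomm⟩, hZ⟩ := hE
  letI : CommGroup ↥A := { (inferInstance : Group ↥A) with mul_comm := fun a b => hAc.is_comm.comm a b }
  have hsmul : ∀ x : Additive ↥A, r • x = 0 := fun x => by
    apply Additive.toMul.injective
    exact Subtype.ext (by simpa using hexp _ (Additive.toMul x).2)
  letI := AddCommGroup.zmodModule (n := r) hsmul
  have hmem : ∀ (e : ↥E) (a : ↥A), (e : G) * a * (e : G)⁻¹ ∈ A := fun e a =>
    (Subgroup.mem_normalizer_iff.mp (hnorm e.2) a).mp a.2
  set act : ↥E → ↥A →* ↥A := fun e =>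
    { toFun := fun a => ⟨(e : G) * a * (e : G)⁻¹, hmem e a⟩
      map_one' := Subtype.ext (by simp)
      map_mul' := fun a b => Subtype.ext (by simp [mul_assoc]) } with hact
  set ρ : ↥E →* Module.End (ZMod r) (Additive ↥A) :=
    { toFun := fun e => AddMonoidHom.toZModLinearMap r (MonoidHom.toAdditive (act e))
      map_one' := by
        refine LinearMap.ext fun a => Additive.toMul.injective (Subtype.ext ?_)
        simp [hact]
      map_mul' := fun e f => by
        refine LinearMap.ext fun a => Additive.toMul.injective (Subtype.ext ?_)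
        simp [hact, mul_assoc] } with hρ
  have hρval : ∀ (e : ↥E) (a : Additive ↥A), ((ρ e a).toMul : G) = (e : G) * (a.toMul : G) * (e : G)⁻¹ :=
    fun e a => rfl
  obtain ⟨⟨z, hzC⟩, hz⟩ := exists_prime_orderOf_dvd_card' (G := ↥(Subgroup.center ↥E)) p (dvd_of_eq hZ.symm)
  rw [Subgroup.orderOf_mk] at hz
  have hzc : ∀ e : ↥E, Commute e z := fun e => Subgroup.mem_center_iff.mp hzC e
  set T := ρ z with hT
  obtain ⟨v, hv⟩ : ∃ v, T v - v ≠ 0 := by
    by_contra h
    push Not at h
    have hzCA : (z : G) ∈ E ⊓ Subgroup.centralizer (A : Set G) := ⟨z.2, fun a ha => by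
      have h' := congrArg (fun y : Additive ↥A => ((y.toMul : ↥A) : G)) (sub_eq_zero.mp (h (Additive.ofMul ⟨a, ha⟩)))
      simp only [hT, hρval, toMul_ofMul] at h'
      exact ((mul_inv_eq_iff_eq_mul.mp h')).symm⟩
    rw [hfaith, Subgroup.mem_bot, OneMemClass.coe_eq_one] at hzCA
    rw [hzCA, orderOf_one] at hz
    exact (Fact.out : p.Prime).ne_one hz.symm
  set g : (ZMod r)[X] := ∑ i ∈ Finset.range p, X ^ i with hg
  have hgX : g * (X - 1) = X ^ p - 1 := geom_sum_mul X p
  have hp0 : ((p : ℕ) : ZMod r) ≠ 0 := by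
    rw [Ne, ZMod.natCast_eq_zero_iff]
    exact fun h => hpr ((Nat.prime_dvd_prime_iff_eq hr.out Fact.out).mp h).symm
  have hg1 : g.eval 1 = (p : ZMod r) := by simp [hg, eval_finsetSum]
  have hg0 : g ≠ 0 := fun h => hp0 (by rw [← hg1, h, eval_zero])
  have hTp : T ^ p = 1 := by rw [hT, ← map_pow, ← hz, pow_orderOf_eq_one, map_one]
  obtain ⟨f, hf, hfg, v', hv', hfv⟩ := exists_irreducible_kernel T g hg0 (T v - v) hv (by
    have h := congrArg (fun q => aeval T q v) hgX
    simpa [hTp, map_mul, Module.End.mul_apply, LinearMap.sub_apply, Module.End.one_apply] using h)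
  haveI := Fact.mk hf
  set W := LinearMap.ker (aeval T f) with hW
  have hcommT : ∀ e, Commute (ρ e) (aeval T f) := fun e =>
    commute_aeval _ _ (hT ▸ (hzc e).map ρ) f
  have hinv : ∀ e : ↥E, ∀ x ∈ W, ρ e x ∈ W := fun e x hx => by
    rw [hW, LinearMap.mem_ker, ← Module.End.mul_apply, ← (hcommT e).eq, Module.End.mul_apply,
      LinearMap.mem_ker.mp hx, map_zero]
  set ρW : ↥E →* Module.End (ZMod r) ↥W :=
    { toFun := fun e => (ρ e).restrict (hinv e)
      map_one' := LinearMap.ext fun x => Subtype.ext (by simp [LinearMap.restrict_apply])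
      map_mul' := fun e e' => LinearMap.ext fun x => Subtype.ext (by simp [LinearMap.restrict_apply]) } with hρW
  have haev : ∀ (q : (ZMod r)[X]) (x : ↥W), ((aeval (ρW z) q x : ↥W) : Additive ↥A) = aeval T q x := by
    intro q
    induction q using Polynomial.induction_on with
    | C c => intro x; simp [Algebra.algebraMap_eq_smul_one]
    | add a b ha hb => intro x; simp [ha x, hb x]
    | monomial i c ih =>
      intro x
      rw [pow_succ, ← mul_assoc]
      simp only [map_mul (aeval (ρW z)), map_mul (aeval T), Module.End.mul_apply, aeval_X] at ih ⊢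
      exact ih _
  have hfW : eval₂ (algebraMap (ZMod r) (Module.End (ZMod r) ↥W)) (ρW z) f = 0 := by
    rw [← aeval_def]
    exact LinearMap.ext fun x => Subtype.ext (by simpa using (haev f x).trans (LinearMap.mem_ker.mp x.2))
  let ψ : (ZMod r)[X] →+* Module.End (ZMod r) ↥W :=
    Polynomial.eval₂RingHom' (algebraMap (ZMod r) (Module.End (ZMod r) ↥W)) (ρW z)
      (fun c => Algebra.commutes c _)
  set φ : AdjoinRoot f →+* Module.End (ZMod r) ↥W := Ideal.Quotient.lift (Ideal.span {f}) ψ (by
      intro q hq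
      obtain ⟨q', rfl⟩ := Ideal.mem_span_singleton.mp hq
      rw [map_mul]
      show eval₂ _ _ f * _ = 0
      rw [hfW, zero_mul]) with hφ
  have hφroot : φ (AdjoinRoot.root f) = ρW z := by
    rw [hφ]
    exact eval₂_X _ _
  letI : Module (AdjoinRoot f) ↥W := Module.compHom ↥W φ
  have hsmulφ : ∀ (c : AdjoinRoot f) (x : ↥W), c • x = φ c x := fun c x => rfl
  have hφc : ∀ (e : ↥E) (c : AdjoinRoot f), Commute (ρW e) (φ c) := by
    intro e c
    induction c using AdjoinRoot.induction_on with
    | ih q =>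
      show Commute (ρW e) (eval₂ (algebraMap (ZMod r) (Module.End (ZMod r) ↥W)) (ρW z) q)
      rw [← aeval_def]
      exact commute_aeval _ _ ((hzc e).map ρW) q
  set σ : ↥E → Module.End (AdjoinRoot f) ↥W := fun e =>
    { toFun := ρW e
      map_add' := map_add _
      map_smul' := fun c x => by
        rw [hsmulφ, ← Module.End.mul_apply, (hφc e c).eq]; rfl } with hσ
  set ζ := AdjoinRoot.root f with hζ
  have hζp : ζ ^ p = 1 := by
    obtain ⟨q, hq⟩ := hfg
    have h := congrArg (AdjoinRoot.mk f) hgX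
    rw [hq, map_mul, map_mul, AdjoinRoot.mk_self, zero_mul, zero_mul] at h
    simp only [map_sub, map_pow, AdjoinRoot.mk_X, map_one, ← hζ] at h
    exact sub_eq_zero.mp h.symm
  have hζ1 : ζ ≠ 1 := fun h => by
    have h0 : AdjoinRoot.mk f g = 0 := AdjoinRoot.mk_eq_zero.mpr hfg
    rw [hg, map_sum] at h0
    simp only [map_pow, AdjoinRoot.mk_X, ← hζ, h, one_pow, Finset.sum_const, Finset.card_range,
      nsmul_one] at h0
    apply hp0
    have := (AdjoinRoot.of f).injective
    exact this (by rw [map_natCast, map_zero]; exact h0)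
  have hζo : orderOf ζ = p := orderOf_eq_prime hζp hζ1
  have hscal : ∀ (i : ℕ) (x : ↥W), ρW (z ^ i) x = ζ ^ i • x := fun i x => by
    rw [hsmulφ, map_pow, map_pow, hφroot]
  have hzgen : ∀ c ∈ Subgroup.center ↥E, ∃ i : ℕ, c = z ^ i := by
    intro c hc
    have hne : (⟨z, hzC⟩ : ↥(Subgroup.center ↥E)) ≠ 1 := fun h => by
      rw [Subtype.ext_iff] at h
      rw [show z = 1 from h, orderOf_one] at hz
      exact (Fact.out : p.Prime).ne_one hz.symm
    obtain ⟨i, hi⟩ := (Submonoid.mem_powers_iff _ _).mp (mem_powers_of_prime_card hZ hne (g' := ⟨c, hc⟩))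
    exact ⟨i, (congrArg Subtype.val hi).symm⟩
  have hcc : ∀ a b : ↥E, a * b * a⁻¹ * b⁻¹ ∈ Subgroup.center ↥E := fun a b => by
    rw [← hcomm]
    exact Subgroup.commutator_mem_commutator (Subgroup.mem_top a) (Subgroup.mem_top b)
  choose k hk using fun a b => hzgen _ (hcc a b)
  have hζeq : ∀ i j : ℕ, z ^ i = z ^ j ↔ ζ ^ i = ζ ^ j := fun i j => by
    rw [pow_eq_pow_iff_modEq, hz]
    refine ⟨fun h => ?_, fun h => ?_⟩
    · rw [← hζo] at h
      rw [← pow_mod_orderOf, h, pow_mod_orderOf]
    · by_contra hne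
      apply hne
      have h' := h
      rw [← pow_mod_orderOf ζ i, ← pow_mod_orderOf ζ j, hζo] at h'
      exact pow_injOn_Iio_orderOf (x := ζ) (by rw [Set.mem_Iio, hζo]; exact Nat.mod_lt _ (Fact.out : p.Prime).pos)
        (by rw [Set.mem_Iio, hζo]; exact Nat.mod_lt _ (Fact.out : p.Prime).pos) h'
  set Q := ↥E ⧸ Subgroup.center ↥E
  set χ : Q → (↥E →* AdjoinRoot f) := fun q =>
    { toFun := fun a => ζ ^ k a q.out
      map_one' := by
        rw [← pow_zero ζ, ← hζeq, ← hk, pow_zero]; group
      map_mul' := fun a b => by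
        rw [← pow_add, ← hζeq, pow_add, ← hk, ← hk, ← hk]
        have := Subgroup.mem_center_iff.mp (hcc b q.out) a
        calc a * b * q.out * (a * b)⁻¹ * q.out⁻¹
            = (a * (b * q.out * b⁻¹ * q.out⁻¹)) * (q.out * a⁻¹ * q.out⁻¹) := by group
          _ = (b * q.out * b⁻¹ * q.out⁻¹ * a) * (q.out * a⁻¹ * q.out⁻¹) := by rw [this]
          _ = (b * q.out * b⁻¹ * q.out⁻¹) * (a * q.out * a⁻¹ * q.out⁻¹) := by group
          _ = (a * q.out * a⁻¹ * q.out⁻¹) * (b * q.out * b⁻¹ * q.out⁻¹) := by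
            rw [Subgroup.mem_center_iff.mp (hcc b q.out)] } with hχ
  have hχinj : Function.Injective χ := by
    intro q q' h
    rw [← q.out_eq', ← q'.out_eq', QuotientGroup.eq, Subgroup.mem_center_iff]
    intro a
    have h' : a * q.out * a⁻¹ * q.out⁻¹ = a * q'.out * a⁻¹ * q'.out⁻¹ := by
      rw [hk, hk, hζeq]; exact DFunLike.congr_fun h a
    calc a * (q.out⁻¹ * q'.out) = (a * q.out * a⁻¹)⁻¹ * (a * q'.out * a⁻¹ * q'.out⁻¹) * q'.out * a := by group
      _ = (a * q.out * a⁻¹)⁻¹ * (a * q.out * a⁻¹ * q.out⁻¹) * q'.out * a := by rw [h']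
      _ = q.out⁻¹ * q'.out * a := by group
  haveI : Fintype Q := Fintype.ofFinite Q
  have hind : LinearIndependent (AdjoinRoot f) (fun q : Q => σ q.out) := by
    rw [Fintype.linearIndependent_iff]
    intro c hc q
    by_contra hcq
    have hsum : ∀ (a : ↥E) (x : ↥W), ∑ q, χ q a • c q • σ q.out x = 0 := by
      intro a x
      have h := congrArg (σ a) (LinearMap.congr_fun hc (ρW a⁻¹ x))
      rw [LinearMap.zero_apply, map_zero, LinearMap.sum_apply, map_sum] at h
      refine Eq.trans (Finset.sum_congr rfl fun q _ => ?_) h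
      rw [LinearMap.smul_apply, map_smul, smul_comm]
      congr 1
      show χ q a • ρW q.out x = ρW a (ρW q.out (ρW a⁻¹ x))
      rw [show χ q a = ζ ^ k a q.out from rfl, ← hscal, ← hk, ← Module.End.mul_apply, ← Module.End.mul_apply,
        ← Module.End.mul_apply, ← map_mul, ← map_mul, ← map_mul]
      congr 2
      group
    have hne : ∃ x : ↥W, c q • σ q.out x ≠ 0 := by
      refine ⟨ρW q.out⁻¹ ⟨v', LinearMap.mem_ker.mpr hfv⟩, ?_⟩
      show c q • ρW q.out (ρW q.out⁻¹ _) ≠ 0
      rw [← Module.End.mul_apply, ← map_mul, mul_inv_cancel, map_one, Module.End.one_apply]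
      exact smul_ne_zero hcq fun h => hv' (congrArg Subtype.val h)
    obtain ⟨x, hx⟩ := hne
    apply hx
    rw [← Module.forall_dual_apply_eq_zero_iff (AdjoinRoot f)]
    intro L
    have hl := (linearIndependent_monoidHom ↥E (AdjoinRoot f)).comp χ hχinj
    refine (Fintype.linearIndependent_iff.mp hl (fun q => L (c q • σ q.out x)) ?_) q
    funext a
    have h := congrArg L (hsum a x)
    simp only [map_sum, map_smul, map_zero, smul_eq_mul] at h
    simp only [Function.comp_apply, Finset.sum_apply, Pi.smul_apply, smul_eq_mul, Pi.zero_apply, map_smul]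
    rw [← h]
    exact Finset.sum_congr rfl fun q _ => mul_comm _ _
  haveI : Module.Finite (AdjoinRoot f) ↥W := Module.Finite.of_finite
  have hd := hind.fintype_card_le_finrank
  rw [show Module.finrank (AdjoinRoot f) (Module.End (AdjoinRoot f) ↥W) =
      Module.finrank (AdjoinRoot f) ↥W * Module.finrank (AdjoinRoot f) ↥W from
      Module.finrank_linearMap (AdjoinRoot f) (AdjoinRoot f) ↥W ↥W, ← Nat.card_eq_fintype_card] at hd
  have hQ : Nat.card Q = p ^ w * p ^ w := by
    have h := Subgroup.card_eq_card_quotient_mul_card_subgroup (Subgroup.center ↥E)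
    rw [hEcard, hZ, pow_succ] at h
    rw [← pow_add, ← two_mul]
    exact (Nat.eq_of_mul_eq_mul_right (Fact.out : p.Prime).pos h).symm
  rw [hQ] at hd
  have hdw : p ^ w ≤ Module.finrank (AdjoinRoot f) ↥W := Nat.mul_self_le_mul_self_iff.mp hd
  haveI : Module.Finite (ZMod r) (AdjoinRoot f) := (AdjoinRoot.powerBasis hf.ne_zero).finite
  haveI : Finite (AdjoinRoot f) := Module.finite_of_finite (ZMod r)
  have hF : Nat.card (AdjoinRoot f) = r ^ f.natDegree := by
    rw [Module.natCard_eq_pow_finrank (K := ZMod r), Nat.card_zmod,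
      (AdjoinRoot.powerBasis hf.ne_zero).finrank, AdjoinRoot.powerBasis_dim]
  have hdeg : n ≤ f.natDegree := by
    refine hmin _ hf.natDegree_pos ?_
    rw [← hF, ← hζo]
    haveI := Fintype.ofFinite (AdjoinRoot f)
    rw [Nat.card_eq_fintype_card]
    refine orderOf_dvd_of_pow_eq_one (FiniteField.pow_card_sub_one_eq_one ζ ?_)
    intro h0
    rw [h0, zero_pow (Fact.out : p.Prime).ne_zero] at hζp
    exact zero_ne_one hζp
  calc r ^ (n * p ^ w) ≤ r ^ (f.natDegree * Module.finrank (AdjoinRoot f) ↥W) :=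
        Nat.pow_le_pow_right hr.out.pos (Nat.mul_le_mul hdeg hdw)
    _ = Nat.card ↥W := by rw [pow_mul, ← hF, ← Module.natCard_eq_pow_finrank]
    _ ≤ Nat.card ↥A := Nat.card_le_card_of_injective (fun x : ↥W => (x : Additive ↥A).toMul)
        (Additive.toMul.injective.comp Subtype.val_injective)

end Cfsg.Agent.S2912
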