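import Mathlib
import Cfsg.Statements.S2924
import Cfsg.Agent.Lib.CharPLocal

set_option autoImplicit false
open Cfsg

namespace Cfsg.Agent.S2924

open Subgroup

section
variable {X : Type*} [Group X] [Finite X]

/-- `O(C(y))` inside `X`. -/
def coreAt (y : X) : Subgroup X :=
  (Cfsg.oddCore ↥(Subgroup.centralizer ({y} : Set X))).map
    (Subgroup.centralizer ({y} : Set X)).subtype

theorem mem_centralizer_single {y a : X} :
    a ∈ Subgroup.centralizer ({y} : Set X) ↔ Commute y a := by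
  rw [Subgroup.mem_centralizer_iff]
  exact ⟨fun h => h y rfl, fun h z hz => by rw [Set.mem_singleton_iff.mp hz]; exact h.eq⟩

theorem commute_of_mem_coreAt {y a : X} (h : a ∈ coreAt y) : Commute y a :=
  mem_centralizer_single.mp (Subgroup.map_subtype_le _ h)

theorem coprime_of_mem_coreAt {y a : X} (h : a ∈ coreAt y) : (orderOf a).Coprime 2 := by
  obtain ⟨b, hb, rfl⟩ := h
  rw [Subgroup.coe_subtype, Subgroup.orderOf_coe]
  exact (Cfsg.Agent.HallCore.coprime_card_pPrimeCore 2 _).coprime_dvd_left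
    (Subgroup.orderOf_dvd_natCard _ hb)

theorem conj_mem_coreAt {y a c : X} (hc : Commute y c) (h : a ∈ coreAt y) :
    c * a * c⁻¹ ∈ coreAt y := by
  obtain ⟨b, hb, rfl⟩ := h
  refine ⟨⟨c, mem_centralizer_single.mpr hc⟩ * b * ⟨c, mem_centralizer_single.mpr hc⟩⁻¹,
    (Cfsg.Agent.HallCore.pPrimeCore_normal 2 _).conj_mem b hb _, rfl⟩

theorem le_coreAt {y : X} {N : Subgroup X} (hN : N ≤ Subgroup.centralizer ({y} : Set X))
    (hn : ∀ c, Commute y c → ∀ a ∈ N, c * a * c⁻¹ ∈ N) (hcard : (Nat.card N).Coprime 2) :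
    N ≤ coreAt y := by
  intro a ha
  have h1 : N.subgroupOf (Subgroup.centralizer ({y} : Set X)) ≤
      Cfsg.oddCore ↥(Subgroup.centralizer ({y} : Set X)) := by
    refine Cfsg.Agent.HallCore.le_pPrimeCore (hN := ⟨fun b hb c => ?_⟩) ?_
    · exact hn _ (mem_centralizer_single.mp c.2) _ hb
    · rw [Nat.card_congr (Subgroup.subgroupOfEquivOfLe hN).toEquiv]
      exact hcard
  exact ⟨⟨a, hN ha⟩, h1 ha, rfl⟩

/-- In a group of characteristic `2` the only normal subgroup of odd order is trivial. -/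
theorem odd_normal_eq_bot {M : Type*} [Group M] [Finite M]
    (hM : Cfsg.Agent.CharPBasic.HasCharP 2 M) (N : Subgroup M) [hn : N.Normal]
    (hN : (Nat.card N).Coprime 2) : N = ⊥ := by
  haveI : Fact (Nat.Prime 2) := ⟨Nat.prime_two⟩
  rw [eq_bot_iff]
  intro a ha
  have hR := Cfsg.Agent.HallCore.isPGroup_pCore 2 M
  have hodd : ∀ b ∈ N, (orderOf b).Coprime 2 := fun b hb =>
    hN.coprime_dvd_left (Subgroup.orderOf_dvd_natCard _ hb)
  have hac : a ∈ Subgroup.centralizer (Cfsg.pCore 2 M : Set M) := by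
    refine Subgroup.mem_centralizer_iff.mpr fun q hq => ?_
    have h1 : a * q * a⁻¹ * q⁻¹ ∈ N := by
      have := N.mul_mem ha (hn.conj_mem _ (N.inv_mem ha) q)
      simpa [mul_assoc] using this
    have h2 : a * q * a⁻¹ * q⁻¹ ∈ Cfsg.pCore 2 M := (Cfsg.pCore 2 M).mul_mem
      ((Cfsg.Agent.HallCore.pCore_normal 2 M).conj_mem q hq a) ((Cfsg.pCore 2 M).inv_mem hq)
    have h3 := Cfsg.Agent.CharPBasic.eq_one_of_coprime_of_mem hR h2 (hodd _ h1)
    rw [mul_inv_eq_one, mul_inv_eq_iff_eq_mul] at h3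
    exact h3.symm
  exact Subgroup.mem_bot.mpr
    (Cfsg.Agent.CharPBasic.eq_one_of_coprime_of_mem hR (hM hac) (hodd a ha))

/-- An involution inducing a fixed-point-free map on a subgroup inverts it. -/
theorem inverts_of_fixedPointFree {z : X} (hz : z ^ 2 = 1) {D : Subgroup X}
    (hzD : ∀ a ∈ D, z * a * z⁻¹ ∈ D) (hfree : ∀ a ∈ D, Commute z a → a = 1) :
    ∀ a ∈ D, z * a * z⁻¹ = a⁻¹ := by
  let φ : D →* D :=
    { toFun := fun a => ⟨z * a * z⁻¹, hzD a a.2⟩
      map_one' := Subtype.ext (by simp)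
      map_mul' := fun a b => Subtype.ext (by simp [mul_assoc]) }
  have hfix : MonoidHom.FixedPointFree φ := by
    intro a ha
    have h' : z * (a : X) * z⁻¹ = a := congrArg Subtype.val ha
    exact Subtype.ext (hfree a a.2 (mul_inv_eq_iff_eq_mul.mp h'))
  have hinv : Function.Involutive φ := by
    intro a
    apply Subtype.ext
    show z * (z * (a : X) * z⁻¹) * z⁻¹ = a
    have h2 : z * z = 1 := by rw [← pow_two, hz]
    have h3 : z⁻¹ = z := inv_eq_of_mul_eq_one_left h2
    rw [h3]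
    calc z * (z * (a : X) * z) * z = (z * z) * a * (z * z) := by simp only [mul_assoc]
      _ = a := by rw [h2, one_mul, mul_one]
  intro a ha
  exact congrArg Subtype.val (congrFun (hfix.coe_eq_inv_of_involutive hinv) ⟨a, ha⟩)

theorem commute_of_inverts {z a b : X} (ha : z * a * z⁻¹ = a⁻¹) (hb : z * b * z⁻¹ = b⁻¹)
    (hab : z * (a * b) * z⁻¹ = (a * b)⁻¹) : Commute a b := by
  have h1 : z * (a * b) * z⁻¹ = (z * a * z⁻¹) * (z * b * z⁻¹) := by group
  rw [h1, ha, hb, ← mul_inv_rev] at hab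
  exact (inv_injective hab).symm

/-- Balance: an odd subgroup `D` inverted by `z` and invariant under `C(u)` lies in the odd core
of a group without components whose odd core is inverted by `z`. -/
theorem le_oddCore_of_inverted {M : Type*} [Group M] [Finite M]
    (hE : Cfsg.layer M = ⊥) (z u : M) (hu : u ^ 2 = 1) (D : Subgroup M)
    (hDodd : ∀ d ∈ D, (orderOf d).Coprime 2) (hDu : ∀ d ∈ D, Commute u d)
    (hDn : ∀ c, Commute u c → ∀ d ∈ D, c * d * c⁻¹ ∈ D)
    (hzD : ∀ d ∈ D, z * d * z⁻¹ = d⁻¹)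
    (hzO : ∀ o ∈ Cfsg.oddCore M, z * o * z⁻¹ = o⁻¹) : D ≤ Cfsg.oddCore M := by
  haveI : Fact (Nat.Prime 2) := ⟨Nat.prime_two⟩
  set O := Cfsg.oddCore M with hO
  set R := Cfsg.pCore 2 M
  have hRn : R.Normal := Cfsg.Agent.HallCore.pCore_normal 2 M
  have hOn : O.Normal := Cfsg.Agent.HallCore.pPrimeCore_normal 2 M
  have hR := Cfsg.Agent.HallCore.isPGroup_pCore 2 M
  have hOodd : ∀ o ∈ O, (orderOf o).Coprime 2 := fun o ho =>
    (Cfsg.Agent.HallCore.coprime_card_pPrimeCore 2 M).coprime_dvd_left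
      (Subgroup.orderOf_dvd_natCard _ ho)
  have hRO : ∀ r ∈ R, ∀ o ∈ O, Commute r o := by
    intro r hr o ho
    have h1 : r * o * r⁻¹ * o⁻¹ ∈ O := O.mul_mem (hOn.conj_mem o ho r) (O.inv_mem ho)
    have h2 : r * o * r⁻¹ * o⁻¹ ∈ R := by
      simpa [mul_assoc] using R.mul_mem hr (hRn.conj_mem _ (R.inv_mem hr) o)
    have h3 := Cfsg.Agent.CharPBasic.eq_one_of_coprime_of_mem hR h2 (hOodd _ h1)
    rw [mul_inv_eq_one, mul_inv_eq_iff_eq_mul] at h3
    exact h3
  have hdO : ∀ d ∈ D, ∀ o ∈ O, Commute d o := by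
    intro d hd o ho
    have h1 : z * (d * o * d⁻¹) * z⁻¹ = (d * o * d⁻¹)⁻¹ := hzO _ (hOn.conj_mem o ho d)
    have h2 : z * (d * o * d⁻¹) * z⁻¹ = d⁻¹ * o⁻¹ * d := by
      calc z * (d * o * d⁻¹) * z⁻¹
          = (z * d * z⁻¹) * (z * o * z⁻¹) * (z * d * z⁻¹)⁻¹ := by group
        _ = d⁻¹ * o⁻¹ * d := by rw [hzD d hd, hzO o ho, inv_inv]
    rw [h2] at h1
    have h3 : Commute (d ^ 2) o := by
      have h4 : d⁻¹ * o * d = d * o * d⁻¹ := by
        have h5 := congrArg (fun w => w⁻¹) h1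
        simpa [mul_assoc] using h5
      show d ^ 2 * o = o * d ^ 2
      calc d ^ 2 * o = d * (d * o * d⁻¹) * d := by rw [pow_two]; group
        _ = d * (d⁻¹ * o * d) * d := by rw [h4]
        _ = o * d ^ 2 := by rw [pow_two]; group
    obtain ⟨m, hm⟩ := exists_pow_eq_self_of_coprime (n := 2) (hDodd d hd).symm
    rw [← hm]
    exact h3.pow_left m
  have hdR : ∀ d ∈ D, ∀ r ∈ R, Commute d r := by
    intro d hd
    have hzu : IsPGroup 2 (Subgroup.zpowers u) := by
      intro x
      refine ⟨1, Subtype.ext ?_⟩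
      obtain ⟨i, hi⟩ := Subgroup.mem_zpowers_iff.mp x.2
      rw [SubmonoidClass.coe_pow, ← hi, pow_one, ← zpow_natCast, ← zpow_mul, mul_comm, zpow_mul,
        zpow_natCast, hu, one_zpow]
      rfl
    refine Cfsg.Agent.CharPBasic.commute_of_centralizes_fixed hR hzu
      (le_top.trans (le_of_eq (Subgroup.normalizer_eq_top_iff.mpr hRn).symm)) (hDodd d hd)
      ((Subgroup.normalizer_eq_top_iff.mpr hRn).symm ▸ Subgroup.mem_top d) ?_ ?_
    · intro q hq
      obtain ⟨i, rfl⟩ := Subgroup.mem_zpowers_iff.mp hq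
      exact (hDu d hd).symm.zpow_right i
    · intro r hr hru
      have hur : Commute u r := hru u (Subgroup.mem_zpowers u)
      have h1 : r * d * r⁻¹ * d⁻¹ ∈ D := D.mul_mem (hDn r hur d hd) (D.inv_mem hd)
      have h2 : r * d * r⁻¹ * d⁻¹ ∈ R := by
        simpa [mul_assoc] using R.mul_mem hr (hRn.conj_mem _ (R.inv_mem hr) d)
      have h3 := Cfsg.Agent.CharPBasic.eq_one_of_coprime_of_mem hR h2 (hDodd _ h1)
      rw [mul_inv_eq_one, mul_inv_eq_iff_eq_mul] at h3
      exact Commute.symm h3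
  have hF : Cfsg.fittingSubgroup M ≤ R ⊔ O := by
    rw [Cfsg.Agent.ComponentsFitting.fittingSubgroup_eq_iSup]
    refine iSup_le fun q => ?_
    by_cases hq : (q : ℕ) = 2
    · exact le_trans (le_of_eq (by rw [hq])) le_sup_left
    · refine le_trans ?_ le_sup_right
      haveI : Fact (q : ℕ).Prime := ⟨Nat.prime_of_mem_primeFactors q.2⟩
      refine Cfsg.Agent.HallCore.le_pPrimeCore
        (hN := Cfsg.Agent.HallCore.pCore_normal q M) ?_
      obtain ⟨k, hk⟩ := IsPGroup.iff_card.mp (Cfsg.Agent.HallCore.isPGroup_pCore (q : ℕ) M)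
      rw [hk]
      exact Nat.Coprime.pow_left _
        ((Nat.coprime_primes (Nat.prime_of_mem_primeFactors q.2) Nat.prime_two).mpr hq)
  intro d hd
  have hdc : d ∈ Subgroup.centralizer ((R ⊔ O : Subgroup M) : Set M) := by
    rw [Subgroup.mem_centralizer_iff]
    intro w hw
    have hle : R ⊔ O ≤ Subgroup.centralizer ({d} : Set M) :=
      sup_le (fun r hr => mem_centralizer_single.mpr (hdR d hd r hr))
        (fun o ho => mem_centralizer_single.mpr (hdO d hd o ho))
    exact (mem_centralizer_single.mp (hle hw)).eq.symm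
  have hdF : d ∈ R ⊔ O :=
    hF (Cfsg.Agent.ComponentsFitting.centralizer_fitting_le_of_layer_eq_bot hE
      (Subgroup.centralizer_le hF hdc))
  rw [← SetLike.mem_coe, Subgroup.mul_normal] at hdF
  obtain ⟨r, hr, o, ho, rfl⟩ := hdF
  change r ∈ R at hr
  change o ∈ O at ho
  have hc : Commute (r * o) o⁻¹ := (Commute.mul_left (hRO r hr o ho) (Commute.refl o)).inv_right
  have hr1 : r = 1 := by
    refine Cfsg.Agent.CharPBasic.eq_one_of_coprime_of_mem hR hr ?_
    have h1 : orderOf r ∣ Nat.lcm (orderOf (r * o)) (orderOf o⁻¹) := by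
      have := hc.orderOf_mul_dvd_lcm
      simpa using this
    refine Nat.Coprime.coprime_dvd_left (h1.trans (Nat.lcm_dvd_mul _ _))
      (Nat.Coprime.mul_left (hDodd _ hd) ?_)
    rw [orderOf_inv]
    exact hOodd o ho
  simpa [hr1] using ho

variable {Y : Subgroup X}

/-- Balance for the family `O(C(y))`. -/
theorem balance (hE : ∀ x ∈ Y, x ≠ 1 → Cfsg.layer ↥(Subgroup.centralizer ({x} : Set X)) = ⊥)
    (hsq : ∀ x ∈ Y, x ^ 2 = 1) (hcomm : ∀ x ∈ Y, ∀ x' ∈ Y, Commute x x')
    {z : X} (hzY : z ∈ Y)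
    (hinv : ∀ y ∈ Y, y ≠ 1 → ∀ a ∈ coreAt y, z * a * z⁻¹ = a⁻¹)
    {u v a : X} (huY : u ∈ Y) (hu1 : u ≠ 1) (hvY : v ∈ Y) (hv1 : v ≠ 1)
    (ha : a ∈ coreAt u) (hav : Commute v a) : a ∈ coreAt v := by
  set C := Subgroup.centralizer ({v} : Set X)
  have huC : u ∈ C := mem_centralizer_single.mpr (hcomm v hvY u huY)
  have hzC : z ∈ C := mem_centralizer_single.mpr (hcomm v hvY z hzY)
  have h := le_oddCore_of_inverted (M := C) (hE v hvY hv1) ⟨z, hzC⟩ ⟨u, huC⟩
    (Subtype.ext (by simpa using hsq u huY)) ((coreAt u).subgroupOf C)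
    (fun d hd => by rw [← Subgroup.orderOf_coe]; exact coprime_of_mem_coreAt hd)
    (fun d hd => Subtype.ext (commute_of_mem_coreAt hd).eq)
    (fun c hc d hd => conj_mem_coreAt (congrArg Subtype.val hc.eq : _ = _) hd)
    (fun d hd => Subtype.ext (hinv u huY hu1 _ hd))
    (fun o ho => Subtype.ext (hinv v hvY hv1 _ ⟨o, ho, rfl⟩))
  exact ⟨⟨a, mem_centralizer_single.mpr hav⟩, h ha, rfl⟩

end

/-- Let X be a finite group and Y an elementary abelian 2-subgroup of X of order at least 8 such that C_X(x) has no components (E(C_X(x)) = 1) for every nontrivial x ∈ Y, and F*(C_X(z)) = O₂(C_X(z)) for some nontrivial z ∈ Y. Then the subgroup generated by the cores O(C_X(y)), y ∈ Y nontrivial, has odd order and is normalized by N_X(Y). -/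
theorem result {X : Type*} [Group X] [Finite X] (Y : Subgroup X) (hY : Cfsg.IsElementaryAbelian 2 Y) (h8 : 8 ≤ Nat.card ↥Y) (hE : ∀ x ∈ Y, x ≠ 1 → Cfsg.layer ↥(Subgroup.centralizer ({x} : Set X)) = ⊥) (hz : ∃ z ∈ Y, z ≠ 1 ∧ Cfsg.generalizedFittingSubgroup ↥(Subgroup.centralizer ({z} : Set X)) = Cfsg.pCore 2 ↥(Subgroup.centralizer ({z} : Set X))) : Odd (Nat.card ↥(⨆ y : {y : X // y ∈ Y ∧ y ≠ 1}, (Cfsg.oddCore ↥(Subgroup.centralizer ({(y : X)} : Set X))).map (Subgroup.centralizer ({(y : X)} : Set X)).subtype)) ∧ Subgroup.normalizer (Y : Set X) ≤ Subgroup.normalizer ((⨆ y : {y : X // y ∈ Y ∧ y ≠ 1}, (Cfsg.oddCore ↥(Subgroup.centralizer ({(y : X)} : Set X))).map (Subgroup.centralizer ({(y : X)} : Set X)).subtype : Subgroup X) : Set X) := by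
  haveI : Fact (Nat.Prime 2) := ⟨Nat.prime_two⟩
  obtain ⟨hYab, hsq⟩ := hY
  obtain ⟨z, hzY, hz1, hzchar⟩ := hz
  have hzC : Cfsg.Agent.CharPBasic.HasCharP 2 ↥(Subgroup.centralizer ({z} : Set X)) :=
    Cfsg.Agent.CharPLocal.gen_eq_pCore_iff.mp hzchar
  have hcomm : ∀ x ∈ Y, ∀ x' ∈ Y, Commute x x' := fun x hx x' hx' =>
    congrArg Subtype.val (hYab.is_comm.comm ⟨x, hx⟩ ⟨x', hx'⟩)
  -- z inverts every core
  have hinv : ∀ y ∈ Y, y ≠ 1 → ∀ a ∈ coreAt y, z * a * z⁻¹ = a⁻¹ := by
    intro y hy hy1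
    refine inverts_of_fixedPointFree (hsq z hzY)
      (fun a ha => conj_mem_coreAt (hcomm y hy z hzY) ha) fun a ha hza => ?_
    set C := Subgroup.centralizer ({z} : Set X)
    have hyC : y ∈ C := mem_centralizer_single.mpr (hcomm z hzY y hy)
    have hyp : IsPGroup 2 (Subgroup.zpowers (⟨y, hyC⟩ : C)) := by
      intro x
      refine ⟨1, Subtype.ext ?_⟩
      obtain ⟨i, hi⟩ := Subgroup.mem_zpowers_iff.mp x.2
      have h2 : (⟨y, hyC⟩ : C) ^ 2 = 1 := Subtype.ext (by simpa using hsq y hy)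
      rw [SubmonoidClass.coe_pow, ← hi, pow_one, ← zpow_natCast, ← zpow_mul, mul_comm, zpow_mul,
        zpow_natCast, h2, one_zpow]
      rfl
    have hM := Cfsg.Agent.CharPLocal.hasCharP_centralizer hzC _ hyp
    set M := Subgroup.centralizer ((Subgroup.zpowers (⟨y, hyC⟩ : C) : Subgroup C) : Set C)
    have hMy : ∀ m : M, Commute y ((m : C) : X) := fun m =>
      congrArg Subtype.val (Subgroup.mem_centralizer_iff.mp m.2 ⟨y, hyC⟩ (Subgroup.mem_zpowers _))
    set N : Subgroup M := ((coreAt y).subgroupOf C).subgroupOf M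
    haveI hNn : N.Normal := ⟨fun b hb c => conj_mem_coreAt (hMy c) hb⟩
    have hNcard : (Nat.card N).Coprime 2 := by
      refine (Cfsg.Agent.HallCore.coprime_card_pPrimeCore 2
        ↥(Subgroup.centralizer ({y} : Set X))).coprime_dvd_left ?_
      rw [← Subgroup.card_map_of_injective (K := Cfsg.pPrimeCore 2 ↥(Subgroup.centralizer ({y} : Set X)))
        (f := (Subgroup.centralizer ({y} : Set X)).subtype)
        (Subgroup.subtype_injective _)]
      refine dvd_trans ?_ (Subgroup.card_dvd_of_le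
        (show (N.map M.subtype).map C.subtype ≤ coreAt y from ?_))
      · rw [Subgroup.card_map_of_injective C.subtype_injective,
          Subgroup.card_map_of_injective M.subtype_injective]
      · rintro _ ⟨_, ⟨b, hb, rfl⟩, rfl⟩
        exact hb
    have hbot := odd_normal_eq_bot hM N hNcard
    have haC : a ∈ C := mem_centralizer_single.mpr hza
    have haM : (⟨a, haC⟩ : C) ∈ M := by
      refine Subgroup.mem_centralizer_iff.mpr fun q hq => ?_
      obtain ⟨i, rfl⟩ := Subgroup.mem_zpowers_iff.mp hq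
      have h : Commute (⟨y, hyC⟩ : C) ⟨a, haC⟩ := Subtype.ext (commute_of_mem_coreAt ha).eq
      exact (h.zpow_left i).eq
    have h1 : (⟨⟨a, haC⟩, haM⟩ : M) ∈ N := ha
    rw [hbot, Subgroup.mem_bot] at h1
    exact congrArg (fun w : M => ((w : C) : X)) h1
  have hzone : ∀ a ∈ coreAt z, a = 1 := by
    intro a ha
    have h := hinv z hzY hz1 a ha
    rw [(commute_of_mem_coreAt ha).eq, mul_inv_cancel_right] at h
    have h2 : a ^ 2 = 1 := by
      rw [pow_two]
      calc a * a = a * a⁻¹ := by rw [← h]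
        _ = 1 := mul_inv_cancel a
    exact Cfsg.Agent.CharPBasic.eq_one_of_pow_eq_one (coprime_of_mem_coreAt ha)
      (pow_orderOf_eq_one a) h2
  have habel : ∀ y ∈ Y, y ≠ 1 → ∀ a ∈ coreAt y, ∀ b ∈ coreAt y, Commute a b :=
    fun y hy hy1 a ha b hb => commute_of_inverts (hinv y hy hy1 a ha) (hinv y hy hy1 b hb)
      (hinv y hy hy1 _ (mul_mem ha hb))
  have bal : ∀ {u v a : X}, u ∈ Y → u ≠ 1 → v ∈ Y → v ≠ 1 → a ∈ coreAt u → Commute v a →
      a ∈ coreAt v := fun huY hu1 hvY hv1 ha hav => balance hE hsq hcomm hzY hinv huY hu1 hvY hv1 ha hav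
  -- decomposition by an involution `w`
  have decomp : ∀ {u w b : X}, u ∈ Y → u ≠ 1 → w ∈ Y →
      (∀ a ∈ coreAt u, Commute w a → Commute a b) →
      (∀ a ∈ coreAt u, Commute (w * z) a → Commute a b) → ∀ a ∈ coreAt u, Commute a b := by
    intro u w b huY hu1 hwY hA hB a ha
    set a' := w * a * w⁻¹
    have ha' : a' ∈ coreAt u := conj_mem_coreAt (hcomm u huY w hwY) ha
    have hac : Commute a a' := habel u huY hu1 a ha a' ha'
    have hw2 : w * a' * w⁻¹ = a := by
      have h2 : w * w = 1 := by rw [← pow_two]; exact hsq w hwY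
      have h3 : w⁻¹ = w := inv_eq_of_mul_eq_one_left h2
      simp only [a', h3]
      calc w * (w * a * w) * w = (w * w) * a * (w * w) := by simp only [mul_assoc]
        _ = a := by rw [h2, one_mul, mul_one]
    have h1 : Commute w (a * a') := by
      show w * (a * a') = a * a' * w
      calc w * (a * a') = (w * a * w⁻¹) * (w * a' * w⁻¹) * w := by group
        _ = a * a' * w := by rw [hw2]; simp only [a'] at hac ⊢; rw [← hac.eq]
    have h2 : Commute (w * z) (a * a'⁻¹) := by
      have h3 := hinv u huY hu1 _ (mul_mem ha (inv_mem ha'))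
      show w * z * (a * a'⁻¹) = a * a'⁻¹ * (w * z)
      calc w * z * (a * a'⁻¹) = w * (z * (a * a'⁻¹) * z⁻¹) * w⁻¹ * (w * z) := by group
        _ = w * (a * a'⁻¹)⁻¹ * w⁻¹ * (w * z) := by rw [h3]
        _ = (w * a' * w⁻¹) * (w * a * w⁻¹)⁻¹ * (w * z) := by group
        _ = a * a'⁻¹ * (w * z) := by rw [hw2]
    have h4 : Commute (a ^ 2) b := by
      have e : a ^ 2 = (a * a') * (a * a'⁻¹) := by
        rw [pow_two]
        calc a * a = a * (a * a') * a'⁻¹ := by group
          _ = a * (a' * a) * a'⁻¹ := by rw [hac.eq]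
          _ = a * a' * (a * a'⁻¹) := by group
      rw [e]
      exact (hA _ (mul_mem ha ha') h1).mul_left (hB _ (mul_mem ha (inv_mem ha')) h2)
    obtain ⟨m, hm⟩ := exists_pow_eq_self_of_coprime (n := 2) (coprime_of_mem_coreAt ha).symm
    rw [← hm]
    exact h4.pow_left m
  have zz : z * z = 1 := by rw [← pow_two]; exact hsq z hzY
  have ne_mul : ∀ {s : X}, s ∈ Y → s ≠ z → s * z ≠ 1 := fun {s} _ hs h => hs (by
    calc s = s * (z * z) := by rw [zz, mul_one]
      _ = (s * z) * z := by rw [mul_assoc]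
      _ = z := by rw [h, one_mul])
  -- general pairs
  have gen : ∀ {u v : X}, u ∈ Y → u ≠ 1 → v ∈ Y → v ≠ 1 → v ≠ u * z →
      ∀ a ∈ coreAt u, ∀ b ∈ coreAt v, Commute a b := by
    intro u v huY hu1 hvY hv1 hne a ha b hb
    by_cases huz : u = z
    · rw [hzone a (huz ▸ ha)]; exact Commute.one_left b
    by_cases hvz : v = z
    · rw [hzone b (hvz ▸ hb)]; exact Commute.one_right a
    refine decomp huY hu1 hvY (fun a ha hva => ?_) (fun a ha hva => ?_) a ha
    · exact habel v hvY hv1 a (bal huY hu1 hvY hv1 ha hva) b hb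
    refine Commute.symm (decomp hvY hv1 huY (fun b hb hub => ?_) (fun b hb hub => ?_) b hb)
    · exact habel u huY hu1 b (bal hvY hv1 huY hu1 hb hub) a ha
    set w := u * v * z
    have hwY : w ∈ Y := Y.mul_mem (Y.mul_mem huY hvY) hzY
    have hw1 : w ≠ 1 := by
      intro h
      apply hne
      have hu2 : u * u = 1 := by rw [← pow_two]; exact hsq u huY
      calc v = (u * u) * v * (z * z) := by rw [hu2, zz, one_mul, mul_one]
        _ = u * (u * v * z) * z := by simp only [mul_assoc]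
        _ = u * z := by rw [show u * v * z = 1 from h, mul_one]
    have hwa : Commute w a := by
      have : w = u * (v * z) := mul_assoc _ _ _
      rw [this]
      exact (commute_of_mem_coreAt ha).mul_left hva
    have hwb : Commute w b := by
      have : w = v * (u * z) := by
        simp only [w]
        rw [(hcomm u huY v hvY).eq, mul_assoc]
      rw [this]
      exact (commute_of_mem_coreAt hb).mul_left hub
    exact habel w hwY hw1 b (bal hvY hv1 hwY hw1 hb hwb) a (bal huY hu1 hwY hw1 ha hwa)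
  -- all cores commute
  have all : ∀ {u v : X}, u ∈ Y → u ≠ 1 → v ∈ Y → v ≠ 1 →
      ∀ a ∈ coreAt u, ∀ b ∈ coreAt v, Commute a b := by
    intro u v huY hu1 hvY hv1
    by_cases hne : v ≠ u * z
    · exact gen huY hu1 hvY hv1 hne
    simp only [ne_eq, not_not] at hne
    obtain ⟨w, hwY, hw⟩ : ∃ w ∈ Y, w ∉ ({1, u, z, u * z} : Set X) := by
      by_contra h
      push_neg at h
      have hsub : (Y : Set X) ⊆ ({1, u, z, u * z} : Set X) := h
      have h5 : Nat.card Y ≤ 4 := by
        rw [← SetLike.coe_sort_coe, Nat.card_coe_set_eq]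
        refine le_trans (Set.ncard_le_ncard hsub (Set.toFinite _)) ?_
        refine le_trans (Set.ncard_insert_le _ _) ?_
        refine Nat.succ_le_succ (le_trans (Set.ncard_insert_le _ _) ?_)
        refine Nat.succ_le_succ (le_trans (Set.ncard_insert_le _ _) ?_)
        rw [Set.ncard_singleton]
      omega
    simp only [Set.mem_insert_iff, Set.mem_singleton_iff, not_or] at hw
    obtain ⟨hw1, hwu, hwz, hwuz⟩ := hw
    have hwz1 : w * z ≠ 1 := ne_mul hwY hwz
    intro a ha b hb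
    refine decomp huY hu1 hwY (fun a ha hwa => ?_) (fun a ha hwa => ?_) a ha
    · refine gen hwY hw1 hvY hv1 ?_ a (bal huY hu1 hwY hw1 ha hwa) b hb
      rw [hne]
      exact fun h => hwu (mul_right_cancel h).symm
    · refine gen (Y.mul_mem hwY hzY) hwz1 hvY hv1 ?_ a
        (bal huY hu1 (Y.mul_mem hwY hzY) hwz1 ha hwa) b hb
      rw [hne]
      intro h
      apply hwuz
      rw [mul_assoc, zz, mul_one] at h
      exact h.symm
  -- the generated group
  set W : Subgroup X := ⨆ y : {y : X // y ∈ Y ∧ y ≠ 1}, coreAt (y : X)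
  refine ⟨?_, ?_⟩
  · show Odd (Nat.card W)
    rw [← Nat.not_even_iff_odd, even_iff_two_dvd]
    intro hdvd
    obtain ⟨x, hx⟩ := exists_prime_orderOf_dvd_card' 2 hdvd
    have hWc : ∀ y : {y : X // y ∈ Y ∧ y ≠ 1}, ∀ a ∈ coreAt (y : X), ∀ c ∈ W, Commute a c := by
      intro y a ha c hc
      have hle : W ≤ Subgroup.centralizer ({a} : Set X) := iSup_le fun y' b hb =>
        mem_centralizer_single.mpr (all y.2.1 y.2.2 y'.2.1 y'.2.2 a ha b hb)
      exact mem_centralizer_single.mp (hle hc)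
    have key : ∀ c ∈ W, (orderOf c).Coprime 2 := by
      intro c hc
      refine (Subgroup.iSup_induction
        (C := fun c => (orderOf c).Coprime 2 ∧ c ∈ W) _ hc ?_ ?_ ?_).1
      · exact fun y a ha => ⟨coprime_of_mem_coreAt ha,
          le_iSup (fun y : {y : X // y ∈ Y ∧ y ≠ 1} => coreAt (y : X)) y ha⟩
      · exact ⟨by simp, one_mem _⟩
      · rintro a b ⟨ha, haW⟩ ⟨hb, hbW⟩
        refine ⟨?_, mul_mem haW hbW⟩
        have hab : Commute a b := by
          have hle : W ≤ Subgroup.centralizer ({b} : Set X) := iSup_le fun y e he =>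
            mem_centralizer_single.mpr (hWc y e he b hbW).symm
          exact (mem_centralizer_single.mp (hle haW)).symm
        exact (ha.mul_left hb).coprime_dvd_left
          (hab.orderOf_mul_dvd_lcm.trans (Nat.lcm_dvd_mul _ _))
    have h1 := key x x.2
    rw [Subgroup.orderOf_coe, hx] at h1
    norm_num at h1
  · intro g hg
    have hmap : ∀ g ∈ Subgroup.normalizer (Y : Set X), ∀ c ∈ W, g * c * g⁻¹ ∈ W := by
      intro g hg c hc
      have hle : W ≤ W.comap (MulAut.conj g).toMonoidHom := iSup_le fun y a ha => by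
        have hy' : g * (y : X) * g⁻¹ ∈ Y := (Subgroup.mem_normalizer_iff.mp hg y).mp y.2.1
        have hy1 : g * (y : X) * g⁻¹ ≠ 1 := fun h => y.2.2 (by simpa using h)
        have hsub : (coreAt (y : X)).map (MulAut.conj g).toMonoidHom ≤ coreAt (g * y * g⁻¹) := by
          refine le_coreAt ?_ ?_ ?_
          · rintro _ ⟨b, hb, rfl⟩
            refine mem_centralizer_single.mpr ?_
            show g * (y : X) * g⁻¹ * _ = _
            have := (commute_of_mem_coreAt hb).eq
            calc g * (y : X) * g⁻¹ * (g * b * g⁻¹) = g * ((y : X) * b) * g⁻¹ := by group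
              _ = g * (b * (y : X)) * g⁻¹ := by rw [this]
              _ = g * b * g⁻¹ * (g * (y : X) * g⁻¹) := by group
          · rintro c' hc' _ ⟨b, hb, rfl⟩
            refine ⟨g⁻¹ * c' * g * b * (g⁻¹ * c' * g)⁻¹, conj_mem_coreAt ?_ hb, ?_⟩
            · show (y : X) * (g⁻¹ * c' * g) = g⁻¹ * c' * g * y
              calc (y : X) * (g⁻¹ * c' * g) = g⁻¹ * ((g * y * g⁻¹) * c') * g := by group
                _ = g⁻¹ * (c' * (g * y * g⁻¹)) * g := by rw [hc'.eq]
                _ = _ := by group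
            · simp [MulAut.conj_apply, mul_assoc]
          · rw [Subgroup.card_map_of_injective (f := (MulAut.conj g).toMonoidHom)
              (MulAut.conj g).injective, coreAt,
              Subgroup.card_map_of_injective (Subgroup.subtype_injective _)]
            exact Cfsg.Agent.HallCore.coprime_card_pPrimeCore 2 _
        exact le_iSup (fun y : {y : X // y ∈ Y ∧ y ≠ 1} => coreAt (y : X)) ⟨_, hy', hy1⟩
          (hsub ⟨a, ha, rfl⟩)
      simpa using hle hc
    show g ∈ Subgroup.normalizer (W : Set X)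
    refine Subgroup.mem_normalizer_iff.mpr fun c => ⟨hmap g hg c, fun h => ?_⟩
    simpa [mul_assoc] using hmap g⁻¹ (inv_mem hg) _ h

end Cfsg.Agent.S2924
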