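import Mathlib
import Cfsg.Statements.S2925
import Cfsg.Agent.Lib.StrongPEmb
import Cfsg.Agent.Lib.ComponentsBasic

set_option autoImplicit false
open Cfsg

namespace Cfsg.Agent.S2925

open scoped Pointwise

/-- A Sylow subgroup meets every subnormal subgroup in a Sylow subgroup. -/
theorem not_dvd_relIndex_subnormal {G : Type*} [Group G] [Finite G] {p : ℕ} [Fact p.Prime]
    (T : Sylow p G) {H : Subgroup G} (hH : H.IsSubnormal) :
    ¬ p ∣ (T : Subgroup G).relIndex H := by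
  induction hH with
  | top => rw [Subgroup.relIndex_top_right]; exact T.not_dvd_index
  | step H K hle _ hn ih =>
    have hp : IsPGroup p ((T : Subgroup G).subgroupOf K) :=
      T.2.comap_of_injective K.subtype K.subtype_injective
    have h := Cfsg.Agent.StrongPEmb.not_dvd_relIndex_sylow (hp.toSylow ih) (H.subgroupOf K)
    change ¬ p ∣ ((T : Subgroup G).subgroupOf K).relIndex (H.subgroupOf K) at h
    rwa [Subgroup.relIndex_subgroupOf hle] at h

/-- Let K be a component of the finite group X and T a Sylow 2-subgroup of X. If some abelian normal subgroup Y of T does not normalize K, then K ⧸ Z(K) has abelian Sylow 2-subgroups. -/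
theorem result {X : Type*} [Group X] [Finite X] (K : Subgroup X) (hK : Cfsg.IsComponent K) (T : Sylow 2 X) (Y : Subgroup X) (hYT : Y ≤ (T : Subgroup X)) (hYn : (Y.subgroupOf (T : Subgroup X)).Normal) (hYab : IsMulCommutative ↥Y) (hnot : ¬ Y ≤ Subgroup.normalizer (K : Set X)) (P : Sylow 2 (↥K ⧸ Subgroup.center ↥K)) : IsMulCommutative ↥(P : Subgroup (↥K ⧸ Subgroup.center ↥K)) := by
  haveI : Fact (Nat.Prime 2) := ⟨Nat.prime_two⟩
  obtain ⟨y, hyY, hy⟩ := Set.not_subset.mp hnot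
  -- some conjugate of K different from K
  obtain ⟨z, hzY, hz⟩ : ∃ z ∈ Y, K.map (MulAut.conj z).toMonoidHom ≠ K := by
    refine ⟨y, hyY, fun h => hy ?_⟩
    rw [SetLike.mem_coe, Subgroup.mem_normalizer_iff]
    intro k
    constructor
    · intro hk; exact h ▸ ⟨k, hk, by simp⟩
    · intro hk
      rw [← h] at hk
      obtain ⟨w, hw, hwk⟩ := hk
      have : w = k := (MulAut.conj y).injective (hwk.trans (by simp))
      exact this ▸ hw
  set K' := K.map (MulAut.conj z).toMonoidHom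
  have hcc : ∀ a ∈ K', ∀ b ∈ K, Commute a b := by
    intro a ha b hb
    have := Cfsg.Agent.ComponentsBasic.components_commute
      (Cfsg.Agent.ComponentsBasic.isComponent_conj hK z) hK hz
    exact commutatorElement_eq_one_iff_commute.mp
      (Subgroup.mem_bot.mp (this ▸ Subgroup.commutator_mem_commutator ha hb))
  have hK' : ∀ k ∈ K, z * k * z⁻¹ ∈ K' := fun k hk => ⟨k, hk, by simp⟩
  -- commutators of T ∩ K are central in K
  have key : ∀ k ∈ (T : Subgroup X), k ∈ K → ∀ l ∈ (T : Subgroup X), l ∈ K →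
      ∀ m ∈ K, Commute (k * l * k⁻¹ * l⁻¹) m := by
    intro k hkT hkK l hlT hlK m hm
    have hY : ∀ a ∈ (T : Subgroup X), a⁻¹ * z * a * z⁻¹ ∈ Y := by
      intro a ha
      refine Y.mul_mem ?_ (Y.inv_mem hzY)
      have h := hYn.conj_mem ⟨z, hYT hzY⟩ (by simpa [Subgroup.mem_subgroupOf] using hzY)
        (⟨a, ha⟩ : (T : Subgroup X))⁻¹
      simpa [Subgroup.mem_subgroupOf, mul_assoc] using h
    have hc := congrArg Subtype.val (hYab.is_comm.comm ⟨_, hY k hkT⟩ ⟨_, hY l hlT⟩)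
    simp only [Subgroup.coe_mul] at hc
    set k' := z * k * z⁻¹
    set l' := z * l * z⁻¹
    have e1 : k⁻¹ * z * k * z⁻¹ = k⁻¹ * k' := by simp [k', mul_assoc]
    have e2 : l⁻¹ * z * l * z⁻¹ = l⁻¹ * l' := by simp [l', mul_assoc]
    rw [e1, e2] at hc
    have c1 : k' * l⁻¹ = l⁻¹ * k' := hcc _ (hK' k hkK) _ (K.inv_mem hlK)
    have c2 : l' * k⁻¹ = k⁻¹ * l' := hcc _ (hK' l hlK) _ (K.inv_mem hkK)
    have hc' : k⁻¹ * l⁻¹ * (k' * l') = l⁻¹ * k⁻¹ * (l' * k') := by
      calc k⁻¹ * l⁻¹ * (k' * l') = k⁻¹ * (l⁻¹ * k') * l' := by group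
        _ = k⁻¹ * k' * (l⁻¹ * l') := by rw [← c1]; group
        _ = l⁻¹ * l' * (k⁻¹ * k') := hc
        _ = l⁻¹ * (l' * k⁻¹) * k' := by group
        _ = l⁻¹ * k⁻¹ * (l' * k') := by rw [c2]; group
    have e : k * l * k⁻¹ * l⁻¹ = (l' * k') * (k' * l')⁻¹ := by
      calc k * l * k⁻¹ * l⁻¹ = (k * l) * (k⁻¹ * l⁻¹ * (k' * l')) * (k' * l')⁻¹ := by group
        _ = (k * l) * (l⁻¹ * k⁻¹ * (l' * k')) * (k' * l')⁻¹ := by rw [hc']
        _ = _ := by group
    rw [e]
    exact hcc _ (K'.mul_mem (K'.mul_mem (hK' l hlK) (hK' k hkK))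
      (K'.inv_mem (K'.mul_mem (hK' k hkK) (hK' l hlK)))) m hm
  have hTK := not_dvd_relIndex_subnormal T hK.1
  set U : Subgroup ↥K := (T : Subgroup X).subgroupOf K
  have hU : IsPGroup 2 U := T.2.comap_of_injective K.subtype K.subtype_injective
  have hidx : ¬ 2 ∣ (U.map (QuotientGroup.mk' (Subgroup.center ↥K))).index := fun h =>
    hTK (h.trans (Subgroup.index_map_dvd _ (QuotientGroup.mk'_surjective _)))
  set V : Sylow 2 (↥K ⧸ Subgroup.center ↥K) := (hU.map _).toSylow hidx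
  obtain ⟨g, hg⟩ := MulAction.exists_smul_eq (↥K ⧸ Subgroup.center ↥K) P V
  refine ⟨⟨fun a b => ?_⟩⟩
  have hmem : ∀ c : ↥(P : Subgroup (↥K ⧸ Subgroup.center ↥K)),
      g * (c : ↥K ⧸ Subgroup.center ↥K) * g⁻¹ ∈ U.map (QuotientGroup.mk' (Subgroup.center ↥K)) := by
    intro c
    have h1 : g * (c : ↥K ⧸ Subgroup.center ↥K) * g⁻¹ ∈
        ((g • P : Sylow 2 _) : Subgroup (↥K ⧸ Subgroup.center ↥K)) := by
      rw [Sylow.coe_subgroup_smul]
      exact ⟨c, c.2, rfl⟩
    rw [hg] at h1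
    exact h1
  obtain ⟨u, hu, hua⟩ := hmem a
  obtain ⟨v, hv, hvb⟩ := hmem b
  have hcomm : QuotientGroup.mk' (Subgroup.center ↥K) (u * v) =
      QuotientGroup.mk' (Subgroup.center ↥K) (v * u) := by
    rw [QuotientGroup.mk'_apply, QuotientGroup.mk'_apply, QuotientGroup.eq]
    rw [Subgroup.mem_center_iff]
    intro m
    apply Subtype.ext
    have h := key (v : X)⁻¹ ((T : Subgroup X).inv_mem hv) (K.inv_mem v.2) (u : X)⁻¹
      ((T : Subgroup X).inv_mem hu) (K.inv_mem u.2) m m.2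
    simpa [mul_assoc] using h.eq.symm
  rw [map_mul, map_mul, hua, hvb] at hcomm
  apply Subtype.ext
  simp only [Subgroup.coe_mul]
  have h2 : g * ((a : ↥K ⧸ Subgroup.center ↥K) * b) * g⁻¹ = g * ((b : ↥K ⧸ Subgroup.center ↥K) * a) * g⁻¹ := by
    calc g * ((a : ↥K ⧸ Subgroup.center ↥K) * b) * g⁻¹
        = (g * a * g⁻¹) * (g * b * g⁻¹) := by group
      _ = (g * b * g⁻¹) * (g * a * g⁻¹) := hcomm
      _ = _ := by group
  exact mul_left_cancel (mul_right_cancel h2)

end Cfsg.Agent.S2925
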