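import Cfsg.Statements.S3996
import Mathlib
import Cfsg.Agent.Lib.FrobeniusCount72
import Cfsg.Agent.Lib.CharInducedBurnside
import Cfsg.Agent.Lib.BurnsideSmall

set_option autoImplicit false
open Cfsg

namespace Cfsg.Agent.S3996


/-- Two primes or fewer give a solvable group. -/
theorem solvable_of_primes {H : Type*} [Group H] [Finite H] {p q : ℕ} (hp : p.Prime) (hq : q.Prime)
    (hall : ∀ r : ℕ, r.Prime → r ∣ Nat.card H → r = p ∨ r = q) : Group.IsSolvable H := by
  have hne : Nat.card H ≠ 0 := Nat.card_pos.ne'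
  rcases eq_or_ne p q with rfl | hpq
  · refine CharInduced.solvable_of_card_two_primes p p (Nat.card H).primeFactorsList.length 0 hp hp ?_
    rw [pow_zero, mul_one]
    exact Nat.eq_prime_pow_of_unique_prime_dvd hne (fun {r} hr hrd => (hall r hr hrd).elim id id)
  · refine CharInduced.solvable_of_card_two_primes p q ((Nat.card H).factorization p)
      ((Nat.card H).factorization q) hp hq ?_
    have hsub : (Nat.card H).factorization.support ⊆ {p, q} := by
      intro r hr
      rw [Nat.support_factorization, Nat.mem_primeFactors] at hr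
      rcases hall r hr.1 hr.2.1 with rfl | rfl <;> simp
    conv_lhs => rw [← Nat.prod_factorization_pow_eq_self hne]
    rw [Finsupp.prod_of_support_subset _ hsub _ (fun i _ => pow_zero i), Finset.prod_pair hpq]

theorem dvd_congr' {r z w : ℤ} (h : r ∣ z) (e : w = z) : r ∣ w := e ▸ h

section
variable {G : Type*} [Group G] [Finite G]

/-- The number of elements of given order. -/
noncomputable def cnt (G : Type*) [Group G] (m : ℕ) : ℕ := Nat.card {g : G // orderOf g = m}

theorem card_pow_eq (m : ℕ) (hm : m ≠ 0) :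
    Nat.card {g : G // g ^ m = 1} = ∑ d ∈ m.divisors, cnt G d := by
  classical
  haveI := Fintype.ofFinite G
  simp only [cnt, Nat.card_eq_fintype_card, Fintype.card_subtype]
  rw [Finset.card_eq_sum_card_fiberwise (t := m.divisors) (f := fun g : G => orderOf g)
    (fun g hg => Nat.mem_divisors.2 ⟨orderOf_dvd_of_pow_eq_one (Finset.mem_filter.1 hg).2, hm⟩)]
  refine Finset.sum_congr rfl fun d hd => ?_
  rw [Finset.filter_filter]
  congr 1
  refine Finset.filter_congr fun g _ => ⟨fun hg => hg.2, fun hg => ⟨?_, hg⟩⟩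
  rw [← orderOf_dvd_iff_pow_eq_one, hg]
  exact (Nat.mem_divisors.1 hd).1

/-- The key congruence. -/
theorem pair_dvd {p : ℕ} (hp : p.Prime) (hpG : p ∣ Nat.card G) :
    ∀ d : ℕ, ¬ p ∣ d → d ∣ Nat.card G → p ∣ cnt G d + cnt G (p * d) := by
  intro d
  induction d using Nat.strong_induction_on with
  | _ d ih =>
    intro hpd hdG
    have hd0 : d ≠ 0 := fun h => hpd (h ▸ dvd_zero p)
    have hcop : Nat.Coprime p d := hp.coprime_iff_not_dvd.2 hpd
    have h1 : p ∣ Nat.card {g : G // g ^ (p * d) = 1} :=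
      (dvd_mul_right p d).trans (FrobeniusCount72.dvd_card_pow_eq_one _ (hcop.mul_dvd_of_dvd_of_dvd hpG hdG))
    have hdiv : (p * d).divisors = d.divisors ∪ d.divisors.image (p * ·) := by
      ext e
      simp only [Nat.mem_divisors, Finset.mem_union, Finset.mem_image]
      constructor
      · rintro ⟨he, -⟩
        by_cases hpe : p ∣ e
        · obtain ⟨e', rfl⟩ := hpe
          exact Or.inr ⟨e', ⟨(Nat.mul_dvd_mul_iff_left hp.pos).1 he, hd0⟩, rfl⟩
        · exact Or.inl ⟨((hp.coprime_iff_not_dvd.2 hpe).symm).dvd_of_dvd_mul_left he, hd0⟩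
      · rintro (⟨he, -⟩ | ⟨e', ⟨he, -⟩, rfl⟩)
        · exact ⟨he.mul_left p, mul_ne_zero hp.ne_zero hd0⟩
        · exact ⟨mul_dvd_mul_left p he, mul_ne_zero hp.ne_zero hd0⟩
    have hdisj : Disjoint d.divisors (d.divisors.image (p * ·)) := by
      rw [Finset.disjoint_left]
      intro e he he'
      obtain ⟨e', -, rfl⟩ := Finset.mem_image.1 he'
      exact hpd ((dvd_mul_right p e').trans (Nat.mem_divisors.1 he).1)
    rw [card_pow_eq _ (mul_ne_zero hp.ne_zero hd0), hdiv, Finset.sum_union hdisj,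
      Finset.sum_image (fun a _ b _ hab => Nat.eq_of_mul_eq_mul_left hp.pos hab),
      ← Finset.sum_add_distrib, ← Finset.add_sum_erase _ _ (Nat.mem_divisors_self d hd0)] at h1
    refine (Nat.dvd_add_left ?_).1 h1
    refine Finset.dvd_sum fun e he => ?_
    obtain ⟨hne, hmem⟩ := Finset.mem_erase.1 he
    have hed := (Nat.mem_divisors.1 hmem).1
    exact ih e (lt_of_le_of_ne (Nat.le_of_dvd (Nat.pos_of_ne_zero hd0) hed) hne)
      (fun h => hpd (h.trans hed)) (hed.trans hdG)

variable {a b : ℕ}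

/-- Counting elements of orders `q`, `p q`, `4`, ... rules out the configuration. -/
theorem four_case (hvals : ∀ m, 2 < m → cnt G m = 0 ∨ cnt G m = a ∨ cnt G m = b) (hone : cnt G 1 = 1)
    (h2 : cnt G 2 = 1) (h4 : 4 ∣ Nat.card G) (h4pos : cnt G 4 ≠ 0) (hab : a ≠ b) :
    ∀ p q : ℕ, p.Prime → q.Prime → p ≠ 2 → q ≠ 2 → p ≠ q → p ∣ Nat.card G → q ∣ Nat.card G →
      cnt G p = a → cnt G q = b → cnt G (p * q) ≠ b → False := by
  intro p q hp hq hp2 hq2 hpq hpG hqG hcp hcq hxb
  have h2G : 2 ∣ Nat.card G := (by norm_num : (2 : ℕ) ∣ 4).trans h4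
  have hp3 : 3 ≤ p := by have := hp.two_le; omega
  have hq3 : 3 ≤ q := by have := hq.two_le; omega
  have hnd : ∀ {r : ℕ}, r.Prime → r ≠ 2 → ¬ r ∣ 4 := fun {r} hr hr2 h => by
    have := (Nat.prime_dvd_prime_iff_eq hr Nat.prime_two).1 (hr.dvd_of_dvd_pow (show r ∣ 2 ^ 2 from h))
    omega
  have c1 := pair_dvd hp hpG 1 hp.not_dvd_one (one_dvd _)
  rw [mul_one, hone, hcp] at c1
  have c2 := pair_dvd hq hqG 1 hq.not_dvd_one (one_dvd _)
  rw [mul_one, hone, hcq] at c2
  have cp4 := pair_dvd hp hpG 4 (hnd hp hp2) h4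
  have cq4 := pair_dvd hq hqG 4 (hnd hq hq2) h4
  have cpq := pair_dvd hp hpG q (fun h => hpq ((Nat.prime_dvd_prime_iff_eq hp hq).1 h)) hqG
  have cqp := pair_dvd hq hqG p (fun h => hpq ((Nat.prime_dvd_prime_iff_eq hq hp).1 h).symm) hpG
  rw [hcq] at cpq
  rw [hcp, mul_comm] at cqp
  have h4q : cnt G (q * 4) = 0 ∨ cnt G (q * 4) = a ∨ cnt G (q * 4) = b := hvals _ (by omega)
  have h4p : cnt G (p * 4) = 0 ∨ cnt G (p * 4) = a ∨ cnt G (p * 4) = b := hvals _ (by omega)
  have hpd : ∀ k, p ∣ k ↔ (p : ℤ) ∣ (k : ℤ) := fun k => Int.natCast_dvd_natCast.symm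
  have hqd : ∀ k, q ∣ k ↔ (q : ℤ) ∣ (k : ℤ) := fun k => Int.natCast_dvd_natCast.symm
  have hx := (hvals (p * q) (by nlinarith)).imp_right (fun h => h.resolve_right hxb)
  have hp1 : ∀ z : ℤ, (p : ℤ) ∣ z → z ≠ 1 ∧ z ≠ -1 ∧ z ≠ 2 ∧ z ≠ -2 := fun z hz => by
    refine ⟨?_, ?_, ?_, ?_⟩ <;> rintro rfl <;>
      [have := Int.le_of_dvd one_pos hz; have := Int.le_of_dvd one_pos (dvd_neg.1 hz);
       have := Int.le_of_dvd two_pos hz; have := Int.le_of_dvd two_pos (dvd_neg.1 hz)] <;> omega
  have hq1 : ∀ z : ℤ, (q : ℤ) ∣ z → z ≠ 1 ∧ z ≠ -1 ∧ z ≠ 2 ∧ z ≠ -2 := fun z hz => by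
    refine ⟨?_, ?_, ?_, ?_⟩ <;> rintro rfl <;>
      [have := Int.le_of_dvd one_pos hz; have := Int.le_of_dvd one_pos (dvd_neg.1 hz);
       have := Int.le_of_dvd two_pos hz; have := Int.le_of_dvd two_pos (dvd_neg.1 hz)] <;> omega
  rw [hpd] at c1 cp4 cpq
  rw [hqd] at c2 cq4 cqp
  push_cast at c1 c2 cp4 cq4 cpq cqp
  rcases hx with hx | hx <;> rw [hx] at cpq cqp <;> push_cast at cpq cqp
  · rw [add_zero] at cpq cqp
    rcases (hvals 4 (by norm_num)).resolve_left h4pos with h | h <;> rw [h] at cp4 cq4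
    · rcases h4p with h' | h' | h' <;> rw [h'] at cp4 <;> push_cast at cp4
      · exact (hp1 1 (by have := dvd_sub c1 cp4; ring_nf at this; simpa using this)).1 rfl
      · exact (hp1 2 (by have := dvd_sub (c1.mul_left 2) cp4; ring_nf at this; simpa using this)).2.2.1 rfl
      · exact (hp1 1 (by have := dvd_sub c1 (dvd_sub cp4 cpq); ring_nf at this; simpa using this)).1 rfl
    · rcases h4q with h' | h' | h' <;> rw [h'] at cq4 <;> push_cast at cq4
      · exact (hq1 1 (by have := dvd_sub c2 cq4; ring_nf at this; simpa using this)).1 rfl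
      · exact (hq1 1 (by have := dvd_sub c2 (dvd_sub cq4 cqp); ring_nf at this; simpa using this)).1 rfl
      · exact (hq1 2 (by have := dvd_sub (c2.mul_left 2) cq4; ring_nf at this; simpa using this)).2.2.1 rfl
  · have hqa : (q : ℤ) ∣ (a : ℤ) := by
      have h := (Nat.Coprime.dvd_of_dvd_mul_left ((Nat.coprime_primes hq Nat.prime_two).2 hq2)
        (m := 2) (n := a) ((hqd _).2 (by push_cast; rwa [← two_mul] at cqp)))
      exact (hqd _).1 h
    have h4a : (4 : ℕ) ∣ a := by
      have h := FrobeniusCount72.totient_dvd_card_orderOf (G := G) (p * q)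
      rw [Nat.totient_mul ((Nat.coprime_primes hp hq).2 hpq), Nat.totient_prime hp, Nat.totient_prime hq] at h
      change _ ∣ cnt G (p * q) at h
      rw [hx] at h
      refine dvd_trans ?_ h
      exact mul_dvd_mul (even_iff_two_dvd.1 (hp.even_sub_one hp2)) (even_iff_two_dvd.1 (hq.even_sub_one hq2))
    have hf4 : cnt G 4 = b := by
      refine ((hvals 4 (by norm_num)).resolve_left h4pos).resolve_left fun h => ?_
      have hF := FrobeniusCount72.dvd_card_pow_eq_one (G := G) 4 h4
      rw [card_pow_eq 4 (by norm_num), show (4 : ℕ).divisors = {1, 2, 4} from by decide,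
        Finset.sum_insert (by simp), Finset.sum_pair (by norm_num), hone, h2, h] at hF
      omega
    rw [hf4] at cq4
    rcases h4q with h' | h' | h' <;> rw [h'] at cq4 <;> push_cast at cq4
    · exact (hq1 1 (by have := dvd_sub c2 cq4; ring_nf at this; simpa using this)).1 rfl
    · exact (hq1 1 (by have := dvd_sub c2 (dvd_sub cq4 hqa); ring_nf at this; simpa using this)).1 rfl
    · exact (hq1 2 (by have := dvd_sub (c2.mul_left 2) cq4; ring_nf at this; simpa using this)).2.2.1 rfl
end

/-- A finite group in which the numbers of elements of each order that occurs (the numbers #{g : o(g) = m}, m ranging over the element orders) take exactly three different values is solvable. -/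
theorem result {G : Type*} [Group G] [Finite G] (h : (((fun m : ℕ => Nat.card {g : G // orderOf g = m}) '' Set.range (orderOf : G → ℕ))).ncard = 3) : Group.IsSolvable G := by
  classical
  by_contra hns
  set f := fun m : ℕ => Nat.card {g : G // orderOf g = m} with hf
  have hone : cnt G 1 = 1 := by
    refine Nat.card_eq_one_iff_unique.2 ⟨⟨fun x y => Subtype.ext ?_⟩, ⟨⟨1, orderOf_one⟩⟩⟩
    rw [orderOf_eq_one_iff.1 x.2, orderOf_eq_one_iff.1 y.2]
  -- the three values
  obtain ⟨a₀, b₀, hab₀, hset⟩ : ∃ a b, a ≠ b ∧ (f '' Set.range (orderOf : G → ℕ)) \ {1} = {a, b} := by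
    refine Set.ncard_eq_two.1 ?_
    rw [Set.ncard_diff_singleton_of_mem (show 1 ∈ f '' Set.range (orderOf : G → ℕ) from ⟨1, ⟨1, orderOf_one⟩, hone⟩), h]
  have hv : ∀ m, cnt G m ≠ 0 → cnt G m = 1 ∨ cnt G m = a₀ ∨ cnt G m = b₀ := by
    intro m hm
    haveI : Nonempty {g : G // orderOf g = m} := (Nat.card_ne_zero.1 hm).1
    obtain ⟨⟨g, hg⟩⟩ := (inferInstance : Nonempty {g : G // orderOf g = m})
    by_cases h1 : cnt G m = 1
    · exact Or.inl h1
    · have h3 : cnt G m ∈ (f '' Set.range (orderOf : G → ℕ)) \ {1} := ⟨⟨m, ⟨g, hg⟩, rfl⟩, h1⟩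
      rw [hset] at h3
      exact Or.inr h3
  have htot : ∀ m, Nat.totient m ∣ cnt G m := fun m => FrobeniusCount72.totient_dvd_card_orderOf m
  have heven : ∀ m, 2 < m → 2 ∣ cnt G m := fun m hm =>
    (even_iff_two_dvd.1 (Nat.totient_even hm)).trans (htot m)
  have hvals : ∀ m, 2 < m → cnt G m = 0 ∨ cnt G m = a₀ ∨ cnt G m = b₀ := fun m hm => by
    by_cases h0 : cnt G m = 0
    · exact Or.inl h0
    refine Or.inr ((hv m h0).resolve_left fun h1 => ?_)
    have := heven m hm
    omega
  have hpos : ∀ p : ℕ, p.Prime → p ∣ Nat.card G → cnt G p ≠ 0 := fun p hp hd => by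
    haveI := Fact.mk hp
    obtain ⟨g, hg⟩ := exists_prime_orderOf_dvd_card' p hd
    haveI : Nonempty {g : G // orderOf g = p} := ⟨⟨g, hg⟩⟩
    exact Nat.card_pos.ne'
  -- two odd primes
  obtain ⟨p, q, hp, hq, hp2, hq2, hpq, hpG, hqG⟩ : ∃ p q : ℕ, p.Prime ∧ q.Prime ∧ p ≠ 2 ∧ q ≠ 2 ∧ p ≠ q ∧
      p ∣ Nat.card G ∧ q ∣ Nat.card G := by
    by_contra hc
    push Not at hc
    by_cases hex : ∃ p : ℕ, p.Prime ∧ p ≠ 2 ∧ p ∣ Nat.card G
    · obtain ⟨p, hp, hp2, hpG⟩ := hex
      refine hns (solvable_of_primes Nat.prime_two hp fun r hr hrG => ?_)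
      by_contra hr'
      push Not at hr'
      exact hc p r hp hr hp2 hr'.1 (Ne.symm hr'.2) hpG hrG
    · push Not at hex
      refine hns (solvable_of_primes Nat.prime_two Nat.prime_two fun r hr hrG => Or.inl ?_)
      by_contra hr2
      exact hex r hr hr2 hrG
  have hcong : ∀ r : ℕ, r.Prime → r ∣ Nat.card G → (r : ℤ) ∣ 1 + (cnt G r : ℤ) := fun r hr hrG => by
    have h1 := pair_dvd hr hrG 1 hr.not_dvd_one (one_dvd _)
    rw [mul_one, hone] at h1
    exact_mod_cast h1
  have hsmall : ∀ r : ℕ, r.Prime → r ≠ 2 → ∀ z : ℤ, (r : ℤ) ∣ z → z ≠ 1 ∧ z ≠ 2 ∧ z ≠ -1 ∧ z ≠ -2 := by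
    intro r hr hr2 z hz
    have hr3 : 3 ≤ r := by have := hr.two_le; omega
    refine ⟨?_, ?_, ?_, ?_⟩ <;> rintro rfl <;>
      [have := Int.le_of_dvd one_pos hz; have := Int.le_of_dvd two_pos hz;
       have := Int.le_of_dvd one_pos (dvd_neg.1 hz); have := Int.le_of_dvd two_pos (dvd_neg.1 hz)] <;> omega
  -- two odd primes with the same value force the other value for their product
  have hpair : ∀ p q : ℕ, p.Prime → q.Prime → p ≠ 2 → q ≠ 2 → p ≠ q → p ∣ Nat.card G → q ∣ Nat.card G →
      cnt G p = cnt G q → cnt G (p * q) ≠ 0 ∧ cnt G (p * q) ≠ cnt G p ∧ (p : ℤ) ∣ (cnt G (p * q) : ℤ) - 1 ∧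
        4 ∣ cnt G (p * q) := by
    intro p q hp hq hp2 hq2 hpq hpG hqG heq
    have h1 := pair_dvd hp hpG q (fun h => hpq ((Nat.prime_dvd_prime_iff_eq hp hq).1 h)) hqG
    rw [← heq] at h1
    have h2 : (p : ℤ) ∣ (cnt G p : ℤ) + (cnt G (p * q) : ℤ) := by exact_mod_cast h1
    have h3 := hcong p hp hpG
    have hd : (p : ℤ) ∣ (cnt G (p * q) : ℤ) - 1 := by
      have := dvd_sub h2 h3
      refine dvd_congr' this ?_
      ring
    refine ⟨fun h0 => ?_, fun he => ?_, hd, ?_⟩
    · rw [h0] at hd
      exact (hsmall p hp hp2 _ hd).2.2.1 (by norm_num)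
    · rw [he] at hd
      exact (hsmall p hp hp2 _ (dvd_sub h3 hd)).2.1 (by ring)
    · refine dvd_trans ?_ (htot _)
      rw [Nat.totient_mul ((Nat.coprime_primes hp hq).2 hpq), Nat.totient_prime hp, Nat.totient_prime hq]
      exact mul_dvd_mul (even_iff_two_dvd.1 (hp.even_sub_one hp2)) (even_iff_two_dvd.1 (hq.even_sub_one hq2))
  -- at most one involution
  have h2 : 2 ∣ Nat.card G → cnt G 2 = 1 := by
    intro h2G
    by_contra h2ne
    have ho := hcong 2 Nat.prime_two h2G
    have ho' : ¬ 2 ∣ cnt G 2 := by omega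
    have hp3 : 3 ≤ p := by have := hp.two_le; omega
    have hq3 : 3 ≤ q := by have := hq.two_le; omega
    have hsame : cnt G p = cnt G q := by
      rcases (hv 2 (hpos 2 Nat.prime_two h2G)).resolve_left h2ne with e | e <;>
      rcases (hvals p (by omega)).resolve_left (hpos p hp hpG) with e1 | e1 <;>
      rcases (hvals q (by omega)).resolve_left (hpos q hq hqG) with e2 | e2 <;>
      (have := heven p (by omega); have := heven q (by omega); omega)
    obtain ⟨h0, hne, -, -⟩ := hpair p q hp hq hp2 hq2 hpq hpG hqG hsame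
    have := heven (p * q) (by nlinarith)
    have := heven p (by omega)
    rcases (hv 2 (hpos 2 Nat.prime_two h2G)).resolve_left h2ne with e | e <;>
    rcases (hvals (p * q) (by nlinarith)).resolve_left h0 with e1 | e1 <;>
    rcases (hvals p (by omega)).resolve_left (hpos p hp hpG) with e2 | e2 <;> omega
  -- a third value relation
  have hall : ∀ p q r : ℕ, p.Prime → q.Prime → r.Prime → p ≠ 2 → q ≠ 2 → r ≠ 2 → p ≠ q → p ≠ r → q ≠ r →
      p ∣ Nat.card G → q ∣ Nat.card G → r ∣ Nat.card G → cnt G p = cnt G q → cnt G r = cnt G p := by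
    intro p q r hp hq hr hp2 hq2 hr2 hpq hpr hqr hpG hqG hrG heq
    by_contra hrp
    obtain ⟨h0, hne, hd, -⟩ := hpair p q hp hq hp2 hq2 hpq hpG hqG heq
    have hp3 : 3 ≤ p := by have := hp.two_le; omega
    have hq3 : 3 ≤ q := by have := hq.two_le; omega
    have hr3 : 3 ≤ r := by have := hr.two_le; omega
    -- the two values
    obtain ⟨A, B, hA, hB, hv'⟩ : ∃ A B, cnt G p = A ∧ cnt G r = B ∧
        ∀ m, 2 < m → cnt G m = 0 ∨ cnt G m = A ∨ cnt G m = B := by
      refine ⟨_, _, rfl, rfl, fun m hm => ?_⟩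
      have := hvals m hm
      have := (hvals p (by omega)).resolve_left (hpos p hp hpG)
      have := (hvals r (by omega)).resolve_left (hpos r hr hrG)
      omega
    have hpqB : cnt G (p * q) = B := ((hv' _ (by nlinarith)).resolve_left h0).resolve_left (hA ▸ hne)
    rw [hpqB] at hd
    have c1 := hcong p hp hpG
    have c3 := hcong r hr hrG
    rw [hA] at c1
    rw [hB] at c3
    have key : ∀ s : ℕ, s.Prime → s ≠ 2 → s ≠ r → s ∣ Nat.card G → cnt G s = A → (s : ℤ) ∣ (B : ℤ) - 1 →
        cnt G (s * r) = A ∧ (r : ℤ) ∣ (A : ℤ) + A := by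
      intro s hs hs2 hsr hsG hsA hsB
      have c := hcong s hs hsG
      rw [hsA] at c
      have cs : (s : ℤ) ∣ (cnt G r : ℤ) + (cnt G (s * r) : ℤ) := by
        exact_mod_cast pair_dvd hs hsG r (fun h => hsr ((Nat.prime_dvd_prime_iff_eq hs hr).1 h)) hrG
      have cr : (r : ℤ) ∣ (cnt G s : ℤ) + (cnt G (r * s) : ℤ) := by
        exact_mod_cast pair_dvd hr hrG s (fun h => hsr ((Nat.prime_dvd_prime_iff_eq hr hs).1 h).symm) hsG
      rw [hB] at cs
      rw [hsA, mul_comm r s] at cr
      have hs3 : 3 ≤ s := by have := hs.two_le; omega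
      rcases hv' (s * r) (by nlinarith) with h | h | h <;> rw [h] at cs cr
      · exfalso
        push_cast at cs
        refine (hsmall s hs hs2 1 ?_).1 rfl
        have := dvd_sub cs hsB
        refine dvd_congr' this ?_
        ring
      · exact ⟨h, cr⟩
      · exfalso
        refine (hsmall s hs hs2 2 ?_).2.1 rfl
        have := dvd_sub cs (hsB.mul_left 2)
        refine dvd_congr' this ?_
        ring
    have hA' : cnt G q = A := heq ▸ hA
    obtain ⟨hpr', hrA⟩ := key p hp hp2 hpr hpG hA hd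
    have hdq : (q : ℤ) ∣ (B : ℤ) - 1 := by
      have := (hpair q p hq hp hq2 hp2 hpq.symm hqG hpG heq.symm).2.2.1
      rwa [mul_comm q p, hpqB] at this
    obtain ⟨hqr', -⟩ := key q hq hq2 hqr hqG hA' hdq
    -- the product of the three primes
    have hnd : ∀ {x y z : ℕ}, x.Prime → y.Prime → z.Prime → x ≠ y → x ≠ z → ¬ x ∣ y * z := by
      intro x y z hx hy hz h1 h2 hdd
      rcases hx.dvd_mul.1 hdd with h | h
      · exact h1 ((Nat.prime_dvd_prime_iff_eq hx hy).1 h)
      · exact h2 ((Nat.prime_dvd_prime_iff_eq hx hz).1 h)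
    have cp : (p : ℤ) ∣ (cnt G (q * r) : ℤ) + (cnt G (p * (q * r)) : ℤ) := by
      exact_mod_cast pair_dvd hp hpG (q * r) (hnd hp hq hr hpq hpr)
        (((Nat.coprime_primes hq hr).2 hqr).mul_dvd_of_dvd_of_dvd hqG hrG)
    have cr : (r : ℤ) ∣ (cnt G (p * q) : ℤ) + (cnt G (r * (p * q)) : ℤ) := by
      exact_mod_cast pair_dvd hr hrG (p * q) (hnd hr hp hq hpr.symm hqr.symm)
        (((Nat.coprime_primes hp hq).2 hpq).mul_dvd_of_dvd_of_dvd hpG hqG)
    rw [hqr'] at cp
    rw [hpqB, show r * (p * q) = p * (q * r) by ring] at cr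
    rcases hv' (p * (q * r)) (by nlinarith [Nat.mul_le_mul hq3 hr3]) with h | h | h <;> rw [h] at cp cr
    · refine (hsmall p hp hp2 1 ?_).1 rfl
      have := dvd_sub c1 cp
      refine dvd_congr' this ?_
      push_cast
      ring
    · refine (hsmall p hp hp2 2 ?_).2.1 rfl
      have := dvd_sub (c1.mul_left 2) cp
      refine dvd_congr' this ?_
      ring
    · refine (hsmall r hr hr2 2 ?_).2.1 rfl
      have := dvd_sub (c3.mul_left 2) cr
      refine dvd_congr' this ?_
      ring
  have hp3 : 3 ≤ p := by have := hp.two_le; omega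
  have hq3 : 3 ≤ q := by have := hq.two_le; omega
  have hfour : 4 ∣ Nat.card G → cnt G 4 ≠ 0 := by
    intro h4
    haveI : Fact (Nat.Prime 2) := ⟨Nat.prime_two⟩
    obtain ⟨K, hK⟩ := Sylow.exists_subgroup_card_pow_prime 2 (show 2 ^ 2 ∣ Nat.card G from h4)
    intro h0
    have hz := Nat.card_eq_one_iff_unique.1 (h2 ((by norm_num : (2 : ℕ) ∣ 4).trans h4))
    obtain ⟨⟨z, hz'⟩⟩ := hz.2
    have hsub : ∀ x : K, (x : G) = 1 ∨ (x : G) = z := by
      intro x
      obtain ⟨i, hi, hi'⟩ := (Nat.dvd_prime_pow Nat.prime_two).1 (hK ▸ orderOf_dvd_natCard x)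
      rw [← Subgroup.orderOf_coe] at hi'
      interval_cases i
      · exact Or.inl (orderOf_eq_one_iff.1 (by simpa using hi'))
      · exact Or.inr (congrArg Subtype.val (hz.1.elim ⟨(x : G), by simpa using hi'⟩ ⟨z, hz'⟩))
      · exfalso
        haveI : Nonempty {g : G // orderOf g = 4} := ⟨⟨(x : G), by rw [hi']; norm_num⟩⟩
        exact (Nat.card_pos (α := {g : G // orderOf g = 4})).ne' h0
    have h' := Nat.card_le_card_of_injective
      (fun x : K => (⟨(x : G), by
        rcases hsub x with e | e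
        · rw [e]; exact one_mem _
        · rw [e]; exact Subgroup.mem_zpowers z⟩ : Subgroup.zpowers z))
      (fun x y hxy => Subtype.ext (congrArg (fun w : Subgroup.zpowers z => (w : G)) hxy))
    rw [Nat.card_zpowers, hz', hK] at h'
    omega
  by_cases hsame : ∀ r s : ℕ, r.Prime → s.Prime → r ≠ 2 → s ≠ 2 → r ∣ Nat.card G → s ∣ Nat.card G →
      cnt G r = cnt G s
  · -- all odd primes have one value
    set A := cnt G p with hA
    obtain ⟨h0, hne, -, h4B⟩ := hpair p q hp hq hp2 hq2 hpq hpG hqG (hsame p q hp hq hp2 hq2 hpG hqG)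
    set B := cnt G (p * q) with hB
    have hv' : ∀ m, 2 < m → cnt G m = 0 ∨ cnt G m = A ∨ cnt G m = B := fun m hm => by
      have := hvals m hm
      have := (hvals p (by omega)).resolve_left (hpos p hp hpG)
      have := (hvals (p * q) (by nlinarith)).resolve_left h0
      omega
    by_cases h4 : 4 ∣ Nat.card G
    · have h4A : cnt G 4 = A := by
        refine ((hv' 4 (by norm_num)).resolve_left (hfour h4)).resolve_right fun he => ?_
        have hF := FrobeniusCount72.dvd_card_pow_eq_one (G := G) 4 h4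
        rw [card_pow_eq 4 (by norm_num), show (4 : ℕ).divisors = {1, 2, 4} from by decide,
          Finset.sum_insert (by simp), Finset.sum_pair (by norm_num), hone,
          h2 ((by norm_num : (2 : ℕ) ∣ 4).trans h4), he] at hF
        omega
      have h4odd : ∀ r : ℕ, r.Prime → r ≠ 2 → ¬ r ∣ 4 := fun r hr hr2 h => by
        have := (Nat.prime_dvd_prime_iff_eq hr Nat.prime_two).1 (hr.dvd_of_dvd_pow (show r ∣ 2 ^ 2 from h))
        omega
      have hcop4q : Nat.Coprime 4 q := (hq.coprime_iff_not_dvd.2 (h4odd q hq hq2)).symm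
      have hqA : cnt G q = A := hsame q p hq hp hq2 hp2 hqG hpG
      have hBq : (q : ℤ) ∣ (B : ℤ) - 1 := by
        have := (hpair q p hq hp hq2 hp2 hpq.symm hqG hpG hqA).2.2.1
        rwa [mul_comm q p, ← hB] at this
      have hBp := (hpair p q hp hq hp2 hq2 hpq hpG hqG hqA.symm).2.2.1
      rw [← hB] at hBp
      have c1 := hcong p hp hpG
      have c2 := hcong q hq hqG
      rw [← hA] at c1
      rw [hqA] at c2
      have cq : (q : ℤ) ∣ (cnt G 4 : ℤ) + (cnt G (q * 4) : ℤ) := by
        exact_mod_cast pair_dvd hq hqG 4 (h4odd q hq hq2) h4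
      rw [h4A] at cq
      have hq4 : cnt G (q * 4) = B := by
        rcases hv' (q * 4) (by omega) with h | h | h <;> rw [h] at cq
        · exfalso
          refine (hsmall q hq hq2 1 ?_).1 rfl
          have := dvd_sub c2 cq
          refine dvd_congr' this ?_
          push_cast
          ring
        · exfalso
          refine (hsmall q hq hq2 2 ?_).2.1 rfl
          have := dvd_sub (c2.mul_left 2) cq
          refine dvd_congr' this ?_
          ring
        · exact h
      have hpn : ¬ p ∣ q * 4 := fun h => by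
        rcases hp.dvd_mul.1 h with h | h
        · exact hpq ((Nat.prime_dvd_prime_iff_eq hp hq).1 h)
        · exact h4odd p hp hp2 h
      have cp : (p : ℤ) ∣ (cnt G (q * 4) : ℤ) + (cnt G (p * (q * 4)) : ℤ) := by
        exact_mod_cast pair_dvd hp hpG (q * 4) hpn (hcop4q.symm.mul_dvd_of_dvd_of_dvd hqG h4)
      rw [hq4] at cp
      rcases hv' (p * (q * 4)) (by nlinarith) with h | h | h <;> rw [h] at cp
      · refine (hsmall p hp hp2 1 ?_).1 rfl
        have := dvd_sub cp hBp
        refine dvd_congr' this ?_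
        push_cast
        ring
      · have h5 : 4 ∣ A := by
          rw [← h]
          refine dvd_trans ?_ (htot _)
          rw [Nat.totient_mul (hp.coprime_iff_not_dvd.2 hpn), Nat.totient_prime hp]
          exact mul_dvd_mul (even_iff_two_dvd.1 (hp.even_sub_one hp2))
            (even_iff_two_dvd.1 (Nat.totient_even (by omega)))
        have hF := FrobeniusCount72.dvd_card_pow_eq_one (G := G) 4 h4
        rw [card_pow_eq 4 (by norm_num), show (4 : ℕ).divisors = {1, 2, 4} from by decide,
          Finset.sum_insert (by simp), Finset.sum_pair (by norm_num), hone,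
          h2 ((by norm_num : (2 : ℕ) ∣ 4).trans h4), h4A] at hF
        omega
      · refine (hsmall p hp hp2 2 ?_).2.1 rfl
        have := dvd_sub cp (hBp.mul_left 2)
        refine dvd_congr' this ?_
        ring
    -- `4` does not divide the order: count
    have hexp : ∀ r : ℕ, r.Prime → r ≠ 2 → r ∣ Nat.card G → ∀ k, cnt G (r ^ (k + 2)) = 0 := by
      intro r hr hr2 hrG k
      by_contra h0r
      have hd : r ∣ cnt G (r ^ (k + 2)) := by
        refine dvd_trans ?_ (htot _)
        rw [Nat.totient_prime_pow hr (by omega)]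
        exact Dvd.dvd.mul_right (dvd_pow_self r (by omega)) _
      have hr3 : 3 ≤ r := by have := hr.two_le; omega
      have c := hcong r hr hrG
      rw [hsame r p hr hp hr2 hp2 hrG hpG, ← hA] at c
      have hB1 : (r : ℤ) ∣ (B : ℤ) - 1 := by
        obtain ⟨s, hs, hs2, hsr, hsG⟩ : ∃ s : ℕ, s.Prime ∧ s ≠ 2 ∧ r ≠ s ∧ s ∣ Nat.card G := by
          by_cases h' : r = p
          · exact ⟨q, hq, hq2, h' ▸ hpq, hqG⟩
          · exact ⟨p, hp, hp2, h', hpG⟩
        obtain ⟨h01, hne1, hd1, -⟩ := hpair r s hr hs hr2 hs2 hsr hrG hsG (hsame r s hr hs hr2 hs2 hrG hsG)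
        have hrA : cnt G r = A := hsame r p hr hp hr2 hp2 hrG hpG
        have hs3 : 3 ≤ s := by have := hs.two_le; omega
        rwa [((hv' (r * s) (by nlinarith)).resolve_left h01).resolve_left (hrA ▸ hne1)] at hd1
      have hd' : (r : ℤ) ∣ (cnt G (r ^ (k + 2)) : ℤ) := by exact_mod_cast hd
      rcases (hv' (r ^ (k + 2)) (lt_of_lt_of_le (by omega) (Nat.le_self_pow (by omega) r))).resolve_left h0r with h | h <;>
        rw [h] at hd'
      · exact (hsmall r hr hr2 1 (by have := dvd_sub c hd'; refine dvd_congr' this ?_; ring)).1 rfl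
      · exact (hsmall r hr hr2 (-1) (by have := dvd_sub hB1 hd'; refine dvd_congr' this ?_; ring)).2.2.1 rfl
    -- the odd part of the order divides `1 + A`
    have hM : ∀ r : ℕ, r.Prime → r ≠ 2 → r ∣ Nat.card G → ordProj[r] (Nat.card G) ∣ 1 + A := by
      intro r hr hr2 hrG
      have h1 := FrobeniusCount72.dvd_card_pow_eq_one (G := G) _ (Nat.ordProj_dvd (Nat.card G) r)
      rw [card_pow_eq _ (pow_ne_zero _ hr.ne_zero), Nat.sum_divisors_prime_pow hr] at h1
      obtain ⟨e, he⟩ : ∃ e, (Nat.card G).factorization r = e + 1 :=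
        Nat.exists_eq_add_of_le' (hr.factorization_pos_of_dvd Nat.card_pos.ne' hrG)
      rw [he] at h1 ⊢
      rw [Finset.sum_range_succ', Finset.sum_range_succ', Finset.sum_eq_zero (fun k _ => hexp r hr hr2 hrG k),
        pow_zero, zero_add, hone, pow_one, hsame r p hr hp hr2 hp2 hrG hpG, ← hA] at h1
      rwa [Nat.add_comm A 1] at h1
    have hGdvd : Nat.card G ∣ 2 * (1 + A) := by
      rw [Nat.dvd_iff_prime_pow_dvd_dvd]
      intro r k hr hk
      rcases Nat.eq_zero_or_pos k with rfl | hk0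
      · simp
      rcases eq_or_ne r 2 with rfl | hr2
      · have hk1 : k ≤ 1 := by
          by_contra hc
          exact h4 ((pow_dvd_pow 2 (show 2 ≤ k by omega)).trans hk)
        exact dvd_mul_of_dvd_left ((pow_dvd_pow 2 hk1).trans (dvd_of_eq (pow_one 2))) _
      · exact dvd_mul_of_dvd_right (((pow_dvd_pow r
          ((hr.pow_dvd_iff_le_factorization Nat.card_pos.ne').1 hk))).trans
          (hM r hr hr2 ((dvd_pow_self r hk0.ne').trans hk))) 2
    -- too many elements
    haveI := Fintype.ofFinite G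
    have hcount : ∀ D : Finset ℕ, ∑ d ∈ D, cnt G d ≤ Nat.card G := by
      intro D
      simp only [cnt, Nat.card_eq_fintype_card, Fintype.card_subtype]
      rw [← Finset.card_biUnion (fun i _ j _ hij => Finset.disjoint_left.2 fun g hgi hgj => hij (by
        simp only [Finset.mem_filter] at hgi hgj
        exact hgi.2.symm.trans hgj.2))]
      exact Finset.card_le_univ _
    have hqA : cnt G q = A := hsame q p hq hp hq2 hp2 hqG hpG
    by_cases h2G : 2 ∣ Nat.card G
    · have c2p : (p : ℤ) ∣ (cnt G 2 : ℤ) + (cnt G (p * 2) : ℤ) := by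
        exact_mod_cast pair_dvd hp hpG 2 (fun h => hp2 ((Nat.prime_dvd_prime_iff_eq hp Nat.prime_two).1 h)) h2G
      rw [h2 h2G] at c2p
      have hBp := (hpair p q hp hq hp2 hq2 hpq hpG hqG hqA.symm).2.2.1
      rw [← hB] at hBp
      have h2p : cnt G (p * 2) = A := by
        rcases hv' (p * 2) (by omega) with h | h | h <;> rw [h] at c2p
        · exact absurd rfl (hsmall p hp hp2 1 (by simpa using c2p)).1
        · exact h
        · refine absurd rfl (hsmall p hp hp2 2 ?_).2.1
          have := dvd_sub c2p hBp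
          refine dvd_congr' this ?_
          push_cast
          ring
      have hc := hcount {1, 2, p, q, p * 2, p * q}
      have hne' : p * 2 ≠ p * q := fun h => hq2 (Nat.eq_of_mul_eq_mul_left hp.pos h).symm
      have hpq' : p < p * q ∧ q < p * q := ⟨lt_mul_of_one_lt_right hp.pos hq.one_lt, lt_mul_of_one_lt_left hq.pos hp.one_lt⟩
      have hqp2 : q ≠ p * 2 := fun h => hq2 ((Nat.prime_dvd_prime_iff_eq Nat.prime_two hq).1 ⟨p, by rw [h]; ring⟩).symm
      rw [Finset.sum_insert (by simp; omega), Finset.sum_insert (by simp; omega),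
        Finset.sum_insert (by simp; omega), Finset.sum_insert (by simp; omega),
        Finset.sum_pair hne', hone, h2 h2G, hqA, h2p, ← hA, ← hB] at hc
      have := Nat.le_of_dvd (by omega) hGdvd
      omega
    · have hcop : Nat.Coprime (Nat.card G) 2 := ((Nat.Prime.coprime_iff_not_dvd Nat.prime_two).2 h2G).symm
      have := Nat.le_of_dvd (by omega) (hcop.dvd_of_dvd_mul_left hGdvd)
      have hc := hcount {1, p, q}
      rw [Finset.sum_insert (by simp; omega), Finset.sum_pair hpq, hone, hqA, ← hA] at hc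
      have := hpos p hp hpG
      omega
  · push Not at hsame
    obtain ⟨r, s, hr, hs, hr2, hs2, hrG, hsG, hrs⟩ := hsame
    have hr3 : 3 ≤ r := by have := hr.two_le; omega
    have hs3 : 3 ≤ s := by have := hs.two_le; omega
    have hrs' : r ≠ s := fun e => hrs (e ▸ rfl)
    -- there are exactly two odd primes
    have htwo : ∀ t : ℕ, t.Prime → t ≠ 2 → t ∣ Nat.card G → t = r ∨ t = s := by
      intro t ht ht2 htG
      by_contra hc
      push Not at hc
      have ht3 : 3 ≤ t := by have := ht.two_le; omega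
      have h1 := (hvals r (by omega)).resolve_left (hpos r hr hrG)
      have h2' := (hvals s (by omega)).resolve_left (hpos s hs hsG)
      have h3 := (hvals t (by omega)).resolve_left (hpos t ht htG)
      rcases (show cnt G t = cnt G r ∨ cnt G t = cnt G s by omega) with e | e
      · exact hrs (hall r t s hr ht hs hr2 ht2 hs2 hc.1.symm hrs' hc.2 hrG htG hsG e.symm).symm
      · exact hrs (hall s t r hs ht hr hs2 ht2 hr2 hc.2.symm hrs'.symm hc.1 hsG htG hrG e.symm)
    by_cases h4 : 4 ∣ Nat.card G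
    · have hv' : ∀ m, 2 < m → cnt G m = 0 ∨ cnt G m = cnt G r ∨ cnt G m = cnt G s := fun m hm => by
        have := hvals m hm
        have := (hvals r (by omega)).resolve_left (hpos r hr hrG)
        have := (hvals s (by omega)).resolve_left (hpos s hs hsG)
        omega
      have h2' := h2 ((by norm_num : (2 : ℕ) ∣ 4).trans h4)
      by_cases hx : cnt G (r * s) = cnt G s
      · exact four_case (fun m hm => (hv' m hm).imp_right Or.symm) hone h2' h4 (hfour h4) (Ne.symm hrs)
          s r hs hr hs2 hr2 hrs'.symm hsG hrG rfl rfl (by rw [mul_comm, hx]; exact Ne.symm hrs)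
      · exact four_case hv' hone h2' h4 (hfour h4) hrs r s hr hs hr2 hs2 hrs' hrG hsG rfl rfl hx
    by_cases h2G : 2 ∣ Nat.card G
    · haveI : Fact (Nat.Prime 2) := ⟨Nat.prime_two⟩
      obtain ⟨T⟩ := (inferInstance : Nonempty (Sylow 2 G))
      have hT : Nat.card (T : Subgroup G) = 2 := by
        rw [T.card_eq_multiplicity]
        have h1 := Nat.prime_two.factorization_pos_of_dvd Nat.card_pos.ne' h2G
        have h1' : (Nat.card G).factorization 2 ≤ 1 := by
          by_contra hc
          exact h4 ((pow_dvd_pow 2 (show 2 ≤ _ by omega)).trans (Nat.ordProj_dvd _ _))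
        rw [show (Nat.card G).factorization 2 = 1 by omega, pow_one]
      obtain ⟨T', K, hKn, hK⟩ : Cfsg.HasNormalPComplement 2 G := by
        refine BurnsideSmall.hasNormalPComplement_of_normalizer_le_centralizer T fun g hg => ?_
        rw [Subgroup.mem_centralizer_iff]
        intro t ht
        have hgt := (Subgroup.mem_normalizer_iff.1 hg t).1 ht
        obtain ⟨z, -, hz⟩ := Nat.card_eq_two_iff' (1 : (T : Subgroup G)) |>.1 hT
        rcases eq_or_ne t 1 with rfl | ht1
        · simp
        · have e1 := hz ⟨t, ht⟩ (fun e => ht1 (congrArg Subtype.val e))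
          have e2 := hz ⟨g * t * g⁻¹, hgt⟩ (fun e => ht1 (conj_eq_one_iff.1 (congrArg Subtype.val e)))
          exact (mul_inv_eq_iff_eq_mul.1 (congrArg Subtype.val (e2.trans e1.symm))).symm
      haveI := hKn
      have hQ : Nat.card (G ⧸ K) = 2 := by
        rw [← Subgroup.index_eq_card, hK.symm.index_eq_card, T'.card_eq_multiplicity, ← T.card_eq_multiplicity, hT]
      haveI : Group.IsSolvable K := solvable_of_primes hr hs fun t ht htK => by
        refine htwo t ht (fun e => ?_) (htK.trans (Subgroup.card_subgroup_dvd_card K))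
        subst e
        refine T'.not_dvd_index ?_
        rw [hK.index_eq_card]
        exact htK
      haveI : Group.IsSolvable (G ⧸ K) := solvable_of_primes Nat.prime_two Nat.prime_two fun t ht htQ =>
        Or.inl ((Nat.prime_dvd_prime_iff_eq ht Nat.prime_two).1 (hQ ▸ htQ))
      exact hns ((Group.isSolvable_iff_subgroup_quotient K).2 ⟨inferInstance, inferInstance⟩)
    · exact hns (solvable_of_primes hr hs fun t ht htG => htwo t ht (fun e => h2G (e ▸ htG)) htG)

end Cfsg.Agent.S3996
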