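import Cfsg.Statements.S2928
import Mathlib
import Cfsg.Agent.S2245
import Cfsg.Agent.S3996
import Cfsg.Agent.Lib.ComponentsBasic
import Cfsg.Agent.Lib.ComponentsFitting

set_option autoImplicit false
open Cfsg

namespace Cfsg.Agent.S2928

open Equiv Equiv.Perm
open S2245 (c3 c3_conj c3_apply1 c3_apply2 c3_apply3 c3_apply_ne isThreeCycle_c3 HasAlt)

theorem app_inv {α : Type*} (g : Perm α) (x : α) : g (g⁻¹ x) = x := g.apply_symm_apply x

theorem inv_app {α : Type*} (g : Perm α) (x : α) : g⁻¹ (g x) = x := g.symm_apply_apply x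

theorem isSolvable_perm {β : Type*} [Finite β] (h : Nat.card β ≤ 4) : Group.IsSolvable (Equiv.Perm β) := by
  haveI := Fintype.ofFinite β
  refine S3996.solvable_of_primes (p := 2) (q := 3) Nat.prime_two Nat.prime_three fun r hr hrd => ?_
  rw [Nat.card_perm, hr.dvd_factorial] at hrd
  have h4 : r ≤ 4 := hrd.trans h
  have := hr.two_le
  interval_cases r <;> first | omega | exact absurd hr (by norm_num)

theorem perfect_hom_solvable {K X : Type*} [Group K] [Group X] [hp : Group.IsPerfect K]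
    [hX : Group.IsSolvable X] (φ : K →* X) (k : K) : φ k = 1 := by
  obtain ⟨n, hn⟩ := (Group.isSolvable_def X).1 hX
  have htop : ∀ m, derivedSeries K m = ⊤ := by
    intro m
    induction m with
    | zero => exact derivedSeries_zero K
    | succ m ih => rw [derivedSeries_succ, ih]; exact Group.IsPerfect.commutator_eq_top
  have : φ k ∈ (derivedSeries K n).map φ := ⟨k, by rw [htop]; trivial, rfl⟩
  have h2 := map_derivedSeries_le_derivedSeries φ n this
  rwa [hn] at h2

theorem swc {α : Type*} [DecidableEq α] {a b c d : α} (hca : c ≠ a) (hcb : c ≠ b) (hda : d ≠ a) (hdb : d ≠ b) :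
    swap a b * swap c d = swap c d * swap a b := by
  rw [mul_swap_eq_swap_mul, swap_apply_of_ne_of_ne hca hcb, swap_apply_of_ne_of_ne hda hdb]

/-- Two double transpositions meeting in one point give a three-cycle. -/
theorem three_cycle_of_meet {α : Type*} [DecidableEq α] [Fintype α] {a a' b b' c d d' : α}
    (haa : a ≠ a') (hac : a ≠ c) (hac' : a' ≠ c)
    (hb : b ≠ a ∧ b ≠ a' ∧ b ≠ c) (hb' : b' ≠ a ∧ b' ≠ a' ∧ b' ≠ c)
    (hd : d ≠ a ∧ d ≠ a' ∧ d ≠ c) (hd' : d' ≠ a ∧ d' ≠ a' ∧ d' ≠ c)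
    (hbd : d ≠ b ∧ d ≠ b' ∧ d' ≠ b ∧ d' ≠ b')
    (H : Subgroup (Perm α)) (h1 : swap a a' * swap b b' ∈ H) (h2 : swap a c * swap d d' ∈ H) :
    ∃ σ ∈ H, σ.IsThreeCycle := by
  refine ⟨_, mul_mem (mul_mem h1 h2) (mul_mem h1 h2), ?_⟩
  have e1 : swap b b' * swap a c = swap a c * swap b b' := swc hb.1.symm hb'.1.symm hb.2.2.symm hb'.2.2.symm
  have e2 : swap d d' * swap a a' = swap a a' * swap d d' := swc hd.1.symm hd'.1.symm hd.2.1.symm hd'.2.1.symm
  have e3 : swap d d' * swap a c = swap a c * swap d d' := swc hd.1.symm hd'.1.symm hd.2.2.symm hd'.2.2.symm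
  have e4 : swap b b' * swap a a' = swap a a' * swap b b' := swc hb.1.symm hb'.1.symm hb.2.1.symm hb'.2.1.symm
  have e5 : swap b b' * swap d d' = swap d d' * swap b b' := swc hbd.1 hbd.2.1 hbd.2.2.1 hbd.2.2.2
  have cu : Commute (swap b b' * swap d d') (swap a a' * swap a c) :=
    Commute.mul_left (Commute.mul_right e4 e1) (Commute.mul_right e2 e3)
  have e : swap a a' * swap b b' * (swap a c * swap d d') = swap a a' * swap a c * (swap b b' * swap d d') := by
    rw [mul_assoc, ← mul_assoc (swap b b'), e1]; group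
  have hu : (swap b b' * swap d d') * (swap b b' * swap d d') = 1 := by
    rw [Commute.mul_mul_mul_comm (show Commute (swap d d') (swap b b') from e5.symm), swap_mul_self, swap_mul_self, one_mul]
  have e' : ∀ t u : Perm α, Commute u t → u * u = 1 → t * u * (t * u) = t * t := fun t u htu hu => by
    rw [mul_assoc, ← mul_assoc u, htu.eq, mul_assoc, hu, mul_one]
  rw [e, e' _ _ cu hu]
  exact IsThreeCycle.isThreeCycle_sq (isThreeCycle_swap_mul_swap_same haa hac hac')

variable {n m : ℕ}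

/-- The pairing involution of a family of pairs. -/
noncomputable def zinv (f : Fin m × Fin 2 ↪ Fin n) : Perm (Fin n) :=
  Equiv.Perm.viaEmbedding (Equiv.prodCongr (Equiv.refl (Fin m)) (swap (0 : Fin 2) 1)) f

theorem zinv_apply (f : Fin m × Fin 2 ↪ Fin n) (i : Fin m) (e : Fin 2) :
    zinv f (f (i, e)) = f (i, swap (0 : Fin 2) 1 e) := by
  rw [zinv, viaEmbedding_apply]; rfl

theorem zinv_fix (f : Fin m × Fin 2 ↪ Fin n) {x : Fin n} (hx : x ∉ Set.range f) : zinv f x = x :=
  viaEmbedding_apply_of_notMem _ _ _ hx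

theorem swap01_ne (e : Fin 2) : swap (0 : Fin 2) 1 e ≠ e := by fin_cases e <;> decide

theorem eq_or_swap01 (e e' : Fin 2) : e' = e ∨ e' = swap (0 : Fin 2) 1 e := by
  fin_cases e <;> fin_cases e' <;> simp

theorem zinv_sq (f : Fin m × Fin 2 ↪ Fin n) (x : Fin n) : zinv f (zinv f x) = x := by
  by_cases hx : x ∈ Set.range f
  · obtain ⟨⟨i, e⟩, rfl⟩ := hx
    rw [zinv_apply, zinv_apply, swap_apply_self]
  · rw [zinv_fix f hx, zinv_fix f hx]

theorem zinv_ne (f : Fin m × Fin 2 ↪ Fin n) {x : Fin n} (hx : x ∈ Set.range f) : zinv f x ≠ x := by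
  obtain ⟨⟨i, e⟩, rfl⟩ := hx
  rw [zinv_apply]
  exact fun h => swap01_ne e (congrArg Prod.snd (f.injective h))

/-- The permutations moving each point at most to its partner. -/
def wsub (z : Perm (Fin n)) (hz : ∀ x, z (z x) = x) : Subgroup (Perm (Fin n)) where
  carrier := {g | ∀ x, g x = x ∨ g x = z x}
  one_mem' := fun _ => Or.inl rfl
  mul_mem' := fun {g g'} hg hg' x => by
    rw [Perm.mul_apply]
    rcases hg' x with h | h <;> rw [h]
    · exact hg x
    · rcases hg (z x) with h2 | h2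
      · exact Or.inr h2
      · exact Or.inl (h2.trans (hz x))
  inv_mem' := fun {g} hg x => by
    rcases hg (g⁻¹ x) with h | h
    · left
      rw [app_inv] at h
      exact h.symm
    · right
      rw [app_inv] at h
      conv_rhs => rw [h, hz]

theorem wsub_sq {z : Perm (Fin n)} {hz : ∀ x, z (z x) = x} {g : Perm (Fin n)} (hg : g ∈ wsub z hz) :
    g * g = 1 := by
  refine Equiv.ext fun x => ?_
  rw [Perm.mul_apply, Perm.one_apply]
  rcases hg x with h | h
  · rw [h, h]
  · rcases hg (z x) with h2 | h2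
    · have : z x = x := g.injective (h2.trans h.symm)
      rw [h, h2, this]
    · rw [h, h2, hz]

theorem wsub_comm {z : Perm (Fin n)} {hz : ∀ x, z (z x) = x} {g g' : Perm (Fin n)} (hg : g ∈ wsub z hz)
    (hg' : g' ∈ wsub z hz) : g * g' = g' * g := by
  have e1 := wsub_sq (mul_mem hg hg')
  have e2 := wsub_sq hg
  have e3 := wsub_sq hg'
  calc g * g' = g * (g * g' * (g * g')) * g' := by rw [e1, mul_one]
    _ = (g * g) * g' * g * (g' * g') := by group
    _ = g' * g := by rw [e2, e3, one_mul, mul_one]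

/-- The transposition of the `i`-th pair. -/
def sw (f : Fin m × Fin 2 ↪ Fin n) (i : Fin m) : Perm (Fin n) := swap (f (i, 0)) (f (i, 1))

theorem sw_eq (f : Fin m × Fin 2 ↪ Fin n) (i : Fin m) (e : Fin 2) :
    sw f i = swap (f (i, e)) (f (i, swap (0 : Fin 2) 1 e)) := by
  fin_cases e
  · rfl
  · exact swap_comm _ _

theorem sw_mem (f : Fin m × Fin 2 ↪ Fin n) (i : Fin m) : sw f i ∈ wsub (zinv f) (zinv_sq f) := by
  intro x
  rcases eq_or_ne x (f (i, 0)) with rfl | h0
  · right; rw [sw, swap_apply_left, zinv_apply, swap_apply_left]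
  rcases eq_or_ne x (f (i, 1)) with rfl | h1
  · right; rw [sw, swap_apply_right, zinv_apply, swap_apply_right]
  · left; exact swap_apply_of_ne_of_ne h0 h1

theorem sw_apply_other (f : Fin m × Fin 2 ↪ Fin n) {i j : Fin m} (hij : i ≠ j) (e : Fin 2) :
    sw f i (f (j, e)) = f (j, e) :=
  swap_apply_of_ne_of_ne (fun h => hij (congrArg Prod.fst (f.injective h)).symm)
    (fun h => hij (congrArg Prod.fst (f.injective h)).symm)

theorem sw_apply_self (f : Fin m × Fin 2 ↪ Fin n) (i : Fin m) (e : Fin 2) :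
    sw f i (f (i, e)) = f (i, swap (0 : Fin 2) 1 e) := by
  rw [sw_eq f i e, swap_apply_left]

theorem range_of_card (f : Fin m × Fin 2 ↪ Fin n) (hcov : n ≤ 2 * m + 1) {x y : Fin n}
    (hx : x ∉ Set.range f) (hy : y ∉ Set.range f) : x = y := by
  classical
  by_contra hne
  have h : (Finset.univ.image f ∪ {x, y}).card ≤ n := by simpa using Finset.card_le_univ (Finset.univ.image f ∪ {x, y})
  rw [Finset.card_union_of_disjoint, Finset.card_image_of_injective _ f.injective, Finset.card_pair hne] at h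
  · simp at h; omega
  · rw [Finset.disjoint_left]
    intro w hw hw'
    obtain ⟨u, -, rfl⟩ := Finset.mem_image.1 hw
    simp only [Finset.mem_insert, Finset.mem_singleton] at hw'
    rcases hw' with h | h
    · exact hx ⟨u, h⟩
    · exact hy ⟨u, h⟩

section split
variable (H : Subgroup (Perm (Fin n))) (f f' : Fin m × Fin 2 ↪ Fin n)
  (hs : ∀ i j, i ≠ j → sw f i * sw f j ∈ H) (hs' : ∀ i j, i ≠ j → sw f' i * sw f' j ∈ H)
  (hno : ∀ σ ∈ H, ¬ σ.IsThreeCycle)

/-- Analysis of a pair of the second family that is split by the first. -/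
theorem split_data (hm : 4 ≤ m) (hs : ∀ i j, i ≠ j → sw f i * sw f j ∈ H)
    (hs' : ∀ i j, i ≠ j → sw f' i * sw f' j ∈ H) (hno : ∀ σ ∈ H, ¬ σ.IsThreeCycle)
    (i l : Fin m) (e e0 : Fin 2) (ha : f' (l, e0) = f (i, e))
    (hc : f' (l, swap (0 : Fin 2) 1 e0) ≠ f (i, swap (0 : Fin 2) 1 e)) :
    ∀ j, j ≠ i → (∀ e', f' (l, swap (0 : Fin 2) 1 e0) ≠ f (j, e')) →
      ∀ k, k ≠ l → (∀ e', f' (k, e') ≠ f (i, swap (0 : Fin 2) 1 e)) → ∃ e1 e2, f' (k, e1) = f (j, e2) := by
  intro j hj hcj k hk hak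
  by_contra hnone
  push Not at hnone
  have hl : ∀ e', f' (k, e') ≠ f' (l, e0) := fun e' h => hk (congrArg Prod.fst (f'.injective h))
  have hl' : ∀ e', f' (k, e') ≠ f' (l, swap (0 : Fin 2) 1 e0) := fun e' h => hk (congrArg Prod.fst (f'.injective h))
  have hji : ∀ e1 e2, f (j, e1) ≠ f (i, e2) := fun e1 e2 h => hj (congrArg Prod.fst (f.injective h))
  obtain ⟨σ, hσ, h3⟩ := three_cycle_of_meet (a := f (i, e)) (a' := f (i, swap (0 : Fin 2) 1 e))
    (b := f (j, 0)) (b' := f (j, 1)) (c := f' (l, swap (0 : Fin 2) 1 e0)) (d := f' (k, 0)) (d' := f' (k, 1))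
    (fun h => swap01_ne e (congrArg Prod.snd (f.injective h)).symm)
    (fun h => swap01_ne e0 (congrArg Prod.snd (f'.injective (h ▸ ha))).symm)
    hc.symm ⟨hji _ _, hji _ _, (hcj _).symm⟩ ⟨hji _ _, hji _ _, (hcj _).symm⟩
    ⟨ha ▸ hl _, hak _, hl' _⟩ ⟨ha ▸ hl _, hak _, hl' _⟩ ⟨hnone _ _, hnone _ _, hnone _ _, hnone _ _⟩ H
    (by rw [← sw_eq f i e]; exact hs i j hj.symm) (by rw [← ha, ← sw_eq f' l e0]; exact hs' l k hk.symm)
  exact hno σ hσ h3

/-- A split pair has both ends in the support of the first family, and only four pairs occur. -/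
theorem split_range (hm : 4 ≤ m) (hs : ∀ i j, i ≠ j → sw f i * sw f j ∈ H)
    (hs' : ∀ i j, i ≠ j → sw f' i * sw f' j ∈ H) (hno : ∀ σ ∈ H, ¬ σ.IsThreeCycle)
    (i l : Fin m) (e e0 : Fin 2) (ha : f' (l, e0) = f (i, e))
    (hc : f' (l, swap (0 : Fin 2) 1 e0) ≠ f (i, swap (0 : Fin 2) 1 e)) :
    m = 4 ∧ ∃ ic ec, ic ≠ i ∧ f' (l, swap (0 : Fin 2) 1 e0) = f (ic, ec) ∧
      ∃ k0 e1, k0 ≠ l ∧ f' (k0, e1) = f (i, swap (0 : Fin 2) 1 e) ∧
        ∀ j, j ≠ i → j ≠ ic → ∀ e2, ∃ k e1, k ≠ l ∧ k ≠ k0 ∧ f' (k, e1) = f (j, e2) := by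
  classical
  set c := f' (l, swap (0 : Fin 2) 1 e0) with hcdef
  have hd := split_data H f f' hm hs hs' hno i l e e0 ha hc
  let J : Finset (Fin m) := Finset.univ.filter fun j => j ≠ i ∧ ∀ e', c ≠ f (j, e')
  let K : Finset (Fin m) := Finset.univ.filter fun k => k ≠ l ∧ ∀ e', f' (k, e') ≠ f (i, swap (0 : Fin 2) 1 e)
  have hd' : ∀ j ∈ J, ∀ k ∈ K, ∃ e1 e2, f' (k, e1) = f (j, e2) := by
    intro j hj k hk
    obtain ⟨hj1, hj2⟩ := (Finset.mem_filter.1 hj).2
    obtain ⟨hk1, hk2⟩ := (Finset.mem_filter.1 hk).2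
    exact hd j hj1 hj2 k hk1 hk2
  -- at most one of the blocks contains the second end
  have hK : m ≤ K.card + 2 ∧ ((∀ k ≠ l, ∀ e', f' (k, e') ≠ f (i, swap (0 : Fin 2) 1 e)) → m ≤ K.card + 1) := by
    constructor
    · by_cases hex : ∃ k0 e', k0 ≠ l ∧ f' (k0, e') = f (i, swap (0 : Fin 2) 1 e)
      · obtain ⟨k0, e', -, hk0⟩ := hex
        have hsub : Finset.univ ⊆ K ∪ {l, k0} := fun k _ => by
          by_cases hk : k ∈ K
          · exact Finset.mem_union_left _ hk
          · simp only [K, Finset.mem_filter, Finset.mem_univ, true_and, not_and, not_forall, not_not] at hk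
            by_cases hkl : k = l
            · exact Finset.mem_union_right _ (by simp [hkl])
            obtain ⟨e'', he''⟩ := hk hkl
            exact Finset.mem_union_right _ (Finset.mem_insert_of_mem (Finset.mem_singleton.2 (congrArg Prod.fst (f'.injective (he''.trans hk0.symm)))))
        have := (Finset.card_le_card hsub).trans (Finset.card_union_le _ _)
        have := Finset.card_le_two (a := l) (b := k0)
        simp at *; omega
      · push Not at hex
        have hsub : Finset.univ ⊆ K ∪ {l} := fun k _ => by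
          by_cases hkl : k = l
          · exact Finset.mem_union_right _ (by simp [hkl])
          · exact Finset.mem_union_left _ (by simp [K, hkl, fun e' => hex k e' hkl])
        have := (Finset.card_le_card hsub).trans (Finset.card_union_le _ _)
        simp at *; omega
    · intro hex
      have hsub : Finset.univ ⊆ K ∪ {l} := fun k _ => by
        by_cases hkl : k = l
        · exact Finset.mem_union_right _ (by simp [hkl])
        · exact Finset.mem_union_left _ (by simp [K, hkl, hex k hkl])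
      have := (Finset.card_le_card hsub).trans (Finset.card_union_le _ _)
      simp at *; omega
  -- each set injects into a pair
  have hJ2 : J.card ≤ 2 := by
    obtain ⟨k, hk⟩ : K.Nonempty := Finset.card_pos.1 (by omega)
    have h1 : ∀ j : J, ∃ e1 e2, f' (k, e1) = f (j.1, e2) := fun j => hd' j.1 j.2 k hk
    choose g1 g2 hg using h1
    have := Fintype.card_le_of_injective g1 (fun j j' h => Subtype.ext (congrArg Prod.fst (f.injective
      ((hg j).symm.trans (by rw [h]; exact hg j')))))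
    simpa using this
  obtain ⟨ic, ec, hic⟩ : ∃ ic ec, c = f (ic, ec) := by
    by_contra hne
    push Not at hne
    have : Finset.univ ⊆ J ∪ {i} := fun j _ => by
      by_cases hji : j = i
      · exact Finset.mem_union_right _ (by simp [hji])
      · exact Finset.mem_union_left _ (by simp [J, hji, hne j])
    have := (Finset.card_le_card this).trans (Finset.card_union_le _ _)
    simp at *; omega
  have hici : ic ≠ i := by
    rintro rfl
    rcases eq_or_swap01 e ec with h | h <;> subst h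
    · exact swap01_ne e0 (congrArg Prod.snd (f'.injective (hic.trans ha.symm)))
    · exact hc hic
  have hJeq : ∀ j, j ≠ i → j ≠ ic → j ∈ J := fun j h1 h2 => by
    simp only [J, Finset.mem_filter, Finset.mem_univ, true_and]
    exact ⟨h1, fun e' h => h2 (congrArg Prod.fst (f.injective (h.symm.trans hic)))⟩
  have hJge : m ≤ J.card + 2 := by
    have : Finset.univ ⊆ J ∪ {i, ic} := fun j _ => by
      by_cases hj : j = i ∨ j = ic
      · exact Finset.mem_union_right _ (by simpa using hj)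
      · push Not at hj
        exact Finset.mem_union_left _ (hJeq j hj.1 hj.2)
    have := (Finset.card_le_card this).trans (Finset.card_union_le _ _)
    rw [Finset.card_pair hici.symm] at this
    simp at *; omega
  have hm4 : m = 4 := by omega
  obtain ⟨j0, hj0⟩ : J.Nonempty := Finset.card_pos.1 (by omega)
  have h2 : ∀ k : K, ∃ e2 e1, f' (k.1, e1) = f (j0, e2) := fun k => by
    obtain ⟨e1, e2, he⟩ := hd' j0 hj0 k.1 k.2
    exact ⟨e2, e1, he⟩
  choose g2 g1 hg using h2
  have hK2 : K.card ≤ 2 := by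
    simpa using Fintype.card_le_of_injective g2 (fun k k' h => Subtype.ext (congrArg Prod.fst (f'.injective
      ((hg k).trans (by rw [h]; exact (hg k').symm)))))
  obtain ⟨k0, e1, hk0l, hk0⟩ : ∃ k0 e1, k0 ≠ l ∧ f' (k0, e1) = f (i, swap (0 : Fin 2) 1 e) := by
    by_contra hne
    push Not at hne
    have := hK.2 (fun k hk e' => hne k e' hk)
    omega
  refine ⟨hm4, ic, ec, hici, hic, k0, e1, hk0l, hk0, fun j hji hjc e2 => ?_⟩
  have hjJ := hJeq j hji hjc
  have h3 : ∀ k : K, ∃ e2 e1, f' (k.1, e1) = f (j, e2) := fun k => by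
    obtain ⟨e1, e2, he⟩ := hd' j hjJ k.1 k.2
    exact ⟨e2, e1, he⟩
  choose g2 g1 hg using h3
  have hinj : Function.Injective g2 := fun k k' h => Subtype.ext (congrArg Prod.fst (f'.injective
      ((hg k).trans (by rw [h]; exact (hg k').symm))))
  obtain ⟨k, hk⟩ := ((Fintype.bijective_iff_injective_and_card g2).2 ⟨hinj, by simp; omega⟩).2 e2
  obtain ⟨hk1, hk2⟩ := (Finset.mem_filter.1 k.2).2
  refine ⟨k.1, g1 k, hk1, fun h => hk2 e1 (by rw [h]; exact hk0), hk ▸ hg k⟩

end split

/-- Without three-cycles the pairing involutions of the two families commute, or are equal. -/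
theorem pairing_dead (H : Subgroup (Perm (Fin n))) (f f' : Fin m × Fin 2 ↪ Fin n) (hm : 4 ≤ m)
    (hcov : n ≤ 2 * m + 1) (hs : ∀ i j, i ≠ j → sw f i * sw f j ∈ H)
    (hs' : ∀ i j, i ≠ j → sw f' i * sw f' j ∈ H) (hno : ∀ σ ∈ H, ¬ σ.IsThreeCycle) :
    (m = 4 ∨ zinv f' = zinv f) ∧ zinv f' * zinv f = zinv f * zinv f' := by
  classical
  -- the supports agree
  have hrange : ∀ x, x ∈ Set.range f ↔ x ∈ Set.range f' := by
    have key : ∀ x, x ∈ Set.range f' → x ∈ Set.range f := by
      intro x hx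
      obtain ⟨⟨l, e0⟩, rfl⟩ := hx
      by_contra hx
      have hy : f' (l, swap (0 : Fin 2) 1 e0) ∈ Set.range f := by
        by_contra hy
        exact swap01_ne e0 (congrArg Prod.snd (f'.injective (range_of_card f hcov hy hx)))
      obtain ⟨⟨i, e⟩, he⟩ := hy
      have := split_range H f f' hm hs hs' hno i l e (swap (0 : Fin 2) 1 e0) he.symm
        (by rw [swap_apply_self]; exact fun h => hx ⟨_, h.symm⟩)
      obtain ⟨-, ic, ec, -, hic, -⟩ := this
      rw [swap_apply_self] at hic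
      exact hx ⟨_, hic.symm⟩
    have key' : Finset.univ.image f' ⊆ Finset.univ.image f := fun x hx => by
      obtain ⟨u, -, rfl⟩ := Finset.mem_image.1 hx
      obtain ⟨v, hv⟩ := key _ ⟨u, rfl⟩
      exact Finset.mem_image.2 ⟨v, Finset.mem_univ _, hv⟩
    have heq := Finset.eq_of_subset_of_card_le key'
      (by rw [Finset.card_image_of_injective _ f.injective, Finset.card_image_of_injective _ f'.injective])
    intro x
    have := Finset.ext_iff.1 heq x
    simpa using this.symm
  have hsplit : ∀ i e, ∃ l e0, f' (l, e0) = f (i, e) ∧ zinv f' (f (i, e)) = f' (l, swap (0 : Fin 2) 1 e0) := by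
    intro i e
    obtain ⟨⟨l, e0⟩, h⟩ := (hrange _).1 ⟨(i, e), rfl⟩
    exact ⟨l, e0, h, by rw [← h, zinv_apply]⟩
  refine ⟨?_, ?_⟩
  · by_cases hm4 : m = 4
    · exact Or.inl hm4
    right
    refine Equiv.ext fun x => ?_
    by_cases hx : x ∈ Set.range f
    · obtain ⟨⟨i, e⟩, rfl⟩ := hx
      obtain ⟨l, e0, hl, hz⟩ := hsplit i e
      rw [hz, zinv_apply]
      by_contra hc
      exact hm4 (split_range H f f' hm hs hs' hno i l e e0 hl hc).1
    · rw [zinv_fix f hx, zinv_fix f' (fun h => hx ((hrange x).2 h))]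
  refine Equiv.ext fun x => ?_
  rw [Perm.mul_apply, Perm.mul_apply]
  by_cases hx : x ∈ Set.range f
  · obtain ⟨⟨i, e⟩, rfl⟩ := hx
    obtain ⟨l, e0, hl, hz⟩ := hsplit i e
    by_cases hc : f' (l, swap (0 : Fin 2) 1 e0) = f (i, swap (0 : Fin 2) 1 e)
    · have h1 : zinv f' (f (i, e)) = zinv f (f (i, e)) := by rw [hz, hc, zinv_apply]
      rw [h1, zinv_sq, ← h1, zinv_sq]
    obtain ⟨-, ic, ec, hici, hic, k0, e1, hk0l, hk0, hcov'⟩ := split_range H f f' hm hs hs' hno i l e e0 hl hc
    rw [hz, hic, zinv_apply, zinv_apply, ← hk0, zinv_apply]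
    -- locate the image
    obtain ⟨⟨jd, ed⟩, hd⟩ := (hrange _).2 ⟨(k0, swap (0 : Fin 2) 1 e1), rfl⟩
    rw [← hd]
    by_cases hjc : jd = ic
    · subst hjc
      rcases eq_or_swap01 ec ed with h | h
      · subst h
        exact absurd (congrArg Prod.fst (f'.injective (hd.symm.trans hic.symm))) hk0l
      · rw [h]
    · by_cases hji : jd = i
      · subst hji
        rcases eq_or_swap01 e ed with h | h <;> subst h
        · exact absurd (congrArg Prod.fst (f'.injective (hd.symm.trans hl.symm))) hk0l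
        · exact absurd (congrArg Prod.snd (f'.injective (hd.symm.trans hk0.symm))) (swap01_ne e1)
      · obtain ⟨k, e', -, hk, hke⟩ := hcov' jd hji hjc ed
        exact absurd (congrArg Prod.fst (f'.injective (hke.trans hd))) hk
  · rw [zinv_fix f hx, zinv_fix f' (fun h => hx ((hrange x).2 h)), zinv_fix f hx]

section quasi
variable {G : Type*} [Group G] [Finite G]

theorem perfect_gen (hq : Cfsg.IsQuasisimple ↥(generalizedFittingSubgroup G)) :
    Group.IsPerfect ↥(generalizedFittingSubgroup G) := hq.1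

/-- A normal abelian subgroup centralizes a quasisimple generalized Fitting subgroup. -/
theorem normal_comm_centralizes (hq : Cfsg.IsQuasisimple ↥(generalizedFittingSubgroup G)) (A : Subgroup G) [hA : A.Normal]
    (hAc : ∀ x ∈ A, ∀ y ∈ A, x * y = y * x) :
    ∀ a ∈ A, ∀ k ∈ generalizedFittingSubgroup G, a * k = k * a := by
  set K := generalizedFittingSubgroup G
  have hAK : A ≤ K := by
    haveI : IsMulCommutative ↥A := ⟨⟨fun x y => Subtype.ext (hAc x x.2 y y.2)⟩⟩
    letI : CommGroup ↥A := { (inferInstance : Group ↥A) with mul_comm := fun x y => Subtype.ext (hAc x x.2 y y.2) }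
    exact (ComponentsFitting.subnormal_nilpotent_le_fitting hA.isSubnormal inferInstance).trans
      ComponentsFitting.fitting_le_gen
  rcases ComponentsBasic.normal_le_center_or_eq_top hq (A.subgroupOf K) with h | h
  · intro a ha k hk
    exact (congrArg Subtype.val (Subgroup.mem_center_iff.1 (h (x := ⟨a, hAK ha⟩) ha) ⟨k, hk⟩)).symm
  · exfalso
    haveI := ComponentsBasic.isQuasisimple_nontrivial hq
    haveI := hq.1
    refine Group.IsPerfect.not_isMulCommutative ↥K ⟨⟨fun x y => Subtype.ext ?_⟩⟩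
    exact hAc x (Subgroup.subgroupOf_eq_top.1 h x.2) y (Subgroup.subgroupOf_eq_top.1 h y.2)

theorem mem_of_commute (a : G) (h : ∀ k ∈ generalizedFittingSubgroup G, a * k = k * a) :
    a ∈ generalizedFittingSubgroup G :=
  ComponentsFitting.centralizer_gen_le (Subgroup.mem_centralizer_iff.2 fun k hk => (h k hk).symm)

/-- If all commutators with the perfect generalized Fitting subgroup are central, they are trivial. -/
theorem commute_of_central (hq : Cfsg.IsQuasisimple ↥(generalizedFittingSubgroup G)) (a : G)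
    (h : ∀ k ∈ generalizedFittingSubgroup G, a * k * a⁻¹ * k⁻¹ ∈ generalizedFittingSubgroup G ∧
      ∀ k' ∈ generalizedFittingSubgroup G, k' * (a * k * a⁻¹ * k⁻¹) = (a * k * a⁻¹ * k⁻¹) * k') :
    ∀ k ∈ generalizedFittingSubgroup G, a * k = k * a := by
  set K := generalizedFittingSubgroup G
  haveI := hq.1
  let φ : ↥K →* ↥(Subgroup.center ↥K) :=
    { toFun := fun k => ⟨⟨a * k * a⁻¹ * (k : G)⁻¹, (h k k.2).1⟩,
        Subgroup.mem_center_iff.2 fun k' => Subtype.ext ((h k k.2).2 k' k'.2)⟩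
      map_one' := Subtype.ext (Subtype.ext (show a * ((1 : ↥K) : G) * a⁻¹ * ((1 : ↥K) : G)⁻¹ = 1 by simp))
      map_mul' := fun k k' => Subtype.ext (Subtype.ext (by
        show a * ((k * k' : ↥K) : G) * a⁻¹ * ((k * k' : ↥K) : G)⁻¹ =
          a * k * a⁻¹ * (k : G)⁻¹ * (a * k' * a⁻¹ * (k' : G)⁻¹)
        rw [mul_assoc (a * (k : G) * a⁻¹) ((k : G)⁻¹), (h k' k'.2).2 _ (inv_mem k.2)]
        simp only [Subgroup.coe_mul]
        group)) }
  letI : CommGroup ↥(Subgroup.center ↥K) :=
    { (inferInstance : Group ↥(Subgroup.center ↥K)) with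
      mul_comm := fun x y => Subtype.ext (Subgroup.mem_center_iff.1 y.2 x.1) }
  intro k hk
  have := perfect_hom_solvable φ ⟨k, hk⟩
  have h2 : a * k * a⁻¹ * k⁻¹ = 1 := congrArg (fun t => ((t : ↥K) : G)) (congrArg Subtype.val this)
  exact mul_inv_eq_iff_eq_mul.1 (mul_inv_eq_one.1 h2)

end quasi

/-- Let n ≥ 8 and let H be a subgroup of the symmetric group of degree n whose generalized Fitting subgroup F*(H) is quasisimple. If H contains a Sylow 2-subgroup of the alternating group of degree n, then F*(H) is isomorphic to an alternating group of degree m for some m ∈ {n − 3, n − 2, n − 1, n}. -/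
theorem result (n : ℕ) (hn : 8 ≤ n) (H : Subgroup (Equiv.Perm (Fin n))) (hF : Cfsg.IsQuasisimple ↥(Cfsg.generalizedFittingSubgroup ↥H)) (hS : ∃ P : Sylow 2 ↥(alternatingGroup (Fin n)), ((P : Subgroup ↥(alternatingGroup (Fin n))).map (alternatingGroup (Fin n)).subtype) ≤ H) : ∃ m : ℕ, (m = n - 3 ∨ m = n - 2 ∨ m = n - 1 ∨ m = n) ∧ Nonempty (↥(Cfsg.generalizedFittingSubgroup ↥H) ≃* ↥(alternatingGroup (Fin m))) := by
  classical
  set K := generalizedFittingSubgroup ↥H with hKdef
  haveI hperf : Group.IsPerfect ↥K := hF.1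
  haveI hKnt : Nontrivial ↥K := ComponentsBasic.isQuasisimple_nontrivial hF
  have hKn : K.Normal := by rw [hKdef]; infer_instance
  obtain ⟨m, hm⟩ : ∃ m, m = n / 2 := ⟨_, rfl⟩
  have hm4 : 4 ≤ m := by omega
  have hcov : n ≤ 2 * m + 1 := by omega
  -- the pairs
  obtain ⟨f, hs⟩ : ∃ f : Fin m × Fin 2 ↪ Fin n, ∀ i j, i ≠ j → sw f i * sw f j ∈ H := by
    obtain ⟨P, hP⟩ := hS
    let f0 : Fin m × Fin 2 ↪ Fin n :=
      ⟨fun u => ⟨2 * u.1.1 + u.2.1, by have := u.1.2; have := u.2.2; omega⟩, fun u v h => by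
        have h1 := Fin.ext_iff.1 h
        simp only at h1
        have := u.2.2; have := v.2.2
        exact Prod.ext (Fin.ext (by omega)) (Fin.ext (by omega))⟩
    haveI : Fact (Nat.Prime 2) := ⟨Nat.prime_two⟩
    let R : Subgroup ↥(alternatingGroup (Fin n)) :=
      (wsub (zinv f0) (zinv_sq f0)).comap (alternatingGroup (Fin n)).subtype
    have hR : IsPGroup 2 ↥R := fun g => ⟨1, Subtype.ext (Subtype.ext (by
      simpa [pow_two] using wsub_sq (Subgroup.mem_comap.1 g.2)))⟩
    obtain ⟨Q, hQ⟩ := hR.exists_le_sylow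
    obtain ⟨g, rfl⟩ := MulAction.exists_smul_eq ↥(alternatingGroup (Fin n)) P Q
    refine ⟨f0.trans ((g : Perm (Fin n))⁻¹).toEmbedding, fun i j hij => ?_⟩
    have hmem : sw f0 i * sw f0 j ∈ alternatingGroup (Fin n) := by
      rw [mem_alternatingGroup, map_mul, sw, sw, sign_swap (fun h => by
        simpa using congrArg Prod.snd (f0.injective h)), sign_swap (fun h => by
        simpa using congrArg Prod.snd (f0.injective h))]
      decide
    have h1 := hQ (show (⟨_, hmem⟩ : ↥(alternatingGroup (Fin n))) ∈ R from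
      Subgroup.mem_comap.2 (mul_mem (sw_mem f0 i) (sw_mem f0 j)))
    rw [Sylow.coe_subgroup_smul] at h1
    obtain ⟨u, hu, hue⟩ := Subgroup.mem_smul_pointwise_iff_exists _ _ _ |>.1 h1
    rw [MulAut.smul_def, MulAut.conj_apply] at hue
    have hue' : (g : Perm (Fin n)) * (u : Perm (Fin n)) * (g : Perm (Fin n))⁻¹ = sw f0 i * sw f0 j :=
      congrArg Subtype.val hue
    have e : (g : Perm (Fin n))⁻¹ * (sw f0 i * sw f0 j) * (g : Perm (Fin n)) = u := by rw [← hue']; group
    have hu' : (u : Perm (Fin n)) ∈ H := hP (Subgroup.mem_map_of_mem _ hu)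
    rw [← e] at hu'
    convert hu' using 1
    have hsw : ∀ k, sw (f0.trans ((g : Perm (Fin n))⁻¹).toEmbedding) k =
        (g : Perm (Fin n))⁻¹ * sw f0 k * (g : Perm (Fin n))⁻¹⁻¹ := fun k => by
      show swap ((g : Perm (Fin n))⁻¹ (f0 (k, 0))) ((g : Perm (Fin n))⁻¹ (f0 (k, 1))) = _
      rw [swap_apply_apply, sw]
    rw [hsw, hsw]; group
  set z := zinv f with hzdef
  have hsz : ∀ i j, sw f i * sw f j ∈ wsub z (zinv_sq f) := fun i j => mul_mem (sw_mem f i) (sw_mem f j)
  -- an element of `K` fixes every pair only if `K` is abelian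
  have hfix : ¬ ∀ k ∈ K, ((k : ↥H) : Perm (Fin n)) ∈ wsub z (zinv_sq f) := fun h =>
    Group.IsPerfect.not_isMulCommutative ↥K ⟨⟨fun x y => Subtype.ext (Subtype.ext
      (wsub_comm (h x x.2) (h y y.2)))⟩⟩
  -- there is a three-cycle
  obtain ⟨τ, hτH, hτ⟩ : ∃ τ ∈ H, τ.IsThreeCycle := by
    by_contra hno
    push Not at hno
    -- conjugate families
    have hconj : ∀ h ∈ H, ∀ i j, i ≠ j → sw (f.trans h.toEmbedding) i * sw (f.trans h.toEmbedding) j ∈ H := by
      intro h hh i j hij
      have hsw : ∀ k, sw (f.trans h.toEmbedding) k = h * sw f k * h⁻¹ := fun k => by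
        show swap (h (f (k, 0))) (h (f (k, 1))) = _
        rw [swap_apply_apply, sw]
      rw [hsw, hsw, show h * sw f i * h⁻¹ * (h * sw f j * h⁻¹) = h * (sw f i * sw f j) * h⁻¹ by group]
      exact mul_mem (mul_mem hh (hs i j hij)) (inv_mem hh)
    have hzh : ∀ h : Perm (Fin n), zinv (f.trans h.toEmbedding) = h * z * h⁻¹ := by
      intro h
      refine Equiv.ext fun x => ?_
      obtain ⟨y, rfl⟩ := h.surjective x
      simp only [Perm.mul_apply, inv_app]
      by_cases hy : y ∈ Set.range f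
      · obtain ⟨⟨i, e⟩, rfl⟩ := hy
        rw [hzdef, zinv_apply]
        exact zinv_apply (f.trans h.toEmbedding) i e
      · rw [hzdef, zinv_fix f hy, zinv_fix]
        rintro ⟨u, hu⟩
        exact hy ⟨u, h.injective hu⟩
    have hdead : ∀ h ∈ H, (m = 4 ∨ h * z * h⁻¹ = z) ∧ h * z * h⁻¹ * z = z * (h * z * h⁻¹) := fun h hh => by
      have := pairing_dead H f (f.trans h.toEmbedding) hm4 hcov hs (hconj h hh) hno
      rwa [hzh] at this
    by_cases hall : ∀ h ∈ H, h * z * h⁻¹ = z
    · -- the pairing is invariant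
      let W : Subgroup ↥H := (wsub z (zinv_sq f)).comap H.subtype
      haveI : W.Normal := ⟨fun w hw h x => by
        have hc : ∀ y, (h : Perm (Fin n)) (z y) = z ((h : Perm (Fin n)) y) := fun y =>
          Equiv.ext_iff.1 (mul_inv_eq_iff_eq_mul.1 (hall h h.2)) y
        rcases hw ((h : Perm (Fin n))⁻¹ x) with e | e
        · left
          show (h : Perm (Fin n)) ((w : Perm (Fin n)) ((h : Perm (Fin n))⁻¹ x)) = x
          rw [show (w : Perm (Fin n)) ((h : Perm (Fin n))⁻¹ x) = (h : Perm (Fin n))⁻¹ x from e, app_inv]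
        · right
          show (h : Perm (Fin n)) ((w : Perm (Fin n)) ((h : Perm (Fin n))⁻¹ x)) = z x
          rw [show (w : Perm (Fin n)) ((h : Perm (Fin n))⁻¹ x) = z ((h : Perm (Fin n))⁻¹ x) from e, hc,
            app_inv]⟩
      have hcent := normal_comm_centralizes hF W (fun x hx y hy => Subtype.ext (wsub_comm (z := z) (hz := zinv_sq f) hx hy))
      refine hfix fun k hk x => ?_
      -- `k` fixes each pair
      have hk' : ∀ i j, i ≠ j → ∀ y, ((k : ↥H) : Perm (Fin n)) ((sw f i * sw f j) y) =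
          (sw f i * sw f j) (((k : ↥H) : Perm (Fin n)) y) := fun i j hij y => by
        have := hcent ⟨_, hs i j hij⟩ (hsz i j) k hk
        exact (Equiv.ext_iff.1 (congrArg Subtype.val this) y).symm
      by_cases hx : x ∈ Set.range f
      · obtain ⟨⟨i, e⟩, rfl⟩ := hx
        set y := ((k : ↥H) : Perm (Fin n)) (f (i, e)) with hy
        have hmov : ∀ j, j ≠ i → (sw f i * sw f j) y ≠ y := fun j hj h => by
          rw [hy, ← hk' i j hj.symm] at h
          have h' := ((k : ↥H) : Perm (Fin n)).injective h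
          rw [Perm.mul_apply, sw_apply_other f hj, sw_apply_self] at h'
          exact swap01_ne e (congrArg Prod.snd (f.injective h'))
        by_cases hyr : y ∈ Set.range f
        · obtain ⟨⟨jy, ey⟩, hye⟩ := hyr
          have hjy : jy = i := by
            by_contra hne
            obtain ⟨j, hj1, hj2⟩ : ∃ j : Fin m, j ≠ i ∧ j ≠ jy := by
              have : (({i, jy} : Finset (Fin m))ᶜ).Nonempty := by
                rw [← Finset.card_pos, Finset.card_compl, Finset.card_pair (Ne.symm hne), Fintype.card_fin]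
                omega
              obtain ⟨j, hj⟩ := this
              simp at hj
              exact ⟨j, hj⟩
            refine hmov j hj1 ?_
            rw [← hye, Perm.mul_apply, sw_apply_other f hj2, sw_apply_other f (Ne.symm hne)]
          subst hjy
          rcases eq_or_swap01 e ey with h | h
          · left; rw [← hye, h]
          · right; rw [← hye, h, zinv_apply]
        · exfalso
          obtain ⟨j, hj⟩ : ∃ j : Fin m, j ≠ i := Fintype.exists_ne_of_one_lt_card (by simp; omega) i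
          refine hmov j hj ?_
          rw [Perm.mul_apply]
          have h1 : ∀ l, sw f l y = y := fun l =>
            swap_apply_of_ne_of_ne (fun h => hyr ⟨_, h.symm⟩) (fun h => hyr ⟨_, h.symm⟩)
          rw [h1, h1]
      · left
        by_contra hne
        set y := ((k : ↥H) : Perm (Fin n)) x with hy
        have hyr : y ∈ Set.range f := by
          by_contra h
          exact hne (range_of_card f hcov h hx)
        obtain ⟨⟨jy, ey⟩, hye⟩ := hyr
        obtain ⟨j, hj⟩ : ∃ j : Fin m, j ≠ jy := Fintype.exists_ne_of_one_lt_card (by simp; omega) jy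
        have h1 := hk' jy j hj.symm x
        have hx1 : ∀ l, sw f l x = x := fun l =>
          swap_apply_of_ne_of_ne (fun h => hx ⟨_, h.symm⟩) (fun h => hx ⟨_, h.symm⟩)
        rw [Perm.mul_apply, hx1, hx1, ← hy, ← hye, Perm.mul_apply, sw_apply_other f hj, sw_apply_self] at h1
        exact swap01_ne ey (congrArg Prod.snd (f.injective h1)).symm
    · push Not at hall
      obtain ⟨h0, hh0, hne⟩ := hall
      have hm' : m = 4 := ((hdead h0 hh0).1).resolve_right hne
      -- the conjugates of the pairing involution commute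
      have hzH : z ∈ H := by
        have e : z = (sw f ⟨0, by omega⟩ * sw f ⟨1, by omega⟩) * (sw f ⟨2, by omega⟩ * sw f ⟨3, by omega⟩) := by
          refine Equiv.ext fun x => ?_
          by_cases hx : x ∈ Set.range f
          · obtain ⟨⟨i, e⟩, rfl⟩ := hx
            subst hm'
            fin_cases i <;> simp [hzdef, zinv_apply, sw_apply_self, sw_apply_other]
          · have h1 : ∀ l, sw f l x = x := fun l =>
              swap_apply_of_ne_of_ne (fun h => hx ⟨_, h.symm⟩) (fun h => hx ⟨_, h.symm⟩)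
            rw [hzdef, zinv_fix f hx]
            simp [h1]
        rw [e]
        exact mul_mem (hs _ _ (by simp [Fin.ext_iff])) (hs _ _ (by simp [Fin.ext_iff]))
      have hset : ∀ a ∈ Group.conjugatesOfSet ({(⟨z, hzH⟩ : ↥H)} : Set ↥H), ∀ b ∈ Group.conjugatesOfSet ({(⟨z, hzH⟩ : ↥H)} : Set ↥H),
          a * b = b * a := by
        intro a ha b hb
        obtain ⟨_, rfl, ha⟩ := Group.mem_conjugatesOfSet_iff.1 ha
        obtain ⟨_, rfl, hb⟩ := Group.mem_conjugatesOfSet_iff.1 hb
        obtain ⟨g, rfl⟩ := isConj_iff.1 ha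
        obtain ⟨g', rfl⟩ := isConj_iff.1 hb
        refine Subtype.ext ?_
        have := (hdead _ (mul_mem (inv_mem g'.2) g.2)).2
        simp only [Subgroup.coe_mul, Subgroup.coe_inv]
        calc (g : Perm (Fin n)) * z * (g : Perm (Fin n))⁻¹ * ((g' : Perm (Fin n)) * z * (g' : Perm (Fin n))⁻¹)
            = (g' : Perm (Fin n)) * (((g' : Perm (Fin n))⁻¹ * g) * z * ((g' : Perm (Fin n))⁻¹ * g)⁻¹ * z) *
              (g' : Perm (Fin n))⁻¹ := by group
          _ = (g' : Perm (Fin n)) * (z * (((g' : Perm (Fin n))⁻¹ * g) * z * ((g' : Perm (Fin n))⁻¹ * g)⁻¹)) *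
              (g' : Perm (Fin n))⁻¹ := by rw [this]
          _ = _ := by group
      let V : Subgroup ↥H := Subgroup.normalClosure {⟨z, hzH⟩}
      have hVc : ∀ x ∈ V, ∀ y ∈ V, x * y = y * x := by
        haveI : IsMulCommutative ↥V := Subgroup.isMulCommutative_closure hset
        intro x hx y hy
        exact congrArg Subtype.val (mul_comm' (⟨x, hx⟩ : ↥V) ⟨y, hy⟩)
      have hcent : ∀ k ∈ K, ∀ x, ((k : ↥H) : Perm (Fin n)) (z x) = z (((k : ↥H) : Perm (Fin n)) x) :=
        fun k hk x => (Equiv.ext_iff.1 (congrArg Subtype.val (normal_comm_centralizes hF V hVc ⟨z, hzH⟩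
          (Subgroup.subset_normalClosure rfl) k hk)) x).symm
      -- the action on the four pairs
      have hrg : ∀ k ∈ K, ∀ u, ((k : ↥H) : Perm (Fin n)) (f u) ∈ Set.range f := fun k hk u => by
        by_contra h
        have h1 := hcent k hk (f u)
        rw [hzdef, zinv_fix f h] at h1
        exact zinv_ne f ⟨u, rfl⟩ (((k : ↥H) : Perm (Fin n)).injective h1)
      have hblk : ∀ k : ↥K, ∀ i, ∃ j, ∀ e, ∃ e', ((k : ↥H) : Perm (Fin n)) (f (i, e)) = f (j, e') := by
        intro k i
        obtain ⟨⟨j, e1⟩, hj⟩ := hrg k.1 k.2 (i, 0)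
        refine ⟨j, fun e => ?_⟩
        rcases eq_or_swap01 0 e with rfl | rfl
        · exact ⟨e1, hj.symm⟩
        · exact ⟨swap (0 : Fin 2) 1 e1, by rw [← zinv_apply, ← hzdef, hcent k.1 k.2, ← hj, hzdef, zinv_apply]⟩
      choose blk hblk using hblk
      have hblk_eq : ∀ (k : ↥K) i j e e', ((k : ↥H) : Perm (Fin n)) (f (i, e)) = f (j, e') → blk k i = j := by
        intro k i j e e' h
        obtain ⟨e'', he⟩ := hblk k i e
        exact congrArg Prod.fst (f.injective (he.symm.trans h))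
      have hmul : ∀ (k k' : ↥K) i, blk (k * k') i = blk k (blk k' i) := fun k k' i => by
        obtain ⟨e', he⟩ := hblk k' i 0
        obtain ⟨e'', he'⟩ := hblk k (blk k' i) e'
        refine hblk_eq _ i _ 0 e'' ?_
        show ((k : ↥H) : Perm (Fin n)) (((k' : ↥H) : Perm (Fin n)) (f (i, 0))) = _
        rw [he, he']
      have hone : ∀ i, blk 1 i = i := fun i => hblk_eq 1 i i 0 0 rfl
      let φ : ↥K →* Perm (Fin m) :=
        { toFun := fun k => ⟨blk k, blk k⁻¹, fun i => by rw [← hmul, inv_mul_cancel, hone],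
            fun i => by rw [← hmul, mul_inv_cancel, hone]⟩
          map_one' := Equiv.ext hone
          map_mul' := fun k k' => Equiv.ext (hmul k k') }
      haveI := isSolvable_perm (β := Fin m) (by simp [hm'])
      refine hfix fun k hk x => ?_
      by_cases hx : x ∈ Set.range f
      · obtain ⟨⟨i, e⟩, rfl⟩ := hx
        obtain ⟨e', he⟩ := hblk ⟨k, hk⟩ i e
        rw [show blk ⟨k, hk⟩ i = i from Equiv.ext_iff.1 (perfect_hom_solvable φ ⟨k, hk⟩) i] at he
        rcases eq_or_swap01 e e' with h | h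
        · left; exact he.trans (by rw [h])
        · right; rw [zinv_apply]; exact he.trans (by rw [h])
      · left
        by_contra hne
        have hy : ((k : ↥H) : Perm (Fin n)) x ∈ Set.range f := by
          by_contra h
          exact hne (range_of_card f hcov h hx)
        have h1 := hcent k hk x
        rw [hzdef, zinv_fix f hx] at h1
        exact zinv_ne f hy h1.symm
  -- a maximal set carrying an alternating group
  obtain ⟨ta, tb, tc, hab, hac, hbc, -⟩ := Finset.card_eq_three.mp hτ.card_support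
  obtain ⟨g0, hg0⟩ := isConj_iff.mp (isConj_iff_cycleType_eq.mpr
    ((isThreeCycle_c3 hab hac hbc).cycleType.trans hτ.cycleType.symm))
  rw [c3_conj] at hg0
  obtain ⟨a, b, c, hab, hac, hbc, hτeq⟩ : ∃ a b c, a ≠ b ∧ a ≠ c ∧ b ≠ c ∧ c3 a b c = τ :=
    ⟨_, _, _, g0.injective.ne hab, g0.injective.ne hac, g0.injective.ne hbc, hg0⟩
  have h3 : HasAlt H ({a, b, c} : Finset (Fin n)) := by
    have hmem : c3 a b c ∈ H := hτeq ▸ hτH
    have hmem' : c3 c b a ∈ H := S2245.c3_inv a b c ▸ inv_mem hmem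
    have r1 := S2245.c3_rot hab hac hbc
    have r2 := S2245.c3_rot hbc hab.symm hac.symm
    have r3 := S2245.c3_rot hbc.symm hac.symm hab.symm
    have r4 := S2245.c3_rot hab.symm hbc hac
    intro x hx y hy w hw h1 h2 h3
    simp only [Finset.mem_insert, Finset.mem_singleton] at hx hy hw
    rcases hx with rfl | rfl | rfl <;> rcases hy with rfl | rfl | rfl <;> rcases hw with rfl | rfl | rfl <;>
      first
        | exact absurd rfl h1 | exact absurd rfl h2 | exact absurd rfl h3
        | exact hmem | exact r1 ▸ hmem | exact r2 ▸ r1 ▸ hmem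
        | exact hmem' | exact r3 ▸ hmem' | exact r4 ▸ r3 ▸ hmem'
  have hcard3 : ({a, b, c} : Finset (Fin n)).card = 3 := by simp [hab, hac, hbc]
  obtain ⟨Δ, hΔmem, hΔmax⟩ := Finset.exists_max_image
    (Finset.univ.filter fun A : Finset (Fin n) => HasAlt H A ∧ 3 ≤ A.card ∧ a ∈ A ∧ b ∈ A ∧ c ∈ A) Finset.card
    ⟨{a, b, c}, by simp [h3, hcard3]⟩
  obtain ⟨hΔ, hΔ3, haΔ, hbΔ, hcΔ⟩ := (Finset.mem_filter.1 hΔmem).2
  have hmax : ∀ B : Finset (Fin n), HasAlt H B → 3 ≤ B.card → ∀ x ∈ Δ, x ∈ B → B ⊆ Δ := by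
    intro B hB hB3 x hx hxB
    have := hΔmax (Δ ∪ B) (by
      simp [hΔ.union hB hΔ3 hB3 hx hxB, haΔ, hbΔ, hcΔ]
      exact hΔ3.trans (Finset.card_le_card Finset.subset_union_left))
    have e := Finset.eq_of_subset_of_card_le Finset.subset_union_left this
    exact fun y hy => e ▸ Finset.mem_union_right _ hy
  -- translates are equal or disjoint
  have hblock : ∀ h : ↥H, ∀ x ∈ Δ, (h : Perm (Fin n)) x ∈ Δ → ∀ y ∈ Δ, (h : Perm (Fin n)) y ∈ Δ := by
    intro h x hx hhx y hy
    refine hmax (Δ.image (h : Perm (Fin n))) ?_ ?_ _ hhx (Finset.mem_image_of_mem _ hx) (Finset.mem_image_of_mem _ hy)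
    · intro p hp q hq r hr h1 h2 h3
      obtain ⟨p, hp', rfl⟩ := Finset.mem_image.1 hp
      obtain ⟨q, hq', rfl⟩ := Finset.mem_image.1 hq
      obtain ⟨r, hr', rfl⟩ := Finset.mem_image.1 hr
      rw [← c3_conj]
      exact mul_mem (mul_mem h.2 (hΔ p hp' q hq' r hr' (fun e => h1 (e ▸ rfl)) (fun e => h2 (e ▸ rfl))
        (fun e => h3 (e ▸ rfl)))) (inv_mem h.2)
    · rw [Finset.card_image_of_injective _ (h : Perm (Fin n)).injective]; exact hΔ3
  -- elements preserving every translate
  let T : Subgroup ↥H :=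
    { carrier := {g | ∀ h : ↥H, ∀ x, x ∈ Δ ↔ ((h⁻¹ * g * h : ↥H) : Perm (Fin n)) x ∈ Δ}
      one_mem' := fun h x => by simp
      mul_mem' := fun {g g'} hg hg' h x => by
        rw [show h⁻¹ * (g * g') * h = (h⁻¹ * g * h) * (h⁻¹ * g' * h) by group, Subgroup.coe_mul, Perm.mul_apply]
        exact (hg' h x).trans (hg h _)
      inv_mem' := fun {g} hg h x => by
        rw [show h⁻¹ * g⁻¹ * h = (h⁻¹ * g * h)⁻¹ by group, Subgroup.coe_inv]
        have := hg h ((((h⁻¹ * g * h : ↥H)) : Perm (Fin n))⁻¹ x)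
        rw [app_inv] at this
        exact this.symm }
  have hTn : T.Normal := ⟨fun g hg u h x => by
    rw [show h⁻¹ * (u * g * u⁻¹) * h = (u⁻¹ * h)⁻¹ * g * (u⁻¹ * h) by group]
    exact hg _ x⟩
  have hτT : (⟨τ, hτH⟩ : ↥H) ∈ T := by
    intro h x
    -- the conjugate is supported on one translate
    have hval : ((h⁻¹ * ⟨τ, hτH⟩ * h : ↥H) : Perm (Fin n)) =
        c3 ((h : Perm (Fin n))⁻¹ a) ((h : Perm (Fin n))⁻¹ b) ((h : Perm (Fin n))⁻¹ c) := by
      rw [← c3_conj, inv_inv, hτeq]
      rfl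
    rw [hval]
    set a' := (h : Perm (Fin n))⁻¹ a with ha'
    set b' := (h : Perm (Fin n))⁻¹ b with hb'
    set c' := (h : Perm (Fin n))⁻¹ c with hc'
    have hab' : a' ≠ b' := ((h : Perm (Fin n))⁻¹).injective.ne hab
    have hac' : a' ≠ c' := ((h : Perm (Fin n))⁻¹).injective.ne hac
    have hbc' : b' ≠ c' := ((h : Perm (Fin n))⁻¹).injective.ne hbc
    have hiff : (a' ∈ Δ ↔ b' ∈ Δ) ∧ (a' ∈ Δ ↔ c' ∈ Δ) := by
      have key : ∀ p ∈ Δ, ∀ q ∈ Δ, (h : Perm (Fin n))⁻¹ p ∈ Δ → (h : Perm (Fin n))⁻¹ q ∈ Δ :=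
        fun p hp q hq hh => hblock h⁻¹ p hp hh q hq
      exact ⟨⟨key a haΔ b hbΔ, key b hbΔ a haΔ⟩, ⟨key a haΔ c hcΔ, key c hcΔ a haΔ⟩⟩
    by_cases h1 : x = a'
    · subst h1; rw [c3_apply1 hab' hac']; exact hiff.1
    by_cases h2 : x = b'
    · subst h2; rw [c3_apply2 hac' hbc', ← hiff.1, hiff.2]
    by_cases h3 : x = c'
    · subst h3; rw [c3_apply3]; exact hiff.2.symm
    · rw [c3_apply_ne h1 h2 h3]
  -- `K` lies in it
  have hKT : K ≤ T := by
    rcases ComponentsBasic.normal_le_center_or_eq_top hF (T.subgroupOf K) with h | h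
    · exfalso
      have hcom : ∀ k ∈ K, (⟨τ, hτH⟩ : ↥H) * k = k * ⟨τ, hτH⟩ := commute_of_central hF _ fun k hk => by
        have h1 : (⟨τ, hτH⟩ : ↥H) * k * (⟨τ, hτH⟩ : ↥H)⁻¹ * k⁻¹ ∈ K :=
          mul_mem (hKn.conj_mem k hk _) (inv_mem hk)
        have h2 : (⟨τ, hτH⟩ : ↥H) * k * (⟨τ, hτH⟩ : ↥H)⁻¹ * k⁻¹ ∈ T := by
          rw [mul_assoc, mul_assoc]
          exact mul_mem hτT (by simpa [mul_assoc] using hTn.conj_mem _ (inv_mem hτT) k)
        exact ⟨h1, fun k' hk' => congrArg Subtype.val (Subgroup.mem_center_iff.1 (h (x := ⟨_, h1⟩) h2) ⟨k', hk'⟩)⟩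
      have hτK := mem_of_commute _ hcom
      -- `K` centralizes `τ`, so fixes its three points
      have hmv : ∀ x, x ≠ a → x ≠ b → x ≠ c → τ x = x := fun x h1 h2 h3 => by
        rw [← hτeq]; exact c3_apply_ne h1 h2 h3
      have hta : τ a = b := by rw [← hτeq]; exact c3_apply1 hab hac
      have hpres : ∀ k ∈ K, ∀ x ∈ ({a, b, c} : Finset (Fin n)),
          ((k : ↥H) : Perm (Fin n)) x ∈ ({a, b, c} : Finset (Fin n)) := by
        intro k hk x hx
        by_contra hc'
        simp only [Finset.mem_insert, Finset.mem_singleton, not_or] at hc'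
        have h1 := Equiv.ext_iff.1 (congrArg Subtype.val (hcom k hk)) x
        simp only [Subgroup.coe_mul, Perm.mul_apply] at h1
        rw [hmv _ hc'.1 hc'.2.1 hc'.2.2] at h1
        have hfx := ((k : ↥H) : Perm (Fin n)).injective h1.symm
        simp only [Finset.mem_insert, Finset.mem_singleton] at hx
        rw [← hτeq] at hfx
        rcases hx with rfl | rfl | rfl
        · rw [c3_apply1 hab hac] at hfx; exact hab hfx.symm
        · rw [c3_apply2 hac hbc] at hfx; exact hbc hfx.symm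
        · rw [c3_apply3] at hfx; exact hac hfx
      let φ : ↥K →* Perm {x // x ∈ ({a, b, c} : Finset (Fin n))} :=
        { toFun := fun k =>
            { toFun := fun x => ⟨((k : ↥H) : Perm (Fin n)) x, hpres k k.2 x x.2⟩
              invFun := fun x => ⟨(((k⁻¹ : ↥K) : ↥H) : Perm (Fin n)) x, hpres _ (inv_mem k.2) x x.2⟩
              left_inv := fun x => Subtype.ext (inv_app _ _)
              right_inv := fun x => Subtype.ext (app_inv _ _) }
          map_one' := Equiv.ext fun x => Subtype.ext rfl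
          map_mul' := fun k k' => Equiv.ext fun x => Subtype.ext rfl }
      haveI := isSolvable_perm (β := {x // x ∈ ({a, b, c} : Finset (Fin n))}) (by rw [Nat.card_eq_fintype_card, Fintype.card_coe, hcard3]; omega)
      have := congrArg Subtype.val (Equiv.ext_iff.1 (perfect_hom_solvable φ ⟨_, hτK⟩) ⟨a, by simp⟩)
      exact hab ((show τ a = a from this).symm.trans hta)
    · exact Subgroup.subgroupOf_eq_top.1 h
  have hKΔ : ∀ k ∈ K, ∀ x, x ∈ Δ ↔ ((k : ↥H) : Perm (Fin n)) x ∈ Δ := fun k hk x => by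
    have := hKT hk 1 x
    simpa using this
  -- the alternating group on Δ
  let ι : ↥(alternatingGroup {x // x ∈ Δ}) →* Perm (Fin n) :=
    (ofSubtype).comp (alternatingGroup {x // x ∈ Δ}).subtype
  have hιH : ∀ g, ι g ∈ H := by
    intro g
    have h1 : HasAlt (H.comap (ofSubtype : Perm {x // x ∈ Δ} →* Perm (Fin n))) Finset.univ := by
      intro p _ q _ r _ h1 h2 h3
      rw [Subgroup.mem_comap, c3, map_mul, ofSubtype_swap_eq, ofSubtype_swap_eq]
      exact hΔ p p.2 q q.2 r r.2 (fun e => h1 (Subtype.ext e)) (fun e => h2 (Subtype.ext e))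
        (fun e => h3 (Subtype.ext e))
    exact h1.le_alt g.2
  let ι' : ↥(alternatingGroup {x // x ∈ Δ}) →* ↥H := ι.codRestrict H hιH
  have hιinj : Function.Injective ι' := fun g g' h =>
    Subtype.ext (ofSubtype_injective (congrArg Subtype.val h : _))
  have hιfix : ∀ g x, x ∉ Δ → ((ι' g : ↥H) : Perm (Fin n)) x = x := fun g x hx =>
    ofSubtype_apply_of_not_mem (p := (· ∈ Δ)) (g : Perm {x // x ∈ Δ}) hx
  set AΔ := ι'.range with hAΔ
  -- conjugation by an element fixing Δ
  have hAconj : ∀ h : ↥H, (∀ x, x ∈ Δ ↔ (h : Perm (Fin n)) x ∈ Δ) → ∀ a ∈ AΔ, h * a * h⁻¹ ∈ AΔ := by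
    rintro h hh _ ⟨g, rfl⟩
    let hr : Perm {x // x ∈ Δ} := (h : Perm (Fin n)).subtypePerm fun x => (hh x).symm
    refine ⟨⟨hr * g * hr⁻¹, by
      rw [mem_alternatingGroup, map_mul, map_mul, map_inv, mul_comm (sign hr), mul_inv_cancel_right]
      exact g.2⟩, Subtype.ext (Equiv.ext fun x => ?_)⟩
    show ofSubtype (hr * (g : Perm {x // x ∈ Δ}) * hr⁻¹) x =
      ((h : Perm (Fin n)) * ofSubtype (g : Perm {x // x ∈ Δ}) * (h : Perm (Fin n))⁻¹) x
    by_cases hx : x ∈ Δ
    · rw [ofSubtype_apply_of_mem _ hx, Perm.mul_apply, Perm.mul_apply, Perm.mul_apply, Perm.mul_apply]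
      have hy : (h : Perm (Fin n))⁻¹ x ∈ Δ := by rw [hh, app_inv]; exact hx
      rw [ofSubtype_apply_of_mem _ hy]
      simp [hr]
    · rw [ofSubtype_apply_of_not_mem (p := (· ∈ Δ)) _ hx, Perm.mul_apply, Perm.mul_apply]
      have hy : (h : Perm (Fin n))⁻¹ x ∉ Δ := by rw [hh, app_inv]; exact hx
      rw [ofSubtype_apply_of_not_mem (p := (· ∈ Δ)) _ hy, app_inv]
  -- Δ has at least five points
  have hΔ5 : 5 ≤ Δ.card := by
    by_contra hlt
    let φ : ↥K →* Perm {x // x ∈ Δ} :=
      { toFun := fun k => ((k : ↥H) : Perm (Fin n)).subtypePerm fun x => (hKΔ k k.2 x).symm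
        map_one' := Equiv.ext fun x => Subtype.ext rfl
        map_mul' := fun k k' => Equiv.ext fun x => Subtype.ext rfl }
    haveI := isSolvable_perm (β := {x // x ∈ Δ}) (by simp; omega)
    have hfixΔ : ∀ k ∈ K, ∀ x ∈ Δ, ((k : ↥H) : Perm (Fin n)) x = x := fun k hk x hx =>
      congrArg Subtype.val (Equiv.ext_iff.1 (perfect_hom_solvable φ ⟨k, hk⟩) ⟨x, hx⟩)
    have hcom : ∀ k ∈ K, (⟨τ, hτH⟩ : ↥H) * k = k * ⟨τ, hτH⟩ := fun k hk => Subtype.ext <| by
      show τ * ((k : ↥H) : Perm (Fin n)) = ((k : ↥H) : Perm (Fin n)) * τ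
      rw [← mul_inv_eq_iff_eq_mul.1 (show ((k : ↥H) : Perm (Fin n)) * τ * ((k : ↥H) : Perm (Fin n))⁻¹ = τ by
        rw [← hτeq, c3_conj, hfixΔ k hk a haΔ, hfixΔ k hk b hbΔ, hfixΔ k hk c hcΔ])]
    have := hfixΔ _ (mem_of_commute _ hcom) a haΔ
    exact hab (((show τ a = a from this)).symm.trans (by rw [← hτeq]; exact c3_apply1 hab hac))
  haveI hsimp : IsSimpleGroup ↥(alternatingGroup {x // x ∈ Δ}) := alternatingGroup.isSimpleGroup (by simp; omega)
  -- it is `K`
  have hKA : K = AΔ := by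
    haveI hsub : (K.comap ι').Normal := hKn.comap ι'
    rcases hsub.eq_bot_or_eq_top with h | h
    · exfalso
      have hcomA : ∀ g, ∀ k ∈ K, ι' g * k = k * ι' g := by
        intro g k hk
        have h1 : ι' g * k * (ι' g)⁻¹ * k⁻¹ ∈ K := mul_mem (hKn.conj_mem k hk _) (inv_mem hk)
        have h2 : ι' g * k * (ι' g)⁻¹ * k⁻¹ ∈ AΔ := by
          rw [mul_assoc, mul_assoc]
          exact mul_mem ⟨g, rfl⟩ (by simpa [mul_assoc] using hAconj k (hKΔ k hk) _ (inv_mem ⟨g, rfl⟩))
        obtain ⟨g', hg'⟩ := h2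
        have : g' ∈ K.comap ι' := Subgroup.mem_comap.2 (hg' ▸ h1)
        rw [h, Subgroup.mem_bot] at this
        rw [this, map_one] at hg'
        exact mul_inv_eq_iff_eq_mul.1 (mul_inv_eq_one.1 hg'.symm)
      obtain ⟨g, hg⟩ := exists_ne (1 : ↥(alternatingGroup {x // x ∈ Δ}))
      have : g ∈ K.comap ι' := mem_of_commute _ (hcomA g)
      rw [h, Subgroup.mem_bot] at this
      exact hg this
    · have hle : AΔ ≤ K := by
        rintro _ ⟨g, rfl⟩
        have : g ∈ K.comap ι' := h ▸ Subgroup.mem_top g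
        exact this
      haveI : (AΔ.subgroupOf K).Normal := ⟨fun u hu k => hAconj k.1 (hKΔ k.1 k.2) u.1 hu⟩
      rcases ComponentsBasic.normal_le_center_or_eq_top hF (AΔ.subgroupOf K) with h2 | h2
      · exfalso
        have hcomm : IsMulCommutative ↥(alternatingGroup {x // x ∈ Δ}) := ⟨⟨fun g g' => hιinj (by
          rw [map_mul, map_mul]
          exact (congrArg Subtype.val (Subgroup.mem_center_iff.1 (h2 (x := ⟨ι' g', hle ⟨g', rfl⟩⟩) ⟨g', rfl⟩)
            ⟨ι' g, hle ⟨g, rfl⟩⟩)))⟩⟩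
        have e1 := hcomm.is_comm.comm
          ⟨c3 ⟨a, haΔ⟩ ⟨b, hbΔ⟩ ⟨c, hcΔ⟩, S2245.c3_mem_alt (Subtype.coe_ne_coe.1 hab) (Subtype.coe_ne_coe.1 hbc)⟩
        obtain ⟨w, hw⟩ : (((Δ.erase a).erase b).erase c).Nonempty := by
          rw [← Finset.card_pos]
          have := Finset.pred_card_le_card_erase (s := Δ) (a := a)
          have := Finset.pred_card_le_card_erase (s := Δ.erase a) (a := b)
          have := Finset.pred_card_le_card_erase (s := (Δ.erase a).erase b) (a := c)
          omega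
        simp only [Finset.mem_erase] at hw
        obtain ⟨hwc, hwb, hwa, hwΔ⟩ := hw
        have e2 := congrArg Subtype.val (e1
          ⟨c3 ⟨a, haΔ⟩ ⟨b, hbΔ⟩ ⟨w, hwΔ⟩, S2245.c3_mem_alt (Subtype.coe_ne_coe.1 hab) (Subtype.coe_ne_coe.1 (Ne.symm hwb))⟩)
        have e3 := Equiv.ext_iff.1 e2 ⟨a, haΔ⟩
        simp only [Subgroup.coe_mul, Perm.mul_apply] at e3
        rw [c3_apply1 (Subtype.coe_ne_coe.1 hab) (Subtype.coe_ne_coe.1 (Ne.symm hwa)),
          c3_apply2 (Subtype.coe_ne_coe.1 hac) (Subtype.coe_ne_coe.1 hbc),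
          c3_apply1 (Subtype.coe_ne_coe.1 hab) (Subtype.coe_ne_coe.1 hac),
          c3_apply2 (Subtype.coe_ne_coe.1 (Ne.symm hwa)) (Subtype.coe_ne_coe.1 (Ne.symm hwb))] at e3
        exact hwc (congrArg Subtype.val e3).symm
      · exact le_antisymm (Subgroup.subgroupOf_eq_top.1 h2) hle
  -- the count
  have hcount : n ≤ Δ.card + 3 := by
    -- `H` fixes Δ
    have hHΔ : ∀ h : ↥H, ∀ x ∈ Δ, (h : Perm (Fin n)) x ∈ Δ := by
      intro h x hx
      by_contra hout
      obtain ⟨y, hy, hyx⟩ := Finset.exists_mem_ne (s := Δ) (by omega) x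
      obtain ⟨w, hw⟩ : ((Δ.erase x).erase y).Nonempty := by
        rw [← Finset.card_pos, Finset.card_erase_of_mem (Finset.mem_erase.2 ⟨hyx, hy⟩), Finset.card_erase_of_mem hx]
        omega
      simp only [Finset.mem_erase] at hw
      obtain ⟨hwy, hwx, hwΔ⟩ := hw
      have hmem : (⟨c3 x y w, hΔ x hx y hy w hwΔ hyx.symm hwx.symm hwy.symm⟩ : ↥H) ∈ K := by
        rw [hKA]
        refine ⟨⟨c3 ⟨x, hx⟩ ⟨y, hy⟩ ⟨w, hwΔ⟩, S2245.c3_mem_alt (fun e => hyx (congrArg Subtype.val e).symm)
          (fun e => hwy (congrArg Subtype.val e).symm)⟩, Subtype.ext ?_⟩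
        show ofSubtype (c3 (⟨x, hx⟩ : {x // x ∈ Δ}) ⟨y, hy⟩ ⟨w, hwΔ⟩) = c3 x y w
        rw [c3, map_mul, ofSubtype_swap_eq, ofSubtype_swap_eq]; rfl
      have h2 := hKn.conj_mem _ hmem h
      rw [hKA] at h2
      obtain ⟨g, hg⟩ := h2
      have h3 := hιfix g _ hout
      rw [hg] at h3
      simp only [Subgroup.coe_mul, Subgroup.coe_inv, Perm.mul_apply, inv_app] at h3
      rw [c3_apply1 hyx.symm hwx.symm] at h3
      exact hyx ((h : Perm (Fin n)).injective h3)
    have houtB : ∀ i j, i ≠ j → (f (i, 0) ∈ Δ ∨ f (j, 0) ∈ Δ) := by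
      intro i j hij
      by_contra hc'
      push Not at hc'
      have hpair : ∀ l l' : Fin m, l ≠ l' → f (l, 0) ∉ Δ → f (l, 1) ∉ Δ := by
        intro l l' hl h0 h1
        refine h0 ?_
        have := hHΔ ⟨_, hs l l' hl⟩ _ h1
        rwa [Subgroup.coe_mk, Perm.mul_apply, sw_apply_other f hl.symm, sw_apply_self, swap_apply_right] at this
      have hfx : ∀ x ∈ Δ, (sw f i * sw f j) x = x := fun x hx => by
        have n1 : x ≠ f (j, 0) := fun e => hc'.2 (e ▸ hx)
        have n2 : x ≠ f (j, 1) := fun e => hpair j i hij.symm hc'.2 (e ▸ hx)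
        have n3 : x ≠ f (i, 0) := fun e => hc'.1 (e ▸ hx)
        have n4 : x ≠ f (i, 1) := fun e => hpair i j hij hc'.1 (e ▸ hx)
        rw [Perm.mul_apply, sw, sw, swap_apply_of_ne_of_ne n1 n2, swap_apply_of_ne_of_ne n3 n4]
      have hmemK : (⟨_, hs i j hij⟩ : ↥H) ∈ K := by
        refine mem_of_commute _ fun k hk => ?_
        rw [show generalizedFittingSubgroup ↥H = AΔ from hKA] at hk
        obtain ⟨g, rfl⟩ := hk
        refine Subtype.ext (Equiv.ext fun x => ?_)
        simp only [Subgroup.coe_mul, Perm.mul_apply]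
        have key : ∀ x, x ∈ Δ → ((ι' g : ↥H) : Perm (Fin n)) x ∈ Δ := fun x hx => hHΔ (ι' g) x hx
        by_cases hx : x ∈ Δ
        · rw [← Perm.mul_apply (sw f i) (sw f j), hfx _ (key x hx), ← Perm.mul_apply (sw f i) (sw f j), hfx x hx]
        · rw [hιfix g x hx, hιfix g]
          intro hx'
          apply hx
          have h2 : (sw f i * sw f j) x = x := (sw f i * sw f j).injective (hfx _ hx')
          rw [Perm.mul_apply] at h2
          rwa [h2] at hx'
      rw [hKA] at hmemK
      obtain ⟨g, hg⟩ := hmemK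
      have := hιfix g (f (i, 0)) hc'.1
      rw [hg, Subgroup.coe_mk, Perm.mul_apply, sw_apply_other f hij.symm, sw_apply_self] at this
      exact swap01_ne 0 (congrArg Prod.snd (f.injective this))
    have hpair : ∀ l : Fin m, f (l, 0) ∈ Δ → f (l, 1) ∈ Δ := by
      intro l h0
      obtain ⟨l', hl'⟩ : ∃ l' : Fin m, l' ≠ l := Fintype.exists_ne_of_one_lt_card (by simp; omega) l
      have := hHΔ ⟨_, hs l l' hl'.symm⟩ _ h0
      rwa [Subgroup.coe_mk, Perm.mul_apply, sw_apply_other f hl', sw_apply_self, swap_apply_left] at this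
    let out : Finset (Fin m) := Finset.univ.filter fun i => f (i, 0) ∉ Δ
    have hout : out.card ≤ 1 := Finset.card_le_one.2 fun i hi j hj => by
      by_contra hne
      simp only [out, Finset.mem_filter] at hi hj
      exact (houtB i j hne).elim hi.2 hj.2
    have hsub : Finset.univ ⊆ Δ ∪ (out ×ˢ Finset.univ).image f ∪ (Finset.univ.filter fun x => x ∉ Set.range f) := by
      intro x _
      by_cases hx : x ∈ Set.range f
      · obtain ⟨⟨i, e⟩, rfl⟩ := hx
        refine Finset.mem_union_left _ ?_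
        by_cases hi : f (i, 0) ∈ Δ
        · refine Finset.mem_union_left _ ?_
          rcases eq_or_swap01 0 e with rfl | rfl
          · exact hi
          · rw [swap_apply_left]; exact hpair i hi
        · exact Finset.mem_union_right _ (Finset.mem_image_of_mem _ (by simp [out, hi]))
      · exact Finset.mem_union_right _ (by simpa using hx)
    have h1 := (Finset.card_le_card hsub).trans ((Finset.card_union_le _ _).trans
      (Nat.add_le_add_right (Finset.card_union_le _ _) _))
    have h2 : (Finset.univ.filter fun x => x ∉ Set.range f).card ≤ 1 := Finset.card_le_one.2 fun x hx y hy => by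
      simp only [Finset.mem_filter] at hx hy
      exact range_of_card f hcov hx.2 hy.2
    have h3 : ((out ×ˢ (Finset.univ : Finset (Fin 2))).image f).card ≤ 2 := by
      rw [Finset.card_image_of_injective _ f.injective, Finset.card_product, Finset.card_univ, Fintype.card_fin]
      omega
    simp only [Finset.card_univ, Fintype.card_fin] at h1
    omega
  refine ⟨Δ.card, ?_, ⟨?_⟩⟩
  · have := Finset.card_le_univ Δ
    simp at this
    omega
  · exact ((MulEquiv.subgroupCongr hKA).trans (MonoidHom.ofInjective hιinj).symm).trans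
      (Equiv.altCongrHom (Δ.equivFin))

end Cfsg.Agent.S2928
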