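import Cfsg.Statements.S2930
import Cfsg.Agent.S2790
import Cfsg.Agent.S4231
import Cfsg.Agent.Lib.ComponentsFitting

set_option autoImplicit false
open Cfsg

namespace Cfsg.Agent.S2930

open Equiv Equiv.Perm
open scoped Pointwise

/-- Permutations preserving the partition given by `e` into the fibres over `β`. -/
def W {α β γ : Type*} (e : β × γ ≃ α) : Subgroup (Perm α) where
  carrier := {σ | ∃ (π : Perm β) (f : β → Perm γ), ∀ b c, σ (e (b, c)) = e (π b, f b c)}
  one_mem' := ⟨1, 1, fun b c => rfl⟩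
  mul_mem' := by
    rintro σ τ ⟨π, f, h⟩ ⟨π', f', h'⟩
    exact ⟨π * π', fun b => f (π' b) * f' b, fun b c => by simp [mul_apply, h', h]⟩
  inv_mem' := by
    rintro σ ⟨π, f, h⟩
    refine ⟨π⁻¹, fun b => (f (π⁻¹ b))⁻¹, fun b c => ?_⟩
    rw [Perm.inv_eq_iff_eq, h]
    simp

theorem card_W {α β γ : Type*} (e : β × γ ≃ α) [Fintype β] [Finite γ] [Nonempty γ] :
    Nat.card (W e) = (Nat.card β).factorial * (Nat.card γ).factorial ^ Nat.card β := by
  let F : Perm β × (β → Perm γ) → W e := fun x => ⟨e.permCongr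
      ⟨fun y => (x.1 y.1, x.2 y.1 y.2), fun y => (x.1.symm y.1, (x.2 (x.1.symm y.1)).symm y.2),
        fun y => by simp, fun y => by simp⟩, x.1, x.2, fun b c => by simp [Equiv.permCongr_apply]⟩
  have hF : Function.Bijective F := by
    refine ⟨fun x y h => ?_, fun s => ?_⟩
    · have h' : ∀ b c, (x.1 b, x.2 b c) = (y.1 b, y.2 b c) := fun b c => by
        simpa [F, Equiv.permCongr_apply] using congrArg (fun s : W e => (s : Perm α) (e (b, c))) h
      obtain ⟨c₀⟩ := ‹Nonempty γ›
      exact Prod.ext (Equiv.ext fun b => congrArg Prod.fst (h' b c₀))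
        (funext fun b => Equiv.ext fun c => congrArg Prod.snd (h' b c))
    · obtain ⟨π, f, h⟩ := s.2
      refine ⟨(π, f), Subtype.ext (Equiv.ext fun a => ?_)⟩
      obtain ⟨⟨b, c⟩, rfl⟩ := e.surjective a
      simp [F, Equiv.permCongr_apply, h]
  rw [← Nat.card_eq_of_bijective F hF, Nat.card_prod, Nat.card_pi]
  simp [Nat.card_perm]

/-- A 3-group of permutations preserves some partition of each of the two shapes. -/
theorem exists_partition {n k r : ℕ} (hn : n = k * r) (hr : r ≠ 0)
    (hv : padicValNat 3 n.factorial = padicValNat 3 k.factorial + k * padicValNat 3 r.factorial)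
    (P : Subgroup (Perm (Fin n))) (hP : IsPGroup 3 P) :
    ∃ e : Fin k × Fin r ≃ Fin n, P ≤ W e := by
  haveI : Fact (Nat.Prime 3) := ⟨Nat.prime_three⟩
  haveI : Nonempty (Fin r) := ⟨⟨0, Nat.pos_of_ne_zero hr⟩⟩
  let e₀ : Fin k × Fin r ≃ Fin n := finProdFinEquiv.trans (finCongr hn.symm)
  set H := W e₀
  have hidx : ¬ 3 ∣ Nat.card (Perm (Fin n) ⧸ H) := by
    intro hd
    have hc := congrArg (padicValNat 3) (Subgroup.card_mul_index H)
    have hi : H.index ≠ 0 := Subgroup.index_ne_zero_of_finite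
    have h1 := one_le_padicValNat_of_dvd hi hd
    rw [padicValNat.mul Nat.card_pos.ne' hi, card_W, Nat.card_perm] at hc
    simp only [Nat.card_fin] at hc
    rw [padicValNat.mul (Nat.factorial_ne_zero _) (pow_ne_zero _ (Nat.factorial_ne_zero _)),
      padicValNat.pow r.factorial k] at hc
    omega
  obtain ⟨q, hq⟩ := hP.nonempty_fixed_point_of_prime_not_dvd_card (Perm (Fin n) ⧸ H) hidx
  induction q using QuotientGroup.induction_on with
  | H g =>
    refine ⟨e₀.trans g, fun s hs => ?_⟩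
    have hq' := hq ⟨s, hs⟩
    change ((s * g : Perm (Fin n)) : Perm (Fin n) ⧸ H) = (g : Perm (Fin n) ⧸ H) at hq'
    rw [eq_comm, QuotientGroup.eq] at hq'
    obtain ⟨π, f, h⟩ := hq'
    refine ⟨π, f, fun b c => ?_⟩
    have := congrArg g (h b c)
    simpa [mul_apply, smul_eq_mul] using this

/-- `K` is full in `Q`: every 3-cycle supported in `K` is in `Q`. -/
def Full {n : ℕ} (Q : Subgroup (Perm (Fin n))) (K : Set (Fin n)) : Prop :=
  ∀ σ : Perm (Fin n), σ.IsThreeCycle → (∀ a, σ a ≠ a → a ∈ K) → σ ∈ Q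

theorem exists_threeCycle {n : ℕ} {a b c : Fin n} (hab : a ≠ b) (hac : a ≠ c) (hbc : b ≠ c) :
    ∃ σ : Perm (Fin n), σ.IsThreeCycle ∧ σ a = b ∧ ∀ x, σ x ≠ x → x = a ∨ x = b ∨ x = c := by
  refine ⟨swap a c * swap a b, isThreeCycle_swap_mul_swap_same hac hab (Ne.symm hbc), ?_, fun x hx => ?_⟩
  · simp [mul_apply, swap_apply_of_ne_of_ne (Ne.symm hab) hbc]
  · by_contra h
    push Not at h
    exact hx (by simp [mul_apply, swap_apply_of_ne_of_ne, h.1, h.2.1, h.2.2])

/-- A subgroup containing a point stabiliser and moving the point is everything. -/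
theorem all_of_point {n : ℕ} (hn : 5 ≤ n) (Q : Subgroup (Perm (Fin n))) (p : Fin n)
    (hp : Full Q {x | x ≠ p}) (g : Perm (Fin n)) (hg : g ∈ Q) (hgp : g p ≠ p) :
    alternatingGroup (Fin n) ≤ Q := by
  classical
  rw [← closure_three_cycles_eq_alternating, Subgroup.closure_le]
  intro c hc
  by_cases hcp : c p = p
  · exact hp c hc fun a ha hap => ha (hap ▸ hcp)
  · -- move `p` out of the support
    set q := g⁻¹ p with hq
    have hqp : q ≠ p := fun h => hgp (by rw [← congrArg g h, hq]; simp)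
    obtain ⟨s, hs, hsp⟩ : ∃ s, c s = s ∧ s ≠ p := by
      by_contra h
      push Not at h
      have : (Finset.univ : Finset (Fin n)) ⊆ c.support := fun s _ => by
        rw [mem_support]; intro hs; exact hcp (h s hs ▸ hs)
      have := Finset.card_le_card this
      rw [Finset.card_univ, Fintype.card_fin, hc.card_support] at this
      omega
    obtain ⟨k, hk, hkp, hkq⟩ : ∃ k ∈ Q, k p = p ∧ k q = s := by
      rcases eq_or_ne q s with h | h
      · exact ⟨1, one_mem _, rfl, h⟩
      obtain ⟨t, ht⟩ : ∃ t : Fin n, t ∉ ({p, q, s} : Finset (Fin n)) := by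
        exact (Finset.exists_mem_notMem_of_card_lt_card (s := ({p, q, s} : Finset (Fin n))) (t := Finset.univ)
          (lt_of_le_of_lt Finset.card_le_three (by simp; omega))).imp fun t ht => ht.2
      simp only [Finset.mem_insert, Finset.mem_singleton, not_or] at ht
      obtain ⟨k, hk3, hkq, hks⟩ := exists_threeCycle h (Ne.symm ht.2.1) (Ne.symm ht.2.2)
      refine ⟨k, hp k hk3 fun a ha => ?_, ?_, hkq⟩
      · rcases hks a ha with rfl | rfl | rfl
        exacts [hqp, hsp, ht.1]
      · by_contra hkp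
        rcases hks p hkp with h' | h' | h'
        exacts [hqp h'.symm, hsp h'.symm, ht.1 h'.symm]
    set g' := g * k⁻¹
    have hg' : g' ∈ Q := mul_mem hg (inv_mem hk)
    have hg's : g' s = p := by
      have : k⁻¹ s = q := by rw [Perm.inv_eq_iff_eq, hkq]
      simp [g', mul_apply, this, hq]
    have hd : g' * c * g'⁻¹ ∈ Q := by
      refine hp _ (by rw [IsThreeCycle, cycleType_conj]; exact hc) fun a ha hap => ha ?_
      subst hap
      have : g'⁻¹ a = s := by rw [Perm.inv_eq_iff_eq, hg's]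
      simp [mul_apply, this, hs, hg's]
    simpa [mul_assoc] using mul_mem (mul_mem (inv_mem hg') hd) hg'

/-- The 3-cycles supported in one fibre. -/
theorem full_fibre {n k r : ℕ} (e : Fin k × Fin r ≃ Fin n) (b : Fin k) :
    Full (W e) {x | (e.symm x).1 = b} := by
  intro σ _ hσ
  have key : ∀ x, (e.symm (σ x)).1 = (e.symm x).1 := by
    intro x
    by_cases hx : σ x = x
    · rw [hx]
    · rw [show (e.symm x).1 = b from hσ x hx,
        show (e.symm (σ x)).1 = b from hσ (σ x) (fun h => hx (σ.injective h))]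
  refine ⟨1, fun b => Equiv.ofBijective (fun c => (e.symm (σ (e (b, c)))).2)
    (Finite.injective_iff_bijective.1 fun c c' h => ?_), fun b c => ?_⟩
  · have h1 := key (e (b, c)); have h2 := key (e (b, c'))
    simp only [Equiv.symm_apply_apply] at h1 h2
    simpa using σ.injective (e.symm.injective (Prod.ext (h1.trans h2.symm) h))
  · apply e.symm.injective
    have h1 := key (e (b, c))
    simp only [Equiv.symm_apply_apply] at h1 ⊢
    exact Prod.ext h1 rfl

theorem not_le_W {n k r : ℕ} (hk : 2 ≤ k) (hr : 2 ≤ r) (e : Fin k × Fin r ≃ Fin n) :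
    ¬ alternatingGroup (Fin n) ≤ W e := by
  intro h
  let b0 : Fin k := ⟨0, by omega⟩
  let b1 : Fin k := ⟨1, by omega⟩
  let c0 : Fin r := ⟨0, by omega⟩
  let c1 : Fin r := ⟨1, by omega⟩
  have hb : b0 ≠ b1 := by simp [b0, b1, Fin.ext_iff]
  have hc : c0 ≠ c1 := by simp [c0, c1, Fin.ext_iff]
  obtain ⟨σ, h3, h1, hs⟩ := exists_threeCycle (a := e (b0, c0)) (b := e (b1, c0)) (c := e (b1, c1))
    (by simp [hb]) (by simp [hb]) (by simp [hc])
  obtain ⟨π, f, hπ⟩ := h h3.mem_alternatingGroup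
  have e1 : π b0 = b1 := by
    have := hπ b0 c0; rw [h1] at this
    exact (congrArg Prod.fst (e.injective this)).symm
  have e2 : π b0 = b0 := by
    have := hπ b0 c1
    rw [show σ (e (b0, c1)) = e (b0, c1) by
      by_contra hne
      rcases hs _ hne with h | h | h <;> simp [hb, hc.symm] at h] at this
    exact (congrArg Prod.fst (e.injective this)).symm
  exact hb (e2.symm.trans e1)

/-- A subgroup containing the even permutations of a partition into triples and a full set of size at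
least four contains the alternating group. -/
theorem all_of_partition {n m : ℕ} (hm : 4 ≤ m) (e : Fin m × Fin 3 ≃ Fin n)
    (Q : Subgroup (Perm (Fin n))) (hQ : W e ⊓ alternatingGroup (Fin n) ≤ Q)
    (K : Finset (Fin n)) (hK : Full Q ↑K) (hK4 : 4 ≤ K.card) :
    alternatingGroup (Fin n) ≤ Q := by
  classical
  have hnm : n = m * 3 := by simpa using (Fintype.card_congr e).symm
  -- rotations in a fibre and 3-cycles of fibres
  have hrot : ∀ b (c c' : Fin 3), ∃ g ∈ Q, g (e (b, c)) = e (b, c') ∧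
      ∀ x, (e.symm x).1 ≠ b → g x = x := by
    intro b c c'
    rcases eq_or_ne c c' with rfl | hcc
    · exact ⟨1, one_mem _, rfl, fun _ _ => rfl⟩
    obtain ⟨d, hd, hd'⟩ : ∃ d : Fin 3, d ≠ c ∧ d ≠ c' := by
      revert c c'; decide
    obtain ⟨σ, h3, h1, hs⟩ := exists_threeCycle (a := e (b, c)) (b := e (b, c')) (c := e (b, d))
      (by simp [hcc]) (by simp [hd.symm]) (by simp [hd'.symm])
    refine ⟨σ, hQ ⟨full_fibre e b σ h3 fun x hx => ?_, h3.mem_alternatingGroup⟩, h1, fun x hx => ?_⟩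
    · rcases hs x hx with rfl | rfl | rfl <;> simp
    · by_contra hne
      rcases hs x hne with rfl | rfl | rfl <;> exact hx (by simp)
  have hblk : ∀ b b' d : Fin m, b ≠ b' → b ≠ d → b' ≠ d → ∃ g ∈ Q,
      (∀ c, g (e (b, c)) = e (b', c)) ∧ ∀ b₀, b₀ ≠ b → b₀ ≠ b' → b₀ ≠ d → ∀ c, g (e (b₀, c)) = e (b₀, c) := by
    intro b b' d h1 h2 h3
    obtain ⟨π, hπ3, hπ, hπs⟩ := exists_threeCycle h1 h2 h3
    let g : Perm (Fin n) := e.permCongr (Equiv.prodCongr π (Equiv.refl _))
    have hg : ∀ b₀ c, g (e (b₀, c)) = e (π b₀, c) := fun b₀ c => by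
      simp [g, Equiv.permCongr_apply]
    refine ⟨g, hQ ⟨⟨π, 1, fun b c => by rw [hg]; rfl⟩, ?_⟩, fun c => by rw [hg, hπ],
      fun b₀ a1 a2 a3 c => ?_⟩
    · have hg3 : g ^ 3 = 1 := by
        ext x; obtain ⟨⟨b₀, c⟩, rfl⟩ := e.surjective x
        have : (π ^ 3) b₀ = b₀ := by rw [← hπ3.orderOf, pow_orderOf_eq_one]; rfl
        simp only [pow_succ, pow_zero, one_mul, mul_apply] at this ⊢
        rw [hg, hg, hg, this]; rfl
      have h' := congrArg sign hg3
      rw [map_pow, map_one] at h'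
      show g ∈ alternatingGroup (Fin n)
      rw [mem_alternatingGroup]
      rcases Int.units_eq_one_or (sign g) with hs1 | hs1
      · exact hs1
      · rw [hs1] at h'; norm_num at h'
    · rw [hg]
      congr 1
      by_contra hne
      have hne' : π b₀ ≠ b₀ := fun h => hne (by rw [h])
      rcases hπs b₀ hne' with h | h | h
      exacts [a1 h, a2 h, a3 h]
  have hother : ∀ b b' : Fin m, ∃ d, d ≠ b ∧ d ≠ b' := by
    intro b b'
    obtain ⟨d, -, hd⟩ := Finset.exists_mem_notMem_of_card_lt_card (s := ({b, b'} : Finset (Fin m)))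
      (t := Finset.univ) (lt_of_le_of_lt Finset.card_le_two (by simp; omega))
    exact ⟨d, by simpa [not_or] using hd⟩
  haveI : Nonempty (Fin n) := ⟨e (⟨0, by omega⟩, 0)⟩
  haveI : MulAction.IsPretransitive Q (Fin n) := by
    constructor
    intro x y
    obtain ⟨⟨b, c⟩, rfl⟩ := e.surjective x
    obtain ⟨⟨b', c'⟩, rfl⟩ := e.surjective y
    obtain ⟨g, hg, hgc, -⟩ := hrot b c c'
    rcases eq_or_ne b b' with rfl | hb
    · exact ⟨⟨g, hg⟩, hgc⟩
    · obtain ⟨d, hd, hd'⟩ := hother b b'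
      obtain ⟨t, ht, htc, -⟩ := hblk b b' d hb hd.symm hd'.symm
      exact ⟨⟨t * g, mul_mem ht hg⟩, by show (t * g) (e (b, c)) = _; rw [mul_apply, hgc, htc]⟩
  obtain ⟨a, ha⟩ : K.Nonempty := Finset.card_pos.1 (by omega)
  haveI : MulAction.IsPreprimitive Q (Fin n) := by
    refine MulAction.IsPreprimitive.of_isTrivialBlock_base a (fun {B} haB hB => ?_)
    rcases B.subsingleton_or_nontrivial with hB1 | hB1
    · exact Or.inl hB1
    refine Or.inr ?_
    have hfix : ∀ g ∈ Q, ∀ x ∈ B, g x = x → ∀ y ∈ B, g y ∈ B := by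
      intro g hg x hx hgx y hy
      have := hB.smul_eq_of_nonempty (g := (⟨g, hg⟩ : Q))
        ⟨x, ⟨x, hx, hgx⟩, hx⟩
      rw [← this]
      exact ⟨y, hy, rfl⟩
    obtain ⟨z, hzB, hza⟩ := hB1.exists_ne a
    have hKB : ∀ x ∈ K, x ∈ B := by
      by_contra hcon
      push Not at hcon
      obtain ⟨x, hxK, hxB⟩ := hcon
      obtain ⟨y, hyK, hy⟩ := Finset.exists_mem_notMem_of_card_lt_card
        (s := ({a, x, z} : Finset (Fin n))) (t := K) (lt_of_le_of_lt Finset.card_le_three (by omega))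
      simp only [Finset.mem_insert, Finset.mem_singleton, not_or] at hy
      have hxa : x ≠ a := fun h => hxB (h ▸ haB)
      have hxz : x ≠ z := fun h => hxB (h ▸ hzB)
      obtain ⟨g, h3, hg, hs⟩ := exists_threeCycle (Ne.symm hxa) (Ne.symm hy.1) (Ne.symm hy.2.1)
      have hgQ : g ∈ Q := hK g h3 fun w hw => by
        rcases hs w hw with rfl | rfl | rfl <;> simpa
      have hgz : g z = z := by
        by_contra hne
        rcases hs z hne with h | h | h
        exacts [hza h, hxz h.symm, hy.2.2 h.symm]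
      exact hxB (hg ▸ hfix g hgQ z hzB hgz a haB)
    obtain ⟨b₁, c₁, h1⟩ : ∃ b c, e (b, c) = a := ⟨_, _, e.apply_symm_apply a⟩
    obtain ⟨w, hwK, hw⟩ : ∃ w ∈ K, (e.symm w).1 ≠ b₁ := by
      by_contra hcon
      push Not at hcon
      have := Finset.card_le_card_of_injOn (s := K) (t := (Finset.univ : Finset (Fin 3)))
        (fun w => (e.symm w).2) (fun w _ => Finset.mem_univ _) (fun w hw w' hw' h =>
          e.symm.injective (Prod.ext ((hcon w hw).trans (hcon w' hw').symm) h))
      simp at this; omega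
    obtain ⟨b₂, c₂, h2⟩ : ∃ b c, e (b, c) = w := ⟨_, _, e.apply_symm_apply w⟩
    have hb12 : b₂ ≠ b₁ := by rw [← h2] at hw; simpa using hw
    have hout : ∀ b c, b ≠ b₁ → e (b, c) ∈ B := by
      intro b c hb
      have hstep : ∀ c', e (b₂, c') ∈ B := fun c' => by
        obtain ⟨g, hg, hgc, hgf⟩ := hrot b₂ c₂ c'
        have := hfix g hg a haB (hgf a (by rw [← h1]; simpa using hb12.symm)) w (hKB w hwK)
        rwa [← h2, hgc] at this
      rcases eq_or_ne b₂ b with rfl | hb2
      · exact hstep c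
      obtain ⟨d, hd⟩ : ∃ d, d ∉ ({b₁, b₂, b} : Finset (Fin m)) :=
        (Finset.exists_mem_notMem_of_card_lt_card (s := ({b₁, b₂, b} : Finset (Fin m)))
          (t := Finset.univ) (lt_of_le_of_lt Finset.card_le_three (by simp; omega))).imp fun _ h => h.2
      simp only [Finset.mem_insert, Finset.mem_singleton, not_or] at hd
      obtain ⟨g, hg, hgb, hgf⟩ := hblk b₂ b d hb2 (Ne.symm hd.2.1) (Ne.symm hd.2.2)
      have := hfix g hg a haB (by rw [← h1]; exact hgf b₁ hb12.symm hb.symm (Ne.symm hd.1) c₁) _ (hstep c)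
      rwa [hgb] at this
    -- `B` is large
    have hdvd := hB.ncard_dvd_card ⟨a, haB⟩
    rw [Nat.card_fin] at hdvd
    have hbig : n - 3 ≤ B.ncard := by
      have : (B)ᶜ.ncard ≤ 3 := by
        have := Set.ncard_le_ncard_of_injOn (s := Bᶜ) (t := (Set.univ : Set (Fin 3)))
          (fun x => (e.symm x).2) (fun x _ => trivial) (fun x hx y hy h => by
            have hx1 : (e.symm x).1 = b₁ := by
              by_contra hne; exact hx (by simpa using hout _ (e.symm x).2 hne)
            have hy1 : (e.symm y).1 = b₁ := by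
              by_contra hne; exact hy (by simpa using hout _ (e.symm y).2 hne)
            exact e.symm.injective (Prod.ext (hx1.trans hy1.symm) h))
        simpa using this
      have := Set.ncard_add_ncard_compl B
      rw [Nat.card_fin] at this
      omega
    obtain ⟨k, hk⟩ := hdvd
    have hk1 : k = 1 := by
      rcases Nat.lt_or_ge k 2 with h | h
      · rcases Nat.eq_zero_or_pos k with rfl | h' <;> omega
      · exfalso; have := Nat.mul_le_mul_left B.ncard h; omega
    exact Set.eq_of_subset_of_ncard_le (Set.subset_univ B) (by rw [Set.ncard_univ, Nat.card_fin]; subst hk1; omega)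
  obtain ⟨g, h3, -, hs⟩ : ∃ g : Perm (Fin n), g.IsThreeCycle ∧ True ∧ (∀ a, g a ≠ a → a ∈ K) := by
    obtain ⟨x, y, z, hx, hy, hz, hxy, hxz, hyz⟩ := Finset.two_lt_card_iff.1 (show 2 < K.card by omega)
    obtain ⟨g, h3, -, hs⟩ := exists_threeCycle hxy hxz hyz
    exact ⟨g, h3, trivial, fun a ha => by rcases hs a ha with rfl | rfl | rfl <;> assumption⟩
  exact alternatingGroup_le_of_isPreprimitive_of_isThreeCycle_mem ‹_› h3 (hK g h3 hs)

theorem key (n : ℕ) (hn : 5 ≤ n) (S : Sylow 3 (alternatingGroup (Fin n)))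
    (hu : ∃! M : Subgroup (alternatingGroup (Fin n)), IsCoatom M ∧ (S : Subgroup _) ≤ M) :
    n = 6 ∨ n = 9 ∨ ∃ a : ℕ, 2 ≤ a ∧ n = 3 ^ a + 1 := by
  classical
  haveI : Fact (Nat.Prime 3) := ⟨Nat.prime_three⟩
  let A := alternatingGroup (Fin n)
  obtain ⟨M, ⟨hMc, hSM⟩, huniq⟩ := hu
  set P : Subgroup (Perm (Fin n)) := (S : Subgroup A).map A.subtype
  set Q : Subgroup (Perm (Fin n)) := M.map A.subtype
  have hP : IsPGroup 3 P := S.2.map _
  have hQA : ¬ A ≤ Q := fun h => hMc.1 <| eq_top_iff.2 fun x _ => by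
    obtain ⟨y, hy, hyx⟩ := h x.2
    exact (Subtype.ext hyx : y = x) ▸ hy
  have hle : ∀ H : Subgroup (Perm (Fin n)), P ≤ H → ¬ A ≤ H → H ⊓ A ≤ Q := by
    intro H hPH hAH
    have hne : H.subgroupOf A ≠ ⊤ := fun h => hAH (Subgroup.subgroupOf_eq_top.1 h)
    obtain ⟨X, hX, hHX⟩ := (eq_top_or_exists_le_coatom _).resolve_left hne
    have hSX : (S : Subgroup A) ≤ X := fun x hx => hHX (Subgroup.mem_subgroupOf.2 (hPH ⟨x, hx, rfl⟩))
    rw [huniq X ⟨hX, hSX⟩] at hHX
    exact fun x hx => ⟨⟨x, hx.2⟩, hHX hx.1, rfl⟩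
  have hcard : Nat.card A * 2 = n.factorial := by
    haveI : Nontrivial (Fin n) := Fin.nontrivial_iff_two_le.2 (by omega)
    rw [mul_comm, two_mul_nat_card_alternatingGroup, Nat.card_perm, Nat.card_fin]
  obtain ⟨a₀, ha₀⟩ : ∃ a, a ∉ MulAction.fixedPoints P (Fin n) := by
    by_contra h
    push Not at h
    have hS : (S : Subgroup A) = ⊥ := by
      rw [eq_bot_iff]
      intro x hx
      exact Subgroup.mem_bot.2 (Subtype.ext (Equiv.ext fun a => h a ⟨x.1, ⟨x, hx, rfl⟩⟩))
    have h3 : 3 ∣ Nat.card A := by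
      refine Nat.Coprime.dvd_of_dvd_mul_right (k := 3) (n := 2) (by norm_num) ?_
      rw [hcard]; exact Nat.dvd_factorial (by norm_num) (by omega)
    exact S.not_dvd_index (by rw [hS, Subgroup.index_bot]; exact h3)
  -- proper subgroups: set stabilisers
  have hset : ∀ J : Set (Fin n), (∀ g ∈ P, g • J = J) → J.Nonempty → Jᶜ.Nonempty →
      MulAction.stabilizer (Perm (Fin n)) J ⊓ A ≤ Q := by
    intro J hJ hJ1 hJ2
    refine hle _ (fun g hg => hJ g hg) fun hA => ?_
    obtain ⟨x, hx⟩ := hJ1; obtain ⟨y, hy⟩ := hJ2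
    have hxy : x ≠ y := fun h => hy (h ▸ hx)
    obtain ⟨z, -, hz⟩ := Finset.exists_mem_notMem_of_card_lt_card (s := ({x, y} : Finset (Fin n)))
      (t := Finset.univ) (lt_of_le_of_lt Finset.card_le_two (by simp; omega))
    simp only [Finset.mem_insert, Finset.mem_singleton, not_or] at hz
    obtain ⟨σ, h3, hσ, -⟩ := exists_threeCycle hxy (Ne.symm hz.1) (Ne.symm hz.2)
    have := MulAction.mem_stabilizer_iff.1 (hA h3.mem_alternatingGroup)
    exact hy (this ▸ ⟨x, hx, hσ⟩)
  have hfull : ∀ J : Set (Fin n), (∀ g ∈ P, g • J = J) → J.Nonempty → Jᶜ.Nonempty →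
      Full Q J ∧ Full Q Jᶜ := by
    intro J hJ hJ1 hJ2
    have hQ := hset J hJ hJ1 hJ2
    refine ⟨fun σ h3 hσ => hQ ⟨?_, h3.mem_alternatingGroup⟩, fun σ h3 hσ => hQ ⟨?_, h3.mem_alternatingGroup⟩⟩
    · refine MulAction.mem_stabilizer_set.2 fun x => ?_
      by_cases hx : σ x = x
      · rw [Perm.smul_def, hx]
      · exact iff_of_true (hσ _ fun h => hx (σ.injective h)) (hσ x hx)
    · refine MulAction.mem_stabilizer_set.2 fun x => ?_
      by_cases hx : σ x = x
      · rw [Perm.smul_def, hx]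
      · exact iff_of_false (hσ _ fun h => hx (σ.injective h)) (hσ x hx)
  have hsing : ∀ p ∈ MulAction.fixedPoints P (Fin n), ∀ g ∈ P, g • ({p} : Set (Fin n)) = {p} := by
    intro p hp g hg
    rw [Set.smul_set_singleton]
    exact congrArg _ (hp ⟨g, hg⟩)
  have hfix : Nat.card (MulAction.fixedPoints P (Fin n)) % 3 = n % 3 := by
    have := hP.card_modEq_card_fixedPoints (Fin n)
    rw [Nat.card_fin] at this
    exact this.symm
  set O : Set (Fin n) := MulAction.orbit P a₀
  have hO : ∀ g ∈ P, g • O = O := fun g hg => MulAction.smul_orbit (⟨g, hg⟩ : P) a₀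
  obtain ⟨k, hk⟩ := hP.card_orbit a₀
  have hk1 : k ≠ 0 := by
    rintro rfl
    rw [pow_zero] at hk
    haveI := (Nat.card_eq_one_iff_unique.1 hk).1
    exact ha₀ fun g => congrArg Subtype.val (Subsingleton.elim
      (⟨g • a₀, MulAction.mem_orbit _ _⟩ : O) ⟨a₀, MulAction.mem_orbit_self _⟩)
  have hO1 : O.Nonempty := ⟨a₀, MulAction.mem_orbit_self _⟩
  have hOc : O.ncard = 3 ^ k := by rw [← Nat.card_coe_set_eq]; exact hk
  have hOsum : O.ncard + Oᶜ.ncard = n := by rw [Set.ncard_add_ncard_compl, Nat.card_fin]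
  obtain ⟨k', hk'⟩ : 3 ∣ 3 ^ k := dvd_pow_self 3 hk1
  -- a point stabiliser
  have hpoint : ∀ p ∈ MulAction.fixedPoints P (Fin n), ∀ g ∈ Q, g p = p := by
    intro p hp g hg
    by_contra hgp
    have hne : ({p} : Set (Fin n))ᶜ.Nonempty := ⟨g p, hgp⟩
    exact hQA (all_of_point hn Q p (hfull _ (hsing p hp) (Set.singleton_nonempty p) hne).2 g hg hgp)
  rcases (show n % 3 = 0 ∨ n % 3 = 1 ∨ n % 3 = 2 by omega) with h3 | h3 | h3
  · -- n ≡ 0
    by_cases h6 : n = 6; · exact Or.inl h6
    by_cases h9 : n = 9; · exact Or.inr (Or.inl h9)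
    exfalso
    obtain ⟨m, hm⟩ : 3 ∣ n := Nat.dvd_of_mod_eq_zero h3
    have hv3 : padicValNat 3 (Nat.factorial 3) = 1 := by
      have := padicValNat_factorial_mul (p := 3) 1
      simpa using this
    obtain ⟨e, he⟩ := exists_partition (n := n) (k := m) (r := 3) (by omega) (by norm_num)
      (by rw [hm, padicValNat_factorial_mul, hv3, mul_one]) P hP
    have hW := hle _ he (not_le_W (by omega) (by norm_num) e)
    by_cases hpow : Oᶜ.Nonempty
    · obtain ⟨f1, f2⟩ := hfull O hO hO1 hpow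
      have := (Set.ncard_pos).2 hpow
      rcases le_or_gt 4 O.ncard with h | h
      · exact hQA (all_of_partition (by omega) e Q hW O.toFinset (by simpa using f1)
          (by rwa [← Set.ncard_eq_toFinset_card']))
      · exact hQA (all_of_partition (by omega) e Q hW Oᶜ.toFinset (by simpa using f2)
          (by rw [← Set.ncard_eq_toFinset_card']; omega))
    · rw [Set.not_nonempty_iff_eq_empty.1 hpow, Set.ncard_empty] at hOsum
      obtain ⟨l, rfl⟩ : ∃ l, k = l + 3 := by
        rcases (show k = 1 ∨ k = 2 ∨ 3 ≤ k by omega) with rfl | rfl | h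
        · omega
        · omega
        · exact ⟨k - 3, by omega⟩
      have hn9 : n = 3 ^ (l + 1) * 9 := by rw [← hOsum, add_zero, hOc]; ring
      have hv9 : padicValNat 3 (Nat.factorial 9) = 4 := by
        have := padicValNat_factorial_mul (p := 3) 3
        rw [hv3] at this
        simpa using this
      set q := 3 ^ (l + 1)
      have hq : 3 ≤ q := Nat.le_self_pow (by omega) 3
      obtain ⟨e', he'⟩ := exists_partition (n := n) (k := q) (r := 9) hn9 (by norm_num)
        (by rw [hn9, show q * 9 = 3 * (3 * q) by ring, padicValNat_factorial_mul,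
              padicValNat_factorial_mul, hv9]; ring) P hP
      have hW' := hle _ he' (not_le_W (by omega) (by norm_num) e')
      let b : Fin q := ⟨0, by omega⟩
      refine hQA (all_of_partition (by omega) e Q hW (Finset.univ.image fun c : Fin 9 => e' (b, c))
        (fun σ h3 hσ => hW' ⟨full_fibre e' b σ h3 fun x hx => ?_, h3.mem_alternatingGroup⟩) ?_)
      · have := hσ x hx
        simp at this
        obtain ⟨c, rfl⟩ := this
        simp
      · rw [Finset.card_image_of_injective _ fun c c' h => by simpa using h]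
        simp
  · -- n ≡ 1
    obtain ⟨p, hp⟩ : (MulAction.fixedPoints P (Fin n)).Nonempty := by
      rw [Set.nonempty_iff_ne_empty]; intro h
      rw [h] at hfix; simp at hfix; omega
    have hpO : p ∈ Oᶜ := fun h => by
      obtain ⟨g, hg⟩ := h
      have : a₀ = p := by rw [← hp g⁻¹, ← hg, inv_smul_smul]
      exact ha₀ (this ▸ hp)
    by_cases h1 : Oᶜ.ncard = 1
    · refine Or.inr (Or.inr ⟨k, ?_, by omega⟩)
      rcases (show k = 1 ∨ 2 ≤ k by omega) with rfl | h
      · omega
      · exact h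
    exfalso
    have h2 : 2 < Oᶜ.toFinset.card := by
      rw [← Set.ncard_eq_toFinset_card']
      have := (Set.ncard_pos).2 ⟨p, hpO⟩
      omega
    obtain ⟨y, hy, hyp⟩ := Finset.exists_mem_ne (show 1 < Oᶜ.toFinset.card by omega) p
    obtain ⟨z, hz, hz'⟩ := Finset.exists_mem_notMem_of_card_lt_card (s := ({p, y} : Finset (Fin n)))
      (t := Oᶜ.toFinset) (lt_of_le_of_lt Finset.card_le_two h2)
    simp only [Finset.mem_insert, Finset.mem_singleton, not_or] at hz'
    obtain ⟨σ, h3c, hσ, hs⟩ := exists_threeCycle (Ne.symm hyp) (Ne.symm hz'.1) (Ne.symm hz'.2)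
    have hσQ := (hfull O hO hO1 ⟨p, hpO⟩).2 σ h3c fun x hx => by
      rcases hs x hx with rfl | rfl | rfl
      exacts [hpO, by simpa using hy, by simpa using hz]
    exact hyp (hσ ▸ hpoint p hp σ hσQ)
  · -- n ≡ 2
    exfalso
    haveI := Fintype.ofFinite (MulAction.fixedPoints P (Fin n))
    rw [Nat.card_eq_fintype_card] at hfix
    obtain ⟨⟨p, hp⟩, ⟨q, hq⟩, hpq⟩ := Fintype.one_lt_card_iff.1
      (show 1 < Fintype.card (MulAction.fixedPoints P (Fin n)) by omega)
    have hpq' : p ≠ q := fun h => hpq (Subtype.ext h)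
    obtain ⟨y, -, hy⟩ := Finset.exists_mem_notMem_of_card_lt_card (s := ({p, q} : Finset (Fin n)))
      (t := Finset.univ) (lt_of_le_of_lt Finset.card_le_two (by simp; omega))
    obtain ⟨z, -, hz⟩ := Finset.exists_mem_notMem_of_card_lt_card (s := ({p, q, y} : Finset (Fin n)))
      (t := Finset.univ) (lt_of_le_of_lt Finset.card_le_three (by simp; omega))
    simp only [Finset.mem_insert, Finset.mem_singleton, not_or] at hy hz
    obtain ⟨σ, h3c, hσ, hs⟩ := exists_threeCycle (Ne.symm hy.1) (Ne.symm hz.1) (Ne.symm hz.2.2)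
    have hσQ := (hfull _ (hsing q hq) (Set.singleton_nonempty q) ⟨p, hpq'⟩).2 σ h3c fun x hx => by
      rcases hs x hx with rfl | rfl | rfl
      exacts [hpq', hy.2, hz.2.1]
    exact hy.1 (hσ ▸ hpoint p hp σ hσQ)

/-- Let X be a finite 3-minimal group (a Sylow 3-subgroup is not normal and lies in a unique maximal subgroup) whose generalized Fitting subgroup is isomorphic to an alternating group of degree n ≥ 5. Then X = F*(X), and n = 6, n = 9, or n = 3ᵃ + 1 for some a ≥ 2. -/
theorem result {X : Type*} [Group X] [Finite X] (hX : Cfsg.IsPMinimal 3 X) (n : ℕ) (hn : 5 ≤ n) (hF : Nonempty (↥(Cfsg.generalizedFittingSubgroup X) ≃* ↥(alternatingGroup (Fin n)))) : Cfsg.generalizedFittingSubgroup X = ⊤ ∧ (n = 6 ∨ n = 9 ∨ ∃ a : ℕ, 2 ≤ a ∧ n = 3 ^ a + 1) := by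
  classical
  haveI : Fact (Nat.Prime 3) := ⟨Nat.prime_three⟩
  obtain ⟨φ⟩ := hF
  set F := Cfsg.generalizedFittingSubgroup X with hFdef
  haveI : F.Normal := Cfsg.Agent.ComponentsFitting.gen_normal
  haveI hs : IsSimpleGroup (alternatingGroup (Fin n)) := alternatingGroup.isSimpleGroup (by simp; omega)
  haveI : IsSimpleGroup F := φ.isSimpleGroup
  have hcard : Nat.card F * 2 = n.factorial := by
    haveI : Nontrivial (Fin n) := Fin.nontrivial_iff_two_le.2 (by omega)
    rw [Nat.card_congr φ.toEquiv, mul_comm, two_mul_nat_card_alternatingGroup, Nat.card_perm, Nat.card_fin]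
  obtain ⟨T⟩ : Nonempty (Sylow 3 F) := inferInstance
  obtain ⟨S, hTS⟩ := (T.2.map F.subtype).exists_le_sylow
  have hTne : (T : Subgroup F) ≠ ⊥ := fun h => by
    refine T.not_dvd_index ?_
    rw [h, Subgroup.index_bot]
    refine Nat.Coprime.dvd_of_dvd_mul_right (k := 3) (n := 2) (by norm_num) ?_
    rw [hcard]; exact Nat.dvd_factorial (by norm_num) (by omega)
  have hTnt : (T : Subgroup F) ≠ ⊤ := fun h => by
    have hp : IsPGroup 3 F := (h ▸ T.2 : IsPGroup 3 (⊤ : Subgroup F)).of_equiv Subgroup.topEquiv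
    obtain ⟨j, hj⟩ := IsPGroup.iff_card.1 hp
    have h4 : 2 ∣ Nat.card F := by
      have : 2 * 2 ∣ Nat.card F * 2 := hcard ▸ (Dvd.dvd.trans (by decide : 2 * 2 ∣ Nat.factorial 4)
        (Nat.factorial_dvd_factorial (by omega)))
      exact (Nat.mul_dvd_mul_iff_right (by norm_num)).1 this
    rw [hj] at h4
    exact absurd (Nat.prime_two.dvd_of_dvd_pow h4) (by norm_num)
  obtain ⟨hSn, M, ⟨hMc, hSM⟩, huniq⟩ := hX S
  have hle : ∀ H : Subgroup X, (S : Subgroup X) ≤ H → H ≠ ⊤ → H ≤ M := fun H hSH hH => by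
    obtain ⟨X', hX', hXX'⟩ := (eq_top_or_exists_le_coatom H).resolve_left hH
    exact (huniq X' ⟨hX', hSH.trans hXX'⟩) ▸ hXX'
  have hSF : (S : Subgroup X) ⊓ F = (T : Subgroup F).map F.subtype := by
    refine le_antisymm ?_ (le_inf hTS (Subgroup.map_subtype_le _))
    have h1 : (T : Subgroup F) ≤ (S : Subgroup X).subgroupOf F := fun x hx => hTS ⟨x, hx, rfl⟩
    have h2 := T.3 (S.2.comap_subtype) h1
    rw [← h2]
    exact fun x hx => ⟨⟨x, hx.2⟩, hx.1, rfl⟩
  have hFS : F ⊔ (S : Subgroup X) = ⊤ := by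
    by_contra hne
    have h1 := hle _ le_sup_right hne
    set N := Subgroup.normalizer (((T : Subgroup F).map F.subtype : Subgroup X) : Set X)
    have hSN : (S : Subgroup X) ≤ N := by
      intro s hs
      simp only [N, ← hSF]
      exact Subgroup.inf_normalizer_le_normalizer_inf
        ⟨Subgroup.le_normalizer hs, by rw [Subgroup.normalizer_eq_top]; trivial⟩
    by_cases hN : N = ⊤
    · haveI : ((T : Subgroup F).map F.subtype).Normal := Subgroup.normalizer_eq_top_iff.1 hN
      haveI : ((((T : Subgroup F).map F.subtype)).subgroupOf F).Normal := inferInstance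
      rw [Subgroup.subgroupOf, Subgroup.comap_map_eq_self_of_injective F.subtype_injective] at this
      rcases this.eq_bot_or_eq_top with h | h
      exacts [hTne h, hTnt h]
    · exact hMc.1 (eq_top_iff.2 ((Sylow.normalizer_sup_eq_top T).ge.trans
        (sup_le (hle N hSN hN) (le_sup_left.trans h1))))
  have hcent : Subgroup.centralizer (F : Set X) ≤ F := Cfsg.Agent.ComponentsFitting.centralizer_gen_le
  have hSle : (S : Subgroup X) ≤ F := by
    intro s hs
    set θ : MulAut (alternatingGroup (Fin n)) :=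
      (φ.symm.trans (MulAut.conjNormal (H := F) s)).trans φ with hθ
    have hhom : ∀ j : ℕ, ∀ x, (θ ^ j) x = φ (MulAut.conjNormal (H := F) (s ^ j) (φ.symm x)) := by
      intro j
      induction j with
      | zero => intro x; simp
      | succ j ih =>
        intro x
        rw [pow_succ', MulAut.mul_apply, ih, pow_succ', map_mul, MulAut.mul_apply]
        simp [hθ]
    obtain ⟨j, hj⟩ := S.2 ⟨s, hs⟩
    have hj' : s ^ 3 ^ j = 1 := congrArg Subtype.val hj
    have hθj : θ ^ 3 ^ j = 1 := by ext x; rw [hhom, hj']; simp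
    have hodd : Odd (orderOf θ) := Odd.of_dvd_nat (Odd.pow (by decide)) (orderOf_dvd_of_pow_eq_one hθj)
    obtain ⟨σ, hσ⟩ := Cfsg.Agent.S4231.mem_range_of_odd hn θ hodd
    have hσj : σ ^ 3 ^ j = 1 := Cfsg.Agent.S4231.conjNormal_injective (by omega)
      (by rw [map_pow, hσ, hθj, map_one])
    have hσA : σ ∈ alternatingGroup (Fin n) := by
      rw [mem_alternatingGroup]
      have h' := congrArg sign hσj
      rw [map_pow, map_one] at h'
      rcases Int.units_eq_one_or (sign σ) with h1 | h1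
      · exact h1
      · rw [h1, Odd.neg_one_pow (Odd.pow (by decide))] at h'; exact absurd h' (by decide)
    set f : X := ((φ.symm ⟨σ, hσA⟩ : F) : X) with hfdef
    have hfs : f⁻¹ * s ∈ Subgroup.centralizer (F : Set X) := by
      rw [Subgroup.mem_centralizer_iff]
      intro y hy
      have h' : θ (φ ⟨y, hy⟩) = ⟨σ, hσA⟩ * φ ⟨y, hy⟩ * (⟨σ, hσA⟩)⁻¹ := by
        rw [← hσ]; exact Subtype.ext (by simp [MulAut.conjNormal_apply])
      have h'' := congrArg (fun z => ((φ.symm z : F) : X)) h'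
      simp [hθ, MulAut.conjNormal_apply] at h''
      have e1 : s * y * s⁻¹ = f * y * f⁻¹ := by simpa [f] using h''
      calc y * (f⁻¹ * s) = f⁻¹ * (f * y * f⁻¹) * s := by group
        _ = f⁻¹ * (s * y * s⁻¹) * s := by rw [e1]
        _ = f⁻¹ * s * y := by group
    have : f * (f⁻¹ * s) ∈ F := mul_mem (SetLike.coe_mem _) (hcent hfs)
    simpa using this
  have hT : F = ⊤ := by rwa [sup_eq_left.2 hSle] at hFS
  refine ⟨hT, ?_⟩
  have hA : Cfsg.IsPMinimal 3 (alternatingGroup (Fin n)) :=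
    Cfsg.Agent.S2790.pMinimal_equiv ((Subgroup.topEquiv.symm.trans (MulEquiv.subgroupCongr hT.symm)).trans φ) hX
  obtain ⟨R⟩ : Nonempty (Sylow 3 (alternatingGroup (Fin n))) := inferInstance
  exact key n hn R (hA R).2

end Cfsg.Agent.S2930
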