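import Mathlib
import Cfsg.Statements.S2931
import Cfsg.Agent.Lib.SymplecticSimple
import Cfsg.Agent.Lib.SymplecticOrder
import Cfsg.Agent.Lib.OrthUnitaryForms

/-!
The Sylow 2-subgroups: eight vectors of the minus space over two elements, and eight lines of the
symplectic space over three elements, carry the permutation action of the iterated wreath product.
-/

set_option autoImplicit false
set_option maxRecDepth 100000
set_option maxHeartbeats 4000000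
open Cfsg

namespace Cfsg.Agent.S2931

open Matrix

abbrev P8 := Equiv.Perm (Fin 8)

def a1 : P8 := Equiv.swap 0 1
def a2 : P8 := Equiv.swap 2 3
def a3 : P8 := Equiv.swap 4 5
def a4 : P8 := Equiv.swap 6 7
def b1 : P8 := Equiv.swap 0 2 * Equiv.swap 1 3
def b2 : P8 := Equiv.swap 4 6 * Equiv.swap 5 7
def c1 : P8 := Equiv.swap 0 4 * Equiv.swap 1 5 * (Equiv.swap 2 6 * Equiv.swap 3 7)

/-- A chosen product of a subset of a list. -/
def word {k : ℕ} (g : Fin k → P8) (s : ℕ) : P8 :=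
  (List.ofFn fun i => if s.testBit i.val then g i else 1).prod

theorem card_closure {k : ℕ} (g : Fin k → P8) (gens : List P8)
    (hg : ∀ i, g i ∈ Subgroup.closure {x | x ∈ gens})
    (dec : P8 → ℕ) (hinj : ∀ s : Fin (2 ^ k), dec (word g s) = s)
    (tbl : List (List ℕ))
    (hstep : ∀ a : Fin gens.length, ∀ s : Fin (2 ^ k), (tbl.getD a []).getD s 0 < 2 ^ k ∧
      ∀ j, word g ((tbl.getD a []).getD s 0) j = (gens[a] * word g s) j)
    (hone : word g 0 = 1) :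
    Nat.card (Subgroup.closure {x | x ∈ gens}) = 2 ^ k := by
  have hset : (Subgroup.closure {x | x ∈ gens} : Set P8) = Set.range (fun s : Fin (2 ^ k) => word g s) := by
    refine Set.Subset.antisymm (fun x hx => ?_) ?_
    · rw [SetLike.mem_coe, ← Subgroup.mem_toSubmonoid, Subgroup.closure_toSubmonoid_of_finite] at hx
      induction hx using Submonoid.closure_induction_left with
      | one => exact ⟨⟨0, Nat.two_pow_pos k⟩, hone⟩
      | mul_left y hy z _ hz =>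
        obtain ⟨s, rfl⟩ := hz
        obtain ⟨a, ha, rfl⟩ := List.getElem_of_mem hy
        exact ⟨⟨_, (hstep ⟨a, ha⟩ s).1⟩, Equiv.ext (hstep ⟨a, ha⟩ s).2⟩
    · rintro _ ⟨s, rfl⟩
      refine Subgroup.list_prod_mem _ fun y hy => ?_
      obtain ⟨i, rfl⟩ := List.mem_ofFn.1 hy
      split_ifs
      · exact hg i
      · exact one_mem _
  have hinj' : Function.Injective (fun s : Fin (2 ^ k) => word g s) := fun s t h =>
    Fin.ext ((hinj s).symm.trans ((congrArg dec h).trans (hinj t)))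
  rw [← SetLike.coe_sort_coe, Nat.card_congr (Equiv.setCongr hset),
    Nat.card_range_of_injective hinj', Nat.card_eq_fintype_card, Fintype.card_fin]

def gensO : List P8 := [a1, b1, c1]
def gensS : List P8 := [b1, c1, a1 * a2, a2 * a4]
def baseO : Fin 7 → P8 := ![a1, a2, a3, a4, b1, b2, c1]
def baseS : Fin 6 → P8 := ![a1 * a2, a2 * a4, a3 * a4, b1, b2, c1]

def WO : Subgroup P8 := Subgroup.closure {x | x ∈ gensO}
def WS : Subgroup P8 := Subgroup.closure {x | x ∈ gensS}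

theorem mem_WO {x : P8} (h : x ∈ gensO) : x ∈ WO := Subgroup.subset_closure h
theorem mem_WS {x : P8} (h : x ∈ gensS) : x ∈ WS := Subgroup.subset_closure h

def decO (x : P8) : ℕ :=
  let s6 := if 4 ≤ (x 0).val then 1 else 0
  let y := if s6 = 1 then x * c1 else x
  let s4 := if 2 ≤ (y 0).val then 1 else 0
  let s5 := if 6 ≤ (y 4).val then 1 else 0
  let y' := if s5 = 1 then y * b2 else y
  let z := if s4 = 1 then y' * b1 else y'
  (if z 0 = 0 then 0 else 1) + (if z 2 = 2 then 0 else 2) + (if z 4 = 4 then 0 else 4) +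
    (if z 6 = 6 then 0 else 8) + 16 * s4 + 32 * s5 + 64 * s6

def decS (x : P8) : ℕ :=
  let d := decO x
  d % 2 + 2 * ((d % 2 + d / 2 % 2) % 2) + 4 * (d / 4 % 2) + 8 * (d / 16)

theorem card_WO : Nat.card WO = 2 ^ 7 := by
  refine card_closure baseO gensO ?_ decO (by decide +kernel) [[1,0,3,2,5,4,7,6,9,8,11,10,13,12,15,14,17,16,19,18,21,20,23,22,25,24,27,26,29,28,31,30,33,32,35,34,37,36,39,38,41,40,43,42,45,44,47,46,49,48,51,50,53,52,55,54,57,56,59,58,61,60,63,62,65,64,67,66,69,68,71,70,73,72,75,74,77,76,79,78,81,80,83,82,85,84,87,86,89,88,91,90,93,92,95,94,97,96,99,98,101,100,103,102,105,104,107,106,109,108,111,110,113,112,115,114,117,116,119,118,121,120,123,122,125,124,127,126], [16,18,17,19,20,22,21,23,24,26,25,27,28,30,29,31,0,2,1,3,4,6,5,7,8,10,9,11,12,14,13,15,48,50,49,51,52,54,53,55,56,58,57,59,60,62,61,63,32,34,33,35,36,38,37,39,40,42,41,43,44,46,45,47,80,82,81,83,84,86,85,87,88,90,89,91,92,94,93,95,64,66,65,67,68,70,69,71,72,74,73,75,76,78,77,79,112,114,113,115,116,118,117,119,120,122,121,123,124,126,125,127,96,98,97,99,100,102,101,103,104,106,105,107,108,110,109,111],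 [64,68,72,76,65,69,73,77,66,70,74,78,67,71,75,79,96,100,104,108,97,101,105,109,98,102,106,110,99,103,107,111,80,84,88,92,81,85,89,93,82,86,90,94,83,87,91,95,112,116,120,124,113,117,121,125,114,118,122,126,115,119,123,127,0,4,8,12,1,5,9,13,2,6,10,14,3,7,11,15,32,36,40,44,33,37,41,45,34,38,42,46,35,39,43,47,16,20,24,28,17,21,25,29,18,22,26,30,19,23,27,31,48,52,56,60,49,53,57,61,50,54,58,62,51,55,59,63]] (by decide +kernel) (by decide +kernel)
  have ha := mem_WO (x := a1) (by simp [gensO])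
  have hb := mem_WO (x := b1) (by simp [gensO])
  have hc := mem_WO (x := c1) (by simp [gensO])
  have e2 : a2 = b1 * a1 * b1 := by decide +kernel
  have e3 : a3 = c1 * a1 * c1 := by decide +kernel
  have e4 : a4 = c1 * a2 * c1 := by decide +kernel
  have e5 : b2 = c1 * b1 * c1 := by decide +kernel
  have h2 : a2 ∈ WO := by rw [e2]; exact mul_mem (mul_mem hb ha) hb
  have h3 : a3 ∈ WO := by rw [e3]; exact mul_mem (mul_mem hc ha) hc
  have h4 : a4 ∈ WO := by rw [e4]; exact mul_mem (mul_mem hc h2) hc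
  have h5 : b2 ∈ WO := by rw [e5]; exact mul_mem (mul_mem hc hb) hc
  intro i
  fin_cases i <;> assumption

theorem card_WS : Nat.card WS = 2 ^ 6 := by
  refine card_closure baseS gensS ?_ decS (by decide +kernel) [[8,9,11,10,12,13,15,14,0,1,3,2,4,5,7,6,24,25,27,26,28,29,31,30,16,17,19,18,20,21,23,22,40,41,43,42,44,45,47,46,32,33,35,34,36,37,39,38,56,57,59,58,60,61,63,62,48,49,51,50,52,53,55,54], [32,36,34,38,33,37,35,39,48,52,50,54,49,53,51,55,40,44,42,46,41,45,43,47,56,60,58,62,57,61,59,63,0,4,2,6,1,5,3,7,16,20,18,22,17,21,19,23,8,12,10,14,9,13,11,15,24,28,26,30,25,29,27,31], [1,0,3,2,5,4,7,6,9,8,11,10,13,12,15,14,17,16,19,18,21,20,23,22,25,24,27,26,29,28,31,30,33,32,35,34,37,36,39,38,41,40,43,42,45,44,47,46,49,48,51,50,53,52,55,54,57,56,59,58,61,60,63,62], [2,3,0,1,6,7,4,5,10,11,8,9,14,15,12,13,18,19,16,17,22,23,20,21,26,27,24,25,30,31,28,29,34,35,32,33,38,39,36,37,42,43,40,41,46,47,44,45,50,51,48,49,54,55,52,53,58,59,56,57,62,63,60,61]]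 (by decide +kernel) (by decide +kernel)
  have h12 := mem_WS (x := a1 * a2) (by simp [gensS])
  have h24 := mem_WS (x := a2 * a4) (by simp [gensS])
  have hb := mem_WS (x := b1) (by simp [gensS])
  have hc := mem_WS (x := c1) (by simp [gensS])
  have e3 : a3 * a4 = c1 * (a1 * a2) * c1 := by decide +kernel
  have e5 : b2 = c1 * b1 * c1 := by decide +kernel
  have h3 : a3 * a4 ∈ WS := by rw [e3]; exact mul_mem (mul_mem hc h12) hc
  have h5 : b2 ∈ WS := by rw [e5]; exact mul_mem (mul_mem hc hb) hc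
  intro i
  fin_cases i <;> assumption

/-- A Sylow subgroup is determined by any subgroup of its order. -/
theorem sylow_iso {G W : Type*} [Group G] [Finite G] [Group W] {k m : ℕ} (hm : ¬ 2 ∣ m)
    (hG : Nat.card G = 2 ^ k * m) (hW : Nat.card W = 2 ^ k) {X : Type*} [Group X] (f : X →* G)
    (ψ : X →* W) (hψ : Function.Surjective ψ) (hker : f.ker = ψ.ker) (P : Sylow 2 G) :
    Nonempty (↥(P : Subgroup G) ≃* W) := by
  let e : f.range ≃* W := (QuotientGroup.quotientKerEquivRange f).symm.trans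
    ((QuotientGroup.quotientMulEquivOfEq hker).trans (QuotientGroup.quotientKerEquivOfSurjective ψ hψ))
  have hR : Nat.card f.range = 2 ^ k := (Nat.card_congr e.toEquiv).trans hW
  obtain ⟨Q, hQ⟩ := (IsPGroup.of_card hR).exists_le_sylow
  have hQc : Nat.card (Q : Subgroup G) = 2 ^ k := by
    haveI := Fact.mk Nat.prime_two
    rw [Sylow.card_eq_multiplicity, hG, Nat.factorization_mul (by positivity) (by rintro rfl; simp at hm)]
    simp [Nat.prime_two.factorization_self, Nat.factorization_eq_zero_of_not_dvd hm]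
  have he : f.range = (Q : Subgroup G) := Subgroup.eq_of_le_of_card_ge hQ (by rw [hR, hQc])
  exact ⟨(Sylow.equiv P Q).trans ((MulEquiv.subgroupCongr he.symm).trans e)⟩

theorem wreath_iso {n : ℕ} (W : Subgroup P8) (hW : Nat.card W = 2 ^ n) (H : Subgroup P8) (hWH : W ≤ H)
    {m : ℕ} (hm : ¬ 2 ∣ m) (hH : Nat.card H = 2 ^ n * m) (P : Sylow 2 ↥H) :
    Nonempty (↥(P : Subgroup ↥H) ≃* W) :=
  sylow_iso hm hH hW (Subgroup.inclusion hWH) (MonoidHom.id W) (fun x => ⟨x, rfl⟩)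
    (by rw [(MonoidHom.ker_eq_bot_iff _).2 (Subgroup.inclusion_injective hWH), MonoidHom.ker_id]) P

/-! ### The minus space -/

abbrev IO := (Fin 2 ⊕ Fin 2) ⊕ Fin 2

def finO : IO → Fin 6
  | .inl (.inl i) => ![0, 1] i
  | .inl (.inr i) => ![2, 3] i
  | .inr i => ![4, 5] i

def mO (A : Matrix (Fin 6) (Fin 6) (ZMod 2)) : Matrix IO IO (ZMod 2) := Matrix.of fun i j => A (finO i) (finO j)
def vO (v : Fin 6 → ZMod 2) : IO → ZMod 2 := fun i => v (finO i)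

abbrev QO : (IO → ZMod 2) → ZMod 2 := Cfsg.quadFormMinus 2 (ZMod 2) 1 1

def V : Fin 8 → IO → ZMod 2 := ![vO ![0, 0, 0, 1, 0, 1], vO ![1, 1, 0, 0, 1, 0], vO ![0, 0, 1, 1, 1, 1], vO ![1, 1, 1, 0, 0, 0], vO ![0, 0, 0, 1, 1, 0], vO ![1, 1, 0, 0, 0, 1], vO ![0, 1, 0, 1, 0, 0], vO ![1, 0, 0, 0, 1, 1]]
def w0 : IO → ZMod 2 := vO ![0, 0, 0, 0, 0, 1]
def RT : Matrix (Fin 9) IO (ZMod 2) := Matrix.of fun k i => (!![0, 0, 0, 0, 0, 0; 1, 1, 0, 1, 1, 0; 0, 0, 0, 0, 0, 0; 0, 0, 1, 0, 0, 0; 0, 0, 0, 0, 0, 0; 1, 0, 1, 0, 1, 0; 0, 0, 0, 1, 0, 0; 1, 1, 0, 1, 0, 0; 0, 1, 1, 1, 1, 1] : Matrix (Fin 9) (Fin 6) (ZMod 2)) k (finO i)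
def Vmat : Matrix IO (Fin 9) (ZMod 2) := Matrix.of fun i k => (Fin.snoc V w0 : Fin 9 → IO → ZMod 2) k i

theorem Vmat_RT : Vmat * RT = 1 := by decide +kernel

theorem w0_unique : ∀ x : IO → ZMod 2, QO x = QO w0 → (∀ i, QO (V i + x) = QO (V i + w0)) → x = w0 := by
  decide +kernel

def XO : Subgroup (↥(Cfsg.isometryGroup (ZMod 2) QO) × WO) where
  carrier := {p | ∀ i, ((p.1 : GL IO (ZMod 2)) : Matrix IO IO (ZMod 2)) *ᵥ V i = V ((p.2 : P8) i)}
  one_mem' := fun i => by simp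
  mul_mem' {p q} hp hq := fun i => by
    show (((p.1 : GL IO (ZMod 2)) : Matrix IO IO (ZMod 2)) * ((q.1 : GL IO (ZMod 2)) : Matrix IO IO (ZMod 2))) *ᵥ V i = V ((p.2 : P8) ((q.2 : P8) i))
    rw [← Matrix.mulVec_mulVec, hq, hp]
  inv_mem' {p} hp := fun i => by
    show (((p.1 : GL IO (ZMod 2))⁻¹ : GL IO (ZMod 2)) : Matrix IO IO (ZMod 2)) *ᵥ V i = V (((p.2 : P8))⁻¹ i)
    have h := hp ((p.2 : P8)⁻¹ i)
    rw [show (p.2 : P8) ((p.2 : P8)⁻¹ i) = i from Equiv.apply_symm_apply _ i] at h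
    rw [← h, Matrix.mulVec_mulVec, Units.inv_mul, Matrix.one_mulVec]

theorem V_injective : Function.Injective V := by decide +kernel

theorem fst_injective : Function.Injective ((MonoidHom.fst _ _).comp XO.subtype) := by
  rw [← MonoidHom.ker_eq_bot_iff, eq_bot_iff]
  rintro ⟨⟨g, s⟩, hp⟩ (hg : g = 1)
  subst hg
  have : (s : P8) = 1 := Equiv.ext fun i => V_injective (by
    have := hp i; simpa using this.symm)
  exact Subtype.ext (Prod.ext rfl (Subtype.ext this))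

theorem snd_injective : Function.Injective ((MonoidHom.snd _ _).comp XO.subtype) := by
  rw [← MonoidHom.ker_eq_bot_iff, eq_bot_iff]
  rintro ⟨⟨g, s⟩, hp⟩ (hs : s = 1)
  subst hs
  set A := ((g : GL IO (ZMod 2)) : Matrix IO IO (ZMod 2)) with hA
  have hV : ∀ i, A *ᵥ V i = V i := fun i => by simpa using hp i
  have hw : A *ᵥ w0 = w0 := w0_unique _ (g.2 w0 w0) fun i => by
    conv_lhs => rw [← hV i, ← Matrix.mulVec_add]
    exact g.2 (V i + w0) 0
  have hAV : A * Vmat = Vmat := by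
    ext r k
    refine Fin.lastCases ?_ (fun i => ?_) k
    · rw [Matrix.mul_apply]
      simp only [Vmat, Matrix.of_apply, Fin.snoc_last]
      exact congrFun hw r
    · rw [Matrix.mul_apply]
      simp only [Vmat, Matrix.of_apply, Fin.snoc_castSucc]
      exact congrFun (hV i) r
  have : A = 1 := by
    calc A = A * (Vmat * RT) := by rw [Vmat_RT, mul_one]
      _ = Vmat * RT := by rw [← Matrix.mul_assoc, hAV]
      _ = 1 := Vmat_RT
  exact Subtype.ext (Prod.ext (Subtype.ext (Units.ext this)) rfl)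

theorem snd_surjective : Function.Surjective ((MonoidHom.snd _ _).comp XO.subtype) := by
  rintro ⟨w, hw⟩
  induction hw using Subgroup.closure_induction with
  | mem x hx =>
    have key : ∀ (A B : Matrix IO IO (ZMod 2)) (h1 : A * B = 1) (h2 : B * A = 1) (y : P8) (hy : y ∈ WO),
        (∀ v, QO (A *ᵥ v) = QO v) → (∀ i, A *ᵥ V i = V (y i)) →
        ∃ z, ((MonoidHom.snd _ _).comp XO.subtype) z = (⟨y, hy⟩ : WO) :=
      fun A B h1 h2 y hy hQ hV => ⟨⟨(⟨⟨A, B, h1, h2⟩, fun u _ => hQ u⟩, ⟨y, hy⟩), hV⟩, rfl⟩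
    have hx' : x = a1 ∨ x = b1 ∨ x = c1 := by simpa [gensO] using hx
    rcases hx' with rfl | rfl | rfl
    · exact key (mO !![0, 1, 0, 1, 1, 0; 1, 1, 1, 0, 0, 1; 0, 1, 0, 1, 1, 1; 1, 0, 1, 1, 0, 1; 1, 1, 0, 1, 0, 0; 1, 0, 1, 0, 0, 0]) (mO !![0, 1, 0, 1, 1, 0; 1, 1, 1, 0, 0, 1; 0, 1, 0, 1, 1, 1; 1, 0, 1, 1, 0, 1; 1, 1, 0, 1, 0, 0; 1, 0, 1, 0, 0, 0]) (by decide +kernel) (by decide +kernel) _ _ (by decide +kernel) (by decide +kernel)
    · exact key (mO !![1, 0, 0, 0, 0, 0; 0, 1, 0, 0, 0, 0; 1, 0, 1, 0, 0, 1; 0, 0, 0, 1, 0, 0; 1, 0, 0, 0, 1, 1; 0, 0, 0, 0, 0, 1]) (mO !![1, 0, 0, 0, 0, 0; 0, 1, 0, 0, 0, 0; 1, 0, 1, 0, 0, 1; 0, 0, 0, 1, 0, 0; 1, 0, 0, 0, 1, 1; 0, 0, 0, 0, 0, 1]) (by decide +kernel) (by decide +kernel) _ _ (by decide +kernel) (by decide +kernel)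
    · exact key (mO !![1, 0, 0, 0, 0, 0; 1, 1, 0, 1, 1, 1; 1, 0, 1, 1, 1, 1; 0, 0, 0, 1, 0, 0; 1, 0, 0, 1, 1, 0; 1, 0, 0, 1, 0, 1]) (mO !![1, 0, 0, 0, 0, 0; 1, 1, 0, 1, 1, 1; 1, 0, 1, 1, 1, 1; 0, 0, 0, 1, 0, 0; 1, 0, 0, 1, 1, 0; 1, 0, 0, 1, 0, 1]) (by decide +kernel) (by decide +kernel) _ _ (by decide +kernel) (by decide +kernel)
  | one => exact ⟨1, map_one _⟩
  | mul x y hx hy ihx ihy =>
    obtain ⟨u, hu⟩ := ihx; obtain ⟨v, hv⟩ := ihy
    exact ⟨u * v, by rw [map_mul, hu, hv]; rfl⟩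
  | inv x hx ih =>
    obtain ⟨u, hu⟩ := ih
    exact ⟨u⁻¹, by rw [map_inv, hu]; rfl⟩

/-! ### The symplectic space -/

abbrev IS := Fin 2 ⊕ Fin 2

def finS : IS → Fin 4
  | .inl i => ![0, 1] i
  | .inr i => ![2, 3] i

def mS (A : Matrix (Fin 4) (Fin 4) (ZMod 3)) : Matrix IS IS (ZMod 3) := Matrix.of fun i j => A (finS i) (finS j)
def vS (v : Fin 4 → ZMod 3) : IS → ZMod 3 := fun i => v (finS i)
def span2 (u v : IS → ZMod 3) : Finset (IS → ZMod 3) :=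
  Finset.univ.image fun c : ZMod 3 × ZMod 3 => c.1 • u + c.2 • v

def L : Fin 8 → Finset (IS → ZMod 3) := ![span2 (vS ![0, 0, 0, 1]) (vS ![1, 0, 2, 0]), span2 (vS ![0, 1, 0, 0]) (vS ![1, 0, 0, 0]), span2 (vS ![0, 0, 1, 2]) (vS ![1, 1, 0, 1]), span2 (vS ![0, 1, 2, 0]) (vS ![1, 0, 1, 2]), span2 (vS ![0, 0, 1, 0]) (vS ![0, 1, 0, 1]), span2 (vS ![0, 1, 0, 2]) (vS ![1, 0, 1, 0]), span2 (vS ![0, 0, 1, 1]) (vS ![1, 2, 0, 2]), span2 (vS ![0, 1, 1, 0]) (vS ![1, 0, 1, 1])]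

abbrev SS := ↥(Matrix.symplecticGroup (Fin 2) (ZMod 3))

def PSm : Submonoid (SS × WS) where
  carrier := {p | ∀ i, ∀ v ∈ L i, (p.1 : Matrix IS IS (ZMod 3)) *ᵥ v ∈ L ((p.2 : P8) i)}
  one_mem' := fun i v hv => by simpa using hv
  mul_mem' {p q} hp hq := fun i v hv => by
    show ((p.1 : Matrix IS IS (ZMod 3)) * (q.1 : Matrix IS IS (ZMod 3))) *ᵥ v ∈ L ((p.2 : P8) ((q.2 : P8) i))
    rw [← Matrix.mulVec_mulVec]
    exact hp _ _ (hq i v hv)

def XS : Subgroup (SS × WS) where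
  toSubmonoid := PSm
  inv_mem' {p} hp := by
    have h : p⁻¹ = p ^ (orderOf p - 1) := by
      rw [inv_eq_iff_mul_eq_one, ← pow_succ', Nat.sub_add_cancel (orderOf_pos p), pow_orderOf_eq_one]
    rw [h]
    exact PSm.pow_mem hp _

theorem L_scalar : ∀ a : ZMod 3, a ≠ 0 → ∀ i j, (∀ v ∈ L i, a • v ∈ L j) → i = j := by decide +kernel

theorem scalar_of_fix (A : Matrix IS IS (ZMod 3)) (h : ∀ i, ∀ v ∈ L i, A *ᵥ v ∈ L i) :
    ∀ v, A *ᵥ v = A (Sum.inr 1) (Sum.inr 1) • v := by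
  have hq : ∀ (i : Fin 8) (a w : IS → ZMod 3), (∀ u ∈ L i, a ⬝ᵥ u = 0) → w ∈ L i → a ⬝ᵥ (A *ᵥ w) = 0 :=
    fun i a w ha hw => ha _ (h i w hw)
  have h3 : (3 : ZMod 3) = 0 := by decide +kernel
  have q0 := hq 0 (vS ![0, 1, 0, 0]) (vS ![0, 0, 0, 1]) (by decide +kernel) (by decide +kernel)
  have q1 := hq 0 (vS ![0, 1, 0, 0]) (vS ![1, 0, 2, 0]) (by decide +kernel) (by decide +kernel)
  have q2 := hq 0 (vS ![1, 0, 1, 0]) (vS ![0, 0, 0, 1]) (by decide +kernel) (by decide +kernel)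
  have q3 := hq 0 (vS ![1, 0, 1, 0]) (vS ![1, 0, 2, 0]) (by decide +kernel) (by decide +kernel)
  have q4 := hq 1 (vS ![0, 0, 0, 1]) (vS ![0, 1, 0, 0]) (by decide +kernel) (by decide +kernel)
  have q5 := hq 1 (vS ![0, 0, 0, 1]) (vS ![1, 0, 0, 0]) (by decide +kernel) (by decide +kernel)
  have q6 := hq 1 (vS ![0, 0, 1, 0]) (vS ![0, 1, 0, 0]) (by decide +kernel) (by decide +kernel)
  have q7 := hq 1 (vS ![0, 0, 1, 0]) (vS ![1, 0, 0, 0]) (by decide +kernel) (by decide +kernel)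
  have q8 := hq 2 (vS ![0, 1, 2, 2]) (vS ![0, 0, 1, 2]) (by decide +kernel) (by decide +kernel)
  have q9 := hq 2 (vS ![0, 1, 2, 2]) (vS ![1, 1, 0, 1]) (by decide +kernel) (by decide +kernel)
  have q10 := hq 2 (vS ![1, 0, 2, 2]) (vS ![0, 0, 1, 2]) (by decide +kernel) (by decide +kernel)
  have q11 := hq 2 (vS ![1, 0, 2, 2]) (vS ![1, 1, 0, 1]) (by decide +kernel) (by decide +kernel)
  have q16 := hq 4 (vS ![0, 1, 0, 2]) (vS ![0, 0, 1, 0]) (by decide +kernel) (by decide +kernel)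
  have q17 := hq 4 (vS ![0, 1, 0, 2]) (vS ![0, 1, 0, 1]) (by decide +kernel) (by decide +kernel)
  have q24 := hq 6 (vS ![0, 1, 1, 2]) (vS ![0, 0, 1, 1]) (by decide +kernel) (by decide +kernel)
  simp [vS, finS, dotProduct, Matrix.mulVec, Fintype.sum_sum_type, Fin.sum_univ_two] at q0 q1 q2 q3 q4 q5 q6 q7 q8 q9 q10 q11 q16 q17 q24
  have z0 : A (Sum.inl 0) (Sum.inl 0) = A (Sum.inr 1) (Sum.inr 1) := by linear_combination q0 + 2 * q1 + q2 + q3 + q5 + q6 + q9 + q10 + 2 * q17 + 2 * q24 + ((-1) * A (Sum.inl 0) (Sum.inr 0) + (-1) * A (Sum.inl 0) (Sum.inr 1) + (-1) * A (Sum.inl 1) (Sum.inl 0) + (-1) * A (Sum.inl 1) (Sum.inl 1) + (-2) * A (Sum.inl 1) (Sum.inr 0) + (-2) * A (Sum.inl 1) (Sum.inr 1) + (-1) * A (Sum.inr 0) (Sum.inl 0) + (-1) * A (Sum.inr 0) (Sum.inl 1) + (-2) * A (Sum.inr 0) (Sum.inr 0) + (-3) * A (Sum.inr 0) (Sum.inr 1) + (-1) * A (Sum.inr 1) (Sum.inl 0) + (-2) * A (Sum.inr 1) (Sum.inl 1)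 + (-2) * A (Sum.inr 1) (Sum.inr 0) + (-5) * A (Sum.inr 1) (Sum.inr 1)) * h3
  have z1 : A (Sum.inl 0) (Sum.inl 1) = 0 := by linear_combination 2 * q0 + q1 + q2 + 2 * q3 + q4 + q7 + q8 + 2 * q9 + 2 * q10 + q11 + q16 + q17 + 2 * q24 + ((-1) * A (Sum.inl 0) (Sum.inl 0) + (-2) * A (Sum.inl 0) (Sum.inr 0) + (-2) * A (Sum.inl 0) (Sum.inr 1) + (-1) * A (Sum.inl 1) (Sum.inl 0) + (-1) * A (Sum.inl 1) (Sum.inl 1) + (-2) * A (Sum.inl 1) (Sum.inr 0) + (-3) * A (Sum.inl 1) (Sum.inr 1) + (-3) * A (Sum.inr 0) (Sum.inl 0) + (-2) * A (Sum.inr 0) (Sum.inl 1) + (-4) * A (Sum.inr 0) (Sum.inr 0) + (-7) * A (Sum.inr 0) (Sum.inr 1) + (-2) * A (Sum.inr 1) (Sum.inl 0) + (-3) * A (Sum.inr 1) (Sum.inl 1) + (-4) * A (Sum.inr 1) (Sum.inr 0) + (-8) * A (Sum.inr 1) (Sum.inr 1)) * h3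
  have z2 : A (Sum.inl 0) (Sum.inr 0) = 0 := by linear_combination 2 * q0 + 2 * q1 + q2 + q5 + q6 + q7 + 2 * q8 + q9 + q10 + 2 * q17 + ((-1) * A (Sum.inl 0) (Sum.inr 1) + (-1) * A (Sum.inl 1) (Sum.inl 0) + (-1) * A (Sum.inl 1) (Sum.inl 1) + (-2) * A (Sum.inl 1) (Sum.inr 0) + (-3) * A (Sum.inl 1) (Sum.inr 1) + (-1) * A (Sum.inr 0) (Sum.inl 0) + (-1) * A (Sum.inr 0) (Sum.inl 1) + (-2) * A (Sum.inr 0) (Sum.inr 0) + (-5) * A (Sum.inr 0) (Sum.inr 1) + (-1) * A (Sum.inr 1) (Sum.inl 0) + (-2) * A (Sum.inr 1) (Sum.inl 1) + (-2) * A (Sum.inr 1) (Sum.inr 0) + (-6) * A (Sum.inr 1) (Sum.inr 1)) * h3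
  have z3 : A (Sum.inl 0) (Sum.inr 1) = 0 := by linear_combination q2 + q8 + q16 + q24 + ((-1) * A (Sum.inl 1) (Sum.inr 0) + (-1) * A (Sum.inl 1) (Sum.inr 1) + (-1) * A (Sum.inr 0) (Sum.inr 0) + (-2) * A (Sum.inr 0) (Sum.inr 1) + (-2) * A (Sum.inr 1) (Sum.inr 0) + (-2) * A (Sum.inr 1) (Sum.inr 1)) * h3
  have z4 : A (Sum.inl 1) (Sum.inl 0) = 0 := by linear_combination q5 + q6 + q7 + 2 * q8 + q9 + 2 * q16 + 2 * q17 + 2 * q24 + ((-1) * A (Sum.inl 1) (Sum.inl 1) + (-2) * A (Sum.inl 1) (Sum.inr 0) + (-3) * A (Sum.inl 1) (Sum.inr 1) + (-1) * A (Sum.inr 0) (Sum.inl 0) + (-1) * A (Sum.inr 0) (Sum.inl 1) + (-2) * A (Sum.inr 0) (Sum.inr 0) + (-4) * A (Sum.inr 0) (Sum.inr 1) + (-1) * A (Sum.inr 1) (Sum.inl 0) + (-2) * A (Sum.inr 1) (Sum.inl 1) + (-4) * A (Sum.inr 1) (Sum.inr 0) + (-6) * A (Sum.inr 1) (Sum.inr 1)) * h3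
  have z5 : A (Sum.inl 1) (Sum.inl 1) = A (Sum.inr 1) (Sum.inr 1) := by linear_combination 2 * q0 + q4 + q17 + ((-1) * A (Sum.inl 1) (Sum.inr 1) + (-1) * A (Sum.inr 1) (Sum.inl 1) + (-1) * A (Sum.inr 1) (Sum.inr 1)) * h3
  have z6 : A (Sum.inl 1) (Sum.inr 0) = 0 := by linear_combination 2 * q1 + q5 + q6 + q7 + 2 * q8 + q9 + 2 * q16 + 2 * q17 + 2 * q24 + ((-1) * A (Sum.inl 1) (Sum.inl 0) + (-1) * A (Sum.inl 1) (Sum.inl 1) + (-3) * A (Sum.inl 1) (Sum.inr 0) + (-3) * A (Sum.inl 1) (Sum.inr 1) + (-1) * A (Sum.inr 0) (Sum.inl 0) + (-1) * A (Sum.inr 0) (Sum.inl 1) + (-2) * A (Sum.inr 0) (Sum.inr 0) + (-4) * A (Sum.inr 0) (Sum.inr 1) + (-1) * A (Sum.inr 1) (Sum.inl 0) + (-2) * A (Sum.inr 1) (Sum.inl 1) + (-4) * A (Sum.inr 1) (Sum.inr 0) + (-6) * A (Sum.inr 1) (Sum.inr 1)) * h3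
  have z7 : A (Sum.inl 1) (Sum.inr 1) = 0 := by linear_combination q0
  have z8 : A (Sum.inr 0) (Sum.inl 0) = 0 := by linear_combination q7
  have z9 : A (Sum.inr 0) (Sum.inl 1) = 0 := by linear_combination q6
  have z10 : A (Sum.inr 0) (Sum.inr 0) = A (Sum.inr 1) (Sum.inr 1) := by linear_combination 2 * q0 + q8 + 2 * q24 + ((-1) * A (Sum.inl 1) (Sum.inr 0) + (-2) * A (Sum.inl 1) (Sum.inr 1) + (-1) * A (Sum.inr 0) (Sum.inr 0) + (-2) * A (Sum.inr 0) (Sum.inr 1) + (-2) * A (Sum.inr 1) (Sum.inr 0) + (-3) * A (Sum.inr 1) (Sum.inr 1)) * h3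
  have z11 : A (Sum.inr 0) (Sum.inr 1) = 0 := by linear_combination 2 * q8 + 2 * q16 + 2 * q24 + ((-2) * A (Sum.inl 1) (Sum.inr 0) + (-2) * A (Sum.inl 1) (Sum.inr 1) + (-2) * A (Sum.inr 0) (Sum.inr 0) + (-3) * A (Sum.inr 0) (Sum.inr 1) + (-4) * A (Sum.inr 1) (Sum.inr 0) + (-4) * A (Sum.inr 1) (Sum.inr 1)) * h3
  have z12 : A (Sum.inr 1) (Sum.inl 0) = 0 := by linear_combination q5
  have z13 : A (Sum.inr 1) (Sum.inl 1) = 0 := by linear_combination q4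
  have z14 : A (Sum.inr 1) (Sum.inr 0) = 0 := by linear_combination 2 * q1 + q5 + q6 + q7 + 2 * q8 + q9 + q16 + 2 * q17 + 2 * q24 + ((-1) * A (Sum.inl 1) (Sum.inl 0) + (-1) * A (Sum.inl 1) (Sum.inl 1) + (-3) * A (Sum.inl 1) (Sum.inr 0) + (-3) * A (Sum.inl 1) (Sum.inr 1) + (-1) * A (Sum.inr 0) (Sum.inl 0) + (-1) * A (Sum.inr 0) (Sum.inl 1) + (-2) * A (Sum.inr 0) (Sum.inr 0) + (-4) * A (Sum.inr 0) (Sum.inr 1) + (-1) * A (Sum.inr 1) (Sum.inl 0) + (-2) * A (Sum.inr 1) (Sum.inl 1) + (-3) * A (Sum.inr 1) (Sum.inr 0) + (-6) * A (Sum.inr 1) (Sum.inr 1)) * h3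
  intro v
  funext r
  rcases r with r | r <;> fin_cases r <;>
    simp [Matrix.mulVec, dotProduct, Fintype.sum_sum_type, Fin.sum_univ_two, z0, z1, z2, z3, z4, z5, z6, z7, z8, z9, z10, z11, z12, z13, z14]

theorem sp_snd_surjective : Function.Surjective ((MonoidHom.snd _ _).comp XS.subtype) := by
  rintro ⟨w, hw⟩
  induction hw using Subgroup.closure_induction with
  | mem x hx =>
    have key : ∀ (A : Matrix IS IS (ZMod 3)) (y : P8) (hy : y ∈ WS),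
        A * Matrix.J (Fin 2) (ZMod 3) * A.transpose = Matrix.J (Fin 2) (ZMod 3) →
        (∀ i, ∀ v ∈ L i, A *ᵥ v ∈ L (y i)) →
        ∃ z, ((MonoidHom.snd _ _).comp XS.subtype) z = (⟨y, hy⟩ : WS) :=
      fun A y hy hA hV => ⟨⟨(⟨A, SymplecticGroup.mem_iff.2 hA⟩, ⟨y, hy⟩), hV⟩, rfl⟩
    have hx' : x = b1 ∨ x = c1 ∨ x = a1 * a2 ∨ x = a2 * a4 := by simpa [gensS] using hx
    rcases hx' with rfl | rfl | rfl | rfl
    · exact key (mS !![2, 0, 0, 0; 2, 1, 0, 0; 0, 2, 2, 2; 1, 0, 0, 1]) _ _ (by decide +kernel) (by decide +kernel)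
    · exact key (mS !![0, 2, 0, 0; 1, 0, 0, 0; 0, 2, 0, 2; 2, 0, 1, 0]) _ _ (by decide +kernel) (by decide +kernel)
    · exact key (mS !![2, 1, 0, 2; 0, 0, 2, 2; 1, 2, 1, 0; 2, 2, 2, 0]) _ _ (by decide +kernel) (by decide +kernel)
    · exact key (mS !![0, 1, 0, 2; 2, 0, 2, 0; 0, 0, 0, 1; 0, 0, 2, 0]) _ _ (by decide +kernel) (by decide +kernel)
  | one => exact ⟨1, map_one _⟩
  | mul x y hx hy ihx ihy =>
    obtain ⟨u, hu⟩ := ihx; obtain ⟨v, hv⟩ := ihy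
    exact ⟨u * v, by rw [map_mul, hu, hv]; rfl⟩
  | inv x hx ih =>
    obtain ⟨u, hu⟩ := ih
    exact ⟨u⁻¹, by rw [map_inv, hu]; rfl⟩

theorem symp_part (F : Type) [Field F] [Fintype F] (hF : Fintype.card F = 3) (Q : Sylow 2 (Cfsg.PSp 2 F)) :
    Nonempty (↥(Q : Subgroup (Cfsg.PSp 2 F)) ≃* WS) := by
  classical
  let e : ZMod 3 ≃+* F := ZMod.ringEquivOfPrime F Nat.prime_three hF
  let E : Matrix IS IS (ZMod 3) →+* Matrix IS IS F := e.toRingHom.mapMatrix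
  have hJ : E (Matrix.J (Fin 2) (ZMod 3)) = Matrix.J (Fin 2) F := by
    ext i j
    rcases i with i | i <;> rcases j with j | j <;>
      simp [E, Matrix.J, Matrix.one_apply, apply_ite]
  let T : SS →* ↥(Matrix.symplecticGroup (Fin 2) F) :=
    { toFun := fun x => ⟨E x.1, SymplecticGroup.mem_iff.2 (by
        have ht : E x.1.transpose = (E x.1).transpose := by ext i j; rfl
        rw [← hJ, ← ht, ← map_mul, ← map_mul, SymplecticGroup.mem_iff.1 x.2])⟩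
      map_one' := Subtype.ext (map_one E)
      map_mul' := fun x y => Subtype.ext (map_mul E _ _) }
  have hT : Function.Injective T := fun x y h => Subtype.ext (Matrix.map_injective e.injective (congrArg Subtype.val h))
  let f : XS →* Cfsg.PSp 2 F := (QuotientGroup.mk' _).comp (T.comp ((MonoidHom.fst _ _).comp XS.subtype))
  refine sylow_iso (m := 405) (by norm_num) ?_ card_WS f _ sp_snd_surjective ?_ Q
  · have h1 := Subgroup.card_eq_card_quotient_mul_card_subgroup (Subgroup.center ↥(Matrix.symplecticGroup (Fin 2) F))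
    rw [SymplecticOrder.card_symplectic hF, SymplecticSimple.card_center hF (by norm_num)] at h1
    norm_num [Finset.prod_range_succ] at h1
    show Nat.card _ = 25920
    simp only [← Nat.card_eq_fintype_card] at h1
    change _ = Nat.card (Cfsg.PSp 2 F) * 2 at h1
    omega
  · ext ⟨⟨g, s⟩, hp⟩
    show T g ∈ (QuotientGroup.mk' _).ker ↔ s = 1
    rw [QuotientGroup.ker_mk']
    constructor
    · intro hz
      have hgz : g ∈ Subgroup.center SS := Subgroup.mem_center_iff.2 fun k => hT (by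
        rw [map_mul, map_mul]; exact Subgroup.mem_center_iff.1 hz (T k))
      obtain ⟨a, ha2, ha⟩ := (SymplecticSimple.mem_center_iff (by norm_num)).1 hgz
      refine Subtype.ext (Equiv.ext fun i => ?_)
      refine (L_scalar a (fun h => by simp [h] at ha2) i _ fun v hv => ?_).symm
      have := hp i v hv
      rwa [show (g : Matrix IS IS (ZMod 3)) *ᵥ v = a • v from ha v] at this
    · intro hs
      subst hs
      have hsc := scalar_of_fix (g : Matrix IS IS (ZMod 3)) fun i v hv => by simpa using hp i v hv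
      refine SymplecticSimple.mem_center_of_scalar (a := e ((g : Matrix IS IS (ZMod 3)) (Sum.inr 1) (Sum.inr 1))) fun v => ?_
      show E g.1 *ᵥ v = _
      funext r
      have h := congrFun (hsc (e.symm ∘ v)) r
      have h' := congrArg e h
      simp only [Matrix.mulVec, dotProduct, map_sum, map_mul, Function.comp_apply, RingEquiv.apply_symm_apply, Pi.smul_apply, smul_eq_mul] at h'
      simpa [E, Matrix.mulVec, dotProduct] using h'

theorem orth_part (K : Type) [Field K] [Fintype K] (hK : Fintype.card K = 2) (a b : K)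
    (hab : ∀ z₁ z₂ : K, z₁ ^ 2 + a * z₁ * z₂ + b * z₂ ^ 2 = 0 → z₁ = 0 ∧ z₂ = 0)
    (Q : Sylow 2 ↥(Cfsg.isometryGroup K (Cfsg.quadFormMinus 2 K a b))) :
    Nonempty (↥(Q : Subgroup ↥(Cfsg.isometryGroup K (Cfsg.quadFormMinus 2 K a b))) ≃* WO) := by
  classical
  let e : ZMod 2 ≃+* K := ZMod.ringEquivOfPrime K Nat.prime_two hK
  have h01 : ∀ x : K, x = 0 ∨ x = 1 := fun x => by
    obtain ⟨z, rfl⟩ := e.surjective x
    rcases (show z = 0 ∨ z = 1 by revert z; decide) with rfl | rfl <;> simp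
  have hb : b = 1 := (h01 b).resolve_left fun h => one_ne_zero (hab 0 1 (by simp [h])).2
  have htwo : (1 : K) + 1 = 0 := by
    rw [← map_one e, ← map_add, show (1 : ZMod 2) + 1 = 0 from rfl, map_zero]
  have ha : a = 1 := (h01 a).resolve_left fun h => one_ne_zero (hab 1 1 (by simp [h, hb, htwo])).1
  subst ha hb
  let E : GL IO (ZMod 2) →* GL IO K := Units.map e.toRingHom.mapMatrix.toMonoidHom
  have hQ : ∀ v : IO → ZMod 2, Cfsg.quadFormMinus 2 K 1 1 (e ∘ v) = e (QO v) := fun v => by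
    simp only [Cfsg.quadFormMinus, QO, map_add, map_sum, map_mul, map_pow, map_one, Function.comp_apply]
  have hmem : ∀ g ∈ Cfsg.isometryGroup (ZMod 2) QO, E g ∈ Cfsg.isometryGroup K (Cfsg.quadFormMinus 2 K 1 1) := by
    intro g hg u w
    show Cfsg.quadFormMinus 2 K 1 1 (((g : Matrix IO IO (ZMod 2)).map e) *ᵥ u) = Cfsg.quadFormMinus 2 K 1 1 u
    obtain ⟨v, rfl⟩ : ∃ v, u = e ∘ v := ⟨e.symm ∘ u, funext fun i => (e.apply_symm_apply _).symm⟩
    have hm : ((g : Matrix IO IO (ZMod 2)).map e) *ᵥ (e ∘ v) = e ∘ ((g : Matrix IO IO (ZMod 2)) *ᵥ v) :=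
      funext fun r => (RingHom.map_mulVec e.toRingHom _ v r).symm
    rw [hm, hQ, hQ]
    exact congrArg e (hg v v)
  let T : ↥(Cfsg.isometryGroup (ZMod 2) QO) →* ↥(Cfsg.isometryGroup K (Cfsg.quadFormMinus 2 K 1 1)) :=
    (E.comp (Cfsg.isometryGroup (ZMod 2) QO).subtype).codRestrict _ fun g => hmem _ g.2
  have hT : Function.Injective T := fun x y h => Subtype.ext (Units.ext
    (Matrix.map_injective e.injective (congrArg (fun z : ↥(Cfsg.isometryGroup K (Cfsg.quadFormMinus 2 K 1 1)) => ((z : GL IO K) : Matrix IO IO K)) h)))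
  refine sylow_iso (m := 405) (by norm_num) ?_ card_WO (T.comp ((MonoidHom.fst _ _).comp XO.subtype)) _ snd_surjective ?_ Q
  · rw [OrthUnitaryForms.card_isometryGroup_minus hK hab 2]
    norm_num [Finset.prod_range_succ]
  · rw [(MonoidHom.ker_eq_bot_iff _).2 snd_injective, MonoidHom.ker_eq_bot_iff]
    exact hT.comp fst_injective

theorem result (F : Type) [Field F] [Fintype F] (hF : Fintype.card F = 3) (K : Type) [Field K] [Fintype K] (hK : Fintype.card K = 2) (a b : K) (hab : ∀ z₁ z₂ : K, z₁ ^ 2 + a * z₁ * z₂ + b * z₂ ^ 2 = 0 → z₁ = 0 ∧ z₂ = 0) (P : Sylow 2 ↥(alternatingGroup (Fin 8))) (Q : Sylow 2 (Cfsg.PSp 2 F)) (P' : Sylow 2 (Equiv.Perm (Fin 8))) (Q' : Sylow 2 ↥(Cfsg.isometryGroup K (Cfsg.quadFormMinus 2 K a b))) : Nonempty (↥(P : Subgroup ↥(alternatingGroup (Fin 8))) ≃* ↥(Q : Subgroup (Cfsg.PSp 2 F))) ∧ Nonempty (↥(P' : Subgroup (Equiv.Perm (Fin 8))) ≃* ↥(Q' : Subgroup ↥(Cfsg.isometryGroup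 K (Cfsg.quadFormMinus 2 K a b)))) := by
  constructor
  · have hle : WS ≤ alternatingGroup (Fin 8) := by
      refine (Subgroup.closure_le _).2 fun x hx => ?_
      have hx' : x = b1 ∨ x = c1 ∨ x = a1 * a2 ∨ x = a2 * a4 := by simpa [gensS] using hx
      show Equiv.Perm.sign x = 1
      rcases hx' with rfl | rfl | rfl | rfl <;> decide +kernel
    obtain ⟨e1⟩ := wreath_iso WS card_WS _ hle (m := 315) (by norm_num) (by
      rw [nat_card_alternatingGroup, Nat.card_fin]; norm_num [Nat.factorial]) P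
    obtain ⟨e2⟩ := symp_part F hF Q
    exact ⟨e1.trans e2.symm⟩
  · obtain ⟨e1⟩ := sylow_iso (G := Equiv.Perm (Fin 8)) (k := 7) (m := 315) (by norm_num)
      (by rw [Nat.card_perm, Nat.card_fin]; norm_num [Nat.factorial]) card_WO WO.subtype (MonoidHom.id WO)
      (fun x => ⟨x, rfl⟩) (by rw [(MonoidHom.ker_eq_bot_iff _).2 WO.subtype_injective, MonoidHom.ker_id]) P'
    obtain ⟨e2⟩ := orth_part K hK a b hab Q'
    exact ⟨e1.trans e2.symm⟩

end Cfsg.Agent.S2931
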