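import Cfsg.Statements.S2932
import Cfsg.Agent.Lib.NaturalOvergroupFour35

set_option autoImplicit false
open Cfsg

namespace Cfsg.Agent.S2932

open Cfsg.Agent.NaturalOvergroup35

/-- Let p be a prime. Inside a finite ambient group let V be an elementary abelian p-subgroup and G a subgroup normalizing V and acting faithfully on it (G ∩ C(V) = 1), and let L ≤ G act on V as SL₂(F) on its natural module, F a finite field of characteristic p, with L ≅ SL₂(F). If every Sylow p-subgroup of N_G(L) is a Sylow p-subgroup of G, then either L is normal in G, or F has 4 elements and G is isomorphic to the alternating group of degree 7. -/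
theorem result {X : Type*} [Group X] [Finite X] {p : ℕ} [Fact p.Prime] (F : Type) [Field F] [Fintype F] [CharP F p] (V G L : Subgroup X) (hV : Cfsg.IsElementaryAbelian p V) (hGV : G ≤ Subgroup.normalizer (V : Set X)) (hfaith : G ⊓ Subgroup.centralizer (V : Set X) = ⊥) (hLG : L ≤ G) (hnat : Cfsg.IsNaturalSL2Module F V L) (hLiso : Nonempty (↥L ≃* Matrix.SpecialLinearGroup (Fin 2) F)) (hSyl : ∀ S : Sylow p ↥(G ⊓ Subgroup.normalizer (L : Set X)), ∀ P : Sylow p ↥G, Nat.card S = Nat.card P) : (L.subgroupOf G).Normal ∨ (Fintype.card F = 4 ∧ Nonempty (↥G ≃* ↥(alternatingGroup (Fin 7)))) := by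
  classical
  obtain ⟨-, ρ, ψ, hρs, hρk, heq⟩ := hnat
  have hVc : ∀ a b : ↥V, a * b = b * a := fun a b => hV.1.is_comm.comm a b
  letI : CommGroup ↥V := { (inferInstance : Group ↥V) with mul_comm := hVc }
  have hnorm : ∀ (g : ↥G) (v : ↥V), (g : X) * v * (g : X)⁻¹ ∈ V := fun g v =>
    (Subgroup.mem_normalizer_iff.mp (hGV g.2) v).mp v.2
  let cj : ↥G → ↥V → ↥V := fun g v => ⟨(g : X) * v * (g : X)⁻¹, hnorm g v⟩
  letI : DistribMulAction ↥G (Additive ↥V) :=
    { smul := fun g v => Additive.ofMul (cj g (Additive.toMul v))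
      one_smul := fun v => Additive.toMul.injective (Subtype.ext (show ((1 : ↥G) : X) * _ * ((1 : ↥G) : X)⁻¹ = _ by simp))
      mul_smul := fun g k v => Additive.toMul.injective (Subtype.ext (show ((g * k : ↥G) : X) * _ * ((g * k : ↥G) : X)⁻¹ =
        (g : X) * ((k : X) * _ * (k : X)⁻¹) * (g : X)⁻¹ by simp [mul_assoc]))
      smul_zero := fun g => Additive.toMul.injective (Subtype.ext (show (g : X) * 1 * (g : X)⁻¹ = 1 by simp))
      smul_add := fun g u v => Additive.toMul.injective (Subtype.ext (show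
        (g : X) * (((Additive.toMul u : ↥V) : X) * ((Additive.toMul v : ↥V) : X)) * (g : X)⁻¹ =
          ((g : X) * ((Additive.toMul u : ↥V) : X) * (g : X)⁻¹) *
            ((g : X) * ((Additive.toMul v : ↥V) : X) * (g : X)⁻¹) by group)) }
  have hsm : ∀ (g : ↥G) (v : Additive ↥V), ((Additive.toMul (g • v) : ↥V) : X) =
      g * (Additive.toMul v : ↥V) * (g : X)⁻¹ := fun g v => rfl
  have hker : ρ.ker = ⊥ := by
    rw [hρk, eq_bot_iff]
    intro l hl
    have h1 : (l : X) ∈ G ⊓ Subgroup.centralizer (V : Set X) := ⟨hLG l.2, Subgroup.mem_subgroupOf.mp hl⟩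
    rw [hfaith, Subgroup.mem_bot] at h1
    exact Subgroup.mem_bot.mpr (Subtype.ext h1)
  let e : ↥(L.subgroupOf G) ≃* Matrix.SpecialLinearGroup (Fin 2) F :=
    (Subgroup.subgroupOfEquivOfLe hLG).trans (MulEquiv.ofBijective ρ ⟨(MonoidHom.ker_eq_bot_iff ρ).mp hker, hρs⟩)
  have hequiv : ∀ (l : ↥(L.subgroupOf G)) (w : Additive ↥V),
      ψ ((l : ↥G) • w) = (e l : Matrix (Fin 2) (Fin 2) F).mulVec (ψ w) := by
    intro l w
    obtain ⟨w', hw', hψ'⟩ := heq (Subgroup.subgroupOfEquivOfLe hLG l) (Additive.toMul w)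
    have h1 : ((l : ↥G) • w : Additive ↥V) = Additive.ofMul w' :=
      Additive.toMul.injective (Subtype.ext ((hsm _ _).trans hw'.symm))
    rw [h1]
    exact hψ'
  have hff : ∀ g : ↥G, (∀ w : Additive ↥V, g • w = w) → g = 1 := by
    intro g hg
    refine Subtype.ext (Subgroup.mem_bot.mp (hfaith ▸ ?_))
    refine ⟨g.2, Subgroup.mem_centralizer_iff.mpr fun v hv => ?_⟩
    have := congrArg (fun u : Additive ↥V => ((Additive.toMul u : ↥V) : X)) (hg (Additive.ofMul (⟨v, hv⟩ : ↥V)))
    change ((Additive.toMul (g • Additive.ofMul (⟨v, hv⟩ : ↥V)) : ↥V) : X) = v at this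
    rw [hsm] at this
    change (g : X) * v * (g : X)⁻¹ = v at this
    conv_lhs => rw [← this]
    group
  let N : Nat2 ↥G (Additive ↥V) F :=
    { L := L.subgroupOf G, ρ := e, ψ := ψ, equiv := hequiv, faithful := hff }
  -- Sylow subgroups of the normalizer
  have hNN : (G ⊓ Subgroup.normalizer (L : Set X)).subgroupOf G =
      Subgroup.normalizer ((L.subgroupOf G : Subgroup ↥G) : Set ↥G) := by
    ext g
    rw [Subgroup.mem_subgroupOf, Subgroup.mem_inf, Subgroup.mem_normalizer_iff, Subgroup.mem_normalizer_iff]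
    constructor
    · rintro ⟨-, h⟩ y
      exact h y
    · intro h
      refine ⟨g.2, fun y => ⟨fun hy => ?_, fun hy => ?_⟩⟩
      · exact (h ⟨y, hLG hy⟩).mp hy
      · have hyG : y ∈ G := by
          have := G.mul_mem (G.mul_mem (G.inv_mem g.2) (hLG hy)) g.2
          simpa [mul_assoc] using this
        exact (h ⟨y, hyG⟩).mpr hy
  have hSyl' : ∀ S : Sylow p ↥(Subgroup.normalizer (N.L : Set ↥G)), ∀ P : Sylow p ↥G,
      Nat.card S = Nat.card P := by
    intro S P
    obtain ⟨S'⟩ : Nonempty (Sylow p ↥(G ⊓ Subgroup.normalizer (L : Set X))) := inferInstance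
    rw [← hSyl S' P]
    let eN : ↥(Subgroup.normalizer (N.L : Set ↥G)) ≃* ↥(G ⊓ Subgroup.normalizer (L : Set X)) :=
      (MulEquiv.subgroupCongr hNN.symm).trans (Subgroup.subgroupOfEquivOfLe inf_le_left)
    rw [S.card_eq_multiplicity, S'.card_eq_multiplicity, Nat.card_congr eN.toEquiv]
  obtain ⟨T, hAT, hTN, hTX⟩ := N.exists_T hSyl'
  by_cases hexc : Fintype.card F = 4 ∧ p = 2 ∧ ¬ (T : Subgroup ↥G) ≤ N.A
  · obtain ⟨hq, rfl, hTA⟩ := hexc
    rcases N.four T hAT hTN hTX hq hTA with h | h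
    · exact Or.inl h
    · exact Or.inr ⟨hq, h⟩
  · exact Or.inl (N.normal_of_ti (fun a g ha ha1 hag => N.ti T hAT hTN hTX hexc ha ha1 hag)
      (fun x hx a ha => N.conj_A T hAT hTN hTX hx ha))

end Cfsg.Agent.S2932
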