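import Cfsg.Statements.S2933
import Cfsg.Agent.Lib.HigmanFourTypes65
import Cfsg.Agent.Lib.SU3TwoHeisEmbed
import Cfsg.Agent.Lib.SU3TwoHeisAut
import Cfsg.Agent.Lib.PSL34Parabolic
-- import your own Cfsg.Agent.* helpers here

set_option autoImplicit false
open Cfsg

namespace Cfsg.Agent.S2933

set_option maxHeartbeats 400000

open HigmanFour65 EngelClass65

/-- the field with 16 elements: the unitary model -/
theorem unitaryModel :
    ∃ (F : Type) (_ : Field F) (_ : Fintype F), Fintype.card F = 16 ∧ ∀ P : Sylow 2 (Cfsg.PSU 3 F 4),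
      ∃ D : Data PU ↥(P : Subgroup (Cfsg.PSU 3 F 4)), Function.Bijective D.nf := by
  classical
  haveI : Fintype (GaloisField 2 4) := Fintype.ofFinite _
  refine ⟨GaloisField 2 4, inferInstance, inferInstance, ?_, fun P => ?_⟩
  · rw [← Nat.card_eq_fintype_card, GaloisField.card 2 4 (by norm_num)]; norm_num
  have hF : Fintype.card (GaloisField 2 4) = (2 ^ 2) ^ 2 := by
    rw [← Nat.card_eq_fintype_card, GaloisField.card 2 4 (by norm_num)]; norm_num
  obtain ⟨hc2, σ, hinvσ, hσ, hne, hfix, hcard, -, hP⟩ :=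
    SU3TwoHeisEmbed.exists_model (F := GaloisField 2 4) (n := 2) (by norm_num) hF
  obtain ⟨e⟩ := hP P
  haveI : Finite (SU3TwoHeis.HU σ) := Nat.finite_of_card_ne_zero (by rw [hcard]; norm_num)
  -- a cube root of unity
  haveI : Fact (Nat.Prime 3) := ⟨Nat.prime_three⟩
  obtain ⟨μ, hμ⟩ := exists_prime_orderOf_dvd_card' (G := (GaloisField 2 4)ˣ) 3 (by
    rw [Nat.card_eq_fintype_card, Fintype.card_units, hF]; norm_num)
  have hμ1 : (μ : GaloisField 2 4) ≠ 1 := fun h => by
    have e : μ = 1 := Units.ext h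
    rw [e, orderOf_one] at hμ; omega
  have hμ3 : (μ : GaloisField 2 4) ^ 3 = 1 := by
    rw [← Units.val_pow_eq_pow_val, ← hμ, pow_orderOf_eq_one, Units.val_one]
  have hσμ : σ (μ : GaloisField 2 4) = μ := by
    rw [hσ, show (2 : ℕ) ^ 2 = 3 + 1 by norm_num, pow_succ, hμ3, one_mul]
  let r : SU3TwoHeis.HU σ ≃* SU3TwoHeis.HU σ :=
    SU3TwoHeisAut.mkAut μ (RingEquiv.refl _) (fun _ => rfl) 0
  have hA : ∀ x, SU3TwoHeis.fA (r x) = μ * SU3TwoHeis.fA x := fun x =>
    SU3TwoHeisAut.fA_mkAut _ _ _ _ x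
  have hB : ∀ x, SU3TwoHeis.fB (r x) = μ * μ * SU3TwoHeis.fB x := fun x => by
    show _ * σ _ * _ + ((0 : GaloisField 2 4 →+ SU3TwoHeis.fixd σ) (SU3TwoHeis.fA x) : GaloisField 2 4) = _
    rw [hσμ]; simp
  have hfpf : Fpf3 r := by
    refine ⟨fun x => SU3TwoHeis.ext' ?_ ?_, fun x hx => SU3TwoHeis.ext' ?_ ?_⟩
    · rw [hA, hA, hA]; linear_combination SU3TwoHeis.fA x * hμ3
    · rw [hB, hB, hB]
      linear_combination (SU3TwoHeis.fB x * ((μ : GaloisField 2 4) ^ 3 + 1)) * hμ3
    · have h := congrArg SU3TwoHeis.fA hx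
      rw [hA] at h
      rcases eq_or_ne (SU3TwoHeis.fA x) 0 with h0 | h0
      · exact h0
      · exact absurd (mul_right_cancel₀ h0 (h.trans (one_mul _).symm)) hμ1
    · have h := congrArg SU3TwoHeis.fB hx
      rw [hB] at h
      rcases eq_or_ne (SU3TwoHeis.fB x) 0 with h0 | h0
      · exact h0
      · exfalso
        have h1 : (μ : GaloisField 2 4) * μ = 1 := mul_right_cancel₀ h0 (h.trans (one_mul _).symm)
        apply hμ1
        linear_combination hμ3 - (μ : GaloisField 2 4) * h1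
  let V : Subgroup (SU3TwoHeis.HU σ) := Subgroup.center _
  have hB' : Base r V := by
    refine ⟨IsPGroup.of_card (n := 6) (by rw [hcard]; norm_num), hfpf, ?_, ?_, ?_, ?_⟩
    · rw [Nat.card_congr (SU3TwoHeis.centerEquiv hne), hfix]; norm_num
    · exact fun x hx => (SU3TwoHeis.sq_eq_one_iff x).2 ((SU3TwoHeis.mem_center_iff hne x).1 hx)
    · exact fun g x hx => Subgroup.mem_center_iff.1 hx g
    · intro x hx
      rw [SU3TwoHeis.mem_center_iff hne] at hx ⊢
      rw [hA, hx, mul_zero]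
  have hinv : ∀ x : SU3TwoHeis.HU σ, x * x = 1 → x ∈ V := fun x hx =>
    (SU3TwoHeis.mem_center_iff hne x).2 ((SU3TwoHeis.sq_eq_one_iff x).1 hx)
  have hna : ¬ ∀ a b : SU3TwoHeis.HU σ, a * b = b * a := fun h => by
    obtain ⟨x, hx⟩ := SU3TwoHeis.exists_fA hne 1
    have h1 := (SU3TwoHeis.mem_center_iff hne x).1 (Subgroup.mem_center_iff.2 fun g => h g x)
    rw [hx] at h1
    exact one_ne_zero h1
  obtain ⟨D, hD⟩ := hB'.exists_dataU hinv hna
  exact exists_transport D hD e.symm
where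
  exists_transport {T T' : Type} [Group T] [Group T'] {Q : Par} (D : Data Q T)
      (hD : Function.Bijective D.nf) (f : T ≃* T') :
      ∃ D' : Data Q T', Function.Bijective D'.nf := by
    have hp : ∀ (g : T) (t : Bool), f (pw g t) = pw (f g) t := fun g t => by cases t <;> simp [pw]
    let D' : Data Q T' :=
      { x1 := f D.x1, x2 := f D.x2, y1 := f D.y1, y2 := f D.y2, v := f D.v, w := f D.w
        cv := fun g => by obtain ⟨g, rfl⟩ := f.surjective g; rw [← map_mul, D.cv, map_mul]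
        cw := fun g => by obtain ⟨g, rfl⟩ := f.surjective g; rw [← map_mul, D.cw, map_mul]
        v2 := by rw [← map_mul, D.v2, map_one]
        w2 := by rw [← map_mul, D.w2, map_one]
        hx := by rw [← map_mul, D.hx, map_mul]
        hy := by rw [← map_mul, D.hy, map_mul]
        hq1 := by rw [← map_mul, D.hq1, map_mul, hp, hp]
        hq2 := by rw [← map_mul, D.hq2, map_mul, hp, hp]
        hq3 := by rw [← map_mul, D.hq3, map_mul, hp, hp]
        hq4 := by rw [← map_mul, D.hq4, map_mul, hp, hp]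
        h13 := by rw [← map_mul, D.h13, map_mul, map_mul, map_mul, hp, hp]
        h14 := by rw [← map_mul, D.h14, map_mul, map_mul, map_mul, hp, hp]
        h23 := by rw [← map_mul, D.h23, map_mul, map_mul, map_mul, hp, hp]
        h24 := by rw [← map_mul, D.h24, map_mul, map_mul, map_mul, hp, hp] }
    have e : D'.nf = f ∘ D.nf := by
      funext u
      show _ = f (pw D.x1 u.1.1 * pw D.x2 u.1.2 * (pw D.y1 u.2.1.1 * pw D.y2 u.2.1.2) *
        (pw D.v u.2.2.1 * pw D.w u.2.2.2))
      simp only [map_mul, hp]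
      rfl
    exact ⟨D', by rw [e]; exact f.bijective.comp hD⟩

/-- the field with 4 elements: the linear model -/
theorem linearModel :
    ∃ (F : Type) (_ : Field F) (_ : Fintype F), Fintype.card F = 4 ∧
      ∀ P : Sylow 2 (Matrix.ProjectiveSpecialLinearGroup (Fin 3) F),
        ∃ D : Data PL ↥(P : Subgroup (Matrix.ProjectiveSpecialLinearGroup (Fin 3) F)),
          Function.Bijective D.nf := by
  classical
  haveI : Fintype (GaloisField 2 2) := Fintype.ofFinite _
  refine ⟨GaloisField 2 2, inferInstance, inferInstance, ?_, fun P => ?_⟩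
  · rw [← Nat.card_eq_fintype_card, GaloisField.card 2 2 (by norm_num)]; norm_num
  haveI : Fact (Nat.Prime 2) := ⟨Nat.prime_two⟩
  have hF : Fintype.card (GaloisField 2 2) = 4 := by
    rw [← Nat.card_eq_fintype_card, GaloisField.card 2 2 (by norm_num)]; norm_num
  obtain ⟨h2, w, hw0, hw1, hw⟩ := L34MultiplierBound.field_four hF
  have hww : w * w = 1 + w := by
    rcases hw (w * w) with h | h | h | h
    · exact absurd (mul_self_eq_zero.1 h) hw0
    · rcases mul_self_eq_one_iff.1 h with h' | h'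
      · exact absurd h' hw1
      · exact absurd (h'.trans (by linear_combination -h2)) hw1
    · exact absurd (mul_left_cancel₀ hw0 (h.trans (mul_one w).symm)) hw1
    · exact h
  let S := L34MultiplierBound.sylow (F := GaloisField 2 2) h2
  have hc64 : Nat.card S = 2 ^ 6 := by
    have h := S.card_mul_index
    rw [L34MultiplierBound.index_sylow h2 hF, L34MultiplierBound.card_psl hF] at h
    omega
  let U : Sylow 2 (Matrix.ProjectiveSpecialLinearGroup (Fin 3) (GaloisField 2 2)) :=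
    (IsPGroup.of_card hc64).toSylow (by rw [L34MultiplierBound.index_sylow h2 hF]; norm_num)
  let el : GaloisField 2 2 → GaloisField 2 2 → GaloisField 2 2 → S := fun a b c =>
    ⟨L34MultiplierBound.proj (L34MultiplierBound.uni a b c), (a, b, c), rfl⟩
  have hmul : ∀ a b c a' b' c', el a b c * el a' b' c' = el (a + a') (b + b') (a' * b + c + c') := by
    intro a b c a' b' c'
    apply Subtype.ext
    show L34MultiplierBound.proj _ * L34MultiplierBound.proj _ = L34MultiplierBound.proj _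
    rw [← map_mul, L34MultiplierBound.uni_mul h2]
  have hone : el 0 0 0 = 1 := Subtype.ext (by
    show L34MultiplierBound.proj (L34MultiplierBound.uni 0 0 0) = 1
    rw [L34MultiplierBound.uni_zero, map_one])
  have hsurj : ∀ g : S, ∃ a b c, g = el a b c := by
    rintro ⟨g, ⟨⟨a, b, c⟩, rfl⟩⟩
    exact ⟨a, b, c, rfl⟩
  have hss : ∀ x : GaloisField 2 2, x + x = 0 := fun x => by linear_combination x * h2
  let D : Data PL S :=
    { x1 := el 1 0 0, x2 := el w 0 0, y1 := el 0 1 0, y2 := el 0 w 0, v := el 0 0 1, w := el 0 0 (1 + w)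
      cv := fun g => by obtain ⟨a, b, c, rfl⟩ := hsurj g; rw [hmul, hmul]; congr 1 <;> ring
      cw := fun g => by obtain ⟨a, b, c, rfl⟩ := hsurj g; rw [hmul, hmul]; congr 1 <;> ring
      v2 := by rw [hmul, ← hone]; simp [hss]
      w2 := by rw [hmul, ← hone]; simp [hss]
      hx := by rw [hmul, hmul]; congr 1 <;> ring
      hy := by rw [hmul, hmul]; congr 1 <;> ring
      hq1 := by show _ = 1 * 1; rw [one_mul, hmul, ← hone]; simp [hss]
      hq2 := by show _ = 1 * 1; rw [one_mul, hmul, ← hone]; simp [hss]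
      hq3 := by show _ = 1 * 1; rw [one_mul, hmul, ← hone]; simp [hss]
      hq4 := by show _ = 1 * 1; rw [one_mul, hmul, ← hone]; simp [hss]
      h13 := by
        show _ = el 1 0 0 * el 0 1 0 * (el 0 0 1 * 1)
        rw [mul_one, hmul, hmul, hmul]; congr 1 <;> ring
      h14 := by
        show _ = el 1 0 0 * el 0 w 0 * (el 0 0 1 * el 0 0 (1 + w))
        rw [hmul, hmul, hmul, hmul]; congr 1 <;> first | ring1 | linear_combination -h2
      h23 := by
        show _ = el w 0 0 * el 0 1 0 * (el 0 0 1 * el 0 0 (1 + w))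
        rw [hmul, hmul, hmul, hmul]; congr 1 <;> first | ring1 | linear_combination -h2
      h24 := by
        show _ = el w 0 0 * el 0 w 0 * (1 * el 0 0 (1 + w))
        rw [one_mul, hmul, hmul, hmul]; congr 1 <;> first | ring1 | linear_combination hww }
  have hsurjD : Function.Surjective D.nf := by
    have htop : D.sub invC_PL = ⊤ := by
      rw [eq_top_iff]
      intro g _
      obtain ⟨a, b, c, rfl⟩ := hsurj g
      have gen : ∀ u : Crd, D.nf u ∈ D.sub invC_PL := fun u => ⟨u, rfl⟩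
      have hx : ∀ a, el a 0 0 ∈ D.sub invC_PL := by
        intro a
        rcases hw a with rfl | rfl | rfl | rfl
        · rw [hone]; exact one_mem _
        · exact ⟨((true, false), (false, false), (false, false)), by simp [Data.nf, Data.ev, pw]; rfl⟩
        · exact ⟨((false, true), (false, false), (false, false)), by simp [Data.nf, Data.ev, pw]; rfl⟩
        · exact ⟨((true, true), (false, false), (false, false)), by
            simp [Data.nf, Data.ev, pw]; show el 1 0 0 * el w 0 0 = _; rw [hmul]; congr 1 <;> ring⟩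
      have hy : ∀ a, el 0 a 0 ∈ D.sub invC_PL := by
        intro a
        rcases hw a with rfl | rfl | rfl | rfl
        · rw [hone]; exact one_mem _
        · exact ⟨((false, false), (true, false), (false, false)), by simp [Data.nf, Data.ev, pw]; rfl⟩
        · exact ⟨((false, false), (false, true), (false, false)), by simp [Data.nf, Data.ev, pw]; rfl⟩
        · exact ⟨((false, false), (true, true), (false, false)), by
            simp [Data.nf, Data.ev, pw]; show el 0 1 0 * el 0 w 0 = _; rw [hmul]; congr 1 <;> ring⟩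
      have hz : ∀ a, el 0 0 a ∈ D.sub invC_PL := by
        intro a
        rcases hw a with h | h | h | h <;> rw [h]
        · rw [hone]; exact one_mem _
        · exact ⟨((false, false), (false, false), (true, false)), by simp [Data.nf, Data.ev, pw]; rfl⟩
        · exact ⟨((false, false), (false, false), (true, true)), by
            simp [Data.nf, Data.ev, pw]; show el 0 0 1 * el 0 0 (1 + w) = _; rw [hmul]
            congr 1 <;> first | ring1 | linear_combination h2⟩
        · exact ⟨((false, false), (false, false), (false, true)), by simp [Data.nf, Data.ev, pw]; rfl⟩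
      have e : el a b c = el a 0 0 * el 0 b 0 * el 0 0 c := by rw [hmul, hmul]; congr 1 <;> ring
      rw [e]
      exact mul_mem (mul_mem (hx a) (hy b)) (hz c)
    intro g
    have : g ∈ D.sub invC_PL := htop ▸ Subgroup.mem_top g
    exact this
  have hbij := hsurjD.bijective_of_nat_card_le (le_of_eq (by rw [hc64]; simp [Crd, E2]))
  exact unitaryModel.exists_transport D hbij (Sylow.equiv U P)

/-- Let T be a 2-subgroup of a finite group G, V ≤ Z(T) a four-group, and t, ρ ∈ N_G(V) ∩ N_G(T) elements of order 2 and 3 with t commuting with ρ and with V. If [V, ρ] = V and C_T(t) = V, then T is elementary abelian of order 16, or homocyclic of rank 2 (ℤ/2ⁿ × ℤ/2ⁿ for some n ≥ 1), or isomorphic to a Sylow 2-subgroup of PSL₃(4) or of PSU₃(4). -/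
theorem result {G : Type*} [Group G] [Finite G] (T V : Subgroup G) (hT : IsPGroup 2 ↥T) (hVT : V ≤ T ⊓ Subgroup.centralizer (T : Set G)) (hV : Nat.card ↥V = 4 ∧ ∀ v ∈ V, v ^ 2 = 1) (t ρ : G) (ht : orderOf t = 2) (hρ : orderOf ρ = 3) (htn : t ∈ Subgroup.normalizer (V : Set G) ⊓ Subgroup.normalizer (T : Set G)) (hρn : ρ ∈ Subgroup.normalizer (V : Set G) ⊓ Subgroup.normalizer (T : Set G)) (htρ : t * ρ = ρ * t) (htV : t ∈ Subgroup.centralizer (V : Set G)) (hVρ : ⁅V, Subgroup.zpowers ρ⁆ = V) (hCt : T ⊓ Subgroup.centralizer ({t} : Set G) = V) : (Nat.card ↥T = 16 ∧ ∀ x ∈ T, x ^ 2 = 1) ∨ (∃ n : ℕ, 1 ≤ n ∧ Nonempty (↥T ≃* Multiplicative (ZMod (2 ^ n)) × Multiplicative (ZMod (2 ^ n)))) ∨ (∃ (F : Type) (_ : Field F) (_ : Fintype F), Fintype.card F = 4 ∧ ∀ P : Sylow 2 (Matrix.ProjectiveSpecialLinearGroup (Fin 3) F), Nonempty (↥T ≃* ↥(P : Subgroup (Matrix.ProjectiveSpecialLinearGroup (Fin 3) F)))) ∨ (∃ (F : Type) (_ : Field F) (_ : Fintype F), Fintype.card F = 16 ∧ ∀ P : Sylow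 2 (Cfsg.PSU 3 F 4), Nonempty (↥T ≃* ↥(P : Subgroup (Cfsg.PSU 3 F 4)))) := by
  classical
  have hρT : ∀ x, x ∈ T ↔ ρ * x * ρ⁻¹ ∈ T := Subgroup.mem_normalizer_iff.1 (Subgroup.mem_inf.1 hρn).2
  have hρV : ∀ x, x ∈ V ↔ ρ * x * ρ⁻¹ ∈ V := Subgroup.mem_normalizer_iff.1 (Subgroup.mem_inf.1 hρn).1
  have htT : ∀ x, x ∈ T ↔ t * x * t⁻¹ ∈ T := Subgroup.mem_normalizer_iff.1 (Subgroup.mem_inf.1 htn).2
  have hρ3 : ρ * ρ * ρ = 1 := by
    have h := pow_orderOf_eq_one ρ
    rw [hρ, pow_succ, pow_two] at h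
    exact h
  have htt : t * t = 1 := by rw [← pow_two, ← ht, pow_orderOf_eq_one]
  let r : ↥T ≃* ↥T :=
    { toFun := fun x => ⟨ρ * x.1 * ρ⁻¹, (hρT x.1).1 x.2⟩
      invFun := fun x => ⟨ρ⁻¹ * x.1 * ρ, (hρT _).2 (by
        rw [show ρ * (ρ⁻¹ * x.1 * ρ) * ρ⁻¹ = x.1 by group]; exact x.2)⟩
      left_inv := fun x => Subtype.ext (by show ρ⁻¹ * (ρ * x.1 * ρ⁻¹) * ρ = x.1; group)
      right_inv := fun x => Subtype.ext (by show ρ * (ρ⁻¹ * x.1 * ρ) * ρ⁻¹ = x.1; group)
      map_mul' := fun x y => Subtype.ext (by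
        show ρ * (x.1 * y.1) * ρ⁻¹ = ρ * x.1 * ρ⁻¹ * (ρ * y.1 * ρ⁻¹); group) }
  let τ : ↥T ≃* ↥T :=
    { toFun := fun x => ⟨t * x.1 * t⁻¹, (htT x.1).1 x.2⟩
      invFun := fun x => ⟨t⁻¹ * x.1 * t, (htT _).2 (by
        rw [show t * (t⁻¹ * x.1 * t) * t⁻¹ = x.1 by group]; exact x.2)⟩
      left_inv := fun x => Subtype.ext (by show t⁻¹ * (t * x.1 * t⁻¹) * t = x.1; group)
      right_inv := fun x => Subtype.ext (by show t * (t⁻¹ * x.1 * t) * t⁻¹ = x.1; group)
      map_mul' := fun x y => Subtype.ext (by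
        show t * (x.1 * y.1) * t⁻¹ = t * x.1 * t⁻¹ * (t * y.1 * t⁻¹); group) }
  set V' : Subgroup ↥T := V.subgroupOf T with hV'
  have hVle : V ≤ T := hVT.trans inf_le_left
  have htau : Base.Tau r τ V' := by
    refine ⟨fun x => Subtype.ext ?_, fun x => Subtype.ext ?_, fun x => ?_⟩
    · show t * (t * x.1 * t⁻¹) * t⁻¹ = x.1
      rw [show t * (t * x.1 * t⁻¹) * t⁻¹ = (t * t) * x.1 * (t * t)⁻¹ by group, htt, one_mul, inv_one, mul_one]
    · show t * (ρ * x.1 * ρ⁻¹) * t⁻¹ = ρ * (t * x.1 * t⁻¹) * ρ⁻¹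
      rw [show t * (ρ * x.1 * ρ⁻¹) * t⁻¹ = (t * ρ) * x.1 * (t * ρ)⁻¹ by group, htρ]; group
    · rw [hV', Subgroup.mem_subgroupOf]
      have key : (x : G) ∈ T ⊓ Subgroup.centralizer ({t} : Set G) ↔ t * x.1 = x.1 * t := by
        rw [Subgroup.mem_inf, Subgroup.mem_centralizer_singleton_iff]
        exact ⟨fun h => h.2.symm, fun h => ⟨x.2, h.symm⟩⟩
      rw [hCt] at key
      rw [key, ← mul_inv_eq_iff_eq_mul]
      exact Subtype.ext_iff
  have hVfree : ∀ v ∈ V, ρ * v * ρ⁻¹ = v → v = 1 := by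
    intro v hv hfix
    by_contra hv1
    have hcent : ∀ u ∈ V, ρ * u * ρ⁻¹ = u := by
      intro u hu
      by_contra hne
      have hu1 : u ≠ 1 := by rintro rfl; exact hne (by group)
      have huv : u ≠ v := by rintro rfl; exact hne hfix
      have h1 : ρ * u * ρ⁻¹ ∈ V := (hρV u).1 hu
      have hset : ({1, v, u, v * u} : Set G) = (V : Set G) := by
        refine Set.eq_of_subset_of_ncard_le ?_ ?_ (Set.toFinite _)
        · intro z hz
          simp only [Set.mem_insert_iff, Set.mem_singleton_iff] at hz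
          rcases hz with rfl | rfl | rfl | rfl
          exacts [one_mem V, hv, hu, mul_mem hv hu]
        · have hvu1 : v * u ≠ 1 := fun h => huv (by
            rw [← inv_eq_of_mul_eq_one_right h]
            exact inv_eq_of_mul_eq_one_right (by rw [← pow_two]; exact hV.2 v hv))
          rw [Set.ncard_insert_of_notMem (by
              simp only [Set.mem_insert_iff, Set.mem_singleton_iff]
              push Not
              exact ⟨fun h => hv1 h.symm, fun h => hu1 h.symm, hvu1.symm⟩),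
            Set.ncard_eq_three.2 ⟨v, u, v * u, huv.symm, fun h => hu1 (left_eq_mul.1 h),
              fun h => hv1 (right_eq_mul.1 h), rfl⟩]
          exact le_of_eq hV.1
      have h2 : ρ * u * ρ⁻¹ ∈ ({1, v, u, v * u} : Set G) := hset ▸ h1
      simp only [Set.mem_insert_iff, Set.mem_singleton_iff] at h2
      rcases h2 with h | h | h | h
      · exact hu1 (by simpa using h)
      · exact huv (mul_left_cancel (a := ρ) (mul_right_cancel (b := ρ⁻¹) (h.trans hfix.symm)))
      · exact hne h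
      · have h3 : ρ * (ρ * u * ρ⁻¹) * ρ⁻¹ = u := by
          rw [h, show ρ * (v * u) * ρ⁻¹ = (ρ * v * ρ⁻¹) * (ρ * u * ρ⁻¹) by group, hfix, h, ← mul_assoc,
            ← pow_two, hV.2 v hv, one_mul]
        apply hne
        calc ρ * u * ρ⁻¹ = ρ * (ρ * (ρ * u * ρ⁻¹) * ρ⁻¹) * ρ⁻¹ := by rw [h3]
          _ = (ρ * ρ * ρ) * u * (ρ * ρ * ρ)⁻¹ := by group
          _ = u := by rw [hρ3]; group
    apply hv1
    have hbot : ⁅V, Subgroup.zpowers ρ⁆ = ⊥ := by
      rw [Subgroup.commutator_eq_bot_iff_le_centralizer]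
      intro u hu
      rw [Subgroup.mem_centralizer_iff]
      rintro g ⟨k, rfl⟩
      have hcu : Commute ρ u := mul_inv_eq_iff_eq_mul.1 (hcent u hu)
      exact (hcu.zpow_left k).eq
    rw [hbot] at hVρ
    rw [← hVρ, Subgroup.mem_bot] at hv
    exact hv
  haveI : Fact (Nat.Prime 2) := ⟨Nat.prime_two⟩
  have hfree : ∀ x : ↥T, r x = x → x = 1 := by
    intro x hx
    let F : Subgroup ↥T :=
      { carrier := {y | r y = y}
        one_mem' := map_one r
        mul_mem' := fun {a b} (ha : r a = a) (hb : r b = b) => by show r (a * b) = a * b; rw [map_mul, ha, hb]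
        inv_mem' := fun {a} (ha : r a = a) => by show r a⁻¹ = a⁻¹; rw [map_inv, ha] }
    by_contra hx1
    let τF : ↥F ≃* ↥F :=
      { toFun := fun y => ⟨τ y.1, by show r (τ y.1) = τ y.1; rw [← htau.comm, y.2]⟩
        invFun := fun y => ⟨τ y.1, by show r (τ y.1) = τ y.1; rw [← htau.comm, y.2]⟩
        left_inv := fun y => Subtype.ext (htau.invol y.1)
        right_inv := fun y => Subtype.ext (htau.invol y.1)
        map_mul' := fun a b => Subtype.ext (map_mul τ a.1 b.1) }
    have hne : (⊥ : Subgroup ↥F) ≠ ⊤ := by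
      intro h
      have h' : (⟨x, hx⟩ : ↥F) ∈ (⊥ : Subgroup ↥F) := by rw [h]; exact Subgroup.mem_top _
      exact hx1 (Subtype.ext_iff.1 (Subgroup.mem_bot.1 h'))
    obtain ⟨w, hw, hwt⟩ := Base.exists_fixed_coset (hT.to_subgroup F) τF
      (fun y => Subtype.ext (htau.invol y.1)) ⊥ (fun y hy => by
        rw [Subgroup.mem_bot] at hy ⊢; rw [hy, map_one]) hne
    rw [Subgroup.mem_bot, inv_mul_eq_one] at hwt
    have hwV : (w.1 : G) ∈ V := (htau.fix w.1).1 (congrArg Subtype.val hwt.symm)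
    have := hVfree _ hwV (congrArg Subtype.val w.2)
    exact hw (Subgroup.mem_bot.2 (Subtype.ext (Subtype.ext this)))
  have B : Base r V' := by
    refine ⟨hT, ⟨fun x => Subtype.ext ?_, hfree⟩, ?_, ?_, ?_, ?_⟩
    · show ρ * (ρ * (ρ * x.1 * ρ⁻¹) * ρ⁻¹) * ρ⁻¹ = x.1
      rw [show ρ * (ρ * (ρ * x.1 * ρ⁻¹) * ρ⁻¹) * ρ⁻¹ = (ρ * ρ * ρ) * x.1 * (ρ * ρ * ρ)⁻¹ by group, hρ3]
      group
    · rw [hV', Nat.card_congr (Subgroup.subgroupOfEquivOfLe hVle).toEquiv, hV.1]
    · intro x hx
      exact Subtype.ext (by show x.1 * x.1 = 1; rw [← pow_two]; exact hV.2 _ hx)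
    · intro g x hx
      exact Subtype.ext (Subgroup.mem_centralizer_iff.1 (Subgroup.mem_inf.1 (hVT hx)).2 g.1 g.2)
    · intro x hx
      exact (hρV x.1).1 hx
  by_cases hΩ : ∀ x ∈ Subgroup.center ↥T, x * x = 1 → x ∈ V'
  · by_cases hinv : ∀ x : ↥T, x * x = 1 → x ∈ V'
    · by_cases hab : ∀ a b : ↥T, a * b = b * a
      · exact Or.inr (Or.inl (B.homocyclic hab hinv))
      · obtain ⟨D, hD⟩ := B.exists_dataU hinv hab
        obtain ⟨F, iF, iFF, hF, hP⟩ := unitaryModel
        refine Or.inr (Or.inr (Or.inr ⟨F, iF, iFF, hF, fun P => ?_⟩))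
        obtain ⟨D', hD'⟩ := hP P
        exact D.nonempty_equiv D' hD hD'
    · push Not at hinv
      obtain ⟨a, ha2, haV⟩ := hinv
      obtain ⟨D, hD⟩ := B.exists_dataL htau hΩ ha2 (fun h => haV (hΩ a h ha2))
      obtain ⟨F, iF, iFF, hF, hP⟩ := linearModel
      refine Or.inr (Or.inr (Or.inl ⟨F, iF, iFF, hF, fun P => ?_⟩))
      obtain ⟨D', hD'⟩ := hP P
      exact D.nonempty_equiv D' hD hD'
  · -- elementary abelian of order 16
    push Not at hΩ
    obtain ⟨u, huZ, hu2, huV⟩ := hΩ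
    left
    let Om : Subgroup ↥T :=
      { carrier := {x | x ∈ Subgroup.center ↥T ∧ x * x = 1}
        one_mem' := ⟨one_mem _, one_mul _⟩
        mul_mem' := fun {a b} ha hb => ⟨mul_mem ha.1 hb.1, by
          calc a * b * (a * b) = a * (b * a) * b := by group
            _ = (a * a) * (b * b) := by rw [Subgroup.mem_center_iff.1 ha.1 b]; group
            _ = 1 := by rw [ha.2, hb.2, one_mul]⟩
        inv_mem' := fun {a} ha => ⟨inv_mem ha.1, by rw [← mul_inv_rev, ha.2, inv_one]⟩ }
    have hmapOm : ∀ (f : ↥T ≃* ↥T), ∀ x ∈ Om, f x ∈ Om := by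
      intro f x hx
      refine ⟨Subgroup.mem_center_iff.2 fun g => f.symm.injective ?_, by rw [← map_mul, hx.2, map_one]⟩
      rw [map_mul, map_mul, f.symm_apply_apply]
      exact Subgroup.mem_center_iff.1 hx.1 _
    have hVOm : V' ≤ Om := fun x hx => ⟨B.V_le_center hx, B.sq x hx⟩
    have hOm16 : Nat.card Om = 16 := by
      refine le_antisymm (B.X_card_le htau Om fun x hx => ?_) ?_
      · have h2 : τ x * τ x = 1 := by rw [← map_mul, hx.2, map_one]
        rw [← htau.fix, map_mul, map_inv, htau.invol, inv_eq_of_mul_eq_one_right h2,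
          inv_eq_of_mul_eq_one_right hx.2]
        exact Subgroup.mem_center_iff.1 hx.1 (τ x)
      · have := B.card_four (Q := Om) B.map hVOm ⟨huZ, hu2⟩ (hmapOm r u ⟨huZ, hu2⟩) huV
          (by rw [hu2]; exact one_mem _) (fun n hn g => B.central g n hn)
        rwa [B.card4] at this
    have htop := B.eq_top_of_elementary htau Om hOm16 (fun x hx => hx.2) (hmapOm τ)
    refine ⟨?_, fun x hx => ?_⟩
    · rw [← hOm16, htop, Subgroup.card_top]
    · have h : (⟨x, hx⟩ : ↥T) ∈ Om := htop ▸ Subgroup.mem_top _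
      rw [pow_two]
      exact congrArg Subtype.val h.2

end Cfsg.Agent.S2933
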