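import Cfsg.Statements.S2937
import Cfsg.Agent.Lib.PMinLinear87
import Cfsg.Agent.Lib.PMinClassical87
import Cfsg.Agent.Lib.PMinExc87
import Cfsg.Agent.Lib.PMinSmall87
import Cfsg.Agent.Lib.PMinTits87
import Cfsg.Agent.Lib.PMinUThree87

set_option autoImplicit false
open Cfsg

namespace Cfsg.Agent.S2937

open Cfsg.Agent.PMinExc87 (Ans)

/-- the exceptions -/
abbrev Exc (K : Type*) [Group K] : Prop :=
  (∃ (F : Type) (_ : Field F) (_ : Fintype F) (_ : CharP F 2), Nonempty (K ≃* Matrix.ProjectiveSpecialLinearGroup (Fin 3) F)) ∨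
    (∃ (F : Type) (_ : Field F) (_ : Fintype F) (_ : CharP F 2), 4 ≤ Fintype.card F ∧ Nonempty (K ≃* Cfsg.PSp 2 F)) ∨
    Nonempty (K ≃* ↥(alternatingGroup (Fin 6)))

theorem ans_chev {K : Type*} [Group K] [Finite K] {p : ℕ} [hp : Fact p.Prime] (hK : Cfsg.IsChevSimple p K) :
    Ans p K (Cfsg.IsLieRankOneChar p K) (p = 2 ∧ Exc K) := by
  rcases hK with h | ⟨rfl, h⟩ | ⟨rfl, F, _, _, hF, ⟨e⟩⟩
  · rcases h with h | h | h | h | h | h | h | h | ⟨rfl, h⟩ | ⟨rfl, h⟩ | ⟨rfl, h⟩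
    · obtain ⟨F, _, _, _, n, hn, h2, ⟨e⟩⟩ := h
      refine Ans.of_equiv e (PMinLinear87.ans_psl hn h2 (fun hn2 => ?_) fun hn3 hp2 => ?_)
      · subst hn2
        exact Or.inl ⟨F, inferInstance, inferInstance, inferInstance, h2 rfl, ⟨e⟩⟩
      · subst hn3 hp2
        exact ⟨rfl, Or.inl ⟨F, inferInstance, inferInstance, inferInstance, ⟨e⟩⟩⟩
    · obtain ⟨F, _, _, _, m, hm, h2, ⟨e⟩⟩ := h
      refine Ans.of_equiv e (PMinClassical87.ans_psp hm h2 fun hm2 hp2 => ?_)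
      subst hm2 hp2
      obtain ⟨n, -, hn⟩ := FiniteField.card F 2
      refine ⟨rfl, Or.inr (Or.inl ⟨F, inferInstance, inferInstance, inferInstance, ?_, ⟨e⟩⟩)⟩
      have h3 := h2 rfl
      rw [hn] at h3 ⊢
      rcases (by omega : (n : ℕ) = 0 ∨ (n : ℕ) = 1 ∨ 2 ≤ (n : ℕ)) with h | h | h
      · rw [h] at h3; norm_num at h3
      · rw [h] at h3; norm_num at h3
      · exact le_trans (by norm_num) (Nat.pow_le_pow_right (by norm_num) h)
    · obtain ⟨F, _, _, _, n, q, hF, hn, h32, ⟨e⟩⟩ := h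
      refine Ans.of_equiv e (PMinClassical87.ans_psu hn hF h32 fun hn3 => ?_)
      subst hn3
      exact Or.inr (Or.inl ⟨F, inferInstance, inferInstance, inferInstance, q, hF, fun h => h32 ⟨rfl, h⟩, ⟨e⟩⟩)
    · obtain ⟨F, _, _, _, m, hm, hodd, ⟨e⟩⟩ := h
      exact Ans.of_equiv e (PMinClassical87.ans_odd hm hodd)
    · obtain ⟨F, _, _, _, m, hm, ⟨e⟩⟩ := h
      exact Ans.of_equiv e (PMinClassical87.ans_plus hm)
    · obtain ⟨F, _, _, _, m, a, b, hm, hab, ⟨e⟩⟩ := h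
      exact Ans.of_equiv e (PMinClassical87.ans_minus hm hab)
    · exact PMinExc87.exceptional h
    · exact PMinExc87.e6d4 h
    · exact PMinSmall87.suzuki h (Or.inr (Or.inr (Or.inl ⟨rfl, h⟩)))
    · exact PMinExc87.f4 h
    · exact PMinSmall87.ree h (Or.inr (Or.inr (Or.inr ⟨rfl, Or.inl h⟩)))
  · rcases h with ⟨⟨e⟩⟩ | ⟨F, _, _, hF, ⟨e⟩⟩ | h
    · exact Ans.of_equiv e (PMinSmall87.a6 ⟨rfl, Or.inr (Or.inr ⟨e⟩)⟩)
    · haveI : CharP F 3 := by
        haveI : Fact (Nat.Prime 3) := ⟨Nat.prime_three⟩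
        exact charP_of_card_eq_prime_pow (f := 2) (by rw [hF]; norm_num)
      exact Ans.of_equiv (H := Cfsg.PSU 3 F 3) e (PMinUThree87.u33 hF)
    · exact PMinTits87.tits h
  · exact Ans.of_equiv e (PMinSmall87.l28 hF
      (Or.inr (Or.inr (Or.inr ⟨rfl, Or.inr ⟨F, inferInstance, inferInstance, hF, ⟨e⟩⟩⟩))))

/-- Let X be a finite p-minimal group whose generalized Fitting subgroup K = F*(X) is a simple group of Lie type in characteristic p, and let U be a Sylow p-subgroup of K. Then N_X(U) is a maximal subgroup of X, and either K has Lie rank one (K ≅ PSL₂(pᵉ), PSU₃(pᵉ), a Suzuki group for p = 2, or a Ree group or PSL₂(8) for p = 3), or p = 2, K ≠ X and K is isomorphic to PSL₃(2ᵉ) or to PSp₄(2ᵉ) (e ≥ 2) or to the alternating group of degree 6. -/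
theorem result {X : Type*} [Group X] [Finite X] {p : ℕ} [Fact p.Prime] (hX : Cfsg.IsPMinimal p X) (hK : Cfsg.IsChevSimple p ↥(Cfsg.generalizedFittingSubgroup X)) (U : Sylow p ↥(Cfsg.generalizedFittingSubgroup X)) : IsCoatom (Subgroup.normalizer (((U : Subgroup ↥(Cfsg.generalizedFittingSubgroup X)).map (Cfsg.generalizedFittingSubgroup X).subtype : Subgroup X) : Set X)) ∧ (Cfsg.IsLieRankOneChar p ↥(Cfsg.generalizedFittingSubgroup X) ∨ (p = 2 ∧ Cfsg.generalizedFittingSubgroup X ≠ ⊤ ∧ ((∃ (F : Type) (_ : Field F) (_ : Fintype F) (_ : CharP F 2), Nonempty (↥(Cfsg.generalizedFittingSubgroup X) ≃* Matrix.ProjectiveSpecialLinearGroup (Fin 3) F)) ∨ (∃ (F : Type) (_ : Field F) (_ : Fintype F) (_ : CharP F 2), 4 ≤ Fintype.card F ∧ Nonempty (↥(Cfsg.generalizedFittingSubgroup X) ≃* Cfsg.PSp 2 F)) ∨ Nonempty (↥(Cfsg.generalizedFittingSubgroup X) ≃* ↥(alternatingGroup (Fin 6)))))) := by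
  haveI := ComponentsFitting.gen_normal (G := X)
  obtain ⟨h1, h2⟩ := PMin87.main hX (Cfsg.generalizedFittingSubgroup X) U (ans_chev hK U)
  exact ⟨h1, h2.imp id fun ⟨⟨hp, hx⟩, hne⟩ => ⟨hp, hne, hx⟩⟩

end Cfsg.Agent.S2937
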