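import Mathlib
import Cfsg.Statements.S2939
import Cfsg.Agent.Lib.SylowChainsBasic

set_option autoImplicit false
open Cfsg

namespace Cfsg.Agent.S2939

open scoped Pointwise
open Cfsg.Agent.SylowChainsBasic

variable {G : Type*} [Group G] [Finite G] {p : ℕ} [Fact p.Prime]

/-- Factorisation data for an element `h` with respect to `S` and `A`. -/
def Data (p : ℕ) (𝓕 : Set (Subgroup G)) (S : Sylow p G) (A : Set G) (h : G) : Prop :=
  ∃ (n : ℕ) (Y : Fin n → Subgroup G) (y : Fin n → G),
    (∀ i : Fin n, Y i ∈ Cfsg.sylowMembers p 𝓕 (S : Subgroup G) ∧ y i ∈ Y i) ∧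
    h = (List.ofFn y).prod ∧
    ∀ i : Fin n, Cfsg.conjRight (((List.ofFn y).take (i.val + 1)).prod) A ⊆ (S : Set G) ∩ (Y i : Set G)

theorem Data.snoc {𝓕 : Set (Subgroup G)} {S : Sylow p G} {A : Set G} {h : G}
    (hd : Data p 𝓕 S A h) {Z : Subgroup G} {v : G}
    (hZ : Z ∈ Cfsg.sylowMembers p 𝓕 (S : Subgroup G)) (hv : v ∈ Z)
    (hA : Cfsg.conjRight (h * v) A ⊆ (S : Set G) ∩ (Z : Set G)) : Data p 𝓕 S A (h * v) := by
  obtain ⟨n, Y, y, h1, rfl, h2⟩ := hd
  have e : List.ofFn (Fin.snoc y v : Fin (n + 1) → G) = List.ofFn y ++ [v] := by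
    rw [List.ofFn_succ', List.concat_eq_append]
    simp
  refine ⟨n + 1, Fin.snoc Y Z, Fin.snoc y v, fun i => ?_, by rw [e]; simp, fun i => ?_⟩
  · induction i using Fin.lastCases with
    | last => simpa using ⟨hZ, hv⟩
    | cast i => simpa using h1 i
  · induction i using Fin.lastCases with
    | last =>
      rw [e, Fin.snoc_last, List.take_of_length_le (by simp), List.prod_append]
      simpa using hA
    | cast i =>
      rw [e, Fin.snoc_castSucc, Fin.val_castSucc, List.take_append_of_le_length (by simp)]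
      exact h2 i

theorem forward {𝓕 : Set (Subgroup G)} (h𝓕 : Cfsg.IsNormalSet 𝓕)
    (hc : Cfsg.ControlsSylowIntersections p 𝓕) : Cfsg.FamilyStronglyControlsFusion p 𝓕 := by
  rintro S A g hAS ⟨a, haA, ha1⟩ hAg
  set T : Sylow p G := g • S
  have hAT : ∀ b ∈ A, b ∈ (T : Subgroup G) := by
    intro b hb
    rw [coe_smul_eq_map, mem_map_conj]
    exact hAg ⟨b, hb, rfl⟩
  set D := (S : Subgroup G) ⊓ (T : Subgroup G)
  have hD : D ≠ ⊥ := fun e => ha1 (Subgroup.mem_bot.mp (e ▸ (⟨hAS haA, hAT a haA⟩ : a ∈ D)))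
  have hlink : Linked p 𝓕 D S T := Linked.of_controls hc hD inf_le_left inf_le_right
  have hdata : ∃ h : G, Data p 𝓕 S A h ∧ T = h • S := by
    suffices h : ∀ b : Sylow p G, Linked p 𝓕 D S b → ∃ h : G, Data p 𝓕 S A h ∧ b = h • S from
      h T hlink
    intro b hb
    induction hb with
    | refl => exact ⟨1, ⟨0, Fin.elim0, Fin.elim0, fun i => i.elim0, by simp, fun i => i.elim0⟩,
        (one_smul G S).symm⟩
    | tail _ hstep ih =>
      rename_i c d _
      obtain ⟨h, hd, rfl⟩ := ih
      obtain ⟨X, x, hXc, -, hx, heq, hDX⟩ := hstep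
      have hd' : d = x • (h • S) := by
        apply Sylow.ext
        rw [coe_smul_eq_map x (h • S), ← heq, subgroupConjRight_eq, map_conj_conj, mul_inv_cancel,
          map_conj_one]
      subst hd'
      have hZ : X.map (MulAut.conj h⁻¹).toMonoidHom ∈ Cfsg.sylowMembers p 𝓕 (S : Subgroup G) := by
        have := sylowMembers_map h𝓕 hXc h⁻¹
        rwa [coe_smul_eq_map, map_conj_conj, inv_mul_cancel, map_conj_one] at this
      have e : h * (h⁻¹ * x * h) = x * h := by group
      refine ⟨x * h, e ▸ hd.snoc hZ ⟨x, hx, by simp⟩ ?_, by rw [mul_smul]⟩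
      rintro _ ⟨b, hb, rfl⟩
      obtain ⟨hbd, hbX⟩ := Subgroup.mem_inf.mp (hDX (Subgroup.mem_inf.mpr ⟨hAS hb, hAT b hb⟩))
      refine ⟨?_, ?_⟩
      · rw [← mul_smul, coe_smul_eq_map, mem_map_conj] at hbd
        rw [e]
        exact hbd
      · rw [SetLike.mem_coe, mem_map_conj, inv_inv, e]
        have := X.mul_mem (X.mul_mem (X.inv_mem hx) hbX) hx
        simpa [mul_assoc] using this
  obtain ⟨h, ⟨n, Y, y, h1, h2, h3⟩, hT⟩ := hdata
  refine ⟨n, Y, y, h⁻¹ * g, ?_, h1, ?_, h3⟩
  · apply Sylow.smul_eq_iff_mem_normalizer.mp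
    rw [mul_smul]
    show h⁻¹ • T = S
    rw [hT, inv_smul_smul]
  · rw [← h2]; group

theorem backward {𝓕 : Set (Subgroup G)} (h𝓕 : Cfsg.IsNormalSet 𝓕)
    (hc : Cfsg.FamilyStronglyControlsFusion p 𝓕) : Cfsg.ControlsSylowIntersections p 𝓕 := by
  rw [controls_iff]
  intro S T _ hD
  obtain ⟨g, rfl⟩ := MulAction.exists_smul_eq G S T
  set D := (S : Subgroup G) ⊓ ((g • S : Sylow p G) : Subgroup G)
  obtain ⟨a, ha, ha1⟩ := (Subgroup.bot_or_exists_ne_one D).resolve_left hD
  have hDS : ∀ b ∈ (D : Set G), g⁻¹ * b * g ∈ (S : Subgroup G) := fun b hb => by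
    have := (Subgroup.mem_inf.mp (SetLike.mem_coe.mp hb)).2
    rwa [coe_smul_eq_map, mem_map_conj] at this
  obtain ⟨n, Y, y, y₀, hy₀, hY, hg, hpre⟩ := hc S (D : Set G) g (fun b hb => hb.1) ⟨a, ha, ha1⟩
    (by rintro _ ⟨b, hb, rfl⟩; exact hDS b hb)
  set P : ℕ → G := fun k => ((List.ofFn y).take k).prod
  have hchain := reflTransGen_of_chain (r := Step p 𝓕 D)
    (fun i : Fin (n + 1) => P i.val • S) fun i => by
      refine ⟨(Y i).map (MulAut.conj (P i.val)).toMonoidHom,
        P i.val * y i * (P i.val)⁻¹, ?_, ?_, ⟨y i, (hY i).2, by simp⟩, ?_, ?_⟩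
      · rw [coe_smul_eq_map, Fin.val_castSucc]
        exact sylowMembers_map h𝓕 (hY i).1 _
      · have hP : P i.succ.val = P i.val * y i := by
          simp only [P, Fin.val_succ]
          rw [List.prod_take_succ _ _ (by simp), List.getElem_ofFn]
        rw [coe_smul_eq_map, hP, ← map_conj_conj]
        have h0 := sylowMembers_map h𝓕 (hY i).1 (y i)
        rw [map_conj_self (hY i).2] at h0
        exact sylowMembers_map h𝓕 h0 _
      · have hP : P i.succ.val = P i.val * y i := by
          simp only [P, Fin.val_succ]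
          rw [List.prod_take_succ _ _ (by simp), List.getElem_ofFn]
        rw [coe_smul_eq_map, coe_smul_eq_map, subgroupConjRight_eq, map_conj_conj, hP,
          Fin.val_castSucc]
        congr 3
        group
      · intro b hb
        have h5 := hpre i ⟨b, hb, rfl⟩
        have hP : P i.succ.val = P i.val * y i := by
          simp only [P, Fin.val_succ]
          rw [List.prod_take_succ _ _ (by simp), List.getElem_ofFn]
        refine Subgroup.mem_inf.mpr ⟨?_, ?_⟩
        · rw [coe_smul_eq_map, mem_map_conj, Fin.val_succ]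
          exact h5.1
        · have h6 : (P i.succ.val)⁻¹ * b * P i.succ.val ∈ Y i := by
            rw [Fin.val_succ]; exact h5.2
          rw [hP] at h6
          rw [mem_map_conj]
          have := (Y i).mul_mem ((Y i).mul_mem (hY i).2 h6) ((Y i).inv_mem (hY i).2)
          simpa [mul_assoc] using this
  have h0 : P 0 • S = S := by simp [P]
  have hn : P n • S = g • S := by
    have hPn : P n = g * y₀⁻¹ := by
      simp only [P, hg, mul_inv_cancel_right]
      rw [List.take_of_length_le (by simp)]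
    rw [hPn, mul_smul, Sylow.smul_eq_iff_mem_normalizer.mpr (inv_mem hy₀)]
  simpa [h0, hn, Linked] using hchain

/-- Let p be a prime dividing the order of the finite group G and 𝓕 a family of subgroups of G closed under conjugation, with conjugates taken as X^g = g⁻¹Xg. Then 𝓕 controls Sylow p-intersections in G (any two distinct Sylow p-subgroups S and T with S ∩ T ≠ 1 are joined by a chain S = S₀, S₁, …, Sₙ = T of Sylow p-subgroups where, for each i, some member Xᵢ of 𝓕 meets both S_{i-1} and Sᵢ in Sylow p-subgroups of Xᵢ, satisfies S ∩ T ≤ Sᵢ ∩ Xᵢ, and contains an element xᵢ with Sᵢ^{xᵢ} = S_{i-1}) if and only if 𝓕 strongly controls p-fusion in G (whenever A is a subset of a Sylow p-subgroup S, A contains an element other than 1, and A^g ⊆ S, the element g factorises as g = y₁⋯yₙy with y ∈ N_G(S) and each yᵢ in a member Yᵢ of 𝓕 that meets S in a Sylow p-subgroup of Yᵢ, with A^{y₁⋯yᵢ} ⊆ S ∩ Yᵢ for each i). -/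
theorem result {G : Type*} [Group G] [Finite G] {p : ℕ} [Fact p.Prime] (hdiv : p ∣ Nat.card G) (𝓕 : Set (Subgroup G)) (h𝓕 : Cfsg.IsNormalSet 𝓕) : Cfsg.ControlsSylowIntersections p 𝓕 ↔ Cfsg.FamilyStronglyControlsFusion p 𝓕 := by
  exact ⟨forward h𝓕, backward h𝓕⟩

end Cfsg.Agent.S2939
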