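import Mathlib
import Cfsg.Statements.S2940

set_option autoImplicit false
open Cfsg

namespace Cfsg.Agent.S2940

/-- Let S be a Sylow p-subgroup of the finite group G and G₁, G₂ subgroups containing S with G = G₁G₂. Then for every g ∈ G there is a Sylow p-subgroup U of G with S ∩ S^g ≤ U ≤ G₁ ∩ G₂^g (conjugates taken as X^g = g⁻¹Xg). -/
theorem result {G : Type*} [Group G] [Finite G] {p : ℕ} [Fact p.Prime] (S : Sylow p G) (G₁ G₂ : Subgroup G) (h1 : (S : Subgroup G) ≤ G₁) (h2 : (S : Subgroup G) ≤ G₂) (hfact : ∀ g : G, ∃ g₁ ∈ G₁, ∃ g₂ ∈ G₂, g = g₁ * g₂) (g : G) : ∃ U : Sylow p G, (S : Subgroup G) ⊓ Cfsg.subgroupConjRight g (S : Subgroup G) ≤ (U : Subgroup G) ∧ (U : Subgroup G) ≤ G₁ ⊓ Cfsg.subgroupConjRight g G₂ := by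
  obtain ⟨a, ha, b, hb, hab⟩ := hfact g⁻¹
  have hg : g = b⁻¹ * a⁻¹ := by rw [← mul_inv_rev, ← hab, inv_inv]
  have hconj : Cfsg.subgroupConjRight g G₂ = Cfsg.subgroupConjRight a⁻¹ G₂ := by
    simp only [Cfsg.subgroupConjRight, inv_inv]
    ext x
    simp only [Subgroup.mem_map]
    constructor
    · rintro ⟨y, hy, rfl⟩
      refine ⟨b * y * b⁻¹, G₂.mul_mem (G₂.mul_mem hb hy) (G₂.inv_mem hb), ?_⟩
      simp [MulAut.conj_apply, hg, mul_assoc]
    · rintro ⟨y, hy, rfl⟩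
      refine ⟨b⁻¹ * y * b, G₂.mul_mem (G₂.mul_mem (G₂.inv_mem hb) hy) hb, ?_⟩
      simp [MulAut.conj_apply, hg, mul_assoc]
  let V : Sylow p G := a • S
  have hV : (V : Subgroup G) ≤ G₁ ⊓ Cfsg.subgroupConjRight g G₂ := by
    rw [hconj, Sylow.coe_subgroup_smul]
    intro x hx
    rw [Subgroup.mem_pointwise_smul_iff_inv_smul_mem] at hx
    have hx' : a⁻¹ * x * a ∈ (S : Subgroup G) := by
      simpa [MulAut.smul_def, MulAut.conj_apply] using hx
    refine ⟨?_, ?_⟩
    · have := G₁.mul_mem (G₁.mul_mem ha (h1 hx')) (G₁.inv_mem ha)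
      simpa [mul_assoc] using this
    · exact ⟨a⁻¹ * x * a, h2 hx', by simp [MulAut.conj_apply, mul_assoc]⟩
  set D := (S : Subgroup G) ⊓ Cfsg.subgroupConjRight g (S : Subgroup G)
  set M := G₁ ⊓ Cfsg.subgroupConjRight g G₂
  have hDM : D ≤ M := inf_le_inf h1 (Subgroup.map_mono h2)
  have hD : IsPGroup p D := S.2.to_le inf_le_left
  have hD' : IsPGroup p (D.subgroupOf M) :=
    hD.of_equiv (Subgroup.subgroupOfEquivOfLe hDM).symm
  obtain ⟨P, hP⟩ := hD'.exists_le_sylow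
  set U := (P : Subgroup M).map M.subtype
  have hUp : IsPGroup p U := P.2.map _
  have hUcard : Nat.card U = p ^ (Nat.card G).factorization p := by
    apply le_antisymm
    · obtain ⟨W, hW⟩ := hUp.exists_le_sylow
      rw [← W.card_eq_multiplicity]; exact Subgroup.card_le_of_le hW
    · rw [← V.card_eq_multiplicity]
      have hVp : IsPGroup p ((V : Subgroup G).subgroupOf M) :=
        V.2.of_equiv (Subgroup.subgroupOfEquivOfLe hV).symm
      obtain ⟨Q, hQ⟩ := hVp.exists_le_sylow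
      have e1 : Nat.card U = Nat.card (Q : Subgroup M) := by
        rw [Q.card_eq_multiplicity, ← P.card_eq_multiplicity]
        exact Subgroup.card_map_of_injective M.subtype_injective
      rw [e1, ← Nat.card_congr (Subgroup.subgroupOfEquivOfLe hV).toEquiv]
      exact Subgroup.card_le_of_le hQ
  refine ⟨Sylow.ofCard U hUcard, ?_, ?_⟩
  · change D ≤ U
    intro x hx
    exact ⟨⟨x, hDM hx⟩, hP hx, rfl⟩
  · change U ≤ M
    exact Subgroup.map_subtype_le _

end Cfsg.Agent.S2940
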