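import Mathlib
import Cfsg.Statements.S2941

set_option autoImplicit false
open Cfsg
open scoped Pointwise

namespace Cfsg.Agent.S2941

/-- Let G be a finite group of characteristic 2 type in which every 2-local subgroup is solvable and the centralizer of Ω₁(Z(S)) lies in N_G(S) for every Sylow 2-subgroup S, and let T be a nontrivial 2-subgroup and K a J(T)-component (J the Thompson subgroup generated by the elementary abelian 2-subgroups of largest order). If a subgroup Q is normalized by ⟨K, J(T)⟩ and normalizes J(T), then Q normalizes K. -/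
theorem result {G : Type*} [Group G] [Finite G] (hL : Cfsg.IsCharacteristicTwoType G) (hN : ∀ N : Subgroup G, Cfsg.IsTwoLocal N → Group.IsSolvable ↥N)
    (hZ : ∀ S : Sylow 2 G, Subgroup.centralizer (Cfsg.omegaCenterOf (S : Subgroup G) : Set G) ≤ Subgroup.normalizer ((S : Subgroup G) : Set G)) (T : Subgroup G) (hT : IsPGroup 2 ↥T) (hT1 : T ≠ ⊥) (K : Subgroup G) (hK : Cfsg.IsJComponent T K)
    (Q : Subgroup G) (hQ1 : K ⊔ Cfsg.thompsonSubgroupOf 2 T ≤ Subgroup.normalizer (Q : Set G)) (hQ2 : Q ≤ Subgroup.normalizer (Cfsg.thompsonSubgroupOf 2 T : Set G)) :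
    Q ≤ Subgroup.normalizer (K : Set G) := by
  set J := Cfsg.thompsonSubgroupOf 2 T with hJdef
  obtain ⟨hodd, hKJ, -, -, -, -⟩ := hK
  set U := K ⊔ J
  have hJp : IsPGroup 2 J := hT.to_le (Subgroup.map_subtype_le _)
  have conjJ : ∀ q ∈ Q, ∀ x ∈ J, q * x * q⁻¹ ∈ J := fun q hq x hx =>
    (Subgroup.mem_normalizer_iff.mp (hQ2 hq) x).mp hx
  have hJK : J ≤ Subgroup.normalizer (K : Set G) := by
    have key : ∀ j ∈ J, ∀ k ∈ K, j * k * j⁻¹ ∈ K := by
      intro j hj k hk
      have hc : k * j * k⁻¹ * j⁻¹ ∈ K :=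
        le_of_eq hKJ (Subgroup.commutator_mem_commutator hk hj)
      have := K.mul_mem (K.inv_mem hc) hk
      simpa [mul_assoc] using this
    intro j hj
    refine Subgroup.mem_normalizer_iff.mpr fun k => ⟨key j hj k, fun h => ?_⟩
    simpa [mul_assoc] using key j⁻¹ (J.inv_mem hj) _ h
  -- the normal closure of J in U
  set V : Subgroup G := Subgroup.closure {z | ∃ u ∈ U, ∃ x ∈ J, z = u * x * u⁻¹}
  have hVU : V ≤ U := (Subgroup.closure_le _).mpr (by
    rintro z ⟨u, hu, x, hx, rfl⟩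
    exact U.mul_mem (U.mul_mem hu (le_sup_right (a := K) hx)) (U.inv_mem hu))
  have hUV : U ≤ V := by
    have hgen : ∀ u ∈ U, ∀ x ∈ J, u * x * u⁻¹ ∈ V := fun u hu x hx =>
      Subgroup.subset_closure ⟨u, hu, x, hx, rfl⟩
    refine sup_le ?_ fun x hx => by simpa using hgen 1 U.one_mem x hx
    rw [← hKJ, Subgroup.commutator_le]
    intro k hk j hj
    have h1 := hgen k (le_sup_left (b := J) hk) j hj
    have h2 : j⁻¹ ∈ V := by simpa using hgen 1 U.one_mem j⁻¹ (J.inv_mem hj)
    simpa [commutatorElement_def] using V.mul_mem h1 h2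
  have hQU : ∀ q ∈ Q, ∀ u ∈ U, q * u * q⁻¹ ∈ U := by
    intro q hq u hu
    have hle : V ≤ U.comap (MulAut.conj q).toMonoidHom := (Subgroup.closure_le _).mpr (by
      rintro z ⟨v, hv, x, hx, rfl⟩
      have hq' : v⁻¹ * q * v ∈ Q := by
        simpa using (Subgroup.mem_normalizer_iff.mp (hQ1 (U.inv_mem hv)) q).mp hq
      have h1 := conjJ _ hq' x hx
      have h2 := U.mul_mem (U.mul_mem hv (le_sup_right (a := K) h1)) (U.inv_mem hv)
      simpa [MulAut.conj_apply, mul_assoc] using h2)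
    simpa [MulAut.conj_apply] using hle (hUV hu)
  have hoddU : ∀ z ∈ U, Odd (orderOf z) → z ∈ K := by
    intro z hz hzo
    have hzm : z ∈ (K : Set G) * (J : Set G) := by
      rw [← Subgroup.coe_mul_of_right_le_normalizer_left K J hJK]; exact hz
    obtain ⟨k, hk, j, hj, rfl⟩ := Set.mem_mul.mp hzm
    -- powers of k * j lie in K * j ^ i
    have hpow : ∀ i : ℕ, ∃ k' ∈ K, (k * j) ^ i = k' * j ^ i := by
      intro i
      induction i with
      | zero => exact ⟨1, K.one_mem, by simp⟩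
      | succ i ih =>
        obtain ⟨k', hk', he⟩ := ih
        refine ⟨k' * (j ^ i * k * (j ^ i)⁻¹), K.mul_mem hk'
          ((Subgroup.mem_normalizer_iff.mp (hJK (J.pow_mem hj i)) k).mp hk), ?_⟩
        rw [pow_succ, he, pow_succ j i]
        group
    obtain ⟨k', hk', he⟩ := hpow (orderOf (k * j))
    rw [pow_orderOf_eq_one] at he
    have hjK : j ^ orderOf (k * j) ∈ K := by
      rw [eq_inv_of_mul_eq_one_right he.symm]; exact K.inv_mem hk'
    obtain ⟨e, he2⟩ := hJp ⟨j, hj⟩
    have hj2 : j ^ 2 ^ e = 1 := by simpa [Subtype.ext_iff] using he2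
    have hcop : Nat.Coprime (2 ^ e) (orderOf (k * j)) :=
      Nat.Coprime.pow_left _ (Nat.coprime_two_left.mpr hzo)
    have hjmem : j ∈ K := by
      have := Nat.gcd_eq_gcd_ab (2 ^ e) (orderOf (k * j))
      rw [hcop.gcd_eq_one] at this
      have h3 : j = (j ^ 2 ^ e) ^ Nat.gcdA (2 ^ e) (orderOf (k * j)) *
          (j ^ orderOf (k * j)) ^ Nat.gcdB (2 ^ e) (orderOf (k * j)) := by
        rw [← zpow_natCast j, ← zpow_mul, ← zpow_natCast j (orderOf _), ← zpow_mul, ← zpow_add,
          ← this]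
        simp
      rw [h3, hj2, one_zpow, one_mul]
      exact K.zpow_mem hjK _
    exact K.mul_mem hk hjmem
  have key : ∀ q ∈ Q, ∀ k ∈ K, q * k * q⁻¹ ∈ K := by
    intro q hq
    have hle : K ≤ K.comap (MulAut.conj q).toMonoidHom := by
      conv_lhs => rw [← hodd]
      refine (Subgroup.closure_le _).mpr ?_
      rintro g ⟨hg, hgo⟩
      refine hoddU _ ?_ ?_
      · simpa [MulAut.conj_apply] using hQU q hq g (le_sup_left (b := J) hg)
      · change Odd (orderOf ((MulAut.conj q) g))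
        rwa [MulEquiv.orderOf_eq]
    intro k hk
    simpa [MulAut.conj_apply] using hle hk
  intro q hq
  refine Subgroup.mem_normalizer_iff.mpr fun k => ⟨key q hq k, fun h => ?_⟩
  simpa [mul_assoc] using key q⁻¹ (Q.inv_mem hq) _ h

end Cfsg.Agent.S2941
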