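import Mathlib
import Cfsg.Statements.S2942
import Cfsg.Agent.Lib.JCompLine

set_option autoImplicit false
open Cfsg

namespace Cfsg.Agent.S2942

open Subgroup Cfsg.Agent.JCompBase Cfsg.Agent.JCompTV Cfsg.Agent.JCompLine

/-- Let G be a finite group of characteristic 2 type in which every 2-local subgroup is solvable and the centralizer of Ω₁(Z(S)) lies in N_G(S) for every Sylow 2-subgroup S, and let T be a nontrivial 2-subgroup (below, J is the Thompson subgroup generated by the elementary abelian 2-subgroups of largest order). If L is a subgroup in which T is a Sylow 2-subgroup, with J(T) not contained in O₂(L) and C_G(O₂(L)) ≤ O₂(L), then every J(T)-component contained in L is subnormal in L. -/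
theorem result {G : Type*} [Group G] [Finite G] (hL : Cfsg.IsCharacteristicTwoType G) (hN : ∀ N : Subgroup G, Cfsg.IsTwoLocal N → Group.IsSolvable ↥N)
    (hZ : ∀ S : Sylow 2 G, Subgroup.centralizer (Cfsg.omegaCenterOf (S : Subgroup G) : Set G) ≤ Subgroup.normalizer ((S : Subgroup G) : Set G)) (T : Subgroup G) (hT : IsPGroup 2 ↥T) (hT1 : T ≠ ⊥) (L : Subgroup G) (hLT : L ∈ Cfsg.jOvergroups T)
    (K : Subgroup G) (hK : Cfsg.IsJComponent T K) (hKL : K ≤ L) : (K.subgroupOf L).IsSubnormal := by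
  have h : Std T L := ⟨hL, hN, hZ, hT, hLT⟩
  obtain ⟨t, v₀, k₀, -, hk₀, hl, hline, -⟩ := comp_line h hK hKL
  set f := π L k₀ with hf
  set A₃ := (Fx L).comap (π L) with hA₃
  set A₂ := (Subgroup.zpowers f).comap (π L) with hA₂
  set A₁ := (K ⊔ Cfsg.pCoreOf 2 L).subgroupOf L with hA₁
  have h₃ : A₃.Normal := ⟨fun a ha g => by
    show π L (g * a * g⁻¹) ∈ Fx L
    rw [map_mul, map_mul, map_inv]
    exact (ctx h).F_norm _ ⟨g, rfl⟩ _ ha⟩
  have hfE : f ∈ E (Vx L) (Hx L) (Fx L) := Subgroup.subset_closure ⟨t, v₀, hl.tv, hl.inv, hl.mem⟩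
  have h₂₃ : A₂ ≤ A₃ := Subgroup.comap_mono (Subgroup.zpowers_le.2 hl.mem)
  have h₂ : (A₂.subgroupOf A₃).Normal := ⟨fun a ha g => by
    show π L ((g : ↥L) * (a : ↥L) * (g : ↥L)⁻¹) ∈ Subgroup.zpowers f
    rw [map_mul, map_mul, map_inv]
    have hc : ∀ y ∈ Subgroup.zpowers f, π L (g : ↥L) * y = y * π L (g : ↥L) := fun y hy => by
      obtain ⟨i, rfl⟩ := Subgroup.mem_zpowers_iff.1 hy
      exact ((show Commute (π L (g : ↥L)) f from
        (ctx h).inv_central hl.tv hl.inv hl.mem g.2).zpow_right i).eq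
    rw [hc (π L (a : ↥L)) ha, mul_inv_cancel_right]
    exact ha⟩
  have hnormK : ∀ x : ↥L, x ∈ A₂ → (x : G) ∈ Subgroup.normalizer (K : Set G) := fun x hx =>
    E_norm_comp h hK hKL ((Subgroup.zpowers_le.2 hfE) hx)
  have h₁₂ : A₁ ≤ A₂ := by
    intro x hx
    have hn : K ⊔ Cfsg.pCoreOf 2 L ≤ (A₂.map L.subtype) := sup_le
      (fun k hk => ⟨⟨k, hKL hk⟩, hline _ hk, rfl⟩)
      (fun q hq => ⟨⟨q, LocalBasics.pCoreOf_le 2 L hq⟩, by
        show π L _ ∈ Subgroup.zpowers f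
        rw [(π_eq_one_iff L ⟨q, LocalBasics.pCoreOf_le 2 L hq⟩).2 (Q_le_Ker L hq)]
        exact one_mem _, rfl⟩)
    obtain ⟨y, hy, e⟩ := hn hx
    rwa [show x = y from Subtype.ext e.symm]
  have h₁ : (A₁.subgroupOf A₂).Normal := ⟨fun a ha g => by
    exact LocalBasics.conj_mem_of_le_normalizer
      (LocalBasics.le_normalizer_sup (X := A₂.map L.subtype)
        (fun z ⟨y, hy, e⟩ => e ▸ hnormK y hy)
        ((Subgroup.map_subtype_le _).trans (le_norm_Q L)))
      (⟨(g : ↥L), g.2, rfl⟩ : ((g : ↥L) : G) ∈ A₂.map L.subtype) ha⟩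
  have h₀ : ((K.subgroupOf L).subgroupOf A₁).Normal := ⟨fun a ha g => by
    exact LocalBasics.conj_mem_of_le_normalizer
      (sup_le Subgroup.le_normalizer (Q_norm_comp h hK hKL)) g.2 ha⟩
  exact Subgroup.IsSubnormal.step _ _ (Subgroup.comap_mono le_sup_left)
    (Subgroup.IsSubnormal.step _ _ h₁₂ (Subgroup.IsSubnormal.step _ _ h₂₃ h₃.isSubnormal h₂) h₁) h₀

end Cfsg.Agent.S2942
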