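import Mathlib
import Cfsg.Statements.S2943
import Cfsg.Agent.Lib.JCompLine

set_option autoImplicit false
open Cfsg

namespace Cfsg.Agent.S2943

open Subgroup Cfsg.Agent.JCompBase Cfsg.Agent.JCompCore Cfsg.Agent.JCompLine

/-- Let G be a finite group of characteristic 2 type in which every 2-local subgroup is solvable and the centralizer of Ω₁(Z(S)) lies in N_G(S) for every Sylow 2-subgroup S, and let T be a nontrivial 2-subgroup (below, J is the Thompson subgroup generated by the elementary abelian 2-subgroups of largest order), L a subgroup in which T is a Sylow 2-subgroup with J(T) not contained in O₂(L) and C_G(O₂(L)) ≤ O₂(L), and K a J(T)-component contained in L. If Z(T) meets W_K = [Ω₁(Z(O₂(K))), K] nontrivially, then T normalizes K. -/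
theorem result {G : Type*} [Group G] [Finite G] (hL : Cfsg.IsCharacteristicTwoType G) (hN : ∀ N : Subgroup G, Cfsg.IsTwoLocal N → Group.IsSolvable ↥N)
    (hZ : ∀ S : Sylow 2 G, Subgroup.centralizer (Cfsg.omegaCenterOf (S : Subgroup G) : Set G) ≤ Subgroup.normalizer ((S : Subgroup G) : Set G)) (T : Subgroup G) (hT : IsPGroup 2 ↥T) (hT1 : T ≠ ⊥) (L : Subgroup G) (hLT : L ∈ Cfsg.jOvergroups T)
    (K : Subgroup G) (hK : Cfsg.IsJComponent T K) (hKL : K ≤ L)
    (hZW : T ⊓ Subgroup.centralizer (T : Set G) ⊓ Cfsg.wOf K ≠ ⊥) : T ≤ Subgroup.normalizer (K : Set G) := by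
  have h : Std T L := ⟨hL, hN, hZ, hT, hLT⟩
  obtain ⟨w, ⟨⟨-, hwT⟩, hwW⟩, hw1⟩ : ∃ w ∈ T ⊓ Subgroup.centralizer (T : Set G) ⊓ Cfsg.wOf K, w ≠ 1 := by
    by_contra hno
    push Not at hno
    exact hZW ((Subgroup.eq_bot_iff_forall _).2 hno)
  intro t ht
  refine mem_normalizer_of_map_eq ?_
  have hTJ : T ≤ Subgroup.normalizer (Cfsg.thompsonSubgroupOf 2 T : Set G) :=
    Subgroup.le_normalizer.trans thompson_normalizer
  have hK' := comp_conj_J hK (hTJ ht)
  have hK'L : K.map (MulAut.conj t).toMonoidHom ≤ L := by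
    rintro _ ⟨k, hk, rfl⟩
    exact mul_mem (mul_mem (h.T_le ht) (hKL hk)) (inv_mem (h.T_le ht))
  refine (comp_eq_of_meet h hK hKL hK' hK'L hwW ?_ hw1).symm
  rw [← map_wOf]
  refine ⟨w, hwW, ?_⟩
  show t * w * t⁻¹ = w
  rw [hwT t ht, mul_inv_cancel_right]

end Cfsg.Agent.S2943
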