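import Mathlib
import Cfsg.Statements.S2949
import Cfsg.Agent.Lib.JCompMax
import Cfsg.Agent.Lib.JCompZero

set_option autoImplicit false
open Cfsg

namespace Cfsg.Agent.S2949

open Subgroup Cfsg.Agent.JCompMax Cfsg.Agent.JCompBase Cfsg.Agent.JCompCore Cfsg.Agent.JCompZero

/-- Let G be a finite group of characteristic 2 type in which every 2-local subgroup is solvable and the centralizer of Ω₁(Z(S)) lies in N_G(S) for every Sylow 2-subgroup S; suppose O₂(G) = 1, fix a Sylow 2-subgroup S and a 2-local subgroup M containing N_G(J(S)) (J the Thompson subgroup generated by the elementary abelian 2-subgroups of largest order). For every T maximal (for the order of a largest elementary abelian subgroup, then the order of J(T), then the order of T) among the nontrivial 2-subgroups of M lying in a 2-local subgroup not inside M, there is a J(T)-component K not contained in M with J(T) the Thompson subgroup of every Sylow 2-subgroup of N_G(W_K) containing J(T), and O₂(⟨K, T⟩) ≠ 1. -/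
theorem result {G : Type*} [Group G] [Finite G] (hL : Cfsg.IsCharacteristicTwoType G) (hN : ∀ N : Subgroup G, Cfsg.IsTwoLocal N → Group.IsSolvable ↥N)
    (hZ : ∀ S : Sylow 2 G, Subgroup.centralizer (Cfsg.omegaCenterOf (S : Subgroup G) : Set G) ≤ Subgroup.normalizer ((S : Subgroup G) : Set G)) (hO : Cfsg.pCore 2 G = ⊥) (S : Sylow 2 G) (M : Subgroup G) (hM : Cfsg.IsTwoLocal M)
    (hMJ : Subgroup.normalizer (Cfsg.thompsonSubgroupOf 2 (S : Subgroup G) : Set G) ≤ M) (T : Subgroup G) (hT : T ∈ Cfsg.maxStraddlingTwoSubgroups M) :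
    (Cfsg.jComponentsOutside M T).Nonempty := by
  obtain ⟨L, hL2, hTL, hLM⟩ := hT.1.2.2.2
  have h := std_of_le hL hN hZ hMJ hT hL2 hLM hTL
  obtain ⟨K, hK, hKL, hKM⟩ := exists_comp_outside h (normalizer_J_le hMJ hT) hLM
  refine ⟨K, ⟨hK, fun S' hJS' hS' => ?_⟩, hKM, fun e => h.Q_ne_bot ?_⟩
  · have hWM : ¬ Subgroup.normalizer (Cfsg.wOf K : Set G) ≤ M := fun hle =>
      hKM ((Subgroup.le_normalizer.trans (normalizer_le_wOf K)).trans hle)
    exact (std_of_max hL hN hZ hMJ hT (wOf_twoLocal hK) hWM hS' hJS').1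
  · rw [eq_bot_iff, ← e]
    exact LocalBasics.le_pCoreOf (h.Q_le_T.trans le_sup_right)
      ((sup_le hKL h.T_le).trans (le_norm_Q L)) (LocalBasics.isPGroup_pCoreOf 2 L)

end Cfsg.Agent.S2949
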