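import Mathlib
import Cfsg.Statements.S2950
import Cfsg.Agent.Lib.JCompClass
import Cfsg.Agent.S2942

set_option autoImplicit false
open Cfsg

namespace Cfsg.Agent.S2950

open Subgroup Cfsg.Agent.JCompBase Cfsg.Agent.JCompLine Cfsg.Agent.JCompMax Cfsg.Agent.JCompClass

/-- Uniqueness of the maximal 2-local overgroup. Let G be a finite group of characteristic 2 type in which every 2-local subgroup is solvable and the centralizer of Ω₁(Z(S)) lies in N_G(S) for every Sylow 2-subgroup S; suppose O₂(G) = 1, fix a Sylow 2-subgroup S and a 2-local subgroup M containing N_G(J(S)) (J the Thompson subgroup generated by the elementary abelian 2-subgroups of largest order). Let T be maximal (for the order of a largest elementary abelian subgroup, then the order of J(T), then the order of T) among the nontrivial 2-subgroups of M lying in a 2-local subgroup not inside M, and let K be a J(T)-component not contained in M with J(T) the Thompson subgroup of every Sylow 2-subgroup of N_G(W_K) containing J(T), and O₂(⟨K,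 T⟩) ≠ 1. Then there is exactly one maximal 2-local subgroup L of G containing ⟨K, J(T)⟩; moreover K is subnormal in L and T is a Sylow 2-subgroup of L. -/
theorem result {G : Type*} [Group G] [Finite G] (hL : Cfsg.IsCharacteristicTwoType G) (hN : ∀ N : Subgroup G, Cfsg.IsTwoLocal N → Group.IsSolvable ↥N)
    (hZ : ∀ S : Sylow 2 G, Subgroup.centralizer (Cfsg.omegaCenterOf (S : Subgroup G) : Set G) ≤ Subgroup.normalizer ((S : Subgroup G) : Set G)) (hO : Cfsg.pCore 2 G = ⊥) (S : Sylow 2 G) (M : Subgroup G) (hM : Cfsg.IsTwoLocal M)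
    (hMJ : Subgroup.normalizer (Cfsg.thompsonSubgroupOf 2 (S : Subgroup G) : Set G) ≤ M) (T : Subgroup G) (hT : T ∈ Cfsg.maxStraddlingTwoSubgroups M)
    (K : Subgroup G) (hK : K ∈ Cfsg.jComponentsOutside M T) :
    ∃ L : Subgroup G, Cfsg.IsMaximalTwoLocal L ∧ K ⊔ Cfsg.thompsonSubgroupOf 2 T ≤ L ∧
      (∀ L' : Subgroup G, Cfsg.IsMaximalTwoLocal L' → K ⊔ Cfsg.thompsonSubgroupOf 2 T ≤ L' → L' = L) ∧
      (K.subgroupOf L).IsSubnormal ∧ Cfsg.IsSylowTwoIn T L := by
  obtain ⟨⟨hKc, -⟩, hKM, hP1⟩ := hK
  have r : Rooted T K := rooted_of_max hL hN hZ hMJ hT hKc hKM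
  set N := Subgroup.normalizer (Rooted.star T K : Set G) with hNdef
  have hP : K ⊔ T ≤ N := by
    have hloc : Cfsg.IsTwoLocal (Subgroup.normalizer (Cfsg.pCoreOf 2 (K ⊔ T) : Set G)) :=
      ⟨_, LocalBasics.isPGroup_pCoreOf 2 _, hP1, rfl⟩
    exact (LocalBasics.le_normalizer_pCoreOf 2 _).trans (r.le_normalizer_star hloc
      ((sup_le_sup_left (Offenders.thompsonOf_le T) K).trans (LocalBasics.le_normalizer_pCoreOf 2 _)))
  have h : Std T N := std_of_le hL hN hZ hMJ hT r.star_twoLocal
    (fun hle => hKM ((le_sup_left.trans hP).trans hle)) (le_sup_right.trans hP)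
  have hKN : K ≤ N := le_sup_left.trans hP
  refine ⟨N, r.isMax_star, (sup_le_sup_left (Offenders.thompsonOf_le T) K).trans hP,
    fun L' hL' hle => (r.max_eq hL' hle).symm, ?_, h.sylT⟩
  exact Cfsg.Agent.S2942.result hL hN hZ T hT.1.1 hT.1.2.1 N h.mem K hKc hKN

end Cfsg.Agent.S2950
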