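import Mathlib
import Cfsg.Statements.S2951
import Cfsg.Agent.Lib.JCompMaxPair

set_option autoImplicit false
open Cfsg

namespace Cfsg.Agent.S2951

open Subgroup Cfsg.Agent.JCompDuo Cfsg.Agent.JCompSide

/-- Let G be a finite group of characteristic 2 type in which every 2-local subgroup is solvable and the centralizer of Ω₁(Z(S)) lies in N_G(S) for every Sylow 2-subgroup S; suppose O₂(G) = 1, fix a Sylow 2-subgroup S and a 2-local subgroup M containing N_G(J(S)) (J the Thompson subgroup generated by the elementary abelian 2-subgroups of largest order), and put Z = Ω₁(Z(S)). Let T ≤ S be maximal (for the order of a largest elementary abelian subgroup, then the order of J(T), then the order of T) among the nontrivial 2-subgroups of M lying in a 2-local subgroup not inside M, K a J(T)-component not contained in M with J(T) the Thompson subgroup of every Sylow 2-subgroup of N_G(W_K) containing J(T), and O₂(⟨K, T⟩) ≠ 1, L a maximal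 2-local subgroup containing ⟨K, J(T)⟩ (there is only one), and Z₀ = Ω₁(Z(J(T))). Then Z₀ ∩ W_K ≠ 1, and one of: Z = Z₀ has order 2; Z = Z₀ has order 4 and T = S; Ω₁(Z(T)) = Z₀ has order 4 and C_L(Z₀) has index 2 in N_G(Z₀). -/
theorem result {G : Type*} [Group G] [Finite G] (hL : Cfsg.IsCharacteristicTwoType G) (hN : ∀ N : Subgroup G, Cfsg.IsTwoLocal N → Group.IsSolvable ↥N)
    (hZ : ∀ S : Sylow 2 G, Subgroup.centralizer (Cfsg.omegaCenterOf (S : Subgroup G) : Set G) ≤ Subgroup.normalizer ((S : Subgroup G) : Set G)) (hO : Cfsg.pCore 2 G = ⊥) (S : Sylow 2 G) (M : Subgroup G) (hM : Cfsg.IsTwoLocal M)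
    (hMJ : Subgroup.normalizer (Cfsg.thompsonSubgroupOf 2 (S : Subgroup G) : Set G) ≤ M) (T : Subgroup G) (hT : T ∈ Cfsg.maxStraddlingTwoSubgroups M)
    (hTS : T ≤ (S : Subgroup G)) (K : Subgroup G) (hK : K ∈ Cfsg.jComponentsOutside M T)
    (L : Subgroup G) (hLmax : Cfsg.IsMaximalTwoLocal L) (hKL : K ⊔ Cfsg.thompsonSubgroupOf 2 T ≤ L)
    (Z Z₀ : Subgroup G) (hZdef : Z = Cfsg.omegaCenterOf (S : Subgroup G)) (hZ₀ : Z₀ = Cfsg.omegaCenterOf (Cfsg.thompsonSubgroupOf 2 T)) :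
    Z₀ ⊓ Cfsg.wOf K ≠ ⊥ ∧
      ((Z = Z₀ ∧ Nat.card ↥Z₀ = 2) ∨ (Z = Z₀ ∧ Nat.card ↥Z₀ = 4 ∧ T = (S : Subgroup G)) ∨
        (Cfsg.omegaCenterOf T = Z₀ ∧ Nat.card ↥Z₀ = 4 ∧
          (L ⊓ Subgroup.centralizer (Z₀ : Set G)).relIndex (Subgroup.normalizer (Z₀ : Set G)) = 2)) := by
  classical
  obtain ⟨r, h, -⟩ := JCompMaxPair.of_outside hL hN hZ hMJ hT hK
  obtain ⟨K', d⟩ := JCompSecond.exists_duo hL hN hZ hO r h
  obtain ⟨w, k, p⟩ := (Side.of_duo d).exists_pick
  have hLe : Lstar T K = L := r.max_eq hLmax hKL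
  subst hLe hZdef hZ₀
  refine ⟨fun e => p.w1 (Subgroup.mem_bot.1 (e ▸ (⟨p.wZ, p.wW⟩ : w ∈ Z0 T ⊓ Cfsg.wOf K))), ?_⟩
  have hTZ : Cfsg.omegaCenterOf T = Z0 T := le_antisymm (omegaCenter_le_Z0 T) fun z hz =>
    Offenders.mem_omegaOne ⟨Z0_le_T T hz, fun t ht => p.T_Z0 ht hz⟩
      (by rw [pow_two]; exact Z0_sq hz)
  have hZle : Cfsg.omegaCenterOf (S : Subgroup G) ≤ Z0 T := hTZ ▸ p.omegaCenter_sylow_le S hTS
  obtain ⟨z, hzS, hz1⟩ : ∃ z ∈ Cfsg.omegaCenterOf (S : Subgroup G), z ≠ 1 := by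
    by_contra hno
    push Not at hno
    exact not_le_sylow_normalizer r.comp r.tp S fun x _ => hZ S fun y hy => by
      rw [hno y hy]; simp
  have hC0 : 0 < Nat.card ↥(Cz T K) := Nat.card_pos
  have hC := d.card_le
  have hcard := card_Z0 r
  rcases (show Nat.card ↥(Cz T K) = 1 ∨ Nat.card ↥(Cz T K) = 2 by omega) with h1 | h2
  · refine Or.inl ⟨eq_of_le_of_card_ge hZle ?_, by show Nat.card ↥(Z0 T) = 2; omega⟩
    show Nat.card ↥(Z0 T) ≤ _
    have : Nontrivial ↥(Cfsg.omegaCenterOf (S : Subgroup G)) :=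
      ⟨⟨⟨z, hzS⟩, 1, fun e => hz1 (congrArg Subtype.val e)⟩⟩
    have := Finite.one_lt_card_iff_nontrivial.2 this
    omega
  rcases hTS.eq_or_lt with hST | hlt
  · refine Or.inr (Or.inl ⟨?_, by show Nat.card ↥(Z0 T) = 4; omega, hST⟩)
    show Cfsg.omegaCenterOf (S : Subgroup G) = Z0 T
    rw [← hST, hTZ]
  refine Or.inr (Or.inr ⟨hTZ, by show Nat.card ↥(Z0 T) = 4; omega, ?_⟩)
  obtain ⟨σ, hσS, hσN, hσL⟩ := JCompSecond.exists_outside h S.2 hlt
  have hσz : ∀ y ∈ Cfsg.omegaCenterOf (S : Subgroup G), σ * y * σ⁻¹ = y := fun y hy =>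
    mul_inv_eq_iff_eq_mul.2 (((Offenders.omegaOne_le _).trans inf_le_right) hy σ hσS)
  obtain ⟨c, hc, hc1⟩ : ∃ c ∈ Cz T K, c ≠ 1 := by
    by_contra hno
    push Not at hno
    rw [(Subgroup.eq_bot_iff_forall _).2 hno, Subgroup.card_bot] at h2
    omega
  have hcent : Subgroup.centralizer (Z0 T : Set G) ≤ Lstar T K :=
    (Subgroup.centralizer_le (Set.singleton_subset_iff.2 hc.1)).trans (cent_le_Lstar r hc hc1)
  rw [inf_eq_right.2 hcent]
  set c' := σ * c * σ⁻¹ with hc'def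
  have hσZ : ∀ {x : G}, x ∈ Z0 T → σ * x * σ⁻¹ ∈ Z0 T := fun hx =>
    LocalBasics.conj_mem_of_le_normalizer le_rfl
      (norm_J_Z0 T (JCompCore.thompson_normalizer hσN)) hx
  have hc'Z : c' ∈ Z0 T := hσZ hc.1
  have hσc : c' ≠ c := fun e => hσL (cent_le_Lstar r hc hc1
    (Subgroup.mem_centralizer_singleton_iff.2 (mul_inv_eq_iff_eq_mul.1 e)))
  have hzc : z ≠ c := fun e => hσc (by rw [hc'def, ← e, hσz z hzS])
  have hzc' : z ≠ c' := fun e => hzc (by
    have h3 : σ * z * σ⁻¹ = σ * c * σ⁻¹ := (hσz z hzS).trans e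
    exact mul_left_cancel (mul_right_cancel h3))
  have hzZ : z ∈ Z0 T := hZle hzS
  have hall : ∀ x ∈ Z0 T, x = 1 ∨ x = z ∨ x = c ∨ x = c' := by
    intro x hx
    by_contra hx'
    simp only [not_or] at hx'
    have h5 : ({⟨1, one_mem _⟩, ⟨z, hzZ⟩, ⟨c, hc.1⟩, ⟨c', hc'Z⟩, ⟨x, hx⟩} :
        Finset ↥(Z0 T)).card = 5 := by
      rw [Finset.card_insert_of_notMem, Finset.card_insert_of_notMem,
        Finset.card_insert_of_notMem, Finset.card_pair]
      all_goals simp [Ne.symm hz1, Ne.symm hc1,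
        show (1 : G) ≠ c' from fun q => hc1 (conj_eq_one_iff.1 q.symm),
        Ne.symm hx'.1, hzc, hzc', Ne.symm hσc, Ne.symm hx'.2.1, Ne.symm hx'.2.2.1,
        Ne.symm hx'.2.2.2]
    have := Fintype.ofFinite ↥(Z0 T)
    have := Finset.card_le_univ ({⟨1, one_mem _⟩, ⟨z, hzZ⟩, ⟨c, hc.1⟩, ⟨c', hc'Z⟩, ⟨x, hx⟩} :
        Finset ↥(Z0 T))
    rw [h5, ← Nat.card_eq_fintype_card] at this
    omega
  have honly : ∀ y ∈ Cfsg.omegaCenterOf (S : Subgroup G), y = 1 ∨ y = z := by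
    intro y hy
    have h3 := hσz y hy
    rcases hall y (hZle hy) with q | q | q | q
    · exact Or.inl q
    · exact Or.inr q
    · rw [q, ← hc'def] at h3
      exact absurd h3 hσc
    · rw [q, hc'def] at h3
      exact absurd (mul_left_cancel (mul_right_cancel h3)) hσc
  have nconj : ∀ g : G, g * z * g⁻¹ ≠ c := fun g e =>
    JCompSecond.not_conj_center r.tp r.comp hZ honly (e.symm ▸ KJ_le_centralizer hc)
  show (Subgroup.centralizer (Z0 T : Set G)).relIndex _ = 2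
  refine Subgroup.index_eq_two_iff.2
    ⟨⟨σ, norm_J_Z0 T (JCompCore.thompson_normalizer hσN)⟩, fun b => ?_⟩
  simp only [Subgroup.mem_subgroupOf, Subgroup.coe_mul]
  have hbZ : ∀ {x : G}, x ∈ Z0 T → (b : G) * x * (b : G)⁻¹ ∈ Z0 T := fun hx =>
    LocalBasics.conj_mem_of_le_normalizer le_rfl b.2 hx
  have hbz : (b : G) * z * (b : G)⁻¹ = z := by
    rcases hall _ (hbZ hzZ) with q | q | q | q
    · exact absurd (conj_eq_one_iff.1 q) hz1
    · exact q
    · exact absurd q (nconj _)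
    · refine absurd ?_ (nconj (σ⁻¹ * b))
      rw [show σ⁻¹ * (b : G) * z * (σ⁻¹ * (b : G))⁻¹ = σ⁻¹ * ((b : G) * z * (b : G)⁻¹) * σ by group,
        q, hc'def]
      group
  have hgen : ∀ x : G, x * z * x⁻¹ = z → x * c * x⁻¹ = c →
      x ∈ Subgroup.centralizer (Z0 T : Set G) := by
    intro x hxz hxc y hy
    have h3 : Commute x z := mul_inv_eq_iff_eq_mul.1 hxz
    have h4 : Commute x c := mul_inv_eq_iff_eq_mul.1 hxc
    have hm := hall _ (mul_mem hzZ hc.1)
    have hzcc : z * c = c' := by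
      rcases hm with q | q | q | q
      · exact absurd ((mul_eq_one_iff_eq_inv.1 q).trans (Z0_inv hc.1)) hzc
      · exact absurd (mul_eq_left.1 q) hc1
      · exact absurd (mul_eq_right.1 q) hz1
      · exact q
    rcases hall y hy with rfl | rfl | rfl | rfl
    · simp
    · exact h3.symm.eq
    · exact h4.symm.eq
    · rw [← hzcc]; exact (Commute.mul_right h3 h4).symm.eq
  by_cases hbc : (b : G) * c * (b : G)⁻¹ = c
  · refine Or.inr ⟨hgen _ hbz hbc, fun q => ?_⟩
    have h3 : σ ∈ Subgroup.centralizer (Z0 T : Set G) := by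
      simpa using mul_mem (inv_mem (hgen _ hbz hbc)) q
    exact hσL (hcent h3)
  · refine Or.inl ⟨hgen _ ?_ ?_, fun q => hbc (mul_inv_eq_iff_eq_mul.2 (q c hc.1).symm)⟩
    · rw [show (b : G) * σ * z * ((b : G) * σ)⁻¹ = (b : G) * (σ * z * σ⁻¹) * (b : G)⁻¹ by group,
        hσz z hzS, hbz]
    · have e : (b : G) * σ * c * ((b : G) * σ)⁻¹ = (b : G) * c' * (b : G)⁻¹ := by
        rw [hc'def]; group
      rw [e]
      rcases hall _ (hbZ hc'Z) with q | q | q | q
      · exact absurd (conj_eq_one_iff.1 (conj_eq_one_iff.1 q)) hc1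
      · exact absurd (mul_left_cancel (mul_right_cancel (q.trans hbz.symm))) hzc'.symm
      · exact q
      · exfalso
        have hbc' : (b : G) * c * (b : G)⁻¹ = c' := by
          rcases hall _ (hbZ hc.1) with q' | q' | q' | q'
          · exact absurd (conj_eq_one_iff.1 q') hc1
          · exact absurd (mul_left_cancel (mul_right_cancel (q'.trans hbz.symm))) hzc.symm
          · exact absurd q' hbc
          · exact q'
        exact hσc (mul_left_cancel (mul_right_cancel (q.trans hbc'.symm)))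

end Cfsg.Agent.S2951
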