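import Mathlib
import Cfsg.Statements.S2955
import Cfsg.Agent.Lib.SylowChainsBasic

set_option autoImplicit false
open Cfsg

namespace Cfsg.Agent.S2955

open scoped Pointwise
open Cfsg.Agent.SylowChainsBasic

/-- Let p be a prime dividing the order of the finite group G and 𝓕 a conjugation-closed family of subgroups that controls Sylow p-intersections in G. Suppose the Sylow p-subgroups of G are chain-connected: any two of them are joined by a chain of Sylow p-subgroups, consecutive ones distinct with nontrivial intersection, all containing the intersection of the two ends (equivalently, the graph on the Sylow p-subgroups whose edges are the distinct pairs meeting nontrivially is connected). Then for every Sylow p-subgroup S, G is generated by N_G(S) together with the members of 𝓕 that meet S in a Sylow p-subgroup of themselves. -/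
theorem result {G : Type*} [Group G] [Finite G] (p : ℕ) [Fact p.Prime] (hdiv : p ∣ Nat.card G)
    (𝓕 : Set (Subgroup G)) (h𝓕 : Cfsg.IsNormalSet 𝓕) (hc : Cfsg.ControlsSylowIntersections p 𝓕)
    (hconn : Cfsg.IsSylowChainConnected p G) (S : Sylow p G) :
    (⨆ X ∈ Cfsg.sylowMembers p 𝓕 (S : Subgroup G), X) ⊔ Subgroup.normalizer ((S : Subgroup G) : Set G) = ⊤ := by
  set F : Subgroup G := ⨆ X ∈ Cfsg.sylowMembers p 𝓕 (S : Subgroup G), X
  set H := F ⊔ Subgroup.normalizer ((S : Subgroup G) : Set G)
  have orbit : ∀ (D : Subgroup G) (a b : Sylow p G), Linked p 𝓕 D a b →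
      (∃ h ∈ H, a = h • S) → ∃ h ∈ H, b = h • S := by
    intro D a b hl ha
    induction hl with
    | refl => exact ha
    | tail _ hs ih =>
      rename_i c d _
      obtain ⟨h, hh, rfl⟩ := ih
      obtain ⟨X, x, hXc, -, hx, heq, -⟩ := hs
      have hZ : X.map (MulAut.conj h⁻¹).toMonoidHom ∈ Cfsg.sylowMembers p 𝓕 (S : Subgroup G) := by
        have := sylowMembers_map h𝓕 hXc h⁻¹
        rwa [coe_smul_eq_map, map_conj_conj, inv_mul_cancel, map_conj_one] at this
      have h1 : h⁻¹ * x * h ∈ H := Subgroup.mem_sup_left
        (Subgroup.mem_iSup_of_mem _ (Subgroup.mem_iSup_of_mem hZ ⟨x, hx, by simp⟩))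
      refine ⟨x * h, ?_, ?_⟩
      · simpa [mul_assoc] using H.mul_mem hh h1
      · apply Sylow.ext
        rw [mul_smul, coe_smul_eq_map x (h • S), ← heq, subgroupConjRight_eq, map_conj_conj,
          mul_inv_cancel, map_conj_one]
  have all : ∀ T : Sylow p G, ∃ h ∈ H, T = h • S := by
    intro T
    obtain ⟨n, c, h0, hl, -, hstep⟩ := hconn S T
    have key : ∀ i : Fin (n + 1), ∃ h ∈ H, c i = h • S := by
      intro i
      induction i using Fin.induction with
      | zero => exact ⟨1, H.one_mem, by rw [one_smul, h0]⟩
      | succ i ih =>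
        exact orbit _ _ _ (controls_iff.mp hc _ _ (hstep i).1 (hstep i).2) ih
    exact hl ▸ key (Fin.last n)
  refine top_le_iff.mp fun g _ => ?_
  obtain ⟨h, hh, he⟩ := all (g • S)
  have hN : h⁻¹ * g ∈ H := by
    refine Subgroup.mem_sup_right (Sylow.smul_eq_iff_mem_normalizer.mp ?_)
    rw [mul_smul, he, inv_smul_smul]
  simpa using H.mul_mem hh hN

end Cfsg.Agent.S2955
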