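import Mathlib
import Cfsg.Statements.S2956
import Cfsg.Agent.Lib.FunctorFamilyChains

set_option autoImplicit false
open Cfsg

namespace Cfsg.Agent.S2956

open scoped Pointwise
open Cfsg.Agent.SylowChainsBasic Cfsg.Agent.FunctorFamilyChains

/-- A proper subgroup of a finite `p`-group is smaller than its normalizer in it. -/
theorem card_lt_card_inf_normalizer {G : Type*} [Group G] [Finite G] {p : ℕ} [Fact p.Prime]
    {P D : Subgroup G} (hP : IsPGroup p P) (hDP : D < P) :
    Nat.card D < Nat.card (P ⊓ Subgroup.normalizer (D : Set G) : Subgroup G) := by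
  haveI : Group.IsNilpotent P := hP.isNilpotent
  have hlt : D.subgroupOf P < ⊤ := lt_top_iff_ne_top.mpr fun h =>
    hDP.not_ge (Subgroup.subgroupOf_eq_top.mp h)
  obtain ⟨n, hn, hnD⟩ := SetLike.exists_of_lt (Group.normalizerCondition_of_isNilpotent _ hlt)
  have hle : D ≤ P ⊓ Subgroup.normalizer (D : Set G) := le_inf hDP.le Subgroup.le_normalizer
  refine lt_of_le_of_ne (Subgroup.card_le_of_le hle) fun e => ?_
  have := Subgroup.eq_of_le_of_card_ge hle e.ge
  apply hnD
  show (n : G) ∈ D
  rw [this]
  refine ⟨n.2, Subgroup.mem_normalizer_iff.mpr fun x => ?_⟩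
  by_cases hx : x ∈ P
  · exact Subgroup.mem_normalizer_iff.mp hn ⟨x, hx⟩
  · refine iff_of_false (fun h => hx (hDP.le h)) (fun h => hx ?_)
    simpa [mul_assoc] using P.mul_mem (P.mul_mem (P.inv_mem n.2) (hDP.le h)) n.2

/-- A `p`-subgroup of `M` lies in a Sylow subgroup of `G` meeting `M` in a Sylow subgroup. -/
theorem exists_sylow_inf {G : Type*} [Group G] [Finite G] {p : ℕ} [Fact p.Prime]
    {U M : Subgroup G} (hU : IsPGroup p U) (hUM : U ≤ M) :
    ∃ R : Sylow p G, U ≤ (R : Subgroup G) ∧ IsSylowIn p ((R : Subgroup G) ⊓ M) M := by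
  obtain ⟨V, hV⟩ := (hU.of_equiv (Subgroup.subgroupOfEquivOfLe hUM).symm).exists_le_sylow
  have hVM := isSylowIn_map_subtype V
  obtain ⟨R, hR⟩ := hVM.2.1.exists_le_sylow
  refine ⟨R, fun u hu => hR ⟨⟨u, hUM hu⟩, hV hu, rfl⟩, ?_⟩
  have := hVM.eq_of_le (R.2.to_le inf_le_left) inf_le_right (le_inf hR hVM.1)
  rwa [← this]

/-- Let p be a prime dividing the order of the finite group G, and f an assignment to every p-subgroup P of a set f(P) of subgroups of P, each normalized by N_G(P), compatible with conjugation, such that for P ≠ 1 the members of f(P) are nontrivial. Let 𝓕 be the family of the normalizers N_G(F) of the members F of f(S) over the Sylow p-subgroups S of G, and 𝓕' the family of the maximal p-local subgroups M of G that are singular for f (the corresponding family of normalizers inside M does not control Sylow p-intersections in M). Then 𝓕 ∪ 𝓕' controls Sylow p-intersections in G. -/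
theorem result {G : Type*} [Group G] [Finite G] (p : ℕ) [Fact p.Prime] (hdiv : p ∣ Nat.card G)
    (f : Subgroup G → Set (Subgroup G)) (hf : Cfsg.IsNormalizerFunctor p f)
    (hf1 : ∀ P : Subgroup G, IsPGroup p ↥P → P ≠ ⊥ → ∀ F ∈ f P, F ≠ ⊥)
    (𝓕 𝓕' : Set (Subgroup G)) (h𝓕 : 𝓕 = Cfsg.functorFamily p f ⊤)
    (h𝓕' : 𝓕' = {M | Cfsg.IsMaximalPLocal p M ∧ ¬ Cfsg.IsFunctorRegular p f M}) :
    Cfsg.ControlsSylowIntersections p (𝓕 ∪ 𝓕') := by
  have hsub : Cfsg.functorFamily p f ⊤ ⊆ 𝓕 ∪ 𝓕' := fun X hX => Or.inl (h𝓕 ▸ hX)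
  suffices main : ∀ (k : ℕ) (D : Subgroup G) (a b : Sylow p G), Nat.card G - Nat.card D < k →
      D ≠ ⊥ → D ≤ (a : Subgroup G) → D ≤ (b : Subgroup G) → Linked p (𝓕 ∪ 𝓕') D a b by
    rw [controls_iff]
    exact fun S T _ hne => main (Nat.card G + 1) _ S T (by omega) hne inf_le_left inf_le_right
  intro k
  induction k with
  | zero => intro D a b h; exact absurd h (Nat.not_lt_zero _)
  | succ k ih =>
    intro D a b hk hD hDa hDb
    have big : ∀ (E : Subgroup G) (a b : Sylow p G), D ≤ E → Nat.card D < Nat.card E →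
        E ≤ (a : Subgroup G) → E ≤ (b : Subgroup G) → Linked p (𝓕 ∪ 𝓕') D a b := by
      intro E a b hDE hcard hEa hEb
      refine (ih E a b ?_ ?_ hEa hEb).mono hDE
      · have := Subgroup.card_le_card_group E
        omega
      · exact fun e => hD (le_bot_iff.mp (e ▸ hDE))
    rcases eq_or_lt_of_le (le_inf hDa hDb) with heq | hlt
    swap
    · refine big _ a b hlt.le ?_ inf_le_left inf_le_right
      by_contra h
      exact hlt.ne (Subgroup.eq_of_le_of_card_ge hlt.le (not_lt.mp h))
    by_cases hab : a = b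
    · subst hab; exact Relation.ReflTransGen.refl
    have hDp : IsPGroup p D := a.2.to_le hDa
    have hDlt : ∀ s t : Sylow p G, s ≠ t → D = (s : Subgroup G) ⊓ (t : Subgroup G) →
        D < (s : Subgroup G) := by
      intro s t hst hD
      refine lt_of_le_of_ne (hD ▸ inf_le_left) fun e => hst ?_
      have hle : (s : Subgroup G) ≤ (t : Subgroup G) := e ▸ hD ▸ inf_le_right
      exact Sylow.ext (s.3 t.2 hle).symm
    -- the claim on `p`-local subgroups
    have K : ∀ (n : ℕ) (L : Subgroup G) (R R' : Sylow p G), Cfsg.IsPLocal p L →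
        IsSylowIn p ((R : Subgroup G) ⊓ L) L → IsSylowIn p ((R' : Subgroup G) ⊓ L) L →
        D ≤ (R : Subgroup G) ⊓ L → D ≤ (R' : Subgroup G) ⊓ L →
        Nat.card D < Nat.card ((R : Subgroup G) ⊓ L : Subgroup G) →
        Nat.card G - Nat.card ((R : Subgroup G) ⊓ L : Subgroup G) < n →
        Linked p (𝓕 ∪ 𝓕') D R R' := by
      intro n
      induction n with
      | zero => intro L R R' _ _ _ _ _ _ h; exact absurd h (Nat.not_lt_zero _)
      | succ n ihn =>
        intro L R R' hL hRL hR'L hDR hDR' hcard hn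
        obtain ⟨M, ⟨hM, hLM⟩, hMmax⟩ :=
          (Set.toFinite {M : Subgroup G | Cfsg.IsPLocal p M ∧ L ≤ M}).exists_maximal
            ⟨L, hL, le_rfl⟩
        have hMM : Cfsg.IsMaximalPLocal p M := ⟨hM, fun N hN hMN =>
          le_antisymm (hMmax ⟨hN, hLM.trans hMN⟩ hMN) hMN⟩
        obtain ⟨R₁, hR₁, hR₁M⟩ := exists_sylow_inf hRL.2.1 (inf_le_right.trans hLM)
        obtain ⟨R₁', hR₁', hR₁'M⟩ := exists_sylow_inf hR'L.2.1 (inf_le_right.trans hLM)
        set P := (R₁ : Subgroup G) ⊓ M
        set Q := (R₁' : Subgroup G) ⊓ M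
        have hPge : (R : Subgroup G) ⊓ L ≤ P := le_inf hR₁ (inf_le_right.trans hLM)
        have hQge : (R' : Subgroup G) ⊓ L ≤ Q := le_inf hR₁' (inf_le_right.trans hLM)
        have hcardP : Nat.card ((R : Subgroup G) ⊓ L : Subgroup G) ≤ Nat.card P :=
          Subgroup.card_le_of_le hPge
        have hPQ : Nat.card Q = Nat.card P := hR₁'M.card_eq.trans hR₁M.card_eq.symm
        have hR'card : Nat.card D < Nat.card ((R' : Subgroup G) ⊓ L : Subgroup G) := by
          rwa [hR'L.card_eq, ← hRL.card_eq]
        refine (big _ R R₁ hDR hcard inf_le_left hR₁).trans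
          (Relation.ReflTransGen.trans ?_ (big _ R₁' R' hDR' hR'card hR₁' inf_le_left))
        by_cases hreg : Cfsg.IsFunctorRegular p f M
        · have hchain := regular_chain hreg hD hR₁M hR₁'M (hDR.trans hPge) (hDR'.trans hQge)
          suffices h : ∀ W, Relation.ReflTransGen (StepIn p f M D) P W →
              D ≤ W ∧ Nat.card W = Nat.card P ∧
              ∀ c : Sylow p G, W ≤ (c : Subgroup G) → Linked p (𝓕 ∪ 𝓕') D R₁ c from
            (h Q hchain).2.2 R₁' inf_le_left
          intro W hW
          induction hW with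
          | refl =>
            exact ⟨hDR.trans hPge, rfl, fun c hc =>
              big P R₁ c (hDR.trans hPge) (lt_of_lt_of_le hcard hcardP) inf_le_left hc⟩
          | tail _ hs ihW =>
            rename_i V W _
            obtain ⟨hDV, hVc, hV⟩ := ihW
            obtain ⟨P₀, F, x, hVM, hWM, hP₀, hF, h1, h2, hx, heq, hDW⟩ := id hs
            have hWc : Nat.card W = Nat.card P := hWM.card_eq.trans hR₁M.card_eq.symm
            refine ⟨hDW.trans inf_le_left, hWc, fun c hc => ?_⟩
            have hDW' : D ≤ W := hDW.trans inf_le_left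
            have hP₀c : Nat.card P₀ = Nat.card P := hP₀.card_eq.trans hR₁M.card_eq.symm
            have hP₀X : P₀ ≤ M ⊓ Subgroup.normalizer (F : Set G) :=
              le_inf hP₀.1 (Subgroup.le_normalizer.trans ((hf P₀ hP₀.2.1).1 F hF).2)
            have hVX : V ≤ M ⊓ Subgroup.normalizer (F : Set G) :=
              le_of_isSylowIn_inf hVM hP₀ h1 hP₀X
            have hWX : W ≤ M ⊓ Subgroup.normalizer (F : Set G) :=
              le_of_isSylowIn_inf hWM hP₀ h2 hP₀X
            obtain ⟨W₀, hW₀⟩ := hP₀.2.1.exists_le_sylow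
            rcases eq_or_lt_of_le hW₀ with hfull | hsmall
            · -- the Sylow subgroups of M are Sylow in G
              have hfc : Nat.card P = p ^ (Nat.card G).factorization p := by
                rw [← hP₀c, hfull, W₀.card_eq_multiplicity]
              have hVs : Linked p (𝓕 ∪ 𝓕') D R₁
                  (Sylow.ofCard V (hVc.trans hfc)) := hV _ le_rfl
              refine (hVs.tail (StepIn.step_top hf hsub (b := Sylow.ofCard W (hWc.trans hfc))
                (M := M) hs)).trans ?_
              exact big W _ c hDW' (hWc ▸ lt_of_lt_of_le hcard hcardP) le_rfl hc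
            · set L' := Subgroup.normalizer (F : Set G)
              have hP₀ne : P₀ ≠ ⊥ := fun e => by
                rw [e, Subgroup.card_bot] at hP₀c
                have := Nat.card_pos (α := D)
                omega
              have hL' : Cfsg.IsPLocal p L' := ⟨F, hP₀.2.1.to_le ((hf P₀ hP₀.2.1).1 F hF).1,
                hf1 P₀ hP₀.2.1 hP₀ne F hF, rfl⟩
              obtain ⟨Ra, hRa, hRaL⟩ := exists_sylow_inf hVM.2.1 (hVX.trans inf_le_right)
              obtain ⟨Rb, hRb, hRbL⟩ := exists_sylow_inf hWM.2.1 (hWX.trans inf_le_right)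
              have hgrow : Nat.card P < Nat.card ((Ra : Subgroup G) ⊓ L' : Subgroup G) := by
                rw [hRaL.card_eq, ← hP₀c]
                refine lt_of_lt_of_le (card_lt_card_inf_normalizer W₀.2 hsmall)
                  (card_sylow_le_of_le (W₀.2.to_le inf_le_left) ?_)
                exact inf_le_right.trans ((hf P₀ hP₀.2.1).1 F hF).2
              refine ((hV Ra hRa).trans (ihn L' Ra Rb hL' hRaL hRbL
                (le_inf (hDV.trans hRa) (hDV.trans (hVX.trans inf_le_right)))
                (le_inf (hDW'.trans hRb) (hDW'.trans (hWX.trans inf_le_right)))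
                (lt_trans (lt_of_lt_of_le hcard hcardP) hgrow) ?_)).trans
                (big W Rb c hDW' (hWc ▸ lt_of_lt_of_le hcard hcardP) hRb hc)
              have := Subgroup.card_le_card_group ((Ra : Subgroup G) ⊓ L')
              omega
        · have hM' : M ∈ 𝓕 ∪ 𝓕' := Or.inr (h𝓕' ▸ ⟨hMM, hreg⟩)
          obtain ⟨Pm, hPm⟩ := exists_sylow_of_isSylowIn hR₁M
          obtain ⟨Qm, hQm⟩ := exists_sylow_of_isSylowIn hR₁'M
          obtain ⟨x, hx⟩ := MulAction.exists_smul_eq M Pm Qm
          have hPxQ : P.map (MulAut.conj (x : G)).toMonoidHom = Q := by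
            rw [show P = (Pm : Subgroup M).map M.subtype from hPm.symm,
              show Q = (Qm : Subgroup M).map M.subtype from hQm.symm, ← map_subtype_conj,
              ← coe_smul_eq_map, hx]
          set R₂ := (x : G) • R₁
          have hR₂ : (R₂ : Subgroup G) ⊓ M = Q := by
            have hxG : ∃ y : G, y = (x : G) ∧ y ∈ M := ⟨x, rfl, x.2⟩
            obtain ⟨y, hy, hyM⟩ := hxG
            simp only [R₂, ← hPxQ, ← hy, coe_smul_eq_map]
            simp only [P]
            rw [Subgroup.map_inf _ _ _ (MulAut.conj y).injective, map_conj_self hyM]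
          have hstep : Step p (𝓕 ∪ 𝓕') D R₁ R₂ := by
            refine ⟨M, x, ?_, ?_, x.2, ?_, ?_⟩
            · exact mem_sylowMembers_iff.mpr ⟨hM', hR₁M⟩
            · exact mem_sylowMembers_iff.mpr ⟨hM', hR₂ ▸ hR₁'M⟩
            · rw [coe_smul_eq_map, subgroupConjRight_eq, map_conj_conj, inv_mul_cancel, map_conj_one]
            · exact hR₂ ▸ hDR'.trans hQge
          exact (Relation.ReflTransGen.single hstep).trans (big Q R₂ R₁' (hDR'.trans hQge)
            (hPQ ▸ lt_of_lt_of_le hcard hcardP) (hR₂ ▸ inf_le_left) inf_le_left)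
    -- start at N(D)
    set L := Subgroup.normalizer (D : Set G)
    have hL : Cfsg.IsPLocal p L := ⟨D, hDp, hD, rfl⟩
    obtain ⟨Ra, hRa, hRaL⟩ :=
      exists_sylow_inf (U := (a : Subgroup G) ⊓ L) (a.2.to_le inf_le_left) inf_le_right
    obtain ⟨Rb, hRb, hRbL⟩ :=
      exists_sylow_inf (U := (b : Subgroup G) ⊓ L) (b.2.to_le inf_le_left) inf_le_right
    have hca := card_lt_card_inf_normalizer a.2 (hDlt a b hab heq)
    have hcb := card_lt_card_inf_normalizer b.2 (hDlt b a (Ne.symm hab) (heq.trans (inf_comm _ _)))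
    have hDaL : D ≤ (a : Subgroup G) ⊓ L := le_inf hDa Subgroup.le_normalizer
    have hDbL : D ≤ (b : Subgroup G) ⊓ L := le_inf hDb Subgroup.le_normalizer
    refine ((big _ a Ra hDaL hca inf_le_left hRa).trans
      (K (Nat.card G + 1) L Ra Rb hL hRaL hRbL
        (le_inf (hDaL.trans hRa) Subgroup.le_normalizer)
        (le_inf (hDbL.trans hRb) Subgroup.le_normalizer) ?_ (by omega))).trans
      (big _ Rb b hDbL hcb hRb inf_le_left)
    rw [hRaL.card_eq]
    exact lt_of_lt_of_le hca (card_sylow_le_of_le (a.2.to_le inf_le_left) inf_le_right)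

end Cfsg.Agent.S2956
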