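import Mathlib
import Cfsg.Statements.S2957
import Cfsg.Agent.Lib.FunctorFamilyChains

set_option autoImplicit false
open Cfsg

namespace Cfsg.Agent.S2957

open scoped Pointwise
open Cfsg.Agent.SylowChainsBasic Cfsg.Agent.FunctorFamilyChains

/-- Let p be a prime dividing the order of the finite group G, f an equivariant assignment of a set of subgroups f(P) of P to every p-subgroup P, each normalized by N_G(P), and S a Sylow p-subgroup. If G = G₁G₂ for subgroups G₁, G₂ both containing S and both regular for f (in each Gᵢ, the family of normalizers in Gᵢ of the members of f(P), P a Sylow p-subgroup of Gᵢ, controls Sylow p-intersections), then G itself is regular for f. -/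
theorem result {G : Type*} [Group G] [Finite G] (p : ℕ) [Fact p.Prime] (hdiv : p ∣ Nat.card G)
    (f : Subgroup G → Set (Subgroup G)) (hf : Cfsg.IsNormalizerFunctor p f) (S : Sylow p G)
    (G₁ G₂ : Subgroup G) (h₁ : (S : Subgroup G) ≤ G₁) (h₂ : (S : Subgroup G) ≤ G₂)
    (hprod : ∀ g : G, ∃ g₁ ∈ G₁, ∃ g₂ ∈ G₂, g = g₁ * g₂)
    (hr₁ : Cfsg.IsFunctorRegular p f G₁) (hr₂ : Cfsg.IsFunctorRegular p f G₂) :
    Cfsg.IsFunctorRegular p f ⊤ := by
  set 𝓕 := Cfsg.functorFamily p f ⊤
  have hn : Cfsg.IsNormalSet 𝓕 := isNormalSet_functorFamily_top hf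
  -- two Sylow subgroups inside a regular overgroup of S are linked
  have inside : ∀ (M : Subgroup G), (S : Subgroup G) ≤ M → Cfsg.IsFunctorRegular p f M →
      ∀ (D : Subgroup G) (a b : Sylow p G), D ≠ ⊥ → (a : Subgroup G) ≤ M → (b : Subgroup G) ≤ M →
        D ≤ (a : Subgroup G) → D ≤ (b : Subgroup G) → Linked p 𝓕 D a b := by
    intro M hSM hr D a b hD haM hbM hDa hDb
    have hchain := regular_chain hr hD (isSylowIn_of_le a haM) (isSylowIn_of_le b hbM) hDa hDb
    suffices h : ∀ Q, Relation.ReflTransGen (StepIn p f M D) (a : Subgroup G) Q →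
        ∃ c : Sylow p G, (c : Subgroup G) = Q ∧ Linked p 𝓕 D a c by
      obtain ⟨c, hc, hl⟩ := h _ hchain
      exact (Sylow.ext hc : c = b) ▸ hl
    intro Q hQ
    induction hQ with
    | refl => exact ⟨a, rfl, Relation.ReflTransGen.refl⟩
    | tail _ hs ih =>
      rename_i P Q _
      obtain ⟨c, rfl, hl⟩ := ih
      have hQ' : IsSylowIn p Q M := by obtain ⟨_, _, _, _, h, _⟩ := hs; exact h
      have hcard : Nat.card Q = p ^ (Nat.card G).factorization p := by
        rw [hQ'.card_eq, ← (isSylowIn_of_le S hSM).card_eq, S.card_eq_multiplicity]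
      exact ⟨Sylow.ofCard Q hcard, rfl, hl.tail (hs.step_top hf Set.Subset.rfl)⟩
  have fromS : ∀ (D : Subgroup G) (T : Sylow p G), D ≠ ⊥ → D ≤ (S : Subgroup G) →
      D ≤ (T : Subgroup G) → Linked p 𝓕 D S T := by
    intro D T hD hDS hDT
    obtain ⟨g, rfl⟩ := MulAction.exists_smul_eq G S T
    -- a Sylow subgroup of G₁ ∩ gG₂g⁻¹ containing D
    obtain ⟨u, hu, v, hv, huv⟩ := hprod g
    set M₂ : Subgroup G := G₂.map (MulAut.conj g).toMonoidHom
    have hM₂ : M₂ = G₂.map (MulAut.conj u).toMonoidHom := by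
      simp only [M₂, huv, ← map_conj_conj, map_conj_self hv]
    have hV : ((u • S : Sylow p G) : Subgroup G) ≤ G₁ ⊓ M₂ := by
      rw [coe_smul_eq_map, hM₂]
      exact le_inf ((Subgroup.map_mono h₁).trans (map_conj_self hu).le) (Subgroup.map_mono h₂)
    have hDM : D ≤ G₁ ⊓ M₂ := le_inf (hDS.trans h₁) (by
      refine hDT.trans ?_
      rw [coe_smul_eq_map]; exact Subgroup.map_mono h₂)
    obtain ⟨U₀, hU₀⟩ := ((S.2.to_le hDS).of_equiv
      (Subgroup.subgroupOfEquivOfLe hDM).symm).exists_le_sylow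
    have hUin : IsSylowIn p ((U₀ : Subgroup ↥(G₁ ⊓ M₂)).map (G₁ ⊓ M₂).subtype) (G₁ ⊓ M₂) :=
      isSylowIn_map_subtype U₀
    have hcard : Nat.card ((U₀ : Subgroup ↥(G₁ ⊓ M₂)).map (G₁ ⊓ M₂).subtype) =
        p ^ (Nat.card G).factorization p := by
      rw [hUin.card_eq, ← (isSylowIn_of_le _ hV).card_eq, Sylow.card_eq_multiplicity]
    set U := Sylow.ofCard _ hcard
    have hUM : (U : Subgroup G) ≤ G₁ ⊓ M₂ := Subgroup.map_subtype_le _
    have hDU : D ≤ (U : Subgroup G) := fun d hd => ⟨⟨d, hDM hd⟩, hU₀ hd, rfl⟩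
    have l1 : Linked p 𝓕 D S U :=
      inside G₁ h₁ hr₁ D S U hD h₁ (hUM.trans inf_le_left) hDS hDU
    set D' := D.map (MulAut.conj g⁻¹).toMonoidHom
    have hD' : D' ≠ ⊥ := fun e => hD ((Subgroup.map_eq_bot_iff_of_injective D
      (f := (MulAut.conj g⁻¹).toMonoidHom) (MulAut.conj g⁻¹).injective).mp e)
    have l2 : Linked p 𝓕 D' (g⁻¹ • U) S := by
      refine inside G₂ h₂ hr₂ D' _ S hD' ?_ h₂ ?_ ?_
      · rw [coe_smul_eq_map]
        refine (Subgroup.map_mono (hUM.trans inf_le_right)).trans (le_of_eq ?_)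
        rw [map_conj_conj, inv_mul_cancel, map_conj_one]
      · rw [coe_smul_eq_map]; exact Subgroup.map_mono hDU
      · refine (Subgroup.map_mono hDT).trans (le_of_eq ?_)
        rw [coe_smul_eq_map, map_conj_conj, inv_mul_cancel, map_conj_one]
    have l3 := l2.smul hn g
    simp only [D', map_conj_conj, mul_inv_cancel, map_conj_one, smul_inv_smul] at l3
    exact l1.trans l3
  show Cfsg.ControlsSylowIntersections p _
  rw [controls_iff]
  intro A B _ hne
  obtain ⟨A', hA'⟩ : ∃ A' : Sylow p G,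
      (A' : Subgroup G) = (A : Subgroup ↥(⊤ : Subgroup G)).map (⊤ : Subgroup G).subtype := by
    have hc := (isSylowIn_map_subtype A).card_eq
    rw [Subgroup.card_top] at hc
    exact ⟨Sylow.ofCard _ hc, rfl⟩
  obtain ⟨B', hB'⟩ : ∃ B' : Sylow p G,
      (B' : Subgroup G) = (B : Subgroup ↥(⊤ : Subgroup G)).map (⊤ : Subgroup G).subtype := by
    have hc := (isSylowIn_map_subtype B).card_eq
    rw [Subgroup.card_top] at hc
    exact ⟨Sylow.ofCard _ hc, rfl⟩
  set D := ((A : Subgroup ↥(⊤ : Subgroup G)) ⊓ (B : Subgroup ↥(⊤ : Subgroup G))).map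
    (⊤ : Subgroup G).subtype
  have hD : D ≠ ⊥ := fun e =>
    hne ((Subgroup.map_eq_bot_iff_of_injective _ (Subgroup.subtype_injective _)).mp e)
  have hDA : D ≤ (A' : Subgroup G) := hA' ▸ Subgroup.map_mono inf_le_left
  have hDB : D ≤ (B' : Subgroup G) := hB' ▸ Subgroup.map_mono inf_le_right
  obtain ⟨h, hh⟩ := MulAction.exists_smul_eq G S A'
  have hl : Linked p 𝓕 D A' B' := by
    have hD' : D.map (MulAut.conj h⁻¹).toMonoidHom ≠ ⊥ := fun e => hD
      ((Subgroup.map_eq_bot_iff_of_injective D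
        (f := (MulAut.conj h⁻¹).toMonoidHom) (MulAut.conj h⁻¹).injective).mp e)
    have l := (fromS _ (h⁻¹ • B') hD' (by
      refine (Subgroup.map_mono (hh ▸ hDA)).trans (le_of_eq ?_)
      rw [coe_smul_eq_map, map_conj_conj, inv_mul_cancel, map_conj_one])
      (by rw [coe_smul_eq_map]; exact Subgroup.map_mono hDB)).smul hn h
    simp only [map_conj_conj, mul_inv_cancel, map_conj_one, smul_inv_smul, hh] at l
    exact l
  -- transfer to the subgroup ⊤
  have back : ∀ c : Sylow p G, Linked p 𝓕 D A' c →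
      Linked p ((fun X : Subgroup G => X.subgroupOf ⊤) '' 𝓕)
        ((A : Subgroup ↥(⊤ : Subgroup G)) ⊓ (B : Subgroup ↥(⊤ : Subgroup G))) A
        (c.subtype le_top) := by
    intro c hc
    induction hc with
    | refl =>
      have : A'.subtype le_top = A := by
        apply Sylow.ext
        rw [Sylow.coe_subtype, hA']
        exact Subgroup.comap_map_eq_self_of_injective (Subgroup.subtype_injective _) _
      rw [this]
      exact Relation.ReflTransGen.refl
    | tail _ hs ih =>
      rename_i a b _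
      refine ih.tail ?_
      obtain ⟨X, x, h1, h2, h3, h4, h5⟩ := hs
      rw [mem_sylowMembers_iff] at h1 h2
      have hin : ∀ s : Sylow p G, IsSylowIn p ((s : Subgroup G) ⊓ X) X →
          X.subgroupOf ⊤ ∈ Cfsg.sylowMembers p ((fun X : Subgroup G => X.subgroupOf ⊤) '' 𝓕)
            ((s.subtype le_top : Sylow p ↥(⊤ : Subgroup G)) : Subgroup ↥(⊤ : Subgroup G)) := by
        intro s hs
        rw [mem_sylowMembers_iff]
        refine ⟨⟨X, h1.1, rfl⟩, ?_⟩
        rw [Sylow.coe_subtype]
        refine ⟨inf_le_right, ?_, ?_⟩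
        · exact hs.2.1.comap_of_injective _ (Subgroup.subtype_injective ⊤)
        · intro hd
          apply hs.2.2
          rw [← Subgroup.relIndex_subgroupOf (L := (⊤ : Subgroup G)) le_top]
          exact hd
      refine ⟨X.subgroupOf ⊤, ⟨x, Subgroup.mem_top x⟩, hin a h1.2, hin b h2.2, h3, ?_, ?_⟩
      · rw [Sylow.coe_subtype, Sylow.coe_subtype, subgroupConjRight_eq, ← h4, subgroupConjRight_eq]
        apply Subgroup.map_injective (Subgroup.subtype_injective (⊤ : Subgroup G))
        rw [map_subtype_conj, Subgroup.subgroupOf_map_subtype, Subgroup.subgroupOf_map_subtype,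
          inf_eq_left.mpr le_top, inf_eq_left.mpr le_top]
        rfl
      · rw [Sylow.coe_subtype]
        intro y hy
        exact h5 ⟨y, hy, rfl⟩
  have := back B' hl
  have e : B'.subtype le_top = B := by
    apply Sylow.ext
    rw [Sylow.coe_subtype, hB']
    exact Subgroup.comap_map_eq_self_of_injective (Subgroup.subtype_injective _) _
  rwa [e] at this

end Cfsg.Agent.S2957
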