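import Mathlib
import Cfsg.Statements.S2958

set_option autoImplicit false
open Cfsg

namespace Cfsg.Agent.S2958

/-- Let X, A, B be subgroups of a group G such that G is generated by the conjugates of X and every conjugate of X is contained in A or in B. Then A = G or B = G. -/
theorem result {G : Type*} [Group G] (X A B : Subgroup G) (hgen : (⨆ g : G, X.map (MulAut.conj g).toMonoidHom) = ⊤) (hcover : ∀ g : G, X.map (MulAut.conj g).toMonoidHom ≤ A ∨ X.map (MulAut.conj g).toMonoidHom ≤ B) : A = ⊤ ∨ B = ⊤ := by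
  classical
  set c : G → Subgroup G := fun g => X.map (MulAut.conj g).toMonoidHom with hc
  have cmap : ∀ a g : G, (c g).map (MulAut.conj a).toMonoidHom = c (a * g) := by
    intro a g
    simp only [hc, Subgroup.map_map]
    congr 1
    ext x
    simp [MulAut.conj_apply, mul_assoc]
  by_cases hall : ∀ g, c g ≤ A
  · exact Or.inl (top_le_iff.mp (hgen ▸ iSup_le hall))
  right
  push_neg at hall
  obtain ⟨g0, hg0⟩ := hall
  set B1 : Subgroup G := ⨆ g : {g : G // ¬ c g ≤ A}, c g.1 with hB1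
  have hB1B : B1 ≤ B := iSup_le fun g => (hcover g.1).resolve_left g.2
  have hAperm : ∀ a ∈ A, ∀ g, ¬ c g ≤ A → ¬ c (a * g) ≤ A := by
    intro a ha g hg h
    apply hg
    intro x hx
    have : a * x * a⁻¹ ∈ c (a * g) := by
      rw [← cmap]; exact ⟨x, hx, by simp [MulAut.conj_apply]⟩
    have h2 := A.mul_mem (A.mul_mem (A.inv_mem ha) (h this)) ha
    simpa [mul_assoc] using h2
  have hAn : A ≤ Subgroup.normalizer (B1 : Set G) := by
    intro a ha
    have key : ∀ b ∈ A, B1.map (MulAut.conj b).toMonoidHom ≤ B1 := by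
      intro b hb
      rw [hB1, Subgroup.map_iSup]
      refine iSup_le fun g => ?_
      rw [cmap]
      exact le_iSup (fun g : {g : G // ¬ c g ≤ A} => c g.1) ⟨b * g.1, hAperm b hb g.1 g.2⟩
    rw [Subgroup.mem_normalizer_iff]
    intro x
    constructor
    · intro hx; exact key a ha ⟨x, hx, by simp [MulAut.conj_apply]⟩
    · intro hx
      exact key a⁻¹ (A.inv_mem ha) ⟨a * x * a⁻¹, hx, by simp [MulAut.conj_apply, mul_assoc]⟩
  have htop : Subgroup.normalizer (B1 : Set G) = ⊤ := by
    refine top_le_iff.mp (hgen ▸ iSup_le fun g => ?_)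
    by_cases hg : c g ≤ A
    · exact hg.trans hAn
    · exact (le_iSup (fun g : {g : G // ¬ c g ≤ A} => c g.1) ⟨g, hg⟩).trans Subgroup.le_normalizer
  have hn : B1.Normal := Subgroup.normalizer_eq_top_iff.mp htop
  refine top_le_iff.mp ((hgen ▸ iSup_le fun g => ?_ : (⊤ : Subgroup G) ≤ B1).trans hB1B)
  show c g ≤ B1
  rintro x hx
  have h0 : c g0 ≤ B1 := le_iSup (fun g : {g : G // ¬ c g ≤ A} => c g.1) ⟨g0, hg0⟩
  have hxm : x ∈ (c g0).map (MulAut.conj (g * g0⁻¹)).toMonoidHom := by
    rw [cmap]; simpa using hx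
  obtain ⟨y, hy, rfl⟩ := hxm
  exact hn.conj_mem y (h0 hy) _

end Cfsg.Agent.S2958
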