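import Mathlib
import Cfsg.Statements.S2963

set_option autoImplicit false
open Cfsg
open scoped Pointwise

namespace Cfsg.Agent.S2963

/-- Let n be odd. If the symmetric group of degree n is a minimal parabolic group for the prime 2, that is, a Sylow 2-subgroup is not normal and lies in exactly one maximal subgroup, then n = 2^m + 1 for some natural number m. -/
theorem result (n : ℕ) (hn : Odd n) (h : Cfsg.IsPMinimal 2 (Equiv.Perm (Fin n))) : ∃ m : ℕ, n = 2 ^ m + 1 := by
  classical
  haveI : Fact (Nat.Prime 2) := ⟨Nat.prime_two⟩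
  obtain ⟨S⟩ : Nonempty (Sylow 2 (Equiv.Perm (Fin n))) := inferInstance
  obtain ⟨-, M, ⟨hM, -⟩, huniq⟩ := h S
  -- every proper overgroup of S lies in M
  have hle : ∀ K : Subgroup (Equiv.Perm (Fin n)), (S : Subgroup (Equiv.Perm (Fin n))) ≤ K → K ≠ ⊤ → K ≤ M := by
    intro K hSK hK
    obtain ⟨K', hK', hKK'⟩ := (eq_top_or_exists_le_coatom K).resolve_left hK
    exact huniq K' ⟨hK', hSK.trans hKK'⟩ ▸ hKK'
  have hfix : (MulAction.fixedPoints (↥(S : Subgroup (Equiv.Perm (Fin n)))) (Fin n)).Nonempty := by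
    rcases Set.eq_empty_or_nonempty (MulAction.fixedPoints (↥(S : Subgroup (Equiv.Perm (Fin n)))) (Fin n)) with he | he
    · exfalso
      have := S.2.card_modEq_card_fixedPoints (Fin n)
      rw [he] at this
      simp [Nat.ModEq] at this
      have := Nat.odd_iff.mp hn
      omega
    · exact he
  obtain ⟨a, ha⟩ := hfix
  by_contra hcon
  push_neg at hcon
  have hn1 : n ≠ 1 := by
    intro h1
    obtain ⟨hnn, -⟩ := h S
    subst h1
    exact hnn (by rw [Subsingleton.elim (S : Subgroup (Equiv.Perm (Fin 1))) ⊥]; infer_instance)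
  have hb : ∃ b, b ≠ a := by
    haveI : Nontrivial (Fin n) := Fin.nontrivial_iff_two_le.mpr (by
      have := Nat.odd_iff.mp hn; omega)
    obtain ⟨b, hb⟩ := exists_ne a
    exact ⟨b, hb⟩
  obtain ⟨b, hba⟩ := hb
  set B := MulAction.orbit (↥(S : Subgroup (Equiv.Perm (Fin n)))) b
  have haB : a ∉ B := by
    rintro ⟨s, hs⟩
    exact hba (MulAction.injective s (hs.trans (ha s).symm))
  have hy : ∃ y, y ∉ B ∧ y ≠ a := by
    by_contra hall
    push_neg at hall
    have hB : B = {a}ᶜ := by
      ext y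
      constructor
      · intro hy h; exact haB ((Set.mem_singleton_iff.mp h) ▸ hy)
      · intro hy; by_contra h; exact hy (hall y h)
    obtain ⟨m, hm⟩ := S.2.card_orbit b
    apply hcon m
    have h2 : Nat.card B = n - 1 := by
      rw [hB, Nat.card_coe_set_eq, Set.ncard_compl, Set.ncard_singleton, Nat.card_fin]
    change Nat.card B = 2 ^ m at hm
    omega
  obtain ⟨y, hyB, hya⟩ := hy
  set SB : Subgroup (Equiv.Perm (Fin n)) := MulAction.stabilizer (Equiv.Perm (Fin n)) B
  set Sa : Subgroup (Equiv.Perm (Fin n)) := MulAction.stabilizer (Equiv.Perm (Fin n)) a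
  have hSB : (S : Subgroup (Equiv.Perm (Fin n))) ≤ SB := fun s hs =>
    MulAction.mem_stabilizer_iff.mpr (MulAction.smul_orbit (⟨s, hs⟩ : ↥(S : Subgroup (Equiv.Perm (Fin n)))) b)
  have hSa : (S : Subgroup (Equiv.Perm (Fin n))) ≤ Sa := fun s hs =>
    MulAction.mem_stabilizer_iff.mpr (ha ⟨s, hs⟩)
  have hbB : b ∈ B := MulAction.mem_orbit_self b
  have hSBne : SB ≠ ⊤ := by
    intro h
    have hmem : Equiv.swap a b ∈ SB := h ▸ Subgroup.mem_top _
    have : Equiv.swap a b • b ∈ Equiv.swap a b • B := Set.smul_mem_smul_set hbB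
    rw [MulAction.mem_stabilizer_iff.mp hmem, Equiv.Perm.smul_def, Equiv.swap_apply_right] at this
    exact haB this
  have hSane : Sa ≠ ⊤ := by
    intro h
    have hmem : Equiv.swap a b ∈ Sa := h ▸ Subgroup.mem_top _
    rw [MulAction.mem_stabilizer_iff, Equiv.Perm.smul_def, Equiv.swap_apply_left] at hmem
    exact hba hmem
  have hay : Equiv.swap a y ∈ SB := by
    have key : ∀ z, z ∈ B → Equiv.swap a y z = z := fun z hz =>
      Equiv.swap_apply_of_ne_of_ne (fun h => haB (h ▸ hz)) (fun h => hyB (h ▸ hz))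
    rw [MulAction.mem_stabilizer_iff]
    ext z
    constructor
    · rintro ⟨w, hw, rfl⟩
      simpa [Equiv.Perm.smul_def, key w hw] using hw
    · intro hz
      exact ⟨z, hz, by simp [Equiv.Perm.smul_def, key z hz]⟩
  have hswap : ∀ z w : Fin n, Equiv.swap z w ∈ M := by
    have h1 : ∀ z w : Fin n, z ≠ a → w ≠ a → Equiv.swap z w ∈ M := fun z w hz hw =>
      hle Sa hSa hSane (MulAction.mem_stabilizer_iff.mpr
        (Equiv.swap_apply_of_ne_of_ne hz.symm hw.symm))
    have h2 : ∀ z, Equiv.swap a z ∈ M := by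
      intro z
      by_cases hz : z = a
      · subst hz; rw [Equiv.swap_self]; exact M.one_mem
      by_cases hzy : z = y
      · subst hzy; exact hle SB hSB hSBne hay
      have := M.mul_mem (M.mul_mem (h1 z y hz hya) (hle SB hSB hSBne hay)) (h1 z y hz hya)
      rw [Equiv.swap_comm z y, Equiv.swap_mul_swap_mul_swap (x := a) hya.symm (Ne.symm hz)] at this
      rwa [Equiv.swap_comm]
    intro z w
    by_cases hz : z = a
    · subst hz; exact h2 w
    by_cases hw : w = a
    · subst hw; rw [Equiv.swap_comm]; exact h2 z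
    exact h1 z w hz hw
  apply hM.1
  rw [eq_top_iff, ← Equiv.Perm.closure_isSwap, Subgroup.closure_le]
  rintro σ ⟨z, w, -, rfl⟩
  exact hswap z w

end Cfsg.Agent.S2963
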