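import Cfsg.Statements.S2968
import Cfsg.Agent.Lib.IsolatedPElement

set_option autoImplicit false
open Cfsg

namespace Cfsg.Agent.S2968

open Subgroup Cfsg.Agent.IsolatedPElement

/-- Let G be a finite group, p a prime, P a Sylow p-subgroup of G and x ∈ P an element of p-power order which is isolated in G (the only conjugate of x commuting with x is x itself). Then x lies in the centre of P, and the subgroup generated by x is both strongly closed and weakly closed in P with respect to G. -/
theorem result {G : Type*} [Group G] [Finite G] {p : ℕ} [Fact p.Prime] (P : Sylow p G) (x : G) (hxP : x ∈ (P : Subgroup G)) (hx : ∃ k : ℕ, orderOf x = p ^ k) (hiso : Cfsg.IsIsolated x) : x ∈ (P : Subgroup G) ⊓ Subgroup.centralizer ((P : Subgroup G) : Set G) ∧ Cfsg.IsStronglyClosed (Subgroup.zpowers x) (P : Subgroup G) ∧ Cfsg.IsWeaklyClosed (Subgroup.zpowers x) (P : Subgroup G) := by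
  have hcomm : ∀ y ∈ (P : Subgroup G), y * x = x * y := fun y hy => commute_of_mem hiso P.2 hxP hy
  have hle : Subgroup.zpowers x ≤ (P : Subgroup G) := Subgroup.zpowers_le.2 hxP
  have key : ∀ g : G, ∀ k : ℤ, g * x ^ k * g⁻¹ ∈ (P : Subgroup G) → g * x ^ k * g⁻¹ = x ^ k := by
    intro g k hgk
    have hxH : x ∈ Subgroup.centralizer ({x ^ k} : Set G) :=
      mem_centralizer_single.2 (Commute.self_zpow x k).eq
    have hgH : g⁻¹ * x * g⁻¹⁻¹ ∈ Subgroup.centralizer ({x ^ k} : Set G) := by
      apply mem_centralizer_single.2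
      have h1 : Commute (g * x ^ k * g⁻¹) x := hcomm _ hgk
      have h2 := (h1.map (MulAut.conj g⁻¹)).eq
      simpa [mul_assoc] using h2.symm
    obtain ⟨h, hh, he⟩ := exists_conj_eq hx hiso hxH hgH
    have hh' : h * x ^ k = x ^ k * h := mem_centralizer_single.1 hh
    have hc : Commute (h * g⁻¹) x :=
      (commute_iff_conj_eq.2 (by simpa [mul_assoc] using he) : _)
    have h3 : (h * g⁻¹) * x ^ k * (h * g⁻¹)⁻¹ = x ^ k := commute_iff_conj_eq.1 (hc.zpow_right k).eq
    have h4 : g⁻¹ * x ^ k * g = x ^ k := by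
      have h5 : h * (g⁻¹ * x ^ k * g) * h⁻¹ = h * x ^ k * h⁻¹ := by
        rw [commute_iff_conj_eq.1 hh']
        simpa [mul_assoc] using h3
      simpa using h5
    conv_lhs => rw [← h4]
    simp [mul_assoc]
  have hsc : Cfsg.IsStronglyClosed (Subgroup.zpowers x) (P : Subgroup G) := by
    refine ⟨hle, fun y hy g hg => ?_⟩
    obtain ⟨k, rfl⟩ := Subgroup.mem_zpowers_iff.1 hy
    rw [key g k hg]
    exact hy
  refine ⟨⟨hxP, fun y hy => hcomm y hy⟩, hsc, hle, fun g hg => ?_⟩
  refine Subgroup.eq_of_le_of_card_ge ?_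
    (Subgroup.card_map_of_injective (MulAut.conj g).injective).ge
  rintro z ⟨y, hy, rfl⟩
  exact hsc.2 y hy g (hg ⟨y, hy, rfl⟩)

end Cfsg.Agent.S2968
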