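import Cfsg.Statements.S2971
import Cfsg.Agent.Lib.IsolatedPElement
import Cfsg.Agent.Lib.PGroupsCyclic
import Cfsg.Agent.Lib.HallCore

set_option autoImplicit false
open Cfsg

namespace Cfsg.Agent.S2971

open Subgroup Cfsg.Agent.IsolatedPElement

/-- Let G be a finite group and p an odd prime such that G has p-rank at most 1 (no elementary abelian subgroup of order p²). If x ∈ G is an isolated element of order p, then x is central modulo the largest normal subgroup of G of order prime to p. -/
theorem result {G : Type*} [Group G] [Finite G] {p : ℕ} [Fact p.Prime] (hp : p ≠ 2) (hrk : Cfsg.PRankLE p 1 G) (x : G) (hx : orderOf x = p) (hiso : Cfsg.IsIsolated x) : Cfsg.InZStar p x := by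
  have hxk : ∃ k, orderOf x = p ^ k := ⟨1, by rw [hx, pow_one]⟩
  have hx1 : x ≠ 1 := fun h => by
    rw [h, orderOf_one] at hx
    exact (Fact.out : p.Prime).ne_one hx.symm
  obtain ⟨P₀, hP₀⟩ := (isPGroup_zpowers hxk).exists_le_sylow
  have hxP : x ∈ (P₀ : Subgroup G) := hP₀ (Subgroup.mem_zpowers x)
  have hcomm : ∀ y ∈ (P₀ : Subgroup G), y * x = x * y := fun y hy => commute_of_mem hiso P₀.2 hxP hy
  have hall : ∀ H : Subgroup ↥(P₀ : Subgroup G), Nat.card H = p →
      H.map (P₀ : Subgroup G).subtype = Subgroup.zpowers x := by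
    intro H hH
    set H' := H.map (P₀ : Subgroup G).subtype with hH'
    have hcard : Nat.card H' = p := by
      rw [hH', Subgroup.card_map_of_injective (P₀ : Subgroup G).subtype_injective, hH]
    have hcyc : IsCyclic ↥H' := isCyclic_of_prime_card hcard
    have hel : IsMulCommutative ↥(Subgroup.zpowers x ⊔ H') ∧
        ∀ a ∈ Subgroup.zpowers x ⊔ H', a ^ p = 1 := by
      have hab : IsMulCommutative ↥(Subgroup.zpowers x ⊔ H') := by
        rw [Subgroup.sup_eq_closure]
        refine Subgroup.isMulCommutative_closure ?_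
        have hxH : ∀ a ∈ Subgroup.zpowers x, ∀ b ∈ H', a * b = b * a := by
          intro a ha b hb
          obtain ⟨k, rfl⟩ := Subgroup.mem_zpowers_iff.1 ha
          have hb' : b ∈ (P₀ : Subgroup G) := Subgroup.map_subtype_le H hb
          exact ((show Commute b x from hcomm b hb').zpow_right k).symm.eq
        rintro a (ha | ha) b (hb | hb)
        · obtain ⟨i, rfl⟩ := Subgroup.mem_zpowers_iff.1 ha
          obtain ⟨j, rfl⟩ := Subgroup.mem_zpowers_iff.1 hb
          exact ((Commute.refl x).zpow_zpow i j).eq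
        · exact hxH a ha b hb
        · exact (hxH b hb a ha).symm
        · exact congrArg Subtype.val (mul_comm' (⟨a, ha⟩ : ↥H') ⟨b, hb⟩)
      refine ⟨hab, fun a ha => ?_⟩
      rw [Subgroup.sup_eq_closure] at ha
      have hK : ∀ u ∈ ((Subgroup.zpowers x : Set G) ∪ (H' : Set G)), u ^ p = 1 := by
        rintro u (hu | hu)
        · obtain ⟨k, rfl⟩ := Subgroup.mem_zpowers_iff.1 hu
          rw [← zpow_natCast (x ^ k), ← zpow_mul, mul_comm k, zpow_mul, zpow_natCast, ← hx,
            pow_orderOf_eq_one, one_zpow]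
        · exact congrArg Subtype.val
            (show (⟨u, hu⟩ : ↥H') ^ p = 1 by rw [← hcard]; exact pow_card_eq_one')
      have hmem : ∀ u ∈ Subgroup.closure ((Subgroup.zpowers x : Set G) ∪ (H' : Set G)),
          u ∈ Subgroup.zpowers x ⊔ H' := fun u hu => by rwa [Subgroup.sup_eq_closure]
      refine Subgroup.closure_induction (p := fun u _ => u ^ p = 1) hK (one_pow p) ?_ ?_ ha
      · intro u v hu' hv' hu hv
        have hc : Commute u v :=
          congrArg Subtype.val (mul_comm' (⟨u, hmem u hu'⟩ : ↥(Subgroup.zpowers x ⊔ H')) ⟨v, hmem v hv'⟩)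
        rw [hc.mul_pow, hu, hv, one_mul]
      · intro u _ hu
        rw [inv_pow, hu, inv_one]
    have h1 : Nat.card ↥(Subgroup.zpowers x ⊔ H' : Subgroup G) ≤ p := by
      simpa using hrk _ hel.1 hel.2
    have h2 : Subgroup.zpowers x = Subgroup.zpowers x ⊔ H' :=
      Subgroup.eq_of_le_of_card_ge le_sup_left (by rw [Nat.card_zpowers, hx]; exact h1)
    refine Subgroup.eq_of_le_of_card_ge (h2 ▸ le_sup_right) ?_
    rw [Nat.card_zpowers, hx, hcard]
  have hcyc₀ : IsCyclic ↥(P₀ : Subgroup G) := by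
    rcases PGroupsCyclic.isCyclic_or_quaternion P₀.2 (fun H K hH hK =>
      Subgroup.map_injective (P₀ : Subgroup G).subtype_injective ((hall H hH).trans (hall K hK).symm))
      with h | ⟨h2, -⟩
    · exact h
    · exact absurd h2 hp
  obtain ⟨P, N, hN, hNP⟩ := hasNormalPComplement hxk hiso hx1 fun Q =>
    isCyclic_of_surjective (P₀.equiv Q).toMonoidHom (P₀.equiv Q).surjective
  have hcop : (Nat.card ↥N).Coprime p := by
    refine Nat.Coprime.symm ((Nat.Prime.coprime_iff_not_dvd Fact.out).2 ?_)
    rw [← hNP.index_eq_card]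
    exact P.not_dvd_index
  intro g
  refine HallCore.le_pPrimeCore (N := N) hcop ?_
  set π := QuotientGroup.mk' N with hπ
  have hsurj : ∀ a : G, ∃ b ∈ (P : Subgroup G), π b = π a := by
    intro a
    obtain ⟨⟨n, b⟩, hnb⟩ := hNP.surjective a
    refine ⟨b, b.2, ?_⟩
    rw [← hnb]
    show π b = π ((n : G) * b)
    rw [map_mul, show π (n : G) = 1 from (QuotientGroup.eq_one_iff _).2 n.2, one_mul]
  have hPc : IsCyclic ↥(P : Subgroup G) :=
    isCyclic_of_surjective (P₀.equiv P).toMonoidHom (P₀.equiv P).surjective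
  obtain ⟨a, ha, hga⟩ := hsurj g
  obtain ⟨b, hb, hxb⟩ := hsurj x
  have hab : Commute (π a) (π b) := by
    letI := hPc.commGroup
    exact (show Commute a b from congrArg Subtype.val (mul_comm (⟨a, ha⟩ : ↥(P : Subgroup G)) ⟨b, hb⟩)).map π
  apply (QuotientGroup.eq_one_iff _).1
  show π (g * x * g⁻¹ * x⁻¹) = 1
  rw [map_mul, map_mul, map_mul, map_inv, map_inv, ← hga, ← hxb, hab.eq, mul_inv_cancel_right,
    mul_inv_cancel]

end Cfsg.Agent.S2971
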