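import Cfsg.Statements.S2972
import Cfsg.Agent.Lib.IsolatedPElement
import Cfsg.Agent.Lib.HallCore

set_option autoImplicit false
open Cfsg

namespace Cfsg.Agent.S2972

open Subgroup commutatorElement Cfsg.Agent.IsolatedPElement

variable {G : Type*} [Group G] [Finite G] {p : ℕ} [Fact p.Prime] {x : G}

theorem core_eq_bot (hnz : ¬ Cfsg.InZStar p x)
    (hquot : ∀ (N : Subgroup G) [N.Normal], N ≠ ⊥ → Cfsg.InZStar p (QuotientGroup.mk x : G ⧸ N)) :
    Cfsg.pPrimeCore p G = ⊥ := by
  by_contra h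
  have := HallCore.pPrimeCore_normal p G
  refine hnz fun g => ?_
  have h2 := hquot _ h (QuotientGroup.mk g)
  rw [HallCore.pPrimeCore_quotient_self, Subgroup.mem_bot] at h2
  exact (QuotientGroup.eq_one_iff _).1 (by simpa using h2)

theorem conj_mul_inv_mem {H : Subgroup G} (hxH : x ∈ H) (hz : Cfsg.InZStar p (⟨x, hxH⟩ : ↥H))
    {h : G} (hh : h ∈ H) :
    h * x * h⁻¹ * x⁻¹ ∈ (Cfsg.pPrimeCore p ↥H).map H.subtype :=
  ⟨_, hz ⟨h, hh⟩, by simp⟩

theorem comm_of_normal (hcore : Cfsg.pPrimeCore p G = ⊥) {K : Subgroup G} [K.Normal]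
    (hxK : x ∈ K) (hz : Cfsg.InZStar p (⟨x, hxK⟩ : ↥K)) {k : G} (hk : k ∈ K) : k * x = x * k := by
  have h := conj_mul_inv_mem hxK hz hk
  rw [HallCore.map_subtype_pPrimeCore, hcore, bot_inf_eq, Subgroup.mem_bot, mul_inv_eq_one,
    mul_inv_eq_iff_eq_mul] at h
  exact h

/-- Let G be a finite group, p a prime and x ∈ G an isolated element of order p (the only conjugate of x commuting with x is x) which is not central modulo the largest normal subgroup of order prime to p, while x is central modulo the largest normal subgroup of order prime to p in every proper subgroup containing x, and the image of x is so in every quotient of G by a nontrivial normal subgroup (a minimal counterexample to the Z*_p statement). Then the derived subgroup G' is a non-abelian simple group and G = G'⟨x⟩. -/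
theorem result {G : Type*} [Group G] [Finite G] {p : ℕ} [Fact p.Prime] (x : G) (hx : orderOf x = p) (hiso : Cfsg.IsIsolated x) (hnz : ¬ Cfsg.InZStar p x) (hmin : ∀ (H : Subgroup G) (hxH : x ∈ H), H ≠ ⊤ → Cfsg.InZStar p (⟨x, hxH⟩ : ↥H)) (hquot : ∀ (N : Subgroup G) [N.Normal], N ≠ ⊥ → Cfsg.InZStar p (QuotientGroup.mk x : G ⧸ N)) : IsSimpleGroup ↥(commutator G) ∧ ¬ IsMulCommutative ↥(commutator G) ∧ commutator G ⊔ Subgroup.zpowers x = ⊤ := by
  have hcore := core_eq_bot hnz hquot
  have hxk : ∃ k, orderOf x = p ^ k := ⟨1, by rw [hx, pow_one]⟩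
  have hnc : ¬ ∀ g : G, g * x * g⁻¹ = x := fun h => hnz fun g => by
    rw [h g, mul_inv_cancel]; exact one_mem _
  have hKtop : ∀ K : Subgroup G, K.Normal → x ∈ K → K = ⊤ := by
    intro K hK hxK
    by_contra hne
    exact hnc fun g => hiso g
      (show Commute x (g * x * g⁻¹) from
        (comm_of_normal hcore hxK (hmin K hxK hne) (hK.conj_mem x hxK g)).symm)
  have hG'top : commutator G ⊔ Subgroup.zpowers x = ⊤ := by
    refine hKtop _ ⟨fun n hn g => ?_⟩ (Subgroup.mem_sup_right (Subgroup.mem_zpowers x))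
    have h1 : ⁅g, n⁆ ∈ commutator G ⊔ Subgroup.zpowers x :=
      Subgroup.mem_sup_left (Subgroup.commutator_mem_commutator (Subgroup.mem_top g) (Subgroup.mem_top n))
    simpa [commutatorElement_def] using mul_mem h1 hn
  -- a nontrivial proper normal subgroup together with x generates G
  have hsup : ∀ N : Subgroup G, N.Normal → N ≠ ⊥ → N ≠ ⊤ → N ⊔ Subgroup.zpowers x = ⊤ := by
    intro N hN hNb hNt
    by_contra hne
    set H := N ⊔ Subgroup.zpowers x with hH
    have hxH : x ∈ H := Subgroup.mem_sup_right (Subgroup.mem_zpowers x)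
    set O := (Cfsg.pPrimeCore p ↥H).map H.subtype with hO
    have hcard : (Nat.card ↥O).Coprime p := by
      rw [hO, Subgroup.card_map_of_injective H.subtype_injective]
      exact HallCore.coprime_card_pPrimeCore p ↥H
    have hON : O ≤ N := by
      intro y hy
      rw [← QuotientGroup.eq_one_iff, ← orderOf_eq_one_iff]
      refine Nat.eq_one_of_dvd_coprimes hcard ?_ ?_
      · exact (orderOf_map_dvd (QuotientGroup.mk' N) y).trans (O.orderOf_dvd_natCard hy)
      · have hyH : y ∈ H := Subgroup.map_subtype_le _ hy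
        have h1 : QuotientGroup.mk' N y ∈ Subgroup.zpowers (QuotientGroup.mk' N x) := by
          rw [← MonoidHom.map_zpowers]
          have : H.map (QuotientGroup.mk' N) = (Subgroup.zpowers x).map (QuotientGroup.mk' N) := by
            rw [hH, Subgroup.map_sup, QuotientGroup.map_mk'_self, bot_sup_eq]
          exact this ▸ Subgroup.mem_map_of_mem _ hyH
        refine (orderOf_dvd_of_mem_zpowers h1).trans ?_
        exact hx ▸ orderOf_map_dvd (QuotientGroup.mk' N) x
    have hObot : O = ⊥ := by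
      have hn : (O.subgroupOf N).Normal := by
        refine ⟨fun n hn g => ?_⟩
        obtain ⟨m, hm, hmn⟩ := hn
        have hgH : (g : G) ∈ H := Subgroup.mem_sup_left g.2
        exact ⟨_, (HallCore.pPrimeCore_normal p ↥H).conj_mem m hm ⟨g, hgH⟩, by simpa using hmn⟩
      have hle : O.subgroupOf N ≤ Cfsg.pPrimeCore p ↥N := HallCore.le_pPrimeCore
        (hcard.coprime_dvd_left (HallCore.card_subgroupOf_dvd O N))
      rw [eq_bot_iff]
      intro y hy
      have h1 : y ∈ (Cfsg.pPrimeCore p ↥N).map N.subtype := ⟨⟨y, hON hy⟩, hle hy, rfl⟩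
      rwa [HallCore.map_subtype_pPrimeCore, hcore, bot_inf_eq] at h1
    have hNx : ∀ n ∈ N, n * x = x * n := fun n hn => by
      have h := conj_mul_inv_mem hxH (hmin H hxH hne) (Subgroup.mem_sup_left hn : n ∈ H)
      rw [← hO, hObot, Subgroup.mem_bot, mul_inv_eq_one, mul_inv_eq_iff_eq_mul] at h
      exact h
    have hNc : ∀ n ∈ N, ∀ g : G, g * n = n * g := by
      intro n hn
      have hC : Subgroup.centralizer (N : Set G) = ⊤ :=
        hKtop _ inferInstance fun m hm => hNx m hm
      exact fun g => ((hC ▸ Subgroup.mem_top g : g ∈ Subgroup.centralizer (N : Set G)) n hn).symm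
    -- N is a p-group
    have hNp : IsPGroup p ↥N := by
      intro n
      obtain ⟨a, m, hm, he⟩ := Nat.exists_eq_pow_mul_and_not_dvd (orderOf_pos n).ne' p (Fact.out : p.Prime).ne_one
      refine ⟨a, ?_⟩
      set y : G := (n : G) ^ p ^ a with hy
      have hym : y ^ m = 1 := by
        rw [hy, ← pow_mul, ← he, ← Subgroup.coe_pow, pow_orderOf_eq_one, Subgroup.coe_one]
      have hyn : (Subgroup.zpowers y).Normal := ⟨fun z hz g => by
        rw [hNc z (Subgroup.zpowers_le.2 (pow_mem n.2 _) hz) g, mul_inv_cancel_right]; exact hz⟩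
      have hle : Subgroup.zpowers y ≤ Cfsg.pPrimeCore p G := by
        refine HallCore.le_pPrimeCore ?_
        rw [Nat.card_zpowers]
        exact (((Nat.Prime.coprime_iff_not_dvd Fact.out).2 hm).symm).coprime_dvd_left
          (orderOf_dvd_of_pow_eq_one hym)
      rw [hcore, le_bot_iff, Subgroup.zpowers_eq_bot] at hle
      exact Subtype.ext (by simpa [hy] using hle)
    -- the quotient by N has trivial p'-core
    set M := (Cfsg.pPrimeCore p (G ⧸ N)).comap (QuotientGroup.mk' N) with hM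
    have hMn : M.Normal := (HallCore.pPrimeCore_normal p _).comap _
    have hNM : N ≤ M := fun n hn => by
      rw [hM, Subgroup.mem_comap, QuotientGroup.mk'_apply, (QuotientGroup.eq_one_iff n).2 hn]
      exact one_mem _
    obtain ⟨P, hP⟩ := (hNp.of_equiv (Subgroup.subgroupOfEquivOfLe hNM).symm).exists_le_sylow
    have hPN : (P : Subgroup ↥M) = N.subgroupOf M := by
      refine le_antisymm (fun y hy => ?_) hP
      show (y : G) ∈ N
      rw [← QuotientGroup.eq_one_iff, ← orderOf_eq_one_iff]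
      obtain ⟨e, he⟩ := P.2.exists_card_eq
      refine Nat.eq_one_of_dvd_coprimes ((HallCore.coprime_card_pPrimeCore p (G ⧸ N)).pow_right e)
        ((Cfsg.pPrimeCore p (G ⧸ N)).orderOf_dvd_natCard y.2) ?_
      exact (orderOf_map_dvd ((QuotientGroup.mk' N).comp M.subtype) y).trans
        (he ▸ (P : Subgroup ↥M).orderOf_dvd_natCard hy)
    have hnc' : Subgroup.normalizer ((P : Subgroup ↥M) : Set ↥M) ≤
        Subgroup.centralizer ((P : Subgroup ↥M) : Set ↥M) := by
      intro m _ y hy
      have hyN : (y : G) ∈ N := (hPN.le hy : y ∈ N.subgroupOf M)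
      exact Subtype.ext (hNc _ hyN m).symm
    set K := (MonoidHom.transferSylow P hnc').ker with hK
    have hKbot : K = ⊥ := by
      have hKn : K.Normal := MonoidHom.normal_ker _
      have hle : K ≤ Cfsg.pPrimeCore p ↥M := HallCore.le_pPrimeCore
        ((Nat.Prime.coprime_iff_not_dvd Fact.out).2 (MonoidHom.not_dvd_card_ker_transferSylow P hnc')).symm
      rw [eq_bot_iff]
      intro k hk
      have h1 : (k : G) ∈ (Cfsg.pPrimeCore p ↥M).map M.subtype := ⟨k, hle hk, rfl⟩
      rw [HallCore.map_subtype_pPrimeCore, hcore, bot_inf_eq, Subgroup.mem_bot] at h1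
      exact Subgroup.mem_bot.2 (Subtype.ext h1)
    have hMN : M ≤ N := by
      have hc := MonoidHom.ker_transferSylow_isComplement' P hnc'
      rw [← hK, hKbot] at hc
      intro m hm
      have : (⟨m, hm⟩ : ↥M) ∈ (P : Subgroup ↥M) := by
        have := hc.sup_eq_top
        rw [bot_sup_eq] at this
        exact this ▸ Subgroup.mem_top _
      exact hPN.le this
    refine hnc fun g => hiso g ?_
    have hn : g * x * g⁻¹ * x⁻¹ ∈ N := hMN (by
      rw [hM, Subgroup.mem_comap, map_mul, map_mul, map_mul, map_inv, map_inv]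
      exact hquot N hNb (QuotientGroup.mk g))
    have h2 : Commute x (g * x * g⁻¹ * x⁻¹ * x) :=
      (show Commute x (g * x * g⁻¹ * x⁻¹) from hNc _ hn x).mul_right (Commute.refl x)
    rwa [inv_mul_cancel_right] at h2
  set L := commutator G with hL
  have hLmin : ∀ N : Subgroup G, N.Normal → N ≠ ⊥ → L ≤ N := by
    intro N hN hNb
    by_cases hNt : N = ⊤
    · rw [hNt]; exact le_top
    rw [hL, _root_.commutator_def, Subgroup.commutator_le]
    intro a _ b _
    rw [← QuotientGroup.eq_one_iff]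
    have hgen : ∀ c : G, QuotientGroup.mk' N c ∈ Subgroup.zpowers (QuotientGroup.mk' N x) := by
      intro c
      rw [← MonoidHom.map_zpowers]
      have := congrArg (Subgroup.map (QuotientGroup.mk' N)) (hsup N hN hNb hNt)
      rw [Subgroup.map_sup, QuotientGroup.map_mk'_self, bot_sup_eq] at this
      exact this ▸ Subgroup.mem_map_of_mem _ (Subgroup.mem_top c)
    obtain ⟨i, hi⟩ := Subgroup.mem_zpowers_iff.1 (hgen a)
    obtain ⟨j, hj⟩ := Subgroup.mem_zpowers_iff.1 (hgen b)
    show QuotientGroup.mk' N _ = 1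
    rw [commutatorElement_def, map_mul, map_mul, map_mul, map_inv, map_inv, ← hi, ← hj,
      ((Commute.refl _).zpow_zpow i j).eq, mul_inv_cancel_right, mul_inv_cancel]
  have hLne : L ≠ ⊥ := by
    intro h
    refine hnc fun g => ?_
    have h1 : ⁅g, x⁆ ∈ L := Subgroup.commutator_mem_commutator (Subgroup.mem_top g) (Subgroup.mem_top x)
    rw [h, Subgroup.mem_bot, commutatorElement_def, mul_inv_eq_one] at h1
    exact h1
  have hLn : L.Normal := inferInstance
  have hdvdL : p ∣ Nat.card ↥L := by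
    by_contra hd
    have := HallCore.le_pPrimeCore (N := L) ((Nat.Prime.coprime_iff_not_dvd Fact.out).2 hd).symm
    rw [hcore, le_bot_iff] at this
    exact hLne this
  have hdecomp : ∀ g : G, ∃ l ∈ L, ∃ i : ℤ, l * x ^ i = g := by
    intro g
    have h1 : g ∈ L ⊔ Subgroup.zpowers x := hG'top ▸ Subgroup.mem_top g
    obtain ⟨l, hl, z, hz, rfl⟩ := Subgroup.mem_sup_of_normal_left.1 h1
    obtain ⟨i, rfl⟩ := Subgroup.mem_zpowers_iff.1 hz
    exact ⟨l, hl, i, rfl⟩
  obtain ⟨P, hP⟩ := (isPGroup_zpowers hxk).exists_le_sylow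
  have hxP : x ∈ (P : Subgroup G) := hP (Subgroup.mem_zpowers x)
  have hnab : ¬ IsMulCommutative ↥L := by
    intro hab
    obtain ⟨S⟩ := (inferInstance : Nonempty (Sylow p ↥L))
    have hSn : (S : Subgroup ↥L).Normal := ⟨fun n hn g => by
      rw [mul_comm' g n, mul_inv_cancel_right]; exact hn⟩
    have hchar := Sylow.characteristic_of_normal S hSn
    have hSn' : ((S : Subgroup ↥L).map L.subtype).Normal := inferInstance
    have hSne : (S : Subgroup ↥L).map L.subtype ≠ ⊥ := fun h => by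
      have := S.dvd_card_of_dvd_card hdvdL
      rw [← Subgroup.card_map_of_injective L.subtype_injective, h, Subgroup.card_bot] at this
      exact (Fact.out : p.Prime).ne_one (Nat.dvd_one.1 this)
    have hLp : IsPGroup p ↥L := (S.2.map L.subtype).to_le (hLmin _ hSn' hSne)
    have hGp : IsPGroup p ↥(L ⊔ Subgroup.zpowers x : Subgroup G) :=
      hLp.to_sup_of_normal_left (isPGroup_zpowers hxk)
    rw [hG'top] at hGp
    exact hnc fun g => eq_of_conj_mem hiso hGp (Subgroup.mem_top x) (Subgroup.mem_top _)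
  have : Nontrivial ↥L := by rwa [Subgroup.nontrivial_iff_ne_bot]
  refine ⟨?_, hnab, hG'top⟩
  suffices hs : ∀ K : Subgroup ↥L, K.Normal → K ≠ ⊥ →
      (∀ K' : Subgroup ↥L, K'.Normal → K' ≠ ⊥ → K' ≤ K → K ≤ K') → K = ⊤ by
    refine ⟨fun K hK => ?_⟩
    by_cases hKb : K = ⊥
    · exact Or.inl hKb
    right
    obtain ⟨K₀, hK₀, hmin₀⟩ := Set.Finite.exists_minimal
      (Set.toFinite {K' : Subgroup ↥L | K'.Normal ∧ K' ≠ ⊥ ∧ K' ≤ K}) ⟨K, hK, hKb, le_refl K⟩
    rw [eq_top_iff, ← hs K₀ hK₀.1 hK₀.2.1 fun K' h1 h2 h3 => hmin₀ ⟨h1, h2, h3.trans hK₀.2.2⟩ h3]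
    exact hK₀.2.2
  intro K hK hKb hKmin
  set K' := K.map L.subtype with hK'
  have hdvd : p ∣ Nat.card ↥K := by
    by_contra hd
    have hle : K ≤ Cfsg.pPrimeCore p ↥L :=
      HallCore.le_pPrimeCore ((Nat.Prime.coprime_iff_not_dvd Fact.out).2 hd).symm
    apply hKb
    rw [eq_bot_iff]
    intro k hk
    have h1 : (k : G) ∈ (Cfsg.pPrimeCore p ↥L).map L.subtype := ⟨k, hle hk, rfl⟩
    rw [HallCore.map_subtype_pPrimeCore, hcore, bot_inf_eq, Subgroup.mem_bot] at h1
    exact Subgroup.mem_bot.2 (Subtype.ext h1)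
  obtain ⟨S⟩ := (inferInstance : Nonempty (Sylow p ↥K))
  have hSp : IsPGroup p ↥((S : Subgroup ↥K).map (L.subtype.comp K.subtype)) := S.2.map _
  obtain ⟨Q, hQ⟩ := hSp.exists_le_sylow
  obtain ⟨c, hc⟩ := MulAction.exists_smul_eq G P Q
  obtain ⟨l, hl, i, hli⟩ := hdecomp c
  have hxn : x ^ i ∈ Subgroup.normalizer ((P : Subgroup G) : Set G) :=
    Subgroup.le_normalizer (zpow_mem hxP i)
  have hQl : l • P = Q := by
    rw [← hc, ← hli, mul_smul, Sylow.smul_eq_iff_mem_normalizer.2 hxn]
  obtain ⟨s, hs1⟩ : ∃ s : ↥(S : Subgroup ↥K), s ≠ 1 := by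
    have : Nontrivial ↥(S : Subgroup ↥K) := Finite.one_lt_card_iff_nontrivial.1 (by
      have := Nat.le_of_dvd Nat.card_pos (S.dvd_card_of_dvd_card hdvd)
      have := (Fact.out : p.Prime).two_le
      omega)
    exact exists_ne 1
  set k : ↥L := ((s : ↥K) : ↥L) with hk
  have hkQ : (k : G) ∈ ((l • P : Sylow p G) : Subgroup G) := hQl ▸ hQ ⟨s, s.2, rfl⟩
  rw [Sylow.smul_def, Sylow.pointwise_smul_def] at hkQ
  obtain ⟨y, hy, hyk⟩ := hkQ
  have hyk' : y = l⁻¹ * (k : G) * l := by
    simp only [MulDistribMulAction.toMonoidEnd_apply] at hyk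
    rw [← hyk]; simp [MulAut.smul_def, mul_assoc]
  have hyK : (⟨l, hl⟩ : ↥L)⁻¹ * k * ⟨l, hl⟩ ∈ K := by
    simpa using hK.conj_mem k (s : ↥K).2 (⟨l, hl⟩ : ↥L)⁻¹
  set y' : ↥L := (⟨l, hl⟩ : ↥L)⁻¹ * k * ⟨l, hl⟩ with hy'
  have hy1 : y' ≠ 1 := by
    rw [hy']
    intro h
    have : k = 1 := by
      have := congrArg (fun z => (⟨l, hl⟩ : ↥L) * z * (⟨l, hl⟩ : ↥L)⁻¹) h
      simpa [mul_assoc] using this
    exact hs1 (Subtype.ext (Subtype.ext this))
  have hyx : (y' : G) * x = x * (y' : G) := by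
    have : (y' : G) = y := by rw [hyk', hy']; simp
    rw [this]; exact commute_of_mem hiso P.2 hxP hy
  -- x fixes K
  set K2 := K.map ((MulAut.conjNormal x : MulAut ↥L) : ↥L ≃* ↥L).toMonoidHom with hK2
  have hK2n : K2.Normal := hK.map _ (MulEquiv.surjective _)
  have hy2 : y' ∈ K2 := ⟨y', hyK, Subtype.ext (by
    show x * (y' : G) * x⁻¹ = y'
    rw [← hyx, mul_inv_cancel_right])⟩
  have hKK2 : K ≤ K2 := by
    refine (hKmin (K ⊓ K2) inferInstance ?_ inf_le_left).trans inf_le_right
    intro h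
    exact hy1 (Subgroup.mem_bot.1 (h ▸ ⟨hyK, hy2⟩))
  have heq : K = K2 := Subgroup.eq_of_le_of_card_ge hKK2
    (Subgroup.card_map_of_injective (MulEquiv.injective _)).le
  have hNK : K'.Normal := by
    rw [← Subgroup.normalizer_eq_top_iff, eq_top_iff, ← hG'top]
    refine sup_le ?_ (Subgroup.zpowers_le.2 ?_)
    · exact (Subgroup.le_normalizer_map L.subtype).trans' (by
        rw [Subgroup.normalizer_eq_top_iff.2 hK, ← MonoidHom.range_eq_map, Subgroup.range_subtype])
    · rw [Subgroup.mem_normalizer_iff_map_conj_eq]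
      show (K.map L.subtype).map (MulAut.conj x).toMonoidHom = K.map L.subtype
      conv_rhs => rw [heq]
      rw [hK2, Subgroup.map_map, Subgroup.map_map]
      rfl
  have hKne : K' ≠ ⊥ := fun h => hKb ((Subgroup.map_eq_bot_iff_of_injective _ L.subtype_injective).1 h)
  rw [eq_top_iff]
  intro a _
  obtain ⟨b, hb, hba⟩ := hLmin K' hNK hKne a.2
  obtain rfl : b = a := Subtype.ext hba
  exact hb

end Cfsg.Agent.S2972
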