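import Cfsg.Statements.S2975
import Cfsg.Agent.Lib.IsolatedPElement
import Cfsg.Agent.Lib.HallCore
import Cfsg.Agent.Lib.CoprimeAction
import Cfsg.Agent.S2972

set_option autoImplicit false
open Cfsg

namespace Cfsg.Agent.S2975

open Subgroup Cfsg.Agent.IsolatedPElement

/-- Let G be a finite group, p a prime and x ∈ G an isolated element of order p (the only conjugate of x commuting with x is x) which is not central modulo the largest normal subgroup of order prime to p, while x is central modulo the largest normal subgroup of order prime to p in every proper subgroup containing x, and the image of x is so in every quotient of G by a nontrivial normal subgroup (a minimal counterexample to the Z*_p statement). Then for every prime q, every q-subgroup of G that is normalized by x and maximal among the q-subgroups normalized by x is either trivial or a Sylow q-subgroup of G; and C_G(x) permutes the x-invariant Sylow q-subgroups of G transitively by conjugation. -/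
theorem result {G : Type*} [Group G] [Finite G] {p : ℕ} [Fact p.Prime] (x : G) (hx : orderOf x = p) (hiso : Cfsg.IsIsolated x) (hnz : ¬ Cfsg.InZStar p x) (hmin : ∀ (H : Subgroup G) (hxH : x ∈ H), H ≠ ⊤ → Cfsg.InZStar p (⟨x, hxH⟩ : ↥H)) (hquot : ∀ (N : Subgroup G) [N.Normal], N ≠ ⊥ → Cfsg.InZStar p (QuotientGroup.mk x : G ⧸ N)) (q : ℕ) [Fact q.Prime] : (∀ Q : Subgroup G, IsPGroup q ↥Q → x ∈ Subgroup.normalizer (Q : Set G) → (∀ R : Subgroup G, IsPGroup q ↥R → x ∈ Subgroup.normalizer (R : Set G) → Q ≤ R → R = Q) → Q = ⊥ ∨ ∃ S : Sylow q G, (S : Subgroup G) = Q) ∧ (∀ S₁ S₂ : Sylow q G, x ∈ Subgroup.normalizer ((S₁ : Subgroup G) : Set G) → x ∈ Subgroup.normalizer ((S₂ : Subgroup G) : Set G) → ∃ c ∈ Subgroup.centralizer ({x} : Set G), (S₁ : Subgroup G).map (MulAut.conj c).toMonoidHom = (S₂ : Subgroup G)) := by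
  have hxk : ∃ k, orderOf x = p ^ k := ⟨1, by rw [hx, pow_one]⟩
  have hcore := S2972.core_eq_bot hnz hquot
  refine ⟨fun Q hQ hxQ hmax => ?_, fun S₁ S₂ h1 h2 => ?_⟩
  · by_cases hbot : Q = ⊥
    · exact Or.inl hbot
    refine Or.inr ?_
    by_cases hqp : q = p
    · subst hqp
      have hx' : IsPGroup q ↥(Subgroup.zpowers x) := isPGroup_zpowers hxk
      have hQR : IsPGroup q ↥(Q ⊔ Subgroup.zpowers x : Subgroup G) :=
        hQ.to_sup_of_normal_left' hx' (Subgroup.zpowers_le.2 hxQ)
      have hxn : ∀ R : Subgroup G, x ∈ R → x ∈ Subgroup.normalizer (R : Set G) := fun R h =>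
        Subgroup.le_normalizer h
      have heq := hmax _ hQR (hxn _ (Subgroup.mem_sup_right (Subgroup.mem_zpowers x))) le_sup_left
      obtain ⟨S, hS⟩ := hQ.exists_le_sylow
      refine ⟨S, hmax S S.2 (hxn _ (hS ?_)) hS⟩
      rw [← heq]; exact Subgroup.mem_sup_right (Subgroup.mem_zpowers x)
    · set H := Subgroup.normalizer (Q : Set G) with hH
      have hHne : H ≠ ⊤ := by
        intro h
        have : Q.Normal := Subgroup.normalizer_eq_top_iff.1 h
        obtain ⟨e, he⟩ := hQ.exists_card_eq
        have hle := HallCore.le_pPrimeCore (p := p) (N := Q) (by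
          rw [he]; exact ((Nat.coprime_primes Fact.out Fact.out).2 hqp).pow_left e)
        rw [hcore, le_bot_iff] at hle
        exact hbot hle
      have hxH : x ∈ H := hxQ
      have hz := hmin H hxH hHne
      have := HallCore.pPrimeCore_normal p ↥H
      set O := Cfsg.pPrimeCore p ↥H with hO
      have hQH : Q ≤ H := Subgroup.le_normalizer
      obtain ⟨T, hT⟩ := (hQ.of_equiv (Subgroup.subgroupOfEquivOfLe hQH).symm).exists_le_sylow
      set L : Subgroup ↥H := (T : Subgroup ↥H) ⊔ O with hL
      have hxL : (⟨x, hxH⟩ : ↥H) ∈ Subgroup.normalizer (L : Set ↥H) := by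
        rw [Subgroup.mem_normalizer_iff_map_conj_eq]
        refine Subgroup.eq_of_le_of_card_ge ?_
          (Subgroup.card_map_of_injective (MulAut.conj (⟨x, hxH⟩ : ↥H)).injective).ge
        rw [hL, Subgroup.map_sup]
        refine sup_le ?_ ?_
        · rintro _ ⟨t, ht, rfl⟩
          have h1 : t * ⟨x, hxH⟩ * t⁻¹ * (⟨x, hxH⟩ : ↥H)⁻¹ ∈ O := hz t
          have h2 := mul_mem (Subgroup.mem_sup_right (S := (T : Subgroup ↥H)) (inv_mem h1))
            (Subgroup.mem_sup_left (T := O) ht)
          simpa [mul_assoc] using h2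
        · rintro _ ⟨o, ho, rfl⟩
          exact Subgroup.mem_sup_right (this.conj_mem o ho _)
      set L' := L.map H.subtype with hL'
      have hcopL : (Nat.card ↥L').Coprime p := by
        rw [hL', Subgroup.card_map_of_injective H.subtype_injective]
        refine Nat.Coprime.coprime_dvd_left (HallCore.card_sup_dvd _ _) ?_
        refine Nat.Coprime.mul_left ?_ (HallCore.coprime_card_pPrimeCore p ↥H)
        obtain ⟨e, he⟩ := T.2.exists_card_eq
        rw [he]; exact ((Nat.coprime_primes Fact.out Fact.out).2 hqp).pow_left e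
      have hAK : Subgroup.zpowers x ≤ Subgroup.normalizer (L' : Set G) :=
        Subgroup.zpowers_le.2 (Subgroup.le_normalizer_map H.subtype ⟨_, hxL, rfl⟩)
      have hQL : Q ≤ L' := fun y hy =>
        ⟨⟨y, hQH hy⟩, Subgroup.mem_sup_left (hT hy), rfl⟩
      obtain ⟨S, hQS, hxS⟩ := CoprimeAction.exists_invariant_sylow_ge (A := Subgroup.zpowers x)
        (K := L') (p := q) hAK (by rw [Nat.card_zpowers, hx]; exact hcopL.symm)
        (Or.inl inferInstance) hQL hQ (Subgroup.zpowers_le.2 hxQ)
      have hSQ : (S : Subgroup ↥L').map L'.subtype = Q :=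
        hmax _ (S.2.map _) (hxS (Subgroup.mem_zpowers x)) hQS
      -- hence Q is a Sylow subgroup of H
      have hTcard : Nat.card ↥(T : Subgroup ↥H) ≤ Nat.card ↥Q := by
        set T' := (T : Subgroup ↥H).map H.subtype with hT'
        have hT'L : T' ≤ L' := Subgroup.map_mono le_sup_left
        have hp' : IsPGroup q ↥(T'.subgroupOf L') :=
          (T.2.map _).of_equiv (Subgroup.subgroupOfEquivOfLe hT'L).symm
        obtain ⟨S', hS'⟩ := hp'.exists_le_sylow
        rw [← Subgroup.card_map_of_injective H.subtype_injective, ← hT', ← hSQ,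
          Subgroup.card_map_of_injective L'.subtype_injective,
          ← Nat.card_congr (Subgroup.subgroupOfEquivOfLe hT'L).toEquiv]
        exact (Subgroup.card_le_of_le hS').trans (Nat.card_congr (S'.equiv S).toEquiv).le
      have hTQ : Q.subgroupOf H = (T : Subgroup ↥H) := Subgroup.eq_of_le_of_card_ge hT
        (hTcard.trans (Nat.card_congr (Subgroup.subgroupOfEquivOfLe hQH).toEquiv).ge)
      obtain ⟨P, hP⟩ := hQ.exists_le_sylow
      refine ⟨P, le_antisymm ?_ hP⟩
      by_contra hne
      have : Group.IsNilpotent ↥(P : Subgroup G) := P.2.isNilpotent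
      have hlt := Group.normalizerCondition_of_isNilpotent (Q.subgroupOf (P : Subgroup G))
        (lt_top_iff_ne_top.2 fun h => hne (Subgroup.subgroupOf_eq_top.1 h))
      obtain ⟨n, hn, hnQ⟩ := SetLike.exists_of_lt hlt
      apply hnQ
      show (n : G) ∈ Q
      have hnH : (n : G) ∈ H := by
        rw [hH, Subgroup.mem_normalizer_iff_map_conj_eq]
        refine Subgroup.eq_of_le_of_card_ge ?_
          (Subgroup.card_map_of_injective (MulAut.conj (n : G)).injective).ge
        rintro _ ⟨y, hy, rfl⟩
        exact (Subgroup.mem_normalizer_iff.1 hn ⟨y, hP hy⟩).1 hy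
      have hP' : IsPGroup q ↥((P : Subgroup G).subgroupOf H) :=
        P.2.comap_of_injective H.subtype H.subtype_injective
      have hle : (T : Subgroup ↥H) ≤ (P : Subgroup G).subgroupOf H := hTQ ▸ fun y hy => hP hy
      have h3 : (⟨n, hnH⟩ : ↥H) ∈ (T : Subgroup ↥H) := (T.3 hP' hle).le n.2
      rw [← hTQ] at h3
      exact h3
  · obtain ⟨g, hg⟩ := MulAction.exists_smul_eq G S₁ S₂
    set H := Subgroup.normalizer ((S₁ : Subgroup G) : Set G) with hH
    have hgx : g⁻¹ * x * g⁻¹⁻¹ ∈ H := by
      have h3 : x • (g • S₁) = g • S₁ := by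
        rw [hg]; exact Sylow.smul_eq_iff_mem_normalizer.2 h2
      apply Sylow.smul_eq_iff_mem_normalizer.1
      rw [inv_inv, mul_smul, mul_smul, h3, ← mul_smul, inv_mul_cancel, one_smul]
    obtain ⟨h, hh, he⟩ := exists_conj_eq hxk hiso (show x ∈ H from h1) hgx
    refine ⟨g * h⁻¹, mem_centralizer_single.2 (commute_iff_conj_eq.2 ?_), ?_⟩
    · have hxe : x = h * (g⁻¹ * x * g) * h⁻¹ := by simpa using he.symm
      have e2 : (g * h⁻¹) * (h * (g⁻¹ * x * g) * h⁻¹) * (g * h⁻¹)⁻¹ = x := by group
      rwa [← hxe] at e2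
    · have : (g * h⁻¹) • S₁ = S₂ := by
        rw [mul_smul, Sylow.smul_eq_iff_mem_normalizer.2 (inv_mem hh), hg]
      rw [← this]
      rfl

end Cfsg.Agent.S2975
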