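import Cfsg.Statements.S2998
import Mathlib

set_option autoImplicit false
open Cfsg

namespace Cfsg.Agent.S2998

open Subgroup

theorem card_eq_card_map_mul {G Q : Type*} [Group G] [Group Q] (π : G →* Q) (N : Subgroup G)
    (hN : π.ker = N) (X : Subgroup G) : Nat.card ↥X = Nat.card ↥(X.map π) * Nat.card ↥(X ⊓ N : Subgroup G) := by
  rw [Subgroup.card_eq_card_quotient_mul_card_subgroup (π.comp X.subtype).ker]
  congr 1
  · rw [Nat.card_congr (QuotientGroup.quotientKerEquivRange _).toEquiv, MonoidHom.range_comp,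
      Subgroup.range_subtype]
  · rw [← MonoidHom.comap_ker, hN, ← Subgroup.card_map_of_injective X.subtype_injective,
      Subgroup.map_comap_eq, Subgroup.range_subtype]

/-- Let G be a finite group, p a prime, P a Sylow p-subgroup of G and x ∈ P an element such that N_G(R) ≤ C_G(x) for every nontrivial subgroup R of P. Then P ≤ C_G(x); every G-conjugate of x lying in P equals x (so g ∈ C_G(x) whenever g x g⁻¹ ∈ P); and for every normal subgroup N of G, the image of x in G ⧸ N has the same property with respect to the image of P: the normalizer of every nontrivial subgroup of the image of P centralizes the image of x. -/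
theorem result {G : Type*} [Group G] [Finite G] {p : ℕ} [Fact p.Prime] (P : Sylow p G) (x : G) (hxP : x ∈ (P : Subgroup G)) (hlc : ∀ R : Subgroup G, R ≤ (P : Subgroup G) → R ≠ ⊥ → Subgroup.normalizer (R : Set G) ≤ Subgroup.centralizer ({x} : Set G)) : (P : Subgroup G) ≤ Subgroup.centralizer ({x} : Set G) ∧ (∀ g : G, g * x * g⁻¹ ∈ (P : Subgroup G) → g * x * g⁻¹ = x) ∧ ∀ (N : Subgroup G) [N.Normal], ∀ R : Subgroup (G ⧸ N), R ≤ (P : Subgroup G).map (QuotientGroup.mk' N) → R ≠ ⊥ → Subgroup.normalizer (R : Set (G ⧸ N)) ≤ Subgroup.centralizer ({(QuotientGroup.mk x : G ⧸ N)} : Set (G ⧸ N)) := by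
  have hcom : ∀ {a b : G}, a ∈ Subgroup.centralizer ({b} : Set G) → a * b = b * a := fun h =>
    (Subgroup.mem_centralizer_iff.1 h _ rfl).symm
  have hP : (P : Subgroup G) ≤ Subgroup.centralizer ({x} : Set G) := by
    rcases eq_or_ne (P : Subgroup G) ⊥ with h | h
    · rw [h]; exact bot_le
    · exact Subgroup.le_normalizer.trans (hlc _ le_rfl h)
  refine ⟨hP, fun g hg => ?_, ?_⟩
  · by_cases hx1 : x = 1
    · simp [hx1]
    set y := g * x * g⁻¹ with hy
    have hy1 : y ≠ 1 := by simp [hy, hx1]
    have hCy : Subgroup.centralizer ({y} : Set G) ≤ Subgroup.centralizer ({x} : Set G) := by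
      refine le_trans ?_ (hlc (Subgroup.zpowers y) (Subgroup.zpowers_le.2 hg) (by simpa using hy1))
      intro c hc
      rw [Subgroup.mem_normalizer_iff]
      intro z
      have hfix : ∀ k : ℤ, c * y ^ k * c⁻¹ = y ^ k := fun k => by
        rw [mul_inv_eq_iff_eq_mul]
        exact ((show Commute c y from hcom hc).zpow_right k).eq
      constructor
      · intro hz
        obtain ⟨k, rfl⟩ := Subgroup.mem_zpowers_iff.1 hz
        exact (hfix k).symm ▸ hz
      · intro hz
        obtain ⟨k, hk⟩ := Subgroup.mem_zpowers_iff.1 hz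
        have : z = y ^ k := by
          have h1 : c * z * c⁻¹ = c * y ^ k * c⁻¹ := by rw [hfix k, hk]
          simpa using h1
        exact this ▸ ⟨k, rfl⟩
    have hgP : ((g • P : Sylow p G) : Subgroup G) ≤ Subgroup.centralizer ({x} : Set G) := by
      refine le_trans ?_ hCy
      intro z hz
      rw [Sylow.smul_def, Sylow.pointwise_smul_def] at hz
      obtain ⟨w, hw, rfl⟩ := hz
      have hwx : Commute w x := hcom (hP hw)
      apply Subgroup.mem_centralizer_iff.2
      rintro _ rfl
      simpa [hy, mul_assoc] using (hwx.map (MulAut.conj g)).eq.symm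
    obtain ⟨c, hc⟩ := MulAction.exists_smul_eq ↥(Subgroup.centralizer ({x} : Set G))
      ((g • P).subtype hgP) (P.subtype hP)
    rw [Sylow.smul_subtype] at hc
    have hfix : ((c : G) * g) • P = P := by
      rw [mul_smul]
      exact Sylow.subtype_injective hc
    have hn := Sylow.smul_eq_iff_mem_normalizer.1 hfix
    have h1 : (c : G) * g ∈ Subgroup.centralizer ({x} : Set G) := by
      rcases eq_or_ne (P : Subgroup G) ⊥ with h | h
      · exact absurd (by rw [h] at hxP; exact hxP) hx1
      · exact hlc _ le_rfl h hn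
    have h2 : g ∈ Subgroup.centralizer ({x} : Set G) := by
      have := mul_mem (inv_mem c.2) h1
      simpa using this
    rw [mul_inv_eq_iff_eq_mul]
    exact hcom h2
  · intro N _ R hR hR1 q hq
    obtain ⟨g, rfl⟩ := QuotientGroup.mk'_surjective N q
    set π := QuotientGroup.mk' N with hπ
    set M := R.comap π with hM
    set L := (Subgroup.normalizer (R : Set (G ⧸ N))).comap π with hL
    set R' := (P : Subgroup G) ⊓ M with hR'
    have hNM : N ≤ M := fun z hz => by
      show π z ∈ R
      rw [hπ, QuotientGroup.mk'_apply, (QuotientGroup.eq_one_iff z).2 hz]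
      exact one_mem _
    have hML : M ≤ L := Subgroup.comap_mono Subgroup.le_normalizer
    -- R' is a Sylow subgroup of M
    obtain ⟨Q, hQ⟩ := ((P.2.to_le (inf_le_left : R' ≤ _)).of_equiv
      (Subgroup.subgroupOfEquivOfLe (inf_le_right : R' ≤ M)).symm).exists_le_sylow
    have hR'map : R'.map π = R := by
      refine le_antisymm (fun z => ?_) fun z hz => ?_
      · rintro ⟨w, hw, rfl⟩; exact hw.2
      · obtain ⟨w, hw, rfl⟩ := hR hz
        exact ⟨w, ⟨hw, hz⟩, rfl⟩
    have hR'1 : R' ≠ ⊥ := fun h => hR1 (by rw [← hR'map, h, Subgroup.map_bot])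
    have hMnormal : (M.subgroupOf L).Normal := by
      rw [Subgroup.normal_subgroupOf_iff_le_normalizer hML]
      exact (Subgroup.le_normalizer_comap π)
    -- M = R' N
    have hMeq : ∀ m ∈ M, ∃ r ∈ R', r⁻¹ * m ∈ N := fun m hm => by
      obtain ⟨r, hr, hrm⟩ := (hR'map.ge hm : π m ∈ R'.map π)
      exact ⟨r, hr, (QuotientGroup.eq).1 hrm⟩
    have hgL : g ∈ L := hq
    -- Frattini: conjugate R' back by an element of N
    have key : ∃ n ∈ N, ∀ y ∈ R', (n * g) * y * (n * g)⁻¹ ∈ R' := by
      have hgR : ∀ y ∈ R', g * y * g⁻¹ ∈ M := fun y hy => by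
        show π (g * y * g⁻¹) ∈ R
        rw [map_mul, map_mul, map_inv]
        exact (Subgroup.mem_normalizer_iff.1 hgL (π y)).1 hy.2
      have hp2 : IsPGroup p ↥((R'.map (MulAut.conj g).toMonoidHom).subgroupOf M) :=
        ((P.2.to_le (inf_le_left : R' ≤ _)).map _).of_equiv (Subgroup.subgroupOfEquivOfLe
          (by rintro _ ⟨y, hy, rfl⟩; exact hgR y hy)).symm
      obtain ⟨Q', hQ'⟩ := hp2.exists_le_sylow
      obtain ⟨m, hm⟩ := MulAction.exists_smul_eq ↥M Q' Q
      obtain ⟨r, hr, hn⟩ := hMeq m m.2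
      refine ⟨r⁻¹ * m, hn, fun y hy => ?_⟩
      have hQR : ∀ z : ↥M, z ∈ (Q : Subgroup ↥M) → (z : G) ∈ R' := by
        intro z hz
        set Q₀ := (Q : Subgroup ↥M).map M.subtype with hQ₀
        have hle : Q₀ ≤ R' := by
          refine (Subgroup.eq_of_le_of_card_ge ?_ ?_).ge
          · intro w hw
            exact ⟨⟨w, hw.2⟩, hQ (by exact hw), rfl⟩
          · rw [card_eq_card_map_mul π N (QuotientGroup.ker_mk' N) Q₀,
              card_eq_card_map_mul π N (QuotientGroup.ker_mk' N) R', hR'map]
            refine Nat.mul_le_mul ?_ ?_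
            · refine Subgroup.card_le_of_le ?_
              rintro _ ⟨w, ⟨v, _, rfl⟩, rfl⟩
              exact v.2
            · have hp0 : IsPGroup p ↥(Q₀ ⊓ N) := (Q.2.map M.subtype).to_le inf_le_left
              obtain ⟨S, hS⟩ := hp0.exists_le_sylow
              obtain ⟨c, rfl⟩ := MulAction.exists_smul_eq G P S
              refine (Subgroup.card_le_of_le (K := (R' ⊓ N).map (MulAut.conj c).toMonoidHom) ?_).trans
                (Subgroup.card_map_of_injective (MulAut.conj c).injective).le
              intro w hw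
              have h1 : w ∈ ((c • P : Sylow p G) : Subgroup G) := hS hw
              rw [Sylow.smul_def, Sylow.pointwise_smul_def] at h1
              obtain ⟨v, hv, rfl⟩ := h1
              have hvN : v ∈ N := by
                have h2 : c⁻¹ * (c * v * c⁻¹) * c⁻¹⁻¹ ∈ N := (inferInstance : N.Normal).conj_mem _ hw.2 c⁻¹
                simpa [mul_assoc] using h2
              exact ⟨v, ⟨⟨hv, hNM hvN⟩, hvN⟩, rfl⟩
        exact hle ⟨z, hz, rfl⟩
      have hy' : (⟨g * y * g⁻¹, hgR y hy⟩ : ↥M) ∈ (Q' : Subgroup ↥M) :=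
        hQ' ⟨y, hy, by simp⟩
      have h5 : (m : G) * (g * y * g⁻¹) * (m : G)⁻¹ ∈ R' := by
        refine hQR (m * ⟨g * y * g⁻¹, hgR y hy⟩ * m⁻¹) ?_
        rw [← hm, Sylow.smul_def, Sylow.pointwise_smul_def]
        exact ⟨_, hy', rfl⟩
      have := mul_mem (mul_mem (inv_mem hr) h5) hr
      simpa [mul_assoc] using this
    obtain ⟨n, hn, hng⟩ := key
    have hmem : n * g ∈ Subgroup.normalizer (R' : Set G) := by
      rw [Subgroup.mem_normalizer_iff_map_conj_eq]
      refine Subgroup.eq_of_le_of_card_ge ?_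
        (Subgroup.card_map_of_injective (MulAut.conj (n * g)).injective).ge
      rintro z ⟨y, hy, rfl⟩
      exact hng y hy
    have h6 := congrArg π (hcom (hlc R' inf_le_left hR'1 hmem))
    apply Subgroup.mem_centralizer_iff.2
    rintro _ rfl
    simp only [map_mul] at h6
    have hn1 : π n = 1 := (QuotientGroup.eq_one_iff n).2 hn
    rw [hn1, one_mul] at h6
    exact h6.symm

end Cfsg.Agent.S2998
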