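import Cfsg.Statements.S2999
import Cfsg.Agent.Lib.OffenderSL2Coord
-- import your own Cfsg.Agent.* helpers here

set_option autoImplicit false
open Cfsg

namespace Cfsg.Agent.S2999

open Cfsg.Agent.OffenderSL2
open scoped commutatorElement

/-- Let p be a prime and let P and V be subgroups of a finite group with V elementary abelian, P normalizing V and acting faithfully on it (P ∩ C(V) = 1). Suppose P is p-minimal (a Sylow p-subgroup T of P is not normal and lies in a unique maximal subgroup M of P) and A ≤ T is an elementary abelian subgroup such that: |V/C_V(A)| ≤ |A| while |A₀|·|C_V(A₀)| < |A|·|C_V(A)| for every nontrivial proper subgroup A₀ of A; [C_V(T), P] ≠ 1; and P = ⟨A, xAx⁻¹⟩ for every x ∈ P outside M. Then, with q = |A|, there is a field F with q elements such that P ≅ SL₂(F), C_V(A) = [V, A]·C_V(P), and P acts on V/C_V(P) as SL₂(F) on its natural two-dimensional module. -/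
theorem result {G : Type*} [Group G] [Finite G] {p : ℕ} [Fact p.Prime] (V P : Subgroup G) (hV : Cfsg.IsElementaryAbelian p V) (hPV : P ≤ Subgroup.normalizer (V : Set G)) (hfaith : P ⊓ Subgroup.centralizer (V : Set G) = ⊥) (hmin : Cfsg.IsPMinimal p ↥P) (T : Sylow p ↥P) (M : Subgroup ↥P) (hM : IsCoatom M) (hTM : (T : Subgroup ↥P) ≤ M) (A : Subgroup G) (hAT : A ≤ ((T : Subgroup ↥P).map P.subtype)) (hAel : Cfsg.IsElementaryAbelian p A) (hi : Nat.card ↥V ≤ Nat.card ↥A * Nat.card ↥(V ⊓ Subgroup.centralizer ((A : Subgroup G) : Set G)) ∧ ∀ A₀ : Subgroup G, A₀ ≤ A → A₀ ≠ ⊥ → A₀ ≠ A → Nat.card ↥A₀ * Nat.card ↥(V ⊓ Subgroup.centralizer ((A₀ : Subgroup G) : Set G)) < Nat.card ↥A * Nat.card ↥(V ⊓ Subgroup.centralizer ((A : Subgroup G) : Set G))) (hii : ⁅(V ⊓ Subgroup.centralizer ((((T : Subgroup ↥P).map P.subtype) : Subgroup G) : Set G)), P⁆ ≠ ⊥) (hiii : ∀ x : ↥P, x ∉ M → A ⊔ A.map (MulAut.conj (x : G)).toMonoidHom = P) : ∃ (F : Type) (_ : Field F) (_ : Fintype F), Fintype.card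 F = Nat.card ↥A ∧ Nonempty (↥P ≃* Matrix.SpecialLinearGroup (Fin 2) F) ∧ (V ⊓ Subgroup.centralizer ((A : Subgroup G) : Set G)) = ⁅V, A⁆ ⊔ (V ⊓ Subgroup.centralizer ((P : Subgroup G) : Set G)) ∧ Cfsg.ActsAsSL2OnSection F ⊤ P V (V ⊓ Subgroup.centralizer ((P : Subgroup G) : Set G)) := by
  classical
  have hVc : ∀ a b : ↥V, a * b = b * a := fun a b => hV.1.is_comm.comm a b
  letI : CommGroup ↥V := { (inferInstance : Group ↥V) with mul_comm := hVc }
  have hnorm : ∀ (g : ↥P) (v : ↥V), (g : G) * v * (g : G)⁻¹ ∈ V := fun g v =>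
    (Subgroup.mem_normalizer_iff.mp (hPV g.2) v).mp v.2
  let cj : ↥P → ↥V → ↥V := fun g v => ⟨(g : G) * v * (g : G)⁻¹, hnorm g v⟩
  letI : DistribMulAction ↥P (Additive ↥V) :=
    { smul := fun g v => Additive.ofMul (cj g (Additive.toMul v))
      one_smul := fun v => Additive.toMul.injective (Subtype.ext (show ((1 : ↥P) : G) * _ * ((1 : ↥P) : G)⁻¹ = _ by simp))
      mul_smul := fun g k v => Additive.toMul.injective (Subtype.ext (show ((g * k : ↥P) : G) * _ * ((g * k : ↥P) : G)⁻¹ =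
        (g : G) * ((k : G) * _ * (k : G)⁻¹) * (g : G)⁻¹ by simp [mul_assoc]))
      smul_zero := fun g => Additive.toMul.injective (Subtype.ext (show (g : G) * 1 * (g : G)⁻¹ = 1 by simp))
      smul_add := fun g u v => Additive.toMul.injective (Subtype.ext (show
        (g : G) * (((Additive.toMul u : ↥V) : G) * ((Additive.toMul v : ↥V) : G)) * (g : G)⁻¹ =
          ((g : G) * ((Additive.toMul u : ↥V) : G) * (g : G)⁻¹) *
            ((g : G) * ((Additive.toMul v : ↥V) : G) * (g : G)⁻¹) by group)) }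
  have hsm : ∀ (g : ↥P) (v : Additive ↥V), ((Additive.toMul (g • v) : ↥V) : G) =
      g * (Additive.toMul v : ↥V) * (g : G)⁻¹ := fun g v => rfl
  have hfix : ∀ (S : Subgroup ↥P) (v : Additive ↥V), v ∈ fixW (Additive ↥V) S ↔
      ((Additive.toMul v : ↥V) : G) ∈ Subgroup.centralizer ((S.map P.subtype : Subgroup G) : Set G) := by
    intro S v
    rw [Subgroup.mem_centralizer_iff]
    constructor
    · rintro hv _ ⟨g, hg, rfl⟩
      have h1 : ((Additive.toMul (g • v) : ↥V) : G) = ((Additive.toMul v : ↥V) : G) :=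
        congrArg (fun u : Additive ↥V => ((Additive.toMul u : ↥V) : G)) (hv g hg)
      rw [hsm] at h1
      show (g : G) * _ = _ * (g : G)
      conv_rhs => rw [← h1]
      group
    · intro hv g hg
      apply Additive.toMul.injective
      refine Subtype.ext ?_
      rw [hsm, hv (g : G) ⟨g, hg, rfl⟩, mul_inv_cancel_right]
  have hAP : A ≤ P := hAT.trans (Subgroup.map_subtype_le _)
  set A' : Subgroup ↥P := A.subgroupOf P with hA'
  have hA'map : A'.map P.subtype = A := Subgroup.map_subgroupOf_eq_of_le hAP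
  -- cardinalities of fixed points
  have hcardfix : ∀ S : Subgroup ↥P, Nat.card (fixW (Additive ↥V) S) =
      Nat.card ↥(V ⊓ Subgroup.centralizer ((S.map P.subtype : Subgroup G) : Set G)) := fun S =>
    Nat.card_eq_of_bijective
      (fun v => ⟨((Additive.toMul (v : Additive ↥V) : ↥V) : G),
        (Additive.toMul (v : Additive ↥V)).2, (hfix S _).mp v.2⟩)
      ⟨fun u v huv => Subtype.ext (Additive.toMul.injective (Subtype.ext (congrArg Subtype.val huv : _))),
        fun w => ⟨⟨Additive.ofMul (⟨w.1, w.2.1⟩ : ↥V), (hfix S _).mpr w.2.2⟩, rfl⟩⟩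
  have hcardA : Nat.card A' = Nat.card A := Nat.card_congr (Subgroup.subgroupOfEquivOfLe hAP).toEquiv
  have hTop : ((⊤ : Subgroup ↥P).map P.subtype) = P := by
    rw [← MonoidHom.range_eq_map, Subgroup.range_subtype]
  have hH : Hyp (W := Additive ↥V) p T M A' := by
    refine ⟨fun g hg => ?_, fun w => ?_, hM.1, hTM, fun L hTL hL => ?_, ?_, ?_, ?_, fun x hx => ?_, ?_, ?_, ?_⟩
    · refine Subtype.ext (Subgroup.mem_bot.mp (hfaith ▸ ?_))
      refine ⟨g.2, Subgroup.mem_centralizer_iff.mpr fun v hv => ?_⟩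
      have := congrArg (fun u : Additive ↥V => ((Additive.toMul u : ↥V) : G)) (hg (Additive.ofMul (⟨v, hv⟩ : ↥V)))
      change ((Additive.toMul (g • Additive.ofMul (⟨v, hv⟩ : ↥V)) : ↥V) : G) = v at this
      rw [hsm] at this
      change (g : G) * v * (g : G)⁻¹ = v at this
      conv_lhs => rw [← this]
      group
    · exact Additive.toMul.injective (Subtype.ext (hV.2 _ (Additive.toMul w).2))
    · obtain ⟨K, hK, hLK⟩ : ∃ K, IsCoatom K ∧ L ≤ K :=
        ((IsCoatomic.eq_top_or_exists_le_coatom L).resolve_left hL)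
      obtain ⟨M0, -, huni⟩ := (hmin T).2
      rw [huni M ⟨hM, hTM⟩, ← huni K ⟨hK, hTL.trans hLK⟩]
      exact hLK
    · intro a ha
      obtain ⟨t, ht, hta⟩ := hAT (Subgroup.mem_subgroupOf.mp ha)
      rwa [Subtype.ext hta] at ht
    · intro a ha b hb
      have h1 : (⟨(a : G), ha⟩ : ↥A) * ⟨(b : G), hb⟩ = ⟨(b : G), hb⟩ * ⟨(a : G), ha⟩ :=
        hAel.1.is_comm.comm _ _
      exact Subtype.ext (congrArg (fun y : ↥A => (y : G)) h1)
    · intro a ha
      exact Subtype.ext (by rw [SubmonoidClass.coe_pow]; exact hAel.2 _ ha)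
    · apply Subgroup.map_injective P.subtype_injective
      rw [Subgroup.map_sup, hA'map, hTop]
      conv_rhs => rw [← hiii x hx]
      congr 1
      show (A'.map (MulAut.conj x).toMonoidHom).map P.subtype = _
      rw [Subgroup.map_map]
      conv_rhs => rw [← hA'map, Subgroup.map_map]
      congr 1
    · rw [hcardA, hcardfix, hA'map, Nat.card_congr Additive.toMul]
      exact hi.1
    · intro A₀ hle hne hne'
      rw [hcardA, hcardfix, hcardfix, hA'map, ← Subgroup.card_map_of_injective (f := P.subtype) P.subtype_injective (K := A₀)]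
      refine hi.2 _ (hA'map ▸ Subgroup.map_mono hle) (fun h0 => hne ?_) (fun h0 => hne' ?_)
      · exact (Subgroup.map_eq_bot_iff_of_injective _ P.subtype_injective).mp h0
      · exact Subgroup.map_injective P.subtype_injective (h0.trans hA'map.symm)
    · by_contra hno
      push Not at hno
      refine hii (Subgroup.commutator_eq_bot_iff_le_centralizer.mpr fun c hc => ?_)
      have h1 := hno (Additive.ofMul (⟨c, hc.1⟩ : ↥V)) ((hfix _ _).mpr hc.2)
      have h2 := (hfix _ _).mp h1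
      rwa [hTop] at h2
  obtain ⟨hC, F, hF, hFin, hcardF, ρ, ψ, hρ, hψs, hψk, hψe⟩ := structure_thm hH
  refine ⟨F, hF, hFin, hcardF.trans hcardA, ⟨MulEquiv.ofBijective ρ hρ⟩, ?_, hPV, inf_le_left, ρ,
    AddMonoidHom.toMultiplicativeRight ψ, MonoidHom.range_eq_top.mpr hρ.2, ?_, fun u => ?_, fun g u => ?_⟩
  · refine le_antisymm (fun c hc => ?_) (sup_le ?_ ?_)
    · have h1 : Additive.ofMul (⟨c, hc.1⟩ : ↥V) ∈ fixW (Additive ↥V) A' :=
        (hfix _ _).mpr (by rw [hA'map]; exact hc.2)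
      rw [hC, AddSubgroup.mem_sup] at h1
      obtain ⟨u, hu, z, hz, huz⟩ := h1
      have hu' : ((Additive.toMul u : ↥V) : G) ∈ ⁅V, A⁆ := by
        refine AddSubgroup.closure_induction (p := fun u _ => ((Additive.toMul u : ↥V) : G) ∈ ⁅V, A⁆) ?_
          (one_mem _) (fun a b _ _ ha hb => (⁅V, A⁆).mul_mem ha hb) (fun a _ ha => (⁅V, A⁆).inv_mem ha) hu
        rintro _ ⟨a, ha, w, rfl⟩
        have e : ((Additive.toMul (a • w - w) : ↥V) : G) =
            ⁅(a : G), ((Additive.toMul w : ↥V) : G)⁆ := by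
          rw [commutatorElement_def, toMul_sub, div_eq_mul_inv, Subgroup.coe_mul, Subgroup.coe_inv, hsm]
        rw [e, Subgroup.commutator_comm]
        exact Subgroup.commutator_mem_commutator ha (Additive.toMul w).2
      have hz' : ((Additive.toMul z : ↥V) : G) ∈ V ⊓ Subgroup.centralizer (P : Set G) := by
        refine ⟨(Additive.toMul z).2, ?_⟩
        have := (hfix _ _).mp hz
        rwa [hTop] at this
      have : c = ((Additive.toMul u : ↥V) : G) * ((Additive.toMul z : ↥V) : G) := by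
        have := congrArg (fun u : Additive ↥V => ((Additive.toMul u : ↥V) : G)) huz
        simpa using this.symm
      rw [this]
      exact Subgroup.mul_mem_sup hu' hz'
    · rw [Subgroup.commutator_le]
      intro v hv a ha
      have h1 := hH.quad (a := (⟨a, hAP ha⟩ : ↥P)) ha (Additive.ofMul (⟨v, hv⟩ : ↥V))
      have h2 := (hfix _ _).mp h1
      rw [hA'map] at h2
      have e : ((Additive.toMul ((⟨a, hAP ha⟩ : ↥P) • Additive.ofMul (⟨v, hv⟩ : ↥V) -
          Additive.ofMul (⟨v, hv⟩ : ↥V)) : ↥V) : G) = ⁅v, a⁆⁻¹ := by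
        rw [toMul_sub, div_eq_mul_inv, Subgroup.coe_mul, Subgroup.coe_inv, hsm, commutatorElement_def]
        show a * v * a⁻¹ * v⁻¹ = _
        group
      rw [e] at h2
      refine ⟨?_, by simpa using (Subgroup.centralizer (A : Set G)).inv_mem h2⟩
      rw [commutatorElement_def, show v * a * v⁻¹ * a⁻¹ = v * (a * v⁻¹ * a⁻¹) by group]
      exact V.mul_mem hv (hnorm ⟨a, hAP ha⟩ (⟨v, hv⟩⁻¹ : ↥V))
    · exact le_inf inf_le_left (inf_le_right.trans (Subgroup.centralizer_le hAP))
  · intro f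
    obtain ⟨w, hw⟩ := hψs (Multiplicative.toAdd f)
    exact ⟨Additive.toMul w, congrArg Multiplicative.ofAdd hw⟩
  · show Multiplicative.ofAdd (ψ (Additive.ofMul u)) = 1 ↔ _
    rw [ofAdd_eq_one, hψk, hfix, hTop]
    exact ⟨fun h => ⟨u.2, h⟩, fun h => h.2⟩
  · exact ⟨cj g u, rfl, hψe g (Additive.ofMul u)⟩
end Cfsg.Agent.S2999
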