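import Cfsg.Statements.S3003
import Cfsg.Agent.Lib.CoprimeExtra

set_option autoImplicit false
open Cfsg

namespace Cfsg.Agent.S3003

open Subgroup

/-- Let G be a finite group, p a prime and Q a large p-subgroup of G: C_G(Q) ≤ Q and N_G(U) ≤ N_G(Q) for every nontrivial subgroup U of C_G(Q). Let Q ≤ G₁ ≤ G, let R be a subgroup of order prime to p normalized by G₁, and let U ≤ G₁ be a p-subgroup. If U contains a nontrivial element which is G₁-conjugate to an element of Z(Q), then C_R(U) = 1. In particular, if U is elementary abelian of order at least p² and every maximal subgroup of U contains a nontrivial element G₁-conjugate into Z(Q), then R = 1. -/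
theorem result {G : Type*} [Group G] [Finite G] {p : ℕ} [Fact p.Prime] (Q : Subgroup G) (hQp : IsPGroup p ↥Q) (hlarge : Cfsg.IsLarge Q) (G₁ : Subgroup G) (hQG : Q ≤ G₁) (R : Subgroup G) (hR : (Nat.card ↥R).Coprime p) (hGR : G₁ ≤ Subgroup.normalizer (R : Set G)) (U : Subgroup G) (hUG : U ≤ G₁) (hUp : IsPGroup p ↥U) : ((∃ x ∈ U, x ≠ 1 ∧ ∃ g ∈ G₁, g * x * g⁻¹ ∈ Q ⊓ Subgroup.centralizer (Q : Set G)) → R ⊓ Subgroup.centralizer (U : Set G) = ⊥) ∧ (Cfsg.IsElementaryAbelian p U → p ^ 2 ≤ Nat.card ↥U → (∀ U₀ : Subgroup G, U₀ ≤ U → IsCoatom (U₀.subgroupOf U) → ∃ x ∈ U₀, x ≠ 1 ∧ ∃ g ∈ G₁, g * x * g⁻¹ ∈ Q ⊓ Subgroup.centralizer (Q : Set G)) → R = ⊥) := by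
  have hinf : R ⊓ Q = ⊥ := by
    obtain ⟨e, he⟩ := hQp.exists_card_eq
    refine Subgroup.inf_eq_bot_of_coprime ?_
    rw [he]; exact hR.pow_right e
  have part1 : ∀ x : G, x ≠ 1 → (∃ g ∈ G₁, g * x * g⁻¹ ∈ Q ⊓ Subgroup.centralizer (Q : Set G)) →
      R ⊓ Subgroup.centralizer ({x} : Set G) = ⊥ := by
    rintro x hx ⟨g, hg, hz⟩
    rw [eq_bot_iff]
    rintro y ⟨hy, hyx⟩
    set z := g * x * g⁻¹ with hzdef
    set w := g * y * g⁻¹ with hw
    have hwR : w ∈ R := (Subgroup.mem_normalizer_iff.1 (hGR hg) y).1 hy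
    have hwz : Commute w z :=
      (show Commute y x from (Subgroup.mem_centralizer_iff.1 hyx x rfl).symm).map (MulAut.conj g)
    have hz1 : z ≠ 1 := by simp [hzdef, hx]
    have hwn : w ∈ Subgroup.normalizer (Q : Set G) := by
      refine hlarge.2 (Subgroup.zpowers z) (Subgroup.zpowers_le.2 hz.2) (by simpa using hz1) ?_
      rw [Subgroup.mem_normalizer_iff]
      intro t
      have hfix : ∀ k : ℤ, w * z ^ k * w⁻¹ = z ^ k := fun k => by
        rw [(hwz.zpow_right k).eq, mul_inv_cancel_right]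
      constructor
      · intro ht
        obtain ⟨k, rfl⟩ := Subgroup.mem_zpowers_iff.1 ht
        rw [hfix k]; exact ht
      · intro ht
        obtain ⟨k, hk⟩ := Subgroup.mem_zpowers_iff.1 ht
        have : t = z ^ k := by
          have h1 : w * t * w⁻¹ = w * z ^ k * w⁻¹ := by rw [hfix k, hk]
          simpa using h1
        exact this ▸ ⟨k, rfl⟩
    have hwQ : w ∈ Q := by
      refine hlarge.1 fun q hq => ?_
      have h1 : w * q * w⁻¹ * q⁻¹ ∈ Q :=
        mul_mem ((Subgroup.mem_normalizer_iff.1 hwn q).1 hq) (inv_mem hq)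
      have h2 : w * q * w⁻¹ * q⁻¹ ∈ R := by
        have := mul_mem hwR ((Subgroup.mem_normalizer_iff.1 (hGR (hQG hq)) w⁻¹).1 (inv_mem hwR))
        simpa [mul_assoc] using this
      have h3 : w * q * w⁻¹ * q⁻¹ ∈ R ⊓ Q := ⟨h2, h1⟩
      rw [hinf, Subgroup.mem_bot, mul_inv_eq_one, mul_inv_eq_iff_eq_mul] at h3
      exact h3.symm
    have h4 : w ∈ R ⊓ Q := ⟨hwR, hwQ⟩
    rw [hinf, Subgroup.mem_bot] at h4
    simpa [hw] using h4
  refine ⟨?_, fun hel hcard hmax => ?_⟩
  · rintro ⟨x, hxU, hx, hg⟩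
    rw [eq_bot_iff, ← part1 x hx hg]
    exact inf_le_inf_left _ (Subgroup.centralizer_le (by simpa using hxU))
  · have hab : IsMulCommutative ↥U := hel.1
    rw [eq_bot_iff]
    obtain ⟨u, hu⟩ := hUp.exists_card_eq
    refine CoprimeExtra.le_of_cyclic_quotient_centralizers (A := U) (hUG.trans hGR)
      (by rw [hu]; exact (hR.pow_right u).symm) fun B hB hcyc => ?_
    have hidx : (B.subgroupOf U).index ∣ p := by
      obtain ⟨a, ha⟩ := hcyc.exists_ofOrder_eq_natCard
      show Nat.card (↥U ⧸ B.subgroupOf U) ∣ p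
      rw [← ha]
      apply orderOf_dvd_of_pow_eq_one
      obtain ⟨v, rfl⟩ := QuotientGroup.mk_surjective a
      rw [← QuotientGroup.mk_pow,
        show v ^ p = 1 from Subtype.ext (hel.2 v v.2), QuotientGroup.mk_one]
    have hmain : ∀ U₀ : Subgroup G, U₀ ≤ U → IsCoatom (U₀.subgroupOf U) →
        R ⊓ Subgroup.centralizer (U₀ : Set G) ≤ ⊥ := by
      intro U₀ h0 hc
      obtain ⟨x, hx, hx1, hg⟩ := hmax U₀ h0 hc
      rw [← part1 x hx1 hg]
      exact inf_le_inf_left _ (Subgroup.centralizer_le (by simpa using hx))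
    rcases (Nat.dvd_prime (Fact.out : p.Prime)).1 hidx with h1 | h1
    · obtain rfl : B = U := le_antisymm hB (Subgroup.relIndex_eq_one.1 h1)
      rcases eq_top_or_exists_le_coatom (⊥ : Subgroup ↥B) with h | ⟨C, hC, -⟩
      · exfalso
        have h2 : Nat.card ↥B = 1 := by
          rw [← Subgroup.card_top (G := ↥B), ← h, Subgroup.card_bot]
        rw [h2] at hcard
        exact absurd hcard (not_le.2 (Nat.one_lt_pow two_ne_zero (Fact.out : p.Prime).one_lt))
      · have hle : C.map B.subtype ≤ B := Subgroup.map_subtype_le C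
        refine le_trans (inf_le_inf_left _ (Subgroup.centralizer_le hle)) (hmain _ hle ?_)
        rwa [Subgroup.subgroupOf, Subgroup.comap_map_eq_self_of_injective B.subtype_injective]
    · refine hmain B hB ⟨fun htop => ?_, fun X hX => ?_⟩
      · rw [htop, Subgroup.index_top] at h1
        exact (Fact.out : p.Prime).ne_one h1.symm
      · have h3 := Subgroup.relIndex_mul_index hX.le
        rw [h1] at h3
        rcases (Fact.out : p.Prime).eq_one_or_self_of_dvd _ (Dvd.intro_left _ h3) with h | h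
        · exact Subgroup.index_eq_one.1 h
        · exfalso
          rw [h] at h3
          exact hX.not_ge (Subgroup.relIndex_eq_one.1 (mul_eq_right₀ (Fact.out : p.Prime).ne_zero |>.1 h3))

end Cfsg.Agent.S3003
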