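import Cfsg.Statements.S3008
import Cfsg.Agent.Lib.CentrallyLarge

set_option autoImplicit false
open Cfsg

namespace Cfsg.Agent.S3008

open Subgroup Cfsg.Agent.ChermakDelgado Cfsg.Agent.CentrallyLarge

/-- Let P be a finite p-group, with J(P) generated by its abelian subgroups of largest order and J̃(P) = C_P(Z(J(P))); call R ≤ P centrally large if |R|·|Z(R)| is as large as possible, and let P_MCL be generated by the minimal centrally large subgroups. Then: for every centrally large Q, Q·J(P) ⊇ J̃(P); some minimal centrally large subgroup of P is normalized by both J(P) and P_MCL; if P = J(P) and d(P)² = |P|·|Z(P)|, where d(P) is the largest order of an abelian subgroup, then every minimal centrally large subgroup of P is abelian; and if every minimal centrally large subgroup is abelian then J̃(P) = J(P). -/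
theorem result {p : ℕ} [Fact p.Prime] (P : Type*) [Group P] [Finite P] (hP : IsPGroup p P) : (∀ Q : Subgroup P, Cfsg.IsCentrallyLarge Q → Subgroup.centralizer ((Cfsg.thompsonSubgroupA P ⊓ Subgroup.centralizer (Cfsg.thompsonSubgroupA P : Set P) : Subgroup P) : Set P) ≤ Q ⊔ Cfsg.thompsonSubgroupA P) ∧ (∃ Q : Subgroup P, Cfsg.IsMinimalCentrallyLarge Q ∧ Cfsg.thompsonSubgroupA P ≤ Subgroup.normalizer (Q : Set P) ∧ Cfsg.minimalCentrallyLargeJoin P ≤ Subgroup.normalizer (Q : Set P)) ∧ (Cfsg.thompsonSubgroupA P = ⊤ → (∀ A ∈ Cfsg.maxAbelianSubgroups P, Nat.card ↥A ^ 2 = Nat.card P * Nat.card ↥(Subgroup.center P)) → ∀ Q : Subgroup P, Cfsg.IsMinimalCentrallyLarge Q → IsMulCommutative ↥Q) ∧ ((∀ Q : Subgroup P, Cfsg.IsMinimalCentrallyLarge Q → IsMulCommutative ↥Q) → Subgroup.centralizer ((Cfsg.thompsonSubgroupA P ⊓ Subgroup.centralizer (Cfsg.thompsonSubgroupA P : Set P) : Subgroup P) : Set P) = Cfsg.thompsonSubgroupA P) := by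
  have : Group.IsNilpotent P := hP.isNilpotent
  obtain ⟨Q₀, hQ₀, hJ₀, hM₀⟩ := exists_normalized (G := P)
  refine ⟨fun Q hQ => thompsonSubgroupA_le_sup hQ, ⟨Q₀, hQ₀, hJ₀, hM₀⟩, fun hJ hsq Q hQ => ?_, fun hall => ?_⟩
  · obtain ⟨A, hA⟩ := exists_maxAbelian P
    have htop : Cfsg.centrallyLargeJoin P = ⊤ := by
      rw [eq_top_iff, ← hJ]
      exact sSup_le fun B hB => le_sup_right.trans (le_sSup (sup_maxAbelian hQ.1 hB).1)
    have hmax : Nat.card P * Nat.card ↥(Subgroup.center P) = Cfsg.maxCentralizerProduct P := by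
      have h := (centrallyLarge_iff.1 (htop ▸ centrallyLargeJoin_cl P)).1
      have e : Subgroup.centralizer ((⊤ : Subgroup P) : Set P) = Subgroup.center P := by
        rw [Subgroup.coe_top, Subgroup.centralizer_univ]
      have h' : cdm (⊤ : Subgroup P) = Cfsg.maxCentralizerProduct P := h
      unfold cdm at h'
      rwa [e, Subgroup.card_top] at h'
    have hAcl : Cfsg.IsCentrallyLarge A := by
      refine centrallyLarge_iff.2 ⟨large_iff.2 ?_, (centralizer_maxAbelian hA).le⟩
      rw [← hmax, ← hsq A hA, pow_two]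
      unfold cdm
      rw [centralizer_maxAbelian hA]
    obtain ⟨Q₁, hle, hQ₁⟩ := exists_minimalCentrallyLarge_le hAcl
    have hab : IsMulCommutative ↥Q₁ := isMulCommutative_of_le_centralizer fun u hu v hv =>
      comm_of_isMulCommutative hA.1 (hle hv) (hle hu)
    exact ((minimal_iff_maxAbelian hQ₁ hab Q).1 hQ).1
  · have heq : Cfsg.minimalCentrallyLargeJoin P = Cfsg.thompsonSubgroupA P := by
      unfold Cfsg.minimalCentrallyLargeJoin Cfsg.thompsonSubgroupA
      congr 1
      ext X
      exact minimal_iff_maxAbelian hQ₀ (hall Q₀ hQ₀) X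
    obtain ⟨hl, hc⟩ := centrallyLarge_iff.1 (heq ▸ minimalCentrallyLargeJoin_cl P)
    rw [inf_eq_right.2 hc, centralizer_centralizer_eq hl]

end Cfsg.Agent.S3008
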