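import Cfsg.Statements.S3009
import Cfsg.Agent.Lib.SL2QuadraticModule
import Cfsg.Agent.Lib.Offenders
import Cfsg.Agent.Lib.LocalBasics

set_option autoImplicit false
open Cfsg

namespace Cfsg.Agent.S3009

open scoped commutatorElement

/-- Let p be a prime and let G and V be subgroups of a finite group with V elementary abelian and normalized by G, and G isomorphic to SL₂(F) for a finite field F with pⁿ elements. Suppose G acts irreducibly and nontrivially on V by conjugation (no G-invariant subgroups of V other than 1 and V, and [V, G] ≠ 1), and let S be a Sylow p-subgroup of G and V₀ = C_V(S). If [V, S, S] = 1 or |V| ≤ |V₀|², then G acts on V as SL₂(F) on its natural two-dimensional module; in particular |V| = |F|². -/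
theorem result {X : Type*} [Group X] [Finite X] {p : ℕ} [Fact p.Prime] (G V : Subgroup X) (hV : Cfsg.IsElementaryAbelian p V) (hGV : G ≤ Subgroup.normalizer (V : Set X)) (F : Type) [Field F] [Fintype F] (n : ℕ) (hF : Fintype.card F = p ^ n) (hG : Nonempty (↥G ≃* Matrix.SpecialLinearGroup (Fin 2) F)) (hirr : ∀ U : Subgroup X, U ≤ V → G ≤ Subgroup.normalizer (U : Set X) → U = ⊥ ∨ U = V) (hnt : ⁅V, G⁆ ≠ ⊥) (S : Sylow p ↥G) (hyp : ⁅⁅V, (S : Subgroup ↥G).map G.subtype⁆, (S : Subgroup ↥G).map G.subtype⁆ = ⊥ ∨ Nat.card ↥V ≤ Nat.card ↥(V ⊓ Subgroup.centralizer (((S : Subgroup ↥G).map G.subtype : Subgroup X) : Set X)) ^ 2) : Cfsg.ActsAsSL2OnSection F ⊤ G V ⊥ := by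
  classical
  obtain ⟨φ0⟩ := hG
  have hVcomm : ∀ a ∈ V, ∀ b ∈ V, a * b = b * a := ((Offenders.ea_iff _).1 hV).1
  letI : CommGroup ↥V := { (inferInstance : Group ↥V) with
    mul_comm := fun a b => Subtype.ext (hVcomm a a.2 b b.2) }
  -- move the upper root group into `S`
  let uHom : Multiplicative F →* ↥G :=
    { toFun := fun t => φ0.symm (ChevalleySL2.upper t.toAdd)
      map_one' := by
        show φ0.symm (ChevalleySL2.upper (0 : F)) = 1
        rw [SL2QuadraticModule.upper_zero, map_one]
      map_mul' := fun a b => by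
        show φ0.symm (ChevalleySL2.upper (a.toAdd + b.toAdd)) = _
        rw [← SL2QuadraticModule.upper_add, map_mul] }
  have hU : IsPGroup p ↥uHom.range := by
    have h : IsPGroup p (Multiplicative F) :=
      IsPGroup.of_card (n := n) (by rw [Nat.card_eq_fintype_card, Fintype.card_multiplicative, hF])
    exact h.of_surjective uHom.rangeRestrict uHom.rangeRestrict_surjective
  obtain ⟨S', hS'⟩ := hU.exists_le_sylow
  obtain ⟨g0, hg0⟩ := MulAction.exists_smul_eq ↥G S' S
  let φ : Matrix.SpecialLinearGroup (Fin 2) F ≃* ↥G := φ0.symm.trans (MulAut.conj g0)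
  have hφU : ∀ t : F, φ (ChevalleySL2.upper t) ∈ (S : Subgroup ↥G) := by
    intro t
    rw [← hg0]
    exact Subgroup.smul_mem_pointwise_smul _ (MulAut.conj g0) (S' : Subgroup ↥G)
      (hS' ⟨Multiplicative.ofAdd t, rfl⟩)
  -- the action
  have hmem : ∀ (g : ↥G) (v : ↥V), (g : X) * v * (g : X)⁻¹ ∈ V := fun g v =>
    LocalBasics.conj_mem_of_le_normalizer hGV g.2 v.2
  let π : Matrix.SpecialLinearGroup (Fin 2) F →* AddMonoid.End (Additive ↥V) :=
    { toFun := fun a =>
        { toFun := fun v => Additive.ofMul ⟨_, hmem (φ a) v.toMul⟩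
          map_zero' := by
            apply Additive.toMul.injective
            apply Subtype.ext
            show (φ a : X) * ((1 : ↥V) : X) * (φ a : X)⁻¹ = ((1 : ↥V) : X)
            simp
          map_add' := fun v w => by
            apply Additive.toMul.injective
            apply Subtype.ext
            show (φ a : X) * ((v.toMul : X) * (w.toMul : X)) * (φ a : X)⁻¹ =
              ((φ a : X) * v.toMul * (φ a : X)⁻¹) * ((φ a : X) * w.toMul * (φ a : X)⁻¹)
            group }
      map_one' := by
        refine DFunLike.ext _ _ fun v => Additive.toMul.injective (Subtype.ext ?_)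
        show (φ 1 : X) * v.toMul * (φ 1 : X)⁻¹ = v.toMul
        simp
      map_mul' := fun a b => by
        refine DFunLike.ext _ _ fun v => Additive.toMul.injective (Subtype.ext ?_)
        show (φ (a * b) : X) * v.toMul * (φ (a * b) : X)⁻¹ =
          (φ a : X) * ((φ b : X) * v.toMul * (φ b : X)⁻¹) * (φ a : X)⁻¹
        rw [map_mul, Subgroup.coe_mul]
        group }
  have hπ : ∀ a (v : Additive ↥V), ((π a v).toMul : X) = (φ a : X) * v.toMul * (φ a : X)⁻¹ :=
    fun a v => rfl
  have hfix : ∀ a (v : Additive ↥V), π a v = v ↔ (φ a : X) * v.toMul = v.toMul * (φ a : X) := by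
    intro a v
    rw [← mul_inv_eq_iff_eq_mul, ← hπ, ← Additive.toMul.injective.eq_iff, Subtype.ext_iff]
  have hexp : ∀ v : Additive ↥V, p • v = 0 := fun v =>
    Additive.toMul.injective (Subtype.ext (by
      show ((v.toMul ^ p : ↥V) : X) = 1
      rw [Subgroup.coe_pow]
      exact ((Offenders.ea_iff _).1 hV).2 _ v.toMul.2))
  have hirr' : ∀ W : AddSubgroup (Additive ↥V), (∀ a, ∀ v ∈ W, π a v ∈ W) → W = ⊥ ∨ W = ⊤ := by
    intro W hW
    have hWn : G ≤ Subgroup.normalizer (((AddSubgroup.toSubgroup' W).map V.subtype : Subgroup X) : Set X) := by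
      refine LocalBasics.le_normalizer_of_conj fun g hg u hu => ?_
      obtain ⟨v, hv, rfl⟩ := hu
      refine ⟨(π (φ.symm ⟨g, hg⟩) (Additive.ofMul v)).toMul, hW _ _ hv, ?_⟩
      show ((π (φ.symm ⟨g, hg⟩) (Additive.ofMul v)).toMul : X) = _
      rw [hπ, MulEquiv.apply_symm_apply]
      rfl
    rcases hirr _ (Subgroup.map_subtype_le _) hWn with h | h
    · left
      rw [Subgroup.map_eq_bot_iff_of_injective _ V.subtype_injective] at h
      exact AddSubgroup.toSubgroup'.injective (h.trans (map_bot AddSubgroup.toSubgroup').symm)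
    · right
      rw [eq_top_iff]
      intro v _
      have : (v.toMul : X) ∈ (AddSubgroup.toSubgroup' W).map V.subtype := by rw [h]; exact v.toMul.2
      obtain ⟨w, hw, he⟩ := this
      have hwv : w = v.toMul := V.subtype_injective he
      subst hwv
      exact hw
  have hnt' : ∃ a v, π a v ≠ v := by
    by_contra h
    push_neg at h
    apply hnt
    rw [Subgroup.commutator_eq_bot_iff_le_centralizer]
    intro v hv g hg
    have := (hfix (φ.symm ⟨g, hg⟩) (Additive.ofMul ⟨v, hv⟩)).1 (h _ _)
    rwa [MulEquiv.apply_symm_apply] at this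
  have hyp' : (∀ (v : Additive ↥V) (s t : F),
      π (ChevalleySL2.upper s) (π (ChevalleySL2.upper t) v - v) = π (ChevalleySL2.upper t) v - v) ∨
      Nat.card (Additive ↥V) ≤ Nat.card (SL2QuadraticModule.fixU π) ^ 2 := by
    refine hyp.imp (fun hq v s t => (hfix _ _).2 ?_) (fun hc => ?_)
    · have hs : (φ (ChevalleySL2.upper s) : X) ∈ (S : Subgroup ↥G).map G.subtype :=
        ⟨_, hφU s, rfl⟩
      have ht : (φ (ChevalleySL2.upper t) : X) ∈ (S : Subgroup ↥G).map G.subtype :=
        ⟨_, hφU t, rfl⟩
      rw [Subgroup.commutator_eq_bot_iff_le_centralizer] at hq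
      have hx := hq (inv_mem (Subgroup.commutator_mem_commutator v.toMul.2 ht)) _ hs
      have e : (((π (ChevalleySL2.upper t) v - v).toMul : ↥V) : X) =
          (⁅(v.toMul : X), (φ (ChevalleySL2.upper t) : X)⁆)⁻¹ := by
        rw [toMul_sub, div_eq_mul_inv, Subgroup.coe_mul, Subgroup.coe_inv, hπ, commutatorElement_def]
        group
      rw [e]
      exact hx
    · calc Nat.card (Additive ↥V) = Nat.card ↥V := Nat.card_congr Additive.toMul
        _ ≤ _ := hc
        _ ≤ _ := Nat.pow_le_pow_left (Nat.card_le_card_of_injective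
          (fun x => (⟨Additive.ofMul ⟨x.1, (Subgroup.mem_inf.1 x.2).1⟩, fun t => (hfix _ _).2 ((Subgroup.mem_centralizer_iff.1 (Subgroup.mem_inf.1 x.2).2) _ (Subgroup.mem_map_of_mem G.subtype (hφU t)))⟩ :
            SL2QuadraticModule.fixU π))
          (fun x y hxy => Subtype.ext (congrArg (fun z : SL2QuadraticModule.fixU π =>
            (((z : Additive ↥V).toMul : ↥V) : X)) hxy))) 2
  obtain ⟨Φ, hbij, hadd, heq⟩ := SL2QuadraticModule.natural π ⟨n, hF⟩ hexp hirr' hnt' hyp'
  let e : (Fin 2 → F) ≃+ Additive ↥V := AddEquiv.ofBijective (AddMonoidHom.mk' Φ hadd) hbij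
  let ψ : ↥V →* Multiplicative (Fin 2 → F) :=
    { toFun := fun v => Multiplicative.ofAdd (e.symm (Additive.ofMul v))
      map_one' := by rw [ofMul_one, map_zero, ofAdd_zero]
      map_mul' := fun a b => by rw [ofMul_mul, map_add, ofAdd_add] }
  refine ⟨hGV, bot_le, φ.symm.toMonoidHom, ψ, ?_, ?_, ?_, ?_⟩
  · exact MonoidHom.range_eq_top.2 φ.symm.surjective
  · intro y
    refine ⟨(e y.toAdd).toMul, ?_⟩
    show Multiplicative.ofAdd (e.symm (e y.toAdd)) = y
    rw [AddEquiv.symm_apply_apply, ofAdd_toAdd]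
  · intro u
    rw [Subgroup.mem_bot]
    constructor
    · intro h
      have h1 : e.symm (Additive.ofMul u) = 0 := Multiplicative.ofAdd.injective h
      rw [AddEquiv.map_eq_zero_iff] at h1
      exact congrArg Subtype.val (Additive.ofMul.injective h1)
    · intro h
      rw [show u = 1 from Subtype.ext h, map_one]
  · intro g u
    refine ⟨(π (φ.symm g) (Additive.ofMul u)).toMul, ?_, ?_⟩
    · rw [hπ, MulEquiv.apply_symm_apply]; rfl
    · show e.symm (π (φ.symm g) (Additive.ofMul u)) = _
      rw [AddEquiv.symm_apply_eq]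
      have := heq (φ.symm g) (e.symm (Additive.ofMul u))
      rw [show Φ (e.symm (Additive.ofMul u)) = Additive.ofMul u from e.apply_symm_apply _] at this
      exact this

end Cfsg.Agent.S3009
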