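import Cfsg.Statements.S3012

set_option autoImplicit false
open Cfsg

namespace Cfsg.Agent.S3012

open Subgroup

/-- Let G be a finite group, V a nontrivial elementary abelian 2-subgroup of G satisfying the Sidki pair condition (every odd-order element inverted by an element of V commutes with a nontrivial element of V), and K a normal subgroup of G with V ∩ K = 1. Then the image of V in G/K satisfies the Sidki pair condition in G/K. -/
theorem result {G : Type*} [Group G] [Finite G] (V K : Subgroup G) [K.Normal] (hV : Cfsg.IsElementaryAbelian 2 V) (hV1 : V ≠ ⊥) (hS : Cfsg.IsSidkiPair V) (hVK : V ⊓ K = ⊥) : Cfsg.IsSidkiPair (V.map (QuotientGroup.mk' K)) := by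
  intro h v hv hodd hinv
  obtain ⟨v, hv, rfl⟩ := hv
  obtain ⟨g, rfl⟩ := QuotientGroup.mk'_surjective K h
  set c := v * (g * v * g⁻¹) with hc
  have hv2 : v * v = 1 := by simpa [pow_two] using hV.2 v hv
  have hv' : v⁻¹ = v := inv_eq_of_mul_eq_one_right hv2
  have hcinv : v * c * v⁻¹ = c⁻¹ := by
    simp [hc, hv', mul_assoc, ← mul_assoc v v, hv2]
  have hord : 0 < orderOf c := orderOf_pos c
  obtain ⟨a, m, hm, hdec⟩ := Nat.exists_eq_two_pow_mul_odd hord.ne'
  -- the odd part of c
  set u := c ^ (2 ^ a) with hu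
  have huodd : Odd (orderOf u) := by
    rw [hu, orderOf_pow_of_dvd (pow_ne_zero _ two_ne_zero) (Dvd.intro m hdec.symm), hdec,
      Nat.mul_div_cancel_left _ (pow_pos two_pos a)]
    exact hm
  have huinv : v * u * v⁻¹ = u⁻¹ := by
    rw [hu, ← conj_pow, hcinv, inv_pow]
  obtain ⟨w, hw, hw1, hwu⟩ := hS u v hv huodd huinv
  refine ⟨QuotientGroup.mk' K w, ⟨w, hw, rfl⟩, ?_, ?_⟩
  · intro h1
    have : w ∈ V ⊓ K := ⟨hw, (QuotientGroup.eq_one_iff w).1 h1⟩
    rw [hVK, Subgroup.mem_bot] at this
    exact hw1 this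
  · set q := QuotientGroup.mk' K with hq
    have hcimg : q c = ((q g)⁻¹) ^ 2 := by
      have h1 : q v * q g * q v = (q g)⁻¹ := by
        have : (q v)⁻¹ = q v := by rw [← map_inv, hv']
        rwa [this] at hinv
      rw [hc, map_mul, map_mul, map_mul, map_inv, ← mul_assoc, ← mul_assoc, h1, pow_two]
    have huimg : q u = ((q g)⁻¹) ^ (2 ^ (a + 1)) := by
      rw [hu, map_pow, hcimg, ← pow_mul, pow_succ']
    have hcop : (2 ^ (a + 1)).Coprime (orderOf (q g)) :=
      Nat.Coprime.pow_left _ hodd.coprime_two_left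
    obtain ⟨j, hj⟩ := exists_pow_eq_self_of_coprime (by rwa [orderOf_inv] : (2 ^ (a + 1)).Coprime (orderOf ((q g)⁻¹)))
    have hcomm : Commute (q w) (q u) := (show Commute w u from hwu).map q
    have h2 := hcomm.pow_right j
    rw [huimg, hj] at h2
    simpa using h2.inv_right.eq

end Cfsg.Agent.S3012
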