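import Cfsg.Statements.S3013

set_option autoImplicit false
open Cfsg

namespace Cfsg.Agent.S3013

open Subgroup

/-- Let G be a finite group and V a nontrivial elementary abelian 2-subgroup of G satisfying the Sidki pair condition. Let v ∈ V and let x be an element of odd order inverted by v, and put C = C_G(v) ∩ C_G(x), the centralizer of the dihedral subgroup generated by v and x. Then C ∩ V is nontrivial and satisfies the Sidki pair condition inside C: every odd-order element of C inverted by an element of C ∩ V commutes with a nontrivial element of C ∩ V. -/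
theorem result {G : Type*} [Group G] [Finite G] (V : Subgroup G) (hV : Cfsg.IsElementaryAbelian 2 V) (hV1 : V ≠ ⊥) (hS : Cfsg.IsSidkiPair V) (v x : G) (hv : v ∈ V) (hx : Odd (orderOf x)) (hinv : v * x * v⁻¹ = x⁻¹) (C : Subgroup G) (hC : C = Subgroup.centralizer ({v} : Set G) ⊓ Subgroup.centralizer ({x} : Set G)) : C ⊓ V ≠ ⊥ ∧ Cfsg.IsSidkiPair ((C ⊓ V).subgroupOf C) := by
  subst hC
  have hcomm : ∀ a ∈ V, ∀ b ∈ V, a * b = b * a := fun a ha b hb => by
    have := hV.1
    exact congrArg Subtype.val (mul_comm' (⟨a, ha⟩ : ↥V) ⟨b, hb⟩)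
  refine ⟨?_, ?_⟩
  · obtain ⟨w, hw, hw1, hwx⟩ := hS x v hv hx hinv
    intro h
    apply hw1
    rw [← Subgroup.mem_bot, ← h]
    refine ⟨⟨?_, ?_⟩, hw⟩
    · simp [Subgroup.mem_centralizer_iff, hcomm v hv w hw]
    · simp [Subgroup.mem_centralizer_iff, hwx]
  · rintro ⟨h, hh1, hh2⟩ ⟨u, hu1, hu2⟩ hu hodd hhinv
    have hhv : v * h = h * v := hh1 v rfl
    have hhx : x * h = h * x := hh2 x rfl
    have hux : x * u = u * x := hu2 x rfl
    have huV : u ∈ V := hu.2
    have hhi : u * h * u⁻¹ = h⁻¹ := congrArg Subtype.val hhinv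
    have hc : Commute x h := hhx
    have hoddh : Odd (orderOf h) := (Subgroup.orderOf_coe (⟨h, hh1, hh2⟩ : ↥(Subgroup.centralizer ({v} : Set G) ⊓ Subgroup.centralizer ({x} : Set G)))).symm ▸ hodd
    have hodd' : Odd (orderOf (x * h)) := by
      refine Odd.of_dvd_nat ?_ hc.orderOf_mul_dvd_lcm
      refine Odd.of_dvd_nat (hx.mul hoddh) (Nat.lcm_dvd_mul _ _)
    have hinv' : (v * u) * (x * h) * (v * u)⁻¹ = (x * h)⁻¹ := by
      have e1 : u * (x * h) * u⁻¹ = x * h⁻¹ := by
        rw [← hhi]
        simp only [← mul_assoc]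
        rw [← hux]
      calc (v * u) * (x * h) * (v * u)⁻¹ = v * (u * (x * h) * u⁻¹) * v⁻¹ := by group
        _ = (v * x * v⁻¹) * (v * h⁻¹ * v⁻¹) := by rw [e1]; group
        _ = x⁻¹ * h⁻¹ := by
            rw [hinv, (Commute.inv_right (show Commute v h from hhv)).eq, mul_inv_cancel_right]
        _ = (x * h)⁻¹ := by rw [mul_inv_rev, (hc.inv_inv).eq]
    obtain ⟨w, hw, hw1, hwxh⟩ := hS _ _ (mul_mem hv huV) hodd' hinv'
    have hwv : Commute w v := hcomm w hw v hv
    have h1 : Commute w (x * h) := hwxh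
    have h2 : Commute w (x⁻¹ * h) := by
      have : Commute w (v * (x * h) * v⁻¹) := (hwv.mul_right h1).mul_right hwv.inv_right
      have e : v * (x * h) * v⁻¹ = x⁻¹ * h := by
        rw [← conj_mul, hinv, hhv, mul_inv_cancel_right]
      rwa [e] at this
    have h3 : Commute w (h ^ 2) := by
      have : Commute w ((x * h) * (x⁻¹ * h)) := h1.mul_right h2
      have e : (x * h) * (x⁻¹ * h) = h ^ 2 := by
        rw [hc.eq, mul_assoc, mul_inv_cancel_left, pow_two]
      rwa [e] at this
    obtain ⟨j, hj⟩ := exists_pow_eq_self_of_coprime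
      (show Nat.Coprime 2 (orderOf h) from hoddh.coprime_two_left)
    have hwh : Commute w h := hj ▸ h3.pow_right j
    have hwx : Commute w x := by
      have := h1.mul_right hwh.inv_right
      rwa [mul_inv_cancel_right] at this
    refine ⟨⟨w, ?_, ?_⟩, ⟨⟨?_, ?_⟩, hw⟩, fun e => hw1 (congrArg Subtype.val e), Subtype.ext hwh.eq⟩
    all_goals first
      | (simp [Subgroup.mem_centralizer_iff, hwv.eq]; done)
      | (simp [Subgroup.mem_centralizer_iff, hwx.eq]; done)

end Cfsg.Agent.S3013
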