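import Cfsg.Statements.S3014
import Cfsg.Agent.Lib.TransferCoatom

set_option autoImplicit false
open Cfsg

namespace Cfsg.Agent.S3014

open Subgroup Cfsg.Agent.TransferCoatom

variable {G : Type*} [Group G]

theorem conj_mem_map {H : Subgroup G} {g x : G} :
    x ∈ H.map (MulAut.conj g).toMonoidHom ↔ g⁻¹ * x * g ∈ H := by
  constructor
  · rintro ⟨y, hy, rfl⟩
    simpa [MulAut.conj_apply, mul_assoc] using hy
  · intro h
    exact ⟨_, h, by simp [MulAut.conj_apply, mul_assoc]⟩

/-- Let G be a finite group and H ≤ M ≤ G subgroups such that for every g ∈ G the subgroup generated by H and g H g⁻¹ meets M exactly in H. If H is a maximal subgroup of M and M is a maximal subgroup of G, then the normal closure of H in G meets M exactly in H. -/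
theorem result {G : Type*} [Group G] [Finite G] (H M : Subgroup G) (hHM : H ≤ M) (hcl : ∀ g : G, (H ⊔ H.map (MulAut.conj g).toMonoidHom) ⊓ M = H) (hmaxH : IsCoatom (H.subgroupOf M)) (hmaxM : IsCoatom M) : Subgroup.normalClosure (H : Set G) ⊓ M = H := by
  set N := Subgroup.normalClosure (H : Set G) with hN
  have hle : H ≤ N ⊓ M := le_inf (fun x hx => Subgroup.subset_normalClosure hx) hHM
  refine le_antisymm ?_ hle
  by_contra hne
  obtain ⟨m₀, hm₀, hm₀H⟩ := SetLike.not_le_iff_exists.1 hne
  -- conjugates of elements of H lying in M lie in H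
  have key : ∀ g y : G, g⁻¹ * y * g ∈ H → y ∈ M → y ∈ H := by
    intro g y hy hyM
    exact (hcl g).le ⟨le_sup_right (a := H) (conj_mem_map.2 hy), hyM⟩
  have hnorm : M ≤ normalizer (H : Set G) := by
    intro g hg
    rw [mem_normalizer_iff]
    intro y
    constructor
    · intro hy
      refine key g _ (by simpa [mul_assoc] using hy) ?_
      exact mul_mem (mul_mem hg (hHM hy)) (inv_mem hg)
    · intro hy
      refine key g⁻¹ _ (by simpa [mul_assoc] using hy) ?_
      have := mul_mem (mul_mem (inv_mem hg) (hHM hy)) hg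
      simpa [mul_assoc] using this
  have : (H.subgroupOf M).Normal := (normal_subgroupOf_iff_le_normalizer hHM).2 hnorm
  have := isMulCommutative_quotient hHM hmaxH
  let : CommGroup (↥M ⧸ H.subgroupOf M) :=
    { (inferInstance : Group (↥M ⧸ H.subgroupOf M)) with mul_comm := mul_comm' }
  let ϕ : ↥M →* (↥M ⧸ H.subgroupOf M) := QuotientGroup.mk' _
  have hϕ : ∀ y : ↥M, (y : G) ∈ H → ϕ y = 1 := fun y hy => (QuotientGroup.eq_one_iff y).2 hy
  -- the transfer kills N
  have hker : N ≤ (MonoidHom.transfer ϕ).ker := by
    refine Subgroup.normalClosure_le_normal fun x hx => ?_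
    have hxM : x ∈ M := hHM hx
    rw [SetLike.mem_coe, MonoidHom.mem_ker,
      show x = ((⟨x, hxM⟩ : ↥M) : G) from rfl, transfer_apply ϕ hϕ ⟨x, hxM⟩]
    · exact hϕ _ hx
    · intro g _ k _ hmem
      refine key g⁻¹ _ ?_ hmem
      simpa [mul_assoc] using pow_mem hx k
  -- an element outside H fixes only the coset M
  have hfix : ∀ g m : G, m ∈ M → m ∉ H → g⁻¹ * m * g ∈ M → g ∈ M := by
    intro g m hm hmH hmg
    set T := H ⊔ H.map (MulAut.conj g).toMonoidHom with hT
    have hTn : M ≤ normalizer (T : Set G) := by
      refine le_of_coatom hmaxH hm hmH (le_sup_left.trans le_normalizer) ?_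
      rw [mem_normalizer_iff]
      intro y
      have hmap : T.map (MulAut.conj m).toMonoidHom = T := by
        rw [hT, Subgroup.map_sup]
        congr 1
        · ext z
          rw [conj_mem_map]
          exact ((mem_normalizer_iff'' ).1 (hnorm hm) z).symm
        · ext z
          rw [conj_mem_map, conj_mem_map, conj_mem_map]
          have := (mem_normalizer_iff''.1 (hnorm hmg)) (g⁻¹ * z * g)
          rw [this]
          simp [mul_assoc]
      constructor
      · intro hy
        rw [← hmap]
        exact conj_mem_map.2 (by simpa [mul_assoc] using hy)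
      · intro hy
        rw [← hmap, conj_mem_map] at hy
        simpa [mul_assoc] using hy
    rcases hmaxM.le_iff.1 hTn with htop | heq
    · exfalso
      have hnn : (T : Subgroup G).Normal := normalizer_eq_top_iff.1 htop
      exact hm₀H ((hcl g).le ⟨Subgroup.normalClosure_le_normal
        (SetLike.coe_subset_coe.2 le_sup_left) hm₀.1, hm₀.2⟩)
    · have hTM : T ≤ M := le_normalizer.trans heq.le
      have hTH : T = H := by
        have := hcl g
        rw [← hT, inf_eq_left.2 hTM] at this
        exact this
      have hgn : g ∈ normalizer (H : Set G) := by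
        rw [Subgroup.mem_normalizer_iff_map_conj_eq]
        refine Subgroup.eq_of_le_of_card_ge (le_sup_right.trans hTH.le) ?_
        exact (Subgroup.card_map_of_injective (MulAut.conj g).injective).ge
      rcases hmaxM.le_iff.1 hnorm with htop | heq'
      · exfalso
        have : H.Normal := normalizer_eq_top_iff.1 htop
        exact hm₀H (Subgroup.normalClosure_le_normal (Set.Subset.refl _) hm₀.1)
      · exact heq' ▸ hgn
  have h1 : MonoidHom.transfer ϕ ((⟨m₀, hm₀.2⟩ : ↥M) : G) = 1 := hker hm₀.1
  rw [transfer_apply ϕ hϕ] at h1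
  · exact hm₀H ((QuotientGroup.eq_one_iff (⟨m₀, hm₀.2⟩ : ↥M)).1 h1)
  · intro g hg k _ hmem
    by_cases hk : m₀ ^ k ∈ H
    · exact key g⁻¹ _ (by simpa [mul_assoc] using hk) hmem
    · exact absurd (hfix g _ (pow_mem hm₀.2 k) hk hmem) hg

end Cfsg.Agent.S3014
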