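import Cfsg.Statements.S3015
import Cfsg.Agent.Lib.TransferCoatom

set_option autoImplicit false
open Cfsg

namespace Cfsg.Agent.S3015

open Subgroup Cfsg.Agent.TransferCoatom

variable {G : Type*} [Group G]

theorem conj_mem_map {H : Subgroup G} {g x : G} :
    x ∈ H.map (MulAut.conj g).toMonoidHom ↔ g⁻¹ * x * g ∈ H := by
  constructor
  · rintro ⟨y, hy, rfl⟩
    simpa [MulAut.conj_apply, mul_assoc] using hy
  · intro h
    exact ⟨_, h, by simp [MulAut.conj_apply, mul_assoc]⟩

theorem eq_of_normal_of_ne_bot [IsSimpleGroup G] {X : Subgroup G} (hX : normalizer (X : Set G) = ⊤)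
    (hne : X ≠ ⊥) : X = ⊤ :=
  ((normalizer_eq_top_iff.1 hX).eq_bot_or_eq_top).resolve_left hne

/-- Let G be a finite non-abelian simple group, M a maximal subgroup of G and H a normal subgroup of M of prime index in M. Then G is generated by H together with one of its conjugates. -/
theorem result {G : Type*} [Group G] [Finite G] [IsSimpleGroup G] (hG : ¬ IsMulCommutative G) (M H : Subgroup G) (hmaxM : IsCoatom M) (hHM : H ≤ M) (hHn : (H.subgroupOf M).Normal) (hidx : (H.relIndex M).Prime) : ∃ g : G, H ⊔ H.map (MulAut.conj g).toMonoidHom = ⊤ := by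
  classical
  by_contra hcon
  push Not at hcon
  have hmaxH : IsCoatom (H.subgroupOf M) := by
    refine ⟨fun h => ?_, fun X hX => ?_⟩
    · rw [show H.relIndex M = (H.subgroupOf M).index from rfl, h, index_top] at hidx
      exact Nat.not_prime_one hidx
    · have h1 := relIndex_mul_index hX.le
      change (H.subgroupOf M).index.Prime at hidx
      rcases hidx.eq_one_or_self_of_dvd _ ((dvd_mul_left _ _).trans h1.dvd) with h | h
      · exact index_eq_one.1 h
      · exfalso
        refine hX.not_ge (relIndex_eq_one.1 ?_)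
        change X.index = (H.subgroupOf M).index at h
        rw [h] at h1
        exact mul_eq_right₀ hidx.ne_zero |>.1 h1
  have hMn : ¬ M.Normal := by
    intro hn
    rcases hn.eq_bot_or_eq_top with h | h
    · obtain ⟨a, ha, haH⟩ := exists_mem_notMem hmaxH
      rw [h, mem_bot] at ha
      exact haH (ha ▸ one_mem H)
    · exact hmaxM.1 h
  have hNM : normalizer (M : Set G) = M :=
    (hmaxM.le_iff.1 le_normalizer).resolve_left fun h => hMn (normalizer_eq_top_iff.1 h)
  have hnorm : M ≤ normalizer (H : Set G) := (normal_subgroupOf_iff_le_normalizer hHM).1 hHn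
  -- an element outside H fixes only the coset M, up to contributions in H
  have hfix : ∀ g m : G, g ∉ M → m ∈ M → m ∉ H → g⁻¹ * m * g ∈ M → g⁻¹ * m * g ∈ H := by
    intro g m hg hm hmH hmg
    by_contra hout
    -- conjugation by g moves M into itself in every case below
    refine hg ?_
    suffices hsub : ∀ y ∈ M, g⁻¹ * y * g ∈ M by
      rw [← hNM, ← inv_mem_iff, Subgroup.mem_normalizer_iff_map_conj_eq]
      refine Subgroup.eq_of_le_of_card_ge ?_
        (Subgroup.card_map_of_injective (MulAut.conj g⁻¹).injective).ge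
      rintro z ⟨y, hy, rfl⟩
      simpa [MulAut.conj_apply] using hsub y hy
    by_cases hbot : H = ⊥
    · have hle : M ≤ zpowers m := le_of_coatom hmaxH hm hmH (hbot ▸ bot_le) (mem_zpowers m)
      intro y hy
      obtain ⟨j, rfl⟩ := mem_zpowers_iff.1 (hle hy)
      have : g⁻¹ * m ^ j * g = (g⁻¹ * m * g) ^ j := by
        simpa using (map_zpow (MulAut.conj g⁻¹).toMonoidHom m j)
      rw [this]
      exact zpow_mem hmg j
    set T := H ⊔ H.map (MulAut.conj g).toMonoidHom with hT
    have hTn : M ≤ normalizer (T : Set G) := by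
      refine le_of_coatom hmaxH hm hmH (le_sup_left.trans le_normalizer) ?_
      rw [Subgroup.mem_normalizer_iff_map_conj_eq, hT, Subgroup.map_sup]
      congr 1
      · exact Subgroup.mem_normalizer_iff_map_conj_eq.1 (hnorm hm)
      · ext z
        refine conj_mem_map.trans (conj_mem_map.trans (Iff.trans ?_ conj_mem_map.symm))
        have := (mem_normalizer_iff''.1 (hnorm hmg)) (g⁻¹ * z * g)
        rw [this]
        simp [mul_assoc]
    rcases hmaxM.le_iff.1 hTn with htop | heq
    · have hne : T ≠ ⊥ := fun h => hbot (eq_bot_iff.2 (le_sup_left.trans h.le))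
      exact absurd (eq_of_normal_of_ne_bot htop hne) (hcon g)
    · have hTM : T ≤ M := le_normalizer.trans heq.le
      -- g H g⁻¹ ≤ M and it has index p in g M g⁻¹ ∋ m
      have hle : M ≤ M.comap (MulAut.conj g).toMonoidHom := by
        refine le_of_coatom hmaxH hmg hout (fun h hh => ?_) ?_
        · rw [Subgroup.mem_comap]
          exact hTM (le_sup_right (a := H) ⟨h, hh, rfl⟩)
        · rw [Subgroup.mem_comap]
          simpa [MulAut.conj_apply, mul_assoc] using hm
      -- hence g M g⁻¹ = M
      have heqM : M.map (MulAut.conj g).toMonoidHom = M :=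
        Subgroup.eq_of_le_of_card_ge (Subgroup.map_le_iff_le_comap.2 hle)
          (Subgroup.card_map_of_injective (MulAut.conj g).injective).ge
      intro y hy
      rw [← heqM] at hy
      exact conj_mem_map.1 hy
  -- an element of M \ H of least order
  have hex : ∃ n : ℕ, ∃ m : G, m ∈ M ∧ m ∉ H ∧ orderOf m = n := by
    obtain ⟨m, hm, hmH⟩ := exists_mem_notMem hmaxH
    exact ⟨_, m, hm, hmH, rfl⟩
  obtain ⟨m, hm, hmH, hord⟩ := Nat.find_spec hex
  have hmin : ∀ x ∈ M, x ∉ H → orderOf m ≤ orderOf x := fun x hx hxH =>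
    hord ▸ Nat.find_min' hex ⟨x, hx, hxH, rfl⟩
  have := isMulCommutative_quotient hHM hmaxH
  let : CommGroup (↥M ⧸ H.subgroupOf M) :=
    { (inferInstance : Group (↥M ⧸ H.subgroupOf M)) with mul_comm := mul_comm' }
  let ϕ : ↥M →* (↥M ⧸ H.subgroupOf M) := QuotientGroup.mk' _
  have hϕ : ∀ y : ↥M, (y : G) ∈ H → ϕ y = 1 := fun y hy => (QuotientGroup.eq_one_iff y).2 hy
  -- the transfer is trivial
  have htr : MonoidHom.transfer ϕ m = 1 := by
    rcases ((MonoidHom.transfer ϕ).normal_ker).eq_bot_or_eq_top with h | h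
    · exfalso
      apply hG
      refine ⟨⟨fun a b => (MonoidHom.ker_eq_bot_iff _).1 h ?_⟩⟩
      rw [map_mul, map_mul, mul_comm]
    · exact MonoidHom.mem_ker.1 (h ▸ mem_top m)
  rw [show m = ((⟨m, hm⟩ : ↥M) : G) from rfl, transfer_apply ϕ hϕ] at htr
  · exact hmH ((QuotientGroup.eq_one_iff (⟨m, hm⟩ : ↥M)).1 htr)
  · intro g hg k hk hmem
    simp only at hk hmem ⊢
    by_contra hout
    have hper : Function.IsPeriodicPt (m • ·) (orderOf m) (g : G ⧸ M) := by
      show ((m • ·)^[orderOf m]) (g : G ⧸ M) = _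
      simp [smul_iterate, pow_orderOf_eq_one]
    have hdvd : k ∣ orderOf m := hk ▸ hper.minimalPeriod_dvd
    by_cases hk1 : k = 1
    · subst hk1
      rw [pow_one] at hmem hout
      exact hout (hfix g m hg hm hmH hmem)
    · have h1 : orderOf m ≤ orderOf (g⁻¹ * m ^ k * g) := hmin _ hmem hout
      have h2 : orderOf (g⁻¹ * m ^ k * g) = orderOf (m ^ k) := by
        have := orderOf_injective (MulAut.conj g⁻¹).toMonoidHom (MulAut.conj g⁻¹).injective (m ^ k)
        simpa using this
      have hpos : 0 < orderOf m := orderOf_pos m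
      have hk0 : k ≠ 0 := fun h => hpos.ne' (Nat.eq_zero_of_zero_dvd (h ▸ hdvd))
      rw [h2, orderOf_pow_of_dvd hk0 hdvd] at h1
      have h3 : orderOf m / k < orderOf m := Nat.div_lt_self hpos (by omega)
      omega

end Cfsg.Agent.S3015
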