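import Cfsg.Statements.S3023
import Cfsg.Agent.Lib.CharPLocal
import Cfsg.Agent.Lib.SubnormalResidual

set_option autoImplicit false
open Cfsg

namespace Cfsg.Agent.S3023

open Subgroup

/-- Let p be a prime, G a finite group of parabolic characteristic p (every p-local subgroup containing a Sylow p-subgroup of G has characteristic p), S a Sylow p-subgroup of G and G₁ a subnormal subgroup of G. If the centre of S ∩ G₁ is nontrivial and contained in the centre of S, then G₁ has parabolic characteristic p. -/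
theorem result {G : Type*} [Group G] [Finite G] {p : ℕ} [Fact p.Prime] (hG : Cfsg.IsOfParabolicCharacteristic p G) (S : Sylow p G) (G₁ : Subgroup G) (hsn : G₁.IsSubnormal) (hne : ((S : Subgroup G) ⊓ G₁) ⊓ Subgroup.centralizer (((S : Subgroup G) ⊓ G₁ : Subgroup G) : Set G) ≠ ⊥) (hle : ((S : Subgroup G) ⊓ G₁) ⊓ Subgroup.centralizer (((S : Subgroup G) ⊓ G₁ : Subgroup G) : Set G) ≤ (S : Subgroup G) ⊓ Subgroup.centralizer ((S : Subgroup G) : Set G)) : Cfsg.IsOfParabolicCharacteristic p ↥G₁ := by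
  intro R hRp hRne hpar
  obtain ⟨T, hT⟩ := hpar
  have h1 : IsPGroup p ((S : Subgroup G).subgroupOf G₁) := S.isPGroup'.comap_subtype
  have h2 : ¬ p ∣ ((S : Subgroup G).subgroupOf G₁).index := by
    rw [← inf_subgroupOf_right]
    exact Cfsg.Agent.SubnormalResidual.not_dvd_relIndex_inf S hsn
  obtain ⟨c, hc⟩ := MulAction.exists_smul_eq G₁ T (h1.toSylow h2)
  have hcS : (T : Subgroup G₁).map (MulAut.conj c).toMonoidHom = (S : Subgroup G).subgroupOf G₁ := by
    have h3 := congrArg (fun X : Sylow p G₁ => (X : Subgroup G₁)) hc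
    simp only [IsPGroup.toSylow_coe] at h3
    rw [← h3, Sylow.coe_subgroup_smul]
    rfl
  -- move `R` next to `S ⊓ G₁`
  set R' := R.map (MulAut.conj c).toMonoidHom with hR'
  have hR'p : IsPGroup p R' := hRp.map _
  have hR'ne : R' ≠ ⊥ := fun h =>
    hRne ((map_eq_bot_iff_of_injective _ (MulAut.conj c).injective).mp h)
  have hSN : (S : Subgroup G).subgroupOf G₁ ≤ normalizer (R' : Set G₁) := by
    rw [← hcS]
    exact (map_mono hT).trans (le_normalizer_map _)
  suffices h : Cfsg.Agent.CharPBasic.HasCharP p (normalizer (R' : Set G₁)) by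
    have h3 := Cfsg.Agent.CharPLocal.hasCharP_normalizer_conj c⁻¹ R' h
    have e : R'.map (MulAut.conj c⁻¹).toMonoidHom = R :=
      Cfsg.Agent.TransferAlperin.cj_inv_cj c R
    rw [e] at h3
    exact h3
  have hR'S : R' ≤ (S : Subgroup G).subgroupOf G₁ := by
    have h3 := Cfsg.Agent.CharPLocal.le_sylow_of_normalized hR'p (h1.toSylow h2)
      (by rwa [IsPGroup.toSylow_coe])
    rwa [IsPGroup.toSylow_coe] at h3
  obtain ⟨z, hzR, hzp, hzc⟩ :=
    Cfsg.Agent.CharPLocal.exists_orderOf_eq_centralized h1 hR'S hSN hR'ne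
  -- `z` is central in `S`
  have hzS : (z : G) ∈ (S : Subgroup G) ⊓ Subgroup.centralizer ((S : Subgroup G) : Set G) := by
    refine hle (mem_inf.mpr ⟨mem_inf.mpr ⟨mem_subgroupOf.mp (hR'S hzR), z.2⟩,
      mem_centralizer_iff.mpr fun y hy => ?_⟩)
    exact congrArg Subtype.val (hzc ⟨y, (mem_inf.mp hy).2⟩ (mem_subgroupOf.mpr (mem_inf.mp hy).1))
  set U := zpowers (z : G) with hU
  have hSU : (S : Subgroup G) ≤ normalizer (U : Set G) := by
    intro s hs
    refine Subgroup.centralizer_le_normalizer _ ?_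
    rw [hU, Cfsg.Agent.CharPLocal.centralizer_zpowers, mem_centralizer_singleton_iff]
    exact mem_centralizer_iff.mp (mem_inf.mp hzS).2 s hs
  have hUne : U ≠ ⊥ := by
    rw [hU, Ne, zpowers_eq_bot]
    intro h
    rw [← orderOf_coe, h, orderOf_one] at hzp
    exact (Fact.out : p.Prime).one_lt.ne hzp
  have hUp : IsPGroup p U := IsPGroup.of_card (n := 1)
    (by rw [hU, Nat.card_zpowers, orderOf_coe, hzp, pow_one])
  have hN : Cfsg.Agent.CharPBasic.HasCharP p (normalizer (U : Set G)) :=
    hG U hUp hUne ⟨S, hSU⟩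
  set K := normalizer (U : Set G) with hK
  have hM : Cfsg.Agent.CharPBasic.HasCharP p (K.subgroupOf G₁) := by
    have h3 := Cfsg.Agent.CharPBasic.hasCharP_of_isSubnormal hN (hsn.subgroupOf (K := K))
    have e : G₁.subgroupOf K ≃* K.subgroupOf G₁ :=
      ((MulEquiv.subgroupCongr (inf_subgroupOf_right G₁ K).symm).trans
        (subgroupOfEquivOfLe inf_le_right)).trans
        (((MulEquiv.subgroupCongr (inf_subgroupOf_left K G₁).symm).trans
          (subgroupOfEquivOfLe (inf_le_left : G₁ ⊓ K ≤ G₁))).symm)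
    exact Cfsg.Agent.CharPBasic.hasCharP_of_equiv e h3
  refine Cfsg.Agent.CharPLocal.hasCharP_normalizer_of_centralizer R' hR'p
    (Cfsg.Agent.CharPLocal.hasCharP_centralizer_of_le R' (K.subgroupOf G₁) hR'p ?_ ?_ hM)
  · exact hR'S.trans (fun x hx => mem_subgroupOf.mpr (hSU (mem_subgroupOf.mp hx)))
  · intro x hx
    rw [mem_subgroupOf, hK]
    refine Subgroup.centralizer_le_normalizer _ ?_
    rw [hU, Cfsg.Agent.CharPLocal.centralizer_zpowers, mem_centralizer_singleton_iff]
    exact congrArg Subtype.val (mem_centralizer_iff.mp hx z hzR).symm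

end Cfsg.Agent.S3023
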