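import Cfsg.Statements.S3025
import Cfsg.Agent.Lib.PGroupsCyclic

set_option autoImplicit false
open Cfsg

namespace Cfsg.Agent.S3025

open Subgroup

/-- Let F be a finite group and H a nontrivial subgroup of F that is contained in every nontrivial subgroup of F which H normalizes. Then F has a nontrivial normal subgroup N contained in every nontrivial normal subgroup of F (a unique minimal normal subgroup), N is simple, and one of the following holds: C_F(N) = 1; or H = N has prime order p, C_F(N) is cyclic of order a power of p, and F/C_F(N) is cyclic of order dividing p − 1; or H = N has order 2, N is central in F, and F is a generalized quaternion group. -/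
theorem result {F : Type*} [Group F] [Finite F] (H : Subgroup F) (hH : H ≠ ⊥)
    (hmin : ∀ R : Subgroup F, R ≠ ⊥ → H ≤ Subgroup.normalizer (R : Set F) → H ≤ R) :
    ∃ N : Subgroup F, N.Normal ∧ N ≠ ⊥ ∧ (∀ M : Subgroup F, M.Normal → M ≠ ⊥ → N ≤ M) ∧ IsSimpleGroup ↥N ∧
      (Subgroup.centralizer (N : Set F) = ⊥ ∨
       (H = N ∧ (Nat.card N).Prime ∧ IsCyclic ↥(Subgroup.centralizer (N : Set F)) ∧
          (∃ k : ℕ, 1 ≤ k ∧ Nat.card ↥(Subgroup.centralizer (N : Set F)) = Nat.card N ^ k) ∧
          (∃ g : F, Subgroup.centralizer (N : Set F) ⊔ Subgroup.zpowers g = ⊤) ∧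
          (Subgroup.centralizer (N : Set F)).index ∣ Nat.card N - 1) ∨
       (H = N ∧ Nat.card N = 2 ∧ Subgroup.centralizer (N : Set F) = ⊤ ∧
          ∃ k : ℕ, 1 ≤ k ∧ Nonempty (F ≃* QuaternionGroup (2 ^ k)))) := by
  classical
  set N := Subgroup.normalClosure (H : Set F) with hN
  have hHN : H ≤ N := fun y hy => Subgroup.subset_normalClosure hy
  have hNne : N ≠ ⊥ := fun h => hH (eq_bot_iff.2 (h ▸ hHN))
  have hNmin : ∀ M : Subgroup F, M.Normal → M ≠ ⊥ → N ≤ M := by
    intro M hM hMne
    exact Subgroup.normalClosure_le_normal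
      (SetLike.coe_subset_coe.2 (hmin M hMne (by rw [Subgroup.normalizer_eq_top_iff.2 hM]; exact le_top)))
  have hNn : N.Normal := Subgroup.normalClosure_normal
  have : Nontrivial ↥N := (Subgroup.nontrivial_iff_ne_bot N).2 hNne
  have hsimple : IsSimpleGroup ↥N := by
    refine ⟨fun K hK => ?_⟩
    by_cases hKb : K = ⊥
    · exact Or.inl hKb
    right
    set L : Subgroup ↥N := sInf {K : Subgroup ↥N | K.Normal ∧ K ≠ ⊥} with hL
    have hHL : H.subgroupOf N ≤ L := by
      refine le_sInf fun K ⟨hK, hKb⟩ y hy => ?_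
      have hne : K.map N.subtype ≠ ⊥ := fun h =>
        hKb ((Subgroup.map_eq_bot_iff_of_injective _ N.subtype_injective).1 h)
      have hle : H ≤ Subgroup.normalizer (K.map N.subtype : Set F) := by
        refine hHN.trans ((Subgroup.le_normalizer_map N.subtype).trans' ?_)
        rw [Subgroup.normalizer_eq_top_iff.2 hK, ← MonoidHom.range_eq_map, Subgroup.range_subtype]
      obtain ⟨z, hz, he⟩ := hmin _ hne hle hy
      obtain rfl : z = y := Subtype.ext he
      exact hz
    have hLne : L.map N.subtype ≠ ⊥ := by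
      intro h
      apply hH
      rw [eq_bot_iff, ← h]
      exact fun y hy => ⟨⟨y, hHN hy⟩, hHL hy, rfl⟩
    have hLn : (L.map N.subtype).Normal := by
      refine ⟨fun y hy g => ?_⟩
      obtain ⟨l, hl, rfl⟩ := hy
      refine ⟨(MulAut.conjNormal g : MulAut ↥N) l, ?_, by simp⟩
      rw [hL]
      refine Subgroup.mem_sInf.2 ?_
      rintro K ⟨hK, hKb⟩
      have h1 : L ≤ K.map ((MulAut.conjNormal g⁻¹ : MulAut ↥N) : ↥N ≃* ↥N).toMonoidHom := by
        refine sInf_le ⟨hK.map _ (MulEquiv.surjective _), fun h => hKb ?_⟩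
        exact (Subgroup.map_eq_bot_iff_of_injective _ (MulEquiv.injective _)).1 h
      obtain ⟨k, hk, hkl⟩ := h1 hl
      have : (MulAut.conjNormal g : MulAut ↥N) l = k := by
        rw [← hkl]; apply Subtype.ext; simp [mul_assoc]
      rwa [this]
    rw [eq_top_iff]
    intro y _
    obtain ⟨z, hz, he⟩ := hNmin _ hLn hLne y.2
    obtain rfl : z = y := Subtype.ext he
    exact sInf_le (show K ∈ {K : Subgroup ↥N | K.Normal ∧ K ≠ ⊥} from ⟨hK, hKb⟩) hz
  refine ⟨N, hNn, hNne, hNmin, hsimple, ?_⟩
  by_cases hC : Subgroup.centralizer (N : Set F) = ⊥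
  · exact Or.inl hC
  right
  set C := Subgroup.centralizer (N : Set F) with hCdef
  have hNC : N ≤ C := hNmin C inferInstance hC
  have hab : IsMulCommutative ↥N := ⟨⟨fun a b => Subtype.ext (hNC b.2 a a.2)⟩⟩
  letI : CommGroup ↥N := { (inferInstance : Group ↥N) with mul_comm := mul_comm' }
  have hprime : (Nat.card ↥N).Prime := IsSimpleGroup.prime_card
  set p := Nat.card ↥N with hp
  have : Fact p.Prime := ⟨hprime⟩
  have hHeq : H = N := by
    refine Subgroup.eq_of_le_of_card_ge hHN ?_
    rcases (Nat.dvd_prime hprime).1 (Subgroup.card_dvd_of_le hHN) with h | h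
    · exact absurd (Subgroup.card_eq_one.1 h) hH
    · exact h.ge
  have huniq : ∀ R : Subgroup F, R ≠ ⊥ → R ≤ C → N ≤ R := by
    intro R hR hRC
    rw [← hHeq]
    refine hmin R hR fun n hn => ?_
    have hn' : n ∈ N := hHeq ▸ hn
    rw [Subgroup.mem_normalizer_iff]
    intro r
    constructor
    · intro hr
      rw [show n * r = r * n from hRC hr n hn', mul_inv_cancel_right]
      exact hr
    · intro hr
      have h1 : n * (n * r * n⁻¹) = (n * r * n⁻¹) * n := hRC hr n hn'
      have h2 : n * r * n⁻¹ = r := by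
        rw [inv_mul_cancel_right] at h1
        exact mul_left_cancel h1
      rwa [h2] at hr
  have hCp : IsPGroup p ↥C := by
    refine IsPGroup.of_card (n := (Nat.card ↥C).primeFactorsList.length)
      (Nat.eq_prime_pow_of_unique_prime_dvd Nat.card_pos.ne' fun {q} hq hqd => ?_)
    haveI : Fact q.Prime := ⟨hq⟩
    obtain ⟨c, hc⟩ := exists_prime_orderOf_dvd_card' q hqd
    have h1 := huniq (Subgroup.zpowers (c : F))
      (by rw [Ne, Subgroup.zpowers_eq_bot]; intro h; rw [← Subgroup.orderOf_coe, h, orderOf_one] at hc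
          exact hq.ne_one hc.symm) (Subgroup.zpowers_le.2 c.2)
    have h2 := Subgroup.card_dvd_of_le h1
    rw [Nat.card_zpowers, Subgroup.orderOf_coe, hc] at h2
    exact ((Nat.prime_dvd_prime_iff_eq hprime hq).1 h2).symm
  have huC : ∀ X Y : Subgroup ↥C, Nat.card X = p → Nat.card Y = p → X = Y := by
    have key : ∀ X : Subgroup ↥C, Nat.card X = p → X.map C.subtype = N := by
      intro X hX
      refine (Subgroup.eq_of_le_of_card_ge (huniq _ ?_ (Subgroup.map_subtype_le X)) ?_).symm
      · intro h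
        rw [(Subgroup.map_eq_bot_iff_of_injective _ C.subtype_injective).1 h, Subgroup.card_bot] at hX
        exact hprime.ne_one hX.symm
      · rw [Subgroup.card_map_of_injective C.subtype_injective, hX]
    intro X Y hX hY
    exact Subgroup.map_injective C.subtype_injective ((key X hX).trans (key Y hY).symm)
  obtain ⟨k, hk⟩ := hCp.exists_card_eq
  have hk1 : 1 ≤ k := by
    by_contra h
    obtain rfl : k = 0 := by omega
    rw [pow_zero] at hk
    exact hC (Subgroup.card_eq_one.1 hk)
  -- F / C embeds in the automorphisms of N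
  set φ : F →* MulAut ↥N := MulAut.conjNormal with hφ
  have hker : φ.ker = C := by
    ext f
    rw [MonoidHom.mem_ker]
    constructor
    · intro h n hn
      have h1 := congrArg Subtype.val (DFunLike.congr_fun h ⟨n, hn⟩)
      simp [hφ, mul_inv_eq_iff_eq_mul] at h1
      exact h1.symm
    · intro h
      ext n
      simp [hφ, mul_inv_eq_iff_eq_mul, h n n.2]
  have hcycN : IsCyclic ↥N := isCyclic_of_prime_card hp.symm
  have hAut : Nat.card (MulAut ↥N) = p - 1 := by
    rw [Nat.card_congr (IsCyclic.mulAutMulEquiv ↥N).toEquiv, Nat.card_eq_fintype_card,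
      ZMod.card_units_eq_totient, Nat.totient_prime hprime]
  have hidx : C.index ∣ p - 1 := by
    rw [← hker, Subgroup.index_ker, ← hAut]
    exact Subgroup.card_subgroup_dvd_card _
  have hgen : ∃ g : F, C ⊔ Subgroup.zpowers g = ⊤ := by
    have hu : IsCyclic (ZMod (Nat.card ↥N))ˣ := inferInstance
    have : IsCyclic (MulAut ↥N) :=
      isCyclic_of_surjective (IsCyclic.mulAutMulEquiv ↥N).symm.toMonoidHom
        (IsCyclic.mulAutMulEquiv ↥N).symm.surjective
    obtain ⟨⟨_, g, rfl⟩, hg⟩ := IsCyclic.exists_generator (α := ↥φ.range)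
    refine ⟨g, eq_top_iff.2 fun f _ => ?_⟩
    obtain ⟨j, hj⟩ := Subgroup.mem_zpowers_iff.1 (hg ⟨φ f, f, rfl⟩)
    have hj' : φ g ^ j = φ f := by simpa using congrArg Subtype.val hj
    have hmem : f * (g ^ j)⁻¹ ∈ C := by
      rw [← hker, MonoidHom.mem_ker, map_mul, map_inv, map_zpow, hj', mul_inv_cancel]
    have := Subgroup.mul_mem_sup hmem (zpow_mem (Subgroup.mem_zpowers g) j)
    rwa [inv_mul_cancel_right] at this
  by_cases hcyc : IsCyclic ↥C
  · exact Or.inl ⟨hHeq, hprime, hcyc, ⟨k, hk1, hk⟩, hgen, hidx⟩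
  obtain h | ⟨hp2, n, ⟨e⟩⟩ := PGroupsCyclic.isCyclic_or_quaternion hCp huC
  · exact absurd h hcyc
  refine Or.inr ⟨hHeq, hp2, ?_⟩
  have hCtop : C = ⊤ := by
    rw [hp2] at hidx
    exact Subgroup.index_eq_one.1 (Nat.dvd_one.1 hidx)
  refine ⟨hCtop, n, Nat.pos_of_ne_zero fun h0 => ?_,
    ⟨((Subgroup.topEquiv.symm.trans (MulEquiv.subgroupCongr hCtop.symm)).trans e)⟩⟩
  subst h0
  apply hcyc
  have : IsCyclic (QuaternionGroup (2 ^ 0)) := by
    rw [pow_zero]; exact QuaternionGroup.quaternionGroup_one_isCyclic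
  exact isCyclic_of_surjective e.symm.toMonoidHom e.symm.surjective

end Cfsg.Agent.S3025
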