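import Cfsg.Statements.S3027

set_option autoImplicit false
open Cfsg

namespace Cfsg.Agent.S3027

open Subgroup

theorem key : ∀ (n : ℕ) (G : Type*) [Group G] [Finite G], Nat.card G = n → ∀ (D : Subgroup G)
    [D.Normal], ⁅(⊤ : Subgroup G), (⊤ : Subgroup G)⁆ ⊔ D = ⊤ →
    ∃ B : Subgroup G, B.Normal ∧ B ⊔ D = ⊤ ∧ ∀ B' : Subgroup G, B'.IsSubnormal → B' ⊔ D = ⊤ → B ≤ B' := by
  intro n
  induction n using Nat.strong_induction_on with
  | h n ih =>
    intro G _ _ hn D _ hperf
    obtain ⟨B, hBmin⟩ := Set.Finite.exists_minimal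
      (Set.toFinite {B : Subgroup G | B.Normal ∧ B ⊔ D = ⊤}) ⟨⊤, inferInstance, top_sup_eq D⟩
    obtain ⟨hBn, hBD⟩ := hBmin.1
    have hleast : ∀ N : Subgroup G, N.Normal → N ⊔ D = ⊤ → B ≤ N := by
      intro N hN hND
      have hc : ⁅B, N⁆ ⊔ D = ⊤ := by
        have hq : ((⁅B, N⁆ ⊔ D).map (QuotientGroup.mk' D)) = ⊤ := by
          rw [Subgroup.map_sup, Subgroup.map_commutator, QuotientGroup.map_mk'_self, sup_bot_eq]
          have e1 : B.map (QuotientGroup.mk' D) = ⊤ := by
            have := congrArg (Subgroup.map (QuotientGroup.mk' D)) hBD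
            rwa [Subgroup.map_sup, QuotientGroup.map_mk'_self, sup_bot_eq,
              Subgroup.map_top_of_surjective _ (QuotientGroup.mk'_surjective D)] at this
          have e2 : N.map (QuotientGroup.mk' D) = ⊤ := by
            have := congrArg (Subgroup.map (QuotientGroup.mk' D)) hND
            rwa [Subgroup.map_sup, QuotientGroup.map_mk'_self, sup_bot_eq,
              Subgroup.map_top_of_surjective _ (QuotientGroup.mk'_surjective D)] at this
          have e3 := congrArg (Subgroup.map (QuotientGroup.mk' D)) hperf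
          rw [Subgroup.map_sup, Subgroup.map_commutator, QuotientGroup.map_mk'_self, sup_bot_eq,
            Subgroup.map_top_of_surjective _ (QuotientGroup.mk'_surjective D)] at e3
          rw [e1, e2, e3]
        have := congrArg (Subgroup.comap (QuotientGroup.mk' D)) hq
        rwa [Subgroup.comap_map_eq, Subgroup.comap_top, QuotientGroup.ker_mk', sup_assoc,
          sup_idem] at this
      refine (hBmin.2 ⟨inferInstance, hc⟩ (Subgroup.commutator_le_left B N)).trans ?_
      exact Subgroup.commutator_le_right B N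
    refine ⟨B, hBn, hBD, fun B' hB' hB'D => ?_⟩
    obtain h | ⟨K, hK, hle, hne, hKn, hsub⟩ :
        B' = ⊤ ∨ ∃ K : Subgroup G, K.Normal ∧ B' ≤ K ∧ K ≠ ⊤ ∧ True ∧ (B'.subgroupOf K).IsSubnormal := by
      by_cases h : B' = ⊤
      · exact Or.inl h
      · right
        obtain ⟨K, hK1, hK2, hK3⟩ := hB'.exists_normal_and_le_and_lt_top_of_ne h
        exact ⟨K, hK1, hK2, hK3.ne, trivial, hB'.subgroupOf⟩
    · exact h ▸ le_top
    · have := hK
      have hKD : K ⊔ D = ⊤ := eq_top_iff.2 (hB'D.ge.trans (sup_le_sup_right hle _))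
      have hsplit : ∀ X : Subgroup G, X ≤ K → X ⊔ D = ⊤ → X ⊔ (D ⊓ K) = K := by
        intro X hX hXD
        refine le_antisymm (sup_le hX inf_le_right) fun y hy => ?_
        have h' : y ∈ X ⊔ D := hXD ▸ Subgroup.mem_top y
        obtain ⟨a, ha, d, hd, rfl⟩ := Subgroup.mem_sup_of_normal_right.1 h'
        refine Subgroup.mul_mem_sup ha ⟨hd, ?_⟩
        have := mul_mem (inv_mem (hX ha)) hy
        rwa [inv_mul_cancel_left] at this
      have hKperf : ⁅(⊤ : Subgroup ↥K), (⊤ : Subgroup ↥K)⁆ ⊔ D.subgroupOf K = ⊤ := by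
        apply Subgroup.map_injective K.subtype_injective
        rw [Subgroup.map_sup, Subgroup.map_commutator, Subgroup.subgroupOf_map_subtype,
          ← MonoidHom.range_eq_map, Subgroup.range_subtype]
        refine hsplit _ (Subgroup.commutator_le_self K) ?_
        have h' : B ⊔ D = ⊤ := hBD
        have hq : ((⁅K, K⁆ ⊔ D).map (QuotientGroup.mk' D)) = ⊤ := by
          have e1 : K.map (QuotientGroup.mk' D) = ⊤ := by
            have := congrArg (Subgroup.map (QuotientGroup.mk' D)) hKD
            rwa [Subgroup.map_sup, QuotientGroup.map_mk'_self, sup_bot_eq,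
              Subgroup.map_top_of_surjective _ (QuotientGroup.mk'_surjective D)] at this
          have e3 := congrArg (Subgroup.map (QuotientGroup.mk' D)) hperf
          rw [Subgroup.map_sup, Subgroup.map_commutator, QuotientGroup.map_mk'_self, sup_bot_eq,
            Subgroup.map_top_of_surjective _ (QuotientGroup.mk'_surjective D)] at e3
          rw [Subgroup.map_sup, Subgroup.map_commutator, QuotientGroup.map_mk'_self, sup_bot_eq,
            e1, e3]
        have := congrArg (Subgroup.comap (QuotientGroup.mk' D)) hq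
        rwa [Subgroup.comap_map_eq, Subgroup.comap_top, QuotientGroup.ker_mk', sup_assoc,
          sup_idem] at this
      obtain ⟨C, hCn, hCD, hCle⟩ := ih (Nat.card ↥K)
        (hn ▸ lt_of_le_of_ne (Subgroup.card_le_card_group K)
          (fun h => hne (K.eq_top_of_card_eq h))) ↥K rfl (D.subgroupOf K) hKperf
      have hB'sup : B'.subgroupOf K ⊔ D.subgroupOf K = ⊤ := by
        apply Subgroup.map_injective K.subtype_injective
        rw [Subgroup.map_sup, Subgroup.subgroupOf_map_subtype, Subgroup.subgroupOf_map_subtype,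
          inf_eq_left.2 hle, ← MonoidHom.range_eq_map, Subgroup.range_subtype]
        exact hsplit _ hle hB'D
      have hCB : C.map K.subtype ≤ B' := by
        rintro _ ⟨c, hc, rfl⟩
        exact hCle _ hsub hB'sup hc
      have hDn : ∀ g : G, C.map ((MulAut.conjNormal g : MulAut ↥K) : ↥K ≃* ↥K).toMonoidHom ⊔ D.subgroupOf K = ⊤ := by
        intro g
        have h1 := congrArg (Subgroup.map ((MulAut.conjNormal g : MulAut ↥K) : ↥K ≃* ↥K).toMonoidHom) hCD
        rw [Subgroup.map_sup, Subgroup.map_top_of_surjective _ (MulEquiv.surjective _)] at h1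
        refine eq_top_iff.2 (h1.ge.trans (sup_le_sup_left ?_ _))
        rintro _ ⟨d, hd, rfl⟩
        exact (inferInstance : D.Normal).conj_mem _ hd g
      have hCnormal : (C.map K.subtype).Normal := by
        refine ⟨fun c hc g => ?_⟩
        obtain ⟨c, hc, rfl⟩ := hc
        have h2 : C ≤ C.map ((MulAut.conjNormal g : MulAut ↥K) : ↥K ≃* ↥K).toMonoidHom :=
          hCle _ ((hCn.map _ (MulEquiv.surjective _)).isSubnormal) (hDn g)
        have h3 := Subgroup.eq_of_le_of_card_ge h2
          (Subgroup.card_map_of_injective (MulEquiv.injective _)).le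
        refine ⟨(MulAut.conjNormal g : MulAut ↥K) c, ?_, by simp⟩
        rw [h3]
        exact ⟨c, hc, rfl⟩
      have hCtop : C.map K.subtype ⊔ D = ⊤ := by
        refine eq_top_iff.2 (hKD.ge.trans (sup_le ?_ le_sup_right))
        have := congrArg (Subgroup.map K.subtype) hCD
        rw [Subgroup.map_sup, ← MonoidHom.range_eq_map, Subgroup.range_subtype] at this
        exact this.ge.trans (sup_le_sup_left ((Subgroup.subgroupOf_map_subtype D K).le.trans inf_le_left) _)
      exact (hleast _ hCnormal hCtop).trans hCB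

/-- Let G be a finite group and D a normal subgroup of G such that G/D is perfect (that is, G = G′D). Then among the subnormal subgroups B of G with BD = G there is a least one, and it is normal in G. -/
theorem result {G : Type*} [Group G] [Finite G] (D : Subgroup G) [D.Normal] (hperf : ⁅(⊤ : Subgroup G), (⊤ : Subgroup G)⁆ ⊔ D = ⊤) :
    ∃ B : Subgroup G, B.Normal ∧ B ⊔ D = ⊤ ∧ ∀ B' : Subgroup G, B'.IsSubnormal → B' ⊔ D = ⊤ → B ≤ B' := by
  obtain ⟨B, hB⟩ := key (Nat.card G) G rfl D hperf
  exact ⟨B, hB.1, hB.2.1, hB.2.2⟩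

end Cfsg.Agent.S3027
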