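import Cfsg.Statements.S3036
import Cfsg.Agent.Lib.ChermakDelgado

set_option autoImplicit false
open Cfsg

namespace Cfsg.Agent.S3036

open Subgroup Cfsg.Agent.ChermakDelgado

/-- Let G be a finite non-abelian simple group and A a proper nontrivial subgroup of G. Then |G| > |A| · |C_G(A)|. In particular |G| > |A|² for every nontrivial abelian subgroup A of G. -/
theorem result {G : Type*} [Group G] [Finite G] [IsSimpleGroup G] (hG : ¬ IsMulCommutative G) (A : Subgroup G) (hA1 : A ≠ ⊥) (hA2 : A ≠ ⊤) : Nat.card A * Nat.card ↥(Subgroup.centralizer (A : Set G)) < Nat.card G := by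
  by_contra hlt
  have hle : Nat.card G ≤ cdm A := not_lt.1 hlt
  have hcen : Subgroup.center G = ⊥ :=
    ((inferInstance : (Subgroup.center G).Normal).eq_bot_or_eq_top).resolve_right fun h => hG
      ⟨⟨fun a b => (Subgroup.mem_center_iff.1 (h ▸ Subgroup.mem_top b : b ∈ Subgroup.center G) a)⟩⟩
  obtain ⟨T, hT, hTn, hTtop⟩ := exists_top_large G
  have hAmax : ∀ R : Subgroup G, Cfsg.IsCentralizerLarge R → cdm R = Nat.card G →
      Cfsg.IsCentralizerLarge A := fun R hR hRG =>
    large_iff.2 (by rw [← show cdm R = _ from hR, hRG]; exact hle)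
  rcases hTn.eq_bot_or_eq_top with hb | ht
  · have hAl := hAmax T hT (by simp [cdm, hb, Subgroup.centralizer_eq_top_iff_subset])
    exact hA1 (eq_bot_iff.2 (hb ▸ hTtop A hAl))
  · have hcdm : cdm (⊤ : Subgroup G) = Nat.card G := by
      simp [cdm, Subgroup.centralizer_univ, hcen]
    have hAl := hAmax T hT (ht ▸ hcdm)
    obtain ⟨M, hAM, hM⟩ := Set.Finite.exists_le_maximal
      (Set.toFinite {R : Subgroup G | Cfsg.IsCentralizerLarge R ∧ R ≠ ⊤}) (show A ∈ _ from ⟨hAl, hA2⟩)
    have hMn : M.Normal := by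
      refine ⟨fun n hn c => ?_⟩
      have hM' := large_map_conj hM.1.1 c
      by_cases hsup : M ⊔ M.map (MulAut.conj c).toMonoidHom = ⊤
      · exfalso
        have hprod := (large_card_eqs hM.1.1 hM').1
        rw [hsup] at hprod
        have hc1 : c⁻¹ ∈ ((⊤ : Subgroup G) : Set G) := Subgroup.mem_top _
        rw [hprod] at hc1
        obtain ⟨m, hm, _, ⟨m', hm', rfl⟩, he⟩ := Set.mem_mul.1 hc1
        simp only [MulEquiv.coe_toMonoidHom, MulAut.conj_apply] at he
        have hcm : c = m⁻¹ * m'⁻¹ := by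
          have h1 : m * c * m' = 1 := by
            have := congrArg (· * c) he
            simpa [mul_assoc] using this
          calc c = m⁻¹ * (m * c * m') * m'⁻¹ := by group
            _ = _ := by rw [h1]; group
        have hcM : c ∈ M := hcm ▸ mul_mem (inv_mem hm) (inv_mem hm')
        have heq : M.map (MulAut.conj c).toMonoidHom = M :=
          Subgroup.mem_normalizer_iff_map_conj_eq.1 (Subgroup.le_normalizer hcM)
        rw [heq, sup_idem] at hsup
        exact hM.1.2 hsup
      · exact (le_sup_right.trans (hM.2 ⟨(large_sup_inf hM.1.1 hM').1, hsup⟩ le_sup_left))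
          ⟨n, hn, by simp⟩
    exact hA1 (eq_bot_iff.2 ((hMn.eq_bot_or_eq_top.resolve_right hM.1.2) ▸ hAM))

end Cfsg.Agent.S3036
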