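import Cfsg.Statements.S3037
import Cfsg.Agent.Lib.ChermakDelgado

set_option autoImplicit false
open Cfsg

namespace Cfsg.Agent.S3037

open Subgroup Cfsg.Agent.ChermakDelgado

/-- Let V and G be subgroups of a finite group with V an elementary abelian p-group (p prime) on which G acts faithfully and irreducibly by conjugation: G normalizes V, G ∩ C(V) = 1, and the only subgroups of V normalized by G are 1 and V. If for some nontrivial subgroup A of G and some real α > 0 one has |V| ≤ |A|^α · |C_V(A)|, then |V| ≤ |G|^α. -/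
theorem result {X : Type*} [Group X] [Finite X] {p : ℕ} [Fact p.Prime] (V G : Subgroup X) (hV : Cfsg.IsElementaryAbelian p V)
    (hGV : G ≤ Subgroup.normalizer (V : Set X)) (hfaith : G ⊓ Subgroup.centralizer (V : Set X) = ⊥)
    (hirr : ∀ W : Subgroup X, W ≤ V → G ≤ Subgroup.normalizer (W : Set X) → W = ⊥ ∨ W = V)
    (A : Subgroup X) (hA : A ≤ G) (hA1 : A ≠ ⊥) (α : ℝ) (hα : 0 < α)
    (hbig : (Nat.card V : ℝ) ≤ (Nat.card A : ℝ) ^ α * (Nat.card ↥(V ⊓ Subgroup.centralizer (A : Set X)) : ℝ)) :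
    (Nat.card V : ℝ) ≤ (Nat.card G : ℝ) ^ α := by
  classical
  let CV : Subgroup X → Subgroup X := fun B => V ⊓ Subgroup.centralizer (B : Set X)
  let f : Subgroup X → ℝ := fun B => (Nat.card B : ℝ) ^ α * (Nat.card ↥(CV B) : ℝ)
  have hpos : ∀ B, 0 < f B := fun B =>
    mul_pos (Real.rpow_pos_of_pos (by exact_mod_cast Nat.card_pos) α) (by exact_mod_cast Nat.card_pos)
  have hsub : ∀ B C, f B * f C ≤ f (B ⊔ C) * f (B ⊓ C) := by
    intro B C
    have h1 := card_mul_card_eq B C
    have h3 := card_mul_le_card_sup B C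
    have h2 := card_mul_card_eq (CV B) (CV C)
    have h4 := card_mul_le_card_sup (CV B) (CV C)
    have h5 : Nat.card ↥(CV B ⊔ CV C : Subgroup X) ≤ Nat.card ↥(CV (B ⊓ C)) :=
      Subgroup.card_le_of_le (sup_le
        (inf_le_inf_left _ (Subgroup.centralizer_le (SetLike.coe_subset_coe.2 inf_le_left)))
        (inf_le_inf_left _ (Subgroup.centralizer_le (SetLike.coe_subset_coe.2 inf_le_right))))
    have h6 : CV B ⊓ CV C = CV (B ⊔ C) := by
      simp only [CV, centralizer_sup_eq]
      exact (inf_inf_distrib_left _ _ _).symm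
    rw [h6] at h2
    have hB : (Nat.card B : ℝ) * Nat.card C ≤ (Nat.card ↥(B ⊔ C : Subgroup X) : ℝ) * Nat.card ↥(B ⊓ C : Subgroup X) := by
      exact_mod_cast (h1.le.trans (Nat.mul_le_mul_left _ h3)).trans (Nat.mul_comm _ _).le
    have hC : (Nat.card ↥(CV B) : ℝ) * Nat.card ↥(CV C) ≤ (Nat.card ↥(CV (B ⊔ C)) : ℝ) * Nat.card ↥(CV (B ⊓ C)) := by
      exact_mod_cast h2.le.trans (Nat.mul_le_mul_left _ (h4.trans h5))
    have e : ∀ D E : Subgroup X, f D * f E = ((Nat.card D : ℝ) * Nat.card E) ^ α *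
        ((Nat.card ↥(CV D) : ℝ) * Nat.card ↥(CV E)) := fun D E => by
      simp only [f]
      rw [Real.mul_rpow (Nat.cast_nonneg _) (Nat.cast_nonneg _)]
      ring
    rw [e, e]
    exact mul_le_mul (Real.rpow_le_rpow (by positivity) hB hα.le) hC (by positivity) (by positivity)
  have hnorm : ∀ {Y : Subgroup X} {g : X}, g ∈ Subgroup.normalizer (Y : Set X) →
      Y.map (MulAut.conj g).toMonoidHom = Y := fun h => Subgroup.mem_normalizer_iff_map_conj_eq.1 h
  obtain ⟨M₀, hM₀, hmax⟩ := Set.exists_max_image {B : Subgroup X | B ≤ G} f (Set.toFinite _) ⟨G, le_refl G⟩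
  obtain ⟨M, ⟨hMG, hMmax⟩, hMbig⟩ := Set.exists_max_image
    {B : Subgroup X | B ≤ G ∧ f M₀ ≤ f B} (fun B => Nat.card B) (Set.toFinite _) ⟨M₀, hM₀, le_refl (f M₀)⟩
  have hjoin : ∀ B : Subgroup X, B ≤ G → f M₀ ≤ f B → B ≤ M := by
    intro B hB hfB
    have h1 := hsub M B
    have h2 : f (M ⊓ B) ≤ f M₀ := hmax _ (show M ⊓ B ≤ G from inf_le_left.trans hMG)
    have h3 : f M₀ ≤ f (M ⊔ B) := by
      have h4 : f M₀ * f M₀ ≤ f (M ⊔ B) * f M₀ :=
        ((mul_le_mul hMmax hfB (hpos _).le (hpos _).le).trans h1).trans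
          (mul_le_mul_of_nonneg_left h2 (hpos _).le)
      exact le_of_mul_le_mul_right h4 (hpos _)
    have h5 := hMbig _ ⟨sup_le hMG hB, h3⟩
    exact le_sup_right.trans (Subgroup.eq_of_le_of_card_ge le_sup_left h5).ge
  have hAf : (Nat.card V : ℝ) ≤ f M := (hbig.trans (hmax A hA)).trans hMmax
  have hM1 : M ≠ ⊥ := by
    intro h
    refine hA1 (eq_bot_iff.2 (h ▸ hjoin A hA ?_))
    refine le_trans ?_ hbig
    refine (hMmax.trans ?_)
    subst h
    simp only [f, Subgroup.card_bot, Nat.cast_one, Real.one_rpow, one_mul]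
    exact_mod_cast Subgroup.card_le_of_le (inf_le_left : CV ⊥ ≤ V)
  have hMn : G ≤ Subgroup.normalizer (M : Set X) := by
    intro g hg
    rw [Subgroup.mem_normalizer_iff_map_conj_eq]
    show M.map (MulAut.conj g).toMonoidHom = M
    refine Subgroup.eq_of_le_of_card_ge (hjoin _ ?_ ?_)
      (Subgroup.card_map_of_injective (MulAut.conj g).injective).ge
    · rintro _ ⟨m, hm, rfl⟩
      exact mul_mem (mul_mem hg (hMG hm)) (inv_mem hg)
    · refine hMmax.trans (le_of_eq ?_)
      have : CV (M.map (MulAut.conj g).toMonoidHom) = (CV M).map (MulAut.conj g).toMonoidHom := by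
        simp only [CV]
        rw [Subgroup.map_inf _ _ _ (MulAut.conj g).injective, map_centralizer_conj,
          hnorm (hGV hg)]
      simp only [f]
      rw [this, Subgroup.card_map_of_injective (MulAut.conj g).injective,
        Subgroup.card_map_of_injective (MulAut.conj g).injective]
  have hWn : G ≤ Subgroup.normalizer (CV M : Set X) := by
    intro g hg
    rw [Subgroup.mem_normalizer_iff_map_conj_eq]
    show (CV M).map (MulAut.conj g).toMonoidHom = CV M
    simp only [CV]
    rw [Subgroup.map_inf _ _ _ (MulAut.conj g).injective, map_centralizer_conj,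
      hnorm (hGV hg),
      hnorm (hMn hg)]
  rcases hirr (CV M) inf_le_left hWn with h | h
  · refine hAf.trans ?_
    simp only [f, h, Subgroup.card_bot, Nat.cast_one, mul_one]
    exact Real.rpow_le_rpow (Nat.cast_nonneg _) (by exact_mod_cast Subgroup.card_le_of_le hMG) hα.le
  · exfalso
    apply hM1
    rw [← le_bot_iff, ← hfaith]
    exact le_inf hMG fun m hm v hv => ((h.ge hv).2 m hm).symm

end Cfsg.Agent.S3037
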