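import Cfsg.Statements.S3040
import Cfsg.Agent.Lib.FpfThree63Main

set_option autoImplicit false
open Cfsg

namespace Cfsg.Agent.S3040

open FpfThree63

theorem perm_three : ∀ s : Equiv.Perm (Fin 3), s ^ 3 = 1 → s ≠ 1 →
    Equiv.swap 0 1 * s * Equiv.swap 0 1 = s⁻¹ ∧
      ∀ x : Equiv.Perm (Fin 3), x = 1 ∨ x = s ∨ x = s * s ∨ x = Equiv.swap 0 1 ∨
        x = Equiv.swap 0 1 * s ∨ x = Equiv.swap 0 1 * (s * s) := by
  decide

universe u

theorem good {G : Type u} [Group G] [Finite G] (h3 : ¬ 3 ∣ Nat.card G) (Sig : Subgroup (MulAut G))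
    (e : ↥Sig ≃* Equiv.Perm (Fin 3)) (hfpf : ∀ g : G, (∀ σ ∈ Sig, σ g = g) → g = 1)
    {σ : MulAut G} (hσ : σ ∈ Sig) (hord : orderOf σ = 3) : Good σ := by
  set t : ↥Sig := e.symm (Equiv.swap 0 1) with ht
  set s : ↥Sig := ⟨σ, hσ⟩ with hs
  set τ : MulAut G := (t : MulAut G) with hτ
  have hs3 : (e s) ^ 3 = 1 := by
    rw [← map_pow, show s ^ 3 = 1 from Subtype.ext (by
      rw [Subgroup.coe_pow, OneMemClass.coe_one, ← hord]; exact pow_orderOf_eq_one σ), map_one]
  have hs1 : e s ≠ 1 := by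
    intro hh
    have h1 : s = 1 := e.injective (hh.trans (map_one e).symm)
    rw [show σ = 1 from congrArg Subtype.val h1, orderOf_one] at hord
    exact absurd hord (by decide)
  obtain ⟨hinv, hgen⟩ := perm_three (e s) hs3 hs1
  have het : e t = Equiv.swap 0 1 := e.apply_symm_apply _
  have ht2 : ∀ g : G, τ (τ g) = g := by
    intro g
    have h1 : t * t = 1 := e.injective (by rw [map_mul, het, map_one, Equiv.swap_mul_self])
    have h2 : τ * τ = 1 := congrArg Subtype.val h1
    rw [← MulAut.mul_apply, h2, MulAut.one_apply]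
  have hconj : ∀ g : G, σ (τ (σ g)) = τ g := by
    intro g
    have h1 : s * t * s = t := e.injective (by
      rw [map_mul, map_mul, het]
      have h2 := congrArg (fun q => e s * q) (congrArg (fun q => q * Equiv.swap 0 1) hinv)
      simp only [mul_assoc, Equiv.swap_mul_self, mul_one, mul_inv_cancel_left] at h2
      simpa [mul_assoc] using h2)
    have h2 : σ * τ * σ = τ := congrArg Subtype.val h1
    calc σ (τ (σ g)) = (σ * τ * σ) g := rfl
      _ = τ g := by rw [h2]
  have hτinv : ∀ g, σ g = g → σ (τ g) = τ g := fun g hg => by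
    have := hconj g
    rwa [hg] at this
  have hfix : ∀ g, σ g = g → τ g = g → g = 1 := by
    intro g hg hg'
    refine hfpf g fun x hx => ?_
    have hcase : ∀ y : ↥Sig, e ⟨x, hx⟩ = e y → (y : MulAut G) g = g → x g = g := fun y hy hyg => by
      have h0 : (⟨x, hx⟩ : ↥Sig) = y := e.injective hy
      rw [show x = (y : MulAut G) from congrArg Subtype.val h0]; exact hyg
    rcases hgen (e ⟨x, hx⟩) with q | q | q | q | q | q
    · exact hcase 1 (by rw [q, map_one]) rfl
    · exact hcase s q hg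
    · exact hcase (s * s) (by rw [q, map_mul]) (show σ (σ g) = g by rw [hg, hg])
    · exact hcase t (by rw [q, het]) hg'
    · exact hcase (t * s) (by rw [q, map_mul, het]) (show τ (σ g) = g by rw [hg, hg'])
    · exact hcase (t * (s * s)) (by rw [q, map_mul, map_mul, het])
        (show τ (σ (σ g)) = g by rw [hg, hg, hg'])
  -- `τ` inverts the fixed points of `σ`
  let f : fix σ → fix σ := fun c =>
    ⟨(c : G)⁻¹ * τ c, mul_mem (inv_mem c.2) (mem_fix.2 (hτinv c c.2))⟩
  have hf : Function.Injective f := by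
    intro a b hab
    have h1 : (a : G)⁻¹ * τ a = (b : G)⁻¹ * τ b := congrArg Subtype.val hab
    have h2 : τ ((b : G) * (a : G)⁻¹) = (b : G) * (a : G)⁻¹ := by
      rw [map_mul, map_inv]
      calc τ (b : G) * (τ (a : G))⁻¹
          = (b : G) * ((b : G)⁻¹ * τ b) * ((a : G)⁻¹ * τ a)⁻¹ * (a : G)⁻¹ := by group
        _ = _ := by rw [h1]; group
    exact Subtype.ext (mul_inv_eq_one.1 (hfix _ (mul_mem b.2 (inv_mem a.2) : (b : G) * (a : G)⁻¹ ∈ fix σ) h2)).symm
  have hτneg : ∀ g, σ g = g → τ g = g⁻¹ := by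
    intro g hg
    obtain ⟨x, hx⟩ := Finite.surjective_of_injective hf ⟨g, hg⟩
    have h1 : (x : G)⁻¹ * τ x = g := congrArg Subtype.val hx
    rw [← h1, map_mul, map_inv, ht2]
    group
  constructor
  · intro g
    have h1 : σ ^ 3 = 1 := by rw [← hord]; exact pow_orderOf_eq_one σ
    calc σ (σ (σ g)) = (σ ^ 3) g := rfl
      _ = g := by rw [h1, MulAut.one_apply]
  · exact h3
  · intro g hg
    rcases Nat.even_or_odd (orderOf g) with he | ho
    · exfalso
      obtain ⟨k, hk⟩ := he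
      have hk2 : g ^ k * g ^ k = 1 := by rw [← pow_add, ← hk, pow_orderOf_eq_one]
      have hgk : σ (g ^ k) = g ^ k := by rw [map_pow, hg]
      have h1 : g ^ k = 1 := hfix _ hgk ((hτneg _ hgk).trans (inv_eq_of_mul_eq_one_right hk2))
      have h2 := Nat.le_of_dvd (by have := orderOf_pos g; omega) (orderOf_dvd_of_pow_eq_one h1)
      have := orderOf_pos g
      omega
    · exact ho
  · intro a b ha hb
    have h1 := hτneg (a * b) (by rw [map_mul, ha, hb])
    rw [map_mul, hτneg a ha, hτneg b hb] at h1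
    have h2 := congrArg (fun q => q⁻¹) h1
    simpa using h2.symm

/-- Let G be a finite group of even order coprime to 3, and let Σ be a group of automorphisms of G isomorphic to the symmetric group of degree 3 that is fixed-point-free (only the identity of G is fixed by every element of Σ). Then G is solvable, O_{2′,2}(G) (the preimage in G of O₂(G/O(G))) has odd index in G, and G = O_{2′,2}(G) C_G(σ) for every element σ of Σ of order 3; that is, O₂(G/O(G)) is a Sylow 2-subgroup of G/O(G) and G/O(G) = O₂(G/O(G)) C_{G/O(G)}(σ). -/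
theorem result {G : Type*} [Group G] [Finite G] (heven : 2 ∣ Nat.card G) (h3 : ¬ 3 ∣ Nat.card G)
    (Sig : Subgroup (MulAut G)) (hS3 : Nonempty (↥Sig ≃* Equiv.Perm (Fin 3))) (hfpf : ∀ g : G, (∀ σ ∈ Sig, σ g = g) → g = 1) :
    Group.IsSolvable G ∧ ¬ 2 ∣ (Cfsg.pPrimePCore 2 G).index ∧ ∀ σ ∈ Sig, orderOf σ = 3 →
      Cfsg.pPrimePCore 2 G ⊔ Subgroup.closure {g : G | σ g = g} = ⊤ := by
  obtain ⟨e⟩ := hS3
  have hmain : ∀ σ ∈ Sig, orderOf σ = 3 → Good σ ∧ Concl σ := fun σ hσ hord =>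
    ⟨good h3 Sig e hfpf hσ hord, concl G σ (good h3 Sig e hfpf hσ hord)⟩
  obtain ⟨σ₀, hσ₀, hord₀⟩ : ∃ σ ∈ Sig, orderOf σ = 3 := by
    refine ⟨_, (e.symm (finRotate 3)).2, ?_⟩
    rw [Subgroup.orderOf_coe, MulEquiv.orderOf_eq]
    exact orderOf_eq_prime (p := 3) (hp := ⟨Nat.prime_three⟩) (by decide) (by decide)
  obtain ⟨hg, hsol, hdec⟩ := hmain σ₀ hσ₀ hord₀
  refine ⟨hsol, fun h2 => ?_, fun σ hσ hord => ?_⟩
  · haveI : (pPrimePCore 2 G).Normal := inferInstance
    have hsurj : Function.Surjective ((QuotientGroup.mk' (pPrimePCore 2 G)).comp (fix σ₀).subtype) :=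
      fun q => by
        obtain ⟨g, rfl⟩ := QuotientGroup.mk_surjective q
        obtain ⟨p, hp, c, hc, rfl⟩ := hdec g
        refine ⟨⟨c, hc⟩, ?_⟩
        show ((c : G) : G ⧸ pPrimePCore 2 G) = (p * c : G)
        rw [QuotientGroup.mk_mul, (QuotientGroup.eq_one_iff p).2 hp, one_mul]
    exact Nat.not_even_iff_odd.2 hg.card_fix
      (even_iff_two_dvd.2 (h2.trans (Subgroup.card_dvd_of_surjective _ hsurj)))
  · refine eq_top_iff.2 fun g _ => ?_
    obtain ⟨p, hp, c, hc, rfl⟩ := (hmain σ hσ hord).2.2 g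
    exact mul_mem (Subgroup.mem_sup_left hp) (Subgroup.mem_sup_right (Subgroup.subset_closure hc))

end Cfsg.Agent.S3040
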