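import Cfsg.Statements.S3043
import Cfsg.Agent.Lib.TI85Affine

set_option autoImplicit false
open Cfsg
open scoped Pointwise

namespace Cfsg.Agent.S3043

/-- Let M be a nontrivial subgroup of a finite group G meeting each of its other conjugates trivially, with N_G(M) = M · C_{N_G(M)}(z) for some involution z ∈ N_G(M), and with C_G(x) of odd order for every nontrivial x ∈ M. Then one of the following holds: M is normal in G; the number of involutions of G is at most |G : M|; G is isomorphic to PGL₂(F) or to PSL₂(F) for a finite field F with |F| = |M|, M is an elementary abelian p-group for the characteristic p of F, and |F| ≡ 1 (mod 4) in the PSL₂ case; G is isomorphic to PSL₂(F) with |F| = 2^e, e > 1, and M is cyclic of order 2^e + 1; or for some d ≥ 1, G has an elementary abelian normal subgroup of order 2^{2d} complemented by N_G(M), and N_G(M) is dihedral of order 2(2^d + 1). -/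
theorem result {G : Type*} [Group G] [Finite G] (M : Subgroup G) (hM1 : M ≠ ⊥)
    (hTI : ∀ g : G, M ⊓ M.map (MulAut.conj g).toMonoidHom ≠ ⊥ → M.map (MulAut.conj g).toMonoidHom = M)
    (z : G) (hz : orderOf z = 2) (hzN : z ∈ Subgroup.normalizer (M : Set G))
    (hfac : M ⊔ (Subgroup.normalizer (M : Set G) ⊓ Subgroup.centralizer ({z} : Set G)) = Subgroup.normalizer (M : Set G))
    (hodd : ∀ x ∈ M, x ≠ 1 → Odd (Nat.card ↥(Subgroup.centralizer ({x} : Set G)))) :
    M.Normal ∨
    Nat.card {g : G // orderOf g = 2} ≤ M.index ∨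
    (∃ (F : Type) (_ : Field F) (_ : Fintype F) (p : ℕ) (_ : Fact p.Prime) (_ : CharP F p), Fintype.card F = Nat.card M ∧ Cfsg.IsElementaryAbelian p M ∧
        (Nonempty (G ≃* (GL (Fin 2) F ⧸ Subgroup.center (GL (Fin 2) F))) ∨
         (Fintype.card F % 4 = 1 ∧ Nonempty (G ≃* Matrix.ProjectiveSpecialLinearGroup (Fin 2) F)))) ∨
    (∃ (F : Type) (_ : Field F) (_ : Fintype F) (e : ℕ), 1 < e ∧ Fintype.card F = 2 ^ e ∧ IsCyclic ↥M ∧ Nat.card M = 2 ^ e + 1 ∧
        Nonempty (G ≃* Matrix.ProjectiveSpecialLinearGroup (Fin 2) F)) ∨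
    (∃ (d : ℕ) (E : Subgroup G), 1 ≤ d ∧ E.Normal ∧ Cfsg.IsElementaryAbelian 2 E ∧ Nat.card E = 2 ^ (2 * d) ∧
        E ⊓ Subgroup.normalizer (M : Set G) = ⊥ ∧ E ⊔ Subgroup.normalizer (M : Set G) = ⊤ ∧
        Nonempty (↥(Subgroup.normalizer (M : Set G)) ≃* DihedralGroup (2 ^ d + 1))) := by
  classical
  by_cases hN : M.Normal
  · exact Or.inl hN
  refine Or.inr ?_
  by_cases hI : Nat.card {g : G // orderOf g = 2} ≤ M.index
  · exact Or.inl hI
  refine Or.inr ?_
  have hy : TI85.Hyp M z := by
    refine ⟨hM1, fun x hx hx1 g hg => ?_, hz, hzN, fun n hn => ?_, hodd⟩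
    · have h := hTI g (fun e => hx1 (by
        have hm : g * x * g⁻¹ ∈ M ⊓ M.map (MulAut.conj g).toMonoidHom := ⟨hg, x, hx, rfl⟩
        rw [e, Subgroup.mem_bot] at hm
        exact conj_eq_one_iff.1 hm))
      refine Subgroup.mem_normalizer_iff.2 fun y => ?_
      constructor
      · intro hy'
        have : g * y * g⁻¹ ∈ M.map (MulAut.conj g).toMonoidHom := ⟨y, hy', rfl⟩
        rwa [h] at this
      · intro hy'
        rw [← h] at hy'
        obtain ⟨y', hy'', e⟩ := hy'
        have : y' = y := by simpa using e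
        exact this ▸ hy''
    · change n ∈ Subgroup.normalizer (M : Set G) at hn
      rw [← hfac] at hn
      have h := Subgroup.coe_mul_of_right_le_normalizer_left M
        (Subgroup.normalizer (M : Set G) ⊓ Subgroup.centralizer ({z} : Set G)) inf_le_left
      have hn' : n ∈ (M : Set G) * ((Subgroup.normalizer (M : Set G) ⊓
          Subgroup.centralizer ({z} : Set G) : Subgroup G) : Set G) := by
        rw [← h]; exact hn
      obtain ⟨x, hx, k, hk, e⟩ := hn'
      exact ⟨x, hx, k, hk, e⟩
  have hb : TI85.Big M z := { hy with big := by rw [← Nat.card_coe_set_eq]; exact not_le.1 hI }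
  obtain ⟨g, hg⟩ : ∃ g, g ∉ Subgroup.normalizer (M : Set G) := by
    by_contra h
    push Not at h
    exact hN (Subgroup.normalizer_eq_top_iff.1 ((Subgroup.eq_top_iff' _).2 h))
  have hne := hb.exists_out hg
  by_cases hh : Nat.card (TI85.Hz M z) = 2
  · obtain ⟨d, hd, hC, hout, hm, hG⟩ := hb.small_arith hh hne
    rcases hm with hm | hm
    · obtain ⟨E, hEn, hEel, hEc, hEi, hEs, hdih⟩ := hb.affine_case hh hd hC hout hm hG
      exact Or.inr (Or.inr ⟨d, E, hd, hEn, hEel, hEc, hEi, hEs, hdih⟩)
    · exact Or.inr (Or.inl (hb.psl_case hh hd hC hout hm hG))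
  · have hpair : ∀ c ∈ TI85.Out M z, ∀ e ∈ TI85.Out M z, c * e ∈ TI85.Nz M := by
      intro c hc e he
      by_contra hce
      have hce' : c * e ∈ TI85.Out M z := ⟨(TI85.Cz z).mul_mem hc.1 he.1, hce⟩
      refine hh ?_
      have hall : ∀ k ∈ TI85.Hz M z, k = 1 ∨ k = z := by
        intro k hk
        by_cases hk1 : k = 1
        · exact Or.inl hk1
        refine Or.inr (hy.H_invol hk ?_ hk1)
        have h1 := hb.H_inverted hce' hk
        have hc2 := hb.out_invol hc
        have he2 := hb.out_invol he
        have h2 : c * e * k * (c * e)⁻¹ = k := by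
          calc c * e * k * (c * e)⁻¹ = c * (e * k * e) * c := by
                rw [mul_inv_rev, TI85.inv_of_sq he2, TI85.inv_of_sq hc2]; group
            _ = k := by
                rw [hb.H_inverted he hk, hb.H_inverted hc ((TI85.Hz M z).inv_mem hk), inv_inv]
        rw [TI85.inv_of_sq (hb.out_invol hce'), h1] at h2
        calc k * k = k⁻¹ * k := by rw [h2]
          _ = 1 := inv_mul_cancel k
      have hset : (TI85.Hz M z : Set G) = {1, z} := by
        ext k
        constructor
        · exact hall k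
        · rintro (rfl | h)
          · exact (TI85.Hz M z).one_mem
          · rw [Set.mem_singleton_iff] at h; rw [h]; exact hy.z_mem_Hz
      rw [← SetLike.coe_sort_coe, Nat.card_coe_set_eq, hset, Set.ncard_pair hy.z_ne.symm]
    exact Or.inl (hb.line_case hne hpair)

end Cfsg.Agent.S3043
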