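import Cfsg.Statements.S3045
import Cfsg.Agent.S2790
import Cfsg.Agent.S2905
import Cfsg.Agent.Lib.ComponentsFitting
import Cfsg.Agent.Lib.HallCore
import Cfsg.Agent.Lib.HallSolvable
import Cfsg.Agent.Lib.CoprimeAction
import Cfsg.Agent.Lib.TransferPResidual

set_option autoImplicit false
open Cfsg

namespace Cfsg.Agent.S3045

open Subgroup
open scoped Pointwise commutatorElement

/-- A subgroup over `S` lies in every subgroup containing its part of `N(S)` and its `p`-minimal
subgroups over `S`. -/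
theorem le_of_minimals {G : Type*} [Group G] [Finite G] {p : ℕ} [Fact p.Prime] (S : Sylow p G)
    (H K : Subgroup G) (hSH : (S : Subgroup G) ≤ H)
    (hN : Subgroup.normalizer ((S : Subgroup G) : Set G) ⊓ H ≤ K)
    (hP : ∀ P' : Subgroup G, (S : Subgroup G) ≤ P' → P' ≤ H → Cfsg.IsPMinimal p ↥P' → P' ≤ K) :
    H ≤ K := by
  obtain ⟨h1, h2⟩ := Cfsg.Agent.S2790.result (S.subtype hSH)
  have hsup : Cfsg.pElementClosure p (⊤ : Subgroup H) ≤ K.subgroupOf H := by
    rw [← h1]
    refine sup_le (fun x hx => ?_) (iSup_le fun P' => ?_)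
    · rw [Sylow.coe_subtype, mem_subgroupOf] at hx
      exact mem_subgroupOf.2 (hN ⟨le_normalizer hx, x.2⟩)
    · obtain ⟨P', hSP', hP'⟩ := P'
      have h := hP (P'.map H.subtype) (fun x hx => ⟨⟨x, hSH hx⟩, hSP' (by
          rw [Sylow.coe_subtype, mem_subgroupOf]; exact hx), rfl⟩) (map_subtype_le _)
        (Cfsg.Agent.S2790.pMinimal_equiv (P'.equivMapOfInjective _ H.subtype_injective) hP')
      exact fun x hx => mem_subgroupOf.2 (h ⟨x, hx, rfl⟩)
  intro g hg
  obtain ⟨x, hx, y, hy, hxy⟩ := h2 ⟨g, hg⟩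
  have hy' : (y : G) ∈ Subgroup.normalizer ((S : Subgroup G) : Set G) := by
    have := Subgroup.le_normalizer_map H.subtype ⟨y, hy, rfl⟩
    rwa [Sylow.coe_subtype, Subgroup.subgroupOf_map_subtype, inf_of_le_left hSH] at this
  have : g = (x : G) * y := congrArg Subtype.val hxy
  rw [this]
  exact mul_mem (mem_subgroupOf.1 (hsup hx)) (hN ⟨hy', y.2⟩)

/-- Let G be a finite group, p a prime, S a Sylow p-subgroup of G and P a p-minimal subgroup of G containing S. Let L be the subgroup generated by N_G(S) and all p-minimal subgroups of G containing S other than P, and suppose O_p(L) is not contained in O_p(P). Put Y for the normal closure of O^p(P) in G. Then O^p(P) is contained in the preimage in G of F*(G/O_p(G)); and if Y is solvable, then Y = O^p(P) and Y/O_p(Y) is a t-group of nilpotency class at most 2 for some prime t ≠ p. -/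
theorem result {G : Type*} [Group G] [Finite G] {p : ℕ} [Fact p.Prime] (S : Sylow p G) (P : Subgroup G) (hSP : (S : Subgroup G) ≤ P) (hPmin : Cfsg.IsPMinimal p ↥P)
    (L Y : Subgroup G)
    (hL : L = Subgroup.normalizer ((S : Subgroup G) : Set G) ⊔ ⨆ P' : {P' : Subgroup G // (S : Subgroup G) ≤ P' ∧ Cfsg.IsPMinimal p ↥P' ∧ P' ≠ P}, (P' : Subgroup G))
    (hiso : ¬ (Cfsg.pCore p ↥L).map L.subtype ≤ (Cfsg.pCore p ↥P).map P.subtype)
    (hY : Y = Subgroup.normalClosure (((Cfsg.pResidual p ↥P).map P.subtype : Subgroup G) : Set G)) [hn : (Cfsg.pCore p G).Normal] :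
    (Cfsg.pResidual p ↥P).map P.subtype ≤ (Cfsg.generalizedFittingSubgroup (G ⧸ Cfsg.pCore p G)).comap (QuotientGroup.mk' (Cfsg.pCore p G)) ∧
    (Group.IsSolvable ↥Y → (Cfsg.pResidual p ↥P).map P.subtype = Y ∧
       ∃ _ : (Cfsg.pCore p ↥Y).Normal, ∃ t : ℕ, t.Prime ∧ t ≠ p ∧ IsPGroup t (↥Y ⧸ Cfsg.pCore p ↥Y) ∧
         ∃ _ : Group.IsNilpotent (↥Y ⧸ Cfsg.pCore p ↥Y), Group.nilpotencyClass (↥Y ⧸ Cfsg.pCore p ↥Y) ≤ 2) := by
  classical
  set X := (Cfsg.pResidual p ↥P).map P.subtype with hXdef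
  set Q := (Cfsg.pCore p ↥L).map L.subtype with hQdef
  set R := Cfsg.pCore p G with hRdef
  haveI : (Cfsg.pCore p ↥P).Normal := Cfsg.Agent.HallCore.pCore_normal_inst p ↥P
  haveI : (Cfsg.pCore p ↥L).Normal := Cfsg.Agent.HallCore.pCore_normal_inst p ↥L
  have hXP : X ≤ P := map_subtype_le _
  have hSL : (S : Subgroup G) ≤ L := hL ▸ le_sup_of_le_left le_normalizer
  have hQL : Q ≤ L := map_subtype_le _
  have hQS : Q ≤ (S : Subgroup G) := by
    rintro x ⟨y, hy, rfl⟩
    have := Cfsg.Agent.HallCore.pCore_le_sylow (S.subtype hSL) hy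
    rwa [Sylow.coe_subtype, mem_subgroupOf] at this
  have hRS : R ≤ (S : Subgroup G) := Cfsg.Agent.HallCore.pCore_le_sylow S
  have hRQ : R ≤ Q := fun x hx =>
    ⟨⟨x, hSL (hRS hx)⟩, Cfsg.Agent.LocGroup56.le_pCore (N := R.subgroupOf L) inferInstance
      ((Cfsg.Agent.LocGroup56.pCore_isPGroup p G).comap_subtype) hx, rfl⟩
  have hQp : IsPGroup p Q := S.2.to_le hQS
  have hLQ : L ≤ normalizer (Q : Set G) := Cfsg.Agent.LocGroup56.le_normalizer_of_conj fun g hg x hx => by
    obtain ⟨y, hy, rfl⟩ := hx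
    exact ⟨_, (inferInstance : (Cfsg.pCore p ↥L).Normal).conj_mem y hy ⟨g, hg⟩, rfl⟩
  haveI hXn : (Cfsg.pResidual p ↥P).Normal := by
    refine ⟨fun x hx g => ?_⟩
    have h := TransferPResidual.map_pResidual_equiv (p := p) (MulAut.conj g : ↥P ≃* ↥P)
    exact h.le ⟨x, hx, by simp⟩
  have hPX : P ≤ normalizer (X : Set G) := Cfsg.Agent.LocGroup56.le_normalizer_of_conj fun g hg x hx => by
    obtain ⟨y, hy, rfl⟩ := hx
    exact ⟨_, hXn.conj_mem y hy ⟨g, hg⟩, rfl⟩
  have hPXS : P = X ⊔ (S : Subgroup G) := by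
    have h := congrArg (Subgroup.map P.subtype) (TransferPResidual.sylow_sup_pResidual (S.subtype hSP))
    rw [Subgroup.map_sup, ← MonoidHom.range_eq_map, P.range_subtype, Sylow.coe_subtype,
      subgroupOf_map_subtype, inf_of_le_left hSP] at h
    rw [sup_comm]; exact h.symm
  -- `X` is in every normal subgroup containing `Q`
  obtain ⟨hSn, M, hM, -⟩ := hPmin (S.subtype hSP)
  haveI : M.normalCore.Normal := M.normalCore_normal
  obtain ⟨hA, -, hB, -, -⟩ := Cfsg.Agent.S2905.result hPmin (S.subtype hSP) M hM.1 hM.2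
  have hD : ∀ D : Subgroup G, D.Normal → Q ≤ D → X ≤ D := by
    intro D hDn hQD
    haveI := hDn
    rcases hB (D.subgroupOf P) inferInstance with h | h
    · rintro x ⟨y, hy, rfl⟩; exact h hy
    · refine absurd (fun x hx => ?_) hiso
      exact ⟨⟨x, hSP (hQS hx)⟩, hA (D.subgroupOf P) (Subgroup.Normal.isSubnormal inferInstance)
        (h.trans M.normalCore_le) ⟨hQD hx, by
          rw [Sylow.coe_subtype]; exact mem_subgroupOf.2 (hQS hx)⟩, rfl⟩
  -- `X` does not normalise `Q`
  have hXQ : ¬ X ≤ normalizer (Q : Set G) := by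
    intro h
    have hP : P ≤ normalizer (Q : Set G) := hPXS ▸ sup_le h (hSL.trans hLQ)
    haveI := (Subgroup.normal_subgroupOf_iff_le_normalizer (hQS.trans hSP)).2 hP
    refine hiso fun x hx => ⟨⟨x, hSP (hQS hx)⟩, ?_, rfl⟩
    exact Cfsg.Agent.LocGroup56.le_pCore (N := Q.subgroupOf P) inferInstance (hQp.comap_subtype) hx
  -- the `p`-minimal subgroups other than `P` lie in `L`
  have hP'L : ∀ P' : Subgroup G, (S : Subgroup G) ≤ P' → Cfsg.IsPMinimal p ↥P' → P' ≠ P → P' ≤ L :=
    fun P' h1 h2 h3 => hL ▸ le_sup_of_le_right (le_iSup (fun P'' : {P' : Subgroup G //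
      (S : Subgroup G) ≤ P' ∧ Cfsg.IsPMinimal p ↥P' ∧ P' ≠ P} => (P'' : Subgroup G)) ⟨P', h1, h2, h3⟩)
  have hNL : normalizer ((S : Subgroup G) : Set G) ≤ L := hL ▸ le_sup_left
  -- the dichotomy
  have hdich : ∀ N : Subgroup G, N.Normal → X ≤ N ∨ ⁅Q, N⁆ ≤ R := by
    intro N hNn
    haveI := hNn
    by_cases hPN : P ≤ N ⊔ (S : Subgroup G)
    · refine Or.inl ?_
      rw [hXdef, map_le_iff_le_comap, TransferPResidual.pResidual_le_iff_coprime]
      intro g hg
      obtain ⟨n, hn', s, hs, hns⟩ := mem_sup_of_normal_left.1 (hPN g.2)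
      show (g : G) ∈ N
      rw [← QuotientGroup.eq_one_iff, ← orderOf_eq_one_iff]
      have hq : ((g : G) : G ⧸ N) = (s : G ⧸ N) := by
        rw [← hns, QuotientGroup.mk_mul, (QuotientGroup.eq_one_iff n).2 hn', one_mul]
      obtain ⟨k, hk⟩ := S.2 ⟨s, hs⟩
      have hk' : s ^ p ^ k = 1 := congrArg Subtype.val hk
      refine Nat.eq_one_of_dvd_coprimes (hg.pow_right k) ?_ ?_
      · rw [← Subgroup.orderOf_coe]; exact orderOf_map_dvd (QuotientGroup.mk' N) (g : G)
      · rw [hq]
        exact (orderOf_map_dvd (QuotientGroup.mk' N) s).trans (orderOf_dvd_of_pow_eq_one hk')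
    · refine Or.inr ?_
      have hNSL : N ⊔ (S : Subgroup G) ≤ L := le_of_minimals S _ L le_sup_right
        (inf_le_left.trans hNL) fun P' h1 h2 h3 => hP'L P' h1 h3 (fun h => hPN (h ▸ h2))
      have hND : N ≤ L := le_sup_left.trans hNSL
      have hcomm : ⁅Q, N⁆ ≤ Q ⊓ N := by
        rw [Subgroup.commutator_le]
        intro q hq x hx
        refine ⟨?_, ?_⟩
        · rw [commutatorElement_def, mul_assoc q, mul_assoc q]
          exact mul_mem hq (Cfsg.Agent.LocGroup56.conj_mem_of_mem_normalizer (hLQ (hND hx)) (inv_mem hq))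
        · show ⁅q, x⁆ ∈ N
          rw [commutatorElement_def]
          exact mul_mem (hNn.conj_mem x hx q) (inv_mem hx)
      refine hcomm.trans (Cfsg.Agent.ComponentsCores.subnormal_pGroup_le_pCore ?_ (hQp.to_le inf_le_left))
      haveI : ((Q ⊓ N).subgroupOf N).Normal := by
        refine (Subgroup.normal_subgroupOf_iff_le_normalizer inf_le_right).2 ?_
        exact Cfsg.Agent.LocGroup56.le_normalizer_of_conj fun g hg x hx =>
          ⟨Cfsg.Agent.LocGroup56.conj_mem_of_mem_normalizer (hLQ (hND hg)) hx.1,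
            hNn.conj_mem x hx.2 g⟩
      exact Subgroup.IsSubnormal.step _ N inf_le_right (Subgroup.Normal.isSubnormal hNn) inferInstance
  -- pass to the quotient
  set f := QuotientGroup.mk' R with hf
  have hfs : Function.Surjective f := QuotientGroup.mk'_surjective R
  have hker : ∀ x, f x = 1 ↔ x ∈ R := fun x => QuotientGroup.eq_one_iff x
  have hbarD : ∀ N : Subgroup (G ⧸ R), N.Normal →
      X.map f ≤ N ∨ (Q.map f ≤ centralizer (N : Set (G ⧸ R)) ∧ X.map f ≤ centralizer (N : Set (G ⧸ R))) := by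
    intro N hNn
    haveI := hNn
    rcases hdich (N.comap f) (hNn.comap f) with h | h
    · exact Or.inl (map_le_iff_le_comap.2 h)
    · refine Or.inr ?_
      have hQ : Q.map f ≤ centralizer (N : Set (G ⧸ R)) := by
        rintro _ ⟨q, hq, rfl⟩
        rw [mem_centralizer_iff]
        intro n hn'
        obtain ⟨n, rfl⟩ := hfs n
        have : f ⁅q, n⁆ = 1 := (hker _).2 (h (Subgroup.commutator_mem_commutator hq hn'))
        rw [map_commutatorElement, commutatorElement_eq_one_iff_mul_comm] at this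
        exact this.symm
      exact ⟨hQ, map_le_iff_le_comap.2 (hD _ ((inferInstance : (centralizer (N : Set (G ⧸ R))).Normal).comap f)
        (map_le_iff_le_comap.1 hQ))⟩
  have hnotcent : ¬ Q.map f ≤ centralizer ((X.map f : Subgroup (G ⧸ R)) : Set (G ⧸ R)) := by
    intro h
    refine hXQ (Cfsg.Agent.LocGroup56.le_normalizer_of_conj fun x hx q hq => ?_)
    have h1 := mem_centralizer_iff.1 (h ⟨q, hq, rfl⟩) (f x) ⟨x, hx, rfl⟩
    have h2 : x * q * x⁻¹ * q⁻¹ ∈ R := by
      rw [← hker, map_mul, map_mul, map_mul, map_inv, map_inv, h1]; group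
    simpa using mul_mem (hRQ h2) hq
  constructor
  · rw [← map_le_iff_le_comap]
    haveI : (Cfsg.generalizedFittingSubgroup (G ⧸ R)).Normal := Cfsg.Agent.ComponentsFitting.gen_normal
    rcases hbarD (Cfsg.generalizedFittingSubgroup (G ⧸ R)) inferInstance with h | h
    · exact h
    · exact h.2.trans Cfsg.Agent.ComponentsFitting.centralizer_gen_le
  intro hsol
  haveI := hsol
  haveI hYn : Y.Normal := hY ▸ Subgroup.normalClosure_normal
  have hXY : X ≤ Y := hY ▸ Subgroup.le_normalClosure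
  have hYle : ∀ D : Subgroup (G ⧸ R), D.Normal → X.map f ≤ D → Y.map f ≤ D := by
    intro D hDn h
    haveI := hDn
    rw [map_le_iff_le_comap, hY]
    exact Subgroup.normalClosure_le_normal (map_le_iff_le_comap.1 h)
  set Yb := Y.map f with hYb
  set Xb := X.map f with hXb
  set Qb := Q.map f with hQb
  set Sb := (S : Subgroup G).map f with hSb
  haveI hYbn : Yb.Normal := hYn.map f hfs
  have hXYb : Xb ≤ Yb := map_mono hXY
  haveI : Group.IsSolvable ↥Yb :=
    Group.isSolvable_of_surjective (f := f.subgroupMap Y) (f.subgroupMap_surjective Y)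
  -- `Ȳ` is nilpotent
  haveI hnil : Group.IsNilpotent ↥Yb := by
    haveI : (Cfsg.fittingSubgroup ↥Yb).Characteristic :=
      Subgroup.characteristic_iff_map_eq.2 fun e => Cfsg.Agent.ComponentsCores.fitting_map_mulEquiv e
    set F := (Cfsg.fittingSubgroup ↥Yb).map Yb.subtype
    haveI hFn : F.Normal := inferInstance
    rcases hbarD F hFn with h | h
    · exact Cfsg.Agent.ComponentsCores.nilpotent_of_le (hYle F hFn h)
        ((Cfsg.Agent.ComponentsCores.isNilpotent_map_subtype_iff _).2 inferInstance)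
    · have h1 := hYle _ inferInstance h.2
      have htop : Cfsg.fittingSubgroup ↥Yb = ⊤ := eq_top_iff.2 fun y _ =>
        Cfsg.Agent.HallSolvable.centralizer_fitting_le (mem_centralizer_iff.2 fun z hz =>
          Subtype.ext (mem_centralizer_iff.1 (h1 y.2) _ ⟨z, hz, rfl⟩))
      haveI : Group.IsNilpotent ↥(⊤ : Subgroup ↥Yb) :=
        htop ▸ (inferInstance : Group.IsNilpotent ↥(Cfsg.fittingSubgroup ↥Yb))
      exact Group.nilpotent_of_mulEquiv Subgroup.topEquiv
  have hsyl : ∀ (t : ℕ) [Fact t.Prime] (T : Sylow t ↥Yb), ((T : Subgroup ↥Yb).map Yb.subtype).Normal := by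
    intro t _ T
    haveI : (T : Subgroup ↥Yb).Normal :=
      Sylow.normal_of_normalizerCondition Group.normalizerCondition_of_isNilpotent T
    haveI := Sylow.characteristic_of_normal T inferInstance
    infer_instance
  have hpY : ¬ p ∣ Nat.card Yb := by
    obtain ⟨T⟩ : Nonempty (Sylow p ↥Yb) := inferInstance
    have h1 : (T : Subgroup ↥Yb).map Yb.subtype = ⊥ := le_bot_iff.1 (by
      haveI := hsyl p T
      refine le_of_le_of_eq ?_ (Cfsg.Agent.HallCore.pCore_quotient_self p G)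
      exact Cfsg.Agent.HallCore.le_pCore (T.2.map _))
    rw [map_eq_bot_iff_of_injective _ Yb.subtype_injective] at h1
    have := T.not_dvd_index
    rwa [h1, index_bot] at this
  have hdisj : ∀ D : Subgroup (G ⧸ R), IsPGroup p D → D ⊓ Yb = ⊥ := by
    intro D hD
    rw [← card_eq_one]
    obtain ⟨j, hj⟩ := IsPGroup.iff_card.1 (hD.to_le (inf_le_left : D ⊓ Yb ≤ D))
    rw [hj]
    rcases Nat.eq_zero_or_pos j with rfl | hj0
    · rfl
    · exact absurd ((hj ▸ dvd_pow_self p hj0.ne').trans (card_dvd_of_le inf_le_right)) hpY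
  -- some prime
  obtain ⟨t, ht, htY⟩ : ∃ t : ℕ, t.Prime ∧ IsPGroup t ↥Yb := by
    by_contra hcon
    push Not at hcon
    refine hnotcent (fun q hq => ?_)
    set C := (centralizer (Qb : Set (G ⧸ R))).subgroupOf Yb with hC
    have hidx : C.index = 1 := by
      by_contra hne
      obtain ⟨t, ht, htd⟩ := Nat.exists_prime_and_dvd hne
      haveI := Fact.mk ht
      obtain ⟨T⟩ : Nonempty (Sylow t ↥Yb) := inferInstance
      rcases hbarD _ (hsyl t T) with h | h
      · refine hcon t ht (IsPGroup.to_le ?_ (hYle _ (hsyl t T) h))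
        exact T.2.map _
      · have hTC : (T : Subgroup ↥Yb) ≤ C := fun y hy => mem_subgroupOf.2
          (mem_centralizer_iff.2 fun q hq => (mem_centralizer_iff.1 (h.1 hq) _ ⟨y, hy, rfl⟩).symm)
        exact T.not_dvd_index (htd.trans (index_dvd_of_le hTC))
    rw [index_eq_one] at hidx
    rw [mem_centralizer_iff]
    intro x hx
    have : (⟨x, hXYb hx⟩ : ↥Yb) ∈ C := hidx ▸ mem_top _
    exact (mem_centralizer_iff.1 (mem_subgroupOf.1 this) q hq).symm
  -- the derived group is central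
  have hYne : Yb ≠ ⊥ := by
    intro h
    refine hnotcent fun q _ => mem_centralizer_iff.2 fun x hx => ?_
    have : x = 1 := mem_bot.1 (h ▸ hXYb hx)
    simp [this]
  haveI : Nontrivial ↥Yb := (nontrivial_iff_ne_bot Yb).2 hYne
  set D := ⁅Yb, Yb⁆ with hDdef
  have hDY : D ≤ Yb := commutator_le_right _ _
  haveI hDn : D.Normal := inferInstance
  have hDc : Yb ≤ centralizer (D : Set (G ⧸ R)) := by
    rcases hbarD D hDn with h | h
    · exfalso
      have h1 : Yb ≤ D := hYle D hDn h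
      have h2 : ⁅(⊤ : Subgroup ↥Yb), ⊤⁆ = ⊤ := map_injective Yb.subtype_injective (by
        rw [map_commutator, ← MonoidHom.range_eq_map, Yb.range_subtype]
        exact le_antisymm hDY h1)
      exact (Group.IsSolvable.commutator_lt_top_of_nontrivial ↥Yb).ne h2
    · exact hYle _ inferInstance h.2
  -- `Ȳ = [Ȳ, Q̄]`
  have hcop : (Nat.card Qb).Coprime (Nat.card Yb) := by
    obtain ⟨j, hj⟩ := IsPGroup.iff_card.1 (hQp.map f)
    rw [hQb, hj]
    exact Nat.Coprime.pow_left _ ((Fact.out : p.Prime).coprime_iff_not_dvd.2 hpY)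
  have hQY : Qb ≤ normalizer (Yb : Set (G ⧸ R)) := (normalizer_eq_top (H := Yb)).symm ▸ le_top
  have hGLX : (⊤ : Subgroup G) ≤ L ⊔ X := by
    refine le_of_minimals S ⊤ _ le_top (inf_le_left.trans (hNL.trans le_sup_left)) fun P' h1 _ h3 => ?_
    by_cases h : P' = P
    · rw [h, hPXS]; exact sup_le le_sup_right (hSL.trans le_sup_left)
    · exact (hP'L P' h1 h3 h).trans le_sup_left
  haveI hKn : ⁅Yb, Qb⁆.Normal := by
    rw [← normalizer_eq_top_iff, ← top_le_iff, ← map_top_of_surjective f hfs]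
    refine (map_mono hGLX).trans ?_
    rw [Subgroup.map_sup]
    refine sup_le ?_ (hXYb.trans (normalizer_commutator_ge_left _ _))
    rintro _ ⟨l, hl, rfl⟩
    refine Cfsg.Agent.LocGroup56.mem_normalizer_of_map_le (g := f l) ?_ ?_
    · intro x hx
      have := Subgroup.mem_map_of_mem (MulAut.conj (f l)).toMonoidHom hx
      rw [map_commutator] at this
      refine commutator_mono ?_ ?_ this
      · rintro _ ⟨y, hy, rfl⟩; exact hYbn.conj_mem y hy _
      · rintro _ ⟨_, ⟨q, hq, rfl⟩, rfl⟩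
        exact ⟨l * q * l⁻¹, Cfsg.Agent.LocGroup56.conj_mem_of_mem_normalizer (hLQ hl) hq, by simp⟩
    · intro x hx
      have := Subgroup.mem_map_of_mem (MulAut.conj (f l)⁻¹).toMonoidHom hx
      rw [map_commutator] at this
      have h2 := commutator_mono (H₁ := Yb.map (MulAut.conj (f l)⁻¹).toMonoidHom)
        (H₂ := Qb.map (MulAut.conj (f l)⁻¹).toMonoidHom) (K₁ := Yb) (K₂ := Qb)
        (by rintro _ ⟨y, hy, rfl⟩; exact hYbn.conj_mem y hy _)
        (by rintro _ ⟨_, ⟨q, hq, rfl⟩, rfl⟩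
            exact ⟨l⁻¹ * q * l, by
              simpa using Cfsg.Agent.LocGroup56.conj_mem_of_mem_normalizer (hLQ (inv_mem hl)) hq, by simp⟩) this
      simpa using h2
  have hYK : Yb ≤ ⁅Yb, Qb⁆ := by
    rcases hbarD _ hKn with h | h
    · exact hYle _ hKn h
    · exfalso
      refine hnotcent (le_trans (CoprimeAction.le_centralizer_of_commutator_commutator_eq_bot hQY hcop
        (Or.inr inferInstance) ?_) (centralizer_le hXYb))
      rw [commutator_eq_bot_iff_le_centralizer]
      exact le_centralizer_iff.1 h.1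
  -- generation of `Ȳ`
  have hgen : Yb ≤ (L ⊓ Y).map f ⊔ Xb := by
    have hH : Y ⊔ (S : Subgroup G) ≤ ((L ⊓ Y) ⊔ X) ⊔ (S : Subgroup G) := by
      have hLH : L ⊓ (Y ⊔ (S : Subgroup G)) ≤ ((L ⊓ Y) ⊔ X) ⊔ (S : Subgroup G) := by
        rintro g ⟨hgL, hg⟩
        obtain ⟨y, hy, s, hs, rfl⟩ := mem_sup_of_normal_left.1 hg
        have hgL' : y * s ∈ L := hgL
        have hyL : y ∈ L := by simpa using mul_mem hgL' (inv_mem (hSL hs))
        exact mul_mem (mem_sup_left (mem_sup_left ⟨hyL, hy⟩)) (mem_sup_right hs)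
      refine le_of_minimals S _ _ le_sup_right (le_trans (inf_le_inf_right _ hNL) hLH) fun P' h1 h2 h3 => ?_
      by_cases h : P' = P
      · rw [h, hPXS]; exact sup_le (le_sup_of_le_left le_sup_right) le_sup_right
      · exact (le_inf (hP'L P' h1 h3 h) h2).trans hLH
    have hH' := map_mono (f := f) hH
    rw [Subgroup.map_sup, Subgroup.map_sup, Subgroup.map_sup] at hH'
    have hSW : Sb ≤ normalizer (((L ⊓ Y).map f ⊔ Xb : Subgroup (G ⧸ R)) : Set (G ⧸ R)) := by
      rintro _ ⟨s, hs, rfl⟩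
      have hmem : s ∈ normalizer (((L ⊓ Y) ⊔ X : Subgroup G) : Set G) := by
        have h1 : (S : Subgroup G) ≤ normalizer ((L ⊓ Y : Subgroup G) : Set G) :=
          Cfsg.Agent.LocGroup56.le_normalizer_of_conj fun g hg x hx =>
            Subgroup.mem_inf.2 ⟨L.mul_mem (L.mul_mem (hSL hg) hx.1) (L.inv_mem (hSL hg)), hYn.conj_mem x hx.2 g⟩
        exact normalizer_inf_normalizer_le_normalizer_sup _ _ ⟨h1 hs, hPX (hSP hs)⟩
      have := Subgroup.le_normalizer_map f ⟨s, hmem, rfl⟩
      rwa [Subgroup.map_sup] at this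
    intro y hy
    have hy' := hH' (mem_sup_left hy)
    rw [← SetLike.mem_coe, Subgroup.coe_mul_of_right_le_normalizer_left _ _ hSW] at hy'
    obtain ⟨w, hw, s, hs, hws⟩ := hy'
    have hwY : w ∈ Yb := sup_le (map_mono inf_le_right) hXYb hw
    have hws' : w * s = y := hws
    have hsY : s ∈ Sb ⊓ Yb := Subgroup.mem_inf.2 ⟨hs, by
      have : s = w⁻¹ * y := by rw [← hws']; simp
      rw [this]; exact mul_mem (inv_mem hwY) hy⟩
    rw [hdisj Sb (S.2.map f), mem_bot] at hsY
    rw [← hws', hsY, mul_one]; exact hw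
  -- `Q̄` acts trivially on `Ȳ` modulo `X̄ D`
  set U := Xb ⊔ D with hU
  have hUY : U ≤ Yb := sup_le hXYb hDY
  have hUn : ∀ a ∈ Yb, ∀ u ∈ U, a * u * a⁻¹ ∈ U := fun a ha u hu => by
    have : ⁅a, u⁆ ∈ U := mem_sup_right (commutator_mem_commutator ha (hUY hu))
    simpa [commutatorElement_def] using mul_mem this hu
  have hYU : Yb ≤ U := by
    refine hYK.trans ((commutator_le).2 fun y hy q hq => ?_)
    have hy' := hgen hy
    rw [sup_eq_closure] at hy'
    suffices y ∈ Yb ∧ ⁅y, q⁆ ∈ U from this.2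
    clear hy
    induction hy' using Subgroup.closure_induction with
    | mem z hz =>
      rcases hz with hz | hz
      · obtain ⟨z, hz, rfl⟩ := hz
        refine ⟨⟨z, hz.2, rfl⟩, ?_⟩
        obtain ⟨q, hq, rfl⟩ := hq
        have h1 : f ⁅z, q⁆ ∈ Qb ⊓ Yb := by
          refine ⟨⟨_, ?_, rfl⟩, ⟨_, ?_, rfl⟩⟩
          · rw [commutatorElement_def]
            exact mul_mem (Cfsg.Agent.LocGroup56.conj_mem_of_mem_normalizer (hLQ hz.1) hq) (inv_mem hq)
          · rw [commutatorElement_def, mul_assoc z, mul_assoc z]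
            exact mul_mem hz.2 (hYn.conj_mem _ (inv_mem hz.2) q)
        rw [hdisj Qb (hQp.map f), mem_bot, map_commutatorElement] at h1
        rw [h1]; exact one_mem _
      · obtain ⟨z, hz, rfl⟩ := hz
        refine ⟨hXYb ⟨z, hz, rfl⟩, mem_sup_left ?_⟩
        obtain ⟨q, hq, rfl⟩ := hq
        refine ⟨⁅z, q⁆, ?_, map_commutatorElement f z q⟩
        rw [commutatorElement_def, mul_assoc z, mul_assoc z]
        refine mul_mem hz ?_
        exact Cfsg.Agent.LocGroup56.conj_mem_of_mem_normalizer (hPX (hSP (hQS hq))) (inv_mem hz)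
    | one => exact ⟨one_mem _, by rw [commutatorElement_one_left]; exact one_mem _⟩
    | mul a b _ _ ha hb =>
      refine ⟨mul_mem ha.1 hb.1, ?_⟩
      have : ⁅a * b, q⁆ = a * ⁅b, q⁆ * a⁻¹ * ⁅a, q⁆ := by simp [commutatorElement_def, mul_assoc]
      rw [this]; exact mul_mem (hUn a ha.1 _ hb.2) ha.2
    | inv a _ ha =>
      refine ⟨inv_mem ha.1, ?_⟩
      have : ⁅a⁻¹, q⁆ = a⁻¹ * ⁅a, q⁆⁻¹ * (a⁻¹)⁻¹ := by simp [commutatorElement_def, mul_assoc]
      rw [this]; exact hUn _ (inv_mem ha.1) _ (inv_mem ha.2)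
  have hYX : Yb ≤ Xb := by
    have hD' : D ≤ Xb := by
      rw [hDdef, commutator_le]
      intro a ha b hb
      haveI : D.Normal := hDn
      obtain ⟨x, hx, d, hd, rfl⟩ := mem_sup_of_normal_right.1 (hYU ha)
      obtain ⟨x', hx', d', hd', rfl⟩ := mem_sup_of_normal_right.1 (hYU hb)
      have hc : ∀ d ∈ D, ∀ y ∈ Yb, Commute d y := fun d hd y hy => mem_centralizer_iff.1 (hDc hy) d hd
      have c1 := hc d hd
      have c2 := hc d' hd'
      have : ⁅x * d, x' * d'⁆ = ⁅x, x'⁆ := by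
        have e1 : ⁅x * d, x' * d'⁆ = ⁅x, x' * d'⁆ := by
          have := c1 (x' * d') hb
          simp only [commutatorElement_def]
          calc x * d * (x' * d') * (x * d)⁻¹ * (x' * d')⁻¹
              = x * (d * (x' * d')) * d⁻¹ * x⁻¹ * (x' * d')⁻¹ := by group
            _ = x * (x' * d') * x⁻¹ * (x' * d')⁻¹ := by rw [this.eq]; group
        rw [e1]
        simp only [commutatorElement_def]
        have := c2 x⁻¹ (inv_mem (hXYb hx))
        calc x * (x' * d') * x⁻¹ * (x' * d')⁻¹ = x * x' * (d' * x⁻¹) * d'⁻¹ * x'⁻¹ := by group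
          _ = x * x' * x⁻¹ * x'⁻¹ := by rw [this.eq]; group
      rw [this]
      exact mul_mem (mul_mem (mul_mem hx hx') (inv_mem hx)) (inv_mem hx')
    exact hYU.trans (sup_le le_rfl hD')
  -- back to the group
  have hXR : X ⊔ R ≤ P := sup_le hXP (hRS.trans hSP)
  haveI hXRn : (X ⊔ R).Normal := by
    have : X ⊔ R = Yb.comap f := by
      rw [le_antisymm hYX hXYb, hXb, comap_map_eq, QuotientGroup.ker_mk']
    rw [this]; exact hYbn.comap f
  haveI hXnG : X.Normal := by
    refine ⟨fun x hx g => ?_⟩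
    obtain ⟨z, hz, rfl⟩ := hx
    rw [Cfsg.pResidual] at hz
    induction hz using Subgroup.closure_induction with
    | mem z hz =>
      have h1 : g * (z : G) * g⁻¹ ∈ X ⊔ R := hXRn.conj_mem _ (mem_sup_left ⟨z,
        TransferPResidual.mem_pResidual_of_coprime hz, rfl⟩) g
      refine ⟨⟨_, hXR h1⟩, TransferPResidual.mem_pResidual_of_coprime ?_, rfl⟩
      rw [← Subgroup.orderOf_coe]
      show (orderOf (g * (z : G) * g⁻¹)).Coprime p
      rw [show g * (z : G) * g⁻¹ = MulAut.conj g (z : G) from rfl, MulEquiv.orderOf_eq, Subgroup.orderOf_coe]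
      exact hz
    | one => simp
    | mul a b _ _ ha hb => simpa using mul_mem ha hb
    | inv a _ ha => simpa [mul_assoc] using inv_mem ha
  have hXeq : X = Y := le_antisymm hXY (hY ▸ Subgroup.normalClosure_le_normal le_rfl)
  refine ⟨hXeq, ?_⟩
  haveI hcY : (Cfsg.pCore p ↥Y).Normal := Cfsg.Agent.HallCore.pCore_normal_inst p ↥Y
  refine ⟨hcY, t, ht, ?_, ?_⟩
  · rintro rfl
    obtain ⟨j, hj⟩ := IsPGroup.iff_card.1 htY
    rcases Nat.eq_zero_or_pos j with rfl | hj0
    · exact hYne ((card_eq_one).1 (by simpa using hj))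
    · exact hpY (hj ▸ dvd_pow_self _ hj0.ne')
  have hcore : ∀ y : ↥Y, f y = 1 → y ∈ Cfsg.pCore p ↥Y := fun y hy =>
    Cfsg.Agent.LocGroup56.le_pCore (N := R.subgroupOf Y) inferInstance
      ((Cfsg.Agent.LocGroup56.pCore_isPGroup p G).comap_subtype) ((hker _).1 hy)
  refine ⟨?_, ?_⟩
  · intro q
    induction q using QuotientGroup.induction_on with
    | H y =>
      obtain ⟨k, hk⟩ := htY ⟨f y, ⟨y, y.2, rfl⟩⟩
      refine ⟨k, ?_⟩
      rw [← QuotientGroup.mk_pow, QuotientGroup.eq_one_iff]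
      exact hcore _ (by simpa using congrArg Subtype.val hk)
  have hlc : (⊤ : Subgroup (↥Y ⧸ Cfsg.pCore p ↥Y)).lowerCentralSeries 2 = ⊥ := by
    refine Subgroup.lowerCentralSeries_succ_eq_bot ⊤ (n := 1) ?_
    rw [top_lowerCentralSeries_one, _root_.commutator_def, commutator_le]
    intro a _ b _
    rw [mem_center_iff]
    intro c
    induction a using QuotientGroup.induction_on with
    | H a =>
    induction b using QuotientGroup.induction_on with
    | H b =>
    induction c using QuotientGroup.induction_on with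
    | H c =>
      have h1 : (c : ↥Y ⧸ Cfsg.pCore p ↥Y) * ((⁅a, b⁆ : ↥Y) : ↥Y ⧸ Cfsg.pCore p ↥Y) =
          ((⁅a, b⁆ : ↥Y) : ↥Y ⧸ Cfsg.pCore p ↥Y) * (c : ↥Y ⧸ Cfsg.pCore p ↥Y) := by
        rw [← QuotientGroup.mk_mul, ← QuotientGroup.mk_mul, QuotientGroup.eq]
        apply hcore
        have h2 : f ((⁅a, b⁆ : ↥Y) : G) ∈ D := by
          show f ⁅(a : G), (b : G)⁆ ∈ D
          rw [map_commutatorElement]
          exact commutator_mem_commutator ⟨a, a.2, rfl⟩ ⟨b, b.2, rfl⟩
        have h3 := mem_centralizer_iff.1 (hDc ⟨c, c.2, rfl⟩) _ h2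
        simp only [Subgroup.coe_mul, Subgroup.coe_inv, map_mul, map_inv, h3, inv_mul_cancel]
      simpa [commutatorElement_def] using h1
  haveI hnil' : Group.IsNilpotent (↥Y ⧸ Cfsg.pCore p ↥Y) := Subgroup.nilpotent_iff_lowerCentralSeries.2 ⟨2, hlc⟩
  exact ⟨hnil', Subgroup.lowerCentralSeries_eq_bot_iff_nilpotencyClass_le.1 hlc⟩

end Cfsg.Agent.S3045
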