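import Cfsg.Statements.S3044
import Cfsg.Agent.S3045
import Cfsg.Agent.S4037
import Cfsg.Agent.Lib.ComponentsBender

set_option autoImplicit false
open Cfsg

namespace Cfsg.Agent.S3044

open Subgroup
open scoped Pointwise commutatorElement

theorem map_conj_mem {G : Type*} [Group G] (g : G) (K : Subgroup G) (x : G) :
    x ∈ K.map (MulAut.conj g).toMonoidHom ↔ g⁻¹ * x * g ∈ K := by
  constructor
  · rintro ⟨y, hy, rfl⟩; simpa [mul_assoc] using hy
  · intro h; exact ⟨_, h, by simp [mul_assoc]⟩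

theorem map_conj_conj {G : Type*} [Group G] (g h : G) (K : Subgroup G) :
    (K.map (MulAut.conj h).toMonoidHom).map (MulAut.conj g).toMonoidHom =
      K.map (MulAut.conj (g * h)).toMonoidHom := by
  ext x; simp only [map_conj_mem]; group

/-- The layer of an invariant set of components, elementwise commutator bound. -/
theorem commutator_le_of_closure {G : Type*} [Group G] {Y N Q : Subgroup G}
    (gen : Set G) (hgen : Y ≤ closure gen) (hgY : gen ⊆ Y) (hN : ∀ a ∈ Y, ∀ u ∈ N, a * u * a⁻¹ ∈ N)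
    (h : ∀ z ∈ gen, ∀ q ∈ Q, ⁅z, q⁆ ∈ N) : ⁅Y, Q⁆ ≤ N := by
  rw [commutator_le]
  intro y hy q hq
  have hy' := hgen hy
  suffices y ∈ Y ∧ ⁅y, q⁆ ∈ N from this.2
  clear hy
  induction hy' using Subgroup.closure_induction with
  | mem z hz => exact ⟨hgY hz, h z hz q hq⟩
  | one => exact ⟨one_mem _, by rw [commutatorElement_one_left]; exact one_mem _⟩
  | mul a b _ _ ha hb =>
    refine ⟨mul_mem ha.1 hb.1, ?_⟩
    have : ⁅a * b, q⁆ = a * ⁅b, q⁆ * a⁻¹ * ⁅a, q⁆ := by simp [commutatorElement_def, mul_assoc]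
    rw [this]; exact mul_mem (hN a ha.1 _ hb.2) ha.2
  | inv a _ ha =>
    refine ⟨inv_mem ha.1, ?_⟩
    have : ⁅a⁻¹, q⁆ = a⁻¹ * ⁅a, q⁆⁻¹ * (a⁻¹)⁻¹ := by simp [commutatorElement_def, mul_assoc]
    rw [this]; exact hN _ (inv_mem ha.1) _ (inv_mem ha.2)

/-- A solvable normal closure in `H ≥ Y` cuts out a solvable normal piece of `Y` containing the commutators. -/
theorem exists_solvable_piece {G : Type*} [Group G] (Y H : Subgroup G) [hY : Y.Normal] (hYH : Y ≤ H)
    (x : ↥H) (y : G) (hy : y ∈ Y) (hsolv : Group.IsSolvable ↥(normalClosure ({x} : Set ↥H))) :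
    ∃ D : Subgroup G, Group.IsSolvable ↥D ∧ D ≤ Y ∧ Y ≤ normalizer (D : Set G) ∧ ⁅y, (x : G)⁆ ∈ D := by
  haveI := hsolv
  haveI hNn : (normalClosure ({x} : Set ↥H)).Normal := normalClosure_normal
  have hxN : x ∈ normalClosure ({x} : Set ↥H) := subset_normalClosure (Set.mem_singleton x)
  generalize normalClosure ({x} : Set ↥H) = N at *
  haveI : Group.IsSolvable ↥(N.map H.subtype) :=
    Group.isSolvable_of_surjective (f := H.subtype.subgroupMap N) (MonoidHom.subgroupMap_surjective _ _)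
  refine ⟨N.map H.subtype ⊓ Y, CoprimeAction.isSolvable_of_le (K := N.map H.subtype) inf_le_left, inf_le_right,
    Cfsg.Agent.LocGroup56.le_normalizer_of_conj fun g hg z hz => ?_, ?_⟩
  · obtain ⟨⟨w, hw, rfl⟩, hz2⟩ := hz
    exact Subgroup.mem_inf.2 ⟨⟨_, hNn.conj_mem w hw ⟨g, hYH hg⟩, rfl⟩, hY.conj_mem _ hz2 g⟩
  · refine Subgroup.mem_inf.2 ⟨⟨_, N.mul_mem (hNn.conj_mem x hxN ⟨y, hYH hy⟩) (N.inv_mem hxN), ?_⟩, ?_⟩
    · simp [commutatorElement_def]
    · rw [commutatorElement_def, mul_assoc y, mul_assoc y]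
      exact Y.mul_mem hy (hY.conj_mem _ (inv_mem hy) x)

/-- The data of the quotient `Ḡ = G/O_p(G)` attached to an isolated `p`-minimal subgroup. -/
structure Setup (p : ℕ) (G : Type*) [Group G] (Sb Xb Qb Lb Yb : Subgroup G) : Prop where
  sp : IsPGroup p Sb
  qp : IsPGroup p Qb
  qs : Qb ≤ Sb
  xy : Xb ≤ Yb
  core : Cfsg.pCore p G = ⊥
  lq : Lb ≤ normalizer (Qb : Set G)
  sl : Sb ≤ Lb
  top : Lb ⊔ Xb = ⊤
  sx : Sb ≤ normalizer (Xb : Set G)
  nclose : ∀ D : Subgroup G, D.Normal → Xb ≤ D → Yb ≤ D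
  big : ∀ D : Subgroup G, D.Normal → Qb ≤ D → Xb ≤ D
  notcent : ¬ Qb ≤ centralizer (Xb : Set G)
  dich : ∀ N : Subgroup G, Sb ≤ normalizer (N : Set G) → Xb ≤ N ∨ N ≤ Lb

namespace Setup

variable {p : ℕ} {G : Type*} [Group G] [Finite G] [Fact p.Prime] {Sb Xb Qb Lb Yb : Subgroup G}

theorem dich_sub (h : Setup p G Sb Xb Qb Lb Yb) (N : Subgroup G) (hN : N.IsSubnormal)
    (hS : Sb ≤ normalizer (N : Set G)) : Xb ≤ N ∨ Qb ≤ centralizer (N : Set G) := by
  rcases h.dich N hS with h1 | h1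
  · exact Or.inl h1
  refine Or.inr fun q hq => mem_centralizer_iff.2 fun n hn => ?_
  have hmem : ⁅q, n⁆ ∈ Qb ⊓ N := by
    refine Subgroup.mem_inf.2 ⟨?_, ?_⟩
    · rw [commutatorElement_def, mul_assoc q, mul_assoc q]
      exact Qb.mul_mem hq (Cfsg.Agent.LocGroup56.conj_mem_of_mem_normalizer (h.lq (h1 hn)) (inv_mem hq))
    · rw [commutatorElement_def]
      exact N.mul_mem (Cfsg.Agent.LocGroup56.conj_mem_of_mem_normalizer (hS (h.qs hq)) hn) (inv_mem hn)
  have hbot : Qb ⊓ N ≤ ⊥ := by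
    rw [← h.core]
    refine Cfsg.Agent.ComponentsCores.subnormal_pGroup_le_pCore ?_ (h.qp.to_le inf_le_left)
    haveI : ((Qb ⊓ N).subgroupOf N).Normal := by
      refine (normal_subgroupOf_iff_le_normalizer inf_le_right).2 ?_
      exact Cfsg.Agent.LocGroup56.le_normalizer_of_conj fun g hg x hx => Subgroup.mem_inf.2
        ⟨Cfsg.Agent.LocGroup56.conj_mem_of_mem_normalizer (h.lq (h1 hg)) hx.1,
          Cfsg.Agent.LocGroup56.conj_mem_of_mem_normalizer (le_normalizer hg) hx.2⟩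
    exact Subgroup.IsSubnormal.step _ N inf_le_right hN inferInstance
  exact ((commutatorElement_eq_one_iff_mul_comm).1 (mem_bot.1 (hbot hmem))).symm

theorem dich_normal (h : Setup p G Sb Xb Qb Lb Yb) (N : Subgroup G) (hN : N.Normal) :
    Xb ≤ N ∨ (Qb ≤ centralizer (N : Set G) ∧ Yb ≤ centralizer (N : Set G)) := by
  haveI := hN
  rcases h.dich_sub N (Subgroup.Normal.isSubnormal hN) (normalizer_eq_top (H := N) ▸ le_top) with h1 | h1
  · exact Or.inl h1
  · exact Or.inr ⟨h1, h.nclose _ inferInstance (h.big _ inferInstance h1)⟩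

/-- In the non-solvable case `Ȳ` is the layer of itself. -/
theorem layer_top (h : Setup p G Sb Xb Qb Lb Yb) [Yb.Normal] (hns : ¬ Group.IsSolvable ↥Yb) :
    Cfsg.layer ↥Yb = ⊤ := by
  haveI hF : (Cfsg.fittingSubgroup G).Normal := Cfsg.Agent.HallSolvable.fitting_normal_inst G
  have hYF : ¬ Xb ≤ Cfsg.fittingSubgroup G := fun hX => hns (by
    haveI := Cfsg.Agent.ComponentsCores.nilpotent_of_le (h.nclose _ hF hX) inferInstance
    infer_instance)
  have hcF := ((h.dich_normal _ hF).resolve_left hYF).2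
  set E := (Cfsg.layer ↥Yb).map Yb.subtype with hE
  haveI hEn : E.Normal := inferInstance
  rcases h.dich_normal E hEn with h1 | h1
  · exact eq_top_iff.2 fun y _ => by
      obtain ⟨z, hz, hzy⟩ := h.nclose E hEn h1 y.2
      exact (Subtype.ext hzy : z = y) ▸ hz
  exfalso
  have hsn : Yb.IsSubnormal := Subgroup.Normal.isSubnormal inferInstance
  have hlay : Yb ≤ centralizer (Cfsg.layer G : Set G) := by
    rw [le_centralizer_iff, Cfsg.layer, sSup_le_iff]
    intro K hK
    rcases Cfsg.Agent.ComponentsBasic.component_le_or_commute hK hsn with h2 | h2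
    · refine le_centralizer_iff.1 (le_trans h1.2 (centralizer_le ?_))
      rw [hE, Cfsg.Agent.ComponentsBasic.layer_map_subtype hsn]
      exact le_sSup (a := K) (show K ∈ {L : Subgroup G | Cfsg.IsComponent L ∧ L ≤ Yb} from ⟨hK, h2⟩)
    · exact commutator_eq_bot_iff_le_centralizer.1 h2
  have hgen : Yb ≤ centralizer (Cfsg.generalizedFittingSubgroup G : Set G) :=
    le_centralizer_iff.1 (sup_le (le_centralizer_iff.1 hlay) (le_centralizer_iff.1 hcF))
  exact hYF ((h.xy.trans hgen).trans Cfsg.Agent.ComponentsBender.centralizer_gen_le_fitting)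

theorem commutator_eq (h : Setup p G Sb Xb Qb Lb Yb) [Yb.Normal] (hperf : ⁅Yb, Yb⁆ = Yb) :
    Yb ≤ ⁅Yb, Qb⁆ := by
  haveI hKn : ⁅Yb, Qb⁆.Normal := by
    rw [← normalizer_eq_top_iff, ← top_le_iff, ← h.top]
    refine sup_le (fun l hl => ?_) (h.xy.trans (normalizer_commutator_ge_left _ _))
    have hconj : ∀ g ∈ Lb, ∀ x ∈ ⁅Yb, Qb⁆, g * x * g⁻¹ ∈ ⁅Yb, Qb⁆ := by
      intro g hg x hx
      have := Subgroup.mem_map_of_mem (MulAut.conj g).toMonoidHom hx
      rw [map_commutator] at this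
      refine commutator_mono ?_ ?_ this
      · rintro _ ⟨y, hy, rfl⟩; exact (inferInstance : Yb.Normal).conj_mem y hy _
      · rintro _ ⟨q, hq, rfl⟩; exact Cfsg.Agent.LocGroup56.conj_mem_of_mem_normalizer (h.lq hg) hq
    exact Cfsg.Agent.LocGroup56.le_normalizer_of_conj hconj hl
  rcases h.dich_normal _ hKn with h1 | h1
  · exact h.nclose _ hKn h1
  exfalso
  have hb : ⁅⁅Yb, Qb⁆, Yb⁆ = ⊥ := commutator_eq_bot_iff_le_centralizer.2 (le_centralizer_iff.1 h1.2)
  have h2 : ⁅⁅Qb, Yb⁆, Yb⁆ = ⊥ := by rwa [commutator_comm Qb]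
  have h3 := commutator_commutator_eq_bot_of_rotate hb h2
  rw [hperf, commutator_eq_bot_iff_le_centralizer] at h3
  exact h.notcent ((le_centralizer_iff.1 h3).trans (centralizer_le h.xy))

theorem dvd_card (h : Setup p G Sb Xb Qb Lb Yb) [hYn : Yb.Normal] (hperf : ⁅Yb, Yb⁆ = Yb)
    (hns : ¬ Group.IsSolvable ↥Yb) : p ∣ Nat.card Yb := by
  classical
  by_contra hpY
  have hdisj : Qb ⊓ Yb = ⊥ := by
    rw [← card_eq_one]
    obtain ⟨j, hj⟩ := IsPGroup.iff_card.1 (h.qp.to_le (inf_le_left : Qb ⊓ Yb ≤ Qb))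
    rw [hj]
    rcases Nat.eq_zero_or_pos j with rfl | hj0
    · rfl
    · exact absurd ((hj ▸ dvd_pow_self p hj0.ne').trans (card_dvd_of_le inf_le_right)) hpY
  have hSY : Sb ≤ normalizer (Yb : Set G) := normalizer_eq_top (H := Yb) ▸ le_top
  have hcop : (Nat.card Sb).Coprime (Nat.card Yb) := by
    obtain ⟨j, hj⟩ := IsPGroup.iff_card.1 h.sp
    rw [hj]
    exact Nat.Coprime.pow_left _ ((Fact.out : p.Prime).coprime_iff_not_dvd.2 hpY)
  haveI : Group.IsNilpotent ↥Sb := h.sp.isNilpotent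
  set C := (centralizer (Qb : Set G)).subgroupOf Yb with hC
  -- each prime has an invariant Sylow subgroup, centralised or containing `X̄`
  have hr : ∀ r : ℕ, r.Prime → r ∣ C.index →
      ∃ B : Subgroup G, IsPGroup r B ∧ Xb ≤ B := by
    intro r hr hrd
    haveI := Fact.mk hr
    obtain ⟨T, hT⟩ := CoprimeAction.exists_invariant_sylow hSY hcop (Or.inl inferInstance) r
    rcases h.dich _ hT with h1 | h1
    · exact ⟨_, T.2.map _, h1⟩
    exfalso
    have hTC : (T : Subgroup ↥Yb) ≤ C := fun y hy => by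
      refine mem_subgroupOf.2 (mem_centralizer_iff.2 fun q hq => ?_)
      have hmem : ⁅q, (y : G)⁆ ∈ Qb ⊓ Yb := by
        refine Subgroup.mem_inf.2 ⟨?_, ?_⟩
        · rw [commutatorElement_def, mul_assoc q, mul_assoc q]
          exact Qb.mul_mem hq (Cfsg.Agent.LocGroup56.conj_mem_of_mem_normalizer
            (h.lq (h1 ⟨y, hy, rfl⟩)) (inv_mem hq))
        · rw [commutatorElement_def]
          exact Yb.mul_mem (hYn.conj_mem _ y.2 q) (inv_mem y.2)
      rw [hdisj, mem_bot] at hmem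
      exact commutatorElement_eq_one_iff_mul_comm.1 hmem
    exact T.not_dvd_index (hrd.trans (index_dvd_of_le hTC))
  obtain ⟨t, ht, a, hidx⟩ : ∃ t : ℕ, t.Prime ∧ ∃ a : ℕ, C.index = t ^ a := by
    rcases eq_or_ne C.index 1 with h1 | h1
    · exact ⟨2, Nat.prime_two, 0, by rw [h1, pow_zero]⟩
    obtain ⟨t, ht, htd⟩ := Nat.exists_prime_and_dvd h1
    refine ⟨t, ht, C.index.primeFactorsList.length,
      Nat.eq_prime_pow_of_unique_prime_dvd Subgroup.index_ne_zero_of_finite fun {r} hr' hrd => ?_⟩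
    by_contra hne
    obtain ⟨B, hB, hXB⟩ := hr r hr' hrd
    obtain ⟨B', hB', hXB'⟩ := hr t ht htd
    haveI := Fact.mk hr'
    haveI := Fact.mk ht
    have hd : Disjoint B B' := IsPGroup.disjoint_of_ne r t hne B B' hB hB'
    refine h.notcent fun q _ => mem_centralizer_iff.2 fun x hx => ?_
    have : x = 1 := mem_bot.1 (hd.le_bot ⟨hXB hx, hXB' hx⟩)
    simp [this]
  -- every commutator lies in the solvable radical
  haveI : (Cfsg.fittingSubgroup ↥Yb).Normal := Cfsg.Agent.HallSolvable.fitting_normal_inst ↥Yb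
  refine hns ?_
  have hbot : ∀ q ∈ Qb, ∀ y ∈ Yb, ∃ D : Subgroup G, Group.IsSolvable ↥D ∧ D ≤ Yb ∧
      Yb ≤ normalizer (D : Set G) ∧ ⁅y, q⁆ ∈ D := by
    intro q hq y hy
    set H := Yb ⊔ zpowers q with hH
    set x : ↥H := ⟨q, mem_sup_right (mem_zpowers q)⟩
    set Cx := centralizer ({x} : Set ↥H)
    have hYH : Yb.subgroupOf H ⊔ Cx = ⊤ := by
      rw [eq_top_iff]
      intro g _
      obtain ⟨y, hy, z, hz, hyz⟩ := mem_sup_of_normal_left.1 g.2
      obtain ⟨k, rfl⟩ := mem_zpowers_iff.1 hz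
      have : g = ⟨y, mem_sup_left hy⟩ * x ^ k := Subtype.ext (by simpa [x] using hyz.symm)
      rw [this]
      refine mul_mem (mem_sup_left (mem_subgroupOf.2 hy)) (mem_sup_right ?_)
      refine zpow_mem ?_ k
      simp [Cx, mem_centralizer_iff]
    have hdvd : Cx.index ∣ C.index := by
      have h1 : (C.map (inclusion (le_sup_left : Yb ≤ H))) ≤ Cx ⊓ Yb.subgroupOf H := by
        rintro _ ⟨c, hc, rfl⟩
        refine Subgroup.mem_inf.2 ⟨mem_centralizer_singleton_iff.2 (Subtype.ext ?_), mem_subgroupOf.2 c.2⟩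
        exact (mem_centralizer_iff.1 (mem_subgroupOf.1 hc) q hq).symm
      have h2 : Cx.relIndex (Yb.subgroupOf H) = Cx.index := by
        have e1 := relIndex_mul_index (inf_le_left : Cx ⊓ Yb.subgroupOf H ≤ Cx)
        have e2 := relIndex_mul_index (inf_le_right : Cx ⊓ Yb.subgroupOf H ≤ Yb.subgroupOf H)
        rw [inf_relIndex_right] at e2
        rw [inf_relIndex_left] at e1
        have e3 : (Yb.subgroupOf H).relIndex Cx = (Yb.subgroupOf H).index := by
          rw [← relIndex_sup_left, hYH, relIndex_top_right]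
        rw [e3] at e1
        rw [mul_comm] at e2
        exact Nat.eq_of_mul_eq_mul_left (Nat.pos_of_ne_zero Subgroup.index_ne_zero_of_finite) (e2.trans e1.symm)
      rw [← h2, ← inf_relIndex_right]
      have h3 : (C.map (inclusion (le_sup_left : Yb ≤ H))).relIndex (Yb.subgroupOf H) = C.index := by
        rw [← relIndex_top_right C]
        rw [← Subgroup.relIndex_map_map_of_injective C ⊤ (inclusion_injective (le_sup_left : Yb ≤ H))]
        congr 1
        ext z
        rw [mem_subgroupOf, Subgroup.mem_map]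
        exact ⟨fun hz => ⟨⟨z, hz⟩, mem_top _, Subtype.ext rfl⟩, fun ⟨w, _, hw⟩ => hw ▸ w.2⟩
      rw [← h3]
      exact relIndex_dvd_of_le_left _ h1
    obtain ⟨b, -, hb⟩ := (Nat.dvd_prime_pow ht).1 (hidx ▸ hdvd)
    have hsz : (ConjClasses.mk x).carrier.ncard = t ^ b := by
      rw [← hb, ← ConjAct.orbit_eq_carrier_conjClasses, ← MulAction.index_stabilizer,
        ConjAct.stabilizer_eq_centralizer]
      rfl
    exact exists_solvable_piece Yb H le_sup_left x y hy (Cfsg.Agent.S4037.result x ht b hsz)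
  -- so `Ȳ` is centralised by its layer
  have hE := h.layer_top hns
  have hsn : Yb.IsSubnormal := Subgroup.Normal.isSubnormal hYn
  have hYlay : Yb = sSup {K : Subgroup G | Cfsg.IsComponent K ∧ K ≤ Yb} := by
    rw [← Cfsg.Agent.ComponentsBasic.layer_map_subtype hsn, hE, ← MonoidHom.range_eq_map, Yb.range_subtype]
  have hcent : ⁅Yb, Qb⁆ ≤ centralizer (Yb : Set G) := by
    rw [commutator_le]
    intro y hy q hq
    obtain ⟨D, hD, hDY, hYD, hmem⟩ := hbot q hq y hy
    haveI := hD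
    haveI : (D.subgroupOf Yb).Normal := (normal_subgroupOf_iff_le_normalizer hDY).2 hYD
    have hDs : D.IsSubnormal := Subgroup.IsSubnormal.step _ Yb hDY hsn inferInstance
    refine (?_ : D ≤ centralizer (Yb : Set G)) hmem
    rw [le_centralizer_iff, hYlay, sSup_le_iff]
    intro K hK
    exact commutator_eq_bot_iff_le_centralizer.1
      (Cfsg.Agent.ComponentsBasic.component_commute_solvable hK.1 hDs)
  have h1 : Yb ≤ centralizer (Yb : Set G) := (h.commutator_eq hperf).trans hcent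
  haveI : IsMulCommutative ↥Yb := ⟨⟨fun a b => Subtype.ext (mem_centralizer_iff.1 (h1 b.2) _ a.2)⟩⟩
  exact Cfsg.Agent.ComponentsBasic.isSolvable_of_commutative

/-- The components of `Ȳ` form one orbit under `S̄`. -/
theorem transitive (h : Setup p G Sb Xb Qb Lb Yb) [hYn : Yb.Normal] (hns : ¬ Group.IsSolvable ↥Yb)
    (K₁ K₂ : Subgroup G) (h₁ : Cfsg.IsComponent K₁) (h₁Y : K₁ ≤ Yb) (h₂ : Cfsg.IsComponent K₂) (h₂Y : K₂ ≤ Yb) :
    ∃ s ∈ Sb, K₂ = K₁.map (MulAut.conj s).toMonoidHom := by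
  classical
  have hsn : Yb.IsSubnormal := Subgroup.Normal.isSubnormal hYn
  have hYlay : Yb = sSup {K : Subgroup G | Cfsg.IsComponent K ∧ K ≤ Yb} := by
    rw [← Cfsg.Agent.ComponentsBasic.layer_map_subtype hsn, h.layer_top hns, ← MonoidHom.range_eq_map,
      Yb.range_subtype]
  have hperf : ⁅Yb, Yb⁆ = Yb := by
    rw [hYlay]; exact Cfsg.Agent.ComponentsBasic.isPerfect_sSup _ fun K hK =>
      Cfsg.Agent.ComponentsBasic.IsComponent.perfect hK.1
  let orb : Subgroup G → Set (Subgroup G) := fun K => {J | ∃ s ∈ Sb, J = K.map (MulAut.conj s).toMonoidHom}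
  let N : Subgroup G → Subgroup G := fun K => sSup (orb K)
  have horb : ∀ {K J : Subgroup G}, Cfsg.IsComponent K → K ≤ Yb → J ∈ orb K →
      Cfsg.IsComponent J ∧ J ≤ Yb := by
    rintro K J hK hKY ⟨s, hs, rfl⟩
    refine ⟨Cfsg.Agent.ComponentsBasic.isComponent_conj hK s, ?_⟩
    rintro _ ⟨y, hy, rfl⟩
    exact hYn.conj_mem y (hKY hy) s
  have hself : ∀ K : Subgroup G, K ∈ orb K := fun K =>
    ⟨1, one_mem _, by ext x; simp [map_conj_mem]⟩
  have hNY : ∀ K, Cfsg.IsComponent K → K ≤ Yb → N K ≤ Yb := fun K hK hKY =>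
    sSup_le fun J hJ => (horb hK hKY hJ).2
  have hSN : ∀ K, Sb ≤ normalizer (N K : Set G) := by
    intro K
    refine Cfsg.Agent.LocGroup56.le_normalizer_of_conj fun g hg x hx => ?_
    have h0 : (N K).map (MulAut.conj g).toMonoidHom ≤ N K := by
      show (sSup (orb K)).map _ ≤ _
      rw [(Subgroup.gc_map_comap _).l_sSup]
      refine iSup₂_le ?_
      rintro J ⟨s, hs, rfl⟩
      rw [map_conj_conj]
      exact le_sSup ⟨g * s, mul_mem hg hs, rfl⟩
    exact h0 ⟨x, hx, rfl⟩
  have hYN : ∀ K, Cfsg.IsComponent K → K ≤ Yb → Yb ≤ normalizer (N K : Set G) := by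
    intro K hK hKY
    refine Cfsg.Agent.LocGroup56.le_normalizer_of_conj fun g hg x hx => ?_
    have h0 : (N K).map (MulAut.conj g).toMonoidHom ≤ N K := by
      show (sSup (orb K)).map _ ≤ _
      rw [(Subgroup.gc_map_comap _).l_sSup]
      refine iSup₂_le fun J hJ => ?_
      rintro _ ⟨y, hy, rfl⟩
      refine (le_sSup hJ : J ≤ sSup (orb K)) ?_
      refine Cfsg.Agent.LocGroup56.conj_mem_of_mem_normalizer ?_ hy
      refine Cfsg.Agent.ComponentsBasic.layer_le_normalizer_component (horb hK hKY hJ).1 ?_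
      have := hg
      rw [hYlay] at this
      exact (sSup_le fun L hL => Cfsg.Agent.ComponentsBasic.component_le_layer hL.1 :
        sSup {K : Subgroup G | Cfsg.IsComponent K ∧ K ≤ Yb} ≤ Cfsg.layer G) this
    exact h0 ⟨x, hx, rfl⟩
  have hNsn : ∀ K, Cfsg.IsComponent K → K ≤ Yb → (N K).IsSubnormal := fun K hK hKY =>
    Subgroup.IsSubnormal.step _ Yb (hNY K hK hKY) hsn
      ((normal_subgroupOf_iff_le_normalizer (hNY K hK hKY)).2 (hYN K hK hKY))
  -- outside an orbit means commuting with it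
  have hout : ∀ K J, Cfsg.IsComponent K → K ≤ Yb → Cfsg.IsComponent J → ¬ J ≤ N K →
      J ≤ centralizer (N K : Set G) := by
    intro K J hK hKY hJ hn
    exact commutator_eq_bot_iff_le_centralizer.1
      ((Cfsg.Agent.ComponentsBasic.component_le_or_commute hJ (hNsn K hK hKY)).resolve_left hn)
  have hab : ¬ Xb ≤ centralizer (Yb : Set G) := by
    intro hX
    have h1 : Yb ≤ centralizer (Yb : Set G) := h.nclose _ inferInstance hX
    haveI : IsMulCommutative ↥Yb := ⟨⟨fun a b => Subtype.ext (mem_centralizer_iff.1 (h1 b.2) _ a.2)⟩⟩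
    exact hns Cfsg.Agent.ComponentsBasic.isSolvable_of_commutative
  obtain ⟨K₀, hK₀, hK₀Y, hX₀⟩ : ∃ K₀, Cfsg.IsComponent K₀ ∧ K₀ ≤ Yb ∧ Xb ≤ N K₀ := by
    by_contra hcon
    push Not at hcon
    refine h.notcent (le_trans ?_ (centralizer_le h.xy))
    rw [le_centralizer_iff, hYlay, sSup_le_iff]
    rintro K ⟨hK, hKY⟩
    have h1 := (h.dich_sub _ (hNsn K hK hKY) (hSN K)).resolve_left (hcon K hK hKY)
    exact (le_sSup (hself K) : K ≤ sSup (orb K)).trans (le_centralizer_iff.1 h1)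
  have hle : ∀ K, Cfsg.IsComponent K → K ≤ Yb → K ≤ N K₀ ∨ Qb ≤ centralizer (K : Set G) := by
    intro K hK hKY
    rcases h.dich_sub _ (hNsn K hK hKY) (hSN K) with h1 | h1
    · left
      by_contra hn
      refine hab ?_
      rw [le_centralizer_iff, hYlay, sSup_le_iff]
      rintro J ⟨hJ, hJY⟩
      by_cases hJ0 : J ≤ N K₀
      · have hc : N K₀ ≤ centralizer (N K : Set G) := by
          rw [le_centralizer_iff]
          refine sSup_le ?_
          rintro L ⟨s, hs, rfl⟩
          refine hout K₀ _ hK₀ hK₀Y (Cfsg.Agent.ComponentsBasic.isComponent_conj hK s) fun hL => hn ?_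
          intro x hx
          have := Cfsg.Agent.LocGroup56.conj_mem_of_mem_normalizer (hSN K₀ (inv_mem hs))
            (hL ⟨x, hx, rfl⟩)
          simpa [mul_assoc] using this
        exact (hJ0.trans hc).trans (centralizer_le h1)
      · exact (hout K₀ J hK₀ hK₀Y hJ hJ0).trans (centralizer_le hX₀)
    · exact Or.inr (h1.trans (centralizer_le (le_sSup (hself K) : K ≤ sSup (orb K))))
  have hYN0 : Yb ≤ N K₀ := by
    refine (h.commutator_eq hperf).trans ?_
    refine commutator_le_of_closure (⋃ K ∈ {K : Subgroup G | Cfsg.IsComponent K ∧ K ≤ Yb}, (K : Set G)) ?_ ?_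
      (fun a ha u hu => Cfsg.Agent.LocGroup56.conj_mem_of_mem_normalizer (hYN K₀ hK₀ hK₀Y ha) hu) ?_
    · refine hYlay.le.trans (sSup_le fun K hK => ?_)
      intro x hx
      exact Subgroup.subset_closure (Set.mem_biUnion hK hx)
    · intro x hx
      obtain ⟨K, hK, hxK⟩ := Set.mem_iUnion₂.1 hx
      exact hK.2 hxK
    · intro z hz q hq
      obtain ⟨K, ⟨hK, hKY⟩, hzK⟩ := Set.mem_iUnion₂.1 hz
      rcases hle K hK hKY with h1 | h1
      · rw [commutatorElement_def, mul_assoc z, mul_assoc z]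
        refine (N K₀).mul_mem (h1 hzK) ?_
        exact Cfsg.Agent.LocGroup56.conj_mem_of_mem_normalizer (hSN K₀ (h.qs hq)) (inv_mem (h1 hzK))
      · rw [commutatorElement_eq_one_iff_mul_comm.2 (mem_centralizer_iff.1 (h1 hq) z hzK)]
        exact one_mem _
  have hmem : ∀ K, Cfsg.IsComponent K → K ≤ Yb → ∃ s ∈ Sb, K = K₀.map (MulAut.conj s).toMonoidHom := by
    intro K hK hKY
    by_contra hcon
    have hc : N K₀ ≤ centralizer (K : Set G) := sSup_le fun J hJ => by
      have hne : J ≠ K := by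
        rintro rfl
        exact hcon hJ
      exact commutator_eq_bot_iff_le_centralizer.1
        (Cfsg.Agent.ComponentsBasic.components_commute (horb hK₀ hK₀Y hJ).1 hK hne)
    have h1 : K ≤ centralizer (K : Set G) := hKY.trans (hYN0.trans hc)
    haveI : IsMulCommutative ↥K := ⟨⟨fun a b => Subtype.ext (mem_centralizer_iff.1 (h1 b.2) _ a.2)⟩⟩
    exact Cfsg.Agent.ComponentsBasic.IsComponent.not_isSolvable hK
      Cfsg.Agent.ComponentsBasic.isSolvable_of_commutative
  obtain ⟨s, hs, rfl⟩ := hmem K₁ h₁ h₁Y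
  obtain ⟨u, hu, rfl⟩ := hmem K₂ h₂ h₂Y
  exact ⟨u * s⁻¹, mul_mem hu (inv_mem hs), by rw [map_conj_conj, inv_mul_cancel_right]⟩

end Setup

/-- Let G be a finite group, p a prime, S a Sylow p-subgroup of G and P a p-minimal subgroup of G containing S (S is not normal in P and lies in exactly one maximal subgroup of P). Let L be the subgroup generated by N_G(S) and all p-minimal subgroups of G containing S other than P, and suppose P is isolated: O_p(L) is not contained in O_p(P). Put Y for the normal closure of O^p(P) in G. Then G = YL; P is again isolated in the subgroup YS (the subgroup L₀ generated by N_{YS}(S) and the p-minimal subgroups of YS containing S other than P has O_p(L₀) not contained in O_p(P)); and either Y = O^p(P), or p divides |Y/O_p(Y)|, Y/O_p(Y) is generated by its components (a central product of quasisimple groups), and S permutes these components transitively by conjugation. -/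
theorem result {G : Type*} [Group G] [Finite G] {p : ℕ} [Fact p.Prime] (S : Sylow p G) (P : Subgroup G) (hSP : (S : Subgroup G) ≤ P) (hPmin : Cfsg.IsPMinimal p ↥P)
    (L Y : Subgroup G)
    (hL : L = Subgroup.normalizer ((S : Subgroup G) : Set G) ⊔ ⨆ P' : {P' : Subgroup G // (S : Subgroup G) ≤ P' ∧ Cfsg.IsPMinimal p ↥P' ∧ P' ≠ P}, (P' : Subgroup G))
    (hiso : ¬ (Cfsg.pCore p ↥L).map L.subtype ≤ (Cfsg.pCore p ↥P).map P.subtype)
    (hY : Y = Subgroup.normalClosure (((Cfsg.pResidual p ↥P).map P.subtype : Subgroup G) : Set G)) :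
    Y ⊔ L = ⊤ ∧
    ¬ (Cfsg.pCore p ↥((Subgroup.normalizer ((S : Subgroup G) : Set G) ⊓ (Y ⊔ (S : Subgroup G))) ⊔
          ⨆ P' : {P' : Subgroup G // (S : Subgroup G) ≤ P' ∧ P' ≤ Y ⊔ (S : Subgroup G) ∧ Cfsg.IsPMinimal p ↥P' ∧ P' ≠ P}, (P' : Subgroup G))).map
        (Subgroup.subtype _) ≤ (Cfsg.pCore p ↥P).map P.subtype ∧
    ((Cfsg.pResidual p ↥P).map P.subtype = Y ∨
     ∃ _ : (Cfsg.pCore p ↥Y).Normal,
       p ∣ Nat.card (↥Y ⧸ Cfsg.pCore p ↥Y) ∧ Cfsg.layer (↥Y ⧸ Cfsg.pCore p ↥Y) = ⊤ ∧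
       ∀ K₁ K₂ : Subgroup (↥Y ⧸ Cfsg.pCore p ↥Y), Cfsg.IsComponent K₁ → Cfsg.IsComponent K₂ →
         ∃ s ∈ (S : Subgroup G), ((K₂.comap (QuotientGroup.mk' (Cfsg.pCore p ↥Y))).map Y.subtype) = (((K₁.comap (QuotientGroup.mk' (Cfsg.pCore p ↥Y))).map Y.subtype)).map (MulAut.conj s).toMonoidHom) := by
  classical
  set X := (Cfsg.pResidual p ↥P).map P.subtype with hXdef
  set Q := (Cfsg.pCore p ↥L).map L.subtype with hQdef
  haveI : (Cfsg.pCore p ↥P).Normal := Cfsg.Agent.HallCore.pCore_normal_inst p ↥P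
  haveI : (Cfsg.pCore p ↥L).Normal := Cfsg.Agent.HallCore.pCore_normal_inst p ↥L
  haveI hRn : (Cfsg.pCore p G).Normal := Cfsg.Agent.HallCore.pCore_normal_inst p G
  haveI hYn : Y.Normal := hY ▸ Subgroup.normalClosure_normal
  have hXY : X ≤ Y := hY ▸ Subgroup.le_normalClosure
  have hXP : X ≤ P := map_subtype_le _
  have hNL : normalizer ((S : Subgroup G) : Set G) ≤ L := hL ▸ le_sup_left
  have hSL : (S : Subgroup G) ≤ L := le_normalizer.trans hNL
  have hQS : Q ≤ (S : Subgroup G) := by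
    rintro x ⟨y, hy, rfl⟩
    have := Cfsg.Agent.HallCore.pCore_le_sylow (S.subtype hSL) hy
    rwa [Sylow.coe_subtype, mem_subgroupOf] at this
  have hRS : Cfsg.pCore p G ≤ (S : Subgroup G) := Cfsg.Agent.HallCore.pCore_le_sylow S
  have hRQ : Cfsg.pCore p G ≤ Q := fun x hx =>
    ⟨⟨x, hSL (hRS hx)⟩, Cfsg.Agent.LocGroup56.le_pCore (N := (Cfsg.pCore p G).subgroupOf L) inferInstance
      ((Cfsg.Agent.LocGroup56.pCore_isPGroup p G).comap_subtype) hx, rfl⟩
  have hQp : IsPGroup p Q := S.2.to_le hQS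
  have hLQ : L ≤ normalizer (Q : Set G) := Cfsg.Agent.LocGroup56.le_normalizer_of_conj fun g hg x hx => by
    obtain ⟨y, hy, rfl⟩ := hx
    exact ⟨_, (inferInstance : (Cfsg.pCore p ↥L).Normal).conj_mem y hy ⟨g, hg⟩, rfl⟩
  haveI hXn : (Cfsg.pResidual p ↥P).Normal := by
    refine ⟨fun x hx g => ?_⟩
    have h := TransferPResidual.map_pResidual_equiv (p := p) (MulAut.conj g : ↥P ≃* ↥P)
    exact h.le ⟨x, hx, by simp⟩
  have hPX : P ≤ normalizer (X : Set G) := Cfsg.Agent.LocGroup56.le_normalizer_of_conj fun g hg x hx => by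
    obtain ⟨y, hy, rfl⟩ := hx
    exact ⟨_, hXn.conj_mem y hy ⟨g, hg⟩, rfl⟩
  have hPXS : P = X ⊔ (S : Subgroup G) := by
    have h := congrArg (Subgroup.map P.subtype) (TransferPResidual.sylow_sup_pResidual (S.subtype hSP))
    rw [Subgroup.map_sup, ← MonoidHom.range_eq_map, P.range_subtype, Sylow.coe_subtype,
      subgroupOf_map_subtype, inf_of_le_left hSP] at h
    rw [sup_comm]; exact h.symm
  have hP'L : ∀ P' : Subgroup G, (S : Subgroup G) ≤ P' → Cfsg.IsPMinimal p ↥P' → P' ≠ P → P' ≤ L :=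
    fun P' h1 h2 h3 => hL ▸ le_sup_of_le_right (le_iSup (fun P'' : {P' : Subgroup G //
      (S : Subgroup G) ≤ P' ∧ Cfsg.IsPMinimal p ↥P' ∧ P' ≠ P} => (P'' : Subgroup G)) ⟨P', h1, h2, h3⟩)
  have hGLX : (⊤ : Subgroup G) ≤ L ⊔ X := by
    refine Cfsg.Agent.S3045.le_of_minimals S ⊤ _ le_top (inf_le_left.trans (hNL.trans le_sup_left)) fun P' h1 _ h3 => ?_
    by_cases h : P' = P
    · rw [h, hPXS]; exact sup_le le_sup_right (hSL.trans le_sup_left)
    · exact (hP'L P' h1 h3 h).trans le_sup_left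
  refine ⟨eq_top_iff.2 (hGLX.trans (sup_le le_sup_right (hXY.trans le_sup_left))), ?_, ?_⟩
  · intro hle
    refine hiso ?_
    set L₀ := (Subgroup.normalizer ((S : Subgroup G) : Set G) ⊓ (Y ⊔ (S : Subgroup G))) ⊔
          ⨆ P' : {P' : Subgroup G // (S : Subgroup G) ≤ P' ∧ P' ≤ Y ⊔ (S : Subgroup G) ∧ Cfsg.IsPMinimal p ↥P' ∧ P' ≠ P}, (P' : Subgroup G)
    have hL₀ : L₀ ≤ L := sup_le (inf_le_left.trans hNL) (iSup_le fun P' => hP'L _ P'.2.1 P'.2.2.2.1 P'.2.2.2.2)
    have hSL₀ : (S : Subgroup G) ≤ L₀ := le_sup_of_le_left (le_inf le_normalizer le_sup_right)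
    haveI := (normal_subgroupOf_iff_le_normalizer (hQS.trans hSL₀)).2 (hL₀.trans hLQ)
    refine le_trans (fun x hx => ?_) hle
    exact ⟨⟨x, hSL₀ (hQS hx)⟩, Cfsg.Agent.LocGroup56.le_pCore (N := Q.subgroupOf L₀) inferInstance
      hQp.comap_subtype hx, rfl⟩
  by_cases hsol : Group.IsSolvable ↥Y
  · exact Or.inl ((Cfsg.Agent.S3045.result S P hSP hPmin L Y hL hiso hY).2 hsol).1
  right
  set R := Cfsg.pCore p G with hRdef
  set f := QuotientGroup.mk' R with hf
  have hfs : Function.Surjective f := QuotientGroup.mk'_surjective R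
  have hker : ∀ x, f x = 1 ↔ x ∈ R := fun x => QuotientGroup.eq_one_iff x
  obtain ⟨hSn, M, hM, -⟩ := hPmin (S.subtype hSP)
  haveI : M.normalCore.Normal := M.normalCore_normal
  obtain ⟨hA, -, hB, -, -⟩ := Cfsg.Agent.S2905.result hPmin (S.subtype hSP) M hM.1 hM.2
  have hD : ∀ D : Subgroup G, D.Normal → Q ≤ D → X ≤ D := by
    intro D hDn hQD
    haveI := hDn
    rcases hB (D.subgroupOf P) inferInstance with h | h
    · rintro x ⟨y, hy, rfl⟩; exact h hy
    · refine absurd (fun x hx => ?_) hiso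
      exact ⟨⟨x, hSP (hQS hx)⟩, hA (D.subgroupOf P) (Subgroup.Normal.isSubnormal inferInstance)
        (h.trans M.normalCore_le) ⟨hQD hx, by
          rw [Sylow.coe_subtype]; exact mem_subgroupOf.2 (hQS hx)⟩, rfl⟩
  have hset : Setup p (G ⧸ R) ((S : Subgroup G).map f) (X.map f) (Q.map f) (L.map f) (Y.map f) := by
    refine ⟨S.2.map f, hQp.map f, map_mono hQS, map_mono hXY, Cfsg.Agent.HallCore.pCore_quotient_self p G,
      (map_mono hLQ).trans (le_normalizer_map f), map_mono hSL, ?_,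
      (map_mono (hSP.trans hPX)).trans (le_normalizer_map f), ?_, ?_, ?_, ?_⟩
    · rw [← Subgroup.map_sup, ← map_top_of_surjective f hfs]; exact le_antisymm (map_mono le_top) (map_mono hGLX)
    · intro D hDn h
      haveI := hDn
      rw [map_le_iff_le_comap, hY]
      exact Subgroup.normalClosure_le_normal (map_le_iff_le_comap.1 h)
    · intro D hDn h
      exact map_le_iff_le_comap.2 (hD _ (hDn.comap f) (map_le_iff_le_comap.1 h))
    · intro h
      have hXQ : X ≤ normalizer (Q : Set G) := Cfsg.Agent.LocGroup56.le_normalizer_of_conj fun x hx q hq => by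
        have h1 := mem_centralizer_iff.1 (h ⟨q, hq, rfl⟩) (f x) ⟨x, hx, rfl⟩
        have h2 : x * q * x⁻¹ * q⁻¹ ∈ R := by
          rw [← hker, map_mul, map_mul, map_mul, map_inv, map_inv, h1]; group
        simpa using mul_mem (hRQ h2) hq
      have hP : P ≤ normalizer (Q : Set G) := hPXS ▸ sup_le hXQ (hSL.trans hLQ)
      haveI := (Subgroup.normal_subgroupOf_iff_le_normalizer (hQS.trans hSP)).2 hP
      refine hiso fun x hx => ⟨⟨x, hSP (hQS hx)⟩, ?_, rfl⟩
      exact Cfsg.Agent.LocGroup56.le_pCore (N := Q.subgroupOf P) inferInstance (hQp.comap_subtype) hx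
    · intro N hN
      set N' := N.comap f
      have hSN' : (S : Subgroup G) ≤ normalizer (N' : Set G) :=
        Cfsg.Agent.LocGroup56.le_normalizer_of_conj fun g hg x hx => by
          show f (g * x * g⁻¹) ∈ N
          rw [map_mul, map_mul, map_inv]
          exact Cfsg.Agent.LocGroup56.conj_mem_of_mem_normalizer (hN ⟨g, hg, rfl⟩) hx
      by_cases hPN : P ≤ N' ⊔ (S : Subgroup G)
      · left
        rw [map_le_iff_le_comap, hXdef, map_le_iff_le_comap, TransferPResidual.pResidual_le_iff_coprime]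
        intro g hg
        set H := N' ⊔ (S : Subgroup G)
        haveI : (N'.subgroupOf H).Normal :=
          (normal_subgroupOf_iff_le_normalizer le_sup_left).2 (sup_le le_normalizer hSN')
        set g' : ↥H := ⟨g, hPN g.2⟩
        have hgp : IsPGroup p (↥H ⧸ N'.subgroupOf H) := by
          have hsurj : Function.Surjective
              ((QuotientGroup.mk' (N'.subgroupOf H)).comp (inclusion (le_sup_right : (S : Subgroup G) ≤ H))) := by
            intro q
            induction q using QuotientGroup.induction_on with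
            | H h =>
              have hh := h.2
              rw [← SetLike.mem_coe, Subgroup.coe_mul_of_right_le_normalizer_left _ _ hSN'] at hh
              obtain ⟨n, hn, s, hs, hns⟩ := hh
              refine ⟨⟨s, hs⟩, ?_⟩
              have hns' : n * s = (h : G) := hns
              show ((inclusion (le_sup_right : (S : Subgroup G) ≤ H) ⟨s, hs⟩ : ↥H) : ↥H ⧸ N'.subgroupOf H) = (h : ↥H ⧸ N'.subgroupOf H)
              rw [QuotientGroup.eq, mem_subgroupOf]
              show s⁻¹ * (h : G) ∈ N'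
              rw [← hns', ← mul_assoc]
              simpa using Cfsg.Agent.LocGroup56.conj_mem_of_mem_normalizer (hSN' (inv_mem hs)) hn
          exact IsPGroup.of_surjective S.2 _ hsurj
        obtain ⟨k, hk⟩ := hgp (g' : ↥H ⧸ N'.subgroupOf H)
        show (g : G) ∈ N'
        suffices ((g' : ↥H ⧸ N'.subgroupOf H)) = 1 by
          exact mem_subgroupOf.1 ((QuotientGroup.eq_one_iff g').1 this)
        rw [← orderOf_eq_one_iff]
        refine Nat.eq_one_of_dvd_coprimes (hg.pow_right k) ?_ (orderOf_dvd_of_pow_eq_one hk)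
        refine (orderOf_map_dvd (QuotientGroup.mk' _) g').trans ?_
        rw [← Subgroup.orderOf_coe]
        exact (Subgroup.orderOf_coe g).dvd
      · right
        have hNSL : N' ⊔ (S : Subgroup G) ≤ L := Cfsg.Agent.S3045.le_of_minimals S _ L le_sup_right
          (inf_le_left.trans hNL) fun P' h1 h2 h3 => hP'L P' h1 h3 (fun h => hPN (h ▸ h2))
        intro n hn
        obtain ⟨n, rfl⟩ := hfs n
        exact ⟨n, hNSL (mem_sup_left hn), rfl⟩
  set Yb := Y.map f with hYb
  haveI hYbn : Yb.Normal := hYn.map f hfs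
  let g₀ : ↥Y →* ↥Yb := f.subgroupMap Y
  have hg₀s : Function.Surjective g₀ := f.subgroupMap_surjective Y
  haveI hcY : (Cfsg.pCore p ↥Y).Normal := Cfsg.Agent.HallCore.pCore_normal_inst p ↥Y
  have hcore : Cfsg.pCore p ↥Y = g₀.ker := by
    refine le_antisymm (fun y hy => ?_) (fun y hy => ?_)
    · rw [MonoidHom.mem_ker]
      refine Subtype.ext ((hker _).2 ?_)
      haveI : (Cfsg.pCore p ↥Y).Characteristic := Subgroup.characteristic_iff_map_eq.2
        fun e => Cfsg.Agent.ComponentsCores.pCore_map_mulEquiv e p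
      exact Cfsg.Agent.HallCore.le_pCore ((Cfsg.Agent.LocGroup56.pCore_isPGroup p ↥Y).map Y.subtype) ⟨y, hy, rfl⟩
    · refine Cfsg.Agent.LocGroup56.le_pCore (N := R.subgroupOf Y) inferInstance
        ((Cfsg.Agent.LocGroup56.pCore_isPGroup p G).comap_subtype) ?_
      exact (hker _).1 (congrArg Subtype.val hy)
  have hns : ¬ Group.IsSolvable ↥Yb := fun h => by
    haveI := h
    refine hsol (Group.isSolvable_of_ker_le_range (Cfsg.pCore p ↥Y).subtype g₀
      (by rw [← hcore, range_subtype]) (hG' := ?_))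
    haveI : Group.IsNilpotent ↥(Cfsg.pCore p ↥Y) := (Cfsg.Agent.LocGroup56.pCore_isPGroup p ↥Y).isNilpotent
    infer_instance
  let e : ↥Y ⧸ Cfsg.pCore p ↥Y ≃* ↥Yb :=
    (QuotientGroup.quotientMulEquivOfEq hcore).trans (QuotientGroup.quotientKerEquivOfSurjective g₀ hg₀s)
  have he : ∀ y : ↥Y, e y = g₀ y := fun y => rfl
  have hlt := hset.layer_top hns
  have hperf : ⁅Yb, Yb⁆ = Yb := by
    have h := congrArg (Subgroup.map Yb.subtype) (Cfsg.Agent.ComponentsBasic.layer_perfect (G := ↥Yb))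
    rw [hlt, map_commutator, ← MonoidHom.range_eq_map, Yb.range_subtype] at h
    exact h
  refine ⟨hcY, ?_, ?_, ?_⟩
  · rw [Nat.card_congr e.toEquiv]; exact hset.dvd_card hperf hns
  · have h := Cfsg.Agent.ComponentsBasic.layer_map_mulEquiv e.symm
    rw [hlt, map_top_of_surjective _ e.symm.surjective] at h
    exact h.symm
  · intro K₁ K₂ h₁ h₂
    let toG : Subgroup (↥Y ⧸ Cfsg.pCore p ↥Y) → Subgroup (G ⧸ R) := fun K =>
      (K.map e.toMonoidHom).map Yb.subtype
    have hsn : Yb.IsSubnormal := Subgroup.Normal.isSubnormal hYbn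
    have hcomp : ∀ K, Cfsg.IsComponent K → Cfsg.IsComponent (toG K) ∧ toG K ≤ Yb := fun K hK =>
      ⟨Cfsg.Agent.ComponentsBasic.isComponent_map_subtype hsn
        (Cfsg.Agent.ComponentsBasic.isComponent_map_mulEquiv e hK), map_subtype_le _⟩
    have hpre : ∀ K, (K.comap (QuotientGroup.mk' (Cfsg.pCore p ↥Y))).map Y.subtype = (toG K).comap f ⊓ Y := by
      intro K
      ext x
      constructor
      · rintro ⟨y, hy, rfl⟩
        exact Subgroup.mem_inf.2 ⟨⟨g₀ y, ⟨_, hy, he y⟩, rfl⟩, y.2⟩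
      · rintro ⟨⟨z, ⟨k, hk, hkz⟩, hzx⟩, hxY⟩
        refine ⟨⟨x, hxY⟩, ?_, rfl⟩
        have hz : z = g₀ ⟨x, hxY⟩ := Subtype.ext hzx
        have : k = (⟨x, hxY⟩ : ↥Y) := e.injective (by rw [he, ← hz]; exact hkz)
        show ((⟨x, hxY⟩ : ↥Y) : ↥Y ⧸ Cfsg.pCore p ↥Y) ∈ K
        rw [← this]; exact hk
    obtain ⟨_, ⟨s, hs, rfl⟩, hK⟩ := hset.transitive hns (toG K₁) (toG K₂) (hcomp K₁ h₁).1 (hcomp K₁ h₁).2
      (hcomp K₂ h₂).1 (hcomp K₂ h₂).2
    refine ⟨s, hs, ?_⟩
    rw [hpre, hpre, hK]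
    ext x
    rw [map_conj_mem, Subgroup.mem_inf, Subgroup.mem_inf, mem_comap, mem_comap, map_conj_mem]
    refine and_congr ?_ ⟨fun hx => by simpa using hYn.conj_mem x hx s⁻¹, fun hx => ?_⟩
    · simp [map_mul, map_inv]
    · simpa [mul_assoc] using hYn.conj_mem _ hx s

end Cfsg.Agent.S3044
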