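import Cfsg.Statements.S3048
import Cfsg.Agent.S3012
import Cfsg.Agent.Lib.ComponentsP
import Cfsg.Agent.Lib.HallCore
import Cfsg.Agent.Lib.CoprimeAction

set_option autoImplicit false
set_option linter.style.haveILetI false
universe u
open Cfsg

namespace Cfsg.Agent.S3048

open Subgroup
open scoped commutatorElement

section Basic

variable {G : Type u} [Group G]

/-- An element of odd order whose square is fixed is fixed. -/
theorem commute_of_sq {z a : G} (ha : Odd (orderOf a)) (h : Commute z (a * a)) : Commute z a := by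
  obtain ⟨m, hm⟩ := exists_pow_eq_self_of_coprime (show Nat.Coprime 2 (orderOf a) from ha.coprime_two_left)
  rw [← pow_two] at h
  exact hm ▸ h.pow_right m

/-- An element of odd order which is its own inverse is trivial. -/
theorem eq_one_of_inv {a : G} (ha : Odd (orderOf a)) (h : a⁻¹ = a) : a = 1 := by
  have h1 : a * a = 1 := by nth_rw 1 [← h]; exact inv_mul_cancel a
  obtain ⟨m, hm⟩ := exists_pow_eq_self_of_coprime (show Nat.Coprime 2 (orderOf a) from ha.coprime_two_left)
  rw [← hm, pow_two, h1, one_pow]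

theorem inv_self {V : Subgroup G} (hV : Cfsg.IsElementaryAbelian 2 V) {v : G} (hv : v ∈ V) :
    v⁻¹ = v := inv_eq_of_mul_eq_one_right (by rw [← pow_two]; exact hV.2 v hv)

theorem comm_of_mem {V : Subgroup G} (hV : Cfsg.IsElementaryAbelian 2 V) {v w : G} (hv : v ∈ V)
    (hw : w ∈ V) : Commute v w :=
  congrArg Subtype.val (hV.1.is_comm.comm (⟨v, hv⟩ : V) ⟨w, hw⟩)

/-- Elements of odd order in `X ⊔ N`, for `X` elementary abelian normalizing `N`, lie in `N`. -/
theorem odd_mem {V X N : Subgroup G} (hV : Cfsg.IsElementaryAbelian 2 V) (hXV : X ≤ V)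
    (hXN : X ≤ normalizer (N : Set G)) {h : G} (hh : h ∈ X ⊔ N) (ho : Odd (orderOf h)) :
    h ∈ N := by
  have hmem : h ∈ (↑(X ⊔ N) : Set G) := hh
  rw [coe_mul_of_left_le_normalizer_right X N hXN] at hmem
  obtain ⟨x, hx, n, hn, hxn⟩ := hmem
  change x * n = h at hxn
  subst hxn
  have hsq : (x * n) ^ 2 ∈ N := by
    have e : (x * n) ^ 2 = (x * n * x⁻¹) * n := by
      rw [pow_two, inv_self hV (hXV hx)]; group
    rw [e]
    exact mul_mem ((mem_normalizer_iff.mp (hXN hx) n).mp hn) hn
  obtain ⟨m, hm⟩ := exists_pow_eq_self_of_coprime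
    (show Nat.Coprime 2 (orderOf (x * n)) from ho.coprime_two_left)
  rw [← hm]
  exact pow_mem hsq m

theorem exists_ne_one {H : Subgroup G} (h : H ≠ ⊥) : ∃ x ∈ H, x ≠ 1 :=
  H.bot_or_exists_ne_one.resolve_left h

theorem isPGroup_two {z : G} (hz : z ^ 2 = 1) : IsPGroup 2 (zpowers z) := fun g => ⟨1, by
  obtain ⟨j, hj⟩ := mem_zpowers_iff.mp g.2
  apply Subtype.ext
  rw [Subgroup.coe_pow, ← hj, pow_one, ← zpow_natCast, ← zpow_mul, mul_comm, zpow_mul,
    zpow_natCast, hz, one_zpow, Subgroup.coe_one]⟩

end Basic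

variable {G : Type u} [Group G] [Finite G]

/-- With trivial `O₂(G)`, a `2`-subgroup subnormal in `G` is trivial. -/
theorem subnormal_two_bot (hO : Cfsg.pCore 2 G = ⊥) {R : Subgroup G} (hR : R.IsSubnormal)
    (h2 : IsPGroup 2 R) : R = ⊥ := by
  haveI := Fact.mk Nat.prime_two
  haveI : Group.IsNilpotent R := h2.isNilpotent
  have hle : R ≤ Cfsg.fittingSubgroup G :=
    ComponentsFitting.subnormal_nilpotent_le_fitting hR inferInstance
  have hodd : Odd (Nat.card (Cfsg.fittingSubgroup G)) := by
    rw [← Nat.not_even_iff_odd, even_iff_two_dvd]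
    intro hd
    obtain ⟨T⟩ : Nonempty (Sylow 2 (Cfsg.fittingSubgroup G)) := inferInstance
    haveI hn : (T : Subgroup (Cfsg.fittingSubgroup G)).Normal := inferInstance
    haveI : (T : Subgroup (Cfsg.fittingSubgroup G)).Characteristic :=
      T.characteristic_of_normal hn
    have h1 : (T : Subgroup (Cfsg.fittingSubgroup G)).map (Cfsg.fittingSubgroup G).subtype ≤
        Cfsg.pCore 2 G := le_sSup ⟨inferInstance, T.2.map _⟩
    rw [hO, le_bot_iff, map_eq_bot_iff_of_injective _ (subtype_injective _)] at h1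
    exact T.ne_bot_of_dvd_card hd h1
  obtain ⟨k, hk⟩ := IsPGroup.iff_card.mp h2
  have : Nat.card R ∣ Nat.card (Cfsg.fittingSubgroup G) := card_dvd_of_le hle
  rw [hk] at this
  rcases k with _ | k
  · exact eq_bot_of_card_eq R (by rw [hk, pow_zero])
  · exact absurd ((dvd_pow_self 2 k.succ_ne_zero).trans this) hodd.not_two_dvd_nat

/-- The key tool: an elementary abelian `2`-group acting faithfully on a subnormal subgroup
inside a proper subgroup inverts an element which it fixes only trivially. -/
theorem bad (hO : Cfsg.pCore 2 G = ⊥) {V : Subgroup G} (hV : Cfsg.IsElementaryAbelian 2 V)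
    (hminG : ∀ (H : Type u) [Group H] [Finite H] (W : Subgroup H), Nat.card H < Nat.card G →
      Cfsg.IsElementaryAbelian 2 W → W ≠ ⊥ → Cfsg.IsSidkiPair W → W ⊓ Cfsg.pCore 2 H ≠ ⊥)
    {X N : Subgroup G} (hXV : X ≤ V) (hX1 : X ≠ ⊥) (hXN : X ≤ normalizer (N : Set G))
    (hNs : N.IsSubnormal) (hproper : X ⊔ N ≠ ⊤)
    (hfaith : ∀ z ∈ X, (∀ n ∈ N, Commute z n) → z = 1) :
    ∃ h ∈ N, Odd (orderOf h) ∧ ∃ w ∈ X, w * h * w⁻¹ = h⁻¹ ∧
      ∀ z ∈ X, Commute z h → z = 1 := by
  by_contra hne
  set H := X ⊔ N with hH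
  have hHlt : Nat.card H < Nat.card G :=
    lt_of_le_of_ne (Subgroup.card_le_card_group H) fun e => hproper (eq_top_of_card_eq H e)
  have hXH : X ≤ H := le_sup_left
  have hNH : N ≤ H := le_sup_right
  have hHN : H ≤ normalizer (N : Set G) := sup_le hXN le_normalizer
  have hW : Cfsg.IsElementaryAbelian 2 (X.subgroupOf H) :=
    ⟨⟨⟨fun a b => Subtype.ext (Subtype.ext (comm_of_mem hV (hXV a.2) (hXV b.2)).eq)⟩⟩,
      fun a ha => Subtype.ext (hV.2 _ (hXV ha))⟩
  have hW1 : X.subgroupOf H ≠ ⊥ := fun e => hX1 (by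
    have := congrArg (map H.subtype) e
    rwa [subgroupOf_map_subtype, inf_of_le_left hXH, Subgroup.map_bot] at this)
  have hWS : Cfsg.IsSidkiPair (X.subgroupOf H) := by
    intro h v hv ho hinv
    have ho' : Odd (orderOf (h : G)) := by rwa [Subgroup.orderOf_coe]
    have hinv' : (v : G) * h * (v : G)⁻¹ = (h : G)⁻¹ := congrArg Subtype.val hinv
    by_contra hnone
    refine hne ⟨h, odd_mem hV hXV hXN h.2 ho', ho', v, hv, hinv', fun z hz hzc => ?_⟩
    by_contra hz1
    exact hnone ⟨⟨z, hXH hz⟩, hz, fun e => hz1 (congrArg Subtype.val e), Subtype.ext hzc⟩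
  apply hminG H (X.subgroupOf H) hHlt hW hW1 hWS
  rw [eq_bot_iff]
  rintro u ⟨huX, huO⟩
  rw [mem_bot]
  apply Subtype.ext
  apply hfaith u huX
  intro n hn
  set R := (Cfsg.pCore 2 H).map H.subtype ⊓ N with hR
  have hR2 : IsPGroup 2 R := ((HallCore.isPGroup_pCore 2 H).map _).to_le inf_le_left
  have hRN : N ≤ normalizer (R : Set G) := by
    refine ComponentsBasic.le_normalizer_of_normal_subgroupOf inf_le_right ?_
    refine ⟨fun r hr g => ⟨?_, N.mul_mem (N.mul_mem g.2 r.2) (N.inv_mem g.2)⟩⟩
    obtain ⟨r', hr', e⟩ := hr.1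
    exact ⟨⟨g, hNH g.2⟩ * r' * ⟨g, hNH g.2⟩⁻¹,
      (Cfsg.pCore_normal 2 H).conj_mem r' hr' _, by
        simp only [coe_subtype] at e
        simp [e]⟩
  have hRbot : R = ⊥ :=
    subnormal_two_bot hO (ComponentsBasic.isSubnormal_of_le_normalizer inf_le_right hNs hRN) hR2
  have hmem : (u : G) * n * (u : G)⁻¹ * n⁻¹ ∈ R := by
    refine ⟨⟨u * (⟨n, hNH hn⟩ * u⁻¹ * ⟨n, hNH hn⟩⁻¹), ?_, ?_⟩, ?_⟩
    · exact mul_mem huO ((Cfsg.pCore_normal 2 H).conj_mem _ (inv_mem huO) _)
    · simp [mul_assoc]
    · exact N.mul_mem ((mem_normalizer_iff.mp (hHN u.2) n).mp hn) (N.inv_mem hn)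
  rw [hRbot, mem_bot, mul_inv_eq_one, mul_inv_eq_iff_eq_mul] at hmem
  exact hmem

/-- Two commuting invariant normal subgroups, jointly faithful, contradict the pair condition. -/
theorem split (hO : Cfsg.pCore 2 G = ⊥) {V : Subgroup G} (hV : Cfsg.IsElementaryAbelian 2 V)
    (hV1 : V ≠ ⊥) (hS : Cfsg.IsSidkiPair V)
    (hminG : ∀ (H : Type u) [Group H] [Finite H] (W : Subgroup H), Nat.card H < Nat.card G →
      Cfsg.IsElementaryAbelian 2 W → W ≠ ⊥ → Cfsg.IsSidkiPair W → W ⊓ Cfsg.pCore 2 H ≠ ⊥)
    (N1 N2 : Subgroup G) [N1.Normal] [N2.Normal]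
    (hcomm : ∀ a ∈ N1, ∀ b ∈ N2, Commute a b) (h1 : V ⊔ N1 ≠ ⊤) (h2 : V ⊔ N2 ≠ ⊤)
    (hfaith : ∀ z ∈ V, (∀ n ∈ N1, Commute z n) → (∀ n ∈ N2, Commute z n) → z = 1) : False := by
  have hnorm : ∀ (N : Subgroup G) [N.Normal] (X : Subgroup G), X ≤ normalizer (N : Set G) :=
    fun N _ X => by rw [normalizer_eq_top_iff.mpr inferInstance]; exact le_top
  set W := V ⊓ centralizer (N2 : Set G) with hW
  have hWc : ∀ w ∈ W, ∀ n ∈ N2, Commute w n := fun w hw n hn =>
    (mem_centralizer_iff.mp hw.2 n hn).symm
  have hW1 : W ≠ ⊥ := by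
    intro e
    obtain ⟨h, -, ho, w, hw, hinv, hz⟩ := bad hO hV hminG (le_refl V) hV1 (hnorm N2 V)
      (Normal.isSubnormal inferInstance) h2 (fun z hz hzn => by
        have : z ∈ W := ⟨hz, mem_centralizer_iff.mpr fun n hn => (hzn n hn).eq.symm⟩
        rwa [e, mem_bot] at this)
    obtain ⟨z, hzV, hz1, hzh⟩ := hS h w hw ho hinv
    exact hz1 (hz z hzV hzh)
  have hp1 : W ⊔ N1 ≠ ⊤ := fun e => h1 (top_le_iff.mp (e ▸ sup_le_sup_right inf_le_left _))
  obtain ⟨h, hh, ho, w, hw, hinv, hz⟩ := bad hO hV hminG (inf_le_left : W ≤ V) hW1 (hnorm N1 W)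
    (Normal.isSubnormal inferInstance) hp1 (fun z hz hzn => hfaith z hz.1 hzn (hWc z hz))
  set W' := V ⊓ centralizer ({h} : Set G) with hW'
  have hW'1 : W' ≠ ⊥ := by
    intro e
    obtain ⟨z, hzV, hz1, hzh⟩ := hS h w hw.1 ho hinv
    have : z ∈ W' := ⟨hzV, mem_centralizer_singleton_iff.mpr hzh⟩
    rw [e, mem_bot] at this
    exact hz1 this
  have hp2 : W' ⊔ N2 ≠ ⊤ := fun e => h2 (top_le_iff.mp (e ▸ sup_le_sup_right inf_le_left _))
  obtain ⟨y, hy, hyo, w', hw', hinv', hz'⟩ := bad hO hV hminG (inf_le_left : W' ≤ V) hW'1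
    (hnorm N2 W') (Normal.isSubnormal inferInstance) hp2 (fun z hz' hzn => hz z
      ⟨hz'.1, mem_centralizer_iff.mpr fun n hn => (hzn n hn).eq.symm⟩
      (mem_centralizer_singleton_iff.mp hz'.2))
  have hhy : Commute h y := hcomm h hh y hy
  have hodd : Odd (orderOf (h * y)) :=
    Odd.of_dvd_nat (ho.mul hyo) hhy.orderOf_mul_dvd_mul_orderOf
  have hwy : w * y * w⁻¹ = y := by rw [(hWc w hw y hy).eq, mul_inv_cancel_right]
  have hw'h : w' * h * w'⁻¹ = h := by
    rw [mem_centralizer_singleton_iff.mp hw'.2, mul_inv_cancel_right]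
  have hinv2 : (w * w') * (h * y) * (w * w')⁻¹ = (h * y)⁻¹ := by
    calc (w * w') * (h * y) * (w * w')⁻¹
        = w * ((w' * h * w'⁻¹) * (w' * y * w'⁻¹)) * w⁻¹ := by group
      _ = (w * h * w⁻¹) * (w * y * w⁻¹)⁻¹ := by rw [hw'h, hinv']; group
      _ = h⁻¹ * y⁻¹ := by rw [hinv, hwy]
      _ = (h * y)⁻¹ := by rw [mul_inv_rev, hhy.inv_inv.eq]
  obtain ⟨z, hzV, hz1, hzc⟩ := hS (h * y) (w * w') (mul_mem hw.1 hw'.1) hodd hinv2
  apply hz1
  have hzc : Commute z (h * y) := hzc
  -- `z` also fixes the image `h⁻¹ * y` of `h * y` under `w`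
  have hzw : Commute z (h⁻¹ * y) := by
    have e : h⁻¹ * y = w * (h * y) * w⁻¹ := by
      rw [show w * (h * y) * w⁻¹ = (w * h * w⁻¹) * (w * y * w⁻¹) by group, hinv, hwy]
    rw [e]
    exact ((comm_of_mem hV hzV hw.1).mul_right hzc).mul_right (comm_of_mem hV hzV hw.1).inv_right
  have hzy : Commute z y := commute_of_sq hyo (by
    have := hzc.mul_right hzw
    rwa [show h * y * (h⁻¹ * y) = y * y by
      rw [show h * y = y * h from hhy.eq]; group] at this)
  have hzh : Commute z h := by
    have := hzc.mul_right hzy.inv_right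
    rwa [mul_inv_cancel_right] at this
  exact hz' z ⟨hzV, mem_centralizer_singleton_iff.mpr hzh⟩ hzy

/-- The commutator subgroup of a finite nilpotent group lies in the Frattini subgroup. -/
theorem commutator_le_frattini {F : Type*} [Group F] [Finite F] [Group.IsNilpotent F] :
    commutator F ≤ frattini F := by
  rw [frattini, Order.radical]
  refine le_iInf₂ fun M hM => ?_
  haveI hMn : M.Normal := NormalizerCondition.normal_of_coatom M Group.normalizerCondition_of_isNilpotent hM
  obtain ⟨g, -, hg⟩ := SetLike.exists_of_lt hM.1.lt_top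
  have htop : M ⊔ zpowers g = ⊤ := hM.2 _ (lt_of_le_of_ne le_sup_left fun e =>
    hg (e ▸ mem_sup_right (mem_zpowers g)))
  exact Normal.commutator_le_of_self_sup_commutative_eq_top htop inferInstance

/-- `O₂(G) = 1`. -/
theorem pCore_bot {V : Subgroup G} (hV : Cfsg.IsElementaryAbelian 2 V) (hV1 : V ≠ ⊥)
    (hS : Cfsg.IsSidkiPair V) (hVO : V ⊓ Cfsg.pCore 2 G = ⊥)
    (hminG : ∀ (H : Type u) [Group H] [Finite H] (W : Subgroup H), Nat.card H < Nat.card G →
      Cfsg.IsElementaryAbelian 2 W → W ≠ ⊥ → Cfsg.IsSidkiPair W → W ⊓ Cfsg.pCore 2 H ≠ ⊥) :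
    Cfsg.pCore 2 G = ⊥ := by
  by_contra hne
  have hq := S3012.result V (Cfsg.pCore 2 G) hV hV1 hS hVO
  have hcard : Nat.card (G ⧸ Cfsg.pCore 2 G) < Nat.card G := by
    rw [card_eq_card_quotient_mul_card_subgroup (Cfsg.pCore 2 G)]
    exact lt_mul_of_one_lt_right Nat.card_pos ((one_lt_card_iff_ne_bot _).mpr hne)
  refine hminG _ (V.map (QuotientGroup.mk' _)) hcard ?_ ?_ hq ?_
  · refine ⟨⟨⟨?_⟩⟩, ?_⟩
    · rintro ⟨_, a, ha, rfl⟩ ⟨_, b, hb, rfl⟩
      exact Subtype.ext ((comm_of_mem hV ha hb).map (QuotientGroup.mk' _)).eq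
    · rintro _ ⟨a, ha, rfl⟩
      rw [← map_pow, hV.2 a ha, map_one]
  · intro e
    rw [Subgroup.map_eq_bot_iff, QuotientGroup.ker_mk'] at e
    exact hV1 (le_bot_iff.mp (hVO ▸ le_inf le_rfl e))
  · rw [HallCore.pCore_quotient_self]
    exact inf_bot_eq _

/-- Quotient by a normal odd subgroup: some element of `V` centralizes every normal subgroup of odd
order modulo it, and every perfect subgroup commuting with solvable normal subgroups. -/
theorem quotient_meets {V : Subgroup G} (hV : Cfsg.IsElementaryAbelian 2 V) (hV1 : V ≠ ⊥)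
    (hS : Cfsg.IsSidkiPair V)
    (hminG : ∀ (H : Type u) [Group H] [Finite H] (W : Subgroup H), Nat.card H < Nat.card G →
      Cfsg.IsElementaryAbelian 2 W → W ≠ ⊥ → Cfsg.IsSidkiPair W → W ⊓ Cfsg.pCore 2 H ≠ ⊥)
    (M : Subgroup G) [M.Normal] (hM : M ≠ ⊥) (hMo : Odd (Nat.card M)) :
    ∃ u ∈ V, u ≠ 1 ∧ QuotientGroup.mk' M u ∈ Cfsg.pCore 2 (G ⧸ M) := by
  have hVM : V ⊓ M = ⊥ := by
    rw [eq_bot_iff]
    rintro v ⟨hv, hvM⟩
    exact mem_bot.mpr (eq_one_of_inv (hMo.of_dvd_nat (orderOf_dvd_natCard M hvM)) (inv_self hV hv))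
  have hq := S3012.result V M hV hV1 hS hVM
  have hcard : Nat.card (G ⧸ M) < Nat.card G := by
    rw [card_eq_card_quotient_mul_card_subgroup M]
    exact lt_mul_of_one_lt_right Nat.card_pos ((one_lt_card_iff_ne_bot _).mpr hM)
  have hne := hminG _ (V.map (QuotientGroup.mk' M)) hcard ⟨⟨⟨by
      rintro ⟨_, a, ha, rfl⟩ ⟨_, b, hb, rfl⟩
      exact Subtype.ext ((comm_of_mem hV ha hb).map (QuotientGroup.mk' _)).eq⟩⟩, by
      rintro _ ⟨a, ha, rfl⟩
      rw [← map_pow, hV.2 a ha, map_one]⟩ (fun e => by
      rw [Subgroup.map_eq_bot_iff, QuotientGroup.ker_mk'] at e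
      exact hV1 (le_bot_iff.mp (hVM ▸ le_inf le_rfl e))) hq
  by_contra hnone
  apply hne
  rw [eq_bot_iff]
  rintro _ ⟨⟨a, ha, rfl⟩, h2⟩
  rw [mem_bot]
  by_contra h1
  exact hnone ⟨a, ha, fun e => h1 (by rw [e, map_one]), h2⟩

/-- Minimal counterexample reduction for the Sidki pair problem. Let G be a finite group and V a nontrivial elementary abelian 2-subgroup satisfying the Sidki pair condition with V ∩ O₂(G) = 1. Suppose that for every finite group H of smaller order, every nontrivial elementary abelian 2-subgroup W of H satisfying the Sidki pair condition meets O₂(H) nontrivially, and that the same holds in G for every such subgroup W of order smaller than that of V. Then the generalized Fitting subgroup F*(G) is a non-abelian simple group and G = V F*(G). -/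
theorem result {G : Type u} [Group G] [Finite G] (V : Subgroup G) (hV : Cfsg.IsElementaryAbelian 2 V) (hV1 : V ≠ ⊥) (hS : Cfsg.IsSidkiPair V) (hVO : V ⊓ Cfsg.pCore 2 G = ⊥) (hminG : ∀ (H : Type u) [Group H] [Finite H] (W : Subgroup H), Nat.card H < Nat.card G → Cfsg.IsElementaryAbelian 2 W → W ≠ ⊥ → Cfsg.IsSidkiPair W → W ⊓ Cfsg.pCore 2 H ≠ ⊥) (hminV : ∀ W : Subgroup G, Nat.card W < Nat.card V → Cfsg.IsElementaryAbelian 2 W → W ≠ ⊥ → Cfsg.IsSidkiPair W → W ⊓ Cfsg.pCore 2 G ≠ ⊥) : IsSimpleGroup ↥(Cfsg.generalizedFittingSubgroup G) ∧ ¬ IsMulCommutative ↥(Cfsg.generalizedFittingSubgroup G) ∧ V ⊔ Cfsg.generalizedFittingSubgroup G = ⊤ := by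
  classical
  haveI := Fact.mk Nat.prime_two
  have hO := pCore_bot hV hV1 hS hVO hminG
  obtain ⟨E, hE⟩ : ∃ E, E = layer G := ⟨_, rfl⟩
  obtain ⟨F, hF⟩ : ∃ F, F = Cfsg.fittingSubgroup G := ⟨_, rfl⟩
  have hgen : Cfsg.generalizedFittingSubgroup G = E ⊔ F := by rw [hE, hF]; rfl
  have hEn : E.Normal := by rw [hE]; infer_instance
  have hFn : F.Normal := by rw [hF]; exact Subgroup.sSup_normal _ fun _ h => h.1
  have hFnil : Group.IsNilpotent F := by rw [hF]; infer_instance
  have hFodd : Odd (Nat.card F) := by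
    rw [← Nat.not_even_iff_odd, even_iff_two_dvd]
    intro hd
    obtain ⟨T⟩ : Nonempty (Sylow 2 F) := inferInstance
    haveI hn : (T : Subgroup F).Normal := inferInstance
    haveI : (T : Subgroup F).Characteristic := T.characteristic_of_normal hn
    have h1 : (T : Subgroup F).map F.subtype = ⊥ :=
      subnormal_two_bot hO (Normal.isSubnormal inferInstance) (T.2.map _)
    rw [map_eq_bot_iff_of_injective _ (subtype_injective _)] at h1
    exact T.ne_bot_of_dvd_card hd h1
  have hnormF : ∀ X : Subgroup G, X ≤ normalizer (F : Set G) := fun X => by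
    rw [normalizer_eq_top_iff.mpr hFn]; exact le_top
  have hnormE : ∀ X : Subgroup G, X ≤ normalizer (E : Set G) := fun X => by
    rw [normalizer_eq_top_iff.mpr hEn]; exact le_top
  have hgne : V ⊔ Cfsg.generalizedFittingSubgroup G = ⊤ := by
    by_contra hne
    have hfaith : ∀ z ∈ V, (∀ n ∈ Cfsg.generalizedFittingSubgroup G, Commute z n) → z = 1 := by
      intro z hz hzn
      have hzg : z ∈ Cfsg.generalizedFittingSubgroup G := ComponentsFitting.centralizer_gen_le
        (mem_centralizer_iff.mpr fun n hn => (hzn n hn).eq.symm)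
      have hR := subnormal_two_bot hO (R := zpowers z)
        (ComponentsBasic.isSubnormal_of_le_normalizer (zpowers_le.mpr hzg)
          (Normal.isSubnormal (by rw [hgen]; infer_instance))
          (fun n hn => mem_normalizer_iff.mpr fun t => by
            constructor
            · intro ht
              obtain ⟨k, rfl⟩ := mem_zpowers_iff.mp ht
              rw [← ((hzn n hn).zpow_left k).eq, mul_inv_cancel_right]
              exact ⟨k, rfl⟩
            · intro ht
              obtain ⟨k, hk⟩ := mem_zpowers_iff.mp ht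
              refine ⟨k, ?_⟩
              show z ^ k = t
              calc z ^ k = n⁻¹ * z ^ k * n := by
                    rw [mul_assoc, ((hzn n hn).zpow_left k).eq, inv_mul_cancel_left]
                _ = t := by rw [hk]; group))
        (isPGroup_two (hV.2 z hz))
      exact zpowers_eq_bot.mp hR
    obtain ⟨h, -, ho, w, hw, hinv, hz⟩ := bad hO hV hminG (le_refl V) hV1
      (by rw [normalizer_eq_top_iff.mpr (by rw [hgen]; infer_instance)]; exact le_top)
      (Normal.isSubnormal (by rw [hgen]; infer_instance)) hne hfaith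
    obtain ⟨z, hzV, hz1, hzh⟩ := hS h w hw ho hinv
    exact hz1 (hz z hzV hzh)
  -- centralizing the whole generalized Fitting subgroup
  have hfaith : ∀ z ∈ V, (∀ n ∈ E, Commute z n) → (∀ n ∈ F, Commute z n) → z = 1 := by
    intro z hz hzE hzF
    have hle : Cfsg.generalizedFittingSubgroup G ≤ centralizer ({z} : Set G) := by
      rw [hgen]
      exact sup_le (fun n hn => mem_centralizer_singleton_iff.mpr (hzE n hn).eq.symm)
        (fun n hn => mem_centralizer_singleton_iff.mpr (hzF n hn).eq.symm)
    have hzcen : z ∈ Subgroup.center G := by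
      rw [mem_center_iff]
      intro g
      have hg : g ∈ V ⊔ Cfsg.generalizedFittingSubgroup G := hgne ▸ mem_top g
      have hle' : V ⊔ Cfsg.generalizedFittingSubgroup G ≤ centralizer ({z} : Set G) :=
        sup_le (fun v hv => mem_centralizer_singleton_iff.mpr (comm_of_mem hV hv hz).eq) hle
      exact mem_centralizer_singleton_iff.mp (hle' hg)
    have hn : (zpowers z).Normal := ⟨fun t ht g => by
      obtain ⟨k, rfl⟩ := mem_zpowers_iff.mp ht
      have hc : Commute g z := mem_center_iff.mp hzcen g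
      rw [(hc.zpow_right k).eq, mul_inv_cancel_right]
      exact ⟨k, rfl⟩⟩
    exact zpowers_eq_bot.mp (subnormal_two_bot hO (Normal.isSubnormal hn)
      (isPGroup_two (hV.2 z hz)))
  have hEcF : ∀ a ∈ E, ∀ b ∈ F, Commute a b := fun a ha b hb =>
    (mem_centralizer_iff.mp (ComponentsFitting.layer_le_centralizer_fitting (hE ▸ ha)) b
      (hF ▸ hb)).symm
  -- no Fitting subgroup
  have hFbot : F = ⊥ := by
    by_contra hF1
    haveI := hEn
    haveI := hFn
    rcases eq_or_ne E ⊥ with hE1 | hE1
    · -- `G = V F`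
      have hVF : V ⊔ F = ⊤ := by
        rw [hgen, hE1, bot_sup_eq] at hgne; exact hgne
      by_cases hab : commutator F = ⊥
      · have hFab : ∀ a ∈ F, ∀ b ∈ F, Commute a b := fun a ha b hb => by
          have h1 : ⁅(⟨a, ha⟩ : F), ⟨b, hb⟩⁆ ∈ commutator F :=
            commutator_mem_commutator (mem_top _) (mem_top _)
          rw [hab, mem_bot, commutatorElement_eq_one_iff_mul_comm] at h1
          exact congrArg Subtype.val h1
        have hodd : ∀ a ∈ F, Odd (orderOf a) := fun a ha =>
          hFodd.of_dvd_nat (Subgroup.orderOf_dvd_natCard F ha)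
        have hall : ∀ u ∈ V, u ≠ 1 → ∀ a ∈ F, u * a * u⁻¹ = a⁻¹ := by
          intro u hu hu1
          by_contra hnot
          set N1 := F ⊓ centralizer ({u} : Set G) with hN1
          let N2 : Subgroup G :=
            { carrier := {a | a ∈ F ∧ u * a * u⁻¹ = a⁻¹}
              one_mem' := ⟨one_mem F, by simp⟩
              mul_mem' := fun {a b} ha hb => ⟨mul_mem ha.1 hb.1, by
                rw [show u * (a * b) * u⁻¹ = (u * a * u⁻¹) * (u * b * u⁻¹) by group, ha.2, hb.2,
                  mul_inv_rev, (hFab a ha.1 b hb.1).inv_inv.eq]⟩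
              inv_mem' := fun {a} ha => ⟨inv_mem ha.1, by
                rw [show u * a⁻¹ * u⁻¹ = (u * a * u⁻¹)⁻¹ by group, ha.2]⟩ }
          have hN2 : ∀ {a}, a ∈ N2 ↔ a ∈ F ∧ u * a * u⁻¹ = a⁻¹ := Iff.rfl
          have hnormal : ∀ N : Subgroup G, N ≤ F → (∀ v ∈ V, ∀ a ∈ N, v * a * v⁻¹ ∈ N) →
              N.Normal := by
            intro N hNF hinvN
            refine normalizer_eq_top_iff.mp (top_le_iff.mp (hVF ▸ sup_le ?_ ?_))
            · intro v hv
              refine mem_normalizer_iff.mpr fun a => ⟨hinvN v hv a, fun ha => ?_⟩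
              have := hinvN v hv _ ha
              rw [inv_self hV hv] at this
              have e : v * (v * a * v) * v = a := by
                calc v * (v * a * v) * v = (v * v) * a * (v * v) := by group
                  _ = a := by rw [show v * v = 1 from (pow_two v).symm.trans (hV.2 v hv), one_mul, mul_one]
              rwa [e] at this
            · intro f hf
              refine mem_normalizer_iff.mpr fun a => ⟨fun ha => ?_, fun ha => ?_⟩
              · rwa [(hFab f hf a (hNF ha)).eq, mul_inv_cancel_right]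
              · have haF := hNF ha
                have := (hFab f hf _ haF).eq
                have e : a = f * a * f⁻¹ := by
                  calc a = f⁻¹ * (f * a * f⁻¹ * f) := by group
                    _ = f⁻¹ * (f * (f * a * f⁻¹)) := by rw [this]
                    _ = f * a * f⁻¹ := by group
                rwa [e]
          haveI : N1.Normal := hnormal N1 inf_le_left fun v hv a ha =>
            ⟨hFn.conj_mem a ha.1 v, mem_centralizer_singleton_iff.mpr (by
              have h1 : Commute u a := (mem_centralizer_singleton_iff.mp ha.2).symm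
              exact (((comm_of_mem hV hu hv).mul_right h1).mul_right
                (comm_of_mem hV hu hv).inv_right).eq.symm)⟩
          haveI : N2.Normal := hnormal N2 (fun a ha => ha.1) fun v hv a ha =>
            ⟨hFn.conj_mem a ha.1 v, by
              have hc : u * v = v * u := (comm_of_mem hV hu hv).eq
              calc u * (v * a * v⁻¹) * u⁻¹ = (u * v) * a * (u * v)⁻¹ := by group
                _ = v * (u * a * u⁻¹) * v⁻¹ := by rw [hc]; group
                _ = (v * a * v⁻¹)⁻¹ := by rw [ha.2]; group⟩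
          have htop : ∀ N : Subgroup G, N.Normal → V ⊔ N = ⊤ → ∀ a ∈ F, a ∈ N := by
            intro N hN e a ha
            exact odd_mem hV (le_refl V) (by rw [normalizer_eq_top_iff.mpr hN]; exact le_top)
              (e ▸ mem_top a) (hodd a ha)
          refine split hO hV hV1 hS hminG N1 N2 (fun a ha b hb => hFab a ha.1 b hb.1) ?_ ?_ ?_
          · intro e
            apply hu1
            refine hfaith u hu (fun n hn => ?_) (fun n hn =>
              (mem_centralizer_singleton_iff.mp (htop N1 inferInstance e n hn).2).symm)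
            rw [hE1, mem_bot] at hn
            rw [hn]; exact Commute.one_right u
          · exact fun e => hnot fun a ha => (hN2.mp (htop N2 inferInstance e a ha)).2
          · intro z hz hz1 hz2
            refine hfaith z hz (fun n hn => ?_) fun a ha => commute_of_sq (hodd a ha) ?_
            · rw [hE1, mem_bot] at hn
              rw [hn]; exact Commute.one_right z
            have haF' := hFn.conj_mem a ha u
            have e : a * a = (a * (u * a * u⁻¹)) * (a * (u * a * u⁻¹)⁻¹) := by
              rw [show a * (u * a * u⁻¹)⁻¹ = (u * a * u⁻¹)⁻¹ * a from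
                (hFab a ha _ (inv_mem haF')).eq]
              group
            have huu : ∀ t, u * (u * t * u⁻¹) * u⁻¹ = t := fun t => by
              rw [inv_self hV hu]
              calc u * (u * t * u) * u = (u * u) * t * (u * u) := by group
                _ = t := by rw [show u * u = 1 from (pow_two u).symm.trans (hV.2 u hu), one_mul, mul_one]
            rw [e]
            refine (hz1 _ ⟨mul_mem ha haF', ?_⟩).mul_right (hz2 _ ⟨mul_mem ha (inv_mem haF'), ?_⟩)
            · refine mem_centralizer_singleton_iff.mpr ?_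
              have h3 : u * (a * (u * a * u⁻¹)) * u⁻¹ = a * (u * a * u⁻¹) := by
                calc u * (a * (u * a * u⁻¹)) * u⁻¹ = (u * a * u⁻¹) * (u * (u * a * u⁻¹) * u⁻¹) := by group
                  _ = (u * a * u⁻¹) * a := by rw [huu]
                  _ = _ := (hFab _ haF' a ha).eq
              exact (mul_inv_eq_iff_eq_mul.mp h3).symm
            · calc u * (a * (u * a * u⁻¹)⁻¹) * u⁻¹
                  = (u * a * u⁻¹) * (u * (u * a * u⁻¹) * u⁻¹)⁻¹ := by group
                _ = (u * a * u⁻¹) * a⁻¹ := by rw [huu]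
                _ = (a * (u * a * u⁻¹)⁻¹)⁻¹ := by group
        obtain ⟨v, hv, hv1⟩ := exists_ne_one hV1
        obtain ⟨a, ha, ha1⟩ := exists_ne_one hF1
        obtain ⟨z, hz, hz1, hza⟩ := hS a v hv (hodd a ha) (hall v hv hv1 a ha)
        have := hall z hz hz1 a ha
        rw [hza, mul_inv_cancel_right] at this
        exact ha1 (eq_one_of_inv (hodd a ha) this.symm)
      · set M := (commutator F).map F.subtype with hM
        haveI : M.Normal := inferInstance
        have hMne : M ≠ ⊥ := fun e => hab ((map_eq_bot_iff_of_injective _ (subtype_injective _)).mp e)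
        have hMo : Odd (Nat.card M) := hFodd.of_dvd_nat (card_dvd_of_le (map_subtype_le _))
        obtain ⟨u, hu, hu1, huM⟩ := quotient_meets hV hV1 hS hminG M hMne hMo
        apply hu1
        refine hfaith u hu (fun n hn => ?_) ?_
        · rw [hE1, mem_bot] at hn
          rw [hn]; exact Commute.one_right u
        have hcen : zpowers u ≤ centralizer (F : Set G) := by
          refine CoprimeAction.le_centralizer_of_frattini (hnormF _) ?_ ?_
          · rw [Nat.card_zpowers, orderOf_eq_prime (hV.2 u hu) hu1]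
            exact (hFodd.of_dvd_nat (card_subgroup_dvd_card _)).coprime_two_left
          · intro a ha k hk
            have haq : QuotientGroup.mk' M a ∈ Cfsg.pCore 2 (G ⧸ M) := by
              obtain ⟨j, rfl⟩ := mem_zpowers_iff.mp ha
              rw [map_zpow]
              exact zpow_mem huM j
            set K := F.map (QuotientGroup.mk' M) with hK
            haveI : K.Normal := hFn.map _ (QuotientGroup.mk'_surjective M)
            have hkK : QuotientGroup.mk' M k ∈ K := mem_map_of_mem _ hk
            have hbot : Cfsg.pCore 2 (G ⧸ M) ⊓ K = ⊥ := by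
              refine HallCore.disjoint_of_coprime_card ?_
              obtain ⟨i, hi⟩ := IsPGroup.iff_card.mp (HallCore.isPGroup_pCore 2 (G ⧸ M))
              rw [hi]
              exact Nat.Coprime.pow_left _
                (hFodd.of_dvd_nat (card_map_dvd F _)).coprime_two_left
            have hc : QuotientGroup.mk' M (a * k * a⁻¹ * k⁻¹) ∈ Cfsg.pCore 2 (G ⧸ M) ⊓ K := by
              simp only [map_mul, map_inv]
              refine ⟨?_, K.mul_mem ((inferInstance : K.Normal).conj_mem _ hkK _) (K.inv_mem hkK)⟩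
              have := mul_mem haq ((Cfsg.pCore_normal 2 (G ⧸ M)).conj_mem _ (inv_mem haq)
                (QuotientGroup.mk' M k))
              simpa [mul_assoc] using this
            rw [hbot, mem_bot, QuotientGroup.mk'_apply, QuotientGroup.eq_one_iff] at hc
            exact map_mono commutator_le_frattini hc
        exact fun n hn => (mem_centralizer_iff.mp (hcen (mem_zpowers u)) n hn).symm
    · have hVF : V ⊔ F ≠ ⊤ := by
        intro e
        apply hE1
        have hperf : ⁅E, E⁆ = E := by rw [hE]; exact ComponentsBasic.layer_perfect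
        haveI : Group.IsSolvable G := by
          haveI : Group.IsSolvable F := inferInstance
          have hrange : ((QuotientGroup.mk' F).comp V.subtype).range = ⊤ := by
            rw [MonoidHom.range_comp, range_subtype]
            have h1 := congrArg (map (QuotientGroup.mk' F)) e
            rwa [Subgroup.map_sup, QuotientGroup.map_mk'_self, sup_bot_eq,
              map_top_of_surjective _ (QuotientGroup.mk'_surjective F)] at h1
          haveI : Group.IsSolvable V :=
        Group.isSolvable_of_comm fun a b => hV.1.is_comm.comm a b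
          haveI : Group.IsSolvable (G ⧸ F) :=
            Group.isSolvable_of_surjective (MonoidHom.range_eq_top.mp hrange)
          exact (Group.isSolvable_iff_subgroup_quotient F).mpr ⟨inferInstance, inferInstance⟩
        exact ComponentsBasic.perfect_eq_bot_of_le_solvable hperf (le_top (a := E))
      by_cases hVE : V ⊔ E = ⊤
      · -- then `F ≤ E`
        have hFE : F ≤ E := fun a ha => odd_mem hV (le_refl V) (hnormE V) (hVE ▸ mem_top a)
          (hFodd.of_dvd_nat (Subgroup.orderOf_dvd_natCard F ha))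
        obtain ⟨u, hu, hu1, huq⟩ := quotient_meets hV hV1 hS hminG F hF1 hFodd
        set X := (Cfsg.pCore 2 (G ⧸ F)).comap (QuotientGroup.mk' F) with hX
        haveI : Group.IsSolvable X := by
          set φ := (QuotientGroup.mk' F).subgroupComap (Cfsg.pCore 2 (G ⧸ F))
          haveI : Group.IsNilpotent (Cfsg.pCore 2 (G ⧸ F)) :=
            (HallCore.isPGroup_pCore 2 _).isNilpotent
          haveI : Group.IsSolvable F := inferInstance
          refine Group.isSolvable_of_ker_le_range (Subgroup.inclusion (show F ≤ X from fun a ha => by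
            rw [hX, mem_comap, show QuotientGroup.mk' F a = 1 from
              (QuotientGroup.eq_one_iff a).mpr ha]
            exact one_mem _)) φ fun a ha => ?_
          rw [MonoidHom.mem_ker] at ha
          exact ⟨⟨a, (QuotientGroup.eq_one_iff (a : G)).mp (congrArg Subtype.val ha)⟩, rfl⟩
        have hXc := commutator_eq_bot_iff_le_centralizer.mp
          (ComponentsBasic.layer_commute_solvable (H := X) (Normal.isSubnormal inferInstance))
        have hcE : ∀ n ∈ E, Commute u n := fun n hn =>
          mem_centralizer_iff.mp (hXc (hE ▸ hn)) u huq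
        exact hu1 (hfaith u hu hcE fun n hn => hcE n (hFE hn))
      · exact split hO hV hV1 hS hminG E F hEcF hVE hVF hfaith
  have hgenE : Cfsg.generalizedFittingSubgroup G = E := by rw [hgen, hFbot, sup_bot_eq]
  rw [hgenE] at hgne
  have hfaithE : ∀ z ∈ V, (∀ n ∈ E, Commute z n) → z = 1 := fun z hz hzE =>
    hfaith z hz hzE fun n hn => by
      rw [hFbot, mem_bot] at hn; rw [hn]; exact Commute.one_right z
  -- components are simple
  have hcen : ∀ K : Subgroup G, IsComponent K → ∀ a ∈ K, (∀ k ∈ K, Commute a k) → a = 1 := by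
    intro K hK a ha hac
    have h1 : (center ↥K).map K.subtype ≤ Cfsg.fittingSubgroup G :=
      ComponentsFitting.subnormal_nilpotent_le_fitting
        (ComponentsBasic.isSubnormal_map_subtype hK.1 (Normal.isSubnormal inferInstance))
        ((Group.isNilpotent_congr ((center ↥K).equivMapOfInjective K.subtype K.subtype_injective)).mp
          (@CommGroup.isNilpotent (center ↥K) IsMulCommutative.instCommGroup))
    rw [← hF, hFbot, ComponentsBasic.map_center_subtype] at h1
    exact mem_bot.mp (h1 ⟨ha, mem_centralizer_iff.mpr fun k hk => (hac k hk).eq.symm⟩)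
  obtain ⟨K, hK⟩ : ∃ K : Subgroup G, IsComponent K := by
    by_contra hnone
    have hE1 : E = ⊥ := hE ▸ ComponentsBasic.layer_eq_bot_iff.mpr hnone
    obtain ⟨v, hv, hv1⟩ := exists_ne_one hV1
    exact hv1 (hfaithE v hv fun n hn => by
      rw [hE1, mem_bot] at hn; rw [hn]; exact Commute.one_right v)
  have hcomp : ∀ {A B : Subgroup G}, IsComponent A → IsComponent B → A ≠ B →
      ∀ a ∈ A, ∀ b ∈ B, Commute a b := fun hA hB hne a ha b hb =>
    (mem_centralizer_iff.mp (commutator_eq_bot_iff_le_centralizer.mp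
      (ComponentsBasic.components_commute hA hB hne) ha) b hb).symm
  have hmemV : ∀ v ∈ V, IsComponent (K.map (MulAut.conj v).toMonoidHom) := fun v _ =>
    ComponentsBasic.isComponent_conj hK v
  -- one orbit
  have horb : ∀ L : Subgroup G, IsComponent L → ∃ v ∈ V, L = K.map (MulAut.conj v).toMonoidHom := by
    intro L hL
    by_contra hnone
    set S1 := {A : Subgroup G | IsComponent A ∧ ∃ v ∈ V, A = K.map (MulAut.conj v).toMonoidHom}
    set S2 := {A : Subgroup G | IsComponent A ∧ ¬ ∃ v ∈ V, A = K.map (MulAut.conj v).toMonoidHom}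
    set N1 := sSup S1
    set N2 := sSup S2
    have hcom : ∀ a ∈ N1, ∀ b ∈ N2, Commute a b := by
      have hle : N1 ≤ centralizer (N2 : Set G) := by
        refine sSup_le fun A hA => ?_
        rw [← le_centralizer_iff]
        refine sSup_le fun B hB => ?_
        exact fun b hb => mem_centralizer_iff.mpr fun a ha =>
          (hcomp hA.1 hB.1 (fun e => hB.2 (e ▸ hA.2)) a ha b hb).eq
      exact fun a ha b hb => (mem_centralizer_iff.mp (hle ha) b hb).symm
    have hsup : E ≤ N1 ⊔ N2 := by
      rw [hE]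
      refine sSup_le fun A hA => ?_
      by_cases h : ∃ v ∈ V, A = K.map (MulAut.conj v).toMonoidHom
      · exact (le_sSup ⟨hA, h⟩ : A ≤ N1).trans le_sup_left
      · exact (le_sSup ⟨hA, h⟩ : A ≤ N2).trans le_sup_right
    have hnormal : ∀ S : Set (Subgroup G), (∀ A ∈ S, IsComponent A) →
        (∀ A ∈ S, ∀ v ∈ V, A.map (MulAut.conj v).toMonoidHom ∈ S) → (sSup S).Normal := by
      intro S hS1 hS2
      refine normalizer_eq_top_iff.mp (top_le_iff.mp (hgne ▸ sup_le ?_ ?_))
      · intro v hv
        have hmap : ∀ t ∈ V, (sSup S).map (MulAut.conj t).toMonoidHom ≤ sSup S := fun t ht =>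
          map_le_iff_le_comap.mpr (sSup_le fun A hA =>
            map_le_iff_le_comap.mp (le_sSup (hS2 A hA t ht)))
        refine mem_normalizer_iff.mpr fun a => ⟨fun ha => hmap v hv ⟨a, ha, rfl⟩, fun ha => ?_⟩
        have := hmap v hv ⟨_, ha, rfl⟩
        simp only [MulEquiv.coe_toMonoidHom, MulAut.conj_apply] at this
        rw [inv_self hV hv] at this
        have e : v * (v * a * v) * v = a := by
          calc v * (v * a * v) * v = (v * v) * a * (v * v) := by group
            _ = a := by rw [show v * v = 1 from (pow_two v).symm.trans (hV.2 v hv), one_mul, mul_one]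
        rwa [e] at this
      · rw [hE]
        exact sSup_le fun B hB => by
          intro b hb
          have hfix : ∀ A ∈ S, ∀ a ∈ A, b * a * b⁻¹ ∈ A ∧ b⁻¹ * a * b ∈ A := fun A hA a ha => by
            have hb' := ComponentsBasic.component_le_normalizer hB (hS1 A hA) hb
            refine ⟨(mem_normalizer_iff.mp hb' a).mp ha, ?_⟩
            simpa using (mem_normalizer_iff.mp (inv_mem hb') a).mp ha
          have h1 : sSup S ≤ (sSup S).comap (MulAut.conj b).toMonoidHom :=
            sSup_le fun A hA a ha => le_sSup (α := Subgroup G) hA (hfix A hA a ha).1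
          have h2 : sSup S ≤ (sSup S).comap (MulAut.conj b⁻¹).toMonoidHom :=
            sSup_le fun A hA a ha => le_sSup (α := Subgroup G) hA (by simpa using (hfix A hA a ha).2)
          refine mem_normalizer_iff.mpr fun a => ⟨fun ha => h1 ha, fun ha => ?_⟩
          have h3 : b⁻¹ * (b * a * b⁻¹) * b⁻¹⁻¹ ∈ sSup S := h2 ha
          simpa [mul_assoc] using h3
    have hmapmap : ∀ (A : Subgroup G) (s t : G),
        (A.map (MulAut.conj s).toMonoidHom).map (MulAut.conj t).toMonoidHom =
          A.map (MulAut.conj (t * s)).toMonoidHom := fun A s t => by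
      rw [map_map]; congr 1; ext a; simp [mul_assoc]
    haveI : N1.Normal := hnormal S1 (fun A hA => hA.1) fun A hA v hv => by
      obtain ⟨t, ht, rfl⟩ := hA.2
      exact ⟨ComponentsBasic.isComponent_conj hA.1 v, v * t, mul_mem hv ht, hmapmap K t v⟩
    haveI : N2.Normal := hnormal S2 (fun A hA => hA.1) fun A hA v hv => by
      refine ⟨ComponentsBasic.isComponent_conj hA.1 v, fun ⟨t, ht, e⟩ => hA.2 ⟨v⁻¹ * t,
        mul_mem (inv_mem hv) ht, ?_⟩⟩
      rw [← hmapmap K t v⁻¹, ← e, hmapmap A v v⁻¹, inv_mul_cancel]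
      ext a; simp
    have hne1 : ∀ (M : Subgroup G) [M.Normal] (A : Subgroup G), IsComponent A → V ⊔ M = ⊤ → A ≤ M := by
      intro M _ A hA e
      have hrange : ((QuotientGroup.mk' M).comp V.subtype).range = ⊤ := by
        rw [MonoidHom.range_comp, range_subtype]
        have h1 := congrArg (map (QuotientGroup.mk' M)) e
        rwa [Subgroup.map_sup, QuotientGroup.map_mk'_self, sup_bot_eq,
          map_top_of_surjective _ (QuotientGroup.mk'_surjective M)] at h1
      haveI : Group.IsSolvable V :=
        Group.isSolvable_of_comm fun a b => hV.1.is_comm.comm a b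
      haveI : Group.IsSolvable (G ⧸ M) :=
        Group.isSolvable_of_surjective (MonoidHom.range_eq_top.mp hrange)
      exact ComponentsBasic.perfect_le_of_quotient_solvable (ComponentsBasic.IsComponent.perfect hA) M
    refine split hO hV hV1 hS hminG N1 N2 hcom ?_ ?_ ?_
    · intro e
      have hLN : L ≤ N2 := le_sSup ⟨hL, hnone⟩
      have hLN1 := hne1 N1 L hL e
      exact ComponentsBasic.IsComponent.ne_bot hL (eq_bot_iff.mpr fun a ha => mem_bot.mpr
        (hcen L hL a ha fun k hk => hcom a (hLN1 ha) k (hLN hk)))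
    · intro e
      have hKN : K ≤ N1 := le_sSup ⟨hK, 1, one_mem V, by ext a; simp⟩
      have hKN2 := hne1 N2 K hK e
      exact ComponentsBasic.IsComponent.ne_bot hK (eq_bot_iff.mpr fun a ha => mem_bot.mpr
        (hcen K hK a ha fun k hk => (hcom k (hKN hk) a (hKN2 ha)).symm))
    · intro z hz h1 h2
      refine hfaithE z hz fun n hn => ?_
      have : N1 ⊔ N2 ≤ centralizer ({z} : Set G) :=
        sup_le (fun a ha => mem_centralizer_singleton_iff.mpr (h1 a ha).eq.symm)
          (fun a ha => mem_centralizer_singleton_iff.mpr (h2 a ha).eq.symm)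
      exact (mem_centralizer_singleton_iff.mp (this (hsup hn))).symm
  -- a single component
  have hsingle : ∀ v ∈ V, K.map (MulAut.conj v).toMonoidHom = K := by
    by_contra hmove
    push_neg at hmove
    obtain ⟨v, hv, hvK⟩ := hmove
    have hfix : ∀ a ∈ K, ∀ z ∈ V, Commute z a → a ≠ 1 →
        K.map (MulAut.conj z).toMonoidHom = K := by
      intro a ha z hz hza ha1
      by_contra hne
      refine ha1 (hcen K hK a ha fun k hk => ?_)
      exact hcomp (hmemV z hz) hK hne a ⟨a, ha, by simp [hza.eq]⟩ k hk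
    by_cases hW : ∀ z ∈ V, K.map (MulAut.conj z).toMonoidHom = K → z = 1
    · -- regular action
      obtain ⟨a, ha, ha1, hao⟩ : ∃ a ∈ K, a ≠ 1 ∧ Odd (orderOf a) := by
        by_contra hnone
        have h2 : IsPGroup 2 K := IsPGroup.iff_orderOf.mpr fun a => by
          obtain ⟨i, m, hm, he⟩ := Nat.exists_eq_two_pow_mul_odd (orderOf_pos (a : G)).ne'
          refine ⟨i, ?_⟩
          rw [← Subgroup.orderOf_coe, he]
          suffices m = 1 by rw [this, mul_one]
          have ho : orderOf ((a : G) ^ (2 ^ i)) = m := by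
            rw [orderOf_pow_of_dvd (pow_ne_zero _ two_ne_zero) (Dvd.intro m he.symm), he,
              Nat.mul_div_cancel_left _ (pow_pos two_pos i)]
          by_contra hm1
          exact hnone ⟨_, pow_mem a.2 _, fun e => hm1 (by rw [← ho, e, orderOf_one]), ho ▸ hm⟩
        exact ComponentsBasic.IsComponent.ne_bot hK (subnormal_two_bot hO hK.1 h2)
      set b := v * a * v⁻¹ with hb
      have hbK : b ∈ K.map (MulAut.conj v).toMonoidHom := ⟨a, ha, rfl⟩
      have hab : Commute a b := hcomp hK (hmemV v hv) (Ne.symm hvK) a ha b hbK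
      have hodd : Odd (orderOf (a * b⁻¹)) := by
        refine Odd.of_dvd_nat (hao.mul ?_) hab.inv_right.orderOf_mul_dvd_mul_orderOf
        rw [orderOf_inv, hb]
        rwa [show v * a * v⁻¹ = MulAut.conj v a from rfl, MulEquiv.orderOf_eq]
      have hinv : v * (a * b⁻¹) * v⁻¹ = (a * b⁻¹)⁻¹ := by
        have hvb : v * b * v⁻¹ = a := by
          rw [hb, inv_self hV hv]
          calc v * (v * a * v) * v = (v * v) * a * (v * v) := by group
            _ = a := by rw [show v * v = 1 from (pow_two v).symm.trans (hV.2 v hv), one_mul, mul_one]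
        calc v * (a * b⁻¹) * v⁻¹ = (v * a * v⁻¹) * (v * b * v⁻¹)⁻¹ := by group
          _ = b * a⁻¹ := by rw [hvb, ← hb]
          _ = (a * b⁻¹)⁻¹ := by group
      obtain ⟨z, hz, hz1, hzc⟩ := hS _ v hv hodd hinv
      have hzc : Commute z (a * b⁻¹) := hzc
      have hzv : z ≠ v := by
        rintro rfl
        rw [hzc.eq, mul_inv_cancel_right] at hinv
        have e1 : a = b := mul_inv_eq_one.mp (eq_one_of_inv hodd hinv.symm)
        exact ha1 (hcen K hK a ha fun k hk => hcomp (hmemV _ hv) hK hvK a (e1 ▸ hbK) k hk)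
      apply ha1
      apply hcen K hK a ha
      intro k hk
      have hne1 : K.map (MulAut.conj z).toMonoidHom ≠ K := fun e => hz1 (hW z hz e)
      have hne2 : K.map (MulAut.conj (z * v)).toMonoidHom ≠ K := fun e => hzv (by
        have h1 := hW (z * v) (mul_mem hz hv) e
        rw [eq_inv_of_mul_eq_one_left h1, inv_self hV hv])
      have h1 : Commute (z * a * z⁻¹) k := hcomp (hmemV z hz) hK hne1 _ ⟨a, ha, rfl⟩ k hk
      have h2 : Commute (z * b * z⁻¹) k := by
        refine hcomp (hmemV _ (mul_mem hz hv)) hK hne2 _ ⟨a, ha, ?_⟩ k hk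
        simp [hb, mul_assoc]
      have h3 : Commute (a * b⁻¹) k := by
        have e : a * b⁻¹ = (z * a * z⁻¹) * (z * b * z⁻¹)⁻¹ := by
          rw [show (z * a * z⁻¹) * (z * b * z⁻¹)⁻¹ = z * (a * b⁻¹) * z⁻¹ by group, hzc.eq,
            mul_inv_cancel_right]
        rw [e]
        exact h1.mul_left h2.inv_left
      have h4 : Commute b k := (hcomp hK (hmemV v hv) (Ne.symm hvK) k hk b hbK).symm
      have := h3.mul_left h4
      rwa [inv_mul_cancel_right] at this
    · push_neg at hW
      obtain ⟨z0, hz0, hz0K, hz01⟩ := hW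
      set W := V ⊓ normalizer (K : Set G) with hW'
      have hmemW : ∀ z ∈ V, K.map (MulAut.conj z).toMonoidHom = K → z ∈ W := by
        intro z hz e
        refine ⟨hz, mem_normalizer_iff.mpr fun t => ⟨fun ht => e.le ⟨t, ht, rfl⟩, fun ht => ?_⟩⟩
        obtain ⟨s, hs, hst⟩ := e.ge ht
        simp only [MulEquiv.coe_toMonoidHom, MulAut.conj_apply] at hst
        rwa [mul_left_cancel (mul_right_cancel hst)] at hs
      have hW1 : W ≠ ⊥ := fun e => hz01 (by
        have h := hmemW z0 hz0 hz0K
        rwa [e, mem_bot] at h)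
      have hproper : W ⊔ K ≠ ⊤ := by
        intro e
        have h1 : ⊤ ≤ normalizer (K : Set G) := e ▸ sup_le inf_le_right le_normalizer
        apply hvK
        refine le_antisymm ?_ fun t ht => ?_
        · rintro _ ⟨t, ht, rfl⟩
          exact (mem_normalizer_iff.mp (h1 (mem_top v)) t).mp ht
        · refine ⟨v⁻¹ * t * v, ?_, by simp [mul_assoc]⟩
          simpa using (mem_normalizer_iff.mp (h1 (mem_top v⁻¹)) t).mp ht
      obtain ⟨a, ha, hao, w, hw, hinv, hzW⟩ := bad hO hV hminG (inf_le_left : W ≤ V) hW1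
        inf_le_right hK.1 hproper (fun z hz hzn => by
          refine hfaithE z hz.1 fun n hn => ?_
          have hle : E ≤ centralizer ({z} : Set G) := by
            rw [hE]
            refine sSup_le fun A hA => ?_
            obtain ⟨t, ht, rfl⟩ := horb A hA
            rintro _ ⟨k, hk, rfl⟩
            rw [mem_centralizer_singleton_iff]
            simp only [MulEquiv.coe_toMonoidHom, MulAut.conj_apply]
            exact ((((comm_of_mem hV hz.1 ht).mul_right (hzn k hk)).mul_right
              (comm_of_mem hV hz.1 ht).inv_right)).eq.symm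
          exact (mem_centralizer_singleton_iff.mp (hle hn)).symm)
      obtain ⟨z, hz, hz1, hza⟩ := hS a w hw.1 hao hinv
      have ha1 : a ≠ 1 := fun e => hz01 (hzW z0 (hmemW z0 hz0 hz0K) (e ▸ Commute.one_right z0))
      exact hz1 (hzW z (hmemW z hz (hfix a ha z hz hza ha1)) hza)
  have hEK : E = K := by
    rw [hE]
    refine le_antisymm (sSup_le fun L hL => ?_) (le_sSup hK)
    obtain ⟨v, hv, rfl⟩ := horb L hL
    exact (hsingle v hv).le
  rw [hgenE, hEK]
  rw [hEK] at hgne
  refine ⟨?_, ComponentsBasic.isQuasisimple_not_commutative hK.2, hgne⟩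
  haveI := ComponentsBasic.isQuasisimple_nontrivial hK.2
  exact ⟨fun N hN => by
    haveI := hN
    rcases ComponentsBasic.normal_le_center_or_eq_top hK.2 N with h | h
    · refine .inl (eq_bot_iff.mpr fun a ha => mem_bot.mpr (Subtype.ext ?_))
      exact hcen K hK a a.2 fun k hk =>
        (congrArg Subtype.val (mem_center_iff.mp (h ha) ⟨k, hk⟩)).symm
    · exact .inr h⟩

end Cfsg.Agent.S3048
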