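import Cfsg.Statements.S3049
import Cfsg.Agent.Lib.IsolatedPElement
import Cfsg.Agent.Lib.TransferOmega
import Cfsg.Agent.Lib.ComponentsP
import Cfsg.Agent.Lib.SubnormalSylow56

set_option autoImplicit false
open Cfsg

namespace Cfsg.Agent.S3049

open Subgroup

/-- A nontrivial finite perfect group of order divisible by `p` has no normal `p`-complement. -/
theorem not_hasNormalPComplement {K : Type*} [Group K] [Finite K] {p : ℕ} [Fact p.Prime]
    (hperf : commutator K = ⊤) (hdiv : p ∣ Nat.card K) : ¬ Cfsg.HasNormalPComplement p K := by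
  rintro ⟨P, N, hN, hc⟩
  haveI := hN
  obtain ⟨n, hn⟩ := IsPGroup.iff_card.mp P.2
  have hidx : N.index = p ^ n := hc.symm.index_eq_card.trans hn
  have hq : IsPGroup p (K ⧸ N) := IsPGroup.of_card (n := n) (N.index_eq_card.symm.trans hidx)
  haveI := hq.isNilpotent
  have htop : N = ⊤ := top_le_iff.mp
    (ComponentsBasic.perfect_le_of_quotient_solvable (H := (⊤ : Subgroup K))
      (by rw [← commutator_def, hperf]) N)
  have hbot : (P : Subgroup K) = ⊥ := by
    have := hc.disjoint
    rwa [htop, top_disjoint] at this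
  exact P.not_dvd_index (by rwa [hbot, index_bot])

variable {G : Type*} [Group G] [Finite G] {p : ℕ} [Fact p.Prime]

/-- In a component, some element of order `p` of a Sylow subgroup moves inside it. -/
theorem component_moves (hp : p ≠ 2) (hcore : Cfsg.pPrimeCore p G = ⊥) (P : Sylow p G)
    {K : Subgroup G} (hK : IsComponent K) :
    ∃ w ∈ K, ∃ g ∈ K, w ∈ (P : Subgroup G) ∧ g * w * g⁻¹ ∈ (P : Subgroup G) ∧ w ^ p = 1 ∧
      g * w * g⁻¹ ≠ w := by
  by_contra hne
  have hperf : commutator ↥K = ⊤ := Group.isPerfect_def.mp hK.2.1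
  refine not_hasNormalPComplement hperf (ComponentsP.component_dvd_card hcore hK) ?_
  refine TransferOmega.hasNormalPComplement_of_small (SubnormalSylow56.sylowOf P hK.1)
    fun R hR hs g hg _ => mem_centralizer_iff.mpr fun w hw => ?_
  have h1 : w ^ p = 1 := (hs w hw).resolve_right fun h => hp h.1
  have hgw : g * w * g⁻¹ ∈ R := (mem_normalizer_iff.mp hg w).mp hw
  by_contra hne'
  refine hne ⟨w, w.2, g, g.2, hR hw, hR hgw, congrArg Subtype.val h1, fun e => hne' ?_⟩
  exact (Subtype.ext (mul_inv_eq_iff_eq_mul.mp e) : g * w = w * g).symm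

/-- Three commuting elements of order `p` in a group of `p`-rank two are dependent. -/
theorem exists_zpow_eq (hrank : Cfsg.PRankLE p 2 G) {P : Subgroup G} (hP : IsPGroup p P)
    {z x w : G} (hz : z ∈ P) (hx : x ∈ P) (hw : w ∈ P) (hzx : Commute z x) (hzw : Commute z w)
    (hxw : Commute x w) (hzp : z ^ p = 1) (hxp : x ^ p = 1) (hwp : w ^ p = 1) (hz1 : z ≠ 1)
    (hnot : x ∉ zpowers z) : ∃ i j : ℤ, w = z ^ i * x ^ j := by
  set A := closure ({z, x, w} : Set G) with hA
  set B := closure ({z, x} : Set G) with hB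
  have hBA : B ≤ A := closure_mono (by
    intro u hu
    simp only [Set.mem_insert_iff, Set.mem_singleton_iff] at hu ⊢
    tauto)
  haveI hcomm : IsMulCommutative A := Subgroup.isMulCommutative_closure (by
    intro u hu v hv
    simp only [Set.mem_insert_iff, Set.mem_singleton_iff] at hu hv
    rcases hu with rfl | rfl | rfl <;> rcases hv with rfl | rfl | rfl <;>
      first
      | rfl | exact hzx.eq | exact hzx.eq.symm | exact hzw.eq | exact hzw.eq.symm
      | exact hxw.eq | exact hxw.eq.symm)
  have hexp : ∀ a ∈ A, a ^ p = 1 := by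
    intro a ha
    induction ha using closure_induction with
    | mem u hu =>
      simp only [Set.mem_insert_iff, Set.mem_singleton_iff] at hu
      rcases hu with rfl | rfl | rfl <;> assumption
    | one => exact one_pow p
    | mul u v hu hv eu ev =>
      have huv : Commute u v :=
        congrArg Subtype.val (hcomm.is_comm.comm (⟨u, hu⟩ : A) ⟨v, hv⟩)
      rw [huv.mul_pow, eu, ev, one_mul]
    | inv u _ eu => rw [inv_pow, eu, inv_one]
  have hcardA := hrank A hcomm hexp
  have hAP : A ≤ P := (closure_le _).mpr (by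
    intro u hu
    simp only [Set.mem_insert_iff, Set.mem_singleton_iff] at hu
    rcases hu with rfl | rfl | rfl <;> assumption)
  obtain ⟨k, hk⟩ := IsPGroup.iff_card.mp (hP.to_le (hBA.trans hAP))
  have hzB : zpowers z < B := lt_of_le_of_ne (zpowers_le.mpr (subset_closure (by simp)))
    fun e => hnot (e ▸ subset_closure (by simp))
  have hlt : Nat.card (zpowers z) < Nat.card B :=
    Set.Finite.card_lt_card (Set.toFinite _) hzB
  rw [Nat.card_zpowers, orderOf_eq_prime hzp hz1, hk] at hlt
  have hk2 : 2 ≤ k := by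
    by_contra hk'
    have : p ^ k ≤ p ^ 1 := Nat.pow_le_pow_right (Fact.out : p.Prime).pos (by omega)
    rw [pow_one] at this
    omega
  have hBAeq : B = A := eq_of_le_of_card_ge hBA
    (hcardA.trans (hk ▸ Nat.pow_le_pow_right (Fact.out : p.Prime).pos hk2))
  have hwB : w ∈ B := hBAeq ▸ subset_closure (by simp)
  suffices key : ∀ t ∈ B, ∃ i j : ℤ, t = z ^ i * x ^ j from key w hwB
  intro t ht
  induction ht using closure_induction with
  | mem u hu =>
    simp only [Set.mem_insert_iff, Set.mem_singleton_iff] at hu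
    rcases hu with rfl | rfl
    · exact ⟨1, 0, by simp⟩
    · exact ⟨0, 1, by simp⟩
  | one => exact ⟨0, 0, by simp⟩
  | mul u v _ _ eu ev =>
    obtain ⟨i, j, rfl⟩ := eu
    obtain ⟨i', j', rfl⟩ := ev
    refine ⟨i + i', j + j', ?_⟩
    rw [zpow_add, zpow_add]
    exact (hzx.symm.zpow_zpow j i').mul_mul_mul_comm _ _
  | inv u _ eu =>
    obtain ⟨i, j, rfl⟩ := eu
    refine ⟨-i, -j, ?_⟩
    rw [mul_inv_rev, ← zpow_neg, ← zpow_neg]
    exact (hzx.symm.zpow_zpow _ _).eq

/-- An element of order `p` of `P` centralizing a component gives a contradiction. -/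
theorem absurd_of_centralizing (hp : p ≠ 2) (hcore : Cfsg.pPrimeCore p G = ⊥)
    (hrank : Cfsg.PRankLE p 2 G) {x : G} (hx : orderOf x = p) (hiso : Cfsg.IsIsolated x)
    (P : Sylow p G) (hxP : x ∈ (P : Subgroup G)) {K : Subgroup G} (hK : IsComponent K)
    {z : G} (hzP : z ∈ (P : Subgroup G)) (hzp : z ^ p = 1) (hz1 : z ≠ 1)
    (hzK : ∀ k ∈ K, Commute z k) (hnot : x ∉ zpowers z) : False := by
  obtain ⟨w, hwK, g, hgK, hwP, hgwP, hwp, hne⟩ := component_moves hp hcore P hK
  have hcen : ∀ r ∈ (P : Subgroup G), r * x = x * r := fun r hr =>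
    IsolatedPElement.commute_of_mem hiso P.2 hxP hr
  have hxp : x ^ p = 1 := hx ▸ pow_orderOf_eq_one x
  obtain ⟨i, j, hij⟩ := exists_zpow_eq hrank P.2 hzP hxP hwP (hcen z hzP) (hzK w hwK)
    (hcen w hwP).symm hzp hxp hwp hz1 hnot
  apply hne
  have hgz : g * z ^ i * g⁻¹ = z ^ i := by
    rw [← (hzK g hgK).zpow_left i |>.eq, mul_inv_cancel_right]
  have hgx : g * x ^ j * g⁻¹ = x ^ j := by
    by_cases hdvd : (p : ℤ) ∣ j
    · have : x ^ j = 1 := orderOf_dvd_iff_zpow_eq_one.mp (hx ▸ hdvd)
      rw [this, mul_one, mul_inv_cancel]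
    · have hmem : g * x ^ j * g⁻¹ ∈ (P : Subgroup G) := by
        have e : g * x ^ j * g⁻¹ = (g * z ^ i * g⁻¹)⁻¹ * (g * w * g⁻¹) := by rw [hij]; group
        rw [e, hgz]
        exact mul_mem (inv_mem (zpow_mem hzP i)) hgwP
      obtain ⟨a, b, hab⟩ := (((Nat.prime_iff_prime_int.mp Fact.out).coprime_iff_not_dvd).mpr hdvd)
      have hxe : x = (x ^ j) ^ b := by
        rw [← zpow_mul, show j * b = 1 - a * p by linarith, zpow_sub, zpow_one, mul_comm a,
          zpow_mul, zpow_natCast, hxp, one_zpow, inv_one, mul_one]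
      have hgx' : g * x * g⁻¹ = x := IsolatedPElement.eq_of_conj_mem hiso P.2 hxP (by
        rw [hxe, ← conj_zpow]
        exact zpow_mem hmem b)
      rw [← conj_zpow, hgx']
  calc g * w * g⁻¹ = (g * z ^ i * g⁻¹) * (g * x ^ j * g⁻¹) := by rw [hij]; group
    _ = w := by rw [hgz, hgx, hij]

/-- Let G be a finite group and p an odd prime with O_{p'}(G) = 1. Suppose that G has p-rank at most 2 (no elementary abelian subgroup of order p³) and that some element x of order p is isolated in G (no G-conjugate of x other than x commutes with x) and not central. Then the generalized Fitting subgroup F*(G) is a non-abelian simple group. Since O_{p'}(G) = 1, such an x is not central modulo O_{p'}(G): the hypotheses describe a counterexample to the Z*_p statement in p-rank at most 2. -/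
theorem result {G : Type*} [Group G] [Finite G] {p : ℕ} [Fact p.Prime] (hp : p ≠ 2) (hcore : Cfsg.pPrimeCore p G = ⊥)
    (hrank : Cfsg.PRankLE p 2 G) (x : G) (hx : orderOf x = p) (hiso : Cfsg.IsIsolated x) (hnc : x ∉ Subgroup.center G) :
    IsSimpleGroup ↥(Cfsg.generalizedFittingSubgroup G) ∧ ¬ IsMulCommutative ↥(Cfsg.generalizedFittingSubgroup G) := by
  classical
  obtain ⟨P, hP⟩ := (IsolatedPElement.isPGroup_zpowers (x := x) ⟨1, by rw [hx, pow_one]⟩).exists_le_sylow
  have hxP : x ∈ (P : Subgroup G) := hP (mem_zpowers x)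
  have hcen : ∀ r ∈ (P : Subgroup G), r * x = x * r := fun r hr =>
    IsolatedPElement.commute_of_mem hiso P.2 hxP hr
  have hRP : Cfsg.pCore p G ≤ (P : Subgroup G) := HallCore.pCore_le_sylow P
  have hxR : x ∉ Cfsg.pCore p G := fun hmem => hnc (mem_center_iff.mpr fun g => by
    have hc : g * x * g⁻¹ ∈ (P : Subgroup G) := hRP ((inferInstance : (Cfsg.pCore p G).Normal).conj_mem x hmem g)
    exact mul_inv_eq_iff_eq_mul.mp (IsolatedPElement.eq_of_conj_mem hiso P.2 hxP hc))
  have hF := ComponentsP.fitting_eq_pCore_of_bot (p := p) hcore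
  have hlay : layer G ≠ ⊥ := fun h => hxR (by
    rw [← hF]
    refine ComponentsFitting.centralizer_fitting_le_of_layer_eq_bot h (mem_centralizer_iff.mpr ?_)
    intro r hr
    rw [hF] at hr
    exact hcen r (hRP hr))
  obtain ⟨K, hK⟩ : ∃ K : Subgroup G, IsComponent K := by
    by_contra hnone
    exact hlay (ComponentsBasic.layer_eq_bot_iff.mpr hnone)
  have hR : Cfsg.pCore p G = ⊥ := by
    by_contra hne
    haveI : Nontrivial (Cfsg.pCore p G) := (nontrivial_iff_ne_bot _).mpr hne
    obtain ⟨n, hn0, hn⟩ := (P.2.to_le hRP).nontrivial_iff_card.mp inferInstance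
    obtain ⟨⟨z, hzR⟩, hz⟩ := exists_prime_orderOf_dvd_card' (G := Cfsg.pCore p G) p
      (hn ▸ dvd_pow_self p hn0.ne')
    rw [Subgroup.orderOf_mk] at hz
    have hzK : ∀ k ∈ K, Commute z k := fun k hk =>
      mem_centralizer_iff.mp
        (commutator_eq_bot_iff_le_centralizer.mp (ComponentsFitting.component_commute_fitting hK) hk)
        z (hF.symm ▸ hzR)
    exact absurd_of_centralizing hp hcore hrank hx hiso P hxP hK (hRP hzR)
      (hz ▸ pow_orderOf_eq_one z) (fun e => (Fact.out : p.Prime).ne_one (by rw [← hz, e, orderOf_one]))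
      hzK (fun h => hxR (zpowers_le.mpr hzR h))
  have huniq : ∀ L : Subgroup G, IsComponent L → L = K := by
    intro L hL
    by_contra hne
    have hcomm : ∀ l ∈ L, ∀ k ∈ K, Commute l k := fun l hl k hk =>
      (mem_centralizer_iff.mp (commutator_eq_bot_iff_le_centralizer.mp
        (ComponentsBasic.components_commute hL hK hne) hl) k hk).symm
    obtain ⟨u, huL, g, hgL, huP, -, hup, hun⟩ := component_moves hp hcore P hL
    obtain ⟨v, hvK, h, hhK, hvP, -, hvp, hvn⟩ := component_moves hp hcore P hK
    have hu1 : u ≠ 1 := fun e => hun (by rw [e, mul_one, mul_inv_cancel])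
    have hv1 : v ≠ 1 := fun e => hvn (by rw [e, mul_one, mul_inv_cancel])
    by_cases hxu : x ∈ zpowers u
    · refine absurd_of_centralizing hp hcore hrank hx hiso P hxP hL hvP hvp hv1
        (fun l hl => (hcomm l hl v hvK).symm) fun hxv => hun ?_
      have e1 : zpowers x = zpowers u := eq_of_le_of_card_ge (zpowers_le.mpr hxu)
        (by rw [Nat.card_zpowers, Nat.card_zpowers, hx, orderOf_eq_prime hup hu1])
      have hle : zpowers x ≤ zpowers v := zpowers_le.mpr hxv
      obtain ⟨k, hk⟩ := mem_zpowers_iff.mp (hle (e1 ▸ mem_zpowers u))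
      have hg : Commute g u := hk ▸ (hcomm g hgL v hvK).zpow_right k
      rw [hg.eq, mul_inv_cancel_right]
    · exact absurd_of_centralizing hp hcore hrank hx hiso P hxP hK huP hup hu1
        (fun k hk => hcomm u huL k hk) hxu
  have hgen : Cfsg.generalizedFittingSubgroup G = K := by
    rw [generalizedFittingSubgroup, hF, hR, sup_bot_eq]
    exact le_antisymm (sSup_le fun L hL => (huniq L hL).le) (le_sSup hK)
  rw [hgen]
  refine ⟨?_, ComponentsBasic.isQuasisimple_not_commutative hK.2⟩
  have hZ : center ↥K = ⊥ := by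
    have h1 : (center ↥K).map K.subtype ≤ fittingSubgroup G :=
      ComponentsFitting.subnormal_nilpotent_le_fitting
        (ComponentsBasic.isSubnormal_map_subtype hK.1 (Normal.isSubnormal inferInstance))
        ((Group.isNilpotent_congr ((center ↥K).equivMapOfInjective K.subtype K.subtype_injective)).mp
          (@CommGroup.isNilpotent (center ↥K) (IsMulCommutative.instCommGroup)))
    rw [hF, hR, le_bot_iff, map_eq_bot_iff_of_injective _ K.subtype_injective] at h1
    exact h1
  haveI := ComponentsBasic.isQuasisimple_nontrivial hK.2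
  exact ⟨fun N hN => by
    haveI := hN
    rcases ComponentsBasic.normal_le_center_or_eq_top hK.2 N with h | h
    · exact .inl (le_bot_iff.mp (hZ ▸ h))
    · exact .inr h⟩

end Cfsg.Agent.S3049
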