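import Cfsg.Statements.S3050
import Cfsg.Agent.Lib.HigmanSL2Group
-- import your own Cfsg.Agent.* helpers here

set_option autoImplicit false
open Cfsg

namespace Cfsg.Agent.S3050

/-- Let G be a finite group with a normal 2-subgroup Q such that G/Q is isomorphic to SL(2, 2ⁿ) with n ≥ 2, and suppose some element of G of order 3 fixes no nonidentity element of Q under conjugation. Then Q is elementary abelian and is the direct product of normal subgroups of G on each of which G acts as SL(2, 2ⁿ) acts on its natural two-dimensional module (a Galois twist of the natural action allowed). -/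
theorem result {G : Type*} [Group G] [Finite G]
    (Q : Subgroup G) [Q.Normal] (hQ : IsPGroup 2 ↥Q) (n : ℕ) (hn : 2 ≤ n)
    (K : Type*) [Field K] [Fintype K] (hK : Fintype.card K = 2 ^ n)
    (e : G ⧸ Q ≃* Matrix.SpecialLinearGroup (Fin 2) K)
    (x : G) (hx : orderOf x = 3) (hfpf : ∀ q ∈ Q, x * q * x⁻¹ = q → q = 1) :
    Cfsg.IsElementaryAbelian 2 Q ∧
      ∃ (k : ℕ) (V : Fin k → Subgroup G), (∀ i, V i ≤ Q ∧ (V i).Normal ∧
        Cfsg.ActsAsSL2OnSection K ⊤ ⊤ (V i) ⊥) ∧ iSupIndep V ∧ ⨆ i, V i = Q := by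
  haveI : Fact (Nat.Prime 2) := ⟨Nat.prime_two⟩
  haveI : CharP K 2 := charP_of_card_eq_prime_pow hK
  have hk : ∃ k : K, k ≠ 0 ∧ k ≠ 1 := by
    classical
    by_contra h
    push Not at h
    have h1 : Fintype.card K ≤ ({0, 1} : Finset K).card := Finset.card_le_card fun k _ => by
      by_cases hk0 : k = 0
      · simp [hk0]
      · simp [h k hk0]
    have h2 : 2 ^ 2 ≤ 2 ^ n := Nat.pow_le_pow_right two_pos hn
    have := (Finset.card_insert_le (0 : K) {1})
    simp at this h1 h2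
    omega
  let π : G →* Matrix.SpecialLinearGroup (Fin 2) K := e.toMonoidHom.comp (QuotientGroup.mk' Q)
  have hπ : Function.Surjective π := e.surjective.comp (QuotientGroup.mk'_surjective Q)
  have hker : π.ker = Q := by
    ext g
    simp [π, MonoidHom.mem_ker]
  have hx3 : x ^ 3 = 1 := hx ▸ pow_orderOf_eq_one x
  have hxπ : π x ≠ 1 := fun h => by
    have hxQ : x ∈ Q := hker ▸ h
    rw [hfpf x hxQ (by group), orderOf_one] at hx
    norm_num at hx
  have hg := HigmanSL2Group.good_of_fpf hπ x hx3 hxπ (by rw [hker]; exact hfpf)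
  obtain ⟨h2, hc⟩ := HigmanSL2Group.elementary hk _ π rfl hπ (by rw [hker]; exact hQ) hg
  obtain ⟨C, _, φ, co, hbij, hadd, hconj⟩ := HigmanSL2Group.exists_coord hk π hπ hg hc h2
  refine ⟨⟨⟨⟨fun a b => Subtype.ext (hc _ (hker.ge a.2) _ (hker.ge b.2))⟩⟩,
    fun a ha => by rw [pow_two]; exact h2 a (hker.ge ha)⟩, ?_⟩
  letI : Module K C := Module.compHom C φ
  haveI : Finite C := by
    haveI : Finite (Fin 2 → C) := Finite.of_surjective co hbij.2
    exact Finite.of_surjective (fun v : Fin 2 → C => v 0) fun c => ⟨fun _ => c, rfl⟩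
  haveI : Module.Finite K C := Module.Finite.of_finite
  let b := Module.finBasis K C
  set k := Module.finrank K C
  let cd : π.ker → Fin 2 → Fin k → K := fun q r i => b.repr (co q r) i
  have cd_mul : ∀ p q, cd (p * q) = cd p + cd q := fun p q => by
    funext r i; simp [cd, hadd p q]
  have cd_one : cd 1 = 0 := by simpa using cd_mul 1 1
  have cd_inv : ∀ p, cd p⁻¹ = -cd p := fun p =>
    eq_neg_of_add_eq_zero_left (by rw [← cd_mul, inv_mul_cancel, cd_one])
  have cd_conj : ∀ (y : G) (q : π.ker) (r : Fin 2) (i : Fin k),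
      cd ⟨y * q * y⁻¹, (MonoidHom.normal_ker π).conj_mem _ q.2 y⟩ r i
        = ∑ j, (π y).1 r j * cd q j i := by
    intro y q r i
    show b.repr (co _ r) i = _
    rw [hconj]
    show b.repr (∑ j, ((π y).1 r j) • co q j) i = _
    simp [cd]
  let W : (Fin k → Prop) → Subgroup G := fun P =>
    { carrier := {g | ∃ h : g ∈ π.ker, ∀ r i, P i → cd ⟨g, h⟩ r i = 0}
      one_mem' := ⟨one_mem _, fun r i _ => congrFun (congrFun cd_one r) i⟩
      mul_mem' := fun {a c} ⟨ha, ha'⟩ ⟨hc, hc'⟩ => ⟨mul_mem ha hc, fun r i hi => by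
        rw [show (⟨a * c, mul_mem ha hc⟩ : π.ker) = ⟨a, ha⟩ * ⟨c, hc⟩ from rfl, cd_mul]
        simp [ha' r i hi, hc' r i hi]⟩
      inv_mem' := fun {a} ⟨ha, ha'⟩ => ⟨inv_mem ha, fun r i hi => by
        rw [show (⟨a⁻¹, inv_mem ha⟩ : π.ker) = (⟨a, ha⟩ : π.ker)⁻¹ from rfl, cd_inv]
        simp [ha' r i hi]⟩ }
  let V : Fin k → Subgroup G := fun i => W (fun j => j ≠ i)
  have hWQ : ∀ P, W P ≤ Q := fun P g hg => hker ▸ hg.1
  have hWn : ∀ P, (W P).Normal := fun P => ⟨fun g hg y => by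
    obtain ⟨h, h'⟩ := hg
    refine ⟨(MonoidHom.normal_ker π).conj_mem _ h y, fun r i hi => ?_⟩
    rw [cd_conj y ⟨g, h⟩ r i]
    exact Finset.sum_eq_zero fun j _ => by rw [h' j i hi, mul_zero]⟩
  have hsingle : ∀ (i : Fin k) (f : Fin 2 → K), ∃ q : π.ker, (q : G) ∈ V i ∧
      co q = fun r => f r • b i := by
    intro i f
    obtain ⟨q, hq⟩ := hbij.2 fun r => f r • b i
    refine ⟨q, ⟨q.2, fun r j hj => ?_⟩, hq⟩
    simp [cd, hq, Ne.symm hj]
  have hext : ∀ q : π.ker, (∀ r i, cd q r i = 0) → q = 1 := by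
    intro q h
    refine hbij.1 (funext fun r => b.repr.injective (Finsupp.ext fun i => ?_))
    exact (h r i).trans (congrFun (congrFun cd_one r) i).symm
  refine ⟨k, V, fun i => ⟨hWQ _, hWn _, ?_⟩, ?_, le_antisymm (iSup_le fun i => hWQ _) ?_⟩
  · haveI := hWn (fun j => j ≠ i)
    refine ⟨fun y _ => by rw [Subgroup.normalizer_eq_top]; trivial, bot_le,
      π.comp (⊤ : Subgroup G).subtype,
      { toFun := fun q => Multiplicative.ofAdd fun r => cd ⟨q, q.2.1⟩ r i
        map_one' := by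
          show Multiplicative.ofAdd (fun r => cd 1 r i) = 1
          rw [cd_one]; rfl
        map_mul' := fun p q => by
          show Multiplicative.ofAdd (fun r => cd (⟨p, p.2.1⟩ * ⟨q, q.2.1⟩) r i) = _
          rw [cd_mul]; rfl }, ?_, ?_, ?_, ?_⟩
    · exact MonoidHom.range_eq_top.mpr fun s => by
        obtain ⟨y, rfl⟩ := hπ s; exact ⟨⟨y, trivial⟩, rfl⟩
    · intro f
      obtain ⟨q, hq, hq'⟩ := hsingle i f.toAdd
      refine ⟨⟨q, hq⟩, ?_⟩
      show Multiplicative.ofAdd (fun r => b.repr (co q r) i) = f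
      rw [hq']
      refine Multiplicative.toAdd.injective (funext fun r => ?_)
      simp only [toAdd_ofAdd, map_smul, Finsupp.smul_apply, Module.Basis.repr_self, Finsupp.single_eq_same, smul_eq_mul, mul_one]
    · intro q
      rw [Subgroup.mem_bot]
      constructor
      · intro h
        have h' : ∀ r, cd ⟨q, q.2.1⟩ r i = 0 := congrFun h
        exact congrArg Subtype.val (hext ⟨q, q.2.1⟩ fun r j => by
          by_cases hj : j = i
          · rw [hj]; exact h' r
          · exact q.2.2 r j hj)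
      · intro h
        refine congrArg Multiplicative.ofAdd (funext fun r => ?_)
        show cd ⟨q, q.2.1⟩ r i = 0
        rw [show (⟨(q : G), q.2.1⟩ : π.ker) = 1 from Subtype.ext h, cd_one]; rfl
    · intro y q
      refine ⟨⟨(y : G) * q * (y : G)⁻¹, (hWn _).conj_mem _ q.2 y⟩, rfl, ?_⟩
      funext r
      exact cd_conj y ⟨q, q.2.1⟩ r i
  · intro i
    refine disjoint_iff_inf_le.mpr fun g ⟨hgi, hgs⟩ => ?_
    have hle : (⨆ j ≠ i, V j) ≤ W (fun j => j = i) := iSup₂_le fun j hj g hg =>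
      ⟨hg.1, fun r l hl => hg.2 r l (by rw [hl]; exact Ne.symm hj)⟩
    obtain ⟨h, h'⟩ := hle hgs
    exact Subgroup.mem_bot.mpr (congrArg Subtype.val (hext ⟨g, h⟩ fun r j => by
      by_cases hj : j = i
      · exact h' r j hj
      · exact hgi.2 r j hj))
  · intro g hgQ
    let L : AddSubgroup (Fin 2 → C) :=
      { carrier := {v | ∃ q : π.ker, (q : G) ∈ ⨆ i, V i ∧ co q = v}
        zero_mem' := ⟨1, one_mem _, by simpa using hadd 1 1⟩
        add_mem' := fun {v w} ⟨p, hp, hp'⟩ ⟨q, hq, hq'⟩ =>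
          ⟨p * q, mul_mem hp hq, by rw [hadd, hp', hq']⟩
        neg_mem' := fun {v} ⟨p, hp, hp'⟩ => ⟨p⁻¹, inv_mem hp, by
          rw [← hp']
          refine eq_neg_of_add_eq_zero_left ?_
          rw [← hadd, inv_mul_cancel]
          simpa using hadd 1 1⟩ }
    set q₀ : π.ker := ⟨g, hker.symm ▸ hgQ⟩
    have : co q₀ ∈ L := by
      rw [show co q₀ = ∑ i, fun r => cd q₀ r i • b i from funext fun r => by
        rw [Finset.sum_apply]; exact (b.sum_repr (co q₀ r)).symm]
      refine sum_mem fun i _ => ?_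
      obtain ⟨q, hq, hq'⟩ := hsingle i fun r => cd q₀ r i
      exact ⟨q, le_iSup V i hq, hq'⟩
    obtain ⟨q, hq, hq'⟩ := this
    rw [hbij.1 hq'] at hq
    exact hq

end Cfsg.Agent.S3050
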