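import Cfsg.Statements.S3053
import Mathlib
import Cfsg.Agent.Lib.PGroupsBasic
import Cfsg.Agent.Lib.StrongPEmb
-- import your own Cfsg.Agent.* helpers here

set_option autoImplicit false
open Cfsg

namespace Cfsg.Agent.S3053

open scoped commutatorElement

/-- An element inverting a self-centralized elementary abelian plane splits the Sylow subgroup above it. -/
theorem pow_eq_one_of_inverting {G : Type*} [Group G] [Finite G] {p : ℕ} [hp : Fact p.Prime] (hp2 : p ≠ 2)
    (E : Subgroup G) (hEc : ∀ u ∈ E, ∀ v ∈ E, u * v = v * u) (hEp : ∀ u ∈ E, u ^ p = 1)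
    (hE : ¬ p ∣ E.relIndex (Subgroup.centralizer (E : Set G)))
    (a : G) (ha : a ∈ Subgroup.normalizer (E : Set G)) (haE : a ^ p ∈ E)
    (hd : ∀ u ∈ E, a * (a * u * a⁻¹ * u⁻¹) * a⁻¹ = a * u * a⁻¹ * u⁻¹)
    (t : G) (ht : ∀ u ∈ E, t * u * t⁻¹ = u⁻¹) : a ^ p = 1 := by
  set C := Subgroup.centralizer (E : Set G) with hC
  have hEC : E ≤ C := fun u hu => Subgroup.mem_centralizer_iff.mpr fun v hv => hEc v hv u hu
  have hEpg : IsPGroup p ↥E := fun u => ⟨1, by rw [pow_one]; exact Subtype.ext (hEp u u.2)⟩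
  set q := E.relIndex C with hq
  set m := (Subgroup.center ↥C).index with hm
  have hmq : m ∣ q := Subgroup.index_dvd_of_le (fun u hu => by
    rw [Subgroup.mem_subgroupOf] at hu
    rw [Subgroup.mem_center_iff]
    exact fun w => Subtype.ext (Subgroup.mem_centralizer_iff.mp w.2 _ hu).symm)
  set M := m * q with hM
  have hMp : M.Coprime p :=
    Nat.Coprime.mul_left ((hp.out.coprime_iff_not_dvd.mpr (fun h => hE (h.trans hmq))).symm)
      ((hp.out.coprime_iff_not_dvd.mpr hE).symm)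
  have hmul : ∀ u ∈ C, ∀ v ∈ C, (u * v) ^ M = u ^ M * v ^ M := by
    intro u hu v hv
    have h : ((⟨u * v, C.mul_mem hu hv⟩ : ↥C)) ^ m = (⟨u, hu⟩ : ↥C) ^ m * (⟨v, hv⟩ : ↥C) ^ m := by
      have := congrArg Subtype.val (map_mul (MonoidHom.transferCenterPow ↥C) ⟨u, hu⟩ ⟨v, hv⟩)
      simpa using this
    have h' : (u * v) ^ m = u ^ m * v ^ m := congrArg Subtype.val h
    have hc : Commute (u ^ m) (v ^ m) := by
      have := congrArg Subtype.val
        (Subgroup.mem_center_iff.mp (MonoidHom.transferCenterPow ↥C ⟨v, hv⟩).2 ((⟨u, hu⟩ : ↥C) ^ m))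
      show u ^ m * v ^ m = v ^ m * u ^ m
      simpa [hm] using this
    rw [hM, pow_mul, h', hc.mul_pow, ← pow_mul, ← pow_mul]
  have hmem : ∀ u ∈ C, u ^ M ∈ E := by
    intro u hu
    have hpu : IsPGroup p ↥(Subgroup.zpowers (u ^ M)) := by
      obtain ⟨k, hk⟩ := IsPGroup.iff_card.mp hEpg
      have : (u ^ M) ^ Nat.card E = 1 := by
        rw [← pow_mul]
        refine orderOf_dvd_iff_pow_eq_one.mp ((Subgroup.orderOf_dvd_natCard C hu).trans ?_)
        rw [← Subgroup.card_mul_index (E.subgroupOf C), Nat.card_congr (Subgroup.subgroupOfEquivOfLe hEC).toEquiv]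
        exact ⟨m, by rw [hM, hq, Subgroup.relIndex]; ring⟩
      rw [hk] at this
      obtain ⟨j, -, hj⟩ := (Nat.dvd_prime_pow hp.out).mp (orderOf_dvd_of_pow_eq_one this)
      exact IsPGroup.of_card (n := j) (by rw [Nat.card_zpowers, hj])
    have hle : Subgroup.zpowers (u ^ M) ⊔ E ≤ C :=
      sup_le (Subgroup.zpowers_le.mpr (pow_mem hu _)) hEC
    have hpg : IsPGroup p ↥(Subgroup.zpowers (u ^ M) ⊔ E) :=
      hpu.to_sup_of_normal_right' hEpg (Subgroup.zpowers_le.mpr (Subgroup.centralizer_le_normalizer _ (pow_mem hu _)))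
    obtain ⟨n, hn⟩ := hpg.exists_card_eq
    have hr : E.relIndex (Subgroup.zpowers (u ^ M) ⊔ E) = 1 := by
      have h1 := Subgroup.relIndex_mul_relIndex E _ C le_sup_right hle
      have h2 : E.relIndex (Subgroup.zpowers (u ^ M) ⊔ E) ∣ p ^ n := hn ▸ Subgroup.index_dvd_card _
      obtain ⟨j, -, hj⟩ := (Nat.dvd_prime_pow hp.out).mp h2
      cases j with
      | zero => simpa using hj
      | succ j => exact absurd (dvd_trans (hj ▸ dvd_pow_self p (Nat.succ_ne_zero j)) (Dvd.intro _ h1)) hE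
    exact Subgroup.relIndex_eq_one.mp hr (Subgroup.mem_sup_left (Subgroup.mem_zpowers _))
  have hEn : ∀ u ∈ E, a * u * a⁻¹ ∈ E := fun u hu => (Subgroup.mem_normalizer_iff.mp ha u).mp hu
  have hCn : ∀ u ∈ C, a * u * a⁻¹ ∈ C := by
    intro u hu
    rw [hC, Subgroup.mem_centralizer_iff]
    intro w hw
    have hw' : a⁻¹ * w * a ∈ E := (Subgroup.mem_normalizer_iff''.mp ha w).mp hw
    have := congrArg (fun z => a * z * a⁻¹) (Subgroup.mem_centralizer_iff.mp hu _ hw')
    simpa [mul_assoc] using this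
  -- the commutator `c`
  set c := t * a * t⁻¹ * a⁻¹ with hc
  have hcC : c ∈ C := by
    rw [hC, Subgroup.mem_centralizer_iff]
    intro w hw
    have e1 : a⁻¹ * w * a ∈ E := (Subgroup.mem_normalizer_iff''.mp ha w).mp hw
    have e2 : t⁻¹ * (a⁻¹ * w * a) * t = (a⁻¹ * w * a)⁻¹ := by
      have h2 := congrArg (fun z => t⁻¹ * z * t) (ht _ (inv_mem e1))
      simpa [mul_assoc] using h2.symm
    have e3 : c * w * c⁻¹ = w := by
      calc c * w * c⁻¹ = t * (a * (t⁻¹ * (a⁻¹ * w * a) * t) * a⁻¹) * t⁻¹ := by rw [hc]; group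
        _ = t * (a * (a⁻¹ * w * a)⁻¹ * a⁻¹) * t⁻¹ := by rw [e2]
        _ = t * w⁻¹ * t⁻¹ := by group
        _ = w := by rw [ht _ (inv_mem hw), inv_inv]
    exact (mul_inv_eq_iff_eq_mul.mp e3).symm
  set e := c ^ M with he
  have heE : e ∈ E := hmem c hcC
  set d := a * e * a⁻¹ * e⁻¹ with hdd
  have hdE : d ∈ E := mul_mem (hEn e heE) (inv_mem heE)
  have hconj : ∀ i : ℕ, a ^ i * e * (a ^ i)⁻¹ = e * d ^ i := by
    intro i
    induction i with
    | zero => simp
    | succ i ih =>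
      have h1 : a * e * a⁻¹ = d * e := by rw [hdd, inv_mul_cancel_right]
      calc a ^ (i + 1) * e * (a ^ (i + 1))⁻¹ = a * (a ^ i * e * (a ^ i)⁻¹) * a⁻¹ := by
            rw [pow_succ']; group
        _ = (a * e * a⁻¹) * (a * d * a⁻¹) ^ i := by rw [ih, conj_pow]; group
        _ = d * e * d ^ i := by rw [h1, hd e heE]
        _ = _ := by rw [hEc d hdE e heE, mul_assoc, pow_succ']
  have hW : ∀ n : ℕ, ∃ w ∈ C, (c * a) ^ n = w * a ^ n ∧ w ^ M = e ^ n * d ^ n.choose 2 := by
    intro n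
    induction n with
    | zero => exact ⟨1, one_mem _, by simp⟩
    | succ n ih =>
      obtain ⟨w, hw, hw1, hw2⟩ := ih
      have hcn : a ^ n * c * (a ^ n)⁻¹ ∈ C := by
        clear hw1 hw2
        induction n with
        | zero => simpa using hcC
        | succ n ih2 =>
          have := hCn _ ih2
          rw [pow_succ', mul_inv_rev]
          simpa [mul_assoc] using this
      refine ⟨w * (a ^ n * c * (a ^ n)⁻¹), mul_mem hw hcn, ?_, ?_⟩
      · rw [pow_succ, hw1, pow_succ]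
        group
      · rw [hmul w hw _ hcn, hw2, conj_pow, ← he, hconj, Nat.choose_succ_succ, Nat.choose_one_right,
          pow_succ, pow_add]
        have hz1 : Commute (d ^ n.choose 2) e := (show Commute d e from hEc d hdE e heE).pow_left _
        have hz2 : Commute (d ^ n.choose 2) (d ^ n) := (Commute.refl d).pow_pow _ _
        rw [mul_assoc (e ^ n), ← mul_assoc (d ^ _) e, hz1.eq, mul_assoc e, hz2.eq]
        simp only [mul_assoc]
  obtain ⟨w, hw, hw1, hw2⟩ := hW p
  have hd0 : d ^ p.choose 2 = 1 := by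
    obtain ⟨k, hk⟩ := hp.out.dvd_choose_self (k := 2) (by norm_num) (by have := hp.out.two_le; omega)
    rw [hk, pow_mul, hEp d hdE, one_pow]
  rw [hEp e heE, hd0, one_mul] at hw2
  set v := (a ^ p) ^ M with hv
  have hv1 : v⁻¹ = v := by
    have h1 : t * a ^ p * t⁻¹ = (c * a) ^ p := by rw [← conj_pow, hc, inv_mul_cancel_right]
    rw [ht _ haE, hw1] at h1
    have := congrArg (· ^ M) h1
    beta_reduce at this
    rw [inv_pow, hmul w hw _ (hEC haE), hw2, one_mul] at this
    exact this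
  have hv2 : v ^ 2 = 1 := by rw [sq]; nth_rw 1 [← hv1]; exact inv_mul_cancel v
  have hvp : v ^ p = 1 := hEp v (pow_mem haE _)
  have hv3 : v = 1 := by
    have h := pow_gcd_eq_one.mpr (⟨hvp, hv2⟩ : v ^ p = 1 ∧ v ^ 2 = 1)
    rwa [Nat.coprime_primes hp.out Nat.prime_two |>.mpr hp2, pow_one] at h
  have h := pow_gcd_eq_one.mpr (⟨hv3, hEp _ haE⟩ : (a ^ p) ^ M = 1 ∧ (a ^ p) ^ p = 1)
  rwa [hMp, pow_one] at h


/-- Let p be an odd prime and G a finite group with a Sylow p-subgroup P that is extraspecial of order p³ and exponent p². Then the centre of P is strongly closed in P with respect to G: a G-conjugate of an element of Z(P) that lies in P already lies in Z(P). In particular a nontrivial central element of P is conjugate in G to no noncentral element of P. -/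
theorem result {G : Type*} [Group G] [Finite G]
    {p : ℕ} [Fact p.Prime] (hp : p ≠ 2) (P : Sylow p G) (hE : Cfsg.IsExtraspecial p ↥P)
    (hcard : Nat.card P = p ^ 3) (hexp : Monoid.exponent ↥P = p ^ 2) :
    Cfsg.IsStronglyClosed ((Subgroup.center ↥P).map (P : Subgroup G).subtype) (P : Subgroup G) := by
  classical
  obtain ⟨⟨hPp, hfr, hcm⟩, hZ⟩ := hE
  have hp' : p.Prime := Fact.out
  have hcentral : ∀ u v : ↥P, ⁅u, v⁆ ∈ Subgroup.center ↥P := fun u v => by
    rw [← hcm]; exact Subgroup.commutator_mem_commutator (Subgroup.mem_top u) (Subgroup.mem_top v)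
  have hZp : ∀ u ∈ Subgroup.center ↥P, u ^ p = 1 := fun u hu =>
    Cfsg.Agent.PGroupsBasic.pow_eq_one_of_card hZ hu
  have hmulp : ∀ u v : ↥P, (u * v) ^ p = u ^ p * v ^ p := by
    intro u v
    rw [Cfsg.Agent.PGroupsBasic.mul_pow_of_central (hcentral v u)]
    obtain ⟨k, hk⟩ := hp'.dvd_choose_self (k := 2) (by norm_num) (by have := hp'.two_le; omega)
    rw [hk, pow_mul, hZp _ (hcentral v u), one_pow, mul_one]
  have hpowZ : ∀ u : ↥P, u ^ p ∈ Subgroup.center ↥P := fun u => by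
    have := Cfsg.Agent.PGroupsBasic.pow_mem_frattini hPp u
    rwa [hfr] at this
  let ψ : ↥P →* ↥(Subgroup.center ↥P) :=
    { toFun := fun u => ⟨u ^ p, hpowZ u⟩
      map_one' := by simp
      map_mul' := fun u v => Subtype.ext (hmulp u v) }
  obtain ⟨a0, ha0⟩ : ∃ u : ↥P, u ^ p ≠ 1 := by
    by_contra h
    push Not at h
    have h1 : p ^ 2 ∣ p := hexp ▸ Monoid.exponent_dvd_of_forall_pow_eq_one h
    have h2 := Nat.le_of_dvd hp'.pos h1
    have h3 := hp'.two_le
    nlinarith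
  have hψs : Function.Surjective ψ := by
    intro w
    obtain ⟨k, hk⟩ := Subgroup.mem_zpowers_iff.mp (mem_zpowers_of_prime_card hZ
      (g := ψ a0) (g' := w) (fun h => ha0 (congrArg Subtype.val h)))
    exact ⟨a0 ^ k, by rw [map_zpow, hk]⟩
  set E : Subgroup G := ψ.ker.map (P : Subgroup G).subtype with hEdef
  have hmemE : ∀ u : G, u ∈ E ↔ u ∈ (P : Subgroup G) ∧ u ^ p = 1 := by
    intro u
    constructor
    · rintro ⟨v, hv, rfl⟩
      exact ⟨v.2, congrArg (fun z : ↥(Subgroup.center ↥P) => ((z : ↥P) : G)) hv⟩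
    · rintro ⟨h1, h2⟩
      exact ⟨⟨u, h1⟩, Subtype.ext (Subtype.ext h2), rfl⟩
  have hEcard : Nat.card E = p ^ 2 := by
    rw [hEdef, Subgroup.card_map_of_injective (P : Subgroup G).subtype_injective]
    have h1 := Subgroup.card_mul_index ψ.ker
    rw [Subgroup.index_ker, MonoidHom.range_eq_top.mpr hψs, Subgroup.card_top, hZ, show Nat.card ↥P = p ^ 3 from hcard, pow_succ] at h1
    exact Nat.eq_of_mul_eq_mul_right hp'.pos h1
  have hEp : ∀ u ∈ E, u ^ p = 1 := fun u hu => ((hmemE u).mp hu).2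
  have hEP : E ≤ P := fun u hu => ((hmemE u).mp hu).1
  have hEc : ∀ u ∈ E, ∀ v ∈ E, u * v = v * u := fun u hu v hv =>
    congrArg Subtype.val ((Cfsg.Agent.PGroupsBasic.isMulCommutative_of_card_le_sq (G := ↥E)
      (P.2.to_le hEP) hEcard.le).is_comm.comm (⟨u, hu⟩ : E) ⟨v, hv⟩)
  set Z := (Subgroup.center ↥P).map (P : Subgroup G).subtype with hZdef
  have hZcard : Nat.card Z = p := by
    exact (Subgroup.card_map_of_injective (P : Subgroup G).subtype_injective).trans hZ
  refine ⟨Subgroup.map_subtype_le _, ?_⟩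
  rintro x ⟨x', hx', rfl⟩ g hgx
  set x := (x' : G) with hxdef
  by_contra hy
  have hxp : x ^ p = 1 := congrArg Subtype.val (hZp x' hx')
  have hxE : x ∈ E := (hmemE x).mpr ⟨x'.2, hxp⟩
  have hx1 : x ≠ 1 := fun h => by
    apply hy
    show g * x * g⁻¹ ∈ Z
    rw [h, mul_one, mul_inv_cancel]
    exact one_mem _
  have hyE : g * x * g⁻¹ ∈ E := (hmemE _).mpr ⟨hgx, by rw [conj_pow, hxp, mul_one, mul_inv_cancel]⟩
  -- move `g` into the normalizer of `E`
  obtain ⟨g', hg'x, hg'E⟩ : ∃ g', g' * x * g'⁻¹ = g * x * g⁻¹ ∧ g' ∈ Subgroup.normalizer (E : Set G) := by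
    set y := g * x * g⁻¹ with hydef
    set Cy := Subgroup.centralizer ({y} : Set G)
    have hP' : ((g • P : Sylow p G) : Subgroup G) ≤ Cy := by
      rw [Sylow.coe_subgroup_smul]
      rintro _ ⟨u, hu, rfl⟩
      rw [Subgroup.mem_centralizer_iff]
      rintro _ rfl
      have h1 : x * u = u * x := congrArg Subtype.val (Subgroup.mem_center_iff.mp hx' ⟨u, hu⟩).symm
      show y * (g * u * g⁻¹) = (g * u * g⁻¹) * y
      calc y * (g * u * g⁻¹) = g * (x * u) * g⁻¹ := by rw [hydef]; group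
        _ = _ := by rw [h1, hydef]; group
    have hECy : E ≤ Cy := fun u hu => Subgroup.mem_centralizer_iff.mpr fun w hw => by
      rw [Set.mem_singleton_iff.mp hw]; exact hEc y hyE u hu
    have hEpg : IsPGroup p ↥(E.subgroupOf Cy) :=
      (P.2.to_le hEP).of_equiv (Subgroup.subgroupOfEquivOfLe hECy).symm
    obtain ⟨T, hT⟩ := hEpg.exists_le_sylow
    obtain ⟨c, hc⟩ := MulAction.exists_smul_eq ↥Cy ((g • P).subtype hP') T
    have hc' : (c : G) * y * (c : G)⁻¹ = y := by
      rw [← Subgroup.mem_centralizer_iff.mp c.2 y rfl, mul_inv_cancel_right]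
    refine ⟨(c : G) * g, ?_, ?_⟩
    · calc (c : G) * g * x * ((c : G) * g)⁻¹ = (c : G) * y * (c : G)⁻¹ := by rw [hydef]; group
        _ = y := hc'
    · have hsub : E ≤ E.map (MulAut.conj ((c : G) * g)).toMonoidHom := by
        intro u hu
        have hu' : (⟨u, hECy hu⟩ : ↥Cy) ∈ T := hT (by exact hu)
        rw [← hc, Sylow.smul_subtype] at hu'
        have hu'' : u ∈ (((c : G) * g) • P : Sylow p G) := by
          rw [mul_smul]; exact hu'
        have hu3 : u ∈ ((((c : G) * g) • P : Sylow p G) : Subgroup G) := hu''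
        rw [Sylow.coe_subgroup_smul] at hu3
        obtain ⟨w, hw, rfl⟩ := hu3
        refine ⟨w, (hmemE w).mpr ⟨hw, ?_⟩, rfl⟩
        apply (MulAut.conj ((c : G) * g)).injective
        rw [map_pow, map_one]
        exact hEp _ hu
      have heq : E = E.map (MulAut.conj ((c : G) * g)).toMonoidHom :=
        Subgroup.eq_of_le_of_card_ge hsub
          (Subgroup.card_map_of_injective (MulAut.conj _).injective).le
      rw [Subgroup.mem_normalizer_iff]
      intro u
      constructor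
      · intro hu; rw [heq]; exact ⟨u, hu, rfl⟩
      · intro hu
        rw [heq] at hu
        obtain ⟨w, hw, hwe⟩ := hu
        rwa [show u = w from ((MulAut.conj _).injective hwe).symm]
  set y := g' * x * g'⁻¹ with hydef
  have hyZ : y ∉ Z := by rw [hg'x]; exact hy
  have hyE' : y ∈ E := by rw [hg'x]; exact hyE
  clear_value y
  -- `E` is generated by `x` and `y`
  have hgen : ∀ u ∈ E, ∃ i j : ℕ, u = x ^ i * y ^ j := by
    have hxy : Commute x y := hEc x hxE y hyE'
    have hX : Nat.card (Subgroup.zpowers x) = p := by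
      rw [Nat.card_zpowers, orderOf_eq_prime hxp hx1]
    have hxZ : Subgroup.zpowers x = Z := Subgroup.eq_of_le_of_card_ge
      (Subgroup.zpowers_le.mpr ⟨x', hx', rfl⟩) (by rw [hX, hZcard])
    have hy1 : y ≠ 1 := fun h => hyZ (h ▸ one_mem _)
    have hle : Subgroup.zpowers x ⊔ Subgroup.zpowers y ≤ E :=
      sup_le (Subgroup.zpowers_le.mpr hxE) (Subgroup.zpowers_le.mpr hyE')
    have heq : Subgroup.zpowers x ⊔ Subgroup.zpowers y = E := by
      refine Subgroup.eq_of_le_of_card_ge hle (le_of_eq ?_)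
      obtain ⟨j, hj, hjc⟩ := (Nat.dvd_prime_pow hp').mp (hEcard ▸ Subgroup.card_dvd_of_le hle)
      interval_cases j
      · rw [pow_zero, Subgroup.card_eq_one] at hjc
        exact absurd (Subgroup.mem_bot.mp (hjc ▸ Subgroup.mem_sup_left (Subgroup.mem_zpowers x))) hx1
      · rw [pow_one] at hjc
        have := Subgroup.eq_of_le_of_card_ge (le_sup_left : Subgroup.zpowers x ≤ Subgroup.zpowers x ⊔ Subgroup.zpowers y)
          (by rw [hX, hjc])
        exact absurd (hxZ ▸ this.symm ▸ Subgroup.mem_sup_right (Subgroup.mem_zpowers y)) hyZ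
      · rw [hEcard, hjc]
    intro u hu
    rw [← heq, Subgroup.sup_eq_closure] at hu
    induction hu using Subgroup.closure_induction with
    | mem u hu =>
      rcases hu with hu | hu
      · obtain ⟨i, rfl⟩ := mem_powers_iff_mem_zpowers.mpr hu
        exact ⟨i, 0, by simp⟩
      · obtain ⟨j, rfl⟩ := mem_powers_iff_mem_zpowers.mpr hu
        exact ⟨0, j, by simp⟩
    | one => exact ⟨0, 0, by simp⟩
    | mul u v _ _ hu hv =>
      obtain ⟨i, j, rfl⟩ := hu
      obtain ⟨i', j', rfl⟩ := hv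
      refine ⟨i + i', j + j', ?_⟩
      rw [pow_add, pow_add, mul_assoc, ← mul_assoc (y ^ j), (hxy.symm.pow_pow j i').eq]
      simp only [mul_assoc]
    | inv u _ hu =>
      obtain ⟨i, j, rfl⟩ := hu
      refine ⟨(p - 1) * i, (p - 1) * j, ?_⟩
      have hi : ∀ w : G, w ^ p = 1 → ∀ i, (w ^ i)⁻¹ = w ^ ((p - 1) * i) := fun w hw i => by
        apply inv_eq_of_mul_eq_one_right
        rw [← pow_add, show i + (p - 1) * i = p * i by
          conv_rhs => rw [show p = (p - 1) + 1 by have := hp'.two_le; omega]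
          ring, pow_mul, hw, one_pow]
      rw [mul_inv_rev, hi x hxp, hi y (hEp y hyE'), (hxy.symm.pow_pow _ _).eq]
  -- elements of `P` act on `E` as transvections fixing `x`
  have hPcomm : ∀ a ∈ P, ∀ u ∈ E, a * u * a⁻¹ * u⁻¹ ∈ Z := fun a ha u hu =>
    ⟨⁅(⟨a, ha⟩ : ↥P), ⟨u, hEP hu⟩⁆, hcentral _ _, by simp [commutatorElement_def]⟩
  have hxa : ∀ a ∈ P, a * x * a⁻¹ = x := fun a ha => by
    have h := congrArg Subtype.val (Subgroup.mem_center_iff.mp hx' ⟨a, ha⟩)
    rw [mul_inv_eq_iff_eq_mul]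
    exact h
  obtain ⟨a, haP, hay⟩ : ∃ a ∈ P, a * y * a⁻¹ = y * x := by
    obtain ⟨a, haP, hne⟩ : ∃ a ∈ P, a * y * a⁻¹ ≠ y := by
      by_contra h
      push Not at h
      refine hyZ ⟨⟨y, hEP hyE'⟩, Subgroup.mem_center_iff.mpr fun u => Subtype.ext ?_, rfl⟩
      exact mul_inv_eq_iff_eq_mul.mp (h u u.2)
    have hd := hPcomm a haP y hyE'
    obtain ⟨i, hi⟩ : ∃ i : ℕ, (a * y * a⁻¹ * y⁻¹) ^ i = x := by
      have hd1 : a * y * a⁻¹ * y⁻¹ ≠ 1 := fun h => hne (mul_inv_eq_one.mp h)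
      obtain ⟨k, hk⟩ := Subgroup.mem_zpowers_iff.mp (mem_zpowers_of_prime_card hZcard
        (g := (⟨_, hd⟩ : Z)) (g' := ⟨x, x', hx', rfl⟩) (fun h => hd1 (congrArg Subtype.val h)))
      have hk' : (a * y * a⁻¹ * y⁻¹) ^ k = x := congrArg Subtype.val hk
      obtain ⟨i, hi⟩ := mem_powers_iff_mem_zpowers.mpr
        (Subgroup.mem_zpowers_iff.mpr ⟨k, hk'⟩)
      exact ⟨i, hi⟩
    refine ⟨a ^ i, pow_mem haP i, ?_⟩
    set d := a * y * a⁻¹ * y⁻¹ with hddef
    have hdE : d ∈ E := mul_mem ((hmemE _).mpr ⟨mul_mem (mul_mem haP (hEP hyE')) (inv_mem haP),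
      by rw [conj_pow, hEp y hyE', mul_one, mul_inv_cancel]⟩) (inv_mem hyE')
    have hda : a * d * a⁻¹ = d := by
      obtain ⟨d', hd', hde⟩ := hd
      rw [← hde, mul_inv_eq_iff_eq_mul]
      exact congrArg Subtype.val (Subgroup.mem_center_iff.mp hd' ⟨a, haP⟩)
    have key : ∀ n : ℕ, a ^ n * y * (a ^ n)⁻¹ = y * d ^ n := by
      intro n
      induction n with
      | zero => simp
      | succ n ih =>
        calc a ^ (n + 1) * y * (a ^ (n + 1))⁻¹ = a * (a ^ n * y * (a ^ n)⁻¹) * a⁻¹ := by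
              rw [pow_succ']; group
          _ = (a * y * a⁻¹) * (a * d * a⁻¹) ^ n := by rw [ih, conj_pow]; group
          _ = d * y * d ^ n := by rw [hda, hddef, inv_mul_cancel_right]
          _ = _ := by rw [hEc d hdE y hyE', mul_assoc, pow_succ']
    rw [key, hi]
  obtain ⟨b, hby, hbx⟩ : ∃ b, b * y * b⁻¹ = y ∧ b * x * b⁻¹ = x * y⁻¹ := by
    have hw : g'⁻¹ * x * g' ∈ E := (Subgroup.mem_normalizer_iff''.mp hg'E x).mp hxE
    obtain ⟨i, j, hij⟩ := hgen _ hw
    have hj : ¬ p ∣ j := by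
      rintro ⟨k, rfl⟩
      rw [pow_mul, hEp y hyE', one_pow, mul_one] at hij
      have h1 : x = (g' * x * g'⁻¹) ^ i := by rw [conj_pow, ← hij]; group
      rw [← hydef] at h1
      apply hyZ
      have hy1 : y ≠ 1 := fun h => hyZ (h ▸ one_mem _)
      obtain ⟨k, hk⟩ := Subgroup.mem_zpowers_iff.mp (mem_zpowers_of_prime_card
        (G := ↥(Subgroup.zpowers y)) (p := p)
        (by rw [Nat.card_zpowers, orderOf_eq_prime (hEp y hyE') hy1])
        (g := ⟨x, h1 ▸ pow_mem (Subgroup.mem_zpowers y) i⟩) (g' := ⟨y, Subgroup.mem_zpowers y⟩)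
        (fun h => hx1 (congrArg Subtype.val h)))
      have hk' : x ^ k = y := congrArg Subtype.val hk
      rw [← hk']
      exact zpow_mem (show x ∈ Z from ⟨x', hx', rfl⟩) k
    obtain ⟨l, hl⟩ : ∃ l : ℕ, j * l % p = (p - 1) % p := by
      obtain ⟨l, -, hl⟩ := Nat.exists_mul_mod_eq_one_of_coprime
        ((hp'.coprime_iff_not_dvd.mpr hj).symm) hp'.one_lt
      exact ⟨l * (p - 1), by rw [← mul_assoc, Nat.mul_mod, hl, one_mul, Nat.mod_mod]⟩
    have hyl : y ^ (j * l) = y ^ (p - 1) := by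
      rw [pow_eq_pow_mod (j * l) (hEp y hyE'), hl, ← pow_eq_pow_mod (p - 1) (hEp y hyE')]
    have hyinv : y ^ (p - 1) = y⁻¹ := eq_inv_of_mul_eq_one_left (by
      rw [← pow_succ, show p - 1 + 1 = p by have := hp'.two_le; omega]; exact hEp y hyE')
    -- `a ^ l` moved by `g'`
    have key : ∀ n : ℕ, a ^ n * (x ^ i * y ^ j) * (a ^ n)⁻¹ = x ^ i * y ^ j * x ^ (j * n) := by
      intro n
      induction n with
      | zero => simp
      | succ n ih =>
        calc a ^ (n + 1) * (x ^ i * y ^ j) * (a ^ (n + 1))⁻¹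
            = a * (a ^ n * (x ^ i * y ^ j) * (a ^ n)⁻¹) * a⁻¹ := by rw [pow_succ']; group
          _ = (a * x * a⁻¹) ^ i * (a * y * a⁻¹) ^ j * (a * x * a⁻¹) ^ (j * n) := by
              rw [ih, conj_pow, conj_pow, conj_pow]; group
          _ = _ := by
              rw [hxa a haP, hay, (show Commute y x from hEc y hyE' x hxE).mul_pow, mul_add, mul_one,
                add_comm (j * n), pow_add]
              simp only [mul_assoc]
    refine ⟨g' * a ^ l * g'⁻¹, ?_, ?_⟩
    · calc g' * a ^ l * g'⁻¹ * y * (g' * a ^ l * g'⁻¹)⁻¹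
          = g' * (a ^ l * x * (a ^ l)⁻¹) * g'⁻¹ := by rw [hydef]; group
        _ = y := by rw [hxa _ (pow_mem haP l), hydef]
    · calc g' * a ^ l * g'⁻¹ * x * (g' * a ^ l * g'⁻¹)⁻¹
          = g' * (a ^ l * (g'⁻¹ * x * g') * (a ^ l)⁻¹) * g'⁻¹ := by group
        _ = g' * ((g'⁻¹ * x * g') * x ^ (j * l)) * g'⁻¹ := by rw [hij, key]
        _ = x * (g' * x * g'⁻¹) ^ (j * l) := by rw [conj_pow]; group
        _ = x * y⁻¹ := by rw [← hydef, hyl, hyinv]
  -- `(a b a)²` inverts `E`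
  set s := a * b * a with hs
  have hsx : s * x * s⁻¹ = y⁻¹ := by
    calc s * x * s⁻¹ = a * (b * (a * x * a⁻¹) * b⁻¹) * a⁻¹ := by rw [hs]; group
      _ = a * (x * y⁻¹) * a⁻¹ := by rw [hxa a haP, hbx]
      _ = a * x * a⁻¹ * (a * y * a⁻¹)⁻¹ := by group
      _ = x * (y * x)⁻¹ := by rw [hxa a haP, hay]
      _ = y⁻¹ := by rw [mul_inv_rev, mul_inv_cancel_left]
  have hsy : s * y * s⁻¹ = x := by
    calc s * y * s⁻¹ = a * (b * (a * y * a⁻¹) * b⁻¹) * a⁻¹ := by rw [hs]; group
      _ = a * ((b * y * b⁻¹) * (b * x * b⁻¹)) * a⁻¹ := by rw [hay]; group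
      _ = a * x * a⁻¹ := by rw [hby, hbx, ← mul_assoc y, hEc y hyE' x hxE, mul_inv_cancel_right]
      _ = x := hxa a haP
  have ht : ∀ u ∈ E, (s * s) * u * (s * s)⁻¹ = u⁻¹ := by
    intro u hu
    obtain ⟨i, j, rfl⟩ := hgen u hu
    have e1 : s * s * x * (s * s)⁻¹ = x⁻¹ := by
      calc s * s * x * (s * s)⁻¹ = s * (s * x * s⁻¹) * s⁻¹ := by group
        _ = (s * y * s⁻¹)⁻¹ := by rw [hsx]; group
        _ = x⁻¹ := by rw [hsy]
    have e2 : s * s * y * (s * s)⁻¹ = y⁻¹ := by
      calc s * s * y * (s * s)⁻¹ = s * (s * y * s⁻¹) * s⁻¹ := by group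
        _ = y⁻¹ := by rw [hsy, hsx]
    rw [← conj_mul, ← conj_pow, ← conj_pow, e1, e2, mul_inv_rev, inv_pow, inv_pow]
    exact hEc _ (inv_mem (pow_mem hxE i)) _ (inv_mem (pow_mem hyE' j))
  -- conclusion
  have hEN : (P : Subgroup G) ≤ Subgroup.normalizer (E : Set G) := by
    intro u hu
    rw [Subgroup.mem_normalizer_iff]
    intro w
    constructor
    · intro hw
      exact (hmemE _).mpr ⟨mul_mem (mul_mem hu (hEP hw)) (inv_mem hu),
        by rw [conj_pow, hEp w hw, mul_one, mul_inv_cancel]⟩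
    · intro hw
      have h1 : u * w * u⁻¹ ∈ P := hEP hw
      have h2 : w ∈ (P : Subgroup G) := by
        have h3 := mul_mem (mul_mem (inv_mem hu) h1) hu
        simpa [mul_assoc] using h3
      refine (hmemE w).mpr ⟨h2, (MulAut.conj u).injective ?_⟩
      rw [map_pow, map_one]
      exact hEp _ hw
  have haE : a ^ p ∈ E := (hmemE _).mpr ⟨pow_mem haP p, by
    have h := congrArg Subtype.val (hZp _ (hpowZ ⟨a, haP⟩))
    simpa using h⟩
  have hind : ¬ p ∣ E.relIndex (Subgroup.centralizer (E : Set G)) := by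
    set N := Subgroup.normalizer (E : Set G) with hN
    have hCN : Subgroup.centralizer (E : Set G) ≤ N := Subgroup.centralizer_le_normalizer _
    have hEC : E ≤ Subgroup.centralizer (E : Set G) := fun u hu =>
      Subgroup.mem_centralizer_iff.mpr fun v hv => hEc v hv u hu
    have h := Cfsg.Agent.StrongPEmb.not_dvd_relIndex_sylow (P.subtype hEN)
      ((Subgroup.centralizer (E : Set G)).subgroupOf N)
    rw [Sylow.coe_subtype, Subgroup.relIndex_subgroupOf hCN] at h
    rw [← Subgroup.inf_relIndex_right] at h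
    have hPC : (P : Subgroup G) ⊓ Subgroup.centralizer (E : Set G) = E := by
      refine le_antisymm ?_ (le_inf hEP hEC)
      have hle : E ≤ (P : Subgroup G) ⊓ Subgroup.centralizer (E : Set G) := le_inf hEP hEC
      obtain ⟨j, hj, hjc⟩ := (Nat.dvd_prime_pow hp').mp (hcard ▸ Subgroup.card_dvd_of_le
        (inf_le_left : (P : Subgroup G) ⊓ Subgroup.centralizer (E : Set G) ≤ P))
      have h2 : p ^ 2 ≤ p ^ j := by
        rw [← hEcard, ← hjc]
        exact Nat.le_of_dvd Nat.card_pos (Subgroup.card_dvd_of_le hle)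
      have hj2 : 2 ≤ j := (Nat.pow_le_pow_iff_right hp'.one_lt).mp h2
      interval_cases j
      · exact (Subgroup.eq_of_le_of_card_ge hle (by rw [hjc, hEcard])).ge
      · exfalso
        have hPle : (P : Subgroup G) ⊓ Subgroup.centralizer (E : Set G) = P :=
          Subgroup.eq_of_le_of_card_ge inf_le_left (by rw [hjc, ← hcard])
        have haC := (hPle.ge haP).2
        replace haC := Subgroup.mem_centralizer_iff.mp haC
        have h4 : a * y * a⁻¹ = y := by rw [← haC y hyE', mul_inv_cancel_right]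
        exact hx1 (mul_eq_left.mp (hay.symm.trans h4))
    rwa [hPC] at h
  have hd : ∀ u ∈ E, a * (a * u * a⁻¹ * u⁻¹) * a⁻¹ = a * u * a⁻¹ * u⁻¹ := by
    intro u hu
    obtain ⟨d', hd', hde⟩ := hPcomm a haP u hu
    rw [← hde, mul_inv_eq_iff_eq_mul]
    exact congrArg Subtype.val (Subgroup.mem_center_iff.mp hd' ⟨a, haP⟩)
  have hap := pow_eq_one_of_inverting hp E hEc hEp hind a (hEN haP) haE hd (s * s) ht
  have haE' : a ∈ E := (hmemE a).mpr ⟨haP, hap⟩
  have h4 : a * y * a⁻¹ = y := by rw [hEc a haE' y hyE', mul_inv_cancel_right]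
  exact hx1 (mul_eq_left.mp (hay.symm.trans h4))

end Cfsg.Agent.S3053
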