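import Cfsg.Statements.S3054
import Cfsg.Agent.Lib.ExtraspecialAutomizer

set_option autoImplicit false
open Cfsg

namespace Cfsg.Agent.S3054

open ExtraspecialPlanes

/-- An automorphism of order `p` of a plane shearing `z` along `a`. -/
theorem shear {G : Type*} [Group G] {p : ℕ} [Fact p.Prime] {P A : Subgroup G} {z a : G}
    (h : Plane p P A z a) :
    ∃ φ : MulAut A, orderOf φ = p ∧
      ∀ x : ZMod p × ZMod p, ∀ y : A, (y : G) = ph z a x →
        (φ y : G) = ph z a (x.1, x.1 + x.2) := by
  have hmem : ∀ x : ZMod p × ZMod p, ph z a x ∈ A := fun x => mul_mem (pw_mem h.zA _) (pw_mem h.aA _)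
  choose co hco using fun y : A => h.span y y.2
  have co_eq : ∀ (y : A) x, (y : G) = ph z a x → co y = x := fun y x hx =>
    h.inj ((hco y).symm.trans hx)
  have co_mul : ∀ u v : A, co (u * v) = ((co u).1 + (co v).1, (co u).2 + (co v).2) := fun u v =>
    co_eq _ _ (by rw [Subgroup.coe_mul, ← h.ph_mul, ← hco, ← hco])
  let φ : MulAut A :=
    { toFun := fun y => ⟨ph z a ((co y).1, (co y).1 + (co y).2), hmem _⟩
      invFun := fun y => ⟨ph z a ((co y).1, (co y).2 - (co y).1), hmem _⟩
      left_inv := fun y => by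
        apply Subtype.ext
        show ph z a ((co ⟨ph z a ((co y).1, (co y).1 + (co y).2), hmem _⟩).1,
          (co ⟨ph z a ((co y).1, (co y).1 + (co y).2), hmem _⟩).2 -
          (co ⟨ph z a ((co y).1, (co y).1 + (co y).2), hmem _⟩).1) = (y : G)
        rw [co_eq _ _ rfl]
        simp only [add_sub_cancel_left]
        exact (hco y).symm
      right_inv := fun y => by
        apply Subtype.ext
        show ph z a ((co ⟨ph z a ((co y).1, (co y).2 - (co y).1), hmem _⟩).1,
          (co ⟨ph z a ((co y).1, (co y).2 - (co y).1), hmem _⟩).1 +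
          (co ⟨ph z a ((co y).1, (co y).2 - (co y).1), hmem _⟩).2) = (y : G)
        rw [co_eq _ _ rfl]
        simp only [add_sub_cancel]
        exact (hco y).symm
      map_mul' := fun u v => by
        apply Subtype.ext
        simp only [Subgroup.coe_mul, co_mul, h.ph_mul]
        congr 2
        ring }
  have hval : ∀ x : ZMod p × ZMod p, ∀ y : A, (y : G) = ph z a x →
      (φ y : G) = ph z a (x.1, x.1 + x.2) := fun x y hy => by
    show ph z a ((co y).1, (co y).1 + (co y).2) = _
    rw [co_eq y x hy]
  have hpow : ∀ k : ℕ, ∀ y : A, ((φ ^ k) y : G) = ph z a ((co y).1, (k : ZMod p) * (co y).1 + (co y).2) := by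
    intro k
    induction k with
    | zero => intro y; simpa using hco y
    | succ k ih =>
      intro y
      rw [pow_succ', MulAut.mul_apply, hval _ _ (ih y)]
      congr 2
      push_cast
      ring
  refine ⟨φ, ?_, hval⟩
  apply orderOf_eq_prime
  · refine MulEquiv.ext fun y => Subtype.ext ?_
    rw [hpow, ZMod.natCast_self, zero_mul, zero_add, MulAut.one_apply]
    exact (hco y).symm
  · intro h1
    have h2 := hval (1, 0) ⟨z, h.zA⟩ (by simp [ph, pw_one, pw_zero])
    rw [h1, MulAut.one_apply] at h2
    have h3 : ((1, 0) : ZMod p × ZMod p) = (1, 1 + 0) :=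
      h.inj ((by simp [ph, pw_one, pw_zero] : ph z a ((1 : ZMod p), 0) = z).trans h2)
    simp at h3

/-- Let p be an odd prime and G a finite group with a Sylow p-subgroup P that is extraspecial of order p³ and exponent p. Suppose P contains three distinct subgroups A of order p² (each is elementary abelian of rank 2) such that every automorphism of A of order p is induced by conjugation by an element of G; equivalently the automorphism group induced on A by its normalizer contains the special linear group of A. Then p ≤ 13. -/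
theorem result {G : Type*} [Group G] [Finite G]
    {p : ℕ} [Fact p.Prime] (hp : p ≠ 2) (P : Sylow p G) (hE : Cfsg.IsExtraspecial p ↥P)
    (hcard : Nat.card P = p ^ 3) (hexp : Monoid.exponent ↥P = p)
    (A : Fin 3 → Subgroup G) (hA : Function.Injective A) (hAP : ∀ i, A i ≤ (P : Subgroup G))
    (hAcard : ∀ i, Nat.card ↥(A i) = p ^ 2)
    (hSL : ∀ i, ∀ φ : MulAut ↥(A i), orderOf φ = p → ∃ g : G, ∀ a : ↥(A i), (φ a : G) = g * (a : G) * g⁻¹) :
    p ≤ 13 := by
  by_contra hle
  have hexp' : ∀ x ∈ (P : Subgroup G), x ^ p = 1 := fun x hx => by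
    have := Monoid.pow_exponent_eq_one (⟨x, hx⟩ : P)
    rw [hexp] at this
    exact congrArg Subtype.val this
  have hlow : ∀ i z a, Plane p (P : Subgroup G) (A i) z a →
      ∃ g : G, ∃ c : ZMod p, c ≠ 0 ∧ Real z a g (loM c) := by
    intro i z a hpl
    obtain ⟨φ, hord, hval⟩ := shear hpl
    obtain ⟨g, hg⟩ := hSL i φ hord
    refine ⟨g, 1, one_ne_zero, ?_, ?_⟩
    · rw [← hg ⟨z, hpl.zA⟩, hval (1, 0) _ (by simp [ph, pw_one, pw_zero])]
      simp [loM]
    · rw [← hg ⟨a, hpl.aA⟩, hval (0, 1) _ (by simp [ph, pw_one, pw_zero])]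
      simp [loM]
  obtain ⟨-, m, hm0, hm5, hm⟩ := ExtraspecialAutomizer.bound P hp hE hcard hexp' A hA hAP hAcard
    hlow (by simp) (by omega)
  have h15 := Nat.le_of_dvd (by omega) hm
  have hpr : p.Prime := Fact.out
  have hp16 : p ≤ 16 := by omega
  have hp14 : 14 ≤ p := by omega
  interval_cases p <;> first | omega | (revert hpr; decide)

end Cfsg.Agent.S3054
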