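import Cfsg.Statements.S3055
import Cfsg.Agent.Lib.ExtraspecialAutomizer

set_option autoImplicit false
open Cfsg

namespace Cfsg.Agent.S3055

open ExtraspecialPlanes
open scoped Pointwise commutatorElement

variable {G : Type*} [Group G] {p : ℕ} [Fact p.Prime]

/-- The subgroup generated by two commuting elements of order dividing `p`. -/
theorem exists_pair {z b : G} (hz : z ^ p = 1) (hb : b ^ p = 1) (hc : Commute z b) (hz1 : z ≠ 1)
    (hind : b ∉ Subgroup.zpowers z) :
    ∃ A : Subgroup G, Nat.card A = p ^ 2 ∧ z ∈ A ∧ b ∈ A ∧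
      ∀ y ∈ A, ∃ x : ZMod p × ZMod p, y = ph z b x := by
  let f : Multiplicative (ZMod p × ZMod p) →* G := MonoidHom.mk' (fun x => ph z b x.toAdd)
    fun x y => by
      simp only [ph, toAdd_mul, Prod.fst_add, Prod.snd_add, pw_add hz, pw_add hb]
      exact Commute.mul_mul_mul_comm (hc.pow_pow _ _) _ _
  have hinj : Function.Injective f := by
    rw [injective_iff_map_eq_one]
    intro x hx
    have hx' : pw z x.toAdd.1 * pw b x.toAdd.2 = 1 := hx
    have h2 : x.toAdd.2 = 0 := by
      by_contra h0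
      apply hind
      refine mem_of_pw hb h0 ?_
      rw [eq_inv_of_mul_eq_one_right hx']
      exact inv_mem (pw_mem (Subgroup.mem_zpowers z) _)
    have h1 : x.toAdd.1 = 0 := by
      by_contra h0
      apply hz1
      rw [h2, pw_zero, mul_one] at hx'
      exact Subgroup.mem_bot.mp (mem_of_pw hz h0 (S := ⊥) (Subgroup.mem_bot.mpr hx'))
    exact Multiplicative.toAdd.injective (Prod.ext h1 h2)
  refine ⟨f.range, ?_, ⟨Multiplicative.ofAdd (1, 0), ?_⟩, ⟨Multiplicative.ofAdd (0, 1), ?_⟩, ?_⟩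
  · rw [← Nat.card_congr (MonoidHom.ofInjective hinj).toEquiv,
      Nat.card_congr Multiplicative.toAdd, Nat.card_prod, Nat.card_zmod, sq]
  · simp [f, ph, pw_one, pw_zero]
  · simp [f, ph, pw_one, pw_zero]
  · rintro y ⟨x, rfl⟩
    exact ⟨x.toAdd, rfl⟩

/-- Transitive fusion gives a lower unipotent element on each plane. -/
theorem exists_low [Finite G] (P : Sylow p G) (hE : Cfsg.IsExtraspecial p (P : Subgroup G))
    (hconj : ∀ x y : ↥P, x ≠ 1 → y ≠ 1 → ∃ g : G, g * (x : G) * g⁻¹ = (y : G))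
    {A : Subgroup G} {z a : G} (h : Plane p (P : Subgroup G) A z a) :
    ∃ g : G, ∃ c : ZMod p, c ≠ 0 ∧ Real z a g (loM c) := by
  have hzP : z ∈ (P : Subgroup G) := h.AP h.zA
  have ha1 : a ≠ 1 := fun h1 => h.indep (h1 ▸ one_mem _)
  obtain ⟨g, hg⟩ := hconj ⟨z, hzP⟩ ⟨a, h.AP h.aA⟩ (fun e => h.z1 (congrArg Subtype.val e))
    (fun e => ha1 (congrArg Subtype.val e))
  change g * z * g⁻¹ = a at hg
  set C := Subgroup.centralizer ({a} : Set G) with hC
  have hPC : ((g • P : Sylow p G) : Subgroup G) ≤ C := by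
    intro x hx
    rw [Sylow.coe_subgroup_smul, Subgroup.mem_pointwise_smul_iff_inv_smul_mem] at hx
    simp only [← map_inv, MulAut.smul_def, MulAut.conj_apply, inv_inv] at hx
    rw [hC, Subgroup.mem_centralizer_singleton_iff, ← hg]
    have := (h.zcen _ hx).eq
    calc x * (g * z * g⁻¹) = g * (g⁻¹ * x * g * z) * g⁻¹ := by group
      _ = g * (z * (g⁻¹ * x * g)) * g⁻¹ := by rw [this]
      _ = g * z * g⁻¹ * x := by group
  have hAC : A ≤ C := by
    intro y hy
    rw [hC, Subgroup.mem_centralizer_singleton_iff]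
    obtain ⟨x, rfl⟩ := h.span y hy
    have ea : a = ph z a ((0 : ZMod p), (1 : ZMod p)) := by simp [ph, pw_one, pw_zero]
    conv_lhs => arg 2; rw [ea]
    conv_rhs => arg 1; rw [ea]
    rw [h.ph_mul, h.ph_mul, add_comm x.1, add_comm x.2]
  have hAp : IsPGroup p (A.subgroupOf C) :=
    (P.2.to_le h.AP).comap_of_injective _ C.subtype_injective
  obtain ⟨S, hS⟩ := hAp.exists_le_sylow
  obtain ⟨hh, hhS⟩ := MulAction.exists_smul_eq C ((g • P).subtype hPC) S
  set d := (hh : G) * g with hd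
  have hdA : ∀ y ∈ A, d⁻¹ * y * d ∈ (P : Subgroup G) := by
    intro y hy
    have h1 : (⟨y, hAC hy⟩ : C) ∈ (S : Subgroup C) := hS hy
    rw [← hhS, Sylow.coe_subgroup_smul, Subgroup.mem_pointwise_smul_iff_inv_smul_mem,
      Sylow.coe_subtype, Subgroup.mem_subgroupOf, Sylow.coe_subgroup_smul,
      Subgroup.mem_pointwise_smul_iff_inv_smul_mem] at h1
    simp only [← map_inv, MulAut.smul_def, MulAut.conj_apply, inv_inv, Subgroup.coe_mul,
      InvMemClass.coe_inv] at h1
    rw [hd]
    convert h1 using 1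
    group
  have hdz : d * z * d⁻¹ = a := by
    have := Subgroup.mem_centralizer_singleton_iff.mp hh.2
    calc d * z * d⁻¹ = (hh : G) * (g * z * g⁻¹) * (hh : G)⁻¹ := by rw [hd]; group
      _ = a := by rw [hg, this, mul_inv_cancel_right]
  set y := d⁻¹ * z * d with hy
  have hyP : y ∈ (P : Subgroup G) := hdA z h.zA
  have hyz : y ∉ Subgroup.zpowers z := by
    rintro ⟨k, hk⟩
    have e1 : a ^ k = z := by
      rw [← hdz, conj_zpow, show z ^ k = y from hk, hy]; group
    apply h.indep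
    obtain ⟨n, hn⟩ := mem_powers_iff_mem_zpowers.mpr (⟨k, e1⟩ : z ∈ Subgroup.zpowers a)
    have hn' : pw a (n : ZMod p) = z := (pw_natCast h.ap n).trans hn
    have hn0 : (n : ZMod p) ≠ 0 := fun e => h.z1 (by rw [← hn', e, pw_zero])
    exact mem_of_pw h.ap hn0 (hn' ▸ Subgroup.mem_zpowers z)
  obtain ⟨b, hb, hby⟩ : ∃ b ∈ (P : Subgroup G), ¬ Commute b y := by
    by_contra hne
    push_neg at hne
    apply hyz
    obtain ⟨z0, hz0P, hz01, hz0c, hcen⟩ := ExtraspecialAutomizer.exists_z (P : Subgroup G) hE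
    have hy0 := hcen ⟨y, hyP⟩ (Subgroup.mem_center_iff.mpr fun u => Subtype.ext (hne u u.2).eq)
    have hz0 := hcen ⟨z, hzP⟩ (Subgroup.mem_center_iff.mpr fun u =>
      Subtype.ext (h.zcen u u.2).eq.symm)
    obtain ⟨n, hn⟩ := mem_powers_iff_mem_zpowers.mpr hz0
    have hz0p : z0 ^ p = 1 := h.expP z0 hz0P
    have hn' : pw z0 (n : ZMod p) = z := (pw_natCast hz0p n).trans hn
    have hn0 : (n : ZMod p) ≠ 0 := fun e => h.z1 (by rw [← hn', e, pw_zero])
    exact Subgroup.zpowers_le.mpr (mem_of_pw hz0p hn0 (hn' ▸ Subgroup.mem_zpowers z)) hy0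
  obtain ⟨n, hn⟩ := mem_powers_iff_mem_zpowers.mpr (h.comm_mem b hb y hyP)
  have hn' : pw z (n : ZMod p) = ⁅b, y⁆ := (pw_natCast h.zp n).trans hn
  have hc0 : (n : ZMod p) ≠ 0 := fun e => hby (commutatorElement_eq_one_iff_commute.mp
    (by rw [← hn', e, pw_zero]))
  refine ⟨d * b * d⁻¹, (n : ZMod p), hc0, ?_, ?_⟩
  · have e2 : b * y * b⁻¹ = pw z (n : ZMod p) * y := by rw [hn', commutatorElement_def]; group
    calc d * b * d⁻¹ * z * (d * b * d⁻¹)⁻¹ = d * (b * y * b⁻¹) * d⁻¹ := by rw [hy]; group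
      _ = (d * pw z (n : ZMod p) * d⁻¹) * (d * y * d⁻¹) := by rw [e2]; group
      _ = pw a (n : ZMod p) * z := by rw [conj_pw, hdz, hy]; group
      _ = _ := by
        simp only [ph, loM, Matrix.of_apply, Matrix.cons_val', Matrix.cons_val_zero,
          Matrix.cons_val_one, Matrix.empty_val', Matrix.cons_val_fin_one, pw_one]
        exact (h.comm.pow_right _).eq.symm
  · calc d * b * d⁻¹ * a * (d * b * d⁻¹)⁻¹ = d * (b * (d⁻¹ * a * d) * b⁻¹) * d⁻¹ := by group
      _ = d * (b * z * b⁻¹) * d⁻¹ := by rw [← hdz]; group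
      _ = a := by rw [← (h.zcen b hb).eq, mul_inv_cancel_right, hdz]
      _ = _ := by simp [ph, loM, pw_one, pw_zero]

/-- Let p be an odd prime and G a finite group with a Sylow p-subgroup P that is extraspecial of order p³ and exponent p. If all nonidentity elements of P are conjugate in G, then p ≤ 7. -/
theorem result {G : Type*} [Group G] [Finite G]
    {p : ℕ} [Fact p.Prime] (hp : p ≠ 2) (P : Sylow p G) (hE : Cfsg.IsExtraspecial p ↥P)
    (hcard : Nat.card P = p ^ 3) (hexp : Monoid.exponent ↥P = p)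
    (hconj : ∀ x y : ↥P, x ≠ 1 → y ≠ 1 → ∃ g : G, g * (x : G) * g⁻¹ = (y : G)) :
    p ≤ 7 := by
  classical
  by_contra hle
  have hpr : p.Prime := Fact.out
  have h11 : 11 ≤ p := by
    by_contra
    have : p ≤ 10 := by omega
    have : 8 ≤ p := by omega
    interval_cases p <;> revert hpr <;> decide
  have hexp' : ∀ x ∈ (P : Subgroup G), x ^ p = 1 := fun x hx => by
    have := Monoid.pow_exponent_eq_one (⟨x, hx⟩ : P)
    rw [hexp] at this
    exact congrArg Subtype.val this
  obtain ⟨z, hzP, hz1, hzc, -⟩ := ExtraspecialAutomizer.exists_z (P : Subgroup G) hE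
  obtain ⟨b1, hb1, hb1z⟩ : ∃ b ∈ (P : Subgroup G), b ∉ Subgroup.zpowers z := by
    by_contra hne
    push_neg at hne
    have h1 := Subgroup.card_le_of_le (H := (P : Subgroup G)) hne
    rw [Nat.card_zpowers, orderOf_eq_prime (hexp' z hzP) hz1] at h1
    have : Nat.card (P : Subgroup G) = p ^ 3 := hcard
    rw [this] at h1
    exact absurd h1 (not_le.mpr (lt_self_pow₀ hpr.one_lt (by norm_num)))
  obtain ⟨A0, hA0, hzA0, hbA0, hsp0⟩ :=
    exists_pair (hexp' z hzP) (hexp' b1 hb1) (hzc b1 hb1) hz1 hb1z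
  have hA0P : A0 ≤ (P : Subgroup G) := fun y hy => by
    obtain ⟨x, rfl⟩ := hsp0 y hy
    exact mul_mem (pw_mem hzP _) (pw_mem hb1 _)
  obtain ⟨b2, hb2, hb2A⟩ : ∃ b ∈ (P : Subgroup G), b ∉ A0 := by
    by_contra hne
    push_neg at hne
    have h1 := Subgroup.card_le_of_le (H := (P : Subgroup G)) hne
    rw [show Nat.card (P : Subgroup G) = p ^ 3 from hcard, hA0] at h1
    exact absurd h1 (not_le.mpr (Nat.pow_lt_pow_right hpr.one_lt (by norm_num)))
  have hmem : ∀ t : ZMod p, b2 * pw b1 t ∈ (P : Subgroup G) := fun t =>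
    mul_mem hb2 (pw_mem hb1 _)
  have hnot : ∀ t : ZMod p, b2 * pw b1 t ∉ Subgroup.zpowers z := fun t hcon => by
    apply hb2A
    have := mul_mem (Subgroup.zpowers_le.mpr hzA0 hcon) (inv_mem (pw_mem hbA0 t))
    rwa [mul_inv_cancel_right] at this
  choose B hB hzB hbB hspB using fun t : ZMod p =>
    exists_pair (hexp' z hzP) (hexp' _ (hmem t)) (hzc _ (hmem t)) hz1 (hnot t)
  let A : Option (ZMod p) → Subgroup G := fun o => o.elim A0 B
  have hne0 : ∀ t, B t ≠ A0 := fun t e => hb2A (by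
    have := mul_mem (e ▸ hbB t) (inv_mem (pw_mem hbA0 t))
    rwa [mul_inv_cancel_right] at this)
  have hinj : Function.Injective A := by
    intro o o' e
    match o, o' with
    | none, none => rfl
    | none, some t => exact absurd e.symm (hne0 t)
    | some t, none => exact absurd e (hne0 t)
    | some t, some s =>
      change B t = B s at e
      by_contra hts
      have hts' : t - s ≠ 0 := sub_ne_zero.mpr fun h => hts (congrArg some h)
      have h1 : pw b1 (t - s) ∈ B t := by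
        have := mul_mem (inv_mem (e ▸ hbB s)) (hbB t)
        rw [mul_inv_rev, mul_assoc, inv_mul_cancel_left] at this
        have e2 : pw b1 t = pw b1 s * pw b1 (t - s) := by
          rw [← pw_add (hexp' b1 hb1), add_sub_cancel]
        rwa [e2, inv_mul_cancel_left] at this
      have hb1B : b1 ∈ B t := mem_of_pw (hexp' b1 hb1) hts' h1
      apply hne0 t
      refine (Subgroup.eq_of_le_of_card_ge (fun y hy => ?_) (by rw [hB, hA0])).symm
      obtain ⟨x, rfl⟩ := hsp0 y hy
      exact mul_mem (pw_mem (hzB t) _) (pw_mem hb1B _)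
  have hAP : ∀ o, A o ≤ (P : Subgroup G) := fun o => by
    match o with
    | none => exact hA0P
    | some t =>
      intro y hy
      obtain ⟨x, rfl⟩ := hspB t y hy
      exact mul_mem (pw_mem hzP _) (pw_mem (hmem t) _)
  have hcA : ∀ o, Nat.card (A o) = p ^ 2 := fun o => by
    match o with
    | none => exact hA0
    | some t => exact hB t
  haveI : NeZero p := ⟨hpr.ne_zero⟩
  have hι : Fintype.card (Option (ZMod p)) = p + 1 := by rw [Fintype.card_option, ZMod.card]
  obtain ⟨h12, m, hm0, hm5, hm⟩ := ExtraspecialAutomizer.bound P hp hE hcard hexp' A hinj hAP hcA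
    (fun i z' a h => exists_low P hE hconj h) (by omega) h11
  have hp11 : p = 11 := by omega
  subst hp11
  interval_cases m <;> omega

end Cfsg.Agent.S3055
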