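import Cfsg.Statements.S3057
import Cfsg.Agent.Lib.StrongPEmb
import Cfsg.Agent.Lib.CoprimeGen
import Cfsg.Agent.Lib.PGroupsCyclic
import Cfsg.Agent.Lib.HallSolvable
-- import your own Cfsg.Agent.* helpers here

set_option autoImplicit false
open Cfsg

namespace Cfsg.Agent.S3057

/-- Let p be a prime and G a finite p-solvable group of order divisible by p, with Sylow p-subgroup P. Then the Sylow p-subgroups of G fail to be chain-connected through nontrivial intersections (equivalently, G has a strongly p-embedded subgroup) if and only if O_p(G) = 1 and P is cyclic or, for p = 2, generalized quaternion. -/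
theorem result {G : Type*} [Group G] [Finite G]
    (p : ℕ) [Fact p.Prime] (hdiv : p ∣ Nat.card G) (hsol : Cfsg.IsPSolvable p G) (P : Sylow p G) :
    ¬ Cfsg.IsSylowChainConnected p G ↔
      Cfsg.pCore p G = ⊥ ∧ (IsCyclic ↥P ∨ (p = 2 ∧ ∃ n : ℕ, Nonempty (↥P ≃* QuaternionGroup (2 ^ n)))) := by
  have hp : p.Prime := Fact.out
  have hne : ∀ {x : G}, orderOf x = p → x ≠ 1 := fun {x} h h1 => by
    rw [h1, orderOf_one] at h; exact hp.one_lt.ne h
  constructor
  · intro hdis
    obtain ⟨H, hH, hpH, hse⟩ := Cfsg.Agent.StrongPEmb.exists_of_not_chainConnected hdis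
    have hOp : Cfsg.pCore p G = ⊥ := by
      by_contra hne0
      apply hdis
      rw [Cfsg.Agent.StrongPEmb.chainConnected_iff]
      intro S T
      refine Relation.ReflTransGen.single fun hbot => hne0 (le_bot_iff.mp (hbot ▸ le_inf ?_ ?_))
      · exact Cfsg.Agent.HallCore.pCore_le_sylow S
      · exact Cfsg.Agent.HallCore.pCore_le_sylow T
    refine ⟨hOp, Cfsg.Agent.PGroupsCyclic.isCyclic_or_quaternion P.2 ?_⟩
    by_contra hnu
    push Not at hnu
    obtain ⟨K, L, hK, hL, hKL⟩ := hnu
    obtain ⟨S, hS⟩ := Cfsg.Agent.StrongPEmb.exists_sylow_le hse hpH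
    have hPnt : Nontrivial ↥(P : Subgroup G) :=
      (Subgroup.nontrivial_iff_ne_bot _).mpr (P.ne_bot_of_dvd_card hdiv)
    obtain ⟨z, hzc, hzo⟩ : ∃ z ∈ Subgroup.center ↥(P : Subgroup G), orderOf z = p :=
      Cfsg.Agent.PGroupsBasic.exists_orderOf_eq_of_ne_bot (P.2.to_subgroup _)
        ((Subgroup.nontrivial_iff_ne_bot _).mp P.2.center_nontrivial)
    obtain ⟨x, hxo, hxz⟩ : ∃ x : ↥(P : Subgroup G), orderOf x = p ∧ x ∉ Subgroup.zpowers z := by
      by_contra h
      push Not at h
      have key : ∀ K : Subgroup ↥(P : Subgroup G), Nat.card K = p → K = Subgroup.zpowers z := by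
        intro K hK
        refine Subgroup.eq_of_le_of_card_ge (fun x hx => ?_) (by rw [Nat.card_zpowers, hzo, hK])
        by_cases hx1 : x = 1
        · exact hx1 ▸ one_mem _
        · exact h x (orderOf_eq_prime (Cfsg.Agent.PGroupsBasic.pow_eq_one_of_card hK hx) hx1)
      exact hKL ((key K hK).trans (key L hL).symm)
    obtain ⟨g, hg⟩ := MulAction.exists_smul_eq G P S
    set f : ↥(P : Subgroup G) →* G :=
      (MulAut.conj g).toMonoidHom.comp (P : Subgroup G).subtype with hf
    have hfinj : Function.Injective f := (MulAut.conj g).injective.comp Subtype.coe_injective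
    have hfS : ∀ u, f u ∈ (S : Subgroup G) := by
      intro u
      rw [← hg, Sylow.coe_subgroup_smul]
      exact ⟨u, u.2, rfl⟩
    set a := f x with ha
    set b := f z with hb
    have hbo : orderOf b = p := (orderOf_injective f hfinj z).trans hzo
    have hao : orderOf a = p := (orderOf_injective f hfinj x).trans hxo
    have hab : Commute a b :=
      ((show Commute x z from Subgroup.mem_center_iff.mp hzc x).map f)
    set N := Cfsg.pPrimeCore p G with hN
    have hpN : ¬ p ∣ Nat.card N := Cfsg.Agent.HallCore.not_dvd_card_pPrimeCore p G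
    have hpair : Cfsg.Agent.CoprimeGen.IsPairAction p a b N :=
      { comm := hab
        pow_left := hao ▸ pow_orderOf_eq_one a
        pow_right := hbo ▸ pow_orderOf_eq_one b
        right_ne := hne hbo
        left_not_mem := fun h => by
          obtain ⟨k, hk⟩ := Subgroup.mem_zpowers_iff.mp h
          rw [← map_zpow] at hk
          exact hxz (hfinj hk ▸ zpow_mem (Subgroup.mem_zpowers z) k)
        mem_left := by rw [Subgroup.normalizer_eq_top]; trivial
        mem_right := by rw [Subgroup.normalizer_eq_top]; trivial }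
    have hNH : N ≤ H := Cfsg.Agent.CoprimeGen.le_of_pair_centralizers hpair hpN fun e he he1 => by
      have heS : e ∈ (S : Subgroup G) := Cfsg.Agent.CoprimeGen.pairSubgroup_le (hfS x) (hfS z) he
      exact inf_le_right.trans (Cfsg.Agent.StrongPEmb.centralizer_le hse he1 (hS heS) ⟨S, S.2, heS⟩)
    set M := Cfsg.pPrimePCore p G with hM
    have hpM : p ∣ Nat.card M := by
      obtain ⟨k, hk⟩ := Cfsg.Agent.HallCore.relIndex_pPrimePCore p G
      cases k with
      | zero =>
        exfalso
        rw [pow_zero, Subgroup.relIndex_eq_one] at hk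
        have h1 : Cfsg.pCore p (G ⧸ N) = ⊥ := by
          rw [← Cfsg.Agent.HallCore.map_pPrimePCore, ← le_bot_iff, ← QuotientGroup.map_mk'_self N]
          exact Subgroup.map_mono hk
        have h2 := Cfsg.Agent.HallSolvable.centralizer_pCore_le
          (Cfsg.Agent.HallSolvable.isPSolvable_quotient hsol N)
          (Cfsg.Agent.HallCore.pPrimeCore_quotient_self p G)
        rw [h1] at h2
        have htop : Subgroup.centralizer ((⊥ : Subgroup (G ⧸ N)) : Set (G ⧸ N)) = ⊤ :=
          eq_top_iff.mpr fun u _ => Subgroup.mem_centralizer_iff.mpr fun w hw => by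
            rw [Subgroup.mem_bot.mp hw, one_mul, mul_one]
        rw [htop, top_le_iff] at h2
        have h3 : N = ⊤ := by
          rw [eq_top_iff]
          intro u _
          rw [← QuotientGroup.eq_one_iff]
          exact Subgroup.mem_bot.mp (h2 ▸ Subgroup.mem_top _)
        exact hpN (h3 ▸ (Subgroup.card_top (G := G)).symm ▸ hdiv)
      | succ k =>
        have h1 : p ∣ N.relIndex M := hk ▸ dvd_pow_self p k.succ_ne_zero
        exact h1.trans (Subgroup.index_dvd_card _ |>.trans dvd_rfl)
    have hMn : M.Normal := Cfsg.Agent.HallCore.pPrimePCore_normal p G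
    have hsy : ¬ p ∣ ((S : Subgroup G).subgroupOf M).index :=
      Cfsg.Agent.StrongPEmb.not_dvd_relIndex_sylow S M
    let Q : Sylow p ↥M := IsPGroup.toSylow S.2.comap_subtype hsy
    have hQH : (Q : Subgroup ↥M).map M.subtype ≤ H :=
      (Subgroup.map_comap_le M.subtype (S : Subgroup G)).trans hS
    have hQ1 : (Q : Subgroup ↥M).map M.subtype ≠ ⊥ := fun h =>
      Q.ne_bot_of_dvd_card hpM ((Subgroup.map_eq_bot_iff_of_injective _ M.subtype_injective).mp h)
    have hMH : M ≤ H := by
      have h1 : H.relIndex M ∣ N.relIndex M := Subgroup.relIndex_dvd_of_le_left M hNH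
      have h2 : H.relIndex M ∣ (S : Subgroup G).relIndex M := Subgroup.relIndex_dvd_of_le_left M hS
      obtain ⟨k, hk⟩ := Cfsg.Agent.HallCore.relIndex_pPrimePCore p G
      rw [hk] at h1
      exact Subgroup.relIndex_eq_one.mp (Nat.eq_one_of_dvd_coprimes
        (Nat.Coprime.pow_left k (hp.coprime_iff_not_dvd.mpr hsy)) h1 h2)
    have h1 := Cfsg.Agent.StrongPEmb.normalizer_le hse (Q.2.map M.subtype) hQ1 hQH
    exact hH (top_le_iff.mp ((Sylow.normalizer_sup_eq_top Q).ge.trans (sup_le h1 hMH)))
  · rintro ⟨hOp, hP⟩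
    have huniq : ∀ u v : ↥(P : Subgroup G), orderOf u = p → v ^ p = 1 → v ∈ Subgroup.zpowers u := by
      rcases hP with hc | ⟨rfl, n, ⟨e⟩⟩
      · intro u v hu hv
        by_cases hv1 : v = 1
        · exact hv1 ▸ one_mem _
        have htc : IsCyclic ↥(⊤ : Subgroup ↥(P : Subgroup G)) :=
          isCyclic_of_surjective Subgroup.topEquiv.symm Subgroup.topEquiv.symm.surjective
        rw [Cfsg.Agent.PGroupsCyclic.eq_of_card_eq_of_isCyclic htc (H := Subgroup.zpowers u)
          (K := Subgroup.zpowers v) le_top le_top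
          (by rw [Nat.card_zpowers, Nat.card_zpowers, hu, orderOf_eq_prime hv hv1])]
        exact Subgroup.mem_zpowers v
      · have key : ∀ w : QuaternionGroup (2 ^ n), w ^ 2 = 1 →
            w = 1 ∨ w = QuaternionGroup.a ((2 ^ n : ℕ) : ZMod (2 * 2 ^ n)) := by
          intro w hw
          rcases w with i | i
          · rw [sq, QuaternionGroup.a_mul_a, ← QuaternionGroup.a_zero] at hw
            have hi : i + i = 0 := by injection hw
            rw [← two_mul] at hi
            have h2 : ((2 * i.val : ℕ) : ZMod (2 * 2 ^ n)) = 0 := by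
              rw [Nat.cast_mul, ZMod.natCast_zmod_val]; exact_mod_cast hi
            rw [ZMod.natCast_eq_zero_iff] at h2
            have h3 : 2 ^ n ∣ i.val := Nat.dvd_of_mul_dvd_mul_left (by norm_num) h2
            have h4 : i.val < 2 * 2 ^ n := ZMod.val_lt i
            obtain ⟨c, hc⟩ := h3
            have h5 : c < 2 := by
              by_contra h
              push Not at h
              nlinarith [Nat.two_pow_pos n]
            interval_cases c
            · left
              rw [mul_zero, ZMod.val_eq_zero] at hc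
              rw [hc, QuaternionGroup.a_zero]
            · right
              rw [mul_one] at hc
              exact congrArg QuaternionGroup.a ((ZMod.natCast_zmod_val i).symm.trans (congrArg Nat.cast hc))
          · exfalso
            rw [QuaternionGroup.xa_sq, ← QuaternionGroup.a_zero] at hw
            have h1 : ((2 ^ n : ℕ) : ZMod (2 * 2 ^ n)) = 0 := by injection hw
            rw [ZMod.natCast_eq_zero_iff] at h1
            have := Nat.le_of_dvd (Nat.two_pow_pos n) h1
            have := Nat.two_pow_pos n
            omega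
        intro u v hu hv
        have hu1 : e u ≠ 1 := fun h => by
          rw [e.injective (h.trans (map_one e).symm)] at hu
          simp at hu
        have hu2 : e u ^ 2 = 1 := by
          rw [← map_pow, orderOf_dvd_iff_pow_eq_one.mp hu.dvd, map_one]
        have hv2 : e v ^ 2 = 1 := by rw [← map_pow, hv, map_one]
        rcases key _ hv2 with h | h
        · rw [e.injective (h.trans (map_one e).symm)]; exact one_mem _
        · rw [e.injective (h.trans ((key _ hu2).resolve_left hu1).symm)]; exact Subgroup.mem_zpowers u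
    obtain ⟨⟨z, hzP⟩, hzo⟩ := exists_prime_orderOf_dvd_card' p (P.dvd_card_of_dvd_card hdiv)
    rw [Subgroup.orderOf_mk] at hzo
    set Z0 := Subgroup.zpowers z with hZ0
    set H := Subgroup.normalizer (Z0 : Set G) with hHdef
    have hZ0P : IsPGroup p ↥Z0 := P.2.to_le (Subgroup.zpowers_le.mpr hzP)
    -- an element of order `p` normalizing `Z0` lies in it
    have key : ∀ x ∈ H, orderOf x = p → x ∈ Z0 := by
      intro x hx hxo
      have hX : IsPGroup p ↥(Subgroup.zpowers x) :=
        IsPGroup.of_card (n := 1) (by rw [Nat.card_zpowers, hxo, pow_one])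
      obtain ⟨T, hT⟩ := (hX.to_sup_of_normal_right' hZ0P
        (Subgroup.zpowers_le.mpr hx)).exists_le_sylow
      obtain ⟨g, rfl⟩ := MulAction.exists_smul_eq G P T
      have hxT := hT (Subgroup.mem_sup_left (Subgroup.mem_zpowers x))
      have hzT := hT (Subgroup.mem_sup_right (Subgroup.mem_zpowers z))
      rw [Sylow.coe_subgroup_smul] at hxT hzT
      obtain ⟨x', hx', rfl⟩ := hxT
      obtain ⟨z', hz', hzz'⟩ := hzT
      have hz'o : orderOf z' = p := by
        rw [← hzo, ← hzz']
        exact (orderOf_injective (MulAut.conj g).toMonoidHom (MulAut.conj g).injective z').symm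
      have hx'o : orderOf x' = p := by
        rw [← hxo]
        exact (orderOf_injective (MulAut.conj g).toMonoidHom (MulAut.conj g).injective x').symm
      obtain ⟨k, hk⟩ := Subgroup.mem_zpowers_iff.mp (huniq ⟨z', hz'⟩ ⟨x', hx'⟩
        (by rw [Subgroup.orderOf_mk]; exact hz'o) (Subtype.ext (by simpa [hx'o] using pow_orderOf_eq_one x')))
      refine Subgroup.mem_zpowers_iff.mpr ⟨k, ?_⟩
      rw [← hzz']
      exact ((map_zpow _ z' k).symm.trans (congrArg _ (congrArg Subtype.val hk)))
    have hHne : H ≠ ⊤ := by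
      intro htop
      have hn : Z0.Normal := Subgroup.normalizer_eq_top_iff.mp htop
      have h := Cfsg.Agent.HallCore.le_pCore (hN := hn) hZ0P
      rw [hOp] at h
      exact hne hzo (Subgroup.mem_bot.mp (h (Subgroup.mem_zpowers z)))
    have hpH : p ∣ Nat.card H :=
      hzo ▸ Subgroup.orderOf_dvd_natCard H (Subgroup.le_normalizer (Subgroup.mem_zpowers z))
    refine Cfsg.Agent.StrongPEmb.not_chainConnected hHne hpH fun g hg hdvd => hg ?_
    obtain ⟨⟨x, hmx⟩, hx⟩ := exists_prime_orderOf_dvd_card' p hdvd
    rw [Subgroup.orderOf_mk] at hx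
    obtain ⟨hxH, y, hyH, hyx⟩ := hmx
    have hyo : orderOf y = p := by
      rw [← hx, ← hyx]
      exact (orderOf_injective (MulAut.conj g).toMonoidHom (MulAut.conj g).injective y).symm
    have hyZ := key y hyH hyo
    have hxZ := key x hxH hx
    have hy0 : Subgroup.zpowers y = Z0 := Subgroup.eq_of_le_of_card_ge (Subgroup.zpowers_le.mpr hyZ)
      (by rw [Nat.card_zpowers, Nat.card_zpowers, hyo, hzo])
    have hx0 : Subgroup.zpowers x = Z0 := Subgroup.eq_of_le_of_card_ge (Subgroup.zpowers_le.mpr hxZ)
      (by rw [Nat.card_zpowers, Nat.card_zpowers, hx, hzo])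
    refine Cfsg.Agent.CoprimeAction.mem_normalizer_of_conj_smul_eq ?_
    show Z0.map (MulAut.conj g).toMonoidHom = Z0
    conv_lhs => rw [← hy0, MonoidHom.map_zpowers]
    rw [hyx, hx0]

end Cfsg.Agent.S3057
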