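import Cfsg.Statements.S3058
import Cfsg.Agent.Lib.StrongPEmb
import Cfsg.Agent.Lib.CoprimeGen
-- import your own Cfsg.Agent.* helpers here

set_option autoImplicit false
open Cfsg

namespace Cfsg.Agent.S3058

/-- Let p be a prime and G a finite group whose Sylow p-subgroups are not chain-connected through nontrivial intersections (so G has a strongly p-embedded subgroup). If N and M are normal subgroups of G whose orders are both divisible by p, then the order of N ∩ M is divisible by p. Consequently, among the normal subgroups of G whose order is divisible by p there is a smallest one (the intersection of all of them). -/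
theorem result {G : Type*} [Group G] [Finite G]
    (p : ℕ) [Fact p.Prime] (hG : ¬ Cfsg.IsSylowChainConnected p G)
    (N M : Subgroup G) [N.Normal] [M.Normal] (hN : p ∣ Nat.card N) (hM : p ∣ Nat.card M) :
    p ∣ Nat.card ↥(N ⊓ M) := by
  have hp : p.Prime := Fact.out
  obtain ⟨H, hH, hpH, hse⟩ := Cfsg.Agent.StrongPEmb.exists_of_not_chainConnected hG
  obtain ⟨S, hS⟩ := Cfsg.Agent.StrongPEmb.exists_sylow_le hse hpH
  by_contra hD
  have pick : ∀ K : Subgroup G, K.Normal → p ∣ Nat.card K → ∃ x ∈ K, x ∈ (S : Subgroup G) ∧ orderOf x = p := by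
    intro K hK hpK
    obtain ⟨⟨x, hx⟩, hxo⟩ := exists_prime_orderOf_dvd_card' p hpK
    rw [Subgroup.orderOf_mk] at hxo
    have hzp : IsPGroup p ↥(Subgroup.zpowers x) :=
      IsPGroup.of_card (n := 1) (by rw [Nat.card_zpowers, pow_one, hxo])
    obtain ⟨T, hT⟩ := hzp.exists_le_sylow
    obtain ⟨g, rfl⟩ := MulAction.exists_smul_eq G S T
    have hxT := hT (Subgroup.mem_zpowers x)
    rw [Sylow.coe_subgroup_smul] at hxT
    obtain ⟨y, hy, rfl⟩ := hxT
    refine ⟨y, ?_, hy, ?_⟩
    · have := hK.conj_mem _ hx g⁻¹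
      simpa [mul_assoc] using this
    · rw [← hxo]
      exact (orderOf_injective (MulAut.conj g).toMonoidHom (MulAut.conj g).injective y).symm
  obtain ⟨q, hqN, hqS, hqo⟩ := pick N inferInstance hN
  obtain ⟨r, hrM, hrS, hro⟩ := pick M inferInstance hM
  have hne : ∀ {x : G}, orderOf x = p → x ≠ 1 := fun {x} h h1 => by
    rw [h1, orderOf_one] at h; exact hp.one_lt.ne h
  have hbot : ∀ x ∈ (S : Subgroup G), x ∈ N ⊓ M → x = 1 := by
    intro x hxS hxD
    by_contra hx1
    exact hD (Cfsg.Agent.StrongPEmb.dvd_card_of_mem hx1 hxD S.2 hxS)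
  have hqr : Commute q r := by
    have : q * r * q⁻¹ * r⁻¹ = 1 := hbot _
      (mul_mem (mul_mem (mul_mem hqS hrS) (inv_mem hqS)) (inv_mem hrS))
      ⟨by
        have := N.mul_mem hqN (Subgroup.Normal.conj_mem inferInstance _ (N.inv_mem hqN) r)
        simpa [mul_assoc] using this,
       by
        have := M.mul_mem (Subgroup.Normal.conj_mem inferInstance _ hrM q) (M.inv_mem hrM)
        simpa [mul_assoc] using this⟩
    exact mul_inv_eq_iff_eq_mul.mp (mul_inv_eq_one.mp this)
  have hrN : ∀ n ∈ N, n * r * n⁻¹ * r⁻¹ ∈ N ⊓ M := fun n hn =>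
    ⟨by
      have := N.mul_mem hn (Subgroup.Normal.conj_mem inferInstance _ (N.inv_mem hn) r)
      simpa [mul_assoc] using this,
     by
      exact M.mul_mem (Subgroup.Normal.conj_mem inferInstance _ hrM n) (M.inv_mem hrM)⟩
  have hpair : Cfsg.Agent.CoprimeGen.IsPairAction p q r (N ⊓ M) :=
    { comm := hqr
      pow_left := hqo ▸ pow_orderOf_eq_one q
      pow_right := hro ▸ pow_orderOf_eq_one r
      right_ne := hne hro
      left_not_mem := fun h => hne hqo (hbot q hqS ⟨hqN, (Subgroup.zpowers_le.mpr hrM) h⟩)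
      mem_left := by rw [Subgroup.normalizer_eq_top]; trivial
      mem_right := by rw [Subgroup.normalizer_eq_top]; trivial }
  have hDH : N ⊓ M ≤ H := by
    refine Cfsg.Agent.CoprimeGen.le_of_pair_centralizers hpair hD fun e he he1 => ?_
    have heS : e ∈ (S : Subgroup G) := Cfsg.Agent.CoprimeGen.pairSubgroup_le hqS hrS he
    exact inf_le_right.trans (Cfsg.Agent.StrongPEmb.centralizer_le hse he1 (hS heS) ⟨S, S.2, heS⟩)
  have hNH : N ≤ H := by
    intro n hn
    by_contra hnH
    have hxH : n * r * n⁻¹ ∈ H := by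
      have := H.mul_mem (hDH (hrN n hn)) (hS hrS)
      rwa [inv_mul_cancel_right] at this
    refine hse n hnH ?_
    have h := Subgroup.orderOf_dvd_natCard (H ⊓ H.map (MulAut.conj n).toMonoidHom)
      (x := (MulAut.conj n).toMonoidHom r) ⟨by simpa using hxH, ⟨r, hS hrS, rfl⟩⟩
    rwa [orderOf_injective (MulAut.conj n).toMonoidHom (MulAut.conj n).injective r, hro] at h
  obtain ⟨Q⟩ := (inferInstance : Nonempty (Sylow p ↥N))
  have hQ1 : (Q : Subgroup ↥N).map N.subtype ≠ ⊥ := fun h =>
    Q.ne_bot_of_dvd_card hN ((Subgroup.map_eq_bot_iff_of_injective _ N.subtype_injective).mp h)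
  have h1 := Cfsg.Agent.StrongPEmb.normalizer_le hse (Q.2.map N.subtype) hQ1
    ((Subgroup.map_subtype_le _).trans hNH)
  exact hH (top_le_iff.mp ((Sylow.normalizer_sup_eq_top Q).ge.trans (sup_le h1 hNH)))

end Cfsg.Agent.S3058
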