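import Cfsg.Statements.S3059
import Cfsg.Agent.Lib.StrongPEmb
import Cfsg.Agent.Lib.TransferPResidual
-- import your own Cfsg.Agent.* helpers here

set_option autoImplicit false
open Cfsg

namespace Cfsg.Agent.S3059

/-- Let p be a prime and H a strongly p-embedded subgroup of the finite group G in the classical sense: H is proper, p divides the order of H, and H ∩ gHg⁻¹ has order prime to p for every g outside H. Then for every normal subgroup N of G of order divisible by p, G = H · O^p(N), where O^p(N) is the subgroup generated by the elements of N of order prime to p. -/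
theorem result {G : Type*} [Group G] [Finite G]
    (p : ℕ) [Fact p.Prime] (H : Subgroup G) (hH : H ≠ ⊤) (hpH : p ∣ Nat.card H)
    (hse : ∀ g : G, g ∉ H → ¬ p ∣ Nat.card ↥(H ⊓ H.map (MulAut.conj g).toMonoidHom))
    (N : Subgroup G) [N.Normal] (hN : p ∣ Nat.card N) :
    H ⊔ Subgroup.closure {g : G | g ∈ N ∧ (orderOf g).Coprime p} = ⊤ := by
  obtain ⟨S, hS⟩ := Cfsg.Agent.StrongPEmb.exists_sylow_le hse hpH
  set K := Subgroup.closure {g : G | g ∈ N ∧ (orderOf g).Coprime p} with hK
  -- a Sylow subgroup of `N` inside `H`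
  obtain ⟨Q', hQ'⟩ : ∃ Q' : Sylow p ↥N, (Q' : Subgroup ↥N).map N.subtype ≤ H := by
    have hsy : ¬ p ∣ ((S : Subgroup G).subgroupOf N).index :=
      Cfsg.Agent.StrongPEmb.not_dvd_relIndex_sylow S N
    exact ⟨IsPGroup.toSylow (S.2.comap_subtype) hsy,
      (Subgroup.map_comap_le N.subtype (S : Subgroup G)).trans hS⟩
  have hQ'1 : (Q' : Subgroup ↥N).map N.subtype ≠ ⊥ := fun h =>
    Q'.ne_bot_of_dvd_card hN ((Subgroup.map_eq_bot_iff_of_injective _ N.subtype_injective).mp h)
  have h1 := Cfsg.Agent.StrongPEmb.normalizer_le hse (Q'.2.map N.subtype) hQ'1 hQ'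
  have h2 := Sylow.normalizer_sup_eq_top Q'
  have h3 : N ≤ H ⊔ K := by
    have h4 := congrArg (Subgroup.map N.subtype) (Cfsg.Agent.TransferPResidual.sylow_sup_pResidual Q')
    rw [Subgroup.map_sup, ← MonoidHom.range_eq_map, Subgroup.range_subtype] at h4
    calc N = _ := h4.symm
      _ ≤ H ⊔ K := sup_le_sup hQ' ?_
    rw [Cfsg.pResidual, MonoidHom.map_closure]
    apply Subgroup.closure_mono
    rintro _ ⟨x, hx, rfl⟩
    exact ⟨x.2, by rw [Subgroup.coe_subtype, Subgroup.orderOf_coe]; exact hx⟩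
  rw [eq_top_iff, ← h2]
  exact sup_le (h1.trans le_sup_left) h3

end Cfsg.Agent.S3059
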