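import Cfsg.Statements.S3062
import Cfsg.Agent.Lib.DStarBasic
import Cfsg.Agent.Lib.ThompsonReplacement
-- import your own Cfsg.Agent.* helpers here

set_option autoImplicit false
open Cfsg

namespace Cfsg.Agent.S3062

/-- Let S be a finite p-group, J(S) the subgroup generated by the abelian subgroups of S of largest order and Z(J(S)) its centre. Then Z(S) ≤ D*(S) ≤ Z(J(S)), and every maximal normal abelian subgroup of S contains D*(S). -/
theorem result {S : Type*} [Group S] [Finite S] {p : ℕ} [Fact p.Prime]
    (hS : IsPGroup p S) :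
    Subgroup.center S ≤ Cfsg.dStar S ∧
    Cfsg.dStar S ≤ Cfsg.thompsonSubgroupA S ⊓ Subgroup.centralizer (Cfsg.thompsonSubgroupA S : Set S) ∧
    ∀ A : Subgroup S, A.Normal → IsMulCommutative A →
      (∀ B : Subgroup S, B.Normal → IsMulCommutative B → A ≤ B → B = A) → Cfsg.dStar S ≤ A := by
  have := hS.isNilpotent
  have hmem := Cfsg.Agent.DStarBasic.dStar_mem hS
  have hDn : (Cfsg.dStar S).Normal := Cfsg.Agent.DStarBasic.dStar_normal
  set D := Cfsg.dStar S with hD
  -- every abelian subgroup of largest order centralizes `D`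
  have key : ∀ B ∈ Cfsg.maxAbelianSubgroups S, D ≤ Subgroup.centralizer (B : Set S) := by
    suffices h : ∀ n, ∀ B ∈ Cfsg.maxAbelianSubgroups S, Nat.card S - Nat.card ↥(D ⊓ B) = n →
        D ≤ Subgroup.centralizer (B : Set S) from fun B hB => h _ B hB rfl
    intro n
    induction n using Nat.strong_induction_on with
    | _ n ih =>
      intro B hB hn
      by_cases hDN : D ≤ Subgroup.normalizer (B : Set S)
      · intro d hd
        rw [Subgroup.mem_centralizer_iff]
        intro b hb
        refine (hmem.2 b (Cfsg.Agent.DStarBasic.class_two_of_generators hmem.1 ?_ ?_) d hd).symm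
        all_goals
          intro a ha
          have hcD : a * b * a⁻¹ * b⁻¹ ∈ D := by
            have := D.mul_mem ha (hDn.conj_mem a⁻¹ (D.inv_mem ha) b)
            simpa [mul_assoc] using this
          have hcB : a * b * a⁻¹ * b⁻¹ ∈ B :=
            B.mul_mem ((Subgroup.mem_normalizer_iff.mp (hDN ha) b).mp hb) (B.inv_mem hb)
        · intro c hc
          exact congrArg Subtype.val (hmem.1.is_comm.comm (⟨_, hcD⟩ : D) ⟨c, hc⟩)
        · exact congrArg Subtype.val (hB.1.is_comm.comm (⟨_, hcB⟩ : B) ⟨b, hb⟩)
      · exfalso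
        obtain ⟨B', hB'c, hcard, hlt, hB'N, -, -⟩ := Cfsg.Agent.ThompsonReplacement.replacement
          hB.1 hmem.1 (fun b _ => by rw [Subgroup.normalizer_eq_top]; trivial) hDN
        have hB' : B' ∈ Cfsg.maxAbelianSubgroups S :=
          ⟨hB'c, fun C hC => (hB.2 C hC).trans hcard⟩
        have hlt' : Nat.card ↥(D ⊓ B) < Nat.card ↥(D ⊓ B') := by
          refine lt_of_not_ge fun hge => hlt.ne (Subgroup.eq_of_le_of_card_ge hlt.le hge)
        have hle : Nat.card ↥(D ⊓ B') ≤ Nat.card S := Subgroup.card_le_card_group _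
        have hC := ih _ (by omega) B' hB' rfl
        refine hDN (le_trans ?_ hB'N)
        -- a maximal abelian subgroup contains what centralizes it
        intro d hd
        have hcl : IsMulCommutative ↥(Subgroup.closure ((B' : Set S) ∪ {d})) := by
          refine Subgroup.isMulCommutative_closure ?_
          rintro u (hu | rfl) v (hv | rfl)
          · exact congrArg Subtype.val (hB'c.is_comm.comm (⟨u, hu⟩ : B') ⟨v, hv⟩)
          · exact Subgroup.mem_centralizer_iff.mp (hC hd) u hu
          · exact (Subgroup.mem_centralizer_iff.mp (hC hd) v hv).symm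
          · rfl
        have h1 : B' ≤ Subgroup.closure ((B' : Set S) ∪ {d}) := fun y hy =>
          Subgroup.subset_closure (Or.inl hy)
        rw [Subgroup.eq_of_le_of_card_ge h1 (hB'.2 _ hcl)]
        exact Subgroup.subset_closure (Or.inr rfl)
  refine ⟨Cfsg.Agent.DStarBasic.center_le_dStar, ?_, fun A hAn hAc hAmax => ?_⟩
  · have hDC : D ≤ Subgroup.centralizer (Cfsg.thompsonSubgroupA S : Set S) := by
      rw [Subgroup.le_centralizer_iff]
      exact sSup_le fun B hB => Subgroup.le_centralizer_iff.mp (key B hB)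
    refine le_inf (fun d hd => ?_) hDC
    obtain ⟨B, hB, hBmax⟩ := Set.exists_max_image {C : Subgroup S | IsMulCommutative C}
      (fun C => Nat.card C) (Set.toFinite _) ⟨⊥, inferInstanceAs (IsMulCommutative (⊥ : Subgroup S))⟩
    have hBm : B ∈ Cfsg.maxAbelianSubgroups S := ⟨hB, fun C hC => hBmax C hC⟩
    have hcl : IsMulCommutative ↥(Subgroup.closure ((B : Set S) ∪ {d})) := by
      refine Subgroup.isMulCommutative_closure ?_
      rintro u (hu | rfl) v (hv | rfl)
      · exact congrArg Subtype.val (hBm.1.is_comm.comm (⟨u, hu⟩ : B) ⟨v, hv⟩)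
      · exact Subgroup.mem_centralizer_iff.mp (key B hBm hd) u hu
      · exact (Subgroup.mem_centralizer_iff.mp (key B hBm hd) v hv).symm
      · rfl
    have h1 : B ≤ Subgroup.closure ((B : Set S) ∪ {d}) := fun y hy => Subgroup.subset_closure (Or.inl hy)
    have h2 : d ∈ B := by
      rw [Subgroup.eq_of_le_of_card_ge h1 (hBm.2 _ hcl)]
      exact Subgroup.subset_closure (Or.inr rfl)
    exact (le_sSup hBm : B ≤ Cfsg.thompsonSubgroupA S) h2
  · exact Cfsg.Agent.DStarBasic.dStar_le_of_centralizer_le hAc
      (Cfsg.Agent.DStarBasic.centralizer_le_of_maximal hAc hAmax)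

end Cfsg.Agent.S3062
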