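import Cfsg.Statements.S3063
import Mathlib

set_option autoImplicit false
set_option linter.all false
open Cfsg

namespace Cfsg.Agent.S3063

open scoped commutatorElement

variable {S : Type*} [Group S] [Finite S]

/-- Replacement: with `S'` abelian, `[x, A] C_A([x, A])` is again abelian of largest order. -/
theorem replace (hmeta : IsMulCommutative ↥(commutator S)) {A : Subgroup S}
    (hA : A ∈ Cfsg.maxAbelianSubgroups S) (x : S) :
    ∃ B ∈ Cfsg.maxAbelianSubgroups S, B ≤ Subgroup.normalClosure (A : Set S) ∧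
      A ⊓ commutator S ≤ B ∧ ∀ a ∈ A, ⁅x, a⁆ ∈ B := by
  classical
  obtain ⟨hAc, hAmax⟩ := hA
  have hac : ∀ a ∈ A, ∀ b ∈ A, a * b = b * a := fun a ha b hb =>
    congrArg Subtype.val (hAc.is_comm.comm (⟨a, ha⟩ : A) ⟨b, hb⟩)
  have hdc : ∀ a ∈ commutator S, ∀ b ∈ commutator S, a * b = b * a := fun a ha b hb =>
    congrArg Subtype.val (hmeta.is_comm.comm (⟨a, ha⟩ : commutator S) ⟨b, hb⟩)
  set M : Subgroup S := Subgroup.closure ((fun a => ⁅x, a⁆) '' (A : Set S)) with hM
  have hcomm : ∀ u v : S, ⁅u, v⁆ ∈ commutator S := fun u v => by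
    rw [commutator_def]
    exact Subgroup.commutator_mem_commutator (Subgroup.mem_top _) (Subgroup.mem_top _)
  have hMd : M ≤ commutator S := by
    rw [hM, Subgroup.closure_le]
    rintro _ ⟨a, -, rfl⟩
    exact hcomm x a
  have hgen : ∀ a ∈ A, ⁅x, a⁆ ∈ M := fun a ha => Subgroup.subset_closure ⟨a, ha, rfl⟩
  set C : Subgroup S := A ⊓ Subgroup.centralizer (M : Set S) with hC
  set B : Subgroup S := M ⊔ C with hB
  have hBle : B ≤ Subgroup.centralizer (B : Set S) := by
    have h1 : M ≤ Subgroup.centralizer (M : Set S) := fun m hm =>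
      Subgroup.mem_centralizer_iff.mpr fun n hn => hdc n (hMd hn) m (hMd hm)
    have h2 : C ≤ Subgroup.centralizer (M : Set S) := inf_le_right
    have h3 : C ≤ Subgroup.centralizer (C : Set S) := fun c hc =>
      Subgroup.mem_centralizer_iff.mpr fun d hd => hac d hd.1 c hc.1
    have h4 : M ≤ Subgroup.centralizer (C : Set S) := Subgroup.le_centralizer_iff.mp h2
    rw [hB]
    refine sup_le ?_ ?_
    · rw [Subgroup.le_centralizer_iff]
      exact sup_le h1 h2
    · rw [Subgroup.le_centralizer_iff]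
      exact sup_le h4 h3
  have hBc : IsMulCommutative ↥B := ⟨⟨fun a b => Subtype.ext
    ((Subgroup.mem_centralizer_iff.mp (hBle b.2)) a a.2)⟩⟩
  -- the injection `A / C → M / (A ∩ M)`
  have key : ∀ a ∈ A, ∀ b ∈ A, ⁅x, a⁆⁻¹ * ⁅x, b⁆ ∈ A → a⁻¹ * b ∈ Subgroup.centralizer (M : Set S) := by
    intro a ha b hb h
    set c : S := a⁻¹ * b with hc
    have hcA : c ∈ A := A.mul_mem (A.inv_mem ha) hb
    have hu : ⁅x, c⁆ ∈ A := by
      have e : ⁅x, c⁆ = a⁻¹ * (⁅x, a⁆⁻¹ * ⁅x, b⁆) * a := by
        simp only [hc, commutatorElement_def]; group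
      rw [e]
      exact A.mul_mem (A.mul_mem (A.inv_mem ha) h) ha
    rw [Subgroup.mem_centralizer_iff]
    intro m hm
    suffices hle : M ≤ Subgroup.centralizer ({c} : Set S) from
      (Subgroup.mem_centralizer_singleton_iff.mp (hle hm))
    rw [hM, Subgroup.closure_le]
    rintro _ ⟨d, hd, rfl⟩
    rw [SetLike.mem_coe, Subgroup.mem_centralizer_singleton_iff]
    have e1 : Commute (x * c * x⁻¹) (x * d * x⁻¹) := by
      show _ = _
      calc (x * c * x⁻¹) * (x * d * x⁻¹) = x * (c * d) * x⁻¹ := by group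
        _ = x * (d * c) * x⁻¹ := by rw [hac c hcA d hd]
        _ = (x * d * x⁻¹) * (x * c * x⁻¹) := by group
    have e2 : Commute ⁅x, c⁆ (x * d * x⁻¹) := by
      have e : x * d * x⁻¹ = ⁅x, d⁆ * d := by simp only [commutatorElement_def]; group
      rw [e]
      exact Commute.mul_right (hdc _ (hcomm x c) _ (hcomm x d)) (hac _ hu d hd)
    have e3 : Commute c (x * d * x⁻¹) := by
      have e : c = ⁅x, c⁆⁻¹ * (x * c * x⁻¹) := by simp only [commutatorElement_def]; group
      rw [e]
      exact e2.inv_left.mul_left e1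
    have e4 : Commute c ⁅x, d⁆ := by
      have e : ⁅x, d⁆ = (x * d * x⁻¹) * d⁻¹ := by simp only [commutatorElement_def]
      rw [e]
      exact e3.mul_right (Commute.inv_right (hac c hcA d hd))
    exact e4.eq.symm
  have hcount : C.relIndex A ≤ (A ⊓ M).relIndex M := by
    let f : A ⧸ C.subgroupOf A → M ⧸ (A ⊓ M).subgroupOf M := fun q =>
      QuotientGroup.mk (⟨⁅x, (q.out : S)⁆, hgen _ q.out.2⟩ : M)
    refine Nat.card_le_card_of_injective f fun q r hqr => ?_
    simp only [f] at hqr
    rw [QuotientGroup.eq, Subgroup.mem_subgroupOf] at hqr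
    rw [← q.out_eq, ← r.out_eq]
    apply QuotientGroup.eq.mpr
    rw [Subgroup.mem_subgroupOf]
    exact ⟨A.mul_mem (A.inv_mem q.out.2) r.out.2, key _ q.out.2 _ r.out.2 hqr.1⟩
  have hAM : C.relIndex M = (A ⊓ M).relIndex M := by
    have : C ⊓ M = A ⊓ M := by
      refine le_antisymm (inf_le_inf_right _ inf_le_left) fun m hm => ⟨⟨hm.1, ?_⟩, hm.2⟩
      exact Subgroup.mem_centralizer_iff.mpr fun n hn => hdc n (hMd hn) m (hMd hm.2)
    rw [← this, Subgroup.inf_relIndex_right]
  have hcard : Nat.card A ≤ Nat.card B := by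
    have hCA : C ≤ A := inf_le_left
    have hCB : C ≤ B := le_sup_right
    rw [← Subgroup.relIndex_bot_left, ← Subgroup.relIndex_bot_left,
      ← Subgroup.relIndex_mul_relIndex ⊥ C A bot_le hCA,
      ← Subgroup.relIndex_mul_relIndex ⊥ C B bot_le hCB]
    refine Nat.mul_le_mul_left _ (hcount.trans ?_)
    rw [← hAM]
    exact Subgroup.relIndex_le_of_le_right le_sup_left Subgroup.index_ne_zero_of_finite
  refine ⟨B, ⟨hBc, fun B' hB' => (hAmax B' hB').trans hcard⟩, ?_, ?_, fun a ha =>
    Subgroup.mem_sup_left (hgen a ha)⟩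
  · refine sup_le ?_ (inf_le_left.trans Subgroup.le_normalClosure)
    rw [hM, Subgroup.closure_le]
    rintro _ ⟨a, ha, rfl⟩
    have h1 : a ∈ Subgroup.normalClosure (A : Set S) := Subgroup.le_normalClosure ha
    simp only [SetLike.mem_coe, commutatorElement_def]
    exact Subgroup.mul_mem _ (Subgroup.normalClosure_normal.conj_mem a h1 x) (Subgroup.inv_mem _ h1)
  · intro a ha
    refine Subgroup.mem_sup_right ⟨ha.1, Subgroup.mem_centralizer_iff.mpr fun n hn => ?_⟩
    exact hdc n (hMd hn) a ha.2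

/-- A weak replacement Theorem for metabelian p-groups: let S be a finite p-group whose derived subgroup is abelian and A an abelian subgroup of S of largest possible order. Then the normal closure of A in S contains an abelian subgroup B of the same order as A that is normal in S. -/
theorem result {S : Type*} [Group S] [Finite S] {p : ℕ} [Fact p.Prime]
    (hS : IsPGroup p S) (hmeta : IsMulCommutative ↥(commutator S))
    (A : Subgroup S) (hA : A ∈ Cfsg.maxAbelianSubgroups S) :
    ∃ B ∈ Cfsg.maxAbelianSubgroups S, B.Normal ∧ B ≤ Subgroup.normalClosure (A : Set S) := by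
  classical
  have : Nonempty {B : Subgroup S // B ∈ Cfsg.maxAbelianSubgroups S ∧
      B ≤ Subgroup.normalClosure (A : Set S)} := ⟨⟨A, hA, Subgroup.le_normalClosure⟩⟩
  obtain ⟨⟨B, hB, hBn⟩, hmax⟩ := Finite.exists_max
    (fun B : {B : Subgroup S // B ∈ Cfsg.maxAbelianSubgroups S ∧
      B ≤ Subgroup.normalClosure (A : Set S)} => Nat.card ↥(B.1 ⊓ commutator S))
  refine ⟨B, hB, ⟨fun b hb x => ?_⟩, hBn⟩
  obtain ⟨B', hB', hB'n, hle, hgen⟩ := replace hmeta hB x
  have hB'A : B' ≤ Subgroup.normalClosure (A : Set S) :=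
    hB'n.trans (Subgroup.normalClosure_le_normal hBn)
  have hle' : B ⊓ commutator S ≤ B' ⊓ commutator S := le_inf hle inf_le_right
  have heq : B ⊓ commutator S = B' ⊓ commutator S :=
    Subgroup.eq_of_le_of_card_ge hle' (hmax ⟨B', hB', hB'A⟩)
  have hc : ⁅x, b⁆ ∈ commutator S := by
    rw [commutator_def]
    exact Subgroup.commutator_mem_commutator (Subgroup.mem_top _) (Subgroup.mem_top _)
  have h1 : ⁅x, b⁆ ∈ B' ⊓ commutator S := ⟨hgen b hb, hc⟩
  rw [← heq] at h1
  have h2 := B.mul_mem h1.1 hb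
  rwa [commutatorElement_def, inv_mul_cancel_right] at h2

end Cfsg.Agent.S3063
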