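import Cfsg.Statements.S3076
import Cfsg.Agent.Lib.ComponentsCores

set_option autoImplicit false
open Cfsg

namespace Cfsg.Agent.S3076

theorem card_relIndex {G : Type*} [Group G] {A B : Subgroup G} (h : A ≤ B) :
    Nat.card A * A.relIndex B = Nat.card B := by
  rw [← Subgroup.relIndex_bot_left, ← Subgroup.relIndex_bot_left,
    Subgroup.relIndex_mul_relIndex ⊥ A B bot_le h]

/-- If `Z` is a central `p`-subgroup of index prime to `p` in `C ⊴ N`, the `p'`-part is normal. -/
theorem exists_complement {N : Type*} [Group N] [Finite N] {p : ℕ} [hp : Fact p.Prime]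
    (C Z : Subgroup N) [C.Normal] (hZC : Z ≤ C) (hZp : IsPGroup p Z)
    (hcen : ∀ z ∈ Z, ∀ c ∈ C, Commute z c) (hidx : ¬ p ∣ Z.relIndex C) :
    ∃ K : Subgroup N, K.Normal ∧ (Nat.card K).Coprime p ∧ C ≤ Z ⊔ K ∧ K ≤ C := by
  haveI : (Z.subgroupOf C).Normal := ⟨fun x hx y => by
    rw [show y * x * y⁻¹ = x from Subtype.ext (by
      have := (hcen x hx y y.2).eq
      simp only [Subgroup.coe_mul, InvMemClass.coe_inv]
      rw [← this, mul_inv_cancel_right])]
    exact hx⟩
  obtain ⟨n, hn⟩ := hZp.exists_card_eq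
  have hZc : Nat.card (Z.subgroupOf C) = p ^ n :=
    (Nat.card_congr (Subgroup.subgroupOfEquivOfLe hZC).toEquiv).trans hn
  obtain ⟨K₀, hK₀⟩ := Subgroup.exists_right_complement'_of_coprime (N := Z.subgroupOf C)
    (by rw [hZc]; exact Nat.Coprime.pow_left n (hp.out.coprime_iff_not_dvd.mpr hidx))
  set m := Nat.card K₀ with hm
  have hm' : m = Z.relIndex C := by
    rw [Subgroup.relIndex]
    exact hK₀.symm.index_eq_card.symm
  have hmp : m.Coprime p := hm' ▸ (hp.out.coprime_iff_not_dvd.mpr hidx).symm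
  have hchar : ∀ c : C, c ∈ K₀ ↔ c ^ m = 1 := by
    intro c
    refine ⟨fun hc => congrArg Subtype.val (pow_card_eq_one' (x := (⟨c, hc⟩ : K₀))), fun hc => ?_⟩
    obtain ⟨⟨⟨z, hz⟩, ⟨k, hk⟩⟩, rfl⟩ := (hK₀ : Function.Bijective _).2 c
    have hk' : k ^ m = 1 := congrArg Subtype.val (pow_card_eq_one' (x := (⟨k, hk⟩ : K₀)))
    have hzk : Commute z k := Subtype.ext (hcen z hz k k.2).eq
    rw [hzk.mul_pow, hk', mul_one] at hc
    have hz1 : z = 1 := by
      have h1 : orderOf z ∣ p ^ n := hZc ▸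
        (Subgroup.orderOf_coe (⟨z, hz⟩ : Z.subgroupOf C) ▸ orderOf_dvd_natCard _)
      exact orderOf_eq_one_iff.mp (Nat.eq_one_of_dvd_coprimes (hmp.pow_right n)
        (orderOf_dvd_of_pow_eq_one hc) h1)
    show z * k ∈ K₀
    rw [hz1, one_mul]
    exact hk
  refine ⟨K₀.map C.subtype, ?_, ?_, ?_, Subgroup.map_subtype_le _⟩
  · refine ⟨?_⟩
    rintro _ ⟨k, hk, rfl⟩ g
    refine ⟨⟨g * k * g⁻¹, Subgroup.Normal.conj_mem inferInstance _ k.2 g⟩, ?_, rfl⟩
    rw [SetLike.mem_coe, hchar]
    apply Subtype.ext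
    have hk' : (k : N) ^ m = 1 := congrArg Subtype.val ((hchar k).mp hk)
    simp [conj_pow, hk']
  · rw [Subgroup.card_map_of_injective C.subtype_injective]; exact hmp
  · intro c hc
    obtain ⟨⟨⟨z, hz⟩, ⟨k, hk⟩⟩, e⟩ := (hK₀ : Function.Bijective _).2 ⟨c, hc⟩
    have e' : (z : N) * (k : N) = c := congrArg Subtype.val e
    rw [← e']
    exact Subgroup.mul_mem_sup hz ⟨k, hk, rfl⟩

theorem core_le_comap {N : Type*} [Group N] {p : ℕ} (L C : Subgroup N) [L.Normal] [C.Normal]
    (hLC : L ≤ C) : (Cfsg.pCore p (N ⧸ L)).comap (QuotientGroup.mk' L) ≤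
      (Cfsg.pCore p (N ⧸ C)).comap (QuotientGroup.mk' C) := by
  intro x hx
  let f : N ⧸ L →* N ⧸ C := QuotientGroup.map L C (MonoidHom.id N) hLC
  have hf : Function.Surjective f := by
    intro y
    obtain ⟨y, rfl⟩ := QuotientGroup.mk'_surjective C y
    exact ⟨QuotientGroup.mk y, rfl⟩
  have h1 : (Cfsg.pCore p (N ⧸ L)).map f ≤ Cfsg.pCore p (N ⧸ C) := by
    rw [Cfsg.pCore, sSup_eq_iSup', Subgroup.map_iSup]
    refine iSup_le ?_
    rintro ⟨A, hA, hAp⟩
    haveI := hA.map f hf
    exact ComponentsCores.le_pCore' (hAp.map f)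
  exact h1 ⟨QuotientGroup.mk' L x, hx, rfl⟩

/-- The statement inside `N = N_G(H)`. -/
theorem inside {N : Type*} [Group N] [Finite N] {p : ℕ} [hp : Fact p.Prime]
    (H C S : Subgroup N) [H.Normal] [C.Normal] (hHp : IsPGroup p H)
    (hC : ∀ c, c ∈ C ↔ ∀ h ∈ H, Commute c h) (hS : IsPGroup p S)
    (hSidx : ¬ p ∣ S.index) (hHS : H ≤ S) :
    ¬ p ∣ H.relIndex ((Cfsg.pCore p (N ⧸ C)).comap (QuotientGroup.mk' C)) ↔
      (S ⊓ C ≤ H ∧ Cfsg.pPrimePCore p N = H ⊔ C) := by
  set M := (Cfsg.pCore p (N ⧸ C)).comap (QuotientGroup.mk' C) with hM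
  have hCM : C ≤ M := fun c hc => by
    rw [hM, Subgroup.mem_comap, show QuotientGroup.mk' C c = 1 from
      (QuotientGroup.eq_one_iff c).mpr hc]
    exact one_mem _
  have hHM : H ≤ M := by
    haveI := (inferInstance : H.Normal).map _ (QuotientGroup.mk'_surjective C)
    exact Subgroup.map_le_iff_le_comap.mp (ComponentsCores.le_pCore' (hHp.map _))
  have hMC : ∃ k, C.relIndex M = p ^ k := by
    obtain ⟨k, hk⟩ := (ComponentsCores.isPGroup_pCore (G := N ⧸ C) p).exists_card_eq
    refine ⟨k, hk ▸ ?_⟩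
    rw [← Subgroup.relIndex_bot_left (Cfsg.pCore p (N ⧸ C)),
      ← Subgroup.map_comap_eq_self_of_surjective (QuotientGroup.mk'_surjective C)
        (Cfsg.pCore p (N ⧸ C)), ← hM, ← Subgroup.relIndex_comap, MonoidHom.comap_bot,
      QuotientGroup.ker_mk']
  have hL : Cfsg.pPrimeCore p N ≤ C := by
    intro l hl
    rw [hC]
    haveI : (Cfsg.pPrimeCore p N).Normal := inferInstance
    obtain ⟨n, hn⟩ := hHp.exists_card_eq
    have hdis : Disjoint (Cfsg.pPrimeCore p N) H := by
      rw [disjoint_iff, Subgroup.inf_eq_bot_of_coprime]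
      rw [hn]
      exact (ComponentsCores.pPrimeCore_coprime p).pow_right n
    exact fun h hh => Subgroup.commute_of_normal_of_disjoint _ _ inferInstance inferInstance
      hdis l h hl hh
  have hSC : ¬ p ∣ (S ⊓ C).relIndex C := by
    rw [Subgroup.inf_relIndex_right]
    intro hd
    refine hSidx (hd.trans ?_)
    have e1 := card_relIndex (le_sup_left : S ≤ S ⊔ C)
    have e2 := card_relIndex (le_sup_right : C ≤ S ⊔ C)
    have e3 := card_relIndex (inf_le_left : S ⊓ C ≤ S)
    have e4 := card_relIndex (inf_le_right : S ⊓ C ≤ C)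
    rw [Subgroup.relIndex_sup_right, ← e4] at e2
    rw [Subgroup.inf_relIndex_left] at e3
    rw [Subgroup.inf_relIndex_right] at e2
    rw [← e3, ← e2] at e1
    have e5 : S.relIndex (S ⊔ C) = S.relIndex C := by
      refine Nat.eq_of_mul_eq_mul_left (Nat.mul_pos (Nat.card_pos (α := ↥(S ⊓ C)))
        (Nat.pos_of_ne_zero (Subgroup.index_ne_zero_of_finite (H := C.subgroupOf S)))) (e1.trans ?_)
      show _ = Nat.card ↥(S ⊓ C) * C.relIndex S * S.relIndex C
      ring
    rw [← e5, ← Subgroup.relIndex_mul_index (le_sup_left : S ≤ S ⊔ C)]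
    exact Dvd.intro _ rfl
  constructor
  · intro h
    have h1 : S ⊓ C ≤ H := by
      have hle : H ⊔ S ⊓ C ≤ M := sup_le hHM (inf_le_right.trans hCM)
      have hd : H.relIndex (H ⊔ S ⊓ C) ∣ H.relIndex M :=
        Dvd.intro _ (Subgroup.relIndex_mul_relIndex H _ M le_sup_left hle)
      have hd2 : H.relIndex (H ⊔ S ⊓ C) ∣ Nat.card ↥(H ⊔ S ⊓ C) := Subgroup.relIndex_dvd_card _ _
      obtain ⟨k, hk⟩ := (hS.to_le (sup_le hHS inf_le_left : H ⊔ S ⊓ C ≤ S)).exists_card_eq
      rw [hk] at hd2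
      obtain ⟨j, -, hj⟩ := (Nat.dvd_prime_pow hp.out).mp hd2
      rcases Nat.eq_zero_or_pos j with rfl | hj'
      · rw [pow_zero, Subgroup.relIndex_eq_one] at hj
        exact le_sup_right.trans hj
      · exact absurd ((dvd_pow_self p hj'.ne').trans (hj ▸ hd)) h
    have h2 : M = H ⊔ C := by
      refine le_antisymm ?_ (sup_le hHM hCM)
      rw [← Subgroup.relIndex_eq_one]
      obtain ⟨k, hk⟩ := hMC
      have d1 : (H ⊔ C).relIndex M ∣ C.relIndex M :=
        Subgroup.relIndex_dvd_of_le_left M le_sup_right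
      have d2 : (H ⊔ C).relIndex M ∣ H.relIndex M :=
        Subgroup.relIndex_dvd_of_le_left M le_sup_left
      exact Nat.eq_one_of_dvd_coprimes ((hp.out.coprime_iff_not_dvd.mpr h).pow_left k)
        (hk ▸ d1) d2
    refine ⟨h1, le_antisymm ?_ ?_⟩
    · rw [← h2]
      exact core_le_comap _ C hL
    · have hHL : H ≤ Cfsg.pPrimePCore p N := by
        haveI := (inferInstance : H.Normal).map _
          (QuotientGroup.mk'_surjective (Cfsg.pPrimeCore p N))
        exact Subgroup.map_le_iff_le_comap.mp (ComponentsCores.le_pCore' (hHp.map _))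
      obtain ⟨K, hK, hKcard, hKsup, -⟩ := exists_complement C (H ⊓ C) inf_le_right
        (hHp.to_le inf_le_left) (fun z hz c hc => ((hC c).mp hc z hz.1).symm) (fun hd => hSC
          ((le_antisymm (inf_le_inf_right C hHS) (le_inf h1 inf_le_right) :
            H ⊓ C = S ⊓ C) ▸ hd))
      haveI := hK
      refine sup_le hHL (hKsup.trans (sup_le (inf_le_left.trans hHL) ?_))
      refine (ComponentsCores.le_pPrimeCore' hKcard).trans fun x hx => ?_
      rw [Cfsg.pPrimePCore, Subgroup.mem_comap, show QuotientGroup.mk' (Cfsg.pPrimeCore p N) x = 1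
        from (QuotientGroup.eq_one_iff x).mpr hx]
      exact one_mem _
  · rintro ⟨h1, h2⟩
    set L := Cfsg.pPrimeCore p N with hLdef
    have hCO : C ≤ Cfsg.pPrimePCore p N := h2 ▸ le_sup_right
    have h3 : IsPGroup p (M.map (QuotientGroup.mk' L)) := by
      obtain ⟨k, hk⟩ := hMC
      obtain ⟨j, hj⟩ := (ComponentsCores.isPGroup_pCore (G := N ⧸ L) p).exists_card_eq
      have hO : L.relIndex (Cfsg.pPrimePCore p N) = p ^ j := by
        rw [← hj, ← Subgroup.relIndex_bot_left (Cfsg.pCore p (N ⧸ L)),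
          ← Subgroup.map_comap_eq_self_of_surjective (QuotientGroup.mk'_surjective L)
            (Cfsg.pCore p (N ⧸ L)), ← Subgroup.relIndex_comap, MonoidHom.comap_bot,
          QuotientGroup.ker_mk']
        rfl
      have hd : L.relIndex C ∣ p ^ j := hO ▸
        Dvd.intro _ (Subgroup.relIndex_mul_relIndex L C _ hL hCO)
      obtain ⟨i, -, hi⟩ := (Nat.dvd_prime_pow hp.out).mp hd
      refine IsPGroup.of_card (n := i + k) ?_
      rw [← Subgroup.relIndex_bot_left (M.map (QuotientGroup.mk' L)), ← Subgroup.relIndex_comap,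
        MonoidHom.comap_bot, QuotientGroup.ker_mk', ← Subgroup.relIndex_mul_relIndex L C M hL hCM,
        hi, hk, pow_add]
    have h4 : M ≤ H ⊔ C := by
      rw [← h2]
      haveI := (inferInstance : M.Normal).map _ (QuotientGroup.mk'_surjective L)
      exact Subgroup.map_le_iff_le_comap.mp (ComponentsCores.le_pCore' h3)
    intro hd
    rw [show M = H ⊔ C from le_antisymm h4 (sup_le hHM hCM)] at hd
    apply hSC
    rw [show S ⊓ C = H ⊓ C from le_antisymm (le_inf h1 inf_le_right) (inf_le_inf_right C hHS),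
      Subgroup.inf_relIndex_right]
    rwa [sup_comm, Subgroup.relIndex_sup_right] at hd

/-- Let P be a Sylow p-subgroup of the finite group G and H ≤ P a subgroup with N_P(H) a Sylow p-subgroup of N_G(H). Let N be the preimage in N_G(H) of O_p(N_G(H)/C_G(H)). Then H is a Sylow p-subgroup of N if and only if C_P(H) ≤ H and O_{p',p}(N_G(H)) = H·C_G(H). -/
theorem result {G : Type*} [Group G] [Finite G] {p : ℕ} [Fact p.Prime]
    (P : Sylow p G) (H : Subgroup G) (hHP : H ≤ (P : Subgroup G))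
    (hSyl : ¬ p ∣ ((P : Subgroup G) ⊓ Subgroup.normalizer (H : Set G)).relIndex (Subgroup.normalizer (H : Set G)))
    [hC : ((Subgroup.centralizer (H : Set G)).subgroupOf (Subgroup.normalizer (H : Set G))).Normal] :
    (H ≤ ((Cfsg.pCore p (↥(Subgroup.normalizer (H : Set G)) ⧸
              (Subgroup.centralizer (H : Set G)).subgroupOf (Subgroup.normalizer (H : Set G)))).comap
            (QuotientGroup.mk' _)).map (Subgroup.normalizer (H : Set G)).subtype ∧
      ¬ p ∣ H.relIndex (((Cfsg.pCore p (↥(Subgroup.normalizer (H : Set G)) ⧸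
              (Subgroup.centralizer (H : Set G)).subgroupOf (Subgroup.normalizer (H : Set G)))).comap
            (QuotientGroup.mk' _)).map (Subgroup.normalizer (H : Set G)).subtype)) ↔
    ((P : Subgroup G) ⊓ Subgroup.centralizer (H : Set G) ≤ H ∧
      (Cfsg.pPrimePCore p ↥(Subgroup.normalizer (H : Set G))).map (Subgroup.normalizer (H : Set G)).subtype =
        H ⊔ Subgroup.centralizer (H : Set G)) := by
  set Ng := Subgroup.normalizer (H : Set G) with hNg
  have hHN : H ≤ Ng := Subgroup.le_normalizer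
  have hCN : Subgroup.centralizer (H : Set G) ≤ Ng := Subgroup.centralizer_le_normalizer _
  haveI : (H.subgroupOf Ng).Normal := Subgroup.normal_in_normalizer
  set S := (P : Subgroup G).subgroupOf Ng with hS
  have key := inside (p := p) (H.subgroupOf Ng) ((Subgroup.centralizer (H : Set G)).subgroupOf Ng) S
    ((P.2.to_le hHP).comap_of_injective _ Ng.subtype_injective) (fun c => by
      rw [Subgroup.mem_subgroupOf, Subgroup.mem_centralizer_iff]
      exact ⟨fun h x hx => Subtype.ext (h x hx).symm,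
        fun h x hx => congrArg Subtype.val (h ⟨x, hHN hx⟩ hx).eq.symm⟩)
    (P.2.comap_of_injective _ Ng.subtype_injective)
    (by rwa [hS, ← Subgroup.inf_subgroupOf_right, ← Subgroup.relIndex])
    (fun x hx => hHP hx)
  set M := (Cfsg.pCore p (↥Ng ⧸ (Subgroup.centralizer (H : Set G)).subgroupOf Ng)).comap
    (QuotientGroup.mk' ((Subgroup.centralizer (H : Set G)).subgroupOf Ng)) with hM
  have hHM : H ≤ M.map Ng.subtype := by
    haveI := (inferInstance : (H.subgroupOf Ng).Normal).map _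
      (QuotientGroup.mk'_surjective ((Subgroup.centralizer (H : Set G)).subgroupOf Ng))
    have h1 : H.subgroupOf Ng ≤ M := Subgroup.map_le_iff_le_comap.mp (ComponentsCores.le_pCore'
      (((P.2.to_le hHP).comap_of_injective _ Ng.subtype_injective).map _))
    exact fun x hx => ⟨⟨x, hHN hx⟩, h1 hx, rfl⟩
  have e1 : H.relIndex (M.map Ng.subtype) = (H.subgroupOf Ng).relIndex M := by
    rw [← Subgroup.relIndex_comap]; rfl
  rw [and_iff_right hHM, e1, key]
  refine and_congr ⟨fun h x hx => h (⟨hx.1, hx.2⟩ : (⟨x, hCN hx.2⟩ : Ng) ∈ S ⊓ _),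
    fun h x hx => h ⟨hx.1, hx.2⟩⟩ ?_
  rw [← (Subgroup.map_injective Ng.subtype_injective).eq_iff, Subgroup.map_sup,
    Subgroup.map_subgroupOf_eq_of_le hHN, Subgroup.map_subgroupOf_eq_of_le hCN]


end Cfsg.Agent.S3076
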