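import Cfsg.Statements.S3064
import Cfsg.Agent.S3076
import Cfsg.Agent.Lib.IsolatedPElement
import Cfsg.Agent.Lib.CharInducedTI

set_option autoImplicit false
open Cfsg

namespace Cfsg.Agent.S3064

universe u

open scoped Pointwise

/-- An isolated `p`-element centralising every invariant `p'`-subgroup is central. -/
theorem main (p : ℕ) [Fact p.Prime] : ∀ (n : ℕ) (G : Type u) [Group G] [Finite G] (x : G),
    Nat.card G = n → (∃ k : ℕ, orderOf x = p ^ k) → Cfsg.IsIsolated x →
    (∀ H : Subgroup G, (Nat.card H).Coprime p → (∀ h ∈ H, x * h * x⁻¹ ∈ H) →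
      ∀ h ∈ H, x * h = h * x) → x ∈ Subgroup.center G := by
  intro n
  induction n using Nat.strong_induction_on with
  | _ n IH =>
  intro G _ _ x hn hxp hiso hb
  by_contra hxZ
  have hp : p.Prime := Fact.out
  set M := Subgroup.centralizer ({x} : Set G) with hMdef
  have hxM : x ∈ M := IsolatedPElement.mem_centralizer_single.2 rfl
  have hsub : ∀ H : Subgroup G, H ≠ ⊤ → x ∈ H → H ≤ M := by
    intro H hH hxH h hh
    have hlt : Nat.card H < Nat.card G := lt_of_le_of_ne (Subgroup.card_le_card_group H)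
      fun e => hH (Subgroup.card_eq_iff_eq_top H |>.mp e)
    have hc := IH _ (hn ▸ hlt) H ⟨x, hxH⟩ rfl
      (by rw [Subgroup.orderOf_mk]; exact hxp) (IsolatedPElement.isolated_subtype hiso H hxH) ?_
    · exact IsolatedPElement.mem_centralizer_single.2
        (congrArg Subtype.val (Subgroup.mem_center_iff.mp hc ⟨h, hh⟩))
    · intro L hL hLinv l hl
      apply Subtype.ext
      exact hb (L.map H.subtype) (by rwa [Subgroup.card_map_of_injective H.subtype_injective])
        (by rintro _ ⟨l, hl, rfl⟩; exact ⟨_, hLinv l hl, rfl⟩) l ⟨l, hl, rfl⟩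
  have hMtop : M ≠ ⊤ := by
    intro h
    apply hxZ
    rw [Subgroup.mem_center_iff]
    intro g
    exact IsolatedPElement.mem_centralizer_single.1 (h ▸ Subgroup.mem_top g : g ∈ M)
  have hgen : ∀ g, g ∉ M → Subgroup.closure ({x, g * x * g⁻¹} : Set G) = ⊤ := by
    intro g hg
    by_contra hne
    have h1 := hsub _ hne (Subgroup.subset_closure (Or.inl rfl))
      (Subgroup.subset_closure (Or.inr rfl) : g * x * g⁻¹ ∈ _)
    exact hg (IsolatedPElement.mem_centralizer_single.2 (IsolatedPElement.commute_iff_conj_eq.2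
      (hiso g (IsolatedPElement.mem_centralizer_single.1 h1).symm)))
  set Z := Subgroup.center G
  have hZM : Z ≤ M := fun z hz => IsolatedPElement.mem_centralizer_single.2
    ((Subgroup.mem_center_iff.mp hz x).symm)
  set π := QuotientGroup.mk' Z
  have hcomap : (M.map π).comap π = M := by
    rw [Subgroup.comap_map_eq, QuotientGroup.ker_mk', sup_eq_left.mpr hZM]
  have hH : Cfsg.IsFrobeniusComplement (M.map π) := by
    refine ⟨fun h => hxZ ?_, fun h => hMtop ?_, fun gb hgb => ?_⟩
    · have : π x ∈ M.map π := ⟨x, hxM, rfl⟩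
      rw [h, Subgroup.mem_bot] at this
      exact (QuotientGroup.eq_one_iff x).mp this
    · rw [← hcomap, h, Subgroup.comap_top]
    · obtain ⟨g, rfl⟩ := QuotientGroup.mk'_surjective Z gb
      have hgM : g ∉ M := fun h => hgb ⟨g, h, rfl⟩
      rw [eq_bot_iff]
      rintro ub ⟨hu1, hu2⟩
      obtain ⟨u, rfl⟩ := QuotientGroup.mk'_surjective Z ub
      have hu : u ∈ M := hcomap ▸ hu1
      replace hu2 : π u ∈ (MulAut.conj (π g) • M.map π : Subgroup (G ⧸ Z)) := hu2
      rw [FrobeniusBasic.mem_conj_smul_iff] at hu2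
      have hu' : g⁻¹ * u * g ∈ M := by
        rw [← hcomap, Subgroup.mem_comap, map_mul, map_mul, map_inv]
        exact hu2
      rw [Subgroup.mem_bot]
      refine (QuotientGroup.eq_one_iff u).mpr (Subgroup.mem_center_iff.mpr fun w => ?_)
      have hw : w ∈ Subgroup.centralizer ({u} : Set G) := by
        have hle : Subgroup.closure ({x, g * x * g⁻¹} : Set G) ≤
            Subgroup.centralizer ({u} : Set G) := by
          rw [Subgroup.closure_le]
          rintro y (rfl | rfl)
          · exact IsolatedPElement.mem_centralizer_single.2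
              (IsolatedPElement.mem_centralizer_single.1 hu).symm
          · refine IsolatedPElement.mem_centralizer_single.2 ?_
            have h1 := IsolatedPElement.mem_centralizer_single.1 hu'
            calc g * x * g⁻¹ * u = g * (x * (g⁻¹ * u * g)) * g⁻¹ := by group
              _ = g * (g⁻¹ * u * g * x) * g⁻¹ := by rw [h1]
              _ = u * (g * x * g⁻¹) := by group
        exact hle (hgen g hgM ▸ Subgroup.mem_top w)
      exact IsolatedPElement.mem_centralizer_single.1 hw
  haveI : Fintype (G ⧸ Z) := Fintype.ofFinite _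
  obtain ⟨Nb, hNset, hNn, hNc⟩ := CharInduced.frobenius_kernel_subgroup hH
  have hpM : p ∣ Nat.card (M.map π) := by
    obtain ⟨k, hk⟩ := hxp
    have h1 : orderOf (π x) ∣ p ^ k := hk ▸ orderOf_map_dvd π x
    obtain ⟨i, -, hi⟩ := (Nat.dvd_prime_pow hp).mp h1
    rcases Nat.eq_zero_or_pos i with rfl | hipos
    · rw [pow_zero, orderOf_eq_one_iff] at hi
      exact absurd ((QuotientGroup.eq_one_iff x).mp hi) hxZ
    · have h2 : orderOf (π x) ∣ Nat.card (M.map π) := by
        rw [show π x = ((⟨π x, x, hxM, rfl⟩ : M.map π) : G ⧸ Z) from rfl, Subgroup.orderOf_coe]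
        exact orderOf_dvd_natCard _
      exact ((dvd_pow_self p hipos.ne').trans (hi ▸ dvd_rfl)).trans h2
  have hpN : ¬ p ∣ Nat.card Nb := by
    intro hd
    have h1 := FrobeniusBasic.coprime_card_index hH
    rw [hNc.index_eq_card] at h1
    exact hp.ne_one (Nat.eq_one_of_dvd_coprimes h1 hpM hd)
  set N := Nb.comap π with hNdef
  haveI : N.Normal := hNn.comap π
  have hZN : Z ≤ N := fun z hz => by
    rw [hNdef, Subgroup.mem_comap, show π z = 1 from (QuotientGroup.eq_one_iff z).mpr hz]
    exact one_mem _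
  obtain ⟨P⟩ := (inferInstance : Nonempty (Sylow p Z))
  set Zp := (P : Subgroup Z).map Z.subtype
  have hidx : ¬ p ∣ Zp.relIndex N := by
    rw [← Subgroup.relIndex_mul_relIndex Zp Z N (Subgroup.map_subtype_le _) hZN]
    intro hd
    rcases hp.dvd_mul.mp hd with h1 | h1
    · rw [Subgroup.relIndex, Subgroup.subgroupOf, Subgroup.comap_map_eq_self_of_injective
        Z.subtype_injective] at h1
      exact P.not_dvd_index h1
    · refine hpN ?_
      rwa [show Z = (⊥ : Subgroup (G ⧸ Z)).comap π by
          rw [MonoidHom.comap_bot, QuotientGroup.ker_mk'],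
        hNdef, Subgroup.relIndex_comap, Subgroup.map_comap_eq_self_of_surjective
          (QuotientGroup.mk'_surjective Z), Subgroup.relIndex_bot_left] at h1
  obtain ⟨K, hKn, hKc, hNK, -⟩ := S3076.exists_complement N Zp
    ((Subgroup.map_subtype_le _).trans hZN) (P.2.map _)
    (fun z hz c _ => (Subgroup.mem_center_iff.mp (Subgroup.map_subtype_le _ hz) c).symm) hidx
  have hKM : K ≤ M := fun k hk => IsolatedPElement.mem_centralizer_single.2
    (hb K hKc (fun h hh => hKn.conj_mem h hh x) k hk).symm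
  have hNM : N ≤ M := hNK.trans (sup_le ((Subgroup.map_subtype_le _).trans hZM) hKM)
  apply hMtop
  rw [← hcomap, eq_top_iff]
  intro g _
  have h1 : Nb ≤ M.map π := by
    rw [← Subgroup.map_comap_eq_self_of_surjective (QuotientGroup.mk'_surjective Z) Nb]
    exact Subgroup.map_mono hNM
  have h2 : Nb ⊔ M.map π = ⊤ := hNc.sup_eq_top
  rw [sup_eq_right.mpr h1] at h2
  rw [Subgroup.mem_comap, h2]
  exact Subgroup.mem_top _

/-- Let S be a Sylow p-subgroup of the finite group G and x an element of S such that (i) x is the only G-conjugate of x lying in S, and (ii) x centralizes every subgroup of order prime to p that it normalizes. Then x lies in the centre of G. -/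
theorem result {G : Type*} [Group G] [Finite G] {p : ℕ} [Fact p.Prime]
    (S : Sylow p G) (x : G) (hx : x ∈ S)
    (hU : ∀ g : G, g⁻¹ * x * g ∈ S → g⁻¹ * x * g = x)
    (hb : ∀ H : Subgroup G, (Nat.card H).Coprime p → (∀ h ∈ H, x * h * x⁻¹ ∈ H) → ∀ h ∈ H, x * h = h * x) :
    x ∈ Subgroup.center G := by
  have hxp : ∃ k : ℕ, orderOf x = p ^ k := by
    obtain ⟨k, hk⟩ := S.2 ⟨x, hx⟩
    obtain ⟨i, -, hi⟩ := (Nat.dvd_prime_pow Fact.out).mp
      (orderOf_dvd_of_pow_eq_one (congrArg Subtype.val hk : x ^ p ^ k = 1))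
    exact ⟨i, hi⟩
  refine main p _ G x rfl hxp ?_ hb
  intro g hg
  -- `⟨x, g x g⁻¹⟩` is a `p`-group
  set y := g * x * g⁻¹ with hy
  have hxx : IsPGroup p (Subgroup.zpowers x) := IsolatedPElement.isPGroup_zpowers hxp
  have hyy : IsPGroup p (Subgroup.zpowers y) :=
    IsolatedPElement.isPGroup_zpowers (by rw [hy, IsolatedPElement.orderOf_conj]; exact hxp)
  have hnorm : Subgroup.zpowers x ≤ Subgroup.normalizer (Subgroup.zpowers y : Set G) := by
    rw [Subgroup.zpowers_le]
    exact Subgroup.centralizer_le_normalizer _ (Subgroup.mem_centralizer_iff.mpr fun z hz => by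
      obtain ⟨i, rfl⟩ := hz
      exact ((hg.symm.zpow_left i).eq))
  obtain ⟨T, hT⟩ := (hxx.to_sup_of_normal_right' hyy hnorm).exists_le_sylow
  obtain ⟨h, hh⟩ := MulAction.exists_smul_eq G T S
  have hmem : ∀ z ∈ (T : Subgroup G), h * z * h⁻¹ ∈ (S : Subgroup G) := fun z hz => by
    rw [← hh, Sylow.smul_def, Sylow.pointwise_smul_def]
    exact Subgroup.smul_mem_pointwise_smul z (MulAut.conj h) _ hz
  have h1 : h * x * h⁻¹ = x := by
    have := hU h⁻¹ (by rw [inv_inv]; exact hmem x (hT (le_sup_left (α := Subgroup G) (Subgroup.mem_zpowers x))))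
    rwa [inv_inv] at this
  have h2 : (h * g) * x * (h * g)⁻¹ = x := by
    have := hU (h * g)⁻¹ (by
      rw [inv_inv, show (h * g) * x * (h * g)⁻¹ = h * y * h⁻¹ by rw [hy]; group]
      exact hmem y (hT (le_sup_right (α := Subgroup G) (Subgroup.mem_zpowers y))))
    rwa [inv_inv] at this
  calc y = h⁻¹ * ((h * g) * x * (h * g)⁻¹) * h := by rw [hy]; group
    _ = h⁻¹ * (h * x * h⁻¹) * h := by rw [h2, h1]
    _ = x := by group


end Cfsg.Agent.S3064
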