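import Cfsg.Statements.S3065
import Cfsg.Agent.S0205
import Cfsg.Agent.Lib.OutSolvable67
import Cfsg.Agent.Lib.ZStarTheorem

set_option autoImplicit false
open Cfsg

namespace Cfsg.Agent.S3065

/-- Let G be a finite non-abelian simple group with a nontrivial Sylow 2-subgroup S (that is, G has even order). If the automorphism group of S is solvable, then the outer automorphism group Out(G) = Aut(G)/Inn(G) is solvable. -/
theorem result {G : Type*} [Group G] [Finite G] [IsSimpleGroup G]
    (hG : ¬ IsMulCommutative G) (S : Sylow 2 G) (hS1 : (S : Subgroup G) ≠ ⊥) (hS : Group.IsSolvable (MulAut ↥S)) :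
    Group.IsSolvable (Cfsg.Out G) := by
  refine OutSolvable67.out_solvable (fun X _ _ h => S0205.result h)
    (fun Y _ _ P t ht htP hh => ZStarTheorem.exists_odd_normal (ZStarBasic.isolated_of_sylow P t ht htP hh)) (fun N hN hodd => ?_) S ?_
  · rcases hN.eq_bot_or_eq_top with h | h
    · exact h
    · subst h
      rw [Subgroup.card_top] at hodd
      haveI := S0205.result hodd
      exact absurd ⟨⟨IsSimpleGroup.comm_iff_isSolvable.2 inferInstance⟩⟩ hG
  · haveI := hS
    infer_instance

end Cfsg.Agent.S3065
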