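import Cfsg.Statements.S3067
import Mathlib
import Cfsg.Agent.Lib.CoprimeCentMain81

set_option autoImplicit false
open Cfsg

namespace Cfsg.Agent.S3067

/-- Let G be a finite non-abelian simple group, τ an involution of G, and α a nontrivial automorphism of G whose order is coprime to the order of G. Then α moves some element of the centralizer of τ: α does not fix C_G(τ) elementwise. -/
theorem result {G : Type*} [Group G] [Finite G] [IsSimpleGroup G]
    (hG : ¬ IsMulCommutative G) (τ : G) (hτ : orderOf τ = 2) (α : MulAut G) (hα : α ≠ 1)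
    (hcop : (orderOf α).Coprime (Nat.card G)) :
    ∃ c ∈ Subgroup.centralizer ({τ} : Set G), α c ≠ c := by
  by_contra hcon
  push Not at hcon
  have h1 : orderOf α ≠ 1 := fun e => hα (orderOf_eq_one_iff.1 e)
  obtain ⟨r, hr, hrd⟩ := Nat.exists_prime_and_dvd h1
  set b := α ^ (orderOf α / r) with hb
  have hbr : b ^ r = 1 := by
    rw [hb, ← pow_mul, Nat.div_mul_cancel hrd, pow_orderOf_eq_one]
  have hb1 : b ≠ 1 := by
    refine pow_ne_one_of_lt_orderOf ?_ (Nat.div_lt_self (orderOf_pos α) hr.one_lt)
    exact (Nat.div_pos (Nat.le_of_dvd (orderOf_pos α) hrd) hr.pos).ne'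
  have hH : CoprimeFix81.Hyp b r := ⟨hr, hbr, fun hd =>
    hr.one_lt.ne' (Nat.eq_one_of_dvd_coprimes hcop hrd hd)⟩
  have hgood : CoprimeFix81.Good b τ := by
    refine ⟨hτ, fun x hx => CoprimeFix81.mem_fixS.2 ?_⟩
    have hpow : ∀ n : ℕ, (α ^ n) x = x := by
      intro n
      induction n with
      | zero => rfl
      | succ n ih => rw [pow_succ', MulAut.mul_apply, ih, hcon x hx]
    exact hpow _
  have hodd := CoprimeCentMain81.odd_comOn b r τ hH hgood
  rcases (CoprimeCentMain81.comOn_top_normal b).eq_bot_or_eq_top with e | e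
  · refine hb1 (MulEquiv.ext fun g => ?_)
    have := CoprimeFix81.disp_mem (a := b) (Subgroup.mem_top g)
    rw [e, Subgroup.mem_bot, inv_mul_eq_one] at this
    exact this.symm
  · rw [e, Subgroup.card_top] at hodd
    exact (Nat.not_even_iff_odd.2 hodd) (even_iff_two_dvd.2 (hτ ▸ orderOf_dvd_natCard τ))

end Cfsg.Agent.S3067
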