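import Cfsg.Statements.S3068
import Cfsg.Agent.Lib.ThompsonOffender39Transfer
import Cfsg.Agent.Lib.TransferTate

set_option autoImplicit false
open Cfsg

namespace Cfsg.Agent.S3068

/-- Let p ≥ 7 be a prime, S a Sylow p-subgroup of the finite group G, J(S) the subgroup generated by the abelian subgroups of S of largest order and M = N_G(J(S)). Then G/O^p(G) ≅ M/O^p(M): the largest p-factor group of G is that of M (here O^p(X) is the subgroup generated by the elements of X of order prime to p). -/
theorem result {G : Type*} [Group G] [Finite G] {p : ℕ} [Fact p.Prime]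
    (hp : 7 ≤ p) (S : Sylow p G)
    [hn : (Cfsg.pResidual p G).Normal]
    [hm : (Cfsg.pResidual p ↥(Subgroup.normalizer (Cfsg.thompsonSubgroupAOf (S : Subgroup G) : Set G))).Normal] :
    Nonempty (G ⧸ Cfsg.pResidual p G ≃*
      ↥(Subgroup.normalizer (Cfsg.thompsonSubgroupAOf (S : Subgroup G) : Set G)) ⧸
        Cfsg.pResidual p ↥(Subgroup.normalizer (Cfsg.thompsonSubgroupAOf (S : Subgroup G) : Set G))) := by
  have hSJ : (S : Subgroup G) ≤
      Subgroup.normalizer (Cfsg.thompsonSubgroupAOf (S : Subgroup G) : Set G) := by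
    show _ ≤ Subgroup.normalizer ((((Cfsg.thompsonSubgroupA ↥(S : Subgroup G)).map
      (S : Subgroup G).subtype : Subgroup G)) : Set G)
    haveI : (Cfsg.thompsonSubgroupA ↥(S : Subgroup G)).Characteristic :=
      Subgroup.characteristic_iff_map_eq.mpr fun e => ThompsonAQuad.map_thompsonA e
    have h := Subgroup.le_normalizer_map (H := Cfsg.thompsonSubgroupA ↥(S : Subgroup G))
      (S : Subgroup G).subtype
    rw [Subgroup.normalizer_eq_top] at h
    rwa [← MonoidHom.range_eq_map, Subgroup.range_subtype] at h
  refine TransferTate.quotient_pResidual_equiv S hSJ (TransferTate.inf_pResidual_eq_of_focal_eq S hSJ ?_)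
  rw [← Subgroup.commutator_inf_eq_focalSubgroup S, ← Sylow.coe_subtype S hSJ,
    ← Subgroup.commutator_inf_eq_focalSubgroup, Subgroup.map_inf _ _ _ (Subgroup.subtype_injective _),
    Subgroup.map_subtype_commutator, TransferTate.map_subtype_sylow, commutator_def, inf_comm,
    inf_comm ⁅Subgroup.normalizer _, Subgroup.normalizer _⁆]
  exact le_antisymm (ThompsonOffender39.inf_commutator_le_normalizer hp S)
    (inf_le_inf_left _ (Subgroup.commutator_mono le_top le_top))

end Cfsg.Agent.S3068
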