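import Mathlib
import Cfsg.Agent.Lib.ConjFunctorKMain
import Cfsg.Agent.Lib.ConjFunctorNilpotence
import Cfsg.Statements.S3069
-- import your own Cfsg.Agent.* helpers here

set_option autoImplicit false
open Cfsg

namespace Cfsg.Agent.S3069

/-- Let p ≥ 7 be a prime and S a nontrivial Sylow p-subgroup of the finite group G. If N_G(S)/C_G(S) is a p-group (every element of N_G(S) of order prime to p centralizes S), then O^p(G) < G, i.e. G has a nontrivial p-factor group. -/
theorem result {G : Type*} [Group G] [Finite G] {p : ℕ} [Fact p.Prime]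
    (hp : 7 ≤ p) (S : Sylow p G) (hS : (S : Subgroup G) ≠ ⊥)
    (hN : ∀ g ∈ Subgroup.normalizer ((S : Subgroup G) : Set G), (orderOf g).Coprime p →
      g ∈ Subgroup.centralizer ((S : Subgroup G) : Set G)) :
    Cfsg.pResidual p G ≠ ⊤ := by
  have h := ConjFunctorNilpotence.not_le_commutator (W := Cfsg.kInfLower)
    ConjFunctorKMain.isCharPFunctor_kInfLower (fun H _ _ _ =>
      ConjFunctorKMain.transfer_of_engel (G := H) (p := p) ConjFunctorKMain.isCharPFunctor_kInfLower
        fun H' _ _ T hn => ConjFunctorKMain.engel_of_not_normal (by omega) T (Or.inl hn)) S hS hN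
  obtain ⟨N, hNn, hNi⟩ := ConjFunctorNilpotence.exists_index_p S h
  haveI := hNn
  intro htop
  have hle : Cfsg.pResidual p G ≤ N := by
    refine (Subgroup.closure_le _).mpr fun g hg => ?_
    have h1 : orderOf (QuotientGroup.mk' N g) ∣ N.index := by
      rw [Subgroup.index_eq_card]; exact orderOf_dvd_natCard _
    have h2 : orderOf (QuotientGroup.mk' N g) ∣ orderOf g := orderOf_map_dvd _ g
    have h3 : orderOf (QuotientGroup.mk' N g) = 1 :=
      Nat.eq_one_of_dvd_coprimes (Set.mem_setOf_eq ▸ hg) h2 (hNi ▸ h1)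
    exact (QuotientGroup.eq_one_iff g).mp (orderOf_eq_one_iff.mp h3)
  rw [htop, top_le_iff] at hle
  rw [hle, Subgroup.index_top] at hNi
  have := (Fact.out : p.Prime).one_lt
  omega

end Cfsg.Agent.S3069
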