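import Cfsg.Statements.S3074
import Cfsg.Agent.Lib.QdRankTwoApply
import Cfsg.Agent.Lib.PGroupsBasic
import Cfsg.Agent.Lib.PSLCard

set_option autoImplicit false
open Cfsg

namespace Cfsg.Agent.S3074

open Matrix

variable {p : ℕ} [hp : Fact p.Prime]

/-- The standard unipotent elements. -/
def um (x : ZMod p × ZMod p × ZMod p) : ↥(Cfsg.qd p) :=
  ⟨⟨!![1, x.2.2, x.1; 0, 1, x.2.1; 0, 0, 1], by rw [Matrix.det_fin_three]; simp⟩,
    QdRankTwoApply.mem_qd.2 ⟨rfl, rfl, rfl⟩⟩

theorem um_mul (x y : ZMod p × ZMod p × ZMod p) :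
    um x * um y = um (x.1 + y.1 + x.2.2 * y.2.1, x.2.1 + y.2.1, x.2.2 + y.2.2) := by
  refine QdRankTwoApply.ext_e fun a b => ?_
  rw [QdRankTwoApply.e_mul]
  fin_cases a <;> fin_cases b <;>
    simp [QdRankTwoApply.e, um, Matrix.mul_apply, Fin.sum_univ_three] <;> ring

theorem um_zero : um ((0, 0, 0) : ZMod p × ZMod p × ZMod p) = 1 := by
  refine QdRankTwoApply.ext_e fun a b => ?_
  fin_cases a <;> fin_cases b <;> simp [QdRankTwoApply.e, um]

theorem um_inj : Function.Injective (um (p := p)) := by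
  intro x y h
  have h1 := congrArg (fun g => QdRankTwoApply.e g 0 2) h
  have h2 := congrArg (fun g => QdRankTwoApply.e g 1 2) h
  have h3 := congrArg (fun g => QdRankTwoApply.e g 0 1) h
  simp [QdRankTwoApply.e, um] at h1 h2 h3
  exact Prod.ext h1 (Prod.ext h2 h3)

theorem um_inv (x : ZMod p × ZMod p × ZMod p) :
    (um x)⁻¹ = um (-x.1 + x.2.2 * x.2.1, -x.2.1, -x.2.2) := by
  refine inv_eq_of_mul_eq_one_right ?_
  rw [um_mul, ← um_zero]
  refine congrArg um (Prod.ext ?_ (Prod.ext ?_ ?_)) <;> simp <;> ring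

theorem um_pow (x : ZMod p × ZMod p × ZMod p) (n : ℕ) :
    um x ^ n = um ((n : ZMod p) * x.1 + (n.choose 2 : ZMod p) * (x.2.2 * x.2.1),
      (n : ZMod p) * x.2.1, (n : ZMod p) * x.2.2) := by
  induction n with
  | zero => rw [pow_zero, ← um_zero]; simp
  | succ n ih =>
    rw [pow_succ, ih, um_mul, show (n + 1).choose 2 = n + n.choose 2 by
      rw [Nat.choose_succ_succ' n 1, Nat.choose_one_right]]
    refine congrArg um (Prod.ext ?_ (Prod.ext ?_ ?_)) <;> push_cast <;> ring

/-- The standard unipotent subgroup. -/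
def U : Subgroup ↥(Cfsg.qd p) where
  carrier := Set.range um
  one_mem' := ⟨(0, 0, 0), um_zero⟩
  mul_mem' := by rintro _ _ ⟨x, rfl⟩ ⟨y, rfl⟩; exact ⟨_, (um_mul x y).symm⟩
  inv_mem' := by rintro _ ⟨x, rfl⟩; exact ⟨_, (um_inv x).symm⟩

theorem card_U : Nat.card (U (p := p)) = p ^ 3 := by
  show Nat.card (Set.range (um (p := p))) = p ^ 3
  rw [Nat.card_range_of_injective um_inj]
  simp [Nat.card_prod]
  ring

theorem card_qd : Nat.card ↥(Cfsg.qd p) = p ^ 3 * (p ^ 2 - 1) := by
  have h := Subgroup.card_eq_card_quotient_mul_card_subgroup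
    (QdRankTwoApply.lin : ↥(Cfsg.qd p) →* _).ker
  rw [Nat.card_congr (QuotientGroup.quotientKerEquivOfSurjective _
    (fun A => ⟨QdRankTwoApply.blk A, QdRankTwoApply.lin_blk A⟩)).toEquiv,
    QdRankTwoApply.card_lin_ker, PSLCard.card_SL2, Nat.card_zmod] at h
  rw [h]; ring

theorem extraspecial_of_card_pow_three {P : Type*} [Group P] (hcard : Nat.card P = p ^ 3)
    (hexp : ∀ x : P, x ^ p = 1) {a b : P} (hab : a * b ≠ b * a) : Cfsg.IsExtraspecial p P := by
  haveI : Finite P := Nat.finite_of_card_ne_zero (by rw [hcard]; exact pow_ne_zero _ hp.out.ne_zero)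
  have hP : IsPGroup p P := IsPGroup.of_card hcard
  haveI : Nontrivial P := ⟨⟨a * b, b * a, hab⟩⟩
  have hZtop : Subgroup.center P ≠ ⊤ := fun h => hab
    (Subgroup.mem_center_iff.mp (h ▸ Subgroup.mem_top b) a)
  have hZbot : Nontrivial (Subgroup.center P) := hP.center_nontrivial
  have hdvd : Nat.card (Subgroup.center P) ∣ p ^ 3 := hcard ▸ Subgroup.card_subgroup_dvd_card _
  obtain ⟨k, hk, hkc⟩ := (Nat.dvd_prime_pow hp.out).mp hdvd
  have hmul := Subgroup.card_mul_index (Subgroup.center P)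
  rw [hcard, hkc] at hmul
  have hk1 : k = 1 := by
    interval_cases k
    · have := Finite.one_lt_card (α := Subgroup.center P)
      rw [hkc] at this; simp at this
    · rfl
    · exfalso
      have hidx : (Subgroup.center P).index = p := by
        refine Nat.eq_of_mul_eq_mul_left (pow_pos hp.out.pos 2) (hmul.trans ?_)
        ring
      haveI : IsCyclic (P ⧸ Subgroup.center P) := isCyclic_of_prime_card hidx
      exact hab (commutative_of_cyclic_center_quotient (QuotientGroup.mk' _) (QuotientGroup.ker_mk' _).le a b)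
    · exact absurd (Subgroup.card_eq_iff_eq_top _ |>.mp (hkc.trans hcard.symm)) hZtop
  subst hk1
  rw [pow_one] at hkc
  have hidx : (Subgroup.center P).index = p ^ 2 := by
    refine Nat.eq_of_mul_eq_mul_left hp.out.pos ?_
    rw [pow_one] at hmul
    rw [hmul]; ring
  have hcomm : commutator P ≤ Subgroup.center P := by
    have hc := IsPGroup.commutative_of_card_eq_prime_sq (G := P ⧸ Subgroup.center P) hidx
    rw [commutator_def, Subgroup.commutator_le]
    intro x _ y _
    rw [← QuotientGroup.eq_one_iff, ← QuotientGroup.mk'_apply, map_commutatorElement,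
      commutatorElement_eq_one_iff_mul_comm]
    exact hc _ _
  have hceq : commutator P = Subgroup.center P := by
    refine Subgroup.eq_of_le_of_card_ge hcomm ?_
    have hne : commutator P ≠ ⊥ := by
      intro h
      apply hab
      rw [← commutatorElement_eq_one_iff_mul_comm, ← Subgroup.mem_bot, ← h, commutator_def]
      exact Subgroup.commutator_mem_commutator (Subgroup.mem_top _) (Subgroup.mem_top _)
    have h1 := Subgroup.card_dvd_of_le hcomm
    rw [hkc] at h1 ⊢
    rcases (Nat.dvd_prime hp.out).mp h1 with h2 | h2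
    · exact absurd (Subgroup.card_eq_one.mp h2) hne
    · exact h2.ge
  refine ⟨⟨hP, le_antisymm ?_ ?_, hceq⟩, hkc⟩
  · exact PGroupsBasic.frattini_le_of_elementary_quotient (p := p) hcomm
      fun x => by rw [hexp x]; exact one_mem _
  · exact hceq ▸ PGroupsBasic.commutator_le_frattini hP

/-- Let p be an odd prime. A Sylow p-subgroup of Qd(p), the split extension of an elementary abelian group of order p² by SL₂(p) acting naturally, is extraspecial of order p³ and exponent p. -/
theorem result (p : ℕ) [Fact p.Prime] (hp : p ≠ 2) (P : Sylow p ↥(Cfsg.qd p)) :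
    Cfsg.IsExtraspecial p ↥P ∧ Nat.card P = p ^ 3 ∧ Monoid.exponent ↥P = p := by
  have hp' : p.Prime := Fact.out
  have hv : (p ^ 3 * (p ^ 2 - 1)).factorization p = 3 := by
    have h1 : 0 < p ^ 2 - 1 := Nat.sub_pos_of_lt (Nat.one_lt_pow two_ne_zero hp'.one_lt)
    rw [Nat.factorization_mul (pow_ne_zero _ hp'.ne_zero) h1.ne', Finsupp.add_apply,
      Nat.factorization_pow_self hp', Nat.factorization_eq_zero_of_not_dvd, add_zero]
    intro hd
    have h2 : p ∣ p ^ 2 - 1 + 1 := by
      rw [Nat.sub_add_cancel (by omega)]; exact dvd_pow_self p two_ne_zero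
    have h3 := Nat.dvd_sub h2 hd
    rw [Nat.add_sub_cancel_left] at h3
    exact hp'.one_lt.ne' (Nat.dvd_one.mp h3)
  have hPc : Nat.card P = p ^ 3 := by rw [P.card_eq_multiplicity, card_qd, hv]
  let Q : Sylow p ↥(Cfsg.qd p) := Sylow.ofCard U (by rw [card_U, card_qd, hv])
  obtain ⟨g, rfl⟩ := MulAction.exists_smul_eq ↥(Cfsg.qd p) Q P
  have e : ↥(U (p := p)) ≃* ↥((g • Q : Sylow p ↥(Cfsg.qd p)) : Subgroup ↥(Cfsg.qd p)) :=
    Sylow.equiv Q (g • Q)
  have hexpU : ∀ x : ↥(U (p := p)), x ^ p = 1 := by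
    rintro ⟨_, x, rfl⟩
    apply Subtype.ext
    rw [SubmonoidClass.coe_pow, um_pow, OneMemClass.coe_one, ← um_zero]
    refine congrArg um (Prod.ext ?_ (Prod.ext ?_ ?_))
    · simp only [ZMod.natCast_self, zero_mul, zero_add]
      have hd : p ∣ p.choose 2 := hp'.dvd_choose_self two_ne_zero
        (lt_of_le_of_ne hp'.two_le (Ne.symm hp))
      rw [(ZMod.natCast_eq_zero_iff _ _).mpr hd, zero_mul]
    · simp
    · simp
  have hexp : ∀ x : ↥((g • Q : Sylow p ↥(Cfsg.qd p)) : Subgroup ↥(Cfsg.qd p)), x ^ p = 1 :=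
    fun x => e.symm.injective ((map_pow e.symm x p).trans ((hexpU _).trans (map_one e.symm).symm))
  let a : ↥(U (p := p)) := ⟨um (0, 0, 1), _, rfl⟩
  let b : ↥(U (p := p)) := ⟨um (0, 1, 0), _, rfl⟩
  have hab : a * b ≠ b * a := by
    intro h
    have h1 : um ((0 : ZMod p), (0 : ZMod p), (1 : ZMod p)) * um (0, 1, 0) =
      um (0, 1, 0) * um (0, 0, 1) := congrArg Subtype.val h
    rw [um_mul, um_mul] at h1
    have h2 := congrArg Prod.fst (um_inj h1)
    simp at h2
  refine ⟨extraspecial_of_card_pow_three hPc hexp (a := e a) (b := e b)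
    (fun h => hab (e.injective (by rw [map_mul, map_mul, h]))), hPc, ?_⟩
  refine (Nat.dvd_prime hp').mp (Monoid.exponent_dvd_of_forall_pow_eq_one hexp) |>.resolve_left ?_
  intro h
  rw [Monoid.exp_eq_one_iff] at h
  have := Nat.card_eq_one_iff_unique.mpr ⟨h, ⟨1⟩⟩
  rw [hPc] at this
  exact absurd this (Nat.one_lt_pow (by omega) hp'.one_lt).ne'


end Cfsg.Agent.S3074
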