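import Cfsg.Statements.S3075
import Mathlib
-- import your own Cfsg.Agent.* helpers here

set_option autoImplicit false
open Cfsg

namespace Cfsg.Agent.S3075

theorem exists_zpow_of_card_prime {N : Type*} [Group N] {p : ℕ} [Fact p.Prime] {K : Subgroup N}
    (hK : Nat.card K = p) {c : N} (hc : c ∈ K) (hc1 : c ≠ 1) {d : N} (hd : d ∈ K) :
    ∃ k : ℤ, c ^ k = d := by
  obtain ⟨k, hk⟩ := Subgroup.mem_zpowers_iff.mp
    (mem_zpowers_of_prime_card hK (g := (⟨c, hc⟩ : K)) (g' := (⟨d, hd⟩ : K))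
      (fun h => hc1 (congrArg Subtype.val h)))
  exact ⟨k, congrArg Subtype.val hk⟩


/-- Let p be an odd prime and N a finite group with a normal elementary abelian subgroup A of order p² that is its own centralizer in N, such that N/A is isomorphic to SL₂(p) (over any field F with p elements). Then N splits over A: some subgroup U of N satisfies A ∩ U = 1 and AU = N. -/
theorem result {N : Type*} [Group N] [Finite N] {p : ℕ} [Fact p.Prime] (hp : p ≠ 2)
    (A : Subgroup N) [A.Normal] (hAcomm : IsMulCommutative A) (hAcard : Nat.card A = p ^ 2) (hAexp : Monoid.exponent ↥A = p)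
    (hAself : Subgroup.centralizer (A : Set N) = A)
    {F : Type*} [Field F] [Fintype F] (hF : Fintype.card F = p) (e : N ⧸ A ≃* Matrix.SpecialLinearGroup (Fin 2) F) :
    ∃ U : Subgroup N, A ⊓ U = ⊥ ∧ A ⊔ U = ⊤ := by
  have hp2 : 3 ≤ p := by have := (Fact.out : p.Prime).two_le; omega
  obtain ⟨j, hj⟩ : ∃ j, p = 2 * j + 1 := ((Fact.out : p.Prime).odd_of_ne_two hp)
  have hApow : ∀ a ∈ A, a ^ p = 1 := fun a ha => by
    have h := Monoid.pow_exponent_eq_one (⟨a, ha⟩ : ↥A)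
    rw [hAexp] at h
    exact congrArg Subtype.val h
  have hcomm : ∀ a ∈ A, ∀ b ∈ A, a * b = b * a := fun a ha b hb =>
    congrArg Subtype.val (hAcomm.is_comm.comm (⟨a, ha⟩ : A) ⟨b, hb⟩)
  have hsqrt : ∀ a ∈ A, (a ^ 2) ^ (j + 1) = a := fun a ha => by
    rw [← pow_mul, show 2 * (j + 1) = p + 1 by omega, pow_succ, hApow a ha, one_mul]
  have hF2 : (2 : F) ≠ 0 := by
    intro h
    have h' : addOrderOf (1 : F) ∣ 2 := addOrderOf_dvd_of_nsmul_eq_zero (by rw [nsmul_one]; exact_mod_cast h)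
    have h'' : addOrderOf (1 : F) ∣ p := hF ▸ addOrderOf_dvd_card
    rcases (Nat.dvd_prime Nat.prime_two).mp h' with h1 | h1
    · exact one_ne_zero (AddMonoid.addOrderOf_eq_one_iff.mp h1)
    · exact hp ((Nat.prime_dvd_prime_iff_eq Nat.prime_two Fact.out).mp (h1 ▸ h'')).symm
  -- `-1` lifts to an element of order two
  set m : Matrix.SpecialLinearGroup (Fin 2) F := -1 with hm
  have hmm : m * m = 1 := by rw [hm]; simp
  have hm1 : m ≠ 1 := by
    intro h
    have h00 := congrArg (fun M : Matrix.SpecialLinearGroup (Fin 2) F => (M : Matrix (Fin 2) (Fin 2) F) 0 0) h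
    simp [hm] at h00
    exact hF2 (by linear_combination (-1 : F) * h00)
  obtain ⟨n0, hn0⟩ := QuotientGroup.mk_surjective (e.symm m)
  have hn0A : n0 * n0 ∈ A := by
    rw [← QuotientGroup.eq_one_iff, QuotientGroup.mk_mul, hn0, ← map_mul, hmm, map_one]
  set t := n0 ^ p with ht
  have htt : t * t = 1 := by
    rw [ht, ← (Commute.refl n0).mul_pow, hApow _ hn0A]
  have hti : t⁻¹ = t := inv_eq_of_mul_eq_one_right htt
  have htq : ((t : N) : N ⧸ A) = e.symm m := by
    rw [ht, QuotientGroup.mk_pow, hn0, ← map_pow, hj, pow_succ, pow_mul, sq, hmm, one_pow, one_mul]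
  have htA : t ∉ A := by
    rw [← QuotientGroup.eq_one_iff, htq, ← map_one e.symm]
    exact fun h => hm1 (e.symm.injective h)
  have hcen : ∀ n : N, n * t * n⁻¹ * t⁻¹ ∈ A := by
    intro n
    rw [← QuotientGroup.eq_one_iff]
    apply e.injective
    simp only [QuotientGroup.mk_mul, QuotientGroup.mk_inv, map_mul, map_inv, htq,
      MulEquiv.apply_symm_apply, map_one]
    rw [mul_inv_eq_one, mul_inv_eq_iff_eq_mul, hm, mul_neg, neg_mul, mul_one, one_mul]
  have hτA : ∀ a ∈ A, t * a * t ∈ A := fun a ha => by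
    have := Subgroup.Normal.conj_mem ‹A.Normal› a ha t
    rwa [hti] at this
  have hττ : ∀ a, t * (t * a * t) * t = a := fun a => by
    rw [show t * (t * a * t) * t = (t * t) * a * (t * t) by group, htt, one_mul, mul_one]
  -- conjugation commutes with the action of `t` on `A`
  have hnat : ∀ n : N, ∀ a ∈ A, t * (n * a * n⁻¹) * t = n * (t * a * t) * n⁻¹ := by
    intro n a ha
    set d := n * t * n⁻¹ * t⁻¹ with hd
    have hnt : n * t * n⁻¹ = d * t := by rw [hd, inv_mul_cancel_right]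
    have hbA : n * a * n⁻¹ ∈ A := Subgroup.Normal.conj_mem ‹A.Normal› a ha n
    calc t * (n * a * n⁻¹) * t = d * (t * (n * a * n⁻¹) * t) * d⁻¹ := by
          rw [hcomm d (hcen n) _ (hτA _ hbA), mul_inv_cancel_right]
      _ = (d * t) * (n * a * n⁻¹) * (d * t)⁻¹ := by rw [mul_inv_rev d t, hti]; simp only [mul_assoc]
      _ = _ := by
          simp only [← hnt, mul_inv_rev, inv_inv, hti, mul_assoc, inv_mul_cancel_left]
  -- `t` inverts `A`
  let C : Subgroup N :=
    { carrier := {a | a ∈ A ∧ t * a * t = a}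
      one_mem' := ⟨one_mem _, by rw [mul_one, htt]⟩
      mul_mem' := fun {a b} ha hb => ⟨mul_mem ha.1 hb.1, by
        calc t * (a * b) * t = (t * a * t) * (t⁻¹ * t⁻¹) * (t * b * t) := by group
          _ = a * b := by rw [hti, htt, ha.2, hb.2, mul_one]⟩
      inv_mem' := fun {a} ha => ⟨inv_mem ha.1, by
        conv_rhs => rw [← ha.2, mul_inv_rev, mul_inv_rev, hti, ← mul_assoc]⟩ }
  let D : Subgroup N :=
    { carrier := {a | a ∈ A ∧ t * a * t = a⁻¹}
      one_mem' := ⟨one_mem _, by rw [mul_one, htt, inv_one]⟩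
      mul_mem' := fun {a b} ha hb => ⟨mul_mem ha.1 hb.1, by
        calc t * (a * b) * t = (t * a * t) * (t⁻¹ * t⁻¹) * (t * b * t) := by group
          _ = a⁻¹ * b⁻¹ := by rw [hti, htt, ha.2, hb.2, mul_one]
          _ = (a * b)⁻¹ := by rw [hcomm _ (inv_mem ha.1) _ (inv_mem hb.1), mul_inv_rev]⟩
      inv_mem' := fun {a} ha => ⟨inv_mem ha.1, by
        conv_rhs => rw [← ha.2, mul_inv_rev, mul_inv_rev, hti, ← mul_assoc]⟩ }
  have hx : ∀ a ∈ A, a * (t * a * t) ∈ C := fun a ha => ⟨mul_mem ha (hτA a ha), by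
    calc t * (a * (t * a * t)) * t = (t * a * t) * (t⁻¹ * t⁻¹) * (t * (t * a * t) * t) := by group
      _ = (t * a * t) * a := by rw [hti, htt, hττ, mul_one]
      _ = _ := hcomm _ (hτA a ha) _ ha⟩
  have hy : ∀ a ∈ A, a * (t * a * t)⁻¹ ∈ D := fun a ha => ⟨mul_mem ha (inv_mem (hτA a ha)), by
    have h1 : t * (t * a * t)⁻¹ * t = a⁻¹ := by
      nth_rw 1 [← hti]; nth_rw 4 [← hti]
      rw [← mul_inv_rev, ← mul_inv_rev, ← mul_assoc, hττ]
    calc t * (a * (t * a * t)⁻¹) * t = (t * a * t) * (t⁻¹ * t⁻¹) * (t * (t * a * t)⁻¹ * t) := by group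
      _ = (t * a * t) * a⁻¹ := by rw [hti, htt, h1, mul_one]
      _ = _ := by rw [mul_inv_rev, inv_inv]⟩
  have hCD : ∀ a, a ∈ C → a ∈ D → a = 1 := fun a hC hD => by
    have h : a = a⁻¹ := hC.2.symm.trans hD.2
    have h2 : a ^ 2 = 1 := by rw [sq]; nth_rw 2 [h]; exact mul_inv_cancel a
    rw [← hsqrt a hC.1, h2, one_pow]
  have hinv : ∀ a ∈ A, t * a * t = a⁻¹ := by
    by_cases hC : ∀ a ∈ C, a = 1
    · intro a ha
      exact eq_inv_of_mul_eq_one_left ((hcomm _ (hτA a ha) _ ha).trans (hC _ (hx a ha)))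
    exfalso
    push Not at hC
    obtain ⟨c, hc, hc1⟩ := hC
    obtain ⟨d, hd, hd1⟩ : ∃ d ∈ D, d ≠ 1 := by
      by_contra h
      push Not at h
      refine htA (hAself ▸ Subgroup.mem_centralizer_iff.mpr fun a ha => ?_)
      have h1 := mul_inv_eq_one.mp (h _ (hy a ha))
      nth_rw 1 [h1]
      rw [mul_assoc, htt, mul_one]
    have hcard : ∀ K : Subgroup N, K ≤ A → ∀ c ∈ K, c ≠ 1 → ∀ d ∈ A, d ∉ K → Nat.card K = p := by
      intro K hKA c hcK hc1 d hdA hdK
      obtain ⟨i, hi, hcard⟩ := (Nat.dvd_prime_pow (Fact.out : p.Prime)).mp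
        (hAcard ▸ Subgroup.card_dvd_of_le hKA)
      interval_cases i
      · rw [pow_zero, Subgroup.card_eq_one] at hcard
        exact absurd (Subgroup.mem_bot.mp (hcard ▸ hcK)) hc1
      · rw [hcard, pow_one]
      · exact absurd ((Subgroup.eq_of_le_of_card_ge hKA (by rw [hcard, hAcard])).symm ▸ hdA) hdK
    have hCA : C ≤ A := fun a ha => ha.1
    have hDA : D ≤ A := fun a ha => ha.1
    have hCp := hcard C hCA c hc hc1 d hd.1 fun h => hd1 (hCD d h hd)
    have hDp := hcard D hDA d hd hd1 c hc.1 fun h => hc1 (hCD c hc h)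
    have hCn : ∀ n a, a ∈ C → n * a * n⁻¹ ∈ C := fun n a ha =>
      ⟨Subgroup.Normal.conj_mem ‹A.Normal› a ha.1 n, by rw [hnat n a ha.1, ha.2]⟩
    have hDn : ∀ n a, a ∈ D → n * a * n⁻¹ ∈ D := fun n a ha =>
      ⟨Subgroup.Normal.conj_mem ‹A.Normal› a ha.1 n, by
        rw [hnat n a ha.1, ha.2]; group⟩
    have hfix : ∀ (K : Subgroup N), Nat.card K = p → (∀ n a, a ∈ K → n * a * n⁻¹ ∈ K) →
        ∀ u v : N, ∀ z ∈ K, u * (v * z * v⁻¹) * u⁻¹ = v * (u * z * u⁻¹) * v⁻¹ := by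
      intro K hK hKn u v z hz
      by_cases hz1 : z = 1
      · subst hz1; simp
      obtain ⟨i, hi⟩ := exists_zpow_of_card_prime hK hz hz1 (hKn u z hz)
      obtain ⟨k, hk⟩ := exists_zpow_of_card_prime hK hz hz1 (hKn v z hz)
      rw [← hk, ← hi, ← conj_zpow, ← conj_zpow, ← hi, ← hk, ← zpow_mul, ← zpow_mul, mul_comm]
    have hab : ∀ u v : N, u⁻¹ * v⁻¹ * (u * v) ∈ A := by
      intro u v
      rw [← hAself, Subgroup.mem_centralizer_iff]
      intro a ha
      set w := u⁻¹ * v⁻¹ * (u * v) with hw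
      have key : ∀ (K : Subgroup N), Nat.card K = p → (∀ n a, a ∈ K → n * a * n⁻¹ ∈ K) →
          ∀ z ∈ K, w * z * w⁻¹ = z := by
        intro K hK hKn z hz
        calc w * z * w⁻¹ = u⁻¹ * (v⁻¹ * (u * (v * z * v⁻¹) * u⁻¹) * v) * u := by rw [hw]; group
          _ = u⁻¹ * (v⁻¹ * (v * (u * z * u⁻¹) * v⁻¹) * v) * u := by rw [hfix K hK hKn u v z hz]
          _ = z := by group
      have h2 : a ^ 2 = (a * (t * a * t)) * (a * (t * a * t)⁻¹) := by
        rw [sq, show a * (t * a * t) = (t * a * t) * a from hcomm _ ha _ (hτA a ha), mul_assoc (t * a * t),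
          ← mul_assoc a a, hcomm _ (mul_mem ha ha) _ (inv_mem (hτA a ha)), mul_inv_cancel_left]
      have h3 : w * a ^ 2 * w⁻¹ = a ^ 2 := by
        rw [h2, ← conj_mul, key C hCp hCn _ (hx a ha), key D hDp hDn _ (hy a ha)]
      have h4 : w * a * w⁻¹ = a := by
        rw [← hsqrt a ha, ← conj_pow, h3]
      conv_lhs => rw [← h4]
      rw [inv_mul_cancel_right]
    have hcom : ∀ P Q : Matrix.SpecialLinearGroup (Fin 2) F, P * Q = Q * P := by
      intro P Q
      obtain ⟨u, hu⟩ := QuotientGroup.mk_surjective (e.symm P)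
      obtain ⟨v, hv⟩ := QuotientGroup.mk_surjective (e.symm Q)
      have h := congrArg e ((QuotientGroup.eq_one_iff _).mpr (hab u v))
      simp only [QuotientGroup.mk_mul, QuotientGroup.mk_inv, map_mul, map_inv, map_one, hu, hv,
        MulEquiv.apply_symm_apply] at h
      calc P * Q = Q * P * (P⁻¹ * Q⁻¹ * (P * Q)) := by group
        _ = Q * P := by rw [h, mul_one]
    have h := congrArg (fun M : Matrix.SpecialLinearGroup (Fin 2) F => (M : Matrix (Fin 2) (Fin 2) F) 0 0)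
      (hcom ⟨!![1, 1; 0, 1], by simp [Matrix.det_fin_two]⟩ ⟨!![1, 0; 1, 1], by simp [Matrix.det_fin_two]⟩)
    change HMul.hMul (α := Matrix (Fin 2) (Fin 2) F) (β := Matrix (Fin 2) (Fin 2) F)
        (γ := Matrix (Fin 2) (Fin 2) F) !![1, 1; 0, 1] !![1, 0; 1, 1] 0 0 =
      HMul.hMul (α := Matrix (Fin 2) (Fin 2) F) (β := Matrix (Fin 2) (Fin 2) F)
        (γ := Matrix (Fin 2) (Fin 2) F) !![1, 0; 1, 1] !![1, 1; 0, 1] 0 0 at h
    simp [Matrix.mul_apply, Fin.sum_univ_two] at h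
  refine ⟨Subgroup.centralizer ({t} : Set N), ?_, ?_⟩
  · rw [eq_bot_iff]
    rintro a ⟨ha, hat⟩
    refine hCD a ⟨ha, ?_⟩ ⟨ha, hinv a ha⟩
    rw [Subgroup.mem_centralizer_iff.mp hat t rfl, mul_assoc, htt, mul_one]
  · rw [eq_top_iff]
    intro n _
    set a := n * t * n⁻¹ * t⁻¹ with hadef
    have ha : a ∈ A := hcen n
    set b := a ^ (j + 1) with hb
    have hbA : b ∈ A := pow_mem ha _
    have hbb : b * b = a := by rw [hb, ← pow_add, ← two_mul, pow_mul, hsqrt a ha]
    have hbt : t * b⁻¹ * t = b := by rw [hinv _ (inv_mem hbA), inv_inv]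
    have hbt' : b * t * b⁻¹ = n * t * n⁻¹ := by
      calc b * t * b⁻¹ = b * (t * b⁻¹ * t) * t⁻¹ := by group
        _ = b * b * t := by rw [hbt, hti]
        _ = n * t * n⁻¹ := by rw [hbb, hadef, inv_mul_cancel_right]
    rw [show n = b * (b⁻¹ * n) by group]
    refine mul_mem (Subgroup.mem_sup_left hbA) (Subgroup.mem_sup_right ?_)
    rw [Subgroup.mem_centralizer_iff]
    rintro _ rfl
    calc t * (b⁻¹ * n) = b⁻¹ * (b * t * b⁻¹) * n := by group
      _ = (b⁻¹ * n) * t := by rw [hbt']; group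

end Cfsg.Agent.S3075
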