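import Cfsg.Statements.S3080
import Cfsg.Agent.Lib.GlaubermanControl
-- import your own Cfsg.Agent.* helpers here

set_option autoImplicit false
open Cfsg

namespace Cfsg.Agent.S3080

universe u

open GlaubermanControl in
theorem ctrl_thomY {G : Type u} [Group G] [Finite G] {p n : ℕ} [Fact p.Prime] (hp : p ≠ 2)
    (hn : n = 0 ∨ n = p) (F : Functor'.{u} p)
    (hF : ∀ {X : Type u} [Group X] (D : Subgroup X),
      Subgroup.normalizer (GlaubermanZJ.thomY n D : Set X) ≤ Subgroup.normalizer (F.W D : Set X))
    (P : Sylow p G) (D : Subgroup G) (hD : Cfsg.IsStronglyClosed D (P : Subgroup G))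
    (hst : Cfsg.IsNormalizerPStable p G)
    (hc : ∀ U : Subgroup G, U ≤ (P : Subgroup G) → U ≠ ⊥ →
      Cfsg.IsPConstrained p ↥(Subgroup.normalizer (U : Set G))) :
    Ctrl (P : Subgroup G) (F.W D) := by
  refine ctrl_of_local F P hD fun U hUP hU0 hfn T g hg hT hgT => ?_
  refine local_ctrl F P hD _ (TransferAlperin.not_dvd_relIndex_of_isFullyNormalized P hfn) ?_
    T g hg hT hgT
  set H := Subgroup.normalizer (U : Set G)
  intro R D' hD'
  have hstH := GlaubermanStable.isNormalizerPStable_subgroup hst H
  have hker : (Nat.card (QuotientGroup.mk' (Cfsg.pPrimeCore p H)).ker).Coprime p := by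
    rw [QuotientGroup.ker_mk']
    exact HallCore.coprime_card_pPrimeCore p H
  have h1 := GlaubermanQuotient.sup_normalizer_thomY (n := n) hp hn
    (fun B _ hB => GlaubermanZJ.isPStableOn_of_isNormalizerPStable
      (GlaubermanStable.isNormalizerPStable_of_surjective (QuotientGroup.mk'_surjective _) hker hstH)
      B hB) (hc U hUP hU0) R hD'
  refine ctrl_of_sup R _ (HallCore.coprime_card_pPrimeCore p H) ((F.W_le D').trans hD'.1)
    ((GlaubermanZJ.le_normalizer_of_isStronglyClosed hD').trans (F.normalizer_le D')) ?_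
  rw [← top_le_iff, ← h1]
  exact sup_le le_sup_left ((hF D').trans le_sup_right)

/-- Let p be an odd prime, G a finite group that is p-stable in the normalizer form, P a Sylow p-subgroup such that N_G(U) is p-constrained for every nontrivial subgroup U of P, and D a subgroup of P strongly closed in P with respect to G. Then N_G(Z(J(D))) controls strong G-fusion in P (for every subset A of P and every g ∈ G with gAg⁻¹ ⊆ P, some element of that normalizer acts on A exactly as g does; J(D) is generated by the abelian subgroups of D of largest order), and so does N_G(Ω₁(Z(J_e(D)))) (J_e(D) generated by the elementary abelian subgroups of largest order). -/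
theorem result {G : Type*} [Group G] [Finite G] {p : ℕ} [Fact p.Prime] (hp : p ≠ 2) (P : Sylow p G) (D : Subgroup G) (hD : Cfsg.IsStronglyClosed D (P : Subgroup G)) (hst : Cfsg.IsNormalizerPStable p G) (hc : ∀ U : Subgroup G, U ≤ (P : Subgroup G) → U ≠ ⊥ → Cfsg.IsPConstrained p ↥(Subgroup.normalizer (U : Set G))) : (∀ A : Set G, A ⊆ (P : Subgroup G) → Cfsg.ControlsStrongFusionOf (Subgroup.normalizer ((Cfsg.centerThompsonAOf D) : Set G)) (P : Subgroup G) A) ∧ (∀ A : Set G, A ⊆ (P : Subgroup G) → Cfsg.ControlsStrongFusionOf (Subgroup.normalizer ((Cfsg.omegaOne p (Cfsg.centerThompsonOf p D)) : Set G)) (P : Subgroup G) A) := by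
  rw [GlaubermanZJ.centerThompsonAOf_eq, GlaubermanZJ.centerThompsonOf_eq]
  exact ⟨fun A hA => (ctrl_thomY hp (Or.inl rfl) (GlaubermanControl.yZero p) (fun D => le_rfl)
      P D hD hst hc).controls A hA,
    fun A hA => (ctrl_thomY hp (Or.inr rfl) (GlaubermanControl.omegaPrime p)
      (fun D => GlaubermanZJ.normalizer_le_omegaOne p _) P D hD hst hc).controls A hA⟩
end Cfsg.Agent.S3080
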