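import Cfsg.Statements.S3084
import Cfsg.Agent.Lib.TwistedAlgebra
import Cfsg.Agent.Lib.PGroupsBasic

set_option autoImplicit false
open Cfsg

namespace Cfsg.Agent.S3084

open TwistedAlgebra
open scoped commutatorElement

variable {m : ℕ}

/-- A bilinear form with prescribed diagonal. -/
theorem exists_form (q : QuadraticForm (ZMod 2) (Fin m → ZMod 2)) :
    ∃ β : Form m, (∀ u, β u u = q u) ∧
      ∀ u v, β u v + β v u = QuadraticMap.polarBilin q u v := by
  obtain ⟨β, hβ⟩ : ∃ β : Form m, ∀ u, β u u = q u :=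
    ⟨QuadraticMap.toBilin q (Pi.basisFun (ZMod 2) (Fin m)), fun u =>
      congrFun (congrArg DFunLike.coe
        (QuadraticMap.toQuadraticMap_toBilin q (Pi.basisFun (ZMod 2) (Fin m)))) u⟩
  refine ⟨β, hβ, fun u v => ?_⟩
  show _ = q (u + v) - q u - q v
  rw [← hβ, ← hβ, ← hβ]
  simp only [map_add, LinearMap.add_apply]
  abel

/-- An alternating form is the polar of a quadratic function. -/
theorem exists_quad (D : Form m) (hD : ∀ u, D u u = 0) :
    ∃ c : (Fin m → ZMod 2) → ZMod 2, ∀ u v, c (u + v) = c u + c v + D u v := by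
  have hsym : ∀ u v, D u v = D v u := by
    intro u v
    have h := hD (u + v)
    simp only [map_add, LinearMap.add_apply, hD, zero_add, add_zero] at h
    have e : ∀ a b : ZMod 2, a + b = 0 → a = b := by decide
    exact (e _ _ h).symm
  let b := Pi.basisFun (ZMod 2) (Fin m)
  let E : Form m := b.constr (ZMod 2) fun i => b.constr (ZMod 2) fun j => if i < j then D (b i) (b j) else 0
  have hE : ∀ i j, E (b i) (b j) = if i < j then D (b i) (b j) else 0 := fun i j => by
    simp only [E, Module.Basis.constr_basis]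
  have h : E + E.flip = D := by
    refine b.ext fun i => b.ext fun j => ?_
    rw [LinearMap.add_apply, LinearMap.add_apply, LinearMap.flip_apply, hE, hE]
    rcases lt_trichotomy i j with h | rfl | h
    · rw [if_pos h, if_neg (asymm h), add_zero]
    · rw [if_neg (lt_irrefl i), hD, add_zero]
    · rw [if_neg (asymm h), if_pos h, zero_add, hsym]
  refine ⟨fun u => E u u, fun u v => ?_⟩
  rw [← h]
  simp only [map_add, LinearMap.add_apply, LinearMap.flip_apply]
  abel

variable {β : Form m}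

theorem mon_sgn_ne (s : ZMod 2) : sgn s ≠ 0 := sgn_ne_zero s

theorem sgn_sgn_inv (s : ZMod 2) (u : Fin m → ZMod 2) :
    (mon (sgn s) u : Tw β) * mon (sgn (s + β u u)) u = 1 := by
  rw [mon_mul_mon, one_def, add_self]
  congr 1
  rw [← sgn_add, ← sgn_add, ← sgn_zero]
  congr 1
  linear_combination zmod_two_sq s + zmod_two_sq (β u u)

theorem sgn_inv_sgn (s : ZMod 2) (u : Fin m → ZMod 2) :
    (mon (sgn (s + β u u)) u : Tw β) * mon (sgn s) u = 1 := by
  rw [mon_mul_mon, one_def, add_self]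
  congr 1
  rw [← sgn_add, ← sgn_add, ← sgn_zero]
  congr 1
  linear_combination zmod_two_sq s + zmod_two_sq (β u u)

/-- Signed monomials as units. -/
def sm (s : ZMod 2) (u : Fin m → ZMod 2) : (Tw β)ˣ :=
  ⟨mon (sgn s) u, mon (sgn (s + β u u)) u, sgn_sgn_inv s u, sgn_inv_sgn s u⟩

theorem sm_mul (s t : ZMod 2) (u v : Fin m → ZMod 2) :
    (sm s u : (Tw β)ˣ) * sm t v = sm (β u v + (s + t)) (u + v) := by
  refine Units.ext ?_
  show (mon (sgn s) u : Tw β) * mon (sgn t) v = _
  rw [mon_mul_mon, ← sgn_add, ← sgn_add]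
  rfl

theorem sm_inj {s t : ZMod 2} {u v : Fin m → ZMod 2} (h : (sm s u : (Tw β)ˣ) = sm t v) :
    s = t ∧ u = v := by
  obtain ⟨h1, h2⟩ := mon_inj (sgn_ne_zero s) (congrArg Units.val h)
  exact ⟨sgn_inj _ _ h2, h1⟩

theorem sm_one : (sm 0 0 : (Tw β)ˣ) = 1 := Units.ext rfl

theorem sm_split (s : ZMod 2) (x : Fin m → ZMod 2) :
    (sm s x : (Tw β)ˣ) = sm s 0 * sm 0 x := by
  rw [sm_mul, map_zero, LinearMap.zero_apply, zero_add, add_zero, zero_add]

theorem sm_zero_comm (r : (Tw β)ˣ) (s : ZMod 2) : r * sm s 0 = sm s 0 * r := by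
  refine Units.ext (funext fun x => ?_)
  show ((r : Tw β) * mon (sgn s) 0 : Tw β) x = ((mon (sgn s) 0 : Tw β) * (r : Tw β) : Tw β) x
  rw [mul_mon_apply, mon_mul_apply, zero_add, map_zero, map_zero, LinearMap.zero_apply,
    sgn_zero, one_mul, one_mul, mul_comm]

theorem sm_comm_sm (s t : ZMod 2) (u v : Fin m → ZMod 2) :
    (sm s u : (Tw β)ˣ) * sm t v = sm (β u v + β v u) 0 * (sm t v * sm s u) := by
  rw [sm_mul, sm_mul, sm_mul, map_zero, LinearMap.zero_apply, zero_add, zero_add, add_comm v u]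
  congr 1
  linear_combination -(zmod_two_sq (β v u))

/-- The signed monomials. -/
def monGroup (β : Form m) : Subgroup (Tw β)ˣ where
  carrier := Set.range fun x : ZMod 2 × (Fin m → ZMod 2) => sm x.1 x.2
  one_mem' := ⟨(0, 0), sm_one⟩
  mul_mem' := by rintro _ _ ⟨x, rfl⟩ ⟨y, rfl⟩; exact ⟨(_, _), (sm_mul x.1 y.1 x.2 y.2).symm⟩
  inv_mem' := by
    rintro _ ⟨x, rfl⟩
    exact ⟨(x.1 + β x.2 x.2, x.2), Units.ext rfl⟩

/-- The sign-and-exponent decomposition of a signed monomial. -/
noncomputable def monEquiv (β : Form m) : ZMod 2 × (Fin m → ZMod 2) ≃ monGroup β :=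
  Equiv.ofBijective (fun x => ⟨sm x.1 x.2, x, rfl⟩)
    ⟨fun x y h => by
      obtain ⟨h1, h2⟩ := sm_inj (congrArg Subtype.val h)
      exact Prod.ext h1 h2,
    fun ⟨_, x, rfl⟩ => ⟨x, rfl⟩⟩

theorem monEquiv_apply (x : ZMod 2 × (Fin m → ZMod 2)) :
    ((monEquiv β x : monGroup β) : (Tw β)ˣ) = sm x.1 x.2 := rfl

theorem card_monGroup : Nat.card (monGroup β) = 2 ^ (m + 1) := by
  rw [← Nat.card_congr (monEquiv β), Nat.card_prod, Nat.card_zmod, Nat.card_fun, Nat.card_zmod,
    Nat.card_fin, pow_succ']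

theorem extraspecial_monGroup (hnd : Nd β) (hm : 0 < m) :
    Cfsg.IsExtraspecial 2 (monGroup β) ∧
      ∀ x, monEquiv β x ∈ Subgroup.center (monGroup β) ↔ x.2 = 0 := by
  haveI : Fact (Nat.Prime 2) := ⟨Nat.prime_two⟩
  set Q := monGroup β
  have hcen : ∀ x, monEquiv β x ∈ Subgroup.center Q ↔ x.2 = 0 := by
    intro x
    rw [Subgroup.mem_center_iff]
    constructor
    · intro h
      refine hnd _ fun v => ?_
      have h1 : (sm 0 v : (Tw β)ˣ) * sm x.1 x.2 = sm x.1 x.2 * sm 0 v :=
        congrArg Subtype.val (h ⟨sm 0 v, (0, v), rfl⟩)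
      rw [sm_mul, sm_mul] at h1
      have h2 := (sm_inj h1).1
      rw [zero_add, add_zero] at h2
      have h3 := add_right_cancel h2
      rw [h3, zmod_two_sq]
    · intro h y
      obtain ⟨z, rfl⟩ := (monEquiv β).surjective y
      apply Subtype.ext
      show (sm z.1 z.2 : (Tw β)ˣ) * sm x.1 x.2 = sm x.1 x.2 * sm z.1 z.2
      rw [sm_mul, sm_mul, h, map_zero, map_zero, LinearMap.zero_apply, add_comm z.1,
        add_comm z.2]
  have hcardZ : Nat.card (Subgroup.center Q) = 2 := by
    let g : ZMod 2 → Subgroup.center Q := fun s => ⟨monEquiv β (s, 0), (hcen (s, 0)).mpr rfl⟩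
    have hg : Function.Bijective g := by
      refine ⟨fun s t h => ?_, fun z => ?_⟩
      · exact congrArg Prod.fst ((monEquiv β).injective (congrArg Subtype.val h))
      · obtain ⟨x, hx⟩ := (monEquiv β).surjective z.1
        have hx0 := (hcen x).mp (hx ▸ z.2)
        exact ⟨x.1, Subtype.ext ((congrArg (monEquiv β) (Prod.ext rfl hx0.symm : ((x.1, 0) : ZMod 2 × (Fin m → ZMod 2)) = x)).trans hx)⟩
    rw [← Nat.card_eq_of_bijective g hg, Nat.card_zmod]
  have hp : IsPGroup 2 Q := IsPGroup.of_card card_monGroup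
  have hmul : ∀ x y : ZMod 2 × (Fin m → ZMod 2), monEquiv β x * monEquiv β y =
      monEquiv β (β x.2 y.2 + (x.1 + y.1), x.2 + y.2) := fun x y => Subtype.ext (sm_mul _ _ _ _)
  have hpow : ∀ a : Q, a ^ 2 ∈ Subgroup.center Q := fun a => by
    obtain ⟨x, rfl⟩ := (monEquiv β).surjective a
    rw [pow_two, hmul, hcen]
    exact add_self x.2
  have hcomm : ∀ x y : ZMod 2 × (Fin m → ZMod 2), ⁅monEquiv β x, monEquiv β y⁆ =
      monEquiv β (β x.2 y.2 + β y.2 x.2, 0) := by
    intro x y
    rw [commutatorElement_def, mul_inv_eq_iff_eq_mul, mul_inv_eq_iff_eq_mul]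
    apply Subtype.ext
    simp only [Subgroup.coe_mul, monEquiv_apply]
    rw [mul_assoc]
    exact sm_comm_sm _ _ _ _
  have hle : commutator Q ≤ Subgroup.center Q := by
    rw [commutator_def, Subgroup.commutator_le]
    intro a _ b _
    obtain ⟨x, rfl⟩ := (monEquiv β).surjective a
    obtain ⟨y, rfl⟩ := (monEquiv β).surjective b
    rw [hcomm, hcen]
  have hne : commutator Q ≠ ⊥ := by
    intro h
    let u : Fin m → ZMod 2 := Pi.single ⟨0, hm⟩ 1
    have hu : u = 0 := by
      refine hnd u fun v => ?_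
      have h1 : ⁅monEquiv β (0, u), monEquiv β (0, v)⁆ = 1 :=
        (Subgroup.mem_bot.mp (h ▸ (commutator_def Q ▸ Subgroup.commutator_mem_commutator
          (Subgroup.mem_top _) (Subgroup.mem_top _))))
      rw [hcomm] at h1
      have h2 := congrArg Subtype.val h1
      rw [monEquiv_apply, OneMemClass.coe_one, ← sm_one] at h2
      exact (sm_inj h2).1
    have := congrFun hu ⟨0, hm⟩
    simp [u] at this
  have heq : commutator Q = Subgroup.center Q := by
    refine Subgroup.eq_of_le_of_card_ge hle ?_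
    have h1 := Subgroup.card_dvd_of_le hle
    rw [hcardZ] at h1 ⊢
    rcases (Nat.dvd_prime Nat.prime_two).mp h1 with h2 | h2
    · exact absurd (Subgroup.card_eq_one.mp h2) hne
    · exact h2.ge
  exact ⟨⟨⟨hp, le_antisymm (PGroupsBasic.frattini_le_of_elementary_quotient (p := 2) hle hpow)
    (heq ▸ PGroupsBasic.commutator_le_frattini hp), heq⟩, hcardZ⟩, hcen⟩

theorem isExtraspecial_congr {P P' : Type*} [Group P] [Group P'] {p : ℕ} (e : P ≃* P')
    (h : Cfsg.IsExtraspecial p P) : Cfsg.IsExtraspecial p P' := by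
  obtain ⟨⟨hp, hf, hd⟩, hc⟩ := h
  have hcen : (Subgroup.center P).map e.toMonoidHom = Subgroup.center P' := by
    refine le_antisymm ?_ fun x hx => ⟨e.symm x, ?_, e.apply_symm_apply x⟩
    · rintro _ ⟨z, hz, rfl⟩
      rw [Subgroup.mem_center_iff]
      intro y
      show y * e z = e z * y
      rw [← e.apply_symm_apply y, ← map_mul, ← map_mul, Subgroup.mem_center_iff.mp hz (e.symm y)]
    rw [SetLike.mem_coe, Subgroup.mem_center_iff]
    intro y
    apply e.injective
    rw [map_mul, map_mul, e.apply_symm_apply]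
    exact Subgroup.mem_center_iff.mp hx (e y)
  refine ⟨⟨hp.of_equiv e, ?_, ?_⟩, ?_⟩
  · rw [← hcen, ← hf]
    apply le_antisymm
    · have h1 := frattini_le_comap_frattini_of_surjective (φ := e.symm.toMonoidHom) e.symm.surjective
      exact fun x hx => ⟨e.symm x, h1 hx, e.apply_symm_apply x⟩
    · rw [Subgroup.map_le_iff_le_comap]
      exact frattini_le_comap_frattini_of_surjective (φ := e.toMonoidHom) e.surjective
  · rw [← hcen, ← hd, commutator_def, commutator_def, Subgroup.map_commutator,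
      Subgroup.map_top_of_surjective _ e.surjective]
  · rw [← hcen, Subgroup.card_map_of_injective e.injective, hc]

/-- Let K be a group acting faithfully and linearly on a finite-dimensional vector space U of dimension 2n ≥ 2 over the field with two elements, preserving a quadratic form q whose polar bilinear form is non-degenerate and which vanishes on some n-dimensional subspace (a non-singular form of plus type). Then there is a finite group R with a normal extraspecial 2-subgroup Q of order 2^(2n+1), an isomorphism of R/Q with K, and a surjective homomorphism χ from Q onto (the additive group of) U with kernel the centre of Q, such that χ carries conjugation by any r in R to the action of the image of r in K, and an element a of Q squares to the identity exactly when q vanishes at χ(a). -/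
theorem result {K : Type*} [Group K] {U : Type*} [AddCommGroup U] [Module (ZMod 2) U] [Module.Finite (ZMod 2) U] (n : ℕ) (hn1 : 1 ≤ n) (hn : Module.finrank (ZMod 2) U = 2 * n) (ρ : Representation (ZMod 2) K U) (hρ : Function.Injective ρ) (q : QuadraticForm (ZMod 2) U) (hq : ∀ (k : K) (u : U), q (ρ k u) = q u) (hnd : (QuadraticMap.polarBilin q).Nondegenerate) (hplus : ∃ W : Submodule (ZMod 2) U, Module.finrank (ZMod 2) ↥W = n ∧ ∀ w ∈ W, q w = 0) : ∃ (R : Type) (_ : Group R) (_ : Finite R) (Q : Subgroup R) (hN : Q.Normal) (e : R ⧸ Q ≃* K) (χ : ↥Q →* Multiplicative U), Cfsg.IsExtraspecial 2 ↥Q ∧ Nat.card ↥Q = 2 ^ (2 * n + 1) ∧ Function.Surjective χ ∧ χ.ker = Subgroup.center ↥Q ∧ (∀ (r : R) (a : ↥Q), χ ⟨r * a * r⁻¹, hN.conj_mem (a : R) a.2 r⟩ = Multiplicative.ofAdd (ρ (e (r : R ⧸ Q)) (Multiplicative.toAdd (χ a)))) ∧ ∀ a : ↥Q, a * a = 1 ↔ q (Multiplicative.toAdd (χ a)) = 0 := by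
  haveI : Fact (Nat.Prime 2) := ⟨Nat.prime_two⟩
  let e : U ≃ₗ[ZMod 2] (Fin (2 * n) → ZMod 2) := LinearEquiv.ofFinrankEq _ _ (by simp [hn])
  obtain ⟨β, hβq, hβB⟩ := exists_form (q.comp e.symm.toLinearMap)
  have hB : ∀ u v, β u v + β v u = QuadraticMap.polarBilin q (e.symm u) (e.symm v) := by
    intro u v
    rw [hβB]
    simp [QuadraticMap.polar]
  have hNd : Nd β := by
    intro u hu
    have h0 : e.symm u = 0 := by
      refine hnd.1 _ fun v => ?_
      have := hu (e v)
      rwa [hB, e.symm_apply_apply] at this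
    simpa using congrArg e h0
  let g : K → (Fin (2 * n) → ZMod 2) →ₗ[ZMod 2] (Fin (2 * n) → ZMod 2) := fun k =>
    e.toLinearMap.comp ((ρ k).comp e.symm.toLinearMap)
  have gapp : ∀ k u, g k u = e (ρ k (e.symm u)) := fun k u => rfl
  have gmul : ∀ k l u, g (k * l) u = g k (g l u) := fun k l u => by
    simp [gapp, map_mul]
  have gone : ∀ u, g 1 u = u := fun u => by simp [gapp]
  have ginj : ∀ k, (∀ u, g k u = u) → k = 1 := by
    intro k hk
    apply hρ
    rw [map_one]
    refine LinearMap.ext fun x => e.injective ?_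
    have := hk (e x)
    rw [gapp, e.symm_apply_apply] at this
    simpa using this
  let Rg : Subgroup (Tw β)ˣ :=
    { carrier := {r | ∃ k : K, ∀ u, ∃ s, r * sm 0 u = sm s (g k u) * r}
      one_mem' := ⟨1, fun u => ⟨0, by rw [gone, one_mul, mul_one]⟩⟩
      mul_mem' := by
        rintro r r' ⟨k, hk⟩ ⟨l, hl⟩
        refine ⟨k * l, fun u => ?_⟩
        obtain ⟨s, hs⟩ := hl u
        obtain ⟨t, ht⟩ := hk (g l u)
        refine ⟨t + s, ?_⟩
        rw [mul_assoc, hs, ← mul_assoc, sm_split s, ← mul_assoc r, sm_zero_comm, mul_assoc (sm s 0) r, ht,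
          ← mul_assoc (sm s 0), sm_mul, map_zero, LinearMap.zero_apply, zero_add, zero_add,
          gmul, mul_assoc, add_comm t s]
      inv_mem' := by
        rintro r ⟨k, hk⟩
        refine ⟨k⁻¹, fun u => ?_⟩
        obtain ⟨s, hs⟩ := hk (g k⁻¹ u)
        refine ⟨s, ?_⟩
        rw [← gmul, mul_inv_cancel, gone] at hs
        have e3 : (sm s 0 : (Tw β)ˣ) * sm s 0 = 1 := by
          rw [sm_mul, map_zero, zmod_two_sq, add_zero, add_zero, sm_one]
        rw [inv_mul_eq_iff_eq_mul, ← mul_assoc, eq_mul_inv_iff_mul_eq, sm_split s (g k⁻¹ u),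
          ← mul_assoc, sm_zero_comm, mul_assoc, hs, sm_split s u, ← mul_assoc, ← mul_assoc, e3, one_mul] }
  have huniq : ∀ (r : (Tw β)ˣ) (k l : K), (∀ u, ∃ s, r * sm 0 u = sm s (g k u) * r) →
      (∀ u, ∃ s, r * sm 0 u = sm s (g l u) * r) → k = l := by
    intro r k l hk hl
    refine eq_of_inv_mul_eq_one (ginj _ fun u => ?_) |>.symm
    obtain ⟨s, hs⟩ := hk u
    obtain ⟨t, ht⟩ := hl u
    have h1 := (sm_inj (mul_right_cancel (hs.symm.trans ht))).2
    rw [gmul, h1, ← gmul, inv_mul_cancel, gone]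
  choose κ hκ using fun r : Rg => r.2
  let π : Rg →* K :=
    { toFun := κ
      map_one' := huniq _ _ _ (hκ 1) fun u => ⟨0, by rw [gone, OneMemClass.coe_one, one_mul, mul_one]⟩
      map_mul' := fun a b => by
        refine huniq _ _ _ (hκ (a * b)) fun u => ?_
        obtain ⟨s, hs⟩ := hκ b u
        obtain ⟨t, ht⟩ := hκ a (g (κ b) u)
        refine ⟨t + s, ?_⟩
        rw [Subgroup.coe_mul, mul_assoc, hs, ← mul_assoc, sm_split s, ← mul_assoc (a : (Tw β)ˣ), sm_zero_comm,
          mul_assoc (sm s 0) (a : (Tw β)ˣ), ht, ← mul_assoc (sm s 0), sm_mul, map_zero,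
          LinearMap.zero_apply, zero_add, zero_add, gmul, mul_assoc, add_comm t s] }
  have hmonR : monGroup β ≤ Rg := by
    rintro _ ⟨⟨s, w⟩, rfl⟩
    refine ⟨1, fun u => ⟨β w u + β u w, ?_⟩⟩
    rw [gone]
    show sm s w * sm 0 u = _
    rw [sm_mul, sm_mul, add_comm u w]
    congr 1
    linear_combination -(zmod_two_sq (β u w))
  have hker : π.ker = (monGroup β).subgroupOf Rg := by
    apply le_antisymm
    · intro r hr
      obtain ⟨s, w, hsw⟩ := eq_mon hNd (r : (Tw β)ˣ) fun u => by
        obtain ⟨t, ht⟩ := hκ r u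
        rw [show κ r = 1 from hr, gone] at ht
        exact ⟨t, congrArg Units.val ht⟩
      exact ⟨(s, w), Units.ext hsw.symm⟩
    · intro r hr
      refine huniq _ _ _ (hκ r) fun u => ?_
      obtain ⟨⟨s, w⟩, hr'⟩ := hr
      refine ⟨β w u + β u w, ?_⟩
      change sm s w = (r : (Tw β)ˣ) at hr'
      rw [gone, ← hr', sm_mul, sm_mul, add_comm u w]
      congr 1
      linear_combination -(zmod_two_sq (β u w))
  have hsurj : Function.Surjective π := by
    intro k
    let D : Form (2 * n) := β.compl₁₂ (g k) (g k) + β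
    obtain ⟨c, hc⟩ := exists_quad D fun u => by
      show β (g k u) (g k u) + β u u = 0
      rw [hβq, hβq]
      simp only [QuadraticMap.comp_apply, LinearEquiv.coe_coe, gapp, e.symm_apply_apply, hq]
      exact zmod_two_sq _
    obtain ⟨r, hr⟩ := exists_unit hNd (g k) c hc
    have hmem : ∀ u, ∃ s, r * sm 0 u = sm s (g k u) * r := fun u => ⟨c u, Units.ext (hr u)⟩
    exact ⟨⟨r, k, hmem⟩, huniq _ _ _ (hκ ⟨r, k, hmem⟩) hmem⟩
  let Q := (monGroup β).subgroupOf Rg
  haveI hN : Q.Normal := by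
    show ((monGroup β).subgroupOf Rg).Normal
    rw [← hker]; infer_instance
  let qe : Q ≃* monGroup β := Subgroup.subgroupOfEquivOfLe hmonR
  obtain ⟨hex, hcen⟩ := extraspecial_monGroup hNd (by omega : 0 < 2 * n)
  let w : Q → (Fin (2 * n) → ZMod 2) := fun a => ((monEquiv β).symm (qe a)).2
  have hw : ∀ a : Q, ∃ s, ((a : Rg) : (Tw β)ˣ) = sm s (w a) := fun a => by
    refine ⟨((monEquiv β).symm (qe a)).1, ?_⟩
    show _ = sm _ ((monEquiv β).symm (qe a)).2
    rw [← monEquiv_apply, Equiv.apply_symm_apply]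
    rfl
  have hweq : ∀ (a : Q) s u, ((a : Rg) : (Tw β)ˣ) = sm s u → w a = u := fun a s u h => by
    obtain ⟨t, ht⟩ := hw a
    exact (sm_inj (ht.symm.trans h)).2
  let χ : Q →* Multiplicative U :=
    { toFun := fun a => Multiplicative.ofAdd (e.symm (w a))
      map_one' := by
        rw [hweq 1 0 0 sm_one.symm, map_zero]; rfl
      map_mul' := fun a b => by
        obtain ⟨s, hs⟩ := hw a
        obtain ⟨t, ht⟩ := hw b
        rw [hweq (a * b) (β (w a) (w b) + (s + t)) (w a + w b) (by
          rw [← sm_mul, ← hs, ← ht]; rfl), map_add]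
        rfl }
  have hχ : ∀ a, Multiplicative.toAdd (χ a) = e.symm (w a) := fun a => rfl
  refine ⟨↥Rg, inferInstance, inferInstance, Q, hN, (QuotientGroup.quotientMulEquivOfEq hker.symm).trans
    (QuotientGroup.quotientKerEquivOfSurjective π hsurj), χ, ?_, ?_, ?_, ?_, ?_, ?_⟩
  · exact isExtraspecial_congr qe.symm hex
  · rw [Nat.card_congr qe.toEquiv, card_monGroup]
  · intro x
    refine ⟨qe.symm (monEquiv β (0, e x.toAdd)), ?_⟩
    apply Multiplicative.toAdd.injective
    rw [hχ]
    simp [w]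
  · ext a
    rw [MonoidHom.mem_ker, ← qe.symm_apply_apply a]
    have hc' := hcen ((monEquiv β).symm (qe a))
    rw [Equiv.apply_symm_apply] at hc'
    rw [qe.symm_apply_apply, ← (Multiplicative.toAdd).injective.eq_iff, hχ, toAdd_one,
      LinearEquiv.map_eq_zero_iff]
    refine hc'.symm.trans ⟨fun h => ?_, fun h => ?_⟩
    · rw [Subgroup.mem_center_iff] at h ⊢
      intro b
      apply qe.injective
      rw [map_mul, map_mul]; exact h (qe b)
    · rw [Subgroup.mem_center_iff] at h ⊢
      intro b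
      obtain ⟨b, rfl⟩ := qe.surjective b
      rw [← map_mul, ← map_mul, h b]
  · intro r a
    apply Multiplicative.toAdd.injective
    rw [toAdd_ofAdd, hχ, hχ]
    obtain ⟨s, hs⟩ := hw a
    obtain ⟨t, ht⟩ := hκ r (w a)
    rw [hweq ⟨r * a * r⁻¹, _⟩ (s + t) (g (κ r) (w a)) (by
      show (r : (Tw β)ˣ) * ((a : Rg) : (Tw β)ˣ) * (r : (Tw β)ˣ)⁻¹ = _
      rw [hs, sm_split s, ← mul_assoc, sm_zero_comm, mul_assoc (sm s 0) (r : (Tw β)ˣ), ht, ← mul_assoc (sm s 0),
        sm_mul, map_zero, LinearMap.zero_apply, zero_add, zero_add, mul_inv_cancel_right])]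
    rw [gapp, e.symm_apply_apply]
    rfl
  · intro a
    obtain ⟨s, hs⟩ := hw a
    rw [hχ]
    constructor
    · intro h
      have h1 : (sm s (w a) : (Tw β)ˣ) * sm s (w a) = sm 0 0 := by
        rw [← hs, sm_one]; exact congrArg (fun x : Q => ((x : Rg) : (Tw β)ˣ)) h
      rw [sm_mul] at h1
      have h2 := (sm_inj h1).1
      rwa [zmod_two_sq, add_zero, hβq] at h2
    · intro h
      apply Subtype.ext
      apply Subtype.ext
      show ((a : Rg) : (Tw β)ˣ) * ((a : Rg) : (Tw β)ˣ) = 1
      rw [hs, sm_mul, zmod_two_sq, add_zero, hβq, add_self, ← sm_one]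
      exact congrArg (fun x => sm x 0) h


end Cfsg.Agent.S3084
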