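import Cfsg.Statements.S3085
import Mathlib
import Cfsg.Agent.Lib.PGroupsBasic
-- import your own Cfsg.Agent.* helpers here

set_option autoImplicit false
open Cfsg

namespace Cfsg.Agent.S3085

/-- The group `D₈ ∘ D₈ ∘ D₈`, coordinates with respect to three hyperbolic pairs and the central involution. -/
structure P where
  a1 : Bool
  a2 : Bool
  a3 : Bool
  b1 : Bool
  b2 : Bool
  b3 : Bool
  c : Bool
  deriving DecidableEq

namespace P

def one' : P := ⟨false, false, false, false, false, false, false⟩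
def mul' (x y : P) : P :=
  ⟨x.a1 ^^ y.a1, x.a2 ^^ y.a2, x.a3 ^^ y.a3, x.b1 ^^ y.b1, x.b2 ^^ y.b2, x.b3 ^^ y.b3,
    x.c ^^ (y.c ^^ ((x.b1 && y.a1) ^^ ((x.b2 && y.a2) ^^ (x.b3 && y.a3))))⟩
def inv' (x : P) : P :=
  ⟨x.a1, x.a2, x.a3, x.b1, x.b2, x.b3,
    x.c ^^ ((x.b1 && x.a1) ^^ ((x.b2 && x.a2) ^^ (x.b3 && x.a3)))⟩

instance instGroupP : Group P where
  mul := mul'
  one := one'
  inv := inv'
  mul_assoc x y z := by
    show mul' (mul' x y) z = mul' x (mul' y z)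
    simp only [mul', Bool.and_xor_distrib_left, Bool.and_xor_distrib_right, P.mk.injEq]
    exact ⟨Bool.xor_assoc .., Bool.xor_assoc .., Bool.xor_assoc .., Bool.xor_assoc ..,
      Bool.xor_assoc .., Bool.xor_assoc .., by simp only [Bool.xor_comm, Bool.xor_left_comm, Bool.xor_assoc]⟩
  one_mul x := by
    show mul' one' x = x
    simp [mul', one']
  mul_one x := by
    show mul' x one' = x
    simp [mul', one']
  inv_mul_cancel x := by
    show mul' (inv' x) x = one'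
    cases x; simp [mul', inv', one']

def e1 : P := ⟨true, false, false, false, false, false, false⟩
def e2 : P := ⟨false, true, false, false, false, false, false⟩
def e3 : P := ⟨false, false, true, false, false, false, false⟩
def f1 : P := ⟨false, false, false, true, false, false, false⟩
def f2 : P := ⟨false, false, false, false, true, false, false⟩
def f3 : P := ⟨false, false, false, false, false, true, false⟩
def zc : P := ⟨false, false, false, false, false, false, true⟩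

instance instFiniteP : Finite P :=
  Finite.of_injective (fun x : P => (x.a1, x.a2, x.a3, x.b1, x.b2, x.b3, x.c))
    (by rintro ⟨_, _, _, _, _, _, _⟩ ⟨_, _, _, _, _, _, _⟩ h; simpa [Prod.mk.injEq] using h)

end P

section
variable {Q : Type*} [Group Q]

/-- `g` or `1`. -/
def bp (g : Q) (b : Bool) : Q := bif b then g else 1

/-- `x` and `y` commute up to the indicated power of `z`. -/
def Tw (z x y : Q) (t : Bool) : Prop := x * y = y * x * bp z t

/-- Six elements satisfying the relations of three commuting hyperbolic pairs with common commutator `z`. -/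
structure Rel (Q : Type*) [Group Q] where
  e1 : Q
  e2 : Q
  e3 : Q
  f1 : Q
  f2 : Q
  f3 : Q
  z : Q
  zc : ∀ x, x * z = z * x
  zz : z * z = 1
  q1 : e1 * e1 = 1
  q2 : e2 * e2 = 1
  q3 : e3 * e3 = 1
  r1 : f1 * f1 = 1
  r2 : f2 * f2 = 1
  r3 : f3 * f3 = 1
  ee12 : e1 * e2 = e2 * e1
  ee13 : e1 * e3 = e3 * e1
  ee23 : e2 * e3 = e3 * e2
  ff12 : f1 * f2 = f2 * f1
  ff13 : f1 * f3 = f3 * f1
  ff23 : f2 * f3 = f3 * f2
  fe11 : f1 * e1 = e1 * f1 * z
  fe12 : f1 * e2 = e2 * f1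
  fe13 : f1 * e3 = e3 * f1
  fe21 : f2 * e1 = e1 * f2
  fe22 : f2 * e2 = e2 * f2 * z
  fe23 : f2 * e3 = e3 * f2
  fe31 : f3 * e1 = e1 * f3
  fe32 : f3 * e2 = e2 * f3
  fe33 : f3 * e3 = e3 * f3 * z

theorem bp_mul {g : Q} (h : g * g = 1) (a b : Bool) : bp g a * bp g b = bp g (a ^^ b) := by
  cases a <;> cases b <;> simp [bp, h]

theorem commute_bp {g h : Q} (H : g * h = h * g) (a b : Bool) : Commute (bp g a) (bp h b) := by
  cases a <;> cases b <;> simp [bp, Commute, SemiconjBy, H]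

theorem tw_bp {z g h : Q} {s : Bool} (H : g * h = h * g * bp z s) (a b : Bool) :
    Tw z (bp g a) (bp h b) ((a && b) && s) := by
  cases a <;> cases b <;> simp [Tw, bp] <;> simpa [bp] using H

theorem tw_mul_left {z x x' y : Q} {t t' : Bool} (hz : ∀ u, u * z = z * u) (h2 : z * z = 1)
    (h : Tw z x y t) (h' : Tw z x' y t') : Tw z (x * x') y (t ^^ t') := by
  have hc : ∀ u, Commute u (bp z t) := fun u => by cases t <;> simp [bp, Commute, SemiconjBy, hz]
  calc x * x' * y = x * (y * x' * bp z t') := by rw [mul_assoc, h']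
    _ = x * y * (x' * bp z t') := by simp only [mul_assoc]
    _ = y * x * (x' * bp z t' * bp z t) := by rw [h, mul_assoc (y * x), ← (hc _).eq]
    _ = _ := by rw [mul_assoc x', bp_mul h2, Bool.xor_comm]; simp only [mul_assoc]

theorem tw_mul_right {z x y y' : Q} {t t' : Bool} (hz : ∀ u, u * z = z * u) (h2 : z * z = 1)
    (h : Tw z x y t) (h' : Tw z x y' t') : Tw z x (y * y') (t ^^ t') := by
  have hc : ∀ u, Commute u (bp z t) := fun u => by cases t <;> simp [bp, Commute, SemiconjBy, hz]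
  calc x * (y * y') = y * (x * bp z t) * y' := by rw [← mul_assoc, h, ← mul_assoc y]
    _ = y * (x * y') * bp z t := by simp only [mul_assoc, (hc y').eq]
    _ = _ := by rw [h', Bool.xor_comm, ← bp_mul h2]; simp only [mul_assoc]

namespace Rel

variable (R : Rel Q)

def E (a b c : Bool) : Q := bp R.e1 a * bp R.e2 b * bp R.e3 c
def F (a b c : Bool) : Q := bp R.f1 a * bp R.f2 b * bp R.f3 c

theorem bz_comm (t : Bool) (u : Q) : Commute (bp R.z t) u := by
  cases t <;> simp [bp, Commute, SemiconjBy, R.zc]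

theorem mul3 {g h k : Q} (h1 : g * g = 1) (h2 : h * h = 1) (h3 : k * k = 1)
    (gh : g * h = h * g) (gk : g * k = k * g) (hk : h * k = k * h) (a b c a' b' c' : Bool) :
    bp g a * bp h b * bp k c * (bp g a' * bp h b' * bp k c') =
      bp g (a ^^ a') * bp h (b ^^ b') * bp k (c ^^ c') := by
  rw [← bp_mul h1, ← bp_mul h2, ← bp_mul h3]
  have A : Commute (bp k c) (bp g a' * bp h b') :=
    (commute_bp gk.symm _ _).mul_right (commute_bp hk.symm _ _)
  have B : Commute (bp h b) (bp g a') := commute_bp gh.symm _ _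
  calc bp g a * bp h b * bp k c * (bp g a' * bp h b' * bp k c')
      = bp g a * bp h b * (bp k c * (bp g a' * bp h b')) * bp k c' := by simp only [mul_assoc]
    _ = bp g a * (bp h b * bp g a') * bp h b' * bp k c * bp k c' := by rw [A.eq]; simp only [mul_assoc]
    _ = _ := by rw [B.eq]; simp only [mul_assoc]

theorem EE (a b c a' b' c' : Bool) :
    R.E a b c * R.E a' b' c' = R.E (a ^^ a') (b ^^ b') (c ^^ c') :=
  mul3 R.q1 R.q2 R.q3 R.ee12 R.ee13 R.ee23 a b c a' b' c'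

theorem FF (a b c a' b' c' : Bool) :
    R.F a b c * R.F a' b' c' = R.F (a ^^ a') (b ^^ b') (c ^^ c') :=
  mul3 R.r1 R.r2 R.r3 R.ff12 R.ff13 R.ff23 a b c a' b' c'

theorem FE (b1 b2 b3 a1 a2 a3 : Bool) : R.F b1 b2 b3 * R.E a1 a2 a3 =
    R.E a1 a2 a3 * R.F b1 b2 b3 * bp R.z ((b1 && a1) ^^ ((b2 && a2) ^^ (b3 && a3))) := by
  have L : ∀ {g : Q}, ∀ (s1 s2 s3 : Bool), g * R.e1 = R.e1 * g * bp R.z s1 →
      g * R.e2 = R.e2 * g * bp R.z s2 → g * R.e3 = R.e3 * g * bp R.z s3 → ∀ b : Bool,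
      Tw R.z (bp g b) (R.E a1 a2 a3) (((b && a1) && s1) ^^ ((b && a2) && s2) ^^ ((b && a3) && s3)) :=
    fun s1 s2 s3 h1 h2 h3 b =>
      tw_mul_right R.zc R.zz (tw_mul_right R.zc R.zz (tw_bp h1 b a1) (tw_bp h2 b a2)) (tw_bp h3 b a3)
  have h := tw_mul_left R.zc R.zz (tw_mul_left R.zc R.zz
    (L true false false (g := R.f1) (by simpa [bp] using R.fe11) (by simpa [bp] using R.fe12)
      (by simpa [bp] using R.fe13) b1)
    (L false true false (g := R.f2) (by simpa [bp] using R.fe21) (by simpa [bp] using R.fe22)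
      (by simpa [bp] using R.fe23) b2))
    (L false false true (g := R.f3) (by simpa [bp] using R.fe31) (by simpa [bp] using R.fe32)
      (by simpa [bp] using R.fe33) b3)
  simpa [Tw, F, Bool.xor_assoc] using h

/-- The homomorphism defined by six elements satisfying the relations. -/
def hom : P →* Q where
  toFun p := R.E p.a1 p.a2 p.a3 * R.F p.b1 p.b2 p.b3 * bp R.z p.c
  map_one' := by
    show R.E false false false * R.F false false false * bp R.z false = 1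
    simp [E, F, bp]
  map_mul' x y := by
    show R.E (x.a1 ^^ y.a1) (x.a2 ^^ y.a2) (x.a3 ^^ y.a3) * R.F (x.b1 ^^ y.b1) (x.b2 ^^ y.b2) (x.b3 ^^ y.b3)
      * bp R.z (x.c ^^ (y.c ^^ ((x.b1 && y.a1) ^^ ((x.b2 && y.a2) ^^ (x.b3 && y.a3))))) = _
    rw [← EE, ← FF, ← bp_mul R.zz, ← bp_mul R.zz]
    set s := (x.b1 && y.a1) ^^ ((x.b2 && y.a2) ^^ (x.b3 && y.a3)) with hs
    have fe := R.FE x.b1 x.b2 x.b3 y.a1 y.a2 y.a3
    rw [← hs] at fe
    symm
    calc R.E x.a1 x.a2 x.a3 * R.F x.b1 x.b2 x.b3 * bp R.z x.c *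
          (R.E y.a1 y.a2 y.a3 * R.F y.b1 y.b2 y.b3 * bp R.z y.c)
        = R.E x.a1 x.a2 x.a3 * (R.F x.b1 x.b2 x.b3 * R.E y.a1 y.a2 y.a3) * R.F y.b1 y.b2 y.b3 *
            (bp R.z x.c * bp R.z y.c) := by
          simp only [mul_assoc, (R.bz_comm x.c _).left_comm]
      _ = _ := by
          rw [fe]
          simp only [mul_assoc, (R.bz_comm s _).left_comm, (R.bz_comm s _).eq]

end Rel
end

theorem zc_central : ∀ x : P, x * P.zc = P.zc * x := by
  rintro ⟨a1, a2, a3, b1, b2, b3, c⟩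
  revert a1 a2 a3 b1 b2 b3 c
  decide +kernel

/-- First automorphism of `P`. -/
def sA : P →* P := Rel.hom
  { e1 := P.e1, e2 := P.e2, e3 := ⟨false, true, true, false, false, false, false⟩, f1 := P.f1
    f2 := ⟨false, true, true, false, true, true, false⟩
    f3 := ⟨false, true, false, false, false, true, false⟩, z := P.zc
    zc := zc_central, zz := by decide, q1 := by decide, q2 := by decide, q3 := by decide
    r1 := by decide, r2 := by decide, r3 := by decide, ee12 := by decide, ee13 := by decide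
    ee23 := by decide, ff12 := by decide, ff13 := by decide, ff23 := by decide, fe11 := by decide
    fe12 := by decide, fe13 := by decide, fe21 := by decide, fe22 := by decide, fe23 := by decide
    fe31 := by decide, fe32 := by decide, fe33 := by decide }

/-- Second automorphism of `P`. -/
def sB : P →* P := Rel.hom
  { e1 := P.e1, e2 := P.e2, e3 := P.f3, f1 := ⟨false, true, false, true, false, false, false⟩
    f2 := ⟨true, false, false, false, true, false, false⟩, f3 := P.e3, z := P.zc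
    zc := zc_central, zz := by decide, q1 := by decide, q2 := by decide, q3 := by decide
    r1 := by decide, r2 := by decide, r3 := by decide, ee12 := by decide, ee13 := by decide
    ee23 := by decide, ff12 := by decide, ff13 := by decide, ff23 := by decide, fe11 := by decide
    fe12 := by decide, fe13 := by decide, fe21 := by decide, fe22 := by decide, fe23 := by decide
    fe31 := by decide, fe32 := by decide, fe33 := by decide }

theorem auto_facts : ∀ a1 a2 a3 b1 b2 b3 c : Bool,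
    (sA ⟨a1, a2, a3, b1, b2, b3, c⟩ = 1 → (⟨a1, a2, a3, b1, b2, b3, c⟩ : P) = 1) ∧
    (sB ⟨a1, a2, a3, b1, b2, b3, c⟩ = 1 → (⟨a1, a2, a3, b1, b2, b3, c⟩ : P) = 1) ∧
    sA (sA ⟨a1, a2, a3, b1, b2, b3, c⟩) = P.e2 * ⟨a1, a2, a3, b1, b2, b3, c⟩ * P.e2⁻¹ ∧
    sB (sB ⟨a1, a2, a3, b1, b2, b3, c⟩) = ⟨a1, a2, a3, b1, b2, b3, c⟩ ∧
    sA (sB ⟨a1, a2, a3, b1, b2, b3, c⟩) = P.e2 * sB (sA ⟨a1, a2, a3, b1, b2, b3, c⟩) * P.e2⁻¹ := by
  decide +kernel

/-- Twist of `σ` by conjugation. -/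
def tw (u : P) (σ : P →* P) (p : P) : P := u * σ p * u⁻¹

theorem no_lift : ∀ a1 a2 a3 b1 b2 b3 : Bool,
    tw ⟨a1, a2, a3, b1, b2, b3, false⟩ sA (tw ⟨a1, a2, a3, b1, b2, b3, false⟩ sA P.e3) = P.e3 →
    tw ⟨a1, a2, a3, b1, b2, b3, false⟩ sA (tw ⟨a1, a2, a3, b1, b2, b3, false⟩ sA P.f2) = P.f2 →
    ∀ c1 c2 c3 d1 d2 d3 : Bool,
    tw ⟨c1, c2, c3, d1, d2, d3, false⟩ sB (tw ⟨c1, c2, c3, d1, d2, d3, false⟩ sB P.f1) = P.f1 →
    tw ⟨a1, a2, a3, b1, b2, b3, false⟩ sA (tw ⟨c1, c2, c3, d1, d2, d3, false⟩ sB P.e3) ≠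
      tw ⟨c1, c2, c3, d1, d2, d3, false⟩ sB (tw ⟨a1, a2, a3, b1, b2, b3, false⟩ sA P.e3) := by
  decide +kernel

theorem conj_drop_center : ∀ a1 a2 a3 b1 b2 b3 c : Bool,
    ∀ x : P, (⟨a1, a2, a3, b1, b2, b3, c⟩ : P) * x * (⟨a1, a2, a3, b1, b2, b3, c⟩ : P)⁻¹ =
      ⟨a1, a2, a3, b1, b2, b3, false⟩ * x * (⟨a1, a2, a3, b1, b2, b3, false⟩ : P)⁻¹ := by
  intro a1 a2 a3 b1 b2 b3 c x
  cases c
  · rfl
  have h : (⟨a1, a2, a3, b1, b2, b3, true⟩ : P) = P.zc * ⟨a1, a2, a3, b1, b2, b3, false⟩ := by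
    revert a1 a2 a3 b1 b2 b3; decide
  rw [h, mul_inv_rev, mul_assoc P.zc, mul_assoc P.zc, ← zc_central, ← mul_assoc, inv_mul_cancel_right]

theorem no_lift' (u v : P) : ¬ ((∀ p, tw u sA (tw u sA p) = p) ∧ (∀ p, tw v sB (tw v sB p) = p) ∧
    ∀ p, tw u sA (tw v sB p) = tw v sB (tw u sA p)) := by
  obtain ⟨a1, a2, a3, b1, b2, b3, c⟩ := u
  obtain ⟨c1, c2, c3, d1, d2, d3, c'⟩ := v
  rintro ⟨h1, h2, h3⟩
  simp only [tw, conj_drop_center a1 a2 a3 b1 b2 b3 c, conj_drop_center c1 c2 c3 d1 d2 d3 c'] at h1 h2 h3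
  exact no_lift a1 a2 a3 b1 b2 b3 (h1 P.e3) (h1 P.f2) c1 c2 c3 d1 d2 d3 (h2 P.f1) (h3 P.e3)


section
variable {Q : Type*} [Group Q]

/-- The six generators of `P` generate it. -/
theorem hom_ext {H : Type*} [Group H] (φ ψ : P →* H) (h1 : φ P.e1 = ψ P.e1) (h2 : φ P.e2 = ψ P.e2)
    (h3 : φ P.e3 = ψ P.e3) (h4 : φ P.f1 = ψ P.f1) (h5 : φ P.f2 = ψ P.f2) (h6 : φ P.f3 = ψ P.f3)
    (h7 : φ P.zc = ψ P.zc) : φ = ψ := by
  have hgen : ∀ a1 a2 a3 b1 b2 b3 c : Bool, (⟨a1, a2, a3, b1, b2, b3, c⟩ : P) =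
      bp P.e1 a1 * bp P.e2 a2 * bp P.e3 a3 * bp P.f1 b1 * bp P.f2 b2 * bp P.f3 b3 * bp P.zc c := by
    decide
  ext ⟨a1, a2, a3, b1, b2, b3, c⟩
  have e : ∀ (χ : P →* H) (g : P) (b : Bool), χ (bp g b) = bp (χ g) b := fun χ g b => by
    cases b <;> simp [bp]
  rw [hgen]; simp only [map_mul, e, h1, h2, h3, h4, h5, h6, h7]

theorem center_P : ∀ a1 a2 a3 b1 b2 b3 c : Bool,
    (⟨a1, a2, a3, b1, b2, b3, c⟩ : P) * P.e1 = P.e1 * ⟨a1, a2, a3, b1, b2, b3, c⟩ →
    (⟨a1, a2, a3, b1, b2, b3, c⟩ : P) * P.e2 = P.e2 * ⟨a1, a2, a3, b1, b2, b3, c⟩ →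
    (⟨a1, a2, a3, b1, b2, b3, c⟩ : P) * P.e3 = P.e3 * ⟨a1, a2, a3, b1, b2, b3, c⟩ →
    (⟨a1, a2, a3, b1, b2, b3, c⟩ : P) * P.f1 = P.f1 * ⟨a1, a2, a3, b1, b2, b3, c⟩ →
    (⟨a1, a2, a3, b1, b2, b3, c⟩ : P) * P.f2 = P.f2 * ⟨a1, a2, a3, b1, b2, b3, c⟩ →
    (⟨a1, a2, a3, b1, b2, b3, c⟩ : P) * P.f3 = P.f3 * ⟨a1, a2, a3, b1, b2, b3, c⟩ →
    (⟨a1, a2, a3, b1, b2, b3, c⟩ : P) = 1 ∨ (⟨a1, a2, a3, b1, b2, b3, c⟩ : P) = P.zc := by
  decide +kernel

theorem rel_hom_gens (R : Rel Q) :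
    R.hom P.e1 = R.e1 ∧ R.hom P.e2 = R.e2 ∧ R.hom P.e3 = R.e3 ∧ R.hom P.f1 = R.f1 ∧
      R.hom P.f2 = R.f2 ∧ R.hom P.f3 = R.f3 ∧ R.hom P.zc = R.z := by
  simp [Rel.hom, Rel.E, Rel.F, bp, P.e1, P.e2, P.e3, P.f1, P.f2, P.f3, P.zc]

theorem rel_hom_injective (R : Rel Q) (hz : R.z ≠ 1) : Function.Injective R.hom := by
  obtain ⟨g1, g2, g3, g4, g5, g6, gz⟩ := rel_hom_gens R
  refine (injective_iff_map_eq_one _).mpr fun p hp => ?_
  obtain ⟨a1, a2, a3, b1, b2, b3, c⟩ := p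
  have key : ∀ (g s : P) (b : Bool), g * s = s * g * bp P.zc b → R.hom g = 1 → b = false := by
    intro g s b h hg
    have := congrArg R.hom h
    rw [map_mul, map_mul, map_mul, hg, one_mul, mul_one] at this
    cases b
    · rfl
    · simp [bp, gz] at this
      exact absurd this hz
  have k : ∀ a1 a2 a3 b1 b2 b3 c : Bool,
      (⟨a1, a2, a3, b1, b2, b3, c⟩ : P) * P.e1 = P.e1 * ⟨a1, a2, a3, b1, b2, b3, c⟩ * bp P.zc b1 ∧
      (⟨a1, a2, a3, b1, b2, b3, c⟩ : P) * P.e2 = P.e2 * ⟨a1, a2, a3, b1, b2, b3, c⟩ * bp P.zc b2 ∧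
      (⟨a1, a2, a3, b1, b2, b3, c⟩ : P) * P.e3 = P.e3 * ⟨a1, a2, a3, b1, b2, b3, c⟩ * bp P.zc b3 ∧
      (⟨a1, a2, a3, b1, b2, b3, c⟩ : P) * P.f1 = P.f1 * ⟨a1, a2, a3, b1, b2, b3, c⟩ * bp P.zc a1 ∧
      (⟨a1, a2, a3, b1, b2, b3, c⟩ : P) * P.f2 = P.f2 * ⟨a1, a2, a3, b1, b2, b3, c⟩ * bp P.zc a2 ∧
      (⟨a1, a2, a3, b1, b2, b3, c⟩ : P) * P.f3 = P.f3 * ⟨a1, a2, a3, b1, b2, b3, c⟩ * bp P.zc a3 := by
    decide +kernel
  obtain ⟨k1, k2, k3, k4, k5, k6⟩ := k a1 a2 a3 b1 b2 b3 c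
  obtain rfl := key _ _ _ k1 hp
  obtain rfl := key _ _ _ k2 hp
  obtain rfl := key _ _ _ k3 hp
  obtain rfl := key _ _ _ k4 hp
  obtain rfl := key _ _ _ k5 hp
  obtain rfl := key _ _ _ k6 hp
  cases c
  · rfl
  · exact absurd (gz ▸ hp : R.z = 1) hz

/-- One step: a hyperbolic pair inside `C` meeting `E'`, and what remains. -/
theorem step [Finite Q] {z : Q} (hz : ∀ x, x * z = z * x) (hzz : z * z = 1)
    (hcomm : ∀ x y : Q, x * y = y * x ∨ x * y = y * x * z)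
    (hsq : ∀ x : Q, x * x = 1 ∨ x * x = z)
    (C E : Subgroup Q) (hEC : E ≤ C) (hEc : ∀ x ∈ E, ∀ y ∈ E, x * y = y * x)
    (hE2 : ∀ x ∈ E, x * x = 1) (hC : ∀ x ∈ C, (∀ y ∈ C, x * y = y * x) → x = 1 ∨ x = z)
    (hEcard : 4 ≤ Nat.card E) :
    ∃ (e f : Q) (C' E' : Subgroup Q), e ∈ C ∧ f ∈ C ∧ e * e = 1 ∧ f * f = 1 ∧ f * e = e * f * z ∧
      C' ≤ C ∧ (∀ x ∈ C', x * e = e * x ∧ x * f = f * x) ∧ E' ≤ C' ∧ E' ≤ E ∧
      (∀ x ∈ C', (∀ y ∈ C', x * y = y * x) → x = 1 ∨ x = z) ∧ Nat.card E ≤ 2 * Nat.card E' := by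
  classical
  obtain ⟨e, heE, he⟩ : ∃ e ∈ E, ¬ (e = 1 ∨ e = z) := by
    by_contra h
    push Not at h
    have hs : (E : Set Q) ⊆ {1, z} := fun x hx => by
      exact h x hx
    have := Set.ncard_le_ncard hs
    rw [← Nat.card_coe_set_eq] at this
    have h2 : ({1, z} : Set Q).ncard ≤ 2 := (Set.ncard_insert_le _ _).trans (by simp)
    have h3 : Nat.card ↥E ≤ 2 := le_trans this h2
    omega
  obtain ⟨f0, hf0C, hf0⟩ : ∃ f ∈ C, f * e = e * f * z := by
    by_contra h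
    push Not at h
    exact he (hC e (hEC heE) fun y hy => ((hcomm y e).resolve_right (h y hy)).symm)
  have hee : e * e = 1 := hE2 e heE
  obtain ⟨f, hfC, hff, hfe⟩ : ∃ f ∈ C, f * f = 1 ∧ f * e = e * f * z := by
    rcases hsq f0 with h | h
    · exact ⟨f0, hf0C, h, hf0⟩
    · refine ⟨f0 * e, C.mul_mem hf0C (hEC heE), ?_, ?_⟩
      · calc f0 * e * (f0 * e) = e * f0 * z * (f0 * e) := by rw [hf0]
          _ = e * (f0 * f0) * z * e := by
              simp only [mul_assoc]; rw [← mul_assoc z f0, ← hz f0, mul_assoc]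
          _ = 1 := by rw [h, mul_assoc e, hzz, mul_one, hee]
      · calc f0 * e * e = f0 := by rw [mul_assoc, hee, mul_one]
          _ = (e * e) * f0 * (z * z) := by rw [hee, hzz, one_mul, mul_one]
          _ = e * (e * f0 * z) * z := by simp only [mul_assoc]
          _ = e * (f0 * e) * z := by rw [hf0]
  set C' := C ⊓ Subgroup.centralizer ({e, f} : Set Q) with hC'
  have hmem : ∀ x, x ∈ C' ↔ x ∈ C ∧ x * e = e * x ∧ x * f = f * x := by
    intro x
    rw [hC', Subgroup.mem_inf, Subgroup.mem_centralizer_iff]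
    refine and_congr_right fun _ => ⟨fun h => ⟨(h e (Or.inl rfl)).symm, (h f (Or.inr rfl)).symm⟩, ?_⟩
    rintro ⟨h1, h2⟩ w (rfl | rfl)
    · exact h1.symm
    · exact h2.symm
  -- adjust an element of `C` into `C'`
  have adj : ∀ y ∈ C, ∃ y' ∈ C', ∃ g, (g = 1 ∨ g = e ∨ g = f ∨ g = e * f) ∧ y = y' * g := by
    intro y hy
    have hzi : z⁻¹ = z := inv_eq_of_mul_eq_one_right hzz
    have hei : e⁻¹ = e := inv_eq_of_mul_eq_one_right hee
    have hfi : f⁻¹ = f := inv_eq_of_mul_eq_one_right hff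
    have hef : e * f = f * e * z := by rw [hfe, mul_assoc, hzz, mul_one]
    -- first make `y` commute with `e`
    have s1 : ∀ y ∈ C, ∃ y1 ∈ C, y1 * e = e * y1 ∧ (y = y1 ∨ y = y1 * f) := by
      intro y hy
      rcases hcomm y e with h | h
      · exact ⟨y, hy, h, Or.inl rfl⟩
      · refine ⟨y * f, C.mul_mem hy hfC, ?_, Or.inr (by rw [mul_assoc, hff, mul_one])⟩
        calc y * f * e = y * e * f * z := by rw [mul_assoc y f, hfe]; simp only [mul_assoc]
          _ = e * y * (z * f) * z := by rw [h]; simp only [mul_assoc]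
          _ = e * y * f * (z * z) := by rw [← hz f]; simp only [mul_assoc]
          _ = _ := by rw [hzz, mul_one, mul_assoc]
    obtain ⟨y1, hy1C, hy1e, hy1⟩ := s1 y hy
    rcases hcomm y1 f with h | h
    · refine ⟨y1, (hmem _).mpr ⟨hy1C, hy1e, h⟩, ?_⟩
      rcases hy1 with h1 | h1
      · exact ⟨1, Or.inl rfl, by rw [mul_one, h1]⟩
      · exact ⟨f, Or.inr (Or.inr (Or.inl rfl)), h1⟩
    · have hm : y1 * e ∈ C' := by
        refine (hmem _).mpr ⟨C.mul_mem hy1C (hEC heE), by rw [← mul_assoc e, hy1e], ?_⟩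
        calc y1 * e * f = y1 * f * e * z := by rw [mul_assoc y1 e, hef]; simp only [mul_assoc]
          _ = f * y1 * (z * e) * z := by rw [h]; simp only [mul_assoc]
          _ = f * y1 * e * (z * z) := by rw [← hz e]; simp only [mul_assoc]
          _ = _ := by rw [hzz, mul_one, mul_assoc]
      refine ⟨y1 * e, hm, ?_⟩
      rcases hy1 with h1 | h1
      · exact ⟨e, Or.inr (Or.inl rfl), by rw [h1, mul_assoc, hee, mul_one]⟩
      · exact ⟨e * f, Or.inr (Or.inr (Or.inr rfl)), by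
          rw [h1, ← mul_assoc, mul_assoc y1, hee, mul_one]⟩
  refine ⟨e, f, C', E ⊓ Subgroup.centralizer {f}, hEC heE, hfC, hee, hff, hfe, inf_le_left,
    fun x hx => ((hmem x).mp hx).2, ?_, inf_le_left, ?_, ?_⟩
  · rintro x ⟨hxE, hxf⟩
    exact (hmem x).mpr ⟨hEC hxE, hEc x hxE e heE, (Subgroup.mem_centralizer_iff.mp hxf f rfl).symm⟩
  · intro x hx hall
    refine hC x ((hmem x).mp hx).1 fun y hy => ?_
    obtain ⟨y', hy', g, hg, rfl⟩ := adj y hy
    have hxg : x * g = g * x := by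
      obtain ⟨-, h1, h2⟩ := (hmem x).mp hx
      rcases hg with rfl | rfl | rfl | rfl
      · simp
      · exact h1
      · exact h2
      · rw [← mul_assoc, h1, mul_assoc, h2, mul_assoc]
    rw [← mul_assoc, hall y' hy', mul_assoc, hxg, mul_assoc]
  · have h1 := Subgroup.card_mul_index ((Subgroup.centralizer {f}).subgroupOf E)
    have h2 : ((Subgroup.centralizer {f}).subgroupOf E).index ≤ 2 := by
      -- two cosets
      have hsur : ∀ q : ↥E ⧸ (Subgroup.centralizer {f}).subgroupOf E,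
          q = (1 : ↥E) ∨ q = (⟨e, heE⟩ : ↥E) := by
        intro q
        obtain ⟨⟨x, hx⟩, rfl⟩ := QuotientGroup.mk_surjective q
        rcases hcomm f x with h | h
        · left
          rw [QuotientGroup.eq]
          simp [Subgroup.mem_subgroupOf, Subgroup.mem_centralizer_iff]
          exact h
        · right
          rw [QuotientGroup.eq]
          simp [Subgroup.mem_subgroupOf, Subgroup.mem_centralizer_iff]
          have hxi : x⁻¹ = x := inv_eq_of_mul_eq_one_right (hE2 x hx)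
          rw [hxi]
          calc f * (x * e) = x * f * z * e := by rw [← mul_assoc, h]
            _ = x * (f * e) * z := by simp only [mul_assoc, hz e]
            _ = x * e * f * (z * z) := by rw [hfe]; simp only [mul_assoc]
            _ = _ := by rw [hzz, mul_one]
      rw [Subgroup.index, show (2 : ℕ) = Nat.card Bool by simp]
      refine Nat.card_le_card_of_surjective
        (fun b : Bool => ((bif b then (⟨e, heE⟩ : ↥E) else 1 : ↥E) : ↥E ⧸ (Subgroup.centralizer {f}).subgroupOf E)) ?_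
      intro q
      rcases hsur q with rfl | rfl
      · exact ⟨false, rfl⟩
      · exact ⟨true, rfl⟩
    have h3 : Nat.card ((Subgroup.centralizer {f}).subgroupOf E) = Nat.card ↥(E ⊓ Subgroup.centralizer {f}) :=
      Nat.card_congr ((Subgroup.subgroupOf_inj.mpr (show (E ⊓ Subgroup.centralizer {f}) ⊓ E =
          Subgroup.centralizer {f} ⊓ E by rw [inf_comm E, inf_assoc, inf_idem])) ▸
        Subgroup.subgroupOfEquivOfLe (inf_le_left : E ⊓ Subgroup.centralizer {f} ≤ E)).toEquiv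
    rw [← h1, h3]
    calc _ ≤ Nat.card ↥(E ⊓ Subgroup.centralizer {f}) * 2 := Nat.mul_le_mul_left _ h2
      _ = _ := mul_comm _ _

/-- An automorphism of `P` fixing the centre extends to `Q = φ(P) C_Q(φ(P))`. -/
theorem extend [Finite Q] (φ : P →* Q) (hφ : Function.Injective φ)
    (hdec : ∀ x : Q, ∃ p : P, ∀ q : P, ((φ p)⁻¹ * x) * φ q = φ q * ((φ p)⁻¹ * x))
    (σ : P →* P) (hσ : Function.Injective σ) (hσz : σ P.zc = P.zc) :
    ∃ α : MulAut Q, (∀ p, α (φ p) = φ (σ p)) ∧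
      ∀ r : Q, (∀ q : P, r * φ q = φ q * r) → α r = r := by
  let R : Subgroup Q := Subgroup.centralizer (Set.range φ)
  have hR : ∀ r : Q, r ∈ R ↔ ∀ q : P, r * φ q = φ q * r := fun r => by
    simp [R, Subgroup.mem_centralizer_iff, eq_comm]
  have comm : ∀ (p : P) (r : R), Commute (φ p) (r : Q) := fun p r => ((hR r).mp r.2 p).symm
  let Φ : P × R →* Q := MonoidHom.noncommCoprod φ R.subtype comm
  have hΦs : Function.Surjective Φ := fun x => by
    obtain ⟨p, hp⟩ := hdec x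
    exact ⟨(p, ⟨(φ p)⁻¹ * x, (hR _).mpr hp⟩), mul_inv_cancel_left (φ p) x⟩
  let Ψ : P × R →* Q := Φ.comp (σ.prodMap (MonoidHom.id R))
  have hker : Φ.ker ≤ Ψ.ker := by
    rintro ⟨p, r⟩ hpr
    have hpr' : φ p * (r : Q) = 1 := hpr
    have hc : ∀ q : P, p * q = q * p := fun q => by
      apply hφ
      have h := (hR (φ p)⁻¹).mp (by rw [inv_eq_of_mul_eq_one_right hpr']; exact r.2) q
      rw [map_mul, map_mul]
      exact (Commute.inv_left_iff.mp (show Commute (φ p)⁻¹ (φ q) from h)).eq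
    obtain ⟨a1, a2, a3, b1, b2, b3, c⟩ := p
    have hσp : σ ⟨a1, a2, a3, b1, b2, b3, c⟩ = ⟨a1, a2, a3, b1, b2, b3, c⟩ := by
      rcases center_P a1 a2 a3 b1 b2 b3 c (hc _) (hc _) (hc _) (hc _) (hc _) (hc _) with h | h
      · rw [h, map_one]
      · rw [h, hσz]
    show φ (σ ⟨a1, a2, a3, b1, b2, b3, c⟩) * (r : Q) = 1
    rw [hσp, hpr']
  let F : Q →* Q := Φ.liftOfSurjective hΦs ⟨Ψ, hker⟩
  have hF : ∀ x, F (Φ x) = Ψ x := fun x => MonoidHom.liftOfRightInverse_comp_apply _ _ _ _ x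
  have hσs : Function.Surjective σ := Finite.surjective_of_injective hσ
  have hFs : Function.Surjective F := fun x => by
    obtain ⟨⟨p, r⟩, rfl⟩ := hΦs x
    obtain ⟨p', rfl⟩ := hσs p
    exact ⟨Φ (p', r), by rw [hF]; rfl⟩
  refine ⟨MulEquiv.ofBijective F ⟨Finite.injective_iff_surjective.mpr hFs, hFs⟩, fun p => ?_,
    fun r hr => ?_⟩
  · have h := hF (p, 1)
    have e1 : Φ (p, 1) = φ p := mul_one (φ p)
    have e2 : Ψ (p, 1) = φ (σ p) := mul_one (φ (σ p))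
    rw [e1, e2] at h
    exact h
  · have h := hF (1, ⟨r, (hR r).mpr hr⟩)
    have e1 : Φ (1, ⟨r, (hR r).mpr hr⟩) = r := by show φ 1 * r = r; rw [map_one, one_mul]
    have e2 : Ψ (1, ⟨r, (hR r).mpr hr⟩) = r := by show φ (σ 1) * r = r; rw [map_one, map_one, one_mul]
    rw [e1, e2] at h
    exact h

end

/-- Let Q be an extraspecial 2-group of order 2^(2n+1) with n ≥ 3 that is of plus type (it contains an elementary abelian subgroup of order 2^(n+1)). Then the group of inner automorphisms of Q has no complement in the full automorphism group of Q: the extension of the inner automorphism group (elementary abelian of order 2^(2n)) by the outer automorphism group (the orthogonal group of plus type) does not split. -/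
theorem result {Q : Type*} [Group Q] [Finite Q] (n : ℕ) (hn : 3 ≤ n) (hQ : Cfsg.IsExtraspecial 2 Q) (hcard : Nat.card Q = 2 ^ (2 * n + 1)) (hplus : ∃ E : Subgroup Q, Cfsg.IsElementaryAbelian 2 E ∧ Nat.card ↥E = 2 ^ (n + 1)) (L : Subgroup (MulAut Q)) : ¬ (Cfsg.Inn Q).IsComplement' L := by
  classical
  haveI : Fact (Nat.Prime 2) := ⟨Nat.prime_two⟩
  obtain ⟨⟨hP2, hfr, hcm⟩, hZ2⟩ := hQ
  obtain ⟨⟨z, hzC⟩, hz1', huniv⟩ : ∃ z : Subgroup.center Q, z ≠ 1 ∧ ∀ w, w = 1 ∨ w = z := by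
    obtain ⟨w, hw, huniv⟩ := (Nat.card_eq_two_iff' (1 : Subgroup.center Q)).mp hZ2
    exact ⟨w, hw, fun v => or_iff_not_imp_left.mpr (huniv v)⟩
  have hz1 : z ≠ 1 := fun h => hz1' (Subtype.ext h)
  have hcen : ∀ w ∈ Subgroup.center Q, w = 1 ∨ w = z := fun w hw =>
    (huniv ⟨w, hw⟩).imp (congrArg Subtype.val) (congrArg Subtype.val)
  have hz : ∀ x, x * z = z * x := Subgroup.mem_center_iff.mp hzC
  have hsq : ∀ x : Q, x * x = 1 ∨ x * x = z := fun x => by
    have := Cfsg.Agent.PGroupsBasic.pow_mem_frattini hP2 x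
    rw [hfr, sq] at this
    exact hcen _ this
  have hzz : z * z = 1 := by
    rcases hsq z with h | h
    · exact h
    · exact absurd (mul_eq_left.mp h) hz1
  have hcomm : ∀ x y : Q, x * y = y * x ∨ x * y = y * x * z := fun x y => by
    have hmem : (y * x)⁻¹ * (x * y) ∈ Subgroup.center Q := by
      rw [← hcm]
      have := Subgroup.commutator_mem_commutator (Subgroup.mem_top x⁻¹) (Subgroup.mem_top y⁻¹)
      simpa [commutator_def, commutatorElement_def, mul_assoc] using this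
    rcases hcen _ hmem with h | h
    · exact Or.inl (inv_mul_eq_one.mp h).symm
    · exact Or.inr (inv_mul_eq_iff_eq_mul.mp h)
  obtain ⟨E, hE, hEcard⟩ := hplus
  have h16 : 16 ≤ Nat.card E := by
    rw [hEcard]
    exact (show 16 = 2 ^ 4 from rfl) ▸ Nat.pow_le_pow_right (by norm_num) (by omega)
  have hEc : ∀ x ∈ E, ∀ y ∈ E, x * y = y * x := fun x hx y hy =>
    congrArg Subtype.val (hE.1.is_comm.comm (⟨x, hx⟩ : E) ⟨y, hy⟩)
  have hE2 : ∀ x ∈ E, x * x = 1 := fun x hx => by have := hE.2 x hx; rwa [sq] at this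
  obtain ⟨e1, f1, C1, E1, -, -, he1, hf1, hfe1, hC1, hp1, hE1C, hE1E, hcen1, hcard1⟩ :=
    step hz hzz hcomm hsq ⊤ E le_top hEc hE2
      (fun x _ h => hcen x (Subgroup.mem_center_iff.mpr fun y => (h y trivial).symm)) (by omega)
  obtain ⟨e2, f2, C2, E2, he2C, hf2C, he2, hf2, hfe2, hC2, hp2, hE2C, hE2E, hcen2, hcard2⟩ :=
    step hz hzz hcomm hsq C1 E1 hE1C (fun x hx y hy => hEc x (hE1E hx) y (hE1E hy))
      (fun x hx => hE2 x (hE1E hx)) hcen1 (by omega)
  obtain ⟨e3, f3, C3, E3, he3C, hf3C, he3, hf3, hfe3, hC3, hp3, hE3C, hE3E, hcen3, hcard3⟩ :=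
    step hz hzz hcomm hsq C2 E2 hE2C (fun x hx y hy => hEc x (hE1E (hE2E hx)) y (hE1E (hE2E hy)))
      (fun x hx => hE2 x (hE1E (hE2E hx))) hcen2 (by omega)
  let R : Rel Q :=
    { e1 := e1, e2 := e2, e3 := e3, f1 := f1, f2 := f2, f3 := f3, z := z
      zc := hz, zz := hzz, q1 := he1, q2 := he2, q3 := he3, r1 := hf1, r2 := hf2, r3 := hf3
      ee12 := (hp1 e2 he2C).1.symm, ee13 := (hp1 e3 (hC2 he3C)).1.symm
      ee23 := (hp2 e3 he3C).1.symm
      ff12 := (hp1 f2 hf2C).2.symm, ff13 := (hp1 f3 (hC2 hf3C)).2.symm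
      ff23 := (hp2 f3 hf3C).2.symm
      fe11 := hfe1, fe22 := hfe2, fe33 := hfe3
      fe12 := (hp1 e2 he2C).2.symm, fe13 := (hp1 e3 (hC2 he3C)).2.symm
      fe21 := (hp1 f2 hf2C).1, fe23 := (hp2 e3 he3C).2.symm
      fe31 := (hp1 f3 (hC2 hf3C)).1, fe32 := (hp2 f3 hf3C).1 }
  obtain ⟨g1, g2, g3, g4, g5, g6, gz⟩ := rel_hom_gens R
  set φ := R.hom with hφdef
  have hφ : Function.Injective φ := rel_hom_injective R hz1
  -- decomposition
  have hdec : ∀ x : Q, ∃ p : P, ∀ q : P, ((φ p)⁻¹ * x) * φ q = φ q * ((φ p)⁻¹ * x) := by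
    intro x
    have bit : ∀ s : P, ∃ b : Bool, x * φ s = φ s * x * bp z b := fun s => by
      rcases hcomm x (φ s) with h | h
      · exact ⟨false, by simpa [bp] using h⟩
      · exact ⟨true, h⟩
    obtain ⟨b1, hb1⟩ := bit P.e1
    obtain ⟨b2, hb2⟩ := bit P.e2
    obtain ⟨b3, hb3⟩ := bit P.e3
    obtain ⟨a1, ha1⟩ := bit P.f1
    obtain ⟨a2, ha2⟩ := bit P.f2
    obtain ⟨a3, ha3⟩ := bit P.f3
    refine ⟨⟨a1, a2, a3, b1, b2, b3, false⟩, ?_⟩
    set p : P := ⟨a1, a2, a3, b1, b2, b3, false⟩ with hp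
    have k : ∀ a1 a2 a3 b1 b2 b3 : Bool,
        (⟨a1, a2, a3, b1, b2, b3, false⟩ : P) * P.e1 = P.e1 * ⟨a1, a2, a3, b1, b2, b3, false⟩ * bp P.zc b1 ∧
        (⟨a1, a2, a3, b1, b2, b3, false⟩ : P) * P.e2 = P.e2 * ⟨a1, a2, a3, b1, b2, b3, false⟩ * bp P.zc b2 ∧
        (⟨a1, a2, a3, b1, b2, b3, false⟩ : P) * P.e3 = P.e3 * ⟨a1, a2, a3, b1, b2, b3, false⟩ * bp P.zc b3 ∧
        (⟨a1, a2, a3, b1, b2, b3, false⟩ : P) * P.f1 = P.f1 * ⟨a1, a2, a3, b1, b2, b3, false⟩ * bp P.zc a1 ∧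
        (⟨a1, a2, a3, b1, b2, b3, false⟩ : P) * P.f2 = P.f2 * ⟨a1, a2, a3, b1, b2, b3, false⟩ * bp P.zc a2 ∧
        (⟨a1, a2, a3, b1, b2, b3, false⟩ : P) * P.f3 = P.f3 * ⟨a1, a2, a3, b1, b2, b3, false⟩ * bp P.zc a3 := by
      decide +kernel
    have key : ∀ (s : P) (b : Bool), p * s = s * p * bp P.zc b → x * φ s = φ s * x * bp z b →
        Commute ((φ p)⁻¹ * x) (φ s) := by
      intro s b h1 h2
      have h1' : φ p * φ s = φ s * φ p * bp z b := by
        have := congrArg φ h1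
        rw [map_mul, map_mul, map_mul] at this
        cases b
        · simpa [bp] using this
        · simpa [bp, gz, R] using this
      have hc : ∀ u, Commute (bp z b) u := fun u => by
        cases b <;> simp [bp, Commute, SemiconjBy, hz]
      show (φ p)⁻¹ * x * φ s = φ s * ((φ p)⁻¹ * x)
      apply mul_left_cancel (a := φ p)
      rw [← mul_assoc, ← mul_assoc (φ p) (φ p)⁻¹, mul_inv_cancel, one_mul, ← mul_assoc, h1', h2,
        mul_assoc _ (bp z b), (hc _).eq, mul_assoc (φ s) (φ p), mul_assoc (φ p)⁻¹ x,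
        mul_inv_cancel_left, mul_assoc]
    obtain ⟨k1, k2, k3, k4, k5, k6⟩ := k a1 a2 a3 b1 b2 b3
    intro q
    let χ : P →* Q := (MulAut.conj ((φ p)⁻¹ * x)).toMonoidHom.comp φ
    have : χ = φ := by
      have cc : ∀ s, Commute ((φ p)⁻¹ * x) (φ s) → χ s = φ s := fun s h => by
        show (φ p)⁻¹ * x * φ s * ((φ p)⁻¹ * x)⁻¹ = φ s
        rw [h.eq, mul_inv_cancel_right]
      refine hom_ext χ φ (cc _ (key _ _ k1 hb1)) (cc _ (key _ _ k2 hb2)) (cc _ (key _ _ k3 hb3))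
        (cc _ (key _ _ k4 ha1)) (cc _ (key _ _ k5 ha2)) (cc _ (key _ _ k6 ha3)) (cc _ ?_)
      show _ * φ P.zc = φ P.zc * _
      rw [gz]
      exact hz _
    have h := DFunLike.congr_fun this q
    exact mul_inv_eq_iff_eq_mul.mp h
  -- the two automorphisms
  have inj : ∀ σ : P →* P, (∀ a1 a2 a3 b1 b2 b3 c : Bool, σ ⟨a1, a2, a3, b1, b2, b3, c⟩ = 1 →
      (⟨a1, a2, a3, b1, b2, b3, c⟩ : P) = 1) → Function.Injective σ := fun σ h =>
    (injective_iff_map_eq_one σ).mpr fun p => h p.a1 p.a2 p.a3 p.b1 p.b2 p.b3 p.c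
  obtain ⟨α, hα, hαr⟩ := extend φ hφ hdec sA (inj sA fun a b c d e f g => (auto_facts a b c d e f g).1)
    (by decide)
  obtain ⟨β, hβ, hβr⟩ := extend φ hφ hdec sB (inj sB fun a b c d e f g => (auto_facts a b c d e f g).2.1)
    (by decide)
  have autext : ∀ A B : MulAut Q, (∀ p, A (φ p) = B (φ p)) →
      (∀ r, (∀ q : P, r * φ q = φ q * r) → A r = B r) → A = B := fun A B h1 h2 => by
    ext x
    obtain ⟨p, hp⟩ := hdec x
    have e : x = φ p * ((φ p)⁻¹ * x) := (mul_inv_cancel_left _ _).symm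
    rw [e, map_mul A, map_mul B, h1, h2 _ hp]
  have hconjr : ∀ w : P, ∀ r, (∀ q : P, r * φ q = φ q * r) → MulAut.conj (φ w) r = r := fun w r hr => by
    rw [MulAut.conj_apply, ← hr, mul_inv_cancel_right]
  have hαα : α * α = MulAut.conj (φ P.e2) := by
    refine autext _ _ (fun p => ?_) fun r hr => ?_
    · rw [MulAut.mul_apply, hα, hα, MulAut.conj_apply, ← map_inv, ← map_mul, ← map_mul,
        (auto_facts p.a1 p.a2 p.a3 p.b1 p.b2 p.b3 p.c).2.2.1]
    · rw [MulAut.mul_apply, hαr r hr, hαr r hr, hconjr _ r hr]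
  have hββ : β * β = 1 := by
    refine autext _ _ (fun p => ?_) fun r hr => ?_
    · rw [MulAut.mul_apply, hβ, hβ, MulAut.one_apply,
        (auto_facts p.a1 p.a2 p.a3 p.b1 p.b2 p.b3 p.c).2.2.2.1]
    · rw [MulAut.mul_apply, hβr r hr, hβr r hr, MulAut.one_apply]
  have hαβ : α * β = MulAut.conj (φ P.e2) * (β * α) := by
    refine autext _ _ (fun p => ?_) fun r hr => ?_
    · simp only [MulAut.mul_apply, hα, hβ, MulAut.conj_apply]
      rw [← map_inv, ← map_mul, ← map_mul, (auto_facts p.a1 p.a2 p.a3 p.b1 p.b2 p.b3 p.c).2.2.2.2]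
    · simp only [MulAut.mul_apply, hαr r hr, hβr r hr, hconjr _ r hr]
  intro hL
  have hInn : Cfsg.Inn Q = (MulAut.conj : Q →* MulAut Q).range := rfl
  have hconj : ∀ u, MulAut.conj u ∈ Cfsg.Inn Q := fun u => by rw [hInn]; exact ⟨u, rfl⟩
  have hnorm : (Cfsg.Inn Q).Normal := by
    rw [hInn]
    refine ⟨fun w ⟨u, hu⟩ g => ⟨g u, ?_⟩⟩
    subst hu
    ext x
    simp [MulAut.conj_apply]
  have hlift : ∀ γ : MulAut Q, ∃ u : Q, MulAut.conj u * γ ∈ L := fun γ => by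
    obtain ⟨⟨i, l⟩, hil⟩ := (hL : Subgroup.IsComplement _ _).2 γ
    obtain ⟨u, hu⟩ : (i : MulAut Q) ∈ (MulAut.conj : Q →* MulAut Q).range := hInn ▸ i.2
    refine ⟨u⁻¹, ?_⟩
    rw [map_inv, hu, ← hil]
    simp
  have htriv : ∀ w, w ∈ Cfsg.Inn Q → w ∈ L → w = 1 := fun w h1 h2 => by
    have h := hL.disjoint
    rw [disjoint_iff_inf_le] at h
    exact Subgroup.mem_bot.mp (h ⟨h1, h2⟩)
  obtain ⟨u, hu⟩ := hlift α
  obtain ⟨v, hv⟩ := hlift β
  have hsplit : ∀ c d γ δ : MulAut Q, c * γ * (d * δ) = c * (γ * d * γ⁻¹) * (γ * δ) := by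
    intro c d γ δ; group
  have ha : (MulAut.conj u * α) * (MulAut.conj u * α) = 1 := by
    refine htriv _ ?_ (L.mul_mem hu hu)
    rw [hsplit, hαα]
    exact mul_mem (mul_mem (hconj u) (hnorm.conj_mem _ (hconj u) α)) (hconj _)
  have hb : (MulAut.conj v * β) * (MulAut.conj v * β) = 1 := by
    refine htriv _ ?_ (L.mul_mem hv hv)
    rw [hsplit, hββ, mul_one]
    exact mul_mem (hconj v) (hnorm.conj_mem _ (hconj v) β)
  have hab : (MulAut.conj u * α) * (MulAut.conj v * β) =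
      (MulAut.conj v * β) * (MulAut.conj u * α) := by
    refine mul_inv_eq_one.mp (htriv _ ?_ (L.mul_mem (L.mul_mem hu hv) (L.inv_mem (L.mul_mem hv hu))))
    rw [hsplit (MulAut.conj u) (MulAut.conj v) α β, hsplit (MulAut.conj v) (MulAut.conj u) β α, hαβ]
    have e : ∀ c d w c' d' k : MulAut Q, c * d * (w * k) * (c' * d' * k)⁻¹ = c * d * w * (c' * d')⁻¹ := by
      intro c d w c' d' k; group
    rw [e]
    exact mul_mem (mul_mem (mul_mem (hconj u) (hnorm.conj_mem _ (hconj v) α)) (hconj _))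
      (inv_mem (mul_mem (hconj v) (hnorm.conj_mem _ (hconj u) β)))
  -- restrict to `φ(P)`
  obtain ⟨u0, hu0⟩ := hdec u
  obtain ⟨v0, hv0⟩ := hdec v
  have hres : ∀ (x : Q) (w : P), (∀ q : P, ((φ w)⁻¹ * x) * φ q = φ q * ((φ w)⁻¹ * x)) →
      ∀ (γ : MulAut Q) (σ : P →* P), (∀ p, γ (φ p) = φ (σ p)) →
      ∀ p, (MulAut.conj x * γ) (φ p) = φ (tw w σ p) := by
    intro x w hw γ σ hγ p
    rw [MulAut.mul_apply, hγ, MulAut.conj_apply, tw, map_mul, map_mul, map_inv]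
    conv_lhs => rw [← mul_inv_cancel_left (φ w) x]
    rw [mul_inv_rev (φ w), ← mul_assoc, mul_assoc (φ w) _ (φ (σ p)), hw, mul_assoc (φ w),
      mul_inv_cancel_right]
  have rA := hres u u0 hu0 α sA hα
  have rB := hres v v0 hv0 β sB hβ
  refine no_lift' u0 v0 ⟨fun p => hφ ?_, fun p => hφ ?_, fun p => hφ ?_⟩
  · rw [← rA, ← rA, ← MulAut.mul_apply, ha, MulAut.one_apply]
  · rw [← rB, ← rB, ← MulAut.mul_apply, hb, MulAut.one_apply]
  · rw [← rA, ← rB, ← rB, ← rA, ← MulAut.mul_apply, ← MulAut.mul_apply, hab]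

end Cfsg.Agent.S3085
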