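import Cfsg.Statements.S3086
import Cfsg.Agent.Lib.PGVMain
import Cfsg.Agent.Lib.ComponentsBasic

set_option autoImplicit false
open Cfsg

namespace Cfsg.Agent.S3086

theorem mem_normalizer_of_conj_mem {G : Type*} [Group G] [Finite G] {K : Subgroup G} {a : G}
    (h : ∀ k ∈ K, a * k * a⁻¹ ∈ K) : a ∈ Subgroup.normalizer (K : Set G) := by
  have hs : Function.Surjective (fun x : K => (⟨a * x * a⁻¹, h x x.2⟩ : K)) := by
    refine Finite.injective_iff_surjective.mp fun x y e => Subtype.ext ?_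
    simpa using congrArg Subtype.val e
  rw [Subgroup.mem_normalizer_iff]
  refine fun k => ⟨h k, fun hk => ?_⟩
  obtain ⟨x, hx⟩ := hs ⟨_, hk⟩
  have hx' : a * x * a⁻¹ = a * k * a⁻¹ := congrArg Subtype.val hx
  rw [mul_left_inj, mul_right_inj] at hx'
  exact hx' ▸ x.2

/-- The P(G,V)-theorem. Let p be a prime, G a finite group acting faithfully and linearly on a finite vector space V over the field with p elements, and A a nontrivial elementary abelian p-subgroup of G such that |A|·|C_V(A)| ≥ |B|·|C_V(B)| for every subgroup B of A. Then A normalizes every component (subnormal quasisimple subgroup) of G. -/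
theorem result {G V : Type*} [Group G] [Finite G] [AddCommGroup V] [Finite V] (p : ℕ) [Fact p.Prime] [Module (ZMod p) V]
    (ρ : Representation (ZMod p) G V) (hρ : Function.Injective ρ)
    (A : Subgroup G) (hA : A ≠ ⊥) (hAel : Cfsg.IsElementaryAbelian p A)
    (hP : ∀ B : Subgroup G, B ≤ A →
      Nat.card ↥B * Nat.card {v : V // ∀ b ∈ B, ρ b v = v} ≤ Nat.card ↥A * Nat.card {v : V // ∀ a ∈ A, ρ a v = v}) :
    ∀ K : Subgroup G, Cfsg.IsComponent K → A ≤ Subgroup.normalizer (K : Set G) := by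
  intro K hK a ha
  by_contra hcon
  let f : G →* (AddMonoid.End V)ˣ := MonoidHom.toHomUnits
    { toFun := fun g => (ρ g).toAddMonoidHom
      map_one' := by rw [map_one]; rfl
      map_mul' := fun g h => by rw [map_mul]; rfl }
  have hfapp : ∀ g v, f g • v = ρ g v := fun g v => rfl
  have hf : Function.Injective f := fun g h e => hρ (LinearMap.ext fun v => by
    rw [← hfapp, ← hfapp, e])
  have hW : ∀ v : V, p • v = 0 := fun v => by
    rw [← Nat.cast_smul_eq_nsmul (ZMod p), ZMod.natCast_self, zero_smul]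
  have hdicho : ∀ c : G, (∀ k ∈ K, c * k * c⁻¹ ∈ K) ∨
      (∀ k ∈ K, ∀ l ∈ K, Commute k (c * l * c⁻¹)) := by
    intro c
    have hc := ComponentsBasic.isComponent_conj hK c
    by_cases e : K = K.map (MulAut.conj c).toMonoidHom
    · left
      intro k hk
      rw [e]
      exact ⟨k, hk, rfl⟩
    · right
      intro k hk l hl
      have h1 := ComponentsBasic.components_commute hK hc e
      rw [Subgroup.commutator_eq_bot_iff_le_centralizer] at h1
      exact (Subgroup.mem_centralizer_iff.mp (h1 hk) _ ⟨l, hl, rfl⟩).symm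
  have hmove : ∀ k ∈ K, ∀ l ∈ K, Commute k (a * l * a⁻¹) := by
    refine (hdicho a).resolve_left fun h1 => hcon ?_
    exact mem_normalizer_of_conj_mem h1
  have hqs : ∀ N : Subgroup K, N.Normal → N = ⊤ ∨ N ≤ Subgroup.center K := fun N hN =>
    (ComponentsBasic.normal_le_center_or_eq_top hK.2 N).symm
  haveI := hK.2.1
  let ψ := f.comp K.subtype
  let θ := f.comp A.subtype
  have hcard : ∀ B : Subgroup (AddMonoid.End V)ˣ, B ≤ A.map f →
      PGVReplace.wt V B = Nat.card ↥(B.comap f ⊓ A : Subgroup G) *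
        Nat.card {v : V // ∀ b ∈ (B.comap f ⊓ A : Subgroup G), ρ b v = v} := by
    intro B hB
    have e : (B.comap f ⊓ A).map f = B := by
      refine le_antisymm ((Subgroup.map_mono inf_le_left).trans (Subgroup.map_comap_le f B)) ?_
      intro x hx
      obtain ⟨g, hg, rfl⟩ := hB hx
      exact ⟨g, ⟨hx, hg⟩, rfl⟩
    rw [PGVReplace.wt]
    congr 1
    · conv_lhs => rw [← e]
      rw [Subgroup.card_map_of_injective hf]
    · refine Nat.card_congr (Equiv.subtypeEquivRight fun v => ⟨fun h b hb => h _ hb.1, fun h x hx => ?_⟩)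
      obtain ⟨g, hg, rfl⟩ := hB hx
      exact h g ⟨hx, hg⟩
  refine PGVMain.false_of_pack p _ V θ.range ψ.range rfl hW
    { comm := ?_, pow := ?_, perf := PGVBasic.perfect_range Group.IsPerfect.commutator_eq_top ψ,
      ne := ?_, qs := PGVBasic.qs_range hqs ψ, conj := ?_, move := ?_, max := ?_ }
  · rintro _ ⟨x, rfl⟩ _ ⟨y, rfl⟩
    haveI := hAel.1
    exact Commute.map (show Commute x y from IsMulCommutative.is_comm.comm x y) θ
  · rintro _ ⟨x, rfl⟩
    rw [← map_pow, show x ^ p = 1 from Subtype.ext (hAel.2 x x.2), map_one]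
  · intro e
    apply ComponentsBasic.IsComponent.ne_bot hK
    rw [eq_bot_iff]
    intro k hk
    rw [Subgroup.mem_bot]
    apply hf
    rw [map_one]
    exact Subgroup.mem_bot.mp (e ▸ ⟨⟨k, hk⟩, rfl⟩ : ψ ⟨k, hk⟩ ∈ (⊥ : Subgroup _))
  · rintro _ ⟨c, rfl⟩
    rcases hdicho c with h1 | h1
    · left
      rintro _ ⟨k, rfl⟩
      exact ⟨⟨_, h1 k k.2⟩, (PGVConf.map_gc f (c : G) (k : G))⟩
    · right
      rintro _ ⟨k, rfl⟩ _ ⟨l, rfl⟩
      have := (h1 k k.2 l l.2).map f
      rwa [← PGVBasic.gc, PGVConf.map_gc] at this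
  · refine ⟨θ ⟨a, ha⟩, ⟨_, rfl⟩, ?_⟩
    rintro _ ⟨k, rfl⟩ _ ⟨l, rfl⟩
    have := (hmove k k.2 l l.2).map f
    rwa [← PGVBasic.gc, PGVConf.map_gc] at this
  · have hθ : θ.range = A.map f := by
      rw [show θ = f.comp A.subtype from rfl, MonoidHom.range_comp, Subgroup.range_subtype]
    intro B hB
    rw [hθ] at hB ⊢
    rw [hcard B hB, hcard _ le_rfl, inf_eq_right.mpr (Subgroup.le_comap_map f A)]
    exact hP _ inf_le_right

end Cfsg.Agent.S3086
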