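import Cfsg.Statements.S3087
import Mathlib
-- import your own Cfsg.Agent.* helpers here

set_option autoImplicit false
open Cfsg

namespace Cfsg.Agent.S3087

/-- Let p be a prime, G a finite group acting linearly on a finite vector space V over the field with p elements, W a G-invariant subspace, and A a subgroup of G with |A|·|C_V(A)| ≥ |B|·|C_V(B)| for every subgroup B of A. Then |A|·|C_W(A)| ≥ |B|·|C_W(B)| for every subgroup B of A that contains C_A(W); that is, the image of A in the group induced on W satisfies the same maximality condition. -/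
theorem result {G V : Type*} [Group G] [Finite G] [AddCommGroup V] [Finite V] (p : ℕ) [Fact p.Prime] [Module (ZMod p) V]
    (ρ : Representation (ZMod p) G V) (W : Submodule (ZMod p) V) (hW : ∀ g : G, ∀ w ∈ W, ρ g w ∈ W)
    (A : Subgroup G)
    (hP : ∀ B : Subgroup G, B ≤ A →
      Nat.card ↥B * Nat.card {v : V // ∀ b ∈ B, ρ b v = v} ≤ Nat.card ↥A * Nat.card {v : V // ∀ a ∈ A, ρ a v = v})
    (B : Subgroup G) (hBA : B ≤ A) (hCB : ∀ a ∈ A, (∀ w ∈ W, ρ a w = w) → a ∈ B) :
    Nat.card ↥B * Nat.card {w : W // ∀ b ∈ B, ρ b w = w} ≤ Nat.card ↥A * Nat.card {w : W // ∀ a ∈ A, ρ a w = w} := by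
  classical
  have hP' := hP B hBA
  let F : Subgroup G → Submodule (ZMod p) V := fun C =>
    { carrier := {v | ∀ c ∈ C, ρ c v = v}
      add_mem' := fun hu hv c hc => by rw [map_add, hu c hc, hv c hc]
      zero_mem' := fun c _ => map_zero _
      smul_mem' := fun k v hv c hc => by rw [map_smul, hv c hc] }
  have e1 : ∀ C : Subgroup G, Nat.card {v : V // ∀ c ∈ C, ρ c v = v} = Nat.card ↥(F C).toAddSubgroup :=
    fun C => rfl
  have e2 : ∀ C : Subgroup G, Nat.card {w : W // ∀ c ∈ C, ρ c w = w} =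
      Nat.card ↥((F C).toAddSubgroup ⊓ W.toAddSubgroup) := fun C =>
    Nat.card_congr
      { toFun := fun w => ⟨(w.1 : V), w.2, w.1.2⟩
        invFun := fun v => ⟨⟨v.1, v.2.2⟩, v.2.1⟩
        left_inv := fun _ => rfl
        right_inv := fun _ => rfl }
  rw [e1, e1] at hP'
  rw [e2, e2]
  set X := (F A).toAddSubgroup with hX
  set Y := (F B).toAddSubgroup with hY
  set Z := W.toAddSubgroup with hZ
  have hXY : X ≤ Y := fun v hv c hc => hv c (hBA hc)
  have hXYZ : (Y ⊓ Z).relIndex X ≠ 0 := AddSubgroup.index_ne_zero_of_finite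
  have hinj : (Y ⊓ Z).relIndex X ≤ (Y ⊓ Z).relIndex Y :=
    AddSubgroup.relIndex_le_of_le_right hXY AddSubgroup.index_ne_zero_of_finite
  have k1 : ∀ {S T : AddSubgroup V}, S ≤ T → Nat.card ↥S * S.relIndex T = Nat.card ↥T := by
    intro S T hST
    rw [← AddSubgroup.relIndex_bot_left, ← AddSubgroup.relIndex_bot_left,
      AddSubgroup.relIndex_mul_relIndex _ _ _ bot_le hST]
  have hrX : (X ⊓ Z).relIndex X = (Y ⊓ Z).relIndex X := by
    rw [← AddSubgroup.inf_relIndex_right (Y ⊓ Z) X]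
    congr 1
    rw [inf_comm Y Z, inf_assoc, inf_eq_right.mpr hXY, inf_comm]
  have kX := k1 (inf_le_left : X ⊓ Z ≤ X)
  have kY := k1 (inf_le_left : Y ⊓ Z ≤ Y)
  rw [hrX] at kX
  have : Nat.card ↥B * Nat.card ↥(Y ⊓ Z) * (Y ⊓ Z).relIndex X
      ≤ Nat.card ↥A * Nat.card ↥(X ⊓ Z) * (Y ⊓ Z).relIndex X := by
    calc Nat.card ↥B * Nat.card ↥(Y ⊓ Z) * (Y ⊓ Z).relIndex X
        ≤ Nat.card ↥B * Nat.card ↥(Y ⊓ Z) * (Y ⊓ Z).relIndex Y := Nat.mul_le_mul_left _ hinj
      _ = Nat.card ↥B * Nat.card ↥Y := by rw [mul_assoc, kY]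
      _ ≤ Nat.card ↥A * Nat.card ↥X := hP'
      _ = _ := by rw [mul_assoc, kX]
  exact Nat.le_of_mul_le_mul_right this (Nat.pos_of_ne_zero hXYZ)

end Cfsg.Agent.S3087
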