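import Cfsg.Statements.S3103
import Cfsg.Agent.S0256
import Cfsg.Agent.Lib.PConstrained
import Cfsg.Agent.Lib.CoprimeAction
import Cfsg.Agent.Lib.ComponentsCores
import Cfsg.Agent.Lib.PGroupsBasic

set_option autoImplicit false
open Cfsg

namespace Cfsg.Agent.S3103

open scoped MatrixGroups commutatorElement

theorem zkey : ∀ c : ZMod 2, c ≠ 0 → c = 1 := by decide

/-- Automorphism groups of elementary abelian groups of order at most `2^4` embed in `A₈`. -/
theorem aut_embed {V : Type*} [CommGroup V] [Finite V] (h2 : ∀ v : V, v ^ 2 = 1)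
    (hcard : Nat.card V ≤ 2 ^ 4) :
    ∃ f : MulAut V →* ↥(alternatingGroup (Fin 8)), Function.Injective f := by
  haveI : Fact (Nat.Prime 2) := ⟨Nat.prime_two⟩
  letI : Module (ZMod 2) (Additive V) := AddCommGroup.zmodModule fun v => h2 v.toMul
  obtain ⟨m, hm⟩ : ∃ m, m = Module.finrank (ZMod 2) (Additive V) := ⟨_, rfl⟩
  have hV : Nat.card (Additive V) = 2 ^ m := by
    rw [hm, Module.natCard_eq_pow_finrank (K := ZMod 2), Nat.card_zmod]
  have hm4 : m ≤ 4 := (Nat.pow_le_pow_iff_right (by norm_num)).mp
    (hV ▸ (Nat.card_congr Additive.toMul).trans_le hcard)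
  let e : (Additive V × (Fin (4 - m) → ZMod 2)) ≃ₗ[ZMod 2] (Fin 4 → ZMod 2) :=
    LinearEquiv.ofFinrankEq _ _ (by simp [← hm]; omega)
  let ext1 : MulAut V →* ((Fin 4 → ZMod 2) →ₗ[ZMod 2] (Fin 4 → ZMod 2)) :=
    { toFun := fun a => e.toLinearMap.comp (((AddMonoidHom.toZModLinearMap 2
          (MonoidHom.toAdditive a.toMonoidHom)).prodMap LinearMap.id).comp e.symm.toLinearMap)
      map_one' := LinearMap.ext fun x => e.apply_symm_apply x
      map_mul' := fun a b => LinearMap.ext fun x => by
        simp only [Module.End.mul_apply, LinearMap.comp_apply, LinearEquiv.coe_coe,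
          LinearEquiv.symm_apply_apply]
        rfl }
  let gl : MulAut V →* GL (Fin 4) (ZMod 2) :=
    ((LinearMap.toMatrixAlgEquiv' (R := ZMod 2) (n := Fin 4)).toMonoidHom.comp ext1).toHomUnits
  have hdet : ∀ g : GL (Fin 4) (ZMod 2), (g : Matrix (Fin 4) (Fin 4) (ZMod 2)).det = 1 := fun g => by
    have h := (Matrix.GeneralLinearGroup.det g).isUnit.ne_zero
    rw [Matrix.GeneralLinearGroup.val_det_apply] at h
    exact zkey _ h
  let sl : GL (Fin 4) (ZMod 2) →* SL(4, ZMod 2) :=
    { toFun := fun g => ⟨g, hdet g⟩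
      map_one' := rfl
      map_mul' := fun _ _ => rfl }
  obtain ⟨eq⟩ := S0256.equiv_sl
  refine ⟨eq.symm.toMonoidHom.comp (sl.comp gl), eq.symm.injective.comp ?_⟩
  · intro a b h
    have h' : gl a = gl b := Units.ext (congrArg Subtype.val h)
    have h1 : ext1 a = ext1 b :=
      (LinearMap.toMatrixAlgEquiv' (R := ZMod 2) (n := Fin 4)).injective (congrArg Units.val h')
    refine MulEquiv.ext fun v => ?_
    have h2 := congrArg e.symm (LinearMap.congr_fun h1 (e (Additive.ofMul v, 0)))
    simp only [ext1, MonoidHom.coe_mk, OneHom.coe_mk, LinearMap.comp_apply, LinearEquiv.coe_coe,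
      LinearEquiv.symm_apply_apply] at h2
    exact congrArg (fun x => Additive.toMul x.1) h2

/-- Let X be a finite 2-constrained group with no nontrivial normal subgroup of odd order such that O₂(X) has sectional 2-rank at most 4. Then X/O₂(X) is isomorphic to a subgroup of the alternating group of degree 8. -/
theorem result {X : Type*} [Group X] [Finite X] (hc : Cfsg.IsPConstrained 2 X) (hO : Cfsg.oddCore X = ⊥)
    (h4 : Cfsg.SectionalPRankLE 2 4 ↥(Cfsg.pCore 2 X)) :
    ∃ f : X ⧸ Cfsg.pCore 2 X →* ↥(alternatingGroup (Fin 8)), Function.Injective f := by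
  haveI : Fact (Nat.Prime 2) := ⟨Nat.prime_two⟩
  set Q := Cfsg.pCore 2 X with hQdef
  have hQp : IsPGroup 2 Q := ComponentsCores.isPGroup_pCore 2
  have hCQ : Subgroup.centralizer (Q : Set X) ≤ Q := by
    intro x hx
    have h := PConstrained.centralizer_pCore_quotient_le hc
    have hO' : Cfsg.pPrimeCore 2 X = ⊥ := hO
    let φ : X ≃* X ⧸ Cfsg.pPrimeCore 2 X :=
      (QuotientGroup.quotientBot (G := X)).symm.trans (QuotientGroup.quotientMulEquivOfEq hO'.symm)
    rw [← ComponentsCores.pCore_map_mulEquiv φ] at h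
    have hmem : φ x ∈ Subgroup.centralizer ((Q.map φ.toMonoidHom : Subgroup _) : Set _) := by
      rintro _ ⟨y, hy, rfl⟩
      show φ y * φ x = φ x * φ y
      rw [← map_mul, ← map_mul, hx y hy]
    obtain ⟨y, hy, hyx⟩ := h hmem
    exact φ.injective hyx ▸ hy
  haveI : Q.Normal := inferInstance
  let conjQ : X →* MulAut Q := MulAut.conjNormal
  haveI : (frattini Q).Characteristic := inferInstance
  have hstab : ∀ a : MulAut Q, (frattini Q).map a.toMonoidHom = frattini Q := fun a =>
    Subgroup.characteristic_iff_map_eq.mp inferInstance a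
  let autq : MulAut Q →* MulAut (Q ⧸ frattini Q) :=
    { toFun := fun a => QuotientGroup.congr _ _ a (hstab a)
      map_one' := MulEquiv.ext fun v => QuotientGroup.induction_on v fun q => rfl
      map_mul' := fun a b => MulEquiv.ext fun v => QuotientGroup.induction_on v fun q => rfl }
  set f := autq.comp conjQ with hf
  have hfapp : ∀ (x : X) (q : Q), f x (QuotientGroup.mk q) = QuotientGroup.mk (conjQ x q) :=
    fun x q => rfl
  have hker : f.ker = Q := by
    apply le_antisymm
    · refine ComponentsCores.le_pCore' ?_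
      intro x
      obtain ⟨k, m, hm, hxm⟩ := Nat.exists_eq_two_pow_mul_odd (orderOf_pos x).ne'
      refine ⟨k, ?_⟩
      set y : X := ((x ^ (2 ^ k) : f.ker) : X) with hy
      have hy1 : y ^ m = 1 := by
        rw [hy, ← SubmonoidClass.coe_pow, ← pow_mul, ← hxm, pow_orderOf_eq_one, OneMemClass.coe_one]
      have hyker : f y = 1 := (x ^ (2 ^ k)).2
      have hcop : (Nat.card (Subgroup.zpowers y)).Coprime 2 := by
        rw [Nat.card_zpowers]
        exact Nat.Coprime.coprime_dvd_left (orderOf_dvd_of_pow_eq_one hy1) hm.coprime_two_right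
      have hyC : y ∈ Subgroup.centralizer (Q : Set X) := by
        refine CoprimeAction.le_centralizer_of_frattini (A := Subgroup.zpowers y) ?_ ?_ ?_
          (Subgroup.mem_zpowers y)
        · rw [Subgroup.normalizer_eq_top_iff.2 inferInstance]; exact le_top
        · obtain ⟨j, hj⟩ := (hQp.to_subgroup (frattini Q)).exists_card_eq
          rw [hj]; exact hcop.pow_right j
        · intro a ha q hq
          have haker : a ∈ f.ker := Subgroup.zpowers_le.mpr (show y ∈ f.ker from hyker) ha
          have h1 : f a (QuotientGroup.mk (⟨q, hq⟩ : Q)) = QuotientGroup.mk (⟨q, hq⟩ : Q) := by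
            rw [MonoidHom.mem_ker.mp haker]; rfl
          rw [hfapp, QuotientGroup.eq_iff_div_mem] at h1
          refine ⟨_, h1, ?_⟩
          simp [conjQ, div_eq_mul_inv]
      have hyQ : y ∈ Q := hCQ hyC
      obtain ⟨j, hj⟩ := hQp ⟨y, hyQ⟩
      have hy2 : orderOf y ∣ 2 ^ j := orderOf_dvd_of_pow_eq_one (congrArg Subtype.val hj)
      apply Subtype.ext
      show y = 1
      exact orderOf_eq_one_iff.mp (Nat.eq_one_of_dvd_coprimes (hm.coprime_two_right.pow_right j)
        (orderOf_dvd_of_pow_eq_one hy1) hy2)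
    · intro x hx
      rw [MonoidHom.mem_ker]
      refine MulEquiv.ext fun v => QuotientGroup.induction_on v fun q => ?_
      rw [hfapp]
      show _ = QuotientGroup.mk q
      rw [QuotientGroup.eq_iff_div_mem]
      have : conjQ x q / q = ⁅(⟨x, hx⟩ : Q), q⁆ := by
        apply Subtype.ext
        simp [conjQ, commutatorElement_def, div_eq_mul_inv]
      rw [this]
      exact PGroupsBasic.commutator_le_frattini hQp
        (Subgroup.commutator_mem_commutator (Subgroup.mem_top _) (Subgroup.mem_top _))
  obtain ⟨hcomm, hpow⟩ := PGroupsBasic.quotient_frattini_elementary hQp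
  letI : CommGroup (Q ⧸ frattini Q) :=
    { (inferInstance : Group (Q ⧸ frattini Q)) with mul_comm := hcomm }
  have hV4 : Nat.card (Q ⧸ frattini Q) ≤ 2 ^ 4 := by
    let t : (⊤ : Subgroup Q) ≃* Q := Subgroup.topEquiv
    haveI : ((frattini Q).comap t.toMonoidHom).Normal := inferInstance
    have h := h4 ⊤ ((frattini Q).comap t.toMonoidHom)
    let g := QuotientGroup.congr ((frattini Q).comap t.toMonoidHom) (frattini Q) t
      (Subgroup.map_comap_eq_self_of_surjective t.surjective _)
    have h' := h ⊤ ⟨⟨fun a b => Subtype.ext (g.injective ((map_mul g _ _).trans ((mul_comm _ _).trans (map_mul g _ _).symm)))⟩⟩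
      (fun a _ => g.injective (by rw [map_pow, hpow, map_one]))
    rwa [Subgroup.card_top, Nat.card_congr g.toEquiv] at h'
  obtain ⟨ψ, hψ⟩ := aut_embed hpow hV4
  refine ⟨(ψ.comp (QuotientGroup.kerLift f)).comp (QuotientGroup.quotientMulEquivOfEq hker.symm).toMonoidHom,
    (hψ.comp (QuotientGroup.kerLift_injective f)).comp (MulEquiv.injective _)⟩


end Cfsg.Agent.S3103
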