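import Cfsg.Statements.S3104
import Cfsg.Agent.S3103
import Cfsg.Agent.Lib.HallCore
import Cfsg.Agent.Lib.A8OddRadical92
import Cfsg.Agent.Lib.SectRankS6Module92

set_option autoImplicit false
open Cfsg

namespace Cfsg.Agent.S3104

open Equiv

open scoped commutatorElement

theorem sectional_of_surjective {X Y : Type*} [Group X] [Group Y] {p k : ℕ}
    (h : Cfsg.SectionalPRankLE p k X) (π : X →* Y) (hπ : Function.Surjective π) :
    Cfsg.SectionalPRankLE p k Y := by
  intro H N hN A hab hexp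
  let g : ↥(H.comap π) →* H ⧸ N := (QuotientGroup.mk' N).comp (π.subgroupComap H)
  have hg : Function.Surjective g := (QuotientGroup.mk'_surjective N).comp
    (MonoidHom.subgroupComap_surjective_of_surjective π H hπ)
  let e := QuotientGroup.quotientKerEquivOfSurjective g hg
  have hb := h (H.comap π) g.ker (A.map e.symm.toMonoidHom) (by
    refine ⟨⟨?_⟩⟩
    rintro ⟨_, a, ha, rfl⟩ ⟨_, b, hb, rfl⟩
    apply Subtype.ext
    show e.symm a * e.symm b = e.symm b * e.symm a
    rw [← map_mul, ← map_mul]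
    exact congrArg _ (congrArg Subtype.val (hab.is_comm.comm ⟨a, ha⟩ ⟨b, hb⟩))) (by
    rintro _ ⟨a, ha, rfl⟩
    rw [← map_pow, hexp a ha, map_one])
  rwa [Subgroup.card_map_of_injective e.symm.injective] at hb

/-- The obstruction applied to a two-constrained group. -/
theorem no_S6 {X : Type*} [Group X] [Finite X] (hc : Cfsg.IsPConstrained 2 X) (hO : Cfsg.oddCore X = ⊥)
    (h4 : Cfsg.SectionalPRankLE 2 4 X)
    (β : Perm (Fin 6) →* X ⧸ Cfsg.pCore 2 X) (hβ : Function.Injective β) : False := by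
  haveI : Fact (Nat.Prime 2) := ⟨Nat.prime_two⟩
  set Q := Cfsg.pCore 2 X with hQdef
  haveI : Q.Normal := inferInstance
  have hQp : IsPGroup 2 Q := ComponentsCores.isPGroup_pCore 2
  have hCQ : Subgroup.centralizer (Q : Set X) ≤ Q := by
    have h := PConstrained.centralizer_pCore_quotient_le hc
    exact HallConstrained.centralizer_pCore_le_of_quotient_bot
      ((QuotientGroup.quotientMulEquivOfEq (show Cfsg.pPrimeCore 2 X = ⊥ from hO)).trans
        QuotientGroup.quotientBot) h
  set F := (frattini Q).map Q.subtype with hF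
  haveI : (frattini Q).Characteristic := inferInstance
  haveI hFn : F.Normal := inferInstance
  set π := QuotientGroup.mk' F with hπ
  set V := Q.map π with hVdef
  haveI : V.Normal := Subgroup.Normal.map inferInstance _ (QuotientGroup.mk'_surjective F)
  have hFQ : F ≤ Q := Subgroup.map_subtype_le _
  have hmem : ∀ q : Q, q ∈ frattini Q → π (q : X) = 1 := fun q hq =>
    (QuotientGroup.eq_one_iff _).2 ⟨q, hq, rfl⟩
  have hab : ∀ a ∈ V, ∀ b ∈ V, a * b = b * a := by
    rintro _ ⟨a, ha, rfl⟩ _ ⟨b, hb, rfl⟩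
    rw [← commutatorElement_eq_one_iff_mul_comm, ← map_commutatorElement]
    exact hmem ⁅⟨a, ha⟩, ⟨b, hb⟩⁆ (PGroupsBasic.commutator_le_frattini hQp
      (Subgroup.commutator_mem_commutator (Subgroup.mem_top _) (Subgroup.mem_top _)))
  have h2 : ∀ a ∈ V, a * a = 1 := by
    rintro _ ⟨a, ha, rfl⟩
    rw [← pow_two, ← map_pow]
    exact hmem (⟨a, ha⟩ ^ 2) (PGroupsBasic.pow_mem_frattini hQp _)
  have hY := sectional_of_surjective h4 π (QuotientGroup.mk'_surjective F)
  have hV : Nat.card V ≤ 16 := by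
    have h := hY ⊤ ⊥ (((V.subgroupOf ⊤)).map (QuotientGroup.mk' ⊥)) (by
      refine ⟨⟨?_⟩⟩
      rintro ⟨_, a, ha, rfl⟩ ⟨_, b, hb, rfl⟩
      apply Subtype.ext
      show (QuotientGroup.mk' ⊥) a * (QuotientGroup.mk' ⊥) b = _ * _
      rw [← map_mul, ← map_mul]
      exact congrArg _ (Subtype.ext (hab _ (Subgroup.mem_subgroupOf.1 ha) _
        (Subgroup.mem_subgroupOf.1 hb)))) (by
      rintro _ ⟨a, ha, rfl⟩
      rw [← map_pow, show a ^ 2 = 1 from Subtype.ext (by
        rw [pow_two]; exact h2 _ (Subgroup.mem_subgroupOf.1 ha)), map_one])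
    rw [Subgroup.card_map_of_injective (by
      rw [← MonoidHom.ker_eq_bot_iff, QuotientGroup.ker_mk']),
      Nat.card_congr (Subgroup.subgroupOfEquivOfLe le_top).toEquiv] at h
    exact h
  have hC : Subgroup.centralizer (V : Set (X ⧸ F)) ≤ V := by
    set K := (Subgroup.centralizer (V : Set (X ⧸ F))).comap π with hK
    haveI : K.Normal := inferInstance
    have hKQ : K ≤ Q := by
      refine ComponentsCores.le_pCore' ?_
      intro x
      obtain ⟨k, m, hm, hxm⟩ := Nat.exists_eq_two_pow_mul_odd (orderOf_pos x).ne'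
      refine ⟨k, ?_⟩
      set y : X := ((x ^ (2 ^ k) : K) : X) with hy
      have hy1 : y ^ m = 1 := by
        rw [hy, ← SubmonoidClass.coe_pow, ← pow_mul, ← hxm, pow_orderOf_eq_one, OneMemClass.coe_one]
      have hcop : (Nat.card (Subgroup.zpowers y)).Coprime 2 := by
        rw [Nat.card_zpowers]
        exact Nat.Coprime.coprime_dvd_left (orderOf_dvd_of_pow_eq_one hy1) hm.coprime_two_right
      have hyC : y ∈ Subgroup.centralizer (Q : Set X) := by
        refine CoprimeAction.le_centralizer_of_frattini (A := Subgroup.zpowers y) ?_ ?_ ?_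
          (Subgroup.mem_zpowers y)
        · rw [Subgroup.normalizer_eq_top_iff.2 inferInstance]; exact le_top
        · obtain ⟨j, hj⟩ := (hQp.to_subgroup (frattini Q)).exists_card_eq
          rw [hj]; exact hcop.pow_right j
        · intro a ha q hq
          have haK : a ∈ K := Subgroup.zpowers_le.mpr (x ^ (2 ^ k)).2 ha
          have h1 : π q * π a = π a * π q := haK (π q) ⟨q, hq, rfl⟩
          show a * q * a⁻¹ * q⁻¹ ∈ F
          rw [← QuotientGroup.eq_one_iff, QuotientGroup.mk_mul, QuotientGroup.mk_mul,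
            QuotientGroup.mk_mul, QuotientGroup.mk_inv, QuotientGroup.mk_inv]
          show π a * π q * (π a)⁻¹ * (π q)⁻¹ = 1
          rw [← h1, mul_inv_cancel_right, mul_inv_cancel]
      have hyQ : y ∈ Q := hCQ hyC
      obtain ⟨j, hj⟩ := hQp ⟨y, hyQ⟩
      have hy2 : orderOf y ∣ 2 ^ j := orderOf_dvd_of_pow_eq_one (congrArg Subtype.val hj)
      apply Subtype.ext
      show y = 1
      exact orderOf_eq_one_iff.mp (Nat.eq_one_of_dvd_coprimes (hm.coprime_two_right.pow_right j)
        (orderOf_dvd_of_pow_eq_one hy1) hy2)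
    intro z hz
    obtain ⟨x, rfl⟩ := QuotientGroup.mk'_surjective F z
    exact ⟨x, hKQ hz, rfl⟩
  let e : (X ⧸ F) ⧸ V ≃* X ⧸ Q := QuotientGroup.quotientQuotientEquivQuotient F Q hFQ
  exact SectRankS6Module92.not_sectionalPRankLE V hab h2 hV hC (e.symm.toMonoidHom.comp β)
    (e.symm.injective.comp hβ) hY

def sgnSwap : ℤˣ →* Perm (Fin 2) where
  toFun u := if u = 1 then 1 else swap 0 1
  map_one' := by decide
  map_mul' := by decide

theorem sign_sgnSwap : ∀ u, Perm.sign (sgnSwap u) = u := by decide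

/-- The symmetric group of degree 6 inside the alternating group of degree 8. -/
theorem exists_S6_A8 : ∃ f : Perm (Fin 6) →* alternatingGroup (Fin 8), Function.Injective f := by
  let g : Perm (Fin 6) →* Perm (Fin 6 ⊕ Fin 2) := (Perm.sumCongrHom (Fin 6) (Fin 2)).comp
    ((MonoidHom.id _).prod (sgnSwap.comp Perm.sign))
  refine ⟨((finSumFinEquiv (m := 6) (n := 2)).permCongrHom.toMonoidHom.comp g).codRestrict
    (alternatingGroup (Fin 8)) (fun σ => Perm.mem_alternatingGroup.2 ?_), fun a b h => ?_⟩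
  · show Perm.sign (finSumFinEquiv.permCongr (Perm.sumCongr σ (sgnSwap (Perm.sign σ)))) = 1
    rw [Perm.sign_permCongr, Perm.sign_sumCongr, sign_sgnSwap, Int.units_mul_self]
  · have h1 : g a = g b := (finSumFinEquiv (m := 6) (n := 2)).permCongrHom.injective
      (congrArg Subtype.val h)
    exact (Prod.ext_iff.1 (Perm.sumCongrHom_injective h1)).1

/-- Let X be a finite nonsolvable 2-constrained group with no nontrivial normal subgroup of odd order such that O₂(X) has sectional 2-rank at most 4, and write Q for X/O₂(X). Then Q is isomorphic to the projective special linear group of dimension 3 over the field with 2 elements, to an alternating group of degree n with 5 ≤ n ≤ 8, to a symmetric group of degree n with 5 ≤ n ≤ 7, or else O₃(Q) has order 3 and Q/O₃(Q) is isomorphic to the alternating or the symmetric group of degree 5 (so Q is the direct product of a group of order 3 with the alternating group of degree 5, or an extension of that direct product by a group of order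 2). If moreover X itself has sectional 2-rank at most 4, then Q is not isomorphic to the symmetric group of degree 6 or 7 nor to the alternating group of degree 8. -/
theorem result {X : Type*} [Group X] [Finite X] (hns : ¬ Group.IsSolvable X) (hc : Cfsg.IsPConstrained 2 X) (hO : Cfsg.oddCore X = ⊥)
    (h4 : Cfsg.SectionalPRankLE 2 4 ↥(Cfsg.pCore 2 X)) :
    ((∃ (F : Type) (_ : Field F) (_ : Fintype F), Fintype.card F = 2 ∧
          Nonempty (X ⧸ Cfsg.pCore 2 X ≃* Matrix.ProjectiveSpecialLinearGroup (Fin 3) F)) ∨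
        (∃ n : ℕ, 5 ≤ n ∧ n ≤ 8 ∧ Nonempty (X ⧸ Cfsg.pCore 2 X ≃* ↥(alternatingGroup (Fin n)))) ∨
        (∃ n : ℕ, 5 ≤ n ∧ n ≤ 7 ∧ Nonempty (X ⧸ Cfsg.pCore 2 X ≃* Equiv.Perm (Fin n))) ∨
        (Nat.card ↥(Cfsg.pCore 3 (X ⧸ Cfsg.pCore 2 X)) = 3 ∧
          (Nonempty ((X ⧸ Cfsg.pCore 2 X) ⧸ Cfsg.pCore 3 (X ⧸ Cfsg.pCore 2 X) ≃* ↥(alternatingGroup (Fin 5))) ∨
            Nonempty ((X ⧸ Cfsg.pCore 2 X) ⧸ Cfsg.pCore 3 (X ⧸ Cfsg.pCore 2 X) ≃* Equiv.Perm (Fin 5))))) ∧
      (Cfsg.SectionalPRankLE 2 4 X →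
        ¬ (Nonempty (X ⧸ Cfsg.pCore 2 X ≃* Equiv.Perm (Fin 6)) ∨ Nonempty (X ⧸ Cfsg.pCore 2 X ≃* Equiv.Perm (Fin 7)) ∨
            Nonempty (X ⧸ Cfsg.pCore 2 X ≃* ↥(alternatingGroup (Fin 8))))) := by
  haveI : Fact (Nat.Prime 2) := ⟨Nat.prime_two⟩
  refine ⟨?_, fun hr hq => ?_⟩
  · obtain ⟨f, hf⟩ := S3103.result hc hO h4
    set g := (alternatingGroup (Fin 8)).subtype.comp f
    have hg : Function.Injective g := (Subgroup.subtype_injective _).comp hf
    set P := g.range
    let e : X ⧸ Cfsg.pCore 2 X ≃* P := MonoidHom.ofInjective hg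
    have hA : P ≤ alternatingGroup (Fin 8) := by rintro _ ⟨a, rfl⟩; exact (f a).2
    have hns' : ¬ Group.IsSolvable P := fun h => hns (by
      haveI := h
      haveI : Group.IsSolvable (X ⧸ Cfsg.pCore 2 X) :=
        Group.isSolvable_of_isSolvable_injective (f := e.toMonoidHom) e.injective
      haveI := (ComponentsCores.isPGroup_pCore 2 : IsPGroup 2 (Cfsg.pCore 2 X)).isNilpotent
      exact Group.isSolvable_of_ker_le_range (Cfsg.pCore 2 X).subtype
        (QuotientGroup.mk' (Cfsg.pCore 2 X)) (by rw [QuotientGroup.ker_mk', Subgroup.range_subtype]))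
    have h2 : Cfsg.pCore 2 P = ⊥ := by
      rw [← ComponentsCores.pCore_map_mulEquiv e, HallCore.pCore_quotient_self, Subgroup.map_bot]
    have hne : P ≠ ⊥ := fun h => hns' (by
      haveI : Subsingleton P := h ▸ inferInstance
      infer_instance)
    by_cases h2' : Cfsg.pPrimeCore 2 P = ⊥
    · rcases A8SubgroupsStructure.classify P hA hne h2 h2' with ⟨n, h5, h8, ⟨i⟩⟩ | ⟨⟨i⟩⟩ | ⟨⟨i⟩⟩ | ⟨⟨i⟩⟩
      · exact Or.inr (Or.inl ⟨n, h5, h8, ⟨e.trans i⟩⟩)
      · exact Or.inr (Or.inr (Or.inl ⟨5, le_rfl, by norm_num, ⟨e.trans i⟩⟩))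
      · exact Or.inr (Or.inr (Or.inl ⟨6, by norm_num, by norm_num, ⟨e.trans i⟩⟩))
      · left
        have hcen : Subgroup.center (Matrix.SpecialLinearGroup (Fin 3) (ZMod 2)) = ⊥ := by
          rw [← Subgroup.card_eq_one, PSLCard.card_center_SL, Nat.card_zmod]; rfl
        let j : Matrix.SpecialLinearGroup (Fin 3) (ZMod 2) ≃* GL (Fin 3) (ZMod 2) :=
          MulEquiv.ofBijective Matrix.SpecialLinearGroup.toGL
            ⟨Matrix.SpecialLinearGroup.toGL_injective, fun a =>
              ⟨⟨a.1, A8SubgroupsStructure.eq_one_of_ne_zero _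
                (Matrix.det_ne_zero_of_left_inverse (B := a⁻¹.1) (by simp))⟩, Units.ext rfl⟩⟩
        exact ⟨ZMod 2, inferInstance, inferInstance, ZMod.card 2,
          ⟨e.trans (i.trans (j.symm.trans (QuotientGroup.quotientBot.symm.trans
            (QuotientGroup.quotientMulEquivOfEq hcen.symm))))⟩⟩
    · right; right; right
      obtain ⟨hc3, hiso⟩ := A8OddRadical92.odd_radical hA hns' h2'
      have hmap := ComponentsCores.pCore_map_mulEquiv e 3
      refine ⟨?_, ?_⟩
      · exact ((Subgroup.card_map_of_injective e.injective).symm.trans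
          (Nat.card_congr (MulEquiv.subgroupCongr hmap).toEquiv)).trans hc3
      · let c := QuotientGroup.congr _ _ e hmap
        exact hiso.imp (fun ⟨i⟩ => ⟨c.trans i⟩) (fun ⟨i⟩ => ⟨c.trans i⟩)
  · obtain ⟨β, hβ⟩ : ∃ β : Perm (Fin 6) →* X ⧸ Cfsg.pCore 2 X, Function.Injective β := by
      rcases hq with ⟨⟨i⟩⟩ | ⟨⟨i⟩⟩ | ⟨⟨i⟩⟩
      · exact ⟨i.symm.toMonoidHom, i.symm.injective⟩
      · exact ⟨i.symm.toMonoidHom.comp (Perm.viaEmbeddingHom (Fin.castLEEmb (by norm_num : 6 ≤ 7))),
          i.symm.injective.comp (Perm.viaEmbeddingHom_injective _)⟩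
      · obtain ⟨f, hf⟩ := exists_S6_A8
        exact ⟨i.symm.toMonoidHom.comp f, i.symm.injective.comp hf⟩
    exact no_S6 hc hO hr β hβ

end Cfsg.Agent.S3104
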