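import Cfsg.Statements.S3105
import Cfsg.Agent.Lib.L32Main92
import Cfsg.Agent.Lib.PSLSimple
import Cfsg.Agent.Lib.PSLCard
import Cfsg.Agent.Lib.PConstrained
import Cfsg.Agent.Lib.HallConstrained
import Cfsg.Agent.Lib.ComponentsCores

set_option autoImplicit false
open Cfsg

namespace Cfsg.Agent.S3105

open Cfsg.Agent.L32Core92 Cfsg.Agent.L32Natural92

theorem big_of_card {F : Type*} [Field F] [Fintype F] (hF : Fintype.card F = 2) :
    Big (Matrix.ProjectiveSpecialLinearGroup (Fin 3) F) := by
  refine ⟨PSLSimple.isSimpleGroup_PSL_fin' (by norm_num) (fun h => absurd h (by norm_num)), ?_⟩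
  have h1 := PSLCard.card_PSL_mul (F := F) 3
  have h2 := PSLCard.card_SL (F := F) 3
  rw [Nat.card_eq_fintype_card, hF] at h1 h2
  simp [Fin.prod_univ_three] at h1 h2
  omega

/-- The homomorphism from a cyclic group of order `n` given by an element. -/
def powHom {Q : Type*} [CommGroup Q] (n : ℕ) (a : Q) (ha : a ^ n = 1) : Multiplicative (ZMod n) →* Q :=
  AddMonoidHom.toMultiplicativeLeft (ZMod.lift n ⟨zmultiplesHom (Additive Q) (Additive.ofMul a), by
    show ((n : ℤ) • Additive.ofMul a) = 0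
    rw [natCast_zsmul, ← ofMul_pow, ha, ofMul_one]⟩)

theorem powHom_apply {Q : Type*} [CommGroup Q] (n : ℕ) [NeZero n] (a : Q) (ha : a ^ n = 1)
    (m : Multiplicative (ZMod n)) : powHom n a ha m = a ^ (Multiplicative.toAdd m).val := by
  obtain ⟨k, rfl⟩ : ∃ k : ℕ, Multiplicative.ofAdd (k : ZMod n) = m :=
    ⟨(Multiplicative.toAdd m).val, by rw [ZMod.natCast_zmod_val]; rfl⟩
  have e : powHom n a ha (Multiplicative.ofAdd (k : ZMod n)) = a ^ k := by
    show Additive.toMul (ZMod.lift n _ ((k : ℕ) : ZMod n)) = _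
    rw [show ((k : ℕ) : ZMod n) = ((k : ℤ) : ZMod n) from (Int.cast_natCast k).symm, ZMod.lift_coe]
    show Additive.toMul ((k : ℤ) • Additive.ofMul a) = _
    rw [natCast_zsmul]; rfl
  rw [e, toAdd_ofAdd, ZMod.val_natCast, ← pow_eq_pow_mod k ha]

theorem equiv_Z4 {X : Type*} [Group X] [Finite X] (Q : Subgroup X)
    (hab : ∀ a ∈ Q, ∀ b ∈ Q, a * b = b * a) (hQ : Nat.card Q = 32) (hS : Nat.card (sqs Q) = 2) :
    Nonempty (↥Q ≃* Multiplicative (ZMod 4) × (Fin 3 → Multiplicative (ZMod 2))) := by
  classical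
  letI : CommGroup Q := { (inferInstance : Group Q) with
    mul_comm := fun a b => Subtype.ext (hab a a.2 b b.2) }
  letI := Fintype.ofFinite Q
  obtain ⟨⟨ρ, hρm⟩, hρ1, huniq⟩ := (Nat.card_eq_two_iff' (1 : sqs Q)).1 hS
  have hρne : ρ ≠ 1 := fun e => hρ1 (Subtype.ext e)
  have hmem : ∀ z ∈ sqs Q, z = 1 ∨ z = ρ := fun z hz => by
    by_cases h : z = 1
    · exact Or.inl h
    · exact Or.inr (congrArg Subtype.val (huniq ⟨z, hz⟩ fun e => h (congrArg Subtype.val e)))
  obtain ⟨x, hx, hx2⟩ : ∃ x ∈ Q, x * x = ρ := by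
    by_contra h
    push Not at h
    have : sqs Q ≤ ⊥ := (Subgroup.closure_le _).2 fun _ ⟨q, hq, e⟩ => by
      rw [SetLike.mem_coe, Subgroup.mem_bot, ← e]
      exact (hmem _ (sq_mem hq)).resolve_right (h q hq)
    have := Subgroup.card_le_of_le this
    rw [Subgroup.card_bot, hS] at this
    omega
  set x' : Q := ⟨x, hx⟩
  set r : Q := ⟨ρ, sqs_le hρm⟩
  have hxx : x' * x' = r := Subtype.ext hx2
  have hr1 : r ≠ 1 := fun e => hρne (congrArg Subtype.val e)
  have hsq : ∀ a : Q, a * a = 1 ∨ a * a = r := fun a =>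
    (hmem _ (sq_mem a.2)).imp (fun e => Subtype.ext e) fun e => Subtype.ext e
  have hrr : r * r = 1 := by
    rcases hmem _ (mul_mem hρm hρm) with h | h
    · exact Subtype.ext h
    · exact absurd (mul_eq_left.1 h) hρne
  set T : Finset Q := Finset.univ.filter fun a => a * a = 1 with hT
  have hxT : x' * x' ≠ 1 := fun h => hr1 (hxx.symm.trans h)
  have hT16 : T.card = 16 := by
    have hc : (Finset.univ : Finset Q).card = 32 := by
      rw [Finset.card_univ, ← Nat.card_eq_fintype_card, hQ]
    have hsum := Finset.card_filter_add_card_filter_not (s := (Finset.univ : Finset Q)) (p := fun a => a * a = 1)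
    have heq : T.card = (Finset.univ.filter fun a : Q => ¬ a * a = 1).card := by
      refine Finset.card_bij' (fun a _ => a * x') (fun a _ => a * x'⁻¹) ?_ ?_ ?_ ?_
      · intro a ha
        simp only [hT, Finset.mem_filter, Finset.mem_univ, true_and] at ha ⊢
        rw [mul_mul_mul_comm, ha, one_mul]; exact hxT
      · intro a ha
        simp only [hT, Finset.mem_filter, Finset.mem_univ, true_and] at ha ⊢
        rw [mul_mul_mul_comm, (hsq a).resolve_left ha, ← mul_inv_rev, hxx, mul_inv_cancel]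
      all_goals (intro a _; simp)
    rw [hc, ← hT] at hsum
    omega
  have pick : ∀ l : Finset Q, l.card < 16 → ∃ t, t * t = 1 ∧ t ∉ l := fun l hl => by
    by_contra h
    push Not at h
    have := Finset.card_le_card (s := T) (t := l) fun t ht => h t (Finset.mem_filter.1 ht).2
    omega
  obtain ⟨t1, h1, n1⟩ := pick {1, r} (lt_of_le_of_lt Finset.card_le_two (by norm_num))
  obtain ⟨t2, h2, n2⟩ := pick {1, r, t1, r * t1} (lt_of_le_of_lt Finset.card_le_four (by norm_num))
  obtain ⟨t3, h3, n3⟩ := pick ({1, r, t1, r * t1} ∪ ({1, r, t1, r * t1} : Finset Q).image (t2 * ·))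
    (lt_of_le_of_lt (Finset.card_union_le _ _) (by
      have := Finset.card_image_le (s := ({1, r, t1, r * t1} : Finset Q)) (f := (t2 * ·))
      have := (Finset.card_le_four (a := (1 : Q)) (b := r) (c := t1) (d := r * t1))
      omega))
  simp only [Finset.mem_insert, Finset.mem_singleton, Finset.mem_union, Finset.mem_image, not_or,
    not_exists, not_and, forall_eq_or_imp, forall_eq] at n1 n2 n3
  have hx4 : x' ^ 4 = 1 := by
    rw [show x' ^ 4 = x' * x' * (x' * x') by simp only [pow_succ, pow_zero, one_mul, mul_assoc], hxx, hrr]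
  let ev : Fin 3 → ((Fin 3 → Multiplicative (ZMod 2)) →* Multiplicative (ZMod 2)) :=
    fun i => Pi.evalMonoidHom _ i
  let ψ : Multiplicative (ZMod 4) × (Fin 3 → Multiplicative (ZMod 2)) →* Q :=
    (powHom 4 x' hx4).coprod ((powHom 2 t1 (by rw [pow_two, h1])).comp (ev 0) *
      (powHom 2 t2 (by rw [pow_two, h2])).comp (ev 1) * (powHom 2 t3 (by rw [pow_two, h3])).comp (ev 2))
  have hψ : ∀ m c, ψ (m, c) = x' ^ (Multiplicative.toAdd m).val * (t1 ^ (Multiplicative.toAdd (c 0)).val *
      t2 ^ (Multiplicative.toAdd (c 1)).val * t3 ^ (Multiplicative.toAdd (c 2)).val) := fun m c => by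
    simp only [ψ, ev, MonoidHom.coprod_apply, MonoidHom.mul_apply, MonoidHom.comp_apply,
      Pi.evalMonoidHom_apply, powHom_apply]
  have key : ∀ (m i j k : ℕ), m < 4 → i < 2 → j < 2 → k < 2 →
      x' ^ m * (t1 ^ i * t2 ^ j * t3 ^ k) = 1 → m = 0 ∧ i = 0 ∧ j = 0 ∧ k = 0 := by
    intro m i j k hm hi hj hk e
    have e2 : ∀ {t : Q}, t * t = 1 → ∀ n : ℕ, t ^ n * t ^ n = 1 := fun {t} ht n => by
      rw [← mul_pow, ht, one_pow]
    have hs : x' ^ m * x' ^ m = 1 := by
      have := congrArg (fun z => z * z) e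
      simp only [mul_mul_mul_comm _ (_ * _ * _), mul_mul_mul_comm _ (t3 ^ k),
        mul_mul_mul_comm (t1 ^ i) (t2 ^ j), e2 h1, e2 h2, e2 h3, mul_one, one_mul] at this
      exact this
    have hmev : ∃ d, d < 2 ∧ m = 2 * d := by
      rcases Nat.even_or_odd' m with ⟨d, rfl | rfl⟩
      · exact ⟨d, by omega, rfl⟩
      · exfalso
        rw [pow_succ, mul_mul_mul_comm, ← pow_add, show 2 * d + 2 * d = 4 * d by omega, pow_mul, hx4,
          one_pow, one_mul] at hs
        exact hxT hs
    obtain ⟨d, hd, rfl⟩ := hmev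
    rw [pow_mul, pow_two, hxx] at e
    have inv : ∀ {t : Q}, t * t = 1 → t⁻¹ = t := fun ht => inv_eq_of_mul_eq_one_right ht
    have solve : ∀ {t u : Q}, t * t = 1 → u * t = 1 → t = u := fun {t u} ht hu' => by
      rw [eq_inv_of_mul_eq_one_left hu', inv ht]
    have hk0 : k = 0 := by
      by_contra hk1
      obtain rfl : k = 1 := by omega
      have h := solve h3 (show r ^ d * (t1 ^ i * t2 ^ j) * t3 = 1 by
        simpa [mul_assoc] using e)
      obtain ⟨⟨a1, a2, a3, a4⟩, b1, b2, b3, b4⟩ := n3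
      interval_cases i <;> interval_cases j <;> interval_cases d <;>
        simp only [pow_zero, pow_one, one_mul, mul_one] at h
      all_goals first
        | exact a1 h | exact a2 h | exact a3 h | exact a4 h
        | (apply b1; rw [h]; simp [mul_comm, mul_left_comm]; done)
        | (apply b2; rw [h]; simp [mul_comm, mul_left_comm]; done)
        | (apply b3; rw [h]; simp [mul_comm, mul_left_comm]; done)
        | (apply b4; rw [h]; ac_rfl)
    subst hk0
    rw [pow_zero, mul_one] at e
    have hj0 : j = 0 := by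
      by_contra hj1
      obtain rfl : j = 1 := by omega
      have h := solve h2 (show r ^ d * t1 ^ i * t2 = 1 by simpa [mul_assoc] using e)
      obtain ⟨a1, a2, a3, a4⟩ := n2
      interval_cases i <;> interval_cases d <;> simp only [pow_zero, pow_one, one_mul, mul_one] at h
      all_goals first
        | exact a1 h | exact a2 h | exact a3 h | exact a4 h
    subst hj0
    rw [pow_zero, mul_one] at e
    have hi0 : i = 0 := by
      by_contra hi1
      obtain rfl : i = 1 := by omega
      have h := solve h1 (show r ^ d * t1 = 1 by simpa using e)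
      obtain ⟨a1, a2⟩ := n1
      interval_cases d <;> simp only [pow_zero, pow_one] at h
      all_goals first
        | exact a1 h | exact a2 h
    subst hi0
    rw [pow_zero, mul_one] at e
    have hd0 : d = 0 := by
      by_contra hd1
      obtain rfl : d = 1 := by omega
      exact hr1 (by rwa [pow_one] at e)
    omega
  have hinj : Function.Injective ψ := by
    rw [injective_iff_map_eq_one]
    rintro ⟨m, c⟩ h
    rw [hψ] at h
    obtain ⟨a, b0, b1, b2⟩ := key _ _ _ _ (ZMod.val_lt _) (ZMod.val_lt _) (ZMod.val_lt _) (ZMod.val_lt _) h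
    refine Prod.ext ((ZMod.val_eq_zero _).1 a) (funext fun i => ?_)
    fin_cases i
    exacts [(ZMod.val_eq_zero _).1 b0, (ZMod.val_eq_zero _).1 b1, (ZMod.val_eq_zero _).1 b2]
  refine ⟨(MulEquiv.ofBijective ψ ((Nat.bijective_iff_injective_and_card ψ).2 ⟨hinj, ?_⟩)).symm⟩
  rw [hQ, Nat.card_prod, Nat.card_fun, Nat.card_eq_fintype_card, Fintype.card_multiplicative, ZMod.card,
    Nat.card_eq_fintype_card, Fintype.card_multiplicative, ZMod.card, Nat.card_eq_fintype_card, Fintype.card_fin]
  norm_num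


/-- Let X be a finite nonsolvable 2-constrained group with no nontrivial normal subgroup of odd order and of sectional 2-rank at most 4, and suppose X/O₂(X) is isomorphic to the projective special linear group of dimension 3 over the field with 2 elements. Then O₂(X) is elementary abelian of order 8 or 16, or is isomorphic to the direct product of a cyclic group of order 4 and an elementary abelian group of order 8. -/
theorem result {X : Type*} [Group X] [Finite X] (hns : ¬ Group.IsSolvable X) (hc : Cfsg.IsPConstrained 2 X) (hO : Cfsg.oddCore X = ⊥)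
    (h4 : Cfsg.SectionalPRankLE 2 4 X) {F : Type*} [Field F] [Fintype F] (hF : Fintype.card F = 2)
    (hQ : Nonempty (X ⧸ Cfsg.pCore 2 X ≃* Matrix.ProjectiveSpecialLinearGroup (Fin 3) F)) :
    (Cfsg.IsElementaryAbelian 2 (Cfsg.pCore 2 X) ∧ (Nat.card ↥(Cfsg.pCore 2 X) = 8 ∨ Nat.card ↥(Cfsg.pCore 2 X) = 16)) ∨
      Nonempty (↥(Cfsg.pCore 2 X) ≃* Multiplicative (ZMod 4) × (Fin 3 → Multiplicative (ZMod 2))) := by
  haveI : Fact (Nat.Prime 2) := ⟨Nat.prime_two⟩
  obtain ⟨eQ⟩ := hQ
  set Q := Cfsg.pCore 2 X with hQdef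
  let π : X →* Matrix.ProjectiveSpecialLinearGroup (Fin 3) F :=
    eQ.toMonoidHom.comp (QuotientGroup.mk' Q)
  have B := big_of_card hF
  have hker : π.ker = Q := by
    ext x
    rw [MonoidHom.mem_ker]
    show eQ (QuotientGroup.mk' Q x) = 1 ↔ _
    rw [MulEquiv.map_eq_one_iff]
    exact QuotientGroup.eq_one_iff x
  have hQp : IsPGroup 2 Q := ComponentsCores.isPGroup_pCore 2
  have hCQ : Subgroup.centralizer (Q : Set X) ≤ Q := by
    have h := PConstrained.centralizer_pCore_quotient_le hc
    exact HallConstrained.centralizer_pCore_le_of_quotient_bot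
      ((QuotientGroup.quotientMulEquivOfEq (show Cfsg.pPrimeCore 2 X = ⊥ from hO)).trans
        QuotientGroup.quotientBot) h
  have hπs : Function.Surjective π := eQ.surjective.comp (QuotientGroup.mk'_surjective Q)
  have hfaith : ∃ x, ∃ q ∈ Q, x * q * x⁻¹ * q⁻¹ ∉ sqs Q := by
    by_contra h
    push Not at h
    haveI := B.finite
    obtain ⟨z, hz⟩ := exists_prime_orderOf_dvd_card' (G := X) (p := 7) (hp := ⟨by norm_num⟩) (by
      have := Subgroup.card_eq_card_quotient_mul_card_subgroup Q
      rw [this, Nat.card_congr eQ.toEquiv, B.card]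
      exact Dvd.dvd.mul_right (by norm_num) _)
    have hcop : (Nat.card (Subgroup.zpowers z)).Coprime 2 := by
      rw [Nat.card_zpowers, hz]; norm_num
    have hzC : z ∈ Subgroup.centralizer (Q : Set X) := by
      refine CoprimeAction.le_centralizer_of_frattini (A := Subgroup.zpowers z) ?_ ?_ ?_
        (Subgroup.mem_zpowers z)
      · rw [Subgroup.normalizer_eq_top_iff.2 inferInstance]; exact le_top
      · obtain ⟨j, hj⟩ := (hQp.to_subgroup (frattini Q)).exists_card_eq
        rw [hj]; exact hcop.pow_right j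
      · intro a _ q hq
        have hle : sqs Q ≤ (frattini Q).map Q.subtype := (Subgroup.closure_le _).2 fun _ ⟨p, hp, e⟩ => by
          refine ⟨⟨p, hp⟩ ^ 2, PGroupsBasic.pow_mem_frattini hQp _, ?_⟩
          rw [← e, pow_two]; rfl
        exact hle (h a q hq)
    obtain ⟨k, hk⟩ := hQp ⟨z, hCQ hzC⟩
    have h2 : orderOf z ∣ 2 ^ k := orderOf_dvd_of_pow_eq_one (congrArg Subtype.val hk)
    rw [hz] at h2
    have := (by norm_num : Nat.Prime 7).dvd_of_dvd_pow h2
    norm_num at this
  have C : Core π Q := ⟨hπs, hker, hQp, B, hfaith, h4⟩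
  rcases L32Main92.main C with ⟨hbot, hcard⟩ | ⟨hab, hcard, hFc⟩
  · left
    have h2 : ∀ a ∈ Q, a * a = 1 := fun a ha =>
      Subgroup.mem_bot.1 (hbot ▸ (sq_mem ha : a * a ∈ sqs Q))
    have hcomm : ∀ a ∈ Q, ∀ b ∈ Q, a * b = b * a := fun a ha b hb => by
      refine comm_eq_one_iff.1 (Subgroup.mem_bot.1 ?_)
      rw [← hbot]; exact comm_mem ha hb
    exact ⟨⟨PGroupsBasic.isMulCommutative_of_forall hcomm, fun a ha => by rw [pow_two]; exact h2 a ha⟩, hcard⟩
  · exact Or.inr (equiv_Z4 Q hab hcard hFc)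

end Cfsg.Agent.S3105
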