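import Cfsg.Statements.S3106
import Cfsg.Agent.Lib.PConstrained
import Cfsg.Agent.Lib.HallConstrained
import Cfsg.Agent.Lib.ComponentsCores
import Cfsg.Agent.Lib.A5OTwoMain92
import Cfsg.Agent.Lib.A5OTwoDecomp92

set_option autoImplicit false
open Cfsg

namespace Cfsg.Agent.S3106

open Cfsg.Agent.A5OTwo92

/-- Let X be a finite nonsolvable 2-constrained group with no nontrivial normal subgroup of odd order and of sectional 2-rank at most 4, and suppose X/O₂(X) contains a subgroup isomorphic to the alternating group of degree 5. Then O₂(X) is elementary abelian of order 16, or O₂(X) is a central product of a quaternion group of order 8 and a dihedral group of order 8 (it has order 32 and is generated by two elementwise-commuting subgroups, one quaternion of order 8 and one dihedral of order 8, meeting in the centre). -/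
theorem result {X : Type*} [Group X] [Finite X] (hns : ¬ Group.IsSolvable X) (hc : Cfsg.IsPConstrained 2 X) (hO : Cfsg.oddCore X = ⊥)
    (h4 : Cfsg.SectionalPRankLE 2 4 X)
    (hQ : ∃ A : Subgroup (X ⧸ Cfsg.pCore 2 X), Nonempty (↥A ≃* ↥(alternatingGroup (Fin 5)))) :
    (Cfsg.IsElementaryAbelian 2 (Cfsg.pCore 2 X) ∧ Nat.card ↥(Cfsg.pCore 2 X) = 16) ∨
      (Nat.card ↥(Cfsg.pCore 2 X) = 32 ∧ ∃ A B : Subgroup ↥(Cfsg.pCore 2 X),
        Nonempty (↥A ≃* QuaternionGroup 2) ∧ Nonempty (↥B ≃* DihedralGroup 4) ∧ (∀ a ∈ A, ∀ b ∈ B, a * b = b * a) ∧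
          A ⊔ B = ⊤ ∧ A ⊓ B = Subgroup.center ↥(Cfsg.pCore 2 X)) := by
  haveI : Fact (Nat.Prime 2) := ⟨Nat.prime_two⟩
  obtain ⟨A, ⟨eA⟩⟩ := hQ
  set Q := Cfsg.pCore 2 X with hQdef
  have hCQ : Subgroup.centralizer (Q : Set X) ≤ Q := by
    have h := PConstrained.centralizer_pCore_quotient_le hc
    exact HallConstrained.centralizer_pCore_le_of_quotient_bot
      ((QuotientGroup.quotientMulEquivOfEq (show Cfsg.pPrimeCore 2 X = ⊥ from hO)).trans
        QuotientGroup.quotientBot) h
  set Y := A.comap (QuotientGroup.mk' Q)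
  let π : Y →* A5 := eA.toMonoidHom.comp ((QuotientGroup.mk' Q).subgroupComap A)
  have hπ : Function.Surjective π := eA.surjective.comp
    (MonoidHom.subgroupComap_surjective_of_surjective _ A (QuotientGroup.mk'_surjective Q))
  have hQY : Q ≤ Y := fun q hq => by
    rw [Subgroup.mem_comap, show QuotientGroup.mk' Q q = 1 from (QuotientGroup.eq_one_iff q).2 hq]
    exact one_mem _
  set Q' := Q.subgroupOf Y
  have hker : π.ker = Q' := by
    ext y
    rw [MonoidHom.mem_ker, Subgroup.mem_subgroupOf]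
    show eA _ = 1 ↔ _
    rw [MulEquiv.map_eq_one_iff, Subtype.ext_iff]
    exact QuotientGroup.eq_one_iff (y : X)
  let e : Q' ≃* Q := Subgroup.subgroupOfEquivOfLe hQY
  have hp : IsPGroup 2 Q' := (ComponentsCores.isPGroup_pCore 2).of_equiv e.symm
  have hC : Subgroup.centralizer (Q' : Set Y) ≤ Q' := fun y hy =>
    Subgroup.mem_subgroupOf.2 (hCQ fun q hq =>
      congrArg Subtype.val (hy ⟨q, hQY hq⟩ (Subgroup.mem_subgroupOf.2 hq)))
  rcases main hπ hker hp hC (sectional_subgroup h4 Y) with ⟨hab, hsq, hcard⟩ | ⟨hcard, z, hz, hzc, P, D, hP⟩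
  · left
    refine ⟨⟨⟨⟨fun a b => ?_⟩⟩, fun a ha => ?_⟩, by rw [← hcard]; exact Nat.card_congr e.symm.toEquiv⟩
    · exact Subtype.ext (congrArg (fun t : Y => (t : X)) (hab ⟨a, hQY a.2⟩ a.2 ⟨b, hQY b.2⟩ b.2))
    · rw [pow_two]
      exact congrArg (fun t : Y => (t : X)) (hsq ⟨a, hQY ha⟩ ha)
  · right
    refine ⟨by rw [← hcard]; exact Nat.card_congr e.symm.toEquiv, ?_⟩
    obtain ⟨A', B', hA, hB, ⟨iA⟩, ⟨iB⟩, hcomm, hsup, hinf, hcen⟩ := D.decomposition hP hz hzc
    let f : Q' →* Q := e.toMonoidHom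
    have hf : Function.Injective f := e.injective
    refine ⟨(A'.subgroupOf Q').map f, (B'.subgroupOf Q').map f, ?_, ?_, ?_, ?_, ?_⟩
    · exact ⟨((Subgroup.equivMapOfInjective _ f hf).symm.trans (Subgroup.subgroupOfEquivOfLe hA)).trans iA⟩
    · exact ⟨((Subgroup.equivMapOfInjective _ f hf).symm.trans (Subgroup.subgroupOfEquivOfLe hB)).trans iB⟩
    · rintro _ ⟨a, ha, rfl⟩ _ ⟨b, hb, rfl⟩
      rw [← map_mul, ← map_mul]
      exact congrArg f (Subtype.ext (hcomm a ha b hb))
    · rw [← Subgroup.map_sup, ← Subgroup.subgroupOf_sup hA hB, hsup, Subgroup.subgroupOf_self,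
        ← MonoidHom.range_eq_map]
      exact MonoidHom.range_eq_top.2 e.surjective
    · rw [← Subgroup.map_inf _ _ f hf]
      ext w
      obtain ⟨v, rfl⟩ := e.surjective w
      constructor
      · rintro ⟨v', hv', he⟩
        obtain rfl := hf he
        refine Subgroup.mem_center_iff.2 fun q => ?_
        obtain ⟨q', rfl⟩ := e.surjective q
        have hP' : (v' : Y) ∈ P := (hinf _).1 ⟨hv'.1, hv'.2⟩
        show e q' * e v' = e v' * e q'
        rw [← map_mul, ← map_mul]
        exact congrArg e (Subtype.ext (D.central hP hzc _ hP' q'))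
      · intro hv
        refine ⟨v, ?_, rfl⟩
        have h := (hinf (v : Y)).2 (hcen _ v.2 fun q hq => by
          have := Subgroup.mem_center_iff.1 hv (e ⟨q, hq⟩)
          rw [← map_mul, ← map_mul] at this
          exact (congrArg Subtype.val (e.injective this)).symm)
        exact ⟨h.1, h.2⟩

end Cfsg.Agent.S3106
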