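import Cfsg.Statements.S3110
import Cfsg.Agent.Lib.SylowCores35
import Cfsg.Agent.Lib.SFTBalance
import Cfsg.Agent.S1327
import Cfsg.Agent.S0205

set_option autoImplicit false
open Cfsg

namespace Cfsg.Agent.S3110

open Cfsg.Agent.SignalizerCoprime Cfsg.Agent.SylowCores35 Cfsg.Agent.SFTGroup

universe u

variable {G : Type u} [Group G] [Finite G]

theorem exists_normal_eight (S : Sylow 2 G) (A : Subgroup ↥(S : Subgroup G)) (hAn : A.Normal)
    (hAab : IsMulCommutative ↥A) (hA3 : ¬ Cfsg.PRankLE 2 2 ↥A) (S' : Sylow 2 G) :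
    ∃ E : Subgroup ↥(S' : Subgroup G), E.Normal ∧ Cfsg.IsElementaryAbelian 2 E ∧
      8 ≤ Nat.card E := by
  haveI := Fact.mk Nat.prime_two
  let E : Subgroup ↥(S : Subgroup G) :=
    { carrier := {x | x ∈ A ∧ x ^ 2 = 1}
      one_mem' := ⟨one_mem A, one_pow 2⟩
      mul_mem' := fun {a b} ha hb => ⟨mul_mem ha.1 hb.1, by
        have hc : Commute a b := congrArg Subtype.val (hAab.is_comm.comm ⟨a, ha.1⟩ ⟨b, hb.1⟩)
        rw [hc.mul_pow, ha.2, hb.2, one_mul]⟩
      inv_mem' := fun {a} ha => ⟨inv_mem ha.1, by rw [inv_pow, ha.2, inv_one]⟩ }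
  have hEn : E.Normal := ⟨fun x hx g => ⟨hAn.conj_mem x hx.1 g, by
    rw [conj_pow, hx.2, mul_one, mul_inv_cancel]⟩⟩
  have hEel : Cfsg.IsElementaryAbelian 2 E :=
    ⟨⟨⟨fun a b => by
      apply Subtype.ext
      have h := congrArg Subtype.val (hAab.is_comm.comm ⟨a.1, a.2.1⟩ ⟨b.1, b.2.1⟩)
      exact h⟩⟩, fun x hx => hx.2⟩
  have hE8 : 8 ≤ Nat.card E := by
    simp only [Cfsg.PRankLE, not_forall, not_le] at hA3
    obtain ⟨F, -, hFp, hF⟩ := hA3
    have hle : F.map A.subtype ≤ E := by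
      rintro _ ⟨x, hx, rfl⟩
      exact ⟨x.2, by rw [← map_pow, hFp x hx, map_one]⟩
    have h4 := Subgroup.card_le_of_le hle
    rw [Subgroup.card_map_of_injective A.subtype_injective] at h4
    obtain ⟨k, hk⟩ := IsPGroup.iff_card.1 (S.isPGroup'.to_subgroup E)
    rw [hk] at h4 ⊢
    have : 2 < k := (Nat.pow_lt_pow_iff_right (show 1 < 2 by norm_num)).1 (hF.trans_le h4)
    exact Nat.pow_le_pow_right (show 1 ≤ 2 by norm_num) this
  refine ⟨E.map (S.equiv S').toMonoidHom, hEn.map _ (S.equiv S').surjective, ⟨⟨⟨?_⟩⟩, ?_⟩, ?_⟩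
  · intro a b
    obtain ⟨x, hx, hxa⟩ := a.2
    obtain ⟨y, hy, hyb⟩ := b.2
    refine Subtype.ext ?_
    simp only [Subgroup.coe_mul]
    rw [← hxa, ← hyb, ← map_mul, ← map_mul]
    exact congrArg _ (congrArg Subtype.val (hEel.1.is_comm.comm ⟨x, hx⟩ ⟨y, hy⟩))
  · rintro _ ⟨x, hx, rfl⟩
    rw [← map_pow, hEel.2 x hx, map_one]
  · rw [Subgroup.card_map_of_injective (S.equiv S').injective]
    exact hE8

theorem pLayer_centralizer
    (h2c : ∀ T : Subgroup G, IsPGroup 2 T → T ≠ ⊥ →
      Cfsg.IsPConstrained 2 ↥(Subgroup.normalizer (T : Set G)))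
    {z : G} (hz : orderOf z = 2) :
    Cfsg.pLayer 2 ↥(Subgroup.centralizer ({z} : Set G)) = ⊥ := by
  haveI := Fact.mk Nat.prime_two
  have hz1 : z ≠ 1 := fun h => by simp [h] at hz
  have hN : Subgroup.normalizer (Subgroup.zpowers z : Set G) =
      Subgroup.centralizer ({z} : Set G) := by
    refine le_antisymm (fun g hg => ?_) (fun g hg => ?_)
    · obtain ⟨k, hk⟩ := (Subgroup.mem_normalizer_iff.1 hg z).1 (Subgroup.mem_zpowers z)
      simp only at hk
      refine mem_centralizer_singleton.2 (conj_eq_iff_commute.1 (?_ : g * z * g⁻¹ = z)).symm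
      rcases Int.even_or_odd k with ⟨j, rfl⟩ | ⟨j, rfl⟩
      · exfalso
        rw [← two_mul, zpow_mul, zpow_two, ← pow_two, ← hz, pow_orderOf_eq_one, one_zpow] at hk
        exact hz1 (by simpa [mul_assoc] using congrArg (fun x => g⁻¹ * x * g) hk.symm)
      · rw [← hk, zpow_add, zpow_mul, zpow_two, ← pow_two, ← hz, pow_orderOf_eq_one, one_zpow,
          one_mul, zpow_one]
    · have hle : Subgroup.centralizer ({z} : Set G) ≤
          Subgroup.centralizer (Subgroup.zpowers z : Set G) := by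
        rw [Subgroup.zpowers_eq_closure, Subgroup.centralizer_closure]
      exact centralizer_le_normalizer _ (hle hg)
  have h := h2c (Subgroup.zpowers z) ?_ (fun h => hz1 (Subgroup.zpowers_eq_bot.1 h))
  · rw [hN] at h
    exact (S1327.result 2).1 h
  · exact IsPGroup.of_card (n := 1) (by rw [Nat.card_zpowers, hz, pow_one])

theorem core_isFunctor
    (h2c : ∀ T : Subgroup G, IsPGroup 2 T → T ≠ ⊥ →
      Cfsg.IsPConstrained 2 ↥(Subgroup.normalizer (T : Set G)))
    (B : Subgroup G) (hB : Cfsg.IsElementaryAbelian 2 B) :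
    Cfsg.IsSolvableSignalizerFunctor 2 B (fun b => Cfsg.centralizerPPrimeCore 2 b) := by
  haveI := Fact.mk Nat.prime_two
  refine ⟨⟨fun a _ _ => SignalizerBasic.centralizerPPrimeCore_le 2 a,
    fun a _ _ => SignalizerBasic.not_dvd_card_centralizerPPrimeCore 2 a,
    fun a ha _ b hb x hx => ?_, fun a ha ha1 b hb hb1 => ?_⟩, fun a _ _ => ?_⟩
  · exact mem_normalizer_conj (SignalizerBasic.centralizer_le_normalizer_centralizerPPrimeCore 2 a
      (mem_centralizer_singleton.2 (comm_of_mem hB hb ha))) hx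
  · exact SFTBalance.balance_of_pLayer
      (IsPGroup.to_le (isPGroup_of_elementaryAbelian hB) (Subgroup.zpowers_le.2 ha))
      (comm_of_mem hB ha hb) (pLayer_centralizer h2c (orderOf_eq_prime (hB.2 b hb) hb1))
  · refine S0205.result ?_
    rw [Nat.odd_iff, ← Nat.two_dvd_ne_zero]
    exact SignalizerBasic.not_dvd_card_centralizerPPrimeCore 2 a


/-- Let G be a finite group in which every 2-local subgroup is 2-constrained and some Sylow 2-subgroup has a self-centralizing abelian normal subgroup of 2-rank at least 3, and let S be any Sylow 2-subgroup of G. Then there is a subgroup W of G of odd order such that, for every subgroup B of S of 2-rank at least 2, W is generated by the largest normal odd-order subgroups O(C_G(b)) of the centralizers of the non-identity elements b of B, and W is normalized by the normalizer of every such B. -/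
theorem result {G : Type*} [Group G] [Finite G]
    (h2c : ∀ T : Subgroup G, IsPGroup 2 T → T ≠ ⊥ → Cfsg.IsPConstrained 2 ↥(Subgroup.normalizer (T : Set G)))
    (S : Sylow 2 G) (A : Subgroup ↥(S : Subgroup G)) (hAn : A.Normal) (hAab : IsMulCommutative ↥A)
    (hAC : Subgroup.centralizer (A : Set ↥(S : Subgroup G)) = A) (hA3 : ¬ Cfsg.PRankLE 2 2 ↥A) (S' : Sylow 2 G) :
    ∃ W : Subgroup G, Odd (Nat.card ↥W) ∧
      ∀ B : Subgroup G, B ≤ (S' : Subgroup G) → ¬ Cfsg.PRankLE 2 1 ↥B →
        W = (⨆ b : {b : G // b ∈ B ∧ b ≠ 1}, Cfsg.centralizerPPrimeCore 2 (b : G)) ∧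
        Subgroup.normalizer (B : Set G) ≤ Subgroup.normalizer (W : Set G) := by
  haveI := Fact.mk Nat.prime_two
  obtain ⟨E, hEn, hE, hE8⟩ := exists_normal_eight S A hAn hAab hA3 S'
  haveI := hEn
  obtain ⟨W, hWodd, hW⟩ := exists_closure (fun b => Cfsg.centralizerPPrimeCore 2 b)
    (fun B hB _ => core_isFunctor h2c B hB) S' E hE hE8
  -- every non-identity element of `S'` has its core in `W`
  have hall : ∀ b ∈ (S' : Subgroup G), b ≠ 1 → Cfsg.centralizerPPrimeCore 2 b ≤ W := by
    intro b hb hb1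
    obtain ⟨k, hk⟩ := IsPGroup.iff_orderOf.1 S'.isPGroup' ⟨b, hb⟩
    rw [Subgroup.orderOf_mk] at hk
    rcases k with _ | k
    · exact absurd (orderOf_eq_one_iff.1 (by simpa using hk)) hb1
    set z := b ^ (2 ^ k) with hz
    have hz2 : z * z = 1 := by
      rw [hz, ← pow_add, ← two_mul, ← pow_succ', ← hk, pow_orderOf_eq_one]
    have hz1 : z ≠ 1 := by
      intro h
      have := Nat.le_of_dvd (by positivity) (orderOf_dvd_of_pow_eq_one h)
      rw [hk, pow_succ] at this
      have := Nat.one_le_two_pow (n := k)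
      omega
    have hzord : orderOf z = 2 := orderOf_eq_prime (by rw [pow_two, hz2]) hz1
    have hbal : Cfsg.centralizerPPrimeCore 2 b ≤ Cfsg.centralizerPPrimeCore 2 z := by
      refine le_trans (le_inf le_rfl ?_) (SFTBalance.balance_of_pLayer
        (IsPGroup.to_le S'.isPGroup' (Subgroup.zpowers_le.2 hb))
        (Commute.self_pow b _).eq (pLayer_centralizer h2c hzord))
      intro x hx
      exact mem_centralizer_singleton.2 (Commute.pow_right
        (mem_centralizer_singleton.1 (SignalizerBasic.centralizerPPrimeCore_le 2 b hx)) _).eq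
    refine hbal.trans ?_
    set z' : ↥(S' : Subgroup G) := ⟨z, pow_mem hb _⟩ with hz'
    have hz'2 : z' * z' = 1 := Subtype.ext hz2
    have hz'1 : z' ≠ 1 := fun h => hz1 (congrArg Subtype.val h)
    obtain ⟨e, he2, he1, hne, hze⟩ : ∃ e : ↥(S' : Subgroup G),
        e * e = 1 ∧ e ≠ 1 ∧ z' ≠ e ∧ z' * e = e * z' := by
      haveI : Nontrivial ↥(S' : Subgroup G) := ⟨⟨z', 1, hz'1⟩⟩
      have hctr := S'.isPGroup'.center_nontrivial
      obtain ⟨m, hm⟩ := IsPGroup.iff_card.1 (S'.isPGroup'.to_subgroup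
        (Subgroup.center ↥(S' : Subgroup G)))
      have h2 : 2 ∣ Nat.card (Subgroup.center ↥(S' : Subgroup G)) := by
        rw [hm]
        refine dvd_pow_self 2 fun h0 => ?_
        rw [h0, pow_zero, Nat.card_eq_one_iff_unique] at hm
        haveI := hm.1
        exact not_subsingleton (Subgroup.center ↥(S' : Subgroup G)) inferInstance
      obtain ⟨c, hc⟩ := exists_prime_orderOf_dvd_card' 2 h2
      by_cases hcz : z' = c.1
      · have hcomm : ∀ e, z' * e = e * z' := fun e => by
          rw [hcz]; exact (Subgroup.mem_center_iff.1 c.2 e).symm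
        obtain ⟨e, he, hne⟩ : ∃ e ∈ E, e ∉ Subgroup.zpowers z' := by
          refine SetLike.not_le_iff_exists.1 fun hle => ?_
          have hcard := Subgroup.card_le_of_le hle
          rw [Nat.card_zpowers, orderOf_eq_prime (by rw [pow_two, hz'2]) hz'1] at hcard
          omega
        refine ⟨e, by rw [← pow_two]; exact hE.2 e he, fun h => hne (h ▸ one_mem _),
          fun h => hne (h ▸ Subgroup.mem_zpowers z'), hcomm e⟩
      · refine ⟨c.1, ?_, ?_, hcz, Subgroup.mem_center_iff.1 c.2 z'⟩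
        · have := pow_orderOf_eq_one c
          rw [hc, pow_two] at this
          exact congrArg Subtype.val this
        · intro h
          rw [show c = 1 from Subtype.ext h, orderOf_one] at hc
          norm_num at hc
    obtain ⟨V, hV, hzV, -, -⟩ := S0502.four_of_pair z' e hz'2 he2 hze hz'1 he1 hne
    rw [← hW V hV]
    exact le_clo (θ := fun b => Cfsg.centralizerPPrimeCore 2 b) (u := z)
      (Subgroup.mem_map_of_mem _ hzV) hz1
  refine ⟨W, hWodd, fun B hBS hB2 => ?_⟩
  have hWB : W = ⨆ b : {b : G // b ∈ B ∧ b ≠ 1}, Cfsg.centralizerPPrimeCore 2 (b : G) := by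
    refine le_antisymm ?_ (iSup_le fun b => hall b.1 (hBS b.2.1) b.2.2)
    simp only [Cfsg.PRankLE, not_forall, not_le] at hB2
    obtain ⟨F, hFc, hFp, hF⟩ := hB2
    have hFe : Cfsg.IsElementaryAbelian 2 (F.map B.subtype) := elementary_map ⟨hFc, hFp⟩
    obtain ⟨k, hk⟩ := IsPGroup.iff_card.1 (isPGroup_of_elementaryAbelian hFe)
    have hk2 : 2 ≤ k := by
      by_contra h
      have h1 : Nat.card (F.map B.subtype) ≤ 2 ^ 1 :=
        hk ▸ Nat.pow_le_pow_right (show 1 ≤ 2 by norm_num) (show k ≤ 1 by omega)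
      rw [Subgroup.card_map_of_injective B.subtype_injective] at h1
      omega
    obtain ⟨U₁, hU₁⟩ := Sylow.exists_subgroup_card_pow_prime (G := ↥(F.map B.subtype)) 2 (n := 2)
      (hk ▸ pow_dvd_pow 2 hk2)
    set U := U₁.map (F.map B.subtype).subtype with hU
    have hUS : U ≤ (S' : Subgroup G) :=
      (Subgroup.map_subtype_le _).trans ((Subgroup.map_subtype_le _).trans hBS)
    have hU4 : Nat.card (U.subgroupOf (S' : Subgroup G)) = 4 := by
      rw [Nat.card_congr (Subgroup.subgroupOfEquivOfLe hUS).toEquiv, hU,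
        Subgroup.card_map_of_injective (Subgroup.subtype_injective _), hU₁]
      norm_num
    have hUk : IsKleinFour (U.subgroupOf (S' : Subgroup G)) := by
      refine ⟨hU4, ?_⟩
      haveI : Nontrivial ↥(U.subgroupOf (S' : Subgroup G)) := by
        rw [← Finite.one_lt_card_iff_nontrivial, hU4]; norm_num
      refine (Monoid.exponent_eq_prime_iff Nat.prime_two).2 fun g hg => orderOf_eq_prime ?_ hg
      exact Subtype.ext (Subtype.ext
        (by simpa using hFe.2 _ (Subgroup.map_subtype_le _ (Subgroup.mem_subgroupOf.1 g.2))))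
    rw [← hW _ hUk]
    refine iSup_le fun u => ?_
    obtain ⟨⟨v, hv, hvu⟩, hu1⟩ := u.2
    refine le_iSup (fun b : {b : G // b ∈ B ∧ b ≠ 1} => Cfsg.centralizerPPrimeCore 2 (b : G))
      ⟨u.1, ?_, hu1⟩
    rw [← hvu]
    exact (Subgroup.map_subtype_le _).trans (Subgroup.map_subtype_le _)
      (Subgroup.mem_subgroupOf.1 hv)
  refine ⟨hWB, ?_⟩
  rw [hWB]
  refine le_normalizer_of_forall fun g hg x hx => ?_
  have hle : (⨆ b : {b : G // b ∈ B ∧ b ≠ 1}, Cfsg.centralizerPPrimeCore 2 (b : G)).map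
      (MulAut.conj g).toMonoidHom ≤
        ⨆ b : {b : G // b ∈ B ∧ b ≠ 1}, Cfsg.centralizerPPrimeCore 2 (b : G) := by
    rw [Subgroup.map_iSup]
    refine iSup_le fun b => ?_
    rw [← SFTApps.centralizerPPrimeCore_conj]
    exact le_iSup (fun b : {b : G // b ∈ B ∧ b ≠ 1} => Cfsg.centralizerPPrimeCore 2 (b : G))
      ⟨g * b.1 * g⁻¹, (Subgroup.mem_normalizer_iff.1 hg b.1).1 b.2.1,
        fun h => b.2.2 (conj_eq_one_iff.1 h)⟩
  exact hle ⟨x, hx, rfl⟩

end Cfsg.Agent.S3110
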