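import Cfsg.Statements.S3113
import Cfsg.Agent.S1172
import Cfsg.Agent.Lib.DihedralPair68Four

set_option autoImplicit false
open Cfsg

namespace Cfsg.Agent.S3113

open Subgroup
open Cfsg.Agent.DihedralPair68

/-- Let G be a finite group with no nontrivial normal subgroup of odd order, no proper normal subgroup of odd index and no normal subgroup of index 2, whose Sylow 2-subgroup S is non-abelian and is the internal direct product of two dihedral subgroups (each of order at least 4). Then G is the internal direct product of two normal subgroups G₁ and G₂, and for a suitable such factorization of S into dihedral subgroups S₁ × S₂ the factor Sᵢ is a Sylow 2-subgroup of Gᵢ for i = 1, 2. -/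
theorem result {G : Type*} [Group G] [Finite G] (hO : Cfsg.oddCore G = ⊥) (hidx : ∀ N : Subgroup G, N.Normal → Odd N.index → N = ⊤)
    (h2 : ∀ N : Subgroup G, N.Normal → N.index ≠ 2)
    (S : Sylow 2 G) (hS : ¬ IsMulCommutative ↥(S : Subgroup G))
    (D₁ D₂ : Subgroup G) (hD : Cfsg.IsInternalDirectProduct D₁ D₂ (S : Subgroup G))
    (hD₁ : ∃ m : ℕ, 2 ≤ m ∧ Nonempty (↥D₁ ≃* DihedralGroup m)) (hD₂ : ∃ m : ℕ, 2 ≤ m ∧ Nonempty (↥D₂ ≃* DihedralGroup m)) :
    ∃ G₁ G₂ : Subgroup G, G₁.Normal ∧ G₂.Normal ∧ Cfsg.IsInternalDirectProduct G₁ G₂ ⊤ ∧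
      ∃ S₁ S₂ : Subgroup G, Cfsg.IsInternalDirectProduct S₁ S₂ (S : Subgroup G) ∧
        (∃ m : ℕ, 2 ≤ m ∧ Nonempty (↥S₁ ≃* DihedralGroup m)) ∧ (∃ m : ℕ, 2 ≤ m ∧ Nonempty (↥S₂ ≃* DihedralGroup m)) ∧
        S₁ ≤ G₁ ∧ S₂ ≤ G₂ ∧ ¬ (2 ∣ (S₁.subgroupOf G₁).index) ∧ ¬ (2 ∣ (S₂.subgroupOf G₂).index) := by
  classical
  haveI := Fact.mk Nat.prime_two
  obtain ⟨m1, hm1, ⟨f1⟩⟩ := hD₁
  obtain ⟨m2, hm2, ⟨f2⟩⟩ := hD₂
  obtain ⟨d1, -⟩ := exists_dih (S.isPGroup'.to_le hD.1) hm1 f1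
  obtain ⟨d2, -⟩ := exists_dih (S.isPGroup'.to_le hD.2.1) hm2 f2
  obtain ⟨hD1S, hD2S, hcomm, hdisj, hgen⟩ := hD
  have hD' : IsInternalDirectProduct D₂ D₁ (S : Subgroup G) :=
    ⟨hD2S, hD1S, fun a ha b hb => (hcomm b hb a ha).symm, by rw [inf_comm]; exact hdisj,
      (sup_comm _ _).trans hgen⟩
  obtain ⟨P, hPS, hcl1, hcl2⟩ : ∃ P : Setup G, P.S = S ∧
      IsStronglyClosed P.D1 (S : Subgroup G) ∧ IsStronglyClosed P.D2 (S : Subgroup G) := by
    by_cases hk1 : 2 ≤ d1.k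
    · let P : Setup G := ⟨S, D₁, D₂, ⟨hD1S, hD2S, hcomm, hdisj, hgen⟩, d1, d2, hk1⟩
      by_cases hk2 : 2 ≤ d2.k
      · exact P.exists_product_fusion h2 hk2
      · exact Setup.exists_product_fusion_four h2 P (le_antisymm (by
          show d2.k ≤ 1
          omega) d2.hk)
    · have h1 : d1.k = 1 := by have := d1.hk; omega
      by_cases hk2 : 2 ≤ d2.k
      · exact Setup.exists_product_fusion_four h2 ⟨S, D₂, D₁, hD', d2, d1, hk2⟩ h1
      · exfalso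
        have h2' : d2.k = 1 := by have := d2.hk; omega
        refine hS ⟨⟨fun x y => Subtype.ext ?_⟩⟩
        show Commute (x : G) (y : G)
        have hdec : ∀ z ∈ (S : Subgroup G), ∃ a ∈ D₁, ∃ b ∈ D₂, a * b = z := by
          intro z hz
          rw [← hgen, ← SetLike.mem_coe, Subgroup.coe_mul_of_left_le_normalizer_right D₁ D₂
            (fun a ha => Subgroup.centralizer_le_normalizer _ (Subgroup.mem_centralizer_iff.2
              fun b hb => (hcomm a ha b hb).symm))] at hz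
          obtain ⟨a, ha, b, hb, rfl⟩ := Set.mem_mul.1 hz
          exact ⟨a, ha, b, hb, rfl⟩
        obtain ⟨a, ha, b, hb, hx⟩ := hdec x x.2
        obtain ⟨a', ha', b', hb', hy⟩ := hdec y y.2
        rw [← hx, ← hy]
        exact Commute.mul_left
          ((d1.comm_of_k_one h1 ha ha').mul_right (hcomm a ha b' hb'))
          (Commute.mul_right (hcomm a' ha' b hb).symm (d2.comm_of_k_one h2' hb hb'))
  obtain ⟨e1⟩ := P.d1.nonempty_equiv
  obtain ⟨e2⟩ := P.d2.nonempty_equiv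
  have two_le : ∀ k : ℕ, 1 ≤ k → 2 ≤ 2 ^ k := fun k hk => by
    calc 2 = 2 ^ 1 := rfl
      _ ≤ 2 ^ k := Nat.pow_le_pow_right (by norm_num) hk
  obtain ⟨G₁, G₂, hn1, hn2, hG, R₁, R₂, hR, he1, he2, hl1, hl2, ho1, ho2⟩ :=
    Cfsg.Agent.S1172.result hO hidx S hS P.D1 P.D2 (hPS ▸ P.hd) (2 ^ P.d1.k) (2 ^ P.d2.k)
      (two_le _ P.d1.hk) (two_le _ P.d2.hk) e1 e2 hcl1 hcl2
  exact ⟨G₁, G₂, hn1, hn2, hG, R₁, R₂, hR, he1, he2, hl1, hl2,
    fun h => Nat.not_even_iff_odd.2 ho1 (even_iff_two_dvd.2 h),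
    fun h => Nat.not_even_iff_odd.2 ho2 (even_iff_two_dvd.2 h)⟩

end Cfsg.Agent.S3113
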