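import Cfsg.Statements.S3116
import Mathlib
-- import your own Cfsg.Agent.* helpers here

set_option autoImplicit false
set_option linter.style.haveILetI false
open Cfsg

namespace Cfsg.Agent.S3116

open Subgroup

theorem aut_two_group {X : Type*} [Group X] [Finite X] (n : ℕ) (hn : 1 ≤ n) (x y : X)
    (hx : orderOf x = 2 ^ n) (hc : Nat.card X = 2 ^ (n + 1)) (hy : y ∉ zpowers x)
    (h : ∀ g : X, g ∉ zpowers x → orderOf g ≠ 2 ^ n) : IsPGroup 2 (MulAut X) := by
  have hidx : (zpowers x).index = 2 := by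
    have h1 := (zpowers x).card_mul_index
    rw [Nat.card_zpowers, hx, hc, pow_succ] at h1
    exact Nat.eq_of_mul_eq_mul_left (Nat.two_pow_pos n) h1
  have hcos : ∀ g : X, g ∈ zpowers x ∨ y⁻¹ * g ∈ zpowers x := by
    intro g
    by_cases hg : g ∈ zpowers x
    · exact Or.inl hg
    · right
      rw [mul_mem_iff_of_index_two hidx]
      exact iff_of_false (fun h => hy (by simpa using inv_mem h)) hg
  intro φ
  refine ⟨2 * n, ?_⟩
  obtain ⟨i, hi⟩ : ∃ i : ℕ, φ x = x ^ i := by
    have hm : φ x ∈ zpowers x := by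
      by_contra hne
      exact h _ hne ((orderOf_injective φ.toMonoidHom φ.injective x).trans hx)
    obtain ⟨i, hi⟩ := (mem_powers_iff_mem_zpowers.2 hm : φ x ∈ Submonoid.powers x)
    exact ⟨i, hi.symm⟩
  have hicop : Nat.Coprime i (2 ^ n) := by
    have h1 : orderOf (x ^ i) = 2 ^ n := by
      rw [← hi]; exact (orderOf_injective φ.toMonoidHom φ.injective x).trans hx
    rw [orderOf_pow, hx] at h1
    have : (2 ^ n).gcd i = 1 := by
      rcases Nat.div_eq_self.1 h1 with h0 | h0
      · exact absurd h0 (Nat.two_pow_pos n).ne'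
      · exact h0
    rwa [Nat.coprime_comm, Nat.coprime_iff_gcd_eq_one]
  have hpow : ∀ m : ℕ, (φ ^ m) x = x ^ (i ^ m) := by
    intro m
    induction m with
    | zero => simp
    | succ m ih => rw [pow_succ', MulAut.mul_apply, ih, map_pow, hi, ← pow_mul, ← pow_succ']
  set ψ := φ ^ (2 ^ n) with hψ
  have hψx : ψ x = x := by
    rw [hψ, hpow]
    conv_rhs => rw [← pow_one x]
    rw [pow_eq_pow_iff_modEq, hx]
    have ht := Nat.ModEq.pow_totient hicop
    rw [Nat.totient_prime_pow Nat.prime_two (by omega)] at ht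
    have e : i ^ (2 ^ n) = (i ^ (2 ^ (n - 1) * (2 - 1))) ^ 2 := by
      rw [← pow_mul]; congr 1
      conv_lhs => rw [show n = n - 1 + 1 by omega, pow_succ]
      simp
    rw [e]; simpa using ht.pow 2
  have hψy : ψ y ∉ zpowers x := by
    intro h1
    obtain ⟨k, hk⟩ := mem_zpowers_iff.1 h1
    apply hy
    refine mem_zpowers_iff.2 ⟨k, ψ.injective ?_⟩
    rw [map_zpow, hψx, hk]
  obtain ⟨j, hj⟩ := mem_zpowers_iff.1 ((hcos (ψ y)).resolve_left hψy)
  have hj' : ψ y = y * x ^ j := by rw [hj]; group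
  have hψm : ∀ m : ℕ, (ψ ^ m) y = y * x ^ (j * m) := by
    intro m
    induction m with
    | zero => simp
    | succ m ih =>
      rw [pow_succ', MulAut.mul_apply, ih, map_mul, map_zpow, hψx, hj', mul_assoc, ← zpow_add]
      congr 2; push_cast; ring
  have e : φ ^ 2 ^ (2 * n) = ψ ^ (2 ^ n) := by rw [hψ, ← pow_mul, ← pow_add, two_mul]
  rw [e]
  have hmx : ∀ m : ℕ, (ψ ^ m) x = x := by
    intro m
    induction m with
    | zero => simp
    | succ m ih => rw [pow_succ', MulAut.mul_apply, ih, hψx]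
  have hfy : (ψ ^ 2 ^ n) y = y := by
    rw [hψm, mul_comm j, zpow_mul, zpow_natCast, ← hx, pow_orderOf_eq_one, one_zpow, mul_one]
  apply MulEquiv.ext
  intro g
  rcases hcos g with hg | hg
  · obtain ⟨k, rfl⟩ := mem_zpowers_iff.1 hg
    rw [map_zpow, hmx]; rfl
  · obtain ⟨k, hk⟩ := mem_zpowers_iff.1 hg
    obtain rfl : g = y * x ^ k := by rw [hk]; group
    rw [map_mul, map_zpow, hmx, hfy]; rfl

/-- The automorphism group of a dihedral 2-group of order at least 8, or of a quasi-dihedral (semidihedral) 2-group of order at least 16, is a 2-group. -/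
theorem result {X : Type*} [Group X] [Finite X] (h2 : IsPGroup 2 X)
    (h : (∃ n : ℕ, 4 ≤ n ∧ Nonempty (X ≃* DihedralGroup n)) ∨ Cfsg.IsQuasiDihedral X) : IsPGroup 2 (MulAut X) := by
  haveI : Fact (Nat.Prime 2) := ⟨Nat.prime_two⟩
  rcases h with ⟨n, hn, ⟨e⟩⟩ | ⟨n, hn, hc, x, y, hx, hy, hyx⟩
  · haveI : NeZero n := ⟨by omega⟩
    obtain ⟨k, hk⟩ := IsPGroup.iff_card.1 h2
    rw [Nat.card_congr e.toEquiv, DihedralGroup.nat_card] at hk
    obtain ⟨m, rfl⟩ : ∃ m, k = m + 1 := ⟨k - 1, by rcases k with _ | k <;> simp_all <;> omega⟩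
    have hn2 : n = 2 ^ m := by rw [pow_succ] at hk; omega
    have hm : 2 ≤ m := by
      rcases m with _ | _ | m <;> simp_all
    refine aut_two_group m (by omega) (e.symm (DihedralGroup.r 1)) (e.symm (DihedralGroup.sr 0)) ?_ ?_ ?_ ?_
    · rw [MulEquiv.orderOf_eq, DihedralGroup.orderOf_r_one, hn2]
    · rw [Nat.card_congr e.toEquiv, DihedralGroup.nat_card, hn2, pow_succ]; ring
    · intro h
      obtain ⟨j, hj⟩ := mem_zpowers_iff.1 h
      rw [← map_zpow, DihedralGroup.r_one_zpow] at hj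
      exact absurd (e.symm.injective hj) (by simp)
    · intro g hg ho
      rcases hd : e g with i | i
      · apply hg
        obtain ⟨j, hj⟩ := ZMod.intCast_surjective i
        exact mem_zpowers_iff.2 ⟨j, by rw [← map_zpow, DihedralGroup.r_one_zpow, hj, ← hd, e.symm_apply_apply]⟩
      · rw [← MulEquiv.orderOf_eq e, hd, DihedralGroup.orderOf_sr] at ho
        have : 2 ^ 2 ≤ 2 ^ m := Nat.pow_le_pow_right (by omega) hm
        omega
  · have hpow : ∀ j : ℤ, y * x ^ j * y⁻¹ = x ^ ((2 ^ (n - 1) - 1 : ℕ) * j : ℤ) := by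
      intro j
      rw [zpow_mul, zpow_natCast, ← hyx]
      exact (map_zpow (MulAut.conj y) x j)
    have h8 : 2 ^ 3 ≤ 2 ^ n := Nat.pow_le_pow_right (by omega) hn
    have hd : 2 ^ n = 2 * 2 ^ (n - 1) := by rw [← pow_succ', Nat.sub_add_cancel (by omega : 1 ≤ n)]
    refine aut_two_group n (by omega) x y hx hc ?_ ?_
    · intro h
      obtain ⟨j, rfl⟩ := mem_zpowers_iff.1 h
      rw [((Commute.refl x).zpow_left j).eq, mul_inv_cancel_right] at hyx
      have h1 : x ^ 1 = x ^ (2 ^ (n - 1) - 1) := by rw [pow_one]; exact hyx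
      have := pow_injOn_Iio_orderOf (show (1:ℕ) < orderOf x by omega) (show 2 ^ (n - 1) - 1 < orderOf x by omega) h1
      omega
    · intro g hg ho
      have hidx : (zpowers x).index = 2 := by
        have h1 := (zpowers x).card_mul_index
        rw [Nat.card_zpowers, hx, hc, pow_succ] at h1
        exact Nat.eq_of_mul_eq_mul_left (Nat.two_pow_pos n) h1
      have hy' : y ∉ zpowers x := by
        intro h
        obtain ⟨j, rfl⟩ := mem_zpowers_iff.1 h
        rw [((Commute.refl x).zpow_left j).eq, mul_inv_cancel_right] at hyx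
        have h1 : x ^ 1 = x ^ (2 ^ (n - 1) - 1) := by rw [pow_one]; exact hyx
        have := pow_injOn_Iio_orderOf (show (1:ℕ) < orderOf x by omega) (show 2 ^ (n - 1) - 1 < orderOf x by omega) h1
        omega
      have hm : y⁻¹ * g ∈ zpowers x := by
        rw [mul_mem_iff_of_index_two hidx]
        exact iff_of_false (fun h => hy' (by simpa using inv_mem h)) hg
      obtain ⟨j, hj⟩ := mem_zpowers_iff.1 hm
      have hgj : g = y * x ^ j := by rw [hj]; group
      have y2 : y * y = 1 := by rw [← sq, ← hy, pow_orderOf_eq_one]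
      have g2 : g * g = (x ^ (2 ^ (n - 1))) ^ j := by
        rw [hgj]
        calc y * x ^ j * (y * x ^ j) = (y * x ^ j * y⁻¹) * (y * y) * x ^ j := by group
          _ = _ := by
            rw [hpow, y2, mul_one, ← zpow_natCast x, ← zpow_mul, ← zpow_add]
            congr 1
            rw [Nat.cast_sub (Nat.one_le_two_pow)]; push_cast; ring
      have g4 : g ^ 4 = 1 := by
        calc g ^ 4 = (g * g) * (g * g) := by simp [pow_succ, mul_assoc]
          _ = (x ^ (2 ^ (n - 1)) * x ^ (2 ^ (n - 1))) ^ j := by rw [g2, (Commute.refl _).mul_zpow]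
          _ = 1 := by rw [← pow_add, ← two_mul, ← hd, ← hx, pow_orderOf_eq_one, one_zpow]
      have := Nat.le_of_dvd (by norm_num) (orderOf_dvd_of_pow_eq_one g4)
      omega

end Cfsg.Agent.S3116
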