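import Cfsg.Statements.S3117
import Mathlib
import Cfsg.Agent.S0093
import Cfsg.Agent.S0121
import Cfsg.Agent.Lib.AnisoQuadSolvable
-- import your own Cfsg.Agent.* helpers here

set_option autoImplicit false
set_option linter.style.haveILetI false
open Cfsg
open scoped Pointwise

namespace Cfsg.Agent.S3117

/-- Restriction of automorphisms to a subgroup stable under all of them. -/
noncomputable def res {G : Type*} [Group G] (E : Subgroup G) (hE : ∀ (φ : MulAut G) (x : G), x ∈ E → φ x ∈ E) :
    MulAut G →* MulAut E where
  toFun φ :=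
    { toFun := fun x => ⟨φ x, hE φ x x.2⟩
      invFun := fun x => ⟨φ.symm x, hE φ.symm x x.2⟩
      left_inv := fun x => Subtype.ext (φ.symm_apply_apply (x : G))
      right_inv := fun x => Subtype.ext (φ.apply_symm_apply (x : G))
      map_mul' := fun x y => Subtype.ext (map_mul φ (x : G) y) }
  map_one' := MulEquiv.ext fun x => Subtype.ext rfl
  map_mul' φ ψ := MulEquiv.ext fun x => Subtype.ext rfl

theorem res_apply {G : Type*} [Group G] (E : Subgroup G) (hE : ∀ (φ : MulAut G) (x : G), x ∈ E → φ x ∈ E)
    (φ : MulAut G) (x : E) : ((res E hE φ x : E) : G) = φ x := rfl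

theorem solvable_of_hom {G H : Type*} [Group G] [Group H] (f : G →* H) (h1 : Group.IsSolvable f.ker)
    (h2 : Group.IsSolvable f.range) : Group.IsSolvable G :=
  solvable_of_ker_le_range f.ker.subtype f.rangeRestrict
    (by rw [MonoidHom.ker_rangeRestrict, Subgroup.range_subtype])

/-- The case of a group of exponent dividing four with central involutions. -/
theorem solvable_exp_four {E : Type*} [Group E] [Finite E] (h4 : ∀ x : E, (x * x) * (x * x) = 1)
    (hV : ∀ v : E, v * v = 1 → ∀ x, v * x = x * v)
    (hcard : Nat.card {x : E // x * x = 1} ≤ 4) : Group.IsSolvable (MulAut E) := by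
  classical
  let V : Subgroup E :=
    { carrier := {x | x * x = 1}
      one_mem' := by simp
      mul_mem' := fun {a b} (ha : a * a = 1) (hb : b * b = 1) => by
        show a * b * (a * b) = 1
        rw [mul_assoc, ← mul_assoc b a b, ← hV a ha b, mul_assoc a b b, ← mul_assoc, ha, hb, mul_one]
      inv_mem' := fun {a} (ha : a * a = 1) => by
        show a⁻¹ * a⁻¹ = 1
        rw [← mul_inv_rev, ha, inv_one] }
  have hVmem : ∀ x, x ∈ V ↔ x * x = 1 := fun x => Iff.rfl
  have hVinv : ∀ (φ : MulAut E) (x : E), x ∈ V → φ x ∈ V := fun φ x hx => by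
    rw [hVmem] at hx ⊢
    rw [← map_mul, hx, map_one]
  haveI : V.Normal := ⟨fun v hv g => by rw [← hV v hv g, mul_assoc, mul_inv_cancel, mul_one]; exact hv⟩
  have hsq : ∀ x : E, x * x ∈ V := fun x => h4 x
  have hcV : Nat.card V ≤ 4 := le_of_eq_of_le rfl hcard
  -- commutators
  let c : E → E → E := fun x y => x * y * x⁻¹ * y⁻¹
  have hcmem : ∀ x y, c x y ∈ V := fun x y => by
    have e : c x y = (x * y) * (x * y) * (y⁻¹ * (x * x)⁻¹ * y) * (y * y)⁻¹ := by
      simp only [c]; group
    rw [e]
    refine V.mul_mem (V.mul_mem (hsq _) ?_) (V.inv_mem (hsq _))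
    have := Subgroup.Normal.conj_mem ‹V.Normal› _ (V.inv_mem (hsq x)) y⁻¹
    simpa using this
  have hswap : ∀ x y : E, y * x = c y x * (x * y) := fun x y => by simp only [c]; group
  have hsqmul : ∀ x y : E, (x * y) * (x * y) = c y x * ((x * x) * (y * y)) := fun x y => by
    calc (x * y) * (x * y) = x * (y * x) * y := by group
      _ = x * (c y x * (x * y)) * y := by rw [← hswap]
      _ = (x * c y x) * (x * y * y) := by group
      _ = (c y x * x) * (x * y * y) := by rw [hV _ (hcmem y x) x]
      _ = _ := by group
  -- the quotient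
  let W := E ⧸ V
  letI : CommGroup W :=
    { (inferInstance : Group W) with
      mul_comm := by
        intro a b
        obtain ⟨x, rfl⟩ := QuotientGroup.mk_surjective a
        obtain ⟨y, rfl⟩ := QuotientGroup.mk_surjective b
        rw [← QuotientGroup.mk_mul, ← QuotientGroup.mk_mul, QuotientGroup.eq]
        have e : (x * y)⁻¹ * (y * x) = c y⁻¹ x⁻¹ := by simp only [c]; group
        rw [e]; exact hcmem _ _ }
  letI : CommGroup V :=
    { (inferInstance : Group V) with mul_comm := fun a b => Subtype.ext (hV a a.2 b) }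
  let Q : W → V := fun a => Quotient.liftOn' a (fun x => (⟨x * x, hsq x⟩ : V)) fun x y hxy => by
    rw [QuotientGroup.leftRel_apply] at hxy
    apply Subtype.ext
    show x * x = y * y
    have hv : (x⁻¹ * y) * (x⁻¹ * y) = 1 := hxy
    have e : y = x * (x⁻¹ * y) := by group
    conv_rhs => rw [e, hsqmul, hv, mul_one]
    have e2 : c (x⁻¹ * y) x = 1 := by
      simp only [c]; rw [hV _ hxy x]; group
    rw [e2, one_mul]
  have hQ : ∀ x : E, ((Q (x : W) : V) : E) = x * x := fun x => rfl
  have haniso : AnisoQuadSolvable.IsAniso Q := by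
    refine ⟨?_, fun v => Subtype.ext v.2, hcV, ?_, ?_⟩
    · intro a
      obtain ⟨x, rfl⟩ := QuotientGroup.mk_surjective a
      exact (QuotientGroup.eq_one_iff (x * x)).2 (hsq x)
    · intro a
      obtain ⟨x, rfl⟩ := QuotientGroup.mk_surjective a
      rw [Subtype.ext_iff, hQ, QuotientGroup.eq_one_iff]
      exact Iff.rfl
    · intro a b d
      obtain ⟨x, rfl⟩ := QuotientGroup.mk_surjective a
      obtain ⟨y, rfl⟩ := QuotientGroup.mk_surjective b
      obtain ⟨z, rfl⟩ := QuotientGroup.mk_surjective d
      have hm : ∀ x y : E, Q ((x : W) * (y : W)) = ⟨c y x, hcmem y x⟩ * (Q (x : W) * Q (y : W)) :=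
        fun x y => Subtype.ext (hsqmul x y)
      have hc : (⟨c z (x * y), hcmem _ _⟩ : V) = ⟨c z x, hcmem _ _⟩ * ⟨c z y, hcmem _ _⟩ :=
        Subtype.ext (by
          show c z (x * y) = c z x * c z y
          calc c z (x * y) = c z x * (x * c z y * x⁻¹) := by simp only [c]; group
            _ = c z x * (c z y * x * x⁻¹) := by rw [hV _ (hcmem z y) x]
            _ = _ := by group)
      have hv : ∀ v : V, v⁻¹ = v := fun v => inv_eq_of_mul_eq_one_right (Subtype.ext v.2)
      have hQm : ∀ u : E, ∀ w : V, Q (u : W) * (Q (u : W) * w) = w := fun u w => by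
        rw [← mul_assoc, show Q (u : W) * Q (u : W) = 1 from Subtype.ext (h4 u), one_mul]
      have hxy := hm x y
      have hxz := hm x z
      have hyz := hm y z
      have hxyz := hm (x * y) z
      rw [QuotientGroup.mk_mul, hc] at hxyz
      have hsqV : ∀ v : V, ∀ w : V, v * (v * w) = w := fun v w => by
        rw [← mul_assoc, show v * v = 1 from Subtype.ext v.2, one_mul]
      rw [hxyz, hxz, hyz, hxy]
      simp only [mul_comm, mul_left_comm, mul_assoc, hsqV]
  -- the action
  let A : Subgroup (MulAut E) := (res V hVinv).ker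
  have hA : ∀ φ : A, ∀ v ∈ V, (φ : MulAut E) v = v := fun φ v hv => by
    have h := DFunLike.congr_fun (MonoidHom.mem_ker.1 φ.2) (⟨v, hv⟩ : V)
    exact congrArg Subtype.val h
  have hmap : ∀ φ : MulAut E, V.map φ.toMonoidHom = V := fun φ => by
    refine le_antisymm ?_ fun x hx => ⟨φ⁻¹ x, hVinv φ⁻¹ x hx, φ.apply_symm_apply x⟩
    rintro _ ⟨x, hx, rfl⟩
    exact hVinv φ x hx
  let η : A →* MulAut W :=
    { toFun := fun φ => QuotientGroup.congr V V (φ : MulAut E) (hmap _)
      map_one' := MulEquiv.ext fun a => by
        obtain ⟨x, rfl⟩ := QuotientGroup.mk_surjective a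
        rfl
      map_mul' := fun φ ψ => MulEquiv.ext fun a => by
        obtain ⟨x, rfl⟩ := QuotientGroup.mk_surjective a
        rfl }
  haveI hA' : Group.IsSolvable A := by
    refine solvable_of_hom η ?_ (AnisoQuadSolvable.solvable_of_isAniso haniso η.range ?_)
    · have hinvo : ∀ φ : η.ker, φ * φ = 1 := by
        intro φ
        apply Subtype.ext; apply Subtype.ext; apply MulEquiv.ext
        intro x
        show ((φ : A) : MulAut E) (((φ : A) : MulAut E) x) = x
        have h := DFunLike.congr_fun (MonoidHom.mem_ker.1 φ.2) (x : W)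
        have h' : ((((φ : A) : MulAut E) x : E) : W) = (x : W) := h
        rw [QuotientGroup.eq] at h'
        set ψ := ((φ : A) : MulAut E) with hψ
        have h2 := hA (φ : A) _ h'
        rw [← hψ, map_mul, map_inv] at h2
        set y := ψ x
        have h3 : (y⁻¹ * x) * (y⁻¹ * x) = 1 := h'
        calc ψ y = y * (y⁻¹ * x)⁻¹ := by rw [← h2]; group
          _ = y * (y⁻¹ * x) := by rw [inv_eq_of_mul_eq_one_right h3]
          _ = x := by group
      exact isSolvable_of_comm fun a b => by
        have hi : ∀ φ : η.ker, φ⁻¹ = φ := fun φ => inv_eq_of_mul_eq_one_right (hinvo φ)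
        calc a * b = (a * b)⁻¹ := (hi _).symm
          _ = b * a := by rw [mul_inv_rev, hi, hi]
    · rintro _ ⟨φ, rfl⟩ a
      obtain ⟨x, rfl⟩ := QuotientGroup.mk_surjective a
      apply Subtype.ext
      show (φ : MulAut E) x * (φ : MulAut E) x = x * x
      rw [← map_mul]
      exact hA φ _ (hsq x)
  refine solvable_of_hom (res V hVinv) hA' (AnisoQuadSolvable.solvable_of_card_le_ten ?_)
  let T := {v : V // v ≠ 1}
  have hinj : Nat.card (MulAut V) ≤ Nat.card (Equiv.Perm T) := by
    refine Nat.card_le_card_of_injective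
      (fun φ : MulAut V => φ.toEquiv.subtypeEquiv (fun v => (by simp : v ≠ 1 ↔ φ.toEquiv v ≠ 1))) ?_
    intro φ ψ h
    apply MulEquiv.ext
    intro v
    by_cases hv : v = 1
    · simp [hv]
    · exact congrArg (fun e : Equiv.Perm T => ((e ⟨v, hv⟩ : T) : V)) h
  haveI := Fintype.ofFinite V
  have hT : Nat.card T ≤ 3 := by
    rw [Nat.card_eq_fintype_card, Fintype.card_subtype_compl, Fintype.card_subtype_eq,
      ← Nat.card_eq_fintype_card]
    omega
  rw [Nat.card_perm] at hinj
  have h6 : (Nat.card T).factorial ≤ 6 := Nat.factorial_le hT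
  exact le_trans (Nat.card_le_card_of_injective _ (Subtype.val_injective)) (hinj.trans (h6.trans (by norm_num)))

/-- The reduction to exponent four, for groups with central squares. -/
theorem solvable_of_central_squares {C : Type*} [Group C] [Finite C] (h2 : IsPGroup 2 C)
    (hsqc : ∀ x y : C, (x * x) * y = y * (x * x))
    (hcard : Nat.card {x : C // x * x = 1} ≤ 4) : Group.IsSolvable (MulAut C) := by
  classical
  let c : C → C → C := fun x y => x * y * x⁻¹ * y⁻¹
  have hsqc' : ∀ x y : C, (x * x)⁻¹ * y = y * (x * x)⁻¹ := fun x y => by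
    rw [mul_inv_rev]; exact hsqc x⁻¹ y
  have hcent : ∀ x y z : C, c x y * z = z * c x y := fun x y z => by
    have e : c x y = (x * y) * (x * y) * (y⁻¹ * ((x * x)⁻¹ * y)) * (y * y)⁻¹ := by
      simp only [c]; group
    rw [e, hsqc' x y, inv_mul_cancel_left]
    rw [mul_assoc, hsqc' y z, ← mul_assoc, mul_assoc _ (x * x)⁻¹ z, hsqc' x z, ← mul_assoc,
      hsqc (x * y) z]
    simp only [mul_assoc]
  have hcsq : ∀ x y : C, c x y * c x y = 1 := fun x y => by
    calc c x y * c x y = c x y * (x * y * x⁻¹ * y⁻¹) := rfl
      _ = (c x y * x) * (y * x⁻¹ * y⁻¹) := by group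
      _ = (x * c x y) * (y * x⁻¹ * y⁻¹) := by rw [hcent]
      _ = (x * x) * y * (x * x)⁻¹ * y⁻¹ := by simp only [c]; group
      _ = 1 := by rw [hsqc x y]; group
  have hswap : ∀ x y : C, y * x = c y x * (x * y) := fun x y => by simp only [c]; group
  have hsqmul : ∀ x y : C, (x * y) * (x * y) = c y x * ((x * x) * (y * y)) := fun x y => by
    calc (x * y) * (x * y) = x * (y * x) * y := by group
      _ = x * (c y x * (x * y)) * y := by rw [← hswap]
      _ = (x * c y x) * (x * y * y) := by group
      _ = (c y x * x) * (x * y * y) := by rw [hcent y x x]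
      _ = _ := by group
  let E : Subgroup C :=
    { carrier := {x | (x * x) * (x * x) = 1}
      one_mem' := by simp
      mul_mem' := fun {a b} (ha : (a * a) * (a * a) = 1) (hb : (b * b) * (b * b) = 1) => by
        show (a * b) * (a * b) * ((a * b) * (a * b)) = 1
        rw [hsqmul a b]
        calc c b a * (a * a * (b * b)) * (c b a * (a * a * (b * b)))
            = c b a * ((a * a * (b * b)) * c b a) * (a * a * (b * b)) := by group
          _ = c b a * c b a * ((a * a) * ((b * b) * (a * a)) * (b * b)) := by rw [← hcent b a]; group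
          _ = (a * a) * (a * a) * ((b * b) * (b * b)) := by
              rw [hcsq, one_mul, hsqc b (a * a)]; group
          _ = 1 := by rw [ha, hb, one_mul]
      inv_mem' := fun {a} (ha : (a * a) * (a * a) = 1) => by
        show a⁻¹ * a⁻¹ * (a⁻¹ * a⁻¹) = 1
        rw [← mul_inv_rev, ← mul_inv_rev, ha, inv_one] }
  have hEmem : ∀ x, x ∈ E ↔ (x * x) * (x * x) = 1 := fun x => Iff.rfl
  have hEinv : ∀ (φ : MulAut C) (x : C), x ∈ E → φ x ∈ E := fun φ x hx => by
    rw [hEmem] at hx ⊢
    rw [← map_mul, ← map_mul, hx, map_one]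
  -- involutions are central in E
  have hVE : ∀ v : C, v * v = 1 → ∀ x ∈ E, v * x = x * v := by
    intro w hw x hx
    by_contra hne
    set d := c x w with hd
    have hd1 : d ≠ 1 := fun e => hne (by
      have := hswap w x
      rw [← hd, e, one_mul] at this
      exact this.symm)
    have hdw : d ≠ w := fun e => hne (by rw [← e]; exact hcent x w x)
    have hddd : d * d = 1 := hcsq x w
    have hwd : (w * d) * (w * d) = 1 := by
      calc (w * d) * (w * d) = w * (d * w) * d := by group
        _ = (w * w) * (d * d) := by rw [hd, hcent x w w]; group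
        _ = 1 := by rw [hw, hddd, one_mul]
    haveI := Fintype.ofFinite C
    let S : Finset C := Finset.univ.filter fun y => y * y = 1
    have hS : S.card ≤ 4 := by
      rwa [← Fintype.card_subtype, ← Nat.card_eq_fintype_card]
    have hw1 : w ≠ 1 := fun e => hne (by rw [e]; simp)
    have hsub : ({1, d, w, w * d} : Finset C) ⊆ S := by
      intro y hy
      simp only [Finset.mem_insert, Finset.mem_singleton] at hy
      rcases hy with rfl | rfl | rfl | rfl <;> simp [S, hddd, hw, hwd]
    have hc4 : ({1, d, w, w * d} : Finset C).card = 4 := by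
      rw [Finset.card_insert_of_notMem, Finset.card_insert_of_notMem, Finset.card_insert_of_notMem,
        Finset.card_singleton]
      · simp [hd1]
      · simp [hdw, hw1]
      · simp only [Finset.mem_insert, Finset.mem_singleton, not_or]
        exact ⟨hd1.symm, hw1.symm, fun e => hdw (by
          calc d = 1 * d := (one_mul d).symm
            _ = (w * w) * d := by rw [hw]
            _ = w * (w * d) := mul_assoc _ _ _
            _ = w := by rw [← e, mul_one])⟩
    have hall : ∀ y, y * y = 1 → y = 1 ∨ y = d ∨ y = w ∨ y = w * d := by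
      intro y hy
      have : y ∈ ({1, d, w, w * d} : Finset C) := by
        rw [Finset.eq_of_subset_of_card_le hsub (by omega)]
        simp [S, hy]
      simpa using this
    have hxV : x * x ≠ 1 := fun h1 => by
      rcases hall x h1 with e | e | e | e
      · exact hne (by rw [e]; simp)
      · exact hne (by rw [e]; exact (hcent x w w).symm)
      · exact hne (by rw [e])
      · exact hne (by rw [e, ← hcent x w w, ← hd, ← mul_assoc, hcent x w w, ← hd])
    have hxd : x * x = d := by
      rcases hall (x * x) hx with e | e | e | e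
      · exact absurd e hxV
      · exact e
      · exact absurd (by rw [← e]; exact hsqc x x) hne
      · exfalso
        apply hne
        have hwx : w = (x * x) * d := by rw [e, mul_assoc, hddd, mul_one]
        rw [hwx, mul_assoc, hd, hcent x w x, ← mul_assoc, hsqc x x, mul_assoc]
    have hxw : (x * w) * (x * w) = 1 := by
      rw [hsqmul, hw, mul_one, hxd]
      have : c w x = d⁻¹ := by simp only [hd, c]; group
      rw [this, inv_mul_cancel]
    rcases hall (x * w) hxw with e | e | e | e
    · exact hne (by rw [eq_inv_of_mul_eq_one_left e]; group)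
    · apply hne
      have hx' : x = d * w := by rw [← e, mul_assoc, hw, mul_one]
      rw [hx', ← mul_assoc, ← hcent x w w, hd]
    · exact hxV (by rw [mul_eq_right.1 e]; simp)
    · apply hne
      have hx' : x = d := by
        rw [← hcent x w w, ← hd] at e
        exact mul_right_cancel e
      rw [hx']; exact (hcent x w w).symm
  -- automorphisms fixing E
  have hfix : ∀ φ : MulAut C, Odd (orderOf φ) → (∀ x ∈ E, φ x = x) → φ = 1 := by
    intro φ hodd hφ
    have : ∀ n, ∀ x : C, orderOf x = n → φ x = x := by
      intro n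
      induction n using Nat.strong_induction_on with
      | _ n ih =>
      intro x hx
      by_cases hxE : x ∈ E
      · exact hφ x hxE
      have hsq : φ (x * x) = x * x := by
        refine ih _ ?_ _ rfl
        rw [← hx, ← sq, orderOf_pow x]
        obtain ⟨k, hk⟩ := IsPGroup.iff_orderOf.1 h2 x
        have hk0 : k ≠ 0 := fun e => hxE (by
          rw [e, pow_zero, orderOf_eq_one_iff] at hk
          rw [hk]; exact E.one_mem)
        have : Nat.gcd (orderOf x) 2 = 2 := Nat.gcd_eq_right (hk ▸ dvd_pow_self 2 hk0)
        rw [this]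
        exact Nat.div_lt_self (orderOf_pos x) one_lt_two
      set δ := x⁻¹ * φ x with hδ
      have hφx : φ x = x * δ := by rw [hδ]; group
      have h1 : (x * δ) * (x * δ) = x * x := by rw [← hφx, ← map_mul]; exact hsq
      rw [hsqmul] at h1
      have h3 : δ * δ = c δ x := by
        have h2' : c δ x * (δ * δ) * (x * x) = 1 * (x * x) := by
          rw [mul_assoc, hsqc δ (x * x), h1, one_mul]
        have := mul_right_cancel h2'
        calc δ * δ = (c δ x * c δ x) * (δ * δ) := by rw [hcsq, one_mul]
          _ = c δ x := by rw [mul_assoc, this, mul_one]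
      have hδE : δ ∈ E := by rw [hEmem, h3]; exact hcsq δ x
      have hn : ∀ n : ℕ, (φ ^ n) x = x * δ ^ n := by
        intro n
        induction n with
        | zero => simp
        | succ n ih' => rw [pow_succ', MulAut.mul_apply, ih', map_mul, map_pow, hφ δ hδE, hφx, mul_assoc, ← pow_succ']
      have h5 := hn (orderOf φ)
      rw [pow_orderOf_eq_one, MulAut.one_apply, left_eq_mul] at h5
      obtain ⟨k, hk⟩ := h2 δ
      have h7 := pow_gcd_eq_one.mpr ⟨h5, hk⟩
      rw [(Nat.Coprime.pow_right k hodd.coprime_two_right).gcd_eq_one, pow_one] at h7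
      rw [hφx, h7, mul_one]
    exact MulEquiv.ext fun x => this _ x rfl
  refine solvable_of_hom (res E hEinv) ?_ ?_
  · haveI : Fact (Nat.Prime 2) := ⟨Nat.prime_two⟩
    refine AnisoQuadSolvable.solvable_of_primes 2 2 Nat.prime_two Nat.prime_two fun r hr hd => ?_
    rcases hr.eq_two_or_odd' with h | h
    · exact Or.inl h
    exfalso
    haveI := Fact.mk hr
    obtain ⟨φ, hφ⟩ := exists_prime_orderOf_dvd_card' r hd
    rw [← Subgroup.orderOf_coe] at hφ
    have : (φ : MulAut C) = 1 := hfix _ (hφ ▸ h) fun x hx => by
      exact congrArg Subtype.val (DFunLike.congr_fun (MonoidHom.mem_ker.1 φ.2) (⟨x, hx⟩ : E))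
    rw [this, orderOf_one] at hφ
    exact hr.one_lt.ne hφ
  · haveI : Group.IsSolvable (MulAut E) := by
      refine solvable_exp_four (fun x => Subtype.ext x.2)
        (fun v hv x => Subtype.ext (hVE v (congrArg Subtype.val hv) x x.2)) (le_trans ?_ hcard)
      refine Nat.card_le_card_of_injective (fun v => ⟨((v : E) : C), congrArg Subtype.val v.2⟩) ?_
      intro a b hab
      exact Subtype.ext (Subtype.ext (Subtype.mk.inj hab))
    infer_instance

/-- If X is a finite 2-group containing exactly three involutions, then the automorphism group of X is solvable. -/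
theorem result {X : Type*} [Group X] [Finite X] (h2 : IsPGroup 2 X) (h3 : Nat.card {x : X // orderOf x = 2} = 3) : Group.IsSolvable (MulAut X) := by
  classical
  haveI : Fact (Nat.Prime 2) := ⟨Nat.prime_two⟩
  obtain ⟨H, hH, h1, h2', h3'⟩ := Cfsg.Agent.S0093.result h2
  have hinv : ∀ (φ : MulAut X) (x : X), x ∈ H → φ x ∈ H := fun φ x hx => (hH.fixed φ).ge hx
  refine solvable_of_hom (res H hinv) ?_ ?_
  · refine AnisoQuadSolvable.solvable_of_primes 2 2 Nat.prime_two Nat.prime_two fun r hr hd => ?_
    rcases hr.eq_two_or_odd' with h | h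
    · exact Or.inl h
    exfalso
    haveI := Fact.mk hr
    obtain ⟨φ, hφ⟩ := exists_prime_orderOf_dvd_card' r hd
    rw [← Subgroup.orderOf_coe] at hφ
    have : (φ : MulAut X) = 1 := by
      refine Cfsg.Agent.S0121.result h2 H hH h1 h2' h3' _ ?_ fun x hx => ?_
      · rw [hφ]; exact h.coprime_two_right
      · exact congrArg Subtype.val (DFunLike.congr_fun (MonoidHom.mem_ker.1 φ.2) (⟨x, hx⟩ : H))
    rw [this, orderOf_one] at hφ
    exact hr.one_lt.ne hφ
  · haveI : Group.IsSolvable (MulAut H) := by
      refine solvable_of_central_squares (h2.to_subgroup H) (fun x y => ?_) ?_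
      · have hx : x * x ∈ frattini H := by
          rw [← sq]; exact Cfsg.Agent.PGroupsBasic.pow_mem_frattini (h2.to_subgroup H) x
        have := Subgroup.mem_centralizer_iff.1 (h1 (Subgroup.mem_map_of_mem H.subtype hx)) y y.2
        exact Subtype.ext this.symm
      · haveI := Fintype.ofFinite X
        rw [Nat.card_eq_fintype_card, Fintype.card_subtype] at h3
        refine le_trans (Nat.card_le_card_of_injective
          (fun v : {x : H // x * x = 1} => (⟨((v : H) : X), congrArg Subtype.val v.2⟩ : {x : X // x * x = 1})) ?_) ?_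
        · intro a b hab
          exact Subtype.ext (Subtype.ext (Subtype.mk.inj hab))
        · rw [Nat.card_eq_fintype_card, Fintype.card_subtype]
          have hsub : (Finset.univ.filter fun x : X => x * x = 1) ⊆
              insert 1 (Finset.univ.filter fun x : X => orderOf x = 2) := by
            intro x hx
            simp only [Finset.mem_filter, Finset.mem_univ, true_and] at hx
            by_cases h1 : x = 1
            · exact Finset.mem_insert.2 (Or.inl h1)
            · exact Finset.mem_insert.2 (Or.inr (by
                simp only [Finset.mem_filter, Finset.mem_univ, true_and]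
                exact orderOf_eq_prime (by rw [sq]; exact hx) h1))
          have := (Finset.card_le_card hsub).trans (Finset.card_insert_le _ _)
          omega
    infer_instance

end Cfsg.Agent.S3117
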