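import Cfsg.Statements.S3144
import Cfsg.Agent.Lib.Omega8Fusion24
import Cfsg.Agent.Lib.CoZeroStandard
-- import your own Cfsg.Agent.* helpers here

set_option autoImplicit false
open Cfsg

namespace Cfsg.Agent.S3144

/-- A group with cyclic Sylow 2-subgroups has only one involution commuting with a given one. -/
theorem only_involution {G : Type*} [Group G] [Finite G] {C : Subgroup G} {zG : G} (hzC : zG ∈ C)
    (hR : ∀ R : Sylow 2 C, IsCyclic ↥(R : Subgroup C)) (hz2 : orderOf zG = 2)
    (hcomm : ∀ c ∈ C, Commute zG c) : ∀ c ∈ C, c * c = 1 → c = 1 ∨ c = zG := by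
  have : Fact (Nat.Prime 2) := ⟨Nat.prime_two⟩
  set zC : C := ⟨zG, hzC⟩
  have hzC2 : orderOf zC = 2 := by rw [Subgroup.orderOf_mk, hz2]
  intro c hc hcc
  by_cases h1 : c = 1
  · exact Or.inl h1
  right
  set cC : C := ⟨c, hc⟩
  have hc2 : orderOf cC = 2 := by
    rw [Subgroup.orderOf_mk]; exact orderOf_eq_prime (by rw [sq, hcc]) h1
  have hcen : Commute zC cC := Subtype.ext (hcomm c hc).eq
  have hP : IsPGroup 2 ↥(Subgroup.closure ({zC, cC} : Set C)) := by
    rintro ⟨y, hy⟩
    refine ⟨1, Subtype.ext ?_⟩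
    show y ^ 2 ^ 1 = 1
    rw [pow_one]
    have : y ^ 2 = 1 ∧ Commute y zC ∧ Commute y cC := by
      induction hy using Subgroup.closure_induction with
      | mem w hw =>
        rcases hw with rfl | rfl
        · exact ⟨hzC2 ▸ pow_orderOf_eq_one _, Commute.refl _, hcen⟩
        · exact ⟨hc2 ▸ pow_orderOf_eq_one _, hcen.symm, Commute.refl _⟩
      | one => exact ⟨one_pow _, Commute.one_left _, Commute.one_left _⟩
      | mul x y hx hy ihx ihy =>
        have hxy : Commute x y := by
          have hsub : Subgroup.closure ({zC, cC} : Set C) ≤ Subgroup.centralizer {x} := by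
            rw [Subgroup.closure_le]
            rintro w (rfl | rfl)
            · exact Subgroup.mem_centralizer_iff.2 fun v hv => by rw [Set.mem_singleton_iff.1 hv]; exact ihx.2.1.eq
            · exact Subgroup.mem_centralizer_iff.2 fun v hv => by rw [Set.mem_singleton_iff.1 hv]; exact ihx.2.2.eq
          exact Subgroup.mem_centralizer_iff.1 (hsub hy) x rfl
        exact ⟨by rw [hxy.mul_pow, ihx.1, ihy.1, one_mul], ihx.2.1.mul_left ihy.2.1, ihx.2.2.mul_left ihy.2.2⟩
      | inv x _ ih => exact ⟨by rw [inv_pow, ih.1, inv_one], ih.2.1.inv_left, ih.2.2.inv_left⟩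
    exact this.1
  obtain ⟨R, hR'⟩ := hP.exists_le_sylow
  have := hR R
  have h1' : zC ∈ (R : Subgroup C) := hR' (Subgroup.subset_closure (by simp))
  have h2' : cC ∈ (R : Subgroup C) := hR' (Subgroup.subset_closure (by simp))
  have := Fintype.ofFinite ↥(R : Subgroup C)
  classical
  have hcard := IsCyclic.card_pow_eq_one_le (α := ↥(R : Subgroup C)) (n := 2) two_pos
  have hne : (⟨zC, h1'⟩ : (R : Subgroup C)) ≠ 1 := fun h => by
    rw [Subgroup.mk_eq_one] at h; rw [h, orderOf_one] at hzC2; omega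
  have hne' : (⟨cC, h2'⟩ : (R : Subgroup C)) ≠ 1 := fun h => by
    rw [Subgroup.mk_eq_one] at h; rw [h, orderOf_one] at hc2; omega
  by_contra hcz
  have hcz' : (⟨cC, h2'⟩ : (R : Subgroup C)) ≠ ⟨zC, h1'⟩ := fun h =>
    hcz (congrArg (fun y : (R : Subgroup C) => ((y : C) : G)) h)
  have hsub : ({1, ⟨zC, h1'⟩, ⟨cC, h2'⟩} : Finset (R : Subgroup C)) ⊆
      Finset.univ.filter fun y => y ^ 2 = 1 := by
    intro y hy
    simp only [Finset.mem_insert, Finset.mem_singleton] at hy
    simp only [Finset.mem_filter, Finset.mem_univ, true_and]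
    rcases hy with rfl | rfl | rfl
    · exact one_pow _
    · exact Subtype.ext (by have h' := pow_orderOf_eq_one zC; rwa [hzC2] at h')
    · exact Subtype.ext (by have h' := pow_orderOf_eq_one cC; rwa [hc2] at h')
  have h3 : ({1, ⟨zC, h1'⟩, ⟨cC, h2'⟩} : Finset (R : Subgroup C)).card = 3 :=
    Finset.card_eq_three.2 ⟨_, _, _, Ne.symm hne, Ne.symm hne', Ne.symm hcz', rfl⟩
  have := Finset.card_le_card hsub
  omega

open Cfsg.Agent.E8Even69 Cfsg.Agent.Omega8CoverIso24 Cfsg.Agent.Omega8Std24 in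
/-- An element acting on an embedded copy with centre of order two. -/
theorem normal_of_iso {G : Type*} [Group G] [Finite G] {L : Subgroup G} (hO : Cfsg.oddCore G = ⊥)
    (hL : Cfsg.IsStandardSubgroup L) (e : Wp ≃* L) (hout : ∀ α : MulAut Wp, ∃ w : W, α = conjWp w)
    (hR : ∀ R : Sylow 2 ↥(Subgroup.centralizer (L : Set G)),
      IsCyclic ↥(R : Subgroup ↥(Subgroup.centralizer (L : Set G)))) : L.Normal := by
  obtain ⟨-, ⟨-, htight⟩, -, hNC⟩ := hL
  set C := Subgroup.centralizer (L : Set G) with hC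
  set ι : Wp →* G := L.subtype.comp e.toMonoidHom with hι
  have hιL : ∀ a, ι a ∈ L := fun a => (e a).2
  have hsurj : ∀ x ∈ L, ∃ a, ι a = x := fun x hx => ⟨e.symm ⟨x, hx⟩, by simp [hι]⟩
  have hinj : Function.Injective ι := L.subtype_injective.comp e.injective
  have hcomm : ∀ a : Wp, ∀ c ∈ C, Commute (ι a) c := fun a c hc =>
    Subgroup.mem_centralizer_iff.1 hc _ (hιL a)
  have hmemC : ∀ g : G, (∀ a : Wp, Commute g (ι a)) → g ∈ C := fun g hg =>
    Subgroup.mem_centralizer_iff.2 fun x hx => by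
      obtain ⟨a, rfl⟩ := hsurj x hx
      exact (hg a).eq.symm
  have hzC : ι z ∈ C := hmemC _ fun a => ((show Commute z a from (Subgroup.mem_center_iff.mp z_mem_center a).symm).map ι)
  have hz2 : orderOf (ι z) = 2 := orderOf_eq_prime (by rw [sq, ← map_mul, z_sq, map_one])
    (fun h => z_ne_one (hinj (h.trans (map_one ι).symm)))
  have hnorm : ∀ g : G, Commute g (ι z) → g ∈ Subgroup.normalizer (L : Set G) := by
    intro g hg
    rw [hNC]
    by_contra hgn
    have hodd := htight g hgn
    have hmem : ι z ∈ C ⊓ C.map (MulAut.conj g).toMonoidHom := by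
      refine ⟨hzC, ι z, hzC, ?_⟩
      show g * ι z * g⁻¹ = ι z
      rw [hg.eq, mul_inv_cancel_right]
    have := orderOf_dvd_natCard (⟨_, hmem⟩ : ↥(C ⊓ C.map (MulAut.conj g).toMonoidHom))
    rw [Subgroup.orderOf_mk, hz2] at this
    exact (Nat.not_even_iff_odd.2 hodd) (even_iff_two_dvd.2 this)
  have E : Emb ι C := by
    refine ⟨hinj, hcomm, fun g hg => ?_, hmemC, hzC,
      only_involution hzC hR hz2 (hcomm z), fun c hc d hd => ?_⟩
    · have hgL := Subgroup.mem_normalizer_iff.1 (hnorm g hg)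
      let φ : L ≃* L :=
        { toFun := fun x => ⟨g * x * g⁻¹, (hgL x).1 x.2⟩
          invFun := fun x => ⟨g⁻¹ * x * g, (hgL _).2 (by
            rw [show g * (g⁻¹ * (x : G) * g) * g⁻¹ = x by group]; exact x.2)⟩
          left_inv := fun x => Subtype.ext (by simp [mul_assoc])
          right_inv := fun x => Subtype.ext (by simp [mul_assoc])
          map_mul' := fun x y => Subtype.ext (by simp [mul_assoc]) }
      obtain ⟨w, hw⟩ := hout (e.trans (φ.trans e.symm))
      refine ⟨w, fun a => ?_⟩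
      rw [← hw]
      simp [hι, φ]
    · have h := CoZeroStandard.odd_commutator_of_cyclic hR (⟨c, hc⟩ : C) ⟨d, hd⟩
      rwa [← Subgroup.orderOf_coe] at h
  have hiso : Cfsg.IsIsolatedInvolution (ι z) :=
    ⟨hz2, fun g hg => Omega8Fusion24.isolated E ⟨g, rfl⟩ hg.symm⟩
  have hcen := ZStarTheorem.mem_center_of_isolated hiso hO
  have htop : Subgroup.normalizer (L : Set G) = ⊤ :=
    eq_top_iff.2 fun g _ => hnorm g (Subgroup.mem_center_iff.1 hcen g)
  exact Subgroup.normalizer_eq_top_iff.1 htop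


/-- Let G be a finite group with no nontrivial normal subgroup of odd order and L a standard subgroup of G which is a double cover of the simple orthogonal group PΩ⁺ of dimension 8 over the field with 2 elements (the centre of L has order 2 and L modulo its centre is isomorphic to that group), and suppose the centralizer of L in G has cyclic Sylow 2-subgroups. Then L is normal in G. -/
theorem result {G : Type*} [Group G] [Finite G] (hO : Cfsg.oddCore G = ⊥) (L : Subgroup G) (hL : Cfsg.IsStandardSubgroup L)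
    {F : Type*} [Field F] [Fintype F] (hF : Fintype.card F = 2)
    (hZ : Nat.card ↥(Subgroup.center ↥L) = 2) (hLX : Nonempty ((↥L ⧸ Subgroup.center ↥L) ≃* Cfsg.POmega F (Cfsg.quadFormPlus 4 F)))
    (hR : ∀ R : Sylow 2 ↥(Subgroup.centralizer (L : Set G)), IsCyclic ↥(R : Subgroup ↥(Subgroup.centralizer (L : Set G)))) :
    L.Normal := by
  obtain ⟨φ⟩ := hLX
  have hcard := OmegaEightTwo69.card_pomega hF
  have : Finite (Cfsg.POmega F (Cfsg.quadFormPlus 4 F)) :=
    Nat.finite_of_card_ne_zero (by rw [hcard]; norm_num)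
  have : IsSimpleGroup (Cfsg.POmega F (Cfsg.quadFormPlus 4 F)) :=
    Cfsg.Agent.S0296.result (F := F) 4 (by norm_num)
  obtain ⟨ψ, hψ, hker⟩ := OmegaEightTwo69.exists_psi hF
  have hG := OmegaEightTwo69.perfect hF
  let π : ↥L →* Cfsg.POmega F (Cfsg.quadFormPlus 4 F) :=
    φ.toMonoidHom.comp (QuotientGroup.mk' (Subgroup.center ↥L))
  have hπ : Function.Surjective π := φ.surjective.comp (QuotientGroup.mk'_surjective _)
  have hk : π.ker = Subgroup.center ↥L := by
    ext x
    rw [MonoidHom.mem_ker, ← QuotientGroup.eq_one_iff x]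
    exact map_eq_one_iff φ φ.injective
  have hperf : commutator ↥L = ⊤ := by
    have h : Group.IsPerfect ↥L := hL.1.1
    exact h.commutator_eq_top
  obtain ⟨e⟩ := Omega8CoverIso24.nonempty_iso hG ψ hψ hker π hπ hk.le hperf (by rw [hk]; exact hZ) hcard
  haveI : Fact (Nat.Prime 2) := ⟨Nat.prime_two⟩
  have hA : Nat.card (MulAut (Cfsg.POmega F (Cfsg.quadFormPlus 4 F))) =
      6 * Nat.card (Cfsg.POmega F (Cfsg.quadFormPlus 4 F)) := by
    rw [S0817.result 2 1 le_rfl (by rw [hF, pow_one]) 4 le_rfl]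
    norm_num
  exact normal_of_iso hO hL e (Omega8CoverIso24.aut_eq_conj hG ψ hψ hker hA hcard) hR

end Cfsg.Agent.S3144
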