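import Cfsg.Statements.S3150
import Cfsg.Agent.Lib.CoZeroPattern
import Cfsg.Agent.Lib.LeechOutCo1
-- import your own Cfsg.Agent.* helpers here

set_option autoImplicit false
open Cfsg

namespace Cfsg.Agent.S3150

/-- In a perfect group an automorphism inner modulo the centre is inner. -/
theorem inner_of_quot {K : Type*} [Group K] (hperf : Group.IsPerfect K) (α : K ≃* K)
    (hout : Nat.card (Cfsg.Out (K ⧸ Subgroup.center K)) = 1) : ∃ a : K, ∀ x, α x = a * x * a⁻¹ := by
  let β : MulAut (K ⧸ Subgroup.center K) := QuotientGroup.congr _ _ α (by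
    ext x
    simp only [Subgroup.mem_map, Subgroup.mem_center_iff]
    constructor
    · rintro ⟨y, hy, rfl⟩ g
      obtain ⟨h, rfl⟩ := α.surjective g
      exact (map_mul α h y).symm.trans ((congrArg α (hy h)).trans (map_mul α y h))
    · intro hx
      refine ⟨α.symm x, fun g => α.injective ?_, α.apply_symm_apply x⟩
      rw [map_mul, map_mul, α.apply_symm_apply, hx])
  have hmem : β ∈ Cfsg.Inn (K ⧸ Subgroup.center K) := by
    have := (Nat.card_eq_one_iff_unique.1 hout).1
    exact (QuotientGroup.eq_one_iff β).1 (Subsingleton.elim _ _)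
  obtain ⟨q, hq⟩ := hmem
  obtain ⟨a, rfl⟩ := QuotientGroup.mk_surjective q
  have hc : ∀ x : K, (a * x * a⁻¹)⁻¹ * α x ∈ Subgroup.center K := by
    intro x
    refine QuotientGroup.eq.1 ?_
    exact congrArg (fun f : MulAut (K ⧸ Subgroup.center K) => f (QuotientGroup.mk x)) hq
  let ε : K →* Subgroup.center K :=
    { toFun := fun x => ⟨_, hc x⟩
      map_one' := Subtype.ext (by simp)
      map_mul' := fun x y => Subtype.ext (by
        show (a * (x * y) * a⁻¹)⁻¹ * α (x * y) = (a * x * a⁻¹)⁻¹ * α x * ((a * y * a⁻¹)⁻¹ * α y)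
        have h := Subgroup.mem_center_iff.1 (hc x) ((a * y * a⁻¹)⁻¹)
        rw [map_mul, show (a * (x * y) * a⁻¹)⁻¹ = (a * y * a⁻¹)⁻¹ * (a * x * a⁻¹)⁻¹ by group,
          mul_assoc ((a * y * a⁻¹)⁻¹), ← mul_assoc ((a * x * a⁻¹)⁻¹) (α x), ← mul_assoc, h,
          mul_assoc]) }
  have hker : commutator K ≤ ε.ker := by
    rw [commutator_def, Subgroup.commutator_le]
    intro x _ y _
    rw [MonoidHom.mem_ker, map_commutatorElement, commutatorElement_eq_one_iff_commute]
    exact Subtype.ext (Subgroup.mem_center_iff.1 (ε y).2 _)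
  refine ⟨a, fun x => ?_⟩
  have hx : x ∈ commutator K := by rw [hperf.commutator_eq_top]; exact Subgroup.mem_top x
  exact (inv_mul_eq_one.1 (congrArg Subtype.val (hker hx))).symm

/-- Let G be a finite group with no nontrivial normal subgroup of odd order and A a standard subgroup of G isomorphic to the automorphism group of the Leech lattice (the double cover of the first Conway group). If the centralizer of A in G has cyclic Sylow 2-subgroups, then A is normal in G. -/
theorem result {G : Type*} [Group G] [Finite G] (hO : Cfsg.oddCore G = ⊥) (A : Subgroup G) (hA : Cfsg.IsStandardSubgroup A)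
    (hAX : Nonempty (↥A ≃* ↥Cfsg.Co0)) (hR : ∀ R : Sylow 2 ↥(Subgroup.centralizer (A : Set G)), IsCyclic ↥(R : Subgroup ↥(Subgroup.centralizer (A : Set G)))) : A.Normal := by
  obtain ⟨e⟩ := hAX
  have hperfA : Group.IsPerfect ↥A := hA.1.1
  have hperf : Group.IsPerfect ↥Cfsg.Co0 := by
    rw [Group.isPerfect_def, eq_top_iff]
    intro g _
    have h : e.symm g ∈ commutator ↥A := by rw [hperfA.commutator_eq_top]; exact Subgroup.mem_top _
    have h' := Subgroup.mem_map_of_mem e.toMonoidHom h
    rw [commutator_def, Subgroup.map_commutator] at h'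
    have h'' := Subgroup.commutator_mono (le_top) (le_top) h'
    simpa [commutator_def] using h''
  exact Cfsg.Agent.CoZeroStandard.normal_of_standard Cfsg.Agent.CoZeroPattern.pattern
    (fun α => inner_of_quot hperf α Cfsg.Agent.LeechOutCo1.card_out) hO hA e hR

end Cfsg.Agent.S3150
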