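import Cfsg.Statements.S3153
import Mathlib
import Cfsg.Agent.Lib.ComponentsCores
-- import your own Cfsg.Agent.* helpers here

set_option autoImplicit false
set_option linter.style.haveILetI false
open Cfsg

namespace Cfsg.Agent.S3153

open Subgroup Cfsg.Agent.ComponentsBasic Cfsg.Agent.ComponentsCores

variable {X : Type*} [Group X] [Finite X]

/-- An element squaring to `1` in a group of odd order is trivial. -/
theorem eq_one_of_sq {O : Subgroup X} (hodd : Odd (Nat.card O)) {x : X} (hx : x ∈ O) (h : x * x = 1) :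
    x = 1 := by
  obtain ⟨k, hk⟩ := hodd
  have h1 : (⟨x, hx⟩ : O) ^ Nat.card O = 1 := pow_card_eq_one'
  have h2 : x ^ Nat.card O = 1 := congrArg Subtype.val h1
  rwa [hk, pow_add, pow_mul, sq, h, one_pow, one_mul, pow_one] at h2

theorem sq_inj {O : Subgroup X} (hodd : Odd (Nat.card O)) {x y : X} (hx : x ∈ O) (hy : y ∈ O)
    (h : x * x = y * y) : x = y := by
  obtain ⟨k, hk⟩ := hodd
  have hpow : ∀ z ∈ O, (z * z) ^ (k + 1) = z := fun z hz => by
    have h1 : z ^ Nat.card O = 1 := congrArg Subtype.val (pow_card_eq_one' : (⟨z, hz⟩ : O) ^ Nat.card O = 1)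
    rw [hk] at h1
    rw [← sq, ← pow_mul, show 2 * (k + 1) = 2 * k + 1 + 1 by ring, pow_succ, h1, one_mul]
  rw [← hpow x hx, h, hpow y hy]

theorem exists_sqrt {O : Subgroup X} (hodd : Odd (Nat.card O)) {x : X} (hx : x ∈ O) :
    ∃ h ∈ O, h * h = x ∧ ∀ φ : X ≃* X, φ x = x⁻¹ → φ h = h⁻¹ := by
  obtain ⟨k, hk⟩ := hodd
  have h1 : x ^ Nat.card O = 1 := congrArg Subtype.val (pow_card_eq_one' : (⟨x, hx⟩ : O) ^ Nat.card O = 1)
  refine ⟨x ^ (k + 1), O.pow_mem hx _, ?_, fun φ hφ => by rw [map_pow, hφ, inv_pow]⟩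
  rw [← pow_add, show k + 1 + (k + 1) = 2 * k + 1 + 1 by ring, pow_succ, ← hk, h1, one_mul]

/-- Two commuting involutory automorphisms of an odd order group with the same fixed points
have trivial product. -/
theorem eq_of_same_fixed {O : Subgroup X} (hodd : Odd (Nat.card O)) (T U : X ≃* X)
    (hT : ∀ x, T (T x) = x) (hU : ∀ x, U (U x) = x) (hTU : ∀ x, T (U x) = U (T x))
    (hTO : ∀ x ∈ O, T x ∈ O) (hUO : ∀ x ∈ O, U x ∈ O)
    (hfix : ∀ x ∈ O, (T x = x ↔ U x = x)) : ∀ x ∈ O, T x = U x := by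
  have inv_case : ∀ j ∈ O, T j = j⁻¹ → U j = j⁻¹ := by
    intro j hj hTj
    obtain ⟨h, hh, hsq, hφ⟩ := exists_sqrt hodd (O.mul_mem (O.inv_mem hj) (hUO j hj))
    have hUh : U h = h⁻¹ := hφ U (by rw [map_mul, map_inv, hU, mul_inv_rev, inv_inv])
    have hUj : U j = j * (h * h) := by rw [hsq, mul_inv_cancel_left]
    have hc : U (j * h) = j * h := by rw [map_mul, hUj, hUh]; group
    have hTc : T (j * h) = j * h := (hfix _ (O.mul_mem hj hh)).2 hc
    have hTh : T h = j * j * h := by
      rw [map_mul, hTj] at hTc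
      rw [mul_assoc, ← hTc, mul_inv_cancel_left]
    have h2 : U j * U j * h⁻¹ = h⁻¹ * (j * j)⁻¹ := by
      have h3 : U (T h) = U (j * j * h) := congrArg U hTh
      rw [← hTU, hUh, map_inv, hTh, map_mul, map_mul, hUh] at h3
      rw [← h3, mul_inv_rev]
    have h4 : U j * U j = (h⁻¹ * j⁻¹ * h) * (h⁻¹ * j⁻¹ * h) := by
      calc U j * U j = U j * U j * h⁻¹ * h := by group
        _ = h⁻¹ * (j * j)⁻¹ * h := by rw [h2]
        _ = _ := by group
    have h5 := sq_inj hodd (hUO j hj)
      (O.mul_mem (O.mul_mem (O.inv_mem hh) (O.inv_mem hj)) hh) h4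
    have h6 : (j * h) * (j * h) = 1 := by
      calc (j * h) * (j * h) = j * h * (j * (h * h)) * h⁻¹ := by group
        _ = j * h * (h⁻¹ * j⁻¹ * h) * h⁻¹ := by rw [← hUj, h5]
        _ = 1 := by group
    have h7 : h = j⁻¹ := eq_inv_of_mul_eq_one_right (eq_one_of_sq hodd (O.mul_mem hj hh) h6)
    rw [hUj, h7]; group
  intro x hx
  obtain ⟨h, hh, hsq, hφ⟩ := exists_sqrt hodd (O.mul_mem (O.inv_mem hx) (hTO x hx))
  have hTh : T h = h⁻¹ := hφ T (by rw [map_mul, map_inv, hT, mul_inv_rev, inv_inv])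
  have hTx : T x = x * (h * h) := by rw [hsq, mul_inv_cancel_left]
  have hc : T (x * h) = x * h := by rw [map_mul, hTx, hTh]; group
  have hUc : U (x * h) = x * h := (hfix _ (O.mul_mem hx hh)).1 hc
  rw [map_mul, inv_case h hh hTh] at hUc
  rw [hTx]
  calc x * (h * h) = x * h * h := by group
    _ = U x * h⁻¹ * h := by rw [hUc]
    _ = U x := by group

theorem unique_involution {C : Subgroup X} (hr : Cfsg.PRankLE 2 1 ↥C) {a b : X} (ha : a ∈ C)
    (hb : b ∈ C) (ha2 : a * a = 1) (hb2 : b * b = 1) (hab : a * b = b * a) (ha1 : a ≠ 1)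
    (hb1 : b ≠ 1) : a = b := by
  by_contra hne
  let α : C := ⟨a, ha⟩
  let β : C := ⟨b, hb⟩
  let A : Subgroup C := closure {α, β}
  have hcomm : ∀ x ∈ ({α, β} : Set C), ∀ y ∈ ({α, β} : Set C), x * y = y * x := by
    rintro x (rfl | rfl) y (rfl | rfl) <;> first | rfl | exact Subtype.ext hab | exact Subtype.ext hab.symm
  haveI hA : IsMulCommutative A := isMulCommutative_closure hcomm
  have hsq : ∀ x ∈ A, x ^ 2 = 1 := by
    intro x hx
    induction hx using closure_induction with
    | mem x hx =>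
      rcases hx with rfl | rfl
      · exact Subtype.ext (by simpa [sq] using ha2)
      · exact Subtype.ext (by simpa [sq] using hb2)
    | one => simp
    | mul x y hx hy h1 h2 =>
      have hc : Commute x y := congrArg Subtype.val (hA.is_comm.comm ⟨x, hx⟩ ⟨y, hy⟩)
      rw [hc.mul_pow, h1, h2, one_mul]
    | inv x hx h => rw [inv_pow, h, inv_one]
  have h4 := hr A hA hsq
  have hα : α ∈ A := subset_closure (Or.inl rfl)
  have hβ : β ∈ A := subset_closure (Or.inr rfl)
  let f : Fin 3 → A := ![1, ⟨α, hα⟩, ⟨β, hβ⟩]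
  have hf : Function.Injective f := by
    intro i j hij
    have hij' := congrArg (fun z : A => ((z : C) : X)) hij
    fin_cases i <;> fin_cases j <;> simp_all [f, α, β, Subtype.ext_iff, eq_comm]
  have := Nat.card_le_card_of_injective f hf
  simp at this h4
  omega

/-- Let X be a finite group and P a standard subgroup of X whose centralizer has 2-rank at most 1 and whose centre has odd order. Let S be a Sylow 2-subgroup of N_X(P) and t an involution of S centralizing P. Suppose some element g of X normalizes S, does not lie in S, has its square in S, and conjugates t into P·C_X(P). Then P commutes elementwise with the largest normal odd-order subgroup O(X) of X; consequently every t-invariant 2-component of X containing P is quasisimple. -/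
theorem result {X : Type*} [Group X] [Finite X] (P : Subgroup X) (hP : Cfsg.IsStandardSubgroup P)
    (hr : Cfsg.PRankLE 2 1 ↥(Subgroup.centralizer (P : Set X))) (hZ : Odd (Nat.card ↥(Subgroup.center ↥P)))
    (S : Sylow 2 ↥(Subgroup.normalizer (P : Set X))) (t : X) (ht : orderOf t = 2) (htS : t ∈ (S : Subgroup ↥(Subgroup.normalizer (P : Set X))).map (Subgroup.normalizer (P : Set X)).subtype)
    (htP : t ∈ Subgroup.centralizer (P : Set X))
    (g : X) (hgN : ∀ s ∈ (S : Subgroup ↥(Subgroup.normalizer (P : Set X))).map (Subgroup.normalizer (P : Set X)).subtype, g * s * g⁻¹ ∈ (S : Subgroup ↥(Subgroup.normalizer (P : Set X))).map (Subgroup.normalizer (P : Set X)).subtype)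
    (hgS : g ∉ (S : Subgroup ↥(Subgroup.normalizer (P : Set X))).map (Subgroup.normalizer (P : Set X)).subtype) (hg2 : g ^ 2 ∈ (S : Subgroup ↥(Subgroup.normalizer (P : Set X))).map (Subgroup.normalizer (P : Set X)).subtype)
    (hgt : g * t * g⁻¹ ∈ P ⊔ Subgroup.centralizer (P : Set X)) :
    ⁅P, Cfsg.oddCore X⁆ = ⊥ ∧
      ∀ L : Subgroup X, Cfsg.IsPComponent 2 L → P ≤ L → (∀ l ∈ L, t * l * t⁻¹ ∈ L) → Cfsg.IsQuasisimple ↥L := by
  set C := Subgroup.centralizer (P : Set X) with hCdef
  set S0 := (S : Subgroup ↥(Subgroup.normalizer (P : Set X))).map (Subgroup.normalizer (P : Set X)).subtype with hS0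
  set O := Cfsg.oddCore X with hOdef
  obtain ⟨hq, ⟨hCeven, hTI⟩, hconj, hNC⟩ := hP
  haveI hOn : O.Normal := by
    rw [hOdef]; exact pPrimeCore_normal 2 X
  have hOodd : Odd (Nat.card O) := Nat.coprime_two_right.1 (pPrimeCore_coprime 2)
  have hP' : ⁅P, P⁆ = P := isQuasisimple_perfect hq
  have hCcomm : ∀ c ∈ C, ∀ p ∈ P, p * c = c * p := fun c hc p hp => mem_centralizer_iff.1 hc p hp
  have ht2 : t * t = 1 := by rw [← sq, ← ht, pow_orderOf_eq_one]
  have ht1 : t ≠ 1 := fun h => by rw [h, orderOf_one] at ht; omega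
  -- centralisers of involutions of `C` lie in `(Subgroup.normalizer (P : Set X))`
  have hCt : ∀ x, x * t = t * x → x ∈ (Subgroup.normalizer (P : Set X)) := by
    intro x hx
    by_contra hxN
    have := hTI x (by rw [← hCdef] at hNC ⊢; rw [← hNC]; exact hxN)
    have htm : t ∈ C ⊓ C.map (MulAut.conj x).toMonoidHom :=
      ⟨htP, t, htP, by simp [hx]⟩
    have hd : orderOf (⟨t, htm⟩ : ↥(C ⊓ C.map (MulAut.conj x).toMonoidHom)) ∣ _ := orderOf_dvd_natCard _
    rw [← orderOf_injective (C ⊓ C.map (MulAut.conj x).toMonoidHom).subtype Subtype.val_injective,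
      show (C ⊓ C.map (MulAut.conj x).toMonoidHom).subtype ⟨t, htm⟩ = t from rfl, ht] at hd
    exact absurd (even_iff_two_dvd.2 hd) (Nat.not_even_iff_odd.2 this)
  have hgNP : g ∉ (Subgroup.normalizer (P : Set X)) := by
    intro hg
    apply hgS
    let g' : (Subgroup.normalizer (P : Set X)) := ⟨g, hg⟩
    have hg' : g' ∈ normalizer ((S : Subgroup (Subgroup.normalizer (P : Set X))) : Set (Subgroup.normalizer (P : Set X))) := by
      refine mem_normalizer_fintype (fun s hs => ?_)
      obtain ⟨s', hs', hs''⟩ := hgN (s : X) ⟨s, hs, rfl⟩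
      rwa [show g' * s * g'⁻¹ = s' from Subtype.ext hs''.symm]
    have hpg : IsPGroup 2 (zpowers g') := by
      obtain ⟨s', hs', hs''⟩ := hg2
      obtain ⟨k, hk⟩ := S.isPGroup' ⟨s', hs'⟩
      have hk' : g' ^ (2 ^ (k + 1)) = 1 := by
        rw [pow_succ', pow_mul, show g' ^ 2 = s' from Subtype.ext hs''.symm]
        exact congrArg Subtype.val hk
      intro z
      obtain ⟨z, hz⟩ := z
      obtain ⟨i, rfl⟩ := mem_zpowers_iff.1 hz
      refine ⟨k + 1, Subtype.ext ?_⟩
      show (g' ^ i) ^ (2 ^ (k + 1)) = 1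
      rw [← zpow_natCast, ← zpow_mul, mul_comm, zpow_mul, zpow_natCast, hk', one_zpow]
    have hsup := hpg.to_sup_of_normal_right' S.isPGroup' (by simpa [zpowers_le] using hg')
    have : (zpowers g' ⊔ (S : Subgroup (Subgroup.normalizer (P : Set X)))) = (S : Subgroup (Subgroup.normalizer (P : Set X))) := S.is_maximal' hsup le_sup_right
    exact ⟨g', this ▸ (le_sup_left : zpowers g' ≤ _) (mem_zpowers g'), rfl⟩
  set u := g * t * g⁻¹ with hu
  have hu2 : u * u = 1 := by
    calc u * u = g * (t * t) * g⁻¹ := by rw [hu]; group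
      _ = 1 := by rw [ht2]; group
  have huS : u ∈ S0 := hgN t htS
  have hS0N : ∀ s ∈ S0, s ∈ (Subgroup.normalizer (P : Set X)) := fun s hs => map_subtype_le _ hs
  have hCn : ∀ s ∈ (Subgroup.normalizer (P : Set X)), ∀ c ∈ C, s * c * s⁻¹ ∈ C := fun s hs c hc => by
    rw [hNC] at hs
    exact (mem_normalizer_iff.1 hs c).1 hc
  -- `t` is central in `S0`
  have hSp : IsPGroup 2 ↥S0 := S.isPGroup'.map _
  have uniq : ∀ a ∈ S0 ⊓ C, a * a = 1 → a ≠ 1 → a = t := by
    intro a ha ha2 ha1
    have hp : IsPGroup 2 ↥(S0 ⊓ C) := hSp.to_le inf_le_left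
    haveI : Nontrivial ↥(S0 ⊓ C) :=
      ⟨⟨⟨a, ha⟩, 1, fun h => ha1 (congrArg Subtype.val h)⟩⟩
    haveI := hp.center_nontrivial
    have hzp : IsPGroup 2 (center ↥(S0 ⊓ C)) := hp.to_subgroup _
    obtain ⟨⟨⟨z, hz⟩, hzc⟩, hzo⟩ := exists_prime_orderOf_dvd_card' (G := center ↥(S0 ⊓ C)) 2 (by
      obtain ⟨n, hn⟩ := IsPGroup.iff_card.1 hzp
      rw [hn]
      refine dvd_pow_self 2 ?_
      rintro rfl
      exact (Finite.one_lt_card (α := center ↥(S0 ⊓ C))).ne' (by simpa using hn))
    have hz2 : z * z = 1 := by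
      have h := pow_orderOf_eq_one (⟨⟨z, hz⟩, hzc⟩ : center ↥(S0 ⊓ C))
      rw [hzo, sq] at h
      exact congrArg (fun w : center ↥(S0 ⊓ C) => ((w : ↥(S0 ⊓ C)) : X)) h
    have hz1 : z ≠ 1 := by
      intro h
      subst h
      rw [show (⟨⟨1, hz⟩, hzc⟩ : center ↥(S0 ⊓ C)) = 1 from rfl, orderOf_one] at hzo
      omega
    have hzall : ∀ b ∈ S0 ⊓ C, b * z = z * b := fun b hb =>
      congrArg Subtype.val (mem_center_iff.1 hzc ⟨b, hb⟩)
    rw [unique_involution hr ha.2 hz.2 ha2 hz2 (hzall a ha) ha1 hz1,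
      unique_involution hr htP hz.2 ht2 hz2 (hzall t ⟨htS, htP⟩) ht1 hz1]
  have htc : ∀ s ∈ S0, s * t = t * s := by
    intro s hs
    have := uniq (s * t * s⁻¹) ⟨S0.mul_mem (S0.mul_mem hs htS) (S0.inv_mem hs), hCn s (hS0N s hs) t htP⟩
      (by rw [show s * t * s⁻¹ * (s * t * s⁻¹) = s * (t * t) * s⁻¹ by group, ht2]; group)
      (by intro h; apply ht1; rw [← conj_eq_one_iff (a := s), h])
    exact mul_inv_eq_iff_eq_mul.1 this
  have hut : u * t = t * u := htc u huS
  have huC : u ∉ C := by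
    intro h
    have := uniq u ⟨huS, h⟩ hu2 (by intro h; exact ht1 (conj_eq_one_iff.1 h))
    exact hgNP (hCt g (mul_inv_eq_iff_eq_mul.1 this))
  -- decomposition `u = p * c`
  have hdec : ∃ p ∈ P, ∃ c ∈ C, u = p * c := by
    have hn : C ≤ normalizer (P : Set X) := centralizer_le_normalizer _
    have := hgt
    rw [← SetLike.mem_coe, coe_mul_of_right_le_normalizer_left P C hn] at this
    obtain ⟨p, hp, c, hc, h⟩ := this
    exact ⟨p, hp, c, hc, h.symm⟩
  obtain ⟨p₀, hp₀, c₀, hc₀, hu₀⟩ := hdec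
  have hZeq : ∀ z ∈ P, z ∈ C → Odd (orderOf z) := by
    intro z hz hzC
    have hmem : (⟨z, hz⟩ : P) ∈ center ↥P :=
      mem_center_iff.2 fun y => Subtype.ext (hCcomm z hzC y y.2)
    rw [show z = P.subtype ⟨z, hz⟩ from rfl, orderOf_injective _ Subtype.val_injective,
      show (⟨z, hz⟩ : P) = (center ↥P).subtype ⟨_, hmem⟩ from rfl, orderOf_injective _ Subtype.val_injective]
    exact hZ.of_dvd_nat (orderOf_dvd_natCard _)
  have hpc2 : p₀ * p₀ * (c₀ * c₀) = 1 := by
    rw [← hu2, hu₀]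
    calc p₀ * p₀ * (c₀ * c₀) = p₀ * (p₀ * c₀) * c₀ := by group
      _ = p₀ * (c₀ * p₀) * c₀ := by rw [hCcomm c₀ hc₀ p₀ hp₀]
      _ = _ := by group
  have hpp : p₀ * p₀ ∈ C := by
    rw [eq_inv_of_mul_eq_one_left hpc2]; exact C.inv_mem (C.mul_mem hc₀ hc₀)
  have hPeven : ¬ P ≤ O := by
    intro hle
    apply huC
    obtain ⟨h, hh, hsq, -⟩ := exists_sqrt hOodd (O.mul_mem (hle hp₀) (hle hp₀))
    have hpk : p₀ ∈ C := by
      obtain ⟨k, hk⟩ := hOodd
      have h1 : p₀ ^ Nat.card O = 1 := congrArg Subtype.val (pow_card_eq_one' : (⟨p₀, hle hp₀⟩ : O) ^ Nat.card O = 1)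
      have : p₀ = (p₀ * p₀) ^ (k + 1) := by
        rw [← sq, ← pow_mul, show 2 * (k + 1) = 2 * k + 1 + 1 by ring, pow_succ, ← hk, h1, one_mul]
      rw [this]; exact C.pow_mem hpp _
    rw [hu₀]; exact C.mul_mem hpk hc₀
  obtain ⟨p, hp, c, hc, hupc, hc2⟩ : ∃ p ∈ P, ∃ c ∈ C, u = p * c ∧ c * c = 1 := by
    obtain ⟨k, hk⟩ := hZeq (p₀ * p₀) (P.mul_mem hp₀ hp₀) hpp
    set z := (p₀ * p₀) ^ k with hz
    have hz0 : z * z * (p₀ * p₀) = 1 := by
      rw [hz, ← pow_add, ← two_mul, ← pow_succ, ← hk, pow_orderOf_eq_one]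
    have hzP : z ∈ P := P.pow_mem (P.mul_mem hp₀ hp₀) k
    have hzC : z ∈ C := C.pow_mem hpp k
    refine ⟨p₀ * z, P.mul_mem hp₀ hzP, z⁻¹ * c₀, C.mul_mem (C.inv_mem hzC) hc₀, by rw [hu₀]; group, ?_⟩
    have e1 : c₀ * c₀ = (p₀ * p₀)⁻¹ := eq_inv_of_mul_eq_one_right hpc2
    have e2 : z⁻¹ * c₀ = c₀ * z⁻¹ := hCcomm c₀ hc₀ _ (P.inv_mem hzP)
    calc z⁻¹ * c₀ * (z⁻¹ * c₀) = z⁻¹ * (c₀ * z⁻¹) * c₀ := by group
      _ = z⁻¹ * (z⁻¹ * c₀) * c₀ := by rw [← e2]
      _ = (z * z)⁻¹ * (c₀ * c₀) := by group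
      _ = (z * z)⁻¹ * (z * z) := by rw [e1, eq_inv_of_mul_eq_one_left hz0]
      _ = 1 := by group
  have htp : t * p = p * t := (hCcomm t htP p hp).symm
  have hct : c * t = t * c := by
    have hc' : c = p⁻¹ * u := by rw [hupc]; group
    rw [hc']
    calc p⁻¹ * u * t = p⁻¹ * (u * t) := by group
      _ = p⁻¹ * (t * u) := by rw [hut]
      _ = (p⁻¹ * t) * u := by group
      _ = (t * p⁻¹) * u := by rw [hCcomm t htP _ (P.inv_mem hp)]
      _ = _ := by group
  have hct' : c = 1 ∨ c = t := by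
    by_cases h : c = 1
    · exact Or.inl h
    · exact Or.inr (unique_involution hr hc htP hc2 ht2 hct h ht1)
  -- `C_O(t)` centralises `P`
  have hfixP : O ⊓ centralizer ({t} : Set X) ≤ C := by
    set C0 := O ⊓ centralizer ({t} : Set X)
    have hC0N : C0 ≤ normalizer (P : Set X) := fun x hx =>
      hCt x (mem_centralizer_singleton_iff.1 hx.2)
    have hn : (P ⊓ O).subgroupOf P ≤ center ↥P := by
      haveI : ((P ⊓ O).subgroupOf P).Normal := by
        constructor
        intro n hn g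
        exact ⟨(g * n * g⁻¹).2, hOn.conj_mem _ hn.2 _⟩
      refine (normal_le_center_or_eq_top hq _).resolve_right fun h => hPeven ?_
      rw [subgroupOf_eq_top] at h
      exact h.trans inf_le_right
    have h1 : ⁅C0, P⁆ ≤ P ⊓ O := by
      refine le_inf ?_ ?_
      · rw [commutator_comm]; exact le_normalizer_iff_commutator_le_left.1 hC0N
      · exact (commutator_mono inf_le_left le_rfl).trans (commutator_le_left O P)
    have h2 : ⁅⁅C0, P⁆, P⁆ = ⊥ := by
      rw [eq_bot_iff]
      refine (commutator_mono h1 le_rfl).trans ?_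
      rw [le_bot_iff, commutator_eq_bot_iff_le_centralizer]
      intro z hz
      rw [mem_centralizer_iff]
      intro y hy
      exact congrArg Subtype.val (mem_center_iff.1 (hn (x := ⟨z, hz.1⟩) hz) ⟨y, hy⟩)
    have h3 := commutator_eq_bot_of_perfect hP' h2
    rw [commutator_comm, commutator_eq_bot_iff_le_centralizer] at h3
    exact h3
  let T := MulAut.conj t
  let U := MulAut.conj u
  have htu : ∀ x ∈ O, t * x * t⁻¹ = u * x * u⁻¹ := by
    have hle : ∀ x ∈ O, t * x = x * t → u * x = x * u := by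
      intro x hx hxt
      have hxC : x ∈ C := hfixP ⟨hx, mem_centralizer_singleton_iff.2 hxt.symm⟩
      have hxp : p * x = x * p := hCcomm x hxC p hp
      have hxc : c * x = x * c := by rcases hct' with h | h <;> rw [h] <;> simp [hxt]
      rw [hupc, mul_assoc, hxc, ← mul_assoc, hxp, mul_assoc]
    let A := O ⊓ centralizer ({t} : Set X)
    let B := O ⊓ centralizer ({u} : Set X)
    have hAB : A ≤ B := fun x hx =>
      ⟨hx.1, mem_centralizer_singleton_iff.2 (hle x hx.1 (mem_centralizer_singleton_iff.1 hx.2).symm).symm⟩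
    have hmap : B ≤ A.map (MulAut.conj g).toMonoidHom := by
      intro y hy
      refine ⟨g⁻¹ * y * g, ⟨by simpa using hOn.conj_mem y hy.1 g⁻¹, mem_centralizer_singleton_iff.2 ?_⟩, by simp [mul_assoc]⟩
      have h := mem_centralizer_singleton_iff.1 hy.2
      calc g⁻¹ * y * g * t = g⁻¹ * (y * u) * g := by rw [hu]; group
        _ = g⁻¹ * (u * y) * g := by rw [h]
        _ = _ := by rw [hu]; group
    have hEq : A = B := by
      refine eq_of_le_of_card_ge hAB ((card_le_of_le hmap).trans ?_)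
      rw [card_map_of_injective (MulAut.conj g).injective]
    intro x hx
    refine eq_of_same_fixed hOodd T U ?_ ?_ ?_ (fun x hx => hOn.conj_mem x hx t) (fun x hx => hOn.conj_mem x hx u) ?_ x hx
    · intro y; show t * (t * y * t⁻¹) * t⁻¹ = y
      calc _ = (t * t) * y * (t * t)⁻¹ := by group
        _ = y := by rw [ht2]; group
    · intro y; show u * (u * y * u⁻¹) * u⁻¹ = y
      calc _ = (u * u) * y * (u * u)⁻¹ := by group
        _ = y := by rw [hu2]; group
    · intro y; show t * (u * y * u⁻¹) * t⁻¹ = u * (t * y * t⁻¹) * u⁻¹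
      calc _ = (t * u) * y * (t * u)⁻¹ := by group
        _ = (u * t) * y * (u * t)⁻¹ := by rw [hut]
        _ = _ := by group
    · intro y hy
      show t * y * t⁻¹ = y ↔ u * y * u⁻¹ = y
      constructor
      · intro h; exact mul_inv_eq_iff_eq_mul.2 (hle y hy (mul_inv_eq_iff_eq_mul.1 h))
      · intro h
        have : y ∈ A := hEq ▸ ⟨hy, mem_centralizer_singleton_iff.2 (mul_inv_eq_iff_eq_mul.1 h).symm⟩
        exact mul_inv_eq_iff_eq_mul.2 (mem_centralizer_singleton_iff.1 this.2).symm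
  -- some non-central element of `P` centralises `O`
  have hPO : P ≤ centralizer (O : Set X) := by
    set K := centralizer (O : Set X)
    haveI hKn : K.Normal := Subgroup.normal_centralizer
    set v := t⁻¹ * u with hv
    have hvK : v ∈ K := by
      rw [mem_centralizer_iff]
      intro x hx
      calc x * v = t⁻¹ * (t * x * t⁻¹) * u := by rw [hv]; group
        _ = t⁻¹ * (u * x * u⁻¹) * u := by rw [htu x hx]
        _ = v * x := by rw [hv]; group
    haveI : (K.subgroupOf P).Normal := hKn.comap _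
    refine (normal_le_center_or_eq_top hq (K.subgroupOf P)).elim (fun hcen => ?_) (fun h => subgroupOf_eq_top.1 h)
    exfalso
    apply huC
    have hkey : ∀ y : P, y * ⟨p, hp⟩ * y⁻¹ * (⟨p, hp⟩ : P)⁻¹ ∈ center ↥P := by
      intro y
      apply hcen
      rw [mem_subgroupOf]
      have h1 : (y : X) * v * (y : X)⁻¹ * v⁻¹ ∈ K := K.mul_mem (hKn.conj_mem v hvK y) (K.inv_mem hvK)
      have hvp : v = p * (t⁻¹ * c) := by
        rw [hv, hupc, ← mul_assoc, ← mul_assoc, hCcomm _ (C.inv_mem htP) p hp]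
      have hyc := hCcomm (t⁻¹ * c) (C.mul_mem (C.inv_mem htP) hc) y y.2
      convert h1 using 1
      show (y : X) * p * (y : X)⁻¹ * p⁻¹ = _
      rw [hvp]
      have e : (t⁻¹ * c) * (y : X)⁻¹ * (t⁻¹ * c)⁻¹ = (y : X)⁻¹ := by
        rw [← hCcomm (t⁻¹ * c) (C.mul_mem (C.inv_mem htP) hc) _ (P.inv_mem y.2)]; group
      calc (y : X) * p * (y : X)⁻¹ * p⁻¹
          = (y : X) * p * ((t⁻¹ * c) * (y : X)⁻¹ * (t⁻¹ * c)⁻¹) * p⁻¹ := by rw [e]
        _ = _ := by group
    have hpZ : (⟨p, hp⟩ : P) ∈ center ↥P := by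
      rw [← QuotientGroup.eq_one_iff (N := center ↥P)]
      by_contra hne
      haveI := hq.2
      have hcq : (QuotientGroup.mk (⟨p, hp⟩ : P) : ↥P ⧸ center ↥P) ∈ center (↥P ⧸ center ↥P) := by
        rw [mem_center_iff]
        intro a
        obtain ⟨y, rfl⟩ := QuotientGroup.mk_surjective a
        have := (QuotientGroup.eq_one_iff _).2 (hkey y)
        simp only [QuotientGroup.mk_mul, QuotientGroup.mk_inv] at this
        exact mul_inv_eq_iff_eq_mul.1 (mul_inv_eq_one.1 this)
      rcases (inferInstance : (center (↥P ⧸ center ↥P)).Normal).eq_bot_or_eq_top with h | h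
      · rw [h, mem_bot] at hcq; exact hne hcq
      · exact quotient_center_not_commutative hq
          ⟨⟨fun a b => mem_center_iff.1 (h ▸ mem_top b) a⟩⟩
    rw [hupc]
    refine C.mul_mem ?_ hc
    rw [hCdef, mem_centralizer_iff]
    intro y hy
    exact congrArg Subtype.val (mem_center_iff.1 hpZ ⟨y, hy⟩)
  refine ⟨by rwa [commutator_eq_bot_iff_le_centralizer], ?_⟩
  rintro L ⟨hLsn, hLc, hLmin⟩ hPL -
  set π := QuotientGroup.mk' (Cfsg.pPrimeCore 2 X) with hπ
  haveI : (Cfsg.pPrimeCore 2 X).Normal := pPrimeCore_normal 2 X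
  have hLperf : ⁅L, L⁆ = L := by
    refine hLmin _ ?_ (commutator_le_self L) ?_
    · exact isSubnormal_of_le_normalizer (commutator_le_self L) hLsn (normalizer_commutator_ge_left L L)
    · rw [map_commutator]; exact IsComponent.perfect hLc
  have hnorm : ∀ M : Subgroup X, M ≤ L → L ≤ normalizer (M : Set X) →
      M.map π ≤ centralizer ((L.map π : Subgroup (X ⧸ Cfsg.pPrimeCore 2 X)) : Set (X ⧸ Cfsg.pPrimeCore 2 X)) ∨ M = L := by
    intro M hML hMn
    have hle : M.map π ≤ L.map π := map_mono hML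
    haveI : ((M.map π).subgroupOf (L.map π)).Normal :=
      (normal_subgroupOf_iff_le_normalizer hle).2 ((map_mono hMn).trans (le_normalizer_map π))
    rcases normal_le_center_or_eq_top hLc.2 ((M.map π).subgroupOf (L.map π)) with h | h
    · left
      intro z hz
      rw [mem_centralizer_iff]
      intro y hy
      exact congrArg Subtype.val (mem_center_iff.1 (h (x := ⟨z, hle hz⟩) hz) ⟨y, hy⟩)
    · exact Or.inr (hLmin M (isSubnormal_of_le_normalizer hML hLsn hMn) hML
        (le_antisymm hle (subgroupOf_eq_top.1 h)))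
  set M0 := L ⊓ O
  set D := L ⊓ centralizer (M0 : Set X)
  have hM0 : L ≤ normalizer (M0 : Set X) := by
    intro l hl
    exact mem_normalizer_fintype fun m hm => ⟨L.mul_mem (L.mul_mem hl hm.1) (L.inv_mem hl), hOn.conj_mem _ hm.2 l⟩
  have hDn : L ≤ normalizer (D : Set X) := by
    intro l hl
    refine mem_normalizer_fintype fun d hd => ?_
    refine ⟨L.mul_mem (L.mul_mem hl hd.1) (L.inv_mem hl), ?_⟩
    show l * d * l⁻¹ ∈ centralizer (M0 : Set X)
    rw [mem_centralizer_iff]
    intro m hm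
    have hm' : l⁻¹ * m * l ∈ M0 := by
      simpa using (mem_normalizer_iff.1 (hM0 (L.inv_mem hl)) m).1 hm
    have h := mem_centralizer_iff.1 hd.2 _ hm'
    calc m * (l * d * l⁻¹) = l * ((l⁻¹ * m * l) * d) * l⁻¹ := by group
      _ = l * (d * (l⁻¹ * m * l)) * l⁻¹ := by rw [h]
      _ = _ := by group
  have hDL : D = L := by
    refine (hnorm D inf_le_left hDn).resolve_left fun h => hPeven ?_
    have hPD : P ≤ D := le_inf hPL (hPO.trans (centralizer_le (fun x hx => hx.2)))
    have h1 : P.map π ≤ centralizer ((P.map π : Subgroup _) : Set (X ⧸ Cfsg.pPrimeCore 2 X)) :=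
      ((map_mono hPD).trans h).trans (centralizer_le (map_mono hPL))
    rw [← commutator_eq_bot_iff_le_centralizer, ← map_commutator, hP', Subgroup.map_eq_bot_iff,
      hπ, QuotientGroup.ker_mk'] at h1
    exact h1
  haveI : Nontrivial L := by
    rw [nontrivial_iff_ne_bot]
    intro h
    exact hPeven (hPL.trans (h ▸ bot_le))
  refine isQuasisimple_of_normal_le_center ⟨?_⟩ inferInstance ?_
  · apply map_injective L.subtype_injective
    rw [map_subtype_commutator, hLperf, ← MonoidHom.range_eq_map, range_subtype]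
  · intro M hM
    rcases hnorm (M.map L.subtype) (map_subtype_le M)
        (le_normalizer_of_normal_subgroupOf (map_subtype_le M) (by
          show ((M.map L.subtype).comap L.subtype).Normal
          rw [comap_map_eq_self_of_injective L.subtype_injective]; exact hM)) with h | h
    · left
      have h1 : ⁅M.map L.subtype, L⁆ ≤ L ⊓ O := by
        refine le_inf ((commutator_mono (map_subtype_le M) le_rfl).trans (commutator_le_self L)) ?_
        have : (⁅M.map L.subtype, L⁆).map π = ⊥ := by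
          rw [map_commutator, commutator_eq_bot_iff_le_centralizer]; exact h
        rwa [Subgroup.map_eq_bot_iff, hπ, QuotientGroup.ker_mk'] at this
      have h2 : ⁅⁅M.map L.subtype, L⁆, L⁆ = ⊥ := by
        rw [eq_bot_iff]
        refine (commutator_mono h1 le_rfl).trans ?_
        rw [commutator_comm, le_bot_iff, commutator_eq_bot_iff_le_centralizer]
        exact hDL.ge.trans inf_le_right
      have h3 := commutator_eq_bot_of_perfect hLperf h2
      rw [commutator_comm, commutator_eq_bot_iff_le_centralizer] at h3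
      intro m hm
      rw [mem_center_iff]
      exact fun y => Subtype.ext (mem_centralizer_iff.1 (h3 ⟨m, hm, rfl⟩) y y.2)
    · right
      apply map_injective L.subtype_injective
      rw [h, ← MonoidHom.range_eq_map, range_subtype]

end Cfsg.Agent.S3153
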