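import Cfsg.Statements.S3154
import Cfsg.Agent.Lib.PSL34Parabolic
import Cfsg.Agent.Lib.CoprimeGaschutz

set_option autoImplicit false
open Cfsg

namespace Cfsg.Agent.S3154

open Cfsg.Agent.PSL34Parabolic Cfsg.Agent.L34MultiplierBound
open scoped MatrixGroups

variable {X : Type*} [Group X] {F : Type*} [Field F]

/-- The squaring map on the preimage of the first row group is trivial. -/
theorem sq_one (h2 : (2 : F) = 0)
    (π : X →* Matrix.ProjectiveSpecialLinearGroup (Fin 3) F) (hs : Function.Surjective π)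
    (hc : π.ker ≤ Subgroup.center X) (he : ∀ z ∈ π.ker, z * z = 1) (hw : ∃ w : F, w ≠ 0 ∧ w ≠ 1) {h : X}
    (hh : π h ∈ qA (F := F)) : h * h = 1 := by
  have hcen : ∀ z ∈ π.ker, ∀ y : X, y * z = z * y := fun z hz => Subgroup.mem_center_iff.1 (hc hz)
  -- squares depend only on the image
  have hdep : ∀ a b : X, π a = π b → a * a = b * b := by
    intro a b hab
    have hz : b⁻¹ * a ∈ π.ker := by rw [MonoidHom.mem_ker, map_mul, map_inv, hab, inv_mul_cancel]
    have : a = b * (b⁻¹ * a) := by group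
    rw [this, mul_assoc b, ← mul_assoc (b⁻¹ * a) b, ← hcen _ hz b, mul_assoc b (b⁻¹ * a) (b⁻¹ * a),
      he _ hz, mul_one]
  have hker : ∀ a : X, π a ∈ qA (F := F) → a * a ∈ π.ker := fun a ha => by
    rw [MonoidHom.mem_ker, map_mul, qA_sq h2 ha]
  obtain ⟨x₀, hx₀⟩ := hs (proj (par 1 ![1, 0]))
  set c := x₀ * x₀ with hcdef
  have hcker : c ∈ π.ker := hker _ (by rw [hx₀]; exact mem_qA.2 ⟨_, rfl⟩)
  have hconst : ∀ a : X, π a ∈ qA (F := F) → π a ≠ 1 → a * a = c := by
    intro a ha ha1
    obtain ⟨M, hM⟩ := levi_transitive ha ha1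
    obtain ⟨m, hm⟩ := hs (levi M)
    have e : π a = π (m⁻¹ * x₀ * m) := by
      rw [map_mul, map_mul, map_inv, hx₀, hm, mul_assoc, hM, inv_mul_cancel_left]
    rw [hdep _ _ e, show m⁻¹ * x₀ * m * (m⁻¹ * x₀ * m) = m⁻¹ * (c * m) by rw [hcdef]; group,
      ← hcen _ hcker m, inv_mul_cancel_left]
  -- three elements with pairwise independent images
  have hpair : ∀ a b : X, π a ∈ qA (F := F) → π b ∈ qA (F := F) → π a ≠ 1 → π b ≠ 1 →
      π a ≠ π b → a * b = c * (b * a) := by
    intro a b ha hb ha1 hb1 hab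
    have hne : π (a * b) ≠ 1 := by
      rw [map_mul]
      intro h
      exact hab (mul_right_cancel (h.trans (qA_sq h2 hb).symm))
    have h1 := hconst (a * b) (by rw [map_mul]; exact mul_mem ha hb) hne
    have h2a := hconst a ha ha1
    have h2b := hconst b hb hb1
    have hc2 : c * c = 1 := he _ hcker
    have hinv : ∀ x : X, x * x = c → x⁻¹ = c * x := fun x hx => inv_eq_of_mul_eq_one_right (by
      rw [← mul_assoc, hcen _ hcker x, mul_assoc, hx, hc2])
    calc a * b = c * (a * b)⁻¹ := by rw [hinv _ h1, ← mul_assoc, hc2, one_mul]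
      _ = c * (b * a) := by
        rw [mul_inv_rev, hinv a h2a, hinv b h2b, mul_assoc c b, ← mul_assoc b c, hcen _ hcker b,
          mul_assoc c b a, ← mul_assoc c c (b * a), hc2, one_mul]
  obtain ⟨w, hw0, hw1⟩ : ∃ w : F, w ≠ 0 ∧ w ≠ 1 := hw
  obtain ⟨a, haπ⟩ := hs (proj (par 1 ![1, 0]))
  obtain ⟨b, hbπ⟩ := hs (proj (par 1 ![0, 1]))
  obtain ⟨d, hdπ⟩ := hs (proj (par 1 ![0, w]))
  have mem : ∀ x r, π x = proj (par 1 r) → π x ∈ qA (F := F) := fun x r e => by
    rw [e]; exact mem_qA.2 ⟨r, rfl⟩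
  have ne1 : ∀ x r, π x = proj (par 1 r) → r ≠ 0 → π x ≠ 1 := fun x r e hr h => by
    rw [e, ← map_one proj, ← par_one] at h
    exact hr (proj_par_inj h).2
  have ne2 : ∀ x x' r r', π x = proj (par 1 r) → π x' = proj (par 1 r') → r 0 ≠ r' 0 →
      π x ≠ π x' := fun x x' r r' e e' hr h => by
    rw [e, e'] at h
    exact hr (congrFun (proj_par_inj h).2 0)
  have hbdπ : π (b * d) = proj (par 1 ![0, 1 + w]) := by
    rw [map_mul, hbπ, hdπ, ← map_mul, par_mul, one_mul, Matrix.SpecialLinearGroup.coe_one,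
      Matrix.vecMul_one]
    congr 2
    ext i
    fin_cases i <;> simp [add_comm]
  have va : (![1, 0] : Fin 2 → F) ≠ 0 := fun h => one_ne_zero (congrFun h 0)
  have vb : (![0, 1] : Fin 2 → F) ≠ 0 := fun h => one_ne_zero (congrFun h 1)
  have vd : (![0, w] : Fin 2 → F) ≠ 0 := fun h => hw0 (congrFun h 1)
  have vbd : (![0, 1 + w] : Fin 2 → F) ≠ 0 := fun h => hw1 (by
    have e : 1 + w = 0 := congrFun h 1
    linear_combination e - h2)
  have hab := hpair a b (mem _ _ haπ) (mem _ _ hbπ) (ne1 _ _ haπ va) (ne1 _ _ hbπ vb)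
    (ne2 _ _ _ _ haπ hbπ one_ne_zero)
  have had := hpair a d (mem _ _ haπ) (mem _ _ hdπ) (ne1 _ _ haπ va) (ne1 _ _ hdπ vd)
    (ne2 _ _ _ _ haπ hdπ one_ne_zero)
  have habd := hpair a (b * d) (mem _ _ haπ) (mem _ _ hbdπ) (ne1 _ _ haπ va) (ne1 _ _ hbdπ vbd)
    (ne2 _ _ _ _ haπ hbdπ one_ne_zero)
  have hc1 : c = 1 := by
    have e : a * (b * d) = b * d * a := by
      rw [← mul_assoc, hab, mul_assoc c, mul_assoc b a d, had, ← mul_assoc b c,
        hcen _ hcker b, mul_assoc c b, ← mul_assoc c c, he _ hcker, one_mul, mul_assoc b d a]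
    rw [e] at habd
    exact mul_right_cancel (b := b * d * a) (by rw [one_mul]; exact habd.symm)
  by_cases h1 : π h = 1
  · exact he h h1
  · rw [hconst h hh h1, hc1]

/-- The preimage of the first row group is elementary abelian. -/
theorem elemAb (h2 : (2 : F) = 0) (hw : ∃ w : F, w ≠ 0 ∧ w ≠ 1)
    (π : X →* Matrix.ProjectiveSpecialLinearGroup (Fin 3) F) (hs : Function.Surjective π)
    (hc : π.ker ≤ Subgroup.center X) (he : ∀ z ∈ π.ker, z * z = 1) :
    IsElementaryAbelian 2 ((qA (F := F)).comap π) := by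
  have hsq : ∀ x ∈ (qA (F := F)).comap π, x * x = 1 := fun x hx => sq_one h2 π hs hc he hw hx
  refine ⟨⟨⟨fun x y => Subtype.ext ?_⟩⟩, fun x hx => by rw [pow_two]; exact hsq x hx⟩
  have hx := hsq _ x.2
  have hy := hsq _ y.2
  have hxy := hsq _ (mul_mem x.2 y.2)
  calc (x : X) * y = ((x : X) * y)⁻¹ := (inv_eq_of_mul_eq_one_right hxy).symm
    _ = (y : X) * x := by
      rw [mul_inv_rev, inv_eq_of_mul_eq_one_right hx, inv_eq_of_mul_eq_one_right hy]

/-- The normaliser of the preimage of the first row group splits. -/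
theorem split [Finite X] [Fintype F] (hF : Fintype.card F = 4) (h2 : (2 : F) = 0)
    (π : X →* Matrix.ProjectiveSpecialLinearGroup (Fin 3) F) (hs : Function.Surjective π)
    (hH : IsElementaryAbelian 2 ((qA (F := F)).comap π))
    (hK : IsElementaryAbelian 2 ((qB (F := F)).comap π)) :
    ∃ C : Subgroup X, C ≤ Subgroup.normalizer (((qA (F := F)).comap π : Subgroup X) : Set X) ∧
      C ⊓ (qA (F := F)).comap π = ⊥ ∧
      (qA (F := F)).comap π ⊔ C =
        Subgroup.normalizer (((qA (F := F)).comap π : Subgroup X) : Set X) ∧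
      Nonempty (↥C ≃* Matrix.ProjectiveSpecialLinearGroup (Fin 2) F) := by
  set H : Subgroup X := (qA (F := F)).comap π with hHdef
  set K : Subgroup X := (qB (F := F)).comap π with hKdef
  set T : Subgroup X := (sylow h2).comap π with hTdef
  set N : Subgroup X := Subgroup.normalizer (H : Set X) with hNdef
  have hmemN : ∀ x, x ∈ N ↔
      π x ∈ Subgroup.normalizer ((qA (F := F) : Subgroup _) : Set _) := fun x => by
    rw [hNdef, hHdef, ← Subgroup.comap_normalizer_eq_of_surjective (qA (F := F)) hs]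
    rfl
  have hHT : H ≤ T := Subgroup.comap_mono (qA_le_sylow h2)
  have hKT : K ≤ T := Subgroup.comap_mono (qB_le_sylow h2)
  have hTN : T ≤ N := by
    intro x hx
    rw [hmemN]
    obtain ⟨⟨a, b, c⟩, hx'⟩ := (show π x ∈ sylow h2 from hx)
    rw [← hx']
    let M : SL(2, F) := ⟨!![1, b; 0, 1], by simp [Matrix.det_fin_two_of]⟩
    have e : uni a b c = par M 0 * par 1 ![a, a * b + c] := by
      rw [par_mul, mul_one, Matrix.SpecialLinearGroup.coe_one, Matrix.vecMul_one, add_zero]
      refine Subtype.ext ?_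
      rw [uni_val, par_val]
      ext i j
      fin_cases i <;> fin_cases j <;> simp [M]
    show proj (uni a b c) ∈ _
    rw [e, map_mul]
    exact mul_mem (levi_mem_normalizer M) (Subgroup.le_normalizer (mem_qA.2 ⟨_, rfl⟩))
  have hHn : H ≤ N := hHT.trans hTN
  haveI : (H.subgroupOf N).Normal := Subgroup.normal_in_normalizer
  haveI : IsMulCommutative ↥H := hH.1
  haveI : IsMulCommutative ↥(H.subgroupOf N) :=
    ⟨⟨fun x y => Subtype.ext (Subtype.ext (show ((x : N) : X) * ((y : N) : X) = _ from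
      congrArg Subtype.val (mul_comm' (⟨_, x.2⟩ : H) ⟨_, y.2⟩)))⟩⟩
  -- a complement to `H ⊓ K` inside `K`
  obtain ⟨-, w, hw0, hw1, hw⟩ := field_four hF
  obtain ⟨u, hu⟩ := hs (proj (uni 0 1 0))
  obtain ⟨v, hv⟩ := hs (proj (uni 0 w 0))
  have huK : u ∈ K := by rw [hKdef, Subgroup.mem_comap, hu]; exact uni_mem_qB h2 1 0
  have hvK : v ∈ K := by rw [hKdef, Subgroup.mem_comap, hv]; exact uni_mem_qB h2 w 0
  have hKsq : ∀ x ∈ K, x * x = 1 := fun x hx => by rw [← pow_two]; exact hK.2 x hx
  have huv : u * v = v * u := congrArg Subtype.val (hK.1.is_comm.comm ⟨u, huK⟩ ⟨v, hvK⟩)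
  have e1 := hKsq u huK
  have e2 := hKsq v hvK
  have e3 : u * (u * v) = v := by rw [← mul_assoc, e1, one_mul]
  have e4 : v * (u * v) = u := by rw [huv, ← mul_assoc, e2, one_mul]
  have e5 : u * v * u = v := by rw [huv, mul_assoc, e1, mul_one]
  have e6 : u * v * v = u := by rw [mul_assoc, e2, mul_one]
  have e7 := hKsq _ (mul_mem huK hvK)
  let R : Subgroup X :=
    { carrier := {x | x = 1 ∨ x = u ∨ x = v ∨ x = u * v}
      one_mem' := Or.inl rfl
      mul_mem' := fun {x y} hx hy => by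
        rcases hx with h | h | h | h <;> rcases hy with h' | h' | h' | h' <;>
          simp only [Set.mem_setOf_eq, h, h', one_mul, mul_one, e1, e2, e3, e4, e5, e6, e7, ← huv,
            eq_self_iff_true, true_or, or_true]
      inv_mem' := fun {x} hx => by
        rcases hx with h | h | h | h <;>
          simp only [Set.mem_setOf_eq, h, inv_one, inv_eq_of_mul_eq_one_right e1,
            inv_eq_of_mul_eq_one_right e2, inv_eq_of_mul_eq_one_right e7, eq_self_iff_true,
            true_or, or_true] }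
  have hRK : R ≤ K := by
    rintro x (h | h | h | h) <;> rw [h]
    exacts [one_mem _, huK, hvK, mul_mem huK hvK]
  have hπR : ∀ r ∈ R, ∃ b : F, π r = proj (uni 0 b 0) ∧ (b = 0 → r = 1) := by
    rintro x (h | h | h | h) <;> rw [h]
    · exact ⟨0, by rw [map_one, uni_zero, map_one], fun _ => rfl⟩
    · exact ⟨1, hu, fun h => absurd h one_ne_zero⟩
    · exact ⟨w, hv, fun h => absurd h hw0⟩
    · refine ⟨1 + w, ?_, fun h => absurd (show w = 1 by linear_combination h - h2) hw1⟩
      rw [map_mul, hu, hv, ← map_mul, uni_mul h2]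
      simp
  have hRH : R ⊓ H = ⊥ := by
    rw [eq_bot_iff]
    rintro x ⟨hxR, hxH⟩
    obtain ⟨b, hb, hb'⟩ := hπR x hxR
    obtain ⟨r, hr⟩ := mem_qA.1 (show π x ∈ qA (F := F) from hxH)
    rw [hb, show r = ![r 0, r 1] from funext fun i => by fin_cases i <;> rfl, ← uni_eq_par] at hr
    have := proj_uni_injective h2 (a₁ := (_, _, _)) (a₂ := (_, _, _)) hr
    exact Subgroup.mem_bot.2 (hb' (congrArg (fun x : F × F × F => x.2.1) this).symm)
  have hHR : ∀ x ∈ T, ∃ r ∈ R, x * r ∈ H := by
    intro x hx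
    obtain ⟨⟨a, b, c⟩, hx'⟩ := (show π x ∈ sylow h2 from hx)
    obtain ⟨r, hr, hr'⟩ : ∃ r ∈ R, π r = proj (uni 0 b 0) := by
      rcases hw b with rfl | rfl | rfl | rfl
      · exact ⟨1, one_mem _, by rw [map_one, uni_zero, map_one]⟩
      · exact ⟨u, Or.inr (Or.inl rfl), hu⟩
      · exact ⟨v, Or.inr (Or.inr (Or.inl rfl)), hv⟩
      · refine ⟨u * v, Or.inr (Or.inr (Or.inr rfl)), ?_⟩
        rw [map_mul, hu, hv, ← map_mul, uni_mul h2]
        simp
    refine ⟨r, hr, ?_⟩
    show π (x * r) ∈ qA (F := F)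
    rw [map_mul, ← hx', hr', ← map_mul, uni_mul h2, add_self h2 b]
    exact uni_mem_qA _ _
  have hRT : R ≤ T := hRK.trans hKT
  have hcop : (Nat.card ↥(H.subgroupOf N)).Coprime (T.subgroupOf N).index := by
    rw [Nat.card_congr (Subgroup.subgroupOfEquivOfLe hHn).toEquiv]
    have hP : IsPGroup 2 ↥H := fun x => ⟨1, Subtype.ext (by
      rw [pow_one, SubmonoidClass.coe_pow]; exact hH.2 _ x.2)⟩
    obtain ⟨k, hk⟩ := IsPGroup.iff_card.1 hP
    have hi : T.index = 315 := by
      rw [hTdef, Subgroup.index_comap_of_surjective _ hs, index_sylow h2 hF]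
    have hd : (T.subgroupOf N).index ∣ 315 := hi ▸ Subgroup.relIndex_dvd_index_of_le hTN
    rw [hk]
    exact Nat.Coprime.pow_left k (Nat.Coprime.coprime_dvd_right hd (by norm_num))
  obtain ⟨C₀, hC₀⟩ := CoprimeGaschutz.exists_complement (K := H.subgroupOf N) (U := T.subgroupOf N)
    (Subgroup.comap_mono hHT) hcop (R.subgroupOf N) (Subgroup.comap_mono hRT)
    (by
      rw [eq_bot_iff]
      rintro ⟨x, hx⟩ ⟨h1, h2'⟩
      have hm : x ∈ R ⊓ H := ⟨h1, h2'⟩
      rw [hRH, Subgroup.mem_bot] at hm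
      exact Subgroup.mem_bot.2 (Subtype.ext hm))
    (by
      refine le_antisymm (sup_le (Subgroup.comap_mono hHT) (Subgroup.comap_mono hRT)) ?_
      rintro ⟨x, hx⟩ hxT
      obtain ⟨r, hr, hxr⟩ := hHR x hxT
      have hrN : r ∈ N := hTN (hRT hr)
      rw [show (⟨x, hx⟩ : N) = ⟨x * r, hHn hxr⟩ * ⟨r, hrN⟩⁻¹ from Subtype.ext (by simp)]
      exact mul_mem (Subgroup.mem_sup_left hxr) (Subgroup.mem_sup_right (inv_mem (show (⟨r, hrN⟩ : N) ∈ R.subgroupOf N from hr))))
  set C : Subgroup X := C₀.map N.subtype with hCdef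
  have hCN : C ≤ N := Subgroup.map_subtype_le _
  have hCH : C ⊓ H = ⊥ := by
    rw [eq_bot_iff]
    rintro _ ⟨⟨c, hc, rfl⟩, hcH⟩
    have h : c ∈ H.subgroupOf N ⊓ C₀ := ⟨hcH, hc⟩
    rw [hC₀.disjoint.eq_bot, Subgroup.mem_bot] at h
    rw [h]
    rfl
  have hdec : ∀ x ∈ N, ∃ y ∈ H, ∃ c ∈ C, x = y * c := by
    intro x hx
    obtain ⟨⟨y, c⟩, hyc⟩ := hC₀.2 ⟨x, hx⟩
    exact ⟨y.1.1, y.2, c.1.1, ⟨_, c.2, rfl⟩, (congrArg Subtype.val hyc).symm⟩
  refine ⟨C, hCN, hCH, le_antisymm (sup_le hHn hCN) (fun x hx => ?_), ?_⟩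
  · obtain ⟨y, hy, c, hc, rfl⟩ := hdec x hx
    exact mul_mem (Subgroup.mem_sup_left hy) (Subgroup.mem_sup_right hc)
  -- the complement is the Levi group
  have hexM : ∀ c : C, ∃ M : SL(2, F), (levi M)⁻¹ * π c ∈ qA (F := F) := fun c =>
    normalizer_qA hF ((hmemN _).1 (hCN c.2))
  choose φ hφ using hexM
  have huniq : ∀ (x : X) (M M' : SL(2, F)), (levi M)⁻¹ * π x ∈ qA (F := F) →
      (levi M')⁻¹ * π x ∈ qA (F := F) → M = M' := by
    intro x M M' h h'
    have e := mul_mem h (inv_mem h')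
    rw [show (levi M)⁻¹ * π x * ((levi M')⁻¹ * π x)⁻¹ = (levi M)⁻¹ * levi M' by group,
      ← map_inv, ← map_mul] at e
    exact inv_mul_eq_one.1 (levi_injective e)
  let f : C →* SL(2, F) := MonoidHom.mk' φ (by
    intro c c'
    refine huniq ((c * c' : C) : X) _ _ (hφ _) ?_
    have h1 := (Subgroup.mem_normalizer_iff.1 (inv_mem (levi_mem_normalizer (φ c'))) _).1 (hφ c)
    have h2' := mul_mem h1 (hφ c')
    convert h2' using 1
    rw [Subgroup.coe_mul, map_mul π, map_mul levi]
    group)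
  have hinj : Function.Injective f := by
    rw [injective_iff_map_eq_one]
    intro c hc
    have h := hφ c
    rw [show φ c = 1 from hc, map_one, inv_one, one_mul] at h
    have hm : (c : X) ∈ C ⊓ H := ⟨c.2, h⟩
    rw [hCH, Subgroup.mem_bot] at hm
    exact Subtype.ext hm
  have hsurj : Function.Surjective f := by
    intro M
    obtain ⟨x, hx⟩ := hs (levi M)
    obtain ⟨y, hy, c, hc, rfl⟩ := hdec x ((hmemN x).2 (hx ▸ levi_mem_normalizer M))
    refine ⟨⟨c, hc⟩, huniq c _ _ (hφ _) ?_⟩
    show (levi M)⁻¹ * π c ∈ qA (F := F)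
    have hy' : (π y)⁻¹ ∈ qA (F := F) := inv_mem hy
    have := (Subgroup.mem_normalizer_iff.1 (inv_mem (levi_mem_normalizer M)) _).1 hy'
    convert this using 1
    rw [← hx, map_mul]
    group
  exact ⟨(MulEquiv.ofBijective f ⟨hinj, hsurj⟩).trans
    (QuotientGroup.quotientBot.symm.trans
      (QuotientGroup.quotientMulEquivOfEq (center_two h2).symm))⟩


/-- Let X be a finite quasisimple group whose centre is an elementary abelian 2-group and whose central quotient is isomorphic to the projective special linear group of dimension 3 over the field with 4 elements. Let T be a Sylow 2-subgroup of X and H ≠ K subgroups of T containing the centre Z(X) whose images in X/Z(X) are elementary abelian of order 16 (the two such subgroups of a Sylow 2-subgroup of the quotient). Then H and K are elementary abelian, H ∩ K is the centre of the subgroup they generate, and each of N_X(H), N_X(K) is a split extension of H, respectively K, by the projective special linear group of dimension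 2 over the field with 4 elements (there is a complement isomorphic to that group). -/
theorem result {X : Type*} [Group X] [Finite X] (hq : Cfsg.IsQuasisimple X) (hZ : Cfsg.IsElementaryAbelian 2 (Subgroup.center X))
    {F : Type*} [Field F] [Fintype F] (hF : Fintype.card F = 4) (hXL : Nonempty ((X ⧸ Subgroup.center X) ≃* Matrix.ProjectiveSpecialLinearGroup (Fin 3) F))
    (T : Sylow 2 X) (H K : Subgroup X) (hHK : H ≠ K) (hHT : H ≤ T) (hKT : K ≤ T) (hZH : Subgroup.center X ≤ H) (hZK : Subgroup.center X ≤ K)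
    (hH : Cfsg.IsElementaryAbelian 2 (H.map (QuotientGroup.mk' (Subgroup.center X))) ∧ Nat.card ↥(H.map (QuotientGroup.mk' (Subgroup.center X))) = 16)
    (hK : Cfsg.IsElementaryAbelian 2 (K.map (QuotientGroup.mk' (Subgroup.center X))) ∧ Nat.card ↥(K.map (QuotientGroup.mk' (Subgroup.center X))) = 16) :
    Cfsg.IsElementaryAbelian 2 H ∧ Cfsg.IsElementaryAbelian 2 K ∧
      H ⊓ K = (Subgroup.center ↥(H ⊔ K)).map (H ⊔ K).subtype ∧
      (∃ C : Subgroup X, C ≤ Subgroup.normalizer (H : Set X) ∧ C ⊓ H = ⊥ ∧ H ⊔ C = Subgroup.normalizer (H : Set X) ∧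
        Nonempty (↥C ≃* Matrix.ProjectiveSpecialLinearGroup (Fin 2) F)) ∧
      (∃ C : Subgroup X, C ≤ Subgroup.normalizer (K : Set X) ∧ C ⊓ K = ⊥ ∧ K ⊔ C = Subgroup.normalizer (K : Set X) ∧
        Nonempty (↥C ≃* Matrix.ProjectiveSpecialLinearGroup (Fin 2) F)) := by
  have := hq
  obtain ⟨h2, w, hw0, hw1, -⟩ := field_four hF
  have hwx : ∃ w : F, w ≠ 0 ∧ w ≠ 1 := ⟨w, hw0, hw1⟩
  obtain ⟨e⟩ := hXL
  let π₀ : X →* Matrix.ProjectiveSpecialLinearGroup (Fin 3) F :=
    e.toMonoidHom.comp (QuotientGroup.mk' (Subgroup.center X))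
  have hs₀ : Function.Surjective π₀ := e.surjective.comp (QuotientGroup.mk'_surjective _)
  -- move the image of `T` to the standard Sylow subgroup
  have hc64 : Nat.card (sylow (F := F) h2) = 2 ^ 6 := by
    have h := (sylow (F := F) h2).card_mul_index
    rw [index_sylow h2 hF, card_psl hF] at h
    omega
  let U : Sylow 2 (Matrix.ProjectiveSpecialLinearGroup (Fin 3) F) :=
    (IsPGroup.of_card hc64).toSylow (by rw [index_sylow h2 hF]; norm_num)
  haveI : Finite (Matrix.ProjectiveSpecialLinearGroup (Fin 3) F) := inferInstance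
  obtain ⟨g, hg⟩ := MulAction.exists_smul_eq (Matrix.ProjectiveSpecialLinearGroup (Fin 3) F)
    (T.mapSurjective hs₀) U
  let π : X →* Matrix.ProjectiveSpecialLinearGroup (Fin 3) F :=
    (MulAut.conj g).toMonoidHom.comp π₀
  have hs : Function.Surjective π := (MulAut.conj g).surjective.comp hs₀
  have hker : π.ker = Subgroup.center X := by
    ext x
    rw [MonoidHom.mem_ker, show π x = MulAut.conj g (e (QuotientGroup.mk x)) from rfl,
      map_eq_one_iff _ (MulAut.conj g).injective, map_eq_one_iff _ e.injective,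
      QuotientGroup.eq_one_iff]
  have hTU : (T : Subgroup X).map π = sylow h2 := by
    rw [← Subgroup.map_map]
    exact congrArg (fun P : Sylow 2 _ => (P : Subgroup (Matrix.ProjectiveSpecialLinearGroup (Fin 3) F))) hg
  have hcker : π.ker ≤ Subgroup.center X := hker.le
  have heker : ∀ z ∈ π.ker, z * z = 1 := fun z hz => by
    rw [hker] at hz; rw [← pow_two]; exact hZ.2 z hz
  -- the two subgroups are the preimages of `qA` and `qB`
  have key : ∀ E : Subgroup X, E ≤ T → Subgroup.center X ≤ E →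
      (IsElementaryAbelian 2 (E.map (QuotientGroup.mk' (Subgroup.center X))) ∧
        Nat.card ↥(E.map (QuotientGroup.mk' (Subgroup.center X))) = 16) →
      E = (qA (F := F)).comap π ∨ E = (qB (F := F)).comap π := by
    intro E hET hZE hE
    have heq : E = (E.map π).comap π := by
      rw [Subgroup.comap_map_eq, hker, sup_eq_left.2 hZE]
    have hmap : E.map π = (E.map (QuotientGroup.mk' (Subgroup.center X))).map
        ((MulAut.conj g).toMonoidHom.comp e.toMonoidHom) := by
      rw [Subgroup.map_map]; rfl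
    have := eq_qA_or_qB hF h2 (E := E.map π) (hTU ▸ Subgroup.map_mono hET)
      (by
        rw [hmap, Subgroup.card_map_of_injective
          (fun a b h => e.injective ((MulAut.conj g).injective h)), hE.2])
      (by
        rw [hmap]
        rintro _ ⟨y, hy, rfl⟩
        rw [← map_mul, ← pow_two, hE.1.2 y hy, map_one])
      (by
        rw [hmap]
        rintro _ ⟨y, hy, rfl⟩ _ ⟨y', hy', rfl⟩
        exact Commute.map (show Commute y y' from
          congrArg Subtype.val (hE.1.1.is_comm.comm ⟨y, hy⟩ ⟨y', hy'⟩)) _)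
    rcases this with h | h <;> rw [h] at heq
    exacts [Or.inl heq, Or.inr heq]
  -- everything about `qA`, then transported to `qB` by the graph automorphism
  let π' : X →* Matrix.ProjectiveSpecialLinearGroup (Fin 3) F :=
    (graph (F := F)).toMonoidHom.comp π
  have hs' : Function.Surjective π' := (graph (F := F)).surjective.comp hs
  have hker' : π'.ker = π.ker := by
    ext x
    exact map_eq_one_iff _ (graph (F := F)).injective
  have hA' : (qA (F := F)).comap π' = (qB (F := F)).comap π := by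
    ext x
    show graph (π x) ∈ qA (F := F) ↔ π x ∈ qB (F := F)
    constructor
    · intro h
      exact ⟨_, h, graph_invol _⟩
    · rintro ⟨y, hy, e'⟩
      rw [← e']
      show graph (graph y) ∈ qA (F := F)
      rwa [graph_invol]
  have hB' : (qB (F := F)).comap π' = (qA (F := F)).comap π := by
    ext x
    show graph (π x) ∈ qB (F := F) ↔ π x ∈ qA (F := F)
    constructor
    · rintro ⟨y, hy, e'⟩
      rwa [← (graph (F := F)).injective e']
    · intro h
      exact ⟨_, h, rfl⟩
  have hEA : IsElementaryAbelian 2 ((qA (F := F)).comap π) := elemAb h2 hwx π hs hcker heker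
  have hEB : IsElementaryAbelian 2 ((qB (F := F)).comap π) := by
    have := elemAb h2 hwx π' hs' (hker' ▸ hcker) (hker' ▸ heker)
    rwa [hA'] at this
  have hSA := split hF h2 π hs hEA hEB
  have hSB := split hF h2 π' hs' (hA'.symm ▸ hEB) (hB'.symm ▸ hEA)
  rw [hA'] at hSB
  have main : ∀ E E' : Subgroup X, E = (qA (F := F)).comap π → E' = (qB (F := F)).comap π →
      E ⊓ E' = (Subgroup.center ↥(E ⊔ E')).map (E ⊔ E').subtype := by
    rintro E E' rfl rfl
    apply le_antisymm
    · intro x hx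
      refine ⟨⟨x, Subgroup.mem_sup_left hx.1⟩, ?_, rfl⟩
      rw [SetLike.mem_coe, Subgroup.mem_center_iff]
      intro y
      have : (qA (F := F)).comap π ⊔ (qB (F := F)).comap π ≤ Subgroup.centralizer {x} :=
        sup_le
          (fun z hz => Subgroup.mem_centralizer_singleton_iff.2
            (congrArg Subtype.val (hEA.1.is_comm.comm ⟨z, hz⟩ ⟨x, hx.1⟩)))
          (fun z hz => Subgroup.mem_centralizer_singleton_iff.2
            (congrArg Subtype.val (hEB.1.is_comm.comm ⟨z, hz⟩ ⟨x, hx.2⟩)))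
      exact Subtype.ext (Subgroup.mem_centralizer_singleton_iff.1 (this y.2))
    · rintro _ ⟨⟨x, hxm⟩, hx, rfl⟩
      have hcm : ∀ z ∈ (qA (F := F)).comap π ⊔ (qB (F := F)).comap π, Commute (π x) (π z) :=
        fun z hz => Commute.map (show Commute x z from
          (congrArg Subtype.val ((Subgroup.mem_center_iff.1 hx) ⟨z, hz⟩)).symm) π
      have hU : π x ∈ sylow h2 :=
        (sup_le (Subgroup.comap_mono (qA_le_sylow h2)) (Subgroup.comap_mono (qB_le_sylow h2)) :
          _ ≤ (sylow h2).comap π) hxm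
      refine central_mem h2 hU (fun y hy => ?_) (fun y hy => ?_)
      · obtain ⟨z, rfl⟩ := hs y
        exact hcm z (Subgroup.mem_sup_left hy)
      · obtain ⟨z, rfl⟩ := hs y
        exact hcm z (Subgroup.mem_sup_right hy)
  rcases key H hHT hZH hH with rfl | rfl <;> rcases key K hKT hZK hK with rfl | rfl
  · exact absurd rfl hHK
  · exact ⟨hEA, hEB, main _ _ rfl rfl, hSA, hSB⟩
  · refine ⟨hEB, hEA, ?_, hSB, hSA⟩
    rw [inf_comm, sup_comm]
    exact main _ _ rfl rfl
  · exact absurd rfl hHK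

end Cfsg.Agent.S3154
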