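import Cfsg.Statements.S3155
import Mathlib
-- import your own Cfsg.Agent.* helpers here

set_option autoImplicit false
open Cfsg
open scoped Pointwise

namespace Cfsg.Agent.S3155

theorem aut_sq {τ : (Fin 3 → ZMod 4) →+ (Fin 3 → ZMod 4)} : ¬ ∀ v, τ (τ v) = -v := by
  intro h
  let L := τ.toZModLinearMap 4
  have hM : L ∘ₗ L = -LinearMap.id := LinearMap.ext h
  have h2 := congrArg LinearMap.det hM
  rw [LinearMap.det_comp] at h2
  have h3 : LinearMap.det (-LinearMap.id : (Fin 3 → ZMod 4) →ₗ[ZMod 4] _) = -1 := by
    rw [← neg_one_smul (ZMod 4) LinearMap.id, LinearMap.det_smul, LinearMap.det_id]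
    haveI : Fact (1 < 4) := ⟨by norm_num⟩
    rw [mul_one, Module.finrank_fin_fun]
    decide
  rw [h3] at h2
  revert h2
  generalize LinearMap.det L = d
  revert d
  decide

/-- Let B be the direct product of three cyclic groups of order 4. Then the automorphism of B inverting every element is not the square of any automorphism of B. -/
theorem result {B : Type*} [CommGroup B] [Finite B] (hB : Nonempty (B ≃* Multiplicative (ZMod 4 × ZMod 4 × ZMod 4)))
    (τ : B ≃* B) : τ.trans τ ≠ MulEquiv.inv B := by
  obtain ⟨e⟩ := hB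
  let f : Multiplicative (ZMod 4 × ZMod 4 × ZMod 4) ≃* Multiplicative (Fin 3 → ZMod 4) := AddEquiv.toMultiplicative
    { toFun := fun v => ![v.1, v.2.1, v.2.2]
      invFun := fun w => (w 0, w 1, w 2)
      left_inv := fun v => by simp
      right_inv := fun w => by ext i; fin_cases i <;> rfl
      map_add' := fun v w => by ext i; fin_cases i <;> rfl }
  intro h
  let d := e.trans f
  let σ := ((d.symm.trans τ).trans d)
  refine aut_sq (τ := MonoidHom.toAdditive σ.toMonoidHom) fun v => ?_
  have : ∀ b : B, τ (τ b) = b⁻¹ := fun b => DFunLike.congr_fun h b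
  show Multiplicative.toAdd (σ (σ (Multiplicative.ofAdd v))) = -v
  simp [σ, this]

end Cfsg.Agent.S3155
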