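import Cfsg.Statements.S3156
import Cfsg.Agent.Lib.SU3TwoHeisEmbed
import Cfsg.Agent.Lib.SU3TwoHeisAut
-- import your own Cfsg.Agent.* helpers here

set_option autoImplicit false
set_option linter.style.haveILetI false
open Cfsg

namespace Cfsg.Agent.S3156

open Cfsg.Agent.SU3TwoHeis Cfsg.Agent.SU3TwoHeisAut

/-- If a finite group T is isomorphic to a Sylow 2-subgroup of the projective special unitary group of dimension 3 with parameter 4 (realised over the field with 16 elements), then no subgroup of the automorphism group of T is isomorphic to the symmetric group of degree 3. -/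
theorem result {T : Type*} [Group T] [Finite T] (hT : (∃ (F : Type) (_ : Field F) (_ : Fintype F), Fintype.card F = 16 ∧ ∃ S : Sylow 2 (Cfsg.PSU 3 F 4), Nonempty (T ≃* ↥(S : Subgroup (Cfsg.PSU 3 F 4))))) (H : Subgroup (MulAut T)) : ¬ Nonempty (↥H ≃* Equiv.Perm (Fin 3)) := by
  classical
  rintro ⟨ι⟩
  obtain ⟨F, _, _, hF, S, ⟨e₀⟩⟩ := hT
  obtain ⟨_, σ, _, hσ, hne, -, -, -, hP⟩ := SU3TwoHeisEmbed.exists_model (F := F) (n := 2)
    (by norm_num) (by rw [hF]; norm_num)
  obtain ⟨e₁⟩ := hP S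
  let ψ : Equiv.Perm (Fin 3) →* MulAut (HU σ) :=
    (MulAut.congr (e₀.trans e₁)).toMonoidHom.comp (H.subtype.comp ι.symm.toMonoidHom)
  have hψ : Function.Injective ψ := by
    intro a b h
    exact ι.symm.injective (Subtype.ext ((MulAut.congr (e₀.trans e₁)).injective h))
  set a : Equiv.Perm (Fin 3) := Equiv.swap 0 1
  set c : Equiv.Perm (Fin 3) := Equiv.swap 0 1 * Equiv.swap 1 2
  have hc3 : ψ c * ψ c * ψ c = 1 := by
    rw [← map_mul, ← map_mul, show c * c * c = 1 by decide, map_one]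
  have hc1 : ψ c ≠ 1 := fun h => absurd (hψ (h.trans (map_one ψ).symm)) (by decide)
  have ha2 : ψ a * ψ a = 1 := by rw [← map_mul, show a * a = 1 by decide, map_one]
  have hrel : ψ c * ψ a * ψ c * ψ a = 1 := by
    rw [← map_mul, ← map_mul, ← map_mul, show c * a * c * a = 1 by decide, map_one]
  obtain ⟨μ, τ, h, hx⟩ := exists_mkAut hne hσ (ψ c)
  obtain ⟨ν, τ', h', hy⟩ := exists_mkAut hne hσ (ψ a)
  have hA : ∀ z, fA (ψ c z) = μ * τ (fA z) := fun z => by rw [hx, fA_mkAut]
  have hB : ∀ z, fA (ψ a z) = ν * τ' (fA z) := fun z => by rw [hy, fA_mkAut]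
  have eval : ∀ (w : MulAut (HU σ)), w = 1 → ∀ z, fA (w z) = fA z := fun w hw z => by rw [hw]; rfl
  have h3 : ∀ t : F, (μ : F) * τ (μ * τ (μ * τ t)) = t := fun t => by
    have := eval _ hc3 (lift hne t)
    rwa [MulAut.mul_apply, MulAut.mul_apply, hA, hA, hA, fA_lift] at this
  have h2 : ∀ t : F, (ν : F) * τ' (ν * τ' t) = t := fun t => by
    have := eval _ ha2 (lift hne t)
    rwa [MulAut.mul_apply, hB, hB, fA_lift] at this
  have h4 : ∀ t : F, (μ : F) * τ (ν * τ' (μ * τ (ν * τ' t))) = t := fun t => by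
    have := eval _ hrel (lift hne t)
    rwa [MulAut.mul_apply, MulAut.mul_apply, MulAut.mul_apply, hA, hB, hA, hB, fA_lift] at this
  have h31 : (μ : F) * τ (μ * τ μ) = 1 := by simpa using h3 1
  have ht3 : ∀ t, τ (τ (τ t)) = t := fun t => by
    have h := h3 t
    simp only [map_mul] at h h31
    linear_combination h - τ (τ (τ t)) * h31
  haveI : Finite (F ≃+* F) := Finite.of_injective _ DFunLike.coe_injective
  have hτ : τ = 1 := by
    have e3 : τ ^ 3 = 1 := RingEquiv.ext fun t => ht3 t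
    have e4 : τ ^ 4 = 1 := by
      have := pow_card_eq_one' (x := τ)
      rwa [card_ringAut (n := 2) (by rw [hF]; norm_num)] at this
    simpa using pow_gcd_eq_one.2 ⟨e3, e4⟩
  have hμ3 : (μ : F) * (μ * μ) = 1 := by rw [hτ] at h31; simpa using h31
  have hμ1 : (μ : F) ≠ 1 := fun hμ => hc1 (by
    obtain ⟨N, -, ⟨-, hN2⟩, -, hNmem⟩ := pCore_data hne hσ
    have hm := hN2 _ ((hNmem _).2 fun z => by rw [hA, hμ, hτ, one_mul]; rfl)
    rw [sq] at hm
    rwa [hm, one_mul] at hc3)
  have hτ'2 : ∀ t, τ' (τ' t) = t := fun t => by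
    have h := h2 t
    have h21 : (ν : F) * τ' ν = 1 := by simpa using h2 1
    rw [map_mul] at h
    linear_combination h - τ' (τ' t) * h21
  have hm : (μ : F) * τ' μ = 1 := by
    have h := h4 1
    rw [hτ] at h
    simp only [map_one, mul_one, map_mul, show ∀ t : F, (1 : F ≃+* F) t = t from fun _ => rfl] at h
    have h21 : (ν : F) * τ' ν = 1 := by simpa using h2 1
    linear_combination h - (μ : F) * τ' μ * h21
  apply hμ1
  rcases ringAut_involutive hne τ' hτ'2 with ht | ht
  · rw [ht] at hm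
    rwa [hm, mul_one] at hμ3
  · rw [ht, hσ] at hm
    norm_num at hm
    linear_combination -(μ : F) * hm + ((μ : F) * (μ * μ) + 1) * hμ3

end Cfsg.Agent.S3156
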