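import Cfsg.Statements.S3157
import Mathlib
import Cfsg.Agent.Lib.UTFour62
import Cfsg.Agent.Lib.SmallGroupBasic
import Cfsg.Agent.Lib.PGroupsCyclic


set_option autoImplicit false
open Cfsg

namespace Cfsg.Agent.S3157

open Cfsg.Agent.UTFour62

section Fpf

variable {H : Type*} [Group H] [Finite H] (σ : H →* H)
  (h3 : ∀ y, σ (σ (σ y)) = y) (hfp : ∀ y, σ y = y → y = 1)

include h3 hfp

lemma fpf_mul (g : H) : g * σ g * σ (σ g) = 1 := by
  have hinj : Function.Injective (fun y => y⁻¹ * σ y) := fun a b hab => by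
    have : σ (b * a⁻¹) = b * a⁻¹ := by
      rw [map_mul, map_inv]
      calc σ b * (σ a)⁻¹ = b * (b⁻¹ * σ b) * (a⁻¹ * σ a)⁻¹ * a⁻¹ := by group
        _ = b * a⁻¹ := by simp only [hab]; group
    exact (mul_inv_eq_one.1 (hfp _ this)).symm
  obtain ⟨y, rfl⟩ := Finite.surjective_of_injective hinj g
  simp only [map_mul, map_inv, h3]
  group

lemma fpf_comm (g : H) : Commute g (σ g) := by
  have h1 : σ (σ g) = (g * σ g)⁻¹ := eq_inv_of_mul_eq_one_right (fpf_mul σ h3 hfp g)
  have h2 := fpf_mul σ h3 hfp g⁻¹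
  rw [map_inv, map_inv, h1, inv_inv] at h2
  show g * σ g = σ g * g
  calc g * σ g = (g⁻¹ * (σ g)⁻¹)⁻¹ * (g⁻¹ * (σ g)⁻¹ * (g * σ g)) := by group
    _ = σ g * g := by rw [h2]; group

lemma fpf_sq (g : H) : σ (σ g) = (g * σ g)⁻¹ := eq_inv_of_mul_eq_one_right (fpf_mul σ h3 hfp g)

lemma fpf_card : Nat.card H % 3 = 1 := by
  classical
  have := Fintype.ofFinite H
  haveI : Fact (Nat.Prime 3) := ⟨Nat.prime_three⟩
  let f : Function.End H := fun y => σ y
  have hf : f ^ 3 ^ 1 = 1 := funext fun y => h3 y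
  have h := Equiv.Perm.card_fixedPoints_modEq hf
  have hc : Fintype.card f.fixedPoints = 1 :=
    Fintype.card_eq_one_iff.2 ⟨⟨1, map_one σ⟩, fun y => Subtype.ext (hfp y.1 y.2)⟩
  rw [hc] at h
  rw [Nat.card_eq_fintype_card]
  exact h

omit hfp in
lemma map_center {z : H} (hz : z ∈ Subgroup.center H) : σ z ∈ Subgroup.center H := by
  rw [Subgroup.mem_center_iff] at hz ⊢
  intro g
  conv_lhs => rw [← h3 g]
  conv_rhs => rw [← h3 g]
  rw [← map_mul, ← map_mul, hz]

lemma mem_center_of_fixed_mod {y : H} (hy : y⁻¹ * σ y ∈ Subgroup.center H) :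
    y ∈ Subgroup.center H := by
  have hinj : Function.Injective (fun u : Subgroup.center H =>
      (⟨(u : H)⁻¹ * σ u, mul_mem (inv_mem u.2) (map_center σ h3 u.2)⟩ : Subgroup.center H)) := by
    intro a b hab
    have h := congrArg Subtype.val hab
    have : σ ((b : H) * (a : H)⁻¹) = b * (a : H)⁻¹ := by
      rw [map_mul, map_inv]
      calc σ b * (σ a)⁻¹ = (b : H) * ((b : H)⁻¹ * σ b) * ((a : H)⁻¹ * σ a)⁻¹ * (a : H)⁻¹ := by group
        _ = _ := by simp only at h; rw [h]; group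
    exact Subtype.ext (mul_inv_eq_one.1 (hfp _ this)).symm
  obtain ⟨u, hu⟩ := Finite.surjective_of_injective hinj ⟨_, hy⟩
  have hu' : (u : H)⁻¹ * σ u = y⁻¹ * σ y := congrArg Subtype.val hu
  have hfix : σ (y * (u : H)⁻¹) = y * (u : H)⁻¹ := by
    have hs : (y⁻¹ * σ y) * (σ u)⁻¹ = (u : H)⁻¹ := by rw [← hu']; group
    rw [map_mul, map_inv]
    calc σ y * (σ u)⁻¹ = y * ((y⁻¹ * σ y) * (σ u)⁻¹) := by group
      _ = _ := by rw [hs]
  rw [mul_inv_eq_one.1 (hfp _ hfix)]
  exact u.2

lemma no_index_four (h : (Subgroup.center H).index = 4) : False := by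
  classical
  obtain ⟨a, ha⟩ : ∃ a : H, a ∉ Subgroup.center H := by
    by_contra hh
    push Not at hh
    rw [show Subgroup.center H = ⊤ from eq_top_iff.2 fun x _ => hh x, Subgroup.index_top] at h
    omega
  have hcomm : ∀ y, Commute a y → ∀ z ∈ Subgroup.center H, Commute a (y * z) := fun y hy z hz =>
    hy.mul_right (Subgroup.mem_center_iff.1 hz a)
  let f : Fin 4 → H ⧸ Subgroup.center H := ![1, a, σ a, σ (σ a)]
  have hne : ∀ y : H, y ∉ Subgroup.center H → (y : H ⧸ Subgroup.center H) ≠ (σ y : H) := fun y hy e =>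
    hy (mem_center_of_fixed_mod σ h3 hfp (QuotientGroup.eq.1 e))
  have hσ : ∀ y : H, y ∉ Subgroup.center H → σ y ∉ Subgroup.center H := fun y hy hh =>
    hy (h3 y ▸ map_center σ h3 (map_center σ h3 hh))
  have n1 : ∀ y : H, y ∉ Subgroup.center H → (1 : H ⧸ Subgroup.center H) ≠ (y : H) := fun y hy e =>
    hy ((QuotientGroup.eq_one_iff y).1 e.symm)
  have n3 : (a : H ⧸ Subgroup.center H) ≠ (σ (σ a) : H) := fun e => by
    have h1 := QuotientGroup.eq.1 e
    have h2 := map_center σ h3 h1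
    rw [map_mul, map_inv, h3] at h2
    have h3' := inv_mem h2
    rw [mul_inv_rev, inv_inv] at h3'
    exact hne a ha (QuotientGroup.eq.2 h3')
  have hf : Function.Injective f := by
    intro i j hij
    fin_cases i <;> fin_cases j <;> first | rfl | exfalso
    all_goals simp [f] at hij
    all_goals first
      | exact n1 _ ha hij | exact n1 _ ha hij.symm
      | exact n1 _ (hσ _ ha) hij | exact n1 _ (hσ _ ha) hij.symm
      | exact n1 _ (hσ _ (hσ _ ha)) hij | exact n1 _ (hσ _ (hσ _ ha)) hij.symm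
      | exact hne a ha hij | exact hne a ha hij.symm
      | exact hne _ (hσ _ ha) hij | exact hne _ (hσ _ ha) hij.symm
      | exact n3 hij | exact n3 hij.symm
      | exact ha hij | exact hσ _ ha hij | exact hσ _ (hσ _ ha) hij
      | exact hne a ha (QuotientGroup.eq.2 hij) | exact n3 (QuotientGroup.eq.2 hij)
  have := Fintype.ofFinite (H ⧸ Subgroup.center H)
  have hsurj : Function.Surjective f := ((Fintype.bijective_iff_injective_and_card f).2 ⟨hf, by
    rw [Fintype.card_fin, ← Nat.card_eq_fintype_card]; exact h.symm⟩).2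
  refine ha (Subgroup.mem_center_iff.2 fun y => ?_)
  obtain ⟨i, hi⟩ := hsurj y
  have hyy : ∀ w : H, (w : H ⧸ Subgroup.center H) = y → Commute a w → y * a = a * y := fun w e hw => by
    have := hcomm w hw _ (QuotientGroup.eq.1 e)
    rw [mul_inv_cancel_left] at this
    exact this.symm
  fin_cases i
  · exact hyy 1 hi (Commute.one_right a)
  · exact hyy a hi (Commute.refl a)
  · exact hyy _ hi (fpf_comm σ h3 hfp a)
  · refine hyy _ hi ?_
    rw [fpf_sq σ h3 hfp a]
    exact ((Commute.refl a).mul_right (fpf_comm σ h3 hfp a)).inv_right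

end Fpf

/-- The structure of `T`. -/
structure Str {T : Type*} [Group T] (σ : T →* T) : Prop where
  h3 : ∀ y, σ (σ (σ y)) = y
  hfp : ∀ y, σ y = y → y = 1
  card : Nat.card (Subgroup.center T) = 4
  sq : ∀ a : T, a * a ∈ Subgroup.center T
  com : ∀ a b : T, a * b * a⁻¹ * b⁻¹ ∈ Subgroup.center T
  exp : ∀ z ∈ Subgroup.center T, z * z = 1

lemma str_of {T : Type*} [Group T] [Finite T] (hT : Nat.card T = 64) (hna : ¬ IsMulCommutative T)
    (σ : T →* T) (h3 : ∀ y, σ (σ (σ y)) = y) (hfp : ∀ y, σ y = y → y = 1) : Str σ := by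
  classical
  haveI : Fact (Nat.Prime 2) := ⟨Nat.prime_two⟩
  set Z := Subgroup.center T with hZ
  have hmul := Z.card_mul_index
  rw [hT] at hmul
  let σZ : Z →* Z := (σ.comp Z.subtype).codRestrict Z fun z => map_center σ h3 z.2
  have hσZ : ∀ z : Z, ((σZ z : Z) : T) = σ z := fun z => rfl
  have hZ3 := fpf_card σZ (fun y => Subtype.ext (h3 _)) fun y hy =>
    Subtype.ext (hfp _ (congrArg Subtype.val hy))
  have hP : IsPGroup 2 T := IsPGroup.of_card (n := 6) (by rw [hT]; rfl)
  have hZne : Nat.card Z ≠ 1 := fun h1 => by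
    haveI : Nontrivial T := Finite.one_lt_card_iff_nontrivial.1 (by omega)
    haveI := hP.center_nontrivial
    have := Finite.one_lt_card (α := Z)
    omega
  have hZtop : Nat.card Z ≠ 64 := fun h1 => hna ⟨⟨fun a b => by
    have : Z = ⊤ := Subgroup.eq_top_of_card_eq Z (by rw [h1, hT])
    exact (Subgroup.mem_center_iff.1 (show a ∈ Z by rw [this]; trivial) b).symm⟩⟩
  obtain ⟨k, hk, hZk⟩ := (Nat.dvd_prime_pow Nat.prime_two).1 (show Nat.card Z ∣ 2 ^ 6 from ⟨_, hmul.symm⟩)
  have hc4 : Nat.card Z = 4 := by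
    rcases (show k = 0 ∨ k = 1 ∨ k = 2 ∨ k = 3 ∨ k = 4 ∨ k = 5 ∨ k = 6 by omega) with
      rfl | rfl | rfl | rfl | rfl | rfl | rfl
    on_goal 5 => exact (no_index_four σ h3 hfp (show Z.index = 4 by
      rw [hZk] at hmul; norm_num at hmul; omega)).elim
    all_goals (rw [hZk] at hZ3 hZne hZtop ⊢; simp at hZ3 hZne hZtop ⊢)
  have hexp : ∀ z ∈ Z, z * z = 1 := by
    intro z hz
    by_contra hne
    have hd : orderOf (⟨z, hz⟩ : Z) ∣ 2 ^ 2 := by
      rw [show (2 : ℕ) ^ 2 = Nat.card Z by rw [hc4]; rfl]; exact orderOf_dvd_natCard _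
    have ho : orderOf (⟨z, hz⟩ : Z) = 4 := by
      have h4 := orderOf_pos (⟨z, hz⟩ : Z)
      have hle := Nat.le_of_dvd (by norm_num) hd
      have h2 : ¬ orderOf (⟨z, hz⟩ : Z) ∣ 2 := fun hh => hne (by
        have := congrArg Subtype.val (orderOf_dvd_iff_pow_eq_one.1 hh)
        simpa [pow_two] using this)
      interval_cases h5 : orderOf (⟨z, hz⟩ : Z) <;> simp_all
    rw [Subgroup.orderOf_mk] at ho
    have hmem : σ z ∈ Subgroup.zpowers z := by
      have : Subgroup.zpowers z = Z := Subgroup.eq_of_le_of_card_ge (Subgroup.zpowers_le.2 hz)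
        (by rw [Nat.card_zpowers, ho, hc4])
      rw [this]; exact map_center σ h3 hz
    obtain ⟨i, hi⟩ := (isOfFinOrder_of_finite z).mem_powers_iff_mem_zpowers.2 hmem
    change z ^ i = σ z at hi
    rw [← pow_mod_orderOf, ho] at hi
    have hi4 := Nat.mod_lt i (show 4 > 0 by norm_num)
    have hz4 : z ^ 4 = 1 := ho ▸ pow_orderOf_eq_one z
    have hz1 : z ≠ 1 := fun e => hne (by rw [e, mul_one])
    generalize i % 4 = r at hi hi4
    rcases (show r = 0 ∨ r = 1 ∨ r = 2 ∨ r = 3 by omega) with rfl | rfl | rfl | rfl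
    · rw [pow_zero] at hi
      exact hz1 (by rw [← h3 z, ← hi, map_one, map_one])
    · rw [pow_one] at hi
      exact hz1 (hfp z hi.symm)
    · refine hz1 ?_
      have h2 : σ (σ z) = 1 := by
        rw [← hi, map_pow, ← hi, ← pow_mul]; exact hz4
      rw [← h3 z, h2, map_one]
    · refine hne ?_
      have e : σ z = z⁻¹ := by
        rw [← hi]; exact eq_inv_of_mul_eq_one_left (by rw [← pow_succ]; exact hz4)
      have e3 := h3 z
      rw [e, map_inv, e, inv_inv, e] at e3
      calc z * z = z⁻¹⁻¹ * z := by group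
        _ = z⁻¹ * z := by rw [inv_inv, e3]
        _ = 1 := inv_mul_cancel z
  -- the quotient is abelian
  let σQ : T ⧸ Z →* T ⧸ Z := QuotientGroup.map Z Z σ fun z hz => map_center σ h3 hz
  have hσQ : ∀ y : T, σQ (y : T ⧸ Z) = (σ y : T) := fun y => rfl
  have hQ3 : ∀ q, σQ (σQ (σQ q)) = q := fun q => by
    induction q using QuotientGroup.induction_on with
    | _ y => rw [hσQ, hσQ, hσQ, h3]
  have hQfp : ∀ q, σQ q = q → q = 1 := fun q => by
    induction q using QuotientGroup.induction_on with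
    | _ y =>
      intro hy
      rw [hσQ] at hy
      exact (QuotientGroup.eq_one_iff y).2 (mem_center_of_fixed_mod σ h3 hfp (QuotientGroup.eq.1 hy.symm))
  have hQ16 : Nat.card (T ⧸ Z) = 16 := by
    rw [hc4] at hmul; show Z.index = 16; omega
  set W := Subgroup.center (T ⧸ Z) with hW
  have hWtop : W = ⊤ := by
    let σW : W →* W := (σQ.comp W.subtype).codRestrict W fun z => map_center σQ hQ3 z.2
    have hW3 := fpf_card σW (fun y => Subtype.ext (hQ3 _)) fun y hy =>
      Subtype.ext (hQfp _ (congrArg Subtype.val hy))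
    have hmW := W.card_mul_index
    rw [hQ16] at hmW
    have hQP : IsPGroup 2 (T ⧸ Z) := IsPGroup.of_card (n := 4) (by rw [hQ16]; rfl)
    have hWne : Nat.card W ≠ 1 := fun h1 => by
      haveI : Nontrivial (T ⧸ Z) := Finite.one_lt_card_iff_nontrivial.1 (by omega)
      haveI := hQP.center_nontrivial
      have := Finite.one_lt_card (α := W)
      omega
    obtain ⟨j, hj, hWj⟩ := (Nat.dvd_prime_pow Nat.prime_two).1 (show Nat.card W ∣ 2 ^ 4 from ⟨_, hmW.symm⟩)
    rcases (show j = 0 ∨ j = 1 ∨ j = 2 ∨ j = 3 ∨ j = 4 by omega) with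
      rfl | rfl | rfl | rfl | rfl
    on_goal 5 => exact Subgroup.eq_top_of_card_eq W (by rw [hWj, hQ16]; rfl)
    on_goal 3 => exact (no_index_four σQ hQ3 hQfp (show W.index = 4 by
      rw [hWj] at hmW; norm_num at hmW; omega)).elim
    all_goals (rw [hWj] at hW3 hWne; simp at hW3 hWne)
  have hcom : ∀ a b : T, a * b * a⁻¹ * b⁻¹ ∈ Z := fun a b => by
    rw [← QuotientGroup.eq_one_iff]
    have : (b : T ⧸ Z) ∈ W := by rw [hWtop]; trivial
    simp only [QuotientGroup.mk_mul, QuotientGroup.mk_inv]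
    rw [Subgroup.mem_center_iff.1 this (a : T ⧸ Z), mul_inv_cancel_right, mul_inv_cancel]
  refine ⟨h3, hfp, hc4, fun a => Subgroup.mem_center_iff.2 fun b => ?_, hcom, hexp⟩
  set k := a * b * a⁻¹ * b⁻¹ with hkdef
  have hk := Subgroup.mem_center_iff.1 (hcom a b)
  have h1 : k * k = 1 := hexp _ (hcom a b)
  have hab : a * b = k * (b * a) := by rw [hkdef]; group
  have hka : a * k = k * a := hk a
  clear_value k
  symm
  calc a * a * b = a * (k * (b * a)) := by rw [mul_assoc, hab]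
    _ = k * (a * b) * a := by rw [← mul_assoc a k, hka]; simp only [mul_assoc]
    _ = k * k * (b * a) * a := by rw [hab]; group
    _ = b * (a * a) := by rw [h1, one_mul, mul_assoc]

/-- The commutator. -/
def cm {T : Type*} [Group T] (a b : T) : T := a * b * a⁻¹ * b⁻¹

section

variable {T : Type*} [Group T] [Finite T] {σ : T →* T}

lemma Str.cm_mem (h : Str σ) (a b : T) : cm a b ∈ Subgroup.center T := h.com a b

lemma Str.inv_eq (h : Str σ) {z : T} (hz : z ∈ Subgroup.center T) : z⁻¹ = z :=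
  inv_eq_of_mul_eq_one_right (h.exp z hz)

lemma Str.cm_symm (h : Str σ) (a b : T) : cm b a = cm a b := by
  rw [← h.inv_eq (h.cm_mem a b)]; unfold cm; group

lemma Str.cm_mul_left (h : Str σ) (a b d : T) : cm (a * b) d = cm a d * cm b d := by
  have h1 := Subgroup.mem_center_iff.1 (h.cm_mem b d)
  calc cm (a * b) d = a * cm b d * (d * a⁻¹ * d⁻¹) := by unfold cm; group
    _ = cm b d * cm a d := by rw [h1 a, mul_assoc]; congr 1; unfold cm; group
    _ = _ := (h1 _).symm

lemma Str.cm_mul_right (h : Str σ) (a b d : T) : cm a (b * d) = cm a b * cm a d := by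
  rw [h.cm_symm, h.cm_mul_left, h.cm_symm a b, h.cm_symm a d]

lemma cm_self_map {σ : T →* T} (h : Str σ) (a : T) : cm a (σ a) = 1 := by
  rw [cm, (fpf_comm σ h.h3 h.hfp a).eq]; group

lemma map_cm (σ : T →* T) (a b : T) : σ (cm a b) = cm (σ a) (σ b) := by simp [cm]

lemma Str.cm_inv_right (h : Str σ) (a b : T) : cm a b⁻¹ = cm a b := by
  have := h.cm_mul_right a b b⁻¹
  rw [mul_inv_cancel, show cm a 1 = 1 by simp [cm]] at this
  rw [eq_inv_of_mul_eq_one_right this.symm, h.inv_eq (h.cm_mem a b)]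

lemma Str.cm_shift (h : Str σ) (a b : T) :
    cm a (σ b) = σ (σ (cm a b)) ∧ cm (σ a) b = σ (σ (cm a b)) := by
  set φ := cm a b
  set m := cm a (σ b)
  set n := cm (σ a) b
  have hm : σ m = n * σ φ := by
    rw [map_cm, fpf_sq σ h.h3 h.hfp b, h.cm_inv_right, h.cm_mul_right, map_cm]
  have hn : σ n = m * σ φ := by
    rw [map_cm, h.cm_symm, fpf_sq σ h.h3 h.hfp a, h.cm_inv_right, h.cm_mul_right, map_cm,
      h.cm_symm (σ b) (σ a) |>.symm, h.cm_symm a (σ b)]
  have hσφ : σ φ ∈ Subgroup.center T := map_center σ h.h3 (h.cm_mem a b)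
  have hmn : m = n := by
    have : σ (m * n) = m * n := by
      rw [map_mul, hm, hn, mul_assoc, ← mul_assoc (σ φ), ← Subgroup.mem_center_iff.1 hσφ m,
        mul_assoc m, h.exp _ hσφ, mul_one]
      exact Subgroup.mem_center_iff.1 (h.cm_mem a (σ b)) n
    have := eq_inv_of_mul_eq_one_left (h.hfp _ this)
    rwa [h.inv_eq (h.cm_mem (σ a) b)] at this
  have hmφ : m = σ (σ φ) := by
    have hmid : σ (σ φ) * σ φ = φ := by
      have h2 := fpf_mul σ h.h3 h.hfp φ
      have h4 : σ φ * σ (σ φ) = φ := by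
        exact (eq_inv_of_mul_eq_one_right (by rw [← mul_assoc]; exact h2)).trans (h.inv_eq (h.cm_mem a b))
      rw [← Subgroup.mem_center_iff.1 (map_center σ h.h3 hσφ) (σ φ)]; exact h4
    have : σ (m * σ (σ φ)) = m * σ (σ φ) := by
      rw [map_mul, h.h3, hm, ← hmn, mul_assoc]
      congr 1
      calc σ φ * φ = σ φ * (σ (σ φ) * σ φ) := by rw [hmid]
        _ = σ (σ φ) := by
          rw [Subgroup.mem_center_iff.1 hσφ (σ (σ φ)), ← mul_assoc, h.exp _ hσφ, one_mul]
    have := eq_inv_of_mul_eq_one_left (h.hfp _ this)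
    rwa [h.inv_eq (map_center σ h.h3 hσφ)] at this
  exact ⟨hmφ, hmn ▸ hmφ⟩

/-- The isomorphism with the unitriangular group. -/
lemma Str.equiv_U3 (h : Str σ) (hT : Nat.card T = 64) {u v : T} (hu : u * u = 1) (hv : v * v = 1)
    (huv : cm u v ≠ 1) : Nonempty (U3 ≃* T) := by
  classical
  set φ := cm u v with hφ
  set ψ := σ (σ φ) with hψ
  have hφZ : φ ∈ Subgroup.center T := h.cm_mem u v
  have hψZ : ψ ∈ Subgroup.center T := map_center σ h.h3 (map_center σ h.h3 hφZ)
  have hφψ : φ * ψ = ψ * φ := Subgroup.mem_center_iff.1 hψZ φ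
  have hσu : σ u * σ u = 1 := by rw [← map_mul, hu, map_one]
  have hσv : σ v * σ v = 1 := by rw [← map_mul, hv, map_one]
  let α := K4.lift u (σ u)
  let β := K4.lift v (σ v)
  let ζ := K4.lift φ ψ
  have hα : ∀ a b, α (a + b) = α a * α b := K4.lift_add hu hσu (fpf_comm σ h.h3 h.hfp u).eq
  have hβ : ∀ a b, β (a + b) = β a * β b := K4.lift_add hv hσv (fpf_comm σ h.h3 h.hfp v).eq
  have hζ : ∀ a b, ζ (a + b) = ζ a * ζ b := K4.lift_add (h.exp _ hφZ) (h.exp _ hψZ) hφψ
  have hζZ : ∀ a, ζ a ∈ Subgroup.center T := fun a => by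
    cases a
    exacts [one_mem _, hφZ, hψZ, mul_mem hφZ hψZ]
  have hσσ : σ φ = φ * ψ := by
    have h2 := eq_inv_of_mul_eq_one_right (by
      rw [← mul_assoc]; exact fpf_mul σ h.h3 h.hfp φ : φ * (σ φ * ψ) = 1)
    rw [h.inv_eq hφZ] at h2
    calc σ φ = (σ φ * ψ) * ψ := by rw [mul_assoc, h.exp _ hψZ, mul_one]
      _ = φ * ψ := by rw [h2]
  have c0 : ∀ y : T, cm 1 y = 1 := fun y => by simp [cm]
  have c0' : ∀ y : T, cm y 1 = 1 := fun y => by simp [cm]
  have l1 : ∀ a, cm (α a) v = ζ a := fun a => by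
    cases a
    · exact c0 v
    · rfl
    · exact (h.cm_shift u v).2
    · show cm (u * σ u) v = φ * ψ
      rw [h.cm_mul_left, (h.cm_shift u v).2]
  have l2 : ∀ a, cm (α a) (σ v) = ζ (a * K4.w) := fun a => by
    cases a
    · exact c0 _
    · exact (h.cm_shift u v).1
    · show cm (σ u) (σ v) = φ * ψ
      rw [← map_cm, ← hφ, hσσ]
    · show cm (u * σ u) (σ v) = φ
      rw [h.cm_mul_left, (h.cm_shift u v).1, ← map_cm, ← hφ, ← hψ, hσσ, hφψ, ← mul_assoc,
        h.exp _ hψZ, one_mul]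
  have key : ∀ a b, cm (α a) (β b) = ζ (a * b) := fun a b => by
    cases b
    · show cm (α a) 1 = ζ (a * 0)
      rw [mul_zero]; exact c0' _
    · show cm (α a) v = ζ (a * 1)
      rw [mul_one]; exact l1 a
    · exact l2 a
    · show cm (α a) (v * σ v) = ζ (a * (K4.e + K4.w))
      rw [h.cm_mul_right, l1, l2, mul_add, hζ]
      congr 2
      exact (mul_one a).symm
  have swap : ∀ a b, α a * β b = β b * α a * ζ (a * b) := fun a b => by
    rw [← key a b, Subgroup.mem_center_iff.1 (h.cm_mem (α a) (β b)) (β b * α a)]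
    unfold cm; group
  let Θ : U3 →* T := MonoidHom.mk' (fun x => β x.b * α x.a * ζ x.z) fun x y => by
    show β (x.b + y.b) * α (x.a + y.a) * ζ (x.z + y.z + x.a * y.b) = _
    rw [hβ, hα, hζ, hζ]
    have hc : ∀ a g, ζ a * g = g * ζ a := fun a g => (Subgroup.mem_center_iff.1 (hζZ a) g).symm
    symm
    calc β x.b * α x.a * ζ x.z * (β y.b * α y.a * ζ y.z)
        = β x.b * α x.a * (ζ x.z * (β y.b * α y.a)) * ζ y.z := by group
      _ = β x.b * (α x.a * β y.b) * (α y.a * (ζ x.z * ζ y.z)) := by rw [hc]; group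
      _ = β x.b * β y.b * α x.a * (ζ (x.a * y.b) * α y.a) * (ζ x.z * ζ y.z) := by rw [swap]; group
      _ = β x.b * β y.b * (α x.a * α y.a) * (ζ (x.a * y.b) * (ζ x.z * ζ y.z)) := by rw [hc]; group
      _ = _ := by rw [hc (x.a * y.b)]
  have hζ0 : ∀ a, ζ a = 1 → a = 0 := fun a => by
    have hψ1 : ψ ≠ 1 := fun e => huv (by
      have := congrArg σ e
      rwa [hψ, h.h3, map_one] at this)
    cases a
    · exact fun _ => rfl
    · exact fun e => absurd e huv
    · exact fun e => absurd e hψ1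
    · intro e
      have h1 : σ φ = 1 := hσσ.trans e
      exact absurd (by
        have := congrArg σ (congrArg σ h1)
        rwa [h.h3, map_one, map_one] at this) huv
  have hΘ : Function.Injective Θ := by
    rw [injective_iff_map_eq_one]
    rintro ⟨a, b, z⟩ hx
    have hx' : β b * α a * ζ z = 1 := hx
    have hba : β b * α a ∈ Subgroup.center T := by
      rw [eq_inv_of_mul_eq_one_left hx']; exact inv_mem (hζZ z)
    have hk : ∀ g : T, cm (β b * α a) g = 1 := fun g => by
      rw [cm, ← Subgroup.mem_center_iff.1 hba g]; group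
    have ha : a = 0 := hζ0 a (by
      have := hk v
      rw [h.cm_mul_left, l1] at this
      rw [show cm (β b) v = 1 from ?_, one_mul] at this
      · exact this
      · cases b
        · exact c0 v
        · show v * v * v⁻¹ * v⁻¹ = 1
          group
        · show cm (σ v) v = 1
          rw [h.cm_symm]; exact cm_self_map h v
        · show cm (v * σ v) v = 1
          rw [h.cm_mul_left, h.cm_symm v (σ v), cm_self_map h v, mul_one]
          show v * v * v⁻¹ * v⁻¹ = 1
          group)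
    subst ha
    have hα0 : α 0 = 1 := rfl
    have hb : b = 0 := hζ0 b (by
      have := hk (α K4.e)
      rw [hα0, mul_one, h.cm_symm, key] at this
      rwa [show K4.e * b = b from one_mul b] at this)
    subst hb
    have hz : z = 0 := hζ0 z (by
      rwa [hα0, show β 0 = 1 from rfl, one_mul, one_mul] at hx')
    subst hz
    rfl
  exact ⟨MulEquiv.ofBijective Θ ((Nat.bijective_iff_injective_and_card Θ).2 ⟨hΘ, by rw [U3.card_eq, hT]⟩)⟩

end

/-- Let T be a non-abelian group of order 64 admitting automorphisms ρ of order 3 and x of order 2 with x ρ x⁻¹ = ρ⁻¹ (so they generate a symmetric group of degree 3), where ρ fixes only the identity. Then T is isomorphic to a Sylow 2-subgroup of the projective special linear group of dimension 3 over the field with 4 elements, and the subgroup of fixed points of x is dihedral of order 8 or quaternion of order 8. -/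
theorem result {T : Type*} [Group T] [Finite T] (hT : Nat.card T = 64) (hna : ¬ IsMulCommutative T) (ρ x : MulAut T) (hρ : orderOf ρ = 3) (hx : orderOf x = 2)
    (hxr : x * ρ * x⁻¹ = ρ⁻¹) (hfp : ∀ y : T, ρ y = y → y = 1) (C : Subgroup T) (hC : ∀ y : T, y ∈ C ↔ x y = y) :
    (∃ (F : Type) (_ : Field F) (_ : Fintype F), Fintype.card F = 4 ∧
        ∃ S : Sylow 2 (Matrix.ProjectiveSpecialLinearGroup (Fin 3) F), Nonempty (T ≃* ↥(S : Subgroup (Matrix.ProjectiveSpecialLinearGroup (Fin 3) F)))) ∧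
      (Nonempty (↥C ≃* DihedralGroup 4) ∨ Nonempty (↥C ≃* QuaternionGroup 2)) := by
  classical
  haveI : Fact (Nat.Prime 2) := ⟨Nat.prime_two⟩
  let σ : T →* T := ρ.toMonoidHom
  have hσ3 : ρ * ρ * ρ = 1 := by
    have := pow_orderOf_eq_one ρ
    rwa [hρ, pow_succ, pow_two] at this
  have h3 : ∀ y, σ (σ (σ y)) = y := fun y => by
    show (ρ * ρ * ρ) y = y
    rw [hσ3]; rfl
  have hs : Str σ := str_of hT hna σ h3 hfp
  have hx2 : ∀ y, x (x y) = y := fun y => by
    have := pow_orderOf_eq_one x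
    rw [hx, pow_two] at this
    show (x * x) y = y
    rw [this]; rfl
  have hρi : ρ⁻¹ = ρ * ρ := inv_eq_of_mul_eq_one_right (by rw [← mul_assoc, hσ3])
  have hxσ : ∀ y, x (σ y) = σ (σ (x y)) := fun y => by
    have e : x * ρ = ρ * ρ * x := by rw [← hρi, ← hxr]; group
    exact congrArg (fun f : MulAut T => f y) e
  set Z := Subgroup.center T with hZdef
  have hxZ : ∀ z ∈ Z, x z ∈ Z := fun z hz => Subgroup.mem_center_iff.2 fun g => by
    rw [← hx2 g, ← map_mul, ← map_mul, Subgroup.mem_center_iff.1 hz]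
  let q : T →* T ⧸ Z := QuotientGroup.mk' Z
  have hqc : ∀ a b : T, q a * q b = q b * q a := fun a b => by
    rw [← mul_inv_eq_one, mul_inv_rev, ← map_mul, ← map_inv, ← map_inv, ← map_mul, ← map_mul]
    exact (QuotientGroup.eq_one_iff _).2 (by
      show a * b * (a⁻¹ * b⁻¹) ∈ Z
      rw [← mul_assoc]; exact hs.com a b)
  have hqs : ∀ a : T, q a * q a = 1 := fun a => by
    rw [← map_mul]; exact (QuotientGroup.eq_one_iff _).2 (hs.sq a)
  have hqx : ∀ a b : T, q a = q b → q (x a) = q (x b) := fun a b e => by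
    refine QuotientGroup.eq.2 ?_
    rw [← map_inv, ← map_mul]
    exact hxZ _ (QuotientGroup.eq.1 e)
  have hqσ : ∀ a b : T, q a = q b → q (σ a) = q (σ b) := fun a b e => by
    refine QuotientGroup.eq.2 ?_
    rw [← map_inv, ← map_mul]
    exact map_center σ h3 (QuotientGroup.eq.1 e)
  have lift : ∀ p : T, q (x p) = q p → ∃ c ∈ C, q c = q p := by
    intro p hp
    have hw : p⁻¹ * x p ∈ Z := QuotientGroup.eq.1 hp.symm
    set w := p⁻¹ * x p with hwdef
    have hxw : x w = w := by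
      conv_rhs => rw [← hs.inv_eq hw]
      rw [hwdef, map_mul, map_inv, hx2]; group
    have hσw : σ w ∈ Z := map_center σ h3 hw
    refine ⟨p * σ w, (hC _).2 ?_, ?_⟩
    · rw [map_mul, hxσ, hxw, show x p = p * w by rw [hwdef]; group, mul_assoc]
      congr 1
      rw [fpf_sq σ h3 hfp w, mul_inv_rev, hs.inv_eq hw, hs.inv_eq hσw,
        ← Subgroup.mem_center_iff.1 hσw w, ← mul_assoc, hs.exp w hw, one_mul]
    · rw [map_mul, show q (σ w) = 1 from (QuotientGroup.eq_one_iff _).2 hσw, mul_one]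
  have decomp : ∀ y : T, ∃ c ∈ C, ∃ d ∈ C, q y = q (c * σ d) := by
    intro y
    have hd : q (x (y * x y)) = q (y * x y) := by
      rw [map_mul x, hx2, map_mul, map_mul, hqc]
    obtain ⟨d, hdC, hdq⟩ := lift _ hd
    have hc : q (x (y * σ d)) = q (y * σ d) := by
      rw [map_mul x, hxσ, (hC d).1 hdC, fpf_sq σ h3 hfp d]
      simp only [map_mul, map_inv]
      rw [inv_eq_of_mul_eq_one_right (a := q d * q (σ d)) (b := q d * q (σ d))
        (by rw [← map_mul]; exact hqs _), ← mul_assoc, hdq, map_mul, hqc y, ← mul_assoc (q (x y)), hqs, one_mul]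
    obtain ⟨c, hcC, hcq⟩ := lift _ hc
    refine ⟨c, hcC, d, hdC, ?_⟩
    rw [map_mul, hcq, map_mul, mul_assoc, hqs, mul_one]
  -- a non-commuting pair of fixed points
  obtain ⟨c₀, hc₀, d₀, hd₀, hφ⟩ : ∃ c ∈ C, ∃ d ∈ C, cm c d ≠ 1 := by
    by_contra hh
    push Not at hh
    refine hna ⟨⟨fun a b => ?_⟩⟩
    obtain ⟨c, hc, d, hd, hy⟩ := decomp a
    obtain ⟨c', hc', d', hd', hy'⟩ := decomp b
    have e1 : cm a b = cm (c * σ d) (c' * σ d') := by
      obtain ⟨z, hz, rfl⟩ : ∃ z ∈ Z, a = c * σ d * z :=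
        ⟨(c * σ d)⁻¹ * a, QuotientGroup.eq.1 hy.symm, by group⟩
      obtain ⟨z', hz', rfl⟩ : ∃ z' ∈ Z, b = c' * σ d' * z' :=
        ⟨(c' * σ d')⁻¹ * b, QuotientGroup.eq.1 hy'.symm, by group⟩
      have hk : ∀ w ∈ Z, ∀ g : T, cm w g = 1 := fun w hw g => by
        rw [cm, ← Subgroup.mem_center_iff.1 hw g]; group
      rw [hs.cm_mul_left (c * σ d) z, hk z hz, mul_one, hs.cm_mul_right _ (c' * σ d') z',
        hs.cm_symm z' (c * σ d), hk z' hz', mul_one]
    have e2 : cm a b = 1 := by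
      rw [e1]
      simp only [hs.cm_mul_left, hs.cm_mul_right, (hs.cm_shift _ _).1, (hs.cm_shift _ _).2, ← map_cm,
        hh c hc c' hc', hh c hc d' hd', hh d hd c' hc', hh d hd d' hd', map_one, mul_one]
    rw [cm, mul_inv_eq_one, mul_inv_eq_iff_eq_mul] at e2
    exact e2
  set φ := cm c₀ d₀ with hφdef
  have hφZ : φ ∈ Z := hs.cm_mem _ _
  have hφC : x φ = φ := by
    simp [hφdef, cm, (hC c₀).1 hc₀, (hC d₀).1 hd₀]
  have hCZ : ∀ z ∈ C, z ∈ Z → z = 1 ∨ z = φ := by
    intro z hzC hzZ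
    by_contra hh
    push Not at hh
    let S : Finset T := {1, φ, z, φ * z}
    have hS : S.card = 4 := by
      have n1 : φ * z ≠ 1 := fun e =>
        hh.2 (by rw [← hs.inv_eq hφZ]; exact eq_inv_of_mul_eq_one_right e)
      have n2 : φ * z ≠ φ := fun e => hh.1 (mul_left_cancel (e.trans (mul_one φ).symm))
      have n3 : φ * z ≠ z := fun e => hφ (mul_right_cancel (e.trans (one_mul z).symm))
      exact Finset.card_eq_four.2 ⟨1, φ, z, φ * z, Ne.symm hφ, fun e => hh.1 e.symm,
        n1.symm, fun e => hh.2 e.symm, n2.symm, n3.symm, rfl⟩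
    have := Fintype.ofFinite T
    have hsub : S ⊆ Finset.univ.filter (fun g => g ∈ Z) := by
      intro g hg
      simp only [S, Finset.mem_insert, Finset.mem_singleton] at hg
      simp only [Finset.mem_filter, Finset.mem_univ, true_and]
      rcases hg with rfl | rfl | rfl | rfl
      exacts [one_mem _, hφZ, hzZ, mul_mem hφZ hzZ]
    have heq := Finset.eq_of_subset_of_card_le hsub (by
      rw [hS, ← Fintype.card_subtype, ← Nat.card_eq_fintype_card]; exact hs.card.le)
    have hmem : σ φ ∈ S := by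
      rw [heq]; simp only [Finset.mem_filter, Finset.mem_univ, true_and]; exact map_center σ h3 hφZ
    have hfix : x (σ φ) = σ φ := by
      simp only [S, Finset.mem_insert, Finset.mem_singleton] at hmem
      rcases hmem with e | e | e | e <;> rw [e]
      · exact map_one x
      · exact hφC
      · exact (hC z).1 hzC
      · rw [map_mul, hφC, (hC z).1 hzC]
    rw [hxσ, hφC] at hfix
    refine hφ ?_
    have := hfp _ hfix
    have h1 := congrArg σ (congrArg σ this)
    rwa [h3, map_one, map_one] at h1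
  have hsqC : ∀ c ∈ C, c * c = 1 ∨ c * c = φ := fun c hc => hCZ _ (mul_mem hc hc) (hs.sq c)
  -- order of C
  have hC8 : Nat.card C = 8 := by
    let g : C →* T ⧸ Z := q.comp C.subtype
    have hker : Nat.card g.ker = 2 := by
      rw [Nat.card_eq_two_iff]
      have hmem : ∀ w : C, w ∈ g.ker ↔ (w : T) ∈ Z := fun w => QuotientGroup.eq_one_iff _
      refine ⟨⟨1, one_mem _⟩, ⟨⟨φ, (hC φ).2 hφC⟩, (hmem _).2 hφZ⟩, fun e => hφ ?_, ?_⟩
      · exact (congrArg (fun w : g.ker => ((w : C) : T)) e).symm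
      · refine Set.eq_univ_of_forall fun w => ?_
        rcases hCZ _ (w : C).2 ((hmem _).1 w.2) with e | e
        · exact Or.inl (Subtype.ext (Subtype.ext e))
        · exact Or.inr (Subtype.ext (Subtype.ext e))
    let g2 : g.range × g.range → T ⧸ Z :=
      fun p => p.1.1 * QuotientGroup.map Z Z σ (fun z hz => map_center σ h3 hz) p.2.1
    have hQ : Nat.card (T ⧸ Z) = 16 := by
      have := Subgroup.card_eq_card_quotient_mul_card_subgroup Z
      rw [hT, hs.card] at this; omega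
    have hg2 : Function.Bijective g2 := by
      constructor
      · rintro ⟨⟨_, c, rfl⟩, ⟨_, d, rfl⟩⟩ ⟨⟨_, c', rfl⟩, ⟨_, d', rfl⟩⟩ e
        have e' : q (c : T) * q (σ d) = q (c' : T) * q (σ d') := e
        rw [← map_mul, ← map_mul] at e'
        have e'' := hqx _ _ e'
        rw [map_mul x, map_mul x, hxσ, hxσ, (hC _).1 c.2, (hC _).1 d.2, (hC _).1 c'.2, (hC _).1 d'.2,
          map_mul, map_mul, fpf_sq σ h3 hfp (d : T), fpf_sq σ h3 hfp (d' : T)] at e''
        simp only [map_mul, map_inv, mul_inv_rev] at e' e''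
        have qinv : ∀ a : T, (q a)⁻¹ = q a := fun a => inv_eq_of_mul_eq_one_right (hqs a)
        simp only [qinv, ← mul_assoc] at e''
        rw [e'] at e''
        have hd : q (d : T) = q (d' : T) := mul_left_cancel e''
        have hσd := hqσ _ _ hd
        rw [hσd] at e'
        have hc : q (c : T) = q (c' : T) := mul_right_cancel e'
        exact Prod.ext (Subtype.ext hc) (Subtype.ext hd)
      · intro p
        induction p using QuotientGroup.induction_on with
        | _ y =>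
          obtain ⟨c, hc, d, hd, hy⟩ := decomp y
          exact ⟨(⟨q c, ⟨c, hc⟩, rfl⟩, ⟨q d, ⟨d, hd⟩, rfl⟩), by
            show q c * q (σ d) = q y
            rw [hy, map_mul]⟩
    have hr : Nat.card g.range * Nat.card g.range = 16 := by
      rw [← Nat.card_prod, Nat.card_congr (Equiv.ofBijective g2 hg2), hQ]
    have h1 := g.ker.card_mul_index
    rw [Subgroup.index_ker, hker] at h1
    have hr4 : Nat.card g.range = 4 := by nlinarith
    omega
  have hcc : ∀ a b : T, a * b = cm a b * (b * a) := fun a b => by unfold cm; group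
  have hord4 : ∀ r : T, r * r = φ → orderOf r = 4 := fun r hr => by
    refine orderOf_eq_prime_pow (p := 2) (n := 1) ?_ ?_
    · rw [pow_one, pow_two, hr]; exact hφ
    · rw [show 2 ^ (1 + 1) = 2 + 2 by norm_num, pow_add, pow_two, hr]; exact hs.exp φ hφZ
  have prod_sq : ∀ a b : T, a * b * (a * b) = a * a * (b * b) * cm b a := fun a b => by
    calc a * b * (a * b) = a * (b * a) * b := by group
      _ = a * (cm b a * (a * b)) * b := by rw [← hcc b a]
      _ = a * ((a * b) * cm b a) * b := by rw [Subgroup.mem_center_iff.1 (hs.cm_mem b a) (a * b)]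
      _ = a * a * b * (cm b a * b) := by group
      _ = _ := by rw [← Subgroup.mem_center_iff.1 (hs.cm_mem b a) b]; group
  have hD : Nonempty (↥C ≃* DihedralGroup 4) ∨ Nonempty (↥C ≃* QuaternionGroup 2) := by
    -- a pair `r, s` with `r² = φ` and `[r, s] = φ`
    obtain ⟨r, hr, s, hs', hr2, hrs⟩ : ∃ r ∈ C, ∃ s ∈ C, r * r = φ ∧ cm s r = φ := by
      rcases hsqC c₀ hc₀ with h1 | h1
      · rcases hsqC d₀ hd₀ with h2 | h2
        · refine ⟨c₀ * d₀, mul_mem hc₀ hd₀, c₀, hc₀, ?_, ?_⟩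
          · rw [prod_sq, h1, h2, one_mul, one_mul, hs.cm_symm]
          · rw [hs.cm_mul_right, show cm c₀ c₀ = 1 by unfold cm; group, one_mul]
        · exact ⟨d₀, hd₀, c₀, hc₀, h2, rfl⟩
      · exact ⟨c₀, hc₀, d₀, hd₀, h1, hs.cm_symm c₀ d₀⟩
    have hsn : (⟨s, hs'⟩ : C) ∉ Subgroup.zpowers (⟨r, hr⟩ : C) := by
      intro hh
      obtain ⟨i, hi⟩ := Subgroup.mem_zpowers_iff.1 hh
      have : r ^ i = s := congrArg Subtype.val hi
      apply hφ
      rw [← hrs, cm, ← this]; group
    have hro : orderOf (⟨r, hr⟩ : C) = 4 := by rw [Subgroup.orderOf_mk]; exact hord4 r hr2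
    have hinv : (⟨s, hs'⟩ : C) * ⟨r, hr⟩ * (⟨s, hs'⟩ : C)⁻¹ = (⟨r, hr⟩ : C)⁻¹ := by
      refine Subtype.ext ?_
      show s * r * s⁻¹ = r⁻¹
      rw [show s * r * s⁻¹ = cm s r * r by unfold cm; group, hrs]
      refine eq_inv_of_mul_eq_one_left ?_
      rw [mul_assoc, hr2, hs.exp φ hφZ]
    rcases hsqC s hs' with h1 | h1
    · exact Or.inl (PGroupsCyclic.nonempty_mulEquiv_dihedral (N := 4) hro hsn hinv
        (Subtype.ext (by rw [SubmonoidClass.coe_pow, pow_two]; exact h1)) (by rw [hC8]))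
    · exact Or.inr (PGroupsCyclic.nonempty_mulEquiv_quaternion (N := 2) (by rw [hro]) hsn hinv
        (Subtype.ext (by rw [SubmonoidClass.coe_pow, SubmonoidClass.coe_pow, pow_two, pow_two]; exact h1.trans hr2.symm))
        (by rw [hC8]))
  -- two involutions
  obtain ⟨u, v, hu, hv, huv⟩ : ∃ u v : T, u * u = 1 ∧ v * v = 1 ∧ cm u v ≠ 1 := by
    have hp : c₀ * d₀ * (c₀ * d₀) = c₀ * c₀ * (d₀ * d₀) * φ := by rw [prod_sq, hs.cm_symm]
    rcases hsqC c₀ hc₀ with h1 | h1 <;> rcases hsqC d₀ hd₀ with h2 | h2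
    · exact ⟨c₀, d₀, h1, h2, hφ⟩
    · refine ⟨c₀, c₀ * d₀, h1, by rw [hp, h1, h2, one_mul, hs.exp φ hφZ], ?_⟩
      rw [hs.cm_mul_right, show cm c₀ c₀ = 1 by unfold cm; group, one_mul]; exact hφ
    · refine ⟨d₀, c₀ * d₀, h2, by rw [hp, h1, h2, mul_one, hs.exp φ hφZ], ?_⟩
      rw [hs.cm_mul_right, show cm d₀ d₀ = 1 by unfold cm; group, mul_one, hs.cm_symm]; exact hφ
    · have hσd : σ d₀ * σ d₀ = σ φ := by rw [← map_mul, h2]
      have hσc : σ c₀ * σ c₀ = σ φ := by rw [← map_mul, h1]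
      have h1φ := fpf_mul σ h3 hfp φ
      refine ⟨c₀ * σ d₀, d₀ * σ c₀, ?_, ?_, ?_⟩
      · rw [prod_sq, h1, hσd, hs.cm_symm, (hs.cm_shift c₀ d₀).1]; exact h1φ
      · rw [prod_sq, h2, hσc, hs.cm_symm, (hs.cm_shift d₀ c₀).1, hs.cm_symm c₀ d₀]; exact h1φ
      · simp only [hs.cm_mul_left, hs.cm_mul_right]
        rw [cm_self_map hs c₀, hs.cm_symm d₀ (σ d₀), cm_self_map hs d₀, ← map_cm,
          hs.cm_symm c₀ d₀, ← hφdef, mul_one, one_mul]
        intro e
        apply hφ
        have h2φ : σ (σ φ) = 1 := by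
          rw [fpf_sq σ h3 hfp φ, e, inv_one]
        have := congrArg σ h2φ
        rwa [h3, map_one] at this
  obtain ⟨E⟩ := hs.equiv_U3 hT hu hv huv
  obtain ⟨S, ⟨eS⟩⟩ := U3.exists_sylow_equiv
  exact ⟨⟨K4, inferInstance, inferInstance, K4.card_eq, S, ⟨E.symm.trans eS⟩⟩, hD⟩

end Cfsg.Agent.S3157
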