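import Cfsg.Statements.S3158
import Mathlib
-- import your own Cfsg.Agent.* helpers here

set_option autoImplicit false
open Cfsg
open scoped Pointwise

namespace Cfsg.Agent.S3158

/-- Let U be a group of order q² with q = 2^n ≥ 2, and y an automorphism of U of order q − 1 all of whose nontrivial powers fix only the identity. Let V be a proper normal y-invariant subgroup of U such that V and U/V are elementary abelian 2-groups and there is an isomorphism from V to U/V commuting with the actions of y. Then U is abelian. -/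
theorem result {U : Type*} [Group U] [Finite U] (n : ℕ) (hn : 1 ≤ n) (hU : Nat.card U = (2 ^ n) ^ 2)
    (y : MulAut U) (hy : orderOf y = 2 ^ n - 1) (hfp : ∀ k : ℕ, y ^ k ≠ 1 → ∀ u : U, (y ^ k) u = u → u = 1)
    (V : Subgroup U) [V.Normal] (hV : V ≠ ⊤) (hyV : ∀ v ∈ V, y v ∈ V)
    (hVe : ∀ v ∈ V, v ^ 2 = 1) (hQe : ∀ u : U, u ^ 2 ∈ V) (hQc : ∀ u w : U, u * w * u⁻¹ * w⁻¹ ∈ V)
    (φ : ↥V ≃* U ⧸ V) (hφ : ∀ (v : ↥V) (u : U), (QuotientGroup.mk u : U ⧸ V) = φ v → φ ⟨y v, hyV v v.2⟩ = QuotientGroup.mk (y u)) :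
    IsMulCommutative U := by
  haveI hpU : Fact (Nat.Prime 2) := ⟨Nat.prime_two⟩
  have hU2 : IsPGroup 2 U := IsPGroup.of_card (n := n * 2) (by rw [hU, pow_mul])
  set q := 2 ^ n with hq
  have hq2 : 2 ≤ q := Nat.le_self_pow (by omega) 2
  have hVQ : Nat.card V = Nat.card (U ⧸ V) := Nat.card_congr φ.toEquiv
  have hVc : Nat.card V = q := by
    have h1 := Subgroup.card_eq_card_quotient_mul_card_subgroup V
    rw [hU, ← hVQ, ← sq] at h1
    exact (pow_left_injective (by norm_num : (2:ℕ) ≠ 0) h1.symm)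
  have hVk : ∀ k : ℕ, ∀ v ∈ V, (y ^ k) v ∈ V := by
    intro k
    induction k with
    | zero => intro v hv; simpa using hv
    | succ k ih => intro v hv; rw [pow_succ']; exact hyV _ (ih v hv)
  have trans : ∀ v ∈ V, v ≠ 1 → ∀ w ∈ V, w ≠ 1 → ∃ k : ℕ, (y ^ k) v = w := by
    intro v hv hv1 w hw hw1
    let f : Fin (q - 1) → {x : V // x ≠ 1} := fun i => ⟨⟨(y ^ (i:ℕ)) v, hVk _ v hv⟩, fun h => hv1 (by
      have h' : (y ^ (i:ℕ)) v = 1 := congrArg Subtype.val h
      exact (map_eq_one_iff _ (y ^ (i:ℕ)).injective).1 h')⟩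
    have hf : Function.Injective f := by
      intro i j hij
      have h1 : (y ^ (i:ℕ)) v = (y ^ (j:ℕ)) v := congrArg (fun x : {x : V // x ≠ 1} => ((x : V) : U)) hij
      by_contra hne
      wlog hlt : (i:ℕ) < (j:ℕ) generalizing i j
      · exact this hij.symm h1.symm (Ne.symm hne) (by
          have : (i:ℕ) ≠ (j:ℕ) := fun e => hne (Fin.ext e)
          omega)
      have h2 : (y ^ ((j:ℕ) - i)) v = v := (y ^ (i:ℕ)).injective (by
        rw [← MulAut.mul_apply, ← pow_add, Nat.add_sub_cancel' hlt.le]; exact h1.symm)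
      refine hv1 (hfp _ ?_ v h2)
      intro h3
      have hd := orderOf_dvd_of_pow_eq_one h3
      rw [hy] at hd
      have := Nat.le_of_dvd (by omega) hd
      omega
    have hcard : Nat.card {x : V // x ≠ 1} = q - 1 := by
      haveI := Fintype.ofFinite V
      classical
      rw [Nat.card_eq_fintype_card, Fintype.card_subtype_compl, Fintype.card_subtype_eq, ← Nat.card_eq_fintype_card, hVc]
    have hb : Function.Bijective f := by
      haveI := Fintype.ofFinite {x : V // x ≠ 1}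
      rw [Fintype.bijective_iff_injective_and_card]
      exact ⟨hf, by rw [Fintype.card_fin, ← Nat.card_eq_fintype_card, hcard]⟩
    obtain ⟨i, hi⟩ := hb.2 ⟨⟨w, hw⟩, fun h => hw1 (congrArg Subtype.val h)⟩
    exact ⟨i, congrArg (fun x : {x : V // x ≠ 1} => ((x : V) : U)) hi⟩
  haveI hVnt : Nontrivial V := Finite.one_lt_card_iff_nontrivial.1 (by rw [hVc]; omega)
  have cent : ∀ v ∈ V, v ∈ Subgroup.center U := by
    haveI : Group.IsNilpotent U := hU2.isNilpotent
    have hne : V ⊓ Subgroup.center U ≠ ⊥ := by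
      have hp : IsPGroup 2 (ConjAct U) := hU2.of_equiv ConjAct.toConjAct
      have hdv : 2 ∣ Nat.card V := by rw [hVc, hq]; exact dvd_pow_self 2 (by omega)
      have h1 : (1 : V) ∈ MulAction.fixedPoints (ConjAct U) V := fun g => smul_one g
      obtain ⟨v, hv, hv1⟩ := hp.exists_fixed_point_of_prime_dvd_card_of_fixed_point V hdv h1
      intro hb
      refine hv1 (Subtype.ext ?_)
      have : (v : U) ∈ V ⊓ Subgroup.center U := ⟨v.2, Subgroup.mem_center_iff.2 fun g => by
        have h2 := congrArg Subtype.val (hv (ConjAct.toConjAct g))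
        rw [ConjAct.Subgroup.val_conj_smul, ConjAct.toConjAct_smul] at h2
        exact mul_inv_eq_iff_eq_mul.1 h2⟩
      rw [hb, Subgroup.mem_bot] at this
      exact this.symm
    obtain ⟨⟨z, hz⟩, hz0⟩ := Subgroup.ne_bot_iff_exists_ne_one.1 hne
    have hz1 : z ≠ 1 := fun h => hz0 (Subtype.ext h)
    intro v hv
    by_cases hv1 : v = 1
    · subst hv1; exact one_mem _
    obtain ⟨k, hk⟩ := trans z hz.1 hz1 v hv hv1
    rw [← hk, Subgroup.mem_center_iff]
    intro g
    obtain ⟨g', rfl⟩ := (y ^ k).surjective g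
    rw [← map_mul, ← map_mul, Subgroup.mem_center_iff.1 hz.2 g']
  have equiv : ∀ (v : V) (u : U) (k : ℕ), φ v = (QuotientGroup.mk u : U ⧸ V) →
      φ ⟨(y ^ k) v, hVk k v v.2⟩ = QuotientGroup.mk ((y ^ k) u) := by
    intro v u k h
    induction k with
    | zero => simpa using h
    | succ k ih =>
      have := hφ ⟨(y ^ k) v, hVk k v v.2⟩ ((y ^ k) u) ih.symm
      simpa [pow_succ', MulAut.mul_apply] using this
  have sq_mul : ∀ a v : U, v ∈ V → (a * v) ^ 2 = a ^ 2 := by
    intro a v hv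
    have hc : Commute a v := Subgroup.mem_center_iff.1 (cent v hv) a
    rw [hc.mul_pow, hVe v hv, mul_one]
  obtain ⟨v0, hv0⟩ := exists_ne (1 : V)
  obtain ⟨u0, hu0⟩ := QuotientGroup.mk_surjective (φ v0)
  have rep : ∀ u : U, u ∈ V ∨ ∃ k : ℕ, (y ^ k) u0⁻¹ * u ∈ V := by
    intro u
    by_cases hu : u ∈ V
    · exact Or.inl hu
    right
    obtain ⟨w, hw⟩ := φ.surjective (QuotientGroup.mk u)
    have hw1 : (w : U) ≠ 1 := fun h => hu (by
      have : w = 1 := Subtype.ext h
      rw [this, map_one] at hw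
      exact (QuotientGroup.eq_one_iff u).1 hw.symm)
    obtain ⟨k, hk⟩ := trans v0 v0.2 (fun h => hv0 (Subtype.ext h)) w w.2 hw1
    refine ⟨k, ?_⟩
    have := equiv v0 u0 k hu0.symm
    rw [show (⟨(y ^ k) v0, hVk k v0 v0.2⟩ : V) = w from Subtype.ext hk, hw] at this
    rw [map_inv]
    exact QuotientGroup.eq.1 this.symm
  -- squaring is a homomorphism `U → U`
  have main : ∀ a b : U, (a * b) ^ 2 = a ^ 2 * b ^ 2 := by
    have sqk : ∀ k : ℕ, ∀ u : U, (y ^ k) u0⁻¹ * u ∈ V → u ^ 2 = (y ^ k) (u0 ^ 2) := by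
      intro k u h
      have := sq_mul ((y ^ k) u0) _ h
      rw [← mul_assoc, ← map_mul, mul_inv_cancel, map_one, one_mul, ← map_pow] at this
      exact this
    by_cases h0 : u0 ^ 2 = 1
    · have : ∀ u : U, u ^ 2 = 1 := fun u => (rep u).elim (hVe u) fun ⟨k, hk⟩ => by rw [sqk k u hk, h0, map_one]
      intro a b; rw [this, this, this, one_mul]
    obtain ⟨j, hj⟩ := trans v0 v0.2 (fun h => hv0 (Subtype.ext h)) (u0 ^ 2) (hQe u0) h0
    have key : ∀ u : U, ∀ w : V, φ w = QuotientGroup.mk u → (y ^ j) (w : U) = u ^ 2 := by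
      intro u w hw
      rcases rep u with hu | ⟨k, hk⟩
      · rw [(QuotientGroup.eq_one_iff u).2 hu, map_eq_one_iff _ φ.injective] at hw
        rw [hw, hVe u hu, OneMemClass.coe_one, map_one]
      · rw [sqk k u hk, ← hj]
        have := equiv v0 u0 k hu0.symm
        rw [QuotientGroup.eq.2 (by rw [← map_inv]; exact hk : ((y ^ k) u0)⁻¹ * u ∈ V), ← hw] at this
        rw [← congrArg Subtype.val (φ.injective this)]
        show (y ^ j) ((y ^ k) (v0 : U)) = (y ^ k) ((y ^ j) (v0 : U))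
        rw [← MulAut.mul_apply, ← MulAut.mul_apply, pow_mul_comm]
    intro a b
    obtain ⟨wa, ha⟩ := φ.surjective (QuotientGroup.mk a)
    obtain ⟨wb, hb⟩ := φ.surjective (QuotientGroup.mk b)
    rw [← key a wa ha, ← key b wb hb, ← key (a * b) (wa * wb) (by rw [map_mul, ha, hb, QuotientGroup.mk_mul]), Subgroup.coe_mul, map_mul]
  refine ⟨⟨fun a b => ?_⟩⟩
  have h := main a b
  have : b * a = a * b := by
    calc b * a = a⁻¹ * (a * b) ^ 2 * b⁻¹ := by rw [sq]; group
      _ = a⁻¹ * (a ^ 2 * b ^ 2) * b⁻¹ := by rw [h]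
      _ = a * b := by rw [sq, sq]; group
  exact this.symm

end Cfsg.Agent.S3158
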