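import Cfsg.Statements.S3161
import Cfsg.Agent.Lib.SuzukiTypeForm65
import Cfsg.Agent.Lib.SuzukiTypeModels65

set_option autoImplicit false
open Cfsg

namespace Cfsg.Agent.S3161

/-- Let Q be a non-abelian finite 2-group admitting commuting automorphisms α of order 2 and ρ of order 2^n − 1, where n ≥ 2, such that the fixed points of α form an elementary abelian subgroup of order 2^n on whose nonidentity elements the group generated by ρ acts transitively. Then Q is isomorphic to a Sylow 2-subgroup of the projective special unitary group of dimension 3 with parameter 2^n (realised over the field with 4^n elements) or of the projective special linear group of dimension 3 over the field with 2^n elements. -/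
theorem result {Q : Type*} [Group Q] [Finite Q] (hQ : IsPGroup 2 Q) (hna : ¬ IsMulCommutative Q) (n : ℕ) (hn : 2 ≤ n)
    (α ρ : MulAut Q) (hα : orderOf α = 2) (hρ : orderOf ρ = 2 ^ n - 1) (hc : Commute α ρ)
    (C : Subgroup Q) (hC : ∀ x : Q, x ∈ C ↔ α x = x) (hCE : Cfsg.IsElementaryAbelian 2 C ∧ Nat.card ↥C = 2 ^ n)
    (htr : ∀ x y : Q, x ∈ C → y ∈ C → x ≠ 1 → y ≠ 1 → ∃ k : ℕ, (ρ ^ k) x = y) :
    (∃ (F : Type) (_ : Field F) (_ : Fintype F), Fintype.card F = 4 ^ n ∧
        ∃ S : Sylow 2 (Cfsg.PSU 3 F (2 ^ n)), Nonempty (Q ≃* ↥(S : Subgroup (Cfsg.PSU 3 F (2 ^ n))))) ∨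
      (∃ (F : Type) (_ : Field F) (_ : Fintype F), Fintype.card F = 2 ^ n ∧
        ∃ S : Sylow 2 (Matrix.ProjectiveSpecialLinearGroup (Fin 3) F), Nonempty (Q ≃* ↥(S : Subgroup (Matrix.ProjectiveSpecialLinearGroup (Fin 3) F)))) := by
  classical
  have hiter : ∀ (k : ℕ) (x : Q), (ρ ^ k) x = (⇑ρ)^[k] x := by
    intro k x
    induction k with
    | zero => rfl
    | succ k ih => rw [pow_succ', MulAut.mul_apply, ih, Function.iterate_succ_apply']
  have hinv : ∀ x, α (α x) = x := fun x => by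
    have h : α ^ 2 = 1 := by rw [← hα]; exact pow_orderOf_eq_one α
    rw [pow_two] at h
    exact DFunLike.congr_fun h x
  let T : Cfsg.Agent.SuzukiTypeStructure65.Setting Q n :=
    { pg := hQ, α := α, ρ := ρ, invo := hinv
      comm := fun x => DFunLike.congr_fun hc x
      C := C, fix := hC
      sq := fun x hx => by
        have := hCE.1.2 x hx
        rwa [pow_two] at this
      card := hCE.2, two_le := hn
      tr := fun x y hx hy hx1 hy1 => by
        obtain ⟨k, hk⟩ := htr x y hx hy hx1 hy1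
        exact ⟨k, (hiter k x).symm.trans hk⟩ }
  have hρ' : ∀ x, (⇑T.ρ)^[2 ^ n - 1] x = x := fun x => by
    show (⇑ρ)^[2 ^ n - 1] x = x
    rw [← hiter, ← hρ, pow_orderOf_eq_one]; rfl
  have hna' : ¬ ∀ a b : Q, a * b = b * a := fun h => hna ⟨⟨h⟩⟩
  obtain ⟨F, iF, iFi, iC, hF, p, i, A, c, S, hc0, hp, hi, hk, hq⟩ := T.exists_form hna' hρ'
  obtain ⟨p', i', hp', hi', hk', h | ⟨T', hT', h⟩⟩ :=
    Cfsg.Agent.SuzukiTypeStructure65.normalize p i hc0 hp hi hk hq
  · right
    obtain ⟨e⟩ := Cfsg.Agent.SuzukiTypeModels65.iso_UT p' i' hp' hi' hk' h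
    obtain ⟨P, ⟨e'⟩⟩ := Cfsg.Agent.SuzukiTypeModels65.UT.exists_sylow_equiv (F := F)
    exact ⟨F, iF, iFi, hF, P, ⟨e.trans e'⟩⟩
  · left
    exact Cfsg.Agent.SuzukiTypeModels65.iso_HU (by omega) hF p' i' hp' hi' hk' hT' h


end Cfsg.Agent.S3161
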