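import Cfsg.Statements.S3162
import Cfsg.Agent.Lib.SU3TwoHeisEmbed
import Cfsg.Agent.Lib.SU3TwoHeisAut
-- import your own Cfsg.Agent.* helpers here

set_option autoImplicit false
set_option linter.style.haveILetI false
open Cfsg

namespace Cfsg.Agent.S3162

open Cfsg.Agent.SU3TwoHeis Cfsg.Agent.SU3TwoHeisAut

/-- Let S be a Sylow 2-subgroup of the special unitary group of dimension 3 with parameter q = 2^n (n ≥ 2; realised over the field with q² elements). Then the largest normal 2-subgroup of the automorphism group of S is elementary abelian of order 2^(2n²), and the automorphism group has order 2^(2n²) · 2n(q² − 1). -/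
theorem result {S : Type*} [Group S] [Finite S] (n : ℕ) (hn : 2 ≤ n) {F : Type*} [Field F] [Fintype F] (hF : Fintype.card F = 4 ^ n)
    (P : Sylow 2 ↥(Cfsg.SU 3 F (2 ^ n))) (hS : Nonempty (S ≃* ↥(P : Subgroup ↥(Cfsg.SU 3 F (2 ^ n))))) :
    Cfsg.IsElementaryAbelian 2 (Cfsg.pCore 2 (MulAut S)) ∧ Nat.card ↥(Cfsg.pCore 2 (MulAut S)) = 2 ^ (2 * n ^ 2) ∧
      Nat.card (MulAut S) = 2 ^ (2 * n ^ 2) * (2 * n * ((2 ^ n) ^ 2 - 1)) := by
  classical
  have hF' : Fintype.card F = (2 ^ n) ^ 2 := by rw [hF, ← pow_mul, mul_comm, pow_mul]; norm_num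
  obtain ⟨_, σ, _, hσ, hne, hk, -, hP, -⟩ := SU3TwoHeisEmbed.exists_model (show 1 ≤ n by omega) hF'
  obtain ⟨e₁⟩ := hP P
  obtain ⟨e₀⟩ := hS
  let ψ : MulAut S ≃* MulAut (HU σ) := MulAut.congr (e₀.trans e₁)
  obtain ⟨N, hN, ⟨hNc, hN2⟩, hNcard, -⟩ := pCore_data hne hσ
  have hcore : Cfsg.pCore 2 (MulAut S) = N.comap ψ.toMonoidHom := by
    rw [← hN]
    refine le_antisymm (sSup_le fun Q ⟨hQn, hQ⟩ => ?_) ?_
    · refine Subgroup.map_le_iff_le_comap.1 (le_sSup ⟨hQn.map _ ψ.surjective, hQ.map _⟩)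
    · intro x hx
      rw [Subgroup.mem_comap, hN] at hx
      refine (le_sSup (s := {Q : Subgroup (MulAut S) | Q.Normal ∧ IsPGroup 2 Q}) (a := N.comap ψ.toMonoidHom)
        ⟨?_, ?_⟩) hx
      · haveI : N.Normal := hN ▸ ⟨fun a ha b => by
          have hsup : (Cfsg.pCore 2 (MulAut (HU σ))).Normal := Subgroup.sSup_normal _ fun Q hQ => hQ.1
          exact hsup.conj_mem a ha b⟩
        exact Subgroup.Normal.comap inferInstance _
      · exact fun a => ⟨1, Subtype.ext (ψ.injective (by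
          rw [pow_one, SubmonoidClass.coe_pow, map_pow, OneMemClass.coe_one, map_one]; exact hN2 _ a.2))⟩
  have hcard : Nat.card ↥(Cfsg.pCore 2 (MulAut S)) = 2 ^ (2 * n ^ 2) := by
    rw [hcore, ← card_addHom (σ := σ) hF hk, ← hNcard]
    exact Nat.card_congr
      { toFun := fun a => ⟨ψ a.1, a.2⟩
        invFun := fun b => ⟨ψ.symm b.1, by rw [Subgroup.mem_comap]; simpa using b.2⟩
        left_inv := fun a => Subtype.ext (ψ.symm_apply_apply _)
        right_inv := fun b => Subtype.ext (ψ.apply_symm_apply _) }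
  refine ⟨?_, hcard, ?_⟩
  · rw [hcore]
    refine ⟨⟨⟨fun a b => Subtype.ext (ψ.injective ?_)⟩⟩, fun a ha => ψ.injective ?_⟩
    · show ψ (a.1 * b.1) = ψ (b.1 * a.1)
      rw [map_mul, map_mul]
      exact congrArg Subtype.val (hNc.1.1 ⟨_, a.2⟩ ⟨_, b.2⟩)
    · rw [map_pow, map_one]; exact hN2 _ ha
  · rw [Nat.card_congr ψ.toEquiv, card_mulAut hne hσ, card_addHom (σ := σ) hF hk, card_ringAut hF,
      Nat.card_units, Nat.card_eq_fintype_card, hF']
    ring

end Cfsg.Agent.S3162
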