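import Cfsg.Statements.S3163
import Mathlib
-- import your own Cfsg.Agent.* helpers here

set_option autoImplicit false
open Cfsg
open scoped Pointwise

namespace Cfsg.Agent.S3163

theorem bound {S : Type*} [Group S] [Finite S] (C A B : Subgroup S) (h : ∀ s : S, ∃ b ∈ B, ∃ a ∈ A, s = b * a)
    (h' : C ⊓ A ≤ B ⊓ A) : Nat.card C ≤ Nat.card B := by
  have e : ∀ X : Subgroup S, Nat.card X = Nat.card ↥(A ⊓ X) * A.relIndex X := fun X => by
    rw [← Subgroup.inf_relIndex_right A X, ← Nat.card_congr (Subgroup.subgroupOfEquivOfLe (inf_le_right : A ⊓ X ≤ X)).toEquiv]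
    exact (Subgroup.card_mul_index _).symm
  have h1 : A.relIndex C ≤ A.index := by
    rw [← Subgroup.relIndex_top_right]
    exact Subgroup.relIndex_le_of_le_right le_top Subgroup.index_ne_zero_of_finite
  have h2 : A.index ≤ A.relIndex B := by
    refine Nat.card_le_card_of_surjective
      (Quotient.map' (fun b : B => (b : S)) ?_ : B ⧸ A.subgroupOf B → S ⧸ A) ?_
    · intro x y hxy
      rw [QuotientGroup.leftRel_apply] at hxy ⊢
      exact hxy
    · intro q
      obtain ⟨s, rfl⟩ := QuotientGroup.mk_surjective q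
      obtain ⟨b, hb, a, ha, rfl⟩ := h s
      refine ⟨QuotientGroup.mk ⟨b, hb⟩, ?_⟩
      exact (QuotientGroup.eq.2 (by simpa using ha))
  rw [e C, e B]
  exact Nat.mul_le_mul (Subgroup.card_le_of_le (by rwa [inf_comm A C, inf_comm A B])) (h1.trans h2)

/-- Let S be a non-abelian finite 2-group which is the product S = AB of two elementary abelian subgroups A and B, and suppose that the centralizer in S of every element of A outside B is exactly A. Then the centralizer of every element of B outside A is exactly B; A and B are maximal elementary abelian subgroups of S and the only ones; the centre of S is A ∩ B; and every element of S outside A ∪ B has centralizer of order at most min(|A|, |B|). -/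
theorem result {S : Type*} [Group S] [Finite S] (hS : IsPGroup 2 S) (hna : ¬ IsMulCommutative S) (A B : Subgroup S)
    (hA : Cfsg.IsElementaryAbelian 2 A) (hB : Cfsg.IsElementaryAbelian 2 B) (hAB : ∀ s : S, ∃ a ∈ A, ∃ b ∈ B, s = a * b)
    (hC : ∀ a ∈ A, a ∉ B → Subgroup.centralizer ({a} : Set S) = A) :
    (∀ b ∈ B, b ∉ A → Subgroup.centralizer ({b} : Set S) = B) ∧
      (∀ E : Subgroup S, Cfsg.IsElementaryAbelian 2 E → (∀ E' : Subgroup S, Cfsg.IsElementaryAbelian 2 E' → E ≤ E' → E' = E) → E = A ∨ E = B) ∧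
      (∀ E' : Subgroup S, Cfsg.IsElementaryAbelian 2 E' → A ≤ E' → E' = A) ∧ (∀ E' : Subgroup S, Cfsg.IsElementaryAbelian 2 E' → B ≤ E' → E' = B) ∧
      Subgroup.center S = A ⊓ B ∧
      (∀ x : S, x ∉ A → x ∉ B → Nat.card ↥(Subgroup.centralizer ({x} : Set S)) ≤ min (Nat.card ↥A) (Nat.card ↥B)) := by
  haveI := hA.1
  haveI := hB.1
  have cA : ∀ a ∈ A, ∀ a' ∈ A, a * a' = a' * a := fun a ha a' ha' =>
    congrArg Subtype.val (hA.1.is_comm.comm ⟨a, ha⟩ ⟨a', ha'⟩)
  have cB : ∀ a ∈ B, ∀ a' ∈ B, a * a' = a' * a := fun a ha a' ha' =>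
    congrArg Subtype.val (hB.1.is_comm.comm ⟨a, ha⟩ ⟨a', ha'⟩)
  have hz : ∀ z ∈ A, z ∈ B → z ∈ Subgroup.center S := by
    intro z hzA hzB
    rw [Subgroup.mem_center_iff]
    intro s
    obtain ⟨a, ha, b, hb, rfl⟩ := hAB s
    rw [mul_assoc, cB b hb z hzB, ← mul_assoc, cA a ha z hzA, mul_assoc]
  have nAB : ∃ a ∈ A, a ∉ B := by
    by_contra h
    push Not at h
    apply hna
    refine ⟨⟨fun s t => ?_⟩⟩
    obtain ⟨a, ha, b, hb, rfl⟩ := hAB s
    obtain ⟨c, hc, d, hd, rfl⟩ := hAB t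
    exact cB _ (B.mul_mem (h a ha) hb) _ (B.mul_mem (h c hc) hd)
  have nBA : ∃ b ∈ B, b ∉ A := by
    by_contra h
    push Not at h
    apply hna
    refine ⟨⟨fun s t => ?_⟩⟩
    obtain ⟨a, ha, b, hb, rfl⟩ := hAB s
    obtain ⟨c, hc, d, hd, rfl⟩ := hAB t
    exact cA _ (A.mul_mem ha (h b hb)) _ (A.mul_mem hc (h d hd))
  have memC : ∀ {x y : S}, y ∈ Subgroup.centralizer ({x} : Set S) ↔ y * x = x * y := by
    intro x y; exact Subgroup.mem_centralizer_singleton_iff
  have key : ∀ a ∈ A, a ∉ B → ∀ b ∈ B, a * b = b * a → b ∈ A := by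
    intro a ha ha' b _ h
    rw [← hC a ha ha', memC]; exact h.symm
  have hCB : ∀ b ∈ B, b ∉ A → Subgroup.centralizer ({b} : Set S) = B := by
    intro b hb hb'
    refine le_antisymm (fun x hx => ?_) (fun x hx => memC.2 (cB x hx b hb))
    obtain ⟨a, ha, c, hc, rfl⟩ := hAB x
    rw [memC, mul_assoc, cB c hc b hb, ← mul_assoc, ← mul_assoc] at hx
    refine B.mul_mem ?_ hc
    by_contra haB
    exact hb' (key a ha haB b hb (mul_right_cancel hx))
  have inv : ∀ x : S, x ^ 2 = 1 → x ∈ A ∨ x ∈ B := by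
    intro x hx
    obtain ⟨a, ha, b, hb, rfl⟩ := hAB x
    have a2 : a * a = 1 := by simpa [sq] using hA.2 a ha
    have b2 : b * b = 1 := by simpa [sq] using hB.2 b hb
    have hab : a * b = b * a := by
      have h1 : (a * b) * (a * b) = 1 := by simpa [sq] using hx
      calc a * b = a * b * ((b * b) * (a * a)) := by rw [a2, b2, one_mul, mul_one]
        _ = (a * (b * b)) * (b * (a * a)) := by group
        _ = _ := by rw [b2, a2, mul_one, mul_one]; exact (eq_inv_of_mul_eq_one_left h1).trans (by rw [mul_inv_rev, inv_eq_of_mul_eq_one_right a2, inv_eq_of_mul_eq_one_right b2])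
    by_cases haB : a ∈ B
    · exact Or.inr (B.mul_mem haB hb)
    · exact Or.inl (A.mul_mem ha (key a ha haB b hb hab))
  have sub : ∀ E : Subgroup S, Cfsg.IsElementaryAbelian 2 E → E ≤ A ∨ E ≤ B := by
    intro E hE
    by_contra h
    push Not at h
    obtain ⟨e, he, heA⟩ := SetLike.not_le_iff_exists.1 h.1
    obtain ⟨f, hf, hfB⟩ := SetLike.not_le_iff_exists.1 h.2
    have heB := (inv e (hE.2 e he)).resolve_left heA
    have hfA := (inv f (hE.2 f hf)).resolve_right hfB
    rcases inv (e * f) (hE.2 _ (E.mul_mem he hf)) with h' | h'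
    · exact heA ((Subgroup.mul_mem_cancel_right A hfA).1 h')
    · exact hfB ((Subgroup.mul_mem_cancel_left B heB).1 h')
  have mA : ∀ E' : Subgroup S, Cfsg.IsElementaryAbelian 2 E' → A ≤ E' → E' = A := by
    intro E hE hle
    rcases sub E hE with h | h
    · exact le_antisymm h hle
    · obtain ⟨a, ha, ha'⟩ := nAB; exact absurd (h (hle ha)) ha'
  have mB : ∀ E' : Subgroup S, Cfsg.IsElementaryAbelian 2 E' → B ≤ E' → E' = B := by
    intro E hE hle
    rcases sub E hE with h | h
    · obtain ⟨a, ha, ha'⟩ := nBA; exact absurd (h (hle ha)) ha'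
    · exact le_antisymm h hle
  refine ⟨hCB, fun E hE hmax => ?_, mA, mB, ?_, ?_⟩
  · rcases sub E hE with h | h
    · exact Or.inl (hmax A hA h).symm
    · exact Or.inr (hmax B hB h).symm
  · refine le_antisymm (fun z hz' => ?_) (fun z hz' => hz z hz'.1 hz'.2)
    obtain ⟨a, ha, ha'⟩ := nAB
    obtain ⟨b, hb, hb'⟩ := nBA
    refine ⟨?_, ?_⟩
    · show z ∈ A
      rw [← hC a ha ha', memC]; exact (Subgroup.mem_center_iff.1 hz' a).symm
    · show z ∈ B
      rw [← hCB b hb hb', memC]; exact (Subgroup.mem_center_iff.1 hz' b).symm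
  · intro x hxA hxB
    obtain ⟨a, ha, b, hb, rfl⟩ := hAB x
    have ha' : a ∉ B := fun h => hxB (B.mul_mem h hb)
    have hb' : b ∉ A := fun h => hxA (A.mul_mem ha h)
    set C := Subgroup.centralizer ({a * b} : Set S)
    have iA : C ⊓ A ≤ A ⊓ B := by
      rintro c ⟨hc, hcA⟩
      refine ⟨hcA, ?_⟩
      show c ∈ B
      rw [← hCB b hb hb', memC]
      have h := memC.1 hc
      rw [← mul_assoc, cA c hcA a ha, mul_assoc, mul_assoc] at h
      exact mul_left_cancel h
    have iB : C ⊓ B ≤ A ⊓ B := by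
      rintro c ⟨hc, hcB⟩
      refine ⟨?_, hcB⟩
      show c ∈ A
      rw [← hC a ha ha', memC]
      have h := memC.1 hc
      rw [mul_assoc a b c, cB b hb c hcB, ← mul_assoc, ← mul_assoc] at h
      exact mul_right_cancel h
    refine le_min (bound C B A (fun s => ?_) iB) (bound C A B (fun s => ?_) (iA.trans (le_of_eq (inf_comm _ _))))
    · obtain ⟨u, hu, v, hv, huv⟩ := hAB s
      exact ⟨u, hu, v, hv, huv⟩
    · obtain ⟨u, hu, v, hv, huv⟩ := hAB s⁻¹
      exact ⟨v⁻¹, B.inv_mem hv, u⁻¹, A.inv_mem hu, by rw [← inv_inv s, huv, mul_inv_rev]⟩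

end Cfsg.Agent.S3163
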