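import Cfsg.Statements.S3164
import Mathlib
import Cfsg.Agent.Lib.ComponentsFitting
-- import your own Cfsg.Agent.* helpers here

set_option autoImplicit false
set_option linter.style.haveILetI false
open Cfsg

namespace Cfsg.Agent.S3164

open scoped commutatorElement
open Subgroup Cfsg.Agent.ComponentsBasic Cfsg.Agent.ComponentsCores Cfsg.Agent.ComponentsFitting

variable {X : Type*} [Group X] [Finite X]

/-- An element squaring to `1` in a group of odd order is trivial. -/
theorem eq_one_of_sq {O : Subgroup X} (hodd : Odd (Nat.card O)) {x : X} (hx : x ∈ O) (h : x * x = 1) :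
    x = 1 := by
  obtain ⟨k, hk⟩ := hodd
  have h1 : (⟨x, hx⟩ : O) ^ Nat.card O = 1 := pow_card_eq_one'
  have h2 : x ^ Nat.card O = 1 := congrArg Subtype.val h1
  rwa [hk, pow_add, pow_mul, sq, h, one_pow, one_mul, pow_one] at h2

theorem sq_inj {O : Subgroup X} (hodd : Odd (Nat.card O)) {x y : X} (hx : x ∈ O) (hy : y ∈ O)
    (h : x * x = y * y) : x = y := by
  obtain ⟨k, hk⟩ := hodd
  have hpow : ∀ z ∈ O, (z * z) ^ (k + 1) = z := fun z hz => by
    have h1 : z ^ Nat.card O = 1 := congrArg Subtype.val (pow_card_eq_one' : (⟨z, hz⟩ : O) ^ Nat.card O = 1)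
    rw [hk] at h1
    rw [← sq, ← pow_mul, show 2 * (k + 1) = 2 * k + 1 + 1 by ring, pow_succ, h1, one_mul]
  rw [← hpow x hx, h, hpow y hy]

theorem exists_sqrt {O : Subgroup X} (hodd : Odd (Nat.card O)) {x : X} (hx : x ∈ O) :
    ∃ h ∈ O, h * h = x ∧ ∀ φ : X ≃* X, φ x = x⁻¹ → φ h = h⁻¹ := by
  obtain ⟨k, hk⟩ := hodd
  have h1 : x ^ Nat.card O = 1 := congrArg Subtype.val (pow_card_eq_one' : (⟨x, hx⟩ : O) ^ Nat.card O = 1)
  refine ⟨x ^ (k + 1), O.pow_mem hx _, ?_, fun φ hφ => by rw [map_pow, hφ, inv_pow]⟩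
  rw [← pow_add, show k + 1 + (k + 1) = 2 * k + 1 + 1 by ring, pow_succ, ← hk, h1, one_mul]

/-- Two commuting involutory automorphisms of an odd order group with the same fixed points
have trivial product. -/
theorem eq_of_same_fixed {O : Subgroup X} (hodd : Odd (Nat.card O)) (T U : X ≃* X)
    (hT : ∀ x, T (T x) = x) (hU : ∀ x, U (U x) = x) (hTU : ∀ x, T (U x) = U (T x))
    (hTO : ∀ x ∈ O, T x ∈ O) (hUO : ∀ x ∈ O, U x ∈ O)
    (hfix : ∀ x ∈ O, (T x = x ↔ U x = x)) : ∀ x ∈ O, T x = U x := by
  have inv_case : ∀ j ∈ O, T j = j⁻¹ → U j = j⁻¹ := by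
    intro j hj hTj
    obtain ⟨h, hh, hsq, hφ⟩ := exists_sqrt hodd (O.mul_mem (O.inv_mem hj) (hUO j hj))
    have hUh : U h = h⁻¹ := hφ U (by rw [map_mul, map_inv, hU, mul_inv_rev, inv_inv])
    have hUj : U j = j * (h * h) := by rw [hsq, mul_inv_cancel_left]
    have hc : U (j * h) = j * h := by rw [map_mul, hUj, hUh]; group
    have hTc : T (j * h) = j * h := (hfix _ (O.mul_mem hj hh)).2 hc
    have hTh : T h = j * j * h := by
      rw [map_mul, hTj] at hTc
      rw [mul_assoc, ← hTc, mul_inv_cancel_left]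
    have h2 : U j * U j * h⁻¹ = h⁻¹ * (j * j)⁻¹ := by
      have h3 : U (T h) = U (j * j * h) := congrArg U hTh
      rw [← hTU, hUh, map_inv, hTh, map_mul, map_mul, hUh] at h3
      rw [← h3, mul_inv_rev]
    have h4 : U j * U j = (h⁻¹ * j⁻¹ * h) * (h⁻¹ * j⁻¹ * h) := by
      calc U j * U j = U j * U j * h⁻¹ * h := by group
        _ = h⁻¹ * (j * j)⁻¹ * h := by rw [h2]
        _ = _ := by group
    have h5 := sq_inj hodd (hUO j hj)
      (O.mul_mem (O.mul_mem (O.inv_mem hh) (O.inv_mem hj)) hh) h4
    have h6 : (j * h) * (j * h) = 1 := by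
      calc (j * h) * (j * h) = j * h * (j * (h * h)) * h⁻¹ := by group
        _ = j * h * (h⁻¹ * j⁻¹ * h) * h⁻¹ := by rw [← hUj, h5]
        _ = 1 := by group
    have h7 : h = j⁻¹ := eq_inv_of_mul_eq_one_right (eq_one_of_sq hodd (O.mul_mem hj hh) h6)
    rw [hUj, h7]; group
  intro x hx
  obtain ⟨h, hh, hsq, hφ⟩ := exists_sqrt hodd (O.mul_mem (O.inv_mem hx) (hTO x hx))
  have hTh : T h = h⁻¹ := hφ T (by rw [map_mul, map_inv, hT, mul_inv_rev, inv_inv])
  have hTx : T x = x * (h * h) := by rw [hsq, mul_inv_cancel_left]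
  have hc : T (x * h) = x * h := by rw [map_mul, hTx, hTh]; group
  have hUc : U (x * h) = x * h := (hfix _ (O.mul_mem hx hh)).1 hc
  rw [map_mul, inv_case h hh hTh] at hUc
  rw [hTx]
  calc x * (h * h) = x * h * h := by group
    _ = U x * h⁻¹ * h := by rw [hUc]
    _ = U x := by group

theorem unique_involution {C : Subgroup X} (hr : Cfsg.PRankLE 2 1 ↥C) {a b : X} (ha : a ∈ C)
    (hb : b ∈ C) (ha2 : a * a = 1) (hb2 : b * b = 1) (hab : a * b = b * a) (ha1 : a ≠ 1)
    (hb1 : b ≠ 1) : a = b := by
  by_contra hne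
  let α : C := ⟨a, ha⟩
  let β : C := ⟨b, hb⟩
  let A : Subgroup C := closure {α, β}
  have hcomm : ∀ x ∈ ({α, β} : Set C), ∀ y ∈ ({α, β} : Set C), x * y = y * x := by
    rintro x (rfl | rfl) y (rfl | rfl) <;> first | rfl | exact Subtype.ext hab | exact Subtype.ext hab.symm
  haveI hA : IsMulCommutative A := isMulCommutative_closure hcomm
  have hsq : ∀ x ∈ A, x ^ 2 = 1 := by
    intro x hx
    induction hx using closure_induction with
    | mem x hx =>
      rcases hx with rfl | rfl
      · exact Subtype.ext (by simpa [sq] using ha2)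
      · exact Subtype.ext (by simpa [sq] using hb2)
    | one => simp
    | mul x y hx hy h1 h2 =>
      have hc : Commute x y := congrArg Subtype.val (hA.is_comm.comm ⟨x, hx⟩ ⟨y, hy⟩)
      rw [hc.mul_pow, h1, h2, one_mul]
    | inv x hx h => rw [inv_pow, h, inv_one]
  have h4 := hr A hA hsq
  have hα : α ∈ A := subset_closure (Or.inl rfl)
  have hβ : β ∈ A := subset_closure (Or.inr rfl)
  let f : Fin 3 → A := ![1, ⟨α, hα⟩, ⟨β, hβ⟩]
  have hf : Function.Injective f := by
    intro i j hij
    have hij' := congrArg (fun z : A => ((z : C) : X)) hij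
    fin_cases i <;> fin_cases j <;> simp_all [f, α, β, Subtype.ext_iff, eq_comm]
  have := Nat.card_le_card_of_injective f hf
  simp at this h4
  omega

/-- A group with cyclic Sylow 2-subgroups has 2-rank at most one. -/
theorem rank_one {C : Subgroup X} (h : ∀ R : Sylow 2 ↥C, IsCyclic ↥(R : Subgroup ↥C)) :
    Cfsg.PRankLE 2 1 ↥C := by
  intro A _ hsq
  have hp : IsPGroup 2 A := fun x => ⟨1, Subtype.ext (by simpa using hsq x x.2)⟩
  obtain ⟨R, hR⟩ := hp.exists_le_sylow
  haveI := h R
  haveI : IsCyclic A := isCyclic_of_injective (Subgroup.inclusion hR) (Subgroup.inclusion_injective hR)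
  haveI := Fintype.ofFinite A
  classical
  have h1 := IsCyclic.card_pow_eq_one_le (α := A) (show 0 < 2 by norm_num)
  rw [Finset.filter_true_of_mem (fun x _ => Subtype.ext (by simpa using hsq x x.2)), Finset.card_univ] at h1
  simpa [Nat.card_eq_fintype_card] using h1

/-- Let A be a standard subgroup of a finite group G whose centralizer has cyclic Sylow 2-subgroups, t an involution centralizing A, and X the normal closure of A in G. If X has a t-invariant 2-subgroup R with [R, t] nontrivial and contained in A, then X is semisimple (X equals its own layer, a central product of quasisimple groups) and the centre of X has odd order. -/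
theorem result {G : Type*} [Group G] [Finite G] (A : Subgroup G) (hA : Cfsg.IsStandardSubgroup A)
    (hcyc : ∀ R : Sylow 2 ↥(Subgroup.centralizer (A : Set G)), IsCyclic ↥(R : Subgroup ↥(Subgroup.centralizer (A : Set G)))) (t : G) (ht : orderOf t = 2) (htA : t ∈ Subgroup.centralizer (A : Set G))
    (R : Subgroup G) (hR2 : IsPGroup 2 ↥R) (hRX : R ≤ Subgroup.normalClosure (A : Set G)) (hRt : ∀ r ∈ R, t * r * t⁻¹ ∈ R)
    (hc1 : ⁅R, Subgroup.zpowers t⁆ ≠ ⊥) (hc2 : ⁅R, Subgroup.zpowers t⁆ ≤ A) :
    Cfsg.layer ↥(Subgroup.normalClosure (A : Set G)) = ⊤ ∧ Odd (Nat.card ↥(Subgroup.center ↥(Subgroup.normalClosure (A : Set G)))) := by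
  obtain ⟨hq, ⟨hCeven, hTI⟩, hconj, hNC⟩ := hA
  set C := Subgroup.centralizer (A : Set G) with hCdef
  set Y := Subgroup.normalClosure (A : Set G) with hY
  have hr := rank_one hcyc
  have hP' : ⁅A, A⁆ = A := isQuasisimple_perfect hq
  have ht2 : t * t = 1 := by rw [← sq, ← ht, pow_orderOf_eq_one]
  have ht1 : t ≠ 1 := fun h => by rw [h, orderOf_one] at ht; omega
  have hti : t⁻¹ = t := inv_eq_of_mul_eq_one_right ht2
  have hCt : ∀ x, x * t = t * x → x ∈ Subgroup.normalizer (A : Set G) := by
    intro x hx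
    by_contra hxN
    have hTI' := hTI x (by rw [← hNC]; exact hxN)
    have htm : t ∈ C ⊓ C.map (MulAut.conj x).toMonoidHom := ⟨htA, t, htA, by simp [hx]⟩
    have hd : orderOf (⟨t, htm⟩ : ↥(C ⊓ C.map (MulAut.conj x).toMonoidHom)) ∣ _ := orderOf_dvd_natCard _
    rw [← orderOf_injective (C ⊓ C.map (MulAut.conj x).toMonoidHom).subtype Subtype.val_injective,
      show (C ⊓ C.map (MulAut.conj x).toMonoidHom).subtype ⟨t, htm⟩ = t from rfl, ht] at hd
    exact absurd (even_iff_two_dvd.2 hd) (Nat.not_even_iff_odd.2 hTI')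
  -- the element `a = [r, t]`
  obtain ⟨r, hr0, hrt⟩ : ∃ r ∈ R, r * t ≠ t * r := by
    by_contra hne
    push Not at hne
    apply hc1
    rw [commutator_eq_bot_iff_le_centralizer]
    intro x hx
    rw [mem_centralizer_iff]
    intro y hy
    obtain ⟨k, rfl⟩ := mem_zpowers_iff.1 hy
    exact ((Commute.zpow_right (hne x hx : Commute x t) k)).eq.symm
  set a := r * t * r⁻¹ * t⁻¹ with ha
  set u := r * t * r⁻¹ with hu
  have haA : a ∈ A := hc2 (commutator_mem_commutator hr0 (mem_zpowers t))
  have hat : a * t = t * a := by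
    have := mem_centralizer_iff.1 htA a haA
    exact this
  have hua : u = a * t := by rw [ha, hu]; group
  have hu2 : u * u = 1 := by
    calc u * u = r * (t * t) * r⁻¹ := by rw [hu]; group
      _ = 1 := by rw [ht2]; group
  have ha1 : a ≠ 1 := by
    intro h
    apply hrt
    rw [h, one_mul] at hua
    exact mul_inv_eq_iff_eq_mul.1 hua
  have ha2 : a * a = 1 := by
    calc a * a = a * a * (t * t) := by rw [ht2, mul_one]
      _ = a * (a * t) * t := by group
      _ = a * (t * a) * t := by rw [hat]
      _ = u * (a * t) := by rw [hua]; group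
      _ = 1 := by rw [← hua, hu2]
  have haC : a ∉ C := by
    intro h
    have := unique_involution hr h htA ha2 ht2 hat ha1 ht1
    rw [this, ht2] at hua
    exact ht1 (conj_eq_one_iff.1 hua)
  have hsub : ∀ M : Subgroup G, M.Normal → a ∈ M → A ≤ M := by
    intro M hM haM
    haveI : (M.subgroupOf A).Normal := hM.comap _
    rcases normal_le_center_or_eq_top hq (M.subgroupOf A) with h | h
    · exfalso
      apply haC
      rw [hCdef, mem_centralizer_iff]
      intro y hy
      exact congrArg Subtype.val (mem_center_iff.1 (h (x := ⟨a, haA⟩) haM) ⟨y, hy⟩)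
    · exact subgroupOf_eq_top.1 h
  -- every normal subgroup contains `A` or has odd order and centralizes `A`
  have dich : ∀ M : Subgroup G, M.Normal →
      A ≤ M ∨ (Odd (Nat.card M) ∧ A ≤ Subgroup.centralizer (M : Set G)) := by
    intro M hM
    by_cases hAM : A ≤ M
    · exact Or.inl hAM
    right
    set W := M ⊓ Subgroup.centralizer ({t} : Set G) with hW
    have hWN : W ≤ Subgroup.normalizer (A : Set G) := fun x hx =>
      hCt x (mem_centralizer_singleton_iff.1 hx.2)
    have hcen : (A ⊓ M).subgroupOf A ≤ center ↥A := by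
      haveI : ((A ⊓ M).subgroupOf A).Normal := by
        constructor
        intro n hn g
        exact ⟨(g * n * g⁻¹).2, hM.conj_mem _ hn.2 _⟩
      refine (normal_le_center_or_eq_top hq _).resolve_right fun h => hAM ?_
      rw [subgroupOf_eq_top] at h
      exact h.trans inf_le_right
    have hWC : W ≤ C := by
      have h1 : ⁅W, A⁆ ≤ A ⊓ M := by
        refine le_inf ?_ ?_
        · rw [commutator_comm]; exact le_normalizer_iff_commutator_le_left.1 hWN
        · exact (commutator_mono inf_le_left le_rfl).trans (commutator_le_left M A)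
      have h2 : ⁅⁅W, A⁆, A⁆ = ⊥ := by
        rw [eq_bot_iff]
        refine (commutator_mono h1 le_rfl).trans ?_
        rw [le_bot_iff, commutator_eq_bot_iff_le_centralizer]
        intro z hz
        rw [mem_centralizer_iff]
        intro y hy
        exact congrArg Subtype.val (mem_center_iff.1 (hcen (x := ⟨z, hz.1⟩) hz) ⟨y, hy⟩)
      have h3 := commutator_eq_bot_of_perfect hP' h2
      rw [commutator_comm, commutator_eq_bot_iff_le_centralizer] at h3
      exact h3
    have htM : t ∉ M := by
      intro h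
      refine hAM (hsub M hM ?_)
      rw [ha]
      exact M.mul_mem (hM.conj_mem t h r) (M.inv_mem h)
    have hodd : Odd (Nat.card M) := by
      rw [← Nat.not_even_iff_odd]
      intro hev
      let φ : M → M := fun m => ⟨t * (m : G) * t⁻¹, hM.conj_mem _ m.2 t⟩
      let ψ : MulAut M := MulAut.conjNormal t
      haveI : Fact (Nat.Prime 2) := ⟨Nat.prime_two⟩
      have hP : IsPGroup 2 (zpowers t) := IsPGroup.of_card (n := 1) (by rw [Nat.card_zpowers, ht, pow_one])
      letI : MulAction (zpowers t) M := MulAction.compHom M ((MulAut.conjNormal (H := M)).comp (zpowers t).subtype)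
      have h1 : (1 : M) ∈ MulAction.fixedPoints (zpowers t) M := fun x => map_one (MulAut.conjNormal (x : G))
      have hd : 2 ∣ Nat.card (MulAction.fixedPoints (zpowers t) M) :=
        Nat.modEq_zero_iff_dvd.1 ((hP.card_modEq_card_fixedPoints M).symm.trans (Nat.modEq_zero_iff_dvd.2 (even_iff_two_dvd.1 hev)))
      let e : MulAction.fixedPoints (zpowers t) M ≃ W :=
        { toFun := fun m => ⟨((m : M) : G), (m : M).2, mem_centralizer_singleton_iff.2 (by
            have := congrArg Subtype.val (m.2 ⟨t, mem_zpowers t⟩)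
            exact (mul_inv_eq_iff_eq_mul.1 (show t * ((m : M) : G) * t⁻¹ = ((m : M) : G) from this)).symm)⟩
          invFun := fun w => ⟨⟨(w : G), w.2.1⟩, fun x => by
            obtain ⟨k, hk⟩ := mem_zpowers_iff.1 x.2
            apply Subtype.ext
            show (x : G) * (w : G) * (x : G)⁻¹ = (w : G)
            rw [mul_inv_eq_iff_eq_mul, ← hk]
            exact ((Commute.zpow_right (mem_centralizer_singleton_iff.1 w.2.2 : Commute (w : G) t) k)).eq.symm⟩
          left_inv := fun m => rfl
          right_inv := fun w => rfl }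
      rw [Nat.card_congr e] at hd
      obtain ⟨⟨w, hw⟩, hwo⟩ := exists_prime_orderOf_dvd_card' (G := W) 2 hd
      rw [← orderOf_injective W.subtype Subtype.val_injective] at hwo
      change orderOf w = 2 at hwo
      have hw2 : w * w = 1 := by rw [← sq, ← hwo, pow_orderOf_eq_one]
      have hw1 : w ≠ 1 := fun h => by rw [h, orderOf_one] at hwo; omega
      exact htM (unique_involution hr (hWC hw) htA hw2 ht2
        (mem_centralizer_singleton_iff.1 hw.2) hw1 ht1 ▸ hw.1)
    refine ⟨hodd, ?_⟩
    have hle : W ≤ M ⊓ Subgroup.centralizer ({u} : Set G) := by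
      intro x hx
      refine ⟨hx.1, mem_centralizer_singleton_iff.2 ?_⟩
      have h1 := mem_centralizer_iff.1 (hWC hx) a haA
      have h2 := mem_centralizer_singleton_iff.1 hx.2
      calc x * u = (x * a) * t := by rw [hua]; group
        _ = (a * x) * t := by rw [h1]
        _ = a * (x * t) := by group
        _ = a * (t * x) := by rw [h2]
        _ = u * x := by rw [hua]; group
    have hmap : M ⊓ Subgroup.centralizer ({u} : Set G) ≤ W.map (MulAut.conj r).toMonoidHom := by
      intro y hy
      refine ⟨r⁻¹ * y * r, ⟨by simpa using hM.conj_mem y hy.1 r⁻¹, mem_centralizer_singleton_iff.2 ?_⟩,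
        by simp [mul_assoc]⟩
      have h := mem_centralizer_singleton_iff.1 hy.2
      calc r⁻¹ * y * r * t = r⁻¹ * (y * u) * r := by rw [hu]; group
        _ = r⁻¹ * (u * y) * r := by rw [h]
        _ = _ := by rw [hu]; group
    have hEq : W = M ⊓ Subgroup.centralizer ({u} : Set G) := by
      refine eq_of_le_of_card_ge hle ((card_le_of_le hmap).trans ?_)
      rw [card_map_of_injective (MulAut.conj r).injective]
    have hsame : ∀ x ∈ M, t * x * t⁻¹ = u * x * u⁻¹ := by
      refine eq_of_same_fixed hodd (MulAut.conj t) (MulAut.conj u) ?_ ?_ ?_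
        (fun x hx => hM.conj_mem x hx t) (fun x hx => hM.conj_mem x hx u) ?_
      · intro y; show t * (t * y * t⁻¹) * t⁻¹ = y
        calc _ = (t * t) * y * (t * t)⁻¹ := by group
          _ = y := by rw [ht2]; group
      · intro y; show u * (u * y * u⁻¹) * u⁻¹ = y
        calc _ = (u * u) * y * (u * u)⁻¹ := by group
          _ = y := by rw [hu2]; group
      · intro y; show t * (u * y * u⁻¹) * t⁻¹ = u * (t * y * t⁻¹) * u⁻¹
        have hut : t * u = u * t := by rw [hua, ← mul_assoc, ← hat]
        calc _ = (t * u) * y * (t * u)⁻¹ := by group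
          _ = (u * t) * y * (u * t)⁻¹ := by rw [hut]
          _ = _ := by group
      · intro y hy
        show t * y * t⁻¹ = y ↔ u * y * u⁻¹ = y
        constructor
        · intro h
          have : y ∈ M ⊓ Subgroup.centralizer ({u} : Set G) :=
            hle ⟨hy, mem_centralizer_singleton_iff.2 (mul_inv_eq_iff_eq_mul.1 h).symm⟩
          exact mul_inv_eq_iff_eq_mul.2 (mem_centralizer_singleton_iff.1 this.2).symm
        · intro h
          have : y ∈ W := hEq.symm ▸ ⟨hy, mem_centralizer_singleton_iff.2 (mul_inv_eq_iff_eq_mul.1 h).symm⟩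
          exact mul_inv_eq_iff_eq_mul.2 (mem_centralizer_singleton_iff.1 this.2).symm
    refine hsub _ (Subgroup.normal_centralizer) ?_
    rw [mem_centralizer_iff]
    intro x hx
    have h := hsame x hx
    rw [hua] at h
    have h' : a * (t * x * t⁻¹) * a⁻¹ = t * x * t⁻¹ := by
      conv_rhs => rw [h]
      group
    have hx' : x = t * (t * x * t⁻¹) * t⁻¹ := by
      calc x = (t * t) * x * (t * t)⁻¹ := by rw [ht2]; group
        _ = _ := by group
    have e1 := mul_inv_eq_iff_eq_mul.1 h'
    rw [hx']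
    calc t * (t * x * t⁻¹) * t⁻¹ * a = t * (t * x * t⁻¹) * (t⁻¹ * a) := by group
      _ = t * (t * x * t⁻¹) * (a * t⁻¹) := by rw [hti, hat]
      _ = t * ((t * x * t⁻¹) * a) * t⁻¹ := by group
      _ = t * (a * (t * x * t⁻¹)) * t⁻¹ := by rw [e1]
      _ = (t * a) * (t * x * t⁻¹) * t⁻¹ := by group
      _ = (a * t) * (t * x * t⁻¹) * t⁻¹ := by rw [hat]
      _ = _ := by group
  haveI hFn : Group.IsNilpotent (Cfsg.fittingSubgroup G) := fittingSubgroup_isNilpotent
  have hAF : ¬ A ≤ Cfsg.fittingSubgroup G := isQuasisimple_not_le_solvable hq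
  have hAE : A ≤ Cfsg.layer G := by
    rcases dich (Cfsg.layer G) inferInstance with h | ⟨-, h⟩
    · exact h
    exfalso
    rcases dich (Cfsg.fittingSubgroup G) inferInstance with h' | ⟨-, h'⟩
    · exact hAF h'
    have hAc : A ≤ Subgroup.centralizer (Cfsg.generalizedFittingSubgroup G : Set G) := ?_
    · exact isQuasisimple_not_commutative hq
        ⟨⟨fun x y => Subtype.ext (mem_centralizer_iff.1 (hAc y.2) x (centralizer_gen_le (hAc x.2)))⟩⟩
    rw [← commutator_eq_bot_iff_le_centralizer, commutator_comm, commutator_eq_bot_iff_le_centralizer]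
    rw [← commutator_eq_bot_iff_le_centralizer, commutator_comm, commutator_eq_bot_iff_le_centralizer] at h h'
    exact sup_le h h'
  have hYn : Y.Normal := Subgroup.normalClosure_normal
  have hYE : Y ≤ Cfsg.layer G := normalClosure_le_normal hAE
  have hYperf : ⁅Y, Y⁆ = Y := by
    refine le_antisymm (commutator_le_self Y) ?_
    haveI : (⁅Y, Y⁆).Normal := commutator_normal Y Y
    refine normalClosure_le_normal ?_
    calc (A : Set G) = ((⁅A, A⁆ : Subgroup G) : Set G) := by rw [hP']
      _ ⊆ _ := commutator_mono le_normalClosure le_normalClosure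
  refine ⟨?_, ?_⟩
  · apply map_injective Y.subtype_injective
    rw [layer_map_subtype hYn.isSubnormal, ← MonoidHom.range_eq_map, range_subtype]
    refine le_antisymm (sSup_le fun L hL => hL.2) ?_
    set E1 := sSup {L : Subgroup G | Cfsg.IsComponent L ∧ L ≤ Y} with hE1
    set E2 := sSup {L : Subgroup G | Cfsg.IsComponent L ∧ ¬ L ≤ Y} with hE2
    have hE1Y : E1 ≤ Y := sSup_le fun L hL => hL.2
    have hE12 : E1 ≤ Subgroup.centralizer (E2 : Set G) := by
      refine sSup_le fun L hL => ?_
      rw [← commutator_eq_bot_iff_le_centralizer, commutator_comm, commutator_eq_bot_iff_le_centralizer]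
      refine sSup_le fun L' hL' => ?_
      rw [← commutator_eq_bot_iff_le_centralizer]
      exact components_commute hL'.1 hL.1 (fun e => hL'.2 (e ▸ hL.2))
    have hE2Y : E2 ≤ Subgroup.centralizer (Y : Set G) := by
      refine sSup_le fun L hL => ?_
      rw [← commutator_eq_bot_iff_le_centralizer]
      exact (component_le_or_commute hL.1 hYn.isSubnormal).resolve_left hL.2
    have hsup : Cfsg.layer G ≤ E1 ⊔ E2 := by
      refine sSup_le fun L hL => ?_
      by_cases h : L ≤ Y
      · exact le_sup_of_le_left (le_sSup ⟨hL, h⟩)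
      · exact le_sup_of_le_right (le_sSup ⟨hL, h⟩)
    have hdec : ∀ y ∈ Y, ∃ e ∈ E1, ∃ z ∈ Subgroup.centralizer (Y : Set G), y = e * z := by
      intro y hy
      have h := hsup (hYE hy)
      rw [← SetLike.mem_coe, coe_mul_of_left_le_normalizer_right E1 E2 (hE12.trans (centralizer_le_normalizer _))] at h
      obtain ⟨e, he, z, hz, hez⟩ := h
      exact ⟨e, he, z, hE2Y hz, hez.symm⟩
    refine hYperf.ge.trans (commutator_le.2 fun y hy y' hy' => ?_)
    obtain ⟨e, he, z, hz, rfl⟩ := hdec y hy
    obtain ⟨e', he', z', hz', rfl⟩ := hdec y' hy'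
    have c1 := mem_centralizer_iff.1 hz (e' * z') hy'
    have c2 := mem_centralizer_iff.1 hz' e (hE1Y he)
    have c3 : ⁅e * z, e' * z'⁆ = ⁅e, e'⁆ := by
      rw [commutatorElement_def, commutatorElement_def]
      calc e * z * (e' * z') * (e * z)⁻¹ * (e' * z')⁻¹
          = e * (z * (e' * z')) * z⁻¹ * e⁻¹ * z'⁻¹ * e'⁻¹ := by group
        _ = e * ((e' * z') * z) * z⁻¹ * e⁻¹ * z'⁻¹ * e'⁻¹ := by rw [c1]
        _ = e * e' * (z' * (z' * e)⁻¹) * e'⁻¹ := by group
        _ = e * e' * (z' * (e * z')⁻¹) * e'⁻¹ := by rw [c2]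
        _ = _ := by group
    rw [c3, commutatorElement_def]
    exact E1.mul_mem (E1.mul_mem (E1.mul_mem he he') (E1.inv_mem he)) (E1.inv_mem he')
  · set M := (center ↥Y).map Y.subtype with hM
    have hMn : M.Normal := inferInstance
    rcases dich M hMn with h | ⟨h, -⟩
    · exfalso
      apply isQuasisimple_not_commutative hq
      refine ⟨⟨fun x y => Subtype.ext ?_⟩⟩
      obtain ⟨z, hz, hzx⟩ := h x.2
      have := congrArg Subtype.val (mem_center_iff.1 hz ⟨y, le_normalClosure y.2⟩)
      simp only [coe_subtype] at hzx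
      show (x : G) * y = y * x
      rw [← hzx]
      exact this.symm
    · rwa [card_map_of_injective Y.subtype_injective] at h

end Cfsg.Agent.S3164
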