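import Cfsg.Statements.S3166
import Mathlib
-- import your own Cfsg.Agent.* helpers here

set_option autoImplicit false
open Cfsg
open scoped Pointwise

namespace Cfsg.Agent.S3166

/-- Let q = 2^n with n ≥ 1. If q⁴ − q³ + q² − q + 1 is a power p^m of a prime p, then m = 1: the value is never a prime power with exponent greater than 1. -/
theorem result (n p m : ℕ) (hn : 1 ≤ n) (hp : p.Prime) (h : (2 ^ n) ^ 4 - (2 ^ n) ^ 3 + (2 ^ n) ^ 2 - 2 ^ n + 1 = p ^ m) : m = 1 := by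
  set q := 2 ^ n with hq
  have hq2 : 2 ≤ q := Nat.le_self_pow (by omega) 2
  have hqe : 2 ∣ q := dvd_pow_self 2 (by omega)
  obtain ⟨u, hu⟩ := hqe
  have hu1 : 1 ≤ u := by omega
  have hle : q ^ 3 ≤ q ^ 4 := Nat.pow_le_pow_right (by omega) (by norm_num)
  have hle2 : q ≤ q ^ 2 := Nat.le_self_pow (by norm_num) q
  have hN : (q : ℤ) ^ 4 - (q : ℤ) ^ 3 + (q : ℤ) ^ 2 - q + 1 = (p : ℤ) ^ m := by
    rw [show (p : ℤ) ^ m = ((p ^ m : ℕ) : ℤ) by push_cast; rfl, ← h]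
    have h5 : q ≤ q ^ 4 - q ^ 3 + q ^ 2 := hle2.trans (Nat.le_add_left _ _)
    push_cast [Nat.cast_sub h5, Nat.cast_sub hle]
    ring
  have hp2 : (2:ℤ) ≤ p := by exact_mod_cast hp.two_le
  have hpne : ¬ 2 ∣ p := by
    intro h2
    rcases Nat.eq_zero_or_pos m with rfl | hm
    · rw [pow_zero] at hN
      have hu' : (q:ℤ) = 2 * (u:ℤ) := by exact_mod_cast hu
      nlinarith [mul_pos (mul_pos (show (0:ℤ) < q by omega) (show (0:ℤ) < q by omega)) (show (0:ℤ) < q by omega)]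
    · have h3 : (2:ℤ) ∣ (p:ℤ) ^ m := dvd_pow (by exact_mod_cast h2) (by omega)
      rw [← hN, show (q:ℤ) = 2 * u by exact_mod_cast hu] at h3
      obtain ⟨k, hk⟩ := h3
      have : (2:ℤ) ∣ 1 := ⟨k - (8*(u:ℤ)^4 - 4*(u:ℤ)^3 + 2*(u:ℤ)^2 - u), by linarith⟩
      norm_num at this
  have hm0 : m ≠ 0 := by
    rintro rfl
    rw [pow_zero] at hN
    nlinarith [mul_pos (mul_pos (show (0:ℤ) < q by omega) (show (0:ℤ) < q by omega)) (show (0:ℤ) < q by omega)]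
  have hnsq : ∀ r : ℤ, (r ^ 2) ≠ (p:ℤ) ^ m := by
    intro r hr
    rw [← hN, show (q:ℤ) = 2 * u by exact_mod_cast hu] at hr
    have hu' : (1:ℤ) ≤ u := by exact_mod_cast hu1
    set w := 4*(u:ℤ)^2 - u with hw
    have h1 : w ^ 2 < r ^ 2 := by rw [hr, hw]; nlinarith
    have h2 : r ^ 2 < (w + 1) ^ 2 := by rw [hr, hw]; nlinarith
    have hw0 : 0 ≤ w := by nlinarith
    have a1 : w < |r| := by
      by_contra hc
      nlinarith [sq_abs r, abs_nonneg r]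
    have a2 : |r| < w + 1 := by
      by_contra hc
      nlinarith [sq_abs r, abs_nonneg r]
    omega
  have hodd : Odd m := by
    rw [← Nat.not_even_iff_odd]
    rintro ⟨k, rfl⟩
    exact hnsq ((p:ℤ) ^ k) (by ring)
  by_contra hm1
  have hm3 : 3 ≤ m := by
    obtain ⟨k, rfl⟩ := hodd; omega
  -- `q ∣ p - 1`
  have hdvd : (q:ℤ) ∣ (p:ℤ) - 1 := by
    have hg : ((p:ℤ) - 1) * ∑ i ∈ Finset.range m, (p:ℤ) ^ i = (p:ℤ) ^ m - 1 := mul_geom_sum _ _
    have h1 : (q:ℤ) ∣ ((p:ℤ) - 1) * ∑ i ∈ Finset.range m, (p:ℤ) ^ i := by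
      rw [hg, ← hN]; exact ⟨(q:ℤ)^3 - q^2 + q - 1, by ring⟩
    refine IsCoprime.dvd_of_dvd_mul_right ?_ h1
    rw [hq, Nat.cast_pow]
    refine IsCoprime.pow_left ?_
    have hp1 : (p : ZMod 2) = 1 := by
      rw [ZMod.natCast_eq_one_iff_odd]
      exact Nat.not_even_iff_odd.1 fun h => hpne h.two_dvd
    have hs : ((∑ i ∈ Finset.range m, (p:ℤ) ^ i : ℤ) : ZMod 2) = 1 := by
      push_cast
      simp [hp1]
      exact ZMod.natCast_eq_one_iff_odd.2 hodd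
    refine Int.prime_two.coprime_iff_not_dvd.2 ?_
    intro hd
    rw [(ZMod.intCast_zmod_eq_zero_iff_dvd _ 2).2 (by exact_mod_cast hd)] at hs
    exact zero_ne_one hs
  obtain ⟨k, hk⟩ := hdvd
  have hk1 : 1 ≤ k := by
    by_contra hc
    push Not at hc
    have : (q:ℤ) * k ≤ 0 := by nlinarith
    linarith
  have hp' : (p:ℤ) = q * k + 1 := by linarith
  have hlt : (p:ℤ) ^ m < (q:ℤ) ^ 4 := by
    rw [← hN]
    have : (2:ℤ) ≤ q := by exact_mod_cast hq2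
    nlinarith [mul_pos (show (0:ℤ) < q by omega) (show (0:ℤ) < q by omega)]
  have hqp : (q:ℤ) + 1 ≤ p := by
    rw [hp']; nlinarith [show (0:ℤ) ≤ q by omega]
  have hm : m = 3 := by
    by_contra hne
    have h4 : 4 ≤ m := by omega
    have e1 : ((q:ℤ)) ^ 4 ≤ (p:ℤ) ^ 4 := pow_le_pow_left₀ (by omega) (by linarith) 4
    have e2 : (p:ℤ) ^ 4 ≤ (p:ℤ) ^ m := pow_le_pow_right₀ (by omega) h4
    linarith
  subst hm
  rw [hp'] at hN hlt
  have hk3 : k ^ 3 < q := by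
    have hq0 : (0:ℤ) < (q:ℤ) ^ 3 := by positivity
    by_contra hc
    push Not at hc
    nlinarith [mul_le_mul_of_nonneg_right hc hq0.le]
  have hdv : (q:ℤ) ∣ 3 * k + 1 := by
    refine ⟨(q:ℤ)^2 - q - k^3 * q - 3*k^2 + 1, ?_⟩
    have hq0 : (q:ℤ) ≠ 0 := by omega
    apply mul_left_cancel₀ hq0
    linarith [hN]
  have hle3 : (q:ℤ) ≤ 3 * k + 1 := Int.le_of_dvd (by omega) hdv
  have hk2 : k ≤ 2 := by
    by_contra hc
    have h9 : 9 ≤ k * k := by nlinarith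
    nlinarith [mul_le_mul_of_nonneg_right h9 (show (0:ℤ) ≤ k by omega)]
  have hq7 : q ≤ 7 := by omega
  interval_cases k
  · rcases (show q = 2 ∨ q = 3 ∨ q = 4 ∨ q = 5 ∨ q = 6 ∨ q = 7 by omega) with h | h | h | h | h | h <;> simp [h] at hN hk3 hdv ⊢ <;> norm_num at *
  · rcases (show q = 2 ∨ q = 3 ∨ q = 4 ∨ q = 5 ∨ q = 6 ∨ q = 7 by omega) with h | h | h | h | h | h <;> simp [h] at hN hk3 hdv ⊢ <;> norm_num at *

end Cfsg.Agent.S3166
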