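import Cfsg.Statements.S3170
import Cfsg.Agent.Lib.M24SylowTwo59
import Cfsg.Agent.Lib.M24SylowNormal20
import Cfsg.Agent.Lib.IsolatedTwoElement67
-- import your own Cfsg.Agent.* helpers here

set_option autoImplicit false
open Cfsg

namespace Cfsg.Agent.S3170

open scoped commutatorElement

/-- Let H be a finite group with no nontrivial normal subgroup of odd order whose Sylow 2-subgroup T is isomorphic to a Sylow 2-subgroup of the Mathieu group of degree 24, and suppose that the centre of T lies in the centre of H. If E is a subgroup of T that is normal in T and extraspecial of order 2^7, and E is the only such subgroup of T, then E is normal in H. -/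
theorem result {H : Type*} [Group H] [Finite H]
    (hO : Cfsg.oddCore H = ⊥) (T : Sylow 2 H) (P : Sylow 2 ↥Cfsg.M24)
    (hT : Nonempty (↥(T : Subgroup H) ≃* ↥(P : Subgroup ↥Cfsg.M24)))
    (hZ : ∀ z ∈ (T : Subgroup H), (∀ t ∈ (T : Subgroup H), z * t = t * z) → z ∈ Subgroup.center H)
    (E : Subgroup H) (hE : E ≤ (T : Subgroup H)) (hEn : (E.subgroupOf (T : Subgroup H)).Normal)
    (hEx : Cfsg.IsExtraspecial 2 ↥E) (hE7 : Nat.card ↥E = 2 ^ 7)
    (huniq : ∀ E' : Subgroup H, E' ≤ (T : Subgroup H) → (E'.subgroupOf (T : Subgroup H)).Normal →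
      Cfsg.IsExtraspecial 2 ↥E' → Nat.card ↥E' = 2 ^ 7 → E' = E) :
    E.Normal := by
  haveI : Fact (Nat.Prime 2) := ⟨Nat.prime_two⟩
  obtain ⟨e₀⟩ := hT
  obtain ⟨e₁⟩ := M24SylowTwo59.exists_equiv P
  let eU := e₀.trans e₁
  -- the centre of `T` has order two
  have hcU : Nat.card (Subgroup.center UniFiveTwo59.U) = 2 := by
    have h := Subgroup.card_eq_card_quotient_mul_card_subgroup (Subgroup.center UniFiveTwo59.U)
    rw [Nat.card_congr ((QuotientGroup.quotientMulEquivOfEq UniFiveTwo59.ker_proj.symm).trans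
      (QuotientGroup.quotientKerEquivOfSurjective UniFiveTwo59.proj
        UniFiveTwo59.proj_surjective)).toEquiv, UniFiveTwo59.card_T, UniFiveTwo59.card_U] at h
    omega
  have hcT : Nat.card (Subgroup.center ↥(T : Subgroup H)) = 2 :=
    (Nat.card_congr (Subgroup.centerCongr eU).toEquiv).trans hcU
  -- its generator
  obtain ⟨c, hc⟩ := exists_prime_orderOf_dvd_card' (G := Subgroup.center ↥(T : Subgroup H)) 2
    (by rw [hcT])
  obtain ⟨z, hzdef⟩ : ∃ z : H, z = ((c : ↥(T : Subgroup H)) : H) := ⟨_, rfl⟩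
  have hzo : orderOf z = 2 := by rw [hzdef, Subgroup.orderOf_coe, Subgroup.orderOf_coe, hc]
  have hzT : z ∈ (T : Subgroup H) := hzdef ▸ (c : ↥(T : Subgroup H)).2
  have hcen : ∀ w : ↥(T : Subgroup H), w ∈ Subgroup.center ↥(T : Subgroup H) ↔
      (w : H) ∈ Subgroup.zpowers z := by
    intro w
    constructor
    · intro hw
      have htop : Subgroup.zpowers c = ⊤ := Subgroup.eq_top_of_card_eq _ (by
        rw [Nat.card_zpowers, hc, hcT])
      obtain ⟨k, hk⟩ : (⟨w, hw⟩ : Subgroup.center ↥(T : Subgroup H)) ∈ Subgroup.zpowers c :=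
        htop ▸ Subgroup.mem_top _
      exact ⟨k, by rw [hzdef]; exact congrArg (fun u => ((u.1 : ↥(T : Subgroup H)) : H)) hk⟩
    · rintro ⟨k, hk⟩
      have : w = (c : ↥(T : Subgroup H)) ^ k := Subtype.ext (by
        rw [Subgroup.coe_zpow, ← hzdef]; exact hk.symm)
      rw [this]
      exact zpow_mem c.2 k
  have hzc : z ∈ Subgroup.center H := hZ z hzT fun t ht => by
    rw [hzdef]
    exact (congrArg Subtype.val (Subgroup.mem_center_iff.1 c.2 ⟨t, ht⟩)).symm
  haveI : (Subgroup.zpowers z).Normal := ⟨fun x hx g => by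
    rw [(Subgroup.mem_center_iff.1 (Subgroup.zpowers_le.2 hzc hx) g), mul_inv_cancel_right]; exact hx⟩
  -- `z` lies in `E`
  obtain ⟨⟨-, -, hEd⟩, hEc⟩ := hEx
  have hcenE : ∀ w : ↥E, w ∈ Subgroup.center ↥E → (w : H) ∈ Subgroup.zpowers z := by
    intro w hw
    refine (hcen ⟨w, hE w.2⟩).1 (Subgroup.mem_center_iff.2 fun t => ?_)
    have hconj : (t : H) * w * (t : H)⁻¹ ∈ E := hEn.conj_mem ⟨w, hE w.2⟩ w.2 t
    have hcc : (⟨_, hconj⟩ : ↥E) ∈ Subgroup.center ↥E := by
      refine Subgroup.mem_center_iff.2 fun u => Subtype.ext ?_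
      have hu : (t : H)⁻¹ * u * (t : H) ∈ E := by
        have := hEn.conj_mem ⟨u, hE u.2⟩ u.2 t⁻¹
        simpa [Subgroup.mem_subgroupOf] using this
      have := congrArg Subtype.val (Subgroup.mem_center_iff.1 hw ⟨_, hu⟩)
      simp only [Subgroup.coe_mul] at this ⊢
      calc (u : H) * ((t : H) * w * (t : H)⁻¹) =
            (t : H) * ((t : H)⁻¹ * u * (t : H) * w) * (t : H)⁻¹ := by group
        _ = (t : H) * w * (t : H)⁻¹ * u := by rw [this]; group
    refine Subtype.ext ?_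
    show (t : H) * w = w * t
    by_cases hw1 : w = 1
    · simp [hw1]
    have hne : (⟨_, hconj⟩ : ↥E) ≠ 1 := fun e => hw1 (Subtype.ext (by
      have h := congrArg Subtype.val e
      calc (w : H) = (t : H)⁻¹ * ((t : H) * w * (t : H)⁻¹) * t := by group
        _ = 1 := by rw [show (t : H) * w * (t : H)⁻¹ = 1 from h]; group))
    obtain ⟨y, -, hy⟩ := (Nat.card_eq_two_iff' (1 : Subgroup.center ↥E)).1 hEc
    have h1 := hy ⟨w, hw⟩ fun e => hw1 (congrArg Subtype.val e)
    have h2 := hy ⟨_, hcc⟩ fun e => hne (congrArg Subtype.val e)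
    have h3 : (t : H) * w * (t : H)⁻¹ = w :=
      congrArg (fun u => ((u.1 : ↥E) : H)) (h2.trans h1.symm)
    exact mul_inv_eq_iff_eq_mul.1 h3
  have hzE : Subgroup.zpowers z ≤ E := by
    rw [Subgroup.zpowers_le]
    obtain ⟨y, hy1, -⟩ := (Nat.card_eq_two_iff' (1 : Subgroup.center ↥E)).1 hEc
    obtain ⟨k, hk⟩ := hcenE y.1 y.2
    rcases Int.even_or_odd' k with ⟨j, rfl | rfl⟩
    · exfalso
      refine hy1 (Subtype.ext (Subtype.ext ?_))
      rw [← hk]
      show z ^ (2 * j) = 1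
      rw [zpow_mul, show z ^ (2 : ℤ) = 1 by rw [zpow_two, ← pow_two, ← hzo, pow_orderOf_eq_one], one_zpow]
    · have he : ((y : ↥E) : H) = z := by
        rw [← hk]
        show z ^ (2 * j + 1) = z
        rw [zpow_add, zpow_mul, show z ^ (2 : ℤ) = 1 by rw [zpow_two, ← pow_two, ← hzo, pow_orderOf_eq_one],
          one_zpow, one_mul, zpow_one]
      rw [← he]
      exact (y : ↥E).2
  -- the quotient
  set π := QuotientGroup.mk' (Subgroup.zpowers z) with hπ
  let T' : Sylow 2 (H ⧸ Subgroup.zpowers z) := T.mapSurjective (QuotientGroup.mk'_surjective _)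
  let ψ : ↥(T : Subgroup H) →* ↥(T' : Subgroup (H ⧸ Subgroup.zpowers z)) :=
    (π.comp (T : Subgroup H).subtype).codRestrict _ fun t => ⟨t.1, t.2, rfl⟩
  have hψ : Function.Surjective ψ := by
    rintro ⟨_, t, ht, rfl⟩; exact ⟨⟨t, ht⟩, rfl⟩
  have hker : ψ.ker = Subgroup.center ↥(T : Subgroup H) := by
    ext w
    rw [hcen w, MonoidHom.mem_ker, Subtype.ext_iff]
    exact QuotientGroup.eq_one_iff _
  obtain ⟨e₂⟩ := M24SylowTwo59.exists_equiv_quotient P
  have hmapc : (Subgroup.center ↥(T : Subgroup H)).map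
      (e₀ : ↥(T : Subgroup H) →* ↥(P : Subgroup ↥Cfsg.M24)) = Subgroup.center ↥(P : Subgroup ↥Cfsg.M24) := by
    ext x
    simp only [Subgroup.mem_map, Subgroup.mem_center_iff]
    constructor
    · rintro ⟨w, hw, rfl⟩ u
      obtain ⟨u, rfl⟩ := e₀.surjective u
      rw [MonoidHom.coe_coe, ← map_mul, ← map_mul, hw u]
    · intro hx
      obtain ⟨w, rfl⟩ := e₀.surjective x
      refine ⟨w, fun u => e₀.injective ?_, rfl⟩
      rw [map_mul, map_mul, hx]
  let φ := (((QuotientGroup.quotientKerEquivOfSurjective ψ hψ).symm.trans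
    (QuotientGroup.quotientMulEquivOfEq hker)).trans (QuotientGroup.congr _ _ e₀ hmapc)).trans e₂
  have hO' : pPrimeCore 2 (H ⧸ Subgroup.zpowers z) = ⊥ :=
    IsolatedTwoElement67.pPrimeCore_quotient_two hO hzo
  have hA64 : Nat.card ↥(E.map π) = 64 := by
    have h := HallCore.card_map_mk'_mul (Subgroup.zpowers z) E hzE
    rw [Nat.card_zpowers, hzo, hE7] at h
    show Nat.card ↥(E.map π) = 64
    rw [hπ]; omega
  have hAc : IsMulCommutative ↥(E.map π) := by
    refine ⟨⟨fun x y => Subtype.ext ?_⟩⟩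
    obtain ⟨u, hu, hux⟩ := x.2
    obtain ⟨v, hv, hvy⟩ := y.2
    show (x : H ⧸ Subgroup.zpowers z) * y = y * x
    rw [← hux, ← hvy, ← map_mul, ← map_mul]
    refine QuotientGroup.eq.2 ?_
    have hmem : ⁅(⟨v, hv⟩ : ↥E)⁻¹, (⟨u, hu⟩ : ↥E)⁻¹⁆ ∈ Subgroup.center ↥E :=
      hEd ▸ Subgroup.commutator_mem_commutator (Subgroup.mem_top _) (Subgroup.mem_top _)
    have := hcenE _ hmem
    simp only [commutatorElement_def, Subgroup.coe_mul, Subgroup.coe_inv, inv_inv] at this
    rwa [show (u * v)⁻¹ * (v * u) = v⁻¹ * u⁻¹ * v * u by group]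
  have hAT : E.map π ≤ (T' : Subgroup (H ⧸ Subgroup.zpowers z)) := Subgroup.map_mono hE
  have huniq' : ∀ B : Subgroup (H ⧸ Subgroup.zpowers z),
      B ≤ (T' : Subgroup (H ⧸ Subgroup.zpowers z)) → IsMulCommutative ↥B → Nat.card ↥B = 64 →
        B = E.map π := by
    have key : ∀ B : Subgroup (H ⧸ Subgroup.zpowers z),
        B ≤ (T' : Subgroup (H ⧸ Subgroup.zpowers z)) → IsMulCommutative ↥B → Nat.card ↥B = 64 →
          (B.subgroupOf (T' : Subgroup (H ⧸ Subgroup.zpowers z))).map φ.toMonoidHom = UniFiveTwo59.A := by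
      intro B hB hBc hB64
      refine UniFiveTwo59.eq_A ⟨⟨fun x y => Subtype.ext ?_⟩⟩ ?_
      · obtain ⟨a, ha, hx⟩ := x.2
        obtain ⟨b, hb, hy⟩ := y.2
        show (x : UniFiveTwo59.T) * y = y * x
        rw [← hx, ← hy, ← map_mul, ← map_mul]
        exact congrArg _ (Subtype.ext (congrArg Subtype.val
          (hBc.is_comm.comm (⟨a.1, Subgroup.mem_subgroupOf.1 ha⟩ : B) ⟨b.1, Subgroup.mem_subgroupOf.1 hb⟩) :))
      · rw [Subgroup.card_map_of_injective φ.injective,
          Nat.card_congr (Subgroup.subgroupOfEquivOfLe hB).toEquiv, hB64]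
    intro B hB hBc hB64
    exact (Subgroup.subgroupOf_inj.1 (Subgroup.map_injective φ.injective
      ((key B hB hBc hB64).trans (key _ hAT hAc hA64).symm))).symm.symm |> fun h => by
        rwa [inf_eq_left.2 hB, inf_eq_left.2 hAT] at h
  have hN := M24SylowNormal20.normal φ hO' hAT hAc hA64 huniq'
  refine ⟨fun x hx g => ?_⟩
  obtain ⟨y, hy, hye⟩ := hN.conj_mem _ ⟨x, hx, rfl⟩ (π g)
  rw [← map_inv, ← map_mul, ← map_mul] at hye
  have := mul_mem hy (hzE (QuotientGroup.eq.1 hye))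
  rwa [mul_inv_cancel_left] at this
end Cfsg.Agent.S3170
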