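import Cfsg.Statements.S3174
import Cfsg.Agent.Lib.UpperFourCenter65

set_option autoImplicit false
open Cfsg

namespace Cfsg.Agent.S3174

/-- Let T be a finite 2-group of order at least 2^14 in which the fourth term of the upper central series has order 16. Let W be the centralizer in T of the third term Z₃(T), and suppose the Frattini subgroup of W has order at most 8 and lies in every subgroup of W of index at most 16. Then T has order exactly 2^14; the derived subgroup of W and the Frattini subgroup of W both equal Z₃(T), which is elementary abelian of order 8; the centre of W has order 8; W is normal in T with quotient dihedral of order 8; and W modulo its derived subgroup is elementary abelian of order 2^8. -/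
theorem result {T : Type*} [Group T] [Finite T]
    (hT : IsPGroup 2 T) (ha : 2 ^ 14 ≤ Nat.card T) (hb : Nat.card ↥(Subgroup.upperCentralSeries T 4) = 16)
    (W : Subgroup T) (hW : W = Subgroup.centralizer ((Subgroup.upperCentralSeries T 3 : Subgroup T) : Set T))
    (hc : Nat.card ↥(frattini ↥W) ≤ 8) (hd : ∀ U : Subgroup ↥W, U.index ≤ 16 → frattini ↥W ≤ U) :
    Nat.card T = 2 ^ 14 ∧
      (commutator ↥W).map W.subtype = Subgroup.upperCentralSeries T 3 ∧
      (frattini ↥W).map W.subtype = Subgroup.upperCentralSeries T 3 ∧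
      Nat.card ↥(Subgroup.center ↥W) = 8 ∧
      Nat.card ↥(Subgroup.upperCentralSeries T 3) = 8 ∧ (∀ z ∈ Subgroup.upperCentralSeries T 3, z ^ 2 = 1) ∧
      (∃ (_ : W.Normal), Nonempty (T ⧸ W ≃* DihedralGroup 4)) ∧
      Nat.card (↥W ⧸ commutator ↥W) = 2 ^ 8 ∧ (∀ x : ↥W ⧸ commutator ↥W, x ^ 2 = 1) := by
  have h : UpperFour65.Hyp T W := ⟨hT, ha, hb, hW, hc, hd⟩
  obtain ⟨hPhi, hidx, hW11, hT14⟩ := UpperFour65.main h
  haveI hN : W.Normal := UpperFour65.W_normal h
  have hcomm : (commutator ↥W).map W.subtype = Subgroup.upperCentralSeries T 3 := by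
    rw [Subgroup.map_subtype_commutator]
    exact UpperFourCenter65.bracket_eq_Z3 h
  have hfr : frattini ↥W = commutator ↥W :=
    Subgroup.map_injective W.subtype_injective (hPhi.trans hcomm.symm)
  have hcard3 : Nat.card ↥(Subgroup.upperCentralSeries T 3) = 8 := by
    exact (UpperFour65.card_Zs h (show 3 ≤ 4 by norm_num)).trans (by norm_num)
  refine ⟨hT14, hcomm, hPhi, ?_, hcard3, fun z hz => by rw [pow_two]; exact UpperFourCenter65.sq_Z3 h hz,
    ⟨hN, UpperFourCenter65.quotient_dihedral h⟩, ?_, ?_⟩
  · rw [← Subgroup.card_map_of_injective W.subtype_injective, UpperFourCenter65.center_W h]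
    exact hcard3
  · have h1 := Subgroup.card_eq_card_quotient_mul_card_subgroup (commutator ↥W)
    have e : Nat.card ↥((commutator ↥W).map W.subtype) = Nat.card (commutator ↥W) :=
      Subgroup.card_map_of_injective W.subtype_injective
    rw [← e, hcomm, hcard3,
      hW11] at h1
    norm_num at h1 ⊢
    omega
  · intro x
    obtain ⟨y, rfl⟩ := QuotientGroup.mk_surjective x
    rw [← QuotientGroup.mk_pow, QuotientGroup.eq_one_iff, pow_two, ← hfr]
    obtain ⟨w, hw, he⟩ := UpperFour65.sq_mem_Phi h y.2
    exact (Subtype.ext he : w = y * y) ▸ hw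

end Cfsg.Agent.S3174
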