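import Cfsg.Statements.S3175
import Cfsg.Agent.Lib.UpperFourAut65

set_option autoImplicit false
open Cfsg

namespace Cfsg.Agent.S3175

/-- Let G be a finite group whose Sylow 2-subgroup T has order at least 2^14 and whose upper central series has fourth term of order 16; let W be the centralizer in T of the third term, and suppose the Frattini subgroup of W has order at most 8 and lies in every subgroup of W of index at most 16. Then the normalizer of T in G has a normal 2-complement, and W is weakly closed in T with respect to G. -/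
theorem result {G : Type*} [Group G] [Finite G]
    (T : Sylow 2 G) (ha : 2 ^ 14 ≤ Nat.card ↥(T : Subgroup G))
    (hb : Nat.card ↥(Subgroup.upperCentralSeries ↥(T : Subgroup G) 4) = 16)
    (W : Subgroup ↥(T : Subgroup G))
    (hW : W = Subgroup.centralizer ((Subgroup.upperCentralSeries ↥(T : Subgroup G) 3 : Subgroup ↥(T : Subgroup G)) : Set ↥(T : Subgroup G)))
    (hc : Nat.card ↥(frattini ↥W) ≤ 8)
    (hd : ∀ U : Subgroup ↥W, U.index ≤ 16 → frattini ↥W ≤ U) :
    Cfsg.HasNormalPComplement 2 ↥(Subgroup.normalizer ((T : Subgroup G) : Set G)) ∧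
      Cfsg.IsWeaklyClosed (W.map (T : Subgroup G).subtype) (T : Subgroup G) := by
  haveI : Fact (Nat.Prime 2) := ⟨Nat.prime_two⟩
  have h : UpperFour65.Hyp ↥(T : Subgroup G) W := ⟨T.isPGroup', ha, hb, hW, hc, hd⟩
  refine ⟨?_, Subgroup.map_subtype_le _, fun g hg => ?_⟩
  · set N := Subgroup.normalizer ((T : Subgroup G) : Set G) with hN
    let P : Sylow 2 N := T.subtype Subgroup.le_normalizer
    haveI hPn : (P : Subgroup N).Normal := Subgroup.normal_in_normalizer
    obtain ⟨K, hK⟩ := Subgroup.exists_right_complement'_of_coprime (N := (P : Subgroup N))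
      P.card_coprime_index
    have hKodd : Odd (Nat.card K) := by
      rw [← hK.symm.index_eq_card]
      exact Nat.not_even_iff_odd.1 fun he => P.not_dvd_index he.two_dvd
    have hcent : ∀ k ∈ K, ∀ p ∈ (P : Subgroup N), k * p * k⁻¹ = p := by
      intro k hk p hp
      have hkN : ∀ x ∈ (T : Subgroup G), (k : G) * x * (k : G)⁻¹ ∈ (T : Subgroup G) := fun x hx =>
        (Subgroup.mem_normalizer_iff.1 k.2 x).1 hx
      have hkN' : ∀ x ∈ (T : Subgroup G), (k : G)⁻¹ * x * (k : G) ∈ (T : Subgroup G) := fun x hx =>
        (Subgroup.mem_normalizer_iff.1 k.2 _).2 (by simpa [mul_assoc] using hx)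
      let φ : MulAut ↥(T : Subgroup G) :=
        { toFun := fun x => ⟨(k : G) * x * (k : G)⁻¹, hkN x x.2⟩
          invFun := fun x => ⟨(k : G)⁻¹ * x * (k : G), hkN' x x.2⟩
          left_inv := fun x => Subtype.ext (by simp [mul_assoc])
          right_inv := fun x => Subtype.ext (by simp [mul_assoc])
          map_mul' := fun x y => Subtype.ext (by simp [mul_assoc]) }
      have hpow : ∀ (n : ℕ) (x : ↥(T : Subgroup G)),
          ((φ ^ n) x : G) = ((k : G) ^ n) * x * ((k : G) ^ n)⁻¹ := by
        intro n
        induction n with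
        | zero => intro x; simp
        | succ n ih =>
          intro x
          rw [pow_succ' φ, MulAut.mul_apply]
          show (k : G) * ((φ ^ n) x : G) * (k : G)⁻¹ = _
          rw [ih, pow_succ' (k : G)]
          group
      have hm : φ ^ Nat.card K = 1 := by
        ext x
        have hk1 : k ^ Nat.card K = 1 := orderOf_dvd_iff_pow_eq_one.1 (K.orderOf_dvd_natCard hk)
        rw [hpow, ← SubmonoidClass.coe_pow, hk1]
        simp
      refine Subtype.ext ?_
      have := UpperFourAut65.aut_trivial h hm hKodd ⟨(p : G), hp⟩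
      exact congrArg (fun x : ↥(T : Subgroup G) => (x : G)) this
    have hKn : K.Normal := ⟨fun x hx n => by
      obtain ⟨⟨p, k⟩, rfl⟩ := hK.2 n
      have e : (k : N) * x * (k : N)⁻¹ ∈ K := mul_mem (mul_mem k.2 hx) (inv_mem k.2)
      have hc := hcent _ e p p.2
      rw [mul_inv_eq_iff_eq_mul] at hc
      have e2 : (p : N) * k * x * ((p : N) * k)⁻¹ = (p : N) * ((k : N) * x * (k : N)⁻¹) * (p : N)⁻¹ := by group
      show (p : N) * k * x * ((p : N) * k)⁻¹ ∈ K
      rw [e2, ← hc, mul_inv_cancel_right]
      exact e⟩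
    exact ⟨P, K, hKn, hK.symm⟩
  · set W₀ := W.map (T : Subgroup G).subtype with hW₀
    set U := W₀.map (MulAut.conj g).toMonoidHom with hU
    let ε : ↥W ≃* ↥(U.subgroupOf (T : Subgroup G)) :=
      ((W.equivMapOfInjective (T : Subgroup G).subtype (T : Subgroup G).subtype_injective).trans
        (W₀.equivMapOfInjective (MulAut.conj g).toMonoidHom (MulAut.conj g).injective)).trans
        (Subgroup.subgroupOfEquivOfLe hg).symm
    have := UpperFourAut65.eq_of_equiv h _ ε
    show U = W₀
    conv_rhs => rw [hW₀, ← this]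
    rw [Subgroup.subgroupOf_map_subtype, inf_eq_left.2 hg]

end Cfsg.Agent.S3175
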