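import Cfsg.Statements.S3178
import Mathlib
import Cfsg.Agent.S0071
-- import your own Cfsg.Agent.* helpers here

set_option autoImplicit false
set_option linter.style.haveILetI false
open Cfsg
open scoped Pointwise

namespace Cfsg.Agent.S3178

open Subgroup

variable {G : Type*} [Group G] [Finite G]

/-- Conjugation orbit argument: if `g` has odd order, `x` is a 2-element and `δ = x⁻¹ * gxg⁻¹` is
a 2-element fixed by `g`, then `g` fixes `x`. -/
theorem fix_of_delta {g x δ : G} (hodd : Odd (orderOf g)) (hδ : g * x * g⁻¹ = x * δ)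
    (hfix : g * δ * g⁻¹ = δ) {k : ℕ} (h2 : δ ^ (2 ^ k) = 1) : g * x * g⁻¹ = x := by
  have hm : ∀ m : ℕ, g ^ m * x * (g ^ m)⁻¹ = x * δ ^ m := by
    intro m
    induction m with
    | zero => simp
    | succ m ih =>
      have hfm : g * δ ^ m * g⁻¹ = δ ^ m := by rw [← conj_pow, hfix]
      calc g ^ (m + 1) * x * (g ^ (m + 1))⁻¹ = g * (g ^ m * x * (g ^ m)⁻¹) * g⁻¹ := by
            rw [pow_succ']; group
        _ = (g * x * g⁻¹) * (g * δ ^ m * g⁻¹) := by rw [ih]; group
        _ = x * δ ^ (m + 1) := by rw [hδ, hfm, pow_succ', mul_assoc]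
  have h1 := hm (orderOf g)
  rw [pow_orderOf_eq_one, one_mul, inv_one, mul_one] at h1
  have h3 : δ ^ orderOf g = 1 := (left_eq_mul.1 h1)
  have hc : Nat.Coprime (orderOf g) (2 ^ k) := (Nat.coprime_two_right.2 hodd).pow_right k
  have : δ = 1 := by
    rw [← orderOf_eq_one_iff]
    exact Nat.eq_one_of_dvd_coprimes hc (orderOf_dvd_of_pow_eq_one h3) (orderOf_dvd_of_pow_eq_one h2)
  rw [hδ, this, mul_one]

/-- The non-abelian modular 2-group of order `2^(n+1)`, inside `G`. -/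
structure Mod2 (S : Subgroup G) (n : ℕ) (a b : G) : Prop where
  hn : 3 ≤ n
  coords : ∀ x ∈ S, ∃ i : ℤ, x = a ^ i ∨ x = a ^ i * b
  hao : orderOf a = 2 ^ n
  hb2 : b * b = 1
  hba : ∀ i : ℤ, b * a ^ i = a ^ (((2 : ℤ) ^ (n - 1) + 1) * i) * b
  hnot : ∀ i : ℤ, a ^ i ≠ b

namespace Mod2

variable {S : Subgroup G} {n : ℕ} {a b : G}

theorem pow_eq_one (h : Mod2 S n a b) (i : ℤ) : a ^ i = 1 ↔ (2 : ℤ) ^ n ∣ i := by
  rw [← orderOf_dvd_iff_zpow_eq_one, h.hao]
  norm_cast

theorem pows (h : Mod2 S n a b) : (2 : ℤ) ^ (n - 1) = 2 * 2 ^ (n - 2) ∧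
    (2 : ℤ) ^ n = 4 * 2 ^ (n - 2) ∧ (∃ m : ℤ, (2 : ℤ) ^ (n - 2) = 2 * m) := by
  have := h.hn
  refine ⟨?_, ?_, 2 ^ (n - 3), ?_⟩
  · rw [← pow_succ']; congr 1; omega
  · rw [show (4 : ℤ) = 2 ^ 2 by norm_num, ← pow_add]; congr 1; omega
  · rw [← pow_succ']; congr 1; omega

theorem even_comm (h : Mod2 S n a b) {i : ℤ} (hi : (2 : ℤ) ∣ i) : b * a ^ i = a ^ i * b := by
  obtain ⟨j, rfl⟩ := hi
  rw [h.hba]
  congr 1
  rw [← mul_inv_eq_one, ← zpow_sub, h.pow_eq_one]
  refine ⟨j, ?_⟩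
  rw [h.pows.1, h.pows.2.1]; ring

theorem sq_form (h : Mod2 S n a b) (i : ℤ) :
    a ^ i * b * (a ^ i * b) = a ^ ((2 + 2 ^ (n - 1)) * i) := by
  calc a ^ i * b * (a ^ i * b) = a ^ i * (b * a ^ i) * b := by group
    _ = a ^ i * (a ^ (((2 : ℤ) ^ (n - 1) + 1) * i) * b) * b := by rw [h.hba]
    _ = a ^ i * a ^ (((2 : ℤ) ^ (n - 1) + 1) * i) * (b * b) := by group
    _ = _ := by rw [h.hb2, mul_one, ← zpow_add]; congr 1; ring

/-- Squares are even powers of `a`. -/
theorem sq_mem (h : Mod2 S n a b) {x : G} (hx : x ∈ S) : ∃ i : ℤ, (2 : ℤ) ∣ i ∧ x * x = a ^ i := by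
  obtain ⟨i, rfl | rfl⟩ := h.coords x hx
  · exact ⟨2 * i, dvd_mul_right _ _, by rw [← zpow_add, two_mul]⟩
  · refine ⟨(2 + 2 ^ (n - 1)) * i, Dvd.dvd.mul_right ?_ i, h.sq_form i⟩
    exact dvd_add dvd_rfl (h.pows.1 ▸ dvd_mul_right _ _)

/-- An involution which is a square is `a ^ (2^(n-1))`. -/
theorem sq_involution (h : Mod2 S n a b) {x : G} (hx : x ∈ S) (h1 : x * x ≠ 1)
    (h2 : x * x * (x * x) = 1) : x * x = a ^ ((2 : ℤ) ^ (n - 1)) := by
  obtain ⟨i, hi, hxi⟩ := h.sq_mem hx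
  rw [hxi] at h1 h2 ⊢
  rw [← zpow_add, h.pow_eq_one] at h2
  rw [Ne, h.pow_eq_one] at h1
  obtain ⟨k, hk⟩ := h2
  have hd : (2 : ℤ) ^ n = 2 * 2 ^ (n - 1) := by rw [h.pows.1, h.pows.2.1]; ring
  rw [hd] at h1 hk
  rw [← mul_inv_eq_one, ← zpow_sub, h.pow_eq_one, hd]
  have hik : i = 2 ^ (n - 1) * k := by linarith
  rcases Int.even_or_odd k with ⟨l, rfl⟩ | ⟨l, rfl⟩
  · exact absurd ⟨l, by rw [hik]; ring⟩ h1
  · exact ⟨l, by rw [hik]; ring⟩

theorem root_four (h : Mod2 S n a b) {x : G} (hx : x ∈ S) (h4 : x * x * (x * x) = 1) :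
    ∃ i : ℤ, (2 : ℤ) ∣ i ∧ (x = a ^ i ∨ x = a ^ i * b) := by
  obtain ⟨i, rfl | rfl⟩ := h.coords x hx
  · rw [← zpow_add, ← zpow_add, h.pow_eq_one, h.pows.2.1] at h4
    obtain ⟨k, hk⟩ := h4
    obtain ⟨m, hm⟩ := h.pows.2.2
    exact ⟨i, ⟨m * k, by linear_combination (1/4 : ℤ) * 0 + (by
      rw [hm] at hk; linarith : i = 2 * (m * k)) ⟩, Or.inl rfl⟩
  · rw [h.sq_form, ← zpow_add, h.pow_eq_one, h.pows.2.1, h.pows.1] at h4
    obtain ⟨k, hk⟩ := h4
    obtain ⟨m, hm⟩ := h.pows.2.2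
    rw [hm] at hk
    refine ⟨i, ?_, Or.inr rfl⟩
    exact ⟨m * k - m * i, by linarith⟩

/-- Structure of the quotient of two elements with the same square. -/
theorem delta (h : Mod2 S n a b) {x y : G} (hx : x ∈ S) (hy : y ∈ S) (hxy : x * x = y * y) :
    (x⁻¹ * y) ^ 4 = 1 ∧ (x * x * (x * x) = 1 → (x⁻¹ * y) ^ 2 = 1) := by
  constructor
  · have key : ∀ d : ℤ, (2 : ℤ) ^ (n - 2) ∣ d → ∀ c : G, (c = 1 ∨ c = b) → (a ^ d * c) ^ 4 = 1 := by
      rintro d ⟨e, rfl⟩ c hc
      obtain ⟨m, hm⟩ := h.pows.2.2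
      have hcomm : Commute (a ^ ((2 : ℤ) ^ (n - 2) * e)) c := by
        rcases hc with rfl | rfl
        · exact Commute.one_right _
        · exact (h.even_comm ⟨m * e, by rw [hm]; ring⟩).symm
      rw [hcomm.mul_pow, ← zpow_natCast (a ^ _), ← zpow_mul, (h.pow_eq_one _).2 ⟨e, by rw [h.pows.2.1]; push_cast; ring⟩, one_mul]
      rcases hc with rfl | rfl
      · simp
      · rw [show (4:ℕ) = 2 * 2 from rfl, pow_mul, sq c, h.hb2, one_pow]
    have hcl : ∀ d : ℤ, (2 : ℤ) ^ (n - 2) ∣ d → b * a ^ d = a ^ d * b := fun d hd => by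
      obtain ⟨m, hm⟩ := h.pows.2.2
      exact h.even_comm ((Dvd.intro m hm.symm).trans hd)
    have binv : b⁻¹ = b := inv_eq_of_mul_eq_one_right h.hb2
    obtain ⟨m, hm⟩ := h.pows.2.2
    obtain ⟨i, rfl | rfl⟩ := h.coords x hx <;> obtain ⟨j, rfl | rfl⟩ := h.coords y hy
    · rw [← zpow_add, ← zpow_add, ← mul_inv_eq_one, ← zpow_sub, h.pow_eq_one, h.pows.2.1] at hxy
      obtain ⟨k, hk⟩ := hxy
      have := key (j - i) ⟨-(2 * k), by linarith⟩ 1 (Or.inl rfl)
      rw [mul_one] at this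
      rwa [← zpow_neg, ← zpow_add, neg_add_eq_sub]
    · rw [← zpow_add, h.sq_form, ← mul_inv_eq_one, ← zpow_sub, h.pow_eq_one, h.pows.2.1, h.pows.1] at hxy
      obtain ⟨k, hk⟩ := hxy
      have := key (j - i) ⟨-(2 * k) - j, by linarith⟩ b (Or.inr rfl)
      rw [show (a ^ i)⁻¹ * (a ^ j * b) = a ^ (j - i) * b by rw [← mul_assoc, ← zpow_neg, ← zpow_add, neg_add_eq_sub]]
      exact this
    · rw [← zpow_add, h.sq_form, ← mul_inv_eq_one, ← zpow_sub, h.pow_eq_one, h.pows.2.1, h.pows.1] at hxy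
      obtain ⟨k, hk⟩ := hxy
      have hd : (2:ℤ) ^ (n - 2) ∣ j - i := ⟨i - 2 * k, by linarith⟩
      have := key (j - i) hd b (Or.inr rfl)
      rw [show (a ^ i * b)⁻¹ * a ^ j = b * a ^ (j - i) by rw [mul_inv_rev, binv, mul_assoc, ← zpow_neg, ← zpow_add, neg_add_eq_sub], hcl _ hd]
      exact this
    · rw [h.sq_form, h.sq_form, ← mul_inv_eq_one, ← zpow_sub, h.pow_eq_one, h.pows.2.1, h.pows.1] at hxy
      obtain ⟨k, hk⟩ := hxy
      have hd : (2:ℤ) ^ (n - 2) ∣ j - i := by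
        -- `(1 + 2^(n-2)) * (i - j) = 2^(n-2) * (2 k)`
        have hk' : (1 + (2:ℤ) ^ (n - 2)) * (i - j) = 2 ^ (n - 2) * (2 * k) := by linarith
        exact ⟨(i - j) - 2 * k, by linarith⟩
      have := key (j - i) hd 1 (Or.inl rfl)
      rw [mul_one] at this
      rw [show (a ^ i * b)⁻¹ * (a ^ j * b) = a ^ (j - i) by
        calc (a ^ i * b)⁻¹ * (a ^ j * b) = b⁻¹ * ((a ^ i)⁻¹ * a ^ j) * b := by group
          _ = b * a ^ (j - i) * b := by rw [binv, ← zpow_neg, ← zpow_add, neg_add_eq_sub]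
          _ = a ^ (j - i) * (b * b) := by rw [hcl _ hd, mul_assoc]
          _ = _ := by rw [h.hb2, mul_one]]
      exact this
  · intro h4
    have hy4 : y * y * (y * y) = 1 := hxy ▸ h4
    have hc : Commute x y := by
      obtain ⟨i, hi, hix⟩ := h.root_four hx h4
      obtain ⟨j, hj, hjy⟩ := h.root_four hy hy4
      have c1 : Commute (a ^ i) b := (h.even_comm hi).symm
      have c2 : Commute (a ^ j) b := (h.even_comm hj).symm
      have c3 : Commute (a ^ i) (a ^ j) := (Commute.refl a).zpow_zpow i j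
      rcases hix with rfl | rfl <;> rcases hjy with rfl | rfl
      · exact c3
      · exact c3.mul_right c1
      · exact c3.mul_left c2.symm
      · exact (c3.mul_right c1).mul_left (c2.symm.mul_right (Commute.refl b))
    rw [hc.inv_left.mul_pow, inv_pow, sq, sq, hxy, inv_mul_cancel]

theorem fix_all (h : Mod2 S n a b) {Q : Subgroup G} (hQ : Q ≤ S) {g : G}
    (hgQ : g ∈ normalizer (Q : Set G)) (hodd : Odd (orderOf g))
    (hinv : ∀ x ∈ Q, x * x = 1 → g * x * g⁻¹ = x) : ∀ x ∈ Q, g * x * g⁻¹ = x := by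
  have hord : ∀ x ∈ S, x ^ (2 ^ n) = 1 := by
    intro x hx
    obtain ⟨i, hi, hxi⟩ := h.sq_mem hx
    obtain ⟨j, rfl⟩ := hi
    have hd : 2 ^ n = 2 * 2 ^ (n - 1) := by
      rw [← pow_succ']; congr 1; have := h.hn; omega
    rw [hd, pow_mul, sq, hxi, ← zpow_natCast, ← zpow_mul, h.pow_eq_one]
    refine ⟨j, ?_⟩
    rw [h.pows.2.1]; push_cast; rw [h.pows.1]; ring
  -- induction on the exponent
  have main : ∀ k : ℕ, ∀ x ∈ Q, x ^ (2 ^ k) = 1 → g * x * g⁻¹ = x := by
    intro k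
    induction k using Nat.strong_induction_on with
    | _ k ih =>
    intro x hx hk
    match k with
    | 0 => exact hinv x hx (by simp at hk; simp [hk])
    | 1 => exact hinv x hx (by rw [← sq]; simpa using hk)
    | k + 2 =>
      set y := g * x * g⁻¹ with hy
      have hyQ : y ∈ Q := (mem_normalizer_iff.1 hgQ x).1 hx
      have hx2 : g * (x * x) * g⁻¹ = x * x := by
        refine ih (k + 1) (by omega) _ (Q.mul_mem hx hx) ?_
        rw [← sq, ← pow_mul, ← pow_succ']; exact hk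
      have hsq : x * x = y * y := by rw [← hx2, hy]; group
      obtain ⟨hd4, hd2⟩ := h.delta (hQ hx) (hQ hyQ) hsq
      have hδQ : x⁻¹ * y ∈ Q := Q.mul_mem (Q.inv_mem hx) hyQ
      refine fix_of_delta hodd (δ := x⁻¹ * y) (by rw [mul_inv_cancel_left]) ?_ (k := 2) hd4
      match k with
      | 0 =>
        refine hinv _ hδQ ?_
        rw [← sq]; apply hd2
        calc x * x * (x * x) = x ^ (2 ^ (0 + 2)) := by simp [pow_succ, mul_assoc]
          _ = 1 := hk
      | k + 1 => exact ih 2 (by omega) _ hδQ hd4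
  exact fun x hx => main n x hx (hord x (hQ hx))

theorem fix_inv_of_square (h : Mod2 S n a b) {Q : Subgroup G} (hQ : Q ≤ S) {g : G}
    (hgQ : g ∈ normalizer (Q : Set G)) {x : G} (hx : x ∈ Q) (h4 : x * x * (x * x) = 1)
    (hx2 : x * x ≠ 1) : g * (x * x) * g⁻¹ = x * x := by
  have hyQ : g * x * g⁻¹ ∈ Q := (mem_normalizer_iff.1 hgQ x).1 hx
  have e : g * (x * x) * g⁻¹ = (g * x * g⁻¹) * (g * x * g⁻¹) := by group
  rw [e, h.sq_involution (hQ hx) hx2 h4, h.sq_involution (hQ hyQ)]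
  · rw [← e]; exact fun h' => hx2 (conj_eq_one_iff.1 h')
  · rw [← e]
    calc g * (x * x) * g⁻¹ * (g * (x * x) * g⁻¹) = g * (x * x * (x * x)) * g⁻¹ := by group
      _ = 1 := by rw [h4]; group

theorem involution_form (h : Mod2 S n a b) {x : G} (hx : x ∈ S) (h2 : x * x = 1) :
    x = 1 ∨ x = a ^ ((2:ℤ) ^ (n - 1)) ∨ x = b ∨ x = a ^ ((2:ℤ) ^ (n - 1)) * b := by
  have hd : (2 : ℤ) ^ n = 2 * 2 ^ (n - 1) := by rw [h.pows.1, h.pows.2.1]; ring
  have hz : ∀ i : ℤ, (2:ℤ) ^ n ∣ 2 * i → a ^ i = 1 ∨ a ^ i = a ^ ((2:ℤ) ^ (n - 1)) := by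
    intro i hi
    obtain ⟨k, hk⟩ := hi
    rw [hd] at hk
    rcases Int.even_or_odd k with ⟨l, rfl⟩ | ⟨l, rfl⟩
    · left; rw [h.pow_eq_one, hd]; exact ⟨l, by linarith⟩
    · right; rw [← mul_inv_eq_one, ← zpow_sub, h.pow_eq_one, hd]; exact ⟨l, by linarith⟩
  obtain ⟨i, rfl | rfl⟩ := h.coords x hx
  · rw [← zpow_add, ← two_mul, h.pow_eq_one] at h2
    rcases hz i h2 with h' | h' <;> rw [h'] <;> simp
  · rw [h.sq_form, h.pow_eq_one] at h2
    obtain ⟨k, hk⟩ := h2
    obtain ⟨m, hm⟩ := h.pows.2.2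
    have hie : (2:ℤ) ∣ i := ⟨2 * m * k / 1 * 1 - m * i, by
      rw [h.pows.1, h.pows.2.1, hm] at hk; rw [Int.ediv_one]; linarith⟩
    obtain ⟨j, rfl⟩ := hie
    rcases hz (2 * j) ⟨k - j, by rw [hd] at hk ⊢; linarith⟩ with h' | h' <;> rw [h'] <;> simp

end Mod2

/-- Groups with a modular Sylow 2-subgroup have a normal 2-complement. Let S, of order 2^(n+1) with n ≥ 3, be a Sylow 2-subgroup of a finite group G, and suppose S contains an element a of order 2^n and an involution b with b a b⁻¹ = a^(2^(n-1) + 1); so S is the non-abelian 2-group with a cyclic subgroup of index 2 that is neither dihedral, semidihedral nor generalized quaternion. Then G has a normal 2-complement. -/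
theorem result {G : Type*} [Group G] [Finite G]
    (S : Sylow 2 G) (n : ℕ) (hn : 3 ≤ n) (hS : Nat.card ↥(S : Subgroup G) = 2 ^ (n + 1))
    (a b : G) (ha : a ∈ (S : Subgroup G)) (hb : b ∈ (S : Subgroup G))
    (hao : orderOf a = 2 ^ n) (hbo : orderOf b = 2) (hrel : b * a * b⁻¹ = a ^ (2 ^ (n - 1) + 1)) :
    Cfsg.HasNormalPComplement 2 G := by
  haveI : Fact (Nat.Prime 2) := ⟨Nat.prime_two⟩
  have h8 : 2 ^ 3 ≤ 2 ^ n := Nat.pow_le_pow_right (by omega) hn
  have hb2 : b * b = 1 := by rw [← sq, ← hbo, pow_orderOf_eq_one]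
  have hcast : ((2 ^ (n - 1) + 1 : ℕ) : ℤ) = (2:ℤ) ^ (n - 1) + 1 := by push_cast; ring
  have hba : ∀ i : ℤ, b * a ^ i = a ^ (((2 : ℤ) ^ (n - 1) + 1) * i) * b := by
    intro i
    have e : b * a ^ i * b⁻¹ = (b * a * b⁻¹) ^ i := map_zpow (MulAut.conj b) a i
    rw [hrel, ← zpow_natCast, ← zpow_mul, hcast] at e
    rw [← e]; group
  have hnot : ∀ i : ℤ, a ^ i ≠ b := by
    rintro i rfl
    rw [((Commute.refl a).zpow_left i).eq, mul_inv_cancel_right] at hrel
    have e1 : a ^ 1 = a ^ (2 ^ (n - 1) + 1) := by rw [pow_one]; exact hrel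
    have hd : 2 ^ n = 2 * 2 ^ (n - 1) := by rw [← pow_succ', Nat.sub_add_cancel (by omega : 1 ≤ n)]
    have := pow_injOn_Iio_orderOf (show (1:ℕ) < orderOf a by omega)
      (show 2 ^ (n - 1) + 1 < orderOf a by omega) e1
    omega
  have coords : ∀ x ∈ (S : Subgroup G), ∃ i : ℤ, x = a ^ i ∨ x = a ^ i * b := by
    have hA : zpowers a ≤ (S : Subgroup G) := by rwa [zpowers_le]
    have hidx : ((zpowers a).subgroupOf S).index = 2 := by
      have h1 := ((zpowers a).subgroupOf (S : Subgroup G)).card_mul_index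
      rw [Nat.card_congr (subgroupOfEquivOfLe hA).toEquiv, Nat.card_zpowers, hao, hS, pow_succ] at h1
      exact Nat.eq_of_mul_eq_mul_left (Nat.two_pow_pos n) h1
    intro x hx
    by_cases hm : (⟨x, hx⟩ : (S : Subgroup G)) ∈ (zpowers a).subgroupOf S
    · obtain ⟨i, hi⟩ := mem_zpowers_iff.1 (mem_subgroupOf.1 hm)
      exact ⟨i, Or.inl hi.symm⟩
    · have : (⟨x, hx⟩ : (S : Subgroup G)) * ⟨b, hb⟩ ∈ (zpowers a).subgroupOf S := by
        rw [mul_mem_iff_of_index_two hidx]
        refine iff_of_false hm ?_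
        intro hbm
        obtain ⟨i, hi⟩ := mem_zpowers_iff.1 (mem_subgroupOf.1 hbm)
        exact hnot i hi
      obtain ⟨i, hi⟩ := mem_zpowers_iff.1 (mem_subgroupOf.1 this)
      refine ⟨i, Or.inr ?_⟩
      have hi' : a ^ i = x * b := hi
      rw [hi', mul_assoc, hb2, mul_one]
  have h : Mod2 (S : Subgroup G) n a b := ⟨hn, coords, hao, hb2, hba, hnot⟩
  set z := a ^ ((2:ℤ) ^ (n - 1)) with hz
  have hz2 : z * z = 1 := by
    rw [hz, ← zpow_add, h.pow_eq_one, h.pows.1, h.pows.2.1]; exact ⟨1, by ring⟩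
  have hzS : z ∈ (S : Subgroup G) := (S : Subgroup G).zpow_mem ha _
  have hevz : (2:ℤ) ∣ (2:ℤ) ^ (n - 1) := ⟨_, h.pows.1⟩
  refine ⟨S, (Cfsg.Agent.S0071.result S).2 fun Q hQS g hgQ hcop => ?_⟩
  have hodd : Odd (orderOf g) := Nat.coprime_two_right.1 hcop
  rw [mem_centralizer_iff]
  intro x hx
  suffices hall : ∀ y ∈ Q, g * y * g⁻¹ = y from (mul_inv_eq_iff_eq_mul.1 (hall x hx)).symm
  refine h.fix_all hQS hgQ hodd ?_
  intro y hy hy2
  -- it suffices to fix `z` when `z ∈ Q`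
  suffices hgz : z ∈ Q → g * z * g⁻¹ = z by
    rcases h.involution_form (hQS hy) hy2 with rfl | rfl | hyb
    · group
    · exact hgz hy
    · have hy' : g * y * g⁻¹ ∈ Q := (mem_normalizer_iff.1 hgQ y).1 hy
      have hy1 : y ≠ 1 := by
        rcases hyb with rfl | rfl
        · intro h'; exact hnot 0 (by rw [zpow_zero, h'])
        · intro h'
          exact hnot (-(2:ℤ) ^ (n - 1)) (by rw [zpow_neg]; exact (eq_inv_of_mul_eq_one_right h').symm)
      refine fix_of_delta hodd (δ := y⁻¹ * (g * y * g⁻¹)) (by rw [mul_inv_cancel_left]) ?_ (k := 1) ?_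
      all_goals
        have hyy : (g * y * g⁻¹) * (g * y * g⁻¹) = 1 := by
          rw [show (g * y * g⁻¹) * (g * y * g⁻¹) = g * (y * y) * g⁻¹ by group, hy2]; group
        have hne1 : g * y * g⁻¹ ≠ 1 := fun h' => hy1 (conj_eq_one_iff.1 h')
        rcases h.involution_form (hQS hy') hyy with h' | h' | h'
        · exact absurd h' hne1
        · exfalso
          have h' : g * y * g⁻¹ = z := h'
          have hzQ : z ∈ Q := h' ▸ hy'
          have e := hgz hzQ
          rw [← h'] at e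
          have hye : g * y * g⁻¹ = y := mul_left_cancel (mul_right_cancel e)
          rw [hye] at h'
          have hb_ne : y ≠ z := by
            rcases hyb with rfl | rfl
            · exact fun h'' => hnot _ h''.symm
            · intro h''; exact hnot 0 (by rw [zpow_zero]; exact (mul_eq_left.1 h'').symm)
          exact hb_ne h'
        · -- both lie in `{b, z b}`
          have hzb : z * b = b * z := (h.even_comm hevz).symm
          have bi : b⁻¹ = b := inv_eq_of_mul_eq_one_right hb2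
          have zi : z⁻¹ = z := inv_eq_of_mul_eq_one_right hz2
          have hd : y⁻¹ * (g * y * g⁻¹) = 1 ∨ y⁻¹ * (g * y * g⁻¹) = z := by
            rcases hyb with rfl | rfl <;> rcases h' with h'' | h'' <;> rw [h'']
            · left; group
            · right; rw [hzb, bi, ← mul_assoc, hb2, one_mul]
            · right; rw [mul_inv_rev, bi, zi, ← hzb, mul_assoc, hb2, mul_one]
            · left; group
          rcases hd with hd | hd
          · simp [hd]
          · have hzQ : z ∈ Q := hd ▸ Q.mul_mem (Q.inv_mem hy) hy'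
            first
              | (rw [hd]; exact hgz hzQ)
              | (rw [hd, pow_one, sq, hz2])
  intro hzQ
  by_cases hex : ∃ x ∈ Q, x * x ≠ 1
  · obtain ⟨x, hx, hx2⟩ := hex
    -- some element of order 4 squares to `z`
    obtain ⟨k, hk⟩ := S.isPGroup' ⟨x, hQS hx⟩
    have hk' : x ^ (2 ^ k) = 1 := congrArg Subtype.val hk
    have hord : ∃ w ∈ Q, w * w * (w * w) = 1 ∧ w * w ≠ 1 := by
      clear hk
      induction k generalizing x with
      | zero => simp at hk'; exact absurd (by rw [hk', one_mul]) hx2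
      | succ k ih =>
        by_cases h4 : x * x * (x * x) = 1
        · exact ⟨x, hx, h4, hx2⟩
        · exact ih (x * x) (Q.mul_mem hx hx) h4 (by rw [← sq, ← pow_mul, ← pow_succ']; exact hk')
    obtain ⟨w, hw, hw4, hw2⟩ := hord
    rw [show z = w * w from (h.sq_involution (hQS hw) hw2 hw4).symm]
    exact h.fix_inv_of_square hQS hgQ hw hw4 hw2
  push_neg at hex
  by_contra hgz0
  -- `Q` is then the four-group `⟨z, b⟩`
  have hyy : g * z * g⁻¹ * (g * z * g⁻¹) = 1 := by
    rw [show g * z * g⁻¹ * (g * z * g⁻¹) = g * (z * z) * g⁻¹ by group, hz2]; group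
  have hz' : g * z * g⁻¹ ∈ Q := (mem_normalizer_iff.1 hgQ z).1 hzQ
  have hz1 : z ≠ 1 := by
    rw [hz, Ne, h.pow_eq_one]
    intro hdv
    have := Int.le_of_dvd (by positivity) hdv
    rw [h.pows.1, h.pows.2.1] at this
    have : (0:ℤ) < 2 ^ (n - 2) := by positivity
    linarith
  have hbQ : b ∈ Q := by
    rcases h.involution_form (hQS hz') hyy with h' | h' | h' | h'
    · exact absurd (conj_eq_one_iff.1 h') hz1
    · exact absurd h' hgz0
    · exact h' ▸ hz'
    · have := Q.mul_mem (Q.inv_mem hzQ) hz'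
      rwa [h', inv_mul_cancel_left] at this
  -- Frattini argument inside `C(Q)`
  set C := centralizer (Q : Set G) with hC
  set c := a ^ ((2:ℤ) ^ (n - 2)) with hc
  have hevc : (2:ℤ) ∣ (2:ℤ) ^ (n - 2) := by obtain ⟨m, hm⟩ := h.pows.2.2; exact ⟨m, hm⟩
  have hQform : ∀ q ∈ Q, q = 1 ∨ q = z ∨ q = b ∨ q = z * b := fun q hq =>
    h.involution_form (hQS hq) (hex q hq)
  have hcC : c ∈ C := by
    rw [hC, mem_centralizer_iff]
    intro q hq
    have c1 : Commute c b := (h.even_comm hevc).symm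
    have c2 : Commute c z := (Commute.refl a).zpow_zpow _ _
    rcases hQform q hq with rfl | rfl | rfl | rfl
    · simp
    · exact c2.eq.symm
    · exact c1.eq.symm
    · exact (c2.mul_right c1).eq.symm
  have hcz : c * c = z := by
    rw [hc, hz, ← zpow_add, h.pows.1]; congr 1; ring
  have hcS : c ∈ (S : Subgroup G) := (S : Subgroup G).zpow_mem ha _
  obtain ⟨R0, hR0⟩ := ((S.isPGroup'.to_le (inf_le_left : (S : Subgroup G) ⊓ C ≤ S)).comap_subtype (K := C)).exists_le_sylow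
  set R := (R0 : Subgroup C).map C.subtype with hR
  have hRle : R = (S : Subgroup G) ⊓ C := by
    have hle : (S : Subgroup G) ⊓ C ≤ R := fun w hw => ⟨⟨w, hw.2⟩, hR0 (mem_subgroupOf.2 hw), rfl⟩
    obtain ⟨T, hT⟩ := (R0.isPGroup'.map C.subtype).exists_le_sylow
    have hcT : Nat.card R < Nat.card (T : Subgroup G) := by
      by_contra hge
      push_neg at hge
      have hRT : R = (T : Subgroup G) := eq_of_le_of_card_ge hT hge
      obtain ⟨f, hf⟩ := MulAction.exists_smul_eq G S T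
      -- a conjugate of `Q` is central in `S`
      have hcent : ∀ q ∈ Q, f⁻¹ * q * f ∈ (S : Subgroup G) ∧ ∀ s ∈ (S : Subgroup G), Commute s (f⁻¹ * q * f) := by
        intro q hq
        have hqR : q ∈ R := hle ⟨hQS hq, mem_centralizer_iff.2 fun q' hq' => by
          calc q' * q = q' * (q' * q * (q' * q)) * q := by rw [hex _ (Q.mul_mem hq' hq)]; group
            _ = (q' * q') * q * q' * (q * q) := by group
            _ = q * q' := by rw [hex q' hq', hex q hq, one_mul, mul_one]⟩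
        rw [hRT, ← hf] at hqR
        obtain ⟨s0, hs0, hs0q⟩ := hqR
        have hs0' : f⁻¹ * q * f = s0 := by rw [← hs0q]; show f⁻¹ * (f * s0 * f⁻¹) * f = s0; group
        refine ⟨hs0' ▸ hs0, fun s hs => ?_⟩
        have : f * s * f⁻¹ ∈ C := by
          have : f * s * f⁻¹ ∈ (T : Subgroup G) := hf ▸ ⟨s, hs, rfl⟩
          rw [← hRT] at this
          exact map_subtype_le _ this
        have e := mem_centralizer_iff.1 this q hq
        show s * (f⁻¹ * q * f) = f⁻¹ * q * f * s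
        calc s * (f⁻¹ * q * f) = f⁻¹ * ((f * s * f⁻¹) * q) * f := by group
          _ = f⁻¹ * (q * (f * s * f⁻¹)) * f := by rw [e]
          _ = _ := by group
      have hbad : ∀ q ∈ Q, q ≠ 1 → f⁻¹ * q * f = z := by
        intro q hq hq1
        obtain ⟨hqS, hqc⟩ := hcent q hq
        have h1 : f⁻¹ * q * f * (f⁻¹ * q * f) = 1 := by
          rw [show f⁻¹ * q * f * (f⁻¹ * q * f) = f⁻¹ * (q * q) * f by group, hex q hq]; group
        rcases h.involution_form hqS h1 with h' | h' | h' | h'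
        · exfalso; apply hq1
          have : q = f * (f⁻¹ * q * f) * f⁻¹ := by group
          rw [this, h']; group
        · exact h'
        all_goals
          exfalso
          have e := (hqc a ha).eq
          rw [h'] at e
          have e2 : b * a = a * b := by
            first
              | exact e.symm
              | (have e3 : Commute a z := (Commute.refl a).zpow_right _
                 rw [← mul_assoc, e3.eq, mul_assoc, mul_assoc] at e
                 exact (mul_left_cancel e).symm)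
          apply (h.pow_eq_one ((2:ℤ) ^ (n - 1))).not.1 hz1
          have := hba 1
          rw [mul_one, zpow_one, e2] at this
          have e4 := mul_right_cancel this
          rw [zpow_add, zpow_one] at e4
          exact (h.pow_eq_one _).1 (right_eq_mul.1 (e4.trans rfl))
      have := (hbad b hbQ (fun h' => hnot 0 (by rw [zpow_zero, h']))).trans (hbad z hzQ hz1).symm
      exact hnot _ (mul_left_cancel (mul_right_cancel this)).symm
    refine (eq_of_le_of_card_ge hle ?_).symm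
    have hlt : Nat.card R < 2 ^ (n + 1) := by
      rw [← hS, S.card_eq_multiplicity, ← T.card_eq_multiplicity]; exact hcT
    obtain ⟨k, hk⟩ := IsPGroup.iff_card.1 (R0.isPGroup'.map C.subtype : IsPGroup 2 R)
    rw [hk] at hlt
    have hkn : k ≤ n := by
      have := (Nat.pow_lt_pow_iff_right (by norm_num : 1 < 2)).1 hlt; omega
    -- `⟨a², b⟩ ≤ S ⊓ C` has order `2^n`
    have hsub : Nat.card ((S : Subgroup G) ⊓ C : Subgroup G) * 2 ≥ Nat.card (S : Subgroup G) := by
      rw [← Nat.card_congr (subgroupOfEquivOfLe (inf_le_left : (S : Subgroup G) ⊓ C ≤ S)).toEquiv,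
        ← ((((S : Subgroup G) ⊓ C)).subgroupOf (S : Subgroup G)).card_mul_index]
      refine Nat.mul_le_mul_left _ ?_
      have hev : ∀ i : ℤ, (2:ℤ) ∣ i → a ^ i ∈ C := by
        intro i hi
        rw [hC, mem_centralizer_iff]
        intro q hq
        have c1 : Commute (a ^ i) b := (h.even_comm hi).symm
        have c2 : Commute (a ^ i) z := (Commute.refl a).zpow_zpow _ _
        rcases hQform q hq with rfl | rfl | rfl | rfl
        · simp
        · exact c2.eq.symm
        · exact c1.eq.symm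
        · exact (c2.mul_right c1).eq.symm
      have hbC : b ∈ C := by
        rw [hC, mem_centralizer_iff]
        intro q hq
        have c2 : Commute b z := h.even_comm hevz
        rcases hQform q hq with rfl | rfl | rfl | rfl
        · simp
        · exact c2.eq.symm
        · rfl
        · exact (c2.mul_right (Commute.refl b)).eq.symm
      let f : Fin 2 → (S : Subgroup G) ⧸ ((S : Subgroup G) ⊓ C).subgroupOf (S : Subgroup G) :=
        ![QuotientGroup.mk 1, QuotientGroup.mk ⟨a, ha⟩]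
      have hf : Function.Surjective f := by
        intro q
        obtain ⟨⟨s, hs⟩, rfl⟩ := QuotientGroup.mk_surjective q
        obtain ⟨i, hi⟩ := coords s hs
        rcases Int.even_or_odd i with ⟨l, hl⟩ | ⟨l, hl⟩
        · refine ⟨0, QuotientGroup.eq.2 ?_⟩
          rw [mem_subgroupOf]
          refine ⟨(S : Subgroup G).mul_mem ((S : Subgroup G).inv_mem (one_mem _)) hs, ?_⟩
          show (1:G)⁻¹ * s ∈ C
          rw [inv_one, one_mul]
          rcases hi with rfl | rfl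
          · exact hev i ⟨l, by rw [hl]; ring⟩
          · exact C.mul_mem (hev i ⟨l, by rw [hl]; ring⟩) hbC
        · refine ⟨1, QuotientGroup.eq.2 ?_⟩
          rw [mem_subgroupOf]
          refine ⟨(S : Subgroup G).mul_mem ((S : Subgroup G).inv_mem ha) hs, ?_⟩
          show a⁻¹ * s ∈ C
          have hai : a⁻¹ * a ^ i = a ^ (2 * l) := by rw [hl, ← zpow_neg_one, ← zpow_add]; congr 1; ring
          rcases hi with rfl | rfl
          · rw [hai]; exact hev _ (dvd_mul_right _ _)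
          · rw [← mul_assoc, hai]; exact C.mul_mem (hev _ (dvd_mul_right _ _)) hbC
      simpa [Subgroup.index] using Nat.card_le_card_of_surjective f hf
    rw [hk]
    have := Nat.pow_le_pow_right (show 1 ≤ 2 by omega) hkn
    rw [hS, pow_succ] at hsub
    omega
  have hgC : ∀ w ∈ C, g * w * g⁻¹ ∈ C := by
    intro w hw
    rw [hC, mem_centralizer_iff]
    intro q hq
    have hq' : g⁻¹ * q * g ∈ Q := by
      simpa using (mem_normalizer_iff.1 ((Subgroup.normalizer (Q : Set G)).inv_mem hgQ) q).1 hq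
    have e := mem_centralizer_iff.1 hw _ hq'
    calc q * (g * w * g⁻¹) = g * ((g⁻¹ * q * g) * w) * g⁻¹ := by group
      _ = g * (w * (g⁻¹ * q * g)) * g⁻¹ := by rw [e]
      _ = _ := by group
  obtain ⟨R1, hR1⟩ := ((R0.isPGroup'.map C.subtype).map (MulAut.conj g).toMonoidHom).comap_subtype (K := C) |>.exists_le_sylow
  obtain ⟨r, hr⟩ := MulAction.exists_smul_eq C R1 R0
  have hcR : c ∈ R := hRle.symm ▸ ⟨hcS, hcC⟩
  have h1 : (⟨g * c * g⁻¹, hgC c hcC⟩ : C) ∈ (R1 : Subgroup C) :=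
    hR1 (mem_subgroupOf.2 ⟨c, hcR, rfl⟩)
  have h2 : r * ⟨g * c * g⁻¹, hgC c hcC⟩ * r⁻¹ ∈ (R0 : Subgroup C) := by
    rw [← hr]; exact smul_mem_pointwise_smul _ (MulAut.conj r) _ h1
  have h3 : (r : G) * (g * c * g⁻¹) * (r : G)⁻¹ ∈ (S : Subgroup G) := by
    have h4 : (r : G) * (g * c * g⁻¹) * (r : G)⁻¹ ∈ R := ⟨_, h2, rfl⟩
    rw [hRle] at h4
    exact h4.1
  set w := (r : G) * (g * c * g⁻¹) * (r : G)⁻¹ with hw
  have hwz : w * w = g * z * g⁻¹ := by
    have e := mem_centralizer_iff.1 r.2 _ hz'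
    calc w * w = (r : G) * (g * (c * c) * g⁻¹) * (r : G)⁻¹ := by rw [hw]; group
      _ = (r : G) * (g * z * g⁻¹) * (r : G)⁻¹ := by rw [hcz]
      _ = (g * z * g⁻¹) * (r : G) * (r : G)⁻¹ := by rw [e]
      _ = _ := by group
  apply hgz0
  rw [← hwz]
  refine h.sq_involution h3 ?_ ?_
  · rw [hwz]; exact fun h' => hz1 (conj_eq_one_iff.1 h')
  · rw [hwz]; exact hyy

end Cfsg.Agent.S3178
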