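import Cfsg.Statements.S3179
import Mathlib
import Cfsg.Agent.Lib.GL52Sections
import Cfsg.Agent.S1163
-- import your own Cfsg.Agent.* helpers here

set_option autoImplicit false
set_option linter.style.haveILetI false
open Cfsg
open scoped Pointwise

namespace Cfsg.Agent.S3179


/-- Let X be a section of the general linear group GL(5, 2), that is, a quotient of a subgroup of it. If X is isomorphic to PSL(2, 2^n) for some n ≥ 2, to a Suzuki group over the field with 2^(2m+1) elements for some m ≥ 1, or to PSU(3, 2^n) for some n ≥ 2, then X is isomorphic to PSL(2, 4). -/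
theorem result {H : Subgroup (GL (Fin 5) (ZMod 2))}
    {K : Subgroup ↥H} [K.Normal]
    (hX : (∃ (n : ℕ) (F : Type) (_ : Field F) (_ : Fintype F), 2 ≤ n ∧ Fintype.card F = 2 ^ n ∧
        Nonempty (↥H ⧸ K ≃* Matrix.ProjectiveSpecialLinearGroup (Fin 2) F)) ∨
      (∃ (m : ℕ) (F : Type) (_ : Field F) (_ : Fintype F), 1 ≤ m ∧ Fintype.card F = 2 ^ (2 * m + 1) ∧
        Nonempty (↥H ⧸ K ≃* ↥(Cfsg.Lie.Sz F (2 ^ (m + 1))))) ∨
      (∃ (n : ℕ) (F : Type) (_ : Field F) (_ : Fintype F), 2 ≤ n ∧ Fintype.card F = 4 ^ n ∧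
        Nonempty (↥H ⧸ K ≃* Cfsg.PSU 3 F (2 ^ n)))) :
    ∃ (F : Type) (_ : Field F) (_ : Fintype F), Fintype.card F = 4 ∧
      Nonempty (↥H ⧸ K ≃* Matrix.ProjectiveSpecialLinearGroup (Fin 2) F) := by
  classical
  rcases hX with ⟨n, F, iF, iT, hn, hF, ⟨e⟩⟩ | ⟨m, F, iF, iT, hm, hF, ⟨e⟩⟩ | ⟨n, F, iF, iT, hn, hF, ⟨e⟩⟩
  · exact ⟨F, iF, iT, GL52Sections.psl_case (hn := hn) (hF := hF) (e := e), ⟨e⟩⟩
  · exfalso
    have hd := GL52Sections.card_section_dvd (H := H) (K := K)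
    rw [Nat.card_congr e.toEquiv, (Cfsg.Agent.S1163.result (F := F) hm hF).1] at hd
    by_cases h3 : m ≤ 2
    · interval_cases m <;> norm_num at hd
    · have h1 : 2 ^ 11 ∣ 9999360 := by
        refine dvd_trans ?_ hd
        refine Dvd.dvd.mul_right (Dvd.dvd.mul_right ?_ _) _
        rw [← pow_mul]
        exact pow_dvd_pow 2 (by omega)
      norm_num at h1
  · exact (GL52Sections.psu_case (hn := hn) (hF := hF) (e := e)).elim

end Cfsg.Agent.S3179
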