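import Cfsg.Statements.S3180
import Mathlib
-- import your own Cfsg.Agent.* helpers here

set_option autoImplicit false
open Cfsg
open scoped Pointwise

namespace Cfsg.Agent.S3180

/-- Let P be a Sylow p-subgroup of a finite group J and P₁ a subgroup of P that is weakly closed in P with respect to J. If J acts on a set and two points, each fixed by every element of P₁, lie in one J-orbit, then they lie in one orbit of the normalizer of P₁ in J. -/
theorem result {J : Type*} [Group J] [Finite J]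
    {p : ℕ} [Fact p.Prime] (P : Sylow p J) (P₁ : Subgroup J) (hW : Cfsg.IsWeaklyClosed P₁ (P : Subgroup J))
    {Ω : Type*} [MulAction J Ω] (x y : Ω) (hx : ∀ g ∈ P₁, g • x = x) (hy : ∀ g ∈ P₁, g • y = y)
    (hc : ∃ g : J, g • x = y) :
    ∃ g ∈ Subgroup.normalizer (P₁ : Set J), g • x = y := by
  obtain ⟨g, hg⟩ := hc
  set K := MulAction.stabilizer J y with hK
  have h1 : P₁ ≤ K := fun a ha => hy a ha
  have h2 : P₁.map (MulAut.conj g).toMonoidHom ≤ K := by
    rintro _ ⟨a, ha, rfl⟩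
    show (g * a * g⁻¹) • y = y
    rw [mul_smul, mul_smul, ← hg, inv_smul_smul, hx a ha]
  obtain ⟨Q, hQ⟩ := (P.isPGroup'.to_le hW.1).comap_subtype (K := K) |>.exists_le_sylow
  obtain ⟨R, hR⟩ := ((P.isPGroup'.to_le hW.1).map (MulAut.conj g).toMonoidHom).comap_subtype (K := K) |>.exists_le_sylow
  obtain ⟨k, hk⟩ := MulAction.exists_smul_eq K R Q
  obtain ⟨T, hT⟩ := (Q.isPGroup'.map K.subtype).exists_le_sylow
  obtain ⟨h, hh⟩ := MulAction.exists_smul_eq J T P
  have hmem : ∀ q : K, q ∈ (Q : Subgroup K) → h * (q : J) * h⁻¹ ∈ (P : Subgroup J) := by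
    intro q hq
    rw [← hh]
    show h * (q : J) * h⁻¹ ∈ MulAut.conj h • (T : Subgroup J)
    exact Subgroup.smul_mem_pointwise_smul _ _ _ (hT ⟨q, hq, rfl⟩)
  have e1 : P₁.map (MulAut.conj h).toMonoidHom = P₁ := by
    apply hW.2
    rintro _ ⟨a, ha, rfl⟩
    exact hmem ⟨a, h1 ha⟩ (hQ (by simpa [Subgroup.mem_subgroupOf] using ha))
  have e2 : P₁.map (MulAut.conj (h * k * g)).toMonoidHom = P₁ := by
    apply hW.2
    rintro _ ⟨a, ha, rfl⟩
    have hr : (⟨_, h2 ⟨a, ha, rfl⟩⟩ : K) ∈ (R : Subgroup K) :=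
      hR (by simpa [Subgroup.mem_subgroupOf] using (⟨a, ha, rfl⟩ : ∃ b ∈ P₁, g * b * g⁻¹ = g * a * g⁻¹))
    have hq : k * ⟨_, h2 ⟨a, ha, rfl⟩⟩ * k⁻¹ ∈ (Q : Subgroup K) := by
      rw [← hk]
      exact Subgroup.smul_mem_pointwise_smul _ (MulAut.conj k) _ hr
    have := hmem _ hq
    simpa [mul_assoc] using this
  have n1 : h ∈ Subgroup.normalizer (P₁ : Set J) := by
    rw [Subgroup.mem_normalizer_iff]
    intro a
    constructor
    · intro ha; rw [← e1]; exact ⟨a, ha, rfl⟩
    · intro ha; rw [← e1] at ha; obtain ⟨b, hb, hba⟩ := ha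
      simp at hba; rwa [← hba]
  have n2 : h * k * g ∈ Subgroup.normalizer (P₁ : Set J) := by
    rw [Subgroup.mem_normalizer_iff]
    intro a
    constructor
    · intro ha; rw [← e2]; exact ⟨a, ha, rfl⟩
    · intro ha; rw [← e2] at ha; obtain ⟨b, hb, hba⟩ := ha
      simp only [MulEquiv.coe_toMonoidHom, MulAut.conj_apply] at hba
      have : b = a := mul_left_cancel (mul_right_cancel hba)
      rwa [← this]
  refine ⟨(k : J) * g, ?_, ?_⟩
  · have := (Subgroup.normalizer (P₁ : Set J)).mul_mem (Subgroup.inv_mem _ n1) n2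
    simpa [mul_assoc] using this
  · rw [mul_smul, hg]; exact k.2

end Cfsg.Agent.S3180
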