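import Cfsg.Statements.S3183
import Mathlib
-- import your own Cfsg.Agent.* helpers here

set_option autoImplicit false
open Cfsg
open scoped Pointwise

namespace Cfsg.Agent.S3183

variable {G : Type*} [Group G] [Finite G]

theorem center_of_inter
    (hCI : ∀ S T : Sylow 2 G, S ≠ T → ∃ U : Sylow 2 G,
      (S : Subgroup G) ⊓ (T : Subgroup G) ≤ (Subgroup.center ↥(U : Subgroup G)).map (U : Subgroup G).subtype)
    (S T : Sylow 2 G) (h : S ≠ T) :
    (S : Subgroup G) ⊓ (T : Subgroup G) ≤ Subgroup.centralizer ((S : Subgroup G) : Set G) := by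
  suffices H : ∀ (k : ℕ) (T : Sylow 2 G), S ≠ T → Nat.card (S : Subgroup G) - Nat.card ↥((S : Subgroup G) ⊓ (T : Subgroup G)) = k →
      (S : Subgroup G) ⊓ (T : Subgroup G) ≤ Subgroup.centralizer ((S : Subgroup G) : Set G) from
    H _ T h rfl
  intro k
  induction k using Nat.strong_induction_on with
  | _ k ih =>
  intro T hne hk
  set D := (S : Subgroup G) ⊓ (T : Subgroup G) with hD
  have hDS : D < (S : Subgroup G) := by
    refine lt_of_le_of_ne inf_le_left fun he => hne ?_
    have : (S : Subgroup G) ≤ (T : Subgroup G) := by rw [← he]; exact inf_le_right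
    exact (Sylow.ext (S.is_maximal' T.isPGroup' this)).symm
  obtain ⟨U, hU⟩ := hCI S T hne
  have hUc : (U : Subgroup G) ≤ Subgroup.centralizer (D : Set G) := by
    intro u hu d hd
    obtain ⟨e, he, rfl⟩ := hU hd
    exact (congrArg Subtype.val (Subgroup.mem_center_iff.1 he ⟨u, hu⟩)).symm
  have hUn : (U : Subgroup G) ≤ Subgroup.normalizer (D : Set G) :=
    hUc.trans (Subgroup.centralizer_le_normalizer _)
  set N := Subgroup.normalizer (D : Set G)
  obtain ⟨W', hW'⟩ := ((S.isPGroup'.to_le (inf_le_left : (S : Subgroup G) ⊓ N ≤ S)).comap_subtype (K := N)).exists_le_sylow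
  obtain ⟨g, hg⟩ := MulAction.exists_smul_eq N (U.subtype hUn) W'
  let W : Sylow 2 G := ((g : G)) • U
  have hWc : (W : Subgroup G) ≤ Subgroup.centralizer (D : Set G) := by
    intro w hw d hd
    obtain ⟨u, hu, rfl⟩ := hw
    have hd' : (g : G)⁻¹ * d * (g : G) ∈ D := by
      simpa using (Subgroup.mem_normalizer_iff.1 (N.inv_mem g.2) d).1 hd
    have hh := hUc hu _ hd'
    show d * ((g : G) * u * (g : G)⁻¹) = ((g : G) * u * (g : G)⁻¹) * d
    calc d * ((g : G) * u * (g : G)⁻¹) = (g : G) * (((g : G)⁻¹ * d * (g : G)) * u) * (g : G)⁻¹ := by group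
      _ = (g : G) * (u * ((g : G)⁻¹ * d * (g : G))) * (g : G)⁻¹ := by rw [hh]
      _ = ((g : G) * u * (g : G)⁻¹) * d := by group
  have hWS : (S : Subgroup G) ⊓ N ≤ (W : Subgroup G) := by
    intro x hx
    have : (⟨x, hx.2⟩ : N) ∈ (W' : Subgroup N) := hW' (Subgroup.mem_subgroupOf.2 hx)
    rw [← hg] at this
    obtain ⟨u, hu, hux⟩ := this
    exact ⟨(u : G), hu, congrArg Subtype.val hux⟩
  have hlt : D < (S : Subgroup G) ⊓ N := by
    haveI : Group.IsNilpotent ↥(S : Subgroup G) := S.isPGroup'.isNilpotent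
    have hne' : D.subgroupOf (S : Subgroup G) < ⊤ := by
      rw [lt_top_iff_ne_top, Ne, Subgroup.subgroupOf_eq_top]
      exact not_le_of_gt hDS
    obtain ⟨x, hx, hx'⟩ := SetLike.exists_of_lt ((Group.normalizerCondition_of_isNilpotent) _ hne')
    refine lt_of_le_of_ne (le_inf hDS.le Subgroup.le_normalizer) fun he => hx' ?_
    show (x : G) ∈ D
    rw [he]
    refine ⟨x.2, Subgroup.mem_normalizer_iff.2 fun d => ?_⟩
    rw [Subgroup.mem_normalizer_iff] at hx
    constructor
    · intro hd
      exact (hx ⟨d, hDS.le hd⟩).1 hd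
    · intro hd
      have hdS : d ∈ (S : Subgroup G) := by
        have := (S : Subgroup G).mul_mem ((S : Subgroup G).mul_mem ((S : Subgroup G).inv_mem x.2) (hDS.le hd)) x.2
        simpa [mul_assoc] using this
      exact (hx ⟨d, hdS⟩).2 hd
  by_cases hSW : S = W
  · exact fun d hd s hs => ((Subgroup.mem_centralizer_iff.1 (hWc (hSW ▸ hs))) d hd).symm
  · have hle : (S : Subgroup G) ⊓ N ≤ (S : Subgroup G) ⊓ (W : Subgroup G) := le_inf inf_le_left hWS
    have hlt' : D < (S : Subgroup G) ⊓ (W : Subgroup G) := hlt.trans_le hle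
    refine hlt'.le.trans (ih _ ?_ W hSW rfl)
    have h1 : Nat.card D < Nat.card ↥((S : Subgroup G) ⊓ (W : Subgroup G)) := by
      exact Set.Finite.card_lt_card (Set.toFinite _) hlt' 
    have h2 : Nat.card ↥((S : Subgroup G) ⊓ (W : Subgroup G)) ≤ Nat.card (S : Subgroup G) :=
      Subgroup.card_le_of_le inf_le_left
    omega

theorem mem_center_map {U : Subgroup G} {d : G} (h1 : d ∈ U) (h2 : d ∈ Subgroup.centralizer (U : Set G)) :
    d ∈ (Subgroup.center ↥U).map U.subtype :=
  ⟨⟨d, h1⟩, Subgroup.mem_center_iff.2 fun u => Subtype.ext (h2 u u.2), rfl⟩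

/-- Let G be a finite group in which the intersection of any two distinct Sylow 2-subgroups is contained in the centre of some Sylow 2-subgroup, and let S be a Sylow 2-subgroup. Then for every x in S the centralizer of x in S is a Sylow 2-subgroup of the centralizer of x in G (no 2-subgroup centralizing x is larger), and for every other Sylow 2-subgroup T the intersection S ∩ T lies in both the centre of S and the centre of T. -/
theorem result {G : Type*} [Group G] [Finite G]
    (hCI : ∀ S T : Sylow 2 G, S ≠ T → ∃ U : Sylow 2 G,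
      (S : Subgroup G) ⊓ (T : Subgroup G) ≤ (Subgroup.center ↥(U : Subgroup G)).map (U : Subgroup G).subtype)
    (S : Sylow 2 G) :
    (∀ x ∈ (S : Subgroup G), ∀ P : Subgroup G, IsPGroup 2 ↥P → P ≤ Subgroup.centralizer ({x} : Set G) →
        Nat.card ↥P ≤ Nat.card ↥((S : Subgroup G) ⊓ Subgroup.centralizer ({x} : Set G))) ∧
    (∀ T : Sylow 2 G, T ≠ S →
        (S : Subgroup G) ⊓ (T : Subgroup G) ≤
          (Subgroup.center ↥(S : Subgroup G)).map (S : Subgroup G).subtype ⊓
            (Subgroup.center ↥(T : Subgroup G)).map (T : Subgroup G).subtype) := by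
  constructor
  · intro x hx P hP hPc
    set C := Subgroup.centralizer ({x} : Set G)
    obtain ⟨Q, hQ⟩ := ((S.isPGroup'.to_le (inf_le_left : (S : Subgroup G) ⊓ C ≤ S)).comap_subtype (K := C)).exists_le_sylow
    obtain ⟨R, hR⟩ := (hP.comap_subtype (K := C)).exists_le_sylow
    obtain ⟨T, hT⟩ := (Q.isPGroup'.map C.subtype).exists_le_sylow
    have hST : (S : Subgroup G) ⊓ C ≤ (T : Subgroup G) := fun y hy =>
      hT ⟨⟨y, hy.2⟩, hQ (Subgroup.mem_subgroupOf.2 hy), rfl⟩
    have hxC : x ∈ C := Subgroup.mem_centralizer_singleton_iff.2 rfl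
    have key : Nat.card ↥(Q : Subgroup C) ≤ Nat.card ↥((S : Subgroup G) ⊓ C) := by
      rw [← Subgroup.card_map_of_injective (f := C.subtype) Subtype.val_injective]
      by_cases hTS : T = S
      · exact Subgroup.card_le_of_le (le_inf (hTS ▸ hT) (Subgroup.map_subtype_le _))
      · have hxZ := center_of_inter hCI S T (Ne.symm hTS) ⟨hx, hST ⟨hx, hxC⟩⟩
        have hSC : (S : Subgroup G) ≤ C := fun s hs =>
          Subgroup.mem_centralizer_singleton_iff.2 (hxZ s hs)
        rw [inf_eq_left.2 hSC, S.card_eq_multiplicity]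
        exact (Subgroup.card_le_of_le hT).trans T.card_eq_multiplicity.le
    refine le_trans ?_ key
    have e : Nat.card ↥(Q : Subgroup C) = Nat.card ↥(R : Subgroup C) :=
      Q.card_eq_multiplicity.trans R.card_eq_multiplicity.symm
    rw [e, ← Nat.card_congr (Subgroup.subgroupOfEquivOfLe hPc).toEquiv]
    exact Subgroup.card_le_of_le hR
  · intro T hT d hd
    exact ⟨mem_center_map hd.1 (center_of_inter hCI S T hT.symm hd),
      mem_center_map hd.2 (center_of_inter hCI T S hT ⟨hd.2, hd.1⟩)⟩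

end Cfsg.Agent.S3183
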