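import Cfsg.Statements.S3184
import Cfsg.Agent.Lib.ZStarTheorem

set_option autoImplicit false
open Cfsg

namespace Cfsg.Agent.S3184

/-- Let G be a finite group in which the intersection of any two distinct Sylow 2-subgroups is contained in the centre of some Sylow 2-subgroup, and let S be a Sylow 2-subgroup. If C is a nontrivial cyclic characteristic subgroup of S, then the involution of C is central modulo the largest normal subgroup of odd order of G: each of its conjugates has the same image in G/O(G). -/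
theorem result {G : Type*} [Group G] [Finite G]
    (hCI : ∀ S T : Sylow 2 G, S ≠ T → ∃ U : Sylow 2 G,
      (S : Subgroup G) ⊓ (T : Subgroup G) ≤ (Subgroup.center ↥(U : Subgroup G)).map (U : Subgroup G).subtype)
    (S : Sylow 2 G) (C : Subgroup ↥(S : Subgroup G)) (hC : C ≠ ⊥) (hCc : IsCyclic ↥C) (hCh : C.Characteristic)
    (c : ↥(S : Subgroup G)) (hc : c ∈ C) (hc2 : orderOf c = 2) :
    ∀ g : G, (QuotientGroup.mk (s := Cfsg.oddCore G) (g * (c : G) * g⁻¹)) =
      QuotientGroup.mk (s := Cfsg.oddCore G) (c : G) := by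
  classical
  have : Fact (Nat.Prime 2) := ⟨Nat.prime_two⟩
  have : C.Characteristic := hCh
  set x : G := (c : G) with hx
  have hxo : orderOf x = 2 := (Subgroup.orderOf_coe c).trans hc2
  have huniq : ∀ d ∈ C, orderOf d = 2 → d = c := by
    intro d hd hd2
    by_contra hne
    have := Fintype.ofFinite C
    have hle := IsCyclic.card_pow_eq_one_le (α := C) (n := 2) two_pos
    have hsub : ({1, ⟨c, hc⟩, ⟨d, hd⟩} : Finset C) ⊆ Finset.univ.filter fun a => a ^ 2 = 1 := by
      intro a ha
      simp only [Finset.mem_insert, Finset.mem_singleton] at ha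
      simp only [Finset.mem_filter, Finset.mem_univ, true_and]
      rcases ha with ha | ha | ha <;> subst a
      · simp
      · exact Subtype.ext (orderOf_dvd_iff_pow_eq_one.1 hc2.dvd)
      · exact Subtype.ext (orderOf_dvd_iff_pow_eq_one.1 hd2.dvd)
    have h3 : ({1, ⟨c, hc⟩, ⟨d, hd⟩} : Finset C).card = 3 := by
      have hc1 : c ≠ 1 := Cfsg.Agent.IsolatedInv.ne_one_of_orderOf_two hc2
      have hd1 : d ≠ 1 := Cfsg.Agent.IsolatedInv.ne_one_of_orderOf_two hd2
      rw [Finset.card_insert_of_notMem (by
        simp only [Finset.mem_insert, Finset.mem_singleton, not_or]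
        exact ⟨fun e => hc1 (congrArg Subtype.val e).symm, fun e => hd1 (congrArg Subtype.val e).symm⟩),
        Finset.card_pair (fun e => hne (congrArg Subtype.val e).symm)]
    have := (Finset.card_le_card hsub).trans hle
    omega
  have hfix : ∀ φ : MulAut ↥(S : Subgroup G), φ c = c := fun φ => huniq _
    (Subgroup.mem_comap.1 ((hCh.fixed φ).symm ▸ hc : c ∈ C.comap φ.toMonoidHom))
    ((φ.orderOf_eq c).trans hc2)
  have hxcen : x ∈ Subgroup.centralizer ((S : Subgroup G) : Set G) := by
    rw [Subgroup.mem_centralizer_iff]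
    intro s hs
    have h1 := congrArg Subtype.val (hfix (MulAut.conj (⟨s, hs⟩ : ↥(S : Subgroup G))))
    simp only [MulAut.conj_apply, Subgroup.coe_mul, Subgroup.coe_inv] at h1
    exact mul_inv_eq_iff_eq_mul.1 h1
  have hz : Cfsg.IsIsolatedInvolution x := by
    refine Cfsg.Agent.ZStarBasic.isolated_of_sylow S x hxo c.2 fun g hy => ?_
    set y := g * x * g⁻¹ with hyd
    set K := Subgroup.centralizer ({y} : Set G) with hK
    have hgS : ((g • S : Sylow 2 G) : Subgroup G) ≤ K := by
      intro s hs
      rw [Sylow.coe_subgroup_smul, Subgroup.mem_pointwise_smul_iff_inv_smul_mem, ← map_inv,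
        MulAut.smul_def, MulAut.conj_apply, inv_inv] at hs
      refine Subgroup.mem_centralizer_singleton_iff.2 ?_
      have h1 := Subgroup.mem_centralizer_iff.1 hxcen _ hs
      have h2 : g * (g⁻¹ * s * g * x) * g⁻¹ = g * (x * (g⁻¹ * s * g)) * g⁻¹ := by rw [h1]
      calc s * y = g * (g⁻¹ * s * g * x) * g⁻¹ := by rw [hyd]; group
        _ = g * (x * (g⁻¹ * s * g)) * g⁻¹ := h2
        _ = y * s := by rw [hyd]; group
    set A := (S : Subgroup G) ⊓ K with hA
    have hAp : IsPGroup 2 (A.subgroupOf K) :=
      IsPGroup.comap_subtype (S.isPGroup'.to_le inf_le_left)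
    obtain ⟨R, hR⟩ := hAp.exists_le_sylow
    obtain ⟨k, rfl⟩ := MulAction.exists_smul_eq K ((g • S).subtype hgS) R
    set T : Sylow 2 G := (k : G) • g • S with hT
    have hAT : A ≤ (T : Subgroup G) := fun a ha => by
      have h1 := hR (show (⟨a, ha.2⟩ : K) ∈ A.subgroupOf K from ha)
      rw [Sylow.coe_subgroup_smul, Subgroup.mem_pointwise_smul_iff_inv_smul_mem, ← map_inv,
        MulAut.smul_def, MulAut.conj_apply] at h1
      rw [hT, Sylow.coe_subgroup_smul, Subgroup.mem_pointwise_smul_iff_inv_smul_mem, ← map_inv,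
        MulAut.smul_def, MulAut.conj_apply]
      exact h1
    have hycen : y ∈ Subgroup.centralizer ((S : Subgroup G) : Set G) := by
      have hyA : y ∈ A := ⟨hy, Subgroup.mem_centralizer_singleton_iff.2 rfl⟩
      by_cases hTS : T = S
      · rw [Subgroup.mem_centralizer_iff]
        intro s hs
        rw [← hTS] at hs
        rw [hT, SetLike.mem_coe, Sylow.coe_subgroup_smul,
          Subgroup.mem_pointwise_smul_iff_inv_smul_mem, ← map_inv, MulAut.smul_def,
          MulAut.conj_apply] at hs
        have h1 := hgS hs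
        have h2 : s = (k : G) * ((k : G)⁻¹ * s * (k : G)⁻¹⁻¹) * (k : G)⁻¹ := by group
        rw [h2]
        exact Subgroup.mem_centralizer_singleton_iff.1 (mul_mem (mul_mem k.2 h1) (inv_mem k.2))
      obtain ⟨U, hU⟩ := hCI S T (Ne.symm hTS)
      have hAU : A ≤ (Subgroup.center ↥(U : Subgroup G)).map (U : Subgroup G).subtype :=
        fun a ha => hU ⟨ha.1, hAT ha⟩
      have hZA : (Subgroup.center ↥(S : Subgroup G)).map (S : Subgroup G).subtype ≤ A := by
        rintro _ ⟨z, hz, rfl⟩
        refine ⟨z.2, Subgroup.mem_centralizer_singleton_iff.2 ?_⟩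
        exact (congrArg Subtype.val (Subgroup.mem_center_iff.1 hz ⟨y, hy⟩)).symm
      have hcard : Nat.card ((Subgroup.center ↥(U : Subgroup G)).map (U : Subgroup G).subtype) =
          Nat.card ((Subgroup.center ↥(S : Subgroup G)).map (S : Subgroup G).subtype) := by
        rw [Subgroup.card_map_of_injective (Subgroup.subtype_injective _),
          Subgroup.card_map_of_injective (Subgroup.subtype_injective _)]
        exact Nat.card_congr (Subgroup.centerCongr (U.equiv S)).toEquiv
      obtain ⟨z, hz, hzy⟩ := (Subgroup.eq_of_le_of_card_ge (hZA.trans hAU) hcard.le).symm.le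
        (hAU hyA)
      rw [Subgroup.mem_centralizer_iff]
      intro s hs
      rw [← hzy]
      exact congrArg Subtype.val (Subgroup.mem_center_iff.1 hz ⟨s, hs⟩)
    obtain ⟨n, hn, hny⟩ := Sylow.conj_eq_normalizer_conj_of_mem_centralizer S x g⁻¹ hxcen
      (by rw [inv_inv]; exact hycen)
    rw [inv_inv] at hny
    rw [hyd, hny]
    have h1 := congrArg Subtype.val
      (hfix (Subgroup.normalizerMonoidHom (S : Subgroup G) ⟨n⁻¹, inv_mem hn⟩))
    change n⁻¹ * x * n⁻¹⁻¹ = x at h1
    rwa [inv_inv] at h1
  intro g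
  rw [eq_comm, QuotientGroup.eq_iff_div_mem, div_eq_mul_inv, mul_inv_rev, mul_inv_rev, inv_inv]
  have h1 := Cfsg.Agent.ZStarTheorem.commutator_mem hz g
  simpa [mul_assoc] using h1

end Cfsg.Agent.S3184
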