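import Mathlib
import Cfsg.Statements.S3190
-- import your own Cfsg.Agent.* helpers here

set_option autoImplicit false
open Cfsg

namespace Cfsg.Agent.S3190

/-- Let p be an odd prime and, inside a finite group, let P be a p-subgroup normalized by a Klein four-group T. Let R be a subgroup of P, normal in P and normalized by T, such that P is the product of R with the centralizer of T in P. If T centralizes the centre of P, then T centralizes the centre of R. -/
theorem result {X : Type*} [Group X] [Finite X]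
    {p : ℕ} (hp : p.Prime) (hodd : Odd p) (P T R : Subgroup X) (hP : IsPGroup p ↥P) (hT : IsKleinFour ↥T)
    (hTP : T ≤ Subgroup.normalizer (P : Set X)) (hRP : R ≤ P) (hRn : (R.subgroupOf P).Normal)
    (hTR : T ≤ Subgroup.normalizer (R : Set X)) (hfac : R ⊔ (P ⊓ Subgroup.centralizer (T : Set X)) = P)
    (hZ : T ≤ Subgroup.centralizer (((Subgroup.center ↥P).map P.subtype : Subgroup X) : Set X)) :
    T ≤ Subgroup.centralizer (((Subgroup.center ↥R).map R.subtype : Subgroup X) : Set X) := by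
  haveI : Fact p.Prime := ⟨hp⟩
  set Z : Subgroup X := (Subgroup.center ↥R).map R.subtype with hZdef
  have hZmem : ∀ z, z ∈ Z ↔ z ∈ R ∧ ∀ r ∈ R, r * z = z * r := by
    intro z
    constructor
    · rintro ⟨z, hz, rfl⟩
      exact ⟨z.2, fun r hr => congrArg Subtype.val (Subgroup.mem_center_iff.mp hz ⟨r, hr⟩)⟩
    · rintro ⟨hz, h⟩
      exact ⟨⟨z, hz⟩, Subgroup.mem_center_iff.mpr fun r => Subtype.ext (h r r.2), rfl⟩
  intro t ht
  rw [Subgroup.mem_centralizer_iff]
  intro z hz
  by_contra hne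
  have ht2 : t * t = 1 := by
    have h := Monoid.pow_exponent_eq_one (⟨t, ht⟩ : ↥T)
    rw [hT.exponent_two, pow_two] at h
    exact congrArg Subtype.val h
  have htinv : t⁻¹ = t := inv_eq_of_mul_eq_one_right ht2
  have hZcomm : ∀ a ∈ Z, ∀ b ∈ Z, a * b = b * a := fun a ha b hb =>
    ((hZmem b).mp hb).2 a ((hZmem a).mp ha).1
  have hnormR : ∀ g : X, g ∈ Subgroup.normalizer (R : Set X) → ∀ a ∈ Z, g * a * g⁻¹ ∈ Z := by
    intro g hg a ha
    rw [hZmem] at ha ⊢
    refine ⟨(Subgroup.mem_normalizer_iff.mp hg a).mp ha.1, fun r hr => ?_⟩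
    have hr' : g⁻¹ * r * g ∈ R := by
      rw [Subgroup.mem_normalizer_iff.mp hg]
      simpa [mul_assoc] using hr
    have := ha.2 _ hr'
    calc r * (g * a * g⁻¹) = g * ((g⁻¹ * r * g) * a) * g⁻¹ := by group
      _ = g * (a * (g⁻¹ * r * g)) * g⁻¹ := by rw [this]
      _ = g * a * g⁻¹ * r := by group
  let E : Subgroup X :=
    { carrier := {v | v ∈ Z ∧ t * v * t⁻¹ = v⁻¹}
      one_mem' := ⟨Z.one_mem, by simp⟩
      mul_mem' := fun {a b} ha hb => ⟨Z.mul_mem ha.1 hb.1, by
        have e : t * (a * b) * t⁻¹ = (t * a * t⁻¹) * (t * b * t⁻¹) := by group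
        rw [e, ha.2, hb.2, ← mul_inv_rev, hZcomm a ha.1 b hb.1]⟩
      inv_mem' := fun {a} ha => ⟨Z.inv_mem ha.1, by
        have e : t * a⁻¹ * t⁻¹ = (t * a * t⁻¹)⁻¹ := by group
        rw [e, ha.2]⟩ }
  set c := t * z * t⁻¹ * z⁻¹ with hc
  have hcZ : c ∈ Z := Z.mul_mem (hnormR t (hTR ht) z hz) (Z.inv_mem hz)
  have hcE : c ∈ E := ⟨hcZ, by
    have e : t * c * t⁻¹ = (t * t) * z * (t * t)⁻¹ * (t * z * t⁻¹)⁻¹ := by rw [hc]; group
    rw [e, ht2, hc]
    group⟩
  have hc1 : c ≠ 1 := by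
    intro h
    apply hne
    rw [hc, mul_inv_eq_one] at h
    calc z * t = (t * z * t⁻¹) * t := by rw [h]
      _ = t * z := by group
  have hEP : E ≤ P := fun v hv => hRP ((hZmem v).mp hv.1).1
  have hPR : P ≤ Subgroup.normalizer (R : Set X) :=
    Subgroup.normal_subgroupOf_iff_le_normalizer hRP |>.mp hRn
  have hEn : P ≤ Subgroup.normalizer (E : Set X) := by
    rw [← hfac]
    refine sup_le ?_ ?_
    · intro r hr
      rw [Subgroup.mem_normalizer_iff]
      intro v
      have fixv : ∀ v : X, v ∈ Z → r * v * r⁻¹ = v := fun v hv => by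
        rw [((hZmem v).mp hv).2 r hr, mul_inv_cancel_right]
      constructor
      · intro hv
        rw [fixv v hv.1]; exact hv
      · intro hv
        have h1 := fixv _ hv.1
        have : r * v * r⁻¹ = v := by
          have h2 := mul_left_cancel (mul_right_cancel (h1.trans (by rfl : r * v * r⁻¹ = r * v * r⁻¹)))
          rw [h2]
        rwa [this] at hv
    · have key : ∀ g ∈ P ⊓ Subgroup.centralizer (T : Set X), ∀ v ∈ E, g * v * g⁻¹ ∈ E := by
        intro g hg v hv
        refine ⟨hnormR g (hPR hg.1) v hv.1, ?_⟩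
        have hgt : Commute t g := (Subgroup.mem_centralizer_iff.mp hg.2 t ht)
        have e1 : t * g = g * t := hgt
        have e2 : g⁻¹ * t⁻¹ = t⁻¹ * g⁻¹ := by rw [← mul_inv_rev, ← mul_inv_rev, e1]
        calc t * (g * v * g⁻¹) * t⁻¹ = (t * g) * v * (g⁻¹ * t⁻¹) := by group
          _ = (g * t) * v * (t⁻¹ * g⁻¹) := by rw [e1, e2]
          _ = g * (t * v * t⁻¹) * g⁻¹ := by group
          _ = (g * v * g⁻¹)⁻¹ := by rw [hv.2]; group
      intro g hg
      rw [Subgroup.mem_normalizer_iff]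
      intro v
      refine ⟨key g hg v, fun hv => ?_⟩
      have := key g⁻¹ (inv_mem hg) _ hv
      simpa [mul_assoc] using this
  set E' : Subgroup ↥P := E.subgroupOf P with hE'
  haveI hE'n : E'.Normal := (Subgroup.normal_subgroupOf_iff_le_normalizer hEP).mpr hEn
  have hpE : p ∣ Nat.card ↥E' := by
    obtain ⟨k, hk⟩ := IsPGroup.iff_card.mp (hP.to_subgroup E')
    rcases k with - | k
    · exfalso
      rw [pow_zero, Subgroup.card_eq_one, Subgroup.eq_bot_iff_forall] at hk
      exact hc1 (congrArg Subtype.val (hk ⟨c, hEP hcE⟩ hcE))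
    · exact hk ▸ dvd_pow_self p k.succ_ne_zero
  have hfix1 : (1 : ↥E') ∈ MulAction.fixedPoints (ConjAct ↥P) ↥E' := fun g => smul_one g
  obtain ⟨w, hw, hw1⟩ :=
    (hP.of_equiv ConjAct.toConjAct).exists_fixed_point_of_prime_dvd_card_of_fixed_point ↥E' hpE hfix1
  have hwE : ((w : ↥P) : X) ∈ E := w.2
  have hwc : (w : ↥P) ∈ Subgroup.center ↥P := by
    rw [Subgroup.mem_center_iff]
    intro g
    have h := congrArg Subtype.val (hw (ConjAct.toConjAct g))
    rw [ConjAct.Subgroup.val_conj_smul, ConjAct.toConjAct_smul] at h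
    exact mul_inv_eq_iff_eq_mul.mp h
  have hcomm : t * ((w : ↥P) : X) = ((w : ↥P) : X) * t :=
    (Subgroup.mem_centralizer_iff.mp (hZ ht) _ ⟨_, hwc, rfl⟩).symm
  have hw2 : ((w : ↥P) : X) * ((w : ↥P) : X) = 1 := by
    have h := hwE.2
    rw [hcomm, mul_inv_cancel_right] at h
    nth_rewrite 2 [h]
    exact mul_inv_cancel _
  apply hw1
  have hwp := hP w
  obtain ⟨k, hk⟩ := hwp
  have h1 : orderOf (w : ↥P) ∣ p ^ k := orderOf_dvd_of_pow_eq_one hk
  have h2 : orderOf (w : ↥P) ∣ 2 := orderOf_dvd_of_pow_eq_one (Subtype.ext (by simpa [pow_two] using hw2))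
  have h3 : orderOf (w : ↥P) = 1 := by
    refine Nat.eq_one_of_dvd_coprimes ?_ h2 h1
    exact (Nat.coprime_two_left.mpr hodd).pow_right k
  exact (Subtype.ext (orderOf_eq_one_iff.mp h3)).symm

end Cfsg.Agent.S3190
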