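import Cfsg.Statements.S3192
import Cfsg.Agent.Lib.ConjType35
import Cfsg.Agent.Lib.PSLSimple
import Cfsg.Agent.S0205
import Cfsg.Agent.S2202
import Cfsg.Agent.S2507
import Cfsg.Agent.S5748

set_option autoImplicit false
open Cfsg

namespace Cfsg.Agent.S3192

open scoped MatrixGroups

/-- In a non-abelian simple group the non-central elements are the non-identity elements. -/
theorem index_set_eq {G : Type*} [Group G] [IsSimpleGroup G] (hna : ¬ ∀ a b : G, a * b = b * a) :
    {m : ℕ | ∃ x : G, x ∉ Subgroup.center G ∧
        m = (Subgroup.centralizer ({x} : Set G)).index} =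
      {m : ℕ | ∃ x : G, x ≠ 1 ∧ (Subgroup.centralizer ({x} : Set G)).index = m} := by
  have hz : Subgroup.center G = ⊥ := by
    rcases Subgroup.Normal.eq_bot_or_eq_top (inferInstance : (Subgroup.center G).Normal) with h | h
    · exact h
    · exact absurd (fun a b => Subgroup.mem_center_iff.1 (h ▸ Subgroup.mem_top b :
        b ∈ Subgroup.center G) a) hna
  ext m
  simp only [Set.mem_ofPred_eq, hz, Subgroup.mem_bot]
  exact ⟨fun ⟨x, h1, h2⟩ => ⟨x, h1, h2.symm⟩, fun ⟨x, h1, h2⟩ => ⟨x, h1, h2.symm⟩⟩

/-- Commuting is transitive when there are exactly three indices other than one. -/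
theorem commute_trans {G : Type*} [Group G] [Finite G] [IsSimpleGroup G]
    (hna : ¬ ∀ a b : G, a * b = b * a) (hS : Set.ncard {m : ℕ | ∃ x : G, x ≠ 1 ∧
      (Subgroup.centralizer ({x} : Set G)).index = m} = 3) (a b c : G) (hb : b ≠ 1)
    (h1 : Commute a b) (h2 : Commute b c) : Commute a c := by
  have heven : 2 ∣ Nat.card G := by
    by_contra h
    have hodd : Odd (Nat.card G) := Nat.odd_iff.2 (by omega)
    exact hna (IsSimpleGroup.comm_iff_isSolvable.2 (S0205.result hodd))
  have hcomm : ∀ t : G, orderOf t = 2 →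
      IsMulCommutative ↥(Subgroup.centralizer ({t} : Set G)) := fun t ht =>
    ⟨⟨fun p q => Subtype.ext (ConjType35.involution_centralizer_comm hna heven _ hS
      (fun n => Iff.rfl) ht p q p.2 q.2)⟩⟩
  rcases S2202.result (even_iff_two_dvd.2 heven) hcomm with h | h | ⟨F, iF, iT, A, iA, iAf, hch, hA, ⟨e⟩⟩
  · exfalso
    obtain ⟨P⟩ : Nonempty (Sylow 2 G) := inferInstance
    haveI := Fact.mk Nat.prime_two
    have hmin : (Nat.card G).minFac = 2 := (Nat.minFac_eq_two_iff _).2 heven
    have hc := IsCyclic.isComplement' (P := P) hmin (h P)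
    rcases (MonoidHom.normal_ker (MonoidHom.transferSylow P
      ((h P).normalizer_le_centralizer hmin))).eq_bot_or_eq_top with e | e
    · rw [e, Subgroup.isComplement'_bot_left] at hc
      haveI := h P
      letI : CommGroup ↥(P : Subgroup G) := IsCyclic.commGroup
      exact hna fun p q => congrArg Subtype.val
        (mul_comm (⟨p, hc ▸ Subgroup.mem_top p⟩ : ↥(P : Subgroup G)) ⟨q, hc ▸ Subgroup.mem_top q⟩)
    · rw [e, Subgroup.isComplement'_top_left] at hc
      have := P.dvd_card_of_dvd_card heven
      rw [hc, Subgroup.card_bot] at this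
      omega
  · exfalso
    obtain ⟨P⟩ : Nonempty (Sylow 2 G) := inferInstance
    haveI := Fact.mk Nat.prime_two
    rcases (h P).eq_bot_or_eq_top with hP | hP
    · have := P.dvd_card_of_dvd_card heven
      rw [hP, Subgroup.card_bot] at this
      omega
    · haveI : Group.IsNilpotent G := (IsPGroup.of_equiv P.isPGroup'
        ((MulEquiv.subgroupCongr hP).trans Subgroup.topEquiv)).isNilpotent
      exact hna (IsSimpleGroup.comm_iff_isSolvable.2 inferInstance)
  · let f : G →* A := (MonoidHom.snd SL(2, F) A).comp e.toMonoidHom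
    have hker : f.ker = ⊤ := by
      rcases f.normal_ker.eq_bot_or_eq_top with hk | hk
      · exact absurd (fun p q => (f.ker_eq_bot_iff.1 hk) (by rw [map_mul, map_mul, mul_comm])) hna
      · exact hk
    have hsnd : ∀ g : G, (e g).2 = 1 := fun g => (hker ▸ Subgroup.mem_top g : g ∈ f.ker)
    have hinj : ∀ g g' : G, (e g).1 = (e g').1 → g = g' := fun g g' h =>
      e.injective (Prod.ext h (by rw [hsnd, hsnd]))
    let π : G →* SL(2, F) := (MonoidHom.fst SL(2, F) A).comp e.toMonoidHom
    have := S5748.ca_sl2 (π a) (π b) (π c)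
      (fun h => hb (hinj b 1 (by simpa [π] using h))) (h1.map π) (h2.map π)
    exact hinj _ _ (by
      show π (a * c) = π (c * a)
      rw [map_mul, map_mul, this.eq])

/-- Simple groups of conjugate type rank three. For a finite group G consider the set of indices of the centralizers of the non-central elements of G. Then G is a non-abelian simple group for which this set has exactly three members if and only if G is isomorphic to PSL(2, 2^m) for some m ≥ 2. -/
theorem result (G : Type*) [Group G] [Finite G] :
    (IsSimpleGroup G ∧ ¬ IsMulCommutative G ∧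
        Set.ncard {m : ℕ | ∃ x : G, x ∉ Subgroup.center G ∧ m = (Subgroup.centralizer ({x} : Set G)).index} = 3) ↔
      ∃ (m : ℕ) (F : Type) (_ : Field F) (_ : Fintype F), 2 ≤ m ∧ Fintype.card F = 2 ^ m ∧
        Nonempty (G ≃* Matrix.ProjectiveSpecialLinearGroup (Fin 2) F) := by
  constructor
  · rintro ⟨hs, hG, h3⟩
    haveI := hs
    have hna : ¬ ∀ a b : G, a * b = b * a := fun h => hG ⟨⟨h⟩⟩
    rw [index_set_eq hna] at h3
    obtain ⟨F, iF, iT, f, hf, hF, he⟩ := (S5748.result hG).1 fun a b c _ hb _ h1 h2 =>
      commute_trans hna h3 a b c hb h1 h2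
    exact ⟨f, F, iF, iT, hf, hF, he⟩
  · rintro ⟨m, F, iF, iT, hm, hF, ⟨e⟩⟩
    have h4 : 4 ≤ Fintype.card F := by
      rw [hF]
      exact (show 4 = 2 ^ 2 by norm_num).le.trans (Nat.pow_le_pow_right (by norm_num) hm)
    have h4' : (2 : ℕ) = 2 → 4 ≤ Nat.card F := fun _ => by rw [Nat.card_eq_fintype_card]; exact h4
    haveI := PSLSimple.isSimpleGroup_PSL_fin' (F := F) le_rfl h4'
    haveI := e.isSimpleGroup
    have hna : ¬ ∀ a b : G, a * b = b * a := fun h =>
      PSLSimple.not_isMulCommutative_PSL_fin (F := F) le_rfl h4' fun a b =>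
        e.symm.injective (by rw [map_mul, map_mul, h])
    refine ⟨inferInstance, fun h => hna h.is_comm.comm, ?_⟩
    rw [index_set_eq hna]
    set q := Fintype.card F with hq
    have hidx : ∀ x : G, (Subgroup.centralizer
        ({e x} : Set (Matrix.ProjectiveSpecialLinearGroup (Fin 2) F))).index =
        (Subgroup.centralizer ({x} : Set G)).index := by
      intro x
      rw [← Subgroup.index_map_equiv (Subgroup.centralizer ({x} : Set G)) e]
      congr 1
      ext y
      obtain ⟨z, rfl⟩ := e.surjective y
      simp [Subgroup.mem_centralizer_singleton_iff, ← map_mul]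
    have hrange := S2507.result (F := F) (by rw [← hq, hF]; exact dvd_pow_self 2 (by omega)) h4
    rw [← hq] at hrange
    have hne1 : q * (q - 1) ≠ 1 ∧ q ^ 2 - 1 ≠ 1 ∧ q * (q + 1) ≠ 1 := by
      refine ⟨?_, ?_, ?_⟩ <;> intro h
      · have := Nat.eq_one_of_mul_eq_one_right h; omega
      · have : 16 ≤ q ^ 2 := le_trans (by norm_num) (Nat.pow_le_pow_left h4 2)
        omega
      · have := Nat.eq_one_of_mul_eq_one_right h; omega
    have hset : {n : ℕ | ∃ x : G, x ≠ 1 ∧ (Subgroup.centralizer ({x} : Set G)).index = n} =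
        {q * (q - 1), q ^ 2 - 1, q * (q + 1)} := by
      ext n
      simp only [Set.mem_ofPred_eq, Set.mem_insert_iff, Set.mem_singleton_iff]
      constructor
      · rintro ⟨x, hx, rfl⟩
        have hmem : (Subgroup.centralizer ({x} : Set G)).index ∈
            ({1, q * (q - 1), q ^ 2 - 1, q * (q + 1)} : Set ℕ) := hrange ▸ ⟨e x, hidx x⟩
        simp only [Set.mem_insert_iff, Set.mem_singleton_iff] at hmem
        rcases hmem with h | h
        · exfalso
          have htop := Subgroup.index_eq_one.1 h
          have hz : x ∈ Subgroup.center G := Subgroup.mem_center_iff.2 fun y =>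
            (Subgroup.mem_centralizer_singleton_iff.1 (htop ▸ Subgroup.mem_top y : y ∈ _))
          rcases Subgroup.Normal.eq_bot_or_eq_top (inferInstance : (Subgroup.center G).Normal)
            with hc | hc
          · exact hx (Subgroup.mem_bot.1 (hc ▸ hz))
          · exact hna fun p q => Subgroup.mem_center_iff.1 (hc ▸ Subgroup.mem_top q :
              q ∈ Subgroup.center G) p
        · exact h
      · intro hn
        obtain ⟨g, hg⟩ : n ∈ Set.range fun g : Matrix.ProjectiveSpecialLinearGroup (Fin 2) F =>
            (Subgroup.centralizer ({g} : Set _)).index := by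
          rw [hrange]; simp only [Set.mem_insert_iff, Set.mem_singleton_iff]; exact Or.inr hn
        obtain ⟨x, rfl⟩ := e.surjective g
        refine ⟨x, fun hx => ?_, (hidx x).symm.trans hg⟩
        subst hx
        have h1 : Subgroup.centralizer ({e 1} : Set
            (Matrix.ProjectiveSpecialLinearGroup (Fin 2) F)) = ⊤ := eq_top_iff.2 fun y _ =>
          Subgroup.mem_centralizer_singleton_iff.2 (by simp)
        simp only [h1, Subgroup.index_top] at hg
        rcases hn with h | h | h
        · exact hne1.1 (h.symm.trans hg.symm)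
        · exact hne1.2.1 (h.symm.trans hg.symm)
        · exact hne1.2.2 (h.symm.trans hg.symm)
    rw [hset, Set.ncard_eq_three]
    have hlin : q * (q - 1) + q = q ^ 2 ∧ q * (q + 1) = q ^ 2 + q := by
      obtain ⟨r, hr⟩ : ∃ r, q = r + 1 := ⟨q - 1, by omega⟩
      rw [hr, Nat.add_sub_cancel]
      exact ⟨by ring, by ring⟩
    exact ⟨q * (q - 1), q ^ 2 - 1, q * (q + 1), by omega, by omega, by omega, rfl⟩

end Cfsg.Agent.S3192
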