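import Mathlib
import Cfsg.Statements.S3195
import Cfsg.Agent.Lib.BaerSuzuki
-- import your own Cfsg.Agent.* helpers here

set_option autoImplicit false
open Cfsg

namespace Cfsg.Agent.S3195

variable {G : Type*} [Group G]

lemma two_ne (k : G) (hk : k ≠ 1) (hodd : Odd (orderOf k)) : k ^ 2 ≠ 1 := by
  intro h
  rcases (Nat.dvd_prime Nat.prime_two).mp (orderOf_dvd_of_pow_eq_one h) with e | e
  · exact hk (orderOf_eq_one_iff.mp e)
  · rw [e] at hodd
    exact absurd hodd (by decide)

lemma inv_pow_conj (a k : G) (ha : a * a = 1) (h : a * k * a = k⁻¹) (i : ℕ) :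
    a * k ^ i * a = (k ^ i)⁻¹ := by
  induction i with
  | zero => simp [ha]
  | succ i ih =>
    calc a * k ^ (i + 1) * a = (a * k ^ i) * (a * a) * (k * a) := by rw [ha, pow_succ]; simp [mul_assoc]
      _ = (a * k ^ i * a) * (a * k * a) := by simp [mul_assoc]
      _ = (k ^ (i + 1))⁻¹ := by rw [ih, h, pow_succ', mul_inv_rev]

lemma conj_val (a k : G) (ha : a⁻¹ = a) (m : ℕ) (hm : orderOf k = 2 * m + 1) (h : a * k * a = k⁻¹) :
    k ^ (m + 1) * a * (k ^ (m + 1))⁻¹ = k * a := by
  have haa : a * a = 1 := by nth_rewrite 1 [← ha]; exact inv_mul_cancel a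
  have h2 : a * k ^ (m + 1) * a = (k ^ (m + 1))⁻¹ := inv_pow_conj a k haa h _
  rw [← h2]
  calc k ^ (m + 1) * a * (a * k ^ (m + 1) * a) = k ^ (m + 1) * (a * a) * k ^ (m + 1) * a := by simp [mul_assoc]
    _ = k * a := by
      rw [haa, mul_one, ← pow_add, show m + 1 + (m + 1) = (2 * m + 1) + 1 by ring, pow_succ, ← hm,
        pow_orderOf_eq_one, one_mul]

lemma exists_conj (a k : G) (ha : a⁻¹ = a) (hodd : Odd (orderOf k)) (h : a * k * a = k⁻¹) :
    ∃ g : G, g * a * g⁻¹ = k * a := by
  obtain ⟨m, hm⟩ := hodd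
  exact ⟨k ^ (m + 1), conj_val a k ha m hm h⟩

lemma exists_conj' (a k : G) (ha : a⁻¹ = a) (hodd : Odd (orderOf k)) (h : a * k * a = k⁻¹)
    (b : G) (hbk : Commute b k) (_hba : a * b = b * a) :
    ∃ g : G, g * a * g⁻¹ = k * a ∧ b * g = g * b := by
  obtain ⟨m, hm⟩ := hodd
  exact ⟨k ^ (m + 1), conj_val a k ha m hm h, (hbk.pow_right (m + 1)).eq⟩

lemma four (A : Subgroup G) (hA : IsKleinFour ↥A) (a : G) (ha : a ∈ A) (ha1 : a ≠ 1) (b : G) (hb : b ∈ A)
    (hb1 : b ≠ 1) (hba : b ≠ a) (c : G) (hc : c ∈ A) (hc1 : c ≠ 1) (hcb : c ≠ b) : c = a ∨ c = a * b := by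
  classical
  haveI : Finite ↥A := Nat.finite_of_card_ne_zero (by rw [hA.card_four]; norm_num)
  by_contra hcon
  push Not at hcon
  haveI := Fintype.ofFinite ↥A
  have h4 : Fintype.card ↥A = 4 := by rw [← Nat.card_eq_fintype_card]; exact hA.card_four
  have hsq : ∀ u ∈ A, u * u = 1 := by
    intro u hu
    have h := Monoid.pow_exponent_eq_one (⟨u, hu⟩ : ↥A)
    rw [hA.exponent_two, pow_two] at h
    exact congrArg Subtype.val h
  have hab1 : a * b ≠ 1 := by
    intro e
    apply hba
    calc b = (a * a) * b := by rw [hsq a ha, one_mul]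
      _ = a := by rw [mul_assoc, e, mul_one]
  let f : Fin 5 → ↥A := ![1, ⟨a, ha⟩, ⟨b, hb⟩, ⟨a * b, A.mul_mem ha hb⟩, ⟨c, hc⟩]
  have hf : Function.Injective f := by
    intro i j hij
    fin_cases i <;> fin_cases j <;> first
      | rfl
      | (exfalso
         have := congrArg Subtype.val hij
         simp [f] at this
         first
           | exact ha1 this | exact ha1 this.symm | exact hb1 this | exact hb1 this.symm
           | exact hab1 this | exact hab1 this.symm | exact hc1 this | exact hc1 this.symm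
           | exact hba this | exact hba this.symm | exact hcb this | exact hcb this.symm
           | exact hcon.1 this | exact hcon.1 this.symm | exact hcon.2 this | exact hcon.2 this.symm
           | exact hb1 this.1 | exact ha1 this.1)
  have := Fintype.card_le_of_injective f hf
  simp [h4] at this


/-- Let A be a Klein four-subgroup of a finite group G. If every G-conjugate of every involution of A commutes with some involution of A (its centralizer meets A nontrivially), then A meets the largest normal 2-subgroup O₂(G) nontrivially. -/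
theorem result {G : Type*} [Group G] [Finite G]
    (A : Subgroup G) (hA : IsKleinFour ↥A)
    (h : ∀ a ∈ A, a ≠ 1 → ∀ g : G, A ⊓ Subgroup.centralizer ({g * a * g⁻¹} : Set G) ≠ ⊥) :
    A ⊓ Cfsg.pCore 2 G ≠ ⊥ := by
  intro hbot
  have hsq : ∀ a ∈ A, a * a = 1 := by
    intro a ha
    have h := Monoid.pow_exponent_eq_one (⟨a, ha⟩ : ↥A)
    rw [hA.exponent_two, pow_two] at h
    exact congrArg Subtype.val h
  have hinv : ∀ a ∈ A, a⁻¹ = a := fun a ha => inv_eq_of_mul_eq_one_right (hsq a ha)
  have hAc : ∀ a ∈ A, ∀ b ∈ A, a * b = b * a := by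
    intro a ha b hb
    have := hinv _ (A.mul_mem ha hb)
    rwa [mul_inv_rev, hinv a ha, hinv b hb, eq_comm] at this
  have hmeet : ∀ a ∈ A, a ≠ 1 → ∀ g : G, ∃ b ∈ A, b ≠ 1 ∧ b * (g * a * g⁻¹) = (g * a * g⁻¹) * b := by
    intro a ha ha1 g
    by_contra hc
    push Not at hc
    apply h a ha ha1 g
    rw [Subgroup.eq_bot_iff_forall]
    intro b hb
    by_contra hb1
    exact hc b hb.1 hb1 (Subgroup.mem_centralizer_iff.mp hb.2 _ rfl).symm
  -- step one
  have step : ∀ a ∈ A, a ≠ 1 → ∃ k : G, k ≠ 1 ∧ Odd (orderOf k) ∧ a * k * a = k⁻¹ ∧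
      ∃ b ∈ A, b ≠ 1 ∧ b ≠ a ∧ b * k = k * b := by
    intro a ha ha1
    have hord : orderOf a = 2 := orderOf_eq_prime (by rw [pow_two]; exact hsq a ha) ha1
    obtain ⟨k, hk1, hkodd, hk⟩ := Cfsg.Agent.BaerSuzuki.exists_inverted_odd a hord (fun N hN hN2 haN => by
      apply ha1
      have : a ∈ A ⊓ Cfsg.pCore 2 G := ⟨ha, (show N ≤ Cfsg.pCore 2 G from le_sSup ⟨hN, hN2⟩) haN⟩
      rw [hbot] at this
      exact this)
    rw [hinv a ha] at hk
    obtain ⟨g, hg⟩ := exists_conj a k (hinv a ha) hkodd hk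
    obtain ⟨b, hb, hb1, hbc⟩ := hmeet a ha ha1 g
    rw [hg] at hbc
    have hba : b * a = a * b := hAc b hb a ha
    refine ⟨k, hk1, hkodd, hk, b, hb, hb1, ?_, ?_⟩
    · rintro rfl
      apply two_ne k hk1 hkodd
      have e : k⁻¹ = k := by
        calc k⁻¹ = b * k * b := hk.symm
          _ = b * (k * b) := by rw [mul_assoc]
          _ = k * b * b := hbc
          _ = k := by rw [mul_assoc, hsq b hb, mul_one]
      rw [pow_two]
      nth_rewrite 2 [← e]
      exact mul_inv_cancel k
    · calc b * k = b * (k * a) * a := by rw [mul_assoc, mul_assoc, hsq a ha, mul_one]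
        _ = k * a * b * a := by rw [hbc]
        _ = k * (a * b * a) := by simp [mul_assoc]
        _ = k * b := by rw [← hba, mul_assoc, hsq a ha, mul_one]
  -- choose a first element
  obtain ⟨a₀, ha₀, ha₀1⟩ : ∃ a ∈ A, a ≠ 1 := by
    by_contra hc
    push Not at hc
    have : A = ⊥ := (Subgroup.eq_bot_iff_forall A).mpr hc
    have h4 := hA.card_four
    rw [this, Subgroup.card_bot] at h4
    omega
  obtain ⟨k, hk1, hkodd, hka₀, b, hb, hb1, hba₀, hbk⟩ := step a₀ ha₀ ha₀1
  obtain ⟨l, hl1, hlodd, hlb, c, hc, hc1, hcb, hcl⟩ := step b hb hb1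
  -- `c` inverts `k`
  have hck : c * k * c = k⁻¹ := by
    rcases four A hA a₀ ha₀ ha₀1 b hb hb1 hba₀ c hc hc1 hcb with rfl | rfl
    · exact hka₀
    · calc a₀ * b * k * (a₀ * b) = a₀ * (b * k) * (a₀ * b) := by simp [mul_assoc]
        _ = a₀ * (k * b) * (b * a₀) := by rw [hbk, hAc a₀ ha₀ b hb]
        _ = a₀ * k * a₀ := by simp only [mul_assoc]; rw [← mul_assoc b b, hsq b hb, one_mul]
        _ = k⁻¹ := hka₀
  have hcbc : c * b = b * c := hAc c hc b hb
  obtain ⟨r, hr, hrc⟩ := exists_conj' b l (hinv b hb) hlodd hlb c hcl hcbc.symm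
  have hv : c * (l * b) = l * b * c := by
    rw [← mul_assoc, hcl, mul_assoc, hcbc, mul_assoc]
  have hkl : k * l = l * k := by
    have main : ∀ i : ℕ, ((l * b) * (k ^ i * c) = (k ^ i * c) * (l * b)) ∨
        ((l * b) * (k ^ i * (c * b)) = (k ^ i * (c * b)) * (l * b)) := by
      intro i
      have hki : c * k ^ i * c = (k ^ i)⁻¹ := inv_pow_conj c k (hsq c hc) hck i
      have hkiodd : Odd (orderOf (k ^ i)) := hkodd.of_dvd_nat (orderOf_pow_dvd i)
      obtain ⟨g, hg, hgb⟩ := exists_conj' c (k ^ i) (hinv c hc) hkiodd hki b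
        ((show Commute b k from hbk).pow_right i) hcbc
      obtain ⟨d, hd, hd1, hdc⟩ := hmeet b hb hb1 (g⁻¹ * r)
      have hd' : (g * d * g⁻¹) * (l * b) = (l * b) * (g * d * g⁻¹) := by
        have e : g * (g⁻¹ * r * b * (g⁻¹ * r)⁻¹) * g⁻¹ = l * b := by rw [← hr]; group
        have := congrArg (MulAut.conj g) hdc
        simp only [map_mul] at this
        rw [← map_mul, ← map_mul] at this
        simp only [MulAut.conj_apply] at this
        rw [← e]
        simpa [mul_assoc] using this
      rcases eq_or_ne d b with rfl | hdb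
      · exfalso
        have e1 : g * d * g⁻¹ = d := by rw [← hgb, mul_inv_cancel_right]
        rw [e1] at hd'
        apply two_ne l hl1 hlodd
        have e : l⁻¹ = l := by
          calc l⁻¹ = d * l * d := hlb.symm
            _ = d * (l * d) := by rw [mul_assoc]
            _ = l * d * d := hd'
            _ = l := by rw [mul_assoc, hsq d hd, mul_one]
        rw [pow_two]
        nth_rewrite 2 [← e]
        exact mul_inv_cancel l
      rcases four A hA c hc hc1 b hb hb1 hcb.symm d hd hd1 hdb with rfl | rfl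
      · left
        rw [hg] at hd'
        exact hd'.symm
      · right
        have e1 : g * (c * b) * g⁻¹ = k ^ i * (c * b) := by
          calc g * (c * b) * g⁻¹ = (g * c * g⁻¹) * (g * b * g⁻¹) := by group
            _ = k ^ i * c * b := by rw [hg, ← hgb, mul_inv_cancel_right]
            _ = k ^ i * (c * b) := mul_assoc _ _ _
        rw [e1] at hd'
        exact hd'.symm
    have hvb : Commute (l * b) c := (show Commute c (l * b) from hv).symm
    have hvk : Commute (l * b) k := by
      rcases main 1 with h1 | h1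
      · rw [pow_one] at h1
        have := (show Commute (l * b) (k * c) from h1).mul_right hvb.inv_right
        rwa [mul_inv_cancel_right] at this
      rcases main 2 with h2 | h2
      · have h2' := (show Commute (l * b) (k ^ 2 * c) from h2).mul_right hvb.inv_right
        rw [mul_inv_cancel_right] at h2'
        obtain ⟨m, hm⟩ := hkodd
        have e : (k ^ 2) ^ (m + 1) = k := by
          rw [← pow_mul, show 2 * (m + 1) = (2 * m + 1) + 1 by ring, pow_succ, ← hm, pow_orderOf_eq_one, one_mul]
        exact e ▸ h2'.pow_right (m + 1)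
      · have h3 := (show Commute (l * b) (k ^ 2 * (c * b)) from h2).mul_right
          (show Commute (l * b) (k ^ 1 * (c * b)) from h1).inv_right
        rw [mul_inv_rev, mul_assoc, ← mul_assoc (c * b), mul_inv_cancel, one_mul, pow_two, pow_one,
          mul_inv_cancel_right] at h3
        exact h3
    have hbk' : Commute b⁻¹ k := (show Commute b k from hbk).inv_left
    have := hvk.mul_left hbk'
    rw [mul_inv_cancel_right] at this
    exact this.symm
  -- the final conjugate
  obtain ⟨s, hs, hsb⟩ := exists_conj' c k (hinv c hc) hkodd hck b hbk hcbc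
  obtain ⟨r', hr', hr'c⟩ := exists_conj' b l (hinv b hb) hlodd hlb c hcl hcbc.symm
  have hrk : r' * k = k * r' ∨ True := Or.inr trivial
  obtain ⟨g, hg⟩ : ∃ g : G, g * (c * b) * g⁻¹ = (k * l) * (c * b) := by
    obtain ⟨m, hm⟩ := hlodd
    refine ⟨l ^ (m + 1) * s, ?_⟩
    have e1 : l ^ (m + 1) * (k * c) * (l ^ (m + 1))⁻¹ = k * c := by
      have : Commute (l ^ (m + 1)) (k * c) :=
        ((show Commute l k from hkl.symm).mul_right (show Commute l c from hcl.symm)).pow_left _
      rw [this.eq, mul_inv_cancel_right]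
    have e2 : l ^ (m + 1) * b * (l ^ (m + 1))⁻¹ = l * b := conj_val b l (hinv b hb) m hm hlb
    calc l ^ (m + 1) * s * (c * b) * (l ^ (m + 1) * s)⁻¹
        = (l ^ (m + 1) * (s * c * s⁻¹) * (l ^ (m + 1))⁻¹) * (l ^ (m + 1) * (s * b * s⁻¹) * (l ^ (m + 1))⁻¹) := by group
      _ = (k * c) * (l * b) := by rw [hs, ← hsb, mul_inv_cancel_right, e1, e2]
      _ = k * (c * l) * b := by simp [mul_assoc]
      _ = (k * l) * (c * b) := by rw [hcl]; simp [mul_assoc]
  have hcbA : c * b ∈ A := A.mul_mem hc hb
  have hcb1 : c * b ≠ 1 := fun e => hcb (by rw [← hinv b hb]; exact eq_inv_of_mul_eq_one_left e)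
  obtain ⟨d, hd, hd1, hdc⟩ := hmeet (c * b) hcbA hcb1 g
  rw [hg] at hdc
  have hfix : d * (k * l) * d = k * l := by
    have hdd : d * (c * b) = (c * b) * d := hAc d hd _ hcbA
    have e2 : d * (k * l) * (c * b) = (k * l) * d * (c * b) := by
      calc d * (k * l) * (c * b) = d * ((k * l) * (c * b)) := mul_assoc _ _ _
        _ = (k * l) * (c * b) * d := hdc
        _ = (k * l) * ((c * b) * d) := mul_assoc _ _ _
        _ = (k * l) * (d * (c * b)) := by rw [hdd]
        _ = (k * l) * d * (c * b) := (mul_assoc _ _ _).symm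
    rw [mul_right_cancel e2, mul_assoc, hsq d hd, mul_one]
  have hconj : d * (k * l) * d = (d * k * d) * (d * l * d) := by
    simp only [mul_assoc]
    rw [← mul_assoc d d, hsq d hd, one_mul]
  rw [hconj] at hfix
  have hl' : ∀ {u : G}, u⁻¹ = u → Odd (orderOf u) → u = 1 := by
    intro u hu huo
    by_contra hu1
    apply two_ne u hu1 huo
    rw [pow_two]
    nth_rewrite 2 [← hu]
    exact mul_inv_cancel u
  rcases eq_or_ne d b with rfl | hdb
  · have ek : d * k * d = k := by rw [hbk, mul_assoc, hsq d hd, mul_one]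
    rw [ek, hlb] at hfix
    exact hl1 (hl' (mul_left_cancel hfix) hlodd)
  rcases four A hA c hc hc1 b hb hb1 hcb.symm d hd hd1 hdb with rfl | rfl
  · have el : d * l * d = l := by rw [hcl, mul_assoc, hsq d hd, mul_one]
    rw [el, hck] at hfix
    exact hk1 (hl' (mul_right_cancel hfix) hkodd)
  · have ek : c * b * k * (c * b) = k⁻¹ := by
      calc c * b * k * (c * b) = c * (b * k) * (c * b) := by simp [mul_assoc]
        _ = c * (k * b) * (b * c) := by rw [hbk, hcbc]
        _ = c * k * c := by simp only [mul_assoc]; rw [← mul_assoc b b, hsq b hb, one_mul]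
        _ = k⁻¹ := hck
    have el : c * b * l * (c * b) = l⁻¹ := by
      calc c * b * l * (c * b) = c * b * l * (b * c) := by rw [hcbc]
        _ = c * (b * l * b) * c := by simp [mul_assoc]
        _ = c * l⁻¹ * c := by rw [hlb]
        _ = l⁻¹ * c * c := by rw [(show Commute c l from hcl).inv_right.eq]
        _ = l⁻¹ := by rw [mul_assoc, hsq c hc, mul_one]
    rw [ek, el] at hfix
    -- (k l)⁻¹ = k l, so k² = l⁻²
    have hkl2 : (k * l) * (k * l) = 1 := by
      nth_rewrite 1 [← hfix]
      rw [(show Commute k l from hkl).inv_inv.eq, ← mul_inv_rev, inv_mul_cancel]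
    have hk2 : k * k = (l * l)⁻¹ := by
      apply eq_inv_of_mul_eq_one_left
      rw [← hkl2]
      exact (show Commute k l from hkl).mul_mul_mul_comm k l
    have hb2 : b * (k * k) = (k * k) * b := (show Commute b k from hbk).mul_right hbk
    rw [hk2] at hb2
    have hl4 : (l * l)⁻¹ = l * l := by
      have e : b * (l * l)⁻¹ * b = l * l := by
        calc b * (l * l)⁻¹ * b = b * l⁻¹ * (b * b) * l⁻¹ * b := by rw [hsq b hb]; simp [mul_assoc]
          _ = (b * l⁻¹ * b) * (b * l⁻¹ * b) := by simp [mul_assoc]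
          _ = l * l := by
            have : b * l⁻¹ * b = l := by
              have h' := congrArg (·⁻¹) hlb
              simpa [mul_assoc, hinv b hb] using h'
            rw [this]
      calc (l * l)⁻¹ = (l * l)⁻¹ * b * b := by rw [mul_assoc _ b b, hsq b hb, mul_one]
        _ = b * (l * l)⁻¹ * b := by rw [hb2]
        _ = l * l := e
    have hl2 : l * l = 1 := hl' hl4 (by rw [← pow_two]; exact hlodd.of_dvd_nat (orderOf_pow_dvd 2))
    exact two_ne l hl1 hlodd (by rw [pow_two]; exact hl2)

end Cfsg.Agent.S3195
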