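import Cfsg.Statements.S3196
-- import your own Cfsg.Agent.* helpers here

set_option autoImplicit false
open Cfsg

namespace Cfsg.Agent.S3196

open scoped Pointwise

variable {G : Type*} [Group G]

/-- elementwise commuting -/
def Cm (X Y : Subgroup G) : Prop := X ≤ Subgroup.centralizer (Y : Set G)

lemma Cm.symm {X Y : Subgroup G} (h : Cm X Y) : Cm Y X := Subgroup.le_centralizer_iff.mp h

lemma Cm.mono {X Y Z : Subgroup G} (h : Cm X Y) (hZ : Z ≤ X) : Cm Z Y := hZ.trans h

lemma Cm.sup {X Y W : Subgroup G} (h : Cm X W) (h' : Cm Y W) : Cm (X ⊔ Y) W := sup_le h h'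

lemma cm_iff {X Y : Subgroup G} : Cm X Y ↔ ∀ x ∈ X, ∀ y ∈ Y, x * y = y * x := by
  constructor
  · intro h x hx y hy
    exact ((Subgroup.mem_centralizer_iff.mp (h hx)) y hy).symm
  · intro h x hx
    exact Subgroup.mem_centralizer_iff.mpr fun y hy => (h x hx y hy).symm

variable {p : ℕ}

lemma eq_zpowers [Finite G] (hp : p.Prime) {X : Subgroup G} (hX : Nat.card ↥X = p) {x : G}
    (hx : x ∈ X) (hx1 : x ≠ 1) : Subgroup.zpowers x = X := by
  apply Subgroup.eq_of_le_of_card_ge (Subgroup.zpowers_le.mpr hx)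
  rw [Nat.card_zpowers, hX]
  have h : orderOf x ∣ p := hX ▸ Subgroup.orderOf_dvd_natCard X hx
  rcases (Nat.dvd_prime hp).mp h with h | h
  · exact absurd (orderOf_eq_one_iff.mp h) hx1
  · exact h.ge

lemma self_cm [Finite G] (hp : p.Prime) {X : Subgroup G} (hX : Nat.card ↥X = p) : Cm X X := by
  haveI := Fact.mk hp
  haveI : IsCyclic ↥X := isCyclic_of_prime_card hX
  rw [cm_iff]
  intro a ha b hb
  have := congrArg Subtype.val ((IsCyclic.isMulCommutative (α := ↥X)).is_comm.comm ⟨a, ha⟩ ⟨b, hb⟩)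
  exact this

lemma card_sup_le [Finite G] (hp : p.Prime) {X Y : Subgroup G} (hX : Nat.card ↥X = p)
    (hY : Nat.card ↥Y = p) (h : Cm X Y) : Nat.card ↥(X ⊔ Y) ≤ p ^ 2 := by
  have hn : X ≤ Subgroup.normalizer (Y : Set G) := h.trans (Subgroup.centralizer_le_normalizer _)
  have he := Subgroup.coe_mul_of_left_le_normalizer_right X Y hn
  calc Nat.card ↥(X ⊔ Y) = Nat.card ↥((X : Set G) * (Y : Set G) : Set G) := by rw [← he]; rfl
    _ ≤ Nat.card ↥(X : Set G) * Nat.card ↥(Y : Set G) := Set.natCard_mul_le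
    _ = p ^ 2 := by
      show Nat.card ↥X * Nat.card ↥Y = p ^ 2
      rw [hX, hY, sq]

lemma prime_disjoint [Finite G] (hp : p.Prime) {X Y : Subgroup G} (hX : Nat.card ↥X = p)
    (hY : Nat.card ↥Y = p) (hne : X ≠ Y) {g : G} (hgX : g ∈ X) (hgY : g ∈ Y) : g = 1 := by
  by_contra hg
  exact hne ((eq_zpowers hp hX hgX hg).symm.trans (eq_zpowers hp hY hgY hg))

lemma card_sup_ge [Finite G] (hp : p.Prime) {X Y : Subgroup G} (hX : Nat.card ↥X = p)
    (hY : Nat.card ↥Y = p) (hne : X ≠ Y) : p ^ 2 ≤ Nat.card ↥(X ⊔ Y) := by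
  let f : ↥X × ↥Y → ↥(X ⊔ Y) := fun a => ⟨(a.1 : G) * (a.2 : G),
    mul_mem (Subgroup.mem_sup_left a.1.2) (Subgroup.mem_sup_right a.2.2)⟩
  have hf : Function.Injective f := by
    rintro ⟨a, b⟩ ⟨c, d⟩ h
    have h' : (a : G) * b = c * d := congrArg Subtype.val h
    have h'' : (c : G)⁻¹ * a = d * (b : G)⁻¹ := by
      rw [inv_mul_eq_iff_eq_mul, ← mul_assoc, ← h', mul_inv_cancel_right]
    have h1 : (c : G)⁻¹ * a = 1 :=
      prime_disjoint hp hX hY hne (mul_mem (inv_mem c.2) a.2)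
        (by rw [h'']; exact mul_mem d.2 (inv_mem b.2))
    have h2 : (d : G) * (b : G)⁻¹ = 1 := by rw [← h'', h1]
    exact Prod.ext (Subtype.ext (inv_mul_eq_one.mp h1).symm) (Subtype.ext (mul_inv_eq_one.mp h2).symm)
  have := Nat.card_le_card_of_injective f hf
  rwa [Nat.card_prod, hX, hY, ← sq] at this

lemma sup_eq_of_line [Finite G] (hp : p.Prime) {X Y A B : Subgroup G} (hX : Nat.card ↥X = p)
    (hY : Nat.card ↥Y = p) (hXY : Cm X Y) (hA : Nat.card ↥A = p) (hB : Nat.card ↥B = p)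
    (hAB : A ≠ B) (hA' : A ≤ X ⊔ Y) (hB' : B ≤ X ⊔ Y) : A ⊔ B = X ⊔ Y :=
  Subgroup.eq_of_le_of_card_ge (sup_le hA' hB')
    ((card_sup_le hp hX hY hXY).trans (card_sup_ge hp hA hB hAB))

/-- if two distinct points of a line commute with `W`, all do -/
lemma all_line [Finite G] (hp : p.Prime) {X Y A B P W : Subgroup G} (hX : Nat.card ↥X = p)
    (hY : Nat.card ↥Y = p) (hXY : Cm X Y) (hA : Nat.card ↥A = p) (hB : Nat.card ↥B = p)
    (hAB : A ≠ B) (hA' : A ≤ X ⊔ Y) (hB' : B ≤ X ⊔ Y) (hP : P ≤ X ⊔ Y)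
    (h1 : Cm A W) (h2 : Cm B W) : Cm P W := by
  rw [← sup_eq_of_line hp hX hY hXY hA hB hAB hA' hB'] at hP
  exact (h1.sup h2).mono hP

/-- a group of order `p` normalizing another one centralizes it -/
lemma cm_of_normalizes [Finite G] (hp : p.Prime) {X W : Subgroup G} (hX : Nat.card ↥X = p)
    (hW : Nat.card ↥W = p) {x : G} (hx : x ∈ X) (hx1 : x ≠ 1)
    (h : W.map (MulAut.conj x).toMonoidHom = W) : Cm X W := by
  obtain ⟨w, hw, hw1⟩ : ∃ w ∈ W, w ≠ 1 := by
    by_contra hc
    push Not at hc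
    have : W = ⊥ := (Subgroup.eq_bot_iff_forall W).mpr hc
    rw [this, Subgroup.card_bot] at hW
    exact hp.one_lt.ne hW
  have how : orderOf w = p := by
    rw [← Nat.card_zpowers, eq_zpowers hp hW hw hw1, hW]
  have hox : orderOf x = p := by
    rw [← Nat.card_zpowers, eq_zpowers hp hX hx hx1, hX]
  have hm : MulAut.conj x w ∈ Subgroup.zpowers w := by
    rw [eq_zpowers hp hW hw hw1, ← h]
    exact Subgroup.mem_map_of_mem _ hw
  obtain ⟨r, hr⟩ := (Subgroup.mem_zpowers_iff).mp hm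
  have hit : ∀ k : ℕ, MulAut.conj (x ^ k) w = w ^ (r ^ k) := by
    intro k
    induction k with
    | zero => simp
    | succ k ih =>
      rw [pow_succ', map_mul, MulAut.mul_apply, ih, map_zpow, ← hr, ← zpow_mul, pow_succ']
  have h1 := hit p
  rw [← hox, pow_orderOf_eq_one, map_one, MulAut.one_apply, hox] at h1
  have h2 : (((r ^ p : ℤ)) : ZMod p) = ((1 : ℤ) : ZMod p) := by
    rw [ZMod.intCast_eq_intCast_iff_dvd_sub]
    have h3 : w ^ ((1 : ℤ) - r ^ p) = 1 := by rw [zpow_sub, zpow_one, ← h1, mul_inv_cancel]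
    have := orderOf_dvd_iff_zpow_eq_one.mpr h3
    rwa [how] at this
  haveI := Fact.mk hp
  push_cast at h2
  rw [ZMod.pow_card] at h2
  have hc : x * w * x⁻¹ = w := by
    have : MulAut.conj x w = w := by
      rw [← hr]
      conv_rhs => rw [← zpow_one w]
      rw [zpow_eq_zpow_iff_modEq, how, ← ZMod.intCast_eq_intCast_iff]
      push_cast
      exact h2
    simpa using this
  have hc' : x * w = w * x := by
    conv_rhs => rw [← hc]
    group
  rw [← eq_zpowers hp hX hx hx1, ← eq_zpowers hp hW hw hw1]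
  apply Subgroup.zpowers_le.mpr
  rw [Subgroup.mem_centralizer_iff]
  intro y hy
  obtain ⟨k, rfl⟩ := (Subgroup.mem_zpowers_iff).mp hy
  exact (show Commute x w from hc').zpow_right k |>.symm

variable (G p) in
structure Hyp where
  K : Set (Subgroup G)
  hp : p.Prime
  hK : ∀ X ∈ K, Nat.card ↥X = p
  hKc : ∀ X ∈ K, ∀ g : G, X.map (MulAut.conj g).toMonoidHom ∈ K
  ha : ∀ X ∈ K, ∀ Y ∈ K, X ≠ Y → Cm X Y → ∀ Z : Subgroup G, Z ≤ X ⊔ Y → Nat.card ↥Z = p → Z ∈ K
  hb : ∀ X ∈ K, ∀ Y ∈ K, X ≠ Y → Cm X Y → ∀ W ∈ K, ∃ Z ∈ K, Z ≤ X ⊔ Y ∧ Cm Z W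

def Univ (H : Hyp G p) : Prop := ∃ V ∈ H.K, ∀ W ∈ H.K, Cm V W

lemma key [Finite G] (H : Hyp G p) {X W Y : Subgroup G} (hX : X ∈ H.K) (hW : W ∈ H.K) (hY : Y ∈ H.K)
    (hXW : ¬ Cm X W) (hYX : Cm Y X) (hYW : Cm Y W) :
    Univ H ∨ ∀ U ∈ H.K, Cm U X → Cm U Y := by
  have hp := H.hp
  have cX := H.hK X hX
  have cW := H.hK W hW
  have cY := H.hK Y hY
  obtain ⟨x, hx, hx1⟩ : ∃ x ∈ X, x ≠ 1 := by
    by_contra hc
    push Not at hc
    have : X = ⊥ := (Subgroup.eq_bot_iff_forall X).mpr hc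
    rw [this, Subgroup.card_bot] at cX
    exact hp.one_lt.ne cX
  set W' := W.map (MulAut.conj x).toMonoidHom with hW'def
  have hW' : W' ∈ H.K := H.hKc W hW x
  have cW' := H.hK W' hW'
  have hne : W' ≠ W := fun e => hXW (cm_of_normalizes hp cX cW hx hx1 e)
  have hUW' : ∀ U : Subgroup G, ∀ z : G, Cm U W → (∀ u ∈ U, u * z = z * u) →
      Cm U (W.map (MulAut.conj z).toMonoidHom) := by
    intro U z hU hz
    rw [cm_iff] at hU ⊢
    intro u hu v hv
    obtain ⟨w, hw, rfl⟩ := Subgroup.mem_map.mp hv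
    show u * (z * w * z⁻¹) = z * w * z⁻¹ * u
    have a : Commute u z := hz u hu
    have b : Commute u w := hU u hu w hw
    exact ((a.mul_right b).mul_right a.inv_right)
  by_cases hWW : Cm W W'
  · left
    obtain ⟨Q, hQ, hQle, hQX⟩ := H.hb W hW W' hW' hne.symm hWW X hX
    have cQ := H.hK Q hQ
    have hLW : Cm (W ⊔ W') W := (self_cm hp cW).sup hWW.symm
    have hQW : Cm Q W := hLW.mono hQle
    have hQneW : Q ≠ W := by
      rintro rfl
      exact hXW hQX.symm
    have hQneX : Q ≠ X := by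
      rintro rfl
      exact hXW hQW
    have hLeq : Q ⊔ W = W ⊔ W' := sup_eq_of_line hp cW cW' hWW cQ cW hQneW hQle le_sup_left
    have hxnorm : (W ⊔ W').map (MulAut.conj x).toMonoidHom = W ⊔ W' := by
      refine Subgroup.eq_of_le_of_card_ge ?_ ?_
      · conv_lhs => rw [← hLeq]
        rw [Subgroup.map_sup]
        refine sup_le ?_ le_sup_right
        rintro _ ⟨q, hq, rfl⟩
        have : x * q = q * x := (cm_iff.mp hQX q hq x hx).symm
        show x * q * x⁻¹ ∈ W ⊔ W'
        rw [this, mul_inv_cancel_right]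
        exact hQle hq
      · rw [Subgroup.card_map_of_injective (MulAut.conj x).injective]
    let Nz : Subgroup G := {
      carrier := {g | (W ⊔ W').map (MulAut.conj g).toMonoidHom = W ⊔ W'}
      one_mem' := by simp [MonoidHom.id, Subgroup.map_id]; ext; simp
      mul_mem' := by
        intro a b ha hb
        simp only [Set.mem_setOf_eq] at *
        conv_rhs => rw [← ha, ← hb]
        rw [Subgroup.map_map]
        congr 1
        ext; simp [mul_assoc]
      inv_mem' := by
        intro a ha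
        simp only [Set.mem_setOf_eq] at *
        conv_lhs => rw [← ha]
        rw [Subgroup.map_map]
        convert Subgroup.map_id _
        ext; simp [mul_assoc] }
    have hXQN : X ⊔ Q ≤ Nz := by
      refine sup_le ?_ ?_
      · rw [← eq_zpowers hp cX hx hx1]
        exact Subgroup.zpowers_le.mpr hxnorm
      · intro q hq
        show (W ⊔ W').map (MulAut.conj q).toMonoidHom = W ⊔ W'
        refine Subgroup.eq_of_le_of_card_ge ?_
          (by rw [Subgroup.card_map_of_injective (MulAut.conj q).injective])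
        rintro _ ⟨a, ha, rfl⟩
        exact mul_mem (mul_mem (hQle hq) ha) (inv_mem (hQle hq))
    refine ⟨Q, hQ, fun U hU => ?_⟩
    by_contra hQU
    obtain ⟨R, hR, hRle, hRU⟩ := H.hb X hX Q hQ hQneX.symm hQX.symm U hU
    have cR := H.hK R hR
    have hRQne : R ≠ Q := by
      rintro rfl
      exact hQU hRU
    have hRQ : Cm R Q := ((hQX.symm).sup (self_cm hp cQ)).mono hRle
    have hRW : ¬ Cm R W := fun h =>
      hXW (all_line hp cX cQ hQX.symm cR cQ hRQne hRle le_sup_right le_sup_left h hQW)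
    have hRne : U ≠ R := by
      rintro rfl
      exact hQU hRQ.symm
    obtain ⟨S, hS, hSle, hSW⟩ := H.hb U hU R hR hRne hRU.symm W hW
    have cS := H.hK S hS
    have hSR : Cm S R := (hRU.symm.sup (self_cm hp cR)).mono hSle
    have hSneR : S ≠ R := by
      rintro rfl
      exact hRW hSW
    obtain ⟨r, hr, hr1⟩ : ∃ r ∈ R, r ≠ 1 := by
      by_contra hc
      push Not at hc
      have : R = ⊥ := (Subgroup.eq_bot_iff_forall R).mpr hc
      rw [this, Subgroup.card_bot] at cR
      exact hp.one_lt.ne cR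
    have hSW'' : Cm S (W.map (MulAut.conj r).toMonoidHom) :=
      hUW' S r hSW (fun s hs => cm_iff.mp hSR s hs r hr)
    have hW''le : W.map (MulAut.conj r).toMonoidHom ≤ W ⊔ W' := by
      have : (W ⊔ W').map (MulAut.conj r).toMonoidHom = W ⊔ W' := hXQN (hRle hr)
      conv_rhs => rw [← this]
      exact Subgroup.map_mono le_sup_left
    have hW''ne : W.map (MulAut.conj r).toMonoidHom ≠ W := fun e =>
      hRW (cm_of_normalizes hp cR cW hr hr1 e)
    have hSQ : Cm S Q :=
      (all_line hp cW cW' hWW (H.hK _ (H.hKc W hW r)) cW hW''ne hW''le le_sup_left hQle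
        hSW''.symm hSW.symm).symm
    exact hQU (all_line hp (H.hK U hU) cR hRU.symm cS cR hSneR hSle le_sup_right le_sup_left
      hSQ hRQ).symm
  · right
    have hXneY : X ≠ Y := by
      rintro rfl
      exact hXW hYW
    have hS : ∀ U ∈ H.K, Cm U X → Cm U W → Cm U Y := by
      intro U hU hUX hUW
      have cU := H.hK U hU
      obtain ⟨y, hy, hy1⟩ : ∃ y ∈ Y, y ≠ 1 := by
        by_contra hc
        push Not at hc
        have : Y = ⊥ := (Subgroup.eq_bot_iff_forall Y).mpr hc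
        rw [this, Subgroup.card_bot] at cY
        exact hp.one_lt.ne cY
      have hxy : x * y = y * x := (cm_iff.mp hYX y hy x hx).symm
      have hz1 : x * y ≠ 1 := fun h => hx1 (prime_disjoint hp cX cY hXneY hx
        (by rw [eq_inv_of_mul_eq_one_left h]; exact inv_mem hy))
      have hzp : (x * y) ^ p = 1 := by
        rw [(show Commute x y from hxy).mul_pow]
        have e1 : x ^ p = 1 := by
          rw [← orderOf_dvd_iff_pow_eq_one, ← cX]; exact Subgroup.orderOf_dvd_natCard X hx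
        have e2 : y ^ p = 1 := by
          rw [← orderOf_dvd_iff_pow_eq_one, ← cY]; exact Subgroup.orderOf_dvd_natCard Y hy
        rw [e1, e2, mul_one]
      haveI := Fact.mk hp
      have cZ : Nat.card ↥(Subgroup.zpowers (x * y)) = p := by
        rw [Nat.card_zpowers]; exact orderOf_eq_prime hzp hz1
      have hZle : Subgroup.zpowers (x * y) ≤ X ⊔ Y := Subgroup.zpowers_le.mpr
        (mul_mem (Subgroup.mem_sup_left hx) (Subgroup.mem_sup_right hy))
      have hZ := H.ha X hX Y hY hXneY hYX.symm _ hZle cZ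
      have hZneX : Subgroup.zpowers (x * y) ≠ X := by
        intro e
        apply hy1
        apply prime_disjoint hp cX cY hXneY ?_ hy
        have : x * y ∈ X := e ▸ Subgroup.mem_zpowers _
        simpa using mul_mem (inv_mem hx) this
      have hconj : W.map (MulAut.conj (x * y)).toMonoidHom = W' := by
        ext g
        simp only [hW'def, Subgroup.mem_map]
        refine exists_congr fun w => and_congr_right fun hw => ?_
        have hyw : y * w * y⁻¹ = w := by
          rw [cm_iff.mp hYW y hy w hw, mul_inv_cancel_right]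
        have : (MulAut.conj (x * y)).toMonoidHom w = (MulAut.conj x).toMonoidHom w := by
          simp only [MulEquiv.coe_toMonoidHom, map_mul, MulAut.mul_apply, MulAut.conj_apply y w, hyw]
        rw [this]
      have hUneW : U ≠ W := by
        rintro rfl
        exact hXW hUX.symm
      obtain ⟨U', hU', hU'le, hU'Z⟩ := H.hb U hU W hW hUneW hUW _ hZ
      have hU'W : Cm U' W := (hUW.sup (self_cm hp cW)).mono hU'le
      have hU'W' : Cm U' W' := hconj ▸ hUW' U' (x * y) hU'W
        (fun u hu => cm_iff.mp hU'Z u hu (x * y) (Subgroup.mem_zpowers _))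
      have hUW'2 : Cm U W' := hUW' U x hUW (fun u hu => cm_iff.mp hUX u hu x hx)
      by_cases hUU : U' = U
      · rw [hUU] at hU'Z
        exact (all_line hp cX cY hYX.symm cZ cX hZneX hZle le_sup_left le_sup_right
          hU'Z.symm hUX.symm).symm
      · exact absurd (all_line hp cU cW hUW (H.hK U' hU') cU hUU hU'le le_sup_left le_sup_right
          hU'W' hUW'2) hWW
    intro U hU hUX
    by_cases hUe : U = X
    · subst hUe; exact hYX.symm
    obtain ⟨S, hS', hSle, hSW⟩ := H.hb U hU X hX hUe hUX W hW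
    have hSX : Cm S X := (hUX.sup (self_cm hp cX)).mono hSle
    have hSY := hS S hS' hSX hSW
    have hSneX : S ≠ X := by
      rintro rfl
      exact hXW hSW
    exact all_line hp (H.hK U hU) cX hUX (H.hK S hS') cX hSneX hSle le_sup_right le_sup_left
      hSY hYX.symm

lemma exists_univ [Finite G] (H : Hyp G p) (hex : ∃ X ∈ H.K, ∃ Y ∈ H.K, X ≠ Y ∧ Cm X Y) :
    Univ H := by
  have hp := H.hp
  obtain ⟨X, hX, Y₀, hY₀, hne, hcm⟩ := hex
  by_contra hno
  obtain ⟨W, hW, hXW⟩ : ∃ W ∈ H.K, ¬ Cm X W := by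
    by_contra hc
    push Not at hc
    exact hno ⟨X, hX, hc⟩
  obtain ⟨Y, hY, hYle, hYW⟩ := H.hb X hX Y₀ hY₀ hne hcm W hW
  have cX := H.hK X hX
  have cY := H.hK Y hY
  have hYX : Cm Y X := ((self_cm hp cX).sup hcm.symm).mono hYle
  have hXneY : X ≠ Y := by
    rintro rfl
    exact hXW hYW
  apply hno
  refine ⟨Y, hY, fun U hU => ?_⟩
  by_contra hYU
  obtain ⟨R, hR, hRle, hRU⟩ := H.hb X hX Y hY hXneY hYX.symm U hU
  have hRY : R ≠ Y := by
    rintro rfl
    exact hYU hRU
  have hRW : ¬ Cm R W := fun h =>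
    hXW (all_line hp cX cY hYX.symm (H.hK R hR) cY hRY hRle le_sup_right le_sup_left h hYW)
  have hRYc : Cm R Y := (hYX.symm.sup (self_cm hp cY)).mono hRle
  rcases key H hR hW hY hRW hRYc.symm hYW with h | h
  · exact hno h
  · exact hYU (h U hU hRU.symm).symm


/-- Let p be a prime and K a set of subgroups of order p of a finite group G, closed under conjugation, such that at least two distinct members of K commute elementwise, and whenever two distinct members X, Y of K commute: every subgroup of order p of the group XY they generate belongs to K, and every member W of K has centralizer meeting XY nontrivially. Then some member V of K commutes elementwise with every member of K and lies in O_p(G); in particular G is not simple. -/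
theorem result {G : Type*} [Group G] [Finite G]
    {p : ℕ} (hp : p.Prime) (K : Set (Subgroup G)) (hK : ∀ X ∈ K, Nat.card ↥X = p)
    (hKc : ∀ X ∈ K, ∀ g : G, X.map (MulAut.conj g).toMonoidHom ∈ K)
    (hex : ∃ X ∈ K, ∃ Y ∈ K, X ≠ Y ∧ ∀ x ∈ X, ∀ y ∈ Y, x * y = y * x)
    (ha : ∀ X ∈ K, ∀ Y ∈ K, X ≠ Y → (∀ x ∈ X, ∀ y ∈ Y, x * y = y * x) →
      ∀ Z : Subgroup G, Z ≤ X ⊔ Y → Nat.card ↥Z = p → Z ∈ K)
    (hb : ∀ X ∈ K, ∀ Y ∈ K, X ≠ Y → (∀ x ∈ X, ∀ y ∈ Y, x * y = y * x) →
      ∀ W ∈ K, (X ⊔ Y) ⊓ Subgroup.centralizer (W : Set G) ≠ ⊥) :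
    (∃ V ∈ K, (∀ W ∈ K, ∀ v ∈ V, ∀ w ∈ W, v * w = w * v) ∧ V ≤ Cfsg.pCore p G) ∧ ¬ IsSimpleGroup G := by
  have hb' : ∀ X ∈ K, ∀ Y ∈ K, X ≠ Y → Cm X Y → ∀ W ∈ K, ∃ Z ∈ K, Z ≤ X ⊔ Y ∧ Cm Z W := by
    intro X hX Y hY hne hc W hW
    have hnb := hb X hX Y hY hne (cm_iff.mp hc) W hW
    haveI := Fact.mk hp
    haveI : Nontrivial ↥((X ⊔ Y) ⊓ Subgroup.centralizer (W : Set G)) :=
      (Subgroup.nontrivial_iff_ne_bot _).mpr hnb
    obtain ⟨⟨g, hg⟩, hg1⟩ := exists_ne (1 : ↥((X ⊔ Y) ⊓ Subgroup.centralizer (W : Set G)))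
    have hg1' : g ≠ 1 := fun h => hg1 (Subtype.ext h)
    have hgp : g ^ p = 1 := by
      have hgm : g ∈ ((X ⊔ Y : Subgroup G) : Set G) := hg.1
      rw [Subgroup.coe_mul_of_left_le_normalizer_right X Y
        (hc.trans (Subgroup.centralizer_le_normalizer _))] at hgm
      obtain ⟨a, ha', b, hb'', rfl⟩ := Set.mem_mul.mp hgm
      rw [(show Commute a b from cm_iff.mp hc a ha' b hb'').mul_pow]
      have e1 : a ^ p = 1 := by
        rw [← orderOf_dvd_iff_pow_eq_one, ← hK X hX]; exact Subgroup.orderOf_dvd_natCard X ha'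
      have e2 : b ^ p = 1 := by
        rw [← orderOf_dvd_iff_pow_eq_one, ← hK Y hY]; exact Subgroup.orderOf_dvd_natCard Y hb''
      rw [e1, e2, mul_one]
    have hle : Subgroup.zpowers g ≤ X ⊔ Y := Subgroup.zpowers_le.mpr hg.1
    refine ⟨_, ha X hX Y hY hne (cm_iff.mp hc) _ hle ?_, hle, Subgroup.zpowers_le.mpr hg.2⟩
    rw [Nat.card_zpowers]; exact orderOf_eq_prime hgp hg1'
  let H : Hyp G p := ⟨K, hp, hK, hKc, fun X hX Y hY hne hc => ha X hX Y hY hne (cm_iff.mp hc), hb'⟩
  obtain ⟨X, hX, Y, hY, hne, hc⟩ := hex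
  obtain ⟨V, hV, hVu⟩ := exists_univ H ⟨X, hX, Y, hY, hne, cm_iff.mpr hc⟩
  set N : Subgroup G := sSup {U | ∃ g : G, U = V.map (MulAut.conj g).toMonoidHom} with hN
  have hmemK : ∀ U ∈ {U | ∃ g : G, U = V.map (MulAut.conj g).toMonoidHom}, U ∈ K := by
    rintro U ⟨g, rfl⟩; exact hKc V hV g
  have hconjuniv : ∀ g : G, ∀ U ∈ K, Cm (V.map (MulAut.conj g).toMonoidHom) U := by
    intro g U hU
    rw [cm_iff]
    rintro _ ⟨v, hv, rfl⟩ u hu
    have h := cm_iff.mp (hVu _ (hKc U hU g⁻¹)) v hv _ (Subgroup.mem_map_of_mem _ hu)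
    have h2 := congrArg (MulAut.conj g) h
    simpa [mul_assoc] using h2
  have hcommN : IsMulCommutative ↥N := by
    have : N ≤ Subgroup.centralizer (N : Set G) := by
      refine sSup_le ?_
      rintro U ⟨g, rfl⟩
      apply Subgroup.le_centralizer_iff.mp
      refine sSup_le ?_
      rintro U' hU'
      exact (hconjuniv g U' (hmemK U' hU')).symm
    exact ⟨⟨fun a b => Subtype.ext ((Subgroup.mem_centralizer_iff.mp (this b.2)) a a.2)⟩⟩
  have hNn : N.Normal := by
    refine ⟨fun n hn g => ?_⟩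
    have : N.map (MulAut.conj g).toMonoidHom ≤ N := by
      rw [Subgroup.map_le_iff_le_comap]
      refine sSup_le ?_
      rintro U ⟨h, rfl⟩
      rw [← Subgroup.map_le_iff_le_comap, Subgroup.map_map]
      refine le_sSup ⟨g * h, ?_⟩
      congr 1
      ext; simp [mul_assoc]
    exact this (Subgroup.mem_map_of_mem _ hn)
  have hNp : IsPGroup p ↥N := by
    intro n
    refine ⟨1, ?_⟩
    rw [pow_one]
    have : N ≤ ({ carrier := {a | a ∈ N ∧ a ^ p = 1}
                  one_mem' := ⟨N.one_mem, one_pow _⟩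
                  mul_mem' := fun {a b} ha hb => ⟨N.mul_mem ha.1 hb.1, by
                    have hab : Commute a b :=
                      congrArg Subtype.val (hcommN.1.1 ⟨a, ha.1⟩ ⟨b, hb.1⟩)
                    rw [hab.mul_pow, ha.2, hb.2, mul_one]⟩
                  inv_mem' := fun {a} ha => ⟨N.inv_mem ha.1, by rw [inv_pow, ha.2, inv_one]⟩ } :
                  Subgroup G) := by
      refine sSup_le fun U hU u hu => ⟨le_sSup (α := Subgroup G) hU hu, ?_⟩
      rw [← orderOf_dvd_iff_pow_eq_one, ← hK U (hmemK U hU)]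
      exact Subgroup.orderOf_dvd_natCard U hu
    exact Subtype.ext (by simpa using (this n.2).2)
  have hVN : V ≤ N := by
    refine le_sSup ⟨1, ?_⟩
    ext; simp
  have hNle : N ≤ Cfsg.pCore p G := le_sSup ⟨hNn, hNp⟩
  refine ⟨⟨V, hV, fun W hW => cm_iff.mp (hVu W hW), hVN.trans hNle⟩, fun hs => ?_⟩
  rcases hNn.eq_bot_or_eq_top with h | h
  · rw [h, le_bot_iff] at hVN
    have := hK V hV
    rw [hVN, Subgroup.card_bot] at this
    exact hp.one_lt.ne this
  · have hcomm : ∀ a b : G, a * b = b * a := fun a b =>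
      congrArg Subtype.val (hcommN.1.1 ⟨a, h ▸ Subgroup.mem_top a⟩ ⟨b, h ▸ Subgroup.mem_top b⟩)
    have htop : ∀ U ∈ K, U = ⊤ := by
      intro U hU
      have hUn : U.Normal := ⟨fun n hn g => by rw [hcomm g n, mul_inv_cancel_right]; exact hn⟩
      rcases hUn.eq_bot_or_eq_top with h' | h'
      · have := hK U hU
        rw [h', Subgroup.card_bot] at this
        exact absurd this hp.one_lt.ne
      · exact h'
    exact hne ((htop X hX).trans (htop Y hY).symm)

end Cfsg.Agent.S3196
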