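import Cfsg.Statements.S3198
import Cfsg.Agent.Lib.L34Syl83Strong
import Cfsg.Agent.Lib.L34Syl83Embed
import Cfsg.Agent.Lib.L34Syl83Closed62
import Cfsg.Agent.Lib.L34Syl83Core29
import Cfsg.Agent.Lib.L34Syl83Mixed68

set_option autoImplicit false
open Cfsg

universe u v

namespace Cfsg.Agent.S3198
open Cfsg.Agent.L34Syl83

theorem embeds_of_chart {F : Type v} [Field F] [Fintype F] {Q : Type u} [Group Q] [Finite Q]
    (T : Sylow 2 Q) (h : Chart F (T : Subgroup Q)) (hO : pPrimeCore 2 Q = ⊥) :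
    ∃ f : Q →* GL (Fin 3) F ⧸ Subgroup.center (GL (Fin 3) F), Function.Injective f := by
  have hss : h.FixZ ⊤ ↔ h.swap.swap.FixZ ⊤ := by simp only [Chart.FixZ, Chart.swap_A, Chart.swap_B, Chart.swap_Z]
  by_cases hA : h.FixZ ⊤ <;> by_cases hB : h.swap.FixZ ⊤
  · exact h.embeds_of_normal_S (h.normal_of_fixZ hA hB hO) hO
  · exact h.swap.embeds_of_normal_A hB (h.swap.normal_A_of_mixed hB (hss.1 hA) hO) hO
  · exact h.embeds_of_normal_A hA (h.normal_A_of_mixed hA hB hO) hO
  · exact h.embeds_of_not_fix (fun G _ _ S h hA hB hO hc => h.core_case hA hB hO hc) hA hB hO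

/-- If G is a finite group whose Sylow 2-subgroups are isomorphic to those of PSL(3, 4), then G modulo its largest normal subgroup of odd order is isomorphic to a subgroup of PGL(3, 4) (the general linear group of dimension 3 over the field with 4 elements modulo its centre). -/
theorem result {G : Type*} [Group G] [Finite G]
    {F : Type*} [Field F] [Fintype F] (hF : Fintype.card F = 4) (S : Sylow 2 G)
    (P : Sylow 2 (Matrix.ProjectiveSpecialLinearGroup (Fin 3) F))
    (hS : Nonempty (↥(S : Subgroup G) ≃* ↥(P : Subgroup (Matrix.ProjectiveSpecialLinearGroup (Fin 3) F)))) :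
    ∃ f : G ⧸ Cfsg.oddCore G →* GL (Fin 3) F ⧸ Subgroup.center (GL (Fin 3) F), Function.Injective f := by
  haveI : Fact (Nat.Prime 2) := ⟨Nat.prime_two⟩
  obtain ⟨h⟩ := exists_chart hF P hS
  haveI : (pPrimeCore 2 G).Normal := HallCore.pPrimeCore_normal 2 _
  have hker : ∀ x ∈ (S : Subgroup G), x ∈ pPrimeCore 2 G → x = 1 := fun x hx hx' => by
    obtain ⟨i, hi⟩ := S.2 ⟨x, hx⟩
    have h1 : orderOf x ∣ 2 ^ i :=
      orderOf_dvd_of_pow_eq_one (congrArg (fun y : S => (y : G)) hi)
    have h2 : orderOf x ∣ Nat.card (pPrimeCore 2 G) := by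
      rw [show orderOf x = orderOf (⟨x, hx'⟩ : pPrimeCore 2 G) from
        Subgroup.orderOf_coe (⟨x, hx'⟩ : pPrimeCore 2 G)]
      exact orderOf_dvd_natCard _
    have h3 := Nat.dvd_gcd h1 h2
    rw [((HallCore.coprime_card_pPrimeCore 2 G).symm.pow_left i).gcd_eq_one, Nat.dvd_one] at h3
    exact orderOf_eq_one_iff.1 h3
  let hQ := h.map (QuotientGroup.mk' (pPrimeCore 2 G))
    fun x hx e => hker x hx ((QuotientGroup.eq_one_iff x).1 e)
  let T := S.mapSurjective (QuotientGroup.mk'_surjective (pPrimeCore 2 G))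
  exact embeds_of_chart T ⟨hQ.μ, hQ.card_F, hQ.mul, hQ.inj, hQ.mem⟩
    (HallCore.pPrimeCore_quotient_self 2 G)

end Cfsg.Agent.S3198
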