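import Mathlib
import Cfsg.Statements.S3200
import Cfsg.Agent.Lib.HallTheorem
import Cfsg.Agent.Lib.CharInducedBurnside
-- import your own Cfsg.Agent.* helpers here

set_option autoImplicit false
open Cfsg

namespace Cfsg.Agent.S3200

open Cfsg.Agent

/-- an abelian subgroup of odd order whose index is a power of two -/
def Q (H : Type*) [Group H] : Prop :=
  ∃ C : Subgroup H, IsMulCommutative ↥C ∧ Odd (Nat.card ↥C) ∧ ∃ k : ℕ, C.index = 2 ^ k

lemma complement {H : Type*} [Group H] [Finite H] (h : Q H) :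
    ∃ (P : Sylow 2 H) (D : Subgroup H), IsMulCommutative ↥D ∧ Subgroup.IsComplement' (P : Subgroup H) D := by
  haveI : Fact (Nat.Prime 2) := ⟨Nat.prime_two⟩
  obtain ⟨C, hC, hodd, k, hk⟩ := h
  obtain ⟨P⟩ := (inferInstance : Nonempty (Sylow 2 H))
  refine ⟨P, C, hC, ?_⟩
  obtain ⟨l, hl⟩ := IsPGroup.iff_card.mp P.2
  have hcop : (2 ^ l).Coprime (Nat.card ↥C) :=
    Nat.Coprime.pow_left l (Nat.coprime_two_left.mpr hodd)
  have hcop2 : Nat.Coprime (P : Subgroup H).index (2 ^ k) :=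
    Nat.Coprime.pow_right k ((Nat.prime_two.coprime_iff_not_dvd.mpr P.not_dvd_index).symm)
  refine Subgroup.isComplement'_of_coprime ?_ (by rw [hl]; exact hcop)
  have h1 := C.card_mul_index
  have h2 := (P : Subgroup H).card_mul_index
  rw [hl] at h2 ⊢
  rw [hk] at h1
  have hd1 : 2 ^ l ∣ 2 ^ k := hcop.dvd_of_dvd_mul_left ⟨(P : Subgroup H).index, by rw [h1, h2]⟩
  have hd2 : 2 ^ k ∣ 2 ^ l := hcop2.symm.dvd_of_dvd_mul_right ⟨Nat.card ↥C, by rw [h2, ← h1, mul_comm]⟩
  rw [Nat.dvd_antisymm hd1 hd2, mul_comm, h1]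

lemma quot_Q {H : Type*} [Group H] [Finite H] (h : Q H) (N : Subgroup H) [N.Normal] : Q (H ⧸ N) := by
  obtain ⟨C, hC, hodd, k, hk⟩ := h
  refine ⟨C.map (QuotientGroup.mk' N), ⟨⟨?_⟩⟩, ?_, ?_⟩
  · rintro ⟨_, a, ha, rfl⟩ ⟨_, b, hb, rfl⟩
    have e : a * b = b * a := congrArg Subtype.val (hC.1.1 ⟨a, ha⟩ ⟨b, hb⟩)
    refine Subtype.ext ?_
    show QuotientGroup.mk' N a * QuotientGroup.mk' N b = QuotientGroup.mk' N b * QuotientGroup.mk' N a
    rw [← map_mul, e, map_mul]
  · exact hodd.of_dvd_nat (Subgroup.card_map_dvd C _)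
  · obtain ⟨l, -, hl⟩ := (Nat.dvd_prime_pow Nat.prime_two).mp
      (hk ▸ Subgroup.index_map_dvd C (QuotientGroup.mk'_surjective N))
    exact ⟨l, hl⟩

lemma ge_Q {H : Type*} [Group H] [Finite H] {C : Subgroup H} (hC : IsMulCommutative ↥C)
    (hodd : Odd (Nat.card ↥C)) {k : ℕ} (hk : C.index = 2 ^ k) (M : Subgroup H)
    (hM : C.relIndex M ∣ C.index) : Q ↥M := by
  obtain ⟨l, -, hl⟩ := (Nat.dvd_prime_pow Nat.prime_two).mp (hk ▸ hM)
  refine ⟨C.subgroupOf M, ⟨⟨fun a b => ?_⟩⟩, ?_, l, hl⟩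
  · exact Subtype.ext (Subtype.ext (congrArg Subtype.val (hC.1.1 ⟨_, a.2⟩ ⟨_, b.2⟩) : _))
  · exact hodd.of_dvd_nat (Cfsg.Agent.HallCore.card_subgroupOf_dvd C M)

lemma relIndex_eq_of_sylow {H : Type*} [Group H] [Finite H] {C : Subgroup H} {k : ℕ}
    (hk : C.index = 2 ^ k) (P : Sylow 2 H) (M : Subgroup H) (hM : (P : Subgroup H) ≤ M) :
    C.relIndex M = C.index := by
  haveI : Fact (Nat.Prime 2) := ⟨Nat.prime_two⟩
  set P' : Subgroup H := (P : Subgroup H) with hP'
  have hne : C.relIndex (⊤ : Subgroup H) ≠ 0 := by rw [Subgroup.relIndex_top_right]; exact Subgroup.index_ne_zero_of_finite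
  have h1 : C.relIndex M ≤ C.index := by
    rw [← C.relIndex_top_right]; exact Subgroup.relIndex_le_of_le_right le_top hne
  have h2 : C.relIndex P' ≤ C.relIndex M := Subgroup.relIndex_le_of_le_right hM Subgroup.index_ne_zero_of_finite
  have hcop : Nat.Coprime C.index P'.index := by
    rw [hk]; exact Nat.Coprime.pow_left k (Nat.prime_two.coprime_iff_not_dvd.mpr P.not_dvd_index)
  have e : C.relIndex P' * P'.index = (C ⊓ P').index := by
    rw [← Subgroup.inf_relIndex_right, Subgroup.relIndex_mul_index inf_le_right]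
  have hd : C.index ∣ C.relIndex P' * P'.index := by
    rw [e]; exact Subgroup.index_dvd_of_le inf_le_left
  have h3 : C.index ≤ C.relIndex P' :=
    Nat.le_of_dvd (Nat.pos_of_ne_zero Subgroup.index_ne_zero_of_finite) (hcop.dvd_of_dvd_mul_right hd)
  omega

theorem solvable_of_Q.{u} : ∀ (n : ℕ) (H : Type u) [Group H] [Finite H], Nat.card H = n → Q H →
    Group.IsSolvable H := by
  intro n
  induction n using Nat.strong_induction_on with
  | _ n ih =>
  intro H _ _ hn hQ
  haveI : Fact (Nat.Prime 2) := ⟨Nat.prime_two⟩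
  rcases subsingleton_or_nontrivial H with hs | hs
  · infer_instance
  obtain ⟨C, hC, hodd, k, hk⟩ := hQ
  by_cases hsimple : IsSimpleGroup H
  · by_cases hC1 : C = ⊥
    · subst hC1
      rw [Subgroup.index_bot] at hk
      haveI : Group.IsNilpotent H := (IsPGroup.of_card hk).isNilpotent
      infer_instance
    · obtain ⟨x, hxC, hx1⟩ : ∃ x ∈ C, x ≠ 1 := by
        by_contra hc
        push Not at hc
        exact hC1 ((Subgroup.eq_bot_iff_forall C).mpr hc)
      have hle : C ≤ Subgroup.centralizer ({x} : Set H) := fun c hc =>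
        Subgroup.mem_centralizer_singleton_iff.mpr (congrArg Subtype.val (hC.1.1 ⟨c, hc⟩ ⟨x, hxC⟩))
      obtain ⟨l, -, hl⟩ := (Nat.dvd_prime_pow Nat.prime_two).mp (hk ▸ Subgroup.index_dvd_of_le hle)
      have hp := CharInduced.prime_card_of_class_prime_pow 2 l Nat.prime_two x hx1 hl
      haveI := Fact.mk hp
      haveI : IsCyclic H := isCyclic_of_prime_card rfl
      letI := IsCyclic.commGroup (α := H)
      infer_instance
  obtain ⟨N, hNn, hNbot, hNtop⟩ : ∃ N : Subgroup H, N.Normal ∧ N ≠ ⊥ ∧ N ≠ ⊤ := by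
    by_contra hc
    push Not at hc
    exact hsimple ⟨fun N hN => or_iff_not_imp_left.mpr (hc N hN)⟩
  have hQH : Q H := ⟨C, hC, hodd, k, hk⟩
  have hquot : Group.IsSolvable (H ⧸ N) := by
    refine ih _ ?_ _ rfl (quot_Q hQH N)
    rw [← hn]
    exact Cfsg.Agent.HallSolvable.card_quotient_lt hNbot
  suffices Group.IsSolvable ↥N by
    exact (Group.isSolvable_iff_subgroup_quotient N).mpr ⟨this, hquot⟩
  obtain ⟨P⟩ := (inferInstance : Nonempty (Sylow 2 H))
  have key : ∀ M : Subgroup H, N ≤ M → M ≠ ⊤ → C.relIndex M ∣ C.index → Group.IsSolvable ↥N := by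
    intro M hNM hM hrel
    have hlt : Nat.card ↥M < n := by
      rw [← hn]
      refine lt_of_le_of_ne (Subgroup.card_le_card_group M) fun h => hM (Subgroup.eq_top_of_card_eq M h)
    haveI := ih _ hlt ↥M rfl (ge_Q hC hodd hk M hrel)
    exact Group.isSolvable_of_isSolvable_injective (Subgroup.inclusion_injective hNM)
  by_cases h1 : N ⊔ (P : Subgroup H) = ⊤
  · by_cases h2 : N ⊔ C = ⊤
    · exfalso
      apply hNtop
      rw [← Subgroup.index_eq_one]
      obtain ⟨l, hl⟩ := IsPGroup.iff_card.mp P.2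
      have hd1 : N.index ∣ 2 ^ l := by
        rw [← hl, ← Subgroup.relIndex_top_right, ← h1, Subgroup.relIndex_sup_left, Subgroup.relIndex]
        exact Subgroup.index_dvd_card _
      have hd2 : N.index ∣ Nat.card ↥C := by
        rw [← Subgroup.relIndex_top_right, ← h2, Subgroup.relIndex_sup_left, Subgroup.relIndex]
        exact Subgroup.index_dvd_card _
      exact Nat.eq_one_of_dvd_coprimes (Nat.Coprime.pow_left l (Nat.coprime_two_left.mpr hodd)) hd1 hd2
    · exact key _ le_sup_left h2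
        ⟨(N ⊔ C).index, (Subgroup.relIndex_mul_index (le_sup_right : C ≤ N ⊔ C)).symm⟩
  · exact key _ le_sup_left h1 (dvd_of_eq (relIndex_eq_of_sylow hk P _ le_sup_right))

lemma sub_Q {H : Type*} [Group H] [Finite H] (h : Q H) (L : Subgroup H) : Q ↥L := by
  have hsol := solvable_of_Q _ H rfl h
  haveI : Group.IsSolvable ↥L := inferInstance
  obtain ⟨C, hC, hodd, k, hk⟩ := h
  set π : Set ℕ := {q | q ≠ 2} with hπ
  obtain ⟨D, hD⟩ := HallTheorem.exists_isPiHall_of_solvable (G := ↥L) π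
  have hCh : Cfsg.IsPiHall π C := by
    refine ⟨fun q hq hd h2 => ?_, fun q hq hqπ hd => ?_⟩
    · subst h2; exact hodd.not_two_dvd_nat hd
    · rw [hk] at hd
      exact hqπ ((Nat.prime_dvd_prime_iff_eq hq Nat.prime_two).mp (hq.dvd_of_dvd_pow hd))
  obtain ⟨K, hK, hUK⟩ := HallTheorem.exists_isPiHall_ge_of_solvable (U := D.map L.subtype)
    (π := π) (fun q hq hd => hD.1 q hq (hd.trans (Subgroup.card_map_dvd D _)))
  obtain ⟨g, hg⟩ := HallTheorem.isPiHall_conjugate_of_solvable hCh hK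
  refine ⟨D, ⟨⟨fun a b => ?_⟩⟩, ?_, ?_⟩
  · have hmem : ∀ d : ↥D, g⁻¹ * ((d : ↥L) : H) * g ∈ C := by
      intro d
      have hd : ((d : ↥L) : H) ∈ K := hUK ⟨d, d.2, rfl⟩
      rw [← hg] at hd
      obtain ⟨c, hc, he⟩ := hd
      rw [← he]
      have : g⁻¹ * ((MulDistribMulAction.toMonoidEnd (MulAut H) H) (MulAut.conj g) c) * g = c := by
        show g⁻¹ * (g * c * g⁻¹) * g = c
        group
      exact this.symm ▸ hc
    have e : (g⁻¹ * ((a : ↥L) : H) * g) * (g⁻¹ * ((b : ↥L) : H) * g) =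
        (g⁻¹ * ((b : ↥L) : H) * g) * (g⁻¹ * ((a : ↥L) : H) * g) :=
      congrArg Subtype.val (hC.1.1 ⟨_, hmem a⟩ ⟨_, hmem b⟩)
    have e' : ((a : ↥L) : H) * ((b : ↥L) : H) = ((b : ↥L) : H) * ((a : ↥L) : H) := by
      have := congrArg (fun t => g * t * g⁻¹) e
      simpa [mul_assoc] using this
    exact Subtype.ext (Subtype.ext e')
  · rw [← Nat.not_even_iff_odd, even_iff_two_dvd]
    exact fun h2 => (hD.1 2 Nat.prime_two h2) rfl
  · refine ⟨D.index.primeFactorsList.length, ?_⟩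
    refine Nat.eq_prime_pow_of_unique_prime_dvd Subgroup.index_ne_zero_of_finite (fun {q} hq hd => ?_)
    by_contra hne
    exact hD.2 q hq hne hd


/-- Let H be a finite group in which a Sylow 2-subgroup has an abelian complement (an abelian subgroup meeting it trivially whose product with it is all of H). Then H is solvable, and every subgroup and every quotient group of H again has a Sylow 2-subgroup with an abelian complement. -/
theorem result {H : Type*} [Group H] [Finite H]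
    (S : Sylow 2 H) (C : Subgroup H) (hC : IsMulCommutative ↥C) (hSC : Subgroup.IsComplement' (S : Subgroup H) C) :
    Group.IsSolvable H ∧
    (∀ L : Subgroup H, ∃ (P : Sylow 2 ↥L) (D : Subgroup ↥L), IsMulCommutative ↥D ∧ Subgroup.IsComplement' (P : Subgroup ↥L) D) ∧
    (∀ (N : Subgroup H) [N.Normal], ∃ (P : Sylow 2 (H ⧸ N)) (D : Subgroup (H ⧸ N)),
      IsMulCommutative ↥D ∧ Subgroup.IsComplement' (P : Subgroup (H ⧸ N)) D) := by
  haveI : Fact (Nat.Prime 2) := ⟨Nat.prime_two⟩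
  obtain ⟨k, hk⟩ := IsPGroup.iff_card.mp S.2
  have hCidx : C.index = 2 ^ k := by rw [Subgroup.IsComplement'.index_eq_card hSC, hk]
  have hCodd : Odd (Nat.card ↥C) := by
    rw [← Subgroup.IsComplement'.index_eq_card hSC.symm, ← Nat.not_even_iff_odd, even_iff_two_dvd]
    exact S.not_dvd_index
  have hQ : Q H := ⟨C, hC, hCodd, k, hCidx⟩
  have hsol := solvable_of_Q (Nat.card H) H rfl hQ
  refine ⟨hsol, fun L => complement (sub_Q hQ L), fun N hN => complement (quot_Q hQ N)⟩

end Cfsg.Agent.S3200
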