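import Mathlib
import Cfsg.Statements.S3201
import Cfsg.Agent.Lib.GenQuatFacts62
-- import your own Cfsg.Agent.* helpers here

set_option autoImplicit false
open Cfsg

namespace Cfsg.Agent.S3201

lemma coatom_index {Z : Type*} [Group Z] [Finite Z] (hZ : IsPGroup 2 Z) {C : Subgroup Z} (hC : IsCoatom C) :
    C.index = 2 := by
  haveI : Fact (Nat.Prime 2) := ⟨Nat.prime_two⟩
  haveI : Group.IsNilpotent Z := hZ.isNilpotent
  haveI : C.Normal := Subgroup.NormalizerCondition.normal_of_coatom C Group.normalizerCondition_of_isNilpotent hC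
  obtain ⟨k, hk⟩ := IsPGroup.iff_card.mp (hZ.to_quotient C)
  have hk0 : k ≠ 0 := by
    rintro rfl
    rw [pow_zero, ← Subgroup.index_eq_card, Subgroup.index_eq_one] at hk
    exact hC.1 hk
  obtain ⟨q, hq⟩ := exists_prime_orderOf_dvd_card' (G := Z ⧸ C) 2 (by rw [hk]; exact dvd_pow_self 2 hk0)
  set L := (Subgroup.zpowers q).comap (QuotientGroup.mk' C) with hL
  have hlt : C < L := by
    refine lt_of_le_of_ne ?_ ?_
    · intro c hc
      rw [hL, Subgroup.mem_comap, QuotientGroup.mk'_apply, (QuotientGroup.eq_one_iff c).mpr hc]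
      exact one_mem _
    · intro he
      obtain ⟨z, rfl⟩ := QuotientGroup.mk'_surjective C q
      have hz : z ∈ C := by rw [he]; exact Subgroup.mem_comap.mpr (Subgroup.mem_zpowers _)
      rw [QuotientGroup.mk'_apply, (QuotientGroup.eq_one_iff z).mpr hz, orderOf_one] at hq
      norm_num at hq
  have htop := hC.2 L hlt
  have : Subgroup.zpowers q = ⊤ := by
    rw [← Subgroup.map_comap_eq_self_of_surjective (QuotientGroup.mk'_surjective C) (Subgroup.zpowers q),
      ← hL, htop, Subgroup.map_top_of_surjective _ (QuotientGroup.mk'_surjective C)]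
  rw [Subgroup.index_eq_card, ← hq, ← Nat.card_zpowers, this, Subgroup.card_top]


/-- Let S be a finite 2-group whose centre Z(S) has n ≥ 2 distinct maximal subgroups C₁, …, Cₙ with trivial intersection such that each quotient S/Cᵢ is a non-abelian group with exactly one involution (a generalized quaternion group). Then S is the internal direct product of an elementary abelian subgroup and a non-abelian subgroup with exactly one involution. -/
theorem result {S : Type*} [Group S] [Finite S]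
    (hS : IsPGroup 2 S) (n : ℕ) (hn : 2 ≤ n) (C : Fin n → Subgroup ↥(Subgroup.center S))
    (hCmax : ∀ i, IsCoatom (C i)) (hCinj : Function.Injective C) (hCint : ⨅ i, C i = ⊥)
    (hCq : ∀ i, ∃ (_ : ((C i).map (Subgroup.center S).subtype).Normal),
      ¬ IsMulCommutative (S ⧸ (C i).map (Subgroup.center S).subtype) ∧
      ∃! x : S ⧸ (C i).map (Subgroup.center S).subtype, orderOf x = 2) :
    ∃ E Q : Subgroup S, Cfsg.IsInternalDirectProduct E Q ⊤ ∧ Cfsg.IsElementaryAbelian 2 E ∧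
      ¬ IsMulCommutative ↥Q ∧ ∃! x : ↥Q, orderOf x = 2 := by
  classical
  haveI : Fact (Nat.Prime 2) := ⟨Nat.prime_two⟩
  let Ci : Fin n → Subgroup S := fun i => (C i).map (Subgroup.center S).subtype
  have hCn : ∀ i, (Ci i).Normal := fun i => (hCq i).1
  have hna : ∀ i, ¬ IsMulCommutative (S ⧸ Ci i) := fun i => (hCq i).2.1
  have huq : ∀ i, ∃! q : S ⧸ Ci i, orderOf q = 2 := fun i => (hCq i).2.2
  have hZp : IsPGroup 2 ↥(Subgroup.center S) := hS.to_subgroup (Subgroup.center S)
  have hidx : ∀ i, (C i).index = 2 := fun i => coatom_index hZp (hCmax i)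
  have hCiZ : ∀ i, Ci i ≤ (Subgroup.center S) := fun i => Subgroup.map_subtype_le _
  have hinter : ∀ z : S, (∀ i, z ∈ Ci i) → z = 1 := by
    intro z hz
    have hzZ : z ∈ (Subgroup.center S) := hCiZ ⟨0, by omega⟩ (hz _)
    have : (⟨z, hzZ⟩ : ↥(Subgroup.center S)) ∈ ⨅ i, C i := by
      rw [Subgroup.mem_iInf]
      intro i
      obtain ⟨w, hw, hwz⟩ := hz i
      exact (Subtype.ext hwz : w = ⟨z, hzZ⟩) ▸ hw
    rw [hCint, Subgroup.mem_bot] at this
    exact congrArg Subtype.val this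
  have hmemC : ∀ i, ∀ z : ↥(Subgroup.center S), (z : S) ∈ Ci i ↔ z ∈ C i := by
    intro i z
    constructor
    · rintro ⟨w, hw, hwz⟩
      exact (Subtype.ext hwz : w = z) ▸ hw
    · exact fun h => ⟨z, h, rfl⟩
  have hZtwo : ∀ i, ∀ z ∈ (Subgroup.center S), ∀ w ∈ (Subgroup.center S), z ∉ Ci i → w ∉ Ci i → z⁻¹ * w ∈ Ci i := by
    intro i z hz w hw h1 h2
    rw [show z⁻¹ * w = ((⟨z, hz⟩⁻¹ * ⟨w, hw⟩ : ↥(Subgroup.center S)) : S) from rfl, hmemC,
      Subgroup.mul_mem_iff_of_index_two (hidx i), inv_mem_iff]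
    exact iff_of_false (fun h => h1 ((hmemC i _).mpr h)) (fun h => h2 ((hmemC i _).mpr h))
  have hZ2 : ∀ z ∈ (Subgroup.center S), z * z = 1 := by
    intro z hz
    refine hinter _ fun i => ?_
    rw [show z * z = ((⟨z, hz⟩ * ⟨z, hz⟩ : ↥(Subgroup.center S)) : S) from rfl, hmemC, Subgroup.mul_mem_iff_of_index_two (hidx i)]
  have hone : ∀ i, ∀ s : S, s ∈ Ci i ↔ QuotientGroup.mk' (Ci i) s = 1 := fun i s =>
    (QuotientGroup.eq_one_iff s).symm
  have hinvol : ∀ i, ∀ z ∈ (Subgroup.center S), z ∉ Ci i → orderOf (QuotientGroup.mk' (Ci i) z) = 2 := by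
    intro i z hz hzi
    refine orderOf_eq_prime ?_ (fun h => hzi ((hone i z).mpr h))
    rw [pow_two, ← map_mul, hZ2 z hz, map_one]
  have hzex : ∀ i, ∃ z ∈ (Subgroup.center S), z ∉ Ci i := by
    intro i
    by_contra hc
    push Not at hc
    exact (hCmax i).1 ((Subgroup.eq_top_iff' _).mpr fun z => (hmemC i z).mp (hc z z.2))
  -- squaring to the involution mod `Ci i` forces an element of `(Subgroup.center S)`
  have hinZ : ∀ i, ∀ s : S, orderOf (QuotientGroup.mk' (Ci i) s) = 2 → s ∈ (Subgroup.center S) ∧ s ∉ Ci i := by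
    intro i s hs
    obtain ⟨z, hz, hzi⟩ := hzex i
    have he : QuotientGroup.mk' (Ci i) s = QuotientGroup.mk' (Ci i) z :=
      (huq i).unique hs (hinvol i z hz hzi)
    have hsne : s ∉ Ci i := fun h => by
      rw [(hone i s).mp h, orderOf_one] at hs
      norm_num at hs
    have hmem : z⁻¹ * s ∈ Ci i := by rw [hone, map_mul, map_inv, he, inv_mul_cancel]
    exact ⟨by simpa using mul_mem hz (hCiZ i hmem), hsne⟩
  set i0 : Fin n := ⟨0, by omega⟩ with hi0
  obtain ⟨g, hg⟩ := Cfsg.Agent.GenQuatFacts62.exists_cyclic_index_two (hS.to_quotient (Ci i0)) (hna i0) (huq i0)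
  obtain ⟨x, rfl⟩ := QuotientGroup.mk'_surjective (Ci i0) g
  set A := (Subgroup.zpowers (QuotientGroup.mk' (Ci i0) x)).comap (QuotientGroup.mk' (Ci i0)) with hA
  have hAidx : A.index = 2 := by
    rw [hA, Subgroup.index_comap_of_surjective _ (QuotientGroup.mk'_surjective _), hg]
  have hxA : x ∈ A := Subgroup.mem_comap.mpr (Subgroup.mem_zpowers _)
  have hZA : (Subgroup.center S) ≤ A := by
    intro z hz
    by_contra hzA
    have := (Cfsg.Agent.GenQuatFacts62.inverts (hS.to_quotient (Ci i0)) (hna i0) (huq i0) _ hg _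
      (fun h => hzA (Subgroup.mem_comap.mpr h))).2
    rw [← map_mul, hZ2 z hz, map_one, orderOf_one] at this
    norm_num at this
  have hAform : ∀ v ∈ A, ∃ k : ℤ, ∃ d ∈ (Subgroup.center S), v = x ^ k * d := by
    intro v hv
    obtain ⟨k, hk⟩ := Subgroup.mem_zpowers_iff.mp (Subgroup.mem_comap.mp hv)
    refine ⟨k, (x ^ k)⁻¹ * v, hCiZ i0 ?_, by group⟩
    rw [hone, map_mul, map_inv, map_zpow, hk, inv_mul_cancel]
  have hxZ : x ∉ (Subgroup.center S) := by
    intro hx
    have hAle : A ≤ (Subgroup.center S) := fun v hv => by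
      obtain ⟨k, d, hd, rfl⟩ := hAform v hv
      exact mul_mem (zpow_mem hx k) hd
    apply hna i0
    obtain ⟨y, hy⟩ : ∃ y, y ∉ A := by
      by_contra hc
      push Not at hc
      rw [(Subgroup.eq_top_iff' A).mpr hc, Subgroup.index_top] at hAidx
      omega
    refine ⟨⟨fun a b => ?_⟩⟩
    obtain ⟨a, rfl⟩ := QuotientGroup.mk'_surjective (Ci i0) a
    obtain ⟨b, rfl⟩ := QuotientGroup.mk'_surjective (Ci i0) b
    have key : ∀ v : S, Commute v y := by
      intro v
      by_cases hv : v ∈ A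
      · exact (Subgroup.mem_center_iff.mp (hAle hv) y).symm
      · have h1 : v * y⁻¹ ∈ A :=
          (Subgroup.mul_mem_iff_of_index_two hAidx).mpr (iff_of_false hv (fun h => hy (inv_mem_iff.mp h)))
        have h2 : Commute (v * y⁻¹) y := (Subgroup.mem_center_iff.mp (hAle h1) y).symm
        simpa using h2.mul_left (Commute.refl y)
    have : a * b = b * a := by
      by_cases hb : b ∈ A
      · exact Subgroup.mem_center_iff.mp (hAle hb) a
      · have h1 : b * y⁻¹ ∈ A :=
          (Subgroup.mul_mem_iff_of_index_two hAidx).mpr (iff_of_false hb (fun h => hy (inv_mem_iff.mp h)))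
        have h2 : Commute a (b * y⁻¹) := Subgroup.mem_center_iff.mp (hAle h1) a
        have h3 := h2.mul_right (key a)
        rwa [inv_mul_cancel_right] at h3
    rw [← map_mul, ← map_mul, this]
  -- in each quotient `x` generates a cyclic subgroup of index two
  have hxi : ∀ i, (Subgroup.zpowers (QuotientGroup.mk' (Ci i) x)).index = 2 := by
    intro i
    set π := QuotientGroup.mk' (Ci i)
    have hle : Ci i ≤ A := (hCiZ i).trans hZA
    have hmap : A.map π = Subgroup.zpowers (π x) := by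
      refine le_antisymm ?_ (Subgroup.zpowers_le.mpr ⟨x, hxA, rfl⟩)
      rintro _ ⟨v, hv, rfl⟩
      obtain ⟨k, d, hd, rfl⟩ := hAform v hv
      rw [map_mul, map_zpow]
      refine mul_mem (zpow_mem (Subgroup.mem_zpowers _) k) ?_
      by_cases hdi : d ∈ Ci i
      · rw [(hone i d).mp hdi]; exact one_mem _
      · have hx1 : π x ≠ 1 := fun h => hxZ (hCiZ i ((hone i x).mpr h))
        have hp : IsPGroup 2 ↥(Subgroup.zpowers (π x)) := (hS.to_quotient (Ci i)).to_subgroup _
        obtain ⟨e, he⟩ := IsPGroup.iff_card.mp hp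
        obtain ⟨w, hw⟩ := exists_prime_orderOf_dvd_card' (G := ↥(Subgroup.zpowers (π x))) 2 (by
          rcases e with - | e
          · rw [Nat.card_zpowers, pow_zero, orderOf_eq_one_iff] at he; exact absurd he hx1
          · rw [he]; exact dvd_pow_self 2 e.succ_ne_zero)
        rw [(huq i).unique (hinvol i d hd hdi) ((Subgroup.orderOf_coe w).trans hw)]
        exact w.2
    rw [← hmap, Subgroup.index_map, QuotientGroup.ker_mk', sup_eq_left.mpr hle,
      MonoidHom.range_eq_top.mpr (QuotientGroup.mk'_surjective _), Subgroup.index_top, mul_one, hAidx]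
  obtain ⟨y, hy⟩ : ∃ y, y ∉ A := by
    by_contra hc
    push Not at hc
    rw [(Subgroup.eq_top_iff' A).mpr hc, Subgroup.index_top] at hAidx
    omega
  have hinv : ∀ i, QuotientGroup.mk' (Ci i) (y * x * y⁻¹ * x) = 1 ∧ orderOf (QuotientGroup.mk' (Ci i) (y * y)) = 2 := by
    intro i
    obtain ⟨h1, h2⟩ := Cfsg.Agent.GenQuatFacts62.inverts (hS.to_quotient (Ci i)) (hna i) (huq i) _ (hxi i)
      (QuotientGroup.mk' (Ci i) y) (by
        intro h
        obtain ⟨k, hk⟩ := Subgroup.mem_zpowers_iff.mp h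
        have : (x ^ k)⁻¹ * y ∈ Ci i := by rw [hone, map_mul, map_inv, map_zpow, hk, inv_mul_cancel]
        have hyA := mul_mem (zpow_mem hxA k) (hZA (hCiZ i this))
        rw [mul_inv_cancel_left] at hyA
        exact hy hyA)
    refine ⟨?_, by rw [map_mul]; exact h2⟩
    rw [map_mul, map_mul, map_mul, map_inv, h1, inv_mul_cancel]
  have hrel : y * x * y⁻¹ * x = 1 := hinter _ fun i => (hone i _).mpr (hinv i).1
  set u := y * y with hu
  have huZ : u ∈ (Subgroup.center S) := (hinZ i0 u (hinv i0).2).1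
  have hui : ∀ i, u ∉ Ci i := fun i => (hinZ i u (hinv i).2).2
  have hox : ∀ i, orderOf (QuotientGroup.mk' (Ci i) x) = orderOf (QuotientGroup.mk' (Ci i0) x) := by
    intro i
    have hc : ∀ j, Nat.card ↥(Ci j) * 2 = Nat.card ↥(Subgroup.center S) := by
      intro j
      rw [Subgroup.card_subtype (Subgroup.center S) (C j), ← hidx j]
      exact (C j).card_mul_index
    have h1 : ∀ j, orderOf (QuotientGroup.mk' (Ci j) x) * 2 = (Ci j).index := by
      intro j
      rw [Subgroup.index_eq_card, ← Nat.card_zpowers, ← hxi j]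
      exact Subgroup.card_mul_index _
    have hpos : 0 < Nat.card ↥(Ci i) := Nat.card_pos
    have e1 := (Ci i).card_mul_index
    have e2 := (Ci i0).card_mul_index
    have e3 : Nat.card ↥(Ci i0) = Nat.card ↥(Ci i) := by have := hc i; have := hc i0; omega
    rw [e3, ← e1, ← h1, ← h1] at e2
    have := Nat.eq_of_mul_eq_mul_left hpos e2
    omega
  have hpow : ∀ k : ℤ, x ^ k ∈ (Subgroup.center S) → x ^ k = 1 ∨ x ^ k = u := by
    intro k hk
    have hmem : ∀ i, x ^ k ∈ Ci i ↔ x ^ k ∈ Ci i0 := by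
      intro i
      rw [hone, hone, map_zpow, map_zpow, ← orderOf_dvd_iff_zpow_eq_one, ← orderOf_dvd_iff_zpow_eq_one, hox]
    by_cases h0 : x ^ k ∈ Ci i0
    · exact Or.inl (hinter _ fun i => (hmem i).mpr h0)
    · refine Or.inr ?_
      have := hinter ((x ^ k)⁻¹ * u) fun i => hZtwo i _ hk u huZ (fun h => h0 ((hmem i).mp h)) (hui i)
      exact inv_mul_eq_one.mp this
  have hconjpow : ∀ k : ℤ, y * x ^ k * y⁻¹ = x ^ (-k) := by
    intro k
    have e : y * x * y⁻¹ = x⁻¹ := eq_inv_of_mul_eq_one_left hrel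
    rw [← MulAut.conj_apply, map_zpow, MulAut.conj_apply, e, inv_zpow, zpow_neg]
  let Qg : Subgroup S :=
    { carrier := {v | (∃ (k : ℤ), v = x ^ k ∨ v = x ^ k * u) ∨ ∃ (k : ℤ), v = x ^ k * y ∨ v = x ^ k * u * y}
      one_mem' := Or.inl ⟨0, Or.inl (by simp)⟩
      mul_mem' := by
        have hcu : ∀ w : S, Commute u w := fun w => (Subgroup.mem_center_iff.mp huZ w).symm
        have hu2 : u * u = 1 := hZ2 u huZ
        have hyx : ∀ k : ℤ, y * x ^ k = x ^ (-k) * y := fun k => by rw [← hconjpow k]; group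
        rintro a b ha hb
        rcases ha with ⟨k, rfl | rfl⟩ | ⟨k, rfl | rfl⟩ <;> rcases hb with ⟨l, rfl | rfl⟩ | ⟨l, rfl | rfl⟩
        · exact Or.inl ⟨k + l, Or.inl (by rw [zpow_add])⟩
        · exact Or.inl ⟨k + l, Or.inr (by rw [zpow_add, mul_assoc])⟩
        · exact Or.inr ⟨k + l, Or.inl (by rw [zpow_add]; group)⟩
        · exact Or.inr ⟨k + l, Or.inr (by rw [zpow_add]; group)⟩
        · exact Or.inl ⟨k + l, Or.inr (by rw [zpow_add, mul_assoc, (hcu (x ^ l)).eq, mul_assoc])⟩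
        · exact Or.inl ⟨k + l, Or.inl (by rw [zpow_add, mul_assoc, ← mul_assoc u, (hcu (x ^ l)).eq, mul_assoc (x ^ l), hu2, mul_one])⟩
        · exact Or.inr ⟨k + l, Or.inr (by rw [zpow_add, mul_assoc, ← mul_assoc u, (hcu (x ^ l)).eq]; group)⟩
        · exact Or.inr ⟨k + l, Or.inl (by
            rw [zpow_add, mul_assoc (x ^ k) u, ← mul_assoc u (x ^ l * u), ← mul_assoc u (x ^ l),
              (hcu (x ^ l)).eq, mul_assoc (x ^ l), hu2, mul_one, mul_assoc])⟩
        · exact Or.inr ⟨k + -l, Or.inl (by rw [mul_assoc, hyx, ← mul_assoc, ← zpow_add])⟩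
        · exact Or.inr ⟨k + -l, Or.inr (by
            rw [mul_assoc, ← mul_assoc y, hyx, mul_assoc (x ^ (-l)) y u, ← (hcu y).eq, ← mul_assoc, ← mul_assoc, ← zpow_add])⟩
        · exact Or.inl ⟨k + -l, Or.inr (by
            rw [mul_assoc, ← mul_assoc y, hyx, mul_assoc (x ^ (-l)) y y, ← hu, ← mul_assoc, ← zpow_add])⟩
        · exact Or.inl ⟨k + -l, Or.inl (by
            rw [mul_assoc (x ^ k), ← mul_assoc y, ← mul_assoc y, hyx, mul_assoc _ y u, ← (hcu y).eq,
              ← mul_assoc (x ^ (-l)) u y, mul_assoc _ y y, ← hu, mul_assoc _ u u, hu2, mul_one, zpow_add])⟩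
        · exact Or.inr ⟨k + -l, Or.inr (by
            rw [mul_assoc, hyx, ← mul_assoc, mul_assoc (x ^ k) u, (hcu (x ^ (-l))).eq, ← mul_assoc (x ^ k), zpow_add])⟩
        · exact Or.inr ⟨k + -l, Or.inl (by
            rw [mul_assoc (x ^ k * u), ← mul_assoc y, hyx, mul_assoc (x ^ (-l)) y u, ← (hcu y).eq,
              ← mul_assoc (x ^ (-l)), ← mul_assoc, mul_assoc (x ^ k) u, ← mul_assoc u, (hcu (x ^ (-l))).eq,
              mul_assoc (x ^ (-l)), hu2, mul_one, zpow_add])⟩
        · exact Or.inl ⟨k + -l, Or.inl (by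
            rw [mul_assoc (x ^ k * u), ← mul_assoc y, hyx, mul_assoc _ y y, ← hu, mul_assoc (x ^ k) u,
              ← mul_assoc u, (hcu (x ^ (-l))).eq, mul_assoc (x ^ (-l)), hu2, mul_one, zpow_add])⟩
        · exact Or.inl ⟨k + -l, Or.inr (by
            rw [mul_assoc (x ^ k * u), ← mul_assoc y, ← mul_assoc y, hyx, mul_assoc _ y u, ← (hcu y).eq,
              ← mul_assoc (x ^ (-l)) u y, mul_assoc _ y y, ← hu, mul_assoc _ u u, hu2, mul_one,
              mul_assoc (x ^ k) u, (hcu (x ^ (-l))).eq, ← mul_assoc, zpow_add])⟩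
      inv_mem' := by
        have hcu : ∀ w : S, Commute u w := fun w => (Subgroup.mem_center_iff.mp huZ w).symm
        have hu2 : u * u = 1 := hZ2 u huZ
        have huinv : u⁻¹ = u := inv_eq_of_mul_eq_one_right hu2
        have hyinv : y⁻¹ = y * u := inv_eq_of_mul_eq_one_right (by rw [← mul_assoc, ← hu, hu2])
        have hyx : ∀ k : ℤ, y * x ^ k = x ^ (-k) * y := fun k => by rw [← hconjpow k]; group
        rintro a (⟨k, rfl | rfl⟩ | ⟨k, rfl | rfl⟩)
        · exact Or.inl ⟨-k, Or.inl (zpow_neg x k).symm⟩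
        · exact Or.inl ⟨-k, Or.inr (by rw [mul_inv_rev, huinv, (hcu _).eq, zpow_neg])⟩
        · exact Or.inr ⟨k, Or.inr (by
            rw [mul_inv_rev, hyinv, ← zpow_neg, mul_assoc, (hcu _).eq, ← mul_assoc, hyx, neg_neg]; simp [hu, mul_assoc])⟩
        · exact Or.inr ⟨k, Or.inl (by
            rw [mul_inv_rev, mul_inv_rev, hyinv, huinv, ← mul_assoc, mul_assoc y u u, hu2, mul_one, ← zpow_neg, hyx, neg_neg])⟩ }
  have hQ0 : ∀ v ∈ Qg, v ∈ Ci i0 → v = 1 := by
    intro v hv hv0
    have hvA : v ∈ A := hZA (hCiZ i0 hv0)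
    have hu2 : u * u = 1 := hZ2 u huZ
    rcases hv with ⟨k, rfl | rfl⟩ | ⟨k, rfl | rfl⟩
    · rcases hpow k (hCiZ i0 hv0) with e | e
      · exact e
      · exact absurd (e ▸ hv0) (hui i0)
    · have hkZ : x ^ k ∈ (Subgroup.center S) := by simpa using mul_mem (hCiZ i0 hv0) (inv_mem huZ)
      rcases hpow k hkZ with e | e
      · exact absurd (by simpa [e] using hv0) (hui i0)
      · rw [e, hu2]
    · exact absurd (by simpa using mul_mem (inv_mem (zpow_mem hxA k)) hvA) hy
    · exact absurd (by simpa [mul_assoc] using mul_mem (inv_mem (mul_mem (zpow_mem hxA k) (hZA huZ))) hvA) hy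
  have hxQ : x ∈ Qg := Or.inl ⟨1, Or.inl (zpow_one x).symm⟩
  have hyQ : y ∈ Qg := Or.inr ⟨0, Or.inl (by simp)⟩
  have huQ : u ∈ Qg := Or.inl ⟨0, Or.inr (by simp)⟩
  refine ⟨Ci i0, Qg, ⟨le_top, le_top, ?_, ?_, ?_⟩, ⟨⟨⟨fun a b => ?_⟩⟩, ?_⟩, ?_, ?_⟩
  · exact fun a ha b _ => (Subgroup.mem_center_iff.mp (hCiZ i0 ha) b).symm
  · rw [Subgroup.eq_bot_iff_forall]
    exact fun v hv => hQ0 v hv.2 hv.1
  · rw [eq_top_iff]
    have hAle : A ≤ Ci i0 ⊔ Qg := by
      intro v hv
      obtain ⟨k, d, hd, rfl⟩ := hAform v hv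
      refine mul_mem (Subgroup.mem_sup_right (zpow_mem hxQ k)) ?_
      by_cases hd0 : d ∈ Ci i0
      · exact Subgroup.mem_sup_left hd0
      · have := mul_mem (Subgroup.mem_sup_right (S := Ci i0) huQ)
          (Subgroup.mem_sup_left (T := Qg) (hZtwo i0 u huZ d hd (hui i0) hd0))
        rwa [mul_inv_cancel_left] at this
    intro v _
    by_cases hv : v ∈ A
    · exact hAle hv
    · have h1 : v * y⁻¹ ∈ A :=
        (Subgroup.mul_mem_iff_of_index_two hAidx).mpr (iff_of_false hv (fun h => hy (inv_mem_iff.mp h)))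
      simpa using mul_mem (hAle h1) (Subgroup.mem_sup_right (S := Ci i0) hyQ)
  · exact Subtype.ext ((Subgroup.mem_center_iff.mp (hCiZ i0 b.2)) a)
  · exact fun a ha => by rw [pow_two]; exact hZ2 a (hCiZ i0 ha)
  · intro hcomm
    have e : x * y = y * x := congrArg Subtype.val (hcomm.1.1 ⟨x, hxQ⟩ ⟨y, hyQ⟩)
    have hxx : x * x = 1 := by
      rw [← hrel]
      congr 1
      rw [← e, mul_inv_cancel_right]
    have hox2 : orderOf (QuotientGroup.mk' (Ci i0) x) = 2 := by
      refine orderOf_eq_prime (by rw [pow_two, ← map_mul, hxx, map_one]) ?_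
      exact fun h => hxZ (hCiZ i0 ((hone i0 x).mpr h))
    exact hxZ (hinZ i0 x hox2).1
  · have hu1 : u ≠ 1 := fun h => hui i0 (h ▸ one_mem _)
    refine ⟨⟨u, huQ⟩, ?_, ?_⟩
    · show orderOf (⟨u, huQ⟩ : ↥Qg) = 2
      rw [Subgroup.orderOf_mk]
      exact orderOf_eq_prime (by rw [pow_two]; exact hZ2 u huZ) hu1
    · rintro ⟨v, hv⟩ hvo
      simp only [Subgroup.orderOf_mk] at hvo
      have hv0 : orderOf (QuotientGroup.mk' (Ci i0) v) = 2 := by
        refine orderOf_eq_prime ?_ ?_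
        · rw [← map_pow, ← hvo, pow_orderOf_eq_one, map_one]
        · intro h
          rw [hQ0 v hv ((hone i0 v).mpr h), orderOf_one] at hvo
          norm_num at hvo
      have he : QuotientGroup.mk' (Ci i0) v = QuotientGroup.mk' (Ci i0) u :=
        (huq i0).unique hv0 (hinvol i0 u huZ (hui i0))
      have : u⁻¹ * v ∈ Ci i0 := by rw [hone, map_mul, map_inv, he, inv_mul_cancel]
      exact Subtype.ext (inv_mul_eq_one.mp (hQ0 _ (mul_mem (inv_mem huQ) hv) this)).symm

end Cfsg.Agent.S3201
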