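import Mathlib
import Cfsg.Statements.S3202
import Cfsg.Agent.Lib.GenQuatFacts62
-- import your own Cfsg.Agent.* helpers here

set_option autoImplicit false
open Cfsg

namespace Cfsg.Agent.S3202

open scoped commutatorElement in
/-- Let S be a finite 2-group of 2-rank exactly 2 and D a maximal subgroup of the centre of S such that S/D is a non-abelian group with exactly one involution (a generalized quaternion group). Then S has a nontrivial cyclic characteristic subgroup. -/
theorem result {S : Type*} [Group S]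
    [Finite S] (hS : IsPGroup 2 S) (hr2 : Cfsg.PRankLE 2 2 S) (hr1 : ¬ Cfsg.PRankLE 2 1 S)
    (D : Subgroup ↥(Subgroup.center S)) (hD : IsCoatom D)
    (hq : ∃ (_ : (D.map (Subgroup.center S).subtype).Normal),
      ¬ IsMulCommutative (S ⧸ D.map (Subgroup.center S).subtype) ∧
      ∃! x : S ⧸ D.map (Subgroup.center S).subtype, orderOf x = 2) :
    ∃ C : Subgroup S, C ≠ ⊥ ∧ IsCyclic ↥C ∧ C.Characteristic := by
  obtain ⟨hn, hna, huniq⟩ := hq
  set D' := D.map (Subgroup.center S).subtype with hD'
  have hDz : D' ≤ Subgroup.center S := Subgroup.map_subtype_le D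
  have hQp : IsPGroup 2 (S ⧸ D') := hS.to_quotient D'
  obtain ⟨g, hg⟩ := Cfsg.Agent.GenQuatFacts62.exists_cyclic_index_two hQp hna huniq
  obtain ⟨x, rfl⟩ := QuotientGroup.mk'_surjective D' g
  set A := (Subgroup.zpowers (QuotientGroup.mk' D' x)).comap (QuotientGroup.mk' D') with hA
  have hAidx : A.index = 2 := by
    rw [hA, Subgroup.index_comap_of_surjective _ (QuotientGroup.mk'_surjective D'), hg]
  have hAn : A.Normal := Subgroup.normal_of_index_eq_two hAidx
  have hAform : ∀ v ∈ A, ∃ k : ℤ, ∃ d ∈ Subgroup.center S, v = x ^ k * d := by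
    intro v hv
    obtain ⟨k, hk⟩ := Subgroup.mem_zpowers_iff.mp (Subgroup.mem_comap.mp hv)
    refine ⟨k, (x ^ k)⁻¹ * v, hDz ?_, by group⟩
    rw [← QuotientGroup.eq, ← QuotientGroup.mk'_apply, map_zpow, hk]
    rfl
  have hAcomm : ∀ v ∈ A, Commute x v := by
    intro v hv
    obtain ⟨k, d, hd, rfl⟩ := hAform v hv
    exact ((Commute.refl x).zpow_right k).mul_right (Subgroup.mem_center_iff.mp hd x)
  have hAab : ∀ v ∈ A, ∀ w ∈ A, Commute v w := by
    intro v hv w hw
    obtain ⟨k, d, hd, rfl⟩ := hAform v hv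
    exact ((hAcomm w hw).zpow_left k).mul_left (Subgroup.mem_center_iff.mp hd w).symm
  have hxA : x ∈ A := Subgroup.mem_comap.mpr (Subgroup.mem_zpowers _)
  obtain ⟨y, hy⟩ : ∃ y, y ∉ A := by
    by_contra hc
    push Not at hc
    rw [(Subgroup.eq_top_iff' A).mpr hc, Subgroup.index_top] at hAidx
    omega
  set c := x * (y * x * y⁻¹)⁻¹ with hc
  have hcA : c ∈ A := mul_mem hxA (inv_mem (hAn.conj_mem x hxA y))
  have hyc : y * c * y⁻¹ = c⁻¹ := by
    have hyy : y * y ∈ A := (Subgroup.mul_mem_iff_of_index_two hAidx).mpr Iff.rfl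
    have e : (y * y) * x * (y * y)⁻¹ = x := by
      rw [(hAcomm _ hyy).symm.eq, mul_inv_cancel_right]
    calc y * c * y⁻¹ = (y * x * y⁻¹) * ((y * y) * x * (y * y)⁻¹)⁻¹ := by rw [hc]; group
      _ = (y * x * y⁻¹) * x⁻¹ := by rw [e]
      _ = c⁻¹ := by rw [hc, mul_inv_rev, inv_inv]
  have hcn : (Subgroup.zpowers c).Normal := by
    rw [← Subgroup.normalizer_eq_top_iff, eq_top_iff]
    have hyN : y ∈ Subgroup.normalizer (Subgroup.zpowers c : Set S) := by
      rw [Subgroup.mem_normalizer_iff]
      intro v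
      constructor
      · intro hv
        obtain ⟨k, rfl⟩ := Subgroup.mem_zpowers_iff.mp hv
        have e : y * c ^ k * y⁻¹ = (c⁻¹) ^ k := by
          rw [← MulAut.conj_apply, map_zpow, MulAut.conj_apply, hyc]
        rw [e]
        exact Subgroup.zpow_mem _ (inv_mem (Subgroup.mem_zpowers c)) k
      · intro hv
        obtain ⟨k, hk⟩ := Subgroup.mem_zpowers_iff.mp hv
        have e : y * (c⁻¹) ^ k * y⁻¹ = c ^ k := by
          rw [← MulAut.conj_apply, map_zpow, map_inv, MulAut.conj_apply, hyc, inv_inv]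
        have : v = (c⁻¹) ^ k := (MulAut.conj y).injective (by simp only [MulAut.conj_apply]; rw [e, hk])
        rw [this]
        exact Subgroup.zpow_mem _ (inv_mem (Subgroup.mem_zpowers c)) k
    have hAN : A ≤ Subgroup.normalizer (Subgroup.zpowers c : Set S) := by
      refine le_trans ?_ (Subgroup.centralizer_le_normalizer _)
      intro v hv
      rw [Subgroup.mem_centralizer_iff]
      intro w hw
      obtain ⟨k, rfl⟩ := Subgroup.mem_zpowers_iff.mp hw
      exact ((hAab c hcA v hv).zpow_left k).eq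
    intro v _
    by_cases hv : v ∈ A
    · exact hAN hv
    · have h1 : v * y⁻¹ ∈ A :=
        (Subgroup.mul_mem_iff_of_index_two hAidx).mpr (iff_of_false hv (fun h => hy (inv_mem_iff.mp h)))
      simpa using mul_mem (hAN h1) hyN
  set π := QuotientGroup.mk' (Subgroup.zpowers c)
  have hle : commutator S ≤ Subgroup.zpowers c := by
    rw [← QuotientGroup.ker_mk' (Subgroup.zpowers c)]
    have hxy : Commute (π x) (π y) := by
      have h1 : π (x * (y * x * y⁻¹)⁻¹) = 1 := (QuotientGroup.eq_one_iff _).mpr (Subgroup.mem_zpowers c)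
      rw [map_mul, map_inv, mul_inv_eq_one, map_mul, map_mul, map_inv] at h1
      show π x * π y = π y * π x
      nth_rewrite 1 [h1]
      exact inv_mul_cancel_right _ _
    have hgen : ∀ v : S, ∃ (k : ℤ) (d : S) (l : ℕ), d ∈ Subgroup.center S ∧ v = x ^ k * d * y ^ l := by
      intro v
      by_cases hv : v ∈ A
      · obtain ⟨k, d, hd, rfl⟩ := hAform v hv
        exact ⟨k, d, 0, hd, by simp⟩
      · have h1 : v * y⁻¹ ∈ A :=
          (Subgroup.mul_mem_iff_of_index_two hAidx).mpr (iff_of_false hv (fun h => hy (inv_mem_iff.mp h)))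
        obtain ⟨k, d, hd, he⟩ := hAform _ h1
        exact ⟨k, d, 1, hd, by rw [← he]; simp⟩
    rw [commutator_def, Subgroup.commutator_le]
    intro u _ v _
    rw [MonoidHom.mem_ker, map_commutatorElement, commutatorElement_eq_one_iff_commute]
    obtain ⟨k, d, l, hd, rfl⟩ := hgen u
    obtain ⟨k', d', l', hd', rfl⟩ := hgen v
    have cen : ∀ d ∈ Subgroup.center S, ∀ w : S, Commute (π d) (π w) := fun d hd w =>
      (show Commute d w from (Subgroup.mem_center_iff.mp hd w).symm).map π
    have comm1 : ∀ w : S, Commute (π x) (π w) → Commute (π y) (π w) → Commute (π (x ^ k * d * y ^ l)) (π w) := by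
      intro w h1 h2
      rw [map_mul, map_mul, map_zpow, map_pow]
      exact ((h1.zpow_left k).mul_left (cen d hd w)).mul_left (h2.pow_left l)
    apply comm1
    · rw [map_mul, map_mul, map_zpow, map_pow]
      exact (((Commute.refl _).zpow_right k').mul_right (cen d' hd' x).symm).mul_right (hxy.pow_right l')
    · rw [map_mul, map_mul, map_zpow, map_pow]
      exact ((hxy.symm.zpow_right k').mul_right (cen d' hd' y).symm).mul_right ((Commute.refl _).pow_right l')
  refine ⟨commutator S, ?_, ?_, inferInstance⟩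
  · intro hbot
    apply hna
    refine ⟨⟨fun a b => ?_⟩⟩
    obtain ⟨a, rfl⟩ := QuotientGroup.mk'_surjective D' a
    obtain ⟨b, rfl⟩ := QuotientGroup.mk'_surjective D' b
    have : ⁅a, b⁆ ∈ (⊥ : Subgroup S) := hbot ▸ Subgroup.commutator_mem_commutator (Subgroup.mem_top a) (Subgroup.mem_top b)
    rw [← map_mul, ← map_mul, (commutatorElement_eq_one_iff_mul_comm.mp (Subgroup.mem_bot.mp this))]
  · exact isCyclic_of_injective (Subgroup.inclusion hle) (Subgroup.inclusion_injective hle)

end Cfsg.Agent.S3202
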