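import Mathlib
import Cfsg.Statements.S3203
-- import your own Cfsg.Agent.* helpers here

set_option autoImplicit false
open Cfsg

namespace Cfsg.Agent.S3203

open scoped Pointwise

variable {G : Type*} [Group G]

lemma map_conj_conj (K : Subgroup G) (g h : G) :
    (K.map (MulAut.conj h).toMonoidHom).map (MulAut.conj g).toMonoidHom =
      K.map (MulAut.conj (g * h)).toMonoidHom := by
  rw [Subgroup.map_map]
  congr 1
  ext; simp [mul_assoc]

lemma card_conj (K : Subgroup G) (g : G) :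
    Nat.card ↥(K.map (MulAut.conj g).toMonoidHom) = Nat.card ↥K :=
  Subgroup.card_map_of_injective (MulAut.conj g).injective

lemma map_conj_eq_iff [Finite G] (K : Subgroup G) (g : G) :
    K.map (MulAut.conj g).toMonoidHom = K ↔ g ∈ Subgroup.normalizer (K : Set G) := by
  constructor
  · intro h
    rw [Subgroup.mem_normalizer_iff]
    intro v
    constructor
    · intro hv
      rw [← h]
      exact ⟨v, hv, by simp⟩
    · intro hv
      rw [← h] at hv
      obtain ⟨u, hu, he⟩ := hv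
      have : u = v := (MulAut.conj g).injective (by simpa using he)
      exact this ▸ hu
  · intro h
    refine Subgroup.eq_of_le_of_card_ge ?_ (by rw [card_conj])
    rintro _ ⟨v, hv, rfl⟩
    exact (Subgroup.mem_normalizer_iff.mp h v).mp hv

lemma norm_le [Finite G] (S : Sylow 2 G) (W : Subgroup G) (h : Cfsg.IsWeaklyClosed W (S : Subgroup G)) :
    Subgroup.normalizer ((S : Subgroup G) : Set G) ≤ Subgroup.normalizer (W : Set G) := by
  intro n hn
  rw [← map_conj_eq_iff] at hn ⊢
  exact h.2 n (le_of_le_of_eq (Subgroup.map_mono h.1) hn)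

/-- two Sylow subgroups of `G` inside a subgroup `N` are conjugate by an element of `N` -/
lemma conj_in [Finite G] (N : Subgroup G) (S : Sylow 2 G) (hS : (S : Subgroup G) ≤ N)
    (Q : Subgroup G) (hQ : IsPGroup 2 ↥Q) (hQN : Q ≤ N) :
    ∃ n ∈ N, Q.map (MulAut.conj n).toMonoidHom ≤ (S : Subgroup G) := by
  haveI : Fact (Nat.Prime 2) := ⟨Nat.prime_two⟩
  obtain ⟨P, hP⟩ := (hQ.of_equiv (Subgroup.subgroupOfEquivOfLe hQN).symm).exists_le_sylow
  obtain ⟨n, hn⟩ := MulAction.exists_smul_eq ↥N P (S.subtype hS)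
  refine ⟨n, n.2, ?_⟩
  rintro _ ⟨q, hq, rfl⟩
  have hqP : (⟨q, hQN hq⟩ : ↥N) ∈ (P : Subgroup ↥N) := hP hq
  have hmem : n * ⟨q, hQN hq⟩ * n⁻¹ ∈ ((n • P : Sylow 2 ↥N) : Subgroup ↥N) := by
    rw [Sylow.coe_subgroup_smul]
    exact ⟨_, hqP, by simp⟩
  rw [hn] at hmem
  exact hmem

lemma isElem_map {H : Type*} [Group H] (f : H →* G) (C : Subgroup H) (h : Cfsg.IsElementaryAbelian 2 C) :
    Cfsg.IsElementaryAbelian 2 (C.map f) := by
  refine ⟨⟨⟨?_⟩⟩, ?_⟩
  · rintro ⟨_, a, ha, rfl⟩ ⟨_, b, hb, rfl⟩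
    have e : a * b = b * a := congrArg Subtype.val (h.1.1.1 ⟨a, ha⟩ ⟨b, hb⟩)
    refine Subtype.ext ?_
    show f a * f b = f b * f a
    rw [← map_mul, e, map_mul]
  · rintro _ ⟨a, ha, rfl⟩
    rw [← map_pow, h.2 a ha, map_one]

lemma pgroup_of_elem (C : Subgroup G) (h : Cfsg.IsElementaryAbelian 2 C) : IsPGroup 2 ↥C :=
  fun x => ⟨1, Subtype.ext (by simpa using h.2 x x.2)⟩

lemma wc [Finite G] (S : Sylow 2 G) (A B : Subgroup ↥(S : Subgroup G))
    (hA : Cfsg.IsElementaryAbelian 2 A ∧ ∀ C : Subgroup ↥(S : Subgroup G), Cfsg.IsElementaryAbelian 2 C → A ≤ C → C = A)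
    (hB : Cfsg.IsElementaryAbelian 2 B ∧ ∀ C : Subgroup ↥(S : Subgroup G), Cfsg.IsElementaryAbelian 2 C → B ≤ C → C = B)
    (honly : ∀ C : Subgroup ↥(S : Subgroup G), Cfsg.IsElementaryAbelian 2 C →
      (∀ D : Subgroup ↥(S : Subgroup G), Cfsg.IsElementaryAbelian 2 D → C ≤ D → D = C) → C = A ∨ C = B)
    (hprod : ∀ s : ↥(S : Subgroup G), ∃ a ∈ A, ∃ b ∈ B, a * b = s) (hAB : A ≠ B) :
    Cfsg.IsWeaklyClosed (A.map (S : Subgroup G).subtype) (S : Subgroup G) := by
  haveI : Fact (Nat.Prime 2) := ⟨Nat.prime_two⟩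
  set A' := A.map (S : Subgroup G).subtype with hA'
  set B' := B.map (S : Subgroup G).subtype with hB'
  have hA'S : A' ≤ (S : Subgroup G) := Subgroup.map_subtype_le A
  have hB'S : B' ≤ (S : Subgroup G) := Subgroup.map_subtype_le B
  have hA'el : Cfsg.IsElementaryAbelian 2 A' := isElem_map _ _ hA.1
  have hB'el : Cfsg.IsElementaryAbelian 2 B' := isElem_map _ _ hB.1
  have hne : A' ≠ B' := fun h => hAB (Subgroup.map_injective (S : Subgroup G).subtype_injective h)
  -- every elementary abelian subgroup of S lies in A' or B'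
  have hin : ∀ C : Subgroup G, C ≤ (S : Subgroup G) → Cfsg.IsElementaryAbelian 2 C → C ≤ A' ∨ C ≤ B' := by
    intro C hCS hC
    have hC' : Cfsg.IsElementaryAbelian 2 (C.subgroupOf (S : Subgroup G)) :=
      ⟨⟨⟨fun a b => Subtype.ext (Subtype.ext
        (congrArg Subtype.val (hC.1.1.1 ⟨_, a.2⟩ ⟨_, b.2⟩) : _))⟩⟩,
       fun a ha => Subtype.ext (by simpa using hC.2 _ ha)⟩
    obtain ⟨D, hCD, hD⟩ := (Set.toFinite {D : Subgroup ↥(S : Subgroup G) | Cfsg.IsElementaryAbelian 2 D}).exists_le_maximal hC'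
    have hDmax : ∀ D' : Subgroup ↥(S : Subgroup G), Cfsg.IsElementaryAbelian 2 D' → D ≤ D' → D' = D :=
      fun D' h1 h2 => le_antisymm (hD.2 h1 h2) h2
    rcases honly D hD.1 hDmax with rfl | rfl
    · exact Or.inl fun v hv => ⟨⟨v, hCS hv⟩, hCD hv, rfl⟩
    · exact Or.inr fun v hv => ⟨⟨v, hCS hv⟩, hCD hv, rfl⟩
  have hmax : ∀ C : Subgroup G, C ≤ (S : Subgroup G) → Cfsg.IsElementaryAbelian 2 C → A' ≤ C → C = A' := by
    intro C hCS hC hAC
    rcases hin C hCS hC with h | h
    · exact le_antisymm h hAC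
    · exact absurd (hA.2 B hB.1 (Subgroup.map_le_map_iff_of_injective (S : Subgroup G).subtype_injective |>.mp (hAC.trans h))).symm hAB
  have hmaxB : ∀ C : Subgroup G, C ≤ (S : Subgroup G) → Cfsg.IsElementaryAbelian 2 C → B' ≤ C → C = B' := by
    intro C hCS hC hBC
    rcases hin C hCS hC with h | h
    · exact absurd (hB.2 A hA.1 (Subgroup.map_le_map_iff_of_injective (S : Subgroup G).subtype_injective |>.mp (hBC.trans h))) hAB
    · exact le_antisymm h hBC
  have selfnorm : ∀ C : Subgroup G, Cfsg.IsElementaryAbelian 2 C → C ≤ Subgroup.normalizer (C : Set G) :=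
    fun C _ => Subgroup.le_normalizer
  -- A' and B' are normal in S
  have cases2 : ∀ g ∈ (S : Subgroup G), A'.map (MulAut.conj g).toMonoidHom = A' ∨ A'.map (MulAut.conj g).toMonoidHom = B' := by
    intro g hg
    have hle : A'.map (MulAut.conj g).toMonoidHom ≤ (S : Subgroup G) := by
      rintro _ ⟨v, hv, rfl⟩
      exact mul_mem (mul_mem hg (hA'S hv)) (inv_mem hg)
    have hel := isElem_map (MulAut.conj g).toMonoidHom A' hA'el
    have hmax' : ∀ C : Subgroup G, C ≤ (S : Subgroup G) → Cfsg.IsElementaryAbelian 2 C →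
        A'.map (MulAut.conj g).toMonoidHom ≤ C → C = A'.map (MulAut.conj g).toMonoidHom := by
      intro C hCS hC hAC
      have h1 : C.map (MulAut.conj g⁻¹).toMonoidHom = A' := by
        refine hmax _ ?_ (isElem_map _ _ hC) ?_
        · rintro _ ⟨v, hv, rfl⟩
          exact mul_mem (mul_mem (inv_mem hg) (hCS hv)) (inv_mem (inv_mem hg))
        · intro v hv
          exact ⟨_, hAC ⟨v, hv, rfl⟩, by simp [mul_assoc]⟩
      rw [← h1, map_conj_conj, mul_inv_cancel]
      ext; simp
    rcases hin _ hle hel with h | h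
    · exact Or.inl (hmax' A' hA'S hA'el h).symm
    · exact Or.inr (hmax' B' hB'S hB'el h).symm
  have hAn : ∀ g ∈ (S : Subgroup G), A'.map (MulAut.conj g).toMonoidHom = A' := by
    intro g hg
    rcases cases2 g hg with h | h
    · exact h
    exfalso
    obtain ⟨a, ha, b, hb, hab⟩ := hprod ⟨g, hg⟩⁻¹
    have hg' : g = (b : G)⁻¹ * (a : G)⁻¹ := by
      have : (a : G) * b = g⁻¹ := congrArg Subtype.val hab
      rw [← mul_inv_rev, this, inv_inv]
    have ha' : (a : G) ∈ A' := ⟨a, ha, rfl⟩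
    have hb' : (b : G) ∈ B' := ⟨b, hb, rfl⟩
    rw [hg', ← map_conj_conj, (map_conj_eq_iff A' _).mpr (inv_mem (Subgroup.le_normalizer ha'))] at h
    apply hne
    have h2 := congrArg (fun K : Subgroup G => K.map (MulAut.conj (b : G)).toMonoidHom) h
    simp only [map_conj_conj, mul_inv_cancel] at h2
    rw [(map_conj_eq_iff B' _).mpr (Subgroup.le_normalizer hb')] at h2
    rw [← h2]
    ext; simp
  refine ⟨hA'S, fun g hg => ?_⟩
  have hel := isElem_map (MulAut.conj g).toMonoidHom A' hA'el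
  rcases hin _ hg hel with h | h
  · exact Subgroup.eq_of_le_of_card_ge h (by rw [card_conj])
  exfalso
  set Ag := A'.map (MulAut.conj g).toMonoidHom with hAg
  have hBn : ∀ s ∈ (S : Subgroup G), B'.map (MulAut.conj s).toMonoidHom = B' := by
    intro s hs
    have hle : B'.map (MulAut.conj s).toMonoidHom ≤ (S : Subgroup G) := by
      rintro _ ⟨v, hv, rfl⟩
      exact mul_mem (mul_mem hs (hB'S hv)) (inv_mem hs)
    rcases hin _ hle (isElem_map _ _ hB'el) with h | h
    · exfalso
      refine hne (hmaxB A' hA'S hA'el ?_)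
      intro w hw
      have hw2 : (MulAut.conj s).toMonoidHom w ∈ A'.map (MulAut.conj s).toMonoidHom := by
        rw [hAn s hs]; exact h ⟨w, hw, rfl⟩
      obtain ⟨u', hu', he⟩ := hw2
      exact (MulAut.conj s).injective he ▸ hu'
    · exact Subgroup.eq_of_le_of_card_ge h (by rw [card_conj])
  have hB'Ag : B' ≤ Subgroup.normalizer (Ag : Set G) := by
    intro b hb
    rw [Subgroup.mem_normalizer_iff]
    intro v
    have fixv : ∀ v ∈ B', b * v * b⁻¹ = v := fun v hv => by
      have : b * v = v * b := congrArg Subtype.val (hB'el.1.1.1 ⟨b, hb⟩ ⟨v, hv⟩)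
      rw [this, mul_inv_cancel_right]
    constructor
    · intro hv; rw [fixv v (h hv)]; exact hv
    · intro hv
      have hvB : v ∈ B' := by
        have := mul_mem (mul_mem (inv_mem hb) (h hv)) hb
        simpa [mul_assoc] using this
      rwa [fixv v hvB] at hv
  have hgS : ((g • S : Sylow 2 G) : Subgroup G) ≤ Subgroup.normalizer (Ag : Set G) := by
    rw [Sylow.coe_subgroup_smul]
    rintro _ ⟨s, hs, rfl⟩
    rw [← map_conj_eq_iff]
    have : (MulDistribMulAction.toMonoidEnd (MulAut G) G) (MulAut.conj g) s = g * s * g⁻¹ := rfl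
    show Ag.map (MulAut.conj ((MulDistribMulAction.toMonoidEnd (MulAut G) G) (MulAut.conj g) s)).toMonoidHom = Ag
    rw [this, hAg, map_conj_conj, inv_mul_cancel_right, ← map_conj_conj A' g s, hAn s hs]
  obtain ⟨n, hn, hnle⟩ := conj_in (Subgroup.normalizer (Ag : Set G)) (g • S) hgS B'
    (pgroup_of_elem _ hB'el) hB'Ag
  have hcard : Nat.card ↥A' = Nat.card ↥B' := by
    have e1 : (B'.map (MulAut.conj (g⁻¹ * n)).toMonoidHom) = A' := by
      refine hmax _ ?_ (isElem_map _ _ hB'el) ?_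
      · rw [← map_conj_conj]
        rintro _ ⟨v, hv, rfl⟩
        have := hnle hv
        rw [Sylow.coe_subgroup_smul] at this
        obtain ⟨s, hs, hse⟩ := this
        rw [← hse]
        have e : (MulAut.conj g⁻¹).toMonoidHom ((MulDistribMulAction.toMonoidEnd (MulAut G) G) (MulAut.conj g) s) = s := by
          show g⁻¹ * (g * s * g⁻¹) * g⁻¹⁻¹ = s
          group
        exact e.symm ▸ hs
      · intro v hv
        have hgv : g * v * g⁻¹ ∈ Ag := ⟨v, hv, by simp⟩
        have h' : n⁻¹ * (g * v * g⁻¹) * n⁻¹⁻¹ ∈ Ag :=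
          (Subgroup.mem_normalizer_iff.mp (inv_mem hn) _).mp hgv
        exact ⟨_, h h', by simp [mul_assoc]⟩
    rw [← e1, card_conj]
  have hAgB : Ag = B' := Subgroup.eq_of_le_of_card_ge h
    (by rw [hAg, card_conj, hcard])
  have hSB : (S : Subgroup G) ≤ Subgroup.normalizer (B' : Set G) := fun s hs => (map_conj_eq_iff _ _).mp (hBn s hs)
  obtain ⟨m, hm, hmle⟩ := conj_in (Subgroup.normalizer (B' : Set G)) S hSB
    ((g • S : Sylow 2 G) : Subgroup G) (g • S).2 (hAgB ▸ hgS)
  set k := m * g with hk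
  have hkS : (S : Subgroup G).map (MulAut.conj k).toMonoidHom = (S : Subgroup G) := by
    refine Subgroup.eq_of_le_of_card_ge ?_ (by rw [card_conj])
    rw [hk, ← map_conj_conj]
    refine le_trans (Subgroup.map_mono ?_) hmle
    rw [Sylow.coe_subgroup_smul]
    rintro _ ⟨s, hs, rfl⟩
    exact ⟨s, hs, by simp⟩
  have hkA : A'.map (MulAut.conj k).toMonoidHom = B' := by
    rw [hk, ← map_conj_conj, ← hAg, hAgB]
    exact (map_conj_eq_iff _ _).mpr hm
  have hkB : B'.map (MulAut.conj k).toMonoidHom = A' := by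
    have hle : B'.map (MulAut.conj k).toMonoidHom ≤ (S : Subgroup G) := (Subgroup.map_mono hB'S).trans hkS.le
    rcases hin _ hle (isElem_map _ _ hB'el) with h' | h'
    · exact Subgroup.eq_of_le_of_card_ge h' (by rw [card_conj, hcard])
    · exfalso
      have e := Subgroup.eq_of_le_of_card_ge h' (by rw [card_conj])
      exact hne (Subgroup.map_injective (MulAut.conj k).injective (hkA.trans e.symm))
  have hpow : ∀ j : ℕ, A'.map (MulAut.conj (k ^ j)).toMonoidHom = if Even j then A' else B' := by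
    intro j
    induction j with
    | zero => simp only [Even.zero, if_true, pow_zero]; ext; simp
    | succ j ih =>
      rw [pow_succ', ← map_conj_conj, ih]
      by_cases hj : Even j
      · rw [if_pos hj, if_neg (Nat.even_add_one.not.mpr (not_not.mpr hj)), hkA]
      · rw [if_neg hj, if_pos (Nat.even_add_one.mpr hj), hkB]
  obtain ⟨a, m', hm', hm''⟩ : ∃ a m' : ℕ, ¬ 2 ∣ m' ∧ orderOf k = 2 ^ a * m' :=
    Nat.exists_eq_pow_mul_and_not_dvd (orderOf_pos k).ne' 2 (by norm_num)
  have h2el : k ^ m' ∈ (S : Subgroup G) := by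
    have hN : k ^ m' ∈ Subgroup.normalizer ((S : Subgroup G) : Set G) :=
      pow_mem ((map_conj_eq_iff _ _).mp hkS) m'
    have hpg : IsPGroup 2 ↥(Subgroup.zpowers (k ^ m')) := by
      refine IsPGroup.of_card (n := a) ?_
      rw [Nat.card_zpowers, orderOf_pow' _ (by intro h; simp [h] at hm'), hm'', Nat.gcd_eq_right (Dvd.intro_left _ rfl),
        Nat.mul_div_cancel _ (Nat.pos_of_ne_zero (by intro h; simp [h] at hm'))]
    have hsup : IsPGroup 2 ↥(Subgroup.zpowers (k ^ m') ⊔ (S : Subgroup G)) :=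
      hpg.to_sup_of_normal_right' S.2 (Subgroup.zpowers_le.mpr hN)
    have := S.3 hsup le_sup_right
    exact this ▸ Subgroup.mem_sup_left (Subgroup.mem_zpowers _)
  have := hpow m'
  rw [hAn _ h2el, if_neg (by rwa [even_iff_two_dvd])] at this
  exact hne this


/-- Let S be a Sylow 2-subgroup of a finite group G having exactly two subgroups A ≠ B that are maximal among its elementary abelian subgroups, with S = AB. Then A and B are each weakly closed in S with respect to G, and the normalizer of S normalizes both A and B. -/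
theorem result {G : Type*} [Group G] [Finite G] (S : Sylow 2 G)
    (A B : Subgroup ↥(S : Subgroup G)) (hAB : A ≠ B)
    (hA : Cfsg.IsElementaryAbelian 2 A ∧ ∀ C : Subgroup ↥(S : Subgroup G), Cfsg.IsElementaryAbelian 2 C → A ≤ C → C = A)
    (hB : Cfsg.IsElementaryAbelian 2 B ∧ ∀ C : Subgroup ↥(S : Subgroup G), Cfsg.IsElementaryAbelian 2 C → B ≤ C → C = B)
    (honly : ∀ C : Subgroup ↥(S : Subgroup G), Cfsg.IsElementaryAbelian 2 C →
      (∀ D : Subgroup ↥(S : Subgroup G), Cfsg.IsElementaryAbelian 2 D → C ≤ D → D = C) → C = A ∨ C = B)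
    (hprod : ∀ s : ↥(S : Subgroup G), ∃ a ∈ A, ∃ b ∈ B, a * b = s)
    (A' B' : Subgroup G) (hA' : A' = A.map (S : Subgroup G).subtype) (hB' : B' = B.map (S : Subgroup G).subtype) :
    Cfsg.IsWeaklyClosed A' (S : Subgroup G) ∧ Cfsg.IsWeaklyClosed B' (S : Subgroup G) ∧
      Subgroup.normalizer ((S : Subgroup G) : Set G) ≤ Subgroup.normalizer (A' : Set G) ⊓ Subgroup.normalizer (B' : Set G) := by
  subst hA' hB'
  have hA2 := hA
  have hB2 := hB
  have h1 := wc S A B hA hB honly hprod hAB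
  have h2 := wc S B A hB hA (fun C a b => (honly C a b).symm) (fun s => by
      obtain ⟨a, ha, b, hb, hab⟩ := hprod s⁻¹
      exact ⟨b⁻¹, B.inv_mem hb, a⁻¹, A.inv_mem ha, by rw [← mul_inv_rev, hab, inv_inv]⟩) hAB.symm
  refine ⟨h1, h2, le_inf (norm_le S _ h1) (norm_le S _ h2)⟩

end Cfsg.Agent.S3203
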