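import Cfsg.Statements.S3204
import Cfsg.Agent.Lib.FourCentralMain81
import Cfsg.Agent.Lib.HallCore

set_option autoImplicit false
set_option linter.style.haveILetI false
open Cfsg

namespace Cfsg.Agent.S3204

open Subgroup Cfsg.Agent.FourCentral81
open scoped commutatorElement

variable {G : Type*} [Group G] [Finite G]

/-- Translation of the hypotheses to the ambient group. -/
theorem cfg_of_hyp (T : Sylow 2 G) (ha : 2 ^ 14 ≤ Nat.card ↥(T : Subgroup G))
    (hb : Nat.card ↥(Subgroup.upperCentralSeries ↥(T : Subgroup G) 4) = 16)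
    (W : Subgroup ↥(T : Subgroup G))
    (hW : W = Subgroup.centralizer ((Subgroup.upperCentralSeries ↥(T : Subgroup G) 3 : Subgroup ↥(T : Subgroup G)) : Set ↥(T : Subgroup G)))
    (hc : Nat.card ↥(frattini ↥W) ≤ 8)
    (hd : ∀ U : Subgroup ↥W, U.index ≤ 16 → frattini ↥W ≤ U) :
    Cfg T (W.map (T : Subgroup G).subtype)
      (((commutator ↥W).map W.subtype).map (T : Subgroup G).subtype) := by
  haveI : Fact (Nat.Prime 2) := ⟨Nat.prime_two⟩
  have hP : IsPGroup 2 (T : Subgroup G) := T.isPGroup'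
  obtain ⟨hWn, hWi, hW11, hC, hZW, hsq, hsat, hexp, huniq⟩ := structure_of_four hP ha hb W hW hc hd
  have hcardZ := fun i hi => ucs_card hP ha hb i hi
  have hinj : Function.Injective (T : Subgroup G).subtype := (T : Subgroup G).subtype_injective
  have hcomm : ((commutator ↥W).map W.subtype).map (T : Subgroup G).subtype = ⁅W.map (T : Subgroup G).subtype, W.map (T : Subgroup G).subtype⁆ := by
    rw [Subgroup.map_subtype_commutator, Subgroup.map_commutator]
  have hmem : ∀ {Y : Subgroup (T : Subgroup G)} {x : (T : Subgroup G)}, (x : G) ∈ Y.map (T : Subgroup G).subtype ↔ x ∈ Y := by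
    intro Y x; exact mem_map_iff_mem hinj
  rw [hC] at hcomm ⊢
  have hWn' : ∀ t ∈ (T : Subgroup G), ∀ x ∈ W.map (T : Subgroup G).subtype, t * x * t⁻¹ ∈ W.map (T : Subgroup G).subtype := by
    rintro t ht _ ⟨w, hw, rfl⟩
    exact ⟨_, hWn.conj_mem w hw ⟨t, ht⟩, rfl⟩
  refine
    { hWT := map_subtype_le _
      hDW := map_mono hZW
      hTW := fun t ht => mem_normalizer_of_conj_le (hWn' t ht)
      hND := ?_
      hcent := ?_
      hidx := ?_
      hcardW := ?_
      hcardD := ?_
      hexp := ?_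
      hsq := ?_
      hsat := ?_
      huniq := ?_
      hflag := ?_ }
  · intro n hn
    refine mem_normalizer_of_conj_le fun x hx => ?_
    rw [hcomm] at hx ⊢
    have hmap : (W.map (T : Subgroup G).subtype).map (MulAut.conj n).toMonoidHom ≤ W.map (T : Subgroup G).subtype := by
      rintro _ ⟨w, hw, rfl⟩; exact (mem_normalizer_iff.1 hn w).1 hw
    have := (Subgroup.map_commutator (W.map (T : Subgroup G).subtype) (W.map (T : Subgroup G).subtype)
      (MulAut.conj n).toMonoidHom).le.trans (commutator_mono hmap hmap)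
    exact this ⟨x, hx, rfl⟩
  · intro t ht
    constructor
    · rintro hw _ ⟨d, hd, rfl⟩
      have h1 : (⟨t, ht⟩ : (T : Subgroup G)) ∈ W := hmem.1 hw
      rw [hW, mem_centralizer_iff] at h1
      exact congrArg Subtype.val (h1 d hd)
    · intro h
      refine (hmem (x := (⟨t, ht⟩ : (T : Subgroup G)))).2 ?_
      rw [hW, mem_centralizer_iff]
      intro d hd
      exact Subtype.ext (h _ ⟨d, hd, rfl⟩)
  · have h1 : (W.map (T : Subgroup G).subtype).subgroupOf (T : Subgroup G) = W := comap_map_eq_self_of_injective hinj W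
    rw [relIndex, h1, hWi]
  · rw [← hW11]; exact (Nat.card_congr (W.equivMapOfInjective _ hinj).toEquiv).symm
  · rw [show 8 = 2 ^ 3 from rfl, ← hcardZ 3 (by omega)]
    exact (Nat.card_congr ((Subgroup.upperCentralSeries (T : Subgroup G) 3).equivMapOfInjective _ hinj).toEquiv).symm
  · rintro _ ⟨d, hd, rfl⟩
    exact congrArg Subtype.val (hexp d hd)
  · rintro _ ⟨w, hw, rfl⟩
    exact ⟨w * w, hsq w hw, rfl⟩
  · intro X hX hi
    have hXP : X ≤ (T : Subgroup G) := hX.trans (map_subtype_le _)
    have hmapX : (X.subgroupOf (T : Subgroup G)).map (T : Subgroup G).subtype = X := by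
      rw [subgroupOf_map_subtype, inf_eq_left.2 hXP]
    have hle : X.subgroupOf (T : Subgroup G) ≤ W := fun x hx => hmem.1 (hX hx)
    have hri : (X.subgroupOf (T : Subgroup G)).relIndex W ≤ 16 := by
      rw [← relIndex_map_map_of_injective _ _ hinj, hmapX]; exact hi
    rw [← hmapX]
    exact map_mono (hsat _ hle hri)
  · intro a b ha' hb' hfa hfb ha1 hb1
    obtain ⟨a, haW, rfl⟩ := ha'
    obtain ⟨b, hbW, rfl⟩ := hb'
    refine ⟨a * b⁻¹, huniq a b haW hbW (fun x => ?_) (fun x => ?_) (fun h => ha1 ⟨a, h, rfl⟩)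
      (fun h => hb1 ⟨b, h, rfl⟩), rfl⟩
    · exact hmem.1 (hfa x x.2)
    · exact hmem.1 (hfb x x.2)
  · have hlt : ∀ i, i < 3 → Subgroup.upperCentralSeries (T : Subgroup G) i < Subgroup.upperCentralSeries (T : Subgroup G) (i + 1) :=
      fun i hi => ucs_lt_succ hP i fun h => by
        have h1 := hcardZ i (by omega)
        rw [h, Subgroup.card_top] at h1
        have h2 : 2 ^ i ≤ 2 ^ 3 := Nat.pow_le_pow_right (by norm_num) (by omega)
        omega
    obtain ⟨a0, ha0, ha0'⟩ := SetLike.exists_of_lt (hlt 0 (by omega))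
    obtain ⟨a1, ha1, ha1'⟩ := SetLike.exists_of_lt (hlt 1 (by omega))
    obtain ⟨a2, ha2, ha2'⟩ := SetLike.exists_of_lt (hlt 2 (by omega))
    have hne0 : a0 ≠ 1 := fun h => ha0' (h ▸ one_mem _)
    have hZ1 : Subgroup.upperCentralSeries (T : Subgroup G) 1 = zpowers a0 := by
      symm
      refine Subgroup.eq_of_le_of_card_ge (zpowers_le.2 ha0) ?_
      rw [hcardZ 1 (by omega), pow_one]
      exact (Subgroup.one_lt_card_iff_ne_bot _).2 (by simpa using hne0)
    have hZ2 : Subgroup.upperCentralSeries (T : Subgroup G) 2 = zpowers a0 ⊔ zpowers a1 := by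
      symm
      refine Subgroup.eq_of_le_of_card_ge (sup_le (zpowers_le.2 (Subgroup.upperCentralSeries_mono (T : Subgroup G)
        (by omega) ha0)) (zpowers_le.2 ha1)) ?_
      have hstep : zpowers a0 < zpowers a0 ⊔ zpowers a1 := lt_of_le_of_ne le_sup_left fun h => ha1' (by
        rw [hZ1, h]; exact (le_sup_right : zpowers a1 ≤ zpowers a0 ⊔ zpowers a1) (mem_zpowers a1))
      have h1 := card_double_of_lt hP hstep
      rw [← hZ1, hcardZ 1 (by omega)] at h1
      rw [hcardZ 2 (by omega), ← hZ1]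
      omega
    have hm : zpowers (a0 : G) = (zpowers a0).map (T : Subgroup G).subtype := (MonoidHom.map_zpowers (T : Subgroup G).subtype a0).symm
    have hm1 : zpowers (a0 : G) ⊔ zpowers (a1 : G) = (zpowers a0 ⊔ zpowers a1).map (T : Subgroup G).subtype := by
      rw [Subgroup.map_sup, MonoidHom.map_zpowers, MonoidHom.map_zpowers]; rfl
    refine ⟨![(a0 : G), a1, a2], ?_, ?_, ?_, ?_, ?_⟩
    · intro i
      fin_cases i
      · exact ⟨a0, Subgroup.upperCentralSeries_mono (T : Subgroup G) (by omega) ha0, rfl⟩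
      · exact ⟨a1, Subgroup.upperCentralSeries_mono (T : Subgroup G) (by omega) ha1, rfl⟩
      · exact ⟨a2, ha2, rfl⟩
    · simpa using hne0
    · change (a1 : G) ∉ zpowers (a0 : G)
      rw [hm, hmem, ← hZ1]; exact ha1'
    · change (a2 : G) ∉ zpowers (a0 : G) ⊔ zpowers (a1 : G)
      rw [hm1, hmem, ← hZ2]; exact ha2'
    · intro t ht
      have key : ∀ {i : ℕ} {a : (T : Subgroup G)}, a ∈ Subgroup.upperCentralSeries (T : Subgroup G) (i + 1) →
          ⁅(⟨t, ht⟩ : (T : Subgroup G)), a⁆ ∈ Subgroup.upperCentralSeries (T : Subgroup G) i := by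
        intro i a ha
        rw [← commutatorElement_inv]
        exact inv_mem (Subgroup.mem_upperCentralSeries_succ_iff.1 ha _)
      refine ⟨?_, ?_, ?_⟩
      · change t * (a0 : G) * t⁻¹ = a0
        have h1 : (⟨t, ht⟩ : (T : Subgroup G)) * a0 = a0 * ⟨t, ht⟩ := (ucs_one_fix ha0 _).symm
        rw [show t * (a0 : G) = a0 * t from congrArg Subtype.val h1, mul_inv_cancel_right]
      · change ⁅t, (a1 : G)⁆ ∈ zpowers (a0 : G)
        rw [hm, ← hZ1]
        exact ⟨_, key ha1, rfl⟩
      · change ⁅t, (a2 : G)⁆ ∈ zpowers (a0 : G) ⊔ zpowers (a1 : G)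
        rw [hm1, ← hZ2]
        exact ⟨_, key ha2, rfl⟩

/-- The conclusion in terms of the configuration. -/
theorem main_of_cfg {T : Sylow 2 G} {WG D : Subgroup G} (h : Cfg T WG D)
    (h2 : ∀ H : Subgroup G, H.index ≠ 2) (N M : Subgroup G)
    (hN : N = Subgroup.normalizer (WG : Set G)) (hM : M = Subgroup.normalizer (D : Set G)) :
    (N.subgroupOf M ⊔ Cfsg.oddCore ↥M = ⊤) ∧
      ∃ (_ : (WG.subgroupOf N ⊔ Cfsg.oddCore ↥N).Normal),
        Nonempty (↥N ⧸ (WG.subgroupOf N ⊔ Cfsg.oddCore ↥N) ≃* GL (Fin 3) (ZMod 2)) := by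
  subst hN hM
  obtain ⟨φ, hker, hut⟩ := h.exists_phi
  have hsurj := h.phi_surj φ hker hut h2
  obtain ⟨Q, hQC, hQodd, hQn, hCQW⟩ := h.exists_core φ hker hut hsurj
  have hQM : Q ≤ normalizer (D : Set G) := hQC.trans (Subgroup.centralizer_le_normalizer _)
  refine ⟨?_, ?_⟩
  · have hQ1 : Q.subgroupOf (normalizer (D : Set G)) ≤ Cfsg.oddCore ↥(normalizer (D : Set G)) := by
      haveI : (Q.subgroupOf (normalizer (D : Set G))).Normal := ⟨fun x hx g => hQn g g.2 x hx⟩
      refine HallCore.le_pPrimeCore ?_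
      rw [Nat.coprime_two_right, Nat.card_congr (subgroupOfEquivOfLe hQM).toEquiv]
      exact hQodd
    rw [eq_top_iff]
    rintro ⟨m, hm⟩ -
    obtain ⟨n, hn, c, hc, rfl⟩ := h.frattini_M φ hker hut hsurj m hm
    obtain ⟨x, hx, w, hw, rfl⟩ := hCQW c hc
    have e : (⟨n * (x * w), hm⟩ : ↥(normalizer (D : Set G))) =
        ⟨n, h.hND hn⟩ * ⟨x, hQM hx⟩ * ⟨w, h.W_le_M hw⟩ := Subtype.ext (by simp [mul_assoc])
    rw [e]
    refine mul_mem (mul_mem (Subgroup.mem_sup_left hn) (Subgroup.mem_sup_right (hQ1 hx)))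
      (Subgroup.mem_sup_left ?_)
    exact Subgroup.le_normalizer hw
  · set N := normalizer (WG : Set G)
    have hWN : WG ≤ N := Subgroup.le_normalizer
    have hker' : WG.subgroupOf N ⊔ Cfsg.oddCore ↥N = (h.phiN φ).ker := by
      rw [h.phiN_ker φ hker]
      apply le_antisymm
      · refine sup_le (fun x hx => h.W_le_C hx) ?_
        intro o ho
        change (o : G) ∈ centralizer (D : Set G)
        rw [mem_centralizer_iff]
        intro d hd
        haveI hO : (Cfsg.oddCore ↥N).Normal := HallCore.pPrimeCore_normal 2 _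
        haveI hWnorm : (WG.subgroupOf N).Normal := Subgroup.normal_in_normalizer
        have hdisj : Disjoint (WG.subgroupOf N) (Cfsg.oddCore ↥N) := by
          rw [disjoint_iff]
          apply Disjoint.eq_bot; apply Subgroup.disjoint_of_coprime_natCard
          rw [Nat.card_congr (subgroupOfEquivOfLe hWN).toEquiv, h.hcardW]
          exact Nat.Coprime.pow_left _ (HallCore.coprime_card_pPrimeCore 2 _).symm
        exact congrArg Subtype.val (Subgroup.commute_of_normal_of_disjoint _ _ hWnorm hO hdisj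
          ⟨d, hWN (h.hDW hd)⟩ o (h.hDW hd) ho).eq
      · intro c hc
        obtain ⟨x, hx, w, hw, he⟩ := hCQW c hc
        have hxN : x ∈ N := by
          rw [show x = (c : G) * w⁻¹ by rw [he, mul_inv_cancel_right]]
          exact N.mul_mem c.2 (N.inv_mem (hWN hw))
        haveI : (Q.subgroupOf N).Normal := ⟨fun y hy g => hQn g (h.hND g.2) y hy⟩
        have hQ1 : Q.subgroupOf N ≤ Cfsg.oddCore ↥N := by
          refine HallCore.le_pPrimeCore ?_
          rw [Nat.coprime_two_right]
          exact Odd.of_dvd_nat hQodd (Subgroup.card_comap_dvd_of_injective Q N.subtype N.subtype_injective)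
        rw [show c = (⟨x, hxN⟩ : ↥N) * ⟨w, hWN hw⟩ from Subtype.ext he]
        exact mul_mem (Subgroup.mem_sup_right (hQ1 hx)) (Subgroup.mem_sup_left hw)
    have hn : (WG.subgroupOf N ⊔ Cfsg.oddCore ↥N).Normal := by rw [hker']; infer_instance
    exact ⟨hn, ⟨(QuotientGroup.quotientMulEquivOfEq hker').trans
      (QuotientGroup.quotientKerEquivOfSurjective (h.phiN φ) (h.phiN_surj φ hker hut hsurj))⟩⟩


/-- Let G be a finite group whose Sylow 2-subgroup T has order at least 2^14 with the fourth term of its upper central series of order 16; let W be the centralizer in T of the third term, and suppose the Frattini subgroup of W has order at most 8 and lies in every subgroup of W of index at most 16. Suppose G has no subgroup of index 2, and write W′ for the derived subgroup of W. Then the normalizer of W′ is the product of the normalizer of W with the largest normal odd-order subgroup of the normalizer of W′, and the normalizer N of W has N/(O(N)W) isomorphic to GL(3, 2). -/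
theorem result {G : Type*} [Group G] [Finite G]
    (T : Sylow 2 G) (ha : 2 ^ 14 ≤ Nat.card ↥(T : Subgroup G))
    (hb : Nat.card ↥(Subgroup.upperCentralSeries ↥(T : Subgroup G) 4) = 16)
    (W : Subgroup ↥(T : Subgroup G))
    (hW : W = Subgroup.centralizer ((Subgroup.upperCentralSeries ↥(T : Subgroup G) 3 : Subgroup ↥(T : Subgroup G)) : Set ↥(T : Subgroup G)))
    (hc : Nat.card ↥(frattini ↥W) ≤ 8)
    (hd : ∀ U : Subgroup ↥W, U.index ≤ 16 → frattini ↥W ≤ U)
    (h2 : ∀ H : Subgroup G, H.index ≠ 2)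
    (WG D N M : Subgroup G) (hWG : WG = W.map (T : Subgroup G).subtype)
    (hDW : D = ((commutator ↥W).map W.subtype).map (T : Subgroup G).subtype)
    (hN : N = Subgroup.normalizer (WG : Set G)) (hM : M = Subgroup.normalizer (D : Set G)) :
    (N.subgroupOf M ⊔ Cfsg.oddCore ↥M = ⊤) ∧
      ∃ (_ : (WG.subgroupOf N ⊔ Cfsg.oddCore ↥N).Normal),
        Nonempty (↥N ⧸ (WG.subgroupOf N ⊔ Cfsg.oddCore ↥N) ≃* GL (Fin 3) (ZMod 2)) := by
  subst hWG hDW
  exact main_of_cfg (cfg_of_hyp T ha hb W hW hc hd) h2 N M hN hM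

end Cfsg.Agent.S3204
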