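import Cfsg.Statements.S3206
import Cfsg.Agent.Lib.JRNormalizer7

set_option autoImplicit false
open Cfsg

namespace Cfsg.Agent.S3206

open Subgroup
open scoped IsMulCommutative
open Cfsg.Agent.JRStructure7

/-- A perfect central extension by a group of order two is impossible. -/
theorem no_double_cover {G : Type*} [Group G] [Finite G] [IsSimpleGroup G] (hG : ¬ IsMulCommutative G)
    {F : Type*} [Field F] [Fintype F] (D : Ext G F)
    {L : Type*} [Group L] [Finite L] (hL : commutator L = ⊤) (π : L →* G) (hπ : Function.Surjective π)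
    (hker : π.ker ≤ center L) (h2 : Nat.card π.ker = 2) : False := by
  classical
  have : Fact (Nat.Prime 2) := ⟨Nat.prime_two⟩
  obtain ⟨htrans, -⟩ := D.frobenius hG
  set T : Subgroup L := (D.S : Subgroup G).comap π with hT
  have : Nontrivial π.ker := Finite.one_lt_card_iff_nontrivial.1 (by omega)
  obtain ⟨z', hz'⟩ := exists_ne (1 : π.ker)
  set z : L := (z' : L) with hzdef
  have hz : z ∈ π.ker := z'.2
  have hz1 : z ≠ 1 := fun e => hz' (Subtype.ext e)
  have hzu : ∀ y ∈ π.ker, y = 1 ∨ y = z := by
    intro y hy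
    by_contra hc
    push_neg at hc
    have hsub : ({1, ⟨y, hy⟩, z'} : Set π.ker) ⊆ Set.univ := Set.subset_univ _
    have h1 := Set.ncard_le_ncard hsub (Set.toFinite _)
    rw [Set.ncard_univ, h2, Set.ncard_insert_of_notMem, Set.ncard_pair] at h1
    · omega
    · exact fun e => hc.2 (congrArg Subtype.val e)
    · simp only [Set.mem_insert_iff, Set.mem_singleton_iff, not_or]
      exact ⟨fun e => hc.1 (congrArg Subtype.val e.symm), Ne.symm hz'⟩
  have hzc : ∀ y : L, y * z = z * y := Subgroup.mem_center_iff.1 (hker hz)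
  have hzz : z * z = 1 := by
    rcases hzu _ (mul_mem hz hz) with h | h
    · exact h
    · exact absurd (mul_eq_left.1 h) hz1
  have hzT : z ∈ T := by
    show π z ∈ (D.S : Subgroup G)
    rw [MonoidHom.mem_ker.1 hz]; exact one_mem _
  have hmemT : ∀ x, x ∈ T ↔ π x ∈ (D.S : Subgroup G) := fun x => Iff.rfl
  have hsq : ∀ x ∈ T, x * x = 1 ∨ x * x = z := fun x hx => hzu _ (by
    rw [MonoidHom.mem_ker, map_mul]; exact D.sq_one hx)
  have hconj : ∀ x ∈ T, ∀ y ∈ T, π x ≠ 1 → π y ≠ 1 → x * x = 1 → y * y = 1 := by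
    intro x hx y hy hx1 hy1 hxx
    obtain ⟨m, hm, hmx⟩ := htrans ⟨π x, hx⟩ (fun e => hx1 (congrArg Subtype.val e))
    obtain ⟨m', hm', hmy⟩ := htrans ⟨π y, hy⟩ (fun e => hy1 (congrArg Subtype.val e))
    obtain ⟨n, rfl⟩ := hm
    obtain ⟨n', rfl⟩ := hm'
    have e1 : (n : G) * D.t * (n : G)⁻¹ = π x := congrArg Subtype.val hmx
    have e2 : (n' : G) * D.t * (n' : G)⁻¹ = π y := congrArg Subtype.val hmy
    obtain ⟨l, hl⟩ := hπ ((n' : G) * (n : G)⁻¹)
    have hk : (l * x * l⁻¹)⁻¹ * y ∈ π.ker := by
      rw [MonoidHom.mem_ker, map_mul, map_inv, map_mul, map_mul, map_inv, hl, ← e1, ← e2]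
      group
    have hl2 : (l * x * l⁻¹) * (l * x * l⁻¹) = 1 := by
      rw [show (l * x * l⁻¹) * (l * x * l⁻¹) = l * (x * x) * l⁻¹ by group, hxx]; group
    have hy' : y = (l * x * l⁻¹) * ((l * x * l⁻¹)⁻¹ * y) := (mul_inv_cancel_left _ _).symm
    rcases hzu _ hk with h | h <;> rw [h] at hy' <;> rw [hy']
    · rw [mul_one]; exact hl2
    · rw [mul_assoc, ← mul_assoc z, ← hzc, mul_assoc (l * x * l⁻¹) z z, hzz, mul_one, hl2]
  have hTc : IsMulCommutative T := by
    by_cases hex : ∃ x ∈ T, π x ≠ 1 ∧ x * x = 1
    · obtain ⟨x, hx, hx1, hxx⟩ := hex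
      have hall : ∀ y ∈ T, y * y = 1 := by
        intro y hy
        by_cases hy1 : π y = 1
        · rcases hzu y hy1 with e | e <;> rw [e]
          · exact one_mul _
          · exact hzz
        · exact hconj x hx y hy hx1 hy1 hxx
      refine ⟨⟨fun a b => Subtype.ext ?_⟩⟩
      have ha := inv_eq_of_mul_eq_one_right (hall _ a.2)
      have hb := inv_eq_of_mul_eq_one_right (hall _ b.2)
      have hab := inv_eq_of_mul_eq_one_right (hall _ (mul_mem a.2 b.2))
      show (a : L) * b = b * a
      rw [← hab, mul_inv_rev, ha, hb]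
    · exfalso
      push_neg at hex
      have hneg : ∀ x ∈ T, π x ≠ 1 → x * x = z := fun x hx h => (hsq x hx).resolve_left (hex x hx h)
      have hanti : ∀ x ∈ T, ∀ y ∈ T, π x ≠ 1 → π y ≠ 1 → π x ≠ π y → y * x = x * y * z := by
        intro x hx y hy hx1 hy1 hxy
        have hxy1 : π (x * y) ≠ 1 := fun e => hxy (by
          rw [map_mul] at e
          rw [eq_inv_of_mul_eq_one_left e]
          exact inv_eq_of_mul_eq_one_right (D.sq_one hy))
        have h1 := hneg _ (mul_mem hx hy) hxy1
        calc y * x = (x * x) * (y * x) * (y * y) := by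
              rw [hneg x hx hx1, hneg y hy hy1, ← hzc (y * x), mul_assoc, hzz, mul_one]
          _ = x * (x * y * (x * y)) * y := by group
          _ = x * y * z := by rw [h1, mul_assoc x z y, ← hzc y, ← mul_assoc]
      have hnt : ∀ A : Finset G, A.card < 8 → ∃ s ∈ (D.S : Subgroup G), s ∉ A := by
        intro A hA
        by_contra hc
        push_neg at hc
        have h1 := Set.ncard_le_ncard (s := ((D.S : Subgroup G) : Set G)) (t := (A : Set G)) hc (Set.toFinite _)
        rw [← Nat.card_coe_set_eq, Set.ncard_coe_finset] at h1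
        have h8 := D.card_S
        simp only [SetLike.coe_sort_coe] at h1
        omega
      obtain ⟨a, ha, ha'⟩ := hnt {1} (by simp)
      obtain ⟨b, hb, hb'⟩ := hnt {1, a} (lt_of_le_of_lt Finset.card_le_two (by norm_num))
      obtain ⟨c, hc, hc'⟩ := hnt {1, a, b, a * b} (lt_of_le_of_lt Finset.card_le_four (by norm_num))
      simp only [Finset.mem_insert, Finset.mem_singleton, not_or] at ha' hb' hc'
      obtain ⟨x, rfl⟩ := hπ a
      obtain ⟨y, rfl⟩ := hπ b
      obtain ⟨w, rfl⟩ := hπ c
      obtain ⟨hb1, hba⟩ := hb'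
      obtain ⟨hc1, hca, hcb, hcab⟩ := hc'
      have hxy1 : π (x * y) ≠ 1 := fun e => hba (by
        rw [map_mul] at e
        rw [eq_inv_of_mul_eq_one_right e]
        exact inv_eq_of_mul_eq_one_right (D.sq_one ha))
      have e1 := hanti x ha w hc ha' hc1 (Ne.symm hca)
      have e2 := hanti y hb w hc hb1 hc1 (Ne.symm hcb)
      have e3 := hanti (x * y) (mul_mem ha hb) w hc hxy1 hc1
        (fun e => hcab (by rw [← e, map_mul]))
      have e4 : w * (x * y) = x * y * w := by
        rw [← mul_assoc, e1, mul_assoc (x * w) z y, ← hzc y, ← mul_assoc, mul_assoc x w y, e2,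
          ← mul_assoc, ← mul_assoc, mul_assoc (x * y * w) z z, hzz, mul_one]
      rw [e4, left_eq_mul] at e3
      exact hz1 e3
  have hTidx : T.index = (D.S : Subgroup G).index := Subgroup.index_comap_of_surjective _ hπ
  have hkey : ∀ (k : ℕ) (g₀ : L), g₀⁻¹ * z ^ k * g₀ ∈ T → g₀⁻¹ * z ^ k * g₀ = z ^ k := fun k g₀ _ => by
    rw [mul_assoc, ← (Commute.pow_right (hzc g₀) k).eq, inv_mul_cancel_left]
  haveI := hTc
  have htr := MonoidHom.transfer_eq_pow (H := T) (MonoidHom.id T) z hkey
  have h1 : MonoidHom.transfer (H := T) (MonoidHom.id T) z = 1 :=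
    MonoidHom.mem_ker.1 (Abelianization.commutator_subset_ker _ (hL ▸ mem_top z))
  rw [htr] at h1
  have h3 : z ^ T.index = 1 := congrArg Subtype.val h1
  have hodd : Odd T.index := by
    rw [hTidx, Nat.odd_iff, ← Nat.two_dvd_ne_zero]; exact D.S.not_dvd_index
  obtain ⟨k, hk⟩ := hodd
  rw [hk, pow_add, pow_mul, pow_two, hzz, one_pow, one_mul, pow_one] at h3
  exact hz1 h3


/-- Let G be a non-abelian finite simple group with abelian Sylow 2-subgroups, and let t be an involution of G whose centralizer is a maximal subgroup of G and is the direct product of the subgroup generated by t with a subgroup E having a normal subgroup isomorphic to PSL(2, q), q odd and greater than 3, with trivial centralizer in E. Then every finite perfect group having a central 2-subgroup with quotient isomorphic to G has that central subgroup trivial (G has no nontrivial perfect central extension by a 2-group), and every automorphism of G of 2-power order that fixes every element of some Sylow 2-subgroup of G is inner. -/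
theorem result {G : Type*} [Group G] [Finite G] [IsSimpleGroup G]
    (hG : ¬ IsMulCommutative G) (hab : ∀ S : Sylow 2 G, IsMulCommutative ↥(S : Subgroup G))
    (t : G) (ht : orderOf t = 2) (hmax : IsCoatom (Subgroup.centralizer ({t} : Set G)))
    (E : Subgroup G) (hE : Cfsg.IsInternalDirectProduct (Subgroup.zpowers t) E (Subgroup.centralizer ({t} : Set G)))
    {F : Type*} [Field F] [Fintype F] (hFo : Odd (Fintype.card F)) (hF3 : 3 < Fintype.card F)
    (N : Subgroup ↥E) [N.Normal] (hN : Nonempty (↥N ≃* Matrix.ProjectiveSpecialLinearGroup (Fin 2) F))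
    (hNc : Subgroup.centralizer (N : Set ↥E) = ⊥) :
    (∀ (L : Type) (_ : Group L) (_ : Finite L) (Z : Subgroup L) (_ : Z.Normal), commutator L = ⊤ → Z ≤ Subgroup.center L →
        IsPGroup 2 ↥Z → Nonempty (L ⧸ Z ≃* G) → Z = ⊥) ∧
    (∀ (φ : G ≃* G) (k : ℕ), φ ^ (2 ^ k) = 1 → (∃ S : Sylow 2 G, ∀ s ∈ (S : Subgroup G), φ s = s) →
        ∃ g : G, ∀ x : G, φ x = g * x * g⁻¹) := by
  classical
  have : Fact (Nat.Prime 2) := ⟨Nat.prime_two⟩
  obtain ⟨S, hS⟩ := (IsPGroup.of_card (n := 1) (by rw [Nat.card_zpowers, ht, pow_one]) :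
    IsPGroup 2 (Subgroup.zpowers t)).exists_le_sylow
  obtain ⟨e⟩ := hN
  let NG : Subgroup G := N.map E.subtype
  let D : Ext G F :=
    { t := t
      ht := ht
      E := E
      hC := hE
      S := S
      htS := hS (Subgroup.mem_zpowers t)
      hSc := hab S
      hodd := hFo
      hF3 := hF3
      N := NG
      hNE := Subgroup.map_subtype_le N
      hNn := by
        rintro x hx _ ⟨n, hn, rfl⟩
        exact ⟨_, (‹N.Normal›).conj_mem n hn ⟨x, hx⟩, rfl⟩
      hNc := by
        intro x hx h
        have h1 : (⟨x, hx⟩ : E) ∈ Subgroup.centralizer (N : Set E) := by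
          rw [Subgroup.mem_centralizer_iff]
          intro n hn
          exact Subtype.ext (h _ ⟨n, hn, rfl⟩).symm
        rw [hNc, Subgroup.mem_bot] at h1
        exact congrArg Subtype.val h1
      ε := (N.equivMapOfInjective E.subtype E.subtype_injective).symm.trans e }
  constructor
  · intro L iL iFin Z hZn hL hZc hZ2 ⟨ψ⟩
    by_contra hZ
    obtain ⟨m, hm⟩ := hZ2.exists_card_eq
    cases m with
    | zero => exact hZ (Subgroup.eq_bot_of_card_eq Z (by rw [hm, pow_zero]))
    | succ m =>
      obtain ⟨W, hWcard⟩ := Sylow.exists_subgroup_card_pow_prime (G := Z) 2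
        (n := m) (hm ▸ pow_dvd_pow 2 m.le_succ)
      set W' : Subgroup L := W.map Z.subtype with hW'
      have hW'Z : W' ≤ Z := Subgroup.map_subtype_le W
      haveI hW'n : W'.Normal := ⟨fun w hw g => by
        rw [Subgroup.mem_center_iff.1 (hZc (hW'Z hw)) g, mul_inv_cancel_right]
        exact hw⟩
      let q := QuotientGroup.mk' W'
      let π : L ⧸ W' →* G := (ψ : L ⧸ Z →* G).comp
        (QuotientGroup.map W' Z (MonoidHom.id L) (by rwa [Subgroup.comap_id]))
      have hπs : Function.Surjective π := fun g => by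
        obtain ⟨l, hl⟩ := QuotientGroup.mk_surjective (ψ.symm g)
        exact ⟨l, show ψ (QuotientGroup.mk l) = g by rw [hl, MulEquiv.apply_symm_apply]⟩
      have hker : π.ker = Z.map q := by
        ext x
        obtain ⟨l, rfl⟩ := QuotientGroup.mk_surjective x
        rw [MonoidHom.mem_ker]
        show ψ (QuotientGroup.mk l) = 1 ↔ _
        rw [MulEquiv.map_eq_one_iff, QuotientGroup.eq_one_iff]
        constructor
        · exact fun h => ⟨l, h, rfl⟩
        · rintro ⟨z, hz, e⟩
          have e' : (QuotientGroup.mk z : L ⧸ W') = QuotientGroup.mk l := e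
          rw [QuotientGroup.eq] at e'
          have := Z.mul_mem hz (hW'Z e')
          rwa [mul_inv_cancel_left] at this
      refine no_double_cover hG D (L := L ⧸ W') ?_ π hπs ?_ ?_
      · rw [eq_top_iff]
        intro x _
        obtain ⟨l, rfl⟩ := QuotientGroup.mk_surjective x
        have hl : l ∈ commutator L := hL ▸ Subgroup.mem_top l
        have := Subgroup.mem_map_of_mem q hl
        rw [commutator_def, Subgroup.map_commutator] at this
        exact Subgroup.commutator_mono le_top le_top this
      · rw [hker]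
        rintro _ ⟨z, hz, rfl⟩
        rw [Subgroup.mem_center_iff]
        intro y
        obtain ⟨l, rfl⟩ := QuotientGroup.mk_surjective y
        show q l * q z = q z * q l
        rw [← map_mul, ← map_mul, Subgroup.mem_center_iff.1 (hZc hz) l]
      · have h1 := Subgroup.card_eq_card_quotient_mul_card_subgroup W
        have h2 : Nat.card π.ker = Nat.card (Z ⧸ W) := by
          rw [hker]
          let f : Z →* Z.map q := q.subgroupMap Z
          have hf : Function.Surjective f := q.subgroupMap_surjective Z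
          have hfk : f.ker = W := by
            ext z
            rw [MonoidHom.mem_ker]
            constructor
            · intro e
              have e' : (QuotientGroup.mk (z : L) : L ⧸ W') = 1 := congrArg Subtype.val e
              rw [QuotientGroup.eq_one_iff] at e'
              obtain ⟨w, hw, e2⟩ := e'
              rwa [← Z.subtype_injective e2]
            · intro hz
              exact Subtype.ext ((QuotientGroup.eq_one_iff _).2 ⟨z, hz, rfl⟩)
          rw [← Subgroup.index_eq_card W, ← hfk, Subgroup.index_ker, MonoidHom.range_eq_top.2 hf, Subgroup.card_top]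
        rw [h2]
        rw [hm, hWcard, pow_succ, mul_comm (2 ^ m) 2] at h1
        exact (Nat.eq_of_mul_eq_mul_right (pow_pos two_pos m) h1).symm
  · rintro φ k hφ ⟨S₀, hS₀⟩
    obtain ⟨a, ha⟩ := MulAction.exists_smul_eq G S₀ S
    have hmem : ∀ s ∈ (S : Subgroup G), a⁻¹ * s * a ∈ (S₀ : Subgroup G) := by
      intro s hs
      rw [← ha, Sylow.coe_subgroup_smul] at hs
      obtain ⟨y, hy, rfl⟩ := hs
      have e : a⁻¹ * (MulAut.conj a • y) * a = y := by
        simp [MulAut.conj_apply, mul_assoc]
      show a⁻¹ * (MulAut.conj a • y) * a ∈ S₀.1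
      rw [e]; exact hy
    obtain ⟨b, hb⟩ := D.inner_of_fix hG hmax (MulAut.conj a * φ * (MulAut.conj a)⁻¹) (k := k)
      (by
        rw [conj_pow, show (φ : MulAut G) ^ 2 ^ k = 1 from hφ]
        group)
      (by
        intro s hs
        rw [MulAut.mul_apply, MulAut.mul_apply, MulAut.conj_inv_apply, hS₀ _ (hmem s hs), MulAut.conj_apply]
        group)
    refine ⟨a⁻¹ * b * a, fun x => ?_⟩
    have h := congrArg (fun σ : MulAut G => a⁻¹ * σ (a * x * a⁻¹) * a) hb
    simp only [MulAut.mul_apply, MulAut.conj_inv_apply, MulAut.conj_apply] at h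
    have e1 : a⁻¹ * (a * x * a⁻¹) * a = x := by group
    rw [e1] at h
    have e2 : a⁻¹ * (a * φ x * a⁻¹) * a = φ x := by group
    rw [e2] at h
    rw [h]
    group

end Cfsg.Agent.S3206
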