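import Mathlib
import Cfsg.Statements.S3208
-- import your own Cfsg.Agent.* helpers here

set_option autoImplicit false
open Cfsg

namespace Cfsg.Agent.S3208

/-- Let j be an involution of a finite group G, H a subgroup of G, and T a Sylow 2-subgroup of H ∩ C_G(j) containing j such that ⟨j⟩ is a characteristic subgroup of T. Then T is a Sylow 2-subgroup of H. -/
theorem result {G : Type*} [Group G] [Finite G]
    (j : G) (hj : orderOf j = 2) (H T : Subgroup G) (hT : T ≤ H ⊓ Subgroup.centralizer ({j} : Set G)) (h2 : IsPGroup 2 ↥T)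
    (hSyl : ¬ 2 ∣ T.relIndex (H ⊓ Subgroup.centralizer ({j} : Set G))) (hjT : j ∈ T)
    (hchar : ((Subgroup.zpowers j).subgroupOf T).Characteristic) :
    ¬ 2 ∣ T.relIndex H := by
  haveI : Fact (Nat.Prime 2) := ⟨Nat.prime_two⟩
  intro hdiv
  have hTH : T ≤ H := hT.trans inf_le_left
  have hp' : IsPGroup 2 ↥(T.subgroupOf H) := h2.of_equiv (Subgroup.subgroupOfEquivOfLe hTH).symm
  obtain ⟨P, hP⟩ := IsPGroup.exists_le_sylow hp'
  have hne : T.subgroupOf H ≠ (P : Subgroup ↥H) := by
    intro h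
    refine P.not_dvd_index ?_
    rw [← h]
    exact hdiv
  -- normaliser condition inside `P`
  haveI : Group.IsNilpotent ↥(P : Subgroup ↥H) := P.2.isNilpotent
  set T' : Subgroup ↥(P : Subgroup ↥H) := (T.subgroupOf H).subgroupOf (P : Subgroup ↥H) with hT'
  have hlt : T' < ⊤ := by
    rw [lt_top_iff_ne_top]
    intro h
    exact hne (le_antisymm hP (Subgroup.subgroupOf_eq_top.mp h))
  obtain ⟨n, hn, hnT⟩ := SetLike.exists_of_lt
    (Group.normalizerCondition_of_isNilpotent (G := ↥(P : Subgroup ↥H)) T' hlt)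
  set g : G := ((n : ↥H) : G) with hg
  have hnorm : ∀ x ∈ T, g * x * g⁻¹ ∈ T := by
    intro x hx
    have hxP : (⟨x, hTH hx⟩ : ↥H) ∈ (P : Subgroup ↥H) := hP hx
    have := (Subgroup.mem_normalizer_iff.mp hn ⟨_, hxP⟩).mp hx
    exact this
  let f : ↥T →* ↥T :=
    { toFun := fun x => ⟨g * x * g⁻¹, hnorm x x.2⟩
      map_one' := by ext; simp
      map_mul' := by intro a b; ext; simp [mul_assoc] }
  have hf : Function.Injective f := by
    intro a b h
    have := congrArg Subtype.val h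
    simpa [f] using this
  let e : ↥T ≃* ↥T := MulEquiv.ofBijective f (Finite.injective_iff_bijective.mp hf)
  have hfix := hchar.fixed e
  have hjmem : (⟨j, hjT⟩ : ↥T) ∈ ((Subgroup.zpowers j).subgroupOf T).comap e.toMonoidHom := by
    rw [hfix]; exact Subgroup.mem_zpowers j
  have hgj : g * j * g⁻¹ ∈ Subgroup.zpowers j := hjmem
  obtain ⟨k, hk⟩ := Subgroup.mem_zpowers_iff.mp hgj
  have hjne : g * j * g⁻¹ ≠ 1 := by
    intro h
    have : j = 1 := by
      have h' : g * j * g⁻¹ = g * 1 * g⁻¹ := by simpa using h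
      simpa using h'
    rw [this, orderOf_one] at hj
    exact absurd hj (by norm_num)
  have hgc : g * j * g⁻¹ = j := by
    rw [← hk] at hjne ⊢
    have hj2 : j ^ (2 : ℤ) = 1 := by
      have := pow_orderOf_eq_one j
      rw [hj] at this
      exact_mod_cast this
    rcases Int.even_or_odd k with ⟨m, rfl⟩ | ⟨m, rfl⟩
    · exact absurd (by rw [← two_mul, zpow_mul, hj2, one_zpow]) hjne
    · rw [zpow_add, zpow_mul, hj2, one_zpow, one_mul, zpow_one]
  -- the bigger 2-subgroup
  set K : Subgroup G := T ⊔ Subgroup.zpowers g with hK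
  have hTjc : T ≤ Subgroup.centralizer ({j} : Set G) := hT.trans inf_le_right
  have hgC : g ∈ H ⊓ Subgroup.centralizer ({j} : Set G) := by
    refine ⟨(n : ↥H).2, ?_⟩
    show g ∈ Subgroup.centralizer ({j} : Set G)
    rw [Subgroup.mem_centralizer_singleton_iff]
    conv_rhs => rw [← hgc]
    group
  have hKle : K ≤ H ⊓ Subgroup.centralizer ({j} : Set G) := sup_le hT (Subgroup.zpowers_le.mpr hgC)
  have hKP : K ≤ (P : Subgroup ↥H).map H.subtype := by
    refine sup_le ?_ (Subgroup.zpowers_le.mpr ⟨_, n.2, rfl⟩)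
    intro x hx
    exact ⟨⟨x, hTH hx⟩, hP hx, rfl⟩
  have hK2 : IsPGroup 2 ↥K := (P.2.map H.subtype).to_le hKP
  have hTK : T ≤ K := le_sup_left
  have hgT : g ∉ T := fun h => hnT h
  have h1 : T.relIndex K ≠ 1 := by
    rw [Ne, Subgroup.relIndex_eq_one]
    exact fun h => hgT (h (Subgroup.mem_sup_right (Subgroup.mem_zpowers g)))
  obtain ⟨a, ha⟩ := hK2.index (T.subgroupOf K)
  apply hSyl
  refine dvd_trans ?_ (Subgroup.relIndex_mul_relIndex T K _ hTK hKle ▸ Dvd.intro _ rfl)
  rcases a with - | a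
  · exact absurd ha (by simpa [Subgroup.relIndex] using h1)
  · exact ⟨2 ^ a, by rw [Subgroup.relIndex, ha, pow_succ']⟩

end Cfsg.Agent.S3208
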