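import Mathlib
import Cfsg.Statements.S3209
import Cfsg.Agent.Lib.PSL2Elements
-- import your own Cfsg.Agent.* helpers here

set_option autoImplicit false
open Cfsg

namespace Cfsg.Agent.S3209

open scoped MatrixGroups Pointwise
open Cfsg.Agent.PSL2Elements

variable {G : Type*} [Group G]

lemma two_ne_zero_of_odd {F : Type*} [Field F] [Fintype F] (h : Odd (Fintype.card F)) : (2 : F) ≠ 0 :=
  Ring.two_ne_zero (fun hc => by
    have := FiniteField.even_card_of_char_two (F := F) hc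
    rcases h with ⟨k, hk⟩
    omega)

lemma prod_sq {a b : G} (h : a * b = b * a) : a * b * (a * b) = a * a * (b * b) :=
  (show Commute b a from h.symm).mul_mul_mul_comm a b

lemma neg_one_ne {F : Type*} [Field F] (h2 : (2 : F) ≠ 0) : (-1 : SL(2, F)) ≠ 1 := by
  intro h
  apply h2
  have h' := congrArg (fun A : SL(2, F) => A.1 0 0) h
  simp at h'
  linear_combination -h'

lemma image_j {F : Type*} [Field F] (h2 : (2 : F) ≠ 0) {L : Subgroup G} (e : ↥L ≃* SL(2, F)) {j : G}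
    (hjL : j ∈ L) (hjsq : j * j = 1) (hj1 : j ≠ 1) : e ⟨j, hjL⟩ = -1 := by
  have h : (e ⟨j, hjL⟩) ^ 2 = 1 := by
    rw [← map_pow, ← map_one e]
    congr 1
    exact Subtype.ext (by simpa [pow_two] using hjsq)
  rcases eq_one_or_neg_one_of_sq_eq_one h2 h with h | h
  · rw [← map_one e] at h
    exact absurd (congrArg Subtype.val (e.injective h)) hj1
  · exact h

lemma sqOne {F : Type*} [Field F] (h2 : (2 : F) ≠ 0) {L : Subgroup G} (e : ↥L ≃* SL(2, F)) {j : G}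
    (hjL : j ∈ L) (hjsq : j * j = 1) (hj1 : j ≠ 1) (a : G) (ha : a ∈ L) (h : a * a = 1) : a = 1 ∨ a = j := by
  have h' : (e ⟨a, ha⟩) ^ 2 = 1 := by
    rw [← map_pow, ← map_one e]
    congr 1
    exact Subtype.ext (by simpa [pow_two] using h)
  rcases eq_one_or_neg_one_of_sq_eq_one h2 h' with h' | h'
  · rw [← map_one e] at h'
    exact Or.inl (congrArg Subtype.val (e.injective h'))
  · rw [← image_j h2 e hjL hjsq hj1] at h'
    exact Or.inr (congrArg Subtype.val (e.injective h'))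

lemma classOf {F : Type*} [Field F] [Finite F] (h2 : (2 : F) ≠ 0) {L : Subgroup G} (e : ↥L ≃* SL(2, F)) {j : G}
    (hjL : j ∈ L) (hjsq : j * j = 1) (hj1 : j ≠ 1) :
    ∃ a₀ : ↥L, a₀.1 * a₀.1 = j ∧ ∀ a : ↥L, a.1 * a.1 = j → ∃ g : ↥L, g.1 * a₀.1 * g.1⁻¹ = a.1 := by
  have hj' := image_j h2 e hjL hjsq hj1
  refine ⟨e.symm w, ?_, fun a ha => ?_⟩
  · have : (e.symm w * e.symm w : ↥L) = ⟨j, hjL⟩ := by
      apply e.injective
      rw [map_mul, e.apply_symm_apply, w_sq, hj']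
    exact congrArg Subtype.val this
  · have h : (e a) ^ 2 = -1 := by
      rw [← map_pow, ← hj']
      congr 1
      exact Subtype.ext (by simpa [pow_two] using ha)
    obtain ⟨c, hc⟩ := isConj_iff.mp (isConj_w_of_tr_zero h2 ((sq_eq_neg_one_iff (e a) h2).mp h)).symm
    refine ⟨e.symm c, ?_⟩
    have : e.symm c * e.symm w * (e.symm c)⁻¹ = a := by
      rw [← map_inv, ← map_mul, ← map_mul, hc, e.symm_apply_apply]
    exact congrArg Subtype.val this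


/-- Let L₁ ≅ SL₂(q₁) and L₂ ≅ SL₂(q₂), q₁ and q₂ odd, be elementwise-commuting subgroups of a finite group meeting in ⟨j⟩ for an involution j. Then L₁L₂ has exactly two conjugacy classes of involutions: the central involution j, and one further class (there is an involution x ≠ j in L₁L₂, and every involution of L₁L₂ other than j is conjugate to x by an element of L₁L₂). -/
theorem result {G : Type*} [Group G] [Finite G]
    {F₁ : Type*} [Field F₁] [Fintype F₁] {F₂ : Type*} [Field F₂] [Fintype F₂]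
    (hF₁ : Odd (Fintype.card F₁)) (hF₂ : Odd (Fintype.card F₂)) (L₁ L₂ : Subgroup G)
    (e₁ : ↥L₁ ≃* Matrix.SpecialLinearGroup (Fin 2) F₁) (e₂ : ↥L₂ ≃* Matrix.SpecialLinearGroup (Fin 2) F₂)
    (hc : ∀ x ∈ L₁, ∀ y ∈ L₂, x * y = y * x) (j : G) (hj : orderOf j = 2) (hm : L₁ ⊓ L₂ = Subgroup.zpowers j) :
    ∃ x ∈ L₁ ⊔ L₂, orderOf x = 2 ∧ x ≠ j ∧
      ∀ y ∈ L₁ ⊔ L₂, orderOf y = 2 → y = j ∨ ∃ g ∈ L₁ ⊔ L₂, g * x * g⁻¹ = y := by
  have hjm : j ∈ L₁ ⊓ L₂ := hm ▸ Subgroup.mem_zpowers j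
  have hjsq : j * j = 1 := by
    have := pow_orderOf_eq_one j
    rwa [hj, pow_two] at this
  have hj1 : j ≠ 1 := fun e => by rw [e, orderOf_one] at hj; norm_num at hj
  have h21 : (2 : F₁) ≠ 0 := two_ne_zero_of_odd hF₁
  have h22 : (2 : F₂) ≠ 0 := two_ne_zero_of_odd hF₂
  obtain ⟨a₀, ha₀, hconj₁⟩ := classOf h21 e₁ hjm.1 hjsq hj1
  obtain ⟨b₀, hb₀, hconj₂⟩ := classOf h22 e₂ hjm.2 hjsq hj1
  have hsq₁ : ∀ a : G, a ∈ L₁ → a * a = 1 → a = 1 ∨ a = j := sqOne h21 e₁ hjm.1 hjsq hj1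
  have hsq₂ : ∀ b : G, b ∈ L₂ → b * b = 1 → b = 1 ∨ b = j := sqOne h22 e₂ hjm.2 hjsq hj1
  have hmem2 : ∀ g : G, g ∈ L₁ → g ∈ L₂ → g = 1 ∨ g = j := by
    intro g h1 h2
    have hg : g ∈ Subgroup.zpowers j := hm ▸ ⟨h1, h2⟩
    obtain ⟨k, rfl⟩ := Subgroup.mem_zpowers_iff.mp hg
    have hj2 : j ^ (2 : ℤ) = 1 := by rw [show (2:ℤ) = 1 + 1 by norm_num, zpow_add, zpow_one, hjsq]
    rcases Int.even_or_odd k with ⟨m, rfl⟩ | ⟨m, rfl⟩
    · left; rw [← two_mul, zpow_mul, hj2, one_zpow]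
    · right; rw [zpow_add, zpow_mul, hj2, one_zpow, one_mul, zpow_one]
  refine ⟨a₀.1 * b₀.1, mul_mem (Subgroup.mem_sup_left a₀.2) (Subgroup.mem_sup_right b₀.2), ?_, ?_, ?_⟩
  · haveI : Fact (Nat.Prime 2) := ⟨Nat.prime_two⟩
    refine orderOf_eq_prime ?_ ?_
    · rw [pow_two, prod_sq (hc _ a₀.2 _ b₀.2), ha₀, hb₀, hjsq]
    · intro e
      have : a₀.1 ∈ L₂ := by rw [eq_inv_of_mul_eq_one_left e]; exact inv_mem b₀.2
      rcases hmem2 _ a₀.2 this with h | h <;> rw [h] at ha₀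
      · exact hj1 (by simpa using ha₀.symm)
      · exact hj1 (ha₀.symm.trans hjsq)
  · intro e
    have : a₀.1 ∈ L₂ := by rw [eq_mul_inv_of_mul_eq e]; exact mul_mem hjm.2 (inv_mem b₀.2)
    rcases hmem2 _ a₀.2 this with h | h <;> rw [h] at ha₀
    · exact hj1 (by simpa using ha₀.symm)
    · exact hj1 (ha₀.symm.trans hjsq)
  intro y hy hyo
  have hnorm : L₁ ≤ Subgroup.normalizer (L₂ : Set G) := by
    intro x hx
    refine Subgroup.centralizer_le_normalizer _ ?_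
    exact Subgroup.mem_centralizer_iff.mpr fun b hb => (hc x hx b hb).symm
  have hy' : y ∈ ((L₁ ⊔ L₂ : Subgroup G) : Set G) := hy
  rw [Subgroup.coe_mul_of_left_le_normalizer_right L₁ L₂ hnorm] at hy'
  obtain ⟨a, ha, b, hb, rfl⟩ := Set.mem_mul.mp hy'
  have hab : a * a * (b * b) = 1 := by
    rw [← prod_sq (hc a ha b hb), ← pow_two, ← hyo]
    exact pow_orderOf_eq_one _
  have haa : a * a ∈ L₂ := by rw [eq_inv_of_mul_eq_one_left hab]; exact inv_mem (mul_mem hb hb)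
  have hy1 : a * b ≠ 1 := fun e => by rw [e, orderOf_one] at hyo; norm_num at hyo
  rcases hmem2 _ (mul_mem ha ha) haa with h | h
  · left
    rw [h, one_mul] at hab
    rcases hsq₁ a ha h with rfl | rfl <;> rcases hsq₂ b hb hab with rfl | rfl
    · exact absurd (one_mul 1) hy1
    · exact one_mul _
    · exact mul_one _
    · exact absurd hjsq hy1
  · right
    have hbb : b * b = j := by
      rw [h] at hab
      calc b * b = j * j * (b * b) := by rw [hjsq, one_mul]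
        _ = j := by rw [mul_assoc, hab, mul_one]
    obtain ⟨g₁, hg₁⟩ := hconj₁ ⟨a, ha⟩ h
    obtain ⟨g₂, hg₂⟩ := hconj₂ ⟨b, hb⟩ hbb
    refine ⟨g₁.1 * g₂.1, mul_mem (Subgroup.mem_sup_left g₁.2) (Subgroup.mem_sup_right g₂.2), ?_⟩
    have c1 : Commute g₂.1 a₀.1 := (hc _ a₀.2 _ g₂.2).symm
    have c2 : Commute g₁.1 (g₂.1 * b₀.1 * g₂.1⁻¹) := hc _ g₁.2 _ (mul_mem (mul_mem g₂.2 b₀.2) (inv_mem g₂.2))
    calc g₁.1 * g₂.1 * (a₀.1 * b₀.1) * (g₁.1 * g₂.1)⁻¹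
        = g₁.1 * (g₂.1 * a₀.1) * b₀.1 * g₂.1⁻¹ * g₁.1⁻¹ := by group
      _ = g₁.1 * (a₀.1 * g₂.1) * b₀.1 * g₂.1⁻¹ * g₁.1⁻¹ := by rw [c1.eq]
      _ = g₁.1 * a₀.1 * ((g₂.1 * b₀.1 * g₂.1⁻¹) * g₁.1⁻¹) := by group
      _ = g₁.1 * a₀.1 * (g₁.1⁻¹ * (g₂.1 * b₀.1 * g₂.1⁻¹)) := by rw [c2.inv_left.eq]
      _ = (g₁.1 * a₀.1 * g₁.1⁻¹) * (g₂.1 * b₀.1 * g₂.1⁻¹) := by group
      _ = a * b := by rw [hg₁, hg₂]

end Cfsg.Agent.S3209
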