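import Cfsg.Statements.S3210
import Mathlib
import Cfsg.Agent.Lib.PSL2Small
import Cfsg.Agent.Lib.PSL2Elements
import Cfsg.Agent.Lib.PSLCard
import Cfsg.Agent.Lib.PSLSimple

set_option autoImplicit false
open Cfsg

namespace Cfsg.Agent.S3210


open Matrix.SpecialLinearGroup in
lemma central_of_comm {F : Type*} [Field F] (h2 : (2 : F) ≠ 0) (a : Matrix.SpecialLinearGroup (Fin 2) F)
    (h : ∀ x, a * x * a⁻¹ * x⁻¹ ∈ Subgroup.center (Matrix.SpecialLinearGroup (Fin 2) F)) :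
    a ∈ Subgroup.center (Matrix.SpecialLinearGroup (Fin 2) F) := by
  have hu : a * PSL2Elements.u 1 = PSL2Elements.u 1 * a := by
    rcases (PSL2Elements.mem_center_iff _).1 (h (PSL2Elements.u 1)) with e | e
    · rw [mul_inv_eq_one, mul_inv_eq_iff_eq_mul] at e
      exact e
    · exfalso
      rw [mul_inv_eq_iff_eq_mul, mul_inv_eq_iff_eq_mul] at e
      rw [neg_one_mul, neg_mul] at e
      have hd := PSL2Elements.det_eq a
      have a00 := congrArg (fun B : Matrix.SpecialLinearGroup (Fin 2) F => B.1 0 0) e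
      have a10 := congrArg (fun B : Matrix.SpecialLinearGroup (Fin 2) F => B.1 1 0) e
      have a11 := congrArg (fun B : Matrix.SpecialLinearGroup (Fin 2) F => B.1 1 1) e
      simp [PSL2Elements.u, PSL2Elements.mul_apply2, Matrix.vecMul, dotProduct, Fin.sum_univ_two] at a00 a10 a11
      have c0 : a.1 1 0 = 0 :=
        (mul_eq_zero.1 (show (2 : F) * a.1 1 0 = 0 by linear_combination a10)).resolve_left h2
      have d0 : a.1 0 0 = 0 :=
        (mul_eq_zero.1 (show (2 : F) * a.1 0 0 = 0 by linear_combination a00 - c0)).resolve_left h2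
      rw [c0, d0] at hd
      simp at hd
  obtain ⟨y, hy⟩ := (PSL2Elements.mem_centralizer_u one_ne_zero a).1
    (Subgroup.mem_centralizer_singleton_iff.2 hu)
  have hy0 : y = 0 := by
    have key : ∀ s : Matrix.SpecialLinearGroup (Fin 2) F,
        s ∈ Subgroup.center (Matrix.SpecialLinearGroup (Fin 2) F) →
        PSL2Elements.u y * PSL2Elements.w = s * (PSL2Elements.w * PSL2Elements.u y) → y = 0 := by
      intro s hs e
      rcases (PSL2Elements.mem_center_iff s).1 hs with rfl | rfl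
      · have a00 := congrArg (fun B : Matrix.SpecialLinearGroup (Fin 2) F => B.1 0 0) e
        simp [PSL2Elements.u, PSL2Elements.w, PSL2Elements.mul_apply2] at a00
        exact a00
      · have a01 := congrArg (fun B : Matrix.SpecialLinearGroup (Fin 2) F => B.1 0 1) e
        simp [PSL2Elements.u, PSL2Elements.w, PSL2Elements.mul_apply2] at a01
        grind
    refine key _ (h PSL2Elements.w) ?_
    rcases hy with rfl | rfl
    · group
    · simp only [neg_mul, mul_neg, inv_neg]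
      group
  rw [PSL2Elements.mem_center_iff]
  rcases hy with rfl | rfl
  · exact Or.inl (by rw [hy0, PSL2Elements.u_zero])
  · exact Or.inr (by rw [hy0, PSL2Elements.u_zero])

lemma exists_monolith {F : Type*} [Field F] [Finite F] (hF : Odd (Nat.card F)) :
    ∃ s : Matrix.ProjectiveSpecialLinearGroup (Fin 2) F, s ≠ 1 ∧
      ∀ A : Subgroup (Matrix.ProjectiveSpecialLinearGroup (Fin 2) F), A.Normal → A ≠ ⊥ → s ∈ A := by
  have h1 : 1 < Nat.card F := Finite.one_lt_card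
  obtain ⟨k, hk⟩ := hF
  rcases le_or_gt 4 (Nat.card F) with h4 | h4
  · have := PSLSimple.isSimpleGroup_PSL_fin' (F := F) (le_refl 2) (fun _ => h4)
    obtain ⟨s, hs⟩ := exists_ne (1 : Matrix.ProjectiveSpecialLinearGroup (Fin 2) F)
    refine ⟨s, hs, fun A hA hne => ?_⟩
    rcases hA.eq_bot_or_eq_top with h | h
    · exact absurd h hne
    · rw [h]; trivial
  · obtain ⟨e⟩ := PSL2Small.psl2_three F (by omega)
    have key : ∃ s : alternatingGroup (Fin 4), s ≠ 1 ∧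
        ∀ g, g ≠ 1 → ∃ h, h * g * h⁻¹ = s ∨ h * g * h⁻¹ * g⁻¹ = s := by decide +kernel
    obtain ⟨s, hs, hg⟩ := key
    refine ⟨e.symm s, by simpa using hs, fun A hA hne => ?_⟩
    obtain ⟨g, hgA, hg1⟩ := A.bot_or_exists_ne_one.resolve_left hne
    obtain ⟨h, hh⟩ := hg (e g) (by simpa using hg1)
    rcases hh with hh | hh
    · have : e.symm s = e.symm h * g * (e.symm h)⁻¹ := by
        rw [← hh]; simp
      rw [this]; exact hA.conj_mem _ hgA _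
    · have : e.symm s = e.symm h * g * (e.symm h)⁻¹ * g⁻¹ := by
        rw [← hh]; simp
      rw [this]; exact A.mul_mem (hA.conj_mem _ hgA _) (A.inv_mem hgA)

lemma not_le_center_inf {F : Type*} [Field F] [Finite F] (hF : Odd (Nat.card F)) (h2 : (2 : F) ≠ 0)
    (A B : Subgroup (Matrix.SpecialLinearGroup (Fin 2) F)) (hA : A.Normal) (hB : B.Normal)
    (hA' : ¬ A ≤ Subgroup.center _) (hB' : ¬ B ≤ Subgroup.center _) :
    ¬ A ⊓ B ≤ Subgroup.center _ := by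
  intro hle
  obtain ⟨s, hs, hmono⟩ := exists_monolith hF
  let π := QuotientGroup.mk' (Subgroup.center (Matrix.SpecialLinearGroup (Fin 2) F))
  have aux : ∀ X : Subgroup (Matrix.SpecialLinearGroup (Fin 2) F), X.Normal →
      ¬ X ≤ Subgroup.center _ → s ∈ X.map π := by
    intro X hX hX'
    refine hmono _ (hX.map π (QuotientGroup.mk'_surjective _)) fun hb => hX' ?_
    rw [Subgroup.map_eq_bot_iff, QuotientGroup.ker_mk'] at hb
    exact hb
  obtain ⟨a, ha, hae⟩ := aux A hA hA'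
  obtain ⟨b, hb, hbe⟩ := aux B hB hB'
  obtain ⟨z, hz, hzb⟩ : ∃ z ∈ Subgroup.center (Matrix.SpecialLinearGroup (Fin 2) F), b = a * z := by
    refine ⟨a⁻¹ * b, ?_, by group⟩
    exact QuotientGroup.eq.1 (hae.trans hbe.symm)
  have hac : a ∈ Subgroup.center _ := central_of_comm h2 a fun x => hle ⟨?_, ?_⟩
  · apply hs
    rw [← hae]
    exact (QuotientGroup.eq_one_iff a).2 hac
  · rw [mul_assoc, mul_assoc]
    refine A.mul_mem ha ?_
    rw [← mul_assoc]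
    exact hA.conj_mem _ (A.inv_mem ha) _
  · have : a * x * a⁻¹ * x⁻¹ = b * x * b⁻¹ * x⁻¹ := by
      have hzx : z * x = x * z := ((Subgroup.mem_center_iff.1 hz) x).symm
      subst hzb
      calc a * x * a⁻¹ * x⁻¹ = a * (x * z) * z⁻¹ * a⁻¹ * x⁻¹ := by group
        _ = a * (z * x) * z⁻¹ * a⁻¹ * x⁻¹ := by rw [hzx]
        _ = _ := by group
    rw [this, mul_assoc, mul_assoc]
    refine B.mul_mem hb ?_
    rw [← mul_assoc]
    exact hB.conj_mem _ (B.inv_mem hb) _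

lemma cen {G F : Type*} [Group G] [Field F] {j : G} (hj1 : j ≠ 1) (L : Subgroup G)
    (e : ↥L ≃* Matrix.SpecialLinearGroup (Fin 2) F) (hjL : j ∈ L)
    (hjc : ∀ x ∈ L, j * x = x * j) (a : L) (ha : e a ∈ Subgroup.center _) :
    (a : G) ∈ Subgroup.zpowers j := by
  have hej : e ⟨j, hjL⟩ = -1 := by
    refine ((PSL2Elements.mem_center_iff _).1 ?_).resolve_left ?_
    · rw [Subgroup.mem_center_iff]
      intro x
      obtain ⟨y, rfl⟩ := e.surjective x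
      rw [← map_mul, ← map_mul]
      exact congrArg e (Subtype.ext (hjc y y.2).symm)
    · intro h
      rw [← map_one e] at h
      exact hj1 (congrArg Subtype.val (e.injective h))
  rcases (PSL2Elements.mem_center_iff _).1 ha with h | h
  · rw [← map_one e] at h
    rw [e.injective h]
    exact one_mem _
  · rw [← hej] at h
    rw [e.injective h]
    exact Subgroup.mem_zpowers j

lemma hz {G F : Type*} [Group G] [Field F] {j : G} (hj1 : j ≠ 1) (h2 : (2 : F) ≠ 0) (L : Subgroup G)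
    (e : ↥L ≃* Matrix.SpecialLinearGroup (Fin 2) F) (hjL : j ∈ L) (hjc : ∀ x ∈ L, j * x = x * j)
    (a : G) (ha : a ∈ L) (hax : ∀ x ∈ L, a * x * a⁻¹ * x⁻¹ ∈ Subgroup.zpowers j) :
    a ∈ Subgroup.zpowers j := by
  refine cen hj1 L e hjL hjc ⟨a, ha⟩ (central_of_comm h2 _ fun x => ?_)
  obtain ⟨y, rfl⟩ := e.surjective x
  rw [← map_inv, ← map_inv, ← map_mul, ← map_mul, ← map_mul, Subgroup.mem_center_iff]
  intro w
  obtain ⟨v, rfl⟩ := e.surjective w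
  rw [← map_mul, ← map_mul]
  refine congrArg e (Subtype.ext ?_)
  obtain ⟨i, hi'⟩ := Subgroup.mem_zpowers_iff.1 (hax y y.2)
  have hcm : Commute ((v : G)) (j ^ i) := (Commute.zpow_right (hjc v v.2).symm i)
  rw [hi'] at hcm
  exact hcm

lemma mainLemma {G F₁ F₂ F : Type*} [Group G] [Field F₁] [Field F₂] [Field F] [Finite F]
    (hF : Odd (Nat.card F)) (h2F : (2 : F) ≠ 0) (t₁ : (2 : F₁) ≠ 0) (t₂ : (2 : F₂) ≠ 0)
    (L₁ L₂ : Subgroup G) (e₁ : ↥L₁ ≃* Matrix.SpecialLinearGroup (Fin 2) F₁)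
    (e₂ : ↥L₂ ≃* Matrix.SpecialLinearGroup (Fin 2) F₂)
    (hc : ∀ x ∈ L₁, ∀ y ∈ L₂, x * y = y * x) {j : G} (hj1 : j ≠ 1)
    (hm : L₁ ⊓ L₂ = Subgroup.zpowers j) (hjL₁ : j ∈ L₁) (hjL₂ : j ∈ L₂)
    (jc₁ : ∀ x ∈ L₁, j * x = x * j) (jc₂ : ∀ x ∈ L₂, j * x = x * j)
    (memK : ∀ k ∈ L₁ ⊔ L₂, ∃ a ∈ L₁, ∃ b ∈ L₂, k = a * b)
    (conjL₁ : ∀ k ∈ L₁ ⊔ L₂, ∀ x ∈ L₁, k * x * k⁻¹ ∈ L₁)
    (conjL₂ : ∀ k ∈ L₁ ⊔ L₂, ∀ x ∈ L₂, k * x * k⁻¹ ∈ L₂)
    (conjK : ∀ c ∈ Subgroup.centralizer ({j} : Set G), ∀ k ∈ L₁ ⊔ L₂, c * k * c⁻¹ ∈ L₁ ⊔ L₂)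
    (n : G) (hn : n ∈ Subgroup.centralizer ({j} : Set G))
    (L : Subgroup G) (e : ↥L ≃* Matrix.SpecialLinearGroup (Fin 2) F) (hjL : j ∈ L)
    (hLK : L ≤ L₁ ⊔ L₂) (hjc : ∀ x ∈ L, j * x = x * j)
    (hLn : ∀ k ∈ L₁ ⊔ L₂, ∀ x ∈ L, k * x * k⁻¹ ∈ L) :
    L.map (MulAut.conj n).toMonoidHom ≤ L₁ ∨ L.map (MulAut.conj n).toMonoidHom ≤ L₂ := by
  set Z := Subgroup.zpowers j with hZ
  set M := L.map (MulAut.conj n).toMonoidHom with hM
  have hMK : ∀ m ∈ M, m ∈ L₁ ⊔ L₂ := by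
    rintro m ⟨x, hx, rfl⟩
    exact conjK n hn x (hLK hx)
  have hMn : ∀ k ∈ L₁ ⊔ L₂, ∀ m ∈ M, k * m * k⁻¹ ∈ M := by
    rintro k hk m ⟨x, hx, rfl⟩
    refine ⟨n⁻¹ * k * n * x * (n⁻¹ * k * n)⁻¹, hLn _ ?_ x hx, ?_⟩
    · simpa using conjK n⁻¹ ((Subgroup.centralizer ({j} : Set G)).inv_mem hn) k hk
    · simp only [MulEquiv.coe_toMonoidHom, MulAut.conj_apply]
      group
  by_cases h1 : ∀ m ∈ M, m ∈ L₁ → m ∈ Z
  · right
    intro m hm'
    obtain ⟨a, ha, b, hb, rfl⟩ := memK m (hMK m hm')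
    refine L₂.mul_mem ?_ hb
    refine (hm.symm ▸ hz hj1 t₁ L₁ e₁ hjL₁ jc₁ a ha (fun x hx => ?_) : a ∈ L₁ ⊓ L₂).2
    have e' : a * x * a⁻¹ * x⁻¹ = a * b * x * (a * b)⁻¹ * x⁻¹ := by
      calc a * x * a⁻¹ * x⁻¹ = a * (x * b) * b⁻¹ * a⁻¹ * x⁻¹ := by group
        _ = a * (b * x) * b⁻¹ * a⁻¹ * x⁻¹ := by rw [hc x hx b hb]
        _ = _ := by group
    rw [e']
    have hxK : x ∈ L₁ ⊔ L₂ := Subgroup.mem_sup_left hx
    refine h1 _ ?_ (L₁.mul_mem (conjL₁ _ (hMK _ hm') x hx) (L₁.inv_mem hx))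
    rw [mul_assoc, mul_assoc]
    refine M.mul_mem hm' ?_
    rw [← mul_assoc]
    exact hMn x hxK _ (M.inv_mem hm')
  by_cases h2 : ∀ m ∈ M, m ∈ L₂ → m ∈ Z
  · left
    intro m hm'
    obtain ⟨a, ha, b, hb, rfl⟩ := memK m (hMK m hm')
    refine L₁.mul_mem ha ?_
    refine (hm.symm ▸ hz hj1 t₂ L₂ e₂ hjL₂ jc₂ b hb (fun x hx => ?_) : b ∈ L₁ ⊓ L₂).1
    have e' : b * x * b⁻¹ * x⁻¹ = a * b * x * (a * b)⁻¹ * x⁻¹ := by
      calc b * x * b⁻¹ * x⁻¹ = (b * x * b⁻¹) * a * a⁻¹ * x⁻¹ := by group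
        _ = a * (b * x * b⁻¹) * a⁻¹ * x⁻¹ := by
            rw [hc a ha _ (L₂.mul_mem (L₂.mul_mem hb hx) (L₂.inv_mem hb))]
        _ = _ := by group
    rw [e']
    have hxK : x ∈ L₁ ⊔ L₂ := Subgroup.mem_sup_right hx
    refine h2 _ ?_ (L₂.mul_mem (conjL₂ _ (hMK _ hm') x hx) (L₂.inv_mem hx))
    rw [mul_assoc, mul_assoc]
    refine M.mul_mem hm' ?_
    rw [← mul_assoc]
    exact hMn x hxK _ (M.inv_mem hm')
  exfalso
  let g : Matrix.SpecialLinearGroup (Fin 2) F →* G :=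
    ((MulAut.conj n).toMonoidHom.comp L.subtype).comp e.symm.toMonoidHom
  have hg : ∀ x, g x = n * (e.symm x : G) * n⁻¹ := fun x => rfl
  have hgK : ∀ x, g x ∈ L₁ ⊔ L₂ := fun x => hMK _ ⟨_, (e.symm x).2, rfl⟩
  have hnZ : ∀ z ∈ Z, n * z * n⁻¹ = z := by
    intro z hz'
    obtain ⟨i, rfl⟩ := Subgroup.mem_zpowers_iff.1 hz'
    have : Commute n (j ^ i) := Commute.zpow_right (Subgroup.mem_centralizer_singleton_iff.1 hn) i
    rw [this.eq, mul_inv_cancel_right]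
  have hnor : ∀ X : Subgroup G, (∀ k ∈ L₁ ⊔ L₂, ∀ x ∈ X, k * x * k⁻¹ ∈ X) → (X.comap g).Normal := by
    intro X hX
    constructor
    intro x hx y
    simp only [Subgroup.mem_comap, map_mul, map_inv] at hx ⊢
    exact hX _ (hgK y) _ hx
  have hnc : ∀ X : Subgroup G, ¬ (∀ m ∈ M, m ∈ X → m ∈ Z) → ¬ X.comap g ≤ Subgroup.center _ := by
    intro X hX hle'
    apply hX
    rintro m ⟨x, hx, rfl⟩ hmX
    have : e ⟨x, hx⟩ ∈ Subgroup.center _ := hle' (by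
      simpa [Subgroup.mem_comap, hg] using hmX)
    have hxZ := cen hj1 L e hjL hjc ⟨x, hx⟩ this
    simpa [hnZ x hxZ] using hxZ
  refine not_le_center_inf hF h2F _ _
    (hnor L₁ conjL₁) (hnor L₂ conjL₂) (hnc L₁ h1) (hnc L₂ h2) ?_
  intro x hx
  have hxZ : n * (e.symm x : G) * n⁻¹ ∈ Z := hm ▸ (⟨hx.1, hx.2⟩ : g x ∈ L₁ ⊓ L₂)
  have hxZ' : (e.symm x : G) ∈ Z := by
    have e' := hnZ _ hxZ
    have e'' : n * (e.symm x : G) * n⁻¹ = (e.symm x : G) :=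
      (MulAut.conj n).injective (by simpa only [MulAut.conj_apply] using e')
    rwa [e''] at hxZ
  rw [Subgroup.mem_center_iff]
  intro y
  obtain ⟨v, rfl⟩ := e.surjective y
  obtain ⟨i, hi'⟩ := Subgroup.mem_zpowers_iff.1 hxZ'
  apply e.symm.injective
  apply Subtype.ext
  simp only [map_mul, MulEquiv.symm_apply_apply, Subgroup.coe_mul, ← hi']
  exact (Commute.zpow_right (hjc v v.2).symm i).eq

lemma two_ne {F : Type*} [Field F] [Fintype F] (hF : Odd (Fintype.card F)) : (2 : F) ≠ 0 :=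
  Ring.two_ne_zero fun h => Nat.not_even_iff_odd.2 hF (Nat.even_iff.2 (FiniteField.even_card_iff_char_two.1 h))

/-- Let G be a finite group with subgroups L₁ ≅ SL₂(q₁) and L₂ ≅ SL₂(q₂), q₁ and q₂ odd prime powers, which commute elementwise and meet in ⟨j⟩ for an involution j, and suppose L₁L₂ has index 2 in C_G(j). Then every element n of C_G(j) outside L₁L₂ either normalizes both L₁ and L₂, or conjugates L₁ onto L₂; in the second case q₁ = q₂ and there is an element n′ of C_G(j) outside L₁L₂ conjugating L₁ onto L₂ with n′² ∈ ⟨j⟩. -/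
theorem result {G : Type*} [Group G] [Finite G]
    {F₁ : Type*} [Field F₁] [Fintype F₁] {F₂ : Type*} [Field F₂] [Fintype F₂]
    (hF₁ : Odd (Fintype.card F₁)) (hF₂ : Odd (Fintype.card F₂)) (L₁ L₂ : Subgroup G)
    (e₁ : ↥L₁ ≃* Matrix.SpecialLinearGroup (Fin 2) F₁) (e₂ : ↥L₂ ≃* Matrix.SpecialLinearGroup (Fin 2) F₂)
    (hc : ∀ x ∈ L₁, ∀ y ∈ L₂, x * y = y * x) (j : G) (hj : orderOf j = 2) (hm : L₁ ⊓ L₂ = Subgroup.zpowers j)
    (hle : L₁ ⊔ L₂ ≤ Subgroup.centralizer ({j} : Set G)) (hi : (L₁ ⊔ L₂).relIndex (Subgroup.centralizer ({j} : Set G)) = 2) (n : G) (hn : n ∈ Subgroup.centralizer ({j} : Set G)) (hn' : n ∉ L₁ ⊔ L₂) :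
    (L₁.map (MulAut.conj n).toMonoidHom = L₁ ∧ L₂.map (MulAut.conj n).toMonoidHom = L₂) ∨
      (L₁.map (MulAut.conj n).toMonoidHom = L₂ ∧ Fintype.card F₁ = Fintype.card F₂ ∧
        ∃ n' ∈ Subgroup.centralizer ({j} : Set G), n' ∉ L₁ ⊔ L₂ ∧ L₁.map (MulAut.conj n').toMonoidHom = L₂ ∧ n' ^ 2 ∈ Subgroup.zpowers j) := by
  classical
  have hcF₁ : Odd (Nat.card F₁) := by rwa [Nat.card_eq_fintype_card]
  have hcF₂ : Odd (Nat.card F₂) := by rwa [Nat.card_eq_fintype_card]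
  have t₁ := two_ne hF₁
  have t₂ := two_ne hF₂
  set C := Subgroup.centralizer ({j} : Set G) with hC
  set Z := Subgroup.zpowers j with hZ
  have hjL₁ : j ∈ L₁ := (hm.symm ▸ Subgroup.mem_zpowers j : j ∈ L₁ ⊓ L₂).1
  have hjL₂ : j ∈ L₂ := (hm.symm ▸ Subgroup.mem_zpowers j : j ∈ L₁ ⊓ L₂).2
  have hj1 : j ≠ 1 := by rintro rfl; simp at hj
  have memK : ∀ k ∈ L₁ ⊔ L₂, ∃ a ∈ L₁, ∃ b ∈ L₂, k = a * b := by
    intro k hk
    rw [Subgroup.sup_eq_closure] at hk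
    induction hk using Subgroup.closure_induction with
    | mem x hx =>
        rcases hx with hx | hx
        · exact ⟨x, hx, 1, L₂.one_mem, (mul_one x).symm⟩
        · exact ⟨1, L₁.one_mem, x, hx, (one_mul x).symm⟩
    | one => exact ⟨1, L₁.one_mem, 1, L₂.one_mem, (one_mul 1).symm⟩
    | mul x y _ _ hx hy =>
        obtain ⟨a, ha, b, hb, rfl⟩ := hx
        obtain ⟨c, hc', d, hd, rfl⟩ := hy
        refine ⟨a * c, L₁.mul_mem ha hc', b * d, L₂.mul_mem hb hd, ?_⟩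
        rw [mul_assoc, ← mul_assoc b, ← hc c hc' b hb]
        group
    | inv x _ hx =>
        obtain ⟨a, ha, b, hb, rfl⟩ := hx
        refine ⟨a⁻¹, L₁.inv_mem ha, b⁻¹, L₂.inv_mem hb, ?_⟩
        rw [mul_inv_rev, hc a⁻¹ (L₁.inv_mem ha) b⁻¹ (L₂.inv_mem hb)]
  have conjL₁ : ∀ k ∈ L₁ ⊔ L₂, ∀ x ∈ L₁, k * x * k⁻¹ ∈ L₁ := by
    intro k hk x hx
    obtain ⟨a, ha, b, hb, rfl⟩ := memK k hk
    have : a * b * x * (a * b)⁻¹ = a * x * a⁻¹ := by
      calc a * b * x * (a * b)⁻¹ = a * (b * x) * b⁻¹ * a⁻¹ := by group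
        _ = a * (x * b) * b⁻¹ * a⁻¹ := by rw [hc x hx b hb]
        _ = _ := by group
    rw [this]
    exact L₁.mul_mem (L₁.mul_mem ha hx) (L₁.inv_mem ha)
  have conjL₂ : ∀ k ∈ L₁ ⊔ L₂, ∀ x ∈ L₂, k * x * k⁻¹ ∈ L₂ := by
    intro k hk x hx
    obtain ⟨a, ha, b, hb, rfl⟩ := memK k hk
    have : a * b * x * (a * b)⁻¹ = b * x * b⁻¹ := by
      calc a * b * x * (a * b)⁻¹ = a * (b * x * b⁻¹) * a⁻¹ := by group
        _ = (b * x * b⁻¹) * a * a⁻¹ := by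
            rw [hc a ha _ (L₂.mul_mem (L₂.mul_mem hb hx) (L₂.inv_mem hb))]
        _ = _ := by group
    rw [this]
    exact L₂.mul_mem (L₂.mul_mem hb hx) (L₂.inv_mem hb)
  have hnorm : ((L₁ ⊔ L₂).subgroupOf C).Normal := Subgroup.normal_of_index_eq_two hi
  have conjK : ∀ c ∈ C, ∀ k ∈ L₁ ⊔ L₂, c * k * c⁻¹ ∈ L₁ ⊔ L₂ := fun c hc' k hk =>
    hnorm.conj_mem ⟨k, hle hk⟩ hk ⟨c, hc'⟩
  have hnn : n * n ∈ L₁ ⊔ L₂ :=
    Subgroup.mul_self_mem_of_index_two (H := (L₁ ⊔ L₂).subgroupOf C) hi ⟨n, hn⟩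
  have jc₁ : ∀ x ∈ L₁, j * x = x * j := fun x hx => (hc x hx j hjL₂).symm
  have jc₂ : ∀ x ∈ L₂, j * x = x * j := fun x hx => hc j hjL₁ x hx
  have hM := mainLemma hcF₁ t₁ t₁ t₂ L₁ L₂ e₁ e₂ hc hj1 hm hjL₁ hjL₂ jc₁ jc₂ memK conjL₁ conjL₂ conjK n hn
    L₁ e₁ hjL₁ le_sup_left jc₁ conjL₁
  have hN := mainLemma hcF₂ t₂ t₁ t₂ L₁ L₂ e₁ e₂ hc hj1 hm hjL₁ hjL₂ jc₁ jc₂ memK conjL₁ conjL₂ conjK n hn
    L₂ e₂ hjL₂ le_sup_right jc₂ conjL₂
  have hcardmap : ∀ L : Subgroup G, Nat.card (L.map (MulAut.conj n).toMonoidHom) = Nat.card L :=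
    fun L => Subgroup.card_map_of_injective (MulAut.conj n).injective
  have c₁ : Nat.card L₁ = Nat.card F₁ * (Nat.card F₁ ^ 2 - 1) :=
    (Nat.card_congr e₁.toEquiv).trans PSLCard.card_SL2
  have c₂ : Nat.card L₂ = Nat.card F₂ * (Nat.card F₂ ^ 2 - 1) :=
    (Nat.card_congr e₂.toEquiv).trans PSLCard.card_SL2
  have big : ∀ q : ℕ, 1 < q → 2 < q * (q ^ 2 - 1) := by
    intro q hq
    have : 4 ≤ q ^ 2 := by nlinarith
    calc 2 < 2 * 3 := by norm_num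
      _ ≤ q * (q ^ 2 - 1) := Nat.mul_le_mul hq (by omega)
  have cZ : Nat.card Z = 2 := by rw [hZ, Nat.card_zpowers, hj]
  -- both images cannot lie in the same factor
  have hnot : ∀ X Y : Subgroup G, L₁.map (MulAut.conj n).toMonoidHom ≤ X →
      L₂.map (MulAut.conj n).toMonoidHom ≤ X → Y ≤ L₁ ⊔ L₂ → X ⊓ Y = Z → 2 < Nat.card Y → False := by
    intro X Y h1 h2 hY hXY hcY
    have : (L₁ ⊔ L₂).map (MulAut.conj n).toMonoidHom ≤ X := by
      rw [Subgroup.map_sup]; exact sup_le h1 h2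
    have hYX : Y ≤ X := by
      intro y hy
      refine this ⟨n⁻¹ * y * n, ?_, ?_⟩
      · simpa using conjK n⁻¹ (C.inv_mem hn) y (hY hy)
      · simp only [MulEquiv.coe_toMonoidHom, MulAut.conj_apply]
        group
    rw [inf_eq_right.2 hYX] at hXY
    rw [hXY, cZ] at hcY
    omega
  have hq₁ : 1 < Nat.card F₁ := Finite.one_lt_card
  have hq₂ : 1 < Nat.card F₂ := Finite.one_lt_card
  rcases hM with hM | hM
  · left
    have hN' : L₂.map (MulAut.conj n).toMonoidHom ≤ L₂ := hN.resolve_left fun h =>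
      hnot L₁ L₂ hM h le_sup_right hm (c₂ ▸ big _ hq₂)
    exact ⟨Subgroup.eq_of_le_of_card_ge hM (hcardmap L₁).ge,
      Subgroup.eq_of_le_of_card_ge hN' (hcardmap L₂).ge⟩
  · right
    have hN' : L₂.map (MulAut.conj n).toMonoidHom ≤ L₁ := hN.resolve_right fun h =>
      hnot L₂ L₁ hM h le_sup_left (by rw [inf_comm, hm]) (c₁ ▸ big _ hq₁)
    have i₁ := Subgroup.card_le_of_le hM
    have i₂ := Subgroup.card_le_of_le hN'
    rw [hcardmap] at i₁ i₂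
    have hMeq := Subgroup.eq_of_le_of_card_ge hM (by rw [hcardmap]; omega)
    have hqq : Fintype.card F₁ = Fintype.card F₂ := by
      rw [← Nat.card_eq_fintype_card, ← Nat.card_eq_fintype_card]
      have hmono : ∀ a b : ℕ, 1 < a → a < b → a * (a ^ 2 - 1) < b * (b ^ 2 - 1) := by
        intro a b ha hab
        have h1 : a ^ 2 ≤ b ^ 2 := Nat.pow_le_pow_left hab.le 2
        have h2 : 4 ≤ a ^ 2 := by nlinarith
        exact Nat.mul_lt_mul_of_lt_of_le hab (by omega) (by omega)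
      rcases lt_trichotomy (Nat.card F₁) (Nat.card F₂) with h | h | h
      · have := hmono _ _ hq₁ h; omega
      · exact h
      · have := hmono _ _ hq₂ h; omega
    refine ⟨hMeq, hqq, ?_⟩
    obtain ⟨a, ha, b, hb, hab⟩ := memK _ hnn
    set y := n * a * n⁻¹ with hy
    set x := n * b * n⁻¹ with hx
    have hyL : y ∈ L₂ := hM ⟨a, ha, rfl⟩
    have hxL : x ∈ L₁ := hN' ⟨b, hb, rfl⟩
    have hxy : x * y = a * b := by
      rw [hc x hxL y hyL, hy, hx]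
      calc n * a * n⁻¹ * (n * b * n⁻¹) = n * (a * b) * n⁻¹ := by group
        _ = n * (n * n) * n⁻¹ := by rw [hab]
        _ = n * n := by group
        _ = a * b := hab
    have hzmem : b * y⁻¹ ∈ L₁ ⊓ L₂ := by
      refine ⟨?_, L₂.mul_mem hb (L₂.inv_mem hyL)⟩
      have : b * y⁻¹ = a⁻¹ * x := by
        calc b * y⁻¹ = a⁻¹ * (a * b) * y⁻¹ := by group
          _ = a⁻¹ * (x * y) * y⁻¹ := by rw [hxy]
          _ = _ := by group
      rw [this]
      exact L₁.mul_mem (L₁.inv_mem ha) hxL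
    rw [hm] at hzmem
    have haC : a⁻¹ ∈ C := C.inv_mem (hle (Subgroup.mem_sup_left ha))
    refine ⟨n * a⁻¹, C.mul_mem hn haC, ?_, ?_, ?_⟩
    · intro h
      exact hn' (by simpa using (L₁ ⊔ L₂).mul_mem h (Subgroup.mem_sup_left ha))
    · rw [← hMeq]
      ext g
      constructor
      · rintro ⟨v, hv, rfl⟩
        refine ⟨a⁻¹ * v * a, L₁.mul_mem (L₁.mul_mem (L₁.inv_mem ha) hv) ha, ?_⟩
        simp only [MulEquiv.coe_toMonoidHom, MulAut.conj_apply]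
        group
      · rintro ⟨v, hv, rfl⟩
        refine ⟨a * v * a⁻¹, L₁.mul_mem (L₁.mul_mem ha hv) (L₁.inv_mem ha), ?_⟩
        simp only [MulEquiv.coe_toMonoidHom, MulAut.conj_apply]
        group
    · have e1 : (n * a⁻¹) ^ 2 = y⁻¹ * b := by
        have e0 : a * b * a⁻¹ = b := by rw [hc a ha b hb]; group
        calc (n * a⁻¹) ^ 2 = n * a⁻¹ * n⁻¹ * (n * n) * a⁻¹ := by rw [pow_two]; group
          _ = n * a⁻¹ * n⁻¹ * (a * b) * a⁻¹ := by rw [hab]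
          _ = y⁻¹ * (a * b * a⁻¹) := by rw [hy]; group
          _ = _ := by rw [e0]
      obtain ⟨i, hi'⟩ := Subgroup.mem_zpowers_iff.1 hzmem
      have e2 : y⁻¹ * b = j ^ i := by
        have hcm : Commute y (j ^ i) := Commute.zpow_right (jc₂ y hyL).symm i
        calc y⁻¹ * b = y⁻¹ * ((b * y⁻¹) * y) := by group
          _ = y⁻¹ * (j ^ i * y) := by rw [hi']
          _ = _ := by rw [← hcm.eq]; group
      rw [e1, e2]
      exact Subgroup.mem_zpowers_iff.2 ⟨i, rfl⟩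

end Cfsg.Agent.S3210
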