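import Cfsg.Statements.S3211
import Mathlib
import Cfsg.Agent.S3209
import Cfsg.Agent.S1181
import Cfsg.Agent.Lib.SL2Torus
import Cfsg.Agent.Lib.ZStarTheorem


set_option autoImplicit false
open Cfsg

namespace Cfsg.Agent.S3211

open scoped MatrixGroups Pointwise
open Cfsg.Agent.PSL2Elements

variable {G : Type*} [Group G]

/-- Two commuting subgroups meeting in `{1, j}`, swapped by a square root `n` of `j`. -/
structure Swap (L₁ L₂ : Subgroup G) (j n : G) : Prop where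
  comm : ∀ x ∈ L₁, ∀ y ∈ L₂, x * y = y * x
  meet : ∀ g, g ∈ L₁ → g ∈ L₂ → g = 1 ∨ g = j
  jsq : j * j = 1
  jne : j ≠ 1
  jmem : j ∈ L₁ ∧ j ∈ L₂
  nsq : n * n = j
  jn : Commute j n
  j₁ : ∀ x ∈ L₁, Commute j x
  j₂ : ∀ x ∈ L₂, Commute j x
  to₂ : ∀ x ∈ L₁, n * x * n⁻¹ ∈ L₂
  to₁ : ∀ y ∈ L₂, n⁻¹ * y * n ∈ L₁

variable {L₁ L₂ : Subgroup G} {j n : G}

/-- The square of `x * n * z`. -/
lemma Swap.sq_xnz (h : Swap L₁ L₂ j n) {x z : G} (hx : x ∈ L₁) (hz : z ∈ L₁) :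
    (x * n * z) * (x * n * z) = (x * z) * (n * (z * x) * n⁻¹) * j := by
  set K := n * (z * x) * n⁻¹ with hK
  have hKm : K ∈ L₂ := h.to₂ _ (mul_mem hz hx)
  calc (x * n * z) * (x * n * z) = x * K * (n * n) * z := by rw [hK]; group
    _ = x * (K * (j * z)) := by rw [h.nsq]; group
    _ = x * (K * z * j) := by rw [(h.j₁ z hz).eq]; group
    _ = (x * z) * K * j := by rw [← h.comm z hz K hKm]; group

lemma Swap.square_mul (h : Swap L₁ L₂ j n) {x y : G} (hx : x ∈ L₁) (hy : y ∈ L₂) :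
    x * y * (x * y) = x * x * (y * y) :=
  S3209.prod_sq (h.comm x hx y hy)

lemma Swap.sup_eq (h : Swap L₁ L₂ j n) {p : G} (hp : p ∈ L₁ ⊔ L₂) :
    ∃ x ∈ L₁, ∃ y ∈ L₂, p = x * y := by
  have hnorm : L₁ ≤ Subgroup.normalizer (L₂ : Set G) := by
    intro x hx
    refine Subgroup.centralizer_le_normalizer _ ?_
    exact Subgroup.mem_centralizer_iff.mpr fun b hb => (h.comm x hx b hb).symm
  have hy' : p ∈ ((L₁ ⊔ L₂ : Subgroup G) : Set G) := hp
  rw [Subgroup.coe_mul_of_left_le_normalizer_right L₁ L₂ hnorm] at hy'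
  obtain ⟨a, ha, b, hb, rfl⟩ := Set.mem_mul.mp hy'
  exact ⟨a, ha, b, hb, rfl⟩

lemma Swap.conj_meet (h : Swap L₁ L₂ j n) {w : G} (hw : w = 1 ∨ w = j) :
    n * w * n⁻¹ = w ∧ (∀ x ∈ L₁, Commute w x) ∧ (∀ y ∈ L₂, Commute w y) ∧ w * w = 1 := by
  rcases hw with rfl | rfl
  · exact ⟨by group, fun _ _ => Commute.one_left _, fun _ _ => Commute.one_left _, one_mul _⟩
  · exact ⟨by rw [← h.jn.eq, mul_inv_cancel_right], h.j₁, h.j₂, h.jsq⟩

/-- No involution lies in the outer coset. -/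
lemma Swap.no_outer (h : Swap L₁ L₂ j n) {p : G} (hp : p ∈ L₁ ⊔ L₂)
    (ht : p * n * (p * n) = 1) : False := by
  obtain ⟨x, hx, y, hy, rfl⟩ := h.sup_eq hp
  have hz := h.to₁ y hy
  set z := n⁻¹ * y * n with hzdef
  rw [show x * y * n = x * n * z by rw [hzdef]; group, h.sq_xnz hx hz] at ht
  have hK := h.to₂ _ (mul_mem hz hx)
  have hxz : x * z ∈ L₂ := by
    rw [show x * z = j⁻¹ * (n * (z * x) * n⁻¹)⁻¹ by
      rw [← mul_inv_rev]
      exact eq_inv_of_mul_eq_one_left (by rw [← mul_assoc]; exact ht)]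
    exact mul_mem (inv_mem h.jmem.2) (inv_mem hK)
  have hw := h.meet _ (mul_mem hx hz) hxz
  obtain ⟨w1, w2, -, w4⟩ := h.conj_meet hw
  have hzx : z * x = x * z := by
    calc z * x = x⁻¹ * ((x * z) * x) := by group
      _ = x * z := by rw [(w2 x hx).eq]; group
  rw [hzx, w1, w4, one_mul] at ht
  exact h.jne ht

lemma Swap.n_notMem (h : Swap L₁ L₂ j n) {a : G} (ha : a ∈ L₁) (haj : a * a = j) : n ∉ L₁ ⊔ L₂ := by
  intro hn
  obtain ⟨x, hx, y, hy, rfl⟩ := h.sup_eq hn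
  have h2 := h.to₂ a ha
  have h1 : x * y * a * (x * y)⁻¹ ∈ L₁ := by
    rw [show x * y * a * (x * y)⁻¹ = x * (y * a) * y⁻¹ * x⁻¹ by group, ← h.comm a ha y hy,
      show x * (a * y) * y⁻¹ * x⁻¹ = x * a * x⁻¹ by group]
    exact mul_mem (mul_mem hx ha) (inv_mem hx)
  obtain ⟨-, -, -, h4⟩ := h.conj_meet (h.meet _ h1 h2)
  have : x * y * (a * a) * (x * y)⁻¹ = 1 := by
    rw [← h4]; group
  rw [haj, conj_eq_one_iff] at this
  exact h.jne this

/-- An element of `L₁ ⊔ L₂` squaring to `a * b` lies in the product of the two tori. -/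
lemma Swap.root_inner (h : Swap L₁ L₂ j n) {a b e : G} (ha : a ∈ L₁) (hb : b ∈ L₂)
    (he : e ∈ L₁ ⊔ L₂) (hee : e * e = a * b) :
    ∃ x ∈ L₁, ∃ y ∈ L₂, e = x * y ∧ Commute x a ∧ Commute y b := by
  obtain ⟨x, hx, y, hy, rfl⟩ := h.sup_eq he
  rw [h.square_mul hx hy] at hee
  set w := a⁻¹ * (x * x) with hw
  have hw2 : w = b * (y * y)⁻¹ := by
    rw [hw, eq_mul_inv_iff_mul_eq, mul_assoc, hee, inv_mul_cancel_left]
  have hwm : w ∈ L₁ := mul_mem (inv_mem ha) (mul_mem hx hx)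
  have hwm2 : w ∈ L₂ := hw2 ▸ mul_mem hb (inv_mem (mul_mem hy hy))
  obtain ⟨-, w2, w3, -⟩ := h.conj_meet (h.meet _ hwm hwm2)
  refine ⟨x, hx, y, hy, rfl, ?_, ?_⟩
  · have e : a = x * x * w⁻¹ := by rw [hw]; group
    rw [e]
    exact ((Commute.refl x).mul_right (Commute.refl x)).mul_right (w2 x hx).symm.inv_right
  · have e : b = w * (y * y) := by rw [hw2]; group
    rw [e]
    exact (w3 y hy).symm.mul_right ((Commute.refl y).mul_right (Commute.refl y))

/-- Outer roots of `a * ⁿa` go to outer roots of `j`. -/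
lemma Swap.root_outer (h : Swap L₁ L₂ j n) {a p : G} (ha : a ∈ L₁) (hp : p ∈ L₁ ⊔ L₂)
    (hee : p * n * (p * n) = a * (n * a * n⁻¹)) :
    p * n * a⁻¹ * (p * n * a⁻¹) = j := by
  obtain ⟨x, hx, y, hy, rfl⟩ := h.sup_eq hp
  have hz := h.to₁ y hy
  set z := n⁻¹ * y * n with hzdef
  rw [show x * y * n = x * n * z by rw [hzdef]; group] at hee ⊢
  rw [h.sq_xnz hx hz] at hee
  have hK := h.to₂ _ (mul_mem hz hx)
  set w := a⁻¹ * (x * z) with hw
  have hw2 : w = (n * a * n⁻¹) * j⁻¹ * (n * (z * x) * n⁻¹)⁻¹ := by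
    rw [hw]
    calc a⁻¹ * (x * z)
        = a⁻¹ * ((x * z) * (n * (z * x) * n⁻¹) * j) * j⁻¹ * (n * (z * x) * n⁻¹)⁻¹ := by group
      _ = _ := by rw [hee, inv_mul_cancel_left]
  have hwm : w ∈ L₂ := hw2 ▸ mul_mem (mul_mem (h.to₂ a ha) (inv_mem h.jmem.2)) (inv_mem hK)
  obtain ⟨w1, w2, -, w4⟩ := h.conj_meet (h.meet _ (mul_mem (inv_mem ha) (mul_mem hx hz)) hwm)
  rw [show x * n * z * a⁻¹ = x * n * (z * a⁻¹) by group, h.sq_xnz hx (mul_mem hz (inv_mem ha))]
  have e1 : x * (z * a⁻¹) = w := by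
    calc x * (z * a⁻¹) = a * w * a⁻¹ := by rw [hw]; group
      _ = w := by rw [← (w2 a ha).eq, mul_inv_cancel_right]
  have e2 : z * a⁻¹ * x = w := by
    calc z * a⁻¹ * x = x⁻¹ * (a * w * a⁻¹) * x := by rw [hw]; group
      _ = x⁻¹ * w * x := by rw [← (w2 a ha).eq, mul_inv_cancel_right]
      _ = w := by rw [mul_assoc, (w2 x hx).eq, inv_mul_cancel_left]
  rw [e1, e2, w1, w4, one_mul]

/-- An element `φ` cannot interchange `j` and `a * ⁿa`. -/
lemma Swap.no_interchange [Finite G] (h : Swap L₁ L₂ j n) {a : G} (ha : a ∈ L₁) (haj : a * a = j)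
    (hT : ∀ x ∈ L₁, ∀ x' ∈ L₁, Commute x a → Commute x' a → Commute x x')
    (hC : ∀ e, Commute e j → e ∈ L₁ ⊔ L₂ ∨ ∃ p ∈ L₁ ⊔ L₂, e = p * n)
    (φ : G) (h1 : φ * j * φ⁻¹ = a * (n * a * n⁻¹))
    (h2 : φ * (a * (n * a * n⁻¹)) * φ⁻¹ = j) : False := by
  classical
  set b := n * a * n⁻¹ with hb
  have hb2 : b ∈ L₂ := h.to₂ a ha
  set α := a * b with hα
  have hab : Commute a b := h.comm a ha b hb2
  have haα : Commute a α := (Commute.refl a).mul_right hab
  have hnb : n * b * n⁻¹ = a := by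
    rw [hb, show n * (n * a * n⁻¹) * n⁻¹ = (n * n) * a * (n * n)⁻¹ by group, h.nsq, (h.j₁ a ha).eq,
      mul_inv_cancel_right]
  have hnα : Commute n α := by
    show n * α = α * n
    rw [← mul_inv_eq_iff_eq_mul, hα]
    calc n * (a * b) * n⁻¹ = b * (n * b * n⁻¹) := by rw [hb]; group
      _ = a * b := by rw [hnb]; exact hab.eq.symm
  let Sα : Set G := {e | Commute e j ∧ Commute e α ∧ e * e = α}
  let Sj : Set G := {e | Commute e j ∧ Commute e α ∧ e * e = j}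
  let P := L₁ ⊔ L₂
  have hnP : n ∉ P := h.n_notMem ha haj
  have haP : a ∈ P := Subgroup.mem_sup_left ha
  obtain ⟨e₀, he₀⟩ : ∃ e₀, ∀ e ∈ Sα, e ∈ P → e₀ ∈ Sα ∧ e₀ ∈ P := by
    by_cases hh : ∃ e, e ∈ Sα ∧ e ∈ P
    · exact ⟨hh.choose, fun _ _ _ => hh.choose_spec⟩
    · exact ⟨1, fun e he hp => absurd ⟨e, he, hp⟩ hh⟩
  let F : G → G := fun e => if e ∈ P then e * e₀⁻¹ * a else e * a⁻¹
  have hF : ∀ e ∈ Sα, F e ∈ Sj ∧ (F e ∈ P ↔ e ∈ P) := by
    intro e he
    by_cases hp : e ∈ P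
    · obtain ⟨⟨he0j, he0α, he0e⟩, he0P⟩ := he₀ e he hp
      obtain ⟨x, hx, y, hy, rfl, hxa, hyb⟩ := h.root_inner ha hb2 hp he.2.2
      obtain ⟨x₀, hx₀, y₀, hy₀, hxy₀, hxa₀, hyb₀⟩ := h.root_inner ha hb2 he0P he0e
      have hya : Commute y a := (h.comm a ha y hy).symm
      have hya₀ : Commute y₀ a := (h.comm a ha y₀ hy₀).symm
      have hyy : Commute y y₀ := by
        have hz := h.to₁ y hy
        have hz₀ := h.to₁ y₀ hy₀
        have hba : n⁻¹ * b * n = a := by rw [hb]; group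
        have key : ∀ t, Commute t b → Commute (n⁻¹ * t * n) a := fun t ht => by
          rw [← hba]
          show n⁻¹ * t * n * (n⁻¹ * b * n) = n⁻¹ * b * n * (n⁻¹ * t * n)
          calc n⁻¹ * t * n * (n⁻¹ * b * n) = n⁻¹ * (t * b) * n := by group
            _ = n⁻¹ * (b * t) * n := by rw [ht.eq]
            _ = _ := by group
        have := hT _ hz _ hz₀ (key y hyb) (key y₀ hyb₀)
        show y * y₀ = y₀ * y
        calc y * y₀ = n * ((n⁻¹ * y * n) * (n⁻¹ * y₀ * n)) * n⁻¹ := by group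
          _ = n * ((n⁻¹ * y₀ * n) * (n⁻¹ * y * n)) * n⁻¹ := by rw [this.eq]
          _ = y₀ * y := by group
      have hee : Commute (x * y) e₀ := by
        rw [hxy₀]
        have c1 : Commute x y₀ := h.comm x hx y₀ hy₀
        have c2 : Commute y x₀ := (h.comm x₀ hx₀ y hy).symm
        exact ((hT x hx x₀ hx₀ hxa hxa₀).mul_right c1).mul_left (c2.mul_right hyy)
      have hea : Commute (x * y) a := hxa.mul_left hya
      have he0a : Commute e₀ a := hxy₀ ▸ hxa₀.mul_left hya₀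
      have hFe : F (x * y) = x * y * e₀⁻¹ * a := if_pos hp
      rw [hFe]
      refine ⟨⟨?_, ?_, ?_⟩, iff_of_true (mul_mem (mul_mem hp (inv_mem he0P)) haP) hp⟩
      · exact (he.1.mul_left he0j.inv_left).mul_left (h.j₁ a ha).symm
      · exact (he.2.1.mul_left he0α.inv_left).mul_left haα
      · rw [S3209.prod_sq (hea.mul_left he0a.inv_left).eq, S3209.prod_sq hee.inv_right.eq, he.2.2, haj,
          ← mul_inv_rev, he0e, mul_inv_cancel, one_mul]
    · obtain ⟨p, hpP, rfl⟩ := (hC e he.1).resolve_left hp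
      have hFe : F (p * n) = p * n * a⁻¹ := if_neg hp
      rw [hFe]
      refine ⟨⟨he.1.mul_left (h.j₁ a ha).symm.inv_left, he.2.1.mul_left haα.inv_left,
        h.root_outer ha hpP he.2.2⟩, iff_of_false (fun hh => hp ?_) hp⟩
      simpa using mul_mem hh haP
  let g₁ : ↥Sj → ↥Sα := fun e => ⟨φ * e.1 * φ⁻¹, by
    obtain ⟨c1, c2, c3⟩ := e.2
    refine ⟨?_, ?_, ?_⟩
    · have := c2.map (MulAut.conj φ).toMonoidHom
      simpa [MulAut.conj_apply, h2] using this
    · have := c1.map (MulAut.conj φ).toMonoidHom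
      simpa [MulAut.conj_apply, h1] using this
    · rw [← h1, ← c3]; group⟩
  have hg₁ : Function.Injective g₁ := fun e e' hh => by
    have := congrArg Subtype.val hh
    exact Subtype.ext (mul_left_cancel (mul_right_cancel this))
  let g₂ : ↥Sα → ↥Sj := fun e => ⟨F e.1, (hF e.1 e.2).1⟩
  have hg₂ : Function.Injective g₂ := fun e e' hh => by
    have hv : F e.1 = F e'.1 := congrArg Subtype.val hh
    have hiff : e.1 ∈ P ↔ e'.1 ∈ P := by rw [← (hF _ e.2).2, ← (hF _ e'.2).2, hv]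
    apply Subtype.ext
    by_cases hp : e.1 ∈ P
    · simp only [F, if_pos hp, if_pos (hiff.1 hp)] at hv
      exact mul_right_cancel (mul_right_cancel hv)
    · simp only [F, if_neg hp, if_neg (fun x => hp (hiff.2 x))] at hv
      exact mul_right_cancel hv
  have hsurj : Function.Surjective (g₂ ∘ g₁) := Finite.surjective_of_injective (hg₂.comp hg₁)
  obtain ⟨e', he'⟩ := hsurj ⟨n, h.jn.symm, hnα, h.nsq⟩
  set e := g₁ e' with he
  have hv : F e.1 = n := congrArg Subtype.val he'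
  have hp : e.1 ∉ P := fun hp => hnP (hv ▸ ((hF _ e.2).2).2 hp)
  simp only [F, if_neg hp] at hv
  have hen : e.1 = n * a := by rw [← hv]; group
  have hsq := e.2.2.2
  rw [hen] at hsq
  have : n * a * (n * a) = α * j := by
    calc n * a * (n * a) = b * (n * n) * a := by rw [hb]; group
      _ = b * (j * a) := by rw [h.nsq, mul_assoc]
      _ = b * a * j := by rw [(h.j₁ a ha).eq, ← mul_assoc]
      _ = α * j := by rw [hα, hab.eq]
  rw [this, mul_eq_left] at hsq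
  exact h.jne hsq

/-- Let G be a finite group with subgroups L₁ ≅ SL₂(q₁) and L₂ ≅ SL₂(q₂), q₁ and q₂ odd prime powers, which commute elementwise and meet in ⟨j⟩ for an involution j, and suppose L₁L₂ has index 2 in C_G(j). If some n ∈ C_G(j) with n² = j interchanges L₁ and L₂ under conjugation (so that C_G(j) = L₁L₂⟨n⟩), then G = C_G(j)O(G). -/
theorem result {G : Type*} [Group G] [Finite G]
    {F₁ : Type*} [Field F₁] [Fintype F₁] {F₂ : Type*} [Field F₂] [Fintype F₂]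
    (hF₁ : Odd (Fintype.card F₁)) (hF₂ : Odd (Fintype.card F₂)) (L₁ L₂ : Subgroup G)
    (e₁ : ↥L₁ ≃* Matrix.SpecialLinearGroup (Fin 2) F₁) (e₂ : ↥L₂ ≃* Matrix.SpecialLinearGroup (Fin 2) F₂)
    (hc : ∀ x ∈ L₁, ∀ y ∈ L₂, x * y = y * x) (j : G) (hj : orderOf j = 2) (hm : L₁ ⊓ L₂ = Subgroup.zpowers j)
    (hle : L₁ ⊔ L₂ ≤ Subgroup.centralizer ({j} : Set G)) (hi : (L₁ ⊔ L₂).relIndex (Subgroup.centralizer ({j} : Set G)) = 2) (n : G) (hn : n ∈ Subgroup.centralizer ({j} : Set G))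
    (hn2 : n ^ 2 = j) (hswap : L₁.map (MulAut.conj n).toMonoidHom = L₂) :
    Subgroup.centralizer ({j} : Set G) ⊔ Cfsg.oddCore G = ⊤ := by
  have h21 : (2 : F₁) ≠ 0 := S3209.two_ne_zero_of_odd hF₁
  have hjm : j ∈ L₁ ⊓ L₂ := hm ▸ Subgroup.mem_zpowers j
  have hjsq : j * j = 1 := by
    have := pow_orderOf_eq_one j
    rwa [hj, pow_two] at this
  have hj1 : j ≠ 1 := fun e => by rw [e, orderOf_one] at hj; norm_num at hj
  have hmemC : ∀ x, x ∈ Subgroup.centralizer ({j} : Set G) ↔ Commute x j := fun x =>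
    Subgroup.mem_centralizer_singleton_iff
  have hL₁ : ∀ x ∈ L₁, Commute j x := fun x hx => ((hmemC x).1 (hle (Subgroup.mem_sup_left hx))).symm
  have hL₂ : ∀ x ∈ L₂, Commute j x := fun x hx => ((hmemC x).1 (hle (Subgroup.mem_sup_right hx))).symm
  have hS : Swap L₁ L₂ j n :=
    { comm := hc
      meet := fun g h1 h2 => by
        have hg : g ∈ Subgroup.zpowers j := hm ▸ ⟨h1, h2⟩
        obtain ⟨k, rfl⟩ := Subgroup.mem_zpowers_iff.mp hg
        have hj2 : j ^ (2 : ℤ) = 1 := by rw [zpow_two, hjsq]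
        rcases Int.even_or_odd k with ⟨m, rfl⟩ | ⟨m, rfl⟩
        · left; rw [← two_mul, zpow_mul, hj2, one_zpow]
        · right; rw [zpow_add, zpow_mul, hj2, one_zpow, one_mul, zpow_one]
      jsq := hjsq
      jne := hj1
      jmem := hjm
      nsq := by rw [← pow_two, hn2]
      jn := ((hmemC n).1 hn).symm
      j₁ := hL₁
      j₂ := hL₂
      to₂ := fun x hx => hswap ▸ ⟨x, hx, rfl⟩
      to₁ := fun y hy => by
        rw [← hswap] at hy
        obtain ⟨x, hx, rfl⟩ := hy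
        simpa [MulAut.conj_apply, mul_assoc] using hx }
  have hj' := S3209.image_j h21 e₁ hjm.1 hjsq hj1
  obtain ⟨⟨a, ha⟩, haj'⟩ : ∃ a : ↥L₁, e₁ a = w := ⟨e₁.symm w, e₁.apply_symm_apply w⟩
  have haj : a * a = j := by
    have : (⟨a, ha⟩ * ⟨a, ha⟩ : ↥L₁) = ⟨j, hjm.1⟩ := by
      apply e₁.injective
      rw [map_mul, haj', w_sq, hj']
    exact congrArg Subtype.val this
  have hT : ∀ x ∈ L₁, ∀ x' ∈ L₁, Commute x a → Commute x' a → Commute x x' := by
    intro x hx x' hx' hxa hxa'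
    have key : ∀ (y : G) (hy : y ∈ L₁), Commute y a →
        e₁ ⟨y, hy⟩ ∈ SL2Torus.tor (w : SL(2, F₁)) := fun y hy hya => by
      rw [Subgroup.mem_centralizer_singleton_iff, ← haj', ← map_mul, ← map_mul]
      exact congrArg e₁ (Subtype.ext hya.eq)
    have h3 := SL2Torus.tor_comm (tr_w_ne h21) (key x hx hxa) (key x' hx' hxa')
    rw [← map_mul, ← map_mul] at h3
    exact congrArg Subtype.val (e₁.injective h3)
  have hnP : n ∉ L₁ ⊔ L₂ := hS.n_notMem ha haj
  have hC : ∀ e, Commute e j → e ∈ L₁ ⊔ L₂ ∨ ∃ p ∈ L₁ ⊔ L₂, e = p * n := by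
    intro e he
    by_cases hp : e ∈ L₁ ⊔ L₂
    · exact Or.inl hp
    · refine Or.inr ⟨e * n⁻¹, ?_, by group⟩
      have := Subgroup.mul_mem_iff_of_index_two (H := (L₁ ⊔ L₂).subgroupOf (Subgroup.centralizer ({j} : Set G))) hi
        (a := (⟨e, (hmemC e).2 he⟩ : ↥(Subgroup.centralizer ({j} : Set G)))) (b := ⟨n⁻¹, inv_mem hn⟩)
      simp only [Subgroup.mem_subgroupOf, Subgroup.coe_mul] at this
      exact this.2 (iff_of_false hp fun hh => hnP (by simpa using inv_mem hh))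
  obtain ⟨x₀, -, -, -, hcls⟩ := S3209.result hF₁ hF₂ L₁ L₂ e₁ e₂ hc j hj hm
  have hconjC : ∀ t u, Commute t j → orderOf t = 2 → t ≠ j → Commute u j → orderOf u = 2 → u ≠ j →
      ∃ c, Commute c j ∧ c * t * c⁻¹ = u := by
    intro t u ht ht2 htj hu hu2 huj
    have inner : ∀ t, Commute t j → orderOf t = 2 → t ∈ L₁ ⊔ L₂ := fun t ht ht2 => by
      refine (hC t ht).resolve_right ?_
      rintro ⟨p, hp, rfl⟩
      exact hS.no_outer hp (by rw [← pow_two, ← ht2, pow_orderOf_eq_one])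
    obtain ⟨g, hg, hgt⟩ := (hcls t (inner t ht ht2) ht2).resolve_left htj
    obtain ⟨g', hg', hgu⟩ := (hcls u (inner u hu hu2) hu2).resolve_left huj
    refine ⟨g' * g⁻¹, (hmemC _).1 (hle (mul_mem hg' (inv_mem hg))), ?_⟩
    rw [← hgt, ← hgu]; group
  have hiso : IsIsolatedInvolution j := by
    refine ⟨hj, fun g₀ hg₀ => Classical.byContradiction fun hne => ?_⟩
    set b := n * a * n⁻¹ with hb
    have hb2 : b ∈ L₂ := hS.to₂ a ha
    have hbj : b * b = j := by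
      rw [hb, show n * a * n⁻¹ * (n * a * n⁻¹) = n * (a * a) * n⁻¹ by group, haj, ← hS.jn.eq,
        mul_inv_cancel_right]
    have hαj : Commute (a * b) j := (hmemC _).1 (hle (mul_mem (Subgroup.mem_sup_left ha) (Subgroup.mem_sup_right hb2)))
    have hαne : a * b ≠ j := by
      intro hh
      have : b = a := by
        rw [← haj] at hh
        exact mul_left_cancel hh
      rcases hS.meet a ha (this ▸ hb2) with h4 | h4 <;> rw [h4] at haj
      · exact hj1 (by simpa using haj.symm)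
      · exact hj1 (haj.symm.trans hjsq)
    have hα2 : orderOf (a * b) = 2 := by
      haveI : Fact (Nat.Prime 2) := ⟨Nat.prime_two⟩
      refine orderOf_eq_prime ?_ ?_
      · rw [pow_two, hS.square_mul ha hb2, haj, hbj, hjsq]
      · intro hh
        have : a ∈ L₂ := by rw [eq_inv_of_mul_eq_one_left hh]; exact inv_mem hb2
        rcases hS.meet a ha this with h4 | h4 <;> rw [h4] at haj
        · exact hj1 (by simpa using haj.symm)
        · exact hj1 (haj.symm.trans hjsq)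
    have ho : ∀ g : G, orderOf (g * j * g⁻¹) = 2 := fun g => by
      rw [← MulAut.conj_apply, MulEquiv.orderOf_eq, hj]
    obtain ⟨c₀, -, hc₀⟩ := hconjC _ (a * b) hg₀.symm (ho g₀) hne hαj hα2 hαne
    set g := c₀ * g₀ with hg
    have hgα : g * j * g⁻¹ = a * b := by rw [← hc₀, hg]; group
    have hβj : Commute (g⁻¹ * j * g⁻¹⁻¹) j := by
      have := (hαj.map (MulAut.conj g⁻¹).toMonoidHom).symm
      simp only [MulEquiv.coe_toMonoidHom, MulAut.conj_apply] at this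
      rwa [show g⁻¹ * (a * b) * g⁻¹⁻¹ = j by rw [← hgα]; group] at this
    have hβne : g⁻¹ * j * g⁻¹⁻¹ ≠ j := by
      intro hh
      apply hαne
      rw [← hgα]
      conv_lhs => rw [← hh]
      group
    obtain ⟨c, hcj, hcβ⟩ := hconjC _ (a * b) hβj (ho g⁻¹) hβne hαj hα2 hαne
    refine hS.no_interchange ha haj hT hC (g * c⁻¹) ?_ ?_
    · rw [← hgα, show g * c⁻¹ * j * (g * c⁻¹)⁻¹ = g * (c⁻¹ * (j * c)) * g⁻¹ by group, ← hcj.eq,
        inv_mul_cancel_left]
    · rw [← hb, ← hcβ]; group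
  haveI hON : (pPrimeCore 2 G).Normal := HallCore.pPrimeCore_normal 2 G
  have hjO : j ∉ pPrimeCore 2 G := fun hmem => by
    have h4 : orderOf j ∣ Nat.card (pPrimeCore 2 G) := by
      rw [← Subgroup.orderOf_mk j hmem]; exact orderOf_dvd_natCard _
    rw [hj] at h4
    have := (ZStarTheorem.odd_card_pPrimeCore (G := G))
    exact (Nat.not_even_iff_odd.2 this) (even_iff_two_dvd.2 h4)
  have hcen := (S1181.result j hiso (pPrimeCore 2 G) hjO).1
  rw [eq_top_iff]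
  intro g _
  have hgq : (QuotientGroup.mk g : G ⧸ pPrimeCore 2 G) ∈
      Subgroup.centralizer ({(QuotientGroup.mk j : G ⧸ pPrimeCore 2 G)} : Set (G ⧸ pPrimeCore 2 G)) := by
    rw [Subgroup.mem_centralizer_singleton_iff]
    have h5 := ZStarTheorem.commutator_mem hiso g
    rw [← QuotientGroup.eq_one_iff] at h5
    simp only [QuotientGroup.mk_mul, QuotientGroup.mk_inv] at h5
    exact (mul_inv_eq_iff_eq_mul.1 (mul_inv_eq_one.1 h5)).symm
  rw [hcen] at hgq
  obtain ⟨c, hc', hcg⟩ := hgq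
  have h6 : c⁻¹ * g ∈ pPrimeCore 2 G := QuotientGroup.eq.1 hcg
  rw [show g = c * (c⁻¹ * g) by group]
  exact mul_mem (Subgroup.mem_sup_left hc') (Subgroup.mem_sup_right h6)

end Cfsg.Agent.S3211
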