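import Mathlib
import Cfsg.Statements.S3213
import Cfsg.Agent.Lib.PSL2Elements
-- import your own Cfsg.Agent.* helpers here

set_option autoImplicit false
open Cfsg

namespace Cfsg.Agent.S3213

open scoped MatrixGroups
open Cfsg.Agent.PSL2Elements

abbrev V (F : Type*) := Fin 2 ⊕ Fin 2 → F

section
variable (F : Type*) [Field F]

noncomputable def toEnd : ↥(Matrix.symplecticGroup (Fin 2) F) →* Module.End F (V F) where
  toFun g := Matrix.toLinAlgEquiv' (g : Matrix (Fin 2 ⊕ Fin 2) (Fin 2 ⊕ Fin 2) F)
  map_one' := by simp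
  map_mul' a b := by simp

lemma toEnd_injective : Function.Injective (toEnd F) := fun _ _ h =>
  Subtype.ext (Matrix.toLinAlgEquiv'.injective h)

noncomputable def form : V F →ₗ[F] V F →ₗ[F] F := Matrix.toLinearMap₂' F (Matrix.J (Fin 2) F)

lemma form_apply (v w : V F) : form F v w = dotProduct v ((Matrix.J (Fin 2) F).mulVec w) :=
  Matrix.toLinearMap₂'_apply' _ _ _

lemma pres (g : ↥(Matrix.symplecticGroup (Fin 2) F)) (v w : V F) :
    form F (toEnd F g v) (toEnd F g w) = form F v w := by
  rw [form_apply, form_apply]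
  show dotProduct ((g : Matrix _ _ F).mulVec v) ((Matrix.J (Fin 2) F).mulVec ((g : Matrix _ _ F).mulVec w)) = _
  conv_rhs => rw [← SymplecticGroup.mem_iff'.mp g.2]
  simp only [← Matrix.mulVec_mulVec]
  rw [Matrix.dotProduct_mulVec v (Matrix.transpose _), Matrix.vecMul_transpose]

lemma form_skew (v w : V F) : form F v w = - form F w v := by
  rw [form_apply, form_apply]
  conv_rhs => rw [dotProduct_comm, ← Matrix.vecMul_transpose, Matrix.J_transpose, ← Matrix.dotProduct_mulVec]
  simp [Matrix.neg_mulVec]

lemma form_sep (v : V F) (h : ∀ w, form F v w = 0) : v = 0 := by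
  ext i
  have hJ := Matrix.J_squared (Fin 2) F
  have := h ((Matrix.J (Fin 2) F).mulVec (Pi.single i 1))
  rw [form_apply, Matrix.mulVec_mulVec, hJ, Matrix.neg_mulVec, Matrix.one_mulVec, dotProduct_neg,
    dotProduct_single, mul_one, neg_eq_zero] at this
  exact this

lemma sq_zero [Fintype F] (hF : Fintype.card F = 3) (N : Module.End F (V F)) (B : V F →ₗ[F] V F →ₗ[F] F)
    (hN3 : ∀ v, N (N (N v)) = 0) (hskew : ∀ v w, B v w = - B w v) (hsep : ∀ v, (∀ w, B v w = 0) → v = 0)
    (hsym : ∀ u v, B (N (N u)) v = B u (N (N v))) : ∀ v, N (N v) = 0 := by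
  haveI : CharP F 3 := by
    haveI : Fact (Nat.Prime 3) := ⟨Nat.prime_three⟩
    exact charP_of_card_eq_prime hF
  have h2 : (2 : F) ≠ 0 := Ring.two_ne_zero (by rw [ringChar.eq F 3]; norm_num)
  set M := N * N with hM
  have hC0 : ∀ u, B (M u) u = 0 := by
    intro u
    have h : B (M u) u = - B (M u) u := by
      nth_rewrite 1 [show B (M u) u = B u (M u) from hsym u u]
      exact hskew _ _
    have h' : (2 : F) * B (M u) u = 0 := by linear_combination h
    exact (mul_eq_zero.mp h').resolve_left h2
  -- rank at most one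
  have hrank : Module.finrank F ↥(LinearMap.range M) ≤ 1 := by
    set R := LinearMap.range N
    have h1 : LinearMap.range M = R.map N := LinearMap.range_comp N N
    have h3 : Module.finrank F ↥(LinearMap.range M) + Module.finrank F ↥(LinearMap.ker (N.domRestrict R)) =
        Module.finrank F ↥R := by
      rw [h1, ← LinearMap.range_domRestrict]
      exact LinearMap.finrank_range_add_finrank_ker _
    have h4 : LinearMap.range M ≤ R ⊓ LinearMap.ker N := by
      rintro _ ⟨u, rfl⟩
      exact ⟨⟨N u, rfl⟩, hN3 u⟩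
    have h5 : Module.finrank F ↥(LinearMap.ker (N.domRestrict R)) = Module.finrank F ↥(R ⊓ LinearMap.ker N : Submodule F (V F)) := by
      rw [LinearMap.ker_domRestrict, inf_comm]
      exact (Submodule.equivMapOfInjective _ R.injective_subtype _).finrank_eq.trans (by
        rw [Submodule.map_comap_subtype, inf_comm])
    have h6 := Submodule.finrank_mono h4
    have h7 := Submodule.finrank_mono (inf_le_right : R ⊓ LinearMap.ker N ≤ LinearMap.ker N)
    have h8 : Module.finrank F ↥R + Module.finrank F ↥(LinearMap.ker N) = 4 := by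
      rw [LinearMap.finrank_range_add_finrank_ker, Module.finrank_fintype_fun_eq_card]; rfl
    omega
  intro v
  by_contra hv
  have hv' : M v ≠ 0 := hv
  have hspan : LinearMap.range M = F ∙ (M v) := by
    symm
    apply Submodule.eq_of_le_of_finrank_le
    · rw [Submodule.span_singleton_le_iff_mem]; exact ⟨v, rfl⟩
    · rw [finrank_span_singleton hv']; exact hrank
  apply hv'
  apply hsep
  intro w
  have hmul : ∀ u, ∃ c : F, c • M v = M u := fun u =>
    Submodule.mem_span_singleton.mp (hspan ▸ (⟨u, rfl⟩ : M u ∈ LinearMap.range M))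
  by_cases hvv : B (M v) v = 0
  · -- test with v + w
    obtain ⟨c, hc⟩ := hmul w
    have h1 := hC0 (v + w)
    have h2' := hC0 w
    rw [← hc, map_smul, LinearMap.smul_apply, smul_eq_mul] at h2'
    simp only [map_add, LinearMap.add_apply] at h1
    rw [← hc] at h1
    simp only [map_smul, LinearMap.smul_apply, smul_eq_mul, hvv] at h1
    rcases mul_eq_zero.mp h2' with h | h
    · rw [h] at h1; linear_combination h1
    · exact h
  · exact absurd (hC0 v) hvv

end

lemma trace_of_order_three {K : Type*} [Field K] (x : SL(2, K)) (hx : x ^ 3 = 1) (hx1 : x ≠ 1) :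
    tr x = -1 := by
  have hx' : x.1 * x.1 * x.1 = 1 := by
    have := congrArg Subtype.val hx
    rwa [pow_succ, pow_two, coe_mul', coe_mul'] at this
  rw [sq_eq, sub_mul, smul_mul_assoc, sq_eq, one_mul, smul_sub, smul_smul] at hx'
  set t := tr x with ht
  have e : ∀ i j, (t * t - 1) * x.1 i j = (t + 1) * (1 : Matrix (Fin 2) (Fin 2) K) i j := by
    intro i j
    have := congrFun (congrFun hx' i) j
    simp only [Matrix.sub_apply, Matrix.smul_apply, smul_eq_mul] at this
    linear_combination this
  by_contra hne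
  have hne' : t + 1 ≠ 0 := fun h => hne (by linear_combination h)
  have e' : ∀ i j, (t - 1) * x.1 i j = (1 : Matrix (Fin 2) (Fin 2) K) i j := by
    intro i j
    exact mul_left_cancel₀ hne' (by linear_combination e i j)
  have e00 := e' 0 0
  have e11 := e' 1 1
  have e01 := e' 0 1
  have e10 := e' 1 0
  simp at e00 e11 e01 e10
  have ht1 : t - 1 ≠ 0 := fun h => by rw [h, zero_mul] at e00; exact zero_ne_one e00
  have h01 := e01.resolve_left ht1
  have h10 := e10.resolve_left ht1
  have hd := det_eq x
  rw [h01, h10] at hd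
  have h00 : x.1 0 0 = x.1 1 1 := mul_left_cancel₀ ht1 (e00.trans e11.symm)
  have htr : t = x.1 0 0 + x.1 1 1 := rfl
  apply hx1
  have ha : x.1 0 0 = 1 := by
    rw [← h00] at hd
    have h1 : (t - 1) * x.1 0 0 = 1 := e00
    rw [htr, ← h00] at h1
    linear_combination (2 : K) * hd - h1
  exact ext2 (by simpa using ha) (by simpa using h01) (by simpa using h10) (by rw [← h00]; simpa using ha)

def X5 : SL(2, ZMod 5) := ⟨!![0, -1; 1, -1], by decide⟩
def Y5 : SL(2, ZMod 5) := ⟨!![0, 1; -1, -1], by decide⟩

lemma facts5 : X5 ^ 3 = 1 ∧ X5 ≠ 1 ∧ Y5 ^ 3 = 1 ∧ Y5 ≠ 1 ∧ ((X5 * Y5) ^ 2) ^ 5 = 1 ∧ (X5 * Y5) ^ 2 ≠ 1 := by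
  refine ⟨?_, ?_, ?_, ?_, ?_, ?_⟩ <;> decide +kernel

variable {F : Type*} [Field F] [Fintype F] {K : Type*} [Field K] [Fintype K]

lemma order_five (hF : Fintype.card F = 3) {W : Type*} [AddCommGroup W] [Module F W] [FiniteDimensional F W]
    (hW : Module.finrank F W ≤ 2) (T : Module.End F W) (hT : T ^ 5 = 1) : T = 1 := by
  let b := Module.finBasis F W
  set d := Module.finrank F W with hd
  let e := LinearMap.toMatrixAlgEquiv b
  have h5 : e T ^ 5 = 1 := by rw [← map_pow, hT, map_one]
  apply e.injective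
  rw [map_one]
  let U : GL (Fin d) F := Units.ofPowEqOne (e T) 5 h5 (by norm_num)
  have hU : U ^ 5 = 1 := Units.pow_ofPowEqOne h5 _
  have hcard : Nat.card (GL (Fin d) F) ∣ 48 := by
    rw [Matrix.card_GL_field, hF]
    interval_cases d <;> decide
  have h1 : orderOf U ∣ Nat.gcd 5 48 :=
    Nat.dvd_gcd (orderOf_dvd_of_pow_eq_one hU) (dvd_trans (orderOf_dvd_natCard U) hcard)
  have h2 : U = 1 := orderOf_eq_one_iff.mp (Nat.dvd_one.mp (by simpa using h1))
  exact congrArg Units.val h2

theorem not_transvection (hF : Fintype.card F = 3) (hK : Fintype.card K = 5)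
    (φ : SL(2, K) →* ↥(Matrix.symplecticGroup (Fin 2) F)) (hφ : Function.Injective φ)
    (x : SL(2, K)) (hx : x ^ 3 = 1) (hx1 : x ≠ 1) :
    Module.finrank F ↥(LinearMap.ker (toEnd F (φ x) - 1)) ≠ 3 := by
  haveI : Fact (Nat.Prime 5) := ⟨by norm_num⟩
  haveI : CharP K 5 := charP_of_card_eq_prime hK
  haveI : Fact (Nat.Prime 3) := ⟨by norm_num⟩
  haveI : CharP F 3 := charP_of_card_eq_prime hF
  intro h3
  let i : SL(2, ZMod 5) →* SL(2, K) := Matrix.SpecialLinearGroup.map (ZMod.castHom (dvd_refl 5) K)
  have hi : Function.Injective i := by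
    intro a b h
    apply Subtype.ext
    ext r c
    exact (ZMod.castHom (dvd_refl 5) K).injective (congrFun (congrFun (congrArg Subtype.val h) r) c)
  let P := (toEnd F).comp φ
  have hPinj : Function.Injective P := (toEnd_injective F).comp hφ
  obtain ⟨f1, f2, f3, f4, f5, f6⟩ := facts5
  have h4 : (-1 : K) ^ 2 ≠ 4 := by
    intro h
    have h3' : ((3 : ℕ) : K) = 0 := by push_cast; linear_combination -h
    rw [CharP.cast_eq_zero_iff K 5] at h3'
    norm_num at h3'
  have conj3 : ∀ y : SL(2, ZMod 5), y ^ 3 = 1 → y ≠ 1 →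
      Module.finrank F ↥(LinearMap.ker (P (i y) - 1)) = 3 := by
    intro y hy hy1
    have hy' : i y ^ 3 = 1 := by rw [← map_pow, hy, map_one]
    have hy1' : i y ≠ 1 := fun h => hy1 (hi (h.trans (map_one i).symm))
    have ht := trace_of_order_three x hx hx1
    have hty := trace_of_order_three (i y) hy' hy1'
    obtain ⟨c, hc⟩ := isConj_iff.mp (isConj_of_tr_eq (ht.trans hty.symm) (by rw [ht]; exact h4))
    rw [← h3]
    have hinv : ∀ v, P c (P c⁻¹ v) = v := fun v => by
      rw [← Module.End.mul_apply, ← map_mul, mul_inv_cancel, map_one, Module.End.one_apply]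
    have hinv' : ∀ v, P c⁻¹ (P c v) = v := fun v => by
      rw [← Module.End.mul_apply, ← map_mul, inv_mul_cancel, map_one, Module.End.one_apply]
    let E : V F ≃ₗ[F] V F := LinearEquiv.ofLinear (P c⁻¹) (P c) (LinearMap.ext hinv') (LinearMap.ext hinv)
    have hker : (LinearMap.ker (P (i y) - 1)).map (E : V F →ₗ[F] V F) = LinearMap.ker (P x - 1) := by
      have key : ∀ v, P (i y) v = P c (P x (P c⁻¹ v)) := fun v => by
        rw [← Module.End.mul_apply, ← Module.End.mul_apply, ← map_mul, ← map_mul, hc]
      ext v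
      rw [Submodule.mem_map]
      constructor
      · rintro ⟨w, hw, rfl⟩
        have hw' : P (i y) w = w := sub_eq_zero.mp hw
        show P x (P c⁻¹ w) - P c⁻¹ w = 0
        rw [key] at hw'
        conv_lhs => arg 2; rw [← hw']
        rw [hinv', sub_self]
      · intro hv
        have hv' : P x v = v := sub_eq_zero.mp hv
        refine ⟨P c v, ?_, hinv' v⟩
        show P (i y) (P c v) - P c v = 0
        rw [key, hinv', hv', sub_self]
    have hEq := (Submodule.equivMapOfInjective (E : V F →ₗ[F] V F) E.injective (LinearMap.ker (P (i y) - 1))).finrank_eq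
    rw [hker] at hEq
    exact hEq
  have hA := conj3 X5 f1 f2
  have hB := conj3 Y5 f3 f4
  set A := P (i X5) with hAdef
  set B := P (i Y5) with hBdef
  set W := LinearMap.ker (A - 1) ⊓ LinearMap.ker (B - 1) with hWdef
  have hW2 : 2 ≤ Module.finrank F ↥W := by
    have := Submodule.finrank_sup_add_finrank_inf_eq (LinearMap.ker (A - 1)) (LinearMap.ker (B - 1))
    have h := Submodule.finrank_le (LinearMap.ker (A - 1) ⊔ LinearMap.ker (B - 1))
    have h4' : Module.finrank F (V F) = 4 := by rw [Module.finrank_fintype_fun_eq_card]; rfl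
    rw [← hWdef, hA, hB] at this
    omega
  set H := P (i ((X5 * Y5) ^ 2)) with hH
  have hfix : ∀ w ∈ W, H w = w := by
    intro w hw
    have ha : A w = w := sub_eq_zero.mp hw.1
    have hb : B w = w := sub_eq_zero.mp hw.2
    have : (A * B) w = w := by rw [Module.End.mul_apply, hb, ha]
    simp only [hH, map_pow, map_mul, ← hAdef, ← hBdef, pow_two, Module.End.mul_apply] at this ⊢
    rw [this, this]
  have hH5 : H ^ 5 = 1 := by rw [hH, ← map_pow, ← map_pow, f5, map_one, map_one]
  have hle : W ≤ W.comap H := fun w hw => by show H w ∈ W; rw [hfix w hw]; exact hw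
  set T := W.mapQ W H hle with hT
  have hTpow : ∀ k : ℕ, ∀ v, (T ^ k) (W.mkQ v) = W.mkQ ((H ^ k) v) := by
    intro k
    induction k with
    | zero => intro v; rfl
    | succ k ih => intro v; rw [pow_succ', pow_succ', Module.End.mul_apply, ih]; rfl
  have hT5 : T ^ 5 = 1 := by
    apply LinearMap.ext
    intro q
    obtain ⟨v, rfl⟩ := W.mkQ_surjective q
    rw [hTpow, hH5]
    rfl
  have hq : Module.finrank F (V F ⧸ W) ≤ 2 := by
    have := W.finrank_quotient_add_finrank
    have h4' : Module.finrank F (V F) = 4 := by rw [Module.finrank_fintype_fun_eq_card]; rfl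
    omega
  have hT1 := order_five hF hq T hT5
  have hmem : ∀ v, H v - v ∈ W := by
    intro v
    have := LinearMap.congr_fun hT1 (W.mkQ v)
    exact (Submodule.Quotient.eq W).mp this
  have hH3 : H ^ 3 = 1 := by
    apply LinearMap.ext
    intro v
    obtain ⟨w, hw, hwe⟩ : ∃ w ∈ W, H v = v + w := ⟨H v - v, hmem v, by abel⟩
    show H (H (H v)) = v
    rw [hwe, map_add, hwe, hfix w hw, map_add, map_add, hwe, hfix w hw]
    have h30 : (3 : F) = 0 := by exact_mod_cast CharP.cast_eq_zero F 3
    have : v + w + w + w = v + (3 : F) • w := by module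
    rw [this, h30, zero_smul, add_zero]
  have hH1 : H = 1 := by
    calc H = H * (H ^ 5) := by rw [hH5, mul_one]
      _ = (H ^ 3) ^ 2 := by rw [← pow_mul, ← pow_succ']
      _ = 1 := by rw [hH3, one_pow]
  exact f6 (hi (hPinj (hH1.trans (by rw [map_one, map_one]))))


/-- Let F be the field with 3 elements and K the field with 5 elements. For every injective homomorphism φ from SL₂(K) into the symplectic group Sp₄(F) (4 × 4 matrices g with g J gᵀ = J for the standard alternating matrix J) and every element x of order 3 of SL₂(K), the vectors of F⁴ fixed by φ(x) form a 2-dimensional subspace that is totally isotropic for the alternating form defined by J. -/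
theorem result {F : Type*} [Field F] [Fintype F] (hF : Fintype.card F = 3)
    {K : Type*} [Field K] [Fintype K] (hK : Fintype.card K = 5)
    (φ : Matrix.SpecialLinearGroup (Fin 2) K →* ↥(Matrix.symplecticGroup (Fin 2) F)) (hφ : Function.Injective φ)
    (x : Matrix.SpecialLinearGroup (Fin 2) K) (hx : orderOf x = 3) :
    Module.finrank F ↥(LinearMap.ker (Matrix.toLin' ((φ x : Matrix (Fin 2 ⊕ Fin 2) (Fin 2 ⊕ Fin 2) F)) - LinearMap.id)) = 2 ∧
      ∀ v w : Fin 2 ⊕ Fin 2 → F, (φ x : Matrix (Fin 2 ⊕ Fin 2) (Fin 2 ⊕ Fin 2) F).mulVec v = v →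
        (φ x : Matrix (Fin 2 ⊕ Fin 2) (Fin 2 ⊕ Fin 2) F).mulVec w = w →
          dotProduct v ((Matrix.J (Fin 2) F).mulVec w) = 0 := by
  haveI : Fact (Nat.Prime 5) := ⟨by norm_num⟩
  haveI : CharP F 3 := charP_of_card_eq_prime hF
  haveI : CharP K 5 := charP_of_card_eq_prime hK
  set L := toEnd F with hL
  have hpres : ∀ g : ↥(Matrix.symplecticGroup (Fin 2) F), ∀ v w, form F (L g v) (L g w) = form F v w := pres F
  set A := L (φ x) with hA
  set N := A - 1 with hN
  have hx3 : x ^ 3 = 1 := by rw [← hx]; exact pow_orderOf_eq_one x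
  have hA3 : A ^ 3 = 1 := by rw [hA, ← map_pow, ← map_pow, hx3, map_one, map_one]
  have hN3 : ∀ v, N (N (N v)) = 0 := by
    intro v
    have h3 : (3 : F) = 0 := by exact_mod_cast CharP.cast_eq_zero F 3
    have h : A (A (A v)) = v := LinearMap.congr_fun hA3 v
    simp only [hN, LinearMap.sub_apply, Module.End.one_apply, map_sub, h]
    have : v - A (A v) - (A (A v) - A v) - (A (A v) - A v - (A v - v)) = (3 : F) • (A v - A (A v)) := by
      module
    rw [this, h3, zero_smul]
  have hadj : ∀ u v, form F (N u) v = form F u (A (N v) + N v) := by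
    intro u v
    have e : A (N v) + N v = A (A v) - v := by simp [hN]
    have h1 : form F (A u) v = form F u (A (A v)) := by
      conv_lhs => rw [← show A (A (A v)) = v from LinearMap.congr_fun hA3 v]
      exact hpres (φ x) _ _
    rw [e, hN, LinearMap.sub_apply, Module.End.one_apply, map_sub, LinearMap.sub_apply, map_sub, h1]
  have hN2 : ∀ v, N (N v) = 0 := sq_zero F hF N (form F) hN3 (form_skew F) (form_sep F) (by
    intro u v
    have hAN : ∀ w, A w = N w + w := fun w => by simp [hN]
    rw [hadj, hadj]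
    simp only [hAN, map_add, hN3, zero_add, add_zero]
    have h3 : (3 : F) = 0 := by exact_mod_cast CharP.cast_eq_zero F 3
    have : form F u (N (N v)) + form F u (N (N v)) + (form F u (N (N v)) + form F u (N (N v))) =
        form F u (N (N v)) + (3 : F) * form F u (N (N v)) := by ring
    rw [this, h3, zero_mul, add_zero])
  have hrk : Module.finrank F ↥(LinearMap.ker N) + Module.finrank F ↥(LinearMap.range N) = 4 := by
    rw [add_comm, LinearMap.finrank_range_add_finrank_ker, Module.finrank_fintype_fun_eq_card]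
    rfl
  have hrle : LinearMap.range N ≤ LinearMap.ker N := by
    rintro _ ⟨u, rfl⟩
    exact hN2 u
  have hker2 : Module.finrank F ↥(LinearMap.ker N) = 2 := by
    have h1 := Submodule.finrank_mono hrle
    have h2 : Module.finrank F ↥(LinearMap.ker N) ≠ 4 := by
      intro h
      have hN0 : LinearMap.ker N = ⊤ :=
        Submodule.eq_top_of_finrank_eq (by rw [h, Module.finrank_fintype_fun_eq_card]; rfl)
      have hA1 : A = 1 := sub_eq_zero.mp (LinearMap.ker_eq_top.mp hN0)
      have : φ x = 1 := toEnd_injective F (by rw [← hL, ← hA, hA1, map_one])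
      rw [← map_one φ] at this
      rw [hφ this, orderOf_one] at hx
      norm_num at hx
    have h3 := not_transvection hF hK φ hφ x hx3 (by intro e; rw [e, orderOf_one] at hx; norm_num at hx)
    rw [← hL, ← hA, ← hN] at h3
    omega
  have heq : LinearMap.range N = LinearMap.ker N :=
    Submodule.eq_of_le_of_finrank_eq hrle (by omega)
  refine ⟨hker2, fun v w hv hw => ?_⟩
  have hv' : v ∈ LinearMap.range N := by
    rw [heq]; show N v = 0
    have : A v = v := hv
    simp [hN, this]
  have hw' : N w = 0 := by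
    have : A w = w := hw
    simp [hN, this]
  obtain ⟨u, rfl⟩ := hv'
  rw [← form_apply]
  rw [hadj, hw', map_zero, add_zero, map_zero]

end Cfsg.Agent.S3213
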