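import Mathlib
import Cfsg.Statements.S3215
import Cfsg.Agent.Lib.HallSolvable
import Cfsg.Agent.Lib.CoprimeGen
import Cfsg.Agent.Lib.CoprimeAction
import Cfsg.Agent.Lib.PGroupsCyclic
import Cfsg.Agent.Lib.ComponentsFitting
-- import your own Cfsg.Agent.* helpers here

set_option autoImplicit false
open Cfsg

namespace Cfsg.Agent.S3215

open Cfsg.Agent

variable {H : Type*} [Group H] [Finite H]

lemma IsPGroup.toSylow' {p : ℕ} {K : Type*} [Group K] (hK : IsPGroup p K) (P : Sylow p K) :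
    (P : Subgroup K) = ⊤ :=
  (P.3 (hK.to_subgroup ⊤) le_top).symm

lemma comm_mem_centralizer {K : Type*} [Group K] (F : Subgroup K) [hF : F.Normal] [IsCyclic ↥F] (a b : K) :
    a * b * a⁻¹ * b⁻¹ ∈ Subgroup.centralizer (F : Set K) := by
  rw [Subgroup.mem_centralizer_iff]
  intro f hf
  obtain ⟨g, hg⟩ := IsCyclic.exists_generator (α := ↥F)
  have key : ∀ c : K, ∃ i : ℤ, ∀ u : K, u ∈ F → c * u * c⁻¹ = u ^ i := by
    intro c
    obtain ⟨i, hi⟩ := Subgroup.mem_zpowers_iff.mp (hg ⟨c * g * c⁻¹, hF.conj_mem g g.2 c⟩)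
    refine ⟨i, fun u hu => ?_⟩
    obtain ⟨j, hj⟩ := Subgroup.mem_zpowers_iff.mp (hg ⟨u, hu⟩)
    have h1 : ((g : K) ^ i) = c * g * c⁻¹ := congrArg Subtype.val hi
    have h2 : (g : K) ^ j = u := congrArg Subtype.val hj
    rw [← h2, ← MulAut.conj_apply, map_zpow, MulAut.conj_apply, ← h1, ← zpow_mul, ← zpow_mul, mul_comm]
  obtain ⟨i, hi⟩ := key a
  obtain ⟨j, hj⟩ := key b
  have hab : a * (b * f * b⁻¹) * a⁻¹ = b * (a * f * a⁻¹) * b⁻¹ := by
    rw [hj f hf, hi f hf, hi _ (zpow_mem hf j), hj _ (zpow_mem hf i), ← zpow_mul, ← zpow_mul, mul_comm]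
  have h3 : (a * b * a⁻¹ * b⁻¹) * (b * (a * f * a⁻¹) * b⁻¹) = (b * (a * f * a⁻¹) * b⁻¹) * (a * b * a⁻¹ * b⁻¹) := by
    calc (a * b * a⁻¹ * b⁻¹) * (b * (a * f * a⁻¹) * b⁻¹) = a * b * f * a⁻¹ * b⁻¹ := by group
      _ = (a * (b * f * b⁻¹) * a⁻¹) * (a * b * a⁻¹ * b⁻¹) := by group
      _ = _ := by rw [hab]
  have h4 : b * (a * f * a⁻¹) * b⁻¹ = f ^ (i * j) := by
    rw [hi f hf, hj _ (zpow_mem hf i), ← zpow_mul]
  -- every element of `F` arises this way
  obtain ⟨f', hf', hff⟩ : ∃ f' ∈ F, b * (a * f' * a⁻¹) * b⁻¹ = f :=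
    ⟨(b * a)⁻¹ * f * (b * a)⁻¹⁻¹, hF.conj_mem f hf _, by group⟩
  have h5 : (a * b * a⁻¹ * b⁻¹) * (b * (a * f' * a⁻¹) * b⁻¹) = (b * (a * f' * a⁻¹) * b⁻¹) * (a * b * a⁻¹ * b⁻¹) := by
    have hab' : a * (b * f' * b⁻¹) * a⁻¹ = b * (a * f' * a⁻¹) * b⁻¹ := by
      rw [hj f' hf', hi f' hf', hi _ (zpow_mem hf' j), hj _ (zpow_mem hf' i), ← zpow_mul, ← zpow_mul, mul_comm]
    calc (a * b * a⁻¹ * b⁻¹) * (b * (a * f' * a⁻¹) * b⁻¹) = a * b * f' * a⁻¹ * b⁻¹ := by group
      _ = (a * (b * f' * b⁻¹) * a⁻¹) * (a * b * a⁻¹ * b⁻¹) := by group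
      _ = _ := by rw [hab']
  rw [hff] at h5
  exact h5.symm

lemma normal_odd_le {K : Type*} [Group K] [Finite K] (F X : Subgroup K) [F.Normal] (hF : Odd (Nat.card ↥F))
    {l : ℕ} (hl : X.index = 2 ^ l) : F ≤ X := by
  rw [← Subgroup.relIndex_eq_one]
  have h1 : X.relIndex (X ⊔ F) ∣ X.index := ⟨(X ⊔ F).index, (Subgroup.relIndex_mul_index le_sup_left).symm⟩
  have h2 : X.relIndex (X ⊔ F) = (X ⊓ F).relIndex F := by
    have e1 : Nat.card ↥(X ⊔ F : Subgroup K) = Nat.card ↥F * (F.relIndex X) := by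
      rw [← Subgroup.relIndex_sup_right (H := X) (K := F), Subgroup.relIndex]
      rw [← Nat.card_congr (Subgroup.subgroupOfEquivOfLe (le_sup_right : F ≤ X ⊔ F)).toEquiv]
      exact (Subgroup.card_mul_index _).symm
    have e2 : Nat.card ↥X * X.relIndex (X ⊔ F) = Nat.card ↥(X ⊔ F : Subgroup K) :=
      HallCore.card_mul_relIndex le_sup_left
    have e3 : Nat.card ↥(X ⊓ F : Subgroup K) * (X ⊓ F).relIndex F = Nat.card ↥F :=
      HallCore.card_mul_relIndex inf_le_right
    have e4 : Nat.card ↥(X ⊓ F : Subgroup K) * F.relIndex X = Nat.card ↥X := by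
      rw [← Subgroup.inf_relIndex_left X F]
      exact HallCore.card_mul_relIndex inf_le_left
    apply Nat.eq_of_mul_eq_mul_left (Nat.card_pos (α := ↥X))
    rw [e2, e1, ← e3, ← e4]
    ring
  rw [← Subgroup.inf_relIndex_right]
  refine Nat.eq_one_of_dvd_coprimes (Nat.Coprime.pow_left l (Nat.coprime_two_left.mpr hF)) (hl ▸ h2 ▸ h1) ?_
  exact ⟨Nat.card ↥(X ⊓ F : Subgroup K), by rw [mul_comm]; exact (HallCore.card_mul_relIndex inf_le_right).symm⟩

lemma mem_complement {G : Type*} [Group G] [Finite G] (h : Cfsg.HasNormalPComplement 2 G) :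
    ∃ N : Subgroup G, N.Normal ∧ (Odd (Nat.card ↥N)) ∧ ∀ x : G, Odd (orderOf x) → x ∈ N := by
  haveI : Fact (Nat.Prime 2) := ⟨Nat.prime_two⟩
  obtain ⟨P, N, hN, hc⟩ := h
  obtain ⟨k, hk⟩ := IsPGroup.iff_card.mp P.2
  have hNidx : N.index = 2 ^ k := by rw [Subgroup.IsComplement'.index_eq_card hc.symm, hk]
  refine ⟨N, hN, ?_, fun x hx => ?_⟩
  · rw [← Subgroup.IsComplement'.index_eq_card hc, ← Nat.not_even_iff_odd, even_iff_two_dvd]
    exact P.not_dvd_index
  · have h1 : orderOf (QuotientGroup.mk' N x) ∣ 2 ^ k := by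
      rw [← hNidx, Subgroup.index_eq_card]; exact orderOf_dvd_natCard _
    have h2 : orderOf (QuotientGroup.mk' N x) ∣ orderOf x := orderOf_map_dvd _ x
    exact (QuotientGroup.eq_one_iff x).mp (orderOf_eq_one_iff.mp
      (Nat.eq_one_of_dvd_coprimes (Nat.Coprime.pow_left k (Nat.coprime_two_left.mpr hx)) h1 h2))

/-- commutators of an odd element with a fixed 2-element of `Y` vanish in a centralizer -/
lemma commutes_in_centralizer (hI : ∀ t : H, orderOf t = 2 → Cfsg.HasNormalPComplement 2 ↥(Subgroup.centralizer ({t} : Set H)))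
    {Y : Subgroup H} [Y.Normal] (hY2 : IsPGroup 2 ↥Y) (t : H) (ht : orderOf t = 2) (x y : H)
    (hx : Odd (orderOf x)) (hxt : x * t = t * x) (hy : y ∈ Y) (hyt : y * t = t * y) : x * y = y * x := by
  obtain ⟨N, hN, hNodd, hNx⟩ := mem_complement (hI t ht)
  let x' : ↥(Subgroup.centralizer ({t} : Set H)) := ⟨x, Subgroup.mem_centralizer_singleton_iff.mpr hxt⟩
  let y' : ↥(Subgroup.centralizer ({t} : Set H)) := ⟨y, Subgroup.mem_centralizer_singleton_iff.mpr hyt⟩
  have hxN : x' ∈ N := hNx x' (by rw [Subgroup.orderOf_mk]; exact hx)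
  have h1 : x' * (y' * x'⁻¹ * y'⁻¹) ∈ N := mul_mem hxN (hN.conj_mem _ (inv_mem hxN) y')
  have h2 : x * (y * x⁻¹ * y⁻¹) ∈ Y := by
    have := mul_mem (Subgroup.Normal.conj_mem ‹Y.Normal› y hy x) (inv_mem hy)
    simpa [mul_assoc] using this
  have h3 : orderOf (x * (y * x⁻¹ * y⁻¹)) ∣ Nat.card ↥N := by
    have := Subgroup.orderOf_dvd_natCard N h1
    rwa [← Subgroup.orderOf_coe] at this
  haveI : Fact (Nat.Prime 2) := ⟨Nat.prime_two⟩
  obtain ⟨k, hk⟩ := IsPGroup.iff_card.mp hY2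
  have h4 : orderOf (x * (y * x⁻¹ * y⁻¹)) ∣ 2 ^ k := hk ▸ Subgroup.orderOf_dvd_natCard Y h2
  have h5 := orderOf_eq_one_iff.mp
    (Nat.eq_one_of_dvd_coprimes (Nat.Coprime.pow_left k (Nat.coprime_two_left.mpr hNodd)) h4 h3)
  calc x * y = x * (y * x⁻¹ * y⁻¹) * (y * x) := by group
    _ = y * x := by rw [h5, one_mul]

lemma involution_power {K : Type*} [Group K] [Finite K] {Y : Subgroup K} (hY2 : IsPGroup 2 ↥Y) (y : K)
    (hy : y ∈ Y) (hy1 : y ≠ 1) : ∃ t : K, orderOf t = 2 ∧ t ∈ Y ∧ t ∈ Subgroup.zpowers y := by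
  haveI : Fact (Nat.Prime 2) := ⟨Nat.prime_two⟩
  obtain ⟨i, hi⟩ := hY2 ⟨y, hy⟩
  obtain ⟨j, -, hj⟩ := (Nat.dvd_prime_pow Nat.prime_two).mp
    (orderOf_dvd_of_pow_eq_one (show y ^ 2 ^ i = 1 by simpa using congrArg Subtype.val hi))
  rcases j with - | j
  · exact absurd (orderOf_eq_one_iff.mp (by rw [hj, pow_zero])) hy1
  · refine ⟨y ^ 2 ^ j, ?_, pow_mem hy _, pow_mem (Subgroup.mem_zpowers y) _⟩
    refine orderOf_eq_prime ?_ ?_
    · rw [← pow_mul, ← pow_succ, ← hj, pow_orderOf_eq_one]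
    · intro h
      have := orderOf_dvd_of_pow_eq_one h
      rw [hj] at this
      exact absurd ((Nat.pow_dvd_pow_iff_le_right (by norm_num)).mp this) (by omega)

lemma fpf_odd (hI : ∀ t : H, orderOf t = 2 → Cfsg.HasNormalPComplement 2 ↥(Subgroup.centralizer ({t} : Set H)))
    {Y : Subgroup H} [Y.Normal] (hY2 : IsPGroup 2 ↥Y) (hCY : Subgroup.centralizer (Y : Set H) ≤ Y)
    (x : H) (hx : Odd (orderOf x)) (hx1 : x ≠ 1) (y : H) (hy : y ∈ Y) (hy1 : y ≠ 1) : x * y ≠ y * x := by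
  intro hxy
  haveI : Fact (Nat.Prime 2) := ⟨Nat.prime_two⟩
  obtain ⟨t, ht, htY, hty⟩ := involution_power hY2 y hy hy1
  have hxt : x * t = t * x := by
    obtain ⟨k, rfl⟩ := Subgroup.mem_zpowers_iff.mp hty
    exact ((show Commute x y from hxy).zpow_right k).eq
  have hT : IsPGroup 2 ↥(Subgroup.zpowers t) :=
    IsPGroup.of_card (n := 1) (by rw [Nat.card_zpowers, ht]; rfl)
  have h := CoprimeGen.le_centralizer_of_prod_action (p := 2) (A := Subgroup.zpowers x) (B := Subgroup.zpowers t) (P := Y)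
    hY2 hT
    (by rw [Nat.card_zpowers]; exact hx.not_two_dvd_nat)
    (by rw [Subgroup.normalizer_eq_top Y]; exact le_top)
    (by rw [Subgroup.normalizer_eq_top Y]; exact le_top)
    (by
      rw [Subgroup.zpowers_le, Subgroup.mem_centralizer_iff]
      intro b hb
      obtain ⟨k, rfl⟩ := Subgroup.mem_zpowers_iff.mp hb
      exact ((show Commute x t from hxt).zpow_right k).eq.symm)
    (by
      rintro v ⟨hv, hvt⟩
      have hvt' : v * t = t * v := (Subgroup.mem_centralizer_iff.mp hvt t (Subgroup.mem_zpowers t)).symm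
      have hc := commutes_in_centralizer hI hY2 t ht x v hx hxt hv hvt'
      rw [Subgroup.mem_centralizer_iff]
      intro a ha
      obtain ⟨k, rfl⟩ := Subgroup.mem_zpowers_iff.mp ha
      exact ((show Commute x v from hc).zpow_left k).eq)
  have hxY := hCY (h (Subgroup.mem_zpowers x))
  obtain ⟨i, hi⟩ := IsPGroup.iff_card.mp hY2
  exact hx1 (orderOf_eq_one_iff.mp (Nat.eq_one_of_dvd_coprimes
    (Nat.Coprime.pow_left i (Nat.coprime_two_left.mpr hx)) (hi ▸ Subgroup.orderOf_dvd_natCard Y hxY) dvd_rfl))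

lemma sylow_cyclic {Y : Subgroup H} [Y.Normal] (hCY : Subgroup.centralizer (Y : Set H) ≤ Y) (hY2 : IsPGroup 2 ↥Y)
    (fpf : ∀ x : H, Odd (orderOf x) → x ≠ 1 → ∀ y : H, y ∈ Y → y ≠ 1 → x * y ≠ y * x)
    {X : Subgroup H} (hXodd : Odd (Nat.card ↥X)) (p : ℕ) [hp : Fact p.Prime] (P : Sylow p ↥X) :
    IsCyclic ↥(P : Subgroup ↥X) := by
  haveI : Fact (Nat.Prime 2) := ⟨Nat.prime_two⟩
  obtain ⟨e, he⟩ := IsPGroup.iff_card.mp P.2
  rcases e with - | e
  · haveI : Subsingleton ↥(P : Subgroup ↥X) := (Nat.card_eq_one_iff_unique.mp (by rw [he, pow_zero])).1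
    exact isCyclic_of_subsingleton
  have hpodd : Odd p := by
    refine hXodd.of_dvd_nat ((dvd_pow_self p e.succ_ne_zero).trans ?_)
    rw [← he]; exact Subgroup.card_subgroup_dvd_card _
  suffices huniq : ∀ A B : Subgroup ↥(P : Subgroup ↥X), Nat.card ↥A = p → Nat.card ↥B = p → A = B by
    rcases PGroupsCyclic.isCyclic_or_quaternion P.2 huniq with h | ⟨h, -⟩
    · exact h
    · subst h; exact absurd hpodd (by decide)
  intro A B hA hB
  haveI : Nontrivial ↥(P : Subgroup ↥X) := by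
    rw [← Finite.one_lt_card_iff_nontrivial, he]; exact Nat.one_lt_pow e.succ_ne_zero hp.out.one_lt
  have key : ∀ A : Subgroup ↥(P : Subgroup ↥X), Nat.card ↥A = p → A ≤ Subgroup.center _ := by
    intro A hA
    haveI := P.2.center_nontrivial
    obtain ⟨z, hz1⟩ := exists_ne (1 : ↥(Subgroup.center ↥(P : Subgroup ↥X)))
    by_contra hAc
    obtain ⟨a, ha, hac⟩ := SetLike.not_le_iff_exists.mp hAc
    -- `⟨a, z⟩` is abelian and acts fixed point freely
    set zz : ↥(P : Subgroup ↥X) := z.1 with hzz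
    have hcaz : Commute a zz := Subgroup.mem_center_iff.mp z.2 a
    set L := Subgroup.closure ({a, zz} : Set ↥(P : Subgroup ↥X)) with hL
    haveI hLc : IsMulCommutative ↥L := by
      refine Subgroup.isMulCommutative_closure ?_
      rintro u (rfl | rfl) v (rfl | rfl)
      · rfl
      · exact hcaz.eq
      · exact hcaz.symm.eq
      · rfl
    apply hac
    by_cases hcyc : IsCyclic ↥L
    · -- in a cyclic group the subgroup of order `p` is unique
      obtain ⟨w, hw⟩ := exists_prime_orderOf_dvd_card' (G := ↥(Subgroup.center ↥(P : Subgroup ↥X))) p (by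
        obtain ⟨j, hj⟩ := IsPGroup.iff_card.mp (P.2.to_subgroup (Subgroup.center ↥(P : Subgroup ↥X)))
        rcases j with - | j
        · haveI : Subsingleton ↥(Subgroup.center ↥(P : Subgroup ↥X)) :=
            (Nat.card_eq_one_iff_unique.mp (by rw [hj, pow_zero])).1
          exact absurd (Subsingleton.elim _ _) hz1
        · rw [hj]; exact dvd_pow_self p j.succ_ne_zero)
      obtain ⟨i, hi⟩ := P.2 zz
      obtain ⟨j, -, hj⟩ := (Nat.dvd_prime_pow hp.out).mp (orderOf_dvd_of_pow_eq_one hi)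
      rcases j with - | j
      · rw [pow_zero, orderOf_eq_one_iff] at hj
        exact absurd (Subtype.ext hj) hz1
      have hzp : orderOf (zz ^ p ^ j) = p := by
        refine orderOf_eq_prime (by rw [← pow_mul, ← pow_succ, ← hj, pow_orderOf_eq_one]) ?_
        intro h
        have := orderOf_dvd_of_pow_eq_one h
        rw [hj] at this
        exact absurd ((Nat.pow_dvd_pow_iff_le_right hp.out.one_lt).mp this) (by omega)
      have e1 := PGroupsCyclic.eq_of_card_eq_of_isCyclic hcyc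
        (H := A ⊓ L) (K := Subgroup.zpowers (zz ^ p ^ j)) inf_le_right
        (Subgroup.zpowers_le.mpr (pow_mem (Subgroup.subset_closure (k := ({a, zz} : Set ↥(P : Subgroup ↥X))) (Or.inr rfl)) _)) (by
          rw [Nat.card_zpowers, hzp]
          have haL : a ∈ A ⊓ L := ⟨ha, Subgroup.subset_closure (k := ({a, zz} : Set ↥(P : Subgroup ↥X))) (Or.inl rfl)⟩
          rcases (Nat.dvd_prime hp.out).mp (hA ▸ Subgroup.card_dvd_of_le (inf_le_left : A ⊓ L ≤ A)) with h | h
          · rw [Subgroup.card_eq_one] at h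
            rw [h, Subgroup.mem_bot] at haL
            exact absurd (show a ∈ Subgroup.center _ by rw [haL]; exact one_mem _) hac
          · exact h)
      have : a ∈ Subgroup.zpowers (zz ^ p ^ j) := e1 ▸ ⟨ha, Subgroup.subset_closure (k := ({a, zz} : Set ↥(P : Subgroup ↥X))) (Or.inl rfl)⟩
      exact Subgroup.zpowers_le.mpr (pow_mem z.2 _) this
    · exfalso
      set ι := X.subtype.comp (P : Subgroup ↥X).subtype with hι
      have hιi : Function.Injective ι := X.subtype_injective.comp (P : Subgroup ↥X).subtype_injective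
      set L' := L.map ι with hL'
      haveI : IsMulCommutative ↥L' := ⟨⟨by
        rintro ⟨_, u, hu, rfl⟩ ⟨_, v, hv, rfl⟩
        have e : u * v = v * u := congrArg Subtype.val (hLc.1.1 ⟨u, hu⟩ ⟨v, hv⟩)
        refine Subtype.ext ?_
        show ι u * ι v = ι v * ι u
        rw [← map_mul, e, map_mul]⟩⟩
      have hL'c : ¬ IsCyclic ↥L' := fun h => hcyc
        (isCyclic_of_surjective _ (Subgroup.equivMapOfInjective L ι hιi).symm.surjective)
      obtain ⟨iy, hiy⟩ := IsPGroup.iff_card.mp hY2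
      obtain ⟨il, hil⟩ := IsPGroup.iff_card.mp ((P.2.to_subgroup L).map ι)
      have hle := CoprimeGen.le_of_centralizers (A := L') (K := Y) (H := ⊥) hL'c
        (by rw [Subgroup.normalizer_eq_top Y]; exact le_top)
        (by rw [hiy, hL', hil]
            exact Nat.Coprime.pow _ _ ((Nat.coprime_two_right).mpr hpodd))
        (by
          rintro u hu hu1 v ⟨hv, hvu⟩
          rw [Subgroup.mem_bot]
          by_contra hv1
          refine fpf u ?_ hu1 v hv hv1 (Subgroup.mem_centralizer_singleton_iff.mp hvu).symm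
          obtain ⟨u', -, rfl⟩ := hu
          exact hXodd.of_dvd_nat (Subgroup.orderOf_dvd_natCard X (u' : ↥X).2))
      have hY0 : Y = ⊥ := le_bot_iff.mp hle
      have htop : ι a ∈ Y := hCY (by
        rw [hY0, Subgroup.mem_centralizer_iff]
        intro v hv
        rw [Subgroup.coe_bot, Set.mem_singleton_iff] at hv
        subst hv; simp)
      rw [hY0, Subgroup.mem_bot] at htop
      exact hac ((hιi (htop.trans (map_one ι).symm)) ▸ one_mem _)
  -- two central subgroups of order `p`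
  by_contra hne
  have hAc := key A hA
  haveI : IsMulCommutative ↥(A ⊔ B : Subgroup ↥(P : Subgroup ↥X)) :=
    ⟨⟨fun u v => Subtype.ext ((Subgroup.mem_center_iff.mp (sup_le (key A hA) (key B hB) v.2)) u)⟩⟩
  set L := A ⊔ B with hL
  have hcyc : ¬ IsCyclic ↥L := fun h =>
    hne (PGroupsCyclic.eq_of_card_eq_of_isCyclic h le_sup_left le_sup_right (hA.trans hB.symm))
  set ι := X.subtype.comp (P : Subgroup ↥X).subtype with hι
  have hιi : Function.Injective ι := X.subtype_injective.comp (P : Subgroup ↥X).subtype_injective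
  set L' := L.map ι with hL'
  haveI : IsMulCommutative ↥L' := ⟨⟨by
    rintro ⟨_, u, hu, rfl⟩ ⟨_, v, hv, rfl⟩
    refine Subtype.ext ?_
    show ι u * ι v = ι v * ι u
    rw [← map_mul, (Subgroup.mem_center_iff.mp (sup_le (key A hA) (key B hB) hv)) u, map_mul]⟩⟩
  have hL'c : ¬ IsCyclic ↥L' := fun h => hcyc
    (isCyclic_of_surjective _ (Subgroup.equivMapOfInjective L ι hιi).symm.surjective)
  obtain ⟨iy, hiy⟩ := IsPGroup.iff_card.mp hY2
  obtain ⟨il, hil⟩ := IsPGroup.iff_card.mp ((P.2.to_subgroup L).map ι)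
  have hle := CoprimeGen.le_of_centralizers (A := L') (K := Y) (H := ⊥) hL'c
    (by rw [Subgroup.normalizer_eq_top Y]; exact le_top)
    (by rw [hiy, hL', hil]
        exact Nat.Coprime.pow _ _ ((Nat.coprime_two_right).mpr hpodd))
    (by
      rintro u hu hu1 v ⟨hv, hvu⟩
      rw [Subgroup.mem_bot]
      by_contra hv1
      refine fpf u ?_ hu1 v hv hv1 (Subgroup.mem_centralizer_singleton_iff.mp hvu).symm
      obtain ⟨u', -, rfl⟩ := hu
      exact hXodd.of_dvd_nat (Subgroup.orderOf_dvd_natCard X (u' : ↥X).2))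
  have hY0 : Y = ⊥ := le_bot_iff.mp hle
  apply hcyc
  have hall : ∀ u : ↥L, u = 1 := by
    intro u
    have htop : ι u ∈ Y := hCY (by
      rw [hY0, Subgroup.mem_centralizer_iff]
      intro v hv
      rw [Subgroup.coe_bot, Set.mem_singleton_iff] at hv
      subst hv; simp)
    rw [hY0, Subgroup.mem_bot] at htop
    exact Subtype.ext (hιi (htop.trans (map_one ι).symm))
  haveI : Subsingleton ↥L := ⟨fun u v => (hall u).trans (hall v).symm⟩
  exact isCyclic_of_subsingleton

lemma odd_fitting (Y : Subgroup H) [Y.Normal] (hY2 : IsPGroup 2 ↥Y)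
    (hYdef : Cfsg.pCore 2 H ≤ Y := by exact le_rfl) : Odd (Nat.card ↥(Cfsg.fittingSubgroup (H ⧸ Y))) := by
  haveI : Fact (Nat.Prime 2) := ⟨Nat.prime_two⟩
  set F := Cfsg.fittingSubgroup (H ⧸ Y)
  haveI : Group.IsNilpotent ↥F := ComponentsFitting.fittingSubgroup_isNilpotent
  haveI hFn : F.Normal := Subgroup.sSup_normal _ (fun _ h => h.1)
  rw [← Nat.not_even_iff_odd, even_iff_two_dvd]
  intro h2
  obtain ⟨S⟩ := (inferInstance : Nonempty (Sylow 2 ↥F))
  haveI : (S : Subgroup ↥F).Normal := inferInstance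
  haveI : (S : Subgroup ↥F).Characteristic := S.characteristic_of_normal inferInstance
  haveI hSn : ((S : Subgroup ↥F).map F.subtype).Normal := inferInstance
  have hle : ((S : Subgroup ↥F).map F.subtype).comap (QuotientGroup.mk' Y) ≤ Y := by
    refine le_trans ?_ hYdef
    refine le_sSup ⟨hSn.comap _, ?_⟩
    refine IsPGroup.comap_of_ker_isPGroup (S.2.map F.subtype) _ ?_
    rw [QuotientGroup.ker_mk']; exact hY2
  have hbot : (S : Subgroup ↥F).map F.subtype = ⊥ := by
    rw [← Subgroup.map_comap_eq_self_of_surjective (QuotientGroup.mk'_surjective Y) ((S : Subgroup ↥F).map F.subtype),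
      Subgroup.map_eq_bot_iff, QuotientGroup.ker_mk']
    exact hle
  have : (S : Subgroup ↥F) = ⊥ := (Subgroup.map_eq_bot_iff_of_injective _ F.subtype_injective).mp hbot
  exact S.ne_bot_of_dvd_card h2 this

lemma no_four_group (hI : ∀ t : H, orderOf t = 2 → Cfsg.HasNormalPComplement 2 ↥(Subgroup.centralizer ({t} : Set H)))
    {Y : Subgroup H} [Y.Normal] (hY2 : IsPGroup 2 ↥Y) (hCY : Subgroup.centralizer (Y : Set H) ≤ Y)
    (fpf : ∀ x : H, Odd (orderOf x) → x ≠ 1 → ∀ y : H, y ∈ Y → y ≠ 1 → x * y ≠ y * x)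
    (F : Subgroup (H ⧸ Y)) [hFn : F.Normal] (hFc : IsCyclic ↥F) (hFodd : Odd (Nat.card ↥F))
    (hCF : Subgroup.centralizer (F : Set (H ⧸ Y)) ≤ F)
    (s t : H ⧸ Y) (hst' : s * t = t * s) (hs : s ≠ 1) (hst : s * t ≠ 1) (hs2 : s * s = 1) (ht2 : t * t = 1) (ht : t ≠ 1) : False := by
  haveI : Fact (Nat.Prime 2) := ⟨Nat.prime_two⟩
  -- the Fitting subgroup is nontrivial
  have hF1 : Nat.card ↥F ≠ 1 := by
    intro h
    rw [Subgroup.card_eq_one] at h
    have : t ∈ F := hCF (by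
      rw [h, Subgroup.mem_centralizer_iff]
      intro v hv
      rw [Subgroup.coe_bot, Set.mem_singleton_iff] at hv
      subst hv; simp)
    rw [h, Subgroup.mem_bot] at this
    exact ht this
  obtain ⟨p, hp, hpd⟩ := Nat.exists_prime_and_dvd hF1
  haveI := Fact.mk hp
  obtain ⟨f', hf'⟩ := exists_prime_orderOf_dvd_card' (G := ↥F) p hpd
  set f := (f' : H ⧸ Y) with hfdef
  have hf : orderOf f = p := (Subgroup.orderOf_coe f').trans hf'
  have hpodd : Odd p := hFodd.of_dvd_nat hpd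
  -- involutions act as ±1 on f
  have key : ∀ u : H ⧸ Y, u * u = 1 → u * f * u = f ∨ u * f * u = f⁻¹ := by
    intro u hu
    have hui : u⁻¹ = u := inv_eq_of_mul_eq_one_right hu
    have hconj : u * f * u ∈ F := by
      have h := hFn.conj_mem f f'.2 u
      rwa [hui] at h
    have ho : orderOf (u * f * u) = p := by
      have e : u * f * u = MulAut.conj u f := by rw [MulAut.conj_apply, hui]
      rw [e, MulEquiv.orderOf_eq, hf]
    have e1 := PGroupsCyclic.eq_of_card_eq_of_isCyclic hFc (H := Subgroup.zpowers (u * f * u))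
      (K := Subgroup.zpowers f) (Subgroup.zpowers_le.mpr hconj) (Subgroup.zpowers_le.mpr f'.2)
      (by rw [Nat.card_zpowers, Nat.card_zpowers, ho, hf])
    obtain ⟨r, hr⟩ := Subgroup.mem_zpowers_iff.mp (e1 ▸ Subgroup.mem_zpowers (u * f * u) : u * f * u ∈ Subgroup.zpowers f)
    have hrr : f ^ (r * r) = f ^ (1 : ℤ) := by
      rw [zpow_mul, hr]
      have h : MulAut.conj u (f ^ r) = (u * f * u) ^ r := by
        rw [map_zpow, MulAut.conj_apply, hui]
      rw [hr, MulAut.conj_apply, hui] at h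
      rw [← h, zpow_one]
      calc u * (u * f * u) * u = (u * u) * f * (u * u) := by group
        _ = f := by rw [hu, one_mul, mul_one]
    rw [zpow_eq_zpow_iff_modEq, hf, Int.modEq_iff_dvd] at hrr
    have h2 : (p : ℤ) ∣ (1 - r) * (1 + r) := by
      have : (1 : ℤ) - r * r = (1 - r) * (1 + r) := by ring
      rwa [this] at hrr
    rcases (Nat.prime_iff_prime_int.mp hp).dvd_mul.mp h2 with h | h
    · left
      rw [← hr]
      conv_rhs => rw [← zpow_one f]
      rw [zpow_eq_zpow_iff_modEq, hf, Int.modEq_iff_dvd]; exact h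
    · right
      rw [← hr, ← zpow_neg_one, zpow_eq_zpow_iff_modEq, hf, Int.modEq_iff_dvd]
      have : (-1 : ℤ) - r = -(1 + r) := by ring
      rw [this]; exact dvd_neg.mpr h
  have hgen : ∀ u : H ⧸ Y, u * u = 1 → u * f * u = f → u * f = f * u := fun u hu h => by
    calc u * f = u * f * (u * u) := by rw [hu, mul_one]
      _ = f * u := by rw [← mul_assoc, h]
  obtain ⟨u, hu1, hu2, huf⟩ : ∃ u : H ⧸ Y, u ≠ 1 ∧ IsPGroup 2 ↥(Subgroup.zpowers u) ∧ u * f = f * u := by
    have two : ∀ u : H ⧸ Y, u ^ 2 = 1 → IsPGroup 2 ↥(Subgroup.zpowers u) := by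
      intro u hu
      obtain ⟨j, -, hj⟩ := (Nat.dvd_prime_pow Nat.prime_two).mp
        (show orderOf u ∣ 2 ^ 1 by rw [pow_one]; exact orderOf_dvd_of_pow_eq_one hu)
      exact IsPGroup.of_card (n := j) (by rw [Nat.card_zpowers, hj])
    rcases key s hs2 with h | h
    · exact ⟨s, hs, two s (by rw [pow_two]; exact hs2), hgen s hs2 h⟩
    rcases key t ht2 with h' | h'
    · exact ⟨t, ht, two t (by rw [pow_two]; exact ht2), hgen t ht2 h'⟩
    refine ⟨s * t, hst, ?_, ?_⟩
    · refine two (s * t) ?_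
      rw [(show Commute s t from hst').mul_pow, pow_two, pow_two, hs2, ht2, mul_one]
    · have h1 : t * f = f⁻¹ * t := by
        calc t * f = t * f * (t * t) := by rw [ht2, mul_one]
          _ = f⁻¹ * t := by rw [← mul_assoc, h']
      have h2 : s * f⁻¹ = f * s := by
        have h3 : s * f⁻¹ * s = f := by
          have := congrArg (·⁻¹) h
          simpa [mul_assoc, inv_eq_of_mul_eq_one_right hs2] using this
        calc s * f⁻¹ = s * f⁻¹ * (s * s) := by rw [hs2, mul_one]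
          _ = f * s := by rw [← mul_assoc, h3]
      rw [mul_assoc, h1, ← mul_assoc, h2, mul_assoc]
  -- lift `f` to an odd element
  obtain ⟨g, hg⟩ := QuotientGroup.mk'_surjective Y f
  obtain ⟨a, m, hm, hgm⟩ : ∃ a m : ℕ, ¬ 2 ∣ m ∧ orderOf g = 2 ^ a * m :=
    Nat.exists_eq_pow_mul_and_not_dvd (orderOf_pos g).ne' 2 (by norm_num)
  set x := g ^ 2 ^ a with hxdef
  have hxo : Odd (orderOf x) := by
    rw [hxdef, orderOf_pow' _ (by positivity), hgm, Nat.gcd_mul_right_left, Nat.mul_div_cancel_left _ (by positivity)]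
    exact Nat.odd_iff.mpr (by omega)
  have hπx : QuotientGroup.mk' Y x = f ^ 2 ^ a := by rw [hxdef, map_pow, hg]
  have hx1 : x ≠ 1 := by
    intro h
    rw [h, map_one] at hπx
    have := orderOf_dvd_of_pow_eq_one hπx.symm
    rw [hf] at this
    have h2 := (Nat.prime_dvd_prime_iff_eq hp Nat.prime_two).mp (hp.dvd_of_dvd_pow this)
    subst h2
    exact absurd hpodd (by decide)
  -- a fixed point of `x` in the coset of `u`
  obtain ⟨k, hk⟩ := QuotientGroup.mk'_surjective Y u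
  obtain ⟨c, hxc, hck⟩ := CoprimeAction.exists_fixed_mem_coset_zpowers (a := x) (D := Y)
    (by rw [Subgroup.normalizer_eq_top Y]; trivial)
    (by obtain ⟨i, hi⟩ := IsPGroup.iff_card.mp hY2
        rw [hi]; exact Nat.Coprime.pow_right _ ((Nat.coprime_two_right).mpr hxo))
    k (by
      rw [← QuotientGroup.eq_one_iff, ← QuotientGroup.mk'_apply, map_mul, map_mul, map_mul, map_inv, map_inv, hk, hπx]
      have hc : Commute u (f ^ 2 ^ a) := (show Commute u f from huf).pow_right _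
      rw [mul_assoc u⁻¹, ← hc.eq]; group)
  have hcu : QuotientGroup.mk' Y c = u := by
    rw [← hk]
    exact ((QuotientGroup.eq).mpr hck).symm
  have hc1 : c ≠ 1 := fun h => hu1 (by rw [← hcu, h, map_one])
  set C := (Subgroup.zpowers u).comap (QuotientGroup.mk' Y) with hC
  have hC2 : IsPGroup 2 ↥C := IsPGroup.comap_of_ker_isPGroup hu2 _ (by rw [QuotientGroup.ker_mk']; exact hY2)
  obtain ⟨w, hw, hwC, hwc⟩ := involution_power hC2 c (by rw [hC, Subgroup.mem_comap, hcu]; exact Subgroup.mem_zpowers u) hc1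
  have hxw : x * w = w * x := by
    obtain ⟨i, rfl⟩ := Subgroup.mem_zpowers_iff.mp hwc
    exact ((show Commute x c from hxc).zpow_right i).eq
  have hw1 : w ≠ 1 := fun h => by rw [h, orderOf_one] at hw; norm_num at hw
  by_cases hwY : w ∈ Y
  · exact fpf x hxo hx1 w hwY hw1 hxw
  -- the 2-group `⟨w⟩` has a nontrivial fixed point on `Y`
  have hYne : Nat.card ↥Y ≠ 1 := by
    intro h
    rw [Subgroup.card_eq_one] at h
    have := hCY (show w ∈ Subgroup.centralizer (Y : Set H) by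
      rw [h, Subgroup.mem_centralizer_iff]
      intro v hv
      rw [Subgroup.coe_bot, Set.mem_singleton_iff] at hv
      subst hv; simp)
    exact hwY this
  have hw2 : w * w = 1 := by have := pow_orderOf_eq_one w; rwa [hw, pow_two] at this
  have hcard : 2 ∣ Nat.card ↥Y := by
    obtain ⟨i, hi⟩ := IsPGroup.iff_card.mp hY2
    rcases i with - | i
    · exact absurd hi hYne
    · rw [hi]; exact dvd_pow_self 2 i.succ_ne_zero
  let W : Subgroup (ConjAct H) := Subgroup.zpowers (ConjAct.toConjAct w)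
  have hW : IsPGroup 2 ↥W := by
    refine IsPGroup.of_card (n := 1) ?_
    rw [Nat.card_zpowers, MulEquiv.orderOf_eq]; simpa using hw
  have h1fix : (1 : ↥Y) ∈ MulAction.fixedPoints ↥W ↥Y := fun g => smul_one (g : ConjAct H)
  obtain ⟨y, hy, hy1⟩ := hW.exists_fixed_point_of_prime_dvd_card_of_fixed_point ↥Y hcard h1fix
  have hyw : (y : H) * w = w * y := by
    have h := congrArg Subtype.val (hy ⟨_, Subgroup.mem_zpowers (ConjAct.toConjAct w)⟩)
    have h' : w * (y : H) * w⁻¹ = y := h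
    exact (mul_inv_eq_iff_eq_mul.mp h').symm
  exact fpf x hxo hx1 y y.2 (fun h => hy1 (Subtype.ext h).symm)
    (commutes_in_centralizer hI hY2 w hw x y hxo hxw y.2 hyw)


/-- Let H be a finite solvable group with no nontrivial normal subgroup of odd order in which the centralizer of every involution has a normal 2-complement. Let X be a Hall 2'-subgroup of H (odd order, index a power of 2) and Y = O₂(H). Then no non-identity element of X commutes with a non-identity element of Y (so for X ≠ 1 the group XY is a Frobenius group with kernel Y), every Sylow subgroup of X is cyclic, XY is normal in H, and H/XY is a cyclic 2-group. -/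
theorem result {H : Type*} [Group H] [Finite H] (hsol : Group.IsSolvable H)
    (hO : Cfsg.oddCore H = ⊥)
    (hI : ∀ t : H, orderOf t = 2 → Cfsg.HasNormalPComplement 2 ↥(Subgroup.centralizer ({t} : Set H)))
    (X : Subgroup H) (hXodd : Odd (Nat.card X)) (hXidx : ∃ k : ℕ, X.index = 2 ^ k) :
    (∀ x ∈ X, x ≠ 1 → ∀ y ∈ Cfsg.pCore 2 H, y ≠ 1 → x * y ≠ y * x) ∧
      (∀ (p : ℕ) [Fact p.Prime] (P : Sylow p ↥X), IsCyclic ↥(P : Subgroup ↥X)) ∧
      (X ⊔ Cfsg.pCore 2 H).Normal ∧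
      ∀ hN : (X ⊔ Cfsg.pCore 2 H).Normal, IsCyclic (H ⧸ (X ⊔ Cfsg.pCore 2 H)) ∧ IsPGroup 2 (H ⧸ (X ⊔ Cfsg.pCore 2 H)) := by
  classical
  haveI : Fact (Nat.Prime 2) := ⟨Nat.prime_two⟩
  set Y := Cfsg.pCore 2 H with hYdef
  haveI hYn : Y.Normal := HallCore.pCore_normal 2 H
  have hY2 : IsPGroup 2 ↥Y := HallCore.isPGroup_pCore 2 H
  have hCY : Subgroup.centralizer (Y : Set H) ≤ Y :=
    HallSolvable.centralizer_pCore_le (HallSolvable.isPSolvable_of_solvable 2) hO
  have fpf := fpf_odd hI hY2 hCY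
  obtain ⟨k, hk⟩ := hXidx
  have hXo : ∀ x ∈ X, Odd (orderOf x) := fun x hx =>
    hXodd.of_dvd_nat (Subgroup.orderOf_dvd_natCard X hx)
  have part1 : ∀ x ∈ X, x ≠ 1 → ∀ y ∈ Y, y ≠ 1 → x * y ≠ y * x :=
    fun x hx hx1 y hy hy1 => fpf x (hXo x hx) hx1 y hy hy1
  have part2 : ∀ (p : ℕ) [Fact p.Prime] (P : Sylow p ↥X), IsCyclic ↥(P : Subgroup ↥X) := by
    intro p hp P
    exact sylow_cyclic hCY hY2 fpf hXodd p P
  refine ⟨part1, part2, ?_⟩
  haveI hXZ : IsZGroup ↥X := ⟨fun p hp P => by haveI := Fact.mk hp; exact part2 p P⟩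
  set π := QuotientGroup.mk' Y with hπ
  set Xb := X.map π with hXb
  haveI : IsZGroup ↥Xb := IsZGroup.of_surjective (f := π.subgroupMap X) (π.subgroupMap_surjective X)
  have hXbodd : Odd (Nat.card ↥Xb) := hXodd.of_dvd_nat (Subgroup.card_map_dvd X π)
  obtain ⟨l, -, hl⟩ := (Nat.dvd_prime_pow Nat.prime_two).mp
    (hk ▸ Subgroup.index_map_dvd X (QuotientGroup.mk'_surjective Y))
  set F := Cfsg.fittingSubgroup (H ⧸ Y) with hF
  haveI hFn : F.Normal := Subgroup.sSup_normal _ (fun _ h => h.1)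
  haveI : Group.IsNilpotent ↥F := ComponentsFitting.fittingSubgroup_isNilpotent
  haveI : Group.IsSolvable (H ⧸ Y) := by haveI := hsol; infer_instance
  have hFodd : Odd (Nat.card ↥F) := odd_fitting Y hY2
  have hFX : F ≤ Xb := normal_odd_le F Xb hFodd hl
  haveI : IsZGroup ↥F := IsZGroup.of_injective (Subgroup.inclusion_injective hFX)
  have hFcyc : IsCyclic ↥F := inferInstance
  have hcomm : ∀ a b : H ⧸ Y, a * b * a⁻¹ * b⁻¹ ∈ F := by
    intro a b
    exact HallSolvable.centralizer_fitting_le (comm_mem_centralizer F a b)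
  have hXbn : Xb.Normal := ⟨fun x hx g => by
    have := Xb.mul_mem (hFX (hcomm g x)) hx
    simpa [mul_assoc] using this⟩
  have hXY : (X ⊔ Y).Normal := by
    have e : Xb.comap π = X ⊔ Y := by rw [hXb, hπ, Subgroup.comap_map_eq, QuotientGroup.ker_mk']
    rw [← e]; exact hXbn.comap π
  refine ⟨hXY, fun hN => ?_⟩
  haveI := hN
  have hp : IsPGroup 2 (H ⧸ (X ⊔ Y)) := by
    obtain ⟨m, -, hm⟩ := (Nat.dvd_prime_pow Nat.prime_two).mp
      (hk ▸ Subgroup.index_dvd_of_le (le_sup_left : X ≤ X ⊔ Y))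
    exact IsPGroup.of_card (n := m) hm
  refine ⟨?_, hp⟩
  -- a Sylow 2-subgroup of `H/Y` is cyclic
  obtain ⟨T⟩ := (inferInstance : Nonempty (Sylow 2 (H ⧸ Y)))
  have hTF : ∀ a ∈ (T : Subgroup (H ⧸ Y)), a ∈ F → a = 1 := by
    intro a haT haF
    obtain ⟨i, hi⟩ := T.2 ⟨a, haT⟩
    have h1 : orderOf a ∣ 2 ^ i := orderOf_dvd_of_pow_eq_one (by simpa using congrArg Subtype.val hi)
    have h2 : orderOf a ∣ Nat.card ↥F := Subgroup.orderOf_dvd_natCard F haF
    exact orderOf_eq_one_iff.mp (Nat.eq_one_of_dvd_coprimes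
      (Nat.Coprime.pow_left i (Nat.coprime_two_left.mpr hFodd)) h1 h2)
  have hTc : ∀ a b : ↥(T : Subgroup (H ⧸ Y)), a * b = b * a := by
    intro a b
    have h := hTF _ (mul_mem (mul_mem (mul_mem a.2 b.2) (inv_mem a.2)) (inv_mem b.2)) (hcomm a.1 b.1)
    exact Subtype.ext (mul_inv_eq_iff_eq_mul.mp (mul_inv_eq_one.mp h))
  have hTcyc : IsCyclic ↥(T : Subgroup (H ⧸ Y)) := by
    by_cases hex : ∃ z : ↥(T : Subgroup (H ⧸ Y)), orderOf z = 2
    · obtain ⟨z, hz⟩ := hex
      refine PGroupsCyclic.isCyclic_of_comm (p := 2) T.2 hTc (z := z) ?_ hz.le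
      intro g hg
      by_contra hgz
      have hz2 : z * z = 1 := by have := pow_orderOf_eq_one z; rwa [hz, pow_two] at this
      have hg2 : g * g = 1 := by rwa [pow_two] at hg
      have hgne : g ≠ 1 := fun h => hgz (h ▸ one_mem _)
      have hgzne : g * z ≠ 1 := fun h => hgz (by rw [eq_inv_of_mul_eq_one_left h]; exact inv_mem (Subgroup.mem_zpowers z))
      exact no_four_group hI hY2 hCY fpf F hFcyc hFodd HallSolvable.centralizer_fitting_le
        (g : H ⧸ Y) (z : H ⧸ Y) (congrArg Subtype.val (hTc g z)) (fun h => hgne (Subtype.ext h))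
        (fun h => hgzne (Subtype.ext h)) (congrArg Subtype.val hg2) (congrArg Subtype.val hz2)
        (fun h => by have e : z = 1 := Subtype.ext h; rw [e, orderOf_one] at hz; norm_num at hz)
    · push Not at hex
      obtain ⟨e, he⟩ := IsPGroup.iff_card.mp T.2
      rcases e with - | e
      · haveI : Subsingleton ↥(T : Subgroup (H ⧸ Y)) := (Nat.card_eq_one_iff_unique.mp (by rw [he, pow_zero])).1
        exact isCyclic_of_subsingleton
      · obtain ⟨z, hz⟩ := exists_prime_orderOf_dvd_card' (G := ↥(T : Subgroup (H ⧸ Y))) 2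
          (by rw [he]; exact dvd_pow_self 2 e.succ_ne_zero)
        exact absurd hz (hex z)
  have hle : Y ≤ X ⊔ Y := le_sup_right
  let q : H ⧸ Y →* H ⧸ (X ⊔ Y) := QuotientGroup.map Y (X ⊔ Y) (MonoidHom.id H) hle
  have hq : Function.Surjective q := by
    intro z
    obtain ⟨h, rfl⟩ := QuotientGroup.mk_surjective z
    exact ⟨QuotientGroup.mk h, rfl⟩
  refine isCyclic_of_surjective (q.comp (T : Subgroup (H ⧸ Y)).subtype) ?_
  rw [← MonoidHom.range_eq_top, MonoidHom.range_eq_map, ← Subgroup.map_map, ← MonoidHom.range_eq_map,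
    Subgroup.range_subtype]
  obtain ⟨P, hP⟩ : ∃ P : Sylow 2 (H ⧸ (X ⊔ Y)), (P : Subgroup _) = (T : Subgroup (H ⧸ Y)).map q :=
    ⟨T.mapSurjective hq, rfl⟩
  rw [← hP]
  exact (IsPGroup.toSylow' hp P)

end Cfsg.Agent.S3215
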