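import Cfsg.Statements.S3216
import Cfsg.Agent.Lib.JTSmallEnd62
import Cfsg.Agent.Lib.JTElemFull62
import Cfsg.Agent.Lib.JTDihReduce62
import Cfsg.Agent.Lib.JTEndElem62
import Cfsg.Agent.Lib.JTEndDih62

set_option autoImplicit false
open Cfsg

namespace Cfsg.Agent.S3216

/-- Let G be a finite non-abelian simple group and t an involution of G; write C = C_G(t) and C̄ = C/O(C). If the subgroup of C̄ generated by its 2-elements (the smallest normal subgroup of C̄ of odd index) is isomorphic to Z₂ × PSL₂(q) for some prime power q > 3, then the Sylow 2-subgroups of G are elementary abelian of order 8. -/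
theorem result {G : Type*} [Group G] [Finite G] [IsSimpleGroup G]
    (hG : ¬ IsMulCommutative G) (t : G) (ht : orderOf t = 2) {F : Type*} [Field F] [Fintype F] (hF : 3 < Fintype.card F)
    (hL : Nonempty (↥(Subgroup.closure {x : (↥(Subgroup.centralizer ({t} : Set G)) ⧸ Cfsg.oddCore ↥(Subgroup.centralizer ({t} : Set G))) | ∃ k : ℕ, orderOf x = 2 ^ k}) ≃*
      (Multiplicative (ZMod 2) × Matrix.ProjectiveSpecialLinearGroup (Fin 2) F))) (S : Sylow 2 G) :
    Nat.card ↥(S : Subgroup G) = 8 ∧ ∀ x ∈ (S : Subgroup G), x ^ 2 = 1 := by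
  classical
  haveI : Fact (Nat.Prime 2) := ⟨Nat.prime_two⟩
  have hyp := JTSetup62.locHyp t ht hF hL
  obtain ⟨T₀⟩ : Nonempty (Sylow 2 ↥(Subgroup.centralizer ({t} : Set G))) := Sylow.nonempty
  set T := (T₀ : Subgroup ↥(Subgroup.centralizer ({t} : Set G))).map
    (Subgroup.centralizer ({t} : Set G)).subtype with hTdef
  have hTp : IsPGroup 2 T := T₀.isPGroup'.map _
  have hTc : ∀ x ∈ T, x * t = t * x := fun x hx =>
    Subgroup.mem_centralizer_singleton_iff.mp (Subgroup.map_subtype_le _ hx)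
  have hmax : ∀ P : Subgroup G, IsPGroup 2 P → (∀ x ∈ P, x * t = t * x) → T ≤ P → P = T := by
    intro P hP hPc hle
    have hPC : P ≤ Subgroup.centralizer ({t} : Set G) := fun x hx =>
      Subgroup.mem_centralizer_singleton_iff.mpr (hPc x hx)
    have h1 := T₀.is_maximal' (hP.of_equiv (Subgroup.subgroupOfEquivOfLe hPC).symm)
      (fun x hx => hle ⟨x, hx, rfl⟩)
    refine le_antisymm (fun x hx => ⟨⟨x, hPC hx⟩, ?_, rfl⟩) hle
    rw [SetLike.mem_coe, ← h1]; exact hx
  obtain ⟨D, hl⟩ := hyp T hTp hTc hmax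
  obtain ⟨S', hTS⟩ := hTp.exists_le_sylow
  suffices h : Nat.card ↥(S' : Subgroup G) = 8 ∧ ∀ x ∈ (S' : Subgroup G), x ^ 2 = 1 by
    obtain ⟨g, hg⟩ := MulAction.exists_smul_eq G S S'
    refine ⟨?_, fun x hx => ?_⟩
    · rw [← h.1, Sylow.card_eq_multiplicity, Sylow.card_eq_multiplicity]
    · have h1 : g * x * g⁻¹ ∈ (S' : Subgroup G) := by
        rw [← hg, Sylow.coe_subgroup_smul]
        exact ⟨x, hx, rfl⟩
      have h2 := h.2 _ h1
      rwa [conj_pow, conj_eq_one_iff] at h2
  have hcen : ∀ s ∈ (S' : Subgroup G), s * t = t * s → s ∈ T := by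
    intro s hs hst
    have h1 := hmax ((S' : Subgroup G) ⊓ Subgroup.centralizer ({t} : Set G))
      (S'.isPGroup'.to_le inf_le_left)
      (fun x hx => Subgroup.mem_centralizer_singleton_iff.mp hx.2)
      (fun x hx => ⟨hTS hx, Subgroup.mem_centralizer_singleton_iff.mpr (hTc x hx)⟩)
    rw [← h1]
    exact ⟨hs, Subgroup.mem_centralizer_singleton_iff.mpr hst⟩
  have hle := Subgroup.card_le_of_le hTS
  rcases hl.shape with ⟨n, c, he⟩ | ⟨k, c, b, hd⟩
  · rcases Nat.lt_or_ge (Nat.card T) (Nat.card ↥(S' : Subgroup G)) with hlt | hge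
    · exact (JTEndElem62.elem_big hG hl he S' hTS hlt).elim
    · have hTeq : T = (S' : Subgroup G) := Subgroup.eq_of_le_of_card_ge hTS hge
      have hn := JTElemFull62.elem_full hG hl he S' hTeq
      refine ⟨?_, fun x hx => ?_⟩
      · rw [← hTeq, JTDihedral62.card_T hl, he.card_eq, hn]; norm_num
      · rw [← hTeq] at hx
        rw [sq]
        rcases hl.cover x hx with h | h
        · exact he.sq x h
        · have h1 := he.sq _ h
          rwa [mul_assoc t x (t * x), ← mul_assoc x t x, hl.comm x hx, mul_assoc t x x,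
            ← mul_assoc t t (x * x), JTDihedral62.tt hl, one_mul] at h1
  · exfalso
    have hdh : JTDihedral62.DH t T D k c b := ⟨hl, hd⟩
    obtain ⟨i, hi⟩ := IsPGroup.iff_card.mp S'.isPGroup'
    have hT := JTDihedral62.card_T' hdh
    rw [hT, hi] at hle
    have hki := (Nat.pow_le_pow_iff_right (show 1 < 2 by norm_num)).mp hle
    rcases (show i = k + 2 ∨ i = k + 3 ∨ k + 4 ≤ i by omega) with e | e | e
    · exact JTSmall62.dih_full hG hdh S' (Subgroup.eq_of_le_of_card_ge hTS (by rw [hi, hT, e]))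
    · exact JTSmallEnd62.dih_small hG hyp (S := S')
        ⟨hdh, hTS, by rw [hi, hT, e]; ring, hcen⟩
    · have hbig : 4 * Nat.card T ≤ Nat.card ↥(S' : Subgroup G) := by
        rw [hT, hi, show 4 * 2 ^ (k + 2) = 2 ^ (k + 4) by ring]
        exact Nat.pow_le_pow_right (by norm_num) e
      obtain ⟨t', T', D', c', b', -, hd', hTS', hn⟩ :=
        JTDihReduce62.dih_reduce hG hyp hdh S' hTS hbig
      refine JTEndDih62.four_normal hG hd' S' hTS' ?_ hn
      rw [JTDihedral62.card_T' hd', hi]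
      calc 4 * 2 ^ (2 + 2) = 2 ^ 6 := by norm_num
        _ ≤ 2 ^ i := Nat.pow_le_pow_right (by norm_num) (by have := hd.two_le; omega)

end Cfsg.Agent.S3216
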