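import Cfsg.Statements.S3219
import Cfsg.Agent.Lib.TwoPointA4Iso15
import Cfsg.Agent.Lib.TwoPointA4OddMain15
import Cfsg.Agent.Lib.TwoPointA4Even15

set_option autoImplicit false
open Cfsg

namespace Cfsg.Agent.S3219

/-- Let G be a finite doubly transitive permutation group on a set Ω in which the stabilizer of two points is isomorphic to the alternating group A₄. Then Ω has 6 points and G ≅ A₆, or Ω has 15 points and G ≅ A₇, or Ω has 16 points and G is isomorphic to the group of all affine transformations of the affine plane over the field with 4 elements, or G = C_G(J)O(G) for some involution J of G, where O(G) is the largest normal subgroup of G of odd order. -/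
theorem result {G : Type*} [Group G] [Finite G] {Ω : Type*} [Fintype Ω] [MulAction G Ω] [FaithfulSMul G Ω]
    (h2 : MulAction.IsMultiplyPretransitive G Ω 2) (a b : Ω) (hab : a ≠ b)
    (e : ↥(MulAction.stabilizer G a ⊓ MulAction.stabilizer G b) ≃* ↥(alternatingGroup (Fin 4))) :
    (Fintype.card Ω = 6 ∧ Nonempty (G ≃* ↥(alternatingGroup (Fin 6)))) ∨ (Fintype.card Ω = 15 ∧ Nonempty (G ≃* ↥(alternatingGroup (Fin 7)))) ∨
      (Fintype.card Ω = 16 ∧ ∃ (F : Type) (_ : Field F) (_ : Fintype F), Fintype.card F = 4 ∧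
        Nonempty (G ≃* ((Fin 2 → F) ≃ᵃ[F] (Fin 2 → F)))) ∨
      (∃ J : G, orderOf J = 2 ∧ Subgroup.centralizer ({J} : Set G) ⊔ Cfsg.oddCore G = ⊤) := by
  classical
  haveI := Fintype.ofFinite G
  rcases Nat.even_or_odd (Fintype.card Ω) with heven | hodd
  · rcases TwoPointA4Even15.even_case h2 hab e heven with h | h
    · exact Or.inl h
    · exact Or.inr (Or.inr (Or.inl h))
  by_cases hex : ∃ (j : G) (p : Ω), j * j = 1 ∧ j ≠ 1 ∧ j • p = p ∧ TwoPointA4Count15.fx Ω j = 1
  · obtain ⟨j, p, hj, hj1, hjp, hjf⟩ := hex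
    have hiso := TwoPointA4Iso15.exists_isolated (TwoPointA4Ctx15.setup_of h2 hab e) hodd hj hj1 hjp hjf
    exact Or.inr (Or.inr (Or.inr ⟨j, hiso.1, TwoPointA4Iso15.concl_of_isolated hiso⟩))
  refine Or.inr (Or.inl (TwoPointA4OddMain15.odd_case h2 hab e hodd fun g hg hg1 hf => ?_))
  obtain ⟨p, hp⟩ : ∃ p : Ω, g • p = p := by
    rw [TwoPointA4Count15.fx, eq_comm, Finset.card_eq_one] at hf
    obtain ⟨p, hp⟩ := hf
    have h' := Finset.mem_singleton_self p
    rw [← hp, Finset.mem_filter] at h'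
    exact ⟨p, h'.2⟩
  exact hex ⟨g, p, hg, hg1, hp, hf.symm⟩

end Cfsg.Agent.S3219
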