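import Cfsg.Statements.S3222
import Mathlib
import Cfsg.Agent.Lib.S6Char62


set_option autoImplicit false
open Cfsg

namespace Cfsg.Agent.S3222

open Cfsg.Agent.S6Model62 Cfsg.Agent.S6Char62
open Equiv (Perm)

variable {G : Type*} [Group G] [Finite G] {ι : H0 →* G}

lemma exists_index_two (h : Dat ι) (hs : ∀ g : G, g * ι s0 * g⁻¹ ≠ ι t0) :
    ∃ N : Subgroup G, N.Normal ∧ N.index = 2 ∧ ι t0 ∉ N := by
  obtain ⟨ht2, ht1, hz2, hz1, htz, -⟩ := t0_facts
  let C : Subgroup H0 := Subgroup.centralizer {z0}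
  have hC16 : Nat.card C = 16 := by
    rw [← card_centralizer]
    exact Nat.card_congr (Equiv.subtypeEquivRight fun b => Subgroup.mem_centralizer_singleton_iff)
  haveI : Fact (Nat.Prime 2) := ⟨Nat.prime_two⟩
  have hcard : Nat.card (C.map ι) = 16 := by rw [Subgroup.card_map_of_injective h.inj, hC16]
  have hP : IsPGroup 2 (C.map ι) := IsPGroup.of_card (n := 4) (by rw [hcard]; rfl)
  have hidx : Odd (C.map ι).index := h.two_part _ (by rw [← hcard, Subgroup.card_mul_index])
  let P : Sylow 2 G := hP.toSylow (fun hh => (Nat.not_even_iff_odd.2 hidx) (even_iff_two_dvd.2 hh))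
  let M : Subgroup H0 := (MonoidHom.fst (Multiplicative (ZMod 2)) (Perm (Fin 4))).ker
  have hrel : M.relIndex C = 2 := by
    rw [Subgroup.relIndex, Subgroup.index_eq_two_iff]
    refine ⟨⟨t0, Subgroup.mem_centralizer_singleton_iff.2 htz.eq⟩, fun b => ?_⟩
    have := fst_index b.1 (Subgroup.mem_centralizer_singleton_iff.1 b.2)
    simp only [Subgroup.mem_subgroupOf, Subgroup.coe_mul, M, MonoidHom.mem_ker, MonoidHom.coe_fst]
    by_cases hb : (b : H0).1 = 1
    · exact Or.inr ⟨hb, fun hh => this.1 hh hb⟩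
    · exact Or.inl ⟨this.2 hb, hb⟩
  have hQ : ((M ⊓ C).map ι).relIndex (P : Subgroup G) = 2 := by
    show ((M ⊓ C).map ι).relIndex (C.map ι) = 2
    rw [Subgroup.relIndex_map_map_of_injective _ _ h.inj, Subgroup.inf_relIndex_right, hrel]
  refine TransferThompson.thompson_transfer P _ (Subgroup.map_mono inf_le_right) hQ
    ?_ ⟨t0, Subgroup.mem_centralizer_singleton_iff.2 htz.eq, rfl⟩ fun g hg => ?_
  · rw [orderOf_injective ι h.inj]
    exact orderOf_eq_prime (by rw [pow_two, ht2]) ht1
  · obtain ⟨a, ⟨ha1, -⟩, ha⟩ := hg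
    have ha2 : a * a = 1 := h.inj (by
      rw [map_mul, ha, map_one, show g * ι t0 * g⁻¹ * (g * ι t0 * g⁻¹) = g * (ι t0 * ι t0) * g⁻¹ by group,
        ← map_mul, ht2, map_one, mul_one, mul_inv_cancel])
    have hne : a ≠ 1 := fun e => ht1 (h.inj (by
      rw [e, map_one] at ha; rw [map_one]; exact conj_eq_one_iff.1 ha.symm))
    obtain ⟨c, rfl | rfl⟩ := inner_cases a ha2 (MonoidHom.mem_ker.1 ha1) hne
    · refine h.t_not_z (g⁻¹ * ι c) ?_
      rw [show g⁻¹ * ι c * ι z0 * (g⁻¹ * ι c)⁻¹ = g⁻¹ * (ι c * ι z0 * (ι c)⁻¹) * g by group,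
        ← map_inv, ← map_mul, ← map_mul, ha]
      group
    · refine hs (g⁻¹ * ι c) ?_
      rw [show g⁻¹ * ι c * ι s0 * (g⁻¹ * ι c)⁻¹ = g⁻¹ * (ι c * ι s0 * (ι c)⁻¹) * g by group,
        ← map_inv, ← map_mul, ← map_mul, ha]
      group

lemma nonempty_d8 (h : Dat ι) (N : Subgroup G) (hN : N.index = 2) (ht : ι t0 ∉ N) (hz : ι z0 ∈ N) :
    Nonempty (↥(Subgroup.centralizer ({(⟨ι z0, hz⟩ : N)} : Set N)) ≃* DihedralGroup 4) := by
  set C := Subgroup.centralizer ({(⟨ι z0, hz⟩ : N)} : Set N)
  have hcomm : ∀ x : C, Commute ((x : N) : G) (ι z0) := fun x =>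
    congrArg Subtype.val (Subgroup.mem_centralizer_singleton_iff.1 x.2)
  choose f hf hfz using fun x : C => h.cent_z _ (hcomm x)
  let F : C →* Perm (Fin 4) := MonoidHom.mk' (fun x => (f x).2) fun x y => by
    have : f (x * y) = f x * f y := h.inj (by rw [map_mul, hf, hf, hf]; rfl)
    rw [this]; rfl
  have hFinj : Function.Injective F := by
    rw [injective_iff_map_eq_one]
    intro x hx
    rcases snd_kernel (f x) hx with e | e
    · have := hf x
      rw [e, map_one] at this
      exact Subtype.ext (Subtype.ext this.symm)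
    · exact absurd (by rw [← e, hf]; exact (x : N).2) ht
  have hrange : F.range = d8.range := by
    ext p
    constructor
    · rintro ⟨x, rfl⟩
      exact (d8_range _).1 (congrArg Prod.snd (hfz x).eq)
    · intro hp
      have hp' := (d8_range p).2 hp
      have hc1 : Commute ((1, p) : H0) z0 := Prod.ext rfl hp'
      obtain ⟨a, ha2, ha, haN⟩ : ∃ a : H0, a.2 = p ∧ Commute a z0 ∧ ι a ∈ N := by
        by_cases h1 : ι (1, p) ∈ N
        · exact ⟨_, rfl, hc1, h1⟩
        · refine ⟨t0 * (1, p), one_mul p, t0_facts.2.2.2.2.1.mul_left hc1, ?_⟩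
          rw [map_mul, Subgroup.mul_mem_iff_of_index_two hN]
          exact iff_of_false ht h1
      let x : C := ⟨⟨ι a, haN⟩, Subgroup.mem_centralizer_singleton_iff.2 (Subtype.ext (ha.map ι).eq)⟩
      exact ⟨x, (congrArg Prod.snd (h.inj (hf x))).trans ha2⟩
  exact ⟨((MonoidHom.ofInjective hFinj).trans (MulEquiv.subgroupCongr hrange)).trans
    (MonoidHom.ofInjective d8_inj).symm⟩

lemma mem_of_pow_three {N : Subgroup G} (hN : N.index = 2) {g : G} (hg : g ^ 3 = 1) : g ∈ N := by
  have h2 := Subgroup.sq_mem_of_index_two hN g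
  have : g = (g ^ 2)⁻¹ := eq_inv_of_mul_eq_one_left (by rw [← pow_succ', hg])
  rw [this]
  exact inv_mem h2

lemma index_t (h : Dat ι) {m : ℕ} (hG : Nat.card G = 48 * m) :
    (Subgroup.centralizer ({ι t0} : Set G)).index = m := by
  have := (Subgroup.centralizer ({ι t0} : Set G)).card_mul_index
  rw [h.card_centralizer_t, hG] at this
  omega

lemma perm5_case (h : Dat ι) (N : Subgroup G) [N.Normal] (hN : N.index = 2)
    (e : ↥N ≃* Perm (Fin 5)) : False := by
  have hG : Nat.card G = 48 * 5 := by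
    rw [← N.card_mul_index, hN, Nat.card_congr e.toEquiv, S5945.perm5_card]
  have hCtop : Subgroup.centralizer ({ι t0} : Set G) ≠ ⊤ := fun ht => by
    have := h.card_centralizer_t
    rw [ht, Subgroup.card_top] at this
    omega
  set C := Subgroup.centralizer ({ι t0} : Set G) with hC
  have hKN : C.normalCore ⊓ N = ⊥ := by
    by_contra hne
    let K' : Subgroup (Perm (Fin 5)) := ((C.normalCore).subgroupOf N).map e.toMonoidHom
    haveI : K'.Normal := Subgroup.Normal.map inferInstance _ e.surjective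
    have hK' : K' ≠ ⊥ := by
      intro hb
      apply hne
      rw [Subgroup.map_eq_bot_iff_of_injective _ e.injective, Subgroup.subgroupOf_eq_bot] at hb
      exact disjoint_iff.1 hb
    have hle := Equiv.Perm.alternatingGroup_le_of_normal (α := Fin 5) (N := K') (by simp)
      ((Subgroup.nontrivial_iff_ne_bot _).mpr hK')
    have h60 : Nat.card (alternatingGroup (Fin 5)) = 60 := by
      have := (alternatingGroup (Fin 5)).card_mul_index
      rw [alternatingGroup.index_eq_two, S5945.perm5_card] at this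
      omega
    have h1 : 60 ∣ Nat.card K' := h60 ▸ Subgroup.card_dvd_of_le hle
    have h2 : Nat.card K' ∣ Nat.card C.normalCore :=
      (Subgroup.card_map_dvd _ _).trans (HallCore.card_subgroupOf_dvd _ _)
    have h3 := h1.trans (h2.trans (Subgroup.card_dvd_of_le (Subgroup.normalCore_le C)))
    rw [hC, h.card_centralizer_t] at h3
    omega
  rcases h.bot_of_disjoint N hN _ hKN with hK | hK
  · have hinj : Function.Injective (MulAction.toPermHom G (G ⧸ C)) := by
      rw [← MonoidHom.ker_eq_bot_iff, ← Subgroup.normalCore_eq_ker, hK]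
    have := Nat.card_le_card_of_injective _ hinj
    rw [Nat.card_perm, ← Subgroup.index, hC, index_t h hG, hG] at this
    norm_num [Nat.factorial] at this
  · exact hCtop hK

lemma sl32_case (h : Dat ι) (N : Subgroup G) [N.Normal] [IsSimpleGroup ↥N] (hN : N.index = 2)
    (hc : Nat.card N = 168) : False := by
  haveI : Fact (Nat.Prime 7) := ⟨by norm_num⟩
  have hG : Nat.card G = 48 * 7 := by rw [← N.card_mul_index, hN, hc]
  have hCtop : Subgroup.centralizer ({ι t0} : Set G) ≠ ⊤ := fun ht => by
    have := h.card_centralizer_t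
    rw [ht, Subgroup.card_top] at this
    omega
  set C := Subgroup.centralizer ({ι t0} : Set G) with hC
  have hC48 : Nat.card C = 48 := h.card_centralizer_t
  have small : ∀ K : Subgroup G, K.Normal → Nat.card K < 168 → K = ⊥ := by
    intro K hK hlt
    have hKN : K ⊓ N = ⊥ := by
      rcases (Subgroup.Normal.subgroupOf hK N).eq_bot_or_eq_top with hb | hb
      · rw [Subgroup.subgroupOf_eq_bot] at hb
        exact disjoint_iff.1 hb
      · rw [Subgroup.subgroupOf_eq_top] at hb
        have := Subgroup.card_le_of_le hb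
        omega
    exact (h.bot_of_disjoint N hN K hKN).resolve_right hCtop
  have hcore : C.normalCore = ⊥ := small _ inferInstance <| by
    have := Subgroup.card_le_of_le (Subgroup.normalCore_le C)
    omega
  have hP7 : ∀ P : Sylow 7 G, Nat.card (P : Subgroup G) = 7 := fun P => by
    rw [P.card_eq_multiplicity, hG, show 48 * 7 = 2 ^ 4 * 3 * 7 ^ 1 by norm_num,
      Nat.factorization_mul (by norm_num) (by norm_num), Nat.factorization_mul (by norm_num) (by norm_num),
      Nat.factorization_pow, Nat.factorization_pow, Nat.prime_two.factorization,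
      Nat.prime_three.factorization, (Fact.out : Nat.Prime 7).factorization]
    simp
  have key : ∀ P : Sylow 7 G, Nat.card (Subgroup.normalizer ((P : Subgroup G) : Set G)) = 42 ∧
      ι t0 ∈ Subgroup.normalizer ((P : Subgroup G) : Set G) := by
    intro P
    set NP := Subgroup.normalizer ((P : Subgroup G) : Set G) with hNP
    have hn := card_sylow_modEq_one 7 G
    have hmul := NP.card_mul_index
    rw [show NP.index = Nat.card (Sylow 7 G) from (Sylow.card_eq_index_normalizer P).symm, hG] at hmul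
    have hne1 : Nat.card (Sylow 7 G) ≠ 1 := by
      intro h1
      haveI : Subsingleton (Sylow 7 G) := (Nat.card_eq_one_iff_unique.1 h1).1
      have := small (P : Subgroup G) (Sylow.normal_of_subsingleton P) (by rw [hP7]; norm_num)
      have h7 := hP7 P
      rw [this, Subgroup.card_bot] at h7
      omega
    have h7dvd : 7 ∣ Nat.card NP := by
      have := Subgroup.card_dvd_of_le (show (P : Subgroup G) ≤ NP from Subgroup.le_normalizer)
      rwa [hP7] at this
    have h42 : Nat.card NP = 42 := by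
      obtain ⟨r, hr⟩ := h7dvd
      rw [hr] at hmul
      have hdvd : Nat.card (Sylow 7 G) ∣ 48 := ⟨r, by linarith⟩
      have hdiv : ∀ d ∈ Nat.divisors 48, d % 7 = 1 → d = 1 ∨ d = 8 := by decide
      have : Nat.card (Sylow 7 G) = 8 :=
        (hdiv _ (Nat.mem_divisors.2 ⟨hdvd, by norm_num⟩) hn).resolve_left hne1
      rw [this] at hmul
      omega
    refine ⟨h42, ?_⟩
    set X := C ⊓ NP with hX
    have hX6 : Nat.card X = 6 := by
      have h1 : Nat.card X ∣ 6 := (Nat.dvd_gcd (hC48 ▸ Subgroup.card_dvd_of_le inf_le_left)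
        (h42 ▸ Subgroup.card_dvd_of_le inf_le_right) : Nat.card X ∣ Nat.gcd 48 42)
      have h2 : C.relIndex NP ≤ 7 := by
        rw [← index_t h hG]
        have h3 := Subgroup.relIndex_le_of_le_right (H := C) (le_top : NP ≤ ⊤)
          (by rw [Subgroup.relIndex_top_right]; exact Subgroup.index_ne_zero_of_finite)
        rwa [Subgroup.relIndex_top_right] at h3
      have h3 : Nat.card X * C.relIndex NP = 42 := by
        rw [← Subgroup.inf_relIndex_right, ← hX, HallCore.card_mul_relIndex inf_le_right, h42]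
      have h4 := Nat.le_of_dvd (by norm_num) h1
      nlinarith
    let φ : X →* MulAut (P : Subgroup G) :=
      (Subgroup.normalizerMonoidHom (P : Subgroup G)).comp (Subgroup.inclusion (inf_le_right : X ≤ NP))
    have hPC : Subgroup.IsComplement' C (P : Subgroup G) :=
      Subgroup.isComplement'_of_coprime (by rw [hC48, hP7, hG]) (by rw [hC48, hP7]; norm_num)
    have hφ : Function.Injective φ := by
      rw [injective_iff_map_eq_one]
      intro y hy
      have hyk : Subgroup.inclusion (inf_le_right : X ≤ NP) y ∈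
          (Subgroup.normalizerMonoidHom (P : Subgroup G)).ker := hy
      rw [Subgroup.normalizerMonoidHom_ker] at hyk
      have hyP : ∀ p ∈ (P : Subgroup G), (y : G) * p = p * y := fun p hp =>
        (Subgroup.mem_centralizer_iff.1 hyk p hp).symm
      have hmem : (y : G) ∈ C.normalCore := fun g => by
        obtain ⟨⟨c, p⟩, hcp⟩ := hPC.2 g
        dsimp only at hcp
        rw [← hcp, show (c : G) * p * y * (c * p : G)⁻¹ = c * (p * y * (p : G)⁻¹) * (c : G)⁻¹ by group,
          ← hyP p p.2, mul_inv_cancel_right]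
        exact mul_mem (mul_mem c.2 y.2.1) (inv_mem c.2)
      rw [hcore, Subgroup.mem_bot] at hmem
      exact Subtype.ext hmem
    haveI : IsCyclic (P : Subgroup G) := isCyclic_of_prime_card (hP7 P)
    have hab : ∀ x y : X, x * y = y * x := fun x y => hφ (by
      rw [map_mul, map_mul]
      have := (IsCyclic.mulAutMulEquiv (P : Subgroup G))
      exact this.injective (by rw [map_mul, map_mul, mul_comm]))
    haveI : Fact (Nat.Prime 2) := ⟨Nat.prime_two⟩
    haveI : Fact (Nat.Prime 3) := ⟨Nat.prime_three⟩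
    obtain ⟨u, hu⟩ := exists_prime_orderOf_dvd_card' (G := X) 2 (by rw [hX6]; norm_num)
    obtain ⟨v, hv⟩ := exists_prime_orderOf_dvd_card' (G := X) 3 (by rw [hX6]; norm_num)
    obtain ⟨a, ha⟩ := h.cent_t u (Subgroup.mem_centralizer_singleton_iff.1 u.2.1)
    obtain ⟨b, hb⟩ := h.cent_t v (Subgroup.mem_centralizer_singleton_iff.1 v.2.1)
    have ha2 : orderOf a = 2 := by rw [← orderOf_injective ι h.inj, ha, Subgroup.orderOf_coe, hu]
    have hb3 : orderOf b = 3 := by rw [← orderOf_injective ι h.inj, hb, Subgroup.orderOf_coe, hv]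
    have hab' : a * b = b * a := h.inj (by
      rw [map_mul, map_mul, ha, hb]; exact congrArg Subtype.val (hab u v))
    have hat : a = t0 := by
      by_contra hne
      have h1 := six_abelian a (by rw [← pow_two]; exact orderOf_dvd_iff_pow_eq_one.1 ha2.dvd)
        (fun e => by rw [e, orderOf_one] at ha2; omega) hne b (orderOf_dvd_iff_pow_eq_one.1 hb3.dvd) hab'
      rw [h1, orderOf_one] at hb3; omega
    rw [← hat, ha]; exact u.2.2
  obtain ⟨P₀⟩ : Nonempty (Sylow 7 G) := inferInstance
  let K : Subgroup G := (Subgroup.normalizer ((P₀ : Subgroup G) : Set G)).normalCore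
  have hK : K = ⊥ := small _ inferInstance <| by
    have := Subgroup.card_le_of_le (Subgroup.normalCore_le (Subgroup.normalizer ((P₀ : Subgroup G) : Set G)))
    rw [(key P₀).1] at this
    exact lt_of_le_of_lt this (by norm_num)
  have ht : ι t0 ∈ K := fun g => by
    have := (key (g⁻¹ • P₀)).2
    rw [Sylow.coe_subgroup_smul, Subgroup.mem_normalizer_iff] at this
    rw [Subgroup.mem_normalizer_iff]
    intro x
    have h1 := this (g⁻¹ * x * g)
    simp only [Subgroup.mem_pointwise_smul_iff_inv_smul_mem, ← map_inv, MulAut.smul_def,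
      MulAut.conj_apply, inv_inv] at h1
    simpa [mul_assoc] using h1
  rw [hK, Subgroup.mem_bot] at ht
  exact t0_facts.2.1 (h.inj (by rw [ht, map_one]))

set_option maxRecDepth 100000 in
lemma six_facts : ((Equiv.swap 0 1 * Equiv.swap 1 2 * (Equiv.swap 3 4 * Equiv.swap 4 5) : Perm (Fin 6)) ^ 3 = 1) ∧
    ((Equiv.swap 0 1 * Equiv.swap 1 2 * (Equiv.swap 3 4 * Equiv.swap 4 5) : Perm (Fin 6)).support = Finset.univ) ∧
    ((Equiv.swap 0 3 * Equiv.swap 1 4 * Equiv.swap 2 5 : Perm (Fin 6)) ^ 2 = 1) ∧
    ((Equiv.swap 0 3 * Equiv.swap 1 4 * Equiv.swap 2 5 : Perm (Fin 6)).support = Finset.univ) ∧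
    ((Equiv.swap 0 1 * Equiv.swap 1 2 * (Equiv.swap 3 4 * Equiv.swap 4 5)) * (Equiv.swap 0 3 * Equiv.swap 1 4 * Equiv.swap 2 5) =
      (Equiv.swap 0 3 * Equiv.swap 1 4 * Equiv.swap 2 5) * (Equiv.swap 0 1 * Equiv.swap 1 2 * (Equiv.swap 3 4 * Equiv.swap 4 5) : Perm (Fin 6))) := by
  refine ⟨?_, ?_, ?_, ?_, ?_⟩ <;> decide +kernel

lemma cycleType_three {p : Perm (Fin 6)} (h3 : p ^ 3 = 1) (h1 : p ≠ 1) :
    p.IsThreeCycle ∨ (p.support = Finset.univ ∧ p.cycleType = Multiset.replicate 2 3) := by
  have ho : orderOf p = 3 := orderOf_eq_prime (hp := ⟨Nat.prime_three⟩) h3 h1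
  obtain ⟨n, hn⟩ := Equiv.Perm.cycleType_prime_order (σ := p) (by rw [ho]; exact Nat.prime_three)
  rw [ho] at hn
  have hs := p.sum_cycleType
  rw [hn, Multiset.sum_replicate, smul_eq_mul] at hs
  have hle : p.support.card ≤ 6 := by simpa using Finset.card_le_univ p.support
  rcases show n = 0 ∨ n = 1 by omega with rfl | rfl
  · exact Or.inl (by rw [Equiv.Perm.IsThreeCycle, hn]; rfl)
  · exact Or.inr ⟨Finset.eq_univ_of_card _ (by rw [← hs]; rfl), hn⟩

/-- Some automorphism of `A₆` maps a given element of order `3` to a three-cycle. -/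
lemma exists_aut (x : alternatingGroup (Fin 6)) (h3 : x ^ 3 = 1) (h1 : x ≠ 1) :
    ∃ θ : MulAut (alternatingGroup (Fin 6)), ((θ x : alternatingGroup (Fin 6)) : Perm (Fin 6)).IsThreeCycle := by
  have h3' : (x : Perm (Fin 6)) ^ 3 = 1 := by rw [← SubmonoidClass.coe_pow, h3]; rfl
  have h1' : (x : Perm (Fin 6)) ≠ 1 := fun e => h1 (Subtype.ext e)
  rcases cycleType_three h3' h1' with hc | ⟨-, hx⟩
  · exact ⟨1, hc⟩
  obtain ⟨c1, c2, c3, c4, c5⟩ := six_facts
  set y := (Equiv.swap 0 1 * Equiv.swap 1 2 * (Equiv.swap 3 4 * Equiv.swap 4 5) : Perm (Fin 6)) with hy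
  set u := (Equiv.swap 0 3 * Equiv.swap 1 4 * Equiv.swap 2 5 : Perm (Fin 6)) with hu
  have hy1 : y ≠ 1 := fun e => by
    rw [e, Equiv.Perm.support_one] at c2; exact Finset.univ_nonempty.ne_empty c2.symm
  have hyt : y.cycleType = Multiset.replicate 2 3 := by
    rcases cycleType_three c1 hy1 with hc | ⟨-, hc⟩
    · have := hc.card_support
      rw [c2] at this; simp at this
    · exact hc
  obtain ⟨σ, hσ⟩ := isConj_iff.1 (Equiv.Perm.isConj_iff_cycleType_eq.2 (hx.trans hyt.symm))
  obtain ⟨α, hα⟩ := S5945.exists_outer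
  let β : MulAut (Perm (Fin 6)) := (MulAut.conj σ).trans α
  have hmap : (alternatingGroup (Fin 6)).map β.toMonoidHom = alternatingGroup (Fin 6) := by
    apply Equiv.Perm.eq_alternatingGroup_of_index_eq_two
    exact (Subgroup.index_map_of_bijective β.bijective _).trans alternatingGroup.index_eq_two
  refine ⟨(β.subgroupMap _).trans (MulEquiv.subgroupCongr hmap), ?_⟩
  show (β (x : Perm (Fin 6))).IsThreeCycle
  have hβ : β (x : Perm (Fin 6)) = α y := by
    show α (σ * x * σ⁻¹) = α y
    rw [hσ]
  rw [hβ]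
  refine (cycleType_three (by rw [← map_pow, c1, map_one]) (fun e => hy1 (α.map_eq_one_iff.1 e))).resolve_right ?_
  rintro ⟨hsupp, -⟩
  obtain ⟨a, b, hab, hsw⟩ := hα u c3 c4
  have hcm : α y * Equiv.swap a b = Equiv.swap a b * α y := by
    rw [← hsw, ← map_mul, ← map_mul, c5]
  have hfix : ∀ q : Perm (Fin 6), q ^ 3 = 1 → q * Equiv.swap a b = Equiv.swap a b * q → q a = a := by
    intro q hq hqc
    have e1 : Equiv.swap a b (q a) = q b := by
      rw [← Equiv.Perm.mul_apply, ← hqc, Equiv.Perm.mul_apply, Equiv.swap_apply_left]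
    have hq3 : ∀ z, q (q (q z)) = z := fun z => by
      have := congrArg (fun f : Perm (Fin 6) => f z) hq
      simpa [pow_succ, Equiv.Perm.mul_apply] using this
    by_cases hqa : q a = a
    · exact hqa
    by_cases hqb : q a = b
    · rw [hqb, Equiv.swap_apply_right] at e1
      have := hq3 a
      rw [hqb, ← e1] at this
      exact this
    · rw [Equiv.swap_apply_of_ne_of_ne hqa hqb] at e1
      exact absurd (q.injective e1) hab
  have := hfix (α y) (by rw [← map_pow, c1, map_one]) hcm
  exact Equiv.Perm.notMem_support.2 this (by rw [hsupp]; exact Finset.mem_univ a)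

lemma a6_case (h : Dat ι) (N : Subgroup G) [N.Normal] (hN : N.index = 2) (ht : ι t0 ∉ N)
    (e : ↥N ≃* alternatingGroup (Fin 6)) : Nonempty (G ≃* Perm (Fin 6)) := by
  haveI : IsSimpleGroup (alternatingGroup (Fin 6)) := alternatingGroup.isSimpleGroup (by simp)
  haveI : IsSimpleGroup ↥N := e.isSimpleGroup
  have hG : Nat.card G = 720 := by
    rw [← N.card_mul_index, hN, Nat.card_congr e.toEquiv, Simple360.card_alternating_six]
  have hCtop : Subgroup.centralizer ({ι t0} : Set G) ≠ ⊤ := fun htop => by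
    have := h.card_centralizer_t
    rw [htop, Subgroup.card_top] at this
    omega
  obtain ⟨a, ha3, ha1⟩ := exists_three
  have haN : ι a ∈ N := mem_of_pow_three hN (by rw [← map_pow, ha3, map_one])
  obtain ⟨θ, hθ⟩ := exists_aut (e ⟨ι a, haN⟩) (by
      rw [← map_pow, ← map_one e]; congr 1
      exact Subtype.ext (by rw [SubmonoidClass.coe_pow, ← map_pow, ha3, map_one]; rfl))
    (fun hh => ha1 (h.inj (by
      rw [map_one]; exact congrArg Subtype.val (e.map_eq_one_iff.1 hh))))
  let E : ↥N ≃* alternatingGroup (Fin 6) := e.trans θ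
  let x := E ⟨ι a, haN⟩
  have hx : (x : Perm (Fin 6)).IsThreeCycle := hθ
  let ψ : G →* MulAut (alternatingGroup (Fin 6)) :=
    (MulAut.congr E).toMonoidHom.comp (MulAut.conjNormal (H := N))
  have hψ : ∀ g y, ψ g y = E (MulAut.conjNormal g (E.symm y)) := fun g y => rfl
  have hfix : ψ (ι t0) x = x := by
    rw [hψ, MulEquiv.symm_apply_apply]
    congr 1
    refine Subtype.ext ?_
    rw [MulAut.conjNormal_apply, ← map_mul, t0_central, map_mul, mul_inv_cancel_right]
  obtain ⟨σ, hσ⟩ := S4231.exists_conjNormal_eq 6 (by norm_num) (ψ (ι t0)) (fun y hy => by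
    obtain ⟨g, hg⟩ := isConj_iff.1 (alternatingGroup.isThreeCycle_isConj (by simp) hx hy)
    rw [← hg, map_mul, map_mul, map_inv, hfix]
    show ((ψ (ι t0) g : Perm (Fin 6)) * x * (ψ (ι t0) g : Perm (Fin 6))⁻¹).IsThreeCycle
    rw [Equiv.Perm.IsThreeCycle, Equiv.Perm.cycleType_conj]
    exact hx)
  let κ : Perm (Fin 6) →* MulAut (alternatingGroup (Fin 6)) := MulAut.conjNormal
  have hκ : Function.Injective κ := by
    rw [← MonoidHom.ker_eq_bot_iff]
    by_contra hne
    have hle := Equiv.Perm.alternatingGroup_le_of_normal (α := Fin 6) (N := κ.ker) (by simp)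
      ((Subgroup.nontrivial_iff_ne_bot _).mpr hne)
    have hcomm : ∀ p q : alternatingGroup (Fin 6), p * q = q * p := fun p q => by
      have := DFunLike.congr_fun (MonoidHom.mem_ker.1 (hle p.2)) q
      exact Subtype.ext (mul_inv_eq_iff_eq_mul.1 (congrArg Subtype.val this))
    have h6 := hcomm ⟨Equiv.swap 0 1 * Equiv.swap 1 2, Equiv.Perm.mem_alternatingGroup.2 (by decide +kernel)⟩ ⟨Equiv.swap 1 2 * Equiv.swap 2 3, Equiv.Perm.mem_alternatingGroup.2 (by decide +kernel)⟩
    revert h6; decide
  have hrange : ∀ g, ψ g ∈ κ.range := by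
    have hNle : ∀ g ∈ N, ψ g ∈ κ.range := fun g hg => ⟨(E ⟨g, hg⟩ : Perm (Fin 6)), by
      refine MulEquiv.ext fun y => ?_
      refine Subtype.ext ?_
      show _ = ((E (MulAut.conjNormal g (E.symm y)) : alternatingGroup (Fin 6)) : Perm (Fin 6))
      rw [show MulAut.conjNormal g (E.symm y) = (⟨g, hg⟩ : N) * E.symm y * (⟨g, hg⟩ : N)⁻¹ from
        Subtype.ext (MulAut.conjNormal_apply _ _), map_mul, map_mul, map_inv, E.apply_symm_apply]
      rfl⟩
    intro g
    by_cases hg : g ∈ N
    · exact hNle g hg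
    · rw [show g = g * ι t0 * (ι t0)⁻¹ by group, map_mul, map_inv, ← hσ]
      refine mul_mem (hNle _ ?_) (inv_mem ⟨σ, rfl⟩)
      rw [Subgroup.mul_mem_iff_of_index_two hN]
      exact iff_of_false hg ht
  let Φ : G →* Perm (Fin 6) := (MonoidHom.ofInjective hκ).symm.toMonoidHom.comp (ψ.codRestrict κ.range hrange)
  have hker : ψ.ker = ⊥ := by
    refine (h.bot_of_disjoint N hN _ ?_).resolve_right hCtop
    rcases (Subgroup.Normal.subgroupOf (inferInstance : ψ.ker.Normal) N).eq_bot_or_eq_top with hb | hb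
    · rw [Subgroup.subgroupOf_eq_bot] at hb
      exact disjoint_iff.1 hb
    · exfalso
      rw [Subgroup.subgroupOf_eq_top] at hb
      have h1 : ψ (E.symm ⟨Equiv.swap 0 1 * Equiv.swap 1 2, Equiv.Perm.mem_alternatingGroup.2 (by decide +kernel)⟩ : G) = 1 := hb (SetLike.coe_mem _)
      have h2 := DFunLike.congr_fun h1 ⟨Equiv.swap 1 2 * Equiv.swap 2 3, Equiv.Perm.mem_alternatingGroup.2 (by decide +kernel)⟩
      rw [hψ] at h2
      set p : alternatingGroup (Fin 6) := ⟨Equiv.swap 0 1 * Equiv.swap 1 2, Equiv.Perm.mem_alternatingGroup.2 (by decide +kernel)⟩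
      set q : alternatingGroup (Fin 6) := ⟨Equiv.swap 1 2 * Equiv.swap 2 3, Equiv.Perm.mem_alternatingGroup.2 (by decide +kernel)⟩
      rw [show MulAut.conjNormal (E.symm p : G) (E.symm q) = E.symm p * E.symm q * (E.symm p)⁻¹ from
        Subtype.ext (MulAut.conjNormal_apply _ _), ← map_inv, ← map_mul, ← map_mul, E.apply_symm_apply,
        MulAut.one_apply, mul_inv_eq_iff_eq_mul] at h2
      revert h2; decide
  have hinj : Function.Injective Φ := by
    refine (MonoidHom.ofInjective hκ).symm.injective.comp fun g g' hgg => ?_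
    exact ((MonoidHom.ker_eq_bot_iff ψ).1 hker) (congrArg Subtype.val hgg)
  refine ⟨MulEquiv.ofBijective Φ ((Nat.bijective_iff_injective_and_card Φ).2 ⟨hinj, ?_⟩)⟩
  rw [hG, S5945.perm6_card]

lemma classify (h : Dat ι) : Subgroup.centralizer ({ι t0} : Set G) = ⊤ ∨ Nonempty (G ≃* Perm (Fin 6)) := by
  rcases h.not_both with hs | hs
  · exact main h hs
  · have h' := h.twisted
    have e : twist t0 = t0 := twist_facts.1
    have := main h' (fun g => by
      rw [MonoidHom.comp_apply, MonoidHom.comp_apply, twist_facts.2.2, e]; exact hs g)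
    rwa [MonoidHom.comp_apply, e] at this
where
  main {ι : H0 →* G} (h : Dat ι) (hs : ∀ g : G, g * ι s0 * g⁻¹ ≠ ι t0) :
      Subgroup.centralizer ({ι t0} : Set G) = ⊤ ∨ Nonempty (G ≃* Perm (Fin 6)) := by
    obtain ⟨N, hNn, hN, ht⟩ := exists_index_two h hs
    have hz : ι z0 ∈ N := by
      obtain ⟨a, b, -, -, hab⟩ := exists_comm_z0
      rw [← hab, map_mul, map_mul, map_mul, map_inv, map_inv]
      simp only [Subgroup.mul_mem_iff_of_index_two hN, inv_mem_iff]
      tauto
    have hzo : orderOf (⟨ι z0, hz⟩ : N) = 2 := by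
      rw [← Subgroup.orderOf_coe, orderOf_injective ι h.inj]
      haveI : Fact (Nat.Prime 2) := ⟨Nat.prime_two⟩
      exact orderOf_eq_prime (by rw [pow_two, t0_facts.2.2.1]) t0_facts.2.2.2.1
    obtain ⟨eD⟩ := nonempty_d8 h N hN ht hz
    rcases S3035.result (⟨ι z0, hz⟩ : N) hzo ⟨eD⟩ with h1 | ⟨⟨e1⟩⟩ | ⟨⟨e1⟩⟩ | ⟨⟨e1⟩⟩ | ⟨⟨e1⟩⟩
    · exfalso
      haveI := HallCore.pPrimeCore_normal 2 G
      have hO := h.odd_normal_eq_bot (pPrimeCore 2 G)
        (Nat.coprime_two_right.1 (HallCore.coprime_card_pPrimeCore 2 G))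
      have hON : oddCore (↥N) = ⊥ := by
        show pPrimeCore 2 (↥N) = ⊥
        rw [← Subgroup.map_eq_bot_iff_of_injective _ N.subtype_injective,
          HallCore.map_subtype_pPrimeCore, hO, bot_inf_eq]
      rw [hON, sup_bot_eq] at h1
      have h8 := Nat.card_congr eD.toEquiv
      rw [h1, Subgroup.card_top, DihedralGroup.nat_card] at h8
      have hG : Nat.card G = 16 := by rw [← N.card_mul_index, hN, h8]
      have := Subgroup.card_le_card_group (Subgroup.centralizer ({ι t0} : Set G))
      rw [h.card_centralizer_t, hG] at this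
      omega
    · left
      apply Subgroup.eq_top_of_card_eq
      rw [h.card_centralizer_t, ← N.card_mul_index, hN, Nat.card_congr e1.toEquiv, Nat.card_perm,
        Nat.card_fin]
      rfl
    · exact (perm5_case h N hN e1).elim
    · obtain ⟨hsimp, hcard⟩ := S3035.sl32
      haveI : IsSimpleGroup ↥N := e1.isSimpleGroup
      exact (sl32_case h N hN (by rw [Nat.card_congr e1.toEquiv, hcard])).elim
    · exact Or.inr (a6_case h N hN ht e1)

/-- Let G be a finite group of even order such that (1) some involution t lying in the centre of a Sylow 2-subgroup of G has C_G(t) ≅ Z₂ × S₄, and (2) every Sylow 2-subgroup S of G satisfies C_G(S′) = S, where S′ is the derived subgroup of S. Then G = C_G(t) if G is solvable, and G ≅ S₆ otherwise. -/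
theorem result {G : Type*} [Group G] [Finite G] (hev : Even (Nat.card G))
    (t : G) (ht : orderOf t = 2) (T : Sylow 2 G) (htT : t ∈ (T : Subgroup G)) (htc : ∀ s ∈ (T : Subgroup G), s * t = t * s)
    (e : ↥(Subgroup.centralizer ({t} : Set G)) ≃* (Multiplicative (ZMod 2) × Equiv.Perm (Fin 4)))
    (h2 : ∀ S : Sylow 2 G, Subgroup.centralizer ((⁅(S : Subgroup G), (S : Subgroup G)⁆ : Subgroup G) : Set G) = (S : Subgroup G)) :
    (Group.IsSolvable G → Subgroup.centralizer ({t} : Set G) = ⊤) ∧
      (¬ Group.IsSolvable G → Nonempty (G ≃* Equiv.Perm (Fin 6))) := by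
  haveI : Fact (Nat.Prime 2) := ⟨Nat.prime_two⟩
  have htC : t ∈ Subgroup.centralizer ({t} : Set G) := Subgroup.mem_centralizer_singleton_iff.2 rfl
  have het : e ⟨t, htC⟩ = t0 := by
    rcases central (e ⟨t, htC⟩) (fun y => by
      obtain ⟨x, rfl⟩ := e.surjective y
      rw [← map_mul, ← map_mul]
      exact congrArg e (Subtype.ext (Subgroup.mem_centralizer_singleton_iff.1 x.2).symm)) with h1 | h1
    · exfalso
      have : t = 1 := congrArg Subtype.val (e.map_eq_one_iff.1 h1)
      rw [this, orderOf_one] at ht; omega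
    · exact h1
  let ι : H0 →* G := (Subgroup.centralizer ({t} : Set G)).subtype.comp e.symm.toMonoidHom
  have hιinj : Function.Injective ι := Subtype.val_injective.comp e.symm.injective
  have hιt : ι t0 = t := by
    show ((e.symm t0 : ↥(Subgroup.centralizer ({t} : Set G))) : G) = t
    rw [← het, e.symm_apply_apply]
  have hcent_t : ∀ g, Commute g t → ∃ a, ι a = g := fun g hg =>
    ⟨e ⟨g, Subgroup.mem_centralizer_singleton_iff.2 hg⟩, by
      show ((e.symm (e _) : ↥(Subgroup.centralizer ({t} : Set G))) : G) = g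
      rw [e.symm_apply_apply]⟩
  have hCcard : Nat.card (Subgroup.centralizer ({t} : Set G)) = 48 := by
    rw [← card_H0]; exact Nat.card_congr e.toEquiv
  have hTle : (T : Subgroup G) ≤ Subgroup.centralizer ({t} : Set G) := fun s hs =>
    Subgroup.mem_centralizer_singleton_iff.2 (htc s hs)
  have hT16 : Nat.card (T : Subgroup G) = 16 := by
    have h1 := (T.subtype hTle).card_eq_multiplicity
    rw [hCcard, show (48 : ℕ) = 2 ^ 4 * 3 by norm_num, Nat.factorization_mul (by norm_num) (by norm_num),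
      Nat.factorization_pow, Nat.prime_two.factorization, Nat.prime_three.factorization] at h1
    rw [Sylow.coe_subtype, Nat.card_congr (Subgroup.subgroupOfEquivOfLe hTle).toEquiv] at h1
    simpa using h1
  have htwo : ∀ n : ℕ, 16 * n = Nat.card G → Odd n := fun n hn => by
    have h1 := T.not_dvd_index
    have h2 := (T : Subgroup G).card_mul_index
    rw [hT16, ← hn] at h2
    have : (T : Subgroup G).index = n := by omega
    rw [this] at h1
    exact Nat.not_even_iff_odd.1 fun he => h1 (even_iff_two_dvd.1 he)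
  let C : Subgroup H0 := Subgroup.centralizer {z0}
  have hC16 : Nat.card C = 16 := by
    rw [← card_centralizer]
    exact Nat.card_congr (Equiv.subtypeEquivRight fun b => Subgroup.mem_centralizer_singleton_iff)
  have hcard : Nat.card (C.map ι) = 16 := by rw [Subgroup.card_map_of_injective hιinj, hC16]
  have hP : IsPGroup 2 (C.map ι) := IsPGroup.of_card (n := 4) (by rw [hcard]; rfl)
  have hidx : Odd (C.map ι).index := htwo _ (by rw [← hcard, Subgroup.card_mul_index])
  let P : Sylow 2 G := hP.toSylow (fun hh => (Nat.not_even_iff_odd.2 hidx) (even_iff_two_dvd.2 hh))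
  have hd : Dat ι := by
    refine ⟨hιinj, fun g hg => hcent_t g (hιt ▸ hg), fun g hg => ?_, htwo⟩
    have hg' : g ∈ Subgroup.centralizer ((⁅(P : Subgroup G), (P : Subgroup G)⁆ : Subgroup G) : Set G) := by
      have hle : ⁅(P : Subgroup G), (P : Subgroup G)⁆ ≤ Subgroup.centralizer ({g} : Set G) := by
        rw [Subgroup.commutator_le]
        rintro _ ⟨a, ha, rfl⟩ _ ⟨b, hb, rfl⟩
        rw [Subgroup.mem_centralizer_singleton_iff]
        rw [← map_commutatorElement, commutatorElement_def]
        rcases comm_of_comm a b (Subgroup.mem_centralizer_singleton_iff.1 ha)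
          (Subgroup.mem_centralizer_singleton_iff.1 hb) with h1 | h1 <;> rw [h1]
        · rw [map_one, one_mul, mul_one]
        · exact hg.eq.symm
      exact Subgroup.mem_centralizer_iff.2 fun x hx => Subgroup.mem_centralizer_singleton_iff.1 (hle hx)
    rw [h2 P] at hg'
    obtain ⟨a, ha, rfl⟩ := hg'
    exact ⟨a, rfl, Subgroup.mem_centralizer_singleton_iff.1 ha⟩
  rcases classify hd with h | ⟨⟨e6⟩⟩
  · rw [hιt] at h
    refine ⟨fun _ => h, fun hns => absurd ?_ hns⟩
    haveI := S2929.isSolvable_perm_four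
    haveI : Group.IsSolvable H0 := inferInstance
    let f : H0 →* G := ι
    refine Group.isSolvable_of_surjective (f := f) fun g => ?_
    exact hcent_t g (Subgroup.mem_centralizer_singleton_iff.1 (h ▸ Subgroup.mem_top g))
  · refine ⟨fun hs => absurd hs ?_, fun _ => ⟨e6⟩⟩
    intro hs
    refine Equiv.Perm.not_isSolvable (Fin 6) (by rw [Cardinal.mk_fin]; norm_num) ?_
    exact Group.isSolvable_of_surjective (f := e6.toMonoidHom) e6.surjective

end Cfsg.Agent.S3222
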