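import Mathlib
import Cfsg.Statements.S3225
-- import your own Cfsg.Agent.* helpers here

set_option autoImplicit false
open Cfsg

namespace Cfsg.Agent.S3225

/-- Let G be a finite group of even order with no subgroup of index 2, S a Sylow 2-subgroup of G and M a subgroup of index 2 in S such that, for some n ≥ 1, every element of S outside M has order greater than 2^(n−1). Then every element of S of order 2ⁿ is conjugate in G to an element of M. -/
theorem result {G : Type*} [Group G] [Finite G] (hev : Even (Nat.card G))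
    (hG : ∀ H : Subgroup G, H.index ≠ 2) (S : Sylow 2 G) (M : Subgroup G) (hMS : M ≤ (S : Subgroup G)) (hM : M.relIndex (S : Subgroup G) = 2)
    (n : ℕ) (hn : 1 ≤ n) (hord : ∀ y ∈ (S : Subgroup G), y ∉ M → 2 ^ (n - 1) < orderOf y)
    (x : G) (hx : x ∈ (S : Subgroup G)) (hxn : orderOf x = 2 ^ n) :
    ∃ g : G, g * x * g⁻¹ ∈ M := by
  classical
  haveI : Fact (Nat.Prime 2) := ⟨Nat.prime_two⟩
  by_contra hcon
  push Not at hcon
  set S' : Subgroup G := (S : Subgroup G) with hS'
  set M' : Subgroup ↥S' := M.subgroupOf S' with hM'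
  have hidx : M'.index = 2 := hM
  let φ : ↥S' →* Multiplicative (ZMod 2) :=
    { toFun := fun s => Multiplicative.ofAdd (if s ∈ M' then 0 else 1)
      map_one' := by simp [M'.one_mem]
      map_mul' := by
        intro a b
        have h := Subgroup.mul_mem_iff_of_index_two hidx (a := a) (b := b)
        apply Multiplicative.toAdd.injective
        show (if a * b ∈ M' then (0 : ZMod 2) else 1) = (if a ∈ M' then 0 else 1) + (if b ∈ M' then 0 else 1)
        by_cases ha : a ∈ M' <;> by_cases hb : b ∈ M' <;> simp [h, ha, hb, CharTwo.add_self_eq_zero] }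
  haveI : Fintype (Quotient (MulAction.orbitRel (Subgroup.zpowers x) (G ⧸ S'))) := Fintype.ofFinite _
  have hV := MonoidHom.transfer_eq_prod_quotient_orbitRel_zpowers_quot φ x
  have key : ∀ q : Quotient (MulAction.orbitRel (Subgroup.zpowers x) (G ⧸ S')),
      Multiplicative.toAdd (φ ⟨q.out.out⁻¹ * x ^ Function.minimalPeriod (x • ·) q.out * q.out.out,
        QuotientGroup.out_conj_pow_minimalPeriod_mem S' x q.out⟩) =
      ((Function.minimalPeriod (x • ·) q.out : ℕ) : ZMod 2) := by
    intro q
    set m := Function.minimalPeriod (x • ·) q.out with hm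
    set g : G := q.out.out with hg
    have hmd : m ∣ 2 ^ n := by
      rw [← hxn]
      apply Function.IsPeriodicPt.minimalPeriod_dvd
      show (fun y => x • y)^[orderOf x] q.out = q.out
      rw [smul_iterate, pow_orderOf_eq_one]
      exact one_smul G q.out
    obtain ⟨k, hk, hmk⟩ := (Nat.dvd_prime_pow Nat.prime_two).mp hmd
    have hmem : g⁻¹ * x ^ m * g ∈ S' := QuotientGroup.out_conj_pow_minimalPeriod_mem S' x q.out
    rcases Nat.eq_zero_or_pos k with rfl | hkpos
    · have hm1 : m = 1 := by simpa using hmk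
      have : g⁻¹ * x ^ m * g ∉ M := by
        rw [hm1, pow_one]
        simpa using hcon g⁻¹
      have h' : (⟨g⁻¹ * x ^ m * g, hmem⟩ : ↥S') ∉ M' := this
      show (if (⟨g⁻¹ * x ^ m * g, hmem⟩ : ↥S') ∈ M' then (0 : ZMod 2) else 1) = (m : ZMod 2)
      rw [if_neg h', hm1, Nat.cast_one]
    · have hord' : orderOf (g⁻¹ * x ^ m * g) ≤ 2 ^ (n - 1) := by
        have e : g⁻¹ * x ^ m * g = MulAut.conj g⁻¹ (x ^ m) := by simp
        rw [e]
        refine Nat.le_of_dvd (by positivity) ?_
        apply orderOf_dvd_of_pow_eq_one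
        rw [← map_pow, ← pow_mul]
        have : 2 ^ n ∣ m * 2 ^ (n - 1) := by
          rw [hmk, ← pow_add]
          exact Nat.pow_dvd_pow 2 (by omega)
        rw [← hxn] at this
        rw [orderOf_dvd_iff_pow_eq_one.mp this, map_one]
      have h' : (⟨g⁻¹ * x ^ m * g, hmem⟩ : ↥S') ∈ M' := by
        by_contra h
        exact absurd (hord _ hmem h) (not_lt.mpr hord')
      show (if (⟨g⁻¹ * x ^ m * g, hmem⟩ : ↥S') ∈ M' then (0 : ZMod 2) else 1) = (m : ZMod 2)
      rw [if_pos h']
      symm
      rw [hmk, ZMod.natCast_eq_zero_iff_even]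
      exact Nat.even_pow.mpr ⟨even_two, hkpos.ne'⟩
  have hsum : Multiplicative.toAdd (MonoidHom.transfer φ x) = 1 := by
    rw [hV, toAdd_prod, Finset.sum_congr rfl (fun q _ => key q), ← Nat.cast_sum]
    haveI : Fintype (G ⧸ S') := Fintype.ofFinite _
    have hcard : (∑ q : Quotient (MulAction.orbitRel (Subgroup.zpowers x) (G ⧸ S')),
        Function.minimalPeriod (x • ·) q.out) = S'.index := by
      rw [Subgroup.index_eq_card, Nat.card_congr (MulAction.selfEquivSigmaOrbits (Subgroup.zpowers x) (G ⧸ S')),
        Nat.card_sigma]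
      refine Finset.sum_congr rfl fun q _ => ?_
      rw [MulAction.minimalPeriod_eq_card, Nat.card_eq_fintype_card]
      exact Fintype.card_congr (Equiv.refl _)
    rw [hcard, ZMod.natCast_eq_one_iff_odd, ← Nat.not_even_iff_odd, even_iff_two_dvd]
    exact S.not_dvd_index
  set V : G →* Multiplicative (ZMod 2) := MonoidHom.transfer φ
  have hsurj : Function.Surjective V := by
    intro z
    obtain ⟨z, rfl⟩ := Multiplicative.ofAdd.surjective z
    fin_cases z
    · exact ⟨1, by rw [map_one]; rfl⟩
    · exact ⟨x, Multiplicative.toAdd.injective (by rw [hsum]; rfl)⟩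
  refine hG V.ker ?_
  rw [Subgroup.index_ker, MonoidHom.range_eq_top.mpr hsurj, Subgroup.card_top]
  simp

end Cfsg.Agent.S3225
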