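import Cfsg.Statements.S3230
import Cfsg.Agent.Lib.U62RecogIdent29
import Cfsg.Agent.Lib.U62From98Start
import Cfsg.Agent.Lib.U62From98Cert
import Cfsg.Agent.Lib.U62From98NoJ
import Cfsg.Agent.Lib.U62From98Pairs
import Cfsg.Agent.Lib.U62From98Setup
import Cfsg.Agent.Lib.SymplecticSimple
import Cfsg.Agent.Lib.StemTransfer86

set_option autoImplicit false
open Cfsg Cfsg.Agent.U62From98

namespace Cfsg.Agent.S3230

/-- Let G be a finite group with an involution z, H = C_G(z), such that J = O₂(H) is extraspecial of order 2⁹ with C_H(J) ≤ J and H/J ≅ PSp₄(3). Then G ≅ U₆(2) or G = H·O(G). -/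
theorem result {G : Type*} [Group G] [Finite G] (z : G) (hz : orderOf z = 2)
    {F : Type*} [Field F] [Fintype F] (hF : Fintype.card F = 3) {K : Type*} [Field K] [Fintype K] (hK : Fintype.card K = 4)
    (hJ : Cfsg.IsExtraspecial 2 ↥(Cfsg.pCore 2 ↥(Subgroup.centralizer ({z} : Set G)))) (hJc : Nat.card ↥(Cfsg.pCore 2 ↥(Subgroup.centralizer ({z} : Set G))) = 2 ^ 9)
    (hCJ : Subgroup.centralizer ((Cfsg.pCore 2 ↥(Subgroup.centralizer ({z} : Set G))) : Set ↥(Subgroup.centralizer ({z} : Set G))) ≤ Cfsg.pCore 2 ↥(Subgroup.centralizer ({z} : Set G))) [hJn : (Cfsg.pCore 2 ↥(Subgroup.centralizer ({z} : Set G))).Normal]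
    (e : (↥(Subgroup.centralizer ({z} : Set G)) ⧸ Cfsg.pCore 2 ↥(Subgroup.centralizer ({z} : Set G))) ≃* Cfsg.PSp 2 F) :
    Nonempty (G ≃* Cfsg.PSU 6 K 2) ∨ Subgroup.centralizer ({z} : Set G) ⊔ Cfsg.oddCore G = ⊤ := by
  classical
  by_cases hiso : ∀ g : G, Commute z (g * z * g⁻¹) → g * z * g⁻¹ = z
  · exact Or.inr (top_of_isolated hz hiso)
  push Not at hiso
  obtain ⟨g, hgc, hgne⟩ := hiso
  obtain ⟨T, hT⟩ := U62From98.exists_ufacts hF (MulEquiv.refl (Cfsg.PSp 2 F))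
  haveI : IsSimpleGroup (Cfsg.PSp 2 F) :=
    SymplecticSimple.psp_simple (F := F) 2 le_rfl (fun _ => by omega)
  obtain ⟨J₀, φ₀, C⟩ := exists_ctx z hz hJ hJc hCJ e inferInstance hT.card
  obtain ⟨J, φ, S⟩ := exists_sys C hT
  have hx : Pair {d | ∃ g : G, g * z * g⁻¹ = d} z (g * z * g⁻¹) :=
    ⟨⟨1, by group⟩, ⟨g, rfl⟩, hgne.symm, hgc⟩
  have N := noJ S
  haveI : Fintype (GaloisField 2 2) := Fintype.ofFinite _
  have h4 : Fintype.card (GaloisField 2 2) = 4 := by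
    rw [← Nat.card_eq_fintype_card, GaloisField.card 2 2 two_ne_zero]; norm_num
  haveI : CharP K 2 := by
    refine charP_of_card_eq_prime_pow (R := K) (f := 2) ?_
    rw [hK]; norm_num
  obtain ⟨e6⟩ := (U62RecogIdent29.ident (setup S N (pairFacts S N) hx) (GaloisField 2 2) h4).2
  obtain ⟨f6⟩ := StemTransfer86.exists_psu_equiv (n := 6) (q := 2)
    (FiniteField.ringEquivOfCardEq (K := GaloisField 2 2) (K' := K) (h4.trans hK.symm))
  exact Or.inl ⟨e6.trans f6⟩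

end Cfsg.Agent.S3230
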