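import Cfsg.Statements.S3231
import Cfsg.Agent.Lib.U62From98AStart
import Cfsg.Agent.Lib.U62From98ACtx
import Cfsg.Agent.Lib.U62From98AIdent
import Cfsg.Agent.Lib.U62From98AJFacts
import Cfsg.Agent.Lib.U62From98AEval
import Cfsg.Agent.Lib.U62From98ACert
import Cfsg.Agent.Lib.SymplecticSimple

set_option autoImplicit false
open Cfsg Cfsg.Agent.U62From98

namespace Cfsg.Agent.S3231

/-- A normal subgroup of the automorphism group of a simple group of order divisible by five is
trivial or contains an element of square not one. -/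
theorem normal_subgroups {P : Type*} [Group P] [IsSimpleGroup P] {r σ : MulAut P}
    (AF : AFacts (MulAut.conj : P →* MulAut P).range r σ) :
    ∀ N : Subgroup (MulAut P), N.Normal → N = ⊥ ∨ ∃ s ∈ N, s * s ≠ 1 := by
  intro N hN
  obtain ⟨q, hq⟩ := AF.sigma_mem
  have hσ : σ * σ ≠ 1 := fun e => by
    have := orderOf_le_of_pow_eq_one two_pos (show σ ^ 2 = 1 by rw [pow_two]; exact e)
    rw [AF.sigma_order] at this
    omega
  rcases (hN.comap (MulAut.conj : P →* MulAut P)).eq_bot_or_eq_top with h | h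
  · left
    rw [Subgroup.eq_bot_iff_forall]
    intro n hn
    have hcen : Subgroup.center P = ⊥ := by
      refine (inferInstance : (Subgroup.center P).Normal).eq_bot_or_eq_top.resolve_right fun e => ?_
      have hq1 : (MulAut.conj q : MulAut P) = 1 := MulEquiv.ext fun p => by
        rw [MulAut.conj_apply]
        show q * p * q⁻¹ = p
        rw [Subgroup.mem_center_iff.1 (e ▸ Subgroup.mem_top p) q, mul_inv_cancel_right]
      exact hσ (by rw [← hq, hq1, one_mul])
    refine MulEquiv.ext fun p => ?_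
    show n p = p
    have key : MulAut.conj (n p * p⁻¹) = n * MulAut.conj p * n⁻¹ * (MulAut.conj p)⁻¹ := by
      rw [map_mul, map_inv]
      congr 1
      refine MulEquiv.ext fun v => ?_
      simp only [MulAut.conj_apply, MulAut.mul_apply, map_mul, map_inv]
      rw [show n (n⁻¹ v) = v by rw [← MulAut.mul_apply, mul_inv_cancel, MulAut.one_apply]]
    have hmem : n p * p⁻¹ ∈ N.comap (MulAut.conj : P →* MulAut P) := by
      rw [Subgroup.mem_comap, key,
        show n * MulAut.conj p * n⁻¹ * (MulAut.conj p)⁻¹ = n * (MulAut.conj p * n⁻¹ * (MulAut.conj p)⁻¹) by group]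
      exact N.mul_mem hn (hN.conj_mem _ (N.inv_mem hn) _)
    rw [h, Subgroup.mem_bot] at hmem
    exact mul_inv_eq_one.1 hmem
  · refine Or.inr ⟨σ, ?_, hσ⟩
    rw [← hq]
    show q ∈ N.comap (MulAut.conj : P →* MulAut P)
    rw [h]
    exact Subgroup.mem_top q

/-- Let G be a finite group with an involution z, H = C_G(z), such that J = O₂(H) is extraspecial of order 2⁹ with C_H(J) ≤ J and H/J ≅ Aut(PSp₄(3)). Then either G has a subgroup G₀ of index 2 with G₀ ≅ U₆(2) and C_G(G₀) = 1 (so that G embeds in Aut(G₀)), or G = H·O(G). -/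
theorem result {G : Type*} [Group G] [Finite G] (z : G) (hz : orderOf z = 2)
    {F : Type*} [Field F] [Fintype F] (hF : Fintype.card F = 3) {K : Type*} [Field K] [Fintype K] (hK : Fintype.card K = 4)
    (hJ : Cfsg.IsExtraspecial 2 ↥(Cfsg.pCore 2 ↥(Subgroup.centralizer ({z} : Set G)))) (hJc : Nat.card ↥(Cfsg.pCore 2 ↥(Subgroup.centralizer ({z} : Set G))) = 2 ^ 9)
    (hCJ : Subgroup.centralizer ((Cfsg.pCore 2 ↥(Subgroup.centralizer ({z} : Set G))) : Set ↥(Subgroup.centralizer ({z} : Set G))) ≤ Cfsg.pCore 2 ↥(Subgroup.centralizer ({z} : Set G))) [hJn : (Cfsg.pCore 2 ↥(Subgroup.centralizer ({z} : Set G))).Normal]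
    (e : (↥(Subgroup.centralizer ({z} : Set G)) ⧸ Cfsg.pCore 2 ↥(Subgroup.centralizer ({z} : Set G))) ≃* MulAut (Cfsg.PSp 2 F)) :
    (∃ G₀ : Subgroup G, G₀.index = 2 ∧ Nonempty (↥G₀ ≃* Cfsg.PSU 6 K 2) ∧ Subgroup.centralizer (G₀ : Set G) = ⊥) ∨
      Subgroup.centralizer ({z} : Set G) ⊔ Cfsg.oddCore G = ⊤ := by
  classical
  by_cases hiso : ∀ g : G, Commute z (g * z * g⁻¹) → g * z * g⁻¹ = z
  · exact Or.inr (top_of_isolated hz hiso)
  push Not at hiso
  haveI : IsSimpleGroup (Cfsg.PSp 2 F) :=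
    SymplecticSimple.psp_simple (F := F) 2 le_rfl (fun _ => by omega)
  obtain ⟨r, σ, AF⟩ := exists_afacts hF
  obtain ⟨J₀, φ₀, C⟩ := exists_ctx' z hz hJ hJc hCJ e (normal_subgroups AF)
  obtain ⟨J, φ, S⟩ := exists_asys C AF
  obtain ⟨Φ, hΦ⟩ := exists_sign_hom S S.jFacts
  exact Or.inl ⟨_, ident_kernel (S.ctx z ⟨1, by group⟩) AF Φ hΦ hiso hK⟩

end Cfsg.Agent.S3231
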