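import Cfsg.Statements.S3240
import Cfsg.Agent.Lib.ThreeSSC77Final
import Cfsg.Agent.Lib.ThreeSSC77Recog

set_option autoImplicit false
open Cfsg

namespace Cfsg.Agent.S3240

open Cfsg.Agent.ThreeSSC77

/-- Call a subgroup A of a finite group G strongly self-centralizing if C_G(a) = A for every non-identity a ∈ A. Let G be a finite non-abelian simple group with three pairwise non-conjugate strongly self-centralizing subgroups A₁, A₂, A₃ with [N_G(A₁) : A₁] = 2, [N_G(A₂) : A₂] = [N_G(A₃) : A₃] = 4, |A₁| = n₁ ≥ 5, |A₂| = n₂ > 5, |A₃| = n₃ > 5, such that |G| ≤ 3 n₁² n₂² n₃² and the Sylow r-subgroups of G are abelian for every odd prime r not dividing n₁n₂n₃. Then G is isomorphic to a Suzuki group. -/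
theorem result {G : Type*} [Group G] [Finite G] [IsSimpleGroup G] (hG : ¬ IsMulCommutative G)
    (A₁ A₂ A₃ : Subgroup G)
    (hsc : ∀ A ∈ ({A₁, A₂, A₃} : Set (Subgroup G)), ∀ a ∈ A, a ≠ 1 → Subgroup.centralizer ({a} : Set G) = A)
    (hnc : ∀ g : G, A₁.map (MulAut.conj g).toMonoidHom ≠ A₂ ∧ A₁.map (MulAut.conj g).toMonoidHom ≠ A₃ ∧ A₂.map (MulAut.conj g).toMonoidHom ≠ A₃)
    (h₁ : A₁.relIndex (Subgroup.normalizer (A₁ : Set G)) = 2) (h₂ : A₂.relIndex (Subgroup.normalizer (A₂ : Set G)) = 4)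
    (h₃ : A₃.relIndex (Subgroup.normalizer (A₃ : Set G)) = 4)
    (hn₁ : 5 ≤ Nat.card ↥A₁) (hn₂ : 5 < Nat.card ↥A₂) (hn₃ : 5 < Nat.card ↥A₃)
    (hord : Nat.card G ≤ 3 * Nat.card ↥A₁ ^ 2 * Nat.card ↥A₂ ^ 2 * Nat.card ↥A₃ ^ 2)
    (hab : ∀ r : ℕ, r.Prime → r ≠ 2 → ¬ r ∣ Nat.card ↥A₁ * Nat.card ↥A₂ * Nat.card ↥A₃ →
      ∀ P : Sylow r G, IsMulCommutative ↥(P : Subgroup G)) :
    Cfsg.Lie.IsoSuzuki G := by
  have c : Ctx A₁ A₂ A₃ :=
    { s1 := ⟨hsc A₁ (by simp), h₁, by omega⟩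
      s2 := ⟨hsc A₂ (by simp), h₂, by omega⟩
      s3 := ⟨hsc A₃ (by simp), h₃, by omega⟩
      n12 := fun g => (hnc g).1
      n13 := fun g => (hnc g).2.1
      n23 := fun g => (hnc g).2.2
      b1 := hn₁
      b2 := hn₂
      b3 := hn₃
      bound := hord }
  have hna : ∃ a b : G, a * b ≠ b * a := by
    by_contra hcon
    push Not at hcon
    exact hG ⟨⟨hcon⟩⟩
  obtain ⟨f, hf⟩ := c.s2.exists_order_four rfl
  have hout : ∀ x : G, x ≠ 1 → (∀ (i : Fin 3) g, g * x * g⁻¹ ∉ ![A₁, A₂, A₃] i) →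
      Outside A₁ A₂ A₃ x := fun x hx h =>
    ⟨hx, fun ⟨_, g, hg⟩ => h 0 g hg, fun ⟨_, g, hg⟩ => h 1 g hg, fun ⟨_, g, hg⟩ => h 2 g hg⟩
  refine recognise hna (isCIT c) f hf ![A₁, A₂, A₃] ![2, 4, 4] ⟨rfl, rfl, rfl⟩ ?_ ?_ ?_ ?_ ?_
    ⟨hn₁, c.mod2.2, c.mod3.2, c.mod2.1, c.mod3.1⟩ ?_
  · intro i; fin_cases i
    exacts [c.odd1, c.odd2, c.odd3]
  · intro i k hik; fin_cases i <;> fin_cases k
    exacts [absurd rfl hik, c.cop12, c.cop13, c.cop12.symm, absurd rfl hik, c.cop23,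
      c.cop13.symm, c.cop23.symm, absurd rfl hik]
  · intro i; fin_cases i
    exacts [c.s1.coprime_index, c.s2.coprime_index, c.s3.coprime_index]
  · intro i; fin_cases i
    exacts [c.s1.cent, c.s2.cent, c.s3.cent]
  · intro i; fin_cases i
    exacts [h₁, h₂, h₃]
  · intro x hx hxo hxf
    rcases odd_outside c (hout x hx hxf) hxo with h | h
    · exact Or.inl fun y hy hyo hyf => h y (hout y hy hyf) hyo
    · exact Or.inr h

end Cfsg.Agent.S3240
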