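import Cfsg.Statements.S3246
import Mathlib
import Cfsg.Agent.Lib.HallLocalConstrainedExt
import Cfsg.Agent.Lib.PGroupsBasic

set_option autoImplicit false
open Cfsg

namespace Cfsg.Agent.S3246


open Cfsg.Agent.HallCore Cfsg.Agent.HallConstrained Cfsg.Agent.HallLocalConstrainedExt

lemma eq_one_of_odd_of_two {H : Type*} [Group H] [Finite H] {P Y : Subgroup H} (hP : IsPGroup 2 P)
    (hY : Odd (Nat.card Y)) {g : H} (hgP : g ∈ P) (hgY : g ∈ Y) : g = 1 := by
  obtain ⟨k, hk⟩ := IsPGroup.iff_card.1 hP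
  have h1 : orderOf g ∣ 2 ^ k := hk ▸ Subgroup.orderOf_dvd_natCard P hgP
  have h2 : orderOf g ∣ Nat.card Y := Subgroup.orderOf_dvd_natCard Y hgY
  exact orderOf_eq_one_iff.1 (Nat.eq_one_of_dvd_coprimes
    ((Nat.coprime_two_left.2 hY).pow_left k) h1 h2)

/-- In a group with self-centralizing normal 2-subgroup, a 2-subgroup with index at most 2 in a
Sylow 2-subgroup normalizes no nontrivial subgroup of odd order. -/
lemma trivial_of_index_le_two {H : Type*} [Group H] [Finite H] (P C Y : Subgroup H) [P.Normal]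
    (hP : IsPGroup 2 P) (hcen : Subgroup.centralizer (P : Set H) ≤ P) (hC : IsPGroup 2 C)
    (hmax : ∀ U : Subgroup H, IsPGroup 2 U → Nat.card U ≤ 2 * Nat.card C)
    (hY : Odd (Nat.card Y)) (hCY : ∀ c ∈ C, ∀ y ∈ Y, c * y * c⁻¹ ∈ Y) : Y = ⊥ := by
  have hPC : IsPGroup 2 ↥(P ⊔ C) := hP.to_sup_of_normal_left hC
  have hfix : ∀ q ∈ P, q ∈ C → ∀ y ∈ Y, y * q * y⁻¹ = q := by
    intro q hq hqC y hy
    have hA : q * y * q⁻¹ * y⁻¹ = 1 := by
      refine eq_one_of_odd_of_two hP hY ?_ (Y.mul_mem (hCY q hqC y hy) (Y.inv_mem hy))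
      rw [mul_assoc, mul_assoc]
      refine P.mul_mem hq ?_
      rw [← mul_assoc]
      exact Subgroup.Normal.conj_mem ‹_› _ (P.inv_mem hq) y
    calc y * q * y⁻¹ = (q * y * q⁻¹ * y⁻¹)⁻¹ * q := by group
      _ = q := by rw [hA]; group
  have hidx : C.relIndex P ≤ 2 := by
    refine le_trans (Subgroup.relIndex_le_of_le_right (L := P ⊔ C) le_sup_left
      Subgroup.index_ne_zero_of_finite) ?_
    have h1 : Nat.card C * C.relIndex (P ⊔ C) = Nat.card ↥(P ⊔ C) :=
      card_mul_relIndex le_sup_right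
    have h2 := hmax _ hPC
    rw [← h1, mul_comm 2] at h2
    exact Nat.le_of_mul_le_mul_left h2 Nat.card_pos
  have hall : ∀ q ∈ P, ∀ y ∈ Y, y * q * y⁻¹ = q := by
    intro q hq y hy
    by_cases hqC : q ∈ C
    · exact hfix q hq hqC y hy
    have hi2 : (C.subgroupOf P).index = 2 := by
      have hne : C.relIndex P ≠ 1 := fun h => hqC (Subgroup.relIndex_eq_one.1 h hq)
      have : C.relIndex P ≠ 0 := Subgroup.index_ne_zero_of_finite
      show C.relIndex P = 2
      omega
    have hyq : y * q * y⁻¹ ∈ P := Subgroup.Normal.conj_mem ‹_› q hq y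
    have hyqC : y * q * y⁻¹ ∉ C := by
      intro h
      have := hfix _ hyq h y⁻¹ (Y.inv_mem hy)
      apply hqC
      rw [show q = y * q * y⁻¹ by rw [← this]; group]
      exact h
    have hcC : q⁻¹ * (y * q * y⁻¹) ∈ C := by
      have := (Subgroup.mul_mem_iff_of_index_two hi2 (a := (⟨q, hq⟩ : P)⁻¹)
        (b := ⟨y * q * y⁻¹, hyq⟩)).2 (by simp [Subgroup.mem_subgroupOf, hqC, hyqC])
      exact this
    set c := q⁻¹ * (y * q * y⁻¹) with hc
    have hcP : c ∈ P := P.mul_mem (P.inv_mem hq) hyq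
    have hpow : ∀ k : ℕ, y ^ k * q * (y ^ k)⁻¹ = q * c ^ k := by
      intro k
      induction k with
      | zero => simp
      | succ k ih =>
        have h3 : y ^ k * c * (y ^ k)⁻¹ = c := hfix c hcP hcC _ (Y.pow_mem hy k)
        calc y ^ (k + 1) * q * (y ^ (k + 1))⁻¹ = y ^ k * (q * c) * (y ^ k)⁻¹ := by
              rw [hc, pow_succ]; group
          _ = (y ^ k * q * (y ^ k)⁻¹) * (y ^ k * c * (y ^ k)⁻¹) := by group
          _ = _ := by rw [ih, h3, pow_succ]; group
    have h4 := hpow (Nat.card Y)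
    have h5 : y ^ Nat.card Y = 1 :=
      orderOf_dvd_iff_pow_eq_one.1 (Subgroup.orderOf_dvd_natCard Y hy)
    rw [h5, one_mul, inv_one, mul_one, eq_comm, mul_eq_left] at h4
    have h6 : c = 1 := by
      obtain ⟨k, hk⟩ := IsPGroup.iff_card.1 hP
      exact orderOf_eq_one_iff.1 (Nat.eq_one_of_dvd_coprimes
        ((Nat.coprime_two_left.2 hY).pow_left k) (hk ▸ Subgroup.orderOf_dvd_natCard P hcP)
        (orderOf_dvd_of_pow_eq_one h4))
    rw [hc, inv_mul_eq_one] at h6
    exact h6.symm
  rw [Subgroup.eq_bot_iff_forall]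
  intro y hy
  refine eq_one_of_odd_of_two hP hY (hcen ?_) hy
  intro q hq
  calc q * y = (y * q * y⁻¹) * y := by rw [hall q hq y hy]
    _ = y * q := by group

lemma inverts_of_fpf {H : Type*} [Group H] [Finite H] (X : Subgroup H) (e : H) (he : e * e = 1)
    (hn : ∀ x ∈ X, e * x * e ∈ X) (hf : ∀ x ∈ X, e * x * e = x → x = 1) :
    ∀ x ∈ X, e * x * e = x⁻¹ := by
  have hinv : e⁻¹ = e := inv_eq_of_mul_eq_one_right he
  let f : X → X := fun x => ⟨(x : H)⁻¹ * (e * x * e), X.mul_mem (X.inv_mem x.2) (hn x x.2)⟩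
  have finj : Function.Injective f := by
    rintro ⟨a, ha⟩ ⟨b, hb⟩ hab
    have h : a⁻¹ * (e * a * e) = b⁻¹ * (e * b * e) := congrArg Subtype.val hab
    have h2 := hf (b * a⁻¹) (X.mul_mem hb (X.inv_mem ha)) (by
      calc e * (b * a⁻¹) * e = (e * b * e) * (e * a * e)⁻¹ := by
            rw [mul_inv_rev, mul_inv_rev, hinv]; simp [← mul_assoc]; rw [mul_assoc (e * b) e e, he, mul_one]
        _ = b * (b⁻¹ * (e * b * e)) * (e * a * e)⁻¹ := by group
        _ = b * (a⁻¹ * (e * a * e)) * (e * a * e)⁻¹ := by rw [h]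
        _ = b * a⁻¹ := by group)
    exact Subtype.ext (mul_inv_eq_one.1 h2).symm
  intro y hy
  obtain ⟨⟨x, hx⟩, hxy⟩ := (Finite.injective_iff_surjective.1 finj) ⟨y, hy⟩
  have h : x⁻¹ * (e * x * e) = y := congrArg Subtype.val hxy
  rw [← h, mul_inv_rev, mul_inv_rev, mul_inv_rev, hinv, inv_inv]
  simp only [← mul_assoc]
  rw [mul_assoc _ e e, he, mul_one]

lemma normalizer_zpowers_involution {H : Type*} [Group H] {e : H} (he : orderOf e = 2) :
    Subgroup.normalizer (Subgroup.zpowers e : Set H) = Subgroup.centralizer ({e} : Set H) := by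
  ext x
  rw [Subgroup.mem_centralizer_singleton_iff]
  constructor
  · intro hx
    have h := (Subgroup.mem_normalizer_iff.1 hx e).1 (Subgroup.mem_zpowers e)
    obtain ⟨k, hk⟩ := Subgroup.mem_zpowers_iff.1 h
    rw [← zpow_mod_orderOf, he] at hk
    rcases Int.emod_two_eq_zero_or_one k with h0 | h0
    · rw [show ((2 : ℕ) : ℤ) = 2 from rfl, h0, zpow_zero, eq_comm, mul_inv_eq_one] at hk
      have : e = 1 := mul_eq_left.1 hk
      rw [this, orderOf_one] at he
      omega
    · rw [show ((2 : ℕ) : ℤ) = 2 from rfl, h0, zpow_one, eq_mul_inv_iff_mul_eq] at hk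
      exact hk.symm
  · intro hx
    rw [Subgroup.mem_normalizer_iff]
    have hk : ∀ k : ℤ, x * e ^ k * x⁻¹ = e ^ k := fun k => by
      rw [(Commute.zpow_right hx k).eq, mul_inv_cancel_right]
    intro h
    constructor
    · intro hh
      obtain ⟨k, rfl⟩ := Subgroup.mem_zpowers_iff.1 hh
      rw [hk]; exact hh
    · intro hh
      obtain ⟨k, hk'⟩ := Subgroup.mem_zpowers_iff.1 hh
      refine Subgroup.mem_zpowers_iff.2 ⟨k, ?_⟩
      rw [← hk k] at hk'
      exact mul_left_cancel (mul_right_cancel hk')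

/-- A noncyclic elementary abelian normal subgroup of a 2-group contains a normal four group. -/
lemma exists_four {H : Type*} [Group H] [Finite H] (hH : IsPGroup 2 H) (E : Subgroup H) [E.Normal]
    (h2 : ∀ a ∈ E, a * a = 1) (hE : 2 < Nat.card E) :
    ∃ z u : H, z ∈ Subgroup.center H ∧ z ≠ 1 ∧ z * z = 1 ∧ u ≠ 1 ∧ u * u = 1 ∧ u ≠ z ∧
      (∀ s, s * u * s⁻¹ = u ∨ s * u * s⁻¹ = u * z) := by
  have hEb : E ≠ ⊥ := fun h => by rw [h, Subgroup.card_bot] at hE; omega
  obtain ⟨z, hz, hz1⟩ := (Subgroup.bot_or_exists_ne_one _).resolve_left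
    (Cfsg.Agent.PGroupsBasic.inf_center_ne_bot hH hEb)
  set Z := Subgroup.zpowers z with hZ
  haveI hZn : Z.Normal := ⟨fun a ha g => by
    have hc : g * a = a * g := Subgroup.mem_center_iff.1 (Subgroup.zpowers_le.2 hz.2 ha) g
    rwa [hc, mul_inv_cancel_right]⟩
  have hoz : orderOf z = 2 := orderOf_eq_prime (by rw [pow_two]; exact h2 z hz.1) hz1
  set π := QuotientGroup.mk' Z
  haveI : (E.map π).Normal := Subgroup.Normal.map inferInstance π (QuotientGroup.mk'_surjective Z)
  have hne : E.map π ≠ ⊥ := by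
    intro h
    rw [Subgroup.map_eq_bot_iff, QuotientGroup.ker_mk'] at h
    have := Subgroup.card_le_of_le h
    rw [hZ, Nat.card_zpowers, hoz] at this
    omega
  obtain ⟨v, hv, hv1⟩ := (Subgroup.bot_or_exists_ne_one _).resolve_left
    (Cfsg.Agent.PGroupsBasic.inf_center_ne_bot (hH.to_quotient Z) hne)
  obtain ⟨u, hu, rfl⟩ := hv.1
  refine ⟨z, u, hz.2, hz1, h2 z hz.1, fun h => hv1 (by rw [h, map_one]), h2 u hu, ?_, fun s => ?_⟩
  · intro h
    exact hv1 ((QuotientGroup.eq_one_iff u).2 (h ▸ Subgroup.mem_zpowers z))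
  · have h : (π u)⁻¹ * (π s * π u * (π s)⁻¹) = 1 := by
      rw [Subgroup.mem_center_iff.1 hv.2 (π s)]; group
    rw [← map_inv, ← map_inv, ← map_mul, ← map_mul, ← map_mul] at h
    have hm := (QuotientGroup.eq_one_iff _).1 h
    obtain ⟨k, hk⟩ := Subgroup.mem_zpowers_iff.1 hm
    rw [← zpow_mod_orderOf, hoz] at hk
    rcases Int.emod_two_eq_zero_or_one k with h0 | h0
    · rw [show ((2 : ℕ) : ℤ) = 2 from rfl, h0, zpow_zero, eq_comm, inv_mul_eq_one] at hk
      exact Or.inl hk.symm
    · rw [show ((2 : ℕ) : ℤ) = 2 from rfl, h0, zpow_one, eq_inv_mul_iff_mul_eq] at hk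
      exact Or.inr hk.symm

/-- Let G be a finite group whose Sylow 2-subgroup S has a self-centralizing normal subgroup of rank at least 3. Suppose that either every maximal 2-local subgroup of G is 2-constrained with no nontrivial normal subgroup of odd order, or the centralizer of every involution of G is 2-constrained with no nontrivial normal subgroup of odd order. Then S normalizes no nontrivial subgroup of G of odd order and every 2-local subgroup of G is 2-constrained. -/
theorem result {G : Type*} [Group G] [Finite G]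
    (S : Sylow 2 G) (A : Subgroup G) (hA : Cfsg.IsSCN (S : Subgroup G) A) (hA3 : ¬ Cfsg.PRankLE 2 2 ↥A)
    (h : (∀ M : Subgroup G, Cfsg.IsMaximalTwoLocal M → Cfsg.IsPConstrained 2 ↥M ∧ Cfsg.oddCore ↥M = ⊥) ∨
      (∀ t : G, orderOf t = 2 → Cfsg.IsPConstrained 2 ↥(Subgroup.centralizer ({t} : Set G)) ∧
        Cfsg.oddCore ↥(Subgroup.centralizer ({t} : Set G)) = ⊥)) :
    (∀ X : Subgroup G, Odd (Nat.card ↥X) → (S : Subgroup G) ≤ Subgroup.normalizer (X : Set G) → X = ⊥) ∧
      (∀ T : Subgroup G, IsPGroup 2 ↥T → T ≠ ⊥ → Cfsg.IsPConstrained 2 ↥(Subgroup.normalizer (T : Set G))) := by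
  classical
  set S' : Subgroup G := (S : Subgroup G) with hS'
  obtain ⟨hAS, hSA, hAC⟩ := hA
  have hAcomm : ∀ a ∈ A, ∀ b ∈ A, a * b = b * a := by
    intro a ha b hb
    have hb' : b ∈ S' ⊓ Subgroup.centralizer (A : Set G) := hAC.symm ▸ hb
    exact hb'.2 a ha
  let E : Subgroup S' :=
    { carrier := {s | (s : G) ∈ A ∧ s * s = 1}
      one_mem' := ⟨A.one_mem, one_mul 1⟩
      mul_mem' := by
        rintro a b ⟨ha, ha2⟩ ⟨hb, hb2⟩
        refine ⟨A.mul_mem ha hb, ?_⟩
        have hab : a * b = b * a := Subtype.ext (hAcomm a ha b hb)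
        rw [mul_assoc, ← mul_assoc b, ← hab, mul_assoc a b b, hb2, mul_one, ha2]
      inv_mem' := by
        rintro a ⟨ha, ha2⟩
        exact ⟨A.inv_mem ha, by rw [← mul_inv_rev, ha2, inv_one]⟩ }
  haveI : E.Normal := ⟨fun a ha s => by
    refine ⟨(Subgroup.mem_normalizer_iff.1 (hSA s.2) a).1 ha.1, ?_⟩
    calc s * a * s⁻¹ * (s * a * s⁻¹) = s * (a * a) * s⁻¹ := by group
      _ = 1 := by rw [ha.2]; group⟩
  have hE : 2 < Nat.card E := by
    simp only [Cfsg.PRankLE, not_forall, not_le] at hA3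
    obtain ⟨B, -, hB2, hB⟩ := hA3
    let f : B → E := fun b => ⟨⟨((b : A) : G), hAS (b : A).2⟩, (b : A).2, Subtype.ext (by
      have := congrArg Subtype.val (hB2 _ b.2)
      simpa [pow_two] using this)⟩
    have hf : Function.Injective f := fun a b hab => Subtype.ext (Subtype.ext
      (congrArg (fun e : E => ((e : S') : G)) hab))
    have := Nat.card_le_card_of_injective f hf
    omega
  obtain ⟨z', u', hz', hz1', hz2', hu1', hu2', huz', huS'⟩ := exists_four S.isPGroup' E
    (fun a ha => ha.2) hE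
  set z : G := (z' : G) with hzdef
  set u : G := (u' : G) with hudef
  have hz1 : z ≠ 1 := fun h => hz1' (Subtype.ext h)
  have hu1 : u ≠ 1 := fun h => hu1' (Subtype.ext h)
  have hz2 : z * z = 1 := congrArg Subtype.val hz2'
  have hu2 : u * u = 1 := congrArg Subtype.val hu2'
  have hzc : ∀ s ∈ S', s * z = z * s := fun s hs =>
    congrArg Subtype.val (Subgroup.mem_center_iff.1 hz' ⟨s, hs⟩)
  have huz : u * z = z * u := hzc u u'.2
  set C := S' ⊓ Subgroup.centralizer ({u} : Set G) with hC
  have hcardC : Nat.card S' ≤ 2 * Nat.card C := by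
    by_cases hall : ∀ s ∈ S', s * u * s⁻¹ = u
    · have : S' ≤ C := fun s hs => ⟨hs, Subgroup.mem_centralizer_singleton_iff.2
        (mul_inv_eq_iff_eq_mul.1 (hall s hs))⟩
      have := Subgroup.card_le_of_le this
      omega
    · simp only [not_forall] at hall
      obtain ⟨s₀, hs₀, hne⟩ := hall
      have hs₀u : s₀ * u * s₀⁻¹ = u * z := by
        rcases huS' ⟨s₀, hs₀⟩ with h | h
        · exact absurd (congrArg Subtype.val h) hne
        · exact congrArg Subtype.val h
      have hmem : ∀ s : S', ((s : G) * u * (s : G)⁻¹ ≠ u) → s₀⁻¹ * (s : G) ∈ C := by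
        intro s hs
        refine ⟨S'.mul_mem (S'.inv_mem hs₀) s.2, Subgroup.mem_centralizer_singleton_iff.2 ?_⟩
        have hsu : (s : G) * u * (s : G)⁻¹ = s₀ * u * s₀⁻¹ := by
          rw [hs₀u]
          rcases huS' s with h | h
          · exact absurd (congrArg Subtype.val h) hs
          · exact congrArg Subtype.val h
        calc s₀⁻¹ * (s : G) * u = s₀⁻¹ * ((s : G) * u * (s : G)⁻¹) * s := by group
          _ = u * (s₀⁻¹ * s) := by rw [hsu]; group
      let g : S' → C × Bool := fun s =>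
        if hs : (s : G) * u * (s : G)⁻¹ = u then
          (⟨s, s.2, Subgroup.mem_centralizer_singleton_iff.2 (mul_inv_eq_iff_eq_mul.1 hs)⟩, true)
        else (⟨_, hmem s hs⟩, false)
      have hg : Function.Injective g := by
        intro a b hab
        simp only [g] at hab
        split_ifs at hab with ha hb hb
        · exact Subtype.ext (congrArg (fun p : C × Bool => (p.1 : G)) hab)
        · exact absurd (congrArg Prod.snd hab) (by simp)
        · exact absurd (congrArg Prod.snd hab) (by simp)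
        · exact Subtype.ext (mul_left_cancel (congrArg (fun p : C × Bool => (p.1 : G)) hab))
      have := Nat.card_le_card_of_injective g hg
      rw [Nat.card_prod, Nat.card_eq_fintype_card (α := Bool), Fintype.card_bool] at this
      omega
  have hCp : IsPGroup 2 C := S.isPGroup'.to_le inf_le_left
  refine ⟨fun X hX hSX => ?_, fun T hT hT1 => ?_⟩
  · have key : ∀ e : G, e ≠ 1 → e * e = 1 → (∀ c ∈ C, c * e = e * c) →
        ∀ x ∈ X, e * x * e = x → x = 1 := by
      intro e he1 he2 hCe
      have hoe : orderOf e = 2 := orderOf_eq_prime (by rw [pow_two]; exact he2) he1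
      have hinv : e⁻¹ = e := inv_eq_of_mul_eq_one_right he2
      obtain ⟨M, hM, hMc, hMO⟩ : ∃ M : Subgroup G, Subgroup.centralizer ({e} : Set G) ≤ M ∧
          Cfsg.IsPConstrained 2 ↥M ∧ Cfsg.oddCore ↥M = ⊥ := by
        rcases h with h | h
        · obtain ⟨M, hM⟩ := (Set.toFinite {M : Subgroup G | Cfsg.IsTwoLocal M ∧
            Subgroup.centralizer ({e} : Set G) ≤ M}).exists_maximal
            ⟨_, ⟨Subgroup.zpowers e, IsPGroup.of_card (n := 1) (by rw [Nat.card_zpowers, hoe, pow_one]),
              by rw [Ne, Subgroup.zpowers_eq_bot]; exact he1,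
              (normalizer_zpowers_involution hoe).symm⟩, le_rfl⟩
          have hm := h M ⟨hM.1.1, fun N hN hle =>
            le_antisymm (hM.le_of_ge ⟨hN, hM.1.2.trans hle⟩ hle) hle⟩
          exact ⟨M, hM.1.2, hm.1, hm.2⟩
        · exact ⟨_, le_rfl, (h e hoe).1, (h e hoe).2⟩
      set Y := X ⊓ Subgroup.centralizer ({e} : Set G) with hY
      have hCM : C ≤ M := fun c hc => hM (Subgroup.mem_centralizer_singleton_iff.2 (hCe c hc))
      have hYM : Y ≤ M := inf_le_right.trans hM
      have hcen : Subgroup.centralizer (Cfsg.pCore 2 ↥M : Set ↥M) ≤ Cfsg.pCore 2 ↥M :=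
        (isPConstrained_iff_of_bot hMO).1 hMc
      have hres : Y.subgroupOf M = ⊥ := by
        refine trivial_of_index_le_two (Cfsg.pCore 2 ↥M) (C.subgroupOf M) _ (isPGroup_pCore 2 ↥M)
          hcen (hCp.comap_of_injective M.subtype M.subtype_injective) (fun U hU => ?_) ?_ ?_
        · obtain ⟨T, hT⟩ := (hU.map M.subtype).exists_le_sylow
          have h1 := Subgroup.card_le_of_le hT
          rw [Subgroup.card_map_of_injective M.subtype_injective] at h1
          have h2 : Nat.card (T : Subgroup G) = Nat.card S' :=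
            (T.card_eq_multiplicity).trans S.card_eq_multiplicity.symm
          rw [Nat.card_congr (Subgroup.subgroupOfEquivOfLe hCM).toEquiv]
          omega
        · rw [Nat.card_congr (Subgroup.subgroupOfEquivOfLe hYM).toEquiv]
          exact hX.of_dvd_nat (Subgroup.card_dvd_of_le inf_le_left)
        · rintro ⟨c, hcM⟩ hc ⟨y, hyM⟩ hy
          rw [Subgroup.mem_subgroupOf] at hc hy ⊢
          refine ⟨(Subgroup.mem_normalizer_iff.1 (hSX hc.1) y).1 hy.1, ?_⟩
          show c * y * c⁻¹ ∈ Subgroup.centralizer ({e} : Set G)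
          have hce : c ∈ Subgroup.centralizer ({e} : Set G) :=
            Subgroup.mem_centralizer_singleton_iff.2 (hCe c hc)
          exact Subgroup.mul_mem _ (Subgroup.mul_mem _ hce hy.2) (Subgroup.inv_mem _ hce)
      intro x hx hxe
      have hxY : x ∈ Y := by
        refine ⟨hx, Subgroup.mem_centralizer_singleton_iff.2 ?_⟩
        calc x * e = e * x * e * e := by rw [hxe]
          _ = e * x * (e * e) := by group
          _ = e * x := by rw [he2, mul_one]
      exact Subgroup.eq_bot_iff_forall _ |>.1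
        (by rw [Subgroup.subgroupOf_eq_bot, disjoint_iff, inf_eq_left.2 hYM] at hres; exact hres) x hxY
    have kz := key z hz1 hz2 (fun c hc => hzc c hc.1)
    have ku := key u hu1 hu2 (fun c hc => Subgroup.mem_centralizer_singleton_iff.1 hc.2)
    have hzu1 : z * u ≠ 1 := fun h => huz' (Subtype.ext (mul_left_cancel (h.trans hz2.symm)))
    have hzu2 : (z * u) * (z * u) = 1 := by
      rw [mul_assoc, ← mul_assoc u, huz, mul_assoc z u u, hu2, mul_one, hz2]
    have kzu := key (z * u) hzu1 hzu2 (fun c hc => by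
      rw [← mul_assoc, hzc c hc.1, mul_assoc, Subgroup.mem_centralizer_singleton_iff.1 hc.2, mul_assoc])
    have hn : ∀ e : G, e * e = 1 → e ∈ S' → ∀ x ∈ X, e * x * e ∈ X := fun e he heS x hx => by
      have := (Subgroup.mem_normalizer_iff.1 (hSX heS) x).1 hx
      rwa [inv_eq_of_mul_eq_one_right he] at this
    have iz := inverts_of_fpf X z hz2 (hn z hz2 z'.2) kz
    have iu := inverts_of_fpf X u hu2 (hn u hu2 u'.2) ku
    rw [Subgroup.eq_bot_iff_forall]
    intro x hx
    refine kzu x hx ?_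
    calc z * u * x * (z * u) = z * u * x * (u * z) := by rw [huz]
      _ = z * (u * x * u) * z := by group
      _ = z * x⁻¹ * z := by rw [iu x hx]
      _ = x := by rw [iz x⁻¹ (X.inv_mem hx), inv_inv]
  · rcases h with h | h
    · obtain ⟨M, hM⟩ := (Set.toFinite {M : Subgroup G | Cfsg.IsTwoLocal M ∧
        Subgroup.normalizer (T : Set G) ≤ M}).exists_maximal ⟨_, ⟨T, hT, hT1, rfl⟩, le_rfl⟩
      exact isPConstrained_normalizer_of_le (h M ⟨hM.1.1, fun N hN hle =>
        le_antisymm (hM.le_of_ge ⟨hN, hM.1.2.trans hle⟩ hle) hle⟩).1 hT hM.1.2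
    · set N := Subgroup.normalizer (T : Set G)
      have hTN : T ≤ N := Subgroup.le_normalizer
      have : (T.subgroupOf N).Normal := Subgroup.normal_in_normalizer
      refine isPConstrained_of_centralizer (T := T.subgroupOf N)
        (hT.comap_of_injective N.subtype N.subtype_injective) ?_
      have : Nontrivial T := (Subgroup.nontrivial_iff_ne_bot T).mpr hT1
      have hcen := hT.center_nontrivial
      obtain ⟨w, hw⟩ := exists_prime_orderOf_dvd_card' (G := Subgroup.center T) 2 (by
        obtain ⟨k, hk, hk'⟩ := (hT.to_subgroup (Subgroup.center T)).nontrivial_iff_card.mp hcen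
        exact hk' ▸ dvd_pow_self 2 hk.ne')
      set x : G := ((w : T) : G)
      have hx : orderOf x = 2 := by rw [← hw, Subgroup.orderOf_coe, Subgroup.orderOf_coe]
      have hTx : T ≤ Subgroup.centralizer ({x} : Set G) := by
        intro t ht y hy
        rw [Set.mem_singleton_iff] at hy
        subst hy
        exact (congrArg Subtype.val (Subgroup.mem_center_iff.mp w.2 ⟨t, ht⟩)).symm
      have hCx : Subgroup.centralizer (T : Set G) ≤ Subgroup.centralizer ({x} : Set G) :=
        Subgroup.centralizer_le (by simp [x])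
      refine isPConstrained_of_equiv ?_
        (isPConstrained_centralizer_of_le (h x hx).1 hT hTx hCx)
      refine (Subgroup.equivMapOfInjective _ N.subtype N.subtype_injective).trans
        (MulEquiv.subgroupCongr ?_)
      rw [map_centralizer_subgroupOf hTN, inf_eq_right.mpr (Subgroup.centralizer_le_normalizer _)]

end Cfsg.Agent.S3246
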