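import Cfsg.Statements.S3250
import Cfsg.Agent.Lib.MaxSylow128Central78
import Cfsg.Agent.Lib.NormalFourGroup
import Cfsg.Agent.Lib.PSLCard
import Cfsg.Agent.Lib.DicksonTorus
import Cfsg.Agent.S0508
import Cfsg.Agent.S0218
import Cfsg.Agent.S1213
import Cfsg.Agent.Lib.ExtTwoLayer

set_option autoImplicit false
open Cfsg

namespace Cfsg.Agent.S3250

open Subgroup Cfsg.Agent.MaxSylow128x78

universe u

/-- A `2`-subgroup of order `2 ^ k` starts a chain of length `k`. -/
theorem exists_chain {G : Type*} [Group G] [Finite G] : ∀ (k : ℕ) (K : Subgroup G),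
    Nat.card K = 2 ^ k → ∃ c : Fin (k + 1) → Subgroup G, StrictAnti c ∧ c 0 = K := by
  haveI : Fact (Nat.Prime 2) := ⟨Nat.prime_two⟩
  intro k
  induction k with
  | zero => exact fun K _ => ⟨fun _ => K, fun i j h => absurd h (by omega), rfl⟩
  | succ k ih =>
    intro K hK
    obtain ⟨Q, hQ⟩ := Sylow.exists_subgroup_card_pow_prime 2 (G := K) (n := k)
      (by rw [hK]; exact pow_dvd_pow 2 (Nat.le_succ k))
    have hc : Nat.card (Q.map K.subtype) = 2 ^ k := by
      rw [Nat.card_congr (Q.equivMapOfInjective _ K.subtype_injective).symm.toEquiv, hQ]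
    obtain ⟨c, hc', hc0⟩ := ih _ hc
    refine ⟨Fin.cons K c, ?_, Fin.cons_zero _ _⟩
    rw [Fin.strictAnti_iff_succ_lt]
    intro i
    refine Fin.cases ?_ (fun j => ?_) i
    · rw [Fin.castSucc_zero, Fin.cons_zero, Fin.cons_succ, hc0]
      refine lt_of_le_of_ne (map_subtype_le _) fun h => ?_
      rw [h, hK, pow_succ] at hc
      have := Nat.two_pow_pos k
      omega
    · rw [← Fin.succ_castSucc, Fin.cons_succ, Fin.cons_succ]
      exact hc' (Fin.castSucc_lt_succ (i := j))

/-- A Sylow subgroup of order `2^7` is maximal when there are no chains of length `9`. -/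
theorem hyp_of_chain {G : Type*} [Group G] [Finite G] [IsSimpleGroup G]
    (hG : ¬ IsMulCommutative G) (h9 : ∀ c : Fin 10 → Subgroup G, ¬ StrictAnti c)
    (S : Sylow 2 G) (hS : Nat.card (S : Subgroup G) = 2 ^ 7) : Hyp S := by
  refine ⟨hS, fun K hK => ?_, hG⟩
  by_contra hKt
  obtain ⟨c, hc, hc0⟩ := exists_chain 7 (S : Subgroup G) hS
  refine h9 (Fin.cons ⊤ (Fin.cons K c)) ?_
  rw [Fin.strictAnti_iff_succ_lt]
  intro i
  refine Fin.cases ?_ (fun j => ?_) i
  · rw [Fin.castSucc_zero, Fin.cons_zero, Fin.cons_succ, Fin.cons_zero]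
    exact lt_top_iff_ne_top.2 hKt
  · rw [← Fin.succ_castSucc, Fin.cons_succ, Fin.cons_succ]
    refine Fin.cases ?_ (fun l => ?_) j
    · simp only [Fin.castSucc_zero, Fin.cons_zero, Fin.cons_succ, hc0]
      exact hK
    · rw [← Fin.succ_castSucc, Fin.cons_succ, Fin.cons_succ]
      exact hc (Fin.castSucc_lt_succ (i := l))

variable {G : Type*} [Group G] [Finite G] [IsSimpleGroup G] {S : Sylow 2 G}

/-- A cyclic subgroup of order `64` of a Sylow subgroup gives a central involution. -/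
theorem cent_of_order (H : Hyp S) {s : G} (hs : s ∈ (S : Subgroup G)) (ho : orderOf s = 64) :
    Cent S (s ^ 32) := by
  have h2 : orderOf (s ^ 32) = 2 := by
    rw [orderOf_pow' s (by norm_num), ho]; norm_num
  have hsq : s ^ 32 * s ^ 32 = 1 := by
    rw [← pow_add, show (32 : ℕ) + 32 = orderOf s by rw [ho], pow_orderOf_eq_one]
  have hne : s ^ 32 ≠ 1 := fun h => by rw [h, orderOf_one] at h2; omega
  refine ⟨pow_mem hs _, hne, hsq, fun x hx => ?_⟩
  have hidx : ((zpowers s).subgroupOf (S : Subgroup G)).index = 2 := by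
    have h := ((zpowers s).subgroupOf (S : Subgroup G)).card_mul_index
    rw [Nat.card_congr (subgroupOfEquivOfLe (zpowers_le.2 hs)).toEquiv, Nat.card_zpowers, ho,
      H.card] at h
    omega
  have hmem : x * s * x⁻¹ ∈ zpowers s := mem_subgroupOf.1
    ((normal_of_index_eq_two hidx).conj_mem ⟨s, hs⟩ (mem_subgroupOf.2 (mem_zpowers s)) ⟨x, hx⟩)
  obtain ⟨r, hr⟩ := mem_zpowers_iff.1 hmem
  have hconj : x * s ^ 32 * x⁻¹ = (s ^ 32) ^ r := by
    rw [← conj_pow, ← hr, ← zpow_natCast, ← zpow_natCast, ← zpow_mul, ← zpow_mul, mul_comm]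
  rcases Int.even_or_odd' r with ⟨l, rfl | rfl⟩
  · rw [zpow_mul, zpow_two, hsq, one_zpow] at hconj
    exact absurd (conj_eq_one_iff.1 hconj) hne
  · rw [zpow_add, zpow_mul, zpow_two, hsq, one_zpow, one_mul, zpow_one] at hconj
    exact mul_inv_eq_iff_eq_mul.1 hconj

/-- Sylow subgroups without normal four group: the dihedral case. -/
theorem of_dihedral (H : Hyp S) {z : G} (hz : Cent S z) {m : ℕ}
    (hm : Nonempty ((S : Subgroup G) ≃* DihedralGroup m)) :
    ∃ (F : Type) (_ : Field F) (_ : Fintype F), Fintype.card F = 127 ∧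
      Nonempty (G ≃* Matrix.ProjectiveSpecialLinearGroup (Fin 2) F) := by
  haveI : Fact (Nat.Prime 2) := ⟨Nat.prime_two⟩
  have hm64 : m = 64 := by
    obtain ⟨e⟩ := hm
    have h := Nat.card_congr e.toEquiv
    rw [H.card, DihedralGroup.nat_card] at h
    omega
  have hzo : orderOf z = 2 := orderOf_eq_prime (by rw [pow_two]; exact hz.sq) hz.ne
  have hO : (⊥ : Subgroup G) = (Cfsg.oddCore (centralizer ({z} : Set G))).map
      (centralizer ({z} : Set G)).subtype := by
    symm
    rw [map_eq_bot_iff_of_injective _ (centralizer ({z} : Set G)).subtype_injective,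
      ← Subgroup.card_eq_one]
    have hC : IsPGroup 2 (centralizer ({z} : Set G)) :=
      S.isPGroup'.to_le fun x hx => H.cent_mem hz (mem_centralizer_singleton_iff.1 hx)
    obtain ⟨j, hj⟩ := (hC.to_subgroup (Cfsg.oddCore (centralizer ({z} : Set G)))).exists_card_eq
    have ho := ExtTwoLayer.odd_oddCore (centralizer ({z} : Set G))
    rw [hj] at ho ⊢
    rcases j with _ | j
    · rfl
    · exact absurd ho (Nat.not_odd_iff_even.2 ((Nat.even_pow).2 ⟨even_two, j.succ_ne_zero⟩))
  obtain ⟨F, iF, iFF, hodd, ⟨e⟩⟩ := Cfsg.Agent.S0508.result S m (by omega) hm z hzo hz.mem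
    hz.comm ⊥ hO (fun h => absurd rfl h)
    (fun s _ hs => absurd (by rw [mem_centralizer_iff]; intro y hy; rw [mem_bot.1 hy]; simp) hs)
    (fun Y hY hY' => absurd (le_bot_iff.1 hY) hY')
  obtain ⟨p, hchar, n, hp, hn⟩ := FiniteField.card' F
  haveI : Fact p.Prime := ⟨hp⟩
  refine ⟨F, iF, iFF, ?_, ⟨e⟩⟩
  have hq : Nat.card F = Fintype.card F := Nat.card_eq_fintype_card
  have hGF : Nat.card G = Nat.card F * (Nat.card F ^ 2 - 1) / 2 := by
    rw [Nat.card_congr e.toEquiv, PSLCard.card_PSL2_odd (by rw [hq]; exact hodd)]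
  obtain ⟨a, ha⟩ : ∃ a, Nat.card G = 128 * a ∧ Odd a := by
    refine ⟨(S : Subgroup G).index, ?_, ?_⟩
    · rw [← (S : Subgroup G).card_mul_index, H.card]; norm_num
    · exact Nat.not_even_iff_odd.1 fun h => S.not_dvd_index h.two_dvd
  obtain ⟨ha, haodd⟩ := ha
  set q := Nat.card F with hqdef
  have hqodd : Odd q := by rw [hq]; exact hodd
  obtain ⟨N, M, hN, h4, hNM⟩ : ∃ N M, (N = q - 1 ∨ N = q + 1) ∧ 4 ∣ N ∧
      (q ^ 2 - 1 = N * (2 * M) ∧ Odd M) := by
    obtain ⟨b, hb⟩ := hqodd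
    have e1 : q ^ 2 - 1 = (2 * b) * (2 * (b + 1)) := by
      rw [hb]; have : (2 * b + 1) ^ 2 = (2 * b) * (2 * (b + 1)) + 1 := by ring
      omega
    rcases Nat.even_or_odd b with ⟨c, hc⟩ | ⟨c, hc⟩
    · exact ⟨q - 1, b + 1, Or.inl rfl, ⟨c, by omega⟩,
        by rw [e1, show q - 1 = 2 * b by omega], ⟨c, by omega⟩⟩
    · refine ⟨q + 1, b, Or.inr rfl, ⟨c + 1, by omega⟩, ?_, ⟨c, by omega⟩⟩
      rw [e1, show q + 1 = 2 * (b + 1) by omega]
      ring
  have hkey : 128 * a = q * N * M := by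
    rw [← ha, hGF, hNM.1, show q * (N * (2 * M)) = q * N * M * 2 by ring, Nat.mul_div_cancel _ two_pos]
  have h128 : 128 ∣ N := by
    have hco : Nat.Coprime (2 ^ 7) (q * M) :=
      Nat.Coprime.pow_left _ (Nat.coprime_two_left.2 (hqodd.mul hNM.2))
    have h : 2 ^ 7 ∣ (q * M) * N := ⟨a, by rw [show (2:ℕ) ^ 7 = 128 by norm_num, hkey]; ring⟩
    exact hco.dvd_of_dvd_mul_left h
  have hN0 : 0 < N := by
    rcases Nat.eq_zero_or_pos N with rfl | h
    · rw [mul_zero, zero_mul] at hkey
      have := haodd.pos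
      omega
    · exact h
  obtain ⟨r, hr⟩ := h128
  have hr0 : 0 < r := by omega
  have hrodd : Odd r := by
    have : a = q * r * M := by
      have : 128 * a = 128 * (q * r * M) := by rw [hkey, hr]; ring
      omega
    rw [this] at haodd
    exact (Nat.odd_mul.1 (Nat.odd_mul.1 haodd).1).2
  obtain ⟨g, _, hg, -⟩ := DicksonTorus.exists_torus (F := F) p (N := N) hN (by omega)
  have hdd : DicksonPSL.dd F = 2 := by
    obtain ⟨b, hb⟩ := hqodd
    rw [DicksonPSL.dd, ← hqdef]
    exact Nat.gcd_eq_left (by omega)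
  rw [hdd, hr, show 128 * r / 2 = 64 * r by omega] at hg
  set g' := e.symm g with hg'
  have hgo : orderOf g' = 64 * r := by rw [hg', e.symm.orderOf_eq]; exact hg
  have hg0 : orderOf (g' ^ r) = 64 := by
    rw [orderOf_pow' g' hr0.ne', hgo, Nat.gcd_eq_right (Dvd.intro_left 64 rfl),
      Nat.mul_div_cancel _ hr0]
  have hp0 : IsPGroup 2 (zpowers (g' ^ r)) :=
    IsPGroup.of_card (n := 6) (by rw [Nat.card_zpowers, hg0]; norm_num)
  obtain ⟨T, hT⟩ := hp0.exists_le_sylow
  obtain ⟨k, hk⟩ := MulAction.exists_smul_eq G T S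
  have hkS : k * g' ^ r * k⁻¹ ∈ (S : Subgroup G) := by
    rw [← hk, Sylow.coe_subgroup_smul]
    exact ⟨g' ^ r, hT (mem_zpowers _), rfl⟩
  have hc := cent_of_order H hkS (by
    rw [← MulAut.conj_apply, MulEquiv.orderOf_eq, hg0])
  have hgS : k * g' * k⁻¹ ∈ (S : Subgroup G) := by
    refine H.cent_mem hc ?_
    have : k * g' ^ r * k⁻¹ = (k * g' * k⁻¹) ^ r := conj_pow.symm
    rw [this, ← pow_mul]
    exact ((Commute.refl _).pow_right _).eq
  obtain ⟨j, hj⟩ := S.isPGroup' ⟨_, hgS⟩
  have hd : 64 * r ∣ 2 ^ j := by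
    rw [← hgo, ← (MulAut.conj k).orderOf_eq g', MulAut.conj_apply]
    exact orderOf_dvd_of_pow_eq_one (congrArg Subtype.val hj)
  have hr1 : r = 1 := Nat.eq_one_of_dvd_coprimes
    ((Nat.coprime_two_left.2 hrodd).pow_left j).symm dvd_rfl (dvd_trans (Dvd.intro_left 64 rfl) hd)
  rw [hr1, mul_one] at hr
  rcases hN with h | h
  · exfalso
    have h129 : p ^ (n : ℕ) = 129 := by rw [← hn, ← hq]; omega
    have hpd : p ∣ 3 * 43 := by
      rw [show 3 * 43 = p ^ (n : ℕ) by rw [h129]]
      exact dvd_pow_self p n.pos.ne'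
    rcases (Nat.Prime.dvd_mul hp).1 hpd with h3 | h3
    · rw [(Nat.prime_dvd_prime_iff_eq hp Nat.prime_three).1 h3] at h129
      have h43 : 43 ∣ 3 ^ (n : ℕ) := ⟨3, by rw [h129]⟩
      exact absurd ((Nat.prime_dvd_prime_iff_eq (by norm_num) Nat.prime_three).1
        ((show Nat.Prime 43 by norm_num).dvd_of_dvd_pow h43)) (by norm_num)
    · rw [(Nat.prime_dvd_prime_iff_eq hp (by norm_num)).1 h3] at h129
      have h43 : 3 ∣ 43 ^ (n : ℕ) := ⟨43, by rw [h129]⟩
      exact absurd ((Nat.prime_dvd_prime_iff_eq Nat.prime_three (by norm_num)).1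
        (Nat.prime_three.dvd_of_dvd_pow h43)) (by norm_num)
  · omega

/-- The semidihedral case. -/
theorem false_of_qd (H : Hyp S) {z : G} (hz : Cent S z)
    (hS : Cfsg.IsQuasiDihedral (S : Subgroup G)) : False := by
  haveI : Fact (Nat.Prime 2) := ⟨Nat.prime_two⟩
  have hidx : ∀ K : Subgroup G, K.index ≠ 2 := by
    intro K hK
    rcases (normal_of_index_eq_two hK).eq_bot_or_eq_top with h | h
    · rw [h, index_bot] at hK
      exact H.nc ((isCyclic_of_prime_card (p := 2) hK).isMulCommutative)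
    · rw [h, index_top] at hK; omega
  obtain ⟨_, _, ⟨K, -, -, hK2, hKP⟩, -⟩ := Cfsg.Agent.S1213.result S (Or.inl hS) hidx z
    (orderOf_eq_prime (by rw [pow_two]; exact hz.sq) hz.ne)
  have hC : IsPGroup 2 (centralizer ({z} : Set G)) :=
    S.isPGroup'.to_le fun x hx => H.cent_mem hz (mem_centralizer_singleton_iff.1 hx)
  have hK : IsPGroup 2 K := hC.to_subgroup K
  obtain ⟨k, hk⟩ := hK.exists_card_eq
  rcases k with _ | k
  · obtain ⟨m, -, ⟨f⟩⟩ := hKP default
    have h1 := Nat.card_congr f.toEquiv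
    haveI : NeZero (2 ^ m) := ⟨(Nat.two_pow_pos m).ne'⟩
    rw [Nat.card_eq_fintype_card (α := QuaternionGroup (2 ^ m)), QuaternionGroup.card] at h1
    have h2 := Nat.le_of_dvd Nat.card_pos (card_subgroup_dvd_card
      ((default : Sylow 2 K) : Subgroup K))
    have := Nat.two_pow_pos m
    rw [hk, h1] at h2
    simp at h2
    omega
  · obtain ⟨Q, hQ⟩ := Sylow.exists_subgroup_card_pow_prime 2 (G := K) (n := k)
      (by rw [hk]; exact pow_dvd_pow 2 (Nat.le_succ k))
    refine hK2 Q ?_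
    have h := Q.card_mul_index
    rw [hQ, hk, pow_succ] at h
    exact Nat.eq_of_mul_eq_mul_left (Nat.two_pow_pos k) h

/-- The classification. -/
theorem main (H : Hyp S) :
    ∃ (F : Type) (_ : Field F) (_ : Fintype F), Fintype.card F = 127 ∧
      Nonempty (G ≃* Matrix.ProjectiveSpecialLinearGroup (Fin 2) F) := by
  haveI : Fact (Nat.Prime 2) := ⟨Nat.prime_two⟩
  have hSp : IsPGroup 2 (S : Subgroup G) := S.isPGroup'
  haveI : Nontrivial (S : Subgroup G) := by
    rw [← Finite.one_lt_card_iff_nontrivial, H.card]; norm_num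
  have hcen : ∃ z, Cent S z := by
    haveI := hSp.center_nontrivial
    obtain ⟨j, hj⟩ := (hSp.to_subgroup (center (S : Subgroup G))).exists_card_eq
    have hd : 2 ∣ Nat.card (center (S : Subgroup G)) := by
      rcases j with _ | j
      · exact absurd hj Finite.one_lt_card.ne'
      · exact hj ▸ dvd_pow_self 2 j.succ_ne_zero
    obtain ⟨x, hx⟩ := exists_prime_orderOf_dvd_card' 2 hd
    refine ⟨((x : (S : Subgroup G)) : G), (x : (S : Subgroup G)).2, fun h => ?_, ?_,
      fun s hs => congrArg Subtype.val (mem_center_iff.1 x.2 ⟨s, hs⟩)⟩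
    · have : x = 1 := Subtype.ext (Subtype.ext h)
      rw [this, orderOf_one] at hx
      omega
    · have h := pow_orderOf_eq_one x
      rw [hx, pow_two] at h
      exact congrArg (fun t : center (S : Subgroup G) => ((t : (S : Subgroup G)) : G)) h
  obtain ⟨z, hz⟩ := hcen
  rcases Cfsg.NormalFourGroup.four_or_special hSp with ⟨E, hEn, hE4, hEc, hE2⟩ | hcyc |
      ⟨m, hm⟩ | ⟨m, ⟨e⟩⟩ | hqd
  · exfalso
    haveI := hEn
    -- a central element of `E`
    haveI : Nontrivial E := by rw [← Finite.one_lt_card_iff_nontrivial, hE4]; norm_num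
    obtain ⟨c, hc, hcE⟩ : ∃ c : (S : Subgroup G), c ≠ 1 ∧ c ∈ E ⊓ center (S : Subgroup G) := by
      have hne : E ⊓ center (S : Subgroup G) ≠ ⊥ := by
        haveI := hSp.isNilpotent
        exact PGroupsBasic.inf_center_ne_bot hSp (N := E) ((nontrivial_iff_ne_bot E).1 inferInstance)
      obtain ⟨c, hc, hc1⟩ := (bot_or_exists_ne_one _).resolve_left hne
      exact ⟨c, hc1, hc⟩
    obtain ⟨hcE, hcZ⟩ := mem_inf.1 hcE
    have sq : ∀ x ∈ E, (x : G) * (x : G) = 1 := fun x hx => by
      have := congrArg Subtype.val (hE2 x hx)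
      simpa [pow_two] using this
    have hC : Cent S (c : G) := ⟨c.2, fun h => hc (Subtype.ext h), sq c hcE,
      fun s hs => congrArg Subtype.val (mem_center_iff.1 hcZ ⟨s, hs⟩)⟩
    obtain ⟨d, hdE, hd1, hdc⟩ : ∃ d ∈ E, d ≠ 1 ∧ d ≠ c := by
      by_contra hh
      push Not at hh
      have : Nat.card E ≤ 2 := by
        refine le_trans (Nat.card_le_card_of_surjective
          (fun i : Fin 2 => if i = 0 then (1 : E) else ⟨c, hcE⟩) fun u => ?_) (by simp)
        by_cases hu : (u : (S : Subgroup G)) = 1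
        · exact ⟨0, Subtype.ext hu.symm⟩
        · exact ⟨1, Subtype.ext (hh u u.2 hu).symm⟩
      omega
    have hfour : ∀ x ∈ E, x = 1 ∨ x = c ∨ x = d ∨ x = d * c := by
      intro x hx
      by_contra hh
      push Not at hh
      obtain ⟨a1, a2, a3, a4⟩ := hh
      have n1 : d * c ≠ 1 := fun h => hdc ((eq_inv_of_mul_eq_one_left h).trans
        (inv_eq_of_mul_eq_one_right (Subtype.ext (sq c hcE))))
      have n2 : d * c ≠ d := fun h => hc (mul_eq_left.1 h)
      have n3 : d * c ≠ c := fun h => hd1 (mul_eq_right.1 h)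
      have : 5 ≤ Nat.card E := by
        refine le_trans (by simp) (Nat.card_le_card_of_injective
          (![1, ⟨c, hcE⟩, ⟨d, hdE⟩, ⟨d * c, mul_mem hdE hcE⟩, ⟨x, hx⟩] : Fin 5 → E) ?_)
        intro i j
        fin_cases i <;> fin_cases j <;>
          simp [Subtype.ext_iff, hc, Ne.symm hc, hd1, Ne.symm hd1, hdc, Ne.symm hdc, a1,
            Ne.symm a1, a2, Ne.symm a2, a3, Ne.symm a3, a4, Ne.symm a4, n1, Ne.symm n1, n2,
            Ne.symm n2, n3, Ne.symm n3]
      omega
    have hdne : (d : G) ≠ (c : G) := fun h => hdc (Subtype.ext h)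
    by_cases hall : ∀ s ∈ (S : Subgroup G), s * (d : G) = (d : G) * s
    · exact false_of_central H hC (z2 := (d : G))
        ⟨d.2, fun h => hd1 (Subtype.ext h), sq d hdE, hall⟩ hdne.symm
    push Not at hall
    refine false_of_four H (z := (c : G)) (e := (d : G))
      ⟨hC, d.2, fun h => hd1 (Subtype.ext h), hdne, sq d hdE, fun s hs => ?_, hall⟩
    have hmem := hEn.conj_mem d hdE ⟨s, hs⟩
    rcases hfour _ hmem with h | h | h | h
    · exact absurd (conj_eq_one_iff.1 h) hd1
    · exfalso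
      apply hdc
      have hcc : (⟨s, hs⟩ : (S : Subgroup G)) * c = c * ⟨s, hs⟩ := mem_center_iff.1 hcZ _
      refine mul_left_cancel (a := (⟨s, hs⟩ : (S : Subgroup G))) ?_
      rw [hcc]
      exact mul_inv_eq_iff_eq_mul.1 h
    · exact Or.inl (congrArg Subtype.val h)
    · exact Or.inr (congrArg Subtype.val h)
  · exfalso
    refine false_of_unique H hz fun x hx hxx => ?_
    haveI := hcyc
    by_contra hh
    push Not at hh
    have h2 : Nat.card {u : (S : Subgroup G) // u ^ 2 = 1} ≤ 2 := by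
      classical
      haveI := Fintype.ofFinite (S : Subgroup G)
      rw [Nat.card_eq_fintype_card, Fintype.card_subtype]
      exact IsCyclic.card_pow_eq_one_le two_pos
    have h3 : 3 ≤ Nat.card {u : (S : Subgroup G) // u ^ 2 = 1} := by
      refine le_trans (by simp) (Nat.card_le_card_of_injective
        (![⟨1, one_pow 2⟩, ⟨⟨x, hx⟩, by rw [pow_two]; exact Subtype.ext hxx⟩,
          ⟨⟨z, hz.mem⟩, by rw [pow_two]; exact Subtype.ext hz.sq⟩] :
            Fin 3 → {u : (S : Subgroup G) // u ^ 2 = 1}) ?_)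
      intro i j
      fin_cases i <;> fin_cases j <;>
        simp [Subtype.ext_iff, hh.1, hh.2, hz.ne, Ne.symm hh.1, Ne.symm hh.2, Ne.symm hz.ne]
    omega
  · exact of_dihedral H hz hm
  · exfalso
    have hm32 : m = 32 := by
      have h := Nat.card_congr e.toEquiv
      rw [H.card] at h
      rcases Nat.eq_zero_or_pos m with rfl | hpos
      · haveI : Finite (QuaternionGroup 0) := Finite.of_equiv _ e.toEquiv
        have : Infinite (QuaternionGroup 0) :=
          Infinite.of_injective (fun i : ℤ => (QuaternionGroup.a i : QuaternionGroup 0))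
            fun a b hab => QuaternionGroup.a.inj hab
        exact absurd this (not_infinite_iff_finite.2 inferInstance)
      · haveI : NeZero m := ⟨hpos.ne'⟩
        rw [Nat.card_eq_fintype_card (α := QuaternionGroup m), QuaternionGroup.card] at h
        omega
    subst hm32
    have h1 := (Nat.card_eq_one_iff_unique.1 (Cfsg.Agent.S0218.result 4)).1
    refine false_of_unique H hz fun x hx hxx => ?_
    by_contra hh
    push Not at hh
    have ho : ∀ w : (S : Subgroup G), (w : G) * w = 1 → (w : G) ≠ 1 → orderOf (e w) = 2 := by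
      intro w hw hw1
      rw [e.orderOf_eq]
      exact orderOf_eq_prime (by rw [pow_two]; exact Subtype.ext hw)
        fun h => hw1 (congrArg Subtype.val h)
    have := e.injective (congrArg Subtype.val (@Subsingleton.elim _ h1
      ⟨e ⟨x, hx⟩, ho ⟨x, hx⟩ hxx hh.1⟩ ⟨e ⟨z, hz.mem⟩, ho ⟨z, hz.mem⟩ hz.sq hz.ne⟩))
    exact hh.2 (congrArg Subtype.val this)
  · exact (false_of_qd H hz hqd).elim

/-- With the length of a finite group defined as the maximum n for which there is a chain G = G₀ > G₁ > ⋯ > G_n = 1 of subgroups: a finite non-abelian simple group of length exactly 8 whose Sylow 2-subgroups have order 2⁷ is isomorphic to PSL₂(127). -/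
theorem result {G : Type*} [Group G] [Finite G] [IsSimpleGroup G]
    (hG : ¬ IsMulCommutative G) (h8 : ∃ c : Fin 9 → Subgroup G, StrictAnti c) (h9 : ∀ c : Fin 10 → Subgroup G, ¬ StrictAnti c)
    (S : Sylow 2 G) (hS : Nat.card ↥(S : Subgroup G) = 2 ^ 7) :
    ∃ (F : Type) (_ : Field F) (_ : Fintype F), Fintype.card F = 127 ∧ Nonempty (G ≃* Matrix.ProjectiveSpecialLinearGroup (Fin 2) F) := by
  exact main (hyp_of_chain hG h9 S hS)

end Cfsg.Agent.S3250
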