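import Cfsg.Statements.S3260
import Cfsg.Agent.Lib.CoprimeSL2Stable20
import Cfsg.Agent.Lib.GlaubermanSections
-- import your own Cfsg.Agent.* helpers here

set_option autoImplicit false
open Cfsg

namespace Cfsg.Agent.S3260

open Cfsg.Agent

theorem pPrimeCore_top {G : Type*} [Group G] [Finite G] (p : ℕ) (h : (Nat.card G).Coprime p) :
    Cfsg.pPrimeCore p G = ⊤ :=
  top_le_iff.mp (HallCore.le_pPrimeCore (hN := inferInstance)
    (by rwa [Subgroup.card_top]))

theorem not_hasSection {G : Type*} [Group G] {p : ℕ} [Fact p.Prime] {F : Type*} [Field F] [Fintype F]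
    (hF : Fintype.card F = p)
    (h : ¬ Cfsg.Involves (Matrix.ProjectiveSpecialLinearGroup (Fin 2) F) G) :
    ¬ QuadraticMain.HasSection G (CoprimeSL2Stable20.L2 p) := by
  intro hs
  let e : Matrix.SpecialLinearGroup (Fin 2) (ZMod p) ≃*
      Matrix.SpecialLinearGroup (Fin 2) F :=
    let r := ZMod.ringEquivOfPrime F (Fact.out : p.Prime) hF
    { toFun := Matrix.SpecialLinearGroup.map (r : ZMod p →+* F)
      invFun := Matrix.SpecialLinearGroup.map (r.symm : F →+* ZMod p)
      left_inv := fun g => by ext i j; simp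
      right_inv := fun g => by ext i j; simp
      map_mul' := map_mul _ }
  have hc : (Subgroup.center (Matrix.SpecialLinearGroup (Fin 2) (ZMod p))).map e.toMonoidHom =
      Subgroup.center (Matrix.SpecialLinearGroup (Fin 2) F) := by
    ext x
    simp only [Subgroup.mem_map, Subgroup.mem_center_iff]
    constructor
    · rintro ⟨y, hy, rfl⟩ g
      obtain ⟨g', rfl⟩ := e.surjective g
      simp only [MulEquiv.coe_toMonoidHom, ← map_mul, hy g']
    · intro hx
      refine ⟨e.symm x, fun g => e.injective ?_, e.apply_symm_apply x⟩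
      simp [map_mul, hx (e g)]
  let E : CoprimeSL2Stable20.L2 p ≃* Matrix.ProjectiveSpecialLinearGroup (Fin 2) F :=
    QuotientGroup.congr _ _ e hc
  obtain ⟨K, L, hL, ⟨f⟩⟩ := QuadraticQd.exists_section hs
  exact h ⟨K, L, hL, ⟨f.trans E⟩⟩

/-- Let p ≥ 5 be a prime, G a finite p-constrained group with Sylow p-subgroup S, and A a group of automorphisms of G of order coprime to |G| whose fixed-point subgroup has no section isomorphic to PSL₂(p). Then G = O_{p'}(G) · N_G(Z(J(S))), where J(S) is the subgroup generated by the abelian subgroups of S of largest order. -/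
theorem result {G : Type*} [Group G] [Finite G] (p : ℕ) [hp : Fact p.Prime] (hp5 : 5 ≤ p)
    (hG : Cfsg.IsPConstrained p G) (S : Sylow p G) (A : Subgroup (MulAut G)) (hA : (Nat.card ↥A).Coprime (Nat.card G))
    (C : Subgroup G) (hC : ∀ g : G, g ∈ C ↔ ∀ a ∈ A, a g = g)
    {F : Type*} [Field F] [Fintype F] (hF : Fintype.card F = p)
    (hfix : ¬ Cfsg.Involves (Matrix.ProjectiveSpecialLinearGroup (Fin 2) F) ↥C) :
    Cfsg.pPrimeCore p G ⊔ Subgroup.normalizer (Cfsg.centerThompsonAOf (S : Subgroup G) : Set G) = ⊤ := by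
  by_cases hpG : p ∣ Nat.card G
  · rw [GlaubermanZJ.centerThompsonAOf_eq]
    exact CoprimeSL2Stable20.sup_normalizer_thomY hp5 (Or.inl rfl) hG S A hA hpG C hC
      (not_hasSection hF hfix)
  · rw [pPrimeCore_top p ((hp.out.coprime_iff_not_dvd.mpr hpG).symm), top_sup_eq]
end Cfsg.Agent.S3260
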