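import Cfsg.Statements.S3265


set_option autoImplicit false
open Cfsg

namespace Cfsg.Agent.S3265

open Equiv Equiv.Perm

section
variable {α : Type*} [Fintype α] [DecidableEq α]

theorem cycleType_invol {g : Perm α} (hg : g * g = 1) :
    g.cycleType = Multiset.replicate (Multiset.card g.cycleType) 2 := by
  refine Multiset.eq_replicate.2 ⟨rfl, fun n hn => ?_⟩
  have h1 := two_le_of_mem_cycleType hn
  have h2 := dvd_of_mem_cycleType hn
  have h3 : orderOf g ∣ 2 := orderOf_dvd_of_pow_eq_one (by rw [pow_two, hg])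
  exact le_antisymm (Nat.le_of_dvd two_pos (h2.trans h3)) h1

theorem card_support_invol {g : Perm α} (hg : g * g = 1) :
    g.support.card = 2 * Multiset.card g.cycleType := by
  rw [← sum_cycleType]
  conv_lhs => rw [cycleType_invol hg]
  rw [Multiset.sum_replicate, smul_eq_mul, mul_comm]

theorem sign_invol {g : Perm α} (hg : g * g = 1) {d : ℕ} (hd : g.support.card = 2 * d) :
    sign g = (-1) ^ d := by
  have h := card_support_invol hg
  have hcd : Multiset.card g.cycleType = d := by omega
  rw [sign_of_cycleType, sum_cycleType, hd, hcd, pow_add, pow_mul]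
  simp

theorem isConj_invol {g h : Perm α} (hg : g * g = 1) (hh : h * h = 1)
    (hc : g.support.card = h.support.card) : IsConj g h := by
  rw [isConj_iff_cycleType_eq, cycleType_invol hg, cycleType_invol hh]
  have := card_support_invol hg
  have := card_support_invol hh
  congr 1
  omega

theorem inv_apply_self {x : Perm α} (hx : x * x = 1) (v : α) : x (x v) = v := by
  have := congrArg (fun f : Perm α => f v) hx
  simpa using this

/-- `x` is an involution supported in `R` moving `2k` points. -/
structure Good (x : Perm α) (R : Finset α) (k : ℕ) : Prop where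
  inv : x * x = 1
  sub : x.support ⊆ R
  card : x.support.card = 2 * k

theorem Good.fix {x : Perm α} {R : Finset α} {k : ℕ} (h : Good x R k) {v : α} (hv : v ∉ R) :
    x v = v := notMem_support.1 fun h' => hv (h.sub h')

theorem Good.eq_support {x : Perm α} {R : Finset α} {k : ℕ} (h : Good x R k)
    (hR : R.card = 2 * k) : x.support = R :=
  Finset.eq_of_subset_of_card_le h.sub (by rw [hR, h.card])

/-- Removing the 2-cycle through `a`. -/
theorem cut_good {x : Perm α} {R : Finset α} {k : ℕ} (h : Good x R (k+1)) {a : α}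
    (ha : x a ≠ a) :
    Good (x * swap a (x a)) ((R.erase a).erase (x a)) k ∧
      (∀ v, v ≠ a → v ≠ x a → (x * swap a (x a)) v = x v) := by
  have hxx := inv_apply_self h.inv
  have hv : ∀ v, v ≠ a → v ≠ x a → (x * swap a (x a)) v = x v := by
    intro v h1 h2
    simp [Perm.mul_apply, swap_apply_of_ne_of_ne h1 h2]
  have h1 : (x * swap a (x a)) a = a := by simp [Perm.mul_apply, hxx]
  have h2 : (x * swap a (x a)) (x a) = x a := by simp [Perm.mul_apply]
  have hsupp : (x * swap a (x a)).support = (x.support.erase a).erase (x a) := by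
    ext v
    simp only [Finset.mem_erase, mem_support]
    by_cases e1 : v = a
    · subst e1; simp [h1]
    by_cases e2 : v = x a
    · subst e2; simp [h2]
    rw [hv v e1 e2]; simp [e1, e2]
  refine ⟨⟨?_, ?_, ?_⟩, hv⟩
  · ext v
    rw [Perm.one_apply, Perm.mul_apply]
    by_cases e1 : v = a
    · subst e1; rw [h1, h1]
    by_cases e2 : v = x a
    · subst e2; rw [h2, h2]
    rw [hv v e1 e2, hv (x v) ?_ ?_, hxx]
    · intro e; exact e2 (by rw [← e, hxx])
    · intro e; exact e1 (x.injective e)
  · rw [hsupp]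
    exact Finset.erase_subset_erase _ (Finset.erase_subset_erase _ h.sub)
  · rw [hsupp, Finset.card_erase_of_mem, Finset.card_erase_of_mem, h.card]
    · omega
    · simp [ha]
    · simp only [Finset.mem_erase, mem_support, ne_eq, hxx]
      exact ⟨ha, Ne.symm ha⟩

/-- Contraction of the edge `{a, c}`. -/
def ctr (x : Perm α) (a c : α) : Perm α :=
  swap c (x a) * (x * swap a (x a)) * swap c (x a)

theorem ctr_good {x : Perm α} {R : Finset α} {k : ℕ} (h : Good x R (k+1)) {a c : α}
    (hcR : c ∈ R) (hac : a ≠ c) (ha : x a ≠ a) (hc : x a ≠ c) :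
    Good (ctr x a c) ((R.erase a).erase c) k := by
  obtain ⟨h1, h1v⟩ := cut_good h ha
  have hpR : x a ∈ R := h.sub (mem_support.2 fun e => ha (x.injective e))
  have e1 : ∀ v, v ∉ ((R.erase a).erase (x a)) → (x * swap a (x a)) v = v := fun v => h1.fix
  refine ⟨?_, ?_, ?_⟩
  · have key : ∀ s y : Perm α, s * s = 1 → y * y = 1 → (s * y * s) * (s * y * s) = 1 := by
      intro s y hs hy
      calc s * y * s * (s * y * s) = s * y * (s * s) * y * s := by group
        _ = 1 := by rw [hs, mul_one, mul_assoc s y y, hy, mul_one, hs]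
    exact key _ _ (swap_mul_self _ _) h1.inv
  · intro v hv
    rw [mem_support] at hv
    simp only [Finset.mem_erase]
    refine ⟨?_, ?_, ?_⟩
    · rintro rfl
      apply hv
      simp only [ctr, Perm.mul_apply, swap_apply_left]
      rw [show x (swap a (x a) (x a)) = (x * swap a (x a)) (x a) from rfl, e1 _ (by simp)]
      simp
    · rintro rfl
      apply hv
      simp only [ctr, Perm.mul_apply]
      rw [swap_apply_of_ne_of_ne hac (Ne.symm ha)]
      simp [inv_apply_self h.inv, swap_apply_of_ne_of_ne hac (Ne.symm ha)]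
    · by_contra hvR
      apply hv
      have hvc : v ≠ c := fun e => hvR (e ▸ hcR)
      have hvp : v ≠ x a := fun e => hvR (e ▸ hpR)
      show swap c (x a) ((x * swap a (x a)) (swap c (x a) v)) = v
      rw [swap_apply_of_ne_of_ne hvc hvp, e1 v (by simp [hvR]),
        swap_apply_of_ne_of_ne hvc hvp]
  · have := card_support_conj (σ := swap c (x a)) (τ := x * swap a (x a))
    rw [swap_inv] at this
    rw [ctr, this, h1.card]

/-- `O` is one orbit of `⟨x, z⟩` (stated via invariant predicates). -/
structure Orb (x z : Perm α) (O : Finset α) : Prop where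
  mapx : ∀ v ∈ O, x v ∈ O
  mapz : ∀ v ∈ O, z v ∈ O
  trans : ∀ P : α → Prop, (∀ v ∈ O, P v → P (x v)) → (∀ v ∈ O, P v → P (z v)) →
    ∀ v ∈ O, P v → ∀ w ∈ O, P w

theorem lift {x z' : Perm α} {a c : α} {O : Finset α} (hx : x * x = 1)
    (hza : z' a = a) (hzc : z' c = c) (hac : a ≠ c) (hxa : x a ≠ a) (hxc : x a ≠ c)
    (haO : a ∉ O) (hcO : c ∉ O) (h : Orb (ctr x a c) z' O) :
    (x a ∈ O → Orb x (z' * swap a c) (insert a (insert c O))) ∧
      (x a ∉ O → Orb x (z' * swap a c) O) := by
  have hxx := inv_apply_self hx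
  have hcp : ctr x a c (x a) = swap c (x a) (x c) := by
    simp [ctr, Perm.mul_apply, swap_apply_of_ne_of_ne hac.symm (Ne.symm hxc)]
  have hcv : ∀ v ∈ O, v ≠ x a → ctr x a c v = swap c (x a) (x v) := by
    intro v hv hvp
    have hva : v ≠ a := fun e => haO (e ▸ hv)
    have hvc : v ≠ c := fun e => hcO (e ▸ hv)
    simp [ctr, Perm.mul_apply, swap_apply_of_ne_of_ne hvc hvp, swap_apply_of_ne_of_ne hva hvp]
  have hzv : ∀ v ∈ O, (z' * swap a c) v = z' v := by
    intro v hv
    have hva : v ≠ a := fun e => haO (e ▸ hv)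
    have hvc : v ≠ c := fun e => hcO (e ▸ hv)
    simp [Perm.mul_apply, swap_apply_of_ne_of_ne hva hvc]
  have hxvp : ∀ v ∈ O, x v ≠ x a := fun v hv e => haO (x.injective e ▸ hv)
  refine ⟨fun hp => ?_, fun hp => ?_⟩
  · have hza' : (z' * swap a c) a = c := by simp [Perm.mul_apply, hzc]
    have hzc' : (z' * swap a c) c = a := by simp [Perm.mul_apply, hza]
    refine ⟨?_, ?_, ?_⟩
    · intro v hv
      simp only [Finset.mem_insert] at hv ⊢
      rcases hv with rfl | rfl | hv
      · exact .inr (.inr hp)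
      · by_cases e : x v = v
        · exact .inr (.inl e)
        · right; right
          have := h.mapx _ hp
          rw [hcp, swap_apply_of_ne_of_ne e (fun e' => hac (x.injective e').symm)] at this
          exact this
      · by_cases e : v = x a
        · subst e; exact .inl (hxx a)
        · have := h.mapx _ hv
          rw [hcv v hv e] at this
          by_cases e2 : x v = c
          · exact .inr (.inl e2)
          · rw [swap_apply_of_ne_of_ne e2 (hxvp v hv)] at this
            exact .inr (.inr this)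
    · intro v hv
      simp only [Finset.mem_insert] at hv ⊢
      rcases hv with rfl | rfl | hv
      · exact .inr (.inl hza')
      · exact .inl hzc'
      · rw [hzv v hv]; exact .inr (.inr (h.mapz v hv))
    · intro P hPx hPz v hv hPv w hw
      have memI : ∀ u ∈ O, u ∈ insert a (insert c O) := fun u hu => by simp [hu]
      have pax : P a → P (x a) := hPx a (by simp)
      have pxa : P (x a) → P a := fun q => by simpa [hxx] using hPx _ (memI _ hp) q
      have pac : P a → P c := fun q => by simpa only [hza'] using hPz a (by simp) q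
      have pca : P c → P a := fun q => by simpa only [hzc'] using hPz c (by simp) q
      have hx' : ∀ u ∈ O, P u → P (ctr x a c u) := by
        intro u hu q
        by_cases e : u = x a
        · subst e
          rw [hcp]
          have q' : P (x c) := hPx c (by simp) (pac (pxa q))
          by_cases e2 : x c = c
          · rw [e2, swap_apply_left]; exact q
          · rw [swap_apply_of_ne_of_ne e2 (fun e' => hac (x.injective e').symm)]; exact q'
        · rw [hcv u hu e]
          have q' : P (x u) := hPx u (memI u hu) q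
          by_cases e2 : x u = c
          · rw [e2, swap_apply_left]; exact pax (pca (e2 ▸ q'))
          · rw [swap_apply_of_ne_of_ne e2 (hxvp u hu)]; exact q'
      have hz' : ∀ u ∈ O, P u → P (z' u) := fun u hu q => hzv u hu ▸ hPz u (memI u hu) q
      have htr := h.trans P hx' hz'
      have hPp : P (x a) := by
        simp only [Finset.mem_insert] at hv
        rcases hv with rfl | rfl | hv
        · exact pax hPv
        · exact pax (pca hPv)
        · exact htr v hv hPv _ hp
      simp only [Finset.mem_insert] at hw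
      rcases hw with rfl | rfl | hw
      · exact pxa hPp
      · exact pac (pxa hPp)
      · exact htr _ hp hPp w hw
  · have key : ∀ v ∈ O, ctr x a c v = x v := by
      intro v hv
      have e : v ≠ x a := fun e => hp (e ▸ hv)
      rw [hcv v hv e]
      refine swap_apply_of_ne_of_ne ?_ (hxvp v hv)
      intro e2
      apply hp
      have := h.mapx v hv
      rwa [hcv v hv e, e2, swap_apply_left] at this
    refine ⟨fun v hv => key v hv ▸ h.mapx v hv, fun v hv => (hzv v hv).symm ▸ h.mapz v hv, ?_⟩
    intro P hPx hPz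
    exact h.trans P (fun v hv q => (key v hv).symm ▸ hPx v hv q)
      (fun v hv q => hzv v hv ▸ hPz v hv q)

/-- Every point of `R` lies in an orbit of odd size inside `R`. -/
def AllOdd (x z : Perm α) (R : Finset α) : Prop :=
  ∀ v ∈ R, ∃ O, O ⊆ R ∧ v ∈ O ∧ Odd O.card ∧ Orb x z O

theorem lift_all {x z' : Perm α} {R : Finset α} {k l : ℕ} {a c : α} (hx : Good x R k)
    (hz : Good z' ((R.erase a).erase c) l) (haR : a ∈ R) (hcR : c ∈ R) (hac : a ≠ c)
    (hxa : x a ≠ a) (hxc : x a ≠ c) (h : AllOdd (ctr x a c) z' ((R.erase a).erase c)) :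
    AllOdd x (z' * swap a c) R := by
  have hp : x a ∈ (R.erase a).erase c := by
    simp only [Finset.mem_erase]
    exact ⟨hxc, hxa, hx.sub (mem_support.2 fun e => hxa (x.injective e))⟩
  intro v hv
  have main : ∀ w ∈ (R.erase a).erase c, ∃ O, O ⊆ R ∧ w ∈ O ∧ Odd O.card ∧
      Orb x (z' * swap a c) O ∧ (w = x a → a ∈ O ∧ c ∈ O) := by
    intro w hw
    obtain ⟨O, hO, hwO, hodd, horb⟩ := h w hw
    have haO : a ∉ O := fun e => by simpa using hO e
    have hcO : c ∉ O := fun e => by simpa using hO e
    have hOR : O ⊆ R := fun u hu => Finset.mem_of_mem_erase (Finset.mem_of_mem_erase (hO hu))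
    have L := lift hx.inv (hz.fix (by simp)) (hz.fix (by simp)) hac hxa hxc haO hcO horb
    by_cases hpO : x a ∈ O
    · refine ⟨insert a (insert c O), ?_, by simp [hwO], ?_, L.1 hpO, fun _ => by simp⟩
      · simp [Finset.insert_subset_iff, haR, hcR, hOR]
      · rw [Finset.card_insert_of_notMem (by simp [hac, haO]),
          Finset.card_insert_of_notMem hcO]
        exact hodd.add_even even_two
    · exact ⟨O, hOR, hwO, hodd, L.2 hpO, fun e => absurd (e ▸ hwO) hpO⟩
  by_cases e : v ∈ (R.erase a).erase c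
  · obtain ⟨O, h1, h2, h3, h4, -⟩ := main v e
    exact ⟨O, h1, h2, h3, h4⟩
  · obtain ⟨O, h1, -, h3, h4, h5⟩ := main _ hp
    obtain ⟨h6, h7⟩ := h5 rfl
    have : v = a ∨ v = c := by
      simp only [Finset.mem_erase] at e
      tauto
    exact ⟨O, h1, by rcases this with rfl | rfl <;> assumption, h3, h4⟩

theorem lift_trans {x z' : Perm α} {R : Finset α} {k l : ℕ} {a c : α} (hx : Good x R k)
    (hz : Good z' ((R.erase a).erase c) l) (haR : a ∈ R) (hcR : c ∈ R) (hac : a ≠ c)
    (hxa : x a ≠ a) (hxc : x a ≠ c) (h : Orb (ctr x a c) z' ((R.erase a).erase c)) :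
    Orb x (z' * swap a c) R := by
  have hp : x a ∈ (R.erase a).erase c := by
    simp only [Finset.mem_erase]
    exact ⟨hxc, hxa, hx.sub (mem_support.2 fun e => hxa (x.injective e))⟩
  have L := (lift hx.inv (hz.fix (by simp)) (hz.fix (by simp)) hac hxa hxc (by simp) (by simp) h).1 hp
  have : insert a (insert c ((R.erase a).erase c)) = R := by
    rw [Finset.insert_erase (by simp [hcR, hac.symm]), Finset.insert_erase haR]
  rwa [this] at L

theorem good_mul_swap {z' : Perm α} {R : Finset α} {k : ℕ} {a c : α}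
    (hz : Good z' ((R.erase a).erase c) k) (haR : a ∈ R) (hcR : c ∈ R) (hac : a ≠ c) :
    Good (z' * swap a c) R (k+1) := by
  have h1 : z' a = a := hz.fix (by simp)
  have h2 : z' c = c := hz.fix (by simp)
  have hd : Perm.Disjoint z' (swap a c) := by
    intro v
    by_cases e : v = a ∨ v = c
    · rcases e with rfl | rfl <;> simp [h1, h2]
    · push Not at e
      exact .inr (swap_apply_of_ne_of_ne e.1 e.2)
  refine ⟨?_, ?_, ?_⟩
  · calc z' * swap a c * (z' * swap a c) = z' * (swap a c * z') * swap a c := by group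
      _ = z' * (z' * swap a c) * swap a c := by rw [hd.commute.eq]
      _ = (z' * z') * (swap a c * swap a c) := by group
      _ = 1 := by rw [hz.inv, swap_mul_self, mul_one]
  · rw [hd.support_mul, support_swap hac]
    intro v hv
    rcases Finset.mem_union.1 hv with h | h
    · exact Finset.mem_of_mem_erase (Finset.mem_of_mem_erase (hz.sub h))
    · simp only [Finset.mem_insert, Finset.mem_singleton] at h
      rcases h with rfl | rfl <;> assumption
  · rw [hd.card_support_mul, hz.card, card_support_swap hac]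
    ring

theorem card_erase_two {R : Finset α} {a c : α} (haR : a ∈ R) (hcR : c ∈ R) (hac : a ≠ c) :
    ((R.erase a).erase c).card = R.card - 2 := by
  rw [Finset.card_erase_of_mem (by simp [hcR, hac.symm]), Finset.card_erase_of_mem haR]
  omega

/-- Case with a common fixed point. -/
theorem middle_fix : ∀ (k : ℕ) (R : Finset α) (x y : Perm α), Good x R k → Good y R k →
    2 * k < R.card → ∃ z, Good z R k ∧ AllOdd x z R ∧ AllOdd y z R := by
  intro k
  induction k with
  | zero =>
    intro R x y hx hy _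
    have hx1 : x = 1 := support_eq_empty_iff.1 (Finset.card_eq_zero.1 (by simpa using hx.card))
    have hy1 : y = 1 := support_eq_empty_iff.1 (Finset.card_eq_zero.1 (by simpa using hy.card))
    subst hx1 hy1
    have : AllOdd (1 : Perm α) 1 R := by
      intro v hv
      refine ⟨{v}, by simpa using hv, by simp, by simp, ⟨by simp, by simp, ?_⟩⟩
      intro P _ _ u hu hPu w hw
      simp only [Finset.mem_singleton] at hu hw
      exact hw ▸ hu ▸ hPu
    exact ⟨1, ⟨by simp, by simp, by simp⟩, this, this⟩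
  | succ k ih =>
    intro R x y hx hy hR
    obtain ⟨a, c, haR, hcR, hac, hxa, hxc, a', c', hswap, hac', hya, hyc⟩ :
        ∃ a c, a ∈ R ∧ c ∈ R ∧ a ≠ c ∧ x a ≠ a ∧ x a ≠ c ∧ ∃ a' c',
          ((a' = a ∧ c' = c) ∨ (a' = c ∧ c' = a)) ∧ a' ≠ c' ∧ y a' ≠ a' ∧ y a' ≠ c' := by
      by_cases e : x.support = y.support
      · obtain ⟨a, ha⟩ : x.support.Nonempty := Finset.card_pos.1 (by rw [hx.card]; omega)
        obtain ⟨c, hcR, hc⟩ : ∃ c ∈ R, c ∉ x.support :=
          Finset.exists_mem_notMem_of_card_lt_card (by rw [hx.card]; omega)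
        have hac : a ≠ c := fun h => hc (h ▸ ha)
        refine ⟨a, c, hx.sub ha, hcR, hac, mem_support.1 ha, ?_, a, c, .inl ⟨rfl, rfl⟩, hac,
          mem_support.1 (e ▸ ha), ?_⟩
        · exact fun h => hc (h ▸ apply_mem_support.2 ha)
        · exact fun h => hc (e ▸ h ▸ apply_mem_support.2 (e ▸ ha))
      · obtain ⟨a, ha, ha'⟩ : ∃ a ∈ x.support, a ∉ y.support := by
          by_contra! h
          exact e (Finset.eq_of_subset_of_card_le h (by rw [hx.card, hy.card]))
        obtain ⟨c, hc, hc'⟩ : ∃ c ∈ y.support, c ∉ x.support := by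
          by_contra! h
          exact e (Finset.eq_of_subset_of_card_le h (by rw [hx.card, hy.card])).symm
        have hac : a ≠ c := fun h => hc' (h ▸ ha)
        refine ⟨a, c, hx.sub ha, hy.sub hc, hac, mem_support.1 ha, ?_, c, a, .inr ⟨rfl, rfl⟩,
          hac.symm, mem_support.1 hc, ?_⟩
        · exact fun h => hc' (h ▸ apply_mem_support.2 ha)
        · exact fun h => ha' (h ▸ apply_mem_support.2 hc)
    have hset : (R.erase a').erase c' = (R.erase a).erase c := by
      rcases hswap with ⟨rfl, rfl⟩ | ⟨rfl, rfl⟩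
      · rfl
      · exact Finset.erase_right_comm
    have hsw : swap a' c' = swap a c := by
      rcases hswap with ⟨rfl, rfl⟩ | ⟨rfl, rfl⟩
      · rfl
      · exact swap_comm _ _
    have ha'R : a' ∈ R ∧ c' ∈ R := by
      rcases hswap with ⟨rfl, rfl⟩ | ⟨rfl, rfl⟩ <;> exact ⟨by assumption, by assumption⟩
    have gx := ctr_good hx hcR hac hxa hxc
    have gy := ctr_good hy ha'R.2 hac' hya hyc
    rw [hset] at gy
    obtain ⟨z', gz, ox, oy⟩ := ih _ _ _ gx gy (by rw [card_erase_two haR hcR hac]; omega)
    refine ⟨z' * swap a c, good_mul_swap gz haR hcR hac,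
      lift_all hx gz haR hcR hac hxa hxc ox, ?_⟩
    rw [← hsw]
    rw [← hset] at gz oy
    exact lift_all hy gz ha'R.1 ha'R.2 hac' hya hyc oy

/-- Case of full support. -/
theorem middle_full : ∀ (k : ℕ) (R : Finset α) (x y : Perm α), Good x R (k+1) →
    Good y R (k+1) → R.card = 2 * (k+1) → ∃ z, Good z R (k+1) ∧ Orb x z R ∧ Orb y z R := by
  intro k
  induction k with
  | zero =>
    intro R x y hx hy hR
    have key : ∀ w : Perm α, Good w R (0+1) → Orb w x R := by
      intro w hw
      refine ⟨fun v hv => ?_, fun v hv => ?_, ?_⟩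
      · rw [← hw.eq_support hR] at hv ⊢; exact apply_mem_support.2 hv
      · rw [← hx.eq_support hR] at hv ⊢; exact apply_mem_support.2 hv
      · intro P hP _ v hv hPv u hu
        have hv' := hv
        rw [← hw.eq_support hR] at hv'
        have hwv : w v ∈ R := hw.sub (apply_mem_support.2 hv')
        have hsub : ({v, w v} : Finset α) = R := by
          refine Finset.eq_of_subset_of_card_le (by simp [Finset.insert_subset_iff, hv, hwv]) ?_
          rw [Finset.card_pair (Ne.symm (mem_support.1 hv')), hR]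
        rw [← hsub] at hu
        simp only [Finset.mem_insert, Finset.mem_singleton] at hu
        rcases hu with rfl | rfl
        · exact hPv
        · exact hP v hv hPv
    exact ⟨x, hx, key x hx, key y hy⟩
  | succ k ih =>
    intro R x y hx hy hR
    have sx := hx.eq_support hR
    have sy := hy.eq_support hR
    obtain ⟨a, haR⟩ : R.Nonempty := Finset.card_pos.1 (by omega)
    obtain ⟨c, hcR, hc⟩ : ∃ c ∈ R, c ∉ ({a, x a, y a} : Finset α) :=
      Finset.exists_mem_notMem_of_card_lt_card (by
        have := Finset.card_le_three (a := a) (b := x a) (c := y a)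
        omega)
    simp only [Finset.mem_insert, Finset.mem_singleton, not_or] at hc
    have hac : a ≠ c := Ne.symm hc.1
    have hxa : x a ≠ a := mem_support.1 (sx ▸ haR)
    have hya : y a ≠ a := mem_support.1 (sy ▸ haR)
    have gx := ctr_good hx hcR hac hxa (Ne.symm hc.2.1)
    have gy := ctr_good hy hcR hac hya (Ne.symm hc.2.2)
    obtain ⟨z', gz, ox, oy⟩ := ih _ _ _ gx gy (by rw [card_erase_two haR hcR hac]; omega)
    exact ⟨z' * swap a c, good_mul_swap gz haR hcR hac,
      lift_trans hx gz haR hcR hac hxa (Ne.symm hc.2.1) ox,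
      lift_trans hy gz haR hcR hac hya (Ne.symm hc.2.2) oy⟩

theorem exists_half {x z : Perm α} (hx : x * x = 1) (hz : z * z = 1)
    (he : ¬ Odd (orderOf (x * z))) :
    ∃ j : ℕ, (x * z) ^ j ≠ 1 ∧ (x * z) ^ j * (x * z) ^ j = 1 ∧
      Commute x ((x * z) ^ j) ∧ Commute z ((x * z) ^ j) := by
  obtain ⟨j, hj⟩ := Nat.not_odd_iff_even.1 he
  have hpos := orderOf_pos (x * z)
  refine ⟨j, pow_ne_one_of_lt_orderOf (by omega) (by omega), ?_, ?_, ?_⟩
  · rw [← pow_add, ← hj, pow_orderOf_eq_one]
  all_goals
    have hsq : (x * z) ^ j * (x * z) ^ j = 1 := by rw [← pow_add, ← hj, pow_orderOf_eq_one]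
    have hinv : ((x * z) ^ j)⁻¹ = (x * z) ^ j := inv_eq_of_mul_eq_one_left hsq
    have xi : x⁻¹ = x := inv_eq_of_mul_eq_one_left hx
    have zi : z⁻¹ = z := inv_eq_of_mul_eq_one_left hz
  · have hc : x * (x * z) * x⁻¹ = (x * z)⁻¹ := by
      rw [mul_inv_rev, xi, zi, ← mul_assoc x x z, hx, one_mul]
    have : x * (x * z) ^ j * x⁻¹ = (x * z) ^ j := by rw [← conj_pow, hc, inv_pow, hinv]
    exact mul_inv_eq_iff_eq_mul.1 this
  · have hc : z * (x * z) * z⁻¹ = (x * z)⁻¹ := by
      rw [mul_inv_rev, xi, zi, mul_assoc, mul_assoc x z z, hz, mul_one]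
    have : z * (x * z) ^ j * z⁻¹ = (x * z) ^ j := by rw [← conj_pow, hc, inv_pow, hinv]
    exact mul_inv_eq_iff_eq_mul.1 this

theorem orb_pow {x z : Perm α} {O : Finset α} (h : Orb x z O) (j : ℕ) :
    ∀ v ∈ O, ((x * z) ^ j) v ∈ O := by
  induction j with
  | zero => simp
  | succ j ih =>
    intro v hv
    rw [pow_succ', Perm.mul_apply, Perm.mul_apply]
    exact h.mapx _ (h.mapz _ (ih v hv))

theorem orb_moved {x z h : Perm α} {O : Finset α} (ho : Orb x z O) (hxh : Commute x h)
    (hzh : Commute z h) {v : α} (hv : v ∈ O) (hhv : h v ≠ v) : ∀ w ∈ O, h w ≠ w := by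
  intro w hw hf
  refine hhv (ho.trans (fun u => h u = u) ?_ ?_ w hw hf v hv)
  · intro u _ q
    show h (x u) = x u
    rw [← Perm.mul_apply, ← hxh.eq, Perm.mul_apply, q]
  · intro u _ q
    show h (z u) = z u
    rw [← Perm.mul_apply, ← hzh.eq, Perm.mul_apply, q]

theorem odd_of_allOdd {x z : Perm α} (hx : x * x = 1) (hz : z * z = 1)
    (h : AllOdd x z Finset.univ) : Odd (orderOf (x * z)) := by
  by_contra he
  obtain ⟨j, hne, hsq, hxh, hzh⟩ := exists_half hx hz he
  set g := (x * z) ^ j with hg
  obtain ⟨v, hv⟩ : ∃ v, g v ≠ v := by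
    by_contra! q
    exact hne (Equiv.ext q)
  obtain ⟨O, -, hvO, hodd, ho⟩ := h v (Finset.mem_univ v)
  have hm := orb_moved ho hxh hzh hvO hv
  have : (∑ _u ∈ O, (1 : ZMod 2)) = 0 :=
    Finset.sum_involution (fun u _ => g u) (fun u _ => by decide)
      (fun u hu _ => hm u hu) (fun u hu => orb_pow ho j u hu)
      (fun u _ => inv_apply_self hsq u)
  rw [Finset.sum_const, nsmul_eq_mul, mul_one, ZMod.natCast_eq_zero_iff_even] at this
  exact (Nat.not_even_iff_odd.2 hodd) this

theorem odd_of_trans {x z : Perm α} {O : Finset α} {d : ℕ} (hx : Good x O d) (hz : Good z O d)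
    (hO : O.card = 2 * d) (hd : Odd d) (ho : Orb x z O) : Odd (orderOf (x * z)) := by
  by_contra he
  obtain ⟨j, hne, hsq, hxh, hzh⟩ := exists_half hx.inv hz.inv he
  set g := (x * z) ^ j with hg
  obtain ⟨v, hv⟩ : ∃ v, g v ≠ v := by
    by_contra! q
    exact hne (Equiv.ext q)
  have hfix : ∀ u, u ∉ O → g u = u := fun u hu => by
    refine pow_apply_eq_self_of_apply_eq_self ?_ j
    rw [Perm.mul_apply, hz.fix hu, hx.fix hu]
  have hvO : v ∈ O := by_contra fun q => hv (hfix v q)
  have hm := orb_moved ho hxh hzh hvO hv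
  have hs : g.support = O := by
    ext u
    rw [mem_support]
    exact ⟨fun q => by_contra fun r => q (hfix u r), hm u⟩
  have s1 := sign_invol hsq (hs ▸ hO)
  rw [hg, map_pow, map_mul, sign_invol hx.inv hx.card, sign_invol hz.inv hz.card,
    hd.neg_one_pow, neg_mul_neg, one_mul, one_pow] at s1
  exact absurd s1 (by decide)

theorem cancel_swap {x0 z0 : Perm α} {u v : α} (h1 : z0 u = u) (h2 : z0 v = v) :
    x0 * swap u v * (z0 * swap u v) = x0 * z0 := by
  rw [mul_swap_eq_swap_mul z0, h1, h2, mul_assoc, ← mul_assoc (swap u v), swap_mul_self, one_mul]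

theorem middle (h5 : 5 ≤ Fintype.card α) (k : ℕ) (x y : Perm α)
    (hx : Good x Finset.univ k) (hy : Good y Finset.univ k) :
    ∃ z : Perm α, Good z Finset.univ k ∧ Odd (orderOf (x * z)) ∧ Odd (orderOf (y * z)) := by
  have hle : 2 * k ≤ Fintype.card α := by
    rw [← hx.card]; exact Finset.card_le_univ _
  rcases hle.lt_or_eq with hlt | heq
  · obtain ⟨z, gz, ox, oy⟩ := middle_fix k Finset.univ x y hx hy hlt
    exact ⟨z, gz, odd_of_allOdd hx.inv gz.inv ox, odd_of_allOdd hy.inv gz.inv oy⟩
  have hcard : (Finset.univ : Finset α).card = 2 * k := by rw [Finset.card_univ, heq]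
  rcases Nat.even_or_odd k with hev | hodd
  swap
  · obtain ⟨m, rfl⟩ : ∃ m, k = m + 1 := ⟨k - 1, by omega⟩
    obtain ⟨z, gz, ox, oy⟩ := middle_full m Finset.univ x y hx hy hcard
    exact ⟨z, gz, odd_of_trans hx gz hcard hodd ox, odd_of_trans hy gz hcard hodd oy⟩
  obtain ⟨j, rfl⟩ : ∃ j, k = j + 1 + 1 + 1 := ⟨k - 3, by omega⟩
  have hj : Odd (j + 1 + 1) := by rw [Nat.even_add_one, Nat.not_even_iff_odd] at hev; exact hev
  have hxm : ∀ a, x a ≠ a := fun a =>
    mem_support.1 ((hx.eq_support hcard).symm ▸ Finset.mem_univ a)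
  have hym : ∀ a, y a ≠ a := fun a =>
    mem_support.1 ((hy.eq_support hcard).symm ▸ Finset.mem_univ a)
  have split : ∀ (w : Perm α) (u v : α), w * swap u v * swap u v = w := fun w u v => by
    rw [mul_assoc, swap_mul_self, mul_one]
  by_cases hsh : ∃ u, x u = y u
  · obtain ⟨u, hu⟩ := hsh
    have hc2 := card_erase_two (R := Finset.univ) (Finset.mem_univ u) (Finset.mem_univ (x u))
      (Ne.symm (hxm u))
    obtain ⟨gx, -⟩ := cut_good hx (hxm u)
    obtain ⟨gy, -⟩ := cut_good hy (hym u)
    rw [← hu] at gy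
    obtain ⟨z0, gz, ox, oy⟩ := middle_full (j+1) _ _ _ gx gy (by omega)
    refine ⟨z0 * swap u (x u),
      good_mul_swap gz (Finset.mem_univ _) (Finset.mem_univ _) (Ne.symm (hxm u)), ?_, ?_⟩
    · have e := cancel_swap (x0 := x * swap u (x u)) (z0 := z0) (u := u) (v := x u)
        (gz.fix (by simp)) (gz.fix (by simp))
      rw [split] at e
      rw [e]
      exact odd_of_trans gx gz (by omega) hj ox
    · have e := cancel_swap (x0 := y * swap u (x u)) (z0 := z0) (u := u) (v := x u)
        (gz.fix (by simp)) (gz.fix (by simp))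
      rw [split] at e
      rw [e]
      exact odd_of_trans gy gz (by omega) hj oy
  push Not at hsh
  obtain ⟨u⟩ : Nonempty α := Fintype.card_pos_iff.1 (by omega)
  obtain ⟨v, hv⟩ : ∃ v, x u = v := ⟨_, rfl⟩
  obtain ⟨a, -, ha⟩ : ∃ a ∈ (Finset.univ : Finset α), a ∉ ({u, v, y u, y v} : Finset α) :=
    Finset.exists_mem_notMem_of_card_lt_card (by
      have := Finset.card_le_four (a := u) (b := v) (c := y u) (d := y v)
      rw [Finset.card_univ]; omega)
  simp only [Finset.mem_insert, Finset.mem_singleton, not_or] at ha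
  obtain ⟨hau, hav, hayu, hayv⟩ := ha
  obtain ⟨b, hb⟩ : ∃ b, y a = b := ⟨_, rfl⟩
  have hyy := inv_apply_self hy.inv
  have hbu : b ≠ u := fun e => hayu (by rw [← e, ← hb, hyy])
  have hbv : b ≠ v := fun e => hayv (by rw [← e, ← hb, hyy])
  have huv : u ≠ v := fun e => hxm u (hv.trans e.symm)
  have hab : a ≠ b := fun e => hym a (hb.trans e.symm)
  obtain ⟨gx0, x0v⟩ := cut_good hx (hxm u)
  obtain ⟨gy0, y0v⟩ := cut_good hy (hym a)
  rw [hv] at gx0 x0v
  rw [hb] at gy0 y0v
  have hx0a : (x * swap u v) a ≠ a ∧ (x * swap u v) a ≠ b := by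
    rw [x0v a hau hav]; exact ⟨hxm a, fun e => hsh a (e.trans hb.symm)⟩
  have hy0u : (y * swap a b) u ≠ u ∧ (y * swap a b) u ≠ v := by
    rw [y0v u (Ne.symm hau) (Ne.symm hbu)]; exact ⟨hym u, fun e => hsh u (hv.trans e.symm)⟩
  have gx := ctr_good gx0 (c := b) (by simp [hbu, hbv]) hab hx0a.1 hx0a.2
  have gy := ctr_good gy0 (c := v) (by simp [Ne.symm hav, Ne.symm hbv]) huv hy0u.1 hy0u.2
  have hset : ((((Finset.univ : Finset α).erase a).erase b).erase u).erase v =
      ((((Finset.univ : Finset α).erase u).erase v).erase a).erase b := by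
    ext w; simp; tauto
  rw [hset] at gy
  have c1 := card_erase_two (R := Finset.univ) (Finset.mem_univ u) (Finset.mem_univ v) huv
  have c1' := card_erase_two (R := Finset.univ) (Finset.mem_univ a) (Finset.mem_univ b) hab
  have ma : a ∈ ((Finset.univ : Finset α).erase u).erase v := by simp [hau, hav]
  have mb : b ∈ ((Finset.univ : Finset α).erase u).erase v := by simp [hbu, hbv]
  have mu : u ∈ ((Finset.univ : Finset α).erase a).erase b := by
    simp [Ne.symm hau, Ne.symm hbu]
  have mv : v ∈ ((Finset.univ : Finset α).erase a).erase b := by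
    simp [Ne.symm hav, Ne.symm hbv]
  have c2 := card_erase_two ma mb hab
  obtain ⟨z', gz, ox, oy⟩ := middle_full j _ _ _ gx gy (by omega)
  have gz' : Good z' (((((Finset.univ : Finset α).erase a).erase b).erase u).erase v) (j+1) :=
    hset ▸ gz
  have oy' := lift_trans gy0 gz' mu mv huv hy0u.1 hy0u.2 (hset ▸ oy)
  have ox' := lift_trans gx0 gz ma mb hab hx0a.1 hx0a.2 ox
  have gzx := good_mul_swap gz ma mb hab
  have gzy := good_mul_swap gz' mu mv huv
  have hz_eq : z' * swap a b * swap u v = z' * swap u v * swap a b := by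
    rw [mul_assoc, mul_assoc, mul_swap_eq_swap_mul (swap a b),
      swap_apply_of_ne_of_ne (Ne.symm hau) (Ne.symm hbu),
      swap_apply_of_ne_of_ne (Ne.symm hav) (Ne.symm hbv)]
  refine ⟨z' * swap a b * swap u v,
    good_mul_swap gzx (Finset.mem_univ _) (Finset.mem_univ _) huv, ?_, ?_⟩
  · rw [← split x u v, cancel_swap (gzx.fix (by simp)) (gzx.fix (by simp))]
    exact odd_of_trans gx0 gzx (by omega) hj ox'
  · rw [hz_eq, ← split y a b, cancel_swap (gzy.fix (by simp)) (gzy.fix (by simp))]
    exact odd_of_trans gy0 gzy (by omega) hj oy'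

theorem far (h5 : 5 ≤ Fintype.card α) (k : ℕ) (hk : 1 ≤ k) (x : Perm α)
    (hx : Good x Finset.univ k) :
    ∃ y : Perm α, Good y Finset.univ k ∧ x ≠ y ∧ x * y = y * x := by
  have hxx := inv_apply_self hx.inv
  obtain ⟨a, ha⟩ : x.support.Nonempty := Finset.card_pos.1 (by rw [hx.card]; omega)
  rw [mem_support] at ha
  rcases hk.eq_or_lt' with rfl | hk2
  · have hc : 1 < ((x.support)ᶜ).card := by
      rw [Finset.card_compl, hx.card]; omega
    obtain ⟨c, hc1, d, hd1, hcd⟩ := Finset.one_lt_card.1 hc
    simp only [Finset.mem_compl, notMem_support] at hc1 hd1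
    refine ⟨swap c d, ⟨swap_mul_self _ _, Finset.subset_univ _, ?_⟩, ?_, ?_⟩
    · rw [card_support_swap hcd]
    · intro e
      rw [e, swap_apply_left] at hc1
      exact hcd hc1.symm
    · rw [mul_swap_eq_swap_mul, hc1, hd1]
  · obtain ⟨b, hb⟩ : ∃ b, x a = b := ⟨_, rfl⟩
    obtain ⟨c, hc, hc'⟩ : ∃ c ∈ x.support, c ∉ ({a, b} : Finset α) :=
      Finset.exists_mem_notMem_of_card_lt_card (by
        have := Finset.card_le_two (a := a) (b := b)
        rw [hx.card]; omega)
    simp only [Finset.mem_insert, Finset.mem_singleton, not_or] at hc'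
    rw [mem_support] at hc
    obtain ⟨d, hd⟩ : ∃ d, x c = d := ⟨_, rfl⟩
    have hxb : x b = a := by rw [← hb, hxx]
    have hxd : x d = c := by rw [← hd, hxx]
    have hab : a ≠ b := fun e => ha (hb.trans e.symm)
    have hcd : c ≠ d := fun e => hc (hd.trans e.symm)
    have hda : d ≠ a := fun e => hc'.2 (by rw [← hxd, e, hb])
    have hdb : d ≠ b := fun e => hc'.1 (by rw [← hxd, e, hxb])
    refine ⟨swap b c * x * swap b c, ⟨?_, Finset.subset_univ _, ?_⟩, ?_, ?_⟩
    · calc swap b c * x * swap b c * (swap b c * x * swap b c)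
          = swap b c * x * (swap b c * swap b c) * x * swap b c := by group
        _ = 1 := by rw [swap_mul_self, mul_one, mul_assoc _ x x, hx.inv, mul_one, swap_mul_self]
    · have := card_support_conj (σ := swap b c) (τ := x)
      rw [swap_inv] at this
      rw [this, hx.card]
    · intro e
      have := congrArg (fun f : Perm α => f a) e
      simp only [Perm.mul_apply, swap_apply_of_ne_of_ne hab (Ne.symm hc'.1), hb,
        swap_apply_left] at this
      exact hc'.2 this.symm
    · ext w
      simp only [Perm.mul_apply]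
      by_cases e1 : w = a
      · subst e1
        simp [hb, hxb, hd, hxd, hab, hdb, hda, hcd, Ne.symm hcd, Ne.symm hdb, Ne.symm hda,
          hc'.1, hc'.2, Ne.symm hc'.1, Ne.symm hc'.2, swap_apply_of_ne_of_ne, Ne.symm hab]
      by_cases e2 : w = b
      · subst e2
        simp [hb, hxb, hd, hxd, hab, hdb, hda, hcd, Ne.symm hcd, Ne.symm hdb, Ne.symm hda,
          hc'.1, hc'.2, Ne.symm hc'.1, Ne.symm hc'.2, swap_apply_of_ne_of_ne, Ne.symm hab]
      by_cases e3 : w = c
      · subst e3
        simp [hb, hxb, hd, hxd, hab, hdb, hda, hcd, Ne.symm hcd, Ne.symm hdb, Ne.symm hda,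
          hc'.1, hc'.2, Ne.symm hc'.1, Ne.symm hc'.2, swap_apply_of_ne_of_ne, Ne.symm hab]
      by_cases e4 : w = d
      · subst e4
        simp [hb, hxb, hd, hxd, hab, hdb, hda, hcd, Ne.symm hcd, Ne.symm hdb, Ne.symm hda,
          hc'.1, hc'.2, Ne.symm hc'.1, Ne.symm hc'.2, swap_apply_of_ne_of_ne, Ne.symm hab]
      have f1 : x w ≠ b := fun e => e1 (x.injective (e.trans hb.symm))
      have f2 : x w ≠ c := fun e => e4 (x.injective (e.trans hxd.symm))
      rw [swap_apply_of_ne_of_ne e2 e3, swap_apply_of_ne_of_ne f1 f2, hxx]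
      rw [swap_apply_of_ne_of_ne e2 e3]

end

/-- Let n ≥ 5 and let X be a conjugacy class of involutions of the symmetric group of degree n. The graph on X joining two distinct involutions whose product has odd order is connected and has diameter exactly 2. -/
theorem result (n : ℕ) (hn : 5 ≤ n) (t : Equiv.Perm (Fin n)) (ht : orderOf t = 2) :
    (SimpleGraph.fromRel fun x y : {x : Equiv.Perm (Fin n) // IsConj t x} =>
        Odd (orderOf (x.1 * y.1))).Connected ∧
      (SimpleGraph.fromRel fun x y : {x : Equiv.Perm (Fin n) // IsConj t x} =>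
        Odd (orderOf (x.1 * y.1))).diam = 2 := by
  set G := SimpleGraph.fromRel fun x y : {x : Equiv.Perm (Fin n) // IsConj t x} =>
        Odd (orderOf (x.1 * y.1)) with hG
  obtain ⟨htt, ht1⟩ : t * t = 1 ∧ t ≠ 1 :=
    ⟨by rw [← pow_two, ← ht, pow_orderOf_eq_one], fun e => by simp [e] at ht⟩
  obtain ⟨k, hk⟩ : ∃ k, t.support.card = 2 * k := ⟨_, card_support_invol htt⟩
  have hk1 : 1 ≤ k := by
    have : t.support.card ≠ 0 := fun e => ht1 (support_eq_empty_iff.1 (Finset.card_eq_zero.1 e))
    omega
  have toGood : ∀ x : {x : Equiv.Perm (Fin n) // IsConj t x}, Good x.1 Finset.univ k := by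
    rintro ⟨x, hx⟩
    obtain ⟨s, hs⟩ := isConj_iff.1 hx
    refine ⟨?_, Finset.subset_univ _, ?_⟩
    · show x * x = 1
      rw [← hs, show s * t * s⁻¹ * (s * t * s⁻¹) = s * (t * t) * s⁻¹ by group, htt]; group
    · show x.support.card = _
      rw [← hs, card_support_conj, hk]
  have ofGood : ∀ z : Equiv.Perm (Fin n), Good z Finset.univ k → IsConj t z := fun z hz =>
    isConj_invol htt hz.inv (by rw [hk, hz.card])
  have h5 : 5 ≤ Fintype.card (Fin n) := by simpa using hn
  have adjI : ∀ u v : {x : Equiv.Perm (Fin n) // IsConj t x}, u ≠ v →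
      Odd (orderOf (u.1 * v.1)) → G.Adj u v := fun u v h1 h2 => by
    rw [hG, SimpleGraph.fromRel_adj]; exact ⟨h1, .inl h2⟩
  have hle : ∀ u v, G.edist u v ≤ 2 := by
    intro u v
    by_cases huv : u = v
    · subst huv; simp
    by_cases ha : G.Adj u v
    · rw [SimpleGraph.edist_eq_one_iff_adj.2 ha]; norm_num
    obtain ⟨z, gz, o1, o2⟩ := middle h5 k u.1 v.1 (toGood u) (toGood v)
    let w : {x : Equiv.Perm (Fin n) // IsConj t x} := ⟨z, ofGood z gz⟩
    have huw : u ≠ w := by
      intro e
      apply ha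
      apply SimpleGraph.Adj.symm
      refine adjI v u (Ne.symm huv) ?_
      rw [e]; exact o2
    have hvw : v ≠ w := by
      intro e
      apply ha
      refine adjI u v huv ?_
      rw [e]; exact o1
    let p : G.Walk u v := .cons (adjI u w huw o1) (.cons (adjI v w hvw o2).symm .nil)
    exact (SimpleGraph.edist_le p).trans (by simp [p])
  have hne : G.ediam ≠ ⊤ :=
    ne_top_of_le_ne_top (by simp) (SimpleGraph.ediam_le_of_edist_le hle)
  haveI : Nonempty {x : Equiv.Perm (Fin n) // IsConj t x} := ⟨⟨t, IsConj.refl t⟩⟩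
  refine ⟨SimpleGraph.connected_of_ediam_ne_top hne, ?_⟩
  have hxT : Good t Finset.univ k := toGood ⟨t, IsConj.refl t⟩
  obtain ⟨y, gy, hty, hcomm⟩ := far h5 k hk1 t hxT
  let U : {x : Equiv.Perm (Fin n) // IsConj t x} := ⟨t, IsConj.refl t⟩
  let V : {x : Equiv.Perm (Fin n) // IsConj t x} := ⟨y, ofGood y gy⟩
  have hUV : U ≠ V := fun e => hty (congrArg Subtype.val e)
  have hord : orderOf (t * y) = 2 := by
    rw [orderOf_eq_prime_iff]
    refine ⟨?_, fun e => hty ?_⟩
    · rw [pow_two, show t * y * (t * y) = t * (y * t) * y by group, ← hcomm,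
        show t * (t * y) * y = (t * t) * (y * y) by group, htt, gy.inv, one_mul]
    · calc t = t * (t * y) := by rw [e, mul_one]
        _ = y := by rw [← mul_assoc, htt, one_mul]
  have hnadj : ¬ G.Adj U V := by
    rw [hG, SimpleGraph.fromRel_adj]
    rintro ⟨-, h | h⟩
    · change Odd (orderOf (t * y)) at h
      rw [hord] at h; exact absurd h (by decide)
    · change Odd (orderOf (y * t)) at h
      rw [← hcomm, hord] at h; exact absurd h (by decide)
  have h2 : G.ediam = 2 := by
    refine le_antisymm (SimpleGraph.ediam_le_of_edist_le hle) (le_trans ?_ (SimpleGraph.edist_le_ediam (u := U) (v := V)))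
    by_contra hlt
    push Not at hlt
    have h0 : G.edist U V ≠ 0 := fun e => hUV (SimpleGraph.edist_eq_zero_iff.1 e)
    have h1 : G.edist U V ≠ 1 := fun e => hnadj (SimpleGraph.edist_eq_one_iff_adj.1 e)
    revert hlt h0 h1
    cases G.edist U V with
    | top => intro h; exact absurd h (by simp)
    | coe m =>
      intro hlt h0 h1
      norm_cast at hlt h0 h1
      omega
  rw [SimpleGraph.diam, h2]; rfl

end Cfsg.Agent.S3265
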