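import Cfsg.Statements.S3266
import Mathlib
import Cfsg.Agent.S2258

set_option autoImplicit false
open Cfsg

namespace Cfsg.Agent.S3266


open scoped MatrixGroups
open Cfsg.Agent.PSL2Elements

local notation "π" => QuotientGroup.mk' (Subgroup.center SL(2, _))

variable {F : Type*} [Field F] [Finite F]

/-- The adjacency relation on lifts. -/
def Rel (A B : SL(2, F)) : Prop := Odd (orderOf (π (A * B)))

theorem odd_of_dvd {a b : ℕ} (h : a ∣ b) (hb : Odd b) : Odd a := by
  obtain ⟨c, rfl⟩ := h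
  exact (Nat.odd_mul.mp hb).1

theorem sub_sign {x : F} (hodd : Odd (Nat.card F)) (h4 : Nat.card F % 4 = 3) (hx : x ≠ 0)
    (h : ¬ IsSquare x) : IsSquare (-x) := by
  cases nonempty_fintype F
  rw [Nat.card_eq_fintype_card] at hodd h4
  have hr : ringChar F ≠ 2 := fun e => by
    have := FiniteField.even_card_of_char_two e
    rw [Nat.odd_iff] at hodd; omega
  rw [FiniteField.isSquare_iff hr hx] at h
  rw [FiniteField.isSquare_iff hr (neg_ne_zero.mpr hx),
    (FiniteField.pow_dichotomy hr hx).resolve_left h |> fun e => show (-x) ^ (Fintype.card F / 2) = 1 by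
      rw [Odd.neg_pow (Nat.odd_iff.mpr (by omega)), e, neg_neg]]

theorem cardLt {α β : Type*} [Finite α] [Finite β] (f : α → β) (hf : Function.Injective f) {b : β}
    (hb : b ∉ Set.range f) : Nat.card α < Nat.card β := by
  cases nonempty_fintype α
  cases nonempty_fintype β
  rw [Nat.card_eq_fintype_card, Nat.card_eq_fintype_card]
  exact Fintype.card_lt_of_injective_of_notMem f hf hb

/-! ### Odd characteristic -/

section Odd

variable (hodd : Odd (Nat.card F))
include hodd

theorem odd_pm_two {M : SL(2, F)} (h : tr M ^ 2 = 4) : Odd (orderOf (π M)) := by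
  have h2 := PSL2Proj52.two_ne_of_odd hodd
  obtain ⟨p, hp⟩ := CharP.exists F
  haveI : Fact p.Prime := ⟨CharP.char_is_prime F p⟩
  have hpo : Odd p := (Nat.Prime.eq_two_or_odd' Fact.out).resolve_left fun e => by
    subst e; exact h2 (CharP.cast_eq_zero F 2)
  refine odd_of_dvd (orderOf_dvd_of_pow_eq_one ?_) hpo
  rcases eq_or_eq_neg_of_sq_eq_sq (tr M) 2 (by rw [h]; norm_num) with e | e
  · rw [← map_pow, pow_char p e, map_one]
  · rw [← PSL2Proj52.π_neg, ← map_pow, pow_char p (A := -M) (by rw [tr_neg, e, neg_neg]), map_one]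

theorem odd_split (h4 : Nat.card F % 4 = 3) {M : SL(2, F)} {r : F}
    (h : tr M ^ 2 - 4 = r ^ 2) : Odd (orderOf (π M)) := by
  have h2 := PSL2Proj52.two_ne_of_odd hodd
  by_cases h0 : r = 0
  · exact odd_pm_two hodd (by rw [h0] at h; linear_combination h)
  have hne : tr M ^ 2 ≠ 4 := fun e => h0 (by
    have : r ^ 2 = 0 := by linear_combination -h + e
    exact sq_eq_zero_iff.mp this)
  have hmul : (tr M + r) / 2 * ((tr M - r) / 2) = 1 := by
    field_simp
    linear_combination h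
  let a : Fˣ := Units.mkOfMulEqOne _ _ hmul
  have hinv : ((tr M + r) / 2)⁻¹ = (tr M - r) / 2 := inv_eq_of_mul_eq_one_right hmul
  have hc : IsConj M (d a) := isConj_d_of_root hne (by
    show tr M = (tr M + r) / 2 + ((tr M + r) / 2)⁻¹
    rw [hinv]; field_simp; ring)
  obtain ⟨g, hg⟩ := isConj_iff.1 hc.symm
  have hM : M ^ (Nat.card F - 1) = 1 := by
    rw [← hg, conj_pow, pow_card_sub_one_d, mul_one, mul_inv_cancel]
  refine odd_of_dvd (orderOf_dvd_of_pow_eq_one (PSL2Proj52.π_pow_div PSL2Proj52.gcd_dvd.1 hM)) ?_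
  rw [Nat.odd_iff] at hodd ⊢
  rw [Nat.gcd_eq_left (show 2 ∣ Nat.card F - 1 by omega)]
  omega

theorem odd_nonsplit (h4 : Nat.card F % 4 = 1) {M : SL(2, F)}
    (h : ∀ r : F, tr M ^ 2 - 4 ≠ r ^ 2) : Odd (orderOf (π M)) := by
  have hns : ∀ r : F, r ^ 2 - tr M * r + 1 ≠ 0 := fun r e =>
    h (2 * r - tr M) (by linear_combination -4 * e)
  obtain ⟨-, hcard⟩ := centralizer_nonsplit hns
  have hM : M ^ (Nat.card F + 1) = 1 := by
    have := orderOf_dvd_natCard (⟨M, Subgroup.mem_centralizer_singleton_iff.2 rfl⟩ :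
      Subgroup.centralizer ({M} : Set SL(2, F)))
    rw [hcard, Subgroup.orderOf_mk] at this
    exact orderOf_dvd_iff_pow_eq_one.1 this
  refine odd_of_dvd (orderOf_dvd_of_pow_eq_one (PSL2Proj52.π_pow_div PSL2Proj52.gcd_dvd.2 hM)) ?_
  rw [Nat.odd_iff] at hodd ⊢
  rw [Nat.gcd_eq_left (show 2 ∣ Nat.card F - 1 by omega)]
  omega

/-- Two square-value sets meet. -/
theorem exists_common (h4 : Nat.card F % 4 = 3) {M : F} (hM : ∀ r : F, M ≠ r ^ 2) (c : F) :
    ∃ w z r : F, w ^ 2 + z ^ 2 = M ∧ (c - w) ^ 2 - 1 = r ^ 2 := by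
  by_contra hcon
  push Not at hcon
  let Cm := {p : F × F // p.1 ^ 2 + p.2 ^ 2 = M}
  let C1 := {p : F × F // p.1 ^ 2 + p.2 ^ 2 = 1}
  have hz : ∀ p : Cm, p.1.2 ≠ 0 := fun p e => hM p.1.1 (by linear_combination -p.2 + p.1.2 * e)
  have hsq : ∀ w : F, (∃ z, w ^ 2 + z ^ 2 = M) → ∃ g : F, g ≠ 0 ∧ g ^ 2 = 1 - (c - w) ^ 2 := by
    rintro w ⟨z, hwz⟩
    have hne : (c - w) ^ 2 - 1 ≠ 0 := fun e => hcon w z 0 hwz (by rw [e]; simp)
    obtain ⟨g, hg⟩ := sub_sign hodd h4 hne fun ⟨r, hr⟩ => hcon w z r hwz (by rw [hr]; ring)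
    exact ⟨g, fun e => hne (by rw [e] at hg; linear_combination -hg), by linear_combination -hg⟩
  choose g hg0 hg using hsq
  classical
  let f : Cm → C1 := fun p =>
    ⟨(c - p.1.1, if IsSquare p.1.2 then g p.1.1 ⟨_, p.2⟩ else -g p.1.1 ⟨_, p.2⟩), by
      split_ifs <;> linear_combination hg p.1.1 ⟨_, p.2⟩⟩
  have hns : ∀ z : F, z ≠ 0 → IsSquare z → ¬ IsSquare (-z) := by
    rintro z hz0 ⟨a, ha⟩ ⟨b, hb⟩
    have ha0 : a ≠ 0 := fun e => hz0 (by rw [ha, e, zero_mul])
    exact S2258.neg_one_not_sq h4 (b / a) (by field_simp; linear_combination -hb - ha)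
  have h2 := PSL2Proj52.two_ne_of_odd hodd
  have hf : Function.Injective f := by
    rintro ⟨⟨w, z⟩, hp⟩ ⟨⟨w', z'⟩, hq⟩ e
    have e1 : c - w = c - w' := congrArg (fun q => q.1.1) e
    obtain rfl : w = w' := by linear_combination -e1
    have e2 := congrArg (fun q => q.1.2) e
    simp only [f] at e2
    dsimp only at hp hq
    rcases eq_or_eq_neg_of_sq_eq_sq z z' (by linear_combination hp - hq) with rfl | rfl
    · rfl
    exfalso
    have hz' : z' ≠ 0 := hz ⟨(w, z'), hq⟩
    have key : g w ⟨_, hq⟩ = 0 := by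
      have sym : IsSquare (-z') ↔ ¬ IsSquare z' := by
        refine ⟨fun h h' => hns z' hz' h' h, fun h => ?_⟩
        exact sub_sign hodd h4 hz' h
      by_cases hs : IsSquare z'
      · rw [if_neg (hns z' hz' hs), if_pos hs] at e2
        exact (mul_eq_zero.mp (show 2 * g w ⟨_, hq⟩ = 0 by linear_combination -e2)).resolve_left h2
      · rw [if_pos (sym.mpr hs), if_neg hs] at e2
        exact (mul_eq_zero.mp (show 2 * g w ⟨_, hq⟩ = 0 by linear_combination e2)).resolve_left h2
    exact hg0 w _ key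
  have hmiss : (⟨(1, 0), by simp⟩ : C1) ∉ Set.range f := by
    rintro ⟨p, hp⟩
    have := congrArg (fun q => q.1.2) hp
    simp only [f] at this
    split_ifs at this
    · exact hg0 _ _ this
    · exact hg0 _ _ (neg_eq_zero.mp this)
  have hlt := (cardLt f hf hmiss)
  rw [S2258.card_norm hodd h4, S2258.card_norm hodd h4, if_neg one_ne_zero,
    if_neg (fun e => hM 0 (by rw [e]; simp))] at hlt
  omega

theorem mid_odd (hF : 4 ≤ Nat.card F) {B : SL(2, F)} (hB : tr B = 0) :
    Rel w B ∨ ∃ C : SL(2, F), tr C = 0 ∧ Rel w C ∧ Rel C B := by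
  have h2 := PSL2Proj52.two_ne_of_odd hodd
  obtain ⟨u', v', s, hu, hv, hv'⟩ : ∃ u' v' s : F,
      B.1 0 0 = u' ∧ B.1 0 1 = v' - s ∧ B.1 1 0 = v' + s :=
    ⟨_, (B.1 0 1 + B.1 1 0) / 2, (B.1 1 0 - B.1 0 1) / 2, rfl, by field_simp; ring,
      by field_simp; ring⟩
  have h11 : B.1 1 1 = -u' := by rw [tr, hu] at hB; linear_combination hB
  have hdet := det_eq B
  rw [hu, hv, hv', h11] at hdet
  have hwB : tr (w * B) = -2 * s := by
    simp only [tr, mul_apply2]
    simp [w, mk2, hv, hv']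
    ring
  -- the candidates
  have mk : ∀ x y a : F, x ^ 2 + y ^ 2 = a ^ 2 - 1 → ∃ C : SL(2, F), tr C = 0 ∧
      tr (w * C) = -2 * a ∧ tr (C * B) = -2 * (a * s - (x * u' + y * v')) := by
    intro x y a h
    refine ⟨mk2 x (y - a) (y + a) (-x) (by linear_combination -h), by simp [tr, mk2], ?_, ?_⟩
    · simp only [tr, mul_apply2]
      simp [w, mk2]
      ring
    · simp only [tr, mul_apply2]
      simp [mk2, hu, hv, hv', h11]
      ring
  have sq4 : ∀ {x r : F}, x ^ 2 - 1 = r ^ 2 → (-2 * x) ^ 2 - 4 = (2 * r) ^ 2 := fun {x r} h => by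
    linear_combination 4 * h
  rcases (show Nat.card F % 4 = 1 ∨ Nat.card F % 4 = 3 by rw [Nat.odd_iff] at hodd; omega)
    with h4 | h4
  · by_cases hN : ∃ r : F, r ≠ 0 ∧ s ^ 2 - 1 = r ^ 2
    · right
      obtain ⟨r, hr, hsr⟩ := hN
      cases nonempty_fintype F
      obtain ⟨i, hi⟩ := (FiniteField.isSquare_neg_one_iff (F := F)).mpr
        (by rw [← Nat.card_eq_fintype_card]; omega)
      have hne : u' + i * v' ≠ 0 := fun e => hr (sq_eq_zero_iff.mp
        (by linear_combination -hsr + hdet + (u' - i * v') * e - v' ^ 2 * hi))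
      obtain ⟨C, hC, h1, h2'⟩ := mk ((s - 1) / (u' + i * v')) (i * ((s - 1) / (u' + i * v'))) 1
        (by linear_combination -((s - 1) / (u' + i * v')) ^ 2 * hi)
      refine ⟨C, hC, odd_pm_two hodd (by rw [h1]; norm_num), odd_pm_two hodd ?_⟩
      have e : (s - 1) / (u' + i * v') * u' + i * ((s - 1) / (u' + i * v')) * v' = s - 1 := by
        field_simp
      rw [h2', e]
      ring
    · left
      by_cases h0 : s ^ 2 = 1
      · exact odd_pm_two hodd (by rw [hwB]; linear_combination 4 * h0)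
      refine odd_nonsplit hodd h4 fun r hr => hN ⟨r / 2, ?_, ?_⟩
      · intro e
        have : r = 0 := by simpa [h2] using e
        subst this
        rw [hwB] at hr
        exact h0 (mul_left_cancel₀ (mul_ne_zero h2 h2) (by linear_combination hr))
      · rw [hwB] at hr
        field_simp
        linear_combination hr
  · by_cases hN : ∃ r : F, s ^ 2 - 1 = r ^ 2
    · obtain ⟨r, hr⟩ := hN
      exact Or.inl (odd_split hodd h4 (r := 2 * r) (by rw [hwB]; exact sq4 hr))
    right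
    push Not at hN
    -- `m ∉ {0, 1, -1}`
    obtain ⟨m, hm0, hm1, hm2⟩ : ∃ m : F, m ≠ 0 ∧ m ≠ 1 ∧ m ≠ -1 := by
      classical
      cases nonempty_fintype F
      obtain ⟨m, -, hm⟩ := Finset.exists_mem_notMem_of_card_lt_card
        (s := ({0, 1, -1} : Finset F)) (t := Finset.univ)
        (by rw [Finset.card_univ, ← Nat.card_eq_fintype_card]
            exact lt_of_le_of_lt Finset.card_le_three (by omega))
      simp at hm
      exact ⟨m, hm⟩
    obtain ⟨a, ra, hra, har⟩ : ∃ a ra : F, ra ≠ 0 ∧ a ^ 2 - 1 = ra ^ 2 := by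
      refine ⟨(m + m⁻¹) / 2, (m - m⁻¹) / 2, ?_, by field_simp; ring⟩
      intro e
      field_simp at e
      rcases mul_eq_zero.mp (show (m - 1) * (m + 1) = 0 by linear_combination e) with e | e
      · exact hm1 (sub_eq_zero.mp e)
      · exact hm2 (eq_neg_of_add_eq_zero_left e)
    obtain ⟨ww, z, r, hwz, hr⟩ := exists_common hodd h4 (M := ra ^ 2 * (s ^ 2 - 1))
      (fun r e => hN (r / ra) (by field_simp; linear_combination e)) (a * s)
    have hN0 : u' ^ 2 + v' ^ 2 ≠ 0 := fun e => hN 0 (by linear_combination e + hdet)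
    obtain ⟨C, hC, h1, h2'⟩ := mk ((u' * ww - v' * z) / (u' ^ 2 + v' ^ 2))
      ((v' * ww + u' * z) / (u' ^ 2 + v' ^ 2)) a (by
        rw [har]
        field_simp
        linear_combination (u' ^ 2 + v' ^ 2) * hwz + (u' ^ 2 + v' ^ 2) * ra ^ 2 * hdet)
    refine ⟨C, hC, odd_split hodd h4 (r := 2 * ra) (by rw [h1]; exact sq4 har),
      odd_split hodd h4 (r := 2 * r) ?_⟩
    have e : (u' * ww - v' * z) / (u' ^ 2 + v' ^ 2) * u' +
        (v' * ww + u' * z) / (u' ^ 2 + v' ^ 2) * v' = ww := by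
      field_simp
      ring
    rw [h2', e]
    exact sq4 hr

theorem exists_anti : ∃ B : SL(2, F), tr B = 0 ∧ tr (w * B) = 0 := by
  cases nonempty_fintype F
  obtain ⟨a, b, h⟩ := FiniteField.exists_root_sum_quadratic (f := (Polynomial.X ^ 2 : Polynomial F))
    (g := Polynomial.X ^ 2 - Polynomial.C (-1)) (Polynomial.degree_X_pow 2)
    (Polynomial.degree_X_pow_sub_C two_pos (-1))
    (by rw [← Nat.card_eq_fintype_card]; exact Nat.odd_iff.mp hodd)
  simp at h
  refine ⟨mk2 a b b (-a) (by linear_combination -h), by simp [tr, mk2], ?_⟩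
  simp only [tr, mul_apply2]
  simp [w, mk2]

end Odd

/-! ### Characteristic two -/

section Even

variable (h2 : (2 : F) = 0)
include h2

theorem tr_sq_two {M : SL(2, F)} (h : π M * π M = 1) : tr M = 0 := by
  rw [← map_mul, ← map_one (π : SL(2, F) →* _), (PSL2Proj52.π_injective_of_even h2).eq_iff] at h
  by_contra ht
  have e := congrArg Subtype.val h
  rw [coe_mul', sq_eq, coe_one', sub_eq_iff_eq_add, ← two_smul F (1 : Matrix (Fin 2) (Fin 2) F),
    h2, zero_smul] at e
  have hd := M.2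
  rw [(smul_eq_zero.mp e).resolve_left ht] at hd
  simp at hd

theorem odd_even {M : SL(2, F)} (h : tr M ≠ 0) : Odd (orderOf (π M)) := by
  haveI : Fact (Nat.Prime 2) := ⟨Nat.prime_two⟩
  haveI : CharP F 2 := CharTwo.of_one_ne_zero_of_two_eq_zero one_ne_zero h2
  rcases PSL2Proj52.gcd_eq (F := F) with ⟨ho, -⟩ | ⟨he, hg⟩
  · exact absurd h2 (PSL2Proj52.two_ne_of_odd ho)
  rw [Nat.even_iff] at he
  have := PSLCard.one_lt_card F
  rcases PSL2Proj52.pow_cases 2 (π M) with e | e | e
  · exact absurd (tr_sq_two h2 ((sq _).symm.trans e)) h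
  all_goals
    rw [hg, Nat.div_one] at e
    exact odd_of_dvd (orderOf_dvd_of_pow_eq_one e) (Nat.odd_iff.mpr (by omega))

theorem mid_even {A B : SL(2, F)} (hA : tr A = 0) (hB : tr B = 0) (hA1 : A ≠ 1) (hB1 : B ≠ 1) :
    ∃ C : SL(2, F), tr C = 0 ∧ C ≠ 1 ∧ Rel A C ∧ Rel C B := by
  cases nonempty_fintype F
  haveI : CharP F 2 := CharTwo.of_one_ne_zero_of_two_eq_zero one_ne_zero h2
  have nz : ∀ A : SL(2, F), tr A = 0 → A ≠ 1 → A.1 0 1 ≠ 0 ∨ A.1 1 0 ≠ 0 := by
    intro A hA hA1
    by_contra hc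
    push Not at hc
    obtain ⟨hb, hc⟩ := hc
    have hd := det_eq A
    rw [hb, hc] at hd
    rw [tr] at hA
    have h0 : A.1 0 0 = 1 := by
      have : (A.1 0 0 - 1) * (A.1 0 0 - 1) = 0 := by
        linear_combination -hd + A.1 0 0 * hA - A.1 0 0 * h2
      exact sub_eq_zero.1 (mul_self_eq_zero.1 this)
    refine hA1 (ext2 ?_ ?_ ?_ ?_) <;> simp [h0, hb, hc]
    linear_combination hA - h0 - h2
  obtain ⟨b, c, h1, h2'⟩ : ∃ b c : F, A.1 0 1 * c + A.1 1 0 * b ≠ 0 ∧ B.1 0 1 * c + B.1 1 0 * b ≠ 0 := by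
    by_contra hcon
    simp only [not_exists, not_and, not_not] at hcon
    have e1 := hcon 0 1
    have e2 := hcon 1 0
    have e3 := hcon 1 1
    simp at e1 e2 e3
    rcases nz A hA hA1 with a | a <;> rcases nz B hB hB1 with b | b <;> grind
  obtain ⟨a, ha⟩ : IsSquare (1 + b * c) := FiniteField.isSquare_of_char_two (ringChar.eq F 2 : ringChar F = 2) _
  let C : SL(2, F) := mk2 a b c a (by linear_combination -ha)
  have hC : tr C = 0 := by simp [C, tr, mk2]; linear_combination a * h2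
  have t1 : tr (A * C) = A.1 0 1 * c + A.1 1 0 * b := by
    rw [tr] at hA
    simp only [tr, mul_apply2]
    simp [C, mk2]
    linear_combination a * hA
  have t2 : tr (C * B) = B.1 0 1 * c + B.1 1 0 * b := by
    rw [tr] at hB
    simp only [tr, mul_apply2]
    simp [C, mk2]
    linear_combination a * hB
  refine ⟨C, hC, fun e => h1 ?_, odd_even h2 (by rw [t1]; exact h1), odd_even h2 (by rw [t2]; exact h2')⟩
  rw [← t1, e, mul_one, hA]

theorem conj_even {A : SL(2, F)} (hA : tr A = 0) (hA1 : A ≠ 1) : IsConj (u 1) A := by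
  cases nonempty_fintype F
  haveI : CharP F 2 := CharTwo.of_one_ne_zero_of_two_eq_zero one_ne_zero h2
  obtain ⟨ν, hν⟩ := isConj_u_of_tr_two (hA.trans h2.symm)
  have hν0 : ν ≠ 0 := by
    rintro rfl
    obtain ⟨c, hc⟩ := isConj_iff.mp hν
    rw [u_zero, mul_inv_eq_one, mul_eq_left] at hc
    exact hA1 hc
  obtain ⟨a, ha⟩ : IsSquare ν := FiniteField.isSquare_of_char_two (ringChar.eq F 2 : ringChar F = 2) _
  have ha0 : a ≠ 0 := fun e => hν0 (by rw [ha, e, zero_mul])
  have := u_conj_square (Units.mk0 a ha0) (1 : F)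
  rw [mul_one, Units.val_mk0, sq, ← ha] at this
  exact this.trans hν.symm

end Even

/-- Any two involutions are at distance at most two; some pair is not adjacent. -/
theorem facts (hF : 4 ≤ Nat.card F) :
    (∀ x y : Matrix.ProjectiveSpecialLinearGroup (Fin 2) F, orderOf x = 2 → orderOf y = 2 →
      IsConj x y) ∧
    (∀ x y : Matrix.ProjectiveSpecialLinearGroup (Fin 2) F, orderOf x = 2 → orderOf y = 2 →
      Odd (orderOf (x * y)) ∨
        ∃ z, orderOf z = 2 ∧ Odd (orderOf (x * z)) ∧ Odd (orderOf (z * y))) ∧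
    ∃ x y : Matrix.ProjectiveSpecialLinearGroup (Fin 2) F,
      orderOf x = 2 ∧ orderOf y = 2 ∧ orderOf (x * y) = 2 := by
  have two : ∀ {g : Matrix.ProjectiveSpecialLinearGroup (Fin 2) F}, g * g = 1 → g ≠ 1 →
      orderOf g = 2 := fun h h' => orderOf_eq_prime (by rw [sq, h]) h'
  rcases PSL2Proj52.gcd_eq (F := F) with ⟨hodd, -⟩ | ⟨hev, -⟩
  · have h2 := PSL2Proj52.two_ne_of_odd hodd
    have ord : ∀ A : SL(2, F), tr A = 0 → orderOf (π A) = 2 := fun A h =>
      two (DicksonFourGroups.sq_of_tr_zero h2 h) (DicksonFourGroups.ne_one_of_tr_zero h2 h)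
    have lift : ∀ x : Matrix.ProjectiveSpecialLinearGroup (Fin 2) F, orderOf x = 2 →
        ∃ A, π A = x ∧ tr A = 0 := by
      intro x hx
      obtain ⟨A, rfl⟩ : ∃ A, π A = x := PSL2Proj52.π_surjective x
      exact ⟨A, rfl, (DicksonRational.sq_eq_neg_one_of_order_two h2 hx).1⟩
    refine ⟨?_, ?_, ?_⟩
    · intro x y hx hy
      obtain ⟨A, rfl, hA⟩ := lift x hx
      obtain ⟨B, rfl, hB⟩ := lift y hy
      exact MonoidHom.map_isConj _
        ((isConj_w_of_tr_zero h2 hA).trans (isConj_w_of_tr_zero h2 hB).symm)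
    · intro x y hx hy
      obtain ⟨A, rfl, hA⟩ := lift x hx
      obtain ⟨B, rfl, hB⟩ := lift y hy
      obtain ⟨g, hg⟩ := isConj_iff.mp (isConj_w_of_tr_zero h2 hA)
      have key : ∀ X Y : SL(2, F), orderOf (π X * π Y) = orderOf (π (g * X * g⁻¹ * (g * Y * g⁻¹))) := by
        intro X Y
        rw [show g * X * g⁻¹ * (g * Y * g⁻¹) = g * (X * Y) * g⁻¹ by group, map_mul, map_mul, map_inv,
          map_mul]
        exact ((MulAut.conj (π g)).orderOf_eq _).symm
      rcases mid_odd hodd hF (B := g * B * g⁻¹) (by rw [tr_conj, hB]) with h | ⟨C, hC, h1, h3⟩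
      · left
        rw [key, hg]
        exact h
      · refine Or.inr ⟨π (g⁻¹ * C * g⁻¹⁻¹), ord _ (by rw [tr_conj, hC]), ?_, ?_⟩
        · rw [key, hg, show g * (g⁻¹ * C * g⁻¹⁻¹) * g⁻¹ = C by group]
          exact h1
        · rw [key, show g * (g⁻¹ * C * g⁻¹⁻¹) * g⁻¹ = C by group]
          exact h3
    · obtain ⟨B, hB, hwB⟩ := exists_anti hodd
      exact ⟨_, _, ord w tr_w, ord B hB, by rw [← map_mul]; exact ord _ hwB⟩
  · have h2 := PSL2Proj52.two_eq_of_even hev
    have inj := PSL2Proj52.π_injective_of_even (F := F) h2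
    have ord : ∀ A : SL(2, F), tr A = 0 → A ≠ 1 → orderOf (π A) = 2 := by
      intro A h h1
      refine two ?_ (fun e => h1 (inj (e.trans (map_one _).symm)))
      rw [← map_mul, ← map_one (π : SL(2, F) →* _)]
      congr 1
      apply Subtype.ext
      rw [coe_mul', sq_eq, h, zero_smul, zero_sub, coe_one', neg_eq_iff_add_eq_zero,
        ← two_smul F (1 : Matrix (Fin 2) (Fin 2) F), h2, zero_smul]
    have lift : ∀ x : Matrix.ProjectiveSpecialLinearGroup (Fin 2) F, orderOf x = 2 →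
        ∃ A, π A = x ∧ tr A = 0 ∧ A ≠ 1 := by
      intro x hx
      obtain ⟨A, rfl⟩ : ∃ A, π A = x := PSL2Proj52.π_surjective x
      refine ⟨A, rfl, tr_sq_two h2 ?_, fun e => ?_⟩
      · rw [← sq]
        have := pow_orderOf_eq_one (π A)
        rwa [hx] at this
      · rw [e, map_one, orderOf_one] at hx; omega
    refine ⟨?_, ?_, ?_⟩
    · intro x y hx hy
      obtain ⟨A, rfl, hA, hA1⟩ := lift x hx
      obtain ⟨B, rfl, hB, hB1⟩ := lift y hy
      exact MonoidHom.map_isConj _ ((conj_even h2 hA hA1).symm.trans (conj_even h2 hB hB1))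
    · intro x y hx hy
      obtain ⟨A, rfl, hA, hA1⟩ := lift x hx
      obtain ⟨B, rfl, hB, hB1⟩ := lift y hy
      obtain ⟨C, hC, hC1, h1, h3⟩ := mid_even h2 hA hB hA1 hB1
      exact Or.inr ⟨π C, ord C hC hC1, by rw [← map_mul]; exact h1, by rw [← map_mul]; exact h3⟩
    · obtain ⟨t, ht0, ht1⟩ : ∃ t : F, t ≠ 0 ∧ t ≠ 1 := by
        classical
        cases nonempty_fintype F
        obtain ⟨t, -, ht⟩ := Finset.exists_mem_notMem_of_card_lt_card
          (s := ({0, 1} : Finset F)) (t := Finset.univ)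
          (by rw [Finset.card_univ, ← Nat.card_eq_fintype_card]
              exact lt_of_le_of_lt Finset.card_le_two (by omega))
        simp at ht
        exact ⟨t, ht⟩
      have hu : ∀ x : F, x ≠ 0 → orderOf (π (u x)) = 2 := fun x hx =>
        ord _ (by rw [tr_u, h2]) fun e => hx (u_injective (e.trans u_zero.symm))
      refine ⟨_, _, hu 1 one_ne_zero, hu t ht0, ?_⟩
      rw [← map_mul, u_mul]
      exact hu _ fun e => ht1 (by linear_combination e - h2)
/-- Let F be a finite field with at least 4 elements and let X be a conjugacy class of involutions of PSL(2, F). The graph on X joining two distinct involutions whose product has odd order is connected and has diameter exactly 2. -/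
theorem result {F : Type*} [Field F] [Fintype F] (hF : 4 ≤ Fintype.card F)
    (t : Matrix.ProjectiveSpecialLinearGroup (Fin 2) F) (ht : orderOf t = 2) :
    (SimpleGraph.fromRel fun x y : {x : Matrix.ProjectiveSpecialLinearGroup (Fin 2) F // IsConj t x} =>
        Odd (orderOf (x.1 * y.1))).Connected ∧
      (SimpleGraph.fromRel fun x y : {x : Matrix.ProjectiveSpecialLinearGroup (Fin 2) F // IsConj t x} =>
        Odd (orderOf (x.1 * y.1))).diam = 2 := by
  obtain ⟨conj, mid, x₀, y₀, hx₀, hy₀, hxy⟩ := facts (F := F) (by rwa [Nat.card_eq_fintype_card])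
  have inv1 : ∀ {g : Matrix.ProjectiveSpecialLinearGroup (Fin 2) F}, orderOf g = 2 → g * g = 1 :=
    fun {g} h => by
      have := pow_orderOf_eq_one g
      rw [h] at this
      rw [← sq]
      exact this
  set G := SimpleGraph.fromRel fun x y : {x : Matrix.ProjectiveSpecialLinearGroup (Fin 2) F // IsConj t x} =>
    Odd (orderOf (x.1 * y.1)) with hG
  have ord2 : ∀ x : {x : Matrix.ProjectiveSpecialLinearGroup (Fin 2) F // IsConj t x},
      orderOf x.1 = 2 := by
    intro x
    obtain ⟨c, hc⟩ := isConj_iff.mp x.2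
    rw [← hc]
    exact ((MulAut.conj c).orderOf_eq t).trans ht
  have step : ∀ a b : {x : Matrix.ProjectiveSpecialLinearGroup (Fin 2) F // IsConj t x},
      Odd (orderOf (a.1 * b.1)) → G.edist a b ≤ 1 := by
    intro a b h
    by_cases e : a = b
    · simp [e]
    · exact le_of_eq (SimpleGraph.edist_eq_one_iff_adj.mpr ⟨e, Or.inl h⟩)
  have le2 : ∀ a b, G.edist a b ≤ 2 := by
    intro a b
    rcases mid a.1 b.1 (ord2 a) (ord2 b) with h | ⟨z, hz, h1, h2⟩
    · exact (step a b h).trans (by norm_num)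
    · have hzc : IsConj t z := conj t z ht hz
      refine (SimpleGraph.edist_triangle (v := ⟨z, hzc⟩)).trans ?_
      exact (add_le_add (step a ⟨z, hzc⟩ h1) (step ⟨z, hzc⟩ b h2)).trans (le_of_eq (by norm_num))
  let X : {x : Matrix.ProjectiveSpecialLinearGroup (Fin 2) F // IsConj t x} := ⟨x₀, conj t x₀ ht hx₀⟩
  let Y : {x : Matrix.ProjectiveSpecialLinearGroup (Fin 2) F // IsConj t x} := ⟨y₀, conj t y₀ ht hy₀⟩
  haveI : Nonempty {x : Matrix.ProjectiveSpecialLinearGroup (Fin 2) F // IsConj t x} := ⟨X⟩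
  have hconn : G.Connected := ⟨fun a b => SimpleGraph.reachable_of_edist_ne_top
    (ne_top_of_le_ne_top (by simp) (le2 a b))⟩
  have hne : X ≠ Y := fun e => by
    have e' : x₀ = y₀ := congrArg Subtype.val e
    rw [← e', inv1 hx₀, orderOf_one] at hxy
    omega
  have hnadj : ¬ G.Adj X Y := by
    have hcomm : orderOf (y₀ * x₀) = 2 := by
      rw [← orderOf_inv (y₀ * x₀), mul_inv_rev, inv_eq_of_mul_eq_one_right (inv1 hx₀),
        inv_eq_of_mul_eq_one_right (inv1 hy₀)]
      exact hxy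
    rintro ⟨-, h | h⟩
    · exact absurd h (by simp [X, Y, hxy])
    · exact absurd h (by simp [X, Y, hcomm])
  have heq : G.ediam = 2 := by
    refine le_antisymm (SimpleGraph.ediam_le_of_edist_le le2) ?_
    refine le_trans ?_ (SimpleGraph.edist_le_ediam (u := X) (v := Y))
    have h0 : G.edist X Y ≠ 0 := fun e => hne (SimpleGraph.edist_eq_zero_iff.mp e)
    have h1 : G.edist X Y ≠ 1 := fun e => hnadj (SimpleGraph.edist_eq_one_iff_adj.mp e)
    have h2 := le2 X Y
    revert h0 h1 h2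
    generalize G.edist X Y = d
    induction d using ENat.recTopCoe with
    | top => simp
    | coe n => intro h0 h1 h2; norm_cast at h0 h1 h2 ⊢; omega
  exact ⟨hconn, by rw [SimpleGraph.diam, heq]; rfl⟩

end Cfsg.Agent.S3266
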