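import Cfsg.Statements.S3269
import Cfsg.Agent.Lib.ZStarQuatFactor

set_option autoImplicit false
open Cfsg

namespace Cfsg.Agent.S3269

/-- Let G be a finite group whose Sylow 2-subgroup S is an internal direct product Q × R with Q generalized quaternion (of order at least 8) and R a subgroup all of whose involutions are central in R. Then G is not simple. In particular no finite simple group has a Sylow 2-subgroup that is a direct product of one or more generalized quaternion groups. -/
theorem result {G : Type*} [Group G] [Finite G]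
    (S : Sylow 2 G) (Q R : Subgroup G) (hQR : Cfsg.IsInternalDirectProduct Q R (S : Subgroup G))
    (n : ℕ) (hn : 1 ≤ n) (eQ : ↥Q ≃* QuaternionGroup (2 ^ n))
    (hR : ∀ r ∈ R, orderOf r = 2 → ∀ s ∈ R, r * s = s * r) :
    ¬ IsSimpleGroup G := by
  intro hsimple
  classical
  have : Fact (Nat.Prime 2) := ⟨Nat.prime_two⟩
  obtain ⟨hQS, hRS, hcomm, hdisj, hsup⟩ := hQR
  set f : ↥Q × ↥R →* G := MonoidHom.noncommCoprod Q.subtype R.subtype
    (fun a b => hcomm a a.2 b b.2) with hf
  have hfa : ∀ a : ↥Q × ↥R, f a = (a.1 : G) * a.2 := fun a => rfl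
  have hfinj : Function.Injective f := by
    rw [injective_iff_map_eq_one]
    rintro ⟨a, b⟩ h
    rw [hfa, mul_eq_one_iff_eq_inv] at h
    have h1 : (a : G) ∈ Q ⊓ R := Subgroup.mem_inf.2 ⟨a.2, by rw [h]; exact inv_mem b.2⟩
    rw [hdisj, Subgroup.mem_bot] at h1
    rw [h1, eq_comm, inv_eq_one] at h
    exact Prod.ext (Subtype.ext h1) (Subtype.ext h)
  have hfr : f.range = (S : Subgroup G) := by
    rw [← hsup]
    refine le_antisymm ?_ (sup_le (fun x hx => ⟨(⟨x, hx⟩, 1), by rw [hfa]; simp⟩)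
      (fun x hx => ⟨(1, ⟨x, hx⟩), by rw [hfa]; simp⟩))
    rintro _ ⟨a, rfl⟩
    exact mul_mem (Subgroup.mem_sup_left a.1.2) (Subgroup.mem_sup_right a.2.2)
  let e : ↥Q × ↥R ≃* ↥(S : Subgroup G) :=
    (MonoidHom.ofInjective hfinj).trans (MulEquiv.subgroupCongr hfr)
  have he : ∀ a, (e a : G) = (a.1 : G) * a.2 := fun a => rfl
  let π : ↥(S : Subgroup G) →* ↥Q := (MonoidHom.fst ↥Q ↥R).comp e.symm.toMonoidHom
  have hdec : ∀ s : ↥(S : Subgroup G), (s : G) = (π s : G) * ((e.symm s).2 : G) := fun s => by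
    conv_lhs => rw [← e.apply_symm_apply s, he]
    rfl
  set m := 2 ^ n with hm
  have : NeZero m := ⟨by positivity⟩
  obtain ⟨u, v, huv⟩ := Cfsg.Agent.ZStarQuatFactor.quat_commutator hn
  set q : ↥Q := eQ.symm (QuaternionGroup.a (m : ZMod (2 * m))) with hqdef
  have hqq : q * q = 1 := by
    apply eQ.injective
    rw [map_mul, map_one, hqdef, MulEquiv.apply_symm_apply, QuaternionGroup.a_mul_a,
      QuaternionGroup.one_def, QuaternionGroup.a.injEq, ← Nat.cast_add, ← two_mul,
      ZMod.natCast_self]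
  have hq1 : q ≠ 1 := fun h => by
    have := congrArg eQ h
    rw [map_one, hqdef, MulEquiv.apply_symm_apply, QuaternionGroup.one_def,
      QuaternionGroup.a.injEq, ZMod.natCast_eq_zero_iff] at this
    have := Nat.le_of_dvd (NeZero.pos m) this
    have := NeZero.pos m
    omega
  have huniq : ∀ x : ↥Q, x * x = 1 → x = 1 ∨ x = q := fun x hx => by
    rcases Cfsg.Agent.ZStarQuatFactor.quat_involution (x := eQ x) (by rw [← map_mul, hx, map_one]) with h | h
    · exact Or.inl (eQ.injective (by rw [h, map_one]))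
    · exact Or.inr (eQ.injective (by rw [h, hqdef, MulEquiv.apply_symm_apply]))
  have hqc : ∀ x : ↥Q, x * q = q * x := fun x => eQ.injective (by
    rw [map_mul, map_mul, hqdef, MulEquiv.apply_symm_apply]
    exact Cfsg.Agent.ZStarQuatFactor.quat_central m _)
  have hinv : ∀ x : ↥(S : Subgroup G), x * x = 1 → x ∈ Subgroup.center ↥(S : Subgroup G) := by
    intro x hx
    rw [Subgroup.mem_center_iff]
    intro y
    apply e.symm.injective
    rw [map_mul, map_mul]
    have h1 : e.symm x * e.symm x = 1 := by rw [← map_mul, hx, map_one]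
    refine Prod.ext ?_ ?_
    · rcases huniq _ (congrArg Prod.fst h1) with h | h
      · simp [h]
      · simp only [Prod.fst_mul]; rw [h, hqc]
    · simp only [Prod.snd_mul]
      by_cases hb : (e.symm x).2 = 1
      · simp [hb]
      · have ho : orderOf ((e.symm x).2 : G) = 2 := by
          rw [Subgroup.orderOf_coe]
          exact orderOf_eq_prime (by rw [pow_two]; exact congrArg Prod.snd h1) hb
        exact Subtype.ext (hR _ (e.symm x).2.2 ho _ (e.symm y).2.2).symm
  have hπ : ∀ x (hx : x ∈ Q), π ⟨x, hQS hx⟩ = ⟨x, hx⟩ := fun x hx => by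
    show (e.symm _).1 = _
    rw [show (⟨x, hQS hx⟩ : ↥(S : Subgroup G)) = e (⟨x, hx⟩, 1) from
      Subtype.ext (by rw [he]; simp), MulEquiv.symm_apply_apply]
  obtain ⟨w, hwS, hw⟩ := Cfsg.Agent.ZStarQuatFactor.exists_isolated S Q π hQS hπ
    (fun x y hy hx => Subtype.ext (by
      rw [Subgroup.coe_mul, Subgroup.coe_mul, hdec y, hy]
      simpa using hcomm _ hx _ (e.symm y).2.2))
    hinv hq1 hqq huniq (u := eQ.symm u) (v := eQ.symm v)
    (by rw [hqdef, ← huv]; simp only [map_mul, map_inv])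
  have hOn : (Cfsg.pPrimeCore 2 G).Normal := Cfsg.Agent.HallCore.pPrimeCore_normal 2 G
  have hO : Cfsg.pPrimeCore 2 G = ⊥ := by
    refine (IsSimpleGroup.eq_bot_or_eq_top_of_normal _ hOn).resolve_right fun h => ?_
    exact Cfsg.Agent.ZStarTheorem.notMem_pPrimeCore hw.1 (h ▸ Subgroup.mem_top w)
  have hwc := Cfsg.Agent.ZStarTheorem.mem_center_of_isolated hw hO
  have htop : Subgroup.center G = ⊤ :=
    (IsSimpleGroup.eq_bot_or_eq_top_of_normal _ inferInstance).resolve_left fun h => by
      rw [h, Subgroup.mem_bot] at hwc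
      exact Cfsg.Agent.IsolatedInv.ne_one_of_orderOf_two hw.1 hwc
  have hab : (eQ.symm u : G) * (eQ.symm v : G) = (eQ.symm v : G) * (eQ.symm u : G) :=
    (Subgroup.mem_center_iff.1 (htop ▸ Subgroup.mem_top (eQ.symm v : G)) _)
  refine hq1 ?_
  have hab' : eQ.symm u * eQ.symm v = eQ.symm v * eQ.symm u := Subtype.ext hab
  rw [hqdef, ← huv, map_mul, map_mul, map_mul, map_inv, map_inv, hab']
  simp

end Cfsg.Agent.S3269
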