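import Cfsg.Statements.S3276
import Cfsg.Agent.S3279

set_option autoImplicit false
open Cfsg

namespace Cfsg.Agent.S3276
open Cfsg.Agent.S3279 (inv_mul_self_eq inv_eq inv_ne_one order_conj commute_conj exists_third)

/-- Let x and y be commuting, non-conjugate involutions of a finite group G, and suppose that for every involution u commuting with x, each conjugate of y that commutes with u also commutes with y. Then the normal closure of y is a proper, normal, elementary abelian 2-subgroup of G; and if y is the only involution of that normal closure commuting with x, it has order at most 4. -/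
theorem result {G : Type*} [Group G] [Finite G] (x y : G) (hx : orderOf x = 2) (hy : orderOf y = 2)
    (hxy : Commute x y) (hnc : ¬ IsConj x y)
    (hstar : ∀ u : G, orderOf u = 2 → Commute u x → ∀ g : G, Commute (g * y * g⁻¹) u → Commute (g * y * g⁻¹) y) :
    Subgroup.normalClosure ({y} : Set G) ≠ ⊤ ∧ Cfsg.IsElementaryAbelian 2 (Subgroup.normalClosure ({y} : Set G)) ∧
      ((∀ u ∈ Subgroup.normalClosure ({y} : Set G), orderOf u = 2 → Commute u x → u = y) →
        Nat.card ↥(Subgroup.normalClosure ({y} : Set G)) ≤ 4) := by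
  have hcy : ∀ g : G, Commute (g * y * g⁻¹) y := by
    intro g
    have hgy : orderOf (g * y * g⁻¹) = 2 := by rw [order_conj, hy]
    obtain ⟨w, hw, hwx, hwy, -, -⟩ := exists_third hx hgy
      (fun h => hnc (h.trans (isConj_iff.2 ⟨g⁻¹, by group⟩)))
    exact hstar w hw hwx g hwy.symm
  have hcc : ∀ g k : G, Commute (g * y * g⁻¹) (k * y * k⁻¹) := by
    intro g k
    have := commute_conj k (hcy (k⁻¹ * g))
    rwa [show k * (k⁻¹ * g * y * (k⁻¹ * g)⁻¹) * k⁻¹ = g * y * g⁻¹ by group] at this
  set N := Subgroup.normalClosure ({y} : Set G) with hN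
  have hmem : ∀ p ∈ Group.conjugatesOfSet ({y} : Set G), ∃ g, g * y * g⁻¹ = p := by
    intro p hp
    obtain ⟨y', hy', h⟩ := Group.mem_conjugatesOfSet_iff.1 hp
    rw [Set.mem_singleton_iff] at hy'
    subst hy'
    exact isConj_iff.1 h
  have hcomm : IsMulCommutative N := by
    rw [hN, Subgroup.normalClosure]
    refine Subgroup.isMulCommutative_closure ?_
    intro p hp q hq
    obtain ⟨g, rfl⟩ := hmem p hp
    obtain ⟨k, rfl⟩ := hmem q hq
    exact (hcc g k).eq
  have hmul : ∀ a ∈ N, ∀ b ∈ N, a * b = b * a := fun a ha b hb =>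
    congrArg Subtype.val (hcomm.is_comm.comm ⟨a, ha⟩ ⟨b, hb⟩)
  have hsq : ∀ a ∈ N, a ^ 2 = 1 := by
    intro a ha
    induction ha using Subgroup.closure_induction with
    | mem p hp =>
      obtain ⟨g, rfl⟩ := hmem p hp
      rw [pow_two, inv_mul_self_eq (by rw [order_conj, hy])]
    | one => exact one_pow 2
    | mul p q hp hq h1 h2 => rw [(show Commute p q from hmul p hp q hq).mul_pow, h1, h2, one_mul]
    | inv p _ h => rw [inv_pow, h, inv_one]
  refine ⟨?_, ⟨hcomm, hsq⟩, ?_⟩
  · intro htop
    apply hnc
    have hcen : ∀ g : G, g * y * g⁻¹ = y := fun g => by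
      rw [mul_inv_eq_iff_eq_mul]
      exact hmul g (htop ▸ Subgroup.mem_top g) y (htop ▸ Subgroup.mem_top y)
    have hle : N ≤ Subgroup.zpowers y := by
      rw [hN, Subgroup.normalClosure, Subgroup.closure_le]
      intro p hp
      obtain ⟨g, rfl⟩ := hmem p hp
      rw [hcen g]
      exact Subgroup.mem_zpowers y
    obtain ⟨k, hk⟩ := hle (htop ▸ Subgroup.mem_top x)
    have h2 : y ^ (2 : ℤ) = 1 := by rw [zpow_two]; exact inv_mul_self_eq hy
    rcases Int.even_or_odd k with ⟨j, hj⟩ | ⟨j, hj⟩
    · exact absurd (show x = 1 by simp [← hk, hj, ← two_mul, zpow_mul, h2]) (inv_ne_one hx)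
    · rw [show x = y by simp [← hk, hj, zpow_add, zpow_mul, h2]]
  · intro hu
    have hNn : N.Normal := Subgroup.normalClosure_normal
    have hyN : y ∈ N := Subgroup.subset_normalClosure (Set.mem_singleton y)
    -- the map n ↦ n * (x n x⁻¹)
    let c : N →* N := MonoidHom.mk'
      (fun n => ⟨(n : G) * (x * n * x⁻¹), N.mul_mem n.2 (hNn.conj_mem _ n.2 x)⟩) (by
        intro a b
        refine Subtype.ext ?_
        show (a : G) * b * (x * (a * b) * x⁻¹) = a * (x * a * x⁻¹) * (b * (x * b * x⁻¹))
        have h := hmul b b.2 (x * (a : G) * x⁻¹) (hNn.conj_mem _ a.2 x)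
        calc (a : G) * b * (x * (a * b) * x⁻¹)
            = a * ((b : G) * (x * a * x⁻¹)) * (x * b * x⁻¹) := by group
          _ = a * ((x * a * x⁻¹) * b) * (x * b * x⁻¹) := by rw [h]
          _ = _ := by group)
    have hfix : ∀ n : N, Commute (n : G) x → n = 1 ∨ n = ⟨y, hyN⟩ := by
      intro n hn
      by_cases h1 : (n : G) = 1
      · exact Or.inl (Subtype.ext h1)
      · exact Or.inr (Subtype.ext (hu n n.2 (orderOf_eq_prime (hsq n n.2) h1) hn))
    have hF : ∀ H : Subgroup N, (∀ n ∈ H, Commute (n : G) x) → Nat.card H ≤ 2 := by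
      intro H hH
      classical
      let f : H → Bool := fun n => decide ((n : N) = 1)
      have hy1 : (⟨y, hyN⟩ : N) ≠ 1 := fun h => inv_ne_one hy (congrArg Subtype.val h)
      have hf : Function.Injective f := by
        intro a b hab
        refine Subtype.ext ?_
        rcases hfix a (hH a a.2) with ha | ha <;> rcases hfix b (hH b b.2) with hb | hb <;>
          simp only [f, ha, hb, hy1, decide_true, decide_false, Bool.true_eq_false, Bool.false_eq_true] at hab ⊢
      simpa using Nat.card_le_card_of_injective f hf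
    have hx2 : x * x = 1 := inv_mul_self_eq hx
    have hker : ∀ n ∈ c.ker, Commute (n : G) x := by
      intro n hn
      have h : (n : G) * (x * n * x⁻¹) = 1 := congrArg Subtype.val (MonoidHom.mem_ker.1 hn)
      have h' : x * (n : G) * x⁻¹ = n := by
        rw [eq_inv_of_mul_eq_one_right h]
        exact inv_eq_of_mul_eq_one_right (by rw [← pow_two]; exact hsq n n.2)
      exact (mul_inv_eq_iff_eq_mul.1 h').symm
    have hran : ∀ n ∈ c.range, Commute (n : G) x := by
      rintro _ ⟨n, rfl⟩
      show Commute ((n : G) * (x * n * x⁻¹)) x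
      have h' : x * ((n : G) * (x * n * x⁻¹)) * x⁻¹ = (n : G) * (x * n * x⁻¹) := by
        rw [inv_eq hx, hmul n n.2 (x * (n : G) * x) (by simpa [inv_eq hx] using hNn.conj_mem _ n.2 x)]
        calc x * (x * (n : G) * x * n) * x = (x * x) * n * (x * n * x) := by group
          _ = (n : G) * (x * n * x) := by rw [hx2, one_mul]
          _ = _ := hmul n n.2 (x * (n : G) * x) (by simpa [inv_eq hx] using hNn.conj_mem _ n.2 x)
      exact (mul_inv_eq_iff_eq_mul.1 h').symm
    have hcard := c.ker.card_mul_index
    rw [Subgroup.index_ker] at hcard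
    have h1 := hF _ hker
    have h2 := hF _ hran
    calc Nat.card N = Nat.card c.ker * Nat.card c.range := hcard.symm
      _ ≤ 2 * 2 := Nat.mul_le_mul h1 h2

end Cfsg.Agent.S3276
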