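import Cfsg.Statements.S3277
import Mathlib
import Cfsg.Agent.S3279
import Cfsg.Agent.Lib.FourCentralizer

set_option autoImplicit false
open Cfsg

namespace Cfsg.Agent.S3277
open Cfsg.Agent.S3279 (inv_mul_self_eq inv_eq inv_ne_one order_mul order_conj commute_conj exists_third two_central_of_unique)

theorem conj_back {G : Type*} [Group G] {c a b : G} (h : c⁻¹ * a * c = b) : a = c * b * c⁻¹ := by
  rw [← h]; group

/-- All elements commuting with `x` in a four-group centraliser. -/
theorem four_elems {G : Type*} [Group G] [Finite G] {x z : G} (hx : orderOf x = 2)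
    (hC4 : Nat.card ↥(Subgroup.centralizer ({x} : Set G)) = 4)
    (hz : orderOf z = 2) (hzx : Commute z x) (hne : z ≠ x) {k : G} (hk : Commute k x) :
    k = 1 ∨ k = x ∨ k = z ∨ k = x * z := by
  classical
  haveI := Fintype.ofFinite G
  by_contra hcon
  push Not at hcon
  have hs : ({1, x, z, x * z, k} : Finset G) ⊆
      Finset.univ.filter fun v => v ∈ Subgroup.centralizer ({x} : Set G) := by
    intro v hv
    simp only [Finset.mem_insert, Finset.mem_singleton] at hv
    simp only [Finset.mem_filter, Finset.mem_univ, true_and,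
      Subgroup.mem_centralizer_singleton_iff]
    rcases hv with rfl | rfl | rfl | rfl | rfl
    · simp
    · rfl
    · exact hzx.eq
    · exact ((Commute.refl x).mul_left hzx).eq
    · exact hk.eq
  have e1 : x * z ≠ 1 := fun h => hne (by rw [eq_inv_of_mul_eq_one_right h, inv_eq hx])
  have e2 : x * z ≠ x := fun h => inv_ne_one hz (by simpa using h)
  have e3 : x * z ≠ z := fun h => inv_ne_one hx (by simpa using h)
  have h5 : ({1, x, z, x * z, k} : Finset G).card = 5 := by
    simp [(inv_ne_one hx).symm, (inv_ne_one hz).symm, hne.symm, e1.symm, e2.symm, e3.symm,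
      hcon.1.symm, hcon.2.1.symm, hcon.2.2.1.symm, hcon.2.2.2.symm]
  have := Finset.card_le_card hs
  rw [h5, ← Fintype.card_subtype, ← Nat.card_eq_fintype_card,
    show Nat.card {v // v ∈ Subgroup.centralizer ({x} : Set G)} = 4 from hC4] at this
  omega

theorem conj_card_centralizer {G : Type*} [Group G] [Finite G] {x y : G} (h : IsConj x y) :
    Nat.card ↥(Subgroup.centralizer ({y} : Set G)) = Nat.card ↥(Subgroup.centralizer ({x} : Set G)) := by
  obtain ⟨g, rfl⟩ := isConj_iff.1 h
  have e : Nat.card ↥((Subgroup.centralizer ({x} : Set G)).map (MulAut.conj g).toMonoidHom) =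
      Nat.card ↥(Subgroup.centralizer ({x} : Set G)) :=
    Subgroup.card_map_of_injective (MulAut.conj g).injective
  rw [← e]
  congr
  ext k
  constructor
  · intro hk
    have h : Commute k (g * x * g⁻¹) := Subgroup.mem_centralizer_singleton_iff.1 hk
    refine ⟨g⁻¹ * k * g, Subgroup.mem_centralizer_singleton_iff.2 ?_, by simp [mul_assoc]⟩
    simpa [mul_assoc] using (commute_conj g⁻¹ h).eq
  · rintro ⟨a, ha, rfl⟩
    exact Subgroup.mem_centralizer_singleton_iff.2
      (commute_conj g (Subgroup.mem_centralizer_singleton_iff.1 ha)).eq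

/-- The Sylow 2-subgroup is the centraliser. -/
theorem sylow_le_centralizer {G : Type*} [Group G] [Finite G] (x : G) (hx : orderOf x = 2)
    (hC4 : Nat.card ↥(Subgroup.centralizer ({x} : Set G)) = 4)
    (hCe : ∀ c ∈ Subgroup.centralizer ({x} : Set G), c ^ 2 = 1)
    (hne : ∀ E : Subgroup G, E.Normal → Cfsg.IsElementaryAbelian 2 E → Nat.card ↥E ≠ 2 ∧ Nat.card ↥E ≠ 4) :
    ∃ S : Sylow 2 G, (S : Subgroup G) = Subgroup.centralizer ({x} : Set G) := by
  classical
  haveI : Fact (Nat.Prime 2) := ⟨Nat.prime_two⟩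
  set C := Subgroup.centralizer ({x} : Set G) with hCdef
  have hCp : IsPGroup 2 C := IsPGroup.of_card (n := 2) (by rw [hC4]; norm_num)
  obtain ⟨S, hS⟩ := hCp.exists_le_sylow
  refine ⟨S, ?_⟩
  by_contra hlt0
  have hlt : C < (S : Subgroup G) := lt_of_le_of_ne hS (Ne.symm hlt0)
  haveI : Nontrivial ↥(S : Subgroup G) := ⟨⟨⟨x, hS (Subgroup.mem_centralizer_singleton_iff.2 rfl)⟩, 1,
    fun h => inv_ne_one hx (congrArg Subtype.val h)⟩⟩
  haveI := S.isPGroup'.center_nontrivial
  obtain ⟨k, hk, hcard⟩ := ((S.isPGroup'.to_subgroup (Subgroup.center ↥(S : Subgroup G))).nontrivial_iff_card).1 inferInstance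
  obtain ⟨z', hz'⟩ := exists_prime_orderOf_dvd_card' 2 (hcard ▸ dvd_pow_self 2 hk.ne')
  set z : G := ((z' : ↥(S : Subgroup G)) : G) with hzdef
  have hz : orderOf z = 2 := by rw [hzdef, Subgroup.orderOf_coe, Subgroup.orderOf_coe, hz']
  have hzc : ∀ s ∈ (S : Subgroup G), Commute s z := fun s hs =>
    congrArg Subtype.val (Subgroup.mem_center_iff.1 z'.2 ⟨s, hs⟩)
  have hzx : Commute z x := (hzc x (hS (Subgroup.mem_centralizer_singleton_iff.2 rfl))).symm
  have hxz_nc : ¬ IsConj x z := by
    intro h
    have h1 := conj_card_centralizer h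
    rw [hC4] at h1
    have h2 : Nat.card C < Nat.card ↥(Subgroup.centralizer ({z} : Set G)) :=
      Set.Finite.card_lt_card (Set.toFinite _) (SetLike.coe_ssubset_coe.2
        (lt_of_lt_of_le hlt fun s hs => Subgroup.mem_centralizer_singleton_iff.2 (hzc s hs)))
    omega
  have hne' : z ≠ x := fun h => hxz_nc (h ▸ IsConj.refl x)
  have hfour := fun {k} hk => four_elems (k := k) hx hC4 hz hzx hne' hk
  -- x and x * z are conjugate
  have hconjxz : IsConj x (x * z) := by
    haveI : Group.IsNilpotent ↥(S : Subgroup G) := S.isPGroup'.isNilpotent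
    have hlt' : C.subgroupOf (S : Subgroup G) < ⊤ := lt_top_iff_ne_top.2 fun h =>
      hlt.not_ge (Subgroup.subgroupOf_eq_top.1 h)
    obtain ⟨n, hn, hn'⟩ := SetLike.exists_of_lt (Group.normalizerCondition_of_isNilpotent _ hlt')
    have hxm : (⟨x, hS (Subgroup.mem_centralizer_singleton_iff.2 rfl)⟩ : ↥(S : Subgroup G)) ∈
        C.subgroupOf (S : Subgroup G) :=
      Subgroup.mem_subgroupOf.2 (Subgroup.mem_centralizer_singleton_iff.2 rfl)
    have h2 : (n : G) * x * (n : G)⁻¹ ∈ C := (Subgroup.mem_normalizer_iff.1 hn _).1 hxm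
    rcases hfour (show Commute _ x from Subgroup.mem_centralizer_singleton_iff.1 h2) with h | h | h | h
    · exact absurd (conj_eq_one_iff.1 h) (inv_ne_one hx)
    · exact absurd (Subgroup.mem_centralizer_singleton_iff.2 (mul_inv_eq_iff_eq_mul.1 h)) hn'
    · exact absurd (isConj_iff.2 ⟨(n : G), h⟩) hxz_nc
    · exact isConj_iff.2 ⟨(n : G), h⟩
  obtain ⟨c, hc⟩ := isConj_iff.1 hconjxz
  -- the class of z commutes with z
  have hcz : ∀ g : G, Commute (g * z * g⁻¹) z := by
    intro g
    have hv : orderOf (g * z * g⁻¹) = 2 := by rw [order_conj, hz]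
    have hnv : ∀ y, IsConj x y → y ≠ g * z * g⁻¹ := fun y hy h =>
      hxz_nc ((h ▸ hy).trans (isConj_iff.2 ⟨g, rfl⟩).symm)
    obtain ⟨w, hw, hwx, hwv, hwne, -⟩ := exists_third hx hv
      (fun h => hnv _ h rfl)
    rcases hfour hwx with h | h | h | h
    · exact absurd h (inv_ne_one hw)
    · exact absurd h hwne
    · exact h ▸ hwv.symm
    · -- g z g⁻¹ lies in the centraliser of x * z
      have h1 : Commute (c⁻¹ * (g * z * g⁻¹) * c) x := by
        have := commute_conj c⁻¹ (h ▸ hwv.symm : Commute (g * z * g⁻¹) (x * z))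
        rw [← hc] at this
        simpa [mul_assoc] using this
      have h2 : orderOf (c⁻¹ * (g * z * g⁻¹) * c) = 2 := by
        have := order_conj c⁻¹ (g * z * g⁻¹)
        rw [inv_inv] at this
        rw [this, hv]
      rcases hfour h1 with h' | h' | h' | h'
      · exact absurd h' (inv_ne_one h2)
      · exact absurd rfl (hnv _ (isConj_iff.2 ⟨c, (conj_back h').symm⟩))
      · have h3 : g * z * g⁻¹ = c * z * c⁻¹ := conj_back h'
        have h4 : Commute z (c * x * c⁻¹) := hc.symm ▸ (hzx.mul_right (Commute.refl z))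
        have h5 : Commute (c⁻¹ * z * c) x := by
          simpa [mul_assoc] using commute_conj c⁻¹ h4
        rcases hfour h5 with h6 | h6 | h6 | h6
        · exact absurd (by simpa [mul_assoc] using conj_eq_one_iff.1 (show c⁻¹ * z * c⁻¹⁻¹ = 1 by rw [inv_inv, h6])) (inv_ne_one hz)
        · exact absurd (isConj_iff.2 ⟨c, (conj_back h6).symm⟩) hxz_nc
        · rw [h3, ← conj_back h6]
        · exact absurd (hconjxz.trans (isConj_iff.2 ⟨c, (conj_back h6).symm⟩)) hxz_nc
      · exact absurd rfl (hnv _ (hconjxz.trans (isConj_iff.2 ⟨c, (conj_back h').symm⟩)))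
  have hmem : ∀ p ∈ Group.conjugatesOfSet ({z} : Set G), ∃ g, g * z * g⁻¹ = p := by
    intro p hp
    obtain ⟨y', hy', h⟩ := Group.mem_conjugatesOfSet_iff.1 hp
    rw [Set.mem_singleton_iff] at hy'
    subst hy'
    exact isConj_iff.1 h
  set N := Subgroup.normalClosure ({z} : Set G) with hN
  have hcomm : IsMulCommutative N := by
    rw [hN, Subgroup.normalClosure]
    refine Subgroup.isMulCommutative_closure ?_
    intro p hp q hq
    obtain ⟨g, rfl⟩ := hmem p hp
    obtain ⟨k, rfl⟩ := hmem q hq
    have := commute_conj k (hcz (k⁻¹ * g))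
    rw [show k * (k⁻¹ * g * z * (k⁻¹ * g)⁻¹) * k⁻¹ = g * z * g⁻¹ by group] at this
    exact this.eq
  have hmul : ∀ a ∈ N, ∀ b ∈ N, a * b = b * a := fun a ha b hb =>
    congrArg Subtype.val (hcomm.is_comm.comm ⟨a, ha⟩ ⟨b, hb⟩)
  have hsq : ∀ a ∈ N, a ^ 2 = 1 := by
    intro a ha
    induction ha using Subgroup.closure_induction with
    | mem p hp =>
      obtain ⟨g, rfl⟩ := hmem p hp
      rw [pow_two, inv_mul_self_eq (by rw [order_conj, hz])]
    | one => exact one_pow 2
    | mul p q hp hq h1 h2 => rw [(show Commute p q from hmul p hp q hq).mul_pow, h1, h2, one_mul]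
    | inv p _ h => rw [inv_pow, h, inv_one]
  have hNn : N.Normal := Subgroup.normalClosure_normal
  have hzN : z ∈ N := Subgroup.subset_normalClosure (Set.mem_singleton z)
  have hxN : ∀ y, IsConj x y → y ∉ N := by
    intro y hy hyN
    obtain ⟨g, hg⟩ := isConj_iff.1 hy.symm
    have hxN' : x ∈ N := hg ▸ hNn.conj_mem y hyN g
    have hle : N ≤ C := fun a ha => Subgroup.mem_centralizer_singleton_iff.2 (hmul a ha x hxN')
    have hCN : C ≤ N := fun a ha => by
      rcases hfour (show Commute a x from Subgroup.mem_centralizer_singleton_iff.1 ha) with h | h | h | h <;> rw [h]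
      · exact N.one_mem
      · exact hxN'
      · exact hzN
      · exact N.mul_mem hxN' hzN
    exact (hne N hNn ⟨hcomm, hsq⟩).2 (le_antisymm hle hCN ▸ hC4)
  -- fixed points of x on N
  let f : N →* N := MonoidHom.mk'
    (fun n => ⟨(n : G) * (x * n * x⁻¹), N.mul_mem n.2 (hNn.conj_mem _ n.2 x)⟩) (by
      intro a b
      refine Subtype.ext ?_
      show (a : G) * b * (x * (a * b) * x⁻¹) = a * (x * a * x⁻¹) * (b * (x * b * x⁻¹))
      have h := hmul b b.2 (x * (a : G) * x⁻¹) (hNn.conj_mem _ a.2 x)
      calc (a : G) * b * (x * (a * b) * x⁻¹)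
          = a * ((b : G) * (x * a * x⁻¹)) * (x * b * x⁻¹) := by group
        _ = a * ((x * a * x⁻¹) * b) * (x * b * x⁻¹) := by rw [h]
        _ = _ := by group)
  have hfix : ∀ H : Subgroup N, (∀ n ∈ H, Commute (n : G) x) → Nat.card H ≤ 2 := by
    intro H hH
    have hle : H ≤ Subgroup.zpowers (⟨z, hzN⟩ : N) := by
      intro n hn
      rcases hfour (hH n hn) with h | h | h | h
      · rw [show n = 1 from Subtype.ext h]; exact Subgroup.one_mem _
      · exact absurd n.2 (h ▸ hxN x (IsConj.refl x))
      · rw [show n = ⟨z, hzN⟩ from Subtype.ext h]; exact Subgroup.mem_zpowers _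
      · exact absurd n.2 (h ▸ hxN (x * z) hconjxz)
    have := Subgroup.card_le_of_le hle
    rwa [Nat.card_zpowers, ← Subgroup.orderOf_coe, hz] at this
  have hker : ∀ n ∈ f.ker, Commute (n : G) x := by
    intro n hn
    have h : (n : G) * (x * n * x⁻¹) = 1 := congrArg Subtype.val (MonoidHom.mem_ker.1 hn)
    have h' : x * (n : G) * x⁻¹ = n := by
      rw [eq_inv_of_mul_eq_one_right h]
      exact inv_eq_of_mul_eq_one_right (by rw [← pow_two]; exact hsq n n.2)
    exact (mul_inv_eq_iff_eq_mul.1 h').symm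
  have hran : ∀ n ∈ f.range, Commute (n : G) x := by
    rintro _ ⟨n, rfl⟩
    show Commute ((n : G) * (x * n * x⁻¹)) x
    have hm : x * (n : G) * x ∈ N := by simpa [inv_eq hx] using hNn.conj_mem _ n.2 x
    have h' : x * ((n : G) * (x * n * x⁻¹)) * x⁻¹ = (n : G) * (x * n * x⁻¹) := by
      rw [inv_eq hx, hmul n n.2 _ hm]
      calc x * (x * (n : G) * x * n) * x = (x * x) * n * (x * n * x) := by group
        _ = (n : G) * (x * n * x) := by rw [inv_mul_self_eq hx, one_mul]
        _ = _ := hmul n n.2 _ hm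
    exact (mul_inv_eq_iff_eq_mul.1 h').symm
  have hcardN := f.ker.card_mul_index
  rw [Subgroup.index_ker] at hcardN
  have h1 := Nat.mul_le_mul (hfix _ hker) (hfix _ hran)
  rw [hcardN] at h1
  have hNp : IsPGroup 2 N := fun a => ⟨1, Subtype.ext (by simpa using hsq a a.2)⟩
  obtain ⟨k, hk⟩ := IsPGroup.iff_card.1 hNp
  have h1lt : 1 < Nat.card N := by
    rw [Subgroup.one_lt_card_iff_ne_bot]
    intro h
    exact inv_ne_one hz (by simpa [h] using hzN)
  have := hne N hNn ⟨hcomm, hsq⟩
  rw [hk] at h1 h1lt this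
  have hk2 : k < 3 := (Nat.pow_lt_pow_iff_right (show 1 < 2 by norm_num)).1 (by omega)
  interval_cases k <;> simp at h1lt this

theorem all_conj {G : Type*} [Group G] [Finite G] (x : G) (hx : orderOf x = 2)
    (S : Sylow 2 G) (hS : (S : Subgroup G) = Subgroup.centralizer ({x} : Set G))
    (hC4 : Nat.card ↥(Subgroup.centralizer ({x} : Set G)) = 4)
    (hCe : ∀ c ∈ Subgroup.centralizer ({x} : Set G), c ^ 2 = 1)
    (hnc : ¬ Cfsg.HasNormalPComplement 2 G) {y : G} (hy : orderOf y = 2) : IsConj x y := by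
  classical
  haveI : Fact (Nat.Prime 2) := ⟨Nat.prime_two⟩
  have hxS : x ∈ (S : Subgroup G) := hS ▸ Subgroup.mem_centralizer_singleton_iff.2 rfl
  -- some element of the normaliser moves x
  obtain ⟨n, hn, hnx⟩ : ∃ n ∈ Subgroup.normalizer ((S : Subgroup G) : Set G), n * x * n⁻¹ ≠ x := by
    by_contra h
    push Not at h
    have hle : Subgroup.normalizer ((S : Subgroup G) : Set G) ≤
        Subgroup.centralizer ((S : Subgroup G) : Set G) := by
      intro n hn
      have hn' : n ∈ (S : Subgroup G) := by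
        rw [hS]
        exact Subgroup.mem_centralizer_singleton_iff.2 (mul_inv_eq_iff_eq_mul.1 (h n hn))
      refine Subgroup.mem_centralizer_iff.2 fun s hs => ?_
      have hs' : s ∈ (S : Subgroup G) := hs
      have h1 := hCe (s * n) (hS ▸ (S : Subgroup G).mul_mem hs' hn')
      have h2 := hCe s (hS ▸ hs')
      have h3 := hCe n (hS ▸ hn')
      rw [pow_two] at h1 h2 h3
      calc s * n = (s * n)⁻¹ := (inv_eq_of_mul_eq_one_right h1).symm
        _ = n * s := by rw [mul_inv_rev, inv_eq_of_mul_eq_one_right h2, inv_eq_of_mul_eq_one_right h3]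
    exact hnc ⟨S, _, MonoidHom.normal_ker _, MonoidHom.ker_transferSylow_isComplement' S hle⟩
  have hmove : n * x * n⁻¹ ∈ (S : Subgroup G) := (Subgroup.mem_normalizer_iff.1 hn x).1 hxS
  set z := n * x * n⁻¹ with hzdef
  have hz : orderOf z = 2 := by rw [hzdef, order_conj, hx]
  have hzx : Commute z x := Subgroup.mem_centralizer_singleton_iff.1 (hS ▸ hmove)
  have hfour := fun {k} hk => four_elems (k := k) hx hC4 hz hzx hnx hk
  -- n maps z to x * z, otherwise an element of 2-power order would act non-trivially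
  have hxz : IsConj x (x * z) := by
    have h2 : n * z * n⁻¹ ∈ (S : Subgroup G) := (Subgroup.mem_normalizer_iff.1 hn z).1 hmove
    rcases hfour (show Commute _ x from Subgroup.mem_centralizer_singleton_iff.1 (hS ▸ h2)) with h | h | h | h
    · exact absurd (conj_eq_one_iff.1 h) (inv_ne_one hz)
    · exfalso
      -- n swaps x and z: its 2-part normalises S, so lies in S
      obtain ⟨k, hk⟩ : ∃ k, orderOf n = 2 ^ (orderOf n).factorization 2 * k :=
        ⟨_, (Nat.ordProj_mul_ordCompl_eq_self _ 2).symm⟩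
      have hkodd : Odd k := by
        rw [← Nat.not_even_iff_odd, even_iff_two_dvd]
        intro h2k
        have hord : 2 ^ ((orderOf n).factorization 2 + 1) ∣ orderOf n := by
          rw [pow_succ]
          nth_rewrite 2 [hk]
          exact mul_dvd_mul_left _ h2k
        have := (Nat.Prime.pow_dvd_iff_le_factorization Nat.prime_two (orderOf_pos n).ne').1 hord
        omega
      have hn2 : ∀ y, y = x ∨ y = z → n ^ 2 * y * (n ^ 2)⁻¹ = y := by
        intro y hy
        rw [pow_two, show n * n * y * (n * n)⁻¹ = n * (n * y * n⁻¹) * n⁻¹ by group]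
        rcases hy with rfl | rfl
        · exact h
        · rw [h]
      have hnk : n ^ k * x * (n ^ k)⁻¹ = z := by
        obtain ⟨j, rfl⟩ := hkodd
        rw [pow_succ, show n ^ (2 * j) * n * x * (n ^ (2 * j) * n)⁻¹ =
          n ^ (2 * j) * (n * x * n⁻¹) * (n ^ (2 * j))⁻¹ by group, ← hzdef]
        clear hk
        induction j with
        | zero => simp
        | succ j ih =>
          rw [Nat.mul_succ, pow_add, show n ^ (2 * j) * n ^ 2 * z * (n ^ (2 * j) * n ^ 2)⁻¹ =
            n ^ (2 * j) * (n ^ 2 * z * (n ^ 2)⁻¹) * (n ^ (2 * j))⁻¹ by group, hn2 z (Or.inr rfl), ih]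
      have hp : IsPGroup 2 (Subgroup.zpowers (n ^ k)) := by
        refine IsPGroup.of_card (n := (orderOf n).factorization 2) ?_
        have hk0 : 0 < k := hkodd.pos
        rw [Nat.card_zpowers, orderOf_pow' _ hk0.ne', Nat.gcd_eq_right ⟨_, by rw [mul_comm]; exact hk⟩]
        nth_rewrite 1 [hk]
        exact Nat.mul_div_cancel _ hk0
      have hmemS : n ^ k ∈ (S : Subgroup G) := by
        have h1 : Subgroup.zpowers (n ^ k) ≤ Subgroup.normalizer ((S : Subgroup G) : Set G) := by
          rw [Subgroup.zpowers_le]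
          exact pow_mem hn k
        have h2 := hp.inf_normalizer_sylow S
        have h3 : n ^ k ∈ Subgroup.zpowers (n ^ k) ⊓ Subgroup.normalizer ((S : Subgroup G) : Set G) :=
          ⟨Subgroup.mem_zpowers _, h1 (Subgroup.mem_zpowers _)⟩
        exact (h2.le h3).2
      have h1 : Commute (n ^ k) x := Subgroup.mem_centralizer_singleton_iff.1 (hS ▸ hmemS)
      apply hnx
      rw [← hnk, h1.eq, mul_inv_cancel_right]
    · exfalso
      apply hnx
      rw [hzdef] at h ⊢
      have := congrArg (fun t => n⁻¹ * t * n) h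
      simpa [mul_assoc] using this
    · exact isConj_iff.2 ⟨n * n, by rw [← h, hzdef]; group⟩
  -- every involution is conjugate into S
  have hp : IsPGroup 2 (Subgroup.zpowers y) := by
    refine IsPGroup.of_card (n := 1) ?_
    rw [Nat.card_zpowers, hy, pow_one]
  obtain ⟨T, hT⟩ := hp.exists_le_sylow
  obtain ⟨g, hg⟩ := MulAction.exists_smul_eq G S T
  have hy' : g⁻¹ * y * g ∈ (S : Subgroup G) := by
    have h := hT (Subgroup.mem_zpowers y)
    rw [← hg, Sylow.coe_subgroup_smul, Subgroup.mem_pointwise_smul_iff_inv_smul_mem] at h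
    simpa [MulAut.smul_def, mul_assoc] using h
  have hy2 : IsConj (g⁻¹ * y * g) y := isConj_iff.2 ⟨g, by group⟩
  rcases hfour (show Commute _ x from Subgroup.mem_centralizer_singleton_iff.1 (hS ▸ hy')) with h | h | h | h
  · exfalso
    refine inv_ne_one hy ?_
    calc y = g * (g⁻¹ * y * g) * g⁻¹ := by group
      _ = 1 := by rw [h]; group
  · exact h ▸ hy2
  · exact (isConj_iff.2 ⟨n, hzdef.symm⟩).trans (h ▸ hy2)
  · exact hxz.trans (h ▸ hy2)

/-- Let G be a finite group containing an involution whose centralizer is elementary abelian of order 4. If G has no normal 2-complement and no normal elementary abelian 2-subgroup of order 2 or 4, then G is isomorphic to the alternating group of degree 5 (that is, to PSL(2, 5)). -/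
theorem result {G : Type*} [Group G] [Finite G] (x : G) (hx : orderOf x = 2)
    (hC4 : Nat.card ↥(Subgroup.centralizer ({x} : Set G)) = 4) (hCe : ∀ c ∈ Subgroup.centralizer ({x} : Set G), c ^ 2 = 1)
    (hnc : ¬ Cfsg.HasNormalPComplement 2 G)
    (hne : ∀ E : Subgroup G, E.Normal → Cfsg.IsElementaryAbelian 2 E → Nat.card ↥E ≠ 2 ∧ Nat.card ↥E ≠ 4) :
    Nonempty (G ≃* ↥(alternatingGroup (Fin 5))) := by
  classical
  haveI : Fact (Nat.Prime 2) := ⟨Nat.prime_two⟩
  obtain ⟨S, hS⟩ := sylow_le_centralizer x hx hC4 hCe hne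
  have hall := fun {y : G} (hy : orderOf y = 2) => all_conj x hx S hS hC4 hCe hnc hy
  have hV : Cfsg.Agent.FourCentralizer.FourCentralizers G := by
    intro u hu
    obtain ⟨g, rfl⟩ := isConj_iff.1 (hall hu)
    refine ⟨by rw [conj_card_centralizer (hall hu), hC4], fun c hc => ?_⟩
    have h : Commute c (g * x * g⁻¹) := Subgroup.mem_centralizer_singleton_iff.1 hc
    have h2 := hCe (g⁻¹ * c * g) (Subgroup.mem_centralizer_singleton_iff.2
      (by simpa [mul_assoc] using (commute_conj g⁻¹ h).eq))
    calc c ^ 2 = g * (g⁻¹ * c * g) ^ 2 * g⁻¹ := by rw [pow_two, pow_two]; group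
      _ = 1 := by rw [h2]; group
  have hconj : ∀ u v : G, orderOf u = 2 → orderOf v = 2 → IsConj u v :=
    fun u v hu hv => (hall hu).symm.trans (hall hv)
  -- every involution lies in exactly one Sylow subgroup, its centraliser
  have hsyl : ∀ T : Sylow 2 G, ∀ v ∈ (T : Subgroup G), orderOf v = 2 →
      (T : Subgroup G) = Subgroup.centralizer ({v} : Set G) := by
    intro T v hv hv2
    have hT4 : Nat.card ↥(T : Subgroup G) = 4 := by
      rw [← hC4, ← hS]
      exact Nat.card_congr (Sylow.equiv T S).toEquiv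
    refine Subgroup.eq_of_le_of_card_ge ?_ (by rw [(hV v hv2).1, hT4])
    intro t ht
    obtain ⟨g, hg⟩ := MulAction.exists_smul_eq G S T
    have hmem : ∀ t ∈ (T : Subgroup G), g⁻¹ * t * g ∈ Subgroup.centralizer ({x} : Set G) := by
      intro t ht
      rw [← hg, Sylow.coe_subgroup_smul, Subgroup.mem_pointwise_smul_iff_inv_smul_mem] at ht
      rw [← hS]
      simpa [MulAut.smul_def, mul_assoc] using ht
    have h1 := hCe _ (hmem t ht)
    have h2 := hCe _ (hmem v hv)
    have h3 := hCe _ (Subgroup.mul_mem _ (hmem t ht) (hmem v hv))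
    rw [pow_two] at h1 h2 h3
    have h4 : Commute (g⁻¹ * t * g) (g⁻¹ * v * g) := by
      show g⁻¹ * t * g * (g⁻¹ * v * g) = g⁻¹ * v * g * (g⁻¹ * t * g)
      have := (inv_eq_of_mul_eq_one_right h3).symm
      rw [mul_inv_rev, inv_eq_of_mul_eq_one_right h1, inv_eq_of_mul_eq_one_right h2] at this
      exact this
    exact Subgroup.mem_centralizer_singleton_iff.2
      (by simpa [mul_assoc] using (commute_conj g h4).eq)
  -- the Sylow subgroup is not normal
  have hSnn : ¬ (S : Subgroup G).Normal := by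
    intro h
    refine (hne (S : Subgroup G) h ⟨?_, fun s hs => hCe s (hS ▸ hs)⟩).2 (by rw [hS, hC4])
    constructor
    constructor
    intro a b
    have h1 := hCe (a : G) (hS ▸ a.2)
    have h2 := hCe (b : G) (hS ▸ b.2)
    have h3 := hCe ((a : G) * b) (hS ▸ (a * b).2)
    rw [pow_two] at h1 h2 h3
    refine Subtype.ext ?_
    show (a : G) * b = b * a
    calc (a : G) * b = ((a : G) * b)⁻¹ := (inv_eq_of_mul_eq_one_right h3).symm
      _ = _ := by rw [mul_inv_rev, inv_eq_of_mul_eq_one_right h1, inv_eq_of_mul_eq_one_right h2]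
  -- there are more than three involutions
  have h3 : Nat.card {v : G // orderOf v = 2} ≠ 3 := by
    intro h3
    haveI := Fintype.ofFinite G
    have hxS : x ∈ (S : Subgroup G) := hS ▸ Subgroup.mem_centralizer_singleton_iff.2 rfl
    have hsub : ∀ v : G, orderOf v = 2 → v ∈ (S : Subgroup G) := by
      have hs : ((Finset.univ.filter fun v => v ∈ (S : Subgroup G)).erase 1) ⊆
          Finset.univ.filter fun v : G => orderOf v = 2 := by
        intro v hv
        simp only [Finset.mem_erase, Finset.mem_filter, Finset.mem_univ, true_and] at hv ⊢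
        exact orderOf_eq_prime (hCe v (hS ▸ hv.2)) hv.1
      have hc1 : ((Finset.univ.filter fun v => v ∈ (S : Subgroup G)).erase 1).card = 3 := by
        rw [Finset.card_erase_of_mem (by simp), ← Fintype.card_subtype, ← Nat.card_eq_fintype_card,
          show Nat.card {v // v ∈ (S : Subgroup G)} = 4 by rw [← hC4, ← hS]]
      have hc2 : (Finset.univ.filter fun v : G => orderOf v = 2).card = 3 := by
        rw [← Fintype.card_subtype, ← Nat.card_eq_fintype_card, h3]
      have heq := Finset.eq_of_subset_of_card_le hs (by rw [hc1, hc2])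
      intro v hv
      have : v ∈ Finset.univ.filter fun v : G => orderOf v = 2 := by simp [hv]
      rw [← heq] at this
      simp at this
      exact this.2
    refine hSnn ⟨fun s hs g => ?_⟩
    by_cases h1 : s = 1
    · simp [h1]
    · exact hsub _ (by rw [order_conj]; exact orderOf_eq_prime (hCe s (hS ▸ hs)) h1)
  obtain ⟨h60, h15⟩ := Cfsg.Agent.FourCentralizer.card_eq_sixty hV hconj hx h3
  haveI := Fintype.ofFinite G
  -- five Sylow 2-subgroups
  have h5 : Nat.card (Sylow 2 G) = 5 := by
    let P : Sylow 2 G → Finset G := fun T => (Finset.univ.filter fun v => v ∈ (T : Subgroup G)).erase 1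
    have hP : ∀ T, (P T).card = 3 := fun T => by
      have hT4 : Nat.card ↥(T : Subgroup G) = 4 := by
        rw [← hC4, ← hS]
        exact Nat.card_congr (Sylow.equiv T S).toEquiv
      rw [Finset.card_erase_of_mem (by simp), ← Fintype.card_subtype, ← Nat.card_eq_fintype_card,
        show Nat.card {v // v ∈ (T : Subgroup G)} = 4 from hT4]
    haveI := Fintype.ofFinite (Sylow 2 G)
    have hPo : ∀ T, ∀ v ∈ P T, orderOf v = 2 := by
      intro T v hv
      simp only [P, Finset.mem_erase, Finset.mem_filter, Finset.mem_univ, true_and] at hv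
      obtain ⟨g, hg⟩ := MulAction.exists_smul_eq G S T
      have hv2 := hv.2
      rw [← hg, Sylow.coe_subgroup_smul, Subgroup.mem_pointwise_smul_iff_inv_smul_mem, hS] at hv2
      have h := hCe _ hv2
      refine orderOf_eq_prime ?_ hv.1
      have h' := congrArg (fun t => g * t * g⁻¹) h
      simpa [MulAut.smul_def, pow_two, mul_assoc] using h'
    have hu : Finset.univ.biUnion P = Finset.univ.filter fun v : G => orderOf v = 2 := by
      ext v
      simp only [Finset.mem_biUnion, Finset.mem_univ, true_and, Finset.mem_filter]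
      refine ⟨fun ⟨T, hT⟩ => hPo T v hT, fun hv => ?_⟩
      have hp : IsPGroup 2 (Subgroup.zpowers v) := by
        refine IsPGroup.of_card (n := 1) ?_
        rw [Nat.card_zpowers, hv, pow_one]
      obtain ⟨T, hT⟩ := hp.exists_le_sylow
      exact ⟨T, by simp [P, inv_ne_one hv, hT (Subgroup.mem_zpowers v)]⟩
    have hcard := congrArg Finset.card hu
    rw [Finset.card_biUnion, Finset.sum_congr rfl (fun T _ => hP T), Finset.sum_const,
      ← Fintype.card_subtype, ← Nat.card_eq_fintype_card, h15, Finset.card_univ,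
      ← Nat.card_eq_fintype_card, smul_eq_mul] at hcard
    · omega
    · intro T _ T' _ hne'
      rw [Function.onFun, Finset.disjoint_left]
      intro v hv hv'
      have h2 := hPo T v hv
      simp only [P, Finset.mem_erase, Finset.mem_filter, Finset.mem_univ, true_and] at hv hv'
      exact hne' (Sylow.ext ((hsyl T v hv.2 h2).trans (hsyl T' v hv'.2 h2).symm))
  -- the action on the five Sylow subgroups is faithful
  let φ : G →* Equiv.Perm (Sylow 2 G) := MulAction.toPermHom G (Sylow 2 G)
  have hmem : ∀ k ∈ φ.ker, ∀ T : Sylow 2 G, k ∈ Subgroup.normalizer ((T : Subgroup G) : Set G) := by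
    intro k hk T
    exact Sylow.smul_eq_iff_mem_normalizer.1
      (congrArg (fun e : Equiv.Perm (Sylow 2 G) => e T) (MonoidHom.mem_ker.1 hk))
  have hKodd : ¬ 2 ∣ Nat.card φ.ker := by
    intro h2
    obtain ⟨w, hw⟩ := exists_prime_orderOf_dvd_card' 2 h2
    rw [← Subgroup.orderOf_coe] at hw
    have hp : IsPGroup 2 (Subgroup.zpowers (w : G)) := by
      refine IsPGroup.of_card (n := 1) ?_
      rw [Nat.card_zpowers, hw, pow_one]
    have hall' : ∀ T : Sylow 2 G, (w : G) ∈ (T : Subgroup G) := by
      intro T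
      have h3 : (w : G) ∈ Subgroup.zpowers (w : G) ⊓ Subgroup.normalizer ((T : Subgroup G) : Set G) :=
        ⟨Subgroup.mem_zpowers _, hmem _ w.2 T⟩
      exact ((hp.inf_normalizer_sylow T).le h3).2
    haveI : Subsingleton (Sylow 2 G) := ⟨fun A B => Sylow.ext
      ((hsyl A _ (hall' A) hw).trans (hsyl B _ (hall' B) hw).symm)⟩
    rw [Nat.card_of_subsingleton (S : Sylow 2 G)] at h5
    omega
  have hker : φ.ker = ⊥ := by
    rw [Subgroup.eq_bot_iff_forall]
    intro k hk
    have hcom : ∀ s ∈ (S : Subgroup G), k * s * k⁻¹ * s⁻¹ = 1 := by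
      intro s hs
      have h1 : k * s * k⁻¹ * s⁻¹ ∈ (S : Subgroup G) :=
        (S : Subgroup G).mul_mem ((Subgroup.mem_normalizer_iff.1 (hmem k hk S) s).1 hs)
          ((S : Subgroup G).inv_mem hs)
      have h2 : k * s * k⁻¹ * s⁻¹ ∈ φ.ker := by
        rw [show k * s * k⁻¹ * s⁻¹ = k * (s * k⁻¹ * s⁻¹) by group]
        exact φ.ker.mul_mem hk (φ.normal_ker.conj_mem _ (φ.ker.inv_mem hk) s)
      by_contra hne1
      refine hKodd ?_
      have ho := orderOf_eq_prime (hCe _ (hS ▸ h1)) hne1
      have := orderOf_dvd_natCard (⟨_, h2⟩ : φ.ker)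
      rwa [Subgroup.orderOf_mk, ho] at this
    have hkx : k ∈ Subgroup.centralizer ({x} : Set G) := by
      have h := hcom x (hS ▸ Subgroup.mem_centralizer_singleton_iff.2 rfl)
      exact Subgroup.mem_centralizer_singleton_iff.2
        (mul_inv_eq_iff_eq_mul.1 (mul_inv_eq_one.1 h))
    by_contra hk1
    refine hKodd ?_
    have := orderOf_dvd_natCard (⟨k, hk⟩ : φ.ker)
    rwa [Subgroup.orderOf_mk, orderOf_eq_prime (hCe k hkx) hk1] at this
  haveI := Fintype.ofFinite (Sylow 2 G)
  let ψ : G →* Equiv.Perm (Fin 5) :=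
    (Equiv.permCongrHom (Fintype.equivFinOfCardEq (by rw [← Nat.card_eq_fintype_card, h5]))).toMonoidHom.comp φ
  have hψ : Function.Injective ψ := by
    intro a b h
    simp only [ψ, MonoidHom.comp_apply] at h
    exact (MonoidHom.ker_eq_bot_iff φ).1 hker ((MulEquiv.injective _) h)
  have hidx : ψ.range.index = 2 := by
    have h := ψ.range.card_mul_index
    rw [Nat.card_congr (MonoidHom.ofInjective hψ).toEquiv.symm, h60, Nat.card_perm,
      Nat.card_eq_fintype_card, Fintype.card_fin, show Nat.factorial 5 = 120 from rfl] at h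
    omega
  exact ⟨(MonoidHom.ofInjective hψ).trans
    (MulEquiv.subgroupCongr (Equiv.Perm.eq_alternatingGroup_of_index_eq_two hidx))⟩

end Cfsg.Agent.S3277
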