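import Cfsg.Statements.S3280
import Cfsg.Agent.Lib.CentFour75Main
import Cfsg.Agent.Lib.CentFour75Cases
import Cfsg.Agent.Lib.A7Main29
import Cfsg.Agent.Lib.SimplePSLApply
import Cfsg.Agent.Lib.Simple360
import Cfsg.Agent.S3331
import Cfsg.Agent.S0848

set_option autoImplicit false
set_option linter.style.haveILetI false
open Cfsg
open scoped commutatorElement

namespace Cfsg.Agent.S3280

/-- A non-cyclic finite simple group containing an element whose centralizer has order at most 4 is isomorphic to the alternating group of degree 5, 6 or 7, or to PSL(2, 7). -/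
theorem result {G : Type*} [Group G] [Finite G] [IsSimpleGroup G] (hG : ¬ IsCyclic G)
    (w : G) (hw : Nat.card ↥(Subgroup.centralizer ({w} : Set G)) ≤ 4) :
    Nonempty (G ≃* ↥(alternatingGroup (Fin 5))) ∨ Nonempty (G ≃* ↥(alternatingGroup (Fin 6))) ∨
      Nonempty (G ≃* ↥(alternatingGroup (Fin 7))) ∨
      (∃ (F : Type) (_ : Field F) (_ : Fintype F), Fintype.card F = 7 ∧ Nonempty (G ≃* Matrix.ProjectiveSpecialLinearGroup (Fin 2) F)) := by
  haveI : Fact (Nat.Prime 2) := ⟨Nat.prime_two⟩
  haveI : Fact (Nat.Prime 3) := ⟨Nat.prime_three⟩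
  have hna : ¬ IsMulCommutative G := fun h => by
    haveI : Fact (Nat.card G).Prime := ⟨SimpleOrder.card_prime_of_comm h⟩
    exact hG (isCyclic_of_prime_card rfl)
  set C := Subgroup.centralizer ({w} : Set G) with hC
  have hwC : w ∈ C := Subgroup.mem_centralizer_singleton_iff.2 rfl
  have hCtop : w = 1 → False := fun e => by
    have : C = ⊤ := by ext a; simp [hC, e, Subgroup.mem_centralizer_singleton_iff]
    rw [this, Subgroup.card_top] at hw
    have h5 := SimpleOrder.five_le_index hna (⊥ : Subgroup G) bot_ne_top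
    rw [Subgroup.index_bot] at h5
    omega
  have hwd : orderOf w ∣ Nat.card C := Subgroup.orderOf_dvd_natCard _ hwC
  have hpos : 0 < Nat.card C := Nat.card_pos
  obtain hc | hc | hc | hc : Nat.card C = 1 ∨ Nat.card C = 2 ∨ Nat.card C = 3 ∨ Nat.card C = 4 := by omega
  · rw [hc, Nat.dvd_one, orderOf_eq_one_iff] at hwd
    exact (hCtop hwd).elim
  · -- an involution which is self-centralising
    rw [hc] at hwd
    have hwo : orderOf w = 2 := ((Nat.dvd_prime Nat.prime_two).1 hwd).resolve_left
      fun e => hCtop (orderOf_eq_one_iff.1 e)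
    obtain ⟨P, hP⟩ := (IsPGroup.of_card (p := 2) (n := 1) (by rw [hc, pow_one] :
      Nat.card C = 2 ^ 1)).exists_le_sylow
    haveI : Nontrivial (P : Subgroup G) := ⟨⟨⟨w, hP hwC⟩, 1, fun e => hCtop (congrArg Subtype.val e)⟩⟩
    haveI := P.isPGroup'.center_nontrivial
    obtain ⟨z, hz⟩ := exists_ne (1 : Subgroup.center (P : Subgroup G))
    have hzC : ((z : (P : Subgroup G)) : G) ∈ C := Subgroup.mem_centralizer_singleton_iff.2
      (congrArg Subtype.val (Subgroup.mem_center_iff.1 z.2 ⟨w, hP hwC⟩)).symm
    have hzw : ((z : (P : Subgroup G)) : G) = w := by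
      by_contra hne
      have hsub : ({1, w, ((z : (P : Subgroup G)) : G)} : Set G) ⊆ (C : Set G) := by
        rintro x (rfl | rfl | rfl)
        exacts [C.one_mem, hwC, hzC]
      have h3 : ({1, w, ((z : (P : Subgroup G)) : G)} : Set G).ncard = 3 :=
        Set.ncard_eq_three.2 ⟨1, w, _, fun e => hCtop e.symm,
          fun e => hz (Subtype.ext (Subtype.ext e.symm)), fun e => hne e.symm, rfl⟩
      have := Set.ncard_le_ncard hsub (Set.toFinite _)
      rw [h3, ← Nat.card_coe_set_eq, SetLike.coe_sort_coe, hc] at this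
      omega
    have hPC : (P : Subgroup G) ≤ C := fun x hx => Subgroup.mem_centralizer_singleton_iff.2 (by
      rw [← hzw]
      exact congrArg Subtype.val (Subgroup.mem_center_iff.1 z.2 ⟨x, hx⟩))
    refine (CentFour75.not_isCyclic_sylow hna P (hwo ▸ orderOf_dvd_natCard w) ?_).elim
    exact isCyclic_of_prime_card (p := 2) (by rw [le_antisymm hPC hP, hc])
  · -- an element of order three
    rw [hc] at hwd
    have hwo : orderOf w = 3 := ((Nat.dvd_prime Nat.prime_three).1 hwd).resolve_left
      fun e => hCtop (orderOf_eq_one_iff.1 e)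
    have hX : Nat.card (Subgroup.zpowers w) = 3 := by rw [Nat.card_zpowers, hwo]
    have hXC : Subgroup.zpowers w = C := Subgroup.eq_of_le_of_card_ge (Subgroup.zpowers_le.2 hwC)
      (by rw [hX, hc])
    have hself : Subgroup.centralizer (Subgroup.zpowers w : Set G) = Subgroup.zpowers w := by
      rw [hXC]
      refine le_antisymm (fun x hx => ?_) (fun x hx y hy => ?_)
      · exact Subgroup.mem_centralizer_singleton_iff.2 (hx w hwC).symm
      · rw [SetLike.mem_coe, ← hXC] at hy
        rw [← hXC] at hx
        obtain ⟨i, rfl⟩ := Subgroup.mem_zpowers_iff.1 hy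
        obtain ⟨j, rfl⟩ := Subgroup.mem_zpowers_iff.1 hx
        exact (Commute.refl w).zpow_zpow i j
    have hcard1 : ∀ {N : Subgroup G}, N = ⊤ → Nat.card (G ⧸ N) = 1 := fun e => by
      rw [← Subgroup.index_eq_card, e, Subgroup.index_top]
    rcases S3331.result (Subgroup.zpowers w) hX hself with
      ⟨N, hN, -, -, hq⟩ | ⟨N, hN, -, -, ⟨e⟩⟩ | he
    · exfalso
      have h36 : N.index = 3 ∨ N.index = 6 := by
        rw [Subgroup.index_eq_card]
        refine hq.imp id fun ⟨f⟩ => ?_
        rw [Nat.card_congr f.toEquiv, Nat.card_perm, Nat.card_eq_fintype_card, Fintype.card_fin]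
        rfl
      rcases hN.eq_bot_or_eq_top with e | e
      · rw [e, Subgroup.index_bot] at h36
        have hne : Subgroup.zpowers w ≠ ⊤ := fun e' => hG ⟨⟨w, fun x =>
          Subgroup.mem_zpowers_iff.1 ((Subgroup.eq_top_iff' _).1 e' x)⟩⟩
        have h5 := SimpleOrder.five_le_index hna (Subgroup.zpowers w) hne
        have := (Subgroup.zpowers w).card_mul_index
        rw [hX] at this
        omega
      · rw [e, Subgroup.index_top] at h36
        omega
    · rcases hN.eq_bot_or_eq_top with e' | e'
      · subst e'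
        exact Or.inl ⟨(QuotientGroup.quotientBot (G := G)).symm.trans e⟩
      · exfalso
        have h1 := hcard1 e'
        have : Nontrivial (alternatingGroup (Fin 5)) := alternatingGroup.nontrivial_of_three_le_card (by simp)
        rw [Nat.card_congr e.toEquiv] at h1
        exact absurd h1 (ne_of_gt Finite.one_lt_card)
    · haveI : Fact (Nat.Prime 7) := ⟨by norm_num⟩
      exact Or.inr (Or.inr (Or.inr ⟨ZMod 7, inferInstance, inferInstance, ZMod.card 7, he⟩))
  · -- centraliser of order four
    rw [hc, show (4 : ℕ) = 2 ^ 2 by norm_num] at hwd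
    obtain ⟨k, hk, hwo⟩ := (Nat.dvd_prime_pow Nat.prime_two).1 hwd
    interval_cases k
    · exact (hCtop (orderOf_eq_one_iff.1 (by simpa using hwo))).elim
    · exact Or.inl (CentFour75.alternating_five hna (by simpa using hwo) hc)
    · obtain ⟨τ, h⟩ := CentFour75.exists_hyp hna (hwo.trans (by norm_num)) hc
      rcases h.order_cases hna with ⟨hu, hv⟩ | hn
      · obtain ⟨P, h8, hwP, hτP, hgen, hs⟩ := h.setting
        have hcard := h.card_cent
        rw [h.card_core, hu, hv] at hcard
        have hle : (P : Subgroup G) ≤ Subgroup.centralizer ({w ^ 2} : Set G) := by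
          rw [← hgen, Subgroup.closure_le]
          rintro y (rfl | rfl)
          · exact Subgroup.mem_centralizer_singleton_iff.2 (Commute.self_pow y 2).eq
          · exact Subgroup.mem_centralizer_singleton_iff.2 h.tau_comm.eq
        obtain ⟨f⟩ := hs.iso
        have heq : Subgroup.centralizer ({w ^ 2} : Set G) = (P : Subgroup G) :=
          (Subgroup.eq_of_le_of_card_ge hle (by rw [hcard]; exact h8.ge)).symm
        have hperf : commutator G = ⊤ :=
          (Subgroup.Normal.eq_bot_or_eq_top inferInstance).resolve_left fun e => hna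
            ⟨⟨fun a b => commutatorElement_eq_one_iff_mul_comm.1 (Subgroup.mem_bot.1
              (e ▸ Subgroup.commutator_mem_commutator (Subgroup.mem_top a) (Subgroup.mem_top b)))⟩⟩
        rcases S0848.result hperf (w ^ 2) h.t_order
          ((MulEquiv.subgroupCongr heq).trans f) with h168 | h360
        · haveI : Fact (Nat.Prime 7) := ⟨by norm_num⟩
          exact Or.inr (Or.inr (Or.inr ⟨ZMod 7, inferInstance, inferInstance, ZMod.card 7,
            SimplePSLApply.iso_seven h168 (Nat.card_zmod 7)⟩))
        · exact Or.inr (Or.inl (Simple360.nonempty_equiv_alternating h360))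
      · haveI := Fintype.ofFinite G
        exact Or.inr (Or.inr (Or.inl (A7Main29.nonempty_mulEquiv hn)))

end Cfsg.Agent.S3280
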