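import Cfsg.Statements.S3282
import Cfsg.Agent.Lib.BSWMain84

set_option autoImplicit false
open Cfsg

namespace Cfsg.Agent.S3282

/-- The abstract form of the Brauer–Suzuki–Wall Theorem. Let G be a finite group with an involution t and an abelian subgroup K of H = C_G(t) containing t, such that H = K⟨s⟩ for an involution s ∉ K with C_K(s) = ⟨t⟩ and s inverting every element of K, K ∩ K^g = 1 for every g outside H, and all involutions of G conjugate. Then G has a subgroup Q, of order q say, with |G| = q(q+1)(q−1)/2, C_G(x) = Q for every non-identity x ∈ Q, N_G(Q) = QD for an abelian subgroup D of order (q−1)/2 meeting Q trivially, and for every nontrivial subgroup X of D, N_G(X) = N_G(D) = D⟨u⟩ for some involution u ∉ D inverting D. -/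
theorem result {G : Type*} [Group G] [Finite G] (t : G) (ht : orderOf t = 2)
    (K : Subgroup G) (hKab : IsMulCommutative ↥K) (hKH : K ≤ Subgroup.centralizer ({t} : Set G)) (htK : t ∈ K)
    (s : G) (hs : orderOf s = 2) (hsH : s ∈ Subgroup.centralizer ({t} : Set G)) (hsK : s ∉ K)
    (hH : K ⊔ Subgroup.zpowers s = Subgroup.centralizer ({t} : Set G)) (hCK : K ⊓ Subgroup.centralizer ({s} : Set G) = Subgroup.zpowers t)
    (hinv : ∀ x ∈ K, s * x * s⁻¹ = x⁻¹)
    (hTI : ∀ g : G, g ∉ Subgroup.centralizer ({t} : Set G) → K ⊓ K.map (MulAut.conj g).toMonoidHom = ⊥)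
    (hconj : ∀ x y : G, orderOf x = 2 → orderOf y = 2 → IsConj x y) :
    ∃ Q D : Subgroup G, 2 * Nat.card G = Nat.card ↥Q * (Nat.card ↥Q + 1) * (Nat.card ↥Q - 1) ∧
      (∀ x ∈ Q, x ≠ 1 → Subgroup.centralizer ({x} : Set G) = Q) ∧
      IsMulCommutative ↥D ∧ 2 * Nat.card ↥D + 1 = Nat.card ↥Q ∧ Q ⊓ D = ⊥ ∧
      Subgroup.normalizer (Q : Set G) = Q ⊔ D ∧
      ∀ X : Subgroup G, X ≤ D → X ≠ ⊥ →
        Subgroup.normalizer (X : Set G) = Subgroup.normalizer (D : Set G) ∧
        ∃ u : G, orderOf u = 2 ∧ u ∉ D ∧ (∀ d ∈ D, u * d * u⁻¹ = d⁻¹) ∧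
          Subgroup.normalizer (D : Set G) = D ⊔ Subgroup.zpowers u := by
  refine (?_ : Cfsg.Agent.BSW84.Hyp t K s).concl
  have hst : Commute s t := Subgroup.mem_centralizer_singleton_iff.1 hsH
  have hs' : s⁻¹ = s := Cfsg.Agent.BSW84.inv_of_two hs
  have hss : s * s = 1 := Cfsg.Agent.BSW84.mul_self_of_two hs
  refine ⟨ht, hs, fun a ha b hb => congrArg Subtype.val (hKab.is_comm.comm (⟨a, ha⟩ : K) ⟨b, hb⟩), htK,
    hst, hsK, hinv, ?_, ?_, ?_, hconj⟩
  · intro c hc
    have hmem : c ∈ K ⊔ Subgroup.zpowers s := by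
      rw [hH]; exact Subgroup.mem_centralizer_singleton_iff.2 hc
    have hn : Subgroup.zpowers s ≤ Subgroup.normalizer (K : Set G) := by
      rw [Subgroup.zpowers_le, Subgroup.mem_normalizer_iff]
      intro x
      refine ⟨fun hx => by rw [hinv x hx]; exact K.inv_mem hx, fun hx => ?_⟩
      have e := hinv _ hx
      have e' : s * (s * x * s⁻¹) * s⁻¹ = x := by
        rw [hs']
        calc s * (s * x * s) * s = (s * s) * x * (s * s) := by group
        _ = x := by rw [hss, one_mul, mul_one]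
      rw [e'] at e
      rw [e]
      exact K.inv_mem hx
    rw [← SetLike.mem_coe, Subgroup.coe_mul_of_right_le_normalizer_left K _ hn] at hmem
    obtain ⟨x, hx, y, hy, rfl⟩ := hmem
    show x * y ∈ K ∨ s * (x * y) ∈ K
    obtain ⟨i, hi⟩ := (mem_powers_iff_mem_zpowers (x := s) |>.2 hy : y ∈ Submonoid.powers s)
    have hi' : s ^ i = y := hi
    rcases Nat.even_or_odd i with ⟨j, hj⟩ | ⟨j, hj⟩
    · left
      rw [← hi', hj, ← two_mul, pow_mul, pow_two, hss, one_pow, mul_one]
      exact hx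
    · right
      rw [← hi', hj, pow_succ, pow_mul, pow_two, hss, one_pow, one_mul, ← mul_assoc]
      have := hinv x hx
      rw [hs'] at this
      rw [this]
      exact K.inv_mem hx
  · intro a ha haa
    have hmem : a ∈ K ⊓ Subgroup.centralizer ({s} : Set G) := by
      refine ⟨ha, Subgroup.mem_centralizer_singleton_iff.2 ?_⟩
      have e := hinv a ha
      rw [inv_eq_of_mul_eq_one_right haa] at e
      exact (mul_inv_eq_iff_eq_mul.1 e).symm
    rw [hCK] at hmem
    obtain ⟨i, hi⟩ := (mem_powers_iff_mem_zpowers (x := t) |>.2 hmem : a ∈ Submonoid.powers t)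
    have hi' : t ^ i = a := hi
    rw [← hi', ← pow_mod_orderOf, ht]
    rcases Nat.mod_two_eq_zero_or_one i with h | h <;> rw [h]
    · exact Or.inl (pow_zero t)
    · exact Or.inr (pow_one t)
  · intro g x hx hgx hx1
    by_contra hg
    have h := hTI g (fun h => hg (Subgroup.mem_centralizer_singleton_iff.1 h))
    have hmem : g * x * g⁻¹ ∈ K ⊓ K.map (MulAut.conj g).toMonoidHom := ⟨hgx, x, hx, rfl⟩
    rw [h, Subgroup.mem_bot] at hmem
    exact hx1 (by simpa using hmem)

end Cfsg.Agent.S3282
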