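import Cfsg.Statements.S3283
import Cfsg.Agent.Lib.NineTensor31
import Cfsg.Agent.Lib.LargeExtraspecialSetting

set_option autoImplicit false
open Cfsg

namespace Cfsg.Agent.S3283

open Cfsg.Agent.LargeExtraspecial Cfsg.Agent.LargeExtraspecialSetting Cfsg.Agent.NineSetup31
  Cfsg.Agent.SixSymplModel31 Cfsg.Agent.SixModule31 in
/-- The statement for any group of permutations of six points containing the even ones. -/
theorem not_simple {G : Type*} [Group G] [Finite G] (z : G) (hz : orderOf z = 2)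
    (Q : Subgroup ↥(Subgroup.centralizer ({z} : Set G))) [Q.Normal]
    (hQ : Cfsg.IsExtraspecial 2 ↥Q) (hQ9 : Nat.card ↥Q = 2 ^ 9)
    (hCQ : Subgroup.centralizer (Q : Set ↥(Subgroup.centralizer ({z} : Set G))) ≤ Q)
    (H : Subgroup (Equiv.Perm (Fin 6))) (hH : ∀ σ, Even6 σ → σ ∈ H)
    (e : ↥(Subgroup.centralizer ({z} : Set G)) ⧸ Q ≃* Equiv.Perm (Fin 3) × ↥H) :
    ¬ IsSimpleGroup G := by
  intro hsimple
  obtain ⟨z₁, hext, -, hbig⟩ := exists_ext hQ
  have hzC : z ∈ Subgroup.centralizer ({z} : Set G) := Subgroup.mem_centralizer_singleton_iff.mpr rfl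
  have hzQ : (⟨z, hzC⟩ : ↥(Subgroup.centralizer ({z} : Set G))) ∈ Q :=
    hCQ (Subgroup.mem_centralizer_iff.mpr fun x _ =>
      Subtype.ext (Subgroup.mem_centralizer_singleton_iff.mp x.2))
  have hz₁ : (⟨z, hzC⟩ : ↥(Subgroup.centralizer ({z} : Set G))) = z₁ := by
    rcases hext.central hzQ (fun x _ => Subtype.ext (Subgroup.mem_centralizer_singleton_iff.mp x.2))
      with e' | e'
    · rw [show z = 1 from congrArg Subtype.val e', orderOf_one] at hz
      exact absurd hz (by norm_num)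
    · exact e'
  subst hz₁
  have hL : LHyp (Q.map (Subgroup.centralizer ({z} : Set G)).subtype) z := by
    refine ⟨ext_map _ (Subgroup.centralizer ({z} : Set G)).subtype_injective hext, ?_, ?_, ?_⟩
    · intro g hg
      have hgz : g * z = z * g := hg z ⟨⟨z, hzC⟩, hext.mem, rfl⟩
      let c : ↥(Subgroup.centralizer ({z} : Set G)) :=
        ⟨g, Subgroup.mem_centralizer_singleton_iff.mpr hgz⟩
      have hc : ∀ x ∈ Q, c * x = x * c := fun x hx => Subtype.ext (hg x ⟨x, hx, rfl⟩)
      rcases hext.central (hCQ (Subgroup.mem_centralizer_iff.mpr fun x hx => (hc x hx).symm))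
        (fun x hx => (hc x hx).symm) with e' | e'
      · exact Or.inl (congrArg Subtype.val e')
      · exact Or.inr (congrArg Subtype.val e')
    · rintro g hg _ ⟨x, hx, rfl⟩
      exact ⟨_, Subgroup.Normal.conj_mem ‹Q.Normal› x hx
        ⟨g, Subgroup.mem_centralizer_singleton_iff.mpr hg⟩, rfl⟩
    · obtain ⟨x, hx, h1, h2⟩ := hbig
      exact ⟨x, ⟨x, hx, rfl⟩, fun e => h1 (Subtype.ext e), fun e => h2 (Subtype.ext e)⟩
  let π : ↥(Subgroup.centralizer ({z} : Set G)) →* P36 :=
    ((MonoidHom.id (Equiv.Perm (Fin 3))).prodMap H.subtype).comp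
      (e.toMonoidHom.comp (QuotientGroup.mk' Q))
  have hcard : Nat.card (Q.map (Subgroup.centralizer ({z} : Set G)).subtype) = 512 := by
    rw [Subgroup.card_map_of_injective (Subgroup.centralizer ({z} : Set G)).subtype_injective, hQ9]
    norm_num
  have hker : ∀ m, π m = 1 ↔ (m : G) ∈ Q.map (Subgroup.centralizer ({z} : Set G)).subtype := by
    intro m
    have h1 : π m = 1 ↔ e (m : ↥(Subgroup.centralizer ({z} : Set G)) ⧸ Q) = 1 := by
      constructor
      · intro h
        exact Prod.ext (congrArg Prod.fst h :) (Subtype.ext (congrArg Prod.snd h :))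
      · intro h
        show ((MonoidHom.id (Equiv.Perm (Fin 3))).prodMap H.subtype) (e m) = 1
        rw [h, map_one]
    rw [h1, EmbeddingLike.map_eq_one_iff, QuotientGroup.eq_one_iff]
    refine ⟨fun h => ⟨m, h, rfl⟩, ?_⟩
    rintro ⟨m', h, e'⟩
    rwa [← Subtype.ext e']
  let X : Ctx (Q.map (Subgroup.centralizer ({z} : Set G)).subtype) z :=
    { h := hL
      cardQ := hcard
      H := H
      even_mem := hH
      π := π
      ker := hker
      mem_H := fun m => (e m).2.2
      surj := fun τ σ hσ => by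
        obtain ⟨m, hm⟩ := QuotientGroup.mk_surjective (e.symm (τ, ⟨σ, hσ⟩))
        refine ⟨m, ?_⟩
        show ((MonoidHom.id (Equiv.Perm (Fin 3))).prodMap H.subtype) (e m) = _
        rw [hm, MulEquiv.apply_symm_apply]
        rfl }
  have hG : ∀ f : G →* ℤˣ, f = 1 := by
    intro f
    rcases IsSimpleGroup.eq_bot_or_eq_top_of_normal f.ker inferInstance with h | h
    · exfalso
      have h1 := Nat.card_le_card_of_injective f ((MonoidHom.ker_eq_bot_iff f).mp h)
      have h2 := Subgroup.card_le_card_group (Q.map (Subgroup.centralizer ({z} : Set G)).subtype)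
      have h3 : Nat.card ℤˣ = 2 := by rw [Nat.card_eq_fintype_card]; rfl
      omega
    · exact MonoidHom.ker_eq_top_iff.mp h
  obtain ⟨K⟩ := X.exists_co
  rcases K.M.dichotomy with ⟨hN, hX⟩ | ⟨hN, hC⟩
  · obtain ⟨T⟩ := K.tensor_co hN hX
    exact T.false_tensor hG
  · exact false_small K hN hC hG

/-- Let G be a finite group with an involution z whose centralizer M has Q = O₂(M) extraspecial of order 2⁹ with C_M(Q) ≤ Q, and M/Q isomorphic to S₃ × A₆ or to S₃ × S₆. Then G is not simple. -/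
theorem result {G : Type*} [Group G] [Finite G] (z : G) (hz : orderOf z = 2)
    (hQ : Cfsg.IsExtraspecial 2 ↥(Cfsg.pCore 2 ↥(Subgroup.centralizer ({z} : Set G)))) (hQ9 : Nat.card ↥(Cfsg.pCore 2 ↥(Subgroup.centralizer ({z} : Set G))) = 2 ^ 9)
    (hCQ : Subgroup.centralizer ((Cfsg.pCore 2 ↥(Subgroup.centralizer ({z} : Set G))) : Set ↥(Subgroup.centralizer ({z} : Set G))) ≤ Cfsg.pCore 2 ↥(Subgroup.centralizer ({z} : Set G)))
    (hMQ : Nonempty (↥(Subgroup.centralizer ({z} : Set G)) ⧸ Cfsg.pCore 2 ↥(Subgroup.centralizer ({z} : Set G)) ≃* (Equiv.Perm (Fin 3) × ↥(alternatingGroup (Fin 6)))) ∨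
      Nonempty (↥(Subgroup.centralizer ({z} : Set G)) ⧸ Cfsg.pCore 2 ↥(Subgroup.centralizer ({z} : Set G)) ≃* (Equiv.Perm (Fin 3) × Equiv.Perm (Fin 6)))) :
    ¬ IsSimpleGroup G := by
  rcases hMQ with ⟨⟨e⟩⟩ | ⟨⟨e⟩⟩
  · exact not_simple z hz _ hQ hQ9 hCQ (alternatingGroup (Fin 6))
      (fun σ h => Equiv.Perm.mem_alternatingGroup.mpr h) e
  · exact not_simple z hz _ hQ hQ9 hCQ ⊤ (fun σ _ => Subgroup.mem_top σ)
      (e.trans (MulEquiv.prodCongr (MulEquiv.refl _) Subgroup.topEquiv.symm))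

end Cfsg.Agent.S3283
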