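import Cfsg.Statements.S3284
import Cfsg.Agent.Lib.S3284Final23
import Cfsg.Agent.Lib.LargeExtraspecialSetting

set_option autoImplicit false
open Cfsg

namespace Cfsg.Agent.S3284

/-- There is no non-abelian finite simple group with an involution z whose centralizer M has generalized Fitting subgroup Q = F*(M) extraspecial of order 2⁹ and M/Q isomorphic to the subgroup of S₃ × S₆ consisting of the pairs of permutations with equal sign (a group (3 × A₆)·2 in which an involution outside 3 × A₆ induces S₃ on the first factor and S₆ on the second). -/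
theorem result {G : Type*} [Group G] [Finite G] [IsSimpleGroup G] (hG : ¬ IsMulCommutative G) (z : G) (hz : orderOf z = 2)
    [hn : (Cfsg.generalizedFittingSubgroup ↥(Subgroup.centralizer ({z} : Set G))).Normal]
    (hQ : Cfsg.IsExtraspecial 2 ↥(Cfsg.generalizedFittingSubgroup ↥(Subgroup.centralizer ({z} : Set G)))) (hQ9 : Nat.card ↥(Cfsg.generalizedFittingSubgroup ↥(Subgroup.centralizer ({z} : Set G))) = 2 ^ 9)
    (e : (↥(Subgroup.centralizer ({z} : Set G)) ⧸ Cfsg.generalizedFittingSubgroup ↥(Subgroup.centralizer ({z} : Set G))) ≃*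
      ↥(MonoidHom.ker (Equiv.Perm.sign.comp (MonoidHom.fst (Equiv.Perm (Fin 3)) (Equiv.Perm (Fin 6))) *
          Equiv.Perm.sign.comp (MonoidHom.snd (Equiv.Perm (Fin 3)) (Equiv.Perm (Fin 6)))))) :
    False := by
  classical
  set M := Subgroup.centralizer ({z} : Set G) with hM
  set F := Cfsg.generalizedFittingSubgroup ↥M with hF
  obtain ⟨hL, -, -⟩ := Cfsg.Agent.LargeExtraspecialSetting.lhyp_of_fitting hz F rfl hQ
  let π : G → S3284Group23.A3 := fun x =>
    if hx : x ∈ M then ((e (QuotientGroup.mk (⟨x, hx⟩ : M))) : S3284Group23.A3) else 1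
  have hmem : ∀ x, x * z = z * x → x ∈ M := fun x hx =>
    Subgroup.mem_centralizer_singleton_iff.mpr hx
  have hπ : ∀ (x : G) (hx : x ∈ M), π x = ((e (QuotientGroup.mk (⟨x, hx⟩ : M))) : S3284Group23.A3) :=
    fun x hx => dif_pos hx
  have S : S3284Setting23.Sett (F.map M.subtype) z π := by
    refine ⟨hL, ?_, ?_, ?_, ?_, ?_⟩
    · rw [← Nat.card_congr (Subgroup.equivMapOfInjective F _ M.subtype_injective).toEquiv, hQ9]
      norm_num
    · intro x y hx hy
      rw [hπ x (hmem x hx), hπ y (hmem y hy), hπ (x * y) (M.mul_mem (hmem x hx) (hmem y hy))]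
      rw [← Subgroup.coe_mul, ← map_mul, ← QuotientGroup.mk_mul]
      rfl
    · intro x hx
      rw [hπ x (hmem x hx), OneMemClass.coe_eq_one, e.map_eq_one_iff, QuotientGroup.eq_one_iff]
      constructor
      · exact fun h => ⟨_, h, rfl⟩
      · rintro ⟨y, hy, hyx⟩
        rwa [show (⟨x, hmem x hx⟩ : M) = y from Subtype.ext hyx.symm]
    · intro x hx
      rw [hπ x (hmem x hx)]
      exact (e (QuotientGroup.mk (⟨x, hmem x hx⟩ : M))).2
    · intro k hk
      obtain ⟨⟨x, hxM⟩, hx⟩ := QuotientGroup.mk_surjective (e.symm ⟨k, hk⟩)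
      refine ⟨x, Subgroup.mem_centralizer_singleton_iff.mp hxM, ?_⟩
      rw [hπ x hxM, hx, e.apply_symm_apply]
  exact S3284Final23.not_simple hG S

end Cfsg.Agent.S3284
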