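import Cfsg.Statements.S3285
import Cfsg.Agent.Lib.CentTwoA4Excluded91
import Cfsg.Agent.S1644
import Cfsg.Agent.S1230
import Cfsg.Agent.Lib.AutPSLApi
import Cfsg.Agent.Lib.PSLCard

set_option autoImplicit false
open Cfsg

namespace Cfsg.Agent.S3285

open Cfsg.Agent.CentTwoAlt91 Cfsg.Agent.AltCommCent91

theorem solvable_168 {G : Type*} [Group G] [Finite G] (S : Subgroup G) [S.Normal] (h8 : Nat.card ↥S = 8)
    (hc : Nat.card G = 168) : Group.IsSolvable G := by
  haveI : Fact (Nat.Prime 2) := ⟨Nat.prime_two⟩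
  haveI : Fact (Nat.Prime 7) := ⟨by norm_num⟩
  haveI : Fact (Nat.Prime 3) := ⟨Nat.prime_three⟩
  have hQ : Nat.card (G ⧸ S) = 21 := by
    have := S.index_mul_card
    rw [hc, h8, Subgroup.index_eq_card] at this
    omega
  obtain ⟨P⟩ := (inferInstance : Nonempty (Sylow 7 (G ⧸ S)))
  have hP : Nat.card ↥(P : Subgroup (G ⧸ S)) = 7 := by
    rw [P.card_eq_multiplicity, hQ, show (21 : ℕ) = 7 ^ 1 * 3 by norm_num,
      Nat.factorization_mul (by norm_num) (by norm_num), Nat.factorization_pow]
    simp [Nat.factorization_eq_zero_of_not_dvd (show ¬ 7 ∣ 3 by norm_num),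
      (by norm_num : Nat.Prime 7).factorization_self]
  have hn : Nat.card (Sylow 7 (G ⧸ S)) = 1 := by
    have hd := P.card_dvd_index
    have hi := (P : Subgroup (G ⧸ S)).index_mul_card
    rw [hP, hQ] at hi
    have hm := card_sylow_modEq_one 7 (G ⧸ S)
    rw [Nat.ModEq] at hm
    have hle := Nat.le_of_dvd (Nat.pos_of_ne_zero Subgroup.index_ne_zero_of_finite) hd
    omega
  haveI : Subsingleton (Sylow 7 (G ⧸ S)) := Finite.card_le_one_iff_subsingleton.1 hn.le
  haveI : (P : Subgroup (G ⧸ S)).Normal := Sylow.normal_of_subsingleton P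
  haveI h1 : Group.IsSolvable ↥(P : Subgroup (G ⧸ S)) := by
    haveI : IsCyclic ↥(P : Subgroup (G ⧸ S)) := isCyclic_of_prime_card hP
    infer_instance
  haveI h2 : Group.IsSolvable ((G ⧸ S) ⧸ (P : Subgroup (G ⧸ S))) := by
    haveI : IsCyclic ((G ⧸ S) ⧸ (P : Subgroup (G ⧸ S))) := isCyclic_of_prime_card (p := 3) (by
      have hi := (P : Subgroup (G ⧸ S)).index_mul_card
      rw [hP, hQ, Subgroup.index_eq_card] at hi
      omega)
    infer_instance
  haveI h3 : Group.IsSolvable (G ⧸ S) :=
    Group.isSolvable_of_ker_le_range (P : Subgroup (G ⧸ S)).subtype (QuotientGroup.mk' (P : Subgroup (G ⧸ S)))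
      (by rw [Subgroup.range_subtype, QuotientGroup.ker_mk'])
  haveI h4 : Group.IsSolvable ↥S := by
    haveI : Group.IsNilpotent ↥S := (IsPGroup.of_card (p := 2) (n := 3) (by rw [h8]; norm_num)).isNilpotent
    infer_instance
  exact Group.isSolvable_of_ker_le_range S.subtype (QuotientGroup.mk' S)
    (by rw [Subgroup.range_subtype, QuotientGroup.ker_mk'])

theorem five {G : Type*} [Group G] [Finite G] {J : G} {T : Subgroup G}
    (h2 : ∀ N : Subgroup G, N.Normal → N.index ≠ 2) (b : Base J T)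
    (e : ↥T ≃* alternatingGroup (Fin 5)) : Cfsg.Spor.IsoJ1 G := by
  have h : Mid J T (alternatingGroup (Fin 5)) := ⟨b, small_five, ⟨e⟩⟩
  obtain ⟨-, S, hJS, hSc⟩ := b.central
  obtain ⟨N, hN, hall, hcase⟩ := h.exists_core h2
  haveI : IsSimpleGroup ↥T := by
    haveI := alternatingGroup.isSimpleGroup (α := Fin 5) (by simp)
    exact e.isSimpleGroup
  have hTN : T ≤ N := by
    rcases Subgroup.Normal.eq_bot_or_eq_top (H := N.subgroupOf T) (hN.subgroupOf T) with hb | ht
    · exfalso
      obtain ⟨a, a', ha, _, hab⟩ := five_noncomm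
      have ha1 : a ≠ 1 := fun ha1 => hab (by rw [ha1, one_mul, mul_one])
      have ho : orderOf ((e.symm a : ↥T) : G) = 2 := by
        rw [Subgroup.orderOf_coe, MulEquiv.orderOf_eq]
        exact orderOf_eq_prime (by rw [pow_two]; assumption) ha1
      have hmem : e.symm a ∈ N.subgroupOf T := hall _ ho
      rw [hb, Subgroup.mem_bot, EmbeddingLike.map_eq_one_iff] at hmem
      exact ha1 hmem
    · exact Subgroup.subgroupOf_eq_top.1 ht
  rcases hcase with hab | ⟨hsimp, hfus⟩
  · exfalso
    obtain ⟨a, a', -, -, hne⟩ := five_noncomm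
    apply hne
    apply e.symm.injective
    rw [map_mul, map_mul]
    exact Subtype.ext (hab _ (hTN (e.symm a).2) _ (hTN (e.symm a').2))
  have hJN : J ∈ N := hall J b.ord
  have htop : N = ⊤ := by
    rw [eq_top_iff]
    intro g _
    obtain ⟨n, hn, hng⟩ := hfus (g * J * g⁻¹) (by rw [SignalizerStrongEmb.orderOf_conj]; exact b.ord)
    have hc : n⁻¹ * g * J = J * (n⁻¹ * g) := by
      calc n⁻¹ * g * J = n⁻¹ * (g * J * g⁻¹) * g := by group
        _ = n⁻¹ * (n * J * n⁻¹) * g := by rw [hng]
        _ = _ := by group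
    obtain ⟨s, hs, hcs⟩ := b.mem_C_iff.1 hc
    have hmem : n⁻¹ * g ∈ N := by
      rcases hcs with e' | e' <;> rw [e']
      · exact hTN hs
      · exact N.mul_mem hJN (hTN hs)
    simpa using N.mul_mem hn hmem
  subst htop
  haveI := hsimp
  haveI : IsSimpleGroup G := Subgroup.topEquiv.symm.isSimpleGroup
  haveI : IsMulCommutative ↥(S : Subgroup G) := by
    have hinv : ∀ a : ↥(S : Subgroup G), a⁻¹ = a := fun a =>
      inv_eq_of_mul_eq_one_right (Subtype.ext (h.sylow_sq hSc a.2))
    exact ⟨⟨fun a c => by rw [← hinv (a * c), mul_inv_rev, hinv, hinv]⟩⟩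
  -- the centralizer as a direct product
  have hJ2 : ∀ z : ↥(Subgroup.zpowers J), ∀ s : ↥T, Commute (z : G) (s : G) :=
    fun z s => b.direct.2.2.1 z z.2 s s.2
  let f : ↥(Subgroup.zpowers J) × ↥T →* G := MonoidHom.noncommCoprod (Subgroup.zpowers J).subtype T.subtype hJ2
  have hf : ∀ z s, f (z, s) = (z : G) * (s : G) := fun z s => rfl
  have hfinj : Function.Injective f := by
    rw [injective_iff_map_eq_one]
    rintro ⟨⟨z, hz⟩, ⟨s, hs⟩⟩ he
    rw [hf] at he
    have hzT : z ∈ T := by
      have hzs : z = s⁻¹ := eq_inv_of_mul_eq_one_left he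
      rw [hzs]; exact T.inv_mem hs
    have hzb : z ∈ Subgroup.zpowers J ⊓ T := ⟨hz, hzT⟩
    rw [b.direct.2.2.2.1, Subgroup.mem_bot] at hzb
    subst hzb
    have : s = 1 := by simpa using he
    subst this
    rfl
  have hrange : f.range = Subgroup.centralizer ({J} : Set G) := by
    ext c
    rw [Subgroup.mem_centralizer_singleton_iff, b.mem_C_iff]
    constructor
    · rintro ⟨⟨⟨z, hz⟩, s⟩, rfl⟩
      obtain ⟨k, rfl⟩ := Subgroup.mem_zpowers_iff.1 hz
      refine ⟨s, s.2, ?_⟩
      rcases Int.even_or_odd' k with ⟨l, rfl | rfl⟩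
      · left
        rw [hf]
        show J ^ (2 * l) * (s : G) = s
        rw [zpow_mul, zpow_two, b.sq, one_zpow, one_mul]
      · right
        rw [hf]
        show J ^ (2 * l + 1) * (s : G) = J * s
        rw [zpow_add, zpow_mul, zpow_two, b.sq, one_zpow, one_mul, zpow_one]
    · rintro ⟨s, hs, rfl | rfl⟩
      · exact ⟨(1, ⟨c, hs⟩), by rw [hf]; simp⟩
      · exact ⟨(⟨J, Subgroup.mem_zpowers J⟩, ⟨s, hs⟩), hf _ _⟩
  haveI : IsCyclic ↥(Subgroup.zpowers J) := Subgroup.isCyclic_zpowers J
  let eZ : ↥(Subgroup.zpowers J) ≃* Multiplicative (ZMod 2) := mulEquivOfCyclicCardEq (by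
    rw [Nat.card_zpowers, b.ord]; exact (Nat.card_zmod 2).symm)
  exact Cfsg.Agent.S1644.result S inferInstance (h.card_sylow hSc) J b.ord
    (((MulEquiv.subgroupCongr hrange).symm.trans (MonoidHom.ofInjective hfinj).symm).trans (eZ.prodCongr e))

theorem four {G : Type*} [Group G] [Finite G] {J : G} {T : Subgroup G}
    (hns : ¬ Group.IsSolvable G) (h2 : ∀ N : Subgroup G, N.Normal → N.index ≠ 2) (b : Base J T)
    (e : ↥T ≃* alternatingGroup (Fin 4)) :
    ∃ (F : Type) (_ : Field F) (_ : Fintype F), Fintype.card F = 8 ∧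
        Nonempty (G ≃* MulAut (Matrix.ProjectiveSpecialLinearGroup (Fin 2) F)) := by
  haveI : Fact (Nat.Prime 2) := ⟨Nat.prime_two⟩
  have hm : Mid J T (alternatingGroup (Fin 4)) := ⟨b, small_four, ⟨e⟩⟩
  obtain ⟨-, S, hJS, hSc⟩ := b.central
  have h : CentTwoA4.Hyp J T S := ⟨hm, hJS, hSc, fun i hi => hm.isConj_involutions h2 hi⟩
  obtain ⟨N, hN, hall, hcase⟩ := hm.exists_core h2
  have hSN : (S : Subgroup G) ≤ N := fun x hx => by
    by_cases hx1 : x = 1
    · rw [hx1]; exact N.one_mem
    · exact hall x (SignalizerStrongEmb.orderOf_eq_two_of_mul_self (hm.sylow_sq hSc hx) hx1)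
  have hJN : J ∈ N := hall J b.ord
  have hGH : Nat.card G = (Subgroup.centralizer ({J} : Set G)).index * 24 := by
    rw [← h.card_C]; exact (Subgroup.index_mul_card _).symm
  rcases hcase with hab | ⟨hsimp, hfus⟩
  · exfalso
    apply hns
    have hnorm : (S : Subgroup G).Normal := ⟨fun x hx g => by
      have hxN : g * x * g⁻¹ ∈ N := hN.conj_mem x (hSN hx) g
      refine h.mem_S_iff.2 ⟨hab _ hxN _ hJN, ?_⟩
      calc g * x * g⁻¹ * (g * x * g⁻¹) = g * (x * x) * g⁻¹ := by group
        _ = 1 := by rw [hm.sylow_sq hSc hx]; group⟩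
    haveI := hnorm
    refine solvable_168 (S : Subgroup G) h.card_S ?_
    have htop : Subgroup.normalizer ((S : Subgroup G) : Set G) = ⊤ := Subgroup.normalizer_eq_top_iff.2 hnorm
    have := h.card_H
    rwa [htop, Subgroup.card_top] at this
  haveI := hsimp
  set C := Subgroup.centralizer ({J} : Set G) with hC
  -- `G = N C`
  have hGNC : ∀ g : G, ∃ n ∈ N, n⁻¹ * g ∈ C := by
    intro g
    obtain ⟨n, hn, hng⟩ := hfus (g * J * g⁻¹) (by rw [SignalizerStrongEmb.orderOf_conj]; exact b.ord)
    refine ⟨n, hn, Subgroup.mem_centralizer_singleton_iff.2 ?_⟩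
    calc n⁻¹ * g * J = n⁻¹ * (g * J * g⁻¹) * g := by group
      _ = n⁻¹ * (n * J * n⁻¹) * g := by rw [hng]
      _ = _ := by group
  by_cases hCN : C ≤ N
  · exfalso
    have htop : N = ⊤ := by
      rw [eq_top_iff]
      intro g _
      obtain ⟨n, hn, hc⟩ := hGNC g
      simpa using N.mul_mem hn (hCN hc)
    subst htop
    haveI : IsSimpleGroup G := Subgroup.topEquiv.symm.isSimpleGroup
    exact h.false
  -- the centralizer in `N` is the Sylow subgroup
  have hNC : ∀ c ∈ N, c * J = J * c → c ∈ S := by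
    have hSC : (S : Subgroup G) ≤ N ⊓ C := fun x hx => ⟨hSN hx, Subgroup.mem_centralizer_singleton_iff.2 (hSc x hx)⟩
    have hd1 := Subgroup.card_dvd_of_le hSC
    have hd2 := Subgroup.card_dvd_of_le (inf_le_right : N ⊓ C ≤ C)
    rw [h.card_S] at hd1
    rw [hC, h.card_C] at hd2
    obtain ⟨k, hk⟩ := hd1
    have hk3 : k ∣ 3 := Nat.dvd_of_mul_dvd_mul_left (show 0 < 8 by norm_num) (hk ▸ hd2)
    rcases (Nat.dvd_prime Nat.prime_three).1 hk3 with rfl | rfl
    · intro c hc hcJ
      have heq : (S : Subgroup G) = N ⊓ C := Subgroup.eq_of_le_of_card_ge hSC (by rw [hk, h.card_S])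
      show c ∈ (S : Subgroup G)
      rw [heq]
      exact ⟨hc, Subgroup.mem_centralizer_singleton_iff.2 hcJ⟩
    · exfalso
      apply hCN
      have heq : N ⊓ C = C := Subgroup.eq_of_le_of_card_ge inf_le_right (by rw [hk, hC, h.card_C])
      exact heq ▸ inf_le_left
  let S' : Sylow 2 ↥N := S.subtype hSN
  have hS'8 : Nat.card ↥(S' : Subgroup ↥N) = 8 := by
    rw [Sylow.coe_subtype, Nat.card_congr (Subgroup.subgroupOfEquivOfLe hSN).toEquiv, h.card_S]
  have hS'c : ¬ IsCyclic ↥(S' : Subgroup ↥N) := by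
    intro hcy
    obtain ⟨g, hg⟩ := hcy.exists_generator
    have : orderOf g = 8 := (orderOf_eq_card_of_forall_mem_zpowers hg).trans hS'8
    have hle : orderOf g ≤ 2 := Nat.le_of_dvd (by norm_num) (orderOf_dvd_of_pow_eq_one (by
      rw [pow_two]; exact Subtype.ext (Subtype.ext (hm.sylow_sq hSc g.2))))
    omega
  have hS'n : ¬ (S' : Subgroup ↥N).Normal := by
    intro hn
    rcases hn.eq_bot_or_eq_top with hb | ht
    · rw [hb, Subgroup.card_bot] at hS'8; omega
    · have hcomm : ∀ x y : ↥N, x * y = y * x := fun x y => by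
        have hx : x ∈ (S' : Subgroup ↥N) := ht ▸ Subgroup.mem_top x
        have hy : y ∈ (S' : Subgroup ↥N) := ht ▸ Subgroup.mem_top y
        exact Subtype.ext (h.S_comm hx hy)
      haveI : IsMulCommutative ↥N := ⟨⟨hcomm⟩⟩
      have hp := SimpleOrder.card_prime_of_comm (G := ↥N) inferInstance
      rw [ht, Subgroup.card_top] at hS'8
      rw [hS'8] at hp
      norm_num at hp
  have hCel : ∀ t : ↥N, orderOf t = 2 → IsMulCommutative (Subgroup.centralizer ({t} : Set ↥N)) ∧
      ∀ c ∈ Subgroup.centralizer ({t} : Set ↥N), c ^ 2 = 1 := by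
    intro t ht
    obtain ⟨n, hn, hnt⟩ := hfus (t : G) (by rw [Subgroup.orderOf_coe]; exact ht)
    have hin : ∀ c ∈ Subgroup.centralizer ({t} : Set ↥N), n⁻¹ * (c : G) * n ∈ S := by
      intro c hc
      have hc' : (c : G) * t = t * c := congrArg Subtype.val (Subgroup.mem_centralizer_singleton_iff.1 hc)
      refine hNC _ (N.mul_mem (N.mul_mem (N.inv_mem hn) c.2) hn) ?_
      rw [← hnt] at hc'
      calc n⁻¹ * (c : G) * n * J = n⁻¹ * ((c : G) * (n * J * n⁻¹)) * n := by group
        _ = n⁻¹ * ((n * J * n⁻¹) * c) * n := by rw [hc']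
        _ = _ := by group
    refine ⟨⟨⟨fun a c => Subtype.ext (Subtype.ext ?_)⟩⟩, fun c hc => Subtype.ext ?_⟩
    · have hac := h.S_comm (hin a a.2) (hin c c.2)
      show ((a : ↥N) : G) * ((c : ↥N) : G) = ((c : ↥N) : G) * ((a : ↥N) : G)
      calc ((a : ↥N) : G) * ((c : ↥N) : G)
          = n * ((n⁻¹ * ((a : ↥N) : G) * n) * (n⁻¹ * ((c : ↥N) : G) * n)) * n⁻¹ := by group
        _ = _ := by rw [hac]; group
    · have hcc := hm.sylow_sq hSc (hin c hc)
      show ((c : G)) ^ 2 = 1
      calc (c : G) ^ 2 = n * ((n⁻¹ * (c : G) * n) * (n⁻¹ * (c : G) * n)) * n⁻¹ := by rw [pow_two]; group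
        _ = 1 := by rw [hcc]; group
  obtain ⟨F, iF, iFF, hFc, ⟨φ⟩⟩ := Cfsg.Agent.S1230.result S' hS'c hS'n hCel
  rw [hS'8] at hFc
  have hFN : Nat.card F = 8 := (@Nat.card_eq_fintype_card F iFF).trans hFc
  refine ⟨F, iF, iFF, hFc, ?_⟩
  have hN504 : Nat.card ↥N = 504 := by
    rw [Nat.card_congr φ.toEquiv, PSLCard.card_PSL2_even (by rw [hFN]; decide), hFN]
    all_goals norm_num
  have hG1512 : Nat.card G = 1512 := by
    have hsurj : Function.Surjective (fun c : ↥C => ((c : G) : G ⧸ N)) := by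
      intro q
      induction q using QuotientGroup.induction_on with
      | H g =>
        obtain ⟨n, hn, hc⟩ := hGNC g
        refine ⟨⟨_, hc⟩, QuotientGroup.eq.2 ?_⟩
        have := hN.conj_mem _ hn g⁻¹
        simpa [mul_assoc] using this
    have hle : N.index ≤ 3 := by
      have hidx : (N.subgroupOf C).index = N.index := by
        rw [Subgroup.index_eq_card, Subgroup.index_eq_card]
        refine Nat.card_eq_of_bijective (Quotient.map' Subtype.val fun a b hab => by
          rw [QuotientGroup.leftRel_apply] at hab ⊢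
          exact hab) ⟨?_, ?_⟩
        · intro q r e
          induction q using QuotientGroup.induction_on with
          | H a =>
            induction r using QuotientGroup.induction_on with
            | H b =>
              have e' : ((a : G) : G ⧸ N) = ((b : G) : G ⧸ N) := e
              rw [QuotientGroup.eq] at e' ⊢
              exact e'
        · intro q
          obtain ⟨c, hc⟩ := hsurj q
          exact ⟨(c : ↥C ⧸ N.subgroupOf C), hc⟩
      have hmul := (N.subgroupOf C).index_mul_card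
      rw [hidx, hC, h.card_C] at hmul
      have hS8 : 8 ≤ Nat.card ↥(N.subgroupOf C) := by
        rw [← h.card_S]
        refine Nat.card_le_card_of_injective (fun x => ⟨⟨x, Subgroup.mem_centralizer_singleton_iff.2 (hSc x x.2)⟩,
          hSN x.2⟩) fun x y e => by
            exact Subtype.ext (congrArg (fun q : ↥(N.subgroupOf C) => ((q : ↥C) : G)) e)
      rw [hC] at hS8
      nlinarith
    have hne1 : N.index ≠ 1 := fun hi => hCN (by rw [Subgroup.index_eq_one.1 hi]; exact le_top)
    have hne2 := h2 N hN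
    have hpos : N.index ≠ 0 := Subgroup.index_ne_zero_of_finite
    rw [← N.index_mul_card, hN504, show N.index = 3 by omega]
  have hPc : Nat.card (MulAut (Matrix.ProjectiveSpecialLinearGroup (Fin 2) F)) = 1512 := by
    rw [AutPSLApi.card_mulAut (p := 2) (f := 3) (by rw [hFc]; norm_num) (by norm_num) le_rfl, if_pos rfl]
    show 1 * 3 * Nat.card (Matrix.ProjGenLinGroup (Fin 2) F) = 1512
    rw [PSLCard.card_PGL2, hFN]
    all_goals norm_num
  set act : G →* MulAut ↥N := MulAut.conjNormal with hact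
  have hinj : Function.Injective act := by
    rw [injective_iff_map_eq_one]
    intro g hg
    have hcomm : ∀ n ∈ N, g * n = n * g := fun n hn => by
      have := congrArg (fun a : MulAut ↥N => ((a ⟨n, hn⟩ : ↥N) : G)) hg
      simp only [hact, MulAut.conjNormal_apply, MulAut.one_apply] at this
      exact mul_inv_eq_iff_eq_mul.1 this
    -- `g` centralizes `S`, so lies in it
    have hgN : g ∈ N := by
      by_contra hgn
      have hgS : ∀ s ∈ S, g * s = s * g := fun s hs => hcomm s (hSN hs)
      have hgJ : g * J = J * g := hgS J hJS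
      obtain ⟨s, hs, hgs⟩ := b.mem_C_iff.1 hgJ
      have hsN : s ∉ N := fun hsN => hgn (by
        rcases hgs with rfl | rfl
        · exact hsN
        · exact N.mul_mem hJN hsN)
      have hscomm : ∀ u ∈ T, u * u = 1 → s * u = u * s := by
        intro u hu huu
        have h1 := hgS u (h.mem_S_iff.2 ⟨b.T_le hu, huu⟩)
        rcases hgs with rfl | rfl
        · exact h1
        · rw [mul_assoc, ← mul_assoc u, ← b.comm hu, mul_assoc] at h1
          exact mul_left_cancel h1
      have hs3 : orderOf (e ⟨s, hs⟩) = 3 := by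
        have hd : orderOf (e ⟨s, hs⟩) ∣ 12 := card_four ▸ orderOf_dvd_natCard _
        have h2' : ¬ 2 ∣ orderOf (e ⟨s, hs⟩) ∨ e ⟨s, hs⟩ * e ⟨s, hs⟩ = 1 := by
          have key : ∀ a : alternatingGroup (Fin 4), a ^ 3 = 1 ∨ a * a = 1 := by decide +kernel
          rcases key (e ⟨s, hs⟩) with k | k
          · left
            intro hdd
            have := hdd.trans (orderOf_dvd_of_pow_eq_one k)
            omega
          · exact Or.inr k
        rcases h2' with k | k
        · have : orderOf (e ⟨s, hs⟩) ∈ Nat.divisors 12 := Nat.mem_divisors.2 ⟨hd, by norm_num⟩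
          rw [show Nat.divisors 12 = {1, 2, 3, 4, 6, 12} by decide +kernel] at this
          simp only [Finset.mem_insert, Finset.mem_singleton] at this
          rcases this with k' | k' | k' | k' | k' | k'
          · exfalso
            rw [orderOf_eq_one_iff, EmbeddingLike.map_eq_one_iff] at k'
            exact hsN (by rw [show s = 1 from congrArg Subtype.val k']; exact N.one_mem)
          all_goals omega
        · exfalso
          rw [← map_mul, EmbeddingLike.map_eq_one_iff] at k
          exact hsN (hSN (h.mem_S_iff.2 ⟨b.T_le hs, congrArg Subtype.val k⟩))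
      obtain ⟨a, ha, hne⟩ := four_noncentral (e ⟨s, hs⟩) (hs3 ▸ pow_orderOf_eq_one _)
        (fun e1 => by rw [e1, orderOf_one] at hs3; omega)
      apply hne
      have hu := hscomm (e.symm a : ↥T) (e.symm a).2 (by
        rw [← Subgroup.coe_mul, ← map_mul, ha, map_one, Subgroup.coe_one])
      have hsub : (⟨s, hs⟩ : ↥T) * e.symm a = e.symm a * ⟨s, hs⟩ := Subtype.ext hu
      simpa using congrArg e hsub
    have hz : (⟨g, hgN⟩ : ↥N) ∈ Subgroup.center ↥N :=
      Subgroup.mem_center_iff.2 fun n => Subtype.ext (hcomm n n.2).symm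
    rcases SimpleOrder.eq_bot_or_top (H := Subgroup.center ↥N) inferInstance with hb | ht
    · rw [hb, Subgroup.mem_bot] at hz
      exact congrArg Subtype.val hz
    · exfalso
      haveI : IsMulCommutative ↥N :=
        ⟨⟨fun x y => (Subgroup.mem_center_iff.1 (ht ▸ Subgroup.mem_top x) y).symm⟩⟩
      have hp := SimpleOrder.card_prime_of_comm (G := ↥N) inferInstance
      rw [hN504] at hp
      norm_num at hp
  let ψ : G →* MulAut (Matrix.ProjectiveSpecialLinearGroup (Fin 2) F) :=
    (MulAut.congr φ).toMonoidHom.comp act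
  have hψ : Function.Injective ψ := (MulAut.congr φ).injective.comp hinj
  have hb : Function.Bijective ψ := (Nat.bijective_iff_injective_and_card ψ).2 ⟨hψ, by rw [hG1512, hPc]⟩
  exact ⟨MulEquiv.ofBijective ψ hb⟩

/-- Let G be a finite non-solvable group with no normal subgroup of index 2, and J an involution lying in the centre of a Sylow 2-subgroup of G whose centralizer is the internal direct product of ⟨J⟩ with a subgroup isomorphic to the alternating group of degree m. Then either m = 4 and G is isomorphic to the automorphism group PΓL(2, 8) of PSL(2, 8), or m = 5 and G is isomorphic to the first Janko group. -/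
theorem result {G : Type*} [Group G] [Finite G] (hns : ¬ Group.IsSolvable G) (h2 : ∀ N : Subgroup G, N.Normal → N.index ≠ 2)
    (J : G) (hJ : Cfsg.IsTwoCentralInvolution J) (m : ℕ) (T : Subgroup G)
    (hT : Nonempty (↥T ≃* ↥(alternatingGroup (Fin m))))
    (hd : Cfsg.IsInternalDirectProduct (Subgroup.zpowers J) T (Subgroup.centralizer ({J} : Set G))) :
    (m = 4 ∧ ∃ (F : Type) (_ : Field F) (_ : Fintype F), Fintype.card F = 8 ∧
        Nonempty (G ≃* MulAut (Matrix.ProjectiveSpecialLinearGroup (Fin 2) F))) ∨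
      (m = 5 ∧ Cfsg.Spor.IsoJ1 G) := by
  obtain ⟨e⟩ := hT
  have b : Base J T := ⟨hJ, hd⟩
  obtain ⟨-, S, hJS, hSc⟩ := hJ
  obtain ⟨n, -, hn⟩ := b.fused_mem_T hJS hSc le_top (no_index_two_top h2)
  rcases (show m ≤ 3 ∨ m = 4 ∨ m = 5 ∨ 6 ≤ m by omega) with hm | rfl | rfl | hm
  · exact (not_small b hm e hn).elim
  · exact Or.inl ⟨rfl, four hns h2 b e⟩
  · exact Or.inr ⟨rfl, five h2 b e⟩
  · exact (not_large b hm e hn).elim

end Cfsg.Agent.S3285
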