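import Cfsg.Statements.S3294
import Mathlib
import Cfsg.Agent.Lib.HallSolvable
import Cfsg.Agent.Lib.TransferPResidual

set_option autoImplicit false
open Cfsg

namespace Cfsg.Agent.S3294
/-- If a cyclic normal 2-subgroup has a centraliser which is a 2-group, so is the whole group. -/
theorem isPGroup_of_cyclic_normal {Q : Type*} [Group Q] [Finite Q] (M : Subgroup Q)
    [M.Normal] (hM : IsPGroup 2 M) [IsCyclic M]
    (hC : IsPGroup 2 (Subgroup.centralizer (M : Set Q))) : IsPGroup 2 Q := by
  haveI : Fact (Nat.Prime 2) := ⟨Nat.prime_two⟩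
  let φ : Q →* MulAut M := MulAut.conjNormal
  have hker : φ.ker ≤ Subgroup.centralizer (M : Set Q) := by
    intro q hq
    refine Subgroup.mem_centralizer_iff.2 fun r hr => ?_
    have h := congrArg (fun e : MulAut M => ((e ⟨r, hr⟩ : M) : Q)) (MonoidHom.mem_ker.1 hq)
    simp only [φ, MulAut.conjNormal_apply, MulAut.one_apply] at h
    exact (mul_inv_eq_iff_eq_mul.1 h).symm
  obtain ⟨k, hk⟩ := IsPGroup.iff_card.1 hM
  obtain ⟨a, ha⟩ : ∃ a, Nat.card φ.ker = 2 ^ a := IsPGroup.iff_card.1 (hC.to_le hker)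
  have haut : ∃ b, Nat.card φ.range = 2 ^ b := by
    have h1 : Nat.card (MulAut M) = Nat.totient (2 ^ k) := by
      rw [IsCyclic.card_mulAut, hk]
    have h2 : Nat.card φ.range ∣ 2 ^ k := by
      refine (Subgroup.card_subgroup_dvd_card _).trans ?_
      rw [h1]
      rcases Nat.eq_zero_or_pos k with rfl | h
      · simp
      · rw [Nat.totient_prime_pow Nat.prime_two h]
        simpa using Nat.pow_dvd_pow 2 (Nat.sub_le k 1)
    exact ((Nat.dvd_prime_pow Nat.prime_two).1 h2).imp fun b hb => hb.2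
  obtain ⟨b, hb⟩ := haut
  refine IsPGroup.of_card (n := a + b) ?_
  rw [← φ.ker.card_mul_index, Subgroup.index_ker, ha, hb, pow_add]

/-- A cyclic `O₂` forces a solvable group with trivial odd core to be a 2-group. -/
theorem isPGroup_of_cyclic_pCore {Q : Type*} [Group Q] [Finite Q] [Group.IsSolvable Q]
    (hO : Cfsg.pPrimeCore 2 Q = ⊥) [IsCyclic ↥(Cfsg.pCore 2 Q)] : IsPGroup 2 Q := by
  haveI : Fact (Nat.Prime 2) := ⟨Nat.prime_two⟩
  refine isPGroup_of_cyclic_normal _ (Cfsg.Agent.HallCore.isPGroup_pCore 2 Q) ?_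
  exact (Cfsg.Agent.HallCore.isPGroup_pCore 2 Q).to_le
    (Cfsg.Agent.HallSolvable.centralizer_pCore_le
      (Cfsg.Agent.HallSolvable.isPSolvable_of_solvable 2) hO)

theorem isPGroup_of_quaternion_sylow {Q : Type*} [Group Q] [Finite Q] [Group.IsSolvable Q]
    (hO : Cfsg.pPrimeCore 2 Q = ⊥) (n : ℕ) (hn : 3 ≤ n) (f : QuaternionGroup (2 ^ n) →* Q)
    (hf : Function.Injective f) (S : Sylow 2 Q) (hS : (S : Subgroup Q) = f.range) :
    IsPGroup 2 Q := by
  haveI : Fact (Nat.Prime 2) := ⟨Nat.prime_two⟩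
  haveI : NeZero (2 ^ n) := ⟨by positivity⟩
  set R := Cfsg.pCore 2 Q
  have hRS : R ≤ f.range := hS ▸ Cfsg.Agent.HallCore.pCore_le_sylow S
  by_cases hx : ∃ i, f (QuaternionGroup.xa i) ∈ R
  · obtain ⟨i, hi⟩ := hx
    have hRn : R.Normal := Cfsg.Agent.HallCore.pCore_normal 2 Q
    have hval : ∀ m : ℕ, 0 < m → m < 2 * 2 ^ n →
        (QuaternionGroup.a (m : ZMod (2 * 2 ^ n)) : QuaternionGroup (2 ^ n)) ≠ 1 := by
      intro m h0 h1 h
      rw [QuaternionGroup.one_def] at h
      simp only [QuaternionGroup.a.injEq] at h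
      rw [ZMod.natCast_eq_zero_iff] at h
      exact absurd (Nat.le_of_dvd h0 h) (by omega)
    have h16 : 16 ≤ 2 * 2 ^ n := by
      have : 2 ^ 3 ≤ 2 ^ n := Nat.pow_le_pow_right (by norm_num) hn
      omega
    have h2 : f (QuaternionGroup.a 2) ∈ R := by
      have h := R.mul_mem (hRn.conj_mem _ hi (f (QuaternionGroup.a 1))) (R.inv_mem hi)
      rw [← map_inv, ← map_inv, ← map_mul, ← map_mul, ← map_mul] at h
      have e : (QuaternionGroup.a 1 * QuaternionGroup.xa i * (QuaternionGroup.a 1)⁻¹ *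
          (QuaternionGroup.xa i)⁻¹ : QuaternionGroup (2 ^ n)) = QuaternionGroup.a 2 := by
        rw [mul_inv_eq_iff_eq_mul, mul_inv_eq_iff_eq_mul]
        simp only [QuaternionGroup.a_mul_xa, QuaternionGroup.xa_mul_a, QuaternionGroup.a_mul_a,
          QuaternionGroup.xa.injEq]
        ring
      rwa [e] at h
    set M := Subgroup.closure {r : Q | r ∈ R ∧ r ^ 4 ≠ 1} with hMdef
    have hMn : M.Normal := by
      refine ⟨fun m hm g => ?_⟩
      have : M.map (MulAut.conj g).toMonoidHom ≤ M := by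
        rw [hMdef, MonoidHom.map_closure]
        refine Subgroup.closure_mono ?_
        rintro _ ⟨r, ⟨hr, hr4⟩, rfl⟩
        refine ⟨hRn.conj_mem r hr g, fun h => hr4 ?_⟩
        simpa [conj_pow, conj_eq_one_iff] using h
      exact this ⟨m, hm, rfl⟩
    have hMA : M ≤ (Subgroup.zpowers (QuaternionGroup.a 1)).map f := by
      rw [hMdef, Subgroup.closure_le]
      rintro r ⟨hr, hr4⟩
      obtain ⟨y, rfl⟩ := hRS hr
      cases y with
      | a j =>
        refine ⟨QuaternionGroup.a j, ⟨(j.val : ℤ), ?_⟩, rfl⟩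
        simp only [zpow_natCast, QuaternionGroup.a_one_pow, ZMod.natCast_zmod_val]
      | xa j =>
        exfalso
        apply hr4
        rw [← map_pow, ← QuaternionGroup.orderOf_xa j, pow_orderOf_eq_one, map_one]
    have h2M : f (QuaternionGroup.a 2) ∈ M := by
      refine Subgroup.subset_closure ⟨h2, fun h => ?_⟩
      rw [← map_pow, map_eq_one_iff f hf] at h
      apply hval 8 (by norm_num) (by omega)
      rw [← h, pow_succ, pow_succ, pow_succ, pow_one]
      simp only [QuaternionGroup.a_mul_a]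
      norm_num
    haveI : IsCyclic ↥((Subgroup.zpowers (QuaternionGroup.a 1 : QuaternionGroup (2 ^ n))).map f) :=
      isCyclic_of_surjective _ (f.subgroupMap_surjective _)
    haveI : IsCyclic M := isCyclic_of_injective (Subgroup.inclusion hMA) (Subgroup.inclusion_injective _)
    have hMR : M ≤ R := by
      rw [hMdef, Subgroup.closure_le]
      exact fun r hr => hr.1
    refine isPGroup_of_cyclic_normal M ((Cfsg.Agent.HallCore.isPGroup_pCore 2 Q).to_le hMR) ?_
    set C := Subgroup.centralizer (M : Set Q)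
    haveI : C.Normal := inferInstance
    have hOC : Cfsg.pPrimeCore 2 ↥C = ⊥ := by
      have h : (Cfsg.pPrimeCore 2 ↥C).map C.subtype ≤ ⊥ := by
        rw [Cfsg.Agent.HallCore.map_subtype_pPrimeCore C, hO]
        simp
      exact (Subgroup.map_eq_bot_iff_of_injective _ C.subtype_injective).1 (le_bot_iff.1 h)
    have hle : (Cfsg.pCore 2 ↥C).map C.subtype ≤
        (Subgroup.zpowers (QuaternionGroup.a 1)).map f := by
      rw [Cfsg.Agent.HallCore.map_subtype_pCore C]
      rintro r ⟨hr, hrC⟩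
      obtain ⟨y, rfl⟩ := hRS (by first | exact hr | exact hrC)
      cases y with
      | a j =>
        refine ⟨QuaternionGroup.a j, ⟨(j.val : ℤ), ?_⟩, rfl⟩
        simp only [zpow_natCast, QuaternionGroup.a_one_pow, ZMod.natCast_zmod_val]
      | xa j =>
        exfalso
        have hc : f (QuaternionGroup.xa j) ∈ C := by first | exact hrC | exact hr
        have h := Subgroup.mem_centralizer_iff.1 hc _ h2M
        rw [← map_mul, ← map_mul] at h
        have h' := hf h
        simp only [QuaternionGroup.a_mul_xa, QuaternionGroup.xa_mul_a,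
          QuaternionGroup.xa.injEq] at h'
        apply hval 4 (by norm_num) (by omega)
        have h4 : ((4 : ℕ) : ZMod (2 * 2 ^ n)) = 0 := by
          push_cast
          linear_combination -h'
        rw [h4, QuaternionGroup.one_def]
    haveI : IsCyclic ↥(Cfsg.pCore 2 ↥C) :=
      isCyclic_of_injective ((Subgroup.inclusion hle).comp
        ((Cfsg.pCore 2 ↥C).equivMapOfInjective C.subtype C.subtype_injective).toMonoidHom)
        (fun a b h => ((Cfsg.pCore 2 ↥C).equivMapOfInjective C.subtype C.subtype_injective).injective (Subgroup.inclusion_injective hle h))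
    exact isPGroup_of_cyclic_pCore hOC
  · have hle : R ≤ (Subgroup.zpowers (QuaternionGroup.a 1)).map f := by
      intro r hr
      obtain ⟨y, rfl⟩ := hRS hr
      cases y with
      | a j =>
        refine ⟨QuaternionGroup.a j, ⟨(j.val : ℤ), ?_⟩, rfl⟩
        simp only [zpow_natCast, QuaternionGroup.a_one_pow, ZMod.natCast_zmod_val]
      | xa j => exact absurd ⟨j, hr⟩ hx
    haveI : IsCyclic ↥((Subgroup.zpowers (QuaternionGroup.a 1 : QuaternionGroup (2 ^ n))).map f) :=
      isCyclic_of_surjective _ (f.subgroupMap_surjective _)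
    haveI : IsCyclic ↥(Cfsg.pCore 2 Q) :=
      isCyclic_of_injective (Subgroup.inclusion hle) (Subgroup.inclusion_injective _)
    exact isPGroup_of_cyclic_pCore hO

/-- A finite solvable group whose Sylow 2-subgroups are generalized quaternion of order at least 32 has a normal 2-complement. -/
theorem result {G : Type*} [Group G] [Finite G] (hsol : Group.IsSolvable G) (T : Sylow 2 G) (n : ℕ) (hn : 3 ≤ n) (hT : Nonempty ((T : Subgroup G) ≃* QuaternionGroup (2 ^ n))) : Cfsg.HasNormalPComplement 2 G := by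
  classical
  haveI : Fact (Nat.Prime 2) := ⟨Nat.prime_two⟩
  obtain ⟨e⟩ := hT
  haveI := hsol
  haveI : Group.IsSolvable (G ⧸ Cfsg.oddCore G) :=
    solvable_of_surjective (QuotientGroup.mk'_surjective (Cfsg.oddCore G))
  let q := QuotientGroup.mk' (Cfsg.oddCore G)
  let f : QuaternionGroup (2 ^ n) →* G ⧸ Cfsg.oddCore G :=
    q.comp ((T : Subgroup G).subtype.comp e.symm.toMonoidHom)
  have hdisj : (T : Subgroup G) ⊓ Cfsg.oddCore G = ⊥ := by
    obtain ⟨k, hk⟩ := IsPGroup.iff_card.1 T.isPGroup'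
    refine Cfsg.Agent.HallCore.disjoint_of_coprime_card ?_
    rw [hk]
    exact (Cfsg.Agent.HallCore.coprime_card_pPrimeCore 2 G).symm.pow_left _
  have hf : Function.Injective f := by
    rw [injective_iff_map_eq_one]
    intro y hy
    have h : ((e.symm y : ↥(T : Subgroup G)) : G) ∈ (T : Subgroup G) ⊓ Cfsg.oddCore G :=
      ⟨(e.symm y).2, (QuotientGroup.eq_one_iff _).1 hy⟩
    rw [hdisj, Subgroup.mem_bot] at h
    exact e.symm.map_eq_one_iff.1 (Subtype.ext h)
  have hS : ((T.mapSurjective (QuotientGroup.mk'_surjective (Cfsg.oddCore G)) :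
      Sylow 2 (G ⧸ Cfsg.oddCore G)) : Subgroup (G ⧸ Cfsg.oddCore G)) = f.range := by
    rw [Sylow.coe_mapSurjective]
    ext z
    constructor
    · rintro ⟨t, ht, rfl⟩
      exact ⟨e ⟨t, ht⟩, by simp [f, q]⟩
    · rintro ⟨y, rfl⟩
      exact ⟨_, (e.symm y).2, rfl⟩
  exact Cfsg.Agent.TransferPResidual.hasNormalPComplement_of_normal (N := Cfsg.oddCore G)
    (isPGroup_of_quaternion_sylow (Cfsg.Agent.HallCore.pPrimeCore_quotient_self 2 G) n hn f hf _ hS)
    (Cfsg.Agent.HallCore.not_dvd_card_pPrimeCore 2 G)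

end Cfsg.Agent.S3294
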