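import Cfsg.Statements.S3299
import Mathlib
import Cfsg.Agent.Lib.LargeExtraspecialTransfer62


set_option autoImplicit false
open Cfsg

namespace Cfsg.Agent.S3299

open Subgroup

/-- The homomorphism onto `C₂` of a subgroup of index 2. -/
theorem exists_hom {H : Type*} [Group H] (K : Subgroup H) (hK : K.index = 2) :
    ∃ φ : H →* Multiplicative (ZMod 2), ∀ h, φ h = 1 → h ∈ K := by
  classical
  have h01 : Multiplicative.ofAdd (1 : ZMod 2) ≠ 1 := by decide
  refine ⟨MonoidHom.mk' (fun h => if h ∈ K then 1 else Multiplicative.ofAdd 1) (fun a b => ?_), fun h e => ?_⟩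
  · have h1 := Subgroup.mul_mem_iff_of_index_two hK (a := a) (b := b)
    by_cases ha : a ∈ K <;> by_cases hb : b ∈ K <;>
      simp [ha, hb, h1] <;> decide
  · by_contra hc
    simp [hc] at e

theorem eq_one_of_pResidual {G : Type*} [Group G] [Finite G] (hres : Cfsg.pResidual 2 G = ⊤)
    (f : G →* Multiplicative (ZMod 2)) : f = 1 := by
  have h1 : f.ker.index ≠ 2 :=
    TransferPResidual.pResidual_eq_top_iff.mp hres f.ker inferInstance
  have h2 : f.ker.index ∣ 2 := by
    rw [Subgroup.index_ker]
    exact (card_subgroup_dvd_card f.range).trans (by simp)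
  rcases (Nat.dvd_prime Nat.prime_two).mp h2 with h3 | h3
  · exact MonoidHom.ext fun g => by
      have : g ∈ f.ker := by rw [Subgroup.index_eq_one.mp h3]; trivial
      exact this
  · exact absurd h3 h1

/-- Let G be a finite group with no nontrivial 2-group quotient (O^2(G) = G), z an involution of G with H = C_G(z), and suppose E = O_2(H) is extraspecial with C_G(E) ≤ E and of order 2^(2n+1) with n ≥ 2. Then E is contained in every normal subgroup of H of index 2. -/
theorem result {G : Type*} [Group G] [Finite G] (hres : Cfsg.pResidual 2 G = ⊤) (z : G) (hz : orderOf z = 2)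
    (E : Subgroup G) (hE : E = (Cfsg.pCore 2 ↥(Subgroup.centralizer ({z} : Set G))).map (Subgroup.centralizer ({z} : Set G)).subtype)
    (hext : Cfsg.IsExtraspecial 2 ↥E) (hcent : Subgroup.centralizer (E : Set G) ≤ E) (n : ℕ) (hn : 2 ≤ n) (hcard : Nat.card ↥E = 2 ^ (2 * n + 1))
    (K : Subgroup G) (hKH : K ≤ Subgroup.centralizer ({z} : Set G))
    (hKn : ∀ h ∈ Subgroup.centralizer ({z} : Set G), K.map (MulAut.conj h).toMonoidHom = K)
    (hKi : K.relIndex (Subgroup.centralizer ({z} : Set G)) = 2) : E ≤ K := by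
  set H := Subgroup.centralizer ({z} : Set G) with hHdef
  have hEH : E ≤ H := hE ▸ Subgroup.map_subtype_le _
  have hzE : z ∈ E := hcent (Subgroup.mem_centralizer_iff.mpr fun y hy =>
    Subgroup.mem_centralizer_singleton_iff.mp (hEH hy))
  obtain ⟨z₀, h, -, -⟩ := LargeExtraspecial.exists_ext hext
  obtain rfl : z = z₀ := by
    refine (h.central hzE fun y hy => Subgroup.mem_centralizer_singleton_iff.mp (hEH hy)).resolve_left ?_
    intro e
    rw [e, orderOf_one] at hz
    exact absurd hz (by norm_num)
  have h32 : 32 ≤ Nat.card E := by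
    rw [hcard]
    calc (32 : ℕ) = 2 ^ 5 := by norm_num
      _ ≤ _ := Nat.pow_le_pow_right (by norm_num) (by omega)
  obtain ⟨φ, hφ⟩ := exists_hom (K.subgroupOf H) hKi
  intro y hy
  exact hφ ⟨y, hEH hy⟩ (LargeExtraspecialTransfer62.hom_trivial h h32 hcent
    (by decide) (eq_one_of_pResidual hres) φ (e := ⟨y, hEH hy⟩) hy)

end Cfsg.Agent.S3299
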