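import Cfsg.Statements.S3300
import Cfsg.Agent.Lib.TransferTwo71

set_option autoImplicit false
open Cfsg

namespace Cfsg.Agent.S3300

open Subgroup

theorem exists_hom {H : Type*} [Group H] (K : Subgroup H) (hK : K.index = 2) :
    ∃ φ : H →* Multiplicative (ZMod 2), ∀ h, φ h = 1 → h ∈ K := by
  classical
  refine ⟨MonoidHom.mk' (fun h => if h ∈ K then 1 else Multiplicative.ofAdd 1) (fun a b => ?_), fun h e => ?_⟩
  · have h1 := Subgroup.mul_mem_iff_of_index_two hK (a := a) (b := b)
    by_cases ha : a ∈ K <;> by_cases hb : b ∈ K <;> simp [ha, hb, h1] <;> decide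
  · by_contra hc
    simp [hc] at e

theorem hom_eq_one {G : Type*} [Group G] [Finite G] (hres : Cfsg.pResidual 2 G = ⊤)
    (f : G →* Multiplicative (ZMod 2)) : f = 1 := by
  have h1 : f.ker.index ≠ 2 :=
    TransferPResidual.pResidual_eq_top_iff.mp hres f.ker inferInstance
  have h2 : f.ker.index ∣ 2 := by
    rw [Subgroup.index_ker]
    exact (card_subgroup_dvd_card f.range).trans (by simp)
  rcases (Nat.dvd_prime Nat.prime_two).mp h2 with h3 | h3
  · exact MonoidHom.ext fun g => by
      have : g ∈ f.ker := by rw [Subgroup.index_eq_one.mp h3]; trivial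
      exact this
  · exact absurd h3 h1

/-- Let G be a finite group with no nontrivial 2-group quotient (O^2(G) = G), z an involution of G with H = C_G(z), and suppose E = O_2(H) is extraspecial with C_G(E) ≤ E and of order 2^(2n+1) with n ≥ 3. If H has a normal subgroup of index 2, then z is conjugate in G to an element of E other than z. -/
theorem result {G : Type*} [Group G] [Finite G] (hres : Cfsg.pResidual 2 G = ⊤) (z : G) (hz : orderOf z = 2)
    (E : Subgroup G) (hE : E = (Cfsg.pCore 2 ↥(Subgroup.centralizer ({z} : Set G))).map (Subgroup.centralizer ({z} : Set G)).subtype)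
    (hext : Cfsg.IsExtraspecial 2 ↥E) (hcent : Subgroup.centralizer (E : Set G) ≤ E) (n : ℕ) (hn : 3 ≤ n) (hcard : Nat.card ↥E = 2 ^ (2 * n + 1))
    (K : Subgroup G) (hKH : K ≤ Subgroup.centralizer ({z} : Set G))
    (hKn : ∀ h ∈ Subgroup.centralizer ({z} : Set G), K.map (MulAut.conj h).toMonoidHom = K)
    (hKi : K.relIndex (Subgroup.centralizer ({z} : Set G)) = 2) :
    ∃ g : G, g * z * g⁻¹ ∈ E ∧ g * z * g⁻¹ ≠ z := by
  classical
  set H := Subgroup.centralizer ({z} : Set G) with hHdef
  have hEH : E ≤ H := hE ▸ Subgroup.map_subtype_le _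
  obtain ⟨z₀, h, -, -⟩ := LargeExtraspecial.exists_ext hext
  have hzE : z ∈ E := hcent (mem_centralizer_iff.mpr fun y hy =>
    mem_centralizer_singleton_iff.mp (hEH hy))
  obtain rfl : z = z₀ := by
    refine (h.central hzE fun y hy => mem_centralizer_singleton_iff.mp (hEH hy)).resolve_left ?_
    intro e
    rw [e, orderOf_one] at hz
    exact absurd hz (by norm_num)
  have hnorm : ∀ g, g * z = z * g → ∀ x ∈ E, g * x * g⁻¹ ∈ E := by
    intro g hg x hx
    rw [hE] at hx ⊢
    obtain ⟨⟨x, hxH⟩, hx', rfl⟩ := mem_map.1 hx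
    haveI : (Cfsg.pCore 2 H).Normal := by infer_instance
    exact mem_map.2 ⟨_, Normal.conj_mem inferInstance _ hx' ⟨g, mem_centralizer_singleton_iff.2 hg⟩, rfl⟩
  have hcore : ∀ g, g * z = z * g → (∀ x ∈ E, g * x * g⁻¹ = x ∨ g * x * g⁻¹ = z * x) → g ∈ E := by
    let A : Subgroup H :=
      { carrier := {g | ∀ x ∈ E, (g : G) * x * (g : G)⁻¹ = x ∨ (g : G) * x * (g : G)⁻¹ = z * x}
        one_mem' := fun x _ => Or.inl (by simp)
        mul_mem' := fun {a b} ha hb x hx => by
          have e : ((a * b : H) : G) * x * ((a * b : H) : G)⁻¹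
              = (a : G) * ((b : G) * x * (b : G)⁻¹) * (a : G)⁻¹ := by push_cast; group
          have haz : (a : G) * z = z * a := mem_centralizer_singleton_iff.1 a.2
          rcases hb x hx with e1 | e1 <;> rw [e, e1]
          · exact ha x hx
          · rw [show (a : G) * (z * x) * (a : G)⁻¹ = ((a : G) * z) * x * (a : G)⁻¹ by group, haz,
              show z * (a : G) * x * (a : G)⁻¹ = z * ((a : G) * x * (a : G)⁻¹) by group]
            rcases ha x hx with e2 | e2 <;> rw [e2]
            · exact Or.inr rfl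
            · exact Or.inl (h.z_mul_z_mul x)
        inv_mem' := fun {a} ha x hx => by
          have haz : (a : G) * z = z * a := mem_centralizer_singleton_iff.1 a.2
          rcases ha x hx with e | e
          · left; push_cast; conv_lhs => rw [← e]
            group
          · right; push_cast
            have e2 : (a : G) * (z * x) * (a : G)⁻¹ = x := by
              rw [show (a : G) * (z * x) * (a : G)⁻¹ = ((a : G) * z) * x * (a : G)⁻¹ by group, haz,
                show z * (a : G) * x * (a : G)⁻¹ = z * ((a : G) * x * (a : G)⁻¹) by group, e, h.z_mul_z_mul]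
            conv_lhs => rw [← e2]
            group }
    have hA : A.Normal := ⟨fun a ha b x hx => by
      have hbz : (b : G) * z = z * b := mem_centralizer_singleton_iff.1 b.2
      have hx' : (b : G)⁻¹ * x * b ∈ E := by
        have h2 := hnorm _ (Commute.inv_left (hbz : Commute (b : G) z)).eq x hx
        simpa using h2
      push_cast
      rcases ha _ hx' with e | e
      · left
        calc (b : G) * a * (b : G)⁻¹ * x * ((b : G) * a * (b : G)⁻¹)⁻¹
            = (b : G) * ((a : G) * ((b : G)⁻¹ * x * b) * (a : G)⁻¹) * (b : G)⁻¹ := by group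
          _ = x := by rw [e]; group
      · right
        calc (b : G) * a * (b : G)⁻¹ * x * ((b : G) * a * (b : G)⁻¹)⁻¹
            = (b : G) * ((a : G) * ((b : G)⁻¹ * x * b) * (a : G)⁻¹) * (b : G)⁻¹ := by group
          _ = ((b : G) * z) * (b : G)⁻¹ * x := by rw [e]; group
          _ = z * x := by rw [hbz, mul_inv_cancel_right]⟩
    have hAp : IsPGroup 2 A := by
      intro a
      have hsq : ((a : H) : G) ^ 2 ∈ E := by
        refine hcent (mem_centralizer_iff.2 fun x hx => ?_)
        have haz : ((a : H) : G) * z = z * a := mem_centralizer_singleton_iff.1 (a : H).2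
        have e2 : ((a : H) : G) ^ 2 * x * (((a : H) : G) ^ 2)⁻¹ = x := by
          rw [show ((a : H) : G) ^ 2 * x * (((a : H) : G) ^ 2)⁻¹ =
            ((a : H) : G) * (((a : H) : G) * x * ((a : H) : G)⁻¹) * ((a : H) : G)⁻¹ by rw [pow_two]; group]
          rcases a.2 x hx with e | e <;> rw [e]
          · exact e
          · rw [show ((a : H) : G) * (z * x) * ((a : H) : G)⁻¹ = (((a : H) : G) * z) * x * ((a : H) : G)⁻¹ by group,
              haz, show z * ((a : H) : G) * x * ((a : H) : G)⁻¹ = z * (((a : H) : G) * x * ((a : H) : G)⁻¹) by group,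
              e, h.z_mul_z_mul]
        exact (mul_inv_eq_iff_eq_mul.1 e2).symm
      obtain ⟨j, hj⟩ := h.isPGroup ⟨_, hsq⟩
      refine ⟨j + 1, Subtype.ext (Subtype.ext ?_)⟩
      have hj' := congrArg Subtype.val hj
      push_cast at hj' ⊢
      rw [pow_succ', pow_mul]
      exact hj'
    intro g hg hg2
    rw [hE]
    exact mem_map.2 ⟨⟨g, mem_centralizer_singleton_iff.2 hg⟩, (le_sSup ⟨hA, hAp⟩ : A ≤ Cfsg.pCore 2 H) hg2, rfl⟩
  by_contra hno
  push Not at hno
  obtain ⟨φ, hφ⟩ := exists_hom (K.subgroupOf H) hKi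
  have h128 : 128 ≤ Nat.card E := by
    rw [hcard]
    calc (128 : ℕ) = 2 ^ 7 := by norm_num
      _ ≤ _ := Nat.pow_le_pow_right (by norm_num) (by omega)
  have hkill := TransferTwo71.hom_mod_trivial h hnorm hcent h128 hcore hno
    (by decide) (hom_eq_one hres) (H := H) rfl φ
  have htop : ∀ a : H, φ a = 1 := by
    intro a
    obtain ⟨i, m, hm, hord⟩ := Nat.exists_eq_two_pow_mul_odd (orderOf_pos a).ne'
    have hy : ∃ e, orderOf ((a ^ m : H) : G) = 2 ^ e := by
      rw [orderOf_coe]
      have hd : orderOf (a ^ m) ∣ 2 ^ i := orderOf_dvd_of_pow_eq_one (by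
        rw [← pow_mul, mul_comm, ← hord, pow_orderOf_eq_one])
      obtain ⟨j, -, hj⟩ := (Nat.dvd_prime_pow Nat.prime_two).1 hd
      exact ⟨j, hj⟩
    have h1 := hkill _ (a ^ m) rfl hy
    obtain ⟨r, rfl⟩ := hm
    rw [map_pow, pow_succ, pow_mul] at h1
    have h2 : φ a ^ 2 = 1 := by generalize φ a = v; revert v; decide
    rwa [h2, one_pow, one_mul] at h1
  have : K.subgroupOf H = ⊤ := (eq_top_iff' _).2 fun a => hφ a (htop a)
  rw [Subgroup.relIndex, this, index_top] at hKi
  exact absurd hKi (by norm_num)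

end Cfsg.Agent.S3300
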