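import Cfsg.Statements.S3301
import Cfsg.Agent.Lib.TransferFour71

set_option autoImplicit false
open Cfsg

namespace Cfsg.Agent.S3301

open Subgroup

theorem hom_eq_one {G B : Type*} [Group G] [Finite G] [CommGroup B] (hB : ∀ b : B, b * b = 1)
    (hres : Cfsg.pResidual 2 G = ⊤) (f : G →* B) : f = 1 := by
  by_contra hne
  have hp : IsPGroup 2 f.range := fun b => ⟨1, Subtype.ext (by simpa [pow_two] using hB (b : B))⟩
  have hker : f.ker ≠ ⊤ := fun h => hne (MonoidHom.ext fun g => by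
    have : g ∈ f.ker := h ▸ mem_top g
    exact this)
  haveI : Fact (Nat.Prime 2) := ⟨Nat.prime_two⟩
  have hq : IsPGroup 2 (G ⧸ f.ker) := hp.of_equiv (QuotientGroup.quotientKerEquivRange f).symm
  haveI : Nontrivial (G ⧸ f.ker) := QuotientGroup.nontrivial_iff.2 hker
  obtain ⟨M, hMn, hMi, -⟩ := PGroupsBasic.exists_normal_index_eq hq (H := (⊥ : Subgroup (G ⧸ f.ker))) bot_ne_top
  haveI := hMn
  refine TransferPResidual.pResidual_eq_top_iff.mp hres (M.comap (QuotientGroup.mk' f.ker)) inferInstance ?_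
  rw [index_comap_of_surjective _ (QuotientGroup.mk'_surjective _), hMi]

theorem sq_quot {A : Type*} [CommGroup A] (b : A ⧸ (powMonoidHom 2 : A →* A).range) :
    b * b = 1 := by
  induction b using QuotientGroup.induction_on with
  | _ a => exact (QuotientGroup.eq_one_iff (a * a)).2 ⟨a, pow_two a⟩

/-- Let G be a finite group with no nontrivial 2-group quotient (O^2(G) = G), z an involution of G with H = C_G(z), and suppose E = O_2(H) is extraspecial with C_G(E) ≤ E. Then the Sylow 2-subgroups of H/[H, H] are elementary abelian: every element of 2-power order of the abelianization of H has order at most 2. -/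
theorem result {G : Type*} [Group G] [Finite G] (hres : Cfsg.pResidual 2 G = ⊤) (z : G) (hz : orderOf z = 2)
    (E : Subgroup G) (hE : E = (Cfsg.pCore 2 ↥(Subgroup.centralizer ({z} : Set G))).map (Subgroup.centralizer ({z} : Set G)).subtype)
    (hext : Cfsg.IsExtraspecial 2 ↥E) (hcent : Subgroup.centralizer (E : Set G) ≤ E) :
    ∀ q : Abelianization ↥(Subgroup.centralizer ({z} : Set G)), (∃ k : ℕ, orderOf q = 2 ^ k) → q ^ 2 = 1 := by
  classical
  haveI : Fact (Nat.Prime 2) := ⟨Nat.prime_two⟩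
  set H := Subgroup.centralizer ({z} : Set G) with hHdef
  have hEH : E ≤ H := hE ▸ Subgroup.map_subtype_le _
  obtain ⟨z₀, h, -, -⟩ := LargeExtraspecial.exists_ext hext
  have hzE : z ∈ E := hcent (mem_centralizer_iff.mpr fun y hy =>
    mem_centralizer_singleton_iff.mp (hEH hy))
  obtain rfl : z = z₀ := by
    refine (h.central hzE fun y hy => mem_centralizer_singleton_iff.mp (hEH hy)).resolve_left ?_
    intro e
    rw [e, orderOf_one] at hz
    exact absurd hz (by norm_num)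
  have hnorm : ∀ g, g * z = z * g → ∀ x ∈ E, g * x * g⁻¹ ∈ E := by
    intro g hg x hx
    rw [hE] at hx ⊢
    obtain ⟨⟨x, hxH⟩, hx', rfl⟩ := mem_map.1 hx
    haveI : (Cfsg.pCore 2 H).Normal := by infer_instance
    exact mem_map.2 ⟨_, Normal.conj_mem inferInstance _ hx' ⟨g, mem_centralizer_singleton_iff.2 hg⟩, rfl⟩
  rintro q ⟨k, hk⟩
  obtain ⟨a, rfl⟩ := QuotientGroup.mk_surjective q
  -- the 2-part of a preimage
  obtain ⟨i, m, hm, hord⟩ := Nat.exists_eq_two_pow_mul_odd (orderOf_pos a).ne'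
  set x := a ^ m with hxdef
  have hx2 : (x : G) ^ 2 ^ i = 1 := by
    have : x ^ 2 ^ i = 1 := by rw [hxdef, ← pow_mul, mul_comm, ← hord, pow_orderOf_eq_one]
    simpa using congrArg Subtype.val this
  set qq : Abelianization H := QuotientGroup.mk a with hqq
  suffices hsuf : Abelianization.of x ^ 2 = 1 by
    have h1 : (qq ^ 2) ^ m = 1 := by
      rw [← pow_mul, mul_comm, pow_mul]
      rw [hxdef, map_pow] at hsuf
      exact hsuf
    have h2 : orderOf (qq ^ 2) ∣ 2 ^ k := hk ▸ orderOf_pow_dvd 2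
    obtain ⟨j, -, hj⟩ := (Nat.dvd_prime_pow Nat.prime_two).1 h2
    have h3 : orderOf (qq ^ 2) ∣ m := orderOf_dvd_of_pow_eq_one h1
    rw [← orderOf_eq_one_iff, hj]
    rcases j with _ | j
    · simp
    · exact absurd ((dvd_pow_self 2 (Nat.succ_ne_zero j)).trans (hj ▸ h3))
        (fun hd => Nat.not_even_iff_odd.2 hm (even_iff_two_dvd.2 hd))
  by_cases hbig : ∀ M : Subgroup G, ∀ t ∈ E, (∀ x ∈ E, x ∈ M ∨ t⁻¹ * x ∈ M) →
      ∃ a ∈ E, a ∈ M ∧ ∃ b ∈ E, b ∈ M ∧ a * b ≠ b * a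
  swap
  · push Not at hbig
    obtain ⟨M, t, ht, hcov, hab⟩ := hbig
    have hcard := TransferFour71.card_le_eight h M ht hcov hab
    rw [← map_pow]
    refine (QuotientGroup.eq_one_iff _).2 (TransferFour71.sq_mem_commutator h hcard hEH
      (fun g hg => hnorm g (mem_centralizer_singleton_iff.1 hg))
      (fun g hg => mem_centralizer_singleton_iff.1 hg) hcent ?_ x ⟨i, hx2⟩)
    intro K hKn hKp
    rw [hE]
    exact map_mono (le_sSup ⟨hKn, hKp⟩)
  by_contra hne
  obtain ⟨θ, hθ⟩ := CommGroup.exists_apply_ne_one_of_hasEnoughRootsOfUnity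
    (Abelianization H) ℂ hne
  set w := θ (Abelianization.of x) with hw
  rw [map_pow] at hθ
  -- bring `w` to exact order 4
  set θ' : H →* ℂˣ := θ.comp Abelianization.of with hθ'
  haveI : Finite θ'.range := Finite.of_surjective θ'.rangeRestrict θ'.rangeRestrict_surjective
  obtain ⟨N, hN4, hwN, hN⟩ : ∃ N : ℕ, orderOf w ∣ N ∧ (∀ g : H, θ' g ^ N = 1) ∧
      ∃ g : H, orderOf (θ' g) = N := by
    obtain ⟨g, hg⟩ := (isCyclic_iff_exists_orderOf_eq_natCard (α := θ'.range)).1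
      inferInstance
    refine ⟨Nat.card θ'.range, ?_, fun g => ?_, ?_⟩
    · have h1 := orderOf_dvd_natCard (⟨w, x, rfl⟩ : θ'.range)
      rwa [← orderOf_coe] at h1
    · exact congrArg Subtype.val (pow_card_eq_one' (x := (⟨θ' g, g, rfl⟩ : θ'.range)))
    · obtain ⟨⟨_, g', rfl⟩, hg⟩ := g, hg
      exact ⟨g', (orderOf_coe _).trans hg⟩
  obtain ⟨g0, hg0⟩ := hN
  have h4 : 4 ∣ N := by
    refine dvd_trans ?_ hN4
    have hd : orderOf w ∣ 2 ^ i := orderOf_dvd_of_pow_eq_one (by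
      rw [hw, ← map_pow, ← map_pow, show x ^ 2 ^ i = 1 from Subtype.ext (by simpa using hx2),
        map_one, map_one])
    obtain ⟨j, -, hj⟩ := (Nat.dvd_prime_pow Nat.prime_two).1 hd
    rw [hj]
    rcases j with _ | _ | j
    · exact absurd (orderOf_dvd_iff_pow_eq_one.1 (hj ▸ one_dvd 2)) hθ
    · exact absurd (orderOf_dvd_iff_pow_eq_one.1 (hj ▸ dvd_refl 2)) hθ
    · exact pow_dvd_pow 2 (Nat.le_add_left 2 j)
  obtain ⟨N', rfl⟩ := h4
  set φ : H →* ℂˣ := (powMonoidHom N').comp θ' with hφ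
  have hφ4 : ∀ g, φ g ^ 4 = 1 := fun g => by
    show (θ' g ^ N') ^ 4 = 1
    rw [← pow_mul, mul_comm, hwN]
  set φ2 : H →* φ.range := φ.rangeRestrict with hφ2
  haveI : Finite φ.range := Finite.of_surjective φ.rangeRestrict φ.rangeRestrict_surjective
  let sq : φ.range →* φ.range := powMonoidHom 2
  let π : φ.range →* φ.range ⧸ sq.range := QuotientGroup.mk' _
  have hN' : N' ≠ 0 := by
    rintro rfl
    have := (θ'.isOfFinOrder (isOfFinOrder_of_finite g0)).orderOf_pos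
    rw [hg0] at this
    simp at this
  have hg4 : orderOf (φ g0) = 4 := by
    show orderOf (θ' g0 ^ N') = 4
    rw [orderOf_pow_of_dvd hN' (hg0 ▸ dvd_mul_left N' 4), hg0, Nat.mul_div_cancel _ (Nat.pos_of_ne_zero hN')]
  have hzp : φ.range = zpowers (φ g0) := by
    refine (eq_of_le_of_card_ge (zpowers_le.2 (⟨g0, rfl⟩ : φ g0 ∈ φ.range)) ?_).symm
    rw [Nat.card_zpowers, hg4]
    have hle : φ.range ≤ (rootsOfUnity 4 ℂ) := by
      rintro _ ⟨g, rfl⟩
      exact (mem_rootsOfUnity _ _).2 (hφ4 g)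
    refine (Subgroup.card_le_of_le hle).trans ?_
    exact card_rootsOfUnity ℂ 4
  have hkill := TransferFour71.hom_mod_trivial h hnorm hcent hbig π
    sq_quot
    (fun b hb => by
      show (QuotientGroup.mk b : φ.range ⧸ sq.range) = 1
      rw [QuotientGroup.eq_one_iff]
      obtain ⟨j, hj⟩ := mem_zpowers_iff.1 (hzp ▸ b.2 : (b : ℂˣ) ∈ zpowers (φ g0))
      have hdvd : (4 : ℤ) ∣ j + j := by
        have : (φ g0) ^ (j + j) = 1 := by
          rw [zpow_add, hj]
          exact congrArg Subtype.val hb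
        exact_mod_cast hg4 ▸ orderOf_dvd_iff_zpow_eq_one.2 this
      obtain ⟨j', rfl⟩ : (2 : ℤ) ∣ j := by omega
      refine ⟨⟨φ g0 ^ j', zpow_mem (⟨g0, rfl⟩ : φ g0 ∈ φ.range) j'⟩, Subtype.ext ?_⟩
      show (φ g0 ^ j') ^ 2 = (b : ℂˣ)
      rw [← hj, ← zpow_natCast, ← zpow_mul, mul_comm]
      rfl)
    (hom_eq_one sq_quot hres) (H := H) rfl φ2
  -- the 2-part of `g0` is not killed
  obtain ⟨i', m', hm', hord'⟩ := Nat.exists_eq_two_pow_mul_odd (orderOf_pos g0).ne'
  have hy : ∃ e, orderOf ((g0 ^ m' : H) : G) = 2 ^ e := by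
    rw [orderOf_coe]
    have hd : orderOf (g0 ^ m') ∣ 2 ^ i' := orderOf_dvd_of_pow_eq_one (by
      rw [← pow_mul, mul_comm, ← hord', pow_orderOf_eq_one])
    obtain ⟨j, -, hj⟩ := (Nat.dvd_prime_pow Nat.prime_two).1 hd
    exact ⟨j, hj⟩
  have hzero := hkill _ (g0 ^ m') rfl hy
  obtain ⟨c, hc⟩ := (QuotientGroup.eq_one_iff _).1 (hzero : (QuotientGroup.mk (φ2 (g0 ^ m')) : φ.range ⧸ sq.range) = 1)
  have hc' : (c : ℂˣ) ^ 2 = φ g0 ^ m' := (congrArg Subtype.val hc).trans (map_pow φ g0 m')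
  have h22 : (φ g0 ^ m') ^ 2 = 1 := by
    rw [← hc', ← pow_mul]
    obtain ⟨g, hg⟩ := c.2
    rw [← hg]; exact hφ4 g
  have hd4 : 4 ∣ m' * 2 := hg4 ▸ orderOf_dvd_of_pow_eq_one (by rw [pow_mul]; exact h22)
  obtain ⟨r, rfl⟩ := hm'
  omega

end Cfsg.Agent.S3301
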