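import Cfsg.Statements.S3305
import Cfsg.Agent.Lib.SylowQuotient

set_option autoImplicit false
open Cfsg

namespace Cfsg.Agent.S3305

/-- If any two distinct Sylow 2-subgroups of the finite group G intersect in a cyclic group, then the same holds in every quotient group G/H, H a normal subgroup of G. -/
theorem result {G : Type*} [Group G] [Finite G]
    (hC : ∀ S T : Sylow 2 G, S ≠ T → IsCyclic ↥((S : Subgroup G) ⊓ (T : Subgroup G))) (H : Subgroup G) [H.Normal] :
    ∀ S T : Sylow 2 (G ⧸ H), S ≠ T → IsCyclic ↥((S : Subgroup (G ⧸ H)) ⊓ (T : Subgroup (G ⧸ H))) := by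
  intro S T hne
  obtain ⟨P, hP, hPmap⟩ := Cfsg.Agent.SylowQuotient.exists_pgroup_map_eq (p := 2)
    (QuotientGroup.mk' H) (QuotientGroup.mk'_surjective H)
    ((S : Subgroup (G ⧸ H)) ⊓ (T : Subgroup (G ⧸ H))) (S.isPGroup'.to_le inf_le_left)
  obtain ⟨S', hS', hS''⟩ := Cfsg.Agent.SylowQuotient.exists_sylow_lift _
    (QuotientGroup.mk'_surjective H) S P hP (hPmap.le.trans inf_le_left)
  obtain ⟨T', hT', hT''⟩ := Cfsg.Agent.SylowQuotient.exists_sylow_lift _
    (QuotientGroup.mk'_surjective H) T P hP (hPmap.le.trans inf_le_right)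
  have hne' : S' ≠ T' := by
    rintro rfl
    exact hne (Sylow.ext (hS''.symm.trans hT''))
  have hc : IsCyclic P := by
    have := hC S' T' hne'
    exact isCyclic_of_injective (Subgroup.inclusion (le_inf hS' hT'))
      (Subgroup.inclusion_injective _)
  rw [← hPmap]
  exact isCyclic_of_surjective _ ((QuotientGroup.mk' H).subgroupMap_surjective P)

end Cfsg.Agent.S3305
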