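import Cfsg.Statements.S3303
import Mathlib
import Cfsg.Agent.S3305
import Cfsg.Agent.Lib.HallSolvable

set_option autoImplicit false
open Cfsg

namespace Cfsg.Agent.S3303
/-- A group with a self-centralising normal cyclic 2-subgroup is a 2-group. -/
theorem isPGroup_of_cyclic_self_centralizing {Q : Type*} [Group Q] [Finite Q] (R : Subgroup Q)
    [R.Normal] (hR : IsPGroup 2 R) [IsCyclic R]
    (hC : Subgroup.centralizer (R : Set Q) ≤ R) : IsPGroup 2 Q := by
  haveI : Fact (Nat.Prime 2) := ⟨Nat.prime_two⟩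
  let φ : Q →* MulAut R := MulAut.conjNormal
  have hker : φ.ker ≤ R := by
    intro q hq
    refine hC (Subgroup.mem_centralizer_iff.2 fun r hr => ?_)
    have h := congrArg (fun e : MulAut R => ((e ⟨r, hr⟩ : R) : Q)) (MonoidHom.mem_ker.1 hq)
    simp only [φ, MulAut.conjNormal_apply, MulAut.one_apply] at h
    exact (mul_inv_eq_iff_eq_mul.1 h).symm
  obtain ⟨k, hk⟩ := IsPGroup.iff_card.1 hR
  obtain ⟨a, ha⟩ : ∃ a, Nat.card φ.ker = 2 ^ a := IsPGroup.iff_card.1 (hR.to_le hker)
  have haut : ∃ b, Nat.card φ.range = 2 ^ b := by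
    have h1 : Nat.card (MulAut R) = Nat.totient (2 ^ k) := by
      rw [IsCyclic.card_mulAut, hk]
    have h2 : Nat.card φ.range ∣ 2 ^ k := by
      refine (Subgroup.card_subgroup_dvd_card _).trans ?_
      rw [h1]
      rcases Nat.eq_zero_or_pos k with rfl | h
      · simp
      · rw [Nat.totient_prime_pow Nat.prime_two h]
        simpa using Nat.pow_dvd_pow 2 (Nat.sub_le k 1)
    exact ((Nat.dvd_prime_pow Nat.prime_two).1 h2).imp fun b hb => hb.2
  obtain ⟨b, hb⟩ := haut
  refine IsPGroup.of_card (n := a + b) ?_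
  rw [← φ.ker.card_mul_index, Subgroup.index_ker, ha, hb, pow_add]

/-- Let G be a finite solvable group in which the intersection of any two distinct Sylow 2-subgroups is cyclic. Then G/O(G) has a normal Sylow 2-subgroup, where O(G) is the largest normal subgroup of odd order. -/
theorem result {G : Type*} [Group G] [Finite G] (hs : Group.IsSolvable G)
    (hC : ∀ S T : Sylow 2 G, S ≠ T → IsCyclic ↥((S : Subgroup G) ⊓ (T : Subgroup G))) :
    ∃ P : Sylow 2 (G ⧸ Cfsg.oddCore G), (P : Subgroup (G ⧸ Cfsg.oddCore G)).Normal := by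
  classical
  haveI : Fact (Nat.Prime 2) := ⟨Nat.prime_two⟩
  by_contra hcon
  push Not at hcon
  haveI : Group.IsSolvable (G ⧸ Cfsg.oddCore G) :=
    solvable_of_surjective (QuotientGroup.mk'_surjective (Cfsg.oddCore G))
  have hO : Cfsg.pPrimeCore 2 (G ⧸ Cfsg.oddCore G) = ⊥ :=
    Cfsg.Agent.HallCore.pPrimeCore_quotient_self 2 G
  have hC' := Cfsg.Agent.S3305.result hC (Cfsg.oddCore G)
  obtain ⟨S⟩ := (inferInstance : Nonempty (Sylow 2 (G ⧸ Cfsg.oddCore G)))
  obtain ⟨T, hT⟩ : ∃ T, S ≠ T := by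
    by_contra h
    push Not at h
    haveI : Subsingleton (Sylow 2 (G ⧸ Cfsg.oddCore G)) := ⟨fun A B => (h A).symm.trans (h B)⟩
    exact hcon S S.normal_of_subsingleton
  haveI := hC' S T hT
  haveI : IsCyclic ↥(Cfsg.pCore 2 (G ⧸ Cfsg.oddCore G)) :=
    isCyclic_of_injective (Subgroup.inclusion (le_inf (Cfsg.Agent.HallCore.pCore_le_sylow S)
      (Cfsg.Agent.HallCore.pCore_le_sylow T))) (Subgroup.inclusion_injective _)
  have hp : IsPGroup 2 (G ⧸ Cfsg.oddCore G) :=
    isPGroup_of_cyclic_self_centralizing _ (Cfsg.Agent.HallCore.isPGroup_pCore 2 _)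
      (Cfsg.Agent.HallSolvable.centralizer_pCore_le
        (Cfsg.Agent.HallSolvable.isPSolvable_of_solvable 2) hO)
  have hS : (S : Subgroup (G ⧸ Cfsg.oddCore G)) = ⊤ :=
    (S.is_maximal' (hp.to_subgroup ⊤) le_top).symm
  exact hcon S (hS ▸ inferInstance)

end Cfsg.Agent.S3303
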