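import Cfsg.Statements.S3309
import Cfsg.Agent.Lib.TransferThompson
import Cfsg.Agent.S3279

set_option autoImplicit false
open Cfsg

namespace Cfsg.Agent.S3309
open DihedralGroup

/-- The abstract Sylow subgroup. -/
abbrev M : Type := Multiplicative (ZMod 2) × DihedralGroup 4

/-- The square. -/
def zM : M := (1, r 2)

/-- A central involution that is not a square. -/
def aM : M := (Multiplicative.ofAdd 1, 1)

/-- A homomorphism to the group of order two taking the value `1` at `aM`. -/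
def lin (β γ : ZMod 2) : M → Multiplicative (ZMod 2)
  | (e, DihedralGroup.r i) => e * Multiplicative.ofAdd (β * (i.val : ZMod 2))
  | (e, DihedralGroup.sr i) => e * Multiplicative.ofAdd (β * (i.val : ZMod 2) + γ)

theorem lin_mul : ∀ β γ : ZMod 2, ∀ x y : M, lin β γ (x * y) = lin β γ x * lin β γ y := by
  decide +kernel

/-- A reflection class representative. -/
def ref (e p : ZMod 2) : M := (Multiplicative.ofAdd e, DihedralGroup.sr (p.val : ZMod 4))

/-- The homomorphism. -/
def linHom (β γ : ZMod 2) : M →* Multiplicative (ZMod 2) := MonoidHom.mk' (lin β γ) (lin_mul β γ)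

section

variable {G : Type*} [Group G] [Finite G] (S : Sylow 2 G) (ψ : M →* G)
  (hψ : Function.Injective ψ) (hS : ψ.range = (S : Subgroup G))
include hψ hS

theorem order_two_iff (x : M) : orderOf (ψ x) = 2 ↔ x * x = 1 ∧ x ≠ 1 := by
  rw [orderOf_injective ψ hψ x, orderOf_eq_prime_iff, pow_two]

/-- The central involutions are pairwise not conjugate. -/
theorem not_isConj_centre : ¬ IsConj (ψ zM) (ψ aM) ∧ ¬ IsConj (ψ zM) (ψ (aM * zM)) ∧
    ¬ IsConj (ψ aM) (ψ (aM * zM)) := by

  have hcen : ∀ c : M, c * zM = zM * c ∧ c * aM = aM * c ∧ c * (aM * zM) = (aM * zM) * c := by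
    decide +kernel
  have hC : ∀ x : M, (∀ c : M, c * x = x * c) → ψ x ∈ Subgroup.centralizer ((S : Subgroup G) : Set G) := by
    intro x hx
    rw [Subgroup.mem_centralizer_iff]
    intro w hw
    rw [SetLike.mem_coe, ← hS] at hw
    obtain ⟨c, rfl⟩ := hw
    rw [← map_mul, ← map_mul, hx c]
  have hfix : ∀ n ∈ Subgroup.normalizer ((S : Subgroup G) : Set G),
      n * ψ zM * n⁻¹ = ψ zM ∧ n * ψ aM * n⁻¹ ≠ ψ (aM * zM) := by
    intro n hn
    have himg : ∀ x : M, ∃ y : M, ψ y = n * ψ x * n⁻¹ := by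
      intro x
      have : n * ψ x * n⁻¹ ∈ ψ.range := by
        rw [hS]; exact (Subgroup.mem_normalizer_iff.1 hn _).1 (hS ▸ ⟨x, rfl⟩)
      exact this
    have hz : n * ψ zM * n⁻¹ = ψ zM := by
      obtain ⟨w, hw⟩ : ∃ w : M, w * w = zM := ⟨(1, r 1), by decide +kernel⟩
      obtain ⟨y, hy⟩ := himg w
      obtain ⟨z', hz'⟩ := himg zM
      have h2 : z' = y * y := hψ (by rw [map_mul, hy, hz', ← hw, map_mul]; group)
      have key : ∀ y : M, y * y = 1 ∨ y * y = zM := by decide +kernel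
      rcases key y with h | h
      · exfalso
        rw [h2, h, map_one] at hz'
        have : ψ zM = 1 := by simpa using hz'.symm
        exact absurd (hψ (this.trans (map_one ψ).symm)) (by decide +kernel)
      · rw [← hz', h2, h]
    refine ⟨hz, fun hna => ?_⟩
    have hnaz : n * ψ (aM * zM) * n⁻¹ = ψ aM := by
      rw [map_mul, show n * (ψ aM * ψ zM) * n⁻¹ = (n * ψ aM * n⁻¹) * (n * ψ zM * n⁻¹) by group, hna, hz,
        ← map_mul, show aM * zM * zM = aM by decide +kernel]
    have hodd : ∀ j : ℕ, n ^ (2 * j + 1) * ψ aM * (n ^ (2 * j + 1))⁻¹ = ψ (aM * zM) := by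
      intro j
      induction j with
      | zero => simpa using hna
      | succ j ih =>
        rw [show 2 * (j + 1) + 1 = 2 + (2 * j + 1) by ring, pow_add, pow_two]
        calc _ = n * (n * (n ^ (2 * j + 1) * ψ aM * (n ^ (2 * j + 1))⁻¹) * n⁻¹) * n⁻¹ := by group
          _ = ψ (aM * zM) := by rw [ih, hnaz, hna]
    obtain ⟨m, hm⟩ : ∃ m, orderOf n = 2 ^ (orderOf n).factorization 2 * m :=
      ⟨_, (Nat.ordProj_mul_ordCompl_eq_self _ 2).symm⟩
    have hmodd : Odd m := by
      rw [← Nat.not_even_iff_odd, even_iff_two_dvd]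
      intro h2m
      have hord : 2 ^ ((orderOf n).factorization 2 + 1) ∣ orderOf n := by
        rw [pow_succ]
        nth_rewrite 2 [hm]
        exact mul_dvd_mul_left _ h2m
      have := (Nat.Prime.pow_dvd_iff_le_factorization Nat.prime_two (orderOf_pos n).ne').1 hord
      omega
    have hp : IsPGroup 2 (Subgroup.zpowers (n ^ m)) := by
      refine IsPGroup.of_card (n := (orderOf n).factorization 2) ?_
      rw [Nat.card_zpowers, orderOf_pow' _ hmodd.pos.ne', Nat.gcd_eq_right ⟨_, by rw [mul_comm]; exact hm⟩]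
      nth_rewrite 1 [hm]
      exact Nat.mul_div_cancel _ hmodd.pos
    have hmS : n ^ m ∈ (S : Subgroup G) := by
      have h3 : n ^ m ∈ Subgroup.zpowers (n ^ m) ⊓ Subgroup.normalizer ((S : Subgroup G) : Set G) :=
        ⟨Subgroup.mem_zpowers _, pow_mem hn m⟩
      exact ((hp.inf_normalizer_sylow S).le h3).2
    obtain ⟨j, rfl⟩ := hmodd
    rw [← hS] at hmS
    obtain ⟨c, hc⟩ := hmS
    have h := hodd j
    rw [← hc, ← map_inv, ← map_mul, ← map_mul, (hcen c).2.1, mul_inv_cancel_right] at h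
    exact absurd (hψ h) (by decide +kernel)
  have hfuse : ∀ x y : M, (∀ c : M, c * x = x * c) → (∀ c : M, c * y = y * c) → IsConj (ψ x) (ψ y) →
      ∃ n ∈ Subgroup.normalizer ((S : Subgroup G) : Set G), n * ψ x * n⁻¹ = ψ y := by
    intro x y hx hy hxy
    obtain ⟨g, hg⟩ := isConj_iff.1 hxy
    obtain ⟨n, hn, hne⟩ := S.conj_eq_normalizer_conj_of_mem_centralizer (ψ x) g⁻¹ (hC x hx)
      (by rw [inv_inv, hg]; exact hC y hy)
    rw [inv_inv, hg] at hne
    exact ⟨n⁻¹, Subgroup.inv_mem _ hn, by rw [inv_inv]; exact hne.symm⟩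
  refine ⟨fun h => ?_, fun h => ?_, fun h => ?_⟩
  · obtain ⟨n, hn, hne⟩ := hfuse _ _ (fun c => (hcen c).1) (fun c => (hcen c).2.1) h
    rw [(hfix n hn).1] at hne
    exact absurd (hψ hne) (by decide +kernel)
  · obtain ⟨n, hn, hne⟩ := hfuse _ _ (fun c => (hcen c).1) (fun c => (hcen c).2.2) h
    rw [(hfix n hn).1] at hne
    exact absurd (hψ hne) (by decide +kernel)
  · obtain ⟨n, hn, hne⟩ := hfuse _ _ (fun c => (hcen c).2.1) (fun c => (hcen c).2.2) h
    exact (hfix n hn).2 hne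

/-- Thompson transfer: a non-square central involution is fused to a reflection outside every kernel. -/
theorem exists_reflection [IsSimpleGroup G] (hG : ¬ IsMulCommutative G) (β γ : ZMod 2) {c : M}
    (hc : c = aM ∨ c = aM * zM) :
    ∃ e p : ZMod 2, lin β γ (ref e p) = 1 ∧ IsConj (ψ c) (ψ (ref e p)) := by

  by_contra hcon
  push Not at hcon
  have hc2 : orderOf (ψ c) = 2 := (order_two_iff S ψ hψ hS c).2 (by rcases hc with rfl | rfl <;> decide +kernel)
  obtain ⟨hza, hzaz, -⟩ := not_isConj_centre S ψ hψ hS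
  have hidx : (linHom β γ).ker.index = 2 := by
    rw [Subgroup.index_ker, MonoidHom.range_eq_top.2 ?_, Subgroup.card_top, Nat.card_eq_fintype_card]
    · rfl
    · intro w
      have hw : w = 1 ∨ w = Multiplicative.ofAdd (1 : ZMod 2) := by revert w; decide
      rcases hw with rfl | rfl
      · exact ⟨1, map_one _⟩
      · exact ⟨aM, (by decide +kernel : ∀ β γ : ZMod 2, lin β γ aM = Multiplicative.ofAdd 1) β γ⟩
  obtain ⟨N, hN, hNi, -⟩ := TransferThompson.thompson_transfer S ((linHom β γ).ker.map ψ)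
    (hS ▸ Subgroup.map_le_range ψ _) (by
      rw [← hS, MonoidHom.range_eq_map, Subgroup.relIndex_map_map_of_injective _ _ hψ,
        Subgroup.relIndex_top_right, hidx]) hc2 (hS ▸ ⟨c, rfl⟩) (by
      rintro g ⟨w, hw, hwe⟩
      have hw2 : orderOf (ψ w) = 2 := by rw [hwe]; exact (Cfsg.Agent.S3279.order_conj g (ψ c)).trans hc2
      have hcw : IsConj (ψ c) (ψ w) := isConj_iff.2 ⟨g, hwe.symm⟩
      have key : ∀ w : M, w * w = 1 ∧ w ≠ 1 →
          w = zM ∨ w = aM ∨ w = aM * zM ∨ ∃ e p : ZMod 2, w = ref e p ∨ w = ref e p * zM := by decide +kernel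
      have ha1 : linHom β γ aM ≠ 1 := (by decide +kernel : ∀ β γ : ZMod 2, lin β γ aM ≠ 1) β γ
      have hz1 : linHom β γ zM = 1 := (by decide +kernel : ∀ β γ : ZMod 2, lin β γ zM = 1) β γ
      rcases key w ((order_two_iff S ψ hψ hS w).1 hw2) with rfl | rfl | rfl | ⟨e, p, rfl | rfl⟩
      · rcases hc with rfl | rfl
        exacts [hza hcw.symm, hzaz hcw.symm]
      · exact ha1 hw
      · have h' : linHom β γ (aM * zM) = 1 := hw
        rw [map_mul, hz1, mul_one] at h'
        exact ha1 h'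
      · exact hcon e p hw hcw
      · refine hcon e p ?_ (hcw.trans ?_)
        · have hz : linHom β γ zM = 1 := (by decide +kernel : ∀ β γ : ZMod 2, lin β γ zM = 1) β γ
          have h' : linHom β γ (ref e p * zM) = 1 := hw
          rwa [map_mul, hz, mul_one] at h'
        · refine isConj_iff.2 ⟨ψ (1, r 1), ?_⟩
          rw [← map_inv, ← map_mul, ← map_mul]
          congr 1
          exact (by decide +kernel : ∀ e p : ZMod 2,
            (1, r 1) * (ref e p * zM) * ((1, r 1) : M)⁻¹ = ref e p) e p)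
  rcases hN.eq_bot_or_eq_top with h | h
  · apply hG
    rw [h, Subgroup.index_bot] at hNi
    haveI : IsCyclic G := isCyclic_of_prime_card (p := 2) hNi
    exact IsCyclic.isMulCommutative
  · rw [h, Subgroup.index_top] at hNi
    omega

end

/-- A finite group whose Sylow 2-subgroups are isomorphic to the direct product of a group of order 2 and the dihedral group of order 8 is not a non-abelian simple group. -/
theorem result {G : Type*} [Group G] [Finite G] (S : Sylow 2 G) (hS : Nonempty (↥(S : Subgroup G) ≃* Multiplicative (ZMod 2) × DihedralGroup 4))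
    [IsSimpleGroup G] (hG : ¬ IsMulCommutative G) : False := by
  classical

  obtain ⟨e⟩ := hS
  set ψ : M →* G := (S : Subgroup G).subtype.comp e.symm.toMonoidHom with hψdef
  have hψ : Function.Injective ψ := (Subgroup.subtype_injective _).comp e.symm.injective
  have hR : ψ.range = (S : Subgroup G) := by
    rw [hψdef, MonoidHom.range_comp, MonoidHom.range_eq_top.2 e.symm.surjective, ← MonoidHom.range_eq_map,
      Subgroup.range_subtype]
  obtain ⟨hza, hzaz, haaz⟩ := not_isConj_centre S ψ hψ hR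
  obtain ⟨ε, p, -, hap⟩ := exists_reflection S ψ hψ hR hG 0 0 (c := aM) (Or.inl rfl)
  -- move the reflection to the central involution inside the Sylow subgroup
  set s := ref ε p with hs
  obtain ⟨g, hg⟩ := isConj_iff.1 hap.symm
  let E : Subgroup M := Subgroup.closure {zM, aM, s}
  have hEs : ∀ x ∈ E, x * s = s * x := by
    intro x hx
    have h : E ≤ Subgroup.centralizer ({s} : Set M) := by
      rw [Subgroup.closure_le]
      intro y hy
      simp only [SetLike.mem_coe, Subgroup.mem_centralizer_singleton_iff]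
      simp only [Set.mem_insert_iff, Set.mem_singleton_iff] at hy
      rcases hy with rfl | rfl | rfl
      · exact (by decide +kernel : ∀ e p : ZMod 2, zM * ref e p = ref e p * zM) ε p
      · exact (by decide +kernel : ∀ e p : ZMod 2, aM * ref e p = ref e p * aM) ε p
      · rfl
    exact Subgroup.mem_centralizer_singleton_iff.1 (h hx)
  set C := Subgroup.centralizer ({ψ aM} : Set G) with hC
  have hSC : (S : Subgroup G) ≤ C := by
    rw [← hR]
    rintro _ ⟨x, rfl⟩
    refine Subgroup.mem_centralizer_singleton_iff.2 ?_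
    rw [← map_mul, ← map_mul, (by decide +kernel : ∀ x : M, x * aM = aM * x) x]
  set E' := (E.map ψ).map (MulAut.conj g).toMonoidHom with hE'
  have hE'C : E' ≤ C := by
    rintro _ ⟨_, ⟨x, hx, rfl⟩, rfl⟩
    refine Subgroup.mem_centralizer_singleton_iff.2 ?_
    rw [← hg, MulEquiv.coe_toMonoidHom, MulAut.conj_apply]
    rw [show g * ψ x * g⁻¹ * (g * ψ s * g⁻¹) = g * (ψ x * ψ s) * g⁻¹ by group,
      show g * ψ s * g⁻¹ * (g * ψ x * g⁻¹) = g * (ψ s * ψ x) * g⁻¹ by group,
      ← map_mul, ← map_mul, hEs x hx]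
  have hE'p : IsPGroup 2 E' := by
    refine IsPGroup.map ?_ _
    exact S.isPGroup'.to_le (hR ▸ Subgroup.map_le_range ψ E)
  obtain ⟨T, hT⟩ := (hE'p.comap_subtype (K := C)).exists_le_sylow
  obtain ⟨h, hh⟩ := MulAction.exists_smul_eq C T (S.subtype hSC)
  have hmove : ∀ x ∈ E, ∃ y : M, ψ y = ((h : G) * g) * ψ x * ((h : G) * g)⁻¹ := by
    intro x hx
    have hx' : g * ψ x * g⁻¹ ∈ E' := ⟨ψ x, ⟨x, hx, rfl⟩, rfl⟩
    have h1 : h * ⟨_, hE'C hx'⟩ * h⁻¹ ∈ ((S.subtype hSC : Sylow 2 C) : Subgroup C) := by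
      rw [← hh, Sylow.coe_subgroup_smul]
      exact ⟨⟨_, hE'C hx'⟩, hT (Subgroup.mem_subgroupOf.2 hx'), rfl⟩
    rw [Sylow.coe_subtype, Subgroup.mem_subgroupOf, ← hR] at h1
    obtain ⟨y, hy⟩ := h1
    refine ⟨y, hy.trans ?_⟩
    simp [mul_assoc]
  set k := (h : G) * g with hk
  obtain ⟨z', hz'⟩ := hmove zM (Subgroup.subset_closure (by simp))
  obtain ⟨a', ha'⟩ := hmove aM (Subgroup.subset_closure (by simp))
  obtain ⟨s', hs'⟩ := hmove s (Subgroup.subset_closure (by simp))
  have hs'a : s' = aM := hψ (by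
    rw [hs', show k * ψ s * k⁻¹ = (h : G) * (g * ψ s * g⁻¹) * (h : G)⁻¹ by rw [hk]; group, hg,
      Subgroup.mem_centralizer_singleton_iff.1 h.2, mul_inv_cancel_right])
  have hprod : ψ (a' * z') = k * ψ (aM * zM) * k⁻¹ := by rw [map_mul, hz', ha', map_mul]; group
  have haa : IsConj (ψ aM) (ψ a') := isConj_iff.2 ⟨k, ha'.symm⟩
  have hzz : IsConj (ψ zM) (ψ z') := isConj_iff.2 ⟨k, hz'.symm⟩
  have hpp : IsConj (ψ (aM * zM)) (ψ (a' * z')) := isConj_iff.2 ⟨k, hprod.symm⟩
  have hord : ∀ {x y : M}, IsConj (ψ x) (ψ y) → x * x = 1 ∧ x ≠ 1 → y * y = 1 ∧ y ≠ 1 := by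
    intro x y hxy hx
    refine (order_two_iff S ψ hψ hR y).1 ?_
    obtain ⟨c, hc⟩ := isConj_iff.1 hxy
    rw [← hc, Cfsg.Agent.S3279.order_conj]
    exact (order_two_iff S ψ hψ hR x).2 hx
  have hz'2 := hord hzz (by decide +kernel)
  have ha'2 := hord haa (by decide +kernel)
  have hclass : ∀ x : M, x * x = 1 ∧ x ≠ 1 →
      x = zM ∨ x = aM ∨ x = aM * zM ∨ ∃ e q : ZMod 2, x = ref e q ∨ x = ref e q * zM := by decide +kernel
  -- covers
  have hrz : ∀ e q : ZMod 2, IsConj (ψ (ref e q * zM)) (ψ (ref e q)) := fun e q => by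
    refine isConj_iff.2 ⟨ψ (1, r 1), ?_⟩
    rw [← map_inv, ← map_mul, ← map_mul]
    congr 1
    exact (by decide +kernel : ∀ e p : ZMod 2,
      (1, r 1) * (ref e p * zM) * ((1, r 1) : M)⁻¹ = ref e p) e q
  let A : ZMod 2 → ZMod 2 → Prop := fun e q => IsConj (ψ aM) (ψ (ref e q))
  let B : ZMod 2 → ZMod 2 → Prop := fun e q => IsConj (ψ (aM * zM)) (ψ (ref e q))
  have hdisj : ∀ e q, A e q → ¬ B e q := fun e q h1 h2 => haaz (h1.trans h2.symm)
  have hall : ∀ e q, A e q ∨ B e q := by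
    intro e q
    by_contra hcon
    push Not at hcon
    have hA : ∀ β γ, ∃ e p, lin β γ (ref e p) = 1 ∧ A e p := fun β γ =>
      exists_reflection S ψ hψ hR hG β γ (Or.inl rfl)
    have hB : ∀ β γ, ∃ e p, lin β γ (ref e p) = 1 ∧ B e p := fun β γ =>
      exists_reflection S ψ hψ hR hG β γ (Or.inr rfl)
    have key : ∀ e q : ZMod 2, ∃ β γ : ZMod 2, lin β γ (ref e q) = 1 ∧ ∀ e1 p1,
        lin β γ (ref e1 p1) = 1 → (e1 = e ∧ p1 = q) ∨ (e1 = e + 1 ∧ p1 = q + 1) ∨ (e1 = e + 1 ∧ p1 = q + 1) := by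
      decide +kernel
    obtain ⟨β, γ, -, hk'⟩ := key e q
    obtain ⟨e1, p1, h1, hA1⟩ := hA β γ
    obtain ⟨e2, p2, h2, hB2⟩ := hB β γ
    rcases hk' e1 p1 h1 with ⟨rfl, rfl⟩ | ⟨rfl, rfl⟩ | ⟨rfl, rfl⟩
    · exact hcon.1 hA1
    all_goals
      rcases hk' e2 p2 h2 with ⟨rfl, rfl⟩ | ⟨rfl, rfl⟩ | ⟨rfl, rfl⟩
      · exact hcon.2 hB2
      all_goals exact hdisj _ _ hA1 hB2
  have hz'eq : z' = zM := by
    rcases hclass z' hz'2 with h1 | h1 | h1 | ⟨e, q, h1⟩
    · exact h1
    · exact absurd (h1 ▸ hzz) hza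
    · exact absurd (h1 ▸ hzz) hzaz
    · exfalso
      have hzr : IsConj (ψ zM) (ψ (ref e q)) := by
        rcases h1 with h1 | h1
        exacts [h1 ▸ hzz, (h1 ▸ hzz).trans (hrz e q)]
      rcases hall e q with h2 | h2
      exacts [hza (hzr.trans h2.symm), hzaz (hzr.trans h2.symm)]
  subst hz'eq
  rcases hclass a' ha'2 with h1 | h1 | h1 | ⟨e, q, h1⟩
  · exact hza (h1 ▸ haa).symm
  · -- two preimages of the central involution
    have : ψ aM = ψ s := by
      have h2 : k * ψ aM * k⁻¹ = k * ψ s * k⁻¹ := by rw [← ha', ← hs', hs'a, h1]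
      exact mul_left_cancel (mul_right_cancel h2)
    exact absurd (hψ this) ((by decide +kernel : ∀ e p : ZMod 2, aM ≠ ref e p) ε p)
  · exact haaz (h1 ▸ haa)
  · rcases h1 with rfl | rfl
    · exact haaz (haa.trans ((hrz e q).symm.trans hpp.symm))
    · refine haaz ((haa.trans (hrz e q)).trans ?_)
      rw [show ref e q * zM * zM = ref e q from
        (by decide +kernel : ∀ e p : ZMod 2, ref e p * zM * zM = ref e p) e q] at hpp
      exact hpp.symm

end Cfsg.Agent.S3309
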