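import Cfsg.Statements.S3312
import Cfsg.Agent.Lib.WeightedZStar38
-- non-simplicity by weak closure of a central 2-subgroup

set_option autoImplicit false
open Cfsg

namespace Cfsg.Agent.S3312

universe u

variable {G : Type u} [Group G] [Finite G]

omit [Finite G] in
theorem conj_mem_map {W : Subgroup G} {a : G} (ha : a ∈ W) (g : G) :
    g * a * g⁻¹ ∈ W.map (MulAut.conj g).toMonoidHom := ⟨a, ha, rfl⟩

/-- In a `2`-group containing `W` every conjugate of an element of `W` lies in `W`. -/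
theorem mem_of_conj (T : Sylow 2 G) (W : Subgroup G)
    (hWZ : W ≤ (T : Subgroup G) ⊓ Subgroup.centralizer ((T : Subgroup G) : Set G))
    (hwc : Cfsg.IsWeaklyClosed W (T : Subgroup G))
    {R : Subgroup G} (hR : IsPGroup 2 R) (hWR : W ≤ R) :
    (∀ a ∈ W, ∀ r ∈ R, Commute a r) ∧
    (∀ a ∈ W, ∀ g : G, g * a * g⁻¹ ∈ R → g * a * g⁻¹ ∈ W) := by
  have := Fact.mk Nat.prime_two
  -- conjugation into `T`
  have hTconj : ∀ S : Subgroup G, IsPGroup 2 S → ∃ c : G, ∀ s ∈ S, c * s * c⁻¹ ∈ (T : Subgroup G) := by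
    intro S hS
    obtain ⟨P, hP⟩ := hS.exists_le_sylow
    obtain ⟨c, hc⟩ := MulAction.exists_smul_eq G P T
    refine ⟨c, fun s hs => ?_⟩
    rw [← hc]
    exact ⟨s, hP hs, rfl⟩
  have hwcl : ∀ c : G, (∀ a ∈ W, c * a * c⁻¹ ∈ (T : Subgroup G)) → W.map (MulAut.conj c).toMonoidHom = W :=
    fun c hc => hwc.2 c (by rintro _ ⟨a, ha, rfl⟩; exact hc a ha)
  constructor
  · intro a ha r hr
    obtain ⟨c, hc⟩ := hTconj R hR
    have hmap := hwcl c fun a ha => hc a (hWR ha)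
    have h1 : c * a * c⁻¹ ∈ W := by rw [← hmap]; exact conj_mem_map ha c
    have h2 : (c * r * c⁻¹) * (c * a * c⁻¹) = (c * a * c⁻¹) * (c * r * c⁻¹) :=
      Subgroup.mem_centralizer_iff.1 (hWZ h1).2 _ (hc r hr)
    have h3 : c * (r * a) * c⁻¹ = c * (a * r) * c⁻¹ := by
      calc c * (r * a) * c⁻¹ = (c * r * c⁻¹) * (c * a * c⁻¹) := by group
        _ = (c * a * c⁻¹) * (c * r * c⁻¹) := h2
        _ = c * (a * r) * c⁻¹ := by group
    exact (mul_left_cancel (mul_right_cancel h3)).symm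
  · intro a ha g hgR
    obtain ⟨c, hc⟩ := hTconj R hR
    have hmap := hwcl c fun a ha => hc a (hWR ha)
    -- the element in `T`
    set b := (c * g) * a * (c * g)⁻¹ with hb
    have hbT : b ∈ (T : Subgroup G) := by
      have := hc _ hgR
      rwa [show c * (g * a * g⁻¹) * c⁻¹ = b by rw [hb]; group] at this
    set C := Subgroup.centralizer ({b} : Set G) with hC
    set W' := W.map (MulAut.conj (c * g)).toMonoidHom with hW'
    have hWC : W ≤ C := fun v hv => Subgroup.mem_centralizer_singleton_iff.2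
      (Subgroup.mem_centralizer_iff.1 (hWZ hv).2 b hbT).symm
    have hW'C : W' ≤ C := by
      rintro _ ⟨v, hv, rfl⟩
      refine Subgroup.mem_centralizer_singleton_iff.2 ?_
      have hva : a * v = v * a := Subgroup.mem_centralizer_iff.1 (hWZ hv).2 a (hWZ ha).1
      show (c * g) * v * (c * g)⁻¹ * b = b * ((c * g) * v * (c * g)⁻¹)
      calc (c * g) * v * (c * g)⁻¹ * b = (c * g) * (v * a) * (c * g)⁻¹ := by rw [hb]; group
        _ = (c * g) * (a * v) * (c * g)⁻¹ := by rw [hva]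
        _ = b * ((c * g) * v * (c * g)⁻¹) := by rw [hb]; group
    have hWp : IsPGroup 2 W := T.isPGroup'.to_le (hWZ.trans inf_le_left)
    obtain ⟨P₁, hP₁⟩ := ((hWp.of_equiv (Subgroup.subgroupOfEquivOfLe hWC).symm)).exists_le_sylow
    obtain ⟨P₂, hP₂⟩ := (((hWp.map _).of_equiv (Subgroup.subgroupOfEquivOfLe hW'C).symm)).exists_le_sylow
    obtain ⟨h, hh⟩ := MulAction.exists_smul_eq C P₂ P₁
    obtain ⟨d, hd⟩ := hTconj _ (P₁.isPGroup'.map C.subtype)
    have hd1 := hwcl d fun v hv => hd v ⟨⟨v, hWC hv⟩, hP₁ hv, rfl⟩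
    have hd2 := hwcl (d * (h : G) * (c * g)) fun v hv => by
      have hmem : (c * g) * v * (c * g)⁻¹ ∈ W' := conj_mem_map hv _
      have h1 : h * ⟨_, hW'C hmem⟩ * h⁻¹ ∈ (P₁ : Subgroup C) := by
        rw [← hh]; exact ⟨_, hP₂ hmem, rfl⟩
      have h2 := hd _ ⟨_, h1, rfl⟩
      simp only [Subgroup.coe_subtype, Subgroup.coe_mul, Subgroup.coe_inv] at h2
      rwa [show d * ((h : G) * ((c * g) * v * (c * g)⁻¹) * (h : G)⁻¹) * d⁻¹ =
        (d * (h : G) * (c * g)) * v * (d * (h : G) * (c * g))⁻¹ by group] at h2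
    have h3 : d * b * d⁻¹ ∈ W := by
      have h4 := conj_mem_map (W := W) ha (d * (h : G) * (c * g))
      rw [hd2] at h4
      have hhb : (h : G) * b * (h : G)⁻¹ = b := by
        rw [Subgroup.mem_centralizer_singleton_iff.1 h.2, mul_inv_cancel_right]
      rwa [show (d * (h : G) * (c * g)) * a * (d * (h : G) * (c * g))⁻¹ =
        d * ((h : G) * b * (h : G)⁻¹) * d⁻¹ by rw [hb]; group, hhb] at h4
    have h5 : b ∈ W := by
      rw [← hd1] at h3
      obtain ⟨v, hv, hveq⟩ := h3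
      simp only [MulEquiv.coe_toMonoidHom, MulAut.conj_apply] at hveq
      exact mul_left_cancel (mul_right_cancel hveq) ▸ hv
    rw [← hmap] at h5
    obtain ⟨v, hv, hveq⟩ := h5
    simp only [MulEquiv.coe_toMonoidHom, MulAut.conj_apply] at hveq
    have : v = g * a * g⁻¹ := by
      rw [show b = c * (g * a * g⁻¹) * c⁻¹ by rw [hb]; group] at hveq
      exact mul_left_cancel (mul_right_cancel hveq)
    exact this ▸ hv

theorem main (T : Sylow 2 G) (W : Subgroup G) (hW1 : W ≠ ⊥)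
    (hWZ : W ≤ (T : Subgroup G) ⊓ Subgroup.centralizer ((T : Subgroup G) : Set G))
    (hwc : Cfsg.IsWeaklyClosed W (T : Subgroup G)) (t : G) (ht : orderOf t = 2)
    (htT : t ∈ (T : Subgroup G)) (htW : t ∉ W)
    (hcos : ∀ w ∈ W, orderOf (w * t) = 2 →
      W.subgroupOf (Subgroup.centralizer ({w * t} : Set G)) ≤
        Cfsg.pPrimePCore 2 ↥(Subgroup.centralizer ({w * t} : Set G))) :
    ¬ IsSimpleGroup G := by
  classical
  intro hs
  have := Fact.mk Nat.prime_two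
  have := Fintype.ofFinite G
  obtain ⟨M, hM⟩ := ZStarCount.exists_isPModular 2 Nat.prime_two
  have hWp : IsPGroup 2 W := T.isPGroup'.to_le (hWZ.trans inf_le_left)
  have : Nontrivial W := (Subgroup.nontrivial_iff_ne_bot W).2 hW1
  obtain ⟨n, hn, hcard⟩ := hWp.nontrivial_iff_card.1 this
  obtain ⟨w, hw⟩ := exists_prime_orderOf_dvd_card' (G := W) 2 (hcard ▸ dvd_pow_self 2 hn.ne')
  rw [← Subgroup.orderOf_coe] at hw
  have hw2 := IsolatedInv.sq_of_orderOf_two hw
  set X : Finset G := Finset.univ.filter (fun x => ∃ v ∈ W, x = v * t ∧ orderOf x = 2) with hX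
  have hXmem : ∀ {x : G}, x ∈ X ↔ ∃ v ∈ W, x = v * t ∧ orderOf x = 2 := fun {x} => by simp [hX]
  have hmul : ∀ x ∈ X, ∀ v : G, IsConj (w : G) v → ∃ z ∈ X, ∀ χ : IrrCharacter G,
      χ ∈ principalBlock M G → (χ : G → ℂ) (v * x) = (χ : G → ℂ) z := by
    intro x hx v hv
    obtain ⟨v₀, hv₀, hxe, hxo⟩ := hXmem.1 hx
    obtain ⟨g, rfl⟩ := isConj_iff.1 hv
    set v := g * (w : G) * g⁻¹ with hvdef
    have hv2 : v * v = 1 := IsolatedInv.conj_sq hw g
    have hx2 := IsolatedInv.sq_of_orderOf_two hxo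
    have hxT : x ∈ (T : Subgroup G) := hxe ▸ mul_mem (hWZ hv₀).1 htT
    have hxW : x ∉ W := fun h => htW (by rw [hxe] at h; exact (mul_mem_cancel_left hv₀).1 h)
    have heven : Even (orderOf (v * x)) := by
      by_contra hodd
      obtain ⟨c, -, hc⟩ := IsolatedInv.exists_conj_of_odd hv2 hx2 (Nat.not_even_iff_odd.1 hodd)
      refine hxW ?_
      have h1 := (mem_of_conj T W hWZ hwc T.isPGroup' (hWZ.trans inf_le_left)).2 w w.2 (c * g)
        (by rw [show (c * g) * (w : G) * (c * g)⁻¹ = c * v * c⁻¹ by rw [hvdef]; group, hc]; exact hxT)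
      rwa [show (c * g) * (w : G) * (c * g)⁻¹ = c * v * c⁻¹ by rw [hvdef]; group, hc] at h1
    -- the order of `v * x` is twice an odd number
    set d := v * x with hd
    obtain ⟨a, m, hm, hdo⟩ := Nat.exists_eq_two_pow_mul_odd (orderOf_pos d).ne'
    have ha : a ≠ 0 := by
      rintro rfl
      rw [pow_zero, one_mul] at hdo
      exact Nat.not_even_iff_odd.2 hm (hdo ▸ heven)
    obtain ⟨i, hi⟩ := hm
    set v' := d ^ i * v * (d ^ i)⁻¹ with hv'
    have hdx : d * x = v := by rw [hd, mul_assoc, hx2, mul_one]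
    have hv'e : v' = d ^ m * x := by
      have h1 : v * d ^ i * v⁻¹ = (d ^ i)⁻¹ := IsolatedInv.conj_mul_pow hv2 hx2 i
      have h2 : v * (d ^ i)⁻¹ = d ^ i * v := by
        calc v * (d ^ i)⁻¹ = (v * d ^ i * v⁻¹)⁻¹ * v := by group
          _ = d ^ i * v := by rw [h1, inv_inv]
      rw [hv', mul_assoc, h2, ← mul_assoc, ← pow_add, hi, ← two_mul, pow_succ, mul_assoc, hdx]
    have hxinv : ∀ j : ℕ, x * d ^ j * x⁻¹ = (d ^ j)⁻¹ := by
      intro j
      have h1 := IsolatedInv.conj_mul_pow hx2 hv2 j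
      rw [show x * v = d⁻¹ by rw [hd, mul_inv_rev, IsolatedInv.inv_eq_self_of_sq hx2,
        IsolatedInv.inv_eq_self_of_sq hv2], inv_pow, inv_inv] at h1
      calc x * d ^ j * x⁻¹ = (x * (d ^ j)⁻¹ * x⁻¹)⁻¹ := by group
        _ = (d ^ j)⁻¹ := by rw [h1]
    have hR : IsPGroup 2 ↥(Subgroup.zpowers x ⊔ Subgroup.zpowers (d ^ m)) := by
      refine IsPGroup.to_sup_of_normal_right' ?_ ?_ ?_
      · exact IsPGroup.of_card (n := 1) (by rw [Nat.card_zpowers, hxo, pow_one])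
      · refine IsPGroup.of_card (n := a) ?_
        rw [Nat.card_zpowers, orderOf_pow' _ (by omega), hdo, Nat.gcd_eq_right (dvd_mul_left m _),
          Nat.mul_div_cancel _ (by omega)]
      · rw [Subgroup.zpowers_le, Subgroup.mem_normalizer_iff]
        have hneg : ∀ k : ℤ, x * (d ^ m) ^ k * x⁻¹ = (d ^ m) ^ (-k) := fun k => by
          rw [← conj_zpow, hxinv, inv_zpow, zpow_neg]
        intro y
        refine ⟨?_, fun hy => ?_⟩
        · intro hy
          obtain ⟨k, rfl⟩ := Subgroup.mem_zpowers_iff.1 hy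
          exact Subgroup.mem_zpowers_iff.2 ⟨-k, (hneg k).symm⟩
        · obtain ⟨k, hk⟩ := Subgroup.mem_zpowers_iff.1 hy
          refine Subgroup.mem_zpowers_iff.2 ⟨-k, ?_⟩
          have := hneg (-k)
          rw [neg_neg, hk] at this
          exact mul_left_cancel (mul_right_cancel this)
    have hv'conj : v' = (d ^ i * g) * (w : G) * (d ^ i * g)⁻¹ := by rw [hv', hvdef]; group
    have hcomm : Commute v' x := by
      obtain ⟨P, hP⟩ := hR.exists_le_sylow
      obtain ⟨c, hc⟩ := MulAction.exists_smul_eq G P T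
      have hcT : ∀ y ∈ (P : Subgroup G), c * y * c⁻¹ ∈ (T : Subgroup G) := fun y hy => by
        rw [← hc]; exact ⟨y, hy, rfl⟩
      have hxR : x ∈ Subgroup.zpowers x ⊔ Subgroup.zpowers (d ^ m) :=
        Subgroup.mem_sup_left (Subgroup.mem_zpowers x)
      have hv'R : v' ∈ Subgroup.zpowers x ⊔ Subgroup.zpowers (d ^ m) :=
        hv'e ▸ mul_mem (Subgroup.mem_sup_right (Subgroup.mem_zpowers _)) hxR
      have h1 : c * v' * c⁻¹ ∈ W := by
        have := (mem_of_conj T W hWZ hwc T.isPGroup' (hWZ.trans inf_le_left)).2 w w.2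
          (c * (d ^ i * g))
        rw [show (c * (d ^ i * g)) * (w : G) * (c * (d ^ i * g))⁻¹ = c * v' * c⁻¹ by
          rw [hv'conj]; group] at this
        exact this (hcT _ (hP hv'R))
      exact Commute.conj_iff c |>.1 ((Subgroup.mem_centralizer_iff.1 (hWZ h1).2 _ (hcT _ (hP hxR))).symm)
    -- a conjugate in `W`
    set u := d ^ m with hu
    have huv : v' * x = u := by rw [hv'e, mul_assoc, hx2, mul_one]
    have hv'2 : v' * v' = 1 := by rw [hv'conj]; exact IsolatedInv.conj_sq hw _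
    have hu2 : u ^ 2 = 1 := by
      rw [← huv, pow_two, hcomm.symm.mul_mul_mul_comm, hv'2, hx2, one_mul]
    have hdo2 : orderOf d = 2 * m := by
      have h1 : orderOf d ∣ m * 2 := orderOf_dvd_of_pow_eq_one (by rw [pow_mul]; exact hu2)
      rw [hdo, mul_comm m 2] at h1
      have h2 : 2 ^ a ∣ 2 ^ 1 := (pow_one 2).symm ▸ Nat.dvd_of_mul_dvd_mul_right (by omega) h1
      have : a ≤ 1 := (Nat.pow_dvd_pow_iff_le_right one_lt_two).1 h2
      rw [hdo, show a = 1 by omega, pow_one]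
    have huo : orderOf u = 2 := by
      rw [hu, orderOf_pow' _ (by omega), hdo2, Nat.gcd_eq_right (dvd_mul_left m 2),
        Nat.mul_div_cancel _ (by omega)]
    set Cx := Subgroup.centralizer ({x} : Set G) with hCx
    have hWCx : W ≤ Cx := fun y hy => Subgroup.mem_centralizer_singleton_iff.2
      (Subgroup.mem_centralizer_iff.1 (hWZ hy).2 x hxT).symm
    have hv'Cx : v' ∈ Cx := Subgroup.mem_centralizer_singleton_iff.2 hcomm.eq
    obtain ⟨P₁, hP₁⟩ := ((hWp.of_equiv (Subgroup.subgroupOfEquivOfLe hWCx).symm)).exists_le_sylow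
    have hzp : IsPGroup 2 ↥(Subgroup.zpowers (⟨v', hv'Cx⟩ : Cx)) :=
      IsPGroup.of_card (n := 1) (by
        rw [Nat.card_zpowers, ← Subgroup.orderOf_coe, pow_one]
        show orderOf v' = 2
        rw [hv'conj, ZStarBasic.orderOf_conj_eq, hw])
    obtain ⟨P₂, hP₂⟩ := hzp.exists_le_sylow
    obtain ⟨h, hh⟩ := MulAction.exists_smul_eq Cx P₂ P₁
    have hw0 : (h : G) * v' * (h : G)⁻¹ ∈ W := by
      have h1 : h * ⟨v', hv'Cx⟩ * h⁻¹ ∈ (P₁ : Subgroup Cx) := by
        rw [← hh]; exact ⟨_, hP₂ (Subgroup.mem_zpowers _), rfl⟩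
      have h2 := (mem_of_conj T W hWZ hwc (P₁.isPGroup'.map Cx.subtype)
        (fun y hy => ⟨⟨y, hWCx hy⟩, hP₁ hy, rfl⟩)).2 w w.2 ((h : G) * (d ^ i * g))
      rw [show ((h : G) * (d ^ i * g)) * (w : G) * ((h : G) * (d ^ i * g))⁻¹ =
        (h : G) * v' * (h : G)⁻¹ by rw [hv'conj]; group] at h2
      exact h2 ⟨_, h1, rfl⟩
    have hhx : (h : G) * x * (h : G)⁻¹ = x := by
      rw [Subgroup.mem_centralizer_singleton_iff.1 h.2, mul_inv_cancel_right]
    set z := (h : G) * u * (h : G)⁻¹ with hz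
    have hze : z = ((h : G) * v' * (h : G)⁻¹) * x := by
      conv_rhs => arg 2; rw [← hhx]
      rw [hz, ← huv]; group
    have hzo : orderOf z = 2 := by rw [hz, ZStarBasic.orderOf_conj_eq, huo]
    have hzW : z = ((h : G) * v' * (h : G)⁻¹ * v₀) * t := by rw [hze, mul_assoc _ v₀, ← hxe]
    refine ⟨z, hXmem.2 ⟨_, mul_mem hw0 hv₀, hzW, hzo⟩, fun χ hχ => ?_⟩
    -- inside the centralizer of `z`
    set C := Subgroup.centralizer ({z} : Set G) with hC
    have hWC : W ≤ C := fun y hy => Subgroup.mem_centralizer_singleton_iff.2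
      (Subgroup.mem_centralizer_iff.1 (hWZ hy).2 z (hze ▸ mul_mem (hWZ hw0).1 hxT)).symm
    have hxC : x ∈ C := Subgroup.mem_centralizer_singleton_iff.2 (by
      have hc2 : Commute x ((h : G) * v' * (h : G)⁻¹) :=
        Subgroup.mem_centralizer_iff.1 (hWZ hw0).2 x hxT
      rw [hze]
      exact (hc2.mul_right (Commute.refl x)).eq)
    set b := (h : G) * v * (h : G)⁻¹ with hb
    set e := b * x with he
    have hede : e = (h : G) * d * (h : G)⁻¹ := by
      rw [he, hd]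
      conv_lhs => arg 2; rw [← hhx]
      rw [hb]; group
    have hem : e ^ m = z := by rw [hede, conj_pow]
    have hbC : b ∈ C := Subgroup.mem_centralizer_singleton_iff.2 (by
      have h1 : v * u * v⁻¹ = u⁻¹ := IsolatedInv.conj_mul_pow hv2 hx2 m
      have hu3 : u * u = 1 := by rw [← pow_two]; exact hu2
      rw [IsolatedInv.inv_eq_self_of_sq hu3, mul_inv_eq_iff_eq_mul] at h1
      exact ((show Commute v u from h1).conj (h : G)).eq)
    set L := pPrimePCore 2 ↥C with hL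
    set O := pPrimeCore 2 ↥C with hO
    have hOn : O.Normal := HallCore.pPrimeCore_normal 2 _
    have hWL : W.subgroupOf C ≤ L := by
      have := hcos _ (mul_mem hw0 hv₀) (hzW ▸ hzo)
      rwa [← hzW] at this
    have hR : IsPGroup 2 ↥(((T : Subgroup G) ⊓ C).subgroupOf C) :=
      (T.isPGroup'.to_le inf_le_left).of_equiv (Subgroup.subgroupOfEquivOfLe inf_le_right).symm
    obtain ⟨P, hP⟩ := hR.exists_le_sylow
    have hWP : ∀ y (hy : y ∈ W), (⟨y, hWC hy⟩ : C) ∈ (P : Subgroup C) := fun y hy =>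
      hP ⟨(hWZ hy).1, hWC hy⟩
    have hxP : (⟨x, hxC⟩ : C) ∈ (P : Subgroup C) := hP ⟨hxT, hxC⟩
    have hmem := mem_of_conj T W hWZ hwc (P.isPGroup'.map C.subtype)
      (fun y hy => ⟨⟨y, hWC hy⟩, hWP y hy, rfl⟩)
    have hbconj : ∀ k : C, k * ⟨b, hbC⟩ * k⁻¹ ∈ (P : Subgroup C) →
        ((k * ⟨b, hbC⟩ * k⁻¹ : C) : G) ∈ W := by
      intro k hk
      have h2 := hmem.2 w w.2 ((k : G) * ((h : G) * g))
      rw [show ((k : G) * ((h : G) * g)) * (w : G) * ((k : G) * ((h : G) * g))⁻¹ =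
        ((k * ⟨b, hbC⟩ * k⁻¹ : C) : G) by
          simp only [Subgroup.coe_mul, Subgroup.coe_inv, hb, hvdef]; group] at h2
      exact h2 ⟨_, hk, rfl⟩
    have hbp : IsPGroup 2 ↥(Subgroup.zpowers (⟨b, hbC⟩ : C)) :=
      IsPGroup.of_card (n := 1) (by
        rw [Nat.card_zpowers, ← Subgroup.orderOf_coe, pow_one]
        show orderOf b = 2
        rw [hb, ZStarBasic.orderOf_conj_eq, hvdef, ZStarBasic.orderOf_conj_eq, hw])
    obtain ⟨Q, hQ⟩ := hbp.exists_le_sylow
    obtain ⟨k₀, hk₀⟩ := MulAction.exists_smul_eq C Q P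
    have hbL : (⟨b, hbC⟩ : C) ∈ L := by
      have h1 : k₀ * ⟨b, hbC⟩ * k₀⁻¹ ∈ L :=
        hWL (hbconj k₀ (by rw [← hk₀]; exact ⟨_, hQ (Subgroup.mem_zpowers _), rfl⟩))
      have hLn : L.Normal := (HallCore.pCore_normal 2 (↥C ⧸ O)).comap _
      have h2 := hLn.conj_mem _ h1 k₀⁻¹
      rwa [show k₀⁻¹ * (k₀ * (⟨b, hbC⟩ : C) * k₀⁻¹) * k₀⁻¹⁻¹ = ⟨b, hbC⟩ by group] at h2
    -- `L` lies in the product of the odd core and the Sylow subgroup
    set K := O ⊔ (P : Subgroup C) with hK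
    have hbK : (⟨b, hbC⟩ : C) ∈ K := by
      let P' := P.mapSurjective (QuotientGroup.mk'_surjective O)
      have h1 : QuotientGroup.mk' O ⟨b, hbC⟩ ∈ (P' : Subgroup (↥C ⧸ O)) :=
        HallCore.pCore_le_sylow P' hbL
      obtain ⟨q, hq, hqe⟩ := h1
      rw [QuotientGroup.mk'_eq_mk'] at hqe
      obtain ⟨o, ho, hoe⟩ := hqe
      rw [← hoe]
      exact mul_mem (Subgroup.mem_sup_right hq) (Subgroup.mem_sup_left ho)
    let PK := P.subtype (le_sup_right : (P : Subgroup C) ≤ K)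
    have hbKp : IsPGroup 2 ↥(Subgroup.zpowers (⟨_, hbK⟩ : K)) :=
      IsPGroup.of_card (n := 1) (by
        rw [Nat.card_zpowers, ← Subgroup.orderOf_coe, ← Subgroup.orderOf_coe, pow_one]
        show orderOf b = 2
        rw [hb, ZStarBasic.orderOf_conj_eq, hvdef, ZStarBasic.orderOf_conj_eq, hw])
    obtain ⟨Q', hQ'⟩ := hbKp.exists_le_sylow
    obtain ⟨k₁, hk₁⟩ := MulAction.exists_smul_eq K Q' PK
    have h1 : k₁ * ⟨_, hbK⟩ * k₁⁻¹ ∈ (PK : Subgroup K) := by
      rw [← hk₁]; exact ⟨_, hQ' (Subgroup.mem_zpowers _), rfl⟩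
    obtain ⟨o, ho, q, hq, hoq⟩ := Subgroup.mem_sup_of_normal_left.1 k₁.2
    have hw1W := hbconj (k₁ : C) h1
    -- in the quotient `b` and `x` commute
    set π := QuotientGroup.mk' O with hπ
    have hπo : π o = 1 := (QuotientGroup.eq_one_iff o).2 ho
    have hcomm2 : Commute (π ⟨b, hbC⟩) (π ⟨x, hxC⟩) := by
      set w₁ : C := ⟨_, hWC hw1W⟩ with hw₁
      have e1 : (k₁ : C)⁻¹ * w₁ * (k₁ : C) = (⟨b, hbC⟩ : C) := by
        show (k₁ : C)⁻¹ * ((k₁ : C) * ⟨b, hbC⟩ * (k₁ : C)⁻¹) * (k₁ : C) = _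
        group
      have e2 : Commute w₁ q :=
        Subtype.ext (hmem.1 _ hw1W q ⟨q, hq, rfl⟩).eq
      have e3 : Commute w₁ ⟨x, hxC⟩ :=
        Subtype.ext (hmem.1 _ hw1W x ⟨⟨x, hxC⟩, hxP, rfl⟩).eq
      have e4 : π ⟨b, hbC⟩ = π w₁ := by
        refine (congrArg π e1).symm.trans ?_
        rw [← hoq, map_mul, map_mul, map_inv, map_mul, hπo, one_mul, ← map_inv, ← map_mul,
          ← map_mul, mul_assoc, e2.eq, inv_mul_cancel_left]
      rw [e4]
      exact e3.map π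
    have heC : e ∈ C := mul_mem hbC hxC
    have he2 : (⟨e, heC⟩ : C) ^ 2 ∈ O := by
      rw [← QuotientGroup.eq_one_iff]
      show π ((⟨b, hbC⟩ * ⟨x, hxC⟩ : C) ^ 2) = 1
      rw [map_pow, map_mul, hcomm2.mul_pow, ← map_pow, ← map_pow,
        show (⟨b, hbC⟩ : C) ^ 2 = 1 from Subtype.ext (show b ^ 2 = 1 by
          rw [hb, conj_pow, pow_two, hv2, mul_one, mul_inv_cancel]),
        show (⟨x, hxC⟩ : C) ^ 2 = 1 from Subtype.ext (show x ^ 2 = 1 by rw [pow_two, hx2]),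
        map_one, one_mul]
    have heK : e ^ (m + 1) ∈ centralizerPPrimeCore 2 z := by
      refine ⟨(⟨e, heC⟩ : C) ^ (m + 1), ?_, rfl⟩
      rw [show m + 1 = 2 * (i + 1) by omega, pow_mul]
      exact pow_mem he2 _
    obtain ⟨hKC, hKodd, hKn⟩ := ZStarPrincipal.centralizerPPrimeCore_spec (p := 2) z
    have h2 := ZStarPrincipal.apply_eq_of_mem hM ⟨1, by rw [hzo, pow_one]⟩ hKC hKodd hKn hχ heK
    have h3 : z * e ^ (m + 1) = e := by
      rw [← hem, ← pow_add, show m + (m + 1) = orderOf d + 1 by omega, hede, conj_pow,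
        pow_succ, pow_orderOf_eq_one, one_mul]
    rw [h3, hede, BlockTheoryCentre.irr_classFun χ d (h : G)] at h2
    exact h2
  obtain ⟨χ, hχ, hne, hker⟩ := WeightedZStar38.exists_kernel hM (w : G) hw2 X
    ⟨t, hXmem.2 ⟨1, one_mem W, (one_mul t).symm, ht⟩⟩ (fun x hx => (hXmem.1 hx).choose_spec.2.2) hmul
  have htop : CharKernel.irrKer χ = ⊤ :=
    ((CharKernel.irrKer_normal χ).eq_bot_or_eq_top).resolve_left fun h =>
      IsolatedInv.ne_one_of_orderOf_two hw (Subgroup.mem_bot.1 (h ▸ CharKernel.mem_irrKer.2 hker))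
  refine hne (funext fun g => ?_)
  have hconst : ∀ g : G, (χ : G → ℂ) g = (χ : G → ℂ) 1 := fun g =>
    CharKernel.mem_irrKer.1 (htop ▸ Subgroup.mem_top g)
  by_contra hne'
  have h0 := CharBasicOrth.classInner_irr_ne χ.2 CharBasicDecomp.isIrrCharacter_one hne
  rw [classInner] at h0
  simp only [hconst, map_one, mul_one, Finset.sum_const, Finset.card_univ, nsmul_eq_mul,
    mul_eq_zero, inv_eq_zero, Nat.cast_eq_zero] at h0
  rcases h0 with h0 | h0 | h0
  · exact Nat.card_pos.ne' h0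
  · exact Fintype.card_ne_zero h0
  · exact CharBasic.isIrrCharacter_apply_one_ne_zero χ.2 h0

theorem result {G : Type*} [Group G] [Finite G]
    (T : Sylow 2 G) (W : Subgroup G) (hW1 : W ≠ ⊥) (hWZ : W ≤ (T : Subgroup G) ⊓ Subgroup.centralizer ((T : Subgroup G) : Set G))
    (hwc : Cfsg.IsWeaklyClosed W (T : Subgroup G)) (t : G) (ht : orderOf t = 2) (htT : t ∈ (T : Subgroup G)) (htW : t ∉ W)
    (hcos : ∀ w ∈ W, orderOf (w * t) = 2 →
      W.subgroupOf (Subgroup.centralizer ({w * t} : Set G)) ≤ Cfsg.pPrimePCore 2 ↥(Subgroup.centralizer ({w * t} : Set G))) :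
    ¬ IsSimpleGroup G :=
  main T W hW1 hWZ hwc t ht htT htW hcos

end Cfsg.Agent.S3312
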