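import Cfsg.Statements.S3313
import Cfsg.Agent.S0213
import Cfsg.Agent.Lib.HJPatternExtraspecial
import Cfsg.Agent.Lib.HJPatternCount
import Cfsg.Agent.Lib.SelfCentThreeLocal
import Cfsg.Agent.Lib.HallCore
import Cfsg.Agent.Lib.ComponentsFitting
import Cfsg.Agent.Lib.PGroupsBasic
import Cfsg.Agent.Lib.CharBasicOrth

set_option autoImplicit false
open Cfsg

namespace Cfsg.Agent.S3313
open HJPatternExtraspecial HJPatternCount


/-- The order of a simple group with the involution pattern of the Hall–Janko group. Let G be a non-abelian finite simple group with exactly two conjugacy classes of involutions, represented by z and t, such that: F*(C_G(z)) is an extraspecial 2-group; Q = O₂(C_G(z)) has order 32 and C_G(z) is the semidirect product of Q by a subgroup isomorphic to A₅; every involution of Q is conjugate to z and every other involution of C_G(z) is conjugate to t; C_G(t) is an internal direct product V × B with V a four-group containing t and B ≅ A₅; every involution of B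 is conjugate to z and every other involution of C_G(t) is conjugate to t. Then |G| = 604800. -/
theorem result {G : Type*} [Group G] [Finite G]
    [IsSimpleGroup G] (hna : ¬ IsMulCommutative G) (z t : G) (hz : orderOf z = 2) (ht : orderOf t = 2)
    (hzt : ¬ IsConj z t) (hcl : ∀ x : G, orderOf x = 2 → IsConj x z ∨ IsConj x t)
    (hex : Cfsg.IsExtraspecial 2 ↥(Cfsg.generalizedFittingSubgroup ↥(Subgroup.centralizer ({z} : Set G))))
    (hQ : Nat.card ↥(Cfsg.pCore 2 ↥(Subgroup.centralizer ({z} : Set G))) = 32)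
    (K : Subgroup G) (hK : Nonempty (↥K ≃* alternatingGroup (Fin 5)))
    (hKC : K ⊔ (Cfsg.pCore 2 ↥(Subgroup.centralizer ({z} : Set G))).map (Subgroup.centralizer ({z} : Set G)).subtype = Subgroup.centralizer ({z} : Set G))
    (hKQ : K ⊓ (Cfsg.pCore 2 ↥(Subgroup.centralizer ({z} : Set G))).map (Subgroup.centralizer ({z} : Set G)).subtype = ⊥)
    (hQz : ∀ x ∈ (Cfsg.pCore 2 ↥(Subgroup.centralizer ({z} : Set G))).map (Subgroup.centralizer ({z} : Set G)).subtype, orderOf x = 2 → IsConj x z)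
    (hCz : ∀ x ∈ Subgroup.centralizer ({z} : Set G), orderOf x = 2 →
      x ∉ (Cfsg.pCore 2 ↥(Subgroup.centralizer ({z} : Set G))).map (Subgroup.centralizer ({z} : Set G)).subtype → IsConj x t)
    (V B : Subgroup G) (hVB : Cfsg.IsInternalDirectProduct V B (Subgroup.centralizer ({t} : Set G)))
    (hV : Nat.card ↥V = 4) (hV2 : ∀ v ∈ V, v ^ 2 = 1) (htV : t ∈ V) (hB : Nonempty (↥B ≃* alternatingGroup (Fin 5)))
    (hBz : ∀ x ∈ B, orderOf x = 2 → IsConj x z)
    (hCt : ∀ x ∈ Subgroup.centralizer ({t} : Set G), orderOf x = 2 → x ∉ B → IsConj x t) :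
    Nat.card G = 604800 := by
  classical
  haveI := Fintype.ofFinite G
  haveI : Fact (Nat.Prime 2) := ⟨Nat.prime_two⟩
  have hzz : z * z = 1 := by rw [← sq, ← hz, pow_orderOf_eq_one]
  have htt : t * t = 1 := by rw [← sq, ← ht, pow_orderOf_eq_one]
  have hz1 : z ≠ 1 := fun e => by rw [e, orderOf_one] at hz; omega
  have ht1 : t ≠ 1 := fun e => by rw [e, orderOf_one] at ht; omega
  have ord2 : ∀ x : G, x * x = 1 → x ≠ 1 → orderOf x = 2 := fun x h1 h2 =>
    orderOf_eq_prime (by rw [pow_two]; exact h1) h2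
  have hconj2 : ∀ {a b : G}, IsConj a b → orderOf a = 2 → b * b = 1 ∧ b ≠ 1 := by
    intro a b h ha
    obtain ⟨c, rfl⟩ := isConj_iff.1 h
    have h1 : orderOf (c * a * c⁻¹) = 2 := (MulEquiv.orderOf_eq (MulAut.conj c) a).trans ha
    refine ⟨by rw [← sq, ← h1, pow_orderOf_eq_one], fun e => ?_⟩
    rw [e, orderOf_one] at h1; omega
  set C := Subgroup.centralizer ({z} : Set G) with hC
  set Qc := Cfsg.pCore 2 C with hQc
  set Q := Qc.map C.subtype with hQdef
  have hzC : z ∈ C := Subgroup.mem_centralizer_singleton_iff.2 rfl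
  have memC : ∀ x, x ∈ C ↔ Commute x z := fun x => Subgroup.mem_centralizer_singleton_iff
  have hQC : Q ≤ C := Subgroup.map_subtype_le _
  have hzQ : z ∈ Q := by
    let zc : C := ⟨z, hzC⟩
    haveI : (Subgroup.zpowers zc).Normal := ⟨fun n hn g => by
      obtain ⟨k, rfl⟩ := Subgroup.mem_zpowers_iff.1 hn
      have hg : Commute g zc := Subtype.ext ((memC g).1 g.2).eq
      rw [(hg.zpow_right k).eq, mul_inv_cancel_right]
      exact hn⟩
    have hp : IsPGroup 2 (Subgroup.zpowers zc) := IsPGroup.of_card (n := 1) (by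
      rw [Nat.card_zpowers, ← Subgroup.orderOf_coe, pow_one]; exact hz)
    exact ⟨zc, HallCore.le_pCore hp (Subgroup.mem_zpowers zc), rfl⟩
  have hQcard : Nat.card Q = 32 := by
    rw [hQdef, Subgroup.card_map_of_injective C.subtype_injective]; exact hQ
  -- the structure of `Q`
  have hGF : Cfsg.generalizedFittingSubgroup C = Qc := by
    refine le_antisymm ?_ ?_
    · haveI : (Cfsg.generalizedFittingSubgroup C).Normal := inferInstance
      exact HallCore.le_pCore hex.1.1
    · haveI := (HallCore.isPGroup_pCore 2 C).isNilpotent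
      haveI : Qc.Normal := HallCore.pCore_normal 2 C
      exact le_trans (show Qc ≤ Cfsg.fittingSubgroup C from le_sSup ⟨inferInstance, inferInstance⟩) le_sup_right
  rw [hGF] at hex
  obtain ⟨⟨hQp, hfr, hco⟩, hZc⟩ := hex
  have hzc' : (⟨⟨z, hzC⟩, by
      obtain ⟨c, hc, e⟩ := hzQ
      exact (Subtype.ext e : c = ⟨z, hzC⟩) ▸ hc⟩ : Qc) ∈ Subgroup.center Qc :=
    Subgroup.mem_center_iff.2 fun g => Subtype.ext (Subtype.ext ((memC _).1 g.1.2).eq)
  have hcen : ∀ c : Qc, c ∈ Subgroup.center Qc → ((c : C) : G) = 1 ∨ ((c : C) : G) = z := by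
    intro c hc
    have hzm : (⟨z, hzC⟩ : C) ∈ Qc := by
      obtain ⟨c', hc', e'⟩ := hzQ
      exact (Subtype.ext e' : c' = ⟨z, hzC⟩) ▸ hc'
    set zq : Qc := ⟨⟨z, hzC⟩, hzm⟩
    have hle : Subgroup.zpowers zq ≤ Subgroup.center Qc := Subgroup.zpowers_le.2 hzc'
    have ho : orderOf zq = 2 := by rw [← Subgroup.orderOf_coe, ← Subgroup.orderOf_coe]; exact hz
    have heq := Subgroup.eq_of_le_of_card_ge hle (by rw [hZc, Nat.card_zpowers, ho])
    rw [← heq, Subgroup.mem_zpowers_iff] at hc
    obtain ⟨k, rfl⟩ := hc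
    rw [← zpow_mod_orderOf, ho]
    rcases Int.emod_two_eq_zero_or_one k with hk | hk <;> simp [hk, zq]
  have lift : ∀ q ∈ Q, ∃ c : Qc, ((c : C) : G) = q := by
    rintro q ⟨c, hc, rfl⟩
    exact ⟨⟨c, hc⟩, rfl⟩
  obtain ⟨eK⟩ := hK
  have hKC' : K ⊔ Q = C := hKC
  have hKle : K ≤ C := hKC' ▸ le_sup_left
  haveI : Fact (Nat.Prime 5) := ⟨by norm_num⟩
  obtain ⟨g5, hg5⟩ := exists_prime_orderOf_dvd_card' (G := K) 5 (by
    rw [Nat.card_congr eK.toEquiv, nat_card_alternatingGroup, Nat.card_fin]; decide)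
  have hQnorm : ∀ c ∈ C, ∀ q ∈ Q, c * q * c⁻¹ ∈ Q := by
    rintro c hc _ ⟨q, hq, rfl⟩
    exact ⟨⟨c, hc⟩ * q * (⟨c, hc⟩ : C)⁻¹, (HallCore.pCore_normal 2 C).conj_mem q hq _, rfl⟩
  have hctx : Ctx Q z (g5 : G) := by
    refine ⟨hQcard, hzQ, hzz, hz1, fun q hq => (memC q).1 (hQC hq), ?_, ?_, ?_, ?_,
      hQnorm _ (hKle g5.2), (memC _).1 (hKle g5.2), ?_⟩
    · intro q hq
      obtain ⟨c, rfl⟩ := lift q hq
      rcases hcen (c ^ 2) (hfr ▸ PGroupsBasic.pow_mem_frattini hQp c) with h | h
      · exact Or.inl (by simpa [pow_two] using h)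
      · exact Or.inr (by simpa [pow_two] using h)
    · intro p hp q hq
      obtain ⟨a, rfl⟩ := lift p hp
      obtain ⟨b, rfl⟩ := lift q hq
      have h := hcen (a * b * a⁻¹ * b⁻¹) (hco ▸ Subgroup.commutator_mem_commutator
        (Subgroup.mem_top a) (Subgroup.mem_top b))
      simpa using h
    · intro q hq hall
      obtain ⟨a, rfl⟩ := lift q hq
      exact hcen a (Subgroup.mem_center_iff.2 fun b =>
        Subtype.ext (Subtype.ext (hall _ ⟨b.1, b.2, rfl⟩).eq))
    · rw [← hg5, ← Subgroup.orderOf_coe, pow_orderOf_eq_one]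
    · by_contra hall
      push Not at hall
      have h1 : (⟨g5, hKle g5.2⟩ : C) ∈ Cfsg.generalizedFittingSubgroup C := by
        refine ComponentsFitting.centralizer_gen_le (Subgroup.mem_centralizer_iff.2 fun q hq => ?_)
        exact Subtype.ext (hall _ ⟨q, hGF ▸ hq, rfl⟩).eq.symm
      rw [hGF] at h1
      have h2 : (g5 : G) ∈ K ⊓ Q := ⟨g5.2, ⟨_, h1, rfl⟩⟩
      rw [hKQ, Subgroup.mem_bot] at h2
      rw [← Subgroup.orderOf_coe, h2, orderOf_one] at hg5
      omega
  have hCcard : Nat.card C = 1920 := by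
    rw [← hKC', card_sup_of_disjoint (fun k hk => SelfCentThreeLocal.mem_normalizer_of_invariant
      (hQnorm k (hKle hk))) hKQ, hQcard, Nat.card_congr eK.toEquiv, nat_card_alternatingGroup,
      Nat.card_fin]
    decide
  -- the centraliser of `t`
  obtain ⟨hVle, hBle, hcomm, hdisj, hsup⟩ := hVB
  obtain ⟨eB⟩ := hB
  set D := Subgroup.centralizer ({t} : Set G) with hD
  have memD : ∀ x, x ∈ D ↔ Commute x t := fun x => Subgroup.mem_centralizer_singleton_iff
  have hVN : V ≤ Subgroup.normalizer (B : Set G) := fun a ha =>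
    SelfCentThreeLocal.mem_normalizer_of_invariant fun b hb => by
      rw [hcomm a ha b hb, mul_inv_cancel_right]; exact hb
  have hDcard : Nat.card D = 240 := by
    rw [← hsup, card_sup_of_disjoint hVN hdisj, hV, Nat.card_congr eB.toEquiv,
      nat_card_alternatingGroup, Nat.card_fin]
    decide
  have htB : t ∉ B := fun h => ht1 (by
    have h2 : t ∈ V ⊓ B := ⟨htV, h⟩
    rwa [hdisj, Subgroup.mem_bot] at h2)
  have zInD : ∀ x ∈ D, IsConj z x → x ∈ B := fun x hx hcx => by
    by_contra hxB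
    obtain ⟨h1, h2⟩ := hconj2 hcx hz
    exact hzt (hcx.trans (hCt x hx (ord2 x h1 h2) hxB))
  have zInC : ∀ x ∈ C, IsConj z x → x ∈ Q := fun x hx hcx => by
    by_contra hxQ
    obtain ⟨h1, h2⟩ := hconj2 hcx hz
    exact hzt (hcx.trans (hCz x hx (ord2 x h1 h2) hxQ))
  -- sets
  set Zc := Finset.univ.filter fun x : G => IsConj z x with hZc'
  set Tc := Finset.univ.filter fun x : G => IsConj t x with hTc
  set W := Finset.univ.filter (fun b : G => IsConj t b ∧ b * z = z * b) with hW
  let ι : alternatingGroup (Fin 5) → G := fun c => ((eB.symm c : B) : G)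
  have hι : Function.Injective ι := fun a b e => eB.symm.injective (Subtype.ext e)
  have hιm : ∀ a b, ι (a * b) = ι a * ι b := fun a b => by simp [ι]
  have hι1 : ι 1 = 1 := by simp [ι]
  have hιs : ∀ x ∈ B, ∃ c, ι c = x := fun x hx => ⟨eB ⟨x, hx⟩, by simp [ι]⟩
  have hιB : ∀ c, ι c ∈ B := fun c => (eB.symm c).2
  have hZD : (Finset.univ.filter fun b : G => IsConj z b ∧ b * t = t * b) =
      (Finset.univ.filter fun c : alternatingGroup (Fin 5) => c * c = 1 ∧ c ≠ 1).image ι := by
    ext x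
    simp only [Finset.mem_filter, Finset.mem_univ, true_and, Finset.mem_image]
    constructor
    · rintro ⟨hcx, hxt⟩
      obtain ⟨c, rfl⟩ := hιs x (zInD x ((memD x).2 hxt) hcx)
      obtain ⟨h1, h2⟩ := hconj2 hcx hz
      exact ⟨c, ⟨hι (by rw [hιm, h1, hι1]), fun e => h2 (by rw [e, hι1])⟩, rfl⟩
    · rintro ⟨c, ⟨h1, h2⟩, rfl⟩
      refine ⟨(hBz _ (hιB c) (ord2 _ (by rw [← hιm, h1, hι1]) fun e => h2 (hι (e.trans hι1.symm)))).symm,
        (memD _).1 (hBle (hιB c))⟩
  have hZDcard : ∀ b ∈ Tc, (Zc.filter fun a => a * b = b * a).card = 15 := by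
    intro b hb
    obtain ⟨g, rfl⟩ := isConj_iff.1 (Finset.mem_filter.1 hb).2
    rw [hZc', Finset.filter_filter, card_conj_filter (fun a => IsConj z a)
      (fun g y hy => hy.trans (isConj_iff.2 ⟨g, rfl⟩)) g t, hZD,
      Finset.card_image_of_injective _ hι, card_inv]
  have hclz := CharBasicOrth.card_conj_mul_card_centralizer z
  have hclt := CharBasicOrth.card_conj_mul_card_centralizer t
  rw [← hC, hCcard, Nat.card_eq_fintype_card (α := {g : G // IsConj z g}), Fintype.card_subtype] at hclz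
  rw [← hD, hDcard, Nat.card_eq_fintype_card (α := {g : G // IsConj t g}), Fintype.card_subtype] at hclt
  rw [← hZc'] at hclz
  rw [← hTc] at hclt
  have hN : W.card = 120 := by
    have h1 : Zc.card * W.card = Tc.card * 15 := by
      refine Finset.card_mul_eq_card_mul (fun a b : G => a * b = b * a) (fun a ha => ?_)
        (fun b hb => ?_)
      · obtain ⟨g, rfl⟩ := isConj_iff.1 (Finset.mem_filter.1 ha).2
        rw [hW, Finset.bipartiteAbove, hTc, Finset.filter_filter,
          ← card_conj_filter (fun a => IsConj t a) (fun g y hy => hy.trans (isConj_iff.2 ⟨g, rfl⟩)) g z]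
        congr 1
        ext b
        simp [eq_comm]
      · rw [Finset.bipartiteBelow]; exact hZDcard b hb
    have hpos : 0 < Tc.card := Finset.card_pos.2 ⟨t, Finset.mem_filter.2 ⟨Finset.mem_univ _, IsConj.refl t⟩⟩
    have h2 : Zc.card * (W.card * 240) = Zc.card * (120 * 240) := by
      calc Zc.card * (W.card * 240) = Zc.card * W.card * 240 := by ring
        _ = Tc.card * 240 * 15 := by rw [h1]; ring
        _ = Zc.card * (120 * 240) := by rw [hclt, ← hclz]; ring
    have hzpos : 0 < Zc.card := Finset.card_pos.2 ⟨z, Finset.mem_filter.2 ⟨Finset.mem_univ _, IsConj.refl z⟩⟩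
    exact Nat.eq_of_mul_eq_mul_right (by norm_num : 0 < 240) (Nat.eq_of_mul_eq_mul_left hzpos h2)
  have hWmem : ∀ w ∈ W, w ∈ C ∧ w ∉ Q ∧ w * w = 1 ∧ w ≠ 1 ∧ IsConj t w := by
    intro w hw
    obtain ⟨h1, h2⟩ := (Finset.mem_filter.1 hw).2
    obtain ⟨h3, h4⟩ := hconj2 h1 ht
    exact ⟨(memC w).2 h2, fun h => hzt (h1.trans (hQz w h (ord2 w h3 h4))).symm, h3, h4, h1⟩
  -- each such involution commutes with two of the others
  have hcomm2 : ∀ w ∈ W, ((invs Q z).filter fun u => Commute u w).card = 2 := by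
    intro w hw
    obtain ⟨hwC, hwQ, hww, hw1, hwt⟩ := hWmem w hw
    obtain ⟨g, rfl⟩ := isConj_iff.1 hwt
    have hz' : g⁻¹ * z * g ∈ B := by
      refine zInD _ ((memD _).2 ?_) (isConj_iff.2 ⟨g⁻¹, by group⟩)
      show g⁻¹ * z * g * t = t * (g⁻¹ * z * g)
      calc g⁻¹ * z * g * t = g⁻¹ * (z * (g * t * g⁻¹)) * g := by group
        _ = _ := by rw [← ((memC _).1 hwC).eq]; group
    obtain ⟨c0, hc0⟩ := hιs _ hz'
    have hc0' : c0 * c0 = 1 ∧ c0 ≠ 1 := by
      refine ⟨hι ?_, fun e => hz1 ?_⟩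
      · rw [hιm, hc0, hι1, show g⁻¹ * z * g * (g⁻¹ * z * g) = g⁻¹ * (z * z) * g by group, hzz]; group
      · rw [e, hι1] at hc0
        calc z = g * (g⁻¹ * z * g) * g⁻¹ := by group
          _ = 1 := by rw [← hc0]; group
    have hbij : (Finset.univ.filter fun q : G => IsConj z q ∧ q * (g * t * g⁻¹) = g * t * g⁻¹ * q ∧ q * z = z * q).card
        = 3 := by
      rw [← card_comm c0 hc0'.1 hc0'.2]
      symm
      refine Finset.card_bij (fun d _ => g * ι d * g⁻¹) ?_ ?_ ?_
      · intro d hd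
        simp only [Finset.mem_filter, Finset.mem_univ, true_and] at hd ⊢
        obtain ⟨h1, h2, h3⟩ := hd
        refine ⟨((hBz _ (hιB d) (ord2 _ (by rw [← hιm, h1, hι1]) fun e => h2 (hι (e.trans hι1.symm)))).symm).trans
          (isConj_iff.2 ⟨g, rfl⟩), ?_, ?_⟩
        · have := ((memD _).1 (hBle (hιB d))).eq
          calc g * ι d * g⁻¹ * (g * t * g⁻¹) = g * (ι d * t) * g⁻¹ := by group
            _ = _ := by rw [this]; group
        · have h4 : ι d * ι c0 = ι c0 * ι d := by rw [← hιm, h3, hιm]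
          rw [hc0] at h4
          calc g * ι d * g⁻¹ * z = g * (ι d * (g⁻¹ * z * g)) * g⁻¹ := by group
            _ = _ := by rw [h4]; group
      · intro a _ b _ e
        exact hι (mul_left_cancel (mul_right_cancel e))
      · intro q hq
        simp only [Finset.mem_filter, Finset.mem_univ, true_and] at hq
        obtain ⟨h1, h2, h3⟩ := hq
        have hqB : g⁻¹ * q * g ∈ B := by
          refine zInD _ ((memD _).2 ?_) (h1.trans (isConj_iff.2 ⟨g⁻¹, by group⟩))
          show g⁻¹ * q * g * t = t * (g⁻¹ * q * g)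
          calc g⁻¹ * q * g * t = g⁻¹ * (q * (g * t * g⁻¹)) * g := by group
            _ = _ := by rw [h2]; group
        obtain ⟨d, hd⟩ := hιs _ hqB
        obtain ⟨hqq, hq1⟩ := hconj2 h1 hz
        refine ⟨d, ?_, by rw [hd]; group⟩
        simp only [Finset.mem_filter, Finset.mem_univ, true_and]
        refine ⟨hι ?_, fun e => hq1 ?_, hι ?_⟩
        · rw [hιm, hd, hι1, show g⁻¹ * q * g * (g⁻¹ * q * g) = g⁻¹ * (q * q) * g by group, hqq]; group
        · rw [e, hι1] at hd
          calc q = g * (g⁻¹ * q * g) * g⁻¹ := by group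
            _ = 1 := by rw [← hd]; group
        · rw [hιm, hιm, hd, hc0]
          calc g⁻¹ * q * g * (g⁻¹ * z * g) = g⁻¹ * (q * z) * g := by group
            _ = _ := by rw [h3]; group
    have heq : (Finset.univ.filter fun q : G => IsConj z q ∧ q * (g * t * g⁻¹) = g * t * g⁻¹ * q ∧ q * z = z * q)
        = insert z ((invs Q z).filter fun u => Commute u (g * t * g⁻¹)) := by
      ext q
      simp only [Finset.mem_insert, Finset.mem_filter, Finset.mem_univ, true_and, mem_invs]
      constructor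
      · rintro ⟨h1, h2, h3⟩
        by_cases hqz : q = z
        · exact Or.inl hqz
        · obtain ⟨hqq, hq1⟩ := hconj2 h1 hz
          exact Or.inr ⟨⟨zInC q ((memC q).2 h3) h1, hqq, hq1, hqz⟩, h2⟩
      · rintro (rfl | ⟨⟨hqQ, hqq, hq1, hqz⟩, hc⟩)
        · exact ⟨IsConj.refl _, ((memC _).1 hwC).eq.symm, rfl⟩
        · exact ⟨(hQz q hqQ (ord2 q hqq hq1)).symm, hc.eq, ((memC q).1 (hQC hqQ)).eq⟩
    rw [heq, Finset.card_insert_of_notMem (fun h => (mem_invs.1 (Finset.mem_filter.1 h).1).2.2.2 rfl)] at hbij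
    omega
  obtain ⟨w₀, hw₀⟩ := Finset.card_pos.1 (by omega : 0 < W.card)
  obtain ⟨u₀, hu₀⟩ := Finset.card_pos.1 (by rw [hcomm2 w₀ hw₀]; norm_num :
    0 < ((invs Q z).filter fun u => Commute u w₀).card)
  have hI := card_invs hctx (Finset.mem_filter.1 hu₀).1
  -- the pairs through `z`
  have haz : Nat.card {p : G × G // IsConj z p.1 ∧ IsConj t p.2 ∧ z ∈ Subgroup.zpowers (p.1 * p.2)} = 960 := by
    rw [Nat.card_eq_fintype_card, Fintype.card_subtype]
    have hset : (W.sigma fun w => (invs Q z).filter fun u => ¬ Commute u w).card = 960 := by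
      rw [Finset.card_sigma, Finset.sum_congr rfl (g := fun _ => 8), Finset.sum_const, smul_eq_mul, hN]
      intro w hw
      have := Finset.card_filter_add_card_filter_not (s := invs Q z) (fun u => Commute u w)
      rw [hcomm2 w hw, hI] at this
      omega
    rw [← hset]
    refine Finset.card_bij' (fun p _ => ⟨p.2, p.1⟩) (fun s _ => (s.2, s.1)) ?_ ?_ ?_ ?_
    · rintro ⟨u, v⟩ hp
      simp only [Finset.mem_filter, Finset.mem_univ, true_and] at hp
      obtain ⟨h1, h2, h3⟩ := hp
      obtain ⟨huu, hu1⟩ := hconj2 h1 hz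
      obtain ⟨hvv, hv1⟩ := hconj2 h2 ht
      obtain ⟨cu, cv⟩ := commute_of_mem_zpowers huu hvv hzz h3
      have huQ := zInC u ((memC u).2 cu) h1
      have hvW : v ∈ W := Finset.mem_filter.2 ⟨Finset.mem_univ _, h2, cv.eq⟩
      have hinv : ∀ x : G, x * x = 1 → z ∈ Subgroup.zpowers x → z = x := by
        intro x hx hm
        obtain ⟨k, hk⟩ := Subgroup.mem_zpowers_iff.1 hm
        rcases Int.even_or_odd k with ⟨j, hj⟩ | ⟨j, hj⟩
        · exact absurd (by rw [← hk, hj, ← two_mul, zpow_mul, zpow_two, hx, one_zpow]) hz1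
        · rw [← hk, hj, zpow_add, zpow_mul, zpow_two, hx, one_zpow, one_mul, zpow_one]
      simp only [Finset.mem_sigma, Finset.mem_filter, mem_invs]
      refine ⟨hvW, ⟨huQ, huu, hu1, fun e => ?_⟩, fun hc => ?_⟩
      · subst e
        have hm := hinv (u * v) (by rw [cv.mul_mul_mul_comm, huu, hvv, one_mul]) h3
        exact hv1 (mul_eq_left.1 hm.symm)
      · have hm := hinv (u * v) (by rw [hc.symm.mul_mul_mul_comm, huu, hvv, one_mul]) h3
        refine (hWmem v hvW).2.1 ?_
        have : v = u * z := by rw [hm, ← mul_assoc, huu, one_mul]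
        rw [this]; exact Q.mul_mem huQ hzQ
    · rintro ⟨w, u⟩ hs
      simp only [Finset.mem_sigma, Finset.mem_filter] at hs
      obtain ⟨hw, hu, hnc⟩ := hs
      obtain ⟨hwC, hwQ, hww, hw1, hwt⟩ := hWmem w hw
      obtain ⟨huQ, huu, hu1, huz⟩ := mem_invs.1 hu
      simp only [Finset.mem_filter, Finset.mem_univ, true_and]
      refine ⟨(hQz u huQ (ord2 u huu hu1)).symm, hwt, ?_⟩
      set u' := w * u * w with hu'
      have hu'Q : u' ∈ Q := by
        have := hQnorm w hwC u huQ
        rwa [inv_eq_of_mul_eq_one_right hww] at this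
      have hc : u * w * (u * w) = u * u' := by rw [hu']; group
      have hcQ : u * u' ∈ Q := Q.mul_mem huQ hu'Q
      have hmem : u * u' ∈ Subgroup.zpowers (u * w) :=
        hc ▸ mul_mem (Subgroup.mem_zpowers _) (Subgroup.mem_zpowers _)
      rcases hctx.sq _ hcQ with h | h
      · -- the square is central
        have hu'u' : u' * u' = 1 := by
          rw [hu', show w * u * w * (w * u * w) = w * u * (w * w) * u * w by group, hww, mul_one,
            mul_assoc w u u, huu, mul_one, hww]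
        have hcu : Commute u u' := by
          show u * u' = u' * u
          calc u * u' = (u * u')⁻¹ := (inv_eq_of_mul_eq_one_right h).symm
            _ = u' * u := by rw [mul_inv_rev, inv_eq_of_mul_eq_one_right huu, inv_eq_of_mul_eq_one_right hu'u']
        rcases eq_of_commute hctx hu hu'Q hu'u' hcu with e | e | e | e
        · refine absurd ?_ hu1
          calc u = w * u' * w := by rw [hu', show w * (w * u * w) * w = (w * w) * u * (w * w) by group, hww, one_mul, mul_one]
            _ = 1 := by rw [e, mul_one, hww]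
        · refine absurd ?_ huz
          calc u = w * u' * w := by rw [hu', show w * (w * u * w) * w = (w * w) * u * (w * w) by group, hww, one_mul, mul_one]
            _ = z := by rw [e, ((memC w).1 hwC).eq, mul_assoc, hww, mul_one]
        · refine absurd ?_ hnc
          show u * w = w * u
          calc u * w = u' * w := by rw [e]
            _ = w * u := by rw [hu', mul_assoc, hww, mul_one]
        · rw [e, ← mul_assoc, huu, one_mul] at hmem
          exact hmem
      · exact h ▸ mul_mem hmem hmem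
    · rintro ⟨u, v⟩ _; rfl
    · rintro ⟨w, u⟩ _; rfl
  -- the pairs through `t`
  have hat : Nat.card {p : G × G // IsConj z p.1 ∧ IsConj t p.2 ∧ t ∈ Subgroup.zpowers (p.1 * p.2)} = 195 := by
    rw [Nat.card_eq_fintype_card, Fintype.card_subtype, ← card_pairs]
    symm
    refine Finset.card_bij (fun s _ => (ι s.1, t * ι s.2)) ?_ ?_ ?_
    · rintro ⟨c, d⟩ hs
      simp only [Finset.mem_sigma, Finset.mem_filter, Finset.mem_univ, true_and] at hs
      obtain ⟨⟨hcc, hc1⟩, hdd, hcd⟩ := hs
      simp only [Finset.mem_filter, Finset.mem_univ, true_and]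
      have hu1 : ι c ≠ 1 := fun e => hc1 (hι (e.trans hι1.symm))
      refine ⟨(hBz _ (hιB c) (ord2 _ (by rw [← hιm, hcc, hι1]) hu1)).symm, ?_, ?_⟩
      · have hct : Commute t (ι d) := hcomm t htV _ (hιB d)
        have hnB : t * ι d ∉ B := fun h => htB ((B.mul_mem_cancel_right (hιB d)).1 h)
        refine (hCt _ (D.mul_mem (hVle htV) (hBle (hιB d))) (ord2 _ ?_ fun e => hnB (e ▸ B.one_mem)) hnB).symm
        rw [hct.symm.mul_mul_mul_comm, htt, ← hιm, hdd, hι1, one_mul]
      · have e : ι c * (t * ι d) = t * ι (c * d) := by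
          rw [hιm, ← mul_assoc, ← mul_assoc, hcomm t htV _ (hιB c)]
        rw [e, Subgroup.mem_zpowers_iff]
        refine ⟨(orderOf (c * d) : ℕ), ?_⟩
        have hodd : Odd (orderOf (c * d)) := (odd_iff (MulEquiv.refl _) (c * d)).2 hcd
        have hpow : ∀ n : ℕ, ι ((c * d) ^ n) = ι (c * d) ^ n := by
          intro n
          induction n with
          | zero => simp [hι1]
          | succ n ih => rw [pow_succ, hιm, ih, pow_succ]
        rw [zpow_natCast, (show Commute t (ι (c * d)) from hcomm t htV _ (hιB _)).mul_pow, ← hpow,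
          pow_orderOf_eq_one, hι1, mul_one]
        obtain ⟨j, hj⟩ := hodd
        rw [hj, pow_succ, pow_mul, pow_two, htt, one_pow, one_mul]
    · rintro ⟨c, d⟩ _ ⟨c', d'⟩ _ e
      obtain ⟨e1, e2⟩ := Prod.mk.inj e
      obtain rfl := hι e1
      obtain rfl := hι (mul_left_cancel e2)
      rfl
    · rintro ⟨u, v⟩ hp
      simp only [Finset.mem_filter, Finset.mem_univ, true_and] at hp
      obtain ⟨h1, h2, h3⟩ := hp
      obtain ⟨huu, hu1⟩ := hconj2 h1 hz
      obtain ⟨hvv, hv1⟩ := hconj2 h2 ht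
      obtain ⟨cu, cv⟩ := commute_of_mem_zpowers huu hvv htt h3
      obtain ⟨c, rfl⟩ := hιs u (zInD u ((memD u).2 cu) h1)
      have hv : v ∈ ((V ⊔ B : Subgroup G) : Set G) := by rw [hsup]; exact (memD v).2 cv
      rw [Subgroup.coe_mul_of_left_le_normalizer_right V B hVN] at hv
      obtain ⟨a, ha, b, hb, rfl⟩ := Set.mem_mul.1 hv
      obtain ⟨d, rfl⟩ := hιs b hb
      have haa : a * a = 1 := by rw [← pow_two]; exact hV2 a ha
      have hab : Commute a (ι d) := hcomm a ha _ (hιB d)
      have hdd : d * d = 1 := hι (by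
        rw [hιm, hι1]
        rw [hab.symm.mul_mul_mul_comm, haa, one_mul] at hvv
        exact hvv)
      have e : ι c * (a * ι d) = a * ι (c * d) := by
        rw [hιm, ← mul_assoc, ← mul_assoc, hcomm a ha _ (hιB c)]
      rw [e, Subgroup.mem_zpowers_iff] at h3
      obtain ⟨k, hk⟩ := h3
      rw [(show Commute a (ι (c * d)) from hcomm a ha _ (hιB _)).mul_zpow] at hk
      have hak : a ^ k = t ∧ ι (c * d) ^ k = 1 := by
        have h4 : t⁻¹ * a ^ k = (ι (c * d) ^ k)⁻¹ := by
          rw [← hk, mul_inv_rev, mul_assoc, inv_mul_cancel, mul_one]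
        have h5 : t⁻¹ * a ^ k ∈ V ⊓ B :=
          ⟨V.mul_mem (V.inv_mem htV) (V.zpow_mem ha k), h4 ▸ B.inv_mem (B.zpow_mem (hιB _) k)⟩
        rw [hdisj, Subgroup.mem_bot] at h5
        refine ⟨(inv_mul_eq_one.1 h5).symm, ?_⟩
        rw [h5] at h4
        exact inv_eq_one.1 h4.symm
      have hkodd : Odd k := by
        rcases Int.even_or_odd k with ⟨j, hj⟩ | h
        · exact absurd (by rw [← hak.1, hj, ← two_mul, zpow_mul, zpow_two, haa, one_zpow]) ht1
        · exact h
      have hat' : a = t := by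
        obtain ⟨j, hj⟩ := hkodd
        rw [← hak.1, hj, zpow_add, zpow_mul, zpow_two, haa, one_zpow, one_mul, zpow_one]
      subst hat'
      refine ⟨⟨c, d⟩, ?_, rfl⟩
      simp only [Finset.mem_sigma, Finset.mem_filter, Finset.mem_univ, true_and]
      refine ⟨⟨hι (by rw [hιm, huu, hι1]), fun e' => hu1 (by rw [e', hι1])⟩, hdd, ?_⟩
      rw [← odd_iff (MulEquiv.refl _) (c * d)]
      have hord : orderOf (ι (c * d)) = orderOf (c * d) := by
        show orderOf ((eB.symm (c * d) : B) : G) = _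
        rw [Subgroup.orderOf_coe, MulEquiv.orderOf_eq]
      have hd' : orderOf (c * d) ∣ k.natAbs := by
        rw [← hord, ← Int.natCast_dvd, orderOf_dvd_iff_zpow_eq_one]
        exact hak.2
      exact Odd.of_dvd_nat (Int.natAbs_odd.2 hkodd) hd'
  have hall : ∀ x : G, orderOf x = 2 → IsConj z x ∨ IsConj t x := fun x hx =>
    (hcl x hx).imp IsConj.symm IsConj.symm
  rw [S0213.result z t hz ht hzt hall, haz, hat, ← hC, ← hD, hCcard, hDcard]

end Cfsg.Agent.S3313
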