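import Cfsg.Statements.S3315
import Cfsg.Agent.Lib.SU3TwoHeisEmbed
import Cfsg.Agent.Lib.SU3TwoHeisAut
-- import your own Cfsg.Agent.* helpers here

set_option autoImplicit false
set_option linter.style.haveILetI false
open Cfsg

namespace Cfsg.Agent.S3315

open Cfsg.Agent.SU3TwoHeis Cfsg.Agent.SU3TwoHeisAut

/-- Let S be a Sylow 2-subgroup of SU₃(2ⁿ), n ≥ 2 (realised over the field with 4ⁿ elements). If a finite 2-group R contains a subgroup S' of index 2 isomorphic to S, then the centre of S' is contained in the centre of R. -/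
theorem result {R : Type*} [Group R] [Finite R]
    (hR : IsPGroup 2 R) (n : ℕ) (hn : 2 ≤ n) {F : Type*} [Field F] [Fintype F] (hF : Fintype.card F = 4 ^ n)
    (P : Sylow 2 ↥(Cfsg.SU 3 F (2 ^ n))) (S' : Subgroup R) (hS : Nonempty (↥S' ≃* ↥(P : Subgroup ↥(Cfsg.SU 3 F (2 ^ n)))))
    (hidx : S'.index = 2) :
    (Subgroup.center ↥S').map S'.subtype ≤ Subgroup.center R := by
  classical
  have hF' : Fintype.card F = (2 ^ n) ^ 2 := by rw [hF, ← pow_mul, mul_comm, pow_mul]; norm_num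
  obtain ⟨_, σ, _, hσ, hne, -, -, hP, -⟩ := SU3TwoHeisEmbed.exists_model (show 1 ≤ n by omega) hF'
  obtain ⟨e₁⟩ := hP P
  obtain ⟨e₀⟩ := hS
  let e : ↥S' ≃* HU σ := e₀.trans e₁
  haveI : S'.Normal := Subgroup.normal_of_index_eq_two hidx
  rintro _ ⟨z, hz, rfl⟩
  rw [Subgroup.mem_center_iff]
  intro g
  by_cases hg : g ∈ S'
  · exact congrArg Subtype.val (Subgroup.mem_center_iff.1 hz ⟨g, hg⟩)
  set φ : MulAut (HU σ) := MulAut.congr e (MulAut.conjNormal g)
  have hφ : ∀ x, φ x = e (MulAut.conjNormal g (e.symm x)) := fun x => rfl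
  have hg2 : g * g ∈ S' := Subgroup.mul_self_mem_of_index_two hidx g
  have hsq : ∀ x, fA (φ (φ x)) = fA x := by
    intro x
    rw [hφ, hφ, e.symm_apply_apply]
    have h : MulAut.conjNormal g (MulAut.conjNormal g (e.symm x)) =
        (⟨g * g, hg2⟩ : S') * e.symm x * (⟨g * g, hg2⟩ : S')⁻¹ := by
      refine Subtype.ext ?_
      simp [MulAut.conjNormal_apply, mul_assoc]
    rw [h, map_mul, map_mul, map_inv, e.apply_symm_apply, fA_mul, fA_mul, fA_inv]
    linear_combination fA (e ⟨g * g, hg2⟩) * two_zero (K := F)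
  have hz0 : fA (e z) = 0 := (mem_center_iff hne _).1 (Subgroup.centerCongr e ⟨z, hz⟩).2
  have hzc : e z = zc (fB (e z)) (fB_fixed hz0) := ext' hz0 rfl
  have hfix := center_fixed hne hσ φ hsq (fB (e z)) (fB_fixed hz0)
  rw [← hzc, hφ, e.symm_apply_apply] at hfix
  have := congrArg Subtype.val (e.injective hfix)
  rw [MulAut.conjNormal_apply, mul_inv_eq_iff_eq_mul] at this
  exact this

end Cfsg.Agent.S3315
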