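import Cfsg.Statements.S3329
import Cfsg.Agent.Lib.A8ThreeLocalTop45

set_option autoImplicit false
open Cfsg

namespace Cfsg.Agent.S3329

open Cfsg.Agent.A8ThreeLocal45

theorem exists_base {G : Type*} [Group G] [Finite G]
    (P : Sylow 3 G) (D : Subgroup G) (hDP : D = P) (y z : G) (hgen : Subgroup.closure {y, z} = D)
    (hcomm : IsMulCommutative D) (hcard : Nat.card D = 9) (hexp : ∀ a ∈ D, a ^ 3 = 1)
    (hC : Subgroup.centralizer (D : Set G) = D)
    (eN : Subgroup.normalizer (D : Set G) ⧸ D.subgroupOf (Subgroup.normalizer (D : Set G)) ≃* DihedralGroup 4)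
    (hyn : (D.subgroupOf (Subgroup.centralizer ({y} : Set G))).Normal)
    (hycard : Nat.card (Subgroup.centralizer ({y} : Set G)) = 18)
    (eL : Subgroup.normalizer (Subgroup.zpowers z : Set G) ≃*
      (((Equiv.Perm.sign).comp (MonoidHom.fst (Equiv.Perm (Fin 3)) (Equiv.Perm (Fin 5)))) *
        ((Equiv.Perm.sign).comp (MonoidHom.snd (Equiv.Perm (Fin 3)) (Equiv.Perm (Fin 5))))).ker) :
    ∃ φ : S8 → G, Base φ D := by
  classical
  haveI : Fact (Nat.Prime 3) := ⟨Nat.prime_three⟩
  set L := Subgroup.normalizer (Subgroup.zpowers z : Set G) with hLdef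
  set K := (((Equiv.Perm.sign).comp (MonoidHom.fst (Equiv.Perm (Fin 3)) (Equiv.Perm (Fin 5)))) *
    ((Equiv.Perm.sign).comp (MonoidHom.snd (Equiv.Perm (Fin 3)) (Equiv.Perm (Fin 5))))).ker
  have hyD : y ∈ D := hgen ▸ Subgroup.subset_closure (Or.inl rfl)
  have hzD : z ∈ D := hgen ▸ Subgroup.subset_closure (Or.inr rfl)
  have hDc : ∀ a ∈ D, ∀ b ∈ D, a * b = b * a := fun a ha b hb =>
    congrArg Subtype.val (hcomm.is_comm.comm ⟨a, ha⟩ ⟨b, hb⟩)
  have hz3 : z * z * z = 1 := by have := hexp z hzD; rwa [pow_succ, pow_two] at this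
  have hz1 : z ≠ 1 := by
    rintro rfl
    have hle : D ≤ Subgroup.zpowers y := by
      rw [← hgen, Subgroup.closure_le]
      rintro a (rfl | rfl)
      · exact Subgroup.mem_zpowers a
      · exact one_mem _
    have h1 := Subgroup.card_le_of_le hle
    rw [hcard, Nat.card_zpowers] at h1
    have := Nat.le_of_dvd (by norm_num) (orderOf_dvd_of_pow_eq_one (hexp y hyD))
    omega
  have hDL : D ≤ L := fun d hd => (mem_normalizer_zpowers hz3).2 (Or.inl (by
    rw [hDc d hd z hzD]; group))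
  -- the first embedding
  let φ0 : S8 → G := fun x => if hx : x ∈ L1 then
    ((eL.symm ⟨(exists_iota_of_mem hx).choose, (exists_iota_of_mem hx).choose_spec.1⟩ : L) : G) else 1
  have hφ : ∀ (p : Equiv.Perm (Fin 3) × Equiv.Perm (Fin 5)) (hp : p ∈ K),
      φ0 (iota p) = ((eL.symm ⟨p, hp⟩ : L) : G) := by
    intro p hp
    have hx : iota p ∈ L1 := iota_mem_L1 p hp
    simp only [φ0, dif_pos hx]
    congr 3
    exact iota_injective (exists_iota_of_mem hx).choose_spec.2
  have hemb : Emb φ0 := by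
    constructor
    · intro a b ha hb
      obtain ⟨p, hp, rfl⟩ := exists_iota_of_mem ha
      obtain ⟨q, hq, rfl⟩ := exists_iota_of_mem hb
      have hp' : p ∈ K := hp
      have hq' : q ∈ K := hq
      rw [← map_mul, hφ p hp', hφ q hq', hφ (p * q) (mul_mem hp' hq'), ← Subgroup.coe_mul,
        ← map_mul eL.symm]
      rfl
    · intro a ha h1
      obtain ⟨p, hp, rfl⟩ := exists_iota_of_mem ha
      rw [hφ p hp] at h1
      have h2 : eL.symm ⟨p, hp⟩ = 1 := Subtype.ext h1
      have h3 := (map_eq_one_iff eL.symm eL.symm.injective).1 h2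
      have h4 : p = 1 := congrArg Subtype.val h3
      rw [h4]
      exact map_one iota
  have himg : ∀ g, g ∈ L ↔ ∃ x ∈ L1, φ0 x = g := by
    intro g
    constructor
    · intro hg
      obtain ⟨⟨p, hp⟩, e⟩ := eL.symm.surjective ⟨g, hg⟩
      exact ⟨iota p, iota_mem_L1 p hp, (hφ p hp).trans (congrArg Subtype.val e)⟩
    · rintro ⟨x, hx, rfl⟩
      simp only [φ0, dif_pos hx]
      exact (eL.symm _).2
  -- the distinguished element
  obtain ⟨x, hx, ex⟩ := (himg z).1 (Subgroup.le_normalizer (Subgroup.mem_zpowers z))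
  have hconj : ∀ l ∈ L1, l * x * l⁻¹ = x ∨ l * x * l⁻¹ = x⁻¹ := by
    intro l hl
    have hm := mul_mem (mul_mem hl hx) (inv_mem hl)
    rcases (mem_normalizer_zpowers hz3).1 ((himg _).2 ⟨l, hl, rfl⟩) with e | e
    · left
      refine (hemb.eq_iff hm hx).1 ?_
      rw [hemb.conj hl hx, ex]; exact e
    · right
      refine (hemb.eq_iff hm (inv_mem hx)).1 ?_
      rw [hemb.conj hl hx, hemb.map_inv hx, ex]; exact e
  have hx3 : x * x * x = 1 := by
    refine (hemb.eq_iff (mul_mem (mul_mem hx hx) hx) (one_mem _)).1 ?_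
    rw [hemb.mul _ _ (mul_mem hx hx) hx, hemb.mul _ _ hx hx, ex, hz3, hemb.map_one]
  have hxz : x = z0 ∨ x = z0⁻¹ := by
    obtain ⟨⟨a, b⟩, hs, rfl⟩ := exists_iota_of_mem hx
    rw [← map_mul, ← map_mul, ← map_one iota] at hx3
    have h3 := iota_injective hx3
    have hb : b = 1 := by
      have step : ∀ k : Equiv.Perm (Fin 5), Equiv.Perm.sign k = 1 →
          k * b * k⁻¹ = b ∨ k * b * k⁻¹ = b⁻¹ := by
        intro k hk
        have hkL : iota (1, k) ∈ L1 := iota_mem_L1 _ (by simp [hk])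
        rcases hconj _ hkL with e | e
        · left
          rw [← map_inv, ← map_mul, ← map_mul] at e
          exact congrArg Prod.snd (iota_injective e)
        · right
          rw [← map_inv, ← map_mul, ← map_mul, ← map_inv] at e
          exact congrArg Prod.snd (iota_injective e)
      exact perm5_ord3 b (congrArg Prod.snd h3) (step kB2 (by decide +kernel))
        (step kB1 (by decide +kernel)) (step cB (by decide +kernel))
    subst hb
    rcases perm3_ord3 a (congrArg Prod.fst h3) with rfl | rfl | rfl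
    · exfalso
      apply hz1
      rw [← ex, show ((1 : Equiv.Perm (Fin 3)), (1 : Equiv.Perm (Fin 5))) = 1 from rfl, map_one,
        hemb.map_one]
    · left; rw [z0_iota]
    · right
      rw [z0_iota, ← map_inv]
      congr 1
  have hz0 : φ0 z0 = z ∨ φ0 z0 = z⁻¹ := by
    rcases hxz with rfl | rfl
    · exact Or.inl ex
    · right; rw [← ex, hemb.map_inv z0_mem, inv_inv]
  -- Sylow's theorem
  have hsyl : ∀ R : Subgroup G, IsPGroup 3 R → ∃ g : G, ∀ w ∈ R, g * w * g⁻¹ ∈ D := by
    intro R hR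
    obtain ⟨Q, hQ⟩ := hR.exists_le_sylow
    obtain ⟨g, hg⟩ := MulAction.exists_smul_eq G Q P
    refine ⟨g, fun w hw => ?_⟩
    rw [hDP, ← hg, Sylow.coe_subgroup_smul, Subgroup.mem_pointwise_smul_iff_inv_smul_mem]
    simpa [MulAut.smul_def, mul_assoc] using hQ hw
  let D0 : Subgroup G :=
    { carrier := {g | ∃ i j : Fin 3, φ0 (z0 ^ i.val * w0 ^ j.val) = g}
      one_mem' := ⟨0, 0, by simp [hemb.map_one]⟩
      mul_mem' := by
        rintro _ _ ⟨i, j, rfl⟩ ⟨i', j', rfl⟩
        refine ⟨i + i', j + j', ?_⟩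
        rw [← hemb.mul _ _ (d0_mem i j) (d0_mem i' j'), (by decide +kernel : ∀ i j i' j' : Fin 3,
          z0 ^ (i + i').val * w0 ^ (j + j').val =
            z0 ^ i.val * w0 ^ j.val * (z0 ^ i'.val * w0 ^ j'.val)) i j i' j']
      inv_mem' := by
        rintro _ ⟨i, j, rfl⟩
        refine ⟨-i, -j, ?_⟩
        rw [← hemb.map_inv (d0_mem i j), (by decide +kernel : ∀ i j : Fin 3,
          z0 ^ (-i).val * w0 ^ (-j).val = (z0 ^ i.val * w0 ^ j.val)⁻¹) i j] }
  have hD0 : Nat.card D0 = 9 := by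
    have hb : Function.Bijective (fun q : Fin 3 × Fin 3 =>
        (⟨φ0 (z0 ^ q.1.val * w0 ^ q.2.val), q.1, q.2, rfl⟩ : D0)) := by
      constructor
      · intro p q e
        exact (by decide +kernel : ∀ p q : Fin 3 × Fin 3,
          z0 ^ p.1.val * w0 ^ p.2.val = z0 ^ q.1.val * w0 ^ q.2.val → p = q) p q
          ((hemb.eq_iff (d0_mem _ _) (d0_mem _ _)).1 (congrArg Subtype.val e))
      · rintro ⟨_, i, j, rfl⟩; exact ⟨(i, j), rfl⟩
    rw [← Nat.card_eq_of_bijective _ hb, Nat.card_eq_fintype_card]; rfl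
  have hD0L : D0 ≤ L := by
    rintro _ ⟨i, j, rfl⟩; exact (himg _).2 ⟨_, d0_mem i j, rfl⟩
  have hmax : ∀ R : Subgroup L, IsPGroup 3 R → Nat.card R ≤ 9 := by
    intro R hR
    obtain ⟨c, hc⟩ := hsyl (R.map L.subtype) (hR.map _)
    calc Nat.card R = Nat.card ((R.map L.subtype).map (MulAut.conj c).toMonoidHom) := by
          rw [← Nat.card_congr ((R.map L.subtype).equivMapOfInjective _
            (MulAut.conj c).injective).toEquiv,
            ← Nat.card_congr (R.equivMapOfInjective _ L.subtype_injective).toEquiv]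
      _ ≤ Nat.card D := Subgroup.card_le_of_le (by rintro _ ⟨w, hw, rfl⟩; exact hc w hw)
      _ = 9 := hcard
  have hc1 : Nat.card (D.subgroupOf L) = 3 ^ 2 := by
    rw [Nat.card_congr (Subgroup.subgroupOfEquivOfLe hDL).toEquiv, hcard]; norm_num
  have hc0 : Nat.card (D0.subgroupOf L) = 3 ^ 2 := by
    rw [Nat.card_congr (Subgroup.subgroupOfEquivOfLe hD0L).toEquiv, hD0]; norm_num
  obtain ⟨P1, hP1⟩ := (IsPGroup.of_card hc1 : IsPGroup 3 (D.subgroupOf L)).exists_le_sylow
  obtain ⟨P0, hP0⟩ := (IsPGroup.of_card hc0 : IsPGroup 3 (D0.subgroupOf L)).exists_le_sylow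
  have e1 : D.subgroupOf L = (P1 : Subgroup L) :=
    Subgroup.eq_of_le_of_card_ge hP1 (by rw [hc1]; exact hmax _ P1.isPGroup')
  have e0 : D0.subgroupOf L = (P0 : Subgroup L) :=
    Subgroup.eq_of_le_of_card_ge hP0 (by rw [hc0]; exact hmax _ P0.isPGroup')
  obtain ⟨c, hc⟩ := MulAction.exists_smul_eq L P0 P1
  have hD01 : ∀ w ∈ D0, (c : G) * w * (c : G)⁻¹ ∈ D := by
    intro w hw
    have : c * (⟨w, hD0L hw⟩ : L) * c⁻¹ ∈ D.subgroupOf L := by
      rw [e1, ← hc, Sylow.coe_subgroup_smul, Subgroup.mem_pointwise_smul_iff_inv_smul_mem]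
      have hm : (⟨w, hD0L hw⟩ : L) ∈ (P0 : Subgroup L) := e0 ▸ hw
      simpa [MulAut.smul_def, mul_assoc] using hm
    exact this
  have hmapeq : D0.map (MulAut.conj (c : G)).toMonoidHom = D := by
    refine Subgroup.eq_of_le_of_card_ge ?_ ?_
    · rintro _ ⟨w, hw, rfl⟩; exact hD01 w hw
    · rw [← Nat.card_congr (D0.equivMapOfInjective _ (MulAut.conj (c : G)).injective).toEquiv, hD0,
        hcard]
  -- the final embedding
  let φ : S8 → G := fun w => (c : G) * φ0 w * (c : G)⁻¹
  have hembφ : Emb φ := by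
    constructor
    · intro a b ha hb
      simp only [φ, hemb.mul a b ha hb]; group
    · intro a ha h1
      exact hemb.inj a ha (conj_eq_one_iff.1 h1)
  have hcz := (mem_normalizer_zpowers hz3).1 c.2
  have hzp : Subgroup.zpowers (φ z0) = Subgroup.zpowers z := by
    have : φ z0 = z ∨ φ z0 = z⁻¹ := by
      show (c : G) * φ0 z0 * (c : G)⁻¹ = z ∨ (c : G) * φ0 z0 * (c : G)⁻¹ = z⁻¹
      rcases hz0 with e | e <;> rw [e]
      · exact hcz
      · rcases hcz with e' | e'
        · exact Or.inr (conj_eq_inv e')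
        · left; rw [conj_eq_inv e', inv_inv]
    rcases this with e | e <;> rw [e]
    exact Subgroup.zpowers_inv
  refine ⟨φ, ⟨hembφ, fun g => ?_, fun g => ?_, hC, hcard, hsyl, ?_, ⟨y, hyD, hycard, ?_⟩⟩⟩
  · rw [hzp]
    constructor
    · intro hg
      obtain ⟨w, hw, e⟩ := (himg ((c : G)⁻¹ * g * c)).1 (mul_mem (mul_mem (inv_mem c.2) hg) c.2)
      exact ⟨w, hw, by simp only [φ, e]; group⟩
    · rintro ⟨w, hw, rfl⟩
      exact mul_mem (mul_mem c.2 ((himg _).2 ⟨w, hw, rfl⟩)) (inv_mem c.2)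
  · constructor
    · intro hg
      rw [← hmapeq] at hg
      obtain ⟨_, ⟨i, j, rfl⟩, rfl⟩ := hg
      exact ⟨i, j, rfl⟩
    · rintro ⟨i, j, rfl⟩
      exact hD01 _ ⟨i, j, rfl⟩
  · rw [Subgroup.card_eq_card_quotient_mul_card_subgroup
      (D.subgroupOf (Subgroup.normalizer (D : Set G))), Nat.card_congr eN.toEquiv,
      DihedralGroup.nat_card, Nat.card_congr (Subgroup.subgroupOfEquivOfLe
      (Subgroup.le_normalizer (H := D))).toEquiv, hcard]
  · intro w hw
    refine Subgroup.mem_normalizer_fintype fun d hd => ?_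
    have hdC : d ∈ Subgroup.centralizer ({y} : Set G) := mem_cent_singleton.2 (hDc d hd y hyD)
    exact hyn.conj_mem ⟨d, hdC⟩ hd ⟨w, hw⟩

/-- A 3-local characterization of the alternating group of degree 8. Let G be a finite group whose Sylow 3-subgroup D is elementary abelian of order 9, generated by y and z, and suppose: (i) C_G(D) = D and N_G(D)/D is dihedral of order 8; (ii) D is normal in C_G(y), C_G(y) has order 18, D is normal in N_G(⟨y⟩) and N_G(⟨y⟩)/D is elementary abelian of order 4; (iii) C_G(z) is isomorphic to the direct product of a cyclic group of order 3 and the alternating group of degree 5, and N_G(⟨z⟩) is isomorphic to the subgroup of index 2 of Sym(3) × Sym(5) consisting of the pairs of permutations whose signs agree. Then G is isomorphic to the alternating group of degree 8. -/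
theorem result {G : Type*} [Group G] [Finite G]
    (P : Sylow 3 G) (D : Subgroup G) (hDP : D = P) (y z : G) (hgen : Subgroup.closure {y, z} = D)
    (hcomm : IsMulCommutative D) (hcard : Nat.card D = 9) (hexp : ∀ a ∈ D, a ^ 3 = 1)
    (hC : Subgroup.centralizer (D : Set G) = D)
    (eN : Subgroup.normalizer (D : Set G) ⧸ D.subgroupOf (Subgroup.normalizer (D : Set G)) ≃* DihedralGroup 4)
    (hyn : (D.subgroupOf (Subgroup.centralizer ({y} : Set G))).Normal)
    (hycard : Nat.card (Subgroup.centralizer ({y} : Set G)) = 18)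
    (Ny : Subgroup G) (hNy : Ny = Subgroup.normalizer (Subgroup.zpowers y : Set G))
    (hyN : D ≤ Ny) [hyNn : (D.subgroupOf Ny).Normal]
    (hyNcard : Nat.card (Ny ⧸ D.subgroupOf Ny) = 4) (hyNexp : ∀ g : Ny ⧸ D.subgroupOf Ny, g ^ 2 = 1)
    (eC : Subgroup.centralizer ({z} : Set G) ≃* Multiplicative (ZMod 3) × alternatingGroup (Fin 5))
    (eL : Subgroup.normalizer (Subgroup.zpowers z : Set G) ≃*
      (((Equiv.Perm.sign).comp (MonoidHom.fst (Equiv.Perm (Fin 3)) (Equiv.Perm (Fin 5)))) *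
        ((Equiv.Perm.sign).comp (MonoidHom.snd (Equiv.Perm (Fin 3)) (Equiv.Perm (Fin 5))))).ker) :
    Nonempty (G ≃* alternatingGroup (Fin 8)) := by
  obtain ⟨φ, hφ⟩ := exists_base P D hDP y z hgen hcomm hcard hexp hC eN hyn hycard eL
  obtain ⟨s, hs, h1, h2, h3, h4⟩ := hφ.exists_swap
  obtain ⟨f, hf⟩ := Cfsg.Agent.A8ThreeLocal45.Swap.exists_full (⟨hφ, hs, h1, h2, h3, h4⟩ : Cfsg.Agent.A8ThreeLocal45.Swap φ D s)
  exact hf.iso

end Cfsg.Agent.S3329
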