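import Cfsg.Statements.S3341
import Cfsg.Agent.Lib.SelfCentNineA6Core64

set_option autoImplicit false
open Cfsg

namespace Cfsg.Agent.S3341

/-- Let G be a finite simple group whose Sylow 3-subgroup S is elementary abelian of order 9, such that G has more than one conjugacy class of elements of order 3 and C_G(s) = S for every non-identity s in S. Then G is isomorphic to the alternating group of degree 6. -/
theorem result {G : Type*} [Group G] [Finite G] [IsSimpleGroup G]
    (P : Sylow 3 G) (S : Subgroup G) (hSP : S = P) (hcomm : IsMulCommutative S) (hexp : ∀ a ∈ S, a ^ 3 = 1)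
    (hcard : Nat.card S = 9)
    (hclasses : ∃ a b : G, orderOf a = 3 ∧ orderOf b = 3 ∧ ∀ g : G, g * a * g⁻¹ ≠ b)
    (hcent : ∀ s ∈ S, s ≠ 1 → Subgroup.centralizer ({s} : Set G) = S) :
    Nonempty (G ≃* alternatingGroup (Fin 6)) := by
  subst hSP
  have hG : ¬ IsMulCommutative G := by
    intro hab
    obtain ⟨a, b, ha, hb, hne⟩ := hclasses
    have h9 : Nat.card G = 9 := by
      obtain ⟨s, hs, hs1⟩ : ∃ s ∈ (P : Subgroup G), s ≠ 1 := by
        by_contra hc
        push Not at hc
        have : (P : Subgroup G) = ⊥ := (Subgroup.eq_bot_iff_forall _).2 hc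
        rw [this, Subgroup.card_bot] at hcard
        omega
      have h1 := hcent s hs hs1
      have h2 : Subgroup.centralizer ({s} : Set G) = ⊤ := eq_top_iff.2 fun g _ =>
        Subgroup.mem_centralizer_singleton_iff.2 (hab.is_comm.comm g s)
      rw [h2] at h1
      rw [← h1, Subgroup.card_top] at hcard
      exact hcard
    haveI := hab
    open scoped IsMulCommutative in
    have hp := IsSimpleGroup.prime_card (α := G)
    rw [h9] at hp
    norm_num at hp
  exact SelfCentNineA6Core64.nonempty_equiv_alternating hG
    ⟨fun a ha b hb => congrArg Subtype.val (hcomm.is_comm.comm (⟨a, ha⟩ : (P : Subgroup G)) ⟨b, hb⟩), hexp, hcard, hcent⟩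
    P rfl hclasses

end Cfsg.Agent.S3341
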