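import Cfsg.Statements.S3343
import Cfsg.Agent.Lib.S9Coord37
import Cfsg.Agent.Lib.S9Small37
import Cfsg.Agent.Lib.S9Branch37
import Cfsg.Agent.Lib.S9Even37
import Cfsg.Agent.Lib.S9FullMain37
import Cfsg.Agent.Lib.S9Six37
import Cfsg.Agent.Lib.S9Chain37
import Cfsg.Agent.Lib.S9End37

set_option autoImplicit false
open Cfsg

namespace Cfsg.Agent.S3343

open S9Model37

/-- Let G be a finite group with an element x of order 3 whose centralizer is isomorphic to the centralizer in the symmetric group of degree 9 of a product of three disjoint 3-cycles, and let J ≤ C_G(x) be elementary abelian of order 27 normalizing no non-trivial subgroup of G of order prime to 3. Then either J is normal in G or G is isomorphic to the symmetric group of degree 9. -/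
theorem result {G : Type*} [Group G] [Finite G]
    (x : G) (hx : orderOf x = 3)
    (eC : Subgroup.centralizer ({x} : Set G) ≃*
      Subgroup.centralizer ({Equiv.swap (0 : Fin 9) 1 * Equiv.swap 1 2 * Equiv.swap 3 4 * Equiv.swap 4 5 * Equiv.swap 6 7 * Equiv.swap 7 8} : Set (Equiv.Perm (Fin 9))))
    (J : Subgroup G) (hJC : J ≤ Subgroup.centralizer ({x} : Set G)) (hJcomm : IsMulCommutative J)
    (hJexp : ∀ j ∈ J, j ^ 3 = 1) (hJcard : Nat.card J = 27)
    (hJsig : ∀ K : Subgroup G, (Nat.card K).Coprime 3 → (∀ j ∈ J, K.map (MulAut.conj j).toMonoidHom = K) → K = ⊥) :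
    J.Normal ∨ Nonempty (G ≃* Equiv.Perm (Fin 9)) := by
  rcases S9Coord37.exists_base x hx eC J hJC hJcomm hJexp hJcard hJsig with
    ⟨φ, h⟩ | ⟨φ, h⟩ | ⟨φ, h⟩ | ⟨φ, h⟩
  · exact Or.inl (S9Small37.normal_one h)
  · exact Or.inl (S9Small37.normal_two h)
  · exact Or.inl (S9Even37.even_normal h fun j hj hj1 => S9Branch37.local_even h hj hj1)
  · by_cases h3 : Subgroup.centralizer ({φ C3} : Set G) ≤ Subgroup.normalizer (J : Set G)
    · exact Or.inl (S9Full37.full_normal_of (fun hb hl => S9Even37.even_normal hb hl) h fun j hj hj1 => S9Branch37.local_full h h3 hj hj1)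
    · obtain ⟨f, hf, hker⟩ := S9Branch37.six_quot h h3
      obtain ⟨ι, h6⟩ := S9Six37.exists_six h f hf hker
      have hF : Full J φ :=
        { inj := h.inj
          range_eq := h.range_eq
          base := S9Six37.base_eq_closure h
          cJ := h.cJ
          sylow := h.sylow
          cx := h.cx _ rfl
          cw := S9Branch37.cw h }
      obtain ⟨ψ, h9⟩ := S9Chain37.exists_nine hF h6
      exact Or.inr ⟨(MulEquiv.ofBijective ψ (S9End37.bijective_of_nine hF h9)).symm⟩

end Cfsg.Agent.S3343
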