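import Cfsg.Statements.S3348
import Cfsg.Agent.Lib.AmalgamThree19Main

set_option autoImplicit false
open Cfsg

namespace Cfsg.Agent.S3348

open Cfsg.Agent.AmalgamThree19 in
theorem sylow_le_aux {G : Type*} [Group G] [Finite G] {A E T : Subgroup G} (h : Para A E)
    (hTA : T ≤ A) (hT : Nat.card T = 27) : E ≤ T := by
  classical
  haveI : Fact (Nat.Prime 3) := ⟨Nat.prime_three⟩
  have hTc : Nat.card (T.subgroupOf A) = 27 := by
    rw [Nat.card_congr (Subgroup.subgroupOfEquivOfLe hTA).toEquiv, hT]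
  have hf : (432 : ℕ).factorization 3 = 3 := by
    rw [show (432 : ℕ) = 3 ^ 3 * 16 by norm_num, Nat.factorization_mul (by norm_num) (by norm_num)]
    rw [Nat.prime_three.factorization_pow]
    simp [Nat.factorization_eq_zero_of_not_dvd]
  let P : Sylow 3 A := Sylow.ofCard (T.subgroupOf A) (by rw [hTc, h.cardA, hf]; norm_num)
  haveI : (E.subgroupOf A).Normal := ⟨fun x hx a => by
    rw [Subgroup.mem_subgroupOf] at hx ⊢
    simpa using h.normal a a.2 x hx⟩
  have hE : IsPGroup 3 (E.subgroupOf A) := IsPGroup.of_card (n := 2) (by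
    rw [Nat.card_congr (Subgroup.subgroupOfEquivOfLe h.le).toEquiv, h.card]; norm_num)
  have hsup : (P : Subgroup A) ⊔ E.subgroupOf A = P :=
    P.3 (P.2.to_sup_of_normal_right hE) le_sup_left
  intro x hx
  have hm : (⟨x, h.le hx⟩ : A) ∈ (P : Subgroup A) :=
    hsup ▸ Subgroup.mem_sup_right (Subgroup.mem_subgroupOf.2 hx)
  simpa [P, Subgroup.mem_subgroupOf] using hm


/-- Let G be a finite group generated by isomorphic subgroups A and B such that C = A ∩ B contains a Sylow 3-subgroup of each of A and B and no non-trivial subgroup of C is normalized by both A and B. Suppose A/O₃(A) and B/O₃(B) are isomorphic to GL(2,3), that O₃(A) and O₃(B) are elementary abelian of order 9 and self-centralizing in A and B respectively (natural modules), and that for a Sylow 3-subgroup S of C the normalizer N_G(Z(S)) lies in A ∩ B. Then G is isomorphic to the Mathieu group M₁₂ or to PSL(3,3). -/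
theorem result {G : Type*} [Group G] [Finite G]
    (A B : Subgroup G) (eAB : Nonempty (A ≃* B)) (hgen : A ⊔ B = ⊤)
    (hSylA : ¬ 3 ∣ ((A ⊓ B).subgroupOf A).index) (hSylB : ¬ 3 ∣ ((A ⊓ B).subgroupOf B).index)
    (hcore : ∀ N : Subgroup G, N ≤ A ⊓ B → (∀ a ∈ A, N.map (MulAut.conj a).toMonoidHom = N) →
      (∀ b ∈ B, N.map (MulAut.conj b).toMonoidHom = N) → N = ⊥)
    (eA : A ⧸ Cfsg.pCore 3 A ≃* GL (Fin 2) (ZMod 3)) (eB : B ⧸ Cfsg.pCore 3 B ≃* GL (Fin 2) (ZMod 3))
    (hOA : IsMulCommutative (Cfsg.pCore 3 A) ∧ (∀ x ∈ Cfsg.pCore 3 A, x ^ 3 = 1) ∧ Nat.card (Cfsg.pCore 3 A) = 9 ∧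
      Subgroup.centralizer ((Cfsg.pCore 3 A : Subgroup A) : Set A) = Cfsg.pCore 3 A)
    (hOB : IsMulCommutative (Cfsg.pCore 3 B) ∧ (∀ x ∈ Cfsg.pCore 3 B, x ^ 3 = 1) ∧ Nat.card (Cfsg.pCore 3 B) = 9 ∧
      Subgroup.centralizer ((Cfsg.pCore 3 B : Subgroup B) : Set B) = Cfsg.pCore 3 B)
    (S : Sylow 3 ↥(A ⊓ B)) (Z : Subgroup G)
    (hZ : Z = ((S : Subgroup ↥(A ⊓ B)) ⊓ Subgroup.centralizer ((S : Subgroup ↥(A ⊓ B)) : Set ↥(A ⊓ B))).map (A ⊓ B).subtype)
    (hNZ : Subgroup.normalizer (Z : Set G) ≤ A ⊓ B) :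
    Cfsg.Spor.IsoM12 G ∨ Nonempty (G ≃* Matrix.ProjectiveSpecialLinearGroup (Fin 3) (ZMod 3)) := by
  classical
  haveI : Fact (Nat.Prime 3) := ⟨Nat.prime_three⟩
  have hA := Cfsg.Agent.AmalgamThree19.para_of A eA hOA
  have hB := Cfsg.Agent.AmalgamThree19.para_of B eB hOB
  set E := (Cfsg.pCore 3 A).map A.subtype with hE
  set F := (Cfsg.pCore 3 B).map B.subtype with hF
  set T := (S : Subgroup ↥(A ⊓ B)).map (A ⊓ B).subtype with hT
  have hTC : T ≤ (A ⊓ B) := Subgroup.map_subtype_le _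
  have hcard : Nat.card T = 27 := by
    rw [hT, Subgroup.card_subtype, S.card_eq_multiplicity]
    have hdvd : Nat.card ↥(A ⊓ B) ∣ 432 := hA.cardA ▸ Subgroup.card_dvd_of_le inf_le_left
    have h27 : 27 ∣ Nat.card ↥(A ⊓ B) := by
      have h := ((A ⊓ B).subgroupOf A).card_mul_index
      rw [hA.cardA, Nat.card_congr
        (Subgroup.subgroupOfEquivOfLe (inf_le_left : (A ⊓ B) ≤ A)).toEquiv] at h
      exact (Nat.Coprime.dvd_of_dvd_mul_right
        (Nat.Coprime.pow_left 3 ((Nat.prime_three.coprime_iff_not_dvd).2 hSylA))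
        (by rw [h]; norm_num : (3 : ℕ) ^ 3 ∣ Nat.card ↥(A ⊓ B) * ((A ⊓ B).subgroupOf A).index))
    have hle : (Nat.card ↥(A ⊓ B)).factorization 3 = 3 := by
      have h1 : 3 ≤ (Nat.card ↥(A ⊓ B)).factorization 3 :=
        (Nat.prime_three.pow_dvd_iff_le_factorization Nat.card_pos.ne').1 (by norm_num; exact h27)
      have h2 : (Nat.card ↥(A ⊓ B)).factorization 3 < 4 := by
        by_contra h
        have h4 := ((Nat.prime_three.pow_dvd_iff_le_factorization Nat.card_pos.ne').2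
          (not_lt.1 h)).trans hdvd
        norm_num at h4
      omega
    rw [hle]; norm_num
  have hET : E ≤ T := sylow_le_aux hA (hTC.trans inf_le_left) hcard
  have hFT : F ≤ T := sylow_le_aux hB (hTC.trans inf_le_right) hcard
  have hZT : ∀ z ∈ Z, z ∈ T ∧ ∀ t ∈ T, z * t = t * z := by
    rw [hZ]
    rintro _ ⟨u, ⟨huS, huc⟩, rfl⟩
    refine ⟨⟨u, huS, rfl⟩, ?_⟩
    rintro _ ⟨v, hv, rfl⟩
    exact (congrArg Subtype.val (Subgroup.mem_centralizer_iff.1 huc v hv)).symm
  have hne : E ≠ F := by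
    intro hEF
    have hconj : ∀ K : Subgroup G, Cfsg.Agent.AmalgamThree19.Para K E → ∀ a ∈ K,
        E.map (MulAut.conj a).toMonoidHom = E := by
      intro K hK a ha
      refine le_antisymm ?_ fun x hx => ?_
      · rintro _ ⟨x, hx, rfl⟩
        exact hK.normal a ha x hx
      · exact ⟨a⁻¹ * x * a, by simpa using hK.normal a⁻¹ (inv_mem ha) x hx,
          by simp [mul_assoc]⟩
    have h := hcore E (hET.trans hTC) (hconj A hA) (hconj B (hEF ▸ hB))
    have h9 := hA.card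
    rw [h, Subgroup.card_bot] at h9
    norm_num at h9
  have hZne : Z ≠ ⊥ := by
    haveI : Nontrivial (S : Subgroup ↥(A ⊓ B)) := by
      rw [← Finite.one_lt_card_iff_nontrivial]
      have h27 : Nat.card (S : Subgroup ↥(A ⊓ B)) = 27 := by
        rw [← hcard, hT, Subgroup.card_subtype]
      rw [h27]; norm_num
    haveI := S.2.center_nontrivial
    obtain ⟨w, hw⟩ := exists_ne (1 : Subgroup.center (S : Subgroup ↥(A ⊓ B)))
    intro hbot
    refine hw (Subtype.ext (Subtype.ext (Subtype.ext ?_)))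
    have hm : (((w : (S : Subgroup ↥(A ⊓ B))) : ↥(A ⊓ B)) : G) ∈ Z := by
      rw [hZ]
      exact ⟨w.1.1, ⟨w.1.2, Subgroup.mem_centralizer_iff.2 fun v hv =>
        congrArg Subtype.val (Subgroup.mem_center_iff.1 w.2 ⟨v, hv⟩)⟩, rfl⟩
    rw [hbot] at hm
    simpa using hm
  have hS : Cfsg.Agent.AmalgamThree19.Setup A B E F Z :=
    { pA := hA
      pB := hB
      hgen := hgen
      ne := hne
      leB := (hET.trans hTC).trans inf_le_right
      leA := (hFT.trans hTC).trans inf_le_left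
      ZE := fun z hz => hA.cent z ((hTC (hZT z hz).1).1) fun x hx => (hZT z hz).2 x (hET hx)
      ZF := fun z hz => hB.cent z ((hTC (hZT z hz).1).2) fun x hx => (hZT z hz).2 x (hFT hx)
      Zne := hZne
      hNZ := hNZ }
  obtain ⟨D⟩ := Cfsg.Agent.AmalgamThree19.exists_gens hS
  rcases D.classify with h | ⟨⟨e⟩⟩
  · exact Or.inl h
  · exact Or.inr ⟨e.trans Cfsg.Agent.CommGraphL33.projEquiv⟩

end Cfsg.Agent.S3348
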