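import Mathlib
import Cfsg.Statements.S3349
-- import your own Cfsg.Agent.* helpers here

set_option autoImplicit false
open Cfsg

namespace Cfsg.Agent.S3349

/-- Let Q be a finite extraspecial p-group and α an automorphism of Q fixing every element of some maximal abelian subgroup of Q. Then the order of α is a power of p. -/
theorem result {Q : Type*} [Group Q] [Finite Q]
    (p : ℕ) [Fact p.Prime] (hQ : Cfsg.IsExtraspecial p Q) (α : MulAut Q)
    (A : Subgroup Q) (hA : IsMulCommutative A) (hmax : ∀ B : Subgroup Q, A ≤ B → IsMulCommutative B → B = A)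
    (hfix : ∀ a ∈ A, α a = a) :
    ∃ k : ℕ, orderOf α = p ^ k := by
  have hpg : IsPGroup p Q := hQ.1.1
  have hfr : frattini Q = Subgroup.center Q := hQ.1.2.1
  have hcomm : commutator Q = Subgroup.center Q := hQ.1.2.2
  have hAc : ∀ a ∈ A, ∀ b ∈ A, a * b = b * a := by
    intro a ha b hb
    have := hA.is_comm.comm (⟨a, ha⟩ : A) ⟨b, hb⟩
    exact congrArg Subtype.val this
  have hcent : ∀ x : Q, (∀ a ∈ A, a * x = x * a) → x ∈ A := by
    intro x hx
    have hB : IsMulCommutative (Subgroup.closure (insert x (A : Set Q))) := by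
      refine Subgroup.isMulCommutative_closure ?_
      intro u hu v hv
      rcases hu with rfl | hu <;> rcases hv with rfl | hv
      · rfl
      · exact (hx v hv).symm
      · exact hx u hu
      · exact hAc u hu v hv
    have h1 : A ≤ Subgroup.closure (insert x (A : Set Q)) :=
      fun a ha => Subgroup.subset_closure (Set.mem_insert_of_mem _ ha)
    rw [← hmax _ h1 hB]
    exact Subgroup.subset_closure (Set.mem_insert _ _)
  have hZA : Subgroup.center Q ≤ A := fun z hz => hcent z fun a _ => Subgroup.mem_center_iff.1 hz a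
  have hd : ∀ q : Q, q⁻¹ * α q ∈ A := by
    intro q
    refine hcent _ fun a ha => ?_
    have h1 : q * a * q⁻¹ * a⁻¹ ∈ Subgroup.center Q := by
      rw [← hcomm]
      exact Subgroup.commutator_mem_commutator (Subgroup.mem_top q) (Subgroup.mem_top a)
    have h2 : q * a * q⁻¹ ∈ A := by
      have := A.mul_mem (hZA h1) ha
      simpa [mul_assoc] using this
    have h3 := hfix _ h2
    rw [map_mul, map_mul, map_inv, hfix a ha] at h3
    calc a * (q⁻¹ * α q) = q⁻¹ * (q * a * q⁻¹) * α q := by group
      _ = q⁻¹ * (α q * a * (α q)⁻¹) * α q := by rw [h3]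
      _ = q⁻¹ * α q * a := by group
  have hpow : ∀ (k : ℕ) (q : Q), (α ^ k) q = q * (q⁻¹ * α q) ^ k := by
    intro k q
    induction k with
    | zero => simp
    | succ k ih =>
      rw [pow_succ', MulAut.mul_apply, ih, map_mul, map_pow, hfix _ (hd q), pow_succ',
        ← mul_assoc, mul_inv_cancel_left]
  obtain ⟨n, hn⟩ := IsPGroup.iff_card.1 hpg
  have h1 : α ^ (p ^ n) = 1 := by
    ext q
    have h0 : (q⁻¹ * α q) ^ (p ^ n) = 1 := by
      rw [← hn]; exact pow_card_eq_one'
    rw [hpow, h0]
    simp
  obtain ⟨k, -, hk⟩ := (Nat.dvd_prime_pow (Fact.out (p := p.Prime))).1 (orderOf_dvd_of_pow_eq_one h1)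
  exact ⟨k, hk⟩

end Cfsg.Agent.S3349
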