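import Mathlib
import Cfsg.Statements.S3356
-- import your own Cfsg.Agent.* helpers here

set_option autoImplicit false
open Cfsg

namespace Cfsg.Agent.S3356

theorem exists_nontrivial_mem {G : Type*} [Group G] {M : Subgroup G} (h : M ≠ ⊥) : ∃ m ∈ M, m ≠ 1 := by
  by_contra hc
  push Not at hc
  exact h ((Subgroup.eq_bot_iff_forall M).2 hc)

/-- orbits of equal size divide the cardinality -/
theorem dvd_card_of_orbits {A X : Type*} [Group A] [MulAction A X] [Finite X] (k : ℕ)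
    (h : ∀ x : X, Nat.card (MulAction.orbit A x) = k) : k ∣ Nat.card X := by
  classical
  haveI := Fintype.ofFinite X
  haveI := Fintype.ofFinite (MulAction.orbitRel.Quotient A X)
  rw [Nat.card_congr (MulAction.selfEquivSigmaOrbits A X), Nat.card_sigma]
  refine Finset.dvd_sum fun ω _ => ?_
  rw [h]

set_option maxHeartbeats 1000000 in
/-- a half-transitive group of automorphisms centralises every small invariant set pointwise -/
theorem centralize_invariant_set {G : Type*} [Group G] [Finite G] (H : Subgroup G) (T : Set G) (k κ : ℕ)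
    (hκ : ∀ y ∈ T, Nat.card (H ⊓ Subgroup.centralizer {y} : Subgroup G) = κ) (hk : Nat.card H = κ * k)
    (hcop : Nat.Coprime k (Nat.card T))
    (hK : ∀ y ∈ T, ∀ h ∈ H, h * y * h⁻¹ = y → ∀ z, z ∈ T ↔ h * z * h⁻¹ ∈ T) :
    ∀ h ∈ H, (∀ z, z ∈ T ↔ h * z * h⁻¹ ∈ T) → ∀ y ∈ T, h * y * h⁻¹ = y := by
  let L : Subgroup G :=
    { carrier := {h | h ∈ H ∧ ∀ z, z ∈ T ↔ h * z * h⁻¹ ∈ T}
      one_mem' := ⟨one_mem H, fun z => by simp⟩
      mul_mem' := fun {a b} ha hb => ⟨mul_mem ha.1 hb.1, fun z => by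
        rw [hb.2 z, ha.2 (b * z * b⁻¹)]
        simp [mul_assoc]⟩
      inv_mem' := fun {a} ha => ⟨inv_mem ha.1, fun z => by
        rw [ha.2 (a⁻¹ * z * a⁻¹⁻¹)]
        simp [mul_assoc]⟩ }
  letI act : MulAction L T :=
    { smul := fun h z => ⟨(h : G) * z * (h : G)⁻¹, (h.2.2 z).1 z.2⟩
      one_smul := fun z => Subtype.ext (show ((1 : L) : G) * (z : G) * ((1 : L) : G)⁻¹ = z by simp)
      mul_smul := fun a b z => Subtype.ext (show ((a * b : L) : G) * (z : G) * ((a * b : L) : G)⁻¹ =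
        (a : G) * ((b : G) * z * (b : G)⁻¹) * (a : G)⁻¹ by simp [mul_assoc]) }
  have hstab : ∀ y : T, Nat.card (MulAction.stabilizer L y) = κ := by
    intro y
    rw [← hκ y y.2]
    refine Nat.card_congr
      { toFun := fun h => ⟨((h : L) : G), (h : L).2.1, ?_⟩
        invFun := fun h => ⟨⟨(h : G), h.2.1, hK y y.2 h h.2.1 ?_⟩, ?_⟩
        left_inv := fun _ => rfl
        right_inv := fun _ => rfl }
    · refine Subgroup.mem_centralizer_singleton_iff.2 ?_
      have e : ((h : L) : G) * y * ((h : L) : G)⁻¹ = y := congrArg Subtype.val (MulAction.mem_stabilizer_iff.1 h.2)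
      exact mul_inv_eq_iff_eq_mul.1 e
    · exact mul_inv_eq_iff_eq_mul.2 (Subgroup.mem_centralizer_singleton_iff.1 h.2.2)
    · exact Subtype.ext (mul_inv_eq_iff_eq_mul.2 (Subgroup.mem_centralizer_singleton_iff.1 h.2.2))
  intro h hh hT y hy
  have hκ0 : κ ≠ 0 := by
    rw [← hstab ⟨y, hy⟩]; exact Nat.card_pos.ne'
  obtain ⟨l, hl⟩ : κ ∣ Nat.card L := by
    rw [← hstab ⟨y, hy⟩]; exact Subgroup.card_subgroup_dvd_card _
  have horb : ∀ z : T, Nat.card (MulAction.orbit L z) = l := by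
    intro z
    have := Subgroup.card_mul_index (MulAction.stabilizer L z)
    rw [MulAction.index_stabilizer, hstab, hl] at this
    rw [Nat.card_coe_set_eq]
    exact Nat.eq_of_mul_eq_mul_left (Nat.pos_of_ne_zero hκ0) this
  have hlk : l ∣ k := by
    have := Subgroup.card_dvd_of_le (show L ≤ H from fun a ha => ha.1)
    rw [hl, hk] at this
    exact Nat.dvd_of_mul_dvd_mul_left (Nat.pos_of_ne_zero hκ0) this
  have hl1 : l = 1 := Nat.eq_one_of_dvd_coprimes hcop hlk (dvd_card_of_orbits l horb)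
  have h1 := horb ⟨y, hy⟩
  rw [hl1, Nat.card_eq_one_iff_unique] at h1
  haveI := h1.1
  have h2 := Subsingleton.elim (α := MulAction.orbit L (⟨y, hy⟩ : T))
    ⟨(⟨h, hh, hT⟩ : L) • ⟨y, hy⟩, MulAction.mem_orbit _ _⟩ ⟨⟨y, hy⟩, MulAction.mem_orbit_self _⟩
  exact congrArg (fun v : MulAction.orbit L (⟨y, hy⟩ : T) => ((v : T) : G)) h2

set_option maxHeartbeats 1000000 in
/-- Let G be a finite 3/2-transitive permutation group: G acts faithfully and transitively on a finite set, the point stabilizers are non-trivial, and for each point a all orbits of G_a on the remaining points have the same size. Suppose G has a regular normal subgroup N and G is not a Frobenius group (some two-point stabilizer is non-trivial). Then N is an elementary abelian p-group for some prime p, and every non-trivial normal subgroup of G contains N (so N is the unique minimal normal subgroup). -/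
theorem result {G Ω : Type*} [Group G] [Finite G]
    [MulAction G Ω] [FaithfulSMul G Ω] [Finite Ω] (htrans : MulAction.IsPretransitive G Ω)
    (hne : ∀ a : Ω, MulAction.stabilizer G a ≠ ⊥)
    (hhalf : ∀ a b c : Ω, b ≠ a → c ≠ a →
      Nat.card (MulAction.orbit (MulAction.stabilizer G a) b) = Nat.card (MulAction.orbit (MulAction.stabilizer G a) c))
    (N : Subgroup G) [hN : N.Normal] (hNt : MulAction.IsPretransitive N Ω) (hNr : ∀ a : Ω, MulAction.stabilizer N a = ⊥)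
    (hnotF : ∃ a b : Ω, a ≠ b ∧ MulAction.stabilizer G a ⊓ MulAction.stabilizer G b ≠ ⊥) :
    (∃ p : ℕ, p.Prime ∧ IsMulCommutative N ∧ ∀ x ∈ N, x ^ p = 1) ∧
    (∀ M : Subgroup G, M.Normal → M ≠ ⊥ → N ≤ M) := by
  classical
  obtain ⟨b₀, c₀, hbc, hne₀⟩ := hnotF
  let a := b₀
  set H := MulAction.stabilizer G a with hH
  have hNinj : ∀ x ∈ N, ∀ y ∈ N, x • a = y • a → x = y := by
    intro x hx y hy e
    have : (⟨y⁻¹ * x, mul_mem (inv_mem hy) hx⟩ : N) ∈ MulAction.stabilizer N a := by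
      rw [MulAction.mem_stabilizer_iff, Subgroup.smul_def, mul_smul, e, inv_smul_smul]
    rw [hNr a, Subgroup.mem_bot] at this
    exact (inv_mul_eq_one.1 (congrArg Subtype.val this)).symm
  have hconjsmul : ∀ h ∈ H, ∀ x : G, (h * x * h⁻¹) • a = h • x • a := by
    intro h hh x
    rw [mul_smul, mul_smul, MulAction.mem_stabilizer_iff.1 (inv_mem hh)]
  have hcomm : ∀ h ∈ H, ∀ x ∈ N, (h • x • a = x • a ↔ h ∈ Subgroup.centralizer {x}) := by
    intro h hh x hx
    rw [Subgroup.mem_centralizer_singleton_iff, ← mul_inv_eq_iff_eq_mul, ← hconjsmul h hh]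
    exact ⟨fun e => hNinj _ (hN.conj_mem x hx h) x hx e, fun e => by rw [e]⟩
  let K : G → Subgroup G := fun x => H ⊓ Subgroup.centralizer {x}
  -- a pair with non-trivial common stabiliser, moved to the base point
  obtain ⟨⟨u, hu⟩, huc⟩ := hNt.exists_smul_eq a c₀
  have hu1 : u ≠ 1 := by
    rintro rfl
    exact hbc (by simpa [Subgroup.smul_def] using huc)
  have hKu : K u ≠ ⊥ := by
    intro h
    apply hne₀
    rw [Subgroup.eq_bot_iff_forall] at h ⊢
    intro g hg
    refine h g ⟨hg.1, (hcomm g hg.1 u hu).1 ?_⟩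
    rw [show u • a = c₀ from huc]; exact hg.2
  have hκeq : ∀ x ∈ N, x ≠ 1 → Nat.card (K x) * Nat.card (MulAction.orbit H (x • a)) = Nat.card H := by
    intro x hx _
    have := Subgroup.card_mul_index (MulAction.stabilizer H (x • a))
    rw [MulAction.index_stabilizer, ← Nat.card_coe_set_eq] at this
    rw [← this]
    congr 1
    refine Nat.card_congr
      { toFun := fun g => ⟨⟨(g : G), g.2.1⟩, ?_⟩
        invFun := fun g => ⟨((g : H) : G), (g : H).2, ?_⟩
        left_inv := fun _ => rfl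
        right_inv := fun _ => rfl }
    · rw [MulAction.mem_stabilizer_iff, Subgroup.smul_def]
      exact (hcomm g g.2.1 x hx).2 g.2.2
    · exact (hcomm _ (g : H).2 x hx).1 (MulAction.mem_stabilizer_iff.1 g.2)
  have hxa : ∀ x ∈ N, x ≠ 1 → x • a ≠ a := fun x hx hx1 e => hx1 (hNinj x hx 1 (one_mem N) (by rw [e, one_smul]))
  set k := Nat.card (MulAction.orbit H (u • a)) with hkdef
  set κ := Nat.card (K u) with hκdef
  have hk : Nat.card H = κ * k := (hκeq u hu hu1).symm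
  have hkpos : 0 < k := by
    rw [hkdef, Nat.card_pos_iff]
    exact ⟨⟨⟨_, MulAction.mem_orbit_self _⟩⟩, inferInstance⟩
  have hκ : ∀ x ∈ N, x ≠ 1 → Nat.card (K x) = κ := by
    intro x hx hx1
    have := hκeq x hx hx1
    rw [hhalf a (x • a) (u • a) (hxa x hx hx1) (hxa u hu hu1), ← hkdef, hk] at this
    exact Nat.eq_of_mul_eq_mul_right hkpos this
  have hcard : Nat.card N = Nat.card Ω :=
    Nat.card_eq_of_bijective (fun x : N => x • a) ⟨fun x y e => Subtype.ext (hNinj x x.2 y y.2 e),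
      fun ω => hNt.exists_smul_eq a ω⟩
  have hcop : Nat.Coprime k (Nat.card N) := by
    letI act : MulAction H {ω : Ω // ω ≠ a} :=
      { smul := fun h ω => ⟨(h : G) • ω.1, fun e => ω.2 (by
          have : (h : G) • ω.1 = (h : G) • a := e.trans (MulAction.mem_stabilizer_iff.1 h.2).symm
          exact (smul_left_cancel _ this))⟩
        one_smul := fun ω => Subtype.ext (one_smul G ω.1)
        mul_smul := fun g h ω => Subtype.ext (mul_smul (g : G) (h : G) ω.1) }
    have hdvd : k ∣ Nat.card {ω : Ω // ω ≠ a} := by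
      refine dvd_card_of_orbits (A := H) k fun ω => ?_
      rw [hkdef, ← hhalf a ω.1 (u • a) ω.2 (hxa u hu hu1)]
      rw [Nat.card_coe_set_eq, Nat.card_coe_set_eq, ← Set.ncard_image_of_injective _ Subtype.val_injective]
      congr 1
      ext v
      constructor
      · rintro ⟨_, ⟨h, rfl⟩, rfl⟩; exact ⟨h, rfl⟩
      · rintro ⟨h, rfl⟩; exact ⟨h • ω, ⟨h, rfl⟩, rfl⟩
    have h1 : Nat.card {ω : Ω // ω ≠ a} + 1 = Nat.card Ω := by
      have := Set.ncard_add_ncard_compl ({a} : Set Ω)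
      rw [Set.ncard_singleton, ← Nat.card_coe_set_eq] at this
      rw [add_comm]
      exact this
    rw [hcard, ← h1, Nat.coprime_iff_gcd_eq_one]
    obtain ⟨d, hd⟩ := hdvd
    rw [hd]
    simp [Nat.gcd_comm]
  have hK1 : ∀ x ∈ N, x ≠ 1 → K x ≠ ⊥ := by
    intro x hx hx1 e
    have h1 := hκ x hx hx1
    rw [e, Subgroup.card_bot] at h1
    exact hKu (Subgroup.eq_bot_of_card_eq _ h1.symm)
  have hKeq : ∀ x ∈ N, x ≠ 1 → ∀ y ∈ N, y ≠ 1 → K x ≤ K y → K x = K y := fun x hx hx1 y hy hy1 h =>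
    Subgroup.eq_of_le_of_card_ge h (by rw [hκ x hx hx1, hκ y hy hy1])
  -- nothing centralises all of N
  have hfaith : ∀ h ∈ H, (∀ x ∈ N, h ∈ Subgroup.centralizer {x}) → h = 1 := by
    intro h hh hall
    refine FaithfulSMul.eq_of_smul_eq_smul (α := Ω) fun ω => ?_
    obtain ⟨⟨x, hx⟩, rfl⟩ := hNt.exists_smul_eq a ω
    rw [one_smul]
    exact (hcomm h hh x hx).2 (hall x hx)
  have hcent : ∀ (h x : G), h * x * h⁻¹ = x → h ∈ Subgroup.centralizer {x} := fun h x e =>
    Subgroup.mem_centralizer_singleton_iff.2 (mul_inv_eq_iff_eq_mul.1 e)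
  have hcent' : ∀ (h x : G), h ∈ Subgroup.centralizer {x} → h * x * h⁻¹ = x := fun h x e =>
    mul_inv_eq_iff_eq_mul.2 (Subgroup.mem_centralizer_singleton_iff.1 e)
  -- no proper non-trivial invariant subgroup
  have hirr : ∀ M : Subgroup G, M ≤ N → (∀ h ∈ H, ∀ m ∈ M, h * m * h⁻¹ ∈ M) → M ≠ ⊥ → M = N := by
    intro M hMN hinv hM
    by_contra hne'
    obtain ⟨x₀, hx₀, hx₀M⟩ := SetLike.not_le_iff_exists.1 fun h => hne' (le_antisymm hMN h)
    obtain ⟨m₀, hm₀, hm₀1⟩ := exists_nontrivial_mem hM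
    have hout : ∀ x ∈ N, x ∉ M → ∀ m ∈ M, K x ≤ Subgroup.centralizer {m} := by
      intro x hx hxM m hm h hh
      let T : Set G := (fun m => x * m) '' (M : Set G)
      have hTN : ∀ y ∈ T, y ∈ N ∧ y ≠ 1 := by
        rintro _ ⟨n, hn, rfl⟩
        exact ⟨mul_mem hx (hMN hn), fun e => hxM (by rw [eq_inv_of_mul_eq_one_left e]; exact inv_mem hn)⟩
      have hTmem : ∀ z, z ∈ T ↔ x⁻¹ * z ∈ M := fun z =>
        ⟨fun ⟨n, hn, e⟩ => by rw [← e, inv_mul_cancel_left]; exact hn, fun hz => ⟨x⁻¹ * z, hz, mul_inv_cancel_left _ _⟩⟩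
      have hpres : ∀ y ∈ T, ∀ g ∈ H, g * y * g⁻¹ = y → ∀ z, z ∈ T ↔ g * z * g⁻¹ ∈ T := by
        intro y hy g hg e z
        rw [hTmem] at hy
        have e2 : x⁻¹ * (g * z * g⁻¹) = (x⁻¹ * y) * (g * ((x⁻¹ * y)⁻¹ * (x⁻¹ * z)) * g⁻¹) := by
          calc x⁻¹ * (g * z * g⁻¹) = x⁻¹ * ((g * y * g⁻¹) * (g * (y⁻¹ * z) * g⁻¹)) := by group
            _ = x⁻¹ * (y * (g * (y⁻¹ * z) * g⁻¹)) := by rw [e]
            _ = _ := by group
        rw [hTmem, hTmem, e2]
        constructor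
        · intro hz; exact mul_mem hy (hinv g hg _ (mul_mem (inv_mem hy) hz))
        · intro hz
          have h1 := mul_mem (inv_mem hy) hz
          rw [inv_mul_cancel_left] at h1
          have h2 := hinv g⁻¹ (inv_mem hg) _ h1
          have h3 : (x⁻¹ * y)⁻¹ * (x⁻¹ * z) ∈ M := by simpa [mul_assoc] using h2
          simpa [mul_assoc] using mul_mem hy h3
      have hcard' : Nat.card T = Nat.card M := by
        rw [Nat.card_coe_set_eq, Set.ncard_image_of_injective _ (mul_right_injective x)]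
        rfl
      have hxT : x ∈ T := ⟨1, one_mem M, mul_one x⟩
      have key := centralize_invariant_set H T k κ (fun y hy => hκ y (hTN y hy).1 (hTN y hy).2) hk
        (hcard' ▸ Nat.Coprime.coprime_dvd_right (Subgroup.card_dvd_of_le hMN) hcop) hpres h hh.1
        (hpres x hxT h hh.1 (hcent' h x hh.2))
      refine hcent h m ?_
      have e1 := key (x * m) ⟨m, hm, rfl⟩
      have e2 := hcent' h x hh.2
      calc h * m * h⁻¹ = (h * x * h⁻¹)⁻¹ * (h * (x * m) * h⁻¹) := by group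
        _ = m := by rw [e1, e2, inv_mul_cancel_left]
    have heq : ∀ x ∈ N, x ∉ M → ∀ m ∈ M, m ≠ 1 → K x = K m := fun x hx hxM m hm hm1 =>
      hKeq x hx (fun e => hxM (e ▸ one_mem M)) m (hMN hm) hm1 (le_inf inf_le_left (hout x hx hxM m hm))
    apply hK1 x₀ hx₀ (fun e => hx₀M (e ▸ one_mem M))
    rw [Subgroup.eq_bot_iff_forall]
    intro h hh
    refine hfaith h hh.1 fun y hy => ?_
    by_cases hyM : y ∈ M
    · exact hout x₀ hx₀ hx₀M y hyM hh
    · have e := heq x₀ hx₀ hx₀M m₀ hm₀ hm₀1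
      rw [← heq y hy hyM m₀ hm₀ hm₀1] at e
      exact (e ▸ hh : h ∈ K y).2
  -- stabilisers centralise conjugacy classes of N
  have hclass : ∀ x ∈ N, x ≠ 1 → ∀ g ∈ N, K x ≤ Subgroup.centralizer {g * x * g⁻¹} := by
    intro x hx hx1 g hg h hh
    let T : Set G := (fun v : N => (v : G)) '' MulAction.orbit (ConjAct N) (⟨x, hx⟩ : N)
    have hTmem : ∀ z, z ∈ T ↔ ∃ g ∈ N, z = g * x * g⁻¹ := by
      intro z
      constructor
      · rintro ⟨_, ⟨c, rfl⟩, rfl⟩
        exact ⟨_, (ConjAct.ofConjAct c).2, rfl⟩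
      · rintro ⟨g, hg, rfl⟩
        exact ⟨_, ⟨ConjAct.toConjAct ⟨g, hg⟩, rfl⟩, rfl⟩
    have hTN : ∀ y ∈ T, y ∈ N ∧ y ≠ 1 := by
      intro y hy
      obtain ⟨g, hg, rfl⟩ := (hTmem y).1 hy
      exact ⟨mul_mem (mul_mem hg hx) (inv_mem hg), fun e => hx1 (conj_eq_one_iff.1 e)⟩
    have hpres : ∀ y ∈ T, ∀ f ∈ H, f * y * f⁻¹ = y → ∀ z, z ∈ T ↔ f * z * f⁻¹ ∈ T := by
      intro y hy f hf e z
      obtain ⟨g₀, hg₀, rfl⟩ := (hTmem y).1 hy
      have hfwd : ∀ f : G, f * (g₀ * x * g₀⁻¹) * f⁻¹ = g₀ * x * g₀⁻¹ → ∀ z, z ∈ T → f * z * f⁻¹ ∈ T := by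
        intro f e z hz
        obtain ⟨g₁, hg₁, rfl⟩ := (hTmem z).1 hz
        refine (hTmem _).2 ⟨(f * (g₁ * g₀⁻¹) * f⁻¹) * g₀,
          mul_mem (hN.conj_mem _ (mul_mem hg₁ (inv_mem hg₀)) f) hg₀, ?_⟩
        calc f * (g₁ * x * g₁⁻¹) * f⁻¹
            = (f * (g₁ * g₀⁻¹) * f⁻¹) * (f * (g₀ * x * g₀⁻¹) * f⁻¹) * (f * (g₁ * g₀⁻¹) * f⁻¹)⁻¹ := by group
          _ = _ := by rw [e]; group
      refine ⟨hfwd f e z, fun hz => ?_⟩
      have := hfwd f⁻¹ (by nth_rewrite 1 [← e]; group) _ hz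
      simpa [mul_assoc] using this
    have hxT : x ∈ T := (hTmem x).2 ⟨1, one_mem N, by simp⟩
    have hcard' : Nat.card T ∣ Nat.card N := by
      rw [Nat.card_coe_set_eq, Set.ncard_image_of_injective _ Subtype.val_injective,
        ← MulAction.index_stabilizer]
      exact (Subgroup.index_dvd_card _).trans (dvd_of_eq (Nat.card_congr ConjAct.ofConjAct.toEquiv))
    exact hcent h _ (centralize_invariant_set H T k κ (fun y hy => hκ y (hTN y hy).1 (hTN y hy).2) hk
      (Nat.Coprime.coprime_dvd_right hcard' hcop) hpres h hh.1 (hpres x hxT h hh.1 (hcent' h x hh.2))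
      _ ((hTmem _).2 ⟨g, hg, rfl⟩))
  -- N is commutative
  have hdiff : ∀ x ∈ N, x ≠ 1 → ∀ y ∈ N, y ≠ 1 → K x ≠ K y → x * y = y * x := by
    intro x hx hx1 y hy hy1 hxy
    by_contra hz
    have hz1 : x * y * x⁻¹ * y⁻¹ ≠ 1 := fun e => hz (by
      calc x * y = (x * y * x⁻¹ * y⁻¹) * (y * x) := by group
        _ = y * x := by rw [e, one_mul])
    have hzN : x * y * x⁻¹ * y⁻¹ ∈ N := mul_mem (mul_mem (mul_mem hx hy) (inv_mem hx)) (inv_mem hy)
    have h1 : K y ≤ K (x * y * x⁻¹ * y⁻¹) := fun h hh => ⟨hh.1, hcent h _ (by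
      calc h * (x * y * x⁻¹ * y⁻¹) * h⁻¹ = (h * (x * y * x⁻¹) * h⁻¹) * (h * y * h⁻¹)⁻¹ := by group
        _ = _ := by rw [hcent' h _ (hclass y hy hy1 x hx hh), hcent' h y hh.2])⟩
    have h2 : K x ≤ K (x * y * x⁻¹ * y⁻¹) := fun h hh => ⟨hh.1, hcent h _ (by
      calc h * (x * y * x⁻¹ * y⁻¹) * h⁻¹ = (h * x * h⁻¹) * (h * (y * x * y⁻¹) * h⁻¹)⁻¹ := by group
        _ = x * (y * x * y⁻¹)⁻¹ := by rw [hcent' h _ (hclass x hx hx1 y hy hh), hcent' h x hh.2]
        _ = _ := by group)⟩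
    exact hxy ((hKeq x hx hx1 _ hzN hz1 h2).trans (hKeq y hy hy1 _ hzN hz1 h1).symm)
  have hab : ∀ x ∈ N, ∀ y ∈ N, x * y = y * x := by
    intro x hx y hy
    by_cases hx1 : x = 1
    · simp [hx1]
    by_cases hy1 : y = 1
    · simp [hy1]
    by_cases hxy : K x = K y
    · obtain ⟨w, hw, hwx⟩ : ∃ w ∈ N, ¬ K x ≤ Subgroup.centralizer {w} := by
        by_contra hcon
        push Not at hcon
        exact hK1 x hx hx1 ((Subgroup.eq_bot_iff_forall _).2 fun h hh => hfaith h hh.1 fun y hy => hcon y hy hh)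
      have hw1 : w ≠ 1 := by
        rintro rfl
        exact hwx fun h _ => hcent h 1 (by simp)
      have h1 : x * w = w * x := hdiff x hx hx1 w hw hw1 fun e => hwx (e ▸ inf_le_right)
      have hyw : ¬ K x ≤ Subgroup.centralizer {y * w} := fun hle => hwx fun h hh => hcent h w (by
        calc h * w * h⁻¹ = (h * y * h⁻¹)⁻¹ * (h * (y * w) * h⁻¹) := by group
          _ = w := by rw [hcent' h y (hxy ▸ hh : h ∈ K y).2, hcent' h _ (hle hh), inv_mul_cancel_left])
      have hyw1 : y * w ≠ 1 := fun e => hyw fun h _ => hcent h _ (by rw [e]; simp)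
      have h2 : x * (y * w) = y * w * x := hdiff x hx hx1 _ (mul_mem hy hw) hyw1 fun e => hyw (e ▸ inf_le_right)
      calc x * y = x * (y * w) * w⁻¹ := by group
        _ = y * w * x * w⁻¹ := by rw [h2]
        _ = y * x := by rw [mul_assoc y w x, ← h1]; group
    · exact hdiff x hx hx1 y hy hy1 hxy
  have hN1 : N ≠ ⊥ := fun e => hu1 (Subgroup.mem_bot.1 (e ▸ hu))
  constructor
  · have hnt : 1 < Nat.card N := by
      rw [Finite.one_lt_card_iff_nontrivial, Subgroup.nontrivial_iff_ne_bot]; exact hN1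
    obtain ⟨p, hp, hpd⟩ := Nat.exists_prime_and_dvd hnt.ne'
    haveI := Fact.mk hp
    obtain ⟨c, hc⟩ := exists_prime_orderOf_dvd_card' p hpd
    let M : Subgroup G :=
      { carrier := {x | x ∈ N ∧ x ^ p = 1}
        one_mem' := ⟨one_mem N, one_pow p⟩
        mul_mem' := fun {v w} hv hw => ⟨mul_mem hv.1 hw.1, by
          rw [(show Commute v w from hab v hv.1 w hw.1).mul_pow, hv.2, hw.2, one_mul]⟩
        inv_mem' := fun {v} hv => ⟨inv_mem hv.1, by rw [inv_pow, hv.2, inv_one]⟩ }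
    have hMne : M ≠ ⊥ := by
      intro e
      have hcm : (c : G) ∈ M := ⟨c.2, by rw [← hc, ← SubgroupClass.coe_pow, pow_orderOf_eq_one]; rfl⟩
      rw [e, Subgroup.mem_bot] at hcm
      have : c = 1 := Subtype.ext hcm
      rw [this, orderOf_one] at hc
      exact hp.one_lt.ne hc
    have hMN : M = N := hirr M (fun v hv => hv.1)
      (fun h hh m hm => ⟨hN.conj_mem m hm.1 h, by rw [conj_pow, hm.2, mul_one, mul_inv_cancel]⟩) hMne
    refine ⟨p, hp, ⟨⟨fun v w => Subtype.ext (hab v v.2 w w.2)⟩⟩, fun x hx => ?_⟩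
    rw [← hMN] at hx
    exact hx.2
  · intro M hMn hM
    by_cases hMN : M ⊓ N = ⊥
    · exfalso
      obtain ⟨m, hm, hm1⟩ := exists_nontrivial_mem hM
      have hcen : ∀ x ∈ N, m * x = x * m := fun x hx =>
        Subgroup.commute_of_normal_of_disjoint M N hMn hN (disjoint_iff.2 hMN) m x hm hx
      obtain ⟨⟨v, hv⟩, hvm⟩ := hNt.exists_smul_eq a (m • a)
      have hh : v⁻¹ * m ∈ H := by
        rw [hH, MulAction.mem_stabilizer_iff, mul_smul, ← hvm]
        exact inv_smul_smul v a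
      have hone := hfaith _ hh fun x hx => hcent _ x (by
        calc v⁻¹ * m * x * (v⁻¹ * m)⁻¹ = v⁻¹ * (m * x * m⁻¹) * v := by group
          _ = v⁻¹ * (x * v) := by rw [hcen x hx, mul_inv_cancel_right, mul_assoc]
          _ = x := by rw [hab x hx v hv, inv_mul_cancel_left])
      rw [inv_mul_eq_one] at hone
      subst hone
      exact hm1 (Subgroup.mem_bot.1 (hMN ▸ Subgroup.mem_inf.2 ⟨hm, hv⟩))
    · have := hirr (M ⊓ N) inf_le_right
        (fun h hh m hm => ⟨hMn.conj_mem m hm.1 h, hN.conj_mem m hm.2 h⟩) hMN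
      exact this ▸ inf_le_left

end Cfsg.Agent.S3356
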