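import Mathlib
import Cfsg.Statements.S3362
-- import your own Cfsg.Agent.* helpers here

set_option autoImplicit false
open Cfsg

namespace Cfsg.Agent.S3362

/-- the eight generators -/
def gen : Fin 8 → Equiv.Perm (Fin 12) :=
  ![Equiv.swap (3 : Fin 12) 5 * Equiv.swap (3 : Fin 12) 4 * Equiv.swap (6 : Fin 12) 8 * Equiv.swap (6 : Fin 12) 7 * Equiv.swap (9 : Fin 12) 11 * Equiv.swap (9 : Fin 12) 10,
    Equiv.swap (3 : Fin 12) 9 * Equiv.swap (3 : Fin 12) 6 * Equiv.swap (4 : Fin 12) 10 * Equiv.swap (4 : Fin 12) 7 * Equiv.swap (5 : Fin 12) 11 * Equiv.swap (5 : Fin 12) 8,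
    Equiv.swap (4 : Fin 12) 9 * Equiv.swap (4 : Fin 12) 5 * Equiv.swap (4 : Fin 12) 6 * Equiv.swap (7 : Fin 12) 10 * Equiv.swap (7 : Fin 12) 11 * Equiv.swap (7 : Fin 12) 8,
    Equiv.swap (4 : Fin 12) 11 * Equiv.swap (4 : Fin 12) 5 * Equiv.swap (4 : Fin 12) 7 * Equiv.swap (6 : Fin 12) 8 * Equiv.swap (6 : Fin 12) 9 * Equiv.swap (6 : Fin 12) 10,
    Equiv.swap (4 : Fin 12) 8 * Equiv.swap (4 : Fin 12) 5 * Equiv.swap (4 : Fin 12) 10 * Equiv.swap (6 : Fin 12) 7 * Equiv.swap (6 : Fin 12) 9 * Equiv.swap (6 : Fin 12) 11,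
    Equiv.swap (0 : Fin 12) 3 * Equiv.swap (6 : Fin 12) 7 * Equiv.swap (8 : Fin 12) 10 * Equiv.swap (9 : Fin 12) 11,
    Equiv.swap (0 : Fin 12) 1 * Equiv.swap (6 : Fin 12) 9 * Equiv.swap (7 : Fin 12) 10 * Equiv.swap (8 : Fin 12) 11,
    Equiv.swap (1 : Fin 12) 2 * Equiv.swap (6 : Fin 12) 11 * Equiv.swap (7 : Fin 12) 9 * Equiv.swap (8 : Fin 12) 10]

/-- their value tables -/
def genCode : Fin 8 → List ℕ :=
  ![[0, 1, 2, 4, 5, 3, 7, 8, 6, 10, 11, 9],
    [0, 1, 2, 6, 7, 8, 9, 10, 11, 3, 4, 5],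
    [0, 1, 2, 3, 6, 9, 5, 8, 11, 4, 7, 10],
    [0, 1, 2, 3, 7, 11, 10, 5, 6, 8, 9, 4],
    [0, 1, 2, 3, 10, 8, 11, 6, 4, 7, 5, 9],
    [3, 1, 2, 0, 4, 5, 7, 6, 10, 11, 8, 9],
    [1, 0, 2, 3, 4, 5, 9, 10, 11, 6, 7, 8],
    [0, 2, 1, 3, 4, 5, 11, 9, 10, 7, 8, 6]]

/-- the value table of a permutation -/
def code (p : Equiv.Perm (Fin 12)) : List ℕ := List.ofFn fun x => (p x).val

/-- composition of value tables -/
def comp (P Q : List ℕ) : List ℕ := Q.map fun x => P.getD x 0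

theorem code_injective : Function.Injective code := by
  intro p q h
  ext x : 1
  exact Fin.ext (congrFun (List.ofFn_injective h) x)

theorem code_getD (p : Equiv.Perm (Fin 12)) (x : Fin 12) (d : ℕ) : (code p).getD x.val d = (p x).val := by
  rw [code, List.getD_eq_getElem _ _ (by rw [List.length_ofFn]; exact x.isLt), List.getElem_ofFn]

theorem code_mul (p q : Equiv.Perm (Fin 12)) : code (p * q) = comp (code p) (code q) := by
  apply List.ext_getElem
  · rw [code, comp, List.length_ofFn, List.length_map, code, List.length_ofFn]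
  · intro i h1 h2
    simp only [comp, List.getElem_map]
    simp only [code, List.getElem_ofFn]
    exact (code_getD p _ 0).symm

theorem genCode_eq : ∀ i, code (gen i) = genCode i := by decide +kernel

/-- the element spelled by a word -/
def val (r : List (Fin 8)) : Equiv.Perm (Fin 12) := (r.map gen).prod

/-- the value table spelled by a word -/
def ev (r : List (Fin 8)) : List ℕ := r.foldr (fun i P => comp (genCode i) P) (List.range 12)

theorem code_one : code 1 = List.range 12 := by decide +kernel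

theorem code_val (r : List (Fin 8)) : code (val r) = ev r := by
  induction r with
  | nil => exact code_one
  | cons i r ih =>
    rw [val, List.map_cons, List.prod_cons, code_mul, genCode_eq, ← val, ih]
    rfl

/-- one level of a stabiliser chain -/
structure Lv where
  /-- base point -/
  b : Fin 12
  /-- generators -/
  gs : List (Fin 8)
  /-- transversal -/
  T : List (List (Fin 8))

/-- the group of a chain -/
def grp : List Lv → Subgroup (Equiv.Perm (Fin 12))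
  | [] => ⊥
  | l :: _ => Subgroup.closure {p | ∃ i ∈ l.gs, p = gen i}

/-- the products of transversal elements -/
def prods : List Lv → Set (Equiv.Perm (Fin 12))
  | [] => {1}
  | l :: ls => {p | ∃ r ∈ l.T, ∃ x ∈ prods ls, p = val r * x}

/-- sifting -/
def sift : List Lv → List ℕ → List ℕ → Bool
  | [], P, Q => P == Q
  | l :: ls, P, Q =>
    match l.T.find? (fun r => (comp P (ev r)).getD l.b.val 12 == Q.getD l.b.val 12) with
    | none => false
    | some r => sift ls (comp P (ev r)) Q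

theorem sift_sound : ∀ (ls : List Lv) (p q : Equiv.Perm (Fin 12)), sift ls (code p) (code q) = true →
    ∃ x ∈ prods ls, q = p * x := by
  intro ls
  induction ls with
  | nil =>
    intro p q h
    refine ⟨1, rfl, ?_⟩
    rw [mul_one, code_injective (beq_iff_eq.1 h)]
  | cons l ls ih =>
    intro p q h
    rw [sift] at h
    split at h
    · simp at h
    · rename_i r hr
      rw [← code_val, ← code_mul] at h
      obtain ⟨x, hx, rfl⟩ := ih _ _ h
      exact ⟨val r * x, ⟨r, List.mem_of_find?_eq_some hr, x, hx, rfl⟩, mul_assoc _ _ _⟩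

/-- the certificate of a chain -/
def check : List Lv → Bool
  | [] => true
  | l :: ls =>
    check ls &&
    (l.gs.all fun s => l.T.all fun r => sift (l :: ls) (List.range 12) (comp (genCode s) (ev r))) &&
    (l.T.all fun r => r.all fun i => l.gs.contains i) &&
    l.T.contains [] &&
    decide ((l.T.map fun r => (ev r).getD l.b.val 12).Nodup) &&
    (match ls with
    | [] => true
    | l' :: _ => l'.gs.all fun i => l.gs.contains i && (genCode i).getD l.b.val 12 == l.b.val)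

theorem val_mem {l : Lv} {ls : List Lv} {r : List (Fin 8)} (h : ∀ i ∈ r, i ∈ l.gs) :
    val r ∈ grp (l :: ls) := by
  refine Subgroup.list_prod_mem _ fun p hp => ?_
  obtain ⟨i, hi, rfl⟩ := List.mem_map.1 hp
  exact Subgroup.subset_closure ⟨i, h i hi, rfl⟩

/-- what a certificate gives at one level -/
theorem check_cons {l : Lv} {ls : List Lv} (h : check (l :: ls) = true) :
    check ls = true ∧ (∀ s ∈ l.gs, ∀ r ∈ l.T, ∃ y ∈ prods (l :: ls), gen s * val r = y) ∧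
    (∀ r ∈ l.T, val r ∈ grp (l :: ls)) ∧ [] ∈ l.T ∧
    (∀ r ∈ l.T, ∀ r' ∈ l.T, val r l.b = val r' l.b → r = r') ∧
    l.T.Nodup ∧ grp ls ≤ grp (l :: ls) ∧
    grp ls ≤ MulAction.stabilizer (Equiv.Perm (Fin 12)) l.b := by
  simp only [check, Bool.and_eq_true, List.all_eq_true, decide_eq_true_eq] at h
  obtain ⟨⟨⟨⟨⟨h1, h2⟩, h3⟩, h4⟩, h5⟩, h6⟩ := h
  refine ⟨h1, fun s hs r hr => ?_, fun r hr => val_mem fun i hi => ?_, ?_, fun r hr r' hr' e => ?_, ?_, ?_, ?_⟩
  · have := h2 s hs r hr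
    rw [← code_val, ← genCode_eq, ← code_mul, ← code_one] at this
    obtain ⟨x, hx, e⟩ := sift_sound _ _ _ this
    exact ⟨x, hx, by rw [e, one_mul]⟩
  · exact List.contains_iff_mem.1 (h3 r hr i hi)
  · exact List.contains_iff_mem.1 h4
  · refine List.inj_on_of_nodup_map h5 hr hr' ?_
    rw [← code_val, ← code_val, code_getD, code_getD, e]
  · exact h5.of_map _
  · cases ls with
    | nil => exact bot_le
    | cons l' ls =>
      rw [List.all_eq_true] at h6
      refine Subgroup.closure_mono ?_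
      rintro _ ⟨i, hi, rfl⟩
      exact ⟨i, List.contains_iff_mem.1 (Bool.and_eq_true _ _ ▸ h6 i hi).1, rfl⟩
  · cases ls with
    | nil => exact bot_le
    | cons l' ls =>
      rw [List.all_eq_true] at h6
      refine (Subgroup.closure_le _).2 ?_
      rintro _ ⟨i, hi, rfl⟩
      have := (Bool.and_eq_true _ _ ▸ h6 i hi).2
      rw [← genCode_eq, code_getD, beq_iff_eq] at this
      exact Fin.ext this

theorem prods_eq : ∀ ls : List Lv, check ls = true → prods ls = (grp ls : Set (Equiv.Perm (Fin 12))) := by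
  intro ls
  induction ls with
  | nil => intro _; simp [prods, grp]
  | cons l ls ih =>
    intro h
    obtain ⟨h1, hstep, hval, hnil, -, -, hle, -⟩ := check_cons h
    have hY := ih h1
    have hsub : prods (l :: ls) ⊆ (grp (l :: ls) : Set (Equiv.Perm (Fin 12))) := by
      rintro _ ⟨r, hr, x, hx, rfl⟩
      exact mul_mem (hval r hr) (hle (hY ▸ hx : x ∈ (grp ls : Set (Equiv.Perm (Fin 12)))))
    have hone : (1 : Equiv.Perm (Fin 12)) ∈ prods (l :: ls) :=
      ⟨[], hnil, 1, hY ▸ one_mem (grp ls), by simp [val]⟩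
    have hmul : ∀ s ∈ l.gs, ∀ p ∈ prods (l :: ls), gen s * p ∈ prods (l :: ls) := by
      rintro s hs _ ⟨r, hr, x, hx, rfl⟩
      obtain ⟨_, ⟨r', hr', y, hy, rfl⟩, e⟩ := hstep s hs r hr
      rw [hY] at hx hy
      exact ⟨r', hr', y * x, hY ▸ mul_mem hy hx, by rw [← mul_assoc, e, mul_assoc]⟩
    have hinv : ∀ s ∈ l.gs, ∀ p ∈ prods (l :: ls), (gen s)⁻¹ * p ∈ prods (l :: ls) := by
      intro s hs p hp
      have := Set.eq_of_subset_of_ncard_le (Set.image_subset_iff.2 fun q hq => hmul s hs q hq :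
        (gen s * ·) '' prods (l :: ls) ⊆ prods (l :: ls))
        (by rw [Set.ncard_image_of_injective _ (mul_right_injective _)]) (Set.toFinite _)
      obtain ⟨q, hq, e⟩ := this.symm ▸ hp
      rw [← e, inv_mul_cancel_left]; exact hq
    refine Set.Subset.antisymm hsub fun p hp => ?_
    refine Subgroup.closure_induction_left (p := fun p _ => p ∈ prods (l :: ls)) hone
      (fun a ha b _ hb => ?_) (fun a ha b _ hb => ?_) (SetLike.mem_coe.1 hp)
    · obtain ⟨s, hs, rfl⟩ := ha; exact hmul s hs b hb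
    · obtain ⟨s, hs, rfl⟩ := ha; exact hinv s hs b hb

theorem grp_eq_bot_or {l : Lv} {ls : List Lv} (h : check (l :: ls) = true) :
    grp (l :: ls) ⊓ MulAction.stabilizer (Equiv.Perm (Fin 12)) l.b = grp ls ∧
    Nat.card (grp (l :: ls)) = l.T.length * Nat.card (grp ls) := by
  obtain ⟨h1, -, hval, hnil, hinj, hnd, hle, hfix⟩ := check_cons h
  have hX := prods_eq _ h
  have hY := prods_eq _ h1
  have hb : ∀ r, ∀ x ∈ grp ls, (val r * x) l.b = val r l.b := by
    intro r x hx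
    rw [Equiv.Perm.mul_apply, show x l.b = l.b from hfix hx]
  constructor
  · refine le_antisymm (fun p hp => ?_) (le_inf hle hfix)
    obtain ⟨r, hr, x, hx, rfl⟩ := (hX.symm ▸ hp.1 : p ∈ prods (l :: ls))
    rw [hY] at hx
    have e : val r l.b = val [] l.b := by rw [← hb r x hx]; exact hp.2.trans rfl
    rw [hinj r hr [] hnil e]
    simpa [val] using hx
  · let f : Fin l.T.length × grp ls → grp (l :: ls) := fun v =>
      ⟨val l.T[v.1] * v.2, mul_mem (hval _ (List.getElem_mem _)) (hle v.2.2)⟩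
    have hf : Function.Bijective f := by
      constructor
      · rintro ⟨i, x⟩ ⟨j, y⟩ e
        have e' : val l.T[i] * (x : Equiv.Perm (Fin 12)) = val l.T[j] * y := congrArg Subtype.val e
        have hij : i = j := by
          have := hinj _ (List.getElem_mem i.isLt) _ (List.getElem_mem j.isLt)
            (by rw [← hb _ _ x.2, ← hb _ _ y.2]; exact congrArg (fun p : Equiv.Perm (Fin 12) => p l.b) e')
          exact Fin.ext (hnd.getElem_inj_iff.1 this)
        subst hij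
        exact Prod.ext rfl (Subtype.ext (mul_left_cancel e'))
      · rintro ⟨p, hp⟩
        obtain ⟨r, hr, x, hx, rfl⟩ := (hX.symm ▸ hp : p ∈ prods (l :: ls))
        obtain ⟨i, hi, rfl⟩ := List.getElem_of_mem hr
        rw [hY] at hx
        exact ⟨(⟨i, hi⟩, ⟨x, hx⟩), rfl⟩
    rw [← Nat.card_eq_of_bijective f hf, Nat.card_prod, Nat.card_fin]

/-- the chain -/
def chain : List Lv := [
  ⟨2, [0, 1, 2, 3, 4, 5, 6, 7], [[], [7], [6, 7], [5, 6, 7], [0, 5, 6, 7], [1, 5, 6, 7], [0, 0, 5, 6, 7], [1, 0, 5, 6, 7], [1, 1, 5, 6, 7], [4, 0, 5, 6, 7], [4, 1, 5, 6, 7], [1, 0, 0, 5, 6, 7]]⟩,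
  ⟨1, [0, 1, 2, 3, 4, 5, 6], [[], [6], [5, 6], [0, 5, 6], [1, 5, 6], [0, 0, 5, 6], [1, 0, 5, 6], [1, 1, 5, 6], [4, 0, 5, 6], [4, 1, 5, 6], [1, 0, 0, 5, 6]]⟩,
  ⟨0, [0, 1, 2, 3, 4, 5], [[], [5], [0, 5], [1, 5], [0, 0, 5], [1, 0, 5], [1, 1, 5], [4, 0, 5], [4, 1, 5], [1, 0, 0, 5]]⟩,
  ⟨3, [0, 1, 2, 3, 4], [[], [0], [1], [0, 0], [1, 0], [1, 1], [4, 0], [4, 1], [1, 0, 0]]⟩,
  ⟨4, [2, 3, 4], [[], [2], [3], [4], [2, 2], [2, 3], [3, 4], [4, 2]]⟩]

theorem check_chain : check chain = true := by decide +kernel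

/-- An explicit construction of the Mathieu groups of degrees 11 and 12. On the points 0, …, 11 let s = (3 4 5)(6 7 8)(9 10 11), t = (3 6 9)(4 7 10)(5 8 11), u = (4 6 5 9)(7 8 11 10), v = (4 7 5 11)(6 10 9 8), w = (4 10 5 8)(6 11 9 7), x₁ = (0 3)(6 7)(8 10)(9 11), x₂ = (0 1)(6 9)(7 10)(8 11), x₃ = (1 2)(6 11)(7 9)(8 10) (each written as a product of transpositions). Then the group M₁₂ generated by all eight permutations is sharply 5-transitive on the 12 points and has order 95040, and the group M₁₁ generated by the first seven has order 7920 and is the stabilizer of the point 2 in M₁₂. -/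
theorem result
    (s t u v w x₁ x₂ x₃ : Equiv.Perm (Fin 12))
    (hs : s = Equiv.swap (3 : Fin 12) 5 * Equiv.swap (3 : Fin 12) 4 * Equiv.swap (6 : Fin 12) 8 * Equiv.swap (6 : Fin 12) 7 * Equiv.swap (9 : Fin 12) 11 * Equiv.swap (9 : Fin 12) 10) (ht : t = Equiv.swap (3 : Fin 12) 9 * Equiv.swap (3 : Fin 12) 6 * Equiv.swap (4 : Fin 12) 10 * Equiv.swap (4 : Fin 12) 7 * Equiv.swap (5 : Fin 12) 11 * Equiv.swap (5 : Fin 12) 8)
    (hu : u = Equiv.swap (4 : Fin 12) 9 * Equiv.swap (4 : Fin 12) 5 * Equiv.swap (4 : Fin 12) 6 * Equiv.swap (7 : Fin 12) 10 * Equiv.swap (7 : Fin 12) 11 * Equiv.swap (7 : Fin 12) 8) (hv : v = Equiv.swap (4 : Fin 12) 11 * Equiv.swap (4 : Fin 12) 5 * Equiv.swap (4 : Fin 12) 7 * Equiv.swap (6 : Fin 12) 8 * Equiv.swap (6 : Fin 12) 9 * Equiv.swap (6 : Fin 12) 10) (hw : w = Equiv.swap (4 : Fin 12) 8 * Equiv.swap (4 : Fin 12) 5 * Equiv.swap (4 : Fin 12) 10 * Equiv.swap (6 : Fin 12) 7 * Equiv.swap (6 : Fin 12) 9 * Equiv.swap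 (6 : Fin 12) 11)
    (hx₁ : x₁ = Equiv.swap (0 : Fin 12) 3 * Equiv.swap (6 : Fin 12) 7 * Equiv.swap (8 : Fin 12) 10 * Equiv.swap (9 : Fin 12) 11) (hx₂ : x₂ = Equiv.swap (0 : Fin 12) 1 * Equiv.swap (6 : Fin 12) 9 * Equiv.swap (7 : Fin 12) 10 * Equiv.swap (8 : Fin 12) 11)
    (hx₃ : x₃ = Equiv.swap (1 : Fin 12) 2 * Equiv.swap (6 : Fin 12) 11 * Equiv.swap (7 : Fin 12) 9 * Equiv.swap (8 : Fin 12) 10)
    (M₁₂ M₁₁ : Subgroup (Equiv.Perm (Fin 12))) (hM₁₂ : M₁₂ = Subgroup.closure {s, t, u, v, w, x₁, x₂, x₃})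
    (hM₁₁ : M₁₁ = Subgroup.closure {s, t, u, v, w, x₁, x₂}) :
    MulAction.IsMultiplyPretransitive M₁₂ (Fin 12) 5 ∧ (∀ y : Fin 5 ↪ Fin 12, MulAction.stabilizer M₁₂ y = ⊥) ∧
    Nat.card M₁₂ = 95040 ∧ Nat.card M₁₁ = 7920 ∧
    M₁₁ = M₁₂ ⊓ MulAction.stabilizer (Equiv.Perm (Fin 12)) (2 : Fin 12) := by
  classical
  have hset : ({s, t, u, v, w, x₁, x₂, x₃} : Set (Equiv.Perm (Fin 12))) = {p | ∃ i ∈ [0, 1, 2, 3, 4, 5, 6, (7 : Fin 8)], p = gen i} := by
    subst hs ht hu hv hw hx₁ hx₂ hx₃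
    ext p; simp [gen]
  have hset' : ({s, t, u, v, w, x₁, x₂} : Set (Equiv.Perm (Fin 12))) = {p | ∃ i ∈ [0, 1, 2, 3, 4, 5, (6 : Fin 8)], p = gen i} := by
    subst hs ht hu hv hw hx₁ hx₂ hx₃
    ext p; simp [gen]
  have h0 : check chain = true := check_chain
  have e12 : M₁₂ = grp chain := by rw [hM₁₂, hset]; rfl
  have e11 : M₁₁ = grp chain.tail := by rw [hM₁₁, hset']; rfl
  have h1 := (check_cons h0).1
  have h2 := (check_cons h1).1
  have h3 := (check_cons h2).1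
  have h4 := (check_cons h3).1
  obtain ⟨s0, c0⟩ := grp_eq_bot_or h0
  obtain ⟨s1, c1⟩ := grp_eq_bot_or h1
  obtain ⟨s2, c2⟩ := grp_eq_bot_or h2
  obtain ⟨s3, c3⟩ := grp_eq_bot_or h3
  obtain ⟨s4, c4⟩ := grp_eq_bot_or h4
  have c5 : Nat.card (grp []) = 1 := Subgroup.card_bot
  have hc11 : Nat.card M₁₁ = 7920 := by
    rw [e11, show chain.tail = _ from rfl]; simp [chain] at *; omega
  have hc12 : Nat.card M₁₂ = 95040 := by
    rw [e12]; simp [chain] at *; omega
  let base : Fin 5 ↪ Fin 12 := ⟨![2, 1, 0, 3, 4], by decide⟩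
  have hfree : ∀ p ∈ M₁₂, (∀ i, p (base i) = base i) → p = 1 := by
    intro p hp hfix
    rw [e12] at hp
    have m1 : p ∈ grp _ := s0 ▸ Subgroup.mem_inf.2 ⟨hp, hfix 0⟩
    have m2 : p ∈ grp _ := s1 ▸ Subgroup.mem_inf.2 ⟨m1, hfix 1⟩
    have m3 : p ∈ grp _ := s2 ▸ Subgroup.mem_inf.2 ⟨m2, hfix 2⟩
    have m4 : p ∈ grp _ := s3 ▸ Subgroup.mem_inf.2 ⟨m3, hfix 3⟩
    have m5 : p ∈ grp _ := s4 ▸ Subgroup.mem_inf.2 ⟨m4, hfix 4⟩
    exact Subgroup.mem_bot.1 m5
  have hsurj : Function.Surjective fun g : M₁₂ => g • base := by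
    refine ((Nat.bijective_iff_injective_and_card _).2 ⟨fun g h e => ?_, ?_⟩).2
    · have := hfree ((h : Equiv.Perm (Fin 12))⁻¹ * g) (mul_mem (inv_mem h.2) g.2) fun i => by
        rw [Equiv.Perm.mul_apply, Equiv.Perm.inv_eq_iff_eq]
        exact congrFun (congrArg DFunLike.coe e) i
      exact Subtype.ext (inv_mul_eq_one.1 this).symm
    · rw [hc12, Nat.card_eq_fintype_card, Fintype.card_embedding_eq]
      simp [Nat.descFactorial]
  haveI hpre : MulAction.IsPretransitive M₁₂ (Fin 5 ↪ Fin 12) := MulAction.IsPretransitive.mk fun a b => by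
    obtain ⟨g, rfl⟩ := hsurj a
    obtain ⟨h, rfl⟩ := hsurj b
    exact ⟨h * g⁻¹, DFunLike.ext _ _ fun i => by
      show ((h : Equiv.Perm (Fin 12)) * (g : Equiv.Perm (Fin 12))⁻¹) ((g : Equiv.Perm (Fin 12)) (base i)) = (h : Equiv.Perm (Fin 12)) (base i)
      simp⟩
  refine ⟨hpre, fun y => ?_, hc12, hc11, ?_⟩
  · obtain ⟨g, rfl⟩ := hsurj y
    rw [Subgroup.eq_bot_iff_forall]
    intro h hh
    have := hfree (g⁻¹ * h * g : M₁₂) (g⁻¹ * h * g).2 fun i => by
      have e : (h : Equiv.Perm (Fin 12)) ((g : Equiv.Perm (Fin 12)) (base i)) = (g : Equiv.Perm (Fin 12)) (base i) :=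
        congrFun (congrArg DFunLike.coe (MulAction.mem_stabilizer_iff.1 hh)) i
      show ((g : Equiv.Perm (Fin 12))⁻¹ * (h : Equiv.Perm (Fin 12)) * (g : Equiv.Perm (Fin 12))) (base i) = base i
      rw [Equiv.Perm.mul_apply, Equiv.Perm.mul_apply, e, Equiv.Perm.inv_eq_iff_eq]
    have h1 : g⁻¹ * h * g = 1 := Subtype.ext this
    calc h = g * (g⁻¹ * h * g) * g⁻¹ := by group
      _ = 1 := by rw [h1, mul_one, mul_inv_cancel]
  · rw [e11, e12]; exact s0.symm

end Cfsg.Agent.S3362
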