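import Cfsg.Statements.S3366
import Mathlib
import Cfsg.Agent.Lib.HeisSLModel29
import Cfsg.Agent.Lib.HeisFrame29
import Cfsg.Agent.Lib.SymplecticSimple
import Cfsg.Agent.Lib.SymplecticOrder

set_option autoImplicit false
open Cfsg

namespace Cfsg.Agent.S3366

open Subgroup Cfsg.Agent Cfsg.Agent.HeisFrame29
open scoped MatrixGroups commutatorElement

theorem sl2_pow_cases : ∀ a b c d : ZMod 3,
    (!![a, b; c, d] : Matrix (Fin 2) (Fin 2) (ZMod 3)) ^ 4 = 1 →
      !![a, b; c, d] ^ 2 = (1 : Matrix (Fin 2) (Fin 2) (ZMod 3)) ∨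
        (!![a, b; c, d] : Matrix (Fin 2) (Fin 2) (ZMod 3)) ^ 2 = -1 := by
  decide

theorem sl2_eight : ∀ a b c d : ZMod 3, a * d - b * c = 1 →
    (!![a, b; c, d] : Matrix (Fin 2) (Fin 2) (ZMod 3)) ^ 8 = 1 →
      (!![a, b; c, d] : Matrix (Fin 2) (Fin 2) (ZMod 3)) ^ 4 = 1 := by
  decide

theorem sl2_normal : ∀ a b c d : ZMod 3, a * d - b * c = 1 →
    let A : Matrix (Fin 2) (Fin 2) (ZMod 3) := !![a, b; c, d]
    let Ai : Matrix (Fin 2) (Fin 2) (ZMod 3) := !![d, -b; -c, a]
    A = 1 ∨ A = -1 ∨ A ^ 2 = -1 ∨ A ^ 3 = -1 ∨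
      (!![0, -1; 1, 0] * A * !![0, 1; -1, 0] * Ai) ^ 2 = -1 := by
  decide

theorem sl2_squares : ∀ a b c d : ZMod 3, a * d - b * c = 1 →
    let A : Matrix (Fin 2) (Fin 2) (ZMod 3) := !![a, b; c, d]
    A ^ 4 = A ∨ A ^ 4 = -A ∨ (A * !![1, 1; 0, 1]) ^ 4 = A * !![1, 1; 0, 1] ∨
      (A * !![1, 1; 0, 1]) ^ 4 = -(A * !![1, 1; 0, 1]) := by
  decide

theorem sl2_count : (Finset.univ.filter fun v : ZMod 3 × ZMod 3 × ZMod 3 × ZMod 3 =>
    v.1 * v.2.2.2 - v.2.1 * v.2.2.1 = 1 ∧
      (!![v.1, v.2.1; v.2.2.1, v.2.2.2] : Matrix (Fin 2) (Fin 2) (ZMod 3)) ^ 4 = 1).card = 8 := by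
  decide

theorem sl2_card : (Finset.univ.filter fun v : ZMod 3 × ZMod 3 × ZMod 3 × ZMod 3 =>
    v.1 * v.2.2.2 - v.2.1 * v.2.2.1 = 1).card = 24 := by
  decide

/-- `SL₂(3)` in four coordinates. -/
noncomputable def sl2Equiv : SL(2, ZMod 3) ≃
    {v : ZMod 3 × ZMod 3 × ZMod 3 × ZMod 3 // v.1 * v.2.2.2 - v.2.1 * v.2.2.1 = 1} where
  toFun A := ⟨(A.1 0 0, A.1 0 1, A.1 1 0, A.1 1 1), by
    show A.1 0 0 * A.1 1 1 - A.1 0 1 * A.1 1 0 = 1
    rw [← Matrix.det_fin_two]; exact A.2⟩
  invFun v := ⟨!![v.1.1, v.1.2.1; v.1.2.2.1, v.1.2.2.2], by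
    rw [Matrix.det_fin_two_of]; exact v.2⟩
  left_inv A := Subtype.ext (Matrix.eta_fin_two A.1).symm
  right_inv v := Subtype.ext (by simp)

theorem natCard_sl2 : Nat.card SL(2, ZMod 3) = 24 := by
  rw [Nat.card_congr sl2Equiv, Nat.card_eq_fintype_card, Fintype.card_subtype]
  exact sl2_card

theorem natCard_sl2_four : Nat.card {A : SL(2, ZMod 3) // A ^ 4 = 1} = 8 := by
  have h : ∀ A : SL(2, ZMod 3), A ^ 4 = 1 ↔
      (!![A.1 0 0, A.1 0 1; A.1 1 0, A.1 1 1] : Matrix (Fin 2) (Fin 2) (ZMod 3)) ^ 4 = 1 := by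
    intro A
    rw [← Matrix.eta_fin_two A.1]
    exact ⟨fun h => by simpa using congrArg Subtype.val h, fun h => Subtype.ext (by simpa using h)⟩
  refine (Nat.card_congr ((sl2Equiv.subtypeEquiv (q := fun v =>
      (!![v.1.1, v.1.2.1; v.1.2.2.1, v.1.2.2.2] : Matrix (Fin 2) (Fin 2) (ZMod 3)) ^ 4 = 1) h).trans
    (Equiv.subtypeSubtypeEquivSubtypeInter _ (fun v : ZMod 3 × ZMod 3 × ZMod 3 × ZMod 3 =>
      (!![v.1, v.2.1; v.2.2.1, v.2.2.2] : Matrix (Fin 2) (Fin 2) (ZMod 3)) ^ 4 = 1)))).trans ?_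
  rw [Nat.card_eq_fintype_card, Fintype.card_subtype]
  exact sl2_count

theorem sl2_entries (A : SL(2, ZMod 3)) : A.1 0 0 * A.1 1 1 - A.1 0 1 * A.1 1 0 = 1 := by
  rw [← Matrix.det_fin_two]; exact A.2

section Conj

variable {X : Type*} [Group X] {R : Subgroup X} [R.Normal]

/-- Conjugation on `R`. -/
def cj (g : X) : R →* R := (MulAut.conjNormal g).toMonoidHom

theorem cj_coe (g : X) (r : R) : (cj g r : X) = g * r * g⁻¹ := MulAut.conjNormal_apply g r

theorem cj_mul (g h : X) : cj (R := R) (g * h) = (cj g).comp (cj h) := by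
  ext r
  simp only [cj_coe, MonoidHom.comp_apply]
  group

theorem cj_center (g : X) (r : R) (hr : r ∈ center R) : cj g r ∈ center R := by
  rw [mem_center_iff] at hr ⊢
  intro s
  have h := congrArg (cj g) (hr (cj g⁻¹ s))
  have e : cj g (cj g⁻¹ s) = s := by
    apply Subtype.ext
    simp only [cj_coe]
    group
  rwa [map_mul, map_mul, e] at h

/-- The action on `R / Z(R)`. -/
noncomputable def MM (fr : Frame R) : X →* Matrix (Fin 2) (Fin 2) (ZMod 3) where
  toFun g := fr.mat (cj g)
  map_one' := by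
    have : cj (R := R) (1 : X) = MonoidHom.id R := by
      ext r; simp [cj_coe]
    rw [this, fr.mat_id]
  map_mul' g h := by rw [cj_mul, fr.mat_comp (cj_center g)]

theorem MM_of_mem (fr : Frame R) {r : X} (hr : r ∈ R) : MM fr r = 1 := by
  have h : ∀ x : R, fr.proj (cj r x) = fr.proj x := by
    intro x
    have : cj r x = ⟨r, hr⟩ * x * ⟨r, hr⟩⁻¹ := Subtype.ext (by simp [cj_coe])
    rw [this, fr.proj_mul, fr.proj_mul, fr.proj_inv]
    abel
  show fr.mat (cj r) = 1
  rw [← fr.mat_id]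
  ext i j
  exact congrFun (h _) i

theorem det_MM (fr : Frame R) (e : X ⧸ R ≃* SL(2, ZMod 3)) (g : X) : (MM fr g).det = 1 := by
  let ρ : X ⧸ R →* Matrix (Fin 2) (Fin 2) (ZMod 3) :=
    QuotientGroup.lift R (MM fr) fun r hr => MM_of_mem fr hr
  let χ : SL(2, ZMod 3) →* ZMod 3 :=
    (Matrix.detMonoidHom.comp ρ).comp e.symm.toMonoidHom
  have hsq : ∀ A, χ (A ^ 2) = 1 := by
    intro A
    have hu : χ A ≠ 0 := by
      intro h0
      have := map_mul χ A A⁻¹
      rw [mul_inv_cancel, map_one, h0, zero_mul] at this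
      exact one_ne_zero this
    rw [map_pow]
    exact (by decide : ∀ a : ZMod 3, a ≠ 0 → a ^ 2 = 1) _ hu
  have hall : ∀ A, χ A = 1 := by
    intro A
    let S1 : SL(2, ZMod 3) := ⟨!![1, 1; 0, 1], by decide⟩
    let J : SL(2, ZMod 3) := ⟨!![0, -1; 1, 0], by decide⟩
    have hS1 : χ S1 = 1 := by
      let S2 : SL(2, ZMod 3) := ⟨!![1, 2; 0, 1], by decide⟩
      rw [show S1 = S2 ^ 2 from Subtype.ext (by rw [Matrix.SpecialLinearGroup.coe_pow]; decide)]
      exact hsq _
    have hm1 : χ (J ^ 2) = 1 := hsq J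
    have hJ : (J ^ 2).1 = -1 := by decide
    have key : ∀ B : SL(2, ZMod 3), B.1 ^ 4 = B.1 ∨ B.1 ^ 4 = -B.1 → χ B = 1 := by
      intro B hB
      rcases hB with hB | hB
      · rw [show B = (B ^ 2) ^ 2 from Subtype.ext (by
          rw [← pow_mul, Matrix.SpecialLinearGroup.coe_pow]; exact hB.symm)]
        exact hsq _
      · rw [show B = J ^ 2 * (B ^ 2) ^ 2 from Subtype.ext (by
          rw [Matrix.SpecialLinearGroup.coe_mul, hJ, ← pow_mul, Matrix.SpecialLinearGroup.coe_pow,
            hB, neg_mul, one_mul, neg_neg]), map_mul, hm1, one_mul]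
        exact hsq _
    have h5 := sl2_squares _ _ _ _ (sl2_entries A)
    simp only at h5
    rw [← Matrix.eta_fin_two A.1] at h5
    rcases h5 with h5 | h5 | h5 | h5
    · exact key A (Or.inl h5)
    · exact key A (Or.inr h5)
    all_goals
      have := key (A * S1) (by
        rw [Matrix.SpecialLinearGroup.coe_mul]
        first | exact Or.inl h5 | exact Or.inr h5)
      rwa [map_mul, hS1, mul_one] at this
  have h := hall (e (g : X ⧸ R))
  change (ρ (e.symm (e (g : X ⧸ R)))).det = 1 at h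
  rwa [e.symm_apply_apply] at h

end Conj

set_option maxHeartbeats 2000000 in
/-- The key construction. -/
theorem exists_hom {X : Type*} [Group X] [Finite X] {R : Subgroup X} [R.Normal]
    (hR : Cfsg.IsExtraspecial 3 R) (hRcard : Nat.card R = 27) (hRexp : ∀ r ∈ R, r ^ 3 = 1)
    (e : X ⧸ R ≃* SL(2, ZMod 3)) (hO2 : Cfsg.pCore 2 X = ⊥)
    (hE : ∃ E : Subgroup X, IsMulCommutative E ∧ (∀ a ∈ E, a ^ 3 = 1) ∧ Nat.card E = 27)
    {F : Type*} [Field F] (ι : ZMod 3 →+* F) (hι : Function.Surjective ι) :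
    ∃ φ : X →* Matrix.symplecticGroup (Fin 2) F, Function.Injective φ ∧
      ∀ g, g ∈ φ.range ↔ g • (HeisSLModel29.eVec : _ → F) = HeisSLModel29.eVec := by
  classical
  obtain ⟨u1, u2, hne⟩ : ∃ a b : R, ⁅b, a⁆ ≠ 1 := by
    by_contra h
    push Not at h
    have htop : center R = ⊤ := eq_top_iff.2 fun a _ => mem_center_iff.2 fun b =>
      commutatorElement_eq_one_iff_mul_comm.1 (h a b)
    have := hR.2
    rw [htop, Subgroup.card_top, hRcard] at this
    omega
  let fr0 : Frame R :=
    { x1 := u1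
      x2 := u2
      exp := fun r => Subtype.ext (hRexp r r.2)
      card := hRcard
      central := fun a b => hR.1.2.2 ▸ commutator_mem_commutator (mem_top a) (mem_top b)
      ne := hne }
  let J : SL(2, ZMod 3) := ⟨!![0, -1; 1, 0], by decide⟩
  obtain ⟨s, hs⟩ := QuotientGroup.mk_surjective (e.symm J)
  let t : X := s ^ 6
  have hq : ∀ g : X, g ∈ R ↔ e (g : X ⧸ R) = 1 := fun g => by
    rw [map_eq_one_iff e e.injective, QuotientGroup.eq_one_iff]
  have hst : e ((s : X) : X ⧸ R) = J := by rw [hs, e.apply_symm_apply]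
  have het : e (t : X ⧸ R) = J ^ 2 := by
    show e ((s ^ 6 : X) : X ⧸ R) = _
    rw [QuotientGroup.mk_pow, map_pow, hst]
    decide
  have ht2 : t * t = 1 := by
    have h1 : s ^ 4 ∈ R := by
      rw [hq, QuotientGroup.mk_pow, map_pow, hst]
      decide
    have h2 := hRexp _ h1
    show s ^ 6 * s ^ 6 = 1
    rw [← pow_add]
    rwa [← pow_mul] at h2
  have htinv : t⁻¹ = t := inv_eq_of_mul_eq_one_right ht2
  -- `M t = -1`
  have hMt0 : ∀ fr : Frame R, MM fr t = -1 := by
    intro fr
    have hne1 : MM fr t ≠ 1 := by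
      intro h1
      have hz : cj t fr.z = fr.z := by
        apply fr.ext
        · rw [fr.proj_map (cj_center t), fr.proj_z, Matrix.mulVec_zero]
        · rw [fr.ht_map_z, fr.ht_z]
          exact det_MM fr e t
      have hfix : ∀ x : R, cj t x = x := by
        intro x
        have hp : fr.proj (cj t x) = fr.proj x := by
          rw [fr.proj_map (cj_center t), show fr.mat (cj t) = 1 from h1, Matrix.one_mulVec]
        have h2 : fr.proj (cj t x * x⁻¹) = 0 := by rw [fr.proj_mul, fr.proj_inv, hp, add_neg_cancel]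
        set j := fr.ht (cj t x * x⁻¹)
        have hx : cj t x = pw fr.z j * x := by rw [← fr.eq_pw_z h2, inv_mul_cancel_right]
        have hx2 : cj t (cj t x) = x := by
          apply Subtype.ext
          simp only [cj_coe, htinv]
          calc t * (t * (x : X) * t) * t = (t * t) * x * (t * t) := by group
            _ = x := by rw [ht2, one_mul, mul_one]
        rw [hx, map_mul, hx, show cj t (pw fr.z j) = pw fr.z j by rw [pw, map_pow, hz],
          ← mul_assoc, ← pw_add (fr.exp _)] at hx2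
        have h3 := mul_eq_right.1 hx2
        rw [← fr.el_z] at h3
        have h4 := (fr.el_eq_one h3).2.2
        have hj : j = 0 := by
          have h5 : (3 : ZMod 3) = 0 := by decide
          linear_combination (-h4) + j * h5
        rw [hx, hj, pw_zero, one_mul]
      have hcomm : ∀ x ∈ R, t * x = x * t := by
        intro x hx
        have := congrArg Subtype.val (hfix ⟨x, hx⟩)
        rw [cj_coe] at this
        exact mul_inv_eq_iff_eq_mul.1 this
      have hcen : ∀ g : X, g * t = t * g := by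
        intro g
        set r := g * t * g⁻¹ * t⁻¹ with hr
        have hrR : r ∈ R := by
          rw [hq, hr]
          simp only [QuotientGroup.mk_mul, QuotientGroup.mk_inv, map_mul, map_inv, het]
          generalize e (g : X ⧸ R) = B
          have : B * J ^ 2 = J ^ 2 * B := by
            apply Subtype.ext
            rw [Matrix.SpecialLinearGroup.coe_mul, Matrix.SpecialLinearGroup.coe_mul,
              show (J ^ 2).1 = -1 by decide]
            simp
          rw [this]
          group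
        have h2 : r ^ 2 = 1 := by
          have e1 : (r * t) * (r * t) = 1 := by
            rw [hr, inv_mul_cancel_right]
            calc g * t * g⁻¹ * (g * t * g⁻¹) = g * (t * t) * g⁻¹ := by group
              _ = 1 := by rw [ht2]; group
          rw [← e1, pow_two]
          calc r * r = r * r * (t * t) := by rw [ht2, mul_one]
            _ = r * (r * t) * t := by group
            _ = r * (t * r) * t := by rw [hcomm r hrR]
            _ = r * t * (r * t) := by group
        have h3 : r = 1 := by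
          have := hRexp r hrR
          rwa [pow_succ, h2, one_mul] at this
        rw [hr, mul_inv_eq_one, mul_inv_eq_iff_eq_mul] at h3
        exact h3
      have hZ : (zpowers t).Normal := PGroupsBasic.normal_of_le_center
        (zpowers_le.2 (mem_center_iff.2 hcen))
      have ht1 : orderOf t ∣ 2 ^ 1 := orderOf_dvd_of_pow_eq_one (by rw [pow_one, pow_two, ht2])
      obtain ⟨k, -, hk⟩ := (Nat.dvd_prime_pow Nat.prime_two).1 ht1
      have hle : zpowers t ≤ Cfsg.pCore 2 X :=
        le_sSup ⟨hZ, IsPGroup.of_card (n := k) (by rw [Nat.card_zpowers, hk])⟩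
      rw [hO2, le_bot_iff, zpowers_eq_bot] at hle
      rw [hle, QuotientGroup.mk_one, map_one] at het
      revert het
      decide
    have h2 : MM fr t = MM fr s ^ 2 := by
      have : s⁻¹ ^ 2 * t ∈ R := by
        rw [hq, QuotientGroup.mk_mul, map_mul, het, QuotientGroup.mk_pow, map_pow,
          QuotientGroup.mk_inv, map_inv, hst]
        decide
      have h3 := MM_of_mem fr this
      rw [← map_pow]
      calc MM fr t = MM fr (s ^ 2 * (s⁻¹ ^ 2 * t)) := by
            rw [inv_pow, mul_inv_cancel_left]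
        _ = MM fr (s ^ 2) := by rw [map_mul, h3, mul_one]
    have h4 : MM fr s ^ 4 = 1 := by
      rw [show 4 = 2 * 2 from rfl, pow_mul, ← h2, pow_two, ← map_mul, ht2, map_one]
    rw [Matrix.eta_fin_two (MM fr s)] at h4 h2
    rcases sl2_pow_cases _ _ _ _ h4 with h | h
    · exact absurd (h2.trans h) hne1
    · exact h2.trans h
  -- a frame inverted by `t`
  have hz_fix : ∀ (fr : Frame R) (g : X), cj g fr.z = fr.z := by
    intro fr g
    apply fr.ext
    · rw [fr.proj_map (cj_center g), fr.proj_z, Matrix.mulVec_zero]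
    · rw [fr.ht_map_z, fr.ht_z]
      exact det_MM fr e g
  have hinv : ∀ x : R, ∃ m, cj t (x * pw fr0.z m) = (x * pw fr0.z m)⁻¹ := by
    intro x
    refine ⟨fr0.ht (cj t x) + fr0.ht x, fr0.ext ?_ ?_⟩
    · rw [fr0.proj_map (cj_center t), show fr0.mat (cj t) = -1 from hMt0 fr0, Matrix.neg_mulVec,
        Matrix.one_mulVec, fr0.proj_inv]
    · rw [map_mul, show cj t (pw fr0.z _) = pw fr0.z _ from by rw [pw, map_pow, hz_fix fr0],
        fr0.ht_mul, fr0.ht_inv, fr0.ht_mul, ← fr0.el_z, fr0.ht_el, fr0.proj_el]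
      have h5 : (3 : ZMod 3) = 0 := by decide
      simp only [Matrix.cons_val_zero, Matrix.cons_val_one]
      linear_combination (fr0.ht (cj t x) + fr0.ht x) * h5
  obtain ⟨m1, hm1⟩ := hinv u1
  obtain ⟨m2, hm2⟩ := hinv u2
  let fr : Frame R :=
    { fr0 with
      x1 := u1 * pw fr0.z m1
      x2 := u2 * pw fr0.z m2
      ne := by
        intro h
        apply hne
        have h' := commutatorElement_eq_one_iff_mul_comm.1 h
        rw [commutatorElement_eq_one_iff_mul_comm]
        have hp := fun r k => fr0.pwz_comm r k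
        have e1 : ∀ (a b : R) (i j : ZMod 3), a * pw fr0.z i * (b * pw fr0.z j) =
            a * b * (pw fr0.z i * pw fr0.z j) := by
          intro a b i j
          rw [mul_assoc a, ← mul_assoc (pw fr0.z i), hp b i]
          group
        rw [e1, e1, hp (pw fr0.z m1) m2] at h'
        exact mul_right_cancel h' }
  let Φ : X →* SL(2, ZMod 3) :=
    { toFun := fun g => ⟨MM fr g, det_MM fr e g⟩
      map_one' := Subtype.ext (map_one _)
      map_mul' := fun g h => Subtype.ext (map_mul _ g h) }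
  have hΦR : ∀ r ∈ R, Φ r = 1 := fun r hr => Subtype.ext (MM_of_mem fr hr)
  have hΦt : (Φ t).1 = -1 := hMt0 fr
  have hΦker : ∀ g, Φ g = 1 → g ∈ R := by
    intro g hg
    by_contra hgR
    have key : ∀ w, Φ w = 1 → (e (w : X ⧸ R)).1 ≠ -1 := by
      intro w hw hw1
      have : w⁻¹ * t ∈ R := by
        rw [hq, QuotientGroup.mk_mul, map_mul, QuotientGroup.mk_inv, map_inv, het,
          inv_mul_eq_one]
        exact Subtype.ext (hw1.trans (by decide))
      have h2 := hΦR _ this
      rw [map_mul, map_inv, hw, inv_one, one_mul] at h2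
      rw [h2] at hΦt
      revert hΦt
      decide
    set A := e (g : X ⧸ R) with hA
    have h := sl2_normal _ _ _ _ (sl2_entries A)
    simp only at h
    rw [← Matrix.eta_fin_two A.1] at h
    rcases h with h | h | h | h | h
    · exact hgR ((hq g).2 (Subtype.ext h))
    · exact key g hg h
    · exact key (g ^ 2) (by rw [map_pow, hg, one_pow]) (by
        rw [QuotientGroup.mk_pow, map_pow, Matrix.SpecialLinearGroup.coe_pow]; exact h)
    · exact key (g ^ 3) (by rw [map_pow, hg, one_pow]) (by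
        rw [QuotientGroup.mk_pow, map_pow, Matrix.SpecialLinearGroup.coe_pow]; exact h)
    · refine key ((s * g * s⁻¹ * g⁻¹) ^ 2)
        (by simp [map_mul, map_inv, hg]) ?_
      simp only [QuotientGroup.mk_pow, QuotientGroup.mk_mul, QuotientGroup.mk_inv, map_pow, map_mul,
        map_inv, ← hA, hst, Matrix.SpecialLinearGroup.coe_pow, Matrix.SpecialLinearGroup.coe_mul,
        Matrix.SpecialLinearGroup.coe_inv, Matrix.adjugate_fin_two]
      simpa [J] using h
  have hΦsurj : Function.Surjective Φ := by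
    have hinj : Function.Injective (QuotientGroup.lift R Φ hΦR) := by
      rw [← MonoidHom.ker_eq_bot_iff, eq_bot_iff]
      intro q hq'
      obtain ⟨g, rfl⟩ := QuotientGroup.mk_surjective q
      exact mem_bot.2 ((QuotientGroup.eq_one_iff g).2 (hΦker g hq'))
    have hbij := (Nat.bijective_iff_injective_and_card _).2
      ⟨hinj, Nat.card_congr e.toEquiv⟩
    intro A
    obtain ⟨q, hq'⟩ := hbij.2 A
    obtain ⟨g, rfl⟩ := QuotientGroup.mk_surjective q
    exact ⟨g, hq'⟩
  -- the action of `t`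
  have htz : ∀ j, cj t (pw fr.z j) = pw fr.z j := fun j => by rw [pw, map_pow, hz_fix fr]
  have htel : ∀ a b k, cj t (fr.el a b k) = fr.el (-a) (-b) k := by
    intro a b k
    have hp : ∀ (x : R) (a : ZMod 3), cj t (pw x a) = pw (cj t x) a := fun x a => map_pow (cj t) x a.val
    have hi : ∀ (x : R) (a : ZMod 3), pw x⁻¹ a = (pw x a)⁻¹ := fun x a => inv_pow x a.val
    rw [Frame.el, map_mul, map_mul, htz, Frame.el, hp, hp, pw_neg (fr.exp _), pw_neg (fr.exp _),
      show cj t fr.x1 = fr.x1⁻¹ from hm1, show cj t fr.x2 = fr.x2⁻¹ from hm2, hi, hi]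
  have htproj : ∀ r, fr.proj (cj t r) = -fr.proj r := fun r => by
    rw [← fr.el_co r, htel, fr.proj_el, fr.proj_el]
    funext i; fin_cases i <;> simp
  have hht : ∀ r, fr.ht (cj t r) = fr.ht r := fun r => by
    rw [← fr.el_co r, htel, fr.ht_el, fr.ht_el]; ring
  set C := centralizer ({t} : Set X) with hC
  have hmemC : ∀ g, g ∈ C ↔ g * t = t * g := fun g => mem_centralizer_singleton_iff
  have hCht : ∀ g ∈ C, ∀ r, fr.ht (cj g r) = fr.ht r := by
    intro g hg r
    have hgt := (hmemC g).1 hg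
    set w := r * pw fr.z (-fr.ht r)
    have hw0 : fr.ht w = 0 := by
      rw [fr.ht_mul, ← fr.el_z, fr.ht_el, fr.proj_el]; simp
    have hwinv : cj t w = w⁻¹ := fr.ext (by rw [htproj, fr.proj_inv]) (by
      rw [hht, fr.ht_inv, hw0, neg_zero])
    have hcomm : cj t (cj g w) = cj g (cj t w) := by
      have e1 := cj_mul (R := R) t g
      have e2 := cj_mul (R := R) g t
      rw [← hgt, e2] at e1
      exact (DFunLike.congr_fun e1 w).symm
    have h0 : fr.ht (cj g w) = 0 := by
      have h1 := congrArg fr.ht hcomm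
      rw [hht, hwinv, map_inv, fr.ht_inv] at h1
      have h5 : (3 : ZMod 3) = 0 := by decide
      linear_combination (-1) * h1 + fr.ht (cj g w) * h5
    have e3 : r = w * pw fr.z (fr.ht r) := by
      rw [mul_assoc, ← pw_add (fr.exp _), neg_add_cancel, pw_zero, mul_one]
    conv_lhs => rw [e3]
    rw [map_mul, show cj g (pw fr.z _) = pw fr.z _ by rw [pw, map_pow, hz_fix fr g],
      fr.ht_mul, h0, ← fr.el_z, fr.ht_el, fr.proj_el]
    simp
  -- every element is a product `R · C`
  have hsplit : ∀ g : X, ∃ x : R, g * t * g⁻¹ = t * x ∧ cj t x = x⁻¹ ∧ (x : X)⁻¹ * g ∈ C := by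
    intro g
    have hr : t * (g * t * g⁻¹) ∈ R := by
      rw [hq]
      simp only [QuotientGroup.mk_mul, QuotientGroup.mk_inv, map_mul, map_inv, het]
      generalize e (g : X ⧸ R) = B
      have h1 : B * J ^ 2 = J ^ 2 * B := by
        apply Subtype.ext
        rw [Matrix.SpecialLinearGroup.coe_mul, Matrix.SpecialLinearGroup.coe_mul,
          show (J ^ 2).1 = -1 by decide]
        simp
      rw [h1]
      calc J ^ 2 * (J ^ 2 * B * B⁻¹) = J ^ 4 := by group
        _ = 1 := by decide
    set x : R := ⟨_, hr⟩ with hx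
    have h1 : g * t * g⁻¹ = t * x := by
      show g * t * g⁻¹ = t * (t * (g * t * g⁻¹))
      rw [← mul_assoc t, ht2, one_mul]
    have h2 : cj t x = x⁻¹ := by
      apply Subtype.ext
      rw [cj_coe, Subgroup.coe_inv, htinv]
      refine eq_inv_of_mul_eq_one_left ?_
      calc t * (x : X) * t * x = (t * x) * (t * x) := by group
        _ = (g * t * g⁻¹) * (g * t * g⁻¹) := by rw [h1]
        _ = g * (t * t) * g⁻¹ := by group
        _ = 1 := by rw [ht2]; group
    refine ⟨x, h1, h2, ?_⟩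
    have h3 : t * (x : X) * t = (x : X)⁻¹ := by
      have := congrArg Subtype.val h2
      rwa [cj_coe, Subgroup.coe_inv, htinv] at this
    have h4 : (x : X) * t = t * (x : X)⁻¹ := by
      calc (x : X) * t = (t * t) * x * t := by rw [ht2, one_mul]
        _ = t * (t * x * t) := by group
        _ = _ := by rw [h3]
    have h5 : (x : X) * t * (x : X)⁻¹ = g * t * g⁻¹ := by
      rw [h4, h1, mul_assoc]
      congr 1
      have := hRexp _ x.2
      calc (x : X)⁻¹ * (x : X)⁻¹ = (x : X)⁻¹ * (x : X)⁻¹ * (x : X) ^ 3 := by rw [this, mul_one]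
        _ = x := by group
    rw [hmemC]
    calc (x : X)⁻¹ * g * t = (x : X)⁻¹ * (g * t * g⁻¹) * g := by group
      _ = (x : X)⁻¹ * (x * t * (x : X)⁻¹) * g := by rw [h5]
      _ = t * ((x : X)⁻¹ * g) := by group
  -- the subgroup `C`
  let f : C →* SL(2, ZMod 3) := Φ.comp C.subtype
  have hfsurj : Function.Surjective f := by
    intro A
    obtain ⟨g, rfl⟩ := hΦsurj A
    obtain ⟨x, -, -, hxC⟩ := hsplit g
    exact ⟨⟨_, hxC⟩, by
      show Φ ((x : X)⁻¹ * g) = Φ g
      rw [map_mul, map_inv, hΦR _ x.2, inv_one, one_mul]⟩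
  have hkerz : ∀ c : C, f c = 1 → ∃ j, (c : X) = (pw fr.z j : R) := by
    intro c hc
    set r : R := ⟨c, hΦker _ hc⟩
    refine ⟨fr.ht r, ?_⟩
    have h1 : cj t r = r := by
      apply Subtype.ext
      rw [cj_coe]
      show t * (c : X) * t⁻¹ = c
      rw [← (hmemC _).1 c.2, mul_inv_cancel_right]
    have h2 : fr.proj r = 0 := by
      have := htproj r
      rw [h1] at this
      funext i
      have := congrFun this i
      have h5 : (3 : ZMod 3) = 0 := by decide
      show fr.proj r i = 0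
      simp only [Pi.neg_apply] at this
      linear_combination (-1) * this + fr.proj r i * h5
    exact congrArg Subtype.val (fr.eq_pw_z h2)
  have hzmem : ∀ j, ((pw fr.z j : R) : X) ∈ C := fun j => by
    rw [hmemC]
    have := congrArg Subtype.val (htz j)
    rw [cj_coe] at this
    exact (mul_inv_eq_iff_eq_mul.1 this).symm
  have hzc : ∀ (g : X) j, g * ((pw fr.z j : R) : X) = ((pw fr.z j : R) : X) * g := by
    intro g j
    have h1 : cj g (pw fr.z j) = pw fr.z j := by rw [pw, map_pow, hz_fix fr]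
    have := congrArg Subtype.val h1
    rw [cj_coe] at this
    exact mul_inv_eq_iff_eq_mul.1 this
  have hker3 : ∀ c : C, f c = 1 → c ^ 3 = 1 := by
    intro c hc
    exact Subtype.ext (hRexp _ (hΦker _ hc))
  have hcardC : Nat.card C = 3 * 24 := by
    rw [← f.ker.card_mul_index, index_ker, MonoidHom.range_eq_top.2 hfsurj, Subgroup.card_top,
      natCard_sl2]
    congr 1
    have e1 : ZMod 3 → f.ker := fun j => ⟨⟨_, hzmem j⟩, by
      show Φ ((pw fr.z j : R) : X) = 1
      exact hΦR _ (pw fr.z j).2⟩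
    rw [← Nat.card_eq_of_bijective (fun j : ZMod 3 => (⟨⟨_, hzmem j⟩, hΦR _ (pw fr.z j).2⟩ : f.ker))
      ⟨?_, ?_⟩, Nat.card_zmod]
    · intro i j h
      have h1 : pw fr.z i = pw fr.z j := Subtype.ext (congrArg (fun c : f.ker => ((c : C) : X)) h)
      rw [← fr.el_z, ← fr.el_z] at h1
      simpa [fr.co_el] using congrArg fr.co h1
    · rintro ⟨c, hc⟩
      obtain ⟨j, hj⟩ := hkerz c hc
      exact ⟨j, Subtype.ext (Subtype.ext hj.symm)⟩
  obtain ⟨P2⟩ : Nonempty (Sylow 2 C) := inferInstance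
  haveI := Fact.mk Nat.prime_two
  have hP2 : Nat.card (P2 : Subgroup C) = 8 := by
    obtain ⟨k, hk⟩ := IsPGroup.iff_card.mp P2.2
    have h1 := (P2 : Subgroup C).card_mul_index
    rw [hk, hcardC] at h1
    have h2 := P2.not_dvd_index
    have hk3 : k ≤ 3 := by
      by_contra h
      have h3 : 2 ^ 4 ∣ 3 * 24 := h1 ▸ Dvd.dvd.mul_right (pow_dvd_pow 2 (by omega)) _
      norm_num at h3
    rw [hk]
    interval_cases k <;> omega
  have hP2pow : ∀ q ∈ (P2 : Subgroup C), q ^ 8 = 1 := fun q hq => by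
    have := congrArg Subtype.val (pow_card_eq_one' (G := (P2 : Subgroup C)) (x := ⟨q, hq⟩))
    rwa [hP2] at this
  have hP2ker : ∀ q ∈ (P2 : Subgroup C), f q = 1 → q = 1 := by
    intro q hq h1
    have h3 := hker3 q h1
    have h8 := hP2pow q hq
    calc q = (q ^ 3) ^ 3 * (q ^ 8)⁻¹ := by group
      _ = 1 := by rw [h3, h8, one_pow, inv_one, mul_one]
  have hf4 : ∀ q ∈ (P2 : Subgroup C), f q ^ 4 = 1 := by
    intro q hq
    have h8 : (f q).1 ^ 8 = 1 := by
      rw [← Matrix.SpecialLinearGroup.coe_pow, ← map_pow, hP2pow q hq, map_one,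
        Matrix.SpecialLinearGroup.coe_one]
    rw [Matrix.eta_fin_two (f q).1] at h8
    refine Subtype.ext ?_
    rw [Matrix.SpecialLinearGroup.coe_pow, Matrix.eta_fin_two (f q).1]
    exact sl2_eight _ _ _ _ (sl2_entries _) h8
  have hf4' : ∀ A : SL(2, ZMod 3), A ^ 4 = 1 → ∃ q ∈ (P2 : Subgroup C), f q = A := by
    let k : ↥(P2 : Subgroup C) → {A : SL(2, ZMod 3) // A ^ 4 = 1} := fun q => ⟨f q, hf4 q q.2⟩
    have hk : Function.Bijective k := by
      refine (Nat.bijective_iff_injective_and_card k).2 ⟨fun a b h => ?_, hP2.trans natCard_sl2_four.symm⟩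
      have h1 : f ((a : C) * (b : C)⁻¹) = 1 := by
        rw [map_mul, map_inv, show f (a : C) = f (b : C) from congrArg Subtype.val h, mul_inv_cancel]
      exact Subtype.ext (mul_inv_eq_one.1 (hP2ker _ (mul_mem a.2 (inv_mem b.2)) h1))
    intro A hA
    obtain ⟨q, hq⟩ := hk.2 ⟨A, hA⟩
    exact ⟨q, q.2, congrArg Subtype.val hq⟩
  haveI hP2n : (P2 : Subgroup C).Normal := by
    refine ⟨fun q hq g => ?_⟩
    have h4 : f (g * q * g⁻¹) ^ 4 = 1 := by
      rw [← map_pow, conj_pow, map_mul, map_mul, map_pow, hf4 q hq, mul_one, ← map_mul,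
        mul_inv_cancel, map_one]
    obtain ⟨q', hq', hfq⟩ := hf4' _ h4
    set k := (g * q * g⁻¹) * q'⁻¹ with hk
    have hfk : f k = 1 := by rw [hk, map_mul, map_inv, hfq, mul_inv_cancel]
    obtain ⟨j, hj⟩ := hkerz k hfk
    have hcomm : Commute k q' := Subtype.ext (by
      show (k : X) * q' = q' * k
      rw [hj]
      exact (hzc _ j).symm)
    have h8 : k ^ 8 = 1 := by
      have e1 : g * q * g⁻¹ = k * q' := by rw [hk, inv_mul_cancel_right]
      have e2 : (g * q * g⁻¹) ^ 8 = 1 := by rw [conj_pow, hP2pow q hq]; group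
      rw [e1, hcomm.mul_pow, hP2pow q' hq', mul_one] at e2
      exact e2
    have hk1 : k = 1 := by
      have h3 := hker3 k hfk
      calc k = (k ^ 3) ^ 3 * (k ^ 8)⁻¹ := by group
        _ = 1 := by rw [h3, h8, one_pow, inv_one, mul_one]
    rw [hk, mul_inv_eq_one] at hk1
    rwa [hk1]
  -- an element of order three outside `R`
  obtain ⟨y, hy3, hy1⟩ : ∃ y : C, y ^ 3 = 1 ∧ f y ≠ 1 := by
    obtain ⟨E, hEc, hE3, hEcard⟩ := hE
    haveI := Fact.mk (show Nat.Prime 3 by norm_num)
    have hEcomm : ∀ u ∈ E, ∀ v ∈ E, u * v = v * u := fun u hu v hv =>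
      PGroupsBasic.comm_of_isMulCommutative hEc hu hv
    have hnotle : ¬ R ≤ E := by
      intro h
      apply hne
      rw [commutatorElement_eq_one_iff_mul_comm]
      exact Subtype.ext (hEcomm _ (h u2.2) _ (h u1.2))
    obtain ⟨a, haE, haR⟩ : ∃ a ∈ E, a ∉ R := by
      by_contra h
      push Not at h
      exact hnotle (eq_of_le_of_card_ge h (hRcard.le.trans hEcard.ge)).ge
    have hD : 9 ≤ Nat.card ↥(E ⊓ R) := by
      have hp : IsPGroup 3 ↥(E ⊔ R) := by
        refine IsPGroup.to_sup_of_normal_right (IsPGroup.of_card (n := 3) hEcard)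
          (IsPGroup.of_card (n := 3) hRcard)
      obtain ⟨k, hk⟩ := IsPGroup.iff_card.mp hp
      have hX : Nat.card X = 27 * 24 := by
        rw [← R.card_mul_index, hRcard, index_eq_card, Nat.card_congr e.toEquiv, natCard_sl2]
      have hk4 : k ≤ 4 := by
        by_contra h
        have h3 : 3 ^ 5 ∣ 27 * 24 :=
          hX ▸ (pow_dvd_pow 3 (by omega : 5 ≤ k)).trans (hk ▸ card_subgroup_dvd_card _)
        norm_num at h3
      have h1 := relIndex_mul_relIndex ⊥ R (E ⊔ R) bot_le le_sup_right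
      rw [relIndex_bot_left, relIndex_bot_left, hk, hRcard, relIndex_sup_right] at h1
      have h2 := relIndex_mul_relIndex ⊥ (E ⊓ R) E bot_le inf_le_left
      rw [relIndex_bot_left, relIndex_bot_left, hEcard, inf_comm, inf_relIndex_right] at h2
      rw [inf_comm]
      have h3 : 3 ^ k ≤ 3 ^ 4 := Nat.pow_le_pow_right (by norm_num) hk4
      norm_num at h3
      have h4 : R.relIndex E ≤ 3 := by omega
      by_contra h
      have : Nat.card ↥(R ⊓ E) * R.relIndex E ≤ 8 * 3 := Nat.mul_le_mul (by omega) h4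
      omega
    set D : Subgroup R := E.subgroupOf R with hD'
    have hDcard : 9 ≤ Nat.card D := by
      rw [hD', ← inf_subgroupOf_right, Nat.card_congr (subgroupOfEquivOfLe inf_le_right).toEquiv]
      exact hD
    have hDcomm : ∀ u ∈ D, ∀ v ∈ D, u * v = v * u := fun u hu v hv =>
      Subtype.ext (hEcomm _ hu _ hv)
    have hDne : D ≠ ⊤ := fun h => hnotle fun r hr =>
      (show (⟨r, hr⟩ : R) ∈ D from h ▸ mem_top _)
    have hprime : ∀ M : Subgroup R, D < M → M = ⊤ := by
      intro M hM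
      obtain ⟨i, hi⟩ := IsPGroup.iff_card.mp ((IsPGroup.of_card (G := R) (p := 3) (n := 3) (hRcard.trans (by norm_num))).to_subgroup M)
      obtain ⟨j, hj⟩ := IsPGroup.iff_card.mp ((IsPGroup.of_card (G := R) (p := 3) (n := 3) (hRcard.trans (by norm_num))).to_subgroup D)
      have hlt : Nat.card D < Nat.card M :=
        Nat.lt_of_le_of_ne (card_le_of_le hM.le) fun h => hM.ne (eq_of_le_of_card_ge hM.le h.ge)
      have hle : Nat.card M ≤ 27 := hRcard ▸ Nat.card_le_card_of_injective _ M.subtype_injective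
      rw [hj] at hlt hDcard
      rw [hi] at hlt hle
      have h2j : 2 ≤ j := by
        by_contra h
        have : 3 ^ j ≤ 3 ^ 1 := Nat.pow_le_pow_right (by norm_num) (by omega)
        omega
      have hji : j < i := (Nat.pow_lt_pow_iff_right (by norm_num : 1 < 3)).1 hlt
      have hi3 : i ≤ 3 := (Nat.pow_le_pow_iff_right (by norm_num : 1 < 3)).1 (by omega : 3 ^ i ≤ 3 ^ 3)
      refine eq_top_of_card_eq M ?_
      rw [hi, show i = 3 by omega, hRcard]
      norm_num
    have hzD : fr.z ∈ D := by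
      by_contra hzD
      have htop := hprime (D ⊔ zpowers fr.z)
        (lt_of_le_of_ne le_sup_left fun h => hzD (h ▸ mem_sup_right (mem_zpowers _)))
      have hcen : D ⊔ zpowers fr.z ≤ centralizer ((D : Set R) ∪ {fr.z}) := by
        refine sup_le (fun u hu => mem_centralizer_iff.2 ?_) (zpowers_le.2 (mem_centralizer_iff.2 ?_))
        · rintro v (hv | rfl)
          · exact hDcomm v hv u hu
          · exact (fr.z_comm u).symm
        · rintro v (hv | rfl)
          · exact fr.z_comm v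
          · rfl
      rw [htop] at hcen
      have hall : ∀ u v : R, u * v = v * u := by
        intro u v
        have h1 : D ⊔ zpowers fr.z ≤ centralizer ({u} : Set R) := by
          refine sup_le (fun w hw => ?_) (zpowers_le.2 ?_)
          · rw [mem_centralizer_singleton_iff]
            exact mem_centralizer_iff.1 (hcen (mem_top u)) w (Or.inl hw)
          · rw [mem_centralizer_singleton_iff]
            exact (fr.z_comm u).symm
        rw [htop] at h1
        exact (mem_centralizer_singleton_iff.1 (h1 (mem_top v))).symm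
      exact hne (commutatorElement_eq_one_iff_mul_comm.2 (hall u2 u1))
    obtain ⟨w, hwD, hw⟩ : ∃ w ∈ D, fr.proj w ≠ 0 := by
      by_contra h
      push Not at h
      have h2 : Nat.card D ≤ Nat.card (center R) :=
        card_le_of_le fun u hu => fr.proj_eq_zero_iff.1 (h u hu)
      have h3 : Nat.card (center R) = 3 := hR.2
      omega
    set w0 := w * pw fr.z (-fr.ht w) with hw0
    have hw0D : w0 ∈ D := mul_mem hwD (pow_mem hzD _)
    have hw0p : fr.proj w0 ≠ 0 := by
      rw [hw0, fr.proj_mul, ← fr.el_z, fr.proj_el]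
      convert hw using 1
      funext i; fin_cases i <;> simp
    have hw0h : fr.ht w0 = 0 := by
      rw [hw0, fr.ht_mul, ← fr.el_z, fr.ht_el, fr.proj_el]; simp
    have hw0inv : cj t w0 = w0⁻¹ := fr.ext (by rw [htproj, fr.proj_inv]) (by
      rw [hht, fr.ht_inv, hw0h, neg_zero])
    obtain ⟨x, hx1, hx2, hxC⟩ := hsplit a
    have haw : a * (w0 : X) = w0 * a := hEcomm a haE _ hw0D
    have hxw : x * w0 = w0 * x := by
      have hc : cj t (x * w0 * x⁻¹) = w0⁻¹ := by
        apply Subtype.ext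
        have e1 : (a : X) * t * a⁻¹ * w0 * (a * t * a⁻¹)⁻¹ = (w0 : X)⁻¹ := by
          have e0 : t * (w0 : X) * t⁻¹ = (w0 : X)⁻¹ := by
            rw [← cj_coe, hw0inv, Subgroup.coe_inv]
          calc (a : X) * t * a⁻¹ * w0 * (a * t * a⁻¹)⁻¹
              = a * t * (a⁻¹ * (w0 * a)) * t⁻¹ * a⁻¹ := by group
            _ = a * t * (a⁻¹ * (a * w0)) * t⁻¹ * a⁻¹ := by rw [haw]
            _ = a * (t * w0 * t⁻¹) * a⁻¹ := by group
            _ = (a * w0 * a⁻¹)⁻¹ := by rw [e0]; group
            _ = _ := by rw [haw, mul_inv_cancel_right]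
        rw [hx1] at e1
        rw [cj_coe]
        calc t * ((x * w0 * x⁻¹ : R) : X) * t⁻¹ = t * x * w0 * (t * x)⁻¹ := by
              push_cast; group
          _ = _ := by rw [e1, Subgroup.coe_inv]
      have hp : fr.proj (x * w0 * x⁻¹) = fr.proj w0 := by
        rw [fr.proj_mul, fr.proj_mul, fr.proj_inv]; abel
      have h1 := congrArg fr.ht hc
      rw [hht, fr.ht_inv, hw0h, neg_zero] at h1
      have h2 : x * w0 * x⁻¹ = w0 := fr.ext hp (h1.trans hw0h.symm)
      exact mul_inv_eq_iff_eq_mul.1 h2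
    have hxE : x ∈ D := by
      by_contra hxD
      have htop := hprime (D ⊔ zpowers x)
        (lt_of_le_of_ne le_sup_left fun h => hxD (h ▸ mem_sup_right (mem_zpowers _)))
      have h1 : D ⊔ zpowers x ≤ centralizer ({w0} : Set R) := by
        refine sup_le (fun u hu => mem_centralizer_singleton_iff.2 (hDcomm u hu w0 hw0D))
          (zpowers_le.2 (mem_centralizer_singleton_iff.2 hxw))
      rw [htop] at h1
      exact hw0p (fr.proj_eq_zero_iff.2 (mem_center_iff.2 fun u =>
        mem_centralizer_singleton_iff.1 (h1 (mem_top u))))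
    refine ⟨⟨_, hxC⟩, Subtype.ext (hE3 _ (mul_mem (inv_mem hxE) haE)), fun h => haR ?_⟩
    have h' : (x : X)⁻¹ * a ∈ R := hΦker _ h
    have := mul_mem x.2 h'
    rwa [mul_inv_cancel_left] at this
  -- the complement
  let L : Subgroup C := (P2 : Subgroup C) ⊔ zpowers y
  let fL : L →* SL(2, ZMod 3) := f.comp L.subtype
  have hfLinj : Function.Injective fL := by
    rw [← MonoidHom.ker_eq_bot_iff, eq_bot_iff]
    rintro ⟨l, hl⟩ hl1
    rw [← SetLike.mem_coe, Subgroup.normal_mul] at hl
    obtain ⟨q, hq, u, hu, rfl⟩ := hl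
    change f (q * u) = 1 at hl1
    rw [map_mul] at hl1
    obtain ⟨i, rfl⟩ := mem_powers_iff_mem_zpowers.2 hu
    simp only at hl1 ⊢
    have h3 : f (y ^ i) ^ 3 = 1 := by
      rw [← map_pow, ← pow_mul, mul_comm, pow_mul, hy3, one_pow, map_one]
    have h4 : f (y ^ i) ^ 4 = 1 := by
      rw [eq_inv_of_mul_eq_one_right hl1, inv_pow, hf4 q hq, inv_one]
    have h5 : f (y ^ i) = 1 := by
      rwa [pow_succ, h3, one_mul] at h4
    have hyi : y ^ i = 1 := by
      rw [← Nat.mod_add_div i 3, pow_add, pow_mul, hy3, one_pow, mul_one] at h5 ⊢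
      have hi := Nat.mod_lt i (show 3 > 0 by norm_num)
      interval_cases (i % 3)
      · exact pow_zero y
      · rw [pow_one] at h5; exact absurd h5 hy1
      · exfalso
        apply hy1
        calc f y = f ((y ^ 2) ^ 2) := by
              rw [← pow_mul, show 2 * 2 = 3 + 1 from rfl, pow_add, hy3, one_mul, pow_one]
          _ = 1 := by rw [map_pow, h5, one_pow]
    rw [hyi, map_one, mul_one] at hl1
    rw [mem_bot]
    refine Subtype.ext ?_
    show q * y ^ i = 1
    rw [hyi, mul_one]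
    exact hP2ker q hq hl1
  have hfLsurj : Function.Surjective fL := by
    rw [← MonoidHom.range_eq_top]
    refine eq_top_of_card_eq _ ?_
    rw [natCard_sl2]
    have hr := (Nat.card_congr (MonoidHom.ofInjective hfLinj).toEquiv).symm
    rw [hr]
    have h8 : 8 ∣ Nat.card L := hP2 ▸ card_dvd_of_le le_sup_left
    have h3 : 3 ∣ Nat.card L := by
      have ho : orderOf y = 3 := orderOf_eq_prime (hp := ⟨by norm_num⟩) hy3
        fun h => hy1 (by rw [h, map_one])
      rw [← ho, ← Nat.card_zpowers]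
      exact card_dvd_of_le le_sup_right
    have hle : Nat.card L ≤ 24 := natCard_sl2 ▸ Nat.card_le_card_of_injective fL hfLinj
    have hpos : 0 < Nat.card L := Nat.card_pos
    omega
  let σ : SL(2, ZMod 3) →* X :=
    (C.subtype.comp L.subtype).comp (MulEquiv.ofBijective fL ⟨hfLinj, hfLsurj⟩).symm.toMonoidHom
  have hσC : ∀ A, σ A ∈ C := fun A => SetLike.coe_mem _
  have hΦσ : ∀ A, Φ (σ A) = A := fun A =>
    (MulEquiv.ofBijective fL ⟨hfLinj, hfLsurj⟩).apply_symm_apply A
  -- the representation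
  let dec : X → R := fun g => ⟨g * (σ (Φ g))⁻¹, hΦker _ (by
    rw [map_mul, map_inv, hΦσ, mul_inv_cancel])⟩
  let μ : R → Matrix.symplecticGroup (Fin 2) F := fun r =>
    HeisSLModel29.uSp (ι (fr.proj r 0)) (ι (fr.proj r 1)) (ι (fr.ht r))
  let lam : SL(2, ZMod 3) → Matrix.symplecticGroup (Fin 2) F := fun A =>
    HeisSLModel29.lamSp (Matrix.SpecialLinearGroup.map ι A)
  have hμ : ∀ r u, μ r * μ u = μ (r * u) := by
    intro r u
    show _ * _ = HeisSLModel29.uSp _ _ _
    rw [HeisSLModel29.uSp_mul, fr.proj_mul, fr.ht_mul]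
    simp only [Pi.add_apply, map_add, map_sub, map_mul]
  have hlam : ∀ A B, lam (A * B) = lam A * lam B := fun A B => by
    show HeisSLModel29.lamSp _ = _
    rw [map_mul, HeisSLModel29.lamSp_mul]
  have hconj : ∀ A r, lam A * μ r = μ (cj (σ A) r) * lam A := by
    intro A r
    show _ = HeisSLModel29.uSp _ _ _ * _
    rw [HeisSLModel29.lamSp_mul_uSp, fr.proj_map (cj_center _), hCht _ (hσC A)]
    have hA : fr.mat (cj (σ A)) = A.1 := congrArg Subtype.val (hΦσ A)
    rw [hA]
    simp [Matrix.mulVec, dotProduct, Fin.sum_univ_two]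
    rfl
  have hdec : ∀ g h, dec (g * h) = dec g * cj (σ (Φ g)) (dec h) := by
    intro g h
    apply Subtype.ext
    rw [Subgroup.coe_mul, cj_coe]
    show g * h * (σ (Φ (g * h)))⁻¹ = g * (σ (Φ g))⁻¹ * (σ (Φ g) * (h * (σ (Φ h))⁻¹) * (σ (Φ g))⁻¹)
    rw [map_mul, map_mul]
    group
  let φ : X →* Matrix.symplecticGroup (Fin 2) F := MonoidHom.mk' (fun g => μ (dec g) * lam (Φ g))
    fun g h => by
      show μ (dec (g * h)) * lam (Φ (g * h)) = _
      rw [hdec, ← hμ, map_mul Φ, hlam]
      calc μ (dec g) * μ (cj (σ (Φ g)) (dec h)) * (lam (Φ g) * lam (Φ h))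
          = μ (dec g) * (μ (cj (σ (Φ g)) (dec h)) * lam (Φ g)) * lam (Φ h) := by group
        _ = _ := by rw [← hconj]; group
  refine ⟨φ, ?_, fun g => ⟨?_, ?_⟩⟩
  · rw [← MonoidHom.ker_eq_bot_iff, eq_bot_iff]
    intro g hg
    obtain ⟨ha, hb, hk, hA⟩ := HeisSLModel29.uSp_mul_lamSp_eq_one hg
    have hι' : ∀ a, ι a = 0 → a = 0 := fun a h => (map_eq_zero ι).1 h
    have hA' : Φ g = 1 := by
      refine Subtype.ext (Matrix.ext fun i j => ι.injective ?_)
      have := congrFun (congrFun (congrArg Subtype.val hA) i) j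
      simpa [Matrix.SpecialLinearGroup.map_apply_coe, Matrix.one_apply, apply_ite ι] using this
    have h1 : dec g = 1 := fr.ext (by
      rw [fr.proj_one]
      funext i; fin_cases i
      · exact hι' _ ha
      · exact hι' _ hb) (by rw [fr.ht_one]; exact hι' _ hk)
    have h2 := congrArg Subtype.val h1
    simp only [dec, hA', map_one, inv_one, mul_one] at h2
    exact mem_bot.2 h2
  · rintro ⟨x, rfl⟩
    show (μ _ * lam _) • _ = _
    rw [mul_smul, HeisSLModel29.lamSp_smul_eVec, HeisSLModel29.uSp_smul_eVec]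
  · intro hg
    obtain ⟨a, b, k, A, rfl⟩ := HeisSLModel29.exists_eq_of_smul_eVec hg
    obtain ⟨a, rfl⟩ := hι a
    obtain ⟨b, rfl⟩ := hι b
    obtain ⟨k, rfl⟩ := hι k
    choose inv hinv' using hι
    let A0 : SL(2, ZMod 3) := ⟨!![inv (A.1 0 0), inv (A.1 0 1); inv (A.1 1 0), inv (A.1 1 1)], by
      apply ι.injective
      rw [Matrix.det_fin_two_of, map_sub, map_mul, map_mul, hinv', hinv', hinv', hinv', map_one,
        ← Matrix.det_fin_two]
      exact A.2⟩
    have hA0 : Matrix.SpecialLinearGroup.map ι A0 = A := by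
      refine Subtype.ext (Matrix.ext fun i j => ?_)
      fin_cases i <;> fin_cases j <;> exact hinv' _
    obtain ⟨r, hr⟩ : ∃ r, fr.proj r = ![a, b] ∧ fr.ht r = k :=
      ⟨fr.el a b (k - a * b), fr.proj_el _ _ _, by rw [fr.ht_el]; ring⟩
    refine ⟨r * σ A0, ?_⟩
    have hΦ' : Φ ((r : X) * σ A0) = A0 := by rw [map_mul, hΦR _ r.2, hΦσ, one_mul]
    have hd : dec ((r : X) * σ A0) = r := Subtype.ext (by
      show (r : X) * σ A0 * (σ (Φ ((r : X) * σ A0)))⁻¹ = r
      rw [hΦ', mul_inv_cancel_right])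
    show μ _ * lam _ = _
    rw [hd, hΦ']
    show HeisSLModel29.uSp _ _ _ * HeisSLModel29.lamSp _ = _
    rw [hA0, hr.1, hr.2]
    simp

/-- Let X be a finite group with O₃(X) extraspecial of order 27 and exponent 3, X/O₃(X) isomorphic to SL(2,3), O₂(X) = 1, and a Sylow 3-subgroup of X containing an elementary abelian subgroup of order 27. Then X is isomorphic to the centralizer in PSp(4,3) of a 3-central element of order 3 (an element of order 3 in the centre of a Sylow 3-subgroup). -/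
theorem result {X : Type*} [Group X] [Finite X]
    (hR : Cfsg.IsExtraspecial 3 (Cfsg.pCore 3 X)) (hRcard : Nat.card (Cfsg.pCore 3 X) = 27)
    (hRexp : ∀ r ∈ Cfsg.pCore 3 X, r ^ 3 = 1)
    (e : X ⧸ Cfsg.pCore 3 X ≃* Matrix.SpecialLinearGroup (Fin 2) (ZMod 3))
    (hO2 : Cfsg.pCore 2 X = ⊥)
    (hE : ∃ E : Subgroup X, IsMulCommutative E ∧ (∀ a ∈ E, a ^ 3 = 1) ∧ Nat.card E = 27)
    (F : Type*) [Field F] [Fintype F] (hF : Fintype.card F = 3) :
    ∃ (c : Cfsg.PSp 2 F) (S : Sylow 3 (Cfsg.PSp 2 F)), orderOf c = 3 ∧ c ∈ (S : Subgroup (Cfsg.PSp 2 F)) ∧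
      c ∈ Subgroup.centralizer ((S : Subgroup (Cfsg.PSp 2 F)) : Set (Cfsg.PSp 2 F)) ∧
      Nonempty (X ≃* Subgroup.centralizer ({c} : Set (Cfsg.PSp 2 F))) := by
  haveI := Fact.mk (show Nat.Prime 3 by norm_num)
  let ιe : ZMod 3 ≃+* F := ZMod.ringEquivOfPrime F (by norm_num) hF
  let ι : ZMod 3 →+* F := ιe.toRingHom
  obtain ⟨φ, hφ, hφr⟩ := exists_hom hR hRcard hRexp e hO2 hE ι ιe.surjective
  haveI : CharP F 3 := charP_of_injective_ringHom ι.injective 3
  have h3 : (3 : F) = 0 := by exact_mod_cast CharP.cast_eq_zero F 3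
  set T : Matrix.symplecticGroup (Fin 2) F := HeisSLModel29.uSp 0 0 1 with hT
  set c : Cfsg.PSp 2 F := (T : Cfsg.PSp 2 F) with hc
  have hT3 : T ^ 3 = 1 := by
    rw [hT, pow_succ, pow_two, HeisSLModel29.uSp_mul, HeisSLModel29.uSp_mul, ← HeisSLModel29.uSp_zero]
    congr 1 <;> first | ring1 | linear_combination h3
  have hTx : ∀ x : Fin 2 ⊕ Fin 2 → F, T • x = x + x (Sum.inr 0) • HeisSLModel29.eVec := by
    intro x
    funext i
    rw [SymplecticBasic.smul_def]
    show (Matrix.mulVec (HeisSLModel29.uMat 0 0 1) x) i = _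
    rcases i with i | i <;> fin_cases i <;>
      simp [HeisSLModel29.uMat, HeisSLModel29.eVec, Matrix.mulVec, dotProduct,
        Fintype.sum_sum_type, Fin.sum_univ_two]
  have he0 : (HeisSLModel29.eVec : Fin 2 ⊕ Fin 2 → F) ≠ 0 := by simp [HeisSLModel29.eVec]
  have hT1 : T ∉ Subgroup.center _ := by
    intro h
    obtain ⟨a, -, ha⟩ := (SymplecticSimple.mem_center_iff (by norm_num)).1 h
    have h1 := congrFun (ha (Pi.single (Sum.inr 0) 1)) (Sum.inl 0)
    rw [hTx] at h1
    simp [HeisSLModel29.eVec] at h1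
  have hc1 : c ≠ 1 := fun h => hT1 ((QuotientGroup.eq_one_iff _).1 h)
  have hoc : orderOf c = 3 := orderOf_eq_prime (by rw [hc, ← QuotientGroup.mk_pow, hT3]; rfl) hc1
  let ψ : X →* Cfsg.PSp 2 F := (QuotientGroup.mk' _).comp φ
  have hψ : Function.Injective ψ := by
    rw [← MonoidHom.ker_eq_bot_iff, eq_bot_iff]
    intro g hg
    rw [MonoidHom.mem_ker] at hg
    have h1 : φ g ∈ Subgroup.center _ := (QuotientGroup.eq_one_iff _).1 hg
    obtain ⟨a, -, ha⟩ := (SymplecticSimple.mem_center_iff (by norm_num)).1 h1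
    have h2 : φ g • (HeisSLModel29.eVec : _ → F) = HeisSLModel29.eVec := (hφr _).1 ⟨g, rfl⟩
    rw [ha] at h2
    have ha1 : a = 1 := by simpa [HeisSLModel29.eVec] using congrFun h2 (Sum.inl 0)
    refine Subgroup.mem_bot.2 (hφ ?_)
    rw [map_one]
    exact SymplecticBasic.ext_smul fun v => by rw [ha, ha1, one_smul, one_smul]
  have hcomm : ∀ g, φ g * T = T * φ g := by
    intro g
    obtain ⟨a, b, k, A, hA⟩ := HeisSLModel29.exists_eq_of_smul_eVec ((hφr _).1 ⟨g, rfl⟩)
    rw [hA, hT, mul_assoc, HeisSLModel29.lamSp_mul_uSp, ← mul_assoc, ← mul_assoc,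
      HeisSLModel29.uSp_mul, HeisSLModel29.uSp_mul]
    simp [add_comm]
  have hψC : ∀ g, ψ g ∈ Subgroup.centralizer ({c} : Set (Cfsg.PSp 2 F)) := by
    intro g
    rw [Subgroup.mem_centralizer_singleton_iff]
    exact congrArg (QuotientGroup.mk (s := Subgroup.center _)) (hcomm g)
  have hsurj : ∀ q ∈ Subgroup.centralizer ({c} : Set (Cfsg.PSp 2 F)), ∃ g, ψ g = q := by
    intro q hq
    obtain ⟨g, rfl⟩ := QuotientGroup.mk_surjective q
    rw [Subgroup.mem_centralizer_singleton_iff] at hq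
    set z := g * T * g⁻¹ * T⁻¹ with hz
    have hzc : z ∈ Subgroup.center _ := by
      refine (QuotientGroup.eq_one_iff _).1 ?_
      simp only [hz, QuotientGroup.mk_mul, QuotientGroup.mk_inv, ← hc, hq]
      group
    have hzT : Commute z T := (Subgroup.mem_center_iff.1 hzc T).symm
    have hz3 : z ^ 3 = 1 := by
      have h1 : (z * T) ^ 3 = 1 := by
        rw [hz, inv_mul_cancel_right, conj_pow, hT3, mul_one, mul_inv_cancel]
      rwa [hzT.mul_pow, hT3, mul_one] at h1
    have hz1 : z = 1 := by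
      obtain ⟨a, ha2, ha⟩ := (SymplecticSimple.mem_center_iff (by norm_num)).1 hzc
      have hz2 : z ^ 2 = 1 := SymplecticBasic.ext_smul fun v => by
        rw [pow_two, mul_smul, ha, ha, smul_smul, ← pow_two, ha2, one_smul, one_smul]
      rwa [pow_succ, hz2, one_mul] at hz3
    have hgT : g * T = T * g := by
      rw [hz, mul_inv_eq_one, mul_inv_eq_iff_eq_mul] at hz1
      exact hz1
    set f : Fin 2 ⊕ Fin 2 → F := Pi.single (Sum.inr 0) 1 with hf
    set s := (g • f) (Sum.inr 0) with hs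
    have hge : g • (HeisSLModel29.eVec : _ → F) = s • HeisSLModel29.eVec := by
      have h1 : g • (T • f) = T • (g • f) := by rw [← mul_smul, hgT, mul_smul]
      rw [hTx, hTx, smul_add, show f (Sum.inr 0) = 1 by simp [hf], one_smul] at h1
      exact add_left_cancel h1
    have hs2 : s * s = 1 := by
      have h1 := SymplecticBasic.form_map g f HeisSLModel29.eVec
      rw [hge, SymplecticBasic.form_eq_sum, SymplecticBasic.form_eq_sum] at h1
      simpa [hf, hs, HeisSLModel29.eVec, Fin.sum_univ_two] using h1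
    rcases mul_self_eq_one_iff.1 hs2 with h | h
    · rw [h, one_smul] at hge
      obtain ⟨x, hx⟩ := (hφr g).2 hge
      exact ⟨x, congrArg (QuotientGroup.mk (s := Subgroup.center _)) hx⟩
    · let m : Matrix.symplecticGroup (Fin 2) F := ⟨-1, SymplecticGroup.neg_mem (one_mem _)⟩
      have hm : ∀ v : Fin 2 ⊕ Fin 2 → F, m • v = (-1 : F) • v := fun v => by
        simp [SymplecticBasic.smul_def, m, Matrix.neg_mulVec]
      have h' : (m * g) • (HeisSLModel29.eVec : _ → F) = HeisSLModel29.eVec := by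
        rw [mul_smul, hge, h, hm, smul_smul]
        simp
      obtain ⟨x, hx⟩ := (hφr _).2 h'
      refine ⟨x, ?_⟩
      show ((φ x : _) : Cfsg.PSp 2 F) = _
      rw [hx, QuotientGroup.mk_mul,
        (QuotientGroup.eq_one_iff _).2 (SymplecticSimple.mem_center_of_scalar hm), one_mul]
  have hXcard : Nat.card X = 3 ^ 4 * 8 := by
    rw [← (Cfsg.pCore 3 X).card_mul_index, hRcard, Subgroup.index_eq_card, Nat.card_congr e.toEquiv,
      natCard_sl2]
    norm_num
  have hPcard : Nat.card (Cfsg.PSp 2 F) = 3 ^ 4 * 320 := by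
    have h1 := (Subgroup.center (Matrix.symplecticGroup (Fin 2) F)).card_mul_index
    rw [SymplecticOrder.card_symplectic hF 2, SymplecticSimple.card_center hF (by norm_num),
      Subgroup.index_eq_card] at h1
    norm_num [Finset.prod_range_succ] at h1
    exact Nat.eq_of_mul_eq_mul_left two_pos (h1.trans (by norm_num))
  obtain ⟨Q⟩ : Nonempty (Sylow 3 X) := inferInstance
  have hQcard : Nat.card (Q : Subgroup X) = 3 ^ 4 := by
    obtain ⟨k, hk⟩ := IsPGroup.iff_card.mp Q.2
    have h1 := (Q : Subgroup X).card_mul_index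
    rw [hk, hXcard] at h1
    have h2 := Q.not_dvd_index
    have hk4 : k ≤ 4 := by
      by_contra h
      have h3' : 3 ^ 5 ∣ 3 ^ 4 * 8 := h1 ▸ Dvd.dvd.mul_right (pow_dvd_pow 3 (by omega)) _
      norm_num at h3'
    rw [hk]
    interval_cases k <;> omega
  set P : Subgroup (Cfsg.PSp 2 F) := (Q : Subgroup X).map ψ with hP
  have hPc : Nat.card P = 3 ^ 4 := by
    rw [hP, ← hQcard]
    exact (Nat.card_congr ((Q : Subgroup X).equivMapOfInjective ψ hψ).toEquiv).symm
  have hidx : ¬ 3 ∣ P.index := by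
    have h1 := P.card_mul_index
    rw [hPc, hPcard] at h1
    have : P.index = 320 := Nat.eq_of_mul_eq_mul_left (by norm_num) h1
    rw [this]; norm_num
  let S : Sylow 3 (Cfsg.PSp 2 F) := (IsPGroup.of_card hPc).toSylow hidx
  have hS : (S : Subgroup (Cfsg.PSp 2 F)) = P := rfl
  obtain ⟨x0, hx0⟩ := hsurj c (by rw [Subgroup.mem_centralizer_singleton_iff])
  have hPle : P ≤ Subgroup.centralizer ({c} : Set (Cfsg.PSp 2 F)) := by
    rw [hP, Subgroup.map_le_iff_le_comap]
    exact fun g _ => hψC g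
  have hcP : c ∈ P := by
    have hx0c : x0 ∈ Subgroup.center X := Subgroup.mem_center_iff.2 fun g => hψ (by
      rw [map_mul, map_mul, hx0]
      exact Subgroup.mem_centralizer_singleton_iff.1 (hψC g))
    have ho : orderOf x0 = 3 ^ 1 := by
      rw [pow_one, ← hoc, ← hx0, orderOf_injective ψ hψ]
    haveI : (Subgroup.zpowers x0).Normal :=
      PGroupsBasic.normal_of_le_center (Subgroup.zpowers_le.2 hx0c)
    have hle : Subgroup.zpowers x0 ≤ (Q : Subgroup X) :=
      IsPGroup.le_sylow_of_normal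
        (IsPGroup.of_card (n := 1) (by rw [Nat.card_zpowers, ho])) Q
    exact hx0 ▸ Subgroup.mem_map_of_mem ψ (hle (Subgroup.mem_zpowers x0))
  refine ⟨c, S, hoc, hS ▸ hcP, ?_, ⟨?_⟩⟩
  · rw [Subgroup.mem_centralizer_iff]
    intro y hy
    exact Subgroup.mem_centralizer_singleton_iff.1 (hPle hy)
  · exact MulEquiv.ofBijective (ψ.codRestrict _ hψC)
      ⟨fun a b h => hψ (congrArg Subtype.val h), fun q =>
        let ⟨g, hg⟩ := hsurj q q.2
        ⟨g, Subtype.ext hg⟩⟩

end Cfsg.Agent.S3366
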