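import Cfsg.Statements.S3371
import Cfsg.Agent.Lib.HalfTransitive65
import Cfsg.Agent.S0519
-- import your own Cfsg.Agent.* helpers here

set_option autoImplicit false
open Cfsg

namespace Cfsg.Agent.S3371

open HalfTransitive65

section Aux

variable {q : ℕ} [Fact q.Prime] {V : Type*} [AddCommGroup V] [Module (ZMod q) V] [Finite V] [Nontrivial V]
variable {G : Type*} [Group G] [Finite G] (ρ : G →* (V ≃ₗ[ZMod q] V))
variable {p : ℕ} [hp : Fact p.Prime]

omit hp in
theorem exists_fixed [Fact q.Prime] (hG : IsPGroup q G) : ∃ w : V, (∀ g, ρ g w = w) ∧ w ≠ 0 := by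
  letI : MulAction G V := MulAction.compHom V ρ
  have h0 : (0 : V) ∈ MulAction.fixedPoints G V := fun g => map_zero (ρ g)
  have hdvd : q ∣ Nat.card V := by
    rw [Module.natCard_eq_pow_finrank (K := ZMod q), Nat.card_zmod]
    exact dvd_pow_self q (Module.finrank_pos (R := ZMod q) (M := V)).ne'
  obtain ⟨w, hw, hw0⟩ := hG.exists_fixed_point_of_prime_dvd_card_of_fixed_point V hdvd h0
  exact ⟨w, hw, hw0.symm⟩

theorem semiregular (hG : IsPGroup p G) (hρ : Function.Injective ρ)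
    (hsemi : ∀ v : V, v ≠ 0 → stab ρ v = ⊥) :
    IsCyclic G ∨ ∃ n : ℕ, Nonempty (G ≃* QuaternionGroup n) := by
  have hfx : ∀ g : G, ∀ v : V, v ≠ 0 → ρ g v = v → g = 1 := fun g v hv hg => by
    have : g ∈ stab ρ v := hg
    rwa [hsemi v hv, Subgroup.mem_bot] at this
  rcases subsingleton_or_nontrivial G with h | h
  · exact Or.inl isCyclic_of_subsingleton
  by_cases hpq : p = q
  · subst hpq
    obtain ⟨w, hw, hw0⟩ := exists_fixed ρ hG
    obtain ⟨g, hg⟩ := exists_ne (1 : G)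
    exact absurd (hfx g w hw0 (hw g)) hg
  have htop : (⊤ : Subgroup G) ≠ ⊥ := top_ne_bot
  obtain ⟨z, ⟨-, hzc⟩, hzo⟩ := PGroupsBasic.exists_orderOf_eq_of_ne_bot (p := p) (hG.to_subgroup _)
    (PGroupsBasic.inf_center_ne_bot hG htop)
  have hz1 : z ≠ 1 := fun h => hp.out.one_lt.ne (by rw [← hzo, h, orderOf_one])
  have hfree : ∀ v : V, ρ z v = v → v = 0 := fun v hv => by
    by_contra h
    exact hz1 (hfx z v h hv)
  have hall : ∀ y : G, y ^ p = 1 → y ∈ Subgroup.zpowers z := by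
    intro y hy
    by_contra hyz
    obtain ⟨v, hv⟩ := exists_ne (0 : V)
    apply hv
    rw [← sum_avg ρ hpq (PGroupsBasic.mem_center_comm hzc y) hzo hfree v]
    refine Finset.sum_eq_zero fun i _ => ?_
    by_contra hne
    have hcom : Commute y z := PGroupsBasic.mem_center_comm hzc y
    have hu : uu y z i ^ p = 1 := by
      rw [uu, show zz z i = z ^ i.val from rfl, (hcom.pow_right _).mul_pow, hy, ← pow_mul,
        mul_comm, one_mul, pow_mul, (hzo ▸ pow_orderOf_eq_one z : z ^ p = 1), one_pow]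
    have h1 := hfx _ _ hne (avg_mem ρ hu v)
    apply hyz
    rw [uu, mul_eq_one_iff_eq_inv] at h1
    rw [h1]
    exact inv_mem (Subgroup.npow_mem_zpowers _ _)
  rcases PGroupsCyclic.isCyclic_or_quaternion hG (fun H K hH hK => by
      have key : ∀ L : Subgroup G, Nat.card L = p → L = Subgroup.zpowers z := fun L hL =>
        Subgroup.eq_of_le_of_card_ge (fun x hx => hall x (PGroupsBasic.pow_eq_one_of_card hL hx))
          (by rw [Nat.card_zpowers, hzo, hL])
      rw [key H hH, key K hK]) with h | ⟨-, n, h⟩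
  · exact Or.inl h
  · exact Or.inr ⟨_, h⟩

theorem exists_blockData (hG : IsPGroup p G) (hpq : p ≠ q) (hρ : Function.Injective ρ)
    (hhalf : ∀ v w : V, v ≠ 0 → w ≠ 0 → Nat.card (stab ρ v) = Nat.card (stab ρ w))
    (hs : ∀ v : V, v ≠ 0 → stab ρ v ≠ ⊥) {z : G} (hzo : orderOf z = p) (hzc : ∀ g : G, g * z = z * g)
    (hfree : ∀ v : V, ρ z v = v → v = 0) {A : Subgroup G} (hAn : A.Normal) (hAc : IsMulCommutative A)
    (hAnc : ¬ IsCyclic A) : ∃ (e : G) (c : G → ZMod p), BlockData ρ e z c := by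
  -- an element of order p in A outside the powers of z
  let O : Subgroup G :=
    { carrier := {g | g ∈ A ∧ g ^ p = 1}
      one_mem' := ⟨one_mem _, one_pow _⟩
      mul_mem' := fun {a b} ha hb => ⟨mul_mem ha.1 hb.1, by
        rw [Commute.mul_pow (PGroupsBasic.comm_of_isMulCommutative hAc ha.1 hb.1), ha.2, hb.2, one_mul]⟩
      inv_mem' := fun {a} ha => ⟨inv_mem ha.1, by rw [inv_pow, ha.2, inv_one]⟩ }
  let Z := Subgroup.zpowers z
  haveI hZn : Z.Normal := PGroupsBasic.normal_of_le_center (Subgroup.zpowers_le.2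
    (Subgroup.mem_center_iff.2 hzc))
  haveI hOn : O.Normal := ⟨fun a ha g => ⟨hAn.conj_mem a ha.1 g, by
    rw [conj_pow, ha.2, mul_one, mul_inv_cancel]⟩⟩
  have hnle : ¬ O ≤ Z := by
    intro hle
    rcases eq_or_ne A ⊥ with rfl | hne
    · exact hAnc inferInstance
    obtain ⟨t, htA, hto⟩ := PGroupsBasic.exists_orderOf_eq_of_ne_bot (p := p) (hG.to_subgroup _) hne
    have htO : t ∈ O := ⟨htA, hto ▸ pow_orderOf_eq_one t⟩
    have heq : Subgroup.zpowers t = Z := Subgroup.eq_of_le_of_card_ge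
      (Subgroup.zpowers_le.2 (hle htO)) (by rw [Nat.card_zpowers, Nat.card_zpowers, hto, hzo])
    exact hAnc (PGroupsCyclic.isCyclic_subgroup hG hAc
      (show z ∈ A from (Subgroup.zpowers_le.2 htA) (heq ▸ Subgroup.mem_zpowers z))
      (fun g hg hgp => hle ⟨hg, hgp⟩) hzo.le)
  obtain ⟨M, hMn, hZM, hMle, hMcard⟩ := PGroupsBasic.exists_normal_succ hG
    (M := Z) (N := O ⊔ Z) (lt_of_le_not_ge le_sup_right fun h => hnle (le_sup_left.trans h))
  haveI := hMn
  obtain ⟨e, heM, heZ⟩ : ∃ e ∈ M, e ∉ Z := by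
    refine SetLike.not_le_iff_exists.1 fun h => ?_
    have := Subgroup.card_le_of_le h
    rw [hMcard] at this
    exact absurd this (Nat.not_le.2 (lt_mul_of_one_lt_right Nat.card_pos hp.out.one_lt))
  have hep : e ^ p = 1 := by
    obtain ⟨a, ha, b, hb, rfl⟩ := Subgroup.mem_sup_of_normal_right.1 (hMle heM)
    obtain ⟨k, rfl⟩ := Subgroup.mem_zpowers_iff.1 hb
    rw [((show Commute a z from hzc a).zpow_right k).mul_pow, ha.2, one_mul, ← zpow_natCast,
      ← zpow_mul, mul_comm, zpow_mul, zpow_natCast, (hzo ▸ pow_orderOf_eq_one z : z ^ p = 1), one_zpow]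
  -- commutators with e land in Z
  let π := QuotientGroup.mk' Z
  have hMsup : M = Z ⊔ Subgroup.zpowers e := by
    refine (Subgroup.eq_of_le_of_card_ge (sup_le hZM (Subgroup.zpowers_le.2 heM)) ?_).symm
    have hlt : Z < Z ⊔ Subgroup.zpowers e :=
      lt_of_le_not_ge le_sup_left fun h => heZ (h (Subgroup.mem_sup_right (Subgroup.mem_zpowers e)))
    obtain ⟨k, hk⟩ := IsPGroup.iff_card.1 (hG.to_subgroup (Z ⊔ Subgroup.zpowers e))
    have h1 : Nat.card Z < Nat.card (↥(Z ⊔ Subgroup.zpowers e)) := by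
      by_contra h
      exact hlt.ne (Subgroup.eq_of_le_of_card_ge hlt.le (not_lt.1 h))
    rw [Nat.card_zpowers, hzo, hk] at h1
    rw [hMcard, Nat.card_zpowers, hzo, hk, ← pow_two]
    exact Nat.pow_le_pow_right hp.out.pos
      ((Nat.pow_lt_pow_iff_right hp.out.one_lt).1 (by simpa using h1))
  have hmap : M.map π = Subgroup.zpowers (π e) := by
    rw [hMsup, Subgroup.map_sup, QuotientGroup.map_mk'_self, bot_sup_eq, MonoidHom.map_zpowers]
  haveI : (Subgroup.zpowers (π e)).Normal := hmap ▸ hMn.map π (QuotientGroup.mk'_surjective Z)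
  have hcardπ : Nat.card (Subgroup.zpowers (π e)) = p := by
    rw [Nat.card_zpowers]
    exact PGroupsBasic.orderOf_eq_of_pow_eq_one (by rw [← map_pow, hep, map_one])
      (fun h => heZ ((QuotientGroup.eq_one_iff e).1 h))
  have hcen : π e ∈ Subgroup.center (G ⧸ Z) :=
    PGroupsBasic.le_center_of_card_eq_prime (hG.to_quotient Z) hcardπ (Subgroup.mem_zpowers _)
  have hshift : ∀ g : G, ∃ c : ZMod p, g * e * g⁻¹ = e * zz z c := by
    intro g
    have h1 : π (e⁻¹ * (g * e * g⁻¹)) = 1 := by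
      rw [map_mul, map_mul, map_mul, map_inv, map_inv, Subgroup.mem_center_iff.1 hcen (π g),
        mul_inv_cancel_right, inv_mul_cancel]
    have h2 : e⁻¹ * (g * e * g⁻¹) ∈ Z := (QuotientGroup.eq_one_iff _).1 h1
    obtain ⟨k, hk⟩ := Subgroup.mem_zpowers_iff.1 h2
    refine ⟨(k : ZMod p), ?_⟩
    have h3 : zz z (k : ZMod p) = z ^ k := by
      show z ^ (k : ZMod p).val = z ^ k
      rw [← zpow_natCast, PGroupsCyclic.zpow_eq_iff_dvd, hzo, ZMod.val_intCast]
      exact ⟨-(k / p), by rw [Int.emod_def]; ring⟩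
    rw [h3, hk, mul_inv_cancel_left]
  choose c hc using hshift
  exact ⟨e, c, ⟨hpq, hρ, hhalf, hs, hzo, hzc, hep, heZ, hfree, hc⟩⟩

end Aux

section Two

variable {q : ℕ} [Fact q.Prime] {V : Type*} [AddCommGroup V] [Module (ZMod q) V] [Finite V] [Nontrivial V]
variable {G : Type*} [Group G] [Finite G] (ρ : G →* (V ≃ₗ[ZMod q] V))

omit [Finite G] in
theorem quaternion_involution_central {n : ℕ} (φ : G ≃* QuaternionGroup n) [Finite G] {t : G}
    (ht : orderOf t = 2) (g : G) : g * t = t * g := by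
  haveI : Finite (QuaternionGroup n) := Finite.of_equiv G φ.toEquiv
  haveI : NeZero n := ⟨by
    rintro rfl
    haveI : Finite (ZMod (2 * 0)) := Finite.of_injective (fun i => QuaternionGroup.a i)
      (fun i j h => by injection h)
    haveI : Infinite (ZMod (2 * 0)) := inferInstanceAs (Infinite ℤ)
    exact not_finite (ZMod (2 * 0))⟩
  apply φ.injective
  rw [map_mul, map_mul]
  have ht' : φ t * φ t = 1 := by
    rw [← map_mul, ← pow_two, ← ht, pow_orderOf_eq_one, map_one]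
  rcases ht'' : φ t with i | i
  · rw [ht'', QuaternionGroup.a_mul_a, QuaternionGroup.one_def, QuaternionGroup.a.injEq] at ht'
    rcases φ g with j | j
    · rw [QuaternionGroup.a_mul_a, QuaternionGroup.a_mul_a, add_comm]
    · rw [QuaternionGroup.xa_mul_a, QuaternionGroup.a_mul_xa]
      congr 1
      linear_combination ht'
  · exfalso
    rw [ht'', QuaternionGroup.xa_mul_xa, QuaternionGroup.one_def, QuaternionGroup.a.injEq, add_sub_cancel_right,
      ZMod.natCast_eq_zero_iff] at ht'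
    have := Nat.le_of_dvd (NeZero.pos n) ht'
    have := NeZero.pos n
    omega

theorem dihedral_case (hG : IsPGroup 2 G) (hpq : (2 : ℕ) ≠ q) (hρ : Function.Injective ρ)
    (hhalf : ∀ v w : V, v ≠ 0 → w ≠ 0 → Nat.card (stab ρ v) = Nat.card (stab ρ w))
    (hs : ∀ v : V, v ≠ 0 → stab ρ v ≠ ⊥) (n : ℕ) (hn : 8 ≤ n) (φ : G ≃* DihedralGroup n) :
    Nat.card V = q ^ 2 ∧ ∃ m : ℕ, q = 2 ^ m - 1 ∧ n = 2 ^ m := by
  haveI : NeZero n := ⟨by omega⟩
  let a : G := φ.symm (DihedralGroup.r 1)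
  have hcard : Nat.card G = 2 * n := by
    rw [Nat.card_congr φ.toEquiv, DihedralGroup.nat_card]
  have hao : orderOf a = n := by rw [MulEquiv.orderOf_eq, DihedralGroup.orderOf_r_one]
  have hidx : (Subgroup.zpowers a).index = 2 := by
    have := (Subgroup.zpowers a).card_mul_index
    rw [Nat.card_zpowers, hao, hcard, mul_comm 2 n] at this
    exact Nat.eq_of_mul_eq_mul_left (by omega) this
  have hmem : ∀ t : G, t ∈ Subgroup.zpowers a ↔ ∃ i, φ t = DihedralGroup.r i := by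
    intro t
    constructor
    · intro ht
      obtain ⟨k, rfl⟩ := Subgroup.mem_zpowers_iff.1 ht
      exact ⟨k, by rw [map_zpow, φ.apply_symm_apply, DihedralGroup.r_one_zpow]⟩
    · rintro ⟨i, hi⟩
      refine Subgroup.mem_zpowers_iff.2 ⟨(i.val : ℤ), φ.injective ?_⟩
      rw [map_zpow, φ.apply_symm_apply, DihedralGroup.r_one_zpow, hi]
      simp
  have hsr : ∀ t : G, t ∉ Subgroup.zpowers a → ∃ i, φ t = DihedralGroup.sr i := by
    intro t ht
    rcases h : φ t with i | i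
    · exact absurd ((hmem t).2 ⟨i, h⟩) ht
    · exact ⟨i, rfl⟩
  obtain ⟨d, hd, hV, hT⟩ := count_involutions ρ hpq hρ hhalf hs hG a hidx a (Subgroup.mem_zpowers a)
    (by
      intro h
      have h2 : orderOf a ∣ 2 := orderOf_dvd_of_pow_eq_one (by rw [pow_two]; exact h)
      have := Nat.le_of_dvd two_pos h2
      omega)
    (by
      intro t ht htt
      obtain ⟨i, hi⟩ := hsr t ht
      apply φ.injective
      simp only [map_mul, map_inv, hi, a, MulEquiv.apply_symm_apply, DihedralGroup.inv_sr,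
        DihedralGroup.inv_r, DihedralGroup.sr_mul_r, DihedralGroup.sr_mul_sr]
      congr 1
      ring)
  have hTn : Nat.card {t : G // t ∉ Subgroup.zpowers a ∧ t * t = 1} = n := by
    conv_rhs => rw [← Nat.card_zmod n]
    symm
    refine Nat.card_eq_of_bijective (fun i : ZMod n => ⟨φ.symm (DihedralGroup.sr i), fun h => ?_, ?_⟩) ⟨?_, ?_⟩
    · obtain ⟨j, hj⟩ := (hmem _).1 h
      rw [φ.apply_symm_apply] at hj
      exact absurd hj (by simp)
    · rw [← map_mul, DihedralGroup.sr_mul_sr, sub_self, ← DihedralGroup.one_def, map_one]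
    · intro i j h
      exact DihedralGroup.sr.inj (φ.symm.injective (congrArg Subtype.val h))
    · rintro ⟨t, ht, htt⟩
      obtain ⟨i, hi⟩ := hsr t ht
      exact ⟨i, Subtype.ext (by show φ.symm _ = t; rw [← hi, φ.symm_apply_apply])⟩
  rw [hTn] at hT
  obtain ⟨m, hm⟩ : ∃ m, n = 2 ^ m := by
    obtain ⟨k, hk⟩ := IsPGroup.iff_card.1 hG
    rw [hcard] at hk
    obtain ⟨m, -, hm⟩ := (Nat.dvd_prime_pow Nat.prime_two).1 (Dvd.intro_left _ hk)
    exact ⟨m, hm⟩
  have hd1 : d = 1 := mersenne_case (m := m) Fact.out (fun h => hpq h.symm) hd (by rw [← hm, hT])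
  subst hd1
  refine ⟨by simpa using hV, m, ?_, hm⟩
  have : n = q + 1 := by simpa using hT
  omega

theorem semidihedral_case (hG : IsPGroup 2 G) (hpq : (2 : ℕ) ≠ q) (hρ : Function.Injective ρ)
    (hhalf : ∀ v w : V, v ≠ 0 → w ≠ 0 → Nat.card (stab ρ v) = Nat.card (stab ρ w))
    (hs : ∀ v : V, v ≠ 0 → stab ρ v ≠ ⊥) (hqd : Cfsg.IsQuasiDihedral G) :
    Nat.card V = q ^ 2 ∧ ∃ m : ℕ, q = 2 ^ m - 1 ∧ Nat.card G = 2 ^ (m + 2) := by
  obtain ⟨n, hn, hcard, x, y, hx, hy, hrel⟩ := hqd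
  obtain ⟨l, rfl⟩ : ∃ l, n = l + 3 := ⟨n - 3, by omega⟩
  rw [show l + 3 - 1 = l + 2 by omega] at hrel
  have hidx : (Subgroup.zpowers x).index = 2 := by
    have := (Subgroup.zpowers x).card_mul_index
    rw [Nat.card_zpowers, hx, hcard, pow_succ _ (l + 3)] at this
    exact Nat.eq_of_mul_eq_mul_left (pow_pos two_pos _) this
  haveI := Subgroup.normal_of_index_eq_two hidx
  have hyy : y * y = 1 := by rw [← pow_two, ← hy, pow_orderOf_eq_one]
  have hyA : y ∉ Subgroup.zpowers x := by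
    intro h
    obtain ⟨k, hk⟩ := Subgroup.mem_zpowers_iff.1 h
    have h1 : y * x * y⁻¹ = x := by rw [← hk]; group
    rw [hrel] at h1
    have h3 : x ^ (2 ^ (l + 2) - 1) = x ^ 1 := by rw [pow_one]; exact h1
    have h2 := pow_inj_mod.1 h3
    rw [hx, Nat.mod_eq_of_lt, Nat.mod_eq_of_lt] at h2
    · have : 2 ^ 2 ≤ 2 ^ (l + 2) := Nat.pow_le_pow_right two_pos (by omega)
      omega
    · exact Nat.one_lt_two_pow (by omega)
    · have : 2 ^ (l + 2) < 2 ^ (l + 3) := Nat.pow_lt_pow_right (by norm_num) (by omega)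
      omega
  have hr : y * x * y⁻¹ = x ^ ((2 : ℤ) ^ (l + 2) - 1) := by
    rw [hrel, ← zpow_natCast, Nat.cast_sub Nat.one_le_two_pow]
    push_cast
    rfl
  have hconj : ∀ i : ℤ, y * x ^ i * y⁻¹ = x ^ (((2 : ℤ) ^ (l + 2) - 1) * i) := fun i =>
    PGroupsCyclic.conj_zpow_eq hr i
  have hord : ∀ k : ℤ, x ^ k = 1 ↔ (2 : ℤ) ^ (l + 3) ∣ k := fun k => by
    rw [← orderOf_dvd_iff_zpow_eq_one, hx]; push_cast; rfl
  have hsq : ∀ i : ℤ, (x ^ i * y) * (x ^ i * y) = x ^ ((2 : ℤ) ^ (l + 2) * i) := by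
    intro i
    calc (x ^ i * y) * (x ^ i * y) = x ^ i * (y * x ^ i * y⁻¹) * (y * y) := by group
      _ = _ := by rw [hconj, hyy, mul_one, ← zpow_add]; congr 1; ring
  have hout : ∀ t : G, t ∉ Subgroup.zpowers x → ∃ i : ℤ, t = x ^ i * y := by
    intro t ht
    have hyinv : y⁻¹ = y := inv_eq_of_mul_eq_one_right hyy
    have : t * y ∈ Subgroup.zpowers x :=
      (Subgroup.mul_mem_iff_of_index_two hidx).2 (iff_of_false ht hyA)
    obtain ⟨i, hi⟩ := Subgroup.mem_zpowers_iff.1 this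
    exact ⟨i, by rw [hi, mul_assoc, hyy, mul_one]⟩
  have hmemiff : ∀ i : ℤ, x ^ i * y ∉ Subgroup.zpowers x := fun i h =>
    hyA ((Subgroup.mul_mem_cancel_left _ (Subgroup.zpow_mem _ (Subgroup.mem_zpowers x) i)).1 h)
  have hinvol : ∀ i : ℤ, (x ^ i * y) * (x ^ i * y) = 1 ↔ 2 ∣ i := by
    intro i
    rw [hsq, hord, pow_succ _ (l + 2), mul_dvd_mul_iff_left (pow_ne_zero _ two_ne_zero)]
  obtain ⟨d, hd, hV, hT⟩ := count_involutions ρ hpq hρ hhalf hs hG x hidx (x ^ (2 : ℤ))
    (Subgroup.zpow_mem _ (Subgroup.mem_zpowers x) 2)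
    (by
      rw [← zpow_add]
      intro h
      rw [hord] at h
      have h8 : (2 : ℤ) ^ (l + 3) ≥ 2 ^ 3 := pow_le_pow_right₀ (by norm_num) (by omega)
      have := Int.le_of_dvd (by norm_num) h
      norm_num at h8 this
      omega)
    (by
      intro t ht htt
      obtain ⟨i, rfl⟩ := hout t ht
      calc x ^ i * y * x ^ (2 : ℤ) * (x ^ i * y)⁻¹ = x ^ i * (y * x ^ (2 : ℤ) * y⁻¹) * (x ^ i)⁻¹ := by group
        _ = (x ^ (2 : ℤ))⁻¹ := by
          rw [hconj, ← zpow_neg, ← zpow_neg, ← zpow_add, ← zpow_add, PGroupsCyclic.zpow_eq_iff_dvd, hx]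
          push_cast
          exact ⟨1, by ring⟩)
  have hTn : Nat.card {t : G // t ∉ Subgroup.zpowers x ∧ t * t = 1} = 2 ^ (l + 2) := by
    have ho2 : orderOf (x ^ 2) = 2 ^ (l + 2) := by
      rw [orderOf_pow' x two_ne_zero, hx, Nat.gcd_eq_right (dvd_pow_self 2 (by omega)),
        pow_succ _ (l + 2), Nat.mul_div_cancel _ two_pos]
    rw [← ho2, ← Nat.card_zpowers]
    symm
    refine Nat.card_eq_of_bijective (fun u : Subgroup.zpowers (x ^ 2) => ⟨u.1 * y, ?_⟩) ⟨?_, ?_⟩
    · obtain ⟨k, hk⟩ := Subgroup.mem_zpowers_iff.1 u.2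
      rw [← hk, ← zpow_natCast, ← zpow_mul]
      exact ⟨hmemiff _, (hinvol _).2 (dvd_mul_right _ _)⟩
    · intro u w h
      exact Subtype.ext (mul_right_cancel (congrArg Subtype.val h))
    · rintro ⟨t, ht, htt⟩
      obtain ⟨i, rfl⟩ := hout t ht
      obtain ⟨k, rfl⟩ := (hinvol i).1 htt
      exact ⟨⟨x ^ (2 * k), Subgroup.mem_zpowers_iff.2 ⟨k, by rw [← zpow_natCast, ← zpow_mul]; rfl⟩⟩, rfl⟩
  rw [hTn] at hT
  have hd1 : d = 1 := mersenne_case (m := l + 2) Fact.out (fun h => hpq h.symm) hd hT.symm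
  subst hd1
  refine ⟨by simpa using hV, l + 2, ?_, hcard⟩
  have : 2 ^ (l + 2) = q + 1 := by simpa using hT
  omega

end Two

/-- Let q be a prime, V a non-trivial finite vector space over the field with q elements, and G a finite p-group (p prime) acting faithfully and linearly on V such that all G-orbits on the non-zero vectors have the same size. Then one of the following holds: G is cyclic or generalized quaternion and acts semiregularly on the non-zero vectors; or V has q² elements with q = 2^m − 1 and G is dihedral of order 2^(m+1) or semidihedral of order 2^(m+2); or V has q² elements with q = 2^m + 1 and, in suitable coordinates V = F_q², G is exactly the group of maps (x, y) ↦ (a x, ± a⁻¹ y) and (x, y) ↦ (± a⁻¹ y, a x) with a ≠ 0; or V has 81 elements (q = 3) and G is a 2-group. -/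
theorem result (q : ℕ) [Fact q.Prime] {V : Type*} [AddCommGroup V] [Module (ZMod q) V] [Finite V] [Nontrivial V]
    {G : Type*} [Group G] [Finite G] (p : ℕ) [Fact p.Prime] (hG : IsPGroup p G)
    (ρ : G →* (V ≃ₗ[ZMod q] V)) (hρ : Function.Injective ρ)
    (hhalf : ∀ v w : V, v ≠ 0 → w ≠ 0 → Nat.card {u : V | ∃ g : G, ρ g v = u} = Nat.card {u : V | ∃ g : G, ρ g w = u}) :
    ((IsCyclic G ∨ ∃ n : ℕ, Nonempty (G ≃* QuaternionGroup n)) ∧ ∀ v : V, v ≠ 0 → ∀ g : G, ρ g v = v → g = 1) ∨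
    (Nat.card V = q ^ 2 ∧ ∃ m : ℕ, q = 2 ^ m - 1 ∧
      (Nonempty (G ≃* DihedralGroup (2 ^ m)) ∨ (Cfsg.IsQuasiDihedral G ∧ Nat.card G = 2 ^ (m + 2)))) ∨
    (Nat.card V = q ^ 2 ∧ (∃ m : ℕ, q = 2 ^ m + 1) ∧
      ∃ e : V ≃ₗ[ZMod q] (Fin 2 → ZMod q), ∀ f : (Fin 2 → ZMod q) ≃ₗ[ZMod q] (Fin 2 → ZMod q),
        (∃ g : G, f = e.symm.trans ((ρ g).trans e)) ↔
        ∃ a s : ZMod q, a ≠ 0 ∧ (s = 1 ∨ s = -1) ∧
          ((∀ v, f v = ![a * v 0, s * a⁻¹ * v 1]) ∨ (∀ v, f v = ![s * a⁻¹ * v 1, a * v 0]))) ∨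
    (Nat.card V = 81 ∧ q = 3 ∧ p = 2) := by
  classical
  have hhalf' : ∀ v w : V, v ≠ 0 → w ≠ 0 → Nat.card (stab ρ v) = Nat.card (stab ρ w) :=
    fun v w hv hw => stab_card_eq ρ hhalf hv hw
  by_cases hsemi : ∀ v : V, v ≠ 0 → stab ρ v = ⊥
  · refine Or.inl ⟨?_, fun v hv g hg => by
      have : g ∈ stab ρ v := hg
      rwa [hsemi v hv, Subgroup.mem_bot] at this⟩
    exact semiregular ρ hG hρ hsemi
  push Not at hsemi
  obtain ⟨v0, hv0, hst0⟩ := hsemi
  have hs : ∀ v : V, v ≠ 0 → stab ρ v ≠ ⊥ := by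
    intro v hv h
    apply hst0
    rw [← Subgroup.card_eq_one, hhalf' v0 v hv0 hv, h, Subgroup.card_bot]
  have hpq : p ≠ q := by
    rintro rfl
    obtain ⟨w, hw, hw0⟩ := exists_fixed ρ hG
    have htop : stab ρ w = ⊤ := (Subgroup.eq_top_iff' _).2 fun g => hw g
    obtain ⟨g, hg, hg1⟩ := (Subgroup.bot_or_exists_ne_one _).resolve_left hst0
    apply hg1
    apply hρ
    rw [map_one]
    refine LinearEquiv.ext fun x => ?_
    show ρ g x = x
    by_cases hx : x = 0
    · rw [hx, map_zero]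
    · have : stab ρ x = ⊤ := by
        apply Subgroup.eq_top_of_le_card
        rw [hhalf' x w hx hw0, htop, Subgroup.card_top]
      exact (this ▸ Subgroup.mem_top g : g ∈ stab ρ x)
  have hG1 : (⊤ : Subgroup G) ≠ ⊥ := fun h => hst0 (eq_bot_iff.2 (h ▸ le_top))
  obtain ⟨z, ⟨-, hzc⟩, hzo⟩ := PGroupsBasic.exists_orderOf_eq_of_ne_bot (p := p) (hG.to_subgroup _)
    (PGroupsBasic.inf_center_ne_bot hG hG1)
  have hzc' : ∀ g : G, g * z = z * g := PGroupsBasic.mem_center_comm hzc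
  have hfree : ∀ v : V, ρ z v = v → v = 0 := central_free ρ hpq hρ hhalf' hs hzo hzc'
  by_cases hnab : ∀ A : Subgroup G, A.Normal → IsMulCommutative A → IsCyclic A
  · -- every normal abelian subgroup is cyclic
    obtain ⟨y, hy, hy1⟩ : ∃ y : G, y ^ p = 1 ∧ y ∉ Subgroup.zpowers z := by
      by_contra hcon
      push Not at hcon
      obtain ⟨t, ht, hto⟩ := PGroupsBasic.exists_orderOf_eq_of_ne_bot (p := p) (hG.to_subgroup _) hst0
      have hle : Subgroup.zpowers t = Subgroup.zpowers z :=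
        Subgroup.eq_of_le_of_card_ge (Subgroup.zpowers_le.2 (hcon t (hto ▸ pow_orderOf_eq_one t)))
          (by rw [Nat.card_zpowers, Nat.card_zpowers, hto, hzo])
      have hzst : z ∈ stab ρ v0 :=
        (Subgroup.zpowers_le.2 ht) (hle ▸ Subgroup.mem_zpowers z)
      exact hv0 (hfree v0 hzst)
    let B := Subgroup.closure ({z, y} : Set G)
    have hBe : IsElementaryAbelian p B := by
      refine PGroupsBasic.isElementaryAbelian_closure ?_ ?_
      · intro a ha b hb
        simp only [Set.mem_insert_iff, Set.mem_singleton_iff] at ha hb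
        rcases ha with ha | ha <;> rcases hb with hb | hb <;> rw [ha, hb]
        · exact (hzc' y).symm
        · exact hzc' y
      · intro a ha
        simp only [Set.mem_insert_iff, Set.mem_singleton_iff] at ha
        rcases ha with ha | ha <;> rw [ha]
        · exact hzo ▸ pow_orderOf_eq_one z
        · exact hy
    have hBnc : ¬ IsCyclic B := fun h => by
      apply hy1
      have hle : Subgroup.zpowers z ≤ B := Subgroup.zpowers_le.2 (Subgroup.subset_closure (by simp))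
      rw [Subgroup.eq_of_le_of_card_ge hle (by
        rw [Nat.card_zpowers, hzo]; exact PGroupsBasic.card_le_prime_of_isCyclic (p := p) h hBe.2)]
      exact Subgroup.subset_closure (by simp)
    obtain ⟨hp2, hcases⟩ := S0519.result p hG hnab ⟨B, hBe.1, hBnc⟩
    subst hp2
    rcases hcases with ⟨n, ⟨φ⟩⟩ | ⟨n, hn8, ⟨φ⟩⟩ | hqd
    · -- quaternion: involutions are central
      exfalso
      obtain ⟨t, ht, hto⟩ := PGroupsBasic.exists_orderOf_eq_of_ne_bot (p := 2) (hG.to_subgroup _) hst0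
      exact hv0 (central_free ρ hpq hρ hhalf' hs hto (quaternion_involution_central φ hto) v0 ht)
    · right; left
      obtain ⟨hV, m, hqm, hnm⟩ := dihedral_case ρ hG hpq hρ hhalf' hs n hn8 φ
      subst hnm
      exact ⟨hV, m, hqm, Or.inl ⟨φ⟩⟩
    · right; left
      obtain ⟨hV, m, hqm, hcard⟩ := semidihedral_case ρ hG hpq hρ hhalf' hs hqd
      exact ⟨hV, m, hqm, Or.inr ⟨hqd, hcard⟩⟩
  · push Not at hnab
    obtain ⟨A, hAn, hAc, hAnc⟩ := hnab
    obtain ⟨e, c, D⟩ := exists_blockData ρ hG hpq hρ hhalf' hs hzo hzc' hfree hAn hAc hAnc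
    obtain ⟨g, i, j, hij, h1, h2⟩ := D.exists_linked
    have hp2 : p = 2 := by
      by_contra hp
      have h3 : (2 : ZMod p) * (i - j) = 0 := by linear_combination h1 - h2
      rcases mul_eq_zero.1 h3 with h | h
      · have h4 : ((2 : ℕ) : ZMod p) = 0 := by exact_mod_cast h
        rw [ZMod.natCast_eq_zero_iff] at h4
        exact hp ((Nat.prime_dvd_prime_iff_eq Fact.out Nat.prime_two).1 h4)
      · exact hij (sub_eq_zero.1 h)
    subst hp2
    rcases imprimitive hG D with ⟨hV, hq⟩ | h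
    · exact Or.inr (Or.inr (Or.inr ⟨hV, hq, rfl⟩))
    · exact Or.inr (Or.inr (Or.inl h))

end Cfsg.Agent.S3371
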