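import Mathlib
import Cfsg.Agent.Lib.SL25Presentation
import Cfsg.Agent.Lib.FrobeniusConstruct
import Cfsg.Statements.S3374
-- import your own Cfsg.Agent.* helpers here

set_option autoImplicit false
open Cfsg

namespace Cfsg.Agent.S3374

/-- SL(2,5) occurs as a Frobenius complement: there is a finite group L with a subgroup H isomorphic to SL(2,5) which is a non-trivial proper subgroup meeting each conjugate gHg⁻¹ with g outside H trivially. -/
theorem result :
    ∃ (L : Type) (_ : Group L) (_ : Finite L) (H : Subgroup L),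
      Cfsg.IsFrobeniusComplement H ∧ Nonempty (H ≃* Matrix.SpecialLinearGroup (Fin 2) (ZMod 5)) := by
  haveI hp11 : Fact (Nat.Prime 11) := ⟨by norm_num⟩
  obtain ⟨eP⟩ := SL25Presentation.nonempty_mulEquiv
  let f : Matrix.SpecialLinearGroup (Fin 2) (ZMod 5) →* Module.End (ZMod 11) (Fin 2 → ZMod 11) :=
    (MonoidHom.comp (Matrix.toLinAlgEquiv' : Matrix (Fin 2) (Fin 2) (ZMod 11) ≃ₐ[ZMod 11] _).toAlgHom.toMonoidHom
      ((Matrix.SpecialLinearGroup.coeMonoidHom).comp (SL25Presentation.toSL11.comp eP.symm.toMonoidHom)))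
  have hfpf : ∀ c : Matrix.SpecialLinearGroup (Fin 2) (ZMod 5), c ≠ 1 → ∀ x : Fin 2 → ZMod 11, f c • x = x → x = 0 := by
    intro c hc x hx
    by_contra hx0
    set S := SL25Presentation.toSL11 (eP.symm c) with hS
    have hS1 : S ≠ 1 := fun h => hc (by
      have := SL25Presentation.toSL11_injective (h.trans (map_one _).symm)
      simpa using this)
    have hSx : (S : Matrix (Fin 2) (Fin 2) (ZMod 11)).mulVec x = x := hx
    -- such a matrix is unipotent
    have hdet : (((S : Matrix (Fin 2) (Fin 2) (ZMod 11))) - 1).det = 0 :=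
      Matrix.exists_mulVec_eq_zero_iff.1 ⟨x, hx0, by rw [Matrix.sub_mulVec, hSx, Matrix.one_mulVec, sub_self]⟩
    set N := ((S : Matrix (Fin 2) (Fin 2) (ZMod 11))) - 1 with hN
    have hdS : (N + 1).det = 1 := by rw [hN, sub_add_cancel]; exact S.det_coe
    have hN2 : N * N = 0 := by
      rw [Matrix.det_fin_two] at hdet hdS
      simp at hdS
      have e1 : N 0 0 + N 1 1 = 0 := by linear_combination hdS - hdet
      ext i j
      fin_cases i <;> fin_cases j <;> simp [Matrix.mul_apply, Fin.sum_univ_two]
      · linear_combination N 0 0 * e1 - hdet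
      · linear_combination N 0 1 * e1
      · linear_combination N 1 0 * e1
      · linear_combination N 1 1 * e1 - hdet
    have hpow : ∀ k : ℕ, (1 + N) ^ k = 1 + k • N := by
      intro k
      induction k with
      | zero => simp
      | succ k ih =>
        rw [pow_succ, ih, add_mul, one_mul, mul_add, mul_one, smul_mul_assoc, hN2, smul_zero, add_zero,
          succ_nsmul]
        abel
    have h11 : S ^ 11 = 1 := by
      apply Subtype.ext
      have h := hpow 11
      rw [hN, add_sub_cancel, ← hN, ← Nat.cast_smul_eq_nsmul (ZMod 11),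
        show ((11 : ℕ) : ZMod 11) = 0 from rfl, zero_smul, add_zero] at h
      simpa using h
    have ho : orderOf c = 11 := by
      haveI : Fact (Nat.Prime 11) := ⟨by norm_num⟩
      refine orderOf_eq_prime ?_ hc
      apply eP.symm.injective
      apply SL25Presentation.toSL11_injective
      rw [map_pow, map_pow, ← hS, h11, map_one, map_one]
    have := orderOf_dvd_natCard (G := Matrix.SpecialLinearGroup (Fin 2) (ZMod 5)) c
    rw [ho, SL25Presentation.card_SL25] at this
    norm_num at this
  haveI : Nontrivial (Matrix.SpecialLinearGroup (Fin 2) (ZMod 5)) :=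
    Finite.one_lt_card_iff_nontrivial.1 (by rw [SL25Presentation.card_SL25]; norm_num)
  obtain ⟨L, i1, i2, H, hH, ⟨e⟩, -⟩ := FrobeniusConstruct.exists_complement_of_smul f hfpf
  exact ⟨L, i1, i2, H, hH, ⟨e.symm⟩⟩

end Cfsg.Agent.S3374
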