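import Mathlib
import Cfsg.Statements.S3375
-- import your own Cfsg.Agent.* helpers here

set_option autoImplicit false
open Cfsg

namespace Cfsg.Agent.S3375

/-- Let γ be an automorphism of order 2 of a finite group H. (i) If γ fixes only the identity, then H is abelian and γ inverts every element. (ii) If γ has exactly two fixed points and H has a subgroup of index 2, then H has a γ-invariant abelian subgroup of index 2 on which γ acts by inversion. -/
theorem result {H : Type*} [Group H] [Finite H] (γ : MulAut H) (hγ : orderOf γ = 2) :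
    ((∀ h : H, γ h = h → h = 1) → (∀ a b : H, a * b = b * a) ∧ ∀ h : H, γ h = h⁻¹) ∧
    ((Nat.card {h : H // γ h = h} = 2 ∧ ∃ M : Subgroup H, M.index = 2) →
      ∃ A : Subgroup H, A.index = 2 ∧ IsMulCommutative A ∧ (∀ a ∈ A, γ a ∈ A) ∧ ∀ a ∈ A, γ a = a⁻¹) := by
  have hγ2 : ∀ h, γ (γ h) = h := by
    intro h
    have : γ ^ 2 = 1 := by rw [← hγ]; exact pow_orderOf_eq_one γ
    rw [sq] at this
    have := congrArg (fun f : MulAut H => f h) this
    simpa using this
  have hinv : ∀ h : H, γ (h⁻¹ * γ h) = (h⁻¹ * γ h)⁻¹ := by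
    intro h
    rw [map_mul, map_inv, hγ2, mul_inv_rev, inv_inv]
  have part1 : (∀ h : H, γ h = h → h = 1) → (∀ h : H, γ h = h⁻¹) := by
    intro hf h
    have hs : Function.Surjective (fun h : H => h⁻¹ * γ h) := by
      refine Finite.surjective_of_injective fun a b hab => ?_
      have h1 : γ (a * b⁻¹) = a * b⁻¹ := by
        rw [map_mul, map_inv]
        have hab' : a⁻¹ * γ a = b⁻¹ * γ b := hab
        calc γ a * (γ b)⁻¹ = a * (a⁻¹ * γ a) * (γ b)⁻¹ := by group
          _ = a * (b⁻¹ * γ b) * (γ b)⁻¹ := by rw [hab']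
          _ = a * b⁻¹ := by group
      exact mul_inv_eq_one.1 (hf _ h1)
    obtain ⟨u, rfl⟩ := hs h
    exact hinv u
  refine ⟨fun hf => ⟨fun a b => ?_, part1 hf⟩, ?_⟩
  · have h1 := part1 hf (a * b)
    rw [map_mul, part1 hf a, part1 hf b, ← mul_inv_rev] at h1
    exact (inv_injective h1).symm
  rintro ⟨hfix, M₀, hM₀⟩
  obtain ⟨M, hM, hMγ⟩ : ∃ M : Subgroup H, M.index = 2 ∧ ∀ a ∈ M, γ a ∈ M := by
    by_cases h0 : ∀ a ∈ M₀, γ a ∈ M₀
    · exact ⟨M₀, hM₀, h0⟩
    push Not at h0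
    obtain ⟨c, hc, hc'⟩ := h0
    have hxor : ∀ a b : H, a * b ∈ M₀ ↔ (a ∈ M₀ ↔ b ∈ M₀) :=
      fun a b => Subgroup.mul_mem_iff_of_index_two hM₀
    refine ⟨{ carrier := {a | a ∈ M₀ ↔ γ a ∈ M₀}
              one_mem' := by simp
              mul_mem' := ?_
              inv_mem' := ?_ }, ?_, ?_⟩
    · intro a b ha hb
      simp only [Set.mem_setOf_eq, map_mul, hxor] at *
      tauto
    · intro a ha
      simpa using ha
    · rw [Subgroup.index_eq_two_iff]
      refine ⟨c, fun b => ?_⟩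
      simp only [Subgroup.mem_mk, Subsemigroup.mem_mk, Submonoid.mem_mk, Set.mem_setOf_eq,
        map_mul, hxor, Xor', hc, hc']
      tauto
    · intro a ha
      simp only [Subgroup.mem_mk, Subsemigroup.mem_mk, Submonoid.mem_mk, Set.mem_setOf_eq,
        hγ2] at *
      tauto
  haveI := Subgroup.normal_of_index_eq_two hM
  have hS : ∀ h : H, h⁻¹ * γ h ∈ M := by
    intro h
    rw [Subgroup.mul_mem_iff_of_index_two hM, inv_mem_iff]
    refine ⟨hMγ h, fun h' => ?_⟩
    simpa [hγ2] using hMγ _ h'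
  haveI := Fintype.ofFinite H
  classical
  have hfib : ∀ m : M, Nat.card {h : H // (⟨h⁻¹ * γ h, hS h⟩ : M) = m} ≤ 2 := by
    intro m
    by_cases hne : Nonempty {h : H // (⟨h⁻¹ * γ h, hS h⟩ : M) = m}
    · obtain ⟨⟨h0, hh0⟩⟩ := hne
      rw [← hfix]
      refine Nat.card_le_card_of_injective (fun h => ⟨h.1 * h0⁻¹, ?_⟩) ?_
      · have e : h.1⁻¹ * γ h.1 = h0⁻¹ * γ h0 := congrArg Subtype.val (h.2.trans hh0.symm)
        rw [map_mul, map_inv]
        calc γ h.1 * (γ h0)⁻¹ = h.1 * (h.1⁻¹ * γ h.1) * (γ h0)⁻¹ := by group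
          _ = h.1 * (h0⁻¹ * γ h0) * (γ h0)⁻¹ := by rw [e]
          _ = h.1 * h0⁻¹ := by group
      · intro a b hab
        exact Subtype.ext (mul_right_cancel (congrArg Subtype.val hab))
    · haveI := not_nonempty_iff.1 hne
      simp
  have hall : ∀ m ∈ M, ∃ h : H, h⁻¹ * γ h = m := by
    intro m hm
    by_contra hno
    push Not at hno
    have h1 : Nat.card H = ∑ u : M, Nat.card {h : H // (⟨h⁻¹ * γ h, hS h⟩ : M) = u} := by
      rw [← Nat.card_sigma]
      exact Nat.card_congr (Equiv.sigmaFiberEquiv fun h : H => (⟨h⁻¹ * γ h, hS h⟩ : M)).symm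
    have h2 : ∑ u : M, Nat.card {h : H // (⟨h⁻¹ * γ h, hS h⟩ : M) = u} < ∑ _u : M, 2 := by
      refine Finset.sum_lt_sum (fun u _ => hfib u) ⟨⟨m, hm⟩, Finset.mem_univ _, ?_⟩
      haveI : IsEmpty {h : H // (⟨h⁻¹ * γ h, hS h⟩ : M) = (⟨m, hm⟩ : M)} :=
        ⟨fun h => hno h.1 (congrArg Subtype.val h.2)⟩
      rw [Nat.card_of_isEmpty]
      norm_num
    rw [← h1, Finset.sum_const, Finset.card_univ, smul_eq_mul, ← Nat.card_eq_fintype_card,
      ← hM, M.card_mul_index] at h2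
    exact lt_irrefl _ h2
  have hMinv : ∀ a ∈ M, γ a = a⁻¹ := by
    intro a ha
    obtain ⟨h, rfl⟩ := hall a ha
    exact hinv h
  refine ⟨M, hM, ⟨⟨fun a b => Subtype.ext ?_⟩⟩, hMγ, hMinv⟩
  have h1 := hMinv _ (M.mul_mem a.2 b.2)
  rw [map_mul, hMinv _ a.2, hMinv _ b.2, ← mul_inv_rev] at h1
  exact (inv_injective h1).symm

end Cfsg.Agent.S3375
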