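import Mathlib
import Cfsg.Statements.S3376
-- import your own Cfsg.Agent.* helpers here

set_option autoImplicit false
open Cfsg

namespace Cfsg.Agent.S3376

/-- the relations of C₃ ≀ S₃ restricted to C₃³⋊S₃ on generators j, s, t -/
def rels : Set (FreeGroup (Fin 3)) :=
  {FreeGroup.of 0 ^ 3, FreeGroup.of 1 ^ 3, FreeGroup.of 2 ^ 2,
    FreeGroup.of 0 * (FreeGroup.of 1 * FreeGroup.of 0 * (FreeGroup.of 1)⁻¹) *
      (FreeGroup.of 0)⁻¹ * (FreeGroup.of 1 * FreeGroup.of 0 * (FreeGroup.of 1)⁻¹)⁻¹,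
    FreeGroup.of 2 * FreeGroup.of 1 * FreeGroup.of 2 * FreeGroup.of 1,
    FreeGroup.of 2 * FreeGroup.of 0 * FreeGroup.of 2 * (FreeGroup.of 0)⁻¹}

/-- normal forms -/
def word {P : Type*} [Group P] (j s t : P) (v : Fin 3 × Fin 3 × Fin 3 × Fin 3 × Fin 2) : P :=
  j ^ (v.1 : ℕ) * (s * j * s⁻¹) ^ (v.2.1 : ℕ) * (s⁻¹ * j * s) ^ (v.2.2.1 : ℕ) * s ^ (v.2.2.2.1 : ℕ) *
    t ^ (v.2.2.2.2 : ℕ)

theorem word_surjective {P : Type*} [Group P] (j s t : P) (hgen : Subgroup.closure {j, s, t} = ⊤)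
    (hj : j ^ 3 = 1) (hs : s ^ 3 = 1) (ht : t ^ 2 = 1) (hjk : j * (s * j * s⁻¹) = (s * j * s⁻¹) * j)
    (hts : t * s * t = s⁻¹) (htj : t * j * t = j) : Function.Surjective (word j s t) := by
  set k := s * j * s⁻¹ with hk
  set l := s⁻¹ * j * s with hl
  have hss : s * s = s⁻¹ := by
    rw [eq_inv_iff_mul_eq_one, ← sq, ← pow_succ, hs]
  have hk3 : k ^ 3 = 1 := by rw [hk, conj_pow, hj]; group
  have hl3 : l ^ 3 = 1 := by
    have := conj_pow (a := s⁻¹) (b := j) (i := 3)
    rw [inv_inv, hj] at this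
    rw [hl, this]; group
  have hsl : s * l * s⁻¹ = j := by rw [hl]; group
  have hsk : s * k * s⁻¹ = l := by
    rw [hk, hl]
    calc s * (s * j * s⁻¹) * s⁻¹ = (s * s) * j * (s * s)⁻¹ := by group
      _ = s⁻¹ * j * s := by rw [hss, inv_inv]
  have hkl : Commute k l := by
    have h := (show Commute j k from hjk).map (MulAut.conj s).toMonoidHom
    simp only [MulEquiv.coe_toMonoidHom, MulAut.conj_apply] at h
    rwa [← hk, hsk] at h
  have hlj : Commute l j := by
    have h := hkl.map (MulAut.conj s).toMonoidHom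
    simp only [MulEquiv.coe_toMonoidHom, MulAut.conj_apply] at h
    rwa [hsk, hsl] at h
  have htt : t * t = 1 := by rw [← sq, ht]
  have hnf : ∀ a b c d e : ℕ, ∃ v, word j s t v = j ^ a * k ^ b * l ^ c * s ^ d * t ^ e := by
    intro a b c d e
    refine ⟨(⟨a % 3, Nat.mod_lt _ (by norm_num)⟩, ⟨b % 3, Nat.mod_lt _ (by norm_num)⟩,
      ⟨c % 3, Nat.mod_lt _ (by norm_num)⟩, ⟨d % 3, Nat.mod_lt _ (by norm_num)⟩, ⟨e % 2, Nat.mod_lt _ (by norm_num)⟩), ?_⟩
    rw [word, ← hk, ← hl]
    dsimp only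
    rw [← pow_eq_pow_mod a hj, ← pow_eq_pow_mod b hk3, ← pow_eq_pow_mod c hl3, ← pow_eq_pow_mod d hs,
      ← pow_eq_pow_mod e ht]
  have hstep : ∀ g ∈ ({j, s, t} : Set P), ∀ v, ∃ w, word j s t w = g * word j s t v := by
    intro g hg v
    obtain ⟨a, b, c, d, e⟩ := v
    rcases hg with hg | hg | hg <;> rw [hg]
    · obtain ⟨w, hw⟩ := hnf (a + 1) b c d e
      refine ⟨w, hw.trans ?_⟩
      rw [word, ← hk, ← hl, pow_succ']
      group
    · obtain ⟨w, hw⟩ := hnf c a b (d + 1) e
      refine ⟨w, hw.trans ?_⟩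
      rw [word, ← hk, ← hl]
      dsimp only
      have e1 : s * (j ^ (a : ℕ) * k ^ (b : ℕ) * l ^ (c : ℕ)) * s⁻¹ = k ^ (a : ℕ) * l ^ (b : ℕ) * j ^ (c : ℕ) := by
        have f1 : s * j ^ (a : ℕ) * s⁻¹ = k ^ (a : ℕ) := by rw [hk, conj_pow]
        have f2 : s * k ^ (b : ℕ) * s⁻¹ = l ^ (b : ℕ) := by rw [← conj_pow, hsk]
        have f3 : s * l ^ (c : ℕ) * s⁻¹ = j ^ (c : ℕ) := by rw [← conj_pow, hsl]
        rw [← f1, ← f2, ← f3]; group
      have e2 : j ^ (c : ℕ) * k ^ (a : ℕ) * l ^ (b : ℕ) = k ^ (a : ℕ) * l ^ (b : ℕ) * j ^ (c : ℕ) := by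
        rw [(show Commute j k from hjk).pow_pow c a |>.eq, mul_assoc, (hlj.symm.pow_pow c b).eq, mul_assoc]
      rw [e2, ← e1, pow_succ']
      group
    · obtain ⟨w, hw⟩ := hnf a c b (2 * d) (e + 1)
      refine ⟨w, hw.trans ?_⟩
      rw [word, ← hk, ← hl]
      dsimp only
      have hti : t⁻¹ = t := inv_eq_of_mul_eq_one_right htt
      have hconj : ∀ x : P, t * x * t⁻¹ = t * x * t := fun x => by rw [hti]
      have hts' : t * s⁻¹ * t = s := by
        have := congrArg (fun x => x⁻¹) hts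
        simpa [mul_inv_rev, hti, mul_assoc] using this
      have f1 : t * k * t = l := by
        calc t * k * t = t * s * (t * t) * j * (t * t) * s⁻¹ * t := by rw [htt, mul_one, mul_one, hk]; group
          _ = (t * s * t) * (t * j * t) * (t * s⁻¹ * t) := by group
          _ = l := by rw [hts, htj, hts', hl]
      have f2 : t * l * t = k := by
        rw [← f1]
        calc t * (t * k * t) * t = (t * t) * k * (t * t) := by group
          _ = k := by rw [htt, one_mul, mul_one]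
      have f3 : t * s ^ (d : ℕ) * t = s ^ (2 * (d : ℕ)) := by
        rw [← hconj, ← conj_pow, hconj, hts, pow_mul, sq, hss]
      have g1 : t * j ^ (a : ℕ) * t = j ^ (a : ℕ) := by rw [← hconj, ← conj_pow, hconj, htj]
      have g2 : t * k ^ (b : ℕ) * t = l ^ (b : ℕ) := by rw [← hconj, ← conj_pow, hconj, f1]
      have g3 : t * l ^ (c : ℕ) * t = k ^ (c : ℕ) := by rw [← hconj, ← conj_pow, hconj, f2]
      rw [mul_assoc (j ^ (a : ℕ)) (k ^ (c : ℕ)), (hkl.pow_pow c b).eq, ← mul_assoc]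
      conv_lhs => rw [← f3, ← g1, ← g2, ← g3, pow_succ']
      have : ∀ x y z w u : P, t * x * t * (t * y * t) * (t * z * t) * (t * w * t) * (t * u) = t * (x * y * z * w * u) := by
        intro x y z w u
        calc _ = t * x * (t * t) * y * (t * t) * z * (t * t) * w * (t * t) * u := by group
          _ = _ := by rw [htt]; group
      exact this _ _ _ _ _
  intro g
  have hg : g ∈ Subgroup.closure {j, s, t} := hgen ▸ Subgroup.mem_top g
  suffices h : ∀ v, ∃ w, word j s t w = g * word j s t v by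
    obtain ⟨v, hv⟩ := h (0, 0, 0, 0, 0)
    exact ⟨v, by simpa [word] using hv⟩
  clear hgen
  refine Subgroup.closure_induction_left (p := fun g _ => ∀ v, ∃ w, word j s t w = g * word j s t v)
    (fun v => ⟨v, (one_mul _).symm⟩) (fun a ha b _ ih v => ?_) (fun a ha b _ ih v => ?_) hg
  · obtain ⟨w, hw⟩ := ih v
    obtain ⟨w', hw'⟩ := hstep a ha w
    exact ⟨w', by rw [hw', hw, mul_assoc]⟩
  · obtain ⟨w, hw⟩ := ih v
    obtain ⟨w', hw'⟩ := hstep a ha w
    rcases ha with rfl | rfl | rfl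
    · obtain ⟨w'', hw''⟩ := hstep _ (Set.mem_insert _ _) w'
      refine ⟨w'', ?_⟩
      rw [hw'', hw', hw, show a⁻¹ = a * a by rw [inv_eq_iff_mul_eq_one, ← mul_assoc, ← sq, ← pow_succ, hj]]
      group
    · obtain ⟨w'', hw''⟩ := hstep _ (Set.mem_insert_of_mem _ (Set.mem_insert _ _)) w'
      refine ⟨w'', ?_⟩
      rw [hw'', hw', hw, ← hss]
      group
    · refine ⟨w', ?_⟩
      rw [hw', hw, inv_eq_of_mul_eq_one_right htt, mul_assoc]

theorem fin3_key : ∀ x y : Fin 3, ((x : ℕ) : ZMod 3) - (y : ℕ) = 0 → x = y := by decide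

/-- the symmetric group element -/
abbrev x9 : Equiv.Perm (Fin 9) :=
  Equiv.swap (0 : Fin 9) 1 * Equiv.swap 1 2 * Equiv.swap 3 4 * Equiv.swap 4 5 * Equiv.swap 6 7 * Equiv.swap 7 8

/-- model generators -/
def model : Fin 3 → Equiv.Perm (Fin 9) :=
  ![Equiv.swap (0 : Fin 9) 1 * Equiv.swap 1 2, Equiv.addRight (3 : Fin 9),
    Equiv.swap (3 : Fin 9) 6 * Equiv.swap 4 7 * Equiv.swap 5 8]

theorem model_rels : ∀ r ∈ rels, FreeGroup.lift model r = 1 := by
  intro r hr
  rcases hr with rfl | rfl | rfl | rfl | rfl | rfl <;>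
    simp only [map_pow, map_mul, map_inv, FreeGroup.lift_apply_of] <;> decide +kernel

theorem model_centralize : ∀ i, x9 * model i = model i * x9 := by decide +kernel

theorem model_words : ((Finset.univ : Finset (Fin 3 × Fin 3 × Fin 3 × Fin 3 × Fin 2)).image
    fun v => List.ofFn fun i : Fin 9 => word (model 0) (model 1) (model 2) v i).card = 162 := by
  decide +kernel

theorem card_centralizer9 : Nat.card (Subgroup.centralizer ({x9} : Set (Equiv.Perm (Fin 9)))) = 162 := by
  rw [Equiv.Perm.nat_card_centralizer]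
  decide +kernel

/-- any group of order 162 generated by such a triple is the centralizer -/
theorem equiv_of_triple {G : Type*} [Group G] [Finite G] (hG : Nat.card G = 162) (j s t : G)
    (hgen : Subgroup.closure {j, s, t} = ⊤) (hj : j ^ 3 = 1) (hs : s ^ 3 = 1) (ht : t ^ 2 = 1)
    (hjk : j * (s * j * s⁻¹) = (s * j * s⁻¹) * j) (hts : t * s * t = s⁻¹) (htj : t * j * t = j) :
    Nonempty (G ≃* Subgroup.centralizer ({x9} : Set (Equiv.Perm (Fin 9)))) := by
  let P := PresentedGroup rels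
  let J : P := PresentedGroup.of 0
  let S : P := PresentedGroup.of 1
  let T : P := PresentedGroup.of 2
  have hr : ∀ r ∈ rels, PresentedGroup.mk rels r = 1 := fun r hr => PresentedGroup.one_of_mem hr
  have hP : Subgroup.closure {J, S, T} = ⊤ := by
    rw [← PresentedGroup.closure_range_of rels]
    congr 1
    ext g
    constructor
    · rintro (rfl | rfl | rfl) <;> exact ⟨_, rfl⟩
    · rintro ⟨i, rfl⟩; fin_cases i <;> simp [J, S, T]
  have hTT : T ^ 2 = 1 := (map_pow (PresentedGroup.mk rels) (FreeGroup.of 2) 2).symm.trans (hr _ (by simp [rels]))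
  have hsurj : Function.Surjective (word J S T) := by
    refine word_surjective J S T hP ((map_pow (PresentedGroup.mk rels) (FreeGroup.of 0) 3).symm.trans (hr _ (by simp [rels])))
      ((map_pow (PresentedGroup.mk rels) (FreeGroup.of 1) 3).symm.trans (hr _ (by simp [rels]))) hTT ?_ ?_ ?_
    · have h := hr (FreeGroup.of 0 * (FreeGroup.of 1 * FreeGroup.of 0 * (FreeGroup.of 1)⁻¹) *
        (FreeGroup.of 0)⁻¹ * (FreeGroup.of 1 * FreeGroup.of 0 * (FreeGroup.of 1)⁻¹)⁻¹) (by simp [rels])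
      simp only [map_mul, map_inv] at h
      have h' : J * (S * J * S⁻¹) * J⁻¹ * (S * J * S⁻¹)⁻¹ = 1 := h
      exact mul_inv_eq_iff_eq_mul.1 (mul_inv_eq_one.1 h')
    · have h := hr (FreeGroup.of 2 * FreeGroup.of 1 * FreeGroup.of 2 * FreeGroup.of 1) (by simp [rels])
      simp only [map_mul] at h
      exact eq_inv_of_mul_eq_one_left (show T * S * T * S = 1 from h)
    · have h := hr (FreeGroup.of 2 * FreeGroup.of 0 * FreeGroup.of 2 * (FreeGroup.of 0)⁻¹) (by simp [rels])
      simp only [map_mul, map_inv] at h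
      exact mul_inv_eq_one.1 (show T * J * T * J⁻¹ = 1 from h)
  haveI : Finite P := Finite.of_surjective _ hsurj
  have hcP : Nat.card P ≤ 162 := by
    refine (Nat.card_le_card_of_surjective _ hsurj).trans (le_of_eq ?_)
    simp [Nat.card_eq_fintype_card]
  have hrels : ∀ r ∈ rels, FreeGroup.lift ![j, s, t] r = 1 := by
    intro r hr
    rcases hr with rfl | rfl | rfl | rfl | rfl | rfl <;>
      simp only [map_pow, map_mul, map_inv, FreeGroup.lift_apply_of, Matrix.cons_val_zero, Matrix.cons_val_one,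
        Matrix.cons_val]
    · exact hj
    · exact hs
    · exact ht
    · rw [hjk]; group
    · rw [hts, inv_mul_cancel]
    · rw [htj, mul_inv_cancel]
  let φ : P →* G := PresentedGroup.toGroup hrels
  have hφ : Function.Surjective φ := by
    rw [← MonoidHom.range_eq_top, eq_top_iff, ← hgen, Subgroup.closure_le]
    intro g hg
    rcases hg with hg | hg | hg <;> rw [hg]
    · exact ⟨J, PresentedGroup.toGroup.of _⟩
    · exact ⟨S, PresentedGroup.toGroup.of _⟩
    · exact ⟨T, PresentedGroup.toGroup.of _⟩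
  have hcPG : Nat.card P = 162 := le_antisymm hcP (hG ▸ Nat.card_le_card_of_surjective φ hφ)
  let eG : P ≃* G := MulEquiv.ofBijective φ ((Nat.bijective_iff_surjective_and_card φ).2 ⟨hφ, by rw [hcPG, hG]⟩)
  let ψ : P →* Equiv.Perm (Fin 9) := PresentedGroup.toGroup model_rels
  have hψ : ∀ i, ψ (PresentedGroup.of i) = model i := fun i => PresentedGroup.toGroup.of _
  have hψle : ψ.range ≤ Subgroup.centralizer ({x9} : Set (Equiv.Perm (Fin 9))) := by
    rw [MonoidHom.range_eq_map, ← PresentedGroup.closure_range_of rels, MonoidHom.map_closure, Subgroup.closure_le]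
    rintro _ ⟨_, ⟨i, rfl⟩, rfl⟩
    rw [SetLike.mem_coe, Subgroup.mem_centralizer_iff]
    rintro y rfl
    rw [hψ]; exact model_centralize i
  have hψcard : 162 ≤ Nat.card ψ.range := by
    classical
    rw [← model_words, ← Set.ncard_coe_finset]
    refine le_trans (Set.ncard_le_ncard (t := (fun g : Equiv.Perm (Fin 9) => List.ofFn fun i => g i) '' (ψ.range : Set (Equiv.Perm (Fin 9))))
      ?_ (Set.toFinite _)) ((Set.ncard_image_le (Set.toFinite _)).trans (le_of_eq (Nat.card_coe_set_eq _).symm))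
    intro x hx
    rw [Finset.coe_image] at hx
    obtain ⟨v, -, rfl⟩ := hx
    exact ⟨_, ⟨word J S T v, by simp [word, J, S, T, hψ]⟩, rfl⟩
  have heq : ψ.range = Subgroup.centralizer ({x9} : Set (Equiv.Perm (Fin 9))) :=
    Subgroup.eq_of_le_of_card_ge hψle (card_centralizer9 ▸ hψcard)
  let ψ' : P →* ψ.range := ψ.rangeRestrict
  let eC : P ≃* ψ.range := MulEquiv.ofBijective ψ' ((Nat.bijective_iff_surjective_and_card ψ').2
    ⟨ψ.rangeRestrict_surjective, by rw [hcPG, heq, card_centralizer9]⟩)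
  exact ⟨eG.symm.trans (eC.trans (MulEquiv.subgroupCongr heq))⟩

set_option maxHeartbeats 2000000 in
/-- Let G be a group of order 162 = 3⁴·2 with Sylow 3-subgroup S and Sylow 2-subgroup T, having an elementary abelian normal subgroup J of order 27, such that Z = Z(S) has order 3, Z centralizes T, and C_S(T) ≠ S. Then G is isomorphic to the centralizer in Sym(9) of a product of three disjoint 3-cycles. -/
theorem result {G : Type*} [Group G] [Finite G] (hG : Nat.card G = 162)
    (S : Sylow 3 G) (T : Sylow 2 G) (J : Subgroup G) [hJn : J.Normal] (hJcomm : IsMulCommutative J)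
    (hJexp : ∀ a ∈ J, a ^ 3 = 1) (hJcard : Nat.card J = 27)
    (Z : Subgroup G) (hZ : Z = (S : Subgroup G) ⊓ Subgroup.centralizer ((S : Subgroup G) : Set G)) (hZcard : Nat.card Z = 3)
    (hZT : Z ≤ Subgroup.centralizer ((T : Subgroup G) : Set G))
    (hST : (S : Subgroup G) ⊓ Subgroup.centralizer ((T : Subgroup G) : Set G) ≠ S) :
    Nonempty (G ≃* Subgroup.centralizer ({Equiv.swap (0 : Fin 9) 1 * Equiv.swap 1 2 * Equiv.swap 3 4 * Equiv.swap 4 5 * Equiv.swap 6 7 * Equiv.swap 7 8} : Set (Equiv.Perm (Fin 9)))) := by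
  haveI : Fact (Nat.Prime 2) := ⟨Nat.prime_two⟩
  haveI : Fact (Nat.Prime 3) := ⟨Nat.prime_three⟩
  have hS : Nat.card (S : Subgroup G) = 81 := by
    rw [S.card_eq_multiplicity, hG, show 162 = 3 ^ 4 * 2 from rfl,
      Nat.factorization_mul (by norm_num) (by norm_num), Finsupp.add_apply, Nat.Prime.factorization_pow Nat.prime_three,
      Nat.Prime.factorization Nat.prime_two]
    simp
  have hT : Nat.card (T : Subgroup G) = 2 := by
    rw [T.card_eq_multiplicity, hG, show 162 = 3 ^ 4 * 2 from rfl,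
      Nat.factorization_mul (by norm_num) (by norm_num), Finsupp.add_apply, Nat.Prime.factorization_pow Nat.prime_three,
      Nat.Prime.factorization Nat.prime_two]
    simp
  have hSi : (S : Subgroup G).index = 2 := by
    have := (S : Subgroup G).card_mul_index
    rw [hS, hG] at this; omega
  haveI hSn : (S : Subgroup G).Normal := Subgroup.normal_of_index_eq_two hSi
  have hJS : J ≤ (S : Subgroup G) := by
    obtain ⟨Q, hQ⟩ := (IsPGroup.of_card (n := 3) (by rw [hJcard]; rfl) : IsPGroup 3 J).exists_le_sylow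
    haveI := Sylow.unique_of_normal S hSn
    have : Q = S := Subsingleton.elim _ _
    exact this ▸ hQ
  have hJc : ∀ a ∈ J, ∀ b ∈ J, Commute a b := fun a ha b hb =>
    congrArg Subtype.val (hJcomm.is_comm.comm (⟨a, ha⟩ : J) ⟨b, hb⟩)
  obtain ⟨s₀, hs₀S, hs₀J⟩ : ∃ s₀ ∈ (S : Subgroup G), s₀ ∉ J := SetLike.not_le_iff_exists.1 fun h => by
    have := Subgroup.card_le_of_le h; omega
  have hZmem : ∀ z, z ∈ Z ↔ z ∈ (S : Subgroup G) ∧ ∀ u ∈ (S : Subgroup G), u * z = z * u := by
    intro z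
    rw [hZ, Subgroup.mem_inf, Subgroup.mem_centralizer_iff]
    rfl
  -- the normal subgroup J has index 3 in S
  have hJi : (J.subgroupOf (S : Subgroup G)).index = 3 := by
    have := (J.subgroupOf (S : Subgroup G)).card_mul_index
    rw [Nat.card_congr (Subgroup.subgroupOfEquivOfLe hJS).toEquiv, hJcard, hS] at this
    omega
  have hpowJ : ∀ g ∈ (S : Subgroup G), g ∉ J → ∀ u ∈ (S : Subgroup G), ∃ i : ℕ, ∃ a ∈ J, u = a * g ^ i := by
    intro g hg hgJ u hu
    let π := QuotientGroup.mk' (J.subgroupOf (S : Subgroup G))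
    have hc : Nat.card ((S : Subgroup G) ⧸ J.subgroupOf (S : Subgroup G)) = 3 := by
      rw [← Subgroup.index_eq_card, hJi]
    have hne : π ⟨g, hg⟩ ≠ 1 := fun h => hgJ (by
      rwa [QuotientGroup.mk'_apply, QuotientGroup.eq_one_iff, Subgroup.mem_subgroupOf] at h)
    obtain ⟨i, hi⟩ := (isOfFinOrder_of_finite _).mem_powers_iff_mem_zpowers.2
      (mem_zpowers_of_prime_card hc hne (g' := π ⟨u, hu⟩))
    refine ⟨i, u * (g ^ i)⁻¹, ?_, by group⟩
    have h1 : π (⟨u, hu⟩ * (⟨g, hg⟩ ^ i)⁻¹) = 1 := by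
      rw [map_mul, map_inv, map_pow, mul_inv_eq_one]; exact hi.symm
    rw [QuotientGroup.mk'_apply, QuotientGroup.eq_one_iff, Subgroup.mem_subgroupOf] at h1
    simpa using h1
  have hfixZ : ∀ g ∈ (S : Subgroup G), g ∉ J → ∀ z ∈ J, g * z = z * g → z ∈ Z := by
    intro g hg hgJ z hz hgz
    rw [hZmem]
    refine ⟨hJS hz, fun u hu => ?_⟩
    obtain ⟨i, a, ha, rfl⟩ := hpowJ g hg hgJ u hu
    exact (Commute.mul_left (hJc a ha z hz) ((show Commute g z from hgz).pow_left i)).eq
  have hg3 : ∀ g ∈ (S : Subgroup G), g ^ 3 ∈ J := by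
    intro g hg
    have h := (J.subgroupOf (S : Subgroup G)).pow_index_mem ⟨g, hg⟩
    rw [hJi, Subgroup.mem_subgroupOf] at h
    simpa using h
  -- the involution
  haveI : Nontrivial (T : Subgroup G) := Finite.one_lt_card_iff_nontrivial.1 (by omega)
  obtain ⟨⟨t, htT⟩, htne⟩ := exists_ne (1 : (T : Subgroup G))
  have ht1 : t ≠ 1 := fun h => htne (Subtype.ext h)
  have ht2 : t ^ 2 = 1 := by
    have := pow_card_eq_one' (G := (T : Subgroup G)) (x := ⟨t, htT⟩)
    rw [hT] at this
    exact congrArg Subtype.val this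
  have htt : t * t = 1 := by rw [← sq]; exact ht2
  have hti : t⁻¹ = t := inv_eq_of_mul_eq_one_right htt
  have htS : ∀ u, u ∈ (S : Subgroup G) → t * u * t ∈ (S : Subgroup G) := fun u hu => by
    have := hSn.conj_mem u hu t; rwa [hti] at this
  have htJ : ∀ u, u ∈ J → t * u * t ∈ J := fun u hu => by
    have := hJn.conj_mem u hu t; rwa [hti] at this
  have htz : ∀ z ∈ Z, t * z * t = z := fun z hz => by
    have h := Subgroup.mem_centralizer_iff.1 (hZT hz) t htT
    rw [h, mul_assoc, htt, mul_one]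
  have hsplit : ∀ x y, t * (x * y) * t = (t * x * t) * (t * y * t) := fun x y => by
    calc t * (x * y) * t = t * x * 1 * y * t := by group
      _ = t * x * (t * t) * y * t := by rw [htt]
      _ = _ := by group
  -- a norm of an element of J
  let N : G → G → G := fun g u => u * (g * u * g⁻¹) * (g⁻¹ * u * g)
  have hconjJ : ∀ g u, u ∈ J → g * u * g⁻¹ ∈ J := fun g u hu => hJn.conj_mem u hu g
  have hconjJ' : ∀ g u, u ∈ J → g⁻¹ * u * g ∈ J := fun g u hu => by simpa using hJn.conj_mem u hu g⁻¹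
  have hcube : ∀ g ∈ (S : Subgroup G), ∀ u ∈ J, g * (g * u * g⁻¹) * g⁻¹ = g⁻¹ * u * g := by
    intro g hg u hu
    have h3 := hJc _ (hg3 g hg) u hu
    calc g * (g * u * g⁻¹) * g⁻¹ = g⁻¹ * (g ^ 3 * u) * (g ^ 3)⁻¹ * g := by rw [pow_succ, sq]; group
      _ = g⁻¹ * (u * g ^ 3) * (g ^ 3)⁻¹ * g := by rw [h3.eq]
      _ = g⁻¹ * u * g := by group
  have hNnon : ∀ g ∈ (S : Subgroup G), g ∉ J → ∃ u ∈ J, N g u ≠ 1 := by
    intro g hg hgJ
    by_contra hall
    push Not at hall
    have hD : ∀ u ∈ J, (g * u * g⁻¹) * u⁻¹ ∈ Z := by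
      intro u hu
      set k := g * u * g⁻¹ with hk
      set l := g⁻¹ * u * g with hl
      have hkJ : k ∈ J := hconjJ g u hu
      have hlJ : l ∈ J := hconjJ' g u hu
      refine hfixZ g hg hgJ _ (J.mul_mem hkJ (J.inv_mem hu)) ?_
      have h1 : g * (k * u⁻¹) * g⁻¹ = l * k⁻¹ := by
        rw [hl, ← hcube g hg u hu, hk]; group
      have h2 : l * k⁻¹ = k * u⁻¹ := by
        have hN : u * k * l = 1 := hall u hu
        have hk3 : k * k * k = 1 := by
          have := hJexp k hkJ; rwa [pow_succ, sq] at this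
        have hleq : l = k⁻¹ * u⁻¹ := by rw [← mul_inv_rev]; exact eq_inv_of_mul_eq_one_right hN
        calc l * k⁻¹ = k⁻¹ * (u⁻¹ * k⁻¹) := by rw [hleq, mul_assoc]
          _ = k⁻¹ * (k⁻¹ * u⁻¹) := by rw [(hJc _ hu _ hkJ).inv_left.inv_right.eq]
          _ = (k * k * k)⁻¹ * k * u⁻¹ := by group
          _ = k * u⁻¹ := by rw [hk3, inv_one, one_mul]
      rw [h2] at h1
      exact mul_inv_eq_iff_eq_mul.1 h1
    -- too small
    let D : J → Z := fun u => ⟨_, hD u u.2⟩
    have hfib : ∀ a b : J, D a = D b → (b : G)⁻¹ * a ∈ Z := by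
      intro a b hab
      have hab' : g * (a : G) * g⁻¹ * (a : G)⁻¹ = g * (b : G) * g⁻¹ * (b : G)⁻¹ := congrArg Subtype.val hab
      refine hfixZ g hg hgJ _ (J.mul_mem (J.inv_mem b.2) a.2) ?_
      have hc : ∀ x y : G, x ∈ J → y ∈ J → x * y = y * x := fun x y hx hy => (hJc x hx y hy).eq
      have h4 : g * (a : G) * g⁻¹ = g * (b : G) * g⁻¹ * ((b : G)⁻¹ * a) := by
        rw [← mul_assoc, ← hab']; group
      calc g * ((b : G)⁻¹ * a) = g * (b : G)⁻¹ * g⁻¹ * (g * (a : G) * g⁻¹) * g := by group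
        _ = ((b : G)⁻¹ * a) * g := by rw [h4]; group
    have hbound : Nat.card J ≤ Nat.card (Z × Z) := by
      classical
      choose r hr using fun z : Set.range D => z.2
      refine Nat.card_le_card_of_injective
        (fun a => (D a, ⟨((r ⟨D a, a, rfl⟩ : J) : G)⁻¹ * a, hfib a _ (hr ⟨D a, a, rfl⟩).symm⟩)) ?_
      intro a b hab
      obtain ⟨h1, h2⟩ := Prod.mk.inj hab
      have h2' := congrArg Subtype.val h2
      simp only at h2'
      have : (⟨D a, a, rfl⟩ : Set.range D) = ⟨D b, b, rfl⟩ := Subtype.ext h1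
      rw [this] at h2'
      exact Subtype.ext (mul_left_cancel h2')
    rw [Nat.card_prod, hJcard, hZcard] at hbound
    omega
  have hNZ : ∀ g ∈ (S : Subgroup G), g ∉ J → ∀ u ∈ J, N g u ∈ Z := by
    intro g hg hgJ u hu
    have hk := hconjJ g u hu
    have hl := hconjJ' g u hu
    refine hfixZ g hg hgJ _ (J.mul_mem (J.mul_mem hu hk) hl) ?_
    rw [← mul_inv_eq_iff_eq_mul]
    show g * N g u * g⁻¹ = N g u
    calc g * (u * (g * u * g⁻¹) * (g⁻¹ * u * g)) * g⁻¹
        = (g * u * g⁻¹) * (g * (g * u * g⁻¹) * g⁻¹) * u := by group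
      _ = (g * u * g⁻¹) * (g⁻¹ * u * g) * u := by rw [hcube g hg u hu]
      _ = u * (g * u * g⁻¹) * (g⁻¹ * u * g) := by
          rw [mul_assoc u]; exact ((hJc _ hk u hu).mul_left (hJc _ hl u hu)).eq
  -- the free generator fixed by t
  have hfree : ∀ g ∈ (S : Subgroup G), g ∉ J → (t * g * t * g⁻¹ ∈ J ∨ t * g * t * g ∈ J) →
      ∃ j ∈ J, t * j * t = j ∧ N g j ≠ 1 := by
    intro g hg hgJ hcase
    obtain ⟨u, hu, hNu⟩ := hNnon g hg hgJ
    refine ⟨u * (t * u * t), J.mul_mem hu (htJ u hu), ?_, ?_⟩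
    · rw [hsplit, show t * (t * u * t) * t = u by
        calc t * (t * u * t) * t = (t * t) * u * (t * t) := by group
          _ = u := by rw [htt, one_mul, mul_one]]
      exact (hJc _ (htJ u hu) _ hu).eq
    · set v := t * u * t with hv
      have hv' := htJ u hu
      have hmul : N g (u * v) = N g u * N g v := by
        have c1 := hJc _ hv' _ (hconjJ g u hu)
        have c2 := hJc _ (J.mul_mem hv' (hconjJ g v hv')) _ (hconjJ' g u hu)
        calc N g (u * v) = u * (v * (g * u * g⁻¹)) * (g * v * g⁻¹) * (g⁻¹ * u * g) * (g⁻¹ * v * g) := by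
              simp only [N]; group
          _ = u * ((g * u * g⁻¹) * v) * (g * v * g⁻¹) * (g⁻¹ * u * g) * (g⁻¹ * v * g) := by rw [c1.eq]
          _ = u * (g * u * g⁻¹) * ((v * (g * v * g⁻¹)) * (g⁻¹ * u * g)) * (g⁻¹ * v * g) := by group
          _ = u * (g * u * g⁻¹) * ((g⁻¹ * u * g) * (v * (g * v * g⁻¹))) * (g⁻¹ * v * g) := by rw [c2.eq]
          _ = N g u * N g v := by simp only [N]; group
      have htN : N g v = t * N g u * t := by
        have e1 : t * (g * u * g⁻¹) * t = (t * g * t) * v * (t * g * t)⁻¹ := by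
          rw [hv, mul_inv_rev, mul_inv_rev, hti, hsplit, hsplit]; group
        have e2 : t * (g⁻¹ * u * g) * t = (t * g * t)⁻¹ * v * (t * g * t) := by
          rw [hv, mul_inv_rev, mul_inv_rev, hti, hsplit, hsplit]; group
        have key : ∀ a ∈ J, ∀ h w : G, w ∈ J → (a * h) * w * (a * h)⁻¹ = h * w * h⁻¹ := by
          intro a ha h w hw
          calc (a * h) * w * (a * h)⁻¹ = a * (h * w * h⁻¹) * a⁻¹ := by group
            _ = h * w * h⁻¹ := by rw [(hJc a ha _ (hconjJ h w hw)).eq, mul_inv_cancel_right]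
        have key' : ∀ a ∈ J, ∀ h w : G, w ∈ J → (a * h)⁻¹ * w * (a * h) = h⁻¹ * w * h := by
          intro a ha h w hw
          calc (a * h)⁻¹ * w * (a * h) = h⁻¹ * (a⁻¹ * (w * a)) * h := by group
            _ = h⁻¹ * w * h := by rw [← (hJc a ha w hw).eq, inv_mul_cancel_left]
        show _ = t * (u * (g * u * g⁻¹) * (g⁻¹ * u * g)) * t
        rw [hsplit, hsplit, e1, e2]
        rcases hcase with h | h
        · rw [show t * g * t = (t * g * t * g⁻¹) * g by group, key _ h g v hv', key' _ h g v hv']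
        · rw [show t * g * t = (t * g * t * g) * g⁻¹ by group, key _ h g⁻¹ v hv', key' _ h g⁻¹ v hv', inv_inv]
          show v * (g * v * g⁻¹) * (g⁻¹ * v * g) = v * (g⁻¹ * v * g) * (g * v * g⁻¹)
          rw [mul_assoc, (hJc _ (hconjJ g v hv') _ (hconjJ' g v hv')).eq, ← mul_assoc]
      rw [hmul, htN, htz _ (hNZ g hg hgJ u hu)]
      intro h
      apply hNu
      have h3 : N g u ^ 3 = 1 := hJexp _ (J.mul_mem (J.mul_mem hu (hconjJ g u hu)) (hconjJ' g u hu))
      rwa [pow_succ, sq, h, one_mul] at h3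
  have hgenJ : ∀ g ∈ (S : Subgroup G), ∀ j ∈ J, N g j ≠ 1 → ∀ y ∈ J,
      ∃ a b c : ℕ, y = j ^ a * (g * j * g⁻¹) ^ b * (g⁻¹ * j * g) ^ c := by
    intro g hg j hj hN
    set k := g * j * g⁻¹ with hk
    set l := g⁻¹ * j * g with hl
    have hkJ : k ∈ J := hconjJ g j hj
    have hlJ : l ∈ J := hconjJ' g j hj
    let Ψ : (Fin 3 × Fin 3 × Fin 3) → J := fun v =>
      ⟨j ^ (v.1 : ℕ) * k ^ (v.2.1 : ℕ) * l ^ (v.2.2 : ℕ),
        J.mul_mem (J.mul_mem (J.pow_mem hj _) (J.pow_mem hkJ _)) (J.pow_mem hlJ _)⟩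
    let F : ZMod 3 → ZMod 3 → ZMod 3 → G := fun a b c => j ^ a.val * k ^ b.val * l ^ c.val
    have hval : ∀ x ∈ J, ∀ a b : ZMod 3, x ^ (a + b).val = x ^ a.val * x ^ b.val := by
      intro x hx a b
      rw [ZMod.val_add, ← pow_add]
      exact (pow_eq_pow_mod _ (hJexp x hx)).symm
    have hFadd : ∀ a b c a' b' c', F (a + a') (b + b') (c + c') = F a b c * F a' b' c' := by
      intro a b c a' b' c'
      simp only [F, hval j hj, hval k hkJ, hval l hlJ]
      have c1 := hJc _ (J.pow_mem hj a'.val) _ (J.pow_mem hkJ b.val)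
      have c2 := hJc _ (J.mul_mem (J.pow_mem hj a'.val) (J.pow_mem hkJ b'.val)) _ (J.pow_mem hlJ c.val)
      calc _ = j ^ a.val * (j ^ a'.val * k ^ b.val) * k ^ b'.val * l ^ c.val * l ^ c'.val := by group
        _ = j ^ a.val * (k ^ b.val * j ^ a'.val) * k ^ b'.val * l ^ c.val * l ^ c'.val := by rw [c1.eq]
        _ = j ^ a.val * k ^ b.val * ((j ^ a'.val * k ^ b'.val) * l ^ c.val) * l ^ c'.val := by group
        _ = j ^ a.val * k ^ b.val * (l ^ c.val * (j ^ a'.val * k ^ b'.val)) * l ^ c'.val := by rw [c2.eq]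
        _ = _ := by group
    have hshift : ∀ a b c, F a b c = 1 → F c a b = 1 := by
      intro a b c h
      have h1 : g * F a b c * g⁻¹ = k ^ a.val * l ^ b.val * j ^ c.val := by
        have f1 : g * j ^ a.val * g⁻¹ = k ^ a.val := by rw [hk, conj_pow]
        have f2 : g * k ^ b.val * g⁻¹ = l ^ b.val := by rw [← conj_pow, hk, hcube g hg j hj]
        have f3 : g * l ^ c.val * g⁻¹ = j ^ c.val := by rw [← conj_pow, hl]; group
        simp only [F]; rw [← f1, ← f2, ← f3]; group
      rw [h, mul_one, mul_inv_cancel] at h1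
      show j ^ c.val * k ^ a.val * l ^ b.val = 1
      rw [h1, mul_assoc]
      exact (hJc _ (J.pow_mem hj _) _ (J.mul_mem (J.pow_mem hkJ _) (J.pow_mem hlJ _))).eq
    have hdiag : ∀ d, F d d d = 1 → d = 0 := by
      intro d hd
      have e : F d d d = N g j ^ d.val := by
        show j ^ d.val * k ^ d.val * l ^ d.val = (j * k * l) ^ d.val
        rw [((hJc _ hj _ hlJ).mul_left (hJc _ hkJ _ hlJ)).mul_pow, (hJc _ hj _ hkJ).mul_pow]
      by_contra hd0
      apply hN
      haveI := Fact.mk Nat.prime_three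
      have h3 : N g j ^ 3 = 1 := hJexp _ (J.mul_mem (J.mul_mem hj hkJ) hlJ)
      have hc : Nat.Coprime d.val 3 := by
        rw [Nat.coprime_comm, Nat.prime_three.coprime_iff_not_dvd]
        intro hdvd
        have := ZMod.val_lt d
        exact hd0 ((ZMod.val_eq_zero d).1 (by omega))
      have := Nat.eq_one_of_dvd_coprimes hc (orderOf_dvd_of_pow_eq_one (e ▸ hd)) (orderOf_dvd_of_pow_eq_one h3)
      exact orderOf_eq_one_iff.1 this
    have hker : ∀ a b c, F a b c = 1 → a = 0 ∧ b = 0 ∧ c = 0 := by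
      intro a b c h
      have h' := hshift a b c h
      have h'' := hshift c a b h'
      have hsum : a + c + b = 0 := hdiag _ (by
        have := hFadd (a + c) (b + a) (c + b) b c a
        rw [show b + a + c = a + c + b by ring, show c + b + a = a + c + b by ring, hFadd a b c c a b, h, h', h'', one_mul,
          one_mul] at this
        exact this)
      have hd := hdiag (a + -c) (by
        have e1 : b + -a = a + -c := by
          have h3 : (3 : ZMod 3) = 0 := rfl
          linear_combination hsum - a * h3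
        have e2 : c + -b = a + -c := by
          have h3 : (3 : ZMod 3) = 0 := rfl
          linear_combination -hsum + c * h3
        have hneg : F (-c) (-a) (-b) = 1 := by
          have := hFadd c a b (-c) (-a) (-b)
          rw [add_neg_cancel, add_neg_cancel, add_neg_cancel, h', one_mul] at this
          rw [← this]; simp [F]
        have := hFadd a b c (-c) (-a) (-b)
        rw [h, hneg, one_mul, e1, e2] at this
        exact this)
      have hac : a = c := by linear_combination hd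
      have h3 : (3 : ZMod 3) = 0 := rfl
      have hb : b = a := by linear_combination hsum - a * h3 + hac
      subst hac hb
      exact ⟨hdiag _ h, hdiag _ h, hdiag _ h⟩
    have hinj : Function.Injective Ψ := by
      rintro ⟨a, b, c⟩ ⟨a', b', c'⟩ h
      have hh : F (a : ℕ) (b : ℕ) (c : ℕ) = F (a' : ℕ) (b' : ℕ) (c' : ℕ) := by
        have := congrArg Subtype.val h
        simpa [F, Ψ, ZMod.val_natCast, Nat.mod_eq_of_lt a.isLt, Nat.mod_eq_of_lt b.isLt, Nat.mod_eq_of_lt c.isLt,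
          Nat.mod_eq_of_lt a'.isLt, Nat.mod_eq_of_lt b'.isLt, Nat.mod_eq_of_lt c'.isLt] using this
      have h0 : F (((a : ℕ) : ZMod 3) - (a' : ℕ)) (((b : ℕ) : ZMod 3) - (b' : ℕ)) (((c : ℕ) : ZMod 3) - (c' : ℕ)) = 1 := by
        have := hFadd (((a : ℕ) : ZMod 3) - (a' : ℕ)) (((b : ℕ) : ZMod 3) - (b' : ℕ)) (((c : ℕ) : ZMod 3) - (c' : ℕ))
          (a' : ℕ) (b' : ℕ) (c' : ℕ)
        rw [sub_add_cancel, sub_add_cancel, sub_add_cancel, hh] at this
        exact mul_eq_right.1 this.symm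
      obtain ⟨ha, hb, hc⟩ := hker _ _ _ h0
      rw [fin3_key _ _ ha, fin3_key _ _ hb, fin3_key _ _ hc]
    have hbij : Function.Bijective Ψ := (Nat.bijective_iff_injective_and_card Ψ).2 ⟨hinj, by
      rw [hJcard]; simp [Nat.card_eq_fintype_card]⟩
    intro y hy
    obtain ⟨v, hv⟩ := hbij.2 ⟨y, hy⟩
    exact ⟨v.1, v.2.1, v.2.2, (congrArg Subtype.val hv).symm⟩
  -- the element of order 3 inverted by t
  obtain ⟨i, a, ha, hia⟩ := hpowJ s₀ hs₀S hs₀J _ (htS s₀ hs₀S)
  have hcases : t * s₀ * t * s₀⁻¹ ∈ J ∨ t * s₀ * t * s₀ ∈ J := by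
    have h3 := hg3 s₀ hs₀S
    have hi3 : s₀ ^ i = (s₀ ^ 3) ^ (i / 3) * s₀ ^ (i % 3) := by rw [← pow_mul, ← pow_add, Nat.div_add_mod]
    rcases (by omega : i % 3 = 0 ∨ i % 3 = 1 ∨ i % 3 = 2) with h | h | h <;> rw [h] at hi3
    · exfalso
      apply hs₀J
      have : t * s₀ * t ∈ J := by rw [hia, hi3, pow_zero, mul_one]; exact J.mul_mem ha (J.pow_mem h3 _)
      have := htJ _ this
      have e : t * (t * s₀ * t) * t = s₀ := by
        calc t * (t * s₀ * t) * t = (t * t) * s₀ * (t * t) := by group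
          _ = s₀ := by rw [htt, one_mul, mul_one]
      rwa [e] at this
    · left
      rw [hia, hi3, pow_one, ← mul_assoc, mul_inv_cancel_right]
      exact J.mul_mem ha (J.pow_mem h3 _)
    · right
      rw [hia, hi3, mul_assoc a, mul_assoc ((s₀ ^ 3) ^ _), ← pow_succ]
      exact J.mul_mem ha (J.mul_mem (J.pow_mem h3 _) h3)
  obtain ⟨j, hjJ, htj, hNj⟩ := hfree s₀ hs₀S hs₀J hcases
  rcases hcases with hcen | hinv
  · -- t would centralise S
    exfalso
    apply hST
    have hfix : ∀ g ∈ (S : Subgroup G), g ∉ J → ∀ w ∈ J, t * g * t * g⁻¹ ∈ J → t * w * t = w →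
        t * (g * w * g⁻¹) * t = g * w * g⁻¹ ∧ t * (g⁻¹ * w * g) * t = g⁻¹ * w * g := by
      intro g hg hgJ w hw hc htw
      have e : t * g * t = (t * g * t * g⁻¹) * g := by group
      have e' : t * g⁻¹ * t = (t * g * t)⁻¹ := by rw [mul_inv_rev, mul_inv_rev, hti]; group
      constructor
      · rw [hsplit, hsplit, htw, e', e]
        calc _ = (t * g * t * g⁻¹) * (g * w * g⁻¹) * (t * g * t * g⁻¹)⁻¹ := by group
          _ = g * w * g⁻¹ := by rw [(hJc _ hc _ (hconjJ g w hw)).eq, mul_inv_cancel_right]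
      · rw [hsplit, hsplit, htw, e', e]
        calc _ = g⁻¹ * ((t * g * t * g⁻¹)⁻¹ * w * (t * g * t * g⁻¹)) * g := by group
          _ = g⁻¹ * w * g := by rw [mul_assoc _ w, ← (hJc _ hc _ hw).eq, inv_mul_cancel_left]
    obtain ⟨hf1, hf2⟩ := hfix s₀ hs₀S hs₀J j hjJ hcen htj
    have hJfix : ∀ y ∈ J, t * y * t = y := by
      intro y hy
      obtain ⟨a, b, c, rfl⟩ := hgenJ s₀ hs₀S j hjJ hNj y hy
      have hc : ∀ x : G, t * x * t = x → Commute t x := fun x hx => by
        show t * x = x * t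
        calc t * x = (t * x * t) * t := by rw [mul_assoc (t * x), htt, mul_one]
          _ = x * t := by rw [hx]
      have := (((hc _ htj).pow_right a).mul_right ((hc _ hf1).pow_right b)).mul_right ((hc _ hf2).pow_right c)
      rw [this.eq, mul_assoc, htt, mul_one]
    have hs₀fix : t * s₀ * t = s₀ := by
      set w := t * s₀ * t * s₀⁻¹ with hw
      have e : t * s₀ * t = w * s₀ := by rw [hw]; group
      have h2 : s₀ = w * (w * s₀) := by
        calc s₀ = t * (t * s₀ * t) * t := by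
              rw [show t * (t * s₀ * t) * t = (t * t) * s₀ * (t * t) by group, htt, one_mul, mul_one]
          _ = w * (w * s₀) := by rw [e, hsplit, hJfix w hcen, e]
      have hw2 : w * w = 1 := by
        rw [← mul_assoc] at h2; exact mul_eq_right.1 h2.symm
      have hw3 := hJexp w hcen
      rw [pow_succ, sq, hw2, one_mul] at hw3
      rw [e, hw3, one_mul]
    refine le_antisymm inf_le_left fun u hu => Subgroup.mem_inf.2 ⟨hu, ?_⟩
    rw [Subgroup.mem_centralizer_iff]
    intro w hw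
    have hwc : w = 1 ∨ w = t := by
      by_contra hc
      push Not at hc
      have h2 : ({1, ⟨t, htT⟩, ⟨w, hw⟩} : Set (T : Subgroup G)).ncard = 3 :=
        Set.ncard_eq_three.2 ⟨_, _, _, fun h => ht1 (congrArg Subtype.val h).symm,
          fun h => hc.1 (congrArg Subtype.val h).symm, fun h => hc.2 (congrArg Subtype.val h).symm, rfl⟩
      have := Set.ncard_le_ncard (t := Set.univ) (Set.subset_univ ({1, ⟨t, htT⟩, ⟨w, hw⟩} : Set (T : Subgroup G)))
      rw [h2, Set.ncard_univ, hT] at this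
      omega
    rcases hwc with rfl | rfl
    · simp
    obtain ⟨i, a, ha, rfl⟩ := hpowJ s₀ hs₀S hs₀J u hu
    have hc : ∀ x : G, w * x * w = x → Commute w x := fun x hx => by
      show w * x = x * w
      calc w * x = (w * x * w) * w := by rw [mul_assoc (w * x), htt, mul_one]
        _ = x * w := by rw [hx]
    exact (((hc _ (hJfix a ha))).mul_right ((hc _ hs₀fix).pow_right i)).eq
  · -- choose s in J s₀ with t s t = s⁻¹
    have hφmem : ∀ y : J, t * ((y : G) * s₀)⁻¹ * t * s₀⁻¹ ∈ J := by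
      intro y
      have e : t * ((y : G) * s₀)⁻¹ * t * s₀⁻¹ = (t * s₀⁻¹ * t * s₀⁻¹) * (s₀ * (t * (y : G)⁻¹ * t) * s₀⁻¹) := by
        rw [mul_inv_rev, hsplit]; group
      rw [e]
      refine J.mul_mem ?_ (hconjJ _ _ (htJ _ (J.inv_mem y.2)))
      have e2 : t * s₀⁻¹ * t * s₀⁻¹ = s₀ * (t * s₀ * t * s₀)⁻¹ * s₀⁻¹ := by
        rw [mul_inv_rev, mul_inv_rev, mul_inv_rev, hti]; group
      rw [e2]
      exact hconjJ _ _ (J.inv_mem hinv)
    let φ : J → J := fun y => ⟨_, hφmem y⟩
    have hφ2 : ∀ y, φ (φ y) = y := by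
      intro y
      apply Subtype.ext
      show t * ((t * ((y : G) * s₀)⁻¹ * t * s₀⁻¹) * s₀)⁻¹ * t * s₀⁻¹ = y
      rw [inv_mul_cancel_right, mul_inv_rev, mul_inv_rev, inv_inv, hti]
      calc t * (t * ((y : G) * s₀ * t)) * t * s₀⁻¹ = (t * t) * ((y : G) * s₀) * (t * t) * s₀⁻¹ := by group
        _ = y := by rw [htt, one_mul, mul_one, mul_inv_cancel_right]
    obtain ⟨y, hy⟩ : ∃ y, φ y = y := by
      classical
      haveI := Fintype.ofFinite J
      let e : Equiv.Perm J := Function.Involutive.toPerm φ hφ2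
      have hev : ¬ 2 ∣ Fintype.card J := by rw [← Nat.card_eq_fintype_card, hJcard]; norm_num
      obtain ⟨y, hy⟩ := Equiv.Perm.exists_fixed_point_of_prime (p := 2) (n := 1) hev (σ := e)
        (by ext1 y; simp only [pow_one, sq, Equiv.Perm.mul_apply]; exact hφ2 y)
      exact ⟨y, hy⟩
    set s := (y : G) * s₀ with hs
    have hsS : s ∈ (S : Subgroup G) := mul_mem (hJS y.2) hs₀S
    have hsJ : s ∉ J := fun h => hs₀J (by simpa [hs] using J.mul_mem (J.inv_mem y.2) h)
    have hy' : t * s⁻¹ * t * s₀⁻¹ = y := congrArg Subtype.val hy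
    have hts' : t * s⁻¹ * t = s := by
      calc t * s⁻¹ * t = (t * s⁻¹ * t * s₀⁻¹) * s₀ := by group
        _ = s := by rw [hy', hs]
    have hts : t * s * t = s⁻¹ := by
      nth_rewrite 1 [← hts']
      calc t * (t * s⁻¹ * t) * t = (t * t) * s⁻¹ * (t * t) := by group
        _ = s⁻¹ := by rw [htt, one_mul, mul_one]
    have hs3 : s ^ 3 = 1 := by
      have hsJ3 := hg3 s hsS
      have h1 : t * s ^ 3 * t = s ^ 3 := htz _ (hfixZ s hsS hsJ _ hsJ3 ((Commute.self_pow s 3).eq))
      have h2 : t * s ^ 3 * t = (s⁻¹) ^ 3 := by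
        rw [← hts]
        conv_rhs => rw [show t * s * t = t * s * t⁻¹ by rw [hti], conj_pow, hti]
      rw [h2, inv_pow] at h1
      have h4 : s ^ 3 * s ^ 3 = 1 := by nth_rewrite 1 [← h1]; exact inv_mul_cancel _
      have h5 := hJexp _ hsJ3
      rwa [pow_succ, sq, h4, one_mul] at h5
    obtain ⟨j', hj'J, htj', hNj'⟩ := hfree s hsS hsJ (Or.inr (by rw [hts, inv_mul_cancel]; exact J.one_mem))
    refine equiv_of_triple hG j' s t ?_ (hJexp j' hj'J) hs3 ht2 (hJc _ hj'J _ (hconjJ s j' hj'J)).eq hts htj'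
    rw [eq_top_iff]
    intro g _
    have hj'm : j' ∈ Subgroup.closure {j', s, t} := Subgroup.subset_closure (by simp)
    have hsm : s ∈ Subgroup.closure {j', s, t} := Subgroup.subset_closure (by simp)
    have htm : t ∈ Subgroup.closure {j', s, t} := Subgroup.subset_closure (by simp)
    have hSle : ∀ u ∈ (S : Subgroup G), u ∈ Subgroup.closure {j', s, t} := by
      intro u hu
      obtain ⟨i, a, ha, rfl⟩ := hpowJ s hsS hsJ u hu
      obtain ⟨a1, b1, c1, rfl⟩ := hgenJ s hsS j' hj'J hNj' a ha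
      refine mul_mem (mul_mem (mul_mem (pow_mem hj'm _) (pow_mem ?_ _)) (pow_mem ?_ _)) (pow_mem hsm _)
      · exact mul_mem (mul_mem hsm hj'm) (inv_mem hsm)
      · exact mul_mem (mul_mem (inv_mem hsm) hj'm) hsm
    have htS' : t ∉ (S : Subgroup G) := by
      intro h
      have := Subgroup.orderOf_dvd_natCard _ h
      rw [orderOf_eq_prime ht2 ht1, hS] at this
      omega
    by_cases hgS : g ∈ (S : Subgroup G)
    · exact hSle g hgS
    · have : g * t ∈ (S : Subgroup G) :=
        (Subgroup.mul_mem_iff_of_index_two hSi).2 (iff_of_false hgS htS')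
      have h2 := mul_mem (hSle _ this) htm
      rwa [mul_assoc, htt, mul_one] at h2

end Cfsg.Agent.S3376
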