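import Cfsg.Statements.S3380
import Cfsg.Agent.Lib.CoprimeImprimitive
import Cfsg.Agent.Lib.NormalFourGroup

set_option autoImplicit false
open Cfsg

namespace Cfsg.Agent.S3380

/-- Let a finite p-group G act faithfully and irreducibly on a non-trivial finite vector space V over the field with q elements (q prime), and suppose G is not cyclic, generalized quaternion, dihedral or semidihedral. Then G has a subgroup H of index p and V is the direct sum of p subspaces, each invariant under H, on none of which H acts faithfully, and which every element of G outside H permutes in a single p-cycle. -/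
theorem result
    (q : ℕ) [Fact q.Prime] {V : Type*} [AddCommGroup V] [Module (ZMod q) V] [Finite V] [Nontrivial V]
    {G : Type*} [Group G] [Finite G] (p : ℕ) [Fact p.Prime] (hG : IsPGroup p G)
    (ρ : G →* (V ≃ₗ[ZMod q] V)) (hρ : Function.Injective ρ)
    (hirr : ∀ W : Submodule (ZMod q) V, (∀ g : G, ∀ w ∈ W, ρ g w ∈ W) → W = ⊥ ∨ W = ⊤)
    (hnc : ¬ IsCyclic G) (hnq : ∀ n : ℕ, ¬ Nonempty (G ≃* QuaternionGroup n))
    (hnd : ∀ n : ℕ, ¬ Nonempty (G ≃* DihedralGroup n)) (hnsd : ¬ Cfsg.IsQuasiDihedral G) :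
    ∃ (H : Subgroup G) (W : Fin p → Submodule (ZMod q) V), H.index = p ∧
      iSup W = ⊤ ∧ iSupIndep W ∧
      (∀ h ∈ H, ∀ i, ∀ w ∈ W i, ρ h w ∈ W i) ∧
      (∀ i, ∃ h ∈ H, h ≠ 1 ∧ ∀ w ∈ W i, ρ h w = w) ∧
      ∀ g : G, g ∉ H → ∃ σ : Equiv.Perm (Fin p), orderOf σ = p ∧ ∀ i, (W i).map (ρ g : V →ₗ[ZMod q] V) = W (σ i) := by
  classical
  have hVne : ∃ v : V, v ≠ 0 := exists_ne 0
  have hcardV : Nat.card V = q ^ Module.finrank (ZMod q) V := by
    rw [Module.natCard_eq_pow_finrank (K := ZMod q), Nat.card_zmod]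
  have hp' : p.Prime := Fact.out
  have hq' : q.Prime := Fact.out
  let φ : G →* MulAut (Multiplicative V) :=
    { toFun := fun g => AddEquiv.toMultiplicative (ρ g).toAddEquiv
      map_one' := by ext v; simp
      map_mul' := fun a b => by ext v; simp }
  have hφ : ∀ g v, φ g v = Multiplicative.ofAdd (ρ g (Multiplicative.toAdd v)) := fun g v => rfl
  have hφi : Function.Injective φ := by
    intro a b h
    apply hρ
    ext v
    exact congrArg Multiplicative.toAdd (DFunLike.congr_fun h (Multiplicative.ofAdd v))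
  let Fx : G → Submodule (ZMod q) V := fun g =>
    LinearMap.eqLocus (ρ g : V →ₗ[ZMod q] V) LinearMap.id
  have hFx : ∀ g v, v ∈ Fx g ↔ ρ g v = v := fun g v => Iff.rfl
  have hcentral : ∀ x : G, x ≠ 1 → x ∈ Subgroup.center G → ∀ v, ρ x v = v → v = 0 := by
    intro x hx hxc v hv
    rcases hirr (Fx x) (fun g w hw => by
      rw [hFx] at hw ⊢
      rw [← LinearEquiv.mul_apply, ← map_mul, ← Subgroup.mem_center_iff.1 hxc g, map_mul,
        LinearEquiv.mul_apply, hw]) with h | h
    · have : v ∈ Fx x := hv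
      rwa [h, Submodule.mem_bot] at this
    · exfalso
      apply hx
      apply hρ
      rw [map_one]
      ext w
      exact (hFx x w).1 (h ▸ Submodule.mem_top)
  have hGnt : Nontrivial G := by
    by_contra h
    rw [not_nontrivial_iff_subsingleton] at h
    exact hnc inferInstance
  have hpq : p ≠ q := by
    rintro rfl
    obtain ⟨x, hx⟩ := (Subgroup.center G).bot_or_exists_ne_one.resolve_left (fun hb => by
      haveI := hG.center_nontrivial
      exact (Subgroup.nontrivial_iff_ne_bot _).1 this hb)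
    letI : MulAction G V := MulAction.compHom V ((LinearEquiv.automorphismGroup.toLinearMapMonoidHom).comp ρ)
    have hfin : 1 ≤ Module.finrank (ZMod p) V := by
      by_contra hlt
      have : Nat.card V = 1 := by rw [hcardV, show Module.finrank (ZMod p) V = 0 by omega, pow_zero]
      have := (Finite.one_lt_card : 1 < Nat.card V)
      omega
    have hX : IsPGroup p (Subgroup.zpowers x) := hG.to_subgroup _
    obtain ⟨w, hw, hw0⟩ := hX.exists_fixed_point_of_prime_dvd_card_of_fixed_point V
      (hcardV ▸ dvd_pow_self p (by omega)) (a := 0) (fun g => by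
        show ρ g.1 0 = 0
        exact map_zero _)
    exact hw0 (hcentral x hx.2 hx.1 w (hw ⟨x, Subgroup.mem_zpowers x⟩)).symm
  have hVp : ¬ p ∣ Nat.card (Multiplicative V) := by
    rw [Nat.card_congr Multiplicative.toAdd, hcardV]
    intro h
    exact hpq ((Nat.prime_dvd_prime_iff_eq hp' hq').1 (hp'.dvd_of_dvd_pow h))
  obtain ⟨E, hEn, hEc, hEel⟩ : ∃ E : Subgroup G, E.Normal ∧ Nat.card E = p ^ 2 ∧
      Cfsg.IsElementaryAbelian p E := by
    by_cases hp2 : p = 2
    · subst hp2
      rcases NormalFourGroup.four_or_special hG with h | h | ⟨m, hm⟩ | ⟨m, hm⟩ | h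
      · exact h
      · exact absurd h hnc
      · exact absurd hm (hnd m)
      · exact absurd hm (hnq m)
      · exact absurd h hnsd
    · exact Agent.PGroupsCyclic.exists_normal_elementary_sq hG hp2 hnc
  haveI := hEn
  have hEp : ∀ x ∈ E, x ^ p = 1 := hEel.2
  haveI : Nontrivial E := Finite.one_lt_card_iff_nontrivial.1 (by
    rw [hEc]; exact Nat.one_lt_pow two_ne_zero hp'.one_lt)
  obtain ⟨z, hzE, hzc, hz1⟩ : ∃ z : G, z ∈ E ∧ z ∈ Subgroup.center G ∧ z ≠ 1 := by
    obtain ⟨x, hx, hx1⟩ := (E ⊓ Subgroup.center G).bot_or_exists_ne_one.resolve_left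
      (Agent.PGroupsBasic.inf_center_ne_bot hG ((Subgroup.nontrivial_iff_ne_bot E).1 inferInstance))
    exact ⟨x, hx.1, hx.2, hx1⟩
  have hzord : orderOf z = p := orderOf_eq_prime (hEp z hzE) hz1
  obtain ⟨e, heE, hez'⟩ : ∃ e, e ∈ E ∧ e ∉ Subgroup.zpowers z := by
    by_contra hcon
    push Not at hcon
    have := Subgroup.card_le_of_le (H := E) (K := Subgroup.zpowers z) hcon
    rw [hEc, Nat.card_zpowers, hzord] at this
    nlinarith [hp'.two_le]
  haveI hzn : (Subgroup.zpowers z).Normal :=
    Agent.PGroupsBasic.normal_of_le_center (Subgroup.zpowers_le.2 hzc)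
  have hconj : ∀ g : G, ∃ k : ℕ, g * e * g⁻¹ = e * z ^ k := by
    intro g
    have hQ : IsPGroup p (G ⧸ Subgroup.zpowers z) := hG.to_quotient _
    set M := E.map (QuotientGroup.mk' (Subgroup.zpowers z)) with hM
    have hMn : M.Normal := hEn.map _ (QuotientGroup.mk'_surjective _)
    have hMc : Nat.card M = p := by
      set ψ := (QuotientGroup.mk' (Subgroup.zpowers z)).comp E.subtype
      have h1 : ψ.range = M := by rw [hM, MonoidHom.range_comp, Subgroup.range_subtype]
      have h2 : ψ.ker = (Subgroup.zpowers z).subgroupOf E := by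
        ext x
        rw [MonoidHom.mem_ker, Subgroup.mem_subgroupOf]
        exact QuotientGroup.eq_one_iff _
      have h3 : Nat.card ψ.ker = p := by
        rw [h2, Nat.card_congr (Subgroup.subgroupOfEquivOfLe (Subgroup.zpowers_le.2 hzE)).toEquiv,
          Nat.card_zpowers, hzord]
      have h4 := ψ.ker.card_eq_card_quotient_mul_card_subgroup
      rw [Nat.card_congr (QuotientGroup.quotientKerEquivRange ψ).toEquiv, h1, h3, hEc, sq] at h4
      exact (Nat.eq_of_mul_eq_mul_right hp'.pos h4).symm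
    have hcen : M ≤ Subgroup.center _ := by
      haveI : Nontrivial M := Finite.one_lt_card_iff_nontrivial.1 (by rw [hMc]; exact hp'.one_lt)
      have h1 := Agent.PGroupsBasic.inf_center_ne_bot hQ
        ((Subgroup.nontrivial_iff_ne_bot M).1 inferInstance)
      have h2 : Nat.card ↥(M ⊓ Subgroup.center _) ∣ p := by
        have := Subgroup.card_dvd_of_le (inf_le_left : M ⊓ Subgroup.center _ ≤ M)
        rwa [hMc] at this
      rcases (Nat.dvd_prime hp').1 h2 with h3 | h3
      · exact absurd (Subgroup.card_eq_one.1 h3) h1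
      · exact inf_eq_left.1 (Subgroup.eq_of_le_of_card_ge inf_le_left (by rw [h3, hMc]))
    have h1 := Subgroup.mem_center_iff.1 (hcen ⟨e, heE, rfl⟩) (QuotientGroup.mk' _ g)
    rw [← map_mul, ← map_mul, QuotientGroup.mk'_eq_mk'] at h1
    obtain ⟨y, hy, hye⟩ := h1
    obtain ⟨n, hn⟩ := (mem_powers_iff_mem_zpowers.2 (inv_mem hy) : y⁻¹ ∈ Submonoid.powers z)
    refine ⟨n, ?_⟩
    have hn' : z ^ n = y⁻¹ := hn
    rw [hn', mul_inv_eq_iff_eq_mul]
    have hyc : g * y⁻¹ = y⁻¹ * g :=
      Subgroup.mem_center_iff.1 (hn' ▸ pow_mem hzc n) g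
    rw [mul_assoc e y⁻¹ g, ← hyc, ← mul_assoc, ← hye]
    simp
  have he : φ e ^ p = 1 := by rw [← map_pow, hEp e heE, map_one]
  have hz : φ z ^ p = 1 := by rw [← map_pow, hEp z hzE, map_one]
  have hez : Commute (φ e) (φ z) :=
    (show Commute e z from Subgroup.mem_center_iff.1 hzc e).map φ
  have hfz : ∀ v, φ z v = v → v = 1 := by
    intro v hv
    exact congrArg Multiplicative.ofAdd
      (hcentral z hz1 hzc (Multiplicative.toAdd v) (congrArg Multiplicative.toAdd hv))
  have hzmod : ∀ a b : ℕ, a % p = b % p → z ^ a = z ^ b := fun a b h => by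
    rw [pow_eq_pow_mod a (hEp z hzE), pow_eq_pow_mod b (hEp z hzE), h]
  have hne1 : ∀ i : ℕ, e * z ^ i ≠ 1 := by
    intro i h1
    apply hez'
    rw [eq_inv_of_mul_eq_one_left h1]
    exact inv_mem (pow_mem (Subgroup.mem_zpowers z) i)
  have hecen : e ∉ Subgroup.center G := by
    intro hc
    obtain ⟨v, hv⟩ := hVne
    refine hv (congrArg Multiplicative.toAdd (CoprimeImprimitive.trivial_of_no_fixed (p := p) he hz
      hez hfz hVp (fun i w hw => ?_) (Multiplicative.ofAdd v)))
    rw [← map_pow, ← map_mul] at hw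
    exact congrArg Multiplicative.ofAdd (hcentral (e * z ^ i) (hne1 i)
      (mul_mem hc (pow_mem hzc i)) (Multiplicative.toAdd w) (congrArg Multiplicative.toAdd hw))
  have hzco : ∀ (g : G) (n : ℕ), g * z ^ n = z ^ n * g := fun g n =>
    Subgroup.mem_center_iff.1 (pow_mem hzc n) g
  have hzcast : ∀ a b : ℕ, (a : ZMod p) = b ↔ z ^ a = z ^ b := fun a b => by
    rw [ZMod.natCast_eq_natCast_iff, pow_eq_pow_iff_modEq, hzord]
  choose k hk using hconj
  let χ : G →* Multiplicative (ZMod p) :=
    MonoidHom.mk' (fun g => Multiplicative.ofAdd (k g : ZMod p)) (fun a b => by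
      rw [← ofAdd_add, ← Nat.cast_add]
      refine congrArg Multiplicative.ofAdd ((hzcast _ _).2 ?_)
      apply mul_left_cancel (a := e)
      rw [← hk (a * b)]
      calc a * b * e * (a * b)⁻¹ = a * (b * e * b⁻¹) * a⁻¹ := by group
        _ = (a * e * a⁻¹) * (a * z ^ k b * a⁻¹) := by rw [hk b]; group
        _ = e * z ^ (k a + k b) := by
          rw [hk a, hzco a (k b), mul_inv_cancel_right, mul_assoc, ← pow_add])
  have hker : ∀ g, g ∈ χ.ker ↔ g * e = e * g := by
    intro g
    rw [MonoidHom.mem_ker]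
    show Multiplicative.ofAdd (k g : ZMod p) = 1 ↔ _
    rw [ofAdd_eq_one, ← Nat.cast_zero, hzcast, pow_zero, ← mul_inv_eq_iff_eq_mul, hk]
    exact ⟨fun h => by rw [h, mul_one], fun h => mul_eq_left.1 h⟩
  have hindex : χ.ker.index = p := by
    have h1 : χ.ker.index = Nat.card χ.range := Subgroup.index_ker χ
    have h2 : Nat.card χ.range ∣ p := by
      have := χ.range.card_subgroup_dvd_card
      rwa [Nat.card_congr Multiplicative.toAdd, Nat.card_zmod] at this
    rcases (Nat.dvd_prime hp').1 h2 with h | h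
    · exfalso
      apply hecen
      rw [Subgroup.mem_center_iff]
      intro g
      apply (hker g).1
      rw [MonoidHom.mem_ker]
      have : χ g ∈ χ.range := ⟨g, rfl⟩
      rwa [Subgroup.card_eq_one.1 h, Subgroup.mem_bot] at this
    · rw [h1, h]
  let W : Fin p → Submodule (ZMod q) V := fun i => Fx (e * z ^ (i : ℕ))
  haveI : NeZero p := ⟨hp'.ne_zero⟩
  refine ⟨χ.ker, W, hindex, ?_, ?_, ?_, ?_, ?_⟩
  · rw [eq_top_iff]
    intro v _
    have hpz : (p : ZMod q) ≠ 0 := by
      rw [Ne, ZMod.natCast_eq_zero_iff]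
      exact fun h => hpq ((Nat.prime_dvd_prime_iff_eq hq' hp').1 h).symm
    have h1 : (p • v) ∈ iSup W := by
      have := congrArg Multiplicative.toAdd
        (CoprimeImprimitive.prod_avg (p := p) he hz hez hfz (Multiplicative.ofAdd v))
      rw [toAdd_pow, toAdd_ofAdd] at this
      rw [← this, toAdd_prod]
      refine Submodule.sum_mem _ fun i hi => ?_
      refine Submodule.mem_iSup_of_mem (⟨i, Finset.mem_range.1 hi⟩ : Fin p) ?_
      show ρ (e * z ^ i) _ = _
      have hx : (φ e * φ z ^ i) ^ p = 1 := by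
        rw [(hez.pow_right i).mul_pow, he, ← pow_mul, mul_comm i p, pow_mul, hz, one_pow, one_mul]
      have h2 := CoprimeImprimitive.avg_fixed hx (Multiplicative.ofAdd v)
      rw [← map_pow, ← map_mul] at h2 ⊢
      exact congrArg Multiplicative.toAdd h2
    have h3 := (iSup W).smul_mem (p : ZMod q)⁻¹ h1
    rwa [← Nat.cast_smul_eq_nsmul (ZMod q), smul_smul, inv_mul_cancel₀ hpz, one_smul] at h3
  · rw [iSupIndep_iff_finsetSum_eq_zero_imp_eq_zero]
    intro s v hv hsum i hi
    let w : ℕ → Multiplicative V := fun n =>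
      if hn : n < p then Multiplicative.ofAdd (v ⟨n, hn⟩) else 1
    have h := CoprimeImprimitive.independent (p := p) hz hez hfz (s.map Fin.valEmbedding)
      (fun n hn => by
        obtain ⟨j, -, rfl⟩ := Finset.mem_map.1 hn
        exact j.2) w (fun n hn => by
        obtain ⟨j, hj, rfl⟩ := Finset.mem_map.1 hn
        rw [← map_pow, ← map_mul]
        simp only [w, Fin.valEmbedding_apply, dif_pos j.2, Fin.eta]
        exact congrArg Multiplicative.ofAdd (hv j hj)) (by
        rw [Finset.prod_map]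
        simp only [w, Fin.valEmbedding_apply, Fin.is_lt, dite_true, Fin.eta, ← ofAdd_sum, hsum, ofAdd_zero])
      i.1 (Finset.mem_map.2 ⟨i, hi, rfl⟩)
    simp only [w, dif_pos i.2, Fin.eta, ofAdd_eq_one] at h
    exact h
  · intro h hh i w hw
    rw [hFx] at hw ⊢
    have hc : Commute h (e * z ^ (i : ℕ)) :=
      (show Commute h e from (hker h).1 hh).mul_right (hzco h i)
    rw [← LinearEquiv.mul_apply, ← map_mul, ← hc.eq, map_mul, LinearEquiv.mul_apply, hw]
  · intro i
    refine ⟨e * z ^ (i : ℕ), ?_, hne1 i, fun w hw => hw⟩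
    rw [hker, mul_assoc, ← hzco e i]
  · intro g hg
    refine ⟨Equiv.addRight (Fin.ofNat p (k g)), ?_, fun i => ?_⟩
    · refine orderOf_eq_prime ?_ ?_
      · ext i
        have hpow : ∀ n : ℕ, ((Equiv.addRight (Fin.ofNat p (k g))) ^ n) i = i + n • Fin.ofNat p (k g) := by
          intro n
          induction n with
          | zero => simp
          | succ n ih => rw [pow_succ', Equiv.Perm.mul_apply, ih, succ_nsmul]; simp [add_assoc]
        rw [hpow]
        have : p • Fin.ofNat p (k g) = 0 := by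
          have h := card_nsmul_eq_zero (x := Fin.ofNat p (k g))
          rwa [Fintype.card_fin] at h
        rw [this]; simp
      · intro h1
        apply hg
        rw [hker]
        have h2 := congrArg Fin.val (Equiv.ext_iff.1 h1 0)
        simp only [Equiv.coe_addRight, zero_add, Equiv.Perm.coe_one, id_eq, Fin.val_ofNat,
          Fin.val_zero] at h2
        have h3 : z ^ k g = 1 := by rw [hzmod (k g) 0 (by simpa using h2), pow_zero]
        rw [← mul_inv_eq_iff_eq_mul, hk, h3, mul_one]
    · have hσ : z ^ ((Equiv.addRight (Fin.ofNat p (k g)) i : Fin p) : ℕ) = z ^ k g * z ^ (i : ℕ) := by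
        rw [← pow_add]
        refine hzmod _ _ ?_
        simp [Fin.val_add, Nat.add_comm]
      have hc : g * (e * z ^ (i : ℕ)) * g⁻¹ = e * z ^ ((Equiv.addRight (Fin.ofNat p (k g)) i : Fin p) : ℕ) := by
        rw [hσ]
        calc g * (e * z ^ (i : ℕ)) * g⁻¹ = (g * e * g⁻¹) * (g * z ^ (i : ℕ) * g⁻¹) := by group
          _ = _ := by rw [hk, hzco g i, mul_inv_cancel_right, mul_assoc]
      ext w
      constructor
      · rintro ⟨u, hu, rfl⟩
        show ρ (e * _) (ρ g u) = ρ g u
        rw [← hc, map_mul, LinearEquiv.mul_apply, map_mul, LinearEquiv.mul_apply,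
          ← LinearEquiv.mul_apply (ρ g⁻¹) (ρ g), ← map_mul, inv_mul_cancel, map_one]
        exact congrArg (ρ g) hu
      · intro hw
        refine ⟨ρ g⁻¹ w, ?_, ?_⟩
        · show ρ (e * z ^ (i : ℕ)) (ρ g⁻¹ w) = ρ g⁻¹ w
          have hw' : ρ (g * (e * z ^ (i : ℕ)) * g⁻¹) w = w := by rw [hc]; exact hw
          rw [map_mul, LinearEquiv.mul_apply, map_mul, LinearEquiv.mul_apply] at hw'
          have h4 := congrArg (ρ g⁻¹) hw'
          rwa [← LinearEquiv.mul_apply (ρ g⁻¹) (ρ g), ← map_mul, inv_mul_cancel, map_one] at h4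
        · show ρ g (ρ g⁻¹ w) = w
          rw [← LinearEquiv.mul_apply, ← map_mul, mul_inv_cancel, map_one]; rfl

end Cfsg.Agent.S3380
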