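import Mathlib
import Cfsg.Statements.S3381
-- import your own Cfsg.Agent.* helpers here

set_option autoImplicit false
open Cfsg

namespace Cfsg.Agent.S3381

/-- Let G be a finite group acting faithfully and linearly on a non-trivial finite vector space V over the field with q elements (q prime) so that every non-zero vector has a stabilizer of order 2, and suppose G has a central involution. Then V has q^(2r) elements for some r and G contains exactly q^r + 1 non-central involutions. -/
theorem result
    (q : ℕ) [Fact q.Prime] {V : Type*} [AddCommGroup V] [Module (ZMod q) V] [Finite V] [Nontrivial V]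
    {G : Type*} [Group G] [Finite G] (ρ : G →* (V ≃ₗ[ZMod q] V)) (hρ : Function.Injective ρ)
    (hstab : ∀ v : V, v ≠ 0 → Nat.card {g : G // ρ g v = v} = 2)
    (z : G) (hz : orderOf z = 2) (hzc : z ∈ Subgroup.center G) :
    ∃ r : ℕ, Nat.card V = q ^ (2 * r) ∧
      Nat.card {g : G // orderOf g = 2 ∧ g ∉ Subgroup.center G} = q ^ r + 1 := by
  haveI := Fintype.ofFinite V
  haveI := Fintype.ofFinite G
  classical
  have hmul : ∀ (g h : G) (v : V), ρ (g * h) v = ρ g (ρ h v) := fun g h v => by rw [map_mul]; rfl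
  have hone : ∀ v : V, ρ 1 v = v := fun v => by rw [map_one]; rfl
  have huniq : ∀ {v : V} {a b : G}, v ≠ 0 → a ≠ 1 → b ≠ 1 → ρ a v = v → ρ b v = v → a = b := by
    intro v a b hv ha hb hav hbv
    by_contra hab
    have h2 := hstab v hv
    have h3 : ({⟨1, hone v⟩, ⟨a, hav⟩, ⟨b, hbv⟩} : Finset {g : G // ρ g v = v}).card ≤ Nat.card {g : G // ρ g v = v} := by
      rw [Nat.card_eq_fintype_card]; exact Finset.card_le_univ _
    rw [Finset.card_insert_of_notMem (by simp [Ne.symm ha, Ne.symm hb]),
      Finset.card_insert_of_notMem (by simp [hab]), Finset.card_singleton, h2] at h3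
    omega
  have hex : ∀ v : V, v ≠ 0 → ∃ t : G, orderOf t = 2 ∧ ρ t v = v := by
    intro v hv
    obtain ⟨⟨t, ht⟩, htn⟩ : ∃ t : {g : G // ρ g v = v}, t ≠ ⟨1, hone v⟩ := by
      haveI : Nontrivial {g : G // ρ g v = v} := Finite.one_lt_card_iff_nontrivial.1 (by rw [hstab v hv]; norm_num)
      exact exists_ne _
    have ht1 : t ≠ 1 := fun h => htn (Subtype.ext h)
    refine ⟨t, orderOf_eq_prime ?_ ht1, ht⟩
    by_contra h2
    have := huniq hv ht1 h2 ht (by rw [sq, hmul, ht, ht])
    rw [sq] at this
    exact ht1 (mul_eq_left.1 this.symm)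
  have hz1 : z ≠ 1 := fun h => by simp [h] at hz
  have hzz : z * z = 1 := by rw [← sq, ← hz]; exact pow_orderOf_eq_one z
  have hzcomm : ∀ g, g * z = z * g := Subgroup.mem_center_iff.1 hzc
  -- the central involution has no nonzero fixed vector
  have hnofix : ∀ v : V, v ≠ 0 → ρ z v ≠ v := by
    intro v hv hzv
    obtain ⟨w, hw⟩ : ∃ w, ρ z w ≠ w := by
      by_contra hall
      push Not at hall
      exact hz1 (hρ (LinearEquiv.ext fun x => by rw [hall x, hone x]))
    by_cases hu : w + ρ z w = 0
    · -- w is inverted; look at v + w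
      have hne : v + w ≠ 0 := by
        intro h
        apply hw
        have : w = -v := eq_neg_of_add_eq_zero_right h
        rw [this, map_neg, hzv]
      obtain ⟨t, ht, htf⟩ := hex _ hne
      have ht1 : t ≠ 1 := fun h => by simp [h] at ht
      have hz' : ρ z (v + w) = v - w := by
        rw [map_add, hzv, eq_neg_of_add_eq_zero_right hu, sub_eq_add_neg]
      have htf' : ρ t (v - w) = v - w := by
        rw [← hz', ← hmul, hzcomm, hmul, htf]
      have h2v : ρ t ((v + w) + (v - w)) = (v + w) + (v - w) := by rw [map_add, htf, htf']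
      have hvv : (v + w) + (v - w) = v + v := by abel
      rw [hvv] at h2v
      by_cases h0 : v + v = 0
      · have hvneg : -v = v := neg_eq_of_add_eq_zero_left h0
        -- characteristic two
        have hq2 : (q : ℕ) = 2 := by
          have h2 : ((2 : ℕ) : ZMod q) • v = 0 := by rw [Nat.cast_smul_eq_nsmul, two_nsmul]; exact h0
          rcases smul_eq_zero.1 h2 with h | h
          · have := (ZMod.natCast_eq_zero_iff _ q).1 h
            exact (Nat.prime_dvd_prime_iff_eq Fact.out Nat.prime_two).1 this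
          · exact absurd h hv
        subst hq2
        have : ρ z w = w := by
          rw [eq_neg_of_add_eq_zero_right hu, ← neg_one_smul (ZMod 2) w, show (-1 : ZMod 2) = 1 from rfl, one_smul]
        exact hw this
      · have hzvv : ρ z (v + v) = v + v := by rw [map_add, hzv]
        exact hne (by
          have := huniq h0 ht1 hz1 h2v hzvv
          subst this
          rw [hz'] at htf
          have hww : w + w = 0 := by
            calc w + w = (v + w) - (v - w) := by abel
              _ = 0 := by rw [sub_eq_zero, htf]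
          exfalso
          apply hw
          rw [eq_neg_of_add_eq_zero_right hu]
          exact neg_eq_of_add_eq_zero_left hww)
    · have hw0 : w ≠ 0 := fun h => hw (by rw [h, map_zero])
      obtain ⟨t, ht, htf⟩ := hex _ hw0
      have ht1 : t ≠ 1 := fun h => by simp [h] at ht
      have htf' : ρ t (ρ z w) = ρ z w := by rw [← hmul, hzcomm, hmul, htf]
      have hzu : ρ z (w + ρ z w) = w + ρ z w := by
        rw [map_add, ← hmul, hzz, hone, add_comm]
      have := huniq hu ht1 hz1 (by rw [map_add, htf, htf']) hzu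
      subst this
      exact hw htf
  have hneg : ∀ v : V, ρ z v = -v := by
    intro v
    refine eq_neg_of_add_eq_zero_right ?_
    by_contra h
    refine hnofix _ h ?_
    rw [map_add, ← hmul, hzz, hone, add_comm]
  have hq2 : q ≠ 2 := by
    rintro rfl
    obtain ⟨v, hv⟩ := exists_ne (0 : V)
    apply hnofix v hv
    rw [hneg, ← neg_one_smul (ZMod 2) v, show (-1 : ZMod 2) = 1 from rfl, one_smul]
  have hdouble : ∀ v : V, v + v = 0 → v = 0 := by
    intro v h
    have h2 : ((2 : ℕ) : ZMod q) • v = 0 := by rw [Nat.cast_smul_eq_nsmul, two_nsmul]; exact h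
    rcases smul_eq_zero.1 h2 with h | h
    · exact absurd ((Nat.prime_dvd_prime_iff_eq Fact.out Nat.prime_two).1
        ((ZMod.natCast_eq_zero_iff _ q).1 h)) hq2
    · exact h
  have hcen : ∀ t : G, orderOf t = 2 → t ∈ Subgroup.center G → t = z := by
    intro t ht htc
    -- a central involution is -1 as well
    have ht1 : t ≠ 1 := fun h => by simp [h] at ht
    have htt : t * t = 1 := by rw [← sq, ← ht]; exact pow_orderOf_eq_one t
    apply hρ
    refine LinearEquiv.ext fun v => ?_
    by_contra hne
    rw [hneg] at hne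
    -- then t fixes u and all its translates
    set u := v + ρ t v with hu
    have hu0 : u ≠ 0 := fun h => hne (eq_neg_of_add_eq_zero_right h)
    have htu : ρ t u = u := by rw [hu, map_add, ← hmul, htt, hone, add_comm]
    obtain ⟨w, hw⟩ : ∃ w, ρ t w ≠ w := by
      by_contra hall
      push Not at hall
      exact ht1 (hρ (LinearEquiv.ext fun x => by rw [hall x, hone x]))
    set b := w - ρ t w with hb
    have hb0 : b ≠ 0 := fun h => hw (sub_eq_zero.1 h).symm
    have htb : ρ t b = -b := by rw [hb, map_sub, ← hmul, htt, hone, neg_sub]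
    have hub : u + b ≠ 0 := by
      intro h
      apply hu0
      have hb' : b = -u := eq_neg_of_add_eq_zero_right h
      rw [hb', map_neg, htu, neg_neg] at htb
      exact hdouble u (add_eq_zero_iff_eq_neg.2 htb.symm)
    obtain ⟨s, hs, hsf⟩ := hex _ hub
    have hs1 : s ≠ 1 := fun h => by simp [h] at hs
    have hsf' : ρ s (u - b) = u - b := by
      have h1 : ρ t (u + b) = u - b := by rw [map_add, htu, htb, sub_eq_add_neg]
      rw [← h1, ← hmul, Subgroup.mem_center_iff.1 htc s, hmul, hsf]
    have h2u : ρ s (u + u) = u + u := by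
      have : u + u = (u + b) + (u - b) := by abel
      rw [this, map_add, hsf, hsf']
    have h2b : ρ s (b + b) = b + b := by
      have : b + b = (u + b) - (u - b) := by abel
      rw [this, map_sub, hsf, hsf']
    have e1 := huniq (fun h => hu0 (hdouble u h)) hs1 ht1 h2u (by rw [map_add, htu])
    subst e1
    rw [map_add, htb] at h2b
    apply hb0
    have : (b + b) + (b + b) = 0 := by
      calc (b + b) + (b + b) = (-b + -b) + (b + b) := by rw [h2b]
        _ = 0 := by abel
    exact hdouble _ (hdouble _ this)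
  let F : G → Submodule (ZMod q) V := fun t => LinearMap.ker ((ρ t : V →ₗ[ZMod q] V) - LinearMap.id)
  have hFmem : ∀ t v, v ∈ F t ↔ ρ t v = v := by
    intro t v
    simp [F, LinearMap.mem_ker, sub_eq_zero]
  let I := {t : G // orderOf t = 2 ∧ t ∉ Subgroup.center G}
  have hI1 : ∀ t : I, t.1 ≠ 1 := fun t h => t.2.2 (by rw [h]; exact Subgroup.one_mem _)
  have hinI : ∀ t : G, orderOf t = 2 → ∀ v : V, v ≠ 0 → ρ t v = v → t ∉ Subgroup.center G := by
    intro t ht v hv hf hc
    rw [hcen t ht hc] at hf
    exact hnofix v hv hf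
  have hsum : ∀ t t' : I, t ≠ t' → Module.finrank (ZMod q) (F t.1) + Module.finrank (ZMod q) (F t'.1) ≤ Module.finrank (ZMod q) V := by
    intro t t' hne
    apply Submodule.finrank_add_finrank_le_of_disjoint
    rw [Submodule.disjoint_def]
    intro v h1 h2
    by_contra hv
    exact hne (Subtype.ext (huniq hv (hI1 t) (hI1 t') ((hFmem _ _).1 h1) ((hFmem _ _).1 h2)))
  -- the partner t z
  have hpart : ∀ t : I, ∃ t' : I, t'.1 = t.1 * z ∧ t' ≠ t ∧ Module.finrank (ZMod q) (F t.1) + Module.finrank (ZMod q) (F t'.1) = Module.finrank (ZMod q) V := by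
    intro t
    have h1 : (t.1 * z) * (t.1 * z) = 1 := by
      have htt : t.1 * t.1 = 1 := by
        have h := pow_orderOf_eq_one t.1
        rw [t.2.1, sq] at h
        exact h
      calc (t.1 * z) * (t.1 * z) = t.1 * (z * t.1) * z := by group
        _ = t.1 * (t.1 * z) * z := by rw [← hzcomm]
        _ = (t.1 * t.1) * (z * z) := by group
        _ = 1 := by rw [htt, hzz, one_mul]
    have hne : t.1 * z ≠ 1 := by
      intro h
      apply t.2.2
      rw [mul_eq_one_iff_eq_inv.1 h]
      exact Subgroup.inv_mem _ hzc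
    have hnc : t.1 * z ∉ Subgroup.center G := fun h => t.2.2 (by
      have := Subgroup.mul_mem _ h hzc
      rwa [mul_assoc, hzz, mul_one] at this)
    let t' : I := ⟨t.1 * z, orderOf_eq_prime (by rw [sq]; exact h1) hne, hnc⟩
    have hne' : t' ≠ t := fun h => hz1 (mul_eq_left.1 (congrArg Subtype.val h))
    refine ⟨t', rfl, hne', le_antisymm (hsum t t' hne'.symm) ?_⟩
    have htt : t.1 * t.1 = 1 := by
      have h := pow_orderOf_eq_one t.1
      rw [t.2.1, sq] at h
      exact h
    have hFG : F t.1 ⊔ F t'.1 = ⊤ := by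
      rw [eq_top_iff]
      intro v _
      have h2 : (2 : ZMod q) ≠ 0 := fun h => hq2 ((Nat.prime_dvd_prime_iff_eq Fact.out Nat.prime_two).1
        ((ZMod.natCast_eq_zero_iff 2 q).1 (by simpa using h)))
      have hv : v = (2 : ZMod q)⁻¹ • (v + ρ t.1 v) + (2 : ZMod q)⁻¹ • (v - ρ t.1 v) := by
        rw [← smul_add, show (v + ρ t.1 v) + (v - ρ t.1 v) = (2 : ZMod q) • v by rw [two_smul]; abel,
          smul_smul, inv_mul_cancel₀ h2, one_smul]
      rw [hv]
      refine Submodule.add_mem_sup (Submodule.smul_mem _ _ ((hFmem _ _).2 ?_)) (Submodule.smul_mem _ _ ((hFmem _ _).2 ?_))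
      · rw [map_add, ← hmul, htt, hone, add_comm]
      · show ρ (t.1 * z) _ = _
        rw [hmul, hneg, neg_sub, map_sub, ← hmul, htt, hone]
    have := Submodule.finrank_sup_add_finrank_inf_eq (F t.1) (F t'.1)
    rw [hFG, finrank_top] at this
    omega
  have hIne : Nonempty I := by
    obtain ⟨v, hv⟩ := exists_ne (0 : V)
    obtain ⟨t, ht, htf⟩ := hex v hv
    exact ⟨⟨t, ht, hinI t ht v hv htf⟩⟩
  obtain ⟨t₀⟩ := hIne
  obtain ⟨t₁, hv1, hne01, he01⟩ := hpart t₀
  -- there is a third involution besides the pair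
  obtain ⟨t₂, h20, h21⟩ : ∃ t₂ : I, t₂ ≠ t₀ ∧ t₂ ≠ t₁ := by
    by_contra hno
    push Not at hno
    have hcover : ∀ v : V, v ≠ 0 → v ∈ F t₀.1 ∨ v ∈ F t₁.1 := by
      intro v hv
      obtain ⟨t, ht, htf⟩ := hex v hv
      by_cases he : (⟨t, ht, hinI t ht v hv htf⟩ : I) = t₀
      · left; rw [← he]; exact (hFmem _ _).2 htf
      · right; rw [← hno _ he]; exact (hFmem _ _).2 htf
    have hall : ((F t₀.1 : Set V) ∪ (F t₁.1 : Set V)) = Set.univ := by
      ext v
      simp only [Set.mem_union, Set.mem_univ, iff_true, SetLike.mem_coe]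
      by_cases hv : v = 0
      · left; rw [hv]; exact Submodule.zero_mem _
      · exact hcover v hv
    have hsub : (F t₀.1).toAddSubgroup ≤ (F t₁.1).toAddSubgroup ∨ (F t₁.1).toAddSubgroup ≤ (F t₀.1).toAddSubgroup := by
      by_contra hc
      push Not at hc
      obtain ⟨⟨a, ha, ha'⟩, b, hb, hb'⟩ := And.intro (SetLike.not_le_iff_exists.1 hc.1) (SetLike.not_le_iff_exists.1 hc.2)
      have hab : a + b ∈ ((F t₀.1 : Set V) ∪ (F t₁.1 : Set V)) := by rw [hall]; trivial
      rcases hab with h | h
      · exact hb' (by simpa using (F t₀.1).sub_mem h ha)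
      · exact ha' (by simpa using (F t₁.1).sub_mem h hb)
    rcases hsub with h | h
    · apply hI1 t₁
      apply hρ
      refine LinearEquiv.ext fun v => ?_
      rw [hone]
      by_cases hv : v = 0
      · rw [hv, map_zero]
      rcases hcover v hv with hh | hh
      · exact (hFmem _ _).1 (h hh)
      · exact (hFmem _ _).1 hh
    · apply hI1 t₀
      apply hρ
      refine LinearEquiv.ext fun v => ?_
      rw [hone]
      by_cases hv : v = 0
      · rw [hv, map_zero]
      rcases hcover v hv with hh | hh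
      · exact (hFmem _ _).1 hh
      · exact (hFmem _ _).1 (h hh)
  obtain ⟨t₃, hv3, hne23, he23⟩ := hpart t₂
  -- all fixed spaces have dimension r
  set r := Module.finrank (ZMod q) (F t₀.1) with hr
  have hother : ∀ a b : I, b.1 = a.1 * z → a ≠ t₀ → a ≠ t₁ → b ≠ t₀ ∧ b ≠ t₁ := by
    intro a b hab ha0 ha1
    constructor
    · intro h
      apply ha1
      apply Subtype.ext
      rw [hv1, ← h, hab, mul_assoc, hzz, mul_one]
    · intro h
      apply ha0
      apply Subtype.ext
      have : a.1 * z = t₀.1 * z := by rw [← hv1, ← h, hab]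
      exact mul_right_cancel this
  have hn : Module.finrank (ZMod q) V = 2 * r := by
    obtain ⟨h30, h31⟩ := hother t₂ t₃ hv3 h20 h21
    have := hsum t₀ t₂ h20.symm
    have := hsum t₁ t₂ h21.symm
    have := hsum t₀ t₃ h30.symm
    have := hsum t₁ t₃ h31.symm
    omega
  have hdim : ∀ t : I, Module.finrank (ZMod q) (F t.1) = r := by
    intro t
    by_cases h0 : t = t₀
    · rw [h0]
    by_cases h1 : t = t₁
    · rw [h1]; omega
    obtain ⟨t', hv', -, he'⟩ := hpart t
    obtain ⟨h0', h1'⟩ := hother t t' hv' h0 h1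
    have := hsum t₀ t (Ne.symm h0)
    have := hsum t₀ t' (Ne.symm h0')
    omega
  have hcardV : Nat.card V = q ^ (2 * r) := by
    rw [Module.natCard_eq_pow_finrank (K := ZMod q), hn, Nat.card_zmod]
  refine ⟨r, hcardV, ?_⟩
  have e : {v : V // v ≠ 0} ≃ Σ t : I, {v : F t.1 // v ≠ 0} := by
    refine (Equiv.ofBijective (fun p => ⟨(p.2.1 : V), fun h => p.2.2 (Subtype.ext h)⟩) ⟨?_, ?_⟩).symm
    · rintro ⟨t, v⟩ ⟨t', v'⟩ he
      have he' : (v.1 : V) = v'.1 := congrArg Subtype.val he
      have hv : (v.1 : V) ≠ 0 := fun h => v.2 (Subtype.ext h)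
      have : t = t' := Subtype.ext (huniq hv (hI1 t) (hI1 t') ((hFmem _ _).1 v.1.2)
        (by rw [he']; exact (hFmem _ _).1 v'.1.2))
      subst this
      exact Sigma.ext rfl (heq_of_eq (Subtype.ext (Subtype.ext he')))
    · rintro ⟨v, hv⟩
      obtain ⟨t, ht, htf⟩ := hex v hv
      exact ⟨⟨⟨t, ht, hinI t ht v hv htf⟩, ⟨⟨v, (hFmem _ _).2 htf⟩, fun h => hv (congrArg Subtype.val h)⟩⟩, rfl⟩
  have hsub : ∀ {W : Type _} [Fintype W] [Zero W], Nat.card {v : W // v ≠ 0} = Nat.card W - 1 := by
    intro W _ _
    classical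
    rw [Nat.card_eq_fintype_card, Nat.card_eq_fintype_card, Fintype.card_subtype_compl, Fintype.card_subtype_eq]
  have hcF : ∀ t : I, Nat.card {v : F t.1 // v ≠ 0} = q ^ r - 1 := by
    intro t
    haveI := Fintype.ofFinite (F t.1)
    rw [hsub, Module.natCard_eq_pow_finrank (K := ZMod q) (V := F t.1), hdim, Nat.card_zmod]
  have hc := Nat.card_congr e
  rw [hsub, hcardV, Nat.card_sigma, Finset.sum_congr rfl (fun t _ => hcF t), Finset.sum_const,
    Finset.card_univ, smul_eq_mul, ← Nat.card_eq_fintype_card] at hc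
  have hr1 : 1 ≤ r := by
    by_contra hr0
    have h1 : Nat.card V = 1 := by rw [hcardV, show r = 0 by omega]; simp
    exact absurd (Finite.one_lt_card (α := V)) (by omega)
  have hqr : 2 ≤ q ^ r := le_trans (Fact.out : q.Prime).two_le (Nat.le_self_pow (by omega) q)
  have hsq : q ^ (2 * r) - 1 = (q ^ r + 1) * (q ^ r - 1) := by
    rw [two_mul, pow_add, Nat.mul_sub, mul_one, add_mul, one_mul]
    omega
  rw [hsq] at hc
  exact (Nat.eq_of_mul_eq_mul_right (by omega) hc).symm

end Cfsg.Agent.S3381
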