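import Mathlib
import Cfsg.Statements.S3382
-- import your own Cfsg.Agent.* helpers here

set_option autoImplicit false
open Cfsg

namespace Cfsg.Agent.S3382

theorem z2_one : ∀ a : ZMod 2, a ≠ 0 → a = 1 := by decide

theorem z2_sign : ∀ s : ZMod 2, (s = 1 ∨ s = -1) → s = 1 := by decide

theorem z3_one : ∀ a : ZMod 3, a ≠ 0 → a = 1 ∨ a = -1 := by decide

theorem z3_neg : (-1 : ZMod 3) ≠ 1 := by decide

/-- An automorphism of a finite 2-group fixing a subgroup of index 2 pointwise has 2-power order. -/
theorem pow_fix_index_two {T : Type*} [Group T] [Finite T] (hT : IsPGroup 2 T) (K : Subgroup T)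
    (hK : K.index = 2) (β : MulAut T) (hβ : ∀ k ∈ K, β k = k) : ∃ n : ℕ, β ^ 2 ^ n = 1 := by
  have hd : ∀ t, t⁻¹ * β t ∈ K := by
    intro t
    rw [Subgroup.mul_mem_iff_of_index_two hK, inv_mem_iff]
    refine ⟨fun h => by rwa [hβ t h], fun h => ?_⟩
    have := β.injective (hβ _ h)
    rwa [this] at h
  have hk : ∀ (n : ℕ) (t : T), (β ^ n) t = t * (t⁻¹ * β t) ^ n := by
    intro n t
    induction n with
    | zero => simp
    | succ n ih =>
      rw [pow_succ', MulAut.mul_apply, ih, map_mul, map_pow, hβ _ (hd t), pow_succ', ← mul_assoc,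
        mul_inv_cancel_left]
  obtain ⟨n, hn⟩ := IsPGroup.iff_card.1 hT
  refine ⟨n, ?_⟩
  ext t
  rw [hk, ← hn, pow_card_eq_one', mul_one]
  rfl

section

variable {q : ℕ} [Fact q.Prime] {T : Subgroup ((Fin 2 → ZMod q) ≃ₗ[ZMod q] (Fin 2 → ZMod q))}

/-- a diagonal equivalence -/
def diagEquiv (u w : (ZMod q)ˣ) : (Fin 2 → ZMod q) ≃ₗ[ZMod q] (Fin 2 → ZMod q) :=
  LinearEquiv.piCongrRight fun i => LinearEquiv.smulOfUnit (![u, w] i)

theorem diagEquiv_apply (u w : (ZMod q)ˣ) (v : Fin 2 → ZMod q) :
    diagEquiv u w v = ![(u : ZMod q) * v 0, (w : ZMod q) * v 1] := by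
  funext i
  fin_cases i <;> rfl

/-- `f` is the diagonal map with entries `a, s a⁻¹`. -/
def IsD (f : (Fin 2 → ZMod q) ≃ₗ[ZMod q] (Fin 2 → ZMod q)) (a s : ZMod q) : Prop :=
  ∀ v, f v = ![a * v 0, s * a⁻¹ * v 1]

/-- `f` is the anti-diagonal map. -/
def IsA (f : (Fin 2 → ZMod q) ≃ₗ[ZMod q] (Fin 2 → ZMod q)) (a s : ZMod q) : Prop :=
  ∀ v, f v = ![s * a⁻¹ * v 1, a * v 0]

variable {f g : (Fin 2 → ZMod q) ≃ₗ[ZMod q] (Fin 2 → ZMod q)} {a b s t : ZMod q}

theorem isD_mul (hf : IsD f a s) (hg : IsD g b t) : IsD (f * g) (a * b) (s * t) := by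
  intro v
  rw [LinearEquiv.mul_apply, hg, hf]
  simp only [mul_inv_rev, Matrix.cons_val_zero, Matrix.cons_val_one, Matrix.vecCons]
  funext i; fin_cases i <;> simp <;> ring

theorem isD_pow (hf : IsD f a s) (n : ℕ) : IsD (f ^ n) (a ^ n) (s ^ n) := by
  induction n with
  | zero => intro v; simp; funext i; fin_cases i <;> simp
  | succ n ih => rw [pow_succ, pow_succ, pow_succ]; exact isD_mul ih hf

theorem isA_sq (hf : IsA f a s) (ha : a ≠ 0) : IsD (f * f) s (s * s) := by
  intro v
  rw [LinearEquiv.mul_apply, hf, hf]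
  by_cases hs : s = 0
  · subst hs; funext i; fin_cases i <;> simp
  funext i; fin_cases i <;> simp <;> field_simp

theorem isD_ext (hf : IsD f a s) (hg : IsD g a s) : f = g := LinearEquiv.ext fun v => by rw [hf, hg]

theorem isD_one : IsD (1 : (Fin 2 → ZMod q) ≃ₗ[ZMod q] (Fin 2 → ZMod q)) 1 1 := by
  intro v; funext i; fin_cases i <;> simp

theorem not_isD_and_isA (hf : IsD f a s) (hg : IsA f b t) (ha : a ≠ 0) : False := by
  have := congrFun ((hf ![1, 0]).symm.trans (hg ![1, 0])) 0
  simp at this
  exact ha this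

end

set_option maxHeartbeats 2000000 in
/-- Let q = 2^m + 1 be a prime other than 5. Then the automorphism group of the group of linear maps of F_q² of the forms (x, y) ↦ (a x, ± a⁻¹ y) and (x, y) ↦ (± a⁻¹ y, a x) with a ≠ 0 is itself a 2-group. -/
theorem result (q m : ℕ) [Fact q.Prime] (hq : q = 2 ^ m + 1) (hq5 : q ≠ 5)
    (T : Subgroup ((Fin 2 → ZMod q) ≃ₗ[ZMod q] (Fin 2 → ZMod q)))
    (hT : ∀ f, f ∈ T ↔ ∃ a s : ZMod q, a ≠ 0 ∧ (s = 1 ∨ s = -1) ∧
      ((∀ v, f v = ![a * v 0, s * a⁻¹ * v 1]) ∨ (∀ v, f v = ![s * a⁻¹ * v 1, a * v 0]))) :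
    IsPGroup 2 (MulAut T) := by
  have hq1 : q.Prime := Fact.out
  have hm1 : ∀ a : ZMod q, a ≠ 0 → a ^ 2 ^ m = 1 := fun a ha => by
    have := ZMod.pow_card_sub_one_eq_one ha
    rwa [Nat.sub_eq_of_eq_add hq] at this
  have hss : ∀ s : ZMod q, s = 1 ∨ s = -1 → s * s = 1 := by rintro s (rfl | rfl) <;> simp
  have hcases : ∀ f : T, (∃ a s, a ≠ 0 ∧ (s = 1 ∨ s = -1) ∧ IsD f.1 a s) ∨
      (∃ a s, a ≠ 0 ∧ (s = 1 ∨ s = -1) ∧ IsA f.1 a s) := by
    intro f
    obtain ⟨a, s, ha, hs, h | h⟩ := (hT f.1).1 f.2
    exacts [Or.inl ⟨a, s, ha, hs, h⟩, Or.inr ⟨a, s, ha, hs, h⟩]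
  have hsq : ∀ f : T, ∃ a, a ≠ 0 ∧ IsD (f * f : T).1 a 1 := by
    intro f
    rcases hcases f with ⟨a, s, ha, hs, h⟩ | ⟨a, s, ha, hs, h⟩
    · refine ⟨a * a, mul_ne_zero ha ha, ?_⟩
      have := isD_mul h h
      rwa [hss s hs] at this
    · refine ⟨s, fun h0 => by simpa [h0] using hss s hs, ?_⟩
      have := isA_sq h ha
      rwa [hss s hs] at this
  have hp2 : IsPGroup 2 T := by
    intro f
    obtain ⟨a, ha, h⟩ := hsq f
    refine ⟨m + 1, Subtype.ext ?_⟩
    rw [pow_succ', pow_mul, sq]
    have h2 := isD_pow h (2 ^ m)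
    rw [hm1 a ha, one_pow] at h2
    exact (Subgroup.coe_pow T (f * f) (2 ^ m)).trans (isD_ext h2 isD_one)
  haveI : Finite T := Finite.of_injective (fun f : T => (f.1 : (Fin 2 → ZMod q) → (Fin 2 → ZMod q)))
    (fun f g h => Subtype.ext (DFunLike.coe_injective h))
  intro α
  suffices h : ∃ n : ℕ, α ^ 2 ^ n = 1 by exact h
  let A : Subgroup T :=
    { carrier := {f | ∃ a s, a ≠ 0 ∧ (s = 1 ∨ s = -1) ∧ IsD f.1 a s}
      one_mem' := ⟨1, 1, one_ne_zero, Or.inl rfl, isD_one⟩
      mul_mem' := by
        rintro f g ⟨a, s, ha, hs, hf⟩ ⟨b, t, hb, ht, hg⟩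
        refine ⟨a * b, s * t, mul_ne_zero ha hb, ?_, isD_mul hf hg⟩
        rcases hs with rfl | rfl <;> rcases ht with rfl | rfl <;> simp
      inv_mem' := by
        rintro f ⟨a, s, ha, hs, hf⟩
        refine ⟨a⁻¹, s, inv_ne_zero ha, hs, fun v => ?_⟩
        apply f.1.injective
        have he : f.1 ((f⁻¹ : T).1 v) = v := by
          show (f * f⁻¹ : T).1 v = v
          rw [mul_inv_cancel]; rfl
        rw [he, hf]
        funext i
        fin_cases i
        · simp [ha]
        · have := hss s hs; simp [ha]; field_simp; linear_combination (-(v 1)) * this }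
  have hAmem : ∀ f : T, f ∈ A ↔ ∃ a s, a ≠ 0 ∧ (s = 1 ∨ s = -1) ∧ IsD f.1 a s := fun _ => Iff.rfl
  have hnotA : ∀ f : T, f ∉ A → ∃ a s, a ≠ 0 ∧ (s = 1 ∨ s = -1) ∧ IsA f.1 a s := fun f hf =>
    (hcases f).resolve_left hf
  rcases Nat.lt_or_ge m 3 with hm | hm
  · rcases (by omega : m = 0 ∨ m = 1 ∨ m = 2) with rfl | rfl | rfl
    · -- q = 2
      obtain rfl : q = 2 := hq
      refine ⟨0, ?_⟩
      rw [pow_zero, pow_one]
      have hone : ∀ a : ZMod 2, a ≠ 0 → a = 1 := z2_one
      have hneg : ∀ s : ZMod 2, (s = 1 ∨ s = -1) → s = 1 := z2_sign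
      have hA1 : ∀ f ∈ A, f = 1 := by
        intro f hf
        obtain ⟨a, s, ha, hs, h⟩ := (hAmem f).1 hf
        rw [hone a ha, hneg s hs] at h
        exact Subtype.ext (isD_ext h isD_one)
      have huni : ∀ f g : T, f ≠ 1 → g ≠ 1 → f = g := by
        intro f g hf hg
        obtain ⟨a, s, ha, hs, h⟩ := hnotA f (fun h => hf (hA1 f h))
        obtain ⟨b, t, hb, ht, h'⟩ := hnotA g (fun h => hg (hA1 g h))
        rw [hone a ha, hneg s hs] at h
        rw [hone b hb, hneg t ht] at h'
        exact Subtype.ext (LinearEquiv.ext fun v => by rw [h, h'])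
      ext f
      by_cases hf : f = 1
      · simp [hf]
      · rw [huni (α f) f (fun h => hf ((map_eq_one_iff α α.injective).1 h)) hf]; rfl
    · -- q = 3: the cyclic subgroup of order 4
      obtain rfl : q = 3 := hq
      have hone : ∀ a : ZMod 3, a ≠ 0 → a = 1 ∨ a = -1 := z3_one
      have hcex : ∃ c : T, IsA c.1 1 (-1) := by
        refine ⟨⟨{ toFun := fun v => ![-v 1, v 0]
                   map_add' := fun u v => by funext i; fin_cases i <;> simp; ring
                   map_smul' := fun r v => by funext i; fin_cases i <;> simp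
                   invFun := fun v => ![v 1, -v 0]
                   left_inv := fun v => by funext i; fin_cases i <;> simp
                   right_inv := fun v => by funext i; fin_cases i <;> simp }, ?_⟩, ?_⟩
        · exact (hT _).2 ⟨1, -1, one_ne_zero, Or.inr rfl, Or.inr fun v => by
            funext i; fin_cases i <;> simp⟩
        · intro v; funext i; fin_cases i <;> simp
      obtain ⟨c, hc⟩ := hcex
      have hc2 : c * c ≠ 1 := by
        intro h
        have h1 := isA_sq hc one_ne_zero
        have h2 : (c * c : T).1 ![1, 0] = ![1, 0] := by rw [h]; rfl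
        rw [Subgroup.coe_mul, h1] at h2
        have h3 := congrFun h2 0
        simp at h3
        exact z3_neg h3
      have hc4 : c ^ 4 = 1 := by
        rw [show (4 : ℕ) = 2 * 2 from rfl, pow_mul, sq, sq]
        apply Subtype.ext
        have h1 := isA_sq hc one_ne_zero
        have := isD_mul h1 h1
        norm_num at this
        exact isD_ext this isD_one
      -- any element whose square is not 1 is c or its inverse
      have hord : ∀ f : T, f * f ≠ 1 → f = c ∨ f = c⁻¹ := by
        intro f hf
        rcases hcases f with ⟨a, s, ha, hs, h⟩ | ⟨a, s, ha, hs, h⟩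
        · exfalso
          apply hf
          apply Subtype.ext
          have := isD_mul h h
          rw [hss s hs, show a * a = 1 by rcases hone a ha with rfl | rfl <;> simp] at this
          exact isD_ext this isD_one
        · rcases hs with rfl | rfl
          · exfalso
            apply hf
            apply Subtype.ext
            have := isA_sq h ha
            rw [one_mul] at this
            exact isD_ext this isD_one
          · rcases hone a ha with rfl | rfl
            · left; exact Subtype.ext (LinearEquiv.ext fun v => by rw [h, hc])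
            · right
              rw [eq_inv_iff_mul_eq_one]
              apply Subtype.ext
              refine LinearEquiv.ext fun v => ?_
              show f.1 (c.1 v) = v
              rw [hc, h]
              funext i; fin_cases i <;> simp
      have hαc : (α ^ 2) c = c := by
        rw [sq, MulAut.mul_apply]
        have h1 : α c * α c ≠ 1 := fun h => hc2 ((map_eq_one_iff α α.injective).1 (by rw [map_mul, h]))
        rcases hord _ h1 with h | h
        · rw [h, h]
        · rw [h, map_inv, h, inv_inv]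
      have hK : (Subgroup.zpowers c).index = 2 := by
        have ho : orderOf c = 4 := by
          have : orderOf c ∣ 2 ^ 2 := orderOf_dvd_of_pow_eq_one hc4
          obtain ⟨k, hk, hk'⟩ := (Nat.dvd_prime_pow Nat.prime_two).1 this
          interval_cases k
          · exact absurd (by rw [orderOf_eq_one_iff.1 hk', one_mul]) hc2
          · have := pow_orderOf_eq_one c; rw [hk', pow_one, sq] at this; exact absurd this hc2
          · exact hk'
        have hdiag : ∃ x : T, IsD x.1 1 (-1) := by
          refine ⟨⟨{ toFun := fun v => ![v 0, -v 1]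
                     map_add' := fun u v => by funext i; fin_cases i <;> simp; ring
                     map_smul' := fun r v => by funext i; fin_cases i <;> simp
                     invFun := fun v => ![v 0, -v 1]
                     left_inv := fun v => by funext i; fin_cases i <;> simp
                     right_inv := fun v => by funext i; fin_cases i <;> simp }, ?_⟩, ?_⟩
          · exact (hT _).2 ⟨1, -1, one_ne_zero, Or.inr rfl, Or.inl fun v => by
              funext i; fin_cases i <;> simp⟩
          · intro v; funext i; fin_cases i <;> simp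
        obtain ⟨x, hx⟩ := hdiag
        have hxc : x ∉ Subgroup.zpowers c := by
          intro hx'
          obtain ⟨j, hj⟩ := hx'
          have hcomm : c * x = x * c := by rw [← hj]; exact (Commute.self_zpow c j).eq
          have h1 := congrFun (congrArg (fun y : T => y.1 ![1, 0]) hcomm) 1
          simp only [Subgroup.coe_mul, LinearEquiv.mul_apply] at h1
          rw [hx, hc, hc, hx] at h1
          simp at h1
          exact z3_neg h1.symm
        have hcard : Nat.card T ≤ 8 := by
          let F : Units (ZMod 3) × Bool × Bool → T → Prop := fun p f =>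
            if p.2.1 then IsD f.1 p.1 (if p.2.2 then 1 else -1) else IsA f.1 p.1 (if p.2.2 then 1 else -1)
          have hex : ∀ f : T, ∃ p, F p f := by
            intro f
            rcases hcases f with ⟨a, s, ha, hs, h⟩ | ⟨a, s, ha, hs, h⟩
            · rcases hs with rfl | rfl
              · exact ⟨(Units.mk0 a ha, true, true), h⟩
              · exact ⟨(Units.mk0 a ha, true, false), h⟩
            · rcases hs with rfl | rfl
              · exact ⟨(Units.mk0 a ha, false, true), h⟩
              · exact ⟨(Units.mk0 a ha, false, false), h⟩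
          choose p hp using hex
          have hinj : Function.Injective p := by
            intro f g hfg
            have h1 := hp f
            have h2 := hp g
            rw [hfg] at h1
            apply Subtype.ext
            refine LinearEquiv.ext fun v => ?_
            generalize p g = pg at h1 h2
            obtain ⟨u, b, b'⟩ := pg
            cases b <;> simp only [F, Bool.false_eq_true, ↓reduceIte] at h1 h2 <;> rw [h1, h2]
          refine (Nat.card_le_card_of_injective p hinj).trans ?_
          rw [Nat.card_eq_fintype_card, Fintype.card_prod, ZMod.card_units]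
          rfl
        have h4 : Nat.card (Subgroup.zpowers c) = 4 := by rw [Nat.card_zpowers, ho]
        have hne1 : (Subgroup.zpowers c).index ≠ 1 := fun h => hxc (by
          rw [Subgroup.index_eq_one.1 h]; exact Subgroup.mem_top x)
        have hne0 : (Subgroup.zpowers c).index ≠ 0 := Subgroup.index_ne_zero_of_finite
        have := (Subgroup.zpowers c).card_mul_index
        rw [h4] at this
        omega
      obtain ⟨n, hn⟩ := pow_fix_index_two hp2 _ hK (α ^ 2) (by
        rintro k ⟨i, rfl⟩
        rw [map_zpow, hαc])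
      exact ⟨n + 1, by rw [pow_succ', pow_mul]; exact hn⟩
    · exact absurd hq (by simpa using hq5)
  -- the general case
  obtain ⟨c, hc⟩ := IsCyclic.exists_generator (α := (ZMod q)ˣ)
  have hcard : Fintype.card (ZMod q)ˣ = 2 ^ m := by rw [ZMod.card_units, hq, Nat.add_sub_cancel]
  have hcord : orderOf c = 2 ^ m := by
    rw [orderOf_eq_card_of_forall_mem_zpowers hc, Nat.card_eq_fintype_card, hcard]
  have hgex : ∃ g : T, IsD g.1 (c : ZMod q) 1 := by
    refine ⟨⟨diagEquiv c c⁻¹, (hT _).2 ⟨c, 1, c.ne_zero, Or.inl rfl, Or.inl fun v => ?_⟩⟩, fun v => ?_⟩ <;>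
      rw [diagEquiv_apply, one_mul, Units.val_inv_eq_inv_val]
  obtain ⟨g, hg⟩ := hgex
  -- squares are powers of g²
  have hsq' : ∀ f : T, f * f ∈ Subgroup.zpowers (g * g) := by
    intro f
    obtain ⟨j, hj⟩ : ∃ j : ℕ, IsD (f * f : T).1 (((c * c) ^ j : (ZMod q)ˣ) : ZMod q) 1 := by
      rcases hcases f with ⟨a, s, ha, hs, h⟩ | ⟨a, s, ha, hs, h⟩
      · obtain ⟨j, hj⟩ := (isOfFinOrder_of_finite c).mem_powers_iff_mem_zpowers.2 (hc (Units.mk0 a ha))
        refine ⟨j, ?_⟩
        have h2 := isD_mul h h
        rw [hss s hs] at h2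
        have hj' : c ^ j = Units.mk0 a ha := hj
        rwa [mul_pow, hj', Units.val_mul, Units.val_mk0]
      · have h2 := isA_sq h ha
        rw [hss s hs] at h2
        rcases hs with rfl | rfl
        · exact ⟨0, by simpa using h2⟩
        · refine ⟨2 ^ (m - 2), ?_⟩
          have hh : ((c * c) ^ 2 ^ (m - 2) : (ZMod q)ˣ) = -1 := by
            have h4 : ((c * c) ^ 2 ^ (m - 2)) ^ 2 = 1 := by
              rw [← sq, ← pow_mul, ← pow_mul]
              have : 2 * (2 ^ (m - 2) * 2) = 2 ^ m := by
                rw [show m = m - 2 + 1 + 1 by omega]; simp [pow_succ]; ring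
              rw [this, ← hcord, pow_orderOf_eq_one]
            have h5 : (c * c) ^ 2 ^ (m - 2) ≠ 1 := by
              rw [← sq, ← pow_mul]
              refine pow_ne_one_of_lt_orderOf (by positivity) ?_
              rw [hcord, ← pow_succ']
              exact Nat.pow_lt_pow_right (by norm_num) (by omega)
            have h6 : (((c * c) ^ 2 ^ (m - 2) : (ZMod q)ˣ) : ZMod q) * (((c * c) ^ 2 ^ (m - 2) : (ZMod q)ˣ) : ZMod q) = 1 := by
              rw [← Units.val_mul, ← sq, h4, Units.val_one]
            rcases mul_self_eq_one_iff.1 h6 with h | h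
            · exact absurd (Units.ext (by rw [h, Units.val_one])) h5
            · exact Units.ext (by rw [h]; simp)
          rw [hh]
          simpa using h2
    refine ⟨(j : ℤ), ?_⟩
    simp only [zpow_natCast]
    apply Subtype.ext
    have := isD_pow (isD_mul hg hg) j
    rw [one_mul, one_pow, ← Units.val_mul, ← Units.val_pow_eq_pow_val] at this
    exact isD_ext ((Subgroup.coe_pow T (g * g) j).symm ▸ this) hj
  -- a power of α fixes g²
  obtain ⟨i, hi⟩ : ∃ i : ℕ, (g * g) ^ i = α (g * g) := by
    have := hsq' (α g)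
    rw [← map_mul] at this
    exact (isOfFinOrder_of_finite (g * g)).mem_powers_iff_mem_zpowers.2 this
  obtain ⟨n2, hn2⟩ : ∃ n, orderOf (g * g) = 2 ^ n := (IsPGroup.iff_orderOf (p := 2)).1 hp2 _
  have hk : ∀ k : ℕ, (α ^ k) (g * g) = (g * g) ^ (i ^ k) := by
    intro k
    induction k with
    | zero => simp
    | succ k ih => rw [pow_succ', MulAut.mul_apply, ih, map_pow, ← hi, ← pow_mul, ← pow_succ']
  have hcop : Nat.Coprime i (2 ^ n2) := by
    have h1 : orderOf ((g * g) ^ i) = orderOf (g * g) := by rw [hi]; exact MulEquiv.orderOf_eq α _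
    rw [orderOf_pow, hn2] at h1
    rw [Nat.coprime_comm, Nat.Coprime]
    rcases Nat.lt_or_ge 1 (Nat.gcd (2 ^ n2) i) with h | h
    · exact absurd h1 (Nat.ne_of_lt (Nat.div_lt_self (by positivity) h))
    · have := Nat.gcd_pos_of_pos_left i (show 0 < 2 ^ n2 by positivity)
      omega
  obtain ⟨l, hl⟩ : ∃ l, Nat.totient (2 ^ n2) ∣ 2 ^ l := by
    rcases Nat.eq_zero_or_pos n2 with rfl | h
    · exact ⟨0, by simp⟩
    · exact ⟨n2, by rw [Nat.totient_prime_pow Nat.prime_two h]; simp; exact Nat.pow_dvd_pow 2 (by omega)⟩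
  set β := α ^ 2 ^ l with hβ
  have hβg : β (g * g) = g * g := by
    rw [hβ, hk]
    obtain ⟨d, hd⟩ := hl
    conv_rhs => rw [← pow_one (g * g)]
    rw [pow_eq_pow_iff_modEq, hn2, hd, pow_mul]
    calc (i ^ Nat.totient (2 ^ n2)) ^ d ≡ 1 ^ d [MOD 2 ^ n2] := (Nat.ModEq.pow_totient hcop).pow d
      _ = 1 := one_pow d
  have hβsq : ∀ f : T, β (f * f) = f * f := by
    intro f
    obtain ⟨k, hk⟩ := hsq' f
    rw [← hk]
    simp only
    rw [map_zpow, hβg]
  -- A is the centralizer of the squares
  have hc4 : (c : ZMod q) * c ≠ ((c : ZMod q) * c)⁻¹ := by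
    intro h
    have h1 : c ^ 4 = 1 := by
      apply Units.ext
      rw [Units.val_pow_eq_pow_val, Units.val_one]
      have : (c : ZMod q) * c * ((c : ZMod q) * c) = 1 := by
        nth_rewrite 2 [h]; exact mul_inv_cancel₀ (mul_ne_zero c.ne_zero c.ne_zero)
      rw [← this]; ring
    have := orderOf_dvd_of_pow_eq_one h1
    rw [hcord] at this
    have := Nat.le_of_dvd (by norm_num) this
    have : 2 ^ 3 ≤ 2 ^ m := Nat.pow_le_pow_right (by norm_num) hm
    omega
  have hAcomm : ∀ f ∈ A, ∀ h ∈ A, f * h = h * f := by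
    rintro f ⟨a, s, ha, hs, hf⟩ h ⟨b, t, hb, ht, hh⟩
    apply Subtype.ext
    have := isD_mul hh hf
    rw [mul_comm b, mul_comm t] at this
    exact isD_ext (isD_mul hf hh) this
  have hsqA : ∀ h : T, h * h ∈ A := fun h => by
    obtain ⟨a, ha, h'⟩ := hsq h; exact ⟨a, 1, ha, Or.inl rfl, h'⟩
  have hAchar : ∀ f : T, f ∈ A ↔ ∀ h : T, f * (h * h) = (h * h) * f := by
    refine fun f => ⟨fun hf h => hAcomm f hf _ (hsqA h), fun h => ?_⟩
    by_contra hf
    obtain ⟨a, s, ha, hs, hA⟩ := hnotA f hf
    have h1 : f.1 ((g * g : T).1 ![0, 1]) = (g * g : T).1 (f.1 ![0, 1]) :=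
      congrArg (fun y : T => y.1 ![0, 1]) (h g)
    have hgg := isD_mul hg hg
    rw [Subgroup.coe_mul, hgg, hA, hA, hgg] at h1
    have h2 := congrFun h1 0
    simp only [Matrix.cons_val_zero, Matrix.cons_val_one, one_mul, mul_one, mul_zero, zero_mul,
      Matrix.cons_val_fin_one] at h2
    apply hc4
    have hs0 : s ≠ 0 := fun h0 => by simpa [h0] using hss s hs
    have : s * a⁻¹ * ((c : ZMod q) * c)⁻¹ = s * a⁻¹ * ((c : ZMod q) * c) := by
      rw [mul_inv]; linear_combination h2
    exact (mul_left_cancel₀ (mul_ne_zero hs0 (inv_ne_zero ha)) this).symm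
  have hβA : ∀ f ∈ A, β f ∈ A := by
    intro f hf
    rw [hAchar]
    intro h
    obtain ⟨h', rfl⟩ := β.surjective h
    rw [← map_mul, ← map_mul, ← map_mul, (hAchar f).1 hf]
  -- elements of A of order 2
  have hA2 : ∀ u ∈ A, u * u = 1 → ∃ a s, (a = 1 ∨ a = -1) ∧ (s = 1 ∨ s = -1) ∧ IsD u.1 a s := by
    rintro u ⟨a, s, ha, hs, hu⟩ h
    refine ⟨a, s, ?_, hs, hu⟩
    have h1 : (u * u : T).1 ![1, 0] = ![1, 0] := by rw [h]; rfl
    rw [Subgroup.coe_mul, isD_mul hu hu] at h1
    have h2 := congrFun h1 0
    simp at h2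
    exact mul_self_eq_one_iff.1 h2
  have hfix2 : ∀ u ∈ A, u * u = 1 → (β ^ 2) u = u := by
    intro u hu huu
    rw [sq, MulAut.mul_apply]
    obtain ⟨a, s, ha, hs, hD⟩ := hA2 u hu huu
    have hfix : s = 1 → β u = u := by
      intro hs1
      subst hs1
      rcases ha with rfl | rfl
      · rw [show u = 1 from Subtype.ext (isD_ext hD isD_one), map_one]
      · obtain ⟨k, hk⟩ : ∃ k : ℕ, (c : ZMod q) ^ (2 * k) = -1 := by
          refine ⟨2 ^ (m - 2), ?_⟩
          have e : (c : ZMod q) ^ (2 * 2 ^ (m - 2)) * (c : ZMod q) ^ (2 * 2 ^ (m - 2)) = 1 := by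
            rw [← pow_add, ← Units.val_pow_eq_pow_val]
            have : 2 * 2 ^ (m - 2) + 2 * 2 ^ (m - 2) = 2 ^ m := by
              rw [show m = m - 2 + 1 + 1 by omega]; simp [pow_succ]; ring
            rw [this, ← hcord, pow_orderOf_eq_one, Units.val_one]
          refine (mul_self_eq_one_iff.1 e).resolve_left fun h1 => ?_
          refine pow_ne_one_of_lt_orderOf (x := c) (n := 2 * 2 ^ (m - 2)) (by positivity) ?_ ?_
          · rw [hcord, ← pow_succ']; exact Nat.pow_lt_pow_right (by norm_num) (by omega)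
          · exact Units.ext (by rw [Units.val_pow_eq_pow_val, h1, Units.val_one])
        have : u = g ^ k * g ^ k := by
          apply Subtype.ext
          have h := isD_mul (isD_pow hg k) (isD_pow hg k)
          rw [← pow_add (c : ZMod q), ← two_mul k, hk, one_pow, one_mul] at h
          exact isD_ext hD h
        rw [this]; exact hβsq _
    rcases hs with rfl | rfl
    · rw [hfix rfl, hfix rfl]
    -- β permutes the two involutions with s = -1
    have hbu : β u * β u = 1 := by rw [← map_mul, huu, map_one]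
    obtain ⟨b, t, hb, ht, hD'⟩ := hA2 (β u) (hβA u hu) hbu
    by_cases hne : β u = u
    · rw [hne, hne]
    have hprod : u * β u ∈ A := A.mul_mem hu (hβA u hu)
    rcases ht with rfl | rfl
    · exfalso
      apply hne
      apply β.injective
      have h1 : β u * β u = 1 := hbu
      obtain ⟨k, hk⟩ : ∃ k : ℕ, β u = g ^ k * g ^ k := by
        obtain ⟨j, hj⟩ := (isOfFinOrder_of_finite c).mem_powers_iff_mem_zpowers.2
          (hc (Units.mk0 b (by rcases hb with rfl | rfl <;> simp)))
        rcases Nat.even_or_odd' j with ⟨k, rfl | rfl⟩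
        · refine ⟨k, Subtype.ext ?_⟩
          have h := isD_mul (isD_pow hg k) (isD_pow hg k)
          have hj' : (c : ZMod q) ^ (2 * k) = b := by
            have := congrArg Units.val (hj : c ^ (2 * k) = _)
            rwa [Units.val_pow_eq_pow_val, Units.val_mk0] at this
          rw [← pow_add (c : ZMod q), ← two_mul k, hj', one_pow, one_mul] at h
          exact isD_ext hD' h
        · exfalso
          have hj' : c ^ (2 * k + 1) * c ^ (2 * k + 1) = 1 := by
            apply Units.ext
            have hjv : c ^ (2 * k + 1) = Units.mk0 _ _ := hj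
            rw [Units.val_mul, hjv, Units.val_mk0, Units.val_one]
            rcases hb with rfl | rfl <;> simp
          rw [← pow_add] at hj'
          have := orderOf_dvd_of_pow_eq_one hj'
          rw [hcord] at this
          have h4 : 4 ∣ (2 * k + 1 + (2 * k + 1)) := dvd_trans (by
            rw [show (4 : ℕ) = 2 ^ 2 from rfl]; exact Nat.pow_dvd_pow 2 (by omega)) this
          omega
      rw [hk, hβsq]
    · -- β u has the form diag(b, -b), and u is diag(a, -a)
      have hbu2 : β (β u) * β (β u) = 1 := by rw [← map_mul, hbu, map_one]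
      obtain ⟨b', t', hb', ht', hD''⟩ := hA2 _ (hβA _ (hβA u hu)) hbu2
      have hne2 : β (β u) ≠ β u := fun h => hne (β.injective h)
      rcases ht' with rfl | rfl
      · exfalso
        apply hne2
        apply β.injective
        obtain ⟨k, hk⟩ : ∃ k : ℕ, β (β u) = g ^ k * g ^ k := by
          obtain ⟨j, hj⟩ := (isOfFinOrder_of_finite c).mem_powers_iff_mem_zpowers.2
            (hc (Units.mk0 b' (by rcases hb' with rfl | rfl <;> simp)))
          rcases Nat.even_or_odd' j with ⟨k, rfl | rfl⟩
          · refine ⟨k, Subtype.ext ?_⟩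
            have h := isD_mul (isD_pow hg k) (isD_pow hg k)
            have hj' : (c : ZMod q) ^ (2 * k) = b' := by
              have := congrArg Units.val (hj : c ^ (2 * k) = _)
              rwa [Units.val_pow_eq_pow_val, Units.val_mk0] at this
            rw [← pow_add (c : ZMod q), ← two_mul k, hj', one_pow, one_mul] at h
            exact isD_ext hD'' h
          · exfalso
            have hj' : c ^ (2 * k + 1) * c ^ (2 * k + 1) = 1 := by
              apply Units.ext
              have hjv : c ^ (2 * k + 1) = Units.mk0 _ _ := hj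
              rw [Units.val_mul, hjv, Units.val_mk0, Units.val_one]
              rcases hb' with rfl | rfl <;> simp
            rw [← pow_add] at hj'
            have := orderOf_dvd_of_pow_eq_one hj'
            rw [hcord] at this
            have h4 : 4 ∣ (2 * k + 1 + (2 * k + 1)) := dvd_trans (by
              rw [show (4 : ℕ) = 2 ^ 2 from rfl]; exact Nat.pow_dvd_pow 2 (by omega)) this
            omega
        rw [hk, hβsq]
      · have hab : a ≠ b := fun h => hne (Subtype.ext (isD_ext hD' (h ▸ hD)))
        have hbb : b ≠ b' := fun h => hne2 (Subtype.ext (isD_ext hD'' (h ▸ hD')))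
        have : b' = a := by
          rcases ha with rfl | rfl <;> rcases hb with rfl | rfl <;> rcases hb' with rfl | rfl <;>
            first | rfl | exact absurd rfl hab | exact absurd rfl hbb
        exact Subtype.ext (isD_ext (this ▸ hD'') hD)
  have hfixA : ∀ f ∈ A, ((β ^ 2) ^ 2) f = f := by
    intro f hf
    have hgA : (β ^ 2) f ∈ A := by rw [sq, MulAut.mul_apply]; exact hβA _ (hβA _ hf)
    set u := f⁻¹ * (β ^ 2) f with hu
    have huA : u ∈ A := A.mul_mem (A.inv_mem hf) hgA
    have huu : u * u = 1 := by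
      have e1 : (β ^ 2) f * (β ^ 2) f = f * f := by
        rw [← map_mul, sq, MulAut.mul_apply, hβsq, hβsq]
      calc u * u = f⁻¹ * ((β ^ 2) f * f⁻¹) * (β ^ 2) f := by rw [hu]; group
        _ = f⁻¹ * (f⁻¹ * (β ^ 2) f) * (β ^ 2) f := by rw [hAcomm _ hgA _ (A.inv_mem hf)]
        _ = f⁻¹ * f⁻¹ * ((β ^ 2) f * (β ^ 2) f) := by group
        _ = 1 := by rw [e1]; group
    have h1 : (β ^ 2) f = f * u := by rw [hu, mul_inv_cancel_left]
    rw [sq (β ^ 2), MulAut.mul_apply, h1, map_mul, h1, hfix2 u huA huu, mul_assoc, huu, mul_one]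
  have hAidx : A.index = 2 := by
    have hant : ∃ x : T, x ∉ A := by
      refine ⟨⟨{ toFun := fun v => ![v 1, v 0]
                 map_add' := fun u v => by funext i; fin_cases i <;> simp
                 map_smul' := fun r v => by funext i; fin_cases i <;> simp
                 invFun := fun v => ![v 1, v 0]
                 left_inv := fun v => by funext i; fin_cases i <;> simp
                 right_inv := fun v => by funext i; fin_cases i <;> simp }, ?_⟩, ?_⟩
      · exact (hT _).2 ⟨1, 1, one_ne_zero, Or.inl rfl, Or.inr fun v => by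
          funext i; fin_cases i <;> simp⟩
      · rintro ⟨a, s, ha, hs, h⟩
        exact not_isD_and_isA h (b := 1) (t := 1) (fun v => by funext i; fin_cases i <;> simp) ha
    obtain ⟨x, hx⟩ := hant
    rw [Subgroup.index_eq_two_iff]
    refine ⟨x, fun f => ?_⟩
    by_cases hf : f ∈ A
    · exact Or.inr ⟨hf, fun h => hx ((Subgroup.mul_mem_cancel_left A hf).1 h)⟩
    · refine Or.inl ⟨?_, hf⟩
      obtain ⟨a, s, ha, hs, h1⟩ := hnotA f hf
      obtain ⟨b, t, hb, ht, h2⟩ := hnotA x hx
      have hs0 : s ≠ 0 := fun h0 => by simpa [h0] using hss s hs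
      refine ⟨s * a⁻¹ * b, s * t, mul_ne_zero (mul_ne_zero hs0 (inv_ne_zero ha)) hb, ?_, fun v => ?_⟩
      · rcases hs with rfl | rfl <;> rcases ht with rfl | rfl <;> simp
      · show f.1 (x.1 v) = _
        rw [h2, h1]
        funext i; fin_cases i <;> simp <;> field_simp <;>
          linear_combination (t * v 1) * (hss s hs)
  obtain ⟨n, hn⟩ := pow_fix_index_two hp2 A hAidx ((β ^ 2) ^ 2) hfixA
  refine ⟨l + 2 + n, ?_⟩
  rw [← hn, hβ, ← pow_mul, ← pow_mul, ← pow_mul]
  congr 1
  rw [pow_add, pow_add]
  ring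

end Cfsg.Agent.S3382
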