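import Mathlib
import Cfsg.Statements.S3383
-- import your own Cfsg.Agent.* helpers here

set_option autoImplicit false
open Cfsg
open scoped Pointwise

namespace Cfsg.Agent.S3383

theorem conj_smul_mem {L : Type*} [Group L] (H : Subgroup L) (g x : L) :
    x ∈ MulAut.conj g • H ↔ g⁻¹ * x * g ∈ H := by
  rw [Subgroup.mem_pointwise_smul_iff_inv_smul_mem]
  simp [MulAut.smul_def]

/-- Let H be a Frobenius complement in a finite group L and K the Frobenius kernel (as a subgroup). Then K is characteristic in L, and every normal subgroup of L either contains K or is contained in K. -/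
theorem result {L : Type*} [Group L] [Finite L]
    (H : Subgroup L) (hH : Cfsg.IsFrobeniusComplement H)
    (K : Subgroup L) (hK : (K : Set L) = Cfsg.frobeniusKernel H) :
    K.Characteristic ∧ ∀ N : Subgroup L, N.Normal → K ≤ N ∨ N ≤ K := by
  obtain ⟨hbot, htop, hTI⟩ := hH
  have hTI' : ∀ g h : L, h ∈ H → g⁻¹ * h * g ∈ H → h ≠ 1 → g ∈ H := by
    intro g h hh hgh hne
    by_contra hg
    have hmem : h ∈ H ⊓ MulAut.conj g • H :=
      Subgroup.mem_inf.2 ⟨hh, (conj_smul_mem H g h).2 hgh⟩
    rw [hTI g hg, Subgroup.mem_bot] at hmem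
    exact hne hmem
  have hKmem : ∀ x : L, x ∈ K ↔ (x = 1 ∨ ∀ g : L, g⁻¹ * x * g ∉ H) := by
    intro x
    rw [← SetLike.mem_coe, hK]
    simp only [Cfsg.frobeniusKernel, Set.mem_setOf_eq, conj_smul_mem]
  have hKn : K.Normal := by
    refine ⟨fun x hx c => ?_⟩
    rw [hKmem] at hx ⊢
    rcases hx with rfl | hx
    · simp
    · right
      intro g hg
      refine hx (c⁻¹ * g) ?_
      simpa [mul_assoc] using hg
  have hcap : ∀ x ∈ K, x ∈ H → x = 1 := by
    intro x hx hxH
    rcases (hKmem x).1 hx with h | h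
    · exact h
    · exact absurd (by simpa using hxH) (h 1)
  have hcen : ∀ k ∈ K, ∀ h ∈ H, h ≠ 1 → k * h = h * k → k = 1 := by
    intro k hk h hh hne hc
    refine hcap k hk (hTI' k h hh ?_ hne)
    have : k⁻¹ * h * k = h := by
      calc k⁻¹ * h * k = k⁻¹ * (h * k) := by group
        _ = k⁻¹ * (k * h) := by rw [hc]
        _ = h := by group
    rwa [this]
  haveI := Fintype.ofFinite L
  classical
  have hcount : Nat.card K = H.index := by
    have e : (Σ q : L ⧸ H, {h : H // h ≠ 1}) ≃ {x : L // x ∉ K} := by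
      refine Equiv.ofBijective (fun p => ⟨p.1.out * (p.2.1 : L) * (p.1.out)⁻¹, ?_⟩) ⟨?_, ?_⟩
      · intro hmem
        rcases (hKmem _).1 hmem with h | h
        · exact p.2.2 (Subtype.ext (conj_eq_one_iff.1 h))
        · refine h p.1.out ?_
          simp [mul_assoc]
      · rintro ⟨q, h, hh⟩ ⟨q', h', hh'⟩ heq
        have heq' : q.out * (h : L) * q.out⁻¹ = q'.out * (h' : L) * q'.out⁻¹ :=
          congrArg Subtype.val heq
        have hq : q'.out⁻¹ * q.out ∈ H := by
          refine hTI' _ (h' : L) h'.2 ?_ (fun hc => hh' (Subtype.ext hc))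
          have : (q'.out⁻¹ * q.out)⁻¹ * (h' : L) * (q'.out⁻¹ * q.out) = h := by
            calc _ = q.out⁻¹ * (q'.out * (h' : L) * q'.out⁻¹) * q.out := by group
              _ = q.out⁻¹ * (q.out * (h : L) * q.out⁻¹) * q.out := by rw [heq']
              _ = h := by group
          rw [this]; exact h.2
        have hqq : q' = q := by
          rw [← QuotientGroup.out_eq' q, ← QuotientGroup.out_eq' q']
          exact QuotientGroup.eq.2 hq
        subst hqq
        have : (h : L) = h' := mul_left_cancel (mul_right_cancel heq')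
        obtain rfl : h = h' := Subtype.ext this
        rfl
      · rintro ⟨x, hx⟩
        rw [hKmem] at hx
        push Not at hx
        obtain ⟨hx1, g, hg⟩ := hx
        obtain ⟨y, hy⟩ := QuotientGroup.mk_out_eq_mul H g
        have hm : (y : L)⁻¹ * (g⁻¹ * x * g) * y ∈ H := H.mul_mem (H.mul_mem (H.inv_mem y.2) hg) y.2
        refine ⟨⟨(g : L ⧸ H), ⟨⟨_, hm⟩, ?_⟩⟩, ?_⟩
        · intro hc
          apply hx1
          have hc' : (y : L)⁻¹ * (g⁻¹ * x * g) * y = 1 := congrArg Subtype.val hc
          have : x = (g * y) * ((y : L)⁻¹ * (g⁻¹ * x * g) * y) * (g * y)⁻¹ := by group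
          rw [this, hc']; group
        · apply Subtype.ext
          show (g : L ⧸ H).out * ((y : L)⁻¹ * (g⁻¹ * x * g) * y) * ((g : L ⧸ H).out)⁻¹ = x
          rw [hy]; group
    have h1 := Nat.card_congr e
    rw [Nat.card_sigma, Finset.sum_const, Finset.card_univ, smul_eq_mul, ← Nat.card_eq_fintype_card,
      ← Subgroup.index_eq_card] at h1
    have h2 : Nat.card {h : H // h ≠ 1} + 1 = Nat.card H := by
      rw [Nat.card_eq_fintype_card, Nat.card_eq_fintype_card, Fintype.card_subtype_compl,
        Fintype.card_subtype_eq]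
      have := Fintype.card_pos (α := H)
      omega
    have h3 : Nat.card {x : L // x ∉ K} + Nat.card K = Nat.card L := by
      have hp := Nat.card_congr (Equiv.sumCompl (fun x : L => x ∈ K))
      rw [Nat.card_sum] at hp
      rw [add_comm]; exact hp
    have h4 := H.card_mul_index
    rw [← h2, add_mul, one_mul, mul_comm, h1] at h4
    omega
  have hcop : Nat.Coprime (Nat.card K) (Nat.card H) := by
    refine Nat.coprime_of_dvd fun r hr hrK hrH => ?_
    haveI := Fact.mk hr
    obtain ⟨h, hh⟩ := exists_prime_orderOf_dvd_card' r hrH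
    have hhL : orderOf (h : L) = r := by rw [Subgroup.orderOf_coe]; exact hh
    have hne : (h : L) ≠ 1 := fun hc => hr.ne_one (by rw [← hhL, hc, orderOf_one])
    letI : MulAction (Subgroup.zpowers (h : L)) K :=
      MulAction.compHom K ((MulAut.conjNormal (H := K)).comp (Subgroup.zpowers (h : L)).subtype)
    have hsmul : ∀ (u : Subgroup.zpowers (h : L)) (k : K),
        ((u • k : K) : L) = (u : L) * k * (u : L)⁻¹ := fun u k => MulAut.conjNormal_apply _ _
    have hP : IsPGroup r (Subgroup.zpowers (h : L)) :=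
      IsPGroup.of_card (n := 1) (by rw [Nat.card_zpowers, hhL, pow_one])
    have hfix : MulAction.fixedPoints (Subgroup.zpowers (h : L)) K = {1} := by
      ext k
      constructor
      · intro hk
        have h1 := congrArg Subtype.val (hk ⟨h, Subgroup.mem_zpowers _⟩)
        rw [hsmul] at h1
        refine Subtype.ext (hcen k k.2 h h.2 hne ?_)
        calc (k : L) * (h : L) = ((h : L) * k * (h : L)⁻¹) * h := by rw [h1]
          _ = (h : L) * k := by group
      · rintro rfl u
        exact Subtype.ext (by rw [hsmul]; simp)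
    have := hP.card_modEq_card_fixedPoints (α := K)
    rw [hfix, Nat.card_eq_fintype_card (α := ({1} : Set K)), Set.card_singleton] at this
    rw [Nat.modEq_iff_dvd] at this
    have h1 : (r : ℤ) ∣ (Nat.card K : ℤ) := Int.natCast_dvd_natCast.2 hrK
    have h2 := dvd_add this h1
    simp at h2
    have h3 : r ∣ 1 := by exact_mod_cast h2
    exact hr.ne_one (Nat.dvd_one.1 h3)
  have hchar : ∀ x : L, x ∈ K ↔ x ^ Nat.card K = 1 := by
    intro x
    constructor
    · intro hx
      exact orderOf_dvd_iff_pow_eq_one.1 (Subgroup.orderOf_dvd_natCard K hx)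
    · intro hx
      by_contra hxK
      rw [hKmem] at hxK
      push Not at hxK
      obtain ⟨hx1, g, hg⟩ := hxK
      have h1 : orderOf (g⁻¹ * x * g) ∣ Nat.card H := Subgroup.orderOf_dvd_natCard H hg
      have h2 : orderOf (g⁻¹ * x * g) ∣ Nat.card K := by
        have := MulEquiv.orderOf_eq (MulAut.conj g⁻¹) x
        simp only [MulAut.conj_apply, inv_inv] at this
        rw [this]
        exact orderOf_dvd_of_pow_eq_one hx
      have h3 : orderOf (g⁻¹ * x * g) = 1 := Nat.eq_one_of_dvd_coprimes hcop h2 h1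
      rw [orderOf_eq_one_iff] at h3
      apply hx1
      calc x = g * (g⁻¹ * x * g) * g⁻¹ := by group
        _ = 1 := by rw [h3]; group
  refine ⟨Subgroup.characteristic_iff_comap_eq.2 fun φ => ?_, fun N hN => ?_⟩
  · ext x
    rw [Subgroup.mem_comap, hchar, hchar]
    simp [← map_pow]
  · by_cases hNK : N ≤ K
    · exact Or.inr hNK
    left
    obtain ⟨x, hxN, hxK⟩ := SetLike.not_le_iff_exists.1 hNK
    rw [hKmem] at hxK
    push Not at hxK
    obtain ⟨hx1, g, hg⟩ := hxK
    obtain ⟨h, hhH, hhN, hne⟩ : ∃ h ∈ H, h ∈ N ∧ h ≠ 1 := by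
      refine ⟨_, hg, ?_, ?_⟩
      · simpa using hN.conj_mem x hxN g⁻¹
      · intro hc
        apply hx1
        calc x = g * (g⁻¹ * x * g) * g⁻¹ := by group
          _ = 1 := by rw [hc]; group
    let f : K → K := fun k => ⟨(k : L) * (h * (k : L)⁻¹ * h⁻¹),
      K.mul_mem k.2 (hKn.conj_mem _ (K.inv_mem k.2) h)⟩
    have hf : Function.Injective f := by
      intro a b hab
      have hab' : (a : L) * (h * (a : L)⁻¹ * h⁻¹) = (b : L) * (h * (b : L)⁻¹ * h⁻¹) :=
        congrArg Subtype.val hab
      have hc : ((b : L)⁻¹ * a) * h = h * ((b : L)⁻¹ * a) := by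
        calc ((b : L)⁻¹ * a) * h = (b : L)⁻¹ * ((a : L) * (h * (a : L)⁻¹ * h⁻¹)) * h * a := by group
          _ = (b : L)⁻¹ * ((b : L) * (h * (b : L)⁻¹ * h⁻¹)) * h * a := by rw [hab']
          _ = h * ((b : L)⁻¹ * a) := by group
      have := hcen _ (K.mul_mem (K.inv_mem b.2) a.2) h hhH hne hc
      exact Subtype.ext (inv_mul_eq_one.1 this).symm
    intro k hk
    obtain ⟨a, ha⟩ := (Finite.injective_iff_surjective.1 hf) ⟨k, hk⟩
    have ha' : (a : L) * (h * (a : L)⁻¹ * h⁻¹) = k := congrArg Subtype.val ha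
    rw [← ha']
    have h1 : (a : L) * h * (a : L)⁻¹ ∈ N := hN.conj_mem h hhN a
    have := N.mul_mem h1 (N.inv_mem hhN)
    simpa [mul_assoc] using this

end Cfsg.Agent.S3383
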