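import Mathlib
import Cfsg.Statements.S3389
-- import your own Cfsg.Agent.* helpers here

set_option autoImplicit false
open Cfsg

namespace Cfsg.Agent.S3389

/-- Let G be a finite group acting faithfully and transitively on a finite set Ω with fixity k ≥ 1: every non-identity element fixes at most k points and some non-identity element fixes exactly k points. Then |Z(G)| divides k; if k = 2 then |G| is even; and for every prime p > k dividing |G| and every point α, either p does not divide |G_α| or G_α contains a Sylow p-subgroup of G. -/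
theorem result {G : Type*} [Group G] [Finite G] {Ω : Type*} [Fintype Ω] [MulAction G Ω] [FaithfulSMul G Ω]
    (htr : MulAction.IsPretransitive G Ω) (k : ℕ) (hk : 1 ≤ k)
    (hfix : ∀ g : G, g ≠ 1 → Nat.card (MulAction.fixedBy Ω g) ≤ k) (hex : ∃ g : G, g ≠ 1 ∧ Nat.card (MulAction.fixedBy Ω g) = k) :
    Nat.card (Subgroup.center G) ∣ k ∧ (k = 2 → 2 ∣ Nat.card G) ∧
      ∀ (p : ℕ), p.Prime → k < p → p ∣ Nat.card G → ∀ α : Ω,
        ¬ p ∣ Nat.card (MulAction.stabilizer G α) ∨ ¬ p ∣ (MulAction.stabilizer G α).index := by
  haveI := Fintype.ofFinite G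
  classical
  have hfsmul : ∀ (g c : G) (ω : Ω), ω ∈ MulAction.fixedBy Ω g → Commute c g → c • ω ∈ MulAction.fixedBy Ω g := by
    intro g c ω hω hc
    simp only [MulAction.mem_fixedBy] at *
    rw [smul_smul, ← hc.eq, ← smul_smul, hω]
  refine ⟨?_, ?_, ?_⟩
  · -- the centre is semiregular on Fix(g)
    obtain ⟨g, hg1, hgk⟩ := hex
    have hsemi : ∀ z : G, z ∈ Subgroup.center G → ∀ ω : Ω, z • ω = ω → z = 1 := by
      intro z hz ω hzω
      apply eq_of_smul_eq_smul (α := Ω)
      intro ω'
      obtain ⟨c, rfl⟩ := htr.exists_smul_eq ω ω'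
      rw [one_smul, smul_smul, ← Subgroup.mem_center_iff.1 hz c, ← smul_smul, hzω]
    letI : MulAction (Subgroup.center G) (MulAction.fixedBy Ω g) :=
      { smul := fun z ω => ⟨(z : G) • (ω : Ω), hfsmul g z ω ω.2 (Subgroup.mem_center_iff.1 z.2 g).symm⟩
        one_smul := fun ω => Subtype.ext (one_smul G (ω : Ω))
        mul_smul := fun a b ω => Subtype.ext (mul_smul (a : G) (b : G) (ω : Ω)) }
    rw [← hgk, Nat.card_congr (MulAction.selfEquivSigmaOrbitsQuotientStabilizer (Subgroup.center G) (MulAction.fixedBy Ω g)),
      Nat.card_sigma]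
    refine Finset.dvd_sum fun x _ => ?_
    have hst : MulAction.stabilizer (Subgroup.center G) (Quotient.out x) = ⊥ := by
      rw [Subgroup.eq_bot_iff_forall]
      intro z hz
      exact Subtype.ext (hsemi z z.2 _ (congrArg Subtype.val hz))
    rw [hst, ← Subgroup.index_eq_card, Subgroup.index_bot]
  · intro hk2
    subst hk2
    rw [← not_not (a := 2 ∣ Nat.card G), ← Nat.odd_iff.trans Nat.two_dvd_ne_zero.symm]
    intro hodd
    obtain ⟨g, hg1, hg2⟩ := hex
    obtain ⟨a, b, hab, hFab⟩ := (Set.ncard_eq_two (s := MulAction.fixedBy Ω g)).1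
      (by rw [← Nat.card_coe_set_eq]; exact hg2)
    have hga : g • a = a := by
      have : a ∈ MulAction.fixedBy Ω g := by rw [hFab]; simp
      exact this
    have hgb : g • b = b := by
      have : b ∈ MulAction.fixedBy Ω g := by rw [hFab]; simp
      exact this
    -- at most two fixed points
    have hthree : ∀ (h : G) (x y z : Ω), h ≠ 1 → x ≠ y → h • x = x → h • y = y → h • z = z → z = x ∨ z = y := by
      intro h x y z hh hxy hx hy hz
      by_contra hc
      push Not at hc
      have h1 := hfix h hh
      have h2 : ({x, y, z} : Finset Ω).card = 3 := by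
        rw [Finset.card_insert_of_notMem, Finset.card_insert_of_notMem, Finset.card_singleton]
        · simpa using hc.2.symm
        · simp [hxy, hc.1.symm]
      have h3 : ({x, y, z} : Finset Ω).card ≤ Nat.card (MulAction.fixedBy Ω h) := by
        rw [Nat.card_coe_set_eq, ← Set.ncard_coe_finset]
        refine Set.ncard_le_ncard ?_ (Set.toFinite _)
        intro w hw
        simp at hw
        rcases hw with rfl | rfl | rfl <;> assumption
      omega
    -- in a group of odd order nothing swaps two points
    have hswap : ∀ (c : G) (x y : Ω), c • x = y → c • y = x → x = y := by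
      intro c x y hxy hyx
      obtain ⟨j, hj⟩ := hodd
      have hc2 : ∀ i : ℕ, c ^ (2 * i) • x = x := by
        intro i
        induction i with
        | zero => simp
        | succ i ih =>
          rw [show 2 * (i + 1) = 2 + 2 * i by ring, pow_add, mul_smul, ih, sq, mul_smul, hxy, hyx]
      have h1 := pow_card_eq_one' (G := G) (x := c)
      rw [hj, show 2 * j + 1 = 1 + 2 * j by ring, pow_add, pow_one] at h1
      calc x = (c * c ^ (2 * j)) • x := by rw [h1, one_smul]
        _ = y := by rw [mul_smul, hc2, hxy]
    let A := MulAction.stabilizer G a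
    let d := (htr.exists_smul_eq b a).choose • a
    have hc := (htr.exists_smul_eq b a).choose_spec
    set c := (htr.exists_smul_eq b a).choose with hcdef
    have hda : d ≠ a := fun h => hab (MulAction.injective c (h.trans hc.symm))
    have hA : ∀ u : A, (u : G) • a = a := fun u => u.2
    -- the stabilizers of b and d in A have the same order
    have hst : Nat.card (MulAction.stabilizer A d) = Nat.card (MulAction.stabilizer A b) := by
      refine Nat.card_congr
        { toFun := fun u => ⟨⟨c⁻¹ * (u.1 : G) * c, ?_⟩, ?_⟩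
          invFun := fun u => ⟨⟨c * (u.1 : G) * c⁻¹, ?_⟩, ?_⟩
          left_inv := fun u => Subtype.ext (Subtype.ext (by simp [mul_assoc]))
          right_inv := fun u => Subtype.ext (Subtype.ext (by simp [mul_assoc])) }
      · show (c⁻¹ * (u.1 : G) * c) • a = a
        rw [mul_smul, mul_smul, show (u.1 : G) • (c • a) = c • a from u.2, inv_smul_smul]
      · show (c⁻¹ * (u.1 : G) * c) • b = b
        rw [mul_smul, hc, mul_smul, hA u.1, inv_smul_eq_iff, hc]
      · show (c * (u.1 : G) * c⁻¹) • a = a
        have : c⁻¹ • a = b := by rw [inv_smul_eq_iff, hc]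
        rw [mul_smul, this, mul_smul, show (u.1 : G) • b = b from u.2, hc]
      · show (c * (u.1 : G) * c⁻¹) • (c • a) = c • a
        rw [← mul_smul, inv_mul_cancel_right, mul_smul, hA u.1]
    -- nontrivial elements of A fixing a point of either orbit
    let Y := {y : Ω // y ∈ MulAction.orbit A b} ⊕ {y : Ω // y ∈ MulAction.orbit A d}
    let pt : Y → Ω := Sum.elim Subtype.val Subtype.val
    have hdisj : ∀ u : A, u • b ≠ d := by
      intro u hu
      have hu' : (u : G) • b = c • a := hu
      have h1 : (u : G)⁻¹ • c • a = b := by rw [← hu', inv_smul_smul]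
      have h2 : (u : G)⁻¹ • a = a := by rw [inv_smul_eq_iff, hA u]
      exact hab (hswap ((u : G)⁻¹ * c) a b (by rw [mul_smul, h1]) (by rw [mul_smul, hc, h2]))
    have hpt : Function.Injective pt := by
      rintro (⟨y, hy⟩ | ⟨y, hy⟩) (⟨y', hy'⟩ | ⟨y', hy'⟩) (rfl : y = y')
      · rfl
      · exfalso
        obtain ⟨u, hu⟩ := hy
        obtain ⟨v, hv⟩ := hy'
        have hu' : u • b = y := hu
        have hv' : v • d = y := hv
        exact hdisj (v⁻¹ * u) (by rw [mul_smul, hu', ← hv', inv_smul_smul])
      · exfalso
        obtain ⟨u, hu⟩ := hy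
        obtain ⟨v, hv⟩ := hy'
        have hu' : u • d = y := hu
        have hv' : v • b = y := hv
        exact hdisj (u⁻¹ * v) (by rw [mul_smul, hv', ← hu', inv_smul_smul])
      · rfl
    have hpta : ∀ y : Y, pt y ≠ a := by
      rintro (⟨y, u, hu⟩ | ⟨y, u, hu⟩) (h : y = a)
      · exact hab (MulAction.injective (u : G) (((hu : (u : G) • b = y).trans h).trans (hA u).symm)).symm
      · exact hda (MulAction.injective (u : G) (((hu : (u : G) • d = y).trans h).trans (hA u).symm))
    let f : (Σ y : Y, {u : MulAction.stabilizer A (pt y) // u ≠ 1}) → {u : A // u ≠ 1} :=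
      fun p => ⟨p.2.1.1, fun h => p.2.2 (Subtype.ext h)⟩
    have hf : Function.Injective f := by
      rintro ⟨y, u⟩ ⟨y', u'⟩ he
      have he' : u.1.1 = u'.1.1 := congrArg Subtype.val he
      have hne : (u.1.1 : G) ≠ 1 := fun h => u.2 (Subtype.ext (Subtype.ext h))
      have h3 : (u.1.1 : G) • pt y' = pt y' := by rw [he']; exact u'.1.2
      rcases hthree _ a (pt y) (pt y') hne (hpta y).symm (hA u.1.1) u.1.2 h3 with h | h
      · exact absurd h (hpta y')
      · obtain rfl := hpt h
        exact Sigma.ext rfl (heq_of_eq (Subtype.ext (Subtype.ext he')))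
    have hle := Nat.card_le_card_of_injective f hf
    have hsub : ∀ {T : Type _} [Fintype T] [One T], Nat.card {u : T // u ≠ 1} = Nat.card T - 1 := by
      intro T _ _
      rw [Nat.card_eq_fintype_card, Nat.card_eq_fintype_card, Fintype.card_subtype_compl, Fintype.card_subtype_eq]
    have hstY : ∀ y : Y, Nat.card (MulAction.stabilizer A (pt y)) = Nat.card (MulAction.stabilizer A b) := by
      rintro (⟨y, u, rfl⟩ | ⟨y, u, rfl⟩)
      · exact Nat.card_congr (MulAction.stabilizerEquivStabilizer (g := u) rfl).toEquiv.symm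
      · exact (Nat.card_congr (MulAction.stabilizerEquivStabilizer (g := u) rfl).toEquiv.symm).trans hst
    rw [Nat.card_sigma, hsub] at hle
    simp only [hsub, hstY, Finset.sum_const, Finset.card_univ, smul_eq_mul] at hle
    have hY : Fintype.card Y = Nat.card (MulAction.orbit A b) + Nat.card (MulAction.orbit A d) := by
      rw [← Nat.card_eq_fintype_card, Nat.card_sum]
    rw [hY] at hle
    have o1 := (MulAction.stabilizer A b).card_mul_index
    rw [MulAction.index_stabilizer, ← Nat.card_coe_set_eq] at o1
    have o2 := (MulAction.stabilizer A d).card_mul_index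
    rw [MulAction.index_stabilizer, ← Nat.card_coe_set_eq, hst] at o2
    have hh1 : 1 < Nat.card (MulAction.stabilizer A b) := by
      rw [Finite.one_lt_card_iff_nontrivial]
      exact ⟨⟨⟨g, hga⟩, hgb⟩, 1, fun h => hg1 (congrArg (fun u : MulAction.stabilizer A b => ((u : A) : G)) h)⟩
    have hh2 : Odd (Nat.card (MulAction.stabilizer A b)) :=
      hodd.of_dvd_nat ((Subgroup.card_subgroup_dvd_card _).trans (Subgroup.card_subgroup_dvd_card A))
    obtain ⟨j, hj⟩ := hh2
    have ho : Nat.card (MulAction.orbit A d) = Nat.card (MulAction.orbit A b) :=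
      Nat.eq_of_mul_eq_mul_left (by omega) (o2.trans o1.symm)
    rw [ho, ← o1, hj] at hle
    rw [hj] at hh1
    have hj1 : 1 ≤ j := by omega
    have hp : 0 < Nat.card (MulAction.orbit A b) := by
      haveI : Nonempty (MulAction.orbit A b) := ⟨⟨b, MulAction.mem_orbit_self b⟩⟩
      exact Nat.card_pos
    simp only [Nat.add_sub_cancel] at hle
    have h4 := Nat.mul_le_mul hj1 (le_refl (Nat.card (MulAction.orbit A b)))
    have h5 : (2 * j + 1) * Nat.card (MulAction.orbit A b) = 2 * (j * Nat.card (MulAction.orbit A b)) + Nat.card (MulAction.orbit A b) := by ring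
    have h6 : (Nat.card (MulAction.orbit A b) + Nat.card (MulAction.orbit A b)) * (2 * j) = 4 * (j * Nat.card (MulAction.orbit A b)) := by ring
    rw [h5, h6] at hle
    omega
  · intro p hp hkp _ α
    haveI := Fact.mk hp
    by_contra hcon
    push Not at hcon
    obtain ⟨h1, h2⟩ := hcon
    let A := MulAction.stabilizer G α
    obtain ⟨P⟩ : Nonempty (Sylow p A) := inferInstance
    let Q : Subgroup G := (P : Subgroup A).map A.subtype
    have hQA : Q ≤ A := Subgroup.map_subtype_le _
    have hcQ : Nat.card Q = p ^ (Nat.card A).factorization p := by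
      rw [← P.card_eq_multiplicity]
      exact Subgroup.card_map_of_injective A.subtype_injective
    have hidx : p ∣ Q.index := h2.trans (Subgroup.index_dvd_of_le hQA)
    have hf0 : 0 < (Nat.card A).factorization p := hp.factorization_pos_of_dvd Nat.card_pos.ne' h1
    obtain ⟨R, hR, hQR⟩ : ∃ R : Subgroup G, Nat.card R = p ^ ((Nat.card A).factorization p + 1) ∧ Q ≤ R := by
      refine Sylow.exists_subgroup_card_pow_succ ?_ hcQ
      rw [pow_succ, ← hcQ, ← Q.card_mul_index]
      exact mul_dvd_mul_left _ hidx
    have hRp : IsPGroup p R := IsPGroup.of_card hR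
    obtain ⟨x, hxQ, hx1⟩ : ∃ x ∈ Q, x ≠ 1 := by
      by_contra hall
      push Not at hall
      rw [(Subgroup.eq_bot_iff_forall Q).2 hall, Subgroup.card_bot] at hcQ
      exact absurd hcQ.symm (Nat.one_lt_pow hf0.ne' hp.one_lt).ne'
    have hQn : (Q.subgroupOf R).Normal := by
      haveI := Fact.mk hp
      have hi : (Q.subgroupOf R).index = p := by
        have := (Q.subgroupOf R).card_mul_index
        rw [Nat.card_congr (Subgroup.subgroupOfEquivOfLe hQR).toEquiv, hcQ, hR, pow_succ] at this
        exact Nat.eq_of_mul_eq_mul_left (pow_pos hp.pos _) this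
      refine Subgroup.normal_of_index_eq_minFac_card ?_
      rw [hi, hR, Nat.pow_minFac (by omega), hp.minFac_eq]
    -- R acts on the fixed points of Q, which are fewer than p, so it fixes α
    let F := {ω : Ω // ∀ q ∈ Q, q • ω = ω}
    letI : MulAction R F :=
      { smul := fun r ω => ⟨(r : G) • (ω : Ω), fun q hq => by
          have hm := hQn.conj_mem ⟨q, hQR hq⟩ (Subgroup.mem_subgroupOf.2 hq) r⁻¹
          rw [Subgroup.mem_subgroupOf] at hm
          simp at hm
          have := ω.2 _ hm
          rw [mul_smul, mul_smul, inv_smul_eq_iff] at this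
          exact this⟩
        one_smul := fun ω => Subtype.ext (one_smul G (ω : Ω))
        mul_smul := fun r s ω => Subtype.ext (mul_smul (r : G) (s : G) (ω : Ω)) }
    let αF : F := ⟨α, fun q hq => hQA hq⟩
    have hFk : Nat.card F ≤ k := by
      refine le_trans ?_ (hfix x hx1)
      exact Nat.card_le_card_of_injective (fun ω : F => (⟨ω.1, ω.2 x hxQ⟩ : MulAction.fixedBy Ω x))
        (fun u v h => Subtype.ext (congrArg (fun w : MulAction.fixedBy Ω x => (w : Ω)) h))
    have ho : Nat.card (MulAction.orbit R αF) = 1 := by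
      obtain ⟨n, hn⟩ := hRp.card_orbit αF
      have hle : Nat.card (MulAction.orbit R αF) ≤ Nat.card F :=
        Nat.card_le_card_of_injective Subtype.val Subtype.val_injective
      rcases Nat.eq_zero_or_pos n with rfl | hn0
      · simpa using hn
      · have := Nat.le_self_pow hn0.ne' p
        omega
    have hRA : R ≤ A := by
      intro r hr
      have h : (⟨r, hr⟩ : R) • αF = αF := by
        haveI := (Nat.card_eq_one_iff_unique.1 ho).1
        exact congrArg Subtype.val (Subsingleton.elim (α := MulAction.orbit R αF)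
          ⟨_, MulAction.mem_orbit αF _⟩ ⟨αF, MulAction.mem_orbit_self αF⟩)
      exact congrArg Subtype.val h
    have h3 := Subgroup.card_dvd_of_le hRA
    rw [hR] at h3
    have := (hp.pow_dvd_iff_le_factorization Nat.card_pos.ne').1 h3
    omega

end Cfsg.Agent.S3389
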