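import Cfsg.Statements.S3390
import Cfsg.Agent.S3224
import Cfsg.Agent.Lib.PGroupsBasic

set_option autoImplicit false
open Cfsg

namespace Cfsg.Agent.S3390

open MulAction

section perm
open Equiv Equiv.Perm
variable {X : Type*} [Fintype X] [DecidableEq X]

theorem sign_semiregular (h : Perm X) (o : ℕ) (ho : h ^ o = 1)
    (hfree : ∀ x, h x ≠ x → ∀ i : ℕ, (h ^ i) x = x → o ∣ i) (ho1 : 1 < o) :
    sign h = (-1) ^ (h.support.card + h.support.card / o) := by
  have hall : ∀ c ∈ h.cycleType, c = o := by
    intro c hc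
    refine Nat.dvd_antisymm ((dvd_of_mem_cycleType hc).trans (orderOf_dvd_of_pow_eq_one ho)) ?_
    rw [cycleType_def, Multiset.mem_map] at hc
    obtain ⟨σ, hσ, rfl⟩ := hc
    have hσ' : σ ∈ h.cycleFactorsFinset := hσ
    have hcyc : σ.IsCycle := (mem_cycleFactorsFinset_iff.1 hσ').1
    obtain ⟨x, hx⟩ : σ.support.Nonempty := by
      rw [← Finset.card_pos]; exact lt_trans (by norm_num) hcyc.two_le_card_support
    refine hfree x (mem_support.1 (mem_cycleFactorsFinset_support_le hσ' hx)) _ ?_
    rw [← cycleOf_pow_apply_self, ← cycle_is_cycleOf hx hσ']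
    simp [← hcyc.orderOf, pow_orderOf_eq_one]
  have hrep : h.cycleType = Multiset.replicate (Multiset.card h.cycleType) o :=
    Multiset.eq_replicate.2 ⟨rfl, hall⟩
  have hsum : h.support.card = Multiset.card h.cycleType * o := by
    rw [← sum_cycleType]
    conv_lhs => rw [hrep]
    rw [Multiset.sum_replicate, smul_eq_mul]
  rw [sign_of_cycleType, sum_cycleType]
  congr 2
  rw [hsum, Nat.mul_div_cancel _ (by omega)]

end perm

theorem not_three {G Ω : Type*} [Group G] [MulAction G Ω] [Finite Ω]
    (hfix : ∀ g : G, g ≠ 1 → Nat.card (MulAction.fixedBy Ω g) ≤ 2) {g : G} (hg : g ≠ 1) {a b c : Ω}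
    (hab : a ≠ b) (hac : a ≠ c) (hbc : b ≠ c) (ha : g • a = a) (hb : g • b = b) (hc : g • c = c) :
    False := by
  classical
  haveI := Fintype.ofFinite Ω
  have h := hfix g hg
  have hsub : (({a, b, c} : Finset Ω) : Set Ω) ⊆ MulAction.fixedBy Ω g := by
    intro v hv
    simp only [Finset.coe_insert, Finset.coe_singleton, Set.mem_insert_iff,
      Set.mem_singleton_iff] at hv
    rcases hv with rfl | rfl | rfl <;> assumption
  have := Set.ncard_le_ncard hsub (Set.toFinite _)
  rw [Set.ncard_coe_finset, Finset.card_eq_three.2 ⟨a, b, c, hab, hac, hbc, rfl⟩,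
    ← Nat.card_coe_set_eq] at this
  omega

/-- Let G be a finite group acting faithfully and transitively on a finite set Ω with fixity 2 (every non-identity element fixes at most two points, and some fixes exactly two). Let α ∈ Ω and S a Sylow 2-subgroup of G. Then one of the following holds: the stabilizer S_α of α in S is trivial; S is dihedral or semidihedral and either |S_α| = 2 or |S : S_α| = 2; |S| ≥ 4, S has exactly one orbit of size 2 on Ω, every other S-orbit is regular, and G has a normal subgroup of index 2 or of index |S| which is a Frobenius group; or S ≤ G_α. -/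
theorem result {G : Type*} [Group G] [Finite G] {Ω : Type*} [Fintype Ω] [MulAction G Ω] [FaithfulSMul G Ω] (htr : MulAction.IsPretransitive G Ω)
    (hfix : ∀ g : G, g ≠ 1 → Nat.card (MulAction.fixedBy Ω g) ≤ 2) (hex : ∃ g : G, g ≠ 1 ∧ Nat.card (MulAction.fixedBy Ω g) = 2) (α : Ω) (S : Sylow 2 G) :
    (S : Subgroup G) ⊓ MulAction.stabilizer G α = ⊥ ∨
    (((∃ n : ℕ, Nonempty (↥(S : Subgroup G) ≃* DihedralGroup n)) ∨ Cfsg.IsQuasiDihedral ↥(S : Subgroup G)) ∧
       (Nat.card ↥((S : Subgroup G) ⊓ MulAction.stabilizer G α) = 2 ∨ ((S : Subgroup G) ⊓ MulAction.stabilizer G α).relIndex (S : Subgroup G) = 2)) ∨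
    (4 ≤ Nat.card (S : Subgroup G) ∧
       (∃ ω : Ω, Nat.card (MulAction.orbit ↥(S : Subgroup G) ω) = 2 ∧
          ∀ ω' : Ω, ω' ∉ MulAction.orbit ↥(S : Subgroup G) ω → Nat.card (MulAction.orbit ↥(S : Subgroup G) ω') = Nat.card (S : Subgroup G)) ∧
       ∃ N : Subgroup G, N.Normal ∧ (N.index = 2 ∨ N.index = Nat.card (S : Subgroup G)) ∧ (∃ H : Subgroup ↥N, Cfsg.IsFrobeniusComplement H)) ∨
    (S : Subgroup G) ≤ MulAction.stabilizer G α := by
  classical
  haveI : Fact (Nat.Prime 2) := ⟨Nat.prime_two⟩
  haveI := htr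
  haveI := Fintype.ofFinite G
  set A : Subgroup G := (S : Subgroup G) ⊓ MulAction.stabilizer G α with hAdef
  have hA : ∀ x, x ∈ A ↔ x ∈ (S : Subgroup G) ∧ x • α = α := fun x => by
    simp [hAdef, Subgroup.mem_inf]
  by_cases hA1 : A = ⊥
  · exact .inl hA1
  by_cases hSα : (S : Subgroup G) ≤ MulAction.stabilizer G α
  · exact .inr (.inr (.inr hSα))
  right
  have hSp : IsPGroup 2 (S : Subgroup G) := S.2
  have hAS : A ≤ (S : Subgroup G) := inf_le_left
  have three : ∀ {g : G}, g ≠ 1 → ∀ {a b c : Ω}, a ≠ b → a ≠ c → b ≠ c →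
      g • a = a → g • b = b → g • c = c → False := fun hg _ _ _ => not_three hfix hg
  obtain ⟨x0, hx0A, hx01⟩ : ∃ x ∈ A, x ≠ (1 : G) := by
    by_contra! h
    exact hA1 (A.eq_bot_iff_forall.2 h)
  obtain ⟨u, huS, hun, huA⟩ : ∃ u ∈ (S : Subgroup G), (∀ a ∈ A, u⁻¹ * a * u ∈ A) ∧ u ∉ A := by
    haveI : Group.IsNilpotent (S : Subgroup G) := hSp.isNilpotent
    have hne : A.subgroupOf (S : Subgroup G) < ⊤ := by
      rw [lt_top_iff_ne_top, ne_eq, Subgroup.subgroupOf_eq_top]
      exact fun h => hSα (h.trans inf_le_right)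
    obtain ⟨u, hu, hu'⟩ := SetLike.exists_of_lt
      (Group.normalizerCondition_of_isNilpotent (G := ↥(S : Subgroup G)) _ hne)
    refine ⟨u, u.2, fun a ha => ?_, fun h => hu' (Subgroup.mem_subgroupOf.2 h)⟩
    have := (Subgroup.mem_normalizer_iff''.1 hu ⟨a, hAS ha⟩).1 (Subgroup.mem_subgroupOf.2 ha)
    simpa [Subgroup.mem_subgroupOf] using this
  obtain ⟨α', hα'⟩ : ∃ b, u • α = b := ⟨_, rfl⟩
  have hαα : α ≠ α' := fun h => huA ((hA u).2 ⟨huS, hα'.trans h.symm⟩)
  have hfA' : ∀ a ∈ A, a • α' = α' := by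
    intro a ha
    have := ((hA _).1 (hun a ha)).2
    rw [← hα']
    calc a • u • α = u • ((u⁻¹ * a * u) • α) := by simp [smul_smul, mul_assoc]
      _ = u • α := by rw [this]
  have fixA : ∀ a ∈ A, a ≠ 1 → ∀ w : Ω, a • w = w → w = α ∨ w = α' := by
    intro a ha ha1 w hw
    by_contra h
    push Not at h
    exact three ha1 hαα h.1.symm h.2.symm ((hA a).1 ha).2 (hfA' a ha) hw
  have inPair : ∀ y ∈ (S : Subgroup G), y • α = α ∨ y • α = α' → y ∈ A ∨ u⁻¹ * y ∈ A := by
    intro y hy h
    rcases h with h | h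
    · exact .inl ((hA y).2 ⟨hy, h⟩)
    · refine .inr ((hA _).2 ⟨mul_mem (inv_mem huS) hy, ?_⟩)
      rw [mul_smul, h, ← hα', inv_smul_smul]
  have stabcard : ∀ w : Ω, Nat.card (MulAction.orbit ↥(S : Subgroup G) w) *
      Nat.card (MulAction.stabilizer ↥(S : Subgroup G) w) = Nat.card (S : Subgroup G) := by
    intro w
    rw [Nat.card_congr (MulAction.orbitEquivQuotientStabilizer ↥(S : Subgroup G) w)]
    exact (Subgroup.card_eq_card_quotient_mul_card_subgroup _).symm
  have hstabA : Nat.card (MulAction.stabilizer ↥(S : Subgroup G) α) = Nat.card A := by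
    refine Nat.card_congr ⟨fun y => ⟨(y.1 : G), (hA _).2 ⟨y.1.2, y.2⟩⟩,
      fun a => ⟨⟨a.1, hAS a.2⟩, ((hA _).1 a.2).2⟩, fun y => rfl, fun a => rfl⟩
  have hrel : A.relIndex (S : Subgroup G) * Nat.card A = Nat.card (S : Subgroup G) := by
    rw [Subgroup.relIndex, ← Nat.card_congr (Subgroup.subgroupOfEquivOfLe hAS).toEquiv]
    exact Subgroup.index_mul_card _
  by_cases horb : ∃ y ∈ (S : Subgroup G), y • α ≠ α ∧ y • α ≠ α'
  · left
    obtain ⟨y0, hy0, hy0a, hy0b⟩ := horb
    let T : Subgroup G := (S : Subgroup G) ⊓ Subgroup.normalizer (A : Set G)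
    have hTpair : ∀ y ∈ T, y • α = α ∨ y • α = α' := by
      intro y hy
      refine fixA (y * x0 * y⁻¹) ?_ ?_ (y • α) ?_
      · exact (Subgroup.mem_normalizer_iff.1 (Subgroup.mem_inf.1 hy).2 x0).1 hx0A
      · simp [hx01]
      · simp [mul_smul, ((hA x0).1 hx0A).2]
    have hAT : A ≤ T := le_inf hAS Subgroup.le_normalizer
    have huT : u ∈ T := by
      refine Subgroup.mem_inf.2 ⟨huS, ?_⟩
      rw [← Subgroup.inv_mem_iff]
      refine Subgroup.mem_normalizer_fintype fun a ha => ?_
      simpa using hun a ha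
    have hTA : ∀ y ∈ T, y ∈ A ∨ u⁻¹ * y ∈ A := fun y hy =>
      inPair y (Subgroup.mem_inf.1 hy).1 (hTpair y hy)
    have hTS : T.subgroupOf (S : Subgroup G) < ⊤ := by
      rw [lt_top_iff_ne_top, ne_eq, Subgroup.subgroupOf_eq_top]
      intro h
      rcases hTpair y0 (h hy0) with e | e
      · exact hy0a e
      · exact hy0b e
    haveI : Group.IsNilpotent (S : Subgroup G) := hSp.isNilpotent
    obtain ⟨y, hyN, hyT⟩ := SetLike.exists_of_lt
      (Group.normalizerCondition_of_isNilpotent (G := ↥(S : Subgroup G)) _ hTS)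
    rw [Subgroup.mem_subgroupOf] at hyT
    have hyα : (y : G) • α ≠ α ∧ (y : G) • α ≠ α' := by
      refine ⟨fun h => hyT ?_, fun h => hyT ?_⟩
      · exact hAT ((hA _).2 ⟨y.2, h⟩)
      · rcases inPair _ y.2 (.inr h) with h' | h'
        · exact hAT h'
        · simpa using mul_mem huT (hAT h')
    let A' : Subgroup G := A.map (MulAut.conj (y : G)).toMonoidHom
    have hA'T : A' ≤ T := by
      rintro _ ⟨a, ha, rfl⟩
      have := (Subgroup.mem_normalizer_iff.1 hyN ⟨a, hAS ha⟩).1
        (Subgroup.mem_subgroupOf.2 (hAT ha))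
      simpa [Subgroup.mem_subgroupOf] using this
    have hdisj : ∀ a ∈ A, a ∈ A' → a = 1 := by
      rintro a ha ⟨b, hb, rfl⟩
      by_contra h
      refine three h hαα hyα.1.symm hyα.2.symm ((hA _).1 ha).2 (hfA' _ ha) ?_
      simp [mul_smul, ((hA b).1 hb).2]
    have hA2 : Nat.card A = 2 := by
      have hinj : Function.Injective (fun p : A × A' =>
          (⟨(p.1 : G) * p.2, mul_mem (hAT p.1.2) (hA'T p.2.2)⟩ : T)) := by
        rintro ⟨a, b⟩ ⟨c, d⟩ h
        have h' : (a : G) * b = c * d := congrArg Subtype.val h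
        have e : (c : G)⁻¹ * a = d * (b : G)⁻¹ := by
          rw [inv_mul_eq_iff_eq_mul, ← mul_assoc, ← h', mul_inv_cancel_right]
        have e1 := hdisj _ (mul_mem (inv_mem c.2) a.2) (e ▸ mul_mem d.2 (inv_mem b.2))
        have e2 : (a : G) = c := (inv_mul_eq_one.1 e1).symm
        exact Prod.ext (Subtype.ext e2) (Subtype.ext (mul_left_cancel (e2 ▸ h')))
      have h1 := Nat.card_le_card_of_injective _ hinj
      have h2 : Nat.card T ≤ Nat.card A + Nat.card A := by
        rw [← Nat.card_sum]
        refine Nat.card_le_card_of_surjective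
          (Sum.elim (fun a : A => (⟨a, hAT a.2⟩ : T))
            (fun a : A => ⟨u * a, mul_mem huT (hAT a.2)⟩)) ?_
        rintro ⟨t, ht⟩
        rcases hTA t ht with h | h
        · exact ⟨.inl ⟨t, h⟩, rfl⟩
        · exact ⟨.inr ⟨_, h⟩, Subtype.ext (mul_inv_cancel_left u t)⟩
      have h3 : Nat.card A' = Nat.card A :=
        (Nat.card_congr (Subgroup.equivMapOfInjective A _ (MulEquiv.injective _)).toEquiv).symm
      rw [Nat.card_prod, h3] at h1
      have h4 : 1 < Nat.card A := (Subgroup.one_lt_card_iff_ne_bot A).2 hA1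
      nlinarith
    refine ⟨?_, .inl hA2⟩
    have hmem : ∀ a ∈ A, a = 1 ∨ a = x0 := by
      intro a ha
      by_contra h
      push Not at h
      have : 3 ≤ Nat.card A := by
        rw [Nat.card_eq_fintype_card]
        refine le_trans (le_of_eq (Finset.card_eq_three.2 ⟨(1 : A), ⟨a, ha⟩, ⟨x0, hx0A⟩, ?_, ?_, ?_, rfl⟩).symm)
          (Finset.card_le_univ _)
        · exact fun e => h.1 (congrArg Subtype.val e).symm
        · exact fun e => hx01 (congrArg Subtype.val e).symm
        · exact fun e => h.2 (congrArg Subtype.val e)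
      omega
    have hx02 : orderOf x0 = 2 := by
      refine orderOf_eq_prime ?_ hx01
      rw [pow_two]
      rcases hmem _ (mul_mem hx0A hx0A) with h | h
      · exact h
      · exact absurd (mul_eq_left.1 h) hx01
    let x : (S : Subgroup G) := ⟨x0, hAS hx0A⟩
    have hx : orderOf x = 2 := by exact (Subgroup.orderOf_coe x).symm.trans hx02
    have hux : u * x0 = x0 * u := by
      rcases hmem _ (hun x0 hx0A) with h | h
      · exfalso
        apply hx01
        calc x0 = u * (u⁻¹ * x0 * u) * u⁻¹ := by group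
          _ = 1 := by rw [h]; group
      · calc u * x0 = u * (u⁻¹ * x0 * u) := by rw [h]
          _ = x0 * u := by group
    have hC : Nat.card (Subgroup.centralizer ({x} : Set (S : Subgroup G))) = 4 := by
      have key : ∀ z : (S : Subgroup G), z ∈ Subgroup.centralizer ({x} : Set (S : Subgroup G)) ↔
          ((z : G) ∈ A ∨ u⁻¹ * (z : G) ∈ A) := by
        intro z
        rw [Subgroup.mem_centralizer_singleton_iff, ← Subtype.coe_inj]
        simp only [Subgroup.coe_mul, x]
        constructor
        · intro h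
          refine inPair _ z.2 (fixA x0 hx0A hx01 _ ?_)
          rw [← mul_smul, ← h, mul_smul, ((hA x0).1 hx0A).2]
        · rintro (h | h)
          · rcases hmem _ h with e | e <;> simp [e]
          · rcases hmem _ h with e | e
            · rw [inv_mul_eq_one.1 e |>.symm, hux]
            · rw [inv_mul_eq_iff_eq_mul.1 e, mul_assoc, ← mul_assoc x0 u x0, ← hux, mul_assoc]
      have e : Subgroup.centralizer ({x} : Set (S : Subgroup G)) ≃ A ⊕ A :=
        { toFun := fun z => if h : (z.1 : G) ∈ A then .inl ⟨_, h⟩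
            else .inr ⟨u⁻¹ * (z.1 : G), ((key z.1).1 z.2).resolve_left h⟩
          invFun := Sum.elim (fun a => ⟨⟨a.1, hAS a.2⟩, (key _).2 (.inl a.2)⟩)
            (fun a => ⟨⟨u * a.1, mul_mem huS (hAS a.2)⟩, (key _).2 (.inr (by simp))⟩)
          left_inv := fun z => by
            by_cases h : (z.1 : G) ∈ A
            · simp [h]
            · simp [h]
          right_inv := fun a => by
            rcases a with a | a
            · simp
            · have : u * a.1 ∉ A := fun h => huA (by simpa using mul_mem h (inv_mem a.2))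
              simp [this] }
      rw [Nat.card_congr e, Nat.card_sum, hA2]
    rcases Cfsg.Agent.S3224.result hSp x hx hC with h | h | h
    · exact .inl h
    · exact .inr h
    · exfalso
      have h1 := stabcard α
      rw [hstabA, hA2, h] at h1
      have hy0' : 3 ≤ Nat.card (MulAction.orbit ↥(S : Subgroup G) α) := by
        rw [Nat.card_coe_set_eq]
        refine le_trans (le_of_eq ?_) (Set.ncard_le_ncard (s := ↑({α, α', y0 • α} : Finset Ω)) ?_ (Set.toFinite _))
        · rw [Set.ncard_coe_finset]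
          exact (Finset.card_eq_three.2 ⟨_, _, _, hαα, hy0a.symm, hy0b.symm, rfl⟩).symm
        · intro v hv
          simp only [Finset.coe_insert, Finset.coe_singleton, Set.mem_insert_iff,
            Set.mem_singleton_iff] at hv
          rcases hv with rfl | rfl | rfl
          · exact MulAction.mem_orbit_self _
          · exact ⟨⟨u, huS⟩, hα'⟩
          · exact ⟨⟨y0, hy0⟩, rfl⟩
      omega
  push Not at horb
  have hSpair : ∀ y ∈ (S : Subgroup G), y • α = α ∨ y • α = α' := fun y hy => or_iff_not_imp_left.2 (horb y hy)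
  have hSA : ∀ y ∈ (S : Subgroup G), y ∈ A ∨ u⁻¹ * y ∈ A := fun y hy => inPair y hy (hSpair y hy)
  have horbit : MulAction.orbit ↥(S : Subgroup G) α = {α, α'} := by
    ext v
    constructor
    · rintro ⟨y, rfl⟩; exact hSpair y.1 y.2
    · rintro (rfl | rfl)
      · exact MulAction.mem_orbit_self _
      · exact ⟨⟨u, huS⟩, hα'⟩
  have horb2 : Nat.card (MulAction.orbit ↥(S : Subgroup G) α) = 2 := by
    rw [horbit, Nat.card_coe_set_eq, Set.ncard_pair hαα]
  have hS2A : Nat.card (S : Subgroup G) = 2 * Nat.card A := by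
    rw [← stabcard α, horb2, hstabA]
  have hrel2 : A.relIndex (S : Subgroup G) = 2 := by
    rw [hS2A] at hrel
    exact Nat.eq_of_mul_eq_mul_right (Nat.card_pos) hrel
  have hnormA : ∀ y ∈ (S : Subgroup G), ∀ a ∈ A, y * a * y⁻¹ ∈ A := by
    intro y hy a ha
    refine (hA _).2 ⟨mul_mem (mul_mem hy (hAS ha)) (inv_mem hy), ?_⟩
    rcases hSpair y⁻¹ (inv_mem hy) with h | h
    · rw [mul_smul, mul_smul, h, ((hA a).1 ha).2]; exact (inv_smul_eq_iff.1 h).symm
    · rw [mul_smul, mul_smul, h, hfA' a ha]; exact (inv_smul_eq_iff.1 h).symm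
  have hα'pair : ∀ y ∈ (S : Subgroup G), y • α' = α ∨ y • α' = α' := by
    intro y hy
    rw [← hα', ← mul_smul, hα']
    exact hSpair _ (mul_mem hy huS)
  by_cases hfree : ∃ β, β ≠ α ∧ β ≠ α' ∧ ∃ r ∈ (S : Subgroup G), r ≠ 1 ∧ r • β = β
  · left
    refine ⟨?_, .inr hrel2⟩
    obtain ⟨β, hβ1, hβ2, r, hr, hr1, hrβ⟩ := hfree
    have hAβ : ∀ a ∈ A, a • β = β → a = 1 := by
      intro a ha h
      by_contra ha1
      rcases fixA a ha ha1 β h with e | e
      · exact hβ1 e
      · exact hβ2 e
    have hrA : r ∉ A := fun h => hr1 (hAβ r h hrβ)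
    have hβr : ∀ y ∈ (S : Subgroup G), y • β = β → y = 1 ∨ y = r := by
      intro y hy h
      rcases hSA y hy with hy' | hy'
      · exact .inl (hAβ y hy' h)
      · right
        have hr' := (hSA r hr).resolve_left hrA
        have e : r⁻¹ * y ∈ A := by
          have := mul_mem (inv_mem hr') hy'
          simpa [mul_assoc] using this
        have e1 := hAβ _ e (by rw [mul_smul, h, inv_smul_eq_iff, hrβ])
        exact (inv_mul_eq_one.1 e1).symm
    have hr2 : orderOf r = 2 := by
      refine orderOf_eq_prime ?_ hr1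
      rw [pow_two]
      rcases hβr _ (mul_mem hr hr) (by rw [mul_smul, hrβ, hrβ]) with h | h
      · exact h
      · exact absurd (mul_eq_left.1 h) hr1
    obtain ⟨a, haA, ha1, hac⟩ : ∃ a ∈ A, a ≠ 1 ∧ ∀ y ∈ (S : Subgroup G), y * a = a * y := by
      haveI : (A.subgroupOf (S : Subgroup G)).Normal :=
        ⟨fun a ha y => by
          rw [Subgroup.mem_subgroupOf] at ha ⊢
          exact hnormA y.1 y.2 a.1 ha⟩
      have hne : A.subgroupOf (S : Subgroup G) ≠ ⊥ := by
        rw [ne_eq, Subgroup.subgroupOf_eq_bot]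
        intro h
        exact hA1 (disjoint_self.1 (h.mono_right hAS))
      haveI : Group.IsNilpotent (S : Subgroup G) := hSp.isNilpotent
      obtain ⟨⟨a, ha⟩, ha1'⟩ := (Subgroup.ne_bot_iff_exists_ne_one).1
        (Cfsg.Agent.PGroupsBasic.inf_center_ne_bot hSp (N := A.subgroupOf (S : Subgroup G)) hne)
      have ha1 : a ≠ 1 := fun e => ha1' (Subtype.ext e)
      obtain ⟨haA, haC⟩ := Subgroup.mem_inf.1 ha
      exact ⟨a, Subgroup.mem_subgroupOf.1 haA, fun e => ha1 (Subtype.ext e), fun y hy =>
        congrArg Subtype.val (Subgroup.mem_center_iff.1 haC ⟨y, hy⟩)⟩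
    have ha_r : a ≠ r := fun e => hrA (e ▸ haA)
    have har : a * r ≠ 1 ∧ a * r ≠ r ∧ a * r ≠ a := by
      refine ⟨fun e => hrA ?_, fun e => ha1 (mul_eq_right.1 e), fun e => hr1 (mul_eq_left.1 e)⟩
      rw [← inv_eq_of_mul_eq_one_right e]; exact inv_mem haA
    let R : (S : Subgroup G) := ⟨r, hr⟩
    let a' : (S : Subgroup G) := ⟨a, hAS haA⟩
    have hR : orderOf R = 2 := by exact (Subgroup.orderOf_coe R).symm.trans hr2
    have haRβ : a • β ≠ β := fun h => ha1 (hAβ a haA h)
    have key : ∀ z : (S : Subgroup G), z ∈ Subgroup.centralizer ({R} : Set (S : Subgroup G)) ↔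
        z ∈ ({1, R, a', a' * R} : Finset (S : Subgroup G)) := by
      intro z
      rw [Subgroup.mem_centralizer_singleton_iff, ← Subtype.coe_inj]
      simp only [Subgroup.coe_mul, Finset.mem_insert, Finset.mem_singleton]
      constructor
      · intro h
        have e1 : r • (z : G) • β = (z : G) • β := by
          change r • (z : G) • β = _
          rw [← mul_smul, ← h, mul_smul, hrβ]
        have e2 : r • a • β = a • β := by rw [← mul_smul, hac r hr, mul_smul, hrβ]
        have e3 : (z : G) • β = β ∨ (z : G) • β = a • β := by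
          by_contra hh
          push Not at hh
          exact three hr1 (Ne.symm haRβ) (Ne.symm hh.1) (Ne.symm hh.2) hrβ e2 e1
        rcases e3 with e3 | e3
        · rcases hβr _ z.2 e3 with e | e
          · exact .inl (Subtype.ext e)
          · exact .inr (.inl (Subtype.ext e))
        · have hz : (a⁻¹ * (z : G)) • β = β := by rw [mul_smul, e3, inv_smul_smul]
          rcases hβr _ (mul_mem (inv_mem (hAS haA)) z.2) hz with e | e
          · exact .inr (.inr (.inl (Subtype.ext (inv_mul_eq_one.1 e).symm)))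
          · exact .inr (.inr (.inr (Subtype.ext (inv_mul_eq_iff_eq_mul.1 e))))
      · rintro (rfl | rfl | rfl | rfl)
        · simp
        · rfl
        · exact (hac r hr).symm
        · simp only [Subgroup.coe_mul, R, a']
          rw [← mul_assoc r a r, hac r hr]
    have hC : Nat.card (Subgroup.centralizer ({R} : Set (S : Subgroup G))) = 4 := by
      rw [← SetLike.coe_sort_coe, Nat.card_coe_set_eq,
        show ((Subgroup.centralizer ({R} : Set (S : Subgroup G))) : Set (S : Subgroup G)) =
          ↑({1, R, a', a' * R} : Finset (S : Subgroup G)) from Set.ext key, Set.ncard_coe_finset]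
      have n1 : (1 : (S : Subgroup G)) ≠ R := fun e => hr1 (congrArg Subtype.val e).symm
      have n2 : (1 : (S : Subgroup G)) ≠ a' := fun e => ha1 (congrArg Subtype.val e).symm
      have n3 : (1 : (S : Subgroup G)) ≠ a' * R := fun e => har.1 (congrArg Subtype.val e).symm
      have n4 : R ≠ a' := fun e => ha_r (congrArg Subtype.val e).symm
      have n5 : R ≠ a' * R := fun e => har.2.1 (congrArg Subtype.val e).symm
      have n6 : a' ≠ a' * R := fun e => har.2.2 (congrArg Subtype.val e).symm
      rw [Finset.card_insert_of_notMem (by simp [n1, n2, n3]),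
        Finset.card_insert_of_notMem (by simp [n4, n5]),
        Finset.card_insert_of_notMem (by simp [n6]), Finset.card_singleton]
    rcases Cfsg.Agent.S3224.result hSp R hR hC with h | h | h
    · exact .inl h
    · exact .inr h
    · left
      have hA2 : Nat.card A = 2 := by omega
      have ha2 : a * a = 1 := by
        by_contra h2
        have : 3 ≤ Nat.card A := by
          rw [Nat.card_eq_fintype_card]
          refine le_trans (le_of_eq (Finset.card_eq_three.2 ⟨(1 : A), ⟨a, haA⟩, ⟨a * a, mul_mem haA haA⟩, ?_, ?_, ?_, rfl⟩).symm)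
            (Finset.card_le_univ _)
          · exact fun e => ha1 (congrArg Subtype.val e).symm
          · exact fun e => h2 (congrArg Subtype.val e).symm
          · exact fun e => ha1 (mul_eq_left.1 (congrArg Subtype.val e).symm)
        omega
      have hrr : r * r = 1 := by rw [← pow_two, ← hr2, pow_orderOf_eq_one]
      have hall : ∀ z : (S : Subgroup G), z * z = 1 := by
        intro z
        have hz : z ∈ Subgroup.centralizer ({R} : Set (S : Subgroup G)) := by
          rw [(Subgroup.card_eq_iff_eq_top _).1 (hC.trans h.symm)]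
          exact Subgroup.mem_top z
        have := (key z).1 hz
        simp only [Finset.mem_insert, Finset.mem_singleton] at this
        rcases this with rfl | rfl | rfl | rfl
        · simp
        · exact Subtype.ext hrr
        · exact Subtype.ext ha2
        · refine Subtype.ext ?_
          simp only [Subgroup.coe_mul, Subgroup.coe_one, R, a']
          rw [mul_assoc, ← mul_assoc r a r, hac r hr, mul_assoc a r r, hrr, mul_one, ha2]
      haveI : Nontrivial (S : Subgroup G) := ⟨⟨1, R, fun e => hr1 (congrArg Subtype.val e).symm⟩⟩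
      haveI : IsKleinFour (S : Subgroup G) := ⟨h, by
        apply Monoid.exponent_eq_prime_iff Nat.prime_two |>.2
        intro g hg
        exact orderOf_eq_prime (by rw [pow_two, hall]) hg⟩
      exact ⟨2, IsKleinFour.nonempty_mulEquiv⟩
  right; left
  push Not at hfree
  have hA2 : 2 ≤ Nat.card A := (Subgroup.one_lt_card_iff_ne_bot A).2 hA1
  refine ⟨by omega, ⟨α, horb2, fun ω' hω' => ?_⟩, ?_⟩
  · have hb : ω' ≠ α ∧ ω' ≠ α' := by
      rw [horbit] at hω'
      simpa [not_or] using hω'
    have hbot : MulAction.stabilizer ↥(S : Subgroup G) ω' = ⊥ := by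
      rw [Subgroup.eq_bot_iff_forall]
      intro y hy
      by_contra hy1
      exact hfree ω' hb.1 hb.2 y.1 y.2 (fun e => hy1 (Subtype.ext e)) hy
    have := stabcard ω'
    rwa [hbot, Subgroup.card_bot, mul_one] at this
  obtain ⟨k, hk⟩ := IsPGroup.iff_card.1 hSp
  have ordS : ∀ y ∈ (S : Subgroup G), orderOf y ∣ Nat.card (S : Subgroup G) := fun y hy => by
    have := orderOf_dvd_natCard (⟨y, hy⟩ : (S : Subgroup G))
    rwa [← Subgroup.orderOf_coe] at this
  have hn : Nat.card (S : Subgroup G) ∣ Fintype.card Ω - 2 := by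
    have hX : ∀ w : {w : Ω // w ≠ α ∧ w ≠ α'}, ∀ y : (S : Subgroup G),
        (y : G) • w.1 ≠ α ∧ (y : G) • w.1 ≠ α' := by
      rintro ⟨w, hw⟩ y
      refine ⟨fun h => ?_, fun h => ?_⟩
      · rcases hSpair (y : G)⁻¹ (inv_mem y.2) with e | e
        · exact hw.1 (by rw [← e, ← h, inv_smul_smul])
        · exact hw.2 (by rw [← e, ← h, inv_smul_smul])
      · rcases hα'pair (y : G)⁻¹ (inv_mem y.2) with e | e
        · exact hw.1 (by rw [← e, ← h, inv_smul_smul])
        · exact hw.2 (by rw [← e, ← h, inv_smul_smul])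
    letI : MulAction (S : Subgroup G) {w : Ω // w ≠ α ∧ w ≠ α'} :=
      { smul := fun y w => ⟨(y : G) • w.1, hX w y⟩
        one_smul := fun w => Subtype.ext (one_smul G w.1)
        mul_smul := fun y z w => Subtype.ext (mul_smul (y : G) (z : G) w.1) }
    have hcard : Nat.card {w : Ω // w ≠ α ∧ w ≠ α'} = Fintype.card Ω - 2 := by
      rw [Nat.card_eq_fintype_card, Fintype.card_subtype,
        show Finset.univ.filter (fun w => w ≠ α ∧ w ≠ α') = (Finset.univ : Finset Ω) \ {α, α'} by
          ext; simp,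
        Finset.card_sdiff]
      simp [Finset.card_pair hαα]
    rw [← hcard, Nat.card_congr (MulAction.selfEquivSigmaOrbits (S : Subgroup G) {w : Ω // w ≠ α ∧ w ≠ α'}),
      Nat.card_sigma]
    refine Finset.dvd_sum fun q _ => ?_
    have hq := Subgroup.card_eq_card_quotient_mul_card_subgroup
      (MulAction.stabilizer (S : Subgroup G) q.out)
    rw [← Nat.card_congr (MulAction.orbitEquivQuotientStabilizer (S : Subgroup G) q.out)] at hq
    have hbot : MulAction.stabilizer (S : Subgroup G) q.out = ⊥ := by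
      rw [Subgroup.eq_bot_iff_forall]
      intro y hy
      by_contra hy1
      exact hfree q.out.1 q.out.2.1 q.out.2.2 y.1 y.2 (fun e => hy1 (Subtype.ext e))
        (congrArg Subtype.val hy)
    rw [hbot, Subgroup.card_bot, mul_one] at hq
    rw [← hq]
  obtain ⟨χ, hχA, s, hsS, hsA, hχs⟩ : ∃ χ : G →* ℤˣ, (∀ a ∈ A, χ a = 1) ∧
      ∃ s ∈ (S : Subgroup G), s ∉ A ∧ χ s = -1 := by
    by_cases hcyc : ∃ s ∈ (S : Subgroup G), s ∉ A ∧ orderOf s = Nat.card (S : Subgroup G)
    · obtain ⟨s, hs, hsA, hso⟩ := hcyc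
      let χ : G →* ℤˣ := Equiv.Perm.sign.comp (MulAction.toPermHom G G)
      have hχ : ∀ g : G, g ≠ 1 → χ g = (-1) ^ (Fintype.card G + Fintype.card G / orderOf g) := by
        intro g hg
        have hsupp : (MulAction.toPermHom G G g).support = Finset.univ := by
          ext v; simp [Equiv.Perm.mem_support, hg]
        have := sign_semiregular (MulAction.toPermHom G G g) (orderOf g)
          (by rw [← map_pow, pow_orderOf_eq_one, map_one]) (fun v _ i h => by
            rw [← map_pow] at h
            exact orderOf_dvd_of_pow_eq_one (mul_eq_right.1 h))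
          (lt_of_le_of_ne (orderOf_pos g) (fun e => hg (orderOf_eq_one_iff.1 e.symm)))
        rwa [hsupp, Finset.card_univ] at this
      obtain ⟨j, hj⟩ : Nat.card (S : Subgroup G) ∣ Fintype.card G := by
        rw [← Nat.card_eq_fintype_card]; exact Subgroup.card_subgroup_dvd_card _
      have hjodd : Odd j := by
        rw [← Nat.not_even_iff_odd, even_iff_two_dvd]
        intro h2
        have h3 := S.not_dvd_index
        have h4 := Subgroup.index_mul_card (S : Subgroup G)
        rw [Nat.card_eq_fintype_card (α := G), hj, mul_comm] at h4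
        exact h3 (Nat.eq_of_mul_eq_mul_left Nat.card_pos h4 ▸ h2)
      have hGeven : Even (Fintype.card G) := by
        rw [hj, hS2A, mul_assoc]; exact even_two_mul _
      refine ⟨χ, fun a ha => ?_, s, hs, hsA, ?_⟩
      · by_cases ha1 : a = 1
        · simp [ha1]
        rw [hχ a ha1, pow_add, hGeven.neg_one_pow, one_mul, Even.neg_one_pow]
        have : orderOf a ∣ Nat.card A := by
          have := orderOf_dvd_natCard (⟨a, ha⟩ : A)
          rwa [← Subgroup.orderOf_coe] at this
        obtain ⟨c, hc⟩ := this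
        rw [hj, hS2A, hc, show 2 * (orderOf a * c) * j = orderOf a * (2 * (c * j)) by ring,
          Nat.mul_div_cancel_left _ (orderOf_pos a)]
        exact even_two_mul _
      · rw [hχ s (fun e => hsA (e ▸ one_mem A)), pow_add, hGeven.neg_one_pow, one_mul, hso, hj,
          Nat.mul_div_cancel_left _ Nat.card_pos, hjodd.neg_one_pow]
    push Not at hcyc
    let χ : G →* ℤˣ := Equiv.Perm.sign.comp (MulAction.toPermHom G Ω)
    obtain ⟨m, hm⟩ := hn
    have main : ∀ y ∈ (S : Subgroup G), y ≠ 1 → ∀ h : Equiv.Perm Ω, h α = α → h α' = α' →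
        (∀ w, w ≠ α → w ≠ α' → ∀ i : ℕ, (h ^ i) w = y ^ i • w) → h ^ orderOf y = 1 →
        2 * orderOf y ∣ Nat.card (S : Subgroup G) → Equiv.Perm.sign h = 1 := by
      intro y hy hy1 h h1 h2 hw ho hdvd
      have hsupp : h.support = Finset.univ \ {α, α'} := by
        ext v
        simp only [Equiv.Perm.mem_support, Finset.mem_sdiff, Finset.mem_univ, true_and,
          Finset.mem_insert, Finset.mem_singleton, not_or]
        constructor
        · exact fun hv => ⟨fun e => hv (e ▸ h1), fun e => hv (e ▸ h2)⟩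
        · intro hv e
          have := hw v hv.1 hv.2 1
          rw [pow_one, pow_one, e] at this
          exact hfree v hv.1 hv.2 y hy hy1 this.symm
      have hsc : h.support.card = Fintype.card Ω - 2 := by
        rw [hsupp, Finset.card_sdiff]
        simp [Finset.card_pair hαα]
      have := sign_semiregular h (orderOf y) ho (fun v hv i hi => by
          have hv' : v ≠ α ∧ v ≠ α' := ⟨fun e => hv (e ▸ h1), fun e => hv (e ▸ h2)⟩
          rw [hw v hv'.1 hv'.2] at hi
          by_contra hd
          exact hfree v hv'.1 hv'.2 _ (pow_mem hy i)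
            (fun e => hd (orderOf_dvd_of_pow_eq_one e)) hi)
        (lt_of_le_of_ne (orderOf_pos y) (fun e => hy1 (orderOf_eq_one_iff.1 e.symm)))
      obtain ⟨c, hc⟩ := hdvd
      rw [this, hsc, hm, hc]
      refine Even.neg_one_pow (Even.add ?_ ?_)
      · rw [mul_assoc, mul_assoc]; exact even_two_mul _
      · rw [show 2 * orderOf y * c * m = orderOf y * (2 * (c * m)) by ring,
          Nat.mul_div_cancel_left _ (orderOf_pos y)]
        exact even_two_mul _
    refine ⟨χ, fun a ha => ?_, u, huS, huA, ?_⟩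
    · by_cases ha1 : a = 1
      · simp [ha1]
      refine main a (hAS ha) ha1 _ ((hA a).1 ha).2 (hfA' a ha) (fun w _ _ i => by
        rw [← map_pow]; rfl) (by rw [← map_pow, pow_orderOf_eq_one, map_one]) ?_
      rw [hS2A]
      refine Nat.mul_dvd_mul_left 2 ?_
      have := orderOf_dvd_natCard (⟨a, ha⟩ : A)
      rwa [← Subgroup.orderOf_coe] at this
    · have hu1 : u ≠ 1 := fun e => huA (e ▸ one_mem A)
      have huα' : u • α' = α := by
        rcases hα'pair u huS with e | e
        · exact e
        · exact absurd (smul_left_cancel u (e.trans hα'.symm)) hαα.symm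
      set P := MulAction.toPermHom G Ω u with hP
      have Pα : P α = α' := hα'
      have Pα' : P α' = α := huα'
      have hcomm : Commute P (Equiv.swap α α') := by
        show P * Equiv.swap α α' = _
        rw [Equiv.mul_swap_eq_swap_mul, Pα, Pα', Equiv.swap_comm]
      have hev : 2 ∣ orderOf u := by
        obtain ⟨i, hi, hi2⟩ := (Nat.dvd_prime_pow Nat.prime_two).1 (hk ▸ ordS u huS)
        rcases i with _ | i
        · exact absurd (orderOf_eq_one_iff.1 (by simpa using hi2)) hu1
        · rw [hi2, pow_succ]; exact dvd_mul_left _ _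
      have key := main u huS hu1 (P * Equiv.swap α α') ?_ ?_ ?_ ?_ ?_
      · have : χ u * -1 = 1 := by
          rwa [map_mul, Equiv.Perm.sign_swap hαα] at key
        rcases Int.units_eq_one_or (χ u) with e | e
        · rw [e] at this; exact absurd this (by decide)
        · exact e
      · simp [Equiv.Perm.mul_apply, Pα']
      · simp [Equiv.Perm.mul_apply, Pα]
      · intro w hw1 hw2 i
        rw [hcomm.mul_pow, Equiv.Perm.mul_apply]
        have : (Equiv.swap α α' ^ i) w = w :=
          Equiv.Perm.pow_apply_eq_self_of_apply_eq_self (Equiv.swap_apply_of_ne_of_ne hw1 hw2) i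
        rw [this, hP, ← map_pow]; rfl
      · obtain ⟨c, hc⟩ := hev
        rw [hcomm.mul_pow, hP, ← map_pow, pow_orderOf_eq_one, map_one, one_mul, hc, pow_mul,
          pow_two, Equiv.swap_mul_self, one_pow]
      · obtain ⟨i, hi, hi2⟩ := (Nat.dvd_prime_pow Nat.prime_two).1 (hk ▸ ordS u huS)
        have hne := hcyc u huS huA
        rw [hk, hi2] at hne
        have hik : i + 1 ≤ k := by
          rcases hi.lt_or_eq with h | h
          · exact h
          · exact absurd (by rw [h]) hne
        rw [hk, hi2, ← pow_succ']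
        exact pow_dvd_pow 2 hik
  let N := χ.ker
  have hNidx : N.index = 2 := by
    rw [Subgroup.index_ker]
    have : χ.range = ⊤ := by
      refine eq_top_iff.2 fun z _ => ?_
      rcases Int.units_eq_one_or z with rfl | rfl
      · exact ⟨1, map_one χ⟩
      · exact ⟨s, hχs⟩
    rw [this, Subgroup.card_top, Nat.card_eq_fintype_card, Fintype.card_units_int]
  have hAN : A ≤ N := fun a ha => hχA a ha
  have hNs : ∀ g : G, g ∈ N ∨ g * s ∈ N := by
    intro g
    rcases Int.units_eq_one_or (χ g) with h | h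
    · exact .inl h
    · right
      show χ (g * s) = 1
      rw [map_mul, h, hχs]; decide
  have hsα : s • α = α' := (hSpair s hsS).resolve_left fun h => hsA ((hA s).2 ⟨hsS, h⟩)
  let H : Subgroup N := MulAction.stabilizer N α
  have hcardN : Nat.card N * 2 = Nat.card G := by
    rw [← hNidx, mul_comm]; exact Subgroup.index_mul_card N
  obtain ⟨j, hjodd, hNj⟩ : ∃ j, Odd j ∧ Nat.card N = Nat.card A * j := by
    refine ⟨(S : Subgroup G).index, ?_, ?_⟩
    · rw [← Nat.not_even_iff_odd, even_iff_two_dvd]; exact S.not_dvd_index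
    · have := Subgroup.index_mul_card (S : Subgroup G)
      rw [hS2A, ← hcardN] at this
      linarith
  let O1 := MulAction.orbit N α
  have hO1odd : Odd (Nat.card O1) := by
    have h1 := Subgroup.card_eq_card_quotient_mul_card_subgroup H
    rw [← Nat.card_congr (MulAction.orbitEquivQuotientStabilizer N α), hNj] at h1
    have h2 : Nat.card A ∣ Nat.card H := by
      rw [← Nat.card_congr (Subgroup.subgroupOfEquivOfLe hAN).toEquiv]
      exact Subgroup.card_dvd_of_le fun a ha => ((hA _).1 (Subgroup.mem_subgroupOf.1 ha)).2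
    obtain ⟨c, hc⟩ := h2
    rw [hc, ← mul_assoc, mul_comm _ (Nat.card A), mul_assoc] at h1
    have := Nat.eq_of_mul_eq_mul_left Nat.card_pos h1
    rw [this] at hjodd
    exact (Nat.odd_mul.1 hjodd).1
  haveI hNn : N.Normal := inferInstance
  have hcover : ∀ w : Ω, w ∈ O1 ∨ s⁻¹ • w ∈ O1 := by
    intro w
    obtain ⟨g, rfl⟩ := MulAction.exists_smul_eq G α w
    rcases hNs g with h | h
    · exact .inl ⟨⟨g, h⟩, rfl⟩
    · right
      refine ⟨⟨s⁻¹ * g, ?_⟩, (mul_smul s⁻¹ g α)⟩
      show χ (s⁻¹ * g) = 1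
      have h' : χ g * χ s = 1 := by rw [← map_mul]; exact h
      rw [map_mul, map_inv, hχs]
      rw [hχs] at h'
      rcases Int.units_eq_one_or (χ g) with e | e <;> rw [e] at h' ⊢ <;> simp_all
  have hΩev : Even (Fintype.card Ω) := by
    have h2 : 2 ≤ Fintype.card Ω := by
      rw [← Finset.card_pair hαα]; exact Finset.card_le_univ _
    obtain ⟨c, hc⟩ := hn
    rw [hS2A, mul_assoc] at hc
    exact ⟨Nat.card A * c + 1, by omega⟩
  have hcompl : ∀ w : Ω, w ∉ O1 ↔ s⁻¹ • w ∈ O1 := by
    have hα'O : α' ∉ O1 := by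
      intro h
      have hall : ∀ w : Ω, w ∈ O1 := by
        intro w
        rcases hcover w with h' | ⟨⟨n, hn'⟩, hw⟩
        · exact h'
        · obtain ⟨⟨n', hn''⟩, hh⟩ := h
          refine ⟨⟨s * n * s⁻¹ * n', mul_mem (hNn.conj_mem n hn' s) hn''⟩, ?_⟩
          show (s * n * s⁻¹ * n') • α = w
          rw [mul_smul, show n' • α = α' from hh, ← hsα, smul_smul,
            show s * n * s⁻¹ * s = s * n by group, mul_smul,
            show n • α = s⁻¹ • w from hw, smul_inv_smul]
      have : Nat.card O1 = Fintype.card Ω := by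
        rw [← Nat.card_eq_fintype_card]
        exact Nat.card_congr (Equiv.subtypeUnivEquiv hall)
      rw [this] at hO1odd
      exact (Nat.not_even_iff_odd.2 hO1odd) hΩev
    intro w
    refine ⟨fun h => (hcover w).resolve_left h, fun h h' => hα'O ?_⟩
    obtain ⟨⟨n, hn'⟩, hh⟩ := h
    obtain ⟨⟨n', hn''⟩, hh'⟩ := h'
    refine ⟨⟨(s * n * s⁻¹)⁻¹ * n', mul_mem (inv_mem (hNn.conj_mem n hn' s)) hn''⟩, ?_⟩
    show ((s * n * s⁻¹)⁻¹ * n') • α = α'
    rw [mul_smul, show n' • α = w from hh', inv_smul_eq_iff, ← hsα, smul_smul,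
      show s * n * s⁻¹ * s = s * n by group, mul_smul, show n • α = s⁻¹ • w from hh, smul_inv_smul]
  refine ⟨N, hNn, .inl hNidx, H, ?_, ?_, ?_⟩
  · intro h
    have : (⟨x0, hAN hx0A⟩ : N) ∈ H := ((hA x0).1 hx0A).2
    rw [h, Subgroup.mem_bot] at this
    exact hx01 (congrArg Subtype.val this)
  · intro h
    have hO : ∀ w ∈ O1, w = α := by
      rintro _ ⟨n, rfl⟩
      exact (h ▸ Subgroup.mem_top n : n ∈ H)
    have hall : ∀ w : Ω, w = α ∨ w = α' := by
      intro w
      rcases hcover w with h' | h'
      · exact .inl (hO w h')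
      · right; rw [← hsα]; exact inv_smul_eq_iff.1 (hO _ h')
    have : ∀ a ∈ A, a = 1 := fun a ha => FaithfulSMul.eq_of_smul_eq_smul (α := Ω) fun w => by
      rw [one_smul]
      rcases hall w with rfl | rfl
      · exact ((hA a).1 ha).2
      · exact hfA' a ha
    exact hA1 (A.eq_bot_iff_forall.2 this)
  intro g hg
  rw [Subgroup.eq_bot_iff_forall]
  intro x hx
  obtain ⟨hx1, hx2⟩ := Subgroup.mem_inf.1 hx
  by_contra hx0
  have hxβ : (x : G) • (g : G) • α = (g : G) • α := by
    rw [Subgroup.mem_pointwise_smul_iff_inv_smul_mem] at hx2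
    have h3 : ((g⁻¹ * x * g : N)) • α = α := by
      have h4 : g⁻¹ * x * g ∈ H := by simpa [MulAut.smul_def] using hx2
      exact h4
    calc (x : G) • (g : G) • α = (g : G) • ((g⁻¹ * x * g : N) • α) := by
          simp [Subgroup.smul_def, smul_smul, mul_assoc]
      _ = (g : G) • α := by rw [h3]
  have hne : (g : G) • α ≠ α := hg
  obtain ⟨r, hr, hrd⟩ := Nat.exists_prime_and_dvd (n := orderOf x) (fun e => hx0 (orderOf_eq_one_iff.1 e))
  haveI : Fact r.Prime := ⟨hr⟩
  obtain ⟨i, hi⟩ : ∃ i, orderOf (x ^ i) = r :=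
    ⟨orderOf x / r, orderOf_pow_orderOf_div (orderOf_pos x).ne' hrd⟩
  set y := x ^ i with hy
  have hy1 : (y : G) ≠ 1 := fun e => by
    have : y = 1 := Subtype.ext e
    rw [this, orderOf_one] at hi
    exact hr.one_lt.ne' hi.symm
  have hyfix : ∀ w : Ω, (x : G) • w = w → (y : G) • w = w := fun w hw => by
    rw [hy, Subgroup.coe_pow, ← MulAction.mem_stabilizer_iff]
    exact pow_mem (MulAction.mem_stabilizer_iff.2 hw) i
  have hyα : (y : G) • α = α := hyfix α hx1
  have hyβ : (y : G) • (g : G) • α = (g : G) • α := hyfix _ hxβ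
  have hβO : (g : G) • α ∈ O1 := ⟨g, rfl⟩
  have hfixy : ∀ w, (y : G) • w = w → w ∈ O1 := fun w hw => by
    by_contra h
    refine three hy1 hne.symm (fun e => h ?_) (fun e => h ?_) hyα hyβ hw
    · rw [← e]; exact MulAction.mem_orbit_self α
    · rw [← e]; exact hβO
  by_cases hr2 : r = 2
  · subst hr2
    have hyp : IsPGroup 2 (Subgroup.zpowers y) :=
      IsPGroup.of_card (n := 1) (by rw [Nat.card_zpowers, hi, pow_one])
    obtain ⟨P, hP⟩ := hyp.exists_le_sylow
    have hcardA : Nat.card (A.subgroupOf N) = 2 ^ (Nat.card N).factorization 2 := by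
      rw [Nat.card_congr (Subgroup.subgroupOfEquivOfLe hAN).toEquiv, hNj]
      obtain ⟨e, he⟩ := IsPGroup.iff_card.1 (hSp.to_le hAS)
      rw [he, Nat.factorization_mul (by positivity) (by rintro rfl; simp at hjodd),
        Finsupp.add_apply, Nat.Prime.factorization_pow Nat.prime_two, Finsupp.single_eq_same,
        Nat.factorization_eq_zero_of_not_dvd (fun h => (Nat.not_even_iff_odd.2 hjodd) (even_iff_two_dvd.2 h)), add_zero]
    let Q : Sylow 2 N := Sylow.ofCard (A.subgroupOf N) hcardA
    obtain ⟨n, hn'⟩ := MulAction.exists_smul_eq N P Q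
    have hmem : n * y * n⁻¹ ∈ A.subgroupOf N := by
      have h1 : MulAut.conj n y ∈ ((n • P : Sylow 2 N) : Subgroup N) := by
        rw [Sylow.coe_subgroup_smul]
        exact Subgroup.smul_mem_pointwise_smul _ _ _ (hP (Subgroup.mem_zpowers y))
      rw [hn'] at h1
      exact h1
    rw [Subgroup.mem_subgroupOf] at hmem
    have h1 : (y : G) • ((n : G)⁻¹ • α') = (n : G)⁻¹ • α' := by
      have := hfA' _ hmem
      simp only [Subgroup.coe_mul, Subgroup.coe_inv] at this
      rw [← smul_smul, ← smul_smul] at this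
      exact eq_inv_smul_iff.2 this
    have h2 : α' ∈ O1 := by
      obtain ⟨m, hm⟩ := hfixy _ h1
      exact ⟨n * m, by
        show ((n : G) * (m : G)) • α = α'
        rw [mul_smul, show (m : G) • α = (n : G)⁻¹ • α' from hm, smul_inv_smul]⟩
    refine ((hcompl α').2 ?_) h2
    rw [← hsα, inv_smul_smul]; exact MulAction.mem_orbit_self α
  · let P : Equiv.Perm Ω := MulAction.toPerm (y : G)
    have hmapO : ∀ w, w ∈ O1 ↔ P w ∈ O1 := fun w =>
      ⟨fun h => MulAction.mem_orbit_of_mem_orbit y h, fun h => by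
        have := MulAction.mem_orbit_of_mem_orbit y⁻¹ h
        simpa [P, Subgroup.smul_def] using this⟩
    let P1 : Equiv.Perm {w // w ∈ O1} := P.subtypePerm (fun w => (hmapO w).symm)
    let P2 : Equiv.Perm {w // w ∉ O1} := P.subtypePerm (fun w => not_congr (hmapO w).symm)
    have hPr : P ^ r ^ 1 = 1 := by
      ext w
      show ((MulAction.toPermHom G Ω (y : G)) ^ r ^ 1) w = w
      rw [← map_pow, pow_one, ← Subgroup.coe_pow, ← hi, pow_orderOf_eq_one]
      simp
    have e1 := Equiv.Perm.card_compl_support_modEq (σ := P1) (p := r) (n := 1) (by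
      ext w; simp [P1, Equiv.Perm.subtypePerm_pow, show P ^ r = 1 by simpa using hPr])
      
    have e2 := Equiv.Perm.card_compl_support_modEq (σ := P2) (p := r) (n := 1) (by
      ext w; simp [P2, Equiv.Perm.subtypePerm_pow, show P ^ r = 1 by simpa using hPr])
      
    have c1 : P1.supportᶜ.card = 2 := by
      rw [show P1.supportᶜ = ({⟨α, MulAction.mem_orbit_self α⟩, ⟨(g : G) • α, hβO⟩} : Finset _) from ?_]
      · exact Finset.card_pair fun e => hne (congrArg Subtype.val e).symm
      · ext ⟨w, hw⟩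
        simp only [Finset.mem_compl, Equiv.Perm.mem_support, not_not, Finset.mem_insert,
          Finset.mem_singleton, Subtype.ext_iff, P1, Equiv.Perm.subtypePerm_apply, P,
          MulAction.toPerm_apply]
        constructor
        · intro h
          by_contra hh
          push Not at hh
          exact three hy1 hne.symm hh.1.symm hh.2.symm hyα hyβ h
        · rintro (rfl | rfl) <;> assumption
    have c2 : P2.supportᶜ.card = 0 := by
      rw [Finset.card_eq_zero, Finset.eq_empty_iff_forall_notMem]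
      rintro ⟨w, hw⟩ h
      simp only [Finset.mem_compl, Equiv.Perm.mem_support, not_not, Subtype.ext_iff, P2,
        Equiv.Perm.subtypePerm_apply, P, MulAction.toPerm_apply] at h
      exact hw (hfixy w h)
    have c3 : Fintype.card {w // w ∉ O1} = Fintype.card {w // w ∈ O1} :=
      Fintype.card_congr
        { toFun := fun w => ⟨s⁻¹ • w.1, (hcompl w.1).1 w.2⟩
          invFun := fun w => ⟨s • w.1, (hcompl _).2 (by rw [inv_smul_smul]; exact w.2)⟩
          left_inv := fun w => Subtype.ext (smul_inv_smul s w.1)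
          right_inv := fun w => Subtype.ext (inv_smul_smul s w.1) }
    rw [c2, c3] at e2
    rw [c1] at e1
    have := (e1.trans e2.symm)
    rw [Nat.modEq_zero_iff_dvd] at this
    exact hr2 ((Nat.prime_dvd_prime_iff_eq hr Nat.prime_two).1 this)

end Cfsg.Agent.S3390
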