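import Cfsg.Statements.S3412
import Cfsg.Agent.Lib.CommGraphL33Plane

set_option autoImplicit false
open Cfsg

namespace Cfsg.Agent.S3412

/-- Let H be a finite group whose commuting graph (vertices the non-identity elements, two joined when they commute) is isomorphic to that of PSL_3(3): there is a bijection between the non-identity elements of H and of PSL_3(3) under which two elements commute exactly when their images do. Then H ≅ PSL_3(3). -/
theorem result {H : Type*} [Group H] [Finite H]
    (f : {h : H // h ≠ 1} ≃ {g : Matrix.ProjectiveSpecialLinearGroup (Fin 3) (ZMod 3) // g ≠ 1})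
    (hf : ∀ x y : {h : H // h ≠ 1}, (x : H) * y = y * x ↔ ((f x) : Matrix.ProjectiveSpecialLinearGroup (Fin 3) (ZMod 3)) * (f y) = (f y) * (f x)) :
    Nonempty (H ≃* Matrix.ProjectiveSpecialLinearGroup (Fin 3) (ZMod 3)) := by
  classical
  let q := CommGraphL33.projEquiv
  let g : {h : H // h ≠ 1} ≃ {x : CommGraphL33.S // x ≠ 1} :=
    f.trans (q.toEquiv.subtypeEquiv fun x => not_congr (q.map_eq_one_iff).symm).symm
  have hg : ∀ x, q ((g x).1) = (f x).1 := fun x => q.apply_symm_apply _
  let D : CommGraphL33.GI H :=
    { e :=
        { toFun := fun x => if h : x = 1 then 1 else (g ⟨x, h⟩).1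
          invFun := fun y => if h : y = 1 then 1 else (g.symm ⟨y, h⟩).1
          left_inv := fun x => by
            by_cases h : x = 1
            · simp [h]
            · simp only [dif_neg h, dif_neg (g ⟨x, h⟩).2, Subtype.coe_eta, Equiv.symm_apply_apply]
          right_inv := fun y => by
            by_cases h : y = 1
            · simp [h]
            · simp only [dif_neg h, dif_neg (g.symm ⟨y, h⟩).2, Subtype.coe_eta,
                Equiv.apply_symm_apply] }
      one := by simp
      comm := fun x y => by
        by_cases hx : x = 1
        · simp [hx]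
        by_cases hy : y = 1
        · simp [hy]
        simp only [Equiv.coe_fn_mk, dif_neg hx, dif_neg hy]
        refine (hf ⟨x, hx⟩ ⟨y, hy⟩).trans ?_
        rw [← hg, ← hg, ← map_mul, ← map_mul, q.injective.eq_iff]
        rfl }
  obtain ⟨k⟩ := D.iso
  exact ⟨k.trans q⟩

end Cfsg.Agent.S3412
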