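import Cfsg.Agent.S2490
import Cfsg.Agent.S0420
import Cfsg.Agent.Lib.M11Order91Base
import Cfsg.Agent.Lib.GolaySimple
import Cfsg.Statements.S3413
-- import your own Cfsg.Agent.* helpers here

set_option autoImplicit false
open Cfsg

namespace Cfsg.Agent.S3413

theorem centralizer_card_eq {H M : Type*} [Group H] [Finite H] [Group M] [Finite M]
    (f : {h : H // h ≠ 1} ≃ {g : M // g ≠ 1})
    (hf : ∀ x y : {h : H // h ≠ 1}, (x : H) * y = y * x ↔ ((f x) : M) * (f y) = (f y) * (f x))
    (x : {h : H // h ≠ 1}) :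
    Nat.card ↥(Subgroup.centralizer ({(x : H)} : Set H)) =
      Nat.card ↥(Subgroup.centralizer ({((f x) : M)} : Set M)) := by
  classical
  let E : H ≃ M := (Equiv.optionSubtypeNe (1 : H)).symm.trans
    ((Equiv.optionCongr f).trans (Equiv.optionSubtypeNe (1 : M)))
  have h1 : E 1 = 1 := by simp [E]
  have hE : ∀ y : {h : H // h ≠ 1}, E y = f y := fun y => by simp [E, y.2]
  refine Nat.card_congr (E.subtypeEquiv fun y => ?_)
  rw [Subgroup.mem_centralizer_singleton_iff, Subgroup.mem_centralizer_singleton_iff]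
  by_cases hy : y = 1
  · subst hy; simp [h1]
  · rw [show E y = (f ⟨y, hy⟩ : M) from hE ⟨y, hy⟩]
    exact hf ⟨y, hy⟩ x

/-- Let H be a finite group whose commuting graph (vertices the non-identity elements, two joined when they commute) is isomorphic to that of the Mathieu group M_11: there is a bijection between the non-identity elements of H and of M_11 under which two elements commute exactly when their images do. Then H ≅ M_11. -/
theorem result {H : Type*} [Group H] [Finite H]
    (f : {h : H // h ≠ 1} ≃ {g : ↥Cfsg.Spor.M11 // g ≠ 1})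
    (hf : ∀ x y : {h : H // h ≠ 1}, (x : H) * y = y * x ↔ ((f x) : ↥Cfsg.Spor.M11) * (f y) = (f y) * (f x)) :
    Nonempty (H ≃* ↥Cfsg.Spor.M11) := by
  classical
  have hM : Nat.card ↥Cfsg.Spor.M11 = 7920 := Cfsg.Agent.GolayM24.card_M11
  haveI : IsSimpleGroup ↥Cfsg.Spor.M11 := Cfsg.Agent.GolaySimple.isSimpleGroup_M11
  haveI := Fact.mk (show Nat.Prime 11 by norm_num)
  haveI : Finite {h : H // h ≠ 1} := inferInstance
  have hH : Nat.card H = 7920 := by
    rw [← hM, Nat.card_congr (Equiv.optionSubtypeNe (1 : H)).symm,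
      Nat.card_congr (Equiv.optionSubtypeNe (1 : ↥Cfsg.Spor.M11)).symm,
      Nat.card_congr (Equiv.optionCongr f)]
  obtain ⟨g, hg⟩ := exists_prime_orderOf_dvd_card' (G := ↥Cfsg.Spor.M11) 11 (by rw [hM]; norm_num)
  have hg1 : g ≠ 1 := fun e => by rw [e, orderOf_one] at hg; norm_num at hg
  set x := f.symm ⟨g, hg1⟩
  have hx : Nat.card ↥(Subgroup.centralizer ({(x : H)} : Set H)) = 11 := by
    rw [centralizer_card_eq f hf, Equiv.apply_symm_apply]
    exact Cfsg.Agent.M11Order91.card_centralizer_eleven hM hg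
  set C := Subgroup.centralizer ({(x : H)} : Set H) with hC
  have hS : Nat.card C = 11 ^ (Nat.card H).factorization 11 := by
    rw [hx, hH, show (7920 : ℕ) = 720 * 11 from rfl, Nat.factorization_mul (by norm_num) (by norm_num)]
    simp [Nat.factorization_eq_zero_of_not_dvd (show ¬ 11 ∣ 720 by norm_num),
      Nat.Prime.factorization_self (show Nat.Prime 11 by norm_num)]
  have hsimple : IsSimpleGroup H := by
    refine Cfsg.Agent.S2490.result hH ⟨{11}, ⟨11, rfl, by norm_num, by rw [hH]; norm_num⟩,
      ⟨2, by norm_num, Nat.prime_two, by rw [hH]; norm_num⟩, ?_⟩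
    rintro a ha b hb - hbp - - ⟨y, hy⟩
    rw [Set.mem_singleton_iff] at ha
    subst ha
    rw [Set.mem_singleton_iff] at hb
    have hu : orderOf (y ^ b) = 11 := by
      rw [orderOf_pow_of_dvd hbp.ne_zero (by rw [hy]; exact dvd_mul_left b 11), hy,
        Nat.mul_div_cancel _ hbp.pos]
    obtain ⟨P, hP⟩ := (IsPGroup.of_card (G := ↥(Subgroup.zpowers (y ^ b))) (p := 11) (n := 1)
      (by rw [Nat.card_zpowers, hu, pow_one])).exists_le_sylow
    obtain ⟨c, hc⟩ := MulAction.exists_smul_eq H P (Sylow.ofCard C hS)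
    set z := c * y ^ b * c⁻¹
    have hz : z ∈ C := by
      have : z ∈ ((c • P : Sylow 11 H) : Subgroup H) := by
        rw [Sylow.coe_subgroup_smul, Subgroup.mem_pointwise_smul_iff_inv_smul_mem]
        have h2 := hP (Subgroup.mem_zpowers (y ^ b))
        show (MulAut.conj c)⁻¹ • z ∈ (P : Subgroup H)
        have e : (MulAut.conj c)⁻¹ • z = y ^ b := by
          show (MulAut.conj c).symm z = y ^ b
          rw [MulAut.conj_symm_apply]; simp only [z]; group
        rw [e]; exact h2
      rw [hc, Sylow.coe_ofCard] at this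
      exact this
    have hzo : orderOf z = 11 := by
      rw [← hu]; exact MulEquiv.orderOf_eq (MulAut.conj c) (y ^ b)
    have hzC : Subgroup.zpowers z = C := Subgroup.eq_of_le_of_card_ge (Subgroup.zpowers_le.mpr hz)
      (by rw [hx, Nat.card_zpowers, hzo])
    have hmem : c * y * c⁻¹ ∈ C := by
      rw [hC, Subgroup.mem_centralizer_singleton_iff]
      have hcz : Commute (c * y * c⁻¹) z := by
        have hh := ((Commute.refl y).pow_right b).map (MulAut.conj c).toMonoidHom
        simpa [z] using hh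
      have hxC : (x : H) ∈ Subgroup.zpowers z := by
        rw [hzC, hC, Subgroup.mem_centralizer_singleton_iff]
      obtain ⟨k, hk⟩ := Subgroup.mem_zpowers_iff.mp hxC
      rw [← hk]; exact (hcz.zpow_right k).eq
    have hd := Subgroup.orderOf_dvd_natCard C hmem
    have ho : orderOf (c * y * c⁻¹) = 11 * b := by
      rw [← hy]; exact MulEquiv.orderOf_eq (MulAut.conj c) y
    rw [ho, hx] at hd
    have := Nat.le_of_dvd (by norm_num) hd
    have := hbp.two_le
    omega
  obtain ⟨e⟩ := Cfsg.Agent.S0420.result (G := H) ⟨hsimple, hH⟩ Cfsg.Spor.squareDodecad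
    Cfsg.Agent.GolayM24.squareDodecad_mem (some 0 : Cfsg.GolayPt) (by decide +kernel)
  exact ⟨e.trans (Cfsg.Agent.GolayStab.stabDodecadPointEquiv Cfsg.Agent.GolayM24.squareDodecad_mem
    (by decide +kernel)).symm⟩

end Cfsg.Agent.S3413
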