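import Mathlib

set_option autoImplicit false

namespace Cfsg.Agent.S3443

theorem result {G : Type*} [Group G] [Finite G] (V : Subgroup G) [V.Normal] (p : ℕ) (hp : p.Prime)
    (hcomm : ∀ x y : V, x * y = y * x) (hexp : ∀ x : V, x ^ p = 1) :
    Set.range (orderOf : V ⋊[MulAut.conjNormal] G → ℕ) = Set.range (orderOf : G → ℕ) := by
  let ψ : V ⋊[MulAut.conjNormal] G →* G :=
    SemidirectProduct.lift V.subtype (MonoidHom.id G) (fun g => by
      ext v
      simp)
  let φ : V ⋊[MulAut.conjNormal] G →* G × G := ψ.prod SemidirectProduct.rightHom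
  have hφ : Function.Injective φ := by
    intro x y hxy
    have h1 : (x.left : G) * x.right = (y.left : G) * y.right := congrArg Prod.fst hxy
    have h2 : x.right = y.right := congrArg Prod.snd hxy
    ext
    · rw [h2] at h1; exact mul_right_cancel h1
    · exact h2
  have key : ∀ (a : G), ∃ k, k ∣ p ∧ orderOf a = orderOf (QuotientGroup.mk' V a) * k := by
    intro a
    set m := orderOf (QuotientGroup.mk' V a) with hm
    have hmd : m ∣ orderOf a := orderOf_map_dvd _ a
    obtain ⟨k, hk⟩ := hmd
    refine ⟨k, ?_, hk⟩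
    have hmem : a ^ m ∈ V := by
      rw [← QuotientGroup.eq_one_iff]
      have := pow_orderOf_eq_one (QuotientGroup.mk' V a)
      rw [← hm, ← map_pow] at this
      exact this
    have : a ^ (m * p) = 1 := by
      rw [pow_mul]
      have hv := congrArg Subtype.val (hexp ⟨a ^ m, hmem⟩)
      simpa using hv
    have hd := orderOf_dvd_of_pow_eq_one this
    rw [hk] at hd
    have hm0 : 0 < m := orderOf_pos _
    exact Nat.dvd_of_mul_dvd_mul_left hm0 hd
  ext n
  constructor
  · rintro ⟨x, rfl⟩
    rw [← orderOf_injective φ hφ x, Prod.orderOf]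
    have hq : QuotientGroup.mk' V (φ x).1 = QuotientGroup.mk' V (φ x).2 := by
      show QuotientGroup.mk' V ((x.left : G) * x.right) = QuotientGroup.mk' V x.right
      rw [map_mul]
      have : QuotientGroup.mk' V (x.left : G) = 1 := (QuotientGroup.eq_one_iff _).2 x.left.2
      rw [this, one_mul]
    obtain ⟨k, hk, ha⟩ := key (φ x).1
    obtain ⟨l, hl, hb⟩ := key (φ x).2
    rw [hq] at ha
    rcases (Nat.dvd_prime hp).1 hk with rfl | rfl
    · refine ⟨(φ x).2, ?_⟩
      rw [ha, hb]
      exact (Nat.lcm_eq_right (Nat.mul_dvd_mul_left _ (one_dvd l))).symm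
    · refine ⟨(φ x).1, ?_⟩
      rw [ha, hb]
      exact (Nat.lcm_eq_left (Nat.mul_dvd_mul_left _ hl)).symm
  · rintro ⟨g, rfl⟩
    exact ⟨SemidirectProduct.inr g, orderOf_injective _ SemidirectProduct.inr_injective g⟩

end Cfsg.Agent.S3443
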