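import Mathlib
import Cfsg.Agent.S3443

set_option autoImplicit false

namespace Cfsg.Agent.S3444

open commutatorElement

/-- A nontrivial solvable normal subgroup contains a nontrivial normal abelian subgroup of prime exponent. -/
lemma exists_normal_elab {G : Type*} [Group G] [Finite G] (K : Subgroup G) [K.Normal] (hK : K ≠ ⊥)
    (hs : Group.IsSolvable K) :
    ∃ (V : Subgroup G) (p : ℕ), V.Normal ∧ V ≠ ⊥ ∧ p.Prime ∧
      (∀ x y : V, x * y = y * x) ∧ (∀ x : V, x ^ p = 1) := by
  -- the derived series of K, mapped into G, reaches ⊥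
  obtain ⟨n, hn⟩ := hs.solvable
  let D : ℕ → Subgroup G := fun i => (derivedSeries K i).map K.subtype
  have hDn : D n = ⊥ := by simp [D, hn]
  have hD0 : D 0 ≠ ⊥ := by
    simp only [D, derivedSeries_zero, ← MonoidHom.range_eq_map, Subgroup.range_subtype]
    exact hK
  classical
  let i := Nat.find (⟨n, hDn⟩ : ∃ i, D i = ⊥)
  have hi : D i = ⊥ := Nat.find_spec (⟨n, hDn⟩ : ∃ i, D i = ⊥)
  obtain ⟨j, hj⟩ : ∃ j, i = j + 1 := by
    rcases Nat.eq_zero_or_pos i with h | h
    · exact absurd (h ▸ hi) hD0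
    · exact ⟨i - 1, by omega⟩
  have hAne : D j ≠ ⊥ := Nat.find_min (⟨n, hDn⟩ : ∃ i, D i = ⊥) (show j < i by omega)
  haveI hchar : ∀ k, (derivedSeries K k).Characteristic := fun k => derivedSeries_characteristic K k
  have hAn : (D j).Normal := ConjAct.normal_of_characteristic_of_normal
  have hcomm : ∀ x ∈ D j, ∀ y ∈ D j, x * y = y * x := by
    rintro x ⟨a, ha, rfl⟩ y ⟨b, hb, rfl⟩
    have : (⁅a, b⁆ : K) ∈ derivedSeries K (j + 1) := by
      rw [derivedSeries_succ]; exact Subgroup.commutator_mem_commutator ha hb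
    have h1 : K.subtype ⁅a, b⁆ ∈ D (j + 1) := Subgroup.mem_map_of_mem _ this
    rw [← hj, hi, Subgroup.mem_bot, map_commutatorElement] at h1
    exact commutatorElement_eq_one_iff_mul_comm.1 h1
  obtain ⟨p, hp, hpd⟩ := Nat.exists_prime_and_dvd
    (fun h => hAne (Subgroup.card_eq_one.1 h) : Nat.card (D j) ≠ 1)
  haveI := Fact.mk hp
  obtain ⟨x, hx⟩ := exists_prime_orderOf_dvd_card' p hpd
  let V : Subgroup G :=
    { carrier := {g | g ∈ D j ∧ g ^ p = 1}
      one_mem' := ⟨one_mem _, one_pow _⟩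
      mul_mem' := by
        rintro a b ⟨ha, ha'⟩ ⟨hb, hb'⟩
        exact ⟨mul_mem ha hb, by rw [Commute.mul_pow (hcomm a ha b hb), ha', hb', one_mul]⟩
      inv_mem' := by
        rintro a ⟨ha, ha'⟩
        exact ⟨inv_mem ha, by rw [inv_pow, ha', inv_one]⟩ }
  refine ⟨V, p, ?_, ?_, hp, ?_, ?_⟩
  · constructor
    rintro a ⟨ha, ha'⟩ g
    exact ⟨hAn.conj_mem a ha g, by rw [conj_pow, ha', mul_one, mul_inv_cancel]⟩
  · intro h
    have hxm : (x : G) ∈ V := by
      refine ⟨x.2, ?_⟩
      rw [← SubmonoidClass.coe_pow, ← hx, pow_orderOf_eq_one]; rfl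
    rw [h, Subgroup.mem_bot] at hxm
    have : x = 1 := Subtype.ext hxm
    rw [this, orderOf_one] at hx
    exact hp.one_lt.ne hx
  · rintro ⟨a, ha, ha'⟩ ⟨b, hb, hb'⟩
    exact Subtype.ext (hcomm a ha b hb)
  · rintro ⟨a, ha, ha'⟩
    exact Subtype.ext ha'

theorem result {G : Type*} [Group G] [Finite G] (K : Subgroup G) [K.Normal] (hK : K ≠ ⊥)
    (hs : Group.IsSolvable K) (N : ℕ) :
    ∃ (H : Type) (_ : Group H) (_ : Fintype H), N < Fintype.card H ∧ Set.range (orderOf : H → ℕ) = Set.range (orderOf : G → ℕ) := by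
  suffices h : ∀ N : ℕ, ∃ (H : Type) (_ : Group H) (_ : Fintype H),
      N < Fintype.card H ∧ Set.range (orderOf : H → ℕ) = Set.range (orderOf : G → ℕ) ∧
      ∃ (V : Subgroup H) (p : ℕ), V.Normal ∧ V ≠ ⊥ ∧ p.Prime ∧
        (∀ x y : V, x * y = y * x) ∧ (∀ x : V, x ^ p = 1) by
    obtain ⟨H, _, _, h1, h2, _⟩ := h N
    exact ⟨H, _, _, h1, h2⟩
  intro N
  induction N with
  | zero =>
    obtain ⟨m, ⟨e⟩⟩ := Finite.exists_equiv_fin G
    let ρ : G →* Equiv.Perm (Fin m) := (e.permCongrHom).toMonoidHom.comp (MulAction.toPermHom G G)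
    have hρ : Function.Injective ρ := e.permCongrHom.injective.comp MulAction.toPerm_injective
    let f : ρ.range ≃* G := (MonoidHom.ofInjective hρ).symm
    letI : Fintype ρ.range := Fintype.ofFinite _
    obtain ⟨V, p, hVn, hV, hp, hc, he⟩ := exists_normal_elab K hK hs
    refine ⟨ρ.range, inferInstance, inferInstance, ?_, ?_, V.comap f.toMonoidHom, p, hVn.comap _, ?_, hp, ?_, ?_⟩
    · exact Fintype.card_pos
    · ext n
      constructor
      · rintro ⟨x, rfl⟩; exact ⟨f x, f.orderOf_eq x⟩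
      · rintro ⟨x, rfl⟩; exact ⟨f.symm x, f.symm.orderOf_eq x⟩
    · intro h
      apply hV
      rw [Subgroup.eq_bot_iff_forall]
      intro x hx
      have hm : f.symm x ∈ V.comap f.toMonoidHom := by
        simpa using hx
      rw [h, Subgroup.mem_bot] at hm
      simpa using congrArg f hm
    · intro x y
      apply Subtype.ext; apply f.injective
      have := congrArg Subtype.val (hc ⟨f x.1, x.2⟩ ⟨f y.1, y.2⟩)
      simpa only [Subgroup.coe_mul, map_mul] using this
    · intro x
      apply Subtype.ext; apply f.injective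
      have := congrArg Subtype.val (he ⟨f x.1, x.2⟩)
      simpa only [SubmonoidClass.coe_pow, map_pow, Subgroup.coe_one, map_one] using this
  | succ N ih =>
    obtain ⟨H, _, _, hcard, hord, V, p, hVn, hV, hp, hc, he⟩ := ih
    haveI := hVn
    let W := V ⋊[MulAut.conjNormal] H
    haveI : Finite W := Finite.of_equiv _ SemidirectProduct.equivProd.symm
    letI : Fintype W := Fintype.ofFinite _
    refine ⟨W, inferInstance, inferInstance, ?_, ?_, (SemidirectProduct.inl : V →* W).range, p, ?_, ?_, hp, ?_, ?_⟩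
    · have h1 : Fintype.card W = Nat.card V * Fintype.card H := by
        rw [← Nat.card_eq_fintype_card, SemidirectProduct.card, Nat.card_eq_fintype_card (α := H)]
      have h2 : 2 ≤ Nat.card V := by
        have := Subgroup.one_lt_card_iff_ne_bot V
        have := this.2 hV
        omega
      rw [h1]
      nlinarith
    · rw [← hord]
      exact Cfsg.Agent.S3443.result V p hp hc he
    · rw [SemidirectProduct.range_inl_eq_ker_rightHom]; infer_instance
    · intro h
      apply hV
      rw [MonoidHom.range_eq_bot_iff] at h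
      rw [Subgroup.eq_bot_iff_forall]
      intro x hx
      have := DFunLike.congr_fun h ⟨x, hx⟩
      have h' : (⟨x, hx⟩ : V) = 1 := SemidirectProduct.inl_injective (φ := (MulAut.conjNormal : H →* MulAut V))
        (by simpa using this)
      exact congrArg Subtype.val h'
    · rintro ⟨_, a, rfl⟩ ⟨_, b, rfl⟩
      apply Subtype.ext
      simp only [Subgroup.coe_mul]
      rw [← map_mul, ← map_mul, hc]
    · rintro ⟨_, a, rfl⟩
      apply Subtype.ext
      simp only [SubmonoidClass.coe_pow, Subgroup.coe_one]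
      rw [← map_pow, he, map_one]

end Cfsg.Agent.S3444
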