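import Mathlib
import Cfsg.Agent.Lib.TwoPrimes
import Cfsg.Agent.Lib.AltSpectrum
import Cfsg.Agent.S3444

set_option autoImplicit false

namespace Cfsg.Agent.S3419

universe u

/-- A solvable group with `p`-part `p` and `q`-part dividing `q^2` (`q, q^2 ≢ 1 mod p`, `p ≢ 1 mod q`)
has an element whose order is divisible by `p*q`. -/
lemma exists_pq (p q : ℕ) [Fact p.Prime] [Fact q.Prime] (hpq : p ≠ q) (hqp : ¬ q ≡ 1 [MOD p])
    (hqp2 : ¬ q ^ 2 ≡ 1 [MOD p]) (hpq1 : ¬ p ≡ 1 [MOD q]) :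
    ∀ (m : ℕ) (G : Type u) [Group G] [Finite G], Nat.card G = m → Group.IsSolvable G →
      p ∣ m → ¬ p ^ 2 ∣ m → q ∣ m → ¬ q ^ 3 ∣ m → ∃ g : G, p * q ∣ orderOf g := by
  intro m
  induction m using Nat.strong_induction_on with
  | _ m ih =>
    intro G _ _ hm hs hp hp2 hq hq3
    have hnt : (⊤ : Subgroup G) ≠ ⊥ := by
      intro h
      have h1 : Nat.card (⊤ : Subgroup G) = 1 := by rw [h, Subgroup.card_bot]
      rw [Subgroup.card_top, hm] at h1
      exact (Fact.out : p.Prime).ne_one (Nat.dvd_one.1 (h1 ▸ hp))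
    haveI : Group.IsSolvable G := hs
    obtain ⟨V, r, hVn, hV, hr, hc, he⟩ := Cfsg.Agent.S3444.exists_normal_elab (⊤ : Subgroup G) hnt inferInstance
    haveI := hVn
    haveI := Fact.mk hr
    have hVp : IsPGroup r V := fun x => ⟨1, by rw [pow_one]; exact he x⟩
    obtain ⟨k, hk⟩ := IsPGroup.iff_card.1 hVp
    have hk0 : k ≠ 0 := by
      rintro rfl
      exact hV (Subgroup.card_eq_one.1 (by simpa using hk))
    have hVd : r ^ k ∣ m := hk ▸ hm ▸ Subgroup.card_subgroup_dvd_card V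
    by_cases hrp : r = p
    · subst hrp
      have hk1 : k = 1 := by
        by_contra h
        exact hp2 ((pow_dvd_pow r (by omega : 2 ≤ k)).trans hVd)
      obtain ⟨g, hg⟩ := Cfsg.Agent.AltSpectrum.exists_dvd_orderOf (Ne.symm hpq) V hVp
        (by rw [hk, hk1, pow_one]; exact hpq1) (hm ▸ hq)
      exact ⟨g, by rwa [mul_comm] at hg⟩
    by_cases hrq : r = q
    · subst hrq
      have hk2 : k ≤ 2 := by
        by_contra h
        exact hq3 ((pow_dvd_pow r (by omega : 3 ≤ k)).trans hVd)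
      refine Cfsg.Agent.AltSpectrum.exists_dvd_orderOf hpq V hVp ?_ (hm ▸ hp)
      rw [hk]
      interval_cases k
      · exact absurd rfl hk0
      · rw [pow_one]; exact hqp
      · exact hqp2
    -- the quotient keeps both primes
    have hcard : m = Nat.card (G ⧸ V) * r ^ k := by
      rw [← hm, ← hk]; exact Subgroup.card_eq_card_quotient_mul_card_subgroup V
    have hcopp : Nat.Coprime p (r ^ k) :=
      Nat.Coprime.pow_right k ((Nat.coprime_primes Fact.out hr).2 (Ne.symm hrp))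
    have hcopq : Nat.Coprime q (r ^ k) :=
      Nat.Coprime.pow_right k ((Nat.coprime_primes Fact.out hr).2 (Ne.symm hrq))
    have hlt : Nat.card (G ⧸ V) < m := by
      rw [hcard]
      exact lt_mul_of_one_lt_right Nat.card_pos (Nat.one_lt_pow hk0 hr.one_lt)
    have hdiv : Nat.card (G ⧸ V) ∣ m := Dvd.intro _ hcard.symm
    obtain ⟨g, hg⟩ := ih _ hlt (G ⧸ V) rfl inferInstance
      (hcopp.dvd_of_dvd_mul_right (hcard ▸ hp)) (fun h => hp2 (h.trans hdiv))
      (hcopq.dvd_of_dvd_mul_right (hcard ▸ hq)) (fun h => hq3 (h.trans hdiv))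
    obtain ⟨g, rfl⟩ := QuotientGroup.mk'_surjective V g
    exact ⟨g, hg.trans (orderOf_map_dvd _ g)⟩

lemma two_pow_mul_factorial_card (n : ℕ) (hn : 2 ≤ n) :
    2 * Nat.card ↥(alternatingGroup (Fin n)) = n.factorial := by
  haveI : Nontrivial (Fin n) := Fin.nontrivial_iff_two_le.2 hn
  rw [two_mul_nat_card_alternatingGroup, Nat.card_perm, Nat.card_fin]

theorem result {G : Type*} [Group G] [Finite G] (n : ℕ) (hn : 5 ≤ n)
    (hcard : Nat.card G = Nat.card ↥(alternatingGroup (Fin n)))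
    (hspec : Set.range (orderOf : G → ℕ) = Set.range (orderOf : ↥(alternatingGroup (Fin n)) → ℕ)) :
    ¬ Group.IsSolvable G := by
  intro hs
  have hN : 2 * Nat.card G = n.factorial := by rw [hcard]; exact two_pow_mul_factorial_card n (by omega)
  -- choose the pair of primes
  obtain ⟨p, q, hp, hq, hpq, hsum, hodd, hqp, hqp2, hpq1, hpd, hp2, hqd, hq3⟩ :
      ∃ p q : ℕ, p.Prime ∧ q.Prime ∧ p ≠ q ∧ n < p + q ∧ (2 < p ∧ 2 < q) ∧ ¬ q ≡ 1 [MOD p] ∧
        ¬ q ^ 2 ≡ 1 [MOD p] ∧ ¬ p ≡ 1 [MOD q] ∧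
        p ∣ n.factorial ∧ ¬ p ^ 2 ∣ n.factorial ∧ q ∣ n.factorial ∧ ¬ q ^ 3 ∣ n.factorial := by
    by_cases h11 : 11 ≤ n
    · obtain ⟨a, b, ha, hb, hab, ha2, hbn⟩ := Cfsg.Agent.TwoPrimes.exists_two_primes n h11
      have key : ∀ r : ℕ, r.Prime → n < 2 * r → r ≤ n → r ∣ n.factorial ∧ ¬ r ^ 2 ∣ n.factorial := by
        intro r hr h1 h2
        refine ⟨hr.dvd_factorial.2 h2, fun h => ?_⟩
        haveI := Fact.mk hr
        have := padicValNat_factorial (p := r) (n := n) (b := 2) (Nat.log_lt_of_lt_pow (by omega) (by nlinarith))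
        rw [Finset.sum_Ico_succ_top (by norm_num), Finset.Ico_self, Finset.sum_empty, zero_add, pow_one] at this
        have h3 : n / r = 1 := Nat.div_eq_of_lt_le (by omega) (by omega)
        rw [h3] at this
        have := (padicValNat_dvd_iff_le (Nat.factorial_ne_zero n)).1 h
        omega
      obtain ⟨hbd, hb2⟩ := key b hb (by omega) hbn
      obtain ⟨had, ha2'⟩ := key a ha ha2 (by omega)
      have ha3 : 2 < a := by omega
      refine ⟨b, a, hb, ha, hab.ne', by omega, ⟨by omega, ha3⟩, ?_, ?_, ?_, hbd, hb2, had,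
        fun h => ha2' ((pow_dvd_pow a (by norm_num)).trans h)⟩
      · intro h
        have h' := Nat.mod_eq_of_lt hab
        rw [Nat.ModEq, h', Nat.mod_eq_of_lt hb.one_lt] at h
        omega
      · intro h
        have hd' : b ∣ a ^ 2 - 1 := (Nat.modEq_iff_dvd' (Nat.one_le_pow _ _ ha.pos)).1 h.symm
        have h2 : a ^ 2 - 1 = (a + 1) * (a - 1) := by
          rw [← Nat.sq_sub_sq a 1, one_pow]
        rw [h2] at hd'
        rcases hb.eq_two_or_odd with h' | h' <;> rcases ha.eq_two_or_odd with h'' | h'' <;>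
          rcases (Nat.Prime.dvd_mul hb).1 hd' with h3 | h3 <;>
          have := Nat.le_of_dvd (by omega) h3 <;> omega
      · intro h
        have h1 : b % a = b - a := by
          rw [Nat.mod_eq_sub_mod hab.le, Nat.mod_eq_of_lt (by omega)]
        rw [Nat.ModEq, h1, Nat.mod_eq_of_lt ha.one_lt] at h
        rcases hb.eq_two_or_odd with h' | h' <;> rcases ha.eq_two_or_odd with h'' | h'' <;> omega
    · interval_cases n
      · exact ⟨5, 3, by decide +kernel⟩
      · exact ⟨5, 3, by decide +kernel⟩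
      · exact ⟨7, 5, by decide +kernel⟩
      · exact ⟨7, 5, by decide +kernel⟩
      · exact ⟨7, 5, by decide +kernel⟩
      · exact ⟨7, 5, by decide +kernel⟩
  haveI := Fact.mk hp
  haveI := Fact.mk hq
  have hd : Nat.card G ∣ n.factorial := Dvd.intro_left 2 hN
  have hp' : p ∣ Nat.card G :=
    ((Nat.coprime_primes hp Nat.prime_two).2 (by omega)).dvd_of_dvd_mul_left (hN ▸ hpd)
  have hq' : q ∣ Nat.card G :=
    ((Nat.coprime_primes hq Nat.prime_two).2 (by omega)).dvd_of_dvd_mul_left (hN ▸ hqd)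
  obtain ⟨g, hg⟩ := exists_pq p q hpq hqp hqp2 hpq1 _ G rfl hs hp'
    (fun h => hp2 (h.trans hd)) hq' (fun h => hq3 (h.trans hd))
  exact Cfsg.Agent.AltSpectrum.no_pq_of_isospectral hp hq hpq hsum hspec g hg

end Cfsg.Agent.S3419
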