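import Mathlib
import Cfsg.Agent.Lib.TwoPrimes
import Cfsg.Agent.Lib.AltSpectrum

set_option autoImplicit false

namespace Cfsg.Agent.S3420

/-- A minimal normal subgroup whose order has a prime exactly once is simple. -/
lemma isSimple_of_minimal_normal {Q : Type*} [Group Q] [Finite Q] (M : Subgroup Q) [M.Normal]
    (hmin : ∀ X : Subgroup Q, X.Normal → X ≤ M → X = ⊥ ∨ X = M)
    {p : ℕ} [Fact p.Prime] (hpM : p ∣ Nat.card M) (hp2 : ¬ p ^ 2 ∣ Nat.card M) : IsSimpleGroup M := by
  haveI : Nontrivial M := by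
    rw [← Finite.one_lt_card_iff_nontrivial]
    exact lt_of_lt_of_le (Fact.out : p.Prime).one_lt (Nat.le_of_dvd Nat.card_pos hpM)
  refine ⟨fun Y hY => ?_⟩
  haveI := hY
  -- conjugates of Y by elements of Q
  let conjY : Q → Subgroup M := fun g => Y.map (MulAut.conjNormal g : MulAut M).toMonoidHom
  haveI hnorm : ∀ g, (conjY g).Normal := fun g => hY.map _ (MulEquiv.surjective _)
  have hcardY : ∀ g, Nat.card (conjY g) = Nat.card Y := fun g =>
    (Nat.card_congr (Y.equivMapOfInjective _ (MulEquiv.injective _)).toEquiv).symm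
  -- the core of Y in Q
  have key : ∀ X : Subgroup M, (∀ g : Q, X.map (MulAut.conjNormal g : MulAut M).toMonoidHom ≤ X) →
      X = ⊥ ∨ X = ⊤ := by
    intro X hX
    have hn : (X.map M.subtype).Normal := by
      constructor
      rintro _ ⟨x, hx, rfl⟩ g
      exact ⟨(MulAut.conjNormal g : MulAut M) x, hX g ⟨x, hx, rfl⟩, by simp⟩
    rcases hmin _ hn (Subgroup.map_subtype_le X) with h | h
    · left
      exact (Subgroup.map_eq_bot_iff_of_injective _ M.subtype_injective).1 h
    · right
      have := congrArg (Subgroup.comap M.subtype) h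
      rw [Subgroup.comap_map_eq_self_of_injective M.subtype_injective] at this
      rw [this]
      ext x
      simp
  have hcomp : ∀ g h : Q, (conjY g).map (MulAut.conjNormal h : MulAut M).toMonoidHom = conjY (h * g) := by
    intro g h
    show (Y.map _).map _ = Y.map _
    rw [Subgroup.map_map]
    congr 1
    ext y
    simp [mul_assoc]
  by_cases hpY : p ∣ Nat.card Y
  · -- intersection of the conjugates
    rcases key (⨅ g, conjY g) (fun h => by
      refine le_iInf fun g => ?_
      refine le_trans (Subgroup.map_mono (iInf_le _ (h⁻¹ * g))) ?_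
      rw [hcomp, mul_inv_cancel_left]) with h | h
    · exfalso
      -- a p-element of M lies in every normal subgroup of order divisible by p
      obtain ⟨x, hx⟩ := exists_prime_orderOf_dvd_card' p hpM
      have hxg : ∀ g, x ∈ conjY g := by
        intro g
        have hd : p ∣ Nat.card (conjY g) := hcardY g ▸ hpY
        have hidx : Nat.Coprime p (conjY g).index := by
          refine (Nat.Prime.coprime_iff_not_dvd Fact.out).2 fun hd' => hp2 ?_
          rw [← Subgroup.card_mul_index (conjY g), sq]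
          exact Nat.mul_dvd_mul hd hd'
        have h1 : orderOf (QuotientGroup.mk' (conjY g) x) ∣ p := hx ▸ orderOf_map_dvd _ x
        have h2 : orderOf (QuotientGroup.mk' (conjY g) x) ∣ (conjY g).index := orderOf_dvd_natCard _
        have h3 := Nat.eq_one_of_dvd_coprimes hidx h1 h2
        exact (QuotientGroup.eq_one_iff x).1 (orderOf_eq_one_iff.1 h3)
      have : x ∈ (⨅ g, conjY g) := Subgroup.mem_iInf.2 hxg
      rw [h, Subgroup.mem_bot] at this
      rw [this, orderOf_one] at hx
      exact (Fact.out : p.Prime).one_lt.ne hx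
    · right
      have h1 : (⨅ g, conjY g) ≤ conjY 1 := iInf_le _ 1
      rw [h, top_le_iff] at h1
      rw [← h1]
      show Y = Y.map _
      ext y
      simp
  · -- the join of the conjugates has order prime to p
    left
    have hsup : ∀ s : Finset Q, ¬ p ∣ Nat.card ↥(s.sup conjY) ∧ (s.sup conjY).Normal := by
      intro s
      classical
      induction s using Finset.induction with
      | empty =>
        constructor
        · rw [Finset.sup_empty, Subgroup.card_bot]
          exact (Fact.out : p.Prime).not_dvd_one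
        · rw [Finset.sup_empty]; infer_instance
      | insert a s _ ih =>
        haveI := ih.2
        rw [Finset.sup_insert]
        refine ⟨fun h => ?_, inferInstance⟩
        have hmul : Nat.card ↥(conjY a ⊔ s.sup conjY) ∣ Nat.card (conjY a) * Nat.card ↥(s.sup conjY) := by
          refine ⟨Nat.card ↥(conjY a ⊓ s.sup conjY), ?_⟩
          have h1 := Nat.card_congr (QuotientGroup.quotientInfEquivProdNormalQuotient (conjY a) (s.sup conjY)).toEquiv
          have h2 := Subgroup.card_eq_card_quotient_mul_card_subgroup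
            ((s.sup conjY).subgroupOf (conjY a ⊔ s.sup conjY))
          have h3 := Subgroup.card_eq_card_quotient_mul_card_subgroup
            ((s.sup conjY).subgroupOf (conjY a))
          rw [Nat.card_congr (Subgroup.subgroupOfEquivOfLe (le_sup_right : s.sup conjY ≤ conjY a ⊔ s.sup conjY)).toEquiv] at h2
          have h4 : Nat.card ((s.sup conjY).subgroupOf (conjY a)) = Nat.card ↥(conjY a ⊓ s.sup conjY) := by
            rw [← Subgroup.inf_subgroupOf_left]
            exact Nat.card_congr (Subgroup.subgroupOfEquivOfLe inf_le_left).toEquiv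
          rw [h2, h3, h4, h1]
          ring
        rcases (Nat.Prime.dvd_mul Fact.out).1 (h.trans hmul) with h' | h'
        · exact hpY (hcardY a ▸ h')
        · exact ih.1 h'
    haveI : Fintype Q := Fintype.ofFinite Q
    rcases key (Finset.univ.sup conjY) (fun h => by
      rw [Subgroup.map_le_iff_le_comap, Finset.sup_le_iff]
      intro g _
      rw [← Subgroup.map_le_iff_le_comap, hcomp]
      exact Finset.le_sup (f := conjY) (Finset.mem_univ _)) with h | h
    · have h1 : conjY 1 ≤ (Finset.univ.sup conjY) := Finset.le_sup (f := conjY) (Finset.mem_univ _)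
      rw [h, le_bot_iff] at h1
      rw [← h1]
      show Y = Y.map _
      ext y
      simp
    · exact absurd hpM (by
        have := (hsup Finset.univ).1
        rwa [h, Subgroup.card_top] at this)

theorem result {G : Type*} [Group G] [Finite G] (n : ℕ) (hn : 11 ≤ n)
    (hcard : Nat.card G = Nat.card ↥(alternatingGroup (Fin n)))
    (hspec : Set.range (orderOf : G → ℕ) = Set.range (orderOf : ↥(alternatingGroup (Fin n)) → ℕ)) :
    ∃ (N H : Subgroup G) (_ : N.Normal), H.Normal ∧ N < H ∧
      IsSimpleGroup (↥H ⧸ N.subgroupOf H) ∧ ¬ IsMulCommutative (↥H ⧸ N.subgroupOf H) ∧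
      ∀ p : ℕ, p.Prime → n < 2 * p → p ≤ n → p ∣ Nat.card (↥H ⧸ N.subgroupOf H) := by
  classical
  haveI : Nontrivial (Fin n) := Fin.nontrivial_iff_two_le.2 (by omega)
  have hN : 2 * Nat.card G = n.factorial := by
    rw [hcard, two_mul_nat_card_alternatingGroup, Nat.card_perm, Nat.card_fin]
  -- facts on the large primes
  have big : ∀ r : ℕ, r.Prime → n < 2 * r → r ≤ n → r ∣ Nat.card G ∧ ¬ r ^ 2 ∣ Nat.card G := by
    intro r hr h1 h2
    refine ⟨((Nat.coprime_primes hr Nat.prime_two).2 (by omega)).dvd_of_dvd_mul_left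
      (hN ▸ hr.dvd_factorial.2 h2), fun h => ?_⟩
    haveI := Fact.mk hr
    have := padicValNat_factorial (p := r) (n := n) (b := 2) (Nat.log_lt_of_lt_pow (by omega) (by nlinarith))
    rw [Finset.sum_Ico_succ_top (by norm_num), Finset.Ico_self, Finset.sum_empty, zero_add, pow_one] at this
    have h3 : n / r = 1 := Nat.div_eq_of_lt_le (by omega) (by omega)
    rw [h3] at this
    have h4 := (padicValNat_dvd_iff_le (Nat.factorial_ne_zero n)).1 (hN ▸ Dvd.dvd.mul_left h 2)
    omega
  have nopq : ∀ p q : ℕ, p.Prime → q.Prime → p ≠ q → n < 2 * p → n < 2 * q → ∀ g : G, ¬ p * q ∣ orderOf g :=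
    fun p q hp hq hpq h1 h2 g => Cfsg.Agent.AltSpectrum.no_pq_of_isospectral hp hq hpq (by omega) hspec g
  have notone : ∀ p q : ℕ, p.Prime → q.Prime → p ≠ q → n < 2 * p → n < 2 * q → p ≤ n → q ≤ n →
      ¬ p ≡ 1 [MOD q] := by
    intro p q hp hq hpq h1 h2 h3 h4 h
    have hmod : p % q = 1 := by rw [h, Nat.mod_eq_of_lt hq.one_lt]
    rcases lt_or_gt_of_ne hpq with h' | h'
    · rw [Nat.mod_eq_of_lt h'] at hmod; exact hp.ne_one hmod
    · rw [Nat.mod_eq_sub_mod h'.le, Nat.mod_eq_of_lt (by omega)] at hmod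
      rcases hp.eq_two_or_odd with e | e <;> rcases hq.eq_two_or_odd with e' | e' <;> omega
  obtain ⟨a, b, ha, hb, hab, ha2, hbn⟩ := Cfsg.Agent.TwoPrimes.exists_two_primes n hn
  -- N maximal normal with order prime to all large primes
  let S : Set (Subgroup G) := {X | X.Normal ∧ ∀ r : ℕ, r.Prime → n < 2 * r → r ≤ n → ¬ r ∣ Nat.card X}
  obtain ⟨N, hNS, hNmax⟩ : ∃ N ∈ S, ∀ X ∈ S, N ≤ X → N = X := by
    obtain ⟨N, hN⟩ := (Set.toFinite S).exists_maximal
      ⟨⊥, inferInstance, fun r hr _ _ h => hr.not_dvd_one (by rwa [Subgroup.card_bot] at h)⟩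
    exact ⟨N, hN.prop, fun X hX hle => le_antisymm hle (hN.2 hX hle)⟩
  obtain ⟨hNn, hNπ⟩ := hNS
  haveI := hNn
  have hNtop : N ≠ ⊤ := by
    rintro rfl
    exact hNπ b hb (by omega) hbn (by rw [Subgroup.card_top]; exact (big b hb (by omega) hbn).1)
  let T : Set (Subgroup G) := {X | X.Normal ∧ N < X}
  obtain ⟨H, hHT, hHmin⟩ : ∃ H ∈ T, ∀ X ∈ T, X ≤ H → X = H := by
    obtain ⟨H, hH⟩ := (Set.toFinite T).exists_minimal ⟨⊤, inferInstance, hNtop.lt_top⟩
    exact ⟨H, hH.prop, fun X hX hle => le_antisymm hle (hH.2 hX hle)⟩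
  obtain ⟨hHn, hNH⟩ := hHT
  haveI := hHn
  let φ := QuotientGroup.mk' N
  let M := H.map φ
  haveI hMn : M.Normal := hHn.map _ (QuotientGroup.mk'_surjective N)
  -- H/N ≅ M
  have e : (↥H ⧸ N.subgroupOf H) ≃* M :=
    (QuotientGroup.quotientMulEquivOfEq (by
      ext x
      simp [MonoidHom.mem_ker, Subgroup.mem_subgroupOf, φ])).trans
      ((QuotientGroup.quotientKerEquivRange (φ.comp H.subtype)).trans
        (MulEquiv.subgroupCongr (show (φ.comp H.subtype).range = M by rw [MonoidHom.range_comp, Subgroup.range_subtype])))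
  have hminM : ∀ X : Subgroup (G ⧸ N), X.Normal → X ≤ M → X = ⊥ ∨ X = M := by
    intro X hX hle
    haveI := hX
    by_cases hXb : X = ⊥
    · exact Or.inl hXb
    right
    have h1 : N ≤ X.comap φ := by
      intro x hx
      show φ x ∈ X
      rw [show φ x = 1 from (QuotientGroup.eq_one_iff x).2 hx]; exact one_mem _
    have h2 : N < X.comap φ := lt_of_le_of_ne h1 (fun h => hXb (by
      rw [← Subgroup.map_comap_eq_self_of_surjective (QuotientGroup.mk'_surjective N) X]
      show (X.comap φ).map φ = ⊥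
      rw [← h]; exact QuotientGroup.map_mk'_self N))
    have h3 : X.comap φ ≤ H := by
      refine (Subgroup.comap_mono hle).trans ?_
      rw [Subgroup.comap_map_eq, QuotientGroup.ker_mk', sup_of_le_left hNH.le]
    have h4 := hHmin _ ⟨hX.comap _, h2⟩ h3
    rw [← Subgroup.map_comap_eq_self_of_surjective (QuotientGroup.mk'_surjective N) X]
    show (X.comap φ).map φ = M
    rw [h4]
  -- some large prime divides M
  have hMcard : Nat.card H = Nat.card M * Nat.card N := by
    rw [Subgroup.card_eq_card_quotient_mul_card_subgroup (N.subgroupOf H), Nat.card_congr e.toEquiv,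
      Nat.card_congr (Subgroup.subgroupOfEquivOfLe hNH.le).toEquiv]
  have hGcard : Nat.card G = Nat.card (G ⧸ N) * Nat.card N :=
    Subgroup.card_eq_card_quotient_mul_card_subgroup N
  obtain ⟨p, hp, hp2, hpn, hpM⟩ : ∃ p : ℕ, p.Prime ∧ n < 2 * p ∧ p ≤ n ∧ p ∣ Nat.card M := by
    by_contra hne
    push Not at hne
    refine hNH.ne (hNmax H ⟨hHn, fun r hr h1 h2 h => ?_⟩ hNH.le)
    rw [hMcard] at h
    rcases hr.dvd_mul.1 h with h' | h'
    · exact hne r hr h1 h2 h'
    · exact hNπ r hr h1 h2 h'
  have hMdvd : Nat.card M ∣ Nat.card G := (Dvd.intro _ hMcard.symm).trans (Subgroup.card_subgroup_dvd_card H)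
  haveI := Fact.mk hp
  have hallM : ∀ q : ℕ, q.Prime → n < 2 * q → q ≤ n → q ∣ Nat.card M := by
    intro q hq h1 h2
    by_contra hqM
    haveI := Fact.mk hq
    have hpq : p ≠ q := fun h => hqM (h ▸ hpM)
    let P : Sylow p M := default
    let Q := Subgroup.normalizer ((P.map M.subtype : Subgroup (G ⧸ N)) : Set (G ⧸ N))
    have htop : Q ⊔ M = ⊤ := Sylow.normalizer_sup_eq_top P
    have hPle : (P.map M.subtype : Subgroup (G ⧸ N)) ≤ Q := Subgroup.le_normalizer
    have hqG : q ∣ Nat.card ((G ⧸ N) ⧸ M) := by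
      have h3 : q ∣ Nat.card (G ⧸ N) :=
        (Nat.Coprime.dvd_of_dvd_mul_right ((Nat.Prime.coprime_iff_not_dvd hq).2 (hNπ q hq h1 h2))
          (hGcard ▸ (big q hq h1 h2).1))
      rw [Subgroup.card_eq_card_quotient_mul_card_subgroup M] at h3
      exact ((hq.dvd_mul).1 h3).resolve_right hqM
    have hqQ : q ∣ Nat.card Q := by
      refine hqG.trans (Subgroup.card_dvd_of_surjective ((QuotientGroup.mk' M).comp Q.subtype) ?_)
      intro y
      obtain ⟨z, rfl⟩ := QuotientGroup.mk'_surjective M y
      have hz : z ∈ Q ⊔ M := htop ▸ Subgroup.mem_top z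
      rw [Subgroup.mem_sup_of_normal_right] at hz
      obtain ⟨u, hu, v, hv, rfl⟩ := hz
      exact ⟨⟨u, hu⟩, by simp [(QuotientGroup.eq_one_iff v).2 hv]⟩
    have hPcard : Nat.card ↥((P.map M.subtype : Subgroup (G ⧸ N)).subgroupOf Q) = p := by
      rw [Nat.card_congr (Subgroup.subgroupOfEquivOfLe hPle).toEquiv,
        ← Nat.card_congr (Subgroup.equivMapOfInjective (P : Subgroup M) M.subtype M.subtype_injective).toEquiv,
        Sylow.card_eq_multiplicity]
      have h3 : (Nat.card M).factorization p = 1 := by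
        refine le_antisymm ?_ (hp.factorization_pos_of_dvd Nat.card_pos.ne' hpM)
        by_contra h4
        exact (big p hp hp2 hpn).2 ((((hp.pow_dvd_iff_le_factorization Nat.card_pos.ne').2 (by omega : 2 ≤ _))).trans hMdvd)
      rw [h3, pow_one]
    haveI : ((P.map M.subtype : Subgroup (G ⧸ N)).subgroupOf Q).Normal := Subgroup.normal_in_normalizer
    obtain ⟨g, hg⟩ := Cfsg.Agent.AltSpectrum.exists_dvd_orderOf (Ne.symm hpq)
      ((P.map M.subtype : Subgroup (G ⧸ N)).subgroupOf Q)
      (IsPGroup.of_card (n := 1) (by rw [hPcard, pow_one]))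
      (by rw [hPcard]; exact notone p q hp hq hpq hp2 h1 hpn h2) hqQ
    obtain ⟨z, hz⟩ := QuotientGroup.mk'_surjective N (g : G ⧸ N)
    refine nopq q p hq hp hpq.symm h1 hp2 z (hg.trans ?_)
    rw [← Subgroup.orderOf_coe, ← hz]
    exact orderOf_map_dvd _ z
  haveI hsimp : IsSimpleGroup M := isSimple_of_minimal_normal M hminM hpM
    (fun h => (big p hp hp2 hpn).2 (h.trans hMdvd))
  refine ⟨N, H, hNn, hHn, hNH, ?_, ?_, ?_⟩
  · haveI : Nontrivial (↥H ⧸ N.subgroupOf H) := e.toEquiv.nontrivial
    exact IsSimpleGroup.isSimpleGroup_of_surjective e.symm.toMonoidHom e.symm.surjective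
  · intro hc
    haveI := Fact.mk ha
    haveI := Fact.mk hb
    obtain ⟨x, hx⟩ := exists_prime_orderOf_dvd_card' a (hallM a ha ha2 (by omega))
    obtain ⟨y, hy⟩ := exists_prime_orderOf_dvd_card' b (hallM b hb (by omega) hbn)
    have hxy : Commute x y := by
      have := hc.1.1 (e.symm x) (e.symm y)
      show x * y = y * x
      simpa using congrArg e this
    have h : orderOf (x * y) = a * b := by
      rw [hxy.orderOf_mul_eq_mul_orderOf_of_coprime, hx, hy]
      rw [hx, hy]
      exact (Nat.coprime_primes ha hb).2 hab.ne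
    obtain ⟨z, hz⟩ := QuotientGroup.mk'_surjective N ((x * y : M) : G ⧸ N)
    refine nopq a b ha hb hab.ne ha2 (by omega) z ?_
    rw [← h, ← Subgroup.orderOf_coe, ← hz]
    exact orderOf_map_dvd _ z
  · intro r hr h1 h2
    rw [Nat.card_congr e.toEquiv]
    exact hallM r hr h1 h2

end Cfsg.Agent.S3420
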