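import Cfsg.Statements.S3421
import Cfsg.Agent.Lib.PSLSpectrum99Main
-- import your own Cfsg.Agent.* helpers here

set_option autoImplicit false
open Cfsg

namespace Cfsg.Agent.S3421

/-- Let F be a finite field with more than 3 elements. A finite group G is isomorphic to PSL(2, F) if and only if G has the same set of element orders and the same order as PSL(2, F). -/
theorem result {G : Type*} [Group G] [Finite G] {F : Type*} [Field F] [Fintype F] (hF : 3 < Fintype.card F) :
    Nonempty (G ≃* Matrix.ProjectiveSpecialLinearGroup (Fin 2) F) ↔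
      (Set.range (orderOf : G → ℕ) = Set.range (orderOf : Matrix.ProjectiveSpecialLinearGroup (Fin 2) F → ℕ) ∧
        Nat.card G = Nat.card (Matrix.ProjectiveSpecialLinearGroup (Fin 2) F)) := by
  classical
  constructor
  · rintro ⟨e⟩
    refine ⟨?_, Nat.card_congr e.toEquiv⟩
    ext n
    constructor
    · rintro ⟨g, rfl⟩; exact ⟨e g, e.orderOf_eq g⟩
    · rintro ⟨x, rfl⟩; exact ⟨e.symm x, e.symm.orderOf_eq x⟩
  rintro ⟨hr, hc⟩
  rw [← Nat.card_eq_fintype_card] at hF
  obtain ⟨p, hchar⟩ := CharP.exists F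
  obtain ⟨f, hp, hf⟩ := FiniteField.card F p
  haveI := Fact.mk hp
  rw [← Nat.card_eq_fintype_card] at hf
  have hpq : p ∣ Nat.card F := hf ▸ dvd_pow_self p f.ne_zero
  refine PSLSpectrum99.recognition hf hF (fun g hg => ?_) ?_ ?_
  · obtain ⟨x, hx⟩ : orderOf g ∈ Set.range (orderOf : Matrix.ProjectiveSpecialLinearGroup (Fin 2) F → ℕ) :=
      hr ▸ Set.mem_range_self g
    rw [← hx] at hg ⊢
    rcases PSL2Proj52.pow_cases p x with h | h | h
    · exact ((Nat.dvd_prime hp).1 (orderOf_dvd_of_pow_eq_one h)).resolve_left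
        fun h1 => hp.not_dvd_one (h1 ▸ hg)
    · have h1 := (hg.trans (orderOf_dvd_of_pow_eq_one h)).trans
        (Nat.div_dvd_of_dvd PSL2Proj52.gcd_dvd.1)
      exact absurd ((Nat.dvd_add_right h1).1
        (by rwa [Nat.sub_add_cancel (by omega : 1 ≤ Nat.card F)])) hp.not_dvd_one
    · have h1 := (hg.trans (orderOf_dvd_of_pow_eq_one h)).trans
        (Nat.div_dvd_of_dvd PSL2Proj52.gcd_dvd.2)
      exact absurd ((Nat.dvd_add_right hpq).1 h1) hp.not_dvd_one
  · rw [hc, PSLCard.card_PSL2_mul]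
  · obtain ⟨A, hA⟩ := PSL2Proj52.exists_orderOf_card_add_one (F := F)
    have h := PSL2Proj52.orderOf_π PSL2Proj52.gcd_dvd.2 hA
    rw [← h]
    exact (Set.ext_iff.1 hr _).2 (Set.mem_range_self (PSL2Proj52.π A))

end Cfsg.Agent.S3421
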