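import Cfsg.Statements.S3427
import Cfsg.Agent.Lib.G22Main40
import Cfsg.Agent.Lib.G22Reduce40
import Cfsg.Agent.Lib.G22Chev96
import Cfsg.Agent.Lib.G22Cert47
import Cfsg.Agent.Lib.G22Orders88

set_option autoImplicit false
open Cfsg

namespace Cfsg.Agent.S3427

/-- Let F be the field with 2 elements and let M be the Chevalley group of type G₂ over F (a non-simple group of order 12096 whose derived subgroup, of index 2, is isomorphic to PSU(3, 3)). A finite group G is isomorphic to M if and only if G has the same set of element orders and the same order as M. -/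
theorem result {G : Type*} [Group G] [Finite G] {F : Type*} [Field F] [Fintype F] (hF : Fintype.card F = 2) :
    Nonempty (G ≃* ↥(Cfsg.Lie.chevG2.group F)) ↔
      (Set.range (orderOf : G → ℕ) = Set.range (orderOf : ↥(Cfsg.Lie.chevG2.group F) → ℕ) ∧ Nat.card G = Nat.card ↥(Cfsg.Lie.chevG2.group F)) := by
  classical
  set M := ↥(Cfsg.Lie.chevG2.group F)
  have hM := G22Chev96.hyp_chev F hF
  haveI : Finite M := Nat.finite_of_card_ne_zero (by rw [hM.card]; norm_num)
  obtain ⟨PM, hPM⟩ := G22Main40.exists_borel hM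
  obtain ⟨eM⟩ := G22Cert47.iso_of_borel hPM
  refine ⟨fun ⟨e⟩ => ⟨?_, Nat.card_congr e.toEquiv⟩, fun ⟨hs, hc⟩ => ?_⟩
  · rw [show (orderOf : G → ℕ) = orderOf ∘ e from funext fun g =>
      (orderOf_injective e.toMonoidHom e.injective g).symm]
    exact e.surjective.range_comp _
  · have hbM : G22Defs40.NoBad M := fun g =>
      ⟨(G22Main40.no_nine hM g).1, fun h => G22Cert47.no_fourteen (eM g)
        ((orderOf_injective eM.toMonoidHom eM.injective g).trans h), (G22Main40.no_nine hM g).2⟩
    have hb : G22Defs40.NoBad G := fun g => by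
      obtain ⟨m, hm⟩ : orderOf g ∈ Set.range (orderOf : M → ℕ) := hs ▸ Set.mem_range_self g
      rw [← hm]
      exact hbM m
    obtain ⟨T, hT⟩ := G22Reduce40.exists_hyp (hc.trans hM.card) hb fun T hsimp hTb h4 => by
      haveI := hsimp
      exact G22Orders88.card_eq (fun g => (hTb g).2) h4
    obtain ⟨P, hP⟩ := G22Main40.exists_borel hT
    obtain ⟨eG⟩ := G22Cert47.iso_of_borel hP
    exact ⟨eG.trans eM.symm⟩

end Cfsg.Agent.S3427
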