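import Cfsg.Statements.S3431
import Mathlib
import Cfsg.Agent.Lib.FrobeniusCount72
import Cfsg.Agent.Lib.NseSearch29
import Cfsg.Agent.Lib.NseSearchData29
import Cfsg.Agent.Lib.A5Orders
import Cfsg.Agent.S0494
import Cfsg.Agent.S0497

set_option autoImplicit false
open Cfsg

namespace Cfsg.Agent.S3431

open NseSearch29 NseSearchData29

noncomputable def cnt (G : Type*) [Group G] (m : ℕ) : ℕ := Nat.card {g : G // orderOf g = m}

lemma cnt_ne_zero_iff {G : Type*} [Group G] [Finite G] {m : ℕ} :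
    cnt G m ≠ 0 ↔ ∃ g : G, orderOf g = m := by
  rw [cnt, ne_eq, Nat.card_eq_zero]
  simp only [not_or, not_isEmpty_iff, nonempty_subtype]
  exact ⟨fun h => h.1, fun h => ⟨h, not_infinite_iff_finite.2 inferInstance⟩⟩

lemma card_pow_eq_sum {G : Type*} [Group G] [Finite G] {k : ℕ} (hk : k ≠ 0) :
    Nat.card {g : G // g ^ k = 1} = ∑ d ∈ k.divisors, cnt G d := by
  classical
  haveI := Fintype.ofFinite G
  simp only [cnt, Nat.card_eq_fintype_card, Fintype.card_subtype]
  exact (sum_card_orderOf_eq_card_pow_eq_one (G := G) (n := k) hk).symm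

/-- The order count function determined by the set of its values. -/
lemma counts {G : Type*} [Group G] [Finite G] (s2 : ℕ) (ev cands : List ℕ)
    (rows : List (ℕ × List ℕ × List ℕ)) (t : List (ℕ × ℕ))
    (hset : (fun m : ℕ => cnt G m) '' Set.range (orderOf : G → ℕ) =
      {x | x = 1 ∨ x = s2 ∨ x ∈ ev})
    (hs2 : s2 % 2 = 1) (hs21 : 1 < s2) (hev : ∀ s ∈ ev, s % 2 = 0 ∧ 0 < s ∧ s ≤ 200)
    (hprime : ∀ p < 202, ∀ s ∈ ev, 2 < p → (p - 1) ∣ s → p ∣ 1 + s → p.Prime →
      p = 3 ∨ p = 5 ∨ p = 7)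
    (hexp : ∀ s ∈ ev, ¬ 32 ∣ s ∧ ¬ 54 ∣ s ∧ ¬ 100 ∣ s ∧ ¬ 42 ∣ s)
    (htab : ∀ a ∈ Nat.divisors 32, ∀ b ∈ Nat.divisors 27, ∀ c ∈ Nat.divisors 25,
      ∀ d ∈ Nat.divisors 7, ∀ s ∈ ev,
        Nat.totient a * Nat.totient b * Nat.totient c * Nat.totient d ∣ s → a * b * c * d ∈ cands)
    (h12 : 1 ∈ cands ∧ 2 ∈ cands)
    (hchk : chk ev cands rows [2, 1]) (hgo : go ev t rows [(2, s2), (1, 1)] = true) :
    Nat.card G = total t ∧
      ∀ m, cnt G m ≠ 0 → (m, cnt G m) ∈ t := by
  classical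
  haveI := Fintype.ofFinite G
  have h1 : cnt G 1 = 1 := by
    refine Nat.card_eq_one_iff_unique.2 ⟨⟨fun a b => Subtype.ext ?_⟩, ⟨⟨1, orderOf_one⟩⟩⟩
    rw [orderOf_eq_one_iff.1 a.2, orderOf_eq_one_iff.1 b.2]
  have htot : ∀ m, Nat.totient m ∣ cnt G m := fun m =>
    FrobeniusCount72.totient_dvd_card_orderOf m
  have hmem : ∀ m, cnt G m ≠ 0 → cnt G m = 1 ∨ cnt G m = s2 ∨ cnt G m ∈ ev := fun m hm => by
    obtain ⟨g, hg⟩ := cnt_ne_zero_iff.1 hm
    have : cnt G m ∈ ({x | x = 1 ∨ x = s2 ∨ x ∈ ev} : Set ℕ) := hset ▸ ⟨m, ⟨g, hg⟩, rfl⟩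
    exact this
  have hatt : ∀ x, (x = 1 ∨ x = s2 ∨ x ∈ ev) → ∃ m, cnt G m = x := fun x hx => by
    have : x ∈ (fun m : ℕ => cnt G m) '' Set.range (orderOf : G → ℕ) := hset ▸ hx
    obtain ⟨m, -, hm⟩ := this
    exact ⟨m, hm⟩
  have h0 : cnt G 0 = 0 := by
    by_contra h
    obtain ⟨g, hg⟩ := cnt_ne_zero_iff.1 h
    exact (orderOf_pos g).ne' hg
  have hodd : ∀ m, 2 < m → cnt G m % 2 = 0 := fun m hm => by
    obtain ⟨c, hc⟩ := (even_iff_two_dvd.1 (Nat.totient_even hm)).trans (htot m)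
    omega
  have h2 : cnt G 2 = s2 := by
    obtain ⟨m, hm⟩ := hatt s2 (Or.inr (Or.inl rfl))
    rcases Nat.lt_or_ge 2 m with h | h
    · have := hodd m h; omega
    · interval_cases m
      · omega
      · omega
      · exact hm
  have P : Profile (cnt G) (Nat.card G) ev s2 := by
    refine ⟨h1, h2, h0, fun m hm hne => ⟨?_, htot m⟩, fun d m hd hm => ?_, fun m hm => ?_,
      fun k hk => ?_, ?_, fun p hp hd => ?_, fun s hs => hatt s (Or.inr (Or.inr hs)), Nat.card_pos⟩
    · rcases hmem m hne with h | h | h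
      · have := hodd m hm; omega
      · have := hodd m hm; omega
      · exact h
    · obtain ⟨g, hg⟩ := cnt_ne_zero_iff.1 hm
      refine cnt_ne_zero_iff.2 ⟨g ^ (orderOf g / d), ?_⟩
      exact orderOf_pow_orderOf_div (orderOf_pos g).ne' (hg ▸ hd)
    · obtain ⟨g, hg⟩ := cnt_ne_zero_iff.1 hm
      exact hg ▸ orderOf_dvd_natCard g
    · have hk0 : k ≠ 0 := fun h => Nat.card_pos.ne' (Nat.eq_zero_of_zero_dvd (h ▸ hk))
      rw [← card_pow_eq_sum hk0]
      exact FrobeniusCount72.dvd_card_pow_eq_one k hk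
    · rw [← card_pow_eq_sum Nat.card_pos.ne']
      exact Nat.card_congr (Equiv.subtypeUnivEquiv fun g => pow_card_eq_one')
    · haveI := Fact.mk hp
      exact cnt_ne_zero_iff.2 (exists_prime_orderOf_dvd_card' p hd)
  have hc : ∀ m, cnt G m ≠ 0 → m ∈ cands :=
    mem_cands P cands h12.1 h12.2 (fun s hs => (hev s hs).2.2) hprime hexp htab
      (fun s hs => (hev s hs).2.1)
  have hA : assign (cnt G) [2, 1] = [(2, s2), (1, 1)] := by
    simp [assign, h1, h2, show s2 ≠ 0 by omega]
  obtain ⟨D, hD, hcov, hDt⟩ := go_sound P (fun s hs => (hev s hs).2.1.ne') cands t hc rows [2, 1]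
    (by decide) hchk (hA ▸ hgo)
  refine ⟨?_, fun m hm => ?_⟩
  · rw [← hDt, total_eq P D hD hcov]
  · rw [← hDt]
    exact mem_assign.2 ⟨hcov m hm, hm, rfl⟩

lemma cnt_prime {G : Type*} [Group G] [Finite G] [DecidableEq G] [Fintype G] (p c : ℕ)
    (hp : p.Prime) (hc : (Finset.univ.filter fun g : G => g ^ p = 1).card = c + 1) :
    cnt G p = c := by
  have h := card_pow_eq_sum (G := G) hp.ne_zero
  rw [hp.divisors, Finset.sum_pair hp.one_lt.ne] at h
  have h1 : cnt G 1 = 1 := by
    refine Nat.card_eq_one_iff_unique.2 ⟨⟨fun a b => Subtype.ext ?_⟩, ⟨⟨1, orderOf_one⟩⟩⟩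
    rw [orderOf_eq_one_iff.1 a.2, orderOf_eq_one_iff.1 b.2]
  rw [Nat.card_eq_fintype_card, Fintype.card_subtype, hc, h1] at h
  omega

lemma cnt_one' (G : Type*) [Group G] [Finite G] : cnt G 1 = 1 := by
  refine Nat.card_eq_one_iff_unique.2 ⟨⟨fun a b => Subtype.ext ?_⟩, ⟨⟨1, orderOf_one⟩⟩⟩
  rw [orderOf_eq_one_iff.1 a.2, orderOf_eq_one_iff.1 b.2]

/-- The value set of the order counts from an explicit description of the orders. -/
lemma nse_of_orders (G : Type*) [Group G] [Finite G] (O : List ℕ)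
    (h1 : ∀ g : G, orderOf g ∈ O) (h2 : ∀ m ∈ O, cnt G m ≠ 0) :
    (fun m : ℕ => cnt G m) '' Set.range (orderOf : G → ℕ) = {x | x ∈ O.map (cnt G)} := by
  ext x
  constructor
  · rintro ⟨m, ⟨g, rfl⟩, rfl⟩
    exact List.mem_map.2 ⟨_, h1 g, rfl⟩
  · intro hx
    obtain ⟨m, hm, rfl⟩ := List.mem_map.1 hx
    exact ⟨m, cnt_ne_zero_iff.1 (h2 m hm), rfl⟩

lemma orderOf_mem_of_pow {G : Type*} [Group G] (g : G)
    (h : g ^ 2 = 1 ∨ g ^ 3 = 1 ∨ g ^ 4 = 1 ∨ g ^ 5 = 1) :
    orderOf g ∈ [1, 2, 3, 4, 5] := by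
  rcases h with h | h | h | h <;>
    · have hd := orderOf_dvd_of_pow_eq_one h
      have hle := Nat.le_of_dvd (by norm_num) hd
      generalize orderOf g = o at hd hle ⊢
      interval_cases o <;> simp_all

abbrev A (n : ℕ) := ↥(alternatingGroup (Fin n))

lemma nse_four : (fun m : ℕ => cnt (A 4) m) '' Set.range (orderOf : A 4 → ℕ) =
    {x | x = 1 ∨ x = 3 ∨ x ∈ ev_four} := by
  have hp : ∀ g : A 4, g ^ 2 = 1 ∨ g ^ 3 = 1 := by decide +kernel
  have c2 : cnt (A 4) 2 = 3 := cnt_prime 2 3 Nat.prime_two (by decide +kernel)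
  have c3 : cnt (A 4) 3 = 8 := cnt_prime 3 8 Nat.prime_three (by decide +kernel)
  rw [nse_of_orders (A 4) [1, 2, 3] (fun g => ?_) (fun m hm => ?_)]
  · simp [cnt_one', c2, c3, ev_four]
  · rcases hp g with h | h
    · rcases (Nat.dvd_prime Nat.prime_two).1 (orderOf_dvd_of_pow_eq_one h) with h | h <;> simp [h]
    · rcases (Nat.dvd_prime Nat.prime_three).1 (orderOf_dvd_of_pow_eq_one h) with h | h <;>
        simp [h]
  · simp at hm; rcases hm with rfl | rfl | rfl <;> simp [cnt_one', c2, c3]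

lemma nse_five : (fun m : ℕ => cnt (A 5) m) '' Set.range (orderOf : A 5 → ℕ) =
    {x | x = 1 ∨ x = 15 ∨ x ∈ ev_five} := by
  have c2 : cnt (A 5) 2 = 15 := cnt_prime 2 15 Nat.prime_two (by decide +kernel)
  have c3 : cnt (A 5) 3 = 20 := cnt_prime 3 20 Nat.prime_three (by decide +kernel)
  have c5 : cnt (A 5) 5 = 24 := cnt_prime 5 24 (by norm_num) (by decide +kernel)
  rw [nse_of_orders (A 5) [1, 2, 3, 5] (fun g => ?_) (fun m hm => ?_)]
  · simp [cnt_one', c2, c3, c5, ev_five]
  · simpa using A5Orders.orderOf_mem g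
  · simp at hm; rcases hm with rfl | rfl | rfl | rfl <;> simp [cnt_one', c2, c3, c5]

set_option maxHeartbeats 1000000 in
lemma nse_six : (fun m : ℕ => cnt (A 6) m) '' Set.range (orderOf : A 6 → ℕ) =
    {x | x = 1 ∨ x = 45 ∨ x ∈ ev_six} := by
  have hp : ∀ g : A 6, g ^ 2 = 1 ∨ g ^ 3 = 1 ∨ g ^ 4 = 1 ∨ g ^ 5 = 1 := by decide +kernel
  have c2 : cnt (A 6) 2 = 45 := cnt_prime 2 45 Nat.prime_two (by decide +kernel)
  have c3 : cnt (A 6) 3 = 80 := cnt_prime 3 80 Nat.prime_three (by decide +kernel)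
  have c5 : cnt (A 6) 5 = 144 := cnt_prime 5 144 (by norm_num) (by decide +kernel)
  have c4 : cnt (A 6) 4 = 90 := by
    have h := card_pow_eq_sum (G := A 6) (k := 4) (by norm_num)
    rw [show Nat.divisors 4 = {1, 2, 4} by decide, Finset.sum_insert (by decide),
      Finset.sum_pair (by decide), Nat.card_eq_fintype_card, Fintype.card_subtype,
      show (Finset.univ.filter fun g : A 6 => g ^ 4 = 1).card = 136 by decide +kernel,
      cnt_one', c2] at h
    omega
  rw [nse_of_orders (A 6) [1, 2, 3, 4, 5] (fun g => orderOf_mem_of_pow g (hp g)) (fun m hm => ?_)]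
  · simp [cnt_one', c2, c3, c4, c5, ev_six]
  · simp at hm; rcases hm with rfl | rfl | rfl | rfl | rfl <;> simp [cnt_one', c2, c3, c4, c5]

/-- A normal subgroup contains every element of order prime to its index. -/
lemma mem_of_coprime_index {G : Type*} [Group G] (H : Subgroup G) [H.Normal] (g : G) (p : ℕ)
    (hg : orderOf g = p) (hp : Nat.Coprime p H.index) : g ∈ H := by
  rw [← QuotientGroup.eq_one_iff, ← orderOf_eq_one_iff]
  refine Nat.eq_one_of_dvd_coprimes hp ?_ (orderOf_dvd_natCard (g : G ⧸ H))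
  rw [← hg]
  exact orderOf_map_dvd (QuotientGroup.mk' H) g

lemma cnt_le_of_coprime {G : Type*} [Group G] [Finite G] (H : Subgroup G) [H.Normal] (l : List ℕ)
    (hl : l.Nodup) (hco : ∀ p ∈ l, Nat.Coprime p H.index) :
    (l.map (cnt G)).sum ≤ Nat.card H := by
  classical
  haveI := Fintype.ofFinite G
  rw [← List.sum_toFinset _ hl]
  have e : ∀ p, cnt G p = (Finset.univ.filter fun g : G => orderOf g = p).card := fun p => by
    rw [cnt, Nat.card_eq_fintype_card, Fintype.card_subtype]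
  simp only [e]
  rw [← Finset.card_biUnion]
  · rw [Nat.card_eq_fintype_card, Fintype.card_subtype]
    refine Finset.card_le_card fun g hg => ?_
    simp only [Finset.mem_biUnion, List.mem_toFinset, Finset.mem_filter, Finset.mem_univ,
      true_and] at hg ⊢
    obtain ⟨p, hp, hg⟩ := hg
    exact mem_of_coprime_index H g p hg (hco p hp)
  · intro a _ b _ hab
    simp only [Function.onFun, Finset.disjoint_left, Finset.mem_filter, Finset.mem_univ, true_and]
    intro g h1 h2
    exact hab (h1 ▸ h2)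

/-- An element of order five acts fixed point freely on a normal subgroup. -/
lemma card_mod_five {G : Type*} [Group G] [Finite G]
    (h5 : cnt G 5 ≠ 0) (hor : ∀ m, cnt G m ≠ 0 → m ≤ 5)
    (H : Subgroup G) [H.Normal] (hH : Nat.card H % 5 ≠ 0) (q : ℕ) :
    Nat.card {h : H // orderOf h = q} % 5 = if q = 1 then 1 else 0 := by
  classical
  haveI := Fintype.ofFinite G
  by_cases hq : q = 1
  · subst hq
    rw [if_pos rfl, show Nat.card {h : H // orderOf h = 1} = 1 from cnt_one' H]
  rw [if_neg hq]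
  obtain ⟨x, hx⟩ := cnt_ne_zero_iff.1 h5
  haveI := Fact.mk (show Nat.Prime 5 by norm_num)
  let φ : Equiv.Perm {h : H // orderOf h = q} :=
    (MulAut.conjNormal x : MulAut H).toEquiv.subtypeEquiv fun h => by
      rw [show ((MulAut.conjNormal x : MulAut H).toEquiv h) = (MulAut.conjNormal x : MulAut H) h
        from rfl, MulEquiv.orderOf_eq]
  have hpow : φ ^ 5 = 1 := by
    have hx5 : x ^ 5 = 1 := hx ▸ pow_orderOf_eq_one x
    ext h
    show ((((φ ^ 5) h).1 : H) : G) = ((h.1 : H) : G)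
    simp only [pow_succ, pow_zero, one_mul, Equiv.Perm.coe_mul, Function.comp_apply]
    simp only [φ, Equiv.subtypeEquiv_apply, MulEquiv.toEquiv_eq_coe, MulEquiv.coe_toEquiv,
      MulAut.conjNormal_apply]
    calc _ = x ^ 5 * ((h.1 : H) : G) * (x ^ 5)⁻¹ := by
            simp only [pow_succ, pow_zero, one_mul, mul_assoc, mul_inv_rev]
      _ = _ := by rw [hx5]; group
  by_contra hne
  have hnd : ¬ 5 ∣ Fintype.card {h : H // orderOf h = q} := by
    rw [← Nat.card_eq_fintype_card]; omega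
  obtain ⟨a, ha⟩ := Equiv.Perm.exists_fixed_point_of_prime (p := 5) (n := 1) hnd (by simpa using hpow)
  have hc : x * ((a.1 : H) : G) = ((a.1 : H) : G) * x := by
    have := congrArg (fun z : {h : H // orderOf h = q} => ((z.1 : H) : G)) ha
    simp only [φ, Equiv.subtypeEquiv_apply, MulEquiv.toEquiv_eq_coe, MulEquiv.coe_toEquiv,
      MulAut.conjNormal_apply, mul_inv_eq_iff_eq_mul] at this
    exact this
  have hq5 : ¬ 5 ∣ q := fun h => by
    have := h.trans (a.2 ▸ orderOf_dvd_natCard a.1)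
    omega
  have hqa : orderOf ((a.1 : H) : G) = q := by rw [Subgroup.orderOf_coe, a.2]
  have hprod : orderOf (x * ((a.1 : H) : G)) = 5 * q := by
    rw [Commute.orderOf_mul_eq_mul_orderOf_of_coprime hc, hx, hqa]
    rw [hx, hqa]
    exact (Nat.prime_five.coprime_iff_not_dvd).2 hq5
  have := hor (5 * q) (cnt_ne_zero_iff.2 ⟨_, hprod⟩)
  have hq0 : 0 < q := hqa ▸ orderOf_pos _
  omega

lemma card_normal_mod_five {G : Type*} [Group G] [Finite G]
    (h5 : cnt G 5 ≠ 0) (hor : ∀ m, cnt G m ≠ 0 → m ≤ 5)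
    (H : Subgroup G) [H.Normal] (hH : Nat.card H % 5 ≠ 0) :
    Nat.card H % 5 = 1 := by
  have h := card_pow_eq_sum (G := H) (k := Nat.card H) Nat.card_pos.ne'
  have e : Nat.card {g : H // g ^ Nat.card H = 1} = Nat.card H :=
    Nat.card_congr (Equiv.subtypeUnivEquiv fun g => pow_card_eq_one')
  rw [e] at h
  rw [h, Finset.sum_nat_mod]
  have : ∀ d ∈ (Nat.card H).divisors, cnt H d % 5 = if d = 1 then 1 else 0 :=
    fun d _ => card_mod_five h5 hor H hH d
  rw [Finset.sum_congr rfl this, Finset.sum_ite_eq']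
  simp [Nat.card_pos.ne']

theorem simple_sixty {G : Type*} [Group G] [Finite G] (hN : Nat.card G = 60)
    (c3 : cnt G 3 = 20) (c5 : cnt G 5 = 24) (hor : ∀ m, cnt G m ≠ 0 → m ≤ 5) :
    IsSimpleGroup G := by
  haveI : Nontrivial G := Finite.one_lt_card_iff_nontrivial.1 (by omega)
  refine ⟨fun H hH => ?_⟩
  by_contra hc
  rw [not_or] at hc
  have hb : Nat.card H ≠ 1 := fun h => hc.1 (Subgroup.card_eq_one.1 h)
  have ht : Nat.card H ≠ 60 := fun h => hc.2 (Subgroup.eq_top_of_card_eq H (h.trans hN.symm))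
  have hmul := H.index_mul_card
  rw [hN] at hmul
  have hd : Nat.card H ∣ 60 := ⟨H.index, by rw [mul_comm, hmul]⟩
  have hidx : H.index = 60 / Nat.card H := by
    rw [← hmul, Nat.mul_div_cancel _ Nat.card_pos]
  have hm : ∀ p ∈ [3, 5], Nat.Coprime p (60 / Nat.card H) → cnt G p ≤ Nat.card H := by
    intro p _ h
    simpa using cnt_le_of_coprime H [p] (by simp) (by simpa [hidx] using h)
  have hb35 : (Nat.Coprime 3 (60 / Nat.card H) ∧ Nat.Coprime 5 (60 / Nat.card H)) →
      44 ≤ Nat.card H := by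
    intro h
    simpa [c3, c5] using cnt_le_of_coprime H [3, 5] (by simp) (by simpa [hidx] using h)
  have h3 := hm 3 (by simp)
  have h5' := hm 5 (by simp)
  rw [c3] at h3
  rw [c5] at h5'
  have key : ∀ d ∈ Nat.divisors 60, d = 1 ∨ d = 60 ∨ (Nat.gcd 3 (60 / d) = 1 ∧ d < 20) ∨
      (Nat.gcd 5 (60 / d) = 1 ∧ d < 24) ∨
      (Nat.gcd 3 (60 / d) = 1 ∧ Nat.gcd 5 (60 / d) = 1 ∧ d < 44) ∨
      (d % 5 ≠ 0 ∧ d % 5 ≠ 1) := by
    decide +kernel
  obtain ⟨k1, k2⟩ : Nat.card H % 5 ≠ 0 ∧ Nat.card H % 5 ≠ 1 := by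
    rcases key _ (Nat.mem_divisors.2 ⟨hd, by norm_num⟩) with
      k | k | ⟨k, k'⟩ | ⟨k, k'⟩ | ⟨k, k', k''⟩ | k
    · exact absurd k hb
    · exact absurd k ht
    · have := h3 k; omega
    · have := h5' k; omega
    · have := hb35 ⟨k, k'⟩; omega
    · exact k
  exact k2 (card_normal_mod_five (by omega) hor H k1)

theorem simple_threesixty {G : Type*} [Group G] [Finite G] (hN : Nat.card G = 360)
    (c3 : cnt G 3 = 80) (c5 : cnt G 5 = 144) (hor : ∀ m, cnt G m ≠ 0 → m ≤ 5) :
    IsSimpleGroup G := by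
  haveI : Nontrivial G := Finite.one_lt_card_iff_nontrivial.1 (by omega)
  refine ⟨fun H hH => ?_⟩
  by_contra hc
  rw [not_or] at hc
  have hb : Nat.card H ≠ 1 := fun h => hc.1 (Subgroup.card_eq_one.1 h)
  have ht : Nat.card H ≠ 360 := fun h => hc.2 (Subgroup.eq_top_of_card_eq H (h.trans hN.symm))
  have hmul := H.index_mul_card
  rw [hN] at hmul
  have hd : Nat.card H ∣ 360 := ⟨H.index, by rw [mul_comm, hmul]⟩
  have hidx : H.index = 360 / Nat.card H := by
    rw [← hmul, Nat.mul_div_cancel _ Nat.card_pos]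
  have h3 : Nat.Coprime 3 (360 / Nat.card H) → 80 ≤ Nat.card H := by
    intro h
    simpa [c3] using cnt_le_of_coprime H [3] (by simp) (by simpa [hidx] using h)
  have h5' : Nat.Coprime 5 (360 / Nat.card H) → 144 ≤ Nat.card H := by
    intro h
    simpa [c5] using cnt_le_of_coprime H [5] (by simp) (by simpa [hidx] using h)
  have h35 : (Nat.Coprime 3 (360 / Nat.card H) ∧ Nat.Coprime 5 (360 / Nat.card H)) →
      224 ≤ Nat.card H := by
    intro h
    simpa [c3, c5] using cnt_le_of_coprime H [3, 5] (by simp) (by simpa [hidx] using h)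
  have key : ∀ d ∈ Nat.divisors 360, d = 1 ∨ d = 360 ∨ (Nat.gcd 3 (360 / d) = 1 ∧ d < 80) ∨
      (Nat.gcd 5 (360 / d) = 1 ∧ d < 144) ∨
      (Nat.gcd 3 (360 / d) = 1 ∧ Nat.gcd 5 (360 / d) = 1 ∧ d < 224) ∨
      (d % 5 ≠ 0 ∧ (d % 5 ≠ 1 ∨ d = 6)) := by
    decide +kernel
  obtain ⟨k1, k2⟩ : Nat.card H % 5 ≠ 0 ∧ (Nat.card H % 5 = 1 → Nat.card H = 6) := by
    rcases key _ (Nat.mem_divisors.2 ⟨hd, by norm_num⟩) with
      k | k | ⟨k, k'⟩ | ⟨k, k'⟩ | ⟨k, k', k''⟩ | ⟨k, k'⟩
    · exact absurd k hb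
    · exact absurd k ht
    · have := h3 k; omega
    · have := h5' k; omega
    · have := h35 ⟨k, k'⟩; omega
    · exact ⟨k, fun h => k'.resolve_left (fun h' => h' h)⟩
  have h6 := k2 (card_normal_mod_five (by omega) hor H k1)
  have hz := card_mod_five (by omega) hor H k1 3
  rw [if_neg (by norm_num)] at hz
  -- a group of order six has exactly two elements of order three
  have htwo : cnt H 3 = 2 := by
    have hdvd : Nat.totient 3 ∣ cnt H 3 := FrobeniusCount72.totient_dvd_card_orderOf 3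
    haveI := Fact.mk Nat.prime_three
    obtain ⟨y, hy⟩ := exists_prime_orderOf_dvd_card' (G := H) 3 (by rw [h6]; norm_num)
    have hne : cnt H 3 ≠ 0 := cnt_ne_zero_iff.2 ⟨y, hy⟩
    have hindex : (Subgroup.zpowers y).index = 2 := by
      have := (Subgroup.zpowers y).index_mul_card
      rw [Nat.card_zpowers, hy, h6] at this
      omega
    haveI := Subgroup.normal_of_index_eq_two hindex
    classical
    haveI := Fintype.ofFinite H
    have hle : cnt H 3 + 1 ≤ 3 := by
      calc cnt H 3 + 1 = Nat.card {g : H // g ^ 3 = 1} := by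
            rw [card_pow_eq_sum (by norm_num : (3 : ℕ) ≠ 0), Nat.prime_three.divisors,
              Finset.sum_pair (by norm_num), cnt_one']
            ring
        _ ≤ Nat.card (Subgroup.zpowers y) := by
            refine Nat.card_le_card_of_injective (fun g => ⟨g.1, ?_⟩) fun a b h =>
              Subtype.ext (congrArg (fun z => z.1) h)
            rcases (Nat.dvd_prime Nat.prime_three).1 (orderOf_dvd_of_pow_eq_one g.2) with h | h
            · rw [orderOf_eq_one_iff.1 h]; exact one_mem _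
            · exact mem_of_coprime_index _ _ 3 h (by rw [hindex]; norm_num)
        _ = 3 := by rw [Nat.card_zpowers, hy]
    rw [Nat.totient_prime Nat.prime_three] at hdvd
    omega
  rw [show Nat.card {h : H // orderOf h = 3} = 2 from htwo] at hz
  omega

theorem four_iso {G : Type*} [Group G] [Finite G] (hN : Nat.card G = 12)
    (c3 : cnt G 3 = 8) : Nonempty (G ≃* A 4) := by
  classical
  haveI := Fintype.ofFinite G
  obtain ⟨y, hy⟩ := cnt_ne_zero_iff.1 (show cnt G 3 ≠ 0 by omega)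
  set P := Subgroup.zpowers y with hP
  have hPc : Nat.card P = 3 := by rw [hP, Nat.card_zpowers, hy]
  have hi : P.index = 4 := by
    have := P.index_mul_card
    rw [hPc, hN] at this
    omega
  have hcore : P.normalCore = ⊥ := by
    haveI : Fact (Nat.card P).Prime := ⟨hPc ▸ Nat.prime_three⟩
    rcases (P.normalCore.subgroupOf P).eq_bot_or_eq_top_of_prime_card with h | h
    · exact disjoint_self.1 ((Subgroup.subgroupOf_eq_bot.1 h).mono le_rfl P.normalCore_le)
    · exfalso
      have hle : P ≤ P.normalCore := Subgroup.subgroupOf_eq_top.1 h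
      haveI : P.Normal := by
        rw [← le_antisymm P.normalCore_le hle]; exact P.normalCore_normal
      have := cnt_le_of_coprime P [3] (by simp) (by simp [hi]; norm_num)
      simp only [List.map_cons, List.map_nil, List.sum_cons, List.sum_nil, c3, hPc] at this
      omega
  haveI : Fintype (G ⧸ P) := Fintype.ofFinite _
  have hq : Fintype.card (G ⧸ P) = Fintype.card (Fin 4) := by
    rw [← Nat.card_eq_fintype_card, Fintype.card_fin]; exact hi
  let e := Fintype.equivOfCardEq hq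
  let f : G →* Equiv.Perm (Fin 4) :=
    e.permCongrHom.toMonoidHom.comp (MulAction.toPermHom G (G ⧸ P))
  have hf : Function.Injective f := by
    refine e.permCongrHom.injective.comp ((MonoidHom.ker_eq_bot_iff _).1 ?_)
    rw [← Subgroup.normalCore_eq_ker, hcore]
  have hri : f.range.index = 2 := by
    have := f.range.index_mul_card
    rw [← Nat.card_congr (MonoidHom.ofInjective hf).toEquiv, hN, Nat.card_perm,
      Nat.card_fin, show Nat.factorial 4 = 24 from rfl] at this
    omega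
  exact ⟨(MonoidHom.ofInjective hf).trans
    (MulEquiv.subgroupCongr (Equiv.Perm.eq_alternatingGroup_of_index_eq_two hri))⟩
/-- Let n be 4, 5 or 6 and let G be a finite group whose set of sizes of same-order classes (the set of numbers #{g : o(g) = m} over the element orders m of G) equals that of the alternating group of degree n. Then G is isomorphic to that alternating group. -/
theorem result {G : Type*} [Group G] [Finite G] (n : ℕ) (hn : n = 4 ∨ n = 5 ∨ n = 6)
    (h : ((fun m : ℕ => Nat.card {g : G // orderOf g = m}) '' Set.range (orderOf : G → ℕ)) = ((fun m : ℕ => Nat.card {g : ↥(alternatingGroup (Fin n)) // orderOf g = m}) '' Set.range (orderOf : ↥(alternatingGroup (Fin n)) → ℕ))) :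
    Nonempty (G ≃* ↥(alternatingGroup (Fin n))) := by
  have hs : (fun m : ℕ => cnt G m) '' Set.range (orderOf : G → ℕ) =
      (fun m : ℕ => cnt (A n) m) '' Set.range (orderOf : A n → ℕ) := h
  rcases hn with rfl | rfl | rfl
  · rw [nse_four] at hs
    obtain ⟨hN, hmem⟩ := counts 3 ev_four cands_four rows_four target_four hs rfl (by norm_num)
      (by decide) (by decide +kernel) (by decide) (by decide +kernel) (by decide) chk_four go_four
    refine four_iso (hN.trans (by decide)) ?_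
    haveI := Fact.mk Nat.prime_three
    have h3 : cnt G 3 ≠ 0 :=
      cnt_ne_zero_iff.2 (exists_prime_orderOf_dvd_card' 3 (by rw [hN]; decide))
    simpa [target_four] using hmem 3 h3
  · rw [nse_five] at hs
    obtain ⟨hN, hmem⟩ := counts 15 ev_five cands_five rows_five target_five hs rfl (by norm_num)
      (by decide) (by decide +kernel) (by decide) (by decide +kernel) (by decide) chk_five go_five
    haveI := Fact.mk Nat.prime_three
    haveI := Fact.mk (show Nat.Prime 5 by norm_num)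
    have h3 : cnt G 3 ≠ 0 :=
      cnt_ne_zero_iff.2 (exists_prime_orderOf_dvd_card' 3 (by rw [hN]; decide))
    have h5 : cnt G 5 ≠ 0 :=
      cnt_ne_zero_iff.2 (exists_prime_orderOf_dvd_card' 5 (by rw [hN]; decide))
    have hN' : Nat.card G = 60 := hN.trans (by decide)
    have hor : ∀ m, cnt G m ≠ 0 → m ≤ 5 := fun m hm => by
      have := hmem m hm
      simp [target_five] at this
      omega
    haveI := simple_sixty hN' (by simpa [target_five] using hmem 3 h3)
      (by simpa [target_five] using hmem 5 h5) hor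
    exact S0494.result hN'
  · rw [nse_six] at hs
    obtain ⟨hN, hmem⟩ := counts 45 ev_six cands_six rows_six target_six hs rfl (by norm_num)
      (by decide) (by decide +kernel) (by decide) (by decide +kernel) (by decide) chk_six go_six
    haveI := Fact.mk Nat.prime_three
    haveI := Fact.mk (show Nat.Prime 5 by norm_num)
    have h3 : cnt G 3 ≠ 0 :=
      cnt_ne_zero_iff.2 (exists_prime_orderOf_dvd_card' 3 (by rw [hN]; decide))
    have h5 : cnt G 5 ≠ 0 :=
      cnt_ne_zero_iff.2 (exists_prime_orderOf_dvd_card' 5 (by rw [hN]; decide))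
    have hN' : Nat.card G = 360 := hN.trans (by decide)
    have hor : ∀ m, cnt G m ≠ 0 → m ≤ 5 := fun m hm => by
      have := hmem m hm
      simp [target_six] at this
      omega
    haveI := simple_threesixty hN' (by simpa [target_six] using hmem 3 h3)
      (by simpa [target_six] using hmem 5 h5) hor
    exact S0497.result hN'

end Cfsg.Agent.S3431
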