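import Cfsg.Statements.S3433
import Cfsg.Agent.Lib.SpectrumFive57Main
import Cfsg.Agent.Lib.PrimeGraphSolvable
import Cfsg.Agent.Lib.PSLCard
import Cfsg.Agent.S3331

set_option autoImplicit false
open Cfsg

namespace Cfsg.Agent.S3433

/-- A finite group whose set of element orders is exactly {1, 2, 3, 4, 5} is isomorphic to the alternating group of degree 6, or has a normal elementary abelian 2-subgroup with quotient isomorphic to the alternating group of degree 5. -/
theorem result {G : Type*} [Group G] [Finite G] (h : Set.range (orderOf : G → ℕ) = {k : ℕ | 1 ≤ k ∧ k ≤ 5}) :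
    Nonempty (G ≃* ↥(alternatingGroup (Fin 6))) ∨
      ∃ (N : Subgroup G) (_ : N.Normal), Cfsg.IsElementaryAbelian 2 N ∧ Nonempty (G ⧸ N ≃* ↥(alternatingGroup (Fin 5))) := by
  classical
  have hs : SpectrumFive57Local.Spec G := fun g => by
    have hg := Set.mem_range_self (f := (orderOf : G → ℕ)) g
    rw [h] at hg
    exact hg.2
  have hdvd : ∀ k, 1 ≤ k → k ≤ 5 → k ∣ Nat.card G := fun k h1 h2 => by
    obtain ⟨g, hg⟩ : k ∈ Set.range (orderOf : G → ℕ) := by rw [h]; exact ⟨h1, h2⟩
    exact hg ▸ orderOf_dvd_natCard g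
  have h2 := hdvd 2 (by norm_num) (by norm_num)
  have h3 := hdvd 3 (by norm_num) (by norm_num)
  have h5 := hdvd 5 (by norm_num) (by norm_num)
  haveI := Fact.mk Nat.prime_three
  obtain ⟨P⟩ : Nonempty (Sylow 3 G) := inferInstance
  by_cases hP : 9 ≤ Nat.card (P : Subgroup G)
  · exact Or.inl (SpectrumFive57Main.iso_A6 hs (SpectrumFive57Main.radical hs h2 h3 h5 P hP) h2 h3 h5 P hP)
  right
  have hnsol : ¬ Group.IsSolvable G := fun hsol => by
    haveI := hsol
    exact PrimeGraphSolvable.no_three_coclique (G := G) Nat.prime_two Nat.prime_three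
      (show Nat.Prime 5 by norm_num) (by norm_num) (by norm_num) (by norm_num) h2 h3 h5
      (fun x hx => by have := hs x; omega) (fun x hx => by have := hs x; omega)
      (fun x hx => by have := hs x; omega)
  have hP3 : Nat.card (P : Subgroup G) = 3 := by
    obtain ⟨k, hk⟩ := IsPGroup.iff_card.1 P.isPGroup'
    have h' := P.dvd_card_of_dvd_card h3
    rw [hk] at h' hP ⊢
    rcases k with _ | _ | k
    · norm_num at h'
    · norm_num
    · exact absurd ((show 9 = 3 ^ 2 by norm_num) ▸ Nat.pow_le_pow_right (by norm_num) (by omega)) hP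
  have hC : Subgroup.centralizer ((P : Subgroup G) : Set G) = (P : Subgroup G) := by
    obtain ⟨u, hu, hu1⟩ := (P : Subgroup G).bot_or_exists_ne_one.resolve_left (P.ne_bot_of_dvd_card h3)
    refine le_antisymm (fun g hg => SpectrumFive57Local.centralizer_le_sylow hs (Or.inl rfl) P hu hu1
      (Subgroup.mem_centralizer_iff.1 hg u hu).symm) fun v hv => Subgroup.mem_centralizer_iff.2 fun w hw => ?_
    haveI : IsCyclic (P : Subgroup G) := isCyclic_of_prime_card (p := 3) hP3
    letI := IsCyclic.commGroup (α := (P : Subgroup G))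
    exact congrArg Subtype.val (mul_comm (⟨w, hw⟩ : (P : Subgroup G)) ⟨v, hv⟩)
  rcases S3331.result (P : Subgroup G) hP3 hC with ⟨N, hN, hnil, -, hq⟩ | ⟨N, hN, hc, hsq, he⟩ | ⟨⟨e⟩⟩
  · exfalso
    haveI := hN
    haveI := hnil
    have hp3 : Group.IsSolvable (Equiv.Perm (Fin 3)) := by
      haveI : Group.IsSolvable (alternatingGroup (Fin 3)) := Group.isSolvable_of_comm (by decide)
      exact Group.isSolvable_of_ker_le_range (alternatingGroup (Fin 3)).subtype Equiv.Perm.sign
        (fun x hx => ⟨⟨x, hx⟩, rfl⟩)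
    haveI hqs : Group.IsSolvable (G ⧸ N) := by
      rcases hq with hq | ⟨⟨e⟩⟩
      · haveI : IsCyclic (G ⧸ N) := isCyclic_of_prime_card (p := 3) hq
        exact Group.isSolvable_of_comm fun a b => IsCyclic.commGroup.mul_comm a b
      · exact Group.isSolvable_of_isSolvable_injective (f := e.toMonoidHom) e.injective
    exact hnsol (Group.isSolvable_of_ker_le_range N.subtype (QuotientGroup.mk' N) (by simp))
  · exact ⟨N, hN, ⟨hc, hsq⟩, he⟩
  · exfalso
    haveI : Fact (Nat.Prime 7) := ⟨by norm_num⟩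
    have h7 : 7 ∣ Nat.card G := by
      rw [Nat.card_congr e.toEquiv, PSLCard.card_PSL2, Nat.card_zmod]
      norm_num
    obtain ⟨g, hg⟩ := exists_prime_orderOf_dvd_card' 7 h7
    have := hs g
    omega

end Cfsg.Agent.S3433
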