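import Cfsg.Statements.S3439
import Cfsg.Agent.Lib.SpectrumPSpFourThree59
import Cfsg.Agent.Lib.PSp4Orders

set_option autoImplicit false
open Cfsg

namespace Cfsg.Agent.S3439

/-- There is a finite solvable group with exactly the same set of element orders as the simple group PSp(4,3). -/
theorem result {F : Type*} [Field F] [Fintype F] (hF : Fintype.card F = 3) :
    ∃ (H : Type) (_ : Group H) (_ : Fintype H), Group.IsSolvable H ∧ Set.range (orderOf : H → ℕ) = Set.range (orderOf : Cfsg.PSp 2 F → ℕ) := by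
  haveI : Fact (Nat.Prime 3) := ⟨Nat.prime_three⟩
  haveI : CharP F 3 := charP_of_card_eq_prime_pow (f := 1) (by rw [hF, pow_one])
  let K := GaloisField 3 4
  haveI : Finite K := inferInstanceAs (Finite (GaloisField 3 4))
  letI : Fintype K := Fintype.ofFinite K
  have hK : Fintype.card K = 81 := by
    rw [← Nat.card_eq_fintype_card, GaloisField.card 3 4 (by norm_num)]; norm_num
  have h81 : ∀ s : K, s ^ 81 = s := fun s => by rw [← hK]; exact FiniteField.pow_card s
  haveI : Fact (Nat.Prime 5) := ⟨Nat.prime_five⟩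
  obtain ⟨ζ, hζ⟩ := exists_prime_orderOf_dvd_card' (G := Kˣ) 5
    (by rw [Nat.card_units, Nat.card_eq_fintype_card, hK]; norm_num)
  have hζ5 : (ζ : K) ^ 5 = 1 := by rw [← Units.val_pow_eq_pow_val, ← hζ, pow_orderOf_eq_one, Units.val_one]
  have hζ1 : (ζ : K) ≠ 1 := fun h => by
    rw [Units.val_eq_one.1 h, orderOf_one] at hζ; norm_num at hζ
  haveI : Finite (SpectrumPSpFourThree59.Grp h81) :=
    Finite.of_equiv _ SemidirectProduct.equivProd.symm
  refine ⟨SpectrumPSpFourThree59.Grp h81, inferInstance, Fintype.ofFinite _,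
    SpectrumPSpFourThree59.grp_solvable h81, Set.ext fun d => ?_⟩
  rw [Set.mem_range, Set.mem_range, PSp4Orders.exists_orderOf_iff 3 d, hF]
  have hexps : ∀ k, k ∈ PSp4Orders.exps 3 3 ↔ k = 5 ∨ k = 4 ∨ k = 12 ∨ k = 6 ∨ k = 9 := fun k => by
    simp [PSp4Orders.exps, PSp4Orders.gfac, PSp4Orders.extra]
  constructor
  · rintro ⟨g, rfl⟩
    rcases SpectrumPSpFourThree59.order_cases h81 g with h | h | h
    · exact ⟨5, (hexps 5).2 (by tauto), orderOf_dvd_of_pow_eq_one h⟩
    · exact ⟨9, (hexps 9).2 (by tauto), orderOf_dvd_of_pow_eq_one h⟩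
    · exact ⟨12, (hexps 12).2 (by tauto), orderOf_dvd_of_pow_eq_one h⟩
  · rintro ⟨k, hk, hd⟩
    obtain ⟨⟨g5, h5⟩, ⟨g9, h9⟩, ⟨g12, h12⟩⟩ :=
      SpectrumPSpFourThree59.exists_orders h81 (ζ : K) hζ5 hζ1
    have key : ∀ (g : SpectrumPSpFourThree59.Grp h81) (n : ℕ), orderOf g = n → d ∣ n →
        ∃ x : SpectrumPSpFourThree59.Grp h81, orderOf x = d :=
      fun g n hg hdn => ⟨_, orderOf_pow_orderOf_div (orderOf_pos g).ne' (hg.symm ▸ hdn)⟩
    rcases (hexps k).1 hk with rfl | rfl | rfl | rfl | rfl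
    · exact key g5 5 h5 hd
    · exact key g12 12 h12 (hd.trans (by norm_num))
    · exact key g12 12 h12 hd
    · exact key g12 12 h12 (hd.trans (by norm_num))
    · exact key g9 9 h9 hd

end Cfsg.Agent.S3439
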