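import Mathlib
import Cfsg.Agent.Lib.A5Orders

set_option autoImplicit false

namespace Cfsg.Agent.S3448
open Cfsg.Agent.A5Orders

theorem result : Set.range (orderOf : alternatingGroup (Fin 5) × alternatingGroup (Fin 5) → ℕ) = {1, 2, 3, 5, 6, 10, 15} := by
  ext n
  simp only [Set.mem_range, Set.mem_insert_iff, Set.mem_singleton_iff]
  constructor
  · rintro ⟨⟨a, b⟩, rfl⟩
    rw [Prod.orderOf]
    have h : ∀ i ∈ ({1, 2, 3, 5} : Finset ℕ), ∀ j ∈ ({1, 2, 3, 5} : Finset ℕ),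
        Nat.lcm i j ∈ ({1, 2, 3, 5, 6, 10, 15} : Finset ℕ) := by decide
    simpa using h _ (orderOf_mem a) _ (orderOf_mem b)
  · intro hn
    have h : ∀ n ∈ ({1, 2, 3, 5, 6, 10, 15} : Finset ℕ), ∃ i ∈ ({1, 2, 3, 5} : Finset ℕ),
        ∃ j ∈ ({1, 2, 3, 5} : Finset ℕ), Nat.lcm i j = n := by decide
    obtain ⟨i, hi, j, hj, hij⟩ := h n (by simpa using hn)
    obtain ⟨a, ha⟩ := exists_orderOf hi
    obtain ⟨b, hb⟩ := exists_orderOf hj
    exact ⟨(a, b), by rw [Prod.orderOf, ha, hb, hij]⟩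

end Cfsg.Agent.S3448
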