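import Mathlib
import Cfsg.Agent.Lib.A5Orders

set_option autoImplicit false

namespace Cfsg.Agent.S3449
open Cfsg.Agent.A5Orders

theorem result : Set.range (orderOf : alternatingGroup (Fin 5) × alternatingGroup (Fin 5) × alternatingGroup (Fin 5) → ℕ) =
      Set.range (orderOf : Multiplicative (ZMod 30) → ℕ) := by
  have hcard : Nat.card (Multiplicative (ZMod 30)) = 30 := by
    simp [Nat.card_eq_fintype_card]
  ext n
  constructor
  · rintro ⟨⟨a, b, c⟩, rfl⟩
    rw [Prod.orderOf, Prod.orderOf]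
    have h : ∀ i ∈ ({1, 2, 3, 5} : Finset ℕ), ∀ j ∈ ({1, 2, 3, 5} : Finset ℕ), ∀ k ∈ ({1, 2, 3, 5} : Finset ℕ),
        Nat.lcm i (Nat.lcm j k) ∈ ({1, 2, 3, 5, 6, 10, 15, 30} : Finset ℕ) := by decide
    have h' := h _ (orderOf_mem a) _ (orderOf_mem b) _ (orderOf_mem c)
    have hd : (orderOf a).lcm ((orderOf b).lcm (orderOf c)) ∣ Nat.card (Multiplicative (ZMod 30)) := by
      rw [hcard]
      simp only [Finset.mem_insert, Finset.mem_singleton] at h'
      rcases h' with e | e | e | e | e | e | e | e <;> rw [e] <;> norm_num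
    obtain ⟨g, hg⟩ := IsCyclic.exists_ofOrder_eq_natCard (α := Multiplicative (ZMod 30))
    refine ⟨g ^ (Nat.card (Multiplicative (ZMod 30)) / ((orderOf a).lcm ((orderOf b).lcm (orderOf c)))), ?_⟩
    have := orderOf_pow_orderOf_div (x := g) (by rw [hg, hcard]; norm_num) (hg ▸ hd)
    rwa [hg] at this
  · rintro ⟨g, rfl⟩
    have hd : orderOf g ∣ 30 := by
      have h30 := orderOf_dvd_natCard g
      rw [hcard] at h30
      exact h30
    have h : ∀ n ∈ Nat.divisors 30, ∃ i ∈ ({1, 2, 3, 5} : Finset ℕ),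
        ∃ j ∈ ({1, 2, 3, 5} : Finset ℕ), ∃ k ∈ ({1, 2, 3, 5} : Finset ℕ), Nat.lcm i (Nat.lcm j k) = n := by decide
    obtain ⟨i, hi, j, hj, k, hk, hijk⟩ := h _ (Nat.mem_divisors.2 ⟨hd, by norm_num⟩)
    obtain ⟨a, ha⟩ := exists_orderOf hi
    obtain ⟨b, hb⟩ := exists_orderOf hj
    obtain ⟨c, hc⟩ := exists_orderOf hk
    exact ⟨(a, b, c), by rw [Prod.orderOf, Prod.orderOf, ha, hb, hc, hijk]⟩

end Cfsg.Agent.S3449
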