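import Cfsg.Statements.S3452
import Mathlib
import Cfsg.Agent.Lib.PGL2Orders
import Cfsg.Agent.Lib.IsospectralPSL2
import Cfsg.Agent.Lib.IsospectralPGL29
import Cfsg.Agent.Lib.PSLCard
import Cfsg.Agent.Lib.CharInducedBurnside
import Cfsg.Agent.S3444

set_option autoImplicit false
open Cfsg

namespace Cfsg.Agent.S3452

/-- For F a finite field whose number of elements is a prime or equals 9, the group PGL(2,F) = GL(2,F)/Z(GL(2,F)) is not determined by its set of element orders: for every bound N there is a finite group of order greater than N with exactly the same set of element orders as PGL(2,F). -/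
theorem result {F : Type*} [Field F] [Fintype F] (hF : (Fintype.card F).Prime ∨ Fintype.card F = 9) (N : ℕ) :
    ∃ (H : Type) (_ : Group H) (_ : Fintype H), N < Fintype.card H ∧
      Set.range (orderOf : H → ℕ) = Set.range (orderOf : Matrix.GeneralLinearGroup (Fin 2) F ⧸ Subgroup.center (Matrix.GeneralLinearGroup (Fin 2) F) → ℕ) := by
  obtain ⟨p, hp⟩ := CharP.exists F
  obtain ⟨n, hpp, hn⟩ := FiniteField.card F p
  haveI := Fact.mk hpp
  have hspec := PGL2Orders.range_orderOf_pgl2 (F := F) p
  have hprime : (Fintype.card F).Prime → Fintype.card F = p := by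
    intro h
    exact ((Nat.prime_dvd_prime_iff_eq hpp h).1 (by rw [hn]; exact dvd_pow_self p n.pos.ne')).symm
  rcases hF with h | h
  · have hq := hprime h
    by_cases h5 : 5 ≤ p
    · obtain ⟨H, i1, i2, h1, h2⟩ := IsospectralPSL2.exists_large (p := p) h5 N
      refine ⟨H, i1, i2, h1, ?_⟩
      rw [h2, hspec, hq]
    · -- `p` is 2 or 3 and the group is solvable
      have h23 : p = 2 ∨ p = 3 := by
        have := hpp.two_le
        rcases hpp.eq_two_or_odd with h' | h' <;> omega
      have hsol : Group.IsSolvable (GL (Fin 2) F) := by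
        have hc := PSLCard.card_GL (F := F) 2
        rw [Fin.prod_univ_two, Nat.card_eq_fintype_card (α := F), hq] at hc
        rcases h23 with rfl | rfl
        · exact CharInduced.solvable_of_card_two_primes 2 3 1 1 Nat.prime_two Nat.prime_three
            (by rw [hc]; decide)
        · exact CharInduced.solvable_of_card_two_primes 2 3 4 1 Nat.prime_two Nat.prime_three
            (by rw [hc]; decide)
      haveI := hsol
      haveI hQ : Group.IsSolvable
          (GL (Fin 2) F ⧸ Subgroup.center (GL (Fin 2) F)) := inferInstance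
      haveI : Nontrivial (GL (Fin 2) F ⧸ Subgroup.center (GL (Fin 2) F)) := by
        obtain ⟨⟨x, hx⟩, -, -⟩ := PGL2Orders.exists_orders (F := F) p
        refine ⟨x, 1, fun hx1 => ?_⟩
        rw [hx1, orderOf_one] at hx
        exact hpp.one_lt.ne hx
      exact S3444.result (⊤ : Subgroup (GL (Fin 2) F ⧸ Subgroup.center (GL (Fin 2) F))) top_ne_bot
        inferInstance N
  · have hp3 : p = 3 :=
      (Nat.prime_dvd_prime_iff_eq hpp Nat.prime_three).1 (hpp.dvd_of_dvd_pow (n := 2)
        (by rw [show (3 : ℕ) ^ 2 = 9 from rfl, ← h, hn]; exact dvd_pow_self p n.pos.ne'))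
    obtain ⟨H, i1, i2, h1, h2⟩ := IsospectralPGL29.exists_large N
    refine ⟨H, i1, i2, h1, ?_⟩
    rw [h2, hspec, h, hp3]

end Cfsg.Agent.S3452
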