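import Cfsg.Statements.S3466
import Mathlib
import Cfsg.Agent.Lib.PSp4Orders
import Cfsg.Agent.Lib.IsospectralPSp4Odd
import Cfsg.Agent.Lib.IsospectralPSp4Three

set_option autoImplicit false
open Cfsg

namespace Cfsg.Agent.S3466

open PSp4Orders IsospectralPSp4

/-- Let F be a finite field with q ≥ 3 elements such that q is not of the form 3^(2t+1) with t ≥ 1. Then PSp(4,F) is not determined by its set of element orders, not even up to finitely many groups: for every bound N there is a finite group of order greater than N with exactly the same set of element orders as PSp(4,F). -/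
theorem result {F : Type*} [Field F] [Fintype F] (h3 : 3 ≤ Fintype.card F) (hq : ∀ t : ℕ, 1 ≤ t → Fintype.card F ≠ 3 ^ (2 * t + 1)) (N : ℕ) :
    ∃ (H : Type) (_ : Group H) (_ : Fintype H), N < Fintype.card H ∧ Set.range (orderOf : H → ℕ) = Set.range (orderOf : Cfsg.PSp 2 F → ℕ) := by
  obtain ⟨p, hp⟩ := CharP.exists F
  obtain ⟨⟨n, hn0⟩, hpp, hn⟩ := FiniteField.card F p
  simp only [PNat.mk_coe] at hn
  haveI := Fact.mk hpp
  suffices ∃ (H : Type) (_ : Group H) (_ : Fintype H), N < Fintype.card H ∧
      ∀ d, (∃ x : H, orderOf x = d) ↔ ∃ m ∈ exps p (p ^ n), d ∣ m by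
    obtain ⟨H, i1, i2, hN, hH⟩ := this
    refine ⟨H, i1, i2, hN, Set.ext fun d => ?_⟩
    rw [Set.mem_range, Set.mem_range, exists_orderOf_iff p d, hn]
    exact hH d
  let K := GaloisField p (2 * n)
  haveI : Finite K := inferInstanceAs (Finite (GaloisField p (2 * n)))
  letI : Fintype K := Fintype.ofFinite K
  have hb : Big p K n := ⟨by rw [GaloisField.card p (2 * n) (by omega), ← pow_mul, mul_comm], hn0⟩
  rcases eq_or_ne p 2 with rfl | h2
  · exact exists_large_two hb N
  rcases eq_or_ne p 3 with rfl | hp3
  · rcases Nat.even_or_odd n with he | ⟨t, ht⟩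
    · exact exists_large_three hb he N
    · obtain rfl : t = 0 := by
        by_contra h
        exact hq t (by omega) (by rw [hn, ht])
      subst ht
      exact IsospectralPSp4Three.exists_large N
  · have h4 : p ≠ 4 := by rintro rfl; norm_num at hpp
    exact IsospectralPSp4Odd.exists_large (by have := hpp.two_le; omega) hb N

end Cfsg.Agent.S3466
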