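import Cfsg.Agent.Lib.AffineFourSpectrum
import Cfsg.Statements.S3491

set_option autoImplicit false
open Cfsg

namespace Cfsg.Agent.S3491



/-- The alternating group of degree 6 is not determined by its set of element orders, not even up to finitely many groups: for every bound N there is a finite group of order greater than N with exactly the same set of element orders as the alternating group of degree 6. -/
theorem result (N : ℕ) : ∃ (H : Type) (_ : Group H) (_ : Fintype H), N < Fintype.card H ∧ Set.range (orderOf : H → ℕ) = Set.range (orderOf : alternatingGroup (Fin 6) → ℕ) := by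
  classical
  haveI : Fintype (GaloisField 2 2) := Fintype.ofFinite _
  have hF : Fintype.card (GaloisField 2 2) = 4 := by
    rw [← Nat.card_eq_fintype_card, GaloisField.card 2 2 (by norm_num)]; norm_num
  refine ⟨AffineFourSpectrum.power (GaloisField 2 2) (N + 1), inferInstance, Fintype.ofFinite _, ?_, ?_⟩
  · rw [← @Nat.card_eq_fintype_card _ (Fintype.ofFinite _)]
    refine lt_of_lt_of_le ?_ (AffineFourSpectrum.card_power hF (N + 1))
    exact Nat.lt_of_succ_le (Nat.lt_pow_self (by norm_num)).le
  · rw [AffineFourSpectrum.range_alt_six]
    exact AffineFourSpectrum.range_power hF N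

end Cfsg.Agent.S3491
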