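import Cfsg.Agent.Lib.ExtremelyPrimitive
import Cfsg.Agent.Lib.PermBasic
import Cfsg.Statements.S3495

set_option autoImplicit false
open Cfsg

namespace Cfsg.Agent.S3495



/-- Let a finite group G act faithfully and primitively on a finite set Ω with non-trivial point stabilizers, each acting primitively on every one of its orbits (an extremely primitive group), and suppose G has an elementary abelian normal p-subgroup N acting regularly on Ω (affine type). Then every non-trivial subgroup M of a point stabilizer G_α that is normal in G_α has the same orbits on Ω as G_α, and normalizes no subgroup of N other than 1 and N. -/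
theorem result {G : Type*} [Group G] [Finite G] {Ω : Type*} [Fintype Ω] [MulAction G Ω] [FaithfulSMul G Ω] (hprim : MulAction.IsPreprimitive G Ω) (hH : ∀ α : Ω, MulAction.stabilizer G α ≠ ⊥) (hep : ∀ (α : Ω) (ω : Ω), MulAction.IsPreprimitive (MulAction.stabilizer G α) (MulAction.orbit (MulAction.stabilizer G α) ω))
    (N : Subgroup G) [N.Normal] (hNc : IsMulCommutative N) (p : ℕ) (hp : p.Prime) (hNp : ∀ n ∈ N, n ^ p = 1)
    (hNtr : MulAction.IsPretransitive N Ω) (hNreg : ∀ ω : Ω, MulAction.stabilizer N ω = ⊥) (α : Ω) (M : Subgroup G) (hM : M ≠ ⊥) (hMle : M ≤ MulAction.stabilizer G α)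
    (hMn : MulAction.stabilizer G α ≤ Subgroup.normalizer (M : Set G)) :
    (∀ ω : Ω, MulAction.orbit M ω = MulAction.orbit (MulAction.stabilizer G α) ω) ∧
    (∀ L : Subgroup G, L ≤ N → M ≤ Subgroup.normalizer (L : Set G) → L = ⊥ ∨ L = N) := by
  haveI := hprim
  haveI := hNtr
  haveI : Nontrivial Ω := by
    by_contra hnt
    rw [not_nontrivial_iff_subsingleton] at hnt
    exact hM ((Subgroup.eq_bot_iff_forall M).mpr fun m _ =>
      eq_of_smul_eq_smul fun x : Ω => Subsingleton.elim _ _)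
  have horb : ∀ ω : Ω, MulAction.orbit M ω = MulAction.orbit (MulAction.stabilizer G α) ω := fun ω =>
    ExtremelyPrimitive.orbit_eq hep hH M hMle hMn hM ω
  refine ⟨horb, fun L hLN hML => ?_⟩
  have hinj := (PermBasic.stabilizer_subgroup_eq_bot_iff' N α).mp (hNreg α)
  have key : ∀ g ∈ MulAction.stabilizer G α, ∀ l ∈ L, g * l * g⁻¹ ∈ L := by
    intro g hg l hl
    have h1 : (g * l * g⁻¹) • α = g • (l • α) := PermBasic.conj_smul_eq hg l
    have h2 : g • (l • α) ∈ MulAction.orbit M (l • α) := by rw [horb]; exact ⟨⟨g, hg⟩, rfl⟩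
    obtain ⟨⟨m, hm⟩, hm'⟩ := h2
    have h3 : (m * l * m⁻¹) • α = g • (l • α) := (PermBasic.conj_smul_eq (hMle hm) l).trans hm'
    have hl' : m * l * m⁻¹ ∈ L := (Subgroup.mem_normalizer_iff.mp (hML hm) l).mp hl
    have hgl : g * l * g⁻¹ ∈ N := Subgroup.Normal.conj_mem inferInstance l (hLN hl) g
    have heq := hinj ((m * l * m⁻¹)⁻¹ * (g * l * g⁻¹)) (N.mul_mem (N.inv_mem (hLN hl')) hgl)
      (by rw [mul_smul, h1, ← h3, inv_smul_smul])
    rwa [← inv_mul_eq_one.mp heq]
  have hLn : L.Normal := by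
    refine ⟨fun l hl g => ?_⟩
    obtain ⟨n, hn, s, hs, rfl⟩ := PermBasic.mul_stabilizer_eq_univ N α g
    have hsl : s * l * s⁻¹ ∈ L := key s hs l hl
    have hc : n * (s * l * s⁻¹) = (s * l * s⁻¹) * n :=
      congrArg Subtype.val (hNc.is_comm.comm (⟨n, hn⟩ : N) ⟨_, hLN hsl⟩)
    rw [show n * s * l * (n * s)⁻¹ = (n * (s * l * s⁻¹)) * n⁻¹ by group, hc, mul_inv_cancel_right]
    exact hsl
  by_cases hL : L = ⊥
  · exact Or.inl hL
  refine Or.inr (le_antisymm hLN fun n hn => ?_)
  haveI := hLn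
  haveI := PermBasic.isPretransitive_of_normal (X := Ω) L hL
  obtain ⟨⟨l, hl⟩, hl'⟩ := MulAction.exists_smul_eq L α (n • α)
  have := hinj (l⁻¹ * n) (N.mul_mem (N.inv_mem (hLN hl)) hn)
    (by rw [mul_smul, inv_smul_eq_iff]; exact hl'.symm)
  rwa [← inv_mul_eq_one.mp this]

end Cfsg.Agent.S3495
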