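import Cfsg.Agent.Lib.ExtremelyPrimitiveStab
import Cfsg.Agent.Lib.IrreducibleAbelianAction
import Cfsg.Agent.Lib.PermMinimalNormal
import Cfsg.Agent.S3495
import Cfsg.Statements.S3496

set_option autoImplicit false
open Cfsg

namespace Cfsg.Agent.S3496

/-- an abelian minimal normal subgroup in a solvable group -/
lemma exists_abelian_mns {G : Type*} [Group G] [Finite G] [Nontrivial G] [Group.IsSolvable G] :
    ∃ N : Subgroup G, Cfsg.Agent.PermMinimalNormal.IsMinNormal N ∧ IsMulCommutative N := by
  obtain ⟨N, -, hN⟩ := Cfsg.Agent.PermMinimalNormal.exists_isMinNormal_le (⊤ : Subgroup G)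
    ((Subgroup.nontrivial_iff_ne_bot _).mp inferInstance)
  haveI := hN.1
  refine ⟨N, hN, ?_⟩
  rcases hN.2.2 ⁅N, N⁆ (Subgroup.commutator_normal N N) (Subgroup.commutator_le_left N N) with h | h
  · exact Subgroup.le_centralizer_iff_isMulCommutative.mp (Subgroup.commutator_eq_bot_iff_le_centralizer.mp h)
  · exfalso
    have hd : ∀ n, derivedSeries N n = ⊤ := by
      intro n
      induction n with
      | zero => rfl
      | succ n ih =>
        rw [derivedSeries_succ, ih]
        apply Subgroup.map_injective N.subtype_injective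
        rw [Subgroup.map_commutator, ← MonoidHom.range_eq_map, Subgroup.range_subtype, h]
    obtain ⟨n, hn⟩ := (Group.isSolvable_def N).mp inferInstance
    rw [hd] at hn
    haveI : Nontrivial N := (Subgroup.nontrivial_iff_ne_bot N).mpr hN.2.1
    exact top_ne_bot hn

/-- The soluble extremely primitive groups. Let a finite solvable group G act faithfully and primitively on a finite set Ω with p ^ d points (p prime), with non-trivial point stabilizers each acting primitively on every one of its orbits. Then there is a prime q such that every orbit of a point stabilizer G_α other than {α} has exactly q points, q divides p ^ d − 1 but no p ^ i − 1 with 0 < i < d, and G_α has a normal subgroup T of order q with G_α generated by T and one further element and the order of G_α dividing q·d (so G_α is cyclic of order q, or an extension of T by a cyclic group of order dividing d). -/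
theorem result {G : Type*} [Group G] [Finite G] {Ω : Type*} [Fintype Ω] [MulAction G Ω] [FaithfulSMul G Ω] [Group.IsSolvable G] (p d : ℕ) (hp : p.Prime) (hcard : Fintype.card Ω = p ^ d)
    (hprim : MulAction.IsPreprimitive G Ω) (hH : ∀ α : Ω, MulAction.stabilizer G α ≠ ⊥) (hep : ∀ (α : Ω) (ω : Ω), MulAction.IsPreprimitive (MulAction.stabilizer G α) (MulAction.orbit (MulAction.stabilizer G α) ω)) (α : Ω) :
    ∃ q : ℕ, q.Prime ∧ (∀ ω : Ω, ω ≠ α → Nat.card (MulAction.orbit (MulAction.stabilizer G α) ω) = q) ∧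
      q ∣ p ^ d - 1 ∧ (∀ i : ℕ, 0 < i → i < d → ¬ q ∣ p ^ i - 1) ∧
      ∃ T : Subgroup G, T ≤ MulAction.stabilizer G α ∧ MulAction.stabilizer G α ≤ Subgroup.normalizer (T : Set G) ∧ Nat.card T = q ∧
        (∃ h : G, MulAction.stabilizer G α = T ⊔ Subgroup.zpowers h) ∧ Nat.card (MulAction.stabilizer G α) ∣ q * d := by
  classical
  haveI := hprim
  haveI : Nontrivial Ω := by
    by_contra hnt
    rw [not_nontrivial_iff_subsingleton] at hnt
    exact hH α ((Subgroup.eq_bot_iff_forall _).mpr fun m _ =>
      eq_of_smul_eq_smul fun x : Ω => Subsingleton.elim _ _)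
  set H := MulAction.stabilizer G α with hHdef
  haveI : Nontrivial H := (Subgroup.nontrivial_iff_ne_bot H).mpr (hH α)
  haveI : Nontrivial G := H.subtype_injective.nontrivial
  obtain ⟨N, hN, hNab⟩ := exists_abelian_mns (G := G)
  haveI := hN.1
  haveI hNtr := PermBasic.isPretransitive_of_normal (X := Ω) N hN.2.1
  have hNreg : ∀ ω : Ω, MulAction.stabilizer N ω = ⊥ := PermBasic.stabilizer_eq_bot_of_abelian N hNab
  have hNcard : Nat.card N = p ^ d := by
    rw [PermBasic.card_eq_of_regular (hNreg α), Nat.card_eq_fintype_card, hcard]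
  obtain ⟨r, hr, hrp⟩ := PermMinimalNormal.IsMinNormal.exists_prime_pow_eq_one hN hNab
  have hd : 0 < d := by
    rcases Nat.eq_zero_or_pos d with rfl | h
    · exfalso
      have := Fintype.one_lt_card (α := Ω)
      rw [hcard, pow_zero] at this
      omega
    · exact h
  haveI := Fact.mk hp
  have hrp' : r = p := by
    obtain ⟨x, hx⟩ := exists_prime_orderOf_dvd_card' (G := N) p (hNcard ▸ dvd_pow_self p hd.ne')
    have h1 : orderOf (x : G) ∣ r := orderOf_dvd_of_pow_eq_one (hrp x x.2)
    rw [Subgroup.orderOf_coe, hx] at h1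
    exact ((Nat.prime_dvd_prime_iff_eq hp hr).mp h1).symm
  subst hrp'
  obtain ⟨T₀, hT₀, hT₀ab⟩ := exists_abelian_mns (G := H)
  haveI := hT₀.1
  obtain ⟨q, hq, hTq⟩ := PermMinimalNormal.IsMinNormal.exists_prime_pow_eq_one hT₀ hT₀ab
  set T := T₀.map H.subtype with hT
  have hTH : T ≤ H := Subgroup.map_subtype_le T₀
  have hHT : H ≤ Subgroup.normalizer (T : Set G) := by
    refine (Subgroup.normal_subgroupOf_iff_le_normalizer hTH).mp ?_
    rw [hT, Subgroup.subgroupOf, Subgroup.comap_map_eq_self_of_injective H.subtype_injective]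
    exact hT₀.1
  have hT1 : T ≠ ⊥ := by
    rw [hT, ne_eq, Subgroup.map_eq_bot_iff_of_injective _ H.subtype_injective]
    exact hT₀.2.1
  have hTab : IsMulCommutative T := by
    refine ⟨⟨fun a b => Subtype.ext ?_⟩⟩
    obtain ⟨a', ha', ha2⟩ := a.2
    obtain ⟨b', hb', hb2⟩ := b.2
    show (a : G) * b = b * a
    rw [← ha2, ← hb2]
    exact congrArg (fun z : T₀ => ((z : H) : G)) (hT₀ab.is_comm.comm ⟨a', ha'⟩ ⟨b', hb'⟩)
  have hTq' : ∀ t ∈ T, t ^ q = 1 := by
    rintro _ ⟨t, ht, rfl⟩
    rw [← map_pow, hTq t ht, map_one]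
  have hirr := (Cfsg.Agent.S3495.result hprim hH hep N hNab r hp hrp hNtr hNreg α T hT1 hTH hHT).2
  obtain ⟨hTcard, hqd, hprim', ⟨h₀, hh₀⟩, hHdvd⟩ :=
    IrreducibleAbelianAction.structure_theorem N hNab H T hTH hHT hTab hT1
      (fun h hh hc => PermBasic.eq_one_of_commute_transitive N hc hh)
      (fun h hh hc => ExtremelyPrimitiveStab.centralizer_le hep (hH α) T hTH hHT hT1 hTab hh hc)
      hirr r q d hq hTq' hrp hNcard hd
  exact ⟨q, hq, fun ω hω => (ExtremelyPrimitiveStab.card_orbit hep (hH α) T hTH hHT hT1 hTab hω).trans hTcard,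
    hqd, hprim', T, hTH, hHT, hTcard, ⟨h₀, hh₀⟩, hHdvd⟩

end Cfsg.Agent.S3496
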