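import Cfsg.Agent.Lib.ExtremelyPrimitiveStab
import Cfsg.Agent.Lib.ComponentsFitting
import Cfsg.Agent.Lib.PermMinimalNormal
import Cfsg.Statements.S3497

set_option autoImplicit false
open Cfsg

namespace Cfsg.Agent.S3497

/-- automorphisms of an elementary abelian group as matrices -/
lemma exists_GL' {H A : Type*} [Group H] [CommGroup A] [Finite A] (p e : ℕ) [hp : Fact p.Prime]
    (hexp : ∀ x : A, x ^ p = 1) (hcard : Nat.card A = p ^ e) (ρ : H →* MulAut A) :
    ∃ φ : H →* GL (Fin e) (ZMod p), φ.ker = ρ.ker := by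
  classical
  letI : Module (ZMod p) (Additive A) := AddCommGroup.zmodModule (n := p) (G := Additive A) fun x => hexp x.toMul
  haveI : Finite (Additive A) := inferInstanceAs (Finite A)
  haveI : Module.Finite (ZMod p) (Additive A) := Module.Finite.of_finite
  have hfr : Module.finrank (ZMod p) (Additive A) = e := by
    have h := Module.natCard_eq_pow_finrank (K := ZMod p) (V := Additive A)
    rw [Nat.card_zmod, show Nat.card (Additive A) = p ^ e from hcard] at h
    exact (Nat.pow_right_injective hp.out.two_le h).symm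
  let b : Module.Basis (Fin e) (ZMod p) (Additive A) := Module.finBasisOfFinrankEq (ZMod p) (Additive A) hfr
  let f : H → (Additive A →ₗ[ZMod p] Additive A) := fun h =>
    (MonoidHom.toAdditive (ρ h).toMonoidHom).toZModLinearMap p
  have hf : ∀ (h : H) (x : A), f h (Additive.ofMul x) = Additive.ofMul (ρ h x) := fun h x => rfl
  let ψ : H →* Module.End (ZMod p) (Additive A) :=
    { toFun := f
      map_one' := LinearMap.ext fun x => by
        obtain ⟨y, rfl⟩ := Additive.ofMul.surjective x
        show f 1 (Additive.ofMul y) = _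
        rw [hf, map_one]; rfl
      map_mul' := fun a c => LinearMap.ext fun x => by
        obtain ⟨y, rfl⟩ := Additive.ofMul.surjective x
        show f (a * c) (Additive.ofMul y) = f a (f c (Additive.ofMul y))
        rw [hf, hf, hf, map_mul]; rfl }
  refine ⟨((LinearMap.toMatrixAlgEquiv b).toMulEquiv.toMonoidHom.comp ψ).toHomUnits, ?_⟩
  ext h
  rw [MonoidHom.mem_ker, MonoidHom.mem_ker]
  constructor
  · intro hh
    have h1 : (LinearMap.toMatrixAlgEquiv b) (ψ h) = 1 := congrArg Units.val hh
    have h2 : ψ h = 1 := (LinearMap.toMatrixAlgEquiv b).injective (h1.trans (map_one _).symm)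
    ext x
    have h3 : f h (Additive.ofMul x) = Additive.ofMul x := LinearMap.congr_fun h2 _
    rw [hf] at h3
    exact Additive.ofMul.injective h3
  · intro hh
    apply Units.ext
    show (LinearMap.toMatrixAlgEquiv b) (ψ h) = 1
    have h2 : ψ h = 1 := LinearMap.ext fun x => by
      obtain ⟨y, rfl⟩ := Additive.ofMul.surjective x
      show f h (Additive.ofMul y) = _
      rw [hf, hh]; rfl
    rw [h2, map_one]

lemma exists_GL {H : Type*} [Group H] [Finite H] (p e : ℕ) [Fact p.Prime] (F : Subgroup H) [F.Normal]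
    (hab : IsMulCommutative F) (hexp : ∀ x ∈ F, x ^ p = 1) (hcard : Nat.card F = p ^ e) :
    ∃ φ : H →* GL (Fin e) (ZMod p), φ.ker = Subgroup.centralizer (F : Set H) := by
  letI : CommGroup F := { (inferInstance : Group F) with mul_comm := hab.is_comm.comm }
  obtain ⟨φ, hφ⟩ := exists_GL' (A := F) p e (fun x => Subtype.ext (by simpa using hexp x x.2)) hcard
    (MulAut.conjNormal : H →* MulAut F)
  refine ⟨φ, hφ.trans ?_⟩
  ext h
  rw [MonoidHom.mem_ker, Subgroup.mem_centralizer_iff]
  constructor
  · intro hh x hx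
    have h4 : h * x * h⁻¹ = x := congrArg (fun y : MulAut F => ((y ⟨x, hx⟩ : F) : H)) hh
    exact (mul_inv_eq_iff_eq_mul.mp h4).symm
  · intro hh
    ext y
    show h * (y : H) * h⁻¹ = y
    rw [← hh y y.2, mul_inv_cancel_right]

/-- Restrictions on the point stabilizer of an extremely primitive group. Let a finite group G act faithfully and primitively on a finite set Ω with point stabilizers H = G_α whose order is neither 1 nor a prime, each acting primitively on every one of its orbits. Then H has trivial center, the Fitting subgroup F(H) is an elementary abelian p-group for some prime p, and if F(H) ≠ 1 has order p ^ e then p ^ e divides the number of points minus one and H / F(H) embeds in GL_e(p) (there is a homomorphism from H to GL_e(p) with kernel exactly F(H)). -/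
theorem result {G : Type*} [Group G] [Finite G] {Ω : Type*} [Fintype Ω] [MulAction G Ω] [FaithfulSMul G Ω] (hprim : MulAction.IsPreprimitive G Ω) (hep : ∀ (α : Ω) (ω : Ω), MulAction.IsPreprimitive (MulAction.stabilizer G α) (MulAction.orbit (MulAction.stabilizer G α) ω)) (α : Ω)
    (hH1 : MulAction.stabilizer G α ≠ ⊥) (hHp : ¬ (Nat.card (MulAction.stabilizer G α)).Prime) :
    Subgroup.center (MulAction.stabilizer G α) = ⊥ ∧
    IsMulCommutative (Cfsg.fittingSubgroup (MulAction.stabilizer G α)) ∧
    ∃ p e : ℕ, p.Prime ∧ Nat.card (Cfsg.fittingSubgroup (MulAction.stabilizer G α)) = p ^ e ∧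
      (∀ x ∈ Cfsg.fittingSubgroup (MulAction.stabilizer G α), x ^ p = 1) ∧
      (Cfsg.fittingSubgroup (MulAction.stabilizer G α) ≠ ⊥ →
        p ^ e ∣ Fintype.card Ω - 1 ∧
        ∃ φ : MulAction.stabilizer G α →* GL (Fin e) (ZMod p), φ.ker = Cfsg.fittingSubgroup (MulAction.stabilizer G α)) := by
  classical
  haveI := hprim
  haveI : Nontrivial Ω := by
    by_contra hnt
    rw [not_nontrivial_iff_subsingleton] at hnt
    exact hH1 ((Subgroup.eq_bot_iff_forall _).mpr fun m _ =>
      eq_of_smul_eq_smul fun x : Ω => Subsingleton.elim _ _)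
  set H := MulAction.stabilizer G α with hHdef
  -- facts about an abelian normal subgroup of `H`
  have hfacts : ∀ B : Subgroup H, B.Normal → B ≠ ⊥ → IsMulCommutative B →
      (∀ c : H, (∀ b ∈ B, b * c = c * b) → c ∈ B) ∧ Nat.card B ∣ Fintype.card Ω - 1 := by
    intro B hBn hB1 hBab
    have hA : B.map H.subtype ≤ H := Subgroup.map_subtype_le B
    have hAn : H ≤ Subgroup.normalizer ((B.map H.subtype : Subgroup G) : Set G) := by
      refine (Subgroup.normal_subgroupOf_iff_le_normalizer hA).mp ?_
      rwa [Subgroup.subgroupOf, Subgroup.comap_map_eq_self_of_injective H.subtype_injective]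
    have hA1 : B.map H.subtype ≠ ⊥ := by
      rwa [ne_eq, Subgroup.map_eq_bot_iff_of_injective _ H.subtype_injective]
    have hAab : IsMulCommutative (B.map H.subtype) := by
      refine ⟨⟨fun a b => Subtype.ext ?_⟩⟩
      obtain ⟨a', ha', ha2⟩ := a.2
      obtain ⟨b', hb', hb2⟩ := b.2
      show (a : G) * b = b * a
      rw [← ha2, ← hb2]
      exact congrArg (fun z : B => ((z : H) : G)) (hBab.is_comm.comm ⟨a', ha'⟩ ⟨b', hb'⟩)
    refine ⟨fun c hc => ?_, ?_⟩
    · obtain ⟨c', hc', he⟩ := ExtremelyPrimitiveStab.centralizer_le hep hH1 _ hA hAn hA1 hAab c.2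
        (by rintro _ ⟨b, hb, rfl⟩; exact congrArg Subtype.val (hc b hb))
      rwa [← Subtype.ext (a1 := c') (a2 := c) he]
    · have := ExtremelyPrimitiveStab.card_dvd hep hH1 _ hA hAn hA1 hAab
      rwa [Subgroup.card_map_of_injective H.subtype_injective, Nat.card_eq_fintype_card (α := Ω)] at this
  haveI : Nontrivial H := (Subgroup.nontrivial_iff_ne_bot H).mpr hH1
  have hcenter : Subgroup.center H = ⊥ := by
    by_contra hne
    have h1 := (hfacts _ inferInstance hne inferInstance).1
    have htop : ∀ c : H, c ∈ Subgroup.center H := fun c =>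
      h1 c fun b hb => (Subgroup.mem_center_iff.mp hb c).symm
    obtain ⟨q, hq, hqd⟩ := Nat.exists_prime_and_dvd (Finite.one_lt_card (α := H)).ne'
    haveI := Fact.mk hq
    obtain ⟨x, hx⟩ := exists_prime_orderOf_dvd_card' q hqd
    have hz1 : Subgroup.zpowers x ≠ ⊥ := by
      rw [ne_eq, Subgroup.zpowers_eq_bot]
      exact fun e => hq.ne_one (by rw [← hx, e, orderOf_one])
    have hzn : (Subgroup.zpowers x).Normal := ⟨fun y hy g => by
      rw [← Subgroup.mem_center_iff.mp (htop g) y, mul_inv_cancel_right]; exact hy⟩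
    have h2 := (hfacts _ hzn hz1 inferInstance).1
    have h3 : Subgroup.zpowers x = ⊤ := (Subgroup.eq_top_iff' _).mpr fun c =>
      h2 c fun b _ => (Subgroup.mem_center_iff.mp (htop c) b)
    have h4 : Nat.card H = q := by
      rw [← hx, ← Nat.card_zpowers, h3, Subgroup.card_top]
    exact hHp (h4 ▸ hq)
  refine ⟨hcenter, ?_⟩
  set F := Cfsg.fittingSubgroup H with hFdef
  by_cases hF1 : F = ⊥
  · refine ⟨?_, 2, 0, Nat.prime_two, ?_, ?_, fun h => absurd hF1 h⟩
    · rw [hF1]; exact ⟨⟨fun a b => Subsingleton.elim _ _⟩⟩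
    · rw [hF1, Subgroup.card_bot, pow_zero]
    · intro x hx
      rw [hF1, Subgroup.mem_bot] at hx
      rw [hx, one_pow]
  haveI : Group.IsNilpotent F := ComponentsFitting.fittingSubgroup_isNilpotent
  haveI hFn : F.Normal := inferInstance
  haveI : Nontrivial F := (Subgroup.nontrivial_iff_ne_bot F).mpr hF1
  set Z := (Subgroup.center F).map F.subtype with hZ
  have hZn : Z.Normal := inferInstance
  have hZab : IsMulCommutative Z := by
    refine ⟨⟨fun a b => Subtype.ext ?_⟩⟩
    obtain ⟨a', ha', ha2⟩ := a.2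
    obtain ⟨b', hb', hb2⟩ := b.2
    show (a : H) * b = b * a
    rw [← ha2, ← hb2]
    exact congrArg Subtype.val (Subgroup.mem_center_iff.mp hb' a')
  have hZ1 : Z ≠ ⊥ := by
    haveI : Nontrivial (Subgroup.center F) := by
      by_contra hnt
      have hc : Subgroup.center F = ⊥ := by
        by_contra hc
        exact hnt ((Subgroup.nontrivial_iff_ne_bot _).mpr hc)
      have hall : ∀ n, Subgroup.upperCentralSeries F n = ⊥ := by
        intro n
        induction n with
        | zero => simp
        | succ n ih =>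
          rw [Subgroup.eq_bot_iff_forall]
          intro x hx
          rw [← Subgroup.mem_bot, ← hc, Subgroup.mem_center_iff]
          intro y
          have h := Subgroup.mem_upperCentralSeries_succ_iff.mp hx y
          rw [ih, Subgroup.mem_bot, commutatorElement_def, mul_inv_eq_one, mul_inv_eq_iff_eq_mul] at h
          exact h.symm
      obtain ⟨n, hn⟩ := Group.IsNilpotent.nilpotent F
      exact bot_ne_top ((hall n).symm.trans hn)
    rw [ne_eq, Subgroup.map_eq_bot_iff_of_injective _ F.subtype_injective]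
    exact (Subgroup.nontrivial_iff_ne_bot _).mp inferInstance
  have hFZ : F ≤ Z := by
    intro c hc
    refine (hfacts Z hZn hZ1 hZab).1 c ?_
    rintro _ ⟨b, hb, rfl⟩
    exact congrArg Subtype.val (Subgroup.mem_center_iff.mp hb ⟨c, hc⟩).symm
  have hFab : IsMulCommutative F := ⟨⟨fun a b => Subtype.ext
    (congrArg Subtype.val (hZab.is_comm.comm (⟨a, hFZ a.2⟩ : Z) ⟨b, hFZ b.2⟩) :)⟩⟩
  refine ⟨hFab, ?_⟩
  have hmin : PermMinimalNormal.IsMinNormal F := by
    refine ⟨hFn, hF1, fun B hBn hBF => ?_⟩
    by_cases hB : B = ⊥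
    · exact Or.inl hB
    have hBab : IsMulCommutative B := ⟨⟨fun a b => Subtype.ext
      (congrArg Subtype.val (hFab.is_comm.comm (⟨a, hBF a.2⟩ : F) ⟨b, hBF b.2⟩) :)⟩⟩
    refine Or.inr (le_antisymm hBF fun c hc => (hfacts B hBn hB hBab).1 c fun b hb => ?_)
    exact congrArg Subtype.val (hFab.is_comm.comm (⟨b, hBF hb⟩ : F) ⟨c, hc⟩)
  obtain ⟨p, hp, hexp⟩ := PermMinimalNormal.IsMinNormal.exists_prime_pow_eq_one hmin hFab
  haveI := Fact.mk hp
  have hpg : IsPGroup p F := fun x => ⟨1, by
    rw [pow_one]; exact Subtype.ext (by rw [SubgroupClass.coe_pow, hexp x x.2]; rfl)⟩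
  obtain ⟨e, he⟩ := IsPGroup.iff_card.mp hpg
  refine ⟨p, e, hp, he, hexp, fun _ => ⟨he ▸ (hfacts F hFn hF1 hFab).2, ?_⟩⟩
  obtain ⟨φ, hφ⟩ := exists_GL p e F hFab hexp he
  refine ⟨φ, hφ.trans (le_antisymm ?_ ?_)⟩
  · intro c hc
    exact (hfacts F hFn hF1 hFab).1 c fun b hb => Subgroup.mem_centralizer_iff.mp hc b hb
  · exact Subgroup.le_centralizer_iff_isMulCommutative.mpr hFab

end Cfsg.Agent.S3497
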