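
import Cfsg.Statements.S3498

set_option autoImplicit false
open Cfsg

namespace Cfsg.Agent.S3498

open scoped Pointwise in
lemma not_pgroup {G : Type*} [Group G] [Finite G] (T : Subgroup G) (hT : IsSimpleGroup T) (hTc : ¬ IsMulCommutative T)
    (q : ℕ) [Fact q.Prime] : ¬ IsPGroup q T := by
  intro hp
  haveI := hp.center_nontrivial
  rcases (inferInstance : (Subgroup.center T).Normal).eq_bot_or_eq_top with h | h
  · exact (Subgroup.nontrivial_iff_ne_bot _).mp inferInstance h
  · exact hTc ⟨⟨fun a b => (Subgroup.mem_center_iff.mp (h ▸ Subgroup.mem_top b) a)⟩⟩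

/-- A maximal subgroup of a finite almost simple group does not have prime order. Here G is almost simple in the sense that it has a non-abelian simple normal subgroup T with trivial centralizer. -/
theorem result {G : Type*} [Group G] [Finite G] (T : Subgroup G) [T.Normal] (hT : IsSimpleGroup T) (hTc : ¬ IsMulCommutative T)
    (hC : Subgroup.centralizer (T : Set G) = ⊥) (H : Subgroup G) (hmax : IsCoatom H) : ¬ (Nat.card H).Prime := by
  intro hq
  set q := Nat.card H with hqdef
  haveI := Fact.mk hq
  haveI := hT
  have hHp : IsPGroup q H := IsPGroup.of_card (n := 1) (by rw [pow_one])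
  obtain ⟨Q, hQ⟩ := hHp.exists_le_sylow
  have hnoteq : T ≠ H := fun h => not_pgroup T hT hTc q (h ▸ hHp)
  -- a Sylow subgroup containing `H` is `H`
  have hQH : (Q : Subgroup G) = H := by
    rcases hmax.le_iff.mp hQ with h | h
    · exact absurd (Q.isPGroup'.to_le (h ▸ le_top)) (not_pgroup T hT hTc q)
    · exact h
  by_cases hHT : H ≤ T
  · -- `G = T` is simple
    have hTtop : T = ⊤ := (hmax.le_iff.mp hHT).resolve_right hnoteq
    haveI : IsSimpleGroup G :=
      ((MulEquiv.subgroupCongr hTtop).trans Subgroup.topEquiv).symm.isSimpleGroup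
    have hHn : ¬ H.Normal := fun hn => by
      rcases hn.eq_bot_or_eq_top with h | h
      · exact hq.ne_one (by rw [hqdef, h, Subgroup.card_bot])
      · exact hmax.1 h
    have hN : Subgroup.normalizer (H : Set G) = H := by
      rcases hmax.le_iff.mp (Subgroup.le_normalizer : H ≤ _) with h | h
      · exact absurd (Subgroup.normalizer_eq_top_iff.mp h) hHn
      · exact h
    have hcyc : IsCyclic H := isCyclic_of_prime_card hqdef.symm
    have hQN : Subgroup.normalizer (Q : Set G) ≤ Subgroup.centralizer (Q : Set G) := by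
      rw [show ((Q : Set G)) = ((H : Subgroup G) : Set G) from congrArg SetLike.coe hQH]
      show Subgroup.normalizer (H : Set G) ≤ Subgroup.centralizer (H : Set G)
      rw [hN]
      exact Subgroup.le_centralizer_iff_isMulCommutative.mpr ⟨⟨fun a b => (IsCyclic.commutative : IsMulCommutative H).is_comm.comm a b⟩⟩
    have hc := MonoidHom.ker_transferSylow_isComplement' Q hQN
    rcases (MonoidHom.normal_ker (MonoidHom.transferSylow Q hQN)).eq_bot_or_eq_top with h | h
    · rw [h, Subgroup.isComplement'_bot_left] at hc; exact hmax.1 (hQH ▸ hc)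
    · rw [h, Subgroup.isComplement'_top_left] at hc
      exact hq.ne_one (by rw [hqdef, ← hQH, hc, Subgroup.card_bot])
  · -- `H ∩ T = 1`
    have hdisj : H ⊓ T = ⊥ := by
      haveI : IsSimpleGroup H := isSimpleGroup_of_prime_card hqdef.symm
      rcases (inferInstance : (T.subgroupOf H).Normal).eq_bot_or_eq_top with h | h
      · rw [Subgroup.subgroupOf_eq_bot, disjoint_iff, inf_comm] at h
        exact h
      · exact absurd (Subgroup.subgroupOf_eq_top.mp h) hHT
    have hTne : T ≠ ⊥ := (Subgroup.nontrivial_iff_ne_bot T).mp inferInstance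
    have hsup : H ⊔ T = ⊤ := by
      rcases hmax.le_iff.mp (le_sup_left : H ≤ H ⊔ T) with h | h
      · exact h
      · exact absurd (le_bot_iff.mp (hdisj ▸ le_inf (h ▸ le_sup_right : T ≤ H) le_rfl)) hTne
    -- `q` does not divide the order of `T`
    have hqT : ¬ q ∣ Nat.card T := by
      intro hd
      obtain ⟨x, hx⟩ := exists_prime_orderOf_dvd_card' q hd
      have hXp : IsPGroup q (Subgroup.zpowers (x : G)) :=
        IsPGroup.of_card (n := 1) (by rw [pow_one, Nat.card_zpowers, Subgroup.orderOf_coe, hx])
      obtain ⟨R, hR⟩ := hXp.exists_le_sylow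
      obtain ⟨g, hg⟩ := MulAction.exists_smul_eq G R Q
      have hgx : g * (x : G) * g⁻¹ ∈ (Q : Subgroup G) := by
        rw [← hg, Sylow.coe_subgroup_smul]
        exact ⟨(x : G), hR (Subgroup.mem_zpowers _), rfl⟩
      rw [hQH] at hgx
      have : g * (x : G) * g⁻¹ ∈ H ⊓ T := ⟨hgx, Subgroup.Normal.conj_mem inferInstance _ x.2 g⟩
      rw [hdisj, Subgroup.mem_bot, conj_eq_one_iff] at this
      rw [show x = 1 from Subtype.ext this, orderOf_one] at hx
      exact hq.ne_one hx.symm
    have hGcard : Nat.card G = q * Nat.card T := by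
      have h1 : T.relIndex (H ⊔ T) = T.relIndex H := Subgroup.relIndex_sup_right H T
      rw [hsup, Subgroup.relIndex_top_right] at h1
      have h2 : T.relIndex H = q := by
        show (T.subgroupOf H).index = q
        rw [show T.subgroupOf H = ⊥ by
          rw [Subgroup.subgroupOf_eq_bot, disjoint_iff, inf_comm, hdisj], Subgroup.index_bot]
      rw [← T.card_mul_index, h1, h2, mul_comm]
    -- normalizer of a Sylow subgroup of `T`
    obtain ⟨s, hs, hsd⟩ := Nat.exists_prime_and_dvd (Finite.one_lt_card (α := T)).ne'
    haveI := Fact.mk hs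
    obtain ⟨P⟩ : Nonempty (Sylow s T) := inferInstance
    set N := Subgroup.normalizer ((P : Subgroup T).map T.subtype : Set G) with hNdef
    have hNT : N ⊔ T = ⊤ := Sylow.normalizer_sup_eq_top P
    have hqN : q ∣ Nat.card N := by
      have h1 : T.relIndex (N ⊔ T) = T.relIndex N := Subgroup.relIndex_sup_right N T
      rw [hNT, Subgroup.relIndex_top_right] at h1
      have h2 : T.index = q := Nat.eq_of_mul_eq_mul_left (Nat.card_pos (α := T))
        (by rw [T.card_mul_index, hGcard, mul_comm])
      rw [← h2, h1]
      exact Subgroup.relIndex_dvd_card T N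
    obtain ⟨x, hx⟩ := exists_prime_orderOf_dvd_card' q hqN
    have hXp : IsPGroup q (Subgroup.zpowers (x : G)) :=
      IsPGroup.of_card (n := 1) (by rw [pow_one, Nat.card_zpowers, Subgroup.orderOf_coe, hx])
    obtain ⟨R, hR⟩ := hXp.exists_le_sylow
    obtain ⟨g, hg⟩ := MulAction.exists_smul_eq G Q R
    -- the conjugate `R` of `H` is maximal and inside `N`
    have hRH : (R : Subgroup G) = H.map (MulAut.conj g).toMonoidHom := by
      rw [← hg, Sylow.coe_subgroup_smul, hQH]; rfl
    have hRc : IsCoatom (R : Subgroup G) := by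
      rw [hRH]
      exact (OrderIso.isCoatom_iff (MulAut.conj g).mapSubgroup H).mpr hmax
    have hRx : Subgroup.zpowers (x : G) = R := by
      refine Subgroup.eq_of_le_of_card_ge hR ?_
      rw [Nat.card_zpowers, Subgroup.orderOf_coe, hx, hRH]
      exact (Subgroup.card_map_of_injective (MulAut.conj g).injective).le
    have hRN : (R : Subgroup G) ≤ N := hRx ▸ (Subgroup.zpowers_le.mpr x.2)
    have hPne : (P : Subgroup T).map T.subtype ≠ ⊥ := by
      rw [ne_eq, Subgroup.map_eq_bot_iff_of_injective _ T.subtype_injective]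
      exact P.ne_bot_of_dvd_card hsd
    rcases hRc.le_iff.mp hRN with h | h
    · -- a normal Sylow subgroup of `T`
      haveI hn : ((P : Subgroup T).map T.subtype).Normal := Subgroup.normalizer_eq_top_iff.mp h
      have hn' : (P : Subgroup T).Normal := by
        have h3 := hn.comap T.subtype
        rwa [Subgroup.comap_map_eq_self_of_injective T.subtype_injective] at h3
      rcases hn'.eq_bot_or_eq_top with h' | h'
      · exact hPne (by rw [h', Subgroup.map_bot])
      · exact not_pgroup T hT hTc s (P.isPGroup'.of_equiv ((MulEquiv.subgroupCongr h').trans Subgroup.topEquiv))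
    · -- `P ≤ R` has order divisible by `s ≠ q`
      have hPR : (P : Subgroup T).map T.subtype ≤ (R : Subgroup G) := Subgroup.le_normalizer.trans h.le
      have hd := Subgroup.card_dvd_of_le hPR
      rw [← hRx, Nat.card_zpowers, Subgroup.orderOf_coe, hx] at hd
      rcases (Nat.dvd_prime hq).mp hd with h' | h'
      · exact hPne (Subgroup.eq_bot_of_card_eq _ h')
      · exact hqT (h' ▸ (Subgroup.card_map_of_injective T.subtype_injective ▸ Subgroup.card_subgroup_dvd_card _))

end Cfsg.Agent.S3498
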