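import Cfsg.Agent.Lib.PrimitiveClasses
import Cfsg.Agent.Lib.DerangementCount
import Cfsg.Statements.S3501

set_option autoImplicit false
open Cfsg

namespace Cfsg.Agent.S3501

open Cfsg.Agent.PrimitiveDichotomy

/-- Let a finite group G act faithfully and primitively on a finite set Ω with at least two points, and suppose G is not almost simple (it has no non-abelian simple normal subgroup with trivial centralizer). Then the derangements of G form a single conjugacy class if and only if G is sharply 2-transitive (2-transitive, and no non-identity element fixes two points). -/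
theorem result {G : Type*} [Group G] [Finite G] {Ω : Type*} [Fintype Ω] [MulAction G Ω] [FaithfulSMul G Ω] (hΩ : 2 ≤ Fintype.card Ω) (hprim : MulAction.IsPreprimitive G Ω) (hnas : ¬ ∃ T : Subgroup G, T.Normal ∧ IsSimpleGroup T ∧ ¬ IsMulCommutative T ∧ Subgroup.centralizer (T : Set G) = ⊥) :
    Nat.card {c : ConjClasses G // ∃ g : G, ConjClasses.mk g = c ∧ ∀ ω : Ω, g • ω ≠ ω} = 1 ↔ (MulAction.IsMultiplyPretransitive G Ω 2 ∧ ∀ g : G, g ≠ 1 → ∀ a b : Ω, a ≠ b → g • a = a → g • b ≠ b) := by
  classical
  haveI := hprim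
  haveI : Nonempty Ω := Fintype.card_pos_iff.mp (by omega)
  have hΩ' : 2 ≤ Nat.card Ω := by rw [Nat.card_eq_fintype_card]; exact hΩ
  constructor
  · intro hone
    rcases PrimitiveClasses.affine_or_three (G := G) (Ω := Ω) hΩ' hprim with ⟨N, r, hr, hN, hN1, hab, hrp, htr, hreg⟩ | h | h
    · haveI := htr
      have hsemi : ∀ m ∈ N, m ≠ 1 → ∀ ω : Ω, m • ω ≠ ω := fun m hm h1 ω hω =>
        h1 ((PermBasic.stabilizer_subgroup_eq_bot_iff' N ω).mp (hreg ω) m hm hω)
      obtain ⟨hsub, -⟩ := Nat.card_eq_one_iff_unique.mp hone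
      have hconj : ∀ a b : G, (∀ ω : Ω, a • ω ≠ ω) → (∀ ω : Ω, b • ω ≠ ω) → IsConj a b := fun a b ha hb =>
        ConjClasses.mk_eq_mk_iff_isConj.mp (congrArg Subtype.val (hsub.elim
          (⟨_, a, rfl, ha⟩ : {c : ConjClasses G // ∃ g : G, ConjClasses.mk g = c ∧ ∀ ω : Ω, g • ω ≠ ω})
          ⟨_, b, rfl, hb⟩))
      obtain ⟨m₀, hm₀, hm₀1⟩ : ∃ m, m ∈ N ∧ m ≠ 1 := by
        by_contra hcon
        push Not at hcon
        exact hN1 (Subgroup.eq_bot_iff_forall N |>.mpr hcon)
      have hder : ∀ g : G, (∀ ω : Ω, g • ω ≠ ω) → g ∈ N := by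
        intro g hg
        obtain ⟨c, rfl⟩ := isConj_iff.mp (hconj m₀ g (hsemi m₀ hm₀ hm₀1) hg)
        exact hN.conj_mem m₀ hm₀ c
      refine ⟨DerangementCount.two_transitive_of_conj N hN hab
        (fun m hm m' hm' h1 h1' => hconj m m' (hsemi m hm h1) (hsemi m' hm' h1')) (Classical.arbitrary Ω), ?_⟩
      have hcount : DerangementCount.numDer G Ω + 1 = Nat.card Ω := by
        rw [← PermBasic.card_eq_of_regular (hreg (Classical.arbitrary Ω)), DerangementCount.numDer]
        have e : {g : G // ∀ ω : Ω, g • ω ≠ ω} ≃ {m : N // m ≠ 1} :=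
          { toFun := fun g => ⟨⟨g, hder g g.2⟩, fun e => g.2 (Classical.arbitrary Ω)
              (by rw [show (g : G) = 1 from congrArg Subtype.val e, one_smul])⟩
            invFun := fun m => ⟨m, hsemi m m.1.2 fun e => m.2 (Subtype.ext e)⟩
            left_inv := fun g => rfl
            right_inv := fun m => rfl }
        haveI := Fintype.ofFinite N
        rw [Nat.card_congr e, Nat.card_eq_fintype_card, Nat.card_eq_fintype_card, Fintype.card_subtype_compl,
          Fintype.card_subtype_eq]
        have := Fintype.card_pos (α := N)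
        omega
      intro g hg
      exact DerangementCount.fix_le_one_iff.mp ((DerangementCount.numDer_iff hΩ').mp hcount g hg)
    · exact absurd h hnas
    · omega
  · rintro ⟨h2, hfix⟩
    haveI := h2
    have hcount := (DerangementCount.numDer_iff (G := G) hΩ').mpr
      (fun g hg => DerangementCount.fix_le_one_iff.mpr (hfix g hg))
    obtain ⟨d, hd⟩ := PermBasic.exists_derangement (G := G) (X := Ω) (by omega)
    -- the centralizer of a derangement is semiregular
    have hC : Nat.card (MulAction.stabilizer (ConjAct G) d) ≤ Nat.card Ω := by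
      refine Nat.card_le_card_of_injective
        (fun c => (ConjAct.ofConjAct (c : ConjAct G)) • Classical.arbitrary Ω) ?_
      intro a b hab
      simp only at hab
      have hcomm : ∀ c : MulAction.stabilizer (ConjAct G) d,
          ConjAct.ofConjAct (c : ConjAct G) * d = d * ConjAct.ofConjAct (c : ConjAct G) := fun c => by
        have := c.2
        rw [MulAction.mem_stabilizer_iff, ConjAct.smul_def, mul_inv_eq_iff_eq_mul] at this
        exact this
      set x := ConjAct.ofConjAct (((b⁻¹ * a : MulAction.stabilizer (ConjAct G) d)) : ConjAct G) with hx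
      have h1 : x • Classical.arbitrary Ω = Classical.arbitrary Ω := by
        rw [hx, Subgroup.coe_mul, Subgroup.coe_inv, map_mul, map_inv, mul_smul, hab, inv_smul_smul]
      have hx1 : x = 1 := by
        by_contra hne
        refine hfix x hne _ (d • Classical.arbitrary Ω) (hd _).symm h1 ?_
        rw [← mul_smul, hcomm, mul_smul, h1]
      apply Subtype.ext
      apply ConjAct.ofConjAct.injective
      rw [hx, Subgroup.coe_mul, Subgroup.coe_inv, map_mul, map_inv, inv_mul_eq_one] at hx1
      exact hx1.symm
    have horb : MulAction.orbit (ConjAct G) d = {g : G | ∀ ω : Ω, g • ω ≠ ω} := by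
      refine Set.eq_of_subset_of_ncard_le ?_ ?_ (Set.toFinite _)
      · rintro _ ⟨c, rfl⟩ ω hω
        simp only [ConjAct.smul_def, mul_smul] at hω
        exact hd _ (eq_inv_smul_iff.mpr hω)
      · have h3 := PermBasic.card_orbit_mul_card_stabilizer (G := ConjAct G) d
        rw [Nat.card_congr ConjAct.ofConjAct.toEquiv] at h3
        have h4 : Nat.card Ω * (Nat.card Ω - 1) ≤ Nat.card G := by
          let α := Classical.arbitrary Ω
          rw [← PermBasic.card_mul_card_stabilizer (G := G) α]
          refine Nat.mul_le_mul_left _ ?_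
          haveI : Nontrivial Ω := Finite.one_lt_card_iff_nontrivial.mp (by omega)
          obtain ⟨β, hβ⟩ := exists_ne α
          have hsub : ({α}ᶜ : Set Ω) ⊆ MulAction.orbit (MulAction.stabilizer G α) β := by
            intro b hb
            obtain ⟨g, hg1, hg2⟩ := (MulAction.is_two_pretransitive_iff.mp h2) hβ.symm (Ne.symm hb)
            exact ⟨⟨g, hg1⟩, hg2⟩
          have h7 := Set.ncard_le_ncard hsub (Set.toFinite _)
          rw [Set.ncard_compl, Set.ncard_singleton, ← Nat.card_coe_set_eq] at h7
          exact h7.trans (Nat.le_of_dvd Nat.card_pos (PermBasic.card_orbit_dvd β))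
        rw [← Nat.card_coe_set_eq, ← Nat.card_coe_set_eq]
        have h5 : Nat.card Ω * (Nat.card Ω - 1) ≤ Nat.card (MulAction.orbit (ConjAct G) d) * Nat.card Ω :=
          h4.trans (h3 ▸ Nat.mul_le_mul_left _ hC)
        rw [mul_comm] at h5
        have h6 := Nat.le_of_mul_le_mul_right h5 (by omega)
        show DerangementCount.numDer G Ω ≤ _
        omega
    rw [Nat.card_eq_one_iff_unique]
    refine ⟨⟨fun a b => ?_⟩, ⟨⟨_, d, rfl, hd⟩⟩⟩
    obtain ⟨a, ga, rfl, hga⟩ := a
    obtain ⟨b, gb, rfl, hgb⟩ := b
    apply Subtype.ext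
    have ha : ga ∈ MulAction.orbit (ConjAct G) d := by rw [horb]; exact hga
    have hb : gb ∈ MulAction.orbit (ConjAct G) d := by rw [horb]; exact hgb
    rw [ConjAct.mem_orbit_conjAct] at ha hb
    exact ConjClasses.mk_eq_mk_iff_isConj.mpr (ha.trans hb.symm)

end Cfsg.Agent.S3501
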