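
import Cfsg.Statements.S3504

set_option autoImplicit false
open Cfsg

namespace Cfsg.Agent.S3504

lemma der_type {n : ℕ} {g : Equiv.Perm (Fin n)} (hg : (orderOf g).Prime) (hd : ∀ i : Fin n, g i ≠ i) :
    g.cycleType = Multiset.replicate (n / orderOf g) (orderOf g) ∧ orderOf g ∣ n := by
  obtain ⟨k, hk⟩ := Equiv.Perm.cycleType_prime_order hg
  have hs : g.support = Finset.univ := by ext i; simp [hd i]
  have hsum := g.sum_cycleType
  rw [hs, hk, Multiset.sum_replicate, smul_eq_mul, Finset.card_univ, Fintype.card_fin] at hsum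
  refine ⟨?_, Dvd.intro_left _ hsum⟩
  rw [hk, (Nat.div_eq_of_eq_mul_left hg.pos hsum.symm : n / orderOf g = k + 1)]

lemma exists_der {n q : ℕ} (hn : n ≠ 0) (hq : q.Prime) (hqn : q ∣ n) :
    ∃ g : Equiv.Perm (Fin n), orderOf g = q ∧ ∀ i : Fin n, g i ≠ i := by
  obtain ⟨g, hg⟩ := (Equiv.Perm.exists_with_cycleType_iff (Fin n) (m := Multiset.replicate (n / q) q)).mpr
    ⟨by simp [Multiset.sum_replicate, Nat.div_mul_cancel hqn],
      fun a ha => (Multiset.eq_of_mem_replicate ha).symm ▸ hq.two_le⟩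
  refine ⟨g, ?_, fun i => ?_⟩
  · haveI := Fact.mk hq
    have h0 : n / q ≠ 0 := (Nat.div_pos (Nat.le_of_dvd (Nat.pos_of_ne_zero hn) hqn) hq.pos).ne'
    refine orderOf_eq_prime (Equiv.Perm.pow_prime_eq_one_iff.mpr fun c hc => ?_) ?_
    · rw [hg] at hc; exact Multiset.eq_of_mem_replicate hc
    · intro h1
      rw [h1, Equiv.Perm.cycleType_one] at hg
      exact h0 (by simpa using (congrArg Multiset.card hg).symm)
  · have hsum := g.sum_cycleType
    rw [hg, Multiset.sum_replicate, smul_eq_mul, Nat.div_mul_cancel hqn] at hsum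
    have : g.support = Finset.univ := Finset.eq_univ_of_card _ (by simpa using hsum.symm)
    exact Equiv.Perm.mem_support.mp (this ▸ Finset.mem_univ i)

/-- For n ≥ 5, the fixed-point-free permutations of prime order in the symmetric group of degree n form a single conjugacy class if and only if n is a prime power. -/
theorem result (n : ℕ) (hn : 5 ≤ n) :
    Nat.card {c : ConjClasses (Equiv.Perm (Fin n)) // ∃ g : Equiv.Perm (Fin n), ConjClasses.mk g = c ∧ (orderOf g).Prime ∧ ∀ i : Fin n, g i ≠ i} = 1 ↔ IsPrimePow n := by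
  classical
  rw [isPrimePow_iff_card_primeFactors_eq_one]
  suffices Nat.card {c : ConjClasses (Equiv.Perm (Fin n)) // ∃ g : Equiv.Perm (Fin n),
      ConjClasses.mk g = c ∧ (orderOf g).Prime ∧ ∀ i : Fin n, g i ≠ i} = n.primeFactors.card by rw [this]
  have hn0 : n ≠ 0 := by omega
  have hex : ∀ q : n.primeFactors, ∃ g : Equiv.Perm (Fin n), orderOf g = q ∧ ∀ i : Fin n, g i ≠ i :=
    fun q => exists_der hn0 (Nat.prime_of_mem_primeFactors q.2) (Nat.dvd_of_mem_primeFactors q.2)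
  choose f hf hfd using hex
  rw [← Fintype.card_coe, ← Nat.card_eq_fintype_card]
  refine (Nat.card_congr (Equiv.ofBijective (fun q : n.primeFactors =>
    (⟨ConjClasses.mk (f q), f q, rfl, by rw [hf]; exact Nat.prime_of_mem_primeFactors q.2, hfd q⟩ :
      {c : ConjClasses (Equiv.Perm (Fin n)) // ∃ g : Equiv.Perm (Fin n),
        ConjClasses.mk g = c ∧ (orderOf g).Prime ∧ ∀ i : Fin n, g i ≠ i})) ⟨?_, ?_⟩)).symm
  · intro a b hab
    have h := ConjClasses.mk_eq_mk_iff_isConj.mp (congrArg Subtype.val hab)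
    apply Subtype.ext
    rw [← hf a, ← hf b, ← Equiv.Perm.lcm_cycleType, ← Equiv.Perm.lcm_cycleType,
      Equiv.Perm.isConj_iff_cycleType_eq.mp h]
  · rintro ⟨c, g, rfl, hg, hd⟩
    obtain ⟨h1, h2⟩ := der_type hg hd
    refine ⟨⟨orderOf g, Nat.mem_primeFactors.mpr ⟨hg, h2, hn0⟩⟩, Subtype.ext ?_⟩
    apply ConjClasses.mk_eq_mk_iff_isConj.mpr
    rw [Equiv.Perm.isConj_iff_cycleType_eq]
    have h3 := (der_type (g := f ⟨orderOf g, Nat.mem_primeFactors.mpr ⟨hg, h2, hn0⟩⟩) (by rw [hf]; exact hg) (hfd _)).1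
    rw [h3, hf, h1]

end Cfsg.Agent.S3504
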