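import Mathlib
import Cfsg.Statements.S3508

set_option autoImplicit false
open Cfsg

namespace Cfsg.Agent.S3508

open Polynomial in
lemma geom_sum_eq_sub_pow (p j : ℕ) [hp : Fact p.Prime] :
    ∑ i ∈ Finset.range (p ^ j), (X : (ZMod p)[X]) ^ i = (X - 1) ^ (p ^ j - 1) := by
  apply mul_right_cancel₀ (sub_ne_zero.mpr (fun h => ?_) : (X : (ZMod p)[X]) - 1 ≠ 0)
  · rw [geom_sum_mul, ← pow_succ, Nat.sub_add_cancel (Nat.one_le_pow _ _ hp.out.pos), sub_pow_char_pow, one_pow]
  · exact absurd (congrArg natDegree h) (by simp)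

lemma sub_pow_eq (p : ℕ) [hp : Fact p.Prime] {E : Type*} [Ring E] [Algebra (ZMod p) E] (φ : E) (j : ℕ) :
    (φ - 1) ^ p ^ j = φ ^ p ^ j - 1 := by
  have h := congrArg (Polynomial.aeval φ) (sub_pow_char_pow (R := Polynomial (ZMod p)) (p := p) (n := j) (x := Polynomial.X) (y := 1))
  simpa using h

lemma unipotent_dim {p : ℕ} [hp : Fact p.Prime] {V : Type*} [AddCommGroup V] [Module (ZMod p) V] [Finite V]
    (φ : Module.End (ZMod p) V) {P : ℕ} (h : (φ - 1) ^ P = 0) {m : ℕ} (hm : Nat.card V = p ^ m) :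
    (φ - 1) ^ m = 0 := by
  haveI : Module.Finite (ZMod p) V := Module.Finite.of_finite
  have hfr : Module.finrank (ZMod p) V = m := by
    have h1 := Module.natCard_eq_pow_finrank (K := ZMod p) (V := V)
    rw [Nat.card_zmod, hm] at h1
    exact (Nat.pow_right_injective hp.out.two_le h1).symm
  have hn : IsNilpotent (φ - 1) := ⟨P, h⟩
  have h2 := (LinearMap.isNilpotent_iff_charpoly (φ := φ - 1)).mp hn
  have h3 := LinearMap.aeval_self_charpoly (φ - 1)
  rw [h2, hfr] at h3
  simpa using h3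

lemma key_pow {A : Type*} [CommGroup A] [Finite A] (p m r : ℕ) [hp : Fact p.Prime] (hexp : ∀ a : A, a ^ p = 1)
    (hcard : Nat.card A = p ^ m) (f : MulAut A) (hf : f ^ p ^ r = 1) (v₁ : A) (F : ℕ → A)
    (hF0 : F 0 = 1) (hF : ∀ n, F (n + 1) = f (F n) * v₁) (j : ℕ) (hj : m + 1 ≤ p ^ j) :
    F (p ^ j) = 1 ∧ f ^ p ^ j = 1 := by
  letI : Module (ZMod p) (Additive A) := AddCommGroup.zmodModule (n := p) (G := Additive A) fun x => hexp x.toMul
  haveI : Finite (Additive A) := inferInstanceAs (Finite A)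
  let φ : Module.End (ZMod p) (Additive A) := (MonoidHom.toAdditive f.toMonoidHom).toZModLinearMap p
  have hφ : ∀ v : Additive A, φ v = Additive.ofMul (f v.toMul) := fun v => rfl
  have hφpow : ∀ (i : ℕ) (v : Additive A), (φ ^ i) v = Additive.ofMul ((f ^ i) v.toMul) := by
    intro i
    induction i with
    | zero => intro v; simp
    | succ i ih => intro v; rw [pow_succ' φ, Module.End.mul_apply, ih, hφ, pow_succ' f]; rfl
  have hpow0 : (φ - 1) ^ p ^ r = 0 := by
    rw [sub_pow_eq, sub_eq_zero]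
    refine LinearMap.ext fun v => ?_
    rw [hφpow, hf]; rfl
  have hm0 := unipotent_dim φ hpow0 (show Nat.card (Additive A) = p ^ m from hcard)
  have hφone : φ ^ p ^ j = 1 := by
    rw [← sub_eq_zero, ← sub_pow_eq, ← Nat.sub_add_cancel (show m ≤ p ^ j by omega), pow_add, hm0, mul_zero]
  refine ⟨?_, MulEquiv.ext fun a => ?_⟩
  · have hsum : ∀ n, Additive.ofMul (F n) = (∑ i ∈ Finset.range n, φ ^ i) (Additive.ofMul v₁) := by
      intro n
      induction n with
      | zero => simp [hF0]
      | succ n ih =>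
        rw [geom_sum_succ, LinearMap.add_apply, Module.End.mul_apply, Module.End.one_apply, ← ih, hφ, hF]
        rfl
    have hz : (∑ i ∈ Finset.range (p ^ j), φ ^ i) = 0 := by
      have h1 := congrArg (Polynomial.aeval φ) (geom_sum_eq_sub_pow p j)
      simp only [map_sum, map_pow, map_sub, Polynomial.aeval_X, map_one] at h1
      rw [h1, ← Nat.sub_add_cancel (show m ≤ p ^ j - 1 by omega), pow_add, hm0, mul_zero]
    have := hsum (p ^ j)
    rw [hz, LinearMap.zero_apply] at this
    exact this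
  · have := hφpow (p ^ j) (Additive.ofMul a)
    rw [hφone] at this
    exact (Additive.ofMul.injective this).symm

/-- Let a finite group G act faithfully on a set Ω with p ^ m points (p prime) and have an elementary abelian normal p-subgroup N acting regularly on Ω (so G is a group of affine transformations of an m-dimensional space over the field with p elements). If G contains an element of order p ^ r with r ≥ 1, then p ^ (r − 1) ≤ m. In particular an element of order p ^ m forces m ≤ 2, and m ≤ 1 when p is odd. -/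
theorem result {G : Type*} [Group G] [Finite G] {Ω : Type*} [Fintype Ω] [MulAction G Ω] [FaithfulSMul G Ω] (p m : ℕ) (hp : p.Prime) (hcard : Fintype.card Ω = p ^ m)
    (N : Subgroup G) [N.Normal] (hNc : IsMulCommutative N) (hNp : ∀ n ∈ N, n ^ p = 1)
    (hNtr : MulAction.IsPretransitive N Ω) (hNreg : ∀ ω : Ω, MulAction.stabilizer N ω = ⊥)
    (g : G) (r : ℕ) (hr : 1 ≤ r) (hg : orderOf g = p ^ r) :
    p ^ (r - 1) ≤ m ∧ (r = m → m ≤ 2 ∧ (2 < p → m ≤ 1)) := by
  classical
  haveI := Fact.mk hp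
  haveI : Nonempty Ω := Fintype.card_pos_iff.mp (by rw [hcard]; exact pow_pos hp.pos m)
  letI : CommGroup N := { (inferInstance : Group N) with mul_comm := hNc.is_comm.comm }
  set α : Ω := Classical.arbitrary Ω
  have hbij : Function.Bijective (fun n : N => n • α) := by
    refine ⟨fun a b h => ?_, fun ω => MulAction.exists_smul_eq N α ω⟩
    have : (b⁻¹ * a) ∈ MulAction.stabilizer N α := by
      rw [MulAction.mem_stabilizer_iff, mul_smul, inv_smul_eq_iff]; exact h
    rw [hNreg, Subgroup.mem_bot, inv_mul_eq_one] at this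
    exact this.symm
  have hcardN : Nat.card N = p ^ m := by
    rw [← hcard, ← Nat.card_eq_fintype_card]
    exact Nat.card_congr (Equiv.ofBijective _ hbij)
  set f : MulAut N := MulAut.conjNormal g with hfdef
  have hf : ∀ (i : ℕ) (v : N), (((f ^ i) v : N) : G) = g ^ i * v * (g ^ i)⁻¹ := by
    intro i v
    rw [hfdef, ← map_pow]; rfl
  have hfr : f ^ p ^ r = 1 := by
    rw [hfdef, ← map_pow, ← hg, pow_orderOf_eq_one, map_one]
  obtain ⟨v₁, hv₁⟩ := hbij.2 (g • α)
  let F : ℕ → N := fun n => Nat.rec 1 (fun _ x => f x * v₁) n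
  have hiter : ∀ n : ℕ, g ^ n • α = (Subtype.val (F n)) • α := by
    intro n
    induction n with
    | zero => simp [F]
    | succ n ih =>
      rw [pow_succ', mul_smul, ih]
      show _ = ((f (F n) * v₁ : N) : G) • α
      have hv : (v₁ : G) • α = g • α := hv₁
      rw [Subgroup.coe_mul, mul_smul _ (v₁ : G), hv, hfdef, MulAut.conjNormal_apply, mul_smul (g * _),
        inv_smul_smul, mul_smul]
  have key : ∀ j : ℕ, m + 1 ≤ p ^ j → g ^ p ^ j = 1 := by
    intro j hj
    obtain ⟨hz, hone⟩ := key_pow p m r (fun a : N => Subtype.ext (by simpa using hNp a a.2)) hcardN f hfr v₁ F rfl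
      (fun n => rfl) j hj
    have hfix : g ^ p ^ j • α = α := by rw [hiter, hz]; simp
    refine FaithfulSMul.eq_of_smul_eq_smul (α := Ω) fun ω => ?_
    obtain ⟨n, rfl⟩ := hbij.2 ω
    rw [one_smul]
    show g ^ p ^ j • (n : G) • α = (n : G) • α
    have h2 : g ^ p ^ j * (n : G) * (g ^ p ^ j)⁻¹ = n := by
      rw [← hf, hone]; rfl
    rw [← mul_smul, mul_inv_eq_iff_eq_mul.mp h2, mul_smul, hfix]
  have main : p ^ (r - 1) ≤ m := by
    by_contra hcon
    have h1 : g ^ p ^ (r - 1) = 1 := key (r - 1) (by omega)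
    have h2 : orderOf g ∣ p ^ (r - 1) := orderOf_dvd_of_pow_eq_one h1
    rw [hg] at h2
    have := (Nat.pow_dvd_pow_iff_le_right hp.one_lt).mp h2
    omega
  refine ⟨main, fun hrm => ?_⟩
  subst hrm
  constructor
  · by_contra hlt
    obtain ⟨k, rfl⟩ := Nat.exists_eq_add_of_le (show 3 ≤ r by omega)
    have h1 : (2 : ℕ) ^ (3 + k - 1) ≤ p ^ (3 + k - 1) := Nat.pow_le_pow_left hp.two_le _
    have h2 : k < 2 ^ k := Nat.lt_two_pow_self
    rw [show 3 + k - 1 = k + 2 by omega] at h1 main
    have h3 : 2 ^ (k + 2) = 4 * 2 ^ k := by rw [pow_add]; ring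
    omega
  · intro hp2
    by_contra hlt
    obtain ⟨k, rfl⟩ := Nat.exists_eq_add_of_le (show 2 ≤ r by omega)
    have h1 : (3 : ℕ) ^ (2 + k - 1) ≤ p ^ (2 + k - 1) := Nat.pow_le_pow_left (by omega) _
    have h2 : k < 3 ^ k := Nat.lt_pow_self (by norm_num)
    rw [show 2 + k - 1 = k + 1 by omega] at h1 main
    have h3 : 3 ^ (k + 1) = 3 * 3 ^ k := by rw [pow_add]; ring
    omega

end Cfsg.Agent.S3508
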