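
import Cfsg.Statements.S3511

set_option autoImplicit false
open Cfsg

namespace Cfsg.Agent.S3511



/-- Let a finite group G act faithfully on a set Ω. If every element of G of square-free order has a regular cycle (an orbit of the cyclic group it generates with trivial stabilizer), then every element of G has a regular cycle. -/
theorem result {G : Type*} [Group G] [Finite G] {Ω : Type*} [MulAction G Ω] [FaithfulSMul G Ω]
    (h : ∀ g : G, Squarefree (orderOf g) → ∃ ω : Ω, MulAction.stabilizer (Subgroup.zpowers g) ω = ⊥) (g : G) :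
    ∃ ω : Ω, MulAction.stabilizer (Subgroup.zpowers g) ω = ⊥ := by
  obtain ⟨ω, hω⟩ := h (g ^ (orderOf g / (UniqueFactorizationMonoid.radical (orderOf g)))) (by
    have hpos : 0 < orderOf g := orderOf_pos g
    rw [orderOf_pow_orderOf_div hpos.ne' UniqueFactorizationMonoid.radical_dvd_self]
    exact UniqueFactorizationMonoid.squarefree_radical)
  refine ⟨ω, ?_⟩
  by_contra hne
  set K := (MulAction.stabilizer (Subgroup.zpowers g) ω).map (Subgroup.zpowers g).subtype with hK
  have hKle : K ≤ Subgroup.zpowers g := Subgroup.map_subtype_le _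
  have hKne : K ≠ ⊥ := by
    rw [hK, ne_eq, Subgroup.map_eq_bot_iff_of_injective _ Subtype.val_injective]
    exact hne
  haveI : Nontrivial K := (Subgroup.nontrivial_iff_ne_bot K).mpr hKne
  obtain ⟨q, hq, hqd⟩ := Nat.exists_prime_and_dvd (Finite.one_lt_card (α := K)).ne'
  haveI := Fact.mk hq
  obtain ⟨x, hx⟩ := exists_prime_orderOf_dvd_card' q hqd
  obtain ⟨k, hk⟩ := Subgroup.mem_zpowers_iff.mp (hKle x.2)
  set m := UniqueFactorizationMonoid.radical (orderOf g) with hm
  have hxo : orderOf (x : G) = q := by rw [Subgroup.orderOf_coe]; exact hx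
  have hqg : q ∣ orderOf g := by
    rw [← hxo]; exact orderOf_dvd_of_mem_zpowers (hKle x.2)
  have hqm : q ∣ m := by
    rw [hm]
    exact (UniqueFactorizationMonoid.dvd_radical_iff_of_irreducible hq (orderOf_pos g).ne').mpr hqg
  have hmem : (x : G) ∈ Subgroup.zpowers (g ^ (orderOf g / m)) := by
    have h1 : ((x : G)) ^ m = 1 := orderOf_dvd_iff_pow_eq_one.mp (hxo ▸ hqm)
    rw [← hk, ← zpow_natCast, ← zpow_mul, ← orderOf_dvd_iff_zpow_eq_one] at h1
    obtain ⟨d, hd⟩ := UniqueFactorizationMonoid.radical_dvd_self (a := orderOf g)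
    rw [← hm] at hd
    have hm0 : m ≠ 0 := UniqueFactorizationMonoid.radical_ne_zero
    rw [hd, Nat.cast_mul, mul_comm k (m : ℤ), mul_dvd_mul_iff_left (by exact_mod_cast hm0)] at h1
    obtain ⟨c, hc⟩ := h1
    refine Subgroup.mem_zpowers_iff.mpr ⟨c, ?_⟩
    rw [← hk, hc, hd, Nat.mul_div_cancel_left _ (Nat.pos_of_ne_zero hm0), zpow_mul, zpow_natCast]
  have hfix : (x : G) • ω = ω := by
    obtain ⟨y, hy, hyx⟩ := Subgroup.mem_map.mp x.2
    have : y • ω = ω := hy
    rw [← hyx]; exact this
  have hmem2 : (⟨(x : G), hmem⟩ : Subgroup.zpowers (g ^ (orderOf g / m))) ∈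
      MulAction.stabilizer (Subgroup.zpowers (g ^ (orderOf g / m))) ω := hfix
  rw [hω, Subgroup.mem_bot] at hmem2
  have : (x : G) = 1 := congrArg Subtype.val hmem2
  rw [this, orderOf_one] at hxo
  exact hq.ne_one hxo.symm

end Cfsg.Agent.S3511
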