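
import Cfsg.Statements.S3514

set_option autoImplicit false
open Cfsg

namespace Cfsg.Agent.S3514

lemma relIndex_sup' {Y : Type*} [Group Y] [Finite Y] (A B : Subgroup Y) [B.Normal] :
    A.relIndex (A ⊔ B) = A.relIndex B := by
  have h1 : B.relIndex (A ⊔ B) = B.relIndex A := Subgroup.relIndex_sup_right A B
  have m1 := Subgroup.relIndex_mul_relIndex (A ⊓ B) A (A ⊔ B) inf_le_left le_sup_left
  have m2 := Subgroup.relIndex_mul_relIndex (A ⊓ B) B (A ⊔ B) inf_le_right le_sup_right
  rw [Subgroup.inf_relIndex_left] at m1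
  rw [Subgroup.inf_relIndex_right, h1, ← m1, mul_comm] at m2
  have hne : B.relIndex A ≠ 0 := Subgroup.FiniteIndex.index_ne_zero (H := B.subgroupOf A)
  exact (Nat.eq_of_mul_eq_mul_left (Nat.pos_of_ne_zero hne) m2).symm

/-- orbit sizes divide: if `K` is normal in `L`, each `L`-orbit splits into `K`-orbits, their number dividing any index -/
lemma key {X Y : Type*} [Group Y] [MulAction Y X] [Finite Y] (L K : Subgroup Y)
    (hKL : K ≤ L) (hnorm : L ≤ Subgroup.normalizer (K : Set Y)) (v : X) :
    Nat.card (MulAction.orbit K v) ∣ Nat.card (MulAction.orbit L v) := by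
  rw [Nat.card_coe_set_eq, Nat.card_coe_set_eq, ← MulAction.index_stabilizer, ← MulAction.index_stabilizer]
  haveI : (K.subgroupOf L).Normal := Subgroup.normal_subgroupOf_iff_le_normalizer hKL |>.mpr hnorm
  have h1 : (MulAction.stabilizer K v).index = ((MulAction.stabilizer L v)).relIndex (K.subgroupOf L) := by
    have e1 : MulAction.stabilizer K v = (MulAction.stabilizer Y v).subgroupOf K := by ext x; rfl
    have e2 : MulAction.stabilizer L v = (MulAction.stabilizer Y v).subgroupOf L := by ext x; rfl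
    rw [e1, e2, Subgroup.relIndex_subgroupOf hKL]; rfl
  rw [h1]
  rw [← relIndex_sup']
  exact Dvd.intro _ (Subgroup.relIndex_mul_index le_sup_left)

lemma orbit_eq {V : Type*} (p : ℕ) [Fact p.Prime] [AddCommGroup V] [Module (ZMod p) V]
    (K : Subgroup (V ≃ₗ[ZMod p] V)) (v : V) : {u : V | ∃ k ∈ K, k v = u} = MulAction.orbit K v := by
  ext u
  exact ⟨fun ⟨k, hk, h⟩ => ⟨⟨k, hk⟩, h⟩, fun ⟨k, h⟩ => ⟨k, k.2, h⟩⟩

/-- Let p be a prime, V a finite vector space over the field with p elements, and H a group of linear transformations of V all of whose orbits on V have size coprime to p. (i) Every normal subgroup K of H has all its orbits on V of size coprime to p. (ii) If N is a group of linear transformations of V of order coprime to p that is normalized by H, then the group generated by N and H has all its orbits on V of size coprime to p. -/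
theorem result (p : ℕ) [Fact p.Prime] {V : Type*} [AddCommGroup V] [Module (ZMod p) V] [Finite V]
    (H : Subgroup (V ≃ₗ[ZMod p] V)) (hH : ∀ v : V, ¬ p ∣ Nat.card {u : V | ∃ h ∈ H, h v = u}) :
    (∀ K : Subgroup (V ≃ₗ[ZMod p] V), K ≤ H → H ≤ Subgroup.normalizer (K : Set (V ≃ₗ[ZMod p] V)) →
        ∀ v : V, ¬ p ∣ Nat.card {u : V | ∃ k ∈ K, k v = u}) ∧
    (∀ N : Subgroup (V ≃ₗ[ZMod p] V), ¬ p ∣ Nat.card N → H ≤ Subgroup.normalizer (N : Set (V ≃ₗ[ZMod p] V)) →
        ∀ v : V, ¬ p ∣ Nat.card {u : V | ∃ x ∈ N ⊔ H, x v = u}) := by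
  simp only [orbit_eq] at hH ⊢
  haveI : Finite (V ≃ₗ[ZMod p] V) := Finite.of_injective (fun f => (f : V → V)) DFunLike.coe_injective
  refine ⟨fun K hKH hHK v hdvd => hH v (hdvd.trans (key H K hKH hHK v)), fun N hN hHN v hdvd => ?_⟩
  have hp : p.Prime := Fact.out
  set L := N ⊔ H with hL
  have hLn : L ≤ Subgroup.normalizer (N : Set _) := sup_le Subgroup.le_normalizer hHN
  set B := N.subgroupOf L with hB
  haveI : B.Normal := Subgroup.normal_subgroupOf_iff_le_normalizer le_sup_left |>.mpr hLn
  have e2 : ∀ M : Subgroup (V ≃ₗ[ZMod p] V), MulAction.stabilizer M v =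
      (MulAction.stabilizer (V ≃ₗ[ZMod p] V) v).subgroupOf M := fun M => by ext x; rfl
  rw [Nat.card_coe_set_eq, ← MulAction.index_stabilizer, e2] at hdvd
  set S := (MulAction.stabilizer (V ≃ₗ[ZMod p] V) v) with hS
  have hH' : ¬ p ∣ (S.subgroupOf H).index := by
    rw [← e2, MulAction.index_stabilizer, ← Nat.card_coe_set_eq]; exact hH v
  set A := S.subgroupOf L with hA
  -- `[L : L_v] = [L : N L_v] [N L_v : L_v]`
  rw [← Subgroup.relIndex_mul_index (H := A) (K := A ⊔ B) le_sup_left] at hdvd
  rcases (Nat.Prime.dvd_mul hp).mp hdvd with h | h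
  · -- `[N L_v : L_v] = [N : N_v]`
    rw [relIndex_sup'] at h
    refine hN (h.trans ((Subgroup.relIndex_dvd_card A B).trans ?_))
    rw [Nat.card_congr (Subgroup.subgroupOfEquivOfLe (le_sup_left : N ≤ L)).toEquiv]
  · -- `[L : N L_v]` divides `[H : H_v]`
    let π := QuotientGroup.mk' B
    let f : H →* L ⧸ B := π.comp (Subgroup.inclusion le_sup_right)
    have hf : Function.Surjective f := by
      intro x
      obtain ⟨x, rfl⟩ := QuotientGroup.mk'_surjective B x
      have hx : (x : V ≃ₗ[ZMod p] V) ∈ H ⊔ N := by rw [sup_comm]; exact x.2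
      rw [← SetLike.mem_coe, Subgroup.coe_mul_of_left_le_normalizer_right H N hHN] at hx
      obtain ⟨h, hh, n, hn, hxe⟩ := hx
      refine ⟨⟨h, hh⟩, ?_⟩
      simp only [f, π, MonoidHom.comp_apply, QuotientGroup.mk'_apply]
      rw [QuotientGroup.eq, hB, Subgroup.mem_subgroupOf]
      simpa [← hxe] using hn
    have hA' : (A.map π).index = (A ⊔ B).index := by
      rw [Subgroup.index_map, QuotientGroup.ker_mk',
        MonoidHom.range_eq_top.mpr (QuotientGroup.mk'_surjective B), Subgroup.index_top, mul_one]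
    rw [← hA', ← Subgroup.index_comap_of_surjective _ hf] at h
    refine hH' (h.trans (Subgroup.index_dvd_of_le ?_))
    intro x hx
    exact ⟨Subgroup.inclusion le_sup_right x, hx, rfl⟩

end Cfsg.Agent.S3514
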