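import Cfsg.Agent.Lib.AffineClosure
import Cfsg.Statements.S3515

set_option autoImplicit false
open Cfsg

namespace Cfsg.Agent.S3515

lemma ext_three {p : ℕ} [Fact p.Prime] (A B : (Fin 2 → ZMod p) ≃ₗ[ZMod p] (Fin 2 → ZMod p))
    (h0 : A (Pi.single 0 1) = B (Pi.single 0 1)) (h1 : A (Pi.single 1 1) = B (Pi.single 1 1)) :
    ∀ x, A x = B x := by
  intro x
  have : x = x 0 • Pi.single 0 1 + x 1 • Pi.single 1 1 := by
    funext i; fin_cases i <;> simp
  rw [this]
  simp only [map_add, map_smul, h0, h1]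
lemma perm_four : ∀ π : Equiv.Perm (Fin 2 → ZMod 2), π 0 = 0 → π (Pi.single 0 1) = Pi.single 0 1 →
    π (Pi.single 1 1) = Pi.single 1 1 → π = 1 := by
  decide

/-- Every primitive affine permutation group of degree p² is 3-closed. Let p be a prime and G a group of permutations of the plane V = F_p² consisting of affine maps x ↦ Ax + b, containing all translations, and acting primitively on V. Then any permutation σ of V that agrees on every triple of points with some element of G (σ preserves every G-orbit on ordered triples) already lies in G. -/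
theorem result (p : ℕ) [Fact p.Prime] (G : Subgroup (Equiv.Perm (Fin 2 → ZMod p)))
    (haff : (G : Set (Equiv.Perm (Fin 2 → ZMod p))) ⊆ {τ : Equiv.Perm (Fin 2 → ZMod p) | ∃ (A : (Fin 2 → ZMod p) ≃ₗ[ZMod p] (Fin 2 → ZMod p)) (b : Fin 2 → ZMod p), ∀ x, τ x = A x + b})
    (htrans : ∀ b : Fin 2 → ZMod p, ∃ g ∈ G, ∀ x, g x = x + b) (hprim : MulAction.IsPreprimitive G (Fin 2 → ZMod p))
    (σ : Equiv.Perm (Fin 2 → ZMod p)) (hσ : (∀ t : Fin 3 → (Fin 2 → ZMod p), ∃ g ∈ G, ∀ i, σ (t i) = g (t i))) : σ ∈ G := by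
  classical
  obtain ⟨g, hg, hgt⟩ := hσ ![0, Pi.single 0 1, Pi.single 1 1]
  suffices σ = g by rw [this]; exact hg
  have e0 : σ 0 = g 0 := hgt 0
  have e1 : σ (Pi.single 0 1) = g (Pi.single 0 1) := hgt 1
  have e2 : σ (Pi.single 1 1) = g (Pi.single 1 1) := hgt 2
  obtain ⟨B, c, hB⟩ := haff hg
  by_cases hp : p = 2
  · subst hp
    set π : Equiv.Perm (Fin 2 → ZMod 2) := g⁻¹ * σ with hπ
    have f0 : π 0 = 0 := by simp [hπ, e0]
    have f1 : π (Pi.single 0 1) = Pi.single 0 1 := by simp [hπ, e1]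
    have f2 : π (Pi.single 1 1) = Pi.single 1 1 := by simp [hπ, e2]
    have key : π = 1 := perm_four π f0 f1 f2
    exact (inv_mul_eq_one.mp key).symm
  · obtain ⟨A, b, hA⟩ := AffineClosure.exists_affine hp σ (fun x y z => by
      obtain ⟨k, hk, hkt⟩ := hσ ![x, y, z]
      obtain ⟨A, b, hA⟩ := haff hk
      exact ⟨A, b, (hkt 0).trans (hA _), (hkt 1).trans (hA _), (hkt 2).trans (hA _)⟩)
    have hb : b = c := by
      have := e0
      rwa [hA, hB, map_zero, map_zero, zero_add, zero_add] at this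
    rw [hA, hB, hb, add_left_inj] at e1 e2
    refine Equiv.ext fun x => ?_
    rw [hA, hB, hb, ext_three A B e1 e2 x]

end Cfsg.Agent.S3515
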