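import Cfsg.Agent.Lib.AffineClosure
import Cfsg.Statements.S3516

set_option autoImplicit false
open Cfsg

namespace Cfsg.Agent.S3516

open Matrix in
/-- adjust the determinant of a linear map away from two given vectors -/
lemma exists_fix {p d : ℕ} [Fact p.Prime] (hd : 3 ≤ d) (u w : Fin d → ZMod p) (c : ZMod p) :
    ∃ D : Matrix (Fin d) (Fin d) (ZMod p), D.det = c ∧ D *ᵥ u = u ∧ D *ᵥ w = w := by
  let φ : (Fin d → ZMod p) →ₗ[ZMod p] (ZMod p × ZMod p) :=
    { toFun := fun r => (r ⬝ᵥ u, r ⬝ᵥ w)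
      map_add' := fun a b => by simp [add_dotProduct]
      map_smul' := fun a b => by simp [smul_dotProduct] }
  have hk : φ.ker ≠ ⊥ := LinearMap.ker_ne_bot_of_finrank_lt (by simp; omega)
  obtain ⟨r, hr, hr0⟩ := Submodule.exists_mem_ne_zero_of_ne_bot hk
  obtain ⟨i, hi⟩ := Function.ne_iff.mp hr0
  have hru : r ⬝ᵥ u = 0 := congrArg Prod.fst (LinearMap.mem_ker.mp hr)
  have hrw : r ⬝ᵥ w = 0 := congrArg Prod.snd (LinearMap.mem_ker.mp hr)
  set v : Fin d → ZMod p := Pi.single i ((c - 1) / r i) with hv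
  refine ⟨1 + replicateCol Unit v * replicateRow Unit r, ?_, ?_, ?_⟩
  · rw [det_one_add_replicateCol_mul_replicateRow, hv, dotProduct_single, mul_div_cancel₀ _ hi]
    ring
  · have hz : replicateRow Unit r *ᵥ u = 0 := funext fun _ => hru
    rw [add_mulVec, one_mulVec, ← mulVec_mulVec, hz, mulVec_zero, add_zero]
  · have hz : replicateRow Unit r *ᵥ w = 0 := funext fun _ => hrw
    rw [add_mulVec, one_mulVec, ← mulVec_mulVec, hz, mulVec_zero, add_zero]

/-- Let p be an odd prime, d ≥ 3, and G a group of affine permutations x ↦ Ax + b of V = F_p^d containing all translations and all maps x ↦ Ax with A of determinant 1. Then the 3-closure of G is the full affine group: a permutation σ of V agrees on every triple of points with some element of G if and only if σ is an affine map. -/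
theorem result (p : ℕ) [Fact p.Prime] (hp : p ≠ 2) (d : ℕ) (hd : 3 ≤ d) (G : Subgroup (Equiv.Perm (Fin d → ZMod p)))
    (haff : (G : Set (Equiv.Perm (Fin d → ZMod p))) ⊆ {τ : Equiv.Perm (Fin d → ZMod p) | ∃ (A : (Fin d → ZMod p) ≃ₗ[ZMod p] (Fin d → ZMod p)) (b : Fin d → ZMod p), ∀ x, τ x = A x + b})
    (htrans : ∀ b : Fin d → ZMod p, ∃ g ∈ G, ∀ x, g x = x + b)
    (hsl : ∀ A : (Fin d → ZMod p) ≃ₗ[ZMod p] (Fin d → ZMod p), LinearMap.det (A : (Fin d → ZMod p) →ₗ[ZMod p] (Fin d → ZMod p)) = 1 → ∃ g ∈ G, ∀ x, g x = A x)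
    (σ : Equiv.Perm (Fin d → ZMod p)) :
    (∀ t : Fin 3 → (Fin d → ZMod p), ∃ g ∈ G, ∀ i, σ (t i) = g (t i)) ↔ σ ∈ {τ : Equiv.Perm (Fin d → ZMod p) | ∃ (A : (Fin d → ZMod p) ≃ₗ[ZMod p] (Fin d → ZMod p)) (b : Fin d → ZMod p), ∀ x, τ x = A x + b} := by
  classical
  constructor
  · intro hσ
    exact AffineClosure.exists_affine hp σ (fun x y z => by
      obtain ⟨k, hk, hkt⟩ := hσ ![x, y, z]
      obtain ⟨A, b, hA⟩ := haff hk
      exact ⟨A, b, (hkt 0).trans (hA _), (hkt 1).trans (hA _), (hkt 2).trans (hA _)⟩)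
  · rintro ⟨A, b, hA⟩ t
    obtain ⟨D, hD, hDu, hDw⟩ := exists_fix hd (t 1 - t 0) (t 2 - t 0)
      (LinearMap.det (A : (Fin d → ZMod p) →ₗ[ZMod p] (Fin d → ZMod p)))⁻¹
    have hdetA : LinearMap.det (A : (Fin d → ZMod p) →ₗ[ZMod p] (Fin d → ZMod p)) ≠ 0 :=
      (LinearEquiv.isUnit_det' A).ne_zero
    set C : (Fin d → ZMod p) →ₗ[ZMod p] (Fin d → ZMod p) := (A : (Fin d → ZMod p) →ₗ[ZMod p] (Fin d → ZMod p)).comp (Matrix.toLin' D)
    have hC : LinearMap.det C = 1 := by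
      rw [LinearMap.det_comp, LinearMap.det_toLin', hD, mul_inv_cancel₀ hdetA]
    obtain ⟨g₁, hg₁, hg₁'⟩ := hsl (LinearEquiv.ofIsUnitDet (v := Pi.basisFun (ZMod p) (Fin d)) (v' := Pi.basisFun (ZMod p) (Fin d)) (f := C)
      (by rw [LinearMap.det_toMatrix, hC]; exact isUnit_one)) (by
        rw [show ((LinearEquiv.ofIsUnitDet _ : (Fin d → ZMod p) ≃ₗ[ZMod p] (Fin d → ZMod p)) : (Fin d → ZMod p) →ₗ[ZMod p] (Fin d → ZMod p)) = C from
          LinearEquiv.coe_ofIsUnitDet _]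
        exact hC)
    obtain ⟨g₂, hg₂, hg₂'⟩ := htrans (A (t 0) + b - C (t 0))
    refine ⟨g₂ * g₁, G.mul_mem hg₂ hg₁, fun i => ?_⟩
    rw [Equiv.Perm.mul_apply, hg₂', hg₁', hA]
    show A (t i) + b = C (t i) + (A (t 0) + b - C (t 0))
    have hCi : C (t i) - C (t 0) = A (t i) - A (t 0) := by
      rw [← map_sub, ← map_sub]
      show A (Matrix.toLin' D (t i - t 0)) = A (t i - t 0)
      congr 1
      rw [Matrix.toLin'_apply]
      fin_cases i
      · simp
      · exact hDu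
      · exact hDw
    rw [sub_eq_iff_eq_add] at hCi
    rw [hCi]
    abel

end Cfsg.Agent.S3516
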