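
import Cfsg.Statements.S3517

set_option autoImplicit false
open Cfsg

namespace Cfsg.Agent.S3517

lemma addSelf {d : ℕ} (x : Fin d → ZMod 2) : x + x = 0 := by
  funext i; exact CharTwo.add_self_eq_zero (x i)

lemma zmod2_cases (a : ZMod 2) : a = 0 ∨ a = 1 := by
  revert a; decide

/-- two independent vectors can be moved to two independent vectors -/
lemma pair_map {d : ℕ} {u w u' w' : Fin d → ZMod 2} (hu : u ≠ 0) (hw : w ≠ 0) (huw : u ≠ w)
    (hu' : u' ≠ 0) (hw' : w' ≠ 0) (huw' : u' ≠ w') :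
    ∃ A : (Fin d → ZMod 2) ≃ₗ[ZMod 2] (Fin d → ZMod 2), A u = u' ∧ A w = w' := by
  have li : ∀ {a b : Fin d → ZMod 2}, a ≠ 0 → b ≠ 0 → a ≠ b → LinearIndependent (ZMod 2) ![a, b] := by
    intro a b ha hb hab
    rw [LinearIndependent.pair_iff]
    intro s t hst
    rcases zmod2_cases s with rfl | rfl <;> rcases zmod2_cases t with rfl | rfl
    · exact ⟨rfl, rfl⟩
    · simp [hb] at hst
    · simp [ha] at hst
    · exfalso; apply hab
      simp only [one_smul] at hst
      calc a = a + (b + b) := by rw [addSelf, add_zero]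
        _ = b := by rw [← add_assoc, hst, zero_add]
  have h1 := li hu hw huw
  have h2 := li hu' hw' huw'
  obtain ⟨A, hA⟩ := Submodule.exists_linearEquiv_restrict_eq (h1.linearCombinationEquiv.symm ≪≫ₗ h2.linearCombinationEquiv)
  refine ⟨A, ?_, ?_⟩
  · have := hA (h1.linearCombinationEquiv (Finsupp.single 0 1))
    simpa using this.symm
  · have := hA (h1.linearCombinationEquiv (Finsupp.single 1 1))
    simpa using this.symm

/-- For d ≥ 3, the 3-closure of the affine group AGL_d(2) acting on F_2^d is the full symmetric group: every permutation of F_2^d agrees on every ordered triple of points with some affine map (AGL_d(2) is 3-transitive). -/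
theorem result (d : ℕ) (hd : 3 ≤ d) (σ : Equiv.Perm (Fin d → ZMod 2)) (t : Fin 3 → (Fin d → ZMod 2)) :
    ∃ (A : (Fin d → ZMod 2) ≃ₗ[ZMod 2] (Fin d → ZMod 2)) (b : Fin d → ZMod 2), ∀ i, σ (t i) = A (t i) + b := by
  -- images under `σ` keep the equality pattern of the three points
  set u := t 1 - t 0 with hu
  set w := t 2 - t 0 with hw
  set u' := σ (t 1) - σ (t 0) with hu'
  set w' := σ (t 2) - σ (t 0) with hw'
  have eu : u = 0 ↔ u' = 0 := by simp [hu, hu', sub_eq_zero]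
  have ew : w = 0 ↔ w' = 0 := by simp [hw, hw', sub_eq_zero]
  have euw : u = w ↔ u' = w' := by simp [hu, hu', hw, hw']
  obtain ⟨e, he⟩ : ∃ e : Fin d → ZMod 2, e ≠ 0 := ⟨fun _ => 1, fun h => one_ne_zero (congrFun h ⟨0, by omega⟩)⟩
  obtain ⟨f, hf, hfe⟩ : ∃ f : Fin d → ZMod 2, f ≠ 0 ∧ ∀ c : ZMod 2, f ≠ fun _ => c := by
    refine ⟨Pi.single ⟨0, by omega⟩ 1, by simp, fun c h => ?_⟩
    have h0 := congrFun h ⟨0, by omega⟩
    have h1 := congrFun h ⟨1, by omega⟩
    simp [Pi.single_apply] at h0 h1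
    exact one_ne_zero (h0.trans h1.symm)
  -- it suffices to move `u, w` to `u', w'`
  suffices ∃ A : (Fin d → ZMod 2) ≃ₗ[ZMod 2] (Fin d → ZMod 2), A u = u' ∧ A w = w' by
    obtain ⟨A, hAu, hAw⟩ := this
    refine ⟨A, σ (t 0) - A (t 0), fun i => ?_⟩
    fin_cases i
    · simp
    · rw [hu, map_sub, hu'] at hAu
      linear_combination (norm := (simp; abel)) -hAu
    · rw [hw, map_sub, hw'] at hAw
      linear_combination (norm := (simp; abel)) -hAw
  -- another nonzero vector, different from a given one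
  have other : ∀ x : Fin d → ZMod 2, ∃ y, y ≠ 0 ∧ x ≠ y := by
    intro x
    by_cases hx : x = f
    · exact ⟨fun _ => 1, fun h => one_ne_zero (congrFun h ⟨0, by omega⟩), hx ▸ hfe 1⟩
    · exact ⟨f, hf, hx⟩
  obtain ⟨y₁, hy₁, hy₁'⟩ := other u
  obtain ⟨y₂, hy₂, hy₂'⟩ := other u'
  obtain ⟨y₃, hy₃, hy₃'⟩ := other w
  obtain ⟨y₄, hy₄, hy₄'⟩ := other w'
  by_cases h0 : u = 0
  · by_cases h1 : w = 0
    · exact ⟨LinearEquiv.refl _ _, by simp [h0, eu.mp h0], by simp [h1, ew.mp h1]⟩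
    · obtain ⟨A, hA, -⟩ := pair_map h1 hy₃ hy₃' (fun h => h1 (ew.mpr h)) hy₄ hy₄'
      exact ⟨A, by simp [h0, eu.mp h0], hA⟩
  · obtain ⟨A, hA, -⟩ := pair_map h0 hy₁ hy₁' (fun h => h0 (eu.mpr h)) hy₂ hy₂'
    by_cases h1 : w = 0
    · exact ⟨A, hA, by simp [h1, ew.mp h1]⟩
    · by_cases h2 : u = w
      · exact ⟨A, hA, by rw [← h2, hA, euw.mp h2]⟩
      · exact pair_map h0 h1 h2 (fun h => h0 (eu.mpr h)) (fun h => h1 (ew.mpr h)) (fun h => h2 (euw.mpr h))

end Cfsg.Agent.S3517
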