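import Cfsg.Agent.Lib.PrimeCayleyRigid
import Cfsg.Statements.S3518

set_option autoImplicit false
open Cfsg

namespace Cfsg.Agent.S3518



/-- Closures of subgroups of the one-dimensional affine group. Let p be a prime and G a group of permutations of F_p lying in the affine group AGL₁(p) = {x ↦ ax + b, a ≠ 0} and containing all translations. (1) If G is a proper subgroup of AGL₁(p), then G is 2-closed: a permutation of F_p agreeing on every ordered pair of points with some element of G lies in G. (2) Every permutation of F_p agrees on every ordered pair with some element of AGL₁(p) (the 2-closure of AGL₁(p) is the symmetric group). (3) AGL₁(p) is 3-closed: a permutation agreeing on every ordered triple with some affine map is affine. -/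
theorem result (p : ℕ) [Fact p.Prime] (G : Subgroup (Equiv.Perm (ZMod p))) (hG : G ≤ Cfsg.affineGroup (ZMod p))
    (htrans : ∀ b : ZMod p, ∃ g ∈ G, ∀ x, g x = x + b) :
    (G ≠ Cfsg.affineGroup (ZMod p) → ∀ σ : Equiv.Perm (ZMod p), (∀ t : Fin 2 → ZMod p, ∃ g ∈ G, ∀ i, σ (t i) = g (t i)) → σ ∈ G) ∧
    (∀ σ : Equiv.Perm (ZMod p), (∀ t : Fin 2 → ZMod p, ∃ g ∈ Cfsg.affineGroup (ZMod p), ∀ i, σ (t i) = g (t i))) ∧
    (∀ σ : Equiv.Perm (ZMod p), (∀ t : Fin 3 → ZMod p, ∃ g ∈ Cfsg.affineGroup (ZMod p), ∀ i, σ (t i) = g (t i)) → σ ∈ Cfsg.affineGroup (ZMod p)) := by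
  classical
  have htr : ∀ b : ZMod p, ∀ g : Equiv.Perm (ZMod p), (∀ x, g x = x + b) → ∀ (h : Equiv.Perm (ZMod p)) (a : (ZMod p)ˣ) (c : ZMod p),
      (∀ x, h x = (a : ZMod p) * x + c) → ∀ x, (g * h) x = (a : ZMod p) * x + (c + b) := by
    intro b g hg h a c hh x
    rw [Equiv.Perm.mul_apply, hh, hg, add_assoc]
  refine ⟨fun hne σ hσ => ?_, fun σ t => ?_, fun σ hσ => ?_⟩
  · let A : Subgroup (ZMod p)ˣ :=
      { carrier := {a | ∃ g ∈ G, ∀ x, g x = (a : ZMod p) * x}
        one_mem' := ⟨1, G.one_mem, fun x => by simp⟩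
        mul_mem' := by
          rintro a b ⟨g, hg, hga⟩ ⟨h, hh, hhb⟩
          exact ⟨g * h, G.mul_mem hg hh, fun x => by simp [hga, hhb, mul_assoc]⟩
        inv_mem' := by
          rintro a ⟨g, hg, hga⟩
          refine ⟨g⁻¹, G.inv_mem hg, fun x => g.injective ?_⟩
          rw [Equiv.Perm.inv_def, Equiv.apply_symm_apply, hga, ← mul_assoc, Units.mul_inv, one_mul] }
    have hAG : ∀ g : Equiv.Perm (ZMod p), ∀ a : (ZMod p)ˣ, ∀ c, (∀ x, g x = (a : ZMod p) * x + c) → (g ∈ G ↔ a ∈ A) := by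
      intro g a c hg
      obtain ⟨t, ht, htt⟩ := htrans (-c)
      obtain ⟨s, hs, hss⟩ := htrans c
      constructor
      · intro hgG
        exact ⟨t * g, G.mul_mem ht hgG, fun x => by rw [htr (-c) t htt g a c hg x, add_neg_cancel, add_zero]⟩
      · rintro ⟨h, hh, hha⟩
        have : g = s * h := Equiv.ext fun x => by
          rw [htr c s hss h a 0 (fun y => by rw [hha, add_zero]) x, hg, zero_add]
        rw [this]; exact G.mul_mem hs hh
    have hA : A ≠ ⊤ := by
      intro hA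
      refine hne (le_antisymm hG ?_)
      rintro g ⟨a, c, hg⟩
      exact (hAG g a c hg).mpr (hA ▸ Subgroup.mem_top a)
    obtain ⟨a, b, hab⟩ := PrimeCayleyRigid.exists_affine A hA σ (fun x u hu => by
      obtain ⟨g, hg, hgt⟩ := hσ ![x, x + (u : (ZMod p)ˣ)]
      obtain ⟨c, d, hgc⟩ := hG hg
      have h0 : σ x = g x := hgt 0
      have h1 : σ (x + (u : (ZMod p)ˣ)) = g (x + (u : (ZMod p)ˣ)) := hgt 1
      refine ⟨c * u, A.mul_mem ((hAG g c d hgc).mp hg) hu, ?_⟩
      rw [h1, h0, hgc, hgc, Units.val_mul]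
      ring)
    obtain ⟨g, hg, hgt⟩ := hσ ![0, 1]
    obtain ⟨c, d, hgc⟩ := hG hg
    have h0 : σ 0 = g 0 := hgt 0
    have h1 : σ 1 = g 1 := hgt 1
    simp only [hab, hgc, mul_zero, zero_add, mul_one] at h0 h1
    have : σ = g := Equiv.ext fun x => by
      rw [hab, hgc, h0]
      rw [h0] at h1
      rw [add_right_cancel h1]
    rw [this]; exact hg
  · have key : ∀ x y : ZMod p, ∃ g ∈ Cfsg.affineGroup (ZMod p), σ x = g x ∧ σ y = g y := by
      intro x y
      by_cases hxy : x = y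
      · subst hxy
        exact ⟨Equiv.addRight (σ x - x), ⟨1, σ x - x, fun z => by simp⟩, by simp, by simp⟩
      · have hne : (σ y - σ x) / (y - x) ≠ 0 :=
          div_ne_zero (sub_ne_zero.mpr (σ.injective.ne (Ne.symm hxy))) (sub_ne_zero.mpr (Ne.symm hxy))
        set a : ZMod p := (σ y - σ x) / (y - x) with ha
        refine ⟨(Equiv.mulLeft₀ a hne).trans (Equiv.addRight (σ x - a * x)),
          ⟨Units.mk0 a hne, σ x - a * x, fun z => by simp⟩, by simp, ?_⟩
        have : a * (y - x) = σ y - σ x := div_mul_cancel₀ _ (sub_ne_zero.mpr (Ne.symm hxy))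
        simp only [Equiv.trans_apply, Equiv.mulLeft₀_apply, Equiv.coe_addRight]
        linear_combination -this
    obtain ⟨g, hg, h0, h1⟩ := key (t 0) (t 1)
    exact ⟨g, hg, fun i => by fin_cases i <;> assumption⟩
  · have hσ1 : σ 1 - σ 0 ≠ 0 := sub_ne_zero.mpr (σ.injective.ne one_ne_zero)
    refine ⟨Units.mk0 _ hσ1, σ 0, fun x => ?_⟩
    obtain ⟨g, ⟨a, b, hg⟩, hgt⟩ := hσ ![0, 1, x]
    have h0 : σ 0 = g 0 := hgt 0
    have h1 : σ 1 = g 1 := hgt 1
    have h2 : σ x = g x := hgt 2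
    have e : σ x = (σ 1 - σ 0) * x + σ 0 := by
      rw [h2, h0, h1, hg, hg, hg]; ring
    exact e

end Cfsg.Agent.S3518
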