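import Cfsg.Agent.Lib.PrimitiveClasses
import Cfsg.Agent.Lib.DerangementCount
import Cfsg.Statements.S3520

set_option autoImplicit false
open Cfsg

namespace Cfsg.Agent.S3520



/-- Let a finite group G act faithfully and primitively on a finite set Ω with at least two points, suppose G is not almost simple (no non-abelian simple normal subgroup with trivial centralizer), and suppose the derangements of G form exactly two conjugacy classes. Then either Ω has 3 points and G has order 3; or G has a non-trivial abelian normal subgroup N acting regularly, every non-identity element of G fixes at most one point (so, when n > 3, G is a Frobenius group with kernel N), the number n of points is odd and a point stabilizer has order (n − 1)/2; or G is 2-transitive with a non-trivial abelian regular normal subgroup and some non-identity element fixes at least two points (a non-Frobenius 2-transitive affine group). -/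
theorem result {G : Type*} [Group G] [Finite G] {Ω : Type*} [Fintype Ω] [MulAction G Ω] [FaithfulSMul G Ω] (hΩ : 2 ≤ Fintype.card Ω) (hprim : MulAction.IsPreprimitive G Ω) (hnas : ¬ ∃ T : Subgroup G, T.Normal ∧ IsSimpleGroup T ∧ ¬ IsMulCommutative T ∧ Subgroup.centralizer (T : Set G) = ⊥)
    (hκ : Nat.card {c : ConjClasses G // ∃ g : G, ConjClasses.mk g = c ∧ ∀ ω : Ω, g • ω ≠ ω} = 2) (α : Ω) :
    (Fintype.card Ω = 3 ∧ Nat.card G = 3) ∨
    ((∃ N : Subgroup G, N.Normal ∧ N ≠ ⊥ ∧ IsMulCommutative N ∧ ∀ ω : Ω, MulAction.stabilizer N ω = ⊥) ∧ (∀ g : G, g ≠ 1 → Nat.card (MulAction.fixedBy Ω g) ≤ 1) ∧ ¬ 2 ∣ Fintype.card Ω ∧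
        2 * Nat.card (MulAction.stabilizer G α) = Fintype.card Ω - 1) ∨
    ((∃ N : Subgroup G, N.Normal ∧ N ≠ ⊥ ∧ IsMulCommutative N ∧ ∀ ω : Ω, MulAction.stabilizer N ω = ⊥) ∧ MulAction.IsMultiplyPretransitive G Ω 2 ∧ ∃ g : G, g ≠ 1 ∧ 2 ≤ Nat.card (MulAction.fixedBy Ω g)) := by
  classical
  haveI := hprim
  haveI : Nonempty Ω := ⟨α⟩
  have hΩ' : 2 ≤ Nat.card Ω := by rw [Nat.card_eq_fintype_card]; exact hΩ
  rcases PrimitiveClasses.affine_or_three (G := G) (Ω := Ω) hΩ' hprim with ⟨N, r, hr, hN, hN1, hab, hrp, htr, hreg⟩ | h | h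
  rotate_left
  · exact absurd h hnas
  · omega
  haveI := htr
  have hsemi : ∀ m ∈ N, m ≠ 1 → ∀ ω : Ω, m • ω ≠ ω := fun m hm h1 ω hω =>
    h1 ((PermBasic.stabilizer_subgroup_eq_bot_iff' N ω).mp (hreg ω) m hm hω)
  have haff : ∃ N : Subgroup G, N.Normal ∧ N ≠ ⊥ ∧ IsMulCommutative N ∧ ∀ ω : Ω, MulAction.stabilizer N ω = ⊥ :=
    ⟨N, hN, hN1, hab, hreg⟩
  have hNcard : Nat.card N = Fintype.card Ω := by
    rw [PermBasic.card_eq_of_regular (hreg α), Nat.card_eq_fintype_card]
  have hNm1 : Nat.card {m : N // m ≠ 1} = Fintype.card Ω - 1 := by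
    haveI := Fintype.ofFinite N
    rw [← hNcard, Nat.card_eq_fintype_card, Nat.card_eq_fintype_card, Fintype.card_subtype_compl,
      Fintype.card_subtype_eq]
  by_cases hsub : ∀ g : G, (∀ ω : Ω, g • ω ≠ ω) → g ∈ N
  · -- Frobenius case
    refine Or.inr (Or.inl ⟨haff, ?_⟩)
    have hnum : DerangementCount.numDer G Ω = Fintype.card Ω - 1 := by
      rw [← hNm1, DerangementCount.numDer]
      exact Nat.card_congr
        { toFun := fun g => ⟨⟨g, hsub g g.2⟩, fun e => g.2 α
            (by rw [show (g : G) = 1 from congrArg Subtype.val e, one_smul])⟩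
          invFun := fun m => ⟨m, hsemi m m.1.2 fun e => m.2 (Subtype.ext e)⟩
          left_inv := fun g => rfl
          right_inv := fun m => rfl }
    have hle := (DerangementCount.numDer_iff (G := G) hΩ').mp (by rw [hnum, Nat.card_eq_fintype_card]; omega)
    set H := MulAction.stabilizer G α with hH
    -- each class of derangements has as many elements as a point stabilizer
    let π : {g : G // ∀ ω : Ω, g • ω ≠ ω} →
        {c : ConjClasses G // ∃ g : G, ConjClasses.mk g = c ∧ ∀ ω : Ω, g • ω ≠ ω} :=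
      fun g => ⟨ConjClasses.mk g.1, g.1, rfl, g.2⟩
    have hfib : ∀ c, Nat.card {g // π g = c} = Nat.card H := by
      rintro ⟨c, g₀, rfl, hg₀⟩
      have hg₀N := hsub g₀ hg₀
      let φ : H → {g // π g = ⟨ConjClasses.mk g₀, g₀, rfl, hg₀⟩} := fun h =>
        ⟨⟨(h : G) * g₀ * (h : G)⁻¹, fun ω hω => hg₀ ((h : G)⁻¹ • ω) (by
            rw [mul_smul, mul_smul] at hω
            exact eq_inv_smul_iff.mpr hω)⟩,
          Subtype.ext (ConjClasses.mk_eq_mk_iff_isConj.mpr (isConj_iff.mpr ⟨(h : G), rfl⟩).symm)⟩
      refine (Nat.card_congr (Equiv.ofBijective φ ⟨?_, ?_⟩)).symm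
      · intro a b hab'
        have he : (a : G) * g₀ * (a : G)⁻¹ = (b : G) * g₀ * (b : G)⁻¹ :=
          congrArg (fun x => x.1.1) hab'
        set y : G := (b : G)⁻¹ * a with hy
        have hc : y * g₀ = g₀ * y := by
          calc y * g₀ = (b : G)⁻¹ * ((a : G) * g₀ * (a : G)⁻¹) * a := by rw [hy]; group
            _ = (b : G)⁻¹ * ((b : G) * g₀ * (b : G)⁻¹) * a := by rw [he]
            _ = g₀ * y := by rw [hy]; group
        have hyα : y • α = α := H.mul_mem (H.inv_mem b.2) a.2
        have hy1 : y = 1 := by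
          by_contra hne
          refine (DerangementCount.fix_le_one_iff.mp (hle y hne)) α (g₀ • α) (hg₀ α).symm hyα ?_
          rw [← mul_smul, hc, mul_smul, hyα]
        exact Subtype.ext (inv_mul_eq_one.mp hy1).symm
      · rintro ⟨⟨g, hg⟩, hgc⟩
        have hconj : IsConj g₀ g := (ConjClasses.mk_eq_mk_iff_isConj.mp (congrArg Subtype.val hgc)).symm
        obtain ⟨x, hx⟩ := isConj_iff.mp hconj
        obtain ⟨n, hn, s, hs, hxn⟩ := PermBasic.mul_stabilizer_eq_univ N α x
        refine ⟨⟨s, hs⟩, Subtype.ext (Subtype.ext ?_)⟩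
        show s * g₀ * s⁻¹ = g
        have hm : s * g₀ * s⁻¹ ∈ N := hN.conj_mem _ hg₀N s
        have hcm : n * (s * g₀ * s⁻¹) = (s * g₀ * s⁻¹) * n :=
          congrArg Subtype.val (hab.is_comm.comm (⟨n, hn⟩ : N) ⟨_, hm⟩)
        rw [← hx, hxn, show n * s * g₀ * (n * s)⁻¹ = (n * (s * g₀ * s⁻¹)) * n⁻¹ by group, hcm,
          mul_inv_cancel_right]
    have hcount : DerangementCount.numDer G Ω = 2 * Nat.card H := by
      haveI := Fintype.ofFinite {c : ConjClasses G // ∃ g : G, ConjClasses.mk g = c ∧ ∀ ω : Ω, g • ω ≠ ω}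
      rw [DerangementCount.numDer, ← Nat.card_congr (Equiv.sigmaFiberEquiv π), Nat.card_sigma,
        Finset.sum_congr rfl (fun c _ => hfib c), Finset.sum_const, smul_eq_mul, Finset.card_univ,
        ← Nat.card_eq_fintype_card, hκ]
    exact ⟨hle, by omega, by omega⟩
  · -- the derangements in `N` form one class
    refine Or.inr (Or.inr ⟨haff, ?_, ?_⟩)
    · push Not at hsub
      obtain ⟨d, hd, hdN⟩ := hsub
      refine DerangementCount.two_transitive_of_conj N hN hab (fun m hm m' hm' h1 h1' => ?_) α
      by_contra hnc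
      have : 3 ≤ 2 := hκ ▸ PrimitiveClasses.three_le_card ![m, m', d] (fun i ω => by
          fin_cases i
          · exact hsemi m hm h1 ω
          · exact hsemi m' hm' h1' ω
          · exact hd ω) (fun i j hij => by
          have hout : ∀ x ∈ N, ¬ IsConj x d := by
            intro x hx hc
            obtain ⟨c, rfl⟩ := isConj_iff.mp hc
            exact hdN (hN.conj_mem x hx c)
          fin_cases i <;> fin_cases j
          · rfl
          · exact absurd hij hnc
          · exact absurd hij (hout m hm)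
          · exact absurd hij.symm hnc
          · rfl
          · exact absurd hij (hout m' hm')
          · exact absurd hij.symm (hout m hm)
          · exact absurd hij.symm (hout m' hm')
          · rfl)
      omega
    · by_contra hcon
      push Not at hcon
      have hnum := (DerangementCount.numDer_iff (G := G) hΩ').mpr (fun g hg => Nat.le_of_lt_succ (hcon g hg))
      rw [Nat.card_eq_fintype_card] at hnum
      refine hsub fun g hg => ?_
      let ψ : {m : N // m ≠ 1} → {g : G // ∀ ω : Ω, g • ω ≠ ω} := fun m =>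
        ⟨m, hsemi m m.1.2 fun e => m.2 (Subtype.ext e)⟩
      have hbij : Function.Bijective ψ :=
        (Nat.bijective_iff_injective_and_card ψ).mpr ⟨fun a b h => Subtype.ext (Subtype.ext (congrArg Subtype.val h :)),
          by rw [hNm1]; change _ = DerangementCount.numDer G Ω; omega⟩
      obtain ⟨m, hm⟩ := hbij.surjective ⟨g, hg⟩
      have : ((m : N) : G) = g := congrArg Subtype.val hm
      exact this ▸ (m : N).2

end Cfsg.Agent.S3520
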