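import Cfsg.Agent.Lib.DerangementSubgroup
import Cfsg.Statements.S3547

set_option autoImplicit false
open Cfsg

namespace Cfsg.Agent.S3547



/-- Let G act faithfully and transitively on a finite set Ω, let D be the subgroup generated by the derangements, and let r_G and r_D be the numbers of orbits of G and of D on ordered pairs of points (the permutation ranks). Then r_D − 1 = (r_G − 1)·[G : D]. -/
theorem result {G Ω : Type*} [Group G] [Finite G] [MulAction G Ω] [FaithfulSMul G Ω] [Finite Ω]
    (htrans : MulAction.IsPretransitive G Ω) :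
    Nat.card (MulAction.orbitRel.Quotient ↥(Subgroup.closure {g : G | ∀ ω : Ω, g • ω ≠ ω}) (Ω × Ω)) - 1 =
      (Nat.card (MulAction.orbitRel.Quotient G (Ω × Ω)) - 1) * (Subgroup.closure {g : G | ∀ ω : Ω, g • ω ≠ ω}).index := by
  haveI := htrans
  rcases isEmpty_or_nonempty Ω with h | h
  · simp [Nat.card_of_isEmpty]
  have h1 := Cfsg.Agent.DerangementSubgroup.rank_formula (G := G) (Ω := Ω)
  haveI : Nonempty (MulAction.orbitRel.Quotient G (Ω × Ω)) := ⟨Quotient.mk'' (Classical.arbitrary _)⟩
  have h2 : 1 ≤ Nat.card (MulAction.orbitRel.Quotient G (Ω × Ω)) := Nat.card_pos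
  obtain ⟨k, hk⟩ := Nat.exists_eq_add_of_le h2
  rw [hk, add_mul, one_mul] at h1
  rw [hk, Nat.add_sub_cancel_left]
  unfold Cfsg.Agent.DerangementSubgroup.derSub at h1
  omega

end Cfsg.Agent.S3547
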