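import Cfsg.Agent.Lib.DerangementSubgroup
import Cfsg.Statements.S3548

set_option autoImplicit false
open Cfsg

namespace Cfsg.Agent.S3548



/-- Let G act faithfully and transitively on a finite set with n ≥ 2 points and let D be the subgroup generated by the derangements. Then the index of D in G divides n − 1, and if it equals n − 1 then n is a prime power. -/
theorem result {G Ω : Type*} [Group G] [Finite G] [MulAction G Ω] [FaithfulSMul G Ω] [Finite Ω]
    (htrans : MulAction.IsPretransitive G Ω) (hΩ : 2 ≤ Nat.card Ω) :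
    (Subgroup.closure {g : G | ∀ ω : Ω, g • ω ≠ ω}).index ∣ Nat.card Ω - 1 ∧
    ((Subgroup.closure {g : G | ∀ ω : Ω, g • ω ≠ ω}).index = Nat.card Ω - 1 → IsPrimePow (Nat.card Ω)) := by
  classical
  haveI := htrans
  have hne : Nonempty Ω := (Nat.card_pos_iff.mp (by omega)).1
  obtain ⟨α⟩ := hne
  set D := Subgroup.closure {g : G | ∀ ω : Ω, g • ω ≠ ω} with hD
  set H := MulAction.stabilizer G α
  have hncard : (({α}ᶜ : Set Ω)).ncard = Nat.card Ω - 1 := by
    rw [Set.ncard_compl, Set.ncard_singleton]
  have hdvd : D.index ∣ Nat.card Ω - 1 := by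
    rw [← hncard]
    refine Cfsg.Agent.DerangementSubgroup.index_dvd_invariant α _ (by simp) ?_
    intro g hg x hx h
    exact hx (MulAction.injective g (h.trans (MulAction.mem_stabilizer_iff.mp hg).symm))
  refine ⟨hdvd, fun hi => ?_⟩
  -- every suborbit is then everything
  have hfull : ∀ β, β ≠ α → MulAction.orbit H β = {α}ᶜ := by
    intro β hβ
    refine Set.eq_of_subset_of_ncard_le ?_ ?_ (Set.toFinite _)
    · rintro _ ⟨h, rfl⟩ (hh : (h : G) • β = α)
      exact hβ (MulAction.injective (h : G) (hh.trans (MulAction.mem_stabilizer_iff.mp h.2).symm))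
    · rw [hncard, ← hi, ← Nat.card_coe_set_eq]
      haveI : Nonempty (MulAction.orbit H β) := (MulAction.nonempty_orbit β).to_subtype
      exact Nat.le_of_dvd Nat.card_pos (Cfsg.Agent.DerangementSubgroup.index_dvd_orbit hβ)
  -- so the stabilizer in `D` fixes everything
  have hDα : ∀ d ∈ D, d • α = α → d = 1 := by
    intro d hd hdα
    refine FaithfulSMul.eq_of_smul_eq_smul (α := Ω) fun β => ?_
    rw [one_smul]
    by_cases hβ : β = α
    · rw [hβ, hdα]
    have hsub : MulAction.stabilizer H β ≤ D.subgroupOf H := fun h hh =>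
      Cfsg.Agent.DerangementSubgroup.mem_of_fixes_two (Ne.symm hβ) h.2 hh
    have hidx : (MulAction.stabilizer H β).index = (D.subgroupOf H).index := by
      rw [MulAction.index_stabilizer, hfull β hβ, hncard, ← hi]
      exact (Cfsg.Agent.DerangementSubgroup.relIndex_stabilizer α).symm
    have hrel : (MulAction.stabilizer H β).relIndex (D.subgroupOf H) = 1 := by
      have := Subgroup.relIndex_mul_index hsub
      rw [hidx] at this
      exact Nat.eq_of_mul_eq_mul_right (Nat.pos_of_ne_zero Subgroup.FiniteIndex.index_ne_zero) (this.trans (one_mul _).symm)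
    exact (Subgroup.relIndex_eq_one.mp hrel (show (⟨d, hdα⟩ : H) ∈ D.subgroupOf H from hd) :)
  haveI := Cfsg.Agent.DerangementSubgroup.derSub_normal (G := G) (Ω := Ω)
  haveI := Cfsg.Agent.DerangementSubgroup.pretransitive (G := G) (Ω := Ω)
  have hinj : ∀ d e : D, (d : G) • α = (e : G) • α → d = e := by
    intro d e h
    have : (e : G)⁻¹ * d = 1 := hDα _ (D.mul_mem (D.inv_mem e.2) d.2) (by rw [mul_smul, h, inv_smul_smul])
    exact Subtype.ext (inv_mul_eq_one.mp this).symm
  have hcard : Nat.card D = Nat.card Ω :=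
    Nat.card_congr (Equiv.ofBijective (fun d : D => (d : G) • α)
      ⟨fun d e h => hinj d e h, fun ω => MulAction.exists_smul_eq D α ω⟩)
  -- all non-identity elements of `D` have the same order
  have hord : ∀ d e : D, d ≠ 1 → e ≠ 1 → orderOf d = orderOf e := by
    intro d e hd he
    have hd' : (d : G) • α ≠ α := fun h => hd (Subtype.ext (hDα _ d.2 h))
    have he' : (e : G) • α ≠ α := fun h => he (Subtype.ext (hDα _ e.2 h))
    have : (e : G) • α ∈ MulAction.orbit H ((d : G) • α) := by rw [hfull _ hd']; exact he'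
    obtain ⟨⟨h, hh⟩, hh'⟩ := this
    have hconj : h * d * h⁻¹ = (e : G) := by
      refine congrArg Subtype.val (hinj ⟨h * d * h⁻¹, Subgroup.Normal.conj_mem ‹D.Normal› d d.2 h⟩ e ?_)
      show (h * d * h⁻¹) • α = _
      rw [mul_smul, mul_smul, inv_smul_eq_iff.mpr (MulAction.mem_stabilizer_iff.mp hh).symm]
      exact hh'
    rw [← Subgroup.orderOf_coe, ← Subgroup.orderOf_coe, ← hconj, ← MulAut.conj_apply]
    exact (orderOf_injective (MulAut.conj h).toMonoidHom (MulAut.conj h).injective (d : G)).symm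
  obtain ⟨q, hq, hqd⟩ := Nat.exists_prime_and_dvd (show Nat.card D ≠ 1 by omega)
  haveI := Fact.mk hq
  obtain ⟨x, hx⟩ := exists_prime_orderOf_dvd_card' q hqd
  have hx1 : x ≠ 1 := fun h => hq.ne_one (by rw [← hx, h, orderOf_one])
  have hp : IsPGroup q D := by
    intro d
    refine ⟨1, ?_⟩
    by_cases hd : d = 1
    · simp [hd]
    · rw [pow_one, ← hx, ← hord d x hd hx1]; exact pow_orderOf_eq_one d
  obtain ⟨k, hk⟩ := IsPGroup.iff_card.mp hp
  rw [hcard] at hk
  exact ⟨q, k, hq.prime, Nat.pos_of_ne_zero (fun h => by rw [h, pow_zero] at hk; omega), hk.symm⟩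

end Cfsg.Agent.S3548
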