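import Cfsg.Agent.Lib.DerangementSubgroup
import Cfsg.Statements.S3549

set_option autoImplicit false
open Cfsg

namespace Cfsg.Agent.S3549

open scoped Pointwise

open MulAction in
/-- a nontrivial block exists -/
lemma exists_block {G Ω : Type*} [Group G] [MulAction G Ω] [IsPretransitive G Ω] (himp : ¬ IsPreprimitive G Ω) :
    ∃ B : Set Ω, IsBlock G B ∧ ¬ B.Subsingleton ∧ B ≠ Set.univ := by
  by_contra h
  refine himp ⟨fun {B} hB => ?_⟩
  by_cases hs : B.Subsingleton
  · exact Or.inl hs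
  · exact Or.inr (by_contra fun hu => h ⟨B, hB, hs, hu⟩)

/-- Let G act faithfully, transitively but imprimitively on a finite set with n points, and let D be the subgroup generated by the derangements. Then the index of D in G is at most √n − 1. -/
theorem result {G Ω : Type*} [Group G] [Finite G] [MulAction G Ω] [FaithfulSMul G Ω] [Finite Ω]
    (htrans : MulAction.IsPretransitive G Ω) (himp : ¬ MulAction.IsPreprimitive G Ω) :
    ((Subgroup.closure {g : G | ∀ ω : Ω, g • ω ≠ ω}).index : ℝ) ≤ Real.sqrt (Nat.card Ω) - 1 := by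
  classical
  haveI := htrans
  obtain ⟨B, hB, hBs, hBu⟩ := exists_block himp
  set D := Subgroup.closure {g : G | ∀ ω : Ω, g • ω ≠ ω} with hD
  obtain ⟨α, hα, β, hβ, hαβ⟩ := Set.not_subsingleton_iff.mp hBs
  have hinv : ∀ g ∈ MulAction.stabilizer G α, g • B = B := fun g hg =>
    hB.smul_eq_of_mem hα (by rw [MulAction.mem_stabilizer_iff.mp hg]; exact hα)
  have hmem : ∀ g ∈ MulAction.stabilizer G α, ∀ x, g • x ∈ B ↔ x ∈ B := fun g hg x => by
    conv_lhs => rw [← hinv g hg]
    exact Set.smul_mem_smul_set_iff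
  have h1 : D.index ∣ (B \ {α}).ncard := by
    refine Cfsg.Agent.DerangementSubgroup.index_dvd_invariant α _ (by simp) ?_
    rintro g hg x ⟨hx, hxα⟩
    refine ⟨(hmem g hg x).mpr hx, fun h => hxα ?_⟩
    exact MulAction.injective g (h.trans (MulAction.mem_stabilizer_iff.mp hg).symm)
  have h2 : D.index ∣ (Bᶜ : Set Ω).ncard := by
    refine Cfsg.Agent.DerangementSubgroup.index_dvd_invariant α _ (by simp [hα]) ?_
    intro g hg x hx h
    exact hx ((hmem g hg x).mp h)
  set a := B.ncard with ha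
  have ha2 : 2 ≤ a := (Set.one_lt_ncard (Set.toFinite _)).mpr ⟨α, hα, β, hβ, hαβ⟩
  rw [Set.ncard_sdiff_singleton_of_mem hα] at h1
  have hn : a * (MulAction.orbit G B).ncard = Nat.card Ω := hB.ncard_block_mul_ncard_orbit_eq ⟨α, hα⟩
  set b := (MulAction.orbit G B).ncard
  have hc : a + (Bᶜ : Set Ω).ncard = Nat.card Ω := Set.ncard_add_ncard_compl B
  have hb2 : 2 ≤ b := by
    by_contra hlt
    have : Bᶜ.ncard ≤ 0 := by
      have : a * b ≤ a * 1 := Nat.mul_le_mul_left a (by omega)
      omega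
    exact hBu (by simpa using (Set.ncard_eq_zero (Set.toFinite _)).mp (Nat.le_zero.mp this))
  obtain ⟨b', hb'⟩ := Nat.exists_eq_add_of_le (show 1 ≤ b by omega)
  rw [show (Bᶜ : Set Ω).ncard = a * b' by rw [hb'] at hn; rw [mul_add, mul_one] at hn; omega] at h2
  obtain ⟨a', ha'⟩ := Nat.exists_eq_add_of_le (show 1 ≤ a by omega)
  have h1a : D.index ∣ a' := by
    rw [show B.ncard = 1 + a' from ha', Nat.add_sub_cancel_left] at h1; exact h1
  have hco : Nat.Coprime D.index a := by
    obtain ⟨k, hk⟩ := h1a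
    rw [Nat.Coprime, ha', hk]
    simp
  have h3 : D.index ≤ b' := Nat.le_of_dvd (by omega) (hco.dvd_of_dvd_mul_left h2)
  have h4 : D.index ≤ a' := Nat.le_of_dvd (by omega) h1a
  have h5 : ((D.index : ℝ) + 1) ^ 2 ≤ (Nat.card Ω : ℝ) := by
    have : (D.index + 1) ^ 2 ≤ Nat.card Ω := by
      rw [← hn, sq]
      exact Nat.mul_le_mul (by omega) (by omega)
    exact_mod_cast this
  have := Real.le_sqrt_of_sq_le h5
  linarith

end Cfsg.Agent.S3549
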