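
import Cfsg.Statements.S3554

set_option autoImplicit false
open Cfsg

namespace Cfsg.Agent.S3554



/-- Let G act faithfully and transitively on a finite set and suppose G has a non-trivial cyclic normal subgroup. Then some element of G of prime order fixes no point. -/
theorem result {G Ω : Type*} [Group G] [Finite G] [MulAction G Ω] [FaithfulSMul G Ω] [Finite Ω]
    (htrans : MulAction.IsPretransitive G Ω) (C : Subgroup G) (hC : C.Normal) (hC1 : C ≠ ⊥) (hcyc : IsCyclic ↥C) :
    ∃ g : G, (orderOf g).Prime ∧ ∀ ω : Ω, g • ω ≠ ω := by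
  haveI : Nontrivial C := (Subgroup.nontrivial_iff_ne_bot C).mpr hC1
  haveI := hC
  obtain ⟨q, hq, hqd⟩ := Nat.exists_prime_and_dvd (Finite.one_lt_card (α := C)).ne'
  haveI := Fact.mk hq
  obtain ⟨x, hx⟩ := exists_prime_orderOf_dvd_card' q hqd
  refine ⟨x, by rw [Subgroup.orderOf_coe, hx]; exact hq, fun ω hω => ?_⟩
  have hone : (x : G) = 1 := by
    refine FaithfulSMul.eq_of_smul_eq_smul (α := Ω) fun η => ?_
    rw [one_smul]
    obtain ⟨g, rfl⟩ := MulAction.exists_smul_eq G ω η
    -- g⁻¹ x g is a power of x, as subgroups of a cyclic group are determined by their orders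
    have hc : g⁻¹ * (x : G) * g ∈ C := by simpa using hC.conj_mem x x.2 g⁻¹
    set y : C := ⟨g⁻¹ * (x : G) * g, hc⟩ with hy
    have hy1 : y ^ q = 1 := by
      apply Subtype.ext
      have hxq : (x : G) ^ q = 1 := by
        rw [← hx, ← SubgroupClass.coe_pow, pow_orderOf_eq_one]; rfl
      rw [SubgroupClass.coe_pow, hy, Subgroup.coe_one]
      have h3 := map_pow (MulAut.conj g⁻¹) (x : G) q
      simp only [MulAut.conj_apply, inv_inv, hxq] at h3
      rw [← h3]; simp
    have hmem : y ∈ Subgroup.zpowers x := by
      classical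
      letI := Fintype.ofFinite C
      have hsub : (Finset.univ.filter fun a : C => a ∈ Subgroup.zpowers x) ⊆
          (Finset.univ.filter fun a : C => a ^ q = 1) := by
        intro a ha
        simp only [Finset.mem_filter, Finset.mem_univ, true_and] at ha ⊢
        rw [← orderOf_dvd_iff_pow_eq_one, ← hx]
        exact orderOf_dvd_of_mem_zpowers ha
      have hle := IsCyclic.card_pow_eq_one_le (α := C) hq.pos
      have hcard : (Finset.univ.filter fun a : C => a ∈ Subgroup.zpowers x).card = q := by
        rw [← Fintype.card_subtype, ← Nat.card_eq_fintype_card]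
        exact (Nat.card_zpowers x).trans hx
      have heq := Finset.eq_of_subset_of_card_le hsub (by omega)
      have : y ∈ Finset.univ.filter fun a : C => a ^ q = 1 := by simp [hy1]
      rw [← heq] at this
      simpa using this
    obtain ⟨k, hk⟩ := Subgroup.mem_zpowers_iff.mp hmem
    have hx' : (x : G) ∈ MulAction.stabilizer G ω := hω
    have : (y : G) ∈ MulAction.stabilizer G ω := by
      rw [← hk, SubgroupClass.coe_zpow]; exact zpow_mem hx' k
    have h2 : (g⁻¹ * (x : G) * g) • ω = ω := this
    rw [mul_smul, mul_smul, inv_smul_eq_iff] at h2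
    exact h2
  have : x = 1 := Subtype.ext hone
  rw [this, orderOf_one] at hx
  exact hq.ne_one hx.symm

end Cfsg.Agent.S3554
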