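import Cfsg.Statements.S3555

set_option autoImplicit false
open Cfsg
open scoped Pointwise

namespace Cfsg.Agent.S3555

section Core

variable {G Ω : Type*} [Group G] [MulAction G Ω]

/-- Number of pairs `(g, a)` with `g ^ 2` fixing `a` is at most the number of triples `(g, a, b)`
with `g` fixing `a` and `b`. -/
theorem sum_fix_sq_le [Fintype G] [Finite Ω] :
    ∑ g : G, Nat.card (MulAction.fixedBy Ω (g * g)) ≤
      ∑ g : G, Nat.card (MulAction.fixedBy Ω g) * Nat.card (MulAction.fixedBy Ω g) := by
  classical
  let w : Ω × Ω → G := fun q =>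
    if h : ∃ g : G, g • q.1 = q.2 ∧ g • q.2 = q.1 then h.choose else 1
  have hw : ∀ (g : G) (a : Ω), (g * g) • a = a →
      w (a, g • a) • a = g • a ∧ w (a, g • a) • (g • a) = a := by
    intro g a hga
    have h : ∃ x : G, x • a = g • a ∧ x • (g • a) = a := ⟨g, rfl, by rwa [← mul_smul]⟩
    simp only [w, dif_pos h]
    exact h.choose_spec
  let f : (Σ g : G, MulAction.fixedBy Ω (g * g)) →
      (Σ g : G, MulAction.fixedBy Ω g × MulAction.fixedBy Ω g) := fun x =>
    ⟨(w ((x.2 : Ω), x.1 • (x.2 : Ω)))⁻¹ * x.1,
      ⟨(x.2 : Ω), by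
        obtain ⟨h1, _⟩ := hw x.1 x.2 x.2.2
        rw [MulAction.mem_fixedBy, mul_smul, inv_smul_eq_iff]
        exact h1.symm⟩,
      ⟨x.1 • (x.2 : Ω), by
        obtain ⟨_, h2⟩ := hw x.1 x.2 x.2.2
        have hgg : (x.1 * x.1) • (x.2 : Ω) = x.2 := x.2.2
        rw [MulAction.mem_fixedBy, mul_smul, inv_smul_eq_iff, h2, ← mul_smul]
        exact hgg⟩⟩
  have hf : Function.Injective f := by
    intro x y hxy
    have h1 := congrArg (fun z => z.1) hxy
    have ha := congrArg (fun z => ((z.2.1 : Ω))) hxy
    have hb := congrArg (fun z => ((z.2.2 : Ω))) hxy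
    simp only [f] at h1 ha hb
    rw [hb, ha] at h1
    have hg : x.1 = y.1 := mul_left_cancel h1
    obtain ⟨g, a⟩ := x
    obtain ⟨g', a'⟩ := y
    simp only at hg ha
    subst hg
    simp only [Subtype.coe_inj] at ha
    subst ha
    rfl
  have := Nat.card_le_card_of_injective f hf
  simpa only [Nat.card_sigma, Nat.card_prod] using this

/-- A transitive action in which every derangement squares to one: every other nonidentity
element fixes exactly one point. -/
theorem fix_eq_one [Finite G] [Finite Ω] [Nonempty Ω] [FaithfulSMul G Ω]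
    (htrans : MulAction.IsPretransitive G Ω)
    (hinv : ∀ g : G, (∀ ω : Ω, g • ω ≠ ω) → g * g = 1)
    {g : G} (hg : g ≠ 1) {a b : Ω} (ha : g • a = a) (hb : g • b = b) : a = b := by
  classical
  cases nonempty_fintype G
  cases nonempty_fintype Ω
  set n := Nat.card Ω with hn
  set π : G → ℕ := fun g => Nat.card (MulAction.fixedBy Ω g) with hπ
  have hsum : ∑ g : G, π g = Fintype.card G := by
    have hB := MulAction.sum_card_fixedBy_eq_card_orbits_mul_card_group G Ω
    have : Subsingleton (Quotient (MulAction.orbitRel G Ω)) := by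
      refine ⟨fun x y => ?_⟩
      induction x using Quotient.inductionOn with
      | h x => induction y using Quotient.inductionOn with
        | h y => exact Quotient.sound (MulAction.exists_smul_eq G y x)
    have h1 : Fintype.card (Quotient (MulAction.orbitRel G Ω)) = 1 :=
      Fintype.card_eq_one_iff.2
        ⟨Quotient.mk _ (Classical.arbitrary Ω), fun y => Subsingleton.elim _ _⟩
    rw [h1, one_mul] at hB
    rw [← hB]
    exact Finset.sum_congr rfl fun g _ => Nat.card_eq_fintype_card
  have hle_n : ∀ g, π g ≤ n := fun g =>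
    Nat.card_le_card_of_injective _ Subtype.val_injective
  have hsq : ∀ g, π g ≤ π (g * g) := fun g =>
    Nat.card_le_card_of_injective
      (fun x => (⟨x.1, by
        rw [MulAction.mem_fixedBy, mul_smul, MulAction.mem_fixedBy.1 x.2]
        exact MulAction.mem_fixedBy.1 x.2⟩ : MulAction.fixedBy Ω (g * g)))
      (fun x y h => Subtype.ext (congrArg Subtype.val h :))
  have hder : ∀ g, π g = 0 → π (g * g) = n := by
    intro g h0
    have hd : ∀ ω : Ω, g • ω ≠ ω := by
      intro ω hω
      have : Nonempty (MulAction.fixedBy Ω g) := ⟨⟨ω, hω⟩⟩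
      exact absurd h0 (Nat.pos_iff_ne_zero.1 Nat.card_pos)
    rw [hπ]
    simp only [hinv g hd]
    refine Nat.card_congr (Equiv.subtypeUnivEquiv fun ω => ?_)
    simp
  have key : ∀ g, π g * π g + n ≤ n * π g + π (g * g) := by
    intro g
    rcases Nat.eq_zero_or_pos (π g) with h0 | h0
    · rw [h0, hder g h0]; simp
    · have := hle_n g
      have := hsq g
      nlinarith
  have htot : ∑ g : G, (π g * π g + n) = ∑ g : G, (n * π g + π (g * g)) := by
    refine le_antisymm (Finset.sum_le_sum fun g _ => key g) ?_
    rw [Finset.sum_add_distrib, Finset.sum_add_distrib, ← Finset.mul_sum, hsum, Finset.sum_const,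
      smul_eq_mul, Finset.card_univ, Nat.mul_comm n, Nat.add_comm _ (Fintype.card G * n)]
    exact Nat.add_le_add_left sum_fix_sq_le _
  have heq := (Finset.sum_eq_sum_iff_of_le fun g _ => key g).1 htot g (Finset.mem_univ g)
  by_contra hab
  have hpos : 2 ≤ π g := by
    have : Fintype.card (Fin 2) ≤ π g := by
      rw [← Nat.card_eq_fintype_card]
      refine Nat.card_le_card_of_injective
        (![(⟨a, ha⟩ : MulAction.fixedBy Ω g), ⟨b, hb⟩]) ?_
      intro i j hij
      have hij' := congrArg Subtype.val hij
      fin_cases i <;> fin_cases j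
      · rfl
      · exact absurd hij' hab
      · exact absurd hij'.symm hab
      · rfl
    simpa using this
  have hlt : π g < n := by
    refine lt_of_le_of_ne (hle_n g) fun h => hg ?_
    apply eq_of_smul_eq_smul (α := Ω)
    intro ω
    have hbij : Function.Bijective (Subtype.val : MulAction.fixedBy Ω g → Ω) :=
      (Nat.bijective_iff_injective_and_card _).2 ⟨Subtype.val_injective, h⟩
    obtain ⟨x, hx⟩ := hbij.2 ω
    rw [one_smul, ← hx]
    exact x.2
  have := hsq g
  nlinarith

end Core

/-- Let G act faithfully and transitively on a finite set and suppose every element of G fixing no point is an involution. Then either G is an elementary abelian 2-group, or G is a Frobenius group whose Frobenius kernel is an elementary abelian 2-group: G has a Frobenius complement H, and the elements lying in no conjugate of H, together with the identity, pairwise commute and square to the identity. -/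
theorem result {G Ω : Type*} [Group G] [Finite G] [MulAction G Ω] [FaithfulSMul G Ω] [Finite Ω]
    (htrans : MulAction.IsPretransitive G Ω) (hinv : ∀ g : G, (∀ ω : Ω, g • ω ≠ ω) → orderOf g = 2) :
    (IsMulCommutative G ∧ ∀ g : G, g ^ 2 = 1) ∨
    (∃ H : Subgroup G, Cfsg.IsFrobeniusComplement H ∧
      (∀ x ∈ Cfsg.frobeniusKernel H, x ^ 2 = 1) ∧
      ∀ x ∈ Cfsg.frobeniusKernel H, ∀ y ∈ Cfsg.frobeniusKernel H, x * y = y * x) := by
  have hsq : ∀ g : G, (∀ ω : Ω, g • ω ≠ ω) → g * g = 1 := by
    intro g hg
    rw [← pow_two, ← hinv g hg]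
    exact pow_orderOf_eq_one g
  have hexp : (∀ g : G, g * g = 1) → IsMulCommutative G ∧ ∀ g : G, g ^ 2 = 1 := by
    intro h
    refine     ⟨⟨⟨fun x y => ?_⟩⟩, fun g => by rw [pow_two]; exact h g⟩
    calc x * y = x * (x * y * (x * y)) * y := by rw [h (x * y), mul_one]
      _ = (x * x) * (y * x) * (y * y) := by simp only [mul_assoc]
      _ = y * x := by rw [h x, h y, one_mul, mul_one]
  rcases isEmpty_or_nonempty Ω with hΩ | ⟨⟨a⟩⟩
  · exact Or.inl (hexp fun g => hsq g fun ω => isEmptyElim ω)
  have : Nonempty Ω := ⟨a⟩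
  have uniq : ∀ {g : G}, g ≠ 1 → ∀ {x y : Ω}, g • x = x → g • y = y → x = y :=
    fun hg _ _ hx hy => fix_eq_one htrans hsq hg hx hy
  set H := MulAction.stabilizer G a with hH
  have hconj : ∀ (g x : G), x ∈ MulAut.conj g • H ↔ x • (g • a) = g • a := by
    intro g x
    rw [hH, Subgroup.mem_pointwise_smul_iff_inv_smul_mem, MulAction.mem_stabilizer_iff,
      ← map_inv, MulAut.smul_def, MulAut.conj_apply, inv_inv, mul_smul, mul_smul, inv_smul_eq_iff]
  by_cases hbot : H = ⊥
  · refine Or.inl (hexp fun g => ?_)
    rcases eq_or_ne g 1 with rfl | hg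
    · exact mul_one 1
    refine hsq g fun ω hω => hg ?_
    obtain ⟨k, rfl⟩ := MulAction.exists_smul_eq G a ω
    have h1 : g ∈ MulAut.conj k • H := (hconj k g).2 hω
    rw [hbot] at h1
    simpa using h1
  · refine Or.inr ⟨H, ⟨hbot, ?_, ?_⟩, ?_, ?_⟩
    · intro htop
      apply hbot
      rw [Subgroup.eq_bot_iff_forall]
      intro g hg
      apply eq_of_smul_eq_smul (α := Ω)
      intro ω
      obtain ⟨k, rfl⟩ := MulAction.exists_smul_eq G a ω
      have h1 : ∀ z : G, z • a = a := fun z =>
        MulAction.mem_stabilizer_iff.1 (by rw [← hH, htop]; exact Subgroup.mem_top z)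
      rw [one_smul, h1 k, h1 g]
    · intro g hg
      rw [Subgroup.eq_bot_iff_forall]
      rintro x ⟨hx1, hx2⟩
      by_contra hne
      have := uniq hne (MulAction.mem_stabilizer_iff.1 hx1) ((hconj g x).1 hx2)
      exact hg (MulAction.mem_stabilizer_iff.2 this.symm)
    all_goals
      have hker : ∀ x ∈ Cfsg.frobeniusKernel H, x * x = 1 ∧
          (x = 1 ∨ ∀ ω : Ω, x • ω ≠ ω) := by
        rintro x (rfl | hx)
        · exact ⟨mul_one 1, Or.inl rfl⟩
        · have hd : ∀ ω : Ω, x • ω ≠ ω := by
            intro ω hω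
            obtain ⟨k, rfl⟩ := MulAction.exists_smul_eq G a ω
            exact hx k ((hconj k x).2 hω)
          exact ⟨hsq x hd, Or.inr hd⟩
    · intro x hx
      rw [pow_two]
      exact (hker x hx).1
    · intro s hs t ht
      obtain ⟨hs2, hs'⟩ := hker s hs
      obtain ⟨ht2, ht'⟩ := hker t ht
      rcases hs' with rfl | hsd
      · simp
      rcases ht' with rfl | htd
      · simp
      rcases eq_or_ne (s * t) 1 with hst | hst
      · have : t = s := by
          have := congrArg (fun z => s * z) hst
          simpa [← mul_assoc, hs2] using this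
        rw [this]
      have hst2 : (s * t) * (s * t) = 1 := by
        refine hsq _ fun x hx => ?_
        have h1 : t • x = s • x := by
          have := congrArg (fun z => s • z) hx
          simpa [← mul_smul, ← mul_assoc, hs2] using this
        have h2 : (s * t) • (t • x) = t • x := by
          rw [← mul_smul, mul_assoc, ht2, mul_one, h1]
        exact htd x (uniq hst h2 hx)
      calc s * t = s * (s * t * (s * t)) * t := by rw [hst2, mul_one]
        _ = (s * s) * (t * s) * (t * t) := by simp only [mul_assoc]
        _ = t * s := by rw [hs2, ht2, one_mul, mul_one]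

end Cfsg.Agent.S3555
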