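import Cfsg.Agent.Lib.PrimitiveDichotomy
import Cfsg.Statements.S3556

set_option autoImplicit false
open Cfsg

namespace Cfsg.Agent.S3556

open Cfsg.Agent.PrimitiveDichotomy

/-- Let G act faithfully and primitively on a finite set with at least two points, and suppose that for some fixed prime p every element of G fixing no point has order a power of p. Then G is of affine type (it has a regular normal subgroup that is an elementary abelian r-group for some prime r) or almost simple (it has a non-abelian simple normal subgroup with trivial centralizer). -/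
theorem result {G Ω : Type*} [Group G] [Finite G] [MulAction G Ω] [FaithfulSMul G Ω] [Finite Ω]
    (hprim : MulAction.IsPreprimitive G Ω) (hΩ : 2 ≤ Nat.card Ω) (p : ℕ) (hp : p.Prime)
    (hder : ∀ g : G, (∀ ω : Ω, g • ω ≠ ω) → ∃ k : ℕ, orderOf g = p ^ k) :
    (∃ (N : Subgroup G) (r : ℕ), r.Prime ∧ N.Normal ∧ Cfsg.IsElementaryAbelian r N ∧
      MulAction.IsPretransitive N Ω ∧ ∀ a : Ω, MulAction.stabilizer N a = ⊥) ∨
    (∃ T : Subgroup G, T.Normal ∧ IsSimpleGroup ↥T ∧ ¬ IsMulCommutative ↥T ∧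
      Subgroup.centralizer (T : Set G) = ⊥) := by
  rcases dichotomy (G := G) (Ω := Ω) hΩ hprim with ⟨N, r, hr, hN, -, hab, hrp, htr, hreg⟩ | h | ⟨T, U, h⟩ | ⟨N, T, U, x, h⟩
  · exact Or.inl ⟨N, r, hr, hN, ⟨hab, hrp⟩, htr, hreg⟩
  · exact Or.inr h
  · exfalso
    obtain ⟨q, r, hq, hr, hqr, f, hf, h0, h1, -⟩ := h.derangements
    obtain ⟨k, hk⟩ := hder _ (hf 0)
    obtain ⟨l, hl⟩ := hder _ (hf 1)
    rw [h0] at hk
    rw [h1] at hl
    apply hqr
    have e1 : q ∣ p ^ k := by rw [← hk]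
    have e2 : r ∣ p ^ l := by rw [← hl]
    rw [(Nat.prime_dvd_prime_iff_eq hq hp).mp (hq.dvd_of_dvd_pow e1),
      (Nat.prime_dvd_prime_iff_eq hr hp).mp (hr.dvd_of_dvd_pow e2)]
  · exfalso
    obtain ⟨g, hg, hno⟩ := h.exists_non_p p hp
    obtain ⟨k, hk⟩ := hder g hg
    exact hno k hk

end Cfsg.Agent.S3556
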