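import Cfsg.Statements.S3560
import Mathlib
-- import your own Cfsg.Agent.* helpers here

set_option autoImplicit false
open Cfsg
open scoped Pointwise

namespace Cfsg.Agent.S3560

section
variable {ι : Type*} {m : ℕ}

/-- Two tuples differ in exactly one coordinate. -/
def Adj (x y : ι → Fin m) : Prop := ∃ i, x i ≠ y i ∧ ∀ j, j ≠ i → x j = y j

/-- Automorphisms of the Hamming graph. -/
def hamming (ι : Type*) (m : ℕ) : Subgroup (Equiv.Perm (ι → Fin m)) where
  carrier := {σ | ∀ x y, Adj (σ x) (σ y) ↔ Adj x y}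
  one_mem' := fun _ _ => Iff.rfl
  mul_mem' := fun {a b} ha hb x y => by
    simp only [Equiv.Perm.mul_apply]
    exact (ha _ _).trans (hb _ _)
  inv_mem' := fun {a} ha x y => by
    have h := ha (a⁻¹ x) (a⁻¹ y)
    simpa using h.symm

theorem piCongr_mem (π : ι → Equiv.Perm (Fin m)) : Equiv.piCongrRight π ∈ hamming ι m := by
  intro x y
  simp [Adj]

theorem coordPerm_mem (s : Equiv.Perm ι) :
    (Equiv.arrowCongr s (Equiv.refl (Fin m))) ∈ hamming ι m := by
  intro x y
  simp only [Adj, Equiv.arrowCongr_apply, Equiv.coe_refl, Function.comp, id]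
  constructor
  · rintro ⟨i, hi, hr⟩
    refine ⟨s.symm i, hi, fun j hj => ?_⟩
    have := hr (s j) (fun h => hj (by simp [← h]))
    simpa using this
  · rintro ⟨i, hi, hr⟩
    refine ⟨s i, by simpa using hi, fun j hj => hr _ (fun h => hj (by simp [← h]))⟩

theorem exists_perm_pair {a v a' w : Fin m} (h : a ≠ v) (h' : a' ≠ w) :
    ∃ π : Equiv.Perm (Fin m), π a = a' ∧ π v = w := by
  refine ⟨Equiv.swap (Equiv.swap a a' v) w * Equiv.swap a a', ?_, ?_⟩
  · rw [Equiv.Perm.mul_apply, Equiv.swap_apply_left]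
    apply Equiv.swap_apply_of_ne_of_ne _ h'
    intro hc
    apply h
    have : Equiv.swap a a' a = Equiv.swap a a' v := by rw [Equiv.swap_apply_left]; exact hc
    exact (Equiv.swap a a').injective this
  · rw [Equiv.Perm.mul_apply, Equiv.swap_apply_left]

theorem block_neighbours [DecidableEq ι] (hm : 3 ≤ m) (B : Set (ι → Fin m))
    (hB : ∀ σ ∈ hamming ι m, ∀ p ∈ B, σ p ∈ B → ∀ q ∈ B, σ q ∈ B)
    {x y : ι → Fin m} (hx : x ∈ B) (hy : y ∈ B) (hxy : x ≠ y) (j : ι) (w : Fin m) :
    Function.update y j w ∈ B := by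
  obtain ⟨i, hi⟩ := Function.ne_iff.1 hxy
  obtain ⟨z, hz1, hz2⟩ := Fin.exists_ne_and_ne_of_two_lt (x i) (y i) (by omega)
  have hy' : Function.update y i z ∈ B := by
    have h := hB _ (piCongr_mem (Function.update (1 : ι → Equiv.Perm (Fin m)) i (Equiv.swap (y i) z)))
      x hx ?_ y hy
    · convert h using 1
      funext l
      by_cases hl : l = i
      · subst hl; simp
      · simp [hl]
    · convert hx using 1
      funext l
      by_cases hl : l = i
      · subst hl; simp [Equiv.swap_apply_of_ne_of_ne hi hz1.symm]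
      · simp [hl]
  by_cases hw : w = y j
  · subst hw; simpa using hy
  obtain ⟨π, hπ1, hπ2⟩ := exists_perm_pair (a := y i) (v := z) (a' := y j) (w := w) (Ne.symm hz2) (Ne.symm hw)
  let P : ι → Equiv.Perm (Fin m) :=
    fun l => if l = j then π else Equiv.swap (y (Equiv.swap i j l)) (y l)
  have hfix : (Equiv.piCongrRight P * Equiv.arrowCongr (Equiv.swap i j) (Equiv.refl _) :
      Equiv.Perm (ι → Fin m)) y = y := by
    funext l
    by_cases hl : l = j
    · subst hl; simp [P, hπ1]
    · simp [P, hl]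
  have h := hB _ (mul_mem (piCongr_mem P) (coordPerm_mem (Equiv.swap i j))) y hy
    (by rw [hfix]; exact hy) _ hy'
  convert h using 1
  funext l
  by_cases hl : l = j
  · subst hl; simp [P, hπ2]
  · have h2 : Equiv.swap i j l ≠ i := by
      intro hc
      exact hl (by simpa using congrArg (Equiv.swap i j) hc)
    simp [P, hl, h2]

theorem block_univ [DecidableEq ι] [Fintype ι] (hm : 3 ≤ m) (B : Set (ι → Fin m))
    (hB : ∀ σ ∈ hamming ι m, ∀ p ∈ B, σ p ∈ B → ∀ q ∈ B, σ q ∈ B)
    {x y : ι → Fin m} (hx : x ∈ B) (hy : y ∈ B) (hxy : x ≠ y) (z : ι → Fin m) : z ∈ B := by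
  suffices h : ∀ s : Finset ι, (fun l => if l ∈ s then z l else y l) ∈ B by
    simpa using h Finset.univ
  intro s
  induction s using Finset.induction_on with
  | empty => simpa using hy
  | insert a s ha ih =>
    set p : ι → Fin m := fun l => if l ∈ s then z l else y l with hp
    have key : ∃ q ∈ B, q ≠ p := by
      by_cases h : x = p
      · exact ⟨y, hy, fun hc => hxy (h.trans hc.symm)⟩
      · exact ⟨x, hx, h⟩
    obtain ⟨q, hq, hqp⟩ := key
    have h := block_neighbours hm B hB hq ih hqp a (z a)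
    convert h using 1
    funext l
    by_cases hl : l = a
    · subst hl; simp
    · simp [hl, hp]

end

/-- Let K be a finite group isomorphic to a direct product of r ≥ 2 groups all of the same order m ≥ 3. Then K is not a B-group: there is a primitive but not doubly transitive permutation group (on some finite set) containing a regular subgroup isomorphic to K. -/
theorem result {K : Type*} [Group K] [Finite K] {ι : Type*} [Fintype ι] (F : ι → Type*) [∀ i, Group (F i)]
    (hr : 2 ≤ Fintype.card ι) (m : ℕ) (hm : 3 ≤ m) (hcard : ∀ i, Nat.card (F i) = m) (e : K ≃* (∀ i, F i)) :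
    ∃ (n : ℕ) (G R : Subgroup (Equiv.Perm (Fin n))), R ≤ G ∧ Nonempty (↥R ≃* K) ∧
      MulAction.IsPretransitive ↥R (Fin n) ∧ (∀ a : Fin n, MulAction.stabilizer ↥R a = ⊥) ∧
      MulAction.IsPreprimitive ↥G (Fin n) ∧ ¬ MulAction.IsMultiplyPretransitive ↥G (Fin n) 2 := by
  classical
  have hfin : ∀ i, Finite (F i) := fun i => Nat.finite_of_card_ne_zero (by rw [hcard i]; omega)
  let ε : ∀ i, F i ≃ Fin m := fun i => Finite.equivFinOfCardEq (hcard i)
  let φ : K ≃ (ι → Fin m) := e.toEquiv.trans (Equiv.piCongrRight ε)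
  let n := Fintype.card (ι → Fin m)
  let ν : (ι → Fin m) ≃ Fin n := Fintype.equivFin _
  let ψ : K ≃ Fin n := φ.trans ν
  let toFin : Equiv.Perm (ι → Fin m) →* Equiv.Perm (Fin n) := (Equiv.permCongrHom ν).toMonoidHom
  let lam : K →* Equiv.Perm (Fin n) :=
    { toFun := fun k => ψ.permCongr (Equiv.mulLeft k)
      map_one' := by ext x; simp
      map_mul' := fun a b => by ext x; simp [mul_assoc] }
  have hlam : ∀ k x, lam k (ψ x) = ψ (k * x) := fun k x => by simp [lam]
  have hinj : Function.Injective lam := by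
    intro a b h
    have := congrArg (fun σ : Equiv.Perm (Fin n) => σ (ψ 1)) h
    simpa [hlam] using this
  let G : Subgroup (Equiv.Perm (Fin n)) := (hamming ι m).map toFin
  have hsub : lam.range ≤ G := by
    rintro _ ⟨k, rfl⟩
    refine ⟨Equiv.piCongrRight (fun i => (ε i).permCongr (Equiv.mulLeft (e k i))), piCongr_mem _, ?_⟩
    ext a
    obtain ⟨x, rfl⟩ := ψ.surjective a
    rw [hlam]
    refine congrArg Fin.val ?_
    show ν _ = ν _
    refine congrArg ν ?_
    show (fun i => (ε i).permCongr (Equiv.mulLeft (e k i)) (ν.symm (ψ x) i)) = φ (k * x)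
    funext i
    simp [ψ, φ]
  have hR : MulAction.IsPretransitive ↥lam.range (Fin n) := by
    refine ⟨fun a b => ⟨⟨lam (ψ.symm b * (ψ.symm a)⁻¹), _, rfl⟩, ?_⟩⟩
    obtain ⟨x, rfl⟩ := ψ.surjective a
    show lam (ψ.symm b * (ψ.symm (ψ x))⁻¹) (ψ x) = b
    rw [show lam (ψ.symm b * (ψ.symm (ψ x))⁻¹) (ψ x) = ψ (ψ.symm b * (ψ.symm (ψ x))⁻¹ * x) from hlam _ _]
    simp
  refine ⟨n, G, lam.range, hsub, ⟨(MonoidHom.ofInjective hinj).symm⟩, hR, ?_, ?_, ?_⟩
  · intro a
    rw [Subgroup.eq_bot_iff_forall]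
    rintro ⟨_, k, rfl⟩ hk
    obtain ⟨x, rfl⟩ := ψ.surjective a
    have h1 : lam k (ψ x) = ψ x := hk
    rw [hlam] at h1
    have : k = 1 := by simpa using ψ.injective h1
    exact Subtype.ext (by simp [this])
  · have htr : MulAction.IsPretransitive ↥G (Fin n) :=
      ⟨fun a b => by
        obtain ⟨⟨r, hr⟩, h⟩ := hR.exists_smul_eq a b
        exact ⟨⟨r, hsub hr⟩, h⟩⟩
    refine { htr with isTrivialBlock_of_isBlock := ?_ }
    intro B hB
    by_cases hs : B.Subsingleton
    · exact Or.inl hs
    right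
    obtain ⟨a, ha, b, hb, hab⟩ := Set.not_subsingleton_iff.1 hs
    rw [Set.eq_univ_iff_forall]
    intro c
    have := block_univ hm (ν ⁻¹' B) ?_ (x := ν.symm a) (y := ν.symm b) (by simpa using ha)
      (by simpa using hb) (by simpa using hab) (ν.symm c)
    · simpa using this
    intro σ hσ p hp hσp q hq
    let g : G := ⟨toFin σ, σ, hσ, rfl⟩
    have hgapp : ∀ t, g • ν t = ν (σ t) := fun t => by
      show toFin σ (ν t) = _
      simp [toFin, Equiv.permCongrHom]
    rcases MulAction.isBlock_iff_smul_eq_or_disjoint.1 hB g with h | h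
    · have : g • ν q ∈ g • B := Set.smul_mem_smul_set hq
      rw [h, hgapp] at this
      exact this
    · have h1 : g • ν p ∈ g • B := Set.smul_mem_smul_set hp
      rw [hgapp] at h1
      exact absurd hσp (Set.disjoint_left.1 h h1)
  · intro h2
    rw [MulAction.is_two_pretransitive_iff] at h2
    obtain ⟨i, j, hij⟩ := Fintype.exists_pair_of_one_lt_card (α := ι) (by omega)
    let o : Fin m := ⟨0, by omega⟩
    let u : Fin m := ⟨1, by omega⟩
    have hou : o ≠ u := by simp [o, u, Fin.ext_iff]
    let x : ι → Fin m := fun _ => o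
    let y : ι → Fin m := Function.update x i u
    let z : ι → Fin m := Function.update y j u
    have hy : Adj x y := ⟨i, by simp [y, x, hou], fun l hl => by simp [y, hl]⟩
    have hzi : z i = u := by simp [z, y, hij]
    have hzj : z j = u := by simp [z]
    have hz : ¬ Adj x z := by
      rintro ⟨l, _, hr⟩
      by_cases hl : l = i
      · subst hl
        exact hou ((hr j (Ne.symm hij)).trans hzj)
      · exact hou ((hr i (Ne.symm hl)).trans hzi)
    have hxy : x ≠ y := fun h => hou (by simpa [x, y] using congrFun h i)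
    have hxz : x ≠ z := fun h => hou ((congrFun h i).trans hzi)
    obtain ⟨⟨_, σ, hσ, rfl⟩, h1, h3⟩ := h2 (a := ν x) (b := ν y) (c := ν x) (d := ν z)
      (ν.injective.ne hxy) (ν.injective.ne hxz)
    have h1' : toFin σ (ν x) = ν x := h1
    have h3' : toFin σ (ν y) = ν z := h3
    simp [toFin, Equiv.permCongrHom] at h1' h3'
    exact hz (h3' ▸ h1' ▸ (hσ x y).2 hy)

end Cfsg.Agent.S3560
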