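import Cfsg.Statements.S3571
import Cfsg.Agent.Lib.AltDerangement87
import Cfsg.Agent.S2119

set_option autoImplicit false
open Cfsg

namespace Cfsg.Agent.S3571

open Equiv Equiv.Perm MulAction Cfsg.Agent.AltDerangement87

/-- the case of degree six -/
theorem six_case (M : Subgroup ↥(alternatingGroup (Fin 6))) (hne : M ≠ ⊤) (r : ℕ) (hr : r.Prime)
    (hrd : r ∣ M.index) (hrmax : ∀ q : ℕ, q.Prime → q ∣ M.index → q ≤ r)
    (hall : ∀ g : ↥(alternatingGroup (Fin 6)), orderOf g = r →
      ∃ τ : ↥(alternatingGroup (Fin 6)), τ * g * τ⁻¹ ∈ M) : False := by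
  haveI := Fact.mk hr
  have hA : Nat.card ↥(alternatingGroup (Fin 6)) = 360 := by
    rw [nat_card_alternatingGroup, Nat.card_fin]; rfl
  have hcard : Nat.card M * M.index = 360 := by rw [Subgroup.card_mul_index, hA]
  have hrM : r ∣ Nat.card M := by
    obtain ⟨g, hg⟩ := exists_prime_orderOf_dvd_card' (G := ↥(alternatingGroup (Fin 6))) r
      (hA ▸ hrd.trans (Dvd.intro_left _ hcard))
    obtain ⟨τ, hτ⟩ := hall g hg
    have h := orderOf_dvd_natCard (G := ↥M) ⟨_, hτ⟩
    rwa [Subgroup.orderOf_mk, show τ * g * τ⁻¹ = MulAut.conj τ g from rfl, MulEquiv.orderOf_eq,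
      hg] at h
  have hrr : r * r ∣ 360 := hcard ▸ Nat.mul_dvd_mul hrM hrd
  have hr3 : r = 2 ∨ r = 3 := by
    have h1 : r ≤ 18 := by
      have := Nat.le_of_dvd (by norm_num) hrr
      nlinarith
    interval_cases r <;> first | exact Or.inl rfl | exact Or.inr rfl | (exfalso; revert hrr; decide) | (exfalso; revert hr; decide)
  haveI : Fact (Nat.Prime 5) := ⟨by norm_num⟩
  rcases hr3 with rfl | rfl
  · -- index a power of two
    have hd : M.index ∣ 8 := by
      have hcop : (M.index).Coprime 45 := by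
        rw [show (45 : ℕ) = 3 * 3 * 5 by norm_num]
        refine Nat.Coprime.mul_right (Nat.Coprime.mul_right ?_ ?_) ?_ <;>
          · refine ((Nat.Prime.coprime_iff_not_dvd (by norm_num)).2 fun h => ?_).symm
            exact absurd (hrmax _ (by norm_num) h) (by norm_num)
      refine hcop.dvd_of_dvd_mul_left ?_
      rw [show (45 : ℕ) * 8 = Nat.card M * M.index by omega]
      exact Dvd.intro_left _ rfl
    haveI : IsSimpleGroup ↥(alternatingGroup (Fin 6)) :=
      alternatingGroup.isSimpleGroup (by simp)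
    have hcore : M.normalCore = ⊥ :=
      (Subgroup.Normal.eq_bot_or_eq_top (Subgroup.normalCore_normal M)).resolve_right
        fun h => hne (top_le_iff.1 (h ▸ Subgroup.normalCore_le M))
    have hinj : Function.Injective (MulAction.toPermHom ↥(alternatingGroup (Fin 6))
        (↥(alternatingGroup (Fin 6)) ⧸ M)) := by
      rw [← MonoidHom.ker_eq_bot_iff, ← Subgroup.normalCore_eq_ker, hcore]
    have hf : 360 ∣ (M.index).factorial := by
      have h := Subgroup.card_dvd_of_injective _ hinj
      rw [Nat.card_perm, hA] at h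
      exact h
    have hd8 : M.index = 8 := by
      obtain ⟨i, hi, h⟩ := (Nat.dvd_prime_pow Nat.prime_two).1 (show M.index ∣ 2 ^ 3 from hd)
      interval_cases i <;> rw [h] at hf ⊢ <;> revert hf <;> decide
    have hM45 : Nat.card M = 45 := by rw [hd8] at hcard; omega
    obtain ⟨y, hy⟩ := exists_prime_orderOf_dvd_card' (G := ↥M) 5 (by rw [hM45]; norm_num)
    haveI : Fact (Nat.Prime 3) := ⟨by norm_num⟩
    obtain ⟨x, hx⟩ := exists_prime_orderOf_dvd_card' (G := ↥M) 3 (by rw [hM45]; norm_num)
    obtain ⟨S⟩ := (inferInstance : Nonempty (Sylow 5 ↥M))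
    have hScard : Nat.card (S : Subgroup ↥M) = 5 := by
      rw [Sylow.card_eq_multiplicity, hM45, show (45 : ℕ) = 5 ^ 1 * 9 by norm_num,
        Nat.factorization_mul (by norm_num) (by norm_num), Finsupp.add_apply,
        Nat.Prime.factorization_pow (by norm_num),
        Nat.factorization_eq_zero_of_not_dvd (show ¬ 5 ∣ 9 by norm_num)]
      simp
    have hSsub : Subsingleton (Sylow 5 ↥M) := by
      have h1 : Nat.card (Sylow 5 ↥M) ∣ 9 := by
        have h := S.card_dvd_index
        have h2 := Subgroup.card_mul_index (S : Subgroup ↥M)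
        rw [hScard, hM45] at h2
        rwa [show (S : Subgroup ↥M).index = 9 by omega] at h
      have h2 : Nat.card (Sylow 5 ↥M) % 5 = 1 := card_sylow_modEq_one 5 ↥M
      have h3 : Nat.card (Sylow 5 ↥M) = 1 := by
        have := Nat.le_of_dvd (by norm_num) h1
        interval_cases (Nat.card (Sylow 5 ↥M)) <;> omega
      exact (Nat.card_eq_one_iff_unique.1 h3).1
    have hSn : (S : Subgroup ↥M).Normal := S.normal_of_subsingleton
    -- `x` centralises `S`
    have hyS : y ∈ (S : Subgroup ↥M) := by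
      obtain ⟨T, hT⟩ := (IsPGroup.of_card (n := 1) (by rw [Nat.card_zpowers, hy, pow_one]) :
        IsPGroup 5 ↥(Subgroup.zpowers y)).exists_le_sylow
      rw [Subsingleton.elim S T]
      exact hT (Subgroup.mem_zpowers y)
    have hxy : Commute x y := by
      haveI := hSn
      let c : MulAut ↥(S : Subgroup ↥M) := MulAut.conjNormal x
      have hc : c ^ 3 = 1 := by
        show (MulAut.conjNormal x : MulAut ↥(S : Subgroup ↥M)) ^ 3 = 1
        rw [← map_pow, ← hx, pow_orderOf_eq_one, map_one]
      haveI : IsCyclic ↥(S : Subgroup ↥M) := isCyclic_of_prime_card hScard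
      have h4 : orderOf c ∣ 4 := by
        have h := orderOf_dvd_natCard c
        rw [IsCyclic.card_mulAut, hScard] at h
        exact h
      have h1 : c = 1 := orderOf_eq_one_iff.1
        (Nat.eq_one_of_dvd_coprimes (by norm_num) (orderOf_dvd_of_pow_eq_one hc) h4)
      have h := congrArg Subtype.val (MulEquiv.congr_fun h1 ⟨y, hyS⟩)
      rw [MulAut.conjNormal_apply] at h
      exact mul_inv_eq_iff_eq_mul.1 h
    have h15 : orderOf ((x * y : ↥M) : ↥(alternatingGroup (Fin 6))).1 = 15 := by
      rw [Subgroup.orderOf_coe, Subgroup.orderOf_coe, hxy.orderOf_mul_eq_mul_orderOf_of_coprime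
        (by rw [hx, hy]; norm_num), hx, hy]
    set g := ((x * y : ↥M) : ↥(alternatingGroup (Fin 6))).1
    have hsum : g.cycleType.sum ≤ 6 := by
      rw [sum_cycleType]; exact (Finset.card_le_univ _).trans (by simp)
    have hmem5 : 5 ∈ g.cycleType := by
      by_contra hn
      have : g.cycleType.lcm ∣ 3 := by
        rw [Multiset.lcm_dvd]
        intro a ha
        have h1 : a ∣ 15 := h15 ▸ dvd_of_mem_cycleType ha
        have h2 := two_le_of_mem_cycleType ha
        have h3 : a ≤ 6 := (Multiset.le_sum_of_mem ha).trans hsum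
        interval_cases a <;> first | exact absurd ha hn | (revert h1; decide)
      rw [lcm_cycleType, h15] at this
      norm_num at this
    have hmem3 : 3 ∈ g.cycleType := by
      by_contra hn
      have : g.cycleType.lcm ∣ 5 := by
        rw [Multiset.lcm_dvd]
        intro a ha
        have h1 : a ∣ 15 := h15 ▸ dvd_of_mem_cycleType ha
        have h2 := two_le_of_mem_cycleType ha
        have h3 : a ≤ 6 := (Multiset.le_sum_of_mem ha).trans hsum
        interval_cases a <;> first | exact absurd ha hn | (revert h1; decide)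
      rw [lcm_cycleType, h15] at this
      norm_num at this
    have hle : 5 + 3 ≤ g.cycleType.sum := by
      rw [← Multiset.cons_erase hmem5, Multiset.sum_cons]
      exact Nat.add_le_add_left
        (Multiset.le_sum_of_mem ((Multiset.mem_erase_of_ne (by norm_num)).2 hmem3)) 5
    omega
  · -- `r = 3`
    obtain ⟨S⟩ := (inferInstance : Nonempty (Sylow 3 ↥M))
    have hScard : Nat.card (S : Subgroup ↥M) = 3 := by
      obtain ⟨i, hi⟩ := IsPGroup.iff_card.1 S.2
      have h1 : 3 ∣ Nat.card (S : Subgroup ↥M) := S.dvd_card_of_dvd_card hrM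
      have h2 : Nat.card (S : Subgroup ↥M) * 3 ∣ 360 :=
        (Nat.mul_dvd_mul (Subgroup.card_subgroup_dvd_card _) hrd).trans (dvd_of_eq hcard)
      rw [hi] at h1 h2 ⊢
      rcases (by omega : i = 0 ∨ i = 1 ∨ 2 ≤ i) with rfl | rfl | h
      · norm_num at h1
      · rfl
      · exfalso
        have h3 : 3 ^ 2 * 3 ∣ 360 := (Nat.mul_dvd_mul_right (pow_dvd_pow 3 h) 3).trans h2
        norm_num at h3
    -- all elements of order three have the same cycle type
    have hsame : ∀ a b : ↥M, orderOf a = 3 → orderOf b = 3 →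
        (a : ↥(alternatingGroup (Fin 6))).1.cycleType =
          (b : ↥(alternatingGroup (Fin 6))).1.cycleType := by
      have hinto : ∀ a : ↥M, orderOf a = 3 → ∃ g : ↥M, g * a * g⁻¹ ∈ (S : Subgroup ↥M) := by
        intro a ha
        obtain ⟨g, hg⟩ := exists_conj_mem (K := (S : Subgroup ↥M)) (q := 3) S.not_dvd_index
          (x := a) ⟨1, by rw [ha, pow_one]⟩
        exact ⟨g⁻¹, by rwa [inv_inv]⟩
      intro a b ha hb
      obtain ⟨g, hg⟩ := hinto a ha
      obtain ⟨k, hk⟩ := hinto b hb
      have key : ∀ u v : ↥(S : Subgroup ↥M), orderOf u = 3 → orderOf v = 3 →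
          ((u : ↥M) : ↥(alternatingGroup (Fin 6))).1.cycleType =
            ((v : ↥M) : ↥(alternatingGroup (Fin 6))).1.cycleType := by
        intro u v hu hv
        have hmem : v ∈ Subgroup.zpowers u := by
          have htop : Subgroup.zpowers u = ⊤ :=
            Subgroup.eq_top_of_card_eq _ (by rw [Nat.card_zpowers, hu, hScard])
          rw [htop]; trivial
        rw [← mem_powers_iff_mem_zpowers, mem_powers_iff_mem_range_orderOf, Finset.mem_image] at hmem
        obtain ⟨i, hi, hiv⟩ := hmem
        rw [Finset.mem_range, hu] at hi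
        interval_cases i
        · rw [pow_zero] at hiv; rw [← hiv, orderOf_one] at hv; norm_num at hv
        · rw [← hiv, pow_one]
        · have h2 : u ^ 2 = u⁻¹ := by
            have h3 := pow_orderOf_eq_one u
            rw [hu] at h3
            rw [eq_inv_iff_mul_eq_one, ← pow_succ]
            exact h3
          rw [← hiv]
          simp only [h2, Subgroup.coe_inv, cycleType_inv]
      have hc := key ⟨_, hg⟩ ⟨_, hk⟩
        (by rw [Subgroup.orderOf_mk, show g * a * g⁻¹ = MulAut.conj g a from rfl, MulEquiv.orderOf_eq, ha])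
        (by rw [Subgroup.orderOf_mk, show k * b * k⁻¹ = MulAut.conj k b from rfl, MulEquiv.orderOf_eq, hb])
      simpa [cycleType_conj] using hc
    let a : ↥(alternatingGroup (Fin 6)) :=
      ⟨c[0, 1, 2], mem_alternatingGroup.2 (by decide)⟩
    let b : ↥(alternatingGroup (Fin 6)) :=
      ⟨c[0, 1, 2] * c[3, 4, 5], mem_alternatingGroup.2 (by decide)⟩
    have ha : orderOf a = 3 := orderOf_eq_prime (by decide +kernel) (by decide +kernel)
    have hb : orderOf b = 3 := orderOf_eq_prime (by decide +kernel) (by decide +kernel)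
    obtain ⟨s, hs⟩ := hall a ha
    obtain ⟨t, ht⟩ := hall b hb
    have h := hsame ⟨_, hs⟩ ⟨_, ht⟩
      (by rw [Subgroup.orderOf_mk, show s * a * s⁻¹ = MulAut.conj s a from rfl, MulEquiv.orderOf_eq, ha])
      (by rw [Subgroup.orderOf_mk, show t * b * t⁻¹ = MulAut.conj t b from rfl, MulEquiv.orderOf_eq, hb])
    simp only [Subgroup.coe_mul, Subgroup.coe_inv, cycleType_conj] at h
    exact absurd (congrArg Multiset.card h) (by decide +kernel)

/-- Let G be an almost simple group whose socle is an alternating group of degree m ≥ 5 (G has a normal subgroup T isomorphic to that alternating group with trivial centralizer), acting faithfully and primitively on a finite set Ω with at least two points, and let r be the largest prime divisor of the number of points. Then G contains an element of order r fixing no point. -/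
theorem result {G Ω : Type*} [Group G] [Finite G] [MulAction G Ω] [FaithfulSMul G Ω] [Finite Ω]
    (T : Subgroup G) (hT : T.Normal) (hTc : Subgroup.centralizer (T : Set G) = ⊥) (m : ℕ) (hm : 5 ≤ m)
    (eT : ↥T ≃* ↥(alternatingGroup (Fin m))) (hprim : MulAction.IsPreprimitive G Ω) (hΩ : 2 ≤ Nat.card Ω)
    (r : ℕ) (hr : r.Prime) (hrd : r ∣ Nat.card Ω) (hmax : ∀ s : ℕ, s.Prime → s ∣ Nat.card Ω → s ≤ r) :
    ∃ g : G, orderOf g = r ∧ ∀ ω : Ω, g • ω ≠ ω := by
  classical
  haveI := Fact.mk hr
  haveI : Nontrivial Ω := Finite.one_lt_card_iff_nontrivial.1 (by omega)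
  obtain ⟨ω⟩ := (inferInstance : Nonempty Ω)
  haveI : IsPretransitive G Ω := hprim.toIsPretransitive
  haveI := hT
  -- the socle is transitive
  have hTne : T ≠ ⊥ := by
    rintro rfl
    have h1 : Nat.card ↥(alternatingGroup (Fin m)) = 1 := by
      rw [← Nat.card_congr eT.toEquiv, Subgroup.card_bot]
    haveI : Nontrivial (Fin m) := Fin.nontrivial_iff_two_le.2 (by omega)
    have h2 := two_mul_nat_card_alternatingGroup (α := Fin m)
    rw [h1, Nat.card_perm, Nat.card_fin] at h2
    have := Nat.self_le_factorial m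
    omega
  haveI : IsPretransitive ↥T Ω := by
    haveI := hprim
    refine IsQuasiPreprimitive.isPretransitive_of_normal (G := G) fun h => hTne ?_
    rw [Subgroup.eq_bot_iff_forall]
    intro t ht
    refine eq_of_smul_eq_smul fun x : Ω => ?_
    have hx : x ∈ MulAction.fixedPoints ↥T Ω := h ▸ Set.mem_univ x
    rw [one_smul]
    exact hx ⟨t, ht⟩
  set H := stabilizer G ω with hH
  set K : Subgroup ↥T := stabilizer ↥T ω with hK
  have hKindex : K.index = Nat.card Ω := by
    rw [hK, MulAction.index_stabilizer, MulAction.orbit_eq_univ, Set.ncard_univ]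
  by_contra hno
  push Not at hno
  have hallT : ∀ t : ↥T, orderOf t = r → ∃ τ : ↥T, τ * t * τ⁻¹ ∈ K := by
    intro t ht
    obtain ⟨x, hx⟩ := hno t (by rw [Subgroup.orderOf_coe, ht])
    obtain ⟨τ, hτ⟩ := MulAction.exists_smul_eq ↥T x ω
    refine ⟨τ, ?_⟩
    show (τ * t * τ⁻¹) • ω = ω
    rw [mul_smul, mul_smul, inv_smul_eq_iff.2 hτ.symm, show t • x = x from hx, hτ]
  have hKne : K ≠ ⊤ := fun h => by rw [h, Subgroup.index_top] at hKindex; omega
  by_cases h6 : m = 6
  · subst h6
    refine six_case (K.map eT.toMonoidHom) ?_ r hr ?_ ?_ ?_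
    · intro h
      refine hKne (Subgroup.map_injective (f := eT.toMonoidHom) eT.injective ?_)
      rw [h, Subgroup.map_top_of_surjective _ eT.surjective]
    · rw [Subgroup.index_map_of_bijective (f := eT.toMonoidHom) eT.bijective, hKindex]; exact hrd
    · intro q hq hqd
      rw [Subgroup.index_map_of_bijective (f := eT.toMonoidHom) eT.bijective, hKindex] at hqd
      exact hmax q hq hqd
    · intro g hg
      obtain ⟨τ, hτ⟩ := hallT (eT.symm g) (by rw [MulEquiv.orderOf_eq, hg])
      refine ⟨eT τ, ⟨_, hτ, ?_⟩⟩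
      simp
  -- the embedding into the symmetric group
  let Φ : Equiv.Perm (Fin m) ≃* MulAut ↥(alternatingGroup (Fin m)) :=
    MulEquiv.ofBijective _ (S2119.result m (by omega) h6)
  let θ : G →* Equiv.Perm (Fin m) :=
    Φ.symm.toMonoidHom.comp ((MulAut.congr eT).toMonoidHom.comp MulAut.conjNormal)
  have hΦapp : ∀ g : G, Φ (θ g) = MulAut.congr eT (MulAut.conjNormal g) := fun g =>
    Φ.apply_symm_apply _
  have hθT : ∀ t : ↥T, θ (t : G) = ((eT t : ↥(alternatingGroup (Fin m))) : Equiv.Perm (Fin m)) := by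
    intro t
    refine Φ.injective ?_
    rw [hΦapp]
    refine MulEquiv.ext fun a => Subtype.ext ?_
    show ((eT (MulAut.conjNormal (t : G) (eT.symm a)) : ↥(alternatingGroup (Fin m))) :
        Equiv.Perm (Fin m)) =
      (MulAut.conjNormal (((eT t : ↥(alternatingGroup (Fin m))) : Equiv.Perm (Fin m))) a :
        ↥(alternatingGroup (Fin m)))
    have h1 : MulAut.conjNormal (t : G) (eT.symm a) = t * eT.symm a * t⁻¹ :=
      Subtype.ext (by rw [MulAut.conjNormal_apply]; rfl)
    rw [h1, map_mul, map_mul, map_inv, MulEquiv.apply_symm_apply, MulAut.conjNormal_apply]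
    rfl
  have hθinj : Function.Injective θ := by
    rw [injective_iff_map_eq_one]
    intro g hg
    have h1 : MulAut.conjNormal (H := T) g = 1 := by
      refine (MulAut.congr eT).injective ?_
      rw [← hΦapp, hg, map_one, map_one]
    have h2 : g ∈ Subgroup.centralizer (T : Set G) := by
      refine Subgroup.mem_centralizer_iff.2 fun t ht => ?_
      have h := congrArg Subtype.val (MulEquiv.congr_fun h1 ⟨t, ht⟩)
      rw [MulAut.conjNormal_apply] at h
      exact (mul_inv_eq_iff_eq_mul.1 h).symm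
    rw [hTc] at h2
    exact h2
  have hTimage : T.map θ = alternatingGroup (Fin m) := by
    ext σ
    refine ⟨?_, fun hσ => ⟨((eT.symm ⟨σ, hσ⟩ : ↥T) : G), (eT.symm ⟨σ, hσ⟩).2, ?_⟩⟩
    · rintro ⟨t, ht, rfl⟩
      rw [hθT ⟨t, ht⟩]
      exact (eT ⟨t, ht⟩).2
    · rw [hθT, MulEquiv.apply_symm_apply]
  have hinf : H.map θ ⊓ alternatingGroup (Fin m) = (H ⊓ T).map θ := by
    rw [Subgroup.map_inf _ _ _ hθinj, hTimage]
  have hKHT : K = (H ⊓ T).subgroupOf T := by
    ext t
    exact ⟨fun h => ⟨h, t.2⟩, fun h => h.1⟩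
  have hrel : (H.map θ ⊓ alternatingGroup (Fin m)).relIndex (alternatingGroup (Fin m)) =
      Nat.card Ω := by
    rw [hinf, ← hTimage, Subgroup.relIndex_map_map_of_injective _ _ hθinj, Subgroup.relIndex,
      ← hKHT, hKindex]
  refine perm_case hm (H.map θ) r hr ?_ ?_ (hrel ▸ hrd) (fun q hq h => hmax q hq (hrel ▸ h)) ?_
  · intro Y hY1 hY2 hY3
    set Y0 : Subgroup G := Y.comap θ with hY0
    have hY0T : Y0 ≤ T := fun x hx => by
      obtain ⟨t, ht, hte⟩ := hTimage.ge (hY2 hx)
      rwa [← hθinj hte]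
    have hnorm : H ≤ Subgroup.normalizer (Y0 : Set G) := by
      intro h hh
      rw [Subgroup.mem_normalizer_iff]
      intro y
      refine ⟨fun hy => ?_, fun hy => ?_⟩
      · show θ (h * y * h⁻¹) ∈ Y
        rw [map_mul, map_mul, map_inv]
        exact hY3 _ ⟨h, hh, rfl⟩ _ hy
      · show θ y ∈ Y
        have h1 := hY3 _ ⟨h⁻¹, inv_mem hh, rfl⟩ _ hy
        rw [map_mul, map_mul, map_inv] at h1
        simpa [mul_assoc] using h1
    rcases ((haveI := hprim; MulAction.IsPreprimitive.isCoatom_stabilizer_of_isPreprimitive G ω)).le_iff.1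
      (le_sup_right : H ≤ Y0 ⊔ H) with htop | heq
    · right
      refine le_antisymm hY2 ?_
      rw [← hTimage]
      rintro _ ⟨t, ht, rfl⟩
      have hmem : t ∈ Y0 ⊔ H := htop ▸ Subgroup.mem_top t
      rw [← SetLike.mem_coe, Subgroup.coe_mul_of_right_le_normalizer_left Y0 H hnorm] at hmem
      obtain ⟨y, hy, h, hh, rfl⟩ := Set.mem_mul.1 hmem
      have hhT : h ∈ T := by
        have := T.mul_mem (T.inv_mem (hY0T hy)) ht
        rwa [inv_mul_cancel_left] at this
      have hθh : θ h ∈ Y := hY1 ⟨⟨h, hh, rfl⟩, hTimage.le ⟨h, hhT, rfl⟩⟩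
      rw [map_mul]
      exact Y.mul_mem hy hθh
    · left
      refine le_antisymm ?_ hY1
      intro σ hσ
      obtain ⟨t, ht, rfl⟩ := hTimage.ge (hY2 hσ)
      have hH' : t ∈ H := heq.le ((le_sup_left : Y0 ≤ Y0 ⊔ H) hσ)
      exact ⟨⟨t, hH', rfl⟩, hY2 hσ⟩
  · intro h
    have h1 : Nat.card Ω = 1 := by rw [← hrel, h, Subgroup.relIndex_self]
    omega
  · intro g hg ho
    obtain ⟨τ, hτ⟩ := hallT (eT.symm ⟨g, hg⟩) (by rw [MulEquiv.orderOf_eq, Subgroup.orderOf_mk, ho])
    refine ⟨θ (τ : G), ⟨((τ * eT.symm ⟨g, hg⟩ * τ⁻¹ : ↥T) : G), hτ, ?_⟩⟩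
    simp only [Subgroup.coe_mul, Subgroup.coe_inv, map_mul, map_inv, hθT, MulEquiv.apply_symm_apply]

end Cfsg.Agent.S3571
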