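import Cfsg.Statements.S3572
import Cfsg.Agent.Lib.DihedralBGroup49Main
-- import your own Cfsg.Agent.* helpers here

set_option autoImplicit false
open Cfsg

namespace Cfsg.Agent.S3572

/-- A finite primitive permutation group containing a dihedral subgroup that acts regularly (transitively with trivial point stabilizers) is doubly transitive. -/
theorem result {G Ω : Type*} [Group G] [Finite G] [MulAction G Ω] [FaithfulSMul G Ω] [Finite Ω]
    (hprim : MulAction.IsPreprimitive G Ω) (D : Subgroup G) (m : ℕ) (hD : Nonempty (↥D ≃* DihedralGroup m))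
    (hDreg : MulAction.IsPretransitive ↥D Ω ∧ ∀ a : Ω, MulAction.stabilizer ↥D a = ⊥) :
    MulAction.IsMultiplyPretransitive G Ω 2 := by
  classical
  rw [MulAction.is_two_pretransitive_iff]
  intro a b c d hab hcd
  obtain ⟨hDt, hDstab⟩ := hDreg
  obtain ⟨e⟩ := hD
  haveI : Finite (DihedralGroup m) := Finite.of_equiv _ e.toEquiv
  haveI : NeZero m := ⟨by
    rintro rfl
    haveI : Finite (DihedralGroup 0) := inferInstance
    have h := Finite.of_injective (fun i : ℤ => (DihedralGroup.r i : DihedralGroup 0)) fun i j h => by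
      injection h
    exact not_finite ℤ⟩
  let act : DihedralGroup m → Ω := fun x => ((e.symm x : ↥D) : G) • a
  have hinj : Function.Injective act := by
    intro x y h
    apply e.symm.injective
    have h1 : (e.symm y)⁻¹ * e.symm x ∈ MulAction.stabilizer (↥D) a := by
      rw [MulAction.mem_stabilizer_iff, mul_smul]
      show (e.symm y)⁻¹ • (act x) = a
      rw [h]
      exact inv_smul_smul (e.symm y) a
    rw [hDstab a, Subgroup.mem_bot] at h1
    exact (inv_mul_eq_one.1 h1).symm
  have hsurj : Function.Surjective act := by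
    intro z
    obtain ⟨g, hg⟩ := MulAction.exists_smul_eq (↥D) a z
    exact ⟨e g, by simp only [act, MulEquiv.symm_apply_apply]; exact hg⟩
  let E : DihedralGroup m ≃ Ω := Equiv.ofBijective act ⟨hinj, hsurj⟩
  have hE : ∀ x, E x = ((e.symm x : ↥D) : G) • a := fun x => rfl
  have hE1 : E 1 = a := by rw [hE, map_one, OneMemClass.coe_one, one_smul]
  let θ : G →* Equiv.Perm (DihedralGroup m) :=
    (E.symm.permCongrHom.toMonoidHom).comp (MulAction.toPermHom G Ω)
  have hθ : ∀ g x, θ g x = E.symm (g • E x) := fun g x => rfl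
  have hleft : ∀ c, Equiv.mulLeft c ∈ θ.range := by
    intro c
    refine ⟨((e.symm c : ↥D) : G), Equiv.ext fun x => E.injective ?_⟩
    rw [hθ, Equiv.apply_symm_apply, Equiv.coe_mulLeft, hE, hE, map_mul, Subgroup.coe_mul, mul_smul]
  by_cases hm : 2 ≤ m
  swap
  · obtain rfl : m = 1 := by have := NeZero.ne m; omega
    have hcard : Nat.card Ω = 2 := by rw [← Nat.card_congr E, DihedralGroup.nat_card]
    obtain ⟨g₀, hg₀⟩ := MulAction.exists_smul_eq (↥D) a c
    refine ⟨(g₀ : G), hg₀, ?_⟩
    obtain ⟨u, v, huv, hall⟩ := Nat.card_eq_two_iff.1 hcard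
    have hne : (g₀ : G) • b ≠ c := fun h => hab (MulAction.injective (g₀ : G) (hg₀.trans h.symm))
    have hz : ∀ z : Ω, z = u ∨ z = v := fun z => by
      have := hall.symm ▸ Set.mem_univ z
      simpa using this
    rcases hz ((g₀ : G) • b) with h1 | h1 <;> rcases hz c with h2 | h2 <;> rcases hz d with h3 | h3 <;>
      first
      | exact h1.trans h3.symm
      | exact absurd (h1.trans h2.symm) hne
      | exact absurd (h2.trans h3.symm) hcd
  have hP : DihedralBGroup49.Pack θ.range := by
    refine ⟨hleft, fun K hK => ?_, hm⟩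
    have hPl : ∀ σ ∈ θ.range, ∀ u v, DihedralBGroup49.Rel θ.range v ((σ u)⁻¹ * σ (u * v)) := by
      intro σ hσ u v
      refine ⟨Equiv.mulLeft (σ u)⁻¹ * σ * Equiv.mulLeft u,
        mul_mem (mul_mem (hleft _) hσ) (hleft _), ?_, ?_⟩ <;> simp
    have hblock : MulAction.IsBlock G (E '' (K : Set (DihedralGroup m))) := by
      rw [MulAction.isBlock_iff_smul_eq_of_nonempty]
      rintro g ⟨z, ⟨w, ⟨x, hx, rfl⟩, hw⟩, ⟨y, hy, hyz⟩⟩
      have hwy : θ g x = y := by
        rw [hθ, show g • E x = E y from hw.trans hyz.symm, Equiv.symm_apply_apply]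
      have hmap : ∀ k ∈ K, θ g k ∈ K := by
        intro k hk
        have h1 := hK _ _ (hPl (θ g) ⟨g, rfl⟩ x (x⁻¹ * k)) (mul_mem (inv_mem hx) hk)
        rw [mul_inv_cancel_left, hwy] at h1
        have h2 := mul_mem hy h1
        rwa [mul_inv_cancel_left] at h2
      have himg : (θ g) '' (K : Set (DihedralGroup m)) = K :=
        Set.eq_of_subset_of_ncard_le (by rintro _ ⟨k, hk, rfl⟩; exact hmap k hk)
          (le_of_eq (Set.ncard_image_of_injective _ (θ g).injective).symm) (Set.toFinite _)
      conv_rhs => rw [← himg]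
      ext z'
      constructor
      · rintro ⟨_, ⟨k, hk, rfl⟩, rfl⟩
        exact ⟨θ g k, ⟨k, hk, rfl⟩, by rw [hθ, Equiv.apply_symm_apply]⟩
      · rintro ⟨_, ⟨k, hk, rfl⟩, rfl⟩
        exact ⟨E k, ⟨k, hk, rfl⟩, by rw [hθ, Equiv.apply_symm_apply]⟩
    rcases hprim.isTrivialBlock_of_isBlock hblock with h | h
    · left
      rw [Subgroup.eq_bot_iff_forall]
      intro k hk
      exact E.injective (h ⟨k, hk, rfl⟩ ⟨1, one_mem K, rfl⟩)
    · right
      rw [Subgroup.eq_top_iff']
      intro k
      obtain ⟨k', hk', hkk⟩ := h.symm ▸ Set.mem_univ (E k)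
      rwa [E.injective hkk] at hk'
  have hstab : ∀ b' d' : Ω, b' ≠ a → d' ≠ a → ∃ g : G, g • a = a ∧ g • b' = d' := by
    intro b' d' hb hd
    have hx : E.symm b' ≠ 1 := fun h => hb (by rw [← hE1, ← h, Equiv.apply_symm_apply])
    have hy : E.symm d' ≠ 1 := fun h => hd (by rw [← hE1, ← h, Equiv.apply_symm_apply])
    obtain ⟨σ, ⟨g, rfl⟩, h1, h2⟩ := DihedralBGroup49.transitive hP hx hy
    rw [hθ] at h1 h2
    refine ⟨g, ?_, ?_⟩
    · rw [← hE1]
      exact E.symm.injective (by rw [h1, Equiv.symm_apply_apply])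
    · have := E.symm.injective h2
      rwa [Equiv.apply_symm_apply] at this
  haveI := hprim
  obtain ⟨g, hg⟩ := MulAction.exists_smul_eq G c a
  have hd : g • d ≠ a := fun h => hcd (MulAction.injective g (hg.trans h.symm))
  obtain ⟨k, hk1, hk2⟩ := hstab b (g • d) hab.symm hd
  exact ⟨g⁻¹ * k, by rw [mul_smul, hk1, inv_smul_eq_iff, hg], by rw [mul_smul, hk2, inv_smul_smul]⟩


end Cfsg.Agent.S3572
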