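import Cfsg.Statements.S3575
import Mathlib

set_option autoImplicit false
open Cfsg

namespace Cfsg.Agent.S3575

open Equiv

/-- Number of fixed points. -/
noncomputable def nfix {α : Type*} (σ : Perm α) : ℕ := Nat.card {x // σ x = x}

theorem nfix_mod {α : Type*} [Finite α] {r : ℕ} [Fact r.Prime] {σ : Perm α} (h : σ ^ r = 1) :
    nfix σ % r = Nat.card α % r ∧ nfix σ ≤ Nat.card α := by
  classical
  have := Fintype.ofFinite α
  have h1 := Perm.card_compl_support_modEq (p := r) (n := 1) (σ := σ) (by rwa [pow_one])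
  have h2 : nfix σ = σ.supportᶜ.card := by
    rw [nfix, Nat.card_eq_fintype_card, Fintype.card_subtype]
    congr 1
    ext x
    simp
  refine ⟨?_, ?_⟩
  · rw [h2, Nat.card_eq_fintype_card]; exact h1
  · exact Nat.card_le_card_of_injective _ Subtype.val_injective

theorem nfix_transport {α β : Type*} (e : α ≃ β) (σ : Perm α) : nfix (e.permCongr σ) = nfix σ := by
  refine (Nat.card_congr (e.subtypeEquiv fun x => ?_)).symm
  simp [Equiv.permCongr_apply]

theorem cycleType_eq {α : Type*} [Fintype α] [DecidableEq α] {r : ℕ} [hr : Fact r.Prime] {σ : Perm α}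
    (h : σ ^ r = 1) : ∃ t, σ.cycleType = Multiset.replicate t r ∧ t * r + nfix σ = Fintype.card α := by
  have hmem : ∀ c ∈ σ.cycleType, c = r := fun c hc => by
    have h1 := (Perm.dvd_of_mem_cycleType hc).trans (orderOf_dvd_of_pow_eq_one h)
    rcases (Nat.dvd_prime hr.out).mp h1 with h2 | h2
    · have := Perm.two_le_of_mem_cycleType hc; omega
    · exact h2
  refine ⟨_, Multiset.eq_replicate_card.mpr hmem, ?_⟩
  have h2 : nfix σ = σ.supportᶜ.card := by
    rw [nfix, Nat.card_eq_fintype_card, Fintype.card_subtype]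
    congr 1
    ext x
    simp
  have h3 : σ.cycleType.sum = Multiset.card σ.cycleType * r := by
    conv_lhs => rw [Multiset.eq_replicate_card.mpr hmem]
    rw [Multiset.sum_replicate, smul_eq_mul]
  rw [h2, ← h3, Perm.sum_cycleType, Finset.card_compl]
  have := σ.support.card_le_univ
  omega

theorem isConj_of {α : Type*} [Finite α] {r : ℕ} [hr : Fact r.Prime] {σ τ : Perm α} (h : σ ^ r = 1) (h' : τ ^ r = 1)
    (hfix : nfix σ = nfix τ) : IsConj σ τ := by
  classical
  have := Fintype.ofFinite α
  obtain ⟨t, ht, hs⟩ := cycleType_eq h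
  obtain ⟨u, hu, hs'⟩ := cycleType_eq h'
  rw [Perm.isConj_iff_cycleType_eq, ht, hu, Nat.eq_of_mul_eq_mul_right hr.out.pos (by omega : t * r = u * r)]

/-- The translation by one. -/
def rot (r : ℕ) : Perm (ZMod r) := Equiv.addRight 1

theorem rot_pow (r k : ℕ) (x : ZMod r) : (rot r ^ k) x = x + k := by
  induction k generalizing x with
  | zero => simp
  | succ k ih => rw [pow_succ, Perm.mul_apply, ih]; simp [rot]; ring

theorem rot_pow_self (r : ℕ) : rot r ^ r = 1 := by
  ext x; simp [rot_pow]

theorem rot_ne {r : ℕ} [hr : Fact r.Prime] (x : ZMod r) : rot r x ≠ x := by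
  simp [rot]

/-- A perm of prime order with prescribed number of cycles. -/
theorem exists_cycles {r : ℕ} [hr : Fact r.Prime] (a c : ℕ) (h : c * r ≤ a) :
    ∃ p : Perm (Fin a), p ^ r = 1 ∧ nfix p = a - c * r := by
  let e : (Fin c × ZMod r) ⊕ Fin (a - c * r) ≃ Fin a := Fintype.equivFinOfCardEq (by simp; omega)
  let q : Perm ((Fin c × ZMod r) ⊕ Fin (a - c * r)) := sumCongr (prodCongrRight fun _ => rot r) 1
  refine ⟨e.permCongr q, ?_, ?_⟩
  · have hq : ∀ k : ℕ, q ^ k = sumCongr (prodCongrRight fun _ => rot r ^ k) 1 := by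
      intro k
      induction k with
      | zero => ext (⟨i, x⟩ | x) <;> simp
      | succ k ih => rw [pow_succ, ih]; ext (⟨i, x⟩ | x) <;> simp [q, pow_succ]
    have hq1 : q ^ r = 1 := by
      rw [hq, rot_pow_self]
      ext (⟨i, x⟩ | x) <;> simp
    have := map_pow e.permCongrHom q r
    rw [hq1, map_one] at this
    exact this.symm
  · rw [nfix_transport, nfix]
    have hempty : IsEmpty {x : Fin c × ZMod r // (x.1, rot r x.2) = x} :=
      ⟨fun x => rot_ne x.1.2 (congrArg Prod.snd x.2)⟩
    rw [Nat.card_congr (Equiv.subtypeSum (p := fun x => q x = x)), Nat.card_sum]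
    have h1 : IsEmpty {x : Fin c × ZMod r // q (Sum.inl x) = Sum.inl x} :=
      ⟨fun x => hempty.false ⟨x.1, Sum.inl_injective (show Sum.inl (x.1.1, rot r x.1.2) = _ from x.2)⟩⟩
    rw [Nat.card_of_isEmpty, zero_add,
      Nat.card_congr (Equiv.subtypeUnivEquiv (p := fun b => q (Sum.inr b) = Sum.inr b) fun x => rfl), Nat.card_fin]

/-- Fill the blocks greedily. -/
theorem exists_fill (A : ℕ) : ∀ s T : ℕ, T ≤ s * A → ∃ c : Fin s → ℕ, (∀ i, c i ≤ A) ∧ ∑ i, c i = T := by
  intro s
  induction s with
  | zero => intro T hT; exact ⟨fun _ => 0, fun i => i.elim0, by simp; omega⟩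
  | succ s ih =>
    intro T hT
    obtain ⟨c, hc, hs⟩ := ih (T - A) (by rw [add_one_mul] at hT; omega)
    refine ⟨Fin.cons (min T A) c, Fin.cases (by simp) (by simpa using hc), ?_⟩
    rw [Fin.sum_univ_succ]
    simp [hs]
    omega

/-- The fixed-partition predicate. -/
def FixesPart (a b : ℕ) {α : Type*} (σ : Perm α) : Prop :=
  ∃ f : α → Fin b, (∀ j : Fin b, Nat.card {x : α // f x = j} = a) ∧ ∃ π : Perm (Fin b), ∀ x, f (σ x) = π (f x)

theorem FixesPart.transport {a b : ℕ} {α β : Type*} {σ : Perm α} (h : FixesPart a b σ) (e : α ≃ β) :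
    FixesPart a b (e.permCongr σ) := by
  obtain ⟨f, hf, π, hπ⟩ := h
  refine ⟨f ∘ e.symm, fun j => ?_, π, fun x => by simp [hπ]⟩
  rw [← hf j]
  exact Nat.card_congr (e.symm.subtypeEquiv fun x => Iff.rfl)

theorem FixesPart.conj {a b : ℕ} {α : Type*} {σ τ : Perm α} (h : FixesPart a b σ) (hc : IsConj σ τ) :
    FixesPart a b τ := by
  obtain ⟨g, rfl⟩ := isConj_iff.mp hc
  have := h.transport (g : α ≃ α)
  convert this using 1
  ext x
  simp [Equiv.permCongr_apply]

theorem construct {r : ℕ} [hr : Fact r.Prime] (a b j m : ℕ) (hj : j * r ≤ b) (h1 : j * a ≤ m)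
    (h2 : m ≤ j * a + (b - j * r) * (a / r)) :
    ∃ σ : Perm (Fin (a * b)), σ ^ r = 1 ∧ nfix σ + m * r = a * b ∧ FixesPart a b σ := by
  obtain ⟨c, hc, hcs⟩ := exists_fill (a / r) (b - j * r) (m - j * a) (by omega)
  have hca : ∀ i, c i * r ≤ a := fun i => (Nat.mul_le_mul_right r (hc i)).trans (Nat.div_mul_le_self a r)
  choose p hp hpf using fun i => exists_cycles (r := r) a (c i) (hca i)
  let X := ((Fin j × Fin a) × ZMod r) ⊕ (Fin (b - j * r) × Fin a)
  let B := (Fin j × ZMod r) ⊕ Fin (b - j * r)
  let σ : Perm X := sumCongr (prodCongrRight fun _ => rot r) (prodCongrRight p)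
  let π : Perm B := sumCongr (prodCongrRight fun _ => rot r) 1
  let f : X → B := Sum.map (fun x => (x.1.1, x.2)) Prod.fst
  let eB : B ≃ Fin b := Fintype.equivFinOfCardEq (by simp [B]; omega)
  let eX : X ≃ Fin (a * b) := Fintype.equivFinOfCardEq (by
    simp only [X, Fintype.card_sum, Fintype.card_prod, Fintype.card_fin, ZMod.card]
    calc j * a * r + (b - j * r) * a = (j * r + (b - j * r)) * a := by ring
      _ = a * b := by rw [Nat.add_sub_cancel' hj, mul_comm])
  refine ⟨eX.permCongr σ, ?_, ?_, FixesPart.transport ?_ eX⟩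
  · have hq : ∀ k : ℕ, σ ^ k = sumCongr (prodCongrRight fun _ => rot r ^ k) (prodCongrRight fun i => p i ^ k) := by
      intro k
      induction k with
      | zero => ext (⟨i, x⟩ | ⟨i, x⟩) <;> rfl
      | succ k ih => rw [pow_succ, ih]; ext (⟨i, x⟩ | ⟨i, x⟩) <;> rfl
    have hq1 : σ ^ r = 1 := by
      rw [hq]
      ext (⟨i, x⟩ | ⟨i, x⟩) <;> simp [rot_pow_self, hp]
    have := map_pow eX.permCongrHom σ r
    rw [hq1, map_one] at this
    exact this.symm
  · rw [nfix_transport, nfix, Nat.card_congr (Equiv.subtypeSum (p := fun x => σ x = x)), Nat.card_sum]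
    have h0 : IsEmpty {x : (Fin j × Fin a) × ZMod r // σ (Sum.inl x) = Sum.inl x} :=
      ⟨fun x => rot_ne x.1.2 (congrArg Prod.snd
        (Sum.inl_injective (show Sum.inl (x.1.1, rot r x.1.2) = _ from x.2)))⟩
    let e : {x : Fin (b - j * r) × Fin a // σ (Sum.inr x) = Sum.inr x} ≃ Σ i, {y : Fin a // p i y = y} :=
      { toFun := fun x => ⟨x.1.1, x.1.2, congrArg Prod.snd
          (Sum.inr_injective (show Sum.inr (x.1.1, p x.1.1 x.1.2) = _ from x.2))⟩
        invFun := fun y => ⟨(y.1, y.2.1), congrArg (fun z => Sum.inr (y.1, z)) y.2.2⟩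
        left_inv := fun _ => rfl
        right_inv := fun _ => rfl }
    rw [Nat.card_of_isEmpty, zero_add, Nat.card_congr e, Nat.card_sigma]
    have hs : ∑ i, Nat.card {y // p i y = y} + (∑ i, c i) * r = (b - j * r) * a := by
      rw [Finset.sum_mul, ← Finset.sum_add_distrib]
      rw [Finset.sum_congr rfl (fun i _ => (by
        rw [show Nat.card {y // p i y = y} = a - c i * r from hpf i]
        exact Nat.sub_add_cancel (hca i) : Nat.card {y // p i y = y} + c i * r = a))]
      simp
    rw [hcs] at hs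
    have e1 : j * a * r + (b - j * r) * a = a * b := by
      calc j * a * r + (b - j * r) * a = (j * r + (b - j * r)) * a := by ring
        _ = a * b := by rw [Nat.add_sub_cancel' hj, mul_comm]
    have e2 : m * r = j * a * r + (m - j * a) * r := by rw [← add_mul, Nat.add_sub_cancel' h1]
    omega
  · refine ⟨eB ∘ f, fun z => ?_, eB.permCongr π, fun x => ?_⟩
    · have hfib : ∀ w : B, Nat.card {x : X // f x = w} = a := by
        rintro (⟨i, t⟩ | i)
        · let e : {x : X // f x = Sum.inl (i, t)} ≃ Fin a :=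
            { toFun := fun x => match x with
                | ⟨Sum.inl y, _⟩ => y.1.2
                | ⟨Sum.inr _, h⟩ => absurd h (by simp [f])
              invFun := fun u => ⟨Sum.inl ((i, u), t), rfl⟩
              left_inv := by
                rintro ⟨⟨⟨i', u⟩, t'⟩ | y, h⟩
                · simp [f] at h; obtain ⟨rfl, rfl⟩ := h; rfl
                · simp [f] at h
              right_inv := fun u => rfl }
          rw [Nat.card_congr e, Nat.card_fin]
        · let e : {x : X // f x = Sum.inr i} ≃ Fin a :=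
            { toFun := fun x => match x with
                | ⟨Sum.inr y, _⟩ => y.2
                | ⟨Sum.inl _, h⟩ => absurd h (by simp [f])
              invFun := fun u => ⟨Sum.inr (i, u), rfl⟩
              left_inv := by
                rintro ⟨y | ⟨i', u⟩, h⟩
                · simp [f] at h
                · obtain rfl : i' = i := Sum.inr_injective h
                  rfl
              right_inv := fun u => rfl }
          rw [Nat.card_congr e, Nat.card_fin]
      rw [← hfib (eB.symm z)]
      exact Nat.card_congr (Equiv.subtypeEquivRight fun x => eB.eq_symm_apply.symm)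
    · show eB (f (σ x)) = eB (π (eB.symm (eB (f x))))
      rw [eB.symm_apply_apply]
      rcases x with ⟨⟨i, u⟩, t⟩ | ⟨i, u⟩ <;> rfl

theorem necessary {r : ℕ} [hr : Fact r.Prime] {a b m : ℕ} (ha : 0 < a) {σ : Perm (Fin (a * b))} (hσ : σ ^ r = 1)
    (hm : nfix σ + m * r = a * b) (h : FixesPart a b σ) :
    ∃ j, j * r ≤ b ∧ j * a ≤ m ∧ m ≤ j * a + (b - j * r) * (a / r) := by
  classical
  obtain ⟨f, hf, π, hπ⟩ := h
  have hsurj : Function.Surjective f := fun i => by
    have : 0 < Nat.card {x // f x = i} := by rw [hf]; exact ha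
    obtain ⟨⟨x, hx⟩⟩ := (Nat.card_pos_iff.mp this).1
    exact ⟨x, hx⟩
  have hπk : ∀ k : ℕ, ∀ x, f ((σ ^ k) x) = (π ^ k) (f x) := by
    intro k
    induction k with
    | zero => simp
    | succ k ih => intro x; rw [pow_succ', pow_succ', Perm.mul_apply, Perm.mul_apply, hπ, ih]
  have hπr : π ^ r = 1 := by
    refine Equiv.ext fun i => ?_
    obtain ⟨x, rfl⟩ := hsurj i
    rw [← hπk, hσ]
    rfl
  obtain ⟨j, -, hj⟩ := cycleType_eq (r := r) hπr
  rw [Fintype.card_fin] at hj
  have hfixeq : nfix σ = ∑ i : {i // π i = i}, Nat.card {x : {x // f x = i.1} // σ x.1 = x.1} := by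
    rw [← Nat.card_sigma]
    exact Nat.card_congr
      { toFun := fun x => ⟨⟨f x.1, by rw [← hπ, x.2]⟩, ⟨x.1, rfl⟩, x.2⟩
        invFun := fun y => ⟨y.2.1.1, y.2.2⟩
        left_inv := fun _ => rfl
        right_inv := fun y => by rcases y with ⟨⟨i, hi⟩, ⟨⟨x, hx⟩, hx'⟩⟩; cases hx; rfl }
  have hblock : ∀ i : {i // π i = i}, a % r ≤ Nat.card {x : {x // f x = i.1} // σ x.1 = x.1} ∧
      Nat.card {x : {x // f x = i.1} // σ x.1 = x.1} ≤ a := by
    intro i
    have hinv : ∀ x, f (σ x) = i.1 ↔ f x = i.1 := fun x => by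
      rw [hπ]
      refine ⟨fun h => π.injective (h.trans i.2.symm), fun h => by rw [h, i.2]⟩
    have hp : σ.subtypePerm (p := fun x => f x = i.1) hinv ^ r = 1 := by
      rw [Perm.subtypePerm_pow]
      ext x
      simp [hσ]
    have := nfix_mod hp
    rw [hf] at this
    have he : nfix (σ.subtypePerm (p := fun x => f x = i.1) hinv) = Nat.card {x : {x // f x = i.1} // σ x.1 = x.1} :=
      Nat.card_congr (Equiv.subtypeEquivRight fun x => by simp [Subtype.ext_iff])
    rw [he] at this
    exact ⟨this.1 ▸ Nat.mod_le _ _, this.2⟩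
  have hlo : nfix π * (a % r) ≤ nfix σ := by
    rw [hfixeq]
    refine le_trans ?_ (Finset.sum_le_sum fun i _ => (hblock i).1)
    rw [Finset.sum_const, smul_eq_mul, nfix, Nat.card_eq_fintype_card]
    rfl
  have hhi : nfix σ ≤ nfix π * a := by
    rw [hfixeq]
    refine le_trans (Finset.sum_le_sum fun i _ => (hblock i).2) ?_
    rw [Finset.sum_const, smul_eq_mul, nfix, Nat.card_eq_fintype_card]
    rfl
  refine ⟨j, by omega, ?_, ?_⟩
  · refine Nat.le_of_mul_le_mul_right ?_ hr.out.pos
    have e1 : a * b = j * a * r + nfix π * a := by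
      calc a * b = a * (j * r + nfix π) := congrArg (a * ·) hj.symm
        _ = _ := by ring
    omega
  · refine Nat.le_of_mul_le_mul_right ?_ hr.out.pos
    have e1 : a * b = j * a * r + nfix π * a := by
      calc a * b = a * (j * r + nfix π) := congrArg (a * ·) hj.symm
        _ = _ := by ring
    have e2 : nfix π * a = nfix π * (a / r) * r + nfix π * (a % r) := by
      rw [mul_assoc, ← Nat.mul_add, Nat.div_add_mod']
    have e3 : b - j * r = nfix π := by omega
    rw [e3, add_mul]
    omega

/-- All cycle numbers occur. -/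
theorem arith (a b r : ℕ) (ha : 2 ≤ a) (hb : 2 ≤ b) (hr : r.Prime) :
    (∀ m, 1 ≤ m → m * r ≤ a * b → ∃ j, j * r ≤ b ∧ j * a ≤ m ∧ m ≤ j * a + (b - j * r) * (a / r)) ↔
      r * 1 ≤ a * b → (r ≤ a ∧ (a % r = 0 ∨ (b % r = 0 ∧ a % r = 1) ∨
        (a % r ≠ 0 ∧ b % r ≠ 0 ∧ (b % r) * (a % r) < r ∧ (b < r ∨ (b % r + r) * (a % r) ≤ (b % r) * a + r)))) := by
  have hr0 := hr.pos
  set A := a / r with hA
  set l := a % r with hl
  set B := b / r with hB
  set k := b % r with hk
  have hlr : l < r := Nat.mod_lt _ hr0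
  have hkr : k < r := Nat.mod_lt _ hr0
  have ea : a = A * r + l := (Nat.div_add_mod' a r).symm
  have eb : b = B * r + k := (Nat.div_add_mod' b r).symm
  have hR : ∀ j, j ≤ B → j * a + (b - j * r) * A = b * A + j * l := by
    intro j hj
    have h1 : j * r ≤ b := by rw [eb]; nlinarith
    obtain ⟨s, hs⟩ := Nat.exists_eq_add_of_le h1
    rw [hs, Nat.add_sub_cancel_left, ea]
    ring
  have hjB : ∀ j, j * r ≤ b ↔ j ≤ B := fun j => by rw [hB, Nat.le_div_iff_mul_le hr0]
  constructor
  · intro h hrab
    have hra : r ≤ a := by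
      by_contra hc
      obtain ⟨j, -, hj1, hj2⟩ := h 1 le_rfl (by rw [mul_one] at hrab; omega)
      have hA0 : a / r = 0 := Nat.div_eq_of_lt (by omega)
      rw [hA, hA0] at hj2
      rcases Nat.eq_zero_or_pos j with rfl | hj
      · simp at hj2
      · nlinarith
    refine ⟨hra, ?_⟩
    have hA1 : 1 ≤ A := (Nat.one_le_div_iff hr0).mpr hra
    by_cases hl0 : l = 0
    · exact Or.inl hl0
    have hkl : k * l < r := by
      by_contra hc
      have hm : (b * A + B * l + 1) * r ≤ a * b := by
        rw [ea, eb]; nlinarith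
      obtain ⟨j, hjr, -, hj2⟩ := h _ (by omega) hm
      rw [hR j ((hjB j).mp hjr)] at hj2
      have := Nat.mul_le_mul_right l ((hjB j).mp hjr)
      omega
    have hgap : B = 0 ∨ l ≤ k * A + 1 := by
      rcases Nat.eq_zero_or_pos B with h0 | h0
      · exact Or.inl h0
      right
      by_contra hc
      obtain ⟨B', hB'⟩ := Nat.exists_eq_succ_of_ne_zero h0.ne'
      have hlt : b * A + B' * l + 1 < B * a := by
        rw [ea, eb, hB']; simp only [Nat.succ_eq_add_one]; nlinarith
      have hm : (b * A + B' * l + 1) * r ≤ a * b := by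
        have : (b * A + B' * l + 1) * r ≤ B * a * r := Nat.mul_le_mul_right r hlt.le
        refine this.trans ?_
        rw [eb]; nlinarith
      obtain ⟨j, hjr, hj1, hj2⟩ := h _ (by omega) hm
      rw [hR j ((hjB j).mp hjr)] at hj2
      have hjB' := (hjB j).mp hjr
      rcases (show j = B ∨ j ≤ B' by omega) with rfl | hj
      · omega
      · have := Nat.mul_le_mul_right l hj
        omega
    by_cases hk0 : k = 0
    · refine Or.inr (Or.inl ⟨hk0, ?_⟩)
      rcases hgap with h0 | h0
      · rw [h0, hk0] at eb; omega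
      · rw [hk0] at h0; omega
    · refine Or.inr (Or.inr ⟨hl0, hk0, hkl, ?_⟩)
      rcases hgap with h0 | h0
      · left; rw [h0] at eb; omega
      · right
        have := Nat.mul_le_mul_right r h0
        rw [ea]; nlinarith
  · intro h m hm1 hm2
    obtain ⟨hra, hcond⟩ := h (by nlinarith)
    have hA1 : 1 ≤ A := (Nat.one_le_div_iff hr0).mpr hra
    have hkl : k * l < r := by
      rcases hcond with h | ⟨h, h'⟩ | ⟨-, -, h, -⟩
      · rw [h]; simpa using hr0
      · rw [h]; simpa using hr0
      · exact h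
    have hgap : B = 0 ∨ l ≤ k * A + 1 := by
      rcases hcond with h | ⟨h, h'⟩ | ⟨-, -, -, h | h⟩
      · right; omega
      · right; omega
      · left; exact Nat.div_eq_of_lt h
      · right
        refine Nat.le_of_mul_le_mul_right ?_ hr0
        rw [ea] at h; nlinarith
    have hmax : m ≤ b * A + B * l := by
      by_contra hc
      have h1 : (b * A + B * l + 1) * r ≤ m * r := Nat.mul_le_mul_right r (by omega)
      have h2 := h1.trans hm2
      have : a * b = (b * A + B * l) * r + k * l := by
        rw [ea, eb]; ring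
      rw [add_one_mul] at h2
      omega
    -- the first interval reaching `m`
    have hex : ∃ j, j ≤ B ∧ m ≤ b * A + j * l := ⟨B, le_rfl, hmax⟩
    let j := Nat.find hex
    obtain ⟨hjB', hjm⟩ := Nat.find_spec hex
    refine ⟨j, (hjB j).mpr hjB', ?_, by rw [hR j hjB']; exact hjm⟩
    rcases Nat.eq_zero_or_pos j with h0 | h0
    · rw [h0]; omega
    obtain ⟨j', hj'⟩ := Nat.exists_eq_succ_of_ne_zero h0.ne'
    have hnot := Nat.find_min hex (show j' < j by omega)
    have hm' : b * A + j' * l + 1 ≤ m := by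
      by_contra hc
      exact hnot ⟨by omega, by omega⟩
    rcases hgap with hB0 | hg
    · omega
    have hjB2 : j' + 1 ≤ B := by
      show j' + 1 ≤ B
      have := hjB'
      change j ≤ B at this
      omega
    obtain ⟨d, hd⟩ := Nat.exists_eq_add_of_le hjB2
    refine le_trans ?_ hm'
    rw [hj', ea, eb, hd]
    simp only [Nat.succ_eq_add_one]
    nlinarith [Nat.zero_le (d * r * A)]

/-- Let a, b ≥ 2 and consider the symmetric group of degree a·b acting on the partitions of an (a·b)-set into b parts of size a (encoded as maps onto a b-element set all of whose fibres have a elements; a permutation fixes such a partition when it permutes the fibres). Let r be a prime dividing the number (ab)!/((a!)^b·b!) of such partitions, and let ℓ and k be the remainders of a and b modulo r. Then every permutation of order r fixes some such partition if and only if r ≤ a and one of the following holds: ℓ = 0; or k = 0 and ℓ = 1; or ℓ and k are non-zero, k·ℓ < r, and either b < r or (k + r)·ℓ ≤ k·a + r. -/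
theorem result (a b : ℕ) (ha : 2 ≤ a) (hb : 2 ≤ b) (r : ℕ) (hr : r.Prime)
    (hrd : r ∣ (a * b).factorial / (a.factorial ^ b * b.factorial)) :
    (∀ σ : Equiv.Perm (Fin (a * b)), orderOf σ = r →
        ∃ f : Fin (a * b) → Fin b, (∀ j : Fin b, Nat.card {x : Fin (a * b) // f x = j} = a) ∧
          ∃ π : Equiv.Perm (Fin b), ∀ x : Fin (a * b), f (σ x) = π (f x)) ↔
      (r ≤ a ∧ (a % r = 0 ∨ (b % r = 0 ∧ a % r = 1) ∨
        (a % r ≠ 0 ∧ b % r ≠ 0 ∧ (b % r) * (a % r) < r ∧ (b < r ∨ (b % r + r) * (a % r) ≤ (b % r) * a + r)))) := by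
  haveI := Fact.mk hr
  have hdvd : r ∣ (a * b).factorial := by
    have h1 : 2 ≤ (a * b).factorial := le_trans (by norm_num) (Nat.factorial_le (show 2 ≤ a * b by nlinarith))
    have : a.factorial ^ b * b.factorial ∣ (a * b).factorial := by
      have h2 : ∀ c : ℕ, a.factorial ^ c * c.factorial ∣ (a * c).factorial := by
        intro c
        induction c with
        | zero => simp
        | succ c ih =>
          obtain ⟨q, hq⟩ : a.factorial ^ c * c.factorial * (a.factorial * (c + 1)) ∣
              (a * c).factorial * (a.factorial * (c + 1)) := Nat.mul_dvd_mul_right ih _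
          have hkey : (a * c).factorial * (a.factorial * (c + 1)) ∣ (a * (c + 1)).factorial := by
            obtain ⟨a', rfl⟩ : ∃ a', a = a' + 1 := ⟨a - 1, by omega⟩
            have e1 : ((a' + 1) * (c + 1)).factorial =
                ((a' + 1) * (c + 1)) * ((a' + 1) * c + a').factorial := by
              rw [show (a' + 1) * (c + 1) = ((a' + 1) * c + a') + 1 by ring, Nat.factorial_succ]
            rw [e1, Nat.factorial_succ a',
              show ((a' + 1) * c).factorial * ((a' + 1) * a'.factorial * (c + 1)) =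
                (a' + 1) * (c + 1) * (((a' + 1) * c).factorial * a'.factorial) by ring]
            exact Nat.mul_dvd_mul_left _ (Nat.factorial_mul_factorial_dvd_factorial_add _ _)
          refine dvd_trans (dvd_trans (dvd_of_eq ?_) ⟨q, hq⟩) hkey
          rw [pow_succ, Nat.factorial_succ]; ring
      exact h2 b
    exact hrd.trans (Nat.div_dvd_of_dvd this)
  have hrab : r * 1 ≤ a * b := by rw [mul_one]; exact (Nat.Prime.dvd_factorial hr).mp hdvd
  refine Iff.trans ?_ ((arith a b r ha hb hr).trans ⟨fun h => h hrab, fun h _ => h⟩)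
  constructor
  · intro h m hm1 hm2
    obtain ⟨σ, hσ, hfix⟩ := exists_cycles (r := r) (a * b) m hm2
    have hne : σ ≠ 1 := by
      rintro rfl
      have : nfix (1 : Perm (Fin (a * b))) = a * b := by
        rw [nfix, Nat.card_congr (Equiv.subtypeUnivEquiv (p := fun x : Fin (a * b) => (1 : Perm (Fin (a * b))) x = x) fun x => rfl), Nat.card_fin]
      have := Nat.mul_pos hm1 hr.pos
      omega
    exact necessary (by omega) hσ (by omega) (h σ (orderOf_eq_prime hσ hne))
  · intro h σ hσ
    have hpow : σ ^ r = 1 := hσ ▸ pow_orderOf_eq_one σ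
    obtain ⟨m, hm, hfix⟩ := cycleType_eq hpow
    rw [Fintype.card_fin] at hfix
    have hm1 : 1 ≤ m := by
      by_contra hc
      rw [show m = 0 by omega, Multiset.replicate_zero, Perm.cycleType_eq_zero] at hm
      rw [hm, orderOf_one] at hσ
      exact hr.ne_one hσ.symm
    obtain ⟨j, hj, h1, h2⟩ := h m hm1 (by omega)
    obtain ⟨τ, hτ, hτf, hτP⟩ := construct a b j m hj h1 h2
    exact hτP.conj (isConj_of hτ hpow (by omega))

end Cfsg.Agent.S3575
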