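import Cfsg.Statements.S3580
import Cfsg.Agent.Lib.SylowFixed

set_option autoImplicit false
open Cfsg

namespace Cfsg.Agent.S3580

/-- Let G act faithfully and transitively on a finite set Ω, let p be an odd prime dividing the order of G and P a Sylow p-subgroup of G. Then the number of orbits of P on Ω is at most (p/(2p − 1))·(number of points). -/
theorem result {G Ω : Type*} [Group G] [Finite G] [MulAction G Ω] [FaithfulSMul G Ω] [Finite Ω]
    (htrans : MulAction.IsPretransitive G Ω) (p : ℕ) [Fact p.Prime] (hp2 : p ≠ 2) (hpG : p ∣ Nat.card G)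
    (P : Sylow p G) :
    (2 * p - 1) * Nat.card (MulAction.orbitRel.Quotient ↥(P : Subgroup G) Ω) ≤ p * Nat.card Ω := by
  classical
  have := Fintype.ofFinite Ω
  have hp := (Fact.out : p.Prime).two_le
  set Pg := (P : Subgroup G)
  have hnt : ∃ g ∈ Pg, ∃ a : Ω, g • a ≠ a := by
    by_contra hc
    push Not at hc
    have hbot : Pg = ⊥ := by
      rw [Subgroup.eq_bot_iff_forall]
      exact fun g hg => FaithfulSMul.eq_of_smul_eq_smul fun a => by rw [hc g hg a, one_smul]
    exact P.not_dvd_index (by rw [show (P : Subgroup G) = ⊥ from hbot, Subgroup.index_bot]; exact hpG)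
  have hf := SylowFixed.card_fixed_le htrans P hnt
  set f := Nat.card (MulAction.fixedPoints Pg Ω) with hfdef
  set N := Nat.card (MulAction.orbitRel.Quotient Pg Ω) with hNdef
  have key : p * N ≤ Nat.card Ω + (p - 1) * f := by
    let π : Ω → MulAction.orbitRel.Quotient Pg Ω := fun a => Quotient.mk _ a
    have hsum : Fintype.card Ω = ∑ q, ((Finset.univ : Finset Ω).filter fun a => π a = q).card :=
      Finset.card_eq_sum_card_fiberwise fun a _ => Finset.mem_univ _
    have hterm : ∀ q, p ≤ ((Finset.univ : Finset Ω).filter fun a => π a = q).card +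
        (p - 1) * ((Finset.univ : Finset Ω).filter fun a => π a = q ∧ a ∈ MulAction.fixedPoints Pg Ω).card := by
      intro q
      induction q using Quotient.inductionOn with
      | _ a =>
        have hcard : ((Finset.univ : Finset Ω).filter fun b => π b = π a).card =
            Nat.card (MulAction.orbit Pg a) := by
          rw [← Nat.card_eq_finsetCard]
          exact Nat.card_congr (Equiv.subtypeEquivRight fun b => by
            simp only [π, Finset.mem_filter, Finset.mem_univ, true_and, Quotient.eq]
            rfl)
        obtain ⟨n, hn⟩ := P.2.card_orbit (α := Ω) a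
        rw [show Quotient.mk _ a = π a from rfl, hcard, hn]
        cases n with
        | succ n =>
          exact le_add_right (Nat.le_self_pow (Nat.succ_ne_zero n) p)
        | zero =>
          have hfix : a ∈ MulAction.fixedPoints Pg Ω := by
            rw [MulAction.mem_fixedPoints]
            intro g
            rw [pow_zero, Nat.card_coe_set_eq, Set.ncard_eq_one] at hn
            obtain ⟨c, hc⟩ := hn
            have h1 : g • a ∈ MulAction.orbit Pg a := MulAction.mem_orbit a g
            have h2 : a ∈ MulAction.orbit Pg a := MulAction.mem_orbit_self a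
            rw [hc, Set.mem_singleton_iff] at h1 h2
            exact h1.trans h2.symm
          have : 1 ≤ ((Finset.univ : Finset Ω).filter fun b => π b = π a ∧ b ∈ MulAction.fixedPoints Pg Ω).card :=
            Finset.card_pos.2 ⟨a, Finset.mem_filter.2 ⟨Finset.mem_univ _, rfl, hfix⟩⟩
          have := Nat.mul_le_mul_left (p - 1) this
          rw [pow_zero]
          omega
    have h1 := Finset.sum_le_sum (s := (Finset.univ : Finset (MulAction.orbitRel.Quotient Pg Ω)))
      fun q _ => hterm q
    rw [Finset.sum_const, Finset.card_univ, smul_eq_mul, Finset.sum_add_distrib, ← hsum,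
      ← Finset.mul_sum, ← Nat.card_eq_fintype_card, ← Nat.card_eq_fintype_card] at h1
    have h2 : (∑ q, ((Finset.univ : Finset Ω).filter fun a => π a = q ∧ a ∈ MulAction.fixedPoints Pg Ω).card) = f := by
      have h3 : f = ((Finset.univ : Finset Ω).filter fun a => a ∈ MulAction.fixedPoints Pg Ω).card := by
        rw [hfdef, ← Nat.card_eq_finsetCard]
        exact Nat.card_congr (Equiv.subtypeEquivRight fun a => by simp)
      rw [h3, Finset.card_eq_sum_card_fiberwise (f := π)
        (s := (Finset.univ : Finset Ω).filter fun a => a ∈ MulAction.fixedPoints Pg Ω)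
        (t := Finset.univ) fun a _ => Finset.mem_univ _]
      refine Finset.sum_congr rfl fun q _ => congrArg Finset.card ?_
      rw [Finset.filter_filter]
      exact Finset.filter_congr fun a _ => and_comm
    rw [h2] at h1
    rw [hNdef]
    linarith
  have h1 : (2 * p - 1) * (p * N) ≤ (2 * p - 1) * Nat.card Ω + (p - 1) * ((p - 1) * Nat.card Ω) := by
    calc (2 * p - 1) * (p * N) ≤ (2 * p - 1) * (Nat.card Ω + (p - 1) * f) := Nat.mul_le_mul_left _ key
      _ = (2 * p - 1) * Nat.card Ω + (p - 1) * ((2 * p - 1) * f) := by ring
      _ ≤ _ := Nat.add_le_add_left (Nat.mul_le_mul_left _ hf) _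
  have e : (2 * p - 1) + (p - 1) * (p - 1) = p * p := by
    zify [show 1 ≤ p by omega, show 1 ≤ 2 * p by omega]; ring
  have h2 : p * ((2 * p - 1) * N) ≤ p * (p * Nat.card Ω) := by
    calc p * ((2 * p - 1) * N) = (2 * p - 1) * (p * N) := by ring
      _ ≤ _ := h1
      _ = (p * p) * Nat.card Ω := by rw [← e]; ring
      _ = _ := by ring
  exact Nat.le_of_mul_le_mul_left h2 (by omega)

end Cfsg.Agent.S3580
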