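import Cfsg.Statements.S3589
import Mathlib
import Cfsg.Agent.Lib.SpEightBound
import Cfsg.Agent.Lib.OrthCharTwoModels
import Cfsg.Agent.Lib.SymplecticSimple
import Cfsg.Agent.Lib.FormCongruence
-- import your own Cfsg.Agent.* helpers here

set_option autoImplicit false
open Cfsg

namespace Cfsg.Agent.S3589

open QuadraticMap Module
open scoped Matrix
open Cfsg.Agent.OrthCharTwoModels Cfsg.Agent.SpEightBound
open Cfsg.Agent.OrthUnitaryQuad (orth map_orth polar_orth)

variable {F : Type*} [Field F] [Fintype F] [CharP F 2]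

/-- The twelve maximal orders are realised on spaces of sign minus. -/
theorem piece_spec {p : ℕ × ℕ} (hp : p ∈ specList (Fintype.card F)) :
    Piece F 4 (-1) (2 ^ p.1 * p.2) ∧ 2 ^ p.1 * p.2 ≠ 0 := by
  set q := Fintype.card F with hq
  obtain ⟨k, -, hk⟩ := FiniteField.card F 2
  have hq2 : 2 ≤ q := Fintype.one_lt_card
  have heven : Even q := by
    rw [hq, hk]; exact (Nat.even_pow).2 ⟨even_two, k.ne_zero⟩
  obtain ⟨p2, m2, p4, p8, m8⟩ := pieces_basic (F := F)
  have P : ∀ m, m ≠ 0 → ∀ d, d = q ^ m - 1 → Piece F m 1 d :=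
    fun m hm d hd => (plus_model F m hm).1 d (hd ▸ dvd_rfl)
  have M : ∀ m, m ≠ 0 → ∀ d, d = q ^ m + 1 → Piece F m (-1) d :=
    fun m hm d hd => (minus_model F m hm).1 d (hd ▸ dvd_rfl)
  have P1 := P 1 one_ne_zero (q - 1) (by rw [pow_one])
  have M1 := M 1 one_ne_zero (q + 1) (by rw [pow_one])
  have hm1 : Odd (q - 1) := Nat.Even.sub_odd (by omega) heven odd_one
  have hp1 : Odd (q + 1) := heven.add_one
  have he2 : Even (q ^ 2) := Nat.even_pow.2 ⟨heven, two_ne_zero⟩
  have he3 : Even (q ^ 3) := Nat.even_pow.2 ⟨heven, by norm_num⟩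
  have h22 : 1 ≤ q ^ 2 := Nat.one_le_pow _ _ (by omega)
  have h33 : 1 ≤ q ^ 3 := Nat.one_le_pow _ _ (by omega)
  have c2 : ∀ {n : ℕ}, Odd n → ∀ e, Nat.Coprime (2 ^ e) n := fun hn e =>
    (Nat.coprime_two_left.2 hn).pow_left e
  have d2 : ∀ {n : ℕ}, Odd n → Nat.Coprime 2 n := fun hn => c2 hn 1
  have d4 : ∀ {n : ℕ}, Odd n → Nat.Coprime 4 n := fun hn => c2 hn 2
  have d8 : ∀ {n : ℕ}, Odd n → Nat.Coprime 8 n := fun hn => c2 hn 3
  have cop : ∀ {a b : ℕ}, (a + 2 = b ∨ a = b + 2) → Odd a → Nat.Coprime a b := by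
    intro a b h ha
    rcases h with rfl | rfl
    · rw [Nat.coprime_self_add_right]; exact Nat.coprime_two_right.2 ha
    · rw [Nat.coprime_self_add_left]
      exact Nat.coprime_two_left.2 ((Nat.odd_add.1 ha).2 even_two)
  have hcop2 : Nat.Coprime (q ^ 2 + 1) (q ^ 2 - 1) := cop (Or.inr (by omega)) he2.add_one
  have e21 : q ^ 2 - 1 = (q + 1) * (q - 1) := by simpa using Nat.sq_sub_sq q 1
  have hc2m : Nat.Coprime (q ^ 2 + 1) (q - 1) := hcop2.coprime_dvd_right (e21 ▸ dvd_mul_left _ _)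
  have hc2p : Nat.Coprime (q ^ 2 + 1) (q + 1) := hcop2.coprime_dvd_right (e21 ▸ dvd_mul_right _ _)
  have hc11 : Nat.Coprime (q + 1) (q - 1) := cop (Or.inr (by omega)) hp1
  have hc3m : Nat.Coprime (q ^ 3 + 1) (q - 1) := by
    have hd : q - 1 ∣ q ^ 3 - 1 := by simpa using Nat.sub_dvd_pow_sub_pow q 1 3
    exact (cop (Or.inr (by omega)) he3.add_one).coprime_dvd_right hd
  have hc3p : Nat.Coprime (q ^ 3 - 1) (q + 1) := by
    have hd : q + 1 ∣ q ^ 3 + 1 := by simpa using Odd.nat_add_dvd_pow_add_pow q 1 (by decide : Odd 3)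
    exact (cop (Or.inl (by omega)) (Nat.Even.sub_odd h33 he3 odd_one)).coprime_dvd_right hd
  have o2p : Odd (q ^ 2 + 1) := he2.add_one
  have o2m : Odd (q ^ 2 - 1) := Nat.Even.sub_odd h22 he2 odd_one
  have o3p : Odd (q ^ 3 + 1) := he3.add_one
  have o3m : Odd (q ^ 3 - 1) := Nat.Even.sub_odd h33 he3 odd_one
  simp only [specList, List.mem_cons, List.not_mem_nil, or_false] at hp
  rcases hp with rfl | rfl | rfl | rfl | rfl | rfl | rfl | rfl | rfl | rfl | rfl | rfl <;>
    dsimp only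
  · exact ⟨by simpa using M 4 (by norm_num) _ rfl, by simp⟩
  · refine ⟨?_, by have := Nat.one_lt_pow (show 4 ≠ 0 by norm_num) hq2; simp; omega⟩
    have h := (M 2 two_ne_zero _ rfl).mul (P 2 two_ne_zero _ rfl)
    rw [hcop2.lcm_eq_mul, mul_one] at h
    rw [pow_zero, one_mul, show q ^ 4 - 1 = (q ^ 2 + 1) * (q ^ 2 - 1) by
      rw [show q ^ 4 = (q ^ 2) ^ 2 by ring]; simpa using Nat.sq_sub_sq (q ^ 2) 1]
    exact h
  · have h := (M 3 (by norm_num) _ rfl).mul P1
    rw [hc3m.lcm_eq_mul, mul_one] at h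
    exact ⟨by simpa using h, by simp [hm1.pos.ne']⟩
  · have h := (P 3 (by norm_num) _ rfl).mul M1
    rw [hc3p.lcm_eq_mul, one_mul] at h
    exact ⟨by simpa using h, by simp [o3m.pos.ne']⟩
  · have h := p2.mul (M 3 (by norm_num) _ rfl)
    rw [(d2 o3p).lcm_eq_mul, one_mul] at h
    exact ⟨h, by simp⟩
  · have h := m2.mul (P 3 (by norm_num) _ rfl)
    rw [(d2 o3m).lcm_eq_mul, mul_one] at h
    exact ⟨h, by simp [o3m.pos.ne']⟩
  · have h := p2.mul ((M 2 two_ne_zero _ rfl).mul P1)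
    rw [hc2m.lcm_eq_mul, (d2 (o2p.mul hm1)).lcm_eq_mul] at h
    exact ⟨by simpa using h, by simp [hm1.pos.ne']⟩
  · have h := m2.mul ((M 2 two_ne_zero _ rfl).mul M1)
    rw [hc2p.lcm_eq_mul, (d2 (o2p.mul hp1)).lcm_eq_mul] at h
    exact ⟨by simpa using h, by simp⟩
  · have h := p4.mul (M 2 two_ne_zero _ rfl)
    rw [(d4 o2p).lcm_eq_mul, one_mul] at h
    exact ⟨h, by simp⟩
  · have h := p4.mul (M1.mul P1)
    rw [hc11.lcm_eq_mul, ← e21, (d4 o2m).lcm_eq_mul] at h
    exact ⟨by simpa using h, by simp [o2m.pos.ne']⟩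
  · have h := m8.mul P1
    rw [(d8 hm1).lcm_eq_mul, mul_one] at h
    exact ⟨h, by simp [hm1.pos.ne']⟩
  · have h := p8.mul M1
    rw [(d8 hp1).lcm_eq_mul, one_mul] at h
    exact ⟨h, by simp⟩

theorem toMatrix_bilin {ι : Type} [Fintype ι] [DecidableEq ι] (Q : QuadraticForm F (ι → F)) (u v : ι → F) :
    u ⬝ᵥ (LinearMap.toMatrix₂' F (polarBilin Q) *ᵥ v) = polar Q u v := by
  rw [← Matrix.toLinearMap₂'_apply', Matrix.toLinearMap₂'_toMatrix']
  rfl

theorem polarMatrix_unit {ι : Type} [Fintype ι] [DecidableEq ι] (Q : QuadraticForm F (ι → F))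
    (hnd : (polarBilin Q).Nondegenerate) : (LinearMap.toMatrix₂' F (polarBilin Q)).det ≠ 0 := by
  intro h
  obtain ⟨v, hv, hv'⟩ := Matrix.exists_mulVec_eq_zero_iff.2 h
  exact hv (hnd.2 v fun u => by
    rw [polarBilin_apply_apply, ← toMatrix_bilin, hv', dotProduct_zero])

theorem polarMatrix_invariant {ι : Type} [Fintype ι] [DecidableEq ι] (Q : QuadraticForm F (ι → F)) (g : orth Q) :
    (LinearMap.toMatrix' g.1.toLinearMap)ᵀ * LinearMap.toMatrix₂' F (polarBilin Q) *
      LinearMap.toMatrix' g.1.toLinearMap = LinearMap.toMatrix₂' F (polarBilin Q) := by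
  rw [← LinearMap.toMatrix₂'_compl₁₂]
  congr 1
  exact LinearMap.ext₂ fun u v => polar_orth g u v

/-- Orders in the orthogonal group divide a maximal order. -/
theorem orth_bound {ι : Type} [Fintype ι] [DecidableEq ι] (h8 : Fintype.card ι = 8)
    (Q : QuadraticForm F (ι → F)) (hnd : (polarBilin Q).Nondegenerate) (g : orth Q) :
    ∃ p ∈ specList (Fintype.card F), orderOf g ∣ 2 ^ p.1 * p.2 := by
  obtain ⟨p, hp, hM⟩ := order_bound h8 _ _
    ((Matrix.isUnit_iff_isUnit_det _).2 (isUnit_iff_ne_zero.2 (polarMatrix_unit Q hnd)))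
    (polarMatrix_invariant Q g)
  rw [Nat.card_eq_fintype_card] at hp
  refine ⟨p, hp, orderOf_dvd_of_pow_eq_one (Subtype.ext (LinearEquiv.toLinearMap_injective ?_))⟩
  apply LinearMap.toMatrix'.injective
  have e : ∀ n : ℕ, LinearMap.toMatrix' (g ^ n).1.toLinearMap = LinearMap.toMatrix' g.1.toLinearMap ^ n := by
    intro n
    induction n with
    | zero => exact LinearMap.toMatrix'_id
    | succ n ih =>
      rw [pow_succ, pow_succ, ← ih, ← LinearMap.toMatrix'_comp]
      rfl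
  rw [e, hM]
  exact LinearMap.toMatrix'_id.symm

/-- Isometries of an eight-dimensional quadratic space give symplectic matrices of the same order. -/
theorem exists_sp_element (Q : QuadraticForm F (Fin (2 * 4) → F)) (hnd : (polarBilin Q).Nondegenerate)
    (g : orth Q) : ∃ X : Matrix.symplecticGroup (Fin 4) F, orderOf X = orderOf g := by
  obtain ⟨m, hm, T, T', h1, h2, hA⟩ := FormCongruence.classify_alt
    (A := LinearMap.toMatrix₂' F (polarBilin Q))
    (fun v => by rw [toMatrix_bilin, polar_self, two_nsmul, CharTwo.add_self_eq_zero]) (polarMatrix_unit Q hnd)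
  obtain rfl : m = 4 := by omega
  have hT : T'ᵀ * LinearMap.toMatrix₂' F (polarBilin Q) * T' = Matrix.J (Fin 4) F := by
    rw [hA]
    have : T'ᵀ * Tᵀ = 1 := by rw [← Matrix.transpose_mul, h1, Matrix.transpose_one]
    calc T'ᵀ * (Tᵀ * Matrix.J (Fin 4) F * T) * T' = (T'ᵀ * Tᵀ) * Matrix.J (Fin 4) F * (T * T') := by
          simp only [Matrix.mul_assoc]
      _ = _ := by rw [this, h1, Matrix.one_mul, Matrix.mul_one]
  let f : orth Q →* Matrix.symplecticGroup (Fin 4) F :=
    { toFun := fun k => ⟨T * LinearMap.toMatrix' k.1.toLinearMap * T', by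
        rw [SymplecticGroup.mem_iff', Matrix.transpose_mul, Matrix.transpose_mul]
        calc _ = T'ᵀ * ((LinearMap.toMatrix' k.1.toLinearMap)ᵀ * (Tᵀ * Matrix.J (Fin 4) F * T) *
              LinearMap.toMatrix' k.1.toLinearMap) * T' := by simp only [Matrix.mul_assoc]
          _ = _ := by rw [← hA, polarMatrix_invariant, hT]⟩
      map_one' := Subtype.ext (by
        show T * LinearMap.toMatrix' (LinearMap.id) * T' = 1
        rw [LinearMap.toMatrix'_id, Matrix.mul_one, h1])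
      map_mul' := fun a b => Subtype.ext (by
        show T * LinearMap.toMatrix' (a.1.toLinearMap ∘ₗ b.1.toLinearMap) * T' =
          (T * LinearMap.toMatrix' a.1.toLinearMap * T') * (T * LinearMap.toMatrix' b.1.toLinearMap * T')
        rw [LinearMap.toMatrix'_comp]
        simp only [Matrix.mul_assoc]
        rw [← Matrix.mul_assoc T' T, h2, Matrix.one_mul]) }
  have hinj : Function.Injective f := fun a b h => by
    have h' : T * LinearMap.toMatrix' a.1.toLinearMap * T' =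
        T * LinearMap.toMatrix' b.1.toLinearMap * T' := congrArg Subtype.val h
    have h'' := congrArg (fun Z => T' * Z * T) h'
    simp only [Matrix.mul_assoc, h2, Matrix.mul_one] at h''
    simp only [← Matrix.mul_assoc, h2, Matrix.one_mul] at h''
    exact Subtype.ext (LinearEquiv.toLinearMap_injective (LinearMap.toMatrix'.injective h''))
  exact ⟨f g, orderOf_injective f hinj g⟩

theorem center_bot : Subgroup.center (Matrix.symplecticGroup (Fin 4) F) = ⊥ := by
  rw [eq_bot_iff]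
  intro g hg
  obtain ⟨a, ha, hga⟩ := (SymplecticSimple.mem_center_iff (by norm_num)).1 hg
  have ha1 : a = 1 := by
    have : (a - 1) ^ 2 = 0 := by
      linear_combination ha + (1 - a) * CharTwo.two_eq_zero (R := F)
    exact sub_eq_zero.1 ((pow_eq_zero_iff two_ne_zero).1 this)
  refine Subgroup.mem_bot.2 (SymplecticBasic.ext_smul fun v => ?_)
  rw [hga, ha1, one_smul, one_smul]

/-- Let F be a finite field of characteristic 2 and let a, b ∈ F make the binary form z₁² + a z₁z₂ + b z₂² anisotropic. Then the symplectic group PSp(8,F) (= Sp(8,F)) and the full isometry group of the non-singular quadratic form x₁y₁ + x₂y₂ + x₃y₃ + (z₁² + a z₁z₂ + b z₂²) of minus type in dimension 8 have the same set of element orders. -/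
theorem result {F : Type*} [Field F] [Fintype F]
    [CharP F 2] (a b : F) (han : ∀ z₁ z₂ : F, z₁ ^ 2 + a * z₁ * z₂ + b * z₂ ^ 2 = 0 → z₁ = 0 ∧ z₂ = 0) :
    Set.range (orderOf : Cfsg.PSp 4 F → ℕ) = Set.range (orderOf : ↥(Cfsg.isometryGroup F (Cfsg.quadFormMinus 3 F a b)) → ℕ) := by
  classical
  have hQ : ∀ v, Cfsg.quadFormMinus 3 F a b v = QuadClassify.qMinus 3 F a b v := fun v =>
    (QuadClassify.qMinus_apply 3 a b v).symm
  have hmk : ∀ X : Matrix.symplecticGroup (Fin 4) F, orderOf (QuotientGroup.mk X : Cfsg.PSp 4 F) = orderOf X := fun X =>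
    orderOf_injective (QuotientGroup.mk' _) (by
      rw [← MonoidHom.ker_eq_bot_iff, QuotientGroup.ker_mk']; exact center_bot) X
  have hnd : (QuadraticMap.polarBilin (QuadClassify.qMinus 3 F a b)).Nondegenerate := by
    obtain ⟨p, hp⟩ : ∃ p, p ∈ specList (Fintype.card F) := ⟨_, List.mem_cons_self⟩
    obtain ⟨Q, hg, g, -⟩ := (piece_spec hp).1
    have hndQ := nondegenerate_of_gauss Q (k := 4) (by simp) (Or.inr (by rw [hg]; ring))
    obtain ⟨k, e, f, W, hdec, hW⟩ := QuadClassify.exists_decomp Q hndQ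
    have hdim := hdec.2.2.2.2.2.1
    rw [finrank_top, Module.finrank_fin_fun] at hdim
    rcases (show (Module.finrank F W = 0 ∧ k = 4) ∨ (Module.finrank F W = 2 ∧ k = 3) by omega) with
      ⟨-, rfl⟩ | ⟨hW2, rfl⟩
    · exfalso
      obtain ⟨σ, hσ⟩ := QuadClassify.iso_plus Q hdec.1 (by rw [Module.finrank_fin_fun])
      have := gauss_congr Q (QuadClassify.qPlus 4 F) σ (fun v => by rw [QuadClassify.qPlus_apply, hσ])
      rw [gauss_plus, hg] at this
      have h1 : (0 : ℤ) < (Fintype.card F : ℤ) ^ 4 := by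
        have := Fintype.card_pos (α := F); positivity
      linarith
    · obtain ⟨σ, hσ⟩ := QuadClassify.iso_minus Q hdec hW2 han
      have := gauss_congr Q (QuadClassify.qMinus 3 F a b) σ (fun v => by rw [QuadClassify.qMinus_apply, hσ])
      exact nondegenerate_of_gauss _ (k := 4) (by simp) (Or.inr (by rw [this, hg]; ring))
  apply Set.ext
  intro n
  constructor
  · rintro ⟨x, rfl⟩
    obtain ⟨X, rfl⟩ := QuotientGroup.mk_surjective x
    obtain ⟨p, hp, hM⟩ := order_bound (by simp) (X : Matrix (Fin 4 ⊕ Fin 4) (Fin 4 ⊕ Fin 4) F)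
      (Matrix.J (Fin 4) F) ((Matrix.isUnit_iff_isUnit_det _).2 (Matrix.isUnit_det_J _ _))
      (SymplecticGroup.mem_iff'.1 X.2)
    rw [Nat.card_eq_fintype_card] at hp
    obtain ⟨hP, hne⟩ := piece_spec hp
    have hd : orderOf X ∣ 2 ^ p.1 * p.2 :=
      orderOf_dvd_of_pow_eq_one (Subtype.ext (by rw [SubmonoidClass.coe_pow]; exact hM))
    obtain ⟨g, hg⟩ := exists_minus_element (hP.of_dvd hne hd) han
    exact ⟨g, hg.trans (hmk X).symm⟩
  · rintro ⟨g, rfl⟩
    let E := OrthUnitaryQuad.isometryGroupEquiv _ _ hQ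
    obtain ⟨p, hp, hd⟩ := orth_bound (by simp) _ hnd (E g)
    rw [E.orderOf_eq] at hd
    obtain ⟨hP, hne⟩ := piece_spec hp
    obtain ⟨Q, hg, k, hk⟩ := hP.of_dvd hne hd
    obtain ⟨X, hX⟩ := exists_sp_element Q
      (nondegenerate_of_gauss Q (k := 4) (by simp) (Or.inr (by rw [hg]; ring))) k
    exact ⟨QuotientGroup.mk X, by rw [hmk, hX, hk]⟩

end Cfsg.Agent.S3589
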