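import Cfsg.Statements.S3590
import Mathlib
import Cfsg.Agent.Lib.SpEightBound
import Cfsg.Agent.Lib.OrthCharTwoModels
import Cfsg.Agent.Lib.OrthCharTwo
import Cfsg.Agent.S3589
-- import your own Cfsg.Agent.* helpers here

set_option autoImplicit false
open Cfsg

namespace Cfsg.Agent.S3590

open QuadraticMap Module
open scoped Matrix
open Cfsg.Agent.OrthCharTwoModels Cfsg.Agent.SpEightBound
open Cfsg.Agent.OrthUnitaryQuad (orth map_orth polar_orth refl refl_apply)

universe u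
variable {F : Type u} [Field F] [Fintype F] [CharP F 2]

section General
variable {V W : Type*} [AddCommGroup V] [Module F V] [AddCommGroup W] [Module F W]

/-- `g` as an endomorphism. -/
def toEnd (Q : QuadraticForm F V) : orth Q →* Module.End F V where
  toFun g := g.1.toLinearMap
  map_one' := rfl
  map_mul' _ _ := rfl

/-- The norm vector `Σ_{i<n} g^i w`. -/
noncomputable def nsumv {Q : QuadraticForm F V} (g : orth Q) (n : ℕ) (w : V) : V :=
  ∑ i ∈ Finset.range n, (g ^ i).1 w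

theorem nsumv_periodic {Q : QuadraticForm F V} (g : orth Q) (o j : ℕ) (hg : g ^ o = 1) (w : V) :
    nsumv g (o * j) w = j • nsumv g o w := by
  induction j with
  | zero => simp [nsumv]
  | succ j ih =>
    rw [succ_nsmul, ← ih, nsumv, nsumv, nsumv, Nat.mul_succ, Finset.sum_range_add]
    congr 1
    refine Finset.sum_congr rfl fun i _ => ?_
    rw [pow_add, pow_mul, hg, one_pow, one_mul]

theorem nsumv_periodic_even {Q : QuadraticForm F V} (g : orth Q) {o j : ℕ} (hg : g ^ o = 1)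
    (hj : Even j) (w : V) : nsumv g (o * j) w = 0 := by
  obtain ⟨i, rfl⟩ := hj
  rw [nsumv_periodic g o _ hg, add_nsmul]
  exact add_self_vec (F := F) _

theorem nsumv_periodic_odd {Q : QuadraticForm F V} (g : orth Q) {o j : ℕ} (hg : g ^ o = 1)
    (hj : Odd j) (w : V) : nsumv g (o * j) w = nsumv g o w := by
  obtain ⟨i, rfl⟩ := hj
  rw [nsumv_periodic g o _ hg, add_nsmul, one_nsmul, mul_nsmul, two_nsmul, add_self_vec (F := F),
    smul_zero, zero_add]

end General

/-! ### Pieces with a doubling vector -/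

variable (F) in
/-- A piece with an isometry of order `n` whose norm map is non-zero. -/
def Dbl (k : ℕ) (ε : ℤ) (n : ℕ) : Prop :=
  ∃ Q : QuadraticForm F (Fin (2 * k) → F), gauss Q = ε * (Fintype.card F : ℤ) ^ k ∧
    ∃ (g : orth Q) (w : Fin (2 * k) → F), orderOf g = n ∧ nsumv g n w ≠ 0

theorem dbl_mk {V : Type*} [AddCommGroup V] [Module F V] [Fintype V] (Q : QuadraticForm F V) {k : ℕ}
    {ε : ℤ} (hcard : Fintype.card V = Fintype.card F ^ (2 * k))
    (hQ : gauss Q = ε * (Fintype.card F : ℤ) ^ k) (g : orth Q) (w : V)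
    (hw : nsumv g (orderOf g) w ≠ 0) : Dbl F k ε (orderOf g) := by
  have hfr : finrank F V = 2 * k := by
    have := Module.card_eq_pow_finrank (K := F) (V := V)
    rw [hcard] at this
    exact (Nat.pow_right_injective Fintype.one_lt_card this).symm
  let e : V ≃ₗ[F] (Fin (2 * k) → F) := LinearEquiv.ofFinrankEq _ _ (by rw [hfr, finrank_fin_fun])
  let Q' : QuadraticForm F (Fin (2 * k) → F) := Q.comp e.symm.toLinearMap
  have he : ∀ v, Q' (e v) = Q v := fun v => by simp [Q']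
  let ε' := OrthUnitaryQuad.orthCongr (Q := Q) (Q' := Q') e he
  refine ⟨Q', by rw [gauss_congr Q Q' e he, hQ], ε' g, e w, ε'.orderOf_eq g, ?_⟩
  have : ∀ i, (ε' g ^ i).1 (e w) = e ((g ^ i).1 w) := fun i => by
    rw [← map_pow]
    show e ((g ^ i).1 (e.symm (e w))) = _
    rw [e.symm_apply_apply]
  simp only [nsumv, this, ← map_sum]
  rw [ne_eq, LinearEquiv.map_eq_zero_iff]
  exact hw

theorem Dbl.piece {k : ℕ} {ε : ℤ} {n : ℕ} (h : Dbl F k ε n) : Piece F k ε n :=
  let ⟨Q, hQ, g, _, hg, _⟩ := h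
  ⟨Q, hQ, g, hg⟩

theorem Dbl.mul {k l : ℕ} {ε δ : ℤ} {n m : ℕ} (h : Dbl F k ε n) (h' : Piece F l δ m) (hm : Odd m)
    (hcop : Nat.Coprime n m) : Dbl F (k + l) (ε * δ) (n * m) := by
  obtain ⟨Q, hQ, g, w, rfl, hw⟩ := h
  obtain ⟨Q', hQ', g', rfl⟩ := h'
  set G := orthProd Q Q' (g, g') with hG
  have ho : orderOf G = orderOf g * orderOf g' := by
    rw [hG, orderOf_injective _ (orthProd_injective Q Q'), Prod.orderOf]
    exact hcop.lcm_eq_mul
  have := dbl_mk (Q.prod Q') (k := k + l) (ε := ε * δ)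
    (by simp [Fintype.card_prod, ← pow_add, mul_add]) (by rw [gauss_prod, hQ, hQ']; ring) G (w, 0) (by
      intro hz
      apply hw
      have e : (nsumv G (orderOf G) (w, 0)).1 = nsumv g (orderOf G) w := by
        simp only [nsumv, Prod.fst_sum, hG]
        refine Finset.sum_congr rfl fun i _ => ?_
        rw [← map_pow]
        rfl
      rw [hz, ho, nsumv_periodic_odd g (pow_orderOf_eq_one g) hm] at e
      exact e.symm)
  rwa [ho] at this

theorem dbl_one {k : ℕ} {ε : ℤ} (hk : k ≠ 0) (Q : QuadraticForm F (Fin (2 * k) → F))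
    (hQ : gauss Q = ε * (Fintype.card F : ℤ) ^ k) : Dbl F k ε 1 := by
  refine ⟨Q, hQ, 1, Pi.single ⟨0, by omega⟩ 1, orderOf_one, fun h => ?_⟩
  have := congrFun h ⟨0, by omega⟩
  simp [nsumv] at this

theorem dbl_two {k : ℕ} {ε : ℤ} (Q : QuadraticForm F (Fin (2 * k) → F))
    (hQ : gauss Q = ε * (Fintype.card F : ℤ) ^ k) (g : orth Q) (h2 : g ^ 2 = 1) (hne : g ≠ 1) :
    Dbl F k ε 2 := by
  obtain ⟨x, hx⟩ : ∃ x, g.1 x ≠ x := by
    by_contra hc; push Not at hc
    exact hne (Subtype.ext (LinearEquiv.ext hc))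
  refine ⟨Q, hQ, g, x, orderOf_eq_two' h2 hne, fun h => hx ?_⟩
  simp only [nsumv, Finset.sum_range_succ, Finset.sum_range_zero, zero_add, pow_zero, pow_one,
    OneMemClass.coe_one, LinearEquiv.coe_one, id_eq] at h
  rw [← sub_eq_zero, sub_eq_add_neg, neg_eq_iff_add_eq_zero.2 (add_self_vec (F := F) x), add_comm, h]

theorem dbl_basic : Dbl F 1 1 1 ∧ Dbl F 1 (-1) 1 ∧ Dbl F 1 1 2 ∧ Dbl F 1 (-1) 2 ∧ Dbl F 2 1 4 := by
  obtain ⟨-, Qp, gp, hQp, hgp2, hgpne⟩ := plus_model F 1 one_ne_zero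
  obtain ⟨-, Qm, gm, hQm, hgm2, w, hw⟩ := minus_model F 1 one_ne_zero
  have hgmne : gm ≠ 1 := fun h => by
    subst h
    apply hw
    simp only [one_pow, OneMemClass.coe_one, LinearEquiv.coe_one, id_eq, mul_one, Finset.sum_const,
      Finset.card_range, two_nsmul]
    exact add_self_vec (F := F) w
  have hp : gauss Qp = 1 * (Fintype.card F : ℤ) ^ 1 := by rw [hQp, one_mul]
  have hm : gauss Qm = -1 * (Fintype.card F : ℤ) ^ 1 := by rw [hQm]; ring
  obtain ⟨g4, hg4, w4, hw4⟩ := wreath_four Qp gp hgp2 hgpne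
  refine ⟨dbl_one one_ne_zero Qp hp, dbl_one one_ne_zero Qm hm, dbl_two Qp hp gp hgp2 hgpne,
    dbl_two Qm hm gm (by simpa using hgm2) hgmne, ?_⟩
  have := dbl_mk (Qp.prod Qp) (k := 2) (ε := 1) (by simp [Fintype.card_prod, ← pow_add])
    (by rw [gauss_prod, hQp]; ring) g4 w4 (by rw [hg4]; exact hw4)
  rwa [hg4] at this

/-! ### The reference space -/

/-- A fixed quadratic space of dimension eight and sign minus. -/
structure Ref (F : Type u) [Field F] [Fintype F] [CharP F 2] where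
  Q : QuadraticForm F (Fin (2 * 4) → F)
  gaussQ : gauss Q = -1 * (Fintype.card F : ℤ) ^ 4
  nd : (polarBilin Q).Nondegenerate
  D : orth Q →* Multiplicative F
  D_refl : ∀ v hv, D (refl Q v hv) = Multiplicative.ofAdd 1
  D_eq : ∀ g, D g = Multiplicative.ofAdd ((finrank F (LinearMap.range (OrthCharTwo.dif g)) : ℕ) : F)

theorem exists_ref : Nonempty (Ref F) := by
  obtain ⟨Q, hQ, -⟩ := (minus_model F 4 (by norm_num)).1 1 (one_dvd _)
  have hnd := nondegenerate_of_gauss Q (k := 4) (by simp) (Or.inr (by rw [hQ]; ring))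
  obtain ⟨D, hD⟩ := OrthUnitaryOmega.exists_dickson (CharTwo.two_eq_zero (R := F)) hnd
  have hgen := OrthUnitaryRefl.reflGroup_eq_top (OrthUnitaryOmega.isReg_of_nondegenerate hnd)
    (Or.inr (by rw [finrank_fin_fun]; norm_num))
  exact ⟨⟨Q, hQ, hnd, D, hD, OrthCharTwo.dickson_eq_rank hnd hgen D hD⟩⟩

variable (R : Ref F)

theorem D_val (g : orth R.Q) : R.D g = 1 ∨ R.D g = Multiplicative.ofAdd 1 := by
  rw [R.D_eq]
  rcases Nat.even_or_odd (finrank F (LinearMap.range (OrthCharTwo.dif g))) with ⟨r, hr⟩ | ⟨r, hr⟩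
  · left; rw [hr, Nat.cast_add, CharTwo.add_self_eq_zero, ofAdd_zero]
  · right; rw [hr, Nat.cast_add, Nat.cast_mul, Nat.cast_two, CharTwo.two_eq_zero, zero_mul, zero_add, Nat.cast_one]

/-- Pieces of sign minus live in the reference space. -/
theorem transport {n : ℕ} (h : Piece F 4 (-1) n) : ∃ g : orth R.Q, orderOf g = n := by
  obtain ⟨Q, hQ, g, hg⟩ := h
  obtain ⟨σ, hσ⟩ := iso_ref Q hQ
  exact ⟨OrthUnitaryQuad.orthCongr σ hσ g, ((OrthUnitaryQuad.orthCongr σ hσ).orderOf_eq g).trans hg⟩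
where
  iso_ref (Q : QuadraticForm F (Fin (2 * 4) → F)) (hQ : gauss Q = -1 * (Fintype.card F : ℤ) ^ 4) :
    ∃ σ : (Fin (2 * 4) → F) ≃ₗ[F] (Fin (2 * 4) → F), ∀ v, R.Q (σ v) = Q v := by
    have key : ∀ Q : QuadraticForm F (Fin (2 * 4) → F), gauss Q = -1 * (Fintype.card F : ℤ) ^ 4 →
        ∃ (e f : Fin 3 → Fin (2 * 4) → F) (W : Submodule F (Fin (2 * 4) → F)),
          QuadClassify.Decomp Q ⊤ 3 e f W ∧ finrank F W = 2 := by
      intro Q hQ
      have hnd := nondegenerate_of_gauss Q (k := 4) (by simp) (Or.inr (by rw [hQ]; ring))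
      obtain ⟨k, e, f, W, hdec, hW⟩ := QuadClassify.exists_decomp Q hnd
      have hdim := hdec.2.2.2.2.2.1
      rw [finrank_top, finrank_fin_fun] at hdim
      rcases (show (finrank F W = 0 ∧ k = 4) ∨ (finrank F W = 2 ∧ k = 3) by omega) with
        ⟨-, rfl⟩ | ⟨hW2, rfl⟩
      · exfalso
        obtain ⟨σ, hσ⟩ := QuadClassify.iso_plus Q hdec.1 (by rw [finrank_fin_fun])
        have := gauss_congr Q (QuadClassify.qPlus 4 F) σ (fun v => by rw [QuadClassify.qPlus_apply, hσ])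
        rw [gauss_plus, hQ] at this
        have h1 : (0 : ℤ) < (Fintype.card F : ℤ) ^ 4 := by
          have := Fintype.card_pos (α := F); positivity
        linarith
      · exact ⟨e, f, W, hdec, hW2⟩
    obtain ⟨e, f, W, hd, hW⟩ := key Q hQ
    obtain ⟨e', f', W', hd', hW'⟩ := key R.Q R.gaussQ
    exact QuadClassify.iso_of_decomp Q R.Q hd hd' (hW'.trans hW.symm) (Or.inr hW)

theorem D_of_odd (g : orth R.Q) (ho : Odd (orderOf g)) : R.D g = 1 := by
  rcases D_val R g with h | h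
  · exact h
  have hp : R.D g ^ orderOf g = 1 := by rw [← map_pow, pow_orderOf_eq_one, map_one]
  obtain ⟨j, hj⟩ := ho
  have h2 : R.D g ^ 2 = 1 := by
    rw [h, pow_two, ← ofAdd_add, CharTwo.add_self_eq_zero, ofAdd_zero]
  rwa [hj, pow_succ, pow_mul, h2, one_pow, one_mul] at hp

/-- An isometry fixing a non-singular plane can be corrected by a reflection into the kernel. -/
theorem correct (g : orth R.Q) (w v : Fin (2 * 4) → F) (hv : R.Q v ≠ 0) (hgv : g.1 v = v)
    (hperp : ∀ i, polar R.Q v ((g ^ i).1 w) = 0) (hT : nsumv g (orderOf g) w ≠ 0)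
    (hev : Even (orderOf g)) :
    ∃ g' : orth R.Q, R.D g' = 1 ∧ orderOf g' = orderOf g ∧ nsumv g' (orderOf g') w ≠ 0 := by
  rcases D_val R g with h | h
  · exact ⟨g, h, rfl, hT⟩
  set r := refl R.Q v hv with hr
  have hr2 : r ^ 2 = 1 := Subtype.ext (LinearEquiv.ext fun x => by
    show r.1 (r.1 x) = x
    exact OrthUnitaryQuad.reflMap_involutive hv x)
  have hcom : Commute g r := Subtype.ext (LinearEquiv.ext fun x => by
    show g.1 (r.1 x) = r.1 (g.1 x)
    rw [refl_apply, refl_apply, map_sub, map_smul, hgv]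
    have : polar R.Q v (g.1 x) = polar R.Q v x := by
      conv_lhs => rw [← hgv, polar_orth]
    rw [this])
  refine ⟨g * r, by rw [map_mul, h, R.D_refl, ← ofAdd_add, CharTwo.add_self_eq_zero, ofAdd_zero], ?_⟩
  have hfix : ∀ i, ((g * r) ^ i).1 w = (g ^ i).1 w := by
    intro i
    induction i with
    | zero => rfl
    | succ i ih =>
      rw [pow_succ', pow_succ']
      show g.1 (r.1 (((g * r) ^ i).1 w)) = g.1 ((g ^ i).1 w)
      rw [ih, refl_apply, hperp, mul_zero, zero_smul, sub_zero]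
  have hpo : (g * r) ^ orderOf g = 1 := by
    obtain ⟨j, hj⟩ := hev
    rw [hcom.mul_pow, pow_orderOf_eq_one, hj, ← two_mul, pow_mul, hr2, one_pow, one_mul]
  have hT' : nsumv (g * r) (orderOf g) w ≠ 0 := by
    simpa only [nsumv, hfix] using hT
  have hord : orderOf (g * r) = orderOf g := by
    obtain ⟨j, hj⟩ := orderOf_dvd_of_pow_eq_one hpo
    rcases Nat.even_or_odd j with he | ho
    · rw [hj] at hT'
      exact absurd (nsumv_periodic_even _ (pow_orderOf_eq_one _) he w) hT'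
    · have he : Even (orderOf (g * r)) := by
        rw [hj, Nat.even_mul] at hev
        exact hev.resolve_right (Nat.not_even_iff_odd.2 ho)
      obtain ⟨i, hi⟩ := he
      have h1 := pow_orderOf_eq_one (g * r)
      rw [hcom.mul_pow, hi, ← two_mul, pow_mul r, hr2, one_pow, mul_one, show 2 * i = i + i from two_mul i, ← hi] at h1
      exact dvd_antisymm (orderOf_dvd_of_pow_eq_one hpo) (orderOf_dvd_of_pow_eq_one h1)
  exact ⟨hord, by rw [hord]; exact hT'⟩

/-- Doubling elements in the kernel. -/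
theorem dbl_odd_ref {n : ℕ} (h : Dbl F 4 (-1) n) (hn : Odd n) :
    ∃ (g : orth R.Q) (w : _), R.D g = 1 ∧ orderOf g = n ∧ nsumv g n w ≠ 0 := by
  obtain ⟨Q, hQ, g, w, hg, hw⟩ := h
  obtain ⟨σ, hσ⟩ := transport.iso_ref R Q hQ
  let C := OrthUnitaryQuad.orthCongr σ hσ
  have ho : orderOf (C g) = n := (C.orderOf_eq g).trans hg
  refine ⟨C g, σ w, D_of_odd R _ (ho ▸ hn), ho, ?_⟩
  have : ∀ i, (C g ^ i).1 (σ w) = σ ((g ^ i).1 w) := fun i => by
    rw [← map_pow]
    show σ ((g ^ i).1 (σ.symm (σ w))) = _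
    rw [σ.symm_apply_apply]
  simp only [nsumv, this, ← map_sum]
  rw [ne_eq, LinearEquiv.map_eq_zero_iff]
  exact hw

theorem dbl_even_ref {n : ℕ} {δ : ℤ} (h : Dbl F 3 (-δ) n) (hδ : δ = 1 ∨ δ = -1) (hn : Even n) :
    ∃ (g : orth R.Q) (w : _), R.D g = 1 ∧ orderOf g = n ∧ nsumv g n w ≠ 0 := by
  obtain ⟨Q, hQ, g, w, hg, hw⟩ := h
  obtain ⟨d1, dm, -⟩ := dbl_basic (F := F)
  obtain ⟨Q₁, hQ₁, -⟩ : Piece F 1 δ 1 := by
    rcases hδ with rfl | rfl
    · exact d1.piece
    · exact dm.piece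
  have hnd1 := nondegenerate_of_gauss Q₁ (k := 1) (by simp) (by
    rcases hδ with rfl | rfl
    · left; rw [hQ₁, one_mul]
    · right; rw [hQ₁]; ring)
  obtain ⟨v, hv⟩ : ∃ v, Q₁ v ≠ 0 := by
    by_contra hc
    push Not at hc
    have h1 : (Pi.single 0 1 : Fin (2 * 1) → F) = 0 := hnd1.1 _ fun y => by simp [polar, hc]
    simpa using congrFun h1 0
  have hcd : Fintype.card ((Fin (2 * 3) → F) × (Fin (2 * 1) → F)) = Fintype.card F ^ (2 * 4) := by
    simp [Fintype.card_prod, ← pow_add]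
  have hgz : gauss (Q.prod Q₁) = -1 * (Fintype.card F : ℤ) ^ 4 := by
    rw [gauss_prod, hQ, hQ₁]
    rcases hδ with rfl | rfl <;> ring
  have hfr : finrank F ((Fin (2 * 3) → F) × (Fin (2 * 1) → F)) = 2 * 4 := by
    rw [Module.finrank_prod, finrank_fin_fun, finrank_fin_fun]
  let e := LinearEquiv.ofFinrankEq ((Fin (2 * 3) → F) × (Fin (2 * 1) → F)) (Fin (2 * 4) → F)
    (by rw [hfr, finrank_fin_fun])
  let Q' : QuadraticForm F (Fin (2 * 4) → F) := (Q.prod Q₁).comp e.symm.toLinearMap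
  have he : ∀ z, Q' (e z) = (Q.prod Q₁) z := fun z => by simp [Q']
  obtain ⟨τ, hτ⟩ := transport.iso_ref R Q' (by rw [gauss_congr _ Q' e he, hgz])
  let σ := e.trans τ
  have hσ : ∀ z, R.Q (σ z) = (Q.prod Q₁) z := fun z => by
    show R.Q (τ (e z)) = _
    rw [hτ, he]
  let C := OrthUnitaryQuad.orthCongr σ hσ
  let G := C (orthProd Q Q₁ (g, 1))
  have hG : ∀ i z, (G ^ i).1 (σ z) = σ ((g ^ i).1 z.1, z.2) := fun i z => by
    show ((C (orthProd Q Q₁ (g, 1))) ^ i).1 (σ z) = _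
    rw [← map_pow, ← map_pow, Prod.pow_mk, one_pow]
    show σ ((orthProd Q Q₁ (g ^ i, 1)).1 (σ.symm (σ z))) = _
    rw [σ.symm_apply_apply]
    rfl
  have ho : orderOf G = n := by
    rw [MulEquiv.orderOf_eq, orderOf_injective _ (orthProd_injective Q Q₁), Prod.orderOf, orderOf_one,
      Nat.lcm_one_right, hg]
  obtain ⟨g', h1, h2, h3⟩ := correct R G (σ (w, 0)) (σ (0, v))
    (by rw [hσ]; simpa [QuadraticMap.prod_apply] using hv)
    (by have := hG 1 (0, v); rw [pow_one] at this; rw [this]; simp)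
    (fun i => by
      rw [hG]
      simp only [polar, ← map_add, hσ, QuadraticMap.prod_apply]
      simp)
    (by
      rw [ho]
      intro hz
      apply hw
      have e1 : nsumv G n (σ (w, 0)) = σ (nsumv g n w, 0) := by
        simp only [nsumv, hG, ← map_sum]
        congr 1
        refine Prod.ext ?_ ?_ <;> simp [Prod.fst_sum, Prod.snd_sum]
      rw [hz, eq_comm, LinearEquiv.map_eq_zero_iff] at e1
      exact congrArg Prod.fst e1)
    (ho ▸ hn)
  exact ⟨g', _, h1, h2.trans ho, by rw [h2, ho] at h3; exact h3⟩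

/-! ### The upper bound for doubling -/

theorem spec_odd {p : ℕ × ℕ} (hp : p ∈ specList (Fintype.card F)) : Odd p.2 := by
  obtain ⟨k, -, hk⟩ := FiniteField.card F 2
  set q := Fintype.card F with hq
  have hq2 : 2 ≤ q := Fintype.one_lt_card
  have he : Even q := by rw [hk]; exact Nat.even_pow.2 ⟨even_two, k.ne_zero⟩
  have hep : ∀ j, j ≠ 0 → Odd (q ^ j + 1) ∧ Odd (q ^ j - 1) := fun j hj =>
    have h := Nat.even_pow.2 ⟨he, hj⟩
    ⟨h.add_one, Nat.Even.sub_odd (Nat.one_le_pow _ _ (by omega)) h odd_one⟩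
  have h1 : Odd (q + 1) ∧ Odd (q - 1) := by simpa using hep 1 one_ne_zero
  obtain ⟨a2, b2⟩ := hep 2 two_ne_zero
  obtain ⟨a3, b3⟩ := hep 3 (by norm_num)
  obtain ⟨a4, b4⟩ := hep 4 (by norm_num)
  simp only [specList, List.mem_cons, List.not_mem_nil, or_false] at hp
  rcases hp with rfl | rfl | rfl | rfl | rfl | rfl | rfl | rfl | rfl | rfl | rfl | rfl
  exacts [a4, b4, a3.mul h1.2, b3.mul h1.1, a3, b3, a2.mul h1.2, a2.mul h1.1, a2, b2, h1.2, h1.1]

theorem ker_dim_le_one {V : Type*} [AddCommGroup V] [Module F V] [FiniteDimensional F V]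
    (N : Module.End F V) (n : ℕ) (hn : n ≠ 0) (v : V) (h1 : (N ^ n) v = 0) (h2 : (N ^ (n - 1)) v ≠ 0) (hle : finrank F (LinearMap.ker (N ^ n)) ≤ n) :
    finrank F (LinearMap.ker N) = 1 := by
  have hmono : ∀ i, LinearMap.ker (N ^ i) ≤ LinearMap.ker (N ^ (i + 1)) := fun i x hx => by
    rw [LinearMap.mem_ker] at hx ⊢
    rw [pow_succ', Module.End.mul_apply, hx, map_zero]
  have hstrict : ∀ i < n, finrank F (LinearMap.ker (N ^ i)) < finrank F (LinearMap.ker (N ^ (i + 1))) := by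
    intro i hi
    refine Submodule.finrank_lt_finrank_of_lt (lt_of_le_of_ne (hmono i) fun he => h2 ?_)
    have hmem : (N ^ (n - 1 - i)) v ∈ LinearMap.ker (N ^ (i + 1)) := by
      rw [LinearMap.mem_ker, ← Module.End.mul_apply, ← pow_add, show i + 1 + (n - 1 - i) = n by omega, h1]
    rw [← he, LinearMap.mem_ker, ← Module.End.mul_apply, ← pow_add, show i + (n - 1 - i) = n - 1 by omega] at hmem
    exact hmem
  have hgrow : ∀ i, i + 1 ≤ n → finrank F (LinearMap.ker N) + i ≤ finrank F (LinearMap.ker (N ^ (i + 1))) := by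
    intro i hi
    induction i with
    | zero => rw [zero_add, pow_one, add_zero]
    | succ i ih => have := hstrict (i + 1) (by omega); have := ih (by omega); omega
  have := hgrow (n - 1) (by omega)
  rw [show n - 1 + 1 = n by omega] at this
  have h0 : finrank F (LinearMap.ker (N ^ 0)) < finrank F (LinearMap.ker N) := by
    have := hstrict 0 (by omega); rwa [zero_add, pow_one] at this
  have : finrank F (LinearMap.ker (N ^ 0)) = 0 := by
    rw [pow_zero, show LinearMap.ker (1 : Module.End F V) = ⊥ from LinearMap.ker_id, finrank_bot]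
  omega

theorem upper (g : orth R.Q) :
    ∃ p ∈ specList (Fintype.card F), orderOf g ∣ 2 ^ p.1 * p.2 ∧
      (R.D g = 1 → ∀ w, nsumv g (orderOf g) w ≠ 0 → 2 * orderOf g ∣ 2 ^ p.1 * p.2) := by
  classical
  haveI := OrthUnitaryQuad.finite_orth R.Q
  let M := LinearMap.toMatrix' g.1.toLinearMap
  have hB : (LinearMap.toMatrix₂' F (polarBilin R.Q)).det ≠ 0 := by
    intro h
    obtain ⟨v, hv, hv'⟩ := Matrix.exists_mulVec_eq_zero_iff.2 h
    refine hv (R.nd.2 v fun u => ?_)
    have e : u ⬝ᵥ (LinearMap.toMatrix₂' F (polarBilin R.Q) *ᵥ v) = polarBilin R.Q u v := by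
      rw [← Matrix.toLinearMap₂'_apply', Matrix.toLinearMap₂'_toMatrix']
    rw [← e, hv', dotProduct_zero]
  have hinv : Mᵀ * LinearMap.toMatrix₂' F (polarBilin R.Q) * M = LinearMap.toMatrix₂' F (polarBilin R.Q) := by
    rw [← LinearMap.toMatrix₂'_compl₁₂]
    congr 1
    exact LinearMap.ext₂ fun u v => polar_orth g u v
  obtain ⟨p, hp, hM, hmult⟩ := order_bound_one (by simp) M _
    ((Matrix.isUnit_iff_isUnit_det _).2 (isUnit_iff_ne_zero.2 hB)) hinv
  rw [Nat.card_eq_fintype_card] at hp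
  let G : Module.End F (Fin (2 * 4) → F) := toEnd R.Q g
  have hGM : LinearMap.toMatrixAlgEquiv' G = M := rfl
  have hg : g ^ (2 ^ p.1 * p.2) = 1 := by
    have h1 : G ^ (2 ^ p.1 * p.2) = 1 := LinearMap.toMatrixAlgEquiv'.injective (by
      rw [map_pow, hGM, hM, map_one])
    rw [← map_pow] at h1
    exact Subtype.ext (LinearEquiv.toLinearMap_injective h1)
  have hdvd := orderOf_dvd_of_pow_eq_one hg
  refine ⟨p, hp, hdvd, fun hD w hw => ?_⟩
  obtain ⟨e, m, hm, ho⟩ := Nat.exists_eq_two_pow_mul_odd (orderOf_pos g).ne'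
  have hb := spec_odd hp
  rw [ho] at hdvd
  have hmb : m ∣ p.2 :=
    ((Nat.coprime_two_right.2 hm).pow_right p.1).dvd_of_dvd_mul_left ((dvd_mul_left m _).trans hdvd)
  have hep : 2 ^ e ∣ 2 ^ p.1 :=
    ((Nat.coprime_two_left.2 hb).pow_left e).dvd_of_dvd_mul_right ((dvd_mul_right _ m).trans hdvd)
  have hea : e ≤ p.1 := (Nat.pow_dvd_pow_iff_le_right (by norm_num)).1 hep
  rw [ho, ← mul_assoc, ← pow_succ']
  rcases Nat.lt_or_ge e p.1 with hlt | hge
  · exact Nat.mul_dvd_mul (pow_dvd_pow 2 hlt) hmb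
  exfalso
  have hea' : e = p.1 := le_antisymm hea hge
  set S : Polynomial F := ∑ i ∈ Finset.range m, Polynomial.X ^ i with hS
  have hid : (∑ i ∈ Finset.range (2 ^ e * m), (Polynomial.X : Polynomial F) ^ i) =
      (Polynomial.X - 1) ^ (2 ^ e - 1) * S ^ (2 ^ e) := by
    have hne : (Polynomial.X - 1 : Polynomial F) ≠ 0 := by
      simpa using Polynomial.X_sub_C_ne_zero (1 : F)
    apply mul_right_cancel₀ hne
    rw [geom_sum_mul, mul_comm (2 ^ e) m, pow_mul]
    calc (Polynomial.X ^ m) ^ 2 ^ e - 1 = (Polynomial.X ^ m - 1) ^ 2 ^ e := by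
          rw [sub_pow_char_pow, one_pow]
      _ = (S * (Polynomial.X - 1)) ^ 2 ^ e := by rw [hS, geom_sum_mul]
      _ = _ := by
        rw [mul_pow]
        conv_lhs => rw [show (Polynomial.X - 1 : Polynomial F) ^ 2 ^ e =
          (Polynomial.X - 1) ^ (2 ^ e - 1) * (Polynomial.X - 1) by
          rw [← pow_succ]; congr 1; have := Nat.one_le_two_pow (n := e); omega]
        ring
  let N : Module.End F (Fin (2 * 4) → F) := G - 1
  have hev := congrArg (fun P => Polynomial.aeval G P w) hid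
  simp only [map_sum, map_mul, map_pow, map_sub, Polynomial.aeval_X, map_one, LinearMap.sum_apply,
    Module.End.mul_apply] at hev
  set A := ((Polynomial.aeval G) S ^ (2 ^ e)) w with hA
  have hlhs : (∑ i ∈ Finset.range (2 ^ e * m), (G ^ i) w) = nsumv g (orderOf g) w := by
    rw [ho]
    exact Finset.sum_congr rfl fun i _ => by rw [← map_pow]; rfl
  rw [hlhs] at hev
  have hchain : (N ^ (2 ^ e - 1)) A ≠ 0 := fun h => hw (hev.trans h)
  have hzero : (N ^ (2 ^ e)) A = 0 := by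
    have hz : (Polynomial.X - 1 : Polynomial F) ^ 2 ^ e * S ^ 2 ^ e = Polynomial.X ^ (2 ^ e * m) - 1 := by
      rw [← mul_pow, mul_comm _ S, hS, geom_sum_mul, sub_pow_char_pow, one_pow, ← pow_mul, mul_comm m]
    have := congrArg (fun P => Polynomial.aeval G P w) hz
    simp only [map_mul, map_pow, map_sub, Polynomial.aeval_X, map_one, Module.End.mul_apply] at this
    rw [this, ← ho, ← map_pow, pow_orderOf_eq_one, map_one, sub_self, LinearMap.zero_apply]
  have hker : finrank F (LinearMap.ker (N ^ 2 ^ e)) ≤ 2 ^ e := by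
    have hle : LinearMap.ker (N ^ 2 ^ e) ≤ Module.End.maxGenEigenspace G 1 := fun x hx => by
      rw [Module.End.mem_maxGenEigenspace]
      exact ⟨2 ^ e, by rw [one_smul]; exact LinearMap.mem_ker.1 hx⟩
    refine (Submodule.finrank_mono hle).trans ?_
    rw [LinearMap.finrank_maxGenEigenspace_eq, hea']
    have hc : LinearMap.charpoly G = M.charpoly :=
      (LinearMap.charpoly_toMatrix G (Pi.basisFun F _)).symm.trans (by
        rw [LinearMap.toMatrix_eq_toMatrix']; rfl)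
    rw [hc]; exact hmult
  have hk := ker_dim_le_one N (2 ^ e) (by positivity) A hzero hchain hker
  have hrank := LinearMap.finrank_range_add_finrank_ker N
  rw [hk, finrank_fin_fun] at hrank
  have hdif : OrthCharTwo.dif g = N := rfl
  rw [R.D_eq, hdif, show finrank F (LinearMap.range N) = 7 by omega] at hD
  have h71 : ((7 : ℕ) : F) = 0 := by
    rw [← ofAdd_zero] at hD
    exact Multiplicative.ofAdd.injective hD
  rw [CharP.cast_eq_zero_iff F 2] at h71
  norm_num at h71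

/-! ### The semidirect product -/

/-- The kernel of the Dickson map. -/
def Om : Subgroup (orth R.Q) := R.D.ker

/-- Coordinatewise action. -/
def actHom (k : ℕ) : Om R →* MulAut (Multiplicative (Fin k → Fin (2 * 4) → F)) where
  toFun g := AddEquiv.toMultiplicative (AddEquiv.piCongrRight fun _ => g.1.1.toAddEquiv)
  map_one' := rfl
  map_mul' _ _ := rfl

/-- `V ^ k ⋊ Ω`. -/
abbrev Ext (k : ℕ) := Multiplicative (Fin k → Fin (2 * 4) → F) ⋊[actHom R k] Om R

theorem ext_pow {k : ℕ} (x : Ext R k) (n : ℕ) :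
    (x ^ n).right = x.right ^ n ∧ ∀ j, Multiplicative.toAdd (x ^ n).left j =
      nsumv x.right.1 n (Multiplicative.toAdd x.left j) := by
  induction n with
  | zero => exact ⟨rfl, fun j => by simp [nsumv]⟩
  | succ n ih =>
    obtain ⟨i1, i2⟩ := ih
    refine ⟨by rw [pow_succ, SemidirectProduct.mul_right, i1, pow_succ], fun j => ?_⟩
    rw [pow_succ, SemidirectProduct.mul_left, toAdd_mul, Pi.add_apply, i2, i1, nsumv, nsumv,
      Finset.sum_range_succ]
    congr 1

theorem ext_dvd {k : ℕ} (x : Ext R k) :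
    ∃ p ∈ specList (Fintype.card F), orderOf x ∣ 2 ^ p.1 * p.2 := by
  obtain ⟨p, hp, hd, hdbl⟩ := upper R x.right.1
  refine ⟨p, hp, ?_⟩
  have hone : ∀ n, x.right.1 ^ n = 1 → (∀ j, nsumv x.right.1 n (Multiplicative.toAdd x.left j) = 0) →
      x ^ n = 1 := fun n h1 h2 => by
    obtain ⟨hr, hl⟩ := ext_pow R x n
    refine SemidirectProduct.ext (Multiplicative.toAdd.injective (funext fun j => ?_)) (hr.trans (Subtype.ext ?_))
    · rw [hl, h2]; rfl
    · rw [SubmonoidClass.coe_pow, h1]; rfl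
  by_cases hall : ∀ j, nsumv x.right.1 (orderOf x.right.1) (Multiplicative.toAdd x.left j) = 0
  · exact (orderOf_dvd_of_pow_eq_one (hone _ (pow_orderOf_eq_one _) hall)).trans hd
  · push Not at hall
    obtain ⟨j, hj⟩ := hall
    refine (orderOf_dvd_of_pow_eq_one (n := orderOf x.right.1 * 2) (hone _ ?_ fun i => ?_)).trans
      (by rw [mul_comm]; exact hdbl x.right.2 _ hj)
    · rw [pow_mul, pow_orderOf_eq_one, one_pow]
    · exact nsumv_periodic_even _ (pow_orderOf_eq_one _) even_two _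

theorem ext_double {k : ℕ} (hk : k ≠ 0) {n : ℕ} {g : orth R.Q} {w : Fin (2 * 4) → F}
    (hD : R.D g = 1) (ho : orderOf g = n) (hw : nsumv g n w ≠ 0) :
    ∃ x : Ext R k, orderOf x = 2 * n := by
  let x : Ext R k := ⟨Multiplicative.ofAdd fun _ => w, ⟨g, hD⟩⟩
  refine ⟨x, dvd_antisymm (orderOf_dvd_of_pow_eq_one ?_) ?_⟩
  · obtain ⟨hr, hl⟩ := ext_pow R x (2 * n)
    refine SemidirectProduct.ext (Multiplicative.toAdd.injective (funext fun j => ?_)) (hr.trans (Subtype.ext ?_))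
    · rw [hl, Nat.mul_comm 2 n, nsumv_periodic_even _ (ho ▸ pow_orderOf_eq_one g) even_two]; rfl
    · rw [SubmonoidClass.coe_pow]
      show g ^ (2 * n) = 1
      rw [Nat.mul_comm 2 n, pow_mul, ← ho, pow_orderOf_eq_one, one_pow]
  · obtain ⟨hr, hl⟩ := ext_pow R x (orderOf x)
    rw [pow_orderOf_eq_one] at hr hl
    have hg : g ^ orderOf x = 1 := (congrArg Subtype.val hr).symm
    obtain ⟨j, hj⟩ := (ho ▸ orderOf_dvd_of_pow_eq_one hg : n ∣ orderOf x)
    rcases Nat.even_or_odd j with ⟨i, rfl⟩ | hodd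
    · exact ⟨i, by rw [hj]; ring⟩
    · exfalso
      apply hw
      have h0 := hl ⟨0, Nat.pos_of_ne_zero hk⟩
      rw [hj, nsumv_periodic_odd _ (ho ▸ pow_orderOf_eq_one g) hodd] at h0
      exact h0.symm

theorem ext_odd {k : ℕ} {n : ℕ} (h : Piece F 4 (-1) n) (hn : Odd n) : ∃ x : Ext R k, orderOf x = n := by
  obtain ⟨g, hg⟩ := transport R h
  refine ⟨SemidirectProduct.inr ⟨g, D_of_odd R g (hg ▸ hn)⟩, ?_⟩
  rw [orderOf_injective _ SemidirectProduct.inr_injective]
  exact (Subgroup.orderOf_mk _ _).trans hg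

theorem coprime_aux {q : ℕ} (he : Even q) (hq : 2 ≤ q) :
    Nat.Coprime (q ^ 2 + 1) (q - 1) ∧ Nat.Coprime (q ^ 2 + 1) (q + 1) := by
  have e : q ^ 2 - 1 = (q + 1) * (q - 1) := by simpa using Nat.sq_sub_sq q 1
  have h4 : 4 ≤ q ^ 2 := by nlinarith
  have hev : Even (q ^ 2) := Nat.even_pow.2 ⟨he, two_ne_zero⟩
  have h : Nat.Coprime (q ^ 2 + 1) (q ^ 2 - 1) := by
    rw [show q ^ 2 + 1 = q ^ 2 - 1 + 2 by omega, Nat.coprime_self_add_left]
    exact Nat.coprime_two_left.2 (Nat.Even.sub_odd (by omega) hev odd_one)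
  exact ⟨h.coprime_dvd_right (e ▸ dvd_mul_left _ _), h.coprime_dvd_right (e ▸ dvd_mul_right _ _)⟩

theorem ext_spec {k : ℕ} (hk : k ≠ 0) {p : ℕ × ℕ} (hp : p ∈ specList (Fintype.card F)) :
    ∃ x : Ext R k, orderOf x = 2 ^ p.1 * p.2 := by
  set q := Fintype.card F with hq
  have hodd := spec_odd hp
  obtain ⟨d1, dm, d2, e2, d4⟩ := dbl_basic (F := F)
  have P : ∀ m, m ≠ 0 → Piece F m 1 (q ^ m - 1) := fun m hm => (plus_model F m hm).1 _ dvd_rfl
  have M : ∀ m, m ≠ 0 → Piece F m (-1) (q ^ m + 1) := fun m hm => (minus_model F m hm).1 _ dvd_rfl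
  have P1 : Piece F 1 1 (q - 1) := by simpa using P 1 one_ne_zero
  have M1 : Piece F 1 (-1) (q + 1) := by simpa using M 1 one_ne_zero
  have c2 : ∀ {n : ℕ}, Odd n → Nat.Coprime 2 n := fun hn => Nat.coprime_two_left.2 hn
  have c4 : ∀ {n : ℕ}, Odd n → Nat.Coprime 4 n := fun hn => (Nat.coprime_two_left.2 hn).pow_left 2
  obtain ⟨j, -, hqk⟩ := FiniteField.card F 2
  have heven : Even q := by rw [hq, hqk]; exact Nat.even_pow.2 ⟨even_two, j.ne_zero⟩
  have hq2 : 2 ≤ q := Fintype.one_lt_card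
  simp only [specList, List.mem_cons, List.not_mem_nil, or_false] at hp
  rcases hp with rfl | rfl | rfl | rfl | rfl | rfl | rfl | rfl | rfl | rfl | rfl | rfl <;>
    dsimp only at hodd ⊢
  · rw [pow_zero, one_mul]; exact ext_odd R (M 4 (by norm_num)) hodd
  · rw [pow_zero, one_mul]; exact ext_odd R (by simpa using (Cfsg.Agent.S3589.piece_spec (F := F) (p := (0, q ^ 4 - 1)) (by simp [specList, hq])).1) hodd
  · rw [pow_zero, one_mul]; exact ext_odd R (by simpa using (Cfsg.Agent.S3589.piece_spec (F := F) (p := (0, (q ^ 3 + 1) * (q - 1))) (by simp [specList, hq])).1) hodd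
  · rw [pow_zero, one_mul]; exact ext_odd R (by simpa using (Cfsg.Agent.S3589.piece_spec (F := F) (p := (0, (q ^ 3 - 1) * (q + 1))) (by simp [specList, hq])).1) hodd
  · obtain ⟨g, w, h1, h2, h3⟩ := dbl_odd_ref R (n := q ^ 3 + 1)
      (by simpa using d1.mul (M 3 (by norm_num)) hodd (Nat.coprime_one_left _)) hodd
    exact ext_double R hk h1 h2 h3
  · obtain ⟨g, w, h1, h2, h3⟩ := dbl_odd_ref R (n := q ^ 3 - 1)
      (by simpa using dm.mul (P 3 (by norm_num)) hodd (Nat.coprime_one_left _)) hodd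
    exact ext_double R hk h1 h2 h3
  · have hpiece : Piece F 3 (-1) ((q ^ 2 + 1) * (q - 1)) := by
      have := (M 2 two_ne_zero).mul P1
      rwa [(coprime_aux heven hq2).1.lcm_eq_mul, mul_one] at this
    obtain ⟨g, w, h1, h2, h3⟩ := dbl_odd_ref R (n := (q ^ 2 + 1) * (q - 1))
      (by simpa using d1.mul hpiece hodd (Nat.coprime_one_left _)) hodd
    exact ext_double R hk h1 h2 h3
  · have hpiece : Piece F 3 1 ((q ^ 2 + 1) * (q + 1)) := by
      have := (M 2 two_ne_zero).mul M1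
      rwa [(coprime_aux heven hq2).2.lcm_eq_mul, neg_one_mul, neg_neg] at this
    obtain ⟨g, w, h1, h2, h3⟩ := dbl_odd_ref R (n := (q ^ 2 + 1) * (q + 1))
      (by simpa using dm.mul hpiece hodd (Nat.coprime_one_left _)) hodd
    exact ext_double R hk h1 h2 h3
  · obtain ⟨g, w, h1, h2, h3⟩ := dbl_even_ref R (δ := 1) (n := 2 * (q ^ 2 + 1))
      (by simpa using d2.mul (M 2 two_ne_zero) hodd (c2 hodd)) (Or.inl rfl) (even_two_mul _)
    obtain ⟨x, hx⟩ := ext_double R (k := k) hk h1 h2 h3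
    exact ⟨x, by rw [hx]; ring⟩
  · obtain ⟨g, w, h1, h2, h3⟩ := dbl_even_ref R (δ := 1) (n := 2 * (q ^ 2 - 1))
      (by simpa using e2.mul (P 2 two_ne_zero) hodd (c2 hodd)) (Or.inl rfl) (even_two_mul _)
    obtain ⟨x, hx⟩ := ext_double R (k := k) hk h1 h2 h3
    exact ⟨x, by rw [hx]; ring⟩
  · obtain ⟨g, w, h1, h2, h3⟩ := dbl_even_ref R (δ := -1) (n := 4 * (q - 1))
      (by simpa using d4.mul P1 hodd (c4 hodd)) (Or.inr rfl) ⟨2 * (q - 1), by ring⟩
    obtain ⟨x, hx⟩ := ext_double R (k := k) hk h1 h2 h3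
    exact ⟨x, by rw [hx]; ring⟩
  · obtain ⟨g, w, h1, h2, h3⟩ := dbl_even_ref R (δ := 1) (n := 4 * (q + 1))
      (by simpa using d4.mul M1 hodd (c4 hodd)) (Or.inl rfl) ⟨2 * (q + 1), by ring⟩
    obtain ⟨x, hx⟩ := ext_double R (k := k) hk h1 h2 h3
    exact ⟨x, by rw [hx]; ring⟩

/-- Let F be a finite field of characteristic 2. Then PSp(8,F) is not determined by its set of element orders, not even up to finitely many groups: for every bound there is a finite group of larger order with exactly the same set of element orders as PSp(8,F). -/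
theorem result {F : Type*} [Field F] [Fintype F]
    [CharP F 2] (M : ℕ) :
    ∃ (H : Type) (_ : Group H) (_ : Fintype H), M < Fintype.card H ∧ Set.range (orderOf : H → ℕ) = Set.range (orderOf : Cfsg.PSp 4 F → ℕ) := by
  classical
  obtain ⟨R⟩ := exists_ref (F := F)
  let X := Ext R (M + 1)
  haveI : Finite (orth R.Q) := OrthUnitaryQuad.finite_orth R.Q
  haveI : Finite (Multiplicative (Fin (M + 1) → Fin (2 * 4) → F)) := inferInstanceAs (Finite (Fin (M + 1) → Fin (2 * 4) → F))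
  haveI : Finite X := Finite.of_injective (fun x : X => (x.left, x.right)) (fun x y h => by
    exact SemidirectProduct.ext (congrArg Prod.fst h) (congrArg Prod.snd h))
  haveI : Fintype X := Fintype.ofFinite X
  let e : Fin (Fintype.card X) ≃ X := (Fintype.equivFin X).symm
  letI : Group (Fin (Fintype.card X)) := e.group
  have he : ∀ z, orderOf z = orderOf (e z) := fun z => (e.mulEquiv.orderOf_eq z).symm
  refine ⟨Fin (Fintype.card X), inferInstance, inferInstance, ?_, ?_⟩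
  · rw [Fintype.card_fin]
    have h1 : Fintype.card (Multiplicative (Fin (M + 1) → Fin (2 * 4) → F)) ≤ Fintype.card X :=
      Fintype.card_le_of_injective SemidirectProduct.inl SemidirectProduct.inl_injective
    rw [Fintype.card_multiplicative, Fintype.card_fun, Fintype.card_fun, Fintype.card_fin, Fintype.card_fin] at h1
    have h2 : 2 ^ (M + 1) ≤ (Fintype.card F ^ (2 * 4)) ^ (M + 1) :=
      Nat.pow_le_pow_left ((Nat.le_self_pow (by norm_num) _).trans' Fintype.one_lt_card) _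
    have := Nat.lt_two_pow_self (n := M)
    have : 2 ^ M ≤ 2 ^ (M + 1) := Nat.pow_le_pow_right (by norm_num) (Nat.le_succ M)
    omega
  have hmk : ∀ Y : Matrix.symplecticGroup (Fin 4) F, orderOf (QuotientGroup.mk Y : Cfsg.PSp 4 F) = orderOf Y := fun Y =>
    orderOf_injective (QuotientGroup.mk' _) (by
      rw [← MonoidHom.ker_eq_bot_iff, QuotientGroup.ker_mk']; exact Cfsg.Agent.S3589.center_bot) Y
  apply Set.ext
  intro n
  constructor
  · rintro ⟨z, rfl⟩
    obtain ⟨p, hp, hd⟩ := ext_dvd R (e z)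
    obtain ⟨hP, hne⟩ := Cfsg.Agent.S3589.piece_spec hp
    obtain ⟨Q, hg, k, hk⟩ := hP.of_dvd hne hd
    obtain ⟨Y, hY⟩ := Cfsg.Agent.S3589.exists_sp_element Q
      (nondegenerate_of_gauss Q (k := 4) (by simp) (Or.inr (by rw [hg]; ring))) k
    exact ⟨QuotientGroup.mk Y, by rw [hmk, hY, hk, he]⟩
  · rintro ⟨y, rfl⟩
    obtain ⟨Y, rfl⟩ := QuotientGroup.mk_surjective y
    obtain ⟨p, hp, hM⟩ := order_bound (by simp) (Y : Matrix (Fin 4 ⊕ Fin 4) (Fin 4 ⊕ Fin 4) F)
      (Matrix.J (Fin 4) F) ((Matrix.isUnit_iff_isUnit_det _).2 (Matrix.isUnit_det_J _ _))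
      (SymplecticGroup.mem_iff'.1 Y.2)
    rw [Nat.card_eq_fintype_card] at hp
    have hd : orderOf Y ∣ 2 ^ p.1 * p.2 :=
      orderOf_dvd_of_pow_eq_one (Subtype.ext (by rw [SubmonoidClass.coe_pow]; exact hM))
    obtain ⟨x, hx⟩ := ext_spec R (k := M + 1) (Nat.succ_ne_zero M) hp
    refine ⟨e.symm (x ^ (orderOf x / orderOf Y)), ?_⟩
    rw [he, Equiv.apply_symm_apply, orderOf_pow_orderOf_div (orderOf_pos x).ne' (hx ▸ hd), hmk]

end Cfsg.Agent.S3590
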