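import Cfsg.Statements.S3592
import Cfsg.Agent.Lib.M11Nse99
import Cfsg.Agent.Lib.GolaySimple
import Cfsg.Agent.Lib.GolayM24

set_option autoImplicit false
open Cfsg

namespace Cfsg.Agent.S3592

/-- Let M be the Mathieu group M₁₁ (order 7920). If a finite group G has the same order as M and the same set of values of the function 'number of elements of order n' (taken over the element orders n that occur), then G is isomorphic to M. -/
theorem result {G : Type*} [Group G] [Finite G]
    (hcard : Nat.card G = Nat.card ↥Cfsg.Spor.M11)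
    (hnse : {c : ℕ | 0 < c ∧ ∃ n : ℕ, c = Nat.card {g : G // orderOf g = n}} =
      {c : ℕ | 0 < c ∧ ∃ n : ℕ, c = Nat.card {g : ↥Cfsg.Spor.M11 // orderOf g = n}}) :
    Nonempty (G ≃* ↥Cfsg.Spor.M11) := by
  have := Agent.GolaySimple.isSimpleGroup_M11
  have hM : Nat.card ↥Cfsg.Spor.M11 = 7920 := Agent.GolayM24.card_M11
  have : Finite ↥Cfsg.Spor.M11 := Nat.finite_of_card_ne_zero (by rw [hM]; norm_num)
  have hn : Nat.card G = 7920 := hcard.trans hM
  have hc : ∀ n, M11Nse99.Allowed (M11Nse99.cnt G n) := by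
    intro n
    rcases Nat.eq_zero_or_pos (M11Nse99.cnt G n) with h | h
    · exact Or.inl h
    · have hmem : M11Nse99.cnt G n ∈ {c : ℕ | 0 < c ∧ ∃ n : ℕ, c = Nat.card {g : G // orderOf g = n}} :=
        ⟨h, n, rfl⟩
      rw [hnse] at hmem
      obtain ⟨-, k, hk⟩ := hmem
      rw [hk]
      exact M11Nse99.allowed_of_simple hM k
  have := M11Nse99.isSimpleGroup hn hc
  exact M11Unique99.iso_of_card hn hM

end Cfsg.Agent.S3592
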