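import Cfsg.Statements.S3598
import Cfsg.Agent.Lib.PSLSqDegrees82
import Cfsg.Agent.Lib.DegreeSquareRecog82
import Cfsg.Agent.S0340
import Cfsg.Agent.S0494

set_option autoImplicit false
open Cfsg

namespace Cfsg.Agent.S3598

universe v w

/-- Equal degree multiplicities give a degree-preserving bijection. -/
theorem exists_degEquiv {G : Type v} [Group G] [Finite G] {K : Type w} [Group K] [Finite K]
    (h : ∀ d : ℕ, Nat.card {χ : IrrCharacter G // (χ : G → ℂ) 1 = (d : ℂ)} =
      Nat.card {χ : IrrCharacter K // (χ : K → ℂ) 1 = (d : ℂ)}) :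
    ∃ e : IrrCharacter G ≃ IrrCharacter K, ∀ χ,
      charDegree ((e χ) : K → ℂ) = charDegree (χ : G → ℂ) := by
  classical
  haveI := CharBasicOrth.finite_irrCharacter (G := G)
  haveI := CharBasicOrth.finite_irrCharacter (G := K)
  have aux : ∀ d : ℕ, Nonempty ({χ : IrrCharacter G // charDegree (χ : G → ℂ) = d} ≃
      {χ : IrrCharacter K // charDegree (χ : K → ℂ) = d}) := by
    intro d
    refine Finite.card_eq.1 ?_
    have hG : ∀ χ : IrrCharacter G, charDegree (χ : G → ℂ) = d ↔ (χ : G → ℂ) 1 = (d : ℂ) :=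
      fun χ => by rw [CharAverage.irr_apply_one χ, Nat.cast_inj]
    have hK : ∀ χ : IrrCharacter K, charDegree (χ : K → ℂ) = d ↔ (χ : K → ℂ) 1 = (d : ℂ) :=
      fun χ => by rw [CharAverage.irr_apply_one χ, Nat.cast_inj]
    rw [Nat.card_congr (Equiv.subtypeEquivRight hG), Nat.card_congr (Equiv.subtypeEquivRight hK)]
    exact h d
  refine ⟨Equiv.ofFiberEquiv (f := fun χ : IrrCharacter G => charDegree (χ : G → ℂ))
    (g := fun χ : IrrCharacter K => charDegree (χ : K → ℂ)) fun d => (aux d).some, fun χ => ?_⟩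
  exact Equiv.ofFiberEquiv_map (f := fun χ : IrrCharacter G => charDegree (χ : G → ℂ))
    (g := fun χ : IrrCharacter K => charDegree (χ : K → ℂ)) _ χ

/-- Let p be a prime and F a field with p² elements. If a finite group G has, for every d, the same number of irreducible complex characters of degree d as PSL(2,F) (the same first column of the character table, with multiplicities), then G is isomorphic to PSL(2,F). -/
theorem result {F : Type*} [Field F] [Fintype F] (p : ℕ) (hp : p.Prime)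
    (hF : Fintype.card F = p ^ 2) {G : Type*} [Group G] [Finite G]
    (h : ∀ d : ℕ, Nat.card {χ : Cfsg.IrrCharacter G // (χ : G → ℂ) 1 = (d : ℂ)} =
      Nat.card {χ : Cfsg.IrrCharacter (Matrix.ProjectiveSpecialLinearGroup (Fin 2) F) // (χ : Matrix.ProjectiveSpecialLinearGroup (Fin 2) F → ℂ) 1 = (d : ℂ)}) :
    Nonempty (G ≃* Matrix.ProjectiveSpecialLinearGroup (Fin 2) F) := by
  classical
  haveI := Fact.mk hp
  obtain ⟨δ, hδ, hcard, hone, -, hdeg⟩ := PSLSqDegrees82.data hp hF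
  obtain ⟨e, he⟩ := exists_degEquiv h
  have hq : 4 ≤ p ^ 2 := by nlinarith [hp.two_le]
  have hcardG : Nat.card G = Nat.card (Matrix.ProjectiveSpecialLinearGroup (Fin 2) F) := by
    rw [← CharKernel.sum_sq_charDegree (G := G),
      ← CharKernel.sum_sq_charDegree (G := Matrix.ProjectiveSpecialLinearGroup (Fin 2) F),
      ← Equiv.sum_comp e]
    exact Finset.sum_congr rfl fun χ _ => by rw [he]
  obtain ⟨m, hm⟩ : δ ∣ p ^ 2 + 1 := by
    rcases hδ with ⟨rfl, -⟩ | ⟨rfl, hp2⟩
    · exact one_dvd _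
    · obtain ⟨a, ha⟩ := (hp.odd_of_ne_two hp2).pow (n := 2)
      exact ⟨a + 1, by omega⟩
  have hδ0 : 0 < δ := by rcases hδ with ⟨h, -⟩ | ⟨h, -⟩ <;> omega
  have hcard' : Nat.card (Matrix.ProjectiveSpecialLinearGroup (Fin 2) F) =
      p ^ 2 * ((p ^ 2 - 1) * m) := by
    refine Nat.eq_of_mul_eq_mul_left hδ0 ?_
    rw [hcard, show (p ^ 2) ^ 2 - 1 = (p ^ 2 + 1) * (p ^ 2 - 1) by
      simpa using Nat.sq_sub_sq (p ^ 2) 1, hm]
    ring
  have hdm : ∀ d, δ * d = p ^ 2 + 1 → d = m := fun d hd =>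
    Nat.eq_of_mul_eq_mul_left hδ0 (hd.trans hm)
  have HP : DegreeSquareRecog82.Hyp (Matrix.ProjectiveSpecialLinearGroup (Fin 2) F) p δ m :=
    ⟨hp, hδ, hm.symm, hcard', hone, fun χ => by
      rcases hdeg χ with h | h | h | h | h
      exacts [Or.inl h, Or.inr (Or.inl h), Or.inr (Or.inr (Or.inl h)),
        Or.inr (Or.inr (Or.inr (Or.inl h))), Or.inr (Or.inr (Or.inr (Or.inr (hdm _ h))))]⟩
  have HG : DegreeSquareRecog82.Hyp G p δ m :=
    ⟨hp, hδ, hm.symm, hcardG.trans hcard', fun χ ψ h₁ h₂ =>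
      e.injective (hone _ _ ((he χ).trans h₁) ((he ψ).trans h₂)), fun χ => by
      have := HP.deg (e χ)
      rwa [he] at this⟩
  haveI := DegreeSquareRecog82.simple HG
  rcases hδ with ⟨rfl, rfl⟩ | ⟨rfl, hp2⟩
  · haveI := DegreeSquareRecog82.simple HP
    have h60 : Nat.card (Matrix.ProjectiveSpecialLinearGroup (Fin 2) F) = 60 := by
      rw [hcard']; omega
    obtain ⟨a⟩ := Cfsg.Agent.S0494.result (G := G) (hcardG.trans h60)
    obtain ⟨b⟩ := Cfsg.Agent.S0494.result (G := Matrix.ProjectiveSpecialLinearGroup (Fin 2) F) h60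
    exact ⟨a.trans b.symm⟩
  have hp3 : 3 ≤ p := by have := hp.two_le; omega
  rcases Cfsg.Agent.S0340.result (DegreeSquareRecog82.zassenhaus HG) with
    ⟨F', hF', hF'f, ⟨ψ⟩⟩ | hSz
  · obtain ⟨hq', hmul⟩ : 2 ≤ Nat.card F' ∧ Nat.gcd 2 (Nat.card F' - 1) * Nat.card G =
        Nat.card F' * (Nat.card F' ^ 2 - 1) :=
      ⟨PSLCard.one_lt_card F', by rw [Nat.card_congr ψ.toEquiv, PSLCard.card_PSL2_mul]⟩
    rw [hcardG] at hmul
    suffices heq : Nat.card F' = Nat.card F from ⟨ψ.trans (PSLCard.pslEquivOfCard heq)⟩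
    rw [Nat.card_eq_fintype_card (α := F), hF]
    set q := p ^ 2
    set r := Nat.card F'
    have hq9 : 9 ≤ q := by show 9 ≤ p ^ 2; nlinarith
    have hsq : ∀ x : ℕ, 1 ≤ x → x * (x ^ 2 - 1) + x = x ^ 3 := fun x hx => by
      obtain ⟨k, hk⟩ : ∃ k, x ^ 2 = k + 1 := ⟨x ^ 2 - 1, by have := Nat.one_le_pow 2 x hx; omega⟩
      rw [hk, Nat.add_sub_cancel, pow_succ, hk]; ring
    have hmono : ∀ x y : ℕ, 1 ≤ x → x < y → x * (x ^ 2 - 1) < y * (y ^ 2 - 1) := fun x y hx hxy => by
      have h1 := Nat.pow_lt_pow_left hxy two_ne_zero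
      have h2 : 1 ≤ x ^ 2 := Nat.one_le_pow _ _ hx
      exact Nat.mul_lt_mul'' hxy (by omega)
    rcases Nat.prime_two.eq_one_or_self_of_dvd _ (Nat.gcd_dvd_left 2 (r - 1)) with hg | hg <;>
      rw [hg] at hmul
    swap
    · rw [hcard] at hmul
      rcases lt_trichotomy r q with hlt | heq | hlt
      · exact absurd hmul (hmono r q (by omega) hlt).ne'
      · exact heq
      · exact absurd hmul.symm (hmono q r (by omega) hlt).ne'
    -- the field of even order is impossible
    exfalso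
    rw [one_mul] at hmul
    have hr : Even r := by
      by_contra hodd
      obtain ⟨k, hk⟩ := Nat.not_even_iff_odd.1 hodd
      have : (2 : ℕ) ∣ Nat.gcd 2 (r - 1) := Nat.dvd_gcd dvd_rfl ⟨k, by omega⟩
      rw [hg] at this
      omega
    have h2r : 2 * (r * (r ^ 2 - 1)) = q * (q ^ 2 - 1) := by rw [← hmul, hcard]
    have hlt : r < q := by
      by_contra hge
      rcases (Nat.le_of_not_lt hge).lt_or_eq with h' | h'
      · have := hmono q r (by omega) h'; omega
      · have : 0 < q * (q ^ 2 - 1) := Nat.mul_pos (by omega)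
          (by have : 2 ≤ q ^ 2 := by nlinarith
              omega)
        rw [← h'] at h2r; omega
    have hpr : ¬ p ∣ r := by
      intro hpr
      obtain ⟨⟨c, hc⟩, hprime⟩ : (∃ c, r = 2 * c) ∧ IsPrimePow r := by
        haveI := Fintype.ofFinite F'
        refine ⟨even_iff_two_dvd.1 hr, ?_⟩
        show IsPrimePow (Nat.card F')
        rw [Nat.card_eq_fintype_card]
        exact FiniteField.isPrimePow_card F'
      obtain ⟨l, k, hl, -, hlk⟩ := (isPrimePow_nat_iff r).1 hprime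
      have h1 : p = l := (Nat.prime_dvd_prime_iff_eq hp hl).1 (hp.dvd_of_dvd_pow (hlk ▸ hpr))
      have h2 : 2 = l := (Nat.prime_dvd_prime_iff_eq Nat.prime_two hl).1
        (Nat.prime_two.dvd_of_dvd_pow (hlk ▸ Dvd.intro c hc.symm))
      exact hp2 (h1.trans h2.symm)
    have hqd : q ∣ (r + 1) * (r - 1) := by
      have h1 : q ∣ 2 * r * ((r + 1) * (r - 1)) := by
        rw [show (r + 1) * (r - 1) = r ^ 2 - 1 by simpa using (Nat.sq_sub_sq r 1).symm, mul_assoc,
          h2r]
        exact dvd_mul_right _ _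
      refine (Nat.Coprime.pow_left 2 ?_).dvd_of_dvd_mul_left h1
      exact ((Nat.coprime_primes hp Nat.prime_two).2 hp2).mul_right (hp.coprime_iff_not_dvd.2 hpr)
    have hone' : q ∣ r + 1 ∨ q ∣ r - 1 := by
      by_cases hp1 : p ∣ r + 1
      · refine Or.inl ((Nat.Coprime.pow_left 2 (hp.coprime_iff_not_dvd.2 fun h2 => ?_))
          |>.dvd_of_dvd_mul_right hqd)
        have h22 : p ∣ 2 := by
          have := Nat.dvd_sub hp1 h2
          rwa [show r + 1 - (r - 1) = 2 by omega] at this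
        have := Nat.le_of_dvd two_pos h22
        omega
      · exact Or.inr ((Nat.Coprime.pow_left 2 (hp.coprime_iff_not_dvd.2 hp1))
          |>.dvd_of_dvd_mul_left hqd)
    have hrq : r + 1 = q := by
      rcases hone' with h' | h'
      · have := Nat.le_of_dvd (by omega) h'; omega
      · have := Nat.le_of_dvd (by omega) h'; omega
    have e1 := hsq r (by omega)
    have e2 := hsq q (by omega)
    rw [← hrq] at h2r e2 hq9
    nlinarith
  · -- `3` divides the order of `PSL(2,p²)` but of no Suzuki group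
    exfalso
    obtain ⟨-, k, -, hk⟩ := hSz
    rw [hcardG] at hk
    have h3 : 3 ∣ Nat.card (Matrix.ProjectiveSpecialLinearGroup (Fin 2) F) := by
      have h6 : 3 ∣ 2 * Nat.card (Matrix.ProjectiveSpecialLinearGroup (Fin 2) F) := by
        rw [hcard]
        refine Nat.dvd_of_mod_eq_zero ?_
        have h1 : 1 ≤ (p ^ 2) ^ 2 := Nat.one_le_pow _ _ (by omega)
        rw [Nat.mul_mod]
        have : p % 3 < 3 := Nat.mod_lt _ (by norm_num)
        have e2 : (p ^ 2) ^ 2 % 3 = (p % 3) ^ 4 % 3 := by rw [← pow_mul, Nat.pow_mod]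
        have e1 : p ^ 2 % 3 = (p % 3) ^ 2 % 3 := Nat.pow_mod _ _ _
        interval_cases hc : p % 3 <;> norm_num at e1 e2
        · simp [e1]
        · rw [show ((p ^ 2) ^ 2 - 1) % 3 = 0 by omega]; simp
        · rw [show ((p ^ 2) ^ 2 - 1) % 3 = 0 by omega]; simp
      exact (Nat.Coprime.dvd_mul_left (by norm_num)).1 h6
    rw [hk] at h3
    have hQ : 2 ^ (2 * k + 1) % 3 = 2 := by
      rw [pow_succ, pow_mul, Nat.mul_mod, Nat.pow_mod]; norm_num
    generalize 2 ^ (2 * k + 1) = Q at h3 hQ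
    have e1 : Q ^ 2 % 3 = 1 := by rw [Nat.pow_mod, hQ]
    have e2 : (Q ^ 2 + 1) % 3 = 2 := by omega
    have e3 : (Q - 1) % 3 = 1 := by omega
    have := Nat.mod_eq_zero_of_dvd h3
    rw [Nat.mul_mod, Nat.mul_mod (Q ^ 2), e1, e2, e3] at this
    norm_num at this

end Cfsg.Agent.S3598
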