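import Cfsg.Statements.S3599
import Mathlib
-- import your own Cfsg.Agent.* helpers here

set_option autoImplicit false
open Cfsg

namespace Cfsg.Agent.S3599

/-- The properties of a minimal Frobenius group with kernel prime `p` and complement prime `q`. -/
structure MinFrob (F : Type) [Group F] (p q : ℕ) : Prop where
  ord : ∀ x : F, orderOf x = 1 ∨ orderOf x = p ∨ orderOf x = q
  exP : ∃ x : F, orderOf x = p
  exQ : ∃ x : F, orderOf x = q
  gen : ∀ (H : Subgroup F) (x y : F), x ∈ H → y ∈ H → orderOf x = p → orderOf y = q → H = ⊤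
  ker : ∀ (N : Subgroup F), N.Normal → N ≠ ⊥ → ∀ x : F, orderOf x = p → x ∈ N
  noCentre : ∀ x : F, x ≠ 1 → ∃ y, y * x ≠ x * y
  commP : ∀ x y : F, orderOf x = p → orderOf y = p → x * y = y * x
  nocommQ : ∃ x y : F, orderOf x = q ∧ orderOf y = q ∧ x * y ≠ y * x

section Frob
variable {R : Type} [CommRing R] (ζ : Rˣ)

/-- multiplication action of the powers of `ζ`. -/
def act : ↥(Subgroup.zpowers ζ) →* MulAut (Multiplicative R) where
  toFun t :=
    { toFun := fun v => Multiplicative.ofAdd (((t : Rˣ) : R) * v.toAdd)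
      invFun := fun v => Multiplicative.ofAdd ((((t : Rˣ)⁻¹ : Rˣ) : R) * v.toAdd)
      left_inv := fun v => by simp
      right_inv := fun v => by simp
      map_mul' := fun v w => by simp [mul_add] }
  map_one' := by ext v; simp
  map_mul' a b := by ext v; simp [mul_assoc]

/-- the group `R ⋊ ⟨ζ⟩`. -/
abbrev Aff : Type := Multiplicative R ⋊[act ζ] ↥(Subgroup.zpowers ζ)

/-- translation by `v`. -/
def tr (v : R) : Aff ζ := SemidirectProduct.inl (Multiplicative.ofAdd v)

/-- multiplication by `t`. -/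
def mu (t : ↥(Subgroup.zpowers ζ)) : Aff ζ := SemidirectProduct.inr t

theorem tr_add (v w : R) : tr ζ (v + w) = tr ζ v * tr ζ w := by simp [tr, ofAdd_add]

theorem tr_zero : tr ζ (0 : R) = 1 := by simp [tr]

theorem tr_inj {v w : R} (h : tr ζ v = tr ζ w) : v = w := by simpa [tr] using h

theorem conj_tr (g : Aff ζ) (v : R) :
    g * tr ζ v * g⁻¹ = tr ζ (((g.right : Rˣ) : R) * v) := by
  rw [mul_inv_eq_iff_eq_mul]
  apply SemidirectProduct.ext
  · apply Multiplicative.toAdd.injective
    simp only [tr, SemidirectProduct.mul_left, SemidirectProduct.mul_right, SemidirectProduct.left_inl, SemidirectProduct.right_inl]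
    simp [act]
    try ring
  · simp [tr]

theorem conj_mu (w : R) (t : ↥(Subgroup.zpowers ζ)) :
    tr ζ w * mu ζ t * (tr ζ w)⁻¹ = tr ζ ((1 - ((t : Rˣ) : R)) * w) * mu ζ t := by
  apply SemidirectProduct.ext
  · apply Multiplicative.toAdd.injective
    simp only [tr, mu, SemidirectProduct.mul_left, SemidirectProduct.mul_right, SemidirectProduct.inv_left, SemidirectProduct.inv_right, SemidirectProduct.left_inl, SemidirectProduct.right_inl, SemidirectProduct.left_inr, SemidirectProduct.right_inr]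
    simp [act]
    try ring
  · simp [tr, mu]

theorem eq_tr {g : Aff ζ} (h : g.right = 1) : g = tr ζ g.left.toAdd := by
  apply SemidirectProduct.ext
  · simp [tr]
  · simp [tr, h]

variable [IsDomain R] [Finite R]
variable (hgen : Subring.closure {(ζ : R)} = ⊤)

theorem mul_surj {c : R} (hc : c ≠ 0) (r : R) : ∃ w, c * w = r :=
  (Finite.injective_iff_surjective.1 (mul_right_injective₀ hc)) r

omit [IsDomain R] [Finite R] in
theorem one_sub_ne {t : ↥(Subgroup.zpowers ζ)} (ht : t ≠ 1) : (1 : R) - ((t : Rˣ) : R) ≠ 0 := by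
  intro h
  apply ht
  have h1 : ((t : Rˣ) : R) = 1 := (sub_eq_zero.1 h).symm
  exact Subtype.ext (Units.ext h1)

theorem is_conj_mu {g : Aff ζ} (h : g.right ≠ 1) :
    ∃ w, g = tr ζ w * mu ζ g.right * (tr ζ w)⁻¹ := by
  obtain ⟨w, hw⟩ := mul_surj (one_sub_ne ζ h) g.left.toAdd
  refine ⟨w, ?_⟩
  rw [conj_mu, hw]
  exact (SemidirectProduct.inl_left_mul_inr_right g).symm

include hgen in
theorem all_tr (H : Subgroup (Aff ζ)) (v : R) (hv : v ≠ 0) (hvH : tr ζ v ∈ H)
    (hz : ∀ r, tr ζ r ∈ H → tr ζ ((ζ : R) * r) ∈ H) (r : R) : tr ζ r ∈ H := by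
  let S : AddSubgroup R :=
    { carrier := {r | tr ζ r ∈ H}
      add_mem' := fun {a b} ha hb => by
        simpa [tr_add] using H.mul_mem ha hb
      zero_mem' := by simpa [tr_zero] using H.one_mem
      neg_mem' := fun {a} ha => by
        have : tr ζ (-a) = (tr ζ a)⁻¹ := by
          rw [eq_inv_iff_mul_eq_one, ← tr_add]; simp [tr_zero]
        simpa [this] using H.inv_mem ha }
  let T : Subring R :=
    { carrier := {c | ∀ x ∈ S, c * x ∈ S}
      mul_mem' := fun {a b} ha hb x hx => by rw [mul_assoc]; exact ha _ (hb x hx)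
      one_mem' := fun x hx => by simpa using hx
      add_mem' := fun {a b} ha hb x hx => by rw [add_mul]; exact S.add_mem (ha x hx) (hb x hx)
      zero_mem' := fun x _ => by rw [zero_mul]; exact S.zero_mem
      neg_mem' := fun {a} ha x hx => by rw [neg_mul]; exact S.neg_mem (ha x hx) }
  have hT : (⊤ : Subring R) ≤ T := by
    rw [← hgen, Subring.closure_le]
    intro c hc
    rw [Set.mem_singleton_iff.1 hc]
    exact fun x hx => hz x hx
  obtain ⟨c, rfl⟩ := mul_surj hv r
  have := hT (Subring.mem_top c) v hvH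
  rwa [mul_comm] at this

include hgen in
theorem aff_minFrob (p q : ℕ) [CharP R p] (hp : p.Prime) (hq : q.Prime) (hζ : orderOf ζ = q) :
    MinFrob (Aff ζ) p q := by
  have : Fact p.Prime := ⟨hp⟩
  have : Fact q.Prime := ⟨hq⟩
  have hinj : Function.Injective (mu ζ) := SemidirectProduct.inr_injective
  have hordmu : ∀ t : ↥(Subgroup.zpowers ζ), t ≠ 1 → orderOf t = q := by
    intro t ht
    have hd : orderOf t ∣ q := by
      have := orderOf_dvd_natCard t
      rwa [Nat.card_zpowers, hζ] at this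
    rcases hq.eq_one_or_self_of_dvd _ hd with h | h
    · exact absurd (orderOf_eq_one_iff.1 h) ht
    · exact h
  have hordtr : ∀ v : R, v ≠ 0 → orderOf (tr ζ v) = p := by
    intro v hv
    apply orderOf_eq_prime
    · have : (tr ζ v) ^ p = tr ζ (p • v) := by
        simp [tr, ← map_pow, ← ofAdd_nsmul]
      rw [this, nsmul_eq_mul, CharP.cast_eq_zero, zero_mul, tr_zero]
    · intro h
      exact hv (tr_inj ζ (h.trans (tr_zero ζ).symm))
  have hordg : ∀ g : Aff ζ, g.right ≠ 1 → orderOf g = q := by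
    intro g hg
    obtain ⟨w, hw⟩ := is_conj_mu ζ hg
    rw [hw]
    calc orderOf (tr ζ w * mu ζ g.right * (tr ζ w)⁻¹)
        = orderOf (MulAut.conj (tr ζ w) (mu ζ g.right)) := rfl
      _ = orderOf (mu ζ g.right) := orderOf_injective (MulAut.conj (tr ζ w)).toMonoidHom (MulAut.conj (tr ζ w)).injective _
      _ = q := (orderOf_injective SemidirectProduct.inr SemidirectProduct.inr_injective g.right).trans (hordmu _ hg)
  have hpq : p ≠ q := by
    intro h
    have h1 : (ζ : R) ^ p = 1 := by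
      rw [h, ← hζ]; rw [← Units.val_pow_eq_pow_val, pow_orderOf_eq_one, Units.val_one]
    have h2 : frobenius R p (ζ : R) = frobenius R p 1 := by simpa [frobenius_def] using h1
    have h3 : (ζ : R) = 1 := frobenius_inj R p h2
    have : ζ = 1 := Units.ext h3
    rw [this, orderOf_one] at hζ
    exact hq.ne_one hζ.symm
  have hright : ∀ g : Aff ζ, orderOf g = p → g.right = 1 := by
    intro g hg
    by_contra h
    exact hpq ((hg.symm.trans (hordg g h)))
  let z : ↥(Subgroup.zpowers ζ) := ⟨ζ, Subgroup.mem_zpowers ζ⟩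
  have hz1 : z ≠ 1 := by
    intro h
    have : ζ = 1 := congrArg Subtype.val h
    rw [this, orderOf_one] at hζ
    exact hq.ne_one hζ.symm
  have hzneq : ((z : Rˣ) : R) ≠ 1 := fun h => hz1 (Subtype.ext (Units.ext h))
  have hmuz : orderOf (mu ζ z) = q := hordg _ (by simpa [mu] using hz1)
  refine
    { ord := ?_, exP := ⟨_, hordtr 1 one_ne_zero⟩, exQ := ⟨_, hmuz⟩, gen := ?_, ker := ?_,
      noCentre := ?_, commP := ?_, nocommQ := ?_ }
  · intro g
    by_cases h : g.right = 1
    · rw [eq_tr ζ h]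
      by_cases h0 : g.left.toAdd = 0
      · left; rw [h0, tr_zero, orderOf_one]
      · exact Or.inr (Or.inl (hordtr _ h0))
    · exact Or.inr (Or.inr (hordg g h))
  · intro H x y hx hy hox hoy
    have hxr := hright x hox
    have hx0 : x.left.toAdd ≠ 0 := by
      intro h
      rw [eq_tr ζ hxr, h, tr_zero, orderOf_one] at hox
      exact hp.ne_one hox.symm
    have hyr : y.right ≠ 1 := by
      intro h
      rw [eq_tr ζ h] at hoy
      by_cases h0 : y.left.toAdd = 0
      · rw [h0, tr_zero, orderOf_one] at hoy; exact hq.ne_one hoy.symm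
      · exact hpq ((hordtr _ h0).symm.trans hoy)
    obtain ⟨k, hk⟩ := mem_powers_iff_mem_zpowers.2
      (mem_zpowers_of_prime_card (p := q) (by rw [Nat.card_zpowers, hζ]) hyr : z ∈ Subgroup.zpowers y.right)
    have hk' : (y ^ k).right = z := by
      rw [show (y ^ k).right = SemidirectProduct.rightHom (y ^ k) from rfl, map_pow]
      exact hk
    have hall : ∀ r, tr ζ r ∈ H := by
      apply all_tr ζ hgen H x.left.toAdd hx0
      · rw [← eq_tr ζ hxr]; exact hx
      · intro r hr
        have := H.mul_mem (H.mul_mem (H.pow_mem hy k) hr) (H.inv_mem (H.pow_mem hy k))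
        rwa [conj_tr, hk'] at this
    rw [Subgroup.eq_top_iff']
    intro g
    have hgy : ∀ j : ℕ, ∀ g : Aff ζ, g.right = (y ^ j).right → g ∈ H := by
      intro j g hj
      have h1 : (g * (y ^ j)⁻¹).right = 1 := by simp [hj]
      have := H.mul_mem (hall (g * (y ^ j)⁻¹).left.toAdd) (H.pow_mem hy j)
      rwa [← eq_tr ζ h1, inv_mul_cancel_right] at this
    obtain ⟨j, hj⟩ := mem_powers_iff_mem_zpowers.2
      (mem_zpowers_of_prime_card (p := q) (by rw [Nat.card_zpowers, hζ]) hyr : g.right ∈ Subgroup.zpowers y.right)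
    apply hgy j g
    rw [show (y ^ j).right = SemidirectProduct.rightHom (y ^ j) from rfl, map_pow]
    exact hj.symm
  · intro N hN hne x hx
    obtain ⟨⟨n, hn⟩, hn1'⟩ := Subgroup.ne_bot_iff_exists_ne_one.1 hne
    have hn1 : n ≠ 1 := fun h => hn1' (Subtype.ext h)
    have key : ∃ v, v ≠ 0 ∧ tr ζ v ∈ N := by
      by_cases h : n.right = 1
      · refine ⟨n.left.toAdd, fun h0 => hn1 ?_, ?_⟩
        · rw [eq_tr ζ h, h0, tr_zero]
        · rw [← eq_tr ζ h]; exact hn
      · refine ⟨((n.right : Rˣ) : R) * 1 + -1, ?_, ?_⟩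
        · have := one_sub_ne ζ h
          intro h0; apply this; linear_combination -h0
        · have h1 := N.mul_mem hn (hN.conj_mem _ (N.inv_mem hn) (tr ζ 1))
          have h2 : n * (tr ζ 1 * n⁻¹ * (tr ζ 1)⁻¹) = (n * tr ζ 1 * n⁻¹) * tr ζ (-1) := by
            have : (tr ζ (1 : R))⁻¹ = tr ζ (-1) := by
              rw [inv_eq_iff_mul_eq_one, ← tr_add]; simp [tr_zero]
            rw [this]; group
          rw [h2, conj_tr, ← tr_add] at h1
          exact h1
    obtain ⟨v, hv, hvN⟩ := key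
    rw [eq_tr ζ (hright x hx)]
    apply all_tr ζ hgen N v hv hvN
    intro r hr
    have := hN.conj_mem _ hr (mu ζ z)
    rwa [conj_tr] at this
  · intro x hx
    by_cases h : x.right = 1
    · refine ⟨mu ζ z, fun hc => hx ?_⟩
      have h2 : mu ζ z * x * (mu ζ z)⁻¹ = x := by rw [hc, mul_inv_cancel_right]
      rw [eq_tr ζ h, conj_tr] at h2
      have h3 : ((z : Rˣ) : R) * x.left.toAdd = x.left.toAdd := tr_inj ζ h2
      have h4 : (((z : Rˣ) : R) - 1) * x.left.toAdd = 0 := by rw [sub_mul, h3]; ring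
      rcases mul_eq_zero.1 h4 with h5 | h5
      · exact absurd (sub_eq_zero.1 h5) hzneq
      · rw [eq_tr ζ h, h5, tr_zero]
    · refine ⟨tr ζ 1, fun hc => ?_⟩
      have h2 : x * tr ζ 1 * x⁻¹ = tr ζ 1 := by rw [← hc, mul_inv_cancel_right]
      rw [conj_tr] at h2
      have h3 := tr_inj ζ h2
      exact one_sub_ne ζ h (by linear_combination -h3)
  · intro x y hx hy
    rw [eq_tr ζ (hright x hx), eq_tr ζ (hright y hy), ← tr_add, ← tr_add, add_comm]
  · refine ⟨mu ζ z, tr ζ 1 * mu ζ z * (tr ζ 1)⁻¹, hmuz, ?_, fun hc => ?_⟩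
    · exact hordg _ (by
        simp only [tr, mu, SemidirectProduct.mul_right, SemidirectProduct.inv_right, SemidirectProduct.right_inl, SemidirectProduct.right_inr]
        simpa using hz1)
    · rw [conj_mu] at hc
      have := congrArg (fun g : Aff ζ => g.left.toAdd) hc
      simp only [tr, mu, SemidirectProduct.mul_left, SemidirectProduct.mul_right, SemidirectProduct.left_inl, SemidirectProduct.right_inl, SemidirectProduct.left_inr, SemidirectProduct.right_inr] at this
      simp [act] at this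
      have h4 : (((z : Rˣ) : R) - 1) * (1 - ((z : Rˣ) : R)) = 0 := by linear_combination this
      rcases mul_eq_zero.1 h4 with h5 | h5
      · exact hzneq (sub_eq_zero.1 h5)
      · exact hzneq (sub_eq_zero.1 h5).symm

end Frob

theorem exists_minFrob (p q : ℕ) (hp : p.Prime) (hq : q.Prime) (hpq : p ≠ q) :
    ∃ (F : Type) (_ : Group F) (_ : Fintype F), MinFrob F p q := by
  have : Fact p.Prime := ⟨hp⟩
  have : Fact q.Prime := ⟨hq⟩
  have hn : q - 1 ≠ 0 := by have := hq.two_le; omega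
  classical
  have : Fintype (GaloisField p (q - 1)) := Fintype.ofFinite _
  have hcard : Fintype.card (GaloisField p (q - 1))ˣ = p ^ (q - 1) - 1 := by
    rw [Fintype.card_units, ← Nat.card_eq_fintype_card, GaloisField.card p _ hn]
  have hd : q ∣ Fintype.card (GaloisField p (q - 1))ˣ := by
    rw [hcard, ← Nat.modEq_iff_dvd' (Nat.one_le_pow _ _ hp.pos)]
    have h := Nat.ModEq.pow_totient ((Nat.coprime_primes hp hq).2 hpq)
    rw [Nat.totient_prime hq] at h
    exact h.symm
  obtain ⟨u, hu⟩ := exists_prime_orderOf_dvd_card q hd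
  let S : Subring (GaloisField p (q - 1)) := Subring.closure {(u : GaloisField p (q - 1))}
  let a : S := ⟨(u : GaloisField p (q - 1)), Subring.subset_closure rfl⟩
  have ha : a ^ q = 1 := by
    apply Subtype.ext
    have h := pow_orderOf_eq_one u
    rw [hu] at h
    have h' := congrArg Units.val h
    simpa [a] using h'
  let ζ : Sˣ := Units.ofPowEqOne a q ha hq.ne_zero
  have hζ : orderOf ζ = q := by
    rw [← orderOf_units]
    show orderOf a = q
    rw [← orderOf_injective S.subtype.toMonoidHom Subtype.val_injective]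
    show orderOf (u : GaloisField p (q - 1)) = q
    rw [orderOf_units, hu]
  have hgen : Subring.closure {(ζ : S)} = ⊤ := by
    rw [eq_top_iff]
    rintro ⟨x, hx⟩ -
    refine Subring.closure_induction (p := fun x hx => (⟨x, hx⟩ : S) ∈ Subring.closure {(ζ : S)})
      ?_ ?_ ?_ ?_ ?_ ?_ hx
    · intro y hy
      obtain rfl := Set.mem_singleton_iff.1 hy
      exact Subring.subset_closure rfl
    · exact Subring.zero_mem _
    · exact Subring.one_mem _
    · intro y w _ _ h1 h2; exact Subring.add_mem _ h1 h2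
    · intro y _ h1; exact Subring.neg_mem _ h1
    · intro y w _ _ h1 h2; exact Subring.mul_mem _ h1 h2
  have : CharP S p := CharP.subring (GaloisField p (q - 1)) p S
  have : Finite S := Subtype.finite
  have : Finite Sˣ := inferInstance
  have : Finite (Aff ζ) := Finite.of_equiv _ SemidirectProduct.equivProd.symm
  exact ⟨Aff ζ, inferInstance, Fintype.ofFinite _, aff_minFrob ζ hgen p q hp hq hζ⟩

section Prod
variable {s : ℕ} (P Q : Fin s → ℕ)

/-- admissible products. -/
def Allowed : Set ℕ :=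
  {m : ℕ | ∃ c : Fin s → ℕ, (∀ j, c j = 1 ∨ c j = P j ∨ c j = Q j) ∧ m = ∏ j, c j}

end Prod

theorem prod_coprime {s : ℕ} (P Q : Fin s → ℕ) (hP : ∀ j, (P j).Prime) (hQ : ∀ j, (Q j).Prime)
    (hdis : ∀ i j, i ≠ j → P i ≠ P j ∧ P i ≠ Q j ∧ Q i ≠ Q j ∧ Q i ≠ P j) (c : Fin s → ℕ)
    (hc : ∀ j, c j = 1 ∨ c j = P j ∨ c j = Q j) (i j : Fin s) (hij : i ≠ j) :
    Nat.Coprime (c i) (c j) := by
  obtain ⟨h1, h2, h3, h4⟩ := hdis i j hij
  rcases hc i with h | h | h <;> rcases hc j with h' | h' | h' <;> rw [h, h'] <;>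
    first
      | exact Nat.coprime_one_left _
      | exact Nat.coprime_one_right _
      | exact (Nat.coprime_primes (hP i) (hP j)).2 h1
      | exact (Nat.coprime_primes (hP i) (hQ j)).2 h2
      | exact (Nat.coprime_primes (hQ i) (hQ j)).2 h3
      | exact (Nat.coprime_primes (hQ i) (hP j)).2 h4

section Main
variable {s : ℕ} {F : Fin s → Type} [∀ j, Group (F j)] [∀ j, Fintype (F j)] {P Q : Fin s → ℕ}
  (hP : ∀ j, (P j).Prime) (hQ : ∀ j, (Q j).Prime)
  (hdis : ∀ i j, i ≠ j → P i ≠ P j ∧ P i ≠ Q j ∧ Q i ≠ Q j ∧ Q i ≠ P j)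
  (hF : ∀ j, MinFrob (F j) (P j) (Q j))

include hP hQ hdis hF in
theorem orderOf_prod (x : ∀ j, F j) : orderOf x = ∏ j, orderOf (x j) := by
  apply Nat.dvd_antisymm
  · apply orderOf_dvd_of_pow_eq_one
    funext j
    rw [Pi.pow_apply, Pi.one_apply, ← orderOf_dvd_iff_pow_eq_one]
    exact Finset.dvd_prod_of_mem _ (Finset.mem_univ j)
  · apply Fintype.prod_dvd_of_isRelPrime
    · intro i j hij
      apply Nat.coprime_iff_isRelPrime.1
      exact prod_coprime P Q hP hQ hdis (fun j => orderOf (x j)) (fun j => (hF j).ord _) i j hij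
    · intro j
      exact orderOf_map_dvd (Pi.evalMonoidHom F j) x

include hP hQ hdis hF in
theorem range_order : Set.range (orderOf : (∀ j, F j) → ℕ) = Allowed P Q := by
  ext m
  constructor
  · rintro ⟨x, rfl⟩
    exact ⟨fun j => orderOf (x j), fun j => (hF j).ord _, orderOf_prod hP hQ hdis hF x⟩
  · rintro ⟨c, hc, rfl⟩
    have h : ∀ j, ∃ x : F j, orderOf x = c j := fun j => by
      rcases hc j with h | h | h <;> rw [h]
      · exact ⟨1, orderOf_one⟩
      · exact (hF j).exP
      · exact (hF j).exQ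
    choose x hx using h
    exact ⟨x, by rw [orderOf_prod hP hQ hdis hF x]; simp [hx]⟩

include hP hQ hdis hF in
theorem coord_mem (H : Subgroup (∀ j, F j)) (x : ∀ j, F j) (hx : x ∈ H) (j : Fin s)
    (r : ℕ) (hr : r.Prime) (hxj : orderOf (x j) = r) :
    ∃ y : F j, orderOf y = r ∧ Pi.mulSingle j y ∈ H := by
  set k := ∏ l ∈ Finset.univ.erase j, orderOf (x l) with hk
  have hco : Nat.Coprime r k := by
    rw [← hxj]
    exact Nat.Coprime.prod_right fun l hl =>
      prod_coprime P Q hP hQ hdis (fun j => orderOf (x j)) (fun j => (hF j).ord _) j l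
        (Finset.ne_of_mem_erase hl).symm
  refine ⟨x j ^ k, ?_, ?_⟩
  · rw [(show (orderOf (x j)).Coprime k by rw [hxj]; exact hco).orderOf_pow, hxj]
  · have : Pi.mulSingle j (x j ^ k) = x ^ k := by
      funext l
      by_cases hl : l = j
      · subst hl; simp
      · rw [Pi.mulSingle_eq_of_ne hl, Pi.pow_apply, eq_comm, ← orderOf_dvd_iff_pow_eq_one]
        exact Finset.dvd_prod_of_mem (fun l => orderOf (x l)) (Finset.mem_erase.2 ⟨hl, Finset.mem_univ l⟩)
    rw [this]; exact H.pow_mem hx k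

omit [∀ j, Fintype (F j)] in
theorem allowed_eq_of_dvd {c : Fin s → ℕ} (hc : ∀ j, c j = 1 ∨ c j = P j ∨ c j = Q j)
    (hdis : ∀ i j, i ≠ j → P i ≠ P j ∧ P i ≠ Q j ∧ Q i ≠ Q j ∧ Q i ≠ P j)
    (hP : ∀ j, (P j).Prime) (hQ : ∀ j, (Q j).Prime)
    {r : ℕ} (hr : r.Prime) {j : Fin s} (hrj : r = P j ∨ r = Q j) (h : r ∣ ∏ i, c i) : c j = r := by
  obtain ⟨i, -, hi⟩ := (hr.prime.dvd_finsetProd_iff _).1 h
  have hij : i = j := by
    by_contra hne
    obtain ⟨h1, h2, h3, h4⟩ := hdis i j hne
    rcases hc i with h' | h' | h' <;> rw [h'] at hi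
    · exact hr.not_dvd_one hi
    · have := (Nat.prime_dvd_prime_iff_eq hr (hP i)).1 hi
      rcases hrj with e | e <;> rw [e] at this
      · exact h1 this.symm
      · exact h2 this.symm
    · have := (Nat.prime_dvd_prime_iff_eq hr (hQ i)).1 hi
      rcases hrj with e | e <;> rw [e] at this
      · exact h4 this.symm
      · exact h3 this.symm
  subst hij
  rcases hc i with h' | h' | h' <;> rw [h'] at hi
  · exact absurd hi hr.not_dvd_one
  · rw [h', (Nat.prime_dvd_prime_iff_eq hr (hP i)).1 hi]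
  · rw [h', (Nat.prime_dvd_prime_iff_eq hr (hQ i)).1 hi]

include hP hQ hdis hF in
theorem critical (hs : 1 ≤ s) (H : Subgroup (∀ j, F j)) (N : Subgroup ↥H) [N.Normal]
    (h : H ≠ ⊤ ∨ N ≠ ⊥) : Set.range (orderOf : (↥H ⧸ N) → ℕ) ≠ Allowed P Q := by
  intro he
  -- elements of maximal orders
  have hlift : ∀ c : Fin s → ℕ, (∀ j, c j = P j ∨ c j = Q j) →
      ∃ g : ↥H, orderOf (QuotientGroup.mk g : ↥H ⧸ N) = ∏ j, c j ∧
        ∀ j, orderOf ((g : ∀ j, F j) j) = c j := by
    intro c hc
    have hm : (∏ j, c j) ∈ Set.range (orderOf : (↥H ⧸ N) → ℕ) := by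
      rw [he]; exact ⟨c, fun j => Or.inr (hc j), rfl⟩
    obtain ⟨g', hg'⟩ := hm
    obtain ⟨g, rfl⟩ := QuotientGroup.mk_surjective g'
    refine ⟨g, hg', fun j => ?_⟩
    apply allowed_eq_of_dvd (fun j => (hF j).ord ((g : ∀ j, F j) j)) hdis hP hQ
    · rcases hc j with e | e <;> rw [e]
      exacts [hP j, hQ j]
    · exact hc j
    · rw [← orderOf_prod hP hQ hdis hF, Subgroup.orderOf_coe]
      calc c j ∣ ∏ j, c j := Finset.dvd_prod_of_mem _ (Finset.mem_univ j)
        _ ∣ orderOf g := hg' ▸ orderOf_map_dvd (QuotientGroup.mk' N) g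
  obtain ⟨gp, -, hgp⟩ := hlift P (fun j => Or.inl rfl)
  obtain ⟨gq, -, hgq⟩ := hlift Q (fun j => Or.inr rfl)
  have hsingle : ∀ j (y : F j), Pi.mulSingle j y ∈ H := by
    intro j y
    obtain ⟨a, ha, haH⟩ := coord_mem hP hQ hdis hF H gp gp.2 j (P j) (hP j) (hgp j)
    obtain ⟨b, hb, hbH⟩ := coord_mem hP hQ hdis hF H gq gq.2 j (Q j) (hQ j) (hgq j)
    have := (hF j).gen (H.comap (MonoidHom.mulSingle F j)) a b haH hbH ha hb
    exact (this ▸ Subgroup.mem_top y : y ∈ H.comap (MonoidHom.mulSingle F j))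
  have hH : H = ⊤ := by
    rw [Subgroup.eq_top_iff']
    intro x
    exact Subgroup.pi_mem_of_mulSingle_mem x (fun j => hsingle j _)
  have hN : N ≠ ⊥ := h.resolve_left (not_not.2 hH)
  obtain ⟨⟨n, hnN⟩, hn1⟩ := Subgroup.ne_bot_iff_exists_ne_one.1 hN
  have hn1' : n ≠ 1 := fun h => hn1 (Subtype.ext h)
  have hn1'' : (n : ∀ j, F j) ≠ 1 := fun h => hn1' (Subtype.ext h)
  obtain ⟨j, hj⟩ := Function.ne_iff.1 hn1''
  let ι : F j →* ↥H := (MonoidHom.mulSingle F j).codRestrict H (hsingle j)
  have hιv : ∀ y, ((ι y : ↥H) : ∀ j, F j) = Pi.mulSingle j y := fun _ => rfl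
  obtain ⟨y, hy⟩ := (hF j).noCentre _ hj
  have hcomm : ι (y * (n : ∀ j, F j) j * y⁻¹ * ((n : ∀ j, F j) j)⁻¹) ∈ N := by
    have h1 : ι y * n * (ι y)⁻¹ * n⁻¹ ∈ N := N.mul_mem (Subgroup.Normal.conj_mem ‹N.Normal› n hnN (ι y)) (N.inv_mem hnN)
    convert h1 using 1
    apply Subtype.ext
    funext l
    by_cases hl : l = j
    · subst hl; simp [hιv]
    · simp [hιv, Pi.mulSingle_eq_of_ne hl]
  have hne : N.comap ι ≠ ⊥ := by
    intro hb
    have : y * (n : ∀ j, F j) j * y⁻¹ * ((n : ∀ j, F j) j)⁻¹ ∈ (⊥ : Subgroup (F j)) := hb ▸ hcomm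
    rw [Subgroup.mem_bot, mul_inv_eq_one, mul_inv_eq_iff_eq_mul] at this
    exact hy this
  have hker := (hF j).ker (N.comap ι) (Subgroup.Normal.comap ‹N.Normal› ι) hne
  obtain ⟨g, hg, hgc⟩ := hlift P (fun j => Or.inl rfl)
  have hmem : ι ((g : ∀ j, F j) j) ∈ N := hker _ (hgc j)
  have hq : (QuotientGroup.mk (g * (ι ((g : ∀ j, F j) j))⁻¹) : ↥H ⧸ N) = QuotientGroup.mk g := by
    rw [eq_comm, QuotientGroup.eq]
    rw [← mul_assoc, inv_mul_cancel, one_mul]
    exact N.inv_mem hmem
  have hd : (∏ i, P i) ∣ ∏ i, orderOf (((g * (ι ((g : ∀ j, F j) j))⁻¹ : ↥H) : ∀ j, F j) i) := by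
    rw [← orderOf_prod hP hQ hdis hF, Subgroup.orderOf_coe, ← hg, ← hq]
    exact orderOf_map_dvd (QuotientGroup.mk' N) _
  have := allowed_eq_of_dvd (fun i => (hF i).ord _) hdis hP hQ (hP j) (Or.inl rfl)
    ((Finset.dvd_prod_of_mem P (Finset.mem_univ j)).trans hd)
  simp [hιv] at this
  exact (hP j).ne_one this.symm

include hP hQ hdis hF in
theorem commute_iff_kernel (j : Fin s) (r : ℕ) (hr : r = P j ∨ r = Q j) :
    (∀ x y : (∀ j, F j), orderOf x = r → orderOf y = r → x * y = y * x) ↔ r = P j := by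
  constructor
  · intro h
    by_contra hne
    obtain ⟨a, b, ha, hb, hab⟩ := (hF j).nocommQ
    have hrq : r = Q j := hr.resolve_left hne
    have hinj : Function.Injective (MonoidHom.mulSingle F j) := Pi.mulSingle_injective j
    apply hab
    apply hinj
    simp only [map_mul]
    exact h _ _ (by rw [orderOf_injective _ hinj, ha, hrq]) (by rw [orderOf_injective _ hinj, hb, hrq])
  · intro h x y hx hy
    have hrp : r.Prime := h ▸ hP j
    have hcoord : ∀ x : (∀ j, F j), orderOf x = r → ∀ l, l ≠ j → x l = 1 := by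
      intro x hx l hl
      have hd : orderOf (x l) ∣ r := hx ▸ orderOf_map_dvd (Pi.evalMonoidHom F l) x
      rcases hrp.eq_one_or_self_of_dvd _ hd with h' | h'
      · exact orderOf_eq_one_iff.1 h'
      · exfalso
        obtain ⟨h1, h2, h3, h4⟩ := hdis l j hl
        rcases (hF l).ord (x l) with e | e | e <;> rw [h'] at e
        · exact hrp.ne_one e
        · exact h1 (e.symm.trans h)
        · exact h4 (e.symm.trans h)
    funext l
    by_cases hl : l = j
    · subst hl
      have key : ∀ x : (∀ j, F j), orderOf x = r → orderOf (x l) = P l := by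
        intro x hx
        exact allowed_eq_of_dvd (fun i => (hF i).ord (x i)) hdis hP hQ (hP l) (Or.inl rfl)
          (by rw [← orderOf_prod hP hQ hdis hF, hx, h])
      exact (hF l).commP _ _ (key x hx) (key y hy)
    · simp [hcoord x hx l hl]

end Main

/-- A finite group is critical with respect to a set Ω of natural numbers when its set of element orders is Ω while no proper section H/N (H a subgroup, N normal in H, (H, N) ≠ (whole group, 1)) has Ω as its set of element orders. Let s ≥ 1 and let p(j,0), p(j,1) (j < s) be 2s pairwise distinct primes, and let Ω be the set of all products c(0)·…·c(s−1) with each c(j) ∈ {1, p(j,0), p(j,1)}. Then there are 2^s pairwise non-isomorphic finite groups critical with respect to Ω. -/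
theorem result (s : ℕ) (hs : 1 ≤ s) (p : Fin s → Fin 2 → ℕ)
    (hp : ∀ j i, (p j i).Prime) (hinj : ∀ j i j' i', p j i = p j' i' → j = j' ∧ i = i') :
    ∃ (G : Fin (2 ^ s) → Type) (_ : ∀ a, Group (G a)) (_ : ∀ a, Fintype (G a)),
      (∀ a b, a ≠ b → ¬ Nonempty (G a ≃* G b)) ∧
      ∀ a, Set.range (orderOf : (G a) → ℕ) = {m : ℕ | ∃ c : Fin s → ℕ, (∀ j, c j = 1 ∨ c j = p j 0 ∨ c j = p j 1) ∧ m = ∏ j, c j} ∧
      ∀ (H : Subgroup (G a)) (N : Subgroup ↥H) [N.Normal], (H ≠ ⊤ ∨ N ≠ ⊥) → Set.range (orderOf : (↥H ⧸ N) → ℕ) ≠ {m : ℕ | ∃ c : Fin s → ℕ, (∀ j, c j = 1 ∨ c j = p j 0 ∨ c j = p j 1) ∧ m = ∏ j, c j} := by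
  classical
  let b : Fin (2 ^ s) ≃ (Fin s → Fin 2) := finFunctionFinEquiv.symm
  have hex : ∀ (a : Fin (2 ^ s)) (j : Fin s), ∃ (F : Type) (_ : Group F) (_ : Fintype F),
      MinFrob F (p j (b a j)) (p j (1 - b a j)) := by
    intro a j
    apply exists_minFrob _ _ (hp _ _) (hp _ _)
    intro h
    have h2 := (hinj _ _ _ _ h).2
    revert h2
    generalize b a j = e
    fin_cases e <;> decide
  choose F iG iF hF using hex
  have hdis : ∀ (u v : Fin s → Fin 2), ∀ i j, i ≠ j → p i (u i) ≠ p j (u j) ∧ p i (u i) ≠ p j (v j) ∧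
      p i (v i) ≠ p j (v j) ∧ p i (v i) ≠ p j (u j) := fun u v i j hij =>
    ⟨fun h => hij (hinj _ _ _ _ h).1, fun h => hij (hinj _ _ _ _ h).1,
     fun h => hij (hinj _ _ _ _ h).1, fun h => hij (hinj _ _ _ _ h).1⟩
  have hall : ∀ a, Allowed (fun j => p j (b a j)) (fun j => p j (1 - b a j)) =
      {m : ℕ | ∃ c : Fin s → ℕ, (∀ j, c j = 1 ∨ c j = p j 0 ∨ c j = p j 1) ∧ m = ∏ j, c j} := by
    intro a
    have hc : ∀ (x : ℕ) j, (x = 1 ∨ x = p j (b a j) ∨ x = p j (1 - b a j)) ↔
        (x = 1 ∨ x = p j 0 ∨ x = p j 1) := by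
      intro x j
      generalize b a j = e
      fin_cases e <;> simp <;> tauto
    simp only [Allowed, hc]
  refine ⟨fun a => ∀ j, F a j, fun a => inferInstance, fun a => inferInstance, ?_, fun a => ⟨?_, ?_⟩⟩
  · rintro a a' hne ⟨φ⟩
    have : b a ≠ b a' := b.injective.ne hne
    obtain ⟨j, hj⟩ := Function.ne_iff.1 this
    have h1 := (commute_iff_kernel (fun i => hp _ _) (fun i => hp _ _) (hdis (b a) (fun i => 1 - b a i))
      (hF a) j (p j (b a j)) (Or.inl rfl)).2 rfl
    have h2 : ∀ x y : (∀ i, F a' i), orderOf x = p j (b a j) → orderOf y = p j (b a j) → x * y = y * x := by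
      intro x y hx hy
      apply φ.symm.injective
      simp only [map_mul]
      exact h1 _ _ (by rw [MulEquiv.orderOf_eq, hx]) (by rw [MulEquiv.orderOf_eq, hy])
    have h3 := (commute_iff_kernel (fun i => hp _ _) (fun i => hp _ _) (hdis (b a') (fun i => 1 - b a' i))
      (hF a') j (p j (b a j)) (Or.inr (by
        congr 1
        revert hj
        generalize b a j = e
        generalize b a' j = e'
        fin_cases e <;> fin_cases e' <;> decide))).1 h2
    exact hj (hinj _ _ _ _ h3).2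
  · rw [← hall a]
    exact range_order (fun i => hp _ _) (fun i => hp _ _) (hdis (b a) (fun i => 1 - b a i)) (hF a)
  · intro H N _ hHN
    rw [← hall a]
    exact critical (fun i => hp _ _) (fun i => hp _ _) (hdis (b a) (fun i => 1 - b a i)) (hF a) hs H N hHN

end Cfsg.Agent.S3599
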