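import Cfsg.Statements.S3600
import Cfsg.Agent.S3433
import Cfsg.Agent.Lib.CriticalFive8Main

set_option autoImplicit false
open Cfsg

namespace Cfsg.Agent.S3600

/-- A finite group is critical with respect to a set Ω of natural numbers when its set of element orders is Ω while no proper section has Ω as its set of element orders. A finite group critical with respect to {1, 2, 3, 4, 5} (the set of element orders of the alternating group of degree 6) is isomorphic either to the alternating group of degree 6 or to the affine group F² ⋊ SL(2,F) over the field F with four elements (realised as the matrices of SL(3,F) with last row (0, 0, 1)). -/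
theorem result {G : Type*} [Group G] [Finite G]
    (hcrit : Set.range (orderOf : G → ℕ) = ({1, 2, 3, 4, 5} : Set ℕ) ∧
      ∀ (H : Subgroup G) (N : Subgroup ↥H) [N.Normal], (H ≠ ⊤ ∨ N ≠ ⊥) → Set.range (orderOf : (↥H ⧸ N) → ℕ) ≠ ({1, 2, 3, 4, 5} : Set ℕ)) :
    Nonempty (G ≃* alternatingGroup (Fin 6)) ∨
      ∃ (F : Type) (_ : Field F) (_ : Fintype F), Fintype.card F = 4 ∧
        Nonempty (G ≃* ↥(Subgroup.closure {M : Matrix.SpecialLinearGroup (Fin 3) F |
          (M : Matrix (Fin 3) (Fin 3) F) 2 0 = 0 ∧ (M : Matrix (Fin 3) (Fin 3) F) 2 1 = 0 ∧ (M : Matrix (Fin 3) (Fin 3) F) 2 2 = 1})) := by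
  obtain ⟨hsp, hcr⟩ := hcrit
  have hk : Set.range (orderOf : G → ℕ) = {k : ℕ | 1 ≤ k ∧ k ≤ 5} := by
    rw [hsp]; ext k; simp only [Set.mem_insert_iff, Set.mem_singleton_iff, Set.mem_setOf_eq]; omega
  rcases S3433.result hk with h | ⟨N, hN, hel, ⟨e⟩⟩
  · exact Or.inl h
  right
  haveI := hN
  have hs : ∀ g : G, orderOf g ∈ ({1, 2, 3, 4, 5} : Set ℕ) := fun g => hsp ▸ Set.mem_range_self g
  have h4 : ∃ g : G, orderOf g = 4 := by
    have h : (4 : ℕ) ∈ Set.range (orderOf : G → ℕ) := by rw [hsp]; simp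
    exact h
  have hcrit' : ∀ K : Subgroup G, K ≠ ⊤ → Set.range (orderOf : K → ℕ) ≠ ({1, 2, 3, 4, 5} : Set ℕ) := by
    intro K hK hr
    refine hcr K ⊥ (Or.inl hK) ?_
    rw [← hr]
    exact (QuotientGroup.quotientBot (G := ↥K)).toEquiv.surjective.range_comp orderOf ▸
      congrArg Set.range (funext fun x => ((QuotientGroup.quotientBot (G := ↥K)).orderOf_eq x).symm)
  obtain ⟨F, iF, iF', hF, ⟨f⟩⟩ := CriticalFive8.equiv_aff hs hcrit' h4 N hel e
  exact ⟨F, iF, iF', hF, ⟨f.trans (MulEquiv.subgroupCongr (AffineFourSpectrum.closure_eq F).symm)⟩⟩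

end Cfsg.Agent.S3600
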