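import Cfsg.Statements.S3614
import Cfsg.Agent.Lib.TwinPrimeDegree39Five
import Cfsg.Agent.Lib.TwinPrimeDegree39Alt
-- import your own Cfsg.Agent.* helpers here

set_option autoImplicit false
open Cfsg

namespace Cfsg.Agent.S3614

/-- Let G be an insoluble group acting faithfully and transitively on a finite set of prime size p, and suppose the normalizer of a Sylow p-subgroup of G has order p(p-1)/2. If p = q + 2 = 2r + 3 > 9 or p = q + 2 = 3r + 4 > 13 with q and r prime, then G is isomorphic to the alternating group of degree p. -/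
theorem result {G Ω : Type*} [Group G] [Finite G] [MulAction G Ω] [FaithfulSMul G Ω] [Finite Ω]
    (p : ℕ) (hp : p.Prime) (hΩ : Nat.card Ω = p) (htrans : MulAction.IsPretransitive G Ω)
    (hins : ¬ Group.IsSolvable G) (P : Sylow p G)
    (hN : 2 * Nat.card ↥(Subgroup.normalizer ((P : Subgroup G) : Set G)) = p * (p - 1))
    (q r : ℕ) (hq : q.Prime) (hr : r.Prime)
    (hcases : (p = q + 2 ∧ p = 2 * r + 3 ∧ 9 < p) ∨ (p = q + 2 ∧ p = 3 * r + 4 ∧ 13 < p)) :
    Nonempty (G ≃* alternatingGroup (Fin p)) := by
  classical
  haveI : Fact p.Prime := ⟨hp⟩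
  haveI : Fintype Ω := Fintype.ofFinite Ω
  have hcard : Fintype.card Ω = p := by rw [← Nat.card_eq_fintype_card, hΩ]
  have hr2 := hr.two_le
  have hpq : p = q + 2 := by rcases hcases with h | h <;> exact h.1
  have hp9 : 9 < p := by rcases hcases with h | h <;> omega
  have h5 := Cfsg.Agent.TwinPrimeDegree39.five_transitive hΩ htrans hins P hN hq (by omega) hpq
  have hle : alternatingGroup Ω ≤ (MulAction.toPermHom G Ω).range := by
    haveI : Fact r.Prime := ⟨hr⟩
    haveI := h5
    rcases hcases with ⟨-, hpr, -⟩ | ⟨-, hpr, hp13⟩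
    · have hr4 : 3 < r := by omega
      have hr1 : 2 * r < Fintype.card Ω := by omega
      haveI h3 : MulAction.IsMultiplyPretransitive G Ω 3 :=
        MulAction.isMultiplyPretransitive_of_le (G := G) (α := Ω) (n := 5) (by omega)
          (by simp only [Nat.card_eq_fintype_card]; omega)
      haveI h4 : MulAction.IsMultiplyPretransitive G Ω (3 + 1) :=
        MulAction.isMultiplyPretransitive_of_le (G := G) (α := Ω) (n := 5) (by omega)
          (by simp only [Nat.card_eq_fintype_card]; omega)
      obtain ⟨R, x0, S⟩ := Cfsg.Agent.TwinPrimeDegree39.exists_shape (G := G) (Ω := Ω) (k := 3)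
        (m := 2) (r := r) (by omega) (by omega) (by omega)
      exact Cfsg.Agent.TwinPrimeDegree39.alternating_of_shape (k := 3) (m := 2) le_rfl (by omega)
        (by omega) (by decide) hr4 (by omega) hr1 h5 R x0 S
    · have hr4 : 4 < r := by
        rcases Nat.lt_or_ge 4 r with h | h
        · exact h
        · interval_cases r
          · omega
          · omega
          · exact absurd hr (by norm_num)
      have hr1 : 2 * r < Fintype.card Ω := by omega
      haveI h4 : MulAction.IsMultiplyPretransitive G Ω 4 :=
        MulAction.isMultiplyPretransitive_of_le (G := G) (α := Ω) (n := 5) (by omega)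
          (by simp only [Nat.card_eq_fintype_card]; omega)
      haveI h45 : MulAction.IsMultiplyPretransitive G Ω (4 + 1) := h5
      obtain ⟨R, x0, S⟩ := Cfsg.Agent.TwinPrimeDegree39.exists_shape (G := G) (Ω := Ω) (k := 4)
        (m := 3) (r := r) (by omega) (by omega) (by omega)
      exact Cfsg.Agent.TwinPrimeDegree39.alternating_of_shape (k := 4) (m := 3) (by omega) le_rfl
        le_rfl (by decide) hr4 (by omega) hr1 h5 R x0 S
  have hne := Cfsg.Agent.TwinPrimeDegree39.range_ne_top hΩ P hN
  have heq : (MulAction.toPermHom G Ω).range = alternatingGroup Ω := by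
    haveI : Nontrivial Ω := Fintype.one_lt_card_iff_nontrivial.mp (by omega)
    have h1 : ((alternatingGroup Ω).subgroupOf (MulAction.toPermHom G Ω).range).index *
        (MulAction.toPermHom G Ω).range.index = 2 := by
      rw [← alternatingGroup.index_eq_two (α := Ω)]
      exact Subgroup.relIndex_mul_index hle
    have h2 : (MulAction.toPermHom G Ω).range.index ≠ 1 := fun h => hne (Subgroup.index_eq_one.mp h)
    have h3 : (MulAction.toPermHom G Ω).range.index = 2 :=
      ((Nat.dvd_prime Nat.prime_two).mp (Dvd.intro_left _ h1)).resolve_left h2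
    rw [h3] at h1
    exact le_antisymm (Subgroup.relIndex_eq_one.mp (by
      change ((alternatingGroup Ω).subgroupOf (MulAction.toPermHom G Ω).range).index = 1
      omega)) hle
  exact ⟨((MonoidHom.ofInjective (f := MulAction.toPermHom G Ω) MulAction.toPerm_injective).trans
    (MulEquiv.subgroupCongr heq)).trans (Equiv.altCongrHom (Fintype.equivFinOfCardEq hcard))⟩

end Cfsg.Agent.S3614
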