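import Cfsg.Statements.S3619
import Mathlib
-- import your own Cfsg.Agent.* helpers here

set_option autoImplicit false
open Cfsg
open scoped Pointwise

namespace Cfsg.Agent.S3619

/-- A quasiprimitive group with a primitive Jordan set is primitive. -/
theorem primitive_of_jordan {G Ω : Type*} [Group G] [MulAction G Ω] [FaithfulSMul G Ω] [Finite Ω]
    (hqp : ∀ N : Subgroup G, N.Normal → N ≠ ⊥ → MulAction.IsPretransitive ↥N Ω)
    (Γ : Set Ω) (hΓ1 : 1 < Γ.ncard)
    (hJp : MulAction.IsPreprimitive ↥(fixingSubgroup G Γᶜ) ↥(SubMulAction.ofFixingSubgroup G Γᶜ)) :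
    MulAction.IsPreprimitive G Ω := by
  set H := fixingSubgroup G Γᶜ with hH
  obtain ⟨a, ha, b, hb, hab⟩ := (Set.one_lt_ncard (Set.toFinite Γ)).1 hΓ1
  have hmem : ∀ x, x ∈ SubMulAction.ofFixingSubgroup G Γᶜ ↔ x ∈ Γ := by
    intro x
    simp [SubMulAction.mem_ofFixingSubgroup_iff]
  obtain ⟨h, hh⟩ := hJp.toIsPretransitive.exists_smul_eq
    (⟨a, (hmem a).2 ha⟩ : ↥(SubMulAction.ofFixingSubgroup G Γᶜ)) ⟨b, (hmem b).2 hb⟩
  have hhab : (h : G) • a = b := congrArg Subtype.val hh
  have htop : (⊤ : Subgroup G) ≠ ⊥ := by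
    intro hc
    have : (h : G) = 1 := by
      rw [← Subgroup.mem_bot, ← hc]; exact Subgroup.mem_top _
    rw [this, one_smul] at hhab
    exact hab hhab
  have htr : MulAction.IsPretransitive G Ω := by
    have := hqp ⊤ inferInstance htop
    exact ⟨fun x y => by obtain ⟨g, hg⟩ := this.exists_smul_eq x y; exact ⟨(g : G), hg⟩⟩
  refine { htr with isTrivialBlock_of_isBlock := ?_ }
  intro B hB
  by_cases hs : B.Subsingleton
  · exact Or.inl hs
  right
  by_contra hBu
  obtain ⟨x, hx, y, hy, hxy⟩ := Set.not_subsingleton_iff.1 hs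
  set K := (MulAction.stabilizer G B).normalCore with hKdef
  have hK : K = ⊥ := by
    by_contra hK
    have := hqp K inferInstance hK
    apply hBu
    rw [Set.eq_univ_iff_forall]
    intro z
    obtain ⟨g, hg⟩ := this.exists_smul_eq x z
    have : (g : G) • B = B := MulAction.mem_stabilizer_iff.1 (Subgroup.normalCore_le _ g.2)
    rw [← hg, ← this]
    exact ⟨x, hx, rfl⟩
  have hfix : ∀ k : H, ∀ z, z ∉ Γ → (k : G) • z = z := by
    intro k z hz
    exact (mem_fixingSubgroup_iff G).1 k.2 z hz
  have hblock : ∀ g : G, ∀ k : H, (k : G) • (g • B) = g • B := by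
    intro g k
    have hgB : MulAction.IsBlock G (g • B) := hB.translate g
    by_cases hsub : g • B ⊆ Γ
    · have hP : MulAction.IsBlock ↥H (Subtype.val ⁻¹' (g • B) : Set ↥(SubMulAction.ofFixingSubgroup G Γᶜ)) := by
        rw [MulAction.isBlock_iff_smul_eq_of_nonempty]
        intro l hl
        obtain ⟨w, hw1, hw2⟩ := hl
        obtain ⟨v, hv, rfl⟩ := hw1
        have heq : (l : G) • (g • B) = g • B :=
          MulAction.isBlock_iff_smul_eq_of_nonempty.1 hgB (g := (l : G)) ⟨_, ⟨_, hv, rfl⟩, hw2⟩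
        ext z
        constructor
        · rintro ⟨u, hu, rfl⟩
          show (l : G) • (u : Ω) ∈ g • B
          rw [← heq]
          exact ⟨_, hu, rfl⟩
        · intro hz
          refine ⟨l⁻¹ • z, ?_, smul_inv_smul l z⟩
          show (l : G)⁻¹ • (z : Ω) ∈ g • B
          rw [← heq] at hz
          exact Set.mem_smul_set_iff_inv_smul_mem.1 hz
      rcases hJp.isTrivialBlock_of_isBlock hP with h1 | h1
      · exfalso
        have hgx : g • x ∈ g • B := ⟨x, hx, rfl⟩
        have hgy : g • y ∈ g • B := ⟨y, hy, rfl⟩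
        have := h1 (show (⟨g • x, (hmem _).2 (hsub hgx)⟩ : ↥(SubMulAction.ofFixingSubgroup G Γᶜ)) ∈ _ from hgx)
          (show (⟨g • y, (hmem _).2 (hsub hgy)⟩ : ↥(SubMulAction.ofFixingSubgroup G Γᶜ)) ∈ _ from hgy)
        exact hxy (smul_left_cancel g (congrArg Subtype.val this))
      · have hΓ : g • B = Γ := by
          apply Set.Subset.antisymm hsub
          intro z hz
          exact (Set.ext_iff.1 h1 ⟨z, (hmem z).2 hz⟩).2 (Set.mem_univ _)
        rw [hΓ]
        ext z
        rw [Set.mem_smul_set_iff_inv_smul_mem]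
        constructor
        · intro hz
          by_contra hzn
          have := hfix k⁻¹ z hzn
          rw [Subgroup.coe_inv] at this
          exact hzn (this ▸ hz)
        · intro hz
          by_contra hzn
          have := hfix k _ hzn
          rw [smul_inv_smul] at this
          exact hzn (this ▸ hz)
    · obtain ⟨w, hw, hwΓ⟩ := Set.not_subset.1 hsub
      refine MulAction.isBlock_iff_smul_eq_of_nonempty.1 hgB (g := (k : G)) ⟨w, ⟨w, hw, hfix k w hwΓ⟩, hw⟩
  have hle : H ≤ K := by
    intro k hk c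
    rw [MulAction.mem_stabilizer_iff, mul_smul, mul_smul]
    rw [hblock c⁻¹ ⟨k, hk⟩, smul_inv_smul]
  have h1 : (h : G) = 1 := by
    rw [← Subgroup.mem_bot, ← hK]; exact hle h.2
  rw [h1, one_smul] at hhab
  exact hab hhab

/-- Let G act faithfully on a finite set in such a way that every non-trivial normal subgroup of G is transitive (G is quasiprimitive). Let Γ be a subset with more than one point and not the whole set, such that the pointwise stabilizer of the complement of Γ acts transitively on Γ (a Jordan set). If that pointwise stabilizer acts primitively on Γ, then G is k-fold transitive where k is one more than the number of points outside Γ (the Jordan set is a trivial one). -/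
theorem result {G Ω : Type*} [Group G] [Finite G] [MulAction G Ω] [FaithfulSMul G Ω] [Finite Ω]
    (hqp : ∀ N : Subgroup G, N.Normal → N ≠ ⊥ → MulAction.IsPretransitive ↥N Ω)
    (Γ : Set Ω) (hΓ1 : 1 < Γ.ncard) (hΓ2 : Γ.ncard < Nat.card Ω)
    (hJ : MulAction.IsPretransitive ↥(fixingSubgroup G Γᶜ) ↥(SubMulAction.ofFixingSubgroup G Γᶜ))
    (hJp : MulAction.IsPreprimitive ↥(fixingSubgroup G Γᶜ) ↥(SubMulAction.ofFixingSubgroup G Γᶜ)) :
    MulAction.IsMultiplyPretransitive G Ω (Nat.card Ω - Γ.ncard + 1) := by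
  have hprim := primitive_of_jordan hqp Γ hΓ1 hJp
  have hc : Γ.ncard + Γᶜ.ncard = Nat.card Ω := Set.ncard_add_ncard_compl Γ
  obtain ⟨n, hn⟩ : ∃ n, Γᶜ.ncard = n + 1 := ⟨Γᶜ.ncard - 1, by omega⟩
  have := hprim.isMultiplyPreprimitive hn (by omega) hJp
  rw [show Nat.card Ω - Γ.ncard + 1 = n + 2 by omega]
  exact MulAction.IsMultiplyPreprimitive.isMultiplyPretransitive ..

end Cfsg.Agent.S3619
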