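import Cfsg.Statements.S3620
import Mathlib
import Cfsg.Agent.Lib.Marggraf
-- import your own Cfsg.Agent.* helpers here

set_option autoImplicit false
open Cfsg

namespace Cfsg.Agent.S3620


/-- Let G act faithfully on a finite set in such a way that every non-trivial normal subgroup of G is transitive (G is quasiprimitive). Let Γ be a subset with more than one point and fewer than half of the points, such that the pointwise stabilizer of the complement of Γ acts transitively on Γ. Then G induces every even permutation of the set (G is the alternating or the symmetric group). -/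
theorem result {G Ω : Type*} [Group G] [Finite G] [MulAction G Ω] [FaithfulSMul G Ω] [Fintype Ω] [DecidableEq Ω]
    (hqp : ∀ N : Subgroup G, N.Normal → N ≠ ⊥ → MulAction.IsPretransitive ↥N Ω)
    (Γ : Set Ω) (hΓ1 : 1 < Γ.ncard) (hΓ2 : 2 * Γ.ncard < Fintype.card Ω)
    (hJ : MulAction.IsPretransitive ↥(fixingSubgroup G Γᶜ) ↥(SubMulAction.ofFixingSubgroup G Γᶜ)) :
    ∀ σ : Equiv.Perm Ω, Equiv.Perm.sign σ = 1 → ∃ x : G, (MulAction.toPerm x : Equiv.Perm Ω) = σ := by
  classical
  refine Cfsg.Agent.Marggraf.quasiprimitive_alternating hqp Γ.toFinite.toFinset ?_ ?_ ?_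
  · intro a ha b hb
    rw [Set.Finite.mem_toFinset] at ha hb
    have hmem : ∀ x, x ∈ Γ → x ∈ SubMulAction.ofFixingSubgroup G Γᶜ := fun x hx => by
      simp [SubMulAction.mem_ofFixingSubgroup_iff, hx]
    obtain ⟨h, hh⟩ := hJ.exists_smul_eq
      (⟨a, hmem a ha⟩ : ↥(SubMulAction.ofFixingSubgroup G Γᶜ)) ⟨b, hmem b hb⟩
    refine ⟨(h : G), fun w hw => ?_, congrArg Subtype.val hh⟩
    exact (mem_fixingSubgroup_iff G).1 h.2 w (by simpa using hw)
  · rw [← Set.ncard_eq_toFinset_card]; omega
  · rw [← Set.ncard_eq_toFinset_card]; omega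

end Cfsg.Agent.S3620
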