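import Cfsg.Statements.S3627
import Mathlib
import Cfsg.Agent.Lib.J1Facts
-- import your own Cfsg.Agent.* helpers here

set_option autoImplicit false
open Cfsg

namespace Cfsg.Agent.S3627

open Cfsg.Agent.J1Basic

/-- The squarefree products of at most five of the primes 2, 3, 5, 7, 11, 19. -/
def target : Set ℕ := {m | m ∣ 43890 ∧ m ≠ 43890}

theorem lcm_orders_ne : ∀ a ∈ [1, 2, 3, 5, 6, 7, 10, 11, 15, 19], ∀ b ∈ [1, 2, 3, 5, 6, 7, 10, 11, 15, 19],
    ∀ c ∈ [1, 2, 3, 5, 6, 7, 10, 11, 15, 19], ∀ d ∈ [1, 2, 3, 5, 6, 7, 10, 11, 15, 19],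
      (Nat.lcm a (Nat.lcm b (Nat.lcm c d)) ≠ 43890 ∧ Nat.lcm a (Nat.lcm b (Nat.lcm c d)) ∣ 43890) := by
  decide +kernel

theorem exists_pow_order {G : Type*} [Group G] {g : G} {n m : ℕ} (hn : orderOf g = n) (h0 : 0 < n) (hm : m ∣ n) :
    ∃ h : G, orderOf h = m := by
  refine ⟨g ^ (n / m), ?_⟩
  rw [orderOf_pow' g (Nat.div_pos (Nat.le_of_dvd h0 hm) (Nat.pos_of_dvd_of_pos hm h0)).ne', hn,
    Nat.gcd_eq_right (Nat.div_dvd_of_dvd hm), Nat.div_div_self hm h0.ne']

theorem mem_target_iff (m : ℕ) : m ∈ target ↔ ∃ p ∈ [2, 3, 5, 7, 11, 19], m ∣ 43890 / p := by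
  constructor
  · rintro ⟨hd, hne⟩
    have key : ∀ m ∈ Nat.divisors 43890, m ≠ 43890 → ∃ p ∈ [2, 3, 5, 7, 11, 19], m ∣ 43890 / p := by
      decide +kernel
    exact key m (Nat.mem_divisors.2 ⟨hd, by norm_num⟩) hne
  · rintro ⟨p, hp, hm⟩
    simp only [List.mem_cons, List.not_mem_nil, or_false] at hp
    refine ⟨hm.trans (Nat.div_dvd_of_dvd ?_), fun h => ?_⟩
    · rcases hp with rfl | rfl | rfl | rfl | rfl | rfl <;> norm_num
    · subst h
      rcases hp with rfl | rfl | rfl | rfl | rfl | rfl <;> norm_num at hm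

theorem range_J1_four :
    Set.range (orderOf : ↥Cfsg.Spor.J1 × ↥Cfsg.Spor.J1 × ↥Cfsg.Spor.J1 × ↥Cfsg.Spor.J1 → ℕ) = target := by
  ext m
  constructor
  · rintro ⟨⟨a, b, c, d⟩, rfl⟩
    have h : ∀ g : Cfsg.Spor.J1, orderOf g ∈ [1, 2, 3, 5, 6, 7, 10, 11, 15, 19] := fun g => by
      simpa [orders] using orderOf_mem g
    have := lcm_orders_ne _ (h a) _ (h b) _ (h c) _ (h d)
    rw [Prod.orderOf_mk, Prod.orderOf_mk, Prod.orderOf_mk]
    exact ⟨this.2, this.1⟩
  · intro hm
    obtain ⟨p, hp, hd⟩ := (mem_target_iff m).1 hm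
    have hex : ∀ k ∈ orders, ∃ g : Cfsg.Spor.J1, orderOf g = k := fun k hk => by
      rw [← Cfsg.Agent.J1Facts.range_orderOf] at hk; exact hk
    have hquad : ∃ a b c e : ℕ, a ∈ orders ∧ b ∈ orders ∧ c ∈ orders ∧ e ∈ orders ∧
        Nat.lcm a (Nat.lcm b (Nat.lcm c e)) = 43890 / p := by
      simp only [List.mem_cons, List.not_mem_nil, or_false] at hp
      rcases hp with rfl | rfl | rfl | rfl | rfl | rfl
      · exact ⟨15, 7, 11, 19, by simp [orders], by simp [orders], by simp [orders], by simp [orders], by decide +kernel⟩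
      · exact ⟨10, 7, 11, 19, by simp [orders], by simp [orders], by simp [orders], by simp [orders], by decide +kernel⟩
      · exact ⟨6, 7, 11, 19, by simp [orders], by simp [orders], by simp [orders], by simp [orders], by decide +kernel⟩
      · exact ⟨6, 5, 11, 19, by simp [orders], by simp [orders], by simp [orders], by simp [orders], by decide +kernel⟩
      · exact ⟨6, 5, 7, 19, by simp [orders], by simp [orders], by simp [orders], by simp [orders], by decide +kernel⟩
      · exact ⟨6, 5, 7, 11, by simp [orders], by simp [orders], by simp [orders], by simp [orders], by decide +kernel⟩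
    obtain ⟨a, b, c, e, ha, hb, hc, he, hlcm⟩ := hquad
    obtain ⟨ga, rfl⟩ := hex a ha
    obtain ⟨gb, rfl⟩ := hex b hb
    obtain ⟨gc, rfl⟩ := hex c hc
    obtain ⟨ge, rfl⟩ := hex e he
    refine exists_pow_order (g := (ga, gb, gc, ge)) (n := 43890 / p) ?_ ?_ hd
    · rw [Prod.orderOf_mk, Prod.orderOf_mk, Prod.orderOf_mk, hlcm]
    · simp only [List.mem_cons, List.not_mem_nil, or_false] at hp
      rcases hp with rfl | rfl | rfl | rfl | rfl | rfl <;> norm_num

/-- the five complement primes -/
def cprime : Fin 5 → ℕ := ![2, 3, 5, 7, 11]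

section Construction
variable {R : Type} [Field R] (ι : Type) (ζ : Rˣ)

/-- the multiplier of `c` on the coordinate of the prime `cprime q` -/
def mult (q : Fin 5) (c : ↥(Subgroup.zpowers ζ)) : R := (((c : Rˣ) ^ (2310 / cprime q) : Rˣ) : R)

theorem mult_one (q : Fin 5) : mult ζ q 1 = 1 := by simp [mult]

theorem mult_mul (q : Fin 5) (a b : ↥(Subgroup.zpowers ζ)) : mult ζ q (a * b) = mult ζ q a * mult ζ q b := by
  simp [mult, mul_pow]

/-- the action on the module -/
def act : ↥(Subgroup.zpowers ζ) →* MulAut (Multiplicative (Fin 5 → ι → R)) where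
  toFun c :=
    { toFun := fun v => Multiplicative.ofAdd fun q i => mult ζ q c * v.toAdd q i
      invFun := fun v => Multiplicative.ofAdd fun q i => mult ζ q c⁻¹ * v.toAdd q i
      left_inv := fun v => by
        apply Multiplicative.toAdd.injective
        funext q i
        simp [← mul_assoc, ← mult_mul, mult_one]
      right_inv := fun v => by
        apply Multiplicative.toAdd.injective
        funext q i
        simp [← mul_assoc, ← mult_mul, mult_one]
      map_mul' := fun v w => by
        apply Multiplicative.toAdd.injective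
        funext q i
        simp [mul_add] }
  map_one' := by
    apply MulEquiv.ext; intro v
    apply Multiplicative.toAdd.injective
    funext q i
    simp [mult_one]
  map_mul' a b := by
    apply MulEquiv.ext; intro v
    apply Multiplicative.toAdd.injective
    funext q i
    simp [mult_mul, mul_assoc]

/-- the group -/
abbrev Grp : Type := Multiplicative (Fin 5 → ι → R) ⋊[act ι ζ] ↥(Subgroup.zpowers ζ)

theorem pow_right (g : Grp ι ζ) (k : ℕ) : (g ^ k).right = g.right ^ k :=
  map_pow SemidirectProduct.rightHom g k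

theorem pow_left (g : Grp ι ζ) (k : ℕ) (q : Fin 5) (i : ι) :
    (g ^ k).left.toAdd q i = (∑ l ∈ Finset.range k, mult ζ q g.right ^ l) * g.left.toAdd q i := by
  induction k with
  | zero => simp
  | succ k ih =>
    rw [pow_succ', SemidirectProduct.mul_left]
    show (g.left.toAdd q i) + mult ζ q g.right * ((g ^ k).left.toAdd q i) = _
    rw [ih, geom_sum_succ]
    ring

theorem order_facts [CharP R 19] (hζ : orderOf ζ = 2310) (hι : Nonempty ι) :
    Set.range (orderOf : Grp ι ζ → ℕ) = target := by
  have hcd : ∀ c : ↥(Subgroup.zpowers ζ), orderOf c ∣ 2310 := fun c => by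
    have := orderOf_dvd_natCard c
    rwa [Nat.card_zpowers, hζ] at this
  have hmult : ∀ (q : Fin 5) (c : ↥(Subgroup.zpowers ζ)), mult ζ q c = 1 ↔ orderOf c ∣ 2310 / cprime q := by
    intro q c
    rw [orderOf_dvd_iff_pow_eq_one, mult, Units.val_eq_one]
    exact ⟨fun h => Subtype.ext (by simpa using h), fun h => by simpa using congrArg Subtype.val h⟩
  ext m
  constructor
  · rintro ⟨g, rfl⟩
    set r := orderOf g.right with hr
    have hr' : r ∣ 2310 := hcd _
    have hdvd : orderOf g ∣ r * 19 := by
      apply orderOf_dvd_of_pow_eq_one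
      rw [pow_mul]
      have h1 : (g ^ r).right = 1 := by rw [pow_right, hr, pow_orderOf_eq_one]
      apply SemidirectProduct.ext
      · apply Multiplicative.toAdd.injective
        funext q i
        rw [pow_left, h1]
        simp [mult_one, show ((19 : R)) = 0 by exact_mod_cast CharP.cast_eq_zero R 19]
      · rw [pow_right, h1, one_pow]; simp
    refine ⟨hdvd.trans (by
      calc r * 19 ∣ 2310 * 19 := Nat.mul_dvd_mul_right hr' 19
        _ = 43890 := by norm_num), fun h => ?_⟩
    have hr2 : r = 2310 := by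
      apply Nat.dvd_antisymm hr'
      rw [h] at hdvd
      exact Nat.dvd_of_mul_dvd_mul_right (by norm_num : 0 < 19) (by simpa using hdvd)
    have h1 : g ^ 2310 = 1 := by
      apply SemidirectProduct.ext
      · apply Multiplicative.toAdd.injective
        funext q i
        rw [pow_left]
        have hne : mult ζ q g.right ≠ 1 := by
          rw [ne_eq, hmult, ← hr, hr2]
          fin_cases q <;> simp [cprime]
        have hp : mult ζ q g.right ^ 2310 = 1 := by
          have h2 : g.right ^ 2310 = 1 := by rw [← hr2, hr, pow_orderOf_eq_one]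
          have e : ∀ n : ℕ, mult ζ q g.right ^ n = mult ζ q (g.right ^ n) := by
            intro n
            induction n with
            | zero => simp [mult_one]
            | succ n ih => rw [pow_succ, pow_succ, mult_mul, ih]
          rw [e, h2, mult_one]
        rw [geom_sum_eq hne, hp]
        simp
      · rw [pow_right, ← hr2, hr, pow_orderOf_eq_one]; simp
    have := Nat.le_of_dvd (by norm_num) (orderOf_dvd_of_pow_eq_one h1)
    omega
  · intro hm
    obtain ⟨p, hp, hd⟩ := (mem_target_iff m).1 hm
    let z : ↥(Subgroup.zpowers ζ) := ⟨ζ, Subgroup.mem_zpowers ζ⟩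
    have hz : orderOf z = 2310 := by rw [← Subgroup.orderOf_coe]; exact hζ
    by_cases hp19 : p = 19
    · subst hp19
      have h : orderOf (SemidirectProduct.inr z : Grp ι ζ) = 2310 := by
        rw [orderOf_injective _ SemidirectProduct.inr_injective, hz]
      exact exists_pow_order h (by norm_num) (by simpa using hd)
    obtain ⟨q, rfl⟩ : ∃ q, cprime q = p := by
      simp only [List.mem_cons, List.not_mem_nil, or_false] at hp
      rcases hp with rfl | rfl | rfl | rfl | rfl | rfl
      exacts [⟨0, rfl⟩, ⟨1, rfl⟩, ⟨2, rfl⟩, ⟨3, rfl⟩, ⟨4, rfl⟩, absurd rfl hp19]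
    have hq : cprime q ∣ 2310 ∧ 0 < cprime q ∧ Nat.Coprime 19 (2310 / cprime q) ∧
        43890 / cprime q = 19 * (2310 / cprime q) ∧ 0 < 43890 / cprime q := by
      fin_cases q <;> simp [cprime] <;> norm_num
    set c := z ^ cprime q with hc
    have hco : orderOf c = 2310 / cprime q := by
      rw [hc, orderOf_pow' z hq.2.1.ne', hz, Nat.gcd_eq_right hq.1]
    classical
    obtain ⟨i0⟩ := hι
    let v : Grp ι ζ := SemidirectProduct.inl (Multiplicative.ofAdd (Pi.single q (fun _ => (1 : R))))
    have hcomm : Commute v (SemidirectProduct.inr c) := by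
      apply SemidirectProduct.ext
      · apply Multiplicative.toAdd.injective
        funext q' i
        simp only [v, SemidirectProduct.mul_left, SemidirectProduct.left_inl, SemidirectProduct.left_inr,
          SemidirectProduct.right_inl, SemidirectProduct.right_inr, map_one, mul_one, one_mul]
        show (Pi.single q (fun _ => (1 : R)) : Fin 5 → ι → R) q' i =
          mult ζ q' c * (Pi.single q (fun _ => (1 : R)) : Fin 5 → ι → R) q' i
        by_cases h : q' = q
        · subst h
          rw [(hmult q' c).2 (hco ▸ dvd_rfl), one_mul]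
        · simp [h]
      · simp [v]
    have hv : orderOf v = 19 := by
      have : Fact (Nat.Prime 19) := ⟨by norm_num⟩
      rw [show v = SemidirectProduct.inl (Multiplicative.ofAdd (Pi.single q (fun _ => (1 : R)))) from rfl,
        orderOf_injective _ SemidirectProduct.inl_injective, orderOf_ofAdd_eq_addOrderOf]
      apply addOrderOf_eq_prime
      · funext q' i
        show (19 : ℕ) • (Pi.single q (fun _ => (1 : R)) : Fin 5 → ι → R) q' i = 0
        rw [nsmul_eq_mul, CharP.cast_eq_zero, zero_mul]
      · intro h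
        have := congrFun (congrFun h q) i0
        simp at this
    have hinr : orderOf (SemidirectProduct.inr c : Grp ι ζ) = 2310 / cprime q := by
      rw [orderOf_injective _ SemidirectProduct.inr_injective, hco]
    have h : orderOf (v * SemidirectProduct.inr c) = 43890 / cprime q := by
      rw [hcomm.orderOf_mul_eq_mul_orderOf_of_coprime (by rw [hv, hinr]; exact hq.2.2.1), hv, hinr, hq.2.2.2.1]
    exact exists_pow_order h hq.2.2.2.2 hd

end Construction

/-- Let J be the first Janko group. Then there are finite groups of arbitrarily large order with exactly the same set of element orders as J × J × J × J. -/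
theorem result (N : ℕ) : ∃ (H : Type) (_ : Group H) (_ : Fintype H), N < Fintype.card H ∧
      Set.range (orderOf : H → ℕ) = Set.range (orderOf : ↥Cfsg.Spor.J1 × ↥Cfsg.Spor.J1 × ↥Cfsg.Spor.J1 × ↥Cfsg.Spor.J1 → ℕ) := by
  have : Fact (Nat.Prime 19) := ⟨by norm_num⟩
  have : Fintype (GaloisField 19 30) := Fintype.ofFinite _
  classical
  have hd : (2310 : ℕ) ∣ 19 ^ 30 - 1 := by decide +kernel
  have hcard : Nat.card (GaloisField 19 30)ˣ = 19 ^ 30 - 1 := by
    rw [Nat.card_units, GaloisField.card 19 30 (by norm_num)]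
  obtain ⟨ζ, hζ⟩ : ∃ ζ : (GaloisField 19 30)ˣ, orderOf ζ = 2310 := by
    obtain ⟨g, hg⟩ := IsCyclic.exists_generator (α := (GaloisField 19 30)ˣ)
    have ho : orderOf g = 19 ^ 30 - 1 := by rw [orderOf_eq_card_of_forall_mem_zpowers hg, hcard]
    exact exists_pow_order ho (Nat.card_pos.trans_eq hcard) hd
  let H := Grp (Fin (N + 1)) ζ
  have : Finite H := Finite.of_equiv _ SemidirectProduct.equivProd.symm
  letI : Fintype H := Fintype.ofFinite _
  refine ⟨H, inferInstance, inferInstance, ?_, ?_⟩
  · rw [← Nat.card_eq_fintype_card]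
    refine lt_of_lt_of_le (Nat.lt_succ_self N) ?_
    show N + 1 ≤ Nat.card H
    rw [← Nat.card_fin (N + 1)]
    refine Nat.card_le_card_of_injective
      (fun i => (SemidirectProduct.inl (Multiplicative.ofAdd (fun _ => Pi.single i (1 : GaloisField 19 30))) : H)) ?_
    intro i j hij
    have h2 := congrFun (Multiplicative.ofAdd.injective (SemidirectProduct.inl_injective hij)) 0
    by_contra hne
    have h3 := congrFun h2 i
    simp [hne] at h3
  · rw [order_facts (Fin (N + 1)) ζ hζ ⟨0⟩, range_J1_four]

end Cfsg.Agent.S3627
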