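import Mathlib
import Cfsg.Statements.S3633
import Cfsg.Agent.Lib.PrimeGraphSolvable

namespace Cfsg.Agent.S3633

set_option autoImplicit false
open Cfsg Cfsg.Agent.PrimeGraphSolvable

theorem result {G : Type*} [Group G] [Finite G] (ρ : Finset ℕ) (hρ : 3 ≤ ρ.card) (hc : ((∀ r ∈ ρ, r.Prime ∧ r ∣ Nat.card G) ∧ (∀ r ∈ ρ, ∀ s ∈ ρ, r ≠ s → ¬ ∃ x : G, orderOf x = r * s)))
    (K : Subgroup G) [K.Normal] (hK : Group.IsSolvable ↥K) :
    (∀ r ∈ ρ, ∀ s ∈ ρ, r ∣ Nat.card ↥K → s ∣ Nat.card ↥K → r = s) ∧ ¬ Group.IsSolvable G := by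
  obtain ⟨h1, h2⟩ := hc
  have ne : ∀ r ∈ ρ, ∀ s ∈ ρ, r ≠ s → NoEdge G r s := fun r hr s hs hrs x hx => h2 r hr s hs hrs ⟨x, hx⟩
  refine ⟨fun r hr s hs dr ds => ?_, fun hsol => ?_⟩
  · by_contra hrs
    have : 2 < ρ.card := hρ
    obtain ⟨t, ht, htr, hts⟩ : ∃ t ∈ ρ, t ≠ r ∧ t ≠ s := by
      by_contra h
      push Not at h
      have : ρ ⊆ {r, s} := fun t ht => by
        by_cases htr : t = r
        · simp [htr]
        · simp [h t ht htr]
      have := Finset.card_le_card this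
      have := Finset.card_le_two (a := r) (b := s)
      omega
    have : Fact t.Prime := ⟨(h1 t ht).1⟩
    obtain ⟨y, hy⟩ := exists_prime_orderOf_dvd_card' t (h1 t ht).2
    have hn : y ∈ Subgroup.normalizer (K : Set G) := by
      rw [Subgroup.normalizer_eq_top_iff.mpr ‹K.Normal›]; trivial
    have hd : t ∣ Nat.card ↥(K ⊔ Subgroup.zpowers y) := by
      rw [← hy, ← Nat.card_zpowers]
      exact Subgroup.card_dvd_of_le le_sup_right
    exact no_three_coclique_subgroup (isSolvable_sup_zpowers hK hn) (h1 r hr).1 (h1 s hs).1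
      (h1 t ht).1 hrs htr.symm hts.symm (dr.trans (Subgroup.card_dvd_of_le le_sup_left))
      (ds.trans (Subgroup.card_dvd_of_le le_sup_left)) hd
      (ne r hr s hs hrs) (ne r hr t ht htr.symm) (ne s hs t ht hts.symm)
  · obtain ⟨a, b, c, ha, hb, hc, hab, hac, hbc⟩ := Finset.two_lt_card_iff.mp (show 2 < ρ.card from hρ)
    exact no_three_coclique (h1 a ha).1 (h1 b hb).1 (h1 c hc).1 hab hac hbc (h1 a ha).2 (h1 b hb).2
      (h1 c hc).2 (ne a ha b hb hab) (ne a ha c hc hac) (ne b hb c hc hbc)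

end Cfsg.Agent.S3633
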