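import Mathlib
import Cfsg.Statements.S3634
import Cfsg.Agent.Lib.PrimeGraphSolvable
import Cfsg.Agent.Lib.CoprimeAction

namespace Cfsg.Agent.S3634

set_option autoImplicit false
open Cfsg Cfsg.Agent.PrimeGraphSolvable
open scoped Pointwise

variable {G : Type*} [Group G] [Finite G]

lemma frattini_index {s : ℕ} [Fact s.Prime] (N : Subgroup G) [N.Normal] (P : Sylow s N) :
    N ⊔ Subgroup.normalizer (((P : Subgroup N).map N.subtype : Subgroup G) : Set G) = ⊤ := by
  rw [sup_comm]; exact Sylow.normalizer_sup_eq_top P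

theorem result {G : Type*} [Group G] [Finite G] (K M : Subgroup G) [K.Normal] [M.Normal] (hKM : K ≤ M)
    (p q r : ℕ) (hp : p.Prime) (hq : q.Prime) (hr : r.Prime) (hpq : p ≠ q) (hpr : p ≠ r) (hqr : q ≠ r)
    (hpK : p ∣ Nat.card ↥K) (hqM : q ∣ Nat.card ↥M / Nat.card ↥K) (hrG : r ∣ Nat.card G / Nat.card ↥M) :
    (∃ x : G, orderOf x = p * q) ∨ (∃ x : G, orderOf x = p * r) ∨ (∃ x : G, orderOf x = q * r) := by
  by_contra hcon
  push Not at hcon
  obtain ⟨epq, epr, eqr⟩ := hcon
  have : Fact p.Prime := ⟨hp⟩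
  have : Fact q.Prime := ⟨hq⟩
  have : Fact r.Prime := ⟨hr⟩
  obtain ⟨P⟩ : Nonempty (Sylow p K) := inferInstance
  set P' : Subgroup G := (P : Subgroup K).map K.subtype
  set N₁ := Subgroup.normalizer (P' : Set G)
  have hsup : K ⊔ N₁ = ⊤ := by rw [sup_comm]; exact Sylow.normalizer_sup_eq_top P
  set M₁ : Subgroup N₁ := M.subgroupOf N₁
  have : M₁.Normal := Subgroup.normal_subgroupOf
  -- `q` divides the order of `M₁`
  have hqM₁ : q ∣ Nat.card M₁ := by
    have h1 : q ∣ K.relIndex M := by
      rw [← Nat.mul_div_cancel_left (K.relIndex M) (Nat.card_pos (α := K))]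
      rw [show Nat.card K * K.relIndex M = Nat.card M from ?_]
      · exact hqM
      · rw [← Subgroup.relIndex_bot_left K, ← Subgroup.relIndex_bot_left M,
          Subgroup.relIndex_mul_relIndex _ _ _ bot_le hKM]
    have hMK : K ⊔ (N₁ ⊓ M) = M := by
      refine le_antisymm (sup_le hKM inf_le_right) fun m hm => ?_
      have : m ∈ ((K : Set G) * (N₁ : Set G)) := by
        rw [← Subgroup.normal_mul K N₁, hsup]; trivial
      obtain ⟨k, hk, n, hn, rfl⟩ := this
      exact Subgroup.mul_mem_sup hk ⟨hn, (Subgroup.mul_mem_cancel_left _ (hKM hk)).mp hm⟩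
    have h2 : K.relIndex M ∣ Nat.card ↥(N₁ ⊓ M) := by
      have : K.relIndex (N₁ ⊓ M) = K.relIndex M := by
        conv_rhs => rw [← hMK, sup_comm, Subgroup.relIndex_sup_right]
      rw [← this]
      exact Subgroup.relIndex_dvd_card K _
    have h3 : Nat.card M₁ = Nat.card ↥(N₁ ⊓ M) := by
      have e : M₁ = (N₁ ⊓ M).subgroupOf N₁ := by rw [Subgroup.inf_subgroupOf_left]
      rw [e]; exact Nat.card_congr (Subgroup.subgroupOfEquivOfLe inf_le_left).toEquiv
    rw [h3]; exact h1.trans h2
  obtain ⟨Q⟩ : Nonempty (Sylow q M₁) := inferInstance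
  set Q₁ : Subgroup N₁ := (Q : Subgroup M₁).map M₁.subtype
  set N₂ := Subgroup.normalizer (Q₁ : Set N₁)
  have hsup2 : M₁ ⊔ N₂ = ⊤ := by rw [sup_comm]; exact Sylow.normalizer_sup_eq_top Q
  -- `r` divides the order of `N₂`
  have hrN₂ : r ∣ Nat.card N₂ := by
    have h1 : M.index ∣ Nat.card N₂ := by
      have e1 : M.index = M.relIndex N₁ := by
        have : (K ⊔ N₁) ≤ M ⊔ N₁ := sup_le_sup_right hKM _
        rw [hsup, top_le_iff] at this
        rw [← Subgroup.relIndex_top_right, ← this, sup_comm, Subgroup.relIndex_sup_right]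
      have e2 : M₁.index = M₁.relIndex N₂ := by
        rw [← Subgroup.relIndex_top_right, ← hsup2, sup_comm, Subgroup.relIndex_sup_right]
      rw [e1, show M.relIndex N₁ = M₁.index from rfl, e2]
      exact Subgroup.relIndex_dvd_card _ _
    refine dvd_trans ?_ h1
    rwa [← Subgroup.card_mul_index M, Nat.mul_div_cancel_left _ Nat.card_pos] at hrG
  obtain ⟨y, hy⟩ := exists_prime_orderOf_dvd_card' r hrN₂
  set Q' : Subgroup G := Q₁.map N₁.subtype
  set y' : G := ((y : N₁) : G)
  have hyo : orderOf y' = r := by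
    rw [show y' = ((y : N₁) : G) from rfl, Subgroup.orderOf_coe, Subgroup.orderOf_coe, hy]
  have hQN : Q' ≤ N₁ := Subgroup.map_subtype_le Q₁
  have hyN : y' ∈ N₁ := (y : N₁).2
  -- the solvable subgroup `P Q`
  have hP : Group.IsSolvable P' :=
    CoprimeAction.isSolvable_of_isPGroup (p := p) (P.2.map K.subtype)
  have hQ : Group.IsSolvable Q' :=
    CoprimeAction.isSolvable_of_isPGroup (p := q) ((Q.2.map M₁.subtype).map N₁.subtype)
  set X := P' ⊔ Q'
  have hXsol : Group.IsSolvable X := by
    have hXN : X ≤ Subgroup.normalizer (P' : Set G) := sup_le Subgroup.le_normalizer hQN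
    have : (P'.subgroupOf X).Normal := (Subgroup.normal_subgroupOf_iff_le_normalizer le_sup_left).mpr hXN
    have hs : Group.IsSolvable (P'.subgroupOf X) :=
      Group.isSolvable_of_isSolvable_injective
        (f := (Subgroup.subgroupOfEquivOfLe (le_sup_left : P' ≤ X)).toMonoidHom) (Subgroup.subgroupOfEquivOfLe (le_sup_left : P' ≤ X)).injective
    let f : Q' →* ↥X ⧸ P'.subgroupOf X :=
      (QuotientGroup.mk' _).comp (Subgroup.inclusion (le_sup_right : Q' ≤ X))
    have hf : Function.Surjective f := by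
      intro z
      induction z using QuotientGroup.induction_on with
      | H w =>
        obtain ⟨w, hw⟩ := w
        have hw' : w ∈ ((P' : Set G) * (Q' : Set G)) := by
          rw [← Subgroup.coe_mul_of_right_le_normalizer_left P' _ hQN]; exact hw
        obtain ⟨k, hk, v, hv, rfl⟩ := hw'
        refine ⟨⟨v, hv⟩, QuotientGroup.eq.mpr ?_⟩
        rw [Subgroup.mem_subgroupOf]
        have := (Subgroup.mem_normalizer_iff''.mp (hQN hv) k).mp hk
        simpa [mul_assoc] using this
    have hq' : Group.IsSolvable (↥X ⧸ P'.subgroupOf X) := Group.isSolvable_of_surjective hf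
    exact Group.isSolvable_of_ker_le_range (P'.subgroupOf X).subtype (QuotientGroup.mk' (P'.subgroupOf X)) (by simp)
  have hyX : y' ∈ Subgroup.normalizer (X : Set G) := by
    refine CoprimeAction.mem_normalizer_of_conj_smul_eq ?_
    show MulAut.conj y' • (P' ⊔ Q') = P' ⊔ Q'
    rw [Subgroup.smul_sup]
    congr 1
    · exact (Cfsg.Agent.CoprimeSZ.conj_smul_eq_self hyN)
    · have hy2 : (y : N₁) ∈ N₂ := y.2
      show MulAut.conj y' • (Q₁.map N₁.subtype) = Q₁.map N₁.subtype
      have := Cfsg.Agent.CoprimeSZ.conj_smul_eq_self hy2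
      conv_rhs => rw [← this]
      exact (HallTheorem.map_conj_smul N₁.subtype (y : N₁) Q₁).symm
  have hcP : p ∣ Nat.card ↥(X ⊔ Subgroup.zpowers y') := by
    refine dvd_trans ?_ (Subgroup.card_dvd_of_le ((le_sup_left : P' ≤ X).trans le_sup_left))
    rw [show Nat.card P' = Nat.card (P : Subgroup K) from (Nat.card_congr ((P : Subgroup K).equivMapOfInjective _ K.subtype_injective).toEquiv).symm]
    exact P.dvd_card_of_dvd_card hpK
  have hcQ : q ∣ Nat.card ↥(X ⊔ Subgroup.zpowers y') := by
    refine dvd_trans ?_ (Subgroup.card_dvd_of_le ((le_sup_right : Q' ≤ X).trans le_sup_left))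
    rw [show Nat.card Q' = Nat.card Q₁ from (Nat.card_congr (Q₁.equivMapOfInjective _ N₁.subtype_injective).toEquiv).symm,
      show Nat.card Q₁ = Nat.card (Q : Subgroup M₁) from (Nat.card_congr ((Q : Subgroup M₁).equivMapOfInjective _ M₁.subtype_injective).toEquiv).symm]
    exact Q.dvd_card_of_dvd_card hqM₁
  have hcR : r ∣ Nat.card ↥(X ⊔ Subgroup.zpowers y') := by
    rw [← hyo, ← Nat.card_zpowers]
    exact Subgroup.card_dvd_of_le le_sup_right
  exact no_three_coclique_subgroup (isSolvable_sup_zpowers hXsol hyX) hp hq hr hpq hpr hqr hcP hcQ hcR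
    (fun x hx => epq x hx) (fun x hx => epr x hx) (fun x hx => eqr x hx)

end Cfsg.Agent.S3634
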