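import Mathlib
import Cfsg.Statements.S3639
import Cfsg.Agent.Lib.PrimeGraphExt

namespace Cfsg.Agent.S3639

set_option autoImplicit false
open Cfsg Cfsg.Lie
open Matrix Polynomial

variable {F : Type*} [Field F] [CharP F 2]

/-- `2 × 2` minor. -/
def mnr (A : Matrix (Fin 4) (Fin 4) F) (k l i j : Fin 4) : F := A k i * A l j - A l i * A k j

/-- the antidiagonal matrix -/
def J : Matrix (Fin 4) (Fin 4) F := !![0, 0, 0, 1; 0, 0, 1, 0; 0, 1, 0, 0; 1, 0, 0, 0]

omit [CharP F 2] in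
lemma J_mul_J : (J : Matrix (Fin 4) (Fin 4) F) * J = 1 := by
  ext i j
  fin_cases i <;> fin_cases j <;> simp [J, Matrix.mul_apply, Fin.sum_univ_four]

omit [CharP F 2] in
lemma mem_Sp4_J {g : GL (Fin 4) F} (hg : g ∈ Sp4 F) :
    (g : Matrix (Fin 4) (Fin 4) F)ᵀ * J * (g : Matrix (Fin 4) (Fin 4) F) = J := by
  ext i j
  have h := hg (Pi.single i 1) (Pi.single j 1)
  simp only [Units.coeHom_apply, Matrix.mulVec_single_one] at h
  fin_cases i <;> fin_cases j <;>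
    simp [altForm4, J, Matrix.mul_apply, Fin.sum_univ_four, Matrix.col] at h ⊢ <;> linear_combination h

omit [CharP F 2] in
lemma col_rel {g : GL (Fin 4) F} (hg : g ∈ Sp4 F) (i j : Fin 4) :
    let A : Matrix (Fin 4) (Fin 4) F := g
    A 0 i * A 3 j + A 1 i * A 2 j + A 2 i * A 1 j + A 3 i * A 0 j = J i j := by
  intro A
  have h := congrFun (congrFun (mem_Sp4_J hg) i) j
  rw [← h]
  simp [A, J, Matrix.mul_apply, Fin.sum_univ_four]
  ring

omit [CharP F 2] in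
lemma row_rel {g : GL (Fin 4) F} (hg : g ∈ Sp4 F) (i j : Fin 4) :
    let A : Matrix (Fin 4) (Fin 4) F := g
    A i 0 * A j 3 + A i 1 * A j 2 + A i 2 * A j 1 + A i 3 * A j 0 = J i j := by
  intro A
  have h1 : (J * Aᵀ * J) * A = 1 := by
    rw [mul_assoc J, mul_assoc J, mem_Sp4_J hg, J_mul_J]
  have h2 : A * (J * Aᵀ * J) = 1 := mul_eq_one_comm.mp h1
  have h3 : A * J * Aᵀ = J := by
    calc A * J * Aᵀ = A * J * Aᵀ * (J * J) := by rw [J_mul_J, mul_one]
      _ = A * (J * Aᵀ * J) * J := by simp only [mul_assoc]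
      _ = J := by rw [h2, one_mul]
  have h := congrFun (congrFun h3 i) j
  rw [← h]
  simp [J, Matrix.mul_apply, Fin.sum_univ_four]
  ring

omit [CharP F 2] in
lemma trace_inv {g : GL (Fin 4) F} (hg : g ∈ Sp4 F) :
    Matrix.trace ((g : Matrix (Fin 4) (Fin 4) F)⁻¹) = Matrix.trace (g : Matrix (Fin 4) (Fin 4) F) := by
  set A := (g : Matrix (Fin 4) (Fin 4) F)
  have h1 : (J * Aᵀ * J) * A = 1 := by
    rw [mul_assoc J, mul_assoc J, mem_Sp4_J hg, J_mul_J]
  rw [Matrix.inv_eq_left_inv h1, Matrix.trace_mul_comm, ← mul_assoc, J_mul_J, one_mul,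
    Matrix.trace_transpose]

lemma det_eq_one {g : GL (Fin 4) F} (hg : g ∈ Sp4 F) :
    (g : Matrix (Fin 4) (Fin 4) F).det = 1 := by
  have h := congrArg Matrix.det (mem_Sp4_J hg)
  have hJ : (J : Matrix (Fin 4) (Fin 4) F).det ^ 2 = 1 := by
    rw [pow_two, ← Matrix.det_mul, J_mul_J, Matrix.det_one]
  rw [Matrix.det_mul, Matrix.det_mul, Matrix.det_transpose] at h
  set d := (g : Matrix (Fin 4) (Fin 4) F).det
  have hd : d ^ 2 = 1 := by
    linear_combination (J : Matrix (Fin 4) (Fin 4) F).det * h + (1 - d ^ 2) * hJ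
  have h2 : (d - 1) ^ 2 = 0 := by
    rw [CharTwo.sub_eq_add, CharTwo.add_sq, hd, one_pow, CharTwo.add_self_eq_zero]
  rw [pow_eq_zero_iff two_ne_zero, sub_eq_zero] at h2
  exact h2

omit [CharP F 2] in
lemma mnr_mul (A B : Matrix (Fin 4) (Fin 4) F) (k l i j : Fin 4) :
    mnr (A * B) k l i j = mnr A k l 0 1 * mnr B 0 1 i j + mnr A k l 0 2 * mnr B 0 2 i j
      + mnr A k l 1 3 * mnr B 1 3 i j + mnr A k l 2 3 * mnr B 2 3 i j
      + (mnr A k l 0 3 * mnr B 0 3 i j + mnr A k l 1 2 * mnr B 1 2 i j) := by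
  simp only [mnr, Matrix.mul_apply, Fin.sum_univ_four]
  ring

omit [CharP F 2] in
lemma J_pair (p : Fin 4) : (J : Matrix (Fin 4) (Fin 4) F) (pairOf p).1 (pairOf p).2 = 0 := by
  fin_cases p <;> simp [J, pairOf]

lemma star4_mul {g h : GL (Fin 4) F} (hg : g ∈ Sp4 F) (hh : h ∈ Sp4 F) :
    star4 ((g * h : GL (Fin 4) F) : Matrix (Fin 4) (Fin 4) F) =
      star4 (g : Matrix (Fin 4) (Fin 4) F) * star4 (h : Matrix (Fin 4) (Fin 4) F) := by
  ext p r
  set A := (g : Matrix (Fin 4) (Fin 4) F)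
  set B := (h : Matrix (Fin 4) (Fin 4) F)
  have h2 : (2 : F) = 0 := CharTwo.two_eq_zero
  have e : star4 ((g * h : GL (Fin 4) F) : Matrix (Fin 4) (Fin 4) F) p r =
      mnr (A * B) (pairOf p).1 (pairOf p).2 (pairOf r).1 (pairOf r).2 := rfl
  rw [e, mnr_mul]
  have hA : mnr A (pairOf p).1 (pairOf p).2 0 3 + mnr A (pairOf p).1 (pairOf p).2 1 2 = 0 := by
    have := row_rel hg (pairOf p).1 (pairOf p).2
    simp only [J_pair] at this
    simp only [mnr]
    linear_combination this - (A (pairOf p).2 0 * A (pairOf p).1 3 + A (pairOf p).2 1 * A (pairOf p).1 2) * h2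
  have hB : mnr B 0 3 (pairOf r).1 (pairOf r).2 + mnr B 1 2 (pairOf r).1 (pairOf r).2 = 0 := by
    have := col_rel hh (pairOf r).1 (pairOf r).2
    simp only [J_pair] at this
    simp only [mnr]
    linear_combination this - (B 3 (pairOf r).1 * B 0 (pairOf r).2 + B 2 (pairOf r).1 * B 1 (pairOf r).2) * h2
  have hcorr : mnr A (pairOf p).1 (pairOf p).2 0 3 * mnr B 0 3 (pairOf r).1 (pairOf r).2 +
      mnr A (pairOf p).1 (pairOf p).2 1 2 * mnr B 1 2 (pairOf r).1 (pairOf r).2 = 0 := by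
    linear_combination mnr B 0 3 (pairOf r).1 (pairOf r).2 * hA +
      mnr A (pairOf p).1 (pairOf p).2 1 2 * hB -
      mnr A (pairOf p).1 (pairOf p).2 1 2 * mnr B 0 3 (pairOf r).1 (pairOf r).2 * h2
  rw [hcorr, add_zero, Matrix.mul_apply, Fin.sum_univ_four]
  rfl

omit [CharP F 2] in
lemma star4_one : star4 (1 : Matrix (Fin 4) (Fin 4) F) = 1 := by
  ext p r
  fin_cases p <;> fin_cases r <;> simp [star4, pairOf, Matrix.one_apply]

lemma star4_J : star4 (J : Matrix (Fin 4) (Fin 4) F) = J := by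
  ext p r
  fin_cases p <;> fin_cases r <;> simp [star4, pairOf, J, CharTwo.neg_eq]

lemma map_frob_mul (k : ℕ) (A B : Matrix (Fin 4) (Fin 4) F) :
    (A * B).map (fun x => x ^ 2 ^ k) = A.map (fun x => x ^ 2 ^ k) * B.map (fun x => x ^ 2 ^ k) := by
  have : Fact (Nat.Prime 2) := ⟨Nat.prime_two⟩
  exact (Matrix.map_mul (L := A) (M := B) (f := iterateFrobenius F 2 k))

/-- The defining property of elements of the Suzuki group. -/
def InSet (k : ℕ) (g : GL (Fin 4) F) : Prop :=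
  g ∈ Sp4 F ∧ star4 (g : Matrix (Fin 4) (Fin 4) F) =
    (g : Matrix (Fin 4) (Fin 4) F).map (fun x => x ^ 2 ^ k)

lemma inSet_of_mem [Finite F] (k : ℕ) {g : GL (Fin 4) F} (hg : g ∈ Sz F (2 ^ k)) : InSet k g := by
  let M : Submonoid (GL (Fin 4) F) :=
    { carrier := {g | InSet k g}
      one_mem' := by
        refine ⟨one_mem _, ?_⟩
        rw [Units.val_one, star4_one]
        exact (Matrix.map_one (fun x : F => x ^ 2 ^ k) (zero_pow (by positivity)) (one_pow _)).symm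
      mul_mem' := by
        rintro a b ⟨ha, ha'⟩ ⟨hb, hb'⟩
        refine ⟨mul_mem ha hb, ?_⟩
        rw [star4_mul ha hb, ha', hb', Units.val_mul, map_frob_mul] }
  have hle : Sz F (2 ^ k) ≤ (⊤ : Subgroup (GL (Fin 4) F)) := le_top
  induction hg using Subgroup.closure_induction with
  | mem x hx => exact hx
  | one => exact M.one_mem
  | mul x y _ _ hx hy => exact M.mul_mem hx hy
  | inv x _ hx =>
    have : Finite (GL (Fin 4) F) := inferInstance
    have hinv : x⁻¹ = x ^ (orderOf x - 1) := by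
      rw [inv_eq_iff_mul_eq_one, ← pow_succ',
        Nat.sub_add_cancel (orderOf_pos x), pow_orderOf_eq_one]
    rw [hinv]
    exact M.pow_mem hx _

omit [CharP F 2] in
/-- sum of the six principal `2 × 2` minors -/
def c2 (A : Matrix (Fin 4) (Fin 4) F) : F :=
  mnr A 0 1 0 1 + mnr A 0 2 0 2 + mnr A 0 3 0 3 + mnr A 1 2 1 2 + mnr A 1 3 1 3 + mnr A 2 3 2 3

lemma trace_star4 {g : GL (Fin 4) F} (hg : g ∈ Sp4 F) :
    Matrix.trace (star4 (g : Matrix (Fin 4) (Fin 4) F)) = c2 (g : Matrix (Fin 4) (Fin 4) F) := by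
  have h2 : (2 : F) = 0 := CharTwo.two_eq_zero
  have hc2 := col_rel hg 1 2
  have hr := row_rel hg 0 3
  simp [J] at hc2 hr
  generalize (g : Matrix (Fin 4) (Fin 4) F) = A at hc2 hr ⊢
  have h0 : mnr A 0 3 0 3 + mnr A 1 2 1 2 = 0 := by
    simp only [mnr]
    linear_combination hc2 + hr +
      (1 - A 3 0 * A 0 3 - A 2 1 * A 1 2 - A 0 1 * A 3 2 - A 0 2 * A 3 1) * h2
  have h1 : star4 A 0 0 + star4 A 1 1 + star4 A 2 2 + star4 A 3 3 =
      mnr A 0 1 0 1 + mnr A 0 2 0 2 + mnr A 1 3 1 3 + mnr A 2 3 2 3 := rfl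
  simp only [Matrix.trace, Matrix.diag, Fin.sum_univ_four, c2]
  linear_combination h1 - h0

omit [CharP F 2] in
lemma det_four {R : Type*} [CommRing R] (A : Matrix (Fin 4) (Fin 4) R) :
    A.det =
      A 0 0 * (A 1 1 * (A 2 2 * A 3 3 - A 2 3 * A 3 2) - A 1 2 * (A 2 1 * A 3 3 - A 2 3 * A 3 1) + A 1 3 * (A 2 1 * A 3 2 - A 2 2 * A 3 1))
      - A 0 1 * (A 1 0 * (A 2 2 * A 3 3 - A 2 3 * A 3 2) - A 1 2 * (A 2 0 * A 3 3 - A 2 3 * A 3 0) + A 1 3 * (A 2 0 * A 3 2 - A 2 2 * A 3 0))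
      + A 0 2 * (A 1 0 * (A 2 1 * A 3 3 - A 2 3 * A 3 1) - A 1 1 * (A 2 0 * A 3 3 - A 2 3 * A 3 0) + A 1 3 * (A 2 0 * A 3 1 - A 2 1 * A 3 0))
      - A 0 3 * (A 1 0 * (A 2 1 * A 3 2 - A 2 2 * A 3 1) - A 1 1 * (A 2 0 * A 3 2 - A 2 2 * A 3 0) + A 1 2 * (A 2 0 * A 3 1 - A 2 1 * A 3 0)) := by
  simp [Matrix.det_succ_row_zero, Fin.sum_univ_succ, Fin.succAbove]
  ring

omit [CharP F 2] in
lemma charpoly_four (A : Matrix (Fin 4) (Fin 4) F) :
    A.charpoly = X ^ 4 - Polynomial.C A.trace * X ^ 3 + Polynomial.C (c2 A) * X ^ 2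
      - Polynomial.C A.adjugate.trace * X + Polynomial.C A.det := by
  have hadj : A.adjugate.trace =
      ∑ i : Fin 4, (A.submatrix i.succAbove i.succAbove).det := by
    simp [Matrix.trace, Matrix.diag, Matrix.adjugate_fin_succ_eq_det_submatrix, ← two_mul, pow_mul]
  rw [hadj, Matrix.charpoly, det_four, det_four]
  simp [Matrix.charmatrix_apply, Matrix.trace, Fin.sum_univ_four, Matrix.det_fin_three, c2, mnr,
    Fin.succAbove, Matrix.diagonal, map_sub, map_add, map_mul]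
  ring

lemma pow_four_of_fix [Finite F] (k : ℕ) {g : GL (Fin 4) F} (hg : g ∈ Sz F (2 ^ k))
    (v : Fin 4 → F) (hv : v ≠ 0) (hfix : (g : Matrix (Fin 4) (Fin 4) F) *ᵥ v = v) : g ^ 4 = 1 := by
  obtain ⟨hsp, hstar⟩ := inSet_of_mem k hg
  set A := (g : Matrix (Fin 4) (Fin 4) F) with hA
  have hd : A.det = 1 := det_eq_one hsp
  have hadj : A.adjugate.trace = A.trace := by
    rw [← trace_inv hsp, ← hA, Matrix.inv_def, hd, Ring.inverse_one, one_smul]
  have hdet0 : (Matrix.scalar (Fin 4) (1 : F) - A).det = 0 := by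
    refine Matrix.exists_mulVec_eq_zero_iff.mp ⟨v, hv, ?_⟩
    rw [map_one, Matrix.sub_mulVec, Matrix.one_mulVec, hfix, sub_self]
  rw [← Matrix.eval_charpoly, charpoly_four, hadj, hd] at hdet0
  simp at hdet0
  have h2 : (2 : F) = 0 := CharTwo.two_eq_zero
  have hc2 : c2 A = 0 := by linear_combination hdet0 + (A.trace - 1) * h2
  have htr : A.trace = 0 := by
    have h := trace_star4 hsp
    rw [hstar, hc2] at h
    have : Fact (Nat.Prime 2) := ⟨Nat.prime_two⟩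
    have : (A.trace) ^ 2 ^ k = 0 := by
      rw [← h]
      exact AddMonoidHom.map_trace (iterateFrobenius F 2 k).toAddMonoidHom A
    exact eq_zero_of_pow_eq_zero this
  have hch := Matrix.aeval_self_charpoly A
  rw [charpoly_four, hadj, hd, hc2, htr] at hch
  simp at hch
  apply Units.ext
  rw [Units.val_pow_eq_pow_val, Units.val_one]
  calc A ^ 4 = -(1 : Matrix (Fin 4) (Fin 4) F) := eq_neg_of_add_eq_zero_left hch
    _ = 1 := by ext i j; simp [CharTwo.neg_eq]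

lemma J_mem (k : ℕ) : ∃ g : Sz F (2 ^ k), orderOf g = 2 := by
  let u : GL (Fin 4) F := ⟨J, J, J_mul_J, J_mul_J⟩
  have hu : u ∈ Sz F (2 ^ k) := by
    refine Subgroup.subset_closure ⟨?_, ?_⟩
    · intro v w
      simp [u, altForm4, J, Matrix.mulVec, dotProduct, Fin.sum_univ_four]
      ring
    · show star4 J = J.map _
      rw [star4_J]
      ext i j
      fin_cases i <;> fin_cases j <;> simp [J]
  refine ⟨⟨u, hu⟩, orderOf_eq_prime ?_ ?_⟩
  · apply Subtype.ext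
    apply Units.ext
    simp [pow_two, u, J_mul_J]
  · intro h
    have := congrArg (fun x : Sz F (2 ^ k) => ((x : GL (Fin 4) F) : Matrix (Fin 4) (Fin 4) F) 0 0) h
    simp [u, J] at this

theorem result {F : Type*} [Field F] [Fintype F] {m : ℕ} (hm : 1 ≤ m) (hF : Fintype.card F = 2 ^ (2 * m + 1)) (N : ℕ) :
    ∃ (H : Type) (_ : Group H) (_ : Fintype H), N < Fintype.card H ∧ ((∀ r : ℕ, r.Prime → (r ∣ Nat.card ↥(Cfsg.Lie.Sz F (2 ^ (m + 1))) ↔ r ∣ Nat.card H)) ∧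
      (∀ r s : ℕ, r.Prime → s.Prime → r ≠ s → ((∃ x : ↥(Cfsg.Lie.Sz F (2 ^ (m + 1))), orderOf x = r * s) ↔ (∃ y : H, orderOf y = r * s)))) := by
  have : Fact (Nat.Prime 2) := ⟨Nat.prime_two⟩
  have : CharP F 2 := by
    obtain ⟨p, hp⟩ := CharP.exists F
    obtain ⟨n, hp', hn⟩ := FiniteField.card F p
    have : p ∣ 2 ^ (2 * m + 1) := hF ▸ hn ▸ dvd_pow_self p n.ne_zero
    have h2 := (Nat.prime_dvd_prime_iff_eq hp' Nat.prime_two).mp (hp'.dvd_of_dvd_pow this)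
    exact h2 ▸ hp
  classical
  set S := Cfsg.Lie.Sz F (2 ^ (m + 1))
  have h2 : 2 ∣ Nat.card S := by
    obtain ⟨g, hg⟩ := J_mem (F := F) (m + 1)
    simpa [hg] using orderOf_dvd_natCard g
  let ρ : S →* ((Fin 4 → F) ≃ₗ[F] (Fin 4 → F)) :=
    ((LinearMap.GeneralLinearGroup.generalLinearEquiv F (Fin 4 → F)).toMonoidHom.comp
      Matrix.GeneralLinearGroup.toLin.toMonoidHom).comp S.subtype
  obtain ⟨H, i1, i2, h3, h4, h5⟩ := PrimeGraphExt.exists_large_of_linear h2 ρ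
    (fun g v hv hgv => ⟨2, Subtype.ext (pow_four_of_fix (m + 1) g.2 v hv
      ((Matrix.toLin'_apply _ v).symm.trans hgv))⟩) N
  exact ⟨H, i1, i2, by rwa [← Nat.card_eq_fintype_card], h4, h5⟩

end Cfsg.Agent.S3639
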