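import Cfsg.Statements.S3641
import Cfsg.Agent.Lib.PermDegree18

set_option autoImplicit false
open Cfsg
open scoped Pointwise

namespace Cfsg.Agent.S3641

attribute [local instance] SimplePSLApply.fact_prime_seventeen

open PermDegree18 (L Setting mult)
open Cfsg.Agent.SimplePSLOrder (aff)

section

variable {G : Type*} [Group G] [Finite G]

/-- A group with 18 Sylow 17-subgroups acts as a `Setting`. -/
theorem exists_setting (h18 : Nat.card (Sylow 17 G) = 18) :
    ∃ φ : G →* Equiv.Perm L, Setting φ.range ∧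
      ∀ k ∈ φ.ker, ∀ Q : Sylow 17 G, k ∈ Subgroup.normalizer ((Q : Subgroup G) : Set G) := by
  classical
  have := Fintype.ofFinite (Sylow 17 G)
  obtain ⟨P⟩ : Nonempty (Sylow 17 G) := inferInstance
  let φ₀ := MulAction.toPermHom G (Sylow 17 G)
  let P' := (P : Subgroup G).map φ₀
  obtain ⟨Q₀, hQ₀⟩ : ∃ Q : Sylow 17 G, Q ≠ P := by
    have : Nontrivial (Sylow 17 G) := Finite.one_lt_card_iff_nontrivial.1 (by omega)
    exact exists_ne P
  have hfix : ∀ Q : Sylow 17 G, (∀ g ∈ (P : Subgroup G), g • Q = Q) → Q = P := by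
    intro Q hQ
    have hle : (P : Subgroup G) ≤ Subgroup.normalizer ((Q : Subgroup G) : Set G) := fun g hg =>
      Sylow.smul_eq_iff_mem_normalizer.1 (hQ g hg)
    have h1 : (P : Subgroup G) ⊓ Subgroup.normalizer ((Q : Subgroup G) : Set G) = (P : Subgroup G) ⊓ (Q : Subgroup G) :=
      P.2.inf_normalizer_sylow Q
    rw [inf_eq_left.2 hle] at h1
    exact Sylow.ext (P.3 Q.2 (inf_eq_left.1 h1.symm))
  obtain ⟨g₀, hg₀, hg₀Q⟩ : ∃ g ∈ (P : Subgroup G), g • Q₀ ≠ Q₀ := by
    by_contra h
    push Not at h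
    exact hQ₀ (hfix Q₀ h)
  obtain ⟨i, hi⟩ := IsPGroup.iff_card.1 (P.2.map φ₀)
  have hdvd : 17 ^ i ∣ Nat.factorial 18 := by
    rw [← hi]
    have := Subgroup.card_subgroup_dvd_card P'
    rwa [Nat.card_perm, h18] at this
  set τ := φ₀ g₀ with hτdef
  have hτmem : τ ∈ P' := ⟨g₀, hg₀, rfl⟩
  have hτ1 : τ ≠ 1 := fun h => hg₀Q (Equiv.ext_iff.1 h Q₀)
  have hi1 : i = 1 := by
    rcases Nat.lt_or_ge i 2 with h | h
    · interval_cases i
      · rw [pow_zero] at hi
        rw [Subgroup.eq_bot_of_card_eq P' hi, Subgroup.mem_bot] at hτmem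
        exact absurd hτmem hτ1
      · rfl
    · exfalso
      have : 17 ^ 2 ∣ Nat.factorial 18 := (pow_dvd_pow 17 h).trans hdvd
      revert this
      decide +kernel
  rw [hi1, pow_one] at hi
  have hτord : orderOf τ = 17 := orderOf_eq_prime (by
    have h : (⟨τ, hτmem⟩ : P') ^ Nat.card P' = 1 := pow_card_eq_one'
    rw [hi] at h
    exact congrArg Subtype.val h) hτ1
  have hP' : P' = Subgroup.zpowers τ := (Subgroup.eq_of_le_of_card_ge
    (Subgroup.zpowers_le.2 hτmem) (by rw [Nat.card_zpowers, hτord, hi])).symm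
  have hτP : τ P = P := Sylow.smul_eq_iff_mem_normalizer.2 (Subgroup.le_normalizer hg₀)
  have hτn : ∀ n : ℕ, (τ ^ n) P = P := fun n => by
    induction n with
    | zero => rfl
    | succ n ih => rw [pow_succ, Equiv.Perm.mul_apply, hτP, ih]
  have hpm : ∀ a b : ZMod 17, τ ^ (a + b).val = τ ^ a.val * τ ^ b.val := fun a b => by
    rw [← pow_add, ← pow_mod_orderOf τ (a.val + b.val), hτord, ZMod.val_add]
  let f : L → Sylow 17 G := fun o => o.elim P fun a => (τ ^ a.val) Q₀
  have hfree : ∀ a : ZMod 17, (τ ^ a.val) Q₀ = Q₀ → a = 0 := by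
    intro a ha
    by_contra ha0
    apply hg₀Q
    obtain ⟨c, hc⟩ : ∃ c : ℕ, (τ ^ a.val) ^ c = τ := by
      refine ⟨(a⁻¹).val, ?_⟩
      rw [← pow_mul, ← pow_mod_orderOf, hτord, ← ZMod.val_mul, mul_inv_cancel₀ ha0, ZMod.val_one,
        pow_one]
    have h : ∀ n : ℕ, ((τ ^ a.val) ^ n) Q₀ = Q₀ := fun n => by
      induction n with
      | zero => rfl
      | succ n ih => rw [pow_succ, Equiv.Perm.mul_apply, ha, ih]
    have := h c
    rwa [hc] at this
  have hne : ∀ n : ℕ, (τ ^ n) Q₀ ≠ P := fun n h =>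
    hQ₀ ((τ ^ n).injective (h.trans (hτn n).symm))
  have hfi : Function.Injective f := by
    rintro (_ | a) (_ | b) h
    · rfl
    · exact absurd h.symm (hne _)
    · exact absurd h (hne _)
    · have h' : (τ ^ (a - b).val) Q₀ = Q₀ := by
        apply (τ ^ b.val).injective
        rw [← Equiv.Perm.mul_apply, ← hpm, add_sub_cancel]
        exact h
      rw [sub_eq_zero.1 (hfree _ h')]
  have hfb : Function.Bijective f := hfi.bijective_of_nat_card_le (by
    rw [h18, PermDegree18.Setting.card_L])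
  let e : L ≃ Sylow 17 G := Equiv.ofBijective f hfb
  let φ : G →* Equiv.Perm L := e.symm.permCongrHom.toMonoidHom.comp φ₀
  have hφ : ∀ g o, φ g o = e.symm (g • e o) := fun g o => rfl
  refine ⟨φ, ⟨fun b => ?_, ?_, ?_⟩, fun k hk Q => ?_⟩
  · refine ⟨φ (g₀ ^ b.val), ⟨_, rfl⟩, funext fun o => ?_⟩
    rw [hφ, Equiv.symm_apply_eq]
    have : φ₀ (g₀ ^ b.val) = τ ^ b.val := map_pow φ₀ g₀ b.val
    change φ₀ (g₀ ^ b.val) (f o) = f (aff 1 b o)
    rw [this]
    rcases o with _ | a
    · exact hτn _
    · change (τ ^ b.val) ((τ ^ a.val) Q₀) = (τ ^ (1 * a + b).val) Q₀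
      rw [← Equiv.Perm.mul_apply, ← hpm, one_mul, add_comm]
  · obtain ⟨h, hh⟩ := MulAction.exists_smul_eq G P Q₀
    refine ⟨φ h, ⟨h, rfl⟩, fun h' => hQ₀ ?_⟩
    rw [hφ, Equiv.symm_apply_eq] at h'
    exact hh.symm.trans h'
  · rintro _ ⟨g, rfl⟩ hg
    rw [hφ, Equiv.symm_apply_eq] at hg
    have hgN : g ∈ Subgroup.normalizer ((P : Subgroup G) : Set G) :=
      Sylow.smul_eq_iff_mem_normalizer.1 hg
    have hconj : φ₀ g * τ * (φ₀ g)⁻¹ ∈ Subgroup.zpowers τ := by
      rw [← hP', hτdef, ← map_inv, ← map_mul, ← map_mul]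
      exact ⟨_, (Subgroup.mem_normalizer_iff.1 hgN g₀).1 hg₀, rfl⟩
    obtain ⟨k, hk⟩ := (isOfFinOrder_of_finite τ).mem_powers_iff_mem_zpowers.2 hconj
    have hk' : ∀ n : ℕ, φ₀ g * τ ^ n * (φ₀ g)⁻¹ = τ ^ (k * n) := fun n => by
      rw [← conj_pow, ← hk, ← pow_mul]
    obtain ⟨b, hb⟩ : ∃ b, e.symm (g • Q₀) = some b := by
      rcases ho : e.symm (g • Q₀) with _ | b
      · exfalso
        rw [Equiv.symm_apply_eq] at ho
        exact hQ₀ (smul_left_cancel g (ho.trans hg.symm))
      · exact ⟨b, rfl⟩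
    refine ⟨(k : ZMod 17), b, funext fun o => ?_⟩
    rw [hφ, Equiv.symm_apply_eq]
    rcases o with _ | a
    · exact hg
    · rw [Equiv.symm_apply_eq] at hb
      change φ₀ g ((τ ^ a.val) Q₀) = (τ ^ ((k : ZMod 17) * a + b).val) Q₀
      rw [hpm, Equiv.Perm.mul_apply]
      have h1 : φ₀ g * τ ^ a.val = τ ^ ((k : ZMod 17) * a).val * φ₀ g := by
        rw [← mul_inv_eq_iff_eq_mul, hk', ← pow_mod_orderOf, hτord, ZMod.val_mul,
          ZMod.val_natCast, Nat.mod_mul_mod]
      rw [← Equiv.Perm.mul_apply, h1, Equiv.Perm.mul_apply]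
      exact congrArg _ hb
  · refine Sylow.smul_eq_iff_mem_normalizer.1 ?_
    have := Equiv.ext_iff.1 (MonoidHom.mem_ker.1 hk) (e.symm Q)
    rw [hφ, Equiv.Perm.one_apply, Equiv.apply_symm_apply] at this
    exact e.symm.injective this

end

section

variable {X : Subgroup (Equiv.Perm L)}

/-- Primes of the order of such a group. -/
theorem prime_dvd_card (hX : Setting X) {q : ℕ} (hq : q.Prime) (h : q ∣ Nat.card X) :
    q = 2 ∨ q = 3 ∨ q = 17 := by
  obtain ⟨i, -, hi⟩ := (Nat.dvd_prime_pow Nat.prime_two).1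
    (show Nat.card (mult X) ∣ 2 ^ 4 from PermDegree18.Setting.card_mult_dvd)
  rw [hX.card_eq, hi] at h
  have e2 : ∀ {n : ℕ}, q ∣ 2 ^ n → q = 2 := fun h' =>
    (Nat.prime_dvd_prime_iff_eq hq Nat.prime_two).1 (hq.dvd_of_dvd_pow h')
  rcases hq.dvd_mul.1 h with h | h
  · rcases hq.dvd_mul.1 (show q ∣ 2 * 3 ^ 2 from h) with h | h
    · exact Or.inl ((Nat.prime_dvd_prime_iff_eq hq Nat.prime_two).1 h)
    · exact Or.inr (Or.inl ((Nat.prime_dvd_prime_iff_eq hq Nat.prime_three).1 (hq.dvd_of_dvd_pow h)))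
  · rcases hq.dvd_mul.1 h with h | h
    · exact Or.inr (Or.inr ((Nat.prime_dvd_prime_iff_eq hq (by norm_num)).1 h))
    · exact Or.inl (e2 h)

theorem card_sylow_three (hX : Setting X) :
    68 ≤ Nat.card (Sylow 3 X) := by
  classical
  have : Fact (Nat.Prime 3) := ⟨Nat.prime_three⟩
  have := hX.transitive
  obtain ⟨x, hx⟩ := hX.exists_orderOf_nine
  have hz : IsPGroup 3 (Subgroup.zpowers x) :=
    IsPGroup.of_card (n := 2) (by rw [Nat.card_zpowers, hx]; norm_num)
  obtain ⟨R, hR⟩ := hz.exists_le_sylow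
  have hRc : Nat.card R = 9 := by
    rw [R.card_eq_multiplicity, hX.card_eq]
    rcases hX.card_mult with h | h <;> rw [h]
    · rw [show 18 * (17 * 8) = 3 ^ 2 * 272 by norm_num, Nat.factorization_mul (by norm_num)
        (by norm_num), Finsupp.add_apply, Nat.Prime.factorization_pow (by norm_num),
        Finsupp.single_eq_same, Nat.factorization_eq_zero_of_not_dvd (by norm_num)]
      norm_num
    · rw [show 18 * (17 * 16) = 3 ^ 2 * 544 by norm_num, Nat.factorization_mul (by norm_num)
        (by norm_num), Finsupp.add_apply, Nat.Prime.factorization_pow (by norm_num),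
        Finsupp.single_eq_same, Nat.factorization_eq_zero_of_not_dvd (by norm_num)]
      norm_num
  have hReq : (R : Subgroup X) = Subgroup.zpowers x :=
    (Subgroup.eq_of_le_of_card_ge hR (by rw [Nat.card_zpowers, hx, hRc])).symm
  set N := Subgroup.normalizer ((R : Subgroup X) : Set X) with hN
  have hst : Nat.card (MulAction.stabilizer N (none : L)) ≤ 2 := by
    have hinj : Function.Injective (R.1.normalizerMonoidHom.comp
        (MulAction.stabilizer N (none : L)).subtype) := by
      rw [← MonoidHom.ker_eq_bot_iff, Subgroup.eq_bot_iff_forall]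
      intro h hh
      have hc : ((h : N) : X) * x = x * (h : N) := by
        have := congrArg (fun z : R.1 => (z : X)) (DFunLike.congr_fun (MonoidHom.mem_ker.1 hh)
          (⟨x, hR (Subgroup.mem_zpowers x)⟩ : R.1))
        exact mul_inv_eq_iff_eq_mul.1 this
      have h0 : ((h : N) : X) • (none : L) = none := h.2
      have hfix : ∀ n : ℕ, ((h : N) : X) • (x ^ n • (none : L)) = x ^ n • (none : L) := fun n => by
        rw [← mul_smul, (Commute.pow_right hc n).eq, mul_smul, h0]
      have hne : ∀ n : ℕ, n ≠ 0 → n < 9 → x ^ n • (none : L) ≠ none := by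
        intro n hn0 hn9 he'
        have he : x ^ n ∈ MulAction.stabilizer X (none : L) := he'
        have hd := orderOf_dvd_natCard (⟨x ^ n, he⟩ : MulAction.stabilizer X (none : L))
        have hd2 : orderOf (⟨x ^ n, he⟩ : MulAction.stabilizer X (none : L)) ∣ 9 := by
          rw [Subgroup.orderOf_mk]; exact hx ▸ orderOf_pow_dvd n
        have h1 : orderOf (⟨x ^ n, he⟩ : MulAction.stabilizer X (none : L)) ∣
            Nat.gcd (17 * Nat.card (mult X)) 9 := Nat.dvd_gcd (hX.card_stab ▸ hd) hd2
        have h2 : Nat.gcd (17 * Nat.card (mult X)) 9 = 1 := by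
          rcases hX.card_mult with h | h <;> rw [h] <;> norm_num
        rw [h2, Nat.dvd_one, Subgroup.orderOf_mk, orderOf_eq_one_iff] at h1
        have := Nat.le_of_dvd (by omega) (hx ▸ orderOf_dvd_of_pow_eq_one h1)
        omega
      have h12 : x ^ 1 • (none : L) ≠ x ^ 2 • (none : L) := by
        rw [show x ^ 2 = x ^ 1 * x ^ 1 by group, mul_smul]
        exact (MulAction.injective (x ^ 1)).ne (hne 1 one_ne_zero (by norm_num)).symm
      exact Subtype.ext (Subtype.ext (hX.three _ (none : L) (x ^ 1 • (none : L)) (x ^ 2 • (none : L))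
        (hne 1 one_ne_zero (by norm_num)).symm h12 (hne 2 two_ne_zero (by norm_num)).symm
        h0 (hfix 1) (hfix 2)))
    have hd1 : Nat.card (MulAction.stabilizer N (none : L)) ∣ Nat.card (MulAut R.1) :=
      Subgroup.card_dvd_of_injective _ hinj
    have hcyc : IsCyclic R.1 := by rw [hReq]; infer_instance
    rw [IsCyclic.card_mulAut] at hd1
    rw [show Nat.card R.1 = 9 from hRc, show Nat.totient 9 = 6 by decide] at hd1
    have hd2 : Nat.card (MulAction.stabilizer N (none : L)) ∣ 17 * Nat.card (mult X) := by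
      rw [← hX.card_stab]
      refine Subgroup.card_dvd_of_injective
        ((N.subtype.comp (MulAction.stabilizer N (none : L)).subtype).codRestrict
          (MulAction.stabilizer X (none : L)) fun h => h.2) ?_
      intro h h' hh
      exact Subtype.ext (Subtype.ext (congrArg (fun z : MulAction.stabilizer X (none : L) => z.1) hh))
    have hd := Nat.dvd_gcd hd1 hd2
    have : Nat.gcd 6 (17 * Nat.card (mult X)) = 2 := by
      rcases hX.card_mult with h | h <;> rw [h] <;> norm_num
    rw [this] at hd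
    exact Nat.le_of_dvd (by norm_num) hd
  have hNle : Nat.card N ≤ 36 := by
    rw [← PermBasic.card_orbit_mul_card_stabilizer (G := N) (none : L)]
    have : Nat.card (MulAction.orbit N (none : L)) ≤ 18 := by
      rw [Nat.card_coe_set_eq, ← PermDegree18.Setting.card_L, ← Set.ncard_univ]
      exact Set.ncard_le_ncard (Set.subset_univ _)
    calc _ ≤ 18 * 2 := Nat.mul_le_mul this hst
      _ = 36 := rfl
  rw [R.card_eq_index_normalizer]
  change 68 ≤ N.index
  have hm := N.index_mul_card
  rw [hX.card_eq] at hm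
  rcases hX.card_mult with h | h <;> rw [h] at hm <;>
    nlinarith [Nat.mul_le_mul_left N.index hNle]

theorem card_sylow_two (hX : Setting X) : 153 ≤ Nat.card (Sylow 2 X) := by
  classical
  have : Fact (Nat.Prime 2) := ⟨Nat.prime_two⟩
  have := hX.twoTransitive
  let pair : Set L := {none, some 0}
  let T := MulAction.stabilizer X pair
  obtain ⟨w, hw1, hw2⟩ := PermMultiTrans.exists_smul_two (G := X) (a := (none : L)) (b := some 0)
    (c := some 0) (d := none) (by simp) (by simp)
  let H := MulAction.stabilizer X (none : L) ⊓ MulAction.stabilizer X (some 0 : L)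
  have hmemT : ∀ g : X, g ∈ T ↔ (g • (none : L) = none ∧ g • (some 0 : L) = some 0) ∨
      (g • (none : L) = some 0 ∧ g • (some 0 : L) = none) := by
    intro g
    rw [MulAction.mem_stabilizer_iff]
    simp only [pair, Set.smul_set_insert, Set.smul_set_singleton, Set.pair_eq_pair_iff]
  have hTH : (H.subgroupOf T).index = 2 := by
    rw [Subgroup.index_eq_two_iff]
    refine ⟨⟨w, (hmemT w).2 (Or.inr ⟨hw1, hw2⟩)⟩, fun b => ?_⟩
    rcases (hmemT b.1).1 b.2 with ⟨h1, h2⟩ | ⟨h1, h2⟩
    · refine Or.inr ⟨⟨h1, h2⟩, fun h => ?_⟩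
      have h3 : (b.1 * w) • (none : L) = none := h.1
      rw [mul_smul, hw1, h2] at h3
      exact Option.some_ne_none _ h3
    · refine Or.inl ⟨⟨?_, ?_⟩, fun h => ?_⟩
      · change (b.1 * w) • (none : L) = none
        rw [mul_smul, hw1, h2]
      · change (b.1 * w) • (some 0 : L) = some 0
        rw [mul_smul, hw2, h1]
      · have h3 : b.1 • (none : L) = none := h.1
        rw [h1] at h3
        exact Option.some_ne_none _ h3
  have hTcard : Nat.card T = 2 * Nat.card (mult X) := by
    rw [← (H.subgroupOf T).index_mul_card, hTH, ← hX.card_two_point]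
    congr 1
    refine Nat.card_congr (Subgroup.subgroupOfEquivOfLe fun g hg => (hmemT g).2 (Or.inl hg)).toEquiv
  have hTp : IsPGroup 2 T := by
    rcases hX.card_mult with h | h <;> rw [h] at hTcard
    · exact IsPGroup.of_card (n := 4) hTcard
    · exact IsPGroup.of_card (n := 5) hTcard
  obtain ⟨S, hS⟩ := hTp.exists_le_sylow
  have hSc : Nat.card S = 2 * Nat.card (mult X) := by
    rw [S.card_eq_multiplicity, hX.card_eq]
    rcases hX.card_mult with h | h <;> rw [h]
    · rw [show 18 * (17 * 8) = 2 ^ 4 * 153 by norm_num, Nat.factorization_mul (by norm_num)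
        (by norm_num), Finsupp.add_apply, Nat.Prime.factorization_pow (by norm_num),
        Finsupp.single_eq_same, Nat.factorization_eq_zero_of_not_dvd (by norm_num)]
      norm_num
    · rw [show 18 * (17 * 16) = 2 ^ 5 * 153 by norm_num, Nat.factorization_mul (by norm_num)
        (by norm_num), Finsupp.add_apply, Nat.Prime.factorization_pow (by norm_num),
        Finsupp.single_eq_same, Nat.factorization_eq_zero_of_not_dvd (by norm_num)]
      norm_num
  have hST : (S : Subgroup X) = T :=
    (Subgroup.eq_of_le_of_card_ge hS (by rw [hTcard, hSc])).symm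
  -- a multiplier of order at least three
  obtain ⟨s, hsm, hs2⟩ : ∃ s ∈ mult X, ((s : ZMod 17)) ^ 2 ≠ 1 := by
    by_contra hc
    push Not at hc
    let F : mult X → {z : ZMod 17 // z ^ 2 = 1} := fun z => ⟨(z : (ZMod 17)ˣ), hc z z.2⟩
    have := Nat.card_le_card_of_injective F fun z z' h =>
      Subtype.ext (Units.ext (congrArg Subtype.val h))
    rw [show Nat.card {z : ZMod 17 // z ^ 2 = 1} = 2 by
      rw [Nat.card_eq_fintype_card]; decide +kernel] at this
    rcases hX.card_mult with h | h <;> omega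
  obtain ⟨d, hdX, hd⟩ := hsm
  have hdT : (⟨d, hdX⟩ : X) ∈ T := (hmemT _).2 (Or.inl ⟨by change d none = none; rw [hd]; rfl,
    by change d (some 0) = some 0; rw [hd]; simp [SimplePSLOrder.aff]⟩)
  have hNT : Subgroup.normalizer ((T : Subgroup X) : Set X) ≤ T := by
    intro g hg
    have hinv : ∀ h ∈ T, h • (g • pair) = g • pair := by
      intro h hh
      have : g⁻¹ * h * g ∈ T := by
        have := (Subgroup.mem_normalizer_iff.1 (Subgroup.inv_mem _ hg) h).1 hh
        simpa using this
      have := MulAction.mem_stabilizer_iff.1 this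
      rw [mul_smul, mul_smul, inv_smul_eq_iff] at this
      exact this
    have key := hinv _ hdT
    obtain ⟨u, hu⟩ : ∃ u, g • (none : L) = u := ⟨_, rfl⟩
    obtain ⟨v, hv⟩ : ∃ v, g • (some 0 : L) = v := ⟨_, rfl⟩
    have huv : u ≠ v := by rw [← hu, ← hv]; exact (MulAction.injective g).ne (by simp)
    rw [hmemT, hu, hv]
    simp only [pair, Set.smul_set_insert, Set.smul_set_singleton, hu, hv,
      Set.pair_eq_pair_iff] at key
    have hdd : ∀ z, (⟨d, hdX⟩ : X) • z = aff (s : ZMod 17) 0 z := fun z => congrFun hd z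
    rw [hdd, hdd] at key
    have hs0 : (s : ZMod 17) ≠ 0 := s.ne_zero
    have hs1 : (s : ZMod 17) ≠ 1 := fun h => hs2 (by rw [h, one_pow])
    rcases u with _ | i <;> rcases v with _ | j
    · exact absurd rfl huv
    · simp [SimplePSLOrder.aff] at key ⊢
      by_contra hj
      exact hs1 (mul_right_cancel₀ hj (key.trans (one_mul j).symm))
    · simp [SimplePSLOrder.aff] at key ⊢
      by_contra hj
      exact hs1 (mul_right_cancel₀ hj (key.trans (one_mul i).symm))
    · exfalso
      simp [SimplePSLOrder.aff] at key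
      rcases key with ⟨k1, k2⟩ | ⟨k1, k2⟩
      · have hi : i = 0 := by
          by_contra h; exact hs1 (mul_right_cancel₀ h (k1.trans (one_mul i).symm))
        have hj : j = 0 := by
          by_contra h; exact hs1 (mul_right_cancel₀ h (k2.trans (one_mul j).symm))
        exact huv (by rw [hi, hj])
      · have hi : i = 0 := by
          by_contra h
          refine hs2 (mul_right_cancel₀ h ?_)
          rw [pow_two, mul_assoc, k1, k2, one_mul]
        exact huv (by rw [hi, ← k1, hi, mul_zero])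
  rw [S.card_eq_index_normalizer]
  change 153 ≤ (Subgroup.normalizer (((S : Subgroup X)) : Set X)).index
  rw [hST]
  have hle : Nat.card (Subgroup.normalizer ((T : Subgroup X) : Set X)) ≤ 2 * Nat.card (mult X) :=
    hTcard ▸ Nat.le_of_dvd Nat.card_pos (Subgroup.card_dvd_of_le hNT)
  set N := Subgroup.normalizer ((T : Subgroup X) : Set X)
  have hm := N.index_mul_card
  rw [hX.card_eq] at hm
  rcases hX.card_mult with h | h <;> rw [h] at hm hle <;>
    nlinarith [Nat.mul_le_mul_left N.index hle]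

end

section

variable {G : Type*} [Group G] [Finite G] {H : Type*} [Group H]

/-- Sylow numbers of a quotient. -/
theorem sylow_image {r : ℕ} [Fact r.Prime] (f : G →* H) (hf : Function.Surjective f) (R : Sylow r G) :
    Nat.card (Sylow r H) ∣ Nat.card (Sylow r G) ∧
      (Nat.card (Sylow r H) = Nat.card (Sylow r G) →
        f.ker ≤ Subgroup.normalizer ((R : Subgroup G) : Set G)) := by
  have : Finite H := Finite.of_surjective f hf
  let R' := R.mapSurjective hf
  set M := (Subgroup.normalizer ((R' : Subgroup H) : Set H)).comap f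
  have hle : Subgroup.normalizer ((R : Subgroup G) : Set G) ≤ M := by
    intro g hg
    have : f g ∈ (Subgroup.normalizer ((R : Subgroup G) : Set G)).map f := ⟨g, hg, rfl⟩
    exact Subgroup.le_normalizer_map f this
  have hidx : M.index = Nat.card (Sylow r H) :=
    (Subgroup.index_comap_of_surjective _ hf).trans R'.card_eq_index_normalizer.symm
  refine ⟨hidx ▸ R.card_eq_index_normalizer.symm ▸ Subgroup.index_dvd_of_le hle, fun heq => ?_⟩
  have : Subgroup.normalizer ((R : Subgroup G) : Set G) = M := by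
    refine Subgroup.eq_of_le_of_card_ge hle (le_of_eq ?_)
    have h1 := M.index_mul_card
    rw [← (Subgroup.normalizer ((R : Subgroup G) : Set G)).index_mul_card, hidx, heq,
      R.card_eq_index_normalizer] at h1
    exact Nat.eq_of_mul_eq_mul_left (Nat.pos_of_ne_zero Subgroup.index_ne_zero_of_finite) h1
  rw [this]
  intro k hk
  rw [Subgroup.mem_comap, MonoidHom.mem_ker.1 hk]
  exact one_mem _

/-- A normal subgroup normalising all Sylow `r`-subgroups meets them in one normal subgroup. -/
theorem inf_normal {r : ℕ} [Fact r.Prime] (K : Subgroup G) [K.Normal]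
    (hK : ∀ R : Sylow r G, K ≤ Subgroup.normalizer ((R : Subgroup G) : Set G)) (R : Sylow r G) :
    ((R : Subgroup G) ⊓ K).Normal := by
  have key : ∀ R' : Sylow r G, (R' : Subgroup G) ⊓ K ≤ (R : Subgroup G) ⊓ K := by
    intro R'
    refine le_inf ?_ inf_le_right
    have hp : IsPGroup r (((R' : Subgroup G) ⊓ K) ⊔ R : Subgroup G) :=
      (R'.2.to_le inf_le_left).to_sup_of_normal_right' R.2 (inf_le_right.trans (hK R))
    exact le_sup_left.trans (R.3 hp le_sup_right).le
  refine ⟨fun x hx g => key (g • R) ⟨?_, Subgroup.Normal.conj_mem ‹_› x hx.2 g⟩⟩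
  rw [SetLike.mem_coe, Sylow.coe_subgroup_smul]
  exact Subgroup.smul_mem_pointwise_smul _ (MulAut.conj g) _ hx.1

/-- Product formula for the index in a product with a normal subgroup. -/
theorem relIndex_sup_normal (N K : Subgroup G) [K.Normal] :
    N.relIndex (N ⊔ K) = N.relIndex K := by
  have h1 := Subgroup.relIndex_mul_relIndex (N ⊓ K) N (N ⊔ K) inf_le_left le_sup_left
  have h2 := Subgroup.relIndex_mul_relIndex (N ⊓ K) K (N ⊔ K) inf_le_right le_sup_right
  rw [Subgroup.inf_relIndex_left] at h1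
  rw [Subgroup.inf_relIndex_right, Subgroup.relIndex_sup_right] at h2
  rw [← h2, mul_comm (N.relIndex K)] at h1
  exact Nat.eq_of_mul_eq_mul_left (Nat.pos_of_ne_zero (show K.relIndex N ≠ 0 from Subgroup.index_ne_zero_of_finite)) h1

/-- The arithmetic obstruction for the extra primes. -/
theorem no_extra_prime {q r : ℕ} [Fact q.Prime] [Fact r.Prime] (K : Subgroup G) [K.Normal]
    (R : Sylow r G) [hRn : ((R : Subgroup G) ⊓ K).Normal] (Q : Sylow q G)
    (hQK : (Q : Subgroup G) ≤ K) (a b : ℕ) (hn : Nat.card (Sylow q G) = r ^ a * b)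
    (hb : ¬ r ∣ b) (hmod : r ^ a % q ≠ 1) : False := by
  classical
  set Kr := (R : Subgroup G) ⊓ K
  set N := Subgroup.normalizer ((Q : Subgroup G) : Set G)
  have hfr : N ⊔ K = ⊤ := by
    have h1 := Sylow.normalizer_sup_eq_top (Q.subtype hQK)
    rwa [show (((Q.subtype hQK : Sylow q K) : Subgroup K).map K.subtype) = (Q : Subgroup G) by
      rw [Sylow.coe_subtype, Subgroup.map_subgroupOf_eq_of_le hQK]] at h1
  set NK := N ⊓ K
  have htot : NK.relIndex K = r ^ a * b := by
    rw [← hn, Q.card_eq_index_normalizer, Subgroup.inf_relIndex_right,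
      ← relIndex_sup_normal N K, hfr, Subgroup.relIndex_top_right]
    rfl
  set H := NK ⊔ Kr
  have hHK : H ≤ K := sup_le inf_le_right inf_le_right
  have hprod : NK.relIndex H * H.relIndex K = r ^ a * b := by
    rw [← htot]; exact Subgroup.relIndex_mul_relIndex _ _ _ le_sup_left hHK
  have hrpow : ∃ c, NK.relIndex H = r ^ c := by
    change ∃ c, NK.relIndex (NK ⊔ Kr) = r ^ c
    rw [relIndex_sup_normal NK Kr]
    have hp : IsPGroup r Kr := R.2.to_le inf_le_left
    have h1 : NK.relIndex Kr ∣ Nat.card Kr := Subgroup.relIndex_dvd_card _ _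
    obtain ⟨c, hc⟩ := IsPGroup.iff_card.1 hp
    rw [hc] at h1
    obtain ⟨c', -, hc'⟩ := (Nat.dvd_prime_pow Fact.out).1 h1
    exact ⟨c', hc'⟩
  have hrnd : ¬ r ∣ H.relIndex K := by
    intro h
    have h1 : r ∣ Kr.relIndex K := h.trans (Subgroup.relIndex_dvd_of_le_left K le_sup_right)
    rw [Subgroup.inf_relIndex_right] at h1
    have h2 : ((R : Subgroup G).relIndex K) ∣ (R : Subgroup G).index := by
      rw [← relIndex_sup_normal (R : Subgroup G) K]
      exact Dvd.intro _ (Subgroup.relIndex_mul_index le_sup_left)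
    exact R.not_dvd_index (h1.trans h2)
  obtain ⟨c, hc⟩ := hrpow
  have hca : r ^ c = r ^ a := by
    rw [hc] at hprod
    have hcop1 : Nat.Coprime (r ^ c) b :=
      ((Nat.Prime.coprime_iff_not_dvd Fact.out).2 hb).pow_left c
    have hcop2 : Nat.Coprime (r ^ a) (H.relIndex K) :=
      ((Nat.Prime.coprime_iff_not_dvd Fact.out).2 hrnd).pow_left a
    exact Nat.dvd_antisymm (hcop1.dvd_of_dvd_mul_right (Dvd.intro _ hprod))
      (hcop2.dvd_of_dvd_mul_right (Dvd.intro _ hprod.symm))
  have hQH : (Q : Subgroup G) ≤ H := (le_inf Subgroup.le_normalizer hQK).trans le_sup_left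
  let QH := Q.subtype hQH
  have hsyl : Nat.card (Sylow q H) = NK.relIndex H := by
    rw [QH.card_eq_index_normalizer]
    change (Subgroup.normalizer (((Q : Subgroup G).subgroupOf H : Subgroup H) : Set H)).index = _
    rw [← Subgroup.subgroupOf_normalizer_eq hQH]
    change N.relIndex H = (N ⊓ K).relIndex H
    rw [← Subgroup.inf_relIndex_right (N ⊓ K) H, inf_assoc, inf_eq_right.2 hHK,
      Subgroup.inf_relIndex_right]
  have h1 := card_sylow_modEq_one q H
  rw [hsyl, hc, hca, Nat.ModEq, Nat.mod_eq_of_lt (Fact.out : q.Prime).one_lt] at h1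
  exact hmod h1

end

/-- Let G be a finite group with trivial centre whose set of Sylow numbers (numbers of Sylow r-subgroups, r over the prime divisors of its order) is exactly {18, 136, 153}. Then G is isomorphic to PSL(2, 17) or to PGL(2, 17). -/
theorem result {G : Type*} [Group G] [Finite G] (hZ : Subgroup.center G = ⊥) (hNS : {c : ℕ | ∃ r : ℕ, r.Prime ∧ r ∣ Nat.card G ∧ c = Nat.card (Sylow r G)} = ({18, 136, 153} : Set ℕ))
    {F : Type*} [Field F] [Fintype F] (hF : Fintype.card F = 17) :
    Nonempty (G ≃* Matrix.ProjectiveSpecialLinearGroup (Fin 2) F) ∨ Nonempty (G ≃* (GL (Fin 2) F ⧸ Subgroup.center (GL (Fin 2) F))) := by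
  classical
  have hin : ∀ c ∈ ({18, 136, 153} : Set ℕ), ∃ r : ℕ, r.Prime ∧ r ∣ Nat.card G ∧ c = Nat.card (Sylow r G) :=
    fun c hc => by rw [← hNS] at hc; exact hc
  have hval : ∀ r : ℕ, r.Prime → r ∣ Nat.card G → Nat.card (Sylow r G) = 18 ∨
      Nat.card (Sylow r G) = 136 ∨ Nat.card (Sylow r G) = 153 := fun r hr hd => by
    have : Nat.card (Sylow r G) ∈ ({18, 136, 153} : Set ℕ) := hNS ▸ ⟨r, hr, hd, rfl⟩
    simpa using this
  have hsm : ∀ (r n : ℕ), r.Prime → Nat.card (Sylow r G) = n → n ≠ 0 → r ∣ n - 1 := by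
    intro r n hr hn hn0
    have : Fact r.Prime := ⟨hr⟩
    exact (Nat.modEq_iff_dvd' (by omega)).1 (hn ▸ card_sylow_modEq_one r G).symm
  obtain ⟨h18, h17d⟩ : Nat.card (Sylow 17 G) = 18 ∧ 17 ∣ Nat.card G := by
    obtain ⟨r, hr, hd, he⟩ := hin 18 (by simp)
    have h17 : r ∣ 17 := hsm r 18 hr he.symm (by norm_num)
    obtain rfl := (Nat.prime_dvd_prime_iff_eq hr (by norm_num)).1 h17
    exact ⟨he.symm, hd⟩
  have hdvd18 : 18 ∣ Nat.card G := by
    obtain ⟨P⟩ : Nonempty (Sylow 17 G) := inferInstance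
    rw [← h18, P.card_eq_index_normalizer]
    exact Subgroup.index_dvd_card _
  have : Fact (Nat.Prime 2) := ⟨Nat.prime_two⟩
  have : Fact (Nat.Prime 3) := ⟨Nat.prime_three⟩
  have : Fact (Nat.Prime 5) := ⟨by norm_num⟩
  have : Fact (Nat.Prime 19) := ⟨by norm_num⟩
  have h2 : Nat.card (Sylow 2 G) = 153 := by
    rcases hval 2 Nat.prime_two (dvd_trans (by norm_num) hdvd18) with h | h | h
    · have := hsm 2 18 Nat.prime_two h (by norm_num); omega
    · have := hsm 2 136 Nat.prime_two h (by norm_num); omega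
    · exact h
  have h3 : Nat.card (Sylow 3 G) = 136 := by
    rcases hval 3 Nat.prime_three (dvd_trans (by norm_num) hdvd18) with h | h | h
    · have := hsm 3 18 Nat.prime_three h (by norm_num); omega
    · exact h
    · have := hsm 3 153 Nat.prime_three h (by norm_num); omega
  obtain ⟨φ, hX, hker17⟩ := exists_setting h18
  set K := φ.ker with hKdef
  have hsurj := φ.rangeRestrict_surjective
  have hKker : φ.rangeRestrict.ker = K := MonoidHom.ker_rangeRestrict φ
  have hK2 : ∀ R : Sylow 2 G, K ≤ Subgroup.normalizer ((R : Subgroup G) : Set G) := fun R => by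
    obtain ⟨hd, heq⟩ := sylow_image φ.rangeRestrict hsurj R
    have := card_sylow_two hX
    rw [h2] at hd heq
    have hle := Nat.le_of_dvd (by norm_num) hd
    exact hKker ▸ heq (by omega)
  have hK3 : ∀ R : Sylow 3 G, K ≤ Subgroup.normalizer ((R : Subgroup G) : Set G) := fun R => by
    obtain ⟨hd, heq⟩ := sylow_image φ.rangeRestrict hsurj R
    have := card_sylow_three hX
    rw [h3] at hd heq
    obtain ⟨c, hc⟩ := hd
    have hc1 : c = 1 ∨ c = 2 := by
      rcases Nat.lt_or_ge c 3 with h | h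
      · interval_cases c <;> omega
      · nlinarith
    refine hKker ▸ heq ?_
    rcases hc1 with rfl | rfl
    · omega
    · have := card_sylow_modEq_one 3 φ.range
      rw [Nat.ModEq] at this
      omega
  have hprimes : ∀ q : ℕ, q.Prime → q ∣ Nat.card G → q = 2 ∨ q = 3 ∨ q = 17 := by
    intro q hq hd
    by_contra hne
    push Not at hne
    have : Fact q.Prime := ⟨hq⟩
    have hQK : ∀ Q : Sylow q G, (Q : Subgroup G) ≤ K := by
      intro Q g hg
      rw [hKdef, MonoidHom.mem_ker]
      obtain ⟨i, hi⟩ := IsPGroup.iff_orderOf.1 Q.2 ⟨g, hg⟩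
      rw [Subgroup.orderOf_mk] at hi
      have h1 : orderOf (φ.rangeRestrict g) ∣ q ^ i := hi ▸ orderOf_map_dvd _ g
      obtain ⟨j, -, hj⟩ := (Nat.dvd_prime_pow hq).1 h1
      cases j with
      | zero =>
        rw [pow_zero, orderOf_eq_one_iff] at hj
        exact congrArg Subtype.val hj
      | succ j =>
        exfalso
        have : q ∣ Nat.card φ.range := (hj ▸ dvd_pow_self q (Nat.succ_ne_zero j)).trans
          (orderOf_dvd_natCard (φ.rangeRestrict g))
        rcases prime_dvd_card hX hq this with h | h | h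
        · exact hne.1 h
        · exact hne.2.1 h
        · exact hne.2.2 h
    obtain ⟨Q⟩ : Nonempty (Sylow q G) := inferInstance
    rcases hval q hq hd with h | h | h
    · exact hne.2.2 ((Nat.prime_dvd_prime_iff_eq hq (by norm_num)).1 (hsm q 18 hq h (by norm_num)))
    · have h5 : q ∣ 3 ^ 3 * 5 := hsm q 136 hq h (by norm_num)
      rcases hq.dvd_mul.1 h5 with h' | h'
      · exact hne.2.1 ((Nat.prime_dvd_prime_iff_eq hq Nat.prime_three).1 (hq.dvd_of_dvd_pow h'))
      · obtain rfl := (Nat.prime_dvd_prime_iff_eq hq (by norm_num)).1 h'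
        obtain ⟨R⟩ : Nonempty (Sylow 2 G) := inferInstance
        have := inf_normal K hK2 R
        exact no_extra_prime K R Q (hQK Q) 3 17 (by rw [h]; norm_num) (by norm_num) (by norm_num)
    · have h5 : q ∣ 2 ^ 3 * 19 := hsm q 153 hq h (by norm_num)
      rcases hq.dvd_mul.1 h5 with h' | h'
      · exact hne.1 ((Nat.prime_dvd_prime_iff_eq hq Nat.prime_two).1 (hq.dvd_of_dvd_pow h'))
      · obtain rfl := (Nat.prime_dvd_prime_iff_eq hq (by norm_num)).1 h'
        obtain ⟨R⟩ : Nonempty (Sylow 3 G) := inferInstance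
        have := inf_normal K hK3 R
        exact no_extra_prime K R Q (hQK Q) 2 17 (by rw [h]; norm_num) (by norm_num) (by norm_num)
  have hKall : ∀ (s : ℕ), s.Prime → s ∣ Nat.card G → ∀ R : Sylow s G,
      K ≤ Subgroup.normalizer ((R : Subgroup G) : Set G) := by
    intro s hs hd R
    rcases hprimes s hs hd with rfl | rfl | rfl
    · exact hK2 R
    · exact hK3 R
    · exact fun k hk => hker17 k hk R
  have hKbot : K = ⊥ := by
    by_contra hne
    obtain ⟨r, hr, hrK⟩ := Nat.exists_prime_and_dvd (n := Nat.card K)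
      (fun h => hne (Subgroup.eq_bot_of_card_eq K h))
    have : Fact r.Prime := ⟨hr⟩
    have hrG := hrK.trans (Subgroup.card_subgroup_dvd_card K)
    obtain ⟨⟨x, hxK⟩, hx⟩ := exists_prime_orderOf_dvd_card' r hrK
    rw [Subgroup.orderOf_mk] at hx
    obtain ⟨R, hR⟩ := (IsPGroup.of_card (n := 1) (by rw [Nat.card_zpowers, hx, pow_one]) :
      IsPGroup r (Subgroup.zpowers x)).exists_le_sylow
    set Kr := (R : Subgroup G) ⊓ K with hKr
    have hKrn : Kr.Normal := inf_normal K (hKall r hr hrG) R
    have hx1 : x ≠ 1 := fun h => by rw [h, orderOf_one] at hx; exact hr.one_lt.ne hx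
    -- a central element of `R` inside `Kr`
    have hN : (Kr.subgroupOf (R : Subgroup G)).Normal := inferInstance
    have hNne : Nontrivial (Kr.subgroupOf (R : Subgroup G)) := by
      rw [Subgroup.nontrivial_iff_ne_bot]
      intro h
      have : (⟨x, hR (Subgroup.mem_zpowers x)⟩ : (R : Subgroup G)) ∈
          Kr.subgroupOf (R : Subgroup G) := ⟨hR (Subgroup.mem_zpowers x), hxK⟩
      rw [h, Subgroup.mem_bot] at this
      exact hx1 (congrArg Subtype.val this)
    obtain ⟨z, hzK, hzc, hz1⟩ : ∃ z : (R : Subgroup G), z ∈ Kr.subgroupOf (R : Subgroup G) ∧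
        z ∈ Subgroup.center (R : Subgroup G) ∧ z ≠ 1 := by
      have hint : (Kr.subgroupOf (R : Subgroup G)) ⊓ Subgroup.center (R : Subgroup G) ≠ ⊥ := by
        intro h
        obtain ⟨k, hk⟩ := IsPGroup.iff_card.1 (R.2.to_subgroup (Kr.subgroupOf (R : Subgroup G)))
        have hdvd : r ∣ Nat.card (Kr.subgroupOf (R : Subgroup G)) := by
          rw [hk]
          refine dvd_pow_self r fun h0 => ?_
          subst h0
          rw [pow_zero] at hk
          exact (Finite.one_lt_card (α := Kr.subgroupOf (R : Subgroup G))).ne' hk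
        let A : Type _ := Kr.subgroupOf (R : Subgroup G)
        let ι : MulAction (ConjAct (R : Subgroup G)) A := inferInstanceAs
          (MulAction (ConjAct (R : Subgroup G)) (Kr.subgroupOf (R : Subgroup G)))
        have hp : IsPGroup r (ConjAct (R : Subgroup G)) := R.2.of_equiv ConjAct.toConjAct
        obtain ⟨b, hb, hb1⟩ := hp.exists_fixed_point_of_prime_dvd_card_of_fixed_point A hdvd
          (a := (1 : Kr.subgroupOf (R : Subgroup G))) (fun g => smul_one g)
        apply hb1
        symm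
        have hbc : (b : (R : Subgroup G)) ∈ Subgroup.center (R : Subgroup G) := by
          rw [Subgroup.mem_center_iff]
          intro g
          have := congrArg (fun z : Kr.subgroupOf (R : Subgroup G) => (z : (R : Subgroup G)))
            (hb (ConjAct.toConjAct g))
          rw [ConjAct.Subgroup.val_conj_smul, ConjAct.smul_def, ConjAct.ofConjAct_toConjAct] at this
          exact mul_inv_eq_iff_eq_mul.1 this
        have hmem : (b : (R : Subgroup G)) ∈
            (Kr.subgroupOf (R : Subgroup G)) ⊓ Subgroup.center (R : Subgroup G) := ⟨b.2, hbc⟩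
        rw [h, Subgroup.mem_bot] at hmem
        exact Subtype.ext hmem
      obtain ⟨z, hz, hz1⟩ := (Subgroup.bot_or_exists_ne_one _).resolve_left hint
      exact ⟨z, hz.1, hz.2, hz1⟩
    have hall : ∀ (s : ℕ), s.Prime → s ∣ Nat.card G → ∀ S : Sylow s G, s ≠ r ∨ (S : Subgroup G) = R →
        (S : Subgroup G) ≤ Subgroup.centralizer {(z : G)} := by
      intro s hs hsd S hcase
      intro y hy
      rw [Subgroup.mem_centralizer_singleton_iff]
      rcases hcase with hsr | hSR
      · have : Fact s.Prime := ⟨hs⟩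
        have h1 : y * (z : G) * y⁻¹ * (z : G)⁻¹ ∈ Kr :=
          Kr.mul_mem (hKrn.conj_mem _ hzK y) (Kr.inv_mem hzK)
        have h2 : y * ((z : G) * y⁻¹ * (z : G)⁻¹) ∈ (S : Subgroup G) :=
          S.mul_mem hy ((Subgroup.mem_normalizer_iff.1 (hKall s hs hsd S hzK.2) _).1 (S.inv_mem hy))
        have hdis : Disjoint Kr (S : Subgroup G) :=
          (R.2.to_le inf_le_left).disjoint_of_ne r s (Ne.symm hsr) _ _ S.2
        have h3 := Subgroup.disjoint_def.1 hdis h1 (by
          simpa [mul_assoc] using h2)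
        rw [mul_inv_eq_one, mul_inv_eq_iff_eq_mul] at h3
        exact h3
      · have := congrArg Subtype.val (Subgroup.mem_center_iff.1 hzc ⟨y, hSR ▸ hy⟩)
        simpa using this
    have htop : Subgroup.centralizer {(z : G)} = ⊤ := by
      apply Subgroup.eq_top_of_card_eq
      refine Nat.dvd_antisymm (Subgroup.card_subgroup_dvd_card _) ?_
      rw [Nat.dvd_iff_prime_pow_dvd_dvd]
      intro s k hs hk
      rcases Nat.eq_zero_or_pos k with rfl | hk0
      · simp
      have hsd : s ∣ Nat.card G := (dvd_pow_self s (by omega)).trans hk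
      have : Fact s.Prime := ⟨hs⟩
      by_cases hsr : s = r
      · subst hsr
        exact (R.pow_dvd_card_of_pow_dvd_card hk).trans
          (Subgroup.card_dvd_of_le (hall s hs hsd R (Or.inr rfl)))
      · obtain ⟨S⟩ : Nonempty (Sylow s G) := inferInstance
        exact (S.pow_dvd_card_of_pow_dvd_card hk).trans
          (Subgroup.card_dvd_of_le (hall s hs hsd S (Or.inl hsr)))
    have hzmem : (z : G) ∈ Subgroup.center G := by
      rw [Subgroup.mem_center_iff]
      intro g
      exact Subgroup.mem_centralizer_singleton_iff.1 (htop ▸ Subgroup.mem_top g :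
        g ∈ Subgroup.centralizer {(z : G)})
    rw [hZ, Subgroup.mem_bot] at hzmem
    exact hz1 (Subtype.ext hzmem)
  have e : G ≃* φ.range := MonoidHom.ofInjective ((MonoidHom.ker_eq_bot_iff φ).1 hKbot)
  exact (hX.equiv_psl_or_pgl F hF).imp (fun ⟨f⟩ => ⟨e.trans f⟩) (fun ⟨f⟩ => ⟨e.trans f⟩)


end Cfsg.Agent.S3641
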