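import Cfsg.Statements.S3643
import Cfsg.Agent.Lib.M12Graph23
import Cfsg.Agent.Lib.M12DegEdge55
import Cfsg.Agent.Lib.SimpleEleven81
import Cfsg.Agent.Lib.M12Ord51Final

set_option autoImplicit false
open Cfsg

namespace Cfsg.Agent.S3643

/-- Let G be a finite group of the same order as the Mathieu group M₁₂ whose character degree graph equals that of M₁₂ (same primes dividing some irreducible complex character degree, same pairs of distinct primes whose product divides some degree). Then G is isomorphic to M₁₂ or to the direct product of the alternating group of degree 4 with M₁₁. -/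
theorem result {G : Type*} [Group G] [Finite G] (hcard : Nat.card G = Nat.card ↥Cfsg.Spor.M12) (hΔ : Cfsg.degreePrimes G = Cfsg.degreePrimes ↥Cfsg.Spor.M12 ∧ Cfsg.degreeGraph G = Cfsg.degreeGraph ↥Cfsg.Spor.M12) :
    Nonempty (G ≃* ↥Cfsg.Spor.M12) ∨ Nonempty (G ≃* alternatingGroup (Fin 4) × ↥Cfsg.Spor.M11) := by
  exact M12Graph23.iso_of_graph hcard hΔ.2 M12DegEdge55.degrees.1 M12DegEdge55.degrees.2
    (fun T _ _ _ h11 hd hlt => SimpleEleven81.order_mem h11 hd hlt)
    (fun H _ _ hs h => M12Ord51Final.unique hs h)

end Cfsg.Agent.S3643
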