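import Mathlib
import Cfsg.Statements.S3648
import Cfsg.Agent.Lib.NsePGLMain28
import Cfsg.Agent.Lib.PSLCard

set_option autoImplicit false
open Cfsg

namespace Cfsg.Agent.S3648


/-- For a finite group X let nse(X) be the set of values of the function 'number of elements of order k' over the element orders k that occur. Let F be a finite field of odd order q > 3 and P = PGL(2, F) = GL(2, F) modulo its centre. If G is a finite group with the same order as P and nse(G) = nse(P), then G is isomorphic to P. -/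
theorem result {F : Type*} [Field F] [Fintype F] (hodd : Odd (Fintype.card F)) (h3 : 3 < Fintype.card F)
    {G : Type*} [Group G] [Finite G] (hcard : Nat.card G = Nat.card (GL (Fin 2) F ⧸ Subgroup.center (GL (Fin 2) F)))
    (hnse : {c : ℕ | 0 < c ∧ ∃ n : ℕ, c = Nat.card {g : G // orderOf g = n}} = {c : ℕ | 0 < c ∧ ∃ n : ℕ, c = Nat.card {g : (GL (Fin 2) F ⧸ Subgroup.center (GL (Fin 2) F)) // orderOf g = n}}) :
    Nonempty (G ≃* (GL (Fin 2) F ⧸ Subgroup.center (GL (Fin 2) F))) := by
  classical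
  obtain ⟨p, hchar⟩ := CharP.exists F
  haveI := hchar
  obtain ⟨⟨n, hn0⟩, hp, hF⟩ := FiniteField.card F p
  haveI := Fact.mk hp
  have hp2 : p ≠ 2 := by
    rintro rfl
    rw [hF] at hodd
    exact Nat.not_odd_iff_even.2 ((Nat.even_pow' hn0.ne').2 even_two) hodd
  set P := GL (Fin 2) F ⧸ Subgroup.center (GL (Fin 2) F) with hP
  have hqF : Nat.card F = p ^ n := Nat.card_eq_fintype_card.trans hF
  have hq3 : 3 < p ^ n := hF ▸ h3
  have hcardP : Nat.card P = p ^ n * ((p ^ n) ^ 2 - 1) := hqF ▸ PSLCard.card_PGL2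
  obtain ⟨U, hU⟩ := Sylow.exists_subgroup_card_pow_prime (G := P) p
    (hcardP ▸ dvd_mul_right (p ^ n) _)
  have hi2P := NsePGLStats28.card_involutions (F := F) p hp2
  have hpP := NsePGLStats28.card_order_char (F := F) p hp2
  rw [hqF] at hi2P hpP
  have hrestP : ∀ k, k ≠ 1 → k ≠ p → p ^ n ∣ Nat.card {x : P // orderOf x = k} := fun k k1 k2 =>
    NsePGLStats28.dvd_card_orderOf hp U hU (NsePGLStats28.hiso p) k1 k2
  have hq2 : 2 ≤ (p ^ n) ^ 2 := le_trans (by omega) (Nat.le_self_pow two_ne_zero _)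
  have hdvdq : p ∣ p ^ n := dvd_pow_self p hn0.ne'
  -- the possible values
  have hval : ∀ k, 0 < Nat.card {g : G // orderOf g = k} →
      Nat.card {g : G // orderOf g = k} = 1 ∨ Nat.card {g : G // orderOf g = k} = (p ^ n) ^ 2 ∨
        Nat.card {g : G // orderOf g = k} = (p ^ n) ^ 2 - 1 ∨
          p ^ n ∣ Nat.card {g : G // orderOf g = k} := by
    intro k hk
    have hmem : Nat.card {g : G // orderOf g = k} ∈
        {c : ℕ | 0 < c ∧ ∃ n : ℕ, c = Nat.card {g : P // orderOf g = n}} := by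
      rw [← hnse]; exact ⟨hk, k, rfl⟩
    obtain ⟨-, l, hl⟩ := hmem
    rw [hl]
    by_cases l1 : l = 1
    · subst l1
      exact Or.inl (Nat.card_eq_one_iff_unique.2
        ⟨⟨fun g h => Subtype.ext ((orderOf_eq_one_iff.1 g.2).trans (orderOf_eq_one_iff.1 h.2).symm)⟩,
          ⟨⟨1, orderOf_one⟩⟩⟩)
    by_cases lp : l = p
    · subst lp; exact Or.inr (Or.inr (Or.inl hpP))
    exact Or.inr (Or.inr (Or.inr (hrestP l l1 lp)))
  have heven : ∀ k, 2 < k → Even (Nat.card {g : G // orderOf g = k}) := by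
    intro k hk
    haveI := Fintype.ofFinite G
    rw [Nat.card_eq_fintype_card, Fintype.card_subtype]
    refine even_iff_two_dvd.2 ?_
    -- inversion is a fixed-point-free involution
    have h0 : (Finset.univ.filter fun g : G => orderOf g = k).card % 2 = 0 := by
      have hz : ((Finset.univ.filter fun g : G => orderOf g = k).card : ZMod 2) = 0 := by
        rw [Finset.card_eq_sum_ones, Nat.cast_sum]
        refine Finset.sum_involution (fun g _ => g⁻¹) (fun g _ => ?_) (fun g hg _ e => ?_)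
          (fun g hg => ?_) (fun g _ => inv_inv g)
        · norm_num; rfl
        · have hg' : orderOf g = k := (Finset.mem_filter.1 hg).2
          have : g ^ 2 = 1 := by rw [pow_two]; nth_rw 1 [← e]; exact inv_mul_cancel g
          have := Nat.le_of_dvd two_pos (orderOf_dvd_of_pow_eq_one this)
          omega
        · exact Finset.mem_filter.2 ⟨Finset.mem_univ _, by rw [orderOf_inv]; exact (Finset.mem_filter.1 hg).2⟩
      rwa [ZMod.natCast_eq_zero_iff, Nat.dvd_iff_mod_eq_zero] at hz
    omega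
  have h2G : 2 ∣ Nat.card G := by
    rw [hcard, hcardP]
    have ho : Odd (p ^ n) := (hp.odd_of_ne_two hp2).pow
    obtain ⟨c, hc⟩ := ho
    exact Dvd.dvd.mul_left ⟨2 * c * c + 2 * c, by rw [hc]; ring_nf; omega⟩ _
  have hpG : p ∣ Nat.card G := by
    rw [hcard, hcardP]; exact Dvd.dvd.mul_right hdvdq _
  have hqodd : Odd ((p ^ n) ^ 2) := ((hp.odd_of_ne_two hp2).pow).pow
  -- involutions
  have hi2 : Nat.card {g : G // orderOf g = 2} = (p ^ n) ^ 2 := by
    have hmem : (p ^ n) ^ 2 ∈ {c : ℕ | 0 < c ∧ ∃ m : ℕ, c = Nat.card {g : P // orderOf g = m}} :=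
      ⟨by omega, 2, hi2P.symm⟩
    rw [← hnse] at hmem
    obtain ⟨-, k, hk⟩ := hmem
    rcases lt_trichotomy k 2 with h | h | h
    · exfalso
      rcases (show k = 0 ∨ k = 1 by omega) with rfl | rfl
      · have : Nat.card {g : G // orderOf g = 0} = 0 :=
          Nat.card_eq_zero.2 (Or.inl ⟨fun g => (orderOf_pos g.1).ne' g.2⟩)
        omega
      · have : Nat.card {g : G // orderOf g = 1} ≤ 1 := Finite.card_le_one_iff_subsingleton.2
          ⟨fun g h => Subtype.ext ((orderOf_eq_one_iff.1 g.2).trans (orderOf_eq_one_iff.1 h.2).symm)⟩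
        omega
    · exact h ▸ hk.symm
    · exact absurd (hk ▸ heven k h) (Nat.not_even_iff_odd.2 hqodd)
  -- elements of order `p`
  have hpe : Nat.card {g : G // orderOf g = p} = (p ^ n) ^ 2 - 1 := by
    haveI := Fintype.ofFinite G
    obtain ⟨g, hg⟩ := exists_prime_orderOf_dvd_card' (G := G) p hpG
    have hpos : 0 < Nat.card {g : G // orderOf g = p} :=
      Nat.card_pos_iff.2 ⟨⟨⟨g, hg⟩⟩, inferInstance⟩
    obtain ⟨c, hc⟩ := FrobeniusCount72.dvd_card_pow_eq_one (G := G) p hpG
    have hsplit : Nat.card {g : G // g ^ p = 1} = 1 + Nat.card {g : G // orderOf g = p} := by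
      rw [NsePGLMain28.card_orders, show (Nat.card G).divisors.filter (· ∣ p) = {1, p} from ?_,
        Finset.sum_pair hp.ne_one.symm]
      · congr 1
        exact Nat.card_eq_one_iff_unique.2
          ⟨⟨fun g h => Subtype.ext ((orderOf_eq_one_iff.1 g.2).trans (orderOf_eq_one_iff.1 h.2).symm)⟩,
            ⟨⟨1, orderOf_one⟩⟩⟩
      · ext x
        simp only [Finset.mem_filter, Nat.mem_divisors, Finset.mem_insert, Finset.mem_singleton,
          Nat.dvd_prime hp]
        constructor
        · exact fun h => h.2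
        · rintro (rfl | rfl)
          · exact ⟨⟨one_dvd _, Nat.card_pos.ne'⟩, Or.inl rfl⟩
          · exact ⟨⟨hpG, Nat.card_pos.ne'⟩, Or.inr rfl⟩
    rw [hsplit] at hc
    have hnd : ¬ p ∣ Nat.card {g : G // orderOf g = p} := fun h =>
      hp.one_lt.ne' (Nat.dvd_one.1 ((Nat.dvd_add_left h).1 ⟨c, hc⟩))
    rcases hval p hpos with h | h | h | h
    · exfalso
      rw [h] at hc
      exact hp2 ((Nat.prime_dvd_prime_iff_eq hp Nat.prime_two).1 ⟨c, hc⟩)
    · exact absurd (h ▸ dvd_pow hdvdq two_ne_zero) hnd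
    · exact h
    · exact absurd (hdvdq.trans h) hnd
  have hrest : ∀ k, k ≠ 1 → k ≠ 2 → k ≠ p → p ^ n ∣ Nat.card {g : G // orderOf g = k} ∨
      Nat.card {g : G // orderOf g = k} = (p ^ n) ^ 2 - 1 := by
    intro k k1 k2 _
    rcases Nat.eq_zero_or_pos (Nat.card {g : G // orderOf g = k}) with h0 | h0
    · exact Or.inl (h0 ▸ dvd_zero _)
    have hk : 2 < k := by
      by_contra hlt
      rcases (show k = 0 by omega) with rfl
      have : Nat.card {g : G // orderOf g = 0} = 0 :=
        Nat.card_eq_zero.2 (Or.inl ⟨fun g => (orderOf_pos g.1).ne' g.2⟩)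
      omega
    rcases hval k h0 with h | h | h | h
    · exact absurd (h ▸ heven k hk) (by norm_num)
    · exact absurd (h ▸ heven k hk) (Nat.not_even_iff_odd.2 hqodd)
    · exact Or.inr h
    · exact Or.inl h
  obtain ⟨F', _, _, hF', ⟨e⟩⟩ := NsePGLMain28.recognize (G := G) hp hp2 hn0 hq3
    (hcard.trans hcardP) hi2 hpe hrest
  exact ⟨e.trans (PSLCard.pglEquivOfCard (Nat.card_eq_fintype_card.trans (hF'.trans hqF.symm)))⟩

end Cfsg.Agent.S3648
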