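import Mathlib
import Cfsg.Statements.S3660
import Cfsg.Agent.Lib.PrimeGraphExt

namespace Cfsg.Agent.S3660

set_option autoImplicit false
open Cfsg

variable {F : Type*} [Field F] [Fintype F] [CharP F 2]

omit [Fintype F] in
lemma center_bot : Subgroup.center (Matrix.SpecialLinearGroup (Fin 2) F) = ⊥ := by
  rw [eq_bot_iff]
  intro A hA
  obtain ⟨r, hr, hA'⟩ := Matrix.SpecialLinearGroup.mem_center_iff.mp hA
  rw [Fintype.card_fin] at hr
  have hr1 : r = 1 := by
    have : (r - 1) ^ 2 = 0 := by rw [CharTwo.sub_eq_add, CharTwo.add_sq, hr, one_pow, CharTwo.add_self_eq_zero]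
    rw [pow_eq_zero_iff two_ne_zero, sub_eq_zero] at this
    exact this
  rw [Subgroup.mem_bot]
  apply Subtype.ext
  rw [← hA', hr1]
  simp

noncomputable def equivSL :
    Matrix.ProjectiveSpecialLinearGroup (Fin 2) F ≃* Matrix.SpecialLinearGroup (Fin 2) F :=
  (QuotientGroup.quotientMulEquivOfEq center_bot).trans QuotientGroup.quotientBot

omit [Fintype F] in
lemma sq_one_of_fix (g : Matrix.SpecialLinearGroup (Fin 2) F) (v : Fin 2 → F) (hv : v ≠ 0)
    (h : Matrix.SpecialLinearGroup.toLin' g v = v) : g ^ 2 = 1 := by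
  rw [Matrix.SpecialLinearGroup.toLin'_apply, Matrix.toLin'_apply] at h
  have hdet : ((g : Matrix (Fin 2) (Fin 2) F) - 1).det = 0 := by
    refine Matrix.exists_mulVec_eq_zero_iff.mp ⟨v, hv, ?_⟩
    rw [Matrix.sub_mulVec, h, Matrix.one_mulVec, sub_self]
  have hd := g.2
  rw [Matrix.det_fin_two] at hd hdet
  simp only [Matrix.sub_apply, Matrix.one_apply_eq, ne_eq, zero_ne_one, not_false_eq_true,
    Matrix.one_apply_ne, sub_zero, one_ne_zero] at hdet
  have h2 : (2 : F) = 0 := CharTwo.two_eq_zero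
  have htr : g.1 0 0 + g.1 1 1 = 0 := by linear_combination hd - hdet + h2
  apply Subtype.ext
  rw [Matrix.SpecialLinearGroup.coe_pow, pow_two, Matrix.SpecialLinearGroup.coe_one]
  ext i j
  fin_cases i <;> fin_cases j <;> simp [Matrix.mul_apply, Fin.sum_univ_two]
  · linear_combination hd + g.1 0 0 * htr - h2 + (1 - g.1 0 0 * g.1 1 1 + g.1 0 1 * g.1 1 0) * h2
  · linear_combination g.1 0 1 * htr
  · linear_combination g.1 1 0 * htr
  · linear_combination hd + g.1 1 1 * htr - h2 + (1 - g.1 0 0 * g.1 1 1 + g.1 0 1 * g.1 1 0) * h2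

omit [Fintype F] in
lemma exists_order_two : ∃ g : Matrix.SpecialLinearGroup (Fin 2) F, orderOf g = 2 := by
  let u : Matrix.SpecialLinearGroup (Fin 2) F := ⟨!![1, 1; 0, 1], by simp [Matrix.det_fin_two_of]⟩
  have hu : (u : Matrix (Fin 2) (Fin 2) F) = !![1, 1; 0, 1] := rfl
  refine ⟨u, orderOf_eq_prime ?_ ?_⟩
  · apply Subtype.ext
    rw [Matrix.SpecialLinearGroup.coe_pow, pow_two, Matrix.SpecialLinearGroup.coe_one]
    ext i j
    fin_cases i <;> fin_cases j <;> simp [hu, Matrix.mul_apply, Fin.sum_univ_two, CharTwo.add_self_eq_zero]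
  · intro h
    simpa [hu] using congrFun (congrFun (congrArg Subtype.val h) 0) 1

theorem result {F : Type*} [Field F] [Fintype F] [CharP F 2] (hF : 4 ≤ Fintype.card F) (N : ℕ) :
    ∃ (H : Type) (_ : Group H) (_ : Finite H), N < Nat.card H ∧
      ((∀ p : ℕ, p.Prime → (p ∣ Nat.card (Matrix.ProjectiveSpecialLinearGroup (Fin 2) F) ↔ p ∣ Nat.card H)) ∧
      (∀ p q : ℕ, p.Prime → q.Prime → p ≠ q → ((∃ g : (Matrix.ProjectiveSpecialLinearGroup (Fin 2) F), orderOf g = p * q) ↔ (∃ g : H, orderOf g = p * q)))) := by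
  classical
  have e := equivSL (F := F)
  have h2 : 2 ∣ Nat.card (Matrix.ProjectiveSpecialLinearGroup (Fin 2) F) := by
    obtain ⟨g, hg⟩ := exists_order_two (F := F)
    rw [Nat.card_congr e.toEquiv]
    simpa [hg] using orderOf_dvd_natCard g
  obtain ⟨H, i1, i2, h3, h4, h5⟩ := PrimeGraphExt.exists_large_of_linear h2
    (Matrix.SpecialLinearGroup.toLin'.comp e.toMonoidHom)
    (fun g v hv hgv => ⟨1, e.injective (by rw [map_pow, map_one, pow_one]; exact sq_one_of_fix (e g) v hv hgv)⟩) N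
  exact ⟨H, i1, inferInstance, h3, h4, h5⟩

end Cfsg.Agent.S3660
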