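import Cfsg.Statements.S3663
import Cfsg.Agent.Lib.UnitaryThreeFourModule
import Cfsg.Agent.Lib.OrthUnitaryHerm

set_option autoImplicit false
open Cfsg

namespace Cfsg.Agent.S3663

open Cfsg.Agent.FieldFour15 Cfsg.Agent.FieldSixteen15 Cfsg.Agent.UnitaryThreeFourData
open Cfsg.Agent.UnitaryThreeFourModule
open scoped Matrix

/-- Three by three matrices. -/
abbrev M3 : Type := Matrix (Fin 3) (Fin 3) K16

/-- The unitary group over the concrete field. -/
abbrev U3 : Type := ↥(Cfsg.SU 3 K16 4)

theorem frob_add : ∀ x y : K16, K16.frob (x + y) = K16.frob x + K16.frob y := by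
  decide +kernel

/-- The involutory automorphism. -/
def frobHom : K16 →+* K16 where
  toFun := K16.frob
  map_one' := by decide +kernel
  map_mul' x y := by rw [← K16.frob_eq, ← K16.frob_eq, ← K16.frob_eq, mul_pow]
  map_zero' := by decide +kernel
  map_add' := frob_add

/-- All positions of a three by three matrix. -/
def ent3 : List (Fin 3 × Fin 3) :=
  (List.finRange 3).flatMap fun i => (List.finRange 3).map fun j => (i, j)

theorem eq_of_ent3 {A B : M3} (h : ∀ e ∈ ent3, A e.1 e.2 = B e.1 e.2) : A = B :=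
  Matrix.ext fun i j => h (i, j) (by simp [ent3])

/-- Product, unfolded. -/
def mul3 (A B : M3) : M3 := Matrix.of fun i j => A i 0 * B 0 j + A i 1 * B 1 j + A i 2 * B 2 j

theorem mul3_eq (A B : M3) : mul3 A B = A * B := by
  ext i j
  simp [mul3, Matrix.mul_apply, Fin.sum_univ_three]

theorem preserves {A : M3} (h : ∀ e ∈ ent3, mul3 Aᵀ (A.map K16.frob) e.1 e.2 = (1 : M3) e.1 e.2)
    (u v : Vec) :
    Cfsg.hermForm 3 K16 4 (A *ᵥ u) (A *ᵥ v) = Cfsg.hermForm 3 K16 4 u v := by
  have hd : ∀ x y : Vec, Cfsg.hermForm 3 K16 4 x y = x ⬝ᵥ (frobHom ∘ y) := fun x y =>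
    Finset.sum_congr rfl fun i _ => by simp [frobHom, K16.frob_eq]
  have hA : Aᵀ * A.map frobHom = 1 := by
    rw [← mul3_eq]
    exact eq_of_ent3 h
  rw [hd, hd, show frobHom ∘ (A *ᵥ v) = A.map frobHom *ᵥ (frobHom ∘ v) from
      funext fun i => RingHom.map_mulVec _ _ _ i]
  rw [dotProduct_comm, Matrix.dotProduct_mulVec, ← Matrix.mulVec_transpose, Matrix.mulVec_mulVec,
    hA, Matrix.one_mulVec, dotProduct_comm]

/-- An element from a matrix. -/
def mkU (A : M3) (hdet : A.det = 1)
    (h : ∀ e ∈ ent3, mul3 Aᵀ (A.map K16.frob) e.1 e.2 = (1 : M3) e.1 e.2) : U3 :=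
  ⟨⟨A, hdet⟩, fun u v => preserves h u v⟩

/-- The matrix of an element. -/
def mat (g : U3) : M3 := ((g : Matrix.SpecialLinearGroup (Fin 3) K16) : M3)

theorem mat_mul (g h : U3) : mat (g * h) = mat g * mat h := rfl

theorem mat_one : mat 1 = 1 := rfl

theorem mat_injective : Function.Injective mat := fun _ _ h => Subtype.ext (Subtype.ext h)

theorem mat_h3 (g : U3) (u v : Vec) : h3 (mat g *ᵥ u) (mat g *ᵥ v) = h3 u v := by
  rw [h3_eq, h3_eq]
  exact g.2 u v

theorem mat_inv_mul (g : U3) (v : Vec) : mat g⁻¹ *ᵥ (mat g *ᵥ v) = v := by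
  rw [Matrix.mulVec_mulVec, ← mat_mul, inv_mul_cancel, mat_one, Matrix.one_mulVec]

theorem mat_ne_zero (g : U3) {v : Vec} (hv : v ≠ 0) : mat g *ᵥ v ≠ 0 := fun h => hv (by
  rw [← mat_inv_mul g v, h, Matrix.mulVec_zero])

theorem code_pullback (g : U3) {f : Vec → ZMod 5} (hf : f ∈ Code) :
    (fun v => f (mat g *ᵥ v)) ∈ Code := by
  obtain ⟨h0, h1, h2, h3'⟩ := hf
  refine ⟨by simp [h0], fun v hv => h1 _ (by rwa [mat_h3]), fun v c hc => ?_,
    fun v w hv hw hvw => ?_⟩
  · show f (mat g *ᵥ (c • v)) = _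
    rw [Matrix.mulVec_smul, h2 _ c hc]
  · show f (mat g *ᵥ w) + ∑ c : K16, f (mat g *ᵥ (v + c • w)) = 0
    simp only [Matrix.mulVec_add, Matrix.mulVec_smul]
    exact h3' _ _ (by rwa [mat_h3]) (by rwa [mat_h3]) (by rwa [mat_h3])

/-- Nonzero isotropic vectors. -/
def Iso (v : Vec) : Prop := v ≠ 0 ∧ h3 v v = 0

theorem iso_mat (g : U3) (v : Vec) : Iso (mat g *ᵥ v) ↔ Iso v := by
  refine ⟨fun h => ⟨fun e => h.1 (by rw [e, Matrix.mulVec_zero]), by rw [← mat_h3 g]; exact h.2⟩,
    fun h => ⟨mat_ne_zero g h.1, by rw [mat_h3]; exact h.2⟩⟩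

open scoped Classical in
/-- Differences of values, which forget the constants. -/
noncomputable def diff : (Vec → ZMod 5) →+ (Vec × Vec → ZMod 5) where
  toFun f p := if Iso p.1 ∧ Iso p.2 then f p.1 - f p.2 else 0
  map_zero' := funext fun p => by simp
  map_add' f g := funext fun p => by
    simp only [Pi.add_apply]
    split_ifs <;> abel

/-- The module. -/
noncomputable def D : AddSubgroup (Vec × Vec → ZMod 5) := Code.map diff

theorem D_pullback (g : U3) {d : Vec × Vec → ZMod 5} (hd : d ∈ D) :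
    (fun p => d (mat g *ᵥ p.1, mat g *ᵥ p.2)) ∈ D := by
  classical
  obtain ⟨f, hf, rfl⟩ := hd
  refine ⟨_, code_pullback g hf, funext fun p => ?_⟩
  simp [diff, iso_mat]

/-- The action on the module. -/
noncomputable def actD (g : U3) (d : ↥D) : ↥D :=
  ⟨fun p => (d : Vec × Vec → ZMod 5) (mat g⁻¹ *ᵥ p.1, mat g⁻¹ *ᵥ p.2), D_pullback g⁻¹ d.2⟩

theorem actD_mul (g h : U3) (d : ↥D) : actD (g * h) d = actD g (actD h d) := by
  apply Subtype.ext
  funext p
  simp [actD, mat_mul, Matrix.mulVec_mulVec]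

theorem actD_one (d : ↥D) : actD 1 d = d := by
  apply Subtype.ext
  funext p
  simp [actD, mat_one]

/-- The action on several copies of the module. -/
noncomputable def act (n : ℕ) : U3 →* MulAut (Multiplicative (Fin n → ↥D)) where
  toFun g := AddEquiv.toMultiplicative
    { toFun := fun v i => actD g (v i)
      invFun := fun v i => actD g⁻¹ (v i)
      left_inv := fun v => funext fun i => by
        show actD g⁻¹ (actD g (v i)) = v i
        rw [← actD_mul, inv_mul_cancel, actD_one]
      right_inv := fun v => funext fun i => by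
        show actD g (actD g⁻¹ (v i)) = v i
        rw [← actD_mul, mul_inv_cancel, actD_one]
      map_add' := fun v w => funext fun i => rfl }
  map_one' := MulEquiv.ext fun v => congrArg Multiplicative.ofAdd (funext fun i => actD_one _)
  map_mul' a b := MulEquiv.ext fun v => congrArg Multiplicative.ofAdd
    (funext fun i => actD_mul a b _)

theorem facts_g : ∀ e ∈ ent3, mul3 gmatᵀ (gmat.map K16.frob) e.1 e.2 = (1 : M3) e.1 e.2 := by
  decide +kernel

theorem det_gmat : gmat.det = 1 := by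
  rw [Matrix.det_fin_three]
  decide +kernel

/-- The element of order thirteen. -/
def g13 : U3 := mkU gmat det_gmat facts_g

/-- Powers of `gmat`. -/
def g2 : M3 := ![![k 9, k 5, k 8], ![k 0, k 9, k 2], ![k 12, k 13, k 15]]

/-- Powers of `gmat`. -/
def g4 : M3 := ![![k 10, k 14, k 13], ![k 4, k 10, k 11], ![k 9, k 14, k 9]]

/-- Powers of `gmat`. -/
def g8 : M3 := ![![k 8, k 1, k 8], ![k 2, k 8, k 15], ![k 2, k 13, k 12]]

/-- Powers of `gmat`. -/
def g12 : M3 := ![![k 0, k 10, k 0], ![k 9, k 0, k 2], ![k 12, k 0, k 9]]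

theorem pow_checks :
    ∀ e ∈ ent3, mul3 gmat gmat e.1 e.2 = g2 e.1 e.2 ∧ mul3 g2 g2 e.1 e.2 = g4 e.1 e.2 ∧
      mul3 g4 g4 e.1 e.2 = g8 e.1 e.2 ∧ mul3 g8 g4 e.1 e.2 = g12 e.1 e.2 ∧
      mul3 g12 gmat e.1 e.2 = (1 : M3) e.1 e.2 := by
  decide +kernel

theorem orderOf_g13 : orderOf g13 = 13 := by
  haveI : Fact (Nat.Prime 13) := ⟨by norm_num⟩
  have e2 : gmat * gmat = g2 := by
    rw [← mul3_eq]; exact eq_of_ent3 fun e he => (pow_checks e he).1
  have e4 : g2 * g2 = g4 := by
    rw [← mul3_eq]; exact eq_of_ent3 fun e he => (pow_checks e he).2.1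
  have e8 : g4 * g4 = g8 := by
    rw [← mul3_eq]; exact eq_of_ent3 fun e he => (pow_checks e he).2.2.1
  have e12 : g8 * g4 = g12 := by
    rw [← mul3_eq]; exact eq_of_ent3 fun e he => (pow_checks e he).2.2.2.1
  have e13 : g12 * gmat = 1 := by
    rw [← mul3_eq]; exact eq_of_ent3 fun e he => (pow_checks e he).2.2.2.2
  refine orderOf_eq_prime (mat_injective ?_) (fun h => ?_)
  · have hp : ∀ n, mat (g13 ^ n) = gmat ^ n := by
      intro n
      induction n with
      | zero => rw [pow_zero, pow_zero, mat_one]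
      | succ n ih => rw [pow_succ, pow_succ, mat_mul, ih]; rfl
    rw [hp, mat_one, ← e13, ← e12, ← e8, ← e4, ← e2]
    simp only [mul_assoc, pow_succ, pow_zero, one_mul]
  · have := congrArg (fun g : U3 => mat g 0 0) h
    revert this
    decide +kernel

/-- Only zero is fixed by the chosen element of order thirteen. -/
theorem fixed_g13 {d : ↥D} (h : actD g13 d = d) : d = 0 := by
  classical
  obtain ⟨f, hf, hfd⟩ := d.2
  have hd : ∀ x y, Iso x → Iso y → f (mat g13⁻¹ *ᵥ x) - f (mat g13⁻¹ *ᵥ y) = f x - f y := by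
    intro x y hx hy
    have h' := congrArg (fun e : ↥D => (e : Vec × Vec → ZMod 5) (x, y)) h
    simp only [actD, ← hfd] at h'
    simpa [diff, iso_mat, hx, hy] using h'
  have hfix : ∀ v, Iso v → f (mat g13 *ᵥ v) = f v := by
    intro v hv
    set c := f (mat g13 *ᵥ v) - f v with hc
    have hpow : ∀ n : ℕ, f (mat (g13 ^ n) *ᵥ v) = f v + (n : ZMod 5) * c := by
      intro n
      induction n with
      | zero => simp [mat_one]
      | succ n ih =>
        have h1 := hd (mat (g13 ^ (n + 1)) *ᵥ v) (mat g13 *ᵥ v) ((iso_mat _ _).2 hv) ((iso_mat _ _).2 hv)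
        rw [mat_inv_mul] at h1
        rw [show mat (g13 ^ (n + 1)) *ᵥ v = mat g13 *ᵥ (mat (g13 ^ n) *ᵥ v) by
          rw [Matrix.mulVec_mulVec, ← mat_mul, pow_succ']] at h1 ⊢
        rw [mat_inv_mul, ih] at h1
        rw [hc] at h1 ⊢
        push_cast
        linear_combination -h1
    have h13 := hpow 13
    have e13 : g13 ^ 13 = 1 := by rw [← orderOf_g13]; exact pow_orderOf_eq_one _
    rw [e13, mat_one, Matrix.one_mulVec, left_eq_add] at h13
    have : ∀ c : ZMod 5, ((13 : ℕ) : ZMod 5) * c = 0 → c = 0 := by decide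
    exact sub_eq_zero.1 (this c h13)
  apply Subtype.ext
  rw [← hfd]
  funext p
  show (if Iso p.1 ∧ Iso p.2 then f p.1 - f p.2 else 0) = 0
  split_ifs with hp
  · rw [const_of_fixed hf (fun v hv hv' => hfix v ⟨hv, hv'⟩) hp.1.1 hp.1.2,
      const_of_fixed hf (fun v hv hv' => hfix v ⟨hv, hv'⟩) hp.2.1 hp.2.2, sub_self]
  · rfl

theorem card_U3 : Nat.card U3 = 62400 := by
  have hF : Fintype.card K16 = 4 ^ 2 := K16.card_eq
  have h1 := Cfsg.Agent.OrthUnitaryHerm.card_GU_eq_mul_card_SU (n := 3) hF (by norm_num)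
  rw [Cfsg.Agent.OrthUnitaryHerm.card_GU hF] at h1
  norm_num [Finset.prod_range_succ] at h1
  show Nat.card ↥(Cfsg.SU 3 K16 4) = _
  omega

theorem not_fixed {g : U3} (hg : orderOf g = 13) {d : ↥D} (h : actD g d = d) : d = 0 := by
  haveI : Fact (Nat.Prime 13) := ⟨by norm_num⟩
  have hc : ∀ x : U3, orderOf x = 13 →
      Nat.card (Subgroup.zpowers x) = 13 ^ (Nat.card U3).factorization 13 := fun x hx => by
    rw [Nat.card_zpowers, hx, card_U3, show (62400 : ℕ).factorization 13 = 1 from ?_, pow_one]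
    rw [show (62400 : ℕ) = 13 ^ 1 * 4800 by norm_num, Nat.factorization_mul (by norm_num) (by norm_num)]
    simp [Nat.factorization_eq_zero_of_not_dvd (show ¬ 13 ∣ 4800 by norm_num),
      (show Nat.Prime 13 by norm_num).factorization_self]
  let P : Sylow 13 U3 := Sylow.ofCard (Subgroup.zpowers g) (hc g hg)
  let Q : Sylow 13 U3 := Sylow.ofCard (Subgroup.zpowers g13) (hc g13 orderOf_g13)
  obtain ⟨t, ht⟩ := MulAction.exists_smul_eq U3 P Q
  have hmem : g13 ∈ ((t • P : Sylow 13 U3) : Subgroup U3) := by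
    rw [ht]; exact Subgroup.mem_zpowers g13
  rw [Sylow.coe_subgroup_smul, Subgroup.mem_pointwise_smul_iff_inv_smul_mem] at hmem
  obtain ⟨i, hi⟩ := Subgroup.mem_zpowers_iff.1 hmem
  have hfix : ∀ i : ℤ, actD (g ^ i) d = d := by
    intro i
    induction i using Int.induction_on with
    | zero => rw [zpow_zero, actD_one]
    | succ n ih => rw [zpow_add_one, actD_mul, h, ih]
    | pred n ih =>
      have h' : actD g⁻¹ d = d := by
        conv_lhs => rw [← h]
        rw [← actD_mul, inv_mul_cancel, actD_one]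
      rw [zpow_sub_one, actD_mul, h', ih]
  have hg13 : g13 = t * g ^ i * t⁻¹ := by
    rw [hi]
    simp [MulAut.smul_def, mul_assoc]
  have hz : actD t d = 0 := fixed_g13 (by
    rw [hg13, ← actD_mul, show t * g ^ i * t⁻¹ * t = t * g ^ i by group, actD_mul, hfix])
  have h2 := congrArg (actD t⁻¹) hz
  rw [← actD_mul, inv_mul_cancel, actD_one] at h2
  rw [h2]
  exact Subtype.ext rfl

/-- An involution. -/
def swapMat : M3 := ![![k 0, k 1, k 0], ![k 1, k 0, k 0], ![k 0, k 0, k 1]]

/-- An element of order three. -/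
def threeMat : M3 := ![![k 4, k 2, k 0], ![k 2, k 5, k 0], ![k 0, k 0, k 1]]

/-- An element of order five. -/
def fiveMat : M3 := ![![k 8, k 0, k 0], ![k 0, k 8, k 0], ![k 0, k 0, k 14]]

theorem small0 : ∀ e ∈ ent3,
    mul3 swapMatᵀ (swapMat.map K16.frob) e.1 e.2 = (1 : M3) e.1 e.2 := by
  decide +kernel

theorem small1 : ∀ e ∈ ent3,
    mul3 threeMatᵀ (threeMat.map K16.frob) e.1 e.2 = (1 : M3) e.1 e.2 := by
  decide +kernel

theorem small2 : ∀ e ∈ ent3,
    mul3 fiveMatᵀ (fiveMat.map K16.frob) e.1 e.2 = (1 : M3) e.1 e.2 := by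
  decide +kernel

theorem small3 : ∀ e ∈ ent3,
    mul3 swapMat swapMat e.1 e.2 = (1 : M3) e.1 e.2 := by
  decide +kernel

theorem small4 : ∀ e ∈ ent3,
    mul3 (mul3 threeMat threeMat) threeMat e.1 e.2 = (1 : M3) e.1 e.2 := by
  decide +kernel

theorem small5 : ∀ e ∈ ent3,
    mul3 (mul3 (mul3 fiveMat fiveMat) (mul3 fiveMat fiveMat)) fiveMat e.1 e.2 =
    (1 : M3) e.1 e.2 := by
  decide +kernel

/-- A product of two commuting matrices. -/
def prod6 : M3 := ![![k 0, k 8, k 0], ![k 8, k 0, k 0], ![k 0, k 0, k 14]]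

theorem left6 : ∀ e ∈ ent3, mul3 fiveMat swapMat e.1 e.2 = prod6 e.1 e.2 := by
  decide +kernel

theorem right6 : ∀ e ∈ ent3, mul3 swapMat fiveMat e.1 e.2 = prod6 e.1 e.2 := by
  decide +kernel

theorem small6 : ∀ e ∈ ent3,
    mul3 fiveMat swapMat e.1 e.2 = mul3 swapMat fiveMat e.1 e.2 :=
  fun e he => (left6 e he).trans (right6 e he).symm

/-- A product of two commuting matrices. -/
def prod7 : M3 := ![![k 11, k 12, k 0], ![k 12, k 3, k 0], ![k 0, k 0, k 14]]

theorem left7 : ∀ e ∈ ent3, mul3 fiveMat threeMat e.1 e.2 = prod7 e.1 e.2 := by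
  decide +kernel

theorem right7 : ∀ e ∈ ent3, mul3 threeMat fiveMat e.1 e.2 = prod7 e.1 e.2 := by
  decide +kernel

theorem small7 : ∀ e ∈ ent3,
    mul3 fiveMat threeMat e.1 e.2 = mul3 threeMat fiveMat e.1 e.2 :=
  fun e he => (left7 e he).trans (right7 e he).symm

theorem exists_order (s : ℕ) (hs : s = 2 ∨ s = 3) : ∃ g : U3, orderOf g = 5 * s := by
  have d1 : swapMat.det = 1 := by rw [Matrix.det_fin_three]; decide +kernel
  have d3 : threeMat.det = 1 := by rw [Matrix.det_fin_three]; decide +kernel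
  have d5 : fiveMat.det = 1 := by rw [Matrix.det_fin_three]; decide +kernel
  let a := mkU swapMat d1 small0
  let b := mkU threeMat d3 small1
  let c := mkU fiveMat d5 small2
  have ne : ∀ x : U3, mat x 0 0 ≠ 1 → x ≠ 1 := fun x hx h => hx (by rw [h]; rfl)
  have hc : orderOf c = 5 := by
    haveI : Fact (Nat.Prime 5) := ⟨by norm_num⟩
    refine orderOf_eq_prime (mat_injective ?_)
      (ne c (show fiveMat 0 0 ≠ 1 by decide +kernel))
    rw [show c ^ 5 = (c * c) * (c * c) * c by simp only [pow_succ, pow_zero, one_mul, mul_assoc],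
      mat_mul, mat_mul, mat_mul, mat_one]
    show (fiveMat * fiveMat) * (fiveMat * fiveMat) * fiveMat = 1
    simp only [← mul3_eq]
    exact eq_of_ent3 small5
  rcases hs with rfl | rfl
  · haveI : Fact (Nat.Prime 2) := ⟨Nat.prime_two⟩
    have ha : orderOf a = 2 := by
      refine orderOf_eq_prime (mat_injective ?_)
        (ne a (show swapMat 0 0 ≠ 1 by decide +kernel))
      rw [sq, mat_mul, mat_one]
      show swapMat * swapMat = 1
      rw [← mul3_eq]
      exact eq_of_ent3 small3
    refine ⟨c * a, ?_⟩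
    have hcomm : Commute c a := mat_injective (by
      rw [mat_mul, mat_mul]
      show fiveMat * swapMat = swapMat * fiveMat
      simp only [← mul3_eq]
      exact eq_of_ent3 small6)
    rw [hcomm.orderOf_mul_eq_mul_orderOf_of_coprime (by rw [hc, ha]; norm_num), hc, ha]
  · haveI : Fact (Nat.Prime 3) := ⟨Nat.prime_three⟩
    have hb : orderOf b = 3 := by
      refine orderOf_eq_prime (mat_injective ?_)
        (ne b (show threeMat 0 0 ≠ 1 by decide +kernel))
      rw [pow_succ, sq, mat_mul, mat_mul, mat_one]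
      show threeMat * threeMat * threeMat = 1
      simp only [← mul3_eq]
      exact eq_of_ent3 small4
    refine ⟨c * b, ?_⟩
    have hcomm : Commute c b := mat_injective (by
      rw [mat_mul, mat_mul]
      show fiveMat * threeMat = threeMat * fiveMat
      simp only [← mul3_eq]
      exact eq_of_ent3 small7)
    rw [hcomm.orderOf_mul_eq_mul_orderOf_of_coprime (by rw [hc, hb]; norm_num), hc, hb]

/-- The projective unitary group over a field with sixteen elements is `U3`. -/
theorem nonempty_equiv {F : Type*} [Field F] [Fintype F] (hF : Fintype.card F = 16) :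
    Nonempty (U3 ≃* Cfsg.PSU 3 F 4) := by
  classical
  obtain ⟨σ⟩ : Nonempty (K16 ≃+* F) :=
    ⟨FiniteField.ringEquivOfCardEq (by rw [K16.card_eq, hF])⟩
  let f : Matrix.SpecialLinearGroup (Fin 3) K16 →* Matrix.SpecialLinearGroup (Fin 3) F :=
    Matrix.SpecialLinearGroup.map σ.toRingHom
  have hinj : Function.Injective f := fun a b h => Subtype.ext (Matrix.map_injective σ.injective
    (congrArg (fun u : Matrix.SpecialLinearGroup (Fin 3) F => (u : Matrix (Fin 3) (Fin 3) F)) h))
  have hh : ∀ u v : Vec, Cfsg.hermForm 3 F 4 (σ ∘ u) (σ ∘ v) = σ (Cfsg.hermForm 3 K16 4 u v) :=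
    fun u v => by simp [Cfsg.hermForm, map_sum]
  have happ : ∀ (g : Matrix.SpecialLinearGroup (Fin 3) K16) (u : Vec),
      Cfsg.slToMat 3 F (f g) *ᵥ (σ ∘ u) = σ ∘ (Cfsg.slToMat 3 K16 g *ᵥ u) := fun g u =>
    funext fun i => (RingHom.map_mulVec σ.toRingHom _ _ i).symm
  have hmap : (Cfsg.SU 3 K16 4).map f = Cfsg.SU 3 F 4 := by
    ext g
    constructor
    · rintro ⟨x, hx, rfl⟩ u v
      obtain ⟨u', rfl⟩ : ∃ u' : Vec, σ ∘ u' = u := ⟨σ.symm ∘ u, funext fun i => by simp⟩
      obtain ⟨v', rfl⟩ : ∃ v' : Vec, σ ∘ v' = v := ⟨σ.symm ∘ v, funext fun i => by simp⟩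
      rw [happ, happ, hh, hh]
      exact congrArg σ (hx u' v')
    · intro hg
      refine ⟨Matrix.SpecialLinearGroup.map σ.symm.toRingHom g, fun u v => ?_,
        Subtype.ext (Matrix.ext fun i j => σ.apply_symm_apply _)⟩
      apply σ.injective
      rw [← hh, ← hh, ← happ, ← happ,
        show f (Matrix.SpecialLinearGroup.map σ.symm.toRingHom g) = g from
          Subtype.ext (Matrix.ext fun i j => σ.apply_symm_apply _)]
      exact hg _ _
  have hbot : Subgroup.center (Cfsg.SU 3 F 4) = ⊥ := by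
    rw [← Subgroup.card_eq_one,
      Cfsg.Agent.OrthUnitaryHerm.card_center_SU (n := 3) (by rw [hF]; norm_num) (by norm_num)]
    decide
  exact ⟨(((Cfsg.SU 3 K16 4).equivMapOfInjective f hinj).trans
    (MulEquiv.subgroupCongr hmap)).trans
    ((QuotientGroup.quotientBot).symm.trans (QuotientGroup.quotientMulEquivOfEq hbot.symm))⟩

theorem prime_of_dvd {p : ℕ} (hp : p.Prime) (h : p ∣ 62400) :
    p = 2 ∨ p = 3 ∨ p = 5 ∨ p = 13 := by
  rw [show (62400 : ℕ) = 2 ^ 6 * 3 * 5 ^ 2 * 13 by norm_num] at h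
  rcases hp.dvd_mul.1 h with h | h
  · rcases hp.dvd_mul.1 h with h | h
    · rcases hp.dvd_mul.1 h with h | h
      · exact Or.inl ((Nat.prime_dvd_prime_iff_eq hp Nat.prime_two).1 (hp.dvd_of_dvd_pow h))
      · exact Or.inr (Or.inl ((Nat.prime_dvd_prime_iff_eq hp Nat.prime_three).1 h))
    · exact Or.inr (Or.inr (Or.inl
        ((Nat.prime_dvd_prime_iff_eq hp (by norm_num)).1 (hp.dvd_of_dvd_pow h))))
  · exact Or.inr (Or.inr (Or.inr ((Nat.prime_dvd_prime_iff_eq hp (by norm_num)).1 h)))

/-- The prime graph of a finite group has the prime divisors of its order as vertices, two distinct primes p, q being joined when the group has an element of order pq; two groups have the same prime graph when they have the same prime divisors and the same joined pairs. Let F be the field with 16 elements and L = PSU(3,4) realised over F. There are finite groups of arbitrarily large order with the same prime graph as L. -/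
theorem result {F : Type*} [Field F] [Fintype F] (hF : Fintype.card F = 16) (N : ℕ) :
    ∃ (H : Type) (_ : Group H) (_ : Finite H), N < Nat.card H ∧
      ((∀ p : ℕ, p.Prime → (p ∣ Nat.card (Cfsg.PSU 3 F 4) ↔ p ∣ Nat.card H)) ∧
      (∀ p q : ℕ, p.Prime → q.Prime → p ≠ q → ((∃ g : (Cfsg.PSU 3 F 4), orderOf g = p * q) ↔ (∃ g : H, orderOf g = p * q)))) := by
  classical
  obtain ⟨Ψ⟩ := nonempty_equiv hF
  let H := Multiplicative (Fin (N + 1) → ↥D) ⋊[act (N + 1)] U3
  have hfin : Finite H := Finite.of_equiv _ SemidirectProduct.equivProd.symm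
  have hM : Nat.card U3 = Nat.card (Cfsg.PSU 3 F 4) := Nat.card_congr Ψ.toEquiv
  have hcard : Nat.card H = Nat.card ↥D ^ (N + 1) * Nat.card U3 := by
    rw [SemidirectProduct.card]
    congr 1
    show Nat.card (Fin (N + 1) → ↥D) = _
    rw [Nat.card_fun, Nat.card_fin]
  have hD2 : 2 ≤ Nat.card ↥D := by
    obtain ⟨x, y, hx, hy, hx', hy', hne⟩ := word_nonconst
    have : Nontrivial ↥D := ⟨⟨⟨diff word, word, word_mem, rfl⟩, 0, fun e => hne (by
      have h := congrArg (fun d : ↥D => (d : Vec × Vec → ZMod 5) (x, y)) e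
      simpa [diff, Iso, hx, hy, hx', hy', sub_eq_zero] using h)⟩⟩
    exact Finite.one_lt_card
  have five : ∀ d : ↥D, (5 : ℕ) • d = 0 := fun d => Subtype.ext (funext fun p => by
    show (5 : ℕ) • ((d : Vec × Vec → ZMod 5) p) = 0
    rw [nsmul_eq_mul, ZMod.natCast_self, zero_mul])
  have hpow5 : ∀ z : Multiplicative (Fin (N + 1) → ↥D), z ^ 5 = 1 := fun z => by
    apply Multiplicative.toAdd.injective
    rw [toAdd_pow, toAdd_one]
    exact funext fun i => five _
  refine ⟨H, inferInstance, hfin, ?_, fun p hp => ?_, fun p q hp hq hpq => ⟨?_, ?_⟩⟩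
  · rw [hcard]
    calc N < 2 ^ N := Nat.lt_two_pow_self
      _ ≤ 2 ^ (N + 1) := Nat.pow_le_pow_right (by norm_num) (by omega)
      _ ≤ Nat.card ↥D ^ (N + 1) := Nat.pow_le_pow_left hD2 _
      _ ≤ _ := Nat.le_mul_of_pos_right _ Nat.card_pos
  · rw [hcard, ← hM]
    refine ⟨fun h => h.mul_left _, fun h => ?_⟩
    rcases hp.dvd_mul.1 h with h | h
    · haveI : Fact p.Prime := ⟨hp⟩
      obtain ⟨d, hd⟩ := exists_prime_addOrderOf_dvd_card' p (hp.dvd_of_dvd_pow h)
      obtain rfl : p = 5 := (Nat.prime_dvd_prime_iff_eq hp (by norm_num)).1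
        (hd ▸ addOrderOf_dvd_of_nsmul_eq_zero (five d))
      rw [card_U3]
      norm_num
    · exact h
  · rintro ⟨g, hg⟩
    refine ⟨SemidirectProduct.inr (Ψ.symm g), ?_⟩
    rw [orderOf_injective _ SemidirectProduct.inr_injective, MulEquiv.orderOf_eq, hg]
  · rintro ⟨h, hh⟩
    have hdvd : orderOf h.right ∣ p * q :=
      hh ▸ orderOf_map_dvd (SemidirectProduct.rightHom : H →* U3) h
    -- an element with a fixed vector
    have key : ∀ r s : ℕ, r.Prime → s.Prime → r ≠ s → p * q = r * s → h.right ^ s = 1 →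
        ∃ g : Cfsg.PSU 3 F 4, orderOf g = p * q := by
      intro r s hr hs hrs he hms
      set z := h ^ s with hz
      have hz1 : z.right = 1 := by
        rw [hz, ← SemidirectProduct.rightHom_eq_right, map_pow]
        exact hms
      have hzl : z = SemidirectProduct.inl z.left :=
        SemidirectProduct.ext (by simp) (by simpa using hz1)
      have hzo : orderOf z = r := by
        rw [hz, orderOf_pow' _ hs.ne_zero, hh, he, Nat.gcd_eq_right (dvd_mul_left s r),
          Nat.mul_div_cancel _ hs.pos]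
      have hr5 : r = 5 := by
        refine (Nat.prime_dvd_prime_iff_eq hr (by norm_num)).1 ?_
        rw [← hzo]
        refine orderOf_dvd_of_pow_eq_one ?_
        rw [hzl, ← map_pow, hpow5, map_one]
      subst hr5
      have hm1 : h.right ≠ 1 := fun e1 => by
        have h2 : h ^ 5 = 1 := by
          have : h = SemidirectProduct.inl h.left :=
            SemidirectProduct.ext (by simp) (by simpa using e1)
          rw [this, ← map_pow, hpow5, map_one]
        have h3 := orderOf_dvd_of_pow_eq_one h2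
        rw [hh, he] at h3
        have := Nat.le_of_dvd (by norm_num) h3
        have := hs.two_le
        omega
      haveI : Fact s.Prime := ⟨hs⟩
      have hms' : orderOf h.right = s := orderOf_eq_prime hms hm1
      have hl : act (N + 1) h.right z.left = z.left := by
        have hc : h * z = z * h := by rw [hz, ← pow_succ, ← pow_succ']
        have hl2 := congrArg SemidirectProduct.left hc
        rw [SemidirectProduct.mul_left, SemidirectProduct.mul_left, hz1, map_one,
          MulAut.one_apply, mul_comm z.left] at hl2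
        exact mul_left_cancel hl2
      have hzne : z.left ≠ 1 := fun e1 => by
        rw [hzl, e1, map_one, orderOf_one] at hzo
        omega
      obtain ⟨i, hi⟩ : ∃ i, Multiplicative.toAdd z.left i ≠ 0 := by
        by_contra hc
        push Not at hc
        exact hzne (Multiplicative.toAdd.injective (funext fun i => hc i))
      have hfix : actD h.right (Multiplicative.toAdd z.left i) = Multiplicative.toAdd z.left i :=
        congrFun (congrArg Multiplicative.toAdd hl) i
      have hsM : s ∣ 62400 := card_U3 ▸ hms' ▸ orderOf_dvd_natCard _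
      have hs23 : s = 2 ∨ s = 3 := by
        rcases prime_of_dvd hs hsM with h' | h' | h' | h'
        · exact Or.inl h'
        · exact Or.inr h'
        · exact absurd h'.symm hrs
        · exact absurd (not_fixed (hms'.trans h') hfix) hi
      obtain ⟨m, hm⟩ := exists_order s hs23
      exact ⟨Ψ m, by rw [MulEquiv.orderOf_eq, hm, he]⟩
    obtain ⟨d₁, d₂, hd1, hd2, hd⟩ := exists_dvd_and_dvd_of_dvd_mul hdvd
    rcases (Nat.dvd_prime hp).1 hd1 with rfl | rfl
    · exact key p q hp hq hpq rfl (orderOf_dvd_iff_pow_eq_one.1 (by rw [hd, one_mul]; exact hd2))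
    · rcases (Nat.dvd_prime hq).1 hd2 with rfl | rfl
      · refine key q d₁ hq hp hpq.symm (mul_comm _ _) (orderOf_dvd_iff_pow_eq_one.1 ?_)
        rw [hd, mul_one]
      · exact ⟨Ψ h.right, by rw [MulEquiv.orderOf_eq, hd]⟩

end Cfsg.Agent.S3663
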