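import Cfsg.Statements.S3664
import Cfsg.Agent.Lib.SuzukiEightPG50
import Cfsg.Agent.Lib.SympSixPG50
-- import your own Cfsg.Agent.* helpers here

set_option autoImplicit false
open Cfsg

namespace Cfsg.Agent.S3664

/-- A prime dividing a number supported on `{2, 3, 5, 7, 13}`. -/
theorem primes_of {r n : ℕ} (hr : r.Prime) (hn : n ∣ (2 * 3 * 5 * 7 * 13) ^ 100) (h : r ∣ n) :
    r = 2 ∨ r = 3 ∨ r = 5 ∨ r = 7 ∨ r = 13 := by
  have h' := hr.dvd_of_dvd_pow (h.trans hn)
  have hle : r ≤ 2730 := Nat.le_of_dvd (by norm_num) h'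
  simp only [Nat.Prime.dvd_mul hr, Nat.prime_dvd_prime_iff_eq hr Nat.prime_two,
    Nat.prime_dvd_prime_iff_eq hr Nat.prime_three,
    Nat.prime_dvd_prime_iff_eq hr (by norm_num : Nat.Prime 5),
    Nat.prime_dvd_prime_iff_eq hr (by norm_num : Nat.Prime 7),
    Nat.prime_dvd_prime_iff_eq hr (by norm_num : Nat.Prime 13)] at h'
  tauto

theorem prime_dvd_iff {n r : ℕ} (hr : r.Prime) (hn : n ∣ (2 * 3 * 5 * 7 * 13) ^ 100)
    (hs : 2 * 3 * 5 * 7 * 13 ∣ n) :
    r ∣ n ↔ (r = 2 ∨ r = 3 ∨ r = 5 ∨ r = 7 ∨ r = 13) := by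
  refine ⟨primes_of hr hn, fun h => dvd_trans ?_ hs⟩
  rcases h with rfl | rfl | rfl | rfl | rfl <;> norm_num

theorem mem_products {Y : Type*} [Group Y] [Finite Y] {p q : ℕ} (hp : p.Prime) (hq : q.Prime)
    (hpq : p ≠ q)
    (hY : ∀ r : ℕ, r.Prime → r ∣ Nat.card Y → (r = 2 ∨ r = 3 ∨ r = 5 ∨ r = 7 ∨ r = 13))
    (hneg : ∀ n ∈ [21, 26, 35, 39, 65, 91], ∀ y : Y, orderOf y ≠ n)
    (y : Y) (hy : orderOf y = p * q) : p * q ∈ [6, 10, 14, 15] := by
  have h1 := hY p hp ((Dvd.intro q rfl).trans (hy ▸ orderOf_dvd_natCard y))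
  have h2 := hY q hq ((Dvd.intro_left p rfl).trans (hy ▸ orderOf_dvd_natCard y))
  rcases h1 with rfl | rfl | rfl | rfl | rfl <;> rcases h2 with rfl | rfl | rfl | rfl | rfl <;>
    first
    | decide
    | exact absurd rfl hpq
    | exact absurd hy (hneg _ (by decide) y)

/-- The prime graph of a finite group has the prime divisors of its order as vertices, two distinct primes p, q being joined when the group has an element of order pq; two groups have the same prime graph when they have the same prime divisors and the same joined pairs. Let F be the field with 3 elements and L = PSp(6,F). There are finite groups of arbitrarily large order with the same prime graph as L (a prime graph shared by the orthogonal groups Ω₇(3) and PΩ⁺₈(3)). -/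
theorem result {F : Type*} [Field F] [Fintype F] (hF : Fintype.card F = 3) (N : ℕ) :
    ∃ (H : Type) (_ : Group H) (_ : Finite H), N < Nat.card H ∧
      ((∀ p : ℕ, p.Prime → (p ∣ Nat.card (Cfsg.PSp 3 F) ↔ p ∣ Nat.card H)) ∧
      (∀ p q : ℕ, p.Prime → q.Prime → p ≠ q → ((∃ g : (Cfsg.PSp 3 F), orderOf g = p * q) ↔ (∃ g : H, orderOf g = p * q)))) := by
  classical
  have hK : Fintype.card SuzukiEightPG50.F8 = 8 := SuzukiEightPG50.card_F8
  have : Finite SuzukiEightPG50.G := SuzukiEightPG50.finiteG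
  have : Finite SuzukiEightPG50.S := Finite.of_equiv _ SemidirectProduct.equivProd.symm
  have : Finite (SuzukiEightPG50.H (N + 1)) := Finite.of_equiv _ SemidirectProduct.equivProd.symm
  set K := SuzukiEightPG50.H (N + 1)
  let e : K ≃* Shrink.{0} K := Shrink.mulEquiv.symm
  have hcH : Nat.card (Shrink.{0} K) = 8 ^ (16 * (N + 1)) * (29120 * 3) :=
    (Nat.card_congr e.toEquiv).symm.trans (SuzukiEightPG50.natCard_H _)
  have hcG : Nat.card (Cfsg.PSp 3 F) = 4585351680 := SympSixPG50.natCard_PSp hF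
  have hG : ∀ {r : ℕ}, r.Prime →
      (r ∣ Nat.card (Cfsg.PSp 3 F) ↔ (r = 2 ∨ r = 3 ∨ r = 5 ∨ r = 7 ∨ r = 13)) := fun hr =>
    prime_dvd_iff hr (by rw [hcG]; decide +kernel) (by rw [hcG]; norm_num)
  have hH : ∀ {r : ℕ}, r.Prime →
      (r ∣ Nat.card (Shrink.{0} K) ↔ (r = 2 ∨ r = 3 ∨ r = 5 ∨ r = 7 ∨ r = 13)) := by
    intro r hr
    rw [hcH]
    constructor
    · intro h
      rcases (Nat.Prime.dvd_mul hr).1 h with h | h
      · have h8 : r ∣ 2 ^ 3 := hr.dvd_of_dvd_pow h
        exact Or.inl ((Nat.prime_dvd_prime_iff_eq hr Nat.prime_two).1 (hr.dvd_of_dvd_pow h8))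
      · exact primes_of hr (by decide +kernel) h
    · intro h
      refine Dvd.dvd.mul_left ?_ _
      rcases h with rfl | rfl | rfl | rfl | rfl <;> norm_num
  refine ⟨Shrink.{0} K, inferInstance, inferInstance, ?_, fun r hr => (hG hr).trans (hH hr).symm,
    fun p q hp hq hpq => ?_⟩
  · rw [hcH]
    refine lt_of_lt_of_le ?_ (Nat.le_mul_of_pos_right _ (by norm_num))
    exact lt_of_le_of_lt (by omega : N ≤ 16 * (N + 1)) (Nat.lt_pow_self (by norm_num))
  have : Finite (Cfsg.PSp 3 F) := Nat.finite_of_card_ne_zero (by rw [hcG]; norm_num)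
  constructor
  · rintro ⟨g, hg⟩
    obtain ⟨y, hy⟩ := SuzukiEightPG50.order_H_positive (N := N + 1) (Nat.succ_pos _)
      (mem_products hp hq hpq (fun r hr => (hG hr).1) (fun n hn => SympSixPG50.not_order hF hn) g hg)
    exact ⟨e y, by rw [MulEquiv.orderOf_eq, hy]⟩
  · rintro ⟨g, hg⟩
    refine SympSixPG50.order_positive hF
      (mem_products hp hq hpq (fun r hr => (hH hr).1) (fun n hn y hy => ?_) g hg)
    exact SuzukiEightPG50.not_order_H hn (e.symm y) (by rw [MulEquiv.orderOf_eq, hy])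

end Cfsg.Agent.S3664
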