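import Cfsg.Statements.S3668
import Cfsg.Agent.Lib.DegGraphSmallFacts81
import Cfsg.Agent.Lib.Order5616Plane81
import Cfsg.Agent.S0495
import Cfsg.Agent.S0984

set_option autoImplicit false
open Cfsg

namespace Cfsg.Agent.S3668

/-- The character degree graph of a finite group has as vertices the primes dividing some irreducible complex character degree, two distinct primes being joined when their product divides some irreducible character degree; two groups have the same character degree graph when they have the same vertices and the same joined pairs. Let S be a finite non-abelian simple group of order less than 6000. If a finite group G has the same order as S and the same character degree graph as S, then G is isomorphic to S. -/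
theorem result {S : Type*} [Group S] [Finite S] [IsSimpleGroup S] (hS : ¬ IsMulCommutative S)
    (hlt : Nat.card S < 6000) {G : Type*} [Group G] [Finite G] (hcard : Nat.card G = Nat.card S) (hΓ : Cfsg.degreePrimes G = Cfsg.degreePrimes S ∧ Cfsg.degreeGraph G = Cfsg.degreeGraph S) :
    Nonempty (G ≃* S) := by
  obtain ⟨hV, hE⟩ := hΓ
  have hn : Nat.card G ∈ DegGraphSmall81.simpleOrders :=
    hcard ▸ DegGraphSmall81.simple_order_mem hS hlt
  simp only [DegGraphSmall81.simpleOrders, List.mem_cons, List.not_mem_nil, or_false] at hn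
  have hmem : ∀ {r : ℕ}, r ∈ degreePrimes S → r ∈ degreePrimes G := fun h => hV ▸ h
  by_cases hs : IsSimpleGroup G
  · rcases hn with h | h | h | h | h | h | h | h | h | h | h
    · obtain ⟨a⟩ := Cfsg.Agent.S0494.result h
      obtain ⟨b⟩ := Cfsg.Agent.S0494.result (hcard.symm.trans h)
      exact ⟨a.trans b.symm⟩
    · haveI : Fact (Nat.Prime 7) := ⟨by norm_num⟩
      obtain ⟨a⟩ := SimplePSLApply.iso_seven h (F := ZMod 7) (by simp)
      obtain ⟨b⟩ := SimplePSLApply.iso_seven (hcard.symm.trans h) (F := ZMod 7) (by simp)
      exact ⟨a.trans b.symm⟩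
    · obtain ⟨a⟩ := Cfsg.Agent.S0497.result h
      obtain ⟨b⟩ := Cfsg.Agent.S0497.result (hcard.symm.trans h)
      exact ⟨a.trans b.symm⟩
    · obtain ⟨a⟩ := Simple504.nonempty_equiv_model h
      obtain ⟨b⟩ := Simple504.nonempty_equiv_model (hcard.symm.trans h)
      exact ⟨a.trans b.symm⟩
    · haveI : Fact (Nat.Prime 11) := ⟨by norm_num⟩
      obtain ⟨a⟩ := SimplePSLApply.iso_eleven h (F := ZMod 11) (by simp)
      obtain ⟨b⟩ := SimplePSLApply.iso_eleven (hcard.symm.trans h) (F := ZMod 11) (by simp)
      exact ⟨a.trans b.symm⟩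
    · haveI : Fact (Nat.Prime 13) := ⟨by norm_num⟩
      obtain ⟨a⟩ := SimplePSLApply.iso_thirteen h (F := ZMod 13) (by simp)
      obtain ⟨b⟩ := SimplePSLApply.iso_thirteen (hcard.symm.trans h) (F := ZMod 13) (by simp)
      exact ⟨a.trans b.symm⟩
    · haveI : Fact (Nat.Prime 17) := ⟨by norm_num⟩
      obtain ⟨a⟩ := SimplePSLApply.iso_seventeen h (F := ZMod 17) (by simp)
      obtain ⟨b⟩ := SimplePSLApply.iso_seventeen (hcard.symm.trans h) (F := ZMod 17) (by simp)
      exact ⟨a.trans b.symm⟩
    · obtain ⟨a⟩ := Cfsg.Agent.S0984.result h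
      obtain ⟨b⟩ := Cfsg.Agent.S0984.result (hcard.symm.trans h)
      exact ⟨a.trans b.symm⟩
    · haveI : Fact (Nat.Prime 19) := ⟨by norm_num⟩
      obtain ⟨a⟩ := SimplePSLApply.iso_nineteen h (F := ZMod 19) (by simp)
      obtain ⟨b⟩ := SimplePSLApply.iso_nineteen (hcard.symm.trans h) (F := ZMod 19) (by simp)
      exact ⟨a.trans b.symm⟩
    · haveI : Fact (Nat.Prime 2) := ⟨Nat.prime_two⟩
      letI : Fintype (GaloisField 2 4) := Fintype.ofFinite _
      have hF : Fintype.card (GaloisField 2 4) = 16 := by
        rw [← Nat.card_eq_fintype_card, GaloisField.card 2 4 (by norm_num)]; norm_num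
      obtain ⟨a⟩ := Cfsg.Agent.S0981.result h hF
      obtain ⟨b⟩ := Cfsg.Agent.S0981.result (hcard.symm.trans h) hF
      exact ⟨a.trans b.symm⟩
    · exact Order5616.nonempty_iso h (hcard.symm.trans h)
  exfalso
  by_cases hsol : Group.IsSolvable G
  · rcases hn with h | h | h | h | h | h | h | h | h | h | h
    all_goals have hS' := hcard.symm.trans h
    · exact (DegGraphSmall81.solvable_no_vertex (p := 5) (v := 0) (r := 0) h (by norm_num) (by norm_num)
        (by norm_num) (by decide +kernel) (Or.inl rfl) (Or.inl rfl)).elim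
        (fun hh => hh (hmem (DegGraphSmall81.facts_60 hS'))) (fun hh => hh.1 rfl)
    · exact (DegGraphSmall81.solvable_no_vertex (p := 7) (v := 8) (r := 2) h (by norm_num) (by norm_num)
        (by norm_num) (by decide +kernel) (Or.inr ⟨2, 3, by norm_num, by norm_num, by norm_num, by norm_num⟩)
        (Or.inr (by norm_num))).elim
        (fun hh => hh (hmem (DegGraphSmall81.facts_168 hS').1))
        (fun hh => hh.2 (hmem (DegGraphSmall81.facts_168 hS').2.1))
    · exact (DegGraphSmall81.solvable_no_vertex (p := 5) (v := 0) (r := 0) h (by norm_num) (by norm_num)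
        (by norm_num) (by decide +kernel) (Or.inl rfl) (Or.inl rfl)).elim
        (fun hh => hh (hmem (DegGraphSmall81.facts_360 hS').1)) (fun hh => hh.1 rfl)
    · exact (DegGraphSmall81.solvable_no_vertex (p := 7) (v := 8) (r := 2) h (by norm_num) (by norm_num)
        (by norm_num) (by decide +kernel) (Or.inr ⟨2, 3, by norm_num, by norm_num, by norm_num, by norm_num⟩)
        (Or.inr (by norm_num))).elim
        (fun hh => hh (hmem (DegGraphSmall81.facts_504 hS').1))
        (fun hh => hh.2 (hmem (DegGraphSmall81.facts_504 hS').2.1))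
    · haveI : Fact (Nat.Prime 11) := ⟨by norm_num⟩
      exact (DegGraphSmall81.solvable_no_vertex (p := 11) (v := 0) (r := 0) h (by norm_num) (by norm_num)
        (by norm_num) (by decide +kernel) (Or.inl rfl) (Or.inl rfl)).elim
        (fun hh => hh (hmem (DegGraphSmall81.facts_psl 11 (by norm_num)
          (SimplePSLApply.iso_eleven hS' (by simp))))) (fun hh => hh.1 rfl)
    · haveI : Fact (Nat.Prime 13) := ⟨by norm_num⟩
      exact (DegGraphSmall81.solvable_no_vertex (p := 13) (v := 0) (r := 0) h (by norm_num) (by norm_num)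
        (by norm_num) (by decide +kernel) (Or.inl rfl) (Or.inl rfl)).elim
        (fun hh => hh (hmem (DegGraphSmall81.facts_psl 13 (by norm_num)
          (SimplePSLApply.iso_thirteen hS' (by simp))))) (fun hh => hh.1 rfl)
    · haveI : Fact (Nat.Prime 17) := ⟨by norm_num⟩
      exact (DegGraphSmall81.solvable_no_vertex (p := 17) (v := 0) (r := 0) h (by norm_num) (by norm_num)
        (by norm_num) (by decide +kernel) (Or.inl rfl) (Or.inl rfl)).elim
        (fun hh => hh (hmem (DegGraphSmall81.facts_psl 17 (by norm_num)
          (SimplePSLApply.iso_seventeen hS' (by simp))))) (fun hh => hh.1 rfl)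
    · exact (DegGraphSmall81.solvable_no_vertex (p := 5) (v := 0) (r := 0) h (by norm_num) (by norm_num)
        (by norm_num) (by decide +kernel) (Or.inl rfl) (Or.inl rfl)).elim
        (fun hh => hh (hmem (DegGraphSmall81.facts_2520 hS').1)) (fun hh => hh.1 rfl)
    · haveI : Fact (Nat.Prime 19) := ⟨by norm_num⟩
      exact (DegGraphSmall81.solvable_no_vertex (p := 19) (v := 0) (r := 0) h (by norm_num) (by norm_num)
        (by norm_num) (by decide +kernel) (Or.inl rfl) (Or.inl rfl)).elim
        (fun hh => hh (hmem (DegGraphSmall81.facts_psl 19 (by norm_num)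
          (SimplePSLApply.iso_nineteen hS' (by simp))))) (fun hh => hh.1 rfl)
    · exact (DegGraphSmall81.solvable_no_vertex (p := 17) (v := 0) (r := 0) h (by norm_num) (by norm_num)
        (by norm_num) (by decide +kernel) (Or.inl rfl) (Or.inl rfl)).elim
        (fun hh => hh (hmem (DegGraphSmall81.facts_4080 hS'))) (fun hh => hh.1 rfl)
    · exact (DegGraphSmall81.solvable_no_vertex (p := 13) (v := 27) (r := 3) h (by norm_num) (by norm_num)
        (by norm_num) (by decide +kernel) (Or.inr ⟨3, 3, by norm_num, by norm_num, by norm_num, by norm_num⟩)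
        (Or.inr (by norm_num))).elim
        (fun hh => hh (hmem (DegGraphSmall81.facts_5616 hS').1))
        (fun hh => hh.2 (hmem (DegGraphSmall81.facts_5616 hS').2))
  have normal_case : ∀ {n : ℕ} {ps : List ℕ}, DegGraphSmall81.Arith n ps → Nat.card G = n →
      (∀ p ∈ ps, p ∈ degreePrimes S) → False := by
    intro n ps hA h hps
    rcases DegGraphSmall81.simple_or_normal hA _ G h dvd_rfl (fun p hp => (hA.prime p hp).2.2.1) hsol with
      h' | ⟨p, hp, P, hP⟩
    · exact hs h'
    · obtain ⟨hp', -, hpn, hp2⟩ := hA.prime p hp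
      haveI := Fact.mk hp'
      exact DegGraphSmall81.no_vertex_normal h hpn hp2 P hP (hmem (hps p hp))
  have hsix : (∃ d ∈ charDegrees G, 6 ∣ d) → (degreeGraph S).Adj 2 3 := fun h => by
    rw [← hE]
    exact ⟨by norm_num, by norm_num, by norm_num, h⟩
  rcases hn with h | h | h | h | h | h | h | h | h | h | h
  all_goals have hS' := hcard.symm.trans h
  · exact hs (DegGraphSmall81.simple_of_card h (by norm_num) (by decide +kernel) hsol)
  · exact hs (DegGraphSmall81.simple_of_card h (by norm_num) (by decide +kernel) hsol)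
  · obtain ⟨-, h25, h23⟩ := DegGraphSmall81.facts_360 hS'
    rcases DegGraphSmall81.order_360 h hsol hs with h6 | h10
    · exact h23 (hsix h6)
    · obtain ⟨-, -, -, d, hd, hdvd⟩ := hE ▸ h25
      exact h10 d hd hdvd
  · exact (DegGraphSmall81.facts_504 hS').2.2 (hsix (DegGraphSmall81.order_504 h hsol hs))
  · refine normal_case DegGraphSmall81.arith_660 h fun p hp => ?_
    obtain rfl : p = 11 := List.mem_singleton.1 hp
    haveI : Fact (Nat.Prime 11) := ⟨by norm_num⟩
    exact DegGraphSmall81.facts_psl 11 (by norm_num) (SimplePSLApply.iso_eleven hS' (by simp))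
  · exact hs (DegGraphSmall81.simple_of_card h (by norm_num) (by decide +kernel) hsol)
  · exact hs (DegGraphSmall81.simple_of_card h (by norm_num) (by decide +kernel) hsol)
  · refine normal_case DegGraphSmall81.arith_2520 h fun p hp => ?_
    simp only [List.mem_cons, List.not_mem_nil, or_false] at hp
    rcases hp with rfl | rfl
    exacts [(DegGraphSmall81.facts_2520 hS').1, (DegGraphSmall81.facts_2520 hS').2]
  · refine normal_case DegGraphSmall81.arith_3420 h fun p hp => ?_
    obtain rfl : p = 19 := List.mem_singleton.1 hp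
    haveI : Fact (Nat.Prime 19) := ⟨by norm_num⟩
    exact DegGraphSmall81.facts_psl 19 (by norm_num) (SimplePSLApply.iso_nineteen hS' (by simp))
  · refine normal_case DegGraphSmall81.arith_4080 h fun p hp => ?_
    obtain rfl : p = 17 := List.mem_singleton.1 hp
    exact DegGraphSmall81.facts_4080 hS'
  · exact hs (DegGraphSmall81.simple_of_card h (by norm_num) (by decide +kernel) hsol)

end Cfsg.Agent.S3668
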