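import Cfsg.Statements.S3670
import Cfsg.Agent.Lib.DegGraphWitness
import Cfsg.Agent.Lib.DegGraphU33Main

set_option autoImplicit false
open Cfsg

namespace Cfsg.Agent.S3670

/-- The character degree graph of a finite group has as vertices the primes dividing some irreducible complex character degree, two distinct primes being joined when their product divides some irreducible character degree; two groups have the same character degree graph when they have the same vertices and the same joined pairs. Let F be the field with 9 elements and L = PSU(3,3) realised over F (order 6048). There is a finite solvable group of order 6048 with the same character degree graph as L; so L is not determined by its order together with its character degree graph. -/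
theorem result {F : Type*} [Field F] [Fintype F] (hF : Fintype.card F = 9) :
    ∃ (H : Type) (_ : Group H) (_ : Fintype H), Group.IsSolvable H ∧ Nat.card H = 6048 ∧ Cfsg.degreePrimes H = Cfsg.degreePrimes (Cfsg.PSU 3 F 3) ∧ Cfsg.degreeGraph H = Cfsg.degreeGraph (Cfsg.PSU 3 F 3) := by
  obtain ⟨H, i1, i2, hsol, hH, h42⟩ := DegGraphWitness.exists_witness
  refine ⟨H, i1, i2, hsol, hH, ?_⟩
  have hF' := DegGraphU33.hcard hF
  have hbot : Subgroup.center (SU 3 F 3) = ⊥ := by
    refine Subgroup.eq_bot_of_card_eq _ ?_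
    rw [OrthUnitaryHerm.card_center_SU hF' (by norm_num)]
    rfl
  let e : SU 3 F 3 ≃* Cfsg.PSU 3 F 3 :=
    (QuotientGroup.quotientBot.symm).trans (QuotientGroup.quotientMulEquivOfEq hbot.symm)
  have hdeg : ∀ d, d ∈ Cfsg.charDegrees (SU 3 F 3) → d ∈ Cfsg.charDegrees (Cfsg.PSU 3 F 3) := by
    rintro d ⟨χ, rfl⟩
    refine ⟨⟨_, CharBasic.isIrrCharacter_comap e.symm.toMonoidHom e.symm.surjective χ.2⟩, ?_⟩
    simp [Cfsg.charDegree]
  have hL : Nat.card (Cfsg.PSU 3 F 3) = 6048 := by
    rw [← Nat.card_congr e.toEquiv, DegGraphU33.card_SU33 hF]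
  haveI : Finite (Cfsg.PSU 3 F 3) := Nat.finite_of_card_ne_zero (by omega)
  obtain ⟨⟨a, ha, ha'⟩, ⟨b, hb, hb'⟩, ⟨c, hc, hc'⟩⟩ := DegGraphU33.degrees_SU33 hF
  obtain ⟨hp, hadj⟩ := DegGraphWitness.graph_of_degrees hL ⟨a, hdeg a ha, ha'⟩
    ⟨b, hdeg b hb, hb'⟩ ⟨c, hdeg c hc, hc'⟩
  obtain ⟨hpH, hadjH⟩ := DegGraphWitness.graph_of_degrees hH ⟨42, h42, by norm_num⟩
    ⟨42, h42, by norm_num⟩ ⟨42, h42, by norm_num⟩
  refine ⟨hpH.trans hp.symm, ?_⟩
  ext p q
  rw [hadjH, hadj]

end Cfsg.Agent.S3670
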