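import Mathlib
import Cfsg.Statements.S3678
import Cfsg.Agent.S3660
import Cfsg.Agent.Lib.PSLCard

namespace Cfsg.Agent.S3678

set_option autoImplicit false
open Cfsg Matrix
open scoped MatrixGroups

lemma sq_eq {R : Type*} [CommRing R] (A : Matrix (Fin 2) (Fin 2) R) (hA : A.det = 1) :
    A * A = A.trace • A - 1 := by
  rw [Matrix.det_fin_two] at hA
  ext i j
  fin_cases i <;> fin_cases j <;>
    simp [Matrix.mul_apply, Fin.sum_univ_two, Matrix.trace] <;>
    first | linear_combination hA | linear_combination -hA | ring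

/-- Coefficients: `g^n = a g + b`. -/
def ab {R : Type*} [CommRing R] (t : R) : ℕ → R × R
  | 0 => (0, 1)
  | n + 1 => (t * (ab t n).1 + (ab t n).2, -(ab t n).1)

lemma pow_eq_ab {R : Type*} [CommRing R] (A : Matrix (Fin 2) (Fin 2) R) (hA : A.det = 1) (n : ℕ) :
    A ^ n = (ab A.trace n).1 • A + (ab A.trace n).2 • (1 : Matrix (Fin 2) (Fin 2) R) := by
  induction n with
  | zero => simp [ab]
  | succ n ih =>
    rw [pow_succ, ih, add_mul, smul_mul_assoc, smul_mul_assoc, sq_eq A hA, one_mul, ab]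
    simp only [smul_sub, smul_smul, add_smul, neg_smul, mul_comm (ab A.trace n).1]
    abel

lemma key7 : ∀ t : ZMod 7,
    ((ab t 2).1 = 0 ∧ (ab t 2).2 ^ 2 = 1) ∨ ((ab t 3).1 = 0 ∧ (ab t 3).2 ^ 2 = 1) ∨
    ((ab t 4).1 = 0 ∧ (ab t 4).2 ^ 2 = 1) ∨ ((ab t 7).1 = 0 ∧ (ab t 7).2 ^ 2 = 1) := by
  decide

lemma seven_aux (g : SL(2, ZMod 7)) :
    g ^ 2 ∈ Subgroup.center (SL(2, ZMod 7)) ∨ g ^ 3 ∈ Subgroup.center (SL(2, ZMod 7)) ∨
    g ^ 4 ∈ Subgroup.center (SL(2, ZMod 7)) ∨ g ^ 7 ∈ Subgroup.center (SL(2, ZMod 7)) := by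
  have key : ∀ n, (ab (g : Matrix (Fin 2) (Fin 2) (ZMod 7)).trace n).1 = 0 →
      (ab (g : Matrix (Fin 2) (Fin 2) (ZMod 7)).trace n).2 ^ 2 = 1 →
      g ^ n ∈ Subgroup.center (SL(2, ZMod 7)) := by
    intro n ha hb
    refine Matrix.SpecialLinearGroup.mem_center_iff.mpr
      ⟨(ab (g : Matrix (Fin 2) (Fin 2) (ZMod 7)).trace n).2, by simpa using hb, ?_⟩
    rw [Matrix.SpecialLinearGroup.coe_pow, pow_eq_ab _ g.2, ha, zero_smul, zero_add,
      Matrix.scalar_apply, Matrix.smul_one_eq_diagonal]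
  rcases key7 (g : Matrix (Fin 2) (Fin 2) (ZMod 7)).trace with ⟨a, b⟩ | ⟨a, b⟩ | ⟨a, b⟩ | ⟨a, b⟩
  exacts [Or.inl (key 2 a b), Or.inr (Or.inl (key 3 a b)), Or.inr (Or.inr (Or.inl (key 4 a b))),
    Or.inr (Or.inr (Or.inr (key 7 a b)))]

lemma seven_orders (x : ProjectiveSpecialLinearGroup (Fin 2) (ZMod 7)) :
    x ^ 2 = 1 ∨ x ^ 3 = 1 ∨ x ^ 4 = 1 ∨ x ^ 7 = 1 := by
  induction x using QuotientGroup.induction_on with
  | H g =>
    simp only [← QuotientGroup.mk_pow, QuotientGroup.eq_one_iff]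
    exact seven_aux g

lemma eight_orders {K : Type*} [Field K] [Fintype K] [CharP K 2] (hK : Fintype.card K = 8)
    (g : SL(2, K)) : g ^ 2 = 1 ∨ g ^ 7 = 1 ∨ g ^ 9 = 1 := by
  set A := (g : Matrix (Fin 2) (Fin 2) K) with hAdef
  set t := A.trace with ht
  have h2 : (2 : K) = 0 := CharTwo.two_eq_zero
  have hA : A * A = t • A - 1 := sq_eq A g.2
  by_cases ht0 : t = 0
  · left
    apply Subtype.ext
    rw [Matrix.SpecialLinearGroup.coe_pow, Matrix.SpecialLinearGroup.coe_one, ← hAdef, pow_two, hA,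
      ht0, zero_smul, zero_sub]
    ext i j
    simp [CharTwo.neg_eq]
  have ht7 : t ^ 7 = 1 := by simpa [hK] using FiniteField.pow_card_sub_one_eq_one t ht0
  set c := (ab t 8).2 with hc
  have hcv : c = t ^ 6 + t ^ 4 + 1 := by
    simp [hc, ab]
    linear_combination (-t ^ 6 + 2 * t ^ 4 - 3 * t ^ 2) * h2
  have ha8 : (ab t 8).1 = 1 := by
    simp [ab]
    linear_combination ht7 + (-3 * t ^ 5 + 5 * t ^ 3 - 2 * t) * h2
  have hA8 : A ^ 8 = A + c • (1 : Matrix (Fin 2) (Fin 2) K) := by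
    rw [pow_eq_ab A g.2 8, ← ht, ha8, one_smul]
  have hct : c = 0 ∨ c = t := by
    have h : c * (c - t) = 0 := by
      rw [hcv]
      linear_combination (t ^ 5 + 2 * t ^ 3 + t - 1) * ht7 + (t ^ 6 + t ^ 4 + t ^ 3) * h2
    rcases mul_eq_zero.mp h with h | h
    exacts [Or.inl h, Or.inr (sub_eq_zero.mp h)]
  rcases hct with h | h
  · right; left
    have : g ^ 8 = g := by
      apply Subtype.ext
      rw [Matrix.SpecialLinearGroup.coe_pow, ← hAdef, hA8, h, zero_smul, add_zero]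
    exact mul_eq_left.mp (by rw [← pow_succ']; exact this)
  · right; right
    apply Subtype.ext
    rw [Matrix.SpecialLinearGroup.coe_pow, Matrix.SpecialLinearGroup.coe_one, ← hAdef, pow_succ, hA8,
      h, add_mul, hA, smul_mul_assoc, one_mul, sub_add_eq_add_sub]
    ext i j
    simp [CharTwo.sub_eq_add, CharTwo.add_self_eq_zero]

lemma not_rs {G : Type*} [Group G] (L : List ℕ) (hL : ∀ g : G, ∃ n ∈ L, g ^ n = 1)
    (hL' : ∀ n ∈ L, IsPrimePow n) (r s : ℕ) (hr : r.Prime) (hs : s.Prime) (hrs : r ≠ s)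
    (g : G) : orderOf g ≠ r * s := by
  intro h
  obtain ⟨n, hn, hgn⟩ := hL g
  have hd : r * s ∣ n := h ▸ orderOf_dvd_of_pow_eq_one hgn
  obtain ⟨p, hp⟩ := isPrimePow_iff_unique_prime_dvd.mp (hL' n hn)
  exact hrs ((hp.2 r ⟨hr, (dvd_mul_right r s).trans hd⟩).trans
    (hp.2 s ⟨hs, (dvd_mul_left s r).trans hd⟩).symm)

theorem result {F : Type*} [Field F] [Fintype F] (hF : Fintype.card F = 7) (N : ℕ) :
    ∃ (H : Type) (_ : Group H) (_ : Finite H), N < Nat.card H ∧
      ((∀ p : ℕ, p.Prime → (p ∣ Nat.card (Matrix.ProjectiveSpecialLinearGroup (Fin 2) F) ↔ p ∣ Nat.card H)) ∧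
      (∀ p q : ℕ, p.Prime → q.Prime → p ≠ q → ((∃ g : (Matrix.ProjectiveSpecialLinearGroup (Fin 2) F), orderOf g = p * q) ↔ (∃ g : H, orderOf g = p * q)))) := by
  classical
  have : Fact (Nat.Prime 7) := ⟨by norm_num⟩
  have : Fact (Nat.Prime 2) := ⟨by norm_num⟩
  let K := GaloisField 2 3
  letI : Fintype K := Fintype.ofFinite K
  have hK : Fintype.card K = 8 := by
    rw [← Nat.card_eq_fintype_card]; simpa using GaloisField.card 2 3 (by norm_num)
  obtain ⟨H, i1, i2, h1, h2, h3⟩ := S3660.result (F := K) (by omega) N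
  have eF : ProjectiveSpecialLinearGroup (Fin 2) F ≃* ProjectiveSpecialLinearGroup (Fin 2) (ZMod 7) :=
    PSLCard.pslEquivOfCard (by rw [Nat.card_eq_fintype_card, hF, Nat.card_zmod])
  have eK := S3660.equivSL (F := K)
  have c7 : Nat.card (ProjectiveSpecialLinearGroup (Fin 2) (ZMod 7)) = 168 := by
    rw [PSLCard.card_PSL2_odd (F := ZMod 7) (by rw [Nat.card_zmod]; decide), Nat.card_zmod]
    norm_num
  have c8 : Nat.card (ProjectiveSpecialLinearGroup (Fin 2) K) = 504 := by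
    rw [PSLCard.card_PSL2_even (F := K) (by rw [Nat.card_eq_fintype_card, hK]; decide),
      Nat.card_eq_fintype_card, hK]
    norm_num
  have edge7 : ∀ r s : ℕ, r.Prime → s.Prime → r ≠ s →
      ¬ ∃ g : ProjectiveSpecialLinearGroup (Fin 2) F, orderOf g = r * s := by
    rintro r s hr hs hrs ⟨g, hg⟩
    refine not_rs [2, 3, 4, 7] (fun x => ?_) ?_ r s hr hs hrs (eF g)
      (by rw [MulEquiv.orderOf_eq, hg])
    · simpa using seven_orders x
    · intro n hn
      simp at hn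
      rcases hn with rfl | rfl | rfl | rfl
      exacts [Nat.prime_two.isPrimePow, Nat.prime_three.isPrimePow,
        ⟨2, 2, Nat.prime_two.prime, by norm_num, by norm_num⟩, Fact.out (p := Nat.Prime 7) |>.isPrimePow]
  have edge8 : ∀ r s : ℕ, r.Prime → s.Prime → r ≠ s →
      ¬ ∃ g : ProjectiveSpecialLinearGroup (Fin 2) K, orderOf g = r * s := by
    rintro r s hr hs hrs ⟨g, hg⟩
    refine not_rs [2, 7, 9] (fun x => ?_) ?_ r s hr hs hrs (eK g)
      (by rw [MulEquiv.orderOf_eq, hg])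
    · simpa using eight_orders hK x
    · intro n hn
      simp at hn
      rcases hn with rfl | rfl | rfl
      exacts [Nat.prime_two.isPrimePow, Fact.out (p := Nat.Prime 7) |>.isPrimePow,
        ⟨3, 2, Nat.prime_three.prime, by norm_num, by norm_num⟩]
  refine ⟨H, i1, i2, h1, ⟨fun p hp => ?_, fun p q hp hq hpq => ?_⟩⟩
  · rw [← h2 p hp, Nat.card_congr eF.toEquiv, c7, c8]
    have key : ∀ m : ℕ, m = 168 ∨ m = 504 → (p ∣ m ↔ p = 2 ∨ p = 3 ∨ p = 7) := by
      intro m hm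
      have e : m = 2 ^ 3 * 3 * 7 ∨ m = 2 ^ 3 * 3 ^ 2 * 7 := by norm_num; exact hm
      rcases e with rfl | rfl <;>
      · simp only [hp.dvd_mul]
        constructor
        · rintro ((h | h) | h)
          · exact Or.inl ((Nat.prime_dvd_prime_iff_eq hp Nat.prime_two).mp (hp.dvd_of_dvd_pow h))
          · first
            | exact Or.inr (Or.inl ((Nat.prime_dvd_prime_iff_eq hp Nat.prime_three).mp h))
            | exact Or.inr (Or.inl ((Nat.prime_dvd_prime_iff_eq hp Nat.prime_three).mp (hp.dvd_of_dvd_pow h)))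
          · exact Or.inr (Or.inr ((Nat.prime_dvd_prime_iff_eq hp (by norm_num)).mp h))
        · rintro (rfl | rfl | rfl) <;> norm_num
    rw [key 168 (Or.inl rfl), key 504 (Or.inr rfl)]
  · rw [← h3 p q hp hq hpq]
    exact iff_of_false (edge7 p q hp hq hpq) (edge8 p q hp hq hpq)

end Cfsg.Agent.S3678
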