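import Cfsg.Statements.S3680
import Cfsg.Agent.Lib.PermMinimalNormal

set_option autoImplicit false
open Cfsg MulAction

namespace Cfsg.Agent.S3680

/-- The socle of a finite primitive permutation group. Let a finite group G act faithfully and primitively on a set Ω, and let N be the subgroup generated by the minimal normal subgroups of G. Then either N is an elementary abelian p-group for some prime p and acts regularly on Ω (transitively with trivial point stabilizers), or N is isomorphic to a direct product of m ≥ 1 copies of a non-abelian simple group. -/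
theorem result {G Ω : Type*} [Group G] [Finite G] [MulAction G Ω] [FaithfulSMul G Ω] [Finite Ω]
    (hprim : MulAction.IsPreprimitive G Ω) (N : Subgroup G)
    (hN : N = sSup {V : Subgroup G | V.Normal ∧ V ≠ ⊥ ∧ ∀ M : Subgroup G, M.Normal → M ≤ V → M = ⊥ ∨ M = V}) :
    (∃ p : ℕ, p.Prime ∧ IsMulCommutative N ∧ (∀ x : N, x ^ p = 1) ∧
      MulAction.IsPretransitive N Ω ∧ ∀ ω : Ω, MulAction.stabilizer N ω = ⊥) ∨
    (∃ (T : Type) (_ : Group T) (m : ℕ), 1 ≤ m ∧ IsSimpleGroup T ∧ ¬ IsMulCommutative T ∧ Nonempty (N ≃* (Fin m → T))) := by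
  classical
  rcases subsingleton_or_nontrivial G with hG | hG
  · refine Or.inl ⟨2, Nat.prime_two, ?_, fun x => Subsingleton.elim _ _, ?_,
      fun ω => Subsingleton.elim _ _⟩
    · exact ⟨⟨fun x y => Subsingleton.elim _ _⟩⟩
    · refine ⟨fun x y => ⟨1, ?_⟩⟩
      obtain ⟨g, hg⟩ := exists_smul_eq G x y
      rw [Subsingleton.elim g 1] at hg
      rw [one_smul] at hg ⊢
      exact hg
  have hne : Nonempty Ω := by
    by_contra h
    rw [not_nonempty_iff] at h
    exact not_subsingleton G ⟨fun x y => eq_of_smul_eq_smul fun z : Ω => isEmptyElim z⟩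
  obtain ⟨M, -, hM⟩ := PermMinimalNormal.exists_isMinNormal_le (G := G) ⊤ top_ne_bot
  have := hM.1
  by_cases hex : ∀ L : Subgroup G, PermMinimalNormal.IsMinNormal L → L = M
  · have hNM : N = M := by
      rw [hN]
      refine le_antisymm (sSup_le fun V hV => (hex V hV).le) (le_sSup hM)
    subst hNM
    have := PermBasic.isPretransitive_of_normal (X := Ω) N hM.2.1
    by_cases hab : IsMulCommutative N
    · obtain ⟨p, hp, hpow⟩ := hM.exists_prime_pow_eq_one hab
      exact Or.inl ⟨p, hp, hab, fun x => Subtype.ext (hpow x x.2), inferInstance,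
        fun ω => PermBasic.stabilizer_eq_bot_of_abelian N hab ω⟩
    · obtain ⟨T, _, m, hT, hm, ⟨e⟩⟩ := hM.exists_simple_pow
      refine Or.inr ⟨T, inferInstance, m, hm, hT, fun hc => hab ⟨⟨fun x y => ?_⟩⟩, ⟨e⟩⟩
      apply e.injective
      funext i
      simp only [map_mul, Pi.mul_apply]
      exact hc.is_comm.comm _ _
  · push Not at hex
    obtain ⟨L, hL, hLM⟩ := hex
    have := hL.1
    obtain ⟨hMt, hLt, hCM, hCL, hnab⟩ :=
      PermMinimalNormal.primitive_two_minNormal (X := Ω) hM hL (Ne.symm hLM)
    have h0 := hM.inf_eq_bot_of_ne hL (Ne.symm hLM)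
    have hc : ∀ x ∈ M, ∀ y ∈ L, x * y = y * x := fun x hx y hy =>
      PermMinimalNormal.commute_of_inf_eq_bot hM.1 hL.1 h0 x y hx hy
    obtain ⟨eLM⟩ := PermMinimalNormal.nonempty_mulEquiv_of_commuting (X := Ω) L M
      fun x hx y hy => (hc y hy x hx).symm
    have hNsup : N = M ⊔ L := by
      rw [hN]
      refine le_antisymm (sSup_le fun V hV => ?_) (sup_le (le_sSup hM) (le_sSup hL))
      by_cases hVM : V = M
      · exact hVM ▸ le_sup_left
      · have := (PermMinimalNormal.primitive_two_minNormal (X := Ω) hM hV (Ne.symm hVM)).2.2.1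
        rw [hCM] at this
        exact this ▸ le_sup_right
    obtain ⟨T, _, m, hT, hm, ⟨e⟩⟩ := hM.exists_simple_pow
    refine Or.inr ⟨T, inferInstance, m + m, by omega, hT, fun hc' => hnab ⟨⟨fun x y => ?_⟩⟩, ?_⟩
    · apply e.injective
      funext i
      simp only [map_mul, Pi.mul_apply]
      exact hc'.is_comm.comm _ _
    · let φ : M × L →* G := MonoidHom.noncommCoprod M.subtype L.subtype fun x y =>
        hc x x.2 y y.2
      have hinj : Function.Injective φ := by
        refine (MonoidHom.noncommCoprod_injective _ _ _).2 ⟨M.subtype_injective, L.subtype_injective, ?_⟩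
        rw [Subgroup.range_subtype, Subgroup.range_subtype, disjoint_iff]
        exact h0
      have hrange : φ.range = N := by
        rw [show φ.range = M.subtype.range ⊔ L.subtype.range from MonoidHom.noncommCoprod_range _ _ _,
          Subgroup.range_subtype, Subgroup.range_subtype, hNsup]
      let split : (Fin (m + m) → T) ≃* (Fin m → T) × (Fin m → T) :=
        { toFun := fun f => (fun i => f (Fin.castAdd m i), fun i => f (Fin.natAdd m i))
          invFun := fun p => Fin.append p.1 p.2
          left_inv := fun f => by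
            funext i
            refine Fin.addCases (fun j => ?_) (fun j => ?_) i
            · exact Fin.append_left _ _ j
            · exact Fin.append_right _ _ j
          right_inv := fun p => Prod.ext (funext fun i => Fin.append_left _ _ i)
            (funext fun i => Fin.append_right _ _ i)
          map_mul' := fun f g => rfl }
      exact ⟨(((MonoidHom.ofInjective hinj).trans (MulEquiv.subgroupCongr hrange)).symm.trans
        (MulEquiv.prodCongr e (eLM.trans e))).trans split.symm⟩


end Cfsg.Agent.S3680
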