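import Mathlib
import Cfsg.Statements.S3681

namespace Cfsg.Agent.S3681

set_option autoImplicit false
open Cfsg Equiv

lemma commutator_isThreeCycle {α : Type*} [Fintype α] [DecidableEq α] (g h : Perm α) (c : α)
    (hg : g c ≠ c) (hh : h c ≠ c) (hx : ∀ x, g x ≠ x → h x ≠ x → x = c) :
    (g * h * g⁻¹ * h⁻¹).IsThreeCycle := by
  have fg : ∀ x, g x ≠ x → g (g x) ≠ g x := fun x hx h' => hx (g.injective h')
  have fh : ∀ x, h x ≠ x → h (h x) ≠ h x := fun x hx h' => hx (h.injective h')
  have gi : ∀ x, g x = x → g⁻¹ x = x := fun x hx => Perm.inv_eq_iff_eq.mpr hx.symm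
  have hi : ∀ x, h x = x → h⁻¹ x = x := fun x hx => Perm.inv_eq_iff_eq.mpr hx.symm
  have hgc : h (g c) = g c := by
    by_contra h'
    exact hg (hx (g c) (fg c hg) h')
  have ghc : g (h c) = h c := by
    by_contra h'
    exact hh (hx (h c) h' (fh c hh))
  have hne : g c ≠ h c := fun e => fh c hh (e ▸ hgc)
  have key : g * h * g⁻¹ * h⁻¹ = swap c (h c) * swap c (g c) := by
    ext x
    simp only [Perm.mul_apply]
    by_cases hxc : x = c
    · subst hxc
      rw [swap_apply_left, swap_apply_of_ne_of_ne hg hne]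
      have h1 : h⁻¹ x ≠ x := fun e => hh (by nth_rw 1 [← e]; simp)
      have h2 : h (h⁻¹ x) ≠ h⁻¹ x := by simpa using h1.symm
      have h3 : g (h⁻¹ x) = h⁻¹ x := by
        by_contra h'; exact h1 (hx _ h' h2)
      rw [gi _ h3]; simp
    by_cases hxg : x = g c
    · subst hxg
      rw [hi _ hgc, swap_apply_right, swap_apply_left]
      simp [ghc]
    by_cases hxh : x = h c
    · subst hxh
      rw [swap_apply_of_ne_of_ne hh hne.symm, swap_apply_right]
      rw [show h⁻¹ (h c) = c by simp]
      have h1 : g⁻¹ c ≠ c := fun e => hg (by nth_rw 1 [← e]; simp)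
      have h2 : g (g⁻¹ c) ≠ g⁻¹ c := by simpa using h1.symm
      have h3 : h (g⁻¹ c) = g⁻¹ c := by
        by_contra h'; exact h1 (hx _ h2 h')
      rw [h3]; simp
    rw [swap_apply_of_ne_of_ne hxc hxg, swap_apply_of_ne_of_ne hxc hxh]
    by_cases hgx : g x = x
    · by_cases hhx : h x = x
      · simp [hi _ hhx, gi _ hgx, hhx, hgx]
      · have h1 : h⁻¹ x ≠ c := fun e => hxh (by rw [← e]; simp)
        have h2 : h (h⁻¹ x) ≠ h⁻¹ x := by
          intro e
          apply hhx
          have : x = h⁻¹ x := by simpa using e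
          conv_rhs => rw [← (show h (h⁻¹ x) = x by simp), ← this]
        have h3 : g (h⁻¹ x) = h⁻¹ x := by
          by_contra h'; exact h1 (hx _ h' h2)
        rw [gi _ h3]; simp [hgx]
    · have hhx : h x = x := by
        by_contra h'; exact hxc (hx _ hgx h')
      rw [hi _ hhx]
      have h1 : g⁻¹ x ≠ c := fun e => hxg (by rw [← e]; simp)
      have h2 : g (g⁻¹ x) ≠ g⁻¹ x := by
        intro e
        apply hgx
        have : x = g⁻¹ x := by simpa using e
        conv_rhs => rw [← (show g (g⁻¹ x) = x by simp), ← this]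
      have h3 : h (g⁻¹ x) = g⁻¹ x := by
        by_contra h'; exact h1 (hx _ h2 h')
      rw [h3]; simp
  rw [key]
  exact Perm.isThreeCycle_swap_mul_swap_same hh.symm hg.symm hne.symm

lemma exists_small_base {α : Type*} [Fintype α] [DecidableEq α] (R : Subgroup (Perm α))
    [MulAction.IsPreprimitive R α] (hA : ¬ alternatingGroup α ≤ R) :
    ∃ s : Finset α, 2 * s.card ≤ Fintype.card α ∧ ∀ g ∈ R, (∀ x ∈ s, g x = x) → g = 1 := by
  classical
  let P : Finset α → Prop := fun s => ∀ g ∈ R, (∀ x ∈ s, g x = x) → g = 1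
  have hex : ∃ s ∈ (Finset.univ : Finset (Finset α)).filter P,
      ∀ t ∈ (Finset.univ : Finset (Finset α)).filter P, s.card ≤ t.card :=
    Finset.exists_min_image _ _ ⟨Finset.univ, by
      simp only [Finset.mem_filter, Finset.mem_univ, true_and]
      exact fun g _ hg => Perm.ext fun x => by simpa using hg x (Finset.mem_univ x)⟩
  obtain ⟨s, hs, hmin⟩ := hex
  simp only [Finset.mem_filter, Finset.mem_univ, true_and] at hs hmin
  refine ⟨s, ?_, hs⟩
  by_cases hc : P sᶜ
  · have := hmin _ hc
    rw [Finset.card_compl] at this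
    omega
  exfalso
  simp only [P, not_forall] at hc
  obtain ⟨g, hgR, hgfix, hg1⟩ := hc
  obtain ⟨c, hc⟩ : ∃ c, g c ≠ c := by
    by_contra h; push_neg at h; exact hg1 (Perm.ext (by simpa using h))
  have hcs : c ∈ s := by
    by_contra h; exact hc (hgfix c (Finset.mem_compl.mpr h))
  have hnP : ¬ P (s.erase c) := fun h => by
    have := hmin _ h
    rw [Finset.card_erase_of_mem hcs] at this
    have := Finset.card_pos.mpr ⟨c, hcs⟩
    omega
  simp only [P, not_forall] at hnP
  obtain ⟨h, hhR, hhfix, hh1⟩ := hnP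
  have hhc : h c ≠ c := fun e => hh1 (hs h hhR fun x hx => by
    by_cases hxc : x = c
    · rw [hxc, e]
    · exact hhfix x (Finset.mem_erase.mpr ⟨hxc, hx⟩))
  refine hA (Perm.alternatingGroup_le_of_isPreprimitive_of_isThreeCycle_mem ‹_›
    (commutator_isThreeCycle g h c hc hhc ?_)
    (mul_mem (mul_mem (mul_mem hgR hhR) (inv_mem hgR)) (inv_mem hhR)))
  intro x hx1 hx2
  by_contra hxc
  have hxs : x ∈ s := by
    by_contra h'; exact hx1 (hgfix x (Finset.mem_compl.mpr h'))
  exact hx2 (hhfix x (Finset.mem_erase.mpr ⟨hxc, hxs⟩))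

lemma card_mul_le {α : Type*} [Fintype α] [DecidableEq α] (R : Subgroup (Perm α)) (s : Finset α)
    (hs : ∀ g ∈ R, (∀ x ∈ s, g x = x) → g = 1) :
    Nat.card R * Nat.factorial (Fintype.card α - s.card) ≤ Nat.factorial (Fintype.card α) := by
  classical
  let f : R × Perm {x // x ∉ s} → Perm α := fun p => (p.1 : Perm α) * Perm.ofSubtype p.2
  have hf : Function.Injective f := by
    rintro ⟨a, u⟩ ⟨b, v⟩ h
    simp only [f] at h
    have h1 : (b : Perm α)⁻¹ * a = Perm.ofSubtype (v * u⁻¹) := by
      rw [map_mul, map_inv, inv_mul_eq_iff_eq_mul, ← mul_assoc, eq_mul_inv_iff_mul_eq]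
      exact h
    have h2 : (b : Perm α)⁻¹ * a = 1 := hs _ (mul_mem (inv_mem b.2) a.2) fun x hx => by
      rw [h1, Perm.ofSubtype_apply_of_not_mem]
      simpa using hx
    obtain rfl : b = a := Subtype.ext (inv_mul_eq_one.mp h2)
    have := mul_left_cancel h
    rw [Perm.ofSubtype_injective this]
  have h := Nat.card_le_card_of_injective f hf
  rw [Nat.card_prod, Nat.card_perm, Nat.card_perm, Nat.card_eq_fintype_card (α := {x // x ∉ s}),
    Fintype.card_subtype_compl, Fintype.card_coe, Nat.card_eq_fintype_card (α := α)] at h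
  exact h

theorem result {G Ω : Type*} [Group G] [Finite G] [MulAction G Ω] [FaithfulSMul G Ω] [Fintype Ω] [DecidableEq Ω]
    (hprim : MulAction.IsPreprimitive G Ω) (hA : ¬ alternatingGroup Ω ≤ (MulAction.toPermHom G Ω).range) :
    Nat.card G * Nat.factorial ((Fintype.card Ω + 1) / 2) ≤ Nat.factorial (Fintype.card Ω) := by
  classical
  set R := (MulAction.toPermHom G Ω).range with hR
  let φ : G → R := fun g => ⟨MulAction.toPermHom G Ω g, ⟨g, rfl⟩⟩
  let f : Ω →ₑ[φ] Ω := { toFun := id, map_smul' := fun g x => rfl }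
  have : MulAction.IsPreprimitive R Ω :=
    MulAction.IsPreprimitive.of_surjective (f := f) Function.surjective_id
  obtain ⟨s, hs1, hs2⟩ := exists_small_base R hA
  have hcard : Nat.card G = Nat.card R :=
    Nat.card_congr (MonoidHom.ofInjective (f := MulAction.toPermHom G Ω)
      MulAction.toPerm_injective).toEquiv
  rw [hcard]
  refine le_trans (Nat.mul_le_mul_left _ (Nat.factorial_le ?_)) (card_mul_le R s hs2)
  omega

end Cfsg.Agent.S3681
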