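import Cfsg.Statements.S3682
import Cfsg.Agent.Lib.ComponentsThompsonWielandt

set_option autoImplicit false
open Cfsg

namespace Cfsg.Agent.S3682

open Subgroup Cfsg.Agent.ComponentsThompsonWielandt

/-- Wielandt's bound toward the Sims conjecture. Let a finite group G act faithfully and primitively on a set Ω, let a and b be points, and suppose the orbit of b under the stabilizer of a has length d ≥ 2. Then there are a prime p and a normal p-subgroup P of the stabilizer of a, all of whose elements fix b, such that the index of P in the stabilizer of a divides d! · ((d - 1)!)^d. -/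
theorem result {G Ω : Type*} [Group G] [Finite G] [MulAction G Ω] [FaithfulSMul G Ω] [Finite Ω]
    (hprim : MulAction.IsPreprimitive G Ω) (a b : Ω) (d : ℕ) (hd : Nat.card (MulAction.orbit (MulAction.stabilizer G a) b) = d) (h2 : 2 ≤ d) :
    ∃ p : ℕ, p.Prime ∧ ∃ P : Subgroup (MulAction.stabilizer G a), P.Normal ∧ IsPGroup p P ∧ (∀ g : P, ((g : MulAction.stabilizer G a) : G) • b = b) ∧
      P.index ∣ Nat.factorial d * (Nat.factorial (d - 1)) ^ d := by
  haveI : MulAction.IsPretransitive G Ω := hprim.toIsPretransitive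
  haveI := hprim
  set M₁ := MulAction.stabilizer G a
  set M₂ := MulAction.stabilizer G b
  have hindex : (M₁ ⊓ M₂).relIndex M₁ = d := by
    have e : (M₁ ⊓ M₂).subgroupOf M₁ = MulAction.stabilizer M₁ b := by
      ext x
      exact ⟨fun hx => (mem_subgroupOf.mp hx).2, fun hx => mem_subgroupOf.mpr ⟨x.2, hx⟩⟩
    rw [← hd, relIndex, e, MulAction.index_stabilizer]
    rfl
  have hne : M₁ ≠ M₂ := by
    intro h
    rw [← h, inf_idem, relIndex_self] at hindex
    omega
  haveI : Nontrivial Ω := ⟨⟨a, b, fun h => hne (by rw [show M₂ = MulAction.stabilizer G a from h ▸ rfl])⟩⟩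
  obtain ⟨g, hg⟩ := MulAction.exists_smul_eq G a b
  have hconj : M₂ = M₁.map (MulAut.conj g).toMonoidHom := by
    show MulAction.stabilizer G b = _
    rw [← hg]
    exact MulAction.stabilizer_smul_eq_stabilizer_map_conj g a
  have hcore : ∀ c : Ω, (MulAction.stabilizer G c).normalCore = ⊥ := by
    intro c
    rw [eq_bot_iff]
    intro x hx
    refine mem_bot.mpr (eq_of_smul_eq_smul fun y : Ω => ?_)
    obtain ⟨k, rfl⟩ := MulAction.exists_smul_eq G c y
    have := MulAction.mem_stabilizer_iff.mp (hx k⁻¹)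
    rw [inv_inv, mul_smul, mul_smul, inv_smul_eq_iff] at this
    rw [one_smul, this]
  have hM := fun c : Ω => (MulAction.IsPreprimitive.isCoatom_stabilizer_of_isPreprimitive (G := G) c)
  have hc1 := ctrl_of_isCoatom_core (hM a) (hcore a) M₂
  have hc2 := ctrl_of_isCoatom_core (hM b) (hcore b) M₁
  by_cases hcard : Nat.card M₁ ∣ Nat.factorial d * (Nat.factorial (d - 1)) ^ d
  · refine ⟨2, Nat.prime_two, ⊥, inferInstance, IsPGroup.of_bot, fun x => ?_, ?_⟩
    · rw [show ((x : MulAction.stabilizer G a) : G) = 1 from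
        congrArg Subtype.val (mem_bot.mp x.2), one_smul]
    · rwa [index_bot]
  have hA2 := fun h => hcard (card_dvd_of_conj hconj hindex (.inl h))
  have hB2 := fun h => hcard (card_dvd_of_conj hconj hindex (.inr h))
  obtain ⟨p, hp, h1, -⟩ := isPGroup_gen hc1 hc2 hne hA2 hB2
  haveI := Fact.mk hp
  have hpA := isPGroup_cor hc1 hc2 hne hconj h1 hA2
  set K := ((cor M₁ (M₁ ⊓ M₂) ⊓ cor M₂ (M₁ ⊓ M₂)).subgroupOf M₁).normalCore
  refine ⟨p, hp, K, inferInstance,
    hpA.of_equiv (K.equivMapOfInjective _ M₁.subtype_injective).symm, fun x => ?_, ?_⟩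
  · exact MulAction.mem_stabilizer_iff.mp
      (cor_le_right (mem_subgroupOf.mp (normalCore_le _ x.2)).1 : _ ∈ M₁ ⊓ M₂).2
  · refine index_dvd hindex ?_
    have e1 := card_mul_index ((M₁ ⊓ M₂).subgroupOf M₁)
    have e2 := card_mul_index ((M₁ ⊓ M₂).subgroupOf M₂)
    rw [Nat.card_congr (subgroupOfEquivOfLe (inf_le_left : M₁ ⊓ M₂ ≤ M₁)).toEquiv] at e1
    rw [Nat.card_congr (subgroupOfEquivOfLe (inf_le_right : M₁ ⊓ M₂ ≤ M₂)).toEquiv,
      show Nat.card M₂ = Nat.card M₁ by
        rw [hconj, card_map_of_injective (MulAut.conj g).injective], ← e1] at e2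
    rw [← hindex]
    exact Nat.eq_of_mul_eq_mul_left Nat.card_pos e2

end Cfsg.Agent.S3682
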