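import Mathlib
import Cfsg.Statements.S3683

namespace Cfsg.Agent.S3683

set_option autoImplicit false
open Cfsg MulAction

theorem result {G Ω : Type*} [Group G] [Finite G] [MulAction G Ω] [FaithfulSMul G Ω] [Finite Ω]
    (hprim : MulAction.IsPreprimitive G Ω) (a b : Ω) (hab : a ≠ b) (hfix : ∀ g : G, g • a = a → g • b = b) :
    MulAction.stabilizer G a = ⊥ ∧ IsCyclic G ∧ (Nat.card G).Prime := by
  have : Nontrivial Ω := ⟨⟨a, b, hab⟩⟩
  have hmax : IsCoatom (stabilizer G a) := (MulAction.isCoatom_stabilizer_iff_preprimitive G a).mpr hprim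
  obtain ⟨x, hx⟩ := MulAction.exists_smul_eq G a b
  have hxn : x ∉ stabilizer G a := fun h => hab (h.symm.trans hx)
  have hle : stabilizer G a ≤ (stabilizer G a).map (MulAut.conj x).toMonoidHom := by
    rw [← stabilizer_smul_eq_stabilizer_map_conj, hx]
    exact fun g hg => hfix g hg
  have heq : stabilizer G a = (stabilizer G a).map (MulAut.conj x).toMonoidHom :=
    Subgroup.eq_of_le_of_card_ge hle (le_of_eq (Nat.card_congr
      ((stabilizer G a).equivMapOfInjective _ (MulAut.conj x).injective).toEquiv).symm)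
  have hnorm : (stabilizer G a).Normal := by
    rw [← Subgroup.normalizer_eq_top_iff]
    refine hmax.2 _ (lt_of_le_of_ne Subgroup.le_normalizer fun h => hxn ?_)
    rw [h]
    refine Subgroup.mem_normalizer_iff.mpr fun n => ?_
    conv_rhs => rw [heq]
    rw [Subgroup.mem_map]
    constructor
    · exact fun hn => ⟨n, hn, rfl⟩
    · rintro ⟨m, hm, e⟩
      rwa [← (MulAut.conj x).injective e]
  have hbot : stabilizer G a = ⊥ := by
    rw [Subgroup.eq_bot_iff_forall]
    intro g hg
    apply eq_of_smul_eq_smul (α := Ω)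
    intro c
    obtain ⟨y, rfl⟩ := MulAction.exists_smul_eq G a c
    rw [one_smul]
    have h' := hnorm.conj_mem g hg y⁻¹
    rw [mem_stabilizer_iff, inv_inv, mul_smul, mul_smul, inv_smul_eq_iff] at h'
    exact h'
  refine ⟨hbot, ?_⟩
  rw [hbot] at hmax
  have hz : ∀ g : G, g ≠ 1 → Subgroup.zpowers g = ⊤ := fun g hg =>
    hmax.2 _ (bot_lt_iff_ne_bot.mpr (by simpa using hg))
  have : Nontrivial G := ⟨⟨x, 1, fun h => hab (by rw [← hx, h, one_smul])⟩⟩
  obtain ⟨p, hp, hpd⟩ := Nat.exists_prime_and_dvd (Finite.one_lt_card (α := G)).ne'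
  have : Fact p.Prime := ⟨hp⟩
  obtain ⟨g, hg⟩ := exists_prime_orderOf_dvd_card' p hpd
  have hg1 : g ≠ 1 := fun h => hp.ne_one (by rw [← hg, h, orderOf_one])
  have hgc := hz g hg1
  refine ⟨⟨⟨g, fun y => ?_⟩⟩, ?_⟩
  · have hy : y ∈ Subgroup.zpowers g := hgc ▸ Subgroup.mem_top y
    exact hy
  · rw [← Subgroup.card_top, ← hgc, Nat.card_zpowers, hg]
    exact hp

end Cfsg.Agent.S3683
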