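import Cfsg.Statements.S3684
import Cfsg.Agent.Lib.PermBasic

set_option autoImplicit false
open Cfsg MulAction

namespace Cfsg.Agent.S3684

/-- Let a finite group G act faithfully and primitively on a set Ω, and suppose the stabilizer of a point a has an orbit of length 2. Then the stabilizer of a has order 2 and G is isomorphic to the dihedral group of order 2p for some prime p. -/
theorem result {G Ω : Type*} [Group G] [Finite G] [MulAction G Ω] [FaithfulSMul G Ω] [Finite Ω]
    (hprim : MulAction.IsPreprimitive G Ω) (a b : Ω) (h2 : Nat.card (MulAction.orbit (MulAction.stabilizer G a) b) = 2) :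
    Nat.card (MulAction.stabilizer G a) = 2 ∧ ∃ p : ℕ, p.Prime ∧ Nonempty (G ≃* DihedralGroup p) := by
  classical
  have hab : b ≠ a := by
    intro hba
    subst hba
    have : Nat.card (orbit (stabilizer G b) b) = 1 := by
      rw [Nat.card_eq_one_iff_exists]
      refine ⟨⟨b, mem_orbit_self b⟩, ?_⟩
      rintro ⟨x, g, rfl⟩
      exact Subtype.ext g.2
    omega
  have : Nontrivial Ω := ⟨⟨b, a, hab⟩⟩
  have hA := IsPreprimitive.isCoatom_stabilizer_of_isPreprimitive (G := G) a
  set A := stabilizer G a with hAdef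
  set B := stabilizer G b with hBdef
  have hAB2 : (B.subgroupOf A).index = 2 := by
    rw [← h2, Nat.card_coe_set_eq, ← index_stabilizer]
    rfl
  have hcardAB : Nat.card A = Nat.card B := by
    have h1 := PermBasic.card_mul_card_stabilizer (G := G) a
    have h2 := PermBasic.card_mul_card_stabilizer (G := G) b
    exact Nat.eq_of_mul_eq_mul_left (Nat.card_pos (α := Ω)) (h1.trans h2.symm)
  have hinf : 2 * Nat.card ↥(A ⊓ B) = Nat.card A := by
    rw [← (B.subgroupOf A).index_mul_card, hAB2, inf_comm, ← Subgroup.subgroupOf_map_subtype,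
      Subgroup.card_map_of_injective A.subtype_injective]
  have hBA2 : (A.subgroupOf B).index = 2 := by
    have := (A.subgroupOf B).index_mul_card
    rw [← Subgroup.card_map_of_injective (K := A.subgroupOf B) B.subtype_injective,
      Subgroup.subgroupOf_map_subtype, ← hcardAB, ← hinf] at this
    exact Nat.eq_of_mul_eq_mul_right Nat.card_pos this
  have hBne : ¬ B ≤ A := by
    intro hle
    rw [← Subgroup.subgroupOf_eq_top] at hle
    rw [hle, Subgroup.index_top] at hBA2
    exact absurd hBA2 (by norm_num)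
  have hsup : A ⊔ B = ⊤ := hA.2 _ (lt_of_le_of_ne le_sup_left
    (fun h => hBne (h ▸ le_sup_right)))
  have hn1 := Subgroup.normal_of_index_eq_two hAB2
  have hn2 := Subgroup.normal_of_index_eq_two hBA2
  have hnorm : (A ⊓ B).Normal := by
    rw [← Subgroup.normalizer_eq_top_iff, ← top_le_iff, ← hsup]
    refine sup_le ?_ ?_
    · intro g hg
      rw [Subgroup.mem_normalizer_iff]
      intro x
      constructor
      · intro hx
        exact ⟨A.mul_mem (A.mul_mem hg hx.1) (A.inv_mem hg), hn1.conj_mem ⟨x, hx.1⟩ hx.2 ⟨g, hg⟩⟩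
      · intro hx
        have h1 : x ∈ A := by
          have := A.mul_mem (A.mul_mem (A.inv_mem hg) hx.1) hg
          rwa [show g⁻¹ * (g * x * g⁻¹) * g = x by group] at this
        refine ⟨h1, ?_⟩
        have := hn1.conj_mem ⟨_, hx.1⟩ hx.2 ⟨g⁻¹, A.inv_mem hg⟩
        simpa [Subgroup.mem_subgroupOf, mul_assoc] using this
    · intro g hg
      rw [Subgroup.mem_normalizer_iff]
      intro x
      constructor
      · intro hx
        exact ⟨hn2.conj_mem ⟨x, hx.2⟩ hx.1 ⟨g, hg⟩, B.mul_mem (B.mul_mem hg hx.2) (B.inv_mem hg)⟩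
      · intro hx
        have h1 : x ∈ B := by
          have := B.mul_mem (B.mul_mem (B.inv_mem hg) hx.2) hg
          rwa [show g⁻¹ * (g * x * g⁻¹) * g = x by group] at this
        refine ⟨?_, h1⟩
        have := hn2.conj_mem ⟨_, hx.2⟩ hx.1 ⟨g⁻¹, B.inv_mem hg⟩
        simpa [Subgroup.mem_subgroupOf, mul_assoc] using this
  have hbot : A ⊓ B = ⊥ := by
    by_contra hne
    have := PermBasic.isPretransitive_of_normal (X := Ω) (A ⊓ B) hne
    obtain ⟨g, hg⟩ := exists_smul_eq (A ⊓ B : Subgroup G) a b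
    exact hab (hg.symm.trans g.2.1)
  rw [hbot, Subgroup.card_bot, mul_one] at hinf
  refine ⟨hinf.symm, ?_⟩
  obtain ⟨⟨s, hsA⟩, hs⟩ := exists_prime_orderOf_dvd_card' (G := A) 2 (hinf ▸ dvd_rfl)
  obtain ⟨⟨t, htB⟩, ht⟩ := exists_prime_orderOf_dvd_card' (G := B) 2 (by rw [← hcardAB, ← hinf])
  rw [Subgroup.orderOf_mk] at hs ht
  have hs2 : s * s = 1 := by rw [← pow_two, ← hs]; exact pow_orderOf_eq_one s
  have ht2 : t * t = 1 := by rw [← pow_two, ← ht]; exact pow_orderOf_eq_one t
  have hAz : A = Subgroup.zpowers s := (Subgroup.eq_of_le_of_card_ge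
    (Subgroup.zpowers_le.2 hsA) (by rw [Nat.card_zpowers, hs, ← hinf])).symm
  have hBz : B = Subgroup.zpowers t := (Subgroup.eq_of_le_of_card_ge
    (Subgroup.zpowers_le.2 htB) (by rw [Nat.card_zpowers, ht, ← hcardAB, ← hinf])).symm
  set r := s * t with hr
  have hsinv : s⁻¹ = s := inv_eq_of_mul_eq_one_right hs2
  have htinv : t⁻¹ = t := inv_eq_of_mul_eq_one_right ht2
  have hsr : s * r * s⁻¹ = r⁻¹ := by
    rw [hr, mul_inv_rev, hsinv, htinv]
    calc s * (s * t) * s = s * s * t * s := by group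
      _ = t * s := by rw [hs2]; group
  have hpow : ∀ i : ℤ, s * r ^ i * s⁻¹ = r ^ (-i) := fun i => by
    rw [← conj_zpow, hsr, zpow_neg, inv_zpow]
  set R := Subgroup.zpowers r with hRdef
  have hRn : ∀ K ≤ R, K.Normal := by
    intro K hK
    rw [← Subgroup.normalizer_eq_top_iff, ← top_le_iff, ← hsup, sup_le_iff, hAz, hBz,
      Subgroup.zpowers_le, Subgroup.zpowers_le]
    have hs' : ∀ x ∈ K, s * x * s⁻¹ ∈ K := by
      intro x hx
      obtain ⟨i, rfl⟩ := Subgroup.mem_zpowers_iff.1 (hK hx)
      rw [hpow, zpow_neg]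
      exact K.inv_mem hx
    have ht' : ∀ x ∈ K, t * x * t⁻¹ ∈ K := by
      intro x hx
      obtain ⟨i, rfl⟩ := Subgroup.mem_zpowers_iff.1 (hK hx)
      have : t * r ^ i * t⁻¹ = r ^ (-i) := by
        rw [show t = s⁻¹ * r by rw [hr]; group, hsinv]
        calc s * r * r ^ i * (s * r)⁻¹ = s * r ^ i * s⁻¹ := by group
          _ = r ^ (-i) := hpow i
      rw [this, zpow_neg]
      exact K.inv_mem hx
    constructor
    · rw [Subgroup.mem_normalizer_iff]
      intro x
      refine ⟨hs' x, fun hx => ?_⟩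
      have := hs' _ hx
      rwa [hsinv, show s * (s * x * s) * s = (s * s) * x * (s * s) by group, hs2, one_mul, mul_one] at this
    · rw [Subgroup.mem_normalizer_iff]
      intro x
      refine ⟨ht' x, fun hx => ?_⟩
      have := ht' _ hx
      rwa [htinv, show t * (t * x * t) * t = (t * t) * x * (t * t) by group, ht2, one_mul, mul_one] at this
  have hRne : R ≠ ⊥ := by
    rw [hRdef, Ne, Subgroup.zpowers_eq_bot]
    intro h1
    apply hBne
    rw [hr, mul_eq_one_iff_eq_inv, htinv] at h1
    rw [hBz, ← h1, ← hAz]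
  have hsR : s ∉ R := by
    intro hs'
    have hle : A ⊔ B ≤ R := by
      rw [hAz, hBz, sup_le_iff, Subgroup.zpowers_le, Subgroup.zpowers_le]
      refine ⟨hs', ?_⟩
      rw [show t = s⁻¹ * r by rw [hr]; group]
      exact R.mul_mem (R.inv_mem hs') (Subgroup.mem_zpowers r)
    have hRt : IsPretransitive R Ω := ⟨fun x y => by
      obtain ⟨g, hg⟩ := exists_smul_eq G x y
      exact ⟨⟨g, hle (hsup.symm ▸ Subgroup.mem_top g)⟩, hg⟩⟩
    have h0 := PermBasic.stabilizer_eq_bot_of_abelian R inferInstance a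
    have h1 : s = 1 := (PermBasic.stabilizer_subgroup_eq_bot_iff' R a).1 h0 s hs' hsA
    rw [h1, orderOf_one] at hs
    exact absurd hs (by norm_num)
  have hRnorm := hRn R le_rfl
  have hRt := PermBasic.isPretransitive_of_normal (X := Ω) R hRne
  have hRreg := PermBasic.stabilizer_eq_bot_of_abelian R inferInstance a
  have hRcard : Nat.card R = Nat.card Ω := PermBasic.card_eq_of_regular hRreg
  obtain ⟨q, hq, hqd⟩ := Nat.exists_prime_and_dvd (n := Nat.card R)
    (fun h => hRne (Subgroup.eq_bot_of_card_eq R h))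
  have : Fact q.Prime := ⟨hq⟩
  obtain ⟨⟨u, huR⟩, hu⟩ := exists_prime_orderOf_dvd_card' q hqd
  rw [Subgroup.orderOf_mk] at hu
  have hUle : Subgroup.zpowers u ≤ R := Subgroup.zpowers_le.2 huR
  have := hRn _ hUle
  have hUt := PermBasic.isPretransitive_of_normal (X := Ω) (Subgroup.zpowers u) (by
    rw [Ne, Subgroup.zpowers_eq_bot]; intro h; rw [h, orderOf_one] at hu; exact hq.one_lt.ne hu)
  have hΩq : Nat.card Ω = q := by
    have h1 : Nat.card Ω ∣ q := hu ▸ Nat.card_zpowers u ▸
      @PermBasic.card_dvd_of_transitive _ _ Ω _ hUt ⟨a⟩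
    rcases (Nat.dvd_prime hq).1 h1 with h | h
    · exact absurd h (Finite.one_lt_card.ne')
    · exact h
  have hrord : orderOf r = q := by rw [← Nat.card_zpowers, ← hRdef, hRcard, hΩq]
  refine ⟨q, hq, ⟨?_⟩⟩
  have hpm : ∀ i j : ZMod q, r ^ (i + j).val = r ^ i.val * r ^ j.val := fun i j => by
    rw [ZMod.val_add, ← pow_add, ← pow_mod_orderOf r (i.val + j.val), hrord]
  have hneg : ∀ i : ZMod q, r ^ (-i).val = (r ^ i.val)⁻¹ := fun i => by
    rw [eq_inv_iff_mul_eq_one, ← hpm, neg_add_cancel, ZMod.val_zero, pow_zero]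
  have hflip : ∀ i : ZMod q, r ^ i.val * s = s * r ^ (-i).val := fun i => by
    have h1 := hpow (i.val : ℤ)
    rw [zpow_natCast, zpow_neg, zpow_natCast] at h1
    rw [hneg, ← h1, hsinv]
    calc r ^ i.val * s = (s * s) * r ^ i.val * s := by rw [hs2, one_mul]
      _ = s * (s * r ^ i.val * s) := by group
  let f : DihedralGroup q →* G := MonoidHom.mk'
    (fun x => match x with
      | DihedralGroup.r i => r ^ i.val
      | DihedralGroup.sr i => s * r ^ i.val)
    (by
      rintro (i | i) (j | j)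
      · rw [DihedralGroup.r_mul_r]; exact hpm i j
      · rw [DihedralGroup.r_mul_sr]
        change s * r ^ (j - i).val = r ^ i.val * (s * r ^ j.val)
        rw [← mul_assoc, hflip, mul_assoc, ← hpm, sub_eq_neg_add]
      · rw [DihedralGroup.sr_mul_r]
        change s * r ^ (i + j).val = s * r ^ i.val * r ^ j.val
        rw [hpm, mul_assoc]
      · rw [DihedralGroup.sr_mul_sr]
        change r ^ (j - i).val = s * r ^ i.val * (s * r ^ j.val)
        rw [show s * r ^ i.val * (s * r ^ j.val) = s * (r ^ i.val * s) * r ^ j.val by group, hflip,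
          show s * (s * r ^ (-i).val) = (s * s) * r ^ (-i).val by group, hs2, one_mul, ← hpm,
          sub_eq_neg_add])
  have hf : Function.Injective f := by
    rw [← MonoidHom.ker_eq_bot_iff, Subgroup.eq_bot_iff_forall]
    rintro (i | i) hx
    · change r ^ i.val = 1 at hx
      rw [← orderOf_dvd_iff_pow_eq_one, hrord] at hx
      have : i.val = 0 := Nat.eq_zero_of_dvd_of_lt hx (ZMod.val_lt i)
      rw [(ZMod.val_eq_zero i).1 this]
      exact DihedralGroup.r_zero
    · change s * r ^ i.val = 1 at hx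
      exact absurd (mul_eq_one_iff_eq_inv.1 hx ▸ R.inv_mem (R.pow_mem (Subgroup.mem_zpowers r) _)) hsR
  refine (MulEquiv.ofBijective f (hf.bijective_of_nat_card_le ?_)).symm
  rw [DihedralGroup.nat_card, ← PermBasic.card_mul_card_stabilizer (G := G) a, hΩq, ← hAdef,
    ← hinf, mul_comm]


end Cfsg.Agent.S3684
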