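import Cfsg.Statements.S3688
import Cfsg.Agent.Lib.ComponentsThompsonWielandt

set_option autoImplicit false
open Cfsg

namespace Cfsg.Agent.S3688

open Subgroup Cfsg.Agent.ComponentsThompsonWielandt Cfsg.Agent.ComponentsFitting Cfsg.Agent.ComponentsCores

theorem gen_eq_pCore_of_isPGroup {H : Type*} [Group H] [Finite H] {p : ℕ} (hp : p.Prime)
    (h : IsPGroup p (generalizedFittingSubgroup H)) :
    generalizedFittingSubgroup H = pCore p H :=
  le_antisymm (le_pCore' h) ((pCore_le_fitting hp).trans fitting_le_gen)

/-- Let a finite group G act faithfully and primitively on a set Ω, let a and b be points such that the orbit of b under the stabilizer H of a has length d ≥ 2, and suppose that H is not strongly constrained: for no prime p does the generalized Fitting subgroup of H coincide with the largest normal p-subgroup of H. Then the order of H divides d! · ((d - 1)!)^d. -/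
theorem result {G Ω : Type*} [Group G] [Finite G] [MulAction G Ω] [FaithfulSMul G Ω] [Finite Ω]
    (hprim : MulAction.IsPreprimitive G Ω) (a b : Ω) (d : ℕ) (hd : Nat.card (MulAction.orbit (MulAction.stabilizer G a) b) = d) (h2 : 2 ≤ d)
    (hnc : ∀ p : ℕ, p.Prime → Cfsg.generalizedFittingSubgroup (MulAction.stabilizer G a) ≠ Cfsg.pCore p (MulAction.stabilizer G a)) :
    Nat.card (MulAction.stabilizer G a) ∣ Nat.factorial d * (Nat.factorial (d - 1)) ^ d := by
  haveI : MulAction.IsPretransitive G Ω := hprim.toIsPretransitive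
  haveI := hprim
  set M₁ := MulAction.stabilizer G a
  set M₂ := MulAction.stabilizer G b
  have hindex : (M₁ ⊓ M₂).relIndex M₁ = d := by
    have e : (M₁ ⊓ M₂).subgroupOf M₁ = MulAction.stabilizer M₁ b := by
      ext x
      exact ⟨fun hx => (mem_subgroupOf.mp hx).2, fun hx => mem_subgroupOf.mpr ⟨x.2, hx⟩⟩
    rw [← hd, relIndex, e, MulAction.index_stabilizer]
    rfl
  have hne : M₁ ≠ M₂ := by
    intro h
    rw [← h, inf_idem, relIndex_self] at hindex
    omega
  haveI : Nontrivial Ω := ⟨⟨a, b, fun h => hne (by rw [show M₂ = MulAction.stabilizer G a from h ▸ rfl])⟩⟩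
  obtain ⟨g, hg⟩ := MulAction.exists_smul_eq G a b
  have hconj : M₂ = M₁.map (MulAut.conj g).toMonoidHom := by
    show MulAction.stabilizer G b = _
    rw [← hg]
    exact MulAction.stabilizer_smul_eq_stabilizer_map_conj g a
  have hcore : ∀ c : Ω, (MulAction.stabilizer G c).normalCore = ⊥ := by
    intro c
    rw [eq_bot_iff]
    intro x hx
    refine mem_bot.mpr (eq_of_smul_eq_smul fun y : Ω => ?_)
    obtain ⟨k, rfl⟩ := MulAction.exists_smul_eq G c y
    have := MulAction.mem_stabilizer_iff.mp (hx k⁻¹)
    rw [inv_inv, mul_smul, mul_smul, inv_smul_eq_iff] at this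
    rw [one_smul, this]
  have hM := fun c : Ω => (MulAction.IsPreprimitive.isCoatom_stabilizer_of_isPreprimitive (G := G) c)
  by_contra hnd
  obtain ⟨p, hp, h1, -⟩ := isPGroup_gen (ctrl_of_isCoatom_core (hM a) (hcore a) M₂)
    (ctrl_of_isCoatom_core (hM b) (hcore b) M₁) hne
    (fun h => hnd (card_dvd_of_conj hconj hindex (.inl h)))
    (fun h => hnd (card_dvd_of_conj hconj hindex (.inr h)))
  exact hnc p hp (gen_eq_pCore_of_isPGroup hp h1)

end Cfsg.Agent.S3688
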