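import Cfsg.Statements.S3693
import Cfsg.Agent.Lib.ComponentsThompsonWielandt

set_option autoImplicit false
open Cfsg

namespace Cfsg.Agent.S3693

open Subgroup Cfsg.Agent.ComponentsThompsonWielandt Cfsg.Agent.ComponentsFitting Cfsg.Agent.ComponentsCores
open Cfsg.Agent.ComponentsBender (core Ctrl)

/-- Let a finite group G act faithfully and primitively on a set Ω, let a and b be points such that the orbit Δ of b under the stabilizer H of a has length d ≥ 2, and consider the permutation group induced on Δ by the elements of H fixing b. If that induced group has trivial Fitting subgroup (no non-trivial nilpotent normal subgroup), then the two-point stabilizer of a and b has trivial Fitting subgroup and the order of H divides d! · ((d - 1)!)^d. -/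
theorem result {G Ω : Type*} [Group G] [Finite G] [MulAction G Ω] [FaithfulSMul G Ω] [Finite Ω]
    (hprim : MulAction.IsPreprimitive G Ω) (a b : Ω) (d : ℕ) (hd : Nat.card (MulAction.orbit (MulAction.stabilizer G a) b) = d) (h2 : 2 ≤ d)
    (hF : Cfsg.fittingSubgroup ↥(((MulAction.stabilizer G b).subgroupOf (MulAction.stabilizer G a)).map (MulAction.toPermHom (MulAction.stabilizer G a) (MulAction.orbit (MulAction.stabilizer G a) b))) = ⊥) :
    Cfsg.fittingSubgroup ↥(MulAction.stabilizer G a ⊓ MulAction.stabilizer G b) = ⊥ ∧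
      Nat.card (MulAction.stabilizer G a) ∣ Nat.factorial d * (Nat.factorial (d - 1)) ^ d := by
  haveI : MulAction.IsPretransitive G Ω := hprim.toIsPretransitive
  haveI := hprim
  set M₁ := MulAction.stabilizer G a
  set M₂ := MulAction.stabilizer G b
  set S := M₂.subgroupOf M₁
  have e : (M₁ ⊓ M₂).subgroupOf M₁ = MulAction.stabilizer M₁ b := by
    ext x
    exact ⟨fun hx => (mem_subgroupOf.mp hx).2, fun hx => mem_subgroupOf.mpr ⟨x.2, hx⟩⟩
  have hindex : (M₁ ⊓ M₂).relIndex M₁ = d := by
    rw [← hd, relIndex, e, MulAction.index_stabilizer]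
    rfl
  have hne : M₁ ≠ M₂ := by
    intro h
    rw [← h, inf_idem, relIndex_self] at hindex
    omega
  haveI : Nontrivial Ω := ⟨⟨a, b, fun h => hne (by rw [show M₂ = MulAction.stabilizer G a from h ▸ rfl])⟩⟩
  obtain ⟨g, hg⟩ := MulAction.exists_smul_eq G a b
  have hconj : M₂ = M₁.map (MulAut.conj g).toMonoidHom := by
    show MulAction.stabilizer G b = _
    rw [← hg]
    exact MulAction.stabilizer_smul_eq_stabilizer_map_conj g a
  have hcore : ∀ c : Ω, (MulAction.stabilizer G c).normalCore = ⊥ := by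
    intro c
    rw [eq_bot_iff]
    intro x hx
    refine mem_bot.mpr (eq_of_smul_eq_smul fun y : Ω => ?_)
    obtain ⟨k, rfl⟩ := MulAction.exists_smul_eq G c y
    have := MulAction.mem_stabilizer_iff.mp (hx k⁻¹)
    rw [inv_inv, mul_smul, mul_smul, inv_smul_eq_iff] at this
    rw [one_smul, this]
  have hM := fun c : Ω =>
    (MulAction.IsPreprimitive.isCoatom_stabilizer_of_isPreprimitive (G := G) c)
  have hc1 : Ctrl M₁ M₂ := ctrl_of_isCoatom_core (hM a) (hcore a) M₂
  have hc2 : Ctrl M₂ M₁ := ctrl_of_isCoatom_core (hM b) (hcore b) M₁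
  set φ := MulAction.toPermHom M₁ (MulAction.orbit M₁ b)
  have hle : ∀ p : ℕ, p.Prime → core p (M₁ ⊓ M₂) ≤ cor M₁ (M₁ ⊓ M₂) := by
    intro p hp
    haveI := Fact.mk hp
    set P := core p (M₁ ⊓ M₂)
    have hPM : P ≤ M₁ := (map_subtype_le _).trans inf_le_left
    have hPS : P.subgroupOf M₁ ≤ S := fun x hx =>
      mem_subgroupOf.mpr ((map_subtype_le _ (mem_subgroupOf.mp hx) : (x : G) ∈ M₁ ⊓ M₂)).2
    have hSn : S.map φ ≤ normalizer ((P.subgroupOf M₁).map φ : Set _) := by
      refine le_trans (map_mono ?_) (le_normalizer_map φ)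
      intro x hx
      rw [mem_normalizer_iff]
      intro y
      exact mem_normalizer_iff.mp
        (ComponentsBender.le_normalizer_map_normal (M₁ ⊓ M₂) _ ⟨x.2, mem_subgroupOf.mp hx⟩) y
    haveI : (((P.subgroupOf M₁).map φ).subgroupOf (S.map φ)).Normal :=
      normal_subgroupOf_of_le_normalizer hSn
    have hp1 : IsPGroup p ↥(((P.subgroupOf M₁).map φ).subgroupOf (S.map φ)) :=
      ((((ComponentsBender.isPGroup_core p).of_equiv (subgroupOfEquivOfLe hPM).symm).map φ)).of_equiv
        (subgroupOfEquivOfLe (map_mono hPS)).symm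
    have h0 : (P.subgroupOf M₁).map φ = ⊥ := by
      rw [← map_subgroupOf_eq_of_le (map_mono hPS), eq_bot_iff]
      refine (map_mono ((le_pCore' hp1).trans (pCore_le_fitting hp))).trans ?_
      rw [hF, Subgroup.map_bot]
    have hker := Subgroup.map_eq_bot_iff _ |>.mp h0
    intro x hx
    have hxk : (⟨x, hPM hx⟩ : M₁) ∈ φ.ker := hker (mem_subgroupOf.mpr hx)
    refine ⟨⟨x, hPM hx⟩, ?_, rfl⟩
    intro m
    rw [e, MulAction.mem_stabilizer_iff, mul_smul, mul_smul]
    have h1 : (⟨x, hPM hx⟩ : M₁) • (⟨m⁻¹ • b, MulAction.mem_orbit b m⁻¹⟩ : MulAction.orbit M₁ b) =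
        ⟨m⁻¹ • b, MulAction.mem_orbit b m⁻¹⟩ :=
      Equiv.congr_fun (MonoidHom.mem_ker.mp hxk) _
    have h2 : (⟨x, hPM hx⟩ : M₁) • (m⁻¹ • b) = m⁻¹ • b := congrArg Subtype.val h1
    rw [h2, smul_inv_smul]
  have hfit : fittingSubgroup ↥(M₁ ⊓ M₂) = ⊥ := by
    rw [fittingSubgroup_eq_iSup, eq_bot_iff]
    refine iSup_le fun q => ?_
    have hq := Nat.prime_of_mem_primeFactors q.2
    haveI := Fact.mk hq
    exact ((map_eq_bot_iff_of_injective _ (M₁ ⊓ M₂).subtype_injective).mp
      (core_inf_eq_bot hc1 hc2 hne hconj (hle q hq))).le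
  refine ⟨hfit, ?_⟩
  by_contra hnd
  have hA2 := fun h => hnd (card_dvd_of_conj hconj hindex (.inl h))
  have hB2 := fun h => hnd (card_dvd_of_conj hconj hindex (.inr h))
  obtain ⟨p, hp, h1, -⟩ := isPGroup_gen hc1 hc2 hne hA2 hB2
  haveI := Fact.mk hp
  set A1 := cor M₁ (M₁ ⊓ M₂)
  set B1 := cor M₂ (M₁ ⊓ M₂)
  have hA1 : A1 ≠ ⊥ := fun h => hA2 (le_bot_iff.mp
    ((cor_le_right : cor M₁ (A1 ⊓ B1) ≤ _).trans (inf_le_left.trans h.le)))
  haveI : Nontrivial A1 := (nontrivial_iff_ne_bot A1).mpr hA1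
  haveI : (A1.subgroupOf M₁).Normal := normal_subgroupOf_of_le_normalizer le_normalizer_cor
  set X := ComponentsBender.fs A1
  have hXp : IsPGroup p X := by
    have hsub := gen_map_subtype_le (Normal.isSubnormal inferInstance : (A1.subgroupOf M₁).IsSubnormal)
    have h2 := h1.to_le hsub
    let e : ↥(A1.subgroupOf M₁) ≃* A1 := subgroupOfEquivOfLe cor_le_left
    have h3 : IsPGroup p ↥(generalizedFittingSubgroup (A1.subgroupOf M₁)) :=
      h2.of_equiv ((generalizedFittingSubgroup (A1.subgroupOf M₁)).equivMapOfInjective _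
        (A1.subgroupOf M₁).subtype_injective).symm
    have h4 := h3.map e.toMonoidHom
    rw [gen_map_mulEquiv] at h4
    exact h4.map _
  have hX : X ≤ core p (M₁ ⊓ M₂) :=
    le_core_of_normalized ((map_subtype_le _).trans cor_le_right) hXp
      ((inf_le_left.trans le_normalizer_cor).trans (normalizer_le_normalizer_map_subtype A1 _))
  rw [core_inf_eq_bot hc1 hc2 hne hconj (hle p hp), le_bot_iff] at hX
  exact gen_ne_bot ((map_eq_bot_iff_of_injective _ A1.subtype_injective).mp hX)

end Cfsg.Agent.S3693
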