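import Mathlib
import Cfsg.Statements.S3696

namespace Cfsg.Agent.S3696

set_option autoImplicit false
open Cfsg MulAction

lemma amgm {ι : Type*} (s : Finset ι) (d n : ι → ℕ) (hd : ∀ i ∈ s, 0 < d i) :
    (∏ i ∈ s, n i ^ d i) * (∑ i ∈ s, d i) ^ (∑ i ∈ s, d i) ≤
      (∏ i ∈ s, d i ^ d i) * (∑ i ∈ s, n i) ^ (∑ i ∈ s, d i) := by
  by_cases hs : s = ∅
  · simp [hs]
  have hk : 0 < ∑ i ∈ s, d i :=
    Finset.sum_pos hd (Finset.nonempty_iff_ne_empty.mpr hs)
  set k := ∑ i ∈ s, d i
  have hkR : (0 : ℝ) < k := by exact_mod_cast hk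
  have key := Real.geom_mean_le_arith_mean s (fun i => (d i : ℝ)) (fun i => (n i : ℝ) / d i)
    (fun i _ => Nat.cast_nonneg _) (by rw [← Nat.cast_sum]; exact hkR)
    (fun i _ => div_nonneg (Nat.cast_nonneg _) (Nat.cast_nonneg _))
  have hP : (0 : ℝ) ≤ ∏ i ∈ s, ((n i : ℝ) / d i) ^ (d i : ℝ) :=
    Finset.prod_nonneg fun i _ => Real.rpow_nonneg (div_nonneg (Nat.cast_nonneg _) (Nat.cast_nonneg _)) _
  have key' := pow_le_pow_left₀ (Real.rpow_nonneg hP _) key k
  rw [← Nat.cast_sum, Real.rpow_inv_natCast_pow hP hk.ne'] at key'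
  simp only [Real.rpow_natCast, div_pow, Finset.prod_div_distrib] at key'
  have hsum : ∑ i ∈ s, (d i : ℝ) * ((n i : ℝ) / d i) = ∑ i ∈ s, (n i : ℝ) :=
    Finset.sum_congr rfl fun i hi => by
      have : (d i : ℝ) ≠ 0 := Nat.cast_ne_zero.mpr (hd i hi).ne'
      field_simp
  rw [hsum, div_le_div_iff₀ (Finset.prod_pos fun i hi => pow_pos (by exact_mod_cast hd i hi) _)
    (pow_pos hkR _)] at key'
  rw [mul_comm ((∏ i ∈ s, d i ^ d i))]
  exact_mod_cast key'

lemma two_pow_ge (d : ℕ) : d ≤ 2 ^ (d - 1) := by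
  cases d with
  | zero => simp
  | succ d => simpa using Nat.lt_two_pow_self

lemma mul_pow_le {p d m : ℕ} (hp : 2 ≤ p) (hd : 1 ≤ d) (hm : p ^ d ≤ m) : m * d ^ d ≤ m ^ d := by
  have h1 : d ^ d ≤ m ^ (d - 1) :=
    calc d ^ d ≤ (2 ^ (d - 1)) ^ d := Nat.pow_le_pow_left (two_pow_ge d) d
      _ = (2 ^ d) ^ (d - 1) := by rw [← pow_mul, ← pow_mul, mul_comm]
      _ ≤ m ^ (d - 1) := Nat.pow_le_pow_left ((Nat.pow_le_pow_left hp d).trans hm) _
  calc m * d ^ d ≤ m * m ^ (d - 1) := Nat.mul_le_mul_left m h1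
    _ = m ^ (d - 1 + 1) := (pow_succ' m (d - 1)).symm
    _ = m ^ d := by rw [Nat.sub_add_cancel hd]

variable {A Ω : Type*} [CommGroup A] [MulAction A Ω]

lemma stab_orbit_eq {a b : Ω} (h : b ∈ orbit A a) : stabilizer A b = stabilizer A a := by
  obtain ⟨g, rfl⟩ := h
  ext x
  simp only [mem_stabilizer_iff]
  rw [← mul_smul, mul_comm, mul_smul, smul_left_cancel_iff]

lemma select [Finite A] [Finite Ω] [FaithfulSMul A Ω] {p : ℕ} (hp : p.Prime) (hA : IsPGroup p A) :
    ∀ (c : ℕ) (U : Subgroup A), Nat.card U ≤ c → ∃ (s : Finset Ω) (d : Ω → ℕ),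
      (∀ a ∈ s, ¬ U ≤ stabilizer A a) ∧
      (∀ a ∈ s, ∀ b ∈ s, b ∈ orbit A a → a = b) ∧
      (∀ u ∈ U, (∀ a ∈ s, u • a = a) → u = 1) ∧
      (∀ a ∈ s, 0 < d a ∧ p ^ d a ≤ Nat.card (orbit A a)) ∧
      p ^ (∑ a ∈ s, d a) = Nat.card U := by
  intro c
  induction c with
  | zero => intro U hU; have := Nat.card_pos (α := U); omega
  | succ c ih =>
    intro U hU
    classical
    by_cases hU1 : U = ⊥
    · exact ⟨∅, fun _ => 1, by simp, by simp, by simp [hU1], by simp, by simp [hU1]⟩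
    obtain ⟨u, huU, hu1⟩ := U.bot_or_exists_ne_one.resolve_left hU1
    obtain ⟨a, ha⟩ : ∃ a : Ω, u • a ≠ a := by
      by_contra h
      push Not at h
      exact hu1 (eq_of_smul_eq_smul (α := Ω) fun x => by rw [h x, one_smul])
    set U' := U ⊓ stabilizer A a
    have hlt : Nat.card U' < Nat.card U := by
      refine lt_of_le_of_ne (Subgroup.card_le_of_le inf_le_left) fun h => ha ?_
      exact (inf_eq_left.mp (Subgroup.eq_of_le_of_card_ge inf_le_left h.ge) : U ≤ _) huU
    obtain ⟨s, d, h1, h2, h3, h4, h5⟩ := ih U' (by omega)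
    have hnot : ∀ b ∈ s, b ∉ orbit A a := fun b hb hab => h1 b hb (by
      rw [stab_orbit_eq hab]; exact inf_le_right)
    have has : a ∉ s := fun h => hnot a h (mem_orbit_self a)
    have hos : Nat.card U = Nat.card (orbit U a) * Nat.card U' := by
      rw [← Nat.card_congr (orbitProdStabilizerEquivGroup U a), Nat.card_prod]
      congr 1
      refine (Nat.card_congr ?_)
      exact
        { toFun := fun x => ⟨(x : U), (x : U).2, x.2⟩
          invFun := fun x => ⟨⟨(x : A), x.2.1⟩, x.2.2⟩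
          left_inv := fun x => rfl
          right_inv := fun x => rfl }
    have : Fact p.Prime := ⟨hp⟩
    obtain ⟨e, he⟩ := (hA.to_subgroup U).card_orbit a
    have he0 : 0 < e := by
      by_contra h
      have he' : e = 0 := by omega
      rw [he', pow_zero] at he
      rw [he, one_mul] at hos
      omega
    have hle : Nat.card (orbit U a) ≤ Nat.card (orbit A a) := by
      refine Nat.card_mono (Set.toFinite _) ?_
      rintro x ⟨g, rfl⟩
      exact ⟨(g : A), rfl⟩
    refine ⟨insert a s, Function.update d a e, ?_, ?_, ?_, ?_, ?_⟩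
    · intro b hb
      rcases Finset.mem_insert.mp hb with rfl | hb
      · exact fun h => ha (h huU)
      · exact fun h => h1 b hb (inf_le_left.trans h)
    · intro x hx y hy hxy
      rcases Finset.mem_insert.mp hx with hxa | hx' <;> rcases Finset.mem_insert.mp hy with hya | hy'
      · rw [hxa, hya]
      · subst hxa; exact absurd hxy (hnot y hy')
      · subst hya; exact absurd (mem_orbit_symm.mp hxy) (hnot x hx')
      · exact h2 x hx' y hy' hxy
    · intro v hv hfix
      exact h3 v ⟨hv, hfix a (Finset.mem_insert_self a s)⟩ fun b hb =>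
        hfix b (Finset.mem_insert_of_mem hb)
    · intro b hb
      rcases Finset.mem_insert.mp hb with rfl | hb
      · rw [Function.update_self]; exact ⟨he0, he ▸ hle⟩
      · rw [Function.update_of_ne (fun h => has (by rw [← h]; exact hb))]; exact h4 b hb
    · rw [Finset.sum_insert has, Function.update_self, pow_add, hos, he]
      congr 1
      rw [← h5]
      exact congrArg (p ^ ·) (Finset.sum_congr rfl fun b hb =>
        Function.update_of_ne (fun h => has (by rw [← h]; exact hb)) _ _)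

theorem result {Ω : Type*} [Fintype Ω] [DecidableEq Ω]
    (p : ℕ) (hp : p.Prime) (hn : p ≤ Fintype.card Ω) (A : Subgroup (Equiv.Perm Ω)) (hA : IsPGroup p A) (hab : IsMulCommutative A)
    (k : ℕ) (hk : Nat.card {x : A // x ^ p = 1} = p ^ k) :
    Nat.card A * k ^ k ≤ Fintype.card Ω ^ k := by
  classical
  letI : CommGroup A := { (inferInstance : Group A) with mul_comm := hab.is_comm.comm }
  have : Fact p.Prime := ⟨hp⟩
  have : FaithfulSMul A Ω := ⟨fun {a b} h => Subtype.ext (Equiv.Perm.ext h)⟩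
  let V : Subgroup A :=
    { carrier := {x | x ^ p = 1}
      mul_mem' := fun {a b} ha hb => by
        show (a * b) ^ p = 1
        rw [mul_pow, show a ^ p = 1 from ha, show b ^ p = 1 from hb, one_mul]
      one_mem' := one_pow p
      inv_mem' := fun {a} ha => by
        show a⁻¹ ^ p = 1
        rw [inv_pow, show a ^ p = 1 from ha, inv_one] }
  obtain ⟨s, d, -, h2, h3, h4, h5⟩ := select (Ω := Ω) hp hA (Nat.card V) V le_rfl
  have hsum : ∑ a ∈ s, d a = k := Nat.pow_right_injective hp.two_le (h5.trans hk)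
  have hinj : Function.Injective (fun (g : A) (a : s) => (⟨g • (a : Ω), ⟨g, rfl⟩⟩ : orbit A (a : Ω))) := by
    intro g h hgh
    by_contra hne
    have hx : g⁻¹ * h ≠ 1 := fun e => hne (inv_mul_eq_one.mp e)
    obtain ⟨e, he⟩ := (IsPGroup.iff_orderOf.mp hA) (g⁻¹ * h)
    have he0 : 0 < e := Nat.pos_of_ne_zero fun h0 => hx (orderOf_eq_one_iff.mp (by rw [he, h0, pow_zero]))
    have hy : orderOf ((g⁻¹ * h) ^ p ^ (e - 1)) = p := by
      rw [orderOf_pow_of_dvd (pow_ne_zero _ hp.ne_zero) (by rw [he]; exact pow_dvd_pow p (by omega)),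
        he, Nat.pow_div (by omega) hp.pos, show e - (e - 1) = 1 by omega, pow_one]
    have h0 : (g⁻¹ * h) ^ p ^ (e - 1) = 1 := by
      refine h3 _ (orderOf_dvd_iff_pow_eq_one.mp hy.dvd) fun a ha => ?_
      have hga : (g⁻¹ * h) ∈ stabilizer A a := by
        rw [mem_stabilizer_iff, mul_smul, inv_smul_eq_iff]
        exact (congrArg Subtype.val (congrFun hgh ⟨a, ha⟩)).symm
      exact pow_mem hga _
    rw [h0, orderOf_one] at hy
    exact hp.ne_one hy.symm
  have hcard : Nat.card A ≤ ∏ a ∈ s, Nat.card (orbit A a) := by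
    refine (Nat.card_le_card_of_injective _ hinj).trans (le_of_eq ?_)
    rw [Nat.card_pi]
    exact Finset.prod_coe_sort s fun a => Nat.card (orbit A a)
  have hpts : ∑ a ∈ s, Nat.card (orbit A a) ≤ Fintype.card Ω := by
    rw [← Finset.sum_coe_sort s fun a => Nat.card (orbit A a), ← Nat.card_sigma, ← Nat.card_eq_fintype_card (α := Ω)]
    refine Nat.card_le_card_of_injective (fun x => (x.2 : Ω)) ?_
    rintro ⟨⟨a, ha⟩, u⟩ ⟨⟨b, hb⟩, v⟩ huv
    have hab' : b ∈ orbit A a := by
      have h1 : orbit A (u : Ω) = orbit A a := orbit_eq_iff.mpr u.2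
      have h2 : orbit A (v : Ω) = orbit A b := orbit_eq_iff.mpr v.2
      rw [← h1, show (u : Ω) = (v : Ω) from huv, h2]
      exact mem_orbit_self b
    obtain rfl := h2 a ha b hb hab'
    simp only [Sigma.mk.injEq, true_and, heq_eq_eq]
    exact Subtype.ext huv
  have hpos : 0 < ∏ a ∈ s, d a ^ d a := Finset.prod_pos fun a ha => pow_pos (h4 a ha).1 _
  refine Nat.le_of_mul_le_mul_left ?_ hpos
  calc (∏ a ∈ s, d a ^ d a) * (Nat.card A * k ^ k)
      ≤ (∏ a ∈ s, d a ^ d a) * ((∏ a ∈ s, Nat.card (orbit A a)) * k ^ k) := by gcongr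
    _ = (∏ a ∈ s, Nat.card (orbit A a) * d a ^ d a) * k ^ k := by
        rw [Finset.prod_mul_distrib]; ring
    _ ≤ (∏ a ∈ s, Nat.card (orbit A a) ^ d a) * k ^ k := by
        gcongr with a ha
        exact mul_pow_le hp.two_le (h4 a ha).1 (h4 a ha).2
    _ ≤ (∏ a ∈ s, d a ^ d a) * (∑ a ∈ s, Nat.card (orbit A a)) ^ k := by
        rw [← hsum]; exact amgm s d _ fun a ha => (h4 a ha).1
    _ ≤ _ := by gcongr

end Cfsg.Agent.S3696
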