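import Mathlib
import Cfsg.Statements.S3701
import Cfsg.Agent.Lib.ExcChar68
import Cfsg.Agent.Lib.Model108
import Cfsg.Agent.Lib.Coherence108
import Cfsg.Agent.Lib.Alg108
import Cfsg.Agent.Lib.CoprimeGen
import Cfsg.Agent.Lib.CharBasicLinear

namespace Cfsg.Agent.S3701

set_option autoImplicit false
open Cfsg
open scoped ComplexConjugate
open Cfsg.Agent.Model108 Cfsg.Agent.ExcChar68

/-! ### The model is the given permutation group -/

/-- The affine action on three lines. -/
def act (m : Md) (x : Fin 3 × ZMod 3) : Fin 3 × ZMod 3 := (x.1, vc x.1 m + sgn (sc x.1 m) * x.2)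

lemma act_one (x : Fin 3 × ZMod 3) : act 1 x = x := by
  obtain ⟨i, r⟩ := x
  fin_cases i <;> simp [act, vc, sc, sgn, Md.one_def]

lemma act_mul (m n : Md) (x : Fin 3 × ZMod 3) : act (m * n) x = act m (act n x) := by
  simp only [act, vc_mul, sc_mul, sgn_xor, Prod.mk.injEq, true_and]
  ring

instance instMulActionMd : MulAction Md (Fin 3 × ZMod 3) where
  smul := act
  one_smul := act_one
  mul_smul := act_mul

/-- The embedding in the symmetric group. -/
def toS9 : Md →* Equiv.Perm (Fin 9) :=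
  (Equiv.permCongrHom (finProdFinEquiv : Fin 3 × Fin 3 ≃ Fin 9)).toMonoidHom.comp
    (MulAction.toPermHom Md (Fin 3 × ZMod 3))

lemma toS9_injective : Function.Injective toS9 := by
  rw [injective_iff_map_eq_one]
  decide +kernel

/-- The generators in the statement. -/
def gens : Set (Equiv.Perm (Fin 9)) :=
  {Equiv.swap (0 : Fin 9) 1 * Equiv.swap 1 2, Equiv.swap (3 : Fin 9) 4 * Equiv.swap 4 5, Equiv.swap (6 : Fin 9) 7 * Equiv.swap 7 8,
    Equiv.swap (0 : Fin 9) 1 * Equiv.swap 3 4, Equiv.swap (0 : Fin 9) 1 * Equiv.swap 6 7}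

def m0 : Md := ⟨1, 0, 0, false, false⟩
def m1 : Md := ⟨0, 1, 0, false, false⟩
def m2 : Md := ⟨0, 0, 1, false, false⟩
def m3 : Md := ⟨1, 1, 0, true, false⟩
def m4 : Md := ⟨1, 0, 1, false, true⟩

lemma toS9_gen :
    toS9 m0 = Equiv.swap (0 : Fin 9) 1 * Equiv.swap 1 2 ∧
    toS9 m1 = Equiv.swap (3 : Fin 9) 4 * Equiv.swap 4 5 ∧
    toS9 m2 = Equiv.swap (6 : Fin 9) 7 * Equiv.swap 7 8 ∧
    toS9 m3 = Equiv.swap (0 : Fin 9) 1 * Equiv.swap 3 4 ∧
    toS9 m4 = Equiv.swap (0 : Fin 9) 1 * Equiv.swap 6 7 := by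
  decide +kernel

lemma generated : ∀ m : Md, m = m0 ^ m.a.val * m1 ^ m.b.val * m2 ^ m.c.val *
    (m0⁻¹ * m1⁻¹ * m3) ^ (if m.p then 1 else 0) * (m0⁻¹ * m2⁻¹ * m4) ^ (if m.q then 1 else 0) := by
  decide +kernel

lemma range_toS9 : toS9.range = Subgroup.closure gens := by
  obtain ⟨h0, h1, h2, h3, h4⟩ := toS9_gen
  apply le_antisymm
  · rintro _ ⟨m, rfl⟩
    have g : ∀ x ∈ gens, x ∈ Subgroup.closure gens := fun x hx => Subgroup.subset_closure hx
    have i0 : toS9 m0 ∈ Subgroup.closure gens := g _ (by rw [h0]; simp [gens])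
    have i1 : toS9 m1 ∈ Subgroup.closure gens := g _ (by rw [h1]; simp [gens])
    have i2 : toS9 m2 ∈ Subgroup.closure gens := g _ (by rw [h2]; simp [gens])
    have i3 : toS9 m3 ∈ Subgroup.closure gens := g _ (by rw [h3]; simp [gens])
    have i4 : toS9 m4 ∈ Subgroup.closure gens := g _ (by rw [h4]; simp [gens])
    rw [generated m]
    simp only [map_mul, map_pow, map_inv]
    exact mul_mem (mul_mem (mul_mem (mul_mem (pow_mem i0 _) (pow_mem i1 _)) (pow_mem i2 _))
      (pow_mem (mul_mem (mul_mem (inv_mem i0) (inv_mem i1)) i3) _))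
      (pow_mem (mul_mem (mul_mem (inv_mem i0) (inv_mem i2)) i4) _)
  · rw [Subgroup.closure_le]
    intro x hx
    simp only [gens, Set.mem_insert_iff, Set.mem_singleton_iff] at hx
    rcases hx with rfl | rfl | rfl | rfl | rfl
    exacts [⟨m0, h0⟩, ⟨m1, h1⟩, ⟨m2, h2⟩, ⟨m3, h3⟩, ⟨m4, h4⟩]

/-! ### Facts in the model -/

/-- Translations. -/
def IsTr (m : Md) : Prop := m.p = false ∧ m.q = false

instance instDecTr : DecidablePred IsTr := fun m => inferInstanceAs (Decidable (_ ∧ _))

lemma sq_D : ∀ m : Md, m * m ≠ 1 → IsTr (m * m * (m * m)) ∧ m * m * (m * m) ≠ 1 := by decide +kernel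

lemma pow27 : ∀ m : Md, m ^ 27 = 1 → IsTr m := by decide +kernel

lemma tr_pow27 : ∀ m : Md, IsTr m → m ^ 27 = 1 := by decide +kernel

lemma tr_comm : ∀ m : Md, IsTr m → ∀ n : Md, IsTr n → m * n = n * m := by decide +kernel

lemma tr_card : (Finset.univ.filter IsTr).card = 27 := by decide +kernel

lemma D_inv : ∀ d : Md, d * d ≠ 1 → d⁻¹ * d⁻¹ ≠ 1 := by decide +kernel

lemma invol_class : ∀ m : Md, m * m = 1 → m = 1 ∨
    ∃ i : Fin 3, m.p = (inv3 i).p ∧ m.q = (inv3 i).q ∧ ∃ g : Md, g * inv3 i * g⁻¹ = m := by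
  decide +kernel

lemma invol_class' : ∀ i : Fin 3, ∀ m : Md, m * m = 1 → m.p = (inv3 i).p → m.q = (inv3 i).q →
    ∃ g : Md, g * inv3 i * g⁻¹ = m := by
  decide +kernel

lemma fin3_cover : ∀ i j k m : Fin 3, j ≠ k → j ≠ m → k ≠ m → i = j ∨ i = k ∨ i = m := by decide

lemma m1_sq_a : (m1 ^ 2).a = 0 := by decide +kernel

lemma m0_a_ne : (0 : ZMod 3) ≠ m0.a := by decide +kernel

lemma inv3_facts : ∀ i : Fin 3, inv3 i * inv3 i = 1 ∧ inv3 i ≠ 1 := by decide +kernel

lemma inv3_type : ∀ i k : Fin 3, (inv3 i).p = (inv3 k).p → (inv3 i).q = (inv3 k).q → i = k := by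
  decide +kernel

lemma two_D : ∀ m : Md, ∃ d e : Md, d * d ≠ 1 ∧ e * e ≠ 1 ∧ m = d * e := by decide +kernel

lemma lam_mul : ∀ i : Fin 4, ∀ m n : Md, lamE i (m * n) = emul (lamE i m) (lamE i n) := by
  intro i m n
  fin_cases i <;> simp only [lamE, sc_mul, emul] <;>
    first
    | rfl
    | (cases sc 0 m <;> cases sc 0 n <;> rfl)
    | (cases sc 1 m <;> cases sc 1 n <;> rfl)
    | (cases sc 2 m <;> cases sc 2 n <;> rfl)

lemma tr_of_lam : ∀ m : Md, lamE 1 m = (1, 0) → lamE 2 m = (1, 0) → IsTr m := by decide +kernel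

/-- Values at the representatives of the involution types. -/
def tab (c : Fin 15) (i : Fin 3) : ℤ :=
  match c with
  | 0 => 1
  | 1 => if i = 0 then 1 else -1
  | 2 => if i = 1 then 1 else -1
  | 3 => if i = 2 then 1 else -1
  | 4 => if i = 0 then 2 else 0
  | 5 => if i = 1 then 2 else 0
  | 6 => if i = 2 then 2 else 0
  | 7 => if i = 0 then -2 else 0
  | 8 => if i = 1 then -2 else 0
  | 9 => if i = 2 then -2 else 0
  | _ => 0

lemma tab_eq : ∀ c : Fin 15, ∀ i : Fin 3, chE c (inv3 i) = (tab c i, 0) := by decide +kernel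

/-! ### Inner products in the model -/

lemma inner_ch (c e : Fin 15) : Cfsg.classInner (ch c) (ch e) = if c = e then 1 else 0 := by
  have h := congrArg val (orth_E c e)
  rw [map_sum] at h
  simp only [val_mul, val_conj] at h
  rw [Cfsg.classInner]
  simp only [ch]
  rw [h, apply_ite val, val_int, map_zero, Nat.card_eq_fintype_card,
    show Fintype.card Md = 108 from rfl]
  split_ifs <;> norm_num

/-- The virtual characters. -/
noncomputable def phi (a : Fin 11) (m : Md) : ℂ := ∑ c, (A a c : ℂ) * ch c m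

lemma phi_vanish (a : Fin 11) (m : Md) (h : ¬ InD m) : phi a m = 0 := by
  have h' : m * m = 1 := not_not.mp h
  have := congrArg val (vanish_E m h' a)
  simp only [map_sum, val_mul, val_int, map_zero] at this
  exact this

lemma phi_eq (a : Fin 11) : phi a = ∑ c, (A a c : ℂ) • ch c := by
  funext m; simp [phi]

lemma isGen_phi (a : Fin 11) : Cfsg.IsGeneralizedCharacter Md (phi a) := by
  rw [phi_eq]
  exact CharBasicDecomp.isGeneralizedCharacter_sum _ _ fun c _ =>
    CharBasicDecomp.isGeneralizedCharacter_zsmul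
      (CharBasicDecomp.isGeneralizedCharacter_of_isCharacter (isCharacter_ch c)) _

lemma isClass_phi (a : Fin 11) : Cfsg.IsClassFunction Md (phi a) :=
  CharBasicDecomp.isClassFunction_of_isGeneralizedCharacter (isGen_phi a)

lemma inner_phi (a b : Fin 11) :
    Cfsg.classInner (phi a) (phi b) = ((∑ c, A a c * A b c : ℤ) : ℂ) := by
  rw [phi_eq, phi_eq, CharBasicOrth.classInner_sum_left]
  simp only [CharBasicOrth.classInner_sum_right, CharBasicOrth.classInner_smul_left,
    CharBasicOrth.classInner_smul_right, inner_ch, map_intCast]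
  push_cast
  refine Finset.sum_congr rfl fun c _ => ?_
  simp [mul_comm]

lemma ch_zero : ch 0 = fun _ => 1 := by
  funext m; simp [ch, chE, lamE, val_apply]

/-- The quantity on the right of the class equation. -/
noncomputable def FH (S : Fin 3 → Bool) (c : Fin 15) : ℂ :=
  (degInv c : ℂ) * ((∑ i, if S i then (tab c i : ℂ) else 0) ^ 2)

open scoped Classical in
/-- Number of pairs for a set of types. -/
noncomputable def total (S : Fin 3 → Bool) (d : Md) : ℕ :=
  ∑ i, ∑ k, if S i ∧ S k then pairCount i k d else 0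

lemma total_eq (S : Fin 3 → Bool) (d : Md) (hd : InD d) :
    (16 : ℂ) * (total S d : ℂ) = 3 * ∑ c, FH S c * conj (ch c d) := by
  classical
  have h : ∀ i k : Fin 3, (16 : ℂ) * (pairCount i k d : ℂ) =
      3 * ∑ c, (degInv c : ℂ) * (tab c i : ℂ) * (tab c k : ℂ) * conj (ch c d) := by
    intro i k
    have := congrArg val (count_E d hd i k)
    rw [val_int, val_mul, val_int, map_sum] at this
    simp only [val_mul, val_int, val_conj, tab_eq] at this
    push_cast at this
    rw [this]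
    simp only [ch, mul_assoc]
  have e1 : ∀ c, FH S c * conj (ch c d) = ∑ i, ∑ k, (if S i ∧ S k then
      (degInv c : ℂ) * (tab c i : ℂ) * (tab c k : ℂ) * conj (ch c d) else 0) := by
    intro c
    rw [FH, sq, Finset.sum_mul_sum, Finset.mul_sum, Finset.sum_mul]
    refine Finset.sum_congr rfl fun i _ => ?_
    rw [Finset.mul_sum, Finset.sum_mul]
    refine Finset.sum_congr rfl fun k _ => ?_
    by_cases hi : S i <;> by_cases hk : S k <;>
      simp only [hi, hk, if_true, if_false, Bool.false_eq_true, and_self, and_false, false_and,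
        and_true, true_and, mul_zero, zero_mul] <;> ring
  simp only [e1, total, Nat.cast_sum, Finset.mul_sum]
  rw [Finset.sum_comm (s := (Finset.univ : Finset (Fin 15)))]
  refine Finset.sum_congr rfl fun i _ => ?_
  rw [Finset.sum_comm]
  refine Finset.sum_congr rfl fun k _ => ?_
  by_cases hik : S i ∧ S k
  · simp only [hik, and_self, if_true]
    rw [h i k, Finset.mul_sum]
  · simp only [if_neg hik, Nat.cast_zero, mul_zero, Finset.sum_const_zero]

section main

variable {G : Type*} [Group G] [Fintype G] (ι : Md →* G)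

/-- Data produced by the exceptional character argument. -/
structure Exc where
  σ : Fin 15 → Cfsg.IrrCharacter G
  sg : Fin 15 → ℤ
  inj : Function.Injective σ
  sign : ∀ c, sg c * sg c = 1
  triv : (σ 0 : G → ℂ) = fun _ => 1
  sg0 : sg 0 = 1
  val : ∀ a, tau ι (phi a) = fun g => ∑ c, (A a c : ℂ) * ((sg c : ℂ) * (σ c : G → ℂ) g)

lemma exists_exc (hT : TISet ι InD) : Nonempty (Exc ι) := by
  classical
  have hgen := fun a => isGenChar_tau hT (isGen_phi a)
  choose V hV hVsum using fun a => CharBasicDecomp.exists_int_coeff (hgen a)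
  choose n hn0 hn using fun ψ : Cfsg.IrrCharacter G => CharBasic.isIrrCharacter_apply_one ψ.2
  have hgram : ∀ a b, Coherence108.dot (V a) (V b) = ∑ c, A a c * A b c := by
    intro a b
    have h := CharBasicOrth.classInner_eq_sum (φ := tau ι (phi b))
      (isClassFunction_tau (ι := ι) (phi a))
    rw [inner_tau hT (isClass_phi b) (phi_vanish a) (phi_vanish b), inner_phi] at h
    simp only [hV, map_intCast] at h
    rw [Coherence108.dot]
    exact_mod_cast h.symm
  have he : ∀ a, V a (CharBasicDecomp.trivIrr G) = A a 0 := by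
    intro a
    have h := hV a (CharBasicDecomp.trivIrr G)
    rw [show ((CharBasicDecomp.trivIrr G : Cfsg.IrrCharacter G) : G → ℂ) = fun _ => 1 from rfl,
      inner_tau_triv hT] at h
    have h2 : Cfsg.classInner (phi a) (fun _ => 1) = (A a 0 : ℂ) := by
      rw [← ch_zero, phi_eq, CharBasicOrth.classInner_sum_left]
      simp only [CharBasicOrth.classInner_smul_left, inner_ch, mul_ite, mul_one, mul_zero,
        Finset.sum_ite_eq', Finset.mem_univ, if_true]
    rw [h2] at h
    exact_mod_cast h.symm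
  have h0 : ∀ a, Coherence108.dot (V a) (fun ψ => (n ψ : ℤ)) = 0 := by
    intro a
    have h := congrFun (hVsum a) 1
    rw [tau_one hT (phi_vanish a), Finset.sum_apply] at h
    simp only [Pi.smul_apply, smul_eq_mul, hn] at h
    rw [Coherence108.dot]
    exact_mod_cast h.symm
  have hne : (n (CharBasicDecomp.trivIrr G) : ℤ) = 1 := by
    have := hn (CharBasicDecomp.trivIrr G)
    rw [show ((CharBasicDecomp.trivIrr G : Cfsg.IrrCharacter G) : G → ℂ) 1 = 1 from rfl] at this
    exact_mod_cast this.symm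
  obtain ⟨σ, sg, h1, h2, h3, h4, h5⟩ := Coherence108.coherence (CharBasicDecomp.trivIrr G)
    (fun ψ => (n ψ : ℤ)) hne (fun ψ => Int.natCast_pos.mpr (hn0 ψ)) V hgram he h0
  refine ⟨⟨σ, sg, h1, h2, by rw [h3]; rfl, h4, fun a => ?_⟩⟩
  rw [hVsum a]
  funext g
  simp only [Finset.sum_apply, Pi.smul_apply, smul_eq_mul, h5, Int.cast_sum, Int.cast_mul,
    Finset.sum_mul]
  rw [Finset.sum_comm]
  refine Finset.sum_congr rfl fun c _ => ?_
  rw [Finset.sum_eq_single (σ c) (fun ψ _ hψ => by simp [Ne.symm hψ]) (by simp)]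
  simp only [if_true]; ring

variable {ι}

lemma rigid_D (hT : TISet ι InD) (E : Exc ι) {d : Md} (hd : InD d) :
    (∀ c, (E.sg c : ℂ) * (E.σ c : G → ℂ) (ι d) = ch c d) ∧
      ∀ ψ : Cfsg.IrrCharacter G, (∀ c, E.σ c ≠ ψ) → (ψ : G → ℂ) (ι d) = 0 := by
  refine rigid ch E.σ E.sg E.inj E.sign (ι d) d ?_ ?_
  · rw [card_centralizer hT hd]
    have h := congrArg val (norm_E d hd)
    simp only [map_sum, val_mul, val_conj, val_int, Int.cast_natCast] at h
    simp only [ch]
    rw [h]
    congr 1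
    symm
    exact Nat.subtype_card _ fun x => by simp [Subgroup.mem_centralizer_singleton_iff]
  · set r : Fin 15 → ℂ := fun c => (E.sg c : ℂ) * (E.σ c : G → ℂ) (ι d) - ch c d with hr
    have hA : ∀ a, ∑ c, (A a c : ℂ) * r c = 0 := by
      intro a
      have h1 := congrFun (E.val a) (ι d)
      rw [tau_apply hT (isClass_phi a) (phi_vanish a) hd] at h1
      simp only [hr, mul_sub, Finset.sum_sub_distrib]
      rw [sub_eq_zero]
      exact h1.symm
    have g0 := hA 0; have g1 := hA 1; have g2 := hA 2; have g3 := hA 3; have g4 := hA 4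
    have g5 := hA 5; have g6 := hA 6; have g7 := hA 7; have g8 := hA 8; have g9 := hA 9
    have g10 := hA 10
    simp [A, Fin.sum_univ_succ] at g0 g1 g2 g3 g4 g5 g6 g7 g8 g9 g10
    have p : ∀ i, ∑ c, (B i c : ℂ) * conj (ch c d) = 0 := by
      intro i
      have h := congrArg val (perp_E d hd i)
      simp only [map_sum, val_mul, val_conj, val_int, map_zero] at h
      exact h
    have p0 := p 0; have p1 := p 1; have p2 := p 2; have p3 := p 3
    simp [B, Fin.sum_univ_succ] at p0 p1 p2 p3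
    show ∑ c, r c * conj (ch c d) = 0
    simp [Fin.sum_univ_succ]
    linear_combination r 0 * p0 + r 1 * p1 + r 2 * p2 + r 3 * p3 - conj (ch 4 d) * g0
      - conj (ch 5 d) * g1 - conj (ch 6 d) * g2 - conj (ch 7 d) * g3 - conj (ch 8 d) * g4
      - conj (ch 9 d) * g5
      - (conj (ch 10 d) + conj (ch 11 d) + conj (ch 12 d) + conj (ch 13 d) + conj (ch 14 d)) * g6
      + conj (ch 11 d) * g7 + conj (ch 12 d) * g8 + conj (ch 13 d) * g9 + conj (ch 14 d) * g10

/-- Signed value. -/
noncomputable def uval (E : Exc ι) (g : G) (c : Fin 15) : ℂ := (E.sg c : ℂ) * (E.σ c : G → ℂ) g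

lemma uval_zero (E : Exc ι) (g : G) : uval E g 0 = 1 := by
  simp [uval, E.triv, E.sg0]

lemma uval_one_ne (E : Exc ι) (c : Fin 15) : uval E 1 c ≠ 0 := by
  refine mul_ne_zero ?_ (CharBasic.isIrrCharacter_apply_one_ne_zero (E.σ c).2)
  intro h
  have := E.sign c
  rw [Int.cast_eq_zero.mp h] at this
  simp at this

lemma uval_rel (hT : TISet ι InD) (E : Exc ι) {g : G}
    (hg : ∀ x : G, ∀ d : Md, InD d → x⁻¹ * g * x ≠ ι d) (a : Fin 11) :
    ∑ c, (A a c : ℂ) * uval E g c = 0 := by
  have h := congrFun (E.val a) g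
  rw [tau_eq_zero hT (phi_vanish a) hg] at h
  exact h.symm

lemma hg_one (hT : TISet ι InD) (x : G) (d : Md) (hd : InD d) : x⁻¹ * 1 * x ≠ ι d := by
  intro e
  rw [mul_one, inv_mul_cancel] at e
  exact hT.ne_one d hd (hT.inj (by rw [← e, map_one]))

lemma hg_inv (hT : TISet ι InD) {g : G} (hg : g * g = 1) (x : G) (d : Md) (hd : InD d) :
    x⁻¹ * g * x ≠ ι d := by
  intro e
  refine hd (hT.inj ?_)
  rw [map_mul, ← e, map_one]
  calc x⁻¹ * g * x * (x⁻¹ * g * x) = x⁻¹ * (g * g) * x := by group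
    _ = 1 := by rw [hg, mul_one, inv_mul_cancel]

open scoped Classical in
/-- The types of involutions in the class of `x`. -/
noncomputable def types (ι : Md →* G) (x : G) (i : Fin 3) : Bool := decide (IsConj x (ι (inv3 i)))

lemma class_eq (hT : TISet ι InD) (E : Exc ι) (j : Fin 3) :
    ∃ κ : ℂ, κ ≠ 0 ∧ ∀ a, ∑ c, (A a c : ℂ) *
      (uval E (ι (inv3 j)) c * uval E (ι (inv3 j)) c / uval E 1 c) =
        (κ / 8) * ∑ c, (A a c : ℂ) * FH (types ι (ι (inv3 j))) c := by
  classical
  set x := ι (inv3 j) with hx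
  set S := types ι x
  have hxx : x * x = 1 := by rw [hx, ← map_mul, (inv3_facts j).1, map_one]
  set C : ℂ := (Nat.card (Subgroup.centralizer ({x} : Set G)) : ℂ) ^ 2 / (Nat.card G : ℂ) with hC
  have hC0 : C ≠ 0 := div_ne_zero (pow_ne_zero _ (Nat.cast_ne_zero.mpr Nat.card_pos.ne'))
    (Nat.cast_ne_zero.mpr Nat.card_pos.ne')
  refine ⟨8 * (3 / 16 * C), mul_ne_zero (by norm_num) (mul_ne_zero (by norm_num) hC0), fun a => ?_⟩
  -- the equation on the exceptional set
  have hD : ∀ d, InD d → ∑ c, (uval E x c * uval E x c / uval E 1 c - 3 / 16 * C * FH S c) *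
      conj (ch c d) = 0 := by
    intro d hd
    have hsum := class_sum x (ι d)
    rw [← Finset.sum_add_sum_compl (Finset.univ.image E.σ), Finset.sum_image fun p _ q _ h => E.inj h,
      Finset.sum_eq_zero (s := (Finset.univ.image E.σ)ᶜ) (fun ψ hψ => by
        rw [(rigid_D hT E hd).2 ψ (by simpa using hψ)]; simp), add_zero] at hsum
    have hterm : ∀ c, (E.σ c : G → ℂ) x * (E.σ c : G → ℂ) x * conj ((E.σ c : G → ℂ) (ι d)) /
        (E.σ c : G → ℂ) 1 = uval E x c * uval E x c / uval E 1 c * conj (ch c d) := by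
      intro c
      rw [← (rigid_D hT E hd).1 c]
      rcases mul_self_eq_one_iff.mp (E.sign c) with e | e <;>
        simp only [uval, e, Int.cast_one, Int.cast_neg, one_mul, neg_mul, map_neg, mul_neg,
          neg_neg, div_neg, neg_div] <;> ring
    simp only [hterm] at hsum
    have hrange : ∀ p q : G, IsConj x p → IsConj x q → p * q = ι d → p ∈ ι.range ∧ q ∈ ι.range := by
      intro p q hp hq hpq
      have sq : ∀ r, IsConj x r → r * r = 1 := fun r hr => by
        obtain ⟨g, rfl⟩ := isConj_iff.mp hr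
        calc g * x * g⁻¹ * (g * x * g⁻¹) = g * (x * x) * g⁻¹ := by group
          _ = 1 := by rw [hxx, mul_one, mul_inv_cancel]
      have hp2 : p⁻¹ = p := inv_eq_of_mul_eq_one_left (sq p hp)
      have hq2 : q⁻¹ = q := inv_eq_of_mul_eq_one_left (sq q hq)
      have hpR : p ∈ ι.range := by
        refine hT.ti p d d⁻¹ hd (D_inv d hd) ?_
        rw [map_inv, ← hpq, mul_inv_rev, hp2, hq2, ← mul_assoc, sq p hp, one_mul]
      refine ⟨hpR, ?_⟩
      have : q = p⁻¹ * ι d := by rw [← hpq, inv_mul_cancel_left]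
      rw [this]
      exact mul_mem (inv_mem hpR) ⟨d, rfl⟩
    rw [card_pairs hT.inj x d hrange] at hsum
    have hcount : Nat.card {q : Md × Md // IsConj x (ι q.1) ∧ IsConj x (ι q.2) ∧ q.1 * q.2 = d} =
        total S d := by
      have hmem : ∀ n : Md, IsConj x (ι n) ↔
          ∃ i, (S i = true ∧ n * n = 1 ∧ n.p = (inv3 i).p ∧ n.q = (inv3 i).q) := by
        intro n
        constructor
        · intro h
          have hn : n * n = 1 := hT.inj (by
            obtain ⟨g, hg⟩ := isConj_iff.mp h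
            rw [map_mul, ← hg, map_one]
            calc g * x * g⁻¹ * (g * x * g⁻¹) = g * (x * x) * g⁻¹ := by group
              _ = 1 := by rw [hxx, mul_one, mul_inv_cancel])
          rcases invol_class n hn with rfl | ⟨i, h1, h2, g, hg⟩
          · exfalso
            rw [map_one] at h
            obtain ⟨g, hg⟩ := isConj_iff.mp h
            rw [mul_inv_eq_one, mul_eq_left] at hg
            exact (inv3_facts j).2 (hT.inj (by rw [map_one]; exact hg))
          · refine ⟨i, decide_eq_true (h.trans ?_), hn, h1, h2⟩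
            exact (isConj_iff.mpr ⟨ι g, by rw [← hg]; simp⟩ : IsConj (ι (inv3 i)) (ι n)).symm
        · rintro ⟨i, hi, hn, h1, h2⟩
          obtain ⟨g, hg⟩ := invol_class' i n hn h1 h2
          exact (of_decide_eq_true hi).trans (isConj_iff.mpr ⟨ι g, by rw [← hg]; simp⟩)
      let e : {q : Md × Md // IsConj x (ι q.1) ∧ IsConj x (ι q.2) ∧ q.1 * q.2 = d} ≃
          {n : Md // IsConj x (ι n) ∧ IsConj x (ι (n * d))} :=
        { toFun := fun q => ⟨q.1.1, q.2.1, by
            obtain ⟨⟨a, b⟩, h1, h2, h3⟩ := q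
            obtain ⟨i, -, ha, -, -⟩ := (hmem a).mp h1
            show IsConj x (ι (a * d))
            rw [← h3, ← mul_assoc, ha, one_mul]
            exact h2⟩
          invFun := fun n => ⟨(n.1, n.1 * d), n.2.1, n.2.2, by
            obtain ⟨i, -, ha, -, -⟩ := (hmem n.1).mp n.2.1
            show n.1 * (n.1 * d) = d
            rw [← mul_assoc, ha, one_mul]⟩
          left_inv := fun q => by
            obtain ⟨⟨a, b⟩, h1, h2, h3⟩ := q
            obtain ⟨i, -, ha, -, -⟩ := (hmem a).mp h1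
            refine Subtype.ext (Prod.ext rfl ?_)
            show a * d = b
            rw [← h3, ← mul_assoc, ha, one_mul]
          right_inv := fun n => rfl }
      rw [Nat.card_congr e, Nat.card_eq_fintype_card, Fintype.card_subtype, total]
      simp only [pairCount, Finset.card_filter]
      have hpush : ∀ i k : Fin 3, (if S i ∧ S k then (∑ n : Md, if n * n = 1 ∧ n.p = (inv3 i).p ∧
          n.q = (inv3 i).q ∧ n * d * (n * d) = 1 ∧ (n * d).p = (inv3 k).p ∧ (n * d).q = (inv3 k).q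
          then 1 else 0) else 0) = ∑ n : Md, if S i ∧ S k ∧ n * n = 1 ∧ n.p = (inv3 i).p ∧
          n.q = (inv3 i).q ∧ n * d * (n * d) = 1 ∧ (n * d).p = (inv3 k).p ∧ (n * d).q = (inv3 k).q
          then 1 else 0 := by
        intro i k
        by_cases h : S i ∧ S k
        · simp [h.1, h.2]
        · rw [if_neg h]
          symm; exact Finset.sum_eq_zero fun n _ => if_neg fun hh => h ⟨hh.1, hh.2.1⟩
      simp only [hpush]
      rw [Finset.sum_comm_cycle]
      refine Finset.sum_congr rfl fun n _ => ?_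
      by_cases hn : IsConj x (ι n) ∧ IsConj x (ι (n * d))
      · rw [if_pos hn]
        obtain ⟨i, hi, a1, a2, a3⟩ := (hmem n).mp hn.1
        obtain ⟨k, hk, b1, b2, b3⟩ := (hmem (n * d)).mp hn.2
        rw [Finset.sum_eq_single i, Finset.sum_eq_single k, if_pos ⟨hi, hk, a1, a2, a3, b1, b2, b3⟩]
        · exact fun k' _ hk' => if_neg fun h => hk' (inv3_type k' k (h.2.2.2.2.2.2.1.symm.trans b2) (h.2.2.2.2.2.2.2.symm.trans b3))
        · simp
        · exact fun i' _ hi' => Finset.sum_eq_zero fun k' _ => if_neg fun h => hi' (inv3_type i' i (h.2.2.2.1.symm.trans a2) (h.2.2.2.2.1.symm.trans a3))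
        · simp
      · rw [if_neg hn]
        symm
        exact Finset.sum_eq_zero fun i _ => Finset.sum_eq_zero fun k _ => if_neg fun h =>
          hn ⟨(hmem n).mpr ⟨i, h.1, h.2.2.1, h.2.2.2.1, h.2.2.2.2.1⟩,
            (hmem _).mpr ⟨k, h.2.1, h.2.2.2.2.2.1, h.2.2.2.2.2.2.1, h.2.2.2.2.2.2.2⟩⟩
    rw [hcount] at hsum
    push_cast at hsum
    have ht := total_eq S d hd
    simp only [sub_mul, Finset.sum_sub_distrib, hsum]
    rw [Finset.sum_congr rfl (fun c _ => mul_assoc (3 / 16 * C) (FH S c) (conj (ch c d))),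
      ← Finset.mul_sum, hC]
    linear_combination (C / 16) * ht * 1 + (0 : ℂ)
  -- transfer to the generators
  set w : Fin 15 → ℂ := fun c => uval E x c * uval E x c / uval E 1 c - 3 / 16 * C * FH S c with hw
  have hzero : ∀ m : Md, phi a m * ∑ c, w c * conj (ch c m) = 0 := fun m => by
    by_cases hm : InD m
    · rw [hD m hm, mul_zero]
    · rw [phi_vanish a m hm, zero_mul]
  have h108 : ∑ c, (A a c : ℂ) * w c = 0 := by
    have h : ∑ c, w c * Cfsg.classInner (phi a) (ch c) = 0 := by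
      simp only [Cfsg.classInner, Finset.mul_sum]
      rw [Finset.sum_comm]
      refine Finset.sum_eq_zero fun m _ => ?_
      have := congrArg (fun z : ℂ => (Nat.card Md : ℂ)⁻¹ * z) (hzero m)
      simp only [mul_zero, Finset.mul_sum] at this
      rw [← this]
      exact Finset.sum_congr rfl fun c _ => by ring
    rw [← h]
    refine Finset.sum_congr rfl fun c _ => ?_
    rw [phi_eq, CharBasicOrth.classInner_sum_left]
    simp [CharBasicOrth.classInner_smul_left, inner_ch, mul_comm]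
  simp only [hw, mul_sub, Finset.sum_sub_distrib, sub_eq_zero] at h108
  rw [h108, Finset.mul_sum]
  exact Finset.sum_congr rfl fun c _ => by ring

/-- The linear indices. -/
def lamIdx : Fin 3 → Fin 15
  | 0 => 1
  | 1 => 2
  | 2 => 3

lemma linear_value (E : Exc ι) (j : Fin 3) (h : uval E 1 (lamIdx j) = 1) :
    E.sg (lamIdx j) = 1 ∧ ∃ μ : G →* ℂˣ, ((E.σ (lamIdx j) : G → ℂ)) = fun g => (μ g : ℂ) := by
  obtain ⟨n, hn, hn1⟩ := CharBasic.isIrrCharacter_apply_one (E.σ (lamIdx j)).2
  rw [uval, hn1] at h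
  have h' : E.sg (lamIdx j) * (n : ℤ) = 1 := by exact_mod_cast h
  have hs : E.sg (lamIdx j) = 1 := by
    rcases mul_self_eq_one_iff.mp (E.sign (lamIdx j)) with e | e
    · exact e
    · rw [e] at h'; omega
  rw [hs, one_mul] at h'
  exact ⟨hs, CharBasicLinear.exists_hom_of_apply_one_eq_one
    (CharBasic.isCharacter_of_isIrrCharacter (E.σ (lamIdx j)).2) (by rw [hn1]; exact_mod_cast h')⟩

theorem degrees_one (hT : TISet ι InD) (E : Exc ι) :
    uval E 1 1 = 1 ∧ uval E 1 2 = 1 ∧ uval E 1 3 = 1 := by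
  classical
  set l : Fin 15 → ℂ := uval E 1 with hldef
  have hl : ∀ c, l c ≠ 0 := uval_one_ne E
  have hl0 : l 0 = 1 := uval_zero E 1
  have rl : ∀ a, ∑ c, (A a c : ℂ) * l c = 0 := uval_rel hT E (hg_one hT)
  have q0 := rl 0; have q1 := rl 1; have q2 := rl 2; have q3 := rl 3; have q4 := rl 4; have q5 := rl 5
  have q6 := rl 6
  simp [A, Fin.sum_univ_succ, hl0] at q0 q1 q2 q3 q4 q5 q6
  have e4 : l 4 = 1 + l 1 := by linear_combination -q0
  have e5 : l 5 = 1 + l 2 := by linear_combination -q1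
  have e6 : l 6 = 1 + l 3 := by linear_combination -q2
  have e7 : l 7 = l 2 + l 3 := by linear_combination -q3
  have e8 : l 8 = l 1 + l 3 := by linear_combination -q4
  have e9 : l 9 = l 1 + l 2 := by linear_combination -q5
  have e10 : l 10 = 1 + l 1 + l 2 + l 3 := by linear_combination -q6
  have n1 : 1 + l 1 ≠ 0 := e4 ▸ hl 4
  have n2 : 1 + l 2 ≠ 0 := e5 ▸ hl 5
  have n3 : 1 + l 3 ≠ 0 := e6 ▸ hl 6
  have n23 : l 2 + l 3 ≠ 0 := e7 ▸ hl 7
  have n13 : l 1 + l 3 ≠ 0 := e8 ▸ hl 8
  have n12 : l 1 + l 2 ≠ 0 := e9 ▸ hl 9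
  have ns : 1 + l 1 + l 2 + l 3 ≠ 0 := e10 ▸ hl 10
  -- the equations for one class
  have main : ∀ j : Fin 3, ∃ κ : ℂ, κ ≠ 0 ∧ ∃ u : Fin 15 → ℂ, u = uval E (ι (inv3 j)) ∧
      ∀ S, S = types ι (ι (inv3 j)) →
      Alg108.defect 1 1 (u 1) (l 1) = κ / 8 * (FH S 0 + FH S 1 - FH S 4) ∧
      Alg108.defect 1 1 (u 2) (l 2) = κ / 8 * (FH S 0 + FH S 2 - FH S 5) ∧
      Alg108.defect 1 1 (u 3) (l 3) = κ / 8 * (FH S 0 + FH S 3 - FH S 6) ∧
      Alg108.defect (u 2) (l 2) (u 3) (l 3) = κ / 8 * (FH S 2 + FH S 3 - FH S 7) ∧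
      Alg108.defect (u 1) (l 1) (u 3) (l 3) = κ / 8 * (FH S 1 + FH S 3 - FH S 8) ∧
      Alg108.defect (u 1) (l 1) (u 2) (l 2) = κ / 8 * (FH S 1 + FH S 2 - FH S 9) ∧
      1 + u 1 ^ 2 / l 1 + u 2 ^ 2 / l 2 + u 3 ^ 2 / l 3 -
          (1 + u 1 + u 2 + u 3) ^ 2 / (1 + l 1 + l 2 + l 3) =
        κ / 8 * (FH S 0 + FH S 1 + FH S 2 + FH S 3 - FH S 10) := by
    intro j
    obtain ⟨κ, hκ, h⟩ := class_eq hT E j
    refine ⟨κ, hκ, _, rfl, fun S hS => ?_⟩
    subst hS
    set S := types ι (ι (inv3 j))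
    set u : Fin 15 → ℂ := uval E (ι (inv3 j))
    have hu0 : u 0 = 1 := uval_zero E _
    have rr := uval_rel hT E (g := ι (inv3 j))
      (hg_inv hT (by rw [← map_mul, (inv3_facts j).1, map_one]))
    have t0 := rr 0; have t1 := rr 1; have t2 := rr 2; have t3 := rr 3; have t4 := rr 4
    have t5 := rr 5; have t6 := rr 6
    have w0 := h 0; have w1 := h 1; have w2 := h 2; have w3 := h 3; have w4 := h 4
    have w5 := h 5; have w6 := h 6
    simp [A, Fin.sum_univ_succ] at t0 t1 t2 t3 t4 t5 t6 w0 w1 w2 w3 w4 w5 w6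
    change u 0 + (u 1 + -u 4) = 0 at t0
    have f4 : u 4 = 1 + u 1 := by linear_combination hu0 - t0
    have f5 : u 5 = 1 + u 2 := by linear_combination hu0 - t1
    have f6 : u 6 = 1 + u 3 := by linear_combination hu0 - t2
    have f7 : u 7 = u 2 + u 3 := by linear_combination -t3
    have f8 : u 8 = u 1 + u 3 := by linear_combination -t4
    have f9 : u 9 = u 1 + u 2 := by linear_combination -t5
    have f10 : u 10 = 1 + u 1 + u 2 + u 3 := by linear_combination hu0 - t6
    simp only [← hldef, hu0, hl0, f4, f5, f6, f7, f8, f9, f10, e4, e5, e6, e7, e8, e9, e10] at w0 w1 w2 w3 w4 w5 w6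
    unfold Alg108.defect
    refine ⟨?_, ?_, ?_, ?_, ?_, ?_, ?_⟩
    · linear_combination w0
    · linear_combination w1
    · linear_combination w2
    · linear_combination w3
    · linear_combination w4
    · linear_combination w5
    · linear_combination w6
  have lin : ∀ j : Fin 3, l (lamIdx j) = 1 → ∀ g : G, g * g = 1 →
      uval E g (lamIdx j) * uval E g (lamIdx j) = 1 := by
    intro j hj g hg
    obtain ⟨hs, μ, hμ⟩ := linear_value E j hj
    simp only [uval, hs, hμ, Int.cast_one, one_mul, ← Units.val_mul, ← map_mul, hg, map_one,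
      Units.val_one]
  have hinv : ∀ j : Fin 3, ι (inv3 j) * ι (inv3 j) = 1 := fun j => by
    rw [← map_mul, (inv3_facts j).1, map_one]
  let R : Fin 3 → Fin 3 → Prop := fun i k => IsConj (ι (inv3 i)) (ι (inv3 k))
  have hS : ∀ j : Fin 3, types ι (ι (inv3 j)) = fun i => decide (R j i) := fun j => by
    funext i; simp [types, R]
  have Rr : ∀ i, R i i := fun i => IsConj.refl _
  have Rs : ∀ {i k}, R i k → R k i := fun h => h.symm
  have Rt : ∀ {i k m}, R i k → R k m → R i m := fun h h' => h.trans h'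
  -- the singleton case
  have single : ∀ j k m : Fin 3, j ≠ k → j ≠ m → k ≠ m → ¬ R j k → ¬ R j m → l (lamIdx j) = 1 := by
    intro j k m hjk hjm hkm h1 h2
    obtain ⟨κ, hκ, u, -, hu⟩ := main j
    obtain ⟨A1, A2, A3, B1, B2, B3, -⟩ := hu (fun i => decide (i = j)) (by
      rw [hS]; funext i
      rcases fin3_cover i j k m hjk hjm hkm with rfl | rfl | rfl
      · simp [Rr]
      · simp [h1, hjk.symm]
      · simp [h2, hjm.symm])
    fin_cases j <;> simp [FH, tab, degInv, Fin.sum_univ_three] at A1 A2 A3 B1 B2 B3 <;>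
      norm_num at A1 A2 A3 B1 B2 B3
    · exact Alg108.singleton (u 1) (u 2) (u 3) (l 1) (l 2) (l 3) κ hκ (hl 1) (hl 2) (hl 3) n1 n2 n3 n23 n13
        A1 A2 A3 B1 B2
    · exact Alg108.singleton (u 2) (u 1) (u 3) (l 2) (l 1) (l 3) κ hκ (hl 2) (hl 1) (hl 3) n2 n1 n3 n13 n23
        A2 A1 A3 B2 B1
    · exact Alg108.singleton (u 3) (u 1) (u 2) (l 3) (l 1) (l 2) κ hκ (hl 3) (hl 1) (hl 2) n3 n1 n2 n12
        (by rw [add_comm]; exact n23) A3 A1 A2 B3 (by
          rw [← B1]; unfold Alg108.defect; ring_nf)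
  have dcomm : ∀ a b c d : ℂ, Alg108.defect a b c d = Alg108.defect c d a b := fun a b c d => by
    unfold Alg108.defect; ring_nf
  by_cases r01 : R 0 1 <;> by_cases r02 : R 0 2
  · -- all three fused
    obtain ⟨κ, hκ, u, -, hu⟩ := main 0
    obtain ⟨A1, A2, A3, -, B2, B3, Γ⟩ := hu (fun _ => true) (by
      rw [hS]; funext i; fin_cases i <;> simp [Rr, r01, r02])
    simp [FH, tab, degInv, Fin.sum_univ_three] at A1 A2 A3 B2 B3 Γ
    norm_num at A1 A2 A3 B2 B3 Γ
    exact Alg108.triple (u 1) (u 2) (u 3) (l 1) (l 2) (l 3) κ hκ (hl 1) (hl 2) (hl 3) n1 n2 n3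
      n12 n13 ns (by linear_combination A1) (by linear_combination A2) (by linear_combination A3)
      B3 B2 (by linear_combination Γ)
  · -- {0,1}
    have l3 : l 3 = 1 := single 2 0 1 (by decide) (by decide) (by decide) (fun h => r02 (Rs h))
      (fun h => r02 (Rt r01 (Rs h)))
    obtain ⟨κ, hκ, u, hu', hu⟩ := main 0
    obtain ⟨A1, A2, A3, B1, B2, B3, -⟩ := hu (fun i => decide (i ≠ 2)) (by
      rw [hS]; funext i; fin_cases i <;> simp [Rr, r01, r02])
    simp [FH, tab, degInv, Fin.sum_univ_three] at A1 A2 A3 B1 B2 B3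
    norm_num at A1 A2 A3 B1 B2 B3
    obtain ⟨a, b⟩ := Alg108.pair (u 3) (u 1) (u 2) (l 3) (l 1) (l 2) κ hκ l3
      (hu' ▸ lin 2 l3 _ (hinv 0)) (hl 1) (hl 2) n1 n2 n12 (by linear_combination A3) A1 A2 B3
      (by rw [dcomm]; exact B1) (by rw [dcomm]; exact B2)
    exact ⟨a, b, l3⟩
  · -- {0,2}
    have l2 : l 2 = 1 := single 1 0 2 (by decide) (by decide) (by decide) (fun h => r01 (Rs h))
      (fun h => r01 (Rt r02 (Rs h)))
    obtain ⟨κ, hκ, u, hu', hu⟩ := main 0
    obtain ⟨A1, A2, A3, B1, B2, B3, -⟩ := hu (fun i => decide (i ≠ 1)) (by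
      rw [hS]; funext i; fin_cases i <;> simp [Rr, r01, r02])
    simp [FH, tab, degInv, Fin.sum_univ_three] at A1 A2 A3 B1 B2 B3
    norm_num at A1 A2 A3 B1 B2 B3
    obtain ⟨a, b⟩ := Alg108.pair (u 2) (u 1) (u 3) (l 2) (l 1) (l 3) κ hκ l2
      (hu' ▸ lin 1 l2 _ (hinv 0)) (hl 1) (hl 3) n1 n3 n13 (by linear_combination A2) A1 A3 B2
      B1 (by rw [dcomm]; exact B3)
    exact ⟨a, l2, b⟩
  · have l1 : l 1 = 1 := single 0 1 2 (by decide) (by decide) (by decide) r01 r02
    by_cases r12 : R 1 2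
    · obtain ⟨κ, hκ, u, hu', hu⟩ := main 1
      obtain ⟨A1, A2, A3, B1, B2, B3, -⟩ := hu (fun i => decide (i ≠ 0)) (by
        rw [hS]; funext i
        fin_cases i
        · simp; exact fun h => r01 (Rs h)
        · simp [Rr]
        · simp [r12])
      simp [FH, tab, degInv, Fin.sum_univ_three] at A1 A2 A3 B1 B2 B3
      norm_num at A1 A2 A3 B1 B2 B3
      obtain ⟨a, b⟩ := Alg108.pair (u 1) (u 2) (u 3) (l 1) (l 2) (l 3) κ hκ l1
        (hu' ▸ lin 0 l1 _ (hinv 1)) (hl 2) (hl 3) n2 n3 n23 (by linear_combination A1) A2 A3 B1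
        B2 B3
      exact ⟨l1, a, b⟩
    · exact ⟨l1, single 1 0 2 (by decide) (by decide) (by decide) (fun h => r01 (Rs h)) r12,
        single 2 0 1 (by decide) (by decide) (by decide) (fun h => r02 (Rs h)) (fun h => r12 (Rs h))⟩

end main

theorem result {G : Type*} [Group G] [Finite G] (H : Subgroup G)
    (hH : Nonempty (↥H ≃* ↥(Subgroup.closure ({Equiv.swap (0 : Fin 9) 1 * Equiv.swap 1 2, Equiv.swap (3 : Fin 9) 4 * Equiv.swap 4 5, Equiv.swap (6 : Fin 9) 7 * Equiv.swap 7 8,
        Equiv.swap (0 : Fin 9) 1 * Equiv.swap 3 4, Equiv.swap (0 : Fin 9) 1 * Equiv.swap 6 7} : Set (Equiv.Perm (Fin 9))))))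
    (T : Subgroup G) (hTH : T ≤ H) (hT : Nat.card T = 27) (hN : Subgroup.normalizer (T : Set G) = H)
    (hC : ∀ t ∈ T, t ≠ 1 → Subgroup.centralizer ({t} : Set G) ≤ H) : H = ⊤ := by
  classical
  letI := Fintype.ofFinite G
  obtain ⟨e⟩ := hH
  let e1 : Md ≃* toS9.range := MonoidHom.ofInjective toS9_injective
  let e2 : Md ≃* H := (e1.trans (MulEquiv.subgroupCongr range_toS9)).trans e.symm
  let ι : Md →* G := H.subtype.comp e2.toMonoidHom
  have hι : Function.Injective ι := H.subtype_injective.comp e2.injective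
  have hrange : ι.range = H := by
    ext g
    constructor
    · rintro ⟨m, rfl⟩; exact (e2 m).2
    · exact fun hg => ⟨e2.symm ⟨g, hg⟩, by simp [ι]⟩
  -- the translations give T
  have hTtr : ∀ g : G, g ∈ T ↔ ∃ m, IsTr m ∧ ι m = g := by
    have hsub : ∀ g ∈ T, ∃ m, IsTr m ∧ ι m = g := by
      intro g hg
      obtain ⟨m, rfl⟩ : g ∈ ι.range := hrange ▸ hTH hg
      refine ⟨m, pow27 m (hι ?_), rfl⟩
      rw [map_pow, map_one]
      have h1 : (⟨ι m, hg⟩ : T) ^ 27 = 1 := by rw [← hT]; exact pow_card_eq_one'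
      exact congrArg Subtype.val h1
    intro g
    refine ⟨hsub g, ?_⟩
    rintro ⟨m, hm, rfl⟩
    have hsubset : (Finset.univ.filter fun x : G => x ∈ T) ⊆ (Finset.univ.filter IsTr).image ι := by
      intro x hx
      simp only [Finset.mem_filter, Finset.mem_univ, true_and] at hx
      obtain ⟨n, hn, rfl⟩ := hsub x hx
      exact Finset.mem_image_of_mem ι (by simp [hn])
    have heq := Finset.eq_of_subset_of_card_le hsubset (by
      rw [Finset.card_image_of_injective _ hι, tr_card]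
      have : (Finset.univ.filter fun x : G => x ∈ T).card = 27 := by
        rw [← Fintype.card_subtype, ← Nat.card_eq_fintype_card]; exact hT
      rw [this])
    have : ι m ∈ Finset.univ.filter fun x : G => x ∈ T := by
      rw [heq]; exact Finset.mem_image_of_mem ι (by simp [hm])
    simpa using this
  have habel : ∀ a ∈ T, ∀ b ∈ T, a * b = b * a := by
    intro a ha b hb
    obtain ⟨m, hm, rfl⟩ := (hTtr a).mp ha
    obtain ⟨n, hn, rfl⟩ := (hTtr b).mp hb
    rw [← map_mul, ← map_mul, tr_comm m hm n hn]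
  -- TI property of T
  have hTI : ∀ g : G, ∀ t ∈ T, t ≠ 1 → g * t * g⁻¹ ∈ T → g ∈ H := by
    intro g t ht ht1 hgt
    rw [← hN, Subgroup.mem_normalizer_iff]
    have hne : g * t * g⁻¹ ≠ 1 := fun h => ht1 (by
      rw [mul_inv_eq_one, mul_eq_left] at h; exact h)
    have hmap : T.map (MulAut.conj g).toMonoidHom ≤ T := by
      rintro _ ⟨s, hs, rfl⟩
      have hs' : (MulAut.conj g).toMonoidHom s ∈ H := by
        refine hC _ hgt hne ?_
        rw [Subgroup.mem_centralizer_singleton_iff]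
        show g * s * g⁻¹ * (g * t * g⁻¹) = g * t * g⁻¹ * (g * s * g⁻¹)
        calc g * s * g⁻¹ * (g * t * g⁻¹) = g * (s * t) * g⁻¹ := by group
          _ = g * (t * s) * g⁻¹ := by rw [habel s hs t ht]
          _ = _ := by group
      rw [← hrange] at hs'
      obtain ⟨m, hm⟩ := hs'
      rw [← hm]
      refine (hTtr _).mpr ⟨m, pow27 m (hι ?_), rfl⟩
      rw [map_pow, hm, ← map_pow, map_one]
      have h1 : (⟨s, hs⟩ : T) ^ 27 = 1 := by rw [← hT]; exact pow_card_eq_one'
      have h2 : s ^ 27 = 1 := congrArg Subtype.val h1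
      rw [h2, map_one]
    have heq : T.map (MulAut.conj g).toMonoidHom = T :=
      Subgroup.eq_of_le_of_card_ge hmap (le_of_eq
        (Nat.card_congr (T.equivMapOfInjective _ (MulAut.conj g).injective).toEquiv))
    intro n
    constructor
    · intro hn
      rw [← heq]
      exact ⟨n, hn, rfl⟩
    · intro hn
      obtain ⟨k, hk, hk'⟩ := heq.symm ▸ hn
      rwa [← (MulAut.conj g).injective hk']
  have hTI' : TISet ι InD := by
    refine ⟨hι, fun g d d' hd hd' he => ?_, fun d hd h => hd (by rw [h, one_mul])⟩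
    rw [hrange]
    obtain ⟨t1, t2⟩ := sq_D d hd
    refine hTI g (ι (d * d * (d * d))) ((hTtr _).mpr ⟨_, t1, rfl⟩)
      (fun h => t2 (hι (by rw [h, map_one]))) ((hTtr _).mpr ⟨_, (sq_D d' hd').1, ?_⟩)
    simp only [map_mul, ← he]
    group
  obtain ⟨E⟩ := exists_exc ι hTI'
  obtain ⟨l1, l2, -⟩ := degrees_one hTI' E
  obtain ⟨s1, μ1, hμ1⟩ := linear_value E 0 l1
  obtain ⟨s2, μ2, hμ2⟩ := linear_value E 1 l2
  have hval : ∀ (j : Fin 3) (i : Fin 4) (μ : G →* ℂˣ), E.sg (lamIdx j) = 1 →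
      ((E.σ (lamIdx j) : G → ℂ)) = (fun g => (μ g : ℂ)) → (∀ m, chE (lamIdx j) m = lamE i m) →
      ∀ m : Md, (μ (ι m) : ℂ) = val (lamE i m) := by
    intro j i μ hs hμ hc m
    have hD : ∀ d, InD d → (μ (ι d) : ℂ) = val (lamE i d) := fun d hd => by
      have h := (rigid_D hTI' E hd).1 (lamIdx j)
      rw [hs, Int.cast_one, one_mul, hμ] at h
      rw [← hc]; exact h
    obtain ⟨d, e, hd, he, rfl⟩ := two_D m
    rw [map_mul, map_mul, Units.val_mul, hD d hd, hD e he, lam_mul, val_mul]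
  have hμ1' := hval 0 1 μ1 s1 hμ1 (fun _ => rfl)
  have hμ2' := hval 1 2 μ2 s2 hμ2 (fun _ => rfl)
  -- the common kernel
  set K : Subgroup G := μ1.ker ⊓ μ2.ker
  have hTK : T ≤ K := by
    intro t ht
    obtain ⟨m, hm, rfl⟩ := (hTtr t).mp ht
    have h1 : lamE 1 m = (1, 0) := by obtain ⟨a, b⟩ := hm; simp [lamE, sc, a, b, pm]
    have h2 : lamE 2 m = (1, 0) := by obtain ⟨a, b⟩ := hm; simp [lamE, sc, a, pm]
    refine ⟨Units.ext ?_, Units.ext ?_⟩
    · rw [hμ1', h1, val_int]; simp
    · rw [hμ2', h2, val_int]; simp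
  have hvinj : ∀ x : ℤ, val (x, 0) = 1 → x = 1 := fun x h => by
    rw [val_int] at h; exact_mod_cast h
  have hKH : ∀ g ∈ K, g ∈ H → g ∈ T := by
    intro g hg hgH
    obtain ⟨m, rfl⟩ : g ∈ ι.range := hrange ▸ hgH
    refine (hTtr _).mpr ⟨m, tr_of_lam m ?_ ?_, rfl⟩
    · have := hμ1' m
      rw [show μ1 (ι m) = 1 from hg.1, Units.val_one] at this
      simp only [lamE] at this ⊢
      rw [hvinj _ this.symm]
    · have := hμ2' m
      rw [show μ2 (ι m) = 1 from hg.2, Units.val_one] at this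
      simp only [lamE] at this ⊢
      rw [hvinj _ this.symm]
  have : K.Normal := Subgroup.normal_inf_normal _ _
  have : Fact (Nat.Prime 3) := ⟨Nat.prime_three⟩
  -- T is a Sylow subgroup
  have hTp : IsPGroup 3 T := IsPGroup.of_card (n := 3) (by rw [hT]; norm_num)
  obtain ⟨P, hP⟩ := hTp.exists_le_sylow
  have hPT : (P : Subgroup G) = T := by
    by_contra hne
    have hlt : T.subgroupOf (P : Subgroup G) < ⊤ := by
      refine lt_top_iff_ne_top.mpr fun h => hne (le_antisymm (fun x hx => ?_) hP)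
      have : (⟨x, hx⟩ : (P : Subgroup G)) ∈ T.subgroupOf (P : Subgroup G) := h ▸ Subgroup.mem_top _
      exact this
    have := P.2.isNilpotent
    obtain ⟨n, hn, hnT⟩ := SetLike.exists_of_lt (Group.normalizerCondition_of_isNilpotent _ hlt)
    have hnH : (n : G) ∈ H := by
      rw [← hN, Subgroup.mem_normalizer_iff]
      intro k
      constructor
      · intro hk
        exact ((Subgroup.mem_normalizer_iff.mp hn) ⟨k, hP hk⟩).mp hk
      · intro hk
        have hkP : k ∈ (P : Subgroup G) := by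
          have h := mul_mem (mul_mem (inv_mem n.2) (hP hk)) n.2
          simpa [mul_assoc] using h
        exact ((Subgroup.mem_normalizer_iff.mp hn) ⟨k, hkP⟩).mpr hk
    apply hnT
    show (n : G) ∈ T
    rw [← hrange] at hnH
    obtain ⟨m, hm⟩ := hnH
    rw [← hm]
    refine (hTtr _).mpr ⟨m, ?_, rfl⟩
    obtain ⟨k, hk⟩ := P.2 n
    refine pow27 m (hι ?_)
    rw [map_pow, map_one, hm]
    have h3 : orderOf (n : G) ∣ 3 ^ k := by
      rw [Subgroup.orderOf_coe]; exact orderOf_dvd_of_pow_eq_one hk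
    have h108 : orderOf (n : G) ∣ 108 := by
      rw [← hm, orderOf_injective ι hι]
      exact (orderOf_dvd_card (x := m)).trans (dvd_of_eq rfl)
    apply orderOf_dvd_iff_pow_eq_one.mp
    have h' := Nat.dvd_gcd h3 h108
    have hcop : Nat.Coprime (3 ^ k) 4 := Nat.Coprime.pow_left k (by norm_num)
    rw [show (108 : ℕ) = 27 * 4 by norm_num, Nat.Coprime.gcd_mul_right_cancel_right 27 hcop.symm] at h'
    exact h'.trans (Nat.gcd_dvd_right _ _)
  -- a normal complement in K
  have hPK : (P : Subgroup G) ≤ K := hPT ▸ hTK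
  let PK : Sylow 3 K := P.subtype hPK
  have hPKc : (PK : Subgroup K) = T.subgroupOf K := by
    show (P : Subgroup G).subgroupOf K = _
    rw [hPT]
  have hburn : Subgroup.normalizer (PK : Set K) ≤ Subgroup.centralizer (PK : Set K) := by
    intro n hn
    have hnH : (n : G) ∈ H := by
      rw [← hN, Subgroup.mem_normalizer_iff]
      intro k
      constructor
      · intro hk
        have : (⟨k, hTK hk⟩ : K) ∈ (PK : Subgroup K) := by rw [hPKc]; exact hk
        have h := ((Subgroup.mem_normalizer_iff.mp hn) ⟨k, hTK hk⟩).mp this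
        rw [hPKc] at h; exact h
      · intro hk
        have hkK : k ∈ K := by
          have h := mul_mem (mul_mem (inv_mem n.2) (hTK hk)) n.2
          simpa [mul_assoc] using h
        have : n * ⟨k, hkK⟩ * n⁻¹ ∈ (PK : Subgroup K) := by rw [hPKc]; exact hk
        have h := ((Subgroup.mem_normalizer_iff.mp hn) ⟨k, hkK⟩).mpr this
        rw [hPKc] at h; exact h
    have hnT := hKH _ n.2 hnH
    rw [Subgroup.mem_centralizer_iff]
    intro y hy
    have hy' : y ∈ (PK : Subgroup K) := hy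
    rw [hPKc] at hy'
    exact Subtype.ext (habel _ hy' _ hnT)
  set Q : Subgroup K := (MonoidHom.transferSylow PK hburn).ker
  have hQc := MonoidHom.ker_transferSylow_isComplement' PK hburn
  have hQ3 := MonoidHom.not_dvd_card_ker_transferSylow PK hburn
  have hQn : Q.Normal := MonoidHom.normal_ker _
  have hQ3' : ¬ 3 ∣ Nat.card Q := hQ3
  have hQtop : Q ⊔ (PK : Subgroup K) = ⊤ := hQc.sup_eq_top
  clear_value Q
  set Q' : Subgroup G := Q.map K.subtype
  have hQ'3 : ¬ 3 ∣ Nat.card Q' := by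
    rw [← Nat.card_congr (Q.equivMapOfInjective _ K.subtype_injective).toEquiv]; exact hQ3'
  let a : G := ι m0
  let b : G := ι m1
  have haT : a ∈ T := (hTtr _).mpr ⟨m0, ⟨rfl, rfl⟩, rfl⟩
  have hbT : b ∈ T := (hTtr _).mpr ⟨m1, ⟨rfl, rfl⟩, rfl⟩
  have hnorm : ∀ t ∈ T, t ∈ Subgroup.normalizer (Q' : Set G) := by
    intro t ht
    rw [Subgroup.mem_normalizer_iff]
    intro k
    constructor
    · rintro ⟨q, hq, rfl⟩
      exact ⟨⟨t, hTK ht⟩ * q * ⟨t, hTK ht⟩⁻¹, hQn.conj_mem q hq _, rfl⟩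
    · rintro ⟨q, hq, hq'⟩
      refine ⟨⟨t, hTK ht⟩⁻¹ * q * ⟨t, hTK ht⟩, ?_, ?_⟩
      · have := hQn.conj_mem q hq (⟨t, hTK ht⟩⁻¹)
        rwa [inv_inv] at this
      · show t⁻¹ * (q : G) * t = k
        rw [show (q : G) = t * k * t⁻¹ from hq']; group
  have hcomm : Commute a b := habel a haT b hbT
  have hpair : CoprimeGen.IsPairAction 3 a b Q' :=
    { comm := hcomm
      pow_left := by rw [← map_pow, show m0 ^ 3 = 1 by decide +kernel, map_one]
      pow_right := by rw [← map_pow, show m1 ^ 3 = 1 by decide +kernel, map_one]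
      right_ne := fun h => by
        have := hι (h.trans (map_one ι).symm)
        revert this; decide +kernel
      left_not_mem := by
        intro h
        obtain ⟨k, hk⟩ := Subgroup.mem_zpowers_iff.mp h
        rw [← map_zpow] at hk
        have hk' := congrArg Md.a (hι hk)
        have : ∀ k : ℤ, (m1 ^ k).a = 0 := fun k => by
          rw [← Int.emod_add_mul_ediv k 3, zpow_add, zpow_mul,
            show m1 ^ (3 : ℤ) = 1 by rw [show (3 : ℤ) = ((3 : ℕ) : ℤ) by norm_num, zpow_natCast]; decide +kernel,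
            one_zpow, mul_one]
          have h1 := Int.emod_nonneg k (show (3 : ℤ) ≠ 0 by norm_num)
          have h2 := Int.emod_lt_of_pos k (show (0 : ℤ) < 3 by norm_num)
          obtain h | h | h : k % 3 = 0 ∨ k % 3 = 1 ∨ k % 3 = 2 := by omega
          all_goals rw [h]
          · simp [Md.one_def]
          · rw [zpow_one]; rfl
          · rw [show (2 : ℤ) = ((2 : ℕ) : ℤ) by norm_num, zpow_natCast]; exact m1_sq_a
        rw [this] at hk'
        exact m0_a_ne hk'
      mem_left := hnorm a haT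
      mem_right := hnorm b hbT }
  have hQbot : Q' ≤ ⊥ := by
    refine CoprimeGen.le_of_pair_centralizers hpair hQ'3 fun x hx hx1 => ?_
    have hxT : x ∈ T := CoprimeGen.pairSubgroup_le haT hbT hx
    rintro q ⟨hq, hqC⟩
    have hqT : q ∈ T := hKH q (Subgroup.map_subtype_le Q hq) (hC x hxT hx1 hqC)
    by_contra hq1
    apply hQ'3
    have h27 : orderOf q ∣ 27 := by
      rw [← hT, ← Subgroup.orderOf_mk q hqT]; exact orderOf_dvd_natCard _
    have hne : orderOf q ≠ 1 := fun h => hq1 (Subgroup.mem_bot.mpr (orderOf_eq_one_iff.mp h))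
    obtain ⟨k, hk, hk'⟩ := (Nat.dvd_prime_pow Nat.prime_three).mp (show orderOf q ∣ 3 ^ 3 by norm_num; exact h27)
    refine dvd_trans ?_ (Subgroup.orderOf_mk q hq ▸ orderOf_dvd_natCard (⟨q, hq⟩ : Q'))
    rw [hk']
    exact dvd_pow_self 3 fun h => hne (by rw [hk', h, pow_zero])
  -- hence K = T is normal
  have hQb : Q = ⊥ := by
    have : Q' = ⊥ := le_bot_iff.mp hQbot
    exact (Subgroup.map_eq_bot_iff_of_injective _ K.subtype_injective).mp this
  have hKT : K = T := by
    refine le_antisymm (fun k hk => ?_) hTK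
    have htop : Q ⊔ (PK : Subgroup K) = ⊤ := hQtop
    rw [hQb, bot_sup_eq, hPKc] at htop
    have : (⟨k, hk⟩ : K) ∈ T.subgroupOf K := htop ▸ Subgroup.mem_top _
    exact this
  have hTn : T.Normal := hKT ▸ (inferInstance : K.Normal)
  rw [← hN, Subgroup.normalizer_eq_top_iff]
  exact hTn

end Cfsg.Agent.S3701
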