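import Mathlib
import Cfsg.Statements.S3702
import Cfsg.Agent.Lib.ExcChar68b
import Cfsg.Agent.Lib.Coherence648
import Cfsg.Agent.Lib.Model648Phi
import Cfsg.Agent.Lib.Model648Pairs
import Cfsg.Agent.Lib.Group648
import Cfsg.Agent.Lib.Fourier648
import Cfsg.Agent.Lib.Alg648b
import Cfsg.Agent.Lib.CoprimeGen
import Cfsg.Agent.Lib.CharBasicLinear

namespace Cfsg.Agent.S3702

set_option autoImplicit false
open Cfsg
open scoped ComplexConjugate
open Cfsg.Agent.Model648 Cfsg.Agent.Model648Phi Cfsg.Agent.Model648Pairs Cfsg.Agent.Group648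
  Cfsg.Agent.ExcChar68

variable {G : Type*} [Group G]

/-- The hypotheses, transported to the model. -/
structure Setup (ι : M648 →* G) : Prop where
  inj : Function.Injective ι
  cent : ∀ m : M648, m.s = 0 → m ≠ 1 → Subgroup.centralizer ({ι m} : Set G) ≤ ι.range
  closed : ∀ m : M648, m.s = 0 → ∀ g : G, g * ι m * g⁻¹ ∈ ι.range →
    ∃ m', m'.s = 0 ∧ ι m' = g * ι m * g⁻¹

variable {ι : M648 →* G}

/-- The image of the translations. -/
def Jg (ι : M648 →* G) : Subgroup G := trans.map ι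

lemma mem_Jg {g : G} : g ∈ Jg ι ↔ ∃ m : M648, m.s = 0 ∧ ι m = g := Iff.rfl

lemma range_le_normalizer : ι.range ≤ Subgroup.normalizer (Jg ι : Set G) := by
  rintro _ ⟨g, rfl⟩
  rw [Subgroup.mem_normalizer_iff]
  intro x
  constructor
  · rintro ⟨m, hm, rfl⟩
    exact ⟨g * m * g⁻¹, trans_conj g m hm, by simp⟩
  · rintro ⟨m, hm, he⟩
    refine ⟨g⁻¹ * m * g, ?_, ?_⟩
    · have := trans_conj g⁻¹ m hm
      rwa [inv_inv] at this
    · rw [map_mul, map_mul, map_inv, he]; group

lemma card_cent_j0 (S : Setup ι) :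
    Nat.card (Subgroup.centralizer ({ι (tr 1 1 0)} : Set G)) = 54 := by
  classical
  have h : Subgroup.centralizer ({ι (tr 1 1 0)} : Set G) =
      (Subgroup.centralizer ({tr 1 1 0} : Set M648)).map ι := by
    ext g
    simp only [Subgroup.mem_map, Subgroup.mem_centralizer_singleton_iff]
    constructor
    · intro hg
      obtain ⟨m, rfl⟩ := S.cent (tr 1 1 0) rfl (by decide +kernel)
        (Subgroup.mem_centralizer_singleton_iff.mpr hg)
      exact ⟨m, S.inj (by rw [map_mul, map_mul]; exact hg), rfl⟩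
    · rintro ⟨m, hm, rfl⟩
      rw [← map_mul, ← map_mul, hm]
  rw [h, ← Nat.card_congr (Subgroup.equivMapOfInjective _ ι S.inj).toEquiv, ← cent_j0]
  exact Nat.subtype_card _ fun x => by simp [Subgroup.mem_centralizer_singleton_iff]

lemma normalizer_le [Finite G] (S : Setup ι) : Subgroup.normalizer (Jg ι : Set G) ≤ ι.range := by
  classical
  set N := Subgroup.normalizer (Jg ι : Set G) with hN
  set x := ι (tr 1 1 0) with hx
  let O : Finset M648 := Finset.univ.filter fun m => ∃ g ∈ N, g * x * g⁻¹ = ι m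
  have hO : ∀ m ∈ O, m.s = 0 ∧ m ≠ 1 := by
    intro m hm
    obtain ⟨g, hg, he⟩ := (Finset.mem_filter.mp hm).2
    have hmem : g * x * g⁻¹ ∈ Jg ι := (Subgroup.mem_normalizer_iff.mp hg x).mp ⟨_, rfl, rfl⟩
    obtain ⟨m', hm', he'⟩ := hmem
    obtain rfl : m' = m := S.inj (he'.trans he)
    refine ⟨hm', fun h => ?_⟩
    rw [h, map_one, mul_inv_eq_one, mul_eq_left] at he
    exact absurd (S.inj (he.trans (map_one ι).symm)) (by decide +kernel)
  let e : (Σ o : O, {g : G // g * x * g⁻¹ = ι o.1}) → N := fun p => ⟨p.2.1, by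
    obtain ⟨g₀, hg₀, he⟩ := (Finset.mem_filter.mp p.1.2).2
    have hc : g₀⁻¹ * p.2.1 ∈ N := range_le_normalizer (S.cent (tr 1 1 0) rfl (by decide +kernel) (by
      rw [Subgroup.mem_centralizer_singleton_iff]
      have h := p.2.2.trans he.symm
      calc g₀⁻¹ * p.2.1 * x = g₀⁻¹ * (p.2.1 * x * p.2.1⁻¹) * p.2.1 := by group
        _ = g₀⁻¹ * (g₀ * x * g₀⁻¹) * p.2.1 := by rw [h]
        _ = x * (g₀⁻¹ * p.2.1) := by group))
    simpa using mul_mem hg₀ hc⟩
  have he : Function.Bijective e := by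
    constructor
    · rintro ⟨⟨o, ho⟩, ⟨g, hg⟩⟩ ⟨⟨o', ho'⟩, ⟨g', hg'⟩⟩ h
      obtain rfl : g = g' := congrArg Subtype.val h
      obtain rfl : o = o' := S.inj (hg.symm.trans hg')
      rfl
    · rintro ⟨g, hg⟩
      obtain ⟨m, -, hm⟩ := (Subgroup.mem_normalizer_iff.mp hg x).mp ⟨_, rfl, rfl⟩
      exact ⟨⟨⟨m, Finset.mem_filter.mpr ⟨Finset.mem_univ _, g, hg, hm.symm⟩⟩, ⟨g, hm.symm⟩⟩, rfl⟩
  have hcard : Nat.card N = O.card * 54 := by
    rw [← Nat.card_congr (Equiv.ofBijective e he), Nat.card_sigma]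
    have : ∀ o : O, Nat.card {g : G // g * x * g⁻¹ = ι o.1} = 54 := fun o => by
      obtain ⟨g₀, -, hg₀⟩ := (Finset.mem_filter.mp o.2).2
      rw [ExcChar68.card_conj_fiber (isConj_iff.mpr ⟨g₀, hg₀⟩), card_cent_j0 S]
    simp [this]
  have hH : Nat.card ι.range = 648 := by
    rw [← Nat.card_congr (rEquiv ι S.inj).toEquiv, Nat.card_eq_fintype_card, card_M648]
  have hdvd : 648 ∣ O.card * 54 := hcard ▸ hH ▸ Subgroup.card_dvd_of_le range_le_normalizer
  -- the orbit is a union of classes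
  have hclosed : ∀ m ∈ O, ∀ m' : M648, cls m' = cls m → m' ∈ O := by
    intro m hm m' hcls
    obtain ⟨hs, -⟩ := hO m hm
    have hs' : m'.s = 0 := cls_trans (m.a, m.b, m.c) m' (by rw [trans_eq m hs]; exact hcls)
    obtain ⟨s, hs''⟩ := trans_class (m.a, m.b, m.c) (m'.a, m'.b, m'.c) (by
      rw [trans_eq m hs, trans_eq m' hs', hcls])
    have hconj := lift_conj s (m.a, m.b, m.c)
    rw [hs'', trans_eq m hs, trans_eq m' hs'] at hconj
    obtain ⟨g, hg, he'⟩ := (Finset.mem_filter.mp hm).2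
    refine Finset.mem_filter.mpr
      ⟨Finset.mem_univ _, ι (lift s) * g, mul_mem (range_le_normalizer ⟨_, rfl⟩) hg, ?_⟩
    rw [← hconj, map_mul, map_mul, map_inv, ← he']
    group
  have hOK : O.card = ∑ k ∈ O.image cls, sz k := by
    rw [Finset.card_eq_sum_card_image cls O]
    refine Finset.sum_congr rfl fun k hk => ?_
    rw [← card_cls k]
    congr 1
    ext m
    simp only [Finset.mem_filter, Finset.mem_univ, true_and, and_iff_right_iff_imp]
    intro hmk
    obtain ⟨m₀, hm₀, rfl⟩ := Finset.mem_image.mp hk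
    exact hclosed m₀ hm₀ m hmk
  have h12 : O.card = 12 := by
    rw [hOK]
    refine orbit_union _ (fun k hk => ?_) (Finset.mem_image.mpr ⟨tr 1 1 0, ?_, rfl⟩) ?_
    · obtain ⟨m, hm, rfl⟩ := Finset.mem_image.mp hk
      exact ⟨m, (hO m hm).1, (hO m hm).2, rfl⟩
    · exact Finset.mem_filter.mpr ⟨Finset.mem_univ _, 1, one_mem _, by rw [hx]; simp⟩
    · rw [← hOK]
      omega
  exact (Subgroup.eq_of_le_of_card_ge range_le_normalizer (by rw [hcard, h12, hH])).ge

lemma ti [Finite G] (S : Setup ι) {g : G} {m : M648} (hm : m.s = 0) (h1 : m ≠ 1)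
    (hg : g * ι m * g⁻¹ ∈ Jg ι) : g ∈ ι.range := by
  obtain ⟨m', hm', he⟩ := hg
  have h1' : m' ≠ 1 := fun h => h1 (S.inj (by
    rw [h, map_one] at he
    rw [map_one]
    exact mul_eq_left.mp (mul_inv_eq_one.mp he.symm)))
  have hmap : (Jg ι).map (MulAut.conj g).toMonoidHom ≤ Jg ι := by
    rintro _ ⟨_, ⟨n, hn, rfl⟩, rfl⟩
    show g * ι n * g⁻¹ ∈ Jg ι
    have hr : g * ι n * g⁻¹ ∈ ι.range := S.cent m' hm' h1' (by
      rw [Subgroup.mem_centralizer_singleton_iff, he]
      calc g * ι n * g⁻¹ * (g * ι m * g⁻¹) = g * ι (n * m) * g⁻¹ := by rw [map_mul]; group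
        _ = g * ι (m * n) * g⁻¹ := by rw [trans_comm n m hn hm]
        _ = _ := by rw [map_mul]; group)
    exact S.closed n hn g hr
  have heq : (Jg ι).map (MulAut.conj g).toMonoidHom = Jg ι :=
    Subgroup.eq_of_le_of_card_ge hmap (le_of_eq
      (Nat.card_congr ((Jg ι).equivMapOfInjective _ (MulAut.conj g).injective).toEquiv))
  refine normalizer_le S ?_
  rw [Subgroup.mem_normalizer_iff]
  intro n
  constructor
  · intro hn
    rw [← heq]
    exact ⟨n, hn, rfl⟩
  · intro hn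
    have hn' : g * n * g⁻¹ ∈ (Jg ι).map (MulAut.conj g).toMonoidHom := heq.symm ▸ hn
    obtain ⟨k, hk, hk'⟩ := hn'
    rwa [← (MulAut.conj g).injective hk']

lemma tiset [Finite G] (S : Setup ι) : TISet ι InD := by
  refine ⟨S.inj, fun g d d' hd _ he => ?_, fun d hd h => D_ne_one (h ▸ hd)⟩
  obtain ⟨h1, h2⟩ := D_pow d hd
  refine ti S h1 h2 ?_
  have h3 : g * ι (d ^ od d.s) * g⁻¹ ∈ ι.range := ⟨d' ^ od d.s, by
    rw [map_pow, map_pow, ← he, conj_pow]⟩
  exact S.closed _ h1 g h3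

/-! ### Involutions -/

lemma tr_ne_one : tr 0 1 0 ≠ 1 := by decide +kernel

lemma not_zpow (k : ℤ) : tr 0 1 0 ^ k ≠ tr 1 0 0 := by
  rw [← Int.emod_add_mul_ediv k 3, zpow_add, zpow_mul,
    show tr 0 1 0 ^ (3 : ℤ) = 1 from (zpow_natCast (tr 0 1 0) 3).trans (trans_pow _ rfl),
    one_zpow, mul_one]
  have h1 := Int.emod_nonneg k (show (3 : ℤ) ≠ 0 by norm_num)
  have h2 := Int.emod_lt_of_pos k (show (0 : ℤ) < 3 by norm_num)
  obtain h | h | h : k % 3 = ((0 : ℕ) : ℤ) ∨ k % 3 = ((1 : ℕ) : ℤ) ∨ k % 3 = ((2 : ℕ) : ℤ) := by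
    omega
  all_goals rw [h, zpow_natCast]; decide +kernel

lemma fix_sylow [Finite G] (S : Setup ι) (i : Fin 2) (P : Subgroup G) (hP : IsPGroup 3 P)
    (hPC : P ≤ Subgroup.centralizer ({ι (invol i)} : Set G)) (hfix : ι (fix i) ∈ P) :
    P = Subgroup.zpowers (ι (fix i)) := by
  classical
  have : Fact (Nat.Prime 3) := ⟨Nat.prime_three⟩
  obtain ⟨-, -, -, -, hfs, hf1⟩ := invol_facts i
  set A := Subgroup.zpowers (ι (fix i)) with hA
  have hAP : A ≤ P := Subgroup.zpowers_le.mpr hfix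
  by_contra hne
  have hlt : A.subgroupOf P < ⊤ := by
    refine lt_top_iff_ne_top.mpr fun h => hne (le_antisymm (fun x hx => ?_) hAP)
    have : (⟨x, hx⟩ : P) ∈ A.subgroupOf P := h ▸ Subgroup.mem_top _
    exact this
  have := hP.isNilpotent
  obtain ⟨n, hn, hnA⟩ := SetLike.exists_of_lt (Group.normalizerCondition_of_isNilpotent _ hlt)
  have hnJ : (n : G) * ι (fix i) * (n : G)⁻¹ ∈ Jg ι :=
    (Subgroup.zpowers_le.mpr ⟨fix i, hfs, rfl⟩ : A ≤ Jg ι)
      ((Subgroup.mem_normalizer_iff.mp hn ⟨ι (fix i), hfix⟩).mp (Subgroup.mem_zpowers _))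
  obtain ⟨m, hm⟩ := ti S hfs hf1 hnJ
  have hcomm : m * invol i = invol i * m := S.inj (by
    rw [map_mul, map_mul, hm]
    exact Subgroup.mem_centralizer_singleton_iff.mp (hPC n.2))
  have h24 : orderOf m ∣ 24 := by
    have hmem : m ∈ Subgroup.centralizer ({invol i} : Set M648) :=
      Subgroup.mem_centralizer_singleton_iff.mpr hcomm
    have hcard : Nat.card (Subgroup.centralizer ({invol i} : Set M648)) = ![24, 12] i :=
      (Nat.subtype_card _ fun x => by simp [Subgroup.mem_centralizer_singleton_iff]).trans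
        (card_cent_invol i)
    rw [← Subgroup.orderOf_mk m hmem]
    refine (orderOf_dvd_natCard _).trans ?_
    rw [hcard]
    fin_cases i <;> decide
  obtain ⟨k, hk⟩ := hP n
  have h3 : orderOf m ∣ 3 ^ k := by
    rw [← orderOf_injective ι S.inj, hm]
    exact orderOf_dvd_of_pow_eq_one (congrArg Subtype.val hk)
  have hm3 : m ^ 3 = 1 := by
    apply orderOf_dvd_iff_pow_eq_one.mp
    have h' := Nat.dvd_gcd h3 h24
    have hcop : Nat.Coprime (3 ^ k) 8 := Nat.Coprime.pow_left k (by norm_num)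
    rw [show (24 : ℕ) = 3 * 8 by norm_num,
      Nat.Coprime.gcd_mul_right_cancel_right 3 hcop.symm] at h'
    exact h'.trans (Nat.gcd_dvd_right _ _)
  apply hnA
  show (n : G) ∈ A
  rw [← hm]
  rcases cent_invol_three i m hcomm hm3 with rfl | rfl | rfl
  · rw [map_one]; exact one_mem _
  · exact Subgroup.mem_zpowers _
  · rw [map_pow]; exact pow_mem (Subgroup.mem_zpowers _) _

lemma no_fusion [Finite G] (S : Setup ι) {i k : Fin 2}
    (h : IsConj (ι (invol i)) (ι (invol k))) : i = k := by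
  classical
  have : Fact (Nat.Prime 3) := ⟨Nat.prime_three⟩
  obtain ⟨g, hg⟩ := isConj_iff.mp h
  obtain ⟨-, -, -, hci, hsi, hi1⟩ := invol_facts i
  obtain ⟨-, -, -, hck, hsk, -⟩ := invol_facts k
  set C := Subgroup.centralizer ({ι (invol k)} : Set G) with hC
  have hjk : ι (fix k) ∈ C :=
    Subgroup.mem_centralizer_singleton_iff.mpr (by rw [← map_mul, ← map_mul, hck])
  have hji : g * ι (fix i) * g⁻¹ ∈ C := Subgroup.mem_centralizer_singleton_iff.mpr (by
    rw [← hg]
    calc g * ι (fix i) * g⁻¹ * (g * ι (invol i) * g⁻¹) = g * ι (fix i * invol i) * g⁻¹ := by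
          rw [map_mul]; group
      _ = g * ι (invol i * fix i) * g⁻¹ := by rw [hci]
      _ = _ := by rw [map_mul]; group)
  have hp : ∀ y : C, y ^ 3 = 1 → IsPGroup 3 (Subgroup.zpowers y) := fun y hy x => ⟨1, by
    obtain ⟨z, hz⟩ := Subgroup.mem_zpowers_iff.mp x.2
    apply Subtype.ext
    rw [pow_one, SubmonoidClass.coe_pow, ← hz, ← zpow_natCast, ← zpow_mul, mul_comm, zpow_mul,
      zpow_natCast, hy, one_zpow]
    rfl⟩
  obtain ⟨P1, hP1⟩ := (hp ⟨_, hjk⟩ (Subtype.ext (by
    show ι (fix k) ^ 3 = 1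
    rw [← map_pow, trans_pow _ hsk, map_one]))).exists_le_sylow
  obtain ⟨P2, hP2⟩ := (hp ⟨_, hji⟩ (Subtype.ext (by
    show (g * ι (fix i) * g⁻¹) ^ 3 = 1
    rw [conj_pow, ← map_pow, trans_pow _ hsi, map_one, mul_one, mul_inv_cancel]))).exists_le_sylow
  obtain ⟨c, hc⟩ := MulAction.exists_smul_eq C P2 P1
  have hmap : (P1 : Subgroup C).map C.subtype = Subgroup.zpowers (ι (fix k)) :=
    fix_sylow S k _ (P1.2.map _) (Subgroup.map_subtype_le _)
      ⟨_, hP1 (Subgroup.mem_zpowers _), rfl⟩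
  have hmem : (c : G) * (g * ι (fix i) * g⁻¹) * (c : G)⁻¹ ∈ Subgroup.zpowers (ι (fix k)) := by
    rw [← hmap, ← hc]
    exact ⟨MulAut.conj c • (⟨_, hji⟩ : C), Subgroup.smul_mem_pointwise_smul _ _ _
      (hP2 (Subgroup.mem_zpowers _)), rfl⟩
  have hJ : (c : G) * g * ι (fix i) * ((c : G) * g)⁻¹ ∈ Jg ι := by
    refine (Subgroup.zpowers_le.mpr ⟨fix k, hsk, rfl⟩ : Subgroup.zpowers (ι (fix k)) ≤ Jg ι) ?_
    convert hmem using 1
    group
  obtain ⟨m, hm⟩ := ti S hsi hi1 hJ
  have hconj : m * invol i * m⁻¹ = invol k := S.inj (by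
    rw [map_mul, map_mul, map_inv, hm]
    calc (c : G) * g * ι (invol i) * ((c : G) * g)⁻¹ = c * (g * ι (invol i) * g⁻¹) * (c : G)⁻¹ := by
          group
      _ = ι (invol k) := by
          rw [hg, Subgroup.mem_centralizer_singleton_iff.mp c.2, mul_inv_cancel_right])
  have h' := cls_conj_invol i m
  rw [hconj, (invol_facts k).2.2.1] at h'
  revert h'
  fin_cases i <;> fin_cases k <;> decide

lemma isConj_iff_cls [Finite G] (S : Setup ι) (i : Fin 2) (n : M648) :
    IsConj (ι (invol i)) (ι n) ↔ cls n = tcls i := by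
  constructor
  · intro h
    obtain ⟨g, hg⟩ := isConj_iff.mp h
    obtain ⟨h2, hne, -⟩ := invol_facts i
    have hn : n * n = 1 := S.inj (by
      rw [map_mul, ← hg, map_one]
      calc g * ι (invol i) * g⁻¹ * (g * ι (invol i) * g⁻¹) = g * ι (invol i * invol i) * g⁻¹ := by
            rw [map_mul]; group
        _ = 1 := by rw [h2, map_one, mul_one, mul_inv_cancel])
    have aux : ∀ k, cls n = tcls k → cls n = tcls i := fun k hk => by
      obtain ⟨x, hx⟩ := exists_conj_invol k n hk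
      have : IsConj (ι (invol k)) (ι n) := isConj_iff.mpr ⟨ι x, by rw [← hx]; simp⟩
      rw [no_fusion S (h.trans this.symm)]
      exact hk
    rcases invol_cls n hn with rfl | h' | h'
    · exfalso
      rw [map_one, mul_inv_eq_one, mul_eq_left] at hg
      exact hne (S.inj (hg.trans (map_one ι).symm))
    · exact aux 0 h'
    · exact aux 1 h'
  · intro h
    obtain ⟨x, hx⟩ := exists_conj_invol i n h
    exact isConj_iff.mpr ⟨ι x, by rw [← hx]; simp⟩

/-! ### The class equations -/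

variable [Fintype G]

/-- Centraliser orders. -/
noncomputable def cen (ι : M648 →* G) (i : Fin 2) : ℕ :=
  Nat.card (Subgroup.centralizer ({ι (invol i)} : Set G))

/-- Position among the four tabulated functions. -/
def pos : Fin 4 → Fin 4 := ![1, 0, 2, 3]

lemma idx_pos : ∀ r : Fin 4, Coherence648.idx (r.castLE (by norm_num)) = four (pos r) := by
  decide

lemma class_eq (S : Setup ι) (r : Fin 4) (i k : Fin 2) :
    ∑ ψ : Cfsg.IrrCharacter G, Cfsg.classInner (tau ι (phi (four r))) (ψ : G → ℂ) *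
        ((ψ : G → ℂ) (ι (invol i)) * (ψ : G → ℂ) (ι (invol k)) / (ψ : G → ℂ) 1) =
      ((cen ι i : ℂ) * (cen ι k : ℂ)) / ((Nat.card G : ℂ) * 648) * (pairT r i k : ℂ) := by
  classical
  let P : Fin 2 → Finset M648 := fun j => Finset.univ.filter fun m : M648 => cls m = tcls j
  have hrange : ∀ d : M648, InD d → ∀ p q : G, IsConj (ι (invol i)) p → IsConj (ι (invol k)) q →
      p * q = ι d → p ∈ ι.range ∧ q ∈ ι.range := by
    intro d hd p q hp hq hpq
    have sq : ∀ (j : Fin 2) (y : G), IsConj (ι (invol j)) y → y * y = 1 := fun j y hy => by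
      obtain ⟨g, rfl⟩ := isConj_iff.mp hy
      calc g * ι (invol j) * g⁻¹ * (g * ι (invol j) * g⁻¹) = g * ι (invol j * invol j) * g⁻¹ := by
            rw [map_mul]; group
        _ = 1 := by rw [(invol_facts j).1, map_one, mul_one, mul_inv_cancel]
    have hp2 : p⁻¹ = p := inv_eq_of_mul_eq_one_left (sq i p hp)
    have hq2 : q⁻¹ = q := inv_eq_of_mul_eq_one_left (sq k q hq)
    have hpR : p ∈ ι.range := by
      refine (tiset S).ti p d d⁻¹ hd (D_inv d hd) ?_
      rw [map_inv, ← hpq, mul_inv_rev, hp2, hq2, ← mul_assoc, sq i p hp, one_mul]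
    refine ⟨hpR, ?_⟩
    have : q = p⁻¹ * ι d := by rw [← hpq, inv_mul_cancel_left]
    rw [this]
    exact mul_mem (inv_mem hpR) ⟨d, rfl⟩
  rw [ExcChar68b.pairing (tiset S) (phi_vanish _) _ _ (cen ι i * cen ι k)
    (fun d => ((P i ×ˢ P k).filter fun q => q.1 * q.2 = d).card) (fun d hd => ?_)]
  · have hsum : ∑ m, phi (four r) m * (((P i ×ˢ P k).filter fun q => q.1 * q.2 = m).card : ℂ) =
        (pairT r i k : ℂ) := by
      have h := congrArg val4 (pair_E r i k)
      rw [val4_int, map_sum, Finset.sum_congr rfl (fun p _ => map_sum _ _ _), ← Finset.sum_product'] at h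
      rw [← h, ← Finset.sum_fiberwise (s := P i ×ˢ P k) (g := fun q => q.1 * q.2)]
      refine Finset.sum_congr rfl fun m _ => ?_
      rw [Finset.sum_congr rfl (g := fun _ => phi (four r) m) (fun q hq => by
        rw [phi, ← (Finset.mem_filter.mp hq).2]), Finset.sum_const, nsmul_eq_mul, mul_comm]
    rw [hsum, Nat.card_eq_fintype_card (α := M648), card_M648]
    push_cast
    ring
  · rw [ExcChar68b.card_pairs2 S.inj _ _ d (hrange d hd), cen, cen]
    congr 1
    exact Nat.subtype_card _ fun q => by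
      rw [isConj_iff_cls S, isConj_iff_cls S]; simp [P, and_assoc]

theorem exists_cubic (S : Setup ι) : ∃ χ : Cfsg.IrrCharacter G, (χ : G → ℂ) 1 = 3 ∧
    Cfsg.classInner (tau ι (phi 3)) (χ : G → ℂ) = 1 := by
  classical
  have hT := tiset S
  have hgen := fun a => isGenChar_tau hT (isGen_phi a)
  choose V hV hVsum using fun a => CharBasicDecomp.exists_int_coeff (hgen a)
  choose n hn0 hn using fun ψ : Cfsg.IrrCharacter G => CharBasic.isIrrCharacter_apply_one ψ.2
  set t := CharBasicDecomp.trivIrr G with ht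
  have hgram : ∀ a b, ∑ ψ, V a ψ * V b ψ = gramM a b := by
    intro a b
    have h := CharBasicOrth.classInner_eq_sum (φ := tau ι (phi b))
      (isClassFunction_tau (ι := ι) (phi a))
    rw [inner_tau hT (isClass_phi b) (phi_vanish a) (phi_vanish b), inner_phi] at h
    simp only [hV, map_intCast] at h
    exact_mod_cast h.symm
  have he : ∀ a, V a t = trivM a := by
    intro a
    have h := hV a t
    rw [show ((t : Cfsg.IrrCharacter G) : G → ℂ) = fun _ => 1 from rfl, inner_tau_triv hT,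
      inner_phi_one] at h
    exact_mod_cast h.symm
  have hnot : ∀ g : G, g = 1 ∨ (∃ i, g = ι (invol i)) → ∀ x : G, ∀ d : M648, InD d →
      x⁻¹ * g * x ≠ ι d := by
    rintro g hg x d hd he'
    refine not_D_invol d (S.inj ?_) hd
    rw [map_mul, ← he', map_one]
    rcases hg with rfl | ⟨i, rfl⟩
    · simp
    · calc x⁻¹ * ι (invol i) * x * (x⁻¹ * ι (invol i) * x) = x⁻¹ * ι (invol i * invol i) * x := by
            rw [map_mul]; group
        _ = 1 := by rw [(invol_facts i).1, map_one, mul_one, inv_mul_cancel]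
  have h0 : ∀ a, ∑ ψ, V a ψ * (n ψ : ℤ) = 0 := by
    intro a
    have h := congrFun (hVsum a) 1
    rw [tau_one hT (phi_vanish a), Finset.sum_apply] at h
    simp only [Pi.smul_apply, smul_eq_mul, hn] at h
    exact_mod_cast h.symm
  have hne : (n t : ℤ) = 1 := by
    have := hn t
    rw [show ((t : Cfsg.IrrCharacter G) : G → ℂ) 1 = 1 from rfl] at this
    exact_mod_cast this.symm
  obtain ⟨σ, sg, hσ, hsg, hσt, hexp⟩ := Coherence648.coherence t (fun ψ => (n ψ : ℤ)) hne
    (fun ψ => Int.natCast_pos.mpr (hn0 ψ)) V hgram he h0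
  -- expansions
  have expand : ∀ (r : Fin 4) (F : Cfsg.IrrCharacter G → ℂ),
      ∑ ψ, (V (four (pos r)) ψ : ℂ) * F ψ =
        (trivM (four (pos r)) : ℂ) * F t +
          ∑ p, (Coherence648.pat p r : ℂ) * ((sg p : ℂ) * F (σ p)) := by
    intro r F
    have hV' : ∀ ψ, (V (four (pos r)) ψ : ℂ) = (if t = ψ then (trivM (four (pos r)) : ℂ) else 0) +
        ∑ p, if σ p = ψ then (sg p : ℂ) * (Coherence648.pat p r : ℂ) else 0 := by
      intro ψ
      by_cases hψ : t = ψ
      · subst hψ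
        rw [if_pos rfl, he, Finset.sum_eq_zero (fun p _ => if_neg (hσt p)), add_zero]
      · rw [if_neg hψ, zero_add, ← idx_pos r, hexp r ψ (Ne.symm hψ)]
        push_cast
        rfl
    simp only [hV', add_mul, Finset.sum_add_distrib, Finset.sum_mul, ite_mul, zero_mul]
    rw [Finset.sum_comm]
    simp only [Finset.sum_ite_eq, Finset.mem_univ, if_true]
    congr 1
    exact Finset.sum_congr rfl fun p _ => by ring
  let U : G → Fin 7 → ℂ := fun g p => (sg p : ℂ) * (σ p : G → ℂ) g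
  have hrel : ∀ (r : Fin 4) (g : G), (g = 1 ∨ ∃ i, g = ι (invol i)) →
      (trivM (four (pos r)) : ℂ) + ∑ p, (Coherence648.pat p r : ℂ) * U g p = 0 := by
    intro r g hg
    have h := congrFun (hVsum (four (pos r))) g
    rw [tau_eq_zero hT (phi_vanish _) (hnot g hg), Finset.sum_apply] at h
    simp only [Pi.smul_apply, smul_eq_mul] at h
    rw [expand r fun ψ => (ψ : G → ℂ) g] at h
    rw [show ((t : Cfsg.IrrCharacter G) : G → ℂ) g = 1 from rfl, mul_one] at h
    exact h.symm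
  have hterm : ∀ (p : Fin 7) (x y : G), (sg p : ℂ) *
      ((σ p : G → ℂ) x * (σ p : G → ℂ) y / (σ p : G → ℂ) 1) = U x p * U y p / U 1 p := by
    intro p x y
    rcases mul_self_eq_one_iff.mp (hsg p) with e | e <;>
      simp only [U, e, Int.cast_one, Int.cast_neg, one_mul, neg_mul, mul_neg, neg_neg, div_neg,
        neg_div] <;> ring
  have heq : ∀ (r : Fin 4) (i k : Fin 2), (trivM (four (pos r)) : ℂ) +
      ∑ p, (Coherence648.pat p r : ℂ) *
        (U (ι (invol i)) p * U (ι (invol k)) p / U 1 p) =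
      ((cen ι i : ℂ) * (cen ι k : ℂ)) / ((Nat.card G : ℂ) * 648) * (pairT (pos r) i k : ℂ) := by
    intro r i k
    rw [← class_eq S (pos r) i k]
    simp only [hV]
    rw [expand r fun ψ => (ψ : G → ℂ) (ι (invol i)) * (ψ : G → ℂ) (ι (invol k)) / (ψ : G → ℂ) 1]
    simp only [hterm]
    rw [show ∀ g, ((t : Cfsg.IrrCharacter G) : G → ℂ) g = 1 from fun _ => rfl,
      show ∀ g, ((t : Cfsg.IrrCharacter G) : G → ℂ) g = 1 from fun _ => rfl,
      show ∀ g, ((t : Cfsg.IrrCharacter G) : G → ℂ) g = 1 from fun _ => rfl]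
    simp
  have hG : (Nat.card G : ℂ) ≠ 0 := Nat.cast_ne_zero.mpr Nat.card_pos.ne'
  obtain ⟨z, hz⟩ := IsAlgClosed.exists_pow_nat_eq ((729 : ℂ) / ((Nat.card G : ℂ) * 648))
    (by norm_num : 0 < 2)
  have hz0 : z ≠ 0 := by
    intro h
    rw [h] at hz
    rw [zero_pow two_ne_zero, eq_comm, div_eq_zero_iff] at hz
    rcases hz with h' | h'
    · norm_num at h'
    · exact hG ((mul_eq_zero.mp h').resolve_right (by norm_num))
  have hcen : ∀ i, (cen ι i : ℂ) ≠ 0 := fun i => Nat.cast_ne_zero.mpr Nat.card_pos.ne'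
  have hU0 : ∀ p, U 1 p ≠ 0 := fun p => by
    refine mul_ne_zero ?_ (CharBasic.isIrrCharacter_apply_one_ne_zero (σ p).2)
    intro h
    have := hsg p
    rw [Int.cast_eq_zero.mp h] at this
    simp at this
  have rel : ∀ g : G, (g = 1 ∨ ∃ i, g = ι (invol i)) →
      U g 3 = U g 1 + U g 2 ∧ U g 5 = U g 0 + U g 3 ∧ U g 4 = 1 + U g 0 + U g 1 ∧
        U g 6 = 1 + U g 2 + U g 5 := by
    intro g hg
    have r0 := hrel 0 g hg
    have r1 := hrel 1 g hg
    have r2 := hrel 2 g hg
    have r3 := hrel 3 g hg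
    simp [Fin.sum_univ_seven, Coherence648.pat, four, pos, trivM] at r0 r1 r2 r3
    exact ⟨by linear_combination -r0, by linear_combination r1, by linear_combination -r2,
      by linear_combination r3⟩
  obtain ⟨l3, l5, l4, l6⟩ := rel 1 (Or.inl rfl)
  obtain ⟨u3, u5, u4, u6⟩ := rel _ (Or.inr ⟨0, rfl⟩)
  obtain ⟨v3, v5, v4, v6⟩ := rel _ (Or.inr ⟨1, rfl⟩)
  have hsc : ∀ i k : Fin 2, ∀ T : ℂ, ((cen ι i : ℂ) * (cen ι k : ℂ)) / ((Nat.card G : ℂ) * 648) * T =
      (cen ι i : ℂ) * z * ((cen ι k : ℂ) * z) * (T / 729) := fun i k T => by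
    rw [show (cen ι i : ℂ) * z * ((cen ι k : ℂ) * z) * (T / 729) =
      (cen ι i : ℂ) * (cen ι k : ℂ) * z ^ 2 * (T / 729) by ring, hz]
    field_simp
  have E : ∀ (r : Fin 4) (i k : Fin 2), (trivM (four (pos r)) : ℂ) +
      ∑ p, (Coherence648.pat p r : ℂ) *
        (U (ι (invol i)) p * U (ι (invol k)) p / U 1 p) =
      (cen ι i : ℂ) * z * ((cen ι k : ℂ) * z) * ((pairT (pos r) i k : ℂ) / 729) :=
    fun r i k => (heq r i k).trans (hsc i k _)
  have e000 := E 0 0 0
  have e100 := E 1 0 0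
  have e200 := E 2 0 0
  have e300 := E 3 0 0
  have e011 := E 0 1 1
  have e111 := E 1 1 1
  have e211 := E 2 1 1
  have e311 := E 3 1 1
  have e201 := E 2 0 1
  have e301 := E 3 0 1
  simp [Fin.sum_univ_seven, Coherence648.pat, four, pos, trivM, pairT] at e000 e100 e200 e300 e011 e111 e211 e311 e201 e301
  have hl2 : U 1 2 = 3 := Alg648b.degree_three (U 1) (U (ι (invol 0))) (U (ι (invol 1)))
    ((cen ι 0 : ℂ) * z) (2 * ((cen ι 1 : ℂ) * z)) (mul_ne_zero (hcen 0) hz0)
    (mul_ne_zero two_ne_zero (mul_ne_zero (hcen 1) hz0)) hU0 l3 l5 l4 l6 u3 u5 u4 u6 v3 v5 v4 v6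
    (by linear_combination e000) (by linear_combination e100) (by linear_combination e200)
    (by linear_combination e300) (by linear_combination e011) (by linear_combination e111)
    (by linear_combination e211) (by linear_combination e311) (by linear_combination e201)
    (by linear_combination e301)
  have hl2' : sg 2 * (n (σ 2) : ℤ) = 3 := by
    have h : (sg 2 : ℂ) * (σ 2 : G → ℂ) 1 = 3 := hl2
    rw [hn] at h
    exact_mod_cast h
  have hs2 : sg 2 = 1 := by
    rcases mul_self_eq_one_iff.mp (hsg 2) with e | e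
    · exact e
    · rw [e] at hl2'; omega
  refine ⟨σ 2, ?_, ?_⟩
  · rw [hs2, one_mul] at hl2'
    rw [hn]
    exact_mod_cast hl2'
  · have h := hexp 0 (σ 2) (hσt 2)
    rw [Finset.sum_eq_single 2 (fun p _ hp => if_neg fun h => hp (hσ h)) (by simp), if_pos rfl,
      hs2] at h
    rw [hV, show (3 : Fin 9) = Coherence648.idx ((0 : Fin 4).castLE (by norm_num)) from rfl, h]
    rw [show Coherence648.pat 2 0 = 1 from rfl, mul_one, Int.cast_one]

omit [Fintype G] in
lemma kernel_inter [Finite G] {χ : Cfsg.IrrCharacter G} (h3 : (χ : G → ℂ) 1 = 3)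
    (hphi : ∑ m : M648, phi 3 m * conj ((χ : G → ℂ) (ι m)) ≠ 0) (m : M648) :
    ι m ∈ CharBasicLinear.charKer (χ : G → ℂ) (CharBasic.isCharacter_of_isIrrCharacter χ.2) ↔
      m.s = 0 := by
  set hχ := CharBasic.isCharacter_of_isIrrCharacter χ.2
  set K := CharBasicLinear.charKer (χ : G → ℂ) hχ
  have hc : Cfsg.IsCharacter M648 (fun m => (χ : G → ℂ) (ι m)) := CharBasic.isCharacter_comap ι hχ
  have htr : ∀ n : M648, n.s = 0 → ι n ∈ K := fun n hn => by
    have h := Fourier648.trivial_on_trans hc (by simpa using h3) hn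
    simp only [map_one] at h
    exact h
  refine ⟨fun hm => ?_, htr m⟩
  by_contra hs
  apply hphi
  have hKn : K.Normal := CharBasicLinear.charKer_normal _ hχ
  have hN : (K.comap ι).Normal := hKn.comap ι
  obtain ⟨n₀, hn₀, hv₀⟩ := normal_isV hN (m := m) hm hs
  have hin : ∀ n : M648, n.s = 0 ∨ isV n.s → ι n ∈ K := by
    rintro n (hn | hn)
    · exact htr n hn
    obtain ⟨g, hg⟩ := isV_conj n₀.s n.s hv₀ hn
    have h1 := hN.conj_mem n₀ hn₀ (lift g)
    have h2 : (n * (lift g * n₀ * (lift g)⁻¹)⁻¹).s = 0 := by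
      rw [M648.s_mul, M648.s_inv, M648.s_mul, M648.s_mul, M648.s_inv]
      show smul n.s (sinv (smul (smul g n₀.s) (sinv g))) = 0
      rw [hg]
      exact congrArg M648.s (mul_inv_cancel n)
    have h3 := mul_mem (htr _ h2) (Subgroup.mem_comap.mp h1)
    rwa [← map_mul, inv_mul_cancel_right] at h3
  refine Fourier648.inner_eq_zero fun n m hn => ?_
  obtain ⟨d, ρ, hρ⟩ := hχ
  have hk := hin n hn
  have hk' : (χ : G → ℂ) (ι n) = (χ : G → ℂ) 1 := hk
  rw [← hρ, Representation.char_one, CharBasic.character_eq_finrank_iff] at hk'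
  show (χ : G → ℂ) (ι (n * m)) = (χ : G → ℂ) (ι m)
  rw [← hρ, map_mul]
  show LinearMap.trace ℂ _ (ρ (ι n * ι m)) = LinearMap.trace ℂ _ (ρ (ι m))
  rw [map_mul, hk']
  rfl

omit [Fintype G] in
theorem range_eq_top [Finite G] (S : Setup ι) : ι.range = ⊤ := by
  classical
  letI := Fintype.ofFinite G
  obtain ⟨χ, h3, hinner⟩ := exists_cubic S
  have hphi : ∑ m : M648, phi 3 m * conj ((χ : G → ℂ) (ι m)) ≠ 0 := by
    intro h
    letI : Fintype ι.range := Fintype.ofFinite _
    rw [tau_eq ι S.inj, CharInduced.inner_ind_left _ _ (CharBasic.isClassFunction_of_isCharacter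
      (CharBasic.isCharacter_of_isIrrCharacter χ.2)),
      ← CharBasicOrth.classInner_congr_equiv (rEquiv ι S.inj), Cfsg.classInner] at hinner
    have : ∑ m : M648, ((fun x => phi 3 ((rEquiv ι S.inj).symm x)) ∘ rEquiv ι S.inj) m *
        conj (((fun x : ι.range => (χ : G → ℂ) x) ∘ rEquiv ι S.inj) m) = 0 := by
      rw [← h]
      refine Finset.sum_congr rfl fun m _ => ?_
      simp only [Function.comp, MulEquiv.symm_apply_apply]
      rfl
    rw [this, mul_zero] at hinner
    exact zero_ne_one hinner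
  set K := CharBasicLinear.charKer (χ : G → ℂ) (CharBasic.isCharacter_of_isIrrCharacter χ.2)
  have : K.Normal := CharBasicLinear.charKer_normal _ _
  have hTK : Jg ι ≤ K := by
    rintro _ ⟨m, hm, rfl⟩
    exact (kernel_inter h3 hphi m).mpr hm
  have hKH : ∀ g ∈ K, g ∈ ι.range → g ∈ Jg ι := by
    rintro _ hg ⟨m, rfl⟩
    exact ⟨m, (kernel_inter h3 hphi m).mp hg, rfl⟩
  have habel : ∀ x ∈ Jg ι, ∀ y ∈ Jg ι, x * y = y * x := by
    rintro _ ⟨m, hm, rfl⟩ _ ⟨n, hn, rfl⟩
    rw [← map_mul, ← map_mul, trans_comm m n hm hn]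
  have : Fact (Nat.Prime 3) := ⟨Nat.prime_three⟩
  have hTp : IsPGroup 3 (Jg ι) := by
    rintro ⟨_, m, hm, rfl⟩
    exact ⟨1, Subtype.ext (by
      show ι m ^ 3 ^ 1 = 1
      rw [pow_one, ← map_pow, trans_pow m hm, map_one])⟩
  obtain ⟨P, hP⟩ := (hTp.comap_of_injective K.subtype K.subtype_injective).exists_le_sylow
  have hPT : (P : Subgroup K) = (Jg ι).subgroupOf K := by
    by_contra hne
    have hlt : ((Jg ι).subgroupOf K).subgroupOf (P : Subgroup K) < ⊤ := by
      refine lt_top_iff_ne_top.mpr fun h => hne (le_antisymm (fun x hx => ?_) hP)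
      have : (⟨x, hx⟩ : (P : Subgroup K)) ∈ ((Jg ι).subgroupOf K).subgroupOf (P : Subgroup K) :=
        h ▸ Subgroup.mem_top _
      exact this
    have := P.2.isNilpotent
    obtain ⟨n, hn, hnT⟩ := SetLike.exists_of_lt (Group.normalizerCondition_of_isNilpotent _ hlt)
    apply hnT
    refine hKH _ n.1.2 (normalizer_le S ?_)
    rw [Subgroup.mem_normalizer_iff]
    intro k
    constructor
    · intro hk
      exact (Subgroup.mem_normalizer_iff.mp hn ⟨⟨k, hTK hk⟩, hP hk⟩).mp hk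
    · intro hk
      have hkK : k ∈ K := by
        have h := mul_mem (mul_mem (inv_mem n.1.2) (hTK hk)) n.1.2
        simpa [mul_assoc] using h
      have hkP : (⟨k, hkK⟩ : K) ∈ (P : Subgroup K) := by
        have h := mul_mem (mul_mem (inv_mem n.2) (hP (show (⟨_, hTK hk⟩ : K) ∈ (Jg ι).subgroupOf K from hk))) n.2
        convert h using 1
        apply Subtype.ext
        simp [mul_assoc]
      exact (Subgroup.mem_normalizer_iff.mp hn ⟨⟨k, hkK⟩, hkP⟩).mpr hk
  have hburn : Subgroup.normalizer (P : Set K) ≤ Subgroup.centralizer (P : Set K) := by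
    intro n hn
    have hnH : (n : G) ∈ ι.range := by
      refine normalizer_le S ?_
      rw [Subgroup.mem_normalizer_iff]
      intro k
      constructor
      · intro hk
        have : (⟨k, hTK hk⟩ : K) ∈ (P : Subgroup K) := by rw [hPT]; exact hk
        have h := ((Subgroup.mem_normalizer_iff.mp hn) ⟨k, hTK hk⟩).mp this
        rw [hPT] at h; exact h
      · intro hk
        have hkK : k ∈ K := by
          have h := mul_mem (mul_mem (inv_mem n.2) (hTK hk)) n.2
          simpa [mul_assoc] using h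
        have : n * ⟨k, hkK⟩ * n⁻¹ ∈ (P : Subgroup K) := by rw [hPT]; exact hk
        have h := ((Subgroup.mem_normalizer_iff.mp hn) ⟨k, hkK⟩).mpr this
        rw [hPT] at h; exact h
    have hnT := hKH _ n.2 hnH
    rw [Subgroup.mem_centralizer_iff]
    intro y hy
    have hy' : y ∈ (P : Subgroup K) := hy
    rw [hPT] at hy'
    exact Subtype.ext (habel _ hy' _ hnT)
  set Q : Subgroup K := (MonoidHom.transferSylow P hburn).ker
  have hQtop : Q ⊔ (P : Subgroup K) = ⊤ :=
    (MonoidHom.ker_transferSylow_isComplement' P hburn).sup_eq_top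
  have hQ3 : ¬ 3 ∣ Nat.card Q := MonoidHom.not_dvd_card_ker_transferSylow P hburn
  have hQn : Q.Normal := MonoidHom.normal_ker _
  clear_value Q
  set Q' : Subgroup G := Q.map K.subtype
  have hQ'3 : ¬ 3 ∣ Nat.card Q' := by
    rw [← Nat.card_congr (Q.equivMapOfInjective _ K.subtype_injective).toEquiv]; exact hQ3
  let a : G := ι (tr 1 0 0)
  let b : G := ι (tr 0 1 0)
  have haT : a ∈ Jg ι := ⟨_, rfl, rfl⟩
  have hbT : b ∈ Jg ι := ⟨_, rfl, rfl⟩
  have hnorm : ∀ t ∈ Jg ι, t ∈ Subgroup.normalizer (Q' : Set G) := by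
    intro t ht
    rw [Subgroup.mem_normalizer_iff]
    intro k
    constructor
    · rintro ⟨q, hq, rfl⟩
      exact ⟨⟨t, hTK ht⟩ * q * ⟨t, hTK ht⟩⁻¹, hQn.conj_mem q hq _, rfl⟩
    · rintro ⟨q, hq, hq'⟩
      refine ⟨⟨t, hTK ht⟩⁻¹ * q * ⟨t, hTK ht⟩, ?_, ?_⟩
      · have := hQn.conj_mem q hq (⟨t, hTK ht⟩⁻¹)
        rwa [inv_inv] at this
      · show t⁻¹ * (q : G) * t = k
        rw [show (q : G) = t * k * t⁻¹ from hq']; group
  have hpair : CoprimeGen.IsPairAction 3 a b Q' :=
    { comm := habel a haT b hbT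
      pow_left := by rw [← map_pow, trans_pow (tr 1 0 0) rfl, map_one]
      pow_right := by rw [← map_pow, trans_pow (tr 0 1 0) rfl, map_one]
      right_ne := fun h => absurd (S.inj (h.trans (map_one ι).symm)) tr_ne_one
      left_not_mem := by
        intro h
        obtain ⟨k, hk⟩ := Subgroup.mem_zpowers_iff.mp h
        rw [← map_zpow] at hk
        exact not_zpow k (S.inj hk)
      mem_left := hnorm a haT
      mem_right := hnorm b hbT }
  have hQbot : Q' ≤ ⊥ := by
    refine CoprimeGen.le_of_pair_centralizers hpair hQ'3 fun x hx hx1 => ?_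
    obtain ⟨m, hm, rfl⟩ := CoprimeGen.pairSubgroup_le haT hbT hx
    rintro q ⟨hq, hqC⟩
    have hqT : q ∈ Jg ι := hKH q (Subgroup.map_subtype_le Q hq)
      (S.cent m hm (fun h => hx1 (by rw [h, map_one])) hqC)
    obtain ⟨m', hm', rfl⟩ := hqT
    rw [Subgroup.mem_bot]
    by_contra hq1
    apply hQ'3
    have : orderOf (⟨ι m', hq⟩ : Q') = 3 := orderOf_eq_prime (Subtype.ext (by
      show ι m' ^ 3 = 1
      rw [← map_pow, trans_pow m' hm', map_one])) (fun h => hq1 (congrArg Subtype.val h))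
    exact this ▸ orderOf_dvd_natCard _
  have hQb : Q = ⊥ :=
    (Subgroup.map_eq_bot_iff_of_injective _ K.subtype_injective).mp (le_bot_iff.mp hQbot)
  have hKT : K = Jg ι := by
    refine le_antisymm (fun k hk => ?_) hTK
    rw [hQb, bot_sup_eq, hPT] at hQtop
    have : (⟨k, hk⟩ : K) ∈ (Jg ι).subgroupOf K := hQtop ▸ Subgroup.mem_top _
    exact this
  have hTn : (Jg ι).Normal := hKT ▸ (inferInstance : K.Normal)
  refine le_antisymm le_top ?_
  rw [← Subgroup.normalizer_eq_top_iff.mpr hTn]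
  exact normalizer_le S

/-- Let K ≤ Sym(9) be generated by (1 2 3), (1 4 7)(2 5 8)(3 6 9), (1 2)(4 5) and (1 4)(2 5)(3 6)(7 8) (the normalizer in Alt(9) of the elementary abelian group generated by (1 2 3), (4 5 6), (7 8 9)). Let G be a finite group with a subgroup H ≅ K and J = O₃(H). If C_G(j) ≤ H for every j ≠ 1 in J and J is strongly closed in H with respect to G (a G-conjugate of an element of J lying in H lies in J), then G = H. -/
theorem result {G : Type*} [Group G] [Finite G] (H : Subgroup G)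
    (hH : Nonempty (↥H ≃* ↥(Subgroup.closure ({Equiv.swap (0 : Fin 9) 1 * Equiv.swap 1 2,
        Equiv.swap (0 : Fin 9) 3 * Equiv.swap 3 6 * (Equiv.swap (1 : Fin 9) 4 * Equiv.swap 4 7) * (Equiv.swap (2 : Fin 9) 5 * Equiv.swap 5 8),
        Equiv.swap (0 : Fin 9) 1 * Equiv.swap 3 4, Equiv.swap (0 : Fin 9) 3 * Equiv.swap 1 4 * Equiv.swap 2 5 * Equiv.swap 6 7} : Set (Equiv.Perm (Fin 9))))))
    (J : Subgroup G) (hJ : J = (Cfsg.pCore 3 ↥H).map H.subtype)
    (hC : ∀ j ∈ J, j ≠ 1 → Subgroup.centralizer ({j} : Set G) ≤ H) (hsc : Cfsg.IsStronglyClosed J H) : H = ⊤ := by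
  obtain ⟨e⟩ := hH
  let e1 : M648 ≃* toS9.range := MonoidHom.ofInjective toS9_injective
  let e2 : M648 ≃* H := (e1.trans (MulEquiv.subgroupCongr range_toS9)).trans e.symm
  let ι : M648 →* G := H.subtype.comp e2.toMonoidHom
  have hι : Function.Injective ι := H.subtype_injective.comp e2.injective
  have hrange : ι.range = H := by
    ext g
    constructor
    · rintro ⟨m, rfl⟩; exact (e2 m).2
    · exact fun hg => ⟨e2.symm ⟨g, hg⟩, by simp [ι]⟩
  have hcore : (Cfsg.pCore 3 H) = trans.map e2.toMonoidHom := by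
    have : Fact (Nat.Prime 3) := ⟨Nat.prime_three⟩
    have hn : (trans.map e2.toMonoidHom).Normal := trans_normal.map _ e2.surjective
    refine le_antisymm (sSup_le ?_) (le_sSup ⟨hn, ?_⟩)
    · rintro N ⟨hN, hp⟩
      have h : N.comap e2.toMonoidHom ≤ trans := by
        rw [← pCore_eq]
        exact le_sSup ⟨hN.comap _, hp.comap_of_injective _ e2.injective⟩
      intro x hx
      exact ⟨e2.symm x, h (by simpa using hx), by simp⟩
    · refine IsPGroup.map ?_ _
      exact fun x => ⟨1, Subtype.ext (by rw [pow_one]; exact trans_pow x.1 x.2)⟩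
  have hJg : J = Jg ι := by rw [hJ, hcore, Subgroup.map_map]; rfl
  have S : Setup ι :=
    { inj := hι
      cent := fun m hm h1 => hrange ▸ hC (ι m) (hJg ▸ ⟨m, hm, rfl⟩)
        (fun h => h1 (hι (h.trans (map_one ι).symm)))
      closed := fun m hm g hg => by
        have h := hsc.2 (ι m) (hJg ▸ ⟨m, hm, rfl⟩) g (hrange ▸ hg)
        rw [hJg] at h
        exact h }
  rw [← hrange]
  exact range_eq_top S

end Cfsg.Agent.S3702
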