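import Cfsg.Statements.S3703
import Cfsg.Agent.Lib.CoprimeTools
import Cfsg.Agent.Lib.PGroupsBasic
-- import your own Cfsg.Agent.* helpers here

set_option autoImplicit false
open Cfsg

namespace Cfsg.Agent.S3703

open scoped Pointwise
open Cfsg.Agent.CoprimeSZ Cfsg.Agent.CoprimeAction

/-- If every norm of `h` vanishes and `h` acts fixed-point-freely on `Q`, then `Q` acts trivially. -/
theorem trivial_of_norms_trivial {H V : Type*} [Group H] [CommGroup V] (θ : H →* MulAut V)
    (Q : Subgroup H) [Finite Q] (hcop : (Nat.card Q).Coprime (Nat.card V)) (h : H)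
    (hnQ : ∀ x ∈ Q, h * x * h⁻¹ ∈ Q) (m : ℕ) (hm : 0 < m)
    (hfix : ∀ i, 0 < i → i < m → ∀ x ∈ Q, h ^ i * x * (h ^ i)⁻¹ = x → x = 1)
    (hnorm : ∀ v, ∏ i ∈ Finset.range m, θ (h ^ i) v = 1) (y : H) (hy : y ∈ Q) (u : V) :
    θ y u = u := by
  classical
  have := Fintype.ofFinite Q
  have hpow : ∀ i : ℕ, ∀ x ∈ Q, h ^ i * x * (h ^ i)⁻¹ ∈ Q := by
    intro i
    induction i with
    | zero => simp
    | succ i ih =>
      intro x hx
      have : h ^ (i + 1) * x * (h ^ (i + 1))⁻¹ = h * (h ^ i * x * (h ^ i)⁻¹) * h⁻¹ := by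
        rw [pow_succ']; simp [mul_assoc]
      rw [this]
      exact hnQ _ (ih x hx)
  have hconj : ∀ x : Q, ∀ v, ∏ i ∈ Finset.range m, θ ((x : H) * h ^ i * (x : H)⁻¹) v = 1 := by
    intro x v
    have h1 := congrArg (θ (x : H)) (hnorm (θ (x : H)⁻¹ v))
    rw [map_prod, map_one] at h1
    simpa only [map_mul, MulAut.mul_apply] using h1
  set v := u / θ y u with hv
  have htot : ∏ i ∈ Finset.range m, ∏ x : Q, θ ((x : H) * h ^ i * (x : H)⁻¹) v = 1 := by
    rw [Finset.prod_comm]
    exact Finset.prod_eq_one fun x _ => hconj x v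
  have hNQ : ∀ i, 0 < i → i < m → ∏ x : Q, θ ((x : H) * h ^ i * (x : H)⁻¹) v = 1 := by
    intro i hi him
    let ψ : Q → Q := fun x => ⟨(x : H) * (h ^ i * (x : H)⁻¹ * (h ^ i)⁻¹),
      Q.mul_mem x.2 (hpow i _ (Q.inv_mem x.2))⟩
    have hψ : Function.Bijective ψ := by
      refine Finite.injective_iff_bijective.1 fun x x' hxx => ?_
      have h1 : (x : H) * (h ^ i * (x : H)⁻¹ * (h ^ i)⁻¹) =
          x' * (h ^ i * (x' : H)⁻¹ * (h ^ i)⁻¹) := congrArg Subtype.val hxx
      have h2 : h ^ i * ((x' : H)⁻¹ * x) * (h ^ i)⁻¹ = (x' : H)⁻¹ * x := by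
        have h3 : (x' : H)⁻¹ * x * (h ^ i * (x : H)⁻¹ * (h ^ i)⁻¹) =
            h ^ i * (x' : H)⁻¹ * (h ^ i)⁻¹ := by
          rw [mul_assoc, h1, inv_mul_cancel_left]
        rw [← eq_mul_inv_iff_mul_eq] at h3
        conv_rhs => rw [h3]
        simp [mul_assoc]
      exact Subtype.ext (inv_mul_eq_one.1 (hfix i hi him _ (Q.mul_mem (Q.inv_mem x'.2) x.2) h2)).symm
    have hN : ∀ z ∈ Q, ∀ w, ∏ x : Q, θ (x : H) (θ z w) = ∏ x : Q, θ (x : H) w := by
      intro z hz w
      refine Fintype.prod_equiv (Equiv.mulRight (⟨z, hz⟩ : Q)) _ _ fun x => ?_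
      simp [map_mul, MulAut.mul_apply]
    have e : ∀ x : Q, θ ((x : H) * h ^ i * (x : H)⁻¹) v = θ (ψ x : H) (θ (h ^ i) v) := fun x => by
      rw [← MulAut.mul_apply, ← map_mul]
      congr 2
      simp [ψ, mul_assoc]
    simp only [e]
    rw [hψ.prod_comp (fun x : Q => θ (x : H) (θ (h ^ i) v)), hv]
    simp only [map_div, Finset.prod_div_distrib]
    rw [div_eq_one]
    have e2 : θ (h ^ i) (θ y u) = θ (h ^ i * y * (h ^ i)⁻¹) (θ (h ^ i) u) := by
      rw [← MulAut.mul_apply, ← map_mul, ← MulAut.mul_apply, ← map_mul]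
      simp [mul_assoc]
    rw [e2, hN _ (hpow i y hy)]
  rw [Finset.prod_eq_single_of_mem 0 (Finset.mem_range.2 hm)
    (fun i hi hi0 => hNQ i (Nat.pos_of_ne_zero hi0) (Finset.mem_range.1 hi))] at htot
  simp only [pow_zero, mul_one, mul_inv_cancel, map_one, MulAut.one_apply, Finset.prod_const,
    Finset.card_univ, ← Nat.card_eq_fintype_card] at htot
  have h1 : v = 1 := orderOf_eq_one_iff.1
    (Nat.eq_one_of_dvd_coprimes hcop (orderOf_dvd_of_pow_eq_one htot) (orderOf_dvd_natCard v))
  rw [hv, div_eq_one] at h1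
  exact h1.symm

/-- `G` has an element of order `r * m` as soon as one of order a proper multiple of `m`. -/
theorem exists_orderOf_eq {G : Type*} [Group G] [Finite G] {N : Subgroup G} [N.Normal] {g : G}
    {m : ℕ} (hg : orderOf (QuotientGroup.mk' N g) = m) (hne : g ^ m ≠ 1) :
    ∃ p : ℕ, p.Prime ∧ p ∣ Nat.card N ∧ ∃ g : G, orderOf g = p * m := by
  have hm0 : 0 < m := hg ▸ orderOf_pos _
  obtain ⟨s, hs⟩ : m ∣ orderOf g := hg ▸ orderOf_map_dvd (QuotientGroup.mk' N) g
  have hs1 : s ≠ 1 := fun h => hne (by rw [h, mul_one] at hs; rw [← hs]; exact pow_orderOf_eq_one g)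
  obtain ⟨r, hr, hrs⟩ := Nat.exists_prime_and_dvd hs1
  obtain ⟨t, rfl⟩ := hrs
  have hpos := orderOf_pos g
  have ht0 : 0 < t := by
    rcases Nat.eq_zero_or_pos t with h | h
    · subst h; simp [hs] at hpos
    · exact h
  refine ⟨r, hr, ?_, g ^ t, ?_⟩
  · have h1 : g ^ m ∈ N := by
      rw [← QuotientGroup.eq_one_iff]
      change (QuotientGroup.mk' N) (g ^ m) = 1
      rw [map_pow, ← hg, pow_orderOf_eq_one]
    refine dvd_trans ?_ (Subgroup.orderOf_dvd_natCard N h1)
    rw [orderOf_pow' g hm0.ne', hs, Nat.gcd_mul_right_left, Nat.mul_div_cancel_left _ hm0]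
    exact Dvd.intro t rfl
  · rw [orderOf_pow' g ht0.ne', hs,
      Nat.gcd_eq_right (Dvd.intro_left (m * r) (mul_assoc m r t)),
      ← mul_assoc m r t, Nat.mul_div_cancel _ ht0, mul_comm]

/-- Let N be a normal subgroup of the finite group G such that G/N is a Frobenius group with kernel F and cyclic complement H, where the order of F is coprime to that of N and F is not contained in the image of C_G(N) in G/N. Then G has an element of order p·#H for some prime p dividing the order of N. (A standard tool in recognising groups by their element orders.) -/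
theorem result {G : Type*} [Group G] [Finite G] (N : Subgroup G) [N.Normal]
    (Fb Hb : Subgroup (G ⧸ N)) [Fb.Normal] (hHb : Cfsg.IsFrobeniusComplement Hb) (hker : Cfsg.frobeniusKernel Hb = (Fb : Set (G ⧸ N)))
    (hcyc : IsCyclic Hb) (hcop : (Nat.card Fb).Coprime (Nat.card N))
    (hnot : ¬ Fb ≤ (Subgroup.centralizer (N : Set G)).map (QuotientGroup.mk' N)) :
    ∃ p : ℕ, p.Prime ∧ p ∣ Nat.card N ∧ ∃ g : G, orderOf g = p * Nat.card Hb := by
  set π := QuotientGroup.mk' N with hπ
  have hπs : Function.Surjective π := QuotientGroup.mk'_surjective N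
  obtain ⟨hHne, hHtop, hTI⟩ := hHb
  set m := Nat.card Hb with hm
  have hm0 : 0 < m := Nat.card_pos
  have hFH : ∀ x ∈ Fb, x ∈ Hb → x = 1 := by
    intro x hxF hxH
    have h1 : x ∈ Cfsg.frobeniusKernel Hb := by rw [hker]; exact hxF
    rcases h1 with h | h
    · exact h
    · exact absurd (by simpa using hxH) (h 1)
  have hfpf : ∀ b ∈ Hb, b ≠ 1 → ∀ x ∈ Fb, b * x * b⁻¹ = x → x = 1 := by
    intro b hb hb1 x hx hbx
    by_contra hx1
    refine hb1 ?_
    rw [← Subgroup.mem_bot, ← hTI x fun h => hx1 (hFH x hx h)]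
    refine ⟨hb, ?_⟩
    change b ∈ MulAut.conj x • Hb
    rw [mem_conj_smul]
    have : x⁻¹ * b * x = b := by
      rw [mul_assoc, mul_inv_eq_iff_eq_mul.1 hbx, inv_mul_cancel_left]
    rw [this]
    exact hb
  have hnorm : Hb ≤ Subgroup.normalizer (Fb : Set (G ⧸ N)) := by
    rw [Subgroup.normalizer_eq_top_iff.2 inferInstance]; exact le_top
  have hcopHF : (Nat.card Hb).Coprime (Nat.card Fb) := by
    refine Nat.coprime_of_dvd fun r hr hrH hrF => ?_
    have := Fact.mk hr
    obtain ⟨b, hb⟩ := exists_prime_orderOf_dvd_card' r hrH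
    obtain ⟨x, hx⟩ := exists_prime_orderOf_dvd_card' r hrF
    let R : Subgroup (G ⧸ N) := Subgroup.zpowers (b : G ⧸ N)
    have hR : IsPGroup r R :=
      IsPGroup.of_card (n := 1) (by rw [Nat.card_zpowers, Subgroup.orderOf_coe, hb, pow_one])
    let _ : MulAction R Fb :=
      { smul := fun c y => ⟨(c : G ⧸ N) * y * (c : G ⧸ N)⁻¹,
          (inferInstance : Fb.Normal).conj_mem y y.2 c⟩
        one_smul := fun y => Subtype.ext (by
          change ((1 : R) : G ⧸ N) * y * ((1 : R) : G ⧸ N)⁻¹ = y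
          simp)
        mul_smul := fun c d y => Subtype.ext (by
          change ((c * d : R) : G ⧸ N) * y * ((c * d : R) : G ⧸ N)⁻¹ =
            (c : G ⧸ N) * ((d : G ⧸ N) * y * (d : G ⧸ N)⁻¹) * (c : G ⧸ N)⁻¹
          simp [mul_assoc]) }
    have h1 := hR.card_modEq_card_fixedPoints Fb
    have h2 : MulAction.fixedPoints R Fb = {1} := by
      ext y
      constructor
      · intro hy
        have := congrArg Subtype.val (hy ⟨b, Subgroup.mem_zpowers _⟩)
        have hb1 : (b : G ⧸ N) ≠ 1 := fun h => by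
          rw [OneMemClass.coe_eq_one] at h
          rw [h, orderOf_one] at hb
          exact hr.one_lt.ne hb
        exact Subtype.ext (hfpf b b.2 hb1 y y.2 this)
      · rintro rfl c
        refine Subtype.ext ?_
        change (c : G ⧸ N) * ((1 : Fb) : G ⧸ N) * (c : G ⧸ N)⁻¹ = ((1 : Fb) : G ⧸ N)
        simp
    rw [h2, Nat.card_eq_fintype_card (α := ({1} : Set Fb)), Fintype.card_unique] at h1
    have h3 : Nat.card Fb % r = 1 % r := h1
    rw [Nat.mod_eq_zero_of_dvd hrF, Nat.mod_eq_of_lt hr.one_lt] at h3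
    exact absurd h3 (by simp)
  have hHsolv : Group.IsSolvable Hb := by
    have := hcyc.isMulCommutative
    exact Group.isSolvable_of_comm fun a b => mul_comm' a b
  -- an invariant Sylow `q`-subgroup of the kernel, not centralising `N`
  set I := (Subgroup.centralizer (N : Set G)).map π with hI
  obtain ⟨q, hq, Qb, hQbH, hQbI, hQbF, hQbp, hqd⟩ : ∃ q : ℕ, q.Prime ∧ ∃ Qb : Subgroup (G ⧸ N),
      Hb ≤ Subgroup.normalizer (Qb : Set (G ⧸ N)) ∧ ¬ Qb ≤ I ∧ Qb ≤ Fb ∧ IsPGroup q Qb ∧
        q ∣ Nat.card Fb := by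
    by_contra hcon
    apply hnot
    refine inf_eq_left.1 (Subgroup.eq_of_le_of_card_ge (inf_le_left : Fb ⊓ I ≤ Fb) ?_)
    refine Nat.le_of_dvd Nat.card_pos ?_
    rw [← Nat.factorization_le_iff_dvd Nat.card_pos.ne' Nat.card_pos.ne']
    intro q
    by_cases hq : q.Prime
    swap
    · simp [Nat.factorization_eq_zero_of_not_prime _ hq]
    by_cases hqd : q ∣ Nat.card Fb
    swap
    · simp [Nat.factorization_eq_zero_of_not_dvd hqd]
    have := Fact.mk hq
    obtain ⟨Q, hQ⟩ := exists_invariant_sylow hnorm hcopHF (Or.inl hHsolv) q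
    have hle : (Q : Subgroup Fb).map Fb.subtype ≤ Fb ⊓ I := by
      refine le_inf (Subgroup.map_subtype_le _) ?_
      by_contra hQI
      exact hcon ⟨q, hq, _, hQ, hQI, Subgroup.map_subtype_le _, Q.2.map _, hqd⟩
    have h1 := Subgroup.card_dvd_of_le hle
    rw [card_map_sylow Q] at h1
    exact (Nat.Prime.pow_dvd_iff_le_factorization hq Nat.card_pos.ne').1 h1
  have := Fact.mk hq
  have hqN : ¬ q ∣ Nat.card N := fun h => hq.one_lt.ne' (Nat.eq_one_of_dvd_coprimes hcop hqd h)
  -- lift it
  set K := Qb.comap π with hK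
  obtain ⟨QS⟩ := (inferInstance : Nonempty (Sylow q K))
  set Q := (QS : Subgroup K).map K.subtype with hQdef
  have hQK : Q ≤ K := Subgroup.map_subtype_le _
  have hQp : IsPGroup q Q := QS.2.map _
  have hcopQN : (Nat.card Q).Coprime (Nat.card N) := by
    obtain ⟨j, hj⟩ := IsPGroup.iff_card.1 hQp
    rw [hj]
    exact Nat.Coprime.pow_left _ ((Nat.Prime.coprime_iff_not_dvd hq).2 hqN)
  have hQnN : ∀ X : Subgroup G, X ≤ Subgroup.normalizer (N : Set G) := fun X => by
    rw [Subgroup.normalizer_eq_top_iff.2 inferInstance]; exact le_top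
  have hQmap : Q.map π = Qb := by
    refine Subgroup.eq_of_le_of_card_ge (Subgroup.map_le_iff_le_comap.2 hQK) ?_
    have h1 : Nat.card K = Nat.card N * Nat.card Qb := by
      have e : K.map π = Qb := Subgroup.map_comap_eq_self_of_surjective hπs _
      have h2 : N.subgroupOf K = (π.subgroupMap K).ker := by
        ext x
        constructor
        · intro hx
          exact Subtype.ext ((QuotientGroup.eq_one_iff _).2 hx)
        · intro hx
          exact (QuotientGroup.eq_one_iff (x : G)).1 (congrArg Subtype.val hx)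
      have h3 := Subgroup.card_mul_index (π.subgroupMap K).ker
      rw [Subgroup.index_ker, (MonoidHom.range_eq_top).2 (π.subgroupMap_surjective K),
        Subgroup.card_top, Nat.card_congr (MulEquiv.subgroupCongr e).toEquiv, ← h2, Nat.card_congr (Subgroup.subgroupOfEquivOfLe
          (show N ≤ K from fun x hx => by
            rw [hK, Subgroup.mem_comap]
            rw [show π x = 1 from (QuotientGroup.eq_one_iff x).2 hx]
            exact one_mem _)).toEquiv] at h3
      exact h3.symm
    obtain ⟨j, hj⟩ := IsPGroup.iff_card.1 hQbp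
    have hQc : Nat.card Q = Nat.card Qb := by
      rw [hQdef, card_map_sylow QS, h1, hj, Nat.factorization_mul Nat.card_pos.ne' (pow_pos hq.pos j).ne',
        Finsupp.add_apply, Nat.factorization_eq_zero_of_not_dvd hqN,
        Nat.Prime.factorization_pow hq, Finsupp.single_eq_same, zero_add]
    rw [← hQc]
    refine Nat.card_le_card_of_injective (π.subgroupMap Q) ?_
    rw [injective_iff_map_eq_one]
    intro x hx
    apply Subtype.ext
    have h4 : (x : G) ∈ Q ⊓ N := ⟨x.2, (QuotientGroup.eq_one_iff _).1 (congrArg Subtype.val hx)⟩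
    rwa [Subgroup.inf_eq_bot_of_coprime hcopQN, Subgroup.mem_bot] at h4
  have hQsolv : Group.IsSolvable Q := isSolvable_of_isPGroup hQp
  have hQC : ¬ Q ≤ Subgroup.centralizer (N : Set G) := fun h => hQbI (hQmap ▸ Subgroup.map_mono h)
  obtain ⟨p, hp, hpd, PS, hPQ, hQP⟩ : ∃ p : ℕ, p.Prime ∧ p ∣ Nat.card N ∧ ∃ PS : Sylow p N,
      Q ≤ Subgroup.normalizer (((PS : Subgroup N).map N.subtype : Subgroup G) : Set G) ∧
      ¬ Q ≤ Subgroup.centralizer (((PS : Subgroup N).map N.subtype : Subgroup G) : Set G) := by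
    by_contra hcon
    apply hQC
    rw [Subgroup.le_centralizer_iff]
    refine inf_eq_left.1 (Subgroup.eq_of_le_of_card_ge
      (inf_le_left : N ⊓ Subgroup.centralizer (Q : Set G) ≤ N) (Nat.le_of_dvd Nat.card_pos ?_))
    rw [← Nat.factorization_le_iff_dvd Nat.card_pos.ne' Nat.card_pos.ne']
    intro p
    by_cases hp : p.Prime
    swap
    · simp [Nat.factorization_eq_zero_of_not_prime _ hp]
    by_cases hpd : p ∣ Nat.card N
    swap
    · simp [Nat.factorization_eq_zero_of_not_dvd hpd]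
    have := Fact.mk hp
    obtain ⟨P, hP⟩ := exists_invariant_sylow (hQnN Q) hcopQN (Or.inl hQsolv) p
    have hle : (P : Subgroup N).map N.subtype ≤ N ⊓ Subgroup.centralizer (Q : Set G) := by
      refine le_inf (Subgroup.map_subtype_le _) ?_
      rw [Subgroup.le_centralizer_iff]
      by_contra hPC
      exact hcon ⟨p, hp, hpd, P, hP, hPC⟩
    have h1 := Subgroup.card_dvd_of_le hle
    rw [card_map_sylow P] at h1
    exact (Nat.Prime.pow_dvd_iff_le_factorization hp Nat.card_pos.ne').1 h1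
  have := Fact.mk hp
  set P := (PS : Subgroup N).map N.subtype with hPdef
  have hPN : P ≤ N := Subgroup.map_subtype_le _
  -- a lift of a generator normalising `Q` and `P`
  obtain ⟨gen, hgen⟩ := hcyc.exists_generator
  have hgord : orderOf (gen : G ⧸ N) = m := by
    rw [Subgroup.orderOf_coe, orderOf_eq_card_of_forall_mem_zpowers hgen]
  obtain ⟨h, hhπ, hhQ, hhP⟩ : ∃ h : G, π h = (gen : G ⧸ N) ∧
      h ∈ Subgroup.normalizer (Q : Set G) ∧ h ∈ Subgroup.normalizer (P : Set G) := by
    obtain ⟨h0, hh0⟩ := hπs (gen : G ⧸ N)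
    have hle : MulAut.conj h0 • Q ≤ N ⊔ Q := by
      refine (Subgroup.le_comap_map π _).trans ?_
      rw [map_conj_smul, hQmap, hh0, conj_smul_eq_self (hQbH gen.2), ← hQmap,
        Subgroup.comap_map_eq, QuotientGroup.ker_mk', sup_comm]
    obtain ⟨n, hn, hnQ⟩ := exists_conj_of_card_eq (hQnN Q) hcopQN (Or.inl hQsolv) hle
      (card_conj_smul h0 Q)
    set h1 := n⁻¹ * h0
    have hh1Q : MulAut.conj h1 • Q = Q := by
      rw [conj_smul_mul, ← hnQ, ← conj_smul_mul, inv_mul_cancel, map_one, one_smul]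
    obtain ⟨R, hR⟩ := exists_sylow_map_eq (p := p) (K := N) (P := MulAut.conj h1 • P)
      (fun x hx => by
        rw [mem_conj_smul] at hx
        have := (inferInstance : N.Normal).conj_mem _ (hPN hx) h1
        simpa [mul_assoc] using this)
      (by rw [card_conj_smul, hPdef, card_map_sylow PS])
    have hRQ : Q ≤ Subgroup.normalizer (((R : Subgroup N).map N.subtype : Subgroup G) : Set G) := by
      intro x hx
      rw [hR]
      refine mem_normalizer_of_conj_smul_eq ?_
      have hx' : h1⁻¹ * x * h1 ∈ Subgroup.normalizer (P : Set G) :=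
        hPQ (mem_conj_smul.1 (hh1Q.symm ▸ hx))
      rw [← conj_smul_mul, show x * h1 = h1 * (h1⁻¹ * x * h1) by simp [mul_assoc], conj_smul_mul,
        conj_smul_eq_self hx']
    obtain ⟨c, hc, hcR⟩ := invariant_sylow_conj (hQnN Q) hcopQN (Or.inl hQsolv) R PS hRQ hPQ
    refine ⟨(c : G) * h1, ?_, ?_, ?_⟩
    · rw [map_mul, map_mul, map_inv, hh0, show π (c : G) = 1 from (QuotientGroup.eq_one_iff _).2 c.2,
        show π n = 1 from (QuotientGroup.eq_one_iff _).2 hn, inv_one, one_mul, one_mul]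
    · refine mem_normalizer_of_conj_smul_eq ?_
      rw [conj_smul_mul, hh1Q]
      exact conj_smul_eq_self (Subgroup.centralizer_le_normalizer (Q : Set G) hc)
    · refine mem_normalizer_of_conj_smul_eq ?_
      rw [conj_smul_mul, ← hR]
      change MulAut.conj (N.subtype c) • _ = _
      rw [← map_conj_smul]
      exact congrArg (fun X : Sylow p N => (X : Subgroup N).map N.subtype) hcR
  by_cases hall : ∀ v ∈ P, (h * v) ^ m = 1
  swap
  · simp only [not_forall] at hall
    obtain ⟨v, hv, hne⟩ := hall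
    refine exists_orderOf_eq (N := N) ?_ hne
    rw [map_mul, show π v = 1 from (QuotientGroup.eq_one_iff v).2 (hPN hv), mul_one, hhπ, hgord]
  exfalso
  apply hQP
  letI : CommGroup (Abelianization P) := inferInstance
  set H₀ := Subgroup.normalizer (P : Set G)
  let θ : H₀ →* MulAut (Abelianization P) :=
    { toFun := fun n => (P.normalizerMonoidHom n).abelianizationCongr
      map_one' := by
        apply MulEquiv.ext
        intro x
        induction x using QuotientGroup.induction_on with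
        | H z => simp only [map_one]; rfl
      map_mul' := fun x y => by
        apply MulEquiv.ext
        intro w
        induction w using QuotientGroup.induction_on with
        | H z => simp only [map_mul]; rfl }
  let hh : H₀ := ⟨h, hhP⟩
  have hhm : h ^ m = 1 := by simpa using hall 1 P.one_mem
  have hnorm' : ∀ v, ∏ i ∈ Finset.range m, θ (hh ^ i) v = 1 := by
    intro v0
    obtain ⟨v, rfl⟩ : ∃ v, θ hh v = v0 := ⟨(θ hh)⁻¹ v0, by
      rw [← MulAut.mul_apply, mul_inv_cancel, MulAut.one_apply]⟩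
    induction v using QuotientGroup.induction_on with
    | H z =>
      have key : ∀ k : ℕ, ∃ w : P, (h * z) ^ k = (w : G) * h ^ k ∧
          Abelianization.of w = ∏ i ∈ Finset.range k, θ (hh ^ (i + 1)) (Abelianization.of z) := by
        intro k
        induction k with
        | zero => exact ⟨1, by simp, by simp⟩
        | succ k ih =>
          obtain ⟨w, hw1, hw2⟩ := ih
          refine ⟨w * ⟨h ^ (k + 1) * z * (h ^ (k + 1))⁻¹, conj_mem (pow_mem hhP (k + 1)) z.2⟩, ?_, ?_⟩
          · rw [pow_succ, hw1]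
            simp [mul_assoc, pow_succ]
          · rw [map_mul, hw2, Finset.prod_range_succ]
            rfl
      obtain ⟨w, hw1, hw2⟩ := key m
      rw [hall z z.2, hhm, mul_one] at hw1
      rw [show w = 1 from Subtype.ext hw1.symm, map_one] at hw2
      rw [hw2]
      refine Finset.prod_congr rfl fun i _ => ?_
      rw [pow_succ, map_mul]
      rfl
  have htriv : ∀ y : H₀, y ∈ Q.subgroupOf H₀ → ∀ u, θ y u = u := by
    refine fun y hy u => trivial_of_norms_trivial θ (Q.subgroupOf H₀) ?_ hh ?_ m hm0 ?_ hnorm' y hy u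
    · rw [Nat.card_congr (Subgroup.subgroupOfEquivOfLe hPQ).toEquiv]
      exact hcopQN.coprime_dvd_right
        ((Subgroup.card_quotient_dvd_card _).trans (Subgroup.card_dvd_of_le hPN))
    · intro x hx
      exact conj_mem (K := Q) (a := h) (k := (x : G)) hhQ hx
    · intro i hi him x hx hfix
      have hxF : π (x : G) ∈ Fb := hQbF (hQmap ▸ Subgroup.mem_map_of_mem π hx)
      have h2 : (gen : G ⧸ N) ^ i ≠ 1 := fun he => by
        have := Nat.le_of_dvd hi (hgord ▸ orderOf_dvd_of_pow_eq_one he)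
        omega
      have h3 := congrArg (fun z : H₀ => π (z : G)) hfix
      simp only [Subgroup.coe_mul, SubmonoidClass.coe_pow, InvMemClass.coe_inv, map_mul, map_pow,
        map_inv] at h3
      rw [show π (hh : G) = gen from hhπ] at h3
      have h4 : (x : G) ∈ Q ⊓ N :=
        ⟨hx, (QuotientGroup.eq_one_iff _).1 (hfpf _ (Hb.pow_mem gen.2 i) h2 _ hxF h3)⟩
      rw [Subgroup.inf_eq_bot_of_coprime hcopQN, Subgroup.mem_bot] at h4
      exact Subtype.ext h4
  have hPp : IsPGroup p P := PS.2.map _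
  refine le_centralizer_of_frattini hPQ ?_ fun a ha k hk => ?_
  · exact hcopQN.coprime_dvd_right
      ((Subgroup.card_subgroup_dvd_card _).trans (Subgroup.card_dvd_of_le hPN))
  · have h1 := htriv ⟨a, hPQ ha⟩ ha (Abelianization.of ⟨k, hk⟩)
    refine ⟨⟨a * k * a⁻¹, conj_mem (hPQ ha) hk⟩ * ⟨k, hk⟩⁻¹, ?_, rfl⟩
    apply Cfsg.Agent.PGroupsBasic.commutator_le_frattini hPp
    rw [← Abelianization.ker_of, MonoidHom.mem_ker, map_mul, map_inv, mul_inv_eq_one]
    exact h1

end Cfsg.Agent.S3703
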