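import Mathlib
import Cfsg.Statements.S3704

namespace Cfsg.Agent.S3704

set_option autoImplicit false
open Cfsg MulAction Matrix

variable {G Ω : Type*} [Group G] [MulAction G Ω] {H : Subgroup G}

/-- The incidence matrix of an `H`-invariant function. -/
noncomputable def inc (f : Ω → ℝ) (hf : ∀ (h : H) (x : Ω), f ((h : G) • x) = f x) (w : Ω)
    (c : G ⧸ H) : ℝ :=
  Quotient.liftOn' c (fun g => f (g⁻¹ • w)) (fun a b hab => by
    rw [QuotientGroup.leftRel_apply] at hab
    have := hf ⟨a⁻¹ * b, hab⟩ (b⁻¹ • w)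
    simp only [← mul_smul, mul_assoc, mul_inv_cancel, mul_one] at this
    exact this)

lemma inc_smul (f : Ω → ℝ) (hf : ∀ (h : H) (x : Ω), f ((h : G) • x) = f x) (g : G) (w : Ω)
    (c : G ⧸ H) : inc f hf (g • w) (g • c) = inc f hf w c := by
  induction c using QuotientGroup.induction_on with
  | H a =>
    show f ((g * a)⁻¹ • g • w) = f (a⁻¹ • w)
    rw [← mul_smul, _root_.mul_inv_rev, mul_assoc, inv_mul_cancel, mul_one]

lemma sum_col [Fintype Ω] (f : Ω → ℝ) (hf : ∀ (h : H) (x : Ω), f ((h : G) • x) = f x)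
    (c : G ⧸ H) : ∑ w, inc f hf w c = ∑ x, f x := by
  induction c using QuotientGroup.induction_on with
  | H a => exact Fintype.sum_equiv (MulAction.toPerm a⁻¹) _ _ (fun _ => rfl)

lemma sum_row [Fintype Ω] [Nonempty Ω] [Fintype (G ⧸ H)] [IsPretransitive G Ω] (f : Ω → ℝ)
    (hf : ∀ (h : H) (x : Ω), f ((h : G) • x) = f x) (h0 : ∑ x, f x = 0) (w : Ω) :
    ∑ c, inc f hf w c = 0 := by
  have hconst : ∀ u v : Ω, ∑ c, inc f hf u c = ∑ c, inc f hf v c := by
    intro u v
    obtain ⟨g, rfl⟩ := exists_smul_eq G u v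
    exact Fintype.sum_equiv (MulAction.toPerm g) _ _ (fun c => (inc_smul f hf g u c).symm)
  have htot : ∑ u, ∑ c, inc f hf u c = 0 := by
    rw [Finset.sum_comm]; simp [sum_col, h0]
  rw [Finset.sum_congr rfl (fun u _ => hconst u w), Finset.sum_const, nsmul_eq_mul] at htot
  exact (mul_eq_zero.mp htot).resolve_left (by simp [Fintype.card_ne_zero])

lemma gram [Fintype Ω] [Nonempty Ω] [DecidableEq Ω] [Fintype (G ⧸ H)]
    (h2 : IsMultiplyPretransitive G Ω 2) (f f' : Ω → ℝ)
    (hf : ∀ (h : H) (x : Ω), f ((h : G) • x) = f x)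
    (hf' : ∀ (h : H) (x : Ω), f' ((h : G) • x) = f' x) :
    ∃ a b : ℝ, ∀ u v, ∑ c, inc f hf u c * inc f' hf' v c = (if u = v then a else 0) + b := by
  have : IsPretransitive G Ω := isPretransitive_of_is_two_pretransitive
  set S : Ω → Ω → ℝ := fun u v => ∑ c, inc f hf u c * inc f' hf' v c
  have inv : ∀ (g : G) u v, S (g • u) (g • v) = S u v := fun g u v =>
    (Fintype.sum_equiv (MulAction.toPerm g) _ _ (fun c => by
      show _ = inc f hf (g • u) (g • c) * inc f' hf' (g • v) (g • c)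
      rw [inc_smul, inc_smul])).symm
  by_cases hnt : ∃ u v : Ω, u ≠ v
  · obtain ⟨u₀, v₀, h0⟩ := hnt
    refine ⟨S u₀ u₀ - S u₀ v₀, S u₀ v₀, fun u v => ?_⟩
    by_cases huv : u = v
    · subst huv
      obtain ⟨g, rfl⟩ := exists_smul_eq G u₀ u
      simpa using inv g u₀ u₀
    · obtain ⟨g, h1, h2'⟩ := is_two_pretransitive_iff.mp h2 h0 huv
      rw [if_neg huv, zero_add, ← h1, ← h2']
      exact inv g u₀ v₀
  · push_neg at hnt
    obtain ⟨u₀⟩ := ‹Nonempty Ω›
    exact ⟨S u₀ u₀, 0, fun u v => by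
      rw [if_pos (hnt u v), add_zero, hnt u u₀, hnt v u₀]⟩

lemma proportional [Fintype Ω] [DecidableEq Ω] [Nonempty Ω] [Fintype (G ⧸ H)]
    (h2 : IsMultiplyPretransitive G Ω 2) (hidx : Fintype.card (G ⧸ H) = Fintype.card Ω)
    (f f' : Ω → ℝ)
    (hf : ∀ (h : H) (x : Ω), f ((h : G) • x) = f x)
    (hf' : ∀ (h : H) (x : Ω), f' ((h : G) • x) = f' x)
    (hf0 : ∑ x, f x = 0) (hf0' : ∑ x, f' x = 0) (hne : f ≠ 0) : ∃ r : ℝ, f' = r • f := by
  have : IsPretransitive G Ω := isPretransitive_of_is_two_pretransitive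
  obtain ⟨σ⟩ : Nonempty (Ω ≃ G ⧸ H) := ⟨Fintype.equivOfCardEq hidx.symm⟩
  set n : ℝ := (Fintype.card Ω : ℝ) with hndef
  have hn : n ≠ 0 := by simp [n, Fintype.card_ne_zero]
  obtain ⟨c, d, hcd⟩ := gram h2 f f hf hf
  obtain ⟨a, b, hab⟩ := gram h2 f' f hf' hf
  have hsum : ∀ (φ ψ : Ω → ℝ) (hφ : ∀ (h : H) (x : Ω), φ ((h : G) • x) = φ x)
      (hψ : ∀ (h : H) (x : Ω), ψ ((h : G) • x) = ψ x), ∑ x, ψ x = 0 → ∀ p q : ℝ,
      (∀ u v, ∑ e, inc φ hφ u e * inc ψ hψ v e = (if u = v then p else 0) + q) →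
      p + n * q = 0 := by
    intro φ ψ hφ hψ hψ0 p q h
    obtain ⟨u⟩ := ‹Nonempty Ω›
    have e := Finset.sum_congr rfl (fun v (_ : v ∈ Finset.univ) => h u v)
    rw [Finset.sum_comm] at e
    simp only [← Finset.mul_sum, sum_col, hψ0, mul_zero, Finset.sum_const_zero,
      Finset.sum_add_distrib, Finset.sum_ite_eq, Finset.mem_univ, if_true, Finset.sum_const,
      nsmul_eq_mul] at e
    exact e.symm
  have hcd0 := hsum f f hf hf hf0 c d hcd
  have hab0 := hsum f' f hf' hf hf0 a b hab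
  have hcpos : c ≠ 0 := by
    intro hc0
    have hd0 : d = 0 := (mul_eq_zero.mp (show n * d = 0 by linarith)).resolve_left hn
    apply hne
    funext x
    have h := hcd x x
    rw [hc0, hd0] at h
    simp only [if_true, add_zero, ← sq] at h
    have h' := (Finset.sum_eq_zero_iff_of_nonneg (fun e _ => sq_nonneg _)).mp h
      ((1 : G) : G ⧸ H) (Finset.mem_univ _)
    have hx : inc f hf x ((1 : G) : G ⧸ H) = f x := by
      show f ((1 : G)⁻¹ • x) = f x
      rw [inv_one, one_smul]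
    rw [← hx]; exact pow_eq_zero_iff two_ne_zero |>.mp h'
  refine ⟨a / c, ?_⟩
  let B : Matrix Ω Ω ℝ := Matrix.of fun u v => inc f hf u (σ v) + 1
  let D : Matrix Ω Ω ℝ := Matrix.of fun u v => inc f' hf' u (σ v) - a / c * inc f hf u (σ v)
  have tr : ∀ e : Ω, ∀ φ : G ⧸ H → ℝ, ∑ v, φ (σ v) = ∑ k, φ k := fun _ φ =>
    Fintype.sum_equiv σ _ _ (fun _ => rfl)
  have hBB : ∀ u v, (B * Bᵀ) u v = (if u = v then c else 0) + d + n := by
    intro u v
    simp only [B, Matrix.mul_apply, Matrix.transpose_apply, Matrix.of_apply, add_mul, mul_add,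
      one_mul, mul_one, Finset.sum_add_distrib]
    rw [tr u (fun k => inc f hf u k * inc f hf v k), tr u (fun k => inc f hf v k),
      tr u (fun k => inc f hf u k), hcd, sum_row f hf hf0, sum_row f hf hf0]
    simp [n]
  have hdet : (B * Bᵀ).det ≠ 0 := by
    intro h0
    obtain ⟨w, hw, hw'⟩ := Matrix.exists_mulVec_eq_zero_iff.mpr h0
    have e : ∀ u, c * w u + (d + n) * ∑ v, w v = 0 := fun u => by
      have := congrFun hw' u
      simp only [Matrix.mulVec, dotProduct, hBB, Pi.zero_apply, add_mul, ite_mul, zero_mul,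
        Finset.sum_add_distrib, Finset.sum_ite_eq, Finset.mem_univ, if_true, ← Finset.mul_sum] at this
      linarith
    have htot : (c + n * d + n * n) * ∑ v, w v = 0 := by
      have := Finset.sum_congr rfl (fun u (_ : u ∈ Finset.univ) => e u)
      simp only [Finset.sum_add_distrib, ← Finset.mul_sum, Finset.sum_const, nsmul_eq_mul,
        Finset.card_univ, Finset.sum_const_zero, mul_zero] at this
      linear_combination this
    rw [hcd0, zero_add] at htot
    have hs : ∑ v, w v = 0 := (mul_eq_zero.mp htot).resolve_left (mul_ne_zero hn hn)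
    exact hw (funext fun u => by
      have := e u
      rw [hs, mul_zero, add_zero] at this
      exact (mul_eq_zero.mp this).resolve_left hcpos)
  have hDB : D * Bᵀ = 0 := by
    ext u v
    simp only [D, B, Matrix.mul_apply, Matrix.transpose_apply, Matrix.of_apply, sub_mul, mul_add,
      mul_one, mul_assoc, Finset.sum_sub_distrib, Finset.sum_add_distrib, ← Finset.mul_sum,
      Matrix.zero_apply]
    rw [tr u (fun k => inc f' hf' u k * inc f hf v k), tr u (fun k => inc f' hf' u k),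
      tr u (fun k => inc f hf u k * inc f hf v k),
      tr u (fun k => inc f hf u k), hab, hcd, sum_row f' hf' hf0', sum_row f hf hf0]
    have hd' : d = -c / n := by field_simp; linarith
    have hb' : b = -a / n := by field_simp; linarith
    split_ifs <;> rw [hd', hb'] <;> field_simp <;> ring
  have hD : D = 0 := by
    rw [Matrix.det_mul] at hdet
    have hu : IsUnit Bᵀ.det := isUnit_iff_ne_zero.mpr (right_ne_zero_of_mul hdet)
    have := congrArg (· * Bᵀ⁻¹) hDB
    simpa [Matrix.mul_assoc, Matrix.mul_nonsing_inv _ hu] using this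
  funext x
  have h := congrFun (congrFun hD x) (σ.symm ((1 : G) : G ⧸ H))
  simp only [D, Matrix.of_apply, Equiv.apply_symm_apply, Matrix.zero_apply, sub_eq_zero] at h
  have e : ∀ (φ : Ω → ℝ) (hφ : ∀ (k : H) (y : Ω), φ ((k : G) • y) = φ y),
      inc φ hφ x ((1 : G) : G ⧸ H) = φ x := fun φ hφ => by
    show φ ((1 : G)⁻¹ • x) = φ x
    rw [inv_one, one_smul]
  rw [e f' hf', e f hf] at h
  simpa using h

theorem result {G Ω : Type*} [Group G] [Finite G] [MulAction G Ω] [FaithfulSMul G Ω] [Finite Ω] (h2 : MulAction.IsMultiplyPretransitive G Ω 2) (H : Subgroup G) (hidx : H.index = Nat.card Ω) (hnt : ¬ MulAction.IsPretransitive H Ω) (hfix : ∀ a : Ω, ∃ h : H, h • a ≠ a) : Nat.card (MulAction.orbitRel.Quotient H Ω) = 2 := by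
  classical
  letI := Fintype.ofFinite Ω
  letI := Fintype.ofFinite (G ⧸ H)
  have hne : Nonempty Ω := by
    by_contra h
    rw [not_nonempty_iff] at h
    exact hnt ⟨fun x => isEmptyElim x⟩
  have hidx' : Fintype.card (G ⧸ H) = Fintype.card Ω := by
    rw [← Nat.card_eq_fintype_card, ← Nat.card_eq_fintype_card]; exact hidx
  set Q := MulAction.orbitRel.Quotient H Ω
  letI : Fintype Q := Fintype.ofFinite Q
  let q : Ω → Q := fun x => Quotient.mk _ x
  have hq : ∀ (h : H) (x : Ω), q ((h : G) • x) = q x := fun h x =>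
    Quotient.sound (MulAction.mem_orbit x h)
  have hlt : 1 < Nat.card Q := by
    rw [Finite.one_lt_card_iff_nontrivial]
    by_contra hc
    rw [not_nontrivial_iff_subsingleton] at hc
    refine hnt ⟨fun x y => ?_⟩
    obtain ⟨h, hh⟩ := Quotient.exact (Subsingleton.elim (q y) (q x))
    exact ⟨h, hh⟩
  by_contra h2'
  have h3 : 2 < Fintype.card Q := by rw [← Nat.card_eq_fintype_card]; omega
  obtain ⟨A, B, C, hAB, hAC, hBC⟩ := Fintype.two_lt_card_iff.mp h3
  let ind : Q → Ω → ℝ := fun P x => if q x = P then 1 else 0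
  let s : Q → ℝ := fun P => ∑ x, ind P x
  have hs : ∀ P, s P ≠ 0 := by
    intro P
    obtain ⟨x, rfl⟩ := Quotient.exists_rep P
    refine (Finset.sum_pos' (fun y _ => ?_) ⟨x, Finset.mem_univ x, ?_⟩).ne'
    · simp only [ind]; split_ifs <;> norm_num
    · simp [ind, q]
  let mk : Q → Q → Ω → ℝ := fun P P' x => s P' * ind P x - s P * ind P' x
  have hinv : ∀ P P' (h : H) (x : Ω), mk P P' ((h : G) • x) = mk P P' x := fun P P' h x => by
    simp only [mk, ind, hq]
  have h0 : ∀ P P', ∑ x, mk P P' x = 0 := fun P P' => by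
    simp only [mk, Finset.sum_sub_distrib, ← Finset.mul_sum]
    exact sub_eq_zero.mpr (mul_comm _ _)
  obtain ⟨xB, hxB⟩ := Quotient.exists_rep B
  obtain ⟨xC, hxC⟩ := Quotient.exists_rep C
  change q xB = B at hxB
  change q xC = C at hxC
  have e1 : mk A B xB = - s A := by simp [mk, ind, hxB, hAB.symm]
  have hnz : mk A B ≠ 0 := fun h => hs A (by
    have := congrFun h xB
    rw [e1] at this
    simpa using this)
  obtain ⟨r, hr⟩ := proportional h2 hidx' (mk A B) (mk A C) (hinv A B) (hinv A C) (h0 A B) (h0 A C) hnz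
  have eB := congrFun hr xB
  have eC := congrFun hr xC
  simp [mk, ind, hxB, hxC, hAB.symm, hAC.symm, hBC, hBC.symm, hs A] at eB eC

end Cfsg.Agent.S3704
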