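import Cfsg.Statements.S3707
import Mathlib
import Cfsg.Agent.Lib.Marggraf
-- import your own Cfsg.Agent.* helpers here

set_option autoImplicit false
open Cfsg

namespace Cfsg.Agent.S3707

open MulAction
open scoped Pointwise

/-- Let G be a finite primitive permutation group on Ω of degree n and Γ ⊂ Ω a subset with 1 < #Γ ≤ n/2 such that the pointwise stabilizer of Ω ∖ Γ is transitive on Γ. Then G is 3-transitive on Ω. -/
theorem result {G Ω : Type*} [Group G] [Finite G] [MulAction G Ω] [FaithfulSMul G Ω] [Finite Ω] (hprim : MulAction.IsPreprimitive G Ω) (Γ : Set Ω) (h1 : 1 < Γ.ncard) (h2 : 2 * Γ.ncard ≤ Nat.card Ω) (htr : ∀ x ∈ Γ, ∀ y ∈ Γ, ∃ g : G, (∀ z ∉ Γ, g • z = z) ∧ g • x = y) : MulAction.IsMultiplyPretransitive G Ω 3 := by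
  classical
  haveI := hprim
  cases nonempty_fintype Ω
  have hn : Nat.card Ω = Fintype.card Ω := Nat.card_eq_fintype_card
  rcases lt_or_eq_of_le h2 with hlt | heq
  · -- the group contains the alternating group
    have hm : Γ.toFinite.toFinset.card = Γ.ncard := (Set.ncard_eq_toFinset_card Γ).symm
    have hqp : ∀ N : Subgroup G, N.Normal → N ≠ ⊥ → MulAction.IsPretransitive ↥N Ω := by
      intro N hN hN1
      haveI := hN
      refine IsQuasiPreprimitive.isPretransitive_of_normal fun h => hN1 ?_
      rw [Subgroup.eq_bot_iff_forall]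
      intro g hg
      refine eq_of_smul_eq_smul fun w : Ω => ?_
      have hw : w ∈ fixedPoints N Ω := by rw [h]; trivial
      rw [one_smul]
      exact hw ⟨g, hg⟩
    have halt := Cfsg.Agent.Marggraf.quasiprimitive_alternating hqp Γ.toFinite.toFinset
      (fun a ha b hb => by
        rw [Set.Finite.mem_toFinset] at ha hb
        obtain ⟨g, hg, hgab⟩ := htr a ha b hb
        exact ⟨g, fun w hw => hg w (by simpa using hw), hgab⟩)
      (by rw [hm]; omega) (by rw [hm]; omega)
    have hA := alternatingGroup.isMultiplyPretransitive Ω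
    have h3 : IsMultiplyPretransitive (alternatingGroup Ω) Ω 3 :=
      isMultiplyPretransitive_of_le (n := Nat.card Ω - 2) (by omega) (Nat.sub_le _ _)
    refine ⟨fun e e' => ?_⟩
    obtain ⟨⟨σ, hσ⟩, hs⟩ := exists_smul_eq (alternatingGroup Ω) e e'
    obtain ⟨g, hg⟩ := halt σ hσ
    refine ⟨g, Function.Embedding.ext fun i => ?_⟩
    have h := congrFun (congrArg DFunLike.coe hs) i
    have h' : σ (e i) = e' i := h
    rw [← hg] at h'
    exact h'
  · -- the Jordan set is half of the points
    obtain ⟨a, haΓ⟩ : ∃ a, a ∉ Γ := by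
      by_contra h
      push Not at h
      rw [Set.eq_univ_of_forall h, Set.ncard_univ] at heq h1
      omega
    obtain ⟨j, hj⟩ : ∃ j, Γ.ncard = j + 2 := ⟨Γ.ncard - 2, by omega⟩
    have hmem : ∀ x, x ∈ SubMulAction.ofFixingSubgroup G Γᶜ → x ∈ Γ := fun x hx => by
      simpa [SubMulAction.mem_ofFixingSubgroup_iff] using hx
    have hJ : IsPretransitive (fixingSubgroup G Γᶜ) (SubMulAction.ofFixingSubgroup G Γᶜ) :=
      ⟨fun p q => by
        obtain ⟨g, hg, hpq⟩ := htr _ (hmem p p.2) _ (hmem q q.2)
        exact ⟨⟨g, (mem_fixingSubgroup_iff G).2 fun w hw => hg w hw⟩, Subtype.ext hpq⟩⟩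
    have h2t : IsMultiplyPretransitive G Ω 2 :=
      hprim.is_two_pretransitive (n := j + 1) (by rw [Set.ncard_compl]; omega) (by omega) hJ
    rw [SubMulAction.ofStabilizer.isMultiplyPretransitive (n := 2) (a := a)]
    set H := stabilizer G a
    set P := SubMulAction.ofStabilizer G a
    have hP : Nat.card P + 1 = Nat.card Ω := SubMulAction.nat_card_ofStabilizer_add_one_eq G a
    have ht : IsPretransitive H P :=
      is_one_pretransitive_iff.1 ((SubMulAction.ofStabilizer.isMultiplyPretransitive (n := 1) (a := a)).1 h2t)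
    set Γ' : Set P := {x | (x : Ω) ∈ Γ} with hΓ'
    have hΓ'card : Γ'.ncard = Γ.ncard := by
      rw [← Set.ncard_image_of_injective Γ' Subtype.val_injective]
      congr 1
      ext x
      refine ⟨fun ⟨y, hy, hyx⟩ => hyx ▸ hy, fun hx => ⟨⟨x, ?_⟩, hx, rfl⟩⟩
      exact (SubMulAction.mem_ofStabilizer_iff G a).2 fun h => haΓ (h ▸ hx)
    have hjord : ∀ p ∈ Γ', ∀ q ∈ Γ', ∃ h : H, (∀ w ∉ Γ', h • w = w) ∧ h • p = q := by
      intro p hp q hq
      obtain ⟨g, hg, hpq⟩ := htr _ hp _ hq
      exact ⟨⟨g, hg a haΓ⟩, fun w hw => Subtype.ext (hg _ hw), Subtype.ext hpq⟩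
    have hPprim : IsPreprimitive H P := by
      refine { ht with isTrivialBlock_of_isBlock := ?_ }
      intro B hB
      by_contra hnot
      simp only [IsTrivialBlock, not_or] at hnot
      obtain ⟨hsub, huniv⟩ := hnot
      obtain ⟨x0, hx0, y0, hy0, hxy0⟩ := Set.not_subsingleton_iff.1 hsub
      have hb2 : 2 ≤ B.ncard := (Set.one_lt_ncard (Set.toFinite B)).2 ⟨x0, hx0, y0, hy0, hxy0⟩
      obtain ⟨c, hc⟩ := hB.ncard_dvd_card ⟨x0, hx0⟩
      have hc3 : 3 ≤ c := by
        rcases c with - | - | - | c
        · omega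
        · exfalso
          refine huniv (Set.eq_of_subset_of_ncard_le (Set.subset_univ B) ?_)
          rw [Set.ncard_univ, hc]; simp
        · omega
        · omega
      have hbm : B.ncard < Γ.ncard := by nlinarith
      choose g hg using fun x : P => exists_smul_eq H x0 x
      let f : P → Finset P := fun x => (g x • B).toFinite.toFinset
      have hself : ∀ x, x ∈ g x • B := fun x => by
        have := Set.smul_mem_smul_set (a := g x) hx0
        rwa [hg x] at this
      have hmeet : ∀ x y, y ∈ g x • B → g y • B = g x • B := by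
        intro x y hy
        by_contra hne
        exact Set.disjoint_left.1 (hB hne) (hself y) hy
      have hunion : ∀ x ∈ Γ', g x • B ⊆ Γ' := by
        intro x hx y hy
        by_contra hyΓ
        have hle : Γ' ⊆ g x • B := by
          intro z hz
          obtain ⟨h, hfix, hhx⟩ := hjord x hx z hz
          have h3 : h • (g x • B) = g x • B :=
            (isBlock_iff_smul_eq_of_nonempty.1 (hB.translate (g x)))
              ⟨y, ⟨y, hy, hfix y hyΓ⟩, hy⟩
          rw [← h3, ← hhx]
          exact Set.smul_mem_smul_set (hself x)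
        have := Set.ncard_le_ncard hle
        rw [hΓ'card, Set.ncard_smul_set] at this
        omega
      let s : Finset P := Γ'.toFinite.toFinset
      have hfib : ∀ b ∈ s.image f, (s.filter fun z => f z = b).card = B.ncard := by
        intro b hb
        obtain ⟨x, hx, rfl⟩ := Finset.mem_image.1 hb
        rw [Set.Finite.mem_toFinset] at hx
        have e : (s.filter fun z => f z = f x) = f x := by
          ext z
          simp only [f, s, Finset.mem_filter, Set.Finite.mem_toFinset, Set.Finite.toFinset_inj]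
          exact ⟨fun h => h.2 ▸ hself z, fun h => ⟨hunion x hx h, hmeet x z h⟩⟩
        rw [e, ← Set.ncard_eq_toFinset_card, Set.ncard_smul_set]
      have hcount := Finset.card_eq_sum_card_image f s
      rw [Finset.sum_congr rfl hfib, Finset.sum_const, smul_eq_mul] at hcount
      rw [show s.card = Γ'.ncard from (Set.ncard_eq_toFinset_card Γ').symm, hΓ'card] at hcount
      have hbdvd : B.ncard ∣ 1 := by
        have hd1 : B.ncard ∣ Γ.ncard := ⟨(s.image f).card, by rw [hcount, mul_comm]⟩
        have hd2 : B.ncard ∣ Nat.card P := ⟨c, hc⟩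
        have h := Nat.dvd_sub (hd1.mul_left 2) hd2
        rwa [show 2 * Γ.ncard - Nat.card P = 1 by omega] at h
      have := Nat.le_of_dvd one_pos hbdvd
      omega
    have hJP : IsPretransitive (fixingSubgroup H Γ'ᶜ) (SubMulAction.ofFixingSubgroup H Γ'ᶜ) := by
      refine ⟨fun p q => ?_⟩
      have hm : ∀ x, x ∈ SubMulAction.ofFixingSubgroup H Γ'ᶜ → x ∈ Γ' := fun x hx => by
        simpa [SubMulAction.mem_ofFixingSubgroup_iff] using hx
      obtain ⟨h, hfix, hpq⟩ := hjord _ (hm p p.2) _ (hm q q.2)
      exact ⟨⟨h, (mem_fixingSubgroup_iff _).2 fun w hw => hfix w hw⟩, Subtype.ext hpq⟩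
    exact hPprim.is_two_pretransitive (n := j) (by rw [Set.ncard_compl, hΓ'card]; omega) (by omega) hJP

end Cfsg.Agent.S3707
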