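import Cfsg.Statements.S3716
import Cfsg.Agent.Lib.SelfCentNineReduce64

set_option autoImplicit false
open Cfsg Cfsg.Agent.SelfCentNineLoc64 Cfsg.Agent.SelfCentNineReduce64

namespace Cfsg.Agent.S3716

/-- Let G be a finite group with an elementary abelian Sylow 3-subgroup M of order 9 which is self-centralizing (C_G(M) = M), let N = N_G(M), and suppose C_G(g) ≤ N for every nonidentity g ∈ M. If the Sylow 2-subgroups of N are dihedral of order 8, then G is not simple. -/
theorem result {G : Type*} [Group G] [Finite G] (M : Sylow 3 G) (hM9 : Nat.card ↥(M : Subgroup G) = 9)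
    (hMel : ∀ m ∈ (M : Subgroup G), m ^ 3 = 1)
    (hCM : Subgroup.centralizer ((M : Subgroup G) : Set G) = (M : Subgroup G))
    (N : Subgroup G) (hN : N = Subgroup.normalizer ((M : Subgroup G) : Set G))
    (hCg : ∀ g ∈ (M : Subgroup G), g ≠ 1 → Subgroup.centralizer ({g} : Set G) ≤ N)
    (hS : ∀ S : Sylow 2 ↥N, Nonempty (↥(S : Subgroup ↥N) ≃* DihedralGroup 4)) :
    ¬ IsSimpleGroup G := by
  intro hs
  haveI := hs
  subst hN
  have hcomm : ∀ a ∈ (M : Subgroup G), ∀ b ∈ (M : Subgroup G), a * b = b * a := fun a ha b hb =>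
    (Subgroup.mem_centralizer_iff.1 (hCM.ge ha) b hb).symm
  have h := Loc.of_sylow M rfl hcomm hMel hM9 hCM hCg
  have hG : ¬ IsMulCommutative G := fun hc => by
    have htop : (M : Subgroup G) = ⊤ := by
      rw [← hCM, eq_top_iff]
      exact fun g _ => Subgroup.mem_centralizer_iff.2 fun s _ => hc.is_comm.comm s g
    haveI := hc
    open scoped IsMulCommutative in
    have hp := IsSimpleGroup.prime_card (α := G)
    rw [← Subgroup.card_top, ← htop, hM9] at hp
    norm_num at hp
  set N := Subgroup.normalizer ((M : Subgroup G) : Set G) with hNdef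
  haveI : Fact (Nat.Prime 2) := ⟨Nat.prime_two⟩
  obtain ⟨Q⟩ : Nonempty (Sylow 2 N) := inferInstance
  obtain ⟨eQ⟩ := hS Q
  have hQ8 : Nat.card (Q : Subgroup N) = 8 := by
    rw [Nat.card_congr eQ.toEquiv, DihedralGroup.nat_card]
  haveI hn : ((M : Subgroup G).subgroupOf N).Normal := Subgroup.normal_in_normalizer
  have hM' : Nat.card ((M : Subgroup G).subgroupOf N) = 9 := by
    rw [Nat.card_congr (Subgroup.subgroupOfEquivOfLe Subgroup.le_normalizer).toEquiv, hM9]
  have hN72 : Nat.card N = 72 := by
    obtain ⟨u, hu, hu1⟩ := (Subgroup.bot_or_exists_ne_one (M : Subgroup G)).resolve_left fun e => by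
      rw [e, Subgroup.card_bot] at hM9
      norm_num at hM9
    classical
    haveI := Fintype.ofFinite G
    have hle : (cls (M : Subgroup G) u).card ≤ 9 := by
      have := Finset.card_le_card (show cls (M : Subgroup G) u ⊆ Finset.univ.filter (fun s => s ∈ (M : Subgroup G)) from
        fun z hz => Finset.mem_filter.2 ⟨Finset.mem_univ _, (mem_cls.1 hz).1⟩)
      rwa [← Fintype.card_subtype, ← Nat.card_eq_fintype_card, hM9] at this
    have hle8 : (cls (M : Subgroup G) u).card ≤ 8 := by
      by_contra hh
      have h1 : (1 : G) ∈ cls (M : Subgroup G) u := by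
        have he : cls (M : Subgroup G) u = Finset.univ.filter (fun s => s ∈ (M : Subgroup G)) :=
          Finset.eq_of_subset_of_card_le (fun z hz => Finset.mem_filter.2 ⟨Finset.mem_univ _, (mem_cls.1 hz).1⟩)
            (by rw [← Fintype.card_subtype, ← Nat.card_eq_fintype_card, hM9]; omega)
        rw [he]
        simp
      exact hu1 (isConj_one_left.1 (mem_cls.1 h1).2)
    have hd := Subgroup.card_subgroup_dvd_card (Q : Subgroup N)
    rw [hQ8] at hd
    have hi := Q.not_dvd_index
    have hm := (Q : Subgroup N).card_mul_index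
    rw [hQ8] at hm
    have hcl := h.card_cls hu hu1
    rw [← hNdef] at hcl
    rcases h.card_centralizer hu hu1 with e | e <;> rw [e] at hcl <;> omega
  have hinj : Function.Injective ((QuotientGroup.mk' ((M : Subgroup G).subgroupOf N)).comp (Q : Subgroup N).subtype) := by
    rw [injective_iff_map_eq_one]
    intro x hx
    have hxM : (x : N) ∈ (M : Subgroup G).subgroupOf N := (QuotientGroup.eq_one_iff _).1 hx
    have h1 := Subgroup.orderOf_dvd_natCard (Q : Subgroup N) x.2
    have h2 := Subgroup.orderOf_dvd_natCard _ hxM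
    rw [hQ8] at h1
    rw [hM'] at h2
    have h3 := Nat.eq_one_of_dvd_coprimes (by norm_num : Nat.Coprime 8 9) h1 h2
    exact Subtype.ext (orderOf_eq_one_iff.1 h3)
  have hbij := (Nat.bijective_iff_injective_and_card _).2 ⟨hinj, by
    rw [hQ8]
    have := Subgroup.card_eq_card_quotient_mul_card_subgroup ((M : Subgroup G).subgroupOf N)
    rw [hN72, hM'] at this
    omega⟩
  refine SelfCentNineD8_64.d8_false hG h hN72 (all_eighteen h ?_)
  rw [five_involutions ((MulEquiv.ofBijective _ hbij).symm.trans eQ)]

end Cfsg.Agent.S3716
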