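import Cfsg.Statements.S3718
import Cfsg.Agent.Lib.OneComposite91
import Cfsg.Agent.Lib.CITRecog39
import Cfsg.Agent.Lib.CITClassifyIso46
import Cfsg.Agent.Lib.TwoQ27SmallRank
import Cfsg.Agent.Lib.TwoQ27Large

set_option autoImplicit false
open Cfsg

namespace Cfsg.Agent.S3718

theorem two_q {M : Type*} [Group M] [Finite M] [IsSimpleGroup M] (hna : ∃ a b : M, a * b ≠ b * a)
    {q : ℕ} (hq : q.Prime) (hq2 : q ≠ 2) (h1 : ∃ g : M, orderOf g = 2 * q)
    (h2 : ∀ g : M, (2 ∣ orderOf g ∨ q ∣ orderOf g) → orderOf g = 2 ∨ orderOf g = q ∨ orderOf g = 2 * q) :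
    ∃ (F : Type) (_ : Field F) (_ : Fintype F), Odd (Fintype.card F) ∧
      Nonempty (M ≃* Matrix.ProjectiveSpecialLinearGroup (Fin 2) F) := by
  classical
  have h : TwoQ27.TwoQ M q := by
    refine ⟨hq, hq2, fun g hg => ?_, fun g hg => ?_⟩
    · rcases h2 g (Or.inl hg) with e | e | e
      · exact Or.inl e
      · rw [e] at hg
        exact absurd ((Nat.prime_dvd_prime_iff_eq Nat.prime_two hq).1 hg).symm hq2
      · exact Or.inr e
    · rcases h2 g (Or.inr hg) with e | e | e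
      · rw [e] at hg
        exact absurd ((Nat.prime_dvd_prime_iff_eq hq Nat.prime_two).1 hg) hq2
      · exact Or.inl e
      · exact Or.inr e
  obtain ⟨S⟩ := (inferInstance : Nonempty (Sylow 2 M))
  have h4 := h.card_sylow_eq_four hna h1 S
  rcases h.small_rank hna h1 S h4 with ⟨hc, hne⟩ | ⟨-, hiso⟩
  · exact (h.centralised_core_false hna S h4.ge hc hne).elim
  · exact hiso

/-- Let G be a finite simple group whose set of element orders contains at most one composite number (at most one element order that is neither 1 nor a prime). Then G is cyclic of prime order, or isomorphic to PSL₂(q) for q ∈ {5, 7, 8, 9, 11, 13, 16}, to PSL₃(4), to the Suzuki group Sz(8), to PSL₂(3ⁿ) with (3ⁿ − 1)/2 and (3ⁿ + 1)/4 both prime, or to PSL₂(2ⁿ) with 2ⁿ − 1 and (2ⁿ + 1)/3 both prime. -/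
theorem result {G : Type*} [Group G] [Finite G] [IsSimpleGroup G]
    (h1 : {n : ℕ | n ∈ Set.range (orderOf : G → ℕ) ∧ 1 < n ∧ ¬ n.Prime}.Subsingleton) :
    (Nat.card G).Prime ∨
    (∃ (F : Type) (_ : Field F) (_ : Fintype F), (Fintype.card F = 5 ∨ Fintype.card F = 7 ∨ Fintype.card F = 8 ∨ Fintype.card F = 9 ∨
        Fintype.card F = 11 ∨ Fintype.card F = 13 ∨ Fintype.card F = 16) ∧ Nonempty (G ≃* Matrix.ProjectiveSpecialLinearGroup (Fin 2) F)) ∨
    (∃ (F : Type) (_ : Field F) (_ : Fintype F), Fintype.card F = 4 ∧ Nonempty (G ≃* Matrix.ProjectiveSpecialLinearGroup (Fin 3) F)) ∨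
    (∃ (F : Type) (_ : Field F) (_ : Fintype F), Fintype.card F = 8 ∧ Nonempty (G ≃* ↥(Cfsg.Lie.Sz F 4))) ∨
    (∃ (F : Type) (_ : Field F) (_ : Fintype F), ∃ n r s : ℕ, r.Prime ∧ s.Prime ∧ 3 ^ n - 1 = 2 * r ∧ 3 ^ n + 1 = 4 * s ∧
        Fintype.card F = 3 ^ n ∧ Nonempty (G ≃* Matrix.ProjectiveSpecialLinearGroup (Fin 2) F)) ∨
    (∃ (F : Type) (_ : Field F) (_ : Fintype F), ∃ n r : ℕ, (2 ^ n - 1).Prime ∧ r.Prime ∧ 2 ^ n + 1 = 3 * r ∧
        Fintype.card F = 2 ^ n ∧ Nonempty (G ≃* Matrix.ProjectiveSpecialLinearGroup (Fin 2) F)) := by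
  classical
  by_cases hG : ∀ a b : G, a * b = b * a
  · letI : CommGroup G := { ‹Group G› with mul_comm := hG }
    exact Or.inl IsSimpleGroup.prime_card
  push Not at hG
  right
  by_cases hCIT : ∀ r : ℕ, r.Prime → r ≠ 2 → PrimeGraphSolvable.NoEdge G 2 r
  · rcases CITClassifyIso46.classify hG (CITRecog39.cit_of_noEdge hCIT) with
      ⟨F, _, _, ⟨e⟩⟩ | h | ⟨F, _, _, m, hm, hF, ⟨e⟩⟩
    · rcases OneComposite91.psl_cases h1 F e with h | h | h
      · exact Or.inl h
      · exact Or.inr (Or.inr (Or.inr (Or.inl h)))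
      · exact Or.inr (Or.inr (Or.inr (Or.inr h)))
    · exact Or.inr (Or.inl h)
    · haveI := SuzukiGroupBasic.Param.mk' hm hF
      have h8 : m = 1 := OneComposite91.suzuki_eight (F := F)
        ((show OneComposite91.One G from h1).of_equiv (e.trans SuzukiGroupLie.lieEquiv))
      subst h8
      exact Or.inr (Or.inr (Or.inl ⟨F, inferInstance, inferInstance, hF, ⟨e⟩⟩))
  · push Not at hCIT
    obtain ⟨r, hr, hr2, hx⟩ := hCIT
    obtain ⟨x, hx⟩ : ∃ x : G, orderOf x = 2 * r := by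
      simpa [PrimeGraphSolvable.NoEdge] using hx
    have hcomp : ¬ (2 * r).Prime := Nat.not_prime_mul (by omega) hr.ne_one
    obtain ⟨F, _, _, -, ⟨e⟩⟩ := two_q hG hr hr2 ⟨x, hx⟩ (by
      intro g hg
      by_cases hgp : (orderOf g).Prime
      · rcases hg with h | h
        · exact Or.inl ((Nat.prime_dvd_prime_iff_eq Nat.prime_two hgp).1 h).symm
        · exact Or.inr (Or.inl ((Nat.prime_dvd_prime_iff_eq hr hgp).1 h).symm)
      · have h1g : 1 < orderOf g := by
          rcases Nat.lt_or_ge 1 (orderOf g) with h | h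
          · exact h
          · have h0 := orderOf_pos g
            have e1 : orderOf g = 1 := by omega
            rw [e1] at hg
            have := hr.two_le
            rcases hg with h | h <;> have := Nat.le_of_dvd one_pos h <;> omega
        exact Or.inr (Or.inr (h1 ⟨⟨g, rfl⟩, h1g, hgp⟩ ⟨⟨x, hx⟩, by have := hr.two_le; omega, hcomp⟩)))
    rcases OneComposite91.psl_cases h1 F e with h | h | h
    · exact Or.inl h
    · exact Or.inr (Or.inr (Or.inr (Or.inl h)))
    · exact Or.inr (Or.inr (Or.inr (Or.inr h)))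

end Cfsg.Agent.S3718
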