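import Cfsg.Statements.S3726
import Cfsg.Agent.Lib.EqualFixity79Main
-- import your own Cfsg.Agent.* helpers here

set_option autoImplicit false
open Cfsg

namespace Cfsg.Agent.S3726

/-- Let a finite group G act faithfully and 2-transitively on a finite set Ω, and suppose there is an involution t of G, fixing exactly i points, such that every non-identity element of the centralizer of t also fixes exactly i points. Then G is isomorphic to PSL₂(q) for some finite field of order q, or to a Suzuki group Sz(q) (q = 2^(2m+1) ≥ 8), or G has a normal subgroup acting regularly on Ω. -/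
theorem result {G Ω : Type*} [Group G] [Finite G] [Fintype Ω] [MulAction G Ω] [FaithfulSMul G Ω]
    (h2 : MulAction.IsMultiplyPretransitive G Ω 2) (i : ℕ) (t : G) (ht : orderOf t = 2)
    (hti : Nat.card {x : Ω // t • x = x} = i)
    (hC : ∀ g : G, Commute g t → g ≠ 1 → Nat.card {x : Ω // g • x = x} = i) :
    (∃ (F : Type) (_ : Field F) (_ : Fintype F), Nonempty (G ≃* Matrix.ProjectiveSpecialLinearGroup (Fin 2) F)) ∨
    Cfsg.Lie.IsoSuzuki G ∨
    (∃ R : Subgroup G, R.Normal ∧ (∀ x y : Ω, ∃ r ∈ R, r • x = y) ∧ ∀ x : Ω, ∀ r ∈ R, r • x = x → r = 1) := by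
  classical
  have ht1 : t ≠ 1 := fun h => by
    rw [h, orderOf_one] at ht
    omega
  have ht2 : t * t = 1 := by
    have := pow_orderOf_eq_one t
    rwa [ht, pow_two] at this
  obtain ⟨a, ha⟩ : ∃ a : Ω, t • a ≠ a := by
    by_contra h
    push Not at h
    exact ht1 (eq_of_smul_eq_smul fun a : Ω => by rw [h a, one_smul])
  by_cases hn : 3 ≤ Nat.card Ω
  · exact EqualFixity79.classify (t := t) (i := i) ⟨h2, ht1, ht2, hti, hC⟩ hn
  · have hall : ∀ y : Ω, y = a ∨ y = t • a := fun y => by
      by_contra h
      push Not at h
      refine hn ?_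
      rw [Nat.card_eq_fintype_card]
      have := Finset.card_le_univ ({y, a, t • a} : Finset Ω)
      rwa [Finset.card_eq_three.2 ⟨y, a, t • a, h.1, h.2, ha.symm, rfl⟩] at this
    refine Or.inr (Or.inr ⟨⊤, inferInstance, fun x y => ?_, fun x r _ hrx => ?_⟩)
    · haveI := MulAction.isPretransitive_of_is_two_pretransitive (h2 := h2)
      obtain ⟨g, hg⟩ := MulAction.exists_smul_eq G x y
      exact ⟨g, Subgroup.mem_top g, hg⟩
    · refine eq_of_smul_eq_smul fun y : Ω => ?_
      rw [one_smul]
      rcases eq_or_ne y x with rfl | hyx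
      · exact hrx
      · have hne : r • y ≠ x := fun e => hyx (MulAction.injective r (e.trans hrx.symm))
        rcases hall x with hx | hx <;> rcases hall y with hy | hy <;>
          rcases hall (r • y) with hr | hr <;>
            first
              | exact absurd (hy.trans hx.symm) hyx
              | exact absurd (hr.trans hx.symm) hne
              | exact hr.trans hy.symm


end Cfsg.Agent.S3726
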