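import Cfsg.Statements.S3730
import Cfsg.Agent.Lib.EvenCyclicAut27
-- import your own Cfsg.Agent.* helpers here

set_option autoImplicit false
open Cfsg

namespace Cfsg.Agent.S3730

/-- Let G be a nontrivial finite group with no nontrivial solvable normal subgroup, such that for every cyclic subgroup X of even order and every nontrivial subgroup Y of X one has N_G(X) = N_G(Y) (every nontrivial subgroup of a cyclic subgroup of even order has the same normalizer as the whole cyclic subgroup). Then G is isomorphic to PSL(2, q) or to PGL(2, q) for some prime power q > 3. -/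
theorem result
    {G : Type*} [Group G] [Finite G] [Nontrivial G]
    (hss : ∀ N : Subgroup G, N.Normal → Group.IsSolvable ↥N → N = ⊥)
    (hii : ∀ X : Subgroup G, IsCyclic ↥X → Even (Nat.card ↥X) → ∀ Y : Subgroup G, Y ≤ X → Y ≠ ⊥ →
      Subgroup.normalizer (X : Set G) = Subgroup.normalizer (Y : Set G)) :
    ∃ (F : Type) (_ : Field F) (_ : Fintype F), 3 < Fintype.card F ∧
      (Nonempty (G ≃* Matrix.ProjectiveSpecialLinearGroup (Fin 2) F) ∨
        Nonempty (G ≃* Matrix.ProjGenLinGroup (Fin 2) F)) := by
  rcases EvenCyclic27.main_cases (G := G) hss hii with ⟨F, iF, iF', hF, h3, ⟨e⟩⟩ | hD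
  · haveI := hF
    have hb : Subgroup.center (Matrix.SpecialLinearGroup (Fin 2) F) = ⊥ :=
      (Subgroup.eq_bot_iff_forall _).2 EvenCyclic27.sl2_center_trivial
    exact ⟨F, iF, iF', h3, Or.inl ⟨e.trans
      (QuotientGroup.quotientBot.symm.trans (QuotientGroup.quotientMulEquivOfEq hb.symm))⟩⟩
  · obtain ⟨M, hMn, hMs, hna, hC⟩ := EvenCyclic27.exists_simple_normal hss hD
    haveI := hMn
    haveI := hMs
    have hg := EvenCyclic27.isSimple_good M hna
    obtain ⟨F, iF, iF', hodd, h3, ⟨e⟩⟩ :=
      EvenCyclic27.simple_psl hna (EvenCyclic27.EC.to_subgroup hii M) (hD.to_subgroup M hg)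
    exact ⟨F, iF, iF', h3, EvenCyclic27.psl_or_pgl hii hD M hg hC hodd e⟩

end Cfsg.Agent.S3730
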