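import Cfsg.Statements.S3733
import Mathlib
-- import your own Cfsg.Agent.* helpers here

set_option autoImplicit false
open Cfsg

namespace Cfsg.Agent.S3733


/-- Let A and V be subgroups of a finite group with V abelian and nontrivial and A normalizing V. Suppose a nonempty finite family of proper subgroups of A partitions A: every non-identity element of A lies in exactly one member. If the number of members minus one is coprime to the order of V, then some member B of the family has a non-identity fixed point on V, that is V ∩ C(B) ≠ 1. -/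
theorem result {G : Type*} [Group G] [Finite G] (A V : Subgroup G) (hVab : IsMulCommutative V) (hV : V ≠ ⊥) (hAV : A ≤ Subgroup.normalizer (V : Set G)) (𝒜 : Finset (Subgroup G)) (hne : 𝒜.Nonempty) (hprop : ∀ B ∈ 𝒜, B < A) (hpart : ∀ a ∈ A, a ≠ 1 → ∃! B, B ∈ 𝒜 ∧ a ∈ B) (hk : (𝒜.card - 1).Coprime (Nat.card V)) : ∃ B ∈ 𝒜, V ⊓ Subgroup.centralizer (B : Set G) ≠ ⊥ := by
  classical
  haveI : Fintype G := Fintype.ofFinite G
  letI : CommGroup V := { (inferInstance : Group V) with mul_comm := fun a b => hVab.is_comm.comm a b }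
  by_contra hcon
  push Not at hcon
  obtain ⟨⟨v, hvV⟩, hv⟩ : ∃ v : V, v ≠ 1 := by
    by_contra h
    push Not at h
    exact hV ((Subgroup.eq_bot_iff_forall V).2 fun x hx => congrArg Subtype.val (h ⟨x, hx⟩))
  have hconj : ∀ a ∈ A, a * v * a⁻¹ ∈ V := fun a ha => (Subgroup.mem_normalizer_iff.1 (hAV ha) v).1 hvV
  let f : G → V := fun a => if h : a ∈ A then ⟨a * v * a⁻¹, hconj a h⟩ else 1
  let S : Subgroup G → Finset G := fun B => Finset.univ.filter (fun a => a ∈ B)
  have hS : ∀ B : Subgroup G, B ≤ A → V ⊓ Subgroup.centralizer (B : Set G) = ⊥ → ∏ a ∈ S B, f a = 1 := by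
    intro B hBA hB
    have hfix : ∀ b ∈ B, b * ((∏ a ∈ S B, f a : V) : G) * b⁻¹ = ((∏ a ∈ S B, f a : V) : G) := by
      intro b hb
      let φ : V →* V :=
        { toFun := fun w => ⟨b * w * b⁻¹, (Subgroup.mem_normalizer_iff.1 (hAV (hBA hb)) w).1 w.2⟩
          map_one' := by ext; simp
          map_mul' := fun x y => by ext; simp [mul_assoc] }
      have : φ (∏ a ∈ S B, f a) = ∏ a ∈ S B, f a := by
        rw [map_prod]
        refine Finset.prod_nbij' (fun a => b * a) (fun a => b⁻¹ * a) ?_ ?_ ?_ ?_ ?_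
        · intro a ha
          simp only [S, Finset.coe_filter, Set.mem_setOf_eq, Finset.mem_filter, Finset.mem_univ, true_and] at ha ⊢
          exact mul_mem hb ha
        · intro a ha
          simp only [S, Finset.coe_filter, Set.mem_setOf_eq, Finset.mem_filter, Finset.mem_univ, true_and] at ha ⊢
          exact mul_mem (inv_mem hb) ha
        · intro a _; simp
        · intro a _; simp
        · intro a ha
          simp only [S, Finset.mem_filter, Finset.mem_univ, true_and] at ha
          apply Subtype.ext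
          show b * (f a : G) * b⁻¹ = (f (b * a) : G)
          simp only [f, dif_pos (hBA ha), dif_pos (mul_mem (hBA hb) (hBA ha))]
          group
      exact congrArg Subtype.val this
    have hm : ((∏ a ∈ S B, f a : V) : G) ∈ V ⊓ Subgroup.centralizer (B : Set G) := by
      refine ⟨(∏ a ∈ S B, f a : V).2, ?_⟩
      refine Subgroup.mem_centralizer_iff.2 ?_
      intro b hb
      exact eq_mul_inv_iff_mul_eq.1 (hfix b hb).symm |>.symm
    rw [hB, Subgroup.mem_bot] at hm
    exact Subtype.ext hm
  have hf1 : f 1 = ⟨v, hvV⟩ := by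
    simp only [f, dif_pos (one_mem A)]
    ext; simp
  have he : ∀ B : Subgroup G, B ≤ A → V ⊓ Subgroup.centralizer (B : Set G) = ⊥ → ∏ a ∈ (S B).erase 1, f a = (⟨v, hvV⟩ : V)⁻¹ := by
    intro B hBA hB
    have := hS B hBA hB
    rw [← Finset.mul_prod_erase _ f (show (1 : G) ∈ S B by simp [S, one_mem]), hf1] at this
    exact eq_inv_of_mul_eq_one_right this
  have hA : V ⊓ Subgroup.centralizer (A : Set G) = ⊥ := by
    obtain ⟨B, hB⟩ := hne
    refine eq_bot_iff.2 (le_trans ?_ (hcon B hB).le)
    exact inf_le_inf le_rfl (Subgroup.centralizer_le (hprop B hB).le)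
  have hU : (S A).erase 1 = 𝒜.biUnion (fun B => (S B).erase 1) := by
    ext a
    simp only [S, Finset.mem_erase, Finset.mem_filter, Finset.mem_univ, true_and, Finset.mem_biUnion]
    constructor
    · rintro ⟨h1, ha⟩
      obtain ⟨B, ⟨hB, haB⟩, -⟩ := hpart a ha h1
      exact ⟨B, hB, h1, haB⟩
    · rintro ⟨B, hB, h1, haB⟩
      exact ⟨h1, (hprop B hB).le haB⟩
  have hD : (𝒜 : Set (Subgroup G)).PairwiseDisjoint (fun B => (S B).erase 1) := by
    intro B hB C hC hBC
    rw [Function.onFun, Finset.disjoint_left]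
    intro a haB haC
    simp only [S, Finset.mem_erase, Finset.mem_filter, Finset.mem_univ, true_and] at haB haC
    exact hBC ((hpart a ((hprop B hB).le haB.2) haB.1).unique ⟨hB, haB.2⟩ ⟨hC, haC.2⟩)
  have h1 := he A le_rfl hA
  rw [hU, Finset.prod_biUnion hD,
    Finset.prod_congr rfl (fun B hB => he B (hprop B hB).le (hcon B hB)), Finset.prod_const] at h1
  apply hv
  have hcard : 1 ≤ 𝒜.card := hne.card_pos
  have h2 : (⟨v, hvV⟩ : V)⁻¹ ^ (𝒜.card - 1) = 1 := by
    have := h1
    rw [show 𝒜.card = (𝒜.card - 1) + 1 by omega, pow_succ] at this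
    simpa using this
  rw [inv_pow, inv_eq_one] at h2
  rw [← orderOf_eq_one_iff]
  exact Nat.eq_one_of_dvd_coprimes hk (orderOf_dvd_of_pow_eq_one h2) (orderOf_dvd_natCard _)

end Cfsg.Agent.S3733
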