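import Cfsg.Statements.S3734
import Mathlib
import Cfsg.Agent.Lib.CoprimeAction
-- import your own Cfsg.Agent.* helpers here

set_option autoImplicit false
open Cfsg

namespace Cfsg.Agent.S3734

open scoped commutatorElement
open Cfsg.Agent.CoprimeAction

/-- Conjugation by an element normalizing `K`, as an endomorphism of `K`. -/
def conjEnd {X : Type*} [Group X] (K : Subgroup X) (a : X) (ha : a ∈ Subgroup.normalizer (K : Set X)) : K →* K where
  toFun k := ⟨a * k * a⁻¹, Cfsg.Agent.CoprimeAction.conj_mem ha k.2⟩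
  map_one' := by ext; simp
  map_mul' k l := by ext; simp [mul_assoc]

/-- Irreducible step: an abelian group of operators acts cyclically on an irreducible section. -/
theorem irreducible_step {X : Type*} [Group X] [Finite X] (A K N : Subgroup X) (hAab : IsMulCommutative A)
    (hAK : A ≤ Subgroup.normalizer (K : Set X)) (hNK : N < K) (hKK : ⁅K, K⁆ ≤ N)
    (hAN : A ≤ Subgroup.normalizer (N : Set X))
    (hmax : ∀ W : Subgroup X, N ≤ W → W ≤ K → A ≤ Subgroup.normalizer (W : Set X) → W = N ∨ W = K) :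
    ∃ B : Subgroup X, B ≤ A ∧ (∃ a ∈ A, B ⊔ Subgroup.zpowers a = A) ∧
      ∀ b ∈ B, ∀ k ∈ K, b * k * b⁻¹ * k⁻¹ ∈ N := by
  classical
  haveI hN : (N.subgroupOf K).Normal := by
    rw [Subgroup.normal_subgroupOf_iff hNK.le]
    intro h k hh hk
    have h1 : ⁅k, h⁆ ∈ N := hKK (Subgroup.commutator_mem_commutator hk (hNK.le hh))
    have h2 := N.mul_mem h1 hh
    simpa [commutatorElement_def] using h2
  letI : CommGroup (K ⧸ N.subgroupOf K) :=
    { (inferInstance : Group (K ⧸ N.subgroupOf K)) with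
      mul_comm := fun x y => by
        induction x using QuotientGroup.induction_on with
        | _ x =>
          induction y using QuotientGroup.induction_on with
          | _ y =>
            rw [← QuotientGroup.mk_mul, ← QuotientGroup.mk_mul, QuotientGroup.eq, Subgroup.mem_subgroupOf]
            have h1 : ⁅(y : X)⁻¹, (x : X)⁻¹⁆ ∈ N :=
              hKK (Subgroup.commutator_mem_commutator (K.inv_mem y.2) (K.inv_mem x.2))
            simpa [commutatorElement_def, mul_assoc] using h1 }
  let E := AddMonoid.End (Additive (K ⧸ N.subgroupOf K))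
  have hpres : ∀ a : A, N.subgroupOf K ≤ (N.subgroupOf K).comap (conjEnd K a (hAK a.2)) :=
    fun a x hx => Cfsg.Agent.CoprimeAction.conj_mem (hAN a.2) hx
  let φ : A →* E :=
    { toFun := fun a => MonoidHom.toAdditive (QuotientGroup.map (N.subgroupOf K) (N.subgroupOf K) (conjEnd K a (hAK a.2)) (hpres a))
      map_one' := by
        refine AddMonoidHom.ext fun x => ?_
        obtain ⟨k, rfl⟩ := (Additive.ofMul.surjective x)
        induction k using QuotientGroup.induction_on with
        | _ k =>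
          show Additive.ofMul (QuotientGroup.mk (conjEnd K ((1 : A) : X) _ k) : K ⧸ N.subgroupOf K) = Additive.ofMul _
          congr 2
          apply Subtype.ext
          simp [conjEnd]
      map_mul' := fun a b => by
        refine AddMonoidHom.ext fun x => ?_
        obtain ⟨k, rfl⟩ := (Additive.ofMul.surjective x)
        induction k using QuotientGroup.induction_on with
        | _ k =>
          show Additive.ofMul (QuotientGroup.mk (conjEnd K ((a * b : A) : X) _ k) : K ⧸ N.subgroupOf K)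
            = Additive.ofMul (QuotientGroup.mk (conjEnd K (a : X) _ (conjEnd K (b : X) _ k)))
          congr 2
          apply Subtype.ext
          simp [conjEnd, mul_assoc] }
  have hcomm : ∀ x ∈ Set.range φ, ∀ y ∈ Set.range φ, x * y = y * x := by
    rintro _ ⟨a, rfl⟩ _ ⟨b, rfl⟩
    rw [← map_mul, ← map_mul, hAab.is_comm.comm a b]
  let R : Subring E := Subring.closure (Set.range φ)
  letI : CommRing R := Subring.closureCommRingOfComm hcomm
  have hRc : ∀ r ∈ R, ∀ a : A, r * φ a = φ a * r := by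
    intro r hr a
    have h1 : R ≤ Subring.centralizer ({φ a} : Set E) := by
      refine Subring.closure_le.2 fun x hx => ?_
      rw [SetLike.mem_coe, Subring.mem_centralizer_iff]
      rintro _ rfl
      exact hcomm _ ⟨a, rfl⟩ x hx
    exact (Subring.mem_centralizer_iff.1 (h1 hr) (φ a) rfl).symm
  have hinj : ∀ r ∈ R, r ≠ 0 → ∀ y, r y = 0 → y = 0 := by
    intro r hr hr0 y hy
    let π : K →* K ⧸ N.subgroupOf K := QuotientGroup.mk' _
    let r' : (K ⧸ N.subgroupOf K) →* (K ⧸ N.subgroupOf K) := MonoidHom.toAdditive.symm r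
    let W : Subgroup X := ((r'.comp π).ker).map K.subtype
    have hNW : N ≤ W := by
      intro n hn
      refine ⟨⟨n, hNK.le hn⟩, ?_, rfl⟩
      rw [SetLike.mem_coe, MonoidHom.mem_ker, MonoidHom.comp_apply,
        show π ⟨n, hNK.le hn⟩ = 1 from (QuotientGroup.eq_one_iff _).2 hn, map_one]
    have hWA : A ≤ Subgroup.normalizer (W : Set X) := by
      refine Cfsg.Agent.CoprimeAction.le_normalizer_of_conj_mem ?_
      rintro a ha _ ⟨k, hk, rfl⟩
      refine ⟨conjEnd K a (hAK ha) k, ?_, rfl⟩
      have e : r (φ ⟨a, ha⟩ (Additive.ofMul (π k))) = φ ⟨a, ha⟩ (r (Additive.ofMul (π k))) :=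
        DFunLike.congr_fun (hRc r hr ⟨a, ha⟩) (Additive.ofMul (π k))
      have h0 : r (Additive.ofMul (π k)) = 0 := hk
      rw [h0, map_zero] at e
      exact e
    rcases hmax W hNW (Subgroup.map_subtype_le _) hWA with hW | hW
    · obtain ⟨q, rfl⟩ := Additive.ofMul.surjective y
      induction q using QuotientGroup.induction_on with
      | _ k =>
        have h1 : (k : X) ∈ W := ⟨k, hy, rfl⟩
        rw [hW] at h1
        rw [(QuotientGroup.eq_one_iff (N := N.subgroupOf K) k).2 h1, ofMul_one]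
    · exfalso
      apply hr0
      refine AddMonoidHom.ext fun z => ?_
      obtain ⟨q, rfl⟩ := Additive.ofMul.surjective z
      induction q using QuotientGroup.induction_on with
      | _ k =>
        have h1 : (k : X) ∈ W := hW.symm ▸ k.2
        obtain ⟨k', hk', hkk⟩ := h1
        rw [show k' = k from Subtype.ext hkk] at hk'
        exact hk'
  haveI : NoZeroDivisors R := ⟨fun {r s} hrs => by
    by_contra hcon
    push Not at hcon
    apply hcon.2
    apply Subtype.ext
    refine AddMonoidHom.ext fun y => ?_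
    refine hinj r r.2 (fun h => hcon.1 (Subtype.ext h)) _ ?_
    exact congrArg (fun t : R => (t : E) y) hrs⟩
  haveI : Nontrivial R := by
    refine ⟨1, 0, fun h => ?_⟩
    obtain ⟨x, hxK, hxN⟩ := SetLike.exists_of_lt hNK
    have := congrArg (fun t : R => (t : E) (Additive.ofMul ((⟨x, hxK⟩ : K) : K ⧸ N.subgroupOf K))) h
    have h2 : ((⟨x, hxK⟩ : K) : K ⧸ N.subgroupOf K) = 1 := this
    exact hxN ((QuotientGroup.eq_one_iff (N := N.subgroupOf K) (⟨x, hxK⟩ : K)).1 h2)
  haveI : IsDomain R := NoZeroDivisors.to_isDomain R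
  let φR : A →* R :=
    { toFun := fun a => ⟨φ a, Subring.subset_closure ⟨a, rfl⟩⟩
      map_one' := Subtype.ext (map_one φ)
      map_mul' := fun a b => Subtype.ext (map_mul φ a b) }
  let ψ : A →* Rˣ := φR.toHomUnits
  haveI : Finite ψ.range := Finite.of_surjective ψ.rangeRestrict ψ.rangeRestrict_surjective
  haveI : IsCyclic ψ.range := isCyclic_subgroup_units ψ.range
  obtain ⟨⟨_, ⟨a₀, rfl⟩⟩, hgen⟩ := IsCyclic.exists_generator (α := ψ.range)
  refine ⟨ψ.ker.map A.subtype, Subgroup.map_subtype_le _, ⟨a₀, a₀.2, le_antisymm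
    (sup_le (Subgroup.map_subtype_le _) (Subgroup.zpowers_le.2 a₀.2)) ?_⟩, ?_⟩
  · intro a ha
    obtain ⟨i, hi⟩ := Subgroup.mem_zpowers_iff.1 (hgen ⟨ψ ⟨a, ha⟩, ⟨_, rfl⟩⟩)
    have hi' : (ψ a₀) ^ i = ψ ⟨a, ha⟩ := congrArg Subtype.val hi
    have hk : (⟨a, ha⟩ : A) * (a₀ ^ i)⁻¹ ∈ ψ.ker := by
      rw [MonoidHom.mem_ker, map_mul, map_inv, map_zpow, hi', mul_inv_cancel]
    have := Subgroup.mul_mem_sup (S := ψ.ker.map A.subtype) (T := Subgroup.zpowers (a₀ : X))
      (Subgroup.mem_map_of_mem A.subtype hk) ⟨i, rfl⟩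
    simpa using this
  · rintro _ ⟨b, hb, rfl⟩ k hk
    have h0 : φ b = 1 := congrArg (fun u : Rˣ => ((u : R) : E)) (MonoidHom.mem_ker.1 hb)
    have h1 : (QuotientGroup.mk (conjEnd K (b : X) (hAK b.2) ⟨k, hk⟩) : K ⧸ N.subgroupOf K) = QuotientGroup.mk ⟨k, hk⟩ :=
      DFunLike.congr_fun h0 (Additive.ofMul ((⟨k, hk⟩ : K) : K ⧸ N.subgroupOf K))
    rw [← div_eq_one, ← QuotientGroup.mk_div, QuotientGroup.eq_one_iff, Subgroup.mem_subgroupOf] at h1
    simpa [conjEnd, div_eq_mul_inv] using h1

/-- The family of subgroups. -/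
abbrev Fam {X : Type*} [Group X] (A : Subgroup X) : Set (Subgroup X) :=
  {B : Subgroup X | B ≤ A ∧ ∃ a ∈ A, B ⊔ Subgroup.zpowers a = A}

theorem gen_pgroup {X : Type*} [Group X] [Finite X] (A : Subgroup X) (hAab : IsMulCommutative A) :
    ∀ n : ℕ, ∀ K : Subgroup X, Nat.card K = n → Group.IsNilpotent K → A ≤ Subgroup.normalizer (K : Set X) →
      (Nat.card A).Coprime (Nat.card K) → ∀ M : Subgroup X,
      (∀ B ∈ Fam A, K ⊓ Subgroup.centralizer (B : Set X) ≤ M) → K ≤ M := by
  intro n
  induction n using Nat.strong_induction_on with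
  | _ n ih =>
    intro K hn hnil hAK hcop M hM
    by_cases hK : K = ⊥
    · rw [hK]; exact bot_le
    haveI : Nontrivial K := (Subgroup.nontrivial_iff_ne_bot K).2 hK
    have hKK : ⁅K, K⁆ < K := by
      have h1 : ⁅(⊤ : Subgroup K), ⊤⁆ < ⊤ := Group.IsSolvable.commutator_lt_of_ne_bot top_ne_bot
      have h2 := (Subgroup.map_lt_map_iff_of_injective K.subtype_injective).2 h1
      rwa [Subgroup.map_commutator, ← MonoidHom.range_eq_map, Subgroup.range_subtype] at h2
    have hcA : A ≤ Subgroup.normalizer ((⁅K, K⁆ : Subgroup X) : Set X) := by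
      intro a ha
      have h1 : K.map (MulAut.conj a).toMonoidHom = K := by
        have := Cfsg.Agent.CoprimeSZ.conj_smul_eq_self (hAK ha)
        rwa [Cfsg.Agent.CoprimeSZ.conj_smul_eq_map] at this
      apply Cfsg.Agent.CoprimeAction.mem_normalizer_of_conj_smul_eq
      rw [Cfsg.Agent.CoprimeSZ.conj_smul_eq_map, Subgroup.map_commutator, h1]
    obtain ⟨N, ⟨hNK, hKN, hAN⟩, hmax⟩ := Set.Finite.exists_maximal
      (Set.toFinite {N : Subgroup X | N < K ∧ ⁅K, K⁆ ≤ N ∧ A ≤ Subgroup.normalizer (N : Set X)})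
      ⟨_, hKK, le_rfl, hcA⟩
    have hNnil : Group.IsNilpotent N :=
      Group.nilpotent_of_mulEquiv (Subgroup.subgroupOfEquivOfLe hNK.le)
    have hcopN := coprime_of_le_right hNK.le hcop
    have hNM : N ≤ M := by
      refine ih _ ?_ N rfl hNnil hAN hcopN M fun B hB => le_trans (inf_le_inf hNK.le le_rfl) (hM B hB)
      rw [← hn]
      exact lt_of_le_of_ne (Subgroup.card_le_of_le hNK.le) fun h => hNK.ne (Subgroup.eq_of_le_of_card_ge hNK.le h.ge)
    obtain ⟨B, hBA, hBc, hB⟩ := irreducible_step A K N hAab hAK hNK hKN hAN fun W h1 h2 h3 => by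
      by_cases h : W = K
      · exact Or.inr h
      · exact Or.inl (le_antisymm (hmax ⟨lt_of_le_of_ne h2 h, hKN.trans h1, h3⟩ h1) h1)
    intro k hk
    have hkN : k ∈ Subgroup.normalizer (N : Set X) := by
      have := (Subgroup.normal_subgroupOf_iff_le_normalizer hNK.le).1 (by
        rw [Subgroup.normal_subgroupOf_iff hNK.le]
        intro h j hh hj
        have h2 := N.mul_mem (hKN (Subgroup.commutator_mem_commutator hj (hNK.le hh))) hh
        simpa [commutatorElement_def] using h2)
      exact this hk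
    obtain ⟨c, hc, hkc⟩ := exists_fixed_mem_coset_of_normal (A := B) (D := N) (hBA.trans hAN)
      (coprime_of_le_left hBA hcopN) (Or.inr inferInstance) hkN (fun b hb => hB b hb k hk)
    have hcK : c ∈ K := by
      have := K.mul_mem hk (hNK.le hkc)
      simpa using this
    have := M.mul_mem (hM B ⟨hBA, hBc⟩ ⟨hcK, hc⟩) (M.inv_mem (hNM hkc))
    simpa using this

/-- Let A and G be subgroups of a finite group with A abelian, A normalizing G and the orders of A and G coprime. Then G is generated by the fixed-point subgroups C_G(B) of those subgroups B of A for which A/B is cyclic (that is, A = ⟨B, a⟩ for some a), and [G, A] is generated by the commutator subgroups [C_G(B), A] over the same subgroups B. -/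
theorem result {X : Type*} [Group X] [Finite X] (A G : Subgroup X) (hAab : IsMulCommutative A) (hAG : A ≤ Subgroup.normalizer (G : Set X)) (hcop : (Nat.card A).Coprime (Nat.card G)) : (⨆ B ∈ {B : Subgroup X | B ≤ A ∧ ∃ a ∈ A, B ⊔ Subgroup.zpowers a = A}, G ⊓ Subgroup.centralizer (B : Set X)) = G ∧ (⨆ B ∈ {B : Subgroup X | B ≤ A ∧ ∃ a ∈ A, B ⊔ Subgroup.zpowers a = A}, ⁅G ⊓ Subgroup.centralizer (B : Set X), A⁆) = ⁅G, A⁆ := by
  classical
  have hsolA : Group.IsSolvable A := Group.isSolvable_of_comm fun a b => hAab.is_comm.comm a b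
  have gen : G ≤ ⨆ B ∈ Fam A, G ⊓ Subgroup.centralizer (B : Set X) := by
    let M : Subgroup X := ⨆ B ∈ Fam A, G ⊓ Subgroup.centralizer (B : Set X)
    show G ≤ M
    have hsyl : ∀ q : ℕ, q.Prime → q ^ (Nat.card G).factorization q ∣ Nat.card ↥(G ⊓ M) := by
      intro q hq
      haveI := Fact.mk hq
      obtain ⟨P, hP⟩ := exists_invariant_sylow hAG hcop (Or.inl hsolA) q
      have hPG : (P : Subgroup G).map G.subtype ≤ G := Subgroup.map_subtype_le _
      have hPp : IsPGroup q ((P : Subgroup G).map G.subtype) := P.isPGroup'.map _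
      have hPM : (P : Subgroup G).map G.subtype ≤ M := by
        refine gen_pgroup A hAab _ _ rfl hPp.isNilpotent hP (coprime_of_le_right hPG hcop) M fun B hB => ?_
        exact le_trans (inf_le_inf hPG le_rfl) (le_iSup₂ (f := fun B (_ : B ∈ Fam A) => G ⊓ Subgroup.centralizer (B : Set X)) B hB)
      rw [← card_map_sylow P]
      exact Subgroup.card_dvd_of_le (le_inf hPG hPM)
    have hdvd : Nat.card G ∣ Nat.card ↥(G ⊓ M) := by
      rw [← Nat.factorization_le_iff_dvd Nat.card_pos.ne' Nat.card_pos.ne']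
      intro q
      by_cases hq : q.Prime
      · exact (hq.pow_dvd_iff_le_factorization Nat.card_pos.ne').1 (hsyl q hq)
      · simp [hq]
    have := Subgroup.eq_of_le_of_card_ge (inf_le_left : G ⊓ M ≤ G) (Nat.le_of_dvd Nat.card_pos hdvd)
    exact inf_eq_left.1 this
  refine ⟨le_antisymm (iSup₂_le fun B _ => inf_le_left) gen, le_antisymm (iSup₂_le fun B _ => Subgroup.commutator_mono inf_le_left le_rfl) ?_⟩
  let W : Subgroup X := ⨆ B ∈ Fam A, ⁅G ⊓ Subgroup.centralizer (B : Set X), A⁆
  let C : Subgroup X := G ⊓ Subgroup.centralizer (A : Set X)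
  show ⁅G, A⁆ ≤ W
  have hAB : ∀ B ∈ Fam A, A ≤ Subgroup.normalizer ((G ⊓ Subgroup.centralizer (B : Set X) : Subgroup X) : Set X) := by
    intro B hB
    refine le_normalizer_inf hAG (le_trans ?_ Subgroup.le_normalizer)
    intro a ha
    rw [Subgroup.mem_centralizer_iff]
    intro b hb
    exact congrArg Subtype.val (hAab.is_comm.comm (⟨b, hB.1 hb⟩ : A) ⟨a, ha⟩)
  have hnormW : ∀ g : X, (∀ B ∈ Fam A, g ∈ Subgroup.normalizer ((⁅G ⊓ Subgroup.centralizer (B : Set X), A⁆ : Subgroup X) : Set X)) →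
      g ∈ Subgroup.normalizer (W : Set X) := by
    intro g hg
    apply mem_normalizer_of_conj_smul_eq
    rw [Cfsg.Agent.CoprimeSZ.conj_smul_eq_map, Subgroup.map_iSup]
    refine iSup_congr fun B => ?_
    rw [Subgroup.map_iSup]
    refine iSup_congr fun hB => ?_
    rw [← Cfsg.Agent.CoprimeSZ.conj_smul_eq_map]
    exact Cfsg.Agent.CoprimeSZ.conj_smul_eq_self (hg B hB)
  have hAW : A ≤ Subgroup.normalizer (W : Set X) := fun a ha =>
    hnormW a fun B _ => Subgroup.normalizer_commutator_ge_right _ _ ha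
  have hCW : C ≤ Subgroup.normalizer (W : Set X) := fun c hc =>
    hnormW c fun B hB => Subgroup.normalizer_commutator_ge_left _ _
      ⟨hc.1, Subgroup.centralizer_le hB.1 hc.2⟩
  have hGWC : G ≤ W ⊔ C := by
    refine gen.trans (iSup₂_le fun B hB => ?_)
    rw [← commutator_sup_centralizer_eq (hAB B hB) (coprime_of_le_right inf_le_left hcop) (Or.inl hsolA)]
    exact sup_le ((le_iSup₂ (f := fun B (_ : B ∈ Fam A) => ⁅G ⊓ Subgroup.centralizer (B : Set X), A⁆) B hB).trans le_sup_left)
      (le_trans (inf_le_inf inf_le_left le_rfl) le_sup_right)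
  rw [Subgroup.commutator_le]
  intro g hg a ha
  have hg' : g ∈ (↑(W ⊔ C) : Set X) := hGWC hg
  rw [Subgroup.coe_mul_of_right_le_normalizer_left W C hCW] at hg'
  obtain ⟨w, hw, c, hc, rfl⟩ := hg'
  have h1 : ⁅c, a⁆ = 1 := commutatorElement_eq_one_iff_mul_comm.2 (Subgroup.mem_centralizer_iff.1 hc.2 a ha).symm
  have e : ⁅w * c, a⁆ = (w * ⁅c, a⁆ * w⁻¹) * (w * (a * w⁻¹ * a⁻¹)) := by simp [commutatorElement_def, mul_assoc]
  show ⁅w * c, a⁆ ∈ W
  rw [e, h1, mul_one, mul_inv_cancel, one_mul]
  exact W.mul_mem hw (Cfsg.Agent.CoprimeAction.conj_mem (hAW ha) (W.inv_mem hw))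

end Cfsg.Agent.S3734
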