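import Cfsg.Statements.S3735
import Mathlib
-- import your own Cfsg.Agent.* helpers here

set_option autoImplicit false
open Cfsg

namespace Cfsg.Agent.S3735

variable {G : Type*} [Group G]

/-- Simple invariant subgroups inside `V`. -/
def IsAtomicInv (A V T : Subgroup G) : Prop :=
  T ≤ V ∧ T ≠ ⊥ ∧ A ≤ Subgroup.normalizer (T : Set G) ∧
    ∀ T' : Subgroup G, T' ≤ T → A ≤ Subgroup.normalizer (T' : Set G) → T' = ⊥ ∨ T' = T

theorem exists_atomic [Finite G] (A V W : Subgroup G) (hWV : W ≤ V) (hW : W ≠ ⊥)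
    (hA : A ≤ Subgroup.normalizer (W : Set G)) : ∃ T, IsAtomicInv A V T ∧ T ≤ W := by
  obtain ⟨T, ⟨hT0, hTA, hTW⟩, hmin⟩ := Set.Finite.exists_minimal
    (Set.toFinite {T : Subgroup G | T ≠ ⊥ ∧ A ≤ Subgroup.normalizer (T : Set G) ∧ T ≤ W}) ⟨W, hW, hA, le_rfl⟩
  refine ⟨T, ⟨hTW.trans hWV, hT0, hTA, fun T' h1 h2 => ?_⟩, hTW⟩
  by_cases h : T' = ⊥
  · exact Or.inl h
  · exact Or.inr (le_antisymm h1 (hmin ⟨h, h2, h1.trans hTW⟩ h1))

theorem normalizes_inf (A U W : Subgroup G) (h1 : A ≤ Subgroup.normalizer (U : Set G))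
    (h2 : A ≤ Subgroup.normalizer (W : Set G)) : A ≤ Subgroup.normalizer ((U ⊓ W : Subgroup G) : Set G) :=
  fun a ha => Subgroup.mem_normalizer_iff.2 fun x => by
    simp [Subgroup.mem_inf, Subgroup.mem_normalizer_iff.1 (h1 ha) x, Subgroup.mem_normalizer_iff.1 (h2 ha) x]

theorem map_conj_eq {a : G} {U : Subgroup G} (h : a ∈ Subgroup.normalizer (U : Set G)) :
    U.map (MulAut.conj a).toMonoidHom = U := by
  ext y
  constructor
  · rintro ⟨u, hu, rfl⟩
    exact (Subgroup.mem_normalizer_iff.1 h u).1 hu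
  · intro hy
    refine ⟨a⁻¹ * y * a, ?_, by simp [mul_assoc]⟩
    simpa using (Subgroup.mem_normalizer_iff.1 (inv_mem h) y).1 hy

theorem mem_normalizer_of_map_conj_le [Finite G] {a : G} {U : Subgroup G}
    (h : U.map (MulAut.conj a).toMonoidHom ≤ U) : a ∈ Subgroup.normalizer (U : Set G) := by
  have he : U.map (MulAut.conj a).toMonoidHom = U := Subgroup.eq_of_le_of_card_ge h
    (Subgroup.card_map_of_injective (f := (MulAut.conj a).toMonoidHom) (MulAut.conj a).injective).ge
  rw [Subgroup.mem_normalizer_iff]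
  intro x
  constructor
  · exact fun hx => he ▸ Subgroup.mem_map_of_mem _ hx
  · intro hx
    rw [← he] at hx
    obtain ⟨y, hy, hyx⟩ := hx
    rwa [show x = y from ((MulAut.conj a).injective hyx).symm]

theorem normalizes_sup [Finite G] (A U W : Subgroup G) (h1 : A ≤ Subgroup.normalizer (U : Set G))
    (h2 : A ≤ Subgroup.normalizer (W : Set G)) : A ≤ Subgroup.normalizer ((U ⊔ W : Subgroup G) : Set G) :=
  fun a ha => mem_normalizer_of_map_conj_le (by rw [Subgroup.map_sup, map_conj_eq (h1 ha), map_conj_eq (h2 ha)])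

/-- Clifford's Theorem for actions on finite abelian groups, first part. Let H and V be subgroups of a finite group with V abelian and H normalizing V, and let A be a normal subgroup of H. If every H-invariant subgroup of V has an H-invariant complement in V, then every A-invariant subgroup of V has an A-invariant complement in V. -/
theorem result {G : Type*} [Group G] [Finite G] (H A V : Subgroup G) (hVab : IsMulCommutative V) (hHV : H ≤ Subgroup.normalizer (V : Set G)) (hAH : A ≤ H) (hAn : H ≤ Subgroup.normalizer (A : Set G)) (hss : ∀ U : Subgroup G, U ≤ V → H ≤ Subgroup.normalizer (U : Set G) → ∃ W : Subgroup G, W ≤ V ∧ H ≤ Subgroup.normalizer (W : Set G) ∧ U ⊓ W = ⊥ ∧ U ⊔ W = V) (U : Subgroup G) (hUV : U ≤ V) (hAU : A ≤ Subgroup.normalizer (U : Set G)) : ∃ W : Subgroup G, W ≤ V ∧ A ≤ Subgroup.normalizer (W : Set G) ∧ U ⊓ W = ⊥ ∧ U ⊔ W = V := by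
  have hUWc : ∀ {X Y : Subgroup G}, X ≤ V → Y ≤ V → X ≤ Subgroup.normalizer (Y : Set G) := by
    intro X Y hX hY x hx
    refine Subgroup.centralizer_le_normalizer _ (Subgroup.mem_centralizer_iff.2 fun y hy => ?_)
    exact congrArg Subtype.val (hVab.is_comm.comm (⟨y, hY hy⟩ : V) ⟨x, hX hx⟩)
  let J : Subgroup G := sSup {T : Subgroup G | IsAtomicInv A V T}
  have hJV : J ≤ V := sSup_le fun T hT => hT.1
  have hmove : ∀ h ∈ H, ∀ T, IsAtomicInv A V T → IsAtomicInv A V (T.map (MulAut.conj h).toMonoidHom) := by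
    intro h hh T hT
    have hconjA : ∀ a ∈ A, h⁻¹ * a * h ∈ A := by
      intro a ha
      have := (Subgroup.mem_normalizer_iff.1 (inv_mem (hAn hh)) a).1 ha
      simpa using this
    have hcomp : ∀ S : Subgroup G, A ≤ Subgroup.normalizer (S : Set G) →
        A ≤ Subgroup.normalizer ((S.map (MulAut.conj h).toMonoidHom : Subgroup G) : Set G) := by
      intro S hS a ha
      apply mem_normalizer_of_map_conj_le
      rintro _ ⟨_, ⟨s, hs, rfl⟩, rfl⟩
      refine ⟨(h⁻¹ * a * h) * s * (h⁻¹ * a * h)⁻¹, (Subgroup.mem_normalizer_iff.1 (hS (hconjA a ha)) s).1 hs, ?_⟩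
      simp [mul_assoc]
    refine ⟨?_, ?_, hcomp T hT.2.2.1, ?_⟩
    · exact (Subgroup.map_mono hT.1).trans (map_conj_eq (hHV hh)).le
    · intro he
      exact hT.2.1 ((Subgroup.map_eq_bot_iff_of_injective _ (MulAut.conj h).injective).1 he)
    · intro T' h1 h2
      have h3 : T'.map (MulAut.conj h⁻¹).toMonoidHom ≤ T := by
        refine (Subgroup.map_mono h1).trans (le_of_eq ?_)
        rw [Subgroup.map_map]
        conv_rhs => rw [← Subgroup.map_id T]
        congr 1
        ext x; simp [mul_assoc]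
      have h4 : A ≤ Subgroup.normalizer ((T'.map (MulAut.conj h⁻¹).toMonoidHom : Subgroup G) : Set G) := by
        intro a ha
        apply mem_normalizer_of_map_conj_le
        rintro _ ⟨_, ⟨s, hs, rfl⟩, rfl⟩
        have ha' : h * a * h⁻¹ ∈ A := (Subgroup.mem_normalizer_iff.1 (hAn hh) a).1 ha
        refine ⟨(h * a * h⁻¹) * s * (h * a * h⁻¹)⁻¹, (Subgroup.mem_normalizer_iff.1 (h2 ha') s).1 hs, ?_⟩
        simp [mul_assoc]
      have e : T' = (T'.map (MulAut.conj h⁻¹).toMonoidHom).map (MulAut.conj h).toMonoidHom := by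
        rw [Subgroup.map_map]
        conv_lhs => rw [← Subgroup.map_id T']
        congr 1
        ext x; simp [mul_assoc]
      rcases hT.2.2.2 _ h3 h4 with h5 | h5
      · exact Or.inl (by rw [e, h5, Subgroup.map_bot])
      · exact Or.inr (by rw [e, h5])
  have hJH : H ≤ Subgroup.normalizer (J : Set G) := by
    intro h hh
    apply mem_normalizer_of_map_conj_le
    rw [Subgroup.map_le_iff_le_comap]
    exact sSup_le fun T hT => Subgroup.map_le_iff_le_comap.1 (le_sSup (s := {T : Subgroup G | IsAtomicInv A V T}) (hmove h hh T hT))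
  have hJ : J = V := by
    obtain ⟨W, hWV, hWH, hW1, hW2⟩ := hss J hJV hJH
    have hW0 : W = ⊥ := by
      by_contra hne
      obtain ⟨T, hT, hTW⟩ := exists_atomic A V W hWV hne (hAH.trans hWH)
      exact hT.2.1 (le_bot_iff.1 (hW1 ▸ le_inf (le_sSup (s := {T : Subgroup G | IsAtomicInv A V T}) hT) hTW))
    rwa [hW0, sup_bot_eq] at hW2
  obtain ⟨W, ⟨hWV, hWA, hW0⟩, hmax⟩ := Set.Finite.exists_maximal
    (Set.toFinite {W : Subgroup G | W ≤ V ∧ A ≤ Subgroup.normalizer (W : Set G) ∧ U ⊓ W = ⊥})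
    ⟨⊥, bot_le, by rw [Subgroup.normalizer_eq_top_iff.2 inferInstance]; exact le_top, inf_bot_eq U⟩
  refine ⟨W, hWV, hWA, hW0, le_antisymm (sup_le hUV hWV) (hJ ▸ sSup_le ?_)⟩
  intro T hT
  have hUWn := normalizes_sup A U W hAU hWA
  rcases hT.2.2.2 (T ⊓ (U ⊔ W)) inf_le_left (normalizes_inf A T _ hT.2.2.1 hUWn) with h | h
  · have hint : U ⊓ (W ⊔ T) = ⊥ := by
      refine (Subgroup.eq_bot_iff_forall _).2 ?_
      rintro x ⟨hxU, hxWT⟩
      have hx' : x ∈ (↑(W ⊔ T) : Set G) := hxWT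
      rw [Subgroup.coe_mul_of_right_le_normalizer_left W T (hUWc hT.1 hWV)] at hx'
      obtain ⟨w, hw, t, ht, rfl⟩ := hx' 
      have h1 : t ∈ T ⊓ (U ⊔ W) := by
        refine ⟨ht, ?_⟩
        have := mul_mem (inv_mem (Subgroup.mem_sup_right (S := U) hw)) (Subgroup.mem_sup_left (T := W) hxU)
        simpa using this
      rw [h, Subgroup.mem_bot] at h1
      subst h1
      simp only [mul_one] at hxU ⊢
      have : w ∈ U ⊓ W := ⟨hxU, hw⟩
      rwa [hW0, Subgroup.mem_bot] at this
    have := hmax ⟨sup_le hWV hT.1, normalizes_sup A W T hWA hT.2.2.1, hint⟩ le_sup_left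
    exact (le_sup_right.trans this).trans le_sup_right
  · exact inf_eq_left.1 h

end Cfsg.Agent.S3735
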