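import Cfsg.Statements.S3737
import Mathlib
import Cfsg.Agent.Lib.ClassTwoBaer
-- import your own Cfsg.Agent.* helpers here

set_option autoImplicit false
open Cfsg

namespace Cfsg.Agent.S3737

open Cfsg.Agent.ClassTwoBaer Cfsg.Agent.CoprimeAction
open scoped commutatorElement

/-- Thompson's strengthening of the P × Q lemma for odd primes. Let p be an odd prime and let P, Q and G be subgroups of a finite group with P a p-group, Q of order prime to p and normalized by P, and G a p-group normalized by both P and Q. If every element of G centralized by P is centralized by Q, then Q centralizes G. -/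
theorem result {X : Type*} [Group X] [Finite X] {p : ℕ} [Fact p.Prime] (hp : p ≠ 2) (P Q G : Subgroup X) (hP : IsPGroup p P) (hQ : (Nat.card Q).Coprime p) (hPQ : P ≤ Subgroup.normalizer (Q : Set X)) (hG : IsPGroup p G) (hPG : P ≤ Subgroup.normalizer (G : Set X)) (hQG : Q ≤ Subgroup.normalizer (G : Set X)) (hC : G ⊓ Subgroup.centralizer (P : Set X) ≤ Subgroup.centralizer (Q : Set X)) : Q ≤ Subgroup.centralizer (G : Set X) := by
  obtain ⟨C, hCG, hN, hself, hcom, -⟩ := exists_critical_sub hG
  have hCQ : Q ≤ Subgroup.centralizer (C : Set X) := by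
    refine le_centralizer_of_class_two hp hP hQ hPQ (hG.to_le hCG) (hPG.trans hN) (hQG.trans hN)
      (fun a b => ?_) ((inf_le_inf_right _ hCG).trans hC)
    rw [Subgroup.mem_center_iff]
    intro g
    apply Subtype.ext
    have e : ((⁅a, b⁆ : C) : X) = ⁅(a : X), (b : X)⁆ := map_commutatorElement C.subtype a b
    show (g : X) * ((⁅a, b⁆ : C) : X) = ((⁅a, b⁆ : C) : X) * g
    rw [e]
    exact Subgroup.mem_centralizer_iff.1 (hcom _ a.2 _ b.2).2 g g.2
  exact centralizes_of_critical hG hCG (Subgroup.le_normalizer.trans hN) hQG hQ hself hCQ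

end Cfsg.Agent.S3737
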