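import Cfsg.Statements.S3738
import Mathlib
import Cfsg.Agent.Lib.ClassTwoBaer
-- import your own Cfsg.Agent.* helpers here

set_option autoImplicit false
open Cfsg

namespace Cfsg.Agent.S3738

open Cfsg.Agent.ClassTwoBaer Cfsg.Agent.CoprimeAction Cfsg.Agent.PGroupsBasic
open scoped commutatorElement Pointwise

set_option maxHeartbeats 1000000

/-- A permutation of order dividing 9 of at most four points has order dividing 3. -/
theorem pow_three_eq_one {A : Type*} [Finite A] (hA : Nat.card A ≤ 4) {σ : Equiv.Perm A}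
    (hσ : σ ^ 9 = 1) : σ ^ 3 = 1 := by
  have h1 : orderOf σ ∣ Nat.card (Equiv.Perm A) := orderOf_dvd_natCard σ
  rw [Nat.card_perm] at h1
  have h2 : orderOf σ ∣ Nat.factorial 4 := h1.trans (Nat.factorial_dvd_factorial hA)
  have h3 := Nat.dvd_gcd (orderOf_dvd_of_pow_eq_one hσ) h2
  norm_num [Nat.factorial] at h3
  exact orderOf_dvd_iff_pow_eq_one.1 h3

theorem card_le_inf_range_mul {X : Type*} [Group X] [Finite X] {T R : Type*} [Group T] [Group R]
    [Finite T] [Finite R] (f : T →* R) : Nat.card T ≤ Nat.card f.ker * Nat.card R := by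
  rw [← f.ker.card_mul_index, Subgroup.index_ker]
  exact Nat.mul_le_mul le_rfl (Nat.card_le_card_of_injective _ Subtype.val_injective)

/-- Let d be a non-identity 3-element of a finite group and P a 2-subgroup normalized by d on which ⟨d⟩ acts faithfully (no non-identity power of d centralizes P) and without non-identity fixed points (C_P(d) = 1). If every abelian subgroup of P has 2-rank at most 2, then d has order 3. -/
theorem result {X : Type*} [Group X] [Finite X] (d : X) (n : ℕ) (hn : 1 ≤ n) (hd : orderOf d = 3 ^ n) (P : Subgroup X) (hP : IsPGroup 2 P) (hdP : d ∈ Subgroup.normalizer (P : Set X)) (hfaith : Subgroup.zpowers d ⊓ Subgroup.centralizer (P : Set X) = ⊥) (hfpf : P ⊓ Subgroup.centralizer {d} = ⊥) (hrank : ∀ V : Subgroup X, V ≤ P → IsMulCommutative V → Cfsg.PRankLE 2 2 V) : orderOf d = 3 := by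
  classical
  by_contra hne
  have hn2 : 2 ≤ n := by
    by_contra h
    have : n = 1 := by omega
    exact hne (by rw [hd, this, pow_one])
  obtain ⟨C, hCP, hN, hself, hcom, hsq⟩ := exists_critical_sub hP
  let g : X := d ^ 3 ^ (n - 2)
  have hg9 : orderOf g = 9 := by
    rw [orderOf_pow_of_dvd (by positivity) (hd ▸ pow_dvd_pow 3 (Nat.sub_le n 2)), hd,
      Nat.pow_div (Nat.sub_le n 2) (by norm_num), show n - (n - 2) = 2 by omega]
  let e : X := g ^ 3
  have he3 : orderOf e = 3 := by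
    rw [orderOf_pow_of_dvd (by norm_num) (by rw [hg9]; norm_num), hg9]
  have heg : Commute g e := Commute.self_pow g 3
  have hdC : d ∈ Subgroup.normalizer (C : Set X) := hN hdP
  have hgC : g ∈ Subgroup.normalizer (C : Set X) := pow_mem hdC _
  have heC : e ∈ Subgroup.normalizer (C : Set X) := pow_mem hgC _
  have hE : Subgroup.zpowers e ≤ Subgroup.zpowers d :=
    Subgroup.zpowers_le.2 (pow_mem (pow_mem (Subgroup.mem_zpowers d) _) _)
  have hEN : Subgroup.zpowers e ≤ Subgroup.normalizer (C : Set X) := Subgroup.zpowers_le.2 heC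
  have hcE : (Nat.card (Subgroup.zpowers e)).Coprime 2 := by rw [Nat.card_zpowers, he3]; norm_num
  have hC2 : IsPGroup 2 C := hP.to_le hCP
  have hcopC : (Nat.card (Subgroup.zpowers e)).Coprime (Nat.card C) := by
    obtain ⟨k, hk⟩ := hC2.exists_card_eq
    rw [hk]; exact hcE.pow_right k
  haveI : Group.IsSolvable (Subgroup.zpowers e) := isSolvable_zpowers e
  have heC' : ¬ Subgroup.zpowers e ≤ Subgroup.centralizer (C : Set X) := by
    intro h
    have h1 := centralizes_of_critical hP hCP (Subgroup.le_normalizer.trans hN)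
      (hE.trans (Subgroup.zpowers_le.2 hdP)) hcE hself h
    have h2 : e ∈ Subgroup.zpowers d ⊓ Subgroup.centralizer (P : Set X) :=
      ⟨hE (Subgroup.mem_zpowers e), h1 (Subgroup.mem_zpowers e)⟩
    rw [hfaith, Subgroup.mem_bot] at h2
    rw [h2, orderOf_one] at he3
    omega
  -- the centre and its involutions
  let Z : Subgroup X := C ⊓ Subgroup.centralizer (C : Set X)
  have hZc : ∀ z ∈ Z, ∀ c ∈ C, Commute z c := fun z hz c hc =>
    (Subgroup.mem_centralizer_iff.1 hz.2 c hc).symm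
  let Z1 : Subgroup X :=
    { carrier := {x | x ∈ Z ∧ x ^ 2 = 1}
      one_mem' := ⟨Z.one_mem, one_pow 2⟩
      mul_mem' := fun {a b} ha hb => ⟨Z.mul_mem ha.1 hb.1, by
        rw [(hZc a ha.1 b hb.1.1).mul_pow, ha.2, hb.2, one_mul]⟩
      inv_mem' := fun {a} ha => ⟨Z.inv_mem ha.1, by rw [inv_pow, ha.2, inv_one]⟩ }
  have hZn : ∀ y : X, y ∈ Subgroup.normalizer (C : Set X) → ∀ z ∈ Z, y * z * y⁻¹ ∈ Z := by
    intro y hy z hz
    refine ⟨CoprimeAction.conj_mem hy hz.1, Subgroup.mem_centralizer_iff.2 fun c hc => ?_⟩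
    have h1 := (hZc z hz _ (conj_mem' hy hc)).eq
    calc c * (y * z * y⁻¹) = y * (y⁻¹ * c * y * z) * y⁻¹ := by group
      _ = y * (z * (y⁻¹ * c * y)) * y⁻¹ := by rw [h1]
      _ = y * z * y⁻¹ * c := by group
  have hZ1n : ∀ y : X, y ∈ Subgroup.normalizer (C : Set X) → ∀ z ∈ Z1, y * z * y⁻¹ ∈ Z1 :=
    fun y hy z hz => ⟨hZn y hy z hz.1, by rw [conj_pow, hz.2, mul_one, mul_inv_cancel]⟩
  have hsmall : ∀ V : Subgroup X, V ≤ P → (∀ a ∈ V, ∀ b ∈ V, a * b = b * a) →
      (∀ a ∈ V, a ^ 2 = 1) → Nat.card V ≤ 4 := by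
    intro V hVP hVc hV2
    haveI hVm : IsMulCommutative V := isMulCommutative_of_forall hVc
    have := hrank V hVP hVm ⊤ ⟨⟨fun a b => Subtype.ext (Subtype.ext (hVc _ a.1.2 _ b.1.2))⟩⟩
      (fun a _ => Subtype.ext (hV2 a a.2))
    simpa using this
  have hZ1card : Nat.card Z1 ≤ 4 := hsmall Z1 (fun x hx => hCP hx.1.1)
    (fun a ha b hb => (hZc a ha.1 b hb.1.1).eq) (fun a ha => ha.2)
  have heZ1 : ∀ z ∈ Z1, e * z = z * e := by
    intro z hz
    have hZ1N : ∀ y : X, y ∈ Subgroup.normalizer (C : Set X) → y ∈ Subgroup.normalizer (Z1 : Set X) :=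
      fun y hy => Subgroup.mem_normalizer_iff.2 fun u => ⟨hZ1n y hy u, fun hu => by
        simpa [mul_assoc] using hZ1n _ (inv_mem hy) _ hu⟩
    let σ : Equiv.Perm Z1 := (conjEquiv (hZ1N g hgC)).toEquiv
    have hpow : ∀ (k : ℕ) (u : Z1), (((σ ^ k) u : Z1) : X) = g ^ k * u * (g ^ k)⁻¹ := by
      intro k
      induction k with
      | zero => intro u; simp
      | succ k ih =>
        intro u
        rw [pow_succ', Equiv.Perm.mul_apply]
        show g * (((σ ^ k) u : Z1) : X) * g⁻¹ = _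
        rw [ih, pow_succ']; group
    have h9 : σ ^ 9 = 1 := Equiv.ext fun u => Subtype.ext (by
      rw [hpow, show g ^ 9 = 1 by rw [← hg9]; exact pow_orderOf_eq_one g]; simp)
    have h3 := hpow 3 ⟨z, hz⟩
    rw [pow_three_eq_one hZ1card h9] at h3
    exact mul_inv_eq_iff_eq_mul.1 h3.symm
  have heZ : ∀ z ∈ Z, e * z = z * e := by
    haveI : IsMulCommutative Z := isMulCommutative_of_forall fun a ha b hb => (hZc a ha b hb.1).eq
    have hEZ : Subgroup.zpowers e ≤ Subgroup.normalizer (Z : Set X) :=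
      Subgroup.zpowers_le.2 (Subgroup.mem_normalizer_iff.2 fun u => ⟨hZn e heC u, fun hu => by
        simpa [mul_assoc] using hZn _ (inv_mem heC) _ hu⟩)
    have h := le_centralizer_of_prime_order_fixed hEZ
      (coprime_of_le_right inf_le_left hcopC) (fun v hv hprime a ha => by
        obtain ⟨k, hk⟩ := hC2.exists_card_eq
        have hd2 : orderOf v ∣ 2 ^ k := hk ▸ Subgroup.orderOf_dvd_natCard C hv.1
        have hv2 : orderOf v = 2 := (Nat.prime_dvd_prime_iff_eq hprime Nat.prime_two).1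
          (hprime.dvd_of_dvd_pow hd2)
        have hc : Commute e v := heZ1 v ⟨hv, by rw [← hv2]; exact pow_orderOf_eq_one v⟩
        obtain ⟨j, rfl⟩ := Subgroup.mem_zpowers_iff.1 ha
        exact (hc.zpow_left j).eq)
    exact fun z hz => (Subgroup.mem_centralizer_iff.1 (h (Subgroup.mem_zpowers e)) z hz).symm
  -- the commutator subgroup with `e`
  let T : Subgroup X := ⁅C, Subgroup.zpowers e⁆
  have hTC : T ≤ C := commutator_le_self_of_le_normalizer hEN
  have hTT : ⁅T, Subgroup.zpowers e⁆ = T := commutator_commutator_eq hEN hcopC (Or.inl inferInstance)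
  have hTne : T ≠ ⊥ := fun h => heC' (by
    rw [← Subgroup.commutator_eq_bot_iff_le_centralizer, Subgroup.commutator_comm]; exact h)
  have hC4 : ∀ a ∈ C, ∀ b ∈ C, ⁅a, b⁆ ^ 2 = 1 ∧ (a * b) ^ 2 = a ^ 2 * b ^ 2 * ⁅b, a⁆ := by
    intro a ha b hb
    have hc : ∀ u v : C, ⁅u, v⁆ ∈ Subgroup.center C := fun u v => Subgroup.mem_center_iff.2 fun w =>
      Subtype.ext (by
        have e : ((⁅u, v⁆ : C) : X) = ⁅(u : X), (v : X)⁆ := map_commutatorElement C.subtype u v
        show (w : X) * ((⁅u, v⁆ : C) : X) = ((⁅u, v⁆ : C) : X) * w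
        rw [e]
        exact Subgroup.mem_centralizer_iff.1 (hcom _ u.2 _ v.2).2 w w.2)
    refine ⟨?_, ?_⟩
    · have h1 : ⁅(⟨a, ha⟩ : C), (⟨b, hb⟩ : C)⁆ ^ 2 = 1 := by
        rw [← commutatorElement_pow_left (hc _ _), commutatorElement_eq_one_iff_mul_comm]
        exact Subtype.ext (hZc _ (hsq a ha) b hb).eq
      have h2 := congrArg C.subtype h1
      rw [map_pow, map_commutatorElement, map_one] at h2
      exact h2
    · have h2 := congrArg C.subtype (mul_pow_of_central (hc ⟨b, hb⟩ ⟨a, ha⟩) 2)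
      rw [map_mul, map_mul, map_pow, map_pow, map_pow, map_pow, map_mul, map_commutatorElement] at h2
      simpa using h2
  have hpow4 : ∀ a ∈ C, ∀ b ∈ C, a ^ 4 = 1 → b ^ 4 = 1 → (a * b) ^ 4 = 1 := by
    intro a ha b hb ha4 hb4
    rw [show (4 : ℕ) = 2 * 2 from rfl, pow_mul, (hC4 a ha b hb).2]
    have h1 : Commute (a ^ 2 * b ^ 2) ⁅b, a⁆ := (hZc _ (hcom b hb a ha) _
      (mul_mem (pow_mem ha 2) (pow_mem hb 2))).symm
    rw [h1.mul_pow, (hC4 b hb a ha).1, mul_one, (hZc _ (hsq a ha) _ (pow_mem hb 2)).mul_pow,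
      ← pow_mul, ← pow_mul, ha4, hb4, one_mul]
  let C4 : Subgroup X :=
    { carrier := {x | x ∈ C ∧ x ^ 4 = 1}
      one_mem' := ⟨C.one_mem, one_pow 4⟩
      mul_mem' := fun {a b} ha hb => ⟨C.mul_mem ha.1 hb.1, hpow4 a ha.1 b hb.1 ha.2 hb.2⟩
      inv_mem' := fun {a} ha => ⟨C.inv_mem ha.1, by rw [inv_pow, ha.2, inv_one]⟩ }
  have hT4 : T ≤ C4 := by
    show ⁅C, Subgroup.zpowers e⁆ ≤ C4
    rw [Subgroup.commutator_le]
    intro x hx a ha
    have hy : a * x⁻¹ * a⁻¹ ∈ C := CoprimeAction.conj_mem (hEN ha) (inv_mem hx)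
    refine ⟨hTC (Subgroup.commutator_mem_commutator hx ha), ?_⟩
    have hca : Commute a (x ^ 2) := by
      obtain ⟨j, rfl⟩ := Subgroup.mem_zpowers_iff.1 ha
      exact (show Commute e (x ^ 2) from heZ _ (hsq x hx)).zpow_left j
    have h2 : (a * x⁻¹ * a⁻¹) ^ 2 = (x ^ 2)⁻¹ := by
      rw [conj_pow, inv_pow, hca.inv_right.eq, mul_inv_cancel_right]
    have : ⁅x, a⁆ = x * (a * x⁻¹ * a⁻¹) := by simp [commutatorElement_def, mul_assoc]
    rw [this, show (4 : ℕ) = 2 * 2 from rfl, pow_mul, (hC4 x hx _ hy).2, h2, mul_inv_cancel, one_mul]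
    exact (hC4 _ hy x hx).1
  have hsqT : ∀ t ∈ T, t ^ 2 ∈ Z1 := fun t ht => ⟨hsq t (hTC ht), by
    rw [← pow_mul]; exact (hT4 ht).2⟩
  have hcomZ1 : ∀ a ∈ C, ∀ b ∈ C, ⁅a, b⁆ ∈ Z1 := fun a ha b hb => ⟨hcom a ha b hb, (hC4 a ha b hb).1⟩
  -- work in `T` modulo its intersection with `Z1`
  let M : Subgroup T := Z1.subgroupOf T
  haveI hMn : M.Normal := ⟨fun m hm t => by
    show (t : X) * m * (t : X)⁻¹ ∈ Z1
    rw [← (hZc _ (Subgroup.mem_subgroupOf.1 hm).1 t (hTC t.2)).eq, mul_inv_cancel_right]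
    exact hm⟩
  let π : T →* T ⧸ M := QuotientGroup.mk' M
  haveI hVc : IsMulCommutative (T ⧸ M) := ⟨⟨by
    intro a b
    obtain ⟨a, rfl⟩ := QuotientGroup.mk'_surjective M a
    obtain ⟨b, rfl⟩ := QuotientGroup.mk'_surjective M b
    rw [← commutatorElement_eq_one_iff_mul_comm, ← map_commutatorElement]
    refine (QuotientGroup.eq_one_iff _).2 ?_
    show ((⁅a, b⁆ : T) : X) ∈ Z1
    rw [show ((⁅a, b⁆ : T) : X) = ⁅(a : X), (b : X)⁆ from map_commutatorElement T.subtype a b]
    exact hcomZ1 _ (hTC a.2) _ (hTC b.2)⟩⟩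
  have hV2 : ∀ v : T ⧸ M, v ^ 2 = 1 := fun v => by
    obtain ⟨t, rfl⟩ := QuotientGroup.mk'_surjective M v
    rw [← map_pow]
    exact (QuotientGroup.eq_one_iff _).2 (hsqT t t.2)
  have hnorm : ∀ y, y ∈ Subgroup.normalizer (C : Set X) → Commute y e →
      y ∈ Subgroup.normalizer (T : Set X) := by
    intro y hy hye
    apply mem_normalizer_of_conj_smul_eq
    show MulAut.conj y • ⁅C, Subgroup.zpowers e⁆ = _
    rw [Cfsg.Agent.CoprimeSZ.conj_smul_eq_map, Subgroup.map_commutator, MonoidHom.map_zpowers,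
      ← Cfsg.Agent.CoprimeSZ.conj_smul_eq_map, Cfsg.Agent.CoprimeSZ.conj_smul_eq_self hy]
    congr 2
    simp [MulAut.conj_apply, hye.eq]
  have hgT : g ∈ Subgroup.normalizer (T : Set X) := hnorm g hgC heg
  have heT : e ∈ Subgroup.normalizer (T : Set X) := hnorm e heC (Commute.refl e)
  have hgM : ∀ u : T, u ∈ M → conjEquiv hgT u ∈ M := fun u hu => hZ1n g hgC _ hu
  -- the norm of a power of `e` kills `T` modulo `M`
  have hker : ∀ t : T, π t * π (conjEquiv heT t) * π (conjEquiv heT (conjEquiv heT t)) = 1 := by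
    intro t
    let K : Subgroup T :=
      { carrier := {t | π t * π (conjEquiv heT t) * π (conjEquiv heT (conjEquiv heT t)) = 1}
        one_mem' := by simp
        mul_mem' := fun {a b} ha hb => by
          have hc : ∀ u v : T ⧸ M, u * v = v * u := hVc.is_comm.comm
          simp only [Set.mem_ofPred_eq, map_mul] at *
          letI : CommGroup (T ⧸ M) := { (inferInstance : Group (T ⧸ M)) with mul_comm := hc }
          rw [mul_mul_mul_comm (π a), mul_mul_mul_comm (π a * π (conjEquiv heT a)), ha, hb, one_mul]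
        inv_mem' := fun {a} ha => by
          have hc : ∀ u v : T ⧸ M, u * v = v * u := hVc.is_comm.comm
          simp only [Set.mem_ofPred_eq, map_inv] at *
          letI : CommGroup (T ⧸ M) := { (inferInstance : Group (T ⧸ M)) with mul_comm := hc }
          rw [← mul_inv, ← mul_inv, ha, inv_one] }
    suffices h : ⁅C, Subgroup.zpowers e⁆ ≤ K.map T.subtype by
      obtain ⟨s, hs, hst⟩ := h t.2
      rwa [show s = t from Subtype.ext hst] at hs
    have hconj : ∀ (u : X) (hu : u ∈ T), (⟨u, hu⟩ : T) ∈ K →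
        (⟨e * u * e⁻¹, CoprimeAction.conj_mem heT hu⟩ : T) ∈ K := by
      intro u hu h
      have hc : ∀ u v : T ⧸ M, u * v = v * u := hVc.is_comm.comm
      have he : conjEquiv heT (conjEquiv heT (conjEquiv heT ⟨u, hu⟩)) = ⟨u, hu⟩ := Subtype.ext (by
        have h3 : e * e * e = 1 := by rw [← pow_three', ← he3]; exact pow_orderOf_eq_one e
        show e * (e * (e * u * e⁻¹) * e⁻¹) * e⁻¹ = u
        calc _ = (e * e * e) * u * (e * e * e)⁻¹ := by group
          _ = u := by rw [h3]; simp)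
      show π (conjEquiv heT ⟨u, hu⟩) * π (conjEquiv heT (conjEquiv heT ⟨u, hu⟩)) *
        π (conjEquiv heT (conjEquiv heT (conjEquiv heT ⟨u, hu⟩))) = 1
      rw [he, hc, ← mul_assoc]
      exact h
    have hmemT : ∀ x ∈ C, ∀ a ∈ Subgroup.zpowers e, ⁅x, a⁆ ∈ T := fun x hx a ha =>
      Subgroup.commutator_mem_commutator hx ha
    have hbase : ∀ x ∈ C, ⁅x, e⁆ ∈ K.map T.subtype := fun x hx => by
      refine ⟨⟨⁅x, e⁆, hmemT x hx e (Subgroup.mem_zpowers e)⟩, ?_, rfl⟩
      show π _ * π _ * π _ = 1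
      rw [← map_mul, ← map_mul]
      convert map_one π
      apply Subtype.ext
      show ⁅x, e⁆ * (e * ⁅x, e⁆ * e⁻¹) * (e * (e * ⁅x, e⁆ * e⁻¹) * e⁻¹) = 1
      have h3 : e * e * e = 1 := by rw [← pow_three', ← he3]; exact pow_orderOf_eq_one e
      calc _ = x * (e * e * e) * x⁻¹ * (e * e * e)⁻¹ := by simp [commutatorElement_def, mul_assoc]
        _ = 1 := by rw [h3]; simp
    rw [Subgroup.commutator_le]
    intro x hx a ha
    obtain ⟨j, rfl⟩ := (mem_powers_iff_mem_zpowers (x := e)).2 ha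
    induction j with
    | zero => simp
    | succ j ih =>
      have h1 : ⁅x, e ^ (j + 1)⁆ = ⁅x, e⁆ * (e * ⁅x, e ^ j⁆ * e⁻¹) := by
        rw [pow_succ']; simp [commutatorElement_def, mul_assoc]
      show ⁅x, e ^ (j + 1)⁆ ∈ _
      rw [h1]
      obtain ⟨u, hu, hu'⟩ := ih (pow_mem (Subgroup.mem_zpowers e) j)
      refine mul_mem (hbase x hx) ⟨_, hconj u u.2 hu, ?_⟩
      show e * (u : X) * e⁻¹ = e * ⁅x, e ^ j⁆ * e⁻¹
      exact congrArg (fun w => e * w * e⁻¹) hu'
  -- the element `g` acts fixed-point-freely on `T / M`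
  have hgMeq : M.map (conjEquiv hgT).toMonoidHom = M :=
    Subgroup.eq_of_le_of_card_ge (by rintro _ ⟨u, hu, rfl⟩; exact hgM u hu)
      (by rw [Subgroup.card_map_of_injective (conjEquiv hgT).injective])
  let σ : Equiv.Perm (T ⧸ M) := (QuotientGroup.congr M M (conjEquiv hgT) hgMeq).toEquiv
  have hσ : ∀ t : T, σ (π t) = π (conjEquiv hgT t) := fun t => rfl
  have hσk : ∀ (k : ℕ) (t : T) (hk : g ^ k ∈ Subgroup.normalizer (T : Set X)),
      (σ ^ k) (π t) = π (conjEquiv hk t) := by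
    intro k
    induction k with
    | zero => intro t hk; exact congrArg π (Subtype.ext (show (t : X) = g ^ 0 * t * (g ^ 0)⁻¹ by simp))
    | succ k ih =>
      intro t hk
      rw [pow_succ', Equiv.Perm.mul_apply, ih t (pow_mem hgT k), hσ]
      refine congrArg π (Subtype.ext ?_)
      show g * (g ^ k * t * (g ^ k)⁻¹) * g⁻¹ = g ^ (k + 1) * t * (g ^ (k + 1))⁻¹
      rw [pow_succ']; group
  have hσ9 : σ ^ 9 = 1 := Equiv.ext fun v => by
    obtain ⟨t, rfl⟩ := QuotientGroup.mk'_surjective M v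
    rw [hσk 9 t (pow_mem hgT 9)]
    refine congrArg π (Subtype.ext ?_)
    show g ^ 9 * (t : X) * (g ^ 9)⁻¹ = t
    rw [show g ^ 9 = 1 by rw [← hg9]; exact pow_orderOf_eq_one g]; simp
  have hσ1 : σ 1 = 1 := map_one (QuotientGroup.congr M M (conjEquiv hgT) hgMeq)
  have hσ3 : ∀ v, (σ ^ 3) v = v → v = 1 := by
    intro v hv
    obtain ⟨t, rfl⟩ := QuotientGroup.mk'_surjective M v
    have h1 : π (conjEquiv heT t) = π t := by rw [← hσk 3 t heT]; exact hv
    have h2 : π (conjEquiv heT (conjEquiv heT t)) = π t := by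
      rw [← hσk 3 _ heT, h1]; exact hv
    have h := hker t
    rw [h1, h2] at h
    calc π t = π t * (π t) ^ 2 := by rw [hV2, mul_one]
      _ = 1 := by rw [pow_two, ← mul_assoc]; exact h
  have hbig : 64 ≤ Nat.card (T ⧸ M) := by
    let H := Subgroup.zpowers σ
    have hH1 : ∀ h : H, (h : Equiv.Perm (T ⧸ M)) 1 = 1 := fun h => by
      obtain ⟨j, hj⟩ := (mem_powers_iff_mem_zpowers (x := σ)).2 h.2
      rw [← hj]
      clear hj
      induction j with
      | zero => rfl
      | succ j ih =>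
        show (σ ^ (j + 1)) 1 = 1
        rw [pow_succ', Equiv.Perm.mul_apply, ih, hσ1]
    letI : MulAction H {v : T ⧸ M // v ≠ 1} :=
      { smul := fun h v => ⟨(h : Equiv.Perm (T ⧸ M)) v, fun hv => v.2
          ((h : Equiv.Perm (T ⧸ M)).injective (hv.trans (hH1 h).symm))⟩
        one_smul := fun v => Subtype.ext rfl
        mul_smul := fun a b v => Subtype.ext rfl }
    have hfree : ∀ v : {v : T ⧸ M // v ≠ 1}, MulAction.stabilizer H v = ⊥ := by
      intro v
      rw [eq_bot_iff]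
      intro h hh
      rw [Subgroup.mem_bot]
      obtain ⟨j, hj⟩ := (mem_powers_iff_mem_zpowers (x := σ)).2 h.2
      have hh' : (σ ^ j) (v : T ⧸ M) = v := by
        have := congrArg Subtype.val (MulAction.mem_stabilizer_iff.1 hh)
        rw [show σ ^ j = (h : Equiv.Perm (T ⧸ M)) from hj]; exact this
      by_contra hne1
      have hj9 : ¬ 9 ∣ j := by
        rintro ⟨m, rfl⟩
        exact hne1 (Subtype.ext (hj.symm.trans (show σ ^ (9 * m) = 1 by rw [pow_mul, hσ9, one_pow])))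
      have hp1 : MulAction.period σ (v : T ⧸ M) ∣ Nat.gcd j 9 := Nat.dvd_gcd
        (MulAction.pow_smul_eq_iff_period_dvd.1 hh')
        (MulAction.pow_smul_eq_iff_period_dvd.1 (by rw [hσ9]; rfl))
      have h3 : MulAction.period σ (v : T ⧸ M) ∣ 3 := by
        refine hp1.trans ?_
        obtain ⟨i, hi, hi'⟩ := (Nat.dvd_prime_pow Nat.prime_three (m := 2)).1 (Nat.gcd_dvd_right j 9)
        have hi2 : i ≠ 2 := by
          rintro rfl
          exact hj9 ((show (9 : ℕ) = 3 ^ 2 from rfl) ▸ hi' ▸ Nat.gcd_dvd_left j 9)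
        rw [hi']
        exact (pow_dvd_pow 3 (show i ≤ 1 by omega)).trans (by norm_num)
      exact v.2 (hσ3 _ (MulAction.pow_smul_eq_iff_period_dvd.2 h3))
    have hσord : orderOf σ = 9 := by
      obtain ⟨i, hi, hi'⟩ := (Nat.dvd_prime_pow Nat.prime_three (m := 2)).1
        (orderOf_dvd_of_pow_eq_one hσ9)
      rw [hi']
      by_cases h2 : i = 2
      · rw [h2]; norm_num
      exfalso
      have h3 : σ ^ 3 = 1 := orderOf_dvd_iff_pow_eq_one.1
        (hi' ▸ (pow_dvd_pow 3 (show i ≤ 1 by omega)).trans (by norm_num))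
      apply hTne
      rw [eq_bot_iff]
      intro t ht
      have hM : (⟨t, ht⟩ : T) ∈ M := (QuotientGroup.eq_one_iff _).1 (hσ3 _ (by rw [h3]; rfl))
      have hall : ∀ u ∈ T, u ∈ Z := fun u hu => by
        have hM' : (⟨u, hu⟩ : T) ∈ M := (QuotientGroup.eq_one_iff _).1 (hσ3 _ (by rw [h3]; rfl))
        exact (Subgroup.mem_subgroupOf.1 hM').1
      have hcen : ⁅T, Subgroup.zpowers e⁆ = ⊥ := by
        rw [Subgroup.commutator_eq_bot_iff_le_centralizer]
        intro u hu
        rw [Subgroup.mem_centralizer_iff]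
        intro a ha
        obtain ⟨k, rfl⟩ := Subgroup.mem_zpowers_iff.1 ha
        exact ((show Commute e u from heZ u (hall u hu)).zpow_left k).eq
      rw [hTT] at hcen
      rw [← hcen]; exact ht
    have hcard := Nat.card_congr (MulAction.selfEquivOrbitsQuotientProd hfree)
    rw [Nat.card_prod, Nat.card_zpowers, hσord] at hcard
    have hV : Nat.card (T ⧸ M) = Nat.card {v : T ⧸ M // v ≠ 1} + 1 := by
      have h := Nat.card_congr (Equiv.sumCompl (fun v : T ⧸ M => v ≠ 1))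
      rw [Nat.card_sum, show Nat.card {v : T ⧸ M // ¬ v ≠ 1} = 1 from Nat.card_eq_one_iff_unique.2
        ⟨⟨fun a b => Subtype.ext ((not_not.1 a.2).trans (not_not.1 b.2).symm)⟩, ⟨1, fun h => h rfl⟩⟩] at h
      exact h.symm
    obtain ⟨k, hk⟩ := ((hC2.to_le hTC).to_quotient M).exists_card_eq
    have hk0 : Nat.card (T ⧸ M) ≠ 1 := by
      intro h
      have h' := orderOf_dvd_natCard σ
      rw [hσord, Nat.card_perm, h] at h'
      norm_num at h'
    by_contra hlt
    have hk6 : k < 6 := by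
      by_contra h
      exact hlt (hk ▸ le_trans (by norm_num) (Nat.pow_le_pow_right (by norm_num) (not_lt.1 h)))
    interval_cases k <;> norm_num at hk <;> omega
  have hTcard : 64 * Nat.card M ≤ Nat.card T := by
    rw [M.card_eq_card_quotient_mul_card_subgroup]
    exact Nat.mul_le_mul_right _ hbig
  -- `Z1` is a four-group
  have hZ14 : Nat.card Z1 = 4 := by
    obtain ⟨k, hk⟩ := (hC2.to_le (show Z1 ≤ C from fun x hx => hx.1.1)).exists_card_eq
    rcases k with - | (- | (- | k))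
    · exfalso
      have hb : Z1 = ⊥ := Subgroup.eq_bot_of_card_eq _ (by rw [hk, pow_zero])
      have h4 := hsmall T (hTC.trans hCP) (fun a ha b hb' => commutatorElement_eq_one_iff_mul_comm.1 (by
          have h := hcomZ1 a (hTC ha) b (hTC hb'); rwa [hb, Subgroup.mem_bot] at h))
        (fun a ha => by have h := hsqT a ha; rwa [hb, Subgroup.mem_bot] at h)
      have : 0 < Nat.card M := Nat.card_pos
      omega
    · exfalso
      rw [zero_add, pow_one] at hk
      haveI : Fact (Nat.Prime 2) := ⟨Nat.prime_two⟩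
      obtain ⟨⟨z, hz⟩, hzord⟩ := exists_prime_orderOf_dvd_card' (G := Z1) 2 (by rw [hk])
      have hz1 : z ≠ 1 := by
        rintro rfl
        rw [show (⟨1, hz⟩ : Z1) = 1 from rfl, orderOf_one] at hzord
        omega
      have hfix : d * z * d⁻¹ = z := by
        have hw : d * z * d⁻¹ ∈ Z1 := hZ1n d hdC z hz
        have hne1 : (⟨_, hw⟩ : Z1) ≠ 1 := fun h => hz1 (conj_eq_one_iff.1 (congrArg Subtype.val h))
        have hne2 : (⟨z, hz⟩ : Z1) ≠ 1 := fun h => hz1 (congrArg Subtype.val h)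
        obtain ⟨u, -, huniq⟩ := (Nat.card_eq_two_iff' (1 : Z1)).1 hk
        have : (⟨_, hw⟩ : Z1) = ⟨z, hz⟩ := (huniq _ hne1).trans (huniq _ hne2).symm
        exact congrArg Subtype.val this
      have hmem : z ∈ P ⊓ Subgroup.centralizer {d} :=
        ⟨hCP hz.1.1, Subgroup.mem_centralizer_iff.2 (by
          rintro _ rfl; exact mul_inv_eq_iff_eq_mul.1 hfix)⟩
      rw [hfpf, Subgroup.mem_bot] at hmem
      exact hz1 hmem
    · rw [hk]; norm_num
    · exfalso
      rw [hk] at hZ1card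
      have : 2 ^ 3 ≤ 2 ^ (k + 1 + 1 + 1) := Nat.pow_le_pow_right (by norm_num) (by omega)
      omega
  have hinv : ∀ t : T, (t : X) ^ 2 = 1 → t ∈ M := by
    intro t ht
    by_contra htM
    haveI : Fact (Nat.Prime 2) := ⟨Nat.prime_two⟩
    have hord : orderOf (t : X) = 2 :=
      PGroupsBasic.orderOf_eq_of_pow_eq_one ht fun h => htM (by
        show (t : X) ∈ Z1; rw [h]; exact Z1.one_mem)
    have hcent : ∀ z ∈ Z1, z * (t : X) = t * z := fun z hz => (hZc z hz.1 t (hTC t.2)).eq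
    have hZt : Z1 ≤ Subgroup.centralizer ((Subgroup.zpowers (t : X)) : Set X) := fun z hz => by
      rw [Subgroup.mem_centralizer_iff]
      intro a ha
      obtain ⟨j, rfl⟩ := Subgroup.mem_zpowers_iff.1 ha
      exact ((show Commute (t : X) z from (hcent z hz).symm).zpow_left j).eq
    have hV := isElementaryAbelian_sup (p := 2) (A := Z1) (B := Subgroup.zpowers (t : X))
      ⟨isMulCommutative_of_forall fun a ha b hb => (hZc a ha.1 b hb.1.1).eq, fun a ha => ha.2⟩
      (isElementaryAbelian_zpowers ht) hZt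
    have h4 := hsmall (Z1 ⊔ Subgroup.zpowers (t : X))
      (sup_le (fun x hx => hCP hx.1.1) (Subgroup.zpowers_le.2 (hCP (hTC t.2))))
      (fun a ha b hb => comm_of_isMulCommutative hV.1 ha hb) hV.2
    have hlt : Z1 < Z1 ⊔ Subgroup.zpowers (t : X) :=
      lt_of_le_of_ne le_sup_left fun h => htM (show (t : X) ∈ Z1 by
        rw [h]; exact Subgroup.mem_sup_right (Subgroup.mem_zpowers _))
    have := Set.Finite.card_lt_card (Set.toFinite _) (SetLike.coe_ssubset_coe.mpr hlt)
    rw [SetLike.coe_sort_coe, SetLike.coe_sort_coe, hZ14] at this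
    omega
  -- squares and commutators as elements of `Z1`
  let sq : T → Z1 := fun t => ⟨(t : X) ^ 2, hsqT t t.2⟩
  let br : T → T → Z1 := fun a b => ⟨⁅(a : X), (b : X)⁆, hcomZ1 _ (hTC a.2) _ (hTC b.2)⟩
  have hsqmul : ∀ a b : T, sq (a * b) = sq a * sq b * br b a := fun a b =>
    Subtype.ext (hC4 a (hTC a.2) b (hTC b.2)).2
  have hsq1 : ∀ t : T, sq t = 1 → t ∈ M := fun t h => hinv t (congrArg Subtype.val h)
  have hbr : ∀ a b c : T, br a (b * c) = br a b * br a c := fun a b c => Subtype.ext (by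
    show ⁅(a : X), (b : X) * c⁆ = ⁅(a : X), (b : X)⁆ * ⁅(a : X), (c : X)⁆
    have h := (hZc _ (hcomZ1 _ (hTC a.2) _ (hTC c.2)).1 (b : X) (hTC b.2)).eq
    calc ⁅(a : X), (b : X) * c⁆ = ⁅(a : X), (b : X)⁆ * (b * ⁅(a : X), (c : X)⁆ * (b : X)⁻¹) := by
          simp [commutatorElement_def, mul_assoc]
      _ = _ := by rw [← h, mul_inv_cancel_right])
  haveI : Nontrivial (T ⧸ M) := Finite.one_lt_card_iff_nontrivial.1 (by omega)
  obtain ⟨v0, hv0⟩ := exists_ne (1 : T ⧸ M)
  obtain ⟨x0, rfl⟩ := QuotientGroup.mk'_surjective M v0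
  have hx0 : x0 ∉ M := fun h => hv0 ((QuotientGroup.eq_one_iff _).2 h)
  let f1 : T →* Z1 := MonoidHom.mk' (br x0) (hbr x0)
  have hK1 := card_le_inf_range_mul (X := X) f1
  have hbrc : ∀ {a b : T}, br a b = 1 → Commute a b := fun {a b} h =>
    Subtype.ext (commutatorElement_eq_one_iff_mul_comm.1 (congrArg Subtype.val h))
  have hsup2 : ∀ (A : Subgroup T) (t : T), A.Normal → t ^ 2 ∈ A →
      Nat.card (A ⊔ Subgroup.zpowers t : Subgroup T) ≤ Nat.card A * 2 := by
    intro A t hA ht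
    haveI := hA
    have h1 := Subgroup.relIndex_mul_relIndex ⊥ A (A ⊔ Subgroup.zpowers t) bot_le le_sup_left
    rw [Subgroup.relIndex_bot_left, Subgroup.relIndex_bot_left, Subgroup.relIndex_sup_left] at h1
    rw [← h1]
    refine Nat.mul_le_mul_left _ ?_
    rw [Subgroup.relIndex, Subgroup.index]
    by_contra hlt
    push Not at hlt
    let q := QuotientGroup.mk' (A.subgroupOf (Subgroup.zpowers t))
    have hall : ∀ w, w = q ⟨t, Subgroup.mem_zpowers t⟩ ∨ w = 1 := by
      intro w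
      obtain ⟨⟨u, hu⟩, rfl⟩ := QuotientGroup.mk'_surjective _ w
      obtain ⟨j, rfl⟩ := Subgroup.mem_zpowers_iff.1 hu
      rcases Int.even_or_odd j with ⟨i, rfl⟩ | ⟨i, rfl⟩
      · refine Or.inr ((QuotientGroup.eq_one_iff _).2 ?_)
        show t ^ (i + i) ∈ A
        rw [← two_mul, zpow_mul, zpow_ofNat]
        exact zpow_mem ht i
      · refine Or.inl ((QuotientGroup.eq).2 ?_)
        show (t ^ (2 * i + 1))⁻¹ * t ∈ A
        have e1 : (t ^ (2 * i + 1))⁻¹ * t = ((t ^ 2) ^ i)⁻¹ := by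
          rw [zpow_add, zpow_one, zpow_mul, zpow_ofNat, mul_inv_rev, mul_assoc,
            ← (((Commute.refl t).pow_left 2).zpow_left i).inv_left.eq.symm, inv_mul_cancel_left]
        rw [e1]
        exact inv_mem (zpow_mem ht i)
    have h2 : (Set.univ : Set (Subgroup.zpowers t ⧸ A.subgroupOf (Subgroup.zpowers t))) ⊆
        {q ⟨t, Subgroup.mem_zpowers t⟩, 1} := fun w _ => by rcases hall w with h | h <;> simp [h]
    have h3 := (Set.ncard_le_ncard h2 (Set.toFinite _)).trans (Set.ncard_insert_le _ _)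
    rw [Set.ncard_univ, Set.ncard_singleton] at h3
    omega
  have hMsq : ∀ t : T, t ^ 2 ∈ M := fun t => hsqT t t.2
  have hMnormal : ∀ A : Subgroup T, M ≤ A → A.Normal := fun A hA => ⟨fun u hu w => by
    have h : w * u * w⁻¹ * u⁻¹ ∈ M := by
      show (((w * u * w⁻¹ * u⁻¹ : T)) : X) ∈ Z1
      exact hcomZ1 _ (hTC w.2) _ (hTC u.2)
    simpa using A.mul_mem (hA h) hu⟩
  let A1 : Subgroup T := M ⊔ Subgroup.zpowers x0
  have hA1 : Nat.card A1 ≤ Nat.card M * 2 := hsup2 M x0 hMn (hMsq x0)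
  have hMpos : 0 < Nat.card M := Nat.card_pos
  have hK1card : 16 * Nat.card M ≤ Nat.card f1.ker := by
    rw [hZ14] at hK1
    omega
  obtain ⟨y, hyK, hyA⟩ : ∃ y ∈ f1.ker, y ∉ A1 := by
    by_contra h
    push Not at h
    have := Subgroup.card_le_of_le (show f1.ker ≤ A1 from h)
    omega
  have hxy : br x0 y = 1 := MonoidHom.mem_ker.1 hyK
  have hbryx : ∀ {a b : T}, br a b = 1 → br b a = 1 := fun {a b} h => Subtype.ext
    (commutatorElement_eq_one_iff_mul_comm.2 (congrArg Subtype.val (hbrc h).eq).symm)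
  let q0 : Subgroup Z1 := Subgroup.zpowers (sq x0)
  have hq : Nat.card q0 = 2 := by
    haveI : Fact (Nat.Prime 2) := ⟨Nat.prime_two⟩
    rw [Nat.card_zpowers]
    exact PGroupsBasic.orderOf_eq_of_pow_eq_one (Subtype.ext (hsqT x0 x0.2).2) fun h => hx0 (hsq1 x0 h)
  haveI : IsMulCommutative Z1 := isMulCommutative_of_forall fun a ha b hb => (hZc a ha.1 b hb.1.1).eq
  haveI : q0.Normal := ⟨fun u hu w => by
    rwa [mul_comm' w u, mul_inv_cancel_right]⟩
  have hZq : Nat.card (Z1 ⧸ q0) = 2 := by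
    have := q0.card_eq_card_quotient_mul_card_subgroup
    rw [hq, hZ14] at this
    omega
  have hq0' : ∀ u ∈ q0, u = 1 ∨ u = sq x0 := by
    intro u hu
    obtain ⟨j, rfl⟩ := Subgroup.mem_zpowers_iff.1 hu
    have h2 : (sq x0) ^ 2 = 1 := Subtype.ext (hsqT x0 x0.2).2
    rcases Int.even_or_odd j with ⟨i, rfl⟩ | ⟨i, rfl⟩
    · left; rw [← two_mul, zpow_mul, zpow_ofNat, h2, one_zpow]
    · right; rw [zpow_add, zpow_mul, zpow_ofNat, h2, one_zpow, one_mul, zpow_one]
  have hgood : ∀ v ∈ f1.ker, v ∉ A1 → sq v ∉ q0 := by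
    intro v hv hvA hvq
    have hxv : br x0 v = 1 := MonoidHom.mem_ker.1 hv
    rcases hq0' _ hvq with h | h
    · exact hvA (Subgroup.mem_sup_left (hsq1 v h))
    · have h1 : sq (x0 * v) = 1 := by
        rw [hsqmul, h, hbryx hxv, mul_one, ← pow_two]
        exact Subtype.ext (hsqT x0 x0.2).2
      refine hvA ?_
      have := A1.mul_mem (A1.inv_mem (Subgroup.mem_sup_right (Subgroup.mem_zpowers x0)))
        (Subgroup.mem_sup_left (hsq1 _ h1) : x0 * v ∈ A1)
      simpa using this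
  let f2 : f1.ker →* Z1 ⧸ q0 := (QuotientGroup.mk' q0).comp
    ((MonoidHom.mk' (br y) (hbr y)).comp f1.ker.subtype)
  have hK2 := card_le_inf_range_mul (X := X) f2
  rw [hZq] at hK2
  let A2 : Subgroup T := A1 ⊔ Subgroup.zpowers y
  have hA2 : Nat.card A2 ≤ Nat.card A1 * 2 :=
    hsup2 A1 y (hMnormal A1 le_sup_left) (Subgroup.mem_sup_left (hMsq y))
  obtain ⟨v, hvK, hvA⟩ : ∃ v ∈ f2.ker, (v : T) ∉ A2 := by
    by_contra h
    push Not at h
    have := Subgroup.card_le_of_le (show f2.ker.map f1.ker.subtype ≤ A2 by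
      rintro _ ⟨u, hu, rfl⟩; exact h u hu)
    rw [Subgroup.card_map_of_injective f1.ker.subtype_injective] at this
    omega
  have hvA1 : (v : T) ∉ A1 := fun h => hvA (Subgroup.mem_sup_left h)
  have hbv : br y v ∈ q0 := (QuotientGroup.eq_one_iff _).1 hvK
  have hvy : (v : T) * y ∉ A1 := fun h => hvA (by
    have := A2.mul_mem (Subgroup.mem_sup_left h) (A2.inv_mem (Subgroup.mem_sup_right (Subgroup.mem_zpowers y)))
    simpa using this)
  have h2 : ∀ u w : Z1, u ∉ q0 → w ∉ q0 → u * w ∈ q0 := fun u w hu hw =>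
    (Subgroup.mul_mem_iff_of_index_two (H := q0) (by rw [Subgroup.index, hZq])).2
      ⟨fun h => absurd h hu, fun h => absurd h hw⟩
  refine hgood _ (mul_mem v.2 hyK) hvy ?_
  rw [hsqmul]
  exact mul_mem (h2 _ _ (hgood _ v.2 hvA1) (hgood y hyK hyA)) hbv

end Cfsg.Agent.S3738
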