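import Cfsg.Statements.S3739
import Mathlib
import Cfsg.Agent.Lib.ClassTwoBaer
import Cfsg.Agent.Lib.HallCore
-- import your own Cfsg.Agent.* helpers here

set_option autoImplicit false
open Cfsg

namespace Cfsg.Agent.S3739

open Cfsg.Agent.ClassTwoBaer Cfsg.Agent.CoprimeAction Cfsg.Agent.PGroupsBasic
open scoped commutatorElement Pointwise

set_option maxHeartbeats 1000000

theorem card_le_ker_mul {T R : Type*} [Group T] [Group R]
    [Finite T] [Finite R] (f : T →* R) : Nat.card T ≤ Nat.card f.ker * Nat.card R := by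
  rw [← f.ker.card_mul_index, Subgroup.index_ker]
  exact Nat.mul_le_mul le_rfl (Nat.card_le_card_of_injective _ Subtype.val_injective)

theorem card_sup_zpowers_le {T : Type*} [Group T] [Finite T] (A : Subgroup T) (t : T)
    (hA : A.Normal) (ht : t ^ 2 ∈ A) :
    Nat.card (A ⊔ Subgroup.zpowers t : Subgroup T) ≤ Nat.card A * 2 := by
  have h1 := Subgroup.relIndex_mul_relIndex ⊥ A (A ⊔ Subgroup.zpowers t) bot_le le_sup_left
  rw [Subgroup.relIndex_bot_left, Subgroup.relIndex_bot_left, Subgroup.relIndex_sup_left] at h1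
  rw [← h1]
  refine Nat.mul_le_mul_left _ ?_
  rw [Subgroup.relIndex, Subgroup.index]
  let q := QuotientGroup.mk' (A.subgroupOf (Subgroup.zpowers t))
  have hall : ∀ w, w = q ⟨t, Subgroup.mem_zpowers t⟩ ∨ w = 1 := by
    intro w
    obtain ⟨⟨u, hu⟩, rfl⟩ := QuotientGroup.mk'_surjective _ w
    obtain ⟨j, rfl⟩ := Subgroup.mem_zpowers_iff.1 hu
    rcases Int.even_or_odd j with ⟨i, rfl⟩ | ⟨i, rfl⟩
    · refine Or.inr ((QuotientGroup.eq_one_iff _).2 ?_)
      show t ^ (i + i) ∈ A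
      rw [← two_mul, zpow_mul, zpow_ofNat]
      exact zpow_mem ht i
    · refine Or.inl ((QuotientGroup.eq).2 ?_)
      show (t ^ (2 * i + 1))⁻¹ * t ∈ A
      have e1 : (t ^ (2 * i + 1))⁻¹ * t = ((t ^ 2) ^ i)⁻¹ := by
        rw [zpow_add, zpow_one, zpow_mul, zpow_ofNat, mul_inv_rev, mul_assoc,
          ← (((Commute.refl t).pow_left 2).zpow_left i).inv_left.eq.symm, inv_mul_cancel_left]
      rw [e1]
      exact inv_mem (zpow_mem ht i)
  have h2 : (Set.univ : Set (Subgroup.zpowers t ⧸ A.subgroupOf (Subgroup.zpowers t))) ⊆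
      {q ⟨t, Subgroup.mem_zpowers t⟩, 1} := fun w _ => by rcases hall w with h | h <;> simp [h]
  have h3 := (Set.ncard_le_ncard h2 (Set.toFinite _)).trans (Set.ncard_insert_le _ _)
  rw [Set.ncard_univ, Set.ncard_singleton] at h3
  omega

/-- Two quadratic maps to a group of order two on more than five dimensions have a common zero. -/
theorem card_lt_of_no_involution {T : Type*} [Group T] [Finite T] (M : Subgroup T)
    (hM4 : Nat.card M ≤ 4) (hMc : M ≤ Subgroup.center T) (hsq : ∀ t : T, t ^ 2 ∈ M)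
    (hMe : ∀ u ∈ M, u ^ 2 = 1) (hcm : ∀ a b : T, ⁅a, b⁆ ∈ M)
    (hinv : ∀ t : T, t ^ 2 = 1 → t ∈ M) : Nat.card T < 64 * Nat.card M := by
  by_contra hbig
  have hMpos : 0 < Nat.card M := Nat.card_pos
  have hcz : ∀ a b : T, ⁅a, b⁆ ∈ Subgroup.center T := fun a b => hMc (hcm a b)
  let sq : T → M := fun t => ⟨t ^ 2, hsq t⟩
  let br : T → T → M := fun a b => ⟨⁅a, b⁆, hcm a b⟩
  have hsqmul : ∀ a b : T, sq (a * b) = sq a * sq b * br b a := fun a b => Subtype.ext (by
    show (a * b) ^ 2 = a ^ 2 * b ^ 2 * ⁅b, a⁆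
    have := mul_pow_of_central (hcz b a) 2
    simpa using this)
  have hbr : ∀ a b c : T, br a (b * c) = br a b * br a c := fun a b c =>
    Subtype.ext (commutatorElement_mul_right_of_central (hcz a c))
  have hsymm : ∀ {a b : T}, br a b = 1 → br b a = 1 := fun {a b} h => Subtype.ext
    (commutatorElement_eq_one_iff_mul_comm.2
      (commutatorElement_eq_one_iff_mul_comm.1 (congrArg Subtype.val h)).symm)
  haveI hMn : M.Normal := normal_of_le_center hMc
  obtain ⟨x0, hx0⟩ : ∃ x0, x0 ∉ M := by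
    by_contra h
    push Not at h
    have := Subgroup.card_le_of_le (show (⊤ : Subgroup T) ≤ M from fun t _ => h t)
    rw [Subgroup.card_top] at this
    omega
  let f1 : T →* M := MonoidHom.mk' (br x0) (hbr x0)
  have hK1 := card_le_ker_mul f1
  have hK1' : Nat.card T ≤ Nat.card f1.ker * 4 := hK1.trans (Nat.mul_le_mul_left _ hM4)
  have hMnormal : ∀ A : Subgroup T, M ≤ A → A.Normal := fun A hA => ⟨fun u hu w => by
    simpa [commutatorElement_def] using A.mul_mem (hA (hcm w u)) hu⟩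
  let A1 : Subgroup T := M ⊔ Subgroup.zpowers x0
  have hA1 : Nat.card A1 ≤ Nat.card M * 2 := card_sup_zpowers_le M x0 hMn (hsq x0)
  obtain ⟨y, hyK, hyA⟩ : ∃ y ∈ f1.ker, y ∉ A1 := by
    by_contra h
    push Not at h
    have := Subgroup.card_le_of_le (show f1.ker ≤ A1 from h)
    omega
  have hxy : br x0 y = 1 := MonoidHom.mem_ker.1 hyK
  let q0 : Subgroup M := Subgroup.zpowers (sq x0)
  have hq2 : (sq x0) ^ 2 = 1 := Subtype.ext (hMe _ (hsq x0))
  have hq : Nat.card q0 = 2 := by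
    haveI : Fact (Nat.Prime 2) := ⟨Nat.prime_two⟩
    rw [Nat.card_zpowers]
    exact PGroupsBasic.orderOf_eq_of_pow_eq_one hq2 fun h => hx0 (hinv x0 (congrArg Subtype.val h))
  haveI : q0.Normal := ⟨fun u hu w => by
    have e : w * u * w⁻¹ = u := Subtype.ext (by
      show (w : T) * u * (w : T)⁻¹ = u
      rw [Subgroup.mem_center_iff.1 (hMc u.2) w, mul_inv_cancel_right])
    rwa [e]⟩
  have hq0' : ∀ u ∈ q0, u = 1 ∨ u = sq x0 := by
    intro u hu
    obtain ⟨j, rfl⟩ := Subgroup.mem_zpowers_iff.1 hu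
    rcases Int.even_or_odd j with ⟨i, rfl⟩ | ⟨i, rfl⟩
    · left; rw [← two_mul, zpow_mul, zpow_ofNat, hq2, one_zpow]
    · right; rw [zpow_add, zpow_mul, zpow_ofNat, hq2, one_zpow, one_mul, zpow_one]
  have hgood : ∀ v ∈ f1.ker, v ∉ A1 → sq v ∉ q0 := by
    intro v hv hvA hvq
    rcases hq0' _ hvq with h | h
    · exact hvA (Subgroup.mem_sup_left (hinv v (congrArg Subtype.val h)))
    · have h1 : sq (x0 * v) = 1 := by
        rw [hsqmul, h, hsymm (MonoidHom.mem_ker.1 hv), mul_one, ← pow_two]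
        exact hq2
      refine hvA ?_
      have := A1.mul_mem (A1.inv_mem (Subgroup.mem_sup_right (Subgroup.mem_zpowers x0)))
        (Subgroup.mem_sup_left (hinv _ (congrArg Subtype.val h1)) : x0 * v ∈ A1)
      simpa using this
  have hZq : Nat.card (M ⧸ q0) ≤ 2 := by
    have := q0.card_eq_card_quotient_mul_card_subgroup
    rw [hq] at this
    omega
  let f2 : f1.ker →* M ⧸ q0 := (QuotientGroup.mk' q0).comp
    ((MonoidHom.mk' (br y) (hbr y)).comp f1.ker.subtype)
  have hK2 := (card_le_ker_mul f2).trans (Nat.mul_le_mul_left _ hZq)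
  let A2 : Subgroup T := A1 ⊔ Subgroup.zpowers y
  have hA2 : Nat.card A2 ≤ Nat.card A1 * 2 :=
    card_sup_zpowers_le A1 y (hMnormal A1 le_sup_left) (Subgroup.mem_sup_left (hsq y))
  obtain ⟨v, hvK, hvA⟩ : ∃ v ∈ f2.ker, (v : T) ∉ A2 := by
    by_contra h
    push Not at h
    have := Subgroup.card_le_of_le (show f2.ker.map f1.ker.subtype ≤ A2 by
      rintro _ ⟨u, hu, rfl⟩; exact h u hu)
    rw [Subgroup.card_map_of_injective f1.ker.subtype_injective] at this
    omega
  have hvA1 : (v : T) ∉ A1 := fun h => hvA (Subgroup.mem_sup_left h)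
  have hbv : br y v ∈ q0 := (QuotientGroup.eq_one_iff _).1 hvK
  have hvy : (v : T) * y ∉ A1 := fun h => hvA (by
    have := A2.mul_mem (Subgroup.mem_sup_left h)
      (A2.inv_mem (Subgroup.mem_sup_right (Subgroup.mem_zpowers y)))
    simpa using this)
  have h2 : ∀ u w : M, u ∉ q0 → w ∉ q0 → u * w ∈ q0 := fun u w hu hw => by
    have hi : q0.index ≤ 2 := hZq
    have hi0 : q0.index ≠ 0 := Subgroup.index_ne_zero_of_finite
    have hi1 : q0.index ≠ 1 := fun h => hu (by rw [Subgroup.index_eq_one.1 h]; trivial)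
    exact (Subgroup.mul_mem_iff_of_index_two (H := q0) (by omega)).2
      ⟨fun h => absurd h hu, fun h => absurd h hw⟩
  refine hgood _ (mul_mem v.2 hyK) hvy ?_
  rw [hsqmul]
  exact mul_mem (h2 _ _ (hgood _ v.2 hvA1) (hgood y hyK hyA)) hbv

/-- Let G be a finite group with C_G(O₂(G)) ≤ O₂(G) containing an element of order 6, and let d be a non-identity 3-element of G normalizing a nontrivial elementary abelian 2-subgroup W with C_W(d) = 1. Then G has an elementary abelian subgroup of order 8. -/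
theorem result {G : Type*} [Group G] [Finite G] (hchar : Subgroup.centralizer (Cfsg.pCore 2 G : Set G) ≤ Cfsg.pCore 2 G) (hsix : ∃ g : G, orderOf g = 6) (d : G) (hd1 : d ≠ 1) (hd : IsPGroup 3 ↥(Subgroup.zpowers d)) (W : Subgroup G) (hW : Cfsg.IsElementaryAbelian 2 W) (hW1 : W ≠ ⊥) (hdW : d ∈ Subgroup.normalizer (W : Set G)) (hfpf : W ⊓ Subgroup.centralizer {d} = ⊥) : ∃ E : Subgroup G, Cfsg.IsElementaryAbelian 2 E ∧ Nat.card E = 8 := by
  classical
  by_contra hno
  haveI : Fact (Nat.Prime 2) := ⟨Nat.prime_two⟩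
  haveI : Fact (Nat.Prime 3) := ⟨Nat.prime_three⟩
  -- every elementary abelian subgroup has order at most four
  have hsmall : ∀ E : Subgroup G, Cfsg.IsElementaryAbelian 2 E → Nat.card E ≤ 4 := by
    intro E hE
    by_contra h
    have hE2 := isPGroup_of_isElementaryAbelian hE
    obtain ⟨k, hk⟩ := hE2.exists_card_eq
    have hk3 : 3 ≤ k := by
      by_contra hk'
      have : 2 ^ k ≤ 2 ^ 2 := Nat.pow_le_pow_right (by norm_num) (by omega)
      omega
    obtain ⟨E', -, -, hE'⟩ := exists_normal_card_pow hE2 (⊤ : Subgroup E) 3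
      (by rw [Subgroup.card_top, hk]; exact Nat.pow_le_pow_right (by norm_num) hk3)
    refine hno ⟨E'.map E.subtype, isElementaryAbelian_mono hE (Subgroup.map_subtype_le _), ?_⟩
    rw [Subgroup.card_map_of_injective E.subtype_injective, hE']
    norm_num
  -- subgroups of `W` normalized by `d`
  have hW2 : ∀ w ∈ W, w ^ 2 = 1 := hW.2
  have hWc : ∀ a ∈ W, ∀ b ∈ W, a * b = b * a := fun a ha b hb => comm_of_isMulCommutative hW.1 ha hb
  have hdfix : ∀ w ∈ W, d * w * d⁻¹ = w → w = 1 := fun w hw h => by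
    have : w ∈ W ⊓ Subgroup.centralizer {d} := ⟨hw, Subgroup.mem_centralizer_iff.2 (by
      rintro _ rfl; exact mul_inv_eq_iff_eq_mul.1 h)⟩
    rwa [hfpf, Subgroup.mem_bot] at this
  have hWpow : ∀ U : Subgroup G, U ≤ W → ∃ k ≤ 2, Nat.card U = 2 ^ k := by
    intro U hU
    have hUe := isElementaryAbelian_mono hW hU
    obtain ⟨k, hk⟩ := (isPGroup_of_isElementaryAbelian hUe).exists_card_eq
    refine ⟨k, ?_, hk⟩
    have := hsmall U hUe
    rw [hk, show (4 : ℕ) = 2 ^ 2 from rfl] at this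
    exact (Nat.pow_le_pow_iff_right (by norm_num)).1 this
  have hdinv : ∀ U : Subgroup G, U ≤ W → U ≠ ⊥ → (∀ u ∈ U, d * u * d⁻¹ ∈ U) →
      U = W ∧ Nat.card W = 4 := by
    intro U hU hU1 hdU
    obtain ⟨k, hk2, hk⟩ := hWpow U hU
    rcases (show k = 0 ∨ k = 1 ∨ k = 2 by omega) with rfl | rfl | rfl
    · exact absurd (Subgroup.eq_bot_of_card_eq _ (by rw [hk]; rfl)) hU1
    · exfalso
      haveI := (Subgroup.nontrivial_iff_ne_bot U).2 hU1
      obtain ⟨⟨u, hu⟩, hu1⟩ := exists_ne (1 : U)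
      have hne : u ≠ 1 := fun h => hu1 (Subtype.ext h)
      obtain ⟨v, -, huniq⟩ := (Nat.card_eq_two_iff' (1 : U)).1 (by rw [hk]; rfl)
      have h1 : (⟨_, hdU u hu⟩ : U) ≠ 1 := fun h => hne (conj_eq_one_iff.1 (congrArg Subtype.val h))
      have : (⟨_, hdU u hu⟩ : U) = ⟨u, hu⟩ := (huniq _ h1).trans (huniq _ hu1).symm
      exact hne (hdfix u (hU hu) (congrArg Subtype.val this))
    · have hW4 : Nat.card W = 4 := by
        refine le_antisymm (hsmall W hW) ?_
        calc (4 : ℕ) = Nat.card U := by rw [hk]; rfl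
          _ ≤ Nat.card W := Subgroup.card_le_of_le hU
      exact ⟨Subgroup.eq_of_le_of_card_ge hU (by rw [hW4, hk]; rfl), hW4⟩
  have hW4 : Nat.card W = 4 := (hdinv W le_rfl hW1 fun u hu => CoprimeAction.conj_mem hdW hu).2
  let Q : Subgroup G := Cfsg.pCore 2 G
  have hQ2 : IsPGroup 2 Q := Cfsg.Agent.HallCore.isPGroup_pCore 2 G
  haveI hQn : Q.Normal := Cfsg.Agent.HallCore.pCore_normal 2 G
  let Z : Subgroup G :=
    { carrier := {x | x ∈ Q ∧ x ∈ Subgroup.centralizer (Q : Set G) ∧ x ^ 2 = 1}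
      one_mem' := ⟨Q.one_mem, one_mem _, one_pow 2⟩
      mul_mem' := fun {a b} ha hb => ⟨Q.mul_mem ha.1 hb.1, mul_mem ha.2.1 hb.2.1, by
        rw [(show Commute a b from (Subgroup.mem_centralizer_iff.1 ha.2.1 b hb.1).symm).mul_pow,
          ha.2.2, hb.2.2, one_mul]⟩
      inv_mem' := fun {a} ha => ⟨Q.inv_mem ha.1, inv_mem ha.2.1, by rw [inv_pow, ha.2.2, inv_one]⟩ }
  haveI hZn : Z.Normal := ⟨fun z hz g => ⟨hQn.conj_mem z hz.1 g,
    (inferInstance : (Subgroup.centralizer (Q : Set G)).Normal).conj_mem z hz.2.1 g,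
    by rw [conj_pow, hz.2.2, mul_one, mul_inv_cancel]⟩⟩
  have hZe : Cfsg.IsElementaryAbelian 2 Z :=
    ⟨isMulCommutative_of_forall fun a ha b hb =>
      (Subgroup.mem_centralizer_iff.1 ha.2.1 b hb.1).symm, fun a ha => ha.2.2⟩
  have hZne : Z ≠ ⊥ := by
    intro hb
    have hQne : Q ≠ ⊥ := fun h => by
      obtain ⟨g, hg⟩ := hsix
      have h1 : g ∈ Subgroup.centralizer ((Cfsg.pCore 2 G : Subgroup G) : Set G) :=
        Subgroup.mem_centralizer_iff.2 fun y hy => by
          rw [show y = 1 from Subgroup.mem_bot.1 (h ▸ hy), one_mul, mul_one]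
      have h2 : g = 1 := Subgroup.mem_bot.1 (h ▸ hchar h1)
      rw [h2, orderOf_one] at hg
      omega
    haveI : Nontrivial Q := (Subgroup.nontrivial_iff_ne_bot Q).2 hQne
    have := IsPGroup.center_nontrivial hQ2
    have hcp : IsPGroup 2 (Subgroup.center Q) := hQ2.to_subgroup _
    obtain ⟨z, hz, hzo⟩ := exists_orderOf_eq_of_ne_bot hcp
      ((Subgroup.nontrivial_iff_ne_bot _).1 this)
    have hzZ : (z : G) ∈ Z := ⟨z.2, Subgroup.mem_centralizer_iff.2 fun q hq =>
      congrArg Subtype.val (Subgroup.mem_center_iff.1 hz ⟨q, hq⟩), by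
        rw [← hzo, ← Subgroup.orderOf_coe]; exact pow_orderOf_eq_one _⟩
    rw [hb, Subgroup.mem_bot] at hzZ
    rw [show z = 1 from Subtype.ext hzZ, orderOf_one] at hzo
    omega
  have hE8 : ∀ t : G, t ^ 2 = 1 → (∀ w ∈ W, t * w = w * t) → t ∈ W := by
    intro t ht hc
    by_contra htW
    have hV := isElementaryAbelian_sup (p := 2) hW (isElementaryAbelian_zpowers ht) (by
      intro w hw
      rw [Subgroup.mem_centralizer_iff]
      intro a ha
      obtain ⟨j, rfl⟩ := Subgroup.mem_zpowers_iff.1 ha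
      exact ((show Commute t w from hc w hw).zpow_left j).eq)
    have h4 := hsmall _ hV
    have hlt : W < W ⊔ Subgroup.zpowers t :=
      lt_of_le_of_ne le_sup_left fun h => htW (by
        rw [h]; exact Subgroup.mem_sup_right (Subgroup.mem_zpowers _))
    have := Set.Finite.card_lt_card (Set.toFinite _) (SetLike.coe_ssubset_coe.mpr hlt)
    rw [SetLike.coe_sort_coe, SetLike.coe_sort_coe, hW4] at this
    omega
  have hWN : ∀ g : G, g ∈ Subgroup.normalizer (Z : Set G) := fun g => by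
    rw [Subgroup.normalizer_eq_top_iff.2 hZn]; trivial
  have hWZ : W ≤ Z := by
    have hne : W ⊓ Z ≠ ⊥ := by
      intro hb
      letI : MulAction W Z :=
        { smul := fun w z => ⟨(w : G) * z * (w : G)⁻¹, hZn.conj_mem z z.2 w⟩
          one_smul := fun z => Subtype.ext (show ((1 : W) : G) * z * ((1 : W) : G)⁻¹ = z by simp)
          mul_smul := fun a b z => Subtype.ext (show ((a * b : W) : G) * z * ((a * b : W) : G)⁻¹ =
            a * (b * z * (b : G)⁻¹) * (a : G)⁻¹ by simp [mul_assoc]) }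
      have hd2 : 2 ∣ Nat.card Z := by
        rcases (isPGroup_of_isElementaryAbelian hZe).card_eq_or_dvd with h | h
        · exact absurd (Subgroup.eq_bot_of_card_eq _ h) hZne
        · exact h
      obtain ⟨z, hz, hz1⟩ := (isPGroup_of_isElementaryAbelian hW).exists_fixed_point_of_prime_dvd_card_of_fixed_point
        Z hd2 (a := 1) (fun w => Subtype.ext (show (w : G) * 1 * (w : G)⁻¹ = 1 by simp))
      have hzW : (z : G) ∈ W := hE8 z z.2.2.2 fun w hw =>
        (mul_inv_eq_iff_eq_mul.1 (congrArg Subtype.val (hz ⟨w, hw⟩))).symm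
      have : (z : G) ∈ W ⊓ Z := ⟨hzW, z.2⟩
      rw [hb, Subgroup.mem_bot] at this
      exact hz1 (Subtype.ext this.symm)
    have := (hdinv (W ⊓ Z) inf_le_left hne fun u hu =>
      ⟨CoprimeAction.conj_mem hdW hu.1, hZn.conj_mem u hu.2 d⟩).1
    exact this ▸ inf_le_right
  have hWeq : W = Z := Subgroup.eq_of_le_of_card_ge hWZ (by rw [hW4]; exact hsmall Z hZe)
  haveI hWn : W.Normal := hWeq ▸ hZn
  have hQinv : ∀ t ∈ Q, t ^ 2 = 1 → t ∈ W := fun t ht h2 => hE8 t h2 fun w hw =>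
    Subgroup.mem_centralizer_iff.1 (hWZ hw).2.1 t ht
  let Cw : Subgroup G := Subgroup.centralizer (W : Set G)
  -- some element of order three centralizes `W`
  have hy0 : ∃ y ∈ Cw, orderOf y = 3 := by
    obtain ⟨g, hg⟩ := hsix
    let x := g ^ 3
    let y := g ^ 2
    have hx : orderOf x = 2 := by rw [orderOf_pow_of_dvd (by norm_num) (by rw [hg]; norm_num), hg]
    have hy : orderOf y = 3 := by rw [orderOf_pow_of_dvd (by norm_num) (by rw [hg]; norm_num), hg]
    have hx2 : x ^ 2 = 1 := by rw [← hx]; exact pow_orderOf_eq_one x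
    refine ⟨y, Subgroup.mem_centralizer_iff.2 fun w hw => ?_, hy⟩
    have hxy : Commute x y := Commute.pow_pow_self g 3 2
    -- `y` fixes a non-identity element
    obtain ⟨w0, hw0, hw01, hyw0⟩ : ∃ w0 ∈ W, w0 ≠ 1 ∧ y * w0 * y⁻¹ = w0 := by
      by_cases hxW : x ∈ W
      · refine ⟨x, hxW, fun h => ?_, mul_inv_eq_iff_eq_mul.2 hxy.eq.symm⟩
        rw [h, orderOf_one] at hx; omega
      let F : Subgroup G := W ⊓ Subgroup.centralizer {x}
      have hF : ∀ u, u ∈ F ↔ u ∈ W ∧ x * u = u * x := fun u =>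
        ⟨fun h => ⟨h.1, Subgroup.mem_centralizer_iff.1 h.2 x rfl⟩,
          fun h => ⟨h.1, Subgroup.mem_centralizer_iff.2 (by rintro _ rfl; exact h.2)⟩⟩
      have hFW : F ≠ W := fun h => hxW (hE8 x hx2 fun u hu => ((hF u).1 (h.symm ▸ hu)).2)
      obtain ⟨w1, hw1, hw1F⟩ : ∃ w1 ∈ W, w1 ∉ F := by
        by_contra h
        push Not at h
        exact hFW (le_antisymm inf_le_left h)
      have hxw1 : x * w1 * x⁻¹ ∈ W := hWn.conj_mem w1 hw1 x
      have hu : w1 * (x * w1 * x⁻¹) ∈ F := by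
        refine (hF _).2 ⟨mul_mem hw1 hxw1, ?_⟩
        have hxi : x⁻¹ = x := inv_eq_of_mul_eq_one_right (by rw [← pow_two]; exact hx2)
        calc x * (w1 * (x * w1 * x⁻¹)) = (x * w1 * x⁻¹) * (x * x * w1) * (x * x)⁻¹ * x := by group
          _ = (x * w1 * x⁻¹) * w1 * x := by rw [← pow_two, hx2]; simp
          _ = w1 * (x * w1 * x⁻¹) * x := by rw [hWc _ hxw1 _ hw1]
      have hu1 : w1 * (x * w1 * x⁻¹) ≠ 1 := fun h => hw1F ((hF w1).2 ⟨hw1, by
        have h2 : x * w1 * x⁻¹ = w1 := by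
          rw [eq_inv_of_mul_eq_one_right h]
          exact inv_eq_of_mul_eq_one_right (by rw [← pow_two]; exact hW2 w1 hw1)
        exact mul_inv_eq_iff_eq_mul.1 h2⟩)
      obtain ⟨k, hk2, hk⟩ := hWpow F inf_le_left
      have hk1 : k ≤ 1 := by
        by_contra hk'
        exact hFW (Subgroup.eq_of_le_of_card_ge inf_le_left
          (by rw [hW4, hk, show k = 2 by omega]; norm_num))
      have hk0 : k ≠ 0 := fun h => hu1 (by
        have := Subgroup.eq_bot_of_card_eq F (by rw [hk, h]; rfl)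
        rw [this, Subgroup.mem_bot] at hu; exact hu)
      obtain ⟨v, -, huniq⟩ := (Nat.card_eq_two_iff' (1 : F)).1 (by rw [hk, show k = 1 by omega]; rfl)
      have hyu : y * (w1 * (x * w1 * x⁻¹)) * y⁻¹ ∈ F := by
        refine (hF _).2 ⟨hWn.conj_mem _ ((hF _).1 hu).1 y, ?_⟩
        have hc : Commute x (w1 * (x * w1 * x⁻¹)) := ((hF _).1 hu).2
        exact ((hxy.mul_right hc).mul_right hxy.inv_right).eq
      refine ⟨_, ((hF _).1 hu).1, hu1, congrArg Subtype.val ((huniq ⟨_, hyu⟩ fun h => hu1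
        (conj_eq_one_iff.1 (congrArg Subtype.val h))).trans
        (huniq ⟨_, hu⟩ fun h => hu1 (congrArg Subtype.val h)).symm)⟩
    let F : Subgroup G := W ⊓ Subgroup.centralizer {y}
    have hF : ∀ u, u ∈ F ↔ u ∈ W ∧ y * u = u * y := fun u =>
      ⟨fun h => ⟨h.1, Subgroup.mem_centralizer_iff.1 h.2 y rfl⟩,
        fun h => ⟨h.1, Subgroup.mem_centralizer_iff.2 (by rintro _ rfl; exact h.2)⟩⟩
    by_contra hwy
    have hwF : w ∉ F := fun h => hwy ((hF w).1 h).2.symm
    obtain ⟨k, hk2, hk⟩ := hWpow F inf_le_left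
    have hk1 : k = 1 := by
      rcases (show k = 0 ∨ k = 1 ∨ k = 2 by omega) with rfl | rfl | rfl
      · exfalso
        have h := (hF w0).2 ⟨hw0, mul_inv_eq_iff_eq_mul.1 hyw0⟩
        rw [Subgroup.eq_bot_of_card_eq F (by rw [hk]; rfl), Subgroup.mem_bot] at h
        exact hw01 h
      · rfl
      · exfalso
        exact hwF (Subgroup.eq_of_le_of_card_ge (H := F) inf_le_left
          (by rw [hW4, hk]; norm_num) ▸ hw)
    have hidx : (F.subgroupOf W).index = 2 := by
      have h := Subgroup.card_mul_index (F.subgroupOf W)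
      rw [Nat.card_congr (Subgroup.subgroupOfEquivOfLe (show F ≤ W from inf_le_left)).toEquiv, hW4,
        hk, hk1] at h
      omega
    have hyF : y * w * y⁻¹ ∉ F := fun h => hwF ((hF w).2 ⟨hw, by
      have hc : Commute y (y * w * y⁻¹) := ((hF _).1 h).2
      have h2 := ((Commute.refl y).inv_right.mul_right hc).mul_right (Commute.refl y)
      simpa [mul_assoc] using h2.eq⟩)
    have hmem : w * (y * w * y⁻¹) ∈ F :=
      (Subgroup.mul_mem_iff_of_index_two hidx (a := ⟨w, hw⟩) (b := ⟨_, hWn.conj_mem w hw y⟩)).2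
        ⟨fun h => absurd h hwF, fun h => absurd h hyF⟩
    obtain ⟨hmW, hmy⟩ := (hF _).1 hmem
    have hm2 := hW2 _ hmW
    let c := w * (y * w * y⁻¹)
    have e1 : y * w * y⁻¹ = w * c := by
      show _ = w * (w * (y * w * y⁻¹))
      rw [← mul_assoc, ← pow_two, hW2 w hw, one_mul]
    have e2 : y * c * y⁻¹ = c := mul_inv_eq_iff_eq_mul.2 hmy
    have e3 : y * (y * w * y⁻¹) * y⁻¹ = w := by
      rw [e1]
      calc y * (w * c) * y⁻¹ = (y * w * y⁻¹) * (y * c * y⁻¹) := by group
        _ = w * (c ^ 2) := by rw [e1, e2, mul_assoc, pow_two]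
        _ = w := by rw [hm2, mul_one]
    have hy3 : y * y * y = 1 := by rw [← pow_three', ← hy]; exact pow_orderOf_eq_one y
    refine hwy (mul_inv_eq_iff_eq_mul.1 ?_).symm
    calc y * w * y⁻¹ = y * (y * (y * w * y⁻¹) * y⁻¹) * y⁻¹ := by rw [e3]
      _ = (y * y * y) * w * (y * y * y)⁻¹ := by group
      _ = w := by rw [hy3]; simp
  -- choose one commuting with `d`
  obtain ⟨y, hyW, hy3, hdy⟩ : ∃ y, y ∈ Cw ∧ orderOf y = 3 ∧ Commute d y := by
    obtain ⟨y, hyW, hy3⟩ := hy0
    obtain ⟨R, hR⟩ := hd.exists_le_sylow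
    obtain ⟨R', hR'⟩ := (show IsPGroup 3 (Subgroup.zpowers y) from
      IsPGroup.of_card (n := 1) (by rw [Nat.card_zpowers, hy3]; rfl)).exists_le_sylow
    obtain ⟨g, hg⟩ := MulAction.exists_smul_eq G R' R
    have hmem : g * y * g⁻¹ ∈ (R : Subgroup G) := by
      rw [← hg, Sylow.coe_subgroup_smul, Subgroup.mem_pointwise_smul_iff_inv_smul_mem]
      simpa [MulAut.conj_apply, mul_assoc] using hR' (Subgroup.mem_zpowers y)
    have hmC : g * y * g⁻¹ ∈ Cw := (inferInstance : Cw.Normal).conj_mem y hyW g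
    haveI : (Cw.subgroupOf (R : Subgroup G)).Normal := inferInstance
    have hne : Cw.subgroupOf (R : Subgroup G) ≠ ⊥ := fun h => by
      have h1 : (⟨_, hmem⟩ : (R : Subgroup G)) ∈ Cw.subgroupOf (R : Subgroup G) := hmC
      rw [h, Subgroup.mem_bot] at h1
      have h2 : y = 1 := conj_eq_one_iff.1 (congrArg Subtype.val h1)
      rw [h2, orderOf_one] at hy3; omega
    have hne' := inf_center_ne_bot R.2 hne
    obtain ⟨z, hz, hzo⟩ := exists_orderOf_eq_of_ne_bot (R.2.to_subgroup _) hne'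
    refine ⟨(z : G), hz.1, by rw [Subgroup.orderOf_coe, hzo], ?_⟩
    exact congrArg Subtype.val (Subgroup.mem_center_iff.1 hz.2 ⟨d, hR (Subgroup.mem_zpowers d)⟩)
  -- the critical subgroup of `Q`
  obtain ⟨C, hCQ, hN, hself, hcom, hsq⟩ := exists_critical_sub hQ2
  have hQN : ∀ g : G, g ∈ Subgroup.normalizer (Q : Set G) := fun g => by
    rw [Subgroup.normalizer_eq_top_iff.2 hQn]; trivial
  have hEN : Subgroup.zpowers y ≤ Subgroup.normalizer (C : Set G) := fun g _ => hN (hQN g)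
  have hcE : (Nat.card (Subgroup.zpowers y)).Coprime 2 := by rw [Nat.card_zpowers, hy3]; norm_num
  have hC2 : IsPGroup 2 C := hQ2.to_le hCQ
  obtain ⟨kC, hkC⟩ := hC2.exists_card_eq
  have hcopC : (Nat.card (Subgroup.zpowers y)).Coprime (Nat.card C) := hkC ▸ hcE.pow_right kC
  haveI : Group.IsSolvable (Subgroup.zpowers y) := isSolvable_zpowers y
  have hyC : ¬ Subgroup.zpowers y ≤ Subgroup.centralizer (C : Set G) := by
    intro h
    have h1 := centralizes_of_critical hQ2 hCQ (fun g _ => hN (hQN g)) (fun g _ => hQN g) hcE hself h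
    have h2 : y ∈ Q := hchar (h1 (Subgroup.mem_zpowers y))
    obtain ⟨k, hk⟩ := hQ2.exists_card_eq
    have h3 := Subgroup.orderOf_dvd_natCard Q h2
    rw [hy3, hk] at h3
    have := Nat.prime_three.dvd_of_dvd_pow h3
    norm_num at this
  let Z' : Subgroup G := C ⊓ Subgroup.centralizer (C : Set G)
  have hZc : ∀ z ∈ Z', ∀ c ∈ C, Commute z c := fun z hz c hc =>
    (Subgroup.mem_centralizer_iff.1 hz.2 c hc).symm
  have hyZ : ∀ z ∈ Z', Commute y z := by
    haveI : IsMulCommutative Z' := isMulCommutative_of_forall fun a ha b hb => (hZc a ha b hb.1).eq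
    have hnorm : Subgroup.zpowers y ≤ Subgroup.normalizer (Z' : Set G) :=
      le_normalizer_inf hEN (le_normalizer_of_conj_mem fun a ha z hz => Subgroup.mem_centralizer_iff.2 fun c hc => by
        have h1 := Subgroup.mem_centralizer_iff.1 hz _ (CoprimeAction.conj_mem' (hEN ha) hc)
        calc c * (a * z * a⁻¹) = a * (a⁻¹ * c * a * z) * a⁻¹ := by group
          _ = a * (z * (a⁻¹ * c * a)) * a⁻¹ := by rw [h1]
          _ = a * z * a⁻¹ * c := by group)
    have h := le_centralizer_of_prime_order_fixed hnorm (coprime_of_le_right inf_le_left hcopC)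
      (fun v hv hprime a ha => by
        have hd2 : orderOf v ∣ 2 ^ kC := hkC ▸ Subgroup.orderOf_dvd_natCard C hv.1
        have hv2 : orderOf v = 2 := (Nat.prime_dvd_prime_iff_eq hprime Nat.prime_two).1
          (hprime.dvd_of_dvd_pow hd2)
        have hc : Commute y v :=
          (Subgroup.mem_centralizer_iff.1 hyW v (hQinv v (hCQ hv.1) (by rw [← hv2]; exact pow_orderOf_eq_one v))).symm
        obtain ⟨j, rfl⟩ := Subgroup.mem_zpowers_iff.1 ha
        exact (hc.zpow_left j).eq)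
    exact fun z hz => (Subgroup.mem_centralizer_iff.1 (h (Subgroup.mem_zpowers y)) z hz).symm
  let T : Subgroup G := ⁅C, Subgroup.zpowers y⁆
  have hTC : T ≤ C := commutator_le_self_of_le_normalizer hEN
  have hTne : T ≠ ⊥ := fun h => hyC (by
    rw [← Subgroup.commutator_eq_bot_iff_le_centralizer, Subgroup.commutator_comm]; exact h)
  have hcC : ∀ u v : C, ⁅u, v⁆ ∈ Subgroup.center C := fun u v => Subgroup.mem_center_iff.2 fun w =>
    Subtype.ext (by
      have e : ((⁅u, v⁆ : C) : G) = ⁅(u : G), (v : G)⁆ := map_commutatorElement C.subtype u v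
      show (w : G) * ((⁅u, v⁆ : C) : G) = ((⁅u, v⁆ : C) : G) * w
      rw [e]
      exact Subgroup.mem_centralizer_iff.1 (hcom _ u.2 _ v.2).2 w w.2)
  have hC4 : ∀ a ∈ C, ∀ b ∈ C, ⁅a, b⁆ ^ 2 = 1 ∧ (a * b) ^ 2 = a ^ 2 * b ^ 2 * ⁅b, a⁆ := by
    intro a ha b hb
    refine ⟨?_, ?_⟩
    · have h1 : ⁅(⟨a, ha⟩ : C), (⟨b, hb⟩ : C)⁆ ^ 2 = 1 := by
        rw [← commutatorElement_pow_left (hcC _ _), commutatorElement_eq_one_iff_mul_comm]
        exact Subtype.ext (hZc _ (hsq a ha) b hb).eq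
      have h2 := congrArg C.subtype h1
      rw [map_pow, map_commutatorElement, map_one] at h2
      exact h2
    · have h2 := congrArg C.subtype (mul_pow_of_central (hcC ⟨b, hb⟩ ⟨a, ha⟩) 2)
      rw [map_mul, map_mul, map_pow, map_pow, map_pow, map_pow, map_mul, map_commutatorElement] at h2
      simpa using h2
  have hcomW : ∀ a ∈ C, ∀ b ∈ C, ⁅a, b⁆ ∈ W := fun a ha b hb =>
    hQinv _ (hCQ (hcom a ha b hb).1) (hC4 a ha b hb).1
  let C4 : Subgroup G :=
    { carrier := {x | x ∈ C ∧ x ^ 4 = 1}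
      one_mem' := ⟨C.one_mem, one_pow 4⟩
      mul_mem' := fun {a b} ha hb => ⟨C.mul_mem ha.1 hb.1, by
        rw [show (4 : ℕ) = 2 * 2 from rfl, pow_mul, (hC4 a ha.1 b hb.1).2]
        have h1 : Commute (a ^ 2 * b ^ 2) ⁅b, a⁆ := (hZc _ (hcom b hb.1 a ha.1) _
          (mul_mem (pow_mem ha.1 2) (pow_mem hb.1 2))).symm
        rw [h1.mul_pow, (hC4 b hb.1 a ha.1).1, mul_one,
          (hZc _ (hsq a ha.1) _ (pow_mem hb.1 2)).mul_pow, ← pow_mul, ← pow_mul, ha.2, hb.2, one_mul]⟩
      inv_mem' := fun {a} ha => ⟨C.inv_mem ha.1, by rw [inv_pow, ha.2, inv_one]⟩ }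
  have hT4 : T ≤ C4 := by
    show ⁅C, Subgroup.zpowers y⁆ ≤ C4
    rw [Subgroup.commutator_le]
    intro x hx a ha
    have hy' : a * x⁻¹ * a⁻¹ ∈ C := CoprimeAction.conj_mem (hEN ha) (inv_mem hx)
    refine ⟨hTC (Subgroup.commutator_mem_commutator hx ha), ?_⟩
    have hca : Commute a (x ^ 2) := by
      obtain ⟨j, rfl⟩ := Subgroup.mem_zpowers_iff.1 ha
      exact (hyZ _ (hsq x hx)).zpow_left j
    have h2 : (a * x⁻¹ * a⁻¹) ^ 2 = (x ^ 2)⁻¹ := by
      rw [conj_pow, inv_pow, hca.inv_right.eq, mul_inv_cancel_right]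
    have : ⁅x, a⁆ = x * (a * x⁻¹ * a⁻¹) := by simp [commutatorElement_def, mul_assoc]
    rw [this, show (4 : ℕ) = 2 * 2 from rfl, pow_mul, (hC4 x hx _ hy').2, h2, mul_inv_cancel, one_mul]
    exact (hC4 _ hy' x hx).1
  have hsqT : ∀ t ∈ T, t ^ 2 ∈ W := fun t ht => hQinv _ (hCQ (hsq t (hTC ht)).1)
    (by rw [← pow_mul]; exact (hT4 ht).2)
  -- modulo `W`
  let M : Subgroup T := W.subgroupOf T
  haveI hMn : M.Normal := inferInstance
  have hM4 : Nat.card M ≤ 4 := by
    rw [← hW4, ← Subgroup.card_map_of_injective T.subtype_injective (K := M)]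
    exact Subgroup.card_le_of_le (Subgroup.map_le_iff_le_comap.2 le_rfl)
  have hMc : M ≤ Subgroup.center T := fun u hu => Subgroup.mem_center_iff.2 fun v => Subtype.ext
    (Subgroup.mem_centralizer_iff.1 (hWZ (Subgroup.mem_subgroupOf.1 hu)).2.1 v (hCQ (hTC v.2)))
  have hlt := card_lt_of_no_involution M hM4 hMc (fun t => hsqT t t.2)
    (fun u hu => Subtype.ext (hW2 _ hu)) (fun a b => by
      show ((⁅a, b⁆ : T) : G) ∈ W
      rw [show ((⁅a, b⁆ : T) : G) = ⁅(a : G), (b : G)⁆ from map_commutatorElement T.subtype a b]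
      exact hcomW _ (hTC a.2) _ (hTC b.2))
    (fun t ht => hQinv t (hCQ (hTC t.2)) (congrArg Subtype.val ht))
  -- conjugation on the quotient
  let L : Subgroup G := Subgroup.normalizer (T : Set G)
  have hyL : y ∈ L := Subgroup.normalizer_commutator_ge_right C (Subgroup.zpowers y) (Subgroup.mem_zpowers y)
  have hdL : d ∈ L := by
    apply mem_normalizer_of_conj_smul_eq
    show MulAut.conj d • ⁅C, Subgroup.zpowers y⁆ = _
    rw [Cfsg.Agent.CoprimeSZ.conj_smul_eq_map, Subgroup.map_commutator, MonoidHom.map_zpowers,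
      ← Cfsg.Agent.CoprimeSZ.conj_smul_eq_map, Cfsg.Agent.CoprimeSZ.conj_smul_eq_self (hN (hQN d))]
    congr 2
    simp [MulAut.conj_apply, hdy.eq]
  let π : T →* T ⧸ M := QuotientGroup.mk' M
  let φ : ∀ l : L, (T ⧸ M) →* (T ⧸ M) := fun l =>
    QuotientGroup.map M M (conjEquiv l.2).toMonoidHom fun u hu => hWn.conj_mem _ hu l
  have hφ : ∀ (l : L) (t : T), φ l (π t) = π (conjEquiv l.2 t) := fun l t => rfl
  letI : MulAction L (T ⧸ M) :=
    { smul := fun l v => φ l v
      one_smul := fun v => by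
        obtain ⟨t, rfl⟩ := QuotientGroup.mk'_surjective M v
        exact congrArg π (Subtype.ext (show ((1 : L) : G) * t * ((1 : L) : G)⁻¹ = t by simp))
      mul_smul := fun a b v => by
        obtain ⟨t, rfl⟩ := QuotientGroup.mk'_surjective M v
        exact congrArg π (Subtype.ext (show ((a * b : L) : G) * t * ((a * b : L) : G)⁻¹ =
          (a : G) * ((b : G) * t * (b : G)⁻¹) * (a : G)⁻¹ by simp [mul_assoc])) }
  have hsmul : ∀ (l : L) (t : T), l • π t = π (conjEquiv l.2 t) := fun l t => rfl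
  let yL : L := ⟨y, hyL⟩
  let dL : L := ⟨d, hdL⟩
  haveI hVc : IsMulCommutative (T ⧸ M) := ⟨⟨by
    intro a b
    obtain ⟨a, rfl⟩ := QuotientGroup.mk'_surjective M a
    obtain ⟨b, rfl⟩ := QuotientGroup.mk'_surjective M b
    rw [← commutatorElement_eq_one_iff_mul_comm, ← map_commutatorElement]
    refine (QuotientGroup.eq_one_iff _).2 ?_
    show ((⁅a, b⁆ : T) : G) ∈ W
    rw [show ((⁅a, b⁆ : T) : G) = ⁅(a : G), (b : G)⁆ from map_commutatorElement T.subtype a b]
    exact hcomW _ (hTC a.2) _ (hTC b.2)⟩⟩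
  have hy3' : y * y * y = 1 := by rw [← pow_three', ← hy3]; exact pow_orderOf_eq_one y
  have hker : ∀ t : T, π t * π (conjEquiv hyL t) * π (conjEquiv hyL (conjEquiv hyL t)) = 1 := by
    intro t
    have hc : ∀ u v : T ⧸ M, u * v = v * u := hVc.is_comm.comm
    let K : Subgroup T :=
      { carrier := {t | π t * π (conjEquiv hyL t) * π (conjEquiv hyL (conjEquiv hyL t)) = 1}
        one_mem' := by simp
        mul_mem' := fun {a b} ha hb => by
          simp only [Set.mem_ofPred_eq, map_mul] at *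
          letI : CommGroup (T ⧸ M) := { (inferInstance : Group (T ⧸ M)) with mul_comm := hc }
          rw [mul_mul_mul_comm (π a), mul_mul_mul_comm (π a * π (conjEquiv hyL a)), ha, hb, one_mul]
        inv_mem' := fun {a} ha => by
          simp only [Set.mem_ofPred_eq, map_inv] at *
          letI : CommGroup (T ⧸ M) := { (inferInstance : Group (T ⧸ M)) with mul_comm := hc }
          rw [← mul_inv, ← mul_inv, ha, inv_one] }
    suffices h : ⁅C, Subgroup.zpowers y⁆ ≤ K.map T.subtype by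
      obtain ⟨s, hs, hst⟩ := h t.2
      rwa [show s = t from Subtype.ext hst] at hs
    have hconj : ∀ (u : G) (hu : u ∈ T), (⟨u, hu⟩ : T) ∈ K →
        (⟨y * u * y⁻¹, CoprimeAction.conj_mem hyL hu⟩ : T) ∈ K := by
      intro u hu h
      have he : conjEquiv hyL (conjEquiv hyL (conjEquiv hyL ⟨u, hu⟩)) = ⟨u, hu⟩ := Subtype.ext (by
        show y * (y * (y * u * y⁻¹) * y⁻¹) * y⁻¹ = u
        calc _ = (y * y * y) * u * (y * y * y)⁻¹ := by group
          _ = u := by rw [hy3']; simp)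
      show π (conjEquiv hyL ⟨u, hu⟩) * π (conjEquiv hyL (conjEquiv hyL ⟨u, hu⟩)) *
        π (conjEquiv hyL (conjEquiv hyL (conjEquiv hyL ⟨u, hu⟩))) = 1
      rw [he, hc, ← mul_assoc]
      exact h
    have hmemT : ∀ x ∈ C, ∀ a ∈ Subgroup.zpowers y, ⁅x, a⁆ ∈ T := fun x hx a ha =>
      Subgroup.commutator_mem_commutator hx ha
    have hbase : ∀ x ∈ C, ⁅x, y⁆ ∈ K.map T.subtype := fun x hx => by
      refine ⟨⟨⁅x, y⁆, hmemT x hx y (Subgroup.mem_zpowers y)⟩, ?_, rfl⟩
      show π _ * π _ * π _ = 1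
      rw [← map_mul, ← map_mul]
      convert map_one π
      apply Subtype.ext
      show ⁅x, y⁆ * (y * ⁅x, y⁆ * y⁻¹) * (y * (y * ⁅x, y⁆ * y⁻¹) * y⁻¹) = 1
      calc _ = x * (y * y * y) * x⁻¹ * (y * y * y)⁻¹ := by simp [commutatorElement_def, mul_assoc]
        _ = 1 := by rw [hy3']; simp
    rw [Subgroup.commutator_le]
    intro x hx a ha
    obtain ⟨j, rfl⟩ := (mem_powers_iff_mem_zpowers (x := y)).2 ha
    induction j with
    | zero => simp
    | succ j ih =>
      have h1 : ⁅x, y ^ (j + 1)⁆ = ⁅x, y⁆ * (y * ⁅x, y ^ j⁆ * y⁻¹) := by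
        rw [pow_succ']; simp [commutatorElement_def, mul_assoc]
      show ⁅x, y ^ (j + 1)⁆ ∈ _
      rw [h1]
      obtain ⟨u, hu, hu'⟩ := ih (pow_mem (Subgroup.mem_zpowers y) j)
      refine mul_mem (hbase x hx) ⟨_, hconj u u.2 hu, ?_⟩
      show y * (u : G) * y⁻¹ = y * ⁅x, y ^ j⁆ * y⁻¹
      exact congrArg (fun w => y * w * y⁻¹) hu'
  have hV2 : ∀ v : T ⧸ M, v ^ 2 = 1 := fun v => by
    obtain ⟨t, rfl⟩ := QuotientGroup.mk'_surjective M v
    rw [← map_pow]
    exact (QuotientGroup.eq_one_iff _).2 (hsqT t t.2)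
  have hyfix : ∀ v : T ⧸ M, yL • v = v → v = 1 := by
    intro v hv
    obtain ⟨t, rfl⟩ := QuotientGroup.mk'_surjective M v
    have h1 : π (conjEquiv hyL t) = π t := hv
    have h2 : π (conjEquiv hyL (conjEquiv hyL t)) = π t :=
      (congrArg (yL • ·) h1).trans h1
    have h := hker t
    rw [h1, h2] at h
    calc π t = π t * (π t) ^ 2 := by rw [hV2, mul_one]
      _ = 1 := by rw [pow_two, ← mul_assoc]; exact h
  have hone : ∀ l : L, l • (1 : T ⧸ M) = 1 := fun l => map_one (φ l)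
  let U := {v : T ⧸ M // v ≠ 1}
  letI : MulAction L U :=
    { smul := fun l v => ⟨l • (v : T ⧸ M), fun h => v.2 (by
        have := congrArg (l⁻¹ • ·) h
        simpa [hone] using this)⟩
      one_smul := fun v => Subtype.ext (one_smul L (v : T ⧸ M))
      mul_smul := fun a b v => Subtype.ext (mul_smul a b (v : T ⧸ M)) }
  let Y : Subgroup L := Subgroup.zpowers yL
  have hyL3 : orderOf yL = 3 := by rw [← Subgroup.orderOf_coe]; exact hy3
  have hfree : ∀ v : U, MulAction.stabilizer Y v = ⊥ := by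
    intro v
    by_contra hs
    haveI : Fact (Nat.card Y).Prime := ⟨by rw [Nat.card_zpowers, hyL3]; exact Nat.prime_three⟩
    have htop := (Subgroup.eq_bot_or_eq_top_of_prime_card (MulAction.stabilizer Y v)).resolve_left hs
    have hm : (⟨yL, Subgroup.mem_zpowers yL⟩ : Y) ∈ MulAction.stabilizer Y v := htop ▸ Subgroup.mem_top _
    exact v.2 (hyfix v (congrArg Subtype.val hm))
  let O := Quotient (MulAction.orbitRel Y U)
  have hO : Nat.card U = Nat.card O * 3 := by
    rw [Nat.card_congr (MulAction.selfEquivOrbitsQuotientProd hfree), Nat.card_prod, Nat.card_zpowers,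
      hyL3]
  have hV : Nat.card (T ⧸ M) = Nat.card U + 1 := by
    have h := Nat.card_congr (Equiv.sumCompl (fun v : T ⧸ M => v ≠ 1))
    rw [Nat.card_sum, show Nat.card {v : T ⧸ M // ¬ v ≠ 1} = 1 from Nat.card_eq_one_iff_unique.2
      ⟨⟨fun a b => Subtype.ext ((not_not.1 a.2).trans (not_not.1 b.2).symm)⟩, ⟨1, fun h => h rfl⟩⟩] at h
    exact h.symm
  obtain ⟨k, hk⟩ := ((hC2.to_le hTC).to_quotient M).exists_card_eq
  have hk6 : k < 6 := by
    have h := M.card_eq_card_quotient_mul_card_subgroup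
    rw [hk] at h
    rw [h] at hlt
    have := Nat.lt_of_mul_lt_mul_right hlt
    exact (Nat.pow_lt_pow_iff_right (by norm_num)).1 (this.trans_eq (by norm_num : (64 : ℕ) = 2 ^ 6))
  have hO3 : ¬ 3 ∣ Nat.card O := by
    intro h3
    have hU0 : 9 ∣ Nat.card U := by rw [hO]; exact Nat.mul_dvd_mul_right h3 3
    have hk0 : k ≠ 0 := by
      intro h0
      apply hTne
      rw [eq_bot_iff]
      intro t ht
      -- `T ≤ W` is centralized by `y`
      have hall : T ≤ W := fun u hu => by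
        have hs : Subsingleton (T ⧸ M) := (Nat.card_eq_one_iff_unique.1 (by rw [hk, h0]; rfl)).1
        exact Subgroup.mem_subgroupOf.1 ((QuotientGroup.eq_one_iff (⟨u, hu⟩ : T)).1 (Subsingleton.elim _ 1))
      have hTT : ⁅T, Subgroup.zpowers y⁆ = T := commutator_commutator_eq hEN hcopC (Or.inl inferInstance)
      have hcen : ⁅T, Subgroup.zpowers y⁆ = ⊥ := by
        rw [Subgroup.commutator_eq_bot_iff_le_centralizer]
        intro u hu
        rw [Subgroup.mem_centralizer_iff]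
        intro a ha
        obtain ⟨j, rfl⟩ := Subgroup.mem_zpowers_iff.1 ha
        exact ((show Commute y u from (Subgroup.mem_centralizer_iff.1 hyW u (hall hu)).symm).zpow_left j).eq
      rw [hTT] at hcen
      rw [← hcen]; exact ht
    rw [hk] at hV
    interval_cases k <;> omega
  let D : Subgroup L := Subgroup.zpowers dL
  have hcomm : ∀ a : D, Commute (a : L) yL := fun a => by
    obtain ⟨j, hj⟩ := Subgroup.mem_zpowers_iff.1 a.2
    rw [← hj]
    exact (show Commute dL yL from Subtype.ext hdy.eq).zpow_left j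
  letI : MulAction D O :=
    { smul := fun a => Quotient.map (fun v : U => (a : L) • v) (by
        intro u v huv
        obtain ⟨⟨r, hr⟩, hru⟩ := huv
        obtain ⟨j, rfl⟩ := Subgroup.mem_zpowers_iff.1 hr
        refine ⟨⟨yL ^ j, hr⟩, ?_⟩
        show (yL ^ j) • ((a : L) • v) = (a : L) • u
        rw [← hru, smul_smul, ← ((hcomm a).zpow_right j).eq, mul_smul]
        rfl)
      one_smul := fun o => Quotient.inductionOn o fun v => congrArg Quotient.mk'' (one_smul L v)
      mul_smul := fun a b o => Quotient.inductionOn o fun v =>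
        congrArg Quotient.mk'' (mul_smul (a : L) (b : L) v) }
  have hD3 : IsPGroup 3 D := by
    have hLd : IsPGroup 3 ((Subgroup.zpowers d).subgroupOf L) :=
      hd.comap_of_injective L.subtype L.subtype_injective
    exact hLd.to_le (Subgroup.zpowers_le.2 (Subgroup.mem_zpowers d))
  obtain ⟨o, ho⟩ := hD3.nonempty_fixed_point_of_prime_not_dvd_card O hO3
  obtain ⟨⟨v, hv⟩, rfl⟩ := Quotient.exists_rep o
  obtain ⟨⟨r, hr⟩, hrv⟩ := Quotient.exact (ho ⟨dL, Subgroup.mem_zpowers dL⟩)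
  obtain ⟨t, rfl⟩ := QuotientGroup.mk'_surjective M v
  have hrv' : r • π t = dL • π t := congrArg Subtype.val hrv
  rw [hsmul, hsmul] at hrv'
  have hsqeq : ∀ a b : T, π a = π b → (a : G) ^ 2 = (b : G) ^ 2 := by
    intro a b hab
    obtain ⟨m, hm, rfl⟩ : ∃ m ∈ M, a * m = b := ⟨a⁻¹ * b, QuotientGroup.eq.1 hab, by group⟩
    show (a : G) ^ 2 = ((a : G) * m) ^ 2
    rw [(show Commute (a : G) m from congrArg Subtype.val (Subgroup.mem_center_iff.1 (hMc hm) a)).mul_pow,
      show (m : G) ^ 2 = 1 from hW2 _ hm, mul_one]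
  have h := hsqeq _ _ hrv'
  have hw2 : (t : G) ^ 2 ∈ W := hsqT t t.2
  have hrfix : (r : G) * (t : G) ^ 2 * (r : G)⁻¹ = (t : G) ^ 2 := by
    obtain ⟨j, rfl⟩ := Subgroup.mem_zpowers_iff.1 hr
    rw [show (((yL ^ j : L)) : G) = y ^ j from SubgroupClass.coe_zpow yL j,
      ((show Commute y ((t : G) ^ 2) from (Subgroup.mem_centralizer_iff.1 hyW _ hw2).symm).zpow_left j).eq,
      mul_inv_cancel_right]
  have h' : ((r : G) * t * (r : G)⁻¹) ^ 2 = (d * t * d⁻¹) ^ 2 := h
  rw [conj_pow, conj_pow, hrfix] at h'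
  have h1 := hdfix _ hw2 h'.symm
  exact hv ((QuotientGroup.eq_one_iff _).2 (hQinv t (hCQ (hTC t.2)) h1))

end Cfsg.Agent.S3739
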