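import Cfsg.Statements.S3740
import Mathlib
import Cfsg.Agent.Lib.SL2TwoUnipotent
import Cfsg.Agent.Lib.PSL2Small
import Cfsg.Agent.Lib.PSLCard
-- import your own Cfsg.Agent.* helpers here

set_option autoImplicit false
open Cfsg

namespace Cfsg.Agent.S3740

open scoped MatrixGroups

variable {p : ℕ} [Fact p.Prime] {F : Type*} [Field F] [CharP F p]

open Cfsg.Agent.SL2TwoUnipotent in
theorem pow_eq_one_of_pgroup {a : SL(2, F)} {k : ℕ} (ha : a ^ p ^ k = 1) : a ^ p = 1 := by
  have h1 : (a.1 - 1) ^ p ^ k = 0 := by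
    rw [sub_pow_char_pow_of_commute _ _ (Commute.one_right _), one_pow,
      ← Matrix.SpecialLinearGroup.coe_pow, ha, Matrix.SpecialLinearGroup.coe_one, sub_self]
  have hn : IsNilpotent (a.1 - 1) := ⟨_, h1⟩
  have h2 : (a.1 - 1) ^ 2 = 0 := by
    have ht : (a.1 - 1).trace = 0 := (Matrix.isNilpotent_trace_of_isNilpotent hn).eq_zero
    have hd : (a.1 - 1).det = 0 := eq_zero_of_pow_eq_zero (n := p ^ k) (by
      rw [← Matrix.det_pow, h1, Matrix.det_zero])
    generalize a.1 - 1 = M at ht hd
    rw [Matrix.trace_fin_two] at ht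
    rw [Matrix.det_fin_two] at hd
    ext i j
    fin_cases i <;> fin_cases j <;> simp [pow_two, Matrix.mul_apply, Fin.sum_univ_two]
    · linear_combination M 0 0 * ht - hd
    · linear_combination M 0 1 * ht
    · linear_combination M 1 0 * ht
    · linear_combination M 1 1 * ht - hd
  have h3 : (a.1 - 1) ^ p = 0 := pow_eq_zero_of_le (Fact.out : p.Prime).two_le h2
  apply Subtype.ext
  rw [sub_pow_char_of_commute _ (Commute.one_right _), one_pow, sub_eq_zero] at h3
  simpa using h3

theorem two_invol {E : Type*} [Group E] (N : Subgroup E) [N.Normal] (hN : N.index = 3)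
    (hcop : ¬ 3 ∣ Nat.card N) {s t : E} (hs : s * s = 1) (ht : t * t = 1)
    (h3 : (s * t) ^ 3 = 1) : s * t = 1 := by
  have key : ∀ g : E, g * g = 1 → g ∈ N := by
    intro g hg
    have h := N.pow_index_mem g
    rwa [hN, pow_succ, pow_two, hg, one_mul] at h
  have hm := N.mul_mem (key s hs) (key t ht)
  have h1 : (⟨s * t, hm⟩ : N) ^ 3 = 1 := Subtype.ext h3
  rcases (Nat.dvd_prime Nat.prime_three).1 (orderOf_dvd_of_pow_eq_one h1) with h | h
  · simpa using congrArg Subtype.val (orderOf_eq_one_iff.1 h)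
  · exact absurd (h ▸ orderOf_dvd_natCard _) hcop

open Cfsg.Agent.SL2TwoUnipotent in
theorem sq_eq_one_iff {g : SL(2, F)} (hp : p ≠ 2) (hg : g * g = 1) : g = 1 ∨ g = -1 := by
  have h := congrArg (fun x : SL(2, F) => x.1) hg
  simp only [Matrix.SpecialLinearGroup.coe_mul, Matrix.SpecialLinearGroup.coe_one] at h
  have h00 := congrFun (congrFun h 0) 0
  have h01 := congrFun (congrFun h 0) 1
  have h10 := congrFun (congrFun h 1) 0
  have h11 := congrFun (congrFun h 1) 1
  simp [Matrix.mul_apply, Fin.sum_univ_two] at h00 h01 h10 h11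
  have hd := g.2
  rw [Matrix.det_fin_two] at hd
  have h2 : (2 : F) ≠ 0 := fun h => four_ne_zero' (p := p) hp (by rw [h, add_zero])
  have hsum : g.1 0 0 + g.1 1 1 ≠ 0 := by
    intro h0
    refine h2 ?_
    linear_combination (-1) * h00 + g.1 0 0 * h0 - hd
  have b0 : g.1 0 1 = 0 := by
    have : g.1 0 1 * (g.1 0 0 + g.1 1 1) = 0 := by linear_combination h01
    exact (mul_eq_zero.1 this).resolve_right hsum
  have c0 : g.1 1 0 = 0 := by
    have : g.1 1 0 * (g.1 0 0 + g.1 1 1) = 0 := by linear_combination h10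
    exact (mul_eq_zero.1 this).resolve_right hsum
  have ha : g.1 0 0 * g.1 0 0 = 1 := by rw [b0] at h00; linear_combination h00
  rcases mul_self_eq_one_iff.1 ha with e | e
  · left; apply Subtype.ext; ext i j
    rw [e, b0] at hd
    have : g.1 1 1 = 1 := by linear_combination hd
    fin_cases i <;> fin_cases j <;> simp [e, b0, c0, this]
  · right; apply Subtype.ext; ext i j
    rw [e, b0] at hd
    have : g.1 1 1 = -1 := by linear_combination -hd
    fin_cases i <;> fin_cases j <;> simp [e, b0, c0, this]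


/-- Let F be a finite field of odd characteristic p and let a be a p-element of SL₂(F) normalizing a subgroup R of order prime to p with [R, a] ≠ 1. Then p = 3, R is a quaternion group of order 8, and R⟨a⟩ is isomorphic to SL₂(3). -/
theorem result (F : Type) [Field F] [Fintype F] {p : ℕ} [Fact p.Prime] [CharP F p] (hp : p ≠ 2) (a : Matrix.SpecialLinearGroup (Fin 2) F) (ha : IsPGroup p ↥(Subgroup.zpowers a)) (R : Subgroup (Matrix.SpecialLinearGroup (Fin 2) F)) (hR : (Nat.card R).Coprime p) (haR : a ∈ Subgroup.normalizer (R : Set (Matrix.SpecialLinearGroup (Fin 2) F))) (hnt : ⁅R, Subgroup.zpowers a⁆ ≠ ⊥) : p = 3 ∧ Nonempty (↥R ≃* QuaternionGroup 2) ∧ Nonempty (↥(R ⊔ Subgroup.zpowers a) ≃* Matrix.SpecialLinearGroup (Fin 2) (ZMod 3)) := by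
  obtain ⟨k, hk⟩ := ha ⟨a, Subgroup.mem_zpowers a⟩
  have hap : a ^ p = 1 := pow_eq_one_of_pgroup (k := k) (congrArg Subtype.val hk)
  set X := R ⊔ Subgroup.zpowers a with hX
  have haX : a ∈ X := le_sup_right (a := R) (Subgroup.mem_zpowers a)
  have hXn : X ≤ Subgroup.normalizer (R : Set _) :=
    sup_le Subgroup.le_normalizer (Subgroup.zpowers_le.2 haR)
  have hpp : p.Prime := Fact.out
  have hpR : ¬ p ∣ Nat.card R := fun h =>
    hpp.ne_one (Nat.dvd_one.1 (hR ▸ Nat.dvd_gcd h dvd_rfl))
  have hR1 : ∀ c ∈ R, c ^ p = 1 → c = 1 := by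
    intro c hc h
    have h1 : (⟨c, hc⟩ : R) ^ p = 1 := Subtype.ext h
    rcases (Nat.dvd_prime hpp).1 (orderOf_dvd_of_pow_eq_one h1) with e | e
    · exact congrArg Subtype.val (orderOf_eq_one_iff.1 e)
    · exact absurd (e ▸ orderOf_dvd_natCard _) hpR
  -- an element of `R` moving `a`
  obtain ⟨r, hr, hra⟩ : ∃ r ∈ R, r * a ≠ a * r := by
    by_contra hcon
    push_neg at hcon
    refine hnt (Subgroup.commutator_eq_bot_iff_le_centralizer.2 fun r hr => ?_)
    rintro x ⟨n, rfl⟩
    exact ((show Commute r a from hcon r hr).zpow_right n).eq.symm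
  have hbX : r * a * r⁻¹ ∈ X :=
    X.mul_mem (X.mul_mem (le_sup_left (b := Subgroup.zpowers a) hr) haX)
      (X.inv_mem (le_sup_left (b := Subgroup.zpowers a) hr))
  have hbp : (r * a * r⁻¹) ^ p = 1 := by rw [conj_pow, hap, mul_one, mul_inv_cancel]
  have hab : a * (r * a * r⁻¹) ≠ (r * a * r⁻¹) * a := by
    intro h
    have hc : a * r * a⁻¹ * r⁻¹ ∈ R :=
      R.mul_mem ((Subgroup.mem_normalizer_iff.1 haR r).1 hr) (R.inv_mem hr)
    have he : a * r * a⁻¹ * r⁻¹ = a * (r * a * r⁻¹)⁻¹ := by group
    have : a * r * a⁻¹ * r⁻¹ = 1 := hR1 _ hc (by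
      rw [he, Commute.mul_pow (Commute.inv_right h), hap, inv_pow, hbp, inv_one, one_mul])
    refine hra ?_
    rw [mul_inv_eq_one, mul_inv_eq_iff_eq_mul] at this
    exact this.symm
  obtain ⟨K, hKX, ⟨e⟩⟩ := SL2TwoUnipotent.exists_le_equiv hp X haX hbX hap hbp hab
  -- the quotient `X/R` has order `p`
  haveI hNn : (R.subgroupOf X).Normal := Subgroup.normal_subgroupOf_of_le_normalizer hXn
  set N := R.subgroupOf X with hN
  have hidx : N.index = p := by
    have hgen : ∀ q : ↥X ⧸ N, q ∈ Subgroup.zpowers (QuotientGroup.mk' N ⟨a, haX⟩) := by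
      intro q
      obtain ⟨⟨x, hx⟩, rfl⟩ := QuotientGroup.mk'_surjective N q
      set T := (Subgroup.zpowers (QuotientGroup.mk' N ⟨a, haX⟩)).comap (QuotientGroup.mk' N)
      have hle : X ≤ T.map X.subtype := by
        refine sup_le (fun c hc => ⟨⟨c, le_sup_left (b := Subgroup.zpowers a) hc⟩, ?_, rfl⟩)
          (Subgroup.zpowers_le.2 ⟨⟨a, haX⟩, Subgroup.mem_zpowers _, rfl⟩)
        show QuotientGroup.mk' N _ ∈ Subgroup.zpowers _
        rw [show QuotientGroup.mk' N ⟨c, le_sup_left (b := Subgroup.zpowers a) hc⟩ = 1 from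
          (QuotientGroup.eq_one_iff _).2 hc]
        exact Subgroup.one_mem _
      obtain ⟨y, hy, e⟩ := hle hx
      rwa [show y = ⟨x, hx⟩ from Subtype.ext e] at hy
    have hne : QuotientGroup.mk' N ⟨a, haX⟩ ≠ 1 := by
      intro h
      rw [QuotientGroup.mk'_apply, QuotientGroup.eq_one_iff, hN, Subgroup.mem_subgroupOf] at h
      have := hR1 a h hap
      exact hab (by rw [this]; simp)
    rw [Subgroup.index, Nat.card_congr (Equiv.subtypeUnivEquiv hgen).symm, Nat.card_zpowers]
    exact orderOf_eq_prime (by rw [← map_pow]; simp [Subtype.ext_iff, hap]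
                               exact N.one_mem) hne
  have hNcard : Nat.card N = Nat.card R :=
    Nat.card_congr (Subgroup.subgroupOfEquivOfLe le_sup_left).toEquiv
  have hXcard : Nat.card X = p * Nat.card R := by
    rw [← N.card_mul_index, hidx, hNcard, mul_comm]
  let f : SL(2, ZMod p) →* X := (Subgroup.inclusion hKX).comp e.symm.toMonoidHom
  have hf : Function.Injective f := (Subgroup.inclusion_injective hKX).comp e.symm.injective
  -- `p = 3`
  have hu : SL2TwoUnipotent.up (1 : ZMod p) ≠ 1 := fun h => by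
    simpa [SL2TwoUnipotent.up_coe] using congrArg (fun g : SL(2, ZMod p) => g.1 0 1) h
  have hp3 : p = 3 := by
    by_contra h3
    let φ : SL(2, ZMod p) →* ↥X ⧸ N := (QuotientGroup.mk' N).comp f
    set u := SL2TwoUnipotent.up (1 : ZMod p) with hu'
    have h2 : (2 : ZMod p) ≠ 0 := by
      intro h
      exact hp ((Nat.prime_dvd_prime_iff_eq hpp Nat.prime_two).1
        ((ZMod.natCast_eq_zero_iff 2 p).1 (by simpa using h)))
    let d : SL(2, ZMod p) := ⟨!![2, 0; 0, 2⁻¹], by simp [Matrix.det_fin_two, h2]⟩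
    have hd : d * u = u ^ 4 * d := by
      rw [hu', SL2TwoUnipotent.up_pow]
      apply Subtype.ext
      show !![(2 : ZMod p), 0; 0, 2⁻¹] * !![1, 1; 0, 1] =
        !![1, ((4 : ℕ) : ZMod p) * 1; 0, 1] * !![(2 : ZMod p), 0; 0, 2⁻¹]
      rw [Matrix.mul_fin_two, Matrix.mul_fin_two]
      ext i j
      fin_cases i <;> fin_cases j <;> simp
      field_simp; norm_num
    have hcomm : ∀ x y : ↥X ⧸ N, x * y = y * x := fun x y => by
      obtain ⟨g, hg⟩ :=
        (isCyclic_of_prime_card (p := p) (hidx ▸ rfl : Nat.card (↥X ⧸ N) = p)).exists_generator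
      obtain ⟨m, rfl⟩ := hg x
      obtain ⟨n, rfl⟩ := hg y
      exact (Commute.zpow_zpow_self g m n).eq
    have h4 : φ u = φ u ^ 4 := by
      have := congrArg φ hd
      rw [map_mul, map_mul, map_pow, hcomm] at this
      exact mul_right_cancel this
    have h33 : φ u ^ 3 = 1 := mul_left_cancel (a := φ u) (by rw [← pow_succ', mul_one]; exact h4.symm)
    have hpu : φ u ^ p = 1 := by rw [← map_pow, SL2TwoUnipotent.up_char p, map_one]
    have h1 : φ u = 1 := by
      have := pow_gcd_eq_one.2 ⟨h33, hpu⟩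
      rwa [((Nat.coprime_primes Nat.prime_three hpp).2 (Ne.symm h3)), pow_one] at this
    have hm : ((f u : X) : SL(2, F)) ∈ R := by
      rw [MonoidHom.comp_apply, QuotientGroup.mk'_apply, QuotientGroup.eq_one_iff] at h1
      exact h1
    have : f u = 1 := Subtype.ext (hR1 _ hm (by
      rw [← SubgroupClass.coe_pow, ← map_pow, SL2TwoUnipotent.up_char p, map_one]; rfl))
    exact hu (hf (this.trans (map_one f).symm))
  subst hp3
  obtain ⟨⟨Q, hQn, hQi, ⟨eQ⟩⟩, -⟩ := PSL2Small.sl2_three (ZMod 3) (Nat.card_zmod 3)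
  have hQ8 : Nat.card Q = 8 := by
    rw [Nat.card_congr eQ.toEquiv, Nat.card_eq_fintype_card, QuaternionGroup.card]
  have hSL : Nat.card SL(2, ZMod 3) = 24 := by rw [← Q.card_mul_index, hQ8, hQi]
  -- the image in `PGL`
  have hneg : (-1 : SL(2, F)) ∈ X := by
    have h1 : (-1 : SL(2, ZMod 3)) * (-1) = 1 := by simp
    have hne : (-1 : SL(2, ZMod 3)) ≠ 1 := by decide
    rcases sq_eq_one_iff (p := 3) hp (g := ((f (-1) : X) : SL(2, F)))
        (by rw [← Subgroup.coe_mul, ← map_mul, h1, map_one]; rfl) with h | h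
    · exact absurd (hf ((Subtype.ext h).trans (map_one f).symm)) hne
    · exact h ▸ (f (-1)).2
  let g : X →* Matrix.ProjGenLinGroup (Fin 2) F := SL2TwoUnipotent.toPGL.comp X.subtype
  have hn1 : (-1 : SL(2, F)) ≠ 1 := fun h => by
    have := congrArg (fun g : SL(2, F) => g.1 0 0) h
    simp at this
    exact SL2TwoUnipotent.four_ne_zero' (F := F) hp (by linear_combination (-2 : F) * this)
  have htneg : SL2TwoUnipotent.toPGL (-1 : SL(2, F)) = 1 := by
    show Matrix.ProjGenLinGroup.mk _ = 1
    rw [← map_one Matrix.ProjGenLinGroup.mk, Matrix.ProjGenLinGroup.mk_eq_mk_iff]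
    exact ⟨-1, Units.ext (by ext i j; simp [Matrix.diagonal, Matrix.one_apply, Units.val_mul]; split_ifs <;> simp)⟩
  have hker : Nat.card g.ker = 2 := by
    rw [Nat.card_eq_two_iff]
    refine ⟨1, ⟨⟨-1, hneg⟩, htneg⟩, ?_, Set.eq_univ_of_forall fun x => ?_⟩
    · intro h; exact hn1 (congrArg (fun y : g.ker => (y.1 : SL(2, F))) h).symm
    · rcases SL2TwoUnipotent.toPGL_eq_iff
          ((show SL2TwoUnipotent.toPGL x.1.1 = 1 from x.2).trans
            (map_one SL2TwoUnipotent.toPGL).symm) with h | h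
      · left; exact Subtype.ext (Subtype.ext h)
      · right; exact Subtype.ext (Subtype.ext h)
  set J := g.range with hJ
  have hJcard : 2 * Nat.card J = 3 * Nat.card R := by
    rw [← hXcard, ← g.ker.card_mul_index, Subgroup.index_ker, hker]
  set M := N.map g.rangeRestrict with hM
  haveI hMn : M.Normal := hNn.map _ g.rangeRestrict_surjective
  have hMdvd : Nat.card M ∣ Nat.card R := hNcard ▸ Subgroup.card_map_dvd _ g.rangeRestrict
  have h3R : ¬ 3 ∣ Nat.card R := hpR
  have hMi : M.index = 3 := by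
    have h1 : M.index ∣ 3 := hidx ▸ N.index_map_dvd g.rangeRestrict_surjective
    rcases (Nat.dvd_prime Nat.prime_three).1 h1 with h | h
    · exfalso
      have h2 := M.card_mul_index
      rw [h, mul_one] at h2
      have h3 : 3 ∣ 2 * Nat.card J := hJcard ▸ dvd_mul_right 3 _
      exact h3R (((Nat.Coprime.dvd_mul_left (by norm_num)).1 h3).trans (h2 ▸ hMdvd))
    · exact h
  have hM3 : ¬ 3 ∣ Nat.card M := fun h => h3R (h.trans hMdvd)
  have h9 : ¬ 9 ∣ Nat.card J := by
    intro h
    rw [← M.card_mul_index, hMi] at h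
    exact hM3 (Nat.dvd_of_mul_dvd_mul_right (by norm_num : 0 < 3) (by simpa using h))
  have hJ3 : 3 ∣ Nat.card J := hMi ▸ M.index_dvd_card
  have h12 : Nat.card J = 12 := by
    rcases Dickson.dickson_pgl 3 J with ⟨-, h⟩ | ⟨x, hx, -⟩ | ⟨C, -, hC, hi, -⟩ | h | h | h | ⟨L, hL, h⟩
    · exact absurd hJ3 h
    · exfalso
      exact hab (SL2TwoUnipotent.commute_of_fix hp hap hbp x
        (hx ⟨⟨a, haX⟩, rfl⟩) (hx ⟨⟨_, hbX⟩, rfl⟩))
    · exfalso
      rw [← C.card_mul_index, hi, Nat.Prime.dvd_mul Nat.prime_three] at hJ3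
      exact absurd (hJ3.resolve_left hC) (by norm_num)
    · obtain ⟨i⟩ := h
      rw [Nat.card_congr i.toEquiv, nat_card_alternatingGroup, Nat.card_fin]; rfl
    · obtain ⟨i⟩ := h
      exfalso
      have key := two_invol M hMi hM3 (s := i.symm (Equiv.swap 0 1)) (t := i.symm (Equiv.swap 1 2))
        (by rw [← map_mul, Equiv.swap_mul_self, map_one])
        (by rw [← map_mul, Equiv.swap_mul_self, map_one])
        (by rw [← map_mul, ← map_pow, show (Equiv.swap (0 : Fin 4) 1 * Equiv.swap 1 2) ^ 3 = 1 by decide, map_one])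
      rw [← map_mul, MulEquiv.map_eq_one_iff] at key
      exact absurd key (by decide)
    · obtain ⟨i⟩ := h
      exfalso
      let s : alternatingGroup (Fin 5) := ⟨Equiv.swap 0 1 * Equiv.swap 3 4,
        Equiv.Perm.mem_alternatingGroup.2 (by decide)⟩
      let t : alternatingGroup (Fin 5) := ⟨Equiv.swap 1 2 * Equiv.swap 3 4,
        Equiv.Perm.mem_alternatingGroup.2 (by decide)⟩
      have key := two_invol M hMi hM3 (s := i.symm s) (t := i.symm t)
        (by rw [← map_mul, show s * s = 1 by decide, map_one])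
        (by rw [← map_mul, show t * t = 1 by decide, map_one])
        (by rw [← map_mul, ← map_pow, show (s * t) ^ 3 = 1 by decide, map_one])
      rw [← map_mul, MulEquiv.map_eq_one_iff] at key
      exact absurd key (by decide)
    · haveI : CharP L 3 := (RingHom.charP_iff L.subtype L.subtype.injective 3).mpr inferInstance
      rcases h with ⟨⟨i⟩⟩ | ⟨hodd, ⟨i⟩⟩
      · exfalso
        let A : L → Matrix.ProjGenLinGroup (Fin 2) L := fun c => DicksonLine.aff (-1) c
        have hA : ∀ c, A c * A c = 1 := fun c => by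
          simp only [A, DicksonLine.aff_mul]; rw [← DicksonLine.aff_one]; simp
        have hst : A 1 * A 0 = DicksonLine.aff 1 1 := by
          simp only [A, DicksonLine.aff_mul]; simp
        have h3 : DicksonLine.aff (1 : Lˣ) (1 : L) ^ 3 = 1 := by
          rw [pow_succ, pow_two, DicksonLine.aff_mul, DicksonLine.aff_mul, ← DicksonLine.aff_one]
          congr 1 <;> simp
          have := CharP.cast_eq_zero L 3
          push_cast at this
          linear_combination this
        have key := two_invol M hMi hM3 (s := i.symm (A 1)) (t := i.symm (A 0))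
          (by rw [← map_mul, hA, map_one]) (by rw [← map_mul, hA, map_one])
          (by rw [← map_mul, ← map_pow, hst, h3, map_one])
        rw [← map_mul, MulEquiv.map_eq_one_iff, hst, ← DicksonLine.aff_one] at key
        exact one_ne_zero (DicksonLine.aff_inj key).2
      · have hcard : Nat.card L = 3 := by
          by_contra h3
          haveI := Fintype.ofFinite L
          obtain ⟨n, -, hn⟩ := FiniteField.card L 3
          have h9L : 9 ∣ Nat.card L := by
            rw [Nat.card_eq_fintype_card] at h3 ⊢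
            rw [hn] at h3 ⊢
            refine (pow_dvd_pow 3 ?_ : 3 ^ 2 ∣ 3 ^ (n : ℕ))
            rcases Nat.lt_or_ge (n : ℕ) 2 with h | h
            · have : (n : ℕ) = 1 := by have := n.pos; omega
              rw [this] at h3; exact absurd rfl h3
            · exact h
          refine h9 ?_
          rw [Nat.card_congr i.toEquiv]
          have := PSLCard.card_PSL2_mul (F := L)
          have h2 : 9 ∣ Nat.card (Matrix.ProjectiveSpecialLinearGroup (Fin 2) L) * 2 := by
            rw [PSLCard.card_PSL2_odd hodd]; exact (h9L.mul_right _).trans (by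
              rw [Nat.div_mul_cancel]
              exact dvd_mul_of_dvd_right (Nat.Odd.sub_odd (hodd.pow) odd_one).two_dvd _)
          exact (Nat.Coprime.dvd_of_dvd_mul_right (by norm_num) h2)
        rw [Nat.card_congr i.toEquiv, PSLCard.card_PSL2_odd hodd, hcard]
        norm_num
  have hR8 : Nat.card R = 8 := by omega
  have hbij : Function.Bijective f := by
    refine (Nat.bijective_iff_injective_and_card f).2 ⟨hf, ?_⟩
    rw [hSL, hXcard, hR8]
  let E := MulEquiv.ofBijective f hbij
  refine ⟨rfl, ?_, ⟨E.symm⟩⟩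
  have hEQ : N.comap E.toMonoidHom = Q := by
    refine Subgroup.eq_of_le_of_card_ge (fun x hx => ?_) ?_
    · have h8 : x ^ 8 = 1 := by
        have h : (⟨E x, hx⟩ : N) ^ Nat.card N = 1 := pow_card_eq_one'
        rw [hNcard, hR8] at h
        exact E.injective (by rw [map_pow, map_one]; exact congrArg Subtype.val h)
      have h3 : (QuotientGroup.mk' Q x) ^ 3 = 1 := by
        have := pow_card_eq_one' (x := QuotientGroup.mk' Q x)
        rwa [show Nat.card (SL(2, ZMod 3) ⧸ Q) = 3 from hQi] at this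
      have h8' : (QuotientGroup.mk' Q x) ^ 8 = 1 := by rw [← map_pow, h8, map_one]
      have h1 := pow_gcd_eq_one.2 ⟨h3, h8'⟩
      simpa [QuotientGroup.eq_one_iff] using h1
    · rw [hQ8, Subgroup.comap_equiv_eq_map_symm',
        Subgroup.card_map_of_injective (MulEquiv.injective _), hNcard, hR8]
  let E' : ↥(N.comap E.toMonoidHom) ≃* ↥N :=
    { toFun := fun y => ⟨E y.1, y.2⟩
      invFun := fun y => ⟨E.symm y.1, by
        show E (E.symm y.1) ∈ N
        rw [E.apply_symm_apply]; exact y.2⟩
      left_inv := fun y => Subtype.ext (E.symm_apply_apply _)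
      right_inv := fun y => Subtype.ext (E.apply_symm_apply _)
      map_mul' := fun y z => Subtype.ext (map_mul E _ _) }
  exact ⟨(Subgroup.subgroupOfEquivOfLe le_sup_left).symm.trans
    (E'.symm.trans ((MulEquiv.subgroupCongr hEQ).trans eQ))⟩

end Cfsg.Agent.S3740
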