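import Cfsg.Statements.S3741
import Mathlib
-- import your own Cfsg.Agent.* helpers here

set_option autoImplicit false
open Cfsg

namespace Cfsg.Agent.S3741

open scoped commutatorElement

/-- One inequality. -/
theorem half {G : Type*} [Group G] [Finite G] {p : ℕ} [Fact p.Prime] (hG : IsPGroup p G) (A B : Subgroup G)
    (hAB : ⁅A, B⁆ ≤ A ⊓ B) (hcard : Nat.card ↥⁅A, B⁆ ≤ p) :
    (A ⊓ Subgroup.centralizer (B : Set G)).relIndex A ≤ (B ⊓ Subgroup.centralizer (A : Set G)).relIndex B := by
  classical
  have hnA : ∀ a ∈ A, ∀ z ∈ ⁅A, B⁆, a * z * a⁻¹ ∈ ⁅A, B⁆ := by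
    intro a ha z hz
    have : ⁅a, z⁆ ∈ ⁅A, B⁆ := Subgroup.commutator_mem_commutator ha (hAB hz).2
    have h2 := mul_mem this hz
    simpa [commutatorElement_def] using h2
  have hzc : ∀ a ∈ A, ∀ z ∈ ⁅A, B⁆, a * z = z * a := by
    intro a ha z hz
    by_cases hz1 : z = 1
    · subst hz1; simp
    letI : MulAction A G := MulAction.compHom G ((ConjAct.toConjAct (G := G)).toMonoidHom.comp A.subtype)
    have hsub : MulAction.orbit A z ⊆ ((⁅A, B⁆ : Subgroup G) : Set G) \ {1} := by
      rintro _ ⟨b, rfl⟩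
      refine ⟨hnA _ b.2 _ hz, ?_⟩
      show (b : G) * z * (b : G)⁻¹ ≠ 1
      simpa using hz1
    obtain ⟨j, hj⟩ := (hG.to_subgroup A).card_orbit z
    have hle : Nat.card (MulAction.orbit A z) < p := by
      rw [Nat.card_coe_set_eq]
      refine lt_of_le_of_lt (Set.ncard_le_ncard hsub) ?_
      rw [Set.ncard_sdiff_singleton_of_mem (Subgroup.one_mem _), ← Nat.card_coe_set_eq]
      have : 0 < Nat.card ↥⁅A, B⁆ := Nat.card_pos
      have := (Fact.out : p.Prime).pos
      change Nat.card ↥⁅A, B⁆ - 1 < p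
      omega
    have hj0 : j = 0 := by
      by_contra h
      have := Nat.le_self_pow h p
      omega
    rw [hj0, pow_zero, Nat.card_eq_one_iff_unique] at hj
    have h1 := Subtype.ext_iff.1 (@Subsingleton.elim _ hj.1
      (⟨(⟨a, ha⟩ : A) • z, MulAction.mem_orbit z _⟩ : MulAction.orbit A z) ⟨z, MulAction.mem_orbit_self z⟩)
    have h2 : a * z * a⁻¹ = z := h1
    exact mul_inv_eq_iff_eq_mul.1 h2
  suffices H : ∀ k, ∀ W : Subgroup G, Nat.card W = k → B ⊓ Subgroup.centralizer (A : Set G) ≤ W → W ≤ B →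
      (A ⊓ Subgroup.centralizer (W : Set G)).relIndex A ≤ (B ⊓ Subgroup.centralizer (A : Set G)).relIndex W from
    H _ B rfl inf_le_left le_rfl
  intro k
  induction k using Nat.strong_induction_on with
  | _ k ih =>
    intro W hWk hCW hWB
    by_cases hWC : W = B ⊓ Subgroup.centralizer (A : Set G)
    · have : A ≤ A ⊓ Subgroup.centralizer (W : Set G) := by
        intro a ha
        refine ⟨ha, Subgroup.mem_centralizer_iff.2 fun w hw => ?_⟩
        rw [hWC] at hw
        exact (Subgroup.mem_centralizer_iff.1 hw.2 a ha).symm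
      rw [Subgroup.relIndex_eq_one.2 this, ← hWC, Subgroup.relIndex_self]
    · let s : Finset (Subgroup G) := Set.Finite.toFinset (Set.toFinite {U : Subgroup G | B ⊓ Subgroup.centralizer (A : Set G) ≤ U ∧ U < W})
      obtain ⟨U, hU, hUmax⟩ := s.exists_maximal ⟨B ⊓ Subgroup.centralizer (A : Set G), by
        simp [s, lt_of_le_of_ne hCW (Ne.symm hWC)]⟩
      simp only [s, Set.Finite.mem_toFinset, Set.mem_setOf_eq] at hU hUmax
      obtain ⟨x, hxW, hxU⟩ := SetLike.exists_of_lt hU.2
      have hsup : U ⊔ Subgroup.zpowers x = W := by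
        by_contra h
        have hlt : U ⊔ Subgroup.zpowers x < W :=
          lt_of_le_of_ne (sup_le hU.2.le (Subgroup.zpowers_le.2 hxW)) h
        exact hxU (hUmax ⟨hU.1.trans le_sup_left, hlt⟩ le_sup_left (Subgroup.mem_sup_right (Subgroup.mem_zpowers x)))
      have hUW : Nat.card U < k := by
        rw [← hWk]
        refine lt_of_le_of_ne (Subgroup.card_le_of_le hU.2.le) fun h => ?_
        exact hU.2.ne (Subgroup.eq_of_le_of_card_ge hU.2.le h.ge)
      have hI := ih _ hUW U rfl hU.1 (hU.2.le.trans hWB)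
      let f : A →* ↥⁅A, B⁆ := MonoidHom.mk' (fun a => ⟨⁅(a : G), x⁆, Subgroup.commutator_mem_commutator a.2 (hWB hxW)⟩) (fun a b => by
        apply Subtype.ext
        show ⁅(a : G) * b, x⁆ = ⁅(a : G), x⁆ * ⁅(b : G), x⁆
        have hb : ⁅(b : G), x⁆ ∈ ⁅A, B⁆ := Subgroup.commutator_mem_commutator b.2 (hWB hxW)
        have ha : ⁅(a : G), x⁆ ∈ ⁅A, B⁆ := Subgroup.commutator_mem_commutator a.2 (hWB hxW)
        have e : ⁅(a : G) * b, x⁆ = a * ⁅(b : G), x⁆ * (a : G)⁻¹ * ⁅(a : G), x⁆ := by
          simp [commutatorElement_def, mul_assoc]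
        have hbA : ⁅(b : G), x⁆ ∈ A := (hAB hb).1
        rw [e, hzc a a.2 _ hb, mul_inv_cancel_right, hzc _ hbA _ ha])
      have hfx : (Subgroup.centralizer ({x} : Set G)).relIndex A ≤ p := by
        have hk : f.ker = (Subgroup.centralizer ({x} : Set G)).subgroupOf A := by
          ext a
          rw [MonoidHom.mem_ker, Subgroup.mem_subgroupOf, Subgroup.mem_centralizer_singleton_iff]
          constructor
          · intro h
            have h' : ⁅(a : G), x⁆ = 1 := congrArg Subtype.val h
            exact (commutatorElement_eq_one_iff_mul_comm.1 h')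
          · intro h
            exact Subtype.ext (commutatorElement_eq_one_iff_mul_comm.2 h)
        rw [Subgroup.relIndex, ← hk, Subgroup.index_ker]
        exact le_trans (Nat.card_le_card_of_injective _ Subtype.val_injective) hcard
      have hUge : p ≤ U.relIndex W := by
        obtain ⟨j, hj⟩ := (hG.to_subgroup W).index (U.subgroupOf W)
        have h1 : U.relIndex W ≠ 1 := fun h => hxU (Subgroup.relIndex_eq_one.1 h hxW)
        rw [Subgroup.relIndex, hj] at h1 ⊢
        rcases Nat.eq_zero_or_pos j with rfl | hj'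
        · simp at h1
        · exact Nat.le_self_pow hj'.ne' p
      have hint : (A ⊓ Subgroup.centralizer (W : Set G)).relIndex A
          = ((A ⊓ Subgroup.centralizer (U : Set G)) ⊓ Subgroup.centralizer ({x} : Set G)).relIndex A := by
        congr 1
        apply le_antisymm
        · exact le_inf (inf_le_inf le_rfl (Subgroup.centralizer_le hU.2.le))
            (inf_le_right.trans (Subgroup.centralizer_le (by simpa using hxW)))
        · intro a ha
          refine ⟨ha.1.1, Subgroup.mem_centralizer_iff.2 fun w hw => ?_⟩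
          have : W ≤ Subgroup.centralizer ({a} : Set G) := by
            rw [← hsup, sup_le_iff, Subgroup.zpowers_le]
            refine ⟨fun u hu => Subgroup.mem_centralizer_singleton_iff.2 (Subgroup.mem_centralizer_iff.1 ha.1.2 u hu), ?_⟩
            exact Subgroup.mem_centralizer_singleton_iff.2 (Subgroup.mem_centralizer_singleton_iff.1 ha.2).symm
          exact Subgroup.mem_centralizer_singleton_iff.1 (this hw)
      rw [hint, ← Subgroup.relIndex_mul_relIndex _ _ _ hU.1 hU.2.le]
      exact le_trans Subgroup.relIndex_inf_le (Nat.mul_le_mul hI (hfx.trans hUge))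


/-- Let A and B be subgroups of a finite p-group with [A, B] ≤ A ∩ B and [A, B] of order at most p. Then |A : C_A(B)| = |B : C_B(A)|. -/
theorem result {G : Type*} [Group G] [Finite G] {p : ℕ} [Fact p.Prime] (hG : IsPGroup p G) (A B : Subgroup G) (hAB : ⁅A, B⁆ ≤ A ⊓ B) (hcard : Nat.card ↥⁅A, B⁆ ≤ p) : (A ⊓ Subgroup.centralizer (B : Set G)).relIndex A = (B ⊓ Subgroup.centralizer (A : Set G)).relIndex B := by
  refine le_antisymm (half hG A B hAB hcard) (half hG B A ?_ ?_)
  · rwa [Subgroup.commutator_comm, inf_comm]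
  · rwa [Subgroup.commutator_comm]

end Cfsg.Agent.S3741
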