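import Cfsg.Statements.S3744
import Cfsg.Agent.Lib.HallTheorem
-- import your own Cfsg.Agent.* helpers here

set_option autoImplicit false
open Cfsg

namespace Cfsg.Agent.S3744

open Cfsg.Agent.HallCore Cfsg.Agent.HallSolvable Cfsg.Agent.HallTheorem
open scoped Pointwise

/-- A finite p-soluble group has a p-complement, all its p-complements are conjugate, and every subgroup of order prime to p lies in one of them. Here a p-complement is a subgroup of order prime to p whose index is a power of p. -/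

theorem result {G : Type*} [Group G] [Finite G] {p : ℕ} [Fact p.Prime] (hG : Cfsg.IsPSolvable p G) : (∃ H : Subgroup G, (Nat.card H).Coprime p ∧ ∃ n : ℕ, H.index = p ^ n) ∧ (∀ H₁ H₂ : Subgroup G, (Nat.card H₁).Coprime p → (∃ n : ℕ, H₁.index = p ^ n) → (Nat.card H₂).Coprime p → (∃ n : ℕ, H₂.index = p ^ n) → ∃ g : G, H₂ = H₁.map (MulAut.conj g).toMonoidHom) ∧ (∀ U : Subgroup G, (Nat.card U).Coprime p → ∃ H : Subgroup G, (Nat.card H).Coprime p ∧ (∃ n : ℕ, H.index = p ^ n) ∧ ∃ g : G, U.map (MulAut.conj g).toMonoidHom ≤ H) := by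
  have hs := complSolvable_compl_singleton (G := G) (p := p) Fact.out
  have hsep := ((isPSolvable_iff p).mp hG).compl
  have key : ∀ H : Subgroup G, Cfsg.IsPiHall ({p}ᶜ : Set ℕ) H ↔
      (Nat.card H).Coprime p ∧ ∃ n : ℕ, H.index = p ^ n := by
    intro H
    rw [isPiHall_iff, compl_compl, piNat_compl_singleton_iff Fact.out,
      piNat_singleton_iff Fact.out Subgroup.index_ne_zero_of_finite]
  refine ⟨?_, ?_, ?_⟩
  · obtain ⟨H, hH⟩ := exists_isPiHall hsep
    exact ⟨H, (key H).mp hH⟩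
  · intro H₁ H₂ a b c d
    obtain ⟨g, hg⟩ := isPiHall_conjugate hsep hs ((key H₁).mpr ⟨a, b⟩) ((key H₂).mpr ⟨c, d⟩)
    exact ⟨g, hg.symm⟩
  · intro U hU
    obtain ⟨H, hH, hle⟩ := exists_isPiHall_ge hsep hs (U := U)
      ((piNat_compl_singleton_iff Fact.out).mpr hU)
    refine ⟨H, ((key H).mp hH).1, ((key H).mp hH).2, 1, ?_⟩
    rw [← conj_smul_eq_map, map_one, one_smul]
    exact hle

end Cfsg.Agent.S3744
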