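import Cfsg.Statements.S3745
import Mathlib
import Cfsg.Agent.Lib.CoprimeAction
import Cfsg.Agent.Lib.HallTheorem
import Cfsg.Agent.Lib.ComponentsCores
-- import your own Cfsg.Agent.* helpers here

set_option autoImplicit false
open Cfsg

namespace Cfsg.Agent.S3745

universe u
open scoped Pointwise
open Cfsg.Agent.CoprimeAction Cfsg.Agent.CoprimeSZ

variable {X : Type u} [Group X] [Finite X]

theorem hallOf_iff (π : Set ℕ) {H G : Subgroup X} (h : H ≤ G) :
    Cfsg.IsPiHallOf π H G ↔ Cfsg.IsPiHall π (H.subgroupOf G) := by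
  have e : Nat.card (H.subgroupOf G) = Nat.card H := Nat.card_congr (Subgroup.subgroupOfEquivOfLe h).toEquiv
  unfold Cfsg.IsPiHallOf Cfsg.IsPiHall
  rw [e]
  exact ⟨fun h' => ⟨h'.2.1, h'.2.2⟩, fun h' => ⟨h, h'.1, h'.2⟩⟩

theorem hallOf_map (π : Set ℕ) {Y : Type u} [Group Y] [Finite Y] (f : Y →* X) (hf : Function.Injective f)
    {H G : Subgroup Y} (h : Cfsg.IsPiHallOf π H G) : Cfsg.IsPiHallOf π (H.map f) (G.map f) := by
  refine ⟨Subgroup.map_mono h.1, ?_, ?_⟩
  · rw [Subgroup.card_map_of_injective hf]; exact h.2.1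
  · rw [Subgroup.relIndex_map_map_of_injective H G hf]; exact h.2.2

theorem hallOf_conj (π : Set ℕ) {H G : Subgroup X} (h : Cfsg.IsPiHallOf π H G) {g : X}
    (hg : g ∈ Subgroup.normalizer (G : Set X)) : Cfsg.IsPiHallOf π (MulAut.conj g • H) G := by
  have := hallOf_map π (MulAut.conj g).toMonoidHom (MulAut.conj g).injective h
  rwa [← conj_smul_eq_map, ← conj_smul_eq_map, conj_smul_eq_self hg] at this

theorem hall_conj (π : Set ℕ) {G : Subgroup X} (hsolv : Group.IsSolvable G) {H K : Subgroup X}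
    (hH : Cfsg.IsPiHallOf π H G) (hK : Cfsg.IsPiHallOf π K G) : ∃ g ∈ G, MulAut.conj g • H = K := by
  obtain ⟨g, hg⟩ := Cfsg.Agent.HallTheorem.isPiHall_conjugate_of_solvable
    ((hallOf_iff π hH.1).1 hH) ((hallOf_iff π hK.1).1 hK)
  refine ⟨g, g.2, ?_⟩
  have h2 := congrArg (fun S : Subgroup G => S.map G.subtype) hg
  rw [map_conj_smul, Subgroup.map_subgroupOf_eq_of_le hH.1, Subgroup.map_subgroupOf_eq_of_le hK.1] at h2
  exact h2

theorem part_a (A G : Subgroup X) (hAG : A ≤ Subgroup.normalizer (G : Set X))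
    (hcop : (Nat.card A).Coprime (Nat.card G)) (hsolv : Group.IsSolvable G) (π : Set ℕ) :
    ∃ H : Subgroup X, Cfsg.IsPiHallOf π H G ∧ A ≤ Subgroup.normalizer (H : Set X) := by
  obtain ⟨H₀, hH₀⟩ := Cfsg.Agent.HallTheorem.exists_isPiHall_of_solvable (G := G) π
  let H := H₀.map G.subtype
  have hH : Cfsg.IsPiHallOf π H G := by
    rw [hallOf_iff π (Subgroup.map_subtype_le H₀)]
    have : H.subgroupOf G = H₀ := Subgroup.comap_map_eq_self_of_injective G.subtype_injective H₀
    rwa [this]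
  letI : MulAction X (Subgroup X) := MulAction.compHom (Subgroup X) (MulAut.conj : X →* MulAut X)
  obtain ⟨k, hk, hfix⟩ := exists_fixed_point (Ω := Subgroup X) hAG hcop (Or.inr hsolv) H
    (fun a ha => hall_conj π hsolv hH (hallOf_conj π hH (hAG ha)))
  exact ⟨MulAut.conj k • H, hallOf_conj π hH (Subgroup.le_normalizer hk),
    fun a ha => mem_normalizer_of_conj_smul_eq (hfix a ha)⟩

theorem part_b (A G : Subgroup X) (hAG : A ≤ Subgroup.normalizer (G : Set X))
    (hcop : (Nat.card A).Coprime (Nat.card G)) (hsolv : Group.IsSolvable G) (π : Set ℕ)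
    {H K : Subgroup X} (hH : Cfsg.IsPiHallOf π H G) (hHA : A ≤ Subgroup.normalizer (H : Set X))
    (hK : Cfsg.IsPiHallOf π K G) (hKA : A ≤ Subgroup.normalizer (K : Set X)) :
    ∃ c ∈ G ⊓ Subgroup.centralizer (A : Set X), MulAut.conj c • H = K := by
  letI : MulAction X (Subgroup X) := MulAction.compHom (Subgroup X) (MulAut.conj : X →* MulAut X)
  exact exists_centralizer_smul_eq (Ω := Subgroup X) hAG hcop (Or.inr hsolv) (x := H) (y := K)
    (fun a ha => conj_smul_eq_self (hHA ha)) (fun a ha => conj_smul_eq_self (hKA ha))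
    (hall_conj π hsolv hH hK)

omit [Finite X] in
theorem conj_smul_invariant (A H : Subgroup X) {c : X} (hc : c ∈ Subgroup.centralizer (A : Set X))
    (hHA : A ≤ Subgroup.normalizer (H : Set X)) : A ≤ Subgroup.normalizer ((MulAut.conj c • H : Subgroup X) : Set X) := by
  intro a ha
  apply mem_normalizer_of_conj_smul_eq
  rw [← conj_smul_mul, Subgroup.mem_centralizer_iff.1 hc a ha, conj_smul_mul, conj_smul_eq_self (hHA ha)]

/-- The inductive step with a normal subgroup of prime power order. -/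
theorem step (A G U N : Subgroup X) [N.Normal] (hAG : A ≤ Subgroup.normalizer (G : Set X))
    (hcop : (Nat.card A).Coprime (Nat.card G)) (hsolv : Group.IsSolvable G) (π : Set ℕ)
    (hUG : U ≤ G) (hUA : A ≤ Subgroup.normalizer (U : Set X)) (hU : ∀ p : ℕ, p.Prime → p ∣ Nat.card U → p ∈ π)
    (hNG : N ≤ G) (hN1 : N ≠ ⊥) {p : ℕ} (hp : p.Prime) (hNp : IsPGroup p N)
    (ih : ∀ (Y : Type u) [Group Y] [Finite Y] (A' G' U' : Subgroup Y), Nat.card G' < Nat.card G →
      A' ≤ Subgroup.normalizer (G' : Set Y) → (Nat.card A').Coprime (Nat.card G') → Group.IsSolvable G' →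
      U' ≤ G' → A' ≤ Subgroup.normalizer (U' : Set Y) → (∀ p : ℕ, p.Prime → p ∣ Nat.card U' → p ∈ π) →
      ∃ H : Subgroup Y, Cfsg.IsPiHallOf π H G' ∧ A' ≤ Subgroup.normalizer (H : Set Y) ∧ U' ≤ H) :
    ∃ H : Subgroup X, Cfsg.IsPiHallOf π H G ∧ A ≤ Subgroup.normalizer (H : Set X) ∧ U ≤ H := by
  haveI := Fact.mk hp
  obtain ⟨e, he⟩ := hNp.exists_card_eq
  let f := QuotientGroup.mk' N
  have hcardG : Nat.card (G.map f) * Nat.card N = Nat.card G := Cfsg.Agent.HallCore.card_map_mk'_mul N G hNG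
  have hlt : Nat.card (G.map f) < Nat.card G := by
    rw [← hcardG]
    refine lt_mul_of_one_lt_right Nat.card_pos (lt_of_le_of_ne Nat.card_pos fun h => hN1 (Subgroup.eq_bot_of_card_eq _ h.symm))
  haveI : Group.IsSolvable (G.map f) := Group.isSolvable_of_surjective (f.subgroupMap_surjective G)
  have hnmap : ∀ {S : Subgroup X}, A ≤ Subgroup.normalizer (S : Set X) →
      A.map f ≤ Subgroup.normalizer ((S.map f : Subgroup (X ⧸ N)) : Set (X ⧸ N)) := by
    intro S hS
    rintro _ ⟨a, ha, rfl⟩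
    apply mem_normalizer_of_conj_smul_eq
    rw [← map_conj_smul, conj_smul_eq_self (hS ha)]
  obtain ⟨Hb, hHb, hHbA, hUb⟩ := ih (X ⧸ N) (A.map f) (G.map f) (U.map f) hlt (hnmap hAG)
    (Nat.Coprime.coprime_dvd_right (Subgroup.card_map_dvd _ _) (Nat.Coprime.coprime_dvd_left (Subgroup.card_map_dvd _ _) hcop))
    inferInstance (Subgroup.map_mono hUG) (hnmap hUA)
    (fun q hq h => hU q hq (h.trans (Subgroup.card_map_dvd _ _)))
  let L := Hb.comap f
  have hNL : N ≤ L := fun x hx => by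
    show f x ∈ Hb
    rw [show f x = 1 from (QuotientGroup.eq_one_iff x).2 hx]
    exact one_mem _
  have hUL : U ≤ L := Subgroup.map_le_iff_le_comap.1 hUb
  have hLG : L ≤ G := by
    refine (Subgroup.comap_mono hHb.1).trans ?_
    rw [Subgroup.comap_map_eq, QuotientGroup.ker_mk', sup_eq_left.2 hNG]
  have hLA : A ≤ Subgroup.normalizer (L : Set X) := by
    refine le_normalizer_of_conj_mem fun a ha l hl => ?_
    show f (a * l * a⁻¹) ∈ Hb
    rw [map_mul, map_mul, map_inv]
    exact Cfsg.Agent.CoprimeAction.conj_mem (hHbA (Subgroup.mem_map_of_mem f ha)) hl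
  have hLrel : L.relIndex G = Hb.relIndex (G.map f) := Subgroup.relIndex_comap Hb f G
  have hLcard : Nat.card L = Nat.card Hb * Nat.card N := by
    rw [← Cfsg.Agent.HallCore.card_map_mk'_mul N L hNL, Subgroup.map_comap_eq_self_of_surjective (QuotientGroup.mk'_surjective N)]
  by_cases hpπ : p ∈ π
  · refine ⟨L, ⟨hLG, ?_, ?_⟩, hLA, hUL⟩
    · intro q hq hdvd
      rw [hLcard] at hdvd
      rcases hq.dvd_mul.1 hdvd with h | h
      · exact hHb.2.1 q hq h
      · rw [he] at h
        rwa [(Nat.prime_dvd_prime_iff_eq hq hp).1 (hq.dvd_of_dvd_pow h)]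
    · rw [hLrel]; exact hHb.2.2
  by_cases hLlt : L = G
  swap
  · have hcardlt : Nat.card L < Nat.card G := lt_of_le_of_ne (Subgroup.card_le_of_le hLG)
      fun h => hLlt (Subgroup.eq_of_le_of_card_ge hLG h.ge)
    obtain ⟨H, hH, hHA, hUH⟩ := ih X A L U hcardlt hLA (coprime_of_le_right hLG hcop) (isSolvable_of_le hLG) hUL hUA hU
    refine ⟨H, ⟨hH.1.trans hLG, hH.2.1, fun q hq hqπ => ?_⟩, hHA, hUH⟩
    rw [← Subgroup.relIndex_mul_relIndex H L G hH.1 hLG, hq.dvd_mul, not_or]
    exact ⟨hH.2.2 q hq hqπ, by rw [hLrel]; exact hHb.2.2 q hq hqπ⟩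
  obtain ⟨H₁, hH₁, hH₁A⟩ := part_a A G hAG hcop hsolv π
  have hGπ : ∀ q : ℕ, q.Prime → q ∣ Nat.card (G.map f) → q ∈ π := by
    intro q hq h
    have e : G.map f = Hb := by
      rw [← hLlt, Subgroup.map_comap_eq_self_of_surjective (QuotientGroup.mk'_surjective N)]
    rw [e] at h
    exact hHb.2.1 q hq h
  have hsup : H₁ ⊔ N = G := by
    refine le_antisymm (sup_le hH₁.1 hNG) (Subgroup.relIndex_eq_one.1 ?_)
    by_contra hne
    obtain ⟨q, hq, hdvd⟩ := Nat.exists_prime_and_dvd hne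
    have h1 : (H₁ ⊔ N).relIndex G ∣ H₁.relIndex G := Subgroup.relIndex_dvd_of_le_left G le_sup_left
    have h2 : (H₁ ⊔ N).relIndex G ∣ N.relIndex G := Subgroup.relIndex_dvd_of_le_left G le_sup_right
    have h3 : N.relIndex G = Nat.card (G.map f) := Cfsg.Agent.HallSolvable.relIndex_eq_card_map G
    exact hH₁.2.2 q hq (hGπ q hq (h3 ▸ hdvd.trans h2)) (hdvd.trans h1)
  let W := U ⊔ N
  have hWG : W ≤ G := sup_le hUG hNG
  have hWA : A ≤ Subgroup.normalizer (W : Set X) := by
    intro a ha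
    apply mem_normalizer_of_conj_smul_eq
    rw [conj_smul_eq_map, Subgroup.map_sup, ← conj_smul_eq_map, ← conj_smul_eq_map, conj_smul_eq_self (hUA ha),
      conj_smul_eq_self (by rw [Subgroup.normalizer_eq_top_iff.2 inferInstance]; trivial)]
  have hhall : ∀ S : Subgroup X, S ⊔ N = W → (∀ q : ℕ, q.Prime → q ∣ Nat.card S → q ∈ π) → Cfsg.IsPiHallOf π S W := by
    intro S hS hSπ
    refine ⟨hS ▸ le_sup_left, hSπ, fun q hq hqπ hdvd => ?_⟩
    have hmap : W.map f = S.map f := by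
      rw [← hS, Subgroup.map_sup, (Subgroup.map_eq_bot_iff N).2 (by rw [QuotientGroup.ker_mk']), sup_bot_eq]
    have h1 : Nat.card (S.map f) * Nat.card N = Nat.card W :=
      hmap ▸ Cfsg.Agent.HallCore.card_map_mk'_mul N W le_sup_right
    have h2 : Nat.card W ∣ Nat.card S * Nat.card N := h1 ▸ Nat.mul_dvd_mul_right (Subgroup.card_map_dvd _ _) _
    have h3 : S.relIndex W * Nat.card S = Nat.card W := by
      rw [mul_comm, Cfsg.Agent.HallCore.card_mul_relIndex (hS ▸ le_sup_left)]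
    rw [← h3, mul_comm (Nat.card S)] at h2
    have h4 : S.relIndex W ∣ Nat.card N := Nat.dvd_of_mul_dvd_mul_right Nat.card_pos h2
    have h5 := hdvd.trans h4
    rw [he] at h5
    exact hpπ ((Nat.prime_dvd_prime_iff_eq hq hp).1 (hq.dvd_of_dvd_pow h5) ▸ hqπ)
  have hS1 : H₁ ⊓ W ⊔ N = W := by
    refine le_antisymm (sup_le inf_le_right le_sup_right) fun w hw => ?_
    have hwG : w ∈ H₁ ⊔ N := by rw [hsup]; exact hWG hw
    obtain ⟨h, hh, n, hn, rfl⟩ := Subgroup.mem_sup_of_normal_right.1 hwG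
    refine Subgroup.mul_mem_sup ⟨hh, ?_⟩ hn
    have := W.mul_mem hw (W.inv_mem (Subgroup.mem_sup_right (S := U) hn))
    simpa using this
  obtain ⟨c, ⟨hcW, hcA⟩, hcU⟩ := part_b A W hWA (coprime_of_le_right hWG hcop) (isSolvable_of_le hWG) π
    (H := H₁ ⊓ W) (K := U)
    (hhall _ hS1 fun q hq h => hH₁.2.1 q hq (h.trans (Subgroup.card_dvd_of_le inf_le_left)))
    (le_normalizer_inf hH₁A hWA) (hhall U rfl hU) hUA
  refine ⟨MulAut.conj c • H₁, hallOf_conj π hH₁ (Subgroup.le_normalizer (hWG hcW)), conj_smul_invariant A H₁ hcA hH₁A, ?_⟩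
  rw [← hcU, Subgroup.pointwise_smul_le_pointwise_smul_iff]
  exact inf_le_left

theorem part_c : ∀ n : ℕ, ∀ (Y : Type u) [Group Y] [Finite Y] (A G U : Subgroup Y), Nat.card G = n →
    ∀ π : Set ℕ, A ≤ Subgroup.normalizer (G : Set Y) → (Nat.card A).Coprime (Nat.card G) → Group.IsSolvable G →
    U ≤ G → A ≤ Subgroup.normalizer (U : Set Y) → (∀ p : ℕ, p.Prime → p ∣ Nat.card U → p ∈ π) →
    ∃ H : Subgroup Y, Cfsg.IsPiHallOf π H G ∧ A ≤ Subgroup.normalizer (H : Set Y) ∧ U ≤ H := by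
  intro n
  induction n using Nat.strong_induction_on with
  | _ n ih =>
    intro Y _ _ A G U hn π hAG hcop hsolv hUG hUA hU
    by_cases hG : G = ⊥
    · refine ⟨G, ⟨le_rfl, ?_, ?_⟩, hAG, hUG⟩
      · intro q hq h
        rw [hG, Subgroup.card_bot] at h
        exact absurd (Nat.dvd_one.1 h) hq.ne_one
      · intro q hq _ h
        rw [Subgroup.relIndex_self] at h
        exact hq.ne_one (Nat.dvd_one.1 h)
    haveI : Nontrivial G := (Subgroup.nontrivial_iff_ne_bot G).2 hG
    obtain ⟨M, hM, -⟩ := Cfsg.Agent.HallSolvable.exists_minNormal_le (G := G) (M := Cfsg.fittingSubgroup G) (by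
      intro h
      have h2 := Cfsg.Agent.HallSolvable.centralizer_fitting_le (G := G)
      rw [h] at h2
      have h3 : Subgroup.centralizer ((⊥ : Subgroup G) : Set G) = ⊤ := by
        rw [eq_top_iff]
        intro x _
        rw [Subgroup.mem_centralizer_iff]
        intro y hy
        rw [Subgroup.mem_bot.1 hy, one_mul, mul_one]
      rw [h3, top_le_iff] at h2
      exact bot_ne_top h2)
    obtain ⟨p, hp, -, hMp⟩ := hM.exists_prime
    haveI := Fact.mk hp
    have hO : Cfsg.pCore p G ≠ ⊥ := by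
      intro h
      haveI := hM.normal
      exact hM.ne_bot (le_bot_iff.1 (h ▸ Cfsg.Agent.HallCore.le_pCore hMp))
    let N := (Cfsg.pCore p G).map G.subtype
    let L : Subgroup Y := Subgroup.normalizer (N : Set Y)
    have hNG : N ≤ G := Subgroup.map_subtype_le _
    have hN1 : N ≠ ⊥ := by
      intro h
      exact hO ((Subgroup.map_eq_bot_iff_of_injective _ G.subtype_injective).1 h)
    haveI := Cfsg.Agent.HallCore.pCore_characteristic p G
    have hnG : Subgroup.normalizer (G : Set Y) ≤ L :=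
      Cfsg.Agent.ComponentsCores.normalizer_le_normalizer_map_subtype G (Cfsg.pCore p G)
    have hGL : G ≤ L := Subgroup.le_normalizer.trans hnG
    have hAL : A ≤ L := hAG.trans hnG
    haveI : (N.subgroupOf L).Normal := Subgroup.normal_in_normalizer
    have hsub : ∀ {S : Subgroup Y}, A ≤ Subgroup.normalizer (S : Set Y) →
        A.subgroupOf L ≤ Subgroup.normalizer ((S.subgroupOf L : Subgroup L) : Set L) := by
      intro S hS
      refine le_normalizer_of_conj_mem fun a ha s hs => ?_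
      exact Subgroup.mem_subgroupOf.2 (Cfsg.Agent.CoprimeAction.conj_mem (k := (s : Y)) (a := (a : Y)) (hS ha) hs)
    have hcardG : Nat.card (G.subgroupOf L) = Nat.card G := Nat.card_congr (Subgroup.subgroupOfEquivOfLe hGL).toEquiv
    obtain ⟨H, hH, hHA, hUH⟩ := step (A.subgroupOf L) (G.subgroupOf L) (U.subgroupOf L) (N.subgroupOf L) (hsub hAG)
      (by rw [Nat.card_congr (Subgroup.subgroupOfEquivOfLe hAL).toEquiv, hcardG]; exact hcop)
      (Group.isSolvable_of_surjective (f := (Subgroup.subgroupOfEquivOfLe hGL).symm.toMonoidHom) (Subgroup.subgroupOfEquivOfLe hGL).symm.surjective)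
      π (Subgroup.comap_mono hUG) (hsub hUA)
      (by rw [Nat.card_congr (Subgroup.subgroupOfEquivOfLe (hUG.trans hGL)).toEquiv]; exact hU)
      (Subgroup.comap_mono hNG)
      (by
        intro h
        rw [Subgroup.subgroupOf_eq_bot, disjoint_iff, inf_eq_left.2 (hNG.trans hGL)] at h
        exact hN1 h)
      hp (((Cfsg.Agent.HallCore.isPGroup_pCore p G).map G.subtype).comap_of_injective L.subtype L.subtype_injective)
      (fun Y' _ _ A' G' U' hlt h1 h2 h3 h4 h5 h6 => ih _ (by rw [hcardG, hn] at hlt; exact hlt) Y' A' G' U' rfl π h1 h2 h3 h4 h5 h6)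
    refine ⟨H.map L.subtype, ?_, ?_, ?_⟩
    · have := hallOf_map π L.subtype L.subtype_injective hH
      rwa [Subgroup.map_subgroupOf_eq_of_le hGL] at this
    · refine le_normalizer_of_conj_mem fun a ha h hh => ?_
      obtain ⟨h', hh', rfl⟩ := hh
      exact ⟨⟨a, hAL ha⟩ * h' * ⟨a, hAL ha⟩⁻¹, Cfsg.Agent.CoprimeAction.conj_mem (hHA (show (⟨a, hAL ha⟩ : L) ∈ A.subgroupOf L from ha)) hh', rfl⟩
    · intro x hx
      exact ⟨⟨x, hGL (hUG hx)⟩, hUH hx, rfl⟩

/-- Coprime action on a solvable group and Hall subgroups. Let A and G be subgroups of a finite group with A normalizing G, the orders of A and G coprime, and G solvable, and let π be a set of primes. Then (a) G has an A-invariant Hall π-subgroup; (b) any two A-invariant Hall π-subgroups of G are conjugate by an element of C_G(A); (c) every A-invariant π-subgroup of G lies in an A-invariant Hall π-subgroup of G. -/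
theorem result {X : Type*} [Group X] [Finite X] (A G : Subgroup X) (hAG : A ≤ Subgroup.normalizer (G : Set X)) (hcop : (Nat.card A).Coprime (Nat.card G)) (hsolv : Group.IsSolvable G) (π : Set ℕ) : (∃ H : Subgroup X, Cfsg.IsPiHallOf π H G ∧ A ≤ Subgroup.normalizer (H : Set X)) ∧ (∀ H₁ H₂ : Subgroup X, Cfsg.IsPiHallOf π H₁ G → A ≤ Subgroup.normalizer (H₁ : Set X) → Cfsg.IsPiHallOf π H₂ G → A ≤ Subgroup.normalizer (H₂ : Set X) → ∃ c ∈ G ⊓ Subgroup.centralizer (A : Set X), H₂ = H₁.map (MulAut.conj c).toMonoidHom) ∧ (∀ U : Subgroup X, U ≤ G → A ≤ Subgroup.normalizer (U : Set X) → (∀ p : ℕ, p.Prime → p ∣ Nat.card U → p ∈ π) → ∃ H : Subgroup X, Cfsg.IsPiHallOf π H G ∧ A ≤ Subgroup.normalizer (H : Set X) ∧ U ≤ H) := by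
  refine ⟨part_a A G hAG hcop hsolv π, fun H₁ H₂ h1 h1A h2 h2A => ?_,
    fun U hUG hUA hU => part_c _ X A G U rfl π hAG hcop hsolv hUG hUA hU⟩
  obtain ⟨c, hc, h⟩ := part_b A G hAG hcop hsolv π h1 h1A h2 h2A
  exact ⟨c, hc, by rw [← h]; rfl⟩

end Cfsg.Agent.S3745
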