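import Cfsg.Statements.S3746
import Mathlib
import Cfsg.Agent.Lib.ComponentsBasic
-- import your own Cfsg.Agent.* helpers here

set_option autoImplicit false
open Cfsg

namespace Cfsg.Agent.S3746

open Cfsg.Agent.ComponentsBasic
open scoped commutatorElement

/-- Let Z ≤ Z(G) be a central subgroup of a finite group G and E a subgroup of G containing Z whose image E/Z is a component of G/Z (subnormal and quasisimple). Then the derived subgroup [E, E] is a component of G. -/
theorem result {G : Type*} [Group G] [Finite G] (Z : Subgroup G) (hZ : Z ≤ Subgroup.center G) [Z.Normal] (E : Subgroup G) (hZE : Z ≤ E) (hE : Cfsg.IsComponent (E.map (QuotientGroup.mk' Z))) : Cfsg.IsComponent ⁅E, E⁆ := by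
  let π := QuotientGroup.mk' Z
  have hker : π.ker = Z := QuotientGroup.ker_mk' Z
  let K : Subgroup G := ⁅E, E⁆
  have hEm : E = (E.map π).comap π := by
    rw [Subgroup.comap_map_eq, hker, sup_eq_left.2 hZE]
  have hKm : K.map π = E.map π := by
    rw [Subgroup.map_commutator]
    exact isQuasisimple_perfect hE.2
  have hKE : K ≤ E := Subgroup.commutator_le_self E
  have hsupE : E = K ⊔ Z := by
    rw [hEm, ← hKm, Subgroup.comap_map_eq, hker]
  have hnorm : (K.subgroupOf E).Normal := by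
    rw [Subgroup.normal_subgroupOf_iff hKE]
    intro h k hh hk
    have h1 : ⁅k, h⁆ ∈ K := Subgroup.commutator_mem_commutator hk (hKE hh)
    have h2 := mul_mem h1 hh
    simpa [commutatorElement_def] using h2
  have hperf : ⁅K, K⁆ = K := by
    refine le_antisymm (Subgroup.commutator_le_self K) ?_
    refine (Subgroup.commutator_le.2 ?_ : ⁅E, E⁆ ≤ ⁅K, K⁆)
    intro a ha b hb
    rw [hsupE] at ha hb
    replace ha := Subgroup.mem_sup_of_normal_right.1 ha
    replace hb := Subgroup.mem_sup_of_normal_right.1 hb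
    obtain ⟨k₁, hk₁, z₁, hz₁, rfl⟩ := ha
    obtain ⟨k₂, hk₂, z₂, hz₂, rfl⟩ := hb
    have c₁ := Subgroup.mem_center_iff.1 (hZ hz₁)
    have c₂ := Subgroup.mem_center_iff.1 (hZ hz₂)
    have e : ⁅k₁ * z₁, k₂ * z₂⁆ = ⁅k₁, k₂⁆ := by
      rw [commutatorElement_def, commutatorElement_def,
        show k₁ * z₁ * (k₂ * z₂) * (k₁ * z₁)⁻¹ = k₁ * (z₁ * (k₂ * z₂) * z₁⁻¹) * k₁⁻¹ by group,
        (show z₁ * (k₂ * z₂) * z₁⁻¹ = k₂ * z₂ by rw [← c₁ (k₂ * z₂), mul_inv_cancel_right]),
        mul_inv_rev k₂ z₂,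
        show k₁ * (k₂ * z₂) * k₁⁻¹ * (z₂⁻¹ * k₂⁻¹) = k₁ * k₂ * (z₂ * k₁⁻¹ * z₂⁻¹) * k₂⁻¹ by group,
        (show z₂ * k₁⁻¹ * z₂⁻¹ = k₁⁻¹ by rw [← c₂ k₁⁻¹, mul_inv_cancel_right])]
    rw [e]
    exact Subgroup.commutator_mem_commutator hk₁ hk₂
  refine ⟨Subgroup.IsSubnormal.step K E hKE (hEm ▸ hE.1.comap π) hnorm, ?_⟩
  refine isQuasisimple_of_normal_le_center ?_ ?_ ?_
  · rw [Group.isPerfect_def]
    apply Subgroup.map_injective K.subtype_injective
    rw [commutator_def, Subgroup.map_commutator, ← MonoidHom.range_eq_map, Subgroup.range_subtype]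
    exact hperf
  · rw [Subgroup.nontrivial_iff_ne_bot]
    intro h
    have h2 := hKm
    rw [show K = ⊥ from h, Subgroup.map_bot] at h2
    exact isQuasisimple_ne_bot hE.2 h2.symm
  · intro N hN
    let N' : Subgroup G := N.map K.subtype
    have hN'K : N' ≤ K := Subgroup.map_subtype_le N
    let ρ : K →* ↥(E.map π) := (π.comp K.subtype).codRestrict (E.map π)
      (fun k => Subgroup.mem_map_of_mem π (hKE k.2))
    have hρ : Function.Surjective ρ := by
      rintro ⟨y, hy⟩
      rw [← hKm] at hy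
      obtain ⟨k, hk, rfl⟩ := hy
      exact ⟨⟨k, hk⟩, rfl⟩
    haveI := hN.map ρ hρ
    rcases normal_le_center_or_eq_top hE.2 (N.map ρ) with h1 | h1
    · left
      have hc : ⁅N', K⁆ ≤ Z := by
        rw [Subgroup.commutator_le]
        rintro _ ⟨n, hn, rfl⟩ k hk
        rw [← hker, MonoidHom.mem_ker, map_commutatorElement, commutatorElement_eq_one_iff_mul_comm]
        have := Subgroup.mem_center_iff.1 (h1 (Subgroup.mem_map_of_mem ρ hn)) (ρ ⟨k, hk⟩)
        exact (congrArg Subtype.val this).symm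
      have h3 : ∀ {Y : Subgroup G}, Y ≤ Z → ⁅Y, K⁆ = ⊥ := by
        intro Y hY
        rw [Subgroup.commutator_eq_bot_iff_le_centralizer]
        intro y hy
        exact Subgroup.mem_centralizer_iff.2 fun k _ => Subgroup.mem_center_iff.1 (hZ (hY hy)) k
      have h4 : ⁅⁅K, K⁆, N'⁆ = ⊥ :=
        Subgroup.commutator_commutator_eq_bot_of_rotate
          (h3 (by rwa [Subgroup.commutator_comm])) (h3 hc)
      rw [hperf, Subgroup.commutator_eq_bot_iff_le_centralizer] at h4
      intro n hn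
      rw [Subgroup.mem_center_iff]
      intro k
      exact Subtype.ext (Subgroup.mem_centralizer_iff.1 (h4 k.2) (n : G) (Subgroup.mem_map_of_mem _ hn)).symm
    · right
      have hle : K ≤ N' ⊔ Z := by
        intro k hk
        have : ρ ⟨k, hk⟩ ∈ N.map ρ := by rw [h1]; trivial
        obtain ⟨n, hn, hnk⟩ := this
        have h5 : (n : G)⁻¹ * k ∈ Z := by
          rw [← hker, MonoidHom.mem_ker, map_mul, map_inv, inv_mul_eq_one]
          exact congrArg Subtype.val hnk
        have := Subgroup.mul_mem_sup (Subgroup.mem_map_of_mem K.subtype hn : (n : G) ∈ N') h5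
        simpa using this
      have h6 : K ≤ N' := by
        calc K = ⁅K, K⁆ := hperf.symm
          _ ≤ ⁅N' ⊔ Z, N' ⊔ Z⁆ := Subgroup.commutator_mono hle hle
          _ ≤ N' := by
            rw [Subgroup.commutator_le]
            intro a ha b hb
            replace ha := Subgroup.mem_sup_of_normal_right.1 ha
            replace hb := Subgroup.mem_sup_of_normal_right.1 hb
            obtain ⟨n₁, hn₁, z₁, hz₁, rfl⟩ := ha
            obtain ⟨n₂, hn₂, z₂, hz₂, rfl⟩ := hb
            have c₁ := Subgroup.mem_center_iff.1 (hZ hz₁)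
            have c₂ := Subgroup.mem_center_iff.1 (hZ hz₂)
            have e : ⁅n₁ * z₁, n₂ * z₂⁆ = ⁅n₁, n₂⁆ := by
              rw [commutatorElement_def, commutatorElement_def,
                show n₁ * z₁ * (n₂ * z₂) * (n₁ * z₁)⁻¹ = n₁ * (z₁ * (n₂ * z₂) * z₁⁻¹) * n₁⁻¹ by group,
                (show z₁ * (n₂ * z₂) * z₁⁻¹ = n₂ * z₂ by rw [← c₁ (n₂ * z₂), mul_inv_cancel_right]),
                mul_inv_rev n₂ z₂,
                show n₁ * (n₂ * z₂) * n₁⁻¹ * (z₂⁻¹ * n₂⁻¹) = n₁ * n₂ * (z₂ * n₁⁻¹ * z₂⁻¹) * n₂⁻¹ by group,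
                (show z₂ * n₁⁻¹ * z₂⁻¹ = n₁⁻¹ by rw [← c₂ n₁⁻¹, mul_inv_cancel_right])]
            rw [e, commutatorElement_def]
            exact mul_mem (mul_mem (mul_mem hn₁ hn₂) (inv_mem hn₁)) (inv_mem hn₂)
      rw [eq_top_iff]
      intro k _
      obtain ⟨n, hn, hnk⟩ := h6 k.2
      rwa [show n = k from Subtype.ext hnk] at hn

end Cfsg.Agent.S3746
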