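import Cfsg.Statements.S3747
import Mathlib
import Cfsg.Agent.Lib.ComponentsBasic
import Cfsg.Agent.Lib.ComponentsFitting
-- import your own Cfsg.Agent.* helpers here

set_option autoImplicit false
open Cfsg

namespace Cfsg.Agent.S3747

open Cfsg.Agent.ComponentsBasic Cfsg.Agent.ComponentsFitting Cfsg.Agent.ComponentsCores

/-- A join of finitely many pairwise commuting centre-free subgroups is centre-free. -/
theorem center_free {G : Type*} [Group G] (s : Finset (Subgroup G))
    (hc : ∀ L ∈ s, ∀ M ∈ s, L ≠ M → ⁅L, M⁆ = ⊥) (hz : ∀ L ∈ s, L ⊓ Subgroup.centralizer (L : Set G) = ⊥)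
    (x : G) (hx : x ∈ s.sup id) (hxc : ∀ L ∈ s, x ∈ Subgroup.centralizer (L : Set G)) : x = 1 := by
  classical
  induction s using Finset.induction_on generalizing x with
  | empty => simpa using hx
  | @insert L t hLt ih =>
    rw [Finset.sup_insert, id_eq] at hx
    have hle : t.sup id ≤ Subgroup.centralizer (L : Set G) := by
      apply Finset.sup_le
      intro M hM
      rw [id_eq, ← Subgroup.commutator_eq_bot_iff_le_centralizer]
      exact hc M (Finset.mem_insert_of_mem hM) L (Finset.mem_insert_self _ _) fun h => hLt (h ▸ hM)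
    have hx' : x ∈ (↑(L ⊔ t.sup id) : Set G) := hx
    rw [Subgroup.coe_mul_of_right_le_normalizer_left L (t.sup id)
      (hle.trans (Subgroup.centralizer_le_normalizer _))] at hx'
    obtain ⟨a, ha, b, hb, rfl⟩ := hx'
    have hac : a ∈ Subgroup.centralizer (L : Set G) := by
      have := mul_mem (hxc L (Finset.mem_insert_self _ _)) (inv_mem (hle hb))
      simpa using this
    have ha1 : a = 1 := by
      have : a ∈ L ⊓ Subgroup.centralizer (L : Set G) := ⟨ha, hac⟩
      rwa [hz L (Finset.mem_insert_self _ _), Subgroup.mem_bot] at this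
    subst ha1
    simp only [one_mul] at hxc ⊢
    exact ih (fun M hM N hN => hc M (Finset.mem_insert_of_mem hM) N (Finset.mem_insert_of_mem hN))
      (fun M hM => hz M (Finset.mem_insert_of_mem hM)) b hb (fun M hM => hxc M (Finset.mem_insert_of_mem hM))

/-- Part (a). -/
theorem part_a {G : Type*} [Group G] [Finite G] (K : Subgroup G) (hK : Cfsg.IsComponent K)
    (hzK : Subgroup.center ↥K = ⊥) : Subgroup.normalClosure (K : Set G) ≠ ⊥ ∧
    ∀ N : Subgroup G, N.Normal → N ≤ Subgroup.normalClosure (K : Set G) → N = ⊥ ∨ N = Subgroup.normalClosure (K : Set G) := by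
  classical
  haveI : Fintype G := Fintype.ofFinite G
  refine ⟨fun h => Cfsg.Agent.ComponentsBasic.IsComponent.ne_bot hK (le_bot_iff.1 (h ▸ Subgroup.subset_normalClosure)), ?_⟩
  intro N hN hNle
  by_cases hKN : K ≤ N
  · exact Or.inr (le_antisymm hNle (Subgroup.normalClosure_le_normal hKN))
  left
  let s : Finset (Subgroup G) := Finset.univ.image (fun g : G => K.map (MulAut.conj g).toMonoidHom)
  have hcomp : ∀ L ∈ s, Cfsg.IsComponent L := by
    intro L hL
    obtain ⟨g, -, rfl⟩ := Finset.mem_image.1 hL
    exact isComponent_conj hK g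
  have hcl : Subgroup.normalClosure (K : Set G) ≤ s.sup id := by
    rw [Subgroup.normalClosure, Subgroup.closure_le]
    intro y hy
    obtain ⟨k, hk, hc⟩ := Group.mem_conjugatesOfSet_iff.1 hy
    obtain ⟨g, hg⟩ := isConj_iff.1 hc
    exact (Finset.le_sup (f := id) (Finset.mem_image_of_mem _ (Finset.mem_univ g))
      : id (K.map (MulAut.conj g).toMonoidHom) ≤ s.sup id) ⟨k, hk, hg⟩
  refine (Subgroup.eq_bot_iff_forall N).2 fun x hx => center_free s
    (fun L hL M hM hne => components_commute (hcomp L hL) (hcomp M hM) hne) ?_ x (hcl (hNle hx)) ?_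
  · intro L hL
    obtain ⟨g, -, rfl⟩ := Finset.mem_image.1 hL
    refine (Subgroup.eq_bot_iff_forall _).2 ?_
    rintro _ ⟨⟨k, hk, rfl⟩, hc⟩
    have : (⟨k, hk⟩ : K) ∈ Subgroup.center K := by
      rw [Subgroup.mem_center_iff]
      intro j
      apply Subtype.ext
      apply (MulAut.conj g).injective
      rw [Subgroup.coe_mul, Subgroup.coe_mul, map_mul (MulAut.conj g), map_mul (MulAut.conj g)]
      exact Subgroup.mem_centralizer_iff.1 hc _ ⟨j, j.2, rfl⟩
    rw [hzK, Subgroup.mem_bot, Subtype.ext_iff] at this
    simp [show k = 1 from this]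
  · intro L hL
    obtain ⟨g, -, rfl⟩ := Finset.mem_image.1 hL
    rcases component_le_or_commute_normal (isComponent_conj hK g) N with h | h
    · exfalso
      apply hKN
      intro k hk
      have := hN.conj_mem _ (h ⟨k, hk, rfl⟩) g⁻¹
      simpa [mul_assoc] using this
    · rw [Subgroup.commutator_comm, Subgroup.commutator_eq_bot_iff_le_centralizer] at h
      exact h hx

/-- Let G be a finite group. (a) If K is a component of G with trivial centre, then the normal closure of K in G is a minimal normal subgroup of G. (b) If the Fitting subgroup of G is trivial, then the layer E(G) is generated by the minimal normal subgroups of G. -/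
theorem result {G : Type*} [Group G] [Finite G] : (∀ K : Subgroup G, Cfsg.IsComponent K → Subgroup.center ↥K = ⊥ → (Subgroup.normalClosure (K : Set G) ≠ ⊥ ∧ ∀ N : Subgroup G, N.Normal → N ≤ Subgroup.normalClosure (K : Set G) → N = ⊥ ∨ N = Subgroup.normalClosure (K : Set G))) ∧ (Cfsg.fittingSubgroup G = ⊥ → sSup {N : Subgroup G | N ≠ ⊥ ∧ N.Normal ∧ ∀ N' : Subgroup G, N'.Normal → N' ≤ N → N' = ⊥ ∨ N' = N} = Cfsg.layer G) := by
  refine ⟨part_a, fun hF => le_antisymm (sSup_le ?_) (sSup_le ?_)⟩
  · rintro N ⟨hN, hNn, hmin⟩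
    haveI := hNn
    rcases hmin (N ⊓ Cfsg.layer G) inferInstance inf_le_left with h | h
    · exfalso
      apply hN
      have h1 : N ≤ Cfsg.layer G := by
        refine le_trans ?_ (le_trans centralizer_gen_le (le_of_eq ?_))
        · rw [Cfsg.generalizedFittingSubgroup, hF, sup_bot_eq, ← Subgroup.commutator_eq_bot_iff_le_centralizer]
          exact le_bot_iff.1 (h ▸ Subgroup.commutator_le_inf N (Cfsg.layer G))
        · rw [Cfsg.generalizedFittingSubgroup, hF, sup_bot_eq]
      rw [← h, inf_eq_left.2 h1]
    · exact inf_eq_left.1 h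
  · intro K hK
    have hz : Subgroup.center ↥K = ⊥ := by
      have h1 : ((Subgroup.center ↥K).map K.subtype).IsSubnormal :=
        isSubnormal_map_subtype hK.1 (Subgroup.Normal.isSubnormal inferInstance)
      haveI : IsMulCommutative ((Subgroup.center ↥K).map K.subtype) := inferInstance
      have h2 := subnormal_nilpotent_le_fitting h1 (((isNilpotent_map_subtype_iff (H := K) (Subgroup.center ↥K)).2 (by open scoped IsMulCommutative in exact CommGroup.isNilpotent)))
      rw [hF, le_bot_iff, Subgroup.map_eq_bot_iff_of_injective _ K.subtype_injective] at h2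
      exact h2
    obtain ⟨h1, h2⟩ := part_a K hK hz
    exact le_trans Subgroup.le_normalClosure (le_sSup ⟨h1, Subgroup.normalClosure_normal, h2⟩)

end Cfsg.Agent.S3747
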