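import Cfsg.Statements.S3749
import Mathlib
import Cfsg.Agent.Lib.PrimitiveSubgroup
import Cfsg.Agent.Lib.CoprimeAction
import Cfsg.Agent.Lib.HallCore
import Cfsg.Agent.Lib.ComponentsCores
-- import your own Cfsg.Agent.* helpers here

set_option autoImplicit false
open Cfsg

namespace Cfsg.Agent.S3749

open Cfsg.Agent.PrimitiveSubgroup Cfsg.Agent.CoprimeAction
open scoped Pointwise

/-- Call a proper subgroup M of G primitive when M = N_G(N) for every non-trivial normal subgroup N of M. Let M be a primitive subgroup of the finite group G, p a prime with O_p(M) ≠ 1, and N a normal subgroup of G with M ∩ N = 1. Then p does not divide the order of N; for every prime q there is exactly one Sylow q-subgroup of N normalized by M; and if the order of N has at least two prime divisors then M is not a maximal subgroup of G. -/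
theorem result {G : Type*} [Group G] [Finite G] (M : Subgroup G) (hM : M ≠ ⊤) (hprim : ∀ N : Subgroup G, N ≤ M → M ≤ Subgroup.normalizer (N : Set G) → N ≠ ⊥ → Subgroup.normalizer (N : Set G) = M) {p : ℕ} [Fact p.Prime] (hOp : Cfsg.pCore p ↥M ≠ ⊥) (N : Subgroup G) [N.Normal] (hMN : M ⊓ N = ⊥) : ¬ p ∣ Nat.card N ∧ (∀ q : ℕ, [Fact q.Prime] → ∃! Q : Sylow q ↥N, M ≤ Subgroup.normalizer ((Q : Subgroup ↥N).map N.subtype : Set G)) ∧ ((∃ q r : ℕ, q.Prime ∧ r.Prime ∧ q ≠ r ∧ q ∣ Nat.card N ∧ r ∣ Nat.card N) → ¬ IsCoatom M) := by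
  have hP : IsPrimitiveSub M := ⟨hM, hprim⟩
  let P : Subgroup G := (Cfsg.pCore p ↥M).map M.subtype
  have hPM : P ≤ M := Subgroup.map_subtype_le _
  haveI := Cfsg.Agent.HallCore.pCore_characteristic p ↥M
  have hMP : M ≤ Subgroup.normalizer (P : Set G) :=
    Subgroup.le_normalizer.trans (Cfsg.Agent.ComponentsCores.normalizer_le_normalizer_map_subtype M (Cfsg.pCore p ↥M))
  have hP1 : P ≠ ⊥ := fun h => hOp ((Subgroup.map_eq_bot_iff_of_injective _ M.subtype_injective).1 h)
  have hPn : Subgroup.normalizer (P : Set G) = M := hprim P hPM hMP hP1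
  have hPp : IsPGroup p P := (Cfsg.Agent.HallCore.isPGroup_pCore p ↥M).map M.subtype
  have hCN : ∀ n ∈ N, n ∈ Subgroup.centralizer (P : Set G) → n = 1 := by
    intro n hn hc
    have h1 : n ∈ M := hPn ▸ Subgroup.centralizer_le_normalizer _ hc
    have : n ∈ M ⊓ N := ⟨h1, hn⟩
    rwa [hMN, Subgroup.mem_bot] at this
  have hPN : P ≤ Subgroup.normalizer (N : Set G) := by
    rw [Subgroup.normalizer_eq_top_iff.2 inferInstance]; exact le_top
  have hdiv : ¬ p ∣ Nat.card N := by
    intro hd
    letI : MulAction P N :=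
      { smul := fun g n => ⟨(g : G) * n * (g : G)⁻¹, ‹N.Normal›.conj_mem n n.2 g⟩
        one_smul := fun n => Subtype.ext (show ((1 : P) : G) * n * ((1 : P) : G)⁻¹ = n by simp)
        mul_smul := fun g h n => Subtype.ext (show ((g * h : P) : G) * n * ((g * h : P) : G)⁻¹ = g * (h * n * (h : G)⁻¹) * (g : G)⁻¹ by simp [mul_assoc]) }
    have h1 : (1 : N) ∈ MulAction.fixedPoints P N := fun g => Subtype.ext (show (g : G) * 1 * (g : G)⁻¹ = 1 by simp)
    obtain ⟨b, hb, hb1⟩ := hPp.exists_fixed_point_of_prime_dvd_card_of_fixed_point N hd h1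
    apply hb1
    apply Subtype.ext
    refine (hCN b b.2 (Subgroup.mem_centralizer_iff.2 fun g hg => ?_)).symm
    exact mul_inv_eq_iff_eq_mul.1 (congrArg Subtype.val (hb ⟨g, hg⟩))
  have hcop : (Nat.card P).Coprime (Nat.card N) := by
    obtain ⟨k, hk⟩ := hPp.exists_card_eq
    rw [hk]
    exact Nat.Coprime.pow_left _ ((Fact.out : p.Prime).coprime_iff_not_dvd.2 hdiv)
  haveI : Group.IsSolvable P := isSolvable_of_isPGroup hPp
  refine ⟨hdiv, ?_, ?_⟩
  · intro q _
    obtain ⟨Q, hQ⟩ := exists_invariant_sylow hPN hcop (Or.inl inferInstance) q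
    have huniq : ∀ R : Sylow q ↥N, P ≤ Subgroup.normalizer ((R : Subgroup ↥N).map N.subtype : Set G) → R = Q := by
      intro R hR
      obtain ⟨c, hc, hcQ⟩ := invariant_sylow_conj hPN hcop (Or.inl inferInstance) Q R hQ hR
      rw [show c = 1 from Subtype.ext (hCN c c.2 hc), map_one, one_smul] at hcQ
      exact hcQ.symm
    refine ⟨Q, ?_, fun R hR => huniq R (hPM.trans hR)⟩
    intro m hm
    have hcard : Nat.card ((MulAut.conj m • (Q : Subgroup ↥N).map N.subtype : Subgroup G)) = q ^ (Nat.card N).factorization q := by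
      rw [Cfsg.Agent.CoprimeSZ.card_conj_smul, card_map_sylow]
    have hle : MulAut.conj m • (Q : Subgroup ↥N).map N.subtype ≤ N := by
      rw [Cfsg.Agent.CoprimeSZ.conj_smul_eq_map]
      rintro _ ⟨x, hx, rfl⟩
      exact ‹N.Normal›.conj_mem x (Subgroup.map_subtype_le _ hx) m
    obtain ⟨R, hR⟩ := exists_sylow_map_eq hle hcard
    have hRP : P ≤ Subgroup.normalizer ((R : Subgroup ↥N).map N.subtype : Set G) := by
      rw [hR]
      intro g hg
      apply mem_normalizer_of_conj_smul_eq
      have h2 : m⁻¹ * g * m ∈ P := conj_mem' (hMP hm) hg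
      rw [← Cfsg.Agent.CoprimeSZ.conj_smul_mul, show g * m = m * (m⁻¹ * g * m) by group,
        Cfsg.Agent.CoprimeSZ.conj_smul_mul, Cfsg.Agent.CoprimeSZ.conj_smul_eq_self (hQ h2)]
    rw [huniq R hRP] at hR
    exact mem_normalizer_of_conj_smul_eq hR.symm
  · rintro ⟨q, r, hq, hr, hqr, hqN, hrN⟩ hmax
    haveI := Fact.mk hq
    obtain ⟨Q, hQ⟩ := exists_invariant_sylow hPN hcop (Or.inl inferInstance) q
    have hQM : M ≤ Subgroup.normalizer ((Q : Subgroup ↥N).map N.subtype : Set G) := by
      intro m hm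
      have hcard : Nat.card ((MulAut.conj m • (Q : Subgroup ↥N).map N.subtype : Subgroup G)) = q ^ (Nat.card N).factorization q := by
        rw [Cfsg.Agent.CoprimeSZ.card_conj_smul, card_map_sylow]
      have hle : MulAut.conj m • (Q : Subgroup ↥N).map N.subtype ≤ N := by
        rw [Cfsg.Agent.CoprimeSZ.conj_smul_eq_map]
        rintro _ ⟨x, hx, rfl⟩
        exact ‹N.Normal›.conj_mem x (Subgroup.map_subtype_le _ hx) m
      obtain ⟨R, hR⟩ := exists_sylow_map_eq hle hcard
      have hRP : P ≤ Subgroup.normalizer ((R : Subgroup ↥N).map N.subtype : Set G) := by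
        rw [hR]
        intro g hg
        apply mem_normalizer_of_conj_smul_eq
        have h2 : m⁻¹ * g * m ∈ P := conj_mem' (hMP hm) hg
        rw [← Cfsg.Agent.CoprimeSZ.conj_smul_mul, show g * m = m * (m⁻¹ * g * m) by group,
          Cfsg.Agent.CoprimeSZ.conj_smul_mul, Cfsg.Agent.CoprimeSZ.conj_smul_eq_self (hQ h2)]
      obtain ⟨c, hc, hcQ⟩ := invariant_sylow_conj hPN hcop (Or.inl inferInstance) Q R hQ hRP
      rw [show c = 1 from Subtype.ext (hCN c c.2 hc), map_one, one_smul] at hcQ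
      rw [← hcQ] at hR
      exact mem_normalizer_of_conj_smul_eq hR.symm
    let Q' : Subgroup G := (Q : Subgroup ↥N).map N.subtype
    have hQN : Q' ≤ N := Subgroup.map_subtype_le _
    have hcardQ : Nat.card Q' = q ^ (Nat.card N).factorization q := card_map_sylow Q
    have hQne : ¬ Q' ≤ M := by
      intro hle
      have h0 : Q' ≤ M ⊓ N := le_inf hle hQN
      rw [hMN, le_bot_iff] at h0
      rw [h0, Subgroup.card_bot] at hcardQ
      have hpos := hq.factorization_pos_of_dvd Nat.card_pos.ne' hqN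
      have := Nat.one_lt_pow hpos.ne' hq.one_lt
      omega
    have htop : Q' ⊔ M = ⊤ := by
      refine hmax.2 _ (lt_of_le_of_ne le_sup_right fun h => hQne ?_)
      rw [h]; exact le_sup_left
    have hNQ : N ≤ Q' := by
      intro n hn
      have hn' : n ∈ (↑(Q' ⊔ M) : Set G) := by rw [htop]; trivial
      rw [Subgroup.coe_mul_of_right_le_normalizer_left Q' M hQM] at hn'
      obtain ⟨y, hy, m, hm, rfl⟩ := hn'
      have : m ∈ M ⊓ N := ⟨hm, by simpa using N.mul_mem (N.inv_mem (hQN hy)) hn⟩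
      rw [hMN, Subgroup.mem_bot] at this
      simpa [this] using hy
    have h1 : r ∣ q ^ (Nat.card N).factorization q := by
      rw [← hcardQ]
      exact hrN.trans (Subgroup.card_dvd_of_le hNQ)
    exact hqr ((Nat.prime_dvd_prime_iff_eq hr hq).1 (hr.dvd_of_dvd_pow h1)).symm

end Cfsg.Agent.S3749
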