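import Cfsg.Statements.S3750
import Mathlib
import Cfsg.Agent.Lib.PrimitiveSubgroup
-- import your own Cfsg.Agent.* helpers here

set_option autoImplicit false
open Cfsg

namespace Cfsg.Agent.S3750

open Cfsg.Agent.PrimitiveSubgroup Cfsg.Agent.ComponentsBasic Cfsg.Agent.ComponentsFitting

/-- Call a proper subgroup M of G primitive when M = N_G(N) for every non-trivial normal subgroup N of M. Let M be a primitive subgroup of the finite group G and N a normal subgroup of G with M ∩ F*(N) ≠ 1. Then F(G) = 1 and F*(N) = F*(G) = E(G); in particular every minimal normal subgroup of G is contained in N. -/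
theorem result {G : Type*} [Group G] [Finite G] (M : Subgroup G) (hM : M ≠ ⊤) (hprim : ∀ N : Subgroup G, N ≤ M → M ≤ Subgroup.normalizer (N : Set G) → N ≠ ⊥ → Subgroup.normalizer (N : Set G) = M) (N : Subgroup G) [N.Normal] (hMF : M ⊓ (Cfsg.generalizedFittingSubgroup ↥N).map N.subtype ≠ ⊥) : Cfsg.fittingSubgroup G = ⊥ ∧ (Cfsg.generalizedFittingSubgroup ↥N).map N.subtype = Cfsg.generalizedFittingSubgroup G ∧ Cfsg.generalizedFittingSubgroup G = Cfsg.layer G ∧ ∀ K : Subgroup G, K.Normal → K ≠ ⊥ → (∀ K' : Subgroup G, K'.Normal → K' ≤ K → K' = ⊥ ∨ K' = K) → K ≤ N := by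
  have hP : IsPrimitiveSub M := ⟨hM, hprim⟩
  let X : Subgroup G := (Cfsg.generalizedFittingSubgroup ↥N).map N.subtype
  have hXN : X ≤ N := Subgroup.map_subtype_le _
  haveI : X.Normal := ConjAct.normal_of_characteristic_of_normal
  have hNsn : N.IsSubnormal := Subgroup.Normal.isSubnormal inferInstance
  have hXG : X ≤ Cfsg.generalizedFittingSubgroup G := gen_map_subtype_le hNsn
  have hDn : Subgroup.normalizer ((M ⊓ X : Subgroup G) : Set G) = M := normalizer_inf_eq hP X hMF
  have hMF' := inf_fitting_eq_bot hP
  have hF : Cfsg.fittingSubgroup G = ⊥ := by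
    by_contra hF
    haveI : Nontrivial (Cfsg.fittingSubgroup G) := (Subgroup.nontrivial_iff_ne_bot _).2 hF
    haveI : Nontrivial (Subgroup.center (Cfsg.fittingSubgroup G)) :=
      (Subgroup.nontrivial_iff_ne_bot _).2 (Group.IsNilpotent.center_ne_bot _)
    obtain ⟨⟨z, hz⟩, hz1⟩ := exists_ne (1 : Subgroup.center (Cfsg.fittingSubgroup G))
    have hzX : (z : G) ∈ Subgroup.centralizer (Cfsg.generalizedFittingSubgroup G : Set G) := by
      rw [← Subgroup.zpowers_le, Subgroup.le_centralizer_iff, Cfsg.generalizedFittingSubgroup]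
      refine sup_le ?_ ?_
      · intro l hl
        refine Subgroup.mem_centralizer_iff.2 fun y hy => ?_
        exact Subgroup.mem_centralizer_iff.1 (layer_le_centralizer_fitting hl) y
          (Subgroup.zpowers_le.2 z.2 hy)
      · intro f hf
        refine Subgroup.mem_centralizer_iff.2 fun y hy => ?_
        obtain ⟨i, rfl⟩ := Subgroup.mem_zpowers_iff.1 hy
        have : Commute (z : G) f := (congrArg Subtype.val (Subgroup.mem_center_iff.1 hz ⟨f, hf⟩)).symm
        exact (this.zpow_left i).eq
    have hzM : (z : G) ∈ M := by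
      rw [← hDn]
      exact Subgroup.centralizer_le_normalizer _ (Subgroup.centralizer_le (inf_le_right.trans hXG) hzX)
    have : (z : G) ∈ M ⊓ Cfsg.fittingSubgroup G := ⟨hzM, z.2⟩
    rw [hMF', Subgroup.mem_bot] at this
    exact hz1 (Subtype.ext (Subtype.ext this))
  have hGE : Cfsg.generalizedFittingSubgroup G = Cfsg.layer G := by
    rw [Cfsg.generalizedFittingSubgroup, hF, sup_bot_eq]
  have hcompN : ∀ L : Subgroup G, Cfsg.IsComponent L → L ≤ N := by
    intro L hL
    rcases component_le_or_commute_normal hL N with h | h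
    · exact h
    · exfalso
      refine no_component_le hP hL ?_
      rw [← hDn]
      rw [Subgroup.commutator_eq_bot_iff_le_centralizer] at h
      exact h.trans ((Subgroup.centralizer_le (inf_le_right.trans hXN)).trans (Subgroup.centralizer_le_normalizer _))
  have hXE : X = Cfsg.generalizedFittingSubgroup G := by
    refine le_antisymm hXG ?_
    rw [hGE]
    refine sSup_le fun L hL => ?_
    have h1 : L ≤ (Cfsg.layer ↥N).map N.subtype := by
      rw [layer_map_subtype hNsn]
      exact le_sSup ⟨hL, hcompN L hL⟩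
    exact h1.trans (Subgroup.map_mono layer_le_gen)
  refine ⟨hF, hXE, hGE, fun K hKn hK1 hKmin => ?_⟩
  haveI := hKn
  rcases hKmin (K ⊓ N) inferInstance inf_le_left with h | h
  · exfalso
    have h1 : K ≤ Subgroup.centralizer (Cfsg.generalizedFittingSubgroup G : Set G) := by
      rw [← hXE, ← Subgroup.commutator_eq_bot_iff_le_centralizer, eq_bot_iff, ← h]
      exact (Subgroup.commutator_mono le_rfl hXN).trans (Subgroup.commutator_le_inf K N)
    apply hK1
    rw [← h, inf_eq_left.2 ((h1.trans centralizer_gen_le).trans (hXE ▸ hXN))]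
  · exact inf_eq_left.1 h

end Cfsg.Agent.S3750
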