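import Cfsg.Statements.S3751
import Cfsg.Agent.Lib.CharPBasic
-- import your own Cfsg.Agent.* helpers here

set_option autoImplicit false
open Cfsg

namespace Cfsg.Agent.S3751

open Subgroup
open scoped Pointwise
open Cfsg.Agent.HallCore (le_pCore isPGroup_pCore)

section

variable {G : Type*} [Group G] {p : ℕ}

/-- `O_p(M)` inside `G`. -/
abbrev OO (p : ℕ) (M : Subgroup G) : Subgroup G := (Cfsg.pCore p M).map M.subtype

/-- `M` is a `p`-local subgroup. -/
def IsLoc (p : ℕ) (M : Subgroup G) : Prop :=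
  ∃ T : Subgroup G, IsPGroup p T ∧ T ≠ ⊥ ∧ M = Subgroup.normalizer (T : Set G)

/-- `M` is a maximal `p`-local subgroup. -/
def IsMaxLoc (p : ℕ) (M : Subgroup G) : Prop :=
  IsLoc p M ∧ ∀ L, IsLoc p L → M ≤ L → L = M

/-- Conjugation of subgroups. -/
abbrev cg (x : G) (H : Subgroup G) : Subgroup G := H.map (MulAut.conj x).toMonoidHom

theorem cg_cg (x y : G) (H : Subgroup G) : cg x (cg y H) = cg (x * y) H := by
  simp only [cg, Subgroup.map_map]
  congr 1
  ext a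
  simp [mul_assoc]

theorem cg_one (H : Subgroup G) : cg (1 : G) H = H := by
  ext a; simp [cg]

theorem cg_inv_cg (x : G) (H : Subgroup G) : cg x⁻¹ (cg x H) = H := by
  rw [cg_cg, inv_mul_cancel, cg_one]

theorem normalizer_iff {H : Subgroup G} {x : G} :
    x ∈ normalizer (H : Set G) ↔ cg x H = H :=
  Subgroup.mem_normalizer_iff_map_conj_eq

theorem cg_normalizer (x : G) (H : Subgroup G) :
    cg x (normalizer (H : Set G)) = normalizer (cg x H : Set G) :=
  Subgroup.map_normalizer_eq_of_bijective H (MulAut.conj x).bijective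

theorem le_normalizer_OO (M : Subgroup G) : M ≤ normalizer (OO p M : Set G) := by
  haveI := Cfsg.Agent.HallCore.pCore_normal p M
  exact le_normalizer_map_subtype' M (Cfsg.pCore p M)
where
  le_normalizer_map_subtype' (M : Subgroup G) (N : Subgroup M) [hN : N.Normal] :
      M ≤ normalizer (N.map M.subtype : Set G) := by
    intro x hx
    rw [Subgroup.mem_normalizer_iff]
    intro y
    constructor
    · rintro ⟨a, ha, rfl⟩
      exact ⟨_, hN.conj_mem a ha ⟨x, hx⟩, rfl⟩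
    · rintro ⟨a, ha, e⟩
      have e' : (a : G) = x * y * x⁻¹ := e
      refine ⟨_, hN.conj_mem a ha ⟨x⁻¹, inv_mem hx⟩, ?_⟩
      show x⁻¹ * (a : G) * x⁻¹⁻¹ = y
      rw [e']; group

variable [Finite G] [hp : Fact p.Prime]

theorem isPGroup_OO (M : Subgroup G) : IsPGroup p (OO p M) := (isPGroup_pCore p M).map _

theorem le_OO {R M : Subgroup G} (hR : IsPGroup p R) (hRM : R ≤ M)
    (hn : M ≤ normalizer (R : Set G)) : R ≤ OO p M := by
  haveI : (R.subgroupOf M).Normal := (Subgroup.normal_subgroupOf_iff_le_normalizer hRM).2 hn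
  have h := le_pCore (N := R.subgroupOf M) (hR.of_equiv (Subgroup.subgroupOfEquivOfLe hRM).symm)
  have h' := Subgroup.map_mono (f := M.subtype) h
  rwa [Subgroup.subgroupOf_map_subtype, inf_eq_left.2 hRM] at h'

theorem cg_OO_le (x : G) (M : Subgroup G) : cg x (OO p M) ≤ OO p (cg x M) := by
  refine le_OO ((isPGroup_OO M).map _) (Subgroup.map_mono (Subgroup.map_subtype_le _)) ?_
  rw [← cg_normalizer]
  exact Subgroup.map_mono (le_normalizer_OO M)

theorem cg_OO (x : G) (M : Subgroup G) : cg x (OO p M) = OO p (cg x M) := by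
  refine le_antisymm (cg_OO_le x M) ?_
  have h := Subgroup.map_mono (f := (MulAut.conj x).toMonoidHom) (cg_OO_le x⁻¹ (cg x M) (p := p))
  rwa [cg_inv_cg, ← cg, cg_cg, mul_inv_cancel, cg_one] at h

theorem normalizer_le_normalizer_OO (M : Subgroup G) :
    normalizer (M : Set G) ≤ normalizer (OO p M : Set G) := fun x hx => by
  rw [normalizer_iff] at hx ⊢
  rw [cg_OO, hx]

theorem IsLoc.OO_ne_bot {M : Subgroup G} (h : IsLoc p M) : OO p M ≠ ⊥ := by
  obtain ⟨T, hT, hT1, rfl⟩ := h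
  exact fun e => hT1 (le_bot_iff.1 (e ▸ le_OO hT Subgroup.le_normalizer le_rfl))

theorem IsMaxLoc.normalizer_OO {M : Subgroup G} (h : IsMaxLoc p M) :
    normalizer (OO p M : Set G) = M :=
  h.2 _ ⟨_, isPGroup_OO M, h.1.OO_ne_bot, rfl⟩ (le_normalizer_OO M)

theorem exists_isMaxLoc {R : Subgroup G} (hR : IsPGroup p R) (hR1 : R ≠ ⊥) :
    ∃ M, IsMaxLoc p M ∧ normalizer (R : Set G) ≤ M := by
  obtain ⟨M, hle, hM⟩ := (Set.toFinite {L : Subgroup G | IsLoc p L}).exists_le_maximal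
    (show normalizer (R : Set G) ∈ {L : Subgroup G | IsLoc p L} from ⟨R, hR, hR1, rfl⟩)
  exact ⟨M, ⟨hM.1, fun L hL hML => le_antisymm (hM.2 hL hML) hML⟩, hle⟩

theorem IsMaxLoc.conj {M : Subgroup G} (h : IsMaxLoc p M) (x : G) : IsMaxLoc p (cg x M) := by
  have key : ∀ (y : G) (L : Subgroup G), IsLoc p L → IsLoc p (cg y L) := by
    rintro y _ ⟨T, hT, hT1, rfl⟩
    refine ⟨cg y T, hT.map _, fun e => hT1 ?_, cg_normalizer y T⟩
    rw [← cg_inv_cg y T, e]
    exact Subgroup.map_bot _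
  refine ⟨key x M h.1, fun L hL hle => ?_⟩
  have h2 := h.2 _ (key x⁻¹ L hL) (by
    have := Subgroup.map_mono (f := (MulAut.conj x⁻¹).toMonoidHom) hle
    rwa [← cg, ← cg, cg_inv_cg] at this)
  rw [← h2, cg_cg, mul_inv_cancel, cg_one]

theorem exists_normalizer_gt {T S : Subgroup G} (hS : IsPGroup p S) (hTS : T < S) :
    ∃ x ∈ S, x ∉ T ∧ x ∈ normalizer (T : Set G) := by
  haveI := hS.isNilpotent
  have hlt : T.subgroupOf S < ⊤ :=
    lt_top_iff_ne_top.2 fun e => hTS.not_ge (Subgroup.subgroupOf_eq_top.1 e)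
  obtain ⟨r, hrn, hrT⟩ := SetLike.exists_of_lt (normalizerCondition_of_isNilpotent _ hlt)
  refine ⟨r, r.2, hrT, ?_⟩
  rw [normalizer_iff]
  refine Subgroup.eq_of_le_of_card_ge ?_ ?_
  · rintro _ ⟨y, hy, rfl⟩
    exact (Subgroup.mem_normalizer_iff.1 hrn ⟨y, hTS.le hy⟩).1 hy
  · exact (Subgroup.card_map_of_injective (MulAut.conj (r : G)).injective).ge

/-- A `p`-subgroup `T` of `X` of largest order. -/
def IsTop (p : ℕ) (T X : Subgroup G) : Prop :=
  T ≤ X ∧ ∀ S : Subgroup G, IsPGroup p S → S ≤ X → T ≤ S → S = T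

theorem OO_le_of_isTop {T X : Subgroup G} (hT : IsPGroup p T) (h : IsTop p T X) :
    OO p X ≤ T := by
  have hp' : IsPGroup p ↥(OO p X ⊔ T) := (isPGroup_OO X).to_sup_of_normal_left' hT
    (h.1.trans (le_normalizer_OO X))
  exact le_sup_left.trans (h.2 _ hp' (sup_le (Subgroup.map_subtype_le _) h.1) le_sup_right).le

theorem main (hloc : Cfsg.IsOfLocalCharacteristic p G) (hOp : Cfsg.pCore p G = ⊥) :
    (∃ M₁ M₂ : Subgroup G, M₁ ≠ M₂ ∧ IsMaxLoc p M₁ ∧ IsMaxLoc p M₂ ∧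
      OO p M₁ ≤ M₂ ∧ OO p M₂ ≤ M₁) ∨
    ∀ M : Subgroup G, IsMaxLoc p M → M ≠ ⊤ ∧ p ∣ Nat.card M ∧
      ∀ g : G, g ∉ M → ¬ p ∣ Nat.card ↥(M ⊓ cg g M) := by
  by_cases hbad : ∀ M : Subgroup G, IsMaxLoc p M →
      ∀ g : G, g ∉ M → ¬ p ∣ Nat.card ↥(M ⊓ cg g M)
  · refine Or.inr fun M hM => ⟨fun e => ?_, ?_, hbad M hM⟩
    · subst e
      obtain ⟨T, hT, hT1, hTn⟩ := hM.1
      haveI : T.Normal := Subgroup.normalizer_eq_top_iff.1 hTn.symm
      exact hT1 (le_bot_iff.1 (hOp ▸ le_pCore (N := T) hT))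
    · obtain ⟨T, hT, hT1, rfl⟩ := hM.1
      obtain ⟨k, hk⟩ := IsPGroup.iff_card.1 hT
      have hk0 : k ≠ 0 := by
        rintro rfl
        exact hT1 (Subgroup.card_eq_one.1 (by simpa using hk))
      exact (dvd_pow_self p hk0).trans (hk ▸ Subgroup.card_dvd_of_le Subgroup.le_normalizer)
  left
  push Not at hbad
  obtain ⟨M0, hM0, g, hg, hdvd⟩ := hbad
  let S : Set (Subgroup G × Subgroup G × Subgroup G) :=
    {q | q.1 ≠ q.2.1 ∧ IsMaxLoc p q.1 ∧ IsMaxLoc p q.2.1 ∧ q.2.2 ≤ q.1 ⊓ q.2.1 ∧ IsPGroup p q.2.2}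
  obtain ⟨z, hz⟩ := exists_prime_orderOf_dvd_card' p hdvd
  have hz' : orderOf (z : G) = p := by rw [Subgroup.orderOf_coe]; exact hz
  have h0 : (M0, cg g M0, Subgroup.zpowers (z : G)) ∈ S := by
    refine ⟨fun e => hg ?_, hM0, hM0.conj g, Subgroup.zpowers_le.2 z.2,
      IsPGroup.of_card (n := 1) (by rw [Nat.card_zpowers, hz', pow_one])⟩
    rw [← hM0.normalizer_OO]
    exact normalizer_le_normalizer_OO M0 (normalizer_iff.2 e.symm)
  obtain ⟨⟨M, L, T⟩, hq, hmax'⟩ :=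
    Set.exists_max_image S (fun q => Nat.card q.2.2) (Set.toFinite _) ⟨_, h0⟩
  have hne : M ≠ L := hq.1
  have hM : IsMaxLoc p M := hq.2.1
  have hL : IsMaxLoc p L := hq.2.2.1
  have hTle : T ≤ M ⊓ L := hq.2.2.2.1
  have hT : IsPGroup p T := hq.2.2.2.2
  have hmax : ∀ b ∈ S, Nat.card b.2.2 ≤ Nat.card T := hmax'
  clear hmax' hq
  have hT1 : T ≠ ⊥ := by
    rintro rfl
    have := hmax _ h0
    simp only [Nat.card_zpowers, hz', Subgroup.card_bot] at this
    exact absurd this (not_le.2 hp.out.one_lt)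
  obtain ⟨K, hK, hTK⟩ := exists_isMaxLoc hT hT1
  have key : ∀ X : Subgroup G, IsMaxLoc p X → T ≤ X → ¬ IsTop p T X → K = X := by
    intro X hX hTX htop
    simp only [IsTop, not_and, not_forall] at htop
    obtain ⟨R, hR, hRX, hTR, hne'⟩ := htop hTX
    obtain ⟨x, hxR, hxT, hxn⟩ := exists_normalizer_gt hR (lt_of_le_of_ne hTR (Ne.symm hne'))
    by_contra hKX
    have hT' : IsPGroup p ↥(R ⊓ normalizer (T : Set G)) := hR.to_le inf_le_left
    have h2 := hmax (X, K, R ⊓ normalizer (T : Set G))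
      ⟨Ne.symm hKX, hX, hK, le_inf (inf_le_left.trans hRX) (inf_le_right.trans hTK), hT'⟩
    have h3 := Subgroup.eq_of_le_of_card_ge (le_inf hTR Subgroup.le_normalizer) h2
    exact hxT (h3.ge ⟨hxR, hxn⟩)
  have hTM : T ≤ M := hTle.trans inf_le_left
  have hTL : T ≤ L := hTle.trans inf_le_right
  wlog hLtop : IsTop p T L generalizing M L
  · have hMtop : IsTop p T M := by
      by_contra h
      exact hne ((key M hM hTM h).symm.trans (key L hL hTL hLtop))
    exact this L M (Ne.symm hne) hL hM (le_inf hTL hTM) hTL hTM hMtop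
  have hLT := OO_le_of_isTop hT hLtop
  by_cases hMtop : IsTop p T M
  · exact ⟨M, L, hne, hM, hL, (OO_le_of_isTop hT hMtop).trans hTL, hLT.trans hTM⟩
  simp only [IsTop, not_and, not_forall] at hMtop
  obtain ⟨R, hR, -, hTR, hne'⟩ := hMtop hTM
  obtain ⟨x, hxR, hxT, hxn⟩ := exists_normalizer_gt hR (lt_of_le_of_ne hTR (Ne.symm hne'))
  have hxL : x ∉ L := by
    intro hxL
    have h1 : T ⊔ Subgroup.zpowers x ≤ R := sup_le hTR (Subgroup.zpowers_le.2 hxR)
    have h2 := hLtop.2 _ (hR.to_le h1) (sup_le hTL (Subgroup.zpowers_le.2 hxL)) le_sup_left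
    exact hxT (h2 ▸ Subgroup.mem_sup_right (Subgroup.mem_zpowers x))
  refine ⟨L, cg x L, fun e => hxL ?_, hL, hL.conj x, ?_, ?_⟩
  · rw [← hL.normalizer_OO]
    exact normalizer_le_normalizer_OO L (normalizer_iff.2 e.symm)
  · refine hLT.trans ?_
    rw [← normalizer_iff.1 hxn]
    exact Subgroup.map_mono hTL
  · rw [← cg_OO]
    refine (Subgroup.map_mono hLT).trans ?_
    rw [← cg, normalizer_iff.1 hxn]
    exact hTL

theorem normalizer_inf {M₁ M₂ A : Subgroup G} (hloc : Cfsg.IsOfLocalCharacteristic p G)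
    (hM : IsMaxLoc p M₁) (hA : A ≠ ⊥) (hle : A ≤ M₁) (hn : M₁ ≤ normalizer (A : Set G)) :
    M₂ ⊓ normalizer (A : Set G) = M₁ ⊓ M₂ := by
  have hC : Subgroup.centralizer (Cfsg.pCore p M₁ : Set M₁) ≤ Cfsg.pCore p M₁ := by
    obtain ⟨T, hT, hT1, rfl⟩ := hM.1
    exact hloc.2 T hT hT1
  have hDne : OO p M₁ ⊓ A ≠ ⊥ := by
    intro e
    refine hA (Subgroup.eq_bot_iff_forall _ |>.2 fun a ha => ?_)
    have haC : (⟨a, hle ha⟩ : M₁) ∈ Subgroup.centralizer (Cfsg.pCore p M₁ : Set M₁) := by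
      refine Subgroup.mem_centralizer_iff.2 fun y hy => Subtype.ext ?_
      have hy' : (y : G) ∈ OO p M₁ := ⟨y, hy, rfl⟩
      have h1 : (y : G) * a * (y : G)⁻¹ * a⁻¹ ∈ OO p M₁ ⊓ A := by
        constructor
        · rw [mul_assoc, mul_assoc]
          refine mul_mem hy' ?_
          rw [← mul_assoc]
          exact (Subgroup.mem_normalizer_iff.1 (le_normalizer_OO M₁ (hle ha)) _).1 (inv_mem hy')
        · exact A.mul_mem ((Subgroup.mem_normalizer_iff.1 (hn y.2) a).1 ha) (A.inv_mem ha)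
      rw [e, Subgroup.mem_bot, mul_inv_eq_one, mul_inv_eq_iff_eq_mul] at h1
      exact h1
    have h2 : a ∈ OO p M₁ ⊓ A := ⟨⟨_, hC haC, rfl⟩, ha⟩
    rwa [e, Subgroup.mem_bot] at h2
  have hD : OO p M₁ ⊓ A ≤ OO p A := by
    refine le_OO ((isPGroup_OO M₁).to_le inf_le_left) inf_le_right fun a ha => ?_
    rw [normalizer_iff]
    show (OO p M₁ ⊓ A).map (MulAut.conj a).toMonoidHom = _
    rw [Subgroup.map_inf _ _ _ (show Function.Injective (MulAut.conj a).toMonoidHom from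
      (MulAut.conj a).injective)]
    rw [show (OO p M₁).map (MulAut.conj a).toMonoidHom = OO p M₁ from
      normalizer_iff.1 (le_normalizer_OO M₁ (hle ha)),
      show A.map (MulAut.conj a).toMonoidHom = A from normalizer_iff.1 (Subgroup.le_normalizer ha)]
  have hne : OO p A ≠ ⊥ := fun e => hDne (le_bot_iff.1 (e ▸ hD))
  have hN : normalizer (A : Set G) ≤ normalizer (OO p A : Set G) := normalizer_le_normalizer_OO A
  have h2 := hM.2 _ ⟨_, isPGroup_OO A, hne, rfl⟩ (hn.trans hN)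
  exact le_antisymm (le_inf (inf_le_right.trans (hN.trans h2.le)) inf_le_left)
    (le_inf inf_le_right (inf_le_left.trans hn))

end


/-- Two distinct subgroups M₁, M₂ of G form a primitive pair when, for {i, j} = {1, 2}, every non-trivial normal subgroup A of M_i contained in M₁ ∩ M₂ satisfies N_{M_j}(A) = M₁ ∩ M₂; the pair has characteristic p when moreover C_{M_i}(O_p(M_i)) ≤ O_p(M_i) for both i and O_p(M₁)O_p(M₂) ≤ M₁ ∩ M₂. Let G be a finite group, p a prime dividing its order, with O_p(G) = 1 and every p-local subgroup of characteristic p. Then either G has a primitive pair of characteristic p, or every maximal p-local subgroup M of G is strongly p-embedded in G: M is a proper subgroup, p divides its order, and for every g ∉ M the order of M ∩ gMg⁻¹ is prime to p. -/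
theorem result {G : Type*} [Group G] [Finite G] {p : ℕ} [Fact p.Prime] (hloc : Cfsg.IsOfLocalCharacteristic p G) (hOp : Cfsg.pCore p G = ⊥) : (∃ M₁ M₂ : Subgroup G, M₁ ≠ M₂ ∧ (∀ A : Subgroup G, A ≠ ⊥ → A ≤ M₁ ⊓ M₂ → (M₁ ≤ Subgroup.normalizer (A : Set G) → M₂ ⊓ Subgroup.normalizer (A : Set G) = M₁ ⊓ M₂) ∧ (M₂ ≤ Subgroup.normalizer (A : Set G) → M₁ ⊓ Subgroup.normalizer (A : Set G) = M₁ ⊓ M₂)) ∧ Subgroup.centralizer (Cfsg.pCore p ↥M₁ : Set ↥M₁) ≤ Cfsg.pCore p ↥M₁ ∧ Subgroup.centralizer (Cfsg.pCore p ↥M₂ : Set ↥M₂) ≤ Cfsg.pCore p ↥M₂ ∧ (Cfsg.pCore p ↥M₁).map M₁.subtype ⊔ (Cfsg.pCore p ↥M₂).map M₂.subtype ≤ M₁ ⊓ M₂) ∨ (∀ M : Subgroup G, (∃ T : Subgroup G, IsPGroup p T ∧ T ≠ ⊥ ∧ M = Subgroup.normalizer (T : Set G)) → (∀ L : Subgroup G, (∃ T : Subgroup G, IsPGroup p T ∧ T ≠ ⊥ ∧ L = Subgroup.normalizer (T : Set G)) → M ≤ L → L = M) → M ≠ ⊤ ∧ p ∣ Nat.card M ∧ ∀ g : G, g ∉ M → ¬ p ∣ Nat.card ↥(M ⊓ M.map (MulAut.conj g).toMonoidHom))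 := by
  rcases main hloc hOp with ⟨M₁, M₂, hne, h₁, h₂, h12, h21⟩ | h
  · refine Or.inl ⟨M₁, M₂, hne, fun A hA hle => ⟨fun hn => ?_, fun hn => ?_⟩, ?_, ?_,
      sup_le (le_inf (Subgroup.map_subtype_le _) h12) (le_inf h21 (Subgroup.map_subtype_le _))⟩
    · exact normalizer_inf hloc h₁ hA (hle.trans inf_le_left) hn
    · rw [inf_comm M₁ M₂]
      exact normalizer_inf hloc h₂ hA (hle.trans inf_le_right) hn
    · obtain ⟨T, hT, hT1, rfl⟩ := h₁.1
      exact hloc.2 T hT hT1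
    · obtain ⟨T, hT, hT1, rfl⟩ := h₂.1
      exact hloc.2 T hT hT1
  · exact Or.inr fun M hM hmax => h M ⟨hM, hmax⟩

end Cfsg.Agent.S3751
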