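import Cfsg.Statements.S3752
import Cfsg.Agent.Lib.ComponentsBender

set_option autoImplicit false
open Cfsg

namespace Cfsg.Agent.S3752

open Cfsg.Agent.ComponentsBender Subgroup
open Cfsg.Agent.ComponentsCores Cfsg.Agent.ComponentsFitting

theorem centralizer_pCore_le_of_isPGroup {H : Type*} [Group H] [Finite H] {p : ℕ}
    (h : IsPGroup p (generalizedFittingSubgroup H)) :
    generalizedFittingSubgroup H ≤ pCore p H ∧
      centralizer (pCore p H : Set H) ≤ pCore p H := by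
  have h1 : generalizedFittingSubgroup H ≤ pCore p H := le_pCore' h
  exact ⟨h1, (centralizer_le (SetLike.coe_subset_coe.mpr h1)).trans (centralizer_gen_le.trans h1)⟩

/-- Bender's Theorem on primitive pairs. Two distinct subgroups M₁, M₂ of G form a primitive pair when, for {i, j} = {1, 2}, every non-trivial normal subgroup A of M_i contained in M₁ ∩ M₂ satisfies N_{M_j}(A) = M₁ ∩ M₂; the pair has characteristic p when moreover C_{M_i}(O_p(M_i)) ≤ O_p(M_i) for both i and O_p(M₁)O_p(M₂) ≤ M₁ ∩ M₂. If (M₁, M₂) is a primitive pair of the finite group G with F*(M₁) ≤ M₂ and F*(M₂) ≤ M₁, then for some prime p the pair has characteristic p. -/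
theorem result {G : Type*} [Group G] [Finite G] (M₁ M₂ : Subgroup G) (hne : M₁ ≠ M₂) (hP : ∀ A : Subgroup G, A ≠ ⊥ → A ≤ M₁ ⊓ M₂ → (M₁ ≤ Subgroup.normalizer (A : Set G) → M₂ ⊓ Subgroup.normalizer (A : Set G) = M₁ ⊓ M₂) ∧ (M₂ ≤ Subgroup.normalizer (A : Set G) → M₁ ⊓ Subgroup.normalizer (A : Set G) = M₁ ⊓ M₂)) (h₁ : (Cfsg.generalizedFittingSubgroup ↥M₁).map M₁.subtype ≤ M₂) (h₂ : (Cfsg.generalizedFittingSubgroup ↥M₂).map M₂.subtype ≤ M₁) : ∃ p : ℕ, p.Prime ∧ Subgroup.centralizer (Cfsg.pCore p ↥M₁ : Set ↥M₁) ≤ Cfsg.pCore p ↥M₁ ∧ Subgroup.centralizer (Cfsg.pCore p ↥M₂ : Set ↥M₂) ≤ Cfsg.pCore p ↥M₂ ∧ (Cfsg.pCore p ↥M₁).map M₁.subtype ⊔ (Cfsg.pCore p ↥M₂).map M₂.subtype ≤ M₁ ⊓ M₂ := by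
  have hc1 : Ctrl M₁ M₂ := fun T hne hT1 hT2 hn =>
    ((hP T hne (le_inf hT1 hT2)).1 hn).le.trans inf_le_left
  have hc2 : Ctrl M₂ M₁ := fun T hne hT2 hT1 hn =>
    ((hP T hne (le_inf hT1 hT2)).2 hn).le.trans inf_le_right
  rcases pair_main hc1 hc2 (data_fs M₁) h₁ (data_fs M₂) h₂ with
    h | ⟨T, hT, hT1, hT2, hn1, hn2⟩ | ⟨p, hp, hp1, hp2⟩
  · exfalso
    refine hne (h.trans (eq_bot_iff.mpr ?_).symm)
    by_contra hb
    haveI : Nontrivial M₂ := (nontrivial_iff_ne_bot M₂).mpr fun h0 => hb h0.le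
    refine gen_ne_bot (G := M₂) ((map_eq_bot_iff_of_injective _ M₂.subtype_injective).mp ?_)
    rw [h] at h₂
    exact le_bot_iff.mp h₂
  · exfalso
    obtain ⟨e1, e2⟩ := hP T hT (le_inf hT1 hT2)
    have a := e1 hn1
    have b := e2 hn2
    rw [inf_eq_left.mpr hn2] at a
    rw [inf_eq_left.mpr hn1] at b
    exact hne (b.trans a.symm)
  · obtain ⟨ha, hb⟩ := centralizer_pCore_le_of_isPGroup hp1
    obtain ⟨hc, hd⟩ := centralizer_pCore_le_of_isPGroup hp2
    haveI := Fact.mk hp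
    refine ⟨p, hp, hb, hd, ?_⟩
    have hO1 : pCore p M₁ ≤ generalizedFittingSubgroup M₁ :=
      (pCore_le_fitting hp).trans fitting_le_gen
    have hO2 : pCore p M₂ ≤ generalizedFittingSubgroup M₂ :=
      (pCore_le_fitting hp).trans fitting_le_gen
    exact sup_le (le_inf (map_subtype_le _) ((map_mono hO1).trans h₁))
      (le_inf ((map_mono hO2).trans h₂) (map_subtype_le _))

end Cfsg.Agent.S3752
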