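import Cfsg.Statements.S3753
import Cfsg.Agent.Lib.PrimitivePair69
import Cfsg.Agent.Lib.QuadraticMain
-- import your own Cfsg.Agent.* helpers here

set_option autoImplicit false
open Cfsg

namespace Cfsg.Agent.S3753

open Subgroup in
theorem two_case {G : Type*} [Group G] [Finite G] {M₁ M₂ : Subgroup G}
    (hc₁ : centralizer (Cfsg.pCore 2 ↥M₁ : Set ↥M₁) ≤ Cfsg.pCore 2 ↥M₁)
    (hab : ∀ T : Sylow 2 ↥M₁, IsMulCommutative T)
    (hle : Cfsg.pCoreOf 2 M₂ ≤ M₁) : Cfsg.pCoreOf 2 M₂ ≤ Cfsg.pCoreOf 2 M₁ := by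
  have hp : Fact (Nat.Prime 2) := ⟨Nat.prime_two⟩
  haveI := HallCore.pCore_normal 2 M₁
  have h1 : ∀ T : Sylow 2 ↥M₁, (T : Subgroup ↥M₁) = Cfsg.pCore 2 ↥M₁ := by
    intro T
    refine le_antisymm (fun x hx => hc₁ (mem_centralizer_iff.mpr fun y hy => ?_))
      (HallCore.pCore_le_sylow T)
    exact congrArg Subtype.val
      ((hab T).is_comm.comm (⟨y, HallCore.pCore_le_sylow T hy⟩ : T) ⟨x, hx⟩)
  obtain ⟨T, hT⟩ := ((LocalBasics.isPGroup_pCoreOf 2 M₂).comap_subtype (K := M₁)).exists_le_sylow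
  rw [h1 T] at hT
  intro x hx
  exact ⟨⟨x, hle hx⟩, hT hx, rfl⟩

theorem stableCharP {G : Type*} [Group G] [Finite G] {p : ℕ} [Fact p.Prime] (hp : p ≠ 2)
    (M : Subgroup G) (hc : Subgroup.centralizer (Cfsg.pCore p ↥M : Set ↥M) ≤ Cfsg.pCore p ↥M)
    (hab : ∀ T : Sylow 2 ↥M, IsMulCommutative T) : PrimitivePair69.StableCharP p ↥M := by
  refine ⟨hc, fun P _ hP => ?_⟩
  exact GlaubermanStable.isPStableOn_of_elementary (p := p)
    (fun Y _ => ∀ T : Sylow 2 Y, IsMulCommutative T)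
    (fun Y _ _ N _ _ h => QuadraticMain.abelian_sylow_of_surjective
      (QuotientGroup.mk'_surjective N) h)
    (fun Y _ _ h V _ hV => QuadraticMain.isPStableOn_of_abelian hp h V hV) ↥M hab P hP

/-- Two distinct subgroups M₁, M₂ of G form a primitive pair when, for {i, j} = {1, 2}, every non-trivial normal subgroup A of M_i contained in M₁ ∩ M₂ satisfies N_{M_j}(A) = M₁ ∩ M₂; the pair has characteristic p when moreover C_{M_i}(O_p(M_i)) ≤ O_p(M_i) for both i and O_p(M₁)O_p(M₂) ≤ M₁ ∩ M₂. If the finite group G has a primitive pair (M₁, M₂) of characteristic p for some prime p, then M₁ or M₂ has non-abelian Sylow 2-subgroups. In particular no group of odd order has a primitive pair of characteristic p. -/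
theorem result {G : Type*} [Group G] [Finite G] {p : ℕ} [Fact p.Prime] (M₁ M₂ : Subgroup G) (hne : M₁ ≠ M₂) (hP : ∀ A : Subgroup G, A ≠ ⊥ → A ≤ M₁ ⊓ M₂ → (M₁ ≤ Subgroup.normalizer (A : Set G) → M₂ ⊓ Subgroup.normalizer (A : Set G) = M₁ ⊓ M₂) ∧ (M₂ ≤ Subgroup.normalizer (A : Set G) → M₁ ⊓ Subgroup.normalizer (A : Set G) = M₁ ⊓ M₂)) (hc₁ : Subgroup.centralizer (Cfsg.pCore p ↥M₁ : Set ↥M₁) ≤ Cfsg.pCore p ↥M₁) (hc₂ : Subgroup.centralizer (Cfsg.pCore p ↥M₂ : Set ↥M₂) ≤ Cfsg.pCore p ↥M₂) (hO : (Cfsg.pCore p ↥M₁).map M₁.subtype ⊔ (Cfsg.pCore p ↥M₂).map M₂.subtype ≤ M₁ ⊓ M₂) : (∃ S : Sylow 2 ↥M₁, ¬ IsMulCommutative (S : Subgroup ↥M₁)) ∨ (∃ S : Sylow 2 ↥M₂, ¬ IsMulCommutative (S : Subgroup ↥M₂)) := by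

  by_contra hcon
  push_neg at hcon
  obtain ⟨h1, h2⟩ := hcon
  have hO1 : Cfsg.pCoreOf p M₁ ≤ M₂ := le_trans le_sup_left (hO.trans inf_le_right)
  have hO2 : Cfsg.pCoreOf p M₂ ≤ M₁ := le_trans le_sup_right (hO.trans inf_le_left)
  by_cases hp : p = 2
  · subst hp
    have e : Cfsg.pCoreOf 2 M₂ = Cfsg.pCoreOf 2 M₁ :=
      le_antisymm (two_case hc₁ h1 hO2) (two_case hc₂ h2 hO1)
    have hne0 : Cfsg.pCoreOf 2 M₁ ≠ ⊥ := by
      intro h
      have aux : ∀ M : Subgroup G, Cfsg.pCoreOf 2 M = ⊥ →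
          Subgroup.centralizer (Cfsg.pCore 2 ↥M : Set ↥M) ≤ Cfsg.pCore 2 ↥M → M = ⊥ := by
        intro M hM hc
        have hb : Cfsg.pCore 2 ↥M = ⊥ :=
          (Subgroup.map_eq_bot_iff_of_injective _ M.subtype_injective).mp hM
        rw [hb] at hc
        rw [eq_bot_iff]
        intro x hx
        have h3 : (⟨x, hx⟩ : M) ∈ (⊥ : Subgroup M) :=
          hc (Subgroup.mem_centralizer_iff.mpr fun y hy => by
            rw [SetLike.mem_coe, Subgroup.mem_bot] at hy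
            rw [hy, one_mul, mul_one])
        exact congrArg Subtype.val (Subgroup.mem_bot.mp h3)
      exact hne ((aux M₁ h hc₁).trans (aux M₂ (e.trans h) hc₂).symm)
    obtain ⟨hA, hB⟩ := hP _ hne0 (le_inf (LocalBasics.pCoreOf_le 2 M₁) hO1)
    have hn1 := LocalBasics.le_normalizer_pCoreOf 2 M₁
    have hn2 := e ▸ LocalBasics.le_normalizer_pCoreOf 2 M₂
    have hA' : M₂ = M₁ ⊓ M₂ := (inf_eq_left.mpr hn2).symm.trans (hA hn1)
    have hB' : M₁ = M₁ ⊓ M₂ := (inf_eq_left.mpr hn1).symm.trans (hB hn2)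
    exact hne (hB'.trans hA'.symm)
  · refine PrimitivePair69.no_pair (p := p) (G := G)
      { M := fun b => cond b M₂ M₁
        stable := fun b => by cases b; exacts [stableCharP hp M₁ hc₁ h1, stableCharP hp M₂ hc₂ h2]
        core_le := fun b => by cases b; exacts [hO1, hO2]
        prim := ?_
        ne := hne }
    intro b A hA0 hAi hAj hn
    cases b
    · exact ((hP A hA0 (le_inf hAi hAj)).1 hn).le.trans inf_le_left
    · exact ((hP A hA0 (le_inf hAj hAi)).2 hn).le.trans inf_le_right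

end Cfsg.Agent.S3753
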