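import Mathlib
import Cfsg.Statements.S3754
import Cfsg.Agent.Lib.CoprimeGen
import Cfsg.Agent.Lib.HallSolvable
import Cfsg.Agent.Lib.OffendersReplace
import Cfsg.Agent.Lib.PGroupsBasic
import Cfsg.Agent.Lib.TransferPResidual
-- import your own Cfsg.Agent.* helpers here

set_option autoImplicit false
open Cfsg

namespace Cfsg.Agent.S3754

open Subgroup
open scoped commutatorElement Pointwise

variable {G : Type*} [Group G] [Finite G] {p : ℕ} [hp : Fact p.Prime]

theorem mem_zpowers_of_zpow {e : G} (he : e ^ p = 1) (i : ℤ) :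
    e ^ i = 1 ∨ e ∈ zpowers (e ^ i) := by
  by_cases hd : (p : ℤ) ∣ i
  · obtain ⟨k, rfl⟩ := hd
    exact Or.inl (by rw [zpow_mul, zpow_natCast, he, one_zpow])
  · right
    obtain ⟨u, v, huv⟩ := (((Nat.prime_iff_prime_int.1 hp.out).coprime_iff_not_dvd).2 hd)
    refine mem_zpowers_iff.2 ⟨v, ?_⟩
    rw [← zpow_mul]
    conv_rhs => rw [← zpow_one e, ← huv, zpow_add, mul_comm u, zpow_mul, zpow_natCast, he, one_zpow, one_mul,
      mul_comm v]

/-- An elementary abelian `p`-group acting nontrivially on a `p'`-group `W`: a hyperplane `B`, an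
element `a` and an `a`-invariant subgroup `Q` of `C_W(B)`, minimal subject to not being centralized
by `a`. -/
theorem exists_minimal {A W : Subgroup G} (hAc : ∀ u ∈ A, ∀ v ∈ A, u * v = v * u)
    (hAp : ∀ u ∈ A, u ^ p = 1) (hAW : A ≤ normalizer (W : Set G))
    (hcop : (Nat.card W).Coprime p) (hne : ∃ a ∈ A, ∃ w ∈ W, a * w ≠ w * a) :
    ∃ B : Subgroup G, B ≤ A ∧ ∃ a ∈ A, a ∉ B ∧ A = B ⊔ zpowers a ∧ ∃ Q : Subgroup G, Q ≤ W ∧
      (∀ b ∈ B, ∀ y ∈ Q, b * y = y * b) ∧ A ≤ normalizer (Q : Set G) ∧ (∃ y ∈ Q, a * y ≠ y * a) ∧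
      ∀ Q' : Subgroup G, Q' ≤ Q → (∀ y ∈ Q', a * y * a⁻¹ ∈ Q') → (∃ y ∈ Q', a * y ≠ y * a) →
        Q' = Q := by
  classical
  obtain ⟨a₀, ha₀, w₀, hw₀, haw₀⟩ := hne
  obtain ⟨B, ⟨hBA, a, ha, w, hw, hwB, haw⟩, hBmax⟩ := Set.exists_max_image
    {B : Subgroup G | B ≤ A ∧ ∃ a ∈ A, ∃ w ∈ W, (∀ b ∈ B, b * w = w * b) ∧ a * w ≠ w * a}
    (fun B => Nat.card B) (Set.toFinite _) ⟨⊥, bot_le, a₀, ha₀, w₀, hw₀, by simp, haw₀⟩
  have haB : a ∉ B := fun h => haw (hwB a h)
  set W₁ := W ⊓ centralizer (B : Set G) with hW₁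
  have hw₁ : w ∈ W₁ := ⟨hw, mem_centralizer_iff.2 hwB⟩
  have hAW₁ : A ≤ normalizer (W₁ : Set G) :=
    CoprimeAction.le_normalizer_inf hAW fun x hx =>
      le_normalizer (show x ∈ centralizer (B : Set G) from fun b hb => hAc b (hBA hb) x hx)
  have hcop₁ : (Nat.card W₁).Coprime p :=
    Nat.Coprime.coprime_dvd_left (Subgroup.card_dvd_of_le inf_le_left) hcop
  have hgen : A = B ⊔ zpowers a := by
    refine le_antisymm (fun c hc => ?_) (sup_le hBA (zpowers_le.2 ha))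
    by_contra hcB
    have hc1 : c ∉ zpowers a := fun h => hcB (mem_sup_right h)
    have hpair : CoprimeGen.IsPairAction p c a W₁ :=
      ⟨hAc c hc a ha, hAp c hc, hAp a ha, fun h => haB (h ▸ one_mem B), hc1, hAW₁ hc, hAW₁ ha⟩
    have hle : W₁ ≤ centralizer (A : Set G) := by
      refine CoprimeGen.le_of_pair_centralizers hpair
        (fun h => hp.out.one_lt.ne' (Nat.eq_one_of_dvd_coprimes hcop₁ h dvd_rfl)) fun e he he1 => ?_
      have heA : e ∈ A := CoprimeGen.pairSubgroup_le hc ha he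
      have heB : e ∉ B := by
        intro heB
        obtain ⟨i, j, hij⟩ := CoprimeGen.mem_pairSubgroup_iff.1 he
        rcases mem_zpowers_of_zpow (hAp c hc) i with h1 | h1
        · rw [h1, one_mul] at hij
          rcases mem_zpowers_of_zpow (hAp a ha) j with h2 | h2
          · exact he1 (hij.symm.trans h2)
          · exact haB (zpowers_le.2 (hij ▸ heB) h2)
        · refine hcB (zpowers_le.2 ?_ h1)
          have h3 : c ^ i = e * (a ^ j)⁻¹ := by rw [← hij, mul_inv_cancel_right]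
          rw [h3]
          exact mul_mem (mem_sup_left heB) (inv_mem (mem_sup_right (zpow_mem (mem_zpowers a) j)))
      rintro y ⟨hy, hye⟩
      refine mem_centralizer_iff.2 fun d hd => ?_
      by_contra hne'
      have := hBmax (B ⊔ zpowers e) ⟨sup_le hBA (zpowers_le.2 heA), d, hd, y, hy.1, ?_, hne'⟩
      · exact heB ((Subgroup.eq_of_le_of_card_ge le_sup_left this).symm ▸
          mem_sup_right (mem_zpowers e))
      · have hle' : B ⊔ zpowers e ≤ centralizer ({y} : Set G) := by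
          refine sup_le (fun b hb => mem_centralizer_singleton_iff.2 (mem_centralizer_iff.1 hy.2 b hb))
            (zpowers_le.2 (mem_centralizer_singleton_iff.2 ?_))
          exact (mem_centralizer_singleton_iff.1 hye).symm
        exact fun b hb => mem_centralizer_singleton_iff.1 (hle' hb)
    exact haw (mem_centralizer_iff.1 (hle hw₁) a ha)
  have hne₁ : {Q : Subgroup G | Q ≤ W₁ ∧ (∀ y ∈ Q, a * y * a⁻¹ ∈ Q) ∧
      ∃ y ∈ Q, a * y ≠ y * a}.Nonempty :=
    ⟨W₁, le_rfl, fun y hy => (mem_normalizer_iff.1 (hAW₁ ha) y).1 hy, w, hw₁, haw⟩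
  obtain ⟨Q, ⟨hQW, hQa, hQne⟩, hQmin⟩ := Set.exists_min_image _ (fun Q : Subgroup G => Nat.card Q)
    (Set.toFinite _) hne₁
  refine ⟨B, hBA, a, ha, haB, hgen, Q, hQW.trans inf_le_left,
    fun b hb y hy => mem_centralizer_iff.1 (hQW hy).2 b hb, ?_, hQne, fun Q' hle ha' hne' => ?_⟩
  · rw [hgen]
    refine sup_le (fun b hb => centralizer_le_normalizer _ (mem_centralizer_iff.2 fun y hy =>
      (mem_centralizer_iff.1 (hQW hy).2 b hb).symm)) (zpowers_le.2 ?_)
    have hmap : Q.map (MulAut.conj a).toMonoidHom = Q := by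
      refine Subgroup.eq_of_le_of_card_ge ?_
        (le_of_eq (Subgroup.card_map_of_injective (MulAut.conj a).injective).symm)
      rintro _ ⟨y, hy, rfl⟩
      exact hQa y hy
    rw [mem_normalizer_iff]
    intro y
    refine ⟨hQa y, fun hy => ?_⟩
    rw [← hmap] at hy
    obtain ⟨y', hy', e⟩ := hy
    simp only [MulEquiv.coe_toMonoidHom, MulAut.conj_apply, mul_left_inj, mul_right_inj] at e
    exact e ▸ hy'
  · exact Subgroup.eq_of_le_of_card_ge hle (hQmin Q' ⟨hle.trans hQW, ha', hne'⟩)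

/-- The main step, in terms of a homomorphism `π` whose kernel is a `p`-group. -/
theorem main_step {H : Type*} [Group H] [Finite H] (π : G →* H) (hπ : Function.Surjective π)
    (hker : IsPGroup p π.ker) {A : Subgroup G} (hA : IsPGroup p A)
    {B : Subgroup H} {a : H} (hBA : B ≤ A.map π) (ha : a ∈ A.map π) (haB : a ∉ B) (hap : a ^ p = 1)
    (hAgen : A.map π = B ⊔ zpowers a) (hAc : ∀ u ∈ A.map π, ∀ v ∈ A.map π, u * v = v * u)
    {Q : Subgroup H} (hQp : (Nat.card Q).Coprime p) (hBQ : ∀ b ∈ B, ∀ y ∈ Q, b * y = y * b)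
    (hAQ : A.map π ≤ normalizer (Q : Set H)) (hne : ∃ y ∈ Q, a * y ≠ y * a)
    (hmin : ∀ Q' : Subgroup H, Q' ≤ Q → (∀ y ∈ Q', a * y * a⁻¹ ∈ Q') → (∃ y ∈ Q', a * y ≠ y * a) →
        Q' = Q) :
    ∃ x : G, π x ∈ Q ∧
      x ∈ (Cfsg.pResidual p ↥(A ⊔ A.map (MulAut.conj x).toMonoidHom)).map
        (A ⊔ A.map (MulAut.conj x).toMonoidHom).subtype ∧
      (Cfsg.pResidual p ↥(A ⊔ A.map (MulAut.conj x).toMonoidHom)).map
        (A ⊔ A.map (MulAut.conj x).toMonoidHom).subtype ≤ Q.comap π ∧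
      ⁅(Cfsg.pResidual p ↥(A ⊔ A.map (MulAut.conj x).toMonoidHom)).map
        (A ⊔ A.map (MulAut.conj x).toMonoidHom).subtype, A⁆ =
        (Cfsg.pResidual p ↥(A ⊔ A.map (MulAut.conj x).toMonoidHom)).map
          (A ⊔ A.map (MulAut.conj x).toMonoidHom).subtype ∧
      (A ⊓ (Cfsg.pCore p ↥(A ⊔ A.map (MulAut.conj x).toMonoidHom)).map
        (A ⊔ A.map (MulAut.conj x).toMonoidHom).subtype).relIndex A = p ∧
      ⁅A ⊓ (Cfsg.pCore p ↥(A ⊔ A.map (MulAut.conj x).toMonoidHom)).map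
        (A ⊔ A.map (MulAut.conj x).toMonoidHom).subtype, A ⊔ A.map (MulAut.conj x).toMonoidHom⁆ ≤
        π.ker := by
  classical
  obtain ⟨a', ha', ea⟩ := ha
  -- facts about the images
  have hQnorm : ∀ u ∈ A.map π, ∀ y ∈ Q, u * y * u⁻¹ ∈ Q := fun u hu y hy =>
    (mem_normalizer_iff.1 (hAQ hu) y).1 hy
  have hdisj : ∀ u ∈ A.map π, u ∈ Q → u = 1 := by
    intro u hu hQu
    obtain ⟨k, hk⟩ := hA.map π ⟨u, hu⟩
    have hk' : u ^ p ^ k = 1 := congrArg Subtype.val hk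
    have h2 := orderOf_dvd_natCard (⟨u, hQu⟩ : Q)
    rw [← orderOf_coe] at h2
    exact orderOf_eq_one_iff.1
      (Nat.eq_one_of_dvd_coprimes (hQp.pow_right k) h2 (orderOf_dvd_of_pow_eq_one hk'))
  -- minimise over the lifts
  obtain ⟨x₀, ⟨hx₀Q, hx₀a⟩, hx₀min⟩ := Set.exists_min_image {x : G | π x ∈ Q ∧ a * π x ≠ π x * a}
    (fun x => Nat.card ↥(A ⊔ A.map (MulAut.conj x).toMonoidHom)) (Set.toFinite _) (by
      obtain ⟨y, hy, hay⟩ := hne
      obtain ⟨x, rfl⟩ := hπ y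
      exact ⟨x, hy, hay⟩)
  have hAL : ∀ x : G, ∀ u ∈ A, u ∈ A ⊔ A.map (MulAut.conj x).toMonoidHom := fun _ u hu => mem_sup_left hu
  -- `Q` lies in the image of `L`
  have hQim : ∀ x : G, π x ∈ Q → a * π x ≠ π x * a →
      Q ≤ (A ⊔ A.map (MulAut.conj x).toMonoidHom).map π := by
    intro x hx hxa
    set L := (A ⊔ A.map (MulAut.conj x).toMonoidHom).map π with hL
    have haL : a ∈ L := ⟨a', hAL x a' ha', ea⟩
    have haxL : π x * a * (π x)⁻¹ ∈ L :=
      ⟨x * a' * x⁻¹, mem_sup_right ⟨a', ha', rfl⟩, by simp [ea]⟩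
    set d := a * π x * a⁻¹ * (π x)⁻¹ with hd
    have hdL : d ∈ L := by
      rw [hd, show a * π x * a⁻¹ * (π x)⁻¹ = a * (π x * a * (π x)⁻¹)⁻¹ by group]
      exact L.mul_mem haL (L.inv_mem haxL)
    have hdQ : d ∈ Q := Q.mul_mem (hQnorm a ⟨a', ha', ea⟩ _ hx) (Q.inv_mem hx)
    have hD := hmin (Q ⊓ L) inf_le_left
      (fun y hy => ⟨hQnorm a ⟨a', ha', ea⟩ y hy.1, L.mul_mem (L.mul_mem haL hy.2) (L.inv_mem haL)⟩)
      ⟨d, ⟨hdQ, hdL⟩, fun hfix => by
        have hk : ∀ k : ℕ, a ^ k * π x * (a ^ k)⁻¹ = d ^ k * π x := by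
          intro k
          induction k with
          | zero => simp
          | succ k ihk =>
            rw [pow_succ', show a * a ^ k * π x * (a * a ^ k)⁻¹ = a * (a ^ k * π x * (a ^ k)⁻¹) * a⁻¹ by group,
              ihk, show a * (d ^ k * π x) * a⁻¹ = (a * d ^ k) * π x * a⁻¹ by group,
              ((show Commute a d from hfix).pow_right k).eq,
              show d ^ k * a * π x * a⁻¹ = d ^ k * (a * π x * a⁻¹ * (π x)⁻¹) * π x by group, ← hd,
              ← pow_succ]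
        have h5 := hk p
        rw [hap, one_mul, inv_one, mul_one] at h5
        have h6 : d ^ p = 1 := right_eq_mul.1 h5
        have h7 := orderOf_dvd_natCard (⟨d, hdQ⟩ : Q)
        rw [← orderOf_coe] at h7
        have h8 : d = 1 := orderOf_eq_one_iff.1
          (Nat.eq_one_of_dvd_coprimes hQp h7 (orderOf_dvd_of_pow_eq_one h6))
        exact hxa (mul_inv_eq_iff_eq_mul.1 (mul_inv_eq_one.1 h8))⟩
    exact inf_eq_left.1 hD
  have hres : ∀ x : G, π x ∈ Q → a * π x ≠ π x * a → ∀ y ∈ Q,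
      ∃ g ∈ (Cfsg.pResidual p ↥(A ⊔ A.map (MulAut.conj x).toMonoidHom)).map
        (A ⊔ A.map (MulAut.conj x).toMonoidHom).subtype, π g = y := by
    intro x hx hxa y hy
    obtain ⟨l, hl, rfl⟩ := hQim x hx hxa hy
    obtain ⟨k, hk⟩ := TransferPResidual.exists_pow_mem_pResidual (p := p)
      (⟨l, hl⟩ : ↥(A ⊔ A.map (MulAut.conj x).toMonoidHom))
    have hco : (orderOf (π l)).Coprime (p ^ k) := by
      refine Nat.Coprime.pow_right k (Nat.Coprime.coprime_dvd_left ?_ hQp)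
      have := orderOf_dvd_natCard (⟨π l, hy⟩ : Q)
      rwa [← orderOf_coe] at this
    obtain ⟨m, hm⟩ := exists_pow_eq_self_of_coprime hco.symm
    refine ⟨_, ⟨_, pow_mem hk m, rfl⟩, ?_⟩
    rw [Subgroup.coe_subtype, coe_pow, coe_pow, map_pow, map_pow]
    exact hm
  obtain ⟨x, hxmem, hxeq⟩ := hres x₀ hx₀Q hx₀a (π x₀) hx₀Q
  have hxL₀ : x ∈ A ⊔ A.map (MulAut.conj x₀).toMonoidHom := map_subtype_le _ hxmem
  have hxQ : π x ∈ Q := hxeq ▸ hx₀Q
  have hxa : a * π x ≠ π x * a := hxeq ▸ hx₀a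
  have hLeq : A ⊔ A.map (MulAut.conj x).toMonoidHom = A ⊔ A.map (MulAut.conj x₀).toMonoidHom := by
    refine Subgroup.eq_of_le_of_card_ge (sup_le le_sup_left ?_) (hx₀min x ⟨hxQ, hxa⟩)
    rintro _ ⟨u, hu, rfl⟩
    exact mul_mem (mul_mem hxL₀ (mem_sup_left hu)) (inv_mem hxL₀)
  have hxR : x ∈ (Cfsg.pResidual p ↥(A ⊔ A.map (MulAut.conj x).toMonoidHom)).map
      (A ⊔ A.map (MulAut.conj x).toMonoidHom).subtype := by
    rw [hLeq]; exact hxmem
  have hxim := hQim x hxQ hxa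
  have hgen := hxR
  refine ⟨x, hxQ, hxR, ?_⟩
  set L := A ⊔ A.map (MulAut.conj x).toMonoidHom with hL
  set R := (Cfsg.pResidual p ↥L).map L.subtype with hR
  -- the image of `L` lies in `Q A`
  have hLim : L.map π ≤ Q ⊔ A.map π := by
    rw [hL, Subgroup.map_sup]
    refine sup_le le_sup_right ?_
    rintro _ ⟨_, ⟨u, hu, rfl⟩, rfl⟩
    simp only [MulEquiv.coe_toMonoidHom, MulAut.conj_apply, map_mul, map_inv]
    exact mul_mem (mul_mem (mem_sup_left hxQ) (mem_sup_right ⟨u, hu, rfl⟩)) (inv_mem (mem_sup_left hxQ))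
  have hprod : ∀ v ∈ Q ⊔ A.map π, ∃ y ∈ Q, ∃ u ∈ A.map π, v = y * u := by
    intro v hv
    have h1 : (↑(Q ⊔ A.map π) : Set H) = (Q : Set H) * ((A.map π : Subgroup H) : Set H) :=
      Subgroup.coe_mul_of_right_le_normalizer_left Q (A.map π) hAQ
    rw [← SetLike.mem_coe, h1] at hv
    obtain ⟨y, hy, u, hu, e⟩ := Set.mem_mul.1 hv
    exact ⟨y, hy, u, hu, e.symm⟩
  have hRQ : R ≤ Q.comap π := by
    rw [hR, Subgroup.map_le_iff_le_comap]
    refine (Subgroup.closure_le _).2 fun g hg => ?_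
    change π (g : G) ∈ Q
    obtain ⟨y, hy, u, hu, e⟩ := hprod _ (hLim ⟨g, g.2, rfl⟩)
    have hn : ∀ n : ℕ, (y * u) ^ n * (u ^ n)⁻¹ ∈ Q := by
      intro n
      induction n with
      | zero => simp
      | succ n ihn =>
        rw [show (y * u) ^ (n + 1) * (u ^ (n + 1))⁻¹ = y * (u * ((y * u) ^ n * (u ^ n)⁻¹) * u⁻¹) by
          rw [pow_succ', pow_succ']; group]
        exact Q.mul_mem hy (hQnorm u hu _ ihn)
    have h1 := hn (orderOf g)
    rw [← e, ← map_pow, ← Subgroup.coe_pow, pow_orderOf_eq_one, coe_one, map_one, one_mul,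
      inv_mem_iff] at h1
    have h2 := hdisj _ (pow_mem hu _) h1
    obtain ⟨k, hk⟩ := hA.map π ⟨u, hu⟩
    have hk' : u ^ p ^ k = 1 := congrArg Subtype.val hk
    have hu1 : u = 1 := orderOf_eq_one_iff.1 (Nat.eq_one_of_dvd_coprimes
      ((show (orderOf g).Coprime p from hg).pow_right k)
      (orderOf_dvd_of_pow_eq_one h2) (orderOf_dvd_of_pow_eq_one hk'))
    rw [e, hu1, mul_one]
    exact hy
  have hcentral : ∀ b ∈ B, ∀ v ∈ L.map π, b * v = v * b := by
    intro b hb v hv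
    obtain ⟨y, hy, u, hu, rfl⟩ := hprod v (hLim hv)
    exact Commute.mul_right (hBQ b hb y hy) (hAc b (hBA hb) u hu)
  -- `A ∩ O_p(L)` is the preimage of `B` in `A`
  have hAcore : A ⊓ (Cfsg.pCore p ↥L).map L.subtype = A ⊓ B.comap π := by
    apply le_antisymm
    · rintro u ⟨hu, ⟨l, hl, rfl⟩⟩
      refine ⟨hu, ?_⟩
      change π (l : G) ∈ B
      have huA : π (l : G) ∈ A.map π := ⟨_, hu, rfl⟩
      have hcomm : ∀ y ∈ Q, π (l : G) * y = y * π (l : G) := by
        intro y hy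
        obtain ⟨k, hk, rfl⟩ := hxim hy
        have hc1 : π (l : G) * π k * (π (l : G))⁻¹ * (π k)⁻¹ ∈ Q :=
          Q.mul_mem (hQnorm _ huA _ hy) (Q.inv_mem hy)
        have hc2 : l * ⟨k, hk⟩ * l⁻¹ * ⟨k, hk⟩⁻¹ ∈ Cfsg.pCore p ↥L := by
          rw [show l * ⟨k, hk⟩ * l⁻¹ * ⟨k, hk⟩⁻¹ = l * (⟨k, hk⟩ * l⁻¹ * ⟨k, hk⟩⁻¹) by group]
          exact mul_mem hl ((HallCore.pCore_normal p ↥L).conj_mem _ (inv_mem hl) _)
        obtain ⟨j, hj⟩ := HallCore.isPGroup_pCore p ↥L ⟨_, hc2⟩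
        have hj' := congrArg (fun w : Cfsg.pCore p ↥L => π ((w : L) : G)) hj
        simp at hj'
        have h7 := orderOf_dvd_natCard (⟨_, hc1⟩ : Q)
        rw [← orderOf_coe] at h7
        exact mul_inv_eq_iff_eq_mul.1 (mul_inv_eq_one.1 (orderOf_eq_one_iff.1
          (Nat.eq_one_of_dvd_coprimes (hQp.pow_right j) h7 (orderOf_dvd_of_pow_eq_one hj'))))
      have hmem : π (l : G) ∈ B ⊔ zpowers a := hAgen ▸ huA
      have hBz : ((B ⊔ zpowers a : Subgroup H) : Set H) = (B : Set H) * ((zpowers a : Subgroup H) : Set H) := by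
        refine Subgroup.coe_mul_of_right_le_normalizer_left B (zpowers a) (zpowers_le.2 ?_)
        exact centralizer_le_normalizer _ (mem_centralizer_iff.2 fun b hb =>
          hAc b (hBA hb) a ⟨a', ha', ea⟩)
      rw [← SetLike.mem_coe, hBz] at hmem
      obtain ⟨b, hb, c, hc, e⟩ := Set.mem_mul.1 hmem
      obtain ⟨i, rfl⟩ := mem_zpowers_iff.1 hc
      rcases mem_zpowers_of_zpow hap i with h1 | h1
      · rw [← e, h1, mul_one]; exact hb
      · exfalso
        obtain ⟨y, hy, hay⟩ := hne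
        apply hay
        obtain ⟨m, hm⟩ := mem_zpowers_iff.1 h1
        have hci : a ^ i * y = y * a ^ i := by
          have hb' : b⁻¹ * y = y * b⁻¹ := (Commute.inv_left (hBQ b hb y hy)).eq
          rw [show a ^ i = b⁻¹ * π (l : G) by rw [← e]; group]
          exact Commute.mul_left hb' (hcomm y hy)
        rw [← hm]
        exact ((show Commute (a ^ i) y from hci).zpow_left m).eq
    · rintro u ⟨hu, hub⟩
      refine ⟨hu, ?_⟩
      set N := (B.comap π).subgroupOf L with hN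
      haveI : N.Normal := ⟨fun n hn g => by
        change π ((g : G) * n * (g : G)⁻¹) ∈ B
        rw [map_mul, map_mul, map_inv, ← hcentral (π ((n : L) : G)) hn _ ⟨g, g.2, rfl⟩, mul_inv_cancel_right]
        exact hn⟩
      have hBp : IsPGroup p B := (hA.map π).to_le hBA
      have hNp : IsPGroup p N :=
        (hBp.comap_of_ker_isPGroup π hker).of_injective
          (⟨⟨fun n => ⟨((n : L) : G), n.2⟩, rfl⟩, fun _ _ => rfl⟩ : N →* B.comap π)
          (fun n m h => Subtype.ext (Subtype.ext (congrArg Subtype.val h :)))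
      exact ⟨⟨u, hAL x u hu⟩, HallCore.le_pCore hNp hub, rfl⟩
  rw [hAcore]
  refine ⟨hRQ, ?_, ?_, ?_⟩
  · -- `[R, A] = R`
    have hRL : R ≤ L := map_subtype_le _
    have hRn : ∀ l ∈ L, ∀ r ∈ R, l * r * l⁻¹ ∈ R := by
      rintro l hl _ ⟨r, hr, rfl⟩
      refine ⟨⟨l, hl⟩ * r * ⟨l, hl⟩⁻¹, ?_, rfl⟩
      have hchar : (Cfsg.pResidual p ↥L).Normal := by
        refine ⟨fun n hn g => ?_⟩
        have := TransferPResidual.map_pResidual_le (p := p) (MulAut.conj g).toMonoidHom ⟨n, hn, rfl⟩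
        simpa using this
      exact hchar.conj_mem r hr _
    set N := ⁅R, A⁆ with hN
    have hNR : N ≤ R := by
      rw [hN, Subgroup.commutator_le]
      intro r hr u hu
      rw [commutatorElement_def, show r * u * r⁻¹ * u⁻¹ = r * (u * r⁻¹ * u⁻¹) by group]
      exact R.mul_mem hr (hRn u (hAL x u hu) _ (R.inv_mem hr))
    refine le_antisymm hNR ?_
    have hNn : ∀ l ∈ L, ∀ w ∈ N, l * w * l⁻¹ ∈ N := by
      have hRnorm : R ≤ normalizer (N : Set G) := Subgroup.normalizer_commutator_ge_left R A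
      have hAnorm : A ≤ normalizer (N : Set G) := Subgroup.normalizer_commutator_ge_right R A
      have hLn : L ≤ normalizer (N : Set G) := by
        refine sup_le hAnorm ?_
        rintro _ ⟨u, hu, rfl⟩
        exact mul_mem (mul_mem (hRnorm hxR) (hAnorm hu)) (inv_mem (hRnorm hxR))
      exact fun l hl w hw => (mem_normalizer_iff.1 (hLn hl) w).1 hw
    set N' := N.subgroupOf L with hN'
    haveI : N'.Normal := ⟨fun n hn g => hNn g g.2 n hn⟩
    have htop : (⊤ : Subgroup L).map (QuotientGroup.mk' N') = (A.subgroupOf L).map (QuotientGroup.mk' N') := by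
      refine le_antisymm ?_ (Subgroup.map_mono le_top)
      rintro _ ⟨⟨l, hl⟩, -, rfl⟩
      have : L ≤ (((A.subgroupOf L).map (QuotientGroup.mk' N')).comap (QuotientGroup.mk' N')).map L.subtype := by
        refine sup_le (fun u hu => ⟨⟨u, hAL x u hu⟩, ⟨_, hu, rfl⟩, rfl⟩) ?_
        rintro _ ⟨u, hu, rfl⟩
        refine ⟨⟨x * u * x⁻¹, mem_sup_right ⟨u, hu, rfl⟩⟩, ⟨⟨u, hAL x u hu⟩, hu, ?_⟩, rfl⟩
        rw [QuotientGroup.mk'_apply, QuotientGroup.mk'_apply, QuotientGroup.eq, mem_subgroupOf]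
        change u⁻¹ * (x * u * x⁻¹) ∈ N
        rw [show u⁻¹ * (x * u * x⁻¹) = u⁻¹ * (x * u * x⁻¹ * u⁻¹) * u by group]
        have h1 : x * u * x⁻¹ * u⁻¹ ∈ N := Subgroup.commutator_mem_commutator hxR hu
        have h2 := hNn u⁻¹ (L.inv_mem (hAL x u hu)) _ h1
        rwa [inv_inv] at h2
      obtain ⟨l', hl', e⟩ := this hl
      rw [show (⟨l, hl⟩ : L) = l' from Subtype.ext e.symm]
      exact hl'
    have hquot : IsPGroup p (L ⧸ N') := by
      have h1 : IsPGroup p ((A.subgroupOf L).map (QuotientGroup.mk' N')) :=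
        (hA.of_equiv (subgroupOfEquivOfLe le_sup_left).symm).map _
      rw [← htop, Subgroup.map_top_of_surjective _ (QuotientGroup.mk'_surjective N')] at h1
      exact h1.of_equiv Subgroup.topEquiv
    rintro _ ⟨r, hr, rfl⟩
    exact TransferPResidual.pResidual_le_of_isPGroup_quotient (N := N') hquot hr
  · rw [show (A ⊓ B.comap π).relIndex A = (B.comap π).relIndex A from by rw [inf_comm, inf_relIndex_right],
      relIndex_comap, hAgen]
    have hn : zpowers a ≤ normalizer (B : Set H) := zpowers_le.2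
      (centralizer_le_normalizer _ (mem_centralizer_iff.2 fun b hb => hAc b (hBA hb) a ⟨a', ha', ea⟩))
    have ha1 : a ≠ 1 := fun h => haB (h ▸ one_mem B)
    have h1 := OffendersReplace.card_sup_mul_card_inf (zpowers a) B hn
    have h2 : zpowers a ⊓ B = ⊥ := by
      rw [eq_bot_iff]
      rintro v ⟨hv, hvB⟩
      obtain ⟨i, rfl⟩ := mem_zpowers_iff.1 hv
      rcases mem_zpowers_of_zpow hap i with h | h
      · exact mem_bot.2 h
      · exact absurd (zpowers_le.2 hvB h) haB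
    rw [h2, Subgroup.card_bot, mul_one, sup_comm, Nat.card_zpowers, orderOf_eq_prime hap ha1] at h1
    have h3 := Subgroup.card_mul_index (B.subgroupOf (B ⊔ zpowers a))
    rw [Nat.card_congr (subgroupOfEquivOfLe (le_sup_left : B ≤ B ⊔ zpowers a)).toEquiv, h1,
      mul_comm p] at h3
    exact Nat.eq_of_mul_eq_mul_left Nat.card_pos h3
  · rw [Subgroup.commutator_le]
    rintro u ⟨-, hub⟩ l hl
    rw [MonoidHom.mem_ker, commutatorElement_def, map_mul, map_mul, map_mul, map_inv, map_inv,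
      hcentral _ hub _ ⟨l, hl, rfl⟩]
    group

/-- Let M be a finite p-soluble group and A a p-subgroup of M with Φ(A) ≤ O_p(M) but A ≰ O_p(M). Then there is x ∈ O_{p,p'}(M) such that L = ⟨A, xAx⁻¹⟩ satisfies: x ∈ O^p(L) and O^p(L) ≤ O_{p,p'}(M); [O^p(L), A] = O^p(L); A ∩ O_p(L) has index p in A; and [A ∩ O_p(L), L] ≤ O_p(M). Here O^p(L) is the subgroup generated by the p'-elements of L and O_{p,p'}(M) the preimage of O_{p'}(M/O_p(M)). -/
theorem result {M : Type*} [Group M] [Finite M] {p : ℕ} [Fact p.Prime] (hM : Cfsg.IsPSolvable p M) (A : Subgroup M) (hA : IsPGroup p A) (hΦ : (frattini ↥A).map A.subtype ≤ Cfsg.pCore p M) (hnot : ¬ A ≤ Cfsg.pCore p M) : ∃ x ∈ (Cfsg.pPrimeCore p (M ⧸ Cfsg.pCore p M)).comap (QuotientGroup.mk' (Cfsg.pCore p M)), x ∈ (Cfsg.pResidual p ↥(A ⊔ A.map (MulAut.conj x).toMonoidHom)).map (A ⊔ A.map (MulAut.conj x).toMonoidHom).subtype ∧ (Cfsg.pResidual p ↥(A ⊔ A.map (MulAut.conj x).toMonoidHom)).map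 (A ⊔ A.map (MulAut.conj x).toMonoidHom).subtype ≤ (Cfsg.pPrimeCore p (M ⧸ Cfsg.pCore p M)).comap (QuotientGroup.mk' (Cfsg.pCore p M)) ∧ ⁅(Cfsg.pResidual p ↥(A ⊔ A.map (MulAut.conj x).toMonoidHom)).map (A ⊔ A.map (MulAut.conj x).toMonoidHom).subtype, A⁆ = (Cfsg.pResidual p ↥(A ⊔ A.map (MulAut.conj x).toMonoidHom)).map (A ⊔ A.map (MulAut.conj x).toMonoidHom).subtype ∧ (A ⊓ (Cfsg.pCore p ↥(A ⊔ A.map (MulAut.conj x).toMonoidHom)).map (A ⊔ A.map (MulAut.conj x).toMonoidHom).subtype).relIndex A = p ∧ ⁅A ⊓ (Cfsg.pCore p ↥(A ⊔ A.map (MulAut.conj x).toMonoidHom)).map (A ⊔ A.map (MulAut.conj x).toMonoidHom).subtype, A ⊔ A.map (MulAut.conj x).toMonoidHom⁆ ≤ Cfsg.pCore p M := by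
  classical
  set O := Cfsg.pCore p M with hO
  set π := QuotientGroup.mk' O with hπ
  set W := Cfsg.pPrimeCore p (M ⧸ O) with hW
  have hWn : W.Normal := HallCore.pPrimeCore_normal p _
  have hOp : IsPGroup p O := HallCore.isPGroup_pCore p M
  have hker : IsPGroup p π.ker := by rw [hπ, QuotientGroup.ker_mk']; exact hOp
  have hfr : ∀ u : A, u ∈ frattini ↥A → π (u : M) = 1 := fun u hu =>
    (QuotientGroup.eq_one_iff _).2 (hΦ ⟨u, hu, rfl⟩)
  have hAp : ∀ u ∈ A.map π, u ^ p = 1 := by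
    rintro _ ⟨u, hu, rfl⟩
    rw [← map_pow]
    exact hfr (⟨u, hu⟩ ^ p) (PGroupsBasic.pow_mem_frattini hA ⟨u, hu⟩)
  have hAc : ∀ u ∈ A.map π, ∀ v ∈ A.map π, u * v = v * u := by
    rintro _ ⟨u, hu, rfl⟩ _ ⟨v, hv, rfl⟩
    have h1 := hfr ⁅(⟨u, hu⟩ : A), ⟨v, hv⟩⁆ (PGroupsBasic.commutator_le_frattini hA
      (Subgroup.commutator_mem_commutator (Subgroup.mem_top _) (Subgroup.mem_top _)))
    simp only [commutatorElement_def, Subgroup.coe_mul, Subgroup.coe_inv, map_mul, map_inv] at h1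
    exact mul_inv_eq_iff_eq_mul.1 (mul_inv_eq_one.1 h1)
  have hWcop : (Nat.card W).Coprime p := HallCore.coprime_card_pPrimeCore p _
  have hcon : Subgroup.centralizer (W : Set (M ⧸ O)) ≤ W := by
    have hsep := ((HallSolvable.isPSolvable_iff p).mp (HallSolvable.isPSolvable_quotient hM O)).compl
    have h := HallSolvable.centralizer_piCore_le hsep (by
      rw [compl_compl, ← HallCore.pCore_eq_piCore]; exact HallCore.pCore_quotient_self p M)
    rwa [← HallCore.pPrimeCore_eq_piCore] at h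
  have hne : ∃ a ∈ A.map π, ∃ w ∈ W, a * w ≠ w * a := by
    by_contra hall
    push Not at hall
    apply hnot
    intro u hu
    have h1 : π u ∈ W := hcon (Subgroup.mem_centralizer_iff.2 fun w hw => (hall _ ⟨u, hu, rfl⟩ w hw).symm)
    have h2 : π u = 1 := by
      have h3 := orderOf_dvd_natCard (⟨π u, h1⟩ : W)
      rw [← Subgroup.orderOf_coe] at h3
      exact orderOf_eq_one_iff.1 (Nat.eq_one_of_dvd_coprimes hWcop h3
        (orderOf_dvd_of_pow_eq_one (hAp _ ⟨u, hu, rfl⟩)))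
    exact (QuotientGroup.eq_one_iff u).1 h2
  obtain ⟨B, hBA, a, ha, haB, hgen, Q, hQW, hBQ, hAQ, hQne, hmin⟩ :=
    exists_minimal hAc hAp (fun u _ => by rw [Subgroup.normalizer_eq_top W]; exact Subgroup.mem_top u)
      hWcop hne
  obtain ⟨x, hxQ, hxR, hR, hcomm, hidx, hcen⟩ := main_step π (QuotientGroup.mk'_surjective O) hker hA
    hBA ha haB (hAp a ha) hgen hAc (Nat.Coprime.coprime_dvd_left (Subgroup.card_dvd_of_le hQW) hWcop)
    hBQ hAQ hQne hmin
  exact ⟨x, hQW hxQ, hxR, hR.trans (Subgroup.comap_mono hQW), hcomm, hidx,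
    hcen.trans (le_of_eq (QuotientGroup.ker_mk' O))⟩

end Cfsg.Agent.S3754
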