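import Mathlib
import Cfsg.Statements.S3755
import Cfsg.Agent.Lib.CoprimeGen
import Cfsg.Agent.Lib.ComponentsCores
import Cfsg.Agent.Lib.OffendersReplace
import Cfsg.Agent.Lib.HallCore
-- import your own Cfsg.Agent.* helpers here

set_option autoImplicit false
open Cfsg

namespace Cfsg.Agent.S3755

open Subgroup

variable {X : Type*} [Group X] [Finite X]

/-- An element of order three inverted by an involution generates with it a symmetric group. -/
theorem involves_perm_three {M : Subgroup X} {x a : X} (hx : x ∈ M) (ha : a ∈ M) (hx3 : x ^ 3 = 1)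
    (hx1 : x ≠ 1) (ha2 : a * a = 1) (ha1 : a ≠ 1) (hinv : a * x * a⁻¹ = x⁻¹) :
    Cfsg.Involves (Equiv.Perm (Fin 3)) ↥M := by
  classical
  set x' : M := ⟨x, hx⟩ with hx'
  set a' : M := ⟨a, ha⟩ with ha'
  have ox : orderOf x' = 3 := orderOf_eq_prime (Subtype.ext (by simpa using hx3))
    (fun e => hx1 (congrArg Subtype.val e))
  have oa : orderOf a' = 2 := orderOf_eq_prime (Subtype.ext (by simpa [pow_two] using ha2))
    (fun e => ha1 (congrArg Subtype.val e))
  have hinv' : a' * x' * a'⁻¹ = x'⁻¹ := Subtype.ext (by simpa using hinv)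
  set K : Subgroup M := zpowers x' ⊔ zpowers a' with hK
  set x'' : K := ⟨x', mem_sup_left (mem_zpowers x')⟩ with hx''
  set a'' : K := ⟨a', mem_sup_right (mem_zpowers a')⟩ with ha''
  have hnorm : zpowers a' ≤ normalizer (zpowers x' : Set M) := by
    rw [zpowers_le, mem_normalizer_iff]
    have hai : a' * a' = 1 := Subtype.ext (by simpa using ha2)
    have key : ∀ h : M, h ∈ zpowers x' → a' * h * a'⁻¹ ∈ zpowers x' := by
      rintro _ ⟨k, rfl⟩
      refine ⟨-k, ?_⟩
      change x' ^ (-k) = a' * x' ^ k * a'⁻¹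
      rw [← conj_zpow, hinv', inv_zpow']
    intro h
    refine ⟨key h, fun hh => ?_⟩
    have h2 := key _ hh
    rwa [show a' * (a' * h * a'⁻¹) * a'⁻¹ = (a' * a') * h * (a' * a')⁻¹ by group, hai, one_mul,
      inv_one, mul_one] at h2
  haveI : ((zpowers x').subgroupOf K).Normal :=
    normal_subgroupOf_of_le_normalizer (sup_le le_normalizer hnorm)
  have hcardK : Nat.card K = 6 := by
    have h1 := OffendersReplace.card_sup_mul_card_inf (zpowers a') (zpowers x') hnorm
    have h2 : zpowers a' ⊓ zpowers x' = ⊥ := by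
      refine Subgroup.inf_eq_bot_of_coprime ?_
      rw [Nat.card_zpowers, Nat.card_zpowers, ox, oa]
      norm_num
    rw [h2, Subgroup.card_bot, mul_one, Nat.card_zpowers, Nat.card_zpowers, ox, oa,
      sup_comm] at h1
    rw [hK, h1]
  set A₀ : Subgroup K := zpowers a'' with hA₀
  have oa'' : orderOf a'' = 2 := by rw [← orderOf_coe, ← oa]
  have hidx : A₀.index = 3 := by
    have := A₀.card_mul_index
    rw [hA₀, Nat.card_zpowers, oa'', hcardK] at this
    rw [hA₀]
    omega
  let f : K →* Equiv.Perm (K ⧸ A₀) := MulAction.toPermHom K (K ⧸ A₀)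
  have hker : f.ker = ⊥ := by
    rw [eq_bot_iff]
    intro k hk
    have hk' : k ∈ A₀.normalCore := by rwa [normalCore_eq_ker]
    have hkA : k ∈ zpowers a'' := normalCore_le A₀ hk'
    obtain ⟨i, rfl⟩ := mem_zpowers_iff.1 hkA
    have hsq : a'' ^ (2 : ℤ) = 1 := by
      rw [show (2 : ℤ) = ((2 : ℕ) : ℤ) from rfl, zpow_natCast, ← oa'', pow_orderOf_eq_one]
    rcases Int.even_or_odd i with ⟨j, rfl⟩ | ⟨j, rfl⟩
    · rw [mem_bot, ← two_mul, zpow_mul, hsq, one_zpow]
    · exfalso
      rw [zpow_add, zpow_mul, hsq, one_zpow, one_mul, zpow_one] at hk'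
      have h2 := normalCore_le A₀ ((inferInstance : A₀.normalCore.Normal).conj_mem _ hk' x'')
      obtain ⟨l, hl⟩ := mem_zpowers_iff.1 h2
      rcases Int.even_or_odd l with ⟨j', rfl⟩ | ⟨j', rfl⟩
      · rw [← two_mul, zpow_mul, hsq, one_zpow] at hl
        have : a'' = 1 := conj_eq_one_iff.1 hl.symm
        rw [this, orderOf_one] at oa''
        omega
      · rw [zpow_add, zpow_mul, hsq, one_zpow, one_mul, zpow_one] at hl
        have hl' : a = x * a * x⁻¹ := congrArg (fun w : K => ((w : M) : X)) hl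
        have e1 : a * x = x * a := mul_inv_eq_iff_eq_mul.1 hl'.symm |>.symm
        rw [e1, mul_inv_cancel_right] at hinv
        have : x ^ 2 = 1 := by rw [pow_two]; nth_rw 2 [hinv]; exact mul_inv_cancel x
        apply hx1
        calc x = x ^ 3 * (x ^ 2)⁻¹ := by group
          _ = 1 := by rw [hx3, this, inv_one, mul_one]
  have hcard3 : Nat.card (K ⧸ A₀) = 3 := hidx
  haveI : Finite (K ⧸ A₀) := inferInstance
  let e : K ⧸ A₀ ≃ Fin 3 := (Finite.equivFinOfCardEq hcard3)
  let g : K →* Equiv.Perm (Fin 3) := (Equiv.permCongrHom e).toMonoidHom.comp f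
  have hginj : Function.Injective g :=
    (Equiv.permCongrHom e).injective.comp ((MonoidHom.ker_eq_bot_iff f).1 hker)
  have hbij : Function.Bijective g := by
    refine (Nat.bijective_iff_injective_and_card g).2 ⟨hginj, ?_⟩
    rw [hcardK, Nat.card_perm, Nat.card_fin]
    rfl
  have hnb : ((⊥ : Subgroup M).subgroupOf K).Normal := by rw [bot_subgroupOf]; infer_instance
  exact ⟨K, ⊥, hnb, ⟨((QuotientGroup.quotientMulEquivOfEq (bot_subgroupOf K)).trans
    QuotientGroup.quotientBot).trans (MulEquiv.ofBijective g hbij)⟩⟩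

/-- Either `|V : C_V(A)| ≥ |A|²`, or `M` involves the symmetric group of degree three. -/
theorem card_ineq {M V W : Subgroup X} (hVc : ∀ u ∈ V, ∀ v ∈ V, u * v = v * u)
    (hV2 : ∀ u ∈ V, u * u = 1) (hMV : M ≤ normalizer (V : Set X))
    (hfaith : M ⊓ centralizer (V : Set X) = ⊥) (hWM : W ≤ M) (hW : Odd (Nat.card W))
    (hMW : M ≤ normalizer (W : Set X)) (hcon : M ⊓ centralizer (W : Set X) ≤ W)
    (hno : ¬ Cfsg.Involves (Equiv.Perm (Fin 3)) ↥M) :
    ∀ (n : ℕ) (A : Subgroup X), Nat.card A ≤ n → A ≤ M → (∀ u ∈ A, ∀ v ∈ A, u * v = v * u) →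
      (∀ u ∈ A, u * u = 1) →
      Nat.card A ^ 2 * Nat.card ↥(V ⊓ centralizer (A : Set X)) ≤ Nat.card V := by
  classical
  haveI : Fact (Nat.Prime 2) := ⟨Nat.prime_two⟩
  intro n
  induction n with
  | zero => intro A hA; exact absurd hA (by have := Nat.card_pos (α := A); omega)
  | succ n ih =>
    intro A hAn hAM hAc hA2
    by_cases hA1 : A = ⊥
    · subst hA1
      rw [Subgroup.card_bot, one_pow, one_mul]
      exact Nat.le_of_dvd Nat.card_pos (Subgroup.card_dvd_of_le inf_le_left)
    -- choose `B`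
    obtain ⟨a₀, ha₀, ha₀1⟩ : ∃ a ∈ A, a ≠ 1 := (Subgroup.ne_bot_iff_exists_ne_one.1 hA1).elim
      fun a ha => ⟨a, a.2, fun e => ha (Subtype.ext e)⟩
    have hne : ∃ w ∈ W, a₀ * w ≠ w * a₀ := by
      by_contra hall
      push Not at hall
      have h1 : a₀ ∈ W := hcon ⟨hAM ha₀, mem_centralizer_iff.2 fun w hw => (hall w hw).symm⟩
      have h2 := orderOf_dvd_natCard (⟨a₀, h1⟩ : W)
      rw [← orderOf_coe, orderOf_eq_prime (by rw [pow_two]; exact hA2 a₀ ha₀) ha₀1] at h2
      exact Nat.not_even_iff_odd.2 hW (even_iff_two_dvd.2 h2)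
    obtain ⟨B, ⟨hBA, a, ha, w, hw, hwB, haw⟩, hBmax⟩ := Set.exists_max_image
      {B : Subgroup X | B ≤ A ∧ ∃ a ∈ A, ∃ w ∈ W, (∀ b ∈ B, b * w = w * b) ∧ a * w ≠ w * a}
      (fun B => Nat.card B) (Set.toFinite _) ⟨⊥, bot_le, by
        obtain ⟨w, hw, h⟩ := hne
        exact ⟨a₀, ha₀, w, hw, by simp, h⟩⟩
    have haB : a ∉ B := fun h => haw (hwB a h)
    set W₁ := W ⊓ centralizer (B : Set X) with hW₁
    have hw₁ : w ∈ W₁ := ⟨hw, mem_centralizer_iff.2 hwB⟩
    have hAW₁ : A ≤ normalizer (W₁ : Set X) :=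
      CoprimeAction.le_normalizer_inf (hAM.trans hMW) fun x hx =>
        le_normalizer (show x ∈ centralizer (B : Set X) from fun b hb => hAc b (hBA hb) x hx)
    have hAgen : ∀ c ∈ A, c ∈ B ∨ c * a⁻¹ ∈ B := by
      intro c hc
      by_contra hcB
      obtain ⟨hc1, hc2⟩ := not_or.1 hcB
      have hai : a⁻¹ = a := inv_eq_of_mul_eq_one_right (hA2 a ha)
      have hpair : CoprimeGen.IsPairAction 2 c a W₁ := by
        refine ⟨hAc c hc a ha, by rw [pow_two, hA2 c hc], by rw [pow_two, hA2 a ha],
          fun h => haB (h ▸ one_mem B), ?_, hAW₁ hc, hAW₁ ha⟩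
        intro h
        obtain ⟨k, hk⟩ := mem_zpowers_iff.1 h
        rcases Int.even_or_odd k with ⟨j, rfl⟩ | ⟨j, rfl⟩
        · rw [← two_mul, zpow_mul, zpow_two, hA2 a ha, one_zpow] at hk
          exact hc1 (hk ▸ one_mem B)
        · rw [zpow_add, zpow_mul, zpow_two, hA2 a ha, one_zpow, one_mul, zpow_one] at hk
          exact hc2 (by rw [← hk, mul_inv_cancel]; exact one_mem B)
      have hodd : ¬ 2 ∣ Nat.card W₁ := fun h =>
        Nat.not_even_iff_odd.2 hW (even_iff_two_dvd.2 (h.trans (Subgroup.card_dvd_of_le inf_le_left)))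
      have hle : W₁ ≤ centralizer (A : Set X) := by
        refine CoprimeGen.le_of_pair_centralizers hpair hodd fun e he he1 => ?_
        have heA : e ∈ A := CoprimeGen.pairSubgroup_le hc ha he
        have heB : e ∉ B := by
          intro heB
          obtain ⟨i, j, hij⟩ := CoprimeGen.mem_pairSubgroup_iff.1 he
          have hpow : ∀ u ∈ A, ∀ k : ℤ, u ^ k = 1 ∨ u ^ k = u := by
            intro u hu k
            rcases Int.even_or_odd k with ⟨j, rfl⟩ | ⟨j, rfl⟩
            · exact Or.inl (by rw [← two_mul, zpow_mul, zpow_two, hA2 u hu, one_zpow])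
            · exact Or.inr (by rw [zpow_add, zpow_mul, zpow_two, hA2 u hu, one_zpow, one_mul, zpow_one])
          rcases hpow c hc i with e1 | e1 <;> rcases hpow a ha j with e2 | e2 <;> rw [e1, e2] at hij
          · exact he1 (by rw [← hij, mul_one])
          · exact haB (by rw [one_mul] at hij; exact hij ▸ heB)
          · exact hc1 (by rw [mul_one] at hij; exact hij ▸ heB)
          · exact hc2 (by rw [hai, hij]; exact heB)
        rintro y ⟨hy, hye⟩
        refine mem_centralizer_iff.2 fun d hd => ?_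
        by_contra hne'
        have := hBmax (B ⊔ zpowers e) ⟨sup_le hBA (zpowers_le.2 heA), d, hd, y, hy.1, ?_, hne'⟩
        · exact heB ((Subgroup.eq_of_le_of_card_ge le_sup_left this).symm ▸
            mem_sup_right (mem_zpowers e))
        · have hle' : B ⊔ zpowers e ≤ centralizer ({y} : Set X) := by
            refine sup_le (fun b hb => mem_centralizer_singleton_iff.2 (mem_centralizer_iff.1 hy.2 b hb))
              (zpowers_le.2 (mem_centralizer_singleton_iff.2 ?_))
            exact (mem_centralizer_singleton_iff.1 hye).symm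
          exact fun b hb => mem_centralizer_singleton_iff.1 (hle' hb)
      exact haw (mem_centralizer_iff.1 (hle hw₁) a ha)
    -- an element of odd prime order inverted by `a`
    have hai : a⁻¹ = a := inv_eq_of_mul_eq_one_right (hA2 a ha)
    set y := a * w * a⁻¹ * w⁻¹ with hy
    have hy₁ : y ∈ W₁ := mul_mem ((mem_normalizer_iff.1 (hAW₁ ha) w).1 hw₁) (inv_mem hw₁)
    have hy1 : y ≠ 1 := fun h => haw (mul_inv_eq_iff_eq_mul.1 (mul_inv_eq_one.1 h))
    have hya : a * y * a⁻¹ = y⁻¹ := by
      rw [hy, hai]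
      calc a * (a * w * a * w⁻¹) * a = (a * a) * w * a * w⁻¹ * a := by group
        _ = w * a⁻¹ * w⁻¹ * a⁻¹ := by rw [hA2 a ha, one_mul, hai]
        _ = (a * w * a * w⁻¹)⁻¹ := by group
    set q := (orderOf y).minFac with hq
    have hqp : q.Prime := Nat.minFac_prime (fun h => hy1 (orderOf_eq_one_iff.1 h))
    set x := y ^ (orderOf y / q) with hx
    have hxq : orderOf x = q := orderOf_pow_orderOf_div (orderOf_pos y).ne' (Nat.minFac_dvd _)
    have hx₁ : x ∈ W₁ := pow_mem hy₁ _
    have hx1 : x ≠ 1 := fun h => hqp.ne_one (by rw [← hxq, h, orderOf_one])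
    have hxa : a * x * a⁻¹ = x⁻¹ := by rw [hx, ← conj_pow, hya, inv_pow]
    have hxM : x ∈ M := hWM hx₁.1
    have hq2 : q ≠ 2 := by
      intro h2
      have h3 := orderOf_dvd_natCard (⟨x, hx₁.1⟩ : W)
      rw [← orderOf_coe, hxq, h2] at h3
      exact Nat.not_even_iff_odd.2 hW (even_iff_two_dvd.2 h3)
    have hq3 : q ≠ 3 := by
      intro h3
      refine hno (involves_perm_three hxM (hAM ha) ?_ hx1 (hA2 a ha) (fun h => haB (h ▸ one_mem B)) hxa)
      rw [← h3, ← hxq]
      exact pow_orderOf_eq_one x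
    have hq5 : 4 < q := by
      have := hqp.two_le
      have h4 : q ≠ 4 := fun h => by rw [h] at hqp; exact absurd hqp (by norm_num)
      omega
    have hxB : ∀ b ∈ B, b * x = x * b := mem_centralizer_iff.1 hx₁.2
    -- `x` moves `C_V(B)`
    set U := V ⊓ centralizer (B : Set X) with hU
    set UA := V ⊓ centralizer (A : Set X) with hUA
    have hnV : ∀ m ∈ M, ∀ v ∈ V, m * v * m⁻¹ ∈ V := fun m hm v hv =>
      (mem_normalizer_iff.1 (hMV hm) v).1 hv
    have hnU : ∀ m ∈ M, (∀ b ∈ B, b * m = m * b) → ∀ v ∈ U, m * v * m⁻¹ ∈ U := by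
      intro m hm hmB v hv
      exact ⟨hnV m hm v hv.1, mem_centralizer_iff.2 fun b hb =>
        (Commute.mul_right (Commute.mul_right (hmB b hb) (mem_centralizer_iff.1 hv.2 b hb))
          (Commute.inv_right (hmB b hb))).eq⟩
    obtain ⟨t, htU, htx⟩ : ∃ t ∈ U, x * t ≠ t * x := by
      have hmove : ∃ v ∈ V, x * v ≠ v * x := by
        by_contra hall
        push Not at hall
        have hmem : x ∈ M ⊓ centralizer (V : Set X) := ⟨hxM, mem_centralizer_iff.2 fun v hv => (hall v hv).symm⟩
        rw [hfaith, mem_bot] at hmem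
        exact hx1 hmem
      obtain ⟨v, hv, hvx⟩ := hmove
      let φ : V →* X :=
        { toFun := fun v => x * v * x⁻¹ * (v : X)⁻¹
          map_one' := by simp
          map_mul' := fun u v => by
            have h1 := hVc _ (hnV x hxM v v.2) _ (V.inv_mem u.2)
            simp only [coe_mul, mul_inv_rev]
            calc x * ((u : X) * v) * x⁻¹ * ((v : X)⁻¹ * (u : X)⁻¹)
                = (x * u * x⁻¹) * ((x * v * x⁻¹) * ((v : X)⁻¹ * (u : X)⁻¹)) := by group
              _ = (x * u * x⁻¹) * ((x * v * x⁻¹) * ((u : X)⁻¹ * (v : X)⁻¹)) := by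
                rw [hVc _ (V.inv_mem v.2) _ (V.inv_mem u.2)]
              _ = (x * u * x⁻¹) * (((u : X)⁻¹ * (x * v * x⁻¹)) * (v : X)⁻¹) := by
                rw [← mul_assoc (x * v * x⁻¹), h1]
              _ = _ := by group }
      set R := φ.range with hR
      have hRV : R ≤ V := by
        rintro _ ⟨u, rfl⟩
        exact V.mul_mem (hnV x hxM u u.2) (V.inv_mem u.2)
      have hRfix : ∀ b ∈ B, ∀ r ∈ R, b * r * b⁻¹ ∈ R := by
        rintro b hb _ ⟨u, rfl⟩
        refine ⟨⟨b * u * b⁻¹, hnV b (hAM (hBA hb)) u u.2⟩, ?_⟩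
        change x * (b * u * b⁻¹) * x⁻¹ * (b * u * b⁻¹)⁻¹ = b * (x * u * x⁻¹ * (u : X)⁻¹) * b⁻¹
        calc x * (b * u * b⁻¹) * x⁻¹ * (b * u * b⁻¹)⁻¹
            = (x * b) * u * (x * b)⁻¹ * (b * (u : X)⁻¹ * b⁻¹) := by group
          _ = (b * x) * u * (b * x)⁻¹ * (b * (u : X)⁻¹ * b⁻¹) := by rw [hxB b hb]
          _ = _ := by group
      letI : MulAction B R :=
        { smul := fun b r => ⟨b * r * (b : X)⁻¹, hRfix b b.2 r r.2⟩
          one_smul := fun r => Subtype.ext (by change (1 : X) * r * (1 : X)⁻¹ = r; simp)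
          mul_smul := fun b c r => Subtype.ext (by
            change (b * c : X) * r * (b * c : X)⁻¹ = b * (c * r * (c : X)⁻¹) * (b : X)⁻¹
            group) }
      have hBp : IsPGroup 2 B := fun b => ⟨1, Subtype.ext (by simpa [pow_two] using hA2 b (hBA b.2))⟩
      have hRne : (⟨_, ⟨⟨v, hv⟩, rfl⟩⟩ : R) ≠ 1 := fun h =>
        hvx (mul_inv_eq_iff_eq_mul.1 (mul_inv_eq_one.1 (congrArg Subtype.val h)))
      have h2R : 2 ∣ Nat.card R := by
        have hp : IsPGroup 2 R := fun r => ⟨1, Subtype.ext (by simpa [pow_two] using hV2 r (hRV r.2))⟩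
        obtain ⟨k, hk⟩ := hp.exists_card_eq
        have : 1 < Nat.card R := Finite.one_lt_card_iff_nontrivial.2 ⟨_, _, hRne⟩
        rw [hk] at this ⊢
        exact dvd_pow_self 2 (by rintro rfl; simp at this)
      obtain ⟨r, hr, hr1⟩ := hBp.exists_fixed_point_of_prime_dvd_card_of_fixed_point R h2R
        (a := (1 : R)) (MulAction.mem_fixedPoints.2 fun b => Subtype.ext (by
          change (b : X) * 1 * (b : X)⁻¹ = 1
          simp))
      refine ⟨r, ⟨hRV r.2, mem_centralizer_iff.2 fun b hb =>
        mul_inv_eq_iff_eq_mul.1 (congrArg Subtype.val (MulAction.mem_fixedPoints.1 hr ⟨b, hb⟩))⟩, ?_⟩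
      intro hfix
      obtain ⟨u, hu⟩ := r.2
      have e1 : x * (u : X) * x⁻¹ = (r : X) * u := by rw [← hu]; simp [φ]
      have hk : ∀ k : ℕ, x ^ k * (u : X) * (x ^ k)⁻¹ = (r : X) ^ k * u := by
        intro k
        induction k with
        | zero => simp
        | succ k ihk =>
          rw [pow_succ', show x * x ^ k * (u : X) * (x * x ^ k)⁻¹ = x * (x ^ k * (u : X) * (x ^ k)⁻¹) * x⁻¹ by group,
            ihk, show x * ((r : X) ^ k * u) * x⁻¹ = (x * (r : X) ^ k) * u * x⁻¹ by group,
            ((show Commute x (r : X) from hfix).pow_right k).eq,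
            show (r : X) ^ k * x * u * x⁻¹ = (r : X) ^ k * (x * u * x⁻¹) by group, e1, ← mul_assoc,
            ← pow_succ]
      have h5 := hk q
      rw [← hxq, pow_orderOf_eq_one, one_mul, inv_one, mul_one, hxq] at h5
      obtain ⟨m, hm⟩ := hqp.odd_of_ne_two hq2
      rw [hm, pow_add, pow_one, pow_mul, pow_two, hV2 r (hRV r.2), one_pow, one_mul] at h5
      exact hr1 (Subtype.ext (right_eq_mul.1 h5).symm)
    have htx' : x ∈ M := hxM
    -- `C_U(a) = C_V(A)` has index at least four in `U`
    have hUAU : UA ≤ U := inf_le_inf_left V (centralizer_le hBA)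
    have hUAa : ∀ v ∈ U, a * v = v * a → v ∈ UA := by
      intro v hv hav
      refine ⟨hv.1, mem_centralizer_iff.2 fun c hc => ?_⟩
      rcases hAgen c hc with h | h
      · exact mem_centralizer_iff.1 hv.2 c h
      · have e : c = (c * a⁻¹) * a := by group
        rw [e]
        exact Commute.mul_left (mem_centralizer_iff.1 hv.2 _ h) hav
    have hidx : 4 * Nat.card UA ≤ Nat.card U := by
      by_contra hlt
      push Not at hlt
      have hdiv := Subgroup.card_mul_index (UA.subgroupOf U)
      rw [Nat.card_congr (subgroupOfEquivOfLe hUAU).toEquiv] at hdiv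
      have hpU : IsPGroup 2 U := fun u => ⟨1, Subtype.ext (by simpa [pow_two] using hV2 u u.2.1)⟩
      obtain ⟨k, hk⟩ := hpU.index (UA.subgroupOf U)
      have hk2 : (UA.subgroupOf U).index ≤ 2 := by
        rcases k with _ | _ | k
        · rw [hk]; norm_num
        · rw [hk]; norm_num
        · exfalso
          have : 4 ≤ (UA.subgroupOf U).index := by
            rw [hk, pow_succ, pow_succ]; have := Nat.one_le_two_pow (n := k); omega
          nlinarith
      -- `x²` fixes a subgroup of index at most four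
      set a' := x * a * x⁻¹ with ha'
      have hax : a' * a = x * x := by
        rw [ha']
        calc x * a * x⁻¹ * a = x * (a * x⁻¹ * a⁻¹) * (a * a) := by group
          _ = x * (a * x * a⁻¹)⁻¹ * (a * a) := by group
          _ = x * x := by rw [hxa, inv_inv, hA2 a ha, mul_one]
      have haM : ∀ b ∈ B, b * a = a * b := fun b hb => hAc b (hBA hb) a ha
      have ha'B : ∀ b ∈ B, b * a' = a' * b := fun b hb =>
        (Commute.mul_right (Commute.mul_right (hxB b hb) (haM b hb)) (Commute.inv_right (hxB b hb))).eq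
      set C := U ⊓ centralizer ({x * x} : Set X) with hC
      set UA' := UA.map (MulAut.conj x).toMonoidHom with hUA'
      have hsub : UA ⊓ UA' ≤ C := by
        rintro v ⟨hv, v', hv', rfl⟩
        refine ⟨hUAU hv, mem_centralizer_singleton_iff.2 ?_⟩
        rw [← hax]
        have h1 : a * v' = v' * a := mem_centralizer_iff.1 hv'.2 a ha
        simp only [MulEquiv.coe_toMonoidHom, MulAut.conj_apply] at hv ⊢
        have h2 : a' * (x * v' * x⁻¹) = x * v' * x⁻¹ * a' := by
          calc a' * (x * v' * x⁻¹) = x * (a * v') * x⁻¹ := by rw [ha']; group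
            _ = _ := by rw [h1, ha']; group
        exact (Commute.mul_left h2 (mem_centralizer_iff.1 hv.2 a ha)).eq.symm
      have hU'U : UA' ≤ U := by
        rintro _ ⟨v, hv, rfl⟩
        exact hnU x hxM hxB v (hUAU hv)
      have hidx4 : (C.subgroupOf U).index ≤ 4 := by
        have h1 : C.relIndex U ≤ (UA ⊓ UA').relIndex U :=
          Nat.le_of_dvd (Nat.pos_of_ne_zero Subgroup.index_ne_zero_of_finite)
            (relIndex_dvd_of_le_left U hsub)
        have h2 := relIndex_inf_le (H := UA) (K := UA') (L := U)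
        have h3 : UA'.relIndex U = UA.relIndex U := by
          have e : U.map (MulAut.conj x).toMonoidHom = U := by
            refine Subgroup.eq_of_le_of_card_ge ?_
              (le_of_eq (Subgroup.card_map_of_injective (MulAut.conj x).injective).symm)
            rintro _ ⟨v, hv, rfl⟩
            exact hnU x hxM hxB v hv
          conv_lhs => rw [← e]
          exact relIndex_map_map_of_injective _ _ (MulAut.conj x).injective
        rw [h3] at h2
        have hk2' : UA.relIndex U ≤ 2 := hk2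
        calc C.relIndex U ≤ UA.relIndex U * UA.relIndex U := h1.trans h2
          _ ≤ 2 * 2 := Nat.mul_le_mul hk2' hk2'
      -- the orbit of a moved coset
      have hxx : orderOf (x * x) = q := by
        rw [← pow_two, orderOf_pow' x two_ne_zero, hxq,
          Nat.coprime_iff_gcd_eq_one.1 ((Nat.coprime_primes hqp Nat.prime_two).2 hq2), Nat.div_one]
      set s := x * x with hs
      have hsM : s ∈ M := M.mul_mem hxM hxM
      have hsB : ∀ b ∈ B, b * s = s * b := fun b hb => (Commute.mul_right (hxB b hb) (hxB b hb)).eq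
      have htC : t ∉ C := by
        intro h
        apply htx
        have h1 : s * t = t * s := (mem_centralizer_singleton_iff.1 h.2).symm
        obtain ⟨m, hm⟩ := hqp.odd_of_ne_two hq2
        have e : x = s ^ (m + 1) := by
          rw [hs, ← pow_two, ← pow_mul, show 2 * (m + 1) = q + 1 by omega, pow_succ, ← hxq,
            pow_orderOf_eq_one, one_mul]
        rw [e]
        exact (Commute.pow_left h1 _).eq
      have hsfix : ∀ c ∈ C, s * c * s⁻¹ = c := fun c hc => by
        rw [← mem_centralizer_singleton_iff.1 hc.2, mul_inv_cancel_right]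
      haveI : Fact q.Prime := ⟨hqp⟩
      have hsU : ∀ k : ℕ, s ^ k * t * (s ^ k)⁻¹ ∈ U := fun k =>
        hnU (s ^ k) (M.pow_mem hsM k) (fun b hb => ((show Commute b s from hsB b hb).pow_right k).eq) t htU
      let F : Fin q → U ⧸ C.subgroupOf U := fun k => QuotientGroup.mk ⟨_, hsU k⟩
      have hinj : Function.Injective F := by
        have key : ∀ i j : ℕ, i < j → j < q →
            (s ^ i * t * (s ^ i)⁻¹)⁻¹ * (s ^ j * t * (s ^ j)⁻¹) ∈ C → False := by
          intro i j hij hjq hmem
          set d := s ^ (j - i) with hd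
          have ej : s ^ j = s ^ i * d := by rw [hd, ← pow_add, Nat.add_sub_cancel' hij.le]
          set c := (s ^ i * t * (s ^ i)⁻¹)⁻¹ * (s ^ j * t * (s ^ j)⁻¹) with hc
          have hci : s ^ i * c = c * s ^ i :=
            ((show Commute s c from (mem_centralizer_singleton_iff.1 hmem.2).symm).pow_left i).eq
          have ec : c = s ^ i * (t⁻¹ * (d * t * d⁻¹)) * (s ^ i)⁻¹ := by rw [hc, ej]; group
          have ec2 : d * t * d⁻¹ = t * c := by
            have h1 : (s ^ i)⁻¹ * c * s ^ i = c := by rw [mul_assoc, ← hci, inv_mul_cancel_left]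
            have h2 : (s ^ i)⁻¹ * c * s ^ i = t⁻¹ * (d * t * d⁻¹) := by rw [ec]; group
            rw [h1] at h2
            rw [h2]; group
          have hdc : ∀ n : ℕ, d ^ n * t * (d ^ n)⁻¹ = t * c ^ n := by
            intro n
            induction n with
            | zero => simp
            | succ n ihn =>
              have hdcn : d * c ^ n = c ^ n * d :=
                (((show Commute s c from (mem_centralizer_singleton_iff.1 hmem.2).symm).pow_left
                  (j - i)).pow_right n).eq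
              rw [pow_succ', show d * d ^ n * t * (d * d ^ n)⁻¹ = d * (d ^ n * t * (d ^ n)⁻¹) * d⁻¹ by group,
                ihn, show d * (t * c ^ n) * d⁻¹ = d * t * d⁻¹ * ((d * c ^ n) * d⁻¹) by group, ec2, hdcn,
                mul_inv_cancel_right, mul_assoc, ← pow_succ']
          have h7 := hdc q
          rw [hd, ← pow_mul, mul_comm, pow_mul, ← hxx, pow_orderOf_eq_one, one_pow, one_mul, inv_one,
            mul_one, hxx] at h7
          obtain ⟨m, hm⟩ := hqp.odd_of_ne_two hq2
          rw [hm, pow_add, pow_one, pow_mul, pow_two, hV2 c hmem.1.1, one_pow, one_mul] at h7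
          have hc1 : c = 1 := mul_left_cancel (a := t) (by rw [mul_one]; exact h7.symm)
          rw [hc1, mul_one] at ec2
          apply htC
          refine ⟨htU, mem_centralizer_singleton_iff.2 ?_⟩
          have hgcd : (j - i).Coprime q :=
            ((Nat.Prime.coprime_iff_not_dvd hqp).2 fun h =>
              absurd (Nat.le_of_dvd (by omega) h) (by omega)).symm
          obtain ⟨l, -, hl⟩ := Nat.exists_mul_mod_eq_one_of_coprime hgcd hqp.one_lt
          have es : s = d ^ l := by
            rw [hd, ← pow_mul, ← pow_mod_orderOf, hxx, hl, pow_one]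
          have h9 : d ^ l * t = t * d ^ l := (Commute.pow_left (mul_inv_eq_iff_eq_mul.1 ec2) l).eq
          rw [← es] at h9
          exact h9.symm
        intro i j hij
        by_contra hne'
        have hne'' : (i : ℕ) ≠ j := fun h => hne' (Fin.ext h)
        rcases Nat.lt_or_gt_of_ne hne'' with h | h
        · exact key i j h j.2 (mem_subgroupOf.1 (QuotientGroup.eq.1 hij))
        · exact key j i h i.2 (mem_subgroupOf.1 (QuotientGroup.eq.1 hij.symm))
      have := Nat.card_le_card_of_injective F hinj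
      rw [Nat.card_fin, ← Subgroup.index_eq_card] at this
      omega
    -- conclusion
    have hB2 : Nat.card A ≤ 2 * Nat.card B := by
      let G' : B × Fin 2 → A := fun p =>
        if p.2 = 0 then ⟨p.1, hBA p.1.2⟩ else ⟨p.1 * a, A.mul_mem (hBA p.1.2) ha⟩
      have hsurj : Function.Surjective G' := fun c => by
        rcases hAgen c c.2 with h | h
        · exact ⟨(⟨c, h⟩, 0), Subtype.ext (by simp [G'])⟩
        · exact ⟨(⟨_, h⟩, 1), Subtype.ext (by simp [G'])⟩
      have := Nat.card_le_card_of_surjective G' hsurj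
      rw [Nat.card_prod, Nat.card_fin] at this
      omega
    have hBlt : Nat.card B ≤ n := by
      have hlt : Nat.card B < Nat.card A := by
        refine lt_of_le_of_ne (Nat.le_of_dvd Nat.card_pos (Subgroup.card_dvd_of_le hBA)) fun h => haB ?_
        rw [Subgroup.eq_of_le_of_card_ge hBA h.ge]
        exact ha
      omega
    have hIH := ih B hBlt (hBA.trans hAM) (fun u hu v hv => hAc u (hBA hu) v (hBA hv))
      (fun u hu => hA2 u (hBA hu))
    calc Nat.card A ^ 2 * Nat.card UA ≤ (2 * Nat.card B) ^ 2 * Nat.card UA :=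
          Nat.mul_le_mul_right _ (Nat.pow_le_pow_left hB2 2)
      _ = Nat.card B ^ 2 * (4 * Nat.card UA) := by ring
      _ ≤ Nat.card B ^ 2 * Nat.card U := Nat.mul_le_mul_left _ hidx
      _ ≤ Nat.card V := hIH

/-- Let M and V be subgroups of a finite group with V an elementary abelian 2-group, M normalizing V and acting faithfully on it (M ∩ C(V) = 1), and C_M(O_{2'}(M)) ≤ O_{2'}(M). If some elementary abelian 2-subgroup A of M satisfies |V : C_V(A)| < |A|², then M has a section isomorphic to the symmetric group of degree 3. -/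
theorem result {X : Type*} [Group X] [Finite X] (M V : Subgroup X) (hV : Cfsg.IsElementaryAbelian 2 V) (hMV : M ≤ Subgroup.normalizer (V : Set X)) (hfaith : M ⊓ Subgroup.centralizer (V : Set X) = ⊥) (hcon : Subgroup.centralizer (Cfsg.pPrimeCore 2 ↥M : Set ↥M) ≤ Cfsg.pPrimeCore 2 ↥M) (A : Subgroup X) (hAM : A ≤ M) (hA : Cfsg.IsElementaryAbelian 2 A) (hsmall : (V ⊓ Subgroup.centralizer (A : Set X)).relIndex V < Nat.card A ^ 2) : Cfsg.Involves (Equiv.Perm (Fin 3)) ↥M := by
  by_contra hno
  set W₀ := Cfsg.pPrimeCore 2 ↥M with hW₀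
  haveI : W₀.Normal := HallCore.pPrimeCore_normal 2 _
  have hV2 : ∀ u ∈ V, u * u = 1 := fun u hu => by rw [← pow_two]; exact hV.2 u hu
  have hA2 : ∀ u ∈ A, u * u = 1 := fun u hu => by rw [← pow_two]; exact hA.2 u hu
  have hW : Odd (Nat.card (W₀.map M.subtype)) := by
    rw [Subgroup.card_map_of_injective M.subtype_injective]
    exact Nat.coprime_two_right.1 (ComponentsCores.pPrimeCore_coprime 2)
  have key := card_ineq (fun u hu v hv => congrArg Subtype.val (hV.1.is_comm.comm ⟨u, hu⟩ ⟨v, hv⟩))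
    hV2 hMV hfaith (W := W₀.map M.subtype) (Subgroup.map_subtype_le _) hW ?_ ?_ hno
    (Nat.card A) A le_rfl hAM (fun u hu v hv => congrArg Subtype.val (hA.1.is_comm.comm ⟨u, hu⟩ ⟨v, hv⟩)) hA2
  · set U := V ⊓ Subgroup.centralizer (A : Set X) with hU
    have h1 : Nat.card U * U.relIndex V = Nat.card V := by
      have := Subgroup.card_mul_index (U.subgroupOf V)
      rwa [Nat.card_congr (Subgroup.subgroupOfEquivOfLe (inf_le_left : U ≤ V)).toEquiv] at this
    rw [← h1, mul_comm (Nat.card U)] at key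
    exact absurd (Nat.le_of_mul_le_mul_right key Nat.card_pos) (not_le.2 hsmall)
  · intro m hm
    rw [Subgroup.mem_normalizer_iff]
    intro h
    constructor
    · rintro ⟨w, hw, rfl⟩
      exact ⟨⟨m, hm⟩ * w * ⟨m, hm⟩⁻¹, ‹W₀.Normal›.conj_mem w hw _, rfl⟩
    · rintro ⟨w, hw, e⟩
      refine ⟨⟨m, hm⟩⁻¹ * w * ⟨m, hm⟩, by simpa using ‹W₀.Normal›.conj_mem w hw ⟨m, hm⟩⁻¹, ?_⟩
      simp only [Subgroup.coe_subtype] at e ⊢
      simp [e, mul_assoc]
  · rintro m ⟨hm, hmc⟩
    exact ⟨⟨m, hm⟩, hcon (Subgroup.mem_centralizer_iff.2 fun w hw =>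
      Subtype.ext (Subgroup.mem_centralizer_iff.1 hmc _ ⟨w, hw, rfl⟩)), rfl⟩

end Cfsg.Agent.S3755
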