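import Cfsg.Statements.S3759
import Cfsg.Agent.Lib.SolvableCentInvol2
import Cfsg.Agent.Lib.LocalBasics
import Cfsg.Agent.Lib.TransferPResidual

set_option autoImplicit false
open Cfsg

namespace Cfsg.Agent.S3759

open Subgroup
open Cfsg.Agent.SolvCentInvol1
open Cfsg.Agent.SolvCentInvol2
open Cfsg.Agent.SignalizerStrongEmb (involution_mul_self involution_ne_one orderOf_eq_two_of_mul_self)

variable {G : Type*} [Group G] [Finite G]

theorem solvCent_subgroup (hs : SolvCent G) (K : Subgroup G) : SolvCent ↥K := fun t ht => by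
  haveI := hs (t : G) (by rw [Subgroup.orderOf_coe, ht])
  exact Group.isSolvable_of_isSolvable_injective
    (f := ((K.subtype).comp (centralizer ({t} : Set K)).subtype).codRestrict
      (centralizer ({(t : G)} : Set G))
      (fun x => mem_centralizer_singleton_iff.mpr
        (congrArg Subtype.val (mem_centralizer_singleton_iff.mp x.2))))
    (fun x y e => Subtype.ext (Subtype.ext
      (congrArg (fun w : centralizer ({(t : G)} : Set G) => (w : G)) e)))

theorem pPrimeCore_subgroup (hO : Cfsg.pPrimeCore 2 G = ⊥) (K : Subgroup G) [K.Normal] :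
    Cfsg.pPrimeCore 2 ↥K = ⊥ := by
  have h := HallCore.map_subtype_pPrimeCore (p := 2) K
  rw [hO, bot_inf_eq] at h
  exact (Subgroup.map_eq_bot_iff_of_injective _ K.subtype_injective).mp h

theorem stronglyEmbedded_comap {H K : Subgroup G} [H.Normal] (hHK : H ≤ K)
    (heven : Even (Nat.card H)) {M : Subgroup ↥K} (hM : Cfsg.IsStronglyEmbedded M) :
    ∃ N : Subgroup ↥H, Cfsg.IsStronglyEmbedded N := by
  haveI := Fact.mk Nat.prime_two
  obtain ⟨h, hh⟩ := exists_prime_orderOf_dvd_card' 2 heven.two_dvd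
  obtain ⟨t, htM, ht⟩ := SignalizerStrongEmb.exists_involution_mem hM
  have hmem : ∀ x : H, orderOf (inclusion hHK x) = orderOf x := fun x =>
    orderOf_injective (inclusion hHK) (inclusion_injective hHK) x
  obtain ⟨c, hc⟩ := isConj_iff.mp (SignalizerStrongEmb.isConj_involutions hM
    (a := inclusion hHK h) (b := t) (by rw [hmem, hh]) ht)
  have htH : (t : G) ∈ H := by
    rw [← hc]
    exact (inferInstance : H.Normal).conj_mem _ h.2 (c : G)
  have key := (SignalizerStrongEmb.isStronglyEmbedded_iff.mp hM).2.2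
  refine ⟨M.comap (inclusion hHK), SignalizerStrongEmb.isStronglyEmbedded_iff.mpr
    ⟨fun e => hM.1 (eq_top_iff.mpr fun x _ => ?_), ?_, fun s hs hso g hg => ?_⟩⟩
  · have hx : (x * t * x⁻¹ : K) ∈ M := by
      have := e.ge (mem_top (⟨(x : G) * t * (x : G)⁻¹,
        (inferInstance : H.Normal).conj_mem _ htH (x : G)⟩ : H))
      exact this
    exact key t htM ht x hx
  · refine SignalizerStrongEmb.even_card_of_involution_mem (t := (⟨t, htH⟩ : H)) ?_ htM
    rw [Subgroup.orderOf_mk, Subgroup.orderOf_coe, ht]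
  · exact key (inclusion hHK s) hs (by rw [hmem, hso]) (inclusion hHK g)
      (by simpa using hg)

/-- Let G be a finite group of even order in which the centralizer of every involution is solvable and C_G(Ω₁(Z(S))) ≤ N_G(S) for every Sylow 2-subgroup S, with O_{2'}(G) = 1 = O₂(G). Fix a Sylow 2-subgroup S and put Z = Ω₁(Z(S)), H = O²(G), R = S ∩ H. Then H has a strongly embedded subgroup; or Z ∩ R has order 2 and is weakly closed in R with respect to H; or Z has order 4 and equals the subgroup generated by the involutions of R; or the subgroup HZ has local characteristic 2: it has even order and every 2-local subgroup L of HZ satisfies C_L(O₂(L)) ≤ O₂(L). -/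
theorem result {G : Type*} [Group G] [Finite G] (heven : Even (Nat.card G)) (hC : ∀ t : G, orderOf t = 2 → Group.IsSolvable ↥(Subgroup.centralizer ({t} : Set G))) (hZ : ∀ S : Sylow 2 G, Subgroup.centralizer (Cfsg.omegaOne 2 ((S : Subgroup G) ⊓ Subgroup.centralizer ((S : Subgroup G) : Set G)) : Set G) ≤ Subgroup.normalizer ((S : Subgroup G) : Set G)) (hO' : Cfsg.pPrimeCore 2 G = ⊥) (hO : Cfsg.pCore 2 G = ⊥) (S : Sylow 2 G) : (∃ M : Subgroup ↥(Cfsg.pResidual 2 G), Cfsg.IsStronglyEmbedded M) ∨ (Nat.card ↥(Cfsg.omegaOne 2 ((S : Subgroup G) ⊓ Subgroup.centralizer ((S : Subgroup G) : Set G)) ⊓ Cfsg.pResidual 2 G) = 2 ∧ ∀ h ∈ Cfsg.pResidual 2 G, ∀ z ∈ Cfsg.omegaOne 2 ((S : Subgroup G) ⊓ Subgroup.centralizer ((S : Subgroup G) : Set G)) ⊓ Cfsg.pResidual 2 G, h * z * h⁻¹ ∈ (S : Subgroup G) → h * z * h⁻¹ ∈ Cfsg.omegaOne 2 ((S : Subgroup G) ⊓ Subgroup.centralizer ((S : Subgroup G) : Set G))) ∨ (Nat.card ↥(Cfsg.omegaOne 2 ((S : Subgroup G) ⊓ Subgroup.centralizer ((S : Subgroup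 G) : Set G))) = 4 ∧ Cfsg.omegaOne 2 ((S : Subgroup G) ⊓ Cfsg.pResidual 2 G) = Cfsg.omegaOne 2 ((S : Subgroup G) ⊓ Subgroup.centralizer ((S : Subgroup G) : Set G))) ∨ Cfsg.IsCharacteristicTwoType ↥(Cfsg.pResidual 2 G ⊔ Cfsg.omegaOne 2 ((S : Subgroup G) ⊓ Subgroup.centralizer ((S : Subgroup G) : Set G))) := by
  haveI := Fact.mk Nat.prime_two
  have hcentZ := hZ S
  set Z := Cfsg.omegaOne 2 ((S : Subgroup G) ⊓ centralizer ((S : Subgroup G) : Set G)) with hZdef
  set H := Cfsg.pResidual 2 G with hH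
  haveI hHn : H.Normal := inferInstance
  -- `Z` is elementary abelian and central in `S`
  have hZle : Z ≤ (S : Subgroup G) ⊓ centralizer ((S : Subgroup G) : Set G) :=
    (Subgroup.closure_le _).mpr fun x hx => hx.1
  have hZS : Z ≤ (S : Subgroup G) := hZle.trans inf_le_left
  have hZcomm : ∀ z ∈ Z, ∀ x ∈ (S : Subgroup G), z * x = x * z := fun z hz x hx =>
    (mem_centralizer_iff.mp (hZle hz).2 x hx).symm
  have hZel : Cfsg.IsElementaryAbelian 2 Z := by
    refine PGroupsBasic.isElementaryAbelian_closure (fun x hx y hy => ?_) fun x hx => hx.2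
    exact (mem_centralizer_iff.mp hx.1.2 y hy.1.1).symm
  -- `O²(G)` has even order
  have hHe : Even (Nat.card H) := by
    by_contra h
    rw [Nat.not_even_iff_odd] at h
    have hle : H ≤ Cfsg.pPrimeCore 2 G :=
      le_sSup ⟨hHn, Nat.coprime_two_right.mpr h⟩
    rw [hO', le_bot_iff] at hle
    have hp : IsPGroup 2 G := by
      have := TransferPResidual.isPGroup_quotient_pResidual (p := 2) (G := G)
      intro x
      obtain ⟨k, hk⟩ := this (QuotientGroup.mk' (Cfsg.pResidual 2 G) x)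
      refine ⟨k, ?_⟩
      rw [← map_pow, QuotientGroup.mk'_apply, QuotientGroup.eq_one_iff, ← hH, hle, mem_bot] at hk
      exact hk
    have htop : (⊤ : Subgroup G) ≤ Cfsg.pCore 2 G :=
      le_sSup ⟨inferInstance, hp.to_subgroup ⊤⟩
    rw [hO] at htop
    have h1 : Nat.card G = 1 := by
      rw [← Subgroup.card_top, le_bot_iff.mp htop, Subgroup.card_bot]
    rw [h1] at heven
    exact Nat.not_even_one heven
  -- `Z` meets `H`
  obtain ⟨z0, ⟨hz0Z, hz0H⟩, hz0⟩ : ∃ z, (z ∈ Z ∧ z ∈ H) ∧ orderOf z = 2 := by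
    obtain ⟨Q, hQ⟩ := LocalBasics.exists_sylow_inf S H
    have hne : H.subgroupOf (S : Subgroup G) ≠ ⊥ := by
      intro e
      refine Q.not_dvd_index ?_
      have h1 : (Q : Subgroup H) = ⊥ := by
        rw [hQ, subgroupOf_eq_bot]
        exact (subgroupOf_eq_bot.mp e).symm
      rw [h1, index_bot]
      exact hHe.two_dvd
    haveI : (H.subgroupOf (S : Subgroup G)).Normal := hHn.subgroupOf _
    obtain ⟨c, hc, hco⟩ := PGroupsBasic.exists_orderOf_eq_of_ne_bot
      (S.2.to_subgroup (H.subgroupOf (S : Subgroup G) ⊓ center ↥(S : Subgroup G)))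
      (PGroupsBasic.inf_center_ne_bot S.2 hne)
    have hc2 : (c : G) ^ 2 = 1 := by
      have h := pow_orderOf_eq_one (c : G)
      rwa [Subgroup.orderOf_coe, hco] at h
    refine ⟨c, ⟨subset_closure ⟨⟨c.2, mem_centralizer_iff.mpr fun a ha => ?_⟩, hc2⟩, hc.1⟩,
      by rw [Subgroup.orderOf_coe, hco]⟩
    exact congrArg Subtype.val (mem_center_iff.mp hc.2 ⟨a, ha⟩)
  have hcard2 : 2 ≤ Nat.card Z := by
    have := card_le_of_le (zpowers_le.mpr hz0Z)
    rwa [Nat.card_zpowers, hz0] at this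
  have hpow : ∃ k, Nat.card Z = 2 ^ k :=
    IsPGroup.iff_card.mp (PGroupsBasic.isPGroup_of_isElementaryAbelian hZel)
  set K := H ⊔ Z with hK
  have hHK : H ≤ K := le_sup_left
  haveI hKn : K.Normal := by
    rw [← normalizer_eq_top_iff, eq_top_iff,
      ← TransferPResidual.sylow_sup_pResidual (p := 2) S]
    refine sup_le (fun x hx => mem_normalizer_of_cj_eq ?_) (hHK.trans le_normalizer)
    rw [hK, cj, Subgroup.map_sup]
    refine congrArg₂ (· ⊔ ·) (cj_eq_of_mem_normalizer (by rw [normalizer_eq_top H]; exact mem_top x)) ?_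
    exact cj_eq_of_mem_normalizer (centralizer_le_normalizer (Z : Set G)
      (mem_centralizer_iff.mpr fun z hz => hZcomm z hz x hx))
  by_cases h4 : 4 ≤ Nat.card Z
  · obtain ⟨Q, hQ⟩ := LocalBasics.exists_sylow_inf S K
    have hc : Central Q (Z.subgroupOf K) := by
      refine ⟨PGroupsBasic.isElementaryAbelian_comap_injective hZel K.subtype_injective, ?_,
        fun z hz x hx => ?_, fun c hc => ?_⟩
      · rw [hQ]; exact fun z hz => mem_subgroupOf.mpr (hZS (mem_subgroupOf.mp hz))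
      · rw [hQ] at hx
        exact Subtype.ext (hZcomm _ (mem_subgroupOf.mp hz) _ (mem_subgroupOf.mp hx))
      · have hcG : (c : G) ∈ normalizer ((S : Subgroup G) : Set G) := hcentZ
          (mem_centralizer_iff.mpr fun z hz => congrArg Subtype.val (mem_centralizer_iff.mp hc
            ⟨z, mem_sup_right hz⟩ (mem_subgroupOf.mpr hz)))
        rw [hQ]
        refine mem_normalizer_iff.mpr fun x => ?_
        simp only [mem_subgroupOf, Subgroup.coe_mul, Subgroup.coe_inv]
        exact mem_normalizer_iff.mp hcG x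
    have hcardZ : Nat.card (Z.subgroupOf K) = Nat.card Z :=
      Nat.card_congr (subgroupOfEquivOfLe (le_sup_right : Z ≤ K)).toEquiv
    by_cases hbig : 8 ≤ Nat.card Z ∨
        ∃ t ∈ (Q : Subgroup K), orderOf t = 2 ∧ t ∉ Z.subgroupOf K
    · rcases case_a (solvCent_subgroup hC K) (pPrimeCore_subgroup hO' K) hc (hcardZ ▸ h4)
        (hcardZ.symm ▸ hbig) with ⟨M, hM⟩ | h
      · exact Or.inl (stronglyEmbedded_comap hHK hHe hM)
      · refine Or.inr (Or.inr (Or.inr (charTwoType_of_th_eq_bot (solvCent_subgroup hC K) ?_ h)))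
        exact hHe.trans_dvd (card_dvd_of_le hHK)
    push Not at hbig
    obtain ⟨hlt, hall⟩ := hbig
    have hZ4 : Nat.card Z = 4 := by
      obtain ⟨k, hk⟩ := hpow
      rcases le_or_gt k 2 with h | h
      · have := Nat.pow_le_pow_right (by norm_num : 0 < 2) h
        omega
      · have := Nat.pow_le_pow_right (by norm_num : 0 < 2) (by omega : 3 ≤ k)
        omega
    have hin : ∀ x ∈ (S : Subgroup G), x ∈ H → x ^ 2 = 1 → x ∈ Z := by
      intro x hxS hxH hx2
      by_cases hx1 : x = 1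
      · rw [hx1]; exact one_mem Z
      · have hxo : orderOf x = 2 := orderOf_eq_prime hx2 hx1
        exact mem_subgroupOf.mp (hall ⟨x, hHK hxH⟩ (by rw [hQ]; exact mem_subgroupOf.mpr hxS)
          (by rw [Subgroup.orderOf_mk, hxo]))
    by_cases hZH : Z ≤ H
    · refine Or.inr (Or.inr (Or.inl ⟨hZ4, le_antisymm ?_ fun z hz => ?_⟩))
      · exact (Subgroup.closure_le _).mpr fun x hx => hin x hx.1.1 hx.1.2 hx.2
      · exact subset_closure ⟨⟨hZS hz, hZH hz⟩, hZel.2 z hz⟩
    refine Or.inr (Or.inl ⟨?_, fun h hh z hz hS => ?_⟩)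
    · obtain ⟨y, hyZ, hyH⟩ := SetLike.not_le_iff_exists.mp hZH
      have h1 := two_mul_card_le (inf_le_left : Z ⊓ H ≤ Z) hyZ (fun h => hyH h.2)
      have h2 := card_le_of_le (show zpowers z0 ≤ Z ⊓ H from zpowers_le.mpr ⟨hz0Z, hz0H⟩)
      rw [Nat.card_zpowers, hz0] at h2
      omega
    · refine hin _ hS (hHn.conj_mem _ hz.2 h) ?_
      rw [conj_pow, hZel.2 z hz.1, mul_one, mul_inv_cancel]
  -- `|Z| = 2`
  have hZ2 : Nat.card Z = 2 := by
    obtain ⟨k, hk⟩ := hpow
    rcases le_or_gt k 1 with h | h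
    · have := Nat.pow_le_pow_right (by norm_num : 0 < 2) h
      omega
    · have := Nat.pow_le_pow_right (by norm_num : 0 < 2) (by omega : 2 ≤ k)
      omega
  have hZz : zpowers z0 = Z :=
    eq_of_le_of_card_ge (zpowers_le.mpr hz0Z) (by rw [Nat.card_zpowers, hz0, hZ2])
  have hZH : Z ≤ H := hZz ▸ zpowers_le.mpr hz0H
  by_cases hwc : ∀ h ∈ H, ∀ z ∈ Z ⊓ H, h * z * h⁻¹ ∈ (S : Subgroup G) → h * z * h⁻¹ ∈ Z
  · exact Or.inr (Or.inl ⟨by rw [inf_eq_left.mpr hZH, hZ2], hwc⟩)
  push Not at hwc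
  obtain ⟨h, hh, z, hz, huS, huZ⟩ := hwc
  have hzz : z = z0 := by
    rcases eq_of_mem_zpowers (involution_mul_self hz0) (hZz.ge hz.1) with e | e
    · subst e
      exact absurd (by simp [one_mem Z]) huZ
    · exact e
  subst hzz
  obtain ⟨Q, hQ⟩ := LocalBasics.exists_sylow_inf S H
  have hnm : ∀ M : Subgroup H, M.Normal → M.index ≠ 2 := by
    intro M hM hMi
    have h1 := TransferPResidual.pResidual_le_of_index (p := 2) (N := M) (k := 1)
      (by rw [hMi, pow_one])
    rw [show Cfsg.pResidual 2 ↥H = ⊤ from TransferPResidual.pResidual_pResidual, top_le_iff] at h1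
    rw [h1, index_top] at hMi
    omega
  have hcent : centralizer ({(⟨z, hz0H⟩ : H)} : Set H) ≤ normalizer ((Q : Subgroup H) : Set H) := by
    intro c hc
    have hcG : (c : G) ∈ normalizer ((S : Subgroup G) : Set G) := by
      refine hcentZ (mem_centralizer_iff.mpr fun w hw => ?_)
      obtain ⟨i, rfl⟩ := mem_zpowers_iff.mp (hZz.ge hw)
      exact ((show Commute z (c : G) from
        (congrArg Subtype.val (mem_centralizer_singleton_iff.mp hc)).symm).zpow_left i).eq
    rw [hQ]
    refine mem_normalizer_iff.mpr fun x => ?_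
    simp only [mem_subgroupOf, Subgroup.coe_mul, Subgroup.coe_inv]
    exact mem_normalizer_iff.mp hcG x
  rcases case_b (P := Q) (z := (⟨z, hz0H⟩ : H)) (g := (⟨h, hh⟩ : H)) (solvCent_subgroup hC H)
    (pPrimeCore_subgroup hO' H) hnm (by rw [Subgroup.orderOf_mk, hz0])
    (by rw [hQ]; exact mem_subgroupOf.mpr (hZS hz0Z))
    (fun x hx => Subtype.ext (hZcomm z hz0Z x (mem_subgroupOf.mp (hQ ▸ hx)))) hcent
    (by rw [hQ]; exact mem_subgroupOf.mpr huS)
    (fun e => huZ (by
      have := congrArg Subtype.val e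
      simp only [Subgroup.coe_mul, Subgroup.coe_inv] at this
      rw [this]; exact hz0Z)) with ⟨M, hM⟩ | h'
  · exact Or.inl ⟨M, hM⟩
  · refine Or.inr (Or.inr (Or.inr ?_))
    rw [hK, sup_eq_left.mpr hZH]
    exact charTwoType_of_th_eq_bot (solvCent_subgroup hC H) hHe h'

end Cfsg.Agent.S3759
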