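import Cfsg.Statements.S3758
import Cfsg.Agent.S3759
import Cfsg.Agent.Lib.ZNCore82

set_option autoImplicit false
open Cfsg

namespace Cfsg.Agent.S3758

open Subgroup

theorem omegaCenterOf_conj {G : Type*} [Group G] (g : G) (X : Subgroup G) :
    Cfsg.omegaCenterOf (X.map (MulAut.conj g).toMonoidHom) =
      (Cfsg.omegaCenterOf X).map (MulAut.conj g).toMonoidHom :=
  (JCompCore.map_omegaCenter g X).symm

theorem twoLocals_solvable {G : Type*} [Group G] (hN : ∀ L : Subgroup G, Cfsg.IsTwoLocal L → Group.IsSolvable L)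
    (K : Subgroup G) (N : Subgroup ↥K) (h : Cfsg.IsTwoLocal N) : Group.IsSolvable ↥N := by
  obtain ⟨T, hT, hT1, rfl⟩ := h
  have := hN (normalizer ((T.map K.subtype : Subgroup G) : Set G))
    ⟨T.map K.subtype, hT.map _,
      fun e => hT1 ((map_eq_bot_iff_of_injective _ K.subtype_injective).mp e), rfl⟩
  refine Group.isSolvable_of_isSolvable_injective
    (f := ((K.subtype).comp (normalizer (T : Set ↥K)).subtype).codRestrict
      (normalizer ((T.map K.subtype : Subgroup G) : Set G))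
      (fun x => le_normalizer_map (H := T) K.subtype ⟨x.1, x.2, rfl⟩)) fun x y e => ?_
  exact Subtype.ext (Subtype.ext
    (congrArg (fun w : normalizer ((T.map K.subtype : Subgroup G) : Set G) => (w : G)) e))

/-- Let G be a finite group of even order in which every 2-local subgroup is solvable and C_G(Ω₁(Z(S))) ≤ N_G(S) for every Sylow 2-subgroup S, and suppose O_{2'}(G) = 1 = O₂(G). Fix a Sylow 2-subgroup S, put Z = Ω₁(Z(S)), H = O²(G) (generated by the elements of odd order) and R = S ∩ H. Then one of the following holds: H has a strongly embedded subgroup; R is dihedral (of order at least 4) or semidihedral; Z ∩ R has order 2 and is weakly closed in R with respect to H; or Z has order 4 and is exactly the subgroup generated by the involutions of R. -/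
theorem result {G : Type*} [Group G] [Finite G] (heven : Even (Nat.card G)) (hN : ∀ L : Subgroup G, Cfsg.IsTwoLocal L → Group.IsSolvable L) (hZ : ∀ S : Sylow 2 G, Subgroup.centralizer (Cfsg.omegaOne 2 ((S : Subgroup G) ⊓ Subgroup.centralizer ((S : Subgroup G) : Set G)) : Set G) ≤ Subgroup.normalizer ((S : Subgroup G) : Set G)) (hO' : Cfsg.pPrimeCore 2 G = ⊥) (hO : Cfsg.pCore 2 G = ⊥) (S : Sylow 2 G) : (∃ M : Subgroup ↥(Cfsg.pResidual 2 G), Cfsg.IsStronglyEmbedded M) ∨ ((∃ n : ℕ, 2 ≤ n ∧ Nonempty (↥((S : Subgroup G) ⊓ Cfsg.pResidual 2 G) ≃* DihedralGroup n)) ∨ Cfsg.IsQuasiDihedral ↥((S : Subgroup G) ⊓ Cfsg.pResidual 2 G)) ∨ (Nat.card ↥(Cfsg.omegaOne 2 ((S : Subgroup G) ⊓ Subgroup.centralizer ((S : Subgroup G) : Set G)) ⊓ Cfsg.pResidual 2 G) = 2 ∧ ∀ h ∈ Cfsg.pResidual 2 G, ∀ z ∈ Cfsg.omegaOne 2 ((S : Subgroup G) ⊓ Subgroup.centralizer ((S : Subgroup G) : Set G)) ⊓ Cfsg.pResidual 2 G, h * z * h⁻¹ ∈ (S : Subgroup G) → h * z * h⁻¹ ∈ Cfsg.omegaOne 2 ((S : Subgroup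 G) ⊓ Subgroup.centralizer ((S : Subgroup G) : Set G))) ∨ (Nat.card ↥(Cfsg.omegaOne 2 ((S : Subgroup G) ⊓ Subgroup.centralizer ((S : Subgroup G) : Set G))) = 4 ∧ Cfsg.omegaOne 2 ((S : Subgroup G) ⊓ Cfsg.pResidual 2 G) = Cfsg.omegaOne 2 ((S : Subgroup G) ⊓ Subgroup.centralizer ((S : Subgroup G) : Set G))) := by
  haveI := Fact.mk Nat.prime_two
  have hC : ∀ t : G, orderOf t = 2 → Group.IsSolvable ↥(centralizer ({t} : Set G)) := by
    intro t ht
    have hle : centralizer ({t} : Set G) ≤ normalizer (zpowers t : Set G) := by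
      refine le_trans (fun x hx => ?_) (LocalBasics.centralizer_le_normalizer _)
      refine mem_centralizer_iff.mpr fun y hy => ?_
      obtain ⟨i, rfl⟩ := mem_zpowers_iff.mp hy
      exact ((show Commute t x from (mem_centralizer_singleton_iff.mp hx).symm).zpow_left i).eq
    have := hN (normalizer (zpowers t : Set G))
      ⟨zpowers t, IsPGroup.of_card (n := 1) (by rw [Nat.card_zpowers, ht, pow_one]),
        fun e => by
          have := Nat.card_zpowers t
          rw [e, card_bot, ht] at this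
          omega, rfl⟩
    exact Group.isSolvable_of_isSolvable_injective
      (f := Subgroup.inclusion hle) (Subgroup.inclusion_injective hle)
  have h4 := Cfsg.Agent.S3759.result heven hC hZ hO' hO S
  rcases h4 with h | h | h | hchar
  · exact Or.inl h
  · exact Or.inr (Or.inr (Or.inl h))
  · exact Or.inr (Or.inr (Or.inr h))
  set H := Cfsg.pResidual 2 G with hH
  set Z := Cfsg.omegaCenterOf (S : Subgroup G) with hZdef
  change Cfsg.IsCharacteristicTwoType ↥(H ⊔ Z) at hchar
  set K := H ⊔ Z with hK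
  have hHn : H.Normal := inferInstance
  have hHK : H ≤ K := le_sup_left
  -- `K` is normal, since `G = S O²(G)` and `S` centralises `Z`
  have hKn : K.Normal := by
    rw [← normalizer_eq_top_iff, eq_top_iff,
      ← TransferPResidual.sylow_sup_pResidual (p := 2) S]
    refine sup_le (fun x hx => ?_) (hHK.trans le_normalizer)
    refine LocalBasics.le_normalizer_sup (LocalBasics.le_normalizer_of_normal _) ?_ hx
    exact le_normalizer.trans (JCompBase.normalizer_le_omegaCenter _)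
  have hO2 : Cfsg.pCore 2 ↥K = ⊥ := by
    have h := HallCore.map_subtype_pCore (p := 2) K
    rw [hO, bot_inf_eq] at h
    exact (map_eq_bot_iff_of_injective _ K.subtype_injective).mp h
  -- data attached to a Sylow subgroup of `K`
  have hsyl : ∀ Q : Sylow 2 ↥K, ∃ S' : Sylow 2 G, ∃ g : G,
      (S' : Subgroup G) = (S : Subgroup G).map (MulAut.conj g).toMonoidHom ∧
      (S' : Subgroup G).subgroupOf K = (Q : Subgroup ↥K) ∧
      Cfsg.omegaCenterOf (S' : Subgroup G) ≤ K ∧
      (Cfsg.omegaCenterOf (S' : Subgroup G)).subgroupOf K ≤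
        Cfsg.omegaCenterOf (Q : Subgroup ↥K) ∧
      H ⊔ Cfsg.omegaCenterOf (S' : Subgroup G) = K := by
    intro Q
    obtain ⟨S', hS'⟩ := (Q.2.map K.subtype).exists_le_sylow
    obtain ⟨g, hg⟩ := MulAction.exists_smul_eq G S S'
    have hS'eq : (S' : Subgroup G) = (S : Subgroup G).map (MulAut.conj g).toMonoidHom := by
      rw [← hg, Sylow.coe_subgroup_smul]; rfl
    have hQ : (S' : Subgroup G).subgroupOf K = (Q : Subgroup ↥K) :=
      Q.3 (S'.2.comap_of_injective K.subtype K.subtype_injective)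
        fun x hx => mem_subgroupOf.mpr (hS' ⟨x, hx, rfl⟩)
    have hsum : H ⊔ Cfsg.omegaCenterOf (S' : Subgroup G) = K := by
      rw [hS'eq, omegaCenterOf_conj, ← hZdef]
      conv_lhs => rw [← show H.map (MulAut.conj g).toMonoidHom = H from Subgroup.Normal.map_conj_eq H g]
      rw [← Subgroup.map_sup]
      exact Subgroup.Normal.map_conj_eq K g
    have hZK : Cfsg.omegaCenterOf (S' : Subgroup G) ≤ K := le_sup_right.trans hsum.le
    refine ⟨S', g, hS'eq, hQ, hZK, ?_, hsum⟩
    have h1 : Cfsg.omegaCenterOf (S' : Subgroup G) ≤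
        (Cfsg.omegaCenterOf (Q : Subgroup ↥K)).map K.subtype := by
      refine (closure_le _).mpr ?_
      rintro x ⟨⟨hxS, hxC⟩, hx2⟩
      have hxK : x ∈ K := hZK (subset_closure ⟨⟨hxS, hxC⟩, hx2⟩)
      refine ⟨⟨x, hxK⟩, subset_closure ⟨⟨hQ.le (mem_subgroupOf.mpr hxS), ?_⟩, Subtype.ext hx2⟩, rfl⟩
      exact mem_centralizer_iff.mpr fun y hy => Subtype.ext
        (mem_centralizer_iff.mp hxC y (mem_subgroupOf.mp (hQ.ge hy)))
    intro x hx
    obtain ⟨y, hy, e⟩ := h1 (mem_subgroupOf.mp hx)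
    rwa [Subtype.ext e] at hy
  have hZK : ∀ Q : Sylow 2 ↥K, centralizer (Cfsg.omegaCenterOf (Q : Subgroup ↥K) : Set ↥K) ≤
      normalizer ((Q : Subgroup ↥K) : Set ↥K) := by
    intro Q c hc
    obtain ⟨S', g, -, hQ, hle, hsub, -⟩ := hsyl Q
    have hcG : (c : G) ∈ normalizer ((S' : Subgroup G) : Set G) := hZ S'
      (mem_centralizer_iff.mpr fun z hz => congrArg Subtype.val
        (mem_centralizer_iff.mp hc ⟨z, hle hz⟩ (hsub (mem_subgroupOf.mpr hz))))
    rw [← hQ]
    refine mem_normalizer_iff.mpr fun x => ?_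
    simp only [mem_subgroupOf, Subgroup.coe_mul, Subgroup.coe_inv]
    exact mem_normalizer_iff.mp hcG x
  have hres : (Cfsg.pResidual 2 ↥K).map K.subtype = H :=
    TransferPResidual.map_pResidual_eq_of_le hHK
  have hgen : ∀ Q : Sylow 2 ↥K,
      Cfsg.pResidual 2 ↥K ⊔ Cfsg.omegaCenterOf (Q : Subgroup ↥K) = ⊤ := by
    intro Q
    obtain ⟨S', g, -, -, hle, hsub, hsum⟩ := hsyl Q
    refine map_injective K.subtype_injective ?_
    rw [← MonoidHom.range_eq_map, range_subtype, Subgroup.map_sup, hres]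
    refine le_antisymm (sup_le hHK (map_subtype_le _)) (hsum.ge.trans (sup_le_sup_left ?_ _))
    exact fun z hz => ⟨⟨z, hle hz⟩, hsub (mem_subgroupOf.mpr hz), rfl⟩
  rcases ZNCore82.core hchar (twoLocals_solvable hN K) hZK hO2 hgen with ⟨M, hM⟩ | hsh
  · refine Or.inl (S3759.stronglyEmbedded_comap hHK ?_ hM)
    -- `O²(G)` has even order
    by_contra h
    rw [Nat.not_even_iff_odd] at h
    obtain ⟨Q⟩ : Nonempty (Sylow 2 ↥K) := inferInstance
    obtain ⟨t, htM, ht⟩ := SignalizerStrongEmb.exists_involution_mem hM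
    have hle : H ≤ Cfsg.pPrimeCore 2 G := le_sSup ⟨hHn, Nat.coprime_two_right.mpr h⟩
    rw [hO', le_bot_iff] at hle
    have hK2 : IsPGroup 2 ↥K := by
      have hpG : IsPGroup 2 G := by
        intro x
        obtain ⟨j, hj⟩ := TransferPResidual.exists_pow_mem_pResidual (p := 2) x
        rw [← hH, hle, mem_bot] at hj
        exact ⟨j, hj⟩
      exact hpG.to_subgroup K
    have hbot : (⊤ : Subgroup ↥K) ≤ Cfsg.pCore 2 ↥K :=
      le_sSup ⟨inferInstance, hK2.to_subgroup ⊤⟩
    rw [hO2, le_bot_iff] at hbot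
    have ht1 : t = 1 := mem_bot.mp (hbot.le (mem_top t))
    rw [ht1, orderOf_one] at ht
    omega
  obtain ⟨Q, hQ⟩ := LocalBasics.exists_sylow_inf S K
  have hQH : ((Q : Subgroup ↥K) ⊓ Cfsg.pResidual 2 ↥K).map K.subtype = (S : Subgroup G) ⊓ H := by
    rw [map_inf _ _ _ K.subtype_injective, hres, hQ, subgroupOf_map_subtype, inf_assoc,
      inf_eq_right.mpr hHK]
  let φ : ↥((Q : Subgroup ↥K) ⊓ Cfsg.pResidual 2 ↥K) ≃* ↥((S : Subgroup G) ⊓ H) :=
    (equivMapOfInjective _ K.subtype K.subtype_injective).trans (MulEquiv.subgroupCongr hQH)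
  refine Or.inr (Or.inl ?_)
  rcases hsh Q with ⟨m, hm, ⟨e⟩⟩ | h
  · exact Or.inl ⟨m, hm, ⟨φ.symm.trans e⟩⟩
  · exact Or.inr (ZNShapes82.quasi_congr φ h)

end Cfsg.Agent.S3758
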