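import Cfsg.Statements.S3760
import Mathlib
-- import your own Cfsg.Agent.* helpers here

set_option autoImplicit false
open Cfsg

namespace Cfsg.Agent.S3760


/-- Let the group G act transitively on a set X, let x ∈ X with stabilizer H = G_x, and let K ≤ H. Then N_G(K) acts transitively on the set of fixed points of K if and only if every G-conjugate of K contained in H is already an H-conjugate of K. -/
theorem result {G : Type*} [Group G] {X : Type*} [MulAction G X] (htrans : ∀ a b : X, ∃ g : G, g • a = b) (x : X) (K : Subgroup G) (hK : K ≤ MulAction.stabilizer G x) : (∀ a b : X, (∀ k ∈ K, k • a = a) → (∀ k ∈ K, k • b = b) → ∃ g ∈ Subgroup.normalizer (K : Set G), g • a = b) ↔ ∀ g : G, K.map (MulAut.conj g).toMonoidHom ≤ MulAction.stabilizer G x → ∃ h ∈ MulAction.stabilizer G x, K.map (MulAut.conj g).toMonoidHom = K.map (MulAut.conj h).toMonoidHom := by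
  constructor
  · intro hT g hg
    have hfix : ∀ k ∈ K, k • (g⁻¹ • x) = g⁻¹ • x := by
      intro k hk
      have h1 : g * k * g⁻¹ ∈ MulAction.stabilizer G x := hg ⟨k, hk, by simp⟩
      have h2 : (g * k * g⁻¹) • x = x := h1
      have := congrArg (fun y => g⁻¹ • y) h2
      simpa [smul_smul, mul_assoc] using this
    obtain ⟨n, hn, hnx⟩ := hT x (g⁻¹ • x) (fun k hk => hK hk) hfix
    refine ⟨g * n, ?_, ?_⟩
    · show (g * n) • x = x
      rw [mul_smul, hnx, smul_inv_smul]
    · have hn' : K.map (MulAut.conj n).toMonoidHom = K := by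
        ext y
        constructor
        · rintro ⟨k, hk, rfl⟩
          simpa using (Subgroup.mem_normalizer_iff.1 hn k).1 hk
        · intro hy
          refine ⟨n⁻¹ * y * n, ?_, by simp [mul_assoc]⟩
          have := (Subgroup.mem_normalizer_iff.1 (inv_mem hn) y).1 hy
          simpa using this
      conv_lhs => rw [← hn']
      rw [Subgroup.map_map]
      congr 1
      ext k
      simp [mul_assoc]
  · intro hC
    have key : ∀ a : X, (∀ k ∈ K, k • a = a) → ∃ n ∈ Subgroup.normalizer (K : Set G), n • a = x := by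
      intro a ha
      obtain ⟨u, hu⟩ := htrans a x
      have hle : K.map (MulAut.conj u).toMonoidHom ≤ MulAction.stabilizer G x := by
        rintro _ ⟨k, hk, rfl⟩
        show (u * k * u⁻¹) • x = x
        rw [← hu, mul_smul, mul_smul, inv_smul_smul, ha k hk]
      obtain ⟨h, hh, hKh⟩ := hC u hle
      refine ⟨h⁻¹ * u, ?_, ?_⟩
      · rw [Subgroup.mem_normalizer_iff]
        intro k
        constructor
        · intro hk
          have h1 : u * k * u⁻¹ ∈ K.map (MulAut.conj h).toMonoidHom := by
            rw [← hKh]; exact ⟨k, hk, by simp⟩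
          obtain ⟨k', hk', hk''⟩ := h1
          have : h⁻¹ * u * k * (h⁻¹ * u)⁻¹ = k' := by
            have : h * k' * h⁻¹ = u * k * u⁻¹ := by simpa using hk''
            calc h⁻¹ * u * k * (h⁻¹ * u)⁻¹ = h⁻¹ * (u * k * u⁻¹) * h := by group
              _ = k' := by rw [← this]; group
          rw [this]; exact hk'
        · intro hk
          have h1 : h * (h⁻¹ * u * k * (h⁻¹ * u)⁻¹) * h⁻¹ ∈ K.map (MulAut.conj u).toMonoidHom := by
            rw [hKh]; exact ⟨_, hk, by simp⟩
          obtain ⟨k', hk', hk''⟩ := h1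
          have : k = k' := by
            have e : u * k' * u⁻¹ = u * k * u⁻¹ := by simpa [mul_assoc] using hk''
            simpa using e.symm
          rw [this]; exact hk'
      · rw [mul_smul, hu]
        exact inv_smul_eq_iff.2 hh.symm
    intro a b ha hb
    obtain ⟨n₁, hn₁, e₁⟩ := key a ha
    obtain ⟨n₂, hn₂, e₂⟩ := key b hb
    exact ⟨n₂⁻¹ * n₁, mul_mem (inv_mem hn₂) hn₁, by rw [mul_smul, e₁, ← e₂, inv_smul_smul]⟩

end Cfsg.Agent.S3760
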