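import Cfsg.Statements.S3763
import Mathlib
import Cfsg.Agent.Lib.PGroupsExtraspecial
-- import your own Cfsg.Agent.* helpers here

set_option autoImplicit false
open Cfsg

namespace Cfsg.Agent.S3763

open Subgroup Cfsg.Agent.PGroupsBasic Cfsg.Agent.PGroupsExtraspecial
open scoped commutatorElement

section

variable {G : Type*} [Group G] [Finite G] {z : G}

theorem zpow_cases (hz : IsCentralPrime 2 z) {c : G} (hc : c ∈ zpowers z) : c = 1 ∨ c = z := by
  obtain ⟨k, rfl⟩ := exists_nat_pow hz hc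
  rcases Nat.mod_two_eq_zero_or_one k with h | h
  · exact Or.inl ((pow_eq_one_iff hz k).mpr (Nat.dvd_of_mod_eq_zero h))
  · exact Or.inr (((pow_inj_mod hz k 1).mpr (by rw [h])).trans (pow_one z))

theorem not_mem_zpowers_of_partner (hz : IsCentralPrime 2 z) {x y : G} (hxy : ⁅x, y⁆ = z) :
    x ∉ zpowers z := fun h => ne_one hz (by
  rw [← hxy, commutatorElement_eq_one_iff_mul_comm]
  exact (mem_center_iff.mp (zpowers_le_center hz h) y).symm)

theorem ea_bound (hz : IsCentralPrime 2 z) :
    ∀ (n : ℕ) (F : Subgroup G), CommInto z F → Nondeg z F → Nat.card F = 2 ^ (2 * n + 1) →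
    ∀ A : Subgroup G, A ≤ F → Cfsg.IsElementaryAbelian 2 A → Nat.card A ≤ 2 ^ (n + 1) := by
  intro n
  induction n with
  | zero =>
    intro F _ _ hF A hA _
    exact (Subgroup.card_le_of_le hA).trans (le_of_eq hF)
  | succ n ih =>
    intro F hF hnd hm A hA hAe
    by_cases hAz : A ≤ zpowers z
    · refine (Subgroup.card_le_of_le hAz).trans ?_
      rw [Nat.card_zpowers, hz.2]
      exact Nat.le_self_pow (by omega) 2
    obtain ⟨x, hxA, hxz⟩ := SetLike.not_le_iff_exists.mp hAz
    obtain ⟨y, hy, hxy⟩ := exists_partner hz hF hnd (hA hxA) hxz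
    have hperp := card_perp hz hF (hA hxA) hy hxy
    rw [hm, show 2 * (n + 1) + 1 = (2 * n + 1) + 2 by ring, pow_add] at hperp
    let f : A →* G := (commHom y (fun g => hF.mem_center hz hy g)).comp A.subtype
    have hker : f.ker.map A.subtype ≤ perp F x y := by
      rintro _ ⟨a, ha, rfl⟩
      refine ⟨⟨hA a.2, mem_centralizer_singleton.mpr (commutatorElement_eq_one_iff_mul_comm.mpr ?_)⟩,
        mem_centralizer_singleton.mpr ha⟩
      exact comm_of_isMulCommutative hAe.1 a.2 hxA
    have hle := ih (perp F x y) (hF.mono (perp_le F x y)) (nondeg_perp hz hF hnd (hA hxA) hy hxy)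
      (Nat.eq_of_mul_eq_mul_right (by norm_num) hperp.symm) _ hker
      (isElementaryAbelian_mono hAe (Subgroup.map_subtype_le _))
    rw [Subgroup.card_map_of_injective A.subtype_injective] at hle
    have hrange : Nat.card f.range ≤ 2 := by
      refine le_of_le_of_eq (Subgroup.card_le_of_le (show f.range ≤ zpowers z from ?_))
        (by rw [Nat.card_zpowers, hz.2])
      rintro _ ⟨a, rfl⟩
      exact hF a y hy
    rw [← f.ker.card_mul_index, Subgroup.index_ker, pow_succ _ (n + 1)]
    exact Nat.mul_le_mul hle hrange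

theorem ea_exists (hz : IsCentralPrime 2 z) :
    ∀ {F : Subgroup G} {l : List (ℕ × ℕ)}, Decomp 2 z F l → ∃ A : Subgroup G, A ≤ F ∧ z ∈ A ∧
      Cfsg.IsElementaryAbelian 2 A ∧ Nat.card A = 2 ^ ((l.filter fun q => q.1 == 0).length + 1) := by
  intro F l hd
  induction hd with
  | nil =>
    exact ⟨zpowers z, le_rfl, mem_zpowers z, isElementaryAbelian_zpowers (pow_prime_eq_one hz),
      by rw [Nat.card_zpowers, hz.2]; rfl⟩
  | @cons x y a b F F' l hxy hx hy hl hcx hcy hFeq ih =>
    obtain ⟨A, hAF, hzA, hAe, hAcard⟩ := ih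
    by_cases ha : a = 0
    · subst ha
      rw [pow_zero] at hx
      have hxA : x ∉ A := fun h => ne_one hz (by
        rw [← hxy, commutatorElement_eq_one_iff_mul_comm]
        exact (hcy x (hAF h)).symm)
      refine ⟨A ⊔ zpowers x, hFeq ▸ sup_le (hAF.trans le_sup_right) (zpowers_le.mpr
        (mem_sup_left (mem_plane_left x y z))), mem_sup_left hzA,
        isElementaryAbelian_sup hAe (isElementaryAbelian_zpowers hx) (fun u hu => ?_), ?_⟩
      · rw [mem_centralizer_iff]
        intro w hw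
        obtain ⟨j, rfl⟩ := mem_zpowers_iff.mp hw
        exact ((show Commute x u from hcx u (hAF hu)).zpow_left j).eq
      · have hord : orderOf x = 2 := orderOf_eq_of_pow_eq_one hx (fun h => hxA (h ▸ A.one_mem))
        have hnorm : zpowers x ≤ normalizer (A : Set G) := zpowers_le.mpr
          (centralizer_le_normalizer _ (mem_centralizer_iff.mpr fun u hu => (hcx u (hAF hu)).symm))
        haveI : (A.subgroupOf (A ⊔ zpowers x)).Normal :=
          normal_subgroupOf_of_le_normalizer (sup_le le_normalizer hnorm)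
        let xs : (A ⊔ zpowers x : Subgroup G) := ⟨x, mem_sup_right (mem_zpowers x)⟩
        have h1 := card_sup_zpowers (p := 2) (H := A.subgroupOf (A ⊔ zpowers x)) (x := xs)
          (by rw [← Subgroup.orderOf_coe]; exact hord) hxA
        have htop : A.subgroupOf (A ⊔ zpowers x) ⊔ zpowers xs = ⊤ := by
          apply map_injective (subtype_injective (A ⊔ zpowers x))
          rw [Subgroup.map_sup, subgroupOf_map_subtype, inf_eq_left.mpr le_sup_left,
            MonoidHom.map_zpowers, ← MonoidHom.range_eq_map, range_subtype]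
          rfl
        rw [htop, card_top, Nat.card_congr (subgroupOfEquivOfLe le_sup_left).toEquiv] at h1
        rw [h1, hAcard, ← pow_succ, List.filter_cons_of_pos (by rfl), List.length_cons]
    · refine ⟨A, hFeq ▸ hAF.trans le_sup_right, hzA, hAe, ?_⟩
      rw [hAcard, List.filter_cons_of_neg (by simpa using ha)]

theorem decomp_of_large (hz : IsCentralPrime 2 z) :
    ∀ (n : ℕ) (F : Subgroup G), CommInto z F → Nondeg z F → (∀ g ∈ F, g ^ 2 ∈ zpowers z) →
      Nat.card F = 2 ^ (2 * n + 1) → ∀ A : Subgroup G, A ≤ F → Cfsg.IsElementaryAbelian 2 A →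
        Nat.card A = 2 ^ (n + 1) → Decomp 2 z F (List.replicate n (0, 0)) := by
  intro n
  induction n with
  | zero =>
    intro F _ hnd _ hm A _ _ _
    rw [(eq_of_le_of_card_ge hnd.1 (by rw [hm, Nat.card_zpowers, hz.2]; norm_num)).symm]
    exact Decomp.nil
  | succ n ih =>
    intro F hF hnd hpow hm A hA hAe hAcard
    have hAz : ¬ A ≤ zpowers z := fun h => by
      have h1 := Subgroup.card_le_of_le h
      rw [hAcard, Nat.card_zpowers, hz.2] at h1
      have : 2 ^ 2 ≤ 2 ^ (n + 1 + 1) := Nat.pow_le_pow_right (by norm_num) (by omega)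
      omega
    obtain ⟨x, hxA, hxz⟩ := SetLike.not_le_iff_exists.mp hAz
    have hx := hA hxA
    have hx2 : x ^ 2 = 1 := hAe.2 x hxA
    obtain ⟨y₀, hy₀, hxy₀⟩ := exists_partner hz hF hnd hx hxz
    obtain ⟨y, hy, hxy, hy2⟩ : ∃ y ∈ F, ⁅x, y⁆ = z ∧ y ^ 2 = 1 := by
      rcases zpow_cases hz (hpow y₀ hy₀) with h | h
      · exact ⟨y₀, hy₀, hxy₀, h⟩
      · refine ⟨x * y₀, mul_mem hx hy₀, ?_, ?_⟩
        · rw [commutatorElement_mul_right_of_central (hxy₀ ▸ hz.1), commutatorElement_self,
            one_mul, hxy₀]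
        · have hyx : ⁅y₀, x⁆ = z := by
            rw [← commutatorElement_inv, hxy₀]
            exact inv_eq_iff_mul_eq_one.mpr (by rw [← pow_two]; exact pow_prime_eq_one hz)
          rw [mul_pow_of_central (hyx ▸ hz.1), hx2, h, hyx, one_mul,
            show Nat.choose 2 2 = 1 from rfl, pow_one, ← pow_two]
          exact pow_prime_eq_one hz
    have hperp := card_perp hz hF hx hy hxy
    rw [hm, show 2 * (n + 1) + 1 = (2 * n + 1) + 2 by ring, pow_add] at hperp
    have hpc : Nat.card (perp F x y) = 2 ^ (2 * n + 1) :=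
      Nat.eq_of_mul_eq_mul_right (by norm_num) hperp.symm
    let f : A →* G := (commHom y (fun g => hF.mem_center hz hy g)).comp A.subtype
    have hker : f.ker.map A.subtype ≤ perp F x y := by
      rintro _ ⟨a, ha, rfl⟩
      refine ⟨⟨hA a.2, mem_centralizer_singleton.mpr (commutatorElement_eq_one_iff_mul_comm.mpr ?_)⟩,
        mem_centralizer_singleton.mpr ha⟩
      exact comm_of_isMulCommutative hAe.1 a.2 hxA
    have hrange : Nat.card f.range ≤ 2 := by
      refine le_of_le_of_eq (Subgroup.card_le_of_le (show f.range ≤ zpowers z from ?_))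
        (by rw [Nat.card_zpowers, hz.2])
      rintro _ ⟨a, rfl⟩
      exact hF a y hy
    have he := isElementaryAbelian_mono hAe (Subgroup.map_subtype_le f.ker)
    have hle := ea_bound hz n _ (hF.mono (perp_le F x y)) (nondeg_perp hz hF hnd hx hy hxy) hpc _ hker he
    have hcard : Nat.card (f.ker.map A.subtype) = 2 ^ (n + 1) := by
      refine le_antisymm hle ?_
      rw [Subgroup.card_map_of_injective A.subtype_injective]
      refine Nat.le_of_mul_le_mul_right ?_ (show 0 < 2 by norm_num)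
      rw [← pow_succ, ← hAcard, ← f.ker.card_mul_index, Subgroup.index_ker]
      exact Nat.mul_le_mul_left _ hrange
    rw [List.replicate_succ]
    exact Decomp.of_pair hz hF hnd hx hy hxy (by rw [hx2, pow_zero]) (by rw [hy2, pow_zero])
      (ih _ (hF.mono (perp_le F x y)) (nondeg_perp hz hF hnd hx hy hxy)
        (fun g hg => hpow g (perp_le F x y hg)) hpc _ hker he hcard)

end

/-- The data for an extraspecial 2-group. -/
theorem analysis {G : Type*} [Group G] [Finite G] (h : Cfsg.IsExtraspecial 2 G) (n : ℕ)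
    (hn : Nat.card G = 2 ^ (2 * n + 1)) :
    Cfsg.PRankLE 2 (n + 1) G ∧ ¬ Cfsg.PRankLE 2 (n - 1) G ∧
      ∃ z : G, IsCentralPrime 2 z ∧
        ((¬ Cfsg.PRankLE 2 n G ∧ Decomp 2 z ⊤ (List.replicate n (0, 0))) ∨
         (Cfsg.PRankLE 2 n G ∧ Decomp 2 z ⊤ (List.replicate (n - 1) (0, 0) ++ [(1, 1)]))) := by
  haveI : Fact (Nat.Prime 2) := ⟨Nat.prime_two⟩
  obtain ⟨z, hz, hzc⟩ := extraspecial_exists_z h
  obtain ⟨n', hn'1, hn'⟩ := extraspecial_card h
  have hn1 : 1 ≤ n := by
    rw [hn] at hn'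
    have := Nat.pow_right_injective le_rfl hn'
    omega
  have hF := extraspecial_commInto h hzc ⊤
  have hnd := extraspecial_nondeg_top hzc
  have hpow : ∀ g ∈ (⊤ : Subgroup G), g ^ 2 ∈ zpowers z := fun g _ => hzc ▸ special_pow_mem_center h.1 g
  have hm : Nat.card (⊤ : Subgroup G) = 2 ^ (2 * n + 1) := by rw [card_top, hn]
  have hup : Cfsg.PRankLE 2 (n + 1) G := fun A hA hA2 => ea_bound hz n ⊤ hF hnd hm A le_top ⟨hA, hA2⟩
  have hd := exists_decomp_two hz hF hnd hpow n hm
  refine ⟨hup, fun hlow => ?_, z, hz, ?_⟩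
  · have hlt : ∀ k : ℕ, n ≤ k → 2 ^ (n - 1) < 2 ^ k := fun k hk =>
      Nat.pow_lt_pow_right (by norm_num) (by omega)
    rcases hd with d | d
    · obtain ⟨A, -, -, hA, hcard⟩ := ea_exists hz d
      rw [List.filter_eq_self.mpr (fun q hq => by rw [List.eq_of_mem_replicate hq]; rfl),
        List.length_replicate] at hcard
      exact absurd (hcard ▸ hlow A hA.1 hA.2) (Nat.not_le.mpr (hlt (n + 1) (by omega)))
    · obtain ⟨A, -, -, hA, hcard⟩ := ea_exists hz d
      rw [List.filter_append, List.filter_eq_self.mpr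
        (fun q hq => by rw [List.eq_of_mem_replicate hq]; rfl)] at hcard
      simp only [List.length_append, List.length_replicate, List.filter_cons, List.filter_nil,
        List.length_nil, Nat.one_ne_zero, beq_iff_eq, if_false, add_zero] at hcard
      exact absurd (hcard ▸ hlow A hA.1 hA.2) (Nat.not_le.mpr (hlt (n - 1 + 1) (by omega)))
  · by_cases hn0 : Cfsg.PRankLE 2 n G
    · refine Or.inr ⟨hn0, hd.resolve_left fun d => ?_⟩
      obtain ⟨A, -, -, hA, hcard⟩ := ea_exists hz d
      rw [List.filter_eq_self.mpr (fun q hq => by rw [List.eq_of_mem_replicate hq]; rfl),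
        List.length_replicate] at hcard
      exact absurd (hcard ▸ hn0 A hA.1 hA.2)
        (Nat.not_le.mpr (Nat.pow_lt_pow_right (by norm_num) (by omega)))
    · refine Or.inl ⟨hn0, ?_⟩
      unfold Cfsg.PRankLE at hn0
      push Not at hn0
      obtain ⟨A, hAc, hA2, hlt⟩ := hn0
      obtain ⟨k, hk⟩ := (isPGroup_of_isElementaryAbelian (p := 2) ⟨hAc, hA2⟩).exists_card_eq
      have hle : Nat.card A ≤ 2 ^ (n + 1) := ea_bound hz n ⊤ hF hnd hm A le_top ⟨hAc, hA2⟩
      rw [hk] at hlt hle
      have h1 := (Nat.pow_lt_pow_iff_right (by norm_num)).mp hlt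
      have h2 := (Nat.pow_le_pow_iff_right (by norm_num)).mp hle
      exact decomp_of_large hz n ⊤ hF hnd hpow hm A le_top ⟨hAc, hA2⟩ (by rw [hk]; congr 1; omega)

/-- Let E be an extraspecial 2-group of order 2^(2n+1). Then the largest elementary abelian subgroups of E have order 2^n or 2^(n+1); and two extraspecial 2-groups of the same order whose largest elementary abelian subgroups have the same order are isomorphic. -/
theorem result {E : Type*} [Group E] [Finite E] (hE : Cfsg.IsExtraspecial 2 E) (n : ℕ) (hn : Nat.card E = 2 ^ (2 * n + 1)) : ((Cfsg.PRankLE 2 n E ∧ ¬ Cfsg.PRankLE 2 (n - 1) E) ∨ (Cfsg.PRankLE 2 (n + 1) E ∧ ¬ Cfsg.PRankLE 2 n E)) ∧ ∀ (E' : Type*) [Group E'] [Finite E'], Cfsg.IsExtraspecial 2 E' → Nat.card E' = Nat.card E → (∀ k : ℕ, Cfsg.PRankLE 2 k E ↔ Cfsg.PRankLE 2 k E') → Nonempty (E ≃* E') := by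
  obtain ⟨hup, hlow, z, hz, hcases⟩ := analysis hE n hn
  refine ⟨?_, fun E' _ _ hE' hcard hiff => ?_⟩
  · by_cases hn0 : Cfsg.PRankLE 2 n E
    · exact Or.inl ⟨hn0, hlow⟩
    · exact Or.inr ⟨hup, hn0⟩
  · obtain ⟨-, -, z', hz', hcases'⟩ := analysis hE' n (hcard.trans hn)
    haveI : Fact (Nat.Prime 2) := ⟨Nat.prime_two⟩
    rcases hcases with ⟨h, d⟩ | ⟨h, d⟩ <;> rcases hcases' with ⟨h', d'⟩ | ⟨h', d'⟩
    · obtain ⟨Γ⟩ := d.iso hz hz' d'
      obtain ⟨e⟩ := Γ.nonempty_mulEquiv
      exact ⟨Subgroup.topEquiv.symm.trans (e.trans Subgroup.topEquiv)⟩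
    · exact absurd ((hiff n).2 h') h
    · exact absurd ((hiff n).1 h) h'
    · obtain ⟨Γ⟩ := d.iso hz hz' d'
      obtain ⟨e⟩ := Γ.nonempty_mulEquiv
      exact ⟨Subgroup.topEquiv.symm.trans (e.trans Subgroup.topEquiv)⟩

end Cfsg.Agent.S3763
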