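import Cfsg.Statements.S3765
import Cfsg.Agent.Lib.HallHigmanRep

set_option autoImplicit false
open Cfsg

namespace Cfsg.Agent.S3765

/-- Let p, q, r be distinct primes and let X, Q, V be subgroups of a finite group with X of order r normalizing the q-group Q and acting faithfully on it (X ∩ C(Q) = 1), and V a nontrivial elementary abelian p-group normalized by X and Q on which XQ acts faithfully. If q = 2 and r has the form 2^n + 1, assume in addition that Q is abelian. Then C_V(X) ≠ 1. -/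
theorem result {G : Type*} [Group G] [Finite G] {p q r : ℕ} (hp : p.Prime) (hq : q.Prime) (hr : r.Prime) (hpq : p ≠ q) (hpr : p ≠ r) (hqr : q ≠ r) (X Q V : Subgroup G) (hX : Nat.card X = r) (hQ : IsPGroup q Q) (hXQ : X ≤ Subgroup.normalizer (Q : Set G)) (hXfaith : X ⊓ Subgroup.centralizer (Q : Set G) = ⊥) (hV : Cfsg.IsElementaryAbelian p V) (hV1 : V ≠ ⊥) (hXV : X ≤ Subgroup.normalizer (V : Set G)) (hQV : Q ≤ Subgroup.normalizer (V : Set G)) (hfaith : (X ⊔ Q) ⊓ Subgroup.centralizer (V : Set G) = ⊥) (hexc : q = 2 → (∃ n : ℕ, r = 2 ^ n + 1) → IsMulCommutative Q) : V ⊓ Subgroup.centralizer (X : Set G) ≠ ⊥ := by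
  intro hCV
  have := Fact.mk hr
  have : IsCyclic X := isCyclic_of_prime_card hX
  obtain ⟨⟨x, hxX⟩, hgen⟩ := IsCyclic.exists_generator (α := X)
  have hXeq : X = Subgroup.zpowers x := by
    refine le_antisymm (fun g hg => ?_) (Subgroup.zpowers_le.mpr hxX)
    obtain ⟨k, hk⟩ := Subgroup.mem_zpowers_iff.mp (hgen ⟨g, hg⟩)
    exact Subgroup.mem_zpowers_iff.mpr ⟨k, congrArg Subtype.val hk⟩
  have hord : orderOf x = r := by rw [← Nat.card_zpowers, ← hXeq, hX]
  have hcent : Subgroup.centralizer ({x} : Set G) = Subgroup.centralizer (X : Set G) := by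
    rw [hXeq, Subgroup.zpowers_eq_closure, Subgroup.centralizer_closure]
  have hnc : ¬ Q ≤ Subgroup.centralizer {x ^ r ^ (1 - 1)} := by
    intro h
    rw [Nat.sub_self, pow_zero, pow_one, hcent, Subgroup.le_centralizer_iff] at h
    rw [inf_eq_left.mpr h] at hXfaith
    rw [hXfaith, Subgroup.card_bot] at hX
    exact hr.one_lt.ne hX
  obtain ⟨hE, hab⟩ := Cfsg.Agent.HallHigman.exceptional_of_no_fixed (e := 1) hp hr hq hqr.symm hpq
    le_rfl (x := x) (by rw [pow_one, ← hord, pow_orderOf_eq_one]) hV (hXV hxX) hQV (hXQ hxX) hQ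
    (eq_bot_iff.mpr (le_trans (inf_le_inf_right _ le_sup_right) hfaith.le)) hnc (hcent ▸ hCV)
  obtain ⟨hq2, a, j, ha1, ha, -, heq⟩ := hE.odd hr (hE.ne_two hq) hq
  obtain rfl : a = 1 := by omega
  exact hab (hexc hq2 ⟨j, by simpa using heq⟩)

end Cfsg.Agent.S3765
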