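import Cfsg.Statements.S3766
import Mathlib
import Cfsg.Agent.Lib.ComponentsCores
import Cfsg.Agent.Lib.ComponentsFitting
-- import your own Cfsg.Agent.* helpers here

set_option autoImplicit false
open Cfsg

namespace Cfsg.Agent.S3766

open scoped commutatorElement
open Cfsg.Agent.ComponentsFitting

/-- The elements centralizing the section `U/V`. -/
def secKer {G : Type*} [Group G] (U V : Subgroup G) [V.Normal] : Subgroup G :=
  (Subgroup.centralizer ((U.map (QuotientGroup.mk' V) : Subgroup (G ⧸ V)) : Set (G ⧸ V))).comap (QuotientGroup.mk' V)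

theorem mem_secKer {G : Type*} [Group G] (U V : Subgroup G) [V.Normal] (g : G) :
    g ∈ secKer U V ↔ ∀ u ∈ U, u * g * u⁻¹ * g⁻¹ ∈ V := by
  simp only [secKer, Subgroup.mem_comap, Subgroup.mem_centralizer_iff, Subgroup.coe_map, Set.forall_mem_image, SetLike.mem_coe]
  refine forall₂_congr fun u _ => ?_
  rw [← QuotientGroup.eq_one_iff (N := V), QuotientGroup.mk'_apply, QuotientGroup.mk'_apply,
    QuotientGroup.mk_mul, QuotientGroup.mk_mul, QuotientGroup.mk_mul, QuotientGroup.mk_inv, QuotientGroup.mk_inv,
    mul_inv_eq_one, mul_inv_eq_iff_eq_mul]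

/-- A nilpotent normal subgroup centralizes all chief factors. -/
theorem nilp_centralizes {G : Type*} [Group G] (F : Subgroup G) [F.Normal] [hF : Group.IsNilpotent F]
    (U V : Subgroup G) [U.Normal] [V.Normal] (hVU : V ≤ U)
    (hch : ∀ W : Subgroup G, W.Normal → V ≤ W → W ≤ U → W = V ∨ W = U) : ⁅U, F⁆ ≤ V := by
  rcases hch (⁅U, F⁆ ⊔ V) inferInstance le_sup_right (sup_le (Subgroup.commutator_le_left U F) hVU) with h | h
  · exact h ▸ le_sup_left
  · obtain ⟨n, hn⟩ := (Subgroup.isNilpotent_iff_lowerCentralSeries F).1 hF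
    haveI : ∀ i, (F.lowerCentralSeries i).Normal := by
      intro i
      induction i with
      | zero => simpa
      | succ i ih => rw [Subgroup.lowerCentralSeries_succ]; infer_instance
    have key : ∀ i, U ≤ F.lowerCentralSeries i ⊔ V := by
      intro i
      induction i with
      | zero =>
        refine h.symm.le.trans (sup_le_sup_right ?_ V)
        exact Subgroup.commutator_le_right U F
      | succ i ih =>
        refine h.symm.le.trans (sup_le ?_ le_sup_right)
        rw [Subgroup.commutator_le]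
        intro u hu f hf
        obtain ⟨a, ha, b, hb, rfl⟩ := Subgroup.mem_sup_of_normal_right.1 (ih hu)
        have e : ⁅a * b, f⁆ = (a * ⁅b, f⁆ * a⁻¹) * ⁅a, f⁆ := by simp [commutatorElement_def, mul_assoc]
        rw [e]
        refine mul_mem (Subgroup.mem_sup_right (‹V.Normal›.conj_mem _ ((Subgroup.commutator_le_left V ⊤) (Subgroup.commutator_mem_commutator hb (Subgroup.mem_top f))) a)) (Subgroup.mem_sup_left ?_)
        rw [Subgroup.lowerCentralSeries_succ]
        exact Subgroup.commutator_mem_commutator ha hf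
    have h2 := key n
    rw [hn, bot_sup_eq] at h2
    exact le_trans (Subgroup.commutator_le_left U F) h2

/-- Let G be a finite solvable group and N a normal subgroup of G. Call a pair V < U of normal subgroups of G a chief factor of G when no normal subgroup of G lies strictly between them; an element g centralizes the chief factor U/V when u g u⁻¹ g⁻¹ ∈ V for all u ∈ U. Then an element of G lies in the Fitting subgroup F(N) if and only if it lies in N and centralizes every chief factor of G; and also if and only if it lies in N and centralizes every chief factor U/V of G with U ≤ F(N). -/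
theorem result {G : Type*} [Group G] [Finite G] (hG : Group.IsSolvable G) (N : Subgroup G) [N.Normal] (g : G) : (g ∈ (Cfsg.fittingSubgroup ↥N).map N.subtype ↔ g ∈ N ∧ ∀ U V : Subgroup G, (U.Normal ∧ V.Normal ∧ V < U ∧ ∀ W : Subgroup G, W.Normal → V ≤ W → W ≤ U → W = V ∨ W = U) → ∀ u ∈ U, u * g * u⁻¹ * g⁻¹ ∈ V) ∧ (g ∈ (Cfsg.fittingSubgroup ↥N).map N.subtype ↔ g ∈ N ∧ ∀ U V : Subgroup G, (U.Normal ∧ V.Normal ∧ V < U ∧ ∀ W : Subgroup G, W.Normal → V ≤ W → W ≤ U → W = V ∨ W = U) → U ≤ (Cfsg.fittingSubgroup ↥N).map N.subtype → ∀ u ∈ U, u * g * u⁻¹ * g⁻¹ ∈ V) := by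
  classical
  let F : Subgroup G := (Cfsg.fittingSubgroup ↥N).map N.subtype
  haveI hFn : F.Normal := inferInstance
  have hFN : F ≤ N := Subgroup.map_subtype_le _
  haveI hFnil : Group.IsNilpotent F :=
    (Cfsg.Agent.ComponentsCores.isNilpotent_map_subtype_iff (H := N) _).2 inferInstance
  have fwd : g ∈ F → g ∈ N ∧ ∀ U V : Subgroup G, (U.Normal ∧ V.Normal ∧ V < U ∧ ∀ W : Subgroup G, W.Normal → V ≤ W → W ≤ U → W = V ∨ W = U) → ∀ u ∈ U, u * g * u⁻¹ * g⁻¹ ∈ V := by
    intro hg
    refine ⟨hFN hg, ?_⟩
    rintro U V ⟨hU, hV, hlt, hch⟩ u hu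
    exact nilp_centralizes F U V hlt.le hch (Subgroup.commutator_mem_commutator hu hg)
  have bwd : (g ∈ N ∧ ∀ U V : Subgroup G, (U.Normal ∧ V.Normal ∧ V < U ∧ ∀ W : Subgroup G, W.Normal → V ≤ W → W ≤ U → W = V ∨ W = U) → U ≤ F → ∀ u ∈ U, u * g * u⁻¹ * g⁻¹ ∈ V) → g ∈ F := by
    rintro ⟨hgN, hg⟩
    let I := {P : Subgroup G × Subgroup G // (P.1.Normal ∧ P.2.Normal ∧ P.2 < P.1 ∧ ∀ W : Subgroup G, W.Normal → P.2 ≤ W → W ≤ P.1 → W = P.2 ∨ W = P.1) ∧ P.1 ≤ F}
    let K : I → Subgroup G := fun i => haveI := i.2.1.2.1; secKer i.1.1 i.1.2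
    let C : Subgroup G := N ⊓ ⨅ i, K i
    have hgC : g ∈ C := ⟨hgN, Subgroup.mem_iInf.2 fun i => by
      haveI := i.2.1.2.1
      exact (mem_secKer _ _ g).2 (hg _ _ i.2.1 i.2.2)⟩
    haveI hCn : C.Normal := by
      haveI : ∀ i, (K i).Normal := fun i => by
        haveI := i.2.1.1
        haveI := i.2.1.2.1
        haveI : (i.1.1.map (QuotientGroup.mk' i.1.2)).Normal :=
          Subgroup.Normal.map inferInstance _ (QuotientGroup.mk'_surjective _)
        show ((Subgroup.centralizer _).comap _).Normal
        infer_instance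
      haveI : (⨅ i, K i).Normal := Subgroup.normal_iInf_normal inferInstance
      exact Subgroup.normal_inf_normal _ _
    have hred : ∀ U : Subgroup G, U.Normal → U ≤ F → U ≠ ⊥ → ⁅U, C⁆ < U := by
      intro U hU hUF hU1
      obtain ⟨V, ⟨hV, hVU⟩, hVmax⟩ := Set.Finite.exists_maximal
        (Set.toFinite {V : Subgroup G | V.Normal ∧ V < U}) ⟨⊥, inferInstance, bot_lt_iff_ne_bot.2 hU1⟩
      haveI := hV
      have hch : ∀ W : Subgroup G, W.Normal → V ≤ W → W ≤ U → W = V ∨ W = U := fun W hW h1 h2 => by
        by_cases h : W = U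
        · exact Or.inr h
        · exact Or.inl (le_antisymm (hVmax ⟨hW, lt_of_le_of_ne h2 h⟩ h1) h1)
      refine lt_of_le_of_lt (Subgroup.commutator_le.2 fun u hu c hc => ?_) hVU
      exact (mem_secKer U V c).1 (Subgroup.mem_iInf.1 hc.2 (⟨(U, V), ⟨hU, hV, hVU, hch⟩, hUF⟩ : I)) u hu
    have hsol : Group.IsSolvable C := inferInstance
    have hstep : ∀ M : Subgroup G, M.Normal → M ≤ C → ⁅M, M⁆ ≤ F → M ≤ F := by
      intro M hM hMC hMM
      haveI : ∀ i, (M.lowerCentralSeries i).Normal := by
        intro i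
        induction i with
        | zero => simpa
        | succ i ih => rw [Subgroup.lowerCentralSeries_succ]; infer_instance
      have hnil : Group.IsNilpotent M := by
        rw [Subgroup.isNilpotent_iff_lowerCentralSeries]
        have hle : ∀ i, M.lowerCentralSeries (i + 1) ≤ F := fun i =>
          (M.lowerCentralSeries_antitone (show 1 ≤ i + 1 by omega)).trans (by simpa using hMM)
        by_contra hno
        push Not at hno
        have hdec : ∀ i, Nat.card ↥(M.lowerCentralSeries (i + 1)) + i ≤ Nat.card ↥(M.lowerCentralSeries 1) := by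
          intro i
          induction i with
          | zero => simp
          | succ i ih =>
            have hl : M.lowerCentralSeries (i + 1 + 1) < M.lowerCentralSeries (i + 1) :=
              lt_of_le_of_lt (Subgroup.commutator_mono le_rfl hMC) (hred _ inferInstance (hle i) (hno _))
            have : Nat.card ↥(M.lowerCentralSeries (i + 1 + 1)) < Nat.card ↥(M.lowerCentralSeries (i + 1)) :=
              lt_of_le_of_ne (Subgroup.card_le_of_le hl.le) fun h => hl.ne (Subgroup.eq_of_le_of_card_ge hl.le h.ge)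
            omega
        have := hdec (Nat.card ↥(M.lowerCentralSeries 1))
        have : 0 < Nat.card ↥(M.lowerCentralSeries (Nat.card ↥(M.lowerCentralSeries 1) + 1)) := Nat.card_pos
        omega
      have hMN : M ≤ N := hMC.trans inf_le_left
      have h1 : (M.subgroupOf N) ≤ Cfsg.fittingSubgroup ↥N :=
        le_sSup ⟨inferInstance, by
          haveI := hnil
          exact Group.nilpotent_of_mulEquiv (Subgroup.subgroupOfEquivOfLe hMN).symm⟩
      have := Subgroup.map_mono (f := N.subtype) h1
      rwa [Subgroup.map_subgroupOf_eq_of_le hMN] at this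
    obtain ⟨n, hn⟩ := (Group.isSolvable_def ↥C).1 hsol
    have key : ∀ k, k ≤ n → ((derivedSeries C (n - k)).map C.subtype) ≤ F := by
      intro k
      induction k with
      | zero => intro _; simp [hn]
      | succ k ih =>
        intro hk
        refine hstep _ (inferInstance) (Subgroup.map_subtype_le _) ?_
        have h2 := ih (by omega)
        rw [show n - k = (n - (k + 1)) + 1 by omega, derivedSeries_succ, Subgroup.map_commutator] at h2
        exact h2
    have := key n le_rfl
    rw [Nat.sub_self, derivedSeries_zero, ← MonoidHom.range_eq_map, Subgroup.range_subtype] at this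
    exact this hgC
  exact ⟨⟨fwd, fun h => bwd ⟨h.1, fun U V h1 _ => h.2 U V h1⟩⟩,
    ⟨fun h => ⟨(fwd h).1, fun U V h1 _ => (fwd h).2 U V h1⟩, bwd⟩⟩

end Cfsg.Agent.S3766
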