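import Cfsg.Statements.S3767
import Cfsg.Agent.Lib.HallHigmanExtraspecialAction

set_option autoImplicit false
open Cfsg

namespace Cfsg.Agent.S3767

/-- Let P be an extraspecial p-group of order p^(2n+1) and H a cyclic group of order h prime to p acting on P (inside a common finite group: H normalizes P) so that C_P(x) = Z(P) for every non-identity x ∈ H. Then h divides p^n + 1 or h divides p^n − 1. -/
theorem result {G : Type*} [Group G] [Finite G] {p : ℕ} [Fact p.Prime] (P H : Subgroup G) (hP : Cfsg.IsExtraspecial p ↥P) (n : ℕ) (hn : Nat.card P = p ^ (2 * n + 1)) (hH : IsCyclic H) (hcop : (Nat.card H).Coprime p) (hHP : H ≤ Subgroup.normalizer (P : Set G)) (hfix : ∀ x ∈ H, x ≠ 1 → P ⊓ Subgroup.centralizer {x} = (Subgroup.center ↥P).map P.subtype) : Nat.card H ∣ p ^ n + 1 ∨ Nat.card H ∣ p ^ n - 1 := by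
  obtain ⟨g, hg⟩ := hH.exists_generator
  have hcard : orderOf (g : G) = Nat.card H := by
    rw [Subgroup.orderOf_coe, orderOf_eq_card_of_forall_mem_zpowers hg]
  by_cases hx1 : (g : G) = 1
  · rw [← hcard, hx1, orderOf_one]
    exact Or.inl (one_dvd _)
  rw [← hcard] at hcop ⊢
  refine Cfsg.Agent.HallHigman.dvd_pow_of_extraspecial P hP n hn hx1 (hHP g.2) hcop fun k hk a => ?_
  have h1 := SetLike.ext_iff.mp (hfix _ (H.pow_mem g.2 k) hk) (a : G)
  rw [Subgroup.mem_inf, Subgroup.mem_centralizer_singleton_iff] at h1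
  constructor
  · intro h
    obtain ⟨d, hd, hd'⟩ := h1.mp ⟨a.2, h.symm⟩
    rwa [← P.subtype_injective hd']
  · intro h
    exact (h1.mpr ⟨a, h, rfl⟩).2.symm

end Cfsg.Agent.S3767
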