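import Cfsg.Statements.S3768
import Mathlib
import Cfsg.Agent.S0035
import Cfsg.Agent.Lib.FrobeniusBasic
import Cfsg.Agent.Lib.CoprimeAction
import Cfsg.Agent.Lib.HallCore
-- import your own Cfsg.Agent.* helpers here

set_option autoImplicit false
open Cfsg

namespace Cfsg.Agent.S3768

open Cfsg.Agent.FrobeniusBasic

/-- Let G be a finite Frobenius group with Frobenius complement R and Frobenius kernel K (the identity together with the elements in no conjugate of R), and let N be a normal subgroup of G not containing K. Then G/N is a Frobenius group with Frobenius complement RN/N whose Frobenius kernel is the image of K. -/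
theorem result {G : Type*} [Group G] [Finite G] (R : Subgroup G) (hR : Cfsg.IsFrobeniusComplement R) (N : Subgroup G) [N.Normal] (hKN : ¬ Cfsg.frobeniusKernel R ⊆ N) : Cfsg.IsFrobeniusComplement (R.map (QuotientGroup.mk' N)) ∧ Cfsg.frobeniusKernel (R.map (QuotientGroup.mk' N)) = QuotientGroup.mk' N '' Cfsg.frobeniusKernel R := by
  obtain ⟨K, hK, hKn, hc⟩ := Cfsg.Agent.S0035.result R hR
  haveI := hKn
  have hfpf := fpf_of_complement (K := K) hR hc.disjoint
  have hKR : Nat.card K * Nat.card R = Nat.card G := hc.card_mul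
  have hcop : (Nat.card R).Coprime (Nat.card K) := by
    have e : Nat.card K = R.index := by
      have h1 := R.card_mul_index
      rw [← hKR, mul_comm (Nat.card K)] at h1
      exact (Nat.eq_of_mul_eq_mul_left Nat.card_pos h1).symm
    rw [e]; exact coprime_card_index hR
  have hKN' : ¬ K ≤ N := fun h => hKN (fun x hx => h (show x ∈ (K : Set G) by rwa [hK]))
  have hNK : N ≤ K := by
    intro x hx
    by_contra hxK
    have hx' : x ∉ Cfsg.frobeniusKernel R := by rw [← hK]; exact hxK
    rw [frobeniusKernel_eq_compl, Set.mem_compl_iff, not_not, mem_conjClosure] at hx'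
    obtain ⟨hx1, g, hg⟩ := hx'
    have hyN : g⁻¹ * x * g ∈ N := by simpa using ‹N.Normal›.conj_mem x hx g⁻¹
    have hy1 : g⁻¹ * x * g ≠ 1 := by
      intro h
      apply hx1
      calc x = g * (g⁻¹ * x * g) * g⁻¹ := by group
        _ = 1 := by rw [h]; group
    generalize g⁻¹ * x * g = y at hg hyN hy1
    let f : K → K := fun k => ⟨(k : G) * (y * (k : G)⁻¹ * y⁻¹), K.mul_mem k.2 (hKn.conj_mem _ (K.inv_mem k.2) y)⟩
    have hf : Function.Injective f := by
      intro a b hab
      have h : (a : G) * (y * (a : G)⁻¹ * y⁻¹) = (b : G) * (y * (b : G)⁻¹ * y⁻¹) := congrArg Subtype.val hab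
      have h1 : (b : G)⁻¹ * a ∈ K ⊓ Subgroup.centralizer ({y} : Set G) := by
        refine ⟨K.mul_mem (K.inv_mem b.2) a.2, Subgroup.mem_centralizer_singleton_iff.2 ?_⟩
        calc (b : G)⁻¹ * a * y = (b : G)⁻¹ * ((a : G) * (y * (a : G)⁻¹ * y⁻¹)) * y * a := by group
          _ = y * ((b : G)⁻¹ * a) := by rw [h]; group
      rw [hfpf y hg hy1, Subgroup.mem_bot, inv_mul_eq_one] at h1
      exact Subtype.ext h1.symm
    apply hKN'
    intro k hk
    obtain ⟨j, hj⟩ := (Finite.injective_iff_surjective.1 hf) ⟨k, hk⟩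
    have e : (j : G) * (y * (j : G)⁻¹ * y⁻¹) = k := congrArg Subtype.val hj
    rw [← e]
    have := N.mul_mem (‹N.Normal›.conj_mem y hyN (j : G)) (N.inv_mem hyN)
    simpa [mul_assoc] using this
  let π := QuotientGroup.mk' N
  haveI hKbn : (K.map π).Normal := Subgroup.Normal.map hKn π (QuotientGroup.mk'_surjective N)
  have hinj : Function.Injective (π.subgroupMap R) := by
    rw [injective_iff_map_eq_one]
    intro r hr
    have h1 : (r : G) ∈ N := (QuotientGroup.eq_one_iff _).1 (congrArg Subtype.val hr)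
    have : (r : G) ∈ K ⊓ R := ⟨hNK h1, r.2⟩
    rw [hc.disjoint.eq_bot, Subgroup.mem_bot] at this
    exact Subtype.ext this
  have hRcard : Nat.card (R.map π) = Nat.card R :=
    (Nat.card_congr (Equiv.ofBijective _ ⟨hinj, π.subgroupMap_surjective R⟩)).symm
  have hKcard : Nat.card (K.map π) * Nat.card N = Nat.card K := Cfsg.Agent.HallCore.card_map_mk'_mul N K hNK
  have hcb : Subgroup.IsComplement' (K.map π) (R.map π) := by
    apply Subgroup.isComplement'_of_coprime
    · have h1 : Nat.card (G ⧸ N) * Nat.card N = Nat.card G := (Subgroup.card_eq_card_quotient_mul_card_subgroup N).symm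
      rw [hRcard]
      refine Nat.eq_of_mul_eq_mul_right (m := Nat.card N) Nat.card_pos ?_
      rw [h1, ← hKR, ← hKcard]
      ring
    · rw [hRcard]
      exact Nat.Coprime.coprime_dvd_left (Subgroup.card_map_dvd _ _) hcop.symm
  have hKb : K.map π ≠ ⊥ := by
    intro h
    rw [Subgroup.map_eq_bot_iff, QuotientGroup.ker_mk'] at h
    exact hKN' h
  have hRb : R.map π ≠ ⊥ := by
    intro h
    apply hR.1
    apply Subgroup.eq_bot_of_card_eq
    rw [← hRcard, h, Subgroup.card_bot]
  have hFb : Cfsg.IsFrobeniusComplement (R.map π) := by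
    refine isFrobeniusComplement_of_fpf hcb hKb hRb ?_
    rintro _ ⟨r, hr, rfl⟩ hr1
    rw [Subgroup.eq_bot_iff_forall]
    rintro _ ⟨⟨k, hk, rfl⟩, hC⟩
    replace hC : π k * π r = π r * π k := Subgroup.mem_centralizer_singleton_iff.1 hC
    have hr0 : r ≠ 1 := fun h => hr1 (by rw [h, map_one])
    have hN' : r ∈ Subgroup.normalizer (N : Set G) := by
      rw [Subgroup.normalizer_eq_top_iff.2 inferInstance]; trivial
    have hcop' : (orderOf r).Coprime (Nat.card N) :=
      Nat.Coprime.coprime_dvd_right (Subgroup.card_dvd_of_le hNK)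
        (Nat.Coprime.coprime_dvd_left (Subgroup.orderOf_dvd_natCard _ hr) hcop)
    have hfix : k⁻¹ * r * k * r⁻¹ ∈ N := by
      rw [← QuotientGroup.ker_mk' N, MonoidHom.mem_ker, map_mul, map_mul, map_mul, map_inv, map_inv]
      show (π k)⁻¹ * π r * π k * (π r)⁻¹ = 1
      rw [mul_assoc (π k)⁻¹, ← hC]; group
    obtain ⟨c, hc1, hc2⟩ := Cfsg.Agent.CoprimeAction.exists_fixed_mem_coset_zpowers hN' hcop' k hfix
    have hcK : c ∈ K := by
      have := K.mul_mem hk (hNK hc2)
      simpa using this
    have : c ∈ K ⊓ Subgroup.centralizer ({r} : Set G) := ⟨hcK, Subgroup.mem_centralizer_singleton_iff.2 hc1.symm⟩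
    rw [hfpf r hr hr0, Subgroup.mem_bot] at this
    subst this
    rw [mul_one] at hc2
    exact (QuotientGroup.eq_one_iff k).2 (by simpa using N.inv_mem hc2)
  refine ⟨hFb, ?_⟩
  rw [frobeniusKernel_eq hFb hcb, ← hK, Subgroup.coe_map]

end Cfsg.Agent.S3768
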