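import Cfsg.Statements.S3771
import Mathlib
import Cfsg.Agent.Lib.PGroupsBasic
-- import your own Cfsg.Agent.* helpers here

set_option autoImplicit false
open Cfsg

namespace Cfsg.Agent.S3771


/-- Let p be a prime and R a finite p-group of p-rank at most 2 (no elementary abelian subgroup of order p³) in which every element has order dividing p. Then R has order at most p³. -/
theorem result {R : Type*} [Group R] [Finite R] {p : ℕ} [Fact p.Prime] (hR : IsPGroup p R) (hrank : Cfsg.PRankLE p 2 R) (hexp : ∀ x : R, x ^ p = 1) : Nat.card R ≤ p ^ 3 := by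
  classical
  obtain ⟨A, ⟨hAn, hAab⟩, hAmax⟩ := Set.Finite.exists_maximal (Set.toFinite {A : Subgroup R | A.Normal ∧ IsMulCommutative A}) ⟨⊥, inferInstance, inferInstance⟩
  haveI := hAn
  have hAC : A ≤ Subgroup.centralizer (A : Set R) := Cfsg.Agent.PGroupsBasic.le_centralizer_of_isMulCommutative hAab
  have hCA : Subgroup.centralizer (A : Set R) = A := by
    by_contra hne
    have hlt : A < Subgroup.centralizer (A : Set R) := lt_of_le_of_ne hAC (Ne.symm hne)
    let C := (Subgroup.centralizer (A : Set R)).map (QuotientGroup.mk' A)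
    haveI : C.Normal := Subgroup.Normal.map inferInstance _ (QuotientGroup.mk'_surjective A)
    have hC : C ≠ ⊥ := by
      intro h
      rw [Subgroup.map_eq_bot_iff, QuotientGroup.ker_mk'] at h
      exact not_le_of_gt hlt h
    have h2 := Cfsg.Agent.PGroupsBasic.inf_center_ne_bot (hR.to_quotient A) hC
    obtain ⟨y, hy, hy1⟩ := (Subgroup.bot_or_exists_ne_one _).resolve_left h2
    obtain ⟨x, hx, rfl⟩ := hy.1
    have hxA : x ∉ A := fun h => hy1 ((QuotientGroup.eq_one_iff x).2 h)
    let B := A ⊔ Subgroup.zpowers x
    have hBn : B.Normal := by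
      constructor
      intro b hb g
      have hBQ : B = (Subgroup.zpowers (QuotientGroup.mk' A x)).comap (QuotientGroup.mk' A) := by
        rw [← MonoidHom.map_zpowers, Subgroup.comap_map_eq, QuotientGroup.ker_mk', sup_comm]
      rw [hBQ, Subgroup.mem_comap] at hb ⊢
      rw [map_mul, map_mul, map_inv]
      have hc : QuotientGroup.mk' A b ∈ Subgroup.center (R ⧸ A) := by
        obtain ⟨i, hi⟩ := Subgroup.mem_zpowers_iff.1 hb
        rw [← hi]
        exact Subgroup.zpow_mem _ hy.2 i
      rw [Subgroup.mem_center_iff.1 hc, mul_inv_cancel_right]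
      exact hb
    have hBab : IsMulCommutative B := by
      apply Cfsg.Agent.PGroupsBasic.isMulCommutative_of_le_centralizer
      have h1 : A ≤ Subgroup.centralizer ({x} : Set R) := fun a ha =>
        Subgroup.mem_centralizer_singleton_iff.2 (Subgroup.mem_centralizer_iff.1 hx a ha)
      refine sup_le (fun a ha => ?_) (Subgroup.zpowers_le.2 ?_)
      · have hz : B ≤ Subgroup.centralizer ({a} : Set R) := by
          refine sup_le (fun a' ha' => Subgroup.mem_centralizer_singleton_iff.2 ?_) (Subgroup.zpowers_le.2 ?_)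
          · exact (Subgroup.mem_centralizer_iff.1 (hAC ha) a' ha')
          · exact Subgroup.mem_centralizer_singleton_iff.2 (Subgroup.mem_centralizer_iff.1 hx a ha).symm
        exact Subgroup.mem_centralizer_iff.2 fun b hb => Subgroup.mem_centralizer_singleton_iff.1 (hz hb)
      · have hz : B ≤ Subgroup.centralizer ({x} : Set R) :=
          sup_le h1 (Subgroup.zpowers_le.2 (Subgroup.mem_centralizer_singleton_iff.2 rfl))
        exact Subgroup.mem_centralizer_iff.2 fun b hb => Subgroup.mem_centralizer_singleton_iff.1 (hz hb)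
    exact hxA (hAmax ⟨hBn, hBab⟩ le_sup_left (Subgroup.mem_sup_right (Subgroup.mem_zpowers x)))
  have hcard : Nat.card A ≤ p ^ 2 := hrank A hAab (fun a _ => hexp a)
  by_cases hcen : A ≤ Subgroup.center R
  · have htop : A = ⊤ := by
      rw [← hCA, eq_top_iff]
      intro x _
      exact Subgroup.mem_centralizer_iff.2 fun a ha => (Subgroup.mem_center_iff.1 (hcen ha) x).symm
    rw [← Subgroup.card_top (G := R), ← htop]
    exact hcard.trans (Nat.pow_le_pow_right (Fact.out : p.Prime).pos (by norm_num))
  · obtain ⟨a, ha, hac⟩ := SetLike.not_le_iff_exists.1 hcen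
    let Z := A ⊓ Subgroup.center R
    have hA1 : A ≠ ⊥ := by
      intro h; apply hcen; rw [h]; exact bot_le
    have hZ := Cfsg.Agent.PGroupsBasic.inf_center_ne_bot hR hA1
    obtain ⟨j, hj⟩ := (hR.to_subgroup Z).exists_card_eq
    have hj1 : 1 ≤ j := by
      by_contra h
      push Not at h
      apply hZ
      refine Subgroup.eq_bot_of_card_eq _ ?_
      rw [hj, show j = 0 by omega, pow_zero]
    have hZp : p ≤ Nat.card Z := by
      rw [hj]
      exact Nat.le_self_pow (by omega) p
    have hsup : Z ⊔ Subgroup.zpowers a = A := by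
      refine Subgroup.eq_of_le_of_card_ge (sup_le inf_le_left (Subgroup.zpowers_le.2 ha)) ?_
      have hlt : Z < Z ⊔ Subgroup.zpowers a := by
        refine lt_of_le_of_ne le_sup_left fun h => hac ?_
        have : a ∈ Z := h ▸ Subgroup.mem_sup_right (Subgroup.mem_zpowers a)
        exact this.2
      obtain ⟨i, hi⟩ := (hR.to_subgroup (Z ⊔ Subgroup.zpowers a)).exists_card_eq
      have h2 : Nat.card Z < Nat.card ↥(Z ⊔ Subgroup.zpowers a) :=
        lt_of_le_of_ne (Subgroup.card_le_of_le hlt.le) fun h => hlt.ne (Subgroup.eq_of_le_of_card_ge hlt.le h.ge)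
      rw [hi, hj] at h2
      have h3 := (Nat.pow_lt_pow_iff_right (Fact.out : p.Prime).one_lt).1 h2
      rw [hi]
      exact hcard.trans (Nat.pow_le_pow_right (Fact.out : p.Prime).pos (by omega))
    have hCa : Subgroup.centralizer ({a} : Set R) = A := by
      refine le_antisymm ?_ ?_
      · rw [← hCA]
        intro x hx
        have h1 : A ≤ Subgroup.centralizer ({x} : Set R) := by
          rw [← hsup]
          refine sup_le (fun z hz => Subgroup.mem_centralizer_singleton_iff.2 ?_) (Subgroup.zpowers_le.2 ?_)
          · exact (Subgroup.mem_center_iff.1 hz.2 x).symm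
          · exact Subgroup.mem_centralizer_singleton_iff.2 (Subgroup.mem_centralizer_singleton_iff.1 hx).symm
        exact Subgroup.mem_centralizer_iff.2 fun b hb => Subgroup.mem_centralizer_singleton_iff.1 (h1 hb)
      · exact hAC.trans (Subgroup.centralizer_le (by simpa using ha))
    obtain ⟨i, hi⟩ := hR.index (Subgroup.centralizer ({a} : Set R))
    have hinj : Nat.card (R ⧸ Subgroup.centralizer ({a} : Set R)) < p ^ 2 := by
      let f : R ⧸ Subgroup.centralizer ({a} : Set R) → {x : A // x ≠ 1} := fun q =>
        ⟨⟨q.out * a * (q.out)⁻¹, hAn.conj_mem a ha _⟩, by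
          intro h
          have h' : q.out * a * (q.out)⁻¹ = 1 := congrArg Subtype.val h
          rw [mul_inv_eq_one, mul_eq_left] at h'
          exact hac (h' ▸ one_mem _)⟩
      have hf : Function.Injective f := by
        intro q r h
        have h' : q.out * a * (q.out)⁻¹ = r.out * a * (r.out)⁻¹ := congrArg (fun x => (x.1 : R)) h
        rw [← QuotientGroup.out_eq' q, ← QuotientGroup.out_eq' r, QuotientGroup.eq,
          Subgroup.mem_centralizer_singleton_iff]
        calc (q.out)⁻¹ * r.out * a = (q.out)⁻¹ * (r.out * a * (r.out)⁻¹) * r.out := by group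
          _ = (q.out)⁻¹ * (q.out * a * (q.out)⁻¹) * r.out := by rw [h']
          _ = a * ((q.out)⁻¹ * r.out) := by group
      refine lt_of_le_of_lt (Nat.card_le_card_of_injective f hf) (lt_of_lt_of_le ?_ hcard)
      exact Finite.card_subtype_lt (p := fun x : A => x ≠ 1) (x := 1) (by simp)
    rw [← Subgroup.index, hi, Nat.pow_lt_pow_iff_right (Fact.out : p.Prime).one_lt] at hinj
    rw [← Subgroup.index_mul_card (Subgroup.centralizer ({a} : Set R)), hi, hCa]
    calc p ^ i * Nat.card A ≤ p ^ 1 * p ^ 2 :=
          Nat.mul_le_mul (Nat.pow_le_pow_right (Fact.out : p.Prime).pos (by omega)) hcard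
      _ = p ^ 3 := by ring

end Cfsg.Agent.S3771
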