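import Cfsg.Statements.S3772
import Mathlib
import Cfsg.Agent.Lib.PGroupsBasic
-- import your own Cfsg.Agent.* helpers here

set_option autoImplicit false
open Cfsg

namespace Cfsg.Agent.S3772

open scoped commutatorElement

/-- Let G be a finite 2-group whose Frattini subgroup Φ(G) has order 2, with |G : Φ(G)| = 2^d, and let j be the number of elements x of G with x² = 1. Then j = 2^d, or j = 2^d + 2^(d−r) or j = 2^d − 2^(d−r) for some positive integer r with 2r ≤ d. Moreover if d = 2r and j is 2^d + 2^r or 2^d − 2^r, then G is extraspecial. -/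
theorem result {G : Type*} [Group G] [Finite G] (hG : IsPGroup 2 G) (hΦ : Nat.card (frattini G) = 2) (d : ℕ) (hd : (frattini G).index = 2 ^ d) : (Nat.card {x : G // x ^ 2 = 1} = 2 ^ d ∨ ∃ r : ℕ, 1 ≤ r ∧ 2 * r ≤ d ∧ (Nat.card {x : G // x ^ 2 = 1} = 2 ^ d + 2 ^ (d - r) ∨ Nat.card {x : G // x ^ 2 = 1} + 2 ^ (d - r) = 2 ^ d)) ∧ (∀ r : ℕ, d = 2 * r → (Nat.card {x : G // x ^ 2 = 1} = 2 ^ d + 2 ^ r ∨ Nat.card {x : G // x ^ 2 = 1} + 2 ^ r = 2 ^ d) → Cfsg.IsExtraspecial 2 G) := by
  classical
  haveI : Fintype G := Fintype.ofFinite G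
  let Φ : Subgroup G := frattini G
  have hΦn : Φ.Normal := inferInstance
  have hΦc : Φ ≤ Subgroup.center G := Cfsg.Agent.PGroupsBasic.le_center_of_card_eq_prime (p := 2) hG hΦ
  obtain ⟨z, hz1, hzΦ⟩ : ∃ z : G, z ≠ 1 ∧ z ∈ Φ := by
    by_contra h
    push Not at h
    have : Φ = ⊥ := (Subgroup.eq_bot_iff_forall _).2 fun x hx => by
      by_contra hx1
      exact h x hx1 hx
    have h2 : Nat.card Φ = 1 := by rw [this]; simp
    have h3 : Nat.card Φ = 2 := hΦ
    omega
  have hmem : ∀ u ∈ Φ, u = 1 ∨ u = z := by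
    intro u hu
    by_contra h
    push Not at h
    have h2 : Nat.card Φ = 2 := hΦ
    have h3 : ({1, z, u} : Set G).ncard ≤ (Φ : Set G).ncard :=
      Set.ncard_le_ncard (by
        intro y hy
        rcases hy with rfl | rfl | rfl
        · exact one_mem _
        · exact hzΦ
        · exact hu)
    rw [← Nat.card_coe_set_eq (Φ : Set G)] at h3
    rw [Set.ncard_insert_of_notMem (by simp [hz1.symm, h.1.symm]), Set.ncard_pair (Ne.symm h.2)] at h3
    change 2 + 1 ≤ Nat.card Φ at h3
    omega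
  have hz2 : z * z = 1 := by
    rcases hmem _ (mul_mem hzΦ hzΦ) with h | h
    · exact h
    · exact absurd (mul_eq_left.1 h) hz1
  let χ : G → ℤ := fun u => if u = 1 then 1 else -1
  have hχmul : ∀ u ∈ Φ, ∀ v ∈ Φ, χ (u * v) = χ u * χ v := by
    intro u hu v hv
    rcases hmem u hu with rfl | rfl <;> rcases hmem v hv with rfl | rfl <;> simp [χ, hz1, hz2]
  have hsq : ∀ x : G, x ^ 2 ∈ Φ := fun x => Cfsg.Agent.PGroupsBasic.pow_mem_frattini hG x
  have hcm : ∀ x y : G, ⁅x, y⁆ ∈ Φ := fun x y =>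
    Cfsg.Agent.PGroupsBasic.commutator_le_frattini hG (Subgroup.commutator_mem_commutator (Subgroup.mem_top x) (Subgroup.mem_top y))
  have hcc : ∀ x y : G, ⁅x, y⁆ ∈ Subgroup.center G := fun x y => hΦc (hcm x y)
  let s : ℤ := ∑ x : G, χ (x ^ 2)
  let C : Finset G := Finset.univ.filter (fun w => w ∈ Subgroup.center G)
  have hsym : ∀ x w : G, χ (x ^ 2) * χ ((x * w) ^ 2) = χ (w ^ 2) * χ ⁅w, x⁆ := by
    intro x w
    rw [Cfsg.Agent.PGroupsBasic.mul_pow_of_central (hcc w x) 2]
    have h22 : (2 : ℕ).choose 2 = 1 := by decide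
    rw [h22, pow_one]
    have h1 := hcm w x
    have h2 : x ^ 2 * w ^ 2 ∈ Φ := mul_mem (hsq x) (hsq w)
    rw [hχmul _ h2 _ h1, hχmul _ (hsq x) _ (hsq w)]
    have : χ (x ^ 2) * χ (x ^ 2) = 1 := by
      show (if x ^ 2 = 1 then (1 : ℤ) else -1) * (if x ^ 2 = 1 then (1 : ℤ) else -1) = 1
      split_ifs <;> norm_num
    calc χ (x ^ 2) * (χ (x ^ 2) * χ (w ^ 2) * χ ⁅w, x⁆)
        = (χ (x ^ 2) * χ (x ^ 2)) * χ (w ^ 2) * χ ⁅w, x⁆ := by ring
      _ = χ (w ^ 2) * χ ⁅w, x⁆ := by rw [this, one_mul]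
  have hinner : ∀ w : G, (∑ x : G, χ ⁅w, x⁆) = if w ∈ Subgroup.center G then (Fintype.card G : ℤ) else 0 := by
    intro w
    split_ifs with hw
    · have : ∀ x : G, χ ⁅w, x⁆ = 1 := fun x => by
        have h : ⁅w, x⁆ = 1 := commutatorElement_eq_one_iff_mul_comm.2 (Subgroup.mem_center_iff.1 hw x).symm
        simp [χ, h]
      simp [this]
    · obtain ⟨y, hy⟩ : ∃ y, ¬ y * w = w * y := by
        by_contra h
        push Not at h
        exact hw (Subgroup.mem_center_iff.2 h)
      have hy' : χ ⁅w, y⁆ = -1 := by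
        have : ⁅w, y⁆ ≠ 1 := fun h => hy (commutatorElement_eq_one_iff_mul_comm.1 h).symm
        simp [χ, this]
      have h1 : (∑ x : G, χ ⁅w, x⁆) = ∑ x : G, χ ⁅w, y * x⁆ :=
        (Fintype.sum_equiv (Equiv.mulLeft y) _ _ fun x => rfl).symm
      have h2 : ∀ x : G, χ ⁅w, y * x⁆ = - χ ⁅w, x⁆ := fun x => by
        rw [Cfsg.Agent.PGroupsBasic.commutatorElement_mul_right_of_central (hcc w x) , hχmul _ (hcm w y) _ (hcm w x), hy', neg_one_mul]
      simp only [h2, Finset.sum_neg_distrib] at h1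
      linarith
  have hs2 : s * s = (Fintype.card G : ℤ) * ∑ w ∈ C, χ (w ^ 2) := by
    calc s * s = ∑ x : G, ∑ y : G, χ (x ^ 2) * χ (y ^ 2) := Finset.sum_mul_sum _ _ _ _
      _ = ∑ x : G, ∑ w : G, χ (w ^ 2) * χ ⁅w, x⁆ := by
          refine Finset.sum_congr rfl fun x _ => ?_
          rw [← Fintype.sum_equiv (Equiv.mulLeft x) (fun w => χ (x ^ 2) * χ ((x * w) ^ 2)) (fun y => χ (x ^ 2) * χ (y ^ 2)) (fun _ => rfl)]
          exact Finset.sum_congr rfl fun w _ => hsym x w
      _ = ∑ w : G, χ (w ^ 2) * ∑ x : G, χ ⁅w, x⁆ := by rw [Finset.sum_comm]; simp [Finset.mul_sum]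
      _ = (Fintype.card G : ℤ) * ∑ w ∈ C, χ (w ^ 2) := by
          simp [hinner, C, Finset.sum_filter, Finset.mul_sum, mul_comm]
  have hj : 2 * (Nat.card {x : G // x ^ 2 = 1} : ℤ) = (Fintype.card G : ℤ) + s := by
    have h1 : ∀ x : G, χ (x ^ 2) = 2 * (if x ^ 2 = 1 then 1 else 0) - 1 := fun x => by
      show (if x ^ 2 = 1 then (1 : ℤ) else -1) = _
      split_ifs <;> norm_num
    simp only [s, h1, Finset.sum_sub_distrib, ← Finset.mul_sum, Finset.sum_boole,
      Nat.card_eq_fintype_card, Fintype.card_subtype]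
    simp
  have hGcard : Fintype.card G = 2 ^ (d + 1) := by
    rw [← Nat.card_eq_fintype_card, ← (frattini G).card_mul_index, hΦ, hd, pow_succ, mul_comm]
  obtain ⟨c, hc⟩ := (hG.to_subgroup (Subgroup.center G)).exists_card_eq
  have hCcard : C.card = 2 ^ c := by
    rw [← hc, Nat.card_eq_fintype_card, Fintype.card_subtype]
  rw [hGcard] at hs2 hj
  push_cast at hs2 hj
  rw [pow_succ] at hj
  have hc1 : 1 ≤ c := by
    by_contra h
    push Not at h
    have h2 := Subgroup.card_le_of_le hΦc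
    rw [hc, show c = 0 by omega] at h2
    have h3 : Nat.card Φ = 2 := hΦ
    rw [h3, pow_zero] at h2
    omega
  have main : s = 0 ∨ (c < d + 1 ∧ ∃ r : ℕ, 1 ≤ r ∧ 2 * r + c = d + 1 ∧
      (s = 2 * 2 ^ (d - r) ∨ s = -(2 * 2 ^ (d - r)))) := by
    by_cases hall : ∀ w ∈ C, χ (w ^ 2) = 1
    · rw [Finset.sum_congr rfl hall, Finset.sum_const, hCcard, nsmul_one] at hs2
      push_cast at hs2
      rw [← pow_add] at hs2
      have hlt : c < d + 1 := by
        by_contra hge
        push Not at hge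
        have hle : 2 ^ c ≤ 2 ^ (d + 1) := by
          rw [← hc, ← hGcard, ← Nat.card_eq_fintype_card]
          exact Subgroup.card_le_card_group _
        have : c = d + 1 := le_antisymm ((Nat.pow_le_pow_iff_right (by norm_num)).1 hle) hge
        have htop : Subgroup.center G = ⊤ := Subgroup.eq_top_of_card_eq _ (by rw [hc, this, ← hGcard, Nat.card_eq_fintype_card])
        have hsqone : ∀ x : G, x ^ 2 = 1 := fun x => by
          have h := hall x (by simp [C, htop])
          by_contra hne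
          simp [χ, hne] at h
        have : frattini G = ⊥ := Cfsg.Agent.PGroupsBasic.frattini_eq_bot_of_elementary (p := 2)
          (fun a b => (Subgroup.mem_center_iff.1 (htop ▸ Subgroup.mem_top a : a ∈ Subgroup.center G) b).symm) hsqone
        rw [this] at hΦ
        simp at hΦ
      right
      refine ⟨hlt, ?_⟩
      have habs : (Int.natAbs s) * Int.natAbs s = 2 ^ (d + 1 + c) := by
        have := congrArg Int.natAbs hs2
        rw [Int.natAbs_mul, Int.natAbs_pow] at this
        simpa using this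
      obtain ⟨k, hk, hk'⟩ := (Nat.dvd_prime_pow Nat.prime_two).1 ⟨_, habs.symm⟩
      rw [hk', ← pow_add] at habs
      have h2k := Nat.pow_right_injective (le_refl 2) habs
      refine ⟨d + 1 - k, by omega, by omega, ?_⟩
      rw [show (2 : ℤ) * 2 ^ (d - (d + 1 - k)) = ((2 ^ k : ℕ) : ℤ) by
        rw [show d - (d + 1 - k) = k - 1 by omega, ← pow_succ']
        push_cast
        rw [show k - 1 + 1 = k by omega], ← hk']
      exact Int.natAbs_eq s
    · push Not at hall
      obtain ⟨w₀, hw₀, hw₀'⟩ := hall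
      left
      have hneg : χ (w₀ ^ 2) = -1 := by
        change (if w₀ ^ 2 = 1 then (1 : ℤ) else -1) = -1
        split_ifs with h
        · exact absurd (by simp [χ, h]) hw₀'
        · rfl
      have hw₀c : w₀ ∈ Subgroup.center G := (Finset.mem_filter.1 hw₀).2
      have h1 : ∑ w ∈ C, χ (w ^ 2) = ∑ w ∈ C, - χ (w ^ 2) := by
        refine Finset.sum_nbij' (fun w => w₀ * w) (fun w => w₀⁻¹ * w) ?_ ?_ ?_ ?_ ?_
        · intro w hw
          simp [C] at hw ⊢
          exact mul_mem hw₀c hw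
        · intro w hw
          simp [C] at hw ⊢
          exact mul_mem (inv_mem hw₀c) hw
        · intro w _; simp
        · intro w _; simp
        · intro w _
          have hcom : Commute w₀ w := (Subgroup.mem_center_iff.1 hw₀c w).symm
          rw [hcom.mul_pow, hχmul _ (hsq w₀) _ (hsq w), hneg, neg_one_mul, neg_neg]
      rw [Finset.sum_neg_distrib] at h1
      have h0 : ∑ w ∈ C, χ (w ^ 2) = 0 := by linarith
      rw [h0, mul_zero] at hs2
      exact mul_self_eq_zero.1 hs2
  refine ⟨?_, ?_⟩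
  · rcases main with h | ⟨-, r, hr1, hr2, h | h⟩
    · left
      rw [h] at hj
      exact_mod_cast (show (Nat.card {x : G // x ^ 2 = 1} : ℤ) = 2 ^ d by linarith)
    · right
      refine ⟨r, hr1, by omega, Or.inl ?_⟩
      rw [h] at hj
      exact_mod_cast (show (Nat.card {x : G // x ^ 2 = 1} : ℤ) = 2 ^ d + 2 ^ (d - r) by linarith)
    · right
      refine ⟨r, hr1, by omega, Or.inr ?_⟩
      rw [h] at hj
      exact_mod_cast (show (Nat.card {x : G // x ^ 2 = 1} : ℤ) + 2 ^ (d - r) = 2 ^ d by linarith)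
  · intro r hdr hext
    have hpos : (1 : ℕ) ≤ 2 ^ r := Nat.one_le_two_pow
    have hcast : (Nat.card {x : G // x ^ 2 = 1} : ℤ) = 2 ^ d + 2 ^ r ∨ (Nat.card {x : G // x ^ 2 = 1} : ℤ) + 2 ^ r = 2 ^ d := by
      rcases hext with h | h
      · left; exact_mod_cast h
      · right; exact_mod_cast h
    have hpr : (1 : ℤ) ≤ 2 ^ r := one_le_pow₀ (by norm_num)
    rcases main with h | ⟨hlt, r', hr1, hr2, h⟩
    · rw [h] at hj
      rcases hcast with h' | h' <;> linarith
    · have hpr' : (1 : ℤ) ≤ 2 ^ (d - r') := one_le_pow₀ (by norm_num)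
      have he : (2 : ℤ) ^ (d - r') = 2 ^ r := by
        rcases hcast with h' | h' <;> rcases h with h | h <;> (rw [h] at hj; linarith)
      have he' : d - r' = r := Nat.pow_right_injective (le_refl 2) (by exact_mod_cast he)
      have hc' : c = 1 := by omega
      have hcen : Subgroup.center G = Φ := (Subgroup.eq_of_le_of_card_ge hΦc (by
        rw [hc, hc', show Nat.card Φ = 2 from hΦ, pow_one])).symm
      have hcom : commutator G = Φ := by
        refine Subgroup.eq_of_le_of_card_ge (Cfsg.Agent.PGroupsBasic.commutator_le_frattini hG) ?_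
        rw [show Nat.card Φ = 2 from hΦ]
        obtain ⟨e, he⟩ := (hG.to_subgroup (commutator G)).exists_card_eq
        rw [he]
        refine Nat.le_self_pow ?_ 2
        intro h0
        rw [h0, pow_zero] at he
        have hb : commutator G = ⊥ := Subgroup.eq_bot_of_card_eq _ he
        have htop : Subgroup.center G = ⊤ := by
          rw [eq_top_iff]
          intro x _
          rw [Subgroup.mem_center_iff]
          intro y
          have hm : ⁅y, x⁆ ∈ commutator G := Subgroup.commutator_mem_commutator (Subgroup.mem_top y) (Subgroup.mem_top x)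
          rw [hb, Subgroup.mem_bot] at hm
          exact commutatorElement_eq_one_iff_mul_comm.1 hm
        have h4 : Nat.card (Subgroup.center G) = Nat.card G := by rw [htop, Subgroup.card_top]
        rw [hc, Nat.card_eq_fintype_card, hGcard] at h4
        have := Nat.pow_right_injective (le_refl 2) h4
        omega
      exact ⟨⟨hG, hcen.symm, hcom.trans hcen.symm⟩, by rw [hc, hc', pow_one]⟩

end Cfsg.Agent.S3772
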