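import Cfsg.Statements.S3773
-- import your own Cfsg.Agent.* helpers here
import Cfsg.Agent.Lib.PGroupsBasic
open Cfsg.Agent
open scoped commutatorElement

set_option autoImplicit false
set_option maxHeartbeats 1000000
open Cfsg

namespace Cfsg.Agent.S3773

section Deg

variable {V : Type*} [CommGroup V]

/-- Functions of degree at most `k` on a group of exponent two, by iterated differences. -/
def DegLE : ℕ → (V → ZMod 2) → Prop
  | 0, f => ∀ a x, f (x * a) = f x
  | k + 1, f => ∀ a, DegLE k (fun x => f (x * a) + f x)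

lemma two_zero (u : ZMod 2) : u + u = 0 := CharTwo.add_self_eq_zero u

lemma degLE_succ {k : ℕ} : ∀ {f : V → ZMod 2}, DegLE k f → DegLE (k + 1) f := by
  induction k with
  | zero =>
    intro f h a b x
    change f (x * b * a) + f (x * b) = f (x * a) + f x
    rw [h a, h a x, h b x]
  | succ k ih => exact fun h a => ih (h a)

lemma degLE_mono {k l : ℕ} (h : k ≤ l) {f : V → ZMod 2} (hf : DegLE k f) : DegLE l f := by
  induction h with
  | refl => exact hf
  | step _ ih => exact degLE_succ ih

lemma degLE_add {k : ℕ} : ∀ {f g : V → ZMod 2}, DegLE k f → DegLE k g →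
    DegLE k (fun x => f x + g x) := by
  induction k with
  | zero => intro f g hf hg a x; simp only [hf a x, hg a x]
  | succ k ih =>
    intro f g hf hg a
    have h := ih (hf a) (hg a)
    have : (fun x => f (x * a) + g (x * a) + (f x + g x)) =
        fun x => f (x * a) + f x + (g (x * a) + g x) := by funext x; ring
    change DegLE k (fun x => f (x * a) + g (x * a) + (f x + g x))
    rw [this]; exact h

lemma degLE_translate {k : ℕ} : ∀ {f : V → ZMod 2} (_ : DegLE k f) (c : V),
    DegLE k (fun x => f (x * c)) := by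
  induction k with
  | zero =>
    intro f hf c a x
    change f (x * a * c) = f (x * c)
    rw [mul_right_comm]; exact hf a _
  | succ k ih =>
    intro f hf c a
    have h := ih (hf a) c
    have : (fun x => f (x * a * c) + f (x * c)) = fun x => f (x * c * a) + f (x * c) := by
      funext x; rw [mul_right_comm]
    change DegLE k (fun x => f (x * a * c) + f (x * c))
    rw [this]; exact h

lemma degLE_const_mul {k : ℕ} (c : ZMod 2) : ∀ {g : V → ZMod 2}, DegLE k g →
    DegLE k (fun x => c * g x) := by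
  induction k with
  | zero => intro g hg a x; simp only [hg a x]
  | succ k ih =>
    intro g hg a
    have h := ih (hg a)
    have : (fun x => c * g (x * a) + c * g x) = fun x => c * (g (x * a) + g x) := by
      funext x; ring
    change DegLE k (fun x => c * g (x * a) + c * g x)
    rw [this]; exact h

lemma const_of_degLE_zero {f : V → ZMod 2} (hf : DegLE 0 f) (x : V) : f x = f 1 := by
  simpa using hf x 1

lemma degLE_mul : ∀ (n k l : ℕ), k + l = n → ∀ {f g : V → ZMod 2}, DegLE k f → DegLE l g →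
    DegLE n (fun x => f x * g x) := by
  intro n
  induction n with
  | zero =>
    intro k l h f g hf hg
    obtain ⟨rfl, rfl⟩ : k = 0 ∧ l = 0 := by omega
    intro a x
    simp only [hf a x, hg a x]
  | succ n ih =>
    intro k l h f g hf hg
    rcases k with _ | k
    · obtain rfl : l = n + 1 := by omega
      have : (fun x => f x * g x) = fun x => f 1 * g x := by
        funext x; rw [const_of_degLE_zero hf x]
      rw [this]; exact degLE_const_mul _ hg
    rcases l with _ | l
    · obtain rfl : k = n := by omega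
      have : (fun x => f x * g x) = fun x => g 1 * f x := by
        funext x; rw [const_of_degLE_zero hg x, mul_comm]
      rw [this]; exact degLE_const_mul _ hf
    intro a
    have h1 := ih k (l + 1) (by omega) (hf a) (degLE_translate hg a)
    have h2 := ih (k + 1) l (by omega) hf (hg a)
    have : (fun x => f (x * a) * g (x * a) + f x * g x) =
        fun x => (f (x * a) + f x) * g (x * a) + f x * (g (x * a) + g x) := by
      funext x
      have e := two_zero (f x * g (x * a))
      linear_combination (-1 : ZMod 2) * e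
    change DegLE n (fun x => f (x * a) * g (x * a) + f x * g x)
    rw [this]; exact degLE_add h1 h2

lemma exists_avoiding [Finite V] (hV : ∀ x : V, x * x = 1) (K : Subgroup V) (a : V) (ha : a ∉ K) :
    ∃ M : Subgroup V, K ≤ M ∧ a ∉ M ∧ ∀ x, x ∈ M ∨ x * a ∈ M := by
  obtain ⟨M, hKM, hmax⟩ := Set.Finite.exists_le_maximal
    (Set.toFinite {M : Subgroup V | K ≤ M ∧ a ∉ M}) (show K ∈ {M : Subgroup V | K ≤ M ∧ a ∉ M} from ⟨le_rfl, ha⟩)
  refine ⟨M, hmax.1.1, hmax.1.2, fun x => ?_⟩
  by_contra hcon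
  push Not at hcon
  have hmem : a ∈ M ⊔ Subgroup.zpowers x := by
    by_contra hn
    have := hmax.2 (y := M ⊔ Subgroup.zpowers x) ⟨hmax.1.1.trans le_sup_left, hn⟩ le_sup_left
    exact hcon.1 (this (Subgroup.mem_sup_right (Subgroup.mem_zpowers x)))
  obtain ⟨m, hm, y, hy, hmy⟩ := Subgroup.mem_sup.1 hmem
  obtain ⟨n, rfl⟩ := Subgroup.mem_zpowers_iff.1 hy
  have hx2 : x ^ (2 : ℤ) = 1 := by rw [zpow_two]; exact hV x
  rcases Int.even_or_odd' n with ⟨t, rfl | rfl⟩
  · rw [zpow_mul, hx2, one_zpow, mul_one] at hmy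
    exact hmax.1.2 (hmy ▸ hm)
  · rw [zpow_add, zpow_mul, hx2, one_zpow, one_mul, zpow_one] at hmy
    apply hcon.2
    rw [← hmy, mul_comm m x, ← mul_assoc, hV, one_mul]
    exact hm

lemma card_index_two [Finite V] (hV : ∀ x : V, x * x = 1) (M : Subgroup V) (a : V) (ha : a ∉ M)
    (hM : ∀ x, x ∈ M ∨ x * a ∈ M) : Nat.card V = 2 * Nat.card M := by
  have h : M.index = 2 := by
    rw [Subgroup.index_eq_two_iff]
    refine ⟨a, fun x => ?_⟩
    rcases hM x with h | h
    · refine Or.inr ⟨h, fun h' => ha ?_⟩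
      have := M.mul_mem (M.inv_mem h) h'
      simpa using this
    · refine Or.inl ⟨h, fun h' => ha ?_⟩
      have := M.mul_mem (M.inv_mem h') h
      simpa using this
  rw [← M.card_mul_index, h, mul_comm]

lemma sum_eq_zero_of_degLE [Finite V] (hV : ∀ x : V, x * x = 1) :
    ∀ (k : ℕ) (H : Subgroup V) (f : V → ZMod 2), DegLE k f → 2 ^ k < Nat.card H →
      ∑ᶠ x : H, f x = 0 := by
  classical
  intro k
  induction k with
  | zero =>
    intro H f hf hH
    haveI := Fintype.ofFinite H
    rw [finsum_eq_sum_of_fintype]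
    have e1 : ∀ x : H, f x = f 1 := fun x => const_of_degLE_zero hf (x : V)
    rw [Fintype.sum_congr _ _ e1]
    rw [Finset.sum_const, Finset.card_univ, ← Nat.card_eq_fintype_card, nsmul_eq_mul]
    have hp : IsPGroup 2 H := fun x => ⟨1, Subtype.ext (by simpa [pow_two] using hV x)⟩
    obtain ⟨j, hj⟩ := hp.exists_card_eq
    rw [hj] at hH ⊢
    have : j ≠ 0 := by rintro rfl; simp at hH
    have h2 : ((2 ^ j : ℕ) : ZMod 2) = 0 := by
      rw [Nat.cast_pow, show ((2 : ℕ) : ZMod 2) = 0 from rfl, zero_pow this]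
    rw [h2, zero_mul]
  | succ k ih =>
    intro H f hf hH
    haveI := Fintype.ofFinite H
    have hne : H ≠ ⊥ := by
      rintro rfl
      simp at hH
    obtain ⟨⟨a, haH⟩, ha1'⟩ := Subgroup.ne_bot_iff_exists_ne_one.1 hne
    have ha1 : a ≠ 1 := fun h => ha1' (Subtype.ext h)
    obtain ⟨M, -, haM, hM⟩ := exists_avoiding (fun x : H => Subtype.ext (hV x)) ⊥ ⟨a, haH⟩
      (by simpa [Subgroup.mem_bot, Subtype.ext_iff] using ha1)
    have hcard := card_index_two (fun x : H => Subtype.ext (hV x)) M _ haM hM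
    set H' : Subgroup V := M.map H.subtype with hH'
    have hc' : Nat.card H' = Nat.card M := Subgroup.card_map_of_injective H.subtype_injective
    have h0 := ih H' _ (hf a) (by rw [hc']; rw [pow_succ] at hH; omega)
    haveI := Fintype.ofFinite H'
    haveI := Fintype.ofFinite M
    rw [finsum_eq_sum_of_fintype] at h0 ⊢
    rw [← h0]
    let φ : M ⊕ M → H := Sum.elim (fun m => m.1) (fun m => m.1 * ⟨a, haH⟩)
    have hφ : Function.Bijective φ := by
      constructor
      · rintro (m | m) (m' | m') h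
        · exact congrArg Sum.inl (Subtype.ext h)
        · exfalso; apply haM
          have : (⟨a, haH⟩ : H) = (m'.1)⁻¹ * m.1 := eq_inv_mul_of_mul_eq h.symm
          rw [this]; exact M.mul_mem (M.inv_mem m'.2) m.2
        · exfalso; apply haM
          have : (⟨a, haH⟩ : H) = (m.1)⁻¹ * m'.1 := eq_inv_mul_of_mul_eq h
          rw [this]; exact M.mul_mem (M.inv_mem m.2) m'.2
        · exact congrArg Sum.inr (Subtype.ext (mul_right_cancel h))
      · intro x
        rcases hM x with h | h
        · exact ⟨Sum.inl ⟨x, h⟩, rfl⟩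
        · refine ⟨Sum.inr ⟨_, h⟩, ?_⟩
          change x * ⟨a, haH⟩ * ⟨a, haH⟩ = x
          rw [mul_assoc, show (⟨a, haH⟩ : H) * ⟨a, haH⟩ = 1 from Subtype.ext (hV a), mul_one]
    rw [← (Equiv.ofBijective φ hφ).sum_comp, Fintype.sum_sum_type, ← Finset.sum_add_distrib]
    refine Fintype.sum_equiv (M.equivMapOfInjective H.subtype H.subtype_injective).toEquiv _ _ ?_
    intro m
    change f (m.1 : V) + f ((m.1 : V) * a) = f ((m.1 : V) * a) + f (m.1 : V)
    ring

variable {W : Type*} [CommGroup W]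

open Classical in
/-- Indicator of a subgroup pulled back along `q`. -/
noncomputable def ind (q : V → W) (K : Subgroup W) (x : V) : ZMod 2 :=
  if q x ∈ K then 1 else 0

lemma psi_add {M : Subgroup W} {a : W} (hM : ∀ x, x ∈ M ∨ x * a ∈ M)
    (u v : W) [Decidable (u ∈ M)] [Decidable (v ∈ M)] [Decidable (u * v ∈ M)] :
    (if u * v ∈ M then (0 : ZMod 2) else 1) =
      (if u ∈ M then 0 else 1) + (if v ∈ M then 0 else 1) := by
  by_cases hu : u ∈ M <;> by_cases hv : v ∈ M
  · simp [hu, hv, M.mul_mem hu hv]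
  · have : u * v ∉ M := fun h => hv (by simpa using M.mul_mem (M.inv_mem hu) h)
    simp [hu, hv, this]
  · have : u * v ∉ M := fun h => hu (by simpa using M.mul_mem h (M.inv_mem hv))
    simp [hu, hv, this]
  · have h1 := (hM u).resolve_left hu
    have h2 := (hM v).resolve_left hv
    have h3 := M.mul_mem h1 h2
    have haa : a * a ∈ M := by
      rcases hM a with h | h
      · exact M.mul_mem h h
      · exact h
    have : u * v ∈ M := by
      have := M.mul_mem h3 (M.inv_mem haa)
      rwa [show u * a * (v * a) = u * v * (a * a) by rw [mul_mul_mul_comm],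
        mul_inv_cancel_right] at this
    simp [hu, hv, this]; decide

/-- Indicator of an index two subgroup along a quadratic map has degree at most two, and at most
one when the polar form takes values in the subgroup. -/
lemma degLE_ind_two (q : V → W) (B : V → V → W)
    (hq : ∀ x y, q (x * y) = q x * q y * B x y)
    (hB : ∀ x y a, B (x * y) a = B x a * B y a)
    (M : Subgroup W) (a : W) (hM : ∀ x, x ∈ M ∨ x * a ∈ M) :
    DegLE 2 (ind q M) ∧ ((∀ x y, B x y ∈ M) → DegLE 1 (ind q M)) := by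
  classical
  let ψ : W → ZMod 2 := fun w => if w ∈ M then 0 else 1
  have hψ : ∀ u v, ψ (u * v) = ψ u + ψ v := fun u v => psi_add hM u v
  have hind : ∀ x, ind q M x = 1 + ψ (q x) := by
    intro x; simp only [ind, ψ]; split_ifs <;> decide
  have h1 : ∀ b x, ind q M (x * b) + ind q M x = ψ (q b) + ψ (B x b) := by
    intro b x
    rw [hind, hind, hq, hψ, hψ]
    have e := two_zero (1 + ψ (q x))
    linear_combination e
  refine ⟨fun b c x => ?_, fun hBM b x => ?_⟩
  · intro y
    change ind q M (y * x * c * b) + ind q M (y * x * c) + (ind q M (y * x * b) + ind q M (y * x)) =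
      ind q M (y * c * b) + ind q M (y * c) + (ind q M (y * b) + ind q M y)
    rw [h1, h1, h1, h1, hB (y * x) c b, hB y c b, hψ, hψ]
    have e := two_zero (ψ (B (y * x) b))
    have e' := two_zero (ψ (B y b))
    linear_combination e - e'
  · intro y
    change ind q M (y * x * b) + ind q M (y * x) = ind q M (y * b) + ind q M y
    rw [h1, h1]
    simp [ψ, hBM]

lemma degLE_ind [Finite W] (hW : ∀ x : W, x * x = 1) (q : V → W) (B : V → V → W)
    (hq : ∀ x y, q (x * y) = q x * q y * B x y)
    (hB : ∀ x y a, B (x * y) a = B x a * B y a) :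
    ∀ (j : ℕ) (K : Subgroup W), 2 ^ j * Nat.card K = Nat.card W → DegLE (2 * j) (ind q K) := by
  classical
  intro j
  induction j with
  | zero =>
    intro K hK a x
    rw [pow_zero, one_mul] at hK
    rw [Subgroup.eq_top_of_card_eq K hK]
    simp [ind]
  | succ j ih =>
    intro K hK
    have hne : K ≠ ⊤ := by
      rintro rfl
      rw [Subgroup.card_top] at hK
      have h1 : 2 ≤ 2 ^ (j + 1) := by
        calc 2 = 2 ^ 1 := by norm_num
          _ ≤ _ := Nat.pow_le_pow_right (by norm_num) (by omega)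
      have h2 : 0 < Nat.card W := Nat.card_pos
      nlinarith
    obtain ⟨a, ha⟩ : ∃ a, a ∉ K := by
      by_contra h; push Not at h; exact hne ((Subgroup.eq_top_iff' K).2 h)
    obtain ⟨M, hKM, haM, hM⟩ := exists_avoiding hW K a ha
    have hK' : ∀ w, w ∈ K ⊔ Subgroup.zpowers a → w ∈ K ∨ w * a ∈ K := by
      intro w hw
      obtain ⟨k, hk, y, hy, rfl⟩ := Subgroup.mem_sup.1 hw
      obtain ⟨n, rfl⟩ := Subgroup.mem_zpowers_iff.1 hy
      have hx2 : a ^ (2 : ℤ) = 1 := by rw [zpow_two]; exact hW a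
      rcases Int.even_or_odd' n with ⟨t, rfl | rfl⟩
      · left; rw [zpow_mul, hx2, one_zpow, mul_one]; exact hk
      · right; rw [zpow_add, zpow_mul, hx2, one_zpow, one_mul, zpow_one, mul_assoc, hW, mul_one]
        exact hk
    set K' := K ⊔ Subgroup.zpowers a with hK'def
    have haK' : a ∈ K' := Subgroup.mem_sup_right (Subgroup.mem_zpowers a)
    have hcard' : Nat.card K' = 2 * Nat.card K := by
      have := card_index_two (V := K') (fun x => Subtype.ext (hW x)) (K.subgroupOf K') ⟨a, haK'⟩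
        (fun h => ha h) (fun x => hK' x x.2)
      rwa [Nat.card_congr (Subgroup.subgroupOfEquivOfLe (le_sup_left : K ≤ K')).toEquiv] at this
    have h1 := ih K' (by rw [hcard', ← mul_assoc, ← pow_succ]; exact hK)
    have h2 := (degLE_ind_two q B hq hB M a hM).1
    have heq : ind q K = fun x => ind q K' x * ind q M x := by
      funext x
      by_cases hx : q x ∈ K
      · simp [ind, hx, show q x ∈ K' from Subgroup.mem_sup_left hx, hKM hx]
      · by_cases hx' : q x ∈ K'
        · have h3 := (hK' _ hx').resolve_left hx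
          have : q x ∉ M := fun h => haM (by simpa using M.mul_mem (M.inv_mem h) (hKM h3))
          simp [ind, hx, this]
        · simp [ind, hx, hx']
    rw [heq]
    exact degLE_mul _ _ _ (by ring) h1 h2

/-- Only one common zero on a subgroup forces that subgroup to be small. -/
lemma card_le_of_unique [Finite V] (hV : ∀ x : V, x * x = 1) (q : V → W) (K : Subgroup W) {k : ℕ}
    (hdeg : DegLE k (ind q K)) (H : Subgroup V) (h1 : q 1 ∈ K)
    (huniq : ∀ x ∈ H, q x ∈ K → x = 1) : Nat.card H ≤ 2 ^ k := by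
  classical
  by_contra hlt
  have h := sum_eq_zero_of_degLE hV k H _ hdeg (Nat.lt_of_not_le hlt)
  rw [finsum_eq_single _ (1 : H) (fun x hx => by
    have : q (x : V) ∉ K := fun hq' => hx (Subtype.ext (huniq x x.2 hq'))
    simp [ind, this])] at h
  simp [ind, h1] at h

end Deg

section Main

variable {G : Type*} [Group G]

lemma comm_central (hcl : (⊤ : Subgroup G).lowerCentralSeries 2 = ⊥) (x y : G) :
    ⁅x, y⁆ ∈ Subgroup.center G := by
  rw [Subgroup.mem_center_iff]
  intro g
  have h1 : ⁅x, y⁆ ∈ (⊤ : Subgroup G).lowerCentralSeries 1 := by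
    rw [Subgroup.lowerCentralSeries_succ, Subgroup.lowerCentralSeries_zero]
    exact Subgroup.commutator_mem_commutator (Subgroup.mem_top x) (Subgroup.mem_top y)
  have h2 : ⁅⁅x, y⁆, g⁆ ∈ (⊤ : Subgroup G).lowerCentralSeries 2 := by
    rw [Subgroup.lowerCentralSeries_succ]
    exact Subgroup.commutator_mem_commutator h1 (Subgroup.mem_top g)
  rw [hcl, Subgroup.mem_bot, commutatorElement_eq_one_iff_commute] at h2
  exact h2.eq.symm

lemma comm_mul_left (hcl : (⊤ : Subgroup G).lowerCentralSeries 2 = ⊥) (a b c : G) :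
    ⁅a * b, c⁆ = ⁅a, c⁆ * ⁅b, c⁆ := by
  have h := Subgroup.mem_center_iff.1 (comm_central hcl b c)
  calc ⁅a * b, c⁆ = a * ⁅b, c⁆ * a⁻¹ * ⁅a, c⁆ := by
        rw [commutatorElement_def, commutatorElement_def, commutatorElement_def]; group
    _ = ⁅b, c⁆ * ⁅a, c⁆ := by rw [h a, mul_inv_cancel_right]
    _ = ⁅a, c⁆ * ⁅b, c⁆ := (h _).symm

lemma comm_mul_right (hcl : (⊤ : Subgroup G).lowerCentralSeries 2 = ⊥) (a b c : G) :
    ⁅a, b * c⁆ = ⁅a, b⁆ * ⁅a, c⁆ := by
  have h := Subgroup.mem_center_iff.1 (comm_central hcl a c)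
  calc ⁅a, b * c⁆ = ⁅a, b⁆ * (b * ⁅a, c⁆ * b⁻¹) := by
        rw [commutatorElement_def, commutatorElement_def, commutatorElement_def]; group
    _ = ⁅a, b⁆ * ⁅a, c⁆ := by rw [h b, mul_inv_cancel_right]

lemma sq_mul (hcl : (⊤ : Subgroup G).lowerCentralSeries 2 = ⊥) (x y : G) :
    (x * y) ^ 2 = x ^ 2 * y ^ 2 * ⁅y, x⁆ := by
  have h := Subgroup.mem_center_iff.1 (comm_central hcl y x)
  have e : y * x = ⁅y, x⁆ * (x * y) := by rw [commutatorElement_def]; group
  calc (x * y) ^ 2 = x * (y * x) * y := by rw [pow_two]; group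
    _ = x * (⁅y, x⁆ * (x * y)) * y := by rw [e]
    _ = ⁅y, x⁆ * (x * x * (y * y)) := by rw [← mul_assoc x, h x]; group
    _ = x ^ 2 * y ^ 2 * ⁅y, x⁆ := by rw [pow_two, pow_two]; exact (h _).symm

end Main


/-- Let G be a finite 2-group of nilpotency class at most 2 and exponent dividing 4 in which the elements x with x² = 1 form a subgroup N. Then |G| ≤ |N|³, and |G| < |N|³ unless G is special. -/
theorem result {G : Type*} [Group G] [Finite G] (hG : IsPGroup 2 G) (hcl : (⊤ : Subgroup G).lowerCentralSeries 2 = ⊥) (hexp : ∀ x : G, x ^ 4 = 1) (hN : ∀ x y : G, x ^ 2 = 1 → y ^ 2 = 1 → (x * y) ^ 2 = 1) : Nat.card G ≤ Nat.card {x : G // x ^ 2 = 1} ^ 3 ∧ (¬ Cfsg.IsSpecial 2 G → Nat.card G < Nat.card {x : G // x ^ 2 = 1} ^ 3) := by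
  classical
  let N : Subgroup G :=
    { carrier := {x | x ^ 2 = 1}
      mul_mem' := fun {x y} hx hy => hN x y hx hy
      one_mem' := one_pow 2
      inv_mem' := fun {x} hx => by
        simp only [Set.mem_setOf_eq] at hx ⊢
        rw [inv_pow, hx, inv_one] }
  have hNcard : Nat.card {x : G // x ^ 2 = 1} = Nat.card N := rfl
  rw [hNcard]
  have hsqN : ∀ x : G, x ^ 2 ∈ N := fun x => by
    change (x ^ 2) ^ 2 = 1; rw [← pow_mul]; exact hexp x
  have hcommsq : ∀ x y : G, ⁅x, y⁆ ^ 2 = 1 := by
    intro x y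
    have hc : x * y = ⁅x, y⁆ * (y * x) := by rw [commutatorElement_def]; group
    have h1 := sq_mul hcl x y
    have h2 : (x ^ 2 * y ^ 2) ∈ N := N.mul_mem (hsqN x) (hsqN y)
    have h3 : (x * y) ^ 2 ∈ N := hsqN _
    have h4 : ⁅y, x⁆ ∈ N := by
      have := N.mul_mem (N.inv_mem h2) h3
      rw [h1] at this
      simpa [mul_assoc] using this
    have h5 : ⁅x, y⁆ ∈ N := by rw [← commutatorElement_inv]; exact N.inv_mem h4
    exact h5
  have hsqC : ∀ x : G, x ^ 2 ∈ Subgroup.center G := by
    intro x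
    rw [Subgroup.mem_center_iff]
    intro g
    have : ⁅g, x ^ 2⁆ = 1 := by rw [pow_two, comm_mul_right hcl, ← pow_two, hcommsq]
    exact commutatorElement_eq_one_iff_commute.1 this
  set N₀ : Subgroup G := N ⊓ Subgroup.center G with hN₀
  haveI hN₀n : N₀.Normal := ⟨fun n hn g => by
    rw [Subgroup.mem_center_iff.1 hn.2 g, mul_inv_cancel_right]; exact hn⟩
  have hcomm₀ : ∀ x y : G, ⁅x, y⁆ ∈ N₀ := fun x y => ⟨hcommsq x y, comm_central hcl x y⟩
  have hsq₀ : ∀ x : G, x ^ 2 ∈ N₀ := fun x => ⟨hsqN x, hsqC x⟩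
  letI : CommGroup N₀ := { (inferInstance : Group N₀) with
    mul_comm := fun a b => Subtype.ext (Subgroup.mem_center_iff.1 b.2.2 a.1) }
  let V := G ⧸ N₀
  letI : CommGroup V := { (inferInstance : Group V) with
    mul_comm := by
      intro a b
      induction a using QuotientGroup.induction_on with
      | _ a =>
        induction b using QuotientGroup.induction_on with
        | _ b =>
          rw [← QuotientGroup.mk_mul, ← QuotientGroup.mk_mul, QuotientGroup.eq]
          have : (a * b)⁻¹ * (b * a) = ⁅b⁻¹, a⁻¹⁆ := by rw [commutatorElement_def]; group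
          rw [this]; exact hcomm₀ _ _ }
  have hV : ∀ x : V, x * x = 1 := by
    intro x
    induction x using QuotientGroup.induction_on with
    | _ a => rw [← QuotientGroup.mk_mul, QuotientGroup.eq_one_iff, ← pow_two]; exact hsq₀ a
  have hW : ∀ x : N₀, x * x = 1 := fun x => Subtype.ext (by
    change (x : G) * x = 1; rw [← pow_two]; exact x.2.1)
  have hzsq : ∀ (x n : G), n ∈ N₀ → (x * n) ^ 2 = x ^ 2 := by
    intro x n hn
    have hc : Commute x n := Subgroup.mem_center_iff.1 hn.2 x
    rw [hc.mul_pow, (hn.1 : n ^ 2 = 1), mul_one]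
  let q : V → N₀ := fun v => ⟨v.out ^ 2, hsq₀ _⟩
  let B : V → V → N₀ := fun u v => ⟨⁅v.out, u.out⁆, hcomm₀ _ _⟩
  have hout : ∀ u v : V, ∃ n ∈ N₀, (u * v).out = u.out * v.out * n := by
    intro u v
    refine ⟨(u.out * v.out)⁻¹ * (u * v).out, QuotientGroup.eq.1 ?_, by group⟩
    rw [QuotientGroup.mk_mul, QuotientGroup.out_eq', QuotientGroup.out_eq', QuotientGroup.out_eq']
  have hq : ∀ x y, q (x * y) = q x * q y * B x y := by
    intro x y
    obtain ⟨n, hn, h⟩ := hout x y
    apply Subtype.ext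
    change (x * y).out ^ 2 = x.out ^ 2 * y.out ^ 2 * ⁅y.out, x.out⁆
    rw [h, hzsq _ _ hn, sq_mul hcl]
  have hB : ∀ x y a, B (x * y) a = B x a * B y a := by
    intro x y a
    obtain ⟨n, hn, h⟩ := hout x y
    apply Subtype.ext
    change ⁅a.out, (x * y).out⁆ = ⁅a.out, x.out⁆ * ⁅a.out, y.out⁆
    rw [h, comm_mul_right hcl, comm_mul_right hcl,
      show ⁅a.out, n⁆ = 1 from commutatorElement_eq_one_iff_commute.2
        (Subgroup.mem_center_iff.1 hn.2 _), mul_one]
  have hq1 : q (1 : V) = 1 := by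
    apply Subtype.ext
    change (1 : V).out ^ 2 = 1
    have h1 : (1 : V).out ∈ N₀ := by
      rw [← QuotientGroup.eq_one_iff]; exact QuotientGroup.out_eq' _
    exact h1.1
  -- complement of `N / N₀`
  let Nb : Subgroup V := N.map (QuotientGroup.mk' N₀)
  obtain ⟨H, -, hHmax⟩ := Set.Finite.exists_le_maximal
    (Set.toFinite {H : Subgroup V | H ⊓ Nb = ⊥}) (show ⊥ ∈ {H : Subgroup V | H ⊓ Nb = ⊥} from bot_inf_eq Nb)
  have hHN : H ⊓ Nb = ⊥ := hHmax.1
  have hsup : H ⊔ Nb = ⊤ := by
    rw [Subgroup.eq_top_iff']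
    intro x
    by_contra hx
    have hbad : (H ⊔ Subgroup.zpowers x) ⊓ Nb = ⊥ := by
      rw [Subgroup.eq_bot_iff_forall]
      rintro w ⟨hw1, hw2⟩
      obtain ⟨h, hh, y, hy, rfl⟩ := Subgroup.mem_sup.1 hw1
      obtain ⟨n, rfl⟩ := Subgroup.mem_zpowers_iff.1 hy
      have hx2 : x ^ (2 : ℤ) = 1 := by rw [zpow_two]; exact hV x
      rcases Int.even_or_odd' n with ⟨t, rfl | rfl⟩
      · rw [zpow_mul, hx2, one_zpow, mul_one] at hw2 ⊢
        exact (Subgroup.eq_bot_iff_forall _).1 hHN _ ⟨hh, hw2⟩
      · rw [zpow_add, zpow_mul, hx2, one_zpow, one_mul, zpow_one] at hw2 ⊢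
        exfalso; apply hx
        have h1 : x = h⁻¹ * (h * x) := by group
        rw [h1]
        exact Subgroup.mul_mem_sup (H.inv_mem hh) hw2
    exact hx (Subgroup.mem_sup_left
      (hHmax.2 (y := H ⊔ Subgroup.zpowers x) hbad le_sup_left
        (Subgroup.mem_sup_right (Subgroup.mem_zpowers x))))
  have hcompl : H.IsComplement' Nb := by
    apply Subgroup.isComplement'_of_disjoint_and_mul_eq_univ (disjoint_iff.2 hHN)
    rw [← Subgroup.mul_normal, hsup]; rfl
  have hN₀N : N₀ ≤ N := inf_le_left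
  have hcardG : Nat.card G = Nat.card H * Nat.card N := by
    have h1 : Nat.card N = Nat.card Nb * Nat.card N₀ := by
      have hker : ((QuotientGroup.mk' N₀).comp N.subtype).ker = N₀.subgroupOf N := by
        ext x; simp [Subgroup.mem_subgroupOf, QuotientGroup.eq_one_iff]
      have hrange : ((QuotientGroup.mk' N₀).comp N.subtype).range = Nb := by
        rw [MonoidHom.range_comp, Subgroup.range_subtype]
      rw [← ((QuotientGroup.mk' N₀).comp N.subtype).ker.card_mul_index, Subgroup.index_ker, hrange,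
        hker, Nat.card_congr (Subgroup.subgroupOfEquivOfLe hN₀N).toEquiv, mul_comm]
    rw [N₀.card_eq_card_quotient_mul_card_subgroup, ← hcompl.card_mul, h1, mul_assoc]
  have hzero : ∀ v ∈ H, q v = 1 → v = 1 := by
    intro v hv hv1
    refine (Subgroup.eq_bot_iff_forall _).1 hHN _ ⟨hv, ?_⟩
    exact ⟨v.out, congrArg Subtype.val hv1, QuotientGroup.out_eq' v⟩
  obtain ⟨d₀, hd₀⟩ := (hG.to_subgroup N₀).exists_card_eq
  have hkey : Nat.card H ≤ Nat.card N₀ ^ 2 := by
    have := card_le_of_unique hV q ⊥ (degLE_ind hW q B hq hB d₀ ⊥ (by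
      rw [Subgroup.card_bot, mul_one, hd₀])) H (by simp [hq1])
      (fun x hx h => hzero x hx (by simpa using h))
    rw [hd₀, ← pow_mul, mul_comm]; exact this
  have hle : Nat.card N₀ ≤ Nat.card N := Nat.le_of_dvd Nat.card_pos (Subgroup.card_dvd_of_le hN₀N)
  have hpos : 0 < Nat.card N := Nat.card_pos
  refine ⟨?_, ?_⟩
  · rw [hcardG]
    calc Nat.card H * Nat.card N ≤ Nat.card N₀ ^ 2 * Nat.card N := Nat.mul_le_mul_right _ hkey
      _ ≤ Nat.card N ^ 2 * Nat.card N := Nat.mul_le_mul_right _ (Nat.pow_le_pow_left hle 2)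
      _ = Nat.card N ^ 3 := by ring
  intro hns
  rw [hcardG, pow_succ]
  refine Nat.mul_lt_mul_of_pos_right ?_ hpos
  by_cases hN₀eq : N₀ = N
  swap
  · refine lt_of_le_of_lt hkey (Nat.pow_lt_pow_left ?_ two_ne_zero)
    exact lt_of_le_of_ne hle fun h => hN₀eq (Subgroup.eq_of_le_of_card_ge hN₀N h.ge)
  rw [← hN₀eq]
  suffices hsuff : ∃ k, 1 + k ≤ 2 * d₀ ∧ Nat.card H ≤ 2 ^ k by
    obtain ⟨k, hk, hH⟩ := hsuff
    rw [hd₀, ← pow_mul, mul_comm d₀ 2]
    exact lt_of_le_of_lt hH (Nat.pow_lt_pow_right (by norm_num) (by omega))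
  have hNZ : N ≤ Subgroup.center G := hN₀eq ▸ inf_le_right
  by_cases hder : commutator G = N
  swap
  · -- the polar form misses part of `N`
    let Dd : Subgroup N₀ := (commutator G).subgroupOf N₀
    have hdN : commutator G ≤ N₀ := by
      rw [commutator_def, Subgroup.commutator_le]; exact fun x _ y _ => hcomm₀ x y
    obtain ⟨a, ha⟩ : ∃ a, a ∉ Dd := by
      by_contra h
      push Not at h
      apply hder
      rw [← hN₀eq]
      exact le_antisymm hdN fun x hx => h ⟨x, hx⟩
    obtain ⟨M, hDM, haM, hM⟩ := exists_avoiding hW Dd a ha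
    obtain ⟨j, rfl⟩ : ∃ j, d₀ = j + 1 := by
      refine ⟨d₀ - 1, ?_⟩
      rcases Nat.eq_zero_or_pos d₀ with h | h
      · exfalso
        apply ha
        haveI : Subsingleton N₀ := (Nat.card_eq_one_iff_unique.1 (by rw [hd₀, h, pow_zero])).1
        rw [Subsingleton.elim a 1]; exact Dd.one_mem
      · omega
    have hz : Nat.card (Subgroup.zpowers a) = 2 := by
      rw [Nat.card_zpowers]
      refine orderOf_eq_prime ?_ (fun h => ha (h ▸ Dd.one_mem))
      rw [pow_two]; exact hW a
    have h1 := degLE_ind hW q B hq hB j (Subgroup.zpowers a) (by rw [hz, hd₀, pow_succ])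
    have h2 := (degLE_ind_two q B hq hB M a hM).2 (fun x y => hDM (by
      change (B x y : G) ∈ commutator G
      rw [commutator_def]
      exact Subgroup.commutator_mem_commutator (Subgroup.mem_top _) (Subgroup.mem_top _)))
    have h3 := degLE_mul _ _ _ rfl h1 h2
    have heq : (fun x => ind q (Subgroup.zpowers a) x * ind q M x) = ind q ⊥ := by
      funext x
      by_cases hx : q x = 1
      · simp [ind, hx]
      · have : ¬ (q x ∈ Subgroup.zpowers a ∧ q x ∈ M) := by
          rintro ⟨hx1, hx2⟩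
          obtain ⟨n, hn⟩ := Subgroup.mem_zpowers_iff.1 hx1
          have ha2 : a ^ (2 : ℤ) = 1 := by rw [zpow_two]; exact hW a
          rcases Int.even_or_odd' n with ⟨t, rfl | rfl⟩
          · rw [zpow_mul, ha2, one_zpow] at hn; exact hx hn.symm
          · rw [zpow_add, zpow_mul, ha2, one_zpow, one_mul, zpow_one] at hn
            exact haM (hn ▸ hx2)
        rcases not_and_or.1 this with h | h <;> simp [ind, h, hx]
    rw [heq] at h3
    exact ⟨2 * j + 1, by omega, card_le_of_unique hV q ⊥ h3 H (by simp [hq1])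
      (fun x hx h => hzero x hx (by simpa using h))⟩
  · -- the centre is larger than `N`
    have hfr : frattini G = N := by
      apply le_antisymm
      · haveI : N.Normal := hN₀eq ▸ hN₀n
        exact PGroupsBasic.frattini_le_of_elementary_quotient (p := 2) (hder ▸ le_rfl) (fun x => hsqN x)
      · rw [← hder]; exact PGroupsBasic.commutator_le_frattini hG
    obtain ⟨z, hzC, hzN⟩ : ∃ z ∈ Subgroup.center G, z ∉ N := by
      by_contra h
      push Not at h
      have hZ : Subgroup.center G = N := le_antisymm h hNZ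
      exact hns ⟨hG, hfr.trans hZ.symm, hder.trans hZ.symm⟩
    set v₀ : V := QuotientGroup.mk' N₀ z with hv₀
    let w₀ : N₀ := ⟨z ^ 2, hsq₀ z⟩
    obtain ⟨j, rfl⟩ : ∃ j, d₀ = j + 1 := by
      refine ⟨d₀ - 1, ?_⟩
      rcases Nat.eq_zero_or_pos d₀ with h | h
      · exfalso
        apply hzN
        haveI : Subsingleton N₀ := (Nat.card_eq_one_iff_unique.1 (by rw [hd₀, h, pow_zero])).1
        exact congrArg Subtype.val (Subsingleton.elim w₀ 1)
      · omega
    have hz : Nat.card (Subgroup.zpowers w₀) = 2 := by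
      rw [Nat.card_zpowers]
      refine orderOf_eq_prime (by rw [pow_two]; exact hW w₀) (fun h => hzN ?_)
      exact congrArg Subtype.val h
    have hdeg := degLE_ind hW q B hq hB j (Subgroup.zpowers w₀) (by rw [hz, hd₀, pow_succ])
    have hzeros : ∀ x ∈ H, q x ∈ Subgroup.zpowers w₀ → x = 1 ∨ (x * v₀) ∈ Nb := by
      intro x hx hqx
      obtain ⟨n, hn⟩ := Subgroup.mem_zpowers_iff.1 hqx
      have ha2 : w₀ ^ (2 : ℤ) = 1 := by rw [zpow_two]; exact hW w₀
      rcases Int.even_or_odd' n with ⟨t, rfl | rfl⟩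
      · rw [zpow_mul, ha2, one_zpow] at hn; exact Or.inl (hzero x hx hn.symm)
      · rw [zpow_add, zpow_mul, ha2, one_zpow, one_mul, zpow_one] at hn
        right
        refine ⟨x.out * z, ?_, ?_⟩
        · change (x.out * z) ^ 2 = 1
          have hc : Commute x.out z := Subgroup.mem_center_iff.1 hzC _
          rw [hc.mul_pow]
          have : x.out ^ 2 = z ^ 2 := (congrArg Subtype.val hn).symm
          rw [this]
          exact (congrArg Subtype.val (hW w₀) : z ^ 2 * z ^ 2 = 1)
        · rw [map_mul]; congr 1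
          exact QuotientGroup.out_eq' x
    by_cases hex : ∃ x ∈ H, x * v₀ ∈ Nb
    swap
    · push Not at hex
      exact ⟨2 * j, by omega, card_le_of_unique hV q _ hdeg H (by rw [hq1]; exact Subgroup.one_mem _)
        (fun x hx h => (hzeros x hx h).resolve_right (hex x hx))⟩
    obtain ⟨x₀, hx₀, hx₀N⟩ := hex
    have hx₀ne : (⟨x₀, hx₀⟩ : H) ∉ (⊥ : Subgroup H) := by
      rw [Subgroup.mem_bot]
      intro h
      apply hzN
      have : x₀ = 1 := congrArg Subtype.val h
      rw [this, one_mul] at hx₀N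
      obtain ⟨n, hn, hne⟩ := hx₀N
      have : n⁻¹ * z ∈ N₀ := QuotientGroup.eq.1 hne
      simpa using N.mul_mem hn (hN₀N this)
    obtain ⟨M, -, hxM, hM⟩ := exists_avoiding (fun x : H => Subtype.ext (hV x)) ⊥ _ hx₀ne
    have hcM := card_index_two (fun x : H => Subtype.ext (hV x)) M _ hxM hM
    refine ⟨2 * j + 1, by omega, ?_⟩
    have hb := card_le_of_unique hV q _ hdeg (M.map H.subtype) (by rw [hq1]; exact Subgroup.one_mem _) (by
      rintro _ ⟨⟨x, hx⟩, hxm, rfl⟩ hqx
      rcases hzeros x hx hqx with h | h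
      · exact h
      · exfalso
        apply hxM
        have h' : x * x₀⁻¹ ∈ H ⊓ Nb := by
          refine ⟨H.mul_mem hx (H.inv_mem hx₀), ?_⟩
          have := Nb.mul_mem h (Nb.inv_mem hx₀N)
          rwa [mul_inv_rev, mul_assoc, mul_inv_cancel_left] at this
        rw [hHN, Subgroup.mem_bot, mul_inv_eq_one] at h'
        subst h'
        exact hxm)
    rw [Subgroup.card_map_of_injective H.subtype_injective] at hb
    rw [hcM, pow_succ, mul_comm 2]
    exact Nat.mul_le_mul_right 2 hb

end Cfsg.Agent.S3773
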