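import Cfsg.Statements.S3774
import Mathlib
-- import your own Cfsg.Agent.* helpers here

set_option autoImplicit false
open Cfsg

namespace Cfsg.Agent.S3774


/-- Let G be a nontrivial finite 2-group whose automorphism group permutes the involutions of G transitively. Then every involution of G is central, so that the involutions together with 1 form the subgroup Ω₁(Z(G)), and if this subgroup has order q then |G| is a power of q. -/
theorem result {G : Type*} [Group G] [Finite G] [Nontrivial G] (hG : IsPGroup 2 G) (htrans : ∀ x y : G, x ≠ 1 → x ^ 2 = 1 → y ≠ 1 → y ^ 2 = 1 → ∃ a : MulAut G, a x = y) : (∀ x : G, x ^ 2 = 1 → x ∈ Subgroup.center G) ∧ ∃ m : ℕ, Nat.card G = Nat.card {z : G // z ^ 2 = 1} ^ m := by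
  have hcen : ∀ x : G, x ^ 2 = 1 → x ∈ Subgroup.center G := by
    intro x hx
    by_cases h1 : x = 1
    · subst h1; exact one_mem _
    · haveI := hG.center_nontrivial
      haveI : Finite (Subgroup.center G) := inferInstance
      obtain ⟨⟨z, hzc⟩, hz⟩ := exists_ne (1 : Subgroup.center G)
      have hz1 : z ≠ 1 := fun h => hz (Subtype.ext h)
      obtain ⟨k, hk⟩ := IsPGroup.iff_orderOf.1 hG z
      obtain ⟨j, rfl⟩ : ∃ j, k = j + 1 := ⟨k - 1, by
        rcases Nat.eq_zero_or_pos k with rfl | h
        · exact absurd (orderOf_eq_one_iff.1 (by simpa using hk)) hz1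
        · omega⟩
      have hw1 : z ^ 2 ^ j ≠ 1 := by
        intro h
        have h2 := orderOf_dvd_of_pow_eq_one h
        rw [hk, Nat.pow_dvd_pow_iff_le_right (by norm_num)] at h2
        omega
      have hw2 : (z ^ 2 ^ j) ^ 2 = 1 := by
        rw [← pow_mul, ← pow_succ, ← hk, pow_orderOf_eq_one]
      obtain ⟨a, rfl⟩ := htrans _ x hw1 hw2 h1 hx
      rw [Subgroup.mem_center_iff]
      intro g
      have h3 := Subgroup.mem_center_iff.1 (pow_mem hzc (2 ^ j)) (a.symm g)
      simpa using congrArg a h3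
  refine ⟨hcen, ?_⟩
  let W : Subgroup G :=
    { carrier := {z | z ^ 2 = 1}
      mul_mem' := by
        intro a b ha hb
        have hc : Commute b a := Subgroup.mem_center_iff.1 (hcen a ha) b
        show (a * b) ^ 2 = 1
        rw [hc.symm.mul_pow, show a ^ 2 = 1 from ha, show b ^ 2 = 1 from hb, one_mul]
      one_mem' := one_pow 2
      inv_mem' := by
        intro a ha
        show a⁻¹ ^ 2 = 1
        rw [inv_pow, show a ^ 2 = 1 from ha, inv_one] }
  obtain ⟨n, hn⟩ := (hG.to_subgroup W).exists_card_eq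
  obtain ⟨m, hm⟩ := hG.exists_card_eq
  have hq : Nat.card {z : G // z ^ 2 = 1} = 2 ^ n := hn
  suffices h : n ∣ m by
    obtain ⟨c, hc⟩ := h
    exact ⟨c, by rw [hq, hm, hc, pow_mul]⟩
  classical
  have horb : ∀ t : G, t ≠ 1 → t ^ 2 = 1 → Nat.card (MulAction.orbit (MulAut G) t) = 2 ^ n - 1 := by
    intro t ht ht2
    have he : MulAction.orbit (MulAut G) t = (W : Set G) \ {1} := by
      ext y
      constructor
      · rintro ⟨a, rfl⟩
        refine ⟨?_, ?_⟩
        · show (a t) ^ 2 = 1
          rw [← map_pow, ht2, map_one]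
        · show a t ≠ 1
          simpa using ht
      · rintro ⟨hy2, hy1⟩
        exact htrans t y ht ht2 hy1 hy2
    rw [he, Nat.card_coe_set_eq, Set.ncard_sdiff_singleton_of_mem W.one_mem, ← hn]
    rfl
  have hdiv : ∀ g : G, g ≠ 1 → 2 ^ n - 1 ∣ Nat.card (MulAction.orbit (MulAut G) g) := by
    intro g hg
    obtain ⟨k, hk⟩ := IsPGroup.iff_orderOf.1 hG g
    obtain ⟨j, rfl⟩ : ∃ j, k = j + 1 := ⟨k - 1, by
      rcases Nat.eq_zero_or_pos k with rfl | h
      · exact absurd (orderOf_eq_one_iff.1 (by simpa using hk)) hg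
      · omega⟩
    have hw1 : g ^ 2 ^ j ≠ 1 := by
      intro h
      have h2 := orderOf_dvd_of_pow_eq_one h
      rw [hk, Nat.pow_dvd_pow_iff_le_right (by norm_num)] at h2
      omega
    have hw2 : (g ^ 2 ^ j) ^ 2 = 1 := by
      rw [← pow_mul, ← pow_succ, ← hk, pow_orderOf_eq_one]
    rw [← horb _ hw1 hw2, Nat.card_coe_set_eq, Nat.card_coe_set_eq,
      ← MulAction.index_stabilizer, ← MulAction.index_stabilizer]
    apply Subgroup.index_dvd_of_le
    intro a ha
    have ha' : a g = g := ha
    show a (g ^ 2 ^ j) = g ^ 2 ^ j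
    rw [map_pow, ha']
  haveI : Fintype G := Fintype.ofFinite G
  have hsum := Nat.card_congr (MulAction.selfEquivSigmaOrbits (MulAut G) G)
  rw [Nat.card_sigma] at hsum
  let o1 : Quotient (MulAction.orbitRel (MulAut G) G) := Quotient.mk _ (1 : G)
  rw [← Finset.add_sum_erase _ _ (Finset.mem_univ o1)] at hsum
  have hone : Nat.card (MulAction.orbit (MulAut G) o1.out) = 1 := by
    have hrel : o1.out ∈ MulAction.orbit (MulAut G) (1 : G) := Quotient.mk_out (s := MulAction.orbitRel (MulAut G) G) (1 : G)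
    have h11 : MulAction.orbit (MulAut G) (1 : G) = {1} := by
      ext y
      constructor
      · rintro ⟨a, rfl⟩
        exact map_one a
      · rintro rfl
        exact ⟨1, rfl⟩
    rw [h11, Set.mem_singleton_iff] at hrel
    rw [hrel, h11]
    simp
  have hrest : 2 ^ n - 1 ∣ ∑ o ∈ Finset.univ.erase o1, Nat.card (MulAction.orbit (MulAut G) (Quotient.out o)) := by
    apply Finset.dvd_sum
    intro o ho
    apply hdiv
    intro h
    apply (Finset.mem_erase.1 ho).1
    rw [← Quotient.out_eq o, h]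
  have h2 : 2 ^ n - 1 ∣ 2 ^ m - 1 := by
    rw [← hm, hsum, hone, Nat.add_sub_cancel_left]
    exact hrest
  have h3 := Nat.gcd_eq_left h2
  rw [Nat.pow_sub_one_gcd_pow_sub_one] at h3
  have h4 : 2 ^ (n.gcd m) = 2 ^ n := by
    have := Nat.one_le_two_pow (n := n.gcd m)
    have := Nat.one_le_two_pow (n := n)
    omega
  rw [← Nat.pow_right_injective (le_refl 2) h4]
  exact Nat.gcd_dvd_right n m

end Cfsg.Agent.S3774
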