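import Cfsg.Statements.S3775
import Mathlib
-- import your own Cfsg.Agent.* helpers here

set_option autoImplicit false
open Cfsg

namespace Cfsg.Agent.S3775

variable {A : Type*} [CommGroup A] {X : Type*} [Group X] (ρ : X →* MulAut A)

/-- Invariance. -/
def Inv (B : Subgroup A) : Prop := ∀ x : X, ∀ b ∈ B, ρ x b ∈ B

theorem inv_inf {B C : Subgroup A} (hB : Inv ρ B) (hC : Inv ρ C) : Inv ρ (B ⊓ C) :=
  fun x b hb => ⟨hB x b hb.1, hC x b hb.2⟩

theorem inv_sup {B C : Subgroup A} (hB : Inv ρ B) (hC : Inv ρ C) : Inv ρ (B ⊔ C) := by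
  intro x b hb
  obtain ⟨u, hu, v, hv, rfl⟩ := Subgroup.mem_sup.1 hb
  rw [map_mul]
  exact Subgroup.mul_mem_sup (hB x u hu) (hC x v hv)

theorem inv_map_pow (k : ℕ) {B : Subgroup A} (hB : Inv ρ B) : Inv ρ (B.map (powMonoidHom k)) := by
  rintro x _ ⟨b, hb, rfl⟩
  exact ⟨ρ x b, hB x b hb, by simp⟩

/-- Elements killed by `p ^ i`. -/
def om (p i : ℕ) : Subgroup A := (powMonoidHom (p ^ i) : A →* A).ker

theorem mem_om {p i : ℕ} {a : A} : a ∈ (om p i : Subgroup A) ↔ a ^ p ^ i = 1 := Iff.rfl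

theorem inv_om (p i : ℕ) : Inv ρ (om p i : Subgroup A) := fun x a ha => by
  rw [mem_om] at ha ⊢
  rw [← map_pow, ha, map_one]

/-- Averaged Maschke decomposition for a subgroup of exponent `p`. -/
theorem maschke [Finite A] [Finite X] {p : ℕ} [hp : Fact p.Prime] (hX : (Nat.card X).Coprime p)
    (hA : ∀ a : A, a ^ p = 1) (U : Subgroup A) (hU : Inv ρ U) :
    ∃ W : Subgroup A, Inv ρ W ∧ U ⊓ W = ⊥ ∧ U ⊔ W = ⊤ := by
  classical
  letI : Fintype X := Fintype.ofFinite X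
  letI : Module (ZMod p) (Additive A) := AddCommGroup.zmodModule (G := Additive A) (n := p) (fun a => hA a.toMul)
  let U' : Submodule (ZMod p) (Additive A) := AddSubgroup.toZModSubmodule p (Subgroup.toAddSubgroup U)
  obtain ⟨g, hg⟩ := LinearMap.exists_leftInverse_of_injective U'.subtype (LinearMap.ker_eq_bot.2 Subtype.val_injective)
  let π : A →* A := MonoidHom.toAdditive.symm (U'.subtype.comp g).toAddMonoidHom
  have hπ1 : ∀ a, π a ∈ U := fun a => (g (Additive.ofMul a)).2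
  have hπ2 : ∀ u ∈ U, π u = u := fun u hu =>
    congrArg (fun t : U' => ((t : Additive A)).toMul) (LinearMap.congr_fun hg ⟨Additive.ofMul u, hu⟩)
  let F : A →* A :=
    { toFun := fun a => ∏ x : X, ρ x (π (ρ x⁻¹ a))
      map_one' := by simp
      map_mul' := fun a b => by simp [Finset.prod_mul_distrib] }
  have hF1 : ∀ a, F a ∈ U := fun a => U.prod_mem fun x _ => hU x _ (hπ1 _)
  have hF2 : ∀ u ∈ U, F u = u ^ Nat.card X := by
    intro u hu
    show ∏ x : X, ρ x (π (ρ x⁻¹ u)) = _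
    have : ∀ x : X, ρ x (π (ρ x⁻¹ u)) = u := fun x => by
      rw [hπ2 _ (hU _ _ hu), ← MulAut.mul_apply, ← map_mul, mul_inv_cancel, map_one]; rfl
    rw [Finset.prod_congr rfl (fun x _ => this x), Finset.prod_const, Finset.card_univ, Nat.card_eq_fintype_card]
  have hF3 : ∀ (y : X) (a : A), F (ρ y a) = ρ y (F a) := by
    intro y a
    show ∏ x : X, ρ x (π (ρ x⁻¹ (ρ y a))) = ρ y (∏ x : X, ρ x (π (ρ x⁻¹ a)))
    rw [map_prod]
    refine (Fintype.prod_equiv (Equiv.mulLeft y) _ _ fun x => ?_).symm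
    have e : ∀ (u v : X) (b : A), ρ u (ρ v b) = ρ (u * v) b := fun u v b => by rw [map_mul]; rfl
    rw [Equiv.coe_mulLeft, e y x, e (y * x)⁻¹ y, mul_inv_rev, inv_mul_cancel_right]
  obtain ⟨m, -, hm⟩ := Nat.exists_mul_mod_eq_one_of_coprime hX hp.out.one_lt
  have hred : ∀ a : A, a ^ (Nat.card X * m) = a := by
    intro a
    rw [← Nat.mod_add_div (Nat.card X * m) p, hm, pow_add, pow_one, pow_mul, hA, one_pow, mul_one]
  let f : A →* A := (powMonoidHom m).comp F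
  refine ⟨f.ker, ?_, ?_, ?_⟩
  · intro y a ha
    rw [MonoidHom.mem_ker] at ha ⊢
    show (F (ρ y a)) ^ m = 1
    rw [hF3, ← map_pow, show F a ^ m = 1 from ha, map_one]
  · rw [Subgroup.eq_bot_iff_forall]
    rintro u ⟨hu, hk⟩
    have hk' : F u ^ m = 1 := hk
    rwa [hF2 u hu, ← pow_mul, hred] at hk'
  · rw [eq_top_iff]
    intro a _
    have h1 : f a ∈ U := U.pow_mem (hF1 a) m
    have h2 : (f a)⁻¹ * a ∈ f.ker := by
      rw [MonoidHom.mem_ker, map_mul, map_inv, show f (f a) = f a from ?_, inv_mul_cancel]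
      show F (f a) ^ m = f a
      rw [hF2 _ h1, ← pow_mul, hred]
    have := Subgroup.mul_mem_sup h1 h2
    rwa [mul_inv_cancel_left] at this

/-- Maschke relative to a subgroup of exponent `p`. -/
theorem maschke_in [Finite A] [Finite X] {p : ℕ} [Fact p.Prime] (hX : (Nat.card X).Coprime p)
    (V U : Subgroup A) (hV : Inv ρ V) (hVp : ∀ v ∈ V, v ^ p = 1) (hUV : U ≤ V) (hU : Inv ρ U) :
    ∃ W : Subgroup A, W ≤ V ∧ Inv ρ W ∧ U ⊓ W = ⊥ ∧ U ⊔ W = V := by
  let ρ' : X →* MulAut V :=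
    { toFun := fun x =>
        { toFun := fun v => ⟨ρ x v, hV x v v.2⟩
          invFun := fun v => ⟨ρ x⁻¹ v, hV x⁻¹ v v.2⟩
          left_inv := fun v => Subtype.ext (by simp)
          right_inv := fun v => Subtype.ext (by simp)
          map_mul' := fun v w => Subtype.ext (by simp) }
      map_one' := MulEquiv.ext fun v => Subtype.ext (by simp)
      map_mul' := fun x y => MulEquiv.ext fun v => Subtype.ext (by simp) }
  obtain ⟨W, hW, h1, h2⟩ := maschke ρ' hX (fun v => Subtype.ext (hVp v v.2)) (U.subgroupOf V) (fun x v hv => hU x v hv)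
  refine ⟨W.map V.subtype, Subgroup.map_subtype_le W, ?_, ?_, ?_⟩
  · rintro x _ ⟨w, hw, rfl⟩
    exact ⟨ρ' x w, hW x w hw, rfl⟩
  · have := congrArg (Subgroup.map V.subtype) h1
    rwa [Subgroup.map_inf _ _ _ V.subtype_injective, Subgroup.map_subgroupOf_eq_of_le hUV, Subgroup.map_bot] at this
  · have := congrArg (Subgroup.map V.subtype) h2
    rwa [Subgroup.map_sup, Subgroup.map_subgroupOf_eq_of_le hUV, ← MonoidHom.range_eq_map, Subgroup.range_subtype] at this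

/-- Irreducibility of the bottom layer forces all invariant subgroups to be layers. -/
theorem layers [Finite A] {p : ℕ} (hA : IsPGroup p A)
    (h : ∀ B : Subgroup A, Inv ρ B → (∀ b ∈ B, b ^ p = 1) → B = ⊥ ∨ ∀ a : A, a ∈ B ↔ a ^ p = 1)
    (B : Subgroup A) (hB : Inv ρ B) : ∃ i : ℕ, ∀ a : A, a ∈ B ↔ a ^ p ^ i = 1 := by
  classical
  have hex : ∃ i : ℕ, ∀ b ∈ B, b ^ p ^ i = 1 := by
    choose k hk using fun a : A => hA a
    haveI := Fintype.ofFinite A
    obtain ⟨N, hN⟩ : ∃ N, ∀ a, k a ≤ N := ⟨Finset.univ.sup k, fun a => Finset.le_sup (Finset.mem_univ a)⟩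
    refine ⟨N, fun b _ => ?_⟩
    obtain ⟨d, hd⟩ := Nat.le.dest (hN b)
    rw [← hd, pow_add, pow_mul, hk, one_pow]
  let e := Nat.find hex
  have he : ∀ b ∈ B, b ^ p ^ e = 1 := Nat.find_spec hex
  refine ⟨e, fun a => ⟨he a, ?_⟩⟩
  suffices H : ∀ i, i ≤ e → ∀ a : A, a ^ p ^ i = 1 → a ∈ B from H e le_rfl a
  intro i
  induction i with
  | zero =>
    intro _ a ha
    rw [pow_zero, pow_one] at ha
    rw [ha]; exact one_mem B
  | succ i ih =>
    intro hi a ha
    obtain ⟨b₀, hb₀, hb₀'⟩ : ∃ b ∈ B, b ^ p ^ (e - 1) ≠ 1 := by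
      have := Nat.find_min hex (show e - 1 < e by omega)
      push Not at this
      exact this
    have hM := h (B.map (powMonoidHom (p ^ (e - 1)))) (inv_map_pow ρ _ hB) (by
      rintro _ ⟨b, hb, rfl⟩
      show (b ^ p ^ (e - 1)) ^ p = 1
      rw [← pow_mul, ← pow_succ, show e - 1 + 1 = e by omega, he b hb])
    have hM' : ∀ a : A, a ∈ B.map (powMonoidHom (p ^ (e - 1))) ↔ a ^ p = 1 := by
      refine hM.resolve_left fun h0 => hb₀' ?_
      have : b₀ ^ p ^ (e - 1) ∈ B.map (powMonoidHom (p ^ (e - 1))) := ⟨b₀, hb₀, rfl⟩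
      rwa [h0, Subgroup.mem_bot] at this
    obtain ⟨b, hb, hba⟩ := (hM' (a ^ p ^ i)).2 (by rw [← pow_mul, ← pow_succ]; exact ha)
    have hb' : (b ^ p ^ (e - 1 - i)) ^ p ^ i = a ^ p ^ i := by
      rw [← pow_mul, ← pow_add, show e - 1 - i + i = e - 1 by omega]; exact hba
    have h1 : a * (b ^ p ^ (e - 1 - i))⁻¹ ∈ B := ih (by omega) _ (by rw [mul_pow, inv_pow, hb', mul_inv_cancel])
    have := B.mul_mem h1 (B.pow_mem hb (p ^ (e - 1 - i)))
    simpa using this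

/-- A nontrivial decomposition when the bottom layer is reducible. -/
theorem decompose [Finite A] [Finite X] {p : ℕ} [hp : Fact p.Prime] (hA : IsPGroup p A) (hX : (Nat.card X).Coprime p)
    (B : Subgroup A) (hB : Inv ρ B) (hBp : ∀ b ∈ B, b ^ p = 1) (hB1 : B ≠ ⊥) (hB2 : ∃ a : A, a ^ p = 1 ∧ a ∉ B) :
    ∃ H K : Subgroup A, H ≠ ⊥ ∧ K ≠ ⊥ ∧ Inv ρ H ∧ Inv ρ K ∧ H ⊓ K = ⊥ ∧ H ⊔ K = ⊤ := by
  classical
  obtain ⟨N, ⟨hNi, hN1, hNB⟩, hNmin⟩ := Set.Finite.exists_minimal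
    (Set.toFinite {N : Subgroup A | Inv ρ N ∧ N ≠ ⊥ ∧ N ≤ B}) ⟨B, hB, hB1, le_rfl⟩
  have hirr : ∀ T : Subgroup A, Inv ρ T → T ⊓ N ≠ ⊥ → N ≤ T := fun T hT h =>
    (hNmin ⟨inv_inf ρ hT hNi, h, inf_le_right.trans hNB⟩ inf_le_right).trans inf_le_left
  have hexh : ∃ k : ℕ, ¬ N ≤ (⊤ : Subgroup A).map (powMonoidHom (p ^ k)) := by
    obtain ⟨c, hc⟩ := hA.exists_card_eq
    refine ⟨c, fun h => hN1 (le_bot_iff.1 (h.trans ?_))⟩
    rintro _ ⟨a, -, rfl⟩
    show a ^ p ^ c ∈ (⊥ : Subgroup A)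
    rw [← hc, pow_card_eq_one']
    exact one_mem _
  obtain ⟨h, hh⟩ : ∃ h, Nat.find hexh = h + 1 := by
    refine ⟨Nat.find hexh - 1, ?_⟩
    have : Nat.find hexh ≠ 0 := fun h0 => Nat.find_spec hexh (by
      rw [h0, pow_zero]
      intro n _
      exact ⟨n, trivial, by simp⟩)
    omega
  have hNh : N ≤ (⊤ : Subgroup A).map (powMonoidHom (p ^ h)) := by
    by_contra hc
    have := Nat.find_le (h := hexh) hc
    omega
  have hNh1 : (⊤ : Subgroup A).map (powMonoidHom (p ^ (h + 1))) ⊓ N = ⊥ := by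
    by_contra hne
    exact hh ▸ Nat.find_spec hexh <| hirr _ (inv_map_pow ρ _ (fun _ _ _ => trivial)) hne
  have hS0 : Inv ρ (N.comap (powMonoidHom (p ^ h))) := by
    intro x a ha
    show (ρ x a) ^ p ^ h ∈ N
    rw [← map_pow]
    exact hNi x _ ha
  obtain ⟨K, ⟨hKi, hKS, hKN⟩, hKmin⟩ := Set.Finite.exists_minimal
    (Set.toFinite {K : Subgroup A | Inv ρ K ∧ K ≤ N.comap (powMonoidHom (p ^ h)) ∧ N ≤ K.map (powMonoidHom (p ^ h))})
    ⟨N.comap (powMonoidHom (p ^ h)), hS0, le_rfl, fun n hn => by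
      obtain ⟨a, -, ha⟩ := hNh hn
      exact ⟨a, show a ^ p ^ h ∈ N from (show a ^ p ^ h = n from ha) ▸ hn, ha⟩⟩
  have hKexp : ∀ k ∈ K, k ^ p ^ (h + 1) = 1 := fun k hk => by
    rw [pow_succ, pow_mul]; exact hBp _ (hNB (hKS hk))
  have hproper : ∀ T : Subgroup A, Inv ρ T → T ≤ K → T ≠ K → ∀ t ∈ T, t ^ p ^ h = 1 := by
    intro T hT hTK hne t ht
    by_contra ht1
    apply hne
    refine le_antisymm hTK (hKmin ⟨hT, hTK.trans hKS, hirr _ (inv_map_pow ρ _ hT) ?_⟩ hTK)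
    intro h0
    have : t ^ p ^ h ∈ T.map (powMonoidHom (p ^ h)) ⊓ N := ⟨⟨t, ht, rfl⟩, hKS (hTK ht)⟩
    rw [h0, Subgroup.mem_bot] at this
    exact ht1 this
  have hKtop : ∃ k ∈ K, k ^ p ^ h ≠ 1 := by
    by_contra hc
    push Not at hc
    apply hN1
    rw [eq_bot_iff]
    intro n hn
    obtain ⟨k, hk, rfl⟩ := hKN hn
    exact hc k hk
  -- bottom layer of `K`
  have hKbot : ∀ x ∈ K, x ^ p = 1 → x ∈ N := by
    let U : Subgroup A := K.map (powMonoidHom p)
    have hUi : Inv ρ U := inv_map_pow ρ _ hKi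
    have hUK : U ≤ K := by
      rintro _ ⟨k, hk, rfl⟩; exact K.pow_mem hk p
    have hmaxU : ∀ T : Subgroup A, Inv ρ T → U ≤ T → T ≤ K → T ≠ K → T ≤ U := by
      intro T hT hUT hTK hne t ht
      haveI : U.Normal := inferInstance
      let π := QuotientGroup.mk' U
      have hmap : ∀ x : X, U.map (ρ x).toMonoidHom = U := by
        intro x
        refine le_antisymm ?_ ?_
        · rintro _ ⟨u, hu, rfl⟩; exact hUi x u hu
        · intro u hu
          exact ⟨ρ x⁻¹ u, hUi x⁻¹ u hu, by simp⟩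
      let ρq : X →* MulAut (A ⧸ U) :=
        { toFun := fun x => QuotientGroup.congr U U (ρ x) (hmap x)
          map_one' := MulEquiv.ext fun q => by
            induction q using QuotientGroup.induction_on with
            | _ a => simp [QuotientGroup.congr_mk]
          map_mul' := fun x y => MulEquiv.ext fun q => by
            induction q using QuotientGroup.induction_on with
            | _ a => simp [QuotientGroup.congr_mk]; rfl }
      have hinv : ∀ S : Subgroup A, Inv ρ S → Inv ρq (S.map π) := by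
        rintro S hS x _ ⟨s, hs, rfl⟩
        exact ⟨ρ x s, hS x s hs, rfl⟩
      obtain ⟨W, hWK, hWi, hW1, hW2⟩ := maschke_in ρq hX (K.map π) (T.map π) (hinv K hKi) (by
        rintro _ ⟨k, hk, rfl⟩
        rw [← map_pow]
        exact (QuotientGroup.eq_one_iff _).2 ⟨k, hk, rfl⟩) (Subgroup.map_mono hTK) (hinv T hT)
      let T' : Subgroup A := W.comap π ⊓ K
      have hT'i : Inv ρ T' := fun x a ha => ⟨hWi x _ ha.1, hKi x a ha.2⟩
      have hgen : K ≤ T ⊔ T' := by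
        intro k hk
        have : π k ∈ T.map π ⊔ W := by rw [hW2]; exact ⟨k, hk, rfl⟩
        obtain ⟨_, ⟨t₁, ht₁, rfl⟩, w, hw, hwk⟩ := Subgroup.mem_sup.1 this
        have : t₁⁻¹ * k ∈ T' := by
          refine ⟨?_, K.mul_mem (K.inv_mem (hTK ht₁)) hk⟩
          show π (t₁⁻¹ * k) ∈ W
          rw [map_mul, map_inv, ← hwk, inv_mul_cancel_left]
          exact hw
        have := Subgroup.mul_mem_sup ht₁ this
        rwa [mul_inv_cancel_left] at this
      by_cases hT'K : T' = K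
      · have h1 : π t ∈ T.map π ⊓ W := ⟨⟨t, ht, rfl⟩, (hT'K.symm ▸ hTK ht : t ∈ T').1⟩
        rw [hW1, Subgroup.mem_bot] at h1
        exact (QuotientGroup.eq_one_iff t).1 h1
      · exfalso
        obtain ⟨k, hk, hk'⟩ := hKtop
        apply hk'
        obtain ⟨u, hu, v, hv, rfl⟩ := Subgroup.mem_sup.1 (hgen hk)
        rw [mul_pow, hproper T hT hTK hne u hu, hproper T' hT'i inf_le_right hT'K v hv, one_mul]
    intro x hx hx1
    have key : ∀ j, j ≤ h → x ∈ K.map (powMonoidHom (p ^ j)) := by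
      intro j
      induction j with
      | zero => intro _; exact ⟨x, hx, by simp⟩
      | succ j ih =>
        intro hj
        obtain ⟨y, hy, hyx⟩ := ih (by omega)
        have hyx' : y ^ p ^ j = x := hyx
        let T : Subgroup A := K ⊓ om p (j + 1) ⊔ U
        have hT : Inv ρ T := inv_sup ρ (inv_inf ρ hKi (inv_om ρ p (j + 1))) hUi
        have hTK : T ≤ K := sup_le inf_le_left hUK
        have hne : T ≠ K := by
          intro hTK'
          obtain ⟨k₀, hk₀, hk₀'⟩ := hKtop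
          apply hk₀'
          obtain ⟨u, hu, _, ⟨w, hw, rfl⟩, rfl⟩ := Subgroup.mem_sup.1 (hTK'.symm ▸ hk₀ : k₀ ∈ T)
          rw [mul_pow, powMonoidHom_apply, ← pow_mul, ← pow_succ', hKexp w hw, mul_one]
          obtain ⟨d, hd⟩ := Nat.le.dest hj
          rw [← hd, pow_add, pow_mul, show u ^ p ^ (j + 1) = 1 from hu.2, one_pow]
        have hyU : y ∈ U := hmaxU T hT le_sup_right hTK hne (Subgroup.mem_sup_left ⟨hy, by
          show y ^ p ^ (j + 1) = 1
          rw [pow_succ, pow_mul, hyx', hx1]⟩)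
        obtain ⟨z, hz, hzy⟩ := hyU
        refine ⟨z, hz, ?_⟩
        show z ^ p ^ (j + 1) = x
        rw [pow_succ', pow_mul, show z ^ p = y from hzy, hyx']
    obtain ⟨y, hy, rfl⟩ := key h le_rfl
    exact hKS hy
  obtain ⟨H, ⟨hHi, hHN, hHA⟩, hHmax⟩ := Set.Finite.exists_maximal
    (Set.toFinite {H : Subgroup A | Inv ρ H ∧ H ⊓ N = ⊥ ∧ (⊤ : Subgroup A).map (powMonoidHom (p ^ (h + 1))) ≤ H})
    ⟨_, inv_map_pow ρ _ (B := ⊤) (fun _ _ _ => trivial), hNh1, le_rfl⟩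
  have hHK : H ⊓ K = ⊥ := by
    by_contra hne
    obtain ⟨x, hx, hx1⟩ := (Subgroup.bot_or_exists_ne_one _).resolve_left hne
    obtain ⟨k, hk⟩ := IsPGroup.iff_orderOf.1 hA x
    obtain ⟨j, rfl⟩ : ∃ j, k = j + 1 := ⟨k - 1, by
      rcases Nat.eq_zero_or_pos k with rfl | h'
      · exact absurd (orderOf_eq_one_iff.1 (by simpa using hk)) hx1
      · omega⟩
    have hy1 : (x ^ p ^ j) ^ p = 1 := by rw [← pow_mul, ← pow_succ, ← hk, pow_orderOf_eq_one]
    have hy : x ^ p ^ j ∈ H ⊓ N := ⟨H.pow_mem hx.1 _, hKbot _ (K.pow_mem hx.2 _) hy1⟩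
    rw [hHN, Subgroup.mem_bot] at hy
    have := orderOf_dvd_of_pow_eq_one hy
    rw [hk, Nat.pow_dvd_pow_iff_le_right hp.out.one_lt] at this
    omega
  haveI : H.Normal := inferInstance
  let π := QuotientGroup.mk' H
  have hmapH : ∀ x : X, H.map (ρ x).toMonoidHom = H := by
    intro x
    refine le_antisymm ?_ ?_
    · rintro _ ⟨u, hu, rfl⟩; exact hHi x u hu
    · intro u hu
      exact ⟨ρ x⁻¹ u, hHi x⁻¹ u hu, by simp⟩
  let ρq : X →* MulAut (A ⧸ H) :=
    { toFun := fun x => QuotientGroup.congr H H (ρ x) (hmapH x)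
      map_one' := MulEquiv.ext fun q => by
        induction q using QuotientGroup.induction_on with
        | _ a => simp [QuotientGroup.congr_mk]
      map_mul' := fun x y => MulEquiv.ext fun q => by
        induction q using QuotientGroup.induction_on with
        | _ a => simp [QuotientGroup.congr_mk]; rfl }
  have hinvq : ∀ S : Subgroup A, Inv ρ S → Inv ρq (S.map π) := by
    rintro S hS x _ ⟨s, hs, rfl⟩
    exact ⟨ρ x s, hS x s hs, rfl⟩
  have hNq : ∀ T : Subgroup (A ⧸ H), Inv ρq T → T ≠ ⊥ → N.map π ≤ T := by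
    intro T hT hT1
    rw [Subgroup.map_le_iff_le_comap]
    have hTi : Inv ρ (T.comap π) := fun x a ha => hT x _ ha
    refine hirr _ hTi fun h0 => hT1 ?_
    have hle : H ≤ T.comap π := fun a ha => by
      show π a ∈ T
      rw [show π a = 1 from (QuotientGroup.eq_one_iff a).2 ha]
      exact one_mem T
    have := hHmax ⟨hTi, h0, hHA.trans hle⟩ hle
    rw [← Subgroup.map_comap_eq_self_of_surjective (QuotientGroup.mk'_surjective H) T, Subgroup.map_eq_bot_iff,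
      QuotientGroup.ker_mk']
    exact this
  have hquot : ∀ T : Subgroup (A ⧸ H), Inv ρq T → (∀ b ∈ T, b ^ p = 1) → T = ⊥ ∨ ∀ a : A ⧸ H, a ∈ T ↔ a ^ p = 1 := by
    intro T hT hTp
    by_cases hT1 : T = ⊥
    · exact Or.inl hT1
    right
    intro a
    refine ⟨hTp a, fun ha => ?_⟩
    obtain ⟨W, hWle, hWi, hW1, hW2⟩ := maschke_in ρq hX (om p 1) T (inv_om ρq p 1) (fun v hv => by simpa [mem_om] using hv)
      (fun t ht => by simpa [mem_om] using hTp t ht) hT
    have hW0 : W = ⊥ := by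
      by_contra hW0
      have h1 : N.map π ≤ T ⊓ W := le_inf (hNq T hT hT1) (hNq W hWi hW0)
      rw [hW1, le_bot_iff, Subgroup.map_eq_bot_iff, QuotientGroup.ker_mk'] at h1
      exact hN1 (le_bot_iff.1 (hHN ▸ le_inf h1 le_rfl))
    rw [hW0, sup_bot_eq] at hW2
    rw [hW2, mem_om]
    simpa using ha
  obtain ⟨i, hi⟩ := layers ρq (hA.to_quotient H) hquot (K.map π) (hinvq K hKi)
  have hsup : H ⊔ K = ⊤ := by
    rw [eq_top_iff]
    intro a _
    have hge : h + 1 ≤ i := by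
      by_contra hlt
      obtain ⟨k, hk, hk'⟩ := hKtop
      have h1 : (π k) ^ p ^ i = 1 := (hi _).1 ⟨k, hk, rfl⟩
      rw [← map_pow] at h1
      have h2 : k ^ p ^ i ∈ H ⊓ K := ⟨(QuotientGroup.eq_one_iff _).1 h1, K.pow_mem hk _⟩
      rw [hHK, Subgroup.mem_bot] at h2
      obtain ⟨d, hd⟩ := Nat.le.dest (show i ≤ h by omega)
      apply hk'
      rw [← hd, pow_add, pow_mul, h2, one_pow]
    have h1 : π a ∈ K.map π := by
      rw [hi]
      obtain ⟨d, hd⟩ := Nat.le.dest hge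
      rw [← hd, pow_add, pow_mul, ← map_pow,
        show π (a ^ p ^ (h + 1)) = 1 from (QuotientGroup.eq_one_iff _).2 (hHA ⟨a, trivial, rfl⟩), one_pow]
    obtain ⟨k, hk, hka⟩ := h1
    have h2 : a * k⁻¹ ∈ H := (QuotientGroup.eq_one_iff _).1 (show π (a * k⁻¹) = 1 by rw [map_mul, map_inv, hka, mul_inv_cancel])
    have := Subgroup.mul_mem_sup h2 hk
    rwa [inv_mul_cancel_right] at this
  refine ⟨H, K, ?_, ?_, hHi, hKi, hHK, hsup⟩
  · intro hH
    obtain ⟨a, ha, haB⟩ := hB2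
    rw [hH, bot_sup_eq] at hsup
    exact haB (hNB (hKbot a (hsup ▸ Subgroup.mem_top a) ha))
  · intro hK
    obtain ⟨k, hk, hk'⟩ := hKtop
    rw [hK, Subgroup.mem_bot] at hk
    exact hk' (by rw [hk, one_pow])

/-- Let A be a finite abelian p-group and X a group of automorphisms of A of order prime to p. Call a subgroup of A invariant when every element of X maps it onto itself. Then the following are equivalent: (i) A is not the direct product of two nontrivial invariant subgroups; (ii) every invariant subgroup of A is one of the subgroups Ω_i(A) = {a : a^(p^i) = 1}; (iii) the subgroup Ω₁(A) of elements of order dividing p has no invariant subgroups other than 1 and itself. -/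
theorem result {A : Type*} [CommGroup A] [Finite A] {p : ℕ} [Fact p.Prime] (hA : IsPGroup p A) (X : Subgroup (MulAut A)) (hX : (Nat.card X).Coprime p) : ((¬ ∃ B C : Subgroup A, B ≠ ⊥ ∧ C ≠ ⊥ ∧ (∀ x ∈ X, B.map x.toMonoidHom = B) ∧ (∀ x ∈ X, C.map x.toMonoidHom = C) ∧ B ⊓ C = ⊥ ∧ B ⊔ C = ⊤) ↔ (∀ B : Subgroup A, (∀ x ∈ X, B.map x.toMonoidHom = B) → ∃ i : ℕ, ∀ a : A, a ∈ B ↔ a ^ p ^ i = 1)) ∧ ((∀ B : Subgroup A, (∀ x ∈ X, B.map x.toMonoidHom = B) → ∃ i : ℕ, ∀ a : A, a ∈ B ↔ a ^ p ^ i = 1) ↔ (∀ B : Subgroup A, (∀ x ∈ X, B.map x.toMonoidHom = B) → (∀ b ∈ B, b ^ p = 1) → B = ⊥ ∨ ∀ a : A, a ∈ B ↔ a ^ p = 1)) := by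
  classical
  let ρ : X →* MulAut A := X.subtype
  have hiff : ∀ B : Subgroup A, (∀ x ∈ X, B.map x.toMonoidHom = B) ↔ Inv ρ B := by
    intro B
    constructor
    · intro h x b hb
      rw [← h x.1 x.2]
      exact ⟨b, hb, rfl⟩
    · intro h x hx
      refine le_antisymm ?_ ?_
      · rintro _ ⟨b, hb, rfl⟩; exact h ⟨x, hx⟩ b hb
      · intro b hb
        exact ⟨x⁻¹ b, h ⟨x⁻¹, X.inv_mem hx⟩ b hb, by simp⟩
  have h23 : (∀ B : Subgroup A, (∀ x ∈ X, B.map x.toMonoidHom = B) → ∃ i : ℕ, ∀ a : A, a ∈ B ↔ a ^ p ^ i = 1) →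
      (∀ B : Subgroup A, (∀ x ∈ X, B.map x.toMonoidHom = B) → (∀ b ∈ B, b ^ p = 1) → B = ⊥ ∨ ∀ a : A, a ∈ B ↔ a ^ p = 1) := by
    intro h B hB hBp
    by_cases hB1 : B = ⊥
    · exact Or.inl hB1
    right
    intro a
    refine ⟨hBp a, fun ha => ?_⟩
    obtain ⟨i, hi⟩ := h B hB
    obtain ⟨b, hb, hb1⟩ := (Subgroup.bot_or_exists_ne_one _).resolve_left hB1
    rcases Nat.eq_zero_or_pos i with rfl | hpos
    · exact absurd (by simpa using (hi b).1 hb) hb1
    · rw [hi]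
      obtain ⟨d, hd⟩ := Nat.le.dest hpos
      rw [← hd, pow_add, pow_mul, pow_one, ha, one_pow]
  have h32 : (∀ B : Subgroup A, (∀ x ∈ X, B.map x.toMonoidHom = B) → (∀ b ∈ B, b ^ p = 1) → B = ⊥ ∨ ∀ a : A, a ∈ B ↔ a ^ p = 1) →
      (∀ B : Subgroup A, (∀ x ∈ X, B.map x.toMonoidHom = B) → ∃ i : ℕ, ∀ a : A, a ∈ B ↔ a ^ p ^ i = 1) :=
    fun h B hB => layers ρ hA (fun B hB hBp => h B ((hiff B).2 hB) hBp) B ((hiff B).1 hB)
  refine ⟨⟨?_, ?_⟩, ⟨h23, h32⟩⟩
  · intro hdec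
    apply h32
    intro B hB hBp
    by_cases hB1 : B = ⊥
    · exact Or.inl hB1
    right
    intro a
    refine ⟨hBp a, fun ha => ?_⟩
    by_contra haB
    obtain ⟨H, K, h1, h2, h3, h4, h5, h6⟩ := decompose ρ hA hX B ((hiff B).1 hB) hBp hB1 ⟨a, ha, haB⟩
    exact hdec ⟨H, K, h1, h2, (hiff H).2 h3, (hiff K).2 h4, h5, h6⟩
  · rintro h ⟨B, C, hB1, hC1, hB, hC, hBC, -⟩
    obtain ⟨b, hb, hb1⟩ := (Subgroup.bot_or_exists_ne_one _).resolve_left hB1
    obtain ⟨k, hk⟩ := IsPGroup.iff_orderOf.1 hA b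
    obtain ⟨j, rfl⟩ : ∃ j, k = j + 1 := ⟨k - 1, by
      rcases Nat.eq_zero_or_pos k with rfl | h'
      · exact absurd (orderOf_eq_one_iff.1 (by simpa using hk)) hb1
      · omega⟩
    have hw2 : (b ^ p ^ j) ^ p = 1 := by rw [← pow_mul, ← pow_succ, ← hk, pow_orderOf_eq_one]
    obtain ⟨i, hi⟩ := h C hC
    have hwC : b ^ p ^ j ∈ C := by
      rcases Nat.eq_zero_or_pos i with rfl | hpos
      · exfalso
        exact hC1 ((Subgroup.eq_bot_iff_forall _).2 fun c hc => by simpa using (hi c).1 hc)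
      · rw [hi]
        obtain ⟨d, hd⟩ := Nat.le.dest hpos
        rw [← hd, pow_add, pow_mul, pow_one, hw2, one_pow]
    have : b ^ p ^ j ∈ B ⊓ C := ⟨B.pow_mem hb _, hwC⟩
    rw [hBC, Subgroup.mem_bot] at this
    have := orderOf_dvd_of_pow_eq_one this
    rw [hk, Nat.pow_dvd_pow_iff_le_right (Fact.out : p.Prime).one_lt] at this
    omega

end Cfsg.Agent.S3775
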