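import Cfsg.Statements.S3776
import Cfsg.Agent.Lib.SuzukiSolvClass31
import Cfsg.Agent.Lib.PGroupsBasic

set_option autoImplicit false
open Cfsg
open scoped commutatorElement

namespace Cfsg.Agent.S3776

/-- Let G be a finite non-abelian 2-group with more than one involution admitting a solvable group of automorphisms that permutes its involutions transitively. Then the derived subgroup, the Frattini subgroup and the centre of G coincide and consist exactly of the elements x with x² = 1. -/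
theorem result {G : Type*} [Group G] [Finite G] (hG : IsPGroup 2 G) (hna : ¬ IsMulCommutative G) (htwo : ∃ x y : G, x ≠ y ∧ x ≠ 1 ∧ x ^ 2 = 1 ∧ y ≠ 1 ∧ y ^ 2 = 1) (hY : ∃ Y : Subgroup (MulAut G), Group.IsSolvable Y ∧ ∀ x y : G, x ≠ 1 → x ^ 2 = 1 → y ≠ 1 → y ^ 2 = 1 → ∃ a ∈ Y, a x = y) : commutator G = frattini G ∧ frattini G = Subgroup.center G ∧ ∀ x : G, x ∈ Subgroup.center G ↔ x ^ 2 = 1 := by
  classical
  haveI := Fact.mk Nat.prime_two
  obtain ⟨Y, hY, htr⟩ := hY
  have htwo' : ∃ x y : G, x ≠ y ∧ x ≠ 1 ∧ x * x = 1 ∧ y ≠ 1 ∧ y * y = 1 := by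
    obtain ⟨x, y, h1, h2, h3, h4, h5⟩ := htwo
    exact ⟨x, y, h1, h2, by rw [← pow_two]; exact h3, h4, by rw [← pow_two]; exact h5⟩
  have htr' : ∀ x y : G, x ≠ 1 → x * x = 1 → y ≠ 1 → y * y = 1 → ∃ k : Y, (k : MulAut G) x = y := by
    intro x y h1 h2 h3 h4
    obtain ⟨a, ha, h⟩ := htr x y h1 (by rw [pow_two]; exact h2) h3 (by rw [pow_two]; exact h4)
    exact ⟨⟨a, ha⟩, h⟩
  have hnc : ∃ x y : G, x * y ≠ y * x := by
    by_contra h
    push Not at h
    exact hna ⟨⟨h⟩⟩
  obtain ⟨F, hF, hFf, hchar, n, θ, i, hM⟩ :=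
    Cfsg.Agent.SuzukiSolvModel31.exists_model hG Y hY htwo' htr'
  have hS := Cfsg.Agent.SuzukiSolvModel31.setup_of_model hM hG hnc htwo' htr'
  have hcz : ∀ x : G, x ∈ Subgroup.center G ↔ x ^ 2 = 1 := fun x => by
    rw [pow_two]
    exact ⟨Cfsg.Agent.SuzukiSolvGroup31.center_sq hS x,
      Cfsg.Agent.SuzukiSolvGroup31.mem_center_of_invol hS⟩
  have h1 : commutator G ≤ Subgroup.center G := by
    rw [commutator_def, Subgroup.commutator_le]
    intro a _ b _
    rw [commutatorElement_def]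
    simpa using Cfsg.Agent.SuzukiSolvClass31.commutator_mem_center hS hM a⁻¹ b⁻¹
  have h2 : frattini G ≤ Subgroup.center G :=
    Cfsg.Agent.PGroupsBasic.frattini_le_of_elementary_quotient (p := 2) h1 fun x => by
      rw [pow_two]; exact Cfsg.Agent.SuzukiSolvClass31.sq_mem_center hS hM x
  have h3 : Subgroup.center G ≤ commutator G := by
    obtain ⟨a, b, hab⟩ := hnc
    have hc : ⁅a, b⁆ ∈ commutator G :=
      Subgroup.commutator_mem_commutator (Subgroup.mem_top _) (Subgroup.mem_top _)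
    have hc1 : ⁅a, b⁆ ≠ 1 := fun h => hab (commutatorElement_eq_one_iff_mul_comm.1 h)
    have hc2 : ⁅a, b⁆ * ⁅a, b⁆ = 1 := by rw [← pow_two]; exact (hcz _).1 (h1 hc)
    intro z hz
    rcases eq_or_ne z 1 with rfl | hz1
    · exact one_mem _
    obtain ⟨k, hk⟩ := htr' _ z hc1 hc2 hz1 (by rw [← pow_two]; exact (hcz z).1 hz)
    rw [← hk, map_commutatorElement]
    exact Subgroup.commutator_mem_commutator (Subgroup.mem_top _) (Subgroup.mem_top _)
  have h4 : commutator G ≤ frattini G := Cfsg.Agent.PGroupsBasic.commutator_le_frattini hG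
  exact ⟨le_antisymm h4 (h2.trans h3), le_antisymm h2 (h3.trans h4), hcz⟩

end Cfsg.Agent.S3776
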