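import Cfsg.Statements.S3778
import Mathlib

set_option autoImplicit false
open Cfsg

namespace Cfsg.Agent.S3778

open scoped Pointwise commutatorElement

set_option linter.style.haveILetI false

theorem exists_bound {G : Type*} [Group G] [Finite G] {p : ℕ} [hp : Fact p.Prime]
    (hG : IsPGroup p G) (b : ℕ)
    (hb : ∀ x : G, (Subgroup.centralizer ({x} : Set G)).index ≤ p ^ b) :
    ∃ c : ℕ, (⊤ : Subgroup G).lowerCentralSeries c = ⊥ ∧
      (c ≤ 1 ∨ (c - 1) * (p - 1) < b * p) := by
  classical
  haveI : Group.IsNilpotent G := hG.isNilpotent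
  haveI : Fintype G := Fintype.ofFinite G
  set γ := fun i => (⊤ : Subgroup G).lowerCentralSeries i with hγ
  have hex : ∃ n, γ n = ⊥ := Subgroup.nilpotent_iff_lowerCentralSeries.mp ‹_›
  have hspec := Nat.find_spec hex
  have hmin := fun {m} (h : m < Nat.find hex) => Nat.find_min hex h
  generalize Nat.find hex = c at hspec hmin
  refine ⟨c, hspec, ?_⟩
  by_cases hc : c ≤ 1
  · exact Or.inl hc
  refine Or.inr ?_
  have hanti : Antitone γ := Subgroup.lowerCentralSeries_antitone _
  have hnorm : ∀ i, (γ i).Normal := fun i => inferInstanceAs ((⊤ : Subgroup G).lowerCentralSeries i).Normal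
  have hstep : ∀ i a g, a ∈ γ i → ⁅a, g⁆ ∈ γ (i + 1) := fun i a g ha =>
    Subgroup.commutator_mem_commutator ha (Subgroup.mem_top g)
  -- the two-step centralisers
  let T : ℕ → Subgroup G := fun i =>
    haveI := hnorm (i + 2)
    (Subgroup.centralizer ((QuotientGroup.mk' (γ (i + 2))) '' (γ i : Set G))).comap
      (QuotientGroup.mk' (γ (i + 2)))
  have hT : ∀ i x, x ∈ T i ↔ ∀ a ∈ γ i, ⁅a, x⁆ ∈ γ (i + 2) := by
    intro i x
    haveI := hnorm (i + 2)
    simp only [T, Subgroup.mem_comap, Subgroup.mem_centralizer_iff, Set.forall_mem_image,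
      SetLike.mem_coe]
    refine forall₂_congr fun a ha => ?_
    rw [← QuotientGroup.eq_one_iff, ← QuotientGroup.mk'_apply, map_commutatorElement,
      commutatorElement_eq_one_iff_mul_comm]
  have hTne : ∀ i, i + 1 < c → T i ≠ ⊤ := by
    intro i hi h
    have h1 : γ (i + 1) = γ (i + 2) := by
      refine le_antisymm ?_ (hanti (Nat.le_succ _))
      show ⁅γ i, (⊤ : Subgroup G)⁆ ≤ _
      exact Subgroup.commutator_le.mpr fun a ha g _ => (hT i g).mp (h ▸ Subgroup.mem_top g) a ha
    have h2 : ∀ n, γ (i + 1 + n) = γ (i + 1) := by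
      intro n
      induction n with
      | zero => rfl
      | succ n ih =>
        show ⁅γ (i + 1 + n), (⊤ : Subgroup G)⁆ = _
        rw [ih]
        exact h1.symm
    refine hmin hi (le_antisymm ?_ bot_le)
    rw [← h2 c, ← hspec]
    exact hanti (Nat.le_add_left c _)
  -- the number of two-step centralisers missing `x` is at most `b`
  let cnt : G → ℕ := fun x => ((Finset.range (c - 1)).filter fun i => x ∉ T i).card
  have hcnt : ∀ x, cnt x ≤ b := by
    intro x
    have key : ∀ n, p ^ ((Finset.range n).filter fun i => x ∉ T i).card ≤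
        (γ n ⊔ Subgroup.centralizer ({x} : Set G)).index := by
      intro n
      induction n with
      | zero =>
        simp only [Finset.range_zero, Finset.filter_empty, Finset.card_empty, pow_zero]
        exact Nat.pos_of_ne_zero Subgroup.index_ne_zero_of_finite
      | succ n ih =>
        have hle : γ (n + 1) ⊔ Subgroup.centralizer ({x} : Set G) ≤
            γ n ⊔ Subgroup.centralizer ({x} : Set G) := sup_le_sup_right (hanti n.le_succ) _
        rw [← Subgroup.relIndex_mul_index hle, Finset.range_add_one, Finset.filter_insert]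
        by_cases hx : x ∈ T n
        · rw [if_neg (not_not.mpr hx)]
          exact ih.trans (Nat.le_mul_of_pos_left _
            (Nat.pos_of_ne_zero Subgroup.index_ne_zero_of_finite))
        · rw [if_pos hx, Finset.card_insert_of_notMem (by simp), pow_succ, mul_comm]
          refine Nat.mul_le_mul ?_ ih
          set A := γ (n + 1) ⊔ Subgroup.centralizer ({x} : Set G) with hA
          set B := γ n ⊔ Subgroup.centralizer ({x} : Set G) with hB
          have h1 : A.relIndex B ≠ 1 := by
            intro h1
            apply hx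
            rw [hT]
            intro a ha
            have ha' : a ∈ A := Subgroup.relIndex_eq_one.mp h1 (Subgroup.mem_sup_left ha)
            haveI := hnorm (n + 1)
            obtain ⟨u, hu, v, hv, rfl⟩ := Subgroup.mem_sup_of_normal_left.mp ha'
            rw [Subgroup.mem_centralizer_singleton_iff, ← commutatorElement_eq_one_iff_mul_comm] at hv
            have e : ⁅u * v, x⁆ = u * ⁅v, x⁆ * u⁻¹ * ⁅u, x⁆ := by
              simp [commutatorElement_def, mul_assoc]
            rw [e, hv, mul_one, mul_inv_cancel, one_mul]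
            exact hstep _ _ _ hu
          obtain ⟨m, hm⟩ := IsPGroup.iff_card.mp (hG.to_subgroup B)
          have hd : A.relIndex B ∣ p ^ m := by rw [← hm]; exact Subgroup.relIndex_dvd_card A B
          obtain ⟨j, -, hj⟩ := (Nat.dvd_prime_pow hp.out).mp hd
          rw [hj] at h1 ⊢
          exact Nat.le_self_pow (fun h => h1 (by rw [h, pow_zero])) p
    refine (Nat.pow_le_pow_iff_right hp.out.one_lt).mp
      (((key (c - 1)).trans ?_).trans (hb x))
    exact Nat.le_of_dvd (Nat.pos_of_ne_zero Subgroup.index_ne_zero_of_finite)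
      (Subgroup.index_dvd_of_le le_sup_right)
  -- double counting
  have hlow : (c - 1) * (Fintype.card G * (p - 1)) ≤ p * ∑ x, cnt x := by
    have hswap : ∑ x, cnt x =
        ∑ i ∈ Finset.range (c - 1), (Finset.univ.filter fun x => x ∉ T i).card := by
      simp only [cnt, Finset.card_filter]
      exact Finset.sum_comm
    rw [hswap, Finset.mul_sum]
    refine le_of_eq_of_le ?_ (Finset.card_nsmul_le_sum _ _ (Fintype.card G * (p - 1)) ?_)
    · rw [Finset.card_range, smul_eq_mul]
    intro i hi
    rw [Finset.mem_range] at hi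
    have hne := hTne i (by omega)
    have h1 : p * Nat.card (T i) ≤ Fintype.card G := by
      rw [← Nat.card_eq_fintype_card, ← Subgroup.card_mul_index (T i), mul_comm]
      refine Nat.mul_le_mul_left _ ?_
      obtain ⟨m, hm⟩ := IsPGroup.iff_card.mp hG
      have hd : (T i).index ∣ p ^ m := by rw [← hm]; exact Subgroup.index_dvd_card _
      obtain ⟨j, -, hj⟩ := (Nat.dvd_prime_pow hp.out).mp hd
      rw [hj]
      refine Nat.le_self_pow (fun h => hne ?_) p
      rw [← Subgroup.index_eq_one, hj, h, pow_zero]
    have h2 : (Finset.univ.filter fun x => x ∉ T i).card = Fintype.card G - Nat.card (T i) := by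
      rw [Finset.filter_not, Finset.card_sdiff_of_subset (Finset.filter_subset _ _), Finset.card_univ,
        Nat.card_eq_fintype_card, Fintype.card_subtype]
    rw [h2, Nat.mul_sub, Nat.mul_sub, mul_one, mul_comm (Fintype.card G) p]
    omega
  have hupp : ∑ x, cnt x + b ≤ b * Fintype.card G := by
    have h1 : cnt 1 = 0 := by simp [cnt]
    have h2 : ∑ x, cnt x = ∑ x ∈ Finset.univ.erase (1 : G), cnt x := by
      rw [Finset.sum_erase _ h1]
    have h3 := Finset.sum_le_card_nsmul (Finset.univ.erase (1 : G)) cnt b fun x _ => hcnt x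
    rw [Finset.card_erase_of_mem (Finset.mem_univ _), Finset.card_univ, smul_eq_mul] at h3
    rw [h2]
    have hpos : 1 ≤ Fintype.card G := Fintype.card_pos
    calc _ ≤ (Fintype.card G - 1) * b + b := Nat.add_le_add_right h3 b
      _ = b * Fintype.card G := by
        conv_rhs => rw [← Nat.sub_add_cancel hpos]
        ring
  rcases Nat.eq_zero_or_pos b with hb0 | hb0
  · exfalso
    subst hb0
    have hs : ∑ x, cnt x = 0 := by omega
    rw [hs, mul_zero, Nat.le_zero] at hlow
    have h1 : 0 < (c - 1) * (Fintype.card G * (p - 1)) :=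
      Nat.mul_pos (by omega) (Nat.mul_pos Fintype.card_pos (Nat.sub_pos_of_lt hp.out.one_lt))
    omega
  · refine lt_of_not_ge fun h => ?_
    have h1 := Nat.mul_le_mul_left (Fintype.card G) h
    have h2 : p * ∑ x, cnt x + p * b ≤ p * (b * Fintype.card G) := by
      rw [← mul_add]; exact Nat.mul_le_mul_left p hupp
    have h3 : 0 < p * b := Nat.mul_pos hp.out.pos hb0
    nlinarith

/-- If G is a finite p-group in which every conjugacy class has at most p^b elements (every element has centralizer of index at most p^b), then G is abelian when b = 0, and when b ≥ 1 its nilpotency class c satisfies (c − 1)(p − 1) < bp, that is c < bp/(p − 1) + 1, and hence c ≤ 2b. -/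
theorem result {G : Type*} [Group G] [Finite G] {p : ℕ} [Fact p.Prime] (hG : IsPGroup p G) (b : ℕ) (hb : ∀ x : G, (Subgroup.centralizer ({x} : Set G)).index ≤ p ^ b) : ∃ c : ℕ, (⊤ : Subgroup G).lowerCentralSeries c = ⊥ ∧ (b ≠ 0 → (c - 1) * (p - 1) < b * p ∧ c ≤ 2 * b) ∧ (b = 0 → c ≤ 1) := by
  obtain ⟨c, hc, h⟩ := exists_bound hG b hb
  refine ⟨c, hc, fun hb0 => ?_, fun hb0 => ?_⟩
  · have hp2 : 2 ≤ p := (Fact.out : p.Prime).two_le
    have hlt : (c - 1) * (p - 1) < b * p := by
      rcases h with h | h
      · rw [show c - 1 = 0 by omega, zero_mul]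
        exact Nat.mul_pos (Nat.pos_of_ne_zero hb0) (by omega)
      · exact h
    refine ⟨hlt, ?_⟩
    by_contra hcb
    have h1 : 2 * b ≤ c - 1 := by omega
    have h2 := Nat.mul_le_mul_right (p - 1) h1
    have h3 : b * p ≤ 2 * b * (p - 1) := by
      rw [mul_comm 2 b, mul_assoc]
      exact Nat.mul_le_mul_left b (by omega)
    omega
  · rcases h with h | h
    · exact h
    · rw [hb0, zero_mul] at h
      omega

end Cfsg.Agent.S3778
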