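import Cfsg.Statements.S3780
import Mathlib
-- import your own Cfsg.Agent.* helpers here

set_option autoImplicit false
open Cfsg

namespace Cfsg.Agent.S3780


/-- Let V be a finite abelian p-group and α an automorphism of V of order p whose fixed-point subgroup has order p^n. Then V can be generated by pn elements: some subset of V with at most pn elements generates V. -/
theorem result {V : Type*} [CommGroup V] [Finite V] {p : ℕ} [Fact p.Prime] (hV : IsPGroup p V) (α : MulAut V) (hα : orderOf α = p) (n : ℕ) (hfix : Nat.card {v : V // α v = v} = p ^ n) : ∃ S : Finset V, S.card ≤ p * n ∧ Subgroup.closure (S : Set V) = ⊤ := by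
  classical
  let M := Additive V
  let a : AddMonoid.End M := MonoidHom.toAdditive α.toMonoidHom
  let δ : AddMonoid.End M := a - 1
  have hap : a ^ p = 1 := by
    have h : ∀ k : ℕ, ∀ x : V, (a ^ k) (Additive.ofMul x) = Additive.ofMul ((α ^ k) x) := by
      intro k
      induction k with
      | zero => intro x; simp
      | succ k ih =>
        intro x
        rw [pow_succ, pow_succ]
        exact ih (α x)
    refine AddMonoidHom.ext fun x => ?_
    have := h p (Additive.toMul x)
    rw [show α ^ p = 1 by rw [← hα, pow_orderOf_eq_one]] at this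
    exact this
  have hkill : ∀ x : M, p • x = 0 → (δ ^ p) x = 0 := by
    intro x hx
    obtain ⟨r, hr⟩ := (Commute.one_right δ).exists_add_pow_prime_eq (Fact.out : p.Prime)
    have h1 : δ + 1 = a := sub_add_cancel a 1
    rw [h1, hap, one_pow] at hr
    have h2 : δ ^ p = -((p : AddMonoid.End M) * δ * 1 * r) := by
      have : δ ^ p + ((p : AddMonoid.End M) * δ * 1 * r) = 0 := by
        have := sub_eq_zero.2 hr.symm
        rw [← this]; abel
      exact eq_neg_of_add_eq_zero_left this
    rw [h2]
    have h3 : ((p : AddMonoid.End M) * δ * 1 * r) x = p • ((δ * 1 * r) x) := by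
      rw [mul_assoc, mul_assoc, ← mul_assoc δ]
      show (p : AddMonoid.End M) ((δ * 1 * r) x) = _
      simp [AddMonoid.End.natCast_apply]
    show -(((p : AddMonoid.End M) * δ * 1 * r) x) = 0
    rw [h3, ← map_nsmul, hx, map_zero, neg_zero]
  have hker : ∀ k : ℕ, Nat.card (AddMonoidHom.ker (δ ^ k : AddMonoid.End M)) ≤ p ^ (k * n) := by
    intro k
    induction k with
    | zero =>
      have : AddMonoidHom.ker (δ ^ 0 : AddMonoid.End M) = ⊥ := by
        rw [pow_zero]; exact AddMonoidHom.ker_eq_bot_iff _ |>.2 (fun _ _ h => h)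
      rw [this]; simp
    | succ k ih =>
      let f : AddMonoidHom.ker (δ ^ (k + 1) : AddMonoid.End M) →+ AddMonoidHom.ker (δ ^ k : AddMonoid.End M) :=
        { toFun := fun x => ⟨δ x.1, by
            have h4 : (δ ^ k * δ) x.1 = 0 := pow_succ δ k ▸ (show (δ ^ (k + 1)) x.1 = 0 from x.2)
            exact h4⟩
          map_zero' := by ext; simp
          map_add' := fun x y => by ext; simp }
      have h2 : Nat.card f.ker ≤ p ^ n := by
        rw [← hfix]
        refine Nat.card_le_card_of_injective (fun x => ⟨Additive.toMul x.1.1, ?_⟩) ?_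
        · have := congrArg Subtype.val (AddMonoidHom.mem_ker.1 x.2)
          have h3 : a x.1.1 - x.1.1 = 0 := this
          exact congrArg Additive.toMul (sub_eq_zero.1 h3)
        · intro x y hxy
          have := congrArg Subtype.val hxy
          exact Subtype.ext (Subtype.ext (Additive.toMul.injective this))
      calc Nat.card (AddMonoidHom.ker (δ ^ (k + 1) : AddMonoid.End M))
          = Nat.card f.range * Nat.card f.ker := by
            rw [AddSubgroup.card_eq_card_quotient_mul_card_addSubgroup f.ker,
              Nat.card_congr (QuotientAddGroup.quotientKerEquivRange f).toEquiv]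
        _ ≤ p ^ (k * n) * p ^ n := Nat.mul_le_mul
              ((Nat.card_le_card_of_injective _ Subtype.val_injective).trans ih) h2
        _ = p ^ ((k + 1) * n) := by rw [← pow_add, Nat.succ_mul]
  let P : V →* V := powMonoidHom p
  have hP : P.range.index ≤ p ^ (p * n) := by
    have h1 : P.range.index = Nat.card P.ker := by
      have e1 := Subgroup.index_mul_card P.range
      have e2 := Subgroup.card_mul_index P.ker
      rw [Subgroup.index_ker] at e2
      have hpos : 0 < Nat.card P.range := Nat.card_pos
      exact Nat.eq_of_mul_eq_mul_right hpos (by rw [e1, e2])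
    rw [h1]
    refine le_trans (Nat.card_le_card_of_injective (fun x => (⟨Additive.ofMul x.1, ?_⟩ : AddMonoidHom.ker (δ ^ p : AddMonoid.End M))) ?_) (hker p)
    · refine AddMonoidHom.mem_ker.2 (hkill _ ?_)
      have : (x.1) ^ p = 1 := x.2
      rw [← ofMul_pow, this, ofMul_one]
    · intro x y hxy
      simp only [Subtype.mk.injEq] at hxy
      exact Subtype.ext (Additive.ofMul.injective hxy)
  have greedy : ∀ k : ℕ, ∀ W : Subgroup V, W.index ≤ p ^ k → ∃ S : Finset V, S.card ≤ k ∧ W ⊔ Subgroup.closure (S : Set V) = ⊤ := by
    intro k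
    induction k with
    | zero =>
      intro W hW
      refine ⟨∅, le_rfl, ?_⟩
      have h0 := W.index_ne_zero_of_finite
      have : W = ⊤ := Subgroup.index_eq_one.1 (by simp at hW; omega)
      simp [this]
    | succ k ih =>
      intro W hW
      by_cases hWt : W = ⊤
      · exact ⟨∅, Nat.zero_le _, by simp [hWt]⟩
      · obtain ⟨x, hx⟩ : ∃ x, x ∉ W := by
          by_contra h; push Not at h; exact hWt (eq_top_iff.2 fun x _ => h x)
        have hle : W ≤ W ⊔ Subgroup.zpowers x := le_sup_left
        have hr : p ≤ W.relIndex (W ⊔ Subgroup.zpowers x) := by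
          have h1 : W.relIndex (W ⊔ Subgroup.zpowers x) ≠ 1 := by
            intro h
            exact hx (Subgroup.relIndex_eq_one.1 h (Subgroup.mem_sup_right (Subgroup.mem_zpowers x)))
          obtain ⟨j, hj⟩ := hV.to_subgroup (W ⊔ Subgroup.zpowers x) |>.index (W.subgroupOf _)
          rw [Subgroup.relIndex, hj] at h1 ⊢
          rcases Nat.eq_zero_or_pos j with rfl | hj'
          · simp at h1
          · exact Nat.le_self_pow hj'.ne' p
        have h3 := Subgroup.relIndex_mul_index hle
        obtain ⟨S, hS1, hS2⟩ := ih (W ⊔ Subgroup.zpowers x) (by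
          have h4 : p * (W ⊔ Subgroup.zpowers x).index ≤ p * p ^ k := by
            rw [← pow_succ']
            exact le_trans (Nat.mul_le_mul_right _ hr) (h3.trans_le hW)
          exact Nat.le_of_mul_le_mul_left h4 (Fact.out : p.Prime).pos)
        refine ⟨insert x S, (Finset.card_insert_le _ _).trans (by omega), ?_⟩
        rw [Finset.coe_insert, Set.insert_eq, Subgroup.closure_union, ← Subgroup.zpowers_eq_closure, ← sup_assoc, hS2]
  obtain ⟨S, hS1, hS2⟩ := greedy (p * n) P.range hP
  refine ⟨S, hS1, ?_⟩
  let H : Subgroup V := Subgroup.closure (S : Set V)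
  have hsurj : Function.Surjective (powMonoidHom p : (V ⧸ H) →* (V ⧸ H)) := by
    intro y
    obtain ⟨v, rfl⟩ := QuotientGroup.mk'_surjective H y
    have hv : v ∈ P.range ⊔ H := by rw [hS2]; trivial
    obtain ⟨_, ⟨w, rfl⟩, h, hh, rfl⟩ := Subgroup.mem_sup.1 hv
    refine ⟨QuotientGroup.mk' H w, ?_⟩
    rw [map_mul, (show QuotientGroup.mk' H h = 1 from (QuotientGroup.eq_one_iff h).2 hh), mul_one]
    simp [P, powMonoidHom]
  have hinj := Finite.injective_iff_surjective.2 hsurj
  have hQ := hV.to_quotient H
  refine eq_top_iff.2 fun v _ => (QuotientGroup.eq_one_iff v).1 ?_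
  obtain ⟨j, hj⟩ := hQ (v : V ⧸ H)
  clear hS2
  induction j with
  | zero => simpa using hj
  | succ j ih =>
    apply ih
    apply hinj
    simp only [powMonoidHom_apply, ← pow_mul, ← pow_succ, hj, one_pow]

end Cfsg.Agent.S3780
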