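import Cfsg.Statements.S3781
import Mathlib

set_option autoImplicit false
open Cfsg

namespace Cfsg.Agent.S3781


variable {G : Type*} [Group G]

open Subgroup

theorem three_sub (A B C X : Subgroup G) [X.Normal] (h1 : ⁅⁅B, C⁆, A⁆ ≤ X) (h2 : ⁅⁅C, A⁆, B⁆ ≤ X) :
    ⁅⁅A, B⁆, C⁆ ≤ X := by
  have key : ∀ U V W : Subgroup G, ⁅⁅U, V⁆, W⁆ ≤ X ↔
      ⁅⁅U.map (QuotientGroup.mk' X), V.map (QuotientGroup.mk' X)⁆, W.map (QuotientGroup.mk' X)⁆ = ⊥ := by
    intro U V W
    rw [← map_commutator, ← map_commutator, Subgroup.map_eq_bot_iff, QuotientGroup.ker_mk']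
  rw [key] at h1 h2 ⊢
  exact commutator_commutator_eq_bot_of_rotate h1 h2

/-- `[K, G, ..., G]` with `j` copies of `G`. -/
def iterComm (K : Subgroup G) : ℕ → Subgroup G
  | 0 => K
  | j + 1 => ⁅iterComm K j, (⊤ : Subgroup G)⁆

theorem iterComm_normal (K : Subgroup G) [K.Normal] (j : ℕ) : (iterComm K j).Normal := by
  induction j with
  | zero => assumption
  | succ j ih =>
    have := ih
    exact Subgroup.commutator_normal _ _

theorem iterComm_comm_top (K : Subgroup G) (j : ℕ) :
    iterComm ⁅K, (⊤ : Subgroup G)⁆ j = iterComm K (j + 1) := by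
  induction j with
  | zero => rfl
  | succ j ih => simp only [iterComm] at ih ⊢; rw [ih]

theorem comm_gamma_le (m : ℕ) : ∀ (K : Subgroup G) [K.Normal],
    ⁅K, (⊤ : Subgroup G).lowerCentralSeries m⁆ ≤ iterComm K (m + 1) := by
  induction m with
  | zero => intro K _; simp [iterComm]
  | succ m ih =>
    intro K hK
    have := iterComm_normal K (m + 1 + 1)
    rw [Subgroup.lowerCentralSeries_succ, commutator_comm]
    apply three_sub
    · calc ⁅⁅(⊤ : Subgroup G), K⁆, (⊤ : Subgroup G).lowerCentralSeries m⁆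
          = ⁅⁅K, (⊤ : Subgroup G)⁆, (⊤ : Subgroup G).lowerCentralSeries m⁆ := by rw [commutator_comm ⊤ K]
        _ ≤ iterComm ⁅K, (⊤ : Subgroup G)⁆ (m + 1) := ih _
        _ = iterComm K (m + 1 + 1) := iterComm_comm_top K (m + 1)
    · exact commutator_mono (ih K) le_rfl

theorem eq_bot_of_le_comm_top [Group.IsNilpotent G] (L : Subgroup G) (h : L ≤ ⁅L, (⊤ : Subgroup G)⁆) :
    L = ⊥ := by
  obtain ⟨k, hk⟩ := (Subgroup.nilpotent_iff_lowerCentralSeries (G := G)).mp inferInstance
  have : ∀ j, L ≤ (⊤ : Subgroup G).lowerCentralSeries j := by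
    intro j
    induction j with
    | zero => exact le_top
    | succ j ih =>
      rw [Subgroup.lowerCentralSeries_succ]
      exact h.trans (commutator_mono ih le_rfl)
  exact le_bot_iff.mp (hk ▸ this k)

theorem step [Finite G] [Group.IsNilpotent G] {p : ℕ} [Fact p.Prime] (hG : IsPGroup p G)
    (K L : Subgroup G) [K.Normal] [L.Normal] (hLK : L ≤ K) (j : ℕ) :
    iterComm K j ≤ L ∨ p ^ j ≤ (iterComm K j ⊔ L).relIndex K ∧ p ^ (j + 1) ≤ L.relIndex K := by
  have hp := (Fact.out : p.Prime)
  have main : ∀ j, iterComm K j ⊔ L ≤ K ∧ (iterComm K j ≤ L ∨ p ^ j ≤ (iterComm K j ⊔ L).relIndex K) := by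
    intro j
    induction j with
    | zero =>
      refine ⟨sup_le le_rfl hLK, Or.inr ?_⟩
      simp [iterComm, sup_eq_left.mpr hLK]
    | succ j ih =>
      have hn := iterComm_normal K j
      have hn' := iterComm_normal K (j + 1)
      have hle : iterComm K (j + 1) ≤ iterComm K j := Subgroup.commutator_le_left _ _
      refine ⟨(sup_le_sup_right hle L).trans ih.1, ?_⟩
      rcases ih.2 with h | h
      · exact Or.inl (hle.trans h)
      · by_cases hj : iterComm K j ≤ L
        · exact Or.inl (hle.trans hj)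
        by_cases hj' : iterComm K (j + 1) ≤ L
        · exact Or.inl hj'
        right
        have hlt : iterComm K (j + 1) ⊔ L < iterComm K j ⊔ L := by
          refine lt_of_le_of_ne (sup_le_sup_right hle L) ?_
          intro heq
          apply hj
          have hq : (iterComm K j).map (QuotientGroup.mk' L) ≤
              ⁅(iterComm K j).map (QuotientGroup.mk' L), (⊤ : Subgroup (G ⧸ L))⁆ := by
            have h1 : (iterComm K j).map (QuotientGroup.mk' L) ≤
                (iterComm K (j + 1) ⊔ L).map (QuotientGroup.mk' L) :=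
              Subgroup.map_mono (heq ▸ le_sup_left)
            rw [Subgroup.map_sup, QuotientGroup.map_mk'_self, sup_bot_eq] at h1
            refine h1.trans ?_
            rw [iterComm, Subgroup.map_commutator]
            exact commutator_mono le_rfl le_top
          have := eq_bot_of_le_comm_top _ hq
          rwa [Subgroup.map_eq_bot_iff, QuotientGroup.ker_mk'] at this
        have hmul := Subgroup.relIndex_mul_relIndex _ _ _ hlt.le ih.1
        obtain ⟨a, ha⟩ : ∃ a, (iterComm K (j + 1) ⊔ L).relIndex (iterComm K j ⊔ L) = p ^ a :=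
          (hG.to_subgroup _).index _
        have ha0 : a ≠ 0 := by
          rintro rfl
          rw [pow_zero, Subgroup.relIndex_eq_one] at ha
          exact hlt.not_ge ha
        rw [← hmul, ha, pow_succ']
        exact Nat.mul_le_mul (Nat.le_self_pow ha0 p) h
  rcases (main j).2 with h | h
  · exact Or.inl h
  · by_cases hj : iterComm K j ≤ L
    · exact Or.inl hj
    right
    refine ⟨h, ?_⟩
    have hmul := Subgroup.relIndex_mul_relIndex L _ K le_sup_right (main j).1
    obtain ⟨a, ha⟩ : ∃ a, L.relIndex (iterComm K j ⊔ L) = p ^ a := (hG.to_subgroup _).index _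
    have ha0 : a ≠ 0 := by
      rintro rfl
      rw [pow_zero, Subgroup.relIndex_eq_one] at ha
      exact hj (le_sup_left.trans ha)
    rw [← hmul, ha, pow_succ']
    exact Nat.mul_le_mul (Nat.le_self_pow ha0 p) h

theorem lcs_normal (N : Subgroup G) [N.Normal] (i : ℕ) : (N.lowerCentralSeries i).Normal := by
  induction i with
  | zero => simpa
  | succ i ih =>
    have := ih
    rw [Subgroup.lowerCentralSeries_succ]
    exact Subgroup.commutator_normal _ _

/-- Let G be a finite p-group and n ≥ 1, and write γ_1(G) = G, γ_{k+1}(G) = [γ_k(G), G], and likewise γ_k(N) for a subgroup N. Let N be a normal subgroup of G contained in γ_n(G). If i > 1 and γ_{i+1}(N) ≠ 1, then |γ_i(N) : γ_{i+1}(N)| ≥ p^n. -/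
theorem result {G : Type*} [Group G] [Finite G] {p : ℕ} [Fact p.Prime] (hG : IsPGroup p G) (n : ℕ) (hn : 1 ≤ n) (N : Subgroup G) [N.Normal] (hN : N ≤ (⊤ : Subgroup G).lowerCentralSeries (n - 1)) (i : ℕ) (hi : 1 < i) (hne : N.lowerCentralSeries i ≠ ⊥) : p ^ n ≤ (N.lowerCentralSeries i).relIndex (N.lowerCentralSeries (i - 1)) := by
  have hp := (Fact.out : p.Prime)
  have : Group.IsNilpotent G := hG.isNilpotent
  obtain ⟨m, rfl⟩ : ∃ m, n = m + 1 := ⟨n - 1, by omega⟩
  obtain ⟨j, rfl⟩ : ∃ j, i = j + 1 := ⟨i - 1, by omega⟩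
  simp only [Nat.add_sub_cancel] at hN ⊢
  have := lcs_normal N j
  have := lcs_normal N (j + 1)
  by_contra hlt
  set K := N.lowerCentralSeries j with hK
  set L := N.lowerCentralSeries (j + 1) with hL
  have hLK : L ≤ K := Subgroup.lowerCentralSeries_antitone N (Nat.le_succ j)
  rcases step hG K L hLK m with h | ⟨-, h⟩
  · apply hne
    apply eq_bot_of_le_comm_top
    calc L = ⁅K, N⁆ := Subgroup.lowerCentralSeries_succ N j
      _ ≤ ⁅K, (⊤ : Subgroup G).lowerCentralSeries m⁆ := Subgroup.commutator_mono le_rfl hN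
      _ ≤ iterComm K (m + 1) := comm_gamma_le m K
      _ ≤ ⁅L, (⊤ : Subgroup G)⁆ := Subgroup.commutator_mono h le_rfl
  · exact hlt h

end Cfsg.Agent.S3781
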