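import Cfsg.Statements.S3782
import Cfsg.Agent.S3779
import Cfsg.Agent.Lib.HallSolvable
import Cfsg.Agent.Lib.HallHigmanExponent
import Cfsg.Agent.Lib.HallAlperinPGroup
-- import your own Cfsg.Agent.* helpers here

set_option autoImplicit false
open Cfsg

namespace Cfsg.Agent.S3782

open Cfsg.Agent.HallCore Cfsg.Agent.HallSolvable Cfsg.Agent.HallAlperinFixed
  Cfsg.Agent.HallAlperinPGroup

theorem congr_pow {G : Type*} [Group G] (N : Subgroup G) [N.Normal] (α : MulAut G)
    (h : N.map (α : G →* G) = N) : ∀ (k : ℕ) (x : G),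
    ((QuotientGroup.congr N N α h : MulAut (G ⧸ N)) ^ k) (x : G ⧸ N) = (((α ^ k) x : G) : G ⧸ N)
  | 0, x => rfl
  | k + 1, x => by
    rw [pow_succ', pow_succ', MulAut.mul_apply, congr_pow N α h k, MulAut.mul_apply]
    rfl

theorem restrict_pow {G : Type*} [Group G] (N : Subgroup G) (α : MulAut G)
    (β : MulAut N) (hβ : ∀ x : N, (β x : G) = α x) : ∀ (k : ℕ) (x : N),
    ((β ^ k) x : G) = (α ^ k) x
  | 0, x => rfl
  | k + 1, x => by
    rw [pow_succ', pow_succ', MulAut.mul_apply, MulAut.mul_apply, hβ, restrict_pow N α β hβ k]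

theorem main {p n : ℕ} [Fact p.Prime] {G : Type} [Group G] [Finite G] [Group.IsSolvable G]
    (α : MulAut G) (hα : α ^ p = 1) (hfix : Nat.card {g : G // α g = g} = p ^ n) :
    derivedSeries G ((secBound p n).factorial + pGroupBound p n + hb p) = ⊥ := by
  classical
  -- the p'-core
  set N0 := Cfsg.pPrimeCore p G
  have hN0 : N0.map (α : G →* G) = N0 :=
    Subgroup.characteristic_iff_map_eq.mp (pPrimeCore_characteristic p G) α
  let β : MulAut N0 := (α.subgroupMap N0).trans (MulEquiv.subgroupCongr hN0)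
  have hβ : ∀ x : N0, (β x : G) = α x := fun x => rfl
  have hβp : β ^ p = 1 := MulEquiv.ext fun x => Subtype.ext (by
    rw [restrict_pow N0 α β hβ, hα]; rfl)
  have hfpf : ∀ x : N0, β x = x → x = 1 := by
    intro x hx
    refine orderOf_eq_one_iff.mp (Nat.eq_one_of_dvd_coprimes
      ((coprime_card_pPrimeCore p G).pow_right n) (orderOf_dvd_natCard x) ?_)
    rw [← Subgroup.orderOf_coe, ← hfix]
    exact Subgroup.orderOf_dvd_natCard ((α : G →* G).eqLocus (MonoidHom.id G))
      (show α (x : G) = x by rw [← hβ, hx])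
  have hbot0 : derivedSeries N0 (hb p) = ⊥ := by
    rcases eq_or_ne β 1 with h1 | h1
    · have : (⊤ : Subgroup N0) = ⊥ := by
        rw [Subgroup.eq_bot_iff_forall]
        exact fun x _ => hfpf x (by rw [h1]; rfl)
      exact le_bot_iff.mp (le_top.trans this.le)
    · have hlcs := (Cfsg.Agent.S3779.result Fact.out β (orderOf_eq_prime hβp h1) hfpf).2.2
      have hle : ∀ j, derivedSeries N0 j ≤ (⊤ : Subgroup N0).lowerCentralSeries j := by
        intro j
        induction j with
        | zero => simp
        | succ j ihj =>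
          rw [derivedSeries_succ, Subgroup.lowerCentralSeries_succ]
          exact Subgroup.commutator_mono ihj le_top
      exact le_bot_iff.mp ((hle _).trans hlcs.le)
  -- the quotient
  let α1 : MulAut (G ⧸ N0) := QuotientGroup.congr N0 N0 α hN0
  have hα1 : α1 ^ p = 1 := MulEquiv.ext fun q => by
    obtain ⟨x, rfl⟩ := QuotientGroup.mk_surjective q
    rw [congr_pow, hα]; rfl
  have hfix1 : Nat.card {q : G ⧸ N0 // α1 q = q} ≤ p ^ n :=
    (card_fixed_quotient_le α N0 α1 fun x => rfl).trans hfix.le
  set R := Cfsg.pCore p (G ⧸ N0) with hR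
  have hRp : IsPGroup p R := isPGroup_pCore p _
  have hRmap : R.map (α1 : G ⧸ N0 →* G ⧸ N0) = R :=
    Subgroup.characteristic_iff_map_eq.mp (pCore_characteristic p _) α1
  let γ : MulAut R := (α1.subgroupMap R).trans (MulEquiv.subgroupCongr hRmap)
  have hγ : ∀ x : R, (γ x : G ⧸ N0) = α1 x := fun x => rfl
  have hγp : γ ^ p = 1 := MulEquiv.ext fun x => Subtype.ext (by
    rw [restrict_pow R α1 γ hγ, hα1]; rfl)
  have hfixR : Nat.card {x : R // γ x = x} ≤ p ^ n :=
    (card_fixed_restrict_le α1 R γ hγ).trans hfix1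
  have hbotR : derivedSeries R (pGroupBound p n) = ⊥ :=
    derivedSeries_eq_bot hRp γ hγp hfixR
  -- the faithful action on the Frattini quotient
  obtain ⟨hcomm, hexp⟩ := Cfsg.Agent.PGroupsBasic.quotient_frattini_elementary hRp
  let _ : CommGroup (↥R ⧸ frattini ↥R) :=
    { (inferInstance : Group (↥R ⧸ frattini ↥R)) with mul_comm := hcomm }
  have hΦ : (frattini ↥R).map (γ : R →* R) = frattini ↥R :=
    Subgroup.characteristic_iff_map_eq.mp inferInstance γ
  let δ : MulAut (↥R ⧸ frattini ↥R) := QuotientGroup.congr _ _ γ hΦ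
  have hδp : δ ^ p = 1 := MulEquiv.ext fun q => by
    obtain ⟨x, rfl⟩ := QuotientGroup.mk_surjective q
    rw [congr_pow, hγp]; rfl
  have hV : Nat.card (↥R ⧸ frattini ↥R) ≤ secBound p n :=
    card_le_of_elementary hexp δ hδp ((card_fixed_quotient_le γ _ δ fun x => rfl).trans hfixR)
  obtain ⟨φ, hφ, -⟩ := Cfsg.Agent.HallHigman.exists_frattini_action
    (isPSolvable_of_solvable (G := G ⧸ N0) p) (pPrimeCore_quotient_self p G)
  have hcard : Nat.card ((G ⧸ N0) ⧸ R) ≤ (secBound p n).factorial := by
    refine (Nat.card_le_card_of_injective φ hφ).trans ?_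
    refine (Nat.card_le_card_of_injective
      (fun f : MulAut (↥R ⧸ frattini ↥R) => f.toEquiv) fun f g h => MulEquiv.ext fun x =>
        congrFun (congrArg (fun e : Equiv.Perm (↥R ⧸ frattini ↥R) => (e : _ → _)) h) x).trans ?_
    rw [Nat.card_perm]
    exact Nat.factorial_le hV
  have hq := derivedSeries_eq_bot_of_card_le hcard
  have h1 : derivedSeries (G ⧸ N0) ((secBound p n).factorial + pGroupBound p n) = ⊥ := by
    refine derivedSeries_add ?_ hbotR
    have := map_derivedSeries_le_derivedSeries (QuotientGroup.mk' R) (G := G ⧸ N0)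
      ((secBound p n).factorial)
    rw [hq, le_bot_iff, Subgroup.map_eq_bot_iff, QuotientGroup.ker_mk'] at this
    exact this
  refine derivedSeries_add ?_ hbot0
  have := map_derivedSeries_le_derivedSeries (QuotientGroup.mk' N0) (G := G)
    ((secBound p n).factorial + pGroupBound p n)
  rw [h1, le_bot_iff, Subgroup.map_eq_bot_iff, QuotientGroup.ker_mk'] at this
  exact this

/-- Alperin's Theorem: for each prime p and each n ≥ 0 there is an integer l such that every finite solvable group admitting an automorphism of order p with exactly p^n fixed points has derived length at most l. -/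
theorem result (p : ℕ) (hp : p.Prime) (n : ℕ) : ∃ l : ℕ, ∀ (G : Type) [Group G] [Finite G], Group.IsSolvable G → ∀ α : MulAut G, orderOf α = p → Nat.card {g : G // α g = g} = p ^ n → derivedSeries G l = ⊥ := by
  have : Fact p.Prime := ⟨hp⟩
  refine ⟨(secBound p n).factorial + pGroupBound p n + hb p, fun G _ _ hsolv α hα hfix => ?_⟩
  exact main α (hα ▸ pow_orderOf_eq_one α) hfix

end Cfsg.Agent.S3782
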