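import Cfsg.Statements.S3783
import Cfsg.Agent.Lib.HallPLength
import Cfsg.Agent.Lib.CoprimeAction
import Cfsg.Agent.Lib.PGroupsBasic

set_option autoImplicit false
open Cfsg

namespace Cfsg.Agent.S3783

open Subgroup Cfsg.Agent.HallCore Cfsg.Agent.HallSolvable Cfsg.Agent.HallPLength Finset

theorem isUnit_natCast_of_coprime {R : Type*} [CommRing R] {p m : ℕ} (hp0 : (p : R) = 0)
    (h : m.Coprime p) : IsUnit (m : R) := by
  refine IsUnit.of_mul_eq_one ((Nat.gcdA m p : ℤ) : R) ?_
  have h1 := congrArg (fun z : ℤ => (z : R)) (Nat.gcd_eq_gcd_ab m p)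
  simp only [h, Nat.cast_one, Int.cast_one, Int.cast_add, Int.cast_mul, Int.cast_natCast, hp0,
    zero_mul, add_zero] at h1
  exact h1.symm

theorem not_isNilpotent_sub_one {R : Type*} [CommRing R] {p m : ℕ} (hp0 : (p : R) = 0)
    (h : m.Coprime p) {c : R} (hc : c ^ m = 1) (hc1 : c ≠ 1) : ¬ IsNilpotent (c - 1) := by
  intro hn
  have hs : IsNilpotent ((∑ i ∈ range m, c ^ i) - (m : R)) := by
    rw [show (m : R) = ∑ _i ∈ range m, (1 : R) by simp, ← Finset.sum_sub_distrib]
    refine Commute.isNilpotent_sum (fun i _ => ?_) (fun i j _ _ => Commute.all _ _)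
    rw [← geom_sum_mul]
    exact (Commute.all _ _).isNilpotent_mul_left hn
  have hu : IsUnit (∑ i ∈ range m, c ^ i) := by
    have := hs.isUnit_add_left_of_commute (isUnit_natCast_of_coprime hp0 h) (Commute.all _ _)
    simpa using this
  have h0 : (∑ i ∈ range m, c ^ i) * (c - 1) = 0 := by rw [geom_sum_mul, hc, sub_self]
  exact hc1 (sub_eq_zero.mp (hu.mul_right_eq_zero.mp h0))

/-- Conjugation by a unit, as a ring endomorphism. -/
def conjHom {E : Type*} [Ring E] (u : Eˣ) : E →+* E where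
  toFun a := u * a * (u⁻¹ : Eˣ)
  map_one' := by simp
  map_mul' a b := by simp [mul_assoc]
  map_zero' := by simp
  map_add' a b := by simp [mul_add, add_mul]

theorem norm_ne_zero {E : Type*} [Ring E] {p : ℕ} [hp : Fact p.Prime] (hp0 : (p : E) = 0) (n : ℕ)
    (x : Eˣ) (hx : x ^ p ^ (n + 1) = 1) (B : Subgroup Eˣ) (hBc : ∀ a ∈ B, ∀ b ∈ B, a * b = b * a)
    (hBinv : ∀ b ∈ B, x * b * x⁻¹ ∈ B) (hBcop : ∀ b ∈ B, (orderOf b).Coprime p)
    (hy : ∃ b ∈ B, x ^ p ^ n * b ≠ b * x ^ p ^ n) :
    ∑ i ∈ range (p ^ (n + 1)), (x : E) ^ i ≠ 0 := by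
  classical
  set N := p ^ (n + 1) with hN
  set Bs : Set E := (fun b : Eˣ => (b : E)) '' (B : Set Eˣ) with hBs
  let R := Subring.closure Bs
  let _ : CommRing R := Subring.closureCommRingOfComm (by
    rintro _ ⟨a, ha, rfl⟩ _ ⟨b, hb, rfl⟩
    rw [← Units.val_mul, hBc a ha b hb, Units.val_mul])
  have hBinv' : ∀ i : ℕ, ∀ b ∈ B, x ^ i * b * (x ^ i)⁻¹ ∈ B := by
    intro i
    induction i with
    | zero => intro b hb; simpa using hb
    | succ i ih =>
      intro b hb
      have := hBinv _ (ih b hb)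
      rw [pow_succ']
      simpa [mul_assoc] using this
  have hsmem : ∀ i : ℕ, ∀ r ∈ R, conjHom (x ^ i) r ∈ R := by
    intro i r hr
    have : R.map (conjHom (x ^ i)) ≤ R := by
      rw [RingHom.map_closure]
      refine Subring.closure_mono ?_
      rintro _ ⟨_, ⟨b, hb, rfl⟩, rfl⟩
      exact ⟨_, hBinv' i b hb, by simp [conjHom]⟩
    exact this ⟨r, hr, rfl⟩
  let s : ℕ → R → R := fun i r => ⟨conjHom (x ^ i) r, hsmem i r r.2⟩
  have hs_apply : ∀ i r, (s i r : E) = (x : E) ^ i * r * ((x ^ i)⁻¹ : Eˣ) := fun i r => by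
    simp [s, conjHom]
  have hs_comm : ∀ i (r : R), (x : E) ^ i * r = (s i r : E) * (x : E) ^ i := fun i r => by
    rw [hs_apply, mul_assoc ((x : E) ^ i * r), ← Units.val_pow_eq_pow_val, Units.inv_mul, mul_one]
  have hs_add : ∀ i j r, s (i + j) r = s i (s j r) := fun i j r => by
    refine Subtype.ext ?_
    simp only [s, conjHom, RingHom.coe_mk, MonoidHom.coe_mk, OneHom.coe_mk, pow_add, mul_inv_rev,
      Units.val_mul, mul_assoc]
  have hs0 : ∀ r, s 0 r = r := fun r => Subtype.ext (by simp [s, conjHom])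
  have hsN : ∀ r, s N r = r := fun r => Subtype.ext (by simp [s, conjHom, hx])
  have hsmod : ∀ i r, s i r = s (i % N) r := by
    intro i r
    conv_lhs => rw [← Nat.mod_add_div i N]
    generalize i / N = k
    induction k generalizing r with
    | zero => rw [Nat.mul_zero, Nat.add_zero]
    | succ k ih => rw [Nat.mul_succ, ← Nat.add_assoc, hs_add, hsN]; exact ih r
  -- a maximal ideal detecting the action of x ^ p ^ n
  obtain ⟨b, hb, hby⟩ := hy
  set b' := x ^ p ^ n * b * (x ^ p ^ n)⁻¹ with hb'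
  have hb'B : b' ∈ B := hBinv' _ b hb
  have hcB : b' * b⁻¹ ∈ B := mul_mem hb'B (inv_mem hb)
  let toR : ∀ u : Eˣ, u ∈ B → R := fun u hu => ⟨u, Subring.subset_closure ⟨u, hu, rfl⟩⟩
  set c := toR _ hcB with hc
  have hc1 : c ≠ 1 := fun h => by
    have h1 : (b' * b⁻¹ : Eˣ) = 1 := Units.ext (congrArg Subtype.val h)
    rw [mul_inv_eq_one, hb', mul_inv_eq_iff_eq_mul] at h1
    exact hby h1
  have hcp : c ^ orderOf (b' * b⁻¹) = 1 := Subtype.ext (by
    simp only [SubmonoidClass.coe_pow, OneMemClass.coe_one, hc, toR]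
    rw [← Units.val_pow_eq_pow_val, pow_orderOf_eq_one, Units.val_one])
  have hp0R : (p : R) = 0 := Subtype.ext (by simpa using hp0)
  have hnn := not_isNilpotent_sub_one hp0R (hBcop _ hcB) hcp hc1
  rw [← mem_nilradical, nilradical_eq_sInf, Submodule.mem_sInf] at hnn
  push Not at hnn
  obtain ⟨J, hJ, hcJ⟩ := hnn
  have hJp : Ideal.IsPrime J := hJ
  have hbJ : toR b hb ∉ J := fun h => hJp.ne_top (Ideal.eq_top_of_isUnit_mem J h
    (IsUnit.of_mul_eq_one (toR b⁻¹ (inv_mem hb)) (Subtype.ext (by simp [toR]))))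
  have hsb : s (p ^ n) (toR b hb) - toR b hb = (c - 1) * toR b hb := by
    refine Subtype.ext ?_
    simp only [sub_mul, one_mul, hc, toR, s, conjHom, RingHom.coe_mk, MonoidHom.coe_mk,
      OneHom.coe_mk, AddSubgroupClass.coe_sub, MulMemClass.coe_mul]
    rw [← Units.val_mul, ← Units.val_mul, ← Units.val_mul, inv_mul_cancel_right]
  -- inertia
  let I : Set ℕ := {i | ∀ r, s i r - r ∈ J}
  have hI0 : 0 ∈ I := fun r => by rw [hs0, sub_self]; exact J.zero_mem
  have hIadd : ∀ i ∈ I, ∀ j ∈ I, i + j ∈ I := fun i hi j hj r => by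
    rw [hs_add, ← sub_add_sub_cancel _ (s j r)]
    exact J.add_mem (hi _) (hj r)
  have hImul : ∀ i ∈ I, ∀ k, k * i ∈ I := fun i hi k => by
    induction k with
    | zero => rwa [Nat.zero_mul]
    | succ k ih => rw [Nat.succ_mul]; exact hIadd _ ih _ hi
  have hImod : ∀ i, i ∈ I → i % N ∈ I := fun i hi r => by rw [← hsmod]; exact hi r
  have hyI : p ^ n ∉ I := fun h => by
    have := h (toR b hb)
    rw [hsb] at this
    exact (hJp.mem_or_mem this).elim hcJ hbJ
  have hpN : p ^ n < N := Nat.pow_lt_pow_right hp.out.one_lt n.lt_succ_self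
  have hI : ∀ i, 0 < i → i < N → i ∉ I := by
    intro i hi hiN hmem
    obtain ⟨a, ha, hag⟩ := (Nat.dvd_prime_pow hp.out).mp (Nat.gcd_dvd_right i N)
    have hlt : a ≤ n := by
      by_contra hcon
      rw [show a = n + 1 by omega] at hag
      have := Nat.le_of_dvd hi (hag ▸ Nat.gcd_dvd_left i N)
      omega
    obtain ⟨m, -, hm⟩ := Nat.exists_mul_mod_eq_gcd (n := i) (k := N) (by
      rw [hag]; exact lt_of_le_of_lt (Nat.pow_le_pow_right hp.out.pos hlt) hpN)
    have h1 := hImod _ (hImul i hmem m)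
    rw [mul_comm m i, hm, hag] at h1
    have h2 := hImul _ h1 (p ^ (n - a))
    rw [← pow_add, Nat.sub_add_cancel hlt] at h2
    exact hyI h2
  -- elimination
  intro h0
  have key : ∀ S : Finset ℕ, S ⊆ Finset.Ioo 0 N → ∃ a : ℕ → R, a 0 ∉ J ∧
      (∀ i ∈ S, a i = 0) ∧ ∑ i ∈ range N, (a i : E) * (x : E) ^ i = 0 := by
    intro S
    induction S using Finset.induction with
    | empty =>
      refine fun _ => ⟨fun _ => 1, fun h => hJp.ne_top ((Ideal.eq_top_iff_one J).mpr h), by simp, ?_⟩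
      simpa using h0
    | insert j S hjS ih =>
      intro hS
      rw [Finset.insert_subset_iff, Finset.mem_Ioo] at hS
      obtain ⟨a, ha0, haS, hsum⟩ := ih hS.2
      obtain ⟨r, hr⟩ : ∃ r, s j r - r ∉ J := by
        by_contra hcon
        push Not at hcon
        exact hI j hS.1.1 hS.1.2 hcon
      refine ⟨fun i => a i * (s i r - s j r), ?_, ?_, ?_⟩
      · show a 0 * (s 0 r - s j r) ∉ J
        rw [hs0]
        intro h
        rcases hJp.mem_or_mem h with h | h
        · exact ha0 h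
        · exact hr (by rw [← neg_sub]; exact J.neg_mem h)
      · intro i hi
        rcases Finset.mem_insert.mp hi with rfl | hi
        · simp
        · simp [haS i hi]
      · have h1 : ∀ i, ((a i * (s i r - s j r) : R) : E) * (x : E) ^ i =
            (a i : E) * (x : E) ^ i * r - (s j r : E) * ((a i : E) * (x : E) ^ i) := fun i => by
          rw [mul_assoc ((a i : E)), hs_comm i r, ← mul_assoc, ← mul_assoc, ← sub_mul]
          congr 1
          rw [mul_sub, AddSubgroupClass.coe_sub, MulMemClass.coe_mul, MulMemClass.coe_mul]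
          congr 1
          exact congrArg Subtype.val (mul_comm (a i) (s j r))
        rw [Finset.sum_congr rfl fun i _ => h1 i, Finset.sum_sub_distrib, ← Finset.sum_mul,
          ← Finset.mul_sum, hsum, zero_mul, mul_zero, sub_zero]
  obtain ⟨a, ha0, haS, hsum⟩ := key _ le_rfl
  rw [Finset.sum_eq_single 0 (fun i hi hi0 => by
    rw [haS i (Finset.mem_Ioo.mpr ⟨Nat.pos_of_ne_zero hi0, Finset.mem_range.mp hi⟩)]; simp)
    (fun h => absurd (Finset.mem_range.mpr (pow_pos hp.out.pos _)) h)] at hsum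
  exact ha0 ((show a 0 = 0 from Subtype.ext (by simpa using hsum)) ▸ J.zero_mem)

universe u

variable {G : Type*} [Group G] [Finite G] {p : ℕ} [hp : Fact p.Prime]

theorem isMulCommutative_qGroup_of_surjective {H : Type*} [Group H] [Finite H] {f : G →* H}
    (hf : Function.Surjective f)
    (hab : ∀ (q : ℕ) [Fact q.Prime], q ≠ p → ∀ Q : Sylow q G, IsMulCommutative (Q : Subgroup G))
    {q : ℕ} [Fact q.Prime] (hq : q ≠ p) {B : Subgroup H} (hB : IsPGroup q B) :
    ∀ a ∈ B, ∀ b ∈ B, a * b = b * a := by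
  intro a ha b hb
  obtain ⟨S, hS⟩ := hB.exists_le_sylow
  obtain ⟨Q, rfl⟩ := Sylow.mapSurjective_surjective hf q S
  obtain ⟨u, hu, rfl⟩ := hS ha
  obtain ⟨v, hv, rfl⟩ := hS hb
  rw [← map_mul, ← map_mul,
    Cfsg.Agent.PGroupsBasic.comm_of_isMulCommutative (hab q hq Q) hu hv]

theorem pow_mem_pCore (hG : Cfsg.IsPSolvable p G) (hbot : Cfsg.pPrimeCore p G = ⊥)
    (hab : ∀ (q : ℕ) [Fact q.Prime], q ≠ p → ∀ Q : Sylow q G, IsMulCommutative (Q : Subgroup G))
    (n : ℕ) (hexp : ∀ (P : Sylow p G), ∀ x ∈ (P : Subgroup G), x ^ p ^ (n + 1) = 1)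
    (P : Sylow p G) {x : G} (hxP : x ∈ (P : Subgroup G)) : x ^ p ^ n ∈ Cfsg.pCore p G := by
  classical
  by_contra hy
  set O := Cfsg.pCore p G with hO
  have hOn : O.Normal := pCore_normal p G
  have hOp : IsPGroup p O := isPGroup_pCore p G
  let V := O ⧸ frattini O
  let _ : CommGroup V :=
    { (inferInstance : Group V) with
      mul_comm := fun a b => (Cfsg.Agent.PGroupsBasic.quotient_frattini_elementary hOp).1 a b }
  have hVp : ∀ v : V, v ^ p = 1 := (Cfsg.Agent.PGroupsBasic.quotient_frattini_elementary hOp).2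
  let E := AddMonoid.End (Additive V)
  let π : O →* V := QuotientGroup.mk' (frattini O)
  have hπ : Function.Surjective π := QuotientGroup.mk'_surjective _
  let act : G → V →* V := fun g => QuotientGroup.map (frattini O) (frattini O)
    (MulAut.conjNormal g : MulAut O).toMonoidHom
    (Subgroup.map_le_iff_le_comap.mp
      (Subgroup.characteristic_iff_map_le.mp inferInstance _))
  have hact : ∀ g (o : O), act g (π o) = π (MulAut.conjNormal g o) := fun g o => rfl
  let ρ₀ : G →* E :=
    { toFun := fun g => MonoidHom.toAdditive (act g)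
      map_one' := by
        refine AddMonoidHom.ext fun v => ?_
        obtain ⟨o, ho⟩ := hπ v.toMul
        show Additive.ofMul (act 1 v.toMul) = v
        rw [← ho, hact, map_one]
        exact congrArg Additive.ofMul ho
      map_mul' := fun g h => by
        refine AddMonoidHom.ext fun v => ?_
        obtain ⟨o, ho⟩ := hπ v.toMul
        show Additive.ofMul (act (g * h) v.toMul) = Additive.ofMul (act g (act h v.toMul))
        rw [← ho, hact, hact, hact, map_mul]; rfl }
  let ρ : G →* Eˣ := ρ₀.toHomUnits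
  have hρ : ∀ g (o : O), (ρ g : E) (Additive.ofMul (π o)) =
      Additive.ofMul (π (MulAut.conjNormal g o)) := fun g o => rfl
  have hp0 : (p : E) = 0 := AddMonoidHom.ext fun v => by
    show ((p : E)) v = 0
    rw [AddMonoid.End.natCast_apply]
    exact congrArg Additive.ofMul (hVp v.toMul)
  -- the kernel
  have hkerO : ∀ g, ρ g = 1 ↔ g ∈ O := by
    intro g
    refine ⟨fun h => ?_, fun h => ?_⟩
    · have hK : IsPGroup p ρ.ker := by
        rintro ⟨k, hk⟩
        obtain ⟨e, m, hm, hem⟩ :=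
          Nat.exists_eq_pow_mul_and_not_dvd (orderOf_pos k).ne' p hp.out.ne_one
        refine ⟨e, Subtype.ext ?_⟩
        show k ^ p ^ e = 1
        set a := k ^ p ^ e with ha
        have hm' : m.Coprime p := ((Nat.Prime.coprime_iff_not_dvd hp.out).mpr hm).symm
        have had : orderOf a ∣ m := by
          rw [orderOf_dvd_iff_pow_eq_one, ha, ← pow_mul, ← hem, pow_orderOf_eq_one]
        have hcop : (orderOf a).Coprime p := Nat.Coprime.coprime_dvd_left had hm'
        have haO : a ∈ centralizer (O : Set G) := by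
          refine Cfsg.Agent.CoprimeAction.le_centralizer_of_frattini (A := zpowers a) (K := O)
            le_normalizer_of_normal ?_ ?_ (mem_zpowers a)
          · rw [Nat.card_zpowers]
            obtain ⟨j, hj⟩ := IsPGroup.iff_card.mp (hOp.to_subgroup (frattini O))
            rw [hj]; exact hcop.pow_right j
          · intro u hu o ho
            have hu1 : ρ u = 1 := (zpowers_le.mpr (pow_mem hk _) : zpowers a ≤ ρ.ker) hu
            have h2 := hρ u ⟨o, ho⟩
            rw [hu1, Units.val_one] at h2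
            have h3 : π (MulAut.conjNormal u ⟨o, ho⟩ * ⟨o, ho⟩⁻¹) = 1 := by
              rw [map_mul, map_inv, mul_inv_eq_one]
              exact (Additive.ofMul.injective h2).symm
            exact ⟨_, (QuotientGroup.eq_one_iff _).mp h3, by simp⟩
        have haO2 : a ∈ O := centralizer_pCore_le hG hbot haO
        obtain ⟨j, hj⟩ := hOp ⟨a, haO2⟩
        exact orderOf_eq_one_iff.mp (Nat.eq_one_of_dvd_coprimes (hcop.pow_right j) dvd_rfl
          (orderOf_dvd_iff_pow_eq_one.mpr (congrArg Subtype.val hj)))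
      exact le_pCore hK h
    · refine Units.ext (AddMonoidHom.ext fun v => ?_)
      obtain ⟨o, ho⟩ := hπ v.toMul
      have hv : v = Additive.ofMul (π o) := congrArg Additive.ofMul ho.symm
      subst hv
      refine (hρ g o).trans (congrArg Additive.ofMul ?_)
      rw [show MulAut.conjNormal g o = ⟨g, h⟩ * o * (⟨g, h⟩ : O)⁻¹ from Subtype.ext (by simp),
        map_mul, map_mul, map_inv, mul_comm (π ⟨g, h⟩), mul_inv_cancel_right]
  let ρb : G ⧸ O →* Eˣ := QuotientGroup.lift O ρ fun o ho => (hkerO o).mpr ho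
  have hρb : Function.Injective ρb := by
    rw [← MonoidHom.ker_eq_bot_iff, eq_bot_iff]
    intro g hg
    obtain ⟨g, rfl⟩ := QuotientGroup.mk'_surjective O g
    exact (QuotientGroup.eq_one_iff g).mpr ((hkerO g).mp hg)
  -- an invariant abelian subgroup moved by x ^ p ^ n
  let xb : G ⧸ O := QuotientGroup.mk' O x
  let Mb := Cfsg.pPrimeCore p (G ⧸ O)
  have hMn : Mb.Normal := pPrimeCore_normal p _
  have hMcop : (Nat.card Mb).Coprime p := coprime_card_pPrimeCore p _
  have hCM : centralizer (Mb : Set (G ⧸ O)) ≤ Mb := by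
    have hM : Mb = Cfsg.piCore ({p} : Set ℕ)ᶜ (G ⧸ O) := pPrimeCore_eq_piCore p _
    rw [hM]
    refine centralizer_piCore_le ((isPSolvable_iff p).mp (isPSolvable_quotient hG O)).compl ?_
    rw [compl_compl, ← pCore_eq_piCore]
    exact pCore_quotient_self p G
  have hxo : xb ^ p ^ (n + 1) = 1 := by
    show QuotientGroup.mk' O x ^ _ = 1
    rw [← map_pow, hexp P x hxP, map_one]
  have hybne : xb ^ p ^ n ≠ 1 := fun h => hy ((QuotientGroup.eq_one_iff _).mp (by
    rw [← h]; show _ = QuotientGroup.mk' O x ^ _; rw [← map_pow]; rfl))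
  obtain ⟨q, hq, hqp, B, hBq, hBinv, b, hb, hbne⟩ : ∃ q, q.Prime ∧ q ≠ p ∧
      ∃ B : Subgroup (G ⧸ O), IsPGroup q B ∧ (∀ b ∈ B, xb * b * xb⁻¹ ∈ B) ∧
        ∃ b ∈ B, xb ^ p ^ n * b ≠ b * xb ^ p ^ n := by
    by_contra hcon
    push Not at hcon
    have hle : Mb ≤ centralizer {xb ^ p ^ n} := by
      refine inf_eq_left.mp (eq_of_le_of_card_ge inf_le_left (Nat.le_of_dvd Nat.card_pos ?_))
      refine (Nat.dvd_iff_prime_pow_dvd_dvd _ _).mpr fun q k hq hqk => ?_
      have : Fact q.Prime := ⟨hq⟩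
      rcases Nat.eq_zero_or_pos k with rfl | hk
      · exact (pow_zero q).symm ▸ one_dvd _
      have hqp : q ≠ p := fun h => by
        subst h
        exact (Nat.Prime.coprime_iff_not_dvd hq).mp hMcop.symm ((dvd_pow_self q hk.ne').trans hqk)
      have hcop : (Nat.card (zpowers xb)).Coprime (Nat.card Mb) := by
        rw [Nat.card_zpowers]
        exact Nat.Coprime.coprime_dvd_left (orderOf_dvd_of_pow_eq_one hxo) (hMcop.symm.pow_left _)
      obtain ⟨Q, hQ⟩ := Cfsg.Agent.CoprimeAction.exists_invariant_sylow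
        (le_normalizer_of_normal : zpowers xb ≤ _) hcop (Or.inl inferInstance) q
      set Q' := (Q : Subgroup Mb).map Mb.subtype
      have hQc : Q' ≤ Mb ⊓ centralizer {xb ^ p ^ n} := fun z hz => ⟨Subgroup.map_subtype_le _ hz,
        mem_centralizer_singleton_iff.mpr (hcon q hq hqp Q' (Q.isPGroup'.map _)
          (fun b hb => (mem_normalizer_iff.mp (hQ (mem_zpowers xb)) b).mp hb) z hz).symm⟩
      refine dvd_trans ?_ (card_dvd_of_le hQc)
      rw [Subgroup.card_subtype]
      exact Q.pow_dvd_card_of_pow_dvd_card hqk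
    have h1 : xb ^ p ^ n ∈ Mb := hCM (mem_centralizer_iff.mpr fun m hm =>
      mem_centralizer_singleton_iff.mp (hle hm))
    refine hybne (orderOf_eq_one_iff.mp (Nat.eq_one_of_dvd_coprimes (hMcop.pow_right (n + 1))
      (orderOf_dvd_natCard _ h1) (orderOf_dvd_of_pow_eq_one ?_)))
    rw [← pow_mul, mul_comm, pow_mul, hxo, one_pow]
  have : Fact q.Prime := ⟨hq⟩
  have hBc := isMulCommutative_qGroup_of_surjective (QuotientGroup.mk'_surjective O) hab hqp hBq
  have hsum := norm_ne_zero hp0 n (ρb xb) (by rw [← map_pow, hxo, map_one]) (B.map ρb)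
    (by rintro _ ⟨a, ha, rfl⟩ _ ⟨c, hc, rfl⟩; rw [← map_mul, ← map_mul, hBc a ha c hc])
    (by rintro _ ⟨a, ha, rfl⟩; exact ⟨_, hBinv a ha, by simp⟩)
    (by
      rintro _ ⟨a, ha, rfl⟩
      obtain ⟨k, hk⟩ := hBq ⟨a, ha⟩
      have h1 : orderOf (ρb a) ∣ q ^ k := (orderOf_map_dvd ρb a).trans
        (orderOf_dvd_of_pow_eq_one (congrArg Subtype.val hk))
      exact Nat.Coprime.coprime_dvd_left h1 (((Nat.coprime_primes hq hp.out).mpr hqp).pow_left k))
    ⟨ρb b, mem_map_of_mem _ hb, fun h => hbne (hρb (by simpa [map_mul, map_pow] using h))⟩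
  -- elements of the coset give a vanishing norm
  refine hsum (AddMonoidHom.ext fun v => ?_)
  obtain ⟨o, ho⟩ := hπ v.toMul
  have hv : v = Additive.ofMul (π o) := congrArg Additive.ofMul ho.symm
  have hkey : ∀ m : ℕ, ∃ om : O, ((o : G) * x) ^ m = om * x ^ m ∧
      Additive.ofMul (π om) = (∑ i ∈ range m, ((ρ x : Eˣ) : E) ^ i) v := by
    intro m
    induction m with
    | zero => exact ⟨1, by simp, by simp; rfl⟩
    | succ m ih =>
      obtain ⟨om, h1, h2⟩ := ih
      refine ⟨o * MulAut.conjNormal x om, ?_, ?_⟩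
      · rw [pow_succ', h1, pow_succ' x]; simp [mul_assoc]
      · rw [map_mul, ofMul_mul, show Additive.ofMul (π (MulAut.conjNormal x om)) = (ρ x : E) (Additive.ofMul (π om)) from rfl, h2, Finset.sum_range_succ', pow_zero, add_comm (Additive.ofMul (π o)), ← hv]
        simp only [pow_succ', ← Finset.mul_sum]
        rfl
  obtain ⟨om, h1, h2⟩ := hkey (p ^ (n + 1))
  have hoP : (o : G) * x ∈ (P : Subgroup G) := mul_mem (pCore_le_sylow P o.2) hxP
  rw [hexp P _ hoP, hexp P x hxP, mul_one] at h1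
  have hom : om = 1 := Subtype.ext h1.symm
  rw [hom, map_one, ofMul_one] at h2
  show (∑ i ∈ range (p ^ (n + 1)), ((ρb xb : Eˣ) : E) ^ i) v = 0
  exact h2.symm

theorem plength_le_exponent : ∀ (n : ℕ) (G : Type u) [Group G] [Finite G],
    Cfsg.IsPSolvable p G →
    (∀ (q : ℕ) [Fact q.Prime], q ≠ p → ∀ Q : Sylow q G, IsMulCommutative (Q : Subgroup G)) →
    (∀ (P : Sylow p G), ∀ x ∈ (P : Subgroup G), x ^ p ^ n = 1) → Cfsg.PLengthLE p n G := by
  intro n
  induction n with
  | zero =>
    intro G _ _ _ _ hexp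
    rw [pLengthLE_zero_iff]
    refine ((Nat.Prime.coprime_iff_not_dvd hp.out).mpr fun hd => ?_).symm
    obtain ⟨g, hg⟩ := exists_prime_orderOf_dvd_card' p hd
    obtain ⟨P, hP⟩ := (IsPGroup.of_card (n := 1) (by rw [Nat.card_zpowers, hg, pow_one]) :
      IsPGroup p (zpowers g)).exists_le_sylow
    have := hexp P g (hP (mem_zpowers g))
    rw [pow_zero, pow_one] at this
    exact hp.out.ne_one (hg.symm.trans (orderOf_eq_one_iff.mpr this))
  | succ n ih =>
    intro G _ _ hG hab hexp
    set T1 := term p G (2 * 0 + 1) with hT1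
    set T2 := term p G 2 with hT2
    have : T1.Normal := term_two_normal _ _ _
    have : T2.Normal := term_two_normal _ _ _
    rw [pLengthLE_succ_iff]
    refine ih (G ⧸ T2) (isPSolvable_quotient hG T2) (fun q _ hqp Q => ⟨⟨fun a b => Subtype.ext
      (isMulCommutative_qGroup_of_surjective (QuotientGroup.mk'_surjective T2) hab hqp Q.isPGroup'
        _ a.2 _ b.2)⟩⟩) fun P y hy => ?_
    obtain ⟨P0, rfl⟩ := Sylow.mapSurjective_surjective (QuotientGroup.mk'_surjective T2) p P
    obtain ⟨x, hx, rfl⟩ := hy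
    rw [← map_pow]
    refine (QuotientGroup.eq_one_iff _).mpr ?_
    have hT2e : T2 = (Cfsg.pCore p (G ⧸ T1)).comap (QuotientGroup.mk' T1) :=
      Cfsg.Agent.HallConstrained.upperPSeries_even 0
    rw [hT2e, mem_comap, map_pow]
    refine pow_mem_pCore (isPSolvable_quotient hG T1)
      (Cfsg.Agent.HallConstrained.pPrimeCore_quotient_upperPSeries 0)
      (fun q _ hqp Q => ⟨⟨fun a b => Subtype.ext
        (isMulCommutative_qGroup_of_surjective (QuotientGroup.mk'_surjective T1) hab hqp Q.isPGroup'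
          _ a.2 _ b.2)⟩⟩) n (fun Q z hz => ?_)
      (P0.mapSurjective (QuotientGroup.mk'_surjective T1)) (mem_map_of_mem _ hx)
    obtain ⟨Q0, rfl⟩ := Sylow.mapSurjective_surjective (QuotientGroup.mk'_surjective T1) p Q
    obtain ⟨w, hw, rfl⟩ := hz
    rw [← map_pow, hexp Q0 w hw, map_one]

/-- Let G be a finite p-soluble group in which, for every prime q ≠ p, the Sylow q-subgroups are abelian. If the Sylow p-subgroups of G have exponent dividing p^n, then G has p-length at most n. -/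
theorem result {G : Type*} [Group G] [Finite G] {p : ℕ} [Fact p.Prime] (hG : Cfsg.IsPSolvable p G) (hab : ∀ (q : ℕ) [Fact q.Prime], q ≠ p → ∀ Q : Sylow q G, IsMulCommutative (Q : Subgroup G)) (n : ℕ) (hexp : ∀ (P : Sylow p G), ∀ x ∈ (P : Subgroup G), x ^ p ^ n = 1) : Cfsg.PLengthLE p n G := by
  exact plength_le_exponent n G hG hab hexp

end Cfsg.Agent.S3783
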