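import Cfsg.Statements.S3785
import Mathlib
import Cfsg.Agent.Lib.HallSolvable
import Cfsg.Agent.Lib.ComponentsFitting
import Cfsg.Agent.Lib.OmegaCoprime

set_option autoImplicit false
open Cfsg

namespace Cfsg.Agent.S3785


universe w

variable {G : Type w} [Group G] [Finite G]

/-- An element all of whose powers of prime-power order lie in `H` lies in `H`. -/
theorem mem_of_primePower_pows (H : Subgroup G) (x : G)
    (h : ∀ y ∈ Subgroup.zpowers x, ∀ l k : ℕ, l.Prime → orderOf y = l ^ k → y ∈ H) : x ∈ H := by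
  by_contra hx
  set K := H.subgroupOf (Subgroup.zpowers x)
  have hi : K.index ≠ 1 := by
    rw [Ne, Subgroup.index_eq_one, Subgroup.subgroupOf_eq_top]
    exact fun hle => hx (hle (Subgroup.mem_zpowers x))
  obtain ⟨l, hl, hdvd⟩ := Nat.exists_prime_and_dvd hi
  have : Fact l.Prime := ⟨hl⟩
  obtain ⟨P⟩ : Nonempty (Sylow l (Subgroup.zpowers x)) := inferInstance
  have hPK : (P : Subgroup _) ≤ K := by
    intro y hy
    obtain ⟨k, hk⟩ := IsPGroup.iff_orderOf.mp P.2 ⟨y, hy⟩
    exact h y y.2 l k hl (by rw [Subgroup.orderOf_coe, ← Subgroup.orderOf_mk y hy]; exact hk)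
  exact P.not_dvd_index (hdvd.trans (Subgroup.index_dvd_of_le hPK))

/-- An element of prime-power order in the Fitting subgroup lies in that core. -/
theorem mem_pCore_of_mem_fitting {f : G} (hf : f ∈ Cfsg.fittingSubgroup G) {l k : ℕ}
    (hl : l.Prime) (hord : orderOf f = l ^ k) : f ∈ Cfsg.pCore l G := by
  have : Fact l.Prime := ⟨hl⟩
  have : Group.IsNilpotent (Cfsg.fittingSubgroup G) :=
    Cfsg.Agent.ComponentsFitting.fittingSubgroup_isNilpotent
  have hpg : IsPGroup l (Subgroup.zpowers (⟨f, hf⟩ : Cfsg.fittingSubgroup G)) :=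
    IsPGroup.of_card ((Nat.card_zpowers _).trans (by rw [Subgroup.orderOf_mk]; exact hord))
  obtain ⟨P, hP⟩ := hpg.exists_le_sylow
  have : (P : Subgroup (Cfsg.fittingSubgroup G)).Characteristic := Sylow.characteristic_of_normal P inferInstance
  exact Cfsg.Agent.HallCore.le_pCore (N := (P : Subgroup (Cfsg.fittingSubgroup G)).map (Cfsg.fittingSubgroup G).subtype)
    (P.2.map _) ⟨⟨f, hf⟩, hP (Subgroup.mem_zpowers _), rfl⟩

theorem orderOf_dvd_of_mem_zpowers' {x y : G} (hy : y ∈ Subgroup.zpowers x) :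
    orderOf y ∣ orderOf x := by
  rw [← Nat.card_zpowers x, ← Subgroup.orderOf_mk y hy]
  exact orderOf_dvd_natCard _

/-- Let G be a finite solvable group whose Fitting subgroup F(G) has odd order. If an element g of G commutes with every element of prime order of F(G), then g ∈ F(G). -/
theorem result {G : Type*} [Group G] [Finite G] (hG : Group.IsSolvable G) (hodd : Odd (Nat.card (Cfsg.fittingSubgroup G))) (g : G) (hg : ∀ x ∈ Cfsg.fittingSubgroup G, (orderOf x).Prime → g * x = x * g) : g ∈ Cfsg.fittingSubgroup G := by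
  set F := Cfsg.fittingSubgroup G with hF
  set C := Subgroup.centralizer {x : G | x ∈ F ∧ (orderOf x).Prime} with hC
  have hCn : C.Normal := by
    refine ⟨fun c hc a => ?_⟩
    rw [hC, Subgroup.mem_centralizer_iff] at hc ⊢
    intro x hx
    have hx' : a⁻¹ * x * a ∈ {x : G | x ∈ F ∧ (orderOf x).Prime} := by
      refine ⟨by simpa using (inferInstance : F.Normal).conj_mem x hx.1 a⁻¹, ?_⟩
      have : orderOf (a⁻¹ * x * a) = orderOf x := by simpa using (MulAut.conj a⁻¹).orderOf_eq x
      rw [this]; exact hx.2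
    calc x * (a * c * a⁻¹) = a * ((a⁻¹ * x * a) * c) * a⁻¹ := by group
      _ = a * c * a⁻¹ * x := by rw [hc _ hx']; group
  have hgC : g ∈ C := by
    rw [hC, Subgroup.mem_centralizer_iff]
    exact fun x hx => (hg x hx.1 hx.2).symm
  suffices C ≤ F from this hgC
  intro c hcC
  refine mem_of_primePower_pows F c fun x hx r k hr hxk => ?_
  have hxC : x ∈ C := (Subgroup.zpowers_le.mpr hcC) hx
  -- coprime elements of C centralize the p-cores
  have hcent : ∀ l : ℕ, l.Prime → ∀ y ∈ C, (orderOf y).Coprime l →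
      ∀ f ∈ Cfsg.pCore l G, Commute y f := by
    intro l hl y hy hcop
    have : Fact l.Prime := ⟨hl⟩
    by_cases h2 : l = 2
    · subst h2
      intro f hf
      obtain ⟨j, hj⟩ := IsPGroup.iff_orderOf.mp (Cfsg.Agent.HallCore.isPGroup_pCore 2 G) ⟨f, hf⟩
      rw [Subgroup.orderOf_mk] at hj
      have hodd' : Odd (orderOf f) := by
        rw [← Subgroup.orderOf_mk f (Cfsg.Agent.ComponentsFitting.pCore_le_fitting Nat.prime_two hf)]
        exact hodd.of_dvd_nat (orderOf_dvd_natCard _)
      obtain rfl : j = 0 := by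
        by_contra hj0
        rw [hj] at hodd'
        exact (Nat.not_even_iff_odd.mpr hodd') (even_iff_two_dvd.mpr (dvd_pow_self 2 hj0))
      rw [pow_zero, orderOf_eq_one_iff] at hj
      subst hj
      exact Commute.one_right y
    · refine Cfsg.Agent.OmegaCoprime.commute_of_forall_pow_eq_one h2 hcop _
        (Cfsg.Agent.HallCore.isPGroup_pCore l G)
        (fun f hf => (Cfsg.Agent.HallCore.pCore_normal l G).conj_mem f hf y) ?_
      intro f hf hfl
      by_cases hf1 : f = 1
      · subst hf1; exact Commute.one_right y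
      exact (Subgroup.mem_centralizer_iff.mp hy f
        ⟨Cfsg.Agent.ComponentsFitting.pCore_le_fitting hl hf,
          by rw [orderOf_eq_prime hfl hf1]; exact hl⟩).symm
  -- M
  set X : Set G := {f | ∃ l : ℕ, l.Prime ∧ l ≠ r ∧ f ∈ Cfsg.pCore l G} with hX
  set M := C ⊓ Subgroup.centralizer X with hM
  have hXn : (Subgroup.centralizer X).Normal := by
    refine ⟨fun y hy a => ?_⟩
    rw [Subgroup.mem_centralizer_iff] at hy ⊢
    rintro f ⟨l, hl, hlr, hf⟩
    have hf' : a⁻¹ * f * a ∈ X :=
      ⟨l, hl, hlr, by simpa using (Cfsg.Agent.HallCore.pCore_normal l G).conj_mem f hf a⁻¹⟩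
    calc f * (a * y * a⁻¹) = a * ((a⁻¹ * f * a) * y) * a⁻¹ := by group
      _ = a * y * a⁻¹ * f := by rw [hy _ hf']; group
  have hMn : M.Normal := by rw [hM]; infer_instance
  have hxM : x ∈ M := by
    refine ⟨hxC, Subgroup.mem_centralizer_iff.mpr ?_⟩
    rintro f ⟨l, hl, hlr, hf⟩
    exact (hcent l hl x hxC (hxk ▸ ((Nat.coprime_primes hr hl).mpr (Ne.symm hlr)).pow_left k) f hf).symm.eq
  -- elements of M of order prime to r are central in M
  have hcentral : ∀ y ∈ M, (orderOf y).Coprime r → ∀ m ∈ M, m * y = y * m := by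
    intro y hy hyr m hm
    have hyF : y ∈ F := by
      apply Cfsg.Agent.HallSolvable.centralizer_fitting_le
      rw [Subgroup.mem_centralizer_iff]
      intro f hf
      refine Subgroup.mem_centralizer_singleton_iff.mp
        (mem_of_primePower_pows (Subgroup.centralizer {y}) f fun f' hf' l j hl hj => ?_)
      have hf'p : f' ∈ Cfsg.pCore l G :=
        mem_pCore_of_mem_fitting ((Subgroup.zpowers_le.mpr hf) hf') hl hj
      rw [Subgroup.mem_centralizer_singleton_iff]
      by_cases hlr : l = r
      · exact (hcent l hl y hy.1 (hlr ▸ hyr) f' hf'p).symm.eq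
      · exact Subgroup.mem_centralizer_iff.mp hy.2 f' ⟨l, hl, hlr, hf'p⟩
    refine (Subgroup.mem_centralizer_singleton_iff.mp
      (mem_of_primePower_pows (Subgroup.centralizer {m}) y fun y' hy' l j hl hj => ?_)).symm
    rw [Subgroup.mem_centralizer_singleton_iff]
    have hy'p : y' ∈ Cfsg.pCore l G :=
      mem_pCore_of_mem_fitting ((Subgroup.zpowers_le.mpr hyF) hy') hl hj
    by_cases hlr : l = r
    · subst hlr
      have hd : orderOf y' = 1 := by
        refine Nat.eq_one_of_dvd_coprimes ?_ dvd_rfl (orderOf_dvd_of_mem_zpowers' hy')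
        rw [hj]
        exact (hyr.symm).pow_left j
      rw [orderOf_eq_one_iff.mp hd]; simp
    · exact Subgroup.mem_centralizer_iff.mp hm.2 y' ⟨l, hl, hlr, hy'p⟩
  -- so M / Z(M) is an r-group
  have : Fact r.Prime := ⟨hr⟩
  have hMnil : Group.IsNilpotent M := by
    refine Group.of_quotient_center_nilpotent ?_
    refine IsPGroup.isNilpotent (p := r) ?_
    intro q
    induction q using QuotientGroup.induction_on with
    | _ m =>
      refine ⟨(orderOf m).factorization r, ?_⟩
      rw [← QuotientGroup.mk_pow, QuotientGroup.eq_one_iff, Subgroup.mem_center_iff]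
      intro m'
      apply Subtype.ext
      refine hcentral _ (m ^ _).2 ?_ m' m'.2
      rw [Subgroup.orderOf_coe, orderOf_pow_of_dvd (pow_ne_zero _ hr.ne_zero)
        (Nat.ordProj_dvd _ _)]
      exact (Nat.coprime_ordCompl hr (orderOf_pos m).ne').symm
  exact Cfsg.Agent.HallSolvable.le_fitting (N := M) hxM

end Cfsg.Agent.S3785
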