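import Cfsg.Statements.S3787
import Cfsg.Agent.Lib.HallHigmanExponent
import Cfsg.Agent.Lib.HallHigmanWreath

set_option autoImplicit false
open Cfsg

namespace Cfsg.Agent.S3787

open Cfsg.Agent.HallHigman

/-- Let G be a finite p-soluble group, p an odd prime not of the form 2^k + 1, and suppose the wreath product C_p ≀ C_p (of order p^(p+1)) is not involved in a Sylow p-subgroup of G: no section of a Sylow p-subgroup is isomorphic to it. Then G has p-length at most 1. -/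
theorem result {G : Type*} [Group G] [Finite G] {p : ℕ} [Fact p.Prime] (hp2 : p ≠ 2) (hnf : (¬ ∃ k : ℕ, p = 2 ^ k + 1)) (hG : Cfsg.IsPSolvable p G) (P : Sylow p G) (hwr : ∀ (W : Type) [Group W] [Finite W], (∃ (B : Subgroup W) (t : W), B.Normal ∧ IsMulCommutative B ∧ (∀ b ∈ B, b ^ p = 1) ∧ Nat.card B = p ^ p ∧ orderOf t = p ∧ t ∉ B ∧ Nat.card W = p ^ (p + 1) ∧ Nat.card ↥(B ⊓ Subgroup.centralizer ({t} : Set W)) = p) → ¬ Cfsg.Involves W ↥(P : Subgroup G)) : Cfsg.PLengthLE p 1 G := by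
  have hp : p.Prime := Fact.out
  set T1 := Cfsg.Agent.HallPLength.term p G (2 * 0 + 1)
  set T2 := Cfsg.Agent.HallPLength.term p G 2
  have : T1.Normal := Cfsg.Agent.HallPLength.term_two_normal _ _ _
  have : T2.Normal := Cfsg.Agent.HallPLength.term_two_normal _ _ _
  rw [show (1 : ℕ) = 0 + 1 from rfl, Cfsg.Agent.HallPLength.pLengthLE_succ_iff,
    Cfsg.Agent.HallPLength.pLengthLE_zero_iff, Nat.coprime_comm, hp.coprime_iff_not_dvd]
  intro hd
  set P2 := P.mapSurjective (QuotientGroup.mk'_surjective T2)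
  obtain ⟨⟨y, hy⟩, hy1⟩ := exists_prime_orderOf_dvd_card' (G := (P2 : Subgroup (G ⧸ T2))) p (by
    obtain ⟨k, hk⟩ := IsPGroup.iff_card.mp P2.2
    rw [hk]
    refine dvd_pow_self p ?_
    rintro rfl
    rw [pow_zero, Subgroup.card_eq_one] at hk
    exact P2.ne_bot_of_dvd_card hd hk)
  rw [← Subgroup.orderOf_coe] at hy1
  change orderOf y = p at hy1
  obtain ⟨x₀, hx₀, rfl⟩ := hy
  let H := G ⧸ T1
  set O := Cfsg.pCore p H
  have hbot : Cfsg.pPrimeCore p H = ⊥ :=
    Cfsg.Agent.HallConstrained.pPrimeCore_quotient_upperPSeries 0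
  have hGH : Cfsg.IsPSolvable p H := Cfsg.Agent.HallSolvable.isPSolvable_quotient hG T1
  have hmem : ∀ g : G, (g : G ⧸ T2) = 1 ↔ (g : H) ∈ O := fun g => by
    rw [QuotientGroup.eq_one_iff, show T2 = (Cfsg.pCore p (G ⧸ T1)).comap (QuotientGroup.mk' T1)
      from Cfsg.Agent.HallConstrained.upperPSeries_even 0]
    rfl
  set x : H := QuotientGroup.mk' T1 x₀
  set P1 := P.mapSurjective (QuotientGroup.mk'_surjective T1)
  have hxP : x ∈ (P1 : Subgroup H) := ⟨x₀, hx₀, rfl⟩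
  have hxp : x ^ p ∈ O := by
    show QuotientGroup.mk' T1 x₀ ^ p ∈ O
    rw [← map_pow]
    refine (hmem _).mp ?_
    rw [QuotientGroup.mk_pow]
    exact hy1 ▸ pow_orderOf_eq_one _
  have hxO : x ∉ O := fun h => hp.ne_one (hy1.symm.trans (orderOf_eq_one_iff.mpr ((hmem x₀).mpr h)))
  obtain ⟨q, hq, hqp, Q, -, hQ, hxQ, hnc⟩ := exists_moved_subgroup hGH (x := x) (e := 1)
    (by rwa [pow_one]) le_rfl (by simpa using hxO)
  obtain ⟨φ, hφ, hφc⟩ := exists_frattini_action hGH hbot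
  have hOp : IsPGroup p O := Cfsg.Agent.HallCore.isPGroup_pCore p H
  let _ : CommGroup (↥O ⧸ frattini ↥O) :=
    { (inferInstance : Group (↥O ⧸ frattini ↥O)) with
      mul_comm := frattini_quotient_comm O hOp }
  have hel := (Cfsg.Agent.PGroupsBasic.quotient_frattini_elementary hOp).2
  obtain ⟨v, hv⟩ : ∃ v : ↥O ⧸ frattini ↥O,
      ∏ k ∈ Finset.range (p ^ 1), φ ((x : H ⧸ O) ^ k) v ≠ 1 := by
    by_contra hall
    push Not at hall
    have hxb : (x : H ⧸ O) ^ p ^ 1 = 1 := by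
      rw [← QuotientGroup.mk_pow, pow_one]; exact (QuotientGroup.eq_one_iff _).mpr hxp
    obtain ⟨hE, -⟩ := exceptional_of_norm_trivial (V := ↥O ⧸ frattini ↥O) (ℓ := p) hel φ hp hq
      (Ne.symm hqp) (Ne.symm hqp) le_rfl hxb hxQ hQ (fun u _ hu => hφ (hu.trans (map_one φ).symm))
      hnc hall
    obtain ⟨-, a, j, ha1, ha, -, heq⟩ := hE.odd hp hp2 hq
    obtain rfl : a = 1 := by omega
    exact hnf ⟨j, by simpa using heq⟩
  rw [pow_one] at hv
  obtain ⟨o, rfl⟩ := QuotientGroup.mk_surjective v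
  set D : Subgroup H := (frattini ↥O).map O.subtype
  have hDn : D.Normal := inferInstance
  set K0 : Subgroup H := O ⊔ Subgroup.zpowers x
  have hOK : O ≤ K0 := le_sup_left
  let E0 := ↥K0 ⧸ D.subgroupOf K0
  let π : ↥K0 →* E0 := QuotientGroup.mk' _
  let ι : O →* E0 := π.comp (Subgroup.inclusion hOK)
  let x' : K0 := ⟨x, Subgroup.mem_sup_right (Subgroup.mem_zpowers x)⟩
  have hι : ∀ a b : O, (a : ↥O ⧸ frattini ↥O) = b ↔ ι a = ι b := by
    intro a b
    rw [QuotientGroup.eq]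
    show a⁻¹ * b ∈ frattini ↥O ↔ ((Subgroup.inclusion hOK a : K0) : E0) =
      ((Subgroup.inclusion hOK b : K0) : E0)
    rw [QuotientGroup.eq, Subgroup.mem_subgroupOf]
    exact ⟨fun h => ⟨_, h, rfl⟩, fun ⟨c, hc, hce⟩ => by
      rwa [show a⁻¹ * b = c from Subtype.ext hce.symm]⟩
  have hιc : ∀ a b : O, Commute (ι a) (ι b) := fun a b => by
    show ι a * ι b = ι b * ι a
    rw [← map_mul, ← map_mul, ← hι, QuotientGroup.mk_mul, QuotientGroup.mk_mul, mul_comm]
  have hιp : ∀ a : O, ι a ^ p = 1 := fun a => by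
    rw [← map_pow, ← map_one ι, ← hι, QuotientGroup.mk_pow, hel]
    rfl
  set t := π x' with ht
  set u := ι o with hu
  set z := ι ⟨x ^ p, hxp⟩ with hz
  have hzt : t ^ p = z := by
    rw [ht, ← map_pow]; rfl
  have hconj : ∀ (i : ℕ) (a : O), t ^ i * ι a * (t ^ i)⁻¹ = ι (MulAut.conjNormal (x ^ i) a) := by
    intro i a
    rw [ht, ← map_pow, ← map_inv]
    show π _ * π _ * π _ = π _
    rw [← map_mul, ← map_mul]
    congr 1
  set Nv := ∏ k ∈ Finset.range p, φ ((x : H ⧸ O) ^ k) (o : ↥O ⧸ frattini ↥O)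
  obtain ⟨n, hn⟩ : ∃ n : O, (n : ↥O ⧸ frattini ↥O) = Nv := QuotientGroup.mk_surjective Nv
  have hn1 : ι n ≠ 1 := by
    rw [← map_one ι, Ne, ← hι, hn]
    exact hv
  have hlin : ∀ k : ℕ, (u ^ k * t) ^ p = ι n ^ k * z := by
    intro k
    obtain ⟨om, h1, h2⟩ := exists_coe_mul_pow (V := ↥O ⧸ frattini ↥O) O
      (QuotientGroup.mk' (frattini ↥O)) (QuotientGroup.mk' O) φ hφc x (o ^ k) p
    have h3 : ι om = ι n ^ k := by
      rw [← map_pow, ← hι, QuotientGroup.mk_pow, hn, ← Finset.prod_pow]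
      refine h2.trans (Finset.prod_congr rfl fun j _ => ?_)
      rw [map_pow (QuotientGroup.mk' (frattini ↥O)), map_pow]
      rfl
    rw [← h3, hu, ← map_pow, ht]
    show (π _ * π x') ^ p = π _ * π _
    rw [← map_mul, ← map_pow, ← map_mul]
    congr 1
    exact Subtype.ext h1
  have hzp : z ^ p = 1 := hιp _
  suffices hkey : ∃ (E : Type _) (_ : Group E) (ε : E0 →* E),
      Function.Surjective ε ∧ ∃ g : Wreath p →* E, Function.Injective g by
    obtain ⟨E, _, ε, hε, g, hg⟩ := hkey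
    let ψ : ↥(P : Subgroup G) →* H := (QuotientGroup.mk' T1).comp (P : Subgroup G).subtype
    have hK0P : K0 ≤ (P1 : Subgroup H) :=
      sup_le (Cfsg.Agent.HallCore.pCore_le_sylow P1) (Subgroup.zpowers_le.mpr hxP)
    let π' : K0.comap ψ →* E :=
      (ε.comp π).comp ((ψ.comp (K0.comap ψ).subtype).codRestrict K0 fun a => a.2)
    have hπ' : Function.Surjective π' := by
      intro w
      obtain ⟨e0, rfl⟩ := hε w
      obtain ⟨⟨k, hk⟩, rfl⟩ := QuotientGroup.mk'_surjective _ e0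
      obtain ⟨a, ha, rfl⟩ := hK0P hk
      exact ⟨⟨⟨a, ha⟩, hk⟩, rfl⟩
    exact hwr (Wreath p) wreath_spec (involves_of_injective π' hπ' g hg)
  have hcomm : ∀ (s : E0) (hs : ∃ c : O, s = ι c * t) (i j : ℕ),
      Commute (s ^ i * u * (s ^ i)⁻¹) (s ^ j * u * (s ^ j)⁻¹) := by
    rintro s ⟨c, rfl⟩ i j
    have h : ∀ i : ℕ, ∀ a : O, ∃ b : O, (ι c * t) ^ i * ι a * ((ι c * t) ^ i)⁻¹ = ι b := by
      intro i
      induction i with
      | zero => exact fun a => ⟨a, by simp⟩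
      | succ i ih =>
        intro a
        obtain ⟨b, hb⟩ := ih a
        refine ⟨c * MulAut.conjNormal x b * c⁻¹, ?_⟩
        rw [pow_succ', map_mul, map_mul, map_inv, ← pow_one x, ← hconj, pow_one, ← hb]
        simp [mul_assoc]
    obtain ⟨b1, h1⟩ := h i o
    obtain ⟨b2, h2⟩ := h j o
    rw [hu, h1, h2]
    exact hιc _ _
  by_cases hzn : z ∈ Subgroup.zpowers (ι n)
  · obtain ⟨m, hm⟩ := mem_powers_iff_mem_zpowers.2 hzn
    change ι n ^ m = z at hm
    -- replace `t` by `u ^ k * t`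
    obtain ⟨k, hk⟩ : ∃ k, p ∣ k + m := ⟨(p - 1) * m, m, by
      obtain ⟨r, hr⟩ : ∃ r, p = r + 1 := ⟨p - 1, by have := hp.pos; omega⟩
      rw [hr, Nat.add_sub_cancel]; ring⟩
    refine ⟨E0, inferInstance, MonoidHom.id E0, Function.surjective_id,
      exists_wreath_injective (t := u ^ k * t) (u := u) ?_ (hιp o) ?_ ?_⟩
    · obtain ⟨l, hl⟩ := hk
      rw [hlin, ← hm, ← pow_add, hl, pow_mul, hιp, one_pow]
    · exact hcomm _ ⟨o ^ k, by rw [map_pow]⟩
    · obtain ⟨l, hl⟩ := hk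
      rw [← mul_assoc, ← pow_succ', hlin, ← hm, ← pow_add, show k + 1 + m = k + m + 1 by ring, hl,
        pow_succ, pow_mul, hιp, one_pow, one_mul]
      exact hn1
  · have hzc : Subgroup.zpowers z ≤ Subgroup.center E0 := by
      rw [Subgroup.zpowers_le, Subgroup.mem_center_iff]
      intro w
      obtain ⟨⟨k, hk⟩, rfl⟩ := QuotientGroup.mk'_surjective _ w
      have hle : K0 ≤ Subgroup.map K0.subtype ((Subgroup.centralizer {z}).comap π) := by
        refine sup_le (fun a ha => ⟨⟨a, hOK ha⟩, ?_, rfl⟩)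
          (Subgroup.zpowers_le.mpr ⟨x', ?_, rfl⟩)
        · exact Subgroup.mem_centralizer_singleton_iff.mpr (hιc ⟨a, ha⟩ _).eq
        · refine Subgroup.mem_centralizer_singleton_iff.mpr ?_
          show t * z = z * t
          rw [← hzt, ← pow_succ, ← pow_succ']
      obtain ⟨w', hw', hwe⟩ := hle hk
      obtain rfl : w' = ⟨k, hk⟩ := Subtype.ext hwe
      exact Subgroup.mem_centralizer_singleton_iff.mp hw'
    have : (Subgroup.zpowers z).Normal := ⟨fun a ha g => by
      rw [Subgroup.mem_center_iff.mp (hzc ha) g, mul_inv_cancel_right]; exact ha⟩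
    let ε := QuotientGroup.mk' (Subgroup.zpowers z)
    refine ⟨_, inferInstance, ε, QuotientGroup.mk'_surjective _,
      exists_wreath_injective (t := ε t) (u := ε u) ?_ ?_ ?_ ?_⟩
    · rw [← map_pow, hzt]
      exact (QuotientGroup.eq_one_iff _).mpr (Subgroup.mem_zpowers z)
    · rw [← map_pow, hu, hιp, map_one]
    · intro i j
      have := (hcomm t ⟨1, by rw [map_one, one_mul]⟩ i j).map ε
      simpa only [map_mul, map_pow, map_inv] using this
    · intro h
      rw [← map_mul, ← map_pow] at h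
      have h1 := (QuotientGroup.eq_one_iff _).mp h
      have h2 := hlin 1
      rw [pow_one, pow_one] at h2
      rw [h2, Subgroup.mul_mem_cancel_right _ (Subgroup.mem_zpowers z)] at h1
      refine hzn ?_
      have hz1 : z ≠ 1 := fun h0 => hzn (h0 ▸ Subgroup.one_mem _)
      have hordz := orderOf_eq_prime hzp hz1
      have hordn := orderOf_eq_prime (hιp n) hn1
      have heq : Subgroup.zpowers (ι n) = Subgroup.zpowers z :=
        Subgroup.eq_of_le_of_card_ge (Subgroup.zpowers_le.mpr h1)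
          (by rw [Nat.card_zpowers, Nat.card_zpowers, hordz, hordn])
      exact heq ▸ Subgroup.mem_zpowers z

end Cfsg.Agent.S3787
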