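import Cfsg.Statements.S3788
import Cfsg.Agent.Lib.HallHigmanExponent
import Cfsg.Agent.Lib.HallHigmanTransvection
import Cfsg.Agent.Lib.GlaubermanS4Free
import Cfsg.Agent.Lib.FusionQd

set_option autoImplicit false
open Cfsg

namespace Cfsg.Agent.S3788

open Cfsg.Agent.HallHigman

/-- Let G be a finite p-soluble group, P a Sylow p-subgroup of G and A a cyclic normal subgroup of P. If p is odd, or if no section of G is isomorphic to the symmetric group of degree 4, then A ≤ O_{p',p}(G). -/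
theorem result {G : Type*} [Group G] [Finite G] {p : ℕ} [Fact p.Prime] (hG : Cfsg.IsPSolvable p G) (P : Sylow p G) (A : Subgroup G) (hAP : A ≤ (P : Subgroup G)) (hAn : (P : Subgroup G) ≤ Subgroup.normalizer (A : Set G)) (hA : IsCyclic A) (h : p ≠ 2 ∨ ¬ Cfsg.Involves (Equiv.Perm (Fin 4)) G) : A ≤ Cfsg.pPrimePCore p G := by
  have hp : p.Prime := Fact.out
  have : (Cfsg.pPrimeCore p G).Normal := Cfsg.Agent.HallCore.pPrimeCore_normal p G
  obtain ⟨⟨a₀, ha₀A⟩, hgen⟩ := hA.exists_generator
  have hAeq : A = Subgroup.zpowers a₀ := by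
    refine le_antisymm (fun g hg => ?_) (Subgroup.zpowers_le.mpr ha₀A)
    obtain ⟨k, hk⟩ := Subgroup.mem_zpowers_iff.mp (hgen ⟨g, hg⟩)
    exact Subgroup.mem_zpowers_iff.mpr ⟨k, congrArg Subtype.val hk⟩
  rw [hAeq, Subgroup.zpowers_le]
  let H := G ⧸ Cfsg.pPrimeCore p G
  let q₁ : G →* H := QuotientGroup.mk' _
  set O := Cfsg.pCore p H
  show q₁ a₀ ∈ O
  have hbot : Cfsg.pPrimeCore p H = ⊥ := Cfsg.Agent.HallCore.pPrimeCore_quotient_self p G
  have hGH : Cfsg.IsPSolvable p H := Cfsg.Agent.HallSolvable.isPSolvable_quotient hG _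
  set a := q₁ a₀
  by_contra haO
  set P₁ := P.mapSurjective (QuotientGroup.mk'_surjective (Cfsg.pPrimeCore p G))
  have hOP : O ≤ (P₁ : Subgroup H) := Cfsg.Agent.HallCore.pCore_le_sylow P₁
  have hnorm : ∀ o ∈ O, a * o * a⁻¹ * o⁻¹ ∈ Subgroup.zpowers a ⊓ O := by
    intro o ho
    refine ⟨?_, O.mul_mem ((Cfsg.Agent.HallCore.pCore_normal p H).conj_mem o ho a) (O.inv_mem ho)⟩
    obtain ⟨g, hg, rfl⟩ := hOP ho
    have h1 : g * a₀⁻¹ * g⁻¹ ∈ A :=
      (Subgroup.mem_normalizer_iff.mp (hAn hg) _).mp (A.inv_mem ha₀A)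
    rw [hAeq] at h1
    obtain ⟨k, hk⟩ := Subgroup.mem_zpowers_iff.mp h1
    refine Subgroup.mem_zpowers_iff.mpr ⟨1 + k, ?_⟩
    show q₁ a₀ ^ (1 + k) = q₁ a₀ * q₁ g * (q₁ a₀)⁻¹ * (q₁ g)⁻¹
    rw [← map_zpow, ← map_inv, ← map_inv, ← map_mul, ← map_mul, ← map_mul, zpow_add, zpow_one, hk]
    congr 1
    group
  have hOp : IsPGroup p O := Cfsg.Agent.HallCore.isPGroup_pCore p H
  have hel := (Cfsg.Agent.PGroupsBasic.quotient_frattini_elementary hOp).2
  let _ : CommGroup (↥O ⧸ frattini ↥O) :=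
    { (inferInstance : Group (↥O ⧸ frattini ↥O)) with
      mul_comm := frattini_quotient_comm O hOp }
  obtain ⟨φ, hφ, hφc⟩ := exists_frattini_action hGH hbot
  let π : O →* ↥O ⧸ frattini ↥O := QuotientGroup.mk' _
  let θ : H →* H ⧸ O := QuotientGroup.mk' O
  -- a generator of `⟨a⟩ ∩ O`
  have hcyc : IsCyclic (Subgroup.zpowers a ⊓ O : Subgroup H) :=
    isCyclic_of_injective (Subgroup.inclusion (inf_le_left : _ ≤ Subgroup.zpowers a))
      (Subgroup.inclusion_injective _)
  obtain ⟨⟨b, hba, hbO⟩, hbgen⟩ := hcyc.exists_generator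
  set v₁ := π ⟨b, hbO⟩ with hv₁
  have hact : ∀ (o : O), ∃ k : ℤ, φ (θ a) (π o) = π o * v₁ ^ k := by
    intro o
    obtain ⟨k, hk⟩ := Subgroup.mem_zpowers_iff.mp (hbgen ⟨_, hnorm o o.2⟩)
    refine ⟨k, ?_⟩
    rw [show φ (θ a) (π o) = π (MulAut.conjNormal a o) from hφc a o, hv₁, ← map_zpow, mul_comm,
      ← map_mul]
    congr 1
    refine Subtype.ext ?_
    have h2 : b ^ k = a * (o : H) * a⁻¹ * (o : H)⁻¹ := by simpa using congrArg Subtype.val hk
    show a * (o : H) * a⁻¹ = b ^ k * o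
    rw [h2, inv_mul_cancel_right]
  have hfix1 : φ (θ a) v₁ = v₁ := by
    rw [show φ (θ a) v₁ = π (MulAut.conjNormal a ⟨b, hbO⟩) from hφc a ⟨b, hbO⟩]
    congr 1
    refine Subtype.ext ?_
    obtain ⟨k, rfl⟩ := Subgroup.mem_zpowers_iff.mp hba
    show a * a ^ k * a⁻¹ = a ^ k
    group
  let _ : Module (ZMod p) (Additive (↥O ⧸ frattini ↥O)) :=
    AddCommGroup.zmodModule (n := p) fun v =>
      show v.toMul ^ p = 1 from hel v.toMul
  let ψ₀ : H ⧸ O →* AddMonoid.End (Additive (↥O ⧸ frattini ↥O)) :=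
    { toFun := fun g => MonoidHom.toAdditive (φ g).toMonoidHom
      map_one' := by rw [map_one]; rfl
      map_mul' := fun a b => by rw [map_mul]; rfl }
  let L : H ⧸ O →* Module.End (ZMod p) (Additive (↥O ⧸ frattini ↥O)) :=
    endHom (p := p) ψ₀
  have hLinj : Function.Injective L := fun g h hgh => hφ (MulEquiv.ext fun v =>
    Additive.ofMul.injective (LinearMap.congr_fun hgh (Additive.ofMul v)))
  set va : Additive (↥O ⧸ frattini ↥O) := Additive.ofMul v₁
  have hA1 : ∀ v, ∃ c : ZMod p, L (θ a) v = v + c • va := by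
    intro v
    obtain ⟨o, ho⟩ := QuotientGroup.mk'_surjective _ v.toMul
    obtain ⟨k, hk⟩ := hact o
    refine ⟨k, ?_⟩
    obtain rfl : v = Additive.ofMul (π o) := congrArg Additive.ofMul ho.symm
    rw [Int.cast_smul_eq_zsmul]
    show Additive.ofMul (φ (θ a) (π o)) = _
    rw [hk, ofMul_mul, ofMul_zpow]
  have haθ : θ a ≠ 1 := fun h => haO ((QuotientGroup.eq_one_iff a).mp h)
  have hva : va ≠ 0 := by
    intro h
    refine haθ (hLinj (LinearMap.ext fun v => ?_))
    obtain ⟨c, hc⟩ := hA1 v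
    rw [hc, h, smul_zero, add_zero, map_one]
    rfl
  choose f hfA using hA1
  have hfu : ∀ c c' : ZMod p, c • va = c' • va → c = c' := fun c c' h =>
    smul_left_injective (ZMod p) hva h
  let fl : Additive (↥O ⧸ frattini ↥O) →ₗ[ZMod p] ZMod p :=
    { toFun := f
      map_add' := fun v w => hfu _ _ (by
        have h := hfA (v + w)
        rw [map_add, hfA v, hfA w] at h
        rw [add_smul]
        linear_combination (norm := module) -h)
      map_smul' := fun c v => hfu _ _ (by
        have h := hfA (c • v)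
        rw [map_smul, hfA v] at h
        rw [RingHom.id_apply, smul_eq_mul, mul_smul]
        linear_combination (norm := module) -h) }
  have hflA : ∀ v, L (θ a) v = v + fl v • va := hfA
  have hfl1 : fl va = 0 := hfu _ _ (by
    have h : L (θ a) va = va := congrArg Additive.ofMul hfix1
    rw [hflA, add_eq_left] at h
    rw [h, zero_smul])
  have hap : θ a ^ p = 1 := hLinj (LinearMap.ext fun v => by
    rw [map_pow, transvection_pow hflA hfl1, ZMod.natCast_self, zero_mul, zero_smul, add_zero,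
      map_one]
    rfl)
  have hapO : a ^ p ∈ O := (QuotientGroup.eq_one_iff _).mp ((map_pow θ a p).trans hap)
  by_cases hp2 : p ≠ 2
  · -- `p` odd: the centralizer of `θ a` fixes `va`
    have hbp : ∃ l : ℤ, b = (a ^ p) ^ l := by
      obtain ⟨i, hi⟩ := Subgroup.mem_zpowers_iff.mp hba
      by_cases hdvd : (p : ℤ) ∣ i
      · obtain ⟨l, rfl⟩ := hdvd
        exact ⟨l, by rw [← hi, zpow_mul, zpow_natCast]⟩
      · exfalso
        have hord : orderOf (θ a) = p := orderOf_eq_prime hap haθ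
        refine hdvd ?_
        rw [← hord, orderOf_dvd_iff_zpow_eq_one, ← map_zpow, hi]
        exact (QuotientGroup.eq_one_iff _).mpr hbO
    obtain ⟨l, hbl⟩ := hbp
    have hsum : ∀ v, ∑ k ∈ Finset.range p, (L (θ a) ^ k) v = 0 := by
      intro v
      rw [Finset.sum_congr rfl fun k _ => transvection_pow hflA hfl1 k v, Finset.sum_add_distrib,
        Finset.sum_const, Finset.card_range, ← Nat.cast_smul_eq_nsmul (ZMod p), ZMod.natCast_self,
        zero_smul, zero_add, ← Finset.sum_smul, ← Finset.sum_mul, ← Nat.cast_sum,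
        Finset.sum_range_id]
      have hdvd : p ∣ p * (p - 1) / 2 := by
        obtain ⟨r, hr⟩ := hp.odd_of_ne_two hp2
        exact ⟨r, by rw [hr, Nat.add_sub_cancel, mul_left_comm, Nat.mul_div_cancel_left _ two_pos]⟩
      rw [(ZMod.natCast_eq_zero_iff _ _).mpr hdvd, zero_mul, zero_smul]
    have hcent : ∀ w : H, θ w * θ a = θ a * θ w → L (θ w) va = va := by
      intro w hw
      have ho : w * a * w⁻¹ * a⁻¹ ∈ O := by
        refine (QuotientGroup.eq_one_iff _).mp ?_
        show θ (w * a * w⁻¹ * a⁻¹) = 1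
        rw [map_mul, map_mul, map_mul, map_inv, map_inv, hw, mul_inv_cancel_right, mul_inv_cancel]
      obtain ⟨om, h1, h2⟩ := exists_coe_mul_pow (V := ↥O ⧸ frattini ↥O) O π θ φ hφc a ⟨_, ho⟩ p
      have h3 : π om = 1 := by
        rw [h2]
        apply Additive.ofMul.injective
        rw [ofMul_prod, ofMul_one, ← hsum (Additive.ofMul (π ⟨_, ho⟩))]
        refine Finset.sum_congr rfl fun k _ => ?_
        rw [← map_pow L]
        rfl
      rw [show ((⟨_, ho⟩ : O) : H) * a = w * a * w⁻¹ from inv_mul_cancel_right _ _, conj_pow] at h1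
      have h4 : φ (θ w) (π ⟨a ^ p, hapO⟩) = π ⟨a ^ p, hapO⟩ := by
        rw [show φ (θ w) (π ⟨a ^ p, hapO⟩) = π (MulAut.conjNormal w ⟨a ^ p, hapO⟩) from hφc w _,
          show (MulAut.conjNormal w ⟨a ^ p, hapO⟩ : O) = om * ⟨a ^ p, hapO⟩ from Subtype.ext h1,
          map_mul, h3, one_mul]
      have h5 : v₁ = π ⟨a ^ p, hapO⟩ ^ l := by
        rw [hv₁, ← map_zpow]
        exact congrArg π (Subtype.ext hbl)
      show Additive.ofMul (φ (θ w) v₁) = va
      rw [h5, map_zpow, h4, ← h5]
    -- a conjugate transvection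
    obtain ⟨r, hr, hrp, Q, hQM, -, -, hnc⟩ := exists_moved_subgroup hGH (x := a) (e := 1)
      (by rwa [pow_one]) le_rfl (by simpa using haO)
    rw [Nat.sub_self, pow_zero, pow_one] at hnc
    obtain ⟨u, huQ, hu⟩ := SetLike.not_le_iff_exists.mp hnc
    obtain ⟨w, rfl⟩ := QuotientGroup.mk'_surjective O u
    have hu' : θ w * θ a ≠ θ a * θ w := fun h => hu (Subgroup.mem_centralizer_singleton_iff.mpr h)
    let Lw := L (θ w)
    let Li := L (θ w)⁻¹
    have hB : ∀ v, L (θ w * θ a * (θ w)⁻¹) v = v + fl (Li v) • Lw va := by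
      intro v
      rw [map_mul, map_mul, Module.End.mul_apply, Module.End.mul_apply, hflA, map_add, map_smul,
        ← Module.End.mul_apply, ← map_mul, mul_inv_cancel, map_one]
      rfl
    rcases two_transvections (g := fl.comp Li) hflA hB hfl1 (by
      show fl (Li (Lw va)) = 0
      rw [← Module.End.mul_apply, ← map_mul, inv_mul_cancel, map_one]
      exact hfl1) with hT | ⟨i, j, hs1, hs2⟩
    · -- the quotient is unipotent, hence trivial
      set T := θ w * θ a * (θ w)⁻¹ * (θ a)⁻¹ with hTdef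
      have h3 : (L T - 1) ^ 3 = 0 := by
        rw [hTdef, map_mul]
        exact hT _ (by rw [← map_mul, inv_mul_cancel, map_one])
      have hM : T ∈ Cfsg.pPrimeCore p (H ⧸ O) := by
        have hMn := Cfsg.Agent.HallCore.pPrimeCore_normal p (H ⧸ O)
        rw [hTdef, show θ w * θ a * (θ w)⁻¹ * (θ a)⁻¹ = θ w * (θ a * (θ w)⁻¹ * (θ a)⁻¹) by group]
        exact Subgroup.mul_mem _ (hQM huQ) (hMn.conj_mem _ (Subgroup.inv_mem _ (hQM huQ)) _)
      have hpE : ((p : ℕ) : Module.End (ZMod p) (Additive (↥O ⧸ frattini ↥O))) = 0 := by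
        rw [← map_natCast (algebraMap (ZMod p) _), ZMod.natCast_self, map_zero]
      have hTp : T ^ p ^ 2 = 1 := by
        refine hLinj ?_
        obtain ⟨r, hr⟩ := Commute.exists_add_pow_prime_pow_eq hp (Commute.one_right (L T - 1)) 2
        rw [sub_add_cancel, hpE, zero_mul, zero_mul, zero_mul, add_zero, one_pow] at hr
        have h4 : (L T - 1) ^ p ^ 2 = 0 := pow_eq_zero_of_le (by
          have := Nat.pow_le_pow_left hp.two_le 2; omega) h3
        rw [map_pow, hr, h4, zero_add, map_one]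
      have hT1 : T = 1 := orderOf_eq_one_iff.mp (Nat.eq_one_of_dvd_coprimes
        ((Cfsg.Agent.HallCore.coprime_card_pPrimeCore p (H ⧸ O)).pow_right 2)
        (Subgroup.orderOf_dvd_natCard _ hM) (orderOf_dvd_of_pow_eq_one hTp))
      rw [hTdef, mul_inv_eq_one, mul_inv_eq_iff_eq_mul] at hT1
      exact hu' hT1
    · -- `-1` on the plane
      set s := (θ a ^ i * (θ w * θ a * (θ w)⁻¹) ^ j * θ a ^ i) ^ 2 with hs
      have hLs : L s = (L (θ a) ^ i * L (θ w * θ a * (θ w)⁻¹) ^ j * L (θ a) ^ i) ^ 2 := by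
        simp only [hs, map_pow, map_mul]
      obtain ⟨s', hs'⟩ := QuotientGroup.mk'_surjective O s
      have hsa : θ s' * θ a = θ a * θ s' := by
        rw [show θ s' = s from hs']
        refine hLinj ?_
        rw [map_mul, map_mul, hLs]
        exact hs1.eq
      have h6 := hcent s' hsa
      rw [show θ s' = s from hs', hLs, hs2, neg_eq_iff_add_eq_zero, ← two_smul (ZMod p),
        smul_eq_zero] at h6
      rcases h6 with h6 | h6
      · refine hp2 ((Nat.prime_dvd_prime_iff_eq hp Nat.prime_two).mp ?_)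
        exact (ZMod.natCast_eq_zero_iff 2 p).mp (by exact_mod_cast h6)
      · exact hva h6
  · -- `p = 2`: a section `S₄`
    have hS4 := h.resolve_left hp2
    rw [not_ne_iff] at hp2
    subst hp2
    refine hS4 ?_
    set D : Subgroup H := (frattini ↥O).map O.subtype
    have hDn : D.Normal := inferInstance
    let ψ : H →* H ⧸ D := QuotientGroup.mk' D
    set W := O.map ψ
    have : W.Normal := Subgroup.Normal.map inferInstance ψ (QuotientGroup.mk'_surjective D)
    have hψ : ∀ o o' : O, (o : ↥O ⧸ frattini ↥O) = o' ↔ ψ o = ψ o' := by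
      intro o o'
      rw [QuotientGroup.eq]
      show _ ↔ ((o : H) : H ⧸ D) = ((o' : H) : H ⧸ D)
      rw [QuotientGroup.eq]
      exact ⟨fun h => ⟨_, h, rfl⟩, fun ⟨c, hc, hce⟩ => by
        rwa [show o⁻¹ * o' = c from Subtype.ext hce.symm]⟩
    have hWc : ∀ v ∈ W, ∀ v' ∈ W, v * v' = v' * v := by
      rintro _ ⟨o, ho, rfl⟩ _ ⟨o', ho', rfl⟩
      rw [← map_mul, ← map_mul]
      exact (hψ (⟨o, ho⟩ * ⟨o', ho'⟩) (⟨o', ho'⟩ * ⟨o, ho⟩)).mp (by
        rw [QuotientGroup.mk_mul, QuotientGroup.mk_mul, mul_comm])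
    have hCW : ∀ g : H, ψ g ∈ Subgroup.centralizer (W : Set (H ⧸ D)) → g ∈ O := by
      intro g hg
      have h1 : φ (θ g) = 1 := MulEquiv.ext fun v => by
        obtain ⟨o, rfl⟩ := QuotientGroup.mk'_surjective _ v
        rw [show φ (θ g) (QuotientGroup.mk' _ o) = π (MulAut.conjNormal g o) from hφc g o]
        refine (hψ _ o).mpr ?_
        have h2 := Subgroup.mem_centralizer_iff.mp hg (ψ o) ⟨o, o.2, rfl⟩
        rw [MulAut.conjNormal_apply, map_mul, map_mul, map_inv, ← h2, mul_inv_cancel_right]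
      exact (QuotientGroup.eq_one_iff g).mp (hφ (h1.trans (map_one φ).symm))
    have hWle : W ≤ Subgroup.centralizer (W : Set (H ⧸ D)) := fun v hv =>
      Subgroup.mem_centralizer_iff.mpr fun v' hv' => hWc v' hv' v hv
    have hinv : Cfsg.Involves (Equiv.Perm (Fin 4)) (H ⧸ D) := by
      refine Cfsg.Agent.GlaubermanS4Free.involves_s4_of_transvection W
        ((Cfsg.Agent.HallCore.isPGroup_pCore 2 H).map ψ) hWc ?_ (a := ψ a)
        (fun h => haO (hCW a h)) ?_
      · intro N hN hCN hN2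
        have hle : (N.comap ψ).map θ ≤ Cfsg.pCore 2 (H ⧸ O) := by
          have : ((N.comap ψ).map θ).Normal :=
            Subgroup.Normal.map inferInstance θ (QuotientGroup.mk'_surjective O)
          refine Cfsg.Agent.HallCore.le_pCore ?_
          rintro ⟨_, n, hn, rfl⟩
          obtain ⟨k, hk⟩ := hN2 _ hn
          refine ⟨k, Subtype.ext ?_⟩
          show θ n ^ 2 ^ k = 1
          rw [← map_pow] at hk ⊢
          exact (QuotientGroup.eq_one_iff _).mpr (hCW _ hk)
        rw [Cfsg.Agent.HallCore.pCore_quotient_self] at hle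
        intro y hy
        obtain ⟨n, rfl⟩ := QuotientGroup.mk'_surjective D y
        have h1 : n ∈ O := (QuotientGroup.eq_one_iff n).mp
          (Subgroup.mem_bot.mp (hle ⟨n, hy, rfl⟩))
        exact hWle ⟨n, h1, rfl⟩
      · let δ : W →* W :=
          { toFun := fun v => MulAut.conjNormal (ψ a) v * v⁻¹
            map_one' := by simp
            map_mul' := fun v v' => by
              let _ : CommGroup W :=
                { (inferInstance : Group W) with
                  mul_comm := fun x y => Subtype.ext (hWc _ x.2 _ y.2) }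
              rw [map_mul, mul_inv, mul_mul_mul_comm] }
        have hb : ψ b ∈ W := ⟨b, hbO, rfl⟩
        have hrange : δ.range ≤ Subgroup.zpowers (⟨ψ b, hb⟩ : W) := by
          rintro _ ⟨⟨_, o, ho, rfl⟩, rfl⟩
          obtain ⟨k, hk⟩ := Subgroup.mem_zpowers_iff.mp (hbgen ⟨_, hnorm o ho⟩)
          refine Subgroup.mem_zpowers_iff.mpr ⟨k, Subtype.ext ?_⟩
          have h2 : b ^ k = a * o * a⁻¹ * o⁻¹ := by simpa using congrArg Subtype.val hk
          rw [Subgroup.coe_zpow]
          show ψ b ^ k = _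
          rw [← map_zpow, h2, map_mul, map_mul, map_mul, map_inv, map_inv]
          show _ = ((MulAut.conjNormal (ψ a) _ * _ : W) : H ⧸ D)
          rw [Subgroup.coe_mul, MulAut.conjNormal_apply]
          rfl
        have hb2 : (⟨ψ b, hb⟩ : W) ^ 2 = 1 := Subtype.ext (by
          show ψ b ^ 2 = 1
          rw [← map_pow]
          exact ((hψ (⟨b, hbO⟩ ^ 2) 1).mp (by rw [QuotientGroup.mk_pow, hel]; rfl)).trans (map_one ψ))
        have hcardr : Nat.card δ.range ≤ 2 := (Subgroup.card_le_of_le hrange).trans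
          ((Nat.card_zpowers _).trans_le (Nat.le_of_dvd two_pos (orderOf_dvd_of_pow_eq_one hb2)))
        have hkle : δ.ker.map W.subtype ≤ W ⊓ Subgroup.centralizer {ψ a} := by
          rintro _ ⟨v, hv, rfl⟩
          refine ⟨v.2, Subgroup.mem_centralizer_singleton_iff.mpr ?_⟩
          have h1 := congrArg Subtype.val (mul_inv_eq_one.mp (MonoidHom.mem_ker.mp hv))
          rw [MulAut.conjNormal_apply, mul_inv_eq_iff_eq_mul] at h1
          exact h1.symm
        have hcardk := Subgroup.card_le_of_le hkle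
        rw [Subgroup.card_subtype] at hcardk
        rw [← δ.ker.card_mul_index, Subgroup.index_ker, mul_comm]
        exact Nat.mul_le_mul hcardr hcardk
    exact Cfsg.Agent.FusionQd.involves_of_surjective (f := q₁) (QuotientGroup.mk'_surjective _)
      (Cfsg.Agent.FusionQd.involves_of_surjective (f := ψ) (QuotientGroup.mk'_surjective D) hinv)

end Cfsg.Agent.S3788
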