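import Cfsg.Statements.S3790
import Mathlib
import Cfsg.Agent.Lib.PLengthChain

set_option autoImplicit false
open Cfsg

namespace Cfsg.Agent.S3790


open Cfsg.Agent.HallCore Cfsg.Agent.HallPLength Cfsg.Agent.PLengthChain

universe w

theorem bound_aux (p : ℕ) [Fact p.Prime] : ∀ (r : ℕ) (q : Fin r → ℕ) (l : Fin r → ℕ),
    (∀ i, (q i).Prime ∧ q i ≠ p) → ∀ (G : Type w) [Group G] [Finite G],
    (∀ s : ℕ, s.Prime → s ∣ Nat.card G → s ≠ p → ∃ i, q i = s) →
    (∀ i, Cfsg.PLengthLE (q i) (l i) G) →
    Cfsg.PLengthLE p (Finset.univ.prod fun i => 1 + l i) G := by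
  intro r
  induction r with
  | zero =>
    intro q l _ G _ _ hcover _
    refine pLengthLE_iff.mpr (top_le_iff.mp ?_)
    have hPG : IsPGroup p G := by
      refine isPGroup_iff_piNat.mpr fun s hs hd => ?_
      by_contra hne
      exact (hcover s hs hd hne).elim fun i _ => Fin.elim0 i
    have h2 : (⊤ : Subgroup G) ≤ term p G 2 := by
      refine le_trans ?_ (Cfsg.Agent.PLengthChain.map_subtype_term_le (p := p) ⊤ 2)
      intro x _
      refine ⟨⟨x, trivial⟩, ?_, rfl⟩
      show _ ∈ term p (⊤ : Subgroup G) (1 + 1)
      rw [term_succ]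
      have := step_normal (piOf p 1) (term p (⊤ : Subgroup G) 1)
      refine (le_step_iff (W := (⊤ : Subgroup (⊤ : Subgroup G)))).mpr ?_ trivial
      unfold piOf
      rw [if_neg (by decide)]
      refine (isPGroup_iff_piNat.mp (hPG.to_subgroup ⊤)).of_dvd ?_
      rw [Subgroup.relIndex_top_right]
      exact Subgroup.index_dvd_card _
    simpa using h2.trans (term_le_term (by omega))
  | succ r ih =>
    intro q l hq
    have hP := ih (fun i => q i.succ) (fun i => l i.succ) (fun i => hq i.succ)
    set B := Finset.univ.prod fun i : Fin r => 1 + l i.succ with hB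
    have key : ∀ (k : ℕ) (G : Type w) [Group G] [Finite G],
        (∀ s : ℕ, s.Prime → s ∣ Nat.card G → s ≠ p → ∃ i, q i = s) →
        (∀ i : Fin r, Cfsg.PLengthLE (q i.succ) (l i.succ) G) →
        Cfsg.PLengthLE (q 0) k G → Cfsg.PLengthLE p ((1 + k) * B) G := by
      have : Fact (q 0).Prime := ⟨(hq 0).1⟩
      have hsmall : ∀ (G : Type w) [Group G] [Finite G],
          (∀ s : ℕ, s.Prime → s ∣ Nat.card G → s ≠ p → ∃ i, q i = s) →
          (∀ i : Fin r, Cfsg.PLengthLE (q i.succ) (l i.succ) G) →
          (Nat.card G).Coprime (q 0) → Cfsg.PLengthLE p B G := by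
        intro G _ _ hcover hl h0
        refine hP G (fun s hs hd hne => ?_) hl
        obtain ⟨i, hi⟩ := hcover s hs hd hne
        rcases Fin.eq_zero_or_eq_succ i with rfl | ⟨j, rfl⟩
        · exact absurd hd (hs.coprime_iff_not_dvd.mp (hi ▸ h0.symm))
        · exact ⟨j, hi⟩
      intro k
      induction k with
      | zero =>
        intro G _ _ hcover hl h0
        rw [pLengthLE_zero_iff] at h0
        simpa using hsmall G hcover hl h0
      | succ k ihk =>
        intro G _ _ hcover hl h0
        set N := term (q 0) G 1 with hN
        set T := term (q 0) G 2 with hT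
        have hNn : N.Normal := term_two_normal _ _ _
        have hTn : T.Normal := term_two_normal _ _ _
        have hNcop : (Nat.card N).Coprime (q 0) := by
          have := relIndex_coprime_of_odd (p := q 0) (G := G) 0
          rwa [show term (q 0) G (2 * 0) = ⊥ from Cfsg.Agent.HallConstrained.upperPSeries_zero,
            Subgroup.relIndex_bot_left] at this
        have hNB : Cfsg.PLengthLE p B N := hsmall N
          (fun s hs hd => hcover s hs (hd.trans (Subgroup.card_subgroup_dvd_card N)))
          (fun i => by
            have : Fact (q i.succ).Prime := ⟨(hq i.succ).1⟩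
            exact pLengthLE_subgroup (hl i) N) hNcop
        have hTB : T ≤ term p G (2 * B + 1) := by
          refine le_term_odd_of_coprime (le_term_of_pLengthLE N hNB) ?_
          have h1 := piNat_relIndex_step (piOf (q 0) 1) (term (q 0) G 1)
          rw [← term_succ] at h1
          unfold piOf at h1
          rw [if_neg (by decide)] at h1
          refine Nat.Coprime.symm ((Nat.Prime.coprime_iff_not_dvd Fact.out).mpr fun hd => ?_)
          exact (hq 0).2 (h1 p Fact.out hd).symm
        have hQ := ihk (G ⧸ T)
          (fun s hs hd => hcover s hs (hd.trans (by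
            rw [← Subgroup.index_eq_card]; exact Subgroup.index_dvd_card T)))
          (fun i => by
            have : Fact (q i.succ).Prime := ⟨(hq i.succ).1⟩
            exact pLengthLE_of_surjective (QuotientGroup.mk'_surjective T) (hl i))
          (pLengthLE_succ_iff.mp h0)
        have := pLengthLE_add T hTB hQ
        rwa [show B + (1 + k) * B = (1 + (k + 1)) * B by ring] at this
    intro G _ _ hcover hl
    have := key (l 0) G hcover (fun i => hl i.succ) (hl 0)
    rwa [Fin.prod_univ_succ]

/-- Let G be a finite solvable group and p a prime. Suppose p₁, …, p_r are distinct primes, all different from p, that include every prime dividing the order of G other than p, and that G has p_i-length at most l_i for each i. Then G has p-length at most the product of the numbers 1 + l_i. -/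
theorem result {G : Type*} [Group G] [Finite G] (hG : Group.IsSolvable G) (p : ℕ) [Fact p.Prime] (r : ℕ) (q : Fin r → ℕ) (hq : ∀ i, (q i).Prime ∧ q i ≠ p) (hinj : Function.Injective q) (hcover : ∀ s : ℕ, s.Prime → s ∣ Nat.card G → s ≠ p → ∃ i, q i = s) (l : Fin r → ℕ) (hl : ∀ i, Cfsg.PLengthLE (q i) (l i) G) : Cfsg.PLengthLE p (Finset.univ.prod fun i => 1 + l i) G := by
  exact bound_aux p r q l hq G hcover hl

end Cfsg.Agent.S3790
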