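import Cfsg.Statements.S3791
import Mathlib
import Cfsg.Agent.Lib.HallPLength

set_option autoImplicit false
open Cfsg

namespace Cfsg.Agent.S3791


open Cfsg.Agent.HallCore Cfsg.Agent.HallSolvable Cfsg.Agent.HallPLength

universe w

theorem derived_add_le {G : Type w} [Group G] {T : Subgroup G} {a : ℕ} (h : derivedSeries G a ≤ T)
    (b : ℕ) : derivedSeries G (a + b) ≤ (derivedSeries T b).map T.subtype := by
  induction b with
  | zero => simpa [← MonoidHom.range_eq_map] using h
  | succ b ih =>
    rw [← add_assoc, derivedSeries_succ, derivedSeries_succ, Subgroup.map_commutator]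
    exact Subgroup.commutator_mono ih ih

theorem bound_aux (r : ℕ) (q : Fin r → ℕ) (hq : ∀ i, (q i).Prime) (d : Fin r → ℕ) :
    ∀ (n : ℕ) (l : Fin r → ℕ), Finset.univ.sum l ≤ n → ∀ (G : Type w) [Group G] [Finite G],
    Group.IsSolvable G → (∀ s : ℕ, s.Prime → s ∣ Nat.card G → ∃ i, q i = s) →
    (∀ i, ∀ S : Subgroup G, (haveI := Fact.mk (hq i); ∃ P : Sylow (q i) G, (P : Subgroup G) = S) →
      derivedSeries ↥S (d i) = ⊥) →
    (∀ i, Cfsg.PLengthLE (q i) (l i) G) →
    derivedSeries G (Finset.univ.sum fun i => d i * l i) = ⊥ := by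
  intro n
  induction n using Nat.strong_induction_on with
  | _ n ih =>
  intro l hln G _ _ hsol hcover hd hl
  set s := Finset.univ.sum fun i => d i * l i with hs
  have key : ∀ i, derivedSeries G s ≤ Cfsg.pPrimeCore (q i) G := by
    intro i
    have : Fact (q i).Prime := ⟨hq i⟩
    set R := Cfsg.pPrimeCore (q i) G with hR
    set G1 := G ⧸ R
    set f := QuotientGroup.mk' R with hf
    have hfs : Function.Surjective f := QuotientGroup.mk'_surjective R
    suffices derivedSeries G1 s = ⊥ by
      rw [← map_derivedSeries_eq hfs, Subgroup.map_eq_bot_iff, hf, QuotientGroup.ker_mk'] at this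
      exact this
    rcases subsingleton_or_nontrivial G1 with hsub | hnt
    · exact Subsingleton.elim _ _
    have hl1 : ∀ j, Cfsg.PLengthLE (q j) (l j) G1 := fun j => by
      have : Fact (q j).Prime := ⟨hq j⟩
      exact pLengthLE_of_surjective hfs (hl j)
    have hO : Cfsg.pPrimeCore (q i) G1 = ⊥ := pPrimeCore_quotient_self (q i) G
    set T := Cfsg.pCore (q i) G1 with hT
    have hTne : T ≠ ⊥ := by
      intro h
      have hC := centralizer_pCore_le (isPSolvable_of_solvable (G := G1) (q i)) hO
      rw [← hT, h] at hC
      have h1 : (⊤ : Subgroup G1) ≤ ⊥ := le_trans (fun x _ => by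
        rw [Subgroup.mem_centralizer_iff]
        rintro y hy
        rw [SetLike.mem_coe, Subgroup.mem_bot] at hy
        subst hy; simp) hC
      exact top_ne_bot (le_bot_iff.mp h1)
    have hli : 1 ≤ l i := by
      by_contra h0
      have h1 := hl1 i
      rw [Nat.eq_zero_of_not_pos h0, pLengthLE_zero_iff] at h1
      rw [← pPrimeCore_eq_top_iff, hO] at h1
      exact bot_ne_top h1
    have hT2 : term (q i) G1 2 = T := by
      have h1 : term (q i) G1 1 = ⊥ := by
        rw [← le_bot_iff, ← hO]
        have := term_two_normal (q i) G1 1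
        refine le_pPrimeCore ?_
        have h2 := piNat_relIndex_step (piOf (q i) 0) (term (q i) G1 0)
        rw [← term_succ] at h2
        simp only [show term (q i) G1 0 = ⊥ from Cfsg.Agent.HallConstrained.upperPSeries_zero,
          Subgroup.relIndex_bot_left] at h2
        exact (piNat_compl_singleton_iff (hq i)).mp h2
      have h3 := piNat_relIndex_step (piOf (q i) 1) (term (q i) G1 1)
      rw [← term_succ] at h3
      unfold piOf at h3
      rw [if_neg (by decide)] at h3
      refine le_antisymm ?_ ?_
      · have := term_two_normal (q i) G1 2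
        refine le_pCore (isPGroup_iff_piNat.mpr ?_)
        simpa [h1] using h3
      · rw [show (2 : ℕ) = 1 + 1 from rfl, term_succ, le_step_iff]
        unfold piOf
        rw [if_neg (by decide)]
        exact (isPGroup_iff_piNat.mp (isPGroup_pCore (q i) G1)).of_dvd (Subgroup.relIndex_dvd_card _ _)
    set l' := Function.update l i (l i - 1) with hl'
    have hls : Finset.univ.sum l' < Finset.univ.sum l := by
      refine Finset.sum_lt_sum (fun j _ => ?_) ⟨i, Finset.mem_univ i, ?_⟩
      · by_cases hji : j = i
        · subst hji; simp [hl']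
        · simp [hl', hji]
      · simp [hl']; omega
    have hquot : derivedSeries (G1 ⧸ term (q i) G1 2) (Finset.univ.sum fun j => d j * l' j) = ⊥ := by
      refine ih _ (lt_of_lt_of_le hls hln) l' le_rfl _ inferInstance
        (fun t ht hdvd => hcover t ht (hdvd.trans ?_)) ?_ ?_
      · rw [← Subgroup.index_eq_card]
        refine (Subgroup.index_dvd_card _).trans ?_
        rw [← Subgroup.index_eq_card]
        exact Subgroup.index_dvd_card R
      · intro j S hS
        have : Fact (q j).Prime := ⟨hq j⟩
        obtain ⟨P, rfl⟩ := hS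
        have hcs : Function.Surjective ((QuotientGroup.mk' (term (q i) G1 2)).comp f) :=
          (QuotientGroup.mk'_surjective _).comp hfs
        obtain ⟨P0, rfl⟩ := Sylow.mapSurjective_surjective hcs (q j) P
        rw [Sylow.coe_mapSurjective]
        set g := (QuotientGroup.mk' (term (q i) G1 2)).comp f
        rw [← map_derivedSeries_eq (g.subgroupMap_surjective (P0 : Subgroup G)),
          hd j _ ⟨P0, rfl⟩, Subgroup.map_bot]
      · intro j
        have : Fact (q j).Prime := ⟨hq j⟩
        by_cases hji : j = i
        · subst hji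
          rw [hl', Function.update_self]
          have h1 := hl1 j
          rw [show l j = l j - 1 + 1 by omega] at h1
          exact pLengthLE_succ_iff.mp h1
        · rw [hl', Function.update_of_ne hji]
          exact pLengthLE_of_surjective (QuotientGroup.mk'_surjective _) (hl1 j)
    have hsum : s = (Finset.univ.sum fun j => d j * l' j) + d i := by
      rw [hs, ← Finset.add_sum_erase _ _ (Finset.mem_univ i),
        ← Finset.add_sum_erase _ (fun j => d j * l' j) (Finset.mem_univ i)]
      have : (Finset.univ.erase i).sum (fun j => d j * l' j) =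
          (Finset.univ.erase i).sum (fun j => d j * l j) := Finset.sum_congr rfl fun j hj => by
        rw [hl', Function.update_of_ne (Finset.ne_of_mem_erase hj)]
      rw [this, hl', Function.update_self]
      obtain ⟨m, hm⟩ : ∃ m, l i = m + 1 := ⟨l i - 1, by omega⟩
      rw [hm, Nat.add_sub_cancel]; ring
    have hle : derivedSeries G1 (Finset.univ.sum fun j => d j * l' j) ≤ T := by
      rw [← hT2]
      rw [← map_derivedSeries_eq (QuotientGroup.mk'_surjective _), Subgroup.map_eq_bot_iff,
        QuotientGroup.ker_mk'] at hquot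
      exact hquot
    rw [hsum, ← le_bot_iff]
    refine (derived_add_le hle (d i)).trans ?_
    obtain ⟨P, hP⟩ := (isPGroup_pCore (q i) G1).exists_le_sylow
    obtain ⟨P0, rfl⟩ := Sylow.mapSurjective_surjective hfs (q i) P
    rw [Sylow.coe_mapSurjective] at hP
    have hbot : derivedSeries ((P0 : Subgroup G).map f) (d i) = ⊥ := by
      rw [← map_derivedSeries_eq (f.subgroupMap_surjective (P0 : Subgroup G)), hd i _ ⟨P0, rfl⟩,
        Subgroup.map_bot]
    refine Eq.le ((Subgroup.map_eq_bot_iff_of_injective _ T.subtype_injective).mpr ?_)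
    rw [← le_bot_iff]
    have hm := map_derivedSeries_le_derivedSeries (Subgroup.inclusion hP) (d i)
    rw [hbot, le_bot_iff, Subgroup.map_eq_bot_iff_of_injective _ (Subgroup.inclusion_injective hP)] at hm
    exact hm.le
  rw [Subgroup.eq_bot_iff_forall]
  intro x hx
  rw [← orderOf_eq_one_iff]
  by_contra h1
  obtain ⟨t, ht, htd⟩ := Nat.exists_prime_and_dvd h1
  obtain ⟨i, rfl⟩ := hcover t ht (htd.trans (orderOf_dvd_natCard x))
  have : Fact (q i).Prime := ⟨hq i⟩
  refine (Nat.Prime.coprime_iff_not_dvd (hq i)).mp (coprime_card_pPrimeCore (q i) G).symm (htd.trans ?_)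
  rw [← Subgroup.orderOf_mk x (key i hx)]
  exact orderOf_dvd_natCard _

/-- The Hall–Higman bound on derived length: let G be a finite solvable group, let p₁, …, p_r be distinct primes that include every prime dividing the order of G, and suppose that for each i the Sylow p_i-subgroups of G have derived length at most d_i and G has p_i-length at most l_i. Then G has derived length at most Σ d_i l_i. -/
theorem result {G : Type*} [Group G] [Finite G] (hG : Group.IsSolvable G) (r : ℕ) (q : Fin r → ℕ) (hq : ∀ i, (q i).Prime) (hinj : Function.Injective q) (hcover : ∀ s : ℕ, s.Prime → s ∣ Nat.card G → ∃ i, q i = s) (d l : Fin r → ℕ) (hd : ∀ i, ∀ P : Subgroup G, (haveI := Fact.mk (hq i); ∃ S : Sylow (q i) G, (S : Subgroup G) = P) → derivedSeries ↥P (d i) = ⊥) (hl : ∀ i, Cfsg.PLengthLE (q i) (l i) G) : derivedSeries G (Finset.univ.sum fun i => d i * l i) = ⊥ := by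
  exact bound_aux r q hq d _ l le_rfl G hG hcover hd hl

end Cfsg.Agent.S3791
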