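import Cfsg.Statements.S3792
import Cfsg.Agent.Lib.PowellResidual59
import Cfsg.Agent.Lib.BaerSuzuki
import Cfsg.Agent.Lib.HallCore
import Cfsg.Agent.S3815

set_option autoImplicit false
open Cfsg

namespace Cfsg.Agent.S3792

/-- Powell's Theorem: let G be a finite non-abelian simple group and p an odd prime dividing its order such that every proper subgroup of G is p-soluble. Then G can be generated by three elements. -/
theorem result {G : Type*} [Group G] [Finite G] [IsSimpleGroup G] (hna : ¬ IsMulCommutative G) {p : ℕ} [Fact p.Prime] (hp : p ≠ 2) (hdvd : p ∣ Nat.card G) (hprop : ∀ H : Subgroup G, H ≠ ⊤ → Cfsg.IsPSolvable p ↥H) : ∃ x y z : G, Subgroup.closure ({x, y, z} : Set G) = ⊤ := by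
  classical
  by_contra hcon
  push Not at hcon
  have htwo : ∀ a b g : G, Subgroup.closure ({a, b, g} : Set G) ≠ ⊤ := hcon
  set P : ℕ → Prop := fun j => ∃ H : Subgroup G, H ≠ ⊤ ∧ PowellResidual59.D p j H ≠ ⊥ with hP
  have hbot : ∀ H : Subgroup G, ∃ j, H ≠ ⊤ → PowellResidual59.D p j H = ⊥ := by
    intro H
    by_cases hH : H = ⊤
    · exact ⟨0, fun h => absurd hH h⟩
    obtain ⟨j, hj⟩ := PowellResidual59.exists_D_eq_bot (hprop H hH)
    refine ⟨j, fun _ => ?_⟩
    have h := PowellResidual59.D_map (p := p) H.subtype j ⊤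
    rw [hj, Subgroup.map_bot, ← MonoidHom.range_eq_map, H.range_subtype] at h
    exact h.symm
  choose f hf using hbot
  haveI := Fintype.ofFinite (Subgroup G)
  set B := (Finset.univ : Finset (Subgroup G)).sup f with hB
  have hbig : ∀ j, B ≤ j → ¬ P j := fun j hj ⟨H, hH, hne⟩ => hne (le_bot_iff.mp
    ((PowellResidual59.D_antitone ((Finset.le_sup (Finset.mem_univ H)).trans hj) H).trans
      (hf H hH).le))
  have hP0 : P 0 := by
    obtain ⟨x, hx⟩ := exists_prime_orderOf_dvd_card' p hdvd
    refine ⟨_, htwo x x x, fun h => ?_⟩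
    rw [PowellResidual59.D_zero, Subgroup.closure_eq_bot_iff] at h
    have hx1 : x = 1 := h (Set.mem_insert _ _)
    rw [hx1, orderOf_one] at hx
    exact (Fact.out : p.Prime).ne_one hx.symm
  set k := Nat.findGreatest P B with hk
  obtain ⟨H₀, hH₀, hne₀⟩ : P k := Nat.findGreatest_spec (Nat.zero_le B) hP0
  have hnext : ¬ P (k + 1) := by
    by_cases h : k + 1 ≤ B
    · exact Nat.findGreatest_is_greatest (Nat.lt_succ_self k) h
    · exact hbig _ (by omega)
  have hT : ∀ H : Subgroup G, H ≠ ⊤ →
      PowellResidual59.IsT p (k + 1) (PowellResidual59.D p k H) := fun H hH =>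
    PowellResidual59.isT_of_D_succ_eq_bot (not_not.mp fun h => hnext ⟨H, hH, h⟩)
  have hne' : PowellResidual59.D p k (⊤ : Subgroup H₀) ≠ ⊥ := by
    intro h
    refine hne₀ ?_
    have h' := PowellResidual59.D_map (p := p) H₀.subtype k ⊤
    rw [h, Subgroup.map_bot, ← MonoidHom.range_eq_map, H₀.range_subtype] at h'
    exact h'.symm
  obtain ⟨a, b, hab⟩ :=
    PowellResidual59.exists_two_generated (Nat.card H₀) H₀ le_rfl (hprop H₀ hH₀) k hne'
  obtain ⟨d₀, hd₀, hd1⟩ : ∃ d ∈ PowellResidual59.D p k (Subgroup.closure {a, b}), d ≠ 1 := by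
    by_contra h
    push Not at h
    exact hab ((Subgroup.eq_bot_iff_forall _).mpr h)
  have hdne : (d₀ : G) ≠ 1 := fun h => hd1 (Subtype.ext h)
  have hdH : ∀ g : G, (d₀ : G) ∈ PowellResidual59.D p k
      (Subgroup.closure {(a : G), (b : G), g}) := by
    intro g
    have h1 := Subgroup.mem_map_of_mem H₀.subtype hd₀
    rw [PowellResidual59.D_map, PowellResidual59.closure_pair_map] at h1
    refine PowellResidual59.D_mono k (Subgroup.closure_mono ?_) h1
    rintro y (rfl | rfl) <;> simp
  have hsimple : ∀ N : Subgroup G, N.Normal → (d₀ : G) ∈ N → N = ⊤ := fun N hN hd =>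
    hN.eq_bot_or_eq_top.resolve_left fun h => hdne (Subgroup.mem_bot.mp (h ▸ hd))
  by_cases hke : Even k
  · -- the last term is a `p'`-group
    have hco : ∀ g : G, ∀ y ∈ PowellResidual59.D p k (Subgroup.closure {(a : G), (b : G), g}),
        (orderOf y).Coprime p := by
      intro g y hy
      have h := hT _ (htwo _ _ g) y hy
      rw [PowellResidual59.Typ, if_neg (by simp [Nat.even_add_one, hke])] at h
      exact ((Fact.out : p.Prime).coprime_iff_not_dvd.mpr h).symm
    have hmem : (d₀ : G) ∈ Cfsg.pPrimeCore p G := by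
      refine Cfsg.Agent.S3815.result _ (hco 1 _ (hdH 1)) fun g hg => ?_
      set H := Subgroup.closure {(a : G), (b : G), g} with hH
      set M := (PowellResidual59.D p k H).subgroupOf H with hM
      haveI : M.Normal := (Subgroup.normal_subgroupOf_iff_le_normalizer
        (PowellResidual59.D_le k H)).mpr (PowellResidual59.le_normalizer_D k H)
      have hgH : g ∈ H := Subgroup.subset_closure (by simp)
      have hdg : (d₀ : G) * g ∈ H := mul_mem (PowellResidual59.D_le k H (hdH g)) hgH
      have h1 : ((⟨_, hdg⟩ : H) : H ⧸ M) ^ orderOf g = 1 := by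
        have h2 : ((⟨_, hdg⟩ : H) : H ⧸ M) = ((⟨g, hgH⟩ : H) : H ⧸ M) := by
          rw [show (⟨_, hdg⟩ : H) = ⟨d₀, PowellResidual59.D_le k H (hdH g)⟩ * ⟨g, hgH⟩ from rfl,
            QuotientGroup.mk_mul, (QuotientGroup.eq_one_iff _).mpr (show _ ∈ M from hdH g), one_mul]
        rw [h2, ← QuotientGroup.mk_pow, show (⟨g, hgH⟩ : H) ^ orderOf g = 1 from
          Subtype.ext (pow_orderOf_eq_one g)]
        rfl
      rw [← QuotientGroup.mk_pow, QuotientGroup.eq_one_iff] at h1
      have h3 : (orderOf (((d₀ : G) * g) ^ orderOf g)).Coprime p := hco g _ h1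
      refine Nat.Coprime.coprime_dvd_left (orderOf_dvd_of_pow_eq_one ?_) (hg.mul_left h3)
      rw [pow_mul, pow_orderOf_eq_one]
    have htop := hsimple _ (Cfsg.Agent.HallCore.pPrimeCore_normal p G) hmem
    have h4 := Cfsg.Agent.HallCore.coprime_card_pPrimeCore p G
    rw [htop, Subgroup.card_top] at h4
    exact (Fact.out : p.Prime).coprime_iff_not_dvd.mp h4.symm hdvd
  · -- the last term is a `p`-group
    have hpg : ∀ g : G,
        IsPGroup p (PowellResidual59.D p k (Subgroup.closure {(a : G), (b : G), g})) := fun g =>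
      PowellResidual59.isPGroup_of_isT (by simp [Nat.even_add_one, hke]) (hT _ (htwo _ _ g))
    have hX : IsPGroup p (Subgroup.zpowers (d₀ : G)) :=
      (hpg 1).to_le (Subgroup.zpowers_le.mpr (hdH 1))
    obtain ⟨N, hN, hNp, hle⟩ := Cfsg.Agent.BaerSuzuki.exists_normal_pGroup_of_pairs
      (Subgroup.zpowers (d₀ : G)) hX fun g => by
        refine (hpg g).to_le (sup_le (Subgroup.zpowers_le.mpr (hdH g)) ?_)
        rw [MonoidHom.map_zpowers, Subgroup.zpowers_le]
        exact (Subgroup.mem_normalizer_iff.mp (PowellResidual59.le_normalizer_D k _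
          (Subgroup.subset_closure (by simp : g ∈ ({(a : G), (b : G), g} : Set G)))) _).mp (hdH g)
    have htop := hsimple N hN (hle (Subgroup.mem_zpowers _))
    have hGp : IsPGroup p G := by
      intro x
      obtain ⟨e, he⟩ := hNp ⟨x, htop ▸ Subgroup.mem_top x⟩
      exact ⟨e, congrArg Subtype.val he⟩
    haveI : Nontrivial G := ⟨⟨d₀, 1, hdne⟩⟩
    have hcen : Subgroup.center G = ⊤ :=
      (inferInstance : (Subgroup.center G).Normal).eq_bot_or_eq_top.resolve_left
        ((Subgroup.nontrivial_iff_ne_bot _).mp hGp.center_nontrivial)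
    exact hna ⟨⟨fun x y => (Subgroup.mem_center_iff.mp (hcen ▸ Subgroup.mem_top y) x)⟩⟩

end Cfsg.Agent.S3792
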