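import Cfsg.Statements.S3794
import Mathlib
import Cfsg.Agent.Lib.HallSolvable

set_option autoImplicit false
open Cfsg

namespace Cfsg.Agent.S3794


open Cfsg.Agent.HallCore Cfsg.Agent.HallSolvable
open scoped commutatorElement

universe w

section Abstract

variable {N : Type w} [CommGroup N] [Finite N]

theorem mulAut_conj_apply (s a : MulAut N) (v : N) : (s * a * s⁻¹) (s v) = s (a v) := by
  simp [MulAut.mul_apply]

/-- The key lemma: `s` of order dividing 4 acting so that `1 + (as) + (as)² + (as)³ = 0` for all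
`a` in a nilpotent group `Q` of odd order prime to `|N|`, fixed-point-freely on `Q`; then `s²`
centralizes `Q`. -/
theorem key (s : MulAut N) (hs : s ^ 4 = 1) (hrel0 : ∀ v : N, v * s v * s (s v) * s (s (s v)) = 1) :
    ∀ Q : Subgroup (MulAut N), Group.IsNilpotent Q → Odd (Nat.card Q) →
      (Nat.card Q).Coprime (Nat.card N) → (∀ a ∈ Q, s * a * s⁻¹ ∈ Q) →
      (∀ a ∈ Q, s * a * s⁻¹ = a → a = 1) →
      (∀ a ∈ Q, ∀ v : N, v * a (s v) * a (s (a (s v))) * a (s (a (s (a (s v))))) = 1) →
      ∀ a ∈ Q, s * s * a * (s * s)⁻¹ = a := by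
  intro Q
  induction Q using WellFoundedLT.induction with
  | ind Q ih =>
  intro hnil hodd hcop hQs hfp hrel
  set t := s * s with ht
  have htq : ∀ a ∈ Q, t * a * t⁻¹ ∈ Q := by
    intro a ha
    have h1 := hQs _ (hQs a ha)
    rwa [show s * (s * a * s⁻¹) * s⁻¹ = t * a * t⁻¹ by rw [ht]; group] at h1
  have htt : ∀ a : MulAut N, t * (t * a * t⁻¹) * t⁻¹ = a := by
    intro a
    have h4 : t * t = 1 := by rw [ht, ← hs]; simp [pow_succ, mul_assoc]
    have h5 : t⁻¹ = t := inv_eq_of_mul_eq_one_right h4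
    rw [h5, show t * (t * a * t) * t = (t * t) * a * (t * t) by group, h4, one_mul, mul_one]
  have hsq : ∀ a ∈ Q, a * a = 1 → a = 1 := by
    intro a ha h
    have h1 : orderOf a ∣ 2 := orderOf_dvd_of_pow_eq_one (by rw [pow_two, h])
    have h2 : Odd (orderOf a) := by
      rw [← Subgroup.orderOf_mk a ha]
      exact hodd.of_dvd_nat (orderOf_dvd_natCard _)
    rcases (Nat.dvd_prime Nat.prime_two).mp h1 with h3 | h3
    · exact orderOf_eq_one_iff.mp h3
    · rw [h3] at h2; exact absurd h2 (by decide)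
  -- reduce to Q = [Q, t]
  set S : Set (MulAut N) := {c | ∃ a ∈ Q, c = a⁻¹ * (t * a * t⁻¹)} with hS
  have hSQ : Subgroup.closure S ≤ Q := by
    rw [Subgroup.closure_le]
    rintro c ⟨a, ha, rfl⟩
    exact mul_mem (inv_mem ha) (htq a ha)
  rcases lt_or_eq_of_le hSQ with hlt | hgen
  · have hSs : ∀ c ∈ Subgroup.closure S, s * c * s⁻¹ ∈ Subgroup.closure S := by
      have : Subgroup.closure S ≤ (Subgroup.closure S).comap (MulAut.conj s).toMonoidHom := by
        rw [Subgroup.closure_le]
        rintro c ⟨a, ha, rfl⟩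
        refine Subgroup.subset_closure ⟨s * a * s⁻¹, hQs a ha, ?_⟩
        simp only [MulEquiv.coe_toMonoidHom, MulAut.conj_apply, ht]
        group
      intro c hc
      simpa using this hc
    have hdvd := Subgroup.card_dvd_of_le hlt.le
    have hIH := ih _ hlt (Group.nilpotent_of_mulEquiv (Subgroup.subgroupOfEquivOfLe hlt.le))
      (hodd.of_dvd_nat hdvd) (hcop.coprime_dvd_left hdvd) hSs
      (fun a ha => hfp a (hlt.le ha)) (fun a ha => hrel a (hlt.le ha))
    intro a ha
    have h1 := hIH _ (Subgroup.subset_closure ⟨a, ha, rfl⟩)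
    have h2 : t * (a⁻¹ * (t * a * t⁻¹)) * t⁻¹ = (t * a * t⁻¹)⁻¹ * (t * (t * a * t⁻¹) * t⁻¹) := by
      group
    rw [h2, htt a] at h1
    have h3 := hsq (a⁻¹ * (t * a * t⁻¹)) (mul_mem (inv_mem ha) (htq a ha)) (by
      conv_lhs => arg 2; rw [← h1]
      group)
    rwa [inv_mul_eq_one, eq_comm] at h3
  -- now Q = [Q, t]
  by_cases hQ : Q = ⊥
  · intro a ha
    rw [hQ, Subgroup.mem_bot] at ha
    subst ha; simp
  exfalso
  apply hQ
  have hcopz : ∀ a ∈ Q, (orderOf a).Coprime (Nat.card N) := by
    intro a ha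
    refine hcop.coprime_dvd_left ?_
    rw [← Subgroup.orderOf_mk a ha]
    exact orderOf_dvd_natCard _
  set Z := Q ⊓ Subgroup.centralizer (Q : Set (MulAut N)) with hZ
  have hZs : ∀ a ∈ Z, s * a * s⁻¹ ∈ Z := by
    intro a ha
    refine ⟨hQs a ha.1, Subgroup.mem_centralizer_iff.mpr fun b hb => ?_⟩
    have hb' : s⁻¹ * b * s ∈ Q := by
      have h1 := hQs _ (hQs _ (hQs b hb))
      have h2 : s * s * s = s⁻¹ := by
        apply eq_inv_of_mul_eq_one_left
        rw [← hs]; simp [pow_succ, mul_assoc]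
      rw [show s * (s * (s * b * s⁻¹) * s⁻¹) * s⁻¹ = (s * s * s) * b * (s * s * s)⁻¹ by group,
        h2, inv_inv] at h1
      exact h1
    have h := Subgroup.mem_centralizer_iff.mp ha.2 _ hb'
    calc b * (s * a * s⁻¹) = s * ((s⁻¹ * b * s) * a) * s⁻¹ := by group
      _ = s * a * s⁻¹ * b := by rw [h]; group
  have hcomm : ∀ a ∈ Z, ∀ b ∈ Q, b * a = a * b := fun a ha b hb =>
    Subgroup.mem_centralizer_iff.mp ha.2 b hb
  have hinv : ∀ z ∈ Z, t * z * t⁻¹ = z → z = 1 := by
    intro z hz hzt
    -- then s inverts z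
    have hsz : s * z * s⁻¹ = z⁻¹ := by
      have hmem := mul_mem (hQs z hz.1) hz.1
      have h1 : s * z * s⁻¹ * z = 1 := by
        refine hfp _ hmem ?_
        calc s * (s * z * s⁻¹ * z) * s⁻¹ = (t * z * t⁻¹) * (s * z * s⁻¹) := by rw [ht]; group
          _ = s * z * s⁻¹ * z := by
            rw [hzt]
            exact (hcomm z hz _ (hQs z hz.1)).symm
      exact eq_inv_of_mul_eq_one_left h1
    have hzs : ∀ v : N, s (z v) = z⁻¹ (s v) := by
      intro v
      rw [← mulAut_conj_apply s z v, hsz]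
    have hzfix : ∀ v : N, z (v * s (s v)) = v * s (s v) := by
      intro v
      -- apply the relation at w with s w = v
      have h1 := hrel z hz.1 (s⁻¹ v)
      have h2 := hrel0 (s⁻¹ v)
      rw [MulAut.apply_inv_self] at h1 h2
      have hzs' : ∀ u : N, z (s (z u)) = s u := by
        intro u
        rw [hzs]
        exact MulAut.apply_inv_self N z _
      simp only [hzs'] at h1
      simp only [map_mul]
      have h4 : s⁻¹ v * z v * s v * z (s (s v)) = s⁻¹ v * v * s v * s (s v) := h1.trans h2.symm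
      have h5 : z v * z (s (s v)) * (s⁻¹ v * s v) = v * s (s v) * (s⁻¹ v * s v) := by
        calc z v * z (s (s v)) * (s⁻¹ v * s v) = s⁻¹ v * z v * s v * z (s (s v)) := by
              ac_rfl
          _ = s⁻¹ v * v * s v * s (s v) := h4
          _ = v * s (s v) * (s⁻¹ v * s v) := by ac_rfl
      exact mul_right_cancel h5
    have hzt' : ∀ v : N, s (s (z v)) = z (s (s v)) := by
      intro v
      have h1 := congrArg (fun f : MulAut N => f (t v)) hzt
      simpa [ht, MulAut.mul_apply] using h1
    -- W = the set of v / z v, inverted by t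
    have hW : ∀ v : N, s (s (v / z v)) = (v / z v)⁻¹ := by
      intro v
      apply eq_inv_of_mul_eq_one_left
      rw [map_div, map_div, hzt']
      have := hzfix v
      rw [map_mul] at this
      calc s (s v) / z (s (s v)) * (v / z v) = (v * s (s v)) / (z v * z (s (s v))) := by
            rw [div_mul_div_comm, mul_comm (s (s v)) v, mul_comm (z (s (s v))) (z v)]
        _ = 1 := by rw [this, div_self']
    have hfixW : Q ≤ { carrier := {a : MulAut N | ∀ v : N, a (v / z v) = v / z v}
                       one_mem' := by intro v; rfl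
                       mul_mem' := by
                        intro a b ha hb v
                        rw [MulAut.mul_apply, hb v, ha v]
                       inv_mem' := by
                        intro a ha v
                        conv_lhs => rw [← ha v]
                        exact MulAut.inv_apply_self N a _ } := by
      conv_lhs => rw [← hgen]
      rw [Subgroup.closure_le]
      rintro _ ⟨a, ha, rfl⟩ v
      have haz : a * z = z * a := hcomm z hz a ha
      have ha1 : a (v / z v) = a v / z (a v) := by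
        rw [map_div]
        congr 1
        exact congrArg (fun f : MulAut N => f v) haz
      have e2 : ∀ w : N, t⁻¹ (w / z w) = (w / z w)⁻¹ := by
        intro w
        have h1 := hW w
        have h2 : t⁻¹ (t (w / z w)) = w / z w := MulAut.inv_apply_self N t _
        rw [show t (w / z w) = (w / z w)⁻¹ from h1, map_inv] at h2
        exact inv_eq_iff_eq_inv.mp h2
      simp only [MulAut.mul_apply]
      rw [e2 v, map_inv, ha1, map_inv, show t (a v / z (a v)) = (a v / z (a v))⁻¹ from hW (a v),
        inv_inv, ← ha1]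
      exact MulAut.inv_apply_self N a _
    have hzz : ∀ v : N, z (v / z v) = v / z v := fun v => hfixW hz.1 v
    have hz1 : z = 1 := by
      ext v
      have hn : ∀ n : ℕ, (z ^ n) v * (v / z v) ^ n = v := by
        intro n
        induction n with
        | zero => simp
        | succ n ihn =>
          calc (z ^ (n + 1)) v * (v / z v) ^ (n + 1)
              = z ((z ^ n) v * (v / z v) ^ n) * (v / z v) := by
                rw [map_mul, map_pow, hzz, pow_succ' z, MulAut.mul_apply, pow_succ, mul_assoc]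
            _ = v := by rw [ihn, mul_div_cancel]
      have h1 := hn (orderOf z)
      rw [pow_orderOf_eq_one, MulAut.one_apply, mul_eq_left] at h1
      have h2 : (v / z v) ^ Nat.gcd (orderOf z) (Nat.card N) = 1 :=
        pow_gcd_eq_one.mpr ⟨h1, pow_card_eq_one'⟩
      rw [(hcopz z hz.1).gcd_eq_one, pow_one, div_eq_one] at h2
      exact h2.symm
    exact hz1
  -- averaging over Z
  have hZbot : Z = ⊥ := by
    have : Fintype Z := Fintype.ofFinite Z
    have hZc : ∀ a b : Z, a * b = b * a := fun a b => Subtype.ext (hcomm b b.2 a a.2.1)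
    let σz : Z → Z := fun a => ⟨s * a * s⁻¹, hZs a a.2⟩
    let μ : Z → Z := fun a => a * σz a
    have hσz : Function.Bijective σz := by
      refine Finite.injective_iff_bijective.mp fun a b h => ?_
      have := congrArg Subtype.val h
      exact Subtype.ext (mul_left_cancel (mul_right_cancel this))
    have hμ : Function.Bijective μ := by
      refine Finite.injective_iff_bijective.mp fun a b h => ?_
      have hc : (a : MulAut N) * (b : MulAut N)⁻¹ = 1 := by
        set c : Z := a * b⁻¹ with hc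
        have h1 : c * σz c = 1 := by
          have hσmul : σz c = σz a * (σz b)⁻¹ := by
            apply Subtype.ext
            show s * ((a : MulAut N) * (b : MulAut N)⁻¹) * s⁻¹ = (s * a * s⁻¹) * (s * b * s⁻¹)⁻¹
            group
          rw [hσmul, hc, mul_assoc, ← mul_assoc b⁻¹, hZc b⁻¹ (σz a), mul_assoc (σz a),
            ← mul_assoc, show a * σz a = b * σz b from h, mul_assoc, ← mul_assoc (σz b),
            hZc (σz b) b⁻¹, mul_assoc b⁻¹, mul_inv_cancel, mul_one, mul_inv_cancel]
        have h2 : s * (c : MulAut N) * s⁻¹ = (c : MulAut N)⁻¹ :=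
          eq_inv_of_mul_eq_one_right (congrArg Subtype.val h1)
        refine hinv c c.2 ?_
        calc t * (c : MulAut N) * t⁻¹ = s * (s * c * s⁻¹) * s⁻¹ := by rw [ht]; group
          _ = (s * c * s⁻¹)⁻¹ := by conv_lhs => rw [h2]
                                    group
          _ = c := by rw [h2, inv_inv]
      exact Subtype.ext (mul_inv_eq_one.mp hc)
    let E : N → N := fun w => ∏ a : Z, (a : MulAut N) w
    have hEmul : ∀ u w : N, E (u * w) = E u * E w := by
      intro u w
      simp only [E, map_mul, Finset.prod_mul_distrib]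
    have hEfix : ∀ (b : Z) (w : N), (b : MulAut N) (E w) = E w := by
      intro b w
      simp only [E, map_prod]
      exact Fintype.prod_equiv (Equiv.mulLeft b) _ _ (fun a => rfl)
    have hpow : ∀ v : N, v ^ Nat.card Z = E v := by
      intro v
      have hprod : ∏ a : Z, (v * (a : MulAut N) (s v) * (a : MulAut N) (s ((a : MulAut N) (s v))) *
          (a : MulAut N) (s ((a : MulAut N) (s ((a : MulAut N) (s v)))))) = 1 :=
        Finset.prod_eq_one fun a _ => hrel a a.2.1 v
      have e2 : ∀ (a : Z) (w : N), (a : MulAut N) (s ((a : MulAut N) w)) = (μ a : MulAut N) (s w) := by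
        intro a w
        show _ = ((a : MulAut N) * (s * a * s⁻¹)) (s w)
        simp [MulAut.mul_apply]
      have e3 : ∀ (a : Z) (w : N), (a : MulAut N) (s ((a : MulAut N) (s ((a : MulAut N) w)))) =
          (σz a : MulAut N) (s (s w)) := by
        intro a w
        rw [e2]
        show (μ a : MulAut N) (s (s (a.1 w))) = (σz a : MulAut N) (s (s w))
        have htinv : t * (a : MulAut N) * t⁻¹ = (a : MulAut N)⁻¹ := by
          apply eq_inv_of_mul_eq_one_left
          refine hinv _ (mul_mem ?_ a.2) ?_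
          · have h1 := hZs _ (hZs a a.2)
            rwa [show s * (s * (a : MulAut N) * s⁻¹) * s⁻¹ = t * a * t⁻¹ by rw [ht]; group] at h1
          · calc t * (t * ↑a * t⁻¹ * ↑a) * t⁻¹ = t * (t * a * t⁻¹) * t⁻¹ * (t * a * t⁻¹) := by group
              _ = a * (t * a * t⁻¹) := by rw [htt]
              _ = t * a * t⁻¹ * a := (hcomm a a.2 _ (htq a a.2.1)).symm
        have hh : s (s (a.1 w)) = (a : MulAut N)⁻¹ (s (s w)) := by
          rw [← htinv]; simp [ht, MulAut.mul_apply]
        rw [hh, ← MulAut.mul_apply]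
        congr 1
        show ((a : MulAut N) * (s * a * s⁻¹)) * (a : MulAut N)⁻¹ = s * a * s⁻¹
        rw [← hcomm _ (hZs a a.2) a a.2.1 |>.symm, mul_inv_cancel_right]
      simp only [e3] at hprod
      simp only [e2, Finset.prod_mul_distrib, Finset.prod_const, Finset.card_univ] at hprod
      rw [Fintype.prod_bijective μ hμ (fun a => (μ a : MulAut N) (s (s v)))
          (fun a => (a : MulAut N) (s (s v))) (fun a => rfl),
        Fintype.prod_bijective σz hσz (fun a => (σz a : MulAut N) (s (s (s v))))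
          (fun a => (a : MulAut N) (s (s (s v)))) (fun a => rfl), ← Nat.card_eq_fintype_card] at hprod
      change v ^ Nat.card Z * E (s v) * E (s (s v)) * E (s (s (s v))) = 1 at hprod
      rw [mul_assoc, mul_assoc, ← hEmul, ← hEmul] at hprod
      have h0 : s v * (s (s v) * s (s (s v))) = v⁻¹ := by
        apply eq_inv_of_mul_eq_one_right
        simpa [mul_assoc] using hrel0 v
      rw [h0] at hprod
      have h1 : E v⁻¹ = (E v)⁻¹ := by simp [E]
      rwa [h1, mul_inv_eq_one] at hprod
    rw [Subgroup.eq_bot_iff_forall]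
    intro a ha
    ext v
    have h1 : (a v) ^ Nat.card Z = v ^ Nat.card Z := by
      rw [← map_pow, hpow]
      exact hEfix ⟨a, ha⟩ v
    have hc : (Nat.card N).Coprime (Nat.card Z) :=
      (hcop.coprime_dvd_left (Subgroup.card_dvd_of_le inf_le_left)).symm
    exact (powCoprime hc).injective h1
  have h1 : Subgroup.center Q = ⊥ := by
    rw [Subgroup.eq_bot_iff_forall]
    intro a ha
    have : (a : MulAut N) ∈ Z := ⟨a.2, Subgroup.mem_centralizer_iff.mpr fun b hb =>
      congrArg Subtype.val (Subgroup.mem_center_iff.mp ha ⟨b, hb⟩)⟩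
    rw [hZbot, Subgroup.mem_bot] at this
    exact Subtype.ext this
  by_contra hne
  have : Nontrivial Q := (Subgroup.nontrivial_iff_ne_bot Q).mpr hne
  exact (Group.IsNilpotent.center_ne_bot (G := Q)) h1

end Abstract

variable {G : Type w} [Group G]

/-- `[G, σ²]`. -/
def commSub (σ : MulAut G) : Subgroup G := Subgroup.closure {x | ∃ g : G, x = g⁻¹ * σ (σ g)}

theorem surj_comm [Finite G] {σ : MulAut G} (hfpf : ∀ g : G, σ g = g → g = 1) (x : G) :
    ∃ g : G, x = g⁻¹ * σ g := by
  have hinj : Function.Injective fun g : G => g⁻¹ * σ g := by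
    intro a b h
    have h1 : σ (a * b⁻¹) = a * b⁻¹ := by
      have h' : a⁻¹ * σ a = b⁻¹ * σ b := h
      have h2 : a * (a⁻¹ * σ a) = a * (b⁻¹ * σ b) := by rw [h']
      rw [mul_inv_cancel_left] at h2
      rw [map_mul, map_inv, h2]
      group
    exact mul_inv_eq_one.mp (hfpf _ h1)
  obtain ⟨g, hg⟩ := Finite.surjective_of_injective hinj x
  exact ⟨g, hg.symm⟩

theorem mem_of_fixed_coset [Finite G] {σ : MulAut G} (hfpf : ∀ g : G, σ g = g → g = 1)
    {L : Subgroup G} (hL : ∀ x ∈ L, σ x ∈ L) {x : G} (hx : x⁻¹ * σ x ∈ L) : x ∈ L := by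
  have hinj : Function.Injective fun m : L => (⟨(m : G)⁻¹ * σ m, mul_mem (inv_mem m.2) (hL m m.2)⟩ : L) := by
    intro a b h
    have h' : (a : G)⁻¹ * σ a = (b : G)⁻¹ * σ b := congrArg Subtype.val h
    have h1 : σ ((a : G) * (b : G)⁻¹) = (a : G) * (b : G)⁻¹ := by
      have h2 : (a : G) * ((a : G)⁻¹ * σ a) = a * ((b : G)⁻¹ * σ b) := by rw [h']
      rw [mul_inv_cancel_left] at h2
      rw [map_mul, map_inv, h2]
      group
    exact Subtype.ext (mul_inv_eq_one.mp (hfpf _ h1))
  obtain ⟨m, hm⟩ := Finite.surjective_of_injective hinj ⟨_, hx⟩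
  have hm' : (m : G)⁻¹ * σ m = x⁻¹ * σ x := congrArg Subtype.val hm
  have h1 : σ (x * (m : G)⁻¹) = x * (m : G)⁻¹ := by
    have h2 : σ x = x * ((m : G)⁻¹ * σ m) := by rw [hm', mul_inv_cancel_left]
    rw [map_mul, map_inv, h2]
    group
  rw [mul_inv_eq_one.mp (hfpf _ h1)]
  exact m.2

theorem inverts [Finite G] {σ : MulAut G} (hfpf : ∀ g : G, σ g = g → g = 1)
    (h : ∀ g : G, σ (σ g) = g) (x : G) : σ x = x⁻¹ := by
  obtain ⟨g, rfl⟩ := surj_comm hfpf x
  rw [map_mul, map_inv, h]
  group

theorem odd_card [Finite G] {σ : MulAut G} (hσ : σ ^ 4 = 1) (hfpf : ∀ g : G, σ g = g → g = 1) :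
    Odd (Nat.card G) := by
  classical
  by_contra h
  rw [Nat.not_odd_iff_even, even_iff_two_dvd] at h
  have : Fintype G := Fintype.ofFinite G
  have : Fact (Nat.Prime 2) := ⟨Nat.prime_two⟩
  have hσp : (σ : MulAut G).toEquiv ^ 2 ^ 2 = 1 := by
    ext g
    have := congrArg (fun f : MulAut G => f g) hσ
    simpa [pow_succ, MulAut.mul_apply, Equiv.Perm.mul_apply] using this
  obtain ⟨b, hb, hb1⟩ := Equiv.Perm.exists_fixed_point_of_prime' (p := 2) (n := 2)
    (by rwa [← Nat.card_eq_fintype_card]) hσp (a := (1 : G)) (map_one σ)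
  exact hb1 (hfpf b hb)

theorem commutator_le [Finite G] {σ : MulAut G} (hfpf : ∀ g : G, σ g = g → g = 1)
    (hσ : σ ^ 4 = 1) : (commSub σ).Normal ∧ commutator G ≤ commSub σ := by
  have hn : (commSub σ).Normal := by
    refine ⟨fun x hx g => ?_⟩
    have : commSub σ ≤ (commSub σ).comap (MulAut.conj g).toMonoidHom := by
      rw [commSub, Subgroup.closure_le]
      rintro _ ⟨a, rfl⟩
      show g * (a⁻¹ * σ (σ a)) * g⁻¹ ∈ commSub σ
      have h1 : g * (a⁻¹ * σ (σ a)) * g⁻¹ =
          ((a * g⁻¹)⁻¹ * σ (σ (a * g⁻¹))) * (((g⁻¹)⁻¹ * σ (σ g⁻¹)))⁻¹ := by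
        simp only [map_mul, map_inv]; group
      rw [h1]
      exact mul_mem (Subgroup.subset_closure ⟨_, rfl⟩) (inv_mem (Subgroup.subset_closure ⟨_, rfl⟩))
    exact this hx
  refine ⟨hn, ?_⟩
  have hinvK : ∀ x ∈ commSub σ, σ x ∈ commSub σ := by
    have : commSub σ ≤ (commSub σ).comap (σ : MulAut G).toMonoidHom := by
      rw [commSub, Subgroup.closure_le]
      rintro _ ⟨a, rfl⟩
      exact Subgroup.subset_closure ⟨σ a, by simp⟩
    exact fun x hx => this hx
  have hmap : (commSub σ).map σ.toMonoidHom = commSub σ := by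
    refine Subgroup.eq_of_le_of_card_ge (by rintro _ ⟨x, hx, rfl⟩; exact hinvK x hx) ?_
    rw [Subgroup.card_map_of_injective σ.injective]
  let σb : MulAut (G ⧸ commSub σ) := QuotientGroup.congr _ _ σ hmap
  have hfb : ∀ x, σb x = x → x = 1 := by
    intro x
    induction x using QuotientGroup.induction_on with
    | _ g =>
      intro hg
      rw [QuotientGroup.eq_one_iff]
      exact mem_of_fixed_coset hfpf hinvK (QuotientGroup.eq.mp hg.symm)
  have hsq : ∀ x, σb (σb x) = x := by
    intro x
    induction x using QuotientGroup.induction_on with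
    | _ g =>
      refine (QuotientGroup.eq.mpr ?_).symm
      exact Subgroup.subset_closure ⟨g, rfl⟩
  rw [commutator_eq_closure, Subgroup.closure_le]
  rintro _ ⟨a, b, rfl⟩
  show ⁅a, b⁆ ∈ commSub σ
  rw [← QuotientGroup.eq_one_iff]
  have h1 := inverts hfb hsq ((a : G ⧸ commSub σ) * b)
  rw [map_mul, inverts hfb hsq, inverts hfb hsq, mul_inv_rev] at h1
  have h2 : (b : G ⧸ commSub σ)⁻¹ * (a : G ⧸ commSub σ)⁻¹ = (a : G ⧸ commSub σ)⁻¹ * (b : G ⧸ commSub σ)⁻¹ := h1.symm
  rw [commutatorElement_def, QuotientGroup.mk_mul, QuotientGroup.mk_mul, QuotientGroup.mk_mul,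
    QuotientGroup.mk_inv, QuotientGroup.mk_inv, mul_assoc, ← h2]
  group

theorem nilpotent_commSub : ∀ (n : ℕ) (G : Type w) [Group G] [Finite G], Nat.card G = n →
    Group.IsSolvable G → ∀ σ : MulAut G, σ ^ 4 = 1 → (∀ g : G, σ g = g → g = 1) →
      Group.IsNilpotent (commSub σ) := by
  intro n
  induction n using Nat.strong_induction_on with
  | _ n ih =>
  intro G _ _ hn hsol σ hσ hfpf
  rcases subsingleton_or_nontrivial G with hs | hnt
  · infer_instance
  obtain ⟨M, hM⟩ := exists_minNormal (G := G)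
  have := hsol
  obtain ⟨p, hp, hMel, hMp⟩ := hM.exists_prime
  have : Fact p.Prime := ⟨hp⟩
  have hO : Cfsg.pCore p G ≠ ⊥ := by
    intro h
    have := hM.normal
    exact hM.ne_bot (le_bot_iff.mp (h ▸ le_pCore hMp))
  set T := Cfsg.pCore p G with hT
  have : Nontrivial T := (Subgroup.nontrivial_iff_ne_bot T).mpr hO
  have hZnt : Nontrivial (Subgroup.center T) := (isPGroup_pCore p G).center_nontrivial
  set N := (Subgroup.center T).map T.subtype with hN
  have : T.Characteristic := pCore_characteristic p G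
  have : N.Characteristic := by rw [hN]; infer_instance
  have hNne : N ≠ ⊥ := by
    rw [hN, Ne, Subgroup.map_eq_bot_iff_of_injective _ T.subtype_injective]
    exact (Subgroup.nontrivial_iff_ne_bot _).mp hZnt
  have hNcomm : ∀ a b : N, a * b = b * a := by
    rintro ⟨_, a, ha, rfl⟩ ⟨_, b, hb, rfl⟩
    have h := congrArg T.subtype (Subgroup.mem_center_iff.mp hb a)
    rw [map_mul, map_mul] at h
    exact Subtype.ext h
  have hNp : IsPGroup p N := ((isPGroup_pCore p G).to_subgroup _).map _
  letI : CommGroup N := { N.toGroup with mul_comm := hNcomm }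
  have hNmap : N.map σ.toMonoidHom = N := Subgroup.characteristic_iff_map_eq.mp inferInstance σ
  have hNinv : ∀ x ∈ N, σ x ∈ N := fun x hx => hNmap.le ⟨x, hx, rfl⟩
  -- the quotient
  set q := QuotientGroup.mk' N with hq
  let σb : MulAut (G ⧸ N) := QuotientGroup.congr N N σ hNmap
  have hσb4 : σb ^ 4 = 1 := by
    ext x
    induction x using QuotientGroup.induction_on with
    | _ g =>
      have h4 : σ (σ (σ (σ g))) = g := by
        have := congrArg (fun f : MulAut G => f g) hσ
        simpa [pow_succ, MulAut.mul_apply] using this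
      simp only [pow_succ, pow_zero, one_mul, MulAut.mul_apply, MulAut.one_apply]
      exact congrArg (QuotientGroup.mk' N) h4
  have hfb : ∀ x, σb x = x → x = 1 := by
    intro x
    induction x using QuotientGroup.induction_on with
    | _ g =>
      intro hg
      rw [QuotientGroup.eq_one_iff]
      exact mem_of_fixed_coset hfpf hNinv (QuotientGroup.eq.mp hg.symm)
  have hIH := ih _ (hn ▸ card_quotient_lt hNne) (G ⧸ N) rfl inferInstance σb hσb4 hfb
  set K := commSub σ with hKdef
  have hKmap : K.map q = commSub σb := by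
    rw [hKdef, commSub, MonoidHom.map_closure, commSub]
    congr 1
    ext y
    constructor
    · rintro ⟨_, ⟨g, rfl⟩, rfl⟩
      exact ⟨q g, rfl⟩
    · rintro ⟨g', rfl⟩
      obtain ⟨g, rfl⟩ := QuotientGroup.mk'_surjective N g'
      exact ⟨_, ⟨g, rfl⟩, rfl⟩
  -- the action on N
  set c : G →* MulAut N := MulAut.conjNormal with hc
  let s : MulAut N :=
    { toFun := fun x => ⟨σ x, hNinv x x.2⟩
      invFun := fun x => ⟨σ.symm x, by
        obtain ⟨y, hy, hyx⟩ := hNmap.ge x.2
        rw [← hyx]
        simpa using hy⟩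
      left_inv := fun x => Subtype.ext (σ.symm_apply_apply x)
      right_inv := fun x => Subtype.ext (σ.apply_symm_apply x)
      map_mul' := fun x y => Subtype.ext (map_mul σ (x : G) y) }
  have hcs : ∀ g : G, c (σ g) = s * c g * s⁻¹ := by
    intro g
    rw [eq_mul_inv_iff_mul_eq]
    ext x
    show σ g * σ (x : G) * (σ g)⁻¹ = σ (g * x * g⁻¹)
    simp
  have hs4 : s ^ 4 = 1 := by
    ext x
    have := congrArg (fun f : MulAut G => f (x : G)) hσ
    simp only [pow_succ, pow_zero, one_mul, MulAut.mul_apply, MulAut.one_apply] at this ⊢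
    exact this
  have hs4' : ∀ v : N, s (s (s (s v))) = v := by
    intro v
    have := congrArg (fun f : MulAut N => f v) hs4
    simpa [pow_succ, MulAut.mul_apply] using this
  have hrel0 : ∀ v : N, v * s v * s (s v) * s (s (s v)) = 1 := by
    intro v
    have h1 : s (v * s v * s (s v) * s (s (s v))) = v * s v * s (s v) * s (s (s v)) := by
      simp only [map_mul]
      rw [hs4']
      ac_rfl
    exact Subtype.ext (hfpf _ (congrArg Subtype.val h1))
  have hrel : ∀ (g : G) (v : N),
      v * c g (s v) * c g (s (c g (s v))) * c g (s (c g (s (c g (s v))))) = 1 := by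
    intro g v
    obtain ⟨y, rfl⟩ := surj_comm hfpf g
    set φ : N → N := fun w => c (y⁻¹ * σ y) (s w) with hφ
    have hφc : ∀ w : N, c y (φ w) = s (c y w) := by
      intro w
      apply Subtype.ext
      show y * ((y⁻¹ * σ y) * σ (w : G) * (y⁻¹ * σ y)⁻¹) * y⁻¹ = σ (y * w * y⁻¹)
      simp only [map_mul, map_inv]
      group
    show v * φ v * φ (φ v) * φ (φ (φ v)) = 1
    apply (c y).injective
    rw [map_mul, map_mul, map_mul, map_one, hφc, hφc, hφc, hφc, hφc, hφc]
    exact hrel0 _
  set Kb := K.map c with hKb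
  have hker : N ≤ c.ker := by
    intro x hx
    rw [MonoidHom.mem_ker]
    ext w
    show x * w * x⁻¹ = (w : G)
    rw [show x * (w : G) = w * x from congrArg Subtype.val (hNcomm ⟨x, hx⟩ w), mul_inv_cancel_right]
  have hKbeq : Kb = (K.map q).map (QuotientGroup.lift N c hker) := by
    rw [hKb, Subgroup.map_map]
    rfl
  have hnilq : Group.IsNilpotent (K.map q) := hKmap ▸ hIH
  have hKbnil : Group.IsNilpotent Kb := by
    rw [hKbeq]
    exact Group.nilpotent_of_surjective _ ((QuotientGroup.lift N c hker).subgroupMap_surjective (K.map q))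
  have hKinv : ∀ x ∈ K, σ x ∈ K := by
    have : K ≤ K.comap σ.toMonoidHom := by
      rw [hKdef, commSub, Subgroup.closure_le]
      rintro _ ⟨a, rfl⟩
      exact Subgroup.subset_closure ⟨σ a, by simp⟩
    exact fun x hx => this hx
  have hodd : Odd (Nat.card Kb) :=
    (odd_card hσ hfpf).of_dvd_nat ((Subgroup.card_map_dvd K c).trans (Subgroup.card_subgroup_dvd_card K))
  have hkerinv : ∀ x ∈ c.ker, σ x ∈ c.ker := by
    intro x hx
    rw [MonoidHom.mem_ker] at hx ⊢
    rw [hcs, hx, mul_one, mul_inv_cancel]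
  have hKbs : ∀ a ∈ Kb, s * a * s⁻¹ ∈ Kb := by
    rintro _ ⟨g, hg, rfl⟩
    exact ⟨σ g, hKinv g hg, hcs g⟩
  have hKbfp : ∀ a ∈ Kb, s * a * s⁻¹ = a → a = 1 := by
    rintro _ ⟨g, hg, rfl⟩ h
    rw [← hcs] at h
    refine MonoidHom.mem_ker.mp (mem_of_fixed_coset hfpf hkerinv ?_)
    rw [MonoidHom.mem_ker, map_mul, map_inv, h, inv_mul_cancel]
  have hKbp : IsPGroup p Kb := by
    have : ∀ r : ℕ, r.Prime → r ≠ p → ¬ r ∣ Nat.card Kb := by
      intro r hr hrp hdvd
      have : Fact r.Prime := ⟨hr⟩
      have hsyl : ∀ (l : ℕ) [Fact l.Prime] (P : Sylow l Kb), (P : Subgroup Kb).Normal :=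
        ((Group.isNilpotent_of_finite_tfae (G := Kb)).out 0 3).mp hKbnil
      obtain ⟨R⟩ : Nonempty (Sylow r Kb) := inferInstance
      have hRn := hsyl r R
      set Rs := (R : Subgroup Kb).map Kb.subtype with hRs
      obtain ⟨k, hk⟩ := IsPGroup.iff_card.mp R.2
      obtain ⟨j, hj⟩ := IsPGroup.iff_card.mp hNp
      have hRcard : Nat.card Rs = r ^ k := by
        rw [hRs, Subgroup.card_map_of_injective Kb.subtype_injective]; exact hk
      have hRmem : ∀ a ∈ Kb, (∃ i, a ^ r ^ i = 1) → a ∈ Rs := by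
        intro a ha hai
        obtain ⟨i, hi⟩ := hai
        have hpg : IsPGroup r (Subgroup.zpowers (⟨a, ha⟩ : Kb)) := by
          obtain ⟨e, -, he⟩ := (Nat.dvd_prime_pow hr).mp
            (orderOf_dvd_of_pow_eq_one (show (⟨a, ha⟩ : Kb) ^ r ^ i = 1 from Subtype.ext hi))
          exact IsPGroup.of_card ((Nat.card_zpowers _).trans he)
        obtain ⟨P, hP⟩ := hpg.exists_le_sylow
        have := Sylow.unique_of_normal R hRn
        rw [Subsingleton.elim P R] at hP
        exact ⟨⟨a, ha⟩, hP (Subgroup.mem_zpowers _), rfl⟩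
      have hRKb : Rs ≤ Kb := Subgroup.map_subtype_le _
      have hRs' : ∀ a ∈ Rs, s * a * s⁻¹ ∈ Rs := by
        intro a ha
        obtain ⟨i, hi⟩ := (IsPGroup.of_card hRcard) ⟨a, ha⟩
        refine hRmem _ (hKbs a (hRKb ha)) ⟨i, ?_⟩
        have h2 : a ^ r ^ i = 1 := congrArg Subtype.val hi
        rw [conj_pow, h2, mul_one, mul_inv_cancel]
      have hkey := key s hs4 hrel0 Rs (IsPGroup.of_card hRcard).isNilpotent
        (hodd.of_dvd_nat (Subgroup.card_dvd_of_le hRKb))
        (by rw [hRcard, hj]; exact ((Nat.coprime_primes hr hp).mpr hrp).pow _ _)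
        hRs' (fun a ha => hKbfp a (hRKb ha))
        (fun a ha v => by
          obtain ⟨g, -, rfl⟩ := hRKb ha
          exact hrel g v)
      -- r-parts of the generators are trivial
      have hgenr : ∀ g : G, (orderOf (c (g⁻¹ * σ (σ g)))).Coprime r := by
        intro g
        set b := c (g⁻¹ * σ (σ g)) with hb
        have hbK : b ∈ Kb := ⟨_, Subgroup.subset_closure ⟨g, rfl⟩, rfl⟩
        have hbinv : s * s * b * (s * s)⁻¹ = b⁻¹ := by
          have h4 : σ (σ (σ (σ g))) = g := by
            have := congrArg (fun f : MulAut G => f g) hσ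
            simpa [pow_succ, MulAut.mul_apply] using this
          have h5 : s * s * b * (s * s)⁻¹ = c (σ (σ (g⁻¹ * σ (σ g)))) := by
            rw [hcs, hcs, hb]; group
          rw [h5, hb, ← map_inv]
          congr 1
          simp only [map_mul, map_inv, h4]
          group
        rw [Nat.coprime_comm, hr.coprime_iff_not_dvd]
        intro hdiv
        set m := orderOf b / r with hm
        have hm1 : b ^ m ≠ 1 := by
          refine pow_ne_one_of_lt_orderOf ?_ (Nat.div_lt_self (orderOf_pos b) hr.one_lt)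
          exact Nat.ne_of_gt (Nat.div_pos (Nat.le_of_dvd (orderOf_pos b) hdiv) hr.pos)
        have hmr : (b ^ m) ^ r ^ 1 = 1 := by
          rw [pow_one, ← pow_mul, hm, Nat.div_mul_cancel hdiv, pow_orderOf_eq_one]
        have hmR := hRmem _ (pow_mem hbK m) ⟨1, hmr⟩
        have h1 := hkey _ hmR
        have h2 : s * s * b ^ m * (s * s)⁻¹ = (b ^ m)⁻¹ := by
          rw [← conj_pow, hbinv, inv_pow]
        rw [h1] at h2
        have h3 : orderOf (b ^ m) ∣ 2 :=
          orderOf_dvd_of_pow_eq_one (by rw [pow_two]; exact mul_eq_one_iff_eq_inv.mpr h2)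
        have h4 : Odd (orderOf (b ^ m)) := by
          rw [← Subgroup.orderOf_mk (b ^ m) (pow_mem hbK m)]
          exact hodd.of_dvd_nat (orderOf_dvd_natCard _)
        rcases (Nat.dvd_prime Nat.prime_two).mp h3 with h3 | h3
        · exact hm1 (orderOf_eq_one_iff.mp h3)
        · rw [h3] at h4; exact absurd h4 (by decide)
      -- all generators lie in the r'-part
      set L := Cfsg.pPrimeCore r Kb with hLdef
      have hLi : ∀ l : ℕ, l.Prime → l ≠ r → ¬ l ∣ L.index := by
        intro l hl hlr hd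
        have : Fact l.Prime := ⟨hl⟩
        obtain ⟨P⟩ : Nonempty (Sylow l Kb) := inferInstance
        have := hsyl l P
        have hPL : (P : Subgroup Kb) ≤ L := by
          obtain ⟨i, hi⟩ := IsPGroup.iff_card.mp P.2
          exact le_pPrimeCore (hi ▸ ((Nat.coprime_primes hl hr).mpr hlr).pow_left i)
        exact P.not_dvd_index (hd.trans (Subgroup.index_dvd_of_le hPL))
      have htop : Kb ≤ L.map Kb.subtype := by
        conv_lhs => rw [hKb, hKdef, commSub, MonoidHom.map_closure]
        rw [Subgroup.closure_le]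
        rintro _ ⟨_, ⟨g, rfl⟩, rfl⟩
        have hbK : c (g⁻¹ * σ (σ g)) ∈ Kb := ⟨_, Subgroup.subset_closure ⟨g, rfl⟩, rfl⟩
        refine ⟨⟨_, hbK⟩, ?_, rfl⟩
        rw [SetLike.mem_coe, ← QuotientGroup.eq_one_iff, ← orderOf_eq_one_iff]
        refine Nat.eq_one_of_dvd_coprimes ?_ (orderOf_map_dvd (QuotientGroup.mk' L) _)
          (orderOf_dvd_natCard _)
        rw [Subgroup.orderOf_mk, ← Subgroup.index_eq_card]
        refine Nat.coprime_of_dvd fun l hl h1 h2 => ?_
        by_cases hlr : l = r
        · subst hlr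
          exact hl.coprime_iff_not_dvd.mp (hgenr g).symm h1
        · exact hLi l hl hlr h2
      have hLt : L = ⊤ := by
        rw [Subgroup.eq_top_iff']
        intro x
        obtain ⟨y, hy, hyx⟩ := htop x.2
        exact (Subtype.ext hyx : y = x) ▸ hy
      exact hr.coprime_iff_not_dvd.mp (pPrimeCore_eq_top_iff.mp hLt).symm hdvd
    refine isPGroup_iff_piNat.mpr fun l hl hd => ?_
    by_contra hlp
    exact this l hl hlp hd
  -- conclude: all Sylow subgroups of K are normal
  refine ((Group.isNilpotent_of_finite_tfae (G := K)).out 0 3).mpr fun r hrF P => ?_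
  have : Fact r.Prime := hrF
  set f := q.comp K.subtype with hf
  have hfker : f.ker = N.subgroupOf K := by
    rw [hf, ← MonoidHom.comap_ker, hq, QuotientGroup.ker_mk']; rfl
  have hfnil : Group.IsNilpotent f.range := by
    have h1 : f.range = K.map q := by rw [hf, MonoidHom.range_comp, K.range_subtype]
    rw [h1]; exact hnilq
  set f' := f.rangeRestrict with hf'
  have hPn : (((P : Subgroup K).map f').comap f').Normal := by
    have hsyl : ∀ (l : ℕ) [Fact l.Prime] (P : Sylow l f.range), (P : Subgroup f.range).Normal :=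
      ((Group.isNilpotent_of_finite_tfae (G := f.range)).out 0 3).mp hfnil
    exact (hsyl r (P.mapSurjective f.rangeRestrict_surjective)).comap f'
  set A := ((P : Subgroup K).map f').comap f' with hA
  have hAeq : A = (P : Subgroup K) ⊔ N.subgroupOf K := by
    rw [hA, Subgroup.comap_map_eq, MonoidHom.ker_rangeRestrict, hfker]
  by_cases hrp : r = p
  · subst hrp
    have hAp : IsPGroup r A := by
      rw [hAeq]
      exact P.2.to_sup_of_normal_right (hNp.comap_of_injective K.subtype K.subtype_injective)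
    have : A = P := P.3 hAp (hAeq ▸ le_sup_left)
    exact this ▸ hPn
  have hPc : ∀ x ∈ (P : Subgroup K), c (x : G) = 1 := by
    intro x hx
    obtain ⟨i, hi⟩ := P.2 ⟨x, hx⟩
    obtain ⟨j, hj⟩ := hKbp ⟨c x, ⟨x, x.2, rfl⟩⟩
    have h1 : (c x) ^ r ^ i = 1 := by
      have h3 : (x : G) ^ r ^ i = 1 := congrArg (fun z : (P : Subgroup K) => ((z : K) : G)) hi
      rw [← map_pow, h3, map_one]
    have h2 : (c x) ^ p ^ j = 1 := congrArg Subtype.val hj
    have h3 : (c x) ^ Nat.gcd (r ^ i) (p ^ j) = 1 := pow_gcd_eq_one.mpr ⟨h1, h2⟩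
    rwa [((Nat.coprime_primes Fact.out hp).mpr hrp).pow i j, pow_one] at h3
  refine ⟨fun x hx g => ?_⟩
  have h1 : g * x * g⁻¹ ∈ A := hPn.conj_mem x (hAeq ▸ Subgroup.mem_sup_left hx) g
  rw [hAeq, Subgroup.mem_sup_of_normal_right] at h1
  obtain ⟨y, hy, z, hz, hyz⟩ := h1
  have hcomm' : Commute y z := by
    apply Subtype.ext
    have h2 := congrArg (fun f : MulAut N => (f ⟨(z : G), hz⟩ : G)) (hPc y hy)
    have h3 : (y : G) * z * (y : G)⁻¹ = z := h2
    exact mul_inv_eq_iff_eq_mul.mp h3
  obtain ⟨i, hi⟩ := P.2 ⟨x, hx⟩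
  obtain ⟨i', hi'⟩ := P.2 ⟨y, hy⟩
  have hxi : x ^ r ^ i = 1 := congrArg Subtype.val hi
  have hyi : y ^ r ^ i' = 1 := congrArg Subtype.val hi'
  have hzi : z ^ r ^ (i + i') = 1 := by
    have h2 : (g * x * g⁻¹) ^ r ^ (i + i') = 1 := by
      rw [conj_pow, pow_add, pow_mul, hxi, one_pow, mul_one, mul_inv_cancel]
    rw [← hyz, hcomm'.mul_pow] at h2
    rwa [pow_add r i i', mul_comm (r ^ i), pow_mul y, hyi, one_pow, one_mul, mul_comm, ← pow_add] at h2
  obtain ⟨j, hj⟩ := hNp ⟨(z : G), hz⟩
  have hzj : z ^ p ^ j = 1 := Subtype.ext (show ((z : G)) ^ p ^ j = 1 from congrArg Subtype.val hj)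
  have hz1 : z ^ Nat.gcd (r ^ (i + i')) (p ^ j) = 1 := pow_gcd_eq_one.mpr ⟨hzi, hzj⟩
  rw [((Nat.coprime_primes Fact.out hp).mpr hrp).pow (i + i') j, pow_one] at hz1
  rw [← hyz, hz1, mul_one]
  exact hy

/-- Let G be a finite solvable group with an automorphism σ satisfying σ⁴ = 1 and fixing only the identity. Then the derived subgroup G' is nilpotent. -/
theorem result {G : Type*} [Group G] [Finite G] (hG : Group.IsSolvable G) (σ : MulAut G) (hσ : σ ^ 4 = 1) (hfpf : ∀ g : G, σ g = g → g = 1) : Group.IsNilpotent (commutator G) := by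
  have hnil := nilpotent_commSub _ G rfl hG σ hσ hfpf
  exact Group.nilpotent_of_mulEquiv (Subgroup.subgroupOfEquivOfLe (commutator_le hfpf hσ).2)

end Cfsg.Agent.S3794
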