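import Cfsg.Statements.S3796
import Cfsg.Agent.Lib.FrobeniusWard
import Cfsg.Agent.Lib.FrobeniusFittingAct

set_option autoImplicit false
open Cfsg

namespace Cfsg.Agent.S3796

open Cfsg.Agent

universe u

/-- An elementary abelian `p`-group with no common fixed point forces a `p'`-group. -/
theorem coprime_of_fpf {G : Type u} [Group G] [Finite G] {p : ℕ} (hp : p.Prime)
    (A : Subgroup (MulAut G)) (hA : IsPGroup p A) (hfpf : ∀ g : G, (∀ a ∈ A, a g = g) → g = 1) :
    ¬ p ∣ Nat.card G := by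
  intro hd
  have := Fact.mk hp
  let φ : A →* MulAut G := A.subtype
  have : Finite (G ⋊[φ] A) := Finite.of_equiv _ SemidirectProduct.equivProd.symm
  set K := (SemidirectProduct.inl : G →* G ⋊[φ] A).range with hK
  have hKn : K.Normal := by
    rw [hK, SemidirectProduct.range_inl_eq_ker_rightHom]
    infer_instance
  obtain ⟨P, hP⟩ := (hA.of_surjective (SemidirectProduct.inr : A →* G ⋊[φ] A).rangeRestrict
    (MonoidHom.rangeRestrict_surjective _)).exists_le_sylow
  set D := K ⊓ (P : Subgroup (G ⋊[φ] A)) with hD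
  have hDne : D ≠ ⊥ := by
    have hcard : Nat.card K = Nat.card G :=
      (Nat.card_congr (MonoidHom.ofInjective (SemidirectProduct.inl_injective (φ := φ))).toEquiv).symm
    obtain ⟨x, hx⟩ := exists_prime_orderOf_dvd_card' (G := K) p (hcard ▸ hd)
    have hxp : IsPGroup p (Subgroup.zpowers ((x : K) : G ⋊[φ] A)) :=
      IsPGroup.of_card (n := 1) (by rw [Nat.card_zpowers, Subgroup.orderOf_coe, hx, pow_one])
    obtain ⟨P', hP'⟩ := hxp.exists_le_sylow
    obtain ⟨g, hg⟩ := MulAction.exists_smul_eq (G ⋊[φ] A) P' P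
    intro e
    have h1 : g * (x : G ⋊[φ] A) * g⁻¹ ∈ D := by
      refine ⟨hKn.conj_mem _ x.2 g, ?_⟩
      rw [SetLike.mem_coe, ← hg]
      exact CoprimeSZ.conj_mul_mem_conj_smul (hP' (Subgroup.mem_zpowers _))
    rw [e, Subgroup.mem_bot, conj_eq_one_iff] at h1
    have : x = 1 := Subtype.ext h1
    rw [this, orderOf_one] at hx
    exact hp.ne_one hx.symm
  obtain ⟨d, hdD, hd1, hdfix⟩ := FrobeniusThompson.exists_fixed
    (B := (P : Subgroup (G ⋊[φ] A))) P.isPGroup' (P.isPGroup'.to_le inf_le_right)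
    (FrobeniusFitting.le_normalizer_of_normal K _ |> fun h => CoprimeAction.le_normalizer_inf h
      Subgroup.le_normalizer) hDne
  obtain ⟨g, rfl⟩ := hdD.1
  have hg : g = 1 := hfpf g fun a ha => SemidirectProduct.inl_injective (φ := φ) (by
    have h1 := hdfix (SemidirectProduct.inr ⟨a, ha⟩) (hP ⟨⟨a, ha⟩, rfl⟩)
    calc SemidirectProduct.inl (a g) = SemidirectProduct.inl (φ ⟨a, ha⟩ g) := rfl
      _ = _ := by rw [SemidirectProduct.inl_aut, map_inv, h1])
  exact hd1 (by rw [hg, map_one])

/-- Ward's Theorem: let G be a finite solvable group and A an elementary abelian group of automorphisms of G of order p² (p a prime) with no non-identity common fixed point. Then G has Fitting height at most 2: G has Fitting height at most m when there is a chain of normal subgroups 1 = F₀ ≤ F₁ ≤ ⋯ ≤ F_m = G with each F_{i+1}/F_i nilpotent. -/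
theorem result {G : Type*} [Group G] [Finite G] (hG : Group.IsSolvable G) {p : ℕ} (hp : p.Prime) (A : Subgroup (MulAut G)) (hA : Cfsg.IsElementaryAbelian p A) (hcard : Nat.card A = p ^ 2) (hfpf : ∀ g : G, (∀ a ∈ A, a g = g) → g = 1) : ∃ F : Fin (2 + 1) → Subgroup G, F 0 = ⊥ ∧ F (Fin.last 2) = ⊤ ∧ Monotone F ∧ (∀ i, (F i).Normal) ∧ ∀ i : Fin 2, ∃ k : ℕ, (F i.succ).lowerCentralSeries k ≤ F i.castSucc := by
  obtain ⟨hAc, hAp⟩ := hA
  have hpg : IsPGroup p A := IsPGroup.of_card hcard
  have hcop : (Nat.card A).Coprime (Nat.card G) := by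
    rw [hcard]
    exact ((hp.coprime_iff_not_dvd).2 (coprime_of_fpf hp A hpg hfpf)).pow_left 2
  have hfin : Finite (G ⋊[A.subtype] A) := Finite.of_equiv _ SemidirectProduct.equivProd.symm
  have hacts := FrobeniusFittingAct.acts A.subtype hG hcop fun g hg => hfpf g fun a ha => hg ⟨a, ha⟩
  have hN := FrobeniusWard.nilBy_nilpotent hp (fun a b => hAc.1.1 a b) hcard
    (fun a => Subtype.ext (hAp a a.2)) hacts
  obtain ⟨N, hNn, T, hT, f, hNnil, hTnil, hf, hker⟩ :=
    FrobeniusFittingAct.exists_nilpotent_normal A.subtype hN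
  refine ⟨![⊥, N, ⊤], rfl, rfl, ?_, ?_, ?_⟩
  · rw [Fin.monotone_iff_le_succ]
    intro i
    fin_cases i
    · exact bot_le
    · exact le_top
  · intro i
    fin_cases i
    · show (⊥ : Subgroup G).Normal
      infer_instance
    · exact hNn
    · show (⊤ : Subgroup G).Normal
      infer_instance
  · intro i
    fin_cases i
    · obtain ⟨k, hk⟩ := (Subgroup.isNilpotent_iff_lowerCentralSeries (S := N)).1 hNnil
      exact ⟨k, hk.le⟩
    · have := hTnil
      obtain ⟨k, hk⟩ := Subgroup.nilpotent_iff_lowerCentralSeries.1 hTnil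
      refine ⟨k, ?_⟩
      show (⊤ : Subgroup G).lowerCentralSeries k ≤ N
      rw [← hker, ← MonoidHom.comap_bot, ← Subgroup.map_le_iff_le_comap,
        Subgroup.map_lowerCentralSeries, ← MonoidHom.range_eq_map, MonoidHom.range_eq_top.2 hf, hk]

end Cfsg.Agent.S3796
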