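import Cfsg.Statements.S3797
import Mathlib
import Cfsg.Agent.Lib.H74OneClass
import Cfsg.Agent.Lib.PLengthSteps

set_option autoImplicit false
open Cfsg

namespace Cfsg.Agent.S3797

section
open Cfsg.Agent.HallCore Cfsg.Agent.H74OneClass

universe v

theorem homocyclic {A : Type v} [CommGroup A] [Finite A] (hA : IsPGroup 2 A)
    (htr : ∀ x y : A, x ≠ 1 → x ^ 2 = 1 → y ≠ 1 → y ^ 2 = 1 → ∃ a : MulAut A, a x = y) :
    ∃ m r : ℕ, Nonempty (A ≃* (Fin r → Multiplicative (ZMod (2 ^ m)))) := by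
  classical
  obtain ⟨ι, hι, n, hn1, ⟨e⟩⟩ := CommGroup.equiv_prod_multiplicative_zmod_of_finite A
  haveI : ∀ i, NeZero (n i) := fun i => ⟨by have := hn1 i; omega⟩
  -- each n i is a power of two
  have hpow : ∀ i, ∃ k, 0 < k ∧ n i = 2 ^ k := by
    intro i
    let g : A := e.symm (Pi.mulSingle i (Multiplicative.ofAdd (1 : ZMod (n i))))
    obtain ⟨k, hk⟩ := IsPGroup.iff_orderOf.1 hA g
    have ho : orderOf g = n i := by
      show orderOf (e.symm.toMonoidHom _) = _
      rw [orderOf_injective e.symm.toMonoidHom e.symm.injective, orderOf_piMulSingle,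
        orderOf_ofAdd_eq_addOrderOf, ZMod.addOrderOf_one]
    refine ⟨k, Nat.pos_of_ne_zero ?_, ho.symm.trans hk⟩
    rintro rfl
    have := hn1 i
    rw [← ho, hk] at this
    simp at this
  choose k hk0 hk using hpow
  have heq : ∀ i j, k i = k j := by
    suffices ∀ i j, ¬ k i < k j from fun i j => le_antisymm (not_lt.1 (this j i)) (not_lt.1 (this i j))
    intro i j hlt
    let gen : ∀ l, Multiplicative (ZMod (n l)) := fun l => Multiplicative.ofAdd 1
    have hgen : ∀ l, orderOf (gen l) = 2 ^ k l := fun l => by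
      rw [orderOf_ofAdd_eq_addOrderOf, ZMod.addOrderOf_one, hk]
    let inv : ι → A := fun l => e.symm (Pi.mulSingle l (gen l ^ 2 ^ (k l - 1)))
    have hinv1 : ∀ l, inv l ≠ 1 := by
      intro l h
      have h' := congrArg e h
      rw [MulEquiv.apply_symm_apply, map_one, Pi.mulSingle_eq_one_iff] at h'
      have := orderOf_le_of_pow_eq_one (by positivity) h'
      rw [hgen] at this
      have h2 : 2 ^ (k l - 1) < 2 ^ k l := Nat.pow_lt_pow_right (by norm_num) (by have := hk0 l; omega)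
      omega
    have hinv2 : ∀ l, inv l ^ 2 = 1 := by
      intro l
      show (e.symm _) ^ 2 = 1
      rw [← map_pow, ← Pi.mulSingle_pow, ← pow_mul, ← pow_succ,
        Nat.sub_add_cancel (hk0 l), ← hgen, pow_orderOf_eq_one, Pi.mulSingle_one, map_one]
    obtain ⟨a, ha⟩ := htr (inv j) (inv i) (hinv1 j) (hinv2 j) (hinv1 i) (hinv2 i)
    have h1 : inv j = (e.symm (Pi.mulSingle j (gen j))) ^ 2 ^ (k j - 1) :=
      (congrArg e.symm (Pi.mulSingle_pow j (gen j) _)).trans (map_pow _ _ _)
    rw [h1, map_pow] at ha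
    have h2 := congrArg (fun x => e x i) ha
    simp only [map_pow, Pi.pow_apply] at h2
    have h3 : (e (a (e.symm (Pi.mulSingle j (gen j))))) i ^ 2 ^ (k j - 1) = 1 := by
      refine orderOf_dvd_iff_pow_eq_one.1 ?_
      refine dvd_trans (orderOf_dvd_natCard _) ?_
      rw [Nat.card_congr Multiplicative.toAdd, Nat.card_zmod, hk]
      exact Nat.pow_dvd_pow 2 (by omega)
    rw [h3] at h2
    have h4 : e (inv i) i = 1 := h2.symm
    apply hinv1 i
    apply e.injective
    rw [map_one]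
    funext l
    by_cases hl : l = i
    · subst hl; exact h4
    · show e (e.symm _) l = 1
      rw [MulEquiv.apply_symm_apply, Pi.mulSingle_eq_of_ne hl]
  rcases isEmpty_or_nonempty ι with he | ⟨⟨i₀⟩⟩
  · refine ⟨1, 0, ⟨e.trans ?_⟩⟩
    exact
      { toFun := fun _ => fun i => i.elim0
        invFun := fun _ => fun i => he.elim i
        left_inv := fun _ => funext fun i => he.elim i
        right_inv := fun _ => funext fun i => i.elim0
        map_mul' := fun _ _ => funext fun i => i.elim0 }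
  · refine ⟨k i₀, Fintype.card ι, ⟨e.trans (MulEquiv.trans (MulEquiv.piCongrRight fun i =>
      (?_ : Multiplicative (ZMod (n i)) ≃* Multiplicative (ZMod (2 ^ k i₀)))) ?_)⟩⟩
    · exact (ZMod.ringEquivCongr ((hk i).trans (by rw [heq i i₀]))).toAddEquiv.toMultiplicative
    · exact
        { toFun := fun f x => f ((Fintype.equivFin ι).symm x)
          invFun := fun f i => f (Fintype.equivFin ι i)
          left_inv := fun f => funext fun i => by simp
          right_inv := fun f => funext fun i => by simp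
          map_mul' := fun _ _ => rfl }

theorem two_of_sylow {G : Type v} [Group G] [Finite G] (S : Sylow 2 G)
    (h : ∃ x y : G, x ∈ (S : Subgroup G) ∧ y ∈ (S : Subgroup G) ∧ x ≠ y ∧ x ≠ 1 ∧ x ^ 2 = 1 ∧
      y ≠ 1 ∧ y ^ 2 = 1) : Two G := by
  obtain ⟨x, y, hx, hy, hxy, hx1, hx2, hy1, hy2⟩ := h
  obtain ⟨z, -, hz1, hz2, hz⟩ := fixed_invol S.2 S.2
    (fun h => hx1 (Subgroup.mem_bot.1 (h ▸ hx))) Subgroup.le_normalizer
  rw [pow_two] at hx2 hy2
  by_cases hxz : x = z
  · exact ⟨y, z, fun h => hxy (hxz.trans h.symm), hy1, hy2, hz1, hz2, hz y hy⟩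
  · exact ⟨x, z, hxz, hx1, hx2, hz1, hz2, hz x hx⟩

theorem index_pPrimePCore {G : Type v} [Group G] [Finite G] (S : Sylow 2 G)
    (h : ((S : Subgroup G) ⊔ Cfsg.pPrimeCore 2 G).Normal) :
    (Cfsg.pPrimePCore 2 G).index.Coprime 2 := by
  have hle : (S : Subgroup G) ≤ Cfsg.pPrimePCore 2 G := by
    set π := QuotientGroup.mk' (Cfsg.pPrimeCore 2 G)
    have h1 : ((S : Subgroup G).map π).Normal := by
      have h2 := Subgroup.Normal.map h π (QuotientGroup.mk'_surjective _)
      rwa [Subgroup.map_sup, QuotientGroup.map_mk'_self, sup_bot_eq] at h2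
    haveI := h1
    intro x hx
    exact Subgroup.mem_comap.2 (le_pCore (p := 2) (N := (S : Subgroup G).map π) (S.2.map π)
      (Subgroup.mem_map_of_mem π hx))
  rw [Nat.coprime_two_right, ← Nat.not_even_iff_odd, even_iff_two_dvd]
  exact fun hd => S.not_dvd_index (hd.trans (Subgroup.index_dvd_of_le hle))

theorem auto_group {G : Type v} [Group G] [Finite G] (hsol : Group.IsSolvable G) (S : Sylow 2 G)
    (hgood : ((S : Subgroup G) ⊔ Cfsg.pPrimeCore 2 G).Normal) (hconj : Conj2 G) :
    ∃ Y : Subgroup (MulAut ↥(S : Subgroup G)), Group.IsSolvable Y ∧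
      ∀ x y : ↥(S : Subgroup G), x ≠ 1 → x ^ 2 = 1 → y ≠ 1 → y ^ 2 = 1 → ∃ a ∈ Y, a x = y := by
  set O := Cfsg.pPrimeCore 2 G
  set π := QuotientGroup.mk' O
  set T := (S : Subgroup G).map π
  haveI hT : T.Normal := by
    have h2 := Subgroup.Normal.map hgood π (QuotientGroup.mk'_surjective _)
    rwa [Subgroup.map_sup, QuotientGroup.map_mk'_self, sup_bot_eq] at h2
  let φ : ↥(S : Subgroup G) →* T := π.subgroupMap (S : Subgroup G)
  have hφ : Function.Bijective φ := by
    refine ⟨?_, π.subgroupMap_surjective _⟩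
    rw [← MonoidHom.ker_eq_bot_iff, eq_bot_iff]
    rintro ⟨x, hx⟩ h
    have hxO : x ∈ O := (QuotientGroup.eq_one_iff x).1 (congrArg Subtype.val h)
    exact Subgroup.mem_bot.2 (Subtype.ext (inf_eq_one odd_core S.2 hxO hx))
  let e : ↥(S : Subgroup G) ≃* T := MulEquiv.ofBijective φ hφ
  haveI : Group.IsSolvable (G ⧸ O) :=
    Group.isSolvable_of_surjective (f := π) (QuotientGroup.mk'_surjective O)
  let ψ : G ⧸ O →* MulAut ↥(S : Subgroup G) :=
    (MulAut.congr e.symm).toMonoidHom.comp MulAut.conjNormal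
  refine ⟨ψ.range, Group.isSolvable_of_surjective ψ.rangeRestrict_surjective,
    fun x y hx hx2 hy hy2 => ?_⟩
  obtain ⟨g, hg⟩ := hconj (x : G) y (fun h => hx (Subtype.ext h))
    (by rw [← pow_two]; exact congrArg Subtype.val hx2) (fun h => hy (Subtype.ext h))
    (by rw [← pow_two]; exact congrArg Subtype.val hy2)
  refine ⟨ψ (π g), ⟨π g, rfl⟩, e.injective ?_⟩
  show e ((MulAut.congr e.symm) (MulAut.conjNormal (π g)) x) = e y
  apply Subtype.ext
  show ((e (e.symm (MulAut.conjNormal (π g) (e x))) : T) : G ⧸ O) = π (y : G)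
  rw [MulEquiv.apply_symm_apply, MulAut.conjNormal_apply, ← hg, map_mul, map_mul, map_inv]
  rfl

end

/-- Let G be a finite solvable group of even order whose Sylow 2-subgroups contain more than one involution, and suppose all involutions of G are conjugate. Then G has 2-length at most 1, and a Sylow 2-subgroup S of G is either homocyclic (a direct product of cyclic groups of one common order) or a non-abelian 2-group with more than one involution admitting a solvable group of automorphisms transitive on its involutions. -/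
theorem result {G : Type*} [Group G] [Finite G] (hG : Group.IsSolvable G) (heven : Even (Nat.card G)) (S : Sylow 2 G) (htwo : ∃ x y : G, x ∈ (S : Subgroup G) ∧ y ∈ (S : Subgroup G) ∧ x ≠ y ∧ x ≠ 1 ∧ x ^ 2 = 1 ∧ y ≠ 1 ∧ y ^ 2 = 1) (hconj : ∀ x y : G, x ≠ 1 → x ^ 2 = 1 → y ≠ 1 → y ^ 2 = 1 → IsConj x y) : Cfsg.PLengthLE 2 1 G ∧ ((∃ m r : ℕ, Nonempty (↥(S : Subgroup G) ≃* (Fin r → Multiplicative (ZMod (2 ^ m))))) ∨ (¬ IsMulCommutative (S : Subgroup G) ∧ ∃ Y : Subgroup (MulAut ↥(S : Subgroup G)), Group.IsSolvable Y ∧ ∀ x y : ↥(S : Subgroup G), x ≠ 1 → x ^ 2 = 1 → y ≠ 1 → y ^ 2 = 1 → ∃ a ∈ Y, a x = y)) := by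
  have hconj' : Cfsg.Agent.H74OneClass.Conj2 G := fun x y hx hx2 hy hy2 =>
    isConj_iff.1 (hconj x y hx (by rwa [pow_two]) hy (by rwa [pow_two]))
  have hgood := Cfsg.Agent.H74OneClass.good _ G rfl hG hconj' (two_of_sylow S htwo) S
  refine ⟨Cfsg.Agent.PLengthSteps.pLengthLE_one (index_pPrimePCore S hgood), ?_⟩
  obtain ⟨Y, hY, hYtr⟩ := auto_group hG S hgood hconj'
  by_cases hc : IsMulCommutative (S : Subgroup G)
  · left
    letI : CommGroup ↥(S : Subgroup G) :=
      { (inferInstance : Group ↥(S : Subgroup G)) with mul_comm := hc.is_comm.comm }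
    exact homocyclic S.2 fun x y hx hx2 hy hy2 => by
      obtain ⟨a, -, ha⟩ := hYtr x y hx hx2 hy hy2
      exact ⟨a, ha⟩
  · exact Or.inr ⟨hc, Y, hY, hYtr⟩

end Cfsg.Agent.S3797
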