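import Cfsg.Statements.S3798
import Mathlib
import Cfsg.Agent.Lib.HallTheorem
import Cfsg.Agent.Lib.OmegaCoprime
import Cfsg.Agent.Lib.PLengthSteps

set_option autoImplicit false
open Cfsg

namespace Cfsg.Agent.S3798


open Cfsg.Agent.HallCore Cfsg.Agent.HallSolvable Cfsg.Agent.HallTheorem

universe w

theorem map_conj_mem {H : Type w} [Group H] (K : Subgroup H) (a : MulAut H)
    (ha : K.map a.toMonoidHom = K) {x : H} (hx : ∀ k ∈ K, Commute k x) :
    ∀ k ∈ K, Commute k (a x) := by
  intro k hk
  rw [← ha] at hk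
  obtain ⟨k', hk', rfl⟩ := hk
  exact (hx k' hk').map a.toMonoidHom

theorem core {H : Type w} [Group H] [Finite H] {p : ℕ} [hp : Fact p.Prime] (hp2 : p ≠ 2)
    (hdvd : p ∣ Nat.card H) (hH : Cfsg.IsPSolvable p H) (hR : Cfsg.pPrimeCore p H = ⊥)
    (htrans : ∀ U V : Subgroup H, Nat.card U = p → Nat.card V = p →
      ∃ a : MulAut H, U.map a.toMonoidHom = V) :
    (Cfsg.pCore p H).index.Coprime p := by
  classical
  set T := Cfsg.pCore p H with hT
  have hCT := centralizer_pCore_le hH hR
  have hTne : T ≠ ⊥ := by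
    intro h
    rw [← hT, h] at hCT
    have h1 : (⊤ : Subgroup H) ≤ ⊥ := le_trans (fun x _ => by
      rw [Subgroup.mem_centralizer_iff]
      rintro y hy
      rw [SetLike.mem_coe, Subgroup.mem_bot] at hy
      subst hy; simp) hCT
    have : Nat.card H = 1 := by
      rw [← Subgroup.card_top, le_bot_iff.mp h1, Subgroup.card_bot]
    rw [this] at hdvd
    exact hp.out.not_dvd_one hdvd
  have hTp : IsPGroup p T := isPGroup_pCore p H
  have : Nontrivial T := (Subgroup.nontrivial_iff_ne_bot T).mpr hTne
  have hZ : Nontrivial (Subgroup.center T) := hTp.center_nontrivial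
  obtain ⟨n, hn0, hn⟩ := (hTp.to_subgroup (Subgroup.center T)).nontrivial_iff_card.mp hZ
  obtain ⟨z, hz⟩ := exists_prime_orderOf_dvd_card' (G := Subgroup.center T) p
    (hn ▸ dvd_pow_self p (Nat.ne_of_gt hn0))
  have hzord : orderOf ((z : T) : H) = p := by
    rw [Subgroup.orderOf_coe, Subgroup.orderOf_coe]
    exact hz
  have key : ∀ (x y : H), orderOf x = p → orderOf y = p →
      ∃ (a : MulAut H) (i : ℕ), y = a (x ^ i) := by
    intro x y hx hy
    obtain ⟨a, ha⟩ := htrans (Subgroup.zpowers x) (Subgroup.zpowers y)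
      ((Nat.card_zpowers x).trans hx) ((Nat.card_zpowers y).trans hy)
    have : y ∈ (Subgroup.zpowers x).map a.toMonoidHom := by rw [ha]; exact Subgroup.mem_zpowers y
    obtain ⟨w, hw, rfl⟩ := this
    obtain ⟨i, -, rfl⟩ := Finset.mem_image.mp ((mem_zpowers_iff_mem_range_orderOf).mp hw)
    exact ⟨a, i, rfl⟩
  have hW : ∀ x : H, orderOf x = p → x ∈ T ∧ ∀ t ∈ T, Commute t x := by
    intro x hx
    obtain ⟨a, i, rfl⟩ := key _ x hzord hx
    refine ⟨?_, map_conj_mem T a (map_equiv_pCore a) ?_⟩
    · exact (map_equiv_pCore (p := p) a).le ⟨_, Subgroup.pow_mem _ (z : T).2 i, rfl⟩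
    · intro t ht
      refine Commute.pow_right ?_ i
      exact congrArg Subtype.val (Subgroup.mem_center_iff.mp z.2 ⟨t, ht⟩)
  by_contra hcop
  have hpdvd : p ∣ T.index := by
    by_contra h
    exact hcop ((hp.out.coprime_iff_not_dvd.mpr h).symm)
  -- the preimage K of O_{p'}(H/T)
  set K := (Cfsg.pPrimeCore p (H ⧸ T)).comap (QuotientGroup.mk' T) with hK
  have hTK : T ≤ K := QuotientGroup.le_comap_mk' T _
  have hKrel : T.relIndex K = Nat.card (Cfsg.pPrimeCore p (H ⧸ T)) := by
    rw [relIndex_eq_card_map, Subgroup.map_comap_eq_self_of_surjective (QuotientGroup.mk'_surjective T)]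
  have hKcop : (T.relIndex K).Coprime p := hKrel ▸ coprime_card_pPrimeCore p _
  have hKne : T.relIndex K ≠ 1 := by
    rw [hKrel]
    intro h1
    have h2 := centralizer_pCore_le (isPSolvable_quotient hH T) (Subgroup.card_eq_one.mp h1)
    rw [pCore_quotient_self p H] at h2
    have h3 : (⊤ : Subgroup (H ⧸ T)) ≤ ⊥ := le_trans (fun x _ => by
      rw [Subgroup.mem_centralizer_iff]
      rintro y hy
      rw [SetLike.mem_coe, Subgroup.mem_bot] at hy
      subst hy; simp) h2
    have : T.index = 1 := by
      rw [Subgroup.index_eq_card, ← Subgroup.card_top, le_bot_iff.mp h3, Subgroup.card_bot]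
    rw [this] at hpdvd
    exact hp.out.not_dvd_one hpdvd
  have hKn : K.Normal := inferInstance
  have hKchar : ∀ a : MulAut H, K.map a.toMonoidHom = K := by
    intro a
    have hle : K.map a.toMonoidHom ≤ K := by
      have : (K.map a.toMonoidHom).Normal := map_normal_of_surjective a.surjective
      rw [hK, ← Subgroup.map_le_iff_le_comap]
      have : ((K.map a.toMonoidHom).map (QuotientGroup.mk' T)).Normal :=
        map_normal_of_surjective (QuotientGroup.mk'_surjective T)
      refine le_pPrimeCore ?_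
      rw [← relIndex_eq_card_map]
      conv => arg 1; arg 1; rw [hT, ← map_equiv_pCore a]
      rw [Subgroup.relIndex_map_map_of_injective (H := Cfsg.pCore p H) (K := K) a.injective]
      exact hKcop
    refine Subgroup.eq_of_le_of_card_ge hle ?_
    rw [Subgroup.card_map_of_injective a.injective]
  -- a complement L
  set T' := T.subgroupOf K
  have hT'card : Nat.card T' = Nat.card T :=
    Nat.card_congr (Subgroup.subgroupOfEquivOfLe hTK).toEquiv
  obtain ⟨m, hm⟩ := IsPGroup.iff_card.mp hTp
  have hTcop : (Nat.card T').Coprime T'.index := by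
    rw [hT'card, hm]
    exact Nat.Coprime.pow_left m (show (T'.index).Coprime p from hKcop).symm
  obtain ⟨L', hL'⟩ := Subgroup.exists_right_complement'_of_coprime hTcop
  have hL'card : Nat.card L' = T.relIndex K := hL'.symm.index_eq_card.symm
  have hL'hall : Cfsg.IsPiHall ({p}ᶜ : Set ℕ) L' := by
    refine ⟨fun q hq hd => ?_, fun q hq hmem hd => ?_⟩
    · intro h
      rw [Set.mem_singleton_iff] at h
      subst h
      rw [hL'card] at hd
      exact (hq.coprime_iff_not_dvd.mp hKcop.symm) hd
    · rw [hL'.index_eq_card, hT'card, hm] at hd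
      exact hmem ((Nat.prime_dvd_prime_iff_eq hq hp.out).mp (hq.dvd_of_dvd_pow hd))
  set L := L'.map K.subtype with hL
  have hLK : L ≤ K := Subgroup.map_subtype_le L'
  have hLcard : Nat.card L = T.relIndex K := by
    rw [hL, Subgroup.card_map_of_injective K.subtype_injective, hL'card]
  have hLT : L ⊓ T = ⊥ := by
    apply disjoint_of_coprime_card
    rw [hLcard, hm]
    exact hKcop.pow_right m
  have hTLK : L ⊔ T = K := by
    have h1 : (L' ⊔ T').map K.subtype = K := by
      rw [sup_comm, hL'.sup_eq_top, ← MonoidHom.range_eq_map, K.range_subtype]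
    rwa [Subgroup.map_sup, Subgroup.subgroupOf_map_subtype, inf_eq_left.mpr hTK] at h1
  -- no element of order p centralizes L
  have hnofix : ∀ x : H, orderOf x = p → ¬ (∀ l ∈ L, Commute l x) := by
    intro x hx hxL
    have hxK : ∀ k ∈ K, Commute k x := by
      have h1 : K ≤ Subgroup.centralizer ({x} : Set H) := by
        rw [← hTLK]
        refine sup_le (fun l hl => ?_) (fun t ht => ?_)
        · exact Subgroup.mem_centralizer_singleton_iff.mpr (hxL l hl).eq
        · exact Subgroup.mem_centralizer_singleton_iff.mpr ((hW x hx).2 t ht).eq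
      intro k hk
      exact Subgroup.mem_centralizer_singleton_iff.mp (h1 hk)
    have hall : ∀ y : H, y ^ p = 1 → ∀ k ∈ K, Commute k y := by
      intro y hy
      by_cases hy1 : y = 1
      · subst hy1; exact fun k _ => Commute.one_right k
      obtain ⟨a, i, rfl⟩ := key x y hx (orderOf_eq_prime hy hy1)
      exact map_conj_mem K a (hKchar a) (fun k hk => (hxK k hk).pow_right i)
    have hLC : L ≤ T := by
      intro l hl
      refine hCT (Subgroup.mem_centralizer_iff.mpr fun t ht => ?_)
      have hlcop : (orderOf l).Coprime p := by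
        refine hKcop.coprime_dvd_left ?_
        rw [← hLcard, ← Subgroup.orderOf_mk l hl]
        exact orderOf_dvd_natCard _
      exact (Cfsg.Agent.OmegaCoprime.commute_of_forall_pow_eq_one hp2 hlcop T hTp
        (fun y hy => (pCore_normal p H).conj_mem y hy l)
        (fun y _ hy => hall y hy l (hLK hl)) t ht).symm.eq
    rw [inf_eq_left.mpr hLC] at hLT
    rw [hLT, Subgroup.card_bot] at hLcard
    exact hKne hLcard.symm
  -- Frattini argument
  have hfr : (Subgroup.normalizer (L : Set H)) ⊔ T = ⊤ := by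
    rw [Subgroup.eq_top_iff']
    intro g
    set Lg := L.map (MulAut.conj g).toMonoidHom with hLg
    have hLgK : Lg ≤ K := by
      rintro _ ⟨l, hl, rfl⟩
      exact hKn.conj_mem l (hLK hl) g
    have hLgcard : Nat.card (Lg.subgroupOf K) = Nat.card L' := by
      rw [Nat.card_congr (Subgroup.subgroupOfEquivOfLe hLgK).toEquiv, hLg,
        Subgroup.card_map_of_injective (MulAut.conj g).injective, hLcard, hL'card]
    have hLghall : Cfsg.IsPiHall ({p}ᶜ : Set ℕ) (Lg.subgroupOf K) :=
      isPiHall_of_card_eq hL'hall hLgcard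
    obtain ⟨k, hk⟩ := isPiHall_conjugate
      ((((isPSolvable_iff p).mp hH).to_subgroup K).compl) (complSolvable_compl_singleton hp.out)
      hL'hall hLghall
    -- conj k L = conj g L
    have hk' : L.map (MulAut.conj (k : H)).toMonoidHom = Lg := by
      have h1 := congrArg (Subgroup.map K.subtype) hk
      rw [Subgroup.subgroupOf_map_subtype, inf_eq_left.mpr hLgK, map_conj_smul] at h1
      rw [← h1, conj_smul_eq_map]
      rfl
    have hn : (k : H)⁻¹ * g ∈ Subgroup.normalizer (L : Set H) := by
      have hmap : L.map (MulAut.conj ((k : H)⁻¹ * g)).toMonoidHom = L := by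
        rw [map_mul]
        rw [show (MulAut.conj (k : H)⁻¹ * MulAut.conj g).toMonoidHom =
          (MulAut.conj (k : H)⁻¹).toMonoidHom.comp (MulAut.conj g).toMonoidHom from rfl,
          ← Subgroup.map_map, ← hLg, ← hk', Subgroup.map_map]
        conv_rhs => rw [← Subgroup.map_id L]
        congr 1
        ext x
        simp [mul_assoc]
      rw [Subgroup.mem_normalizer_iff]
      intro x
      constructor
      · intro hx
        have := Subgroup.mem_map_of_mem (MulAut.conj ((k : H)⁻¹ * g)).toMonoidHom hx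
        rw [hmap] at this
        simpa [mul_assoc] using this
      · intro hx
        rw [← hmap] at hx
        obtain ⟨y, hy, hxy⟩ := hx
        have : y = x := (MulAut.conj ((k : H)⁻¹ * g)).injective hxy
        rwa [← this]
    have hKle : K ≤ Subgroup.normalizer (L : Set H) ⊔ T := by
      rw [← hTLK]
      exact sup_le (Subgroup.le_normalizer.trans le_sup_left) le_sup_right
    have := mul_mem (hKle k.2) ((le_sup_left : _ ≤ Subgroup.normalizer (L : Set H) ⊔ T) hn)
    simpa using this
  have hdN : p ∣ Nat.card (Subgroup.normalizer (L : Set H)) := by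
    have h1 : T.index = T.relIndex (Subgroup.normalizer (L : Set H)) := by
      rw [← Subgroup.relIndex_top_right, ← hfr, Subgroup.relIndex_sup_right]
    rw [h1] at hpdvd
    exact hpdvd.trans (Subgroup.relIndex_dvd_card _ _)
  obtain ⟨x, hx⟩ := exists_prime_orderOf_dvd_card' p hdN
  have hx' : orderOf (x : H) = p := by rw [Subgroup.orderOf_coe, hx]
  refine hnofix _ hx' fun l hl => ?_
  have h1 : l * x * l⁻¹ * (x : H)⁻¹ ∈ T :=
    mul_mem ((pCore_normal p H).conj_mem _ (hW _ hx').1 l) (inv_mem (hW _ hx').1)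
  have h2 : l * x * l⁻¹ * (x : H)⁻¹ ∈ L := by
    have h3 : (x : H) * l⁻¹ * (x : H)⁻¹ ∈ L := (Subgroup.mem_normalizer_iff.mp x.2 _).mp (inv_mem hl)
    simpa [mul_assoc] using mul_mem hl h3
  have h4 : l * x * l⁻¹ * (x : H)⁻¹ ∈ L ⊓ T := ⟨h2, h1⟩
  rw [hLT, Subgroup.mem_bot] at h4
  exact mul_inv_eq_iff_eq_mul.mp (mul_inv_eq_one.mp h4)

/-- The Gaschütz–Yen Theorem: let G be a finite p-soluble group, p an odd prime dividing its order, such that the automorphism group of G permutes the subgroups of G of order p transitively. Then G has p-length at most 1. -/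
theorem result {G : Type*} [Group G] [Finite G] {p : ℕ} [Fact p.Prime] (hp : p ≠ 2) (hdvd : p ∣ Nat.card G) (hG : Cfsg.IsPSolvable p G) (htrans : ∀ U V : Subgroup G, Nat.card U = p → Nat.card V = p → ∃ a : MulAut G, U.map a.toMonoidHom = V) : Cfsg.PLengthLE p 1 G := by
  set R := Cfsg.pPrimeCore p G with hR
  have hp' := (Fact.out : p.Prime)
  have hRcop : (Nat.card R).Coprime p := coprime_card_pPrimeCore p G
  have hdvd' : p ∣ Nat.card (G ⧸ R) := by
    rw [← Subgroup.index_eq_card]
    rw [← R.card_mul_index] at hdvd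
    exact (Nat.Coprime.dvd_mul_left hRcop.symm).mp hdvd
  have hlift : ∀ U : Subgroup (G ⧸ R), Nat.card U = p →
      ∃ x : G, orderOf x = p ∧ (Subgroup.zpowers x).map (QuotientGroup.mk' R) = U := by
    intro U hU
    have hc := card_comap_mk' R U
    obtain ⟨x, hx⟩ := exists_prime_orderOf_dvd_card' (G := U.comap (QuotientGroup.mk' R)) p
      (by rw [← hc, hU]; exact dvd_mul_right _ _)
    have hx' : orderOf (x : G) = p := by rw [Subgroup.orderOf_coe, hx]
    refine ⟨x, hx', ?_⟩
    have hxR : (x : G) ∉ R := by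
      intro h
      have h1 : p ∣ Nat.card R := by
        rw [← hx', ← Subgroup.orderOf_mk (x : G) h]
        exact orderOf_dvd_natCard _
      exact hp'.coprime_iff_not_dvd.mp hRcop.symm h1
    rw [MonoidHom.map_zpowers]
    refine Subgroup.eq_of_le_of_card_ge (Subgroup.zpowers_le.mpr x.2) ?_
    rw [hU, Nat.card_zpowers]
    refine Nat.le_of_dvd (orderOf_pos _) (dvd_of_eq ?_)
    refine (orderOf_eq_prime ?_ ?_).symm
    · have h1 := pow_orderOf_eq_one (x : G)
      rw [hx'] at h1
      rw [← map_pow, h1, map_one]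
    · rw [QuotientGroup.mk'_apply, Ne, QuotientGroup.eq_one_iff]
      exact hxR
  have := core hp hdvd' (isPSolvable_quotient hG R) (pPrimeCore_quotient_self p G) (by
    intro U V hU hV
    obtain ⟨x, hx, hxU⟩ := hlift U hU
    obtain ⟨y, hy, hyV⟩ := hlift V hV
    obtain ⟨a, ha⟩ := htrans (Subgroup.zpowers x) (Subgroup.zpowers y)
      ((Nat.card_zpowers x).trans hx) ((Nat.card_zpowers y).trans hy)
    refine ⟨QuotientGroup.congr R R a (map_equiv_pPrimeCore a), ?_⟩
    rw [← hxU, ← hyV, ← ha, Subgroup.map_map, Subgroup.map_map]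
    rfl)
  refine Cfsg.Agent.PLengthSteps.pLengthLE_one ?_
  unfold Cfsg.pPrimePCore
  rwa [Subgroup.index_comap_of_surjective _ (QuotientGroup.mk'_surjective _)]

end Cfsg.Agent.S3798
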