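import Cfsg.Statements.S3799
import Cfsg.Agent.Lib.PGroupsBasic

set_option autoImplicit false
open Cfsg

namespace Cfsg.Agent.S3799

open Subgroup Cfsg.Agent.PGroupsBasic Matrix
open scoped commutatorElement

variable {p n : ℕ}

abbrev Idx (n : ℕ) := Unit ⊕ (Fin n ⊕ Unit)
abbrev T (p n : ℕ) := (Fin n → ZMod p) × (Fin n → ZMod p) × ZMod p

def mat (t : T p n) : Matrix (Idx n) (Idx n) (ZMod p) := Matrix.of fun i j =>
  match i, j with
  | Sum.inl _, Sum.inl _ => 1
  | Sum.inl _, Sum.inr (Sum.inl j) => t.1 j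
  | Sum.inl _, Sum.inr (Sum.inr _) => t.2.2
  | Sum.inr (Sum.inl i), Sum.inr (Sum.inl j) => if i = j then 1 else 0
  | Sum.inr (Sum.inl i), Sum.inr (Sum.inr _) => t.2.1 i
  | Sum.inr (Sum.inr _), Sum.inr (Sum.inr _) => 1
  | _, _ => 0

def mul (t u : T p n) : T p n := (t.1 + u.1, t.2.1 + u.2.1, t.2.2 + u.2.2 + t.1 ⬝ᵥ u.2.1)

theorem mat_mul (t u : T p n) : mat t * mat u = mat (mul t u) := by
  ext i j
  rcases i with _ | i | _ <;> rcases j with _ | j | _ <;>
    simp [mat, mul, Matrix.mul_apply, Fintype.sum_sum_type, dotProduct] <;> ring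

theorem mat_zero : mat (0 : T p n) = 1 := by
  ext i j
  rcases i with _ | i | _ <;> rcases j with _ | j | _ <;> simp [mat, Matrix.one_apply]

theorem mat_injective : Function.Injective (mat : T p n → _) := by
  intro t u h
  refine Prod.ext (funext fun j => ?_) (Prod.ext (funext fun i => ?_) ?_)
  · simpa [mat] using congr_fun₂ h (Sum.inl ()) (Sum.inr (Sum.inl j))
  · simpa [mat] using congr_fun₂ h (Sum.inr (Sum.inl i)) (Sum.inr (Sum.inr ()))
  · simpa [mat] using congr_fun₂ h (Sum.inl ()) (Sum.inr (Sum.inr ()))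

noncomputable def idxEquiv (n : ℕ) : Fin (n + 2) ≃ Idx n :=
  Fintype.equivOfCardEq (by simp; omega)

noncomputable def mat2 (t : T p n) : Matrix (Fin (n + 2)) (Fin (n + 2)) (ZMod p) :=
  (mat t).submatrix (idxEquiv n) (idxEquiv n)

theorem mat2_mul (t u : T p n) : mat2 t * mat2 u = mat2 (mul t u) := by
  rw [mat2, mat2, Matrix.submatrix_mul_equiv, mat_mul]; rfl

theorem mat2_zero : mat2 (0 : T p n) = 1 := by
  rw [mat2, mat_zero, Matrix.submatrix_one_equiv]

theorem mat2_injective : Function.Injective (mat2 : T p n → _) := by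
  intro t u h
  refine mat_injective (Matrix.ext fun i j => ?_)
  have := congr_fun₂ h ((idxEquiv n).symm i) ((idxEquiv n).symm j)
  simpa [mat2] using this

def inv (t : T p n) : T p n := (-t.1, -t.2.1, -t.2.2 + t.1 ⬝ᵥ t.2.1)

theorem mul_inv (t : T p n) : mul t (inv t) = 0 := by
  simp [mul, inv]

theorem inv_mul (t : T p n) : mul (inv t) t = 0 := by
  simp [mul, inv]

noncomputable def elt (t : T p n) : GL (Fin (n + 2)) (ZMod p) where
  val := mat2 t
  inv := mat2 (inv t)
  val_inv := by rw [mat2_mul, mul_inv, mat2_zero]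
  inv_val := by rw [mat2_mul, inv_mul, mat2_zero]

theorem elt_mul (t u : T p n) : elt t * elt u = elt (mul t u) := Units.ext (mat2_mul t u)

noncomputable def heis (p n : ℕ) : Subgroup (GL (Fin (n + 2)) (ZMod p)) where
  carrier := Set.range elt
  mul_mem' := by rintro _ _ ⟨t, rfl⟩ ⟨u, rfl⟩; exact ⟨mul t u, (elt_mul t u).symm⟩
  one_mem' := ⟨0, Units.ext mat2_zero⟩
  inv_mem' := by
    rintro _ ⟨t, rfl⟩
    exact ⟨inv t, Units.ext rfl⟩

noncomputable def toE (t : T p n) : heis p n := ⟨elt t, t, rfl⟩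

theorem toE_bijective : Function.Bijective (toE : T p n → heis p n) :=
  ⟨fun _ _ h => mat2_injective (congrArg (fun x : heis p n => (x.1 : Matrix (Fin (n + 2)) (Fin (n + 2)) (ZMod p))) h),
    fun ⟨_, t, rfl⟩ => ⟨t, rfl⟩⟩

theorem toE_mul (t u : T p n) : toE t * toE u = toE (mul t u) := Subtype.ext (elt_mul t u)

theorem toE_pow (t : T p n) (m : ℕ) :
    toE t ^ m = toE (m • t.1, m • t.2.1, m • t.2.2 + (m.choose 2) • (t.1 ⬝ᵥ t.2.1)) := by
  induction m with
  | zero => rw [pow_zero]; refine Subtype.ext (Units.ext ?_); simp [toE, elt]; exact mat2_zero.symm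
  | succ m ih =>
    rw [pow_succ, ih, toE_mul]
    congr 1
    simp only [mul, Nat.choose_succ_succ, Nat.choose_one_right, add_smul, one_smul, smul_dotProduct]
    refine Prod.ext rfl (Prod.ext rfl ?_)
    ring

theorem toE_mem_center_iff (t : T p n) :
    toE t ∈ center (heis p n) ↔ t.1 = 0 ∧ t.2.1 = 0 := by
  refine ⟨fun h => ?_, fun h => mem_center_iff.mpr fun g => ?_⟩
  · have key : ∀ u : T p n, u.1 ⬝ᵥ t.2.1 = t.1 ⬝ᵥ u.2.1 := by
      intro u
      have h1 := mem_center_iff.mp h (toE u)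
      rw [toE_mul, toE_mul] at h1
      have h2 := congrArg (fun v : T p n => v.2.2) (toE_bijective.1 h1)
      simp only [mul] at h2
      linear_combination h2
    refine ⟨funext fun i => ?_, funext fun i => ?_⟩
    · simpa [eq_comm] using key (0, Pi.single i 1, 0)
    · simpa using key (Pi.single i 1, 0, 0)
  · obtain ⟨u, rfl⟩ := toE_bijective.2 g
    rw [toE_mul, toE_mul]
    congr 1
    simp only [mul, h.1, h.2, dotProduct_zero, zero_dotProduct]
    refine Prod.ext (by simp) (Prod.ext (by simp) (by ring))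

theorem card_heis [Fact p.Prime] : Nat.card (heis p n) = p ^ (1 + 2 * n) := by
  rw [← Nat.card_eq_of_bijective _ toE_bijective]
  simp [Nat.card_prod, Nat.card_fun]
  ring

theorem isExtraspecial_heis [hp : Fact p.Prime] (hp2 : p ≠ 2) (hn : 1 ≤ n) :
    Cfsg.IsExtraspecial p (heis p n) ∧ ∀ g : heis p n, g ^ p = 1 := by
  have hexp : ∀ g : heis p n, g ^ p = 1 := by
    intro g
    obtain ⟨t, rfl⟩ := toE_bijective.2 g
    rw [toE_pow]
    have : ((p.choose 2 : ℕ) : ZMod p) = 0 :=
      (ZMod.natCast_eq_zero_iff _ _).mpr (hp.out.dvd_choose_self (by omega) (by have := hp.out.two_le; omega))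
    simp only [nsmul_eq_mul, CharP.cast_eq_zero, zero_mul, this, add_zero]
    refine Subtype.ext (Units.ext ?_)
    show mat2 _ = 1
    rw [← mat2_zero (p := p) (n := n)]
    congr 1
    ext <;> simp
  have hP : IsPGroup p (heis p n) := IsPGroup.of_card card_heis
  have hcc : Nat.card (center (heis p n)) = p := by
    let f : ZMod p → center (heis p n) := fun z => ⟨toE (0, 0, z), (toE_mem_center_iff _).mpr ⟨rfl, rfl⟩⟩
    have hf : Function.Bijective f := by
      constructor
      · intro a b h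
        simpa using toE_bijective.1 (congrArg Subtype.val h)
      · rintro ⟨g, hg⟩
        obtain ⟨⟨a, b, z⟩, rfl⟩ := toE_bijective.2 g
        obtain ⟨h1, h2⟩ := (toE_mem_center_iff _).mp hg
        simp only at h1 h2
        subst h1; subst h2
        exact ⟨z, rfl⟩
    rw [← Nat.card_eq_of_bijective f hf, Nat.card_zmod]
  have hcle : commutator (heis p n) ≤ center (heis p n) := by
    rw [_root_.commutator_def, commutator_le]
    intro a _ b _
    obtain ⟨t, rfl⟩ := toE_bijective.2 a
    obtain ⟨u, rfl⟩ := toE_bijective.2 b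
    have h : toE t * toE u = toE (0, 0, t.1 ⬝ᵥ u.2.1 - u.1 ⬝ᵥ t.2.1) * (toE u * toE t) := by
      rw [toE_mul, toE_mul, toE_mul]
      congr 1
      simp only [mul, zero_dotProduct]
      refine Prod.ext (by abel) (Prod.ext (by abel) (by ring))
    have h2 : ⁅toE t, toE u⁆ = toE (0, 0, t.1 ⬝ᵥ u.2.1 - u.1 ⬝ᵥ t.2.1) := by
      rw [commutatorElement_def, h]; group
    rw [h2]
    exact (toE_mem_center_iff _).mpr ⟨rfl, rfl⟩
  have hceq : commutator (heis p n) = center (heis p n) := by
    refine (le_or_inf_eq_bot hcc (commutator (heis p n))).elim (fun h => le_antisymm hcle h) fun h => ?_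
    exfalso
    rw [inf_eq_right.mpr hcle, _root_.commutator_def, commutator_eq_bot_iff_le_centralizer] at h
    have h1 : toE ((Pi.single ⟨0, hn⟩ 1, 0, 0) : T p n) ∈ center (heis p n) :=
      mem_center_iff.mpr fun g => mem_centralizer_iff.mp (h (mem_top _)) g (mem_top g)
    simpa using ((toE_mem_center_iff _).mp h1).1
  refine ⟨⟨⟨hP, le_antisymm ?_ ?_, hceq⟩, hcc⟩, hexp⟩
  · exact frattini_le_of_elementary_quotient (p := p) (N := center (heis p n)) hcle
      fun g => by rw [hexp]; exact one_mem _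
  · rw [← hceq]; exact commutator_le_frattini hP

/-- For every odd prime p and every n ≥ 1 there is an extraspecial p-group of order p^(1+2n) and exponent p; concretely, the general linear group of degree n + 2 over the field with p elements contains such a subgroup. -/
theorem result (p : ℕ) [Fact p.Prime] (hp : p ≠ 2) (n : ℕ) (hn : 1 ≤ n) : ∃ E : Subgroup (Matrix.GeneralLinearGroup (Fin (n + 2)) (ZMod p)), Cfsg.IsExtraspecial p ↥E ∧ Nat.card E = p ^ (1 + 2 * n) ∧ ∀ x ∈ E, x ^ p = 1 := by
  refine ⟨heis p n, (isExtraspecial_heis hp hn).1, card_heis, fun x hx => ?_⟩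
  exact congrArg Subtype.val ((isExtraspecial_heis hp hn).2 ⟨x, hx⟩)

end Cfsg.Agent.S3799
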