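import Cfsg.Statements.S3800
import Cfsg.Agent.Lib.CoprimeTools
-- import your own Cfsg.Agent.* helpers here

set_option autoImplicit false
open Cfsg

namespace Cfsg.Agent.S3800

open scoped Pointwise commutatorElement
open Cfsg.Agent.CoprimeSZ Cfsg.Agent.CoprimeAction Cfsg.Agent.CoprimeGen Cfsg.Agent.CoprimeExtra Cfsg.Agent.CoprimeTools


/-- Let G be a finite group, N a normal subgroup of G whose order is prime to p, and P a p-subgroup of G. Then in G/N the normalizer of the image of P is the image of N_G(P), and the centralizer of the image of P is the image of C_G(P). -/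
theorem result {G : Type*} [Group G] [Finite G] {p : ℕ} [Fact p.Prime] (N : Subgroup G) [N.Normal] (hN : (Nat.card N).Coprime p) (P : Subgroup G) (hP : IsPGroup p P) : Subgroup.normalizer ((P.map (QuotientGroup.mk' N)) : Set (G ⧸ N)) = (Subgroup.normalizer (P : Set G)).map (QuotientGroup.mk' N) ∧ Subgroup.centralizer ((P.map (QuotientGroup.mk' N)) : Set (G ⧸ N)) = (Subgroup.centralizer (P : Set G)).map (QuotientGroup.mk' N) := by
  have hp : p.Prime := Fact.out
  set π := QuotientGroup.mk' N
  have hcop : (Nat.card P).Coprime (Nat.card N) := by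
    obtain ⟨m, hm⟩ := IsPGroup.iff_card.1 hP
    rw [hm]
    exact Nat.Coprime.pow_left _ hN.symm
  have hPN : P ≤ Subgroup.normalizer (N : Set G) := by
    rw [Subgroup.normalizer_eq_top_iff.2 inferInstance]; exact le_top
  have hs : Group.IsSolvable P ∨ Group.IsSolvable N := Or.inl (isSolvable_of_isPGroup hP)
  constructor
  · refine le_antisymm (fun y hy => ?_) (Subgroup.le_normalizer_map π)
    induction y using QuotientGroup.induction_on with
    | H g =>
      have h1 : MulAut.conj g • P ≤ N ⊔ P := by
        have h2 : (MulAut.conj g • P).map π = P.map π := by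
          rw [map_conj_smul]; exact conj_smul_eq_self hy
        have h3 := Subgroup.le_comap_map π (MulAut.conj g • P)
        rwa [h2, Subgroup.comap_map_eq, QuotientGroup.ker_mk', sup_comm] at h3
      obtain ⟨n, hn, hnP⟩ := exists_conj_of_card_eq hPN hcop hs h1 (card_conj_smul g P)
      refine ⟨n⁻¹ * g, mem_normalizer_of_conj_smul_eq ?_, ?_⟩
      · rw [conj_smul_mul, ← hnP, ← conj_smul_mul, inv_mul_cancel, map_one, one_smul]
      · rw [map_mul, map_inv, show π n = 1 from (QuotientGroup.eq_one_iff n).2 hn, inv_one, one_mul]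
        rfl
  · refine le_antisymm (fun y hy => ?_) ?_
    · induction y using QuotientGroup.induction_on with
      | H g =>
        obtain ⟨c, hc, hgc⟩ := exists_fixed_mem_coset hPN hcop hs g (fun a ha => by
          have h1 := Subgroup.mem_centralizer_iff.1 hy (π a) (Subgroup.mem_map_of_mem π ha)
          change π a * π g = π g * π a at h1
          rw [← QuotientGroup.eq_one_iff]
          change π (g⁻¹ * a * g * a⁻¹) = 1
          calc π (g⁻¹ * a * g * a⁻¹) = (π g)⁻¹ * (π a * π g) * (π a)⁻¹ := by simp [mul_assoc]
            _ = 1 := by rw [h1]; simp)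
        refine ⟨c, hc, ?_⟩
        exact (QuotientGroup.eq.2 hgc).symm
    · rintro _ ⟨c, hc, rfl⟩
      rw [Subgroup.mem_centralizer_iff]
      rintro _ ⟨a, ha, rfl⟩
      rw [← map_mul, ← map_mul, Subgroup.mem_centralizer_iff.1 hc a ha]

end Cfsg.Agent.S3800
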