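import Cfsg.Statements.S3802
import Mathlib
import Cfsg.Agent.Lib.SubnormalJoin

set_option autoImplicit false
open Cfsg

namespace Cfsg.Agent.S3802

open scoped Pointwise

/-- Let G be a finite group, M a maximal subgroup of G and N a subnormal subgroup of G contained in M. Then N is contained in every conjugate of M, that is, N lies in the core of M in G. -/
theorem result {G : Type*} [Group G] [Finite G] (M N : Subgroup G) (hM : IsCoatom M) (hN : N.IsSubnormal) (hNM : N ≤ M) :
    N ≤ Subgroup.normalCore M := by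
  obtain ⟨J, ⟨hJ, hNJ, hJM⟩, hmax⟩ :=
    (Set.toFinite {J : Subgroup G | J.IsSubnormal ∧ N ≤ J ∧ J ≤ M}).exists_maximal ⟨N, hN, le_rfl, hNM⟩
  have habs : ∀ K : Subgroup G, K.IsSubnormal → K ≤ M → K ≤ J := fun K hK hKM =>
    le_sup_right.trans (hmax ⟨Cfsg.Agent.SubnormalJoin.isSubnormal_sup hJ hK, hNJ.trans le_sup_left,
      sup_le hJM hKM⟩ le_sup_left)
  have hMN : M ≤ Subgroup.normalizer (J : Set G) := by
    intro m hm
    refine Cfsg.Agent.SubnormalJoin.mem_normalizer_of_conj_smul_eq ?_
    refine Subgroup.eq_of_le_of_card_ge (habs _ (hJ.smul _) ?_) ?_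
    · intro x hx
      rw [Subgroup.mem_pointwise_smul_iff_inv_smul_mem] at hx
      have h1 : m⁻¹ * x * m ∈ M := hJM (by simpa [MulAut.smul_def] using hx)
      simpa [mul_assoc] using M.mul_mem (M.mul_mem hm h1) (M.inv_mem hm)
    · exact le_of_eq (Nat.card_congr (Subgroup.equivSMul (MulAut.conj m) J).toEquiv)
  by_cases hn : J.Normal
  · exact (hNJ.trans (Subgroup.normal_le_normalCore.mpr hJM))
  exfalso
  have hnorm : Subgroup.normalizer (J : Set G) = M := by
    rcases hM.le_iff.mp hMN with h | h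
    · exact absurd (Subgroup.normalizer_eq_top_iff.mp h) hn
    · exact h
  obtain ⟨g, hg, hgle⟩ := Cfsg.Agent.SubnormalJoin.exists_conj_le_normalizer hJ hn
  exact hg (Subgroup.eq_of_le_of_card_ge (habs _ (hJ.smul _) (hgle.trans hnorm.le))
    (le_of_eq (Nat.card_congr (Subgroup.equivSMul (MulAut.conj g) J).toEquiv)))

end Cfsg.Agent.S3802
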