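import Cfsg.Statements.S3803
import Mathlib
import Cfsg.Agent.Lib.CoprimeAction
import Cfsg.Agent.Lib.PGroupsBasic
import Cfsg.Agent.Lib.OmegaCoprime

set_option autoImplicit false
open Cfsg

namespace Cfsg.Agent.S3803


open Subgroup

universe w

variable {G : Type w} [Group G] [Finite G]

/-- An element of odd order normalizing a cyclic `2`-subgroup centralizes it. -/
theorem commute_cyclic : ∀ (n : ℕ) {a w : G}, Odd (orderOf a) → w ^ 2 ^ n = 1 →
    a * w * a⁻¹ ∈ zpowers w → Commute a w := by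
  intro n
  classical
  induction n with
  | zero =>
    intro a w _ hw _
    rw [pow_zero, pow_one] at hw
    subst hw
    exact Commute.one_right a
  | succ n ih =>
    intro a w ha hw hmem
    by_cases hw1 : w ^ 2 ^ n = 1
    · exact ih ha hw1 hmem
    have : Fact (Nat.Prime 2) := ⟨Nat.prime_two⟩
    have hord : orderOf w = 2 ^ (n + 1) := orderOf_eq_prime_pow hw1 hw
    obtain ⟨i, -, hi⟩ := Finset.mem_image.mp (mem_zpowers_iff_mem_range_orderOf.mp hmem)
    have hord' : orderOf (a * w * a⁻¹) = orderOf w := by simpa using (MulAut.conj a).orderOf_eq w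
    have hiodd : Odd i := by
      rcases Nat.even_or_odd i with he | ho
      · exfalso
        rw [even_iff_two_dvd] at he
        obtain ⟨j, rfl⟩ := he
        have h1 : (a * w * a⁻¹) ^ 2 ^ n = 1 := by
          rw [← hi, ← pow_mul, mul_right_comm, ← pow_succ', pow_mul, hw, one_pow]
        rw [← orderOf_dvd_iff_pow_eq_one, hord', hord] at h1
        have := (Nat.pow_dvd_pow_iff_le_right (by norm_num)).mp h1
        omega
      · exact ho
    obtain ⟨j, rfl⟩ := hiodd
    have hw2 : (w ^ 2) ^ 2 ^ n = 1 := by rw [← pow_mul, ← pow_succ', hw]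
    have hw2mem : a * w ^ 2 * a⁻¹ ∈ zpowers (w ^ 2) := by
      refine Subgroup.mem_zpowers_iff.mpr ⟨((2 * j + 1 : ℕ) : ℤ), ?_⟩
      rw [zpow_natCast, ← conj_pow, ← hi, pow_right_comm]
    have hc := ih ha hw2 hw2mem
    have hfix : a * (w ^ 2) ^ j * a⁻¹ = (w ^ 2) ^ j := by rw [(hc.pow_right j).eq, mul_inv_cancel_right]
    have h1 : (w ^ 2) ^ j = 1 := by
      refine OmegaCoprime.eq_one_of_fixed_comm (p := 2) ((Nat.coprime_two_right).mpr ha) (x := w) ?_ hfix
        ⟨n, by rw [← pow_mul, mul_comm, pow_mul, hw2, one_pow]⟩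
      rw [← hi, ← pow_mul, ← pow_succ']
    have h2 : a * w * a⁻¹ = w := by rw [← hi, pow_succ, pow_mul, h1, one_mul]
    exact mul_inv_eq_iff_eq_mul.mp h2

theorem main {a : G} (ha : Odd (orderOf a)) {d : ℕ} (hd1 : 1 < d) (P : Subgroup G)
    (hP : IsPGroup 2 P) (hn : ∀ x ∈ P, a * x * a⁻¹ ∈ P) (hd : d < Nat.card P) (hd2 : ∃ δ, d = 2 ^ δ)
    (hinv : ∀ E : Subgroup G, E ≤ P → (Nat.card E = d ∨ (d = 2 ∧ Nat.card E = 4)) →
      ∀ x ∈ E, a * x * a⁻¹ ∈ E) :
    ∀ x ∈ P, Commute a x := by
  classical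
  induction P using WellFoundedLT.induction with
  | ind P ih =>
  have : Fact (Nat.Prime 2) := ⟨Nat.prime_two⟩
  obtain ⟨δ, hδ⟩ := hd2
  have hδ1 : 1 ≤ δ := by
    by_contra h
    obtain rfl : δ = 0 := by omega
    simp [hδ] at hd1
  obtain ⟨m, hm⟩ := IsPGroup.iff_card.mp hP
  have hδm : δ + 1 ≤ m := by
    rw [hδ, hm] at hd
    exact (Nat.pow_lt_pow_iff_right (by norm_num)).mp hd
  have hnP : zpowers a ≤ Subgroup.normalizer (P : Set G) := by
    rw [zpowers_le]
    exact Subgroup.mem_normalizer_iff.mpr fun x => ⟨hn x, fun hx => by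
        have h : ∀ k : ℕ, ∀ y ∈ P, a ^ k * y * (a ^ k)⁻¹ ∈ P := by
          intro k
          induction k with
          | zero => intro y hy; simpa using hy
          | succ k ihk =>
            intro y hy
            have : a ^ (k + 1) * y * (a ^ (k + 1))⁻¹ = a * (a ^ k * y * (a ^ k)⁻¹) * a⁻¹ := by
              rw [pow_succ']; group
            rw [this]
            exact hn _ (ihk y hy)
        have h1 := h (orderOf a - 1) _ hx
        have h2 : a ^ (orderOf a - 1) = a⁻¹ := by
          apply eq_inv_of_mul_eq_one_left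
          rw [← pow_succ, Nat.sub_add_cancel (orderOf_pos a), pow_orderOf_eq_one]
        rw [h2] at h1
        simpa [mul_assoc] using h1⟩
  -- a subgroup of order `d` between any subgroup of small order and P
  have hext : ∀ (n : ℕ) (S T : Subgroup G), n ≤ m → T ≤ P → S ≤ T → Nat.card S ≤ 2 ^ n →
      2 ^ n ≤ Nat.card T → ∃ E : Subgroup G, S ≤ E ∧ E ≤ T ∧ Nat.card E = 2 ^ n := by
    intro n S T _ hTP hST hS hT
    obtain ⟨s, hs⟩ := IsPGroup.iff_card.mp (hP.to_le (hST.trans hTP))
    obtain ⟨t, ht⟩ := IsPGroup.iff_card.mp (hP.to_le hTP)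
    rw [hs] at hS
    rw [ht] at hT
    have hS' := (Nat.pow_le_pow_iff_right (show 1 < 2 by norm_num)).mp hS
    have hT' := (Nat.pow_le_pow_iff_right (show 1 < 2 by norm_num)).mp hT
    obtain ⟨E, hE, hSE⟩ := Sylow.exists_subgroup_card_pow_prime_le 2
      (G := T) (m := n) (n := s) (ht ▸ pow_dvd_pow 2 hT') (S.subgroupOf T)
      (by rw [Nat.card_congr (Subgroup.subgroupOfEquivOfLe hST).toEquiv, hs]) hS'
    refine ⟨E.map T.subtype, ?_, Subgroup.map_subtype_le E, by
      rw [Subgroup.card_map_of_injective T.subtype_injective, hE]⟩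
    intro x hx
    exact ⟨⟨x, hST hx⟩, hSE hx, rfl⟩
  have hcyc : ∀ w ∈ P, a * w * a⁻¹ ∈ zpowers w → Commute a w := by
    intro w hw hmem
    obtain ⟨k, hk⟩ := hP ⟨w, hw⟩
    exact commute_cyclic k ha (by simpa [Subtype.ext_iff] using hk) hmem
  -- the Frattini criterion
  have hfrat : ∀ R : Subgroup G, R < P → Nat.card P = 2 * d →
      ∀ x ∈ P, Commute a x := by
    intro _ _ h2d
    have hcen := CoprimeAction.le_centralizer_of_frattini (A := zpowers a) (K := P) hnP ?_ ?_
    · intro x hx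
      exact (Subgroup.mem_centralizer_iff.mp (hcen (mem_zpowers a)) x hx).symm
    · rw [Nat.card_zpowers]
      obtain ⟨j, hj⟩ := IsPGroup.iff_card.mp (hP.to_subgroup (frattini P))
      rw [hj]
      exact ((Nat.coprime_two_right).mpr ha).pow_right j
    · intro b hb k hk
      have hbn : ∀ x ∈ P, b * x * b⁻¹ ∈ P := fun x hx =>
        (Subgroup.mem_normalizer_iff.mp (hnP hb) x).mp hx
      refine ⟨⟨b * k * b⁻¹ * k⁻¹, mul_mem (hbn k hk) (inv_mem hk)⟩, ?_, rfl⟩
      refine Subgroup.mem_iInf.mpr fun M => Subgroup.mem_iInf.mpr fun hM => ?_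
      have hMi := PGroupsBasic.index_of_isCoatom hP hM
      have hMn := PGroupsBasic.normal_of_isCoatom hP hM
      have hMc : Nat.card (M.map P.subtype) = d := by
        rw [Subgroup.card_map_of_injective P.subtype_injective]
        have := M.card_mul_index
        rw [hMi, h2d] at this
        omega
      have hMinv : ∀ y ∈ M.map P.subtype, b * y * b⁻¹ ∈ M.map P.subtype := by
        have h := hinv _ (Subgroup.map_subtype_le M) (Or.inl hMc)
        obtain ⟨i, -, rfl⟩ := Finset.mem_image.mp (mem_zpowers_iff_mem_range_orderOf.mp hb)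
        clear hb hbn
        induction i with
        | zero => intro y hy; simpa using hy
        | succ i ihi =>
          intro y hy
          have : a ^ (i + 1) * y * (a ^ (i + 1))⁻¹ = a * (a ^ i * y * (a ^ i)⁻¹) * a⁻¹ := by
            rw [pow_succ']; group
          rw [this]
          exact h _ (ihi y hy)
      have hMiff : ∀ z : P, z ∈ M ↔ (z : G) ∈ M.map P.subtype := fun z =>
        (Subgroup.mem_map_iff_mem P.subtype_injective).symm
      by_cases hkM : (⟨k, hk⟩ : P) ∈ M
      · rw [hMiff]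
        exact mul_mem (hMinv k ((hMiff _).mp hkM)) (inv_mem ((hMiff _).mp hkM))
      · have hbk : (⟨b * k * b⁻¹, hbn k hk⟩ : P) ∉ M := by
          intro h
          apply hkM
          rw [hMiff] at h ⊢
          have hfin : ∀ y ∈ M.map P.subtype, b⁻¹ * y * b ∈ M.map P.subtype := by
            have hle : (M.map P.subtype).map (MulAut.conj b).toMonoidHom = M.map P.subtype := by
              refine Subgroup.eq_of_le_of_card_ge ?_ ?_
              · rintro _ ⟨y, hy, rfl⟩; exact hMinv y hy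
              · exact le_of_eq (Subgroup.card_map_of_injective (MulAut.conj b).injective).symm
            intro y hy
            obtain ⟨z, hz, hzy⟩ := hle.ge hy
            rw [← hzy]
            simpa [mul_assoc] using hz
          simpa [mul_assoc] using hfin _ h
        have : (⟨b * k * b⁻¹, hbn k hk⟩ : P) * (⟨k, hk⟩ : P)⁻¹ ∈ M :=
          (Subgroup.mul_mem_iff_of_index_two hMi).mpr
            ⟨fun h => absurd h hbk, fun h => absurd (inv_mem_iff.mp h) hkM⟩
        exact this
  -- every proper invariant subgroup is centralized, or we are done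
  by_cases hdone : ∀ x ∈ P, Commute a x
  · exact hdone
  have hprop : ∀ Q : Subgroup G, Q < P → (∀ x ∈ Q, a * x * a⁻¹ ∈ Q) → ∀ x ∈ Q, Commute a x := by
    intro Q hQ hQn
    obtain ⟨R, ⟨hQR, hRP, hRn⟩, hRmax⟩ :=
      (Set.toFinite {R : Subgroup G | Q ≤ R ∧ R < P ∧ ∀ x ∈ R, a * x * a⁻¹ ∈ R}).exists_maximal
        ⟨Q, le_rfl, hQ, hQn⟩
    by_cases hRd : d < Nat.card R
    · intro x hx
      exact ih R hRP (hP.to_le hRP.le) hRn hRd (fun E hE => hinv E (hE.trans hRP.le)) x (hQR hx)
    rw [not_lt, hδ] at hRd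
    obtain ⟨E, hRE, hEP, hEc⟩ := hext δ R P (by omega) le_rfl hRP.le hRd (hδ ▸ hd.le)
    have hER : R = E := le_antisymm hRE (hRmax ⟨hQR.trans hRE, lt_of_le_of_ne hEP (fun h => by
      rw [h, ← hδ] at hEc; omega), hinv E hEP (Or.inl (hEc.trans hδ.symm))⟩ hRE)
    subst hER
    by_cases h2d : Nat.card P = 2 * d
    · exact fun x hx => hfrat R hRP h2d x (hQ.le hx)
    -- the quotient P / R: take x outside R with x^2 in R, normalizing R
    have hRlt : R.subgroupOf P ≠ ⊤ := by
      rw [Ne, Subgroup.subgroupOf_eq_top]; exact hRP.not_ge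
    have hnorm := PGroupsBasic.lt_normalizer hP hRlt
    set N := Subgroup.normalizer ((R.subgroupOf P : Subgroup P) : Set P) with hN
    have hNinv : ∀ x ∈ N.map P.subtype, a * x * a⁻¹ ∈ N.map P.subtype := by
      rintro _ ⟨x, hx, rfl⟩
      refine ⟨⟨a * x * a⁻¹, hn x x.2⟩, Subgroup.mem_normalizer_iff.mpr fun y => ?_, rfl⟩
      have hRfix : (R : Subgroup G).map (MulAut.conj a).toMonoidHom = R := by
        refine Subgroup.eq_of_le_of_card_ge ?_ ?_
        · rintro _ ⟨z, hz, rfl⟩; exact hRn z hz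
        · rw [Subgroup.card_map_of_injective (MulAut.conj a).injective]
      have hRiff : ∀ z : G, a * z * a⁻¹ ∈ R ↔ z ∈ R := by
        intro z
        conv_lhs => rw [← hRfix]
        exact Subgroup.mem_map_iff_mem (MulAut.conj a).injective
      have hy' : a⁻¹ * y * a ∈ P := by
        have := (Subgroup.mem_normalizer_iff.mp (hnP (inv_mem (mem_zpowers a))) y).mp y.2
        simpa using this
      have h1 := (Subgroup.mem_normalizer_iff.mp hx ⟨_, hy'⟩)
      simp only [Subgroup.mem_subgroupOf, Subgroup.coe_mul, Subgroup.coe_inv] at h1 ⊢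
      rw [← hRiff, ← hRiff ((x : G) * (a⁻¹ * y * a) * (x : G)⁻¹)] at h1
      simpa [mul_assoc] using h1
    have hNtop : N.map P.subtype = P := by
      by_contra hne
      have hle := hRmax (y := N.map P.subtype) ⟨hQR.trans (fun x hx => ⟨⟨x, hRP.le hx⟩, hnorm.le hx, rfl⟩),
        lt_of_le_of_ne (Subgroup.map_subtype_le N) hne, hNinv⟩ (fun x hx => ⟨⟨x, hRP.le hx⟩, hnorm.le hx, rfl⟩)
      refine hnorm.not_ge fun x hx => ?_
      exact hle ⟨x, hx, rfl⟩
    have hRnormal : ∀ x ∈ P, ∀ r ∈ R, x * r * x⁻¹ ∈ R := by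
      intro x hx r hr
      rw [← hNtop] at hx
      obtain ⟨z, hz, rfl⟩ := hx
      exact (Subgroup.mem_normalizer_iff.mp hz ⟨r, hRP.le hr⟩).mp hr
    -- P / R has exponent two
    have hsq : ∀ x ∈ P, x ^ 2 ∈ R := by
      obtain ⟨M, hMP, hMpow, hMcomm⟩ := OmegaCoprime.exists_lt_of_pGroup hP
        (fun h => by rw [h, Subgroup.card_bot] at hd; omega)
      let D : Set G := {c | (∃ x ∈ P, c = x ^ 2) ∨ ∃ x ∈ P, ∃ y ∈ P, c = x * y * x⁻¹ * y⁻¹}
      have hsqD : ∀ x ∈ P, x ^ 2 ∈ closure D := fun x hx => subset_closure (Or.inl ⟨x, hx, rfl⟩)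
      set R' := R ⊔ closure D with hR'
      have hDfr : ∀ c ∈ closure D, ∀ hc : c ∈ P, (⟨c, hc⟩ : P) ∈ frattini P := by
        have : closure D ≤ (frattini P).map P.subtype := by
          rw [closure_le]
          rintro c (⟨x, hx, rfl⟩ | ⟨x, hx, y, hy, rfl⟩)
          · exact ⟨⟨x, hx⟩ ^ 2, PGroupsBasic.pow_mem_frattini hP _, rfl⟩
          · exact ⟨⟨x, hx⟩ * ⟨y, hy⟩ * ⟨x, hx⟩⁻¹ * ⟨y, hy⟩⁻¹,
              PGroupsBasic.commutator_le_frattini hP (Subgroup.commutator_mem_commutator (mem_top _) (mem_top _)), rfl⟩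
        intro c hc hcP
        obtain ⟨z, hz, hzc⟩ := this hc
        exact (Subtype.ext hzc : z = ⟨c, hcP⟩) ▸ hz
      have hDP : closure D ≤ P := by
        rw [closure_le]
        rintro c (⟨x, hx, rfl⟩ | ⟨x, hx, y, hy, rfl⟩)
        · exact pow_mem hx 2
        · exact mul_mem (mul_mem (mul_mem hx hy) (inv_mem hx)) (inv_mem hy)
      have hR'P : R' < P := by
        refine lt_of_le_of_ne (sup_le hRP.le hDP) fun heq => hRlt (frattini_nongenerating ?_)
        rw [eq_top_iff]
        rintro ⟨x, hx⟩ -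
        have hle : R' ≤ (R.subgroupOf P ⊔ frattini P).map P.subtype := by
          refine sup_le ?_ ?_
          · intro r hr
            exact ⟨⟨r, hRP.le hr⟩, Subgroup.mem_sup_left hr, rfl⟩
          · intro c hc
            exact ⟨⟨c, hDP hc⟩, Subgroup.mem_sup_right (hDfr c hc (hDP hc)), rfl⟩
        obtain ⟨z, hz, hzx⟩ := hle (heq.ge hx)
        exact (Subtype.ext hzx : z = ⟨x, hx⟩) ▸ hz
      have hR'inv : ∀ x ∈ R', a * x * a⁻¹ ∈ R' := by
        have : R' ≤ R'.comap (MulAut.conj a).toMonoidHom := by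
          refine sup_le (fun r hr => Subgroup.mem_sup_left (hRn r hr)) ?_
          rw [closure_le]
          rintro c (⟨x, hx, rfl⟩ | ⟨x, hx, y, hy, rfl⟩)
          · exact Subgroup.mem_sup_right (subset_closure (Or.inl ⟨_, hn x hx, by simp [conj_pow]⟩))
          · exact Subgroup.mem_sup_right (subset_closure (Or.inr ⟨_, hn x hx, _, hn y hy, by simp [mul_assoc]⟩))
        intro x hx
        simpa using this hx
      have hle := hRmax (y := R') ⟨hQR.trans le_sup_left, hR'P, hR'inv⟩ le_sup_left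
      exact fun x hx => hle (Subgroup.mem_sup_right (hsqD x hx))
    have key : ∀ x ∈ P, x ∉ R → R ≤ zpowers x := by
      intro x hx hxR
      set S := R ⊔ zpowers x with hS
      have hScard : Nat.card S ≤ 2 * d := by
        have hxn : zpowers x ≤ Subgroup.normalizer (R : Set G) := by
          rw [zpowers_le, Subgroup.mem_normalizer_iff]
          intro r
          refine ⟨hRnormal x hx r, fun hr => ?_⟩
          simpa [mul_assoc] using hRnormal x⁻¹ (inv_mem hx) _ hr
        have h1 : Nat.card S = Nat.card R * R.relIndex S :=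
          (by
            have := Subgroup.relIndex_mul_relIndex ⊥ R S bot_le le_sup_left
            rw [Subgroup.relIndex_bot_left, Subgroup.relIndex_bot_left] at this
            exact this.symm)
        have h2 : R.relIndex S ≤ 2 := by
          rw [hS, sup_comm, Subgroup.relIndex, Subgroup.index_eq_card]
          have hcov : ∀ y ∈ zpowers x ⊔ R, ∃ b : Bool, (x ^ (cond b 1 0))⁻¹ * y ∈ R := by
            intro y hy
            rw [← SetLike.mem_coe, Subgroup.coe_mul_of_left_le_normalizer_right _ _ hxn] at hy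
            obtain ⟨u, hu, r, hr, rfl⟩ := hy
            obtain ⟨i, rfl⟩ := Subgroup.mem_zpowers_iff.mp hu
            have hsqR : ∀ j : ℤ, (x ^ 2) ^ j ∈ R := fun j => zpow_mem (hsq x hx) j
            rcases Int.even_or_odd' i with ⟨j, rfl | rfl⟩
            · exact ⟨false, by simpa [zpow_mul] using mul_mem (hsqR j) hr⟩
            · refine ⟨true, ?_⟩
              have : (x ^ (1 : ℕ))⁻¹ * (x ^ (2 * j + 1) * r) = (x ^ 2) ^ j * r := by
                rw [pow_one, add_comm, zpow_add, zpow_one, zpow_mul]; group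
              exact (show (x ^ (1 : ℕ))⁻¹ * (x ^ (2 * j + 1) * r) ∈ R by rw [this]; exact mul_mem (hsqR j) hr)
          refine le_trans (Nat.card_le_card_of_surjective
            (fun b : Bool => ((⟨x ^ (cond b 1 0), Subgroup.mem_sup_left (pow_mem (mem_zpowers x) _)⟩ :
              ↥(zpowers x ⊔ R)) : ↥(zpowers x ⊔ R) ⧸ R.subgroupOf (zpowers x ⊔ R))) ?_) (by simp)
          intro q
          induction q using QuotientGroup.induction_on with
          | _ y =>
            obtain ⟨b, hb⟩ := hcov y y.2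
            exact ⟨b, QuotientGroup.eq.mpr hb⟩
        rw [h1, hEc, ← hδ, mul_comm 2]
        exact Nat.mul_le_mul_left d h2
      have hSP : S ≤ P := sup_le hRP.le (zpowers_le.mpr hx)
      have hxord : Nat.card (zpowers x) > d := by
        by_contra hle
        rw [not_lt, hδ] at hle
        obtain ⟨E', hxE, hES, hE'c⟩ := hext δ (zpowers x) S (by omega) hSP le_sup_right hle
          (hEc ▸ Subgroup.card_le_of_le le_sup_left)
        have hE'R : ¬ E' ≤ R := fun h => hxR (h (hxE (mem_zpowers x)))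
        have hSeq : E' ⊔ R = S := le_antisymm (sup_le hES le_sup_left) (sup_le le_sup_right (hxE.trans le_sup_left))
        have hSinv : ∀ y ∈ S, a * y * a⁻¹ ∈ S := by
          have hE'n := hinv E' (hES.trans hSP) (Or.inl (hE'c.trans hδ.symm))
          have : E' ⊔ R ≤ S.comap (MulAut.conj a).toMonoidHom :=
            sup_le (fun y hy => hES (hE'n y hy)) (fun y hy => Subgroup.mem_sup_left (hRn y hy))
          rw [hSeq] at this
          intro y hy
          simpa using this hy
        have hSlt : S < P := lt_of_le_of_ne hSP fun h => by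
          have h3 : Nat.card P ≤ 2 * d := h ▸ hScard
          rw [hm, hδ, ← pow_succ'] at h3
          have h5 : m = δ + 1 := le_antisymm ((Nat.pow_le_pow_iff_right (by norm_num)).mp h3) hδm
          exact h2d (by rw [hm, h5, pow_succ', hδ])
        exact hxR (hRmax (y := S) ⟨hQR.trans le_sup_left, hSlt, hSinv⟩ le_sup_left
          (Subgroup.mem_sup_right (mem_zpowers x)))
      have hSx : zpowers x = S := by
        refine Subgroup.eq_of_le_of_card_ge le_sup_right ?_
        obtain ⟨j, hj⟩ := IsPGroup.iff_card.mp (hP.to_le (zpowers_le.mpr hx))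
        rw [hj, hδ] at hxord
        have := (Nat.pow_lt_pow_iff_right (show 1 < 2 by norm_num)).mp hxord
        calc Nat.card S ≤ 2 * d := hScard
          _ = 2 ^ (δ + 1) := by rw [hδ, pow_succ']
          _ ≤ 2 ^ j := Nat.pow_le_pow_right (by norm_num) this
          _ = Nat.card (zpowers x) := hj.symm
      exact hSx ▸ le_sup_left
    -- R is cyclic, hence centralized
    obtain ⟨x, hxP, hxR⟩ := SetLike.exists_of_lt hRP
    have : IsCyclic R := Subgroup.isCyclic_of_le (key x hxP hxR)
    obtain ⟨w, hw⟩ := IsCyclic.exists_generator (α := R)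
    have hwc : Commute a w := by
      refine hcyc w (hRP.le w.2) ?_
      obtain ⟨i, hi⟩ := hw ⟨_, hRn w w.2⟩
      exact ⟨i, congrArg Subtype.val hi⟩
    intro y hy
    obtain ⟨i, hi⟩ := hw ⟨y, hQR hy⟩
    have : (w : G) ^ i = y := congrArg Subtype.val hi
    exact this ▸ hwc.zpow_right i
  exfalso
  apply hdone
  refine OmegaCoprime.commute_of_fixed_comms hP hn ((Nat.coprime_two_right).mpr ha) ?_
  let S : Set G := {c | ∃ x ∈ P, c = x⁻¹ * (a * x * a⁻¹)}
  have hSP : closure S ≤ P := by
    rw [closure_le]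
    rintro c ⟨x, hx, rfl⟩
    exact mul_mem (inv_mem hx) (hn x hx)
  by_cases htop : closure S < P
  · intro x hx
    refine hprop _ htop ?_ _ (subset_closure ⟨x, hx, rfl⟩)
    have : closure S ≤ (closure S).comap (MulAut.conj a).toMonoidHom := by
      rw [closure_le]
      rintro c ⟨x, hx, rfl⟩
      exact subset_closure ⟨a * x * a⁻¹, hn x hx, by simp; group⟩
    intro y hy
    simpa using this hy
  have hgen : closure S = P := eq_of_le_of_not_lt hSP htop
  obtain ⟨M, hMP, hMpow, hMcomm⟩ := OmegaCoprime.exists_lt_of_pGroup hP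
    (fun h => by rw [h, Subgroup.card_bot] at hd; omega)
  let D : Set G := {c | (∃ x ∈ P, c = x ^ 2) ∨ ∃ x ∈ P, ∃ y ∈ P, c = x * y * x⁻¹ * y⁻¹}
  have hDM : closure D ≤ M := by
    rw [closure_le]
    rintro c (⟨x, hx, rfl⟩ | ⟨x, hx, y, hy, rfl⟩)
    · exact hMpow x hx
    · exact hMcomm x hx y hy
  have hDn : ∀ c ∈ closure D, a * c * a⁻¹ ∈ closure D := by
    have : closure D ≤ (closure D).comap (MulAut.conj a).toMonoidHom := by
      rw [closure_le]
      rintro c (⟨x, hx, rfl⟩ | ⟨x, hx, y, hy, rfl⟩)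
      · exact subset_closure (Or.inl ⟨_, hn x hx, by simp [conj_pow]⟩)
      · exact subset_closure (Or.inr ⟨_, hn x hx, _, hn y hy, by simp [mul_assoc]⟩)
    intro c hc
    simpa using this hc
  have hfix : ∀ c ∈ closure D, Commute a c := hprop _ (hDM.trans_lt hMP) hDn
  have hcen : ∀ c ∈ closure D, ∀ y ∈ P, Commute c y := by
    intro c hc y hy
    have hCP : P ≤ Subgroup.centralizer ({c} : Set G) := by
      rw [← hgen, closure_le]
      rintro _ ⟨x, hx, rfl⟩
      have hcP : c ∈ P := (hDM.trans hMP.le) hc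
      have h2 : x * c * x⁻¹ ∈ closure D := by
        have h3 : x * c * x⁻¹ * c⁻¹ ∈ closure D :=
          subset_closure (Or.inr ⟨x, hx, c, hcP, rfl⟩)
        simpa [mul_assoc] using mul_mem h3 hc
      have h4 : a * (x * c * x⁻¹) * a⁻¹ = x * c * x⁻¹ := by rw [(hfix _ h2).eq]; group
      have h5 : a * c * a⁻¹ = c := by rw [(hfix _ hc).eq]; group
      have h6 : (a * x * a⁻¹) * c * (a * x * a⁻¹)⁻¹ = x * c * x⁻¹ := by
        conv_rhs => rw [← h4]
        conv_lhs => arg 1; arg 2; rw [← h5]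
        group
      rw [SetLike.mem_coe, Subgroup.mem_centralizer_singleton_iff]
      calc x⁻¹ * (a * x * a⁻¹) * c
          = x⁻¹ * ((a * x * a⁻¹) * c * (a * x * a⁻¹)⁻¹) * (a * x * a⁻¹) := by group
        _ = c * (x⁻¹ * (a * x * a⁻¹)) := by rw [h6]; group
    exact (Subgroup.mem_centralizer_singleton_iff.mp (hCP hy)).symm
  intro x hx
  have hy : a * x * a⁻¹ ∈ P := hn x hx
  set y := a * x * a⁻¹ with hydef
  have hxp : x ^ 2 ∈ closure D := subset_closure (Or.inl ⟨x, hx, rfl⟩)
  have hyp : y ^ 2 = x ^ 2 := by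
    rw [hydef, conj_pow, (hfix _ hxp).eq]; group
  set z := y * x⁻¹ * y⁻¹ * x with hz
  have hzD : z ∈ closure D := by
    have : y * x⁻¹ * y⁻¹ * x⁻¹⁻¹ ∈ closure D :=
      Subgroup.subset_closure (Or.inr ⟨y, hy, x⁻¹, inv_mem hx, rfl⟩)
    simpa [hz] using this
  have hzx : Commute z x⁻¹ := (hcen z hzD x hx).inv_right
  have hzy : Commute z y := hcen z hzD y hy
  have hrel : y * x⁻¹ = x⁻¹ * y * z := by
    have : y * x⁻¹ * y⁻¹ * x = z := rfl
    have h1 : y * x⁻¹ = z * (x⁻¹ * y) := by rw [← this]; group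
    rw [h1, (hzx.mul_right hzy).eq]
  have hzp : z ^ 2 = 1 := by
    have h1 : (y * x⁻¹ * y⁻¹) ^ 2 = y * (x⁻¹) ^ 2 * y⁻¹ := conj_pow
    have h2 : y * x⁻¹ * y⁻¹ = z * x⁻¹ := by rw [hz]; group
    rw [h2, hzx.mul_pow] at h1
    have h3 : Commute (x ^ 2) y := hcen _ hxp y hy
    have h4 : y * (x⁻¹) ^ 2 * y⁻¹ = (x⁻¹) ^ 2 := by
      rw [inv_pow, h3.inv_left.symm.eq]; group
    rw [h4] at h1
    simpa using h1
  set w := x⁻¹ * y with hw
  have hwP : w ∈ P := mul_mem (inv_mem hx) hy
  have hw4 : w ^ 2 ^ 2 = 1 := by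
    rw [show (2 : ℕ) ^ 2 = 2 * 2 from rfl, pow_mul, hw,
      OmegaCoprime.mul_pow_class_two hrel hzx hzy 2, hyp, Nat.choose_self, pow_one, inv_pow,
      inv_mul_cancel, one_mul, hzp]
  have hwcard : Nat.card (zpowers w) ≤ 2 ^ 2 := by
    rw [Nat.card_zpowers]
    exact Nat.le_of_dvd (by norm_num) (orderOf_dvd_of_pow_eq_one hw4)
  have hwmem : a * w * a⁻¹ ∈ zpowers w → Commute a w := hcyc w hwP
  by_cases hd2' : d = 2
  · obtain ⟨j, hj⟩ := IsPGroup.iff_card.mp (hP.to_le (zpowers_le.mpr hwP))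
    rw [hj] at hwcard
    have := (Nat.pow_le_pow_iff_right (show 1 < 2 by norm_num)).mp hwcard
    interval_cases j
    · have : w = 1 := by
        rw [pow_zero, Nat.card_zpowers, orderOf_eq_one_iff] at hj
        exact hj
      rw [this]; exact Commute.one_right a
    · exact hwmem (hinv _ (zpowers_le.mpr hwP) (Or.inl (by rw [hj, hd2']; rfl)) w (mem_zpowers w))
    · exact hwmem (hinv _ (zpowers_le.mpr hwP) (Or.inr ⟨hd2', by rw [hj]; rfl⟩) w (mem_zpowers w))
  · have hδ2 : 2 ≤ δ := by
      by_contra h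
      obtain rfl : δ = 1 := by omega
      exact hd2' (by simp [hδ])
    obtain ⟨E, hwE, hEP, hEc⟩ := hext δ (zpowers w) P (by omega) le_rfl (zpowers_le.mpr hwP)
      (hwcard.trans (Nat.pow_le_pow_right (by norm_num) hδ2)) (hδ ▸ hd.le)
    refine hprop E (lt_of_le_of_ne hEP fun h => ?_) (hinv E hEP (Or.inl (hEc.trans hδ.symm))) w
      (hwE (mem_zpowers w))
    rw [h, ← hδ] at hEc
    omega

/-- Let P be a 2-subgroup and A a subgroup of odd order of a finite group, with A normalizing P. Let D ≤ P with 1 < |D| < |P|. If every subgroup of P of order |D|, and also every subgroup of P of order 4 in case |D| = 2, is normalized by A, then A centralizes P. -/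
theorem result {X : Type*} [Group X] [Finite X] (P A D : Subgroup X) (hP : IsPGroup 2 P) (hA : Odd (Nat.card A))
    (hAP : A ≤ Subgroup.normalizer (P : Set X)) (hDP : D ≤ P) (hD1 : 1 < Nat.card D) (hD2 : Nat.card D < Nat.card P)
    (hinv : ∀ E : Subgroup X, E ≤ P → (Nat.card E = Nat.card D ∨ (Nat.card D = 2 ∧ Nat.card E = 4)) → A ≤ Subgroup.normalizer (E : Set X)) :
    A ≤ Subgroup.centralizer (P : Set X) := by
  intro a ha
  rw [Subgroup.mem_centralizer_iff]
  intro x hx
  refine (main (a := a) ?_ hD1 P hP (fun y hy => (Subgroup.mem_normalizer_iff.mp (hAP ha) y).mp hy) hD2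
    ?_ (fun E hE hc y hy => (Subgroup.mem_normalizer_iff.mp (hinv E hE hc.symm.symm ha) y).mp hy) x hx).symm.eq
  · rw [← Subgroup.orderOf_mk a ha]
    exact hA.of_dvd_nat (orderOf_dvd_natCard _)
  · have : Fact (Nat.Prime 2) := ⟨Nat.prime_two⟩
    exact IsPGroup.iff_card.mp (hP.to_le hDP)

end Cfsg.Agent.S3803
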