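import Cfsg.Statements.S3804
import Mathlib

set_option autoImplicit false
open Cfsg

namespace Cfsg.Agent.S3804

theorem product_formula {X : Type*} [Group X] [Finite X] (A B K : Subgroup X) (hA : A ≤ K)
    (hB : B ≤ K) : Nat.card A * Nat.card B ≤ Nat.card K * Nat.card ↥(A ⊓ B) ∧
      (Nat.card K * Nat.card ↥(A ⊓ B) ≤ Nat.card A * Nat.card B →
        ∀ x ∈ K, ∃ a ∈ A, ∃ b ∈ B, x = a * b) := by
  let f : A ⧸ B.subgroupOf A → K ⧸ B.subgroupOf K := Quotient.map'
    (Subgroup.inclusion hA) (fun a b h => by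
      rw [QuotientGroup.leftRel_apply] at h ⊢
      exact h)
  have hf : Function.Injective f := by
    intro a b
    induction a using QuotientGroup.induction_on with
    | _ a =>
      induction b using QuotientGroup.induction_on with
      | _ b =>
        intro h
        exact QuotientGroup.eq.mpr (show _ ∈ B from (QuotientGroup.eq (s := B.subgroupOf K)).mp h)
  have h1 : Nat.card A = Nat.card (A ⧸ B.subgroupOf A) * Nat.card ↥(A ⊓ B) := by
    rw [Subgroup.card_eq_card_quotient_mul_card_subgroup (B.subgroupOf A)]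
    congr 1
    rw [← Subgroup.card_map_of_injective A.subtype_injective, Subgroup.subgroupOf_map_subtype,
      inf_comm]
  have h2 : Nat.card K = Nat.card (K ⧸ B.subgroupOf K) * Nat.card B := by
    rw [Subgroup.card_eq_card_quotient_mul_card_subgroup (B.subgroupOf K),
      Nat.card_congr (Subgroup.subgroupOfEquivOfLe hB).toEquiv]
  refine ⟨?_, fun hle x hx => ?_⟩
  · rw [h1, h2, mul_right_comm]
    exact Nat.mul_le_mul_right _ (Nat.mul_le_mul_right _ (Nat.card_le_card_of_injective f hf))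
  · rw [h1, h2, mul_right_comm (Nat.card (A ⧸ B.subgroupOf A))] at hle
    have h3 := Nat.le_of_mul_le_mul_right (Nat.le_of_mul_le_mul_right hle Nat.card_pos) Nat.card_pos
    have hsurj := (Function.Injective.bijective_of_nat_card_le hf h3).surjective
    obtain ⟨q, hq⟩ := hsurj ((⟨x, hx⟩ : K) : K ⧸ B.subgroupOf K)
    induction q using QuotientGroup.induction_on with
    | _ a =>
      exact ⟨a, a.2, (a : X)⁻¹ * x, (QuotientGroup.eq (s := B.subgroupOf K)).mp hq, by group⟩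

/-- Let G and H be subgroups of a finite group with G normalizing H, fix a real number α > 0, and for a subgroup A of G put m(A) = |A|^α · |C_H(A)|. Let A and B be nontrivial subgroups of G at which m attains its maximum over all nontrivial subgroups of G, and assume that A ∩ B ≠ 1 or that this maximum is at least |H|. Then AB = BA is a subgroup at which m is again maximal, C_H(A ∩ B) = C_H(A) C_H(B), and if A ∩ B ≠ 1 then m is maximal at A ∩ B as well. -/
theorem result {X : Type*} [Group X] [Finite X] (G H : Subgroup X) (hGH : G ≤ Subgroup.normalizer (H : Set X)) (α : ℝ) (hα : 0 < α)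
    (A B : Subgroup X) (hA : A ≤ G) (hB : B ≤ G) (hA1 : A ≠ ⊥) (hB1 : B ≠ ⊥)
    (hAmax : ∀ A' : Subgroup X, A' ≤ G → A' ≠ ⊥ → (fun A : Subgroup X => ((Nat.card A : ℝ) ^ α) * (Nat.card ↥(H ⊓ Subgroup.centralizer (A : Set X)) : ℝ)) A' ≤ (fun A : Subgroup X => ((Nat.card A : ℝ) ^ α) * (Nat.card ↥(H ⊓ Subgroup.centralizer (A : Set X)) : ℝ)) A)
    (hBmax : ∀ A' : Subgroup X, A' ≤ G → A' ≠ ⊥ → (fun A : Subgroup X => ((Nat.card A : ℝ) ^ α) * (Nat.card ↥(H ⊓ Subgroup.centralizer (A : Set X)) : ℝ)) A' ≤ (fun A : Subgroup X => ((Nat.card A : ℝ) ^ α) * (Nat.card ↥(H ⊓ Subgroup.centralizer (A : Set X)) : ℝ)) B)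
    (hcase : A ⊓ B ≠ ⊥ ∨ (Nat.card H : ℝ) ≤ (fun A : Subgroup X => ((Nat.card A : ℝ) ^ α) * (Nat.card ↥(H ⊓ Subgroup.centralizer (A : Set X)) : ℝ)) A) :
    (∀ a ∈ A, ∀ b ∈ B, ∃ b' ∈ B, ∃ a' ∈ A, a * b = b' * a') ∧
    (∀ A' : Subgroup X, A' ≤ G → A' ≠ ⊥ → (fun A : Subgroup X => ((Nat.card A : ℝ) ^ α) * (Nat.card ↥(H ⊓ Subgroup.centralizer (A : Set X)) : ℝ)) A' ≤ (fun A : Subgroup X => ((Nat.card A : ℝ) ^ α) * (Nat.card ↥(H ⊓ Subgroup.centralizer (A : Set X)) : ℝ)) (A ⊔ B)) ∧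
    (∀ h ∈ H ⊓ Subgroup.centralizer ((A ⊓ B : Subgroup X) : Set X), ∃ u ∈ H ⊓ Subgroup.centralizer (A : Set X), ∃ v ∈ H ⊓ Subgroup.centralizer (B : Set X), h = u * v) ∧
    (A ⊓ B ≠ ⊥ → ∀ A' : Subgroup X, A' ≤ G → A' ≠ ⊥ → (fun A : Subgroup X => ((Nat.card A : ℝ) ^ α) * (Nat.card ↥(H ⊓ Subgroup.centralizer (A : Set X)) : ℝ)) A' ≤ (fun A : Subgroup X => ((Nat.card A : ℝ) ^ α) * (Nat.card ↥(H ⊓ Subgroup.centralizer (A : Set X)) : ℝ)) (A ⊓ B)) := by
  classical
  set C : Subgroup X → Subgroup X := fun A => H ⊓ Subgroup.centralizer (A : Set X) with hC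
  set m : Subgroup X → ℝ := fun A => ((Nat.card A : ℝ) ^ α) * (Nat.card ↥(C A) : ℝ) with hm
  have hcC : ∀ K, (0 : ℝ) < (Nat.card ↥(C K) : ℝ) := fun K => Nat.cast_pos.mpr Nat.card_pos
  have hpa : ∀ K : Subgroup X, (0 : ℝ) < (Nat.card K : ℝ) ^ α := fun K =>
    Real.rpow_pos_of_pos (Nat.cast_pos.mpr Nat.card_pos) _
  have hMAB : m A = m B := le_antisymm (hBmax A hA hA1) (hAmax B hB hB1)
  have hJ : m (A ⊔ B) ≤ m A :=
    hAmax _ (sup_le hA hB) (fun h => hA1 (le_bot_iff.mp (h ▸ le_sup_left)))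
  have hI : m (A ⊓ B) ≤ m A := by
    by_cases h : A ⊓ B = ⊥
    · rcases hcase with h' | h'
      · exact absurd h h'
      · refine le_trans (le_of_eq ?_) h'
        simp only [hm, h]
        rw [Subgroup.card_bot, Nat.cast_one, Real.one_rpow, one_mul]
        congr 2
        have : C ⊥ = H := by
          simp only [hC]
          rw [inf_eq_left]
          intro x _
          rw [Subgroup.mem_centralizer_iff]
          intro y hy
          rw [SetLike.mem_coe, Subgroup.mem_bot] at hy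
          subst hy
          simp
        rw [this]
    · exact hAmax _ (inf_le_left.trans hA) h
  have hCA : C A ≤ C (A ⊓ B) := inf_le_inf_left _ (Subgroup.centralizer_le inf_le_left)
  have hCB : C B ≤ C (A ⊓ B) := inf_le_inf_left _ (Subgroup.centralizer_le inf_le_right)
  have hCJ : C A ⊓ C B = C (A ⊔ B) := by
    refine le_antisymm ?_ (le_inf (inf_le_inf_left _ (Subgroup.centralizer_le (SetLike.coe_subset_coe.mpr le_sup_left)))
      (inf_le_inf_left _ (Subgroup.centralizer_le (SetLike.coe_subset_coe.mpr le_sup_right))))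
    rintro x ⟨⟨hxH, hxA⟩, -, hxB⟩
    refine ⟨hxH, Subgroup.mem_centralizer_iff.mpr fun y hy => ?_⟩
    have : A ⊔ B ≤ Subgroup.centralizer ({x} : Set X) :=
      sup_le (fun a ha => Subgroup.mem_centralizer_singleton_iff.mpr (Subgroup.mem_centralizer_iff.mp hxA a ha))
        (fun b hb => Subgroup.mem_centralizer_singleton_iff.mpr (Subgroup.mem_centralizer_iff.mp hxB b hb))
    exact Subgroup.mem_centralizer_singleton_iff.mp (this hy)
  obtain ⟨hAB, hABeq⟩ := product_formula A B (A ⊔ B) le_sup_left le_sup_right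
  obtain ⟨-, hBAeq⟩ := product_formula B A (A ⊔ B) le_sup_right le_sup_left
  obtain ⟨hCC, hCCeq⟩ := product_formula (C A) (C B) (C (A ⊓ B)) hCA hCB
  rw [hCJ] at hCC hCCeq
  have hprod : ∀ U V : Subgroup X, m U * m V =
      ((Nat.card U * Nat.card V : ℕ) : ℝ) ^ α * ((Nat.card ↥(C U) * Nat.card ↥(C V) : ℕ) : ℝ) := by
    intro U V
    simp only [hm]
    rw [Nat.cast_mul, Nat.cast_mul, Real.mul_rpow (Nat.cast_nonneg _) (Nat.cast_nonneg _)]
    ring
  have hge : m A * m B ≤ m (A ⊔ B) * m (A ⊓ B) := by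
    rw [hprod, hprod]
    refine mul_le_mul (Real.rpow_le_rpow (Nat.cast_nonneg _) (Nat.cast_le.mpr hAB) hα.le) ?_
      (Nat.cast_nonneg _) (Real.rpow_nonneg (Nat.cast_nonneg _) _)
    rw [mul_comm (Nat.card ↥(C (A ⊔ B)))]
    exact Nat.cast_le.mpr hCC
  have hpos : ∀ U, 0 < m U := fun U => mul_pos (hpa U) (hcC U)
  have hJeq : m (A ⊔ B) = m A := by
    refine le_antisymm hJ (le_of_mul_le_mul_right ?_ (hpos A))
    calc m A * m A ≤ m (A ⊔ B) * m (A ⊓ B) := by rw [← hMAB] at hge; exact hge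
      _ ≤ m (A ⊔ B) * m A := mul_le_mul_of_nonneg_left hI (hpos _).le
  have hIeq : m (A ⊓ B) = m A := by
    refine le_antisymm hI (le_of_mul_le_mul_left ?_ (hpos A))
    rw [← hMAB, hJeq] at hge
    exact hge
  have heq : m A * m B = m (A ⊔ B) * m (A ⊓ B) := by rw [← hMAB, hJeq, hIeq]
  rw [hprod, hprod] at heq
  have hpp : ∀ n : ℕ, 0 < n → (0 : ℝ) < (n : ℝ) ^ α := fun n hn =>
    Real.rpow_pos_of_pos (Nat.cast_pos.mpr hn) _
  have h1 : Nat.card ↥(A ⊔ B) * Nat.card ↥(A ⊓ B) ≤ Nat.card A * Nat.card B := by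
    by_contra hlt
    have h2 := Real.rpow_lt_rpow (Nat.cast_nonneg _) (Nat.cast_lt.mpr (not_le.mp hlt)) hα
    refine (ne_of_lt (mul_lt_mul h2 (Nat.cast_le.mpr ?_) ?_ (Real.rpow_nonneg (Nat.cast_nonneg _) _))) heq
    · rw [mul_comm (Nat.card ↥(C (A ⊔ B)))]; exact hCC
    · exact Nat.cast_pos.mpr (Nat.mul_pos Nat.card_pos Nat.card_pos)
  have h2 : Nat.card ↥(C (A ⊓ B)) * Nat.card ↥(C (A ⊔ B)) ≤ Nat.card ↥(C A) * Nat.card ↥(C B) := by
    rw [show Nat.card A * Nat.card B = Nat.card ↥(A ⊔ B) * Nat.card ↥(A ⊓ B) from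
      le_antisymm hAB h1] at heq
    have := mul_left_cancel₀ (hpp _ (Nat.mul_pos Nat.card_pos Nat.card_pos)).ne' heq
    rw [Nat.cast_inj] at this
    rw [this, mul_comm]
  refine ⟨fun a ha b hb => ?_, fun A' h h' => hJeq ▸ hAmax A' h h', hCCeq h2,
    fun _ A' h h' => hIeq ▸ hAmax A' h h'⟩
  exact hBAeq (by rw [inf_comm, mul_comm (Nat.card B)]; exact h1) (a * b)
    (Subgroup.mul_mem_sup ha hb)

end Cfsg.Agent.S3804
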