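import Cfsg.Statements.S3808
import Cfsg.Agent.Lib.PGroupsBasic

set_option autoImplicit false
open Cfsg

namespace Cfsg.Agent.S3808

open Subgroup Cfsg.Agent.PGroupsBasic

theorem map_center_le {S : Type*} [Group S] [Finite S] {p : ℕ} [hp : Fact p.Prime] (hS : IsPGroup p S)
    {Q : Subgroup S} (hQ : Cfsg.IsExtraspecial p Q) (hQi : Q.index = p) :
    (center Q).map Q.subtype ≤ center S := by
  have := normal_of_index_eq hS hQi
  have : ((center Q).map Q.subtype).Normal := inferInstance
  exact le_center_of_card_eq_prime hS (by rw [card_subtype, hQ.2])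

theorem center_inf {S : Type*} [Group S] [Finite S] {p : ℕ} [hp : Fact p.Prime] (hS : IsPGroup p S)
    {Q : Subgroup S} (hQ : Cfsg.IsExtraspecial p Q) (hQi : Q.index = p) :
    center S ⊓ Q = (center Q).map Q.subtype := by
  refine le_antisymm ?_ (le_inf (map_center_le hS hQ hQi) (map_subtype_le _))
  rintro z ⟨hz, hzQ⟩
  exact ⟨⟨z, hzQ⟩, mem_center_iff.mpr fun q => Subtype.ext (mem_center_iff.mp hz q), rfl⟩

/-- Let S be a finite p-group with an extraspecial subgroup Q of index p. Then either Z(S) = Z(Q), or S = Q·Z(S) and Z(S) has order p². -/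
theorem result {S : Type*} [Group S] [Finite S] (p : ℕ) [Fact p.Prime] (hS : IsPGroup p S) (Q : Subgroup S) (hQ : Cfsg.IsExtraspecial p ↥Q) (hQi : Q.index = p) :
    Subgroup.center S = (Subgroup.center ↥Q).map Q.subtype ∨
      (Q ⊔ Subgroup.center S = ⊤ ∧ Nat.card (Subgroup.center S) = p ^ 2) := by
  have := normal_of_index_eq hS hQi
  by_cases h : center S ≤ Q
  · exact Or.inl (by rw [← center_inf hS hQ hQi, inf_eq_left.mpr h])
  · have ht : Q ⊔ center S = ⊤ :=
      (isCoatom_of_index_eq hQi).2 _ (lt_of_le_of_ne le_sup_left fun e => h (sup_eq_left.mp e.symm))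
    refine Or.inr ⟨ht, ?_⟩
    have h1 : Q.relIndex (center S) = p := by
      rw [← hQi, ← relIndex_top_right, ← ht, sup_comm, relIndex_sup_right]
    have h2 := relIndex_mul_relIndex ⊥ (center S ⊓ Q) (center S) bot_le inf_le_left
    rw [relIndex_bot_left, relIndex_bot_left, inf_comm, inf_relIndex_right, h1, inf_comm,
      center_inf hS hQ hQi, card_subtype, hQ.2] at h2
    rw [← h2]; ring

end Cfsg.Agent.S3808
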