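import Cfsg.Statements.S3809
import Cfsg.Agent.Lib.PGroupsBasic
import Cfsg.Agent.Lib.PGroupsExtraspecial

set_option autoImplicit false
open Cfsg

namespace Cfsg.Agent.S3809

open Subgroup Cfsg.Agent.PGroupsBasic Cfsg.Agent.PGroupsExtraspecial
open scoped commutatorElement

/-- Let S be a finite p-group with an extraspecial subgroup of index p. Then S has order p^(2+2n) for some n ≥ 1, derived length at most 3, and exponent dividing p³. -/
theorem result {S : Type*} [Group S] [Finite S] (p : ℕ) [Fact p.Prime] (hS : IsPGroup p S) (Q : Subgroup S) (hQ : Cfsg.IsExtraspecial p ↥Q) (hQi : Q.index = p) :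
    (∃ n : ℕ, 1 ≤ n ∧ Nat.card S = p ^ (2 + 2 * n)) ∧ derivedSeries S 3 = ⊥ ∧ ∀ x : S, x ^ (p ^ 3) = 1 := by
  have := normal_of_index_eq hS hQi
  obtain ⟨n, hn1, hn⟩ := extraspecial_card hQ
  have hSQ : IsMulCommutative (S ⧸ Q) := by
    have : IsCyclic (S ⧸ Q) := isCyclic_of_prime_card (p := p) (by rw [← index_eq_card, hQi])
    infer_instance
  have hc : commutator S ≤ Q := by
    rw [_root_.commutator_def, commutator_le]
    intro a _ b _
    refine (QuotientGroup.eq_one_iff (N := Q) _).mp ?_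
    show ⁅(QuotientGroup.mk a : S ⧸ Q), (QuotientGroup.mk b : S ⧸ Q)⁆ = (1 : S ⧸ Q)
    exact commutatorElement_eq_one_iff_mul_comm.mpr (hSQ.is_comm.comm _ _)
  refine ⟨⟨n, hn1, ?_⟩, ?_, ?_⟩
  · rw [← card_mul_index Q, hn, hQi, ← pow_succ]; ring_nf
  · have h2 : derivedSeries S 2 ≤ (center Q).map Q.subtype := by
      rw [← hQ.1.2.2, _root_.commutator_def, map_commutator, derivedSeries_succ, derivedSeries_one]
      refine commutator_mono ?_ ?_ <;> rwa [← MonoidHom.range_eq_map, range_subtype]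
    rw [derivedSeries_succ, eq_bot_iff]
    refine (commutator_mono h2 h2).trans ?_
    rw [← map_commutator, (commutator_eq_bot_iff_le_centralizer).mpr (center_le_centralizer _),
      Subgroup.map_bot]
  · intro x
    have h1 : x ^ p ∈ Q := by
      rw [← QuotientGroup.eq_one_iff, QuotientGroup.mk_pow, ← hQi, index_eq_card, pow_card_eq_one'] 
    have h2 := special_pow_mem_center hQ.1 (⟨x ^ p, h1⟩ : Q)
    have h3 : ((⟨(⟨x ^ p, h1⟩ : Q) ^ p, h2⟩ : center Q)) ^ p = 1 := by
      have h4 := pow_card_eq_one' (x := (⟨(⟨x ^ p, h1⟩ : Q) ^ p, h2⟩ : center Q))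
      rwa [hQ.2] at h4
    have := congrArg (fun z : center Q => ((z : Q) : S)) h3
    simp only [SubmonoidClass.coe_pow, OneMemClass.coe_one] at this
    rw [← this, ← pow_mul, ← pow_mul]; ring_nf

end Cfsg.Agent.S3809
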