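import Cfsg.Statements.S3810
import Cfsg.Agent.S3808
import Cfsg.Agent.Lib.PGroupsExtraspecial

set_option autoImplicit false
open Cfsg

namespace Cfsg.Agent.S3810

open Subgroup Cfsg.Agent.PGroupsBasic Cfsg.Agent.PGroupsExtraspecial
open scoped commutatorElement

/-- Let S be a finite p-group with an extraspecial subgroup of index p. Then S has an abelian subgroup of index p if and only if S has order p⁴. -/
theorem result {S : Type*} [Group S] [Finite S] (p : ℕ) [Fact p.Prime] (hS : IsPGroup p S) (Q : Subgroup S) (hQ : Cfsg.IsExtraspecial p ↥Q) (hQi : Q.index = p) :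
    (∃ A : Subgroup S, IsMulCommutative ↥A ∧ A.index = p) ↔ Nat.card S = p ^ 4 := by
  have hQn := normal_of_index_eq hS hQi
  have hp1 := (Fact.out : p.Prime).one_lt
  obtain ⟨n, hn1, hn⟩ := extraspecial_card hQ
  have hcard : Nat.card S = p ^ (2 * n + 1) * p := by rw [← card_mul_index Q, hn, hQi]
  have hZS := Cfsg.Agent.S3808.map_center_le hS hQ hQi
  have hZi := Cfsg.Agent.S3808.center_inf hS hQ hQi
  constructor
  · rintro ⟨A, hA, hAi⟩
    have hAn := normal_of_index_eq hS hAi
    have hnc : ¬ IsMulCommutative Q := fun h => extraspecial_not_comm hQ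
      (eq_top_iff.mpr fun q _ => mem_center_iff.mpr fun r => h.is_comm.comm r q)
    set B := A.subgroupOf Q with hB
    have hBc : ∀ a ∈ B, ∀ b ∈ B, a * b = b * a := fun a ha b hb =>
      Subtype.ext (comm_of_isMulCommutative hA ha hb)
    have hBi : B.index ≤ p := by
      rw [← hAi]
      exact Nat.le_of_dvd (by omega) (relIndex_dvd_index_of_normal A Q)
    have hBne : B ≠ ⊤ := fun h => hnc (isMulCommutative_mono hA (subgroupOf_eq_top.mp h))
    obtain ⟨x, -, hx⟩ := SetLike.exists_of_lt (lt_top_iff_ne_top.mpr hBne)
    have hBp : B.index = p := by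
      obtain ⟨k, hk⟩ := hQ.1.1.index B
      rcases Nat.eq_zero_or_pos k with rfl | hk0
      · exact absurd (index_eq_one.mp (by simpa using hk)) hBne
      · exact le_antisymm hBi (by rw [hk]; exact Nat.le_self_pow hk0.ne' p)
    have htop : B ⊔ zpowers x = ⊤ :=
      (isCoatom_of_index_eq hBp).2 _ (lt_of_le_of_ne le_sup_left fun e =>
        hx (sup_eq_left.mp e.symm (mem_zpowers x)))
    have hker : centralizer {x} ⊓ B ≤ center Q := by
      rintro b ⟨hb1, hb2⟩
      refine mem_center_iff.mpr fun q => ?_
      have hle : B ⊔ zpowers x ≤ centralizer {b} := sup_le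
        (fun a ha => mem_centralizer_singleton_iff.mpr (hBc a ha b hb2))
        (zpowers_le.mpr (mem_centralizer_singleton_iff.mpr (mem_centralizer_singleton_iff.mp hb1).symm))
      exact mem_centralizer_singleton_iff.mp (hle (htop ▸ mem_top q))
    have hr : (centralizer {x}).relIndex B ≤ p := by
      by_cases hxc : x ∈ center Q
      · have : centralizer ({x} : Set Q) = ⊤ := eq_top_iff.mpr fun q _ =>
          mem_centralizer_singleton_iff.mpr (mem_center_iff.mp hxc q)
        rw [this, relIndex_top_left]; omega
      · have hi := extraspecial_index_centralizer hQ hxc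
        have := normal_of_index_eq hQ.1.1 hi
        exact (Nat.le_of_dvd (by omega) (relIndex_dvd_index_of_normal _ B)).trans hi.le
    have hB2 : Nat.card B ≤ p * p := by
      rw [← relIndex_bot_left, ← relIndex_mul_relIndex ⊥ (centralizer {x} ⊓ B) B bot_le inf_le_right,
        relIndex_bot_left, inf_relIndex_right]
      exact Nat.mul_le_mul ((Nat.card_le_card_of_injective _ (inclusion_injective hker)).trans hQ.2.le) hr
    have hQ3 : p ^ (2 * n + 1) ≤ p ^ 3 := by
      rw [← hn, ← card_mul_index B, hBp]
      exact (Nat.mul_le_mul_right p hB2).trans (by ring_nf; rfl)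
    have := (Nat.pow_le_pow_iff_right hp1).mp hQ3
    rw [hcard, show n = 1 by omega]; ring
  · intro h4
    set Z := (center Q).map Q.subtype with hZ
    have hZn : Z.Normal := normal_of_le_center hZS
    have hZc : Nat.card Z = p := by rw [hZ, card_subtype, hQ.2]
    obtain ⟨B, hBn, hZB, hBQ, hBc⟩ := exists_normal_card hS (map_subtype_le (center Q) : Z ≤ Q) 1 (by
      rw [hZc, pow_one, hn]
      calc p * p = p ^ 2 := (sq p).symm
        _ ≤ p ^ (2 * n + 1) := Nat.pow_le_pow_right (by omega) (by omega))
    rw [hZc, pow_one] at hBc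
    obtain ⟨b, hbB, hbZ⟩ := SetLike.exists_of_lt (lt_of_le_of_ne hZB fun e => by
      rw [← e, hZc] at hBc; nlinarith)
    have hcomm : ∀ g : S, ⁅g, b⁆ ∈ Z := by
      intro g
      have hm : (B.map (QuotientGroup.mk' Z)) ≤ center (S ⧸ Z) := by
        have := hBn.map (QuotientGroup.mk' Z) (QuotientGroup.mk'_surjective Z)
        refine le_center_of_card_eq_prime (hS.to_quotient Z) ?_
        have h1 := card_mul_index (Z.subgroupOf B)
        rw [Nat.card_congr (subgroupOfEquivOfLe hZB).toEquiv, hZc, hBc] at h1
        have h2 : (Z.subgroupOf B).index = p := Nat.eq_of_mul_eq_mul_left (by omega) h1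
        rw [← relIndex_ker, QuotientGroup.ker_mk']; exact h2
      refine (QuotientGroup.eq_one_iff (N := Z) _).mp ?_
      show ⁅QuotientGroup.mk' Z g, QuotientGroup.mk' Z b⁆ = 1
      exact commutatorElement_eq_one_iff_mul_comm.mpr (mem_center_iff.mp (hm (mem_map_of_mem _ hbB)) _)
    let φ := commHom b fun g => hZS (hcomm g)
    have hφ : φ.range ≤ Z := by rintro _ ⟨g, rfl⟩; exact hcomm g
    have hC : φ.ker.index ≤ p := by
      rw [index_ker, ← hZc]; exact Nat.card_le_card_of_injective _ (inclusion_injective hφ)
    have hkc : φ.ker = centralizer {b} := by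
      ext g; exact mem_centralizer_singleton.symm
    rw [hkc] at hC
    have hBC : B ≤ centralizer {b} := by
      intro a ha
      have : IsMulCommutative B := isMulCommutative_of_card_le_sq (hS.to_subgroup B) (by rw [hBc, sq])
      exact mem_centralizer_singleton_iff.mpr (comm_of_isMulCommutative this ha hbB)
    refine ⟨centralizer {b}, ?_, ?_⟩
    · -- abelian
      set C := centralizer ({b} : Set S)
      have hCne : C ≠ ⊤ := fun e => hbZ (hZi.le ⟨mem_center_iff.mpr fun g => mem_centralizer_singleton_iff.mp (show g ∈ C from e ▸ mem_top g), hBQ hbB⟩)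
      have hclt : Nat.card C < p ^ 4 := h4 ▸ lt_of_le_of_ne (card_le_card_group C)
        (fun e => hCne (eq_top_of_card_eq C e))
      obtain ⟨k, hk⟩ := IsPGroup.iff_card.mp (hS.to_subgroup C)
      have hk3 : k ≤ 3 := by
        rw [hk] at hclt
        exact Nat.lt_succ_iff.mp ((Nat.pow_lt_pow_iff_right hp1).mp hclt)
      have hbc : (⟨b, hBC hbB⟩ : C) ∈ center C := mem_center_iff.mpr fun c =>
        Subtype.ext (mem_centralizer_singleton_iff.mp c.2)
      have hzc : Z.subgroupOf C ≤ center C := fun c hc => mem_center_iff.mpr fun d =>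
        Subtype.ext (mem_center_iff.mp (hZS hc) _)
      have hlt : Z.subgroupOf C < center C := lt_of_le_of_ne hzc fun e => hbZ (mem_subgroupOf.mp (show (⟨b, hBC hbB⟩ : C) ∈ Z.subgroupOf C by rw [e]; exact hbc))
      have hi : (center C).index ≤ p := by
        obtain ⟨l, hl⟩ := IsPGroup.iff_card.mp ((hS.to_subgroup C).to_subgroup (center C))
        have h1 : p ^ 1 < p ^ l := by
          rw [pow_one, ← hl, ← hZc, ← Nat.card_congr (subgroupOfEquivOfLe (hZB.trans hBC)).toEquiv]
          exact lt_of_le_of_ne (Nat.card_le_card_of_injective _ (inclusion_injective hzc))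
            fun e => hlt.ne (eq_of_le_of_card_ge hzc e.ge)
        have h1' := (Nat.pow_lt_pow_iff_right hp1).mp h1
        have h2 := card_mul_index (center C)
        rw [hl, hk] at h2
        refine Nat.le_of_mul_le_mul_left ?_ (pow_pos (by omega : 0 < p) l)
        rw [h2, ← pow_succ]
        exact Nat.pow_le_pow_right (by omega) (by omega)
      have : IsCyclic (C ⧸ center C) := by
        obtain ⟨m, hm⟩ := (hS.to_subgroup C).index (center C)
        rw [hm, ← pow_one p] at hi
        have : m ≤ 1 := (Nat.pow_le_pow_iff_right hp1).mp (by simpa using hi)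
        interval_cases m
        · have : Subsingleton (C ⧸ center C) := (Nat.card_eq_one_iff_unique.mp (by rw [← index_eq_card, hm, pow_zero])).1
          infer_instance
        · exact isCyclic_of_prime_card (p := p) (by rw [← index_eq_card, hm, pow_one])
      exact ⟨⟨commutative_of_cyclic_center_quotient (QuotientGroup.mk' (center C)) (le_of_eq (QuotientGroup.ker_mk' _))⟩⟩
    · obtain ⟨k, hk⟩ := hS.index (centralizer {b})
      have hne : (centralizer {b} : Subgroup S) ≠ ⊤ := fun e => hbZ (hZi.le ⟨mem_center_iff.mpr fun g => mem_centralizer_singleton_iff.mp (e ▸ mem_top g), hBQ hbB⟩)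
      rcases Nat.eq_zero_or_pos k with rfl | hk0
      · exact absurd (index_eq_one.mp (by simpa using hk)) hne
      · exact le_antisymm hC (by rw [hk]; exact Nat.le_self_pow hk0.ne' p)

end Cfsg.Agent.S3810
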