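import Cfsg.Statements.S3814
import Cfsg.Agent.Lib.FourPrimesTop
-- import your own Cfsg.Agent.* helpers here

set_option autoImplicit false
open Cfsg

namespace Cfsg.Agent.S3814

/-- A criterion for nonsolvability from element orders: let G be a finite group and σ a set of at least four primes such that for all distinct p, q ∈ σ the product pq is the order of some element of G, while for all pairwise distinct p, q, r ∈ σ no element of G has order pqr. Then G is not solvable. -/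
theorem result {G : Type*} [Group G] [Finite G]
    (σ : Finset ℕ) (hσ : 4 ≤ σ.card) (hprime : ∀ p ∈ σ, p.Prime)
    (h2 : ∀ p ∈ σ, ∀ q ∈ σ, p ≠ q → ∃ g : G, orderOf g = p * q)
    (h3 : ∀ p ∈ σ, ∀ q ∈ σ, ∀ r ∈ σ, p ≠ q → q ≠ r → p ≠ r → ∀ g : G, orderOf g ≠ p * q * r) :
    ¬ Group.IsSolvable G := by
  intro hsol
  classical
  obtain ⟨τ, hτσ, hτ⟩ := Finset.exists_subset_card_eq hσ
  obtain ⟨l, hl⟩ : ∃ l : List ℕ, l = τ.toList := ⟨_, rfl⟩
  have hlen : l.length = 4 := by rw [hl, Finset.length_toList, hτ]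
  have hnd : l.Nodup := hl ▸ τ.nodup_toList
  match l, hlen with
  | [p, q, t, r], _ =>
  have hmem : ∀ s, s ∈ τ ↔ (s = p ∨ s = q ∨ s = t ∨ s = r) := fun s => by
    rw [← Finset.mem_toList, ← hl]; simp
  simp only [List.nodup_cons, List.mem_cons, List.not_mem_nil, not_or, or_false, List.nodup_nil,
    not_false_eq_true, and_true] at hnd
  obtain ⟨⟨hpq, hpt, hpr⟩, ⟨hqt, hqr⟩, htr⟩ := hnd
  obtain ⟨H, hH⟩ := HallTheorem.exists_isPiHall_of_solvable (G := G) {s | s ∈ τ}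
  have hjoinG : ∀ s ∈ τ, ∀ s' ∈ τ, s ≠ s' →
      ∃ a b : G, orderOf a = s ∧ orderOf b = s' ∧ Commute a b := by
    intro s hs s' hs' hne
    obtain ⟨g, hg⟩ := h2 s (hτσ hs) s' (hτσ hs') hne
    obtain ⟨h1, h1'⟩ := FourPrimes.exists_pair_of_order hg (hprime s (hτσ hs)).ne_zero
      (hprime s' (hτσ hs')).ne_zero
    exact ⟨g ^ s', g ^ s, h1, h1', (Commute.refl g).pow_pow _ _⟩
  have hjH : ∀ s ∈ τ, ∀ s' ∈ τ, s ≠ s' →
      ∃ a b : H, orderOf a = s ∧ orderOf b = s' ∧ Commute a b := by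
    intro s hs s' hs' hne
    obtain ⟨a, b, ha, hb, hab⟩ := hjoinG s hs s' hs' hne
    exact FourPrimes.joined_in_hall hH (hprime s (hτσ hs)) (hprime s' (hτσ hs')) hne hs hs' ha hb hab
  have hHall : ∀ s : ℕ, s.Prime → s ∣ Nat.card H → s ∈ τ := fun s hs hd => hH.1 s hs hd
  have hdvd : ∀ s ∈ τ, s ∣ Nat.card H := by
    intro s hs
    obtain ⟨s', hs', hne⟩ : ∃ s' ∈ τ, s' ≠ s := Finset.exists_mem_ne (by omega) s
    obtain ⟨a, b, ha, -, -⟩ := hjH s hs s' hs' hne.symm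
    exact ha ▸ orderOf_dvd_natCard a
  have hP := fun s (hs : s ∈ τ) => hprime s (hτσ hs)
  have hp := (hmem p).mpr (Or.inl rfl)
  have hq := (hmem q).mpr (Or.inr (Or.inl rfl))
  have ht := (hmem t).mpr (Or.inr (Or.inr (Or.inl rfl)))
  have hr := (hmem r).mpr (Or.inr (Or.inr (Or.inr rfl)))
  refine FourPrimes.no_four (G := H) (p := p) (q := q) (t := t) (r := r)
    ⟨hP p hp, hP q hq, hP t ht, hP r hr, hdvd p hp, hdvd q hq, hdvd t ht, hdvd r hr,
      hpq, hpt, hpr, hqt, hqr, htr, fun s hs hd => (hmem s).mp (hHall s hs hd)⟩ ?_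
    (fun s s' hs hd hs' hd' hne => hjH s (hHall s hs hd) s' (hHall s' hs' hd') hne)
  intro a b c ha hb hc hab hbc hac cab cac cbc
  have hmemσ : ∀ x : H, (orderOf x).Prime → orderOf x ∈ σ := fun x hx =>
    hτσ (hHall _ hx (orderOf_dvd_natCard x))
  refine h3 _ (hmemσ a ha) _ (hmemσ b hb) _ (hmemσ c hc) hab hbc hac ((a * b * c : H) : G) ?_
  rw [Subgroup.orderOf_coe]
  exact FourPrimes.orderOf_prod_three ((Nat.coprime_primes ha hb).mpr hab)
    ((Nat.coprime_primes hb hc).mpr hbc) ((Nat.coprime_primes ha hc).mpr hac) cab cac cbc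
end Cfsg.Agent.S3814
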