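import Cfsg.Statements.S3816
import Cfsg.Agent.Lib.FlavellFixed89

set_option autoImplicit false
open Cfsg

namespace Cfsg.Agent.S3816

/-- Let p be an odd prime, H a finite solvable group of order prime to p, and x an automorphism of H of order p (so P = ⟨x⟩ has prime order p > 2 and acts coprimely on H). For h ∈ H let [h, P] be the subgroup generated by the commutators h⁻¹·xⁱ(h), and let [H, P] be the subgroup generated by all of these. Then the fixed points of x in [H, P] are generated by the fixed points of x in the subgroups [h, P], h ∈ H. -/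
theorem result {H : Type*} [Group H] [Finite H]
    [Group.IsSolvable H] {p : ℕ} [Fact p.Prime] (hp : p ≠ 2) (hcop : (Nat.card H).Coprime p)
    (x : MulAut H) (hx : orderOf x = p) :
    Subgroup.closure {c : H | ∃ h : H, ∃ i : ℕ, c = h⁻¹ * (x ^ i) h} ⊓ (x : H →* H).eqLocus (MonoidHom.id H) =
      ⨆ h : H, Subgroup.closure {c : H | ∃ i : ℕ, c = h⁻¹ * (x ^ i) h} ⊓ (x : H →* H).eqLocus (MonoidHom.id H) := by
  have hx' : x ^ p = 1 := hx ▸ pow_orderOf_eq_one x
  have h1 : ∀ h : H, Subgroup.closure {c : H | ∃ i : ℕ, c = h⁻¹ * (x ^ i) h} =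
      FlavellFixed89.comm x h := fun h => by
    refine congrArg Subgroup.closure (Set.ext fun c => ?_)
    simp [FlavellFixed89.dif, eq_comm]
  have h2 : Subgroup.closure {c : H | ∃ h : H, ∃ i : ℕ, c = h⁻¹ * (x ^ i) h} =
      FlavellFixed89.joinComm x ⊤ := by
    refine le_antisymm ?_ ?_
    · rw [Subgroup.closure_le]
      rintro c ⟨h, i, rfl⟩
      exact FlavellFixed89.dif_mem_joinComm (Subgroup.mem_top h) i
    · exact FlavellFixed89.joinComm_le_iff.mpr fun h _ i => Subgroup.subset_closure ⟨h, i, rfl⟩
  rw [h2]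
  simp only [h1]
  refine le_antisymm ?_ ?_
  · exact FlavellFixed89.joinComm_inf_fixed_le hp _ H x rfl inferInstance hcop hx'
  · exact le_inf FlavellFixed89.fixGen_le_joinComm FlavellFixed89.fixGen_le_fixed

end Cfsg.Agent.S3816
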