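import Cfsg.Statements.S3818
import Cfsg.Agent.Lib.FixHalfLinear57

set_option autoImplicit false
open Cfsg

namespace Cfsg.Agent.S3818

/-- Let G be a finite solvable group and P a subgroup of G of prime order p > 3 whose conjugates generate G. Let V be a faithful irreducible representation of G over a field of positive characteristic, finite-dimensional. Then the subspace of V fixed by P has dimension less than half the dimension of V. -/
theorem result {G : Type*} [Group G] [Finite G] [Group.IsSolvable G]
    {p : ℕ} [Fact p.Prime] (hp : 3 < p) (P : Subgroup G) (hP : Nat.card P = p) (hgen : Subgroup.normalClosure (P : Set G) = ⊤)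
    {k : Type*} [Field k] (ℓ : ℕ) [Fact ℓ.Prime] [CharP k ℓ]
    {V : Type*} [AddCommGroup V] [Module k V] [FiniteDimensional k V]
    (ρ : Representation k G V) [ρ.IsIrreducible] (hfaith : Function.Injective ρ) :
    2 * Module.finrank k ↥(⨅ g : ↥P, LinearMap.ker (ρ (g : G) - LinearMap.id)) < Module.finrank k V := by
  have hpP : p.Prime := Fact.out
  obtain ⟨⟨π, hπP⟩, hne⟩ : ∃ x : P, x ≠ 1 := by
    have h1 : 1 < Nat.card P := by rw [hP]; exact hpP.one_lt
    have : Nontrivial P := Finite.one_lt_card_iff_nontrivial.mp h1
    exact exists_ne 1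
  have hπ1 : π ≠ 1 := fun h => hne (Subtype.ext h)
  have hpow : π ^ p = 1 := by
    have h := pow_card_eq_one' (x := (⟨π, hπP⟩ : P))
    rw [hP] at h
    exact congrArg Subtype.val h
  have hgen' : Subgroup.normalClosure ({π} : Set G) = ⊤ := by
    refine top_le_iff.mp (hgen ▸ Subgroup.normalClosure_le_normal ?_)
    intro x hx
    obtain ⟨n, hn⟩ := Subgroup.mem_zpowers_iff.mp
      (mem_zpowers_of_prime_card hP hne (g' := (⟨x, hx⟩ : P)))
    have hx' : π ^ n = x := by simpa using congrArg Subtype.val hn
    have hm : π ∈ Subgroup.normalClosure ({π} : Set G) :=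
      Subgroup.subset_normalClosure (Set.mem_singleton π)
    rw [SetLike.mem_coe, ← hx']
    exact Subgroup.zpow_mem _ hm n
  have hp5 : 5 ≤ p := by
    rcases Nat.lt_or_ge p 5 with h | h
    · interval_cases p
      exact absurd hpP (by norm_num)
    · exact h
  refine lt_of_le_of_lt (Nat.mul_le_mul_left _ (Submodule.finrank_mono ?_))
    (FixHalfLinear57.two_mul_fixed_lt hp5 hpow hπ1 hgen' hfaith)
  exact iInf_le_of_le (⟨π, hπP⟩ : P) le_rfl

end Cfsg.Agent.S3818
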