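import Cfsg.Statements.S3819
import Cfsg.Agent.Lib.CoprimeAction
import Cfsg.Agent.Lib.OddLocalBase
import Cfsg.Agent.Lib.ComponentsFitting
import Cfsg.Agent.Lib.HallCore
-- import your own Cfsg.Agent.* helpers here

set_option autoImplicit false
open Cfsg

namespace Cfsg.Agent.S3819

open scoped Pointwise
open CoprimeAction

variable {G : Type*} [Group G] [Finite G]

theorem normalizes_map_pCore (r : ℕ) {K A : Subgroup G} (hA : A ≤ Subgroup.normalizer (K : Set G)) :
    A ≤ Subgroup.normalizer (((Cfsg.pCore r K).map K.subtype : Subgroup G) : Set G) := by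
  haveI := HallCore.pCore_characteristic r K
  exact OddLocalBase.le_normalizer_map_characteristic hA _

theorem normalizes_map_pPrimeCore (r : ℕ) {K A : Subgroup G} (hA : A ≤ Subgroup.normalizer (K : Set G)) :
    A ≤ Subgroup.normalizer (((Cfsg.pPrimeCore r K).map K.subtype : Subgroup G) : Set G) := by
  haveI := HallCore.pPrimeCore_characteristic r K
  exact OddLocalBase.le_normalizer_map_characteristic hA _

omit [Finite G] in
theorem card_map_sub {K : Subgroup G} (L : Subgroup K) : Nat.card ↥(L.map K.subtype) = Nat.card L :=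
  (Nat.card_congr (Subgroup.equivMapOfInjective L K.subtype K.subtype_injective).toEquiv).symm

/-- In a solvable group, the Fitting subgroup is a `q`-group if no other prime core is nontrivial. -/
theorem fitting_le_pCore {K : Type*} [Group K] [Finite K] (q : ℕ) [Fact q.Prime]
    (h : ∀ r : ℕ, r.Prime → r ≠ q → Cfsg.pCore r K = ⊥) :
    Cfsg.fittingSubgroup K ≤ Cfsg.pCore q K := by
  refine sSup_le fun F hF => ?_
  haveI := hF.1
  haveI := hF.2
  refine HallCore.le_pCore ?_
  refine IsPGroup.of_card (n := (Nat.card F).primeFactorsList.length) ?_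
  refine Nat.eq_prime_pow_of_unique_prime_dvd Nat.card_pos.ne' fun {r} hr hrF => ?_
  by_contra hne
  haveI : Fact r.Prime := ⟨hr⟩
  have R : Sylow r F := default
  have hRn : (R : Subgroup F).Normal :=
    R.normal_of_normalizerCondition Group.normalizerCondition_of_isNilpotent
  have hRc : (R : Subgroup F).Characteristic := Sylow.characteristic_of_normal R hRn
  have hle : ((R : Subgroup F).map F.subtype) ≤ Cfsg.pCore r K :=
    HallCore.le_pCore (R.isPGroup'.map F.subtype)
  rw [h r hr hne, le_bot_iff, Subgroup.map_eq_bot_iff_of_injective _ F.subtype_injective] at hle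
  exact Sylow.ne_bot_of_dvd_card R hrF hle

omit [Finite G] in
theorem normalizer_le_normalizer_centralizer (S : Subgroup G) :
    Subgroup.normalizer (S : Set G) ≤ Subgroup.normalizer (Subgroup.centralizer (S : Set G) : Set G) := by
  refine CoprimeAction.le_normalizer_of_conj_mem fun a ha x hx => Subgroup.mem_centralizer_iff.2 fun s hs => ?_
  have h := Subgroup.mem_centralizer_iff.1 hx _ (CoprimeAction.conj_mem' ha hs)
  calc s * (a * x * a⁻¹) = a * ((a⁻¹ * s * a) * x) * a⁻¹ := by group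
    _ = a * (x * (a⁻¹ * s * a)) * a⁻¹ := by rw [h]
    _ = a * x * a⁻¹ * s := by group

theorem core {H P : Subgroup G} (hH : H.Normal) {p q : ℕ} [Fact p.Prime] [Fact q.Prime]
    (hP : IsPGroup p P) (hcop : (Nat.card P).Coprime (Nat.card H)) (hsol : Group.IsSolvable ↥⁅H, P⁆)
    (hO : ∀ M : Subgroup G, M ≤ H → H ≤ Subgroup.normalizer (M : Set G) → (Nat.card M).Coprime q → M = ⊥)
    {z : G} (hzH : z ∈ H) (hz : ∃ k, orderOf z = q ^ k) (hzP : z ∈ Subgroup.centralizer (P : Set G))
    (A B : Subgroup G) (hA : A ≤ H ⊓ Subgroup.centralizer {z}) (hAq : (Nat.card A).Coprime q)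
    (hAn : H ⊓ Subgroup.centralizer {z} ≤ Subgroup.normalizer (A : Set G))
    (hAP : P ≤ Subgroup.normalizer (A : Set G))
    (hBq : (Nat.card B).Coprime q) (hBn : H ⊓ Subgroup.centralizer (P : Set G) ≤ Subgroup.normalizer (B : Set G)) :
    ⁅A, P⁆ = ⊥ ∧ A ⊓ B = ⊥ := by
  have hHn : ∀ x : G, x ∈ Subgroup.normalizer (H : Set G) := fun x => by
    rw [Subgroup.normalizer_eq_top_iff.2 hH]; trivial
  have hPH : P ≤ Subgroup.normalizer (H : Set G) := fun x _ => hHn x
  set K := ⁅H, P⁆ with hKdef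
  have hKH : K ≤ H := Subgroup.le_normalizer_iff_commutator_le_left.1 hPH
  have hHK : H ≤ Subgroup.normalizer (K : Set G) := Subgroup.normalizer_commutator_ge_left H P
  set Q0 := (Cfsg.pCore q K).map K.subtype with hQ0
  have hHQ : H ≤ Subgroup.normalizer (Q0 : Set G) := normalizes_map_pCore q hHK
  have hQ0K : Q0 ≤ K := Subgroup.map_subtype_le _
  have hQ0q : IsPGroup q Q0 := (HallCore.isPGroup_pCore q K).map K.subtype
  haveI := hsol
  have hCQ : ∀ x ∈ K, x ∈ Subgroup.centralizer (Q0 : Set G) → x ∈ Q0 := by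
    intro x hx hxc
    have hF : Cfsg.fittingSubgroup K ≤ Cfsg.pCore q K := by
      refine fitting_le_pCore q fun r hr hrq => ?_
      haveI : Fact r.Prime := ⟨hr⟩
      have h1 := hO ((Cfsg.pCore r K).map K.subtype) ((Subgroup.map_subtype_le _).trans hKH)
        (normalizes_map_pCore r hHK) (by
          rw [card_map_sub]
          obtain ⟨n, hn⟩ := IsPGroup.iff_card.1 (HallCore.isPGroup_pCore r K)
          rw [hn]
          exact Nat.Coprime.pow_left n ((Nat.coprime_primes hr Fact.out).2 hrq))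
      rwa [Subgroup.map_eq_bot_iff_of_injective _ K.subtype_injective] at h1
    have h2 : (⟨x, hx⟩ : K) ∈ Subgroup.centralizer (Cfsg.fittingSubgroup K : Set K) :=
      Subgroup.mem_centralizer_iff.2 fun y hy => Subtype.ext
        (Subgroup.mem_centralizer_iff.1 hxc y ⟨y, hF hy, rfl⟩)
    exact ⟨_, hF (ComponentsFitting.centralizer_fitting_le_of_solvable h2), rfl⟩
  have hdisj : ∀ x : G, x ∈ A → x ∈ Q0 → x = 1 := fun x h1 h2 => by
    have h3 : orderOf x ∣ Nat.card A := Subgroup.orderOf_dvd_natCard A h1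
    obtain ⟨n, hn⟩ := hQ0q ⟨x, h2⟩
    have h4 : orderOf x ∣ q ^ n := orderOf_dvd_of_pow_eq_one
      ((SubmonoidClass.coe_pow _ _).symm.trans (congrArg Subtype.val hn))
    exact orderOf_eq_one_iff.1 (Nat.Coprime.eq_one_of_dvd
      (((hAq.coprime_dvd_left h3)).pow_right n) h4)
  have hAH : A ≤ H := hA.trans inf_le_left
  have hAQ : A ≤ Subgroup.centralizer (Q0 : Set G) := by
    have hfix : ∀ v ∈ Q0, z * v = v * z → v ∈ Subgroup.centralizer (A : Set G) := by
      intro v hv hzv
      refine Subgroup.mem_centralizer_iff.2 fun a ha => ?_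
      have hv' : v ∈ H ⊓ Subgroup.centralizer {z} :=
        ⟨hKH (hQ0K hv), Subgroup.mem_centralizer_singleton_iff.2 hzv.symm⟩
      have h1 : a * v * a⁻¹ * v⁻¹ ∈ Q0 :=
        Q0.mul_mem (CoprimeAction.conj_mem (hHQ (hAH ha)) hv) (Q0.inv_mem hv)
      have h2 : a * v * a⁻¹ * v⁻¹ ∈ A := by
        rw [show a * v * a⁻¹ * v⁻¹ = a * (v * a⁻¹ * v⁻¹) by group]
        exact A.mul_mem ha (CoprimeAction.conj_mem (hAn hv') (A.inv_mem ha))
      exact mul_inv_eq_iff_eq_mul.1 (mul_inv_eq_one.1 (hdisj _ h2 h1))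
    have hzA : ∀ a ∈ A, a * z = z * a := fun a ha => Subgroup.mem_centralizer_singleton_iff.1 (hA ha).2
    have hzQ : Subgroup.zpowers z ≤ Subgroup.normalizer (Q0 : Set G) :=
      Subgroup.zpowers_le.2 (hHQ hzH)
    let Q1 : Subgroup G := Subgroup.zpowers z ⊔ Q0
    have hzq : IsPGroup q (Subgroup.zpowers z) := by
      obtain ⟨k, hk⟩ := hz
      exact IsPGroup.of_card (n := k) (by rw [Nat.card_zpowers, hk])
    have hQ1 : IsPGroup q Q1 := IsPGroup.to_sup_of_normal_right' hzq hQ0q hzQ
    refine le_trans ?_ (Subgroup.centralizer_le (show (Q0 : Set G) ⊆ Q1 from (le_sup_right : Q0 ≤ Q1)))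
    refine OddLocalBase.le_centralizer_of_centralizer_le Q1 A hQ1.isNilpotent ?_ ?_ ?_
    · refine CoprimeAction.le_normalizer_of_conj_mem fun a ha x hx => ?_
      rw [← SetLike.mem_coe, Subgroup.coe_mul_of_left_le_normalizer_right _ _ hzQ] at hx
      obtain ⟨w, hw, v, hv, rfl⟩ := hx
      obtain ⟨i, rfl⟩ := Subgroup.mem_zpowers_iff.1 hw
      have hc : a * z ^ i = z ^ i * a := ((show Commute a z from hzA a ha).zpow_right i).eq
      rw [show a * (z ^ i * v) * a⁻¹ = (a * z ^ i) * v * a⁻¹ by group, hc,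
        show z ^ i * a * v * a⁻¹ = z ^ i * (a * v * a⁻¹) by group]
      exact Q1.mul_mem (Subgroup.mem_sup_left hw)
        (Subgroup.mem_sup_right (CoprimeAction.conj_mem (hHQ (hAH ha)) hv))
    · obtain ⟨n, hn⟩ := IsPGroup.iff_card.1 hQ1
      rw [hn]
      exact hAq.pow_right n
    · intro x hx
      refine ⟨hx.1, ?_⟩
      have hzC : z ∈ Q1 ⊓ Subgroup.centralizer (A : Set G) :=
        ⟨Subgroup.mem_sup_left (Subgroup.mem_zpowers z), Subgroup.mem_centralizer_iff.2 hzA⟩
      have hzx : z * x = x * z := Subgroup.mem_centralizer_iff.1 hx.2 z hzC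
      have hx1 := hx.1
      rw [SetLike.mem_coe] at *
      change x ∈ ((Subgroup.zpowers z ⊔ Q0 : Subgroup G) : Set G) at hx1
      rw [Subgroup.coe_mul_of_left_le_normalizer_right _ _ hzQ] at hx1
      obtain ⟨w, hw, v, hv, rfl⟩ := hx1
      obtain ⟨i, rfl⟩ := Subgroup.mem_zpowers_iff.1 hw
      have hzv : z * v = v * z := by
        rw [← mul_assoc, ← ((Commute.refl z).zpow_left i).eq, mul_assoc, mul_assoc] at hzx
        exact mul_left_cancel hzx
      exact Subgroup.mul_mem _ (Subgroup.zpow_mem _ hzC.2 i) (hfix v hv hzv)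
  have hAPbot : ⁅A, P⁆ = ⊥ := by
    rw [Subgroup.eq_bot_iff_forall]
    intro x hx
    have hxA : x ∈ A := Subgroup.le_normalizer_iff_commutator_le_left.1 hAP hx
    exact hdisj x hxA (hCQ x (Subgroup.commutator_mono hAH le_rfl hx) (hAQ hxA))
  refine ⟨hAPbot, ?_⟩
  have hAC : A ≤ Subgroup.centralizer (P : Set G) := Subgroup.commutator_eq_bot_iff_le_centralizer.1 hAPbot
  set L := H ⊓ Subgroup.centralizer (Q0 : Set G) with hLdef
  have hHL : H ≤ Subgroup.normalizer (L : Set G) :=
    CoprimeAction.le_normalizer_inf Subgroup.le_normalizer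
      (hHQ.trans (normalizer_le_normalizer_centralizer _))
  set B' := B ⊓ L with hB'
  have hBL : B' ≤ L := inf_le_right
  have hLB : L ≤ Subgroup.normalizer (B' : Set G) := by
    intro l hl
    have hPQ : P ≤ Subgroup.normalizer (Q0 : Set G) :=
      normalizes_map_pCore q (Subgroup.normalizer_commutator_ge_right H P)
    have hPD : P ≤ Subgroup.normalizer ((K ⊓ L : Subgroup G) : Set G) :=
      CoprimeAction.le_normalizer_inf (Subgroup.normalizer_commutator_ge_right H P)
        (CoprimeAction.le_normalizer_inf hPH (hPQ.trans (normalizer_le_normalizer_centralizer _)))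
    obtain ⟨c, hc, hlc⟩ := CoprimeAction.exists_fixed_mem_coset hPD
      (CoprimeAction.coprime_of_le_right (inf_le_left.trans hKH) hcop)
      (Or.inl (CoprimeAction.isSolvable_of_isPGroup hP)) l (fun a ha => by
        have h1 : l⁻¹ * a * l * a⁻¹ ∈ K := by
          have := Subgroup.commutator_mem_commutator (H.inv_mem hl.1) ha
          simpa [commutatorElement_def, mul_assoc] using this
        refine ⟨h1, ?_⟩
        have hLP : P ≤ Subgroup.normalizer (L : Set G) :=
          CoprimeAction.le_normalizer_inf hPH (hPQ.trans (normalizer_le_normalizer_centralizer _))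
        have := L.mul_mem (L.inv_mem hl) (CoprimeAction.conj_mem (hLP ha) hl)
        simpa [mul_assoc] using this)
    have hcL : c ∈ L := by
      have := L.mul_mem hl hlc.2
      simpa using this
    have hy : l⁻¹ * c ∈ Q0 := hCQ _ hlc.1 hlc.2.2
    have hl' : l = c * (l⁻¹ * c)⁻¹ := by group
    rw [hl']
    refine Subgroup.mul_mem _
      (CoprimeAction.le_normalizer_inf (A := H ⊓ Subgroup.centralizer (P : Set G)) hBn (inf_le_left.trans hHL)
        ⟨hcL.1, hc⟩) (Subgroup.inv_mem _ ?_)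
    exact Subgroup.centralizer_le_normalizer _ (Subgroup.mem_centralizer_iff.2 fun b hb =>
      (Subgroup.mem_centralizer_iff.1 hb.2.2 _ hy).symm)
  have h1 := hO ((Cfsg.pPrimeCore q L).map L.subtype) ((Subgroup.map_subtype_le _).trans inf_le_left)
    (normalizes_map_pPrimeCore q hHL) (by rw [card_map_sub]; exact HallCore.coprime_card_pPrimeCore q L)
  rw [Subgroup.map_eq_bot_iff_of_injective _ L.subtype_injective] at h1
  haveI : (B'.subgroupOf L).Normal := Subgroup.normal_subgroupOf_of_le_normalizer hLB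
  have h2 : B'.subgroupOf L ≤ Cfsg.pPrimeCore q L := HallCore.le_pPrimeCore (by
    rw [Nat.card_congr (Subgroup.subgroupOfEquivOfLe hBL).toEquiv]
    exact hBq.coprime_dvd_left (Subgroup.card_dvd_of_le inf_le_left))
  rw [h1, le_bot_iff, Subgroup.subgroupOf_eq_bot, disjoint_iff, inf_eq_left.2 hBL] at h2
  rw [eq_bot_iff, ← h2]
  exact fun x hx => ⟨hx.2, hAH hx.1, hAQ hx.1⟩

theorem pCore_of_sub {K : Subgroup G} (q : ℕ) : Nat.Coprime (Nat.card ↥((Cfsg.pPrimeCore q K).map K.subtype)) q := by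
  rw [card_map_sub]; exact HallCore.coprime_card_pPrimeCore q K

theorem main {H P : Subgroup G} (hH : H.Normal) {p q : ℕ} [Fact p.Prime] [Fact q.Prime]
    (hP : IsPGroup p P) (hcop : (Nat.card P).Coprime (Nat.card H)) (hsol : Group.IsSolvable ↥⁅H, P⁆)
    {z : G} (hzH : z ∈ H) (hzP : z ∈ Subgroup.centralizer (P : Set G)) (hz : ∃ k, orderOf z = q ^ k) :
    ((Cfsg.pPrimeCore q ↥(H ⊓ Subgroup.centralizer ({z} : Set G))).map
        (H ⊓ Subgroup.centralizer ({z} : Set G)).subtype ⊓
      (Cfsg.pPrimeCore q ↥(H ⊓ Subgroup.centralizer (P : Set G))).map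
        (H ⊓ Subgroup.centralizer (P : Set G)).subtype) ⊔
    ⁅(Cfsg.pPrimeCore q ↥(H ⊓ Subgroup.centralizer ({z} : Set G))).map
        (H ⊓ Subgroup.centralizer ({z} : Set G)).subtype, P⁆ ≤
    (Cfsg.pPrimeCore q ↥H).map H.subtype := by
  set Cz := H ⊓ Subgroup.centralizer ({z} : Set G) with hCz
  set CP := H ⊓ Subgroup.centralizer (P : Set G) with hCP
  set A := (Cfsg.pPrimeCore q Cz).map Cz.subtype with hAdef
  set B := (Cfsg.pPrimeCore q CP).map CP.subtype with hBdef
  set N := (Cfsg.pPrimeCore q H).map H.subtype with hNdef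
  haveI := hH
  have htop : (⊤ : Subgroup G) ≤ Subgroup.normalizer (H : Set G) := by
    rw [Subgroup.normalizer_eq_top_iff.2 hH]
  haveI hN : N.Normal := Subgroup.normalizer_eq_top_iff.1 (top_le_iff.1 (normalizes_map_pPrimeCore q htop))
  have hNq : (Nat.card N).Coprime q := pCore_of_sub q
  have hNH : N ≤ H := Subgroup.map_subtype_le _
  let f := QuotientGroup.mk' N
  have hf : Function.Surjective f := QuotientGroup.mk'_surjective N
  have hPCz : P ≤ Subgroup.normalizer (Cz : Set G) := by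
    refine CoprimeAction.le_normalizer_inf (le_top.trans htop) (le_trans ?_ Subgroup.le_normalizer)
    intro a ha
    refine Subgroup.mem_centralizer_iff.2 fun x hx => ?_
    rw [Set.mem_singleton_iff] at hx
    subst hx
    exact (Subgroup.mem_centralizer_iff.1 hzP a ha).symm
  have hzf : ∃ k, orderOf (f z) = q ^ k := by
    obtain ⟨k, hk⟩ := hz
    obtain ⟨i, -, hi⟩ := (Nat.dvd_prime_pow Fact.out).1 (hk ▸ orderOf_map_dvd f z)
    exact ⟨i, hi⟩
  have hzcop : (orderOf z).Coprime (Nat.card N) := by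
    obtain ⟨k, hk⟩ := hz
    rw [hk]
    exact (hNq.symm).pow_left k
  have hPN : (Nat.card P).Coprime (Nat.card N) := CoprimeAction.coprime_of_le_right hNH hcop
  have hH' : (H.map f).Normal := hH.map _ hf
  have hcop' : (Nat.card (P.map f)).Coprime (Nat.card (H.map f)) :=
    (hcop.coprime_dvd_left (Subgroup.card_map_dvd P f)).coprime_dvd_right (Subgroup.card_map_dvd H f)
  have hsol' : Group.IsSolvable ↥⁅H.map f, P.map f⁆ := by
    rw [← Subgroup.map_commutator]
    exact Group.isSolvable_of_surjective (f := f.subgroupMap ⁅H, P⁆) (f.subgroupMap_surjective _)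
  have hO : ∀ M : Subgroup (G ⧸ N), M ≤ H.map f → H.map f ≤ Subgroup.normalizer (M : Set (G ⧸ N)) →
      (Nat.card M).Coprime q → M = ⊥ := by
    intro M hMH hHM hMq
    have hNM : N ≤ M.comap f := fun x hx => by
      rw [Subgroup.mem_comap, show f x = 1 from (QuotientGroup.eq_one_iff x).2 hx]
      exact M.one_mem
    have hle : M.comap f ≤ H := by
      intro x hx
      obtain ⟨h, hh, he⟩ := hMH hx
      have := H.mul_mem hh (hNH (QuotientGroup.eq.1 he))
      simpa using this
    haveI : ((M.comap f).subgroupOf H).Normal := by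
      refine Subgroup.normal_subgroupOf_of_le_normalizer (CoprimeAction.le_normalizer_of_conj_mem fun a ha x hx => ?_)
      rw [Subgroup.mem_comap, map_mul, map_mul, map_inv]
      exact CoprimeAction.conj_mem (hHM ⟨a, ha, rfl⟩) hx
    have hcard : (Nat.card (M.comap f)).Coprime q := by
      rw [show Nat.card (M.comap f) = Nat.card M * Nat.card N from (HallCore.card_comap_mk' N M).symm]
      exact Nat.Coprime.mul_left hMq hNq
    have hsub : (M.comap f).subgroupOf H ≤ Cfsg.pPrimeCore q H := HallCore.le_pPrimeCore (by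
      rwa [Nat.card_congr (Subgroup.subgroupOfEquivOfLe hle).toEquiv])
    rw [eq_bot_iff]
    intro m hm
    obtain ⟨x, rfl⟩ := hf m
    rw [Subgroup.mem_bot]
    exact (QuotientGroup.eq_one_iff x).2 ⟨⟨x, hle hm⟩, hsub hm, rfl⟩
  have hAn : H.map f ⊓ Subgroup.centralizer {f z} ≤ Subgroup.normalizer ((A.map f : Subgroup (G ⧸ N)) : Set (G ⧸ N)) := by
    rintro _ ⟨⟨h, hh, rfl⟩, hc⟩
    have hfix : h⁻¹ * z * h * z⁻¹ ∈ N := by
      rw [← QuotientGroup.eq_one_iff, ← QuotientGroup.mk'_apply, map_mul, map_mul, map_mul, map_inv, map_inv]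
      rw [mul_assoc (f h)⁻¹, ← Subgroup.mem_centralizer_singleton_iff.1 hc, inv_mul_cancel_left, mul_inv_cancel]
    obtain ⟨c, hzc, hhc⟩ := CoprimeAction.exists_fixed_mem_coset_zpowers (D := N)
      (by rw [Subgroup.normalizer_eq_top_iff.2 hN]; trivial) hzcop h hfix
    have hcH : c ∈ H := by
      have := H.mul_mem hh (hNH hhc)
      simpa using this
    rw [show f h = f c from (QuotientGroup.eq).2 hhc]
    exact Subgroup.le_normalizer_map f ⟨c, normalizes_map_pPrimeCore q Subgroup.le_normalizer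
      ⟨hcH, Subgroup.mem_centralizer_singleton_iff.2 hzc.symm⟩, rfl⟩
  have hBn : H.map f ⊓ Subgroup.centralizer ((P.map f : Subgroup (G ⧸ N)) : Set (G ⧸ N)) ≤
      Subgroup.normalizer ((B.map f : Subgroup (G ⧸ N)) : Set (G ⧸ N)) := by
    rintro _ ⟨⟨h, hh, rfl⟩, hc⟩
    obtain ⟨c, hPc, hhc⟩ := CoprimeAction.exists_fixed_mem_coset (D := N)
      (by rw [Subgroup.normalizer_eq_top_iff.2 hN]; exact le_top) hPN
      (Or.inl (CoprimeAction.isSolvable_of_isPGroup hP)) h (fun a ha => by
        rw [← QuotientGroup.eq_one_iff, ← QuotientGroup.mk'_apply, map_mul, map_mul, map_mul, map_inv, map_inv]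
        rw [mul_assoc (f h)⁻¹, Subgroup.mem_centralizer_iff.1 hc (f a) ⟨a, ha, rfl⟩, inv_mul_cancel_left,
          mul_inv_cancel])
    have hcH : c ∈ H := by
      have := H.mul_mem hh (hNH hhc)
      simpa using this
    rw [show f h = f c from (QuotientGroup.eq).2 hhc]
    exact Subgroup.le_normalizer_map f ⟨c, normalizes_map_pPrimeCore q Subgroup.le_normalizer ⟨hcH, hPc⟩, rfl⟩
  have hres := core (H := H.map f) (P := P.map f) hH' (hP.map f) hcop' hsol' hO ⟨z, hzH, rfl⟩ hzf
    (Subgroup.mem_centralizer_iff.2 (by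
      rintro _ ⟨a, ha, rfl⟩
      rw [← map_mul, Subgroup.mem_centralizer_iff.1 hzP a ha, map_mul]))
    (A.map f) (B.map f)
    (by
      rintro _ ⟨a, ha, rfl⟩
      have ha' : a ∈ Cz := Subgroup.map_subtype_le _ ha
      refine ⟨⟨a, ha'.1, rfl⟩, Subgroup.mem_centralizer_singleton_iff.2 ?_⟩
      rw [← map_mul, Subgroup.mem_centralizer_singleton_iff.1 ha'.2, map_mul])
    ((pCore_of_sub q).coprime_dvd_left (Subgroup.card_map_dvd A f))
    hAn
    (fun x hx => by
      obtain ⟨a, ha, rfl⟩ := hx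
      exact Subgroup.le_normalizer_map f ⟨a, normalizes_map_pPrimeCore q hPCz ha, rfl⟩)
    ((pCore_of_sub q).coprime_dvd_left (Subgroup.card_map_dvd B f)) hBn
  refine sup_le ?_ ?_
  · intro x hx
    have h : f x ∈ A.map f ⊓ B.map f := ⟨⟨x, hx.1, rfl⟩, ⟨x, hx.2, rfl⟩⟩
    rw [hres.2, Subgroup.mem_bot] at h
    exact (QuotientGroup.eq_one_iff x).1 h
  · intro x hx
    have h : f x ∈ (⁅A, P⁆).map f := ⟨x, hx, rfl⟩
    rw [Subgroup.map_commutator, hres.1, Subgroup.mem_bot] at h
    exact (QuotientGroup.eq_one_iff x).1 h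

/-- Let G be a finite group with Sylow p-subgroup P and H = O_{p'}(G), and suppose G = PH and the commutator subgroup [H, P] is solvable. Let q be a prime and z an element of q-power order of C_H(P). Then (O_{q'}(C_H(z)) ∩ O_{q'}(C_H(P))) · [O_{q'}(C_H(z)), P] ≤ O_{q'}(H). -/
theorem result {G : Type*} [Group G] [Finite G] {p : ℕ} [Fact p.Prime]
    (P : Sylow p G) (hPH : Cfsg.pPrimeCore p G ⊔ (P : Subgroup G) = ⊤)
    (hsol : Group.IsSolvable ↥⁅Cfsg.pPrimeCore p G, (P : Subgroup G)⁆)
    {q : ℕ} [Fact q.Prime] (z : G) (hzH : z ∈ Cfsg.pPrimeCore p G) (hzP : z ∈ Subgroup.centralizer ((P : Subgroup G) : Set G))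
    (hz : ∃ k : ℕ, orderOf z = q ^ k) :
    ((Cfsg.pPrimeCore q ↥(Cfsg.pPrimeCore p G ⊓ Subgroup.centralizer ({z} : Set G))).map
        (Cfsg.pPrimeCore p G ⊓ Subgroup.centralizer ({z} : Set G)).subtype ⊓
      (Cfsg.pPrimeCore q ↥(Cfsg.pPrimeCore p G ⊓ Subgroup.centralizer ((P : Subgroup G) : Set G))).map
        (Cfsg.pPrimeCore p G ⊓ Subgroup.centralizer ((P : Subgroup G) : Set G)).subtype) ⊔
    ⁅(Cfsg.pPrimeCore q ↥(Cfsg.pPrimeCore p G ⊓ Subgroup.centralizer ({z} : Set G))).map
        (Cfsg.pPrimeCore p G ⊓ Subgroup.centralizer ({z} : Set G)).subtype, (P : Subgroup G)⁆ ≤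
    (Cfsg.pPrimeCore q ↥(Cfsg.pPrimeCore p G)).map (Cfsg.pPrimeCore p G).subtype := by

  have hP : IsPGroup p (P : Subgroup G) := P.isPGroup'
  haveI : (Cfsg.pPrimeCore p G).Normal := HallCore.pPrimeCore_normal p G
  have hcop : (Nat.card (P : Subgroup G)).Coprime (Nat.card (Cfsg.pPrimeCore p G)) := by
    obtain ⟨n, hn⟩ := IsPGroup.iff_card.1 hP
    rw [hn]
    exact (HallCore.coprime_card_pPrimeCore p G).symm.pow_left n
  exact main (q := q) inferInstance hP hcop hsol hzH hzP hz

end Cfsg.Agent.S3819
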