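import Cfsg.Statements.S3820
import Mathlib

set_option autoImplicit false
open Cfsg

namespace Cfsg.Agent.S3820

variable {G : Type*} [Group G]

theorem conj_map_map (a b : G) (H : Subgroup G) :
    (H.map (MulAut.conj b).toMonoidHom).map (MulAut.conj a).toMonoidHom =
      H.map (MulAut.conj (a * b)).toMonoidHom := by
  rw [Subgroup.map_map]
  congr 1
  ext x
  simp [mul_assoc]

theorem conj_map_one (H : Subgroup G) : H.map (MulAut.conj (1 : G)).toMonoidHom = H := by
  conv_rhs => rw [← Subgroup.map_id H]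
  congr 1
  ext x
  simp

theorem conj_map_eq_of_mem {x : G} {H K : Subgroup G} (hHK : H ≤ K) (hx : x ∈ K) :
    H.map (MulAut.conj x).toMonoidHom ≤ K := by
  rintro _ ⟨y, hy, rfl⟩
  simpa using K.mul_mem (K.mul_mem hx (hHK hy)) (K.inv_mem hx)

theorem conj_map_eq_iff {n : G} {H : Subgroup G} :
    H.map (MulAut.conj n).toMonoidHom = H ↔ n ∈ Subgroup.normalizer (H : Set G) := by
  constructor
  · intro h
    rw [Subgroup.mem_normalizer_iff]
    intro x
    constructor
    · intro hx
      exact h.le ⟨x, hx, by simp⟩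
    · intro hx
      obtain ⟨y, hy, hxy⟩ := h.ge hx
      have : y = x := (MulAut.conj n).injective hxy
      rwa [← this]
  · intro h
    apply le_antisymm
    · rintro _ ⟨y, hy, rfl⟩
      exact (Subgroup.mem_normalizer_iff.mp h y).mp hy
    · intro x hx
      refine ⟨n⁻¹ * x * n, ?_, by simp [mul_assoc]⟩
      have := (Subgroup.mem_normalizer_iff.mp ((Subgroup.normalizer (H : Set G)).inv_mem h) x).mp hx
      simpa using this

/-- Call a subgroup H of G pronormal if H and gHg⁻¹ are conjugate inside ⟨H, gHg⁻¹⟩ for every g ∈ G. Let S ≤ H ≤ G be subgroups of a finite group with S pronormal in G (for instance S a Sylow subgroup). Then H is pronormal in G if and only if H and gHg⁻¹ are conjugate inside ⟨H, gHg⁻¹⟩ for every g ∈ N_G(S). In particular H is pronormal whenever N_G(S) ≤ H. -/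
theorem result {G : Type*} [Group G] [Finite G] (S H : Subgroup G) (hSH : S ≤ H)
    (hS : Cfsg.IsPronormal S) :
    Cfsg.IsPronormal H ↔
      ∀ g ∈ Subgroup.normalizer (S : Set G), ∃ w ∈ H ⊔ H.map (MulAut.conj g).toMonoidHom,
        H.map (MulAut.conj g).toMonoidHom = H.map (MulAut.conj w).toMonoidHom := by
  refine ⟨fun h g _ => h g, fun h g => ?_⟩
  obtain ⟨w, hw, hwS⟩ := hS g
  set J := H ⊔ H.map (MulAut.conj g).toMonoidHom with hJ
  have hwJ : w ∈ J := sup_le_sup hSH (Subgroup.map_mono hSH) hw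
  have hn : w⁻¹ * g ∈ Subgroup.normalizer (S : Set G) := by
    rw [← conj_map_eq_iff, ← conj_map_map, hwS, conj_map_map, inv_mul_cancel, conj_map_one]
  obtain ⟨x, hx, hxH⟩ := h _ hn
  have hle : H.map (MulAut.conj (w⁻¹ * g)).toMonoidHom ≤ J := by
    rw [← conj_map_map]
    exact conj_map_eq_of_mem le_sup_right (J.inv_mem hwJ)
  refine ⟨w * x, J.mul_mem hwJ ((sup_le le_sup_left hle) hx), ?_⟩
  rw [← conj_map_map w x, ← hxH, conj_map_map, mul_inv_cancel_left]

end Cfsg.Agent.S3820
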