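import Cfsg.Statements.S3821
import Mathlib

set_option autoImplicit false
open Cfsg

namespace Cfsg.Agent.S3821

variable {G : Type*} [Group G]

theorem conj_map_map (a b : G) (H : Subgroup G) :
    (H.map (MulAut.conj b).toMonoidHom).map (MulAut.conj a).toMonoidHom =
      H.map (MulAut.conj (a * b)).toMonoidHom := by
  rw [Subgroup.map_map]
  congr 1
  ext x
  simp [mul_assoc]

theorem conj_map_one (H : Subgroup G) : H.map (MulAut.conj (1 : G)).toMonoidHom = H := by
  conv_rhs => rw [← Subgroup.map_id H]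
  congr 1
  ext x
  simp

theorem conj_map_eq_of_mem {x : G} {H K : Subgroup G} (hHK : H ≤ K) (hx : x ∈ K) :
    H.map (MulAut.conj x).toMonoidHom ≤ K := by
  rintro _ ⟨y, hy, rfl⟩
  simpa using K.mul_mem (K.mul_mem hx (hHK hy)) (K.inv_mem hx)

theorem conj_map_eq_iff {n : G} {H : Subgroup G} :
    H.map (MulAut.conj n).toMonoidHom = H ↔ n ∈ Subgroup.normalizer (H : Set G) := by
  constructor
  · intro h
    rw [Subgroup.mem_normalizer_iff]
    intro x
    constructor
    · intro hx
      exact h.le ⟨x, hx, by simp⟩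
    · intro hx
      obtain ⟨y, hy, hxy⟩ := h.ge hx
      have : y = x := (MulAut.conj n).injective hxy
      rwa [← this]
  · intro h
    apply le_antisymm
    · rintro _ ⟨y, hy, rfl⟩
      exact (Subgroup.mem_normalizer_iff.mp h y).mp hy
    · intro x hx
      refine ⟨n⁻¹ * x * n, ?_, by simp [mul_assoc]⟩
      have := (Subgroup.mem_normalizer_iff.mp ((Subgroup.normalizer (H : Set G)).inv_mem h) x).mp hx
      simpa using this

theorem subgroupOf_conj (A H : Subgroup G) (hHA : H ≤ A) (a : A) :
    ((H.subgroupOf A).map (MulAut.conj a).toMonoidHom).map A.subtype =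
      H.map (MulAut.conj (a : G)).toMonoidHom := by
  rw [Subgroup.map_map]
  conv_rhs => rw [← Subgroup.map_subgroupOf_eq_of_le hHA, Subgroup.map_map]
  rfl

/-- Let A be a normal subgroup of the finite group G and H a subgroup of A. Then H is pronormal in G (H and gHg⁻¹ conjugate inside ⟨H, gHg⁻¹⟩ for every g ∈ G) if and only if H is pronormal in A and G = A · N_G(H). -/
theorem result {G : Type*} [Group G] [Finite G] (A H : Subgroup G) [A.Normal] (hHA : H ≤ A) :
    Cfsg.IsPronormal H ↔ (Cfsg.IsPronormal (H.subgroupOf A) ∧ A ⊔ Subgroup.normalizer (H : Set G) = ⊤) := by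
  constructor
  · intro h
    refine ⟨fun a => ?_, ?_⟩
    · obtain ⟨x, hx, hxH⟩ := h (a : G)
      have hxA : x ∈ A := (sup_le hHA (conj_map_eq_of_mem hHA a.2)) hx
      refine ⟨⟨x, hxA⟩, ?_, Subgroup.map_injective A.subtype_injective ?_⟩
      · rw [← Subgroup.mem_map_iff_mem A.subtype_injective, Subgroup.map_sup, subgroupOf_conj A H hHA,
          Subgroup.map_subgroupOf_eq_of_le hHA]
        exact hx
      · rw [subgroupOf_conj A H hHA, subgroupOf_conj A H hHA]
        exact hxH
    · rw [Subgroup.eq_top_iff']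
      intro g
      obtain ⟨x, hx, hxH⟩ := h g
      have hgA : H.map (MulAut.conj g).toMonoidHom ≤ A := by
        rintro _ ⟨y, hy, rfl⟩
        exact (inferInstance : A.Normal).conj_mem y (hHA hy) g
      have hn : x⁻¹ * g ∈ Subgroup.normalizer (H : Set G) := by
        rw [← conj_map_eq_iff, ← conj_map_map, hxH, conj_map_map, inv_mul_cancel, conj_map_one]
      have := Subgroup.mul_mem_sup ((sup_le hHA hgA) hx) hn
      rwa [mul_inv_cancel_left] at this
  · rintro ⟨hA, htop⟩ g
    obtain ⟨a, ha, n, hn, rfl⟩ : ∃ a ∈ A, ∃ n ∈ Subgroup.normalizer (H : Set G), a * n = g := by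
      rw [← Subgroup.mem_sup_of_normal_left, htop]
      trivial
    have hHg : H.map (MulAut.conj (a * n)).toMonoidHom = H.map (MulAut.conj a).toMonoidHom := by
      rw [← conj_map_map, conj_map_eq_iff.mpr hn]
    obtain ⟨x, hx, hxH⟩ := hA ⟨a, ha⟩
    refine ⟨x, ?_, ?_⟩
    · rw [hHg]
      have := Subgroup.mem_map_of_mem A.subtype hx
      rwa [Subgroup.map_sup, subgroupOf_conj A H hHA, Subgroup.map_subgroupOf_eq_of_le hHA] at this
    · rw [hHg]
      have := congrArg (Subgroup.map A.subtype) hxH
      rwa [subgroupOf_conj A H hHA, subgroupOf_conj A H hHA] at this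

end Cfsg.Agent.S3821
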