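import Mathlib
import Cfsg.Statements.S3822
import Cfsg.Agent.S3818
import Cfsg.Agent.Lib.CoprimeSZ
import Cfsg.Agent.Lib.CoprimeAction
import Cfsg.Agent.Lib.SFTGroup
import Cfsg.Agent.Lib.ComponentsFitting
import Cfsg.Agent.Lib.PGroupsBasic

/-!
Flavell: for a maximal solvable `A = ⟨P, P ^ a⟩` and an `A`-invariant nilpotent `V`, `F(A) V` is
nilpotent.

If `O_r(A)` moves the `A`-invariant `q`-group `U` minimally, put `W = U / Φ(U)`. For each `v ∈ U`
the group `B = ⟨P, P ^ (v a)⟩` either contains `U`, against maximality, or maps to a complement of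
`W`; complements being conjugate, `W = C_W(P) C_W(P ^ a)`, against the bound on fixed spaces.
-/

set_option autoImplicit false
open Cfsg

namespace Cfsg.Agent.S3822

open Subgroup
open scoped Pointwise

universe u

theorem mem_normalizer_of_conj {G : Type*} [Group G] [Finite G] {A X : Subgroup G}
    (h : ∀ a ∈ A, ∀ x ∈ X, a * x * a⁻¹ ∈ X) : A ≤ normalizer (X : Set G) :=
  SignalizerCoprime.le_normalizer_of_forall h

/-- A group of automorphisms of an abelian group of exponent `q` as a representation. -/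
noncomputable def autRep {M : Type*} [CommGroup M] (q : ℕ) [Module (ZMod q) (Additive M)]
    (Γ : Subgroup (MulAut M)) : Representation (ZMod q) Γ (Additive M) where
  toFun g := AddMonoidHom.toZModLinearMap q (MonoidHom.toAdditive (g : MulAut M).toMonoidHom)
  map_one' := by ext x; rfl
  map_mul' g g' := by ext x; rfl

/-- The fixed-point bound in the language of groups. -/
theorem fixed_small {W : Type u} [CommGroup W] [Finite W] [Nontrivial W] {p q : ℕ} [Fact p.Prime]
    [hq : Fact q.Prime] (hp3 : 3 < p) [Module (ZMod q) (Additive W)] (Γ : Subgroup (MulAut W))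
    [Group.IsSolvable Γ]
    (hirr : ∀ X : Subgroup W, (∀ g ∈ Γ, ∀ x ∈ X, g x ∈ X) → X = ⊥ ∨ X = ⊤)
    (P : Subgroup Γ) (hP : Nat.card P = p) (hgen : normalClosure (P : Set Γ) = ⊤)
    (C : Subgroup W) (hC : ∀ x ∈ C, ∀ g ∈ P, (g : MulAut W) x = x) :
    Nat.card C * Nat.card C < Nat.card W := by
  haveI : Module.Finite (ZMod q) (Additive W) := Module.Finite.of_finite
  let ρ : Representation (ZMod q) Γ (Additive W) := autRep q Γ
  have hρ : ∀ (g : Γ) (x : W), ρ g (Additive.ofMul x) = Additive.ofMul ((g : MulAut W) x) :=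
    fun g x => rfl
  have hfaith : Function.Injective ρ := fun g g' h => Subtype.ext (MulEquiv.ext fun x =>
    Additive.ofMul.injective ((hρ g x).symm.trans ((LinearMap.congr_fun h _).trans (hρ g' x))))
  haveI : ρ.IsIrreducible := by
    haveI : Nontrivial (Subrepresentation ρ) := by
      refine ⟨⊥, ⊤, fun h => ?_⟩
      obtain ⟨x, hx⟩ := exists_ne (1 : W)
      have h2 : Additive.ofMul x ∈ (⊥ : Subrepresentation ρ).toSubmodule := by
        rw [h]; exact Submodule.mem_top
      exact hx (Additive.ofMul.injective ((Submodule.mem_bot (ZMod q)).mp h2))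
    refine ⟨fun σ => ?_⟩
    rcases hirr (AddSubgroup.toSubgroup' σ.toSubmodule.toAddSubgroup)
        (fun g hg x hx => σ.apply_mem_toSubmodule ⟨g, hg⟩ hx) with h | h
    · left
      refine Subrepresentation.toSubmodule_injective (eq_bot_iff.mpr fun y hy => ?_)
      have h1 : Additive.toMul y ∈ (⊥ : Subgroup W) := h ▸ hy
      exact (Submodule.mem_bot (ZMod q)).mpr (Additive.toMul.injective (mem_bot.mp h1))
    · right
      refine Subrepresentation.toSubmodule_injective (eq_top_iff.mpr fun y _ => ?_)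
      exact (h.ge (mem_top (Additive.toMul y)) :)
  have hlt := S3818.result (k := ZMod q) hp3 P hP hgen q ρ hfaith
  set D : Submodule (ZMod q) (Additive W) :=
    ⨅ g : ↥P, LinearMap.ker (ρ (g : Γ) - LinearMap.id) with hD
  have hCD : Nat.card C ≤ Nat.card D := by
    refine Nat.card_le_card_of_injective (fun y => ⟨Additive.ofMul (y : W), ?_⟩) fun y y' h => ?_
    · rw [hD, Submodule.mem_iInf]
      rintro ⟨g, hg⟩
      rw [LinearMap.mem_ker, LinearMap.sub_apply, sub_eq_zero, hρ]
      exact congrArg Additive.ofMul (hC y y.2 g hg)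
    · exact Subtype.ext (Additive.ofMul.injective (by simpa using congrArg Subtype.val h))
  have e1 : Nat.card (Additive W) = q ^ Module.finrank (ZMod q) (Additive W) := by
    rw [Module.natCard_eq_pow_finrank (K := ZMod q), Nat.card_zmod]
  have e2 : Nat.card D = q ^ Module.finrank (ZMod q) D := by
    rw [Module.natCard_eq_pow_finrank (K := ZMod q), Nat.card_zmod]
  refine (Nat.mul_le_mul hCD hCD).trans_lt ?_
  rw [show Nat.card W = Nat.card (Additive W) from rfl, e1, e2, ← pow_add]
  exact Nat.pow_lt_pow_right hq.out.one_lt (by omega)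

set_option maxHeartbeats 1000000 in
theorem no_complements {H : Type u} [Group H] [Finite H] {p q : ℕ} [hp : Fact p.Prime]
    [hq : Fact q.Prime] (hp3 : 3 < p) (A U R P : Subgroup H) [U.Normal] [IsMulCommutative U]
    (hUq : ∀ u ∈ U, u ^ q = 1) (hU : U ≠ ⊥) (hAU : A ⊔ U = ⊤) (hAUi : A ⊓ U = ⊥)
    (hirr : ∀ X : Subgroup H, X ≤ U → A ≤ normalizer (X : Set H) → X = ⊥ ∨ X = U)
    (hP : Nat.card P = p) (hAsol : Group.IsSolvable A) {a : H} (ha : a ∈ A)
    (hA : A = P ⊔ P.map (MulAut.conj a).toMonoidHom)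
    (hRA : R ≤ A) (hRn : A ≤ normalizer (R : Set H)) (hcop : (Nat.card R).Coprime (Nat.card U))
    (hfix : U ⊓ centralizer (R : Set H) = ⊥)
    (hB : ∀ v ∈ U, ∃ B : Subgroup H, P ≤ B ∧ P.map (MulAut.conj (v * a)).toMonoidHom ≤ B ∧
      B ⊓ U = ⊥ ∧ B ⊔ U = ⊤) : False := by
  have hPA : P ≤ A := hA.ge.trans' le_sup_left
  have hQA : ∀ x ∈ P, a * x * a⁻¹ ∈ A := fun x hx => mul_mem (mul_mem ha (hPA hx)) (inv_mem ha)
  have hcommA : ∀ n ∈ U, ∀ x ∈ A, n * x * n⁻¹ ∈ A → n * x = x * n := by
    intro n hn x hx h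
    have h1 : n * x * n⁻¹ * x⁻¹ ∈ A ⊓ U := mem_inf.mpr ⟨mul_mem h (inv_mem hx), by
      rw [show n * x * n⁻¹ * x⁻¹ = n * (x * n⁻¹ * x⁻¹) by group]
      exact mul_mem hn (Normal.conj_mem inferInstance _ (inv_mem hn) x)⟩
    rw [hAUi, mem_bot, mul_inv_eq_one] at h1
    exact mul_inv_eq_iff_eq_mul.mp h1
  set CP : Subgroup H := U ⊓ centralizer (P : Set H) with hCP
  set CQ : Subgroup H := CP.map (MulAut.conj a).toMonoidHom with hCQ
  -- every element of `U` is a product of a fixed point of `P` and one of `P ^ a`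
  have hprod : ∀ v ∈ U, ∃ n ∈ CP, ∃ w ∈ CQ, v = n * w := by
    intro v hv
    obtain ⟨B, hPB, hQB, hBU, hBtop⟩ := hB v hv
    set M : Subgroup H := U ⊔ R with hM
    haveI hMn : M.Normal := by
      refine normalizer_eq_top_iff.mp (top_le_iff.mp (hAU ▸ sup_le ?_ ?_))
      · refine mem_normalizer_of_conj fun x hx m hm => ?_
        have hle : M ≤ M.comap (MulAut.conj x).toMonoidHom := sup_le
          (fun u hu => mem_sup_left (Normal.conj_mem inferInstance u hu x))
          (fun r hr => mem_sup_right ((mem_normalizer_iff.mp (hRn hx) r).mp hr))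
        exact hle hm
      · exact le_sup_left.trans le_normalizer
    have hBM : (B ⊓ M) ⊔ U = M := by
      refine le_antisymm (sup_le inf_le_right le_sup_left) fun m hm => ?_
      have h : m ∈ B ⊔ U := hBtop ▸ mem_top m
      obtain ⟨b, hb, u, hu, rfl⟩ := mem_sup_of_normal_right.mp h
      refine mul_mem (mem_sup_left ⟨hb, ?_⟩) (mem_sup_right hu)
      simpa using mul_mem hm (inv_mem (mem_sup_left hu : u ∈ M))
    have hUR : U ⊓ R = ⊥ := inf_eq_bot_of_coprime hcop.symm
    have hcard : Nat.card (B ⊓ M : Subgroup H) = Nat.card R := by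
      have h1 := PGroupsBasic.card_sup_of_normal (A := U) (B := B ⊓ M)
        (by rw [eq_bot_iff, ← hBU]; exact fun y hy => ⟨hy.2.1, hy.1⟩)
      rw [sup_comm, hBM, hM, PGroupsBasic.card_sup_of_normal hUR] at h1
      exact (Nat.eq_of_mul_eq_mul_left Nat.card_pos h1).symm
    obtain ⟨n, hn, hconj⟩ := CoprimeSZ.exists_conj_of_card_eq (N := U) (A := R) (B := B ⊓ M)
      (fun _ _ => by rw [normalizer_eq_top]; exact mem_top _) hcop
      (Or.inr (Group.isSolvable_of_comm fun x y => mul_comm' x y)) inf_le_right hcard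
    have hBA : ∀ b ∈ B, n⁻¹ * b * n ∈ A := by
      intro b hb
      have hnorm : ∀ r ∈ R, n⁻¹ * b * n * r * (n⁻¹ * b * n)⁻¹ ∈ R := by
        intro r hr
        have h1 : n * r * n⁻¹ ∈ B ⊓ M := hconj ▸ CoprimeSZ.conj_mul_mem_conj_smul hr
        have h2 : b * (n * r * n⁻¹) * b⁻¹ ∈ B ⊓ M :=
          mem_inf.mpr ⟨mul_mem (mul_mem hb h1.1) (inv_mem hb), hMn.conj_mem _ h1.2 b⟩
        rw [← hconj, CoprimeSZ.mem_conj_smul] at h2
        simpa [mul_assoc] using h2
      set c := n⁻¹ * b * n with hc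
      have hc' : c ∈ A ⊔ U := hAU ▸ mem_top c
      obtain ⟨x, hx, u, hu, hxu⟩ := mem_sup_of_normal_right.mp hc'
      suffices u = 1 by rw [← hxu, this, mul_one]; exact hx
      rw [← mem_bot, ← hfix]
      refine ⟨hu, mem_centralizer_iff.mpr fun r hr => ?_⟩
      have h1 : u * r * u⁻¹ ∈ R := by
        have h := (mem_normalizer_iff.mp (hRn (inv_mem hx)) _).mp (hnorm r hr)
        rw [← hxu] at h
        simpa [mul_assoc] using h
      have h2 : u * r * u⁻¹ * r⁻¹ ∈ U ⊓ R := mem_inf.mpr ⟨by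
        rw [show u * r * u⁻¹ * r⁻¹ = u * (r * u⁻¹ * r⁻¹) by group]
        exact mul_mem hu (Normal.conj_mem inferInstance _ (inv_mem hu) r), mul_mem h1 (inv_mem hr)⟩
      rw [hUR, mem_bot, mul_inv_eq_one] at h2
      exact (mul_inv_eq_iff_eq_mul.mp h2).symm
    refine ⟨n, ⟨hn, mem_centralizer_iff.mpr fun x hx => ?_⟩, n⁻¹ * v, ?_, by group⟩
    · have h := hcommA n⁻¹ (inv_mem hn) x (hPA hx) (by simpa using hBA x (hPB hx))
      exact (Commute.inv_left_iff.mp h).symm.eq
    · have hw : n⁻¹ * v ∈ U := mul_mem (inv_mem hn) hv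
      have hc : ∀ x ∈ P, n⁻¹ * v * (a * x * a⁻¹) = a * x * a⁻¹ * (n⁻¹ * v) := by
        intro x hx
        refine hcommA _ hw _ (hQA x hx) ?_
        have h := hBA _ (hQB (mem_map_of_mem _ hx))
        simpa [mul_assoc] using h
      refine ⟨a⁻¹ * (n⁻¹ * v) * a, ⟨?_, mem_centralizer_iff.mpr fun x hx => ?_⟩, by simp [mul_assoc]⟩
      · simpa using Normal.conj_mem (inferInstance : U.Normal) _ hw a⁻¹
      · calc x * (a⁻¹ * (n⁻¹ * v) * a) = a⁻¹ * (a * x * a⁻¹ * (n⁻¹ * v)) * a := by group
          _ = a⁻¹ * (n⁻¹ * v * (a * x * a⁻¹)) * a := by rw [hc x hx]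
          _ = _ := by group
  have hle : Nat.card U ≤ Nat.card CP * Nat.card CP := by
    have hCQU : CQ ≤ U := by
      rintro _ ⟨y, hy, rfl⟩
      exact Normal.conj_mem inferInstance y hy.1 a
    calc Nat.card U ≤ Nat.card (CP × CQ) := by
          refine Nat.card_le_card_of_surjective
            (fun z => (⟨z.1 * z.2, mul_mem z.1.2.1 (hCQU z.2.2)⟩ : U)) fun ⟨v, hv⟩ => ?_
          obtain ⟨n, hn, w, hw, rfl⟩ := hprod v hv
          exact ⟨(⟨n, hn⟩, ⟨w, hw⟩), rfl⟩
      _ = Nat.card CP * Nat.card CP := by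
          rw [Nat.card_prod, hCQ, card_map_of_injective (MulEquiv.injective _)]
  -- the action of `A` on `U`
  letI : CommGroup U :=
    { (inferInstance : Group U) with mul_comm := (inferInstance : IsMulCommutative U).is_comm.comm }
  let φ : A →* MulAut U := (MulAut.conjNormal (H := U)).comp A.subtype
  have hφker : ¬ P ≤ (φ.ker.map A.subtype) := by
    intro h
    have hall : A ≤ φ.ker.map A.subtype := hA.le.trans (sup_le h (by
      rintro _ ⟨x, hx, rfl⟩
      obtain ⟨y, hy, rfl⟩ := h hx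
      exact ⟨(⟨a, ha⟩ : A) * y * (⟨a, ha⟩ : A)⁻¹, (MonoidHom.normal_ker φ).conj_mem y hy _, rfl⟩))
    refine hU (le_bot_iff.mp (hfix ▸ le_inf le_rfl fun x hx => mem_centralizer_iff.mpr fun r hr => ?_))
    obtain ⟨y, hy, rfl⟩ := hall (hRA hr)
    have := congrArg (fun e : MulAut U => (e ⟨x, hx⟩ : H)) (MonoidHom.mem_ker.mp hy)
    simp [φ] at this
    exact mul_inv_eq_iff_eq_mul.mp this
  haveI : Group.IsSolvable φ.range :=
    Group.isSolvable_of_surjective (f := φ.rangeRestrict) φ.rangeRestrict_surjective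
  set P' : Subgroup φ.range := (P.subgroupOf A).map φ.rangeRestrict with hP'
  have hP'card : Nat.card P' = p := by
    have h1 : Nat.card P' ∣ p := by
      rw [← hP, ← Nat.card_congr (subgroupOfEquivOfLe hPA).toEquiv]
      exact card_map_dvd _ _
    refine ((Nat.dvd_prime hp.out).mp h1).resolve_left fun h => hφker fun x hx => ?_
    have h2 : φ.rangeRestrict ⟨x, hPA hx⟩ ∈ P' := mem_map_of_mem _ (mem_subgroupOf.mpr hx)
    rw [card_eq_one.mp h, mem_bot] at h2
    exact ⟨⟨x, hPA hx⟩, MonoidHom.mem_ker.mpr (congrArg Subtype.val h2), rfl⟩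
  have hgen : normalClosure (P' : Set φ.range) = ⊤ := by
    rw [eq_top_iff]
    intro g _
    obtain ⟨g, rfl⟩ := φ.rangeRestrict_surjective g
    have hall : A ≤ ((normalClosure (P' : Set φ.range)).comap φ.rangeRestrict).map A.subtype := by
      refine hA.le.trans (sup_le (fun x hx => ⟨⟨x, hPA hx⟩,
        subset_normalClosure (mem_map_of_mem _ (mem_subgroupOf.mpr hx)), rfl⟩) ?_)
      rintro _ ⟨x, hx, rfl⟩
      refine ⟨⟨a, ha⟩ * ⟨x, hPA hx⟩ * ⟨a, ha⟩⁻¹, ?_, by simp⟩
      rw [SetLike.mem_coe, mem_comap, map_mul, map_mul, map_inv]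
      exact normalClosure_normal.conj_mem _
        (subset_normalClosure (mem_map_of_mem _ (mem_subgroupOf.mpr hx))) _
    obtain ⟨y, hy, e⟩ := hall g.2
    obtain rfl : y = g := A.subtype_injective e
    exact hy
  haveI : Nontrivial U := (nontrivial_iff_ne_bot U).mpr hU
  letI : Module (ZMod q) (Additive U) := AddCommGroup.zmodModule (n := q) fun x => by
    apply Additive.toMul.injective
    rw [toMul_nsmul, toMul_zero]
    exact Subtype.ext (by simpa using hUq _ (Additive.toMul x).2)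
  have hlt := fixed_small (q := q) hp3 φ.range
    (fun X hX => by
      have h := hirr (X.map U.subtype) (map_subtype_le _) (mem_normalizer_of_conj fun x hx y hy => by
        obtain ⟨y, hy', rfl⟩ := hy
        exact ⟨φ ⟨x, hx⟩ y, hX _ ⟨_, rfl⟩ y hy', rfl⟩)
      rcases h with h | h
      · exact Or.inl ((Subgroup.map_eq_bot_iff_of_injective _ U.subtype_injective).mp h)
      · exact Or.inr (map_injective U.subtype_injective
          (h.trans (by rw [← MonoidHom.range_eq_map, range_subtype]))))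
    P' hP'card hgen (CP.subgroupOf U) (by
      rintro y hy _ ⟨x, hx, rfl⟩
      refine Subtype.ext ?_
      show (x : H) * y * (x : H)⁻¹ = y
      rw [mul_inv_eq_iff_eq_mul]
      exact mem_centralizer_iff.mp (mem_subgroupOf.mp hy).2 _ (mem_subgroupOf.mp hx))
  rw [Nat.card_congr (subgroupOfEquivOfLe (inf_le_left : CP ≤ U)).toEquiv] at hlt
  exact hlt.not_ge hle

/-- `O_r(A)` centralizes every `A`-invariant `q`-group, `q ≠ r`. -/
theorem core_centralizes {G : Type u} [Group G] [Finite G] {p : ℕ} [hp : Fact p.Prime] (hp3 : 3 < p)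
    (P : Subgroup G) (hP : Nat.card P = p) (A : Subgroup G) (hAsol : Group.IsSolvable A) {a : G}
    (ha : a ∈ A) (hA : A = P ⊔ P.map (MulAut.conj a).toMonoidHom)
    (hmax : ∀ B : Subgroup G, A ≤ B → Group.IsSolvable ↥B →
      (∃ b ∈ B, B = P ⊔ P.map (MulAut.conj b).toMonoidHom) → B = A)
    {q r : ℕ} [hq : Fact q.Prime] [hr : Fact r.Prime] (hqr : q ≠ r) :
    ∀ n : ℕ, ∀ U : Subgroup G, Nat.card U ≤ n → IsPGroup q U → A ≤ normalizer (U : Set G) →
      Cfsg.pCoreOf r A ≤ centralizer (U : Set G) := by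
  intro n
  induction n with
  | zero => exact fun U hU _ _ => absurd Nat.card_pos hU.not_gt
  | succ n ih =>
  intro U hUn hUq hAU
  set R := Cfsg.pCoreOf r A with hR
  by_contra hne
  have hRA : R ≤ A := SFTGroup.oq_le r A
  have hRn : A ≤ normalizer (R : Set G) := SFTGroup.le_normalizer_oq r A
  have hsmall : ∀ X : Subgroup G, X < U → A ≤ normalizer (X : Set G) → R ≤ centralizer (X : Set G) := by
    intro X hX hAX
    refine ih X ?_ (hUq.to_le hX.le) hAX
    have := lt_of_le_of_ne (card_le_of_le hX.le) fun e => hX.ne (eq_of_le_of_card_ge hX.le e.ge)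
    omega
  have hcopRU : (Nat.card R).Coprime (Nat.card U) :=
    IsPGroup.coprime_card_of_ne r q hqr.symm R U (SFTGroup.oq_isPGroup r A) hUq
  have hRU : R ≤ normalizer (U : Set G) := hRA.trans hAU
  have hcomm : ⁅U, R⁆ = U := by
    refine le_antisymm (CoprimeAction.commutator_le_self_of_le_normalizer hRU) ?_
    by_contra hlt
    refine hne (CoprimeAction.le_centralizer_of_commutator_commutator_eq_bot hRU hcopRU
      (Or.inr (CoprimeAction.isSolvable_of_isPGroup hUq)) ?_)
    rw [commutator_comm]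
    refine commutator_eq_bot_iff_le_centralizer.mpr ?_
    exact (hsmall _ (lt_of_le_not_ge
      (CoprimeAction.commutator_le_self_of_le_normalizer hRU) hlt)
      (SignalizerCoprime.le_normalizer_commutator hAU hRn))
  have hUne : U ≠ ⊥ := fun e => hne (by
    rw [e]
    intro x _
    exact mem_centralizer_iff.mpr fun y hy => by rw [mem_bot.mp hy, one_mul, mul_one])
  -- `Φ(U)`
  set U0 : Subgroup G := (frattini U).map U.subtype with hU0
  have hU0U : U0 ≤ U := map_subtype_le _
  have hAU0 : A ≤ normalizer (U0 : Set G) := mem_normalizer_of_conj fun x hx y hy =>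
    SFTGroup.conj_mem_map_of_characteristic (K := frattini U) (hAU hx) hy
  have hfrat : frattini U ≠ ⊤ := by
    intro e
    haveI : Nontrivial U := (nontrivial_iff_ne_bot U).mpr hUne
    have h := frattini_nongenerating (K := (⊥ : Subgroup U)) (by rw [e, bot_sup_eq])
    exact bot_ne_top h
  have hU0lt : U0 < U := lt_of_le_of_ne hU0U fun e => hfrat (map_injective U.subtype_injective
    (e.trans (by rw [← MonoidHom.range_eq_map, range_subtype])))
  -- the quotient of `A ⊔ U`
  set L : Subgroup G := A ⊔ U with hL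
  have hAL : A ≤ L := le_sup_left
  have hUL : U ≤ L := le_sup_right
  have hLn : L ≤ normalizer (U0 : Set G) := sup_le hAU0 (mem_normalizer_of_conj fun x hx y hy => by
    obtain ⟨y, hy, rfl⟩ := hy
    exact ⟨⟨x, hx⟩ * y * ⟨x, hx⟩⁻¹, (inferInstance : (frattini U).Normal).conj_mem y hy _, rfl⟩)
  haveI : (U0.subgroupOf L).Normal := normal_subgroupOf_of_le_normalizer hLn
  let f := QuotientGroup.mk' (U0.subgroupOf L)
  have hfs : Function.Surjective f := QuotientGroup.mk'_surjective _
  have hfker : ∀ x : L, f x = 1 ↔ (x : G) ∈ U0 := fun x => by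
    rw [QuotientGroup.mk'_apply, QuotientGroup.eq_one_iff, mem_subgroupOf]
  let bar : Subgroup G → Subgroup (L ⧸ U0.subgroupOf L) := fun X => (X.subgroupOf L).map f
  haveI hUbn : (bar U).Normal := by
    haveI : (U.subgroupOf L).Normal :=
      normal_subgroupOf_of_le_normalizer (sup_le hAU le_normalizer)
    exact Normal.map inferInstance f hfs
  have mem_bar : ∀ {X : Subgroup G} {x : L}, (x : G) ∈ X → f x ∈ bar X := fun h =>
    mem_map_of_mem f (mem_subgroupOf.mpr h)
  have hUqb : ∀ u ∈ bar U, u ^ q = 1 := by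
    rintro _ ⟨x, hx, rfl⟩
    rw [← map_pow, hfker]
    exact ⟨(⟨x, mem_subgroupOf.mp hx⟩ : U) ^ q, PGroupsBasic.pow_mem_frattini hUq _, rfl⟩
  haveI hUcomm : IsMulCommutative (bar U) := PGroupsBasic.isMulCommutative_of_forall (by
    rintro _ ⟨x, hx, rfl⟩ _ ⟨y, hy, rfl⟩
    rw [← map_mul, ← map_mul]
    refine QuotientGroup.eq.mpr (mem_subgroupOf.mpr ?_)
    have h := PGroupsBasic.commutator_le_frattini hUq (commutator_mem_commutator
      (mem_top (⟨y, mem_subgroupOf.mp hy⟩ : U)⁻¹) (mem_top (⟨x, mem_subgroupOf.mp hx⟩ : U)⁻¹))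
    refine ⟨_, h, ?_⟩
    simp [commutatorElement_def, mul_assoc])
  have hbarA : bar A = bar P ⊔ (bar P).map (MulAut.conj (f ⟨a, hAL ha⟩)).toMonoidHom := by
    refine le_antisymm ?_ (sup_le ?_ ?_)
    · set K := bar P ⊔ (bar P).map (MulAut.conj (f ⟨a, hAL ha⟩)).toMonoidHom
      have hall : A ≤ ((K.comap f).map L.subtype) := by
        refine hA.le.trans (sup_le (fun x hx => ⟨⟨x, hAL (hA.ge (mem_sup_left hx))⟩,
          mem_sup_left (mem_bar hx), rfl⟩) ?_)
        rintro _ ⟨x, hx, rfl⟩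
        refine ⟨⟨a, hAL ha⟩ * ⟨x, hAL (hA.ge (mem_sup_left hx))⟩ * ⟨a, hAL ha⟩⁻¹, ?_, rfl⟩
        rw [SetLike.mem_coe, mem_comap, map_mul, map_mul, map_inv]
        exact mem_sup_right ⟨_, mem_bar hx, rfl⟩
      rintro _ ⟨x, hx, rfl⟩
      obtain ⟨y, hy, e⟩ := hall (mem_subgroupOf.mp hx)
      obtain rfl : y = x := L.subtype_injective e
      exact hy
    · exact map_mono (fun x hx => hA.ge (mem_sup_left hx))
    · rintro _ ⟨_, ⟨x, hx, rfl⟩, rfl⟩
      show f ⟨a, hAL ha⟩ * f x * (f ⟨a, hAL ha⟩)⁻¹ ∈ _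
      rw [← map_inv, ← map_mul, ← map_mul]
      refine mem_bar ?_
      exact mul_mem (mul_mem ha (hA.ge (mem_sup_left (mem_subgroupOf.mp hx)))) (inv_mem ha)
  have hAUb : bar A ⊔ bar U = ⊤ := by
    rw [show bar A ⊔ bar U = (A.subgroupOf L ⊔ U.subgroupOf L).map f from (Subgroup.map_sup _ _ f).symm,
      ← subgroupOf_sup hAL hUL, subgroupOf_self, map_top_of_surjective f hfs]
  -- proper invariant subgroups of `U` lie in `U0`
  have hfixb : bar U ⊓ centralizer (bar R : Set (L ⧸ U0.subgroupOf L)) = ⊥ := by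
    have hn : bar R ≤ normalizer (bar U : Set (L ⧸ U0.subgroupOf L)) := fun _ _ => by
      rw [normalizer_eq_top]; exact mem_top _
    have hcop' : (Nat.card (bar R)).Coprime (Nat.card (bar U)) := by
      refine Nat.Coprime.coprime_dvd_left ((card_map_dvd _ _).trans ?_)
        (Nat.Coprime.coprime_dvd_right ((card_map_dvd _ _).trans ?_) hcopRU)
      · rw [Nat.card_congr (subgroupOfEquivOfLe (hRA.trans hAL)).toEquiv]
      · rw [Nat.card_congr (subgroupOfEquivOfLe hUL).toEquiv]
    have hcb : bar U ≤ ⁅bar U, bar R⁆ := by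
      rw [show ⁅bar U, bar R⁆ = ⁅U.subgroupOf L, R.subgroupOf L⁆.map f from
        (map_commutator _ _ f).symm]
      refine map_mono ?_
      rw [← map_le_map_iff_of_injective L.subtype_injective, map_commutator,
        map_subgroupOf_eq_of_le hUL, map_subgroupOf_eq_of_le (hRA.trans hAL)]
      exact hcomm.ge
    rw [eq_bot_iff, ← CoprimeAction.inf_centralizer_inf_commutator_eq_bot hn hcop']
    exact le_inf le_rfl (inf_le_left.trans hcb)
  have hsub : ∀ X : Subgroup G, X < U → A ≤ normalizer (X : Set G) → X ≤ U0 := by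
    intro X hX hAX x hx
    have h : f ⟨x, hUL (hX.le hx)⟩ ∈ bar U ⊓ centralizer (bar R : Set (L ⧸ U0.subgroupOf L)) := by
      refine ⟨mem_bar (hX.le hx), mem_centralizer_iff.mpr ?_⟩
      rintro _ ⟨y, hy, rfl⟩
      rw [← map_mul, ← map_mul]
      exact congrArg f (Subtype.ext
        (mem_centralizer_iff.mp (hsmall X hX hAX (mem_subgroupOf.mp hy)) x hx).symm)
    rw [hfixb, mem_bot, hfker] at h
    exact h
  have hAiU : A ⊓ U ≤ U0 := by
    refine hsub _ (lt_of_le_of_ne inf_le_right fun e => hne ?_)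
      (SignalizerCoprime.le_normalizer_inf le_normalizer hAU)
    have hUA : U ≤ A := e ▸ inf_le_left
    have hUO : U ≤ Cfsg.pCoreOf q A := SFTGroup.le_oq hUA hAU hUq
    exact (SFTGroup.commute_subgroups (SFTGroup.inf_eq_bot_of_primes (SFTGroup.oq_isPGroup r A)
      (SFTGroup.oq_isPGroup q A) hqr.symm) (hRA.trans (SFTGroup.le_normalizer_oq q A))
      ((SFTGroup.oq_le q A).trans hRn)).trans (centralizer_le hUO)
  refine no_complements (q := q) hp3 (bar A) (bar U) (bar R) (bar P) hUqb ?_ hAUb ?_ ?_ ?_ ?_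
    (mem_bar (x := ⟨a, hAL ha⟩) ha) hbarA (map_mono (fun x hx => hRA hx)) ?_ ?_ hfixb ?_
  · intro e
    obtain ⟨u, hu, hu'⟩ := SetLike.exists_of_lt hU0lt
    have h := mem_bar (X := U) (x := ⟨u, hUL hu⟩) hu
    rw [e, mem_bot, hfker] at h
    exact hu' h
  · rw [eq_bot_iff]
    rintro _ ⟨⟨x, hx, rfl⟩, ⟨y, hy, e⟩⟩
    rw [mem_bot, hfker]
    have h1 : (x : G)⁻¹ * y ∈ U0 := mem_subgroupOf.mp (QuotientGroup.eq.mp e.symm)
    refine hAiU ⟨hx, ?_⟩
    have h2 := mul_mem (mem_subgroupOf.mp hy) (inv_mem (hU0U h1))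
    simpa [mem_subgroupOf] using h2
  · intro X hXU hXn
    set Y : Subgroup G := (X.comap f).map L.subtype with hY
    have hYU : Y ≤ U := by
      rintro _ ⟨x, hx, rfl⟩
      obtain ⟨u, hu, e⟩ := hXU hx
      have h1 : (u : G)⁻¹ * x ∈ U0 := mem_subgroupOf.mp (QuotientGroup.eq.mp e)
      simpa using mul_mem (mem_subgroupOf.mp hu) (hU0U h1)
    have hYn : A ≤ normalizer (Y : Set G) := mem_normalizer_of_conj fun b hb y hy => by
      obtain ⟨y, hy', rfl⟩ := hy
      refine ⟨⟨b, hAL hb⟩ * y * ⟨b, hAL hb⟩⁻¹, ?_, rfl⟩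
      rw [SetLike.mem_coe, mem_comap, map_mul, map_mul, map_inv]
      exact (mem_normalizer_iff.mp (hXn (mem_bar hb)) _).mp hy'
    rcases hYU.lt_or_eq with h | h
    · left
      rw [eq_bot_iff]
      intro z hz
      obtain ⟨z, rfl⟩ := hfs z
      rw [mem_bot, hfker]
      exact hsub Y h hYn ⟨z, hz, rfl⟩
    · right
      refine le_antisymm hXU ?_
      rintro _ ⟨u, hu, rfl⟩
      obtain ⟨z, hz, e⟩ := h.ge (mem_subgroupOf.mp hu)
      obtain rfl : z = u := L.subtype_injective e
      exact hz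
  · -- `P` survives
    have hPd : Nat.card (bar P) ∣ p := by
      refine (card_map_dvd _ _).trans ?_
      rw [← hP, Nat.card_congr (subgroupOfEquivOfLe ((hA.ge.trans' le_sup_left).trans hAL)).toEquiv]
    refine ((Nat.dvd_prime hp.out).mp hPd).resolve_left fun h => ?_
    rw [card_eq_one] at h
    rw [h, Subgroup.map_bot, sup_bot_eq] at hbarA
    -- then `A` acts trivially on `U ⧸ U0`
    obtain ⟨u, hu, hu'⟩ := SetLike.exists_of_lt hU0lt
    have hR0 : bar R = ⊥ := le_bot_iff.mp (hbarA ▸ map_mono (fun x hx => hRA hx))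
    have h1 : f ⟨u, hUL hu⟩ ∈ bar U ⊓ centralizer (bar R : Set (L ⧸ U0.subgroupOf L)) :=
      ⟨mem_bar hu, mem_centralizer_iff.mpr fun y hy => by
        rw [hR0, SetLike.mem_coe, mem_bot] at hy; simp [hy]⟩
    rw [hfixb, mem_bot, hfker] at h1
    exact hu' h1
  · exact Group.isSolvable_of_surjective (f := (f.comp (inclusion hAL)).rangeRestrict)
      (MonoidHom.rangeRestrict_surjective _) |> fun h => by
      have e : bar A = (f.comp (inclusion hAL)).range := by
        ext z
        constructor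
        · rintro ⟨x, hx, rfl⟩
          exact ⟨⟨x, mem_subgroupOf.mp hx⟩, rfl⟩
        · rintro ⟨x, rfl⟩
          exact mem_bar x.2
      rw [e]; exact h
  · refine mem_normalizer_of_conj ?_
    rintro _ ⟨x, hx, rfl⟩ _ ⟨y, hy, rfl⟩
    rw [← map_inv, ← map_mul, ← map_mul]
    refine mem_bar ?_
    exact (mem_normalizer_iff.mp (hRn (mem_subgroupOf.mp hx)) _).mp (mem_subgroupOf.mp hy)
  · refine Nat.Coprime.coprime_dvd_left ((card_map_dvd _ _).trans ?_)
      (Nat.Coprime.coprime_dvd_right ((card_map_dvd _ _).trans ?_) hcopRU)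
    · rw [Nat.card_congr (subgroupOfEquivOfLe (hRA.trans hAL)).toEquiv]
    · rw [Nat.card_congr (subgroupOfEquivOfLe hUL).toEquiv]
  · -- the complements
    intro v hv
    obtain ⟨v, hvU, rfl⟩ := hv
    rw [SetLike.mem_coe, mem_subgroupOf] at hvU
    set b : G := v * a with hb
    set B : Subgroup G := P ⊔ P.map (MulAut.conj b).toMonoidHom with hB
    have hPA : P ≤ A := hA.ge.trans' le_sup_left
    have hbL : b ∈ L := mul_mem v.2 (hAL ha)
    have hBL : B ≤ L := sup_le (hPA.trans hAL) (by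
      rintro _ ⟨x, hx, rfl⟩
      exact mul_mem (mul_mem hbL (hAL (hPA hx))) (inv_mem hbL))
    have hBU : L ≤ B ⊔ U := by
      refine sup_le (hA.le.trans (sup_le (le_sup_left.trans le_sup_left) ?_)) le_sup_right
      rintro _ ⟨x, hx, rfl⟩
      show a * x * a⁻¹ ∈ B ⊔ U
      rw [show a * x * a⁻¹ = (v : G)⁻¹ * (b * x * b⁻¹) * v by rw [hb]; group]
      exact mul_mem (mul_mem (inv_mem (mem_sup_right hvU)) (mem_sup_left
        (mem_sup_right (mem_map_of_mem _ hx)))) (mem_sup_right hvU)
    by_cases hcase : U ≤ B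
    · exfalso
      have hBeq : B = L := le_antisymm hBL (hBU.trans (sup_le le_rfl hcase))
      have hLsol : Group.IsSolvable L := by
        haveI hn : (U.subgroupOf L).Normal :=
          normal_subgroupOf_of_le_normalizer (sup_le hAU le_normalizer)
        haveI : Group.IsSolvable (U.subgroupOf L) :=
          (CoprimeAction.isSolvable_of_isPGroup (hUq.of_equiv (subgroupOfEquivOfLe hUL).symm))
        have hs : Function.Surjective ((QuotientGroup.mk' (U.subgroupOf L)).comp (inclusion hAL)) := by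
          intro y
          obtain ⟨x, rfl⟩ := QuotientGroup.mk'_surjective _ y
          have hx : x ∈ A.subgroupOf L ⊔ U.subgroupOf L := by
            rw [← subgroupOf_sup hAL hUL, subgroupOf_self]; exact mem_top _
          obtain ⟨c, hc, d, hd, rfl⟩ := mem_sup_of_normal_right.mp hx
          refine ⟨⟨c, mem_subgroupOf.mp hc⟩, ?_⟩
          rw [map_mul, show QuotientGroup.mk' (U.subgroupOf L) d = 1 from
            (QuotientGroup.eq_one_iff d).mpr hd, mul_one]
          rfl
        haveI := Group.isSolvable_of_surjective (f := _) hs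
        exact Group.isSolvable_of_ker_le_range (U.subgroupOf L).subtype
          (QuotientGroup.mk' (U.subgroupOf L)) (by rw [QuotientGroup.ker_mk', range_subtype])
      have hUA : U ≤ A := by
        have h := hmax L hAL hLsol ⟨b, hbL, hBeq.symm⟩
        exact h ▸ hUL
      exact hU0lt.not_ge ((le_inf hUA le_rfl).trans hAiU)
    refine ⟨bar B, map_mono (fun x hx => mem_sup_left hx), ?_, ?_, ?_⟩
    · rintro _ ⟨_, ⟨x, hx, rfl⟩, rfl⟩
      show (f v * f ⟨a, hAL ha⟩) * f x * (f v * f ⟨a, hAL ha⟩)⁻¹ ∈ bar B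
      rw [← map_mul, ← map_inv, ← map_mul, ← map_mul]
      exact mem_bar (mem_sup_right (mem_map_of_mem _ (mem_subgroupOf.mp hx)))
    · -- `bar B ⊓ bar U` is normal, hence trivial or everything
      set X := bar B ⊓ bar U with hX
      have htopB : bar B ⊔ bar U = ⊤ := by
        rw [show bar B ⊔ bar U = (B.subgroupOf L ⊔ U.subgroupOf L).map f from (Subgroup.map_sup _ _ f).symm,
          ← subgroupOf_sup hBL hUL,
          show B ⊔ U = L from le_antisymm (sup_le hBL hUL) hBU, subgroupOf_self,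
          map_top_of_surjective f hfs]
      set Y : Subgroup G := (X.comap f).map L.subtype with hY
      by_contra hXne
      have hXn : bar A ≤ normalizer (X : Set (L ⧸ U0.subgroupOf L)) := by
        refine mem_normalizer_of_conj fun c _ x hx => ?_
        have hc : c ∈ bar B ⊔ bar U := htopB ▸ mem_top c
        obtain ⟨b', hb', u, hu, rfl⟩ := mem_sup_of_normal_right.mp hc
        have hux : u * x * u⁻¹ = x := by
          rw [PGroupsBasic.comm_of_isMulCommutative hUcomm hu hx.2, mul_inv_cancel_right]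
        rw [show b' * u * x * (b' * u)⁻¹ = b' * (u * x * u⁻¹) * b'⁻¹ by group, hux]
        exact mem_inf.mpr ⟨mul_mem (mul_mem hb' hx.1) (inv_mem hb'), Normal.conj_mem hUbn x hx.2 b'⟩
      have hYU : Y ≤ U := by
        rintro _ ⟨x, hx, rfl⟩
        obtain ⟨u, hu, e⟩ := hx.2
        have h1 : (u : G)⁻¹ * x ∈ U0 := mem_subgroupOf.mp (QuotientGroup.eq.mp e)
        simpa using mul_mem (mem_subgroupOf.mp hu) (hU0U h1)
      have hYn : A ≤ normalizer (Y : Set G) := mem_normalizer_of_conj fun c hc y hy => by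
        obtain ⟨y, hy', rfl⟩ := hy
        refine ⟨⟨c, hAL hc⟩ * y * ⟨c, hAL hc⟩⁻¹, ?_, rfl⟩
        rw [SetLike.mem_coe, mem_comap, map_mul, map_mul, map_inv]
        exact (mem_normalizer_iff.mp (hXn (mem_bar hc)) _).mp hy'
      rcases hYU.lt_or_eq with h | h
      · refine hXne (eq_bot_iff.mpr fun z hz => ?_)
        obtain ⟨z, rfl⟩ := hfs z
        rw [mem_bot, hfker]
        exact hsub Y h hYn ⟨z, hz, rfl⟩
      · -- then `U ≤ B`
        refine hcase ?_
        have hDtop : B.subgroupOf U = ⊤ := by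
          refine frattini_nongenerating (eq_top_iff.mpr fun w _ => ?_)
          obtain ⟨z, hz, e⟩ := h.ge w.2
          obtain ⟨c, hc, ec⟩ := hz.1
          have h1 : (c : G)⁻¹ * z ∈ U0 := mem_subgroupOf.mp (QuotientGroup.eq.mp ec)
          obtain ⟨d, hd, ed⟩ := h1
          have hcU : (c : G) ∈ U := by
            have : (c : G) = z * ((c : G)⁻¹ * z)⁻¹ := by group
            rw [this, ← ed]
            exact mul_mem ((show (z : G) = w from e) ▸ w.2) (inv_mem d.2)
          have hw : w = ⟨c, hcU⟩ * d := Subtype.ext (by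
            rw [Subgroup.coe_mul, show (d : G) = _ from ed, mul_inv_cancel_left]; exact e.symm)
          rw [hw]
          exact mul_mem_sup (mem_subgroupOf.mpr (mem_subgroupOf.mp hc)) hd
        exact subgroupOf_eq_top.mp hDtop
    · rw [show bar B ⊔ bar U = (B.subgroupOf L ⊔ U.subgroupOf L).map f from (Subgroup.map_sup _ _ f).symm,
        ← subgroupOf_sup hBL hUL,
        show B ⊔ U = L from le_antisymm (sup_le hBL hUL) hBU, subgroupOf_self,
        map_top_of_surjective f hfs]

/-- Let G be a finite group and P a subgroup of prime order p > 3. Consider the solvable subgroups A of G of the form A = ⟨P, aPa⁻¹⟩ for some a ∈ A, and let A be maximal under inclusion among them. Then for every nilpotent subgroup V of G normalized by A, the subgroup F(A)V generated by the Fitting subgroup of A and V is nilpotent. -/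
theorem result {G : Type*} [Group G] [Finite G]
    {p : ℕ} [Fact p.Prime] (hp : 3 < p) (P : Subgroup G) (hP : Nat.card P = p) (A : Subgroup G)
    (hA : Group.IsSolvable ↥A ∧ ∃ a ∈ A, A = P ⊔ P.map (MulAut.conj a).toMonoidHom)
    (hmax : ∀ B : Subgroup G, A ≤ B → Group.IsSolvable ↥B → (∃ b ∈ B, B = P ⊔ P.map (MulAut.conj b).toMonoidHom) → B = A)
    (V : Subgroup G) (hV : Group.IsNilpotent ↥V) (hAV : A ≤ Subgroup.normalizer (V : Set G)) :
    Group.IsNilpotent ↥((Cfsg.fittingSubgroup ↥A).map A.subtype ⊔ V) := by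
  obtain ⟨hAsol, a, ha, hAe⟩ := hA
  let S := (Nat.card G).primeFactors
  let K : S → Subgroup G := fun i => Cfsg.pCoreOf (i : ℕ) A ⊔ Cfsg.pCoreOf (i : ℕ) V
  have hAVn : ∀ q, A ≤ normalizer (Cfsg.pCoreOf q V : Set G) := fun q =>
    hAV.trans (SFTGroup.normalizer_le_normalizer_oq q V)
  have hp' : ∀ i : S, Fact (i : ℕ).Prime := fun i => ⟨Nat.prime_of_mem_primeFactors i.2⟩
  have hKp : ∀ i : S, IsPGroup (i : ℕ) (K i) := fun i =>
    (SFTGroup.oq_isPGroup _ A).to_sup_of_normal_right' (SFTGroup.oq_isPGroup _ V)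
      ((SFTGroup.oq_le _ A).trans (hAVn _))
  have hcomm : Pairwise fun i j : S => ∀ x y : G, x ∈ K i → y ∈ K j → Commute x y := by
    intro i j hij
    haveI := hp' i
    haveI := hp' j
    have hne : (i : ℕ) ≠ (j : ℕ) := fun h => hij (Subtype.ext h)
    have hAA : ∀ (W : Subgroup G), Cfsg.pCoreOf (i : ℕ) W ≤ centralizer (Cfsg.pCoreOf (j : ℕ) W : Set G) :=
      fun W => SFTGroup.commute_subgroups
        (SFTGroup.inf_eq_bot_of_primes (SFTGroup.oq_isPGroup (i : ℕ) W) (SFTGroup.oq_isPGroup (j : ℕ) W) hne)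
        ((SFTGroup.oq_le _ W).trans (SFTGroup.le_normalizer_oq _ W))
        ((SFTGroup.oq_le _ W).trans (SFTGroup.le_normalizer_oq _ W))
    have hmix : ∀ s t : ℕ, Fact s.Prime → Fact t.Prime → s ≠ t →
        Cfsg.pCoreOf s A ≤ centralizer (Cfsg.pCoreOf t V : Set G) := fun s t hs ht hst =>
      haveI := hs
      haveI := ht
      core_centralizes hp P hP A hAsol ha hAe hmax (Ne.symm hst) _ _ le_rfl
        (SFTGroup.oq_isPGroup t V) (hAVn t)
    have hle : K i ≤ centralizer (K j : Set G) := by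
      refine le_centralizer_iff.mp (sup_le (le_centralizer_iff.mp (sup_le (hAA A) ?_))
        (le_centralizer_iff.mp (sup_le ?_ (hAA V))))
      · exact le_centralizer_iff.mp (hmix _ _ (hp' j) (hp' i) hne.symm)
      · exact hmix _ _ (hp' i) (hp' j) hne
    exact fun x y hx hy => (mem_centralizer_iff.mp (hle hx) y hy).symm
  haveI : ∀ i : S, Group.IsNilpotent (K i) := fun i =>
    haveI := hp' i
    (hKp i).isNilpotent
  have hnil : Group.IsNilpotent (⨆ i, K i : Subgroup G) := by
    rw [← noncommPiCoprod_range (hcomm := hcomm)]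
    exact nilpotent_of_surjective _ (MonoidHom.rangeRestrict_surjective _)
  have hle : ∀ W : Subgroup G, (∀ i : S, Cfsg.pCoreOf (i : ℕ) W ≤ K i) →
      (Cfsg.fittingSubgroup W).map W.subtype ≤ ⨆ i, K i := by
    intro W hW
    rw [ComponentsFitting.fittingSubgroup_eq_iSup, Subgroup.map_iSup]
    refine iSup_le fun q => ?_
    have hq : (q : ℕ) ∈ S := Nat.mem_primeFactors.mpr ⟨Nat.prime_of_mem_primeFactors q.2,
      (Nat.dvd_of_mem_primeFactors q.2).trans (card_subgroup_dvd_card W), Nat.card_pos.ne'⟩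
    exact (hW ⟨q, hq⟩).trans (le_iSup K ⟨q, hq⟩)
  have hKK : (fittingSubgroup A).map A.subtype ⊔ V ≤ ⨆ i, K i := by
    refine sup_le (hle A fun i => le_sup_left) ?_
    refine le_trans ?_ (hle V fun i => le_sup_right)
    rw [(ComponentsFitting.fittingSubgroup_eq_top_iff).mpr hV, ← MonoidHom.range_eq_map, range_subtype]
  haveI := hnil
  exact Group.nilpotent_of_mulEquiv (subgroupOfEquivOfLe hKK)

end Cfsg.Agent.S3822
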