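import Cfsg.Statements.S3824
import Mathlib
import Cfsg.Agent.Lib.CharInducedBurnside

set_option autoImplicit false
open Cfsg

namespace Cfsg.Agent.S3824


universe w

theorem solvable_aux : ∀ (n : ℕ) (G : Type w) [Group G] [Finite G], Nat.card G = n →
    ∀ A : Subgroup G, IsMulCommutative A → (∃ k : ℕ, A.index ∣ 2 ^ k) → Group.IsSolvable G := by
  intro n
  induction n using Nat.strong_induction_on with
  | _ n ih =>
  intro G _ _ hn A hA hidx
  obtain ⟨k, hk⟩ := hidx
  rcases subsingleton_or_nontrivial G with hs | hnt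
  · infer_instance
  by_cases hex : ∃ N : Subgroup G, N.Normal ∧ N ≠ ⊥ ∧ N ≠ ⊤
  · obtain ⟨N, hN, hN1, hN2⟩ := hex
    have hNlt : Nat.card N < n := by
      rw [← hn, ← N.card_mul_index]
      exact lt_mul_of_one_lt_right Nat.card_pos (Subgroup.one_lt_index_of_ne_top hN2)
    have hQlt : Nat.card (G ⧸ N) < n := by
      rw [← hn, ← N.card_mul_index, ← Subgroup.index_eq_card]
      exact lt_mul_of_one_lt_left (Nat.pos_of_ne_zero Subgroup.index_ne_zero_of_finite)
        (N.one_lt_card_iff_ne_bot.mpr hN1)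
    have hrel : A.relIndex N ∣ A.index := by
      obtain ⟨c, hc⟩ := Subgroup.relIndex_dvd_index_of_normal N A
      have h1 := Subgroup.relIndex_mul_index (inf_le_left : A ⊓ N ≤ A)
      have h2 := Subgroup.relIndex_mul_index (inf_le_right : A ⊓ N ≤ N)
      rw [inf_comm, Subgroup.inf_relIndex_right, inf_comm] at h1
      rw [Subgroup.inf_relIndex_right] at h2
      refine ⟨c, ?_⟩
      have hne : N.relIndex A ≠ 0 := by
        rw [Subgroup.relIndex]; exact Subgroup.index_ne_zero_of_finite
      apply mul_left_cancel₀ hne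
      rw [h1, ← h2, hc]
      ring
    have hsolN : Group.IsSolvable N := by
      refine ih _ hNlt N rfl (A.subgroupOf N) ?_ ⟨k, hrel.trans hk⟩
      refine ⟨⟨fun a b => Subtype.ext (Subtype.ext ?_)⟩⟩
      show ((a : N) : G) * ((b : N) : G) = ((b : N) : G) * ((a : N) : G)
      exact congrArg Subtype.val (hA.is_comm.comm (⟨((a : N) : G), a.2⟩ : A) ⟨((b : N) : G), b.2⟩)
    have hsolQ : Group.IsSolvable (G ⧸ N) := by
      refine ih _ hQlt (G ⧸ N) rfl (A.map (QuotientGroup.mk' N)) ?_ ⟨k, ?_⟩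
      · refine ⟨⟨?_⟩⟩
        rintro ⟨_, a, ha, rfl⟩ ⟨_, b, hb, rfl⟩
        refine Subtype.ext ?_
        show QuotientGroup.mk' N a * QuotientGroup.mk' N b = QuotientGroup.mk' N b * QuotientGroup.mk' N a
        rw [← map_mul, ← map_mul,
          show a * b = b * a from congrArg Subtype.val (hA.is_comm.comm (⟨a, ha⟩ : A) ⟨b, hb⟩)]
      · exact (Subgroup.index_map_dvd _ (QuotientGroup.mk'_surjective N)).trans hk
    exact Group.isSolvable_of_ker_le_range N.subtype (QuotientGroup.mk' N)
      (by rw [QuotientGroup.ker_mk', Subgroup.range_subtype])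
  push Not at hex
  have hsimple : IsSimpleGroup G :=
    ⟨fun N hN => (em (N = ⊥)).imp id (fun h => hex N hN h)⟩
  have : Fact (Nat.Prime 2) := ⟨Nat.prime_two⟩
  by_cases hA1 : A = ⊥
  · obtain ⟨j, -, hj⟩ := (Nat.dvd_prime_pow Nat.prime_two).mp hk
    have hG : IsPGroup 2 G := IsPGroup.of_card (n := j) (by rw [← hj, hA1, Subgroup.index_bot])
    have := hG.isNilpotent
    infer_instance
  obtain ⟨a, ha, ha1⟩ := A.bot_or_exists_ne_one.resolve_left hA1
  have hle : A ≤ Subgroup.centralizer ({a} : Set G) := fun b hb =>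
    Subgroup.mem_centralizer_singleton_iff.mpr
      (congrArg Subtype.val (hA.is_comm.comm (⟨b, hb⟩ : A) ⟨a, ha⟩))
  obtain ⟨j, -, hj⟩ := (Nat.dvd_prime_pow Nat.prime_two).mp ((Subgroup.index_dvd_of_le hle).trans hk)
  have hp := Cfsg.Agent.CharInduced.prime_card_of_class_prime_pow 2 j Nat.prime_two a ha1 hj
  haveI := Fact.mk hp
  have : IsCyclic G := isCyclic_of_prime_card rfl
  exact Group.isSolvable_of_comm fun x y => IsCyclic.isMulCommutative.is_comm.comm x y

/-- Every finite group having an abelian subgroup whose index is a power of 2 is solvable. -/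
theorem result {G : Type*} [Group G] [Finite G]
    (A : Subgroup G) (hA : IsMulCommutative A) (hidx : ∃ k : ℕ, A.index = 2 ^ k) : Group.IsSolvable G := by
  obtain ⟨k, hk⟩ := hidx
  exact solvable_aux _ G rfl A hA ⟨k, hk ▸ dvd_rfl⟩

end Cfsg.Agent.S3824
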