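import Cfsg.Statements.S3825
import Mathlib

set_option autoImplicit false
open scoped commutatorElement
open Cfsg

namespace Cfsg.Agent.S3825

/-- Let U be a subgroup of a finite group H and w an involution of H normalizing U and commuting with exactly two elements of U, the identity and y. If V is a non-cyclic elementary abelian 2-subgroup of U containing y which is normal in U and invariant under w, then V is a Sylow 2-subgroup of U, V has order 4, and U/V is abelian. -/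
theorem result {H : Type*} [Group H] [Finite H] (U : Subgroup H) (w : H) (hw : orderOf w = 2)
    (hwU : w ∈ Subgroup.normalizer (U : Set H)) (y : H) (hy : y ≠ 1) (hyU : y ∈ U)
    (hfix : ∀ u ∈ U, w * u * w⁻¹ = u ↔ (u = 1 ∨ u = y))
    (V : Subgroup H) (hVU : V ≤ U) (hVn : (V.subgroupOf U).Normal) (hVw : ∀ v ∈ V, w * v * w⁻¹ ∈ V)
    (hVe : Cfsg.IsElementaryAbelian 2 V) (hVc : ¬ IsCyclic ↥V) (hyV : y ∈ V) :
    ¬ 2 ∣ V.relIndex U ∧ Nat.card ↥V = 4 ∧ ⁅U, U⁆ ≤ V := by
  classical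
  set σ : H → H := fun u => w * u * w⁻¹ with hσdef
  have hw2 : w * w = 1 := by
    have := pow_orderOf_eq_one w
    rwa [hw, pow_two] at this
  have hwinv : w⁻¹ = w := inv_eq_of_mul_eq_one_right hw2
  have hσσ : ∀ u, w * (w * u * w⁻¹) * w⁻¹ = u := by
    intro u
    rw [hwinv, show w * (w * u * w) * w = (w * w) * u * (w * w) by group, hw2, one_mul, mul_one]
  obtain ⟨hVc', hV2⟩ := hVe
  have hVinv : ∀ v ∈ V, v⁻¹ = v := fun v hv =>
    inv_eq_of_mul_eq_one_right (by have := hV2 v hv; rwa [pow_two] at this)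
  have hVmul : ∀ a ∈ V, ∀ b ∈ V, a * b = b * a := fun a ha b hb =>
    congrArg Subtype.val (hVc'.is_comm.comm (⟨a, ha⟩ : V) ⟨b, hb⟩)
  have hwy : w * y * w⁻¹ = y := (hfix y hyU).mpr (Or.inr rfl)
  -- the commutator map on V
  let φ : V →* V :=
    { toFun := fun v => ⟨(v : H)⁻¹ * (w * v * w⁻¹), V.mul_mem (V.inv_mem v.2) (hVw v v.2)⟩
      map_one' := by ext; simp
      map_mul' := fun a b => Subtype.ext (by
        show ((a : H) * b)⁻¹ * (w * ((a : H) * b) * w⁻¹) =
          (a : H)⁻¹ * (w * a * w⁻¹) * ((b : H)⁻¹ * (w * b * w⁻¹))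
        have hca : (b : H)⁻¹ * ((a : H)⁻¹ * (w * a * w⁻¹)) = (a : H)⁻¹ * (w * a * w⁻¹) * (b : H)⁻¹ :=
          hVmul _ (V.inv_mem b.2) _ (V.mul_mem (V.inv_mem a.2) (hVw a a.2))
        calc ((a : H) * b)⁻¹ * (w * ((a : H) * b) * w⁻¹)
            = (b : H)⁻¹ * ((a : H)⁻¹ * (w * a * w⁻¹)) * (w * b * w⁻¹) := by group
          _ = _ := by rw [hca]; group) }
  let Y : Subgroup V := Subgroup.zpowers ⟨y, hyV⟩
  have hymem : ∀ v : V, ((v : H) = 1 ∨ (v : H) = y) → v ∈ Y := by
    rintro v (h | h)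
    · rw [show v = 1 from Subtype.ext h]; exact Y.one_mem
    · rw [show v = ⟨y, hyV⟩ from Subtype.ext h]; exact Subgroup.mem_zpowers _
  have hy2 : Nat.card Y = 2 := by
    rw [Nat.card_zpowers, Subgroup.orderOf_mk]
    exact orderOf_eq_prime (hV2 y hyV) hy
  have hker : φ.ker ≤ Y := by
    intro v hv
    have h1 : (v : H)⁻¹ * (w * v * w⁻¹) = 1 := congrArg Subtype.val hv
    exact hymem v ((hfix v (hVU v.2)).mp (inv_mul_eq_one.mp h1).symm)
  have hrange : φ.range ≤ Y := by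
    rintro _ ⟨v, rfl⟩
    refine hymem _ ((hfix _ (hVU (φ v).2)).mp ?_)
    show w * ((v : H)⁻¹ * (w * v * w⁻¹)) * w⁻¹ = (v : H)⁻¹ * (w * v * w⁻¹)
    calc w * ((v : H)⁻¹ * (w * v * w⁻¹)) * w⁻¹
        = (w * v * w⁻¹)⁻¹ * (w * (w * v * w⁻¹) * w⁻¹) := by group
      _ = (v : H)⁻¹ * (w * v * w⁻¹) := by
        rw [hσσ, hVinv _ (hVw v v.2), hVmul _ (hVw v v.2) _ v.2, hVinv v v.2]
  have hcard : Nat.card V = 4 := by
    have h1 : Nat.card φ.range * Nat.card φ.ker = Nat.card V := by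
      rw [← φ.ker.index_mul_card, Subgroup.index_ker]
    have h2 := Subgroup.card_le_of_le hker
    have h3 := Subgroup.card_le_of_le hrange
    rw [hy2] at h2 h3
    have h4 : Nat.card V ≤ 4 := by rw [← h1]; exact Nat.mul_le_mul h3 h2
    have h5 : 1 < Nat.card V := V.one_lt_card_iff_ne_bot.mpr (fun h => hy (by simpa [h] using hyV))
    have h6 : ¬ (Nat.card V).Prime := fun h => hVc (by haveI := Fact.mk h; exact isCyclic_of_prime_card rfl)
    interval_cases (Nat.card V) <;> first | rfl | exact absurd (by norm_num) h6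
  have hv0 : ∃ v : H, v ∈ V ∧ v⁻¹ * (w * v * w⁻¹) = y := by
    have h1 : Nat.card φ.range * Nat.card φ.ker = 4 := by
      rw [← hcard, ← φ.ker.index_mul_card, Subgroup.index_ker]
    have h2 := Subgroup.card_le_of_le hker
    rw [hy2] at h2
    have h4 : φ.range = Y := Subgroup.eq_of_le_of_card_ge hrange (by rw [hy2]; nlinarith)
    obtain ⟨v, hv⟩ := (h4 ▸ Subgroup.mem_zpowers _ : (⟨y, hyV⟩ : V) ∈ φ.range)
    exact ⟨v, v.2, congrArg Subtype.val hv⟩
  obtain ⟨v0, hv0, hv0y⟩ := hv0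
  -- fixed cosets
  have hcoset : ∀ u ∈ U, u⁻¹ * (w * u * w⁻¹) ∈ V → u ∈ V := by
    intro u hu hm
    have hmfix : w * (u⁻¹ * (w * u * w⁻¹)) * w⁻¹ = u⁻¹ * (w * u * w⁻¹) := by
      calc w * (u⁻¹ * (w * u * w⁻¹)) * w⁻¹
          = (w * u * w⁻¹)⁻¹ * (w * (w * u * w⁻¹) * w⁻¹) := by group
        _ = (u⁻¹ * (w * u * w⁻¹))⁻¹ := by rw [hσσ]; group
        _ = _ := hVinv _ hm
    rcases (hfix _ (hVU hm)).mp hmfix with h | h
    · rcases (hfix u hu).mp (inv_mul_eq_one.mp h).symm with h' | h' <;> rw [h']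
      · exact V.one_mem
      · exact hyV
    · have h1 : w * (u * v0) * w⁻¹ = u * v0 := by
        have e1 : w * u * w⁻¹ = u * y := by rw [← h]; group
        have e2 : w * v0 * w⁻¹ = v0 * y := by rw [← hv0y]; group
        calc w * (u * v0) * w⁻¹ = (w * u * w⁻¹) * (w * v0 * w⁻¹) := by group
          _ = u * (y * v0) * y := by rw [e1, e2]; group
          _ = u * v0 * y ^ 2 := by rw [hVmul y hyV v0 hv0, pow_two]; simp [mul_assoc]
          _ = u * v0 := by rw [hV2 y hyV, mul_one]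
      have h2 : u * v0 ∈ V := by
        rcases (hfix _ (U.mul_mem hu (hVU hv0))).mp h1 with h' | h' <;> rw [h']
        · exact V.one_mem
        · exact hyV
      simpa using V.mul_mem h2 (V.inv_mem hv0)
  -- the quotient
  set W := V.subgroupOf U with hW
  have hwU' : ∀ u ∈ U, w * u * w⁻¹ ∈ U := fun u hu => (Subgroup.mem_normalizer_iff.mp hwU u).mp hu
  let θ : U →* U :=
    { toFun := fun u => ⟨w * u * w⁻¹, hwU' u u.2⟩
      map_one' := by ext; simp
      map_mul' := fun a b => Subtype.ext (by show w * ((a : H) * b) * w⁻¹ = _; simp [mul_assoc]) }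
  let θb : U ⧸ W →* U ⧸ W := QuotientGroup.map W W θ (fun x hx => hVw _ hx)
  have hθfix : ∀ x, θb x = x → x = 1 := by
    intro x
    induction x using QuotientGroup.induction_on with
    | _ u =>
      intro hx
      rw [QuotientGroup.eq_one_iff]
      have hm : u⁻¹ * θ u ∈ W := QuotientGroup.eq.mp (hx.symm : (u : U ⧸ W) = ((θ u : U) : U ⧸ W))
      exact hcoset u u.2 hm
  have hθθ : ∀ x, θb (θb x) = x := by
    intro x
    induction x using QuotientGroup.induction_on with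
    | _ u => exact congrArg (QuotientGroup.mk' W) (Subtype.ext (hσσ u))
  have hθinv : ∀ x, θb x = x⁻¹ := by
    intro x
    have hinj : Function.Injective fun z => z⁻¹ * θb z := by
      intro a b h
      have h' : a⁻¹ * θb a = b⁻¹ * θb b := h
      refine mul_inv_eq_one.mp (hθfix _ ?_)
      have e : θb a = a * (b⁻¹ * θb b) := by rw [← h', mul_inv_cancel_left]
      rw [map_mul, map_inv, e]
      group
    obtain ⟨z, rfl⟩ := Finite.surjective_of_injective hinj x
    show θb (z⁻¹ * θb z) = (z⁻¹ * θb z)⁻¹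
    rw [map_mul, map_inv, hθθ]
    group
  refine ⟨?_, hcard, ?_⟩
  · intro hdvd
    obtain ⟨x, hx⟩ := exists_prime_orderOf_dvd_card' (G := U ⧸ W) 2 hdvd
    have h1 : θb x = x := by
      rw [hθinv]
      exact inv_eq_of_mul_eq_one_right (by rw [← pow_two, ← hx, pow_orderOf_eq_one])
    rw [hθfix x h1, orderOf_one] at hx
    norm_num at hx
  · rw [Subgroup.commutator_le]
    intro a ha b hb
    have h1 := hθinv (((⟨a, ha⟩ : U) : U ⧸ W) * (⟨b, hb⟩ : U))
    rw [map_mul, hθinv, hθinv, mul_inv_rev] at h1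
    have h2 : ((⟨a, ha⟩ : U) : U ⧸ W) * (⟨b, hb⟩ : U) = (⟨b, hb⟩ : U) * (⟨a, ha⟩ : U) := by
      have := congrArg (fun z => z⁻¹) h1
      simp only [mul_inv_rev, inv_inv] at this
      exact this.symm
    exact (QuotientGroup.eq_one_iff (N := W) (⁅(⟨a, ha⟩ : U), (⟨b, hb⟩ : U)⁆ : U)).mp (by
      simp only [commutatorElement_def, QuotientGroup.mk_mul, QuotientGroup.mk_inv]
      rw [h2]
      group)

end Cfsg.Agent.S3825
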