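import Cfsg.Statements.S3836
import Mathlib
import Cfsg.Agent.Lib.HallCore

set_option autoImplicit false
open Cfsg

namespace Cfsg.Agent.S3836

/-- Let G be a finite group that is p-stable in the normalizer form: for every p-subgroup Q and every x ∈ N_G(Q) with [Q, x, x] = 1, the image of x in N_G(Q)/C_G(Q) lies in O_p(N_G(Q)/C_G(Q)). Then every subgroup of G is p-stable in the same sense. -/
theorem result {G : Type*} [Group G] [Finite G] {p : ℕ} [Fact p.Prime] (hst : Cfsg.IsNormalizerPStable p G) (H : Subgroup G) : Cfsg.IsNormalizerPStable p ↥H := by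
  intro Q hQ g hg hcomm
  set Q' := Q.map H.subtype with hQ'
  have hle : ∀ x : H, x ∈ Subgroup.normalizer (Q : Set H) →
      (x : G) ∈ Subgroup.normalizer (Q' : Set G) := fun x hx =>
    Q.le_normalizer_map H.subtype ⟨x, hx, rfl⟩
  let ι : ↥(Subgroup.normalizer (Q : Set H)) →* ↥(Subgroup.normalizer (Q' : Set G)) :=
    { toFun := fun x => ⟨((x : H) : G), hle x x.2⟩
      map_one' := rfl
      map_mul' := fun _ _ => rfl }
  set CH := (Subgroup.centralizer (Q : Set H)).subgroupOf (Subgroup.normalizer (Q : Set H)) with hCH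
  set CG := (Subgroup.centralizer (Q' : Set G)).subgroupOf (Subgroup.normalizer (Q' : Set G)) with hCG
  have hiff : ∀ x, ι x ∈ CG ↔ x ∈ CH := by
    intro x
    constructor
    · intro h
      refine Subgroup.mem_centralizer_iff.mpr fun q hq => Subtype.ext ?_
      exact Subgroup.mem_centralizer_iff.mp h (q : G) ⟨q, hq, rfl⟩
    · intro h
      refine Subgroup.mem_centralizer_iff.mpr ?_
      rintro _ ⟨q, hq, rfl⟩
      exact congrArg Subtype.val (Subgroup.mem_centralizer_iff.mp h q hq)
  let φ := QuotientGroup.map CH CG ι (fun x hx => (hiff x).mpr hx)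
  have hφ : Function.Injective φ := by
    rw [injective_iff_map_eq_one]
    intro x
    induction x using QuotientGroup.induction_on with
    | _ x =>
      intro h
      rw [QuotientGroup.eq_one_iff]
      exact (hiff x).mp ((QuotientGroup.eq_one_iff _).mp h)
  have hG := hst Q' (hQ.map _) (g : G) (hle g hg) (by
    rw [show Subgroup.zpowers (g : G) = (Subgroup.zpowers g).map H.subtype from
      (MonoidHom.map_zpowers H.subtype g).symm, hQ', ← Subgroup.map_commutator, ← Subgroup.map_commutator,
      hcomm, Subgroup.map_bot])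
  have := Cfsg.Agent.HallCore.pCore_normal p (↥(Subgroup.normalizer (Q' : Set G)) ⧸ CG)
  exact Cfsg.Agent.HallCore.le_pCore
    (N := (Cfsg.pCore p (↥(Subgroup.normalizer (Q' : Set G)) ⧸ CG)).comap φ)
    ((Cfsg.Agent.HallCore.isPGroup_pCore p _).comap_of_injective φ hφ) hG

end Cfsg.Agent.S3836
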