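import Cfsg.Statements.S3838
import Mathlib
import Cfsg.Agent.Lib.TransferTate
import Cfsg.Agent.Lib.TransferPResidual

set_option autoImplicit false
open scoped commutatorElement
open Cfsg

namespace Cfsg.Agent.S3838


open Cfsg.Agent.TransferPResidual Cfsg.Agent.TransferTate

universe w

/-- Burnside fusion modulo a normal subgroup containing `[P,P]`, when `N(P)` is `p`-nilpotent. -/
theorem fusion_mod {M : Type w} [Group M] [Finite M] {p : ℕ} [Fact p.Prime] (P : Sylow p M)
    (Q : Subgroup M) [hQn : Q.Normal] (hQP : Q ≤ (P : Subgroup M))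
    (hc : ∀ a ∈ (P : Subgroup M), ∀ b ∈ (P : Subgroup M), a * b * a⁻¹ * b⁻¹ ∈ Q)
    (hN : Cfsg.HasNormalPComplement p ↥(Subgroup.normalizer ((P : Subgroup M) : Set M)))
    (x g : M) (hx : x ∈ (P : Subgroup M)) (hgx : g * x * g⁻¹ ∈ (P : Subgroup M)) :
    g * x * g⁻¹ * x⁻¹ ∈ Q := by
  set q := QuotientGroup.mk' Q with hq
  have hqs : Function.Surjective q := QuotientGroup.mk'_surjective Q
  set Pb := P.mapSurjective hqs with hPb
  have hab : IsMulCommutative (Pb : Subgroup (M ⧸ Q)) := by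
    refine ⟨⟨fun a b => Subtype.ext ?_⟩⟩
    obtain ⟨a', ha', ha⟩ := a.2
    obtain ⟨b', hb', hb⟩ := b.2
    show (a : M ⧸ Q) * b = b * a
    rw [← ha, ← hb, ← map_mul, ← map_mul]
    refine (QuotientGroup.eq (s := Q)).mpr ?_
    have h1 := hQn.conj_mem _ (hc b' hb' a' ha') (b' * a')⁻¹
    have h2 := inv_mem h1
    simpa [mul_assoc] using h1
  obtain ⟨nb, hnb, hnbe⟩ := Pb.conj_eq_normalizer_conj_of_mem (q x) (q g)⁻¹ ⟨x, hx, rfl⟩
    ⟨g * x * g⁻¹, hgx, by simp⟩
  obtain ⟨n, rfl⟩ := hqs nb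
  rw [inv_inv] at hnbe
  have hcomap : (Pb : Subgroup (M ⧸ Q)).comap q = (P : Subgroup M) := by
    show ((P : Subgroup M).map q).comap q = _
    rw [Subgroup.comap_map_eq, hq, QuotientGroup.ker_mk', sup_eq_left.mpr hQP]
  have hn : n ∈ Subgroup.normalizer ((P : Subgroup M) : Set M) := by
    rw [Subgroup.mem_normalizer_iff]
    intro y
    conv_lhs => rw [← hcomap]
    conv_rhs => rw [← hcomap]
    rw [Subgroup.mem_comap, Subgroup.mem_comap, map_mul, map_mul, map_inv]
    exact Subgroup.mem_normalizer_iff.mp hnb _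
  -- n acts on P as an element of P does
  set NP := Subgroup.normalizer ((P : Subgroup M) : Set M) with hNP
  let P1 : Sylow p NP := P.subtype Subgroup.le_normalizer
  have hP1n : ((P1 : Subgroup NP)).Normal := Subgroup.normal_in_normalizer
  obtain ⟨u, hu, k, hk, huk⟩ : ∃ u ∈ (P1 : Subgroup NP), ∃ k ∈ Cfsg.pResidual p NP,
      u * k = (⟨n, hn⟩ : NP)⁻¹ := by
    rw [← Subgroup.mem_sup_of_normal_right, sylow_sup_pResidual]
    trivial
  have hkc := le_centralizer_of_normal_pGroup hN P1.isPGroup' hk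
  have hxk : (x : M) * k = k * x :=
    congrArg Subtype.val (Subgroup.mem_centralizer_iff.mp hkc ⟨x, Subgroup.le_normalizer hx⟩ hx)
  have hninv : n⁻¹ = (u : M) * k := congrArg Subtype.val huk.symm
  have hn' : n = (k : M)⁻¹ * (u : M)⁻¹ := by rw [← inv_inv n, hninv, mul_inv_rev]
  have huP : (u : M) ∈ (P : Subgroup M) := hu
  have hxe : n⁻¹ * x * n = u * x * (u : M)⁻¹ := by
    rw [hninv, hn']
    calc (u : M) * k * x * ((k : M)⁻¹ * (u : M)⁻¹) = u * (k * x) * (k : M)⁻¹ * (u : M)⁻¹ := by group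
      _ = u * x * (u : M)⁻¹ := by rw [← hxk]; group
  have h1 : (u : M) * x * (u : M)⁻¹ * x⁻¹ ∈ Q := hc _ huP _ hx
  have h2 : q (g * x * g⁻¹) = q (u * x * (u : M)⁻¹) := by
    rw [← hxe]
    simpa using hnbe
  have h3 : q (g * x * g⁻¹ * x⁻¹) = 1 := by
    rw [map_mul, h2, ← map_mul]
    exact (QuotientGroup.eq_one_iff _).mpr h1
  exact (QuotientGroup.eq_one_iff _).mp h3

/-- Let G be a finite group with Sylow p-subgroup P such that N_G(P) has a normal p-complement. Then N_G(Q) has a normal p-complement for every subgroup Q with [P, P] ≤ Q ≤ Φ(P). -/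
theorem result {G : Type*} [Group G] [Finite G] {p : ℕ} [Fact p.Prime] (P : Sylow p G) (hN : Cfsg.HasNormalPComplement p ↥(Subgroup.normalizer ((P : Subgroup G) : Set G))) (Q : Subgroup G) (h1 : (commutator ↥(P : Subgroup G)).map (P : Subgroup G).subtype ≤ Q) (h2 : Q ≤ (frattini ↥(P : Subgroup G)).map (P : Subgroup G).subtype) : Cfsg.HasNormalPComplement p ↥(Subgroup.normalizer (Q : Set G)) := by
  set N := Subgroup.normalizer (Q : Set G) with hN'
  have hQP : Q ≤ (P : Subgroup G) := h2.trans (Subgroup.map_subtype_le _)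
  have hc : ∀ a ∈ (P : Subgroup G), ∀ b ∈ (P : Subgroup G), a * b * a⁻¹ * b⁻¹ ∈ Q := by
    intro a ha b hb
    refine h1 ⟨⟨a, ha⟩ * ⟨b, hb⟩ * ⟨a, ha⟩⁻¹ * ⟨b, hb⟩⁻¹, ?_, rfl⟩
    exact Subgroup.commutator_mem_commutator (Subgroup.mem_top _) (Subgroup.mem_top _)
  have hPN : (P : Subgroup G) ≤ N := by
    intro a ha
    rw [hN', Subgroup.mem_normalizer_iff]
    intro y
    constructor
    · intro hy
      simpa using Q.mul_mem (hc a ha y (hQP hy)) hy
    · intro hy
      have h3 := hc a⁻¹ (inv_mem ha) _ (hQP hy)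
      have h4 := Q.mul_mem h3 hy
      simpa [mul_assoc] using h4
  let P' : Sylow p N := P.subtype hPN
  have : (Q.subgroupOf N).Normal := Subgroup.normal_in_normalizer
  have hNP' : Cfsg.HasNormalPComplement p
      ↥(Subgroup.normalizer ((P' : Subgroup N) : Set N)) := by
    have hmem : ∀ z : ↥(Subgroup.normalizer ((P' : Subgroup N) : Set N)),
        ((z : N) : G) ∈ Subgroup.normalizer ((P : Subgroup G) : Set G) := by
      intro z
      rw [Subgroup.mem_normalizer_iff]
      intro y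
      constructor
      · intro hy
        exact (Subgroup.mem_normalizer_iff.mp z.2 ⟨y, hPN hy⟩).mp hy
      · intro hy
        have hy' : y ∈ N := by
          have := mul_mem (mul_mem (inv_mem (z : N).2) (hPN hy)) (z : N).2
          simpa [mul_assoc] using this
        exact (Subgroup.mem_normalizer_iff.mp z.2 ⟨y, hy'⟩).mpr hy
    exact hasNormalPComplement_of_injective
      (MonoidHom.codRestrict (N.subtype.comp (Subgroup.normalizer ((P' : Subgroup N) : Set N)).subtype)
        (Subgroup.normalizer ((P : Subgroup G) : Set G)) hmem)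
      (fun a b h => Subtype.ext (Subtype.ext (congrArg (fun z : Subgroup.normalizer ((P : Subgroup G) : Set G) => (z : G)) h))) hN
  have hfus := fusion_mod P' (Q.subgroupOf N) (fun y hy => hQP hy)
    (fun a ha b hb => hc a ha b hb) hNP'
  refine hasNormalPComplement_of_le_frattini P' ((inf_pResidual_le_focal P').trans ?_)
  rw [Subgroup.focalSubgroup, Subgroup.closure_le]
  rintro z ⟨hz, x, hx, u, rfl⟩
  have hux : u * x⁻¹ * u⁻¹ ∈ (P' : Subgroup N) := by
    have := mul_mem (inv_mem hx) hz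
    simpa [commutatorElement_def, mul_assoc] using this
  have h5 := hfus x⁻¹ u (inv_mem hx) hux
  have h6 : x * (u * x⁻¹ * u⁻¹ * x⁻¹⁻¹) * x⁻¹ ∈ Q.subgroupOf N :=
    Subgroup.Normal.conj_mem inferInstance _ h5 x
  have h7 : ((⁅x, u⁆ : N) : G) ∈ Q := by
    simpa [commutatorElement_def, mul_assoc, Subgroup.mem_subgroupOf] using h6
  obtain ⟨y, hy, hyz⟩ := h2 h7
  let e : (P' : Subgroup N) ≃* (P : Subgroup G) := Subgroup.subgroupOfEquivOfLe hPN
  refine ⟨e.symm y, ?_, Subtype.ext hyz⟩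
  have hsurj : Function.Surjective e.toMonoidHom := e.surjective
  have := frattini_le_comap_frattini_of_surjective (φ := e.symm.toMonoidHom) e.symm.surjective
  exact this hy

end Cfsg.Agent.S3838
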