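import Cfsg.Statements.S3839
import Cfsg.Agent.Lib.TransferAlperin
import Cfsg.Agent.Lib.PGroupsBasic

set_option autoImplicit false
open Cfsg

namespace Cfsg.Agent.S3839

open Subgroup Cfsg.Agent.TransferAlperin Cfsg.Agent.TransferPResidual Cfsg.Agent.PGroupsBasic

variable {G : Type*} [Group G] [Finite G] {p : ℕ} [hp : Fact p.Prime]

/-- Every element of `p'`-order normalizing `T` centralizes it. -/
def Good (p : ℕ) (T : Subgroup G) : Prop :=
  ∀ g ∈ normalizer (T : Set G), Nat.Coprime (orderOf g) p → g ∈ centralizer (T : Set G)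

theorem Good.of_cj {a : G} {T : Subgroup G} (h : Good p (cj a T)) : Good p T := by
  intro g hg hc
  have hg' : a * g * a⁻¹ ∈ normalizer ((cj a T : Subgroup G) : Set G) := by
    rw [← cj_normalizer, mem_cj]; simpa [mul_assoc] using hg
  have ho : orderOf (a * g * a⁻¹) = orderOf g := (MulAut.conj a).orderOf_eq g
  have h2 := h _ hg' (ho.symm ▸ hc)
  refine mem_centralizer_iff.mpr fun t ht => ?_
  have h3 := mem_centralizer_iff.mp h2 _ (mem_cj.mpr (by simpa [mul_assoc] using ht) : a * t * a⁻¹ ∈ cj a T)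
  exact mul_right_cancel (mul_left_cancel (a := a) (b := t * g) (c := g * t)
    (mul_right_cancel (b := a⁻¹) (by simpa [mul_assoc] using h3)) ▸ rfl : t * g * g = g * t * g)

theorem isPGroup_map_of_coprime {M : Type*} [Group M] (f : G →* M) (H : Subgroup G)
    (h : ∀ x ∈ H, Nat.Coprime (orderOf x) p → f x = 1) : IsPGroup p (H.map f) := by
  rintro ⟨_, x, hx, rfl⟩
  obtain ⟨e, m, hm, hem⟩ :=
    Nat.exists_eq_pow_mul_and_not_dvd (orderOf_pos x).ne' p hp.out.ne_one
  refine ⟨e, Subtype.ext ?_⟩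
  show f x ^ p ^ e = 1
  rw [← map_pow]
  refine h _ (pow_mem hx _) ?_
  have hd : orderOf (x ^ p ^ e) ∣ m := by
    rw [orderOf_dvd_iff_pow_eq_one, ← pow_mul, ← hem, pow_orderOf_eq_one]
  exact Nat.Coprime.coprime_dvd_left hd ((Nat.Prime.coprime_iff_not_dvd hp.out).mpr hm).symm

theorem good_of_normalizers (S : Sylow p G) {D : Subgroup G} (hD : Cfsg.IsStronglyClosed D (S : Subgroup G))
    (h : ∀ U : Subgroup G, U ≤ D → D ⊓ centralizer (U : Set G) ≤ U →
      Cfsg.HasNormalPComplement p ↥(normalizer (U : Set G))) :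
    ∀ (n : ℕ) (T : Subgroup G), IsPGroup p T → Nat.card G ≤ Nat.card T + n → Good p T := by
  intro n
  induction n using Nat.strong_induction_on with
  | _ n ih =>
  intro T0 hT0 hn0
  obtain ⟨a, haS, hfn⟩ := exists_isFullyNormalized S hT0
  refine Good.of_cj (a := a) ?_
  have hn : Nat.card G ≤ Nat.card (cj a T0) + n := by rwa [card_cj]
  generalize hT : cj a T0 = T at haS hfn hn
  clear hT hn0 hT0 T0
  have hTp : IsPGroup p T := S.isPGroup'.to_le haS
  set U := T ⊓ D with hU
  set N := normalizer (T : Set G) with hN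
  have hUN : ∀ g ∈ N, ∀ u ∈ U, g * u * g⁻¹ ∈ U := fun g hg u hu =>
    have h1 : g * u * g⁻¹ ∈ T := (mem_normalizer_iff.mp hg u).mp hu.1
    ⟨h1, hD.2 u hu.2 g (haS h1)⟩
  have hNU : N ≤ normalizer (U : Set G) := le_normalizer_iff.mpr hUN
  by_cases hcen : D ⊓ centralizer (U : Set G) ≤ U
  · intro g hg hc
    exact mem_centralizer_of_hasNormalPComplement hTp
      (hasNormalPComplement_mono hNU (h U inf_le_right hcen)) hg hc
  -- the subgroup generated by T and C_D(U)
  set X := D ⊓ centralizer (U : Set G) with hX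
  have hTX : T ≤ normalizer (X : Set G) := le_normalizer_iff.mpr fun t ht x hx => by
    refine ⟨hD.2 x hx.1 t (mul_mem (mul_mem (haS ht) (hD.1 hx.1)) (inv_mem (haS ht))), ?_⟩
    refine mem_centralizer_iff.mpr fun u hu => ?_
    have h1 := hUN t⁻¹ (inv_mem (le_normalizer ht)) u hu
    rw [inv_inv] at h1
    have h2 := mem_centralizer_iff.mp hx.2 _ h1
    calc u * (t * x * t⁻¹) = t * (t⁻¹ * u * t * x) * t⁻¹ := by group
      _ = t * (x * (t⁻¹ * u * t)) * t⁻¹ := by rw [h2]
      _ = t * x * t⁻¹ * u := by group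
  have hTX2 : T ⊔ X ≤ (S : Subgroup G) := sup_le haS (inf_le_left.trans hD.1)
  have hlt : T < T ⊔ X := lt_of_le_of_ne le_sup_left fun e => hcen fun x hx =>
    ⟨e ▸ (le_sup_right : X ≤ T ⊔ X) hx, hx.1⟩
  have hne : T.subgroupOf (T ⊔ X) ≠ ⊤ := fun e => hlt.not_ge (subgroupOf_eq_top.mp e)
  obtain ⟨e, he, heT⟩ := SetLike.exists_of_lt (lt_normalizer (S.isPGroup'.to_le hTX2) hne)
  have heN : (e : G) ∈ N := mem_normalizer_iff.mpr fun t => by
    by_cases ht : t ∈ T ⊔ X
    · exact mem_normalizer_iff.mp he ⟨t, ht⟩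
    · refine ⟨fun h => absurd (hlt.le h) ht, fun h => absurd ?_ ht⟩
      simpa [mul_assoc] using mul_mem (mul_mem (inv_mem e.2) (hlt.le h)) e.2
  have heT' : (e : G) ∉ T := heT
  obtain ⟨t, ht, x, hx, htx⟩ : ∃ t ∈ T, ∃ x ∈ X, t * x = e := by
    have := e.2
    rw [← SetLike.mem_coe, coe_mul_of_left_le_normalizer_right _ _ hTX] at this
    exact this
  have hxN : x ∈ N := by
    have : x = t⁻¹ * e := by rw [← htx]; group
    rw [this]; exact mul_mem (inv_mem (le_normalizer ht)) heN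
  have hxT : x ∉ T := fun h => heT' (htx ▸ mul_mem ht h)
  -- the stabilizer of the chain
  let K : Subgroup N :=
    { carrier := {g : N | (g : G) ∈ centralizer (U : Set G) ∧ ∀ t ∈ T, (g : G) * t * (g : G)⁻¹ * t⁻¹ ∈ U}
      one_mem' := ⟨one_mem _, fun t _ => by simp⟩
      mul_mem' := fun {g k} hg hk => ⟨mul_mem hg.1 hk.1, fun t ht => by
        have h1 := mem_centralizer_iff.mp hg.1 _ (hk.2 t ht)
        have : ((g * k : N) : G) * t * ((g * k : N) : G)⁻¹ * t⁻¹ =
            ((g : G) * ((k : G) * t * (k : G)⁻¹ * t⁻¹) * (g : G)⁻¹) * ((g : G) * t * (g : G)⁻¹ * t⁻¹) := by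
          simp only [coe_mul]; group
        rw [this, ← h1, mul_inv_cancel_right]
        exact mul_mem (hk.2 t ht) (hg.2 t ht)⟩
      inv_mem' := fun {g} hg => ⟨inv_mem hg.1, fun t ht => by
        have h1 := hg.2 _ ((mem_normalizer_iff.mp (inv_mem g.2) t).mp ht)
        have h2 := inv_mem h1
        have : ((g⁻¹ : N) : G) * t * ((g⁻¹ : N) : G)⁻¹ * t⁻¹ =
            ((g : G) * ((g : G)⁻¹ * t * ((g : G)⁻¹)⁻¹) * (g : G)⁻¹ * ((g : G)⁻¹ * t * ((g : G)⁻¹)⁻¹)⁻¹)⁻¹ := by
          simp only [coe_inv]; group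
        rw [this]; exact h2⟩ }
  have hKn : K.Normal := ⟨fun k hk g => by
    refine ⟨mem_centralizer_iff.mpr fun u hu => ?_, fun t ht => ?_⟩
    · have h1 := hUN _ (inv_mem g.2) u hu
      rw [inv_inv] at h1
      have h2 := mem_centralizer_iff.mp hk.1 _ h1
      simp only [coe_mul, coe_inv]
      calc u * ((g : G) * k * (g : G)⁻¹) = g * (((g : G)⁻¹ * u * g) * k) * (g : G)⁻¹ := by group
        _ = g * (k * ((g : G)⁻¹ * u * g)) * (g : G)⁻¹ := by rw [h2]
        _ = g * k * (g : G)⁻¹ * u := by group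
    · have h1 := hUN _ g.2 _ (hk.2 _ ((mem_normalizer_iff.mp (inv_mem g.2) t).mp ht))
      convert h1 using 1
      simp only [coe_mul, coe_inv]; group⟩
  let φ := T.normalizerMonoidHom
  have hφ : ∀ g : N, φ g = 1 ↔ (g : G) ∈ centralizer (T : Set G) := fun g => by
    rw [← MonoidHom.mem_ker, normalizerMonoidHom_ker, mem_subgroupOf]
  have hKp : IsPGroup p (K.map φ) := isPGroup_map_of_coprime φ K fun g hg hc => by
    refine (hφ g).mpr (mem_centralizer_iff.mpr fun t ht => ?_)
    set u := (g : G) * t * (g : G)⁻¹ * t⁻¹ with hu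
    have hgu : (g : G) * u = u * g := (mem_centralizer_iff.mp hg.1 u (hg.2 t ht)).symm
    have key : ∀ m : ℕ, (g : G) ^ m * t * ((g : G) ^ m)⁻¹ = u ^ m * t := fun m => by
      induction m with
      | zero => simp
      | succ m ihm =>
        have h1 : (g : G) * u ^ m = u ^ m * g := (Commute.pow_right hgu m).eq
        have h2 : (g : G) * t * (g : G)⁻¹ = u * t := by rw [hu]; group
        calc (g : G) ^ (m + 1) * t * ((g : G) ^ (m + 1))⁻¹
            = g * ((g : G) ^ m * t * ((g : G) ^ m)⁻¹) * (g : G)⁻¹ := by rw [pow_succ']; group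
          _ = (g * u ^ m) * t * (g : G)⁻¹ := by rw [ihm]; group
          _ = u ^ m * (g * t * (g : G)⁻¹) := by rw [h1]; group
          _ = u ^ (m + 1) * t := by rw [h2, pow_succ]; group
    have h1 := key (orderOf g)
    rw [← coe_pow, pow_orderOf_eq_one] at h1
    have h2 : u ^ orderOf g = 1 := by simpa using h1.symm
    obtain ⟨k, hk⟩ := hTp ⟨u, (hg.2 t ht).1⟩
    have hk' : u ^ p ^ k = 1 := congrArg Subtype.val hk
    have : orderOf u = 1 := Nat.eq_one_of_dvd_coprimes (hc.pow_right k)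
      (orderOf_dvd_iff_pow_eq_one.mpr h2) (orderOf_dvd_iff_pow_eq_one.mpr hk')
    rw [orderOf_eq_one_iff, hu] at this
    calc t * g = (g * t * (g : G)⁻¹ * t⁻¹) * t * g := by rw [this, one_mul]
      _ = g * t := by group
  set M := T.subgroupOf N ⊔ K with hM
  have hTn : (T.subgroupOf N).Normal := normal_in_normalizer
  have hMp : IsPGroup p (M.map φ) := by
    have hn' : ∀ L : Subgroup N, L.Normal → (L.map φ.rangeRestrict).Normal := fun L hL =>
      hL.map _ φ.rangeRestrict_surjective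
    refine isPGroup_map_of_coprime φ M fun g hg hc => ?_
    have hT' : IsPGroup p ((T.subgroupOf N).map φ.rangeRestrict) :=
      (hTp.comap_of_injective _ N.subtype_injective).map _
    have hK' : IsPGroup p (K.map φ.rangeRestrict) := isPGroup_map_of_coprime _ K fun g hg hc => by
      have := hKp ⟨φ g, mem_map_of_mem φ hg⟩
      obtain ⟨k, hk⟩ := this
      refine Subtype.ext (orderOf_eq_one_iff.mp (Nat.eq_one_of_dvd_coprimes (hc.pow_right k)
        (orderOf_map_dvd φ g) (orderOf_dvd_iff_pow_eq_one.mpr (congrArg Subtype.val hk))))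
    have := hn' _ hKn
    obtain ⟨k, hk⟩ := hT'.to_sup_of_normal_right hK' ⟨φ.rangeRestrict g, by
      rw [← Subgroup.map_sup]; exact mem_map_of_mem _ hg⟩
    have hk' : φ g ^ p ^ k = 1 := congrArg Subtype.val (congrArg Subtype.val hk)
    exact orderOf_eq_one_iff.mp (Nat.eq_one_of_dvd_coprimes (hc.pow_right k)
      (orderOf_map_dvd φ g) (orderOf_dvd_iff_pow_eq_one.mpr hk'))
  -- a Sylow subgroup of M properly containing T
  have hxC : x ∈ centralizer (U : Set G) := hx.2
  have hxD : x ∈ D := hx.1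
  have hxS : x ∈ (S : Subgroup G) := hD.1 hxD
  have hxM : (⟨x, hxN⟩ : N) ∈ M := (le_sup_right : K ≤ M) <| show (⟨x, hxN⟩ : N) ∈ K from ⟨hxC, fun t ht => by
    show x * t * x⁻¹ * t⁻¹ ∈ U
    refine mem_inf.mpr ⟨mul_mem ((mem_normalizer_iff.mp hxN t).mp ht) (inv_mem ht), ?_⟩
    show _ ∈ D
    rw [mul_assoc, mul_assoc, ← mul_assoc t]
    exact mul_mem hxD (hD.2 x⁻¹ (inv_mem hxD) t
      (mul_mem (mul_mem (haS ht) (inv_mem hxS)) (inv_mem (haS ht))))⟩
  have hTxM : T ⊔ zpowers x ≤ M.map N.subtype := sup_le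
    (fun t ht => ⟨⟨t, le_normalizer ht⟩, (le_sup_left : _ ≤ M) ht, rfl⟩)
    (zpowers_le.mpr ⟨⟨x, hxN⟩, hxM, rfl⟩)
  have hTxp : IsPGroup p (T ⊔ zpowers x : Subgroup G) :=
    S.isPGroup'.to_le (sup_le haS (zpowers_le.mpr (hD.1 hx.1)))
  obtain ⟨R, hR⟩ := (hTxp.comap_of_injective (N.subtype.comp M.subtype)
    (N.subtype_injective.comp M.subtype_injective)).exists_le_sylow
  set R' : Subgroup G := ((R : Subgroup M).map M.subtype).map N.subtype with hR'
  have hTxR : T ⊔ zpowers x ≤ R' := fun y hy => by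
    obtain ⟨m, hm, rfl⟩ := hTxM hy
    exact ⟨m, ⟨⟨m, hm⟩, hR hy, rfl⟩, rfl⟩
  have hgR : Good p R' := by
    have hlt2 : Nat.card T < Nat.card R' :=
      Set.Finite.card_lt_card (Set.toFinite _) (SetLike.coe_ssubset_coe.mpr
        (lt_of_le_of_ne ((le_sup_left : T ≤ T ⊔ zpowers x).trans hTxR) fun e =>
        hxT (e ▸ hTxR (mem_sup_right (mem_zpowers x)))))
    have hle := R'.card_le_card_group
    exact ih (Nat.card G - Nat.card R') (by omega) R' ((R.isPGroup'.map _).map _) (by omega)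
  have hMn : M.Normal := inferInstance
  have htop : IsPGroup p ((⊤ : Subgroup N).map φ) := by
    set L := normalizer (((R : Subgroup M).map M.subtype : Subgroup N) : Set N) with hL
    have hfr : L ⊔ M = ⊤ := Sylow.normalizer_sup_eq_top R
    have hLp : IsPGroup p (L.map φ) := isPGroup_map_of_coprime φ L fun g hg hc => by
      have hg2 : (g : G) ∈ normalizer (R' : Set G) := by
        exact le_normalizer_map N.subtype ⟨g, hg, rfl⟩
      exact (hφ g).mpr (centralizer_le (SetLike.coe_subset_coe.mpr ((le_sup_left : T ≤ T ⊔ zpowers x).trans hTxR))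
        (hgR _ hg2 (by rwa [orderOf_coe])))
    refine isPGroup_map_of_coprime φ ⊤ fun g _ hc => ?_
    have := (hMn.map φ.rangeRestrict φ.rangeRestrict_surjective)
    have hL' : IsPGroup p (L.map φ.rangeRestrict) := hLp.of_injective
      ((φ.range.subtype.comp (L.map φ.rangeRestrict).subtype).codRestrict (L.map φ)
        (by rintro ⟨_, y, hy, rfl⟩; exact ⟨y, hy, rfl⟩))
      fun a b hab => Subtype.ext (Subtype.ext (by simpa using congrArg Subtype.val hab))
    have hM' : IsPGroup p (M.map φ.rangeRestrict) := hMp.of_injective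
      ((φ.range.subtype.comp (M.map φ.rangeRestrict).subtype).codRestrict (M.map φ)
        (by rintro ⟨_, y, hy, rfl⟩; exact ⟨y, hy, rfl⟩))
      fun a b hab => Subtype.ext (Subtype.ext (by simpa using congrArg Subtype.val hab))
    obtain ⟨k, hk⟩ := hL'.to_sup_of_normal_right hM' ⟨φ.rangeRestrict g, by
      rw [← Subgroup.map_sup, hfr]; exact mem_map_of_mem _ (mem_top g)⟩
    exact orderOf_eq_one_iff.mp (Nat.eq_one_of_dvd_coprimes (hc.pow_right k) (orderOf_map_dvd φ g)
      (orderOf_dvd_iff_pow_eq_one.mpr (congrArg Subtype.val (congrArg Subtype.val hk))))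
  intro g hg hc
  refine (hφ ⟨g, hg⟩).mp ?_
  obtain ⟨k, hk⟩ := htop ⟨φ ⟨g, hg⟩, mem_map_of_mem φ (mem_top _)⟩
  have hc' : Nat.Coprime (orderOf (⟨g, hg⟩ : N)) p := by rwa [orderOf_mk]
  exact orderOf_eq_one_iff.mp (Nat.eq_one_of_dvd_coprimes (hc'.pow_right k) (orderOf_map_dvd φ _)
    (orderOf_dvd_iff_pow_eq_one.mpr (congrArg Subtype.val hk)))

/-- A Frobenius normal p-complement criterion relative to a strongly closed subgroup. Let G be a finite group, S a Sylow p-subgroup and D a subgroup of S strongly closed in S with respect to G. Then G has a normal p-complement if and only if N_G(U) has a normal p-complement for every subgroup U of D with C_D(U) ≤ U. -/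
theorem result {G : Type*} [Group G] [Finite G] {p : ℕ} [Fact p.Prime] (S : Sylow p G) (D : Subgroup G) (hD : Cfsg.IsStronglyClosed D (S : Subgroup G)) : Cfsg.HasNormalPComplement p G ↔ ∀ U : Subgroup G, U ≤ D → D ⊓ Subgroup.centralizer (U : Set G) ≤ U → Cfsg.HasNormalPComplement p ↥(Subgroup.normalizer (U : Set G)) := by
  refine ⟨fun h U _ _ => hasNormalPComplement_subgroup _ h, fun h => ?_⟩
  exact (hasNormalPComplement_iff_centralizer S).mpr fun Q hQ =>
    good_of_normalizers S hD h (Nat.card G) Q (S.isPGroup'.to_le hQ) (Nat.le_add_left _ _)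

end Cfsg.Agent.S3839
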