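import Mathlib
import Cfsg.Agent.Lib.HallSolvable
import Cfsg.Agent.Lib.FrobeniusBasic
import Cfsg.Agent.Lib.FrobeniusFPF
import Cfsg.Agent.Lib.PGroupsCyclic
import Cfsg.Agent.Lib.CoprimeAction
import Cfsg.Statements.S3857
-- import your own Cfsg.Agent.* helpers here

set_option autoImplicit false
open Cfsg

namespace Cfsg.Agent.S3857

open Cfsg.Agent.HallCore Cfsg.Agent.HallSolvable

/-- No element has order a product of a prime in `π` and a prime outside `π`. -/
def NoMixed (π : Set ℕ) (G : Type*) [Group G] : Prop :=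
  ∀ s ∈ π, ∀ t ∉ π, s.Prime → t.Prime → ∀ g : G, orderOf g ≠ s * t

variable {G : Type*} [Group G] [Finite G]

theorem NoMixed.quotient {π : Set ℕ} (h : NoMixed π G) (N : Subgroup G) [N.Normal] : NoMixed π (G ⧸ N) := by
  intro s hs t ht hsp htp y hy
  obtain ⟨g, rfl⟩ := QuotientGroup.mk_surjective y
  have hd : s * t ∣ orderOf g := hy ▸ orderOf_map_dvd (QuotientGroup.mk' N) g
  exact h s hs t ht hsp htp (g ^ (orderOf g / (s * t))) (orderOf_pow_orderOf_div (orderOf_pos g).ne' hd)

/-- Commuting nontrivial elements, one a `π`-element and the other a `π'`-element, do not exist. -/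
theorem NoMixed.commute {π : Set ℕ} (h : NoMixed π G) {x y : G}
    (hx : ∀ s : ℕ, s.Prime → s ∣ orderOf x → s ∈ π) (hy : ∀ s : ℕ, s.Prime → s ∣ orderOf y → s ∉ π)
    (hxy : Commute x y) (hx1 : x ≠ 1) : y = 1 := by
  by_contra hy1
  obtain ⟨s, hs, hsd⟩ := Nat.exists_prime_and_dvd (fun h => hx1 (orderOf_eq_one_iff.mp h))
  obtain ⟨t, ht, htd⟩ := Nat.exists_prime_and_dvd (fun h => hy1 (orderOf_eq_one_iff.mp h))
  refine h s (hx s hs hsd) t (hy t ht htd) hs ht (x ^ (orderOf x / s) * y ^ (orderOf y / t)) ?_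
  have e1 := orderOf_pow_orderOf_div (orderOf_pos x).ne' hsd
  have e2 := orderOf_pow_orderOf_div (orderOf_pos y).ne' htd
  rw [(hxy.pow_pow _ _).orderOf_mul_eq_mul_orderOf_of_coprime, e1, e2]
  rw [e1, e2]
  exact (Nat.coprime_primes hs ht).mpr fun e => hy t ht htd (e ▸ hx s hs hsd)

theorem main (π : Set ℕ) [hsol : Group.IsSolvable G] (h0 : Cfsg.piCore π G ≠ ⊥)
    (hb : ∃ b ∉ π, b.Prime ∧ b ∣ Nat.card G) (hG : NoMixed π G) :
    (∃ C : Subgroup G, Cfsg.IsFrobeniusComplement C) ∨
    (∃ (H K : Subgroup G) (_ : H.Normal), K.Normal ∧ H < K ∧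
      (∃ C : Subgroup ↥K, Cfsg.IsFrobeniusComplement C ∧ Cfsg.frobeniusKernel C = (H.subgroupOf K : Set ↥K)) ∧
      (∃ C : Subgroup (G ⧸ H), Cfsg.IsFrobeniusComplement C ∧ Cfsg.frobeniusKernel C = (K.map (QuotientGroup.mk' H) : Set (G ⧸ H)))) := by
  classical
  set P := Cfsg.piCore π G with hP
  set q := QuotientGroup.mk' P with hq
  set Hb := Cfsg.piCore πᶜ (G ⧸ P) with hHb
  set K := Hb.comap q with hK
  haveI hKn : K.Normal := Subgroup.Normal.comap inferInstance q
  have hqs : Function.Surjective q := QuotientGroup.mk'_surjective P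
  have hPK : P ≤ K := QuotientGroup.le_comap_mk' P Hb
  have hPpi : PiNat π (Nat.card P) := piNat_card_piCore π G
  have hHbpi : PiNat πᶜ (Nat.card Hb) := piNat_card_piCore πᶜ _
  obtain ⟨b, hbπ, hb, hbG⟩ := hb
  have hcardG : Nat.card (G ⧸ P) * Nat.card P = Nat.card G := by
    rw [Subgroup.card_eq_card_quotient_mul_card_subgroup P]
  haveI hbarnt : Nontrivial (G ⧸ P) := by
    refine Finite.one_lt_card_iff_nontrivial.mp ?_
    rcases eq_or_ne (Nat.card (G ⧸ P)) 1 with h1 | h1
    · rw [h1, one_mul] at hcardG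
      exact absurd (hPpi b hb (hcardG ▸ hbG)) hbπ
    · have := Nat.card_pos (α := G ⧸ P); omega
  have hbarcore : Cfsg.piCore π (G ⧸ P) = ⊥ := piCore_quotient_self
  have hHb1 : Hb ≠ ⊥ := by
    intro h
    obtain ⟨L, hL⟩ := exists_minNormal (G := G ⧸ P)
    haveI := hL.normal
    obtain ⟨l, hl, -, hLl⟩ := hL.exists_prime
    haveI := Fact.mk hl
    obtain ⟨k, hk⟩ := IsPGroup.iff_card.mp hLl
    have hpi : ∀ ρ : Set ℕ, l ∈ ρ → L ≤ Cfsg.piCore ρ (G ⧸ P) := fun ρ hρ => le_piCore (fun s hs hd => by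
      rw [hk] at hd
      rwa [(Nat.prime_dvd_prime_iff_eq hs hl).mp (hs.dvd_of_dvd_pow hd)])
    by_cases hlπ : l ∈ π
    · exact hL.ne_bot (le_bot_iff.mp (hbarcore ▸ hpi π hlπ))
    · exact hL.ne_bot (le_bot_iff.mp (h ▸ hpi πᶜ hlπ))
  have hcardK : Nat.card Hb * Nat.card P = Nat.card K := card_comap_mk' P Hb
  have hcopPH : (Nat.card P).Coprime (Nat.card Hb) := PiNat.coprime hPpi hHbpi
  have hPidx : (P.subgroupOf K).index = Nat.card Hb := by
    have h1 := (P.subgroupOf K).card_mul_index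
    rw [Nat.card_congr (Subgroup.subgroupOfEquivOfLe hPK).toEquiv, ← hcardK, mul_comm (Nat.card Hb)] at h1
    exact Nat.eq_of_mul_eq_mul_left Nat.card_pos h1
  obtain ⟨C0, hC0⟩ := Subgroup.exists_right_complement'_of_coprime (N := P.subgroupOf K) (by
    rw [hPidx, Nat.card_congr (Subgroup.subgroupOfEquivOfLe hPK).toEquiv]; exact hcopPH)
  have hC0card : Nat.card C0 = Nat.card Hb := by rw [← hC0.symm.index_eq_card, hPidx]
  have hC01 : C0 ≠ ⊥ := by
    intro h
    rw [h, Subgroup.card_bot] at hC0card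
    exact hHb1 (Subgroup.eq_bot_of_card_eq _ hC0card.symm)
  have hP0 : P.subgroupOf K ≠ ⊥ := fun h => h0 (by
    rwa [Subgroup.subgroupOf_eq_bot, disjoint_iff, inf_eq_left.mpr hPK] at h)
  have hfpf : ∀ h ∈ C0, h ≠ 1 → P.subgroupOf K ⊓ Subgroup.centralizer ({h} : Set K) = ⊥ := by
    intro h hh h1
    rw [Subgroup.eq_bot_iff_forall]
    rintro x ⟨hxP, hxc⟩
    by_contra hx1
    refine h1 (Subtype.ext (hG.commute (x := (x : G)) (y := (h : G)) ?_ ?_ ?_ (fun e => hx1 (Subtype.ext e))))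
    · exact fun s hs hd => hPpi s hs (hd.trans (Subgroup.orderOf_dvd_natCard P hxP))
    · exact fun s hs hd => hHbpi s hs (hC0card ▸ (by rw [Subgroup.orderOf_coe] at hd; exact hd.trans (Subgroup.orderOf_dvd_natCard C0 hh)))
    · exact congrArg Subtype.val (Subgroup.mem_centralizer_singleton_iff.mp hxc)
  have hC0frob : Cfsg.IsFrobeniusComplement C0 :=
    FrobeniusBasic.isFrobeniusComplement_of_fpf hC0 hP0 hC01 hfpf
  by_cases hKtop : K = ⊤
  · left
    exact ⟨_, FrobeniusBasic.map_equiv ((MulEquiv.subgroupCongr hKtop).trans Subgroup.topEquiv) hC0frob⟩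
  right
  refine ⟨P, K, inferInstance, hKn, lt_of_le_of_ne hPK fun h => ?_,
    ⟨C0, hC0frob, FrobeniusBasic.frobeniusKernel_eq hC0frob hC0⟩, ?_⟩
  · apply hHb1
    have := Subgroup.map_comap_eq_self_of_surjective hqs Hb
    rw [← this, ← hK, ← h, hq, QuotientGroup.map_mk'_self]
  rw [← hq, Subgroup.map_comap_eq_self_of_surjective hqs Hb]
  -- the quotient is Frobenius with kernel `Hb`
  have hGb : NoMixed π (G ⧸ P) := hG.quotient P
  have hcent : Subgroup.centralizer (Hb : Set (G ⧸ P)) ≤ Hb :=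
    centralizer_piCore_le (isPiSeparable_of_solvable _) (by rwa [compl_compl])
  have hHbtop : Hb ≠ ⊤ := fun h => hKtop (by rw [hK, h, Subgroup.comap_top])
  haveI : Nontrivial ((G ⧸ P) ⧸ Hb) := QuotientGroup.nontrivial_iff.mpr hHbtop
  -- a prime of `π` divides the index of `Hb`
  obtain ⟨r, hr, hrπ, hrd⟩ : ∃ r : ℕ, r.Prime ∧ r ∈ π ∧ r ∣ Nat.card (G ⧸ P) := by
    by_contra h
    push Not at h
    refine hHbtop ((piCore_eq_top_iff).mpr fun s hs hd => fun hsπ => h s hs hsπ hd)
  haveI := Fact.mk hr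
  obtain ⟨d, hd⟩ := exists_prime_orderOf_dvd_card' (G := G ⧸ P) r hrd
  have hrHb : ¬ r ∣ Nat.card Hb := fun h => hHbpi r hr h hrπ
  have dfix : ∀ d : G ⧸ P, (∀ s : ℕ, s.Prime → s ∣ orderOf d → s ∈ π) → d ≠ 1 →
      Hb ⊓ Subgroup.centralizer ({d} : Set (G ⧸ P)) = ⊥ := by
    intro d hd hd1
    rw [Subgroup.eq_bot_iff_forall]
    rintro x ⟨hx, hxc⟩
    exact hGb.commute hd (fun s hs hsd => hHbpi s hs (hsd.trans (Subgroup.orderOf_dvd_natCard Hb hx)))
      (Subgroup.mem_centralizer_singleton_iff.mp hxc).symm hd1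
  have hdpi : ∀ s : ℕ, s.Prime → s ∣ orderOf d → s ∈ π := fun s hs h => by
    rw [hd] at h; rwa [(Nat.prime_dvd_prime_iff_eq hs hr).mp h]
  have hd1 : d ≠ 1 := fun h => hr.ne_one (by rw [← hd, h, orderOf_one])
  have hdHb : Hb ⊓ Subgroup.centralizer ({d} : Set (G ⧸ P)) = ⊥ := dfix d hdpi hd1
  -- transfer of properties from the complement `C0`
  let e0 : K →* G ⧸ P := q.comp K.subtype
  have he0inj : ∀ u ∈ C0, e0 u = 1 → u = 1 := by
    intro u hu h
    have : u ∈ P.subgroupOf K := Subgroup.mem_subgroupOf.mpr ((QuotientGroup.eq_one_iff _).mp h)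
    exact Subgroup.disjoint_def.mp hC0.disjoint this hu
  let e : C0 →* Hb := (e0.comp C0.subtype).codRestrict Hb (fun u => (u : K).2)
  have hebij : Function.Bijective e := by
    refine (Nat.bijective_iff_injective_and_card e).mpr ⟨(injective_iff_map_eq_one e).mpr ?_, hC0card⟩
    exact fun u hu => Subtype.ext (he0inj u u.2 (congrArg Subtype.val hu))
  let e' : C0 ≃* Hb := MulEquiv.ofBijective e hebij
  haveI hZ : IsZGroup Hb := by
    refine ⟨fun l hl Q => ?_⟩
    haveI := Fact.mk hl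
    by_cases hl2 : l = 2
    · subst hl2
      -- no involution in `Hb`
      suffices (Q : Subgroup Hb) = ⊥ by rw [this]; infer_instance
      by_contra hne
      have h2 : 2 ∣ Nat.card Hb := by
        haveI := (Subgroup.nontrivial_iff_ne_bot _).mpr hne
        exact (Q.isPGroup'.card_eq_or_dvd.resolve_left (Finite.one_lt_card (α := Q)).ne').trans
          (Subgroup.card_subgroup_dvd_card _)
      obtain ⟨z, hz⟩ := exists_prime_orderOf_dvd_card' (G := Hb) 2 h2
      have hconj : d * (z : G ⧸ P) * d⁻¹ ∈ Hb := Subgroup.Normal.conj_mem inferInstance _ z.2 d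
      set z' : Hb := ⟨_, hconj⟩
      have hz' : orderOf z' = 2 := by
        rw [← hz, ← Subgroup.orderOf_coe, ← Subgroup.orderOf_coe z]
        exact orderOf_injective (MulAut.conj d).toMonoidHom (MulAut.conj d).injective _
      have heq : z' = z := by
        apply e'.symm.injective
        apply Subtype.ext
        exact FrobeniusFPF.involution_unique hP0 hfpf (e'.symm z).2
          (by rw [Subgroup.orderOf_coe, MulEquiv.orderOf_eq, hz])
          (e'.symm z').2
          (by rw [Subgroup.orderOf_coe, MulEquiv.orderOf_eq, hz'])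
      have hzc : (z : G ⧸ P) ∈ Hb ⊓ Subgroup.centralizer ({d} : Set (G ⧸ P)) :=
        ⟨z.2, Subgroup.mem_centralizer_singleton_iff.mpr
          (mul_inv_eq_iff_eq_mul.mp (congrArg Subtype.val heq)).symm⟩
      rw [hdHb, Subgroup.mem_bot] at hzc
      rw [show z = 1 from Subtype.ext hzc, orderOf_one] at hz
      omega
    · by_contra hnc
      obtain ⟨E, -, hEc, hEel⟩ := PGroupsCyclic.exists_normal_elementary_sq Q.isPGroup' hl2 hnc
      -- an abelian subgroup of `C0` that is not cyclic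
      let f : (Q : Subgroup Hb) →* K :=
        C0.subtype.comp (e'.symm.toMonoidHom.comp (Q : Subgroup Hb).subtype)
      have hf : Function.Injective f :=
        Subtype.val_injective.comp (e'.symm.injective.comp Subtype.val_injective)
      set E' := E.map f with hE'
      have hE'el := PGroupsBasic.isElementaryAbelian_map_hom hEel f
      have hE'le : E' ≤ C0 := by
        rintro _ ⟨u, -, rfl⟩
        exact (e'.symm (u : Hb)).2
      have hcyc := FrobeniusFPF.isCyclic_of_le_complement hC0 hP0 hfpf E' hE'le (Or.inl hE'el.1)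
      have h1 := PGroupsBasic.card_le_prime_of_isCyclic (p := l) hcyc hE'el.2
      rw [Subgroup.card_map_of_injective hf, hEc] at h1
      exact absurd h1 (by have := hl.two_le; nlinarith)
  -- `Hb` is cyclic
  have hHcomm : ⁅Hb, Subgroup.zpowers d⁆ = Hb := by
    have hn : Subgroup.zpowers d ≤ Subgroup.normalizer (Hb : Set (G ⧸ P)) := by
      rw [Subgroup.normalizer_eq_top_iff.mpr inferInstance]; exact le_top
    have h := CoprimeAction.commutator_sup_centralizer_eq hn
      (by rw [Nat.card_zpowers, hd]; exact hr.coprime_iff_not_dvd.mpr hrHb)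
      (Or.inl (CoprimeAction.isSolvable_zpowers d))
    rwa [Subgroup.zpowers_eq_closure, Subgroup.centralizer_closure, hdHb, sup_bot_eq,
      ← Subgroup.zpowers_eq_closure] at h
  have autcomm : ∀ (C : Type _) [Group C] [IsCyclic C] (α β : MulAut C), α * β = β * α := by
    intro C _ _ α β
    obtain ⟨g, hg⟩ := IsCyclic.exists_generator (α := C)
    obtain ⟨i, hi⟩ := hg (α g)
    obtain ⟨j, hj⟩ := hg (β g)
    have hi' : α g = g ^ i := hi.symm
    have hj' : β g = g ^ j := hj.symm
    refine MulEquiv.ext fun x => ?_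
    obtain ⟨k, rfl⟩ := hg x
    show α (β (g ^ k)) = β (α (g ^ k))
    simp only [map_zpow, hi', hj', ← zpow_mul]
    congr 1
    ring
  set D := (commutator Hb).map Hb.subtype with hD
  haveI hDn : D.Normal := by
    haveI : (commutator Hb).Characteristic := inferInstance
    exact ConjAct.normal_of_characteristic_of_normal
  haveI := IsZGroup.isCyclic_commutator (G := Hb)
  haveI hDc : IsCyclic D := isCyclic_of_surjective _ ((commutator Hb).equivMapOfInjective Hb.subtype Hb.subtype_injective).surjective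
  have hHbD : ∀ h ∈ Hb, ∀ x ∈ D, h * x = x * h := by
    have hk : ⁅Hb, Subgroup.zpowers d⁆ ≤ (MulAut.conjNormal : (G ⧸ P) →* MulAut D).ker := by
      rw [Subgroup.commutator_le]
      intro u _ v _
      rw [MonoidHom.mem_ker, map_commutatorElement, commutatorElement_eq_one_iff_mul_comm]
      exact autcomm D _ _
    rw [hHcomm] at hk
    intro h hh x hx
    have h1 := congrArg (fun φ : MulAut D => ((φ ⟨x, hx⟩ : D) : G ⧸ P)) (MonoidHom.mem_ker.mp (hk hh))
    simp only [MulAut.conjNormal_apply, MulAut.one_apply] at h1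
    exact mul_inv_eq_iff_eq_mul.mp h1
  haveI hHbab : IsMulCommutative Hb := by
    have hle : commutator Hb ≤ Subgroup.center Hb := fun x hx => Subgroup.mem_center_iff.mpr fun y =>
      Subtype.ext (hHbD y y.2 x ⟨x, hx, rfl⟩)
    haveI : IsCyclic (Hb ⧸ commutator Hb) := IsZGroup.isCyclic_abelianization (G := Hb)
    exact MonoidHom.isMulCommutative_of_isCyclic_of_ker_le_center (QuotientGroup.mk' (commutator Hb))
      (by rwa [QuotientGroup.ker_mk'])
  haveI hHbcyc : IsCyclic Hb := by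
    letI : CommGroup Hb := { (inferInstance : Group Hb) with mul_comm := hHbab.is_comm.comm }
    infer_instance
  -- the index of `Hb` is a `π`-number
  have hQcomm : ∀ u v : G ⧸ P, u * v * u⁻¹ * v⁻¹ ∈ Hb := by
    intro u v
    refine hcent (Subgroup.mem_centralizer_iff.mpr fun h hh => ?_)
    have h1 := congrArg (fun φ : MulAut Hb => ((φ ⟨h, hh⟩ : Hb) : G ⧸ P))
      (show MulAut.conjNormal (H := Hb) (u * v * u⁻¹ * v⁻¹) = 1 by
        rw [map_mul, map_mul, map_mul, map_inv, map_inv, mul_inv_eq_one, mul_inv_eq_iff_eq_mul]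
        exact autcomm Hb _ _)
    simp only [MulAut.conjNormal_apply, MulAut.one_apply] at h1
    exact (mul_inv_eq_iff_eq_mul.mp h1).symm
  have hidxpi : PiNat π Hb.index := by
    intro s hs hsd
    by_contra hsπ
    haveI := Fact.mk hs
    obtain ⟨z, hz⟩ := exists_prime_orderOf_dvd_card' (G := (G ⧸ P) ⧸ Hb) s hsd
    set L := (Subgroup.zpowers z).comap (QuotientGroup.mk' Hb) with hL
    haveI : L.Normal := ⟨fun n hn g => by
      have := L.mul_mem (QuotientGroup.le_comap_mk' Hb (Subgroup.zpowers z) (hQcomm g n)) hn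
      simpa [mul_assoc] using this⟩
    have hLpi : PiNat πᶜ (Nat.card L) := by
      rw [hL, ← card_comap_mk', Nat.card_zpowers, hz]
      exact PiNat.mul (fun t ht hd => by rw [(Nat.prime_dvd_prime_iff_eq ht hs).mp hd]; exact hsπ) hHbpi
    obtain ⟨z0, hz0⟩ := QuotientGroup.mk'_surjective Hb z
    have h1 : z0 ∈ Hb := le_piCore hLpi (show z0 ∈ L by rw [hL, Subgroup.mem_comap, hz0]; exact Subgroup.mem_zpowers z)
    rw [← hz0, show QuotientGroup.mk' Hb z0 = 1 from (QuotientGroup.eq_one_iff z0).mpr h1, orderOf_one] at hz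
    exact hs.ne_one hz.symm
  obtain ⟨D', hD'⟩ := Subgroup.exists_right_complement'_of_coprime (N := Hb)
    (PiNat.coprime hidxpi hHbpi).symm
  have hD'card : Nat.card D' = Hb.index := hD'.symm.index_eq_card.symm
  have hfrob : Cfsg.IsFrobeniusComplement D' := by
    refine FrobeniusBasic.isFrobeniusComplement_of_fpf hD' hHb1 ?_ ?_
    · intro h
      rw [h, Subgroup.card_bot] at hD'card
      exact hHbtop (Subgroup.index_eq_one.mp hD'card.symm)
    · intro h hh h1
      exact dfix h (fun s hs hd => hidxpi s hs (hD'card ▸ hd.trans (Subgroup.orderOf_dvd_natCard D' hh))) h1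
  exact ⟨D', hfrob, FrobeniusBasic.frobeniusKernel_eq hfrob hD'⟩

/-- A finite solvable group whose prime graph (prime divisors of the order, two distinct primes joined when there is an element of order their product) is disconnected is a Frobenius group or a 2-Frobenius group (it has normal subgroups H < K with K a Frobenius group with kernel H and G/H a Frobenius group with kernel K/H). -/
theorem result {G : Type*} [Group G] [Finite G] (hsol : Group.IsSolvable G)
    (hdisc : (∃ A : Set ℕ, (∃ a ∈ A, a.Prime ∧ a ∣ Nat.card G) ∧ (∃ b ∉ A, b.Prime ∧ b ∣ Nat.card G) ∧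
      ∀ a ∈ A, ∀ b ∉ A, a.Prime → b.Prime → a ∣ Nat.card G → b ∣ Nat.card G → ¬ ∃ g : G, orderOf g = a * b)) :
    (∃ C : Subgroup G, Cfsg.IsFrobeniusComplement C) ∨
    (∃ (H K : Subgroup G) (_ : H.Normal), K.Normal ∧ H < K ∧
      (∃ C : Subgroup ↥K, Cfsg.IsFrobeniusComplement C ∧ Cfsg.frobeniusKernel C = (H.subgroupOf K : Set ↥K)) ∧
      (∃ C : Subgroup (G ⧸ H), Cfsg.IsFrobeniusComplement C ∧ Cfsg.frobeniusKernel C = (K.map (QuotientGroup.mk' H) : Set (G ⧸ H)))) := by
  classical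
  obtain ⟨A, ⟨a, haA, ha, had⟩, ⟨b, hbA, hb, hbd⟩, hedge⟩ := hdisc
  haveI := hsol
  haveI : Nontrivial G := Finite.one_lt_card_iff_nontrivial.mp
    (lt_of_lt_of_le ha.one_lt (Nat.le_of_dvd Nat.card_pos had))
  obtain ⟨M, hM⟩ := exists_minNormal (G := G)
  haveI := hM.normal
  obtain ⟨q, hq, -, hMq⟩ := hM.exists_prime
  have hMpi : ∀ π : Set ℕ, q ∈ π → Cfsg.piCore π G ≠ ⊥ := by
    intro π hqπ h
    haveI := Fact.mk hq
    have hle : M ≤ Cfsg.piCore π G := le_piCore (fun s hs hd => by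
      obtain ⟨k, hk⟩ := IsPGroup.iff_card.mp hMq
      rw [hk] at hd
      rwa [(Nat.prime_dvd_prime_iff_eq hs hq).mp (hs.dvd_of_dvd_pow hd)])
    exact hM.ne_bot (le_bot_iff.mp (h ▸ hle))
  by_cases hqA : q ∈ A
  · exact main A (hMpi A hqA) ⟨b, hbA, hb, hbd⟩ (fun s hs t ht hsp htp g hg =>
      hedge s hs t ht hsp htp (((dvd_mul_right s t).trans hg.symm.dvd).trans (orderOf_dvd_natCard g))
        (((dvd_mul_left t s).trans hg.symm.dvd).trans (orderOf_dvd_natCard g)) ⟨g, hg⟩)
  · exact main Aᶜ (hMpi Aᶜ hqA) ⟨a, not_not.mpr haA, ha, had⟩ (fun s hs t ht hsp htp g hg =>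
      hedge t (not_not.mp ht) s hs htp hsp (((dvd_mul_left t s).trans hg.symm.dvd).trans (orderOf_dvd_natCard g))
        (((dvd_mul_right s t).trans hg.symm.dvd).trans (orderOf_dvd_natCard g)) ⟨g, by rw [hg, mul_comm]⟩)

end Cfsg.Agent.S3857
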