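import Mathlib
import Cfsg.Statements.S3858
-- import your own Cfsg.Agent.* helpers here

set_option autoImplicit false
open Cfsg

namespace Cfsg.Agent.S3858

theorem not_comm {G : Type*} [Group G] [Finite G] (T : Subgroup G)
    (hT : IsSimpleGroup T) (hna : ¬ IsMulCommutative T) {r : ℕ} [Fact r.Prime] (R : Sylow r G)
    (h : T ≤ (R : Subgroup G)) : False := by
  have hp : IsPGroup r T := R.isPGroup'.to_le h
  have : Nontrivial T := hT.toNontrivial
  have hc : Nontrivial (Subgroup.center T) := hp.center_nontrivial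
  rcases hT.eq_bot_or_eq_top_of_normal (Subgroup.center T) inferInstance with hb | hb
  · exact ((Subgroup.nontrivial_iff_ne_bot _).mp hc) hb
  · exact hna ⟨⟨fun a b => ((Subgroup.mem_center_iff.mp (hb.symm ▸ Subgroup.mem_top b)) a)⟩⟩

theorem not_normal {G : Type*} [Group G] [Finite G] (T : Subgroup G) [T.Normal]
    (hT : IsSimpleGroup T) (hna : ¬ IsMulCommutative T) {r : ℕ} [Fact r.Prime] (R : Sylow r G)
    (hR0 : (R : Subgroup G) ⊓ T ≠ ⊥) : ¬ (R : Subgroup G).Normal := by
  intro h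
  have hn : (((R : Subgroup G) ⊓ T).subgroupOf T).Normal := Subgroup.Normal.subgroupOf (Subgroup.normal_inf_normal _ _) T
  rcases hT.eq_bot_or_eq_top_of_normal _ hn with hb | ht
  · exact hR0 (by simpa [Subgroup.subgroupOf_eq_bot, disjoint_iff] using hb)
  · exact not_comm T hT hna R ((Subgroup.subgroupOf_eq_top.mp ht).trans inf_le_left)

/-- Let G be a finite group with a normal non-abelian simple subgroup T whose centralizer is trivial (G almost simple with socle T), r a prime and R a Sylow r-subgroup of G meeting T nontrivially. Then R lies in exactly one maximal subgroup of G if and only if G has exactly one conjugacy class of maximal subgroups whose index is prime to r. -/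
theorem result {G : Type*} [Group G] [Finite G] (T : Subgroup G) [T.Normal] (hT : IsSimpleGroup T) (hna : ¬ IsMulCommutative T)
    (hC : Subgroup.centralizer (T : Set G) = ⊥) {r : ℕ} [Fact r.Prime] (R : Sylow r G) (hR0 : (R : Subgroup G) ⊓ T ≠ ⊥) :
    (∃! M : Subgroup G, IsCoatom M ∧ (R : Subgroup G) ≤ M) ↔
      ((∃ M : Subgroup G, IsCoatom M ∧ ¬ r ∣ M.index) ∧
        ∀ M₁ M₂ : Subgroup G, IsCoatom M₁ → ¬ r ∣ M₁.index → IsCoatom M₂ → ¬ r ∣ M₂.index → ∃ g : G, M₂ = M₁.map (MulAut.conj g).toMonoidHom) := by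
  classical
  have hRn : ¬ (R : Subgroup G).Normal := fun h => not_normal T hT hna R hR0 h
  set N := Subgroup.normalizer ((R : Subgroup G) : Set G) with hN
  have hNtop : N ≠ ⊤ := fun h => hRn (Subgroup.normalizer_eq_top_iff.mp h)
  have hidx : ∀ M : Subgroup G, (R : Subgroup G) ≤ M → ¬ r ∣ M.index := by
    intro M hle hd
    exact R.not_dvd_index (hd.trans (Subgroup.index_dvd_of_le hle))
  have hcont : ∀ M : Subgroup G, ¬ r ∣ M.index → ∃ g : G, ((g • R : Sylow r G) : Subgroup G) ≤ M := by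
    intro M hM
    obtain ⟨Q⟩ : Nonempty (Sylow r M) := inferInstance
    have hQ : IsPGroup r ((Q : Subgroup M).map M.subtype) := Q.isPGroup'.map _
    have hi : ¬ r ∣ ((Q : Subgroup M).map M.subtype).index := by
      rw [Subgroup.index_map_subtype]
      exact fun h => (Fact.out : r.Prime).dvd_mul.mp h |>.elim Q.not_dvd_index hM
    obtain ⟨g, hg⟩ := MulAction.exists_smul_eq G R (hQ.toSylow hi)
    refine ⟨g, ?_⟩
    rw [hg]
    exact Subgroup.map_subtype_le _
  constructor
  · rintro ⟨M, ⟨hM, hle⟩, huniq⟩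
    refine ⟨⟨M, hM, hidx M hle⟩, ?_⟩
    have key : ∀ M₁ : Subgroup G, IsCoatom M₁ → ¬ r ∣ M₁.index →
        ∃ g : G, M₁ = M.map (MulAut.conj g).toMonoidHom := by
      intro M₁ h1 h1i
      obtain ⟨g, hg⟩ := hcont M₁ h1i
      refine ⟨g, ?_⟩
      have e : M₁.map (MulAut.conj g⁻¹).toMonoidHom = M := by
        refine huniq _ ⟨?_, ?_⟩
        · exact (OrderIso.isCoatom_iff (MulAut.conj g⁻¹).mapSubgroup M₁).mpr h1
        · intro x hx
          refine ⟨g * x * g⁻¹, hg ?_, by simp [mul_assoc]⟩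
          rw [Sylow.coe_subgroup_smul]
          exact ⟨x, hx, by simp⟩
      rw [← e, Subgroup.map_map]
      ext y
      constructor
      · intro hy
        exact ⟨y, hy, by simp [mul_assoc]⟩
      · rintro ⟨x, hx, rfl⟩
        simpa [mul_assoc] using hx
    intro M₁ M₂ h1 h1i h2 h2i
    obtain ⟨g₁, e₁⟩ := key M₁ h1 h1i
    obtain ⟨g₂, e₂⟩ := key M₂ h2 h2i
    refine ⟨g₂ * g₁⁻¹, ?_⟩
    rw [e₁, e₂, Subgroup.map_map]
    congr 1
    ext x
    simp [mul_assoc]
  · rintro ⟨_, hconj⟩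
    obtain ⟨M, hM, hNM⟩ := (eq_top_or_exists_le_coatom N).resolve_left hNtop
    have hRM : (R : Subgroup G) ≤ M := le_trans Subgroup.le_normalizer hNM
    refine ⟨M, ⟨hM, hRM⟩, ?_⟩
    rintro M' ⟨hM', hRM'⟩
    obtain ⟨g, hg⟩ := hconj M M' hM (hidx M hRM) hM' (hidx M' hRM')
    have hgR : ((g⁻¹ • R : Sylow r G) : Subgroup G) ≤ M := by
      rw [Sylow.coe_subgroup_smul]
      rintro _ ⟨x, hx, rfl⟩
      have : x ∈ M.map (MulAut.conj g).toMonoidHom := hg ▸ hRM' hx
      obtain ⟨m, hm, rfl⟩ := this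
      simpa [mul_assoc] using hm
    obtain ⟨m, hm⟩ := MulAction.exists_smul_eq M (R.subtype hRM) ((g⁻¹ • R).subtype hgR)
    have hm' : (m : G) • R = g⁻¹ • R := by
      apply Sylow.ext
      have := congrArg (fun S : Sylow r M => (S : Subgroup M).map M.subtype) hm
      simp only [Sylow.coe_subtype] at this
      rw [Subgroup.map_subgroupOf_eq_of_le hgR] at this
      rw [← this]
      simp only [Sylow.coe_subgroup_smul, Sylow.coe_subtype]
      ext x
      constructor
      · rintro ⟨y, hy, rfl⟩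
        exact ⟨m * ⟨y, hRM hy⟩ * m⁻¹, ⟨⟨y, hRM hy⟩, hy, rfl⟩, rfl⟩
      · rintro ⟨_, ⟨y, hy, rfl⟩, rfl⟩
        exact ⟨y, hy, rfl⟩
    have hgm : (g * m) • R = R := by rw [mul_smul, hm', smul_inv_smul]
    have hgM : g ∈ M := by
      have : g * m ∈ N := Sylow.smul_eq_iff_mem_normalizer.mp hgm
      simpa using M.mul_mem (hNM this) (M.inv_mem m.2)
    rw [hg]
    ext y
    constructor
    · rintro ⟨x, hx, rfl⟩
      exact M.mul_mem (M.mul_mem hgM hx) (M.inv_mem hgM)
    · intro hy
      exact ⟨g⁻¹ * y * g, M.mul_mem (M.mul_mem (M.inv_mem hgM) hy) hgM, by simp [mul_assoc]⟩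

end Cfsg.Agent.S3858
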