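import Mathlib
import Cfsg.Statements.S3859
import Cfsg.Agent.S3858
-- import your own Cfsg.Agent.* helpers here

set_option autoImplicit false
open Cfsg

namespace Cfsg.Agent.S3859

/-- Let G be a finite group with a normal non-abelian simple subgroup T whose centralizer is trivial (G almost simple with socle T), r a prime and R a Sylow r-subgroup of G meeting T nontrivially. If R lies in exactly one maximal subgroup of G, then G/T is an r-group. -/
theorem result {G : Type*} [Group G] [Finite G] (T : Subgroup G) [T.Normal] (hT : IsSimpleGroup T) (hna : ¬ IsMulCommutative T)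
    (hC : Subgroup.centralizer (T : Set G) = ⊥) {r : ℕ} [Fact r.Prime] (R : Sylow r G) (hR0 : (R : Subgroup G) ⊓ T ≠ ⊥)
    (huniq : ∃! M : Subgroup G, IsCoatom M ∧ (R : Subgroup G) ≤ M) : IsPGroup r (G ⧸ T) := by
  classical
  obtain ⟨M, ⟨hM, hRM⟩, huni⟩ := huniq
  have htop : (R : Subgroup G) ⊔ T = ⊤ := by
    by_contra hne
    obtain ⟨M', hM', hle⟩ := (eq_top_or_exists_le_coatom _).resolve_left hne
    have hTM : T ≤ M := (le_sup_right.trans hle).trans (huni M' ⟨hM', le_sup_left.trans hle⟩).le
    have hi : ¬ r ∣ ((R : Subgroup G).subgroupOf T).index := by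
      change ¬ r ∣ (R : Subgroup G).relIndex T
      intro hd
      rw [← Subgroup.inf_relIndex_right] at hd
      have e1 := Subgroup.relIndex_mul_index (inf_le_left : (R : Subgroup G) ⊓ T ≤ R)
      have e2 := Subgroup.relIndex_mul_index (inf_le_right : (R : Subgroup G) ⊓ T ≤ T)
      rw [Subgroup.inf_relIndex_left] at e1
      have e3 := Subgroup.relIndex_mul_index (le_sup_right : T ≤ (R : Subgroup G) ⊔ T)
      rw [Subgroup.relIndex_sup_right] at e3
      have hne : T.relIndex (R : Subgroup G) ≠ 0 := Subgroup.index_ne_zero_of_finite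
      have : (R : Subgroup G).index = ((R : Subgroup G) ⊓ T).relIndex T * ((R : Subgroup G) ⊔ T).index := by
        refine mul_left_cancel₀ hne ?_
        rw [e1, ← e2, ← e3]
        ring
      exact R.not_dvd_index (this ▸ hd.mul_right _)
    let Q : Sylow r T := (R.isPGroup'.comap_subtype).toSylow hi
    have hQ : (Q : Subgroup T).map T.subtype = (R : Subgroup G) ⊓ T := Subgroup.subgroupOf_map_subtype _ _
    have hfr := Q.normalizer_sup_eq_top
    rw [hQ] at hfr
    have hnn : Subgroup.normalizer (((R : Subgroup G) ⊓ T : Subgroup G) : Set G) ≠ ⊤ := by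
      intro h
      have hn := Subgroup.normalizer_eq_top_iff.mp h
      rcases hT.eq_bot_or_eq_top_of_normal _ (Subgroup.Normal.subgroupOf hn T) with hb | ht
      · exact hR0 (by simpa [Subgroup.subgroupOf_eq_bot, disjoint_iff] using hb)
      · have hTR : T ≤ (R : Subgroup G) := (Subgroup.subgroupOf_eq_top.mp ht).trans inf_le_left
        exact Cfsg.Agent.S3858.not_comm T hT hna R hTR
    obtain ⟨M'', hM'', hle''⟩ := (eq_top_or_exists_le_coatom _).resolve_left hnn
    have hRN : (R : Subgroup G) ≤ Subgroup.normalizer (((R : Subgroup G) ⊓ T : Subgroup G) : Set G) := by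
      intro x hx
      rw [Subgroup.mem_normalizer_iff]
      intro y
      have hT' : y ∈ T ↔ x * y * x⁻¹ ∈ T := by
        constructor
        · exact fun h => Subgroup.Normal.conj_mem inferInstance y h x
        · intro h
          simpa [mul_assoc] using Subgroup.Normal.conj_mem (inferInstance : T.Normal) _ h x⁻¹
      have hR' : y ∈ (R : Subgroup G) ↔ x * y * x⁻¹ ∈ (R : Subgroup G) := by
        rw [Subgroup.mul_mem_cancel_right _ (inv_mem hx), Subgroup.mul_mem_cancel_left _ hx]
      rw [Subgroup.mem_inf, Subgroup.mem_inf, hT', hR']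
    have : M'' = M := huni M'' ⟨hM'', hRN.trans hle''⟩
    exact hM.1 (top_le_iff.mp (hfr.symm.le.trans (sup_le (hle''.trans this.le) hTM)))
  intro x
  obtain ⟨g, rfl⟩ := QuotientGroup.mk'_surjective T x
  have hg : g ∈ ((R : Subgroup G) ⊔ T : Subgroup G) := htop ▸ Subgroup.mem_top g
  obtain ⟨a, ha, b, hb, rfl⟩ := Subgroup.mem_sup_of_normal_right.mp hg
  obtain ⟨k, hk⟩ := R.isPGroup' ⟨a, ha⟩
  refine ⟨k, ?_⟩
  have : (QuotientGroup.mk' T) (a * b) = QuotientGroup.mk' T a := by
    rw [map_mul, show QuotientGroup.mk' T b = 1 from (QuotientGroup.eq_one_iff b).mpr hb, mul_one]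
  rw [this, ← map_pow, show a ^ r ^ k = 1 from congrArg Subtype.val hk, map_one]

end Cfsg.Agent.S3859
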