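import Cfsg.Statements.S3862
import Cfsg.Agent.Lib.TransferAlperin

set_option autoImplicit false
open Cfsg

namespace Cfsg.Agent.S3862

/-- If every 2-element of the finite group G that is conjugate to its inverse lies in the centre of G, then G has a normal 2-complement. -/
theorem result {G : Type*} [Group G] [Finite G] (h : ∀ x : G, (∃ j : ℕ, orderOf x = 2 ^ j) → IsConj x x⁻¹ → x ∈ Subgroup.center G) : Cfsg.HasNormalPComplement 2 G := by
  obtain ⟨P⟩ : Nonempty (Sylow 2 G) := inferInstance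
  rw [TransferAlperin.hasNormalPComplement_iff_centralizer P]
  intro Q hQ a ha hodd
  rw [Subgroup.mem_centralizer_iff]
  suffices ∀ (n : ℕ) (x : G), x ∈ Q → orderOf x = n → a * x * a⁻¹ = x from
    fun x hx => by
      have := this _ x hx rfl
      exact (mul_inv_eq_iff_eq_mul.mp this).symm
  intro n
  induction n using Nat.strong_induction_on with
  | _ n ih =>
    intro x hx hn
    rcases eq_or_ne x 1 with rfl | hx1
    · group
    obtain ⟨k, hk⟩ := IsPGroup.iff_orderOf.mp (P.isPGroup'.to_le hQ) ⟨x, hx⟩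
    rw [Subgroup.orderOf_mk] at hk
    have hk0 : k ≠ 0 := by
      rintro rfl
      exact hx1 (orderOf_eq_one_iff.mp hk)
    have hsq : a * (x ^ 2) * a⁻¹ = x ^ 2 := by
      refine ih (orderOf (x ^ 2)) ?_ _ (pow_mem hx 2) rfl
      rw [orderOf_pow' x two_ne_zero, ← hn, hk, Nat.gcd_eq_right (dvd_pow_self 2 hk0)]
      exact Nat.div_lt_self (pow_pos two_pos k) one_lt_two
    set w := x⁻¹ * (a * x * a⁻¹) with hw
    have hwQ : w ∈ Q := mul_mem (inv_mem hx) ((Subgroup.mem_normalizer_iff.mp ha x).mp hx)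
    have hreal : x⁻¹ * w * x = w⁻¹ := by
      apply eq_inv_of_mul_eq_one_left
      calc x⁻¹ * w * x * w = (x ^ 2)⁻¹ * (a * x * a⁻¹) * (a * x * a⁻¹) := by
              rw [hw, pow_two]; group
        _ = (x ^ 2)⁻¹ * (a * x ^ 2 * a⁻¹) := by rw [pow_two]; group
        _ = 1 := by rw [hsq, inv_mul_cancel]
    obtain ⟨j, hj⟩ := IsPGroup.iff_orderOf.mp (P.isPGroup'.to_le hQ) ⟨w, hwQ⟩
    rw [Subgroup.orderOf_mk] at hj
    have hc := h w ⟨j, hj⟩ (isConj_iff.mpr ⟨x⁻¹, by rw [inv_inv]; exact hreal⟩)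
    have hiter : ∀ m : ℕ, a ^ m * x * (a ^ m)⁻¹ = x * w ^ m := by
      intro m
      induction m with
      | zero => simp
      | succ m ihm =>
        calc a ^ (m + 1) * x * (a ^ (m + 1))⁻¹ = a * (a ^ m * x * (a ^ m)⁻¹) * a⁻¹ := by
              rw [pow_succ']; group
          _ = a * x * (w ^ m * a⁻¹) := by rw [ihm]; group
          _ = a * x * (a⁻¹ * w ^ m) := by
              rw [Subgroup.mem_center_iff.mp (pow_mem hc m) a⁻¹]
          _ = a * x * a⁻¹ * w ^ m := by group
          _ = x * w * w ^ m := by rw [show a * x * a⁻¹ = x * w by rw [hw]; group]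
          _ = x * w ^ (m + 1) := by rw [pow_succ', mul_assoc]
    have h1 := hiter (orderOf a)
    rw [pow_orderOf_eq_one, one_mul, inv_one, mul_one, left_eq_mul] at h1
    have hw1 : w = 1 := by
      rw [← orderOf_eq_one_iff]
      have hcop : Nat.Coprime (orderOf a) (orderOf w) := hj ▸ hodd.pow_right j
      exact Nat.Coprime.eq_one_of_dvd hcop.symm (orderOf_dvd_of_pow_eq_one h1)
    exact (inv_mul_eq_one.mp hw1).symm

end Cfsg.Agent.S3862
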