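import Mathlib
import Cfsg.Agent.Lib.TransferThompson
import Cfsg.Agent.Lib.TransferPResidual
import Cfsg.Statements.S3864
-- import your own Cfsg.Agent.* helpers here

set_option autoImplicit false
open Cfsg

namespace Cfsg.Agent.S3864

variable {G : Type*} [Group G] [Finite G]

open DihedralGroup in
/-- The three kinds of involutions of a dihedral `2`-group. -/
theorem dihedral_classes {k : ℕ} (d : DihedralGroup (2 ^ (k + 2))) (hd : orderOf d = 2) :
    d = r ((2 ^ (k + 1) : ℕ) : ZMod (2 ^ (k + 2))) ∨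
      ∃ g, g * d * g⁻¹ = sr 0 ∨ g * d * g⁻¹ = sr 1 := by
  cases d with
  | r i =>
    left
    congr 1
    have h2 : (r i : DihedralGroup (2 ^ (k + 2))) ^ 2 = 1 := orderOf_dvd_iff_pow_eq_one.mp (dvd_of_eq hd)
    rw [pow_two, r_mul_r, one_def, DihedralGroup.r.injEq] at h2
    have hi0 : i ≠ 0 := by
      rintro rfl
      rw [← one_def, orderOf_one] at hd
      omega
    have hlt := ZMod.val_lt i
    have hpos : 0 < i.val := Nat.pos_of_ne_zero fun e => hi0 ((ZMod.val_eq_zero i).mp e)
    have hdvd : 2 ^ (k + 2) ∣ i.val + i.val := by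
      refine (ZMod.natCast_eq_zero_iff _ _).mp ?_
      simpa using h2
    have hpw : 2 ^ (k + 2) = 2 * 2 ^ (k + 1) := by rw [pow_succ']
    obtain ⟨c, hc⟩ := hdvd
    have hval : i.val = 2 ^ (k + 1) := by
      rcases Nat.lt_or_ge c 2 with hc2 | hc2
      · interval_cases c <;> omega
      · have := Nat.mul_le_mul_left (2 ^ (k + 2)) hc2
        omega
    rw [← hval, ZMod.natCast_zmod_val]
  | sr i =>
    right
    obtain ⟨t, ht⟩ := Nat.even_or_odd' i.val
    refine ⟨r (t : ZMod (2 ^ (k + 2))), ?_⟩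
    rw [inv_r, r_mul_sr, sr_mul_r]
    have hi : i = ((i.val : ℕ) : ZMod (2 ^ (k + 2))) := (ZMod.natCast_zmod_val i).symm
    rcases ht with ht | ht <;> rw [ht] at hi
    · left; congr 1; rw [hi]; push_cast; ring
    · right; congr 1; rw [hi]; push_cast; ring

open DihedralGroup in
/-- A subgroup missing all the reflections consists of rotations. -/
theorem mem_rotations {m : ℕ} [NeZero m] {d : DihedralGroup m} (h : ∀ i, d ≠ sr i) :
    d ∈ Subgroup.zpowers (r 1 : DihedralGroup m) := by
  cases d with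
  | r i => exact ⟨(i.val : ℤ), by simp [r_one_pow]⟩
  | sr i => exact absurd rfl (h i)

/-- A group with a normal subgroup of `2`-power index whose Sylow `2`-subgroups are cyclic has a normal `2`-complement. -/
theorem hasNormalPComplement_of_cyclic (P : Sylow 2 G) (M : Subgroup G) [M.Normal] (h2 : IsPGroup 2 (G ⧸ M))
    (C : Subgroup G) [IsCyclic C] (hC : (P : Subgroup G) ⊓ M ≤ C) : Cfsg.HasNormalPComplement 2 G := by
  haveI : Fact (Nat.Prime 2) := ⟨Nat.prime_two⟩
  have hM : Cfsg.HasNormalPComplement 2 M := by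
    by_cases h : 2 ∣ Nat.card M
    · obtain ⟨R⟩ : Nonempty (Sylow 2 M) := inferInstance
      obtain ⟨T, hT⟩ := (R.isPGroup'.map M.subtype).exists_le_sylow
      obtain ⟨g, hg⟩ := MulAction.exists_smul_eq G T P
      have hR : IsCyclic (R : Subgroup M) := by
        have hmem : ∀ x : (R : Subgroup M), g * ((x : M) : G) * g⁻¹ ∈ C := fun x => hC
          ⟨by rw [← hg]; exact ⟨_, hT (Subgroup.mem_map_of_mem _ x.2), rfl⟩,
            Subgroup.Normal.conj_mem inferInstance _ (x : M).2 g⟩
        refine isCyclic_of_injective (((MulAut.conj g).toMonoidHom.comp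
          (M.subtype.comp (R : Subgroup M).subtype)).codRestrict C hmem) ?_
        intro a b hab
        exact Subtype.ext (Subtype.ext ((MulAut.conj g).injective (congrArg Subtype.val hab)))
      exact ⟨R, _, inferInstance, IsCyclic.isComplement' ((Nat.minFac_eq_two_iff _).mpr h) hR⟩
    · exact TransferPResidual.hasNormalPComplement_of_not_dvd h
  rw [TransferPResidual.hasNormalPComplement_iff_not_dvd] at hM ⊢
  intro hd
  refine hM (hd.trans ?_)
  have h1 := TransferPResidual.map_pResidual_mono (p := 2)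
    (TransferPResidual.pResidual_le_of_isPGroup_quotient (N := M) h2)
  rw [TransferPResidual.pResidual_pResidual, ← MonoidHom.range_eq_map, Subgroup.range_subtype] at h1
  exact (Subgroup.card_dvd_of_le h1).trans
    (Subgroup.card_map_of_injective M.subtype_injective).dvd

/-- Let G be a finite group whose Sylow 2-subgroups are dihedral of order 2 ^ n with n ≥ 3, and count the conjugacy classes of involutions of G. Then exactly one of the following holds: there is one class of involutions and no normal subgroup of index 2; there are two classes of involutions, a normal subgroup of index 2 and none of index 4; there are three classes of involutions and G has a normal 2-complement. -/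
theorem result {G : Type*} [Group G] [Finite G] (P : Sylow 2 G) (n : ℕ) (hn : 3 ≤ n) (hdih : Nonempty (↥(P : Subgroup G) ≃* DihedralGroup (2 ^ (n - 1)))) : (Nat.card {C : ConjClasses G // ∃ g : G, ConjClasses.mk g = C ∧ orderOf g = 2} = 1 ∧ ∀ N : Subgroup G, N.Normal → N.index ≠ 2) ∨ (Nat.card {C : ConjClasses G // ∃ g : G, ConjClasses.mk g = C ∧ orderOf g = 2} = 2 ∧ (∃ N : Subgroup G, N.Normal ∧ N.index = 2) ∧ ∀ N : Subgroup G, N.Normal → N.index ≠ 4) ∨ (Nat.card {C : ConjClasses G // ∃ g : G, ConjClasses.mk g = C ∧ orderOf g = 2} = 3 ∧ Cfsg.HasNormalPComplement 2 G) := by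
  classical
  haveI : Fact (Nat.Prime 2) := ⟨Nat.prime_two⟩
  obtain ⟨k, rfl⟩ : ∃ k, n = k + 3 := ⟨n - 3, by omega⟩
  rw [show k + 3 - 1 = k + 2 by omega] at hdih
  obtain ⟨e⟩ := hdih
  haveI : NeZero (2 ^ (k + 2)) := ⟨pow_ne_zero _ two_ne_zero⟩
  let φ : DihedralGroup (2 ^ (k + 2)) →* G := (P : Subgroup G).subtype.comp e.symm.toMonoidHom
  have hφ : Function.Injective φ := (P : Subgroup G).subtype_injective.comp e.symm.injective
  have hφP : ∀ d, φ d ∈ (P : Subgroup G) := fun d => (e.symm d).2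
  have hφsurj : ∀ x ∈ (P : Subgroup G), ∃ d, φ d = x := fun x hx =>
    ⟨e ⟨x, hx⟩, by simp [φ]⟩
  set dz : DihedralGroup (2 ^ (k + 2)) := DihedralGroup.r ((2 ^ (k + 1) : ℕ) : ZMod (2 ^ (k + 2))) with hdz
  set a := φ (DihedralGroup.sr 0) with ha
  set b := φ (DihedralGroup.sr 1) with hb
  set z := φ dz with hz
  have hord : ∀ d, orderOf (φ d) = orderOf d := orderOf_injective φ hφ
  have hdz2 : orderOf dz = 2 := by
    rw [hdz, DihedralGroup.orderOf_r, ZMod.val_natCast, Nat.mod_eq_of_lt (Nat.pow_lt_pow_right one_lt_two (by omega)),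
      Nat.gcd_eq_right (pow_dvd_pow 2 (by omega)), Nat.pow_div (by omega) two_pos, show k + 2 - (k + 1) = 1 by omega, pow_one]
  have hzsq : dz = DihedralGroup.r ((2 ^ k : ℕ) : ZMod (2 ^ (k + 2))) ^ 2 := by
    rw [hdz, pow_two, DihedralGroup.r_mul_r, ← Nat.cast_add]
    congr 2
    rw [pow_succ', two_mul]
  -- all involutions are conjugate to one of the three
  have hinv : ∀ g : G, orderOf g = 2 → IsConj z g ∨ IsConj a g ∨ IsConj b g := by
    intro g hg
    obtain ⟨R, hR⟩ := (IsPGroup.of_card (n := 1) (by rw [Nat.card_zpowers, hg, pow_one]) :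
      IsPGroup 2 (Subgroup.zpowers g)).exists_le_sylow
    obtain ⟨w, hw⟩ := MulAction.exists_smul_eq G R P
    obtain ⟨d, hd⟩ := hφsurj (w * g * w⁻¹) (by rw [← hw]; exact ⟨g, hR (Subgroup.mem_zpowers g), rfl⟩)
    have hgd : IsConj (φ d) g := isConj_iff.mpr ⟨w⁻¹, by rw [hd]; group⟩
    have hd2 : orderOf d = 2 := by rw [← hord, hd, ← hg]; exact MulEquiv.orderOf_eq (MulAut.conj w) g
    rcases dihedral_classes d hd2 with h | ⟨u, h | h⟩
    · exact Or.inl (by rwa [h] at hgd)
    · exact Or.inr (Or.inl ((MonoidHom.map_isConj φ (isConj_iff.mpr ⟨u, h⟩)).symm.trans hgd))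
    · exact Or.inr (Or.inr ((MonoidHom.map_isConj φ (isConj_iff.mpr ⟨u, h⟩)).symm.trans hgd))
  set S : Set (ConjClasses G) := {ConjClasses.mk z, ConjClasses.mk a, ConjClasses.mk b} with hS
  have hcount : Nat.card {C : ConjClasses G // ∃ g : G, ConjClasses.mk g = C ∧ orderOf g = 2} = S.ncard := by
    rw [← Nat.card_coe_set_eq]
    refine Nat.card_congr (Equiv.subtypeEquivRight fun C => ⟨?_, ?_⟩)
    · rintro ⟨g, rfl, hg⟩
      rcases hinv g hg with h | h | h
      · exact Or.inl (ConjClasses.mk_eq_mk_iff_isConj.mpr h.symm)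
      · exact Or.inr (Or.inl (ConjClasses.mk_eq_mk_iff_isConj.mpr h.symm))
      · exact Or.inr (Or.inr (ConjClasses.mk_eq_mk_iff_isConj.mpr h.symm))
    · rintro (rfl | rfl | rfl)
      · exact ⟨z, rfl, by rw [hz, hord, hdz2]⟩
      · exact ⟨a, rfl, by rw [ha, hord, DihedralGroup.orderOf_sr]⟩
      · exact ⟨b, rfl, by rw [hb, hord, DihedralGroup.orderOf_sr]⟩
  -- generation of `P` and images in normal subgroups of small index
  have hgen : ∀ d : DihedralGroup (2 ^ (k + 2)),
      d ∈ Subgroup.closure ({DihedralGroup.sr 0, DihedralGroup.sr 1} : Set (DihedralGroup (2 ^ (k + 2)))) := by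
    set K := Subgroup.closure ({DihedralGroup.sr 0, DihedralGroup.sr 1} : Set (DihedralGroup (2 ^ (k + 2)))) with hK
    have h0 : (DihedralGroup.sr 0 : DihedralGroup (2 ^ (k + 2))) ∈ K := Subgroup.subset_closure (Or.inl rfl)
    have h1 : (DihedralGroup.r 1 : DihedralGroup (2 ^ (k + 2))) ∈ K := by
      have := mul_mem h0 (Subgroup.subset_closure (k := ({DihedralGroup.sr 0, DihedralGroup.sr 1} :
        Set (DihedralGroup (2 ^ (k + 2))))) (Or.inr rfl))
      rwa [DihedralGroup.sr_mul_sr, sub_zero] at this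
    have hr : ∀ i, (DihedralGroup.r i : DihedralGroup (2 ^ (k + 2))) ∈ K := fun i => by
      rw [← ZMod.natCast_zmod_val i, ← DihedralGroup.r_one_pow]
      exact pow_mem h1 _
    rintro (i | i)
    · exact hr i
    · simpa using mul_mem h0 (hr i)
  have hquot : ∀ N : Subgroup G, N.Normal → (N.index = 2 ∨ N.index = 4) →
      z ∈ N ∧ (N.index = 2 → a ∉ N ∨ b ∉ N) ∧ (N.index = 4 → a ∉ N ∧ b ∉ N ∧ a * b ∉ N) ∧
      ∀ g h : G, IsConj g h → (g : G ⧸ N) = h := by
    intro N hN hi
    obtain ⟨j, hj⟩ : ∃ j, N.index = 2 ^ j := by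
      rcases hi with h | h
      exacts [⟨1, h⟩, ⟨2, h⟩]
    have hpg : IsPGroup 2 (G ⧸ N) := IsPGroup.of_card (n := j) hj
    have hcomm : ∀ u v : G ⧸ N, u * v = v * u := by
      rcases hi with h | h
      · haveI : IsCyclic (G ⧸ N) := isCyclic_of_prime_card (p := 2) h
        exact fun u v => IsMulCommutative.is_comm.comm u v
      · exact IsPGroup.commutative_of_card_eq_prime_sq (p := 2) (by rw [← Subgroup.index_eq_card, h]; norm_num)
    let ψ : DihedralGroup (2 ^ (k + 2)) →* G ⧸ N := (QuotientGroup.mk' N).comp φ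
    have hψ : Function.Surjective ψ := by
      intro q
      have hs := QuotientGroup.mk'_surjective N
      have htop : (P : Subgroup G).map (QuotientGroup.mk' N) = ⊤ := by
        rw [← Sylow.coe_mapSurjective hs P]
        exact ((P.mapSurjective hs).is_maximal' (hpg.to_subgroup ⊤) le_top).symm
      obtain ⟨x, hx, rfl⟩ : q ∈ (P : Subgroup G).map (QuotientGroup.mk' N) := htop ▸ Subgroup.mem_top q
      obtain ⟨d, rfl⟩ := hφsurj x hx
      exact ⟨d, rfl⟩
    have hsq : ∀ i, ψ (DihedralGroup.sr i) * ψ (DihedralGroup.sr i) = 1 := fun i => by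
      rw [← map_mul, DihedralGroup.sr_mul_sr, sub_self, DihedralGroup.r_zero, map_one]
    have hexp : ∀ q : G ⧸ N, q ^ 2 = 1 := by
      intro q
      obtain ⟨d, rfl⟩ := hψ q
      induction hgen d using Subgroup.closure_induction with
      | mem x hx => rcases hx with rfl | rfl <;> rw [pow_two, hsq]
      | one => simp
      | mul x y _ _ h1 h2 => rw [map_mul, Commute.mul_pow (hcomm (ψ x) (ψ y)), h1, h2, one_mul]
      | inv x _ h1 => rw [map_inv, inv_pow, h1, inv_one]
    have hab : ∀ u : G ⧸ N, u ∈ Subgroup.closure ({(a : G ⧸ N), (b : G ⧸ N)} : Set (G ⧸ N)) := by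
      intro u
      obtain ⟨d, rfl⟩ := hψ u
      have := Subgroup.mem_map_of_mem ψ (hgen d)
      rw [MonoidHom.map_closure, Set.image_pair] at this
      exact this
    refine ⟨?_, fun h2 => ?_, fun h4 => ?_, fun g h hgh => ?_⟩
    · rw [← QuotientGroup.eq_one_iff]
      show ψ dz = 1
      rw [hzsq, map_pow, hexp]
    · by_contra hc
      push Not at hc
      have hs : Subsingleton (G ⧸ N) := by
        refine ⟨fun u v => ?_⟩
        have hu := hab u
        have hv := hab v
        rw [(QuotientGroup.eq_one_iff a).mpr hc.1, (QuotientGroup.eq_one_iff b).mpr hc.2, Set.pair_eq_singleton,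
          Subgroup.closure_singleton_one, Subgroup.mem_bot] at hu hv
        rw [hu, hv]
      haveI := hs
      have := Nat.card_of_subsingleton (1 : G ⧸ N)
      rw [← Subgroup.index_eq_card, h2] at this
      omega
    · have key : ∀ w : G ⧸ N, ¬ ∀ u : G ⧸ N, u ∈ Subgroup.zpowers w := by
        intro w hw
        have h1 := orderOf_eq_card_of_forall_mem_zpowers hw
        have h2 := orderOf_dvd_of_pow_eq_one (hexp w)
        rw [h1, ← Subgroup.index_eq_card, h4] at h2
        norm_num at h2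
      refine ⟨fun hm => key (b : G ⧸ N) fun u => ?_, fun hm => key (a : G ⧸ N) fun u => ?_,
        fun hm => key (a : G ⧸ N) fun u => ?_⟩
      all_goals refine (Subgroup.closure_le _).mpr ?_ (hab u); rintro x (rfl | rfl)
      · rw [(QuotientGroup.eq_one_iff a).mpr hm]; exact one_mem _
      · exact Subgroup.mem_zpowers _
      · exact Subgroup.mem_zpowers _
      · rw [(QuotientGroup.eq_one_iff b).mpr hm]; exact one_mem _
      · exact Subgroup.mem_zpowers _
      · have h1 : (a : G ⧸ N) * b = 1 := (QuotientGroup.eq_one_iff _).mpr hm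
        rw [eq_inv_of_mul_eq_one_right h1]
        exact inv_mem (Subgroup.mem_zpowers _)
    · obtain ⟨w, rfl⟩ := isConj_iff.mp hgh
      rw [QuotientGroup.mk_mul, QuotientGroup.mk_mul, hcomm (w : G ⧸ N) (g : G ⧸ N), mul_assoc, QuotientGroup.mk_inv,
        mul_inv_cancel, mul_one]
  -- transfer
  let C : Subgroup (DihedralGroup (2 ^ (k + 2))) := Subgroup.zpowers (DihedralGroup.r 1)
  have htrans : ∀ i, ¬ IsConj z (φ (DihedralGroup.sr i)) →
      ∃ M : Subgroup G, M.Normal ∧ M.index = 2 ∧ φ (DihedralGroup.sr i) ∉ M := by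
    intro i hi
    have hCi : (C.map φ).relIndex (P : Subgroup G) = 2 := by
      have hP : (P : Subgroup G) = (⊤ : Subgroup (DihedralGroup (2 ^ (k + 2)))).map φ := by
        ext x
        exact ⟨fun hx => (hφsurj x hx).imp fun d hd => ⟨Subgroup.mem_top d, hd⟩,
          by rintro ⟨d, -, rfl⟩; exact hφP d⟩
      rw [hP, Subgroup.relIndex_map_map_of_injective _ _ hφ, Subgroup.relIndex_top_right]
      have h1 := C.card_mul_index
      rw [Nat.card_zpowers, DihedralGroup.orderOf_r_one, DihedralGroup.nat_card, mul_comm 2] at h1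
      exact mul_left_cancel₀ (pow_ne_zero _ two_ne_zero) h1
    refine TransferThompson.thompson_transfer P (C.map φ) (by rintro _ ⟨d, -, rfl⟩; exact hφP d) hCi
      (by rw [hord, DihedralGroup.orderOf_sr]) (hφP _) fun g hg => hi ?_
    obtain ⟨d, hd, hde⟩ := hg
    have hd2 : orderOf d = 2 := by
      rw [← hord, hde]
      exact (MulEquiv.orderOf_eq (MulAut.conj g) _).trans ((hord _).trans (DihedralGroup.orderOf_sr i))
    have hdc : d = dz := by
      rcases dihedral_classes d hd2 with h | ⟨u, hu⟩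
      · exact h
      · exfalso
        obtain ⟨j, rfl⟩ := hd
        simp only [DihedralGroup.r_one_zpow] at hu
        cases u <;> simp at hu
    rw [hdc] at hde
    exact isConj_iff.mpr ⟨g⁻¹, by rw [hz, hde]; group⟩
  have hz' : ∀ N : Subgroup G, N.Normal → N.index = 2 → ∀ g, IsConj z g → g ∈ N := by
    intro N hN hi g hg
    obtain ⟨hzN, -, -, hc⟩ := hquot N hN (Or.inl hi)
    rw [← QuotientGroup.eq_one_iff, ← hc _ _ hg, QuotientGroup.eq_one_iff]
    exact hzN
  have h4 : (IsConj z a ∨ IsConj z b ∨ IsConj a b) → ∀ N : Subgroup G, N.Normal → N.index ≠ 4 := by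
    intro hor N hN hi
    obtain ⟨hzN, -, h4, hc⟩ := hquot N hN (Or.inr hi)
    obtain ⟨haN, hbN, habN⟩ := h4 hi
    rcases hor with h | h | h
    · exact haN ((QuotientGroup.eq_one_iff a).mp ((hc _ _ h).symm.trans ((QuotientGroup.eq_one_iff z).mpr hzN)))
    · exact hbN ((QuotientGroup.eq_one_iff b).mp ((hc _ _ h).symm.trans ((QuotientGroup.eq_one_iff z).mpr hzN)))
    · refine habN ((QuotientGroup.eq_one_iff _).mp ?_)
      rw [QuotientGroup.mk_mul, ← hc _ _ h, ← QuotientGroup.mk_mul, ha, ← map_mul, DihedralGroup.sr_mul_sr,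
        sub_self, DihedralGroup.r_zero, map_one, QuotientGroup.mk_one]
  have hneq : ∀ {g h : G}, ¬ IsConj g h → ConjClasses.mk g ≠ ConjClasses.mk h := fun hn h =>
    hn (ConjClasses.mk_eq_mk_iff_isConj.mp h)
  rw [hcount]
  by_cases hone : IsConj z a ∧ IsConj z b
  · refine Or.inl ⟨?_, fun N hN hi => ?_⟩
    · rw [hS, ← ConjClasses.mk_eq_mk_iff_isConj.mpr hone.1, ← ConjClasses.mk_eq_mk_iff_isConj.mpr hone.2]
      simp
    · rcases (hquot N hN (Or.inl hi)).2.1 hi with h | h
      · exact h (hz' N hN hi a hone.1)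
      · exact h (hz' N hN hi b hone.2)
  have hex : ∃ N : Subgroup G, N.Normal ∧ N.index = 2 := by
    rcases not_and_or.mp hone with h | h
    · obtain ⟨M, h1, h2, -⟩ := htrans 0 h
      exact ⟨M, h1, h2⟩
    · obtain ⟨M, h1, h2, -⟩ := htrans 1 h
      exact ⟨M, h1, h2⟩
  by_cases htwo : IsConj z a ∨ IsConj z b ∨ IsConj a b
  · refine Or.inr (Or.inl ⟨?_, hex, h4 htwo⟩)
    rw [hS]
    rcases htwo with h | h | h
    · have hn : ¬ IsConj z b := fun hb' => hone ⟨h, hb'⟩
      rw [← ConjClasses.mk_eq_mk_iff_isConj.mpr h, Set.insert_eq_of_mem (Set.mem_insert _ _), Set.ncard_pair (hneq hn)]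
    · have hn : ¬ IsConj z a := fun ha' => hone ⟨ha', h⟩
      rw [← ConjClasses.mk_eq_mk_iff_isConj.mpr h, Set.pair_comm, Set.insert_eq_of_mem (Set.mem_insert _ _),
        Set.ncard_pair (hneq hn)]
    · have hn : ¬ IsConj z a := fun ha' => hone ⟨ha', ha'.trans h⟩
      rw [← ConjClasses.mk_eq_mk_iff_isConj.mpr h, Set.pair_eq_singleton, Set.ncard_pair (hneq hn)]
  obtain ⟨hza, hzb, hnab⟩ := by simpa only [not_or] using htwo
  refine Or.inr (Or.inr ⟨?_, ?_⟩)
  · rw [hS, Set.ncard_insert_of_notMem (by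
      rintro (h | h)
      · exact hneq hza h
      · exact hneq hzb h), Set.ncard_pair (hneq hnab)]
  obtain ⟨M1, hM1, hM1i, haM1⟩ := htrans 0 hza
  obtain ⟨M2, hM2, hM2i, hbM2⟩ := htrans 1 hzb
  haveI := hM1
  haveI := hM2
  have hcyc : IsCyclic (C.map φ) :=
    (Subgroup.equivMapOfInjective C φ hφ).isCyclic.mp inferInstance
  haveI := hcyc
  have hrefl : ∀ i, IsConj a (φ (DihedralGroup.sr i)) ∨ IsConj b (φ (DihedralGroup.sr i)) := by
    intro i
    rcases dihedral_classes (DihedralGroup.sr i) (DihedralGroup.orderOf_sr i) with h | ⟨u, h | h⟩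
    · cases h
    · exact Or.inl (MonoidHom.map_isConj φ (isConj_iff.mpr ⟨u, h⟩)).symm
    · exact Or.inr (MonoidHom.map_isConj φ (isConj_iff.mpr ⟨u, h⟩)).symm
  have hnorm : ∀ {N : Subgroup G}, N.Normal → ∀ {g h : G}, IsConj g h → h ∈ N → g ∈ N := fun hN g h hgh hh => by
    obtain ⟨w, rfl⟩ := isConj_iff.mp hgh
    simpa [mul_assoc] using hN.conj_mem _ hh w⁻¹
  have hsmall : ∀ N : Subgroup G, N.Normal → a ∉ N → b ∉ N → (P : Subgroup G) ⊓ N ≤ C.map φ := by
    rintro N hN hNa hNb x ⟨hxP, hxN⟩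
    obtain ⟨d, rfl⟩ := hφsurj x hxP
    refine Subgroup.mem_map_of_mem φ (mem_rotations fun i hi => ?_)
    rw [hi] at hxN
    rcases hrefl i with h | h
    · exact hNa (hnorm hN h hxN)
    · exact hNb (hnorm hN h hxN)
  refine hasNormalPComplement_of_cyclic P (M1 ⊓ M2) ?_ (C.map φ)
    (hsmall _ inferInstance (fun h => haM1 h.1) fun h => hbM2 h.2)
  intro q
  obtain ⟨g, rfl⟩ := QuotientGroup.mk_surjective q
  refine ⟨1, ?_⟩
  rw [← QuotientGroup.mk_pow, QuotientGroup.eq_one_iff, pow_one]
  exact ⟨Subgroup.sq_mem_of_index_two hM1i g, Subgroup.sq_mem_of_index_two hM2i g⟩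

end Cfsg.Agent.S3864
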