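import Mathlib
import Cfsg.Statements.S3865
import Cfsg.Agent.Lib.Blackburn20
import Cfsg.Agent.Lib.TransferTate
import Cfsg.Agent.Lib.LocGroup56

/-!
Sylow subgroups of maximal class.

If no `x ∈ P` has centralizer with `p`-part `p ^ 2`, then every uniform element of `P` is conjugate
into `[P, P]` (descent through centralizers of the successive centres). Hence every proper normal
subgroup meets `P` inside `Φ(P)`; by Tate it is a `p`-group, and centralizer orders of conjugate
elements show that it is central.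
-/

set_option autoImplicit false
open Cfsg

namespace Cfsg.Agent.S3865

open Subgroup
open scoped commutatorElement
open PGroupsHallPetrescu (Gf Gf_antitone commutator_mem_Gf)
open Blackburn20 (IsUniform Ct)

universe u

section maxclass

variable {X : Type*} [Group X] [Finite X] {p : ℕ} [hp : Fact p.Prime]
variable {n : ℕ} (hX : Nat.card X = p ^ n) (hc : Group.nilpotencyClass X = n - 1)

include hX hc

theorem gf_last_eq_center (hn : 3 ≤ n) : Gf X (n - 1) = center X := by
  refine eq_of_le_of_card_ge (fun z hz => mem_center_iff.mpr fun g => ?_) ?_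
  · have h : ⁅z, g⁆ ∈ Gf X (n - 1 + 1) := commutator_mem_Gf hz (mem_top g)
    rw [S3806.gf_bot hX hc (by omega), mem_bot] at h
    exact (commutatorElement_eq_one_iff_mul_comm.mp h).symm
  · rw [S3806.card_gf hX hc hn (by omega) (by omega), (MaxClassTwo.center_of_maxClass hn hX hc).1,
      show n - (n - 1) = 1 by omega, pow_one]

theorem center_le_gf_two (hn : 3 ≤ n) : center X ≤ Gf X 2 :=
  gf_last_eq_center hX hc hn ▸ Gf_antitone (by omega)

theorem card_centralizer (hn : 3 ≤ n) {s : X} (hs : IsUniform n s) :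
    Nat.card (centralizer ({s} : Set X)) = p ^ 2 := by
  rcases hn.lt_or_eq with h4 | rfl
  · exact Blackburn20.card_centralizer_uniform hX hc h4 hs
  obtain ⟨k, hk⟩ := IsPGroup.iff_card.mp
    ((IsPGroup.of_card hX).to_subgroup (centralizer ({s} : Set X)))
  have hlt : center X < centralizer ({s} : Set X) := lt_of_le_of_ne
    (fun z hz => mem_centralizer_singleton_iff.mpr (mem_center_iff.mp hz s).symm)
    fun e => hs.1 (center_le_gf_two hX hc hn (e.ge (mem_centralizer_singleton_iff.mpr rfl)))
  have h1 := lt_of_le_of_ne (card_le_of_le hlt.le) fun e => hlt.ne (eq_of_le_of_card_ge hlt.le e.ge)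
  rw [(MaxClassTwo.center_of_maxClass hn hX hc).1, hk] at h1
  have h1' : p ^ 1 < p ^ k := by rwa [pow_one]
  have h2 : centralizer ({s} : Set X) ≠ ⊤ := fun e => hs.1 (center_le_gf_two hX hc hn
    (mem_center_iff.mpr fun g => mem_centralizer_singleton_iff.mp (e.ge (mem_top g))))
  have h3 : p ^ k < p ^ 3 := by
    have := lt_of_le_of_ne (card_le_card_group (centralizer ({s} : Set X)))
      fun e => h2 (eq_top_of_card_eq _ e)
    rwa [hk, hX] at this
  have := (Nat.pow_lt_pow_iff_right hp.out.one_lt).mp h1'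
  have := (Nat.pow_lt_pow_iff_right hp.out.one_lt).mp h3
  rw [hk, show k = 2 by omega]

/-- A uniform element commutes with no element of `Gf 2` outside the centre. -/
theorem centralizer_inf_gf_two (hn : 3 ≤ n) {s : X} (hs : IsUniform n s) :
    centralizer ({s} : Set X) ⊓ Gf X 2 ≤ center X := by
  have hle : center X ≤ centralizer ({s} : Set X) ⊓ Gf X 2 := le_inf
    (fun z hz => mem_centralizer_singleton_iff.mpr (mem_center_iff.mp hz s).symm)
    (center_le_gf_two hX hc hn)
  have hlt : centralizer ({s} : Set X) ⊓ Gf X 2 < centralizer ({s} : Set X) :=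
    lt_of_le_of_ne inf_le_left fun e =>
      hs.1 (inf_eq_left.mp e (mem_centralizer_singleton_iff.mpr rfl))
  obtain ⟨k, hk⟩ := IsPGroup.iff_card.mp
    ((IsPGroup.of_card hX).to_subgroup (centralizer ({s} : Set X) ⊓ Gf X 2))
  have h1 := lt_of_le_of_ne (card_le_of_le hlt.le) fun e => hlt.ne (eq_of_le_of_card_ge hlt.le e.ge)
  rw [hk, card_centralizer hX hc hn hs] at h1
  have hk2 := (Nat.pow_lt_pow_iff_right hp.out.one_lt).mp h1
  refine (eq_of_le_of_card_ge hle ?_).ge
  rw [hk, (MaxClassTwo.center_of_maxClass hn hX hc).1]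
  calc p ^ k ≤ p ^ 1 := Nat.pow_le_pow_right hp.out.pos (by omega)
    _ = p := pow_one p

/-- Uniform elements exist outside any proper subgroup containing `Gf 2`. -/
theorem exists_uniform_notMem (hn : 3 ≤ n) (D : Subgroup X) (hD : D ≠ ⊤) (h2D : Gf X 2 ≤ D) :
    ∃ s : X, IsUniform n s ∧ s ∉ D := by
  obtain ⟨a, ha⟩ : ∃ a, a ∉ D := by
    by_contra h
    push Not at h
    exact hD (eq_top_iff.mpr fun x _ => h x)
  rcases hn.lt_or_eq with h4 | rfl
  swap
  · exact ⟨a, ⟨fun h => ha (h2D h), fun i h1 h2 => by omega⟩, ha⟩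
  by_cases hp2 : p ≠ 2
  · exact Blackburn20.exists_uniform hX hc hp2 h4 D hD h2D
  push Not at hp2
  subst p
  obtain ⟨C, hCc, hCi⟩ := MaxClassTwo.exists_cyclic_index_two n X hX (by omega) hc
  have hP : IsPGroup 2 X := IsPGroup.of_card hX
  have hCt : ∀ i, 2 ≤ i → i + 2 ≤ n → Ct X i = C := by
    intro i h1 h2
    have h2C : Gf X i ≤ C := (Gf_antitone h1).trans
      (((Subgroup.top_lowerCentralSeries_one (G := X)).le.trans
        (PGroupsBasic.commutator_le_frattini hP)).trans (TransferTate.frattini_le_of_index_prime hCi))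
    refine (eq_of_le_of_card_ge (fun w hw => Blackburn20.mem_Ct.mpr fun z hz => ?_) (le_of_eq ?_)).symm
    · rw [commutatorElement_eq_one_iff_mul_comm.mpr
        (PGroupsBasic.comm_of_isMulCommutative (inferInstance : IsMulCommutative C) (h2C hz) hw)]
      exact one_mem _
    · have e1 := card_mul_index C
      have e2 := card_mul_index (Ct X i)
      rw [hCi] at e1
      rw [Blackburn20.index_Ct hX hc h1 h2] at e2
      omega
  obtain ⟨b, hb⟩ : ∃ b, b ∉ C := by
    by_contra h
    push Not at h
    rw [show C = ⊤ from eq_top_iff.mpr fun x _ => h x, index_top] at hCi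
    omega
  obtain ⟨s, hsD, hsC⟩ : ∃ s, s ∉ D ∧ s ∉ C := by
    by_cases h1 : a ∈ C
    · by_cases h2 : b ∈ D
      · exact ⟨a * b, fun h => ha ((mul_mem_cancel_right h2).mp h),
          fun h => hb ((mul_mem_cancel_left h1).mp h)⟩
      · exact ⟨b, h2, hb⟩
    · exact ⟨a, ha, h1⟩
  exact ⟨s, ⟨fun h => hsD (h2D h), fun i h1 h2 h => hsC (hCt i h1 h2 ▸ h)⟩, hsD⟩

omit hc in
/-- Uniformity passes to the quotient by the centre. -/
theorem isUniform_map (hc : Group.nilpotencyClass X = n - 1) (hn : 3 ≤ n) {Y : Type*} [Group Y] [Finite Y]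
    {f : X →* Y} (hf : Function.Surjective f) (hker : f.ker = center X) {s : X}
    (hs : IsUniform n s) : IsUniform (n - 1) (f s) := by
  have hZ := gf_last_eq_center hX hc hn
  have back : ∀ (j : ℕ) (x : X), j ≤ n - 1 → f x ∈ Gf Y j → x ∈ Gf X j := by
    intro j x hj h
    rw [← Blackburn20.map_gf hf] at h
    obtain ⟨y, hy, e⟩ := h
    have hk : y⁻¹ * x ∈ Gf X j := by
      refine Gf_antitone hj ?_
      rw [hZ, ← hker, MonoidHom.mem_ker, map_mul, map_inv, e, inv_mul_cancel]
    simpa using mul_mem hy hk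
  refine ⟨fun h => hs.1 (back 2 s (by omega) h), fun i h1 h2 h => hs.2 i h1 (by omega) ?_⟩
  refine Blackburn20.mem_Ct.mpr fun z hz => back _ _ (by omega) ?_
  rw [map_commutatorElement]
  exact Blackburn20.mem_Ct.mp h _ (Blackburn20.map_gf hf i ▸ mem_map_of_mem f hz)

end maxclass

variable {G : Type*} [Group G]

/-- An element of a `p`-group normalizing a subgroup of order `p` centralizes it. -/
theorem conj_eq_self_of_mem [Finite G] {p : ℕ} [hp : Fact p.Prime] {T : Subgroup G}
    (hT : IsPGroup p T) {r z : G} (hr : r ∈ T) (hz : orderOf z = p)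
    (h : r * z * r⁻¹ ∈ zpowers z) : r * z * r⁻¹ = z := by
  obtain ⟨i, hi⟩ : ∃ i : ℕ, z ^ i = r * z * r⁻¹ := mem_powers_iff_mem_zpowers.mpr h
  have hm : ∀ m : ℕ, r ^ m * z * (r ^ m)⁻¹ = z ^ i ^ m := by
    intro m
    induction m with
    | zero => simp
    | succ m ih =>
      rw [pow_succ' r, show r * r ^ m * z * (r * r ^ m)⁻¹ = r * (r ^ m * z * (r ^ m)⁻¹) * r⁻¹ by group,
        ih, ← conj_pow, ← hi, ← pow_mul, pow_succ' i]
  obtain ⟨k, hk⟩ := hT ⟨r, hr⟩
  have hk' : r ^ p ^ k = 1 := by simpa using congrArg Subtype.val hk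
  have h1 := hm (p ^ k)
  rw [hk', one_mul, inv_one, mul_one] at h1
  have h2 : ((i ^ p ^ k : ℕ) : ZMod p) = ((1 : ℕ) : ZMod p) := by
    rw [ZMod.natCast_eq_natCast_iff]
    have := pow_eq_pow_iff_modEq.mp (h1.symm.trans (pow_one z).symm)
    rwa [hz] at this
  rw [Nat.cast_pow, ZMod.pow_card_pow, ZMod.natCast_eq_natCast_iff, ← hz] at h2
  rw [← hi, pow_eq_pow_iff_modEq.mpr h2, pow_one]

/-- Normalizers grow in a `p`-subgroup. -/
theorem exists_normalizing [Finite G] {p : ℕ} [hp : Fact p.Prime] {T A : Subgroup G}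
    (hT : IsPGroup p T) (hlt : A < T) : ∃ r ∈ T, r ∉ A ∧ ∀ a ∈ A, r * a * r⁻¹ ∈ A := by
  have hne : A.subgroupOf T ≠ ⊤ := fun e => hlt.not_ge fun x hx => by
    simpa [mem_subgroupOf] using e.ge (mem_top (⟨x, hx⟩ : T))
  obtain ⟨r, hr, hr'⟩ := SetLike.exists_of_lt (PGroupsBasic.lt_normalizer hT hne)
  refine ⟨r, r.2, fun h => hr' (mem_subgroupOf.mpr h), fun a ha => ?_⟩
  have := (mem_normalizer_iff.mp hr ⟨a, hlt.le ha⟩).mp (mem_subgroupOf.mpr ha)
  simpa [mem_subgroupOf] using this

set_option maxHeartbeats 3000000 in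
/-- Descent: a uniform element with large centralizer is conjugate into `Gf 2`. -/
theorem descent {p : ℕ} [hp : Fact p.Prime] : ∀ (n : ℕ) (G : Type u) [Group G] [Finite G]
    (P : Sylow p G), Nat.card P = p ^ n → Group.nilpotencyClass ↥(P : Subgroup G) = n - 1 → 2 ≤ n →
    ∀ s : (P : Subgroup G), IsUniform n s → p ^ 3 ∣ Nat.card (centralizer ({(s : G)} : Set G)) →
    ∃ g : G, ∃ t : (P : Subgroup G), t ∈ Gf (P : Subgroup G) 2 ∧ g * s * g⁻¹ = t := by
  intro n
  induction n using Nat.strong_induction_on with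
  | _ n ih =>
  intro G _ _ P hX hc hn
  set PG : Subgroup G := (P : Subgroup G) with hPG
  intro s hs h3
  rcases hn.lt_or_eq with hn3 | rfl
  swap
  · exfalso
    have h := h3.trans (card_subgroup_dvd_card _)
    rw [hp.out.pow_dvd_iff_le_factorization Nat.card_pos.ne'] at h
    have e := P.card_eq_multiplicity
    rw [hX] at e
    have := Nat.pow_right_injective hp.out.two_le e
    omega
  have hX' : Nat.card PG = p ^ n := hX
  have hn' : 3 ≤ n := hn3
  have hPp : IsPGroup p PG := P.isPGroup'
  set A : Subgroup G := (centralizer ({s} : Set PG)).map PG.subtype with hA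
  have hAcard : Nat.card A = p ^ 2 := by
    rw [hA, card_map_of_injective PG.subtype_injective, card_centralizer hX' hc hn' hs]
  have hAP : A ≤ PG := map_subtype_le _
  have hAcomm : IsMulCommutative A := IsPGroup.isMulCommutative_of_card_eq_prime_sq hAcard
  have hsA : (s : G) ∈ A := mem_map_of_mem _ (mem_centralizer_singleton_iff.mpr rfl)
  have memA : ∀ x : PG, (x : G) ∈ A ↔ x * s = s * x := by
    intro x
    rw [hA, ← coe_subtype, Subgroup.mem_map]
    constructor
    · rintro ⟨y, hy, e⟩
      rw [← PG.subtype_injective e]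
      exact mem_centralizer_singleton_iff.mp hy
    · exact fun h => ⟨x, mem_centralizer_singleton_iff.mpr h, rfl⟩
  set C : Subgroup G := centralizer ({(s : G)} : Set G) with hC
  have hAC : A ≤ C := fun a ha => mem_centralizer_singleton_iff.mpr
    (PGroupsBasic.comm_of_isMulCommutative hAcomm ha hsA)
  have hApg : IsPGroup p A := IsPGroup.of_card hAcard
  obtain ⟨T, hT⟩ := (hApg.of_equiv (subgroupOfEquivOfLe hAC).symm).exists_le_sylow
  set TG : Subgroup G := (T : Subgroup C).map C.subtype with hTG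
  have hTp : IsPGroup p TG := T.isPGroup'.map _
  have hATlt : A < TG := by
    refine lt_of_le_of_ne (fun a ha =>
      ⟨⟨a, hAC ha⟩, hT (mem_subgroupOf.mpr ha), rfl⟩) fun e => ?_
    have hc3 : 3 ≤ (Nat.card C).factorization p :=
      (hp.out.pow_dvd_iff_le_factorization Nat.card_pos.ne').mp h3
    have e' : Nat.card TG = Nat.card T := card_map_of_injective C.subtype_injective
    rw [← e, hAcard, T.card_eq_multiplicity] at e'
    have := Nat.pow_right_injective hp.out.two_le e'
    omega
  obtain ⟨r, hrT, hrA, hrn⟩ := exists_normalizing hTp hATlt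
  have hrs : r * (s : G) = s * r := by
    obtain ⟨c, -, rfl⟩ := hrT
    exact mem_centralizer_singleton_iff.mp c.2
  have hPlt : A < PG := lt_of_le_of_ne hAP fun e => by
    rw [e, hX'] at hAcard
    have := Nat.pow_right_injective hp.out.two_le hAcard
    omega
  obtain ⟨w, hwP, hwA, hwn⟩ := exists_normalizing hPp hPlt
  obtain ⟨hZcard, -, -, -⟩ := MaxClassTwo.center_of_maxClass hn' hX' hc
  have hZ2 := center_le_gf_two hX' hc hn'
  -- the centre
  set ZG : Subgroup G := (center PG).map PG.subtype with hZG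
  have hZGcard : Nat.card ZG = p := by rw [hZG, card_map_of_injective PG.subtype_injective, hZcard]
  obtain ⟨z, hzZ, hzord⟩ := PGroupsBasic.exists_orderOf_eq_of_ne_bot (p := p) (H := ZG)
    (IsPGroup.of_card (hZGcard.trans (pow_one p).symm))
    (by intro e; rw [e, card_bot] at hZGcard; exact hp.out.ne_one hZGcard.symm)
  have hzeq : zpowers z = ZG :=
    eq_of_le_of_card_ge (zpowers_le.mpr hzZ) (by rw [hZGcard, Nat.card_zpowers, hzord])
  have hZA : ZG ≤ A := by
    rintro _ ⟨y, hy, rfl⟩
    exact (memA y).mpr (mem_center_iff.mp hy s).symm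
  have hZcent : ∀ y ∈ ZG, ∀ x ∈ PG, y * x = x * y := by
    rintro _ ⟨y, hy, rfl⟩ x hx
    exact congrArg Subtype.val (mem_center_iff.mp hy ⟨x, hx⟩).symm
  have hcomm2 : ∀ x : PG, (∀ a ∈ A, (x : G) * a * (x : G)⁻¹ ∈ A) → ∀ a : PG, (a : G) ∈ A →
      ⁅x, a⁆ ∈ center PG := by
    intro x hx a ha
    refine centralizer_inf_gf_two hX' hc hn' hs ⟨mem_centralizer_singleton_iff.mpr ?_,
      commutator_mem_Gf (i := 1) (j := 1) (mem_top x) (mem_top a)⟩
    refine (memA _).mp ?_
    simpa [commutatorElement_def] using mul_mem (hx a ha) (inv_mem ha)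
  set wP : PG := ⟨w, hwP⟩ with hwPdef
  by_cases hrz : r * z * r⁻¹ = z
  swap
  · -- `z` is conjugate to an element of `A` outside the centre
    set z' := r * z * r⁻¹ with hz'
    have hz'A : z' ∈ A := hrn z (hZA hzZ)
    have hz'Z : z' ∉ ZG := fun h => hrz (conj_eq_self_of_mem hTp hrT hzord (hzeq ▸ h))
    have hA_eq : A ≤ zpowers (s : G) ⊔ ZG := by
      refine (eq_of_le_of_card_ge (sup_le (zpowers_le.mpr hsA) hZA) ?_).ge
      have hlt : ZG < zpowers (s : G) ⊔ ZG := lt_of_le_of_ne le_sup_right fun e => by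
        obtain ⟨y, hy, e'⟩ := e.ge (mem_sup_left (mem_zpowers (s : G)))
        exact hs.1 (hZ2 (PG.subtype_injective e' ▸ hy))
      obtain ⟨k, hk⟩ := IsPGroup.iff_card.mp
        (hApg.to_le (sup_le (zpowers_le.mpr hsA) hZA : zpowers (s : G) ⊔ ZG ≤ A))
      have h1 := lt_of_le_of_ne (card_le_of_le hlt.le) fun e => hlt.ne (eq_of_le_of_card_ge hlt.le e.ge)
      rw [hk, hZGcard] at h1
      have h1' : p ^ 1 < p ^ k := by rwa [pow_one]
      rw [hAcard, hk]
      exact Nat.pow_le_pow_right hp.out.pos ((Nat.pow_lt_pow_iff_right hp.out.one_lt).mp h1')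
    have hz'mem : z' ∈ zpowers (s : G) ⊔ ZG := hA_eq hz'A
    have hnorm : zpowers (s : G) ≤ normalizer (ZG : Set G) := zpowers_le.mpr (mem_normalizer_iff.mpr
      fun y => ⟨fun hy => by
        rw [← hZcent y hy s s.2, mul_inv_cancel_right]
        exact hy, fun hy => by
        have h := hZcent _ hy s s.2
        have e : y = (s : G) * y * (s : G)⁻¹ := by
          calc y = (s : G)⁻¹ * ((s : G) * y * (s : G)⁻¹ * s) := by group
            _ = (s : G)⁻¹ * ((s : G) * ((s : G) * y * (s : G)⁻¹)) := by rw [h]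
            _ = _ := by group
        rwa [e]⟩)
    rw [← SetLike.mem_coe, coe_mul_of_left_le_normalizer_right _ _ hnorm] at hz'mem
    obtain ⟨x, hx, ζ, hζ, hz'e⟩ := hz'mem
    obtain ⟨k, rfl⟩ := mem_zpowers_iff.mp hx
    -- conjugation by powers of `w` sweeps out the coset `s ^ k ζ ZG`
    set a : PG := s ^ k with ha
    have haA : (a : G) ∈ A := by simpa [ha] using zpow_mem hsA k
    have haZ : (a : G) ∉ ZG := fun h => hz'Z (by
      rw [← hz'e]
      exact mul_mem (by simpa [ha] using h) hζ)
    set e : PG := ⁅wP, a⁆ with he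
    have heZ : e ∈ center PG := hcomm2 wP hwn a haA
    have he1 : (e : G) ≠ 1 := by
      intro h1
      have h1' : ⁅wP, a⁆ = 1 := Subtype.ext h1
      have hcom := commutatorElement_eq_one_iff_mul_comm.mp h1'
      -- `A` is generated by `a` and the centre
      have hlt : ZG < A ⊓ centralizer ({w} : Set G) := by
        refine lt_of_le_of_ne (le_inf hZA fun y hy => mem_centralizer_singleton_iff.mpr
          (hZcent y hy w hwP)) fun e => haZ (e ▸ ⟨haA, ?_⟩)
        exact mem_centralizer_singleton_iff.mpr (congrArg Subtype.val hcom.symm : _)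
      obtain ⟨j, hj⟩ := IsPGroup.iff_card.mp
        (hApg.to_le (inf_le_left : A ⊓ centralizer ({w} : Set G) ≤ A))
      have h1 := lt_of_le_of_ne (card_le_of_le hlt.le) fun e => hlt.ne (eq_of_le_of_card_ge hlt.le e.ge)
      rw [hj, hZGcard] at h1
      have h1' : p ^ 1 < p ^ j := by rwa [pow_one]
      have hAw : A ≤ centralizer ({w} : Set G) := inf_eq_left.mp (eq_of_le_of_card_ge inf_le_left (by
        rw [hAcard, hj]
        exact Nat.pow_le_pow_right hp.out.pos ((Nat.pow_lt_pow_iff_right hp.out.one_lt).mp h1')))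
      refine hwA ((memA wP).mpr (Subtype.ext ?_))
      exact (mem_centralizer_singleton_iff.mp (hAw hsA)).symm
    have hsweep : ∀ m : ℕ, wP ^ m * a * (wP ^ m)⁻¹ = e ^ m * a := by
      intro m
      induction m with
      | zero => simp
      | succ m ih =>
        rw [pow_succ' wP, show wP * wP ^ m * a * (wP * wP ^ m)⁻¹ = wP * (wP ^ m * a * (wP ^ m)⁻¹) * wP⁻¹
          by group, ih, pow_succ e]
        have hm := mem_center_iff.mp (pow_mem heZ m) wP
        rw [show wP * (e ^ m * a) * wP⁻¹ = (wP * e ^ m) * a * wP⁻¹ by group, hm, he,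
          commutatorElement_def]
        group
    have heq' : zpowers (e : G) = ZG := by
      refine eq_of_le_of_card_ge (zpowers_le.mpr (mem_map_of_mem _ heZ)) ?_
      rw [hZGcard, Nat.card_zpowers, orderOf_eq_prime (show (e : G) ^ p = 1 from
        PGroupsBasic.pow_eq_one_of_card hZGcard (mem_map_of_mem PG.subtype heZ)) he1]
    obtain ⟨m, hm⟩ : ∃ m : ℕ, (e : G) ^ m = ζ := by
      have h := mem_powers_iff_mem_zpowers.mpr (heq' ▸ hζ)
      exact h
    -- so `s ^ k` is conjugate into the centre
    obtain ⟨g, hg⟩ : ∃ g : G, g * (a : G) * g⁻¹ ∈ ZG := by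
      refine ⟨r⁻¹ * w ^ m, ?_⟩
      have h : w ^ m * (a : G) * (w ^ m)⁻¹ = ζ * a := by
        have := congrArg Subtype.val (hsweep m)
        simpa [hm] using this
      rw [show r⁻¹ * w ^ m * (a : G) * (r⁻¹ * w ^ m)⁻¹ = r⁻¹ * (w ^ m * (a : G) * (w ^ m)⁻¹) * r by group,
        h, hZcent ζ hζ a a.2, show (a : G) * ζ = z' by simpa [ha] using hz'e, hz']
      simpa [mul_assoc] using hzZ
    have hk : ¬ (p : ℤ) ∣ k := by
      rintro ⟨l, rfl⟩
      refine haZ (mem_map_of_mem PG.subtype (x := a) (centralizer_inf_gf_two hX' hc hn' hs ⟨?_, ?_⟩))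
      · exact mem_centralizer_singleton_iff.mpr ((Commute.refl s).zpow_left _).eq
      · rw [ha, zpow_mul, zpow_natCast]
        exact zpow_mem (S3806.pow_mem_gf_two hX' hc hn' s) l
    obtain ⟨o, ho⟩ := IsPGroup.iff_orderOf.mp hPp s
    have hcop : IsCoprime k ((orderOf s : ℕ) : ℤ) := by
      rw [ho, Nat.cast_pow]
      exact (((Nat.prime_iff_prime_int.mp hp.out).coprime_iff_not_dvd).mpr hk).symm.pow_right
    obtain ⟨u, v, huv⟩ := hcop
    have hsa : (s : G) = (a : G) ^ u := by
      have h' : s ^ (u * k + v * ((orderOf s : ℕ) : ℤ)) = s := by rw [huv, zpow_one]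
      rw [zpow_add, zpow_mul' s v, zpow_natCast, pow_orderOf_eq_one, one_zpow, mul_one] at h'
      conv_lhs => rw [← h']
      rw [ha, mul_comm u k, zpow_mul]
      simp
    obtain ⟨y, hy, hye⟩ := zpow_mem hg u
    refine ⟨g, y, hZ2 hy, ?_⟩
    rw [hsa, ← conj_zpow]
    exact hye.symm
  · -- descend to `C_G(z) / ⟨z⟩`
    set H : Subgroup G := centralizer ({z} : Set G) with hH
    have hPH : PG ≤ H := fun x hx => mem_centralizer_singleton_iff.mpr (hZcent z hzZ x hx).symm
    let PH : Sylow p H := P.subtype hPH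
    let zH : H := ⟨z, hPH (hAP (hZA hzZ))⟩
    set K : Subgroup H := zpowers zH with hK
    haveI hKn : K.Normal := PGroupsBasic.normal_of_le_center (zpowers_le.mpr (mem_center_iff.mpr
      fun h => Subtype.ext (mem_centralizer_singleton_iff.mp h.2)))
    let q := QuotientGroup.mk' K
    have hqs : Function.Surjective q := QuotientGroup.mk'_surjective K
    let Q : Sylow p (H ⧸ K) := PH.mapSurjective hqs
    let incl : PG →* H := Subgroup.inclusion hPH
    let f : PG →* (Q : Subgroup (H ⧸ K)) := (q.comp incl).codRestrict _ fun x => by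
      show q (incl x) ∈ ((PH : Subgroup H).map q)
      exact mem_map_of_mem q (mem_subgroupOf.mpr x.2)
    have hf : Function.Surjective f := by
      rintro ⟨y, hy⟩
      obtain ⟨x, hx, rfl⟩ := (show y ∈ (PH : Subgroup H).map q from hy)
      exact ⟨⟨x, mem_subgroupOf.mp hx⟩, rfl⟩
    have hKmem : ∀ x : H, x ∈ K ↔ (x : G) ∈ ZG := by
      intro x
      rw [← hzeq, hK]
      constructor
      · intro h
        obtain ⟨i, rfl⟩ := mem_zpowers_iff.mp h
        simp [zH, mem_zpowers_iff]
      · intro h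
        obtain ⟨i, hi⟩ := mem_zpowers_iff.mp h
        exact mem_zpowers_iff.mpr ⟨i, Subtype.ext (by simpa [zH] using hi)⟩
    have hker : f.ker = center PG := by
      ext x
      rw [MonoidHom.mem_ker, ← Subtype.coe_inj]
      show q (incl x) = 1 ↔ _
      rw [QuotientGroup.mk'_apply, QuotientGroup.eq_one_iff, hKmem]
      constructor
      · rintro ⟨y, hy, e⟩
        rwa [← PG.subtype_injective e]
      · exact fun h => mem_map_of_mem _ h
    have hQcard : Nat.card Q = p ^ (n - 1) := by
      have h1 := card_mul_index f.ker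
      rw [index_ker, MonoidHom.range_eq_top.mpr hf, card_top, hker, hZcard, hX',
        show p ^ n = p * p ^ (n - 1) by rw [← pow_succ']; congr 1; omega] at h1
      exact Nat.eq_of_mul_eq_mul_left hp.out.pos h1
    have hQnil : Group.IsNilpotent (Q : Subgroup (H ⧸ K)) := Q.isPGroup'.isNilpotent
    have hQc : Group.nilpotencyClass (Q : Subgroup (H ⧸ K)) = n - 1 - 1 := by
      refine le_antisymm ?_ ?_
      · rw [← Subgroup.lowerCentralSeries_eq_bot_iff_nilpotencyClass_le]
        have h : Gf (Q : Subgroup (H ⧸ K)) (n - 1) = ⊥ := by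
          rw [← Blackburn20.map_gf hf, gf_last_eq_center hX' hc hn', Subgroup.map_eq_bot_iff, hker]
        exact h
      · by_contra hlt
        have h : Gf (Q : Subgroup (H ⧸ K)) (n - 2) = ⊥ := by
          unfold Gf
          rw [Subgroup.lowerCentralSeries_eq_bot_iff_nilpotencyClass_le]
          omega
        rw [← Blackburn20.map_gf hf, Subgroup.map_eq_bot_iff, hker, ← gf_last_eq_center hX' hc hn',
          show n - 1 = n - 2 + 1 by omega] at h
        exact (S3806.gf_lt hX' hc (i := n - 2) (by omega) (by omega)).not_ge h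
    set Cb : Subgroup (H ⧸ K) := centralizer ({((f s : Q) : H ⧸ K)} : Set (H ⧸ K)) with hCb
    -- the two subgroups `⟨A, r⟩`, `⟨A, w⟩`
    have hrH : r ∈ H := mem_centralizer_singleton_iff.mpr (mul_inv_eq_iff_eq_mul.mp hrz)
    have key : ∀ (x : G) (W : Subgroup G), IsPGroup p W → A ≤ W → x ∈ W → x ∉ A →
        (x * s * x⁻¹ * (s : G)⁻¹ ∈ ZG) → ∀ hxH : x ∈ H,
        ∃ V : Subgroup H, (closure (insert x (A : Set G))).subgroupOf H = V ∧ IsPGroup p V ∧
          V.map q ≤ Cb ∧ IsPGroup p (V.map q : Subgroup (H ⧸ K)) ∧ p ^ 2 ≤ Nat.card (V.map q) := by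
      intro x W hW hAW hxW hxA hxs hxH
      set U := closure (insert x (A : Set G)) with hU
      have hUW : U ≤ W := (closure_le W).mpr (Set.insert_subset hxW hAW)
      have hUH : U ≤ H := (closure_le H).mpr (Set.insert_subset hxH (fun a ha => hPH (hAP ha)))
      have hUp : IsPGroup p U := hW.to_le hUW
      have hVp : IsPGroup p (U.subgroupOf H) := hUp.of_equiv (subgroupOfEquivOfLe hUH).symm
      refine ⟨_, rfl, hVp, ?_, hVp.map q, ?_⟩
      · refine map_le_iff_le_comap.mpr fun y hy => ?_
        rw [mem_comap, hCb, mem_centralizer_singleton_iff]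
        show q y * q (incl s) = q (incl s) * q y
        rw [← S3806.comm_mem_iff, hKmem]
        let D : Subgroup G := (((centralizer ({q (incl s)} : Set (H ⧸ K))).comap q).map H.subtype)
        have hUD : U ≤ D := by
          refine (closure_le D).mpr (Set.insert_subset ?_ fun a ha => ?_)
          · refine ⟨⟨x, hxH⟩, mem_comap.mpr (mem_centralizer_singleton_iff.mpr ?_), rfl⟩
            rw [← S3806.comm_mem_iff, hKmem]
            simpa [commutatorElement_def, incl] using hxs
          · refine ⟨⟨a, hPH (hAP ha)⟩, mem_comap.mpr (mem_centralizer_singleton_iff.mpr ?_), rfl⟩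
            rw [← map_mul, ← map_mul]
            congr 1
            exact Subtype.ext (PGroupsBasic.comm_of_isMulCommutative hAcomm ha hsA)
        obtain ⟨y', hy', e⟩ := hUD (mem_subgroupOf.mp hy)
        obtain rfl : y' = y := H.subtype_injective e
        have := mem_centralizer_singleton_iff.mp (mem_comap.mp hy')
        rwa [← S3806.comm_mem_iff, hKmem] at this
      · set V := U.subgroupOf H
        set A' := A.subgroupOf H
        have hAV : A' ≤ V := fun a ha => mem_subgroupOf.mpr (subset_closure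
          (Set.mem_insert_of_mem _ (mem_subgroupOf.mp ha)))
        have hKA : K ≤ A' := fun y hy => mem_subgroupOf.mpr (hZA ((hKmem y).mp hy))
        have h1 : A'.map q < V.map q := lt_of_le_of_ne (map_mono hAV) fun e => by
          obtain ⟨a, ha, hae⟩ := e.ge (mem_map_of_mem q
            (mem_subgroupOf.mpr (subset_closure (Set.mem_insert _ _)) : (⟨x, hxH⟩ : H) ∈ V))
          have : a⁻¹ * (⟨x, hxH⟩ : H) ∈ A' := hKA (QuotientGroup.eq.mp hae)
          exact hxA (mem_subgroupOf.mp (by simpa using mul_mem ha this : (⟨x, hxH⟩ : H) ∈ A'))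
        have h2 : A'.map q ≠ ⊥ := fun e => by
          have := (Subgroup.map_eq_bot_iff _).mp e (mem_subgroupOf.mpr hsA : incl s ∈ A')
          rw [QuotientGroup.ker_mk', hKmem] at this
          obtain ⟨y, hy, e'⟩ := this
          exact hs.1 (hZ2 (PG.subtype_injective e' ▸ hy))
        obtain ⟨j, hj⟩ := IsPGroup.iff_card.mp (hVp.map q)
        obtain ⟨i, hi⟩ := IsPGroup.iff_card.mp ((hVp.map q).to_le h1.le)
        have h3 := lt_of_le_of_ne (card_le_of_le h1.le) fun e => h1.ne (eq_of_le_of_card_ge h1.le e.ge)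
        rw [hi, hj] at h3
        have := (Nat.pow_lt_pow_iff_right hp.out.one_lt).mp h3
        have : i ≠ 0 := fun h0 => h2 (card_eq_one.mp (by rw [hi, h0, pow_zero]))
        rw [hj]
        exact Nat.pow_le_pow_right hp.out.pos (by omega)
    obtain ⟨U, hUe, hUp, hUC, hUqp, hU2⟩ := key r TG hTp hATlt.le hrT hrA
      (by rw [hrs]; simp) hrH
    obtain ⟨V, hVe, hVp, hVC, hVqp, hV2⟩ := key w PG hPp hPlt.le hwP hwA (by
      have := mem_map_of_mem PG.subtype (hcomm2 wP hwn s hsA)
      exact this) (hPH hwP)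
    have h3b : p ^ 3 ∣ Nat.card Cb := by
      rw [hp.out.pow_dvd_iff_le_factorization Nat.card_pos.ne']
      by_contra hlt
      push Not at hlt
      obtain ⟨S1, hS1⟩ := (hUqp.of_equiv (subgroupOfEquivOfLe hUC).symm).exists_le_sylow
      obtain ⟨S2, hS2⟩ := (hVqp.of_equiv (subgroupOfEquivOfLe hVC).symm).exists_le_sylow
      have he : ∀ (S : Sylow p Cb) (M : Subgroup (H ⧸ K)), M ≤ Cb → M.subgroupOf Cb ≤ S →
          p ^ 2 ≤ Nat.card M → M.subgroupOf Cb = S := by
        intro S M hM hMS h2
        refine eq_of_le_of_card_ge hMS ?_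
        rw [Nat.card_congr (subgroupOfEquivOfLe hM).toEquiv, S.card_eq_multiplicity]
        exact (Nat.pow_le_pow_right hp.out.pos (by omega)).trans h2
      have e1 := he S1 _ hUC hS1 hU2
      have e2 := he S2 _ hVC hS2 hV2
      obtain ⟨c, hc'⟩ := MulAction.exists_smul_eq Cb S1 S2
      obtain ⟨h, hh⟩ := hqs (c : H ⧸ K)
      -- pull back to `H`
      have hcom : ∀ a ∈ U, ∀ b ∈ U, a * b = b * a := by
        intro a ha b hb
        rw [← hUe, mem_subgroupOf] at ha hb
        haveI : IsMulCommutative (closure (insert r (A : Set G))) := by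
          refine isMulCommutative_closure ?_
          have hrA' : ∀ y ∈ A, r * y = y * r := by
            intro y hy
            have hgen : A ≤ centralizer ({r} : Set G) := by
              have hlt : ZG < A ⊓ centralizer ({r} : Set G) := by
                refine lt_of_le_of_ne (le_inf hZA ?_) fun e => ?_
                · rw [← hzeq, zpowers_le]
                  exact mem_centralizer_singleton_iff.mpr (mul_inv_eq_iff_eq_mul.mp hrz).symm
                · obtain ⟨y, hy, e'⟩ := e.ge (⟨hsA, mem_centralizer_singleton_iff.mpr hrs.symm⟩ :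
                    (s : G) ∈ A ⊓ centralizer ({r} : Set G))
                  exact hs.1 (hZ2 (PG.subtype_injective e' ▸ hy))
              obtain ⟨j, hj⟩ := IsPGroup.iff_card.mp
                (hApg.to_le (inf_le_left : A ⊓ centralizer ({r} : Set G) ≤ A))
              have h1 := lt_of_le_of_ne (card_le_of_le hlt.le)
                fun e => hlt.ne (eq_of_le_of_card_ge hlt.le e.ge)
              rw [hj, hZGcard] at h1
              have h1' : p ^ 1 < p ^ j := by rwa [pow_one]
              exact inf_eq_left.mp (eq_of_le_of_card_ge inf_le_left (by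
                rw [hAcard, hj]
                exact Nat.pow_le_pow_right hp.out.pos
                  ((Nat.pow_lt_pow_iff_right hp.out.one_lt).mp h1')))
            exact (mem_centralizer_singleton_iff.mp (hgen hy)).symm
          rintro x (rfl | hx) y (rfl | hy)
          · rfl
          · exact hrA' y hy
          · exact (hrA' x hx).symm
          · exact PGroupsBasic.comm_of_isMulCommutative hAcomm hx hy
        exact Subtype.ext (PGroupsBasic.comm_of_isMulCommutative this ha hb)
      have hVU : ∀ v ∈ V, h⁻¹ * v * h ∈ U := by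
        intro v hv
        have hv' : (⟨q v, hVC (mem_map_of_mem q hv)⟩ : Cb) ∈ (S2 : Subgroup Cb) :=
          e2 ▸ mem_subgroupOf.mpr (mem_map_of_mem q hv)
        rw [← hc', Sylow.coe_subgroup_smul, mem_pointwise_smul_iff_inv_smul_mem, ← e1,
          mem_subgroupOf] at hv'
        have hv'' : q (h⁻¹ * v * h) ∈ U.map q := by
          simpa [hh, mul_assoc] using hv'
        obtain ⟨u, hu, e⟩ := hv''
        have hd : u⁻¹ * (h⁻¹ * v * h) ∈ U := by
          rw [← hUe, mem_subgroupOf]
          exact subset_closure (Set.mem_insert_of_mem _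
            (hZA ((hKmem _).mp (QuotientGroup.eq.mp e))))
        simpa using mul_mem hu hd
      have hwV : (⟨w, hPH hwP⟩ : H) ∈ V := hVe ▸ mem_subgroupOf.mpr (subset_closure (Set.mem_insert _ _))
      have hsV : incl s ∈ V := hVe ▸ mem_subgroupOf.mpr (subset_closure (Set.mem_insert_of_mem _ hsA))
      have hh' := hcom _ (hVU _ hwV) _ (hVU _ hsV)
      refine hwA ((memA wP).mpr (Subtype.ext ?_))
      have h2 := congrArg (fun y => h * y * h⁻¹) hh'
      simp only [mul_assoc, mul_inv_cancel_left, mul_inv_cancel, mul_one] at h2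
      exact (congrArg Subtype.val h2 :)
    obtain ⟨g, t, ht, hgt⟩ := ih (n - 1) (by omega) (H ⧸ K) Q hQcard hQc (by omega) (f s)
      (isUniform_map hX' hc hn' hf hker hs) h3b
    obtain ⟨g, rfl⟩ := hqs g
    rw [← Blackburn20.map_gf hf] at ht
    obtain ⟨t, ht, rfl⟩ := ht
    have hgt' : q (g * incl s * g⁻¹) = q (incl t) := by
      rw [map_mul, map_mul, map_inv]
      exact hgt
    obtain ⟨y, hy, hye⟩ := (hKmem _).mp (QuotientGroup.eq.mp hgt'.symm)
    refine ⟨g, t * y, mul_mem ht (hZ2 hy), ?_⟩
    have hye' : (y : G) = (t : G)⁻¹ * ((g : G) * s * (g : G)⁻¹) := by simpa [incl] using hye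
    rw [Subgroup.coe_mul, hye', mul_inv_cancel_left]

/-- A normal subgroup with a normal `p`-complement, in a group with trivial `p'`-core, is a `p`-group. -/
theorem isPGroup_of_complement [Finite G] {p : ℕ} [hp : Fact p.Prime]
    (hcore : Cfsg.pPrimeCore p G = ⊥) (K : Subgroup G) [K.Normal]
    (h : Cfsg.HasNormalPComplement p K) : IsPGroup p K := by
  obtain ⟨S, N, hN, hNS⟩ := h
  have hNi : N.index = Nat.card S := Subgroup.IsComplement'.index_eq_card (Subgroup.IsComplement'.symm hNS)
  have hNc : Nat.card N = (S : Subgroup K).index := (Subgroup.IsComplement'.index_eq_card hNS).symm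
  have hcop : (Nat.card N).Coprime p := by
    rw [hNc]
    exact (hp.out.coprime_iff_not_dvd.mpr S.not_dvd_index).symm
  have mem : ∀ x : K, (orderOf x).Coprime p → x ∈ N := by
    intro x hx
    obtain ⟨k, hk⟩ := IsPGroup.iff_card.mp S.isPGroup'
    refine (QuotientGroup.eq_one_iff x).mp (orderOf_eq_one_iff.mp (Nat.eq_one_of_dvd_coprimes
      (hx.pow_right k) (orderOf_map_dvd (QuotientGroup.mk' N) x) ?_))
    rw [← hk, ← hNi]
    exact orderOf_dvd_natCard _
  have hNG : (N.map K.subtype).Normal := by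
    refine ⟨?_⟩
    rintro _ ⟨x, hx, rfl⟩ g
    refine ⟨⟨g * x * g⁻¹, Normal.conj_mem inferInstance _ x.2 g⟩, mem _ ?_, rfl⟩
    have e : orderOf (⟨g * x * g⁻¹, Normal.conj_mem inferInstance _ x.2 g⟩ : K) = orderOf x := by
      rw [← orderOf_coe, ← orderOf_coe]
      exact orderOf_injective (MulAut.conj g).toMonoidHom (MulEquiv.injective _) (x : G)
    rw [e]
    exact Nat.Coprime.coprime_dvd_left (N.orderOf_dvd_natCard hx) hcop
  have hbot : N.map K.subtype = ⊥ := by
    rw [eq_bot_iff, ← hcore]
    exact le_sSup ⟨hNG, by rwa [card_map_of_injective K.subtype_injective]⟩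
  have hN0 : N = ⊥ := (map_eq_bot_iff_of_injective _ K.subtype_injective).mp hbot
  rw [hN0, index_bot] at hNi
  obtain ⟨k, hk⟩ := IsPGroup.iff_card.mp S.isPGroup'
  exact IsPGroup.of_card (hNi.trans hk)

/-- A normal subgroup of a group of maximal class, not contained in the centre, meets `Gf (n - 2)`
outside the centre. -/
theorem exists_mem_gf {X : Type*} [Group X] [Finite X] {p n : ℕ} [hp : Fact p.Prime]
    (hX : Nat.card X = p ^ n) (hc : Group.nilpotencyClass X = n - 1) (hn : 4 ≤ n) {s : X}
    (hs : IsUniform n s) (M : Subgroup X) [M.Normal] : ∀ d i, 2 ≤ i → i + d = n - 2 →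
    ∀ q ∈ M, q ∈ Gf X i → q ∉ center X → ∃ q' ∈ M, q' ∈ Gf X (n - 2) ∧ q' ∉ center X := by
  intro d
  induction d with
  | zero =>
    intro i _ hi q hq hqi hqz
    exact ⟨q, hq, (show n - 2 = i by omega) ▸ hqi, hqz⟩
  | succ d ih =>
    intro i h1 hi q hq hqi hqz
    by_cases h : q ∈ Gf X (i + 1)
    · exact ih (i + 1) (by omega) (by omega) q hq h hqz
    refine ih (i + 1) (by omega) (by omega) ⁅q, s⁆ ?_ (commutator_mem_Gf hqi (mem_top s)) fun hz => ?_
    · rw [commutatorElement_def, show q * s * q⁻¹ * s⁻¹ = q * (s * q⁻¹ * s⁻¹) by group]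
      exact mul_mem hq (Normal.conj_mem inferInstance _ (inv_mem hq) s)
    · refine hs.2 i h1 (by omega) (Blackburn20.mem_Ct_of_exact hX hc h1 (by omega) hqi h ?_)
      exact Gf_antitone (by omega) ((gf_last_eq_center hX hc (by omega)).ge hz)

/-- Let G be a finite group whose Sylow p-subgroup P has order p ^ n with n ≥ 2 and nilpotency class n - 1 (maximal class), whose largest normal subgroup of order prime to p is trivial, and which has no proper normal subgroup of index prime to p. Then either some x ∈ P has a centralizer in G whose order has p-part p ^ 2, or G is quasisimple with centre of order at most p. -/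
theorem result {G : Type*} [Group G] [Finite G] (p : ℕ) [Fact p.Prime] (P : Sylow p G) (n : ℕ) (hP : Nat.card P = p ^ n) (hn : 2 ≤ n) (hmax : Group.nilpotencyClass ↥(P : Subgroup G) = n - 1) (hcore : Cfsg.pPrimeCore p G = ⊥) (hres : ∀ N : Subgroup G, N.Normal → (N.index).Coprime p → N = ⊤) : (∃ x ∈ (P : Subgroup G), (Nat.card (Subgroup.centralizer ({x} : Set G))).factorization p = 2) ∨ (Cfsg.IsQuasisimple G ∧ Nat.card (Subgroup.center G) ≤ p) := by
  have hp : Fact p.Prime := inferInstance
  rw [or_iff_not_imp_left]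
  intro hno
  push Not at hno
  rcases hn.lt_or_eq with hn3 | rfl
  swap
  · refine absurd ?_ (hno 1 (one_mem _))
    have e := P.card_eq_multiplicity
    rw [hP] at e
    have htop : centralizer ({(1 : G)} : Set G) = ⊤ :=
      eq_top_iff.mpr fun g _ => mem_centralizer_singleton_iff.mpr (by simp)
    rw [htop, card_top]
    exact (Nat.pow_right_injective hp.out.two_le e).symm
  set PG : Subgroup G := (P : Subgroup G) with hPG
  have hX : Nat.card PG = p ^ n := hP
  have hn' : 3 ≤ n := hn3
  have hPp : IsPGroup p PG := P.isPGroup'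
  have fusion : ∀ s : PG, IsUniform n s → ∃ g : G, ∃ t : PG, t ∈ Gf PG 2 ∧ g * s * g⁻¹ = t := by
    intro s hs
    refine descent n G P hP hmax hn s hs ?_
    rw [hp.out.pow_dvd_iff_le_factorization Nat.card_pos.ne']
    have h2 : 2 ≤ (Nat.card (centralizer ({(s : G)} : Set G))).factorization p := by
      rw [← hp.out.pow_dvd_iff_le_factorization Nat.card_pos.ne', ← card_centralizer hX hmax hn' hs,
        ← card_map_of_injective PG.subtype_injective]
      refine card_dvd_of_le ?_
      rintro _ ⟨y, hy, rfl⟩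
      exact mem_centralizer_singleton_iff.mpr (congrArg Subtype.val (mem_centralizer_singleton_iff.mp hy))
    have := hno s s.2
    omega
  have hG2le : Gf PG 2 ≤ frattini PG :=
    (Subgroup.top_lowerCentralSeries_one (G := PG)).le.trans (PGroupsBasic.commutator_le_frattini hPp)
  -- proper normal subgroups are `p`-groups inside `Gf 2`
  have hnormal : ∀ K : Subgroup G, K.Normal → K ≠ ⊤ → IsPGroup p K ∧ K.subgroupOf PG ≤ Gf PG 2 := by
    intro K hKn hK
    haveI := hKn
    set M : Subgroup PG := K.subgroupOf PG with hM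
    have hM2 : M ≤ Gf PG 2 := by
      by_contra hle
      obtain ⟨m, hm, hm2⟩ := SetLike.not_le_iff_exists.mp hle
      have hD : M ⊔ Gf PG 2 ≠ ⊤ := fun e => hK (hres K hKn (by
        have htop : M = ⊤ := frattini_nongenerating
          (top_le_iff.mp (e.ge.trans (sup_le_sup_left hG2le _)))
        have hPK : PG ≤ K := fun x hx => (htop.ge (mem_top (⟨x, hx⟩ : PG)) :)
        exact Nat.Coprime.coprime_dvd_left (index_dvd_of_le hPK)
          (hp.out.coprime_iff_not_dvd.mpr P.not_dvd_index).symm))
      obtain ⟨s, hs, hsD⟩ := exists_uniform_notMem hX hmax hn' _ hD le_sup_right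
      have h2M : Gf PG 2 ≤ M := by
        have hgen : closure ({m, s} : Set PG) = ⊤ := Blackburn20.gen_of_notMem hX hmax hn' hm2
          fun h => hsD (sup_le_sup_right (zpowers_le.mpr hm) _ h)
        have h := PGroupsRegular.commutator_closure_pair_le (W := M) (a := m) (b := s)
          (fun k _ w hw => Normal.conj_mem inferInstance w hw k) (by
            rw [commutatorElement_def, show m * s * m⁻¹ * s⁻¹ = m * (s * m⁻¹ * s⁻¹) by group]
            exact mul_mem hm (Normal.conj_mem inferInstance _ (inv_mem hm) s))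
        rw [hgen] at h
        exact (Subgroup.top_lowerCentralSeries_one (G := PG)).le.trans h
      obtain ⟨g, t, ht, hgt⟩ := fusion s hs
      refine hsD (mem_sup_left (mem_subgroupOf.mpr ?_))
      have htK : g * (s : G) * g⁻¹ ∈ K := hgt ▸ mem_subgroupOf.mp (h2M ht)
      simpa [mul_assoc] using hKn.conj_mem _ htK g⁻¹
    refine ⟨isPGroup_of_complement hcore K
      (TransferTate.hasNormalPComplement_of_normal_inf_le_frattini P K ?_), hM2⟩
    intro x hx
    exact ⟨⟨x, hx.2⟩, hG2le (hM2 (mem_subgroupOf.mpr hx.1)), rfl⟩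
  obtain ⟨s, hs, -⟩ := exists_uniform_notMem hX hmax hn' (Gf PG 2)
    (Blackburn20.gf_two_ne_top hX hmax hn') le_rfl
  obtain ⟨g, t, ht, hgt⟩ := fusion s hs
  set Q : Subgroup G := Cfsg.pCore p G with hQdef
  have hQn : Q.Normal := pCore_normal p G
  have hQP : Q ≤ PG := LocGroup56.pCore_le_sylow P
  have hleQ : ∀ K : Subgroup G, K.Normal → K ≠ ⊤ → K ≤ Q :=
    fun K hKn hK => LocGroup56.le_pCore hKn (hnormal K hKn hK).1
  have hQtop : Q ≠ ⊤ := fun e => hs.1 (by
    have hgP : g ∈ PG := (e ▸ hQP) (mem_top g)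
    have he : t = ⟨g, hgP⟩ * s * (⟨g, hgP⟩ : PG)⁻¹ := Subtype.ext hgt.symm
    have := Normal.conj_mem (inferInstance : (Gf PG 2).Normal) t ht (⟨g, hgP⟩ : PG)⁻¹
    simpa [he, mul_assoc] using this)
  obtain ⟨hQp, hQ2⟩ := hnormal Q hQn hQtop
  -- `Q` is central in `P`
  have hQZ : Q.subgroupOf PG ≤ center PG := by
    by_contra hle
    obtain ⟨q, hq, hqz⟩ := SetLike.not_le_iff_exists.mp hle
    have hn4 : 4 ≤ n := by
      by_contra h
      obtain rfl : n = 3 := by omega
      exact hqz ((gf_last_eq_center hX hmax hn').le (hQ2 hq))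
    obtain ⟨q', hq', hq2, hqz'⟩ := exists_mem_gf hX hmax hn4 hs (Q.subgroupOf PG) (n - 4) 2 le_rfl
      (by omega) q hq (hQ2 hq) hqz
    set ZG : Subgroup G := (center PG).map PG.subtype with hZG
    have hS : Q ⊓ centralizer ({(s : G)} : Set G) ≤ ZG := by
      rintro y ⟨hy, hys⟩
      refine ⟨⟨y, hQP hy⟩, centralizer_inf_gf_two hX hmax hn' hs ⟨?_, hQ2 (mem_subgroupOf.mpr hy)⟩, rfl⟩
      exact mem_centralizer_singleton_iff.mpr (Subtype.ext (mem_centralizer_singleton_iff.mp hys))
    have hT : ∀ y : PG, (y : G) ∈ Q → y * t = t * y → (y : G) ∈ Q ⊓ centralizer ({(t : G)} : Set G) :=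
      fun y hy h => ⟨hy, mem_centralizer_singleton_iff.mpr (congrArg Subtype.val h)⟩
    have himg : Q ⊓ centralizer ({(t : G)} : Set G) ≤
        ZG.map (MulAut.conj g).toMonoidHom := by
      rintro y ⟨hy, hyt⟩
      refine ⟨g⁻¹ * y * g, hS ⟨by simpa using hQn.conj_mem y hy g⁻¹, ?_⟩, by simp [mul_assoc]⟩
      have h := mem_centralizer_singleton_iff.mp hyt
      rw [← hgt] at h
      refine mem_centralizer_singleton_iff.mpr ?_
      calc g⁻¹ * y * g * (s : G) = g⁻¹ * (y * (g * s * g⁻¹)) * g := by group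
        _ = g⁻¹ * (g * s * g⁻¹ * y) * g := by rw [h]
        _ = _ := by group
    have hlt : ZG < ZG ⊔ zpowers (q' : G) := lt_of_le_of_ne le_sup_left fun e => by
      obtain ⟨y, hy, e'⟩ := e.ge (mem_sup_right (mem_zpowers (q' : G)))
      exact hqz' (PG.subtype_injective e' ▸ hy)
    have hsub : ZG ⊔ zpowers (q' : G) ≤ (ZG.map (MulAut.conj g).toMonoidHom) := by
      refine le_trans (sup_le ?_ (zpowers_le.mpr ?_)) himg
      · rintro _ ⟨y, hy, rfl⟩
        refine hT y ?_ (mem_center_iff.mp hy t).symm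
        -- the centre lies in `Q`
        haveI : (Q.subgroupOf PG).Normal := hQn.subgroupOf PG
        have hne : Q.subgroupOf PG ⊓ center PG ≠ ⊥ :=
          PGroupsBasic.inf_center_ne_bot hPp fun e => hqz (e.le hq ▸ one_mem _)
        have hcard := (MaxClassTwo.center_of_maxClass hn' hX hmax).1
        rcases PGroupsBasic.le_or_inf_eq_bot hcard (K := Q.subgroupOf PG) with h | h
        · exact mem_subgroupOf.mp (h hy)
        · exact absurd (inf_comm _ _ |>.trans h) hne
      · refine hT q' (mem_subgroupOf.mp hq') (commutatorElement_eq_one_iff_mul_comm.mp ?_)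
        have h : ⁅q', t⁆ ∈ Gf PG (n - 2 + 2) := commutator_mem_Gf hq2 ht
        rwa [S3806.gf_bot hX hmax (by omega), mem_bot] at h
    have h1 := lt_of_le_of_ne (card_le_of_le hlt.le) fun e => hlt.ne (eq_of_le_of_card_ge hlt.le e.ge)
    have h2 := card_le_of_le hsub
    rw [card_map_of_injective (MulEquiv.injective _)] at h2
    omega
  -- `Q` is central in `G`
  have hQG : Q ≤ center G := by
    haveI := hQn
    have htop : centralizer (Q : Set G) = ⊤ := by
      refine hres _ inferInstance (Nat.Coprime.coprime_dvd_left (index_dvd_of_le ?_)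
        (hp.out.coprime_iff_not_dvd.mpr P.not_dvd_index).symm)
      intro x hx
      refine mem_centralizer_iff.mpr fun y hy => ?_
      exact (congrArg Subtype.val (mem_center_iff.mp (hQZ (mem_subgroupOf.mpr hy : (⟨y, hQP hy⟩ : PG) ∈ _))
        ⟨x, hx⟩)).symm
    intro y hy
    refine mem_center_iff.mpr fun x => ?_
    exact ((mem_centralizer_iff.mp (htop.ge (mem_top x))) y hy).symm
  have hs2 : ∀ c ∈ center G, g * (s : G) * g⁻¹ ≠ c * s := by
    intro c hc he
    have hcP : c ∈ PG := by
      have : c = g * (s : G) * g⁻¹ * (s : G)⁻¹ := by rw [he]; group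
      rw [this, hgt]
      exact mul_mem t.2 (inv_mem s.2)
    have hcz : (⟨c, hcP⟩ : PG) ∈ center PG :=
      mem_center_iff.mpr fun y => Subtype.ext (mem_center_iff.mp hc y)
    refine hs.1 ?_
    have e : s = (⟨c, hcP⟩ : PG)⁻¹ * t := Subtype.ext (by
      simp only [Subgroup.coe_mul, Subgroup.coe_inv, ← hgt, he]; group)
    rw [e]
    exact mul_mem (inv_mem (center_le_gf_two hX hmax hn' hcz)) ht
  have hcq : center G = Q := by
    refine le_antisymm (hleQ _ inferInstance fun e => ?_) hQG
    refine hs2 1 (one_mem _) ?_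
    rw [one_mul, mem_center_iff.mp (e.ge (mem_top (s : G))) g, mul_inv_cancel_right]
  refine ⟨⟨?_, ?_⟩, ?_⟩
  · constructor
    by_contra hne
    have hc := (hleQ _ inferInstance hne).trans hQG
      (commutator_mem_commutator (mem_top g) (mem_top (s : G)))
    refine hs2 _ hc ?_
    simp [commutatorElement_def]
  · haveI : Nontrivial (G ⧸ center G) := QuotientGroup.nontrivial_iff.mpr (hcq ▸ hQtop)
    refine ⟨fun L hL => ?_⟩
    haveI : (L.comap (QuotientGroup.mk' (center G))).Normal := hL.comap _
    by_cases htop : L.comap (QuotientGroup.mk' (center G)) = ⊤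
    · exact Or.inr (comap_injective (QuotientGroup.mk'_surjective _) (htop.trans (comap_top _).symm))
    · left
      rw [← map_comap_eq_self_of_surjective (QuotientGroup.mk'_surjective _) L, Subgroup.map_eq_bot_iff,
        QuotientGroup.ker_mk']
      exact (hleQ _ inferInstance htop).trans hcq.ge
  · have h : center G ≤ (center PG).map PG.subtype := fun c hc =>
      ⟨⟨c, hQP (hcq ▸ hc)⟩, mem_center_iff.mpr fun y => Subtype.ext (mem_center_iff.mp hc y), rfl⟩
    have := card_le_of_le h
    rwa [card_map_of_injective PG.subtype_injective,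
      (MaxClassTwo.center_of_maxClass hn' hX hmax).1] at this

end Cfsg.Agent.S3865
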