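import Mathlib
import Cfsg.Statements.S3866
-- import your own Cfsg.Agent.* helpers here

set_option autoImplicit false
open Cfsg

namespace Cfsg.Agent.S3866

/-- Let A be a commutative normal subgroup of the finite group G with G generated by A and an element x. Then a ↦ x a x⁻¹ a⁻¹ is a surjective homomorphism from A onto the commutator subgroup of G whose kernel is the centralizer of x in A; in particular the commutator subgroup has order equal to the index in A of that centralizer. -/
theorem result {G : Type*} [Group G] [Finite G] (A : Subgroup G) [A.Normal] (hA : IsMulCommutative A) (x : G) (hgen : A ⊔ Subgroup.zpowers x = ⊤) : (∀ a ∈ A, x * a * x⁻¹ * a⁻¹ ∈ commutator G) ∧ (∀ c ∈ commutator G, ∃ a ∈ A, x * a * x⁻¹ * a⁻¹ = c) ∧ (∀ a ∈ A, ∀ b ∈ A, x * (a * b) * x⁻¹ * (a * b)⁻¹ = (x * a * x⁻¹ * a⁻¹) * (x * b * x⁻¹ * b⁻¹)) ∧ Nat.card (commutator G) * Nat.card ↥(A ⊓ Subgroup.centralizer ({x} : Set G)) = Nat.card A := by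
  classical
  have hcomm : ∀ a ∈ A, ∀ b ∈ A, a * b = b * a := fun a ha b hb =>
    congrArg Subtype.val (hA.is_comm.comm ⟨a, ha⟩ ⟨b, hb⟩)
  have hmem : ∀ a ∈ A, x * a * x⁻¹ * a⁻¹ ∈ A := fun a ha =>
    A.mul_mem (Subgroup.Normal.conj_mem inferInstance a ha x) (A.inv_mem ha)
  let f : A →* G :=
    { toFun := fun a => x * (a : G) * x⁻¹ * (a : G)⁻¹
      map_one' := by simp
      map_mul' := by
        intro a b
        have hb' : x * (b : G) * x⁻¹ * (b : G)⁻¹ ∈ A := hmem b b.2
        have e := hcomm _ (inv_mem a.2) _ hb'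
        calc x * ((a * b : A) : G) * x⁻¹ * ((a * b : A) : G)⁻¹
            = x * (a : G) * x⁻¹ * ((x * (b : G) * x⁻¹ * (b : G)⁻¹) * (a : G)⁻¹) := by push_cast; group
          _ = x * (a : G) * x⁻¹ * ((a : G)⁻¹ * (x * (b : G) * x⁻¹ * (b : G)⁻¹)) := by rw [e]
          _ = _ := by group }
  have hf : ∀ a : A, f a = x * (a : G) * x⁻¹ * (a : G)⁻¹ := fun a => rfl
  have hle : f.range ≤ commutator G := by
    rintro _ ⟨a, rfl⟩
    rw [hf, commutator_def]
    exact Subgroup.commutator_mem_commutator (Subgroup.mem_top x) (Subgroup.mem_top (a : G))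
  have hrA : f.range ≤ A := by
    rintro _ ⟨a, rfl⟩
    exact hmem a a.2
  have hN : f.range.Normal := by
    refine Subgroup.normalizer_eq_top_iff.mp (top_le_iff.mp (hgen.symm.le.trans (sup_le ?_ ?_)))
    · intro c hc
      rw [Subgroup.mem_normalizer_iff]
      intro y
      constructor
      · intro hy
        rwa [hcomm c hc y (hrA hy), mul_inv_cancel_right]
      · intro hy
        have h1 := hcomm c hc _ (hrA hy)
        have : y = c * y * c⁻¹ := by
          calc y = c⁻¹ * (c * y * c⁻¹) * c := by group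
            _ = c⁻¹ * ((c * y * c⁻¹) * c) := by group
            _ = c⁻¹ * (c * (c * y * c⁻¹)) := by rw [h1]
            _ = _ := by group
        rwa [this]
    · rw [Subgroup.zpowers_le, Subgroup.mem_normalizer_iff]
      intro y
      constructor
      · rintro ⟨a, rfl⟩
        refine ⟨⟨x * (a : G) * x⁻¹, Subgroup.Normal.conj_mem inferInstance _ a.2 x⟩, ?_⟩
        simp [hf, mul_assoc]
      · rintro ⟨a, ha⟩
        refine ⟨⟨x⁻¹ * (a : G) * x⁻¹⁻¹, Subgroup.Normal.conj_mem inferInstance _ a.2 x⁻¹⟩, ?_⟩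
        have : y = x⁻¹ * f a * x := by rw [ha]; group
        rw [this]
        simp [hf, mul_assoc]
  have hge : commutator G ≤ f.range := by
    let π := QuotientGroup.mk' f.range
    have key : ∀ a ∈ A, π x * π a = π a * π x := by
      intro a ha
      have h1 : π (x * a * x⁻¹ * a⁻¹) = 1 :=
        (QuotientGroup.eq_one_iff _).mpr ⟨⟨a, ha⟩, rfl⟩
      rw [map_mul, map_mul, map_mul, map_inv, map_inv] at h1
      rwa [mul_inv_eq_one, mul_inv_eq_iff_eq_mul] at h1
    let S : Set (G ⧸ f.range) := π '' ((A : Set G) ∪ {x})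
    have hS : Subgroup.closure S = ⊤ := by
      rw [← MonoidHom.map_closure, Subgroup.closure_union, Subgroup.closure_eq,
        ← Subgroup.zpowers_eq_closure, hgen]
      exact Subgroup.map_top_of_surjective π (QuotientGroup.mk'_surjective _)
    have hc : ∀ u ∈ S, ∀ v ∈ S, u * v = v * u := by
      rintro _ ⟨u, hu, rfl⟩ _ ⟨v, hv, rfl⟩
      rcases hu with hu | hu <;> rcases hv with hv | hv
      · rw [← map_mul, ← map_mul, hcomm u hu v hv]
      · cases hv; exact (key u hu).symm
      · cases hu; exact key v hv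
      · cases hu; cases hv; rfl
    have hall : IsMulCommutative (Subgroup.closure S) := Subgroup.isMulCommutative_closure hc
    rw [commutator_def, Subgroup.commutator_le]
    intro g _ g' _
    refine (QuotientGroup.eq_one_iff _).mp ?_
    show π (g * g' * g⁻¹ * g'⁻¹) = 1
    rw [map_mul, map_mul, map_mul, map_inv, map_inv, mul_inv_eq_one, mul_inv_eq_iff_eq_mul]
    exact congrArg Subtype.val (hall.is_comm.comm ⟨π g, hS.symm ▸ Subgroup.mem_top _⟩ ⟨π g', hS.symm ▸ Subgroup.mem_top _⟩)
  refine ⟨fun a ha => hle ⟨⟨a, ha⟩, rfl⟩, ?_, ?_, ?_⟩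
  · intro c hc
    obtain ⟨a, rfl⟩ := hge hc
    exact ⟨a, a.2, rfl⟩
  · intro a ha b hb
    exact f.map_mul ⟨a, ha⟩ ⟨b, hb⟩
  · rw [le_antisymm hge hle]
    have hker : f.ker.map A.subtype = A ⊓ Subgroup.centralizer ({x} : Set G) := by
      ext a
      simp only [Subgroup.mem_map, MonoidHom.mem_ker, Subgroup.mem_inf, Subgroup.mem_centralizer_singleton_iff]
      constructor
      · rintro ⟨a, ha, rfl⟩
        refine ⟨a.2, ?_⟩
        rw [hf, mul_inv_eq_one, mul_inv_eq_iff_eq_mul] at ha
        exact ha.symm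
      · rintro ⟨ha, h⟩
        exact ⟨⟨a, ha⟩, by rw [hf]; show x * a * x⁻¹ * a⁻¹ = 1; rw [mul_inv_eq_one, mul_inv_eq_iff_eq_mul]; exact h.symm, rfl⟩
    rw [← hker, Subgroup.card_subtype, ← Subgroup.index_ker, mul_comm, Subgroup.card_mul_index]

end Cfsg.Agent.S3866
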