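import Mathlib
import Cfsg.Statements.S3867
-- import your own Cfsg.Agent.* helpers here

set_option autoImplicit false
open Cfsg

namespace Cfsg.Agent.S3867

/-- Let M and N be nontrivial normal subgroups of the finite group G with M ⊓ N trivial, and let p be a prime. Writing n(X) for the number of Sylow p-subgroups of a group X, one has n(G) · n(G/MN) = n(G/M) · n(G/N). -/
theorem result {G : Type*} [Group G] [Finite G] (p : ℕ) [Fact p.Prime] (M N : Subgroup G) [M.Normal] [N.Normal] (hM : M ≠ ⊥) (hN : N ≠ ⊥) (hMN : M ⊓ N = ⊥) : Nat.card (Sylow p G) * Nat.card (Sylow p (G ⧸ (M ⊔ N))) = Nat.card (Sylow p (G ⧸ M)) * Nat.card (Sylow p (G ⧸ N)) := by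
  classical
  obtain ⟨P⟩ : Nonempty (Sylow p G) := inferInstance
  set H := Subgroup.normalizer ((P : Subgroup G) : Set G) with hH
  have hquot : ∀ (K : Subgroup G) [K.Normal], Nat.card (Sylow p (G ⧸ K)) = (H ⊔ K).index := by
    intro K _
    have hs := QuotientGroup.mk'_surjective K
    rw [(P.mapSurjective hs).card_eq_index_normalizer, ← Subgroup.index_comap_of_surjective _ hs]
    congr 1
    show Subgroup.comap _ (Subgroup.normalizer ((((P.mapSurjective hs : Sylow p (G ⧸ K)) : Subgroup (G ⧸ K))) : Set (G ⧸ K))) = _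
    rw [Sylow.coe_mapSurjective]
    ext g
    constructor
    · intro hg
      rw [Subgroup.mem_comap, Subgroup.mem_normalizer_iff] at hg
      have hle : ((g • P : Sylow p G) : Subgroup G) ≤ (P : Subgroup G) ⊔ K := by
        rw [Sylow.coe_subgroup_smul]
        rintro _ ⟨x, hx, rfl⟩
        have := (hg (QuotientGroup.mk' K x)).mp ⟨x, hx, rfl⟩
        rw [← map_inv, ← map_mul, ← map_mul, ← Subgroup.mem_comap, Subgroup.comap_map_eq, QuotientGroup.ker_mk'] at this
        simpa using this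
      obtain ⟨m, hm⟩ := MulAction.exists_smul_eq ↥((P : Subgroup G) ⊔ K)
        (P.subtype le_sup_left) ((g • P).subtype hle)
      have hm' : (m : G) • P = g • P := Sylow.subtype_injective ((Sylow.smul_subtype le_sup_left m).symm.trans hm)
      · have hmem : g⁻¹ * (m : G) ∈ H :=
          Sylow.smul_eq_iff_mem_normalizer.mp (by rw [mul_smul, hm', inv_smul_smul])
        have : g = (m : G) * (g⁻¹ * (m : G))⁻¹ := by group
        rw [this]
        exact Subgroup.mul_mem _ (sup_le_sup_right Subgroup.le_normalizer K m.2)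
          (Subgroup.mem_sup_left (inv_mem hmem))
    · intro hg
      rw [Subgroup.mem_comap]
      obtain ⟨a, ha, b, hb, rfl⟩ := Subgroup.mem_sup_of_normal_right.mp hg
      rw [map_mul, show QuotientGroup.mk' K b = 1 from (QuotientGroup.eq_one_iff b).mpr hb, mul_one]
      exact Subgroup.le_normalizer_map _ ⟨a, ha, rfl⟩
  rw [P.card_eq_index_normalizer, hquot (M ⊔ N), hquot M, hquot N]
  show H.index * _ = _
  have hcommMN : ∀ m ∈ M, ∀ n ∈ N, m * n = n * m := fun m hm n hn =>
    Subgroup.commute_of_normal_of_disjoint M N inferInstance inferInstance (disjoint_iff.mpr hMN) m n hm hn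
  have key : M ⊓ (H ⊔ N) ≤ H := by
    rintro m ⟨hm, hmS⟩
    obtain ⟨h, hh, n, hn, hmn⟩ := Subgroup.mem_sup_of_normal_right.mp hmS
    refine Sylow.smul_eq_iff_mem_normalizer.mp ?_
    set PM : Subgroup G := (P : Subgroup G) ⊔ M
    set PN : Subgroup G := (P : Subgroup G) ⊔ N
    have hsub : ((m • P : Sylow p G) : Subgroup G) ≤ PM ⊓ PN := by
      rw [Sylow.coe_subgroup_smul]
      rintro _ ⟨x, hx, rfl⟩
      refine ⟨?_, ?_⟩
      · have : m ∈ PM := Subgroup.mem_sup_right hm
        exact PM.mul_mem (PM.mul_mem this (Subgroup.mem_sup_left hx)) (PM.inv_mem this)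
      · have hnP : n ∈ PN := Subgroup.mem_sup_right hn
        have e : m * x * m⁻¹ = (h * (n * x * n⁻¹) * h⁻¹) := by rw [← hmn]; group
        show m * x * m⁻¹ ∈ PN
        rw [e]
        have hin : n * x * n⁻¹ ∈ PN := mul_mem (mul_mem hnP (Subgroup.mem_sup_left hx)) (inv_mem hnP)
        obtain ⟨y, hy, z, hz, hyz⟩ := Subgroup.mem_sup_of_normal_right.mp hin
        rw [← hyz, show h * (y * z) * h⁻¹ = (h * y * h⁻¹) * (h * z * h⁻¹) by group]
        exact mul_mem (Subgroup.mem_sup_left ((Subgroup.mem_normalizer_iff.mp hh y).mp hy))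
          (Subgroup.mem_sup_right (Subgroup.Normal.conj_mem inferInstance z hz h))
    have hX : IsPGroup p ↥(PM ⊓ PN) := by
      intro z
      obtain ⟨hzM, hzN⟩ := z.2
      obtain ⟨a, ha, u, hu, e1⟩ := Subgroup.mem_sup_of_normal_right.mp hzM
      obtain ⟨b, hb, v, hv, e2⟩ := Subgroup.mem_sup_of_normal_right.mp hzN
      obtain ⟨i, hi⟩ := IsPGroup.map P.isPGroup' (QuotientGroup.mk' M) ⟨_, a, ha, rfl⟩
      obtain ⟨j, hj⟩ := IsPGroup.map P.isPGroup' (QuotientGroup.mk' N) ⟨_, b, hb, rfl⟩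
      refine ⟨i + j, Subtype.ext ?_⟩
      have h1 : ((z : G)) ^ p ^ i ∈ M := by
        rw [← QuotientGroup.eq_one_iff, QuotientGroup.mk_pow, ← e1, QuotientGroup.mk_mul,
          (QuotientGroup.eq_one_iff u).mpr hu, mul_one]
        exact congrArg Subtype.val hi
      have h2 : ((z : G)) ^ p ^ j ∈ N := by
        rw [← QuotientGroup.eq_one_iff, QuotientGroup.mk_pow, ← e2, QuotientGroup.mk_mul,
          (QuotientGroup.eq_one_iff v).mpr hv, mul_one]
        exact congrArg Subtype.val hj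
      have h3 : ((z : G)) ^ p ^ (i + j) ∈ M ⊓ N := by
        refine ⟨?_, ?_⟩
        · rw [pow_add, pow_mul]; exact M.pow_mem h1 _
        · rw [pow_add, mul_comm, pow_mul]; exact N.pow_mem h2 _
      rw [hMN, Subgroup.mem_bot] at h3
      simpa using h3
    refine Sylow.ext ?_
    rw [P.is_maximal' hX (le_inf le_sup_left le_sup_left)] at hsub
    exact ((m • P).is_maximal' P.isPGroup' hsub).symm
  have e1 : H.relIndex (H ⊔ M) = (H ⊔ N).relIndex (H ⊔ (M ⊔ N)) := by
    have a1 : H.relIndex (H ⊔ M) * M.relIndex H = (H ⊓ M).relIndex M * M.relIndex H := by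
      have e := Subgroup.relIndex_mul_relIndex (H ⊓ M) H (H ⊔ M) inf_le_left le_sup_left
      have e' := Subgroup.relIndex_mul_relIndex (H ⊓ M) M (H ⊔ M) inf_le_right le_sup_right
      rw [Subgroup.inf_relIndex_left] at e
      rw [Subgroup.relIndex_sup_right] at e'
      rw [mul_comm, e, ← e']
    have a2 : (H ⊔ N).relIndex (H ⊔ N ⊔ M) * M.relIndex (H ⊔ N) = ((H ⊔ N) ⊓ M).relIndex M * M.relIndex (H ⊔ N) := by
      have e := Subgroup.relIndex_mul_relIndex ((H ⊔ N) ⊓ M) (H ⊔ N) (H ⊔ N ⊔ M) inf_le_left le_sup_left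
      have e' := Subgroup.relIndex_mul_relIndex ((H ⊔ N) ⊓ M) M (H ⊔ N ⊔ M) inf_le_right le_sup_right
      rw [Subgroup.inf_relIndex_left] at e
      rw [Subgroup.relIndex_sup_right] at e'
      rw [mul_comm, e, ← e']
    have h1 := mul_right_cancel₀ (Subgroup.index_ne_zero_of_finite (H := M.subgroupOf _)) a1
    have h2 := mul_right_cancel₀ (Subgroup.index_ne_zero_of_finite (H := M.subgroupOf _)) a2
    have h3 : (H ⊔ N) ⊓ M = H ⊓ M :=
      le_antisymm (le_inf ((inf_comm _ _).le.trans key) inf_le_right) (inf_le_inf_right _ le_sup_left)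
    rw [h1, show H ⊔ (M ⊔ N) = H ⊔ N ⊔ M by ac_rfl, h2, h3]
  calc H.index * (H ⊔ (M ⊔ N)).index
      = H.relIndex (H ⊔ M) * (H ⊔ M).index * (H ⊔ (M ⊔ N)).index := by
        rw [Subgroup.relIndex_mul_index le_sup_left]
    _ = (H ⊔ M).index * ((H ⊔ N).relIndex (H ⊔ (M ⊔ N)) * (H ⊔ (M ⊔ N)).index) := by rw [e1]; ring
    _ = _ := by rw [Subgroup.relIndex_mul_index (sup_le_sup_left le_sup_right _)]

end Cfsg.Agent.S3867
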