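import Mathlib
import Cfsg.Agent.Lib.MinNonPClosed71
import Cfsg.Statements.S3868
-- import your own Cfsg.Agent.* helpers here

set_option autoImplicit false
open Cfsg

namespace Cfsg.Agent.S3868

/-- Structure of the non-simple minimal non-p-closed groups. Call a finite group p-closed when its Sylow p-subgroups are normal, and minimal non-p-closed when it is not p-closed but every proper subgroup and every proper quotient is. If such a group G is not simple, then there is a prime q ≠ p such that G has order p · q^e, where e is the multiplicative order of q modulo p, and G has a normal subgroup A of order q^e that is elementary abelian and is a minimal normal subgroup of G (so G is the semidirect product of A by a group of order p acting irreducibly). -/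
theorem result {G : Type*} [Group G] [Finite G] {p : ℕ} [Fact p.Prime]
    (hnc : ¬ Cfsg.IsPClosed p G) (hsub : ∀ H : Subgroup G, H ≠ ⊤ → Cfsg.IsPClosed p ↥H)
    (hquo : ∀ (N : Subgroup G) [N.Normal], N ≠ ⊥ → Cfsg.IsPClosed p (G ⧸ N)) (hns : ¬ IsSimpleGroup G) :
    ∃ q : ℕ, q.Prime ∧ q ≠ p ∧ Nat.card G = p * q ^ orderOf (q : ZMod p) ∧
      ∃ A : Subgroup G, A.Normal ∧ Nat.card ↥A = q ^ orderOf (q : ZMod p) ∧ Cfsg.IsElementaryAbelian q A ∧
        ∀ B : Subgroup G, B.Normal → B ≤ A → B = ⊥ ∨ B = A := by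
  classical
  have hp : p.Prime := Fact.out
  obtain ⟨P, hPn⟩ : ∃ P : Sylow p G, ¬ (P : Subgroup G).Normal := by
    by_contra h
    push Not at h
    exact hnc h
  haveI : Nontrivial G := by
    by_contra h
    rw [not_nontrivial_iff_subsingleton] at h
    exact hPn (by rw [Subsingleton.elim (P : Subgroup G) ⊤]; infer_instance)
  obtain ⟨K, hKn, hK1, hK2⟩ : ∃ K : Subgroup G, K.Normal ∧ K ≠ ⊥ ∧ K ≠ ⊤ := by
    by_contra h
    push Not at h
    exact hns ⟨fun H hH => (em (H = ⊥)).imp id fun hb => h H hH hb⟩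
  obtain ⟨N, hNK, hNmin⟩ :=
    exists_minimal_le_of_wellFoundedLT (fun H : Subgroup G => H.Normal ∧ H ≠ ⊥) K ⟨hKn, hK1⟩
  haveI : N.Normal := hNmin.prop.1
  have hN : N ≠ ⊥ := hNmin.prop.2
  have hNtop : N ≠ ⊤ := fun h => hK2 (top_le_iff.mp (h ▸ hNK))
  have hmin : ∀ B : Subgroup G, B.Normal → B ≤ N → B = ⊥ ∨ B = N := fun B hB hle =>
    (em (B = ⊥)).imp id fun hb => le_antisymm hle (hNmin.2 ⟨hB, hb⟩ hle)
  -- lifting normality from a quotient
  have lift : ∀ (M : Subgroup G) [M.Normal], M ≠ ⊥ → ((P : Subgroup G) ⊔ M).Normal := by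
    intro M _ hM
    have h1 := hquo M hM (P.mapSurjective (QuotientGroup.mk'_surjective M))
    rw [Sylow.coe_mapSurjective] at h1
    have h2 := h1.comap (QuotientGroup.mk' M)
    rwa [Subgroup.comap_map_eq, QuotientGroup.ker_mk'] at h2
  have hPN : (P : Subgroup G) ⊔ N = ⊤ := by
    by_contra h
    haveI := lift N hN
    have hn := hsub _ h (P.subtype (le_sup_left : (P : Subgroup G) ≤ (P : Subgroup G) ⊔ N))
    rw [Sylow.coe_subtype, Subgroup.normal_subgroupOf_iff_le_normalizer le_sup_left] at hn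
    have h2 := Sylow.normalizer_sup_eq_top' P (le_sup_left : (P : Subgroup G) ≤ (P : Subgroup G) ⊔ N)
    exact hPn (Subgroup.normalizer_eq_top_iff.mp (top_le_iff.mp (h2.symm.le.trans (sup_le le_rfl hn))))
  have hpN : ¬ p ∣ Nat.card N := by
    intro hd
    obtain ⟨Q⟩ : Nonempty (Sylow p N) := inferInstance
    have hQn : ((Q : Subgroup N).map N.subtype).Normal := by
      haveI : (Q : Subgroup N).Normal := hsub N hNtop Q
      haveI : (Q : Subgroup N).Characteristic := Q.characteristic_of_normal inferInstance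
      exact ConjAct.normal_of_characteristic_of_normal
    rcases hmin _ hQn (Subgroup.map_subtype_le _) with h | h
    · rw [Subgroup.map_eq_bot_iff_of_injective _ N.subtype_injective] at h
      refine Q.not_dvd_index ?_
      rwa [h, Subgroup.index_bot]
    · have hp' : IsPGroup p N := h ▸ Q.isPGroup'.map _
      obtain ⟨R, hR⟩ := hp'.exists_le_sylow
      obtain ⟨g, hg⟩ := MulAction.exists_smul_eq G R P
      have hNP : N ≤ (P : Subgroup G) := by
        rw [← hg, Sylow.coe_subgroup_smul]
        intro n hn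
        exact ⟨g⁻¹ * n * g, hR (by simpa using Subgroup.Normal.conj_mem (inferInstance : N.Normal) n hn g⁻¹),
          by simp [mul_assoc]⟩
      rw [sup_eq_left.mpr hNP] at hPN
      exact hPn (hPN ▸ inferInstance)
  have hdisj : (P : Subgroup G) ⊓ N = ⊥ := by
    refine (Subgroup.disjoint_of_coprime_natCard ?_).eq_bot
    obtain ⟨k, hk⟩ := IsPGroup.iff_card.mp P.isPGroup'
    rw [hk]
    exact (hp.coprime_iff_not_dvd.mpr hpN).pow_left k
  -- a `p`-subgroup normalized by `N` inside a proper subgroup containing `N` centralizes `N`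
  have cent : ∀ (R B : Subgroup G), R ≤ P → B ≤ N → R ≤ Subgroup.normalizer (B : Set G) →
      R ⊔ B ≠ ⊤ → R ≤ Subgroup.centralizer (B : Set G) := by
    intro R B hR hB hRB hne
    have hnr : B.subgroupOf (R ⊔ B) |>.Normal :=
      (Subgroup.normal_subgroupOf_iff_le_normalizer le_sup_right).mpr (sup_le hRB Subgroup.le_normalizer)
    obtain ⟨Q, hQ⟩ : ∃ Q : Sylow p ↥(R ⊔ B), R.subgroupOf (R ⊔ B) ≤ (Q : Subgroup _) :=
      IsPGroup.exists_le_sylow (P.isPGroup'.to_le hR).comap_subtype
    have hQn : (Q : Subgroup ↥(R ⊔ B)).Normal := hsub _ hne Q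
    have hd : Disjoint (Q : Subgroup ↥(R ⊔ B)) (B.subgroupOf (R ⊔ B)) := by
      refine Subgroup.disjoint_of_coprime_natCard ?_
      obtain ⟨k, hk⟩ := IsPGroup.iff_card.mp Q.isPGroup'
      rw [hk, Nat.card_congr (Subgroup.subgroupOfEquivOfLe le_sup_right).toEquiv]
      exact (hp.coprime_iff_not_dvd.mpr fun h => hpN (h.trans (Subgroup.card_dvd_of_le hB))).pow_left k
    intro r hr
    refine Subgroup.mem_centralizer_iff.mpr fun b hb => ?_
    have := Subgroup.commute_of_normal_of_disjoint _ _ hQn hnr hd ⟨r, Subgroup.mem_sup_left hr⟩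
      ⟨b, Subgroup.mem_sup_right hb⟩ (hQ hr) hb
    exact congrArg Subtype.val this.eq.symm
  have hNn : Subgroup.normalizer (N : Set G) = ⊤ := Subgroup.normalizer_eq_top_iff.mpr inferInstance
  have hfaith : (P : Subgroup G) ⊓ Subgroup.centralizer (N : Set G) = ⊥ := by
    by_contra h
    set C := (P : Subgroup G) ⊓ Subgroup.centralizer (N : Set G) with hC
    haveI : C.Normal := by
      refine Subgroup.normalizer_eq_top_iff.mp (top_le_iff.mp (hPN.symm.le.trans (sup_le ?_ ?_)))
      · intro y hy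
        refine Subgroup.mem_normalizer_fintype fun c hc => ⟨(P : Subgroup G).mul_mem ((P : Subgroup G).mul_mem hy hc.1) ((P : Subgroup G).inv_mem hy), ?_⟩
        exact Subgroup.Normal.conj_mem inferInstance c hc.2 y
      · refine le_trans ?_ (Subgroup.centralizer_le_normalizer _)
        exact fun n hn => Subgroup.mem_centralizer_iff.mpr fun c hc =>
          (Subgroup.mem_centralizer_iff.mp hc.2 n hn).symm
    have h1 := lift C h
    rw [sup_eq_left.mpr (inf_le_left : C ≤ (P : Subgroup G))] at h1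
    exact hPn h1
  haveI : Nontrivial (P : Subgroup G) := by
    rw [Subgroup.nontrivial_iff_ne_bot]
    exact fun h => hPn (h ▸ inferInstance)
  obtain ⟨x, hx⟩ := exists_prime_orderOf_dvd_card' (G := (P : Subgroup G)) p
    (P.isPGroup'.card_eq_or_dvd.resolve_left (Finite.one_lt_card (α := (P : Subgroup G))).ne')
  have hxo : orderOf (x : G) = p := by rw [Subgroup.orderOf_coe, hx]
  have hxP : Subgroup.zpowers (x : G) ≤ (P : Subgroup G) := Subgroup.zpowers_le.mpr x.2
  have htop : N ⊔ Subgroup.zpowers (x : G) = ⊤ := by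
    by_contra h
    have h1 := cent _ N hxP le_rfl (hNn ▸ le_top) (by rwa [sup_comm])
    have h2 : (x : G) ∈ (⊥ : Subgroup G) := hfaith ▸ ⟨x.2, h1 (Subgroup.mem_zpowers _)⟩
    rw [Subgroup.mem_bot.mp h2, orderOf_one] at hxo
    exact hp.ne_one hxo.symm
  refine Cfsg.Agent.MinNonPClosed71.structure_of_minimal N hN hmin x hxo hpN htop ?_ ?_
  · intro h
    have h2 : (x : G) ∈ (⊥ : Subgroup G) := hfaith ▸ ⟨x.2, h⟩
    rw [Subgroup.mem_bot.mp h2, orderOf_one] at hxo
    exact hp.ne_one hxo.symm
  · intro B hB hne hxB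
    refine cent _ B hxP hB (Subgroup.zpowers_le.mpr (Subgroup.mem_normalizer_fintype hxB)) ?_ (Subgroup.mem_zpowers _)
    intro h
    refine hne (le_antisymm hB fun n hn => ?_)
    have hn' : n ∈ Subgroup.zpowers (x : G) ⊔ B := h ▸ Subgroup.mem_top n
    rw [← SetLike.mem_coe, Subgroup.coe_mul_of_left_le_normalizer_right _ _
      (Subgroup.zpowers_le.mpr (Subgroup.mem_normalizer_fintype hxB))] at hn'
    obtain ⟨u, hu, b, hb, rfl⟩ := hn'
    have hu' : u ∈ (P : Subgroup G) ⊓ N :=
      ⟨hxP hu, by simpa using N.mul_mem hn (N.inv_mem (hB hb))⟩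
    rw [hdisj, Subgroup.mem_bot] at hu'
    simpa [hu'] using hb

end Cfsg.Agent.S3868
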