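import Mathlib
import Cfsg.Agent.Lib.MinNonPClosed71
import Cfsg.Statements.S3869
-- import your own Cfsg.Agent.* helpers here

set_option autoImplicit false
open Cfsg

namespace Cfsg.Agent.S3869

/-- Let p and q be distinct primes and G a finite non-abelian group with a normal elementary abelian q-subgroup A that is a minimal normal subgroup of G and has index p. Then A has order q^e with e the multiplicative order of q modulo p, and G is minimal non-p-closed: its Sylow p-subgroups are not normal, while in every proper subgroup and in every proper quotient of G the Sylow p-subgroups are normal. -/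
theorem result {G : Type*} [Group G] [Finite G] {p q : ℕ} [Fact p.Prime] (hq : q.Prime) (hpq : q ≠ p)
    (hna : ¬ IsMulCommutative G) (A : Subgroup G) [A.Normal] (hA : Cfsg.IsElementaryAbelian q A) (hidx : A.index = p)
    (hmin : ∀ B : Subgroup G, B.Normal → B ≤ A → B = ⊥ ∨ B = A) :
    Nat.card ↥A = q ^ orderOf (q : ZMod p) ∧ ¬ Cfsg.IsPClosed p G ∧ (∀ H : Subgroup G, H ≠ ⊤ → Cfsg.IsPClosed p ↥H) ∧
      ∀ (N : Subgroup G) [N.Normal], N ≠ ⊥ → Cfsg.IsPClosed p (G ⧸ N) := by
  classical
  have hp : p.Prime := Fact.out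
  haveI := Fact.mk hq
  have hAab := hA.1
  obtain ⟨d, hd⟩ : ∃ d, Nat.card A = q ^ d :=
    IsPGroup.iff_card.mp (fun a : A => ⟨1, Subtype.ext (by simpa using hA.2 a a.2)⟩)
  have hpA : ¬ p ∣ Nat.card A := by
    rw [hd]
    exact fun h => hpq ((Nat.prime_dvd_prime_iff_eq hp hq).mp (hp.dvd_of_dvd_pow h)).symm
  have hAtop : A ≠ ⊤ := by
    rintro rfl
    rw [Subgroup.index_top] at hidx
    exact hp.ne_one hidx.symm
  have gen : ∀ y : G, y ∉ A → A ⊔ Subgroup.zpowers y = ⊤ := by
    intro y hy
    have hlt : A < A ⊔ Subgroup.zpowers y :=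
      left_lt_sup.mpr fun h => hy (h (Subgroup.mem_zpowers y))
    have h1 := Subgroup.index_dvd_of_le hlt.le
    rw [hidx] at h1
    rcases (Nat.dvd_prime hp).mp h1 with h | h
    · exact Subgroup.index_eq_one.mp h
    · have h2 := Subgroup.relIndex_mul_index hlt.le
      rw [h, hidx] at h2
      exact absurd (Subgroup.relIndex_eq_one.mp (mul_right_cancel₀ hp.ne_zero (h2.trans (one_mul p).symm))) hlt.not_ge
  have notcomm : ∀ y : G, y ∉ A → ∃ a ∈ A, y * a ≠ a * y := by
    intro y hy
    by_contra h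
    push Not at h
    apply hna
    have hS : ∀ u ∈ ((A : Set G) ∪ {y}), ∀ v ∈ ((A : Set G) ∪ {y}), u * v = v * u := by
      rintro u (hu | hu) v (hv | hv)
      · exact congrArg Subtype.val (hAab.is_comm.comm ⟨u, hu⟩ ⟨v, hv⟩)
      · cases hv; exact (h u hu).symm
      · cases hu; exact h v hv
      · cases hu; cases hv; rfl
    have hcl := Subgroup.isMulCommutative_closure hS
    have htop : Subgroup.closure ((A : Set G) ∪ {y}) = ⊤ := by
      rw [Subgroup.closure_union, Subgroup.closure_eq, ← Subgroup.zpowers_eq_closure, gen y hy]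
    rw [htop] at hcl
    exact ⟨⟨fun a b => congrArg Subtype.val (hcl.is_comm.comm ⟨a, Subgroup.mem_top a⟩ ⟨b, Subgroup.mem_top b⟩)⟩⟩
  obtain ⟨x, -, hx⟩ := SetLike.exists_of_lt hAtop.lt_top
  have norm : ∀ (y : G), y ∉ A → ∀ B : Subgroup G, B ≤ A → (∀ b ∈ B, y * b * y⁻¹ ∈ B) → B.Normal := by
    intro y hy B hB hyB
    refine Subgroup.normalizer_eq_top_iff.mp (top_le_iff.mp ((gen y hy).symm.le.trans (sup_le ?_ ?_)))
    · refine le_trans ?_ (Subgroup.centralizer_le_normalizer _)
      exact fun a ha => Subgroup.mem_centralizer_iff.mpr fun b hb =>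
        congrArg Subtype.val (hAab.is_comm.comm ⟨b, hB hb⟩ ⟨a, ha⟩)
    · rw [Subgroup.zpowers_le]
      exact Subgroup.mem_normalizer_fintype hyB
  have hirr : ∀ B : Subgroup G, B ≤ A → (∀ b ∈ B, x * b * x⁻¹ ∈ B) → B = ⊥ ∨ B = A :=
    fun B hB hxB => hmin B (norm x hx B hB hxB) hB
  refine ⟨Cfsg.Agent.MinNonPClosed71.card_eq_pow_orderOf hq hpq A hA x
    (fun a ha => Subgroup.Normal.conj_mem inferInstance a ha x)
    (fun a ha => congrArg Subtype.val (hAab.is_comm.comm ⟨x ^ p, hidx ▸ A.pow_index_mem x⟩ ⟨a, ha⟩))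
    (notcomm x hx) hirr, ?_, ?_, ?_⟩
  · intro hcl
    obtain ⟨P⟩ : Nonempty (Sylow p G) := inferInstance
    have hPn := hcl P
    have hdisj : Disjoint A (P : Subgroup G) := by
      refine Subgroup.disjoint_of_coprime_natCard ?_
      obtain ⟨k, hk⟩ := IsPGroup.iff_card.mp P.isPGroup'
      rw [hk]
      exact ((hp.coprime_iff_not_dvd.mpr hpA).pow_left k).symm
    obtain ⟨y, hy, hyA⟩ : ∃ y ∈ (P : Subgroup G), y ∉ A := by
      by_contra h
      push Not at h
      have : (P : Subgroup G) = ⊥ := disjoint_self.mp (hdisj.mono_left h)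
      refine P.not_dvd_index ?_
      rw [this, Subgroup.index_bot, ← A.card_mul_index, hidx]
      exact dvd_mul_left p _
    obtain ⟨a, ha, hne⟩ := notcomm y hyA
    exact hne (Subgroup.commute_of_normal_of_disjoint A (P : Subgroup G) inferInstance hPn hdisj a y ha hy).symm
  · intro H hH Q
    by_cases hpH : p ∣ Nat.card H
    · obtain ⟨y, hy⟩ := exists_prime_orderOf_dvd_card' (G := H) p hpH
      have hyA : (y : G) ∉ A := fun h => hpA (by
        rw [← hy, ← Subgroup.orderOf_coe]; exact Subgroup.orderOf_dvd_natCard A h)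
      have hinf : (H ⊓ A).Normal := norm y hyA _ inf_le_right fun b hb =>
        ⟨H.mul_mem (H.mul_mem y.2 hb.1) (H.inv_mem y.2), Subgroup.Normal.conj_mem inferInstance b hb.2 _⟩
      rcases hmin _ hinf inf_le_right with h | h
      · have hHp : IsPGroup p H := by
          refine fun z => ⟨1, Subtype.ext ?_⟩
          have : ((z : G)) ^ p ∈ H ⊓ A := ⟨H.pow_mem z.2 p, hidx ▸ A.pow_index_mem _⟩
          rw [h, Subgroup.mem_bot] at this
          simpa using this
        have hQ : (Q : Subgroup H) = ⊤ := (Q.is_maximal' (hHp.to_subgroup ⊤) le_top).symm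
        rw [hQ]; infer_instance
      · exact absurd (top_le_iff.mp ((gen y hyA).symm.le.trans
          (sup_le (h.symm.le.trans inf_le_left) (Subgroup.zpowers_le.mpr y.2)))) hH
    · obtain ⟨k, hk⟩ := IsPGroup.iff_card.mp Q.isPGroup'
      have hQ : (Q : Subgroup H) = ⊥ := by
        rcases Nat.eq_zero_or_pos k with rfl | hk0
        · exact Subgroup.eq_bot_of_card_eq _ (by simpa using hk)
        · exact absurd ((dvd_pow_self p hk0.ne').trans (hk ▸ Subgroup.card_subgroup_dvd_card (Q : Subgroup H))) hpH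
      rw [hQ]; infer_instance
  · intro N hNn hN
    rcases hmin _ (Subgroup.normal_inf_normal A N) inf_le_left with h | h
    · exfalso
      obtain ⟨y, hy, hy1⟩ := (Subgroup.bot_or_exists_ne_one N).resolve_left hN
      have hyA : y ∉ A := fun hA' => hy1 (by
        have : y ∈ A ⊓ N := ⟨hA', hy⟩
        rwa [h, Subgroup.mem_bot] at this)
      obtain ⟨a, ha, hne⟩ := notcomm y hyA
      exact hne (Subgroup.commute_of_normal_of_disjoint A N inferInstance hNn (disjoint_iff.mpr h) a y ha hy).symm
    · intro Q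
      have hpq' : IsPGroup p (G ⧸ N) := by
        intro z
        obtain ⟨g, rfl⟩ := QuotientGroup.mk_surjective z
        refine ⟨1, ?_⟩
        rw [pow_one, ← QuotientGroup.mk_pow, QuotientGroup.eq_one_iff]
        exact (inf_eq_left.mp h : A ≤ N) (hidx ▸ A.pow_index_mem g)
      have hQ : (Q : Subgroup (G ⧸ N)) = ⊤ := (Q.is_maximal' (hpq'.to_subgroup ⊤) le_top).symm
      rw [hQ]; infer_instance

end Cfsg.Agent.S3869
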