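import Mathlib
import Cfsg.Statements.S3870
-- import your own Cfsg.Agent.* helpers here

set_option autoImplicit false
open Cfsg

namespace Cfsg.Agent.S3870

/-- Let G be a finite simple group whose Sylow p-subgroups are not normal but such that every proper subgroup of G has a normal Sylow p-subgroup. Then any two distinct Sylow p-subgroups of G intersect trivially, and for every Sylow p-subgroup P the normalizer of every non-identity subgroup of P lies in the normalizer of P. -/
theorem result {G : Type*} [Group G] [Finite G] [IsSimpleGroup G] {p : ℕ} [Fact p.Prime]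
    (hnc : ¬ Cfsg.IsPClosed p G) (hsub : ∀ H : Subgroup G, H ≠ ⊤ → Cfsg.IsPClosed p ↥H) :
    (∀ P Q : Sylow p G, P ≠ Q → (P : Subgroup G) ⊓ (Q : Subgroup G) = ⊥) ∧
      ∀ (P : Sylow p G) (R : Subgroup G), R ≤ P → R ≠ ⊥ →
        Subgroup.normalizer (R : Set G) ≤ Subgroup.normalizer ((P : Subgroup G) : Set G) := by
  classical
  have hsyl : ∀ H : Subgroup G, H ≠ ⊤ → ∀ A B : Sylow p H, A = B := by
    intro H hH A B
    have := Sylow.unique_of_normal A (hsub H hH A)
    exact Subsingleton.elim _ _
  have hPsimple : ∀ P : Sylow p G, ∀ R : Subgroup G, R ≤ P → R ≠ ⊥ → Subgroup.normalizer (R : Set G) ≠ ⊤ := by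
    intro P R hRP hR h
    have hn := Subgroup.normalizer_eq_top_iff.mp h
    rcases IsSimpleGroup.eq_bot_or_eq_top_of_normal R hn with h' | h'
    · exact hR h'
    · apply hnc
      intro Q
      have hP : (P : Subgroup G) = ⊤ := top_le_iff.mp (h' ▸ hRP)
      have hu := Sylow.unique_of_normal P (hP ▸ inferInstance)
      rw [Subsingleton.elim Q P, hP]
      infer_instance
  have hTI : ∀ P Q : Sylow p G, P ≠ Q → (P : Subgroup G) ⊓ (Q : Subgroup G) = ⊥ := by
    suffices hh : ∀ n : ℕ, ∀ P Q : Sylow p G, P ≠ Q →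
        Nat.card G - Nat.card ((P : Subgroup G) ⊓ (Q : Subgroup G) : Subgroup G) = n →
        (P : Subgroup G) ⊓ (Q : Subgroup G) = ⊥ from fun P Q h => hh _ P Q h rfl
    intro n
    induction n using Nat.strong_induction_on with
    | _ n ih =>
      intro P Q hPQ hn
      by_contra hD
      set D : Subgroup G := (P : Subgroup G) ⊓ (Q : Subgroup G) with hDdef
      have hN : Subgroup.normalizer (D : Set G) ≠ ⊤ := hPsimple P D inf_le_left hD
      set N := Subgroup.normalizer (D : Set G) with hNdef
      have step : ∀ S : Sylow p G, D < (S : Subgroup G) → ∃ T : Subgroup G, T = (S : Subgroup G) ⊓ N ∧ D < T := by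
        intro S hS
        refine ⟨_, rfl, lt_of_le_of_ne (le_inf hS.le Subgroup.le_normalizer) fun he => ?_⟩
        have hnil : Group.IsNilpotent (S : Subgroup G) := S.isPGroup'.isNilpotent
        have hlt : D.subgroupOf S < ⊤ :=
          lt_top_iff_ne_top.mpr fun h => hS.not_ge (Subgroup.subgroupOf_eq_top.mp h)
        obtain ⟨x, hx, hxD⟩ := SetLike.exists_of_lt (Group.normalizerCondition_of_isNilpotent (D.subgroupOf (S : Subgroup G)) hlt)
        refine hxD ?_
        rw [Subgroup.mem_subgroupOf, he]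
        refine Subgroup.mem_inf.mpr ⟨x.2, Subgroup.mem_normalizer_iff.mpr ?_⟩
        intro y
        rw [Subgroup.mem_normalizer_iff] at hx
        constructor
        · intro hy
          exact (hx ⟨y, hS.le hy⟩).mp hy
        · intro hy
          have hyS : y ∈ (S : Subgroup G) := by
            have := (S : Subgroup G).mul_mem ((S : Subgroup G).mul_mem (inv_mem x.2) (hS.le hy)) x.2
            simpa [mul_assoc] using this
          exact (hx ⟨y, hyS⟩).mpr hy
      have hDP : D < (P : Subgroup G) := lt_of_le_of_ne inf_le_left fun he => hPQ (Sylow.ext (P.is_maximal' Q.isPGroup' (he ▸ inf_le_right)).symm)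
      have hDQ : D < (Q : Subgroup G) := lt_of_le_of_ne inf_le_right fun he => hPQ (Sylow.ext (Q.is_maximal' P.isPGroup' (he ▸ inf_le_left)))
      obtain ⟨TP, hTP, hTP'⟩ := step P hDP
      obtain ⟨TQ, hTQ, hTQ'⟩ := step Q hDQ
      obtain ⟨A⟩ : Nonempty (Sylow p N) := inferInstance
      have hmem : ∀ T : Subgroup G, IsPGroup p T → T ≤ N → T ≤ (A : Subgroup N).map N.subtype := by
        intro T hT hTN
        obtain ⟨B, hB⟩ := (hT.comap_subtype (H := T) (K := N)).exists_le_sylow
        rw [hsyl N hN B A] at hB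
        exact (Subgroup.subgroupOf_map_subtype T N).ge.trans' (le_inf le_rfl hTN) |>.trans (Subgroup.map_mono hB)
      have hA : IsPGroup p ((A : Subgroup N).map N.subtype) := A.isPGroup'.map _
      obtain ⟨S, hS⟩ := hA.exists_le_sylow
      have hTPS : TP ≤ (S : Subgroup G) := (hmem TP (P.isPGroup'.to_le (hTP ▸ inf_le_left)) (hTP ▸ inf_le_right)).trans hS
      have hTQS : TQ ≤ (S : Subgroup G) := (hmem TQ (Q.isPGroup'.to_le (hTQ ▸ inf_le_left)) (hTQ ▸ inf_le_right)).trans hS
      have grow : ∀ (X : Sylow p G) (T : Subgroup G), T ≤ (X : Subgroup G) → T ≤ (S : Subgroup G) → D < T → X = S := by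
        intro X T hTX hTS hDT
        by_contra hne
        have hlt : D < (X : Subgroup G) ⊓ (S : Subgroup G) := hDT.trans_le (le_inf hTX hTS)
        have hc : Nat.card D < Nat.card ((X : Subgroup G) ⊓ (S : Subgroup G) : Subgroup G) := by
          refine lt_of_le_of_ne (Subgroup.card_le_of_le hlt.le) fun he => hlt.ne ?_
          exact Subgroup.eq_of_le_of_card_ge hlt.le he.ge
        have hle := Subgroup.card_le_card_group ((X : Subgroup G) ⊓ (S : Subgroup G))
        exact hlt.ne_bot (ih _ (by omega) X S hne rfl)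
      exact hPQ ((grow P TP (hTP ▸ inf_le_left) hTPS hTP').trans (grow Q TQ (hTQ ▸ inf_le_left) hTQS hTQ').symm)
  refine ⟨hTI, fun P R hRP hR g hg => ?_⟩
  refine Sylow.smul_eq_iff_mem_normalizer.mp ?_
  by_contra hne
  refine hR (le_bot_iff.mp (hTI _ P hne ▸ le_inf ?_ hRP))
  intro r hr
  rw [Sylow.coe_subgroup_smul]
  refine ⟨g⁻¹ * r * g, hRP ?_, by simp [mul_assoc]⟩
  have := ((Subgroup.mem_normalizer_iff.mp hg) (g⁻¹ * r * g)).mpr (by simpa [mul_assoc] using hr)
  exact this

end Cfsg.Agent.S3870
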