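import Cfsg.Statements.S3872
import Cfsg.Agent.Lib.PGroupsRegular
import Cfsg.Agent.Lib.PGroupsCyclic
import Cfsg.Agent.Lib.MaxClassTwo

set_option autoImplicit false
open Cfsg

namespace Cfsg.Agent.S3872

open Cfsg.Agent.PGroupsBasic Cfsg.Agent.PGroupsCyclic Cfsg.Agent.PGroupsRegular

/-- Say that a finite group is p-exponent closed when its elements of order dividing p form a subgroup. Let G be a finite p-group that is not p-exponent closed, but all of whose proper subgroups and proper quotients are. Then G is generated by two elements, has nilpotency class at least p, has exponent p², has cyclic center, and has order at least p^(p+1). -/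
theorem result {G : Type*} [Group G] [Finite G] {p : ℕ} [Fact p.Prime] (hG : IsPGroup p G)
    (hnc : ¬ (∃ H : Subgroup G, (H : Set G) = {g : G | g ^ p = 1})) (hsub : ∀ K : Subgroup G, K ≠ ⊤ → (∃ H : Subgroup ↥K, (H : Set ↥K) = {g : ↥K | g ^ p = 1}))
    (hquo : ∀ (N : Subgroup G) [N.Normal], N ≠ ⊥ → (∃ H : Subgroup (G ⧸ N), (H : Set (G ⧸ N)) = {g : (G ⧸ N) | g ^ p = 1})) :
    (∃ x y : G, Subgroup.closure ({x, y} : Set G) = ⊤) ∧ (⊤ : Subgroup G).lowerCentralSeries (p - 1) ≠ ⊥ ∧
      Monoid.exponent G = p ^ 2 ∧ IsCyclic ↥(Subgroup.center G) ∧ p ^ (p + 1) ≤ Nat.card G := by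
  have hp' : p.Prime := Fact.out
  haveI := hG.isNilpotent
  obtain ⟨x, y, hx, hy, hxy⟩ : ∃ x y : G, x ^ p = 1 ∧ y ^ p = 1 ∧ (x * y) ^ p ≠ 1 := by
    by_contra h
    push Not at h
    exact hnc ⟨{ carrier := {g | g ^ p = 1}, one_mem' := one_pow p,
                 mul_mem' := fun {a b} ha hb => h a b ha hb,
                 inv_mem' := fun {a} (ha : a ^ p = 1) => show a⁻¹ ^ p = 1 by rw [inv_pow, ha, inv_one] }, rfl⟩
  have hclosed : ∀ {K : Type _} [Group K], (∃ H : Subgroup K, (H : Set K) = {g : K | g ^ p = 1}) →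
      ∀ {a b : K}, a ^ p = 1 → b ^ p = 1 → (a * b) ^ p = 1 := by
    rintro K _ ⟨H, hH⟩ a b ha hb
    have h1 : a ∈ (H : Set K) := by rw [hH]; exact ha
    have h2 : b ∈ (H : Set K) := by rw [hH]; exact hb
    have h3 : a * b ∈ (H : Set K) := H.mul_mem h1 h2
    rw [hH] at h3; exact h3
  have hgen : Subgroup.closure ({x, y} : Set G) = ⊤ := by
    by_contra h
    exact hxy (congrArg Subtype.val (hclosed (hsub _ h)
      (a := ⟨x, Subgroup.subset_closure (by simp)⟩) (b := ⟨y, Subgroup.subset_closure (by simp)⟩)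
      (Subtype.ext hx) (Subtype.ext hy)))
  have hquoc : ∀ (N : Subgroup G) [N.Normal], N ≠ ⊥ → (x * y) ^ p ∈ N := by
    intro N _ hN
    refine (QuotientGroup.eq_one_iff _).mp ?_
    have := hclosed (hquo N hN) (a := (x : G ⧸ N)) (b := (y : G ⧸ N))
      (by rw [← QuotientGroup.mk_pow, hx]; rfl) (by rw [← QuotientGroup.mk_pow, hy]; rfl)
    simpa using this
  have hclass : (⊤ : Subgroup G).lowerCentralSeries (p - 1) ≠ ⊥ := fun h => by
    have h' := mul_pow_eq_one hG (regAt_of_regular (regular_of_class_lt hG h) 1)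
      (u := x) (v := y) (by rw [pow_one, hx]) (by rw [pow_one, hy])
    rw [pow_one] at h'
    exact hxy h'
  haveI : Nontrivial G := ⟨_, _, hxy⟩
  obtain ⟨z, hz, hzo⟩ := exists_orderOf_eq_of_ne_bot (p := p) (hG.to_subgroup (Subgroup.center G))
    (Group.IsNilpotent.center_ne_bot G)
  haveI : (Subgroup.zpowers z).Normal := normal_of_le_center (Subgroup.zpowers_le.mpr hz)
  have hzne : Subgroup.zpowers z ≠ ⊥ := fun h => by
    rw [Subgroup.zpowers_eq_bot.mp h, orderOf_one] at hzo
    exact hp'.one_lt.ne hzo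
  have hxyz : (x * y) ^ p ∈ Subgroup.zpowers z := hquoc _ hzne
  have hexp : ∀ g : G, g ^ p ^ 2 = 1 := by
    intro g
    obtain ⟨H, hH⟩ := hquo (Subgroup.zpowers z) hzne
    have hHtop : H = ⊤ := by
      rw [eq_top_iff, ← Subgroup.map_top_of_surjective _ (QuotientGroup.mk'_surjective
        (Subgroup.zpowers z)), ← hgen, MonoidHom.map_closure, Subgroup.closure_le, hH]
      rintro _ ⟨w, (rfl | rfl), rfl⟩
      · show _ ^ p = 1; rw [← map_pow, hx, map_one]
      · show _ ^ p = 1; rw [← map_pow, hy, map_one]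
    have hg : ((g : G ⧸ Subgroup.zpowers z)) ∈ (H : Set _) := hHtop ▸ Subgroup.mem_top _
    rw [hH] at hg
    have hgz : g ^ p ∈ Subgroup.zpowers z := (QuotientGroup.eq_one_iff _).mp hg
    rw [pow_two, pow_mul]
    exact (isElementaryAbelian_zpowers (hzo ▸ pow_orderOf_eq_one z)).2 _ hgz
  refine ⟨⟨x, y, hgen⟩, hclass, ?_, ?_, ?_⟩
  · obtain ⟨k, hk2, hk⟩ := (Nat.dvd_prime_pow hp').mp (Monoid.exponent_dvd_of_forall_pow_eq_one hexp)
    rcases Nat.lt_or_ge k 2 with h2 | h2
    · exfalso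
      refine hxy ?_
      obtain ⟨c, hc⟩ : Monoid.exponent G ∣ p := hk ▸ (by
        simpa using Nat.pow_dvd_pow p (show k ≤ 1 by omega))
      rw [hc, pow_mul, Monoid.pow_exponent_eq_one, one_pow]
    · rw [hk, show k = 2 by omega]
  · refine isCyclic_subgroup hG (isMulCommutative_of_forall fun a _ b hb =>
      Subgroup.mem_center_iff.mp hb a) hz (fun g hg hgp => ?_) hzo.le
    by_contra hgz
    have hgo := orderOf_eq_of_pow_eq_one hgp (fun h => hgz (h ▸ one_mem _))
    haveI : (Subgroup.zpowers g).Normal := normal_of_le_center (Subgroup.zpowers_le.mpr hg)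
    have h1 : (x * y) ^ p ∈ Subgroup.zpowers g := hquoc _ (fun h => by
      rw [Subgroup.zpowers_eq_bot.mp h, orderOf_one] at hgo
      exact hp'.one_lt.ne hgo)
    have hmem : (x * y) ^ p ∈ Subgroup.zpowers z ⊓ Subgroup.zpowers g := ⟨hxyz, h1⟩
    rw [inf_zpowers_eq_bot hgo hgz, Subgroup.mem_bot] at hmem
    exact hxy hmem
  · obtain ⟨m, hm⟩ := IsPGroup.iff_card.mp hG
    rw [hm]
    refine Nat.pow_le_pow_right hp'.pos ?_
    have hm2 : 2 ≤ m := by
      by_contra hlt
      have hc := (isMulCommutative_of_card_le_sq hG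
        (hm ▸ Nat.pow_le_pow_right hp'.pos (by omega))).is_comm.comm x y
      exact hxy (by rw [Commute.mul_pow hc, hx, hy, one_mul])
    have h1 := Cfsg.Agent.MaxClassTwo.nilpotencyClass_le (p := p) m G hm hm2
    have h2 : p - 1 < Group.nilpotencyClass G := by
      by_contra h
      exact hclass (Subgroup.lowerCentralSeries_eq_bot_iff_nilpotencyClass_le.mpr (not_lt.mp h))
    omega

end Cfsg.Agent.S3872
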