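import Mathlib
import Cfsg.Agent.Lib.MinNonPClosed71
import Cfsg.Statements.S3873
-- import your own Cfsg.Agent.* helpers here

set_option autoImplicit false
open Cfsg

namespace Cfsg.Agent.S3873

/-- Say that a finite group is p-exponent closed when its elements of order dividing p form a subgroup. Let G be a finite group that is not p-exponent closed, but all of whose proper subgroups and proper quotients are, and suppose G is neither simple nor a p-group. Then there is a prime q ≠ p such that G has order p · q^e, where e is the multiplicative order of q modulo p, and G has a normal elementary abelian subgroup of order q^e that is a minimal normal subgroup of G. -/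
theorem result {G : Type*} [Group G] [Finite G] {p : ℕ} [Fact p.Prime]
    (hnc : ¬ (∃ H : Subgroup G, (H : Set G) = {g : G | g ^ p = 1})) (hsub : ∀ K : Subgroup G, K ≠ ⊤ → (∃ H : Subgroup ↥K, (H : Set ↥K) = {g : ↥K | g ^ p = 1}))
    (hquo : ∀ (N : Subgroup G) [N.Normal], N ≠ ⊥ → (∃ H : Subgroup (G ⧸ N), (H : Set (G ⧸ N)) = {g : (G ⧸ N) | g ^ p = 1}))
    (hns : ¬ IsSimpleGroup G) (hnp : ¬ IsPGroup p G) :
    ∃ q : ℕ, q.Prime ∧ q ≠ p ∧ Nat.card G = p * q ^ orderOf (q : ZMod p) ∧
      ∃ A : Subgroup G, A.Normal ∧ Nat.card ↥A = q ^ orderOf (q : ZMod p) ∧ Cfsg.IsElementaryAbelian q A ∧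
        ∀ B : Subgroup G, B.Normal → B ≤ A → B = ⊥ ∨ B = A := by
  classical
  have hp : p.Prime := Fact.out
  have key : ∀ K : Subgroup G, K ≠ ⊤ → ∀ u ∈ K, ∀ v ∈ K, u ^ p = 1 → v ^ p = 1 → (u * v) ^ p = 1 := by
    intro K hK u hu v hv hup hvp
    obtain ⟨H, hH⟩ := hsub K hK
    have h1 : (⟨u, hu⟩ : K) ∈ H := (Set.ext_iff.mp hH _).mpr (Subtype.ext hup)
    have h2 : (⟨v, hv⟩ : K) ∈ H := (Set.ext_iff.mp hH _).mpr (Subtype.ext hvp)
    exact congrArg Subtype.val ((Set.ext_iff.mp hH _).mp (H.mul_mem h1 h2))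
  obtain ⟨x, y, hx, hy, hxy⟩ : ∃ x y : G, x ^ p = 1 ∧ y ^ p = 1 ∧ (x * y) ^ p ≠ 1 := by
    by_contra h
    push Not at h
    exact hnc ⟨{ carrier := {g | g ^ p = 1}, one_mem' := one_pow p,
                 mul_mem' := fun {a b} ha hb => h a b ha hb,
                 inv_mem' := fun {a} (ha : a ^ p = 1) => (by rw [inv_pow, ha, inv_one] : a⁻¹ ^ p = 1) }, rfl⟩
  have hgen : Subgroup.closure ({x, y} : Set G) = ⊤ := by
    by_contra h
    exact hxy (key _ h x (Subgroup.subset_closure (by simp)) y (Subgroup.subset_closure (by simp)) hx hy)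
  have quot : ∀ (M : Subgroup G) [M.Normal], M ≠ ⊥ → ∀ g : G, g ^ p ∈ M := by
    intro M _ hM g
    obtain ⟨H, hH⟩ := hquo M hM
    have : H.comap (QuotientGroup.mk' M) = ⊤ := by
      rw [eq_top_iff, ← hgen, Subgroup.closure_le]
      rintro z (rfl | rfl)
      · refine (Set.ext_iff.mp hH _).mpr ?_
        show ((z : G ⧸ M)) ^ p = 1
        rw [← QuotientGroup.mk_pow, hx, QuotientGroup.mk_one]
      · refine (Set.ext_iff.mp hH _).mpr ?_
        show ((z : G ⧸ M)) ^ p = 1
        rw [← QuotientGroup.mk_pow, hy, QuotientGroup.mk_one]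
    have h1 : (g : G ⧸ M) ∈ H := show g ∈ H.comap (QuotientGroup.mk' M) from this ▸ Subgroup.mem_top g
    exact (QuotientGroup.eq_one_iff _).mp ((QuotientGroup.mk_pow M g p).trans ((Set.ext_iff.mp hH _).mp h1))
  haveI : Nontrivial G := by
    refine ⟨⟨x * y, 1, fun h => hxy ?_⟩⟩
    rw [h, one_pow]
  obtain ⟨K, hKn, hK1, hK2⟩ : ∃ K : Subgroup G, K.Normal ∧ K ≠ ⊥ ∧ K ≠ ⊤ := by
    by_contra h
    push Not at h
    exact hns ⟨fun H hH => (em (H = ⊥)).imp id fun hb => h H hH hb⟩
  obtain ⟨N, hNK, hNmin⟩ :=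
    exists_minimal_le_of_wellFoundedLT (fun H : Subgroup G => H.Normal ∧ H ≠ ⊥) K ⟨hKn, hK1⟩
  haveI : N.Normal := hNmin.prop.1
  have hN : N ≠ ⊥ := hNmin.prop.2
  have hNtop : N ≠ ⊤ := fun h => hK2 (top_le_iff.mp (h ▸ hNK))
  have hmin : ∀ B : Subgroup G, B.Normal → B ≤ N → B = ⊥ ∨ B = N := fun B hB hle =>
    (em (B = ⊥)).imp id fun hb => le_antisymm hle (hNmin.2 ⟨hB, hb⟩ hle)
  have hpN : ¬ p ∣ Nat.card N := by
    intro hd
    let W : Subgroup G :=
      { carrier := {g | g ∈ N ∧ g ^ p = 1}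
        one_mem' := ⟨one_mem _, one_pow _⟩
        mul_mem' := fun {a b} ha hb => ⟨mul_mem ha.1 hb.1, key N hNtop a ha.1 b hb.1 ha.2 hb.2⟩
        inv_mem' := fun {a} ha => ⟨inv_mem ha.1, by rw [inv_pow, ha.2, inv_one]⟩ }
    have hW : W.Normal := ⟨fun a ha g => ⟨Subgroup.Normal.conj_mem inferInstance a ha.1 g, by
      rw [conj_pow, ha.2]; group⟩⟩
    rcases hmin W hW (fun a ha => ha.1) with h | h
    · obtain ⟨z, hz⟩ := exists_prime_orderOf_dvd_card' (G := N) p hd
      have : (z : G) ∈ W := ⟨z.2, by rw [← SubgroupClass.coe_pow, ← hz, pow_orderOf_eq_one]; rfl⟩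
      rw [h, Subgroup.mem_bot] at this
      rw [show z = 1 from Subtype.ext this, orderOf_one] at hz
      exact absurd hz hp.one_lt.ne
    · refine hnp fun g => ⟨2, ?_⟩
      rw [pow_two, pow_mul]
      exact (h.symm.le (quot N hN g)).2
  -- an element of order dividing `p` normalising a proper subgroup of `N` centralises it
  have cent : ∀ u : G, u ^ p = 1 → ∀ B : Subgroup G, B ≤ N → (∀ b ∈ B, u * b * u⁻¹ ∈ B) →
      B ⊔ Subgroup.zpowers u ≠ ⊤ → u ∈ Subgroup.centralizer (B : Set G) := by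
    intro u hu B hB huB hne
    refine Subgroup.mem_centralizer_iff.mpr fun b hb => ?_
    have hb' : b * u * b⁻¹ * u⁻¹ = 1 := by
      have h1 : b * u * b⁻¹ * u⁻¹ ∈ B := by
        have := B.mul_mem hb (huB _ (B.inv_mem hb))
        simpa [mul_assoc] using this
      have hmem : ∀ z ∈ B, z ∈ B ⊔ Subgroup.zpowers u := fun z hz => Subgroup.mem_sup_left hz
      have h2 := key _ hne (b * u * b⁻¹)
        (Subgroup.mul_mem _ (Subgroup.mul_mem _ (hmem b hb) (Subgroup.mem_sup_right (Subgroup.mem_zpowers u))) (Subgroup.inv_mem _ (hmem b hb)))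
        u⁻¹ (Subgroup.inv_mem _ (Subgroup.mem_sup_right (Subgroup.mem_zpowers u)))
        (by rw [conj_pow, hu]; group) (by rw [inv_pow, hu, inv_one])
      by_contra hne1
      have h3 := Subgroup.orderOf_dvd_natCard N (hB h1)
      rw [orderOf_eq_prime h2 hne1] at h3
      exact hpN h3
    rw [mul_inv_eq_one, mul_inv_eq_iff_eq_mul] at hb'
    exact hb'
  obtain ⟨z, hz, hzc⟩ : ∃ z : G, z ^ p = 1 ∧ z ∉ Subgroup.centralizer (N : Set G) := by
    by_contra h
    push Not at h
    have hcent : ∀ n ∈ N, ∀ g : G, n * g = g * n := by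
      intro n hn g
      have : g ∈ Subgroup.centralizer (N : Set G) := by
        have hle : (⊤ : Subgroup G) ≤ Subgroup.centralizer (N : Set G) := by
          rw [← hgen, Subgroup.closure_le]
          rintro w (rfl | rfl)
          · exact h w hx
          · exact h w hy
        exact hle (Subgroup.mem_top g)
      exact Subgroup.mem_centralizer_iff.mp this n hn
    obtain ⟨S⟩ : Nonempty (Sylow p G) := inferInstance
    have hsup : ∀ g : G, ∃ s ∈ (S : Subgroup G), ∃ n ∈ N, g = s * n := by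
      have : (S : Subgroup G) ⊔ N = ⊤ := by
        have hpq : IsPGroup p (G ⧸ N) := fun g => by
          obtain ⟨g, rfl⟩ := QuotientGroup.mk_surjective g
          exact ⟨1, by rw [pow_one, ← QuotientGroup.mk_pow, QuotientGroup.eq_one_iff]; exact quot N hN g⟩
        have hS : ((S.mapSurjective (QuotientGroup.mk'_surjective N)) : Subgroup (G ⧸ N)) = ⊤ :=
          ((S.mapSurjective (QuotientGroup.mk'_surjective N)).is_maximal' (hpq.to_subgroup ⊤) le_top).symm
        rw [Sylow.coe_mapSurjective] at hS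
        have h2 := congrArg (Subgroup.comap (QuotientGroup.mk' N)) hS
        rwa [Subgroup.comap_map_eq, QuotientGroup.ker_mk', Subgroup.comap_top] at h2
      intro g
      obtain ⟨s, hs, n, hn, e⟩ := Subgroup.mem_sup_of_normal_right.mp (this.symm.le (Subgroup.mem_top g))
      exact ⟨s, hs, n, hn, e.symm⟩
    have hinS : ∀ g : G, g ^ p = 1 → g ∈ (S : Subgroup G) := by
      intro g hg
      obtain ⟨s, hs, n, hn, rfl⟩ := hsup g
      rw [Commute.mul_pow (hcent n hn s).symm] at hg
      obtain ⟨k, hk⟩ := (IsPGroup.iff_orderOf.mp S.isPGroup') ⟨s, hs⟩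
      rw [Subgroup.orderOf_mk] at hk
      have h1 : orderOf n ∣ p ^ (k + 1) := by
        apply orderOf_dvd_of_pow_eq_one
        have h2 : (s ^ p * n ^ p) ^ p ^ k = 1 := by rw [hg, one_pow]
        rw [Commute.mul_pow (((Commute.pow_pow (hcent n hn s).symm _ _)))] at h2
        rwa [← pow_mul, ← pow_mul, mul_comm p, pow_mul, ← hk, pow_orderOf_eq_one, one_pow, one_mul, hk,
          ← pow_succ] at h2
      have h2 : (orderOf n).Coprime (p ^ (k + 1)) :=
        ((hp.coprime_iff_not_dvd.mpr fun h => hpN (h.trans (Subgroup.orderOf_dvd_natCard N hn))).pow_left _).symm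
      rw [show n = 1 from orderOf_eq_one_iff.mp (Nat.Coprime.eq_one_of_dvd h2 h1), mul_one]
      exact hs
    refine hnp ?_
    have : (S : Subgroup G) = ⊤ := by
      rw [eq_top_iff, ← hgen, Subgroup.closure_le]
      rintro w (rfl | rfl)
      · exact hinS w hx
      · exact hinS w hy
    intro g
    obtain ⟨k, hk⟩ := S.isPGroup' ⟨g, this ▸ Subgroup.mem_top g⟩
    exact ⟨k, congrArg Subtype.val hk⟩
  have hz1 : z ≠ 1 := fun h => hzc (h ▸ one_mem _)
  have htop : N ⊔ Subgroup.zpowers z = ⊤ := by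
    by_contra h
    exact hzc (cent z hz N le_rfl (fun b hb => Subgroup.Normal.conj_mem inferInstance b hb z) h)
  refine Cfsg.Agent.MinNonPClosed71.structure_of_minimal N hN hmin z (orderOf_eq_prime hz hz1) hpN htop hzc ?_
  intro B hB hne hzB
  refine cent z hz B hB hzB fun h => hne (le_antisymm hB fun n hn => ?_)
  have hn' : n ∈ B ⊔ Subgroup.zpowers z := h ▸ Subgroup.mem_top n
  rw [sup_comm] at hn'
  rw [← SetLike.mem_coe, Subgroup.coe_mul_of_left_le_normalizer_right _ _
    (Subgroup.zpowers_le.mpr (Subgroup.mem_normalizer_fintype hzB))] at hn'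
  obtain ⟨u, hu, b, hb, rfl⟩ := hn'
  have huN : u ∈ N := by simpa using N.mul_mem hn (N.inv_mem (hB hb))
  have hu1 : u = 1 := by
    by_contra h1
    obtain ⟨k, rfl⟩ := Subgroup.mem_zpowers_iff.mp hu
    have h2 : (z ^ k) ^ p = 1 := by rw [← zpow_natCast, ← zpow_mul, mul_comm, zpow_mul, zpow_natCast, hz, one_zpow]
    have h3 := Subgroup.orderOf_dvd_natCard N huN
    rw [orderOf_eq_prime h2 h1] at h3
    exact hpN h3
  simpa [hu1] using hb

end Cfsg.Agent.S3873
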