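import Cfsg.Agent.Lib.LeastNonPClosed40
import Cfsg.Agent.S0999
import Cfsg.Statements.S3875
-- import your own Cfsg.Agent.* helpers here

set_option autoImplicit false
open Cfsg

namespace Cfsg.Agent.S3875

theorem small_simple (p : ℕ) [Fact p.Prime] (hp : p ≠ 2) : Cfsg.Agent.LeastNonPClosed40.SmallSimple p := by
  intro S _ _ _ hc hd hb
  have hpp : p.Prime := Fact.out
  rcases Cfsg.Agent.S0999.result hc p hpp hd hb with ⟨F, _, _, hF, h3, ⟨e⟩⟩ | ⟨k, F, _, _, hF, hk, h3, ⟨e⟩⟩
  · rw [Nat.card_congr e.toEquiv, Cfsg.Agent.PSLCard.card_PSL2_odd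
      (by rw [Nat.card_eq_fintype_card, hF]; exact hpp.odd_of_ne_two hp), Nat.card_eq_fintype_card, hF]
  · have hk0 : k ≠ 0 := by rintro rfl; norm_num at hk; omega
    rw [Nat.card_congr e.toEquiv, Cfsg.Agent.PSLCard.card_PSL2_even
      (by rw [Nat.card_eq_fintype_card, hF]; exact (Nat.even_pow).mpr ⟨even_two, hk0⟩),
      Nat.card_eq_fintype_card, hF]
    have h5 : 5 ≤ p := by
      rcases Nat.lt_or_ge p 5 with h | h
      · exfalso; interval_cases p; norm_num at hpp
      · exact h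
    obtain ⟨s, hs⟩ : ∃ s, 2 ^ k = s + 1 := ⟨2 ^ k - 1, by have := Nat.one_le_two_pow (n := k); omega⟩
    rw [hs] at hk ⊢
    subst hk
    obtain ⟨t, rfl⟩ : ∃ t, s = t + 3 := ⟨s - 3, by omega⟩
    refine Nat.div_le_of_le_mul ?_
    have e1 : (t + 3 + 1 + 1) ^ 2 - 1 = (t + 4) * (t + 6) := by
      have : (t + 3 + 1 + 1) ^ 2 = (t + 4) * (t + 6) + 1 := by ring
      omega
    have e2 : (t + 3 + 1) ^ 2 - 1 = (t + 3) * (t + 5) := by
      have : (t + 3 + 1) ^ 2 = (t + 3) * (t + 5) + 1 := by ring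
      omega
    rw [e1, e2]
    nlinarith [Nat.zero_le (t ^ 3), Nat.zero_le (t ^ 2)]

/-- Let p be an odd prime and let m be the least prime power congruent to 1 modulo p. Then the least order of a finite group whose Sylow p-subgroups are not normal is the smaller of p · m and p(p² − 1)/2: every finite group whose Sylow p-subgroups are not normal has at least that order, and some group of exactly that order has non-normal Sylow p-subgroups. -/
theorem result (p : ℕ) [Fact p.Prime] (hp : p ≠ 2) (m : ℕ) (hm : IsPrimePow m) (hm1 : m % p = 1)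
    (hleast : ∀ k : ℕ, IsPrimePow k → k % p = 1 → m ≤ k) :
    (∀ (H : Type) [Group H] [Finite H], ¬ Cfsg.IsPClosed p H → min (p * m) (p * (p ^ 2 - 1) / 2) ≤ Nat.card H) ∧
      ∃ (H : Type) (_ : Group H) (_ : Finite H), Nat.card H = min (p * m) (p * (p ^ 2 - 1) / 2) ∧ ¬ Cfsg.IsPClosed p H := by
  exact Cfsg.Agent.LeastNonPClosed40.main hp (small_simple p hp) m hm hm1 hleast

end Cfsg.Agent.S3875
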