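import Mathlib
import Cfsg.Agent.Lib.PermJordan
import Cfsg.Agent.Lib.PGroupsBasic
import Cfsg.Statements.S3878
-- import your own Cfsg.Agent.* helpers here

set_option autoImplicit false
open Cfsg

namespace Cfsg.Agent.S3878

open scoped Pointwise Fin.NatCast in
theorem no_hall {π : Set ℕ} (h : ∀ (G : Type) [Group G] [Finite G], Cfsg.IsEPiGroup π G)
    {p q r : ℕ} (hp : p.Prime) (hq : q.Prime) (hpπ : p ∈ π) (hqπ : q ∈ π) (hpq : p < q)
    (hr : r.Prime) (hrπ : r ∉ π) : False := by
  classical
  haveI := Fact.mk hp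
  haveI := Fact.mk hq
  set n := q ^ (r + 2 * p + 4) with hn
  have hnbig : r + 2 * p + 4 < n := Nat.lt_pow_self hq.one_lt
  obtain ⟨H0, hH0π, hH0⟩ := h (Equiv.Perm (Fin n))
  set m := n / p with hm
  -- blocks of `p` consecutive points
  let start : Fin m → Fin p → Fin n := fun i j => ⟨p * i + j, by
    have h1 : p * (i.val + 1) ≤ p * m := Nat.mul_le_mul_left p i.isLt
    have h2 : p * m ≤ n := Nat.mul_div_le n p
    have h3 := j.isLt
    rw [mul_add, mul_one] at h1
    omega⟩
  have sdiv : ∀ i j, (start i j).val / p = i.val := by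
    intro i j
    show (p * i.val + j.val) / p = i.val
    rw [Nat.mul_add_div hp.pos, Nat.div_eq_of_lt j.isLt, add_zero]
  have smod : ∀ i j, (start i j).val % p = j.val := by
    intro i j
    show (p * i.val + j.val) % p = j.val
    rw [Nat.mul_add_mod, Nat.mod_eq_of_lt j.isLt]
  haveI : NeZero p := ⟨hp.ne_zero⟩
  let emb : Fin m → (Fin p ↪ Fin n) := fun i => ⟨start i, fun a b hab => Fin.ext (by
    rw [← smod i a, hab, smod])⟩
  let c : Fin m → Equiv.Perm (Fin n) := fun i => (finRotate p).extendDomain (Equiv.ofInjective (emb i) (emb i).injective)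
  have hc1 : ∀ i j, c i (start i j) = start i (j + 1) := by
    intro i j
    show (finRotate p).extendDomain (Equiv.ofInjective (emb i) (emb i).injective) (emb i j) = emb i (j + 1)
    have h1 := Equiv.Perm.extendDomain_apply_image (finRotate p) (Equiv.ofInjective (emb i) (emb i).injective) j
    rw [Equiv.ofInjective_apply] at h1
    rw [h1, Equiv.ofInjective_apply]
    obtain ⟨p', rfl⟩ : ∃ p', p = p' + 1 := ⟨p - 1, by have := hp.pos; omega⟩
    rw [finRotate_succ_apply]
  have hc2 : ∀ i x, (∀ j, start i j ≠ x) → c i x = x := by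
    intro i x hx
    exact Equiv.Perm.extendDomain_apply_not_subtype _ _ (fun ⟨j, hj⟩ => hx j hj)
  have hsupp : ∀ i, ∀ x, c i x ≠ x → ∃ j, start i j = x := by
    intro i x hx
    by_contra h
    push Not at h
    exact hx (hc2 i x h)
  have hcp : ∀ i, c i ^ p = 1 := by
    intro i
    show (Equiv.Perm.extendDomainHom (Equiv.ofInjective (emb i) (emb i).injective) (finRotate p)) ^ p = 1
    rw [← map_pow]
    obtain ⟨p', rfl⟩ : ∃ p', p = p' + 1 := ⟨p - 1, by have := hp.pos; omega⟩
    have : orderOf (finRotate (p' + 1)) = p' + 1 := by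
      obtain ⟨p'', rfl⟩ : ∃ p'', p' = p'' + 1 := ⟨p' - 1, by have := hp.two_le; omega⟩
      rw [isCycle_finRotate.orderOf, support_finRotate, Finset.card_univ, Fintype.card_fin]
    have h1 := pow_orderOf_eq_one (finRotate (p' + 1))
    rw [this] at h1
    rw [h1, map_one]
  have hdis : ∀ i i', i ≠ i' → (c i).Disjoint (c i') := by
    intro i i' hii x
    by_contra hx
    push Not at hx
    obtain ⟨j, hj⟩ := hsupp i x hx.1
    obtain ⟨j', hj'⟩ := hsupp i' x hx.2
    exact hii (Fin.ext (by rw [← sdiv i j, hj, ← hj', sdiv]))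
  -- the group generated by these cycles, moved into `H0`
  set E := Subgroup.closure (Set.range c) with hE
  have hEp : IsPGroup p E := by
    have hcomm : ∀ x ∈ Set.range c, ∀ y ∈ Set.range c, x * y = y * x := by
      rintro _ ⟨i, rfl⟩ _ ⟨i', rfl⟩
      rcases eq_or_ne i i' with rfl | hii
      · rfl
      · exact (hdis i i' hii).commute
    exact PGroupsBasic.isPGroup_of_isElementaryAbelian
      (PGroupsBasic.isElementaryAbelian_closure hcomm (by rintro _ ⟨i, rfl⟩; exact hcp i))
  have hidx : ∀ (l : ℕ) [Fact l.Prime], l ∈ π → ∀ X : Subgroup (Equiv.Perm (Fin n)), IsPGroup l X →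
      ∃ g : Equiv.Perm (Fin n), ∀ x ∈ X, g * x * g⁻¹ ∈ H0 := by
    intro l _ hl X hX
    obtain ⟨Q, hQ⟩ := hX.exists_le_sylow
    obtain ⟨R⟩ : Nonempty (Sylow l H0) := inferInstance
    have hi : ¬ l ∣ ((R : Subgroup H0).map H0.subtype).index := by
      rw [Subgroup.index_map_subtype]
      exact fun hd => ((Fact.out : l.Prime).dvd_mul.mp hd).elim R.not_dvd_index (hH0 l Fact.out hl)
    obtain ⟨g, hg⟩ := MulAction.exists_smul_eq (Equiv.Perm (Fin n)) Q ((R.isPGroup'.map _).toSylow hi)
    refine ⟨g, fun x hx => ?_⟩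
    have h1 : g * x * g⁻¹ ∈ ((g • Q : Sylow l _) : Subgroup (Equiv.Perm (Fin n))) := by
      rw [Sylow.coe_subgroup_smul]
      exact ⟨x, hQ hx, rfl⟩
    rw [hg] at h1
    exact Subgroup.map_subtype_le _ h1
  obtain ⟨g, hg⟩ := hidx p hpπ E hEp
  set H := H0.map (MulAut.conj g⁻¹).toMonoidHom with hH
  have hcH : ∀ i, c i ∈ H := fun i =>
    ⟨_, hg _ (Subgroup.subset_closure ⟨i, rfl⟩), by simp [mul_assoc]⟩
  -- `H` is transitive
  obtain ⟨n', hn'⟩ : ∃ n', n = n' + 2 := ⟨n - 2, by omega⟩
  have hrot : orderOf (finRotate n) = n := by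
    have h1 : (finRotate n).IsCycle := isCycle_finRotate_of_le (by omega)
    rw [h1.orderOf, support_finRotate_of_le (by omega), Finset.card_univ, Fintype.card_fin]
  have hrotp : IsPGroup q (Subgroup.zpowers (finRotate n)) :=
    IsPGroup.of_card (n := r + 2 * p + 4) (by rw [Nat.card_zpowers, hrot])
  obtain ⟨g', hg'⟩ := hidx q hqπ _ hrotp
  set z := g⁻¹ * (g' * finRotate n * g'⁻¹) * g with hz
  have hzH : z ∈ H := ⟨_, hg' _ (Subgroup.mem_zpowers _), by simp [hz]⟩
  have hzc : z.IsCycle ∧ z.support = Finset.univ := by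
    have e : z = (g⁻¹ * g') * finRotate n * (g⁻¹ * g')⁻¹ := by rw [hz]; group
    rw [e]
    refine ⟨(isCycle_finRotate_of_le (by omega)).conj, ?_⟩
    rw [Equiv.Perm.support_conj, support_finRotate_of_le (by omega)]
    simp
  haveI htrans : MulAction.IsPretransitive H (Fin n) := by
    refine ⟨fun x y => ?_⟩
    obtain ⟨i, hi⟩ := hzc.1.exists_zpow_eq (x := x) (y := y)
      (Equiv.Perm.mem_support.mp (hzc.2 ▸ Finset.mem_univ x))
      (Equiv.Perm.mem_support.mp (hzc.2 ▸ Finset.mem_univ y))
    exact ⟨⟨z ^ i, H.zpow_mem hzH i⟩, hi⟩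
  haveI hprim : MulAction.IsPreprimitive H (Fin n) := by
    refine ⟨fun {B} hB => ?_⟩
    by_contra hnt
    simp only [MulAction.IsTrivialBlock, not_or, Set.not_subsingleton_iff] at hnt
    obtain ⟨hBnt, hBu⟩ := hnt
    have hBne : B.Nonempty := hBnt.nonempty
    have ha2 : 1 < B.ncard := (Set.one_lt_ncard_iff_nontrivial).mpr hBnt
    have han : B.ncard < n := by
      have := Set.ncard_lt_card hBu
      rwa [Nat.card_fin] at this
    obtain ⟨e, he1, he2⟩ : ∃ e, e ≤ r + 2 * p + 4 ∧ B.ncard = q ^ e := by
      refine (Nat.dvd_prime_pow hq).mp ?_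
      have := hB.ncard_dvd_card hBne
      rwa [Nat.card_fin] at this
    have hBq : q ≤ B.ncard := by
      rw [he2]
      refine Nat.le_self_pow ?_ q
      rintro rfl
      rw [he2, pow_zero] at ha2
      omega
    have hbq : ∀ b, b * B.ncard = n → q ≤ b := by
      intro b hb
      have hbd : b ∣ q ^ (r + 2 * p + 4) := ⟨B.ncard, hb.symm⟩
      obtain ⟨e', -, he'⟩ := (Nat.dvd_prime_pow hq).mp hbd
      rw [he']
      refine Nat.le_self_pow ?_ q
      rintro rfl
      rw [he', pow_zero, one_mul] at hb
      omega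
    -- every translate of `B` is invariant under every cycle
    have hstab : ∀ (u : H) (i : Fin m), ∀ x, x ∈ u • B → c i x ∈ u • B := by
      intro u i x hx
      by_contra hcx
      have hne : ((⟨c i, hcH i⟩ : H) * u) • B ≠ u • B := by
        intro heq
        refine hcx (heq ▸ ?_)
        rw [mul_smul]
        exact ⟨x, hx, rfl⟩
      have hd := hB hne
      have hsub : u • B ⊆ Set.range (start i) := by
        intro y hy
        by_contra hy'
        have hfix : c i y = y := hc2 i y fun j hj => hy' ⟨j, hj⟩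
        refine Set.disjoint_left.mp hd ?_ hy
        rw [mul_smul]
        exact ⟨y, hy, hfix⟩
      have h1 := Set.ncard_le_ncard hsub (Set.toFinite _)
      have h2 : (u • B).ncard = B.ncard := Set.ncard_image_of_injective B (MulAction.injective u)
      have h3 : (Set.range (start i)).ncard = p := by
        show (Set.range (emb i)).ncard = p
        rw [Set.ncard_range_of_injective (emb i).injective, Nat.card_fin]
      omega
    have hclass : ∀ (u : H) (i : Fin m) (j j' : Fin p), start i j ∈ u • B → start i j' ∈ u • B := by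
      intro u i j j' hj
      have key : ∀ k : ℕ, start i (j + (k : Fin p)) ∈ u • B := by
        intro k
        induction k with
        | zero => simpa using hj
        | succ k ih =>
          have h1 := hstab u i _ ih
          rw [hc1, add_assoc] at h1
          simpa using h1
      have := key (j' - j).val
      rwa [Fin.cast_val_eq_self, add_sub_cancel] at this
    -- every translate contains a leftover point
    have hleft : ∀ u : H, ∃ x ∈ u • B, p * m ≤ (x : Fin n).val := by
      intro u
      by_contra hno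
      push Not at hno
      set T : Finset (Fin m) := Finset.univ.filter fun i => start i 0 ∈ u • B with hT
      have hbij : (u • B) = (fun ij : Fin m × Fin p => start ij.1 ij.2) '' ((T ×ˢ Finset.univ : Finset (Fin m × Fin p)) : Set (Fin m × Fin p)) := by
        ext x
        constructor
        · intro hx
          have hlt := hno x hx
          have hi : x.val / p < m := by
            rw [Nat.div_lt_iff_lt_mul hp.pos, mul_comm]; exact hlt
          have hxe : start ⟨x.val / p, hi⟩ ⟨x.val % p, Nat.mod_lt _ hp.pos⟩ = x := Fin.ext (Nat.div_add_mod _ _)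
          refine ⟨(⟨x.val / p, hi⟩, ⟨x.val % p, Nat.mod_lt _ hp.pos⟩), ?_, hxe⟩
          simp only [Finset.coe_product, Set.mem_prod, Finset.mem_coe, hT, Finset.mem_filter, Finset.mem_univ, true_and, and_true]
          exact hclass u _ _ 0 (hxe.symm ▸ hx)
        · rintro ⟨⟨i, j⟩, hij, rfl⟩
          simp only [Finset.coe_product, Set.mem_prod, Finset.mem_coe, hT, Finset.mem_filter, Finset.mem_univ, true_and, and_true] at hij
          exact hclass u i 0 j hij
      have hcard := congrArg Set.ncard hbij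
      have h2 : (u • B).ncard = B.ncard := Set.ncard_image_of_injective B (MulAction.injective u)
      rw [h2, Set.ncard_image_of_injective _ ?_, Set.ncard_coe_finset, Finset.card_product, Finset.card_univ,
        Fintype.card_fin] at hcard
      · have : p ∣ B.ncard := ⟨T.card, by rw [hcard, mul_comm]⟩
        rw [he2] at this
        exact absurd ((Nat.prime_dvd_prime_iff_eq hp hq).mp (hp.dvd_of_dvd_pow this)) hpq.ne
      · rintro ⟨i, j⟩ ⟨i', j'⟩ he
        simp only at he
        exact Prod.ext (Fin.ext (by rw [← sdiv i j, he, sdiv])) (Fin.ext (by rw [← smod i j, he, smod]))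
    -- so there are fewer than `p` translates
    choose f hf1 hf2 using hleft
    let ℬ : Set (Set (Fin n)) := Set.range fun u : H => u • B
    have hcount : ℬ.ncard ≤ n - p * m := by
      have hchoose : ∀ D : ℬ, ∃ x : Fin n, x ∈ D.1 ∧ p * m ≤ x.val := by
        rintro ⟨_, u, rfl⟩
        exact ⟨f u, hf1 u, hf2 u⟩
      choose φ hφ1 hφ2 using hchoose
      let ψ : ℬ → Fin (n - p * m) := fun D => ⟨(φ D).val - p * m, by
        have := (φ D).isLt; have := hφ2 D; omega⟩
      have hψ : Function.Injective ψ := by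
        intro D D' hDD
        have h1 : φ D = φ D' := Fin.ext (by
          have := congrArg Fin.val hDD
          simp only [ψ] at this
          have := hφ2 D; have := hφ2 D'; omega)
        obtain ⟨u, hu⟩ := D.2
        obtain ⟨u', hu'⟩ := D'.2
        refine Subtype.ext ?_
        by_contra hne
        have hne' : u • B ≠ u' • B := by
          intro he
          exact hne (hu.symm.trans (he.trans hu'))
        have hd := hB hne'
        rw [show (u • B : Set (Fin n)) = D.1 from hu, show (u' • B : Set (Fin n)) = D'.1 from hu'] at hd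
        exact Set.disjoint_left.mp hd (hφ1 D) (h1 ▸ hφ1 D')
      calc ℬ.ncard = Nat.card ℬ := (Nat.card_coe_set_eq ℬ).symm
        _ ≤ Nat.card (Fin (n - p * m)) := Nat.card_le_card_of_injective ψ hψ
        _ = n - p * m := Nat.card_fin _
    have hb := hB.ncard_block_mul_ncard_orbit_eq hBne
    rw [Nat.card_fin] at hb
    have hq' := hbq _ (by rw [mul_comm]; exact hb)
    have hnm : n - p * m < p := by
      rw [hm]
      have := Nat.mod_add_div n p
      have := Nat.mod_lt n hp.pos
      omega
    have : (MulAction.orbit H B).ncard = ℬ.ncard := rfl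
    omega
  -- a cycle of length `p`
  have hm0 : 0 < m := Nat.div_pos (by omega) hp.pos
  set c0 := c ⟨0, hm0⟩ with hc0
  obtain ⟨p', hp'⟩ : ∃ p', p = p' + 2 := ⟨p - 2, by have := hp.two_le; omega⟩
  have hc0c : c0.IsCycle := by
    refine Equiv.Perm.IsCycle.extendDomain _ ?_
    subst hp'
    exact isCycle_finRotate
  have hc0s : c0.support.card = p := by
    rw [hc0, Equiv.Perm.card_support_extend_domain]
    subst hp'
    rw [support_finRotate, Finset.card_univ, Fintype.card_fin]
  have hmp : MulAction.IsMultiplyPreprimitive H (Fin n) (n - p - 1 + 2) := by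
    refine hprim.isMultiplyPreprimitive (s := (c0.support : Set (Fin n))ᶜ) ?_ ?_ ?_
    · have := Set.ncard_add_ncard_compl (c0.support : Set (Fin n))
      rw [Set.ncard_coe_finset, hc0s, Nat.card_fin] at this
      omega
    · rw [Nat.card_fin]; have := hp.two_le; omega
    · haveI := Equiv.Perm.isPretransitive_of_isCycle_mem hc0c (hcH ⟨0, hm0⟩)
      apply MulAction.IsPreprimitive.of_prime_card
      convert hp using 1
      rw [Nat.card_eq_fintype_card, Fintype.card_subtype, ← hc0s]
      apply congrArg Finset.card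
      ext x
      simp [SubMulAction.mem_ofFixingSubgroup_iff]
  haveI := hmp
  have hmt : MulAction.IsMultiplyPretransitive H (Fin n) (n - p - 1 + 2) :=
    MulAction.IsMultiplyPreprimitive.isMultiplyPretransitive ..
  obtain ⟨u, huH, hu1, hus⟩ := PermJordan.exists_support_le_three H (k := n - p - 1 + 2)
    (by rw [Fintype.card_fin]; have := hp.two_le; omega) hmt c0 (hcH _) hc0c.ne_one (by rw [hc0s]; omega)
  have hA := PermJordan.alternating_le_of_support_le_three hprim huH hu1 hus
  -- so `r` divides the order of `H`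
  have hrH : r ∣ Nat.card H := by
    refine dvd_trans ?_ (Subgroup.card_dvd_of_le hA)
    haveI : Nontrivial (Fin n) := Fin.nontrivial_iff_two_le.mpr (by omega)
    rw [nat_card_alternatingGroup, Nat.card_fin]
    rcases eq_or_ne r 2 with rfl | hr2
    · have h4 : Nat.factorial 4 ∣ Nat.factorial n := Nat.factorial_dvd_factorial (by omega)
      obtain ⟨t, ht⟩ := h4
      rw [ht, show Nat.factorial 4 = 24 from rfl]
      exact ⟨6 * t, by omega⟩
    · have h1 : r ∣ Nat.factorial n := Nat.dvd_factorial hr.pos (by omega)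
      have h2 : 2 ∣ Nat.factorial n := Nat.dvd_factorial two_pos (by omega)
      obtain ⟨t, ht⟩ := h2
      rw [ht] at h1 ⊢
      rw [Nat.mul_div_cancel_left _ two_pos]
      exact (hr.dvd_mul.mp h1).resolve_left fun hd => hr2 ((Nat.prime_dvd_prime_iff_eq hr Nat.prime_two).mp hd)
  rw [hH, Subgroup.card_map_of_injective (MulAut.conj g⁻¹).injective] at hrH
  exact hrπ (hH0π r hr hrH)

/-- For a set of primes π the following are equivalent: every finite group has a Hall π-subgroup; in every finite group the maximal π-subgroups are pairwise conjugate; π contains at most one prime or contains every prime. -/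
theorem result (π : Set ℕ) :
    ((∀ (G : Type) [Group G] [Finite G], Cfsg.IsEPiGroup π G) ↔
      ((∀ p q : ℕ, p.Prime → q.Prime → p ∈ π → q ∈ π → p = q) ∨ ∀ p : ℕ, p.Prime → p ∈ π)) ∧
    ((∀ (G : Type) [Group G] [Finite G], Cfsg.IsDPiGroup π G) ↔
      ((∀ p q : ℕ, p.Prime → q.Prime → p ∈ π → q ∈ π → p = q) ∨ ∀ p : ℕ, p.Prime → p ∈ π)) := by
  classical
  have hDE : (∀ (G : Type) [Group G] [Finite G], Cfsg.IsDPiGroup π G) →
      ∀ (G : Type) [Group G] [Finite G], Cfsg.IsEPiGroup π G := by
    intro h G _ _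
    obtain ⟨H, -, hH⟩ := exists_maximal_ge_of_wellFoundedGT (fun K : Subgroup G => Cfsg.IsPiSubgroup π K) ⊥
      (fun p hp hd => absurd (Nat.dvd_one.mp (by simpa using hd)) hp.ne_one)
    refine ⟨H, hH.prop, fun p hp hpπ hd => ?_⟩
    haveI := Fact.mk hp
    obtain ⟨P⟩ : Nonempty (Sylow p G) := inferInstance
    obtain ⟨K, hPK, hK⟩ := exists_maximal_ge_of_wellFoundedGT (fun K : Subgroup G => Cfsg.IsPiSubgroup π K) (P : Subgroup G)
      (fun l hl hld => by
        obtain ⟨k, hk⟩ := IsPGroup.iff_card.mp P.isPGroup'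
        rw [hk] at hld
        rwa [(Nat.prime_dvd_prime_iff_eq hl hp).mp (hl.dvd_of_dvd_pow hld)])
    obtain ⟨g, hg⟩ := h G H K hH hK
    have h1 : K.index = H.index := by rw [hg]; exact Subgroup.index_map_of_bijective (f := (MulAut.conj g).toMonoidHom) (MulAut.conj g).bijective H
    rw [← h1] at hd
    exact P.not_dvd_index (hd.trans (Subgroup.index_dvd_of_le hPK))
  have hfwd : (∀ (G : Type) [Group G] [Finite G], Cfsg.IsEPiGroup π G) →
      ((∀ p q : ℕ, p.Prime → q.Prime → p ∈ π → q ∈ π → p = q) ∨ ∀ p : ℕ, p.Prime → p ∈ π) := by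
    intro h
    by_contra hcon
    push Not at hcon
    obtain ⟨⟨p, q, hp, hq, hpπ, hqπ, hne⟩, r, hr, hrπ⟩ := hcon
    rcases hne.lt_or_gt with hlt | hlt
    · exact no_hall h hp hq hpπ hqπ hlt hr hrπ
    · exact no_hall h hq hp hqπ hpπ hlt hr hrπ
  have hbwd : ((∀ p q : ℕ, p.Prime → q.Prime → p ∈ π → q ∈ π → p = q) ∨ ∀ p : ℕ, p.Prime → p ∈ π) →
      ∀ (G : Type) [Group G] [Finite G], Cfsg.IsDPiGroup π G := by
    intro hc G _ _ H K hH hK
    rcases hc with hc | hc
    · by_cases hex : ∃ p : ℕ, p.Prime ∧ p ∈ π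
      · obtain ⟨p, hp, hpπ⟩ := hex
        haveI := Fact.mk hp
        have hsyl : ∀ L : Subgroup G, Maximal (Cfsg.IsPiSubgroup π) L → ∃ P : Sylow p G, (P : Subgroup G) = L := by
          intro L hL
          have hLp : IsPGroup p L := IsPGroup.of_card (n := (Nat.card L).primeFactorsList.length)
            (Nat.eq_prime_pow_of_unique_prime_dvd Nat.card_pos.ne' fun {d} hd hdL => hc d p hd hp (hL.prop d hd hdL) hpπ)
          obtain ⟨P, hP⟩ := hLp.exists_le_sylow
          refine ⟨P, le_antisymm (hL.2 (fun l hl hld => ?_) hP) hP⟩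
          obtain ⟨k, hk⟩ := IsPGroup.iff_card.mp P.isPGroup'
          rw [hk] at hld
          rwa [(Nat.prime_dvd_prime_iff_eq hl hp).mp (hl.dvd_of_dvd_pow hld)]
        obtain ⟨P, rfl⟩ := hsyl H hH
        obtain ⟨Q, rfl⟩ := hsyl K hK
        obtain ⟨g, hg⟩ := MulAction.exists_smul_eq G P Q
        exact ⟨g, by rw [← hg, Sylow.coe_subgroup_smul]; rfl⟩
      · have hbot : ∀ L : Subgroup G, Maximal (Cfsg.IsPiSubgroup π) L → L = ⊥ := by
          intro L hL
          refine Subgroup.eq_bot_of_card_eq L (Nat.eq_one_iff_not_exists_prime_dvd.mpr fun l hl hd => ?_)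
          exact hex ⟨l, hl, hL.prop l hl hd⟩
        exact ⟨1, by rw [hbot H hH, hbot K hK, Subgroup.map_bot]⟩
    · have htop : ∀ L : Subgroup G, Maximal (Cfsg.IsPiSubgroup π) L → L = ⊤ := fun L hL =>
        top_le_iff.mp (hL.2 (fun p hp _ => hc p hp) le_top)
      exact ⟨1, by rw [htop H hH, htop K hK, Subgroup.map_top_of_surjective _ (MulEquiv.surjective _)]⟩
  exact ⟨⟨hfwd, fun hc => hDE (hbwd hc)⟩, ⟨fun h => hfwd (hDE h), hbwd⟩⟩

end Cfsg.Agent.S3878
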