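import Cfsg.Statements.S3881
import Mathlib
import Cfsg.Agent.Lib.MetacyclicOdd

set_option autoImplicit false
open Cfsg

namespace Cfsg.Agent.S3881

open scoped Pointwise commutatorElement

open Cfsg.Agent.MetacyclicArith

/-- Let p be an odd prime and G a finite metacyclic p-group (G has a cyclic normal subgroup with cyclic quotient). Suppose G is non-abelian with |G'| = p^n. Then for 1 ≤ i ≤ n the number of elements of G whose conjugacy class has exactly p^i elements is |Z(G)| · (p^(2i) − p^(2i−2)). -/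
theorem result {G : Type*} [Group G] [Finite G] {p : ℕ} [Fact p.Prime] (hp : p ≠ 2) (hG : IsPGroup p G) (hmc : Cfsg.IsMetacyclic G) (n : ℕ) (hn : n ≠ 0) (hGn : Nat.card ↥(commutator G) = p ^ n) (i : ℕ) (hi : 1 ≤ i) (hin : i ≤ n) :
    Nat.card {g : G // (Subgroup.centralizer ({g} : Set G)).index = p ^ i} =
      Nat.card ↥(Subgroup.center G) * (p ^ (2 * i) - p ^ (2 * i - 2)) := by
  obtain ⟨D⟩ := Cfsg.Agent.MetacyclicOdd.exists_data hG hmc
  have hpp : Fact p.Prime := inferInstance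
  obtain rfl : D.n = n := Nat.pow_right_injective hpp.out.two_le (D.card_commutator.symm.trans hGn)
  haveI : NeZero D.q := ⟨pow_ne_zero _ hpp.out.ne_zero⟩
  simp only [D.index_centralizer hp]
  choose σ hσ using D.ψ_surjective hp
  have hz : ∀ (v) (z : Subgroup.center G), D.ψ (σ v * z) = v := fun v z => by
    rw [D.ψ_mul, D.mem_center_iff.1 z.2, smul_zero, add_zero, hσ]
  let e : {g : G // addOrderOf (D.ψ g) = p ^ i} ≃
      Subgroup.center G × {v : ZMod D.q × ZMod D.q // addOrderOf v = p ^ i} :=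
    { toFun := fun g => (⟨(σ (D.ψ g.1))⁻¹ * g.1, D.ψ_eq_iff.1 (hσ _).symm⟩, ⟨D.ψ g.1, g.2⟩)
      invFun := fun x => ⟨σ x.2.1 * x.1.1, by rw [hz]; exact x.2.2⟩
      left_inv := fun g => Subtype.ext (mul_inv_cancel_left _ _)
      right_inv := fun x => by
        refine Prod.ext (Subtype.ext ?_) (Subtype.ext (hz _ _))
        simp [hz] }
  rw [Nat.card_congr e, Nat.card_prod]
  congr 1
  have key : {v : ZMod D.q × ZMod D.q | addOrderOf v = p ^ i} =
      ((killed (p ^ i) : AddSubgroup (ZMod D.q × ZMod D.q)) : Set (ZMod D.q × ZMod D.q)) \ ((killed (p ^ (i - 1)) : AddSubgroup (ZMod D.q × ZMod D.q)) : Set (ZMod D.q × ZMod D.q)) := by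
    ext v
    simp only [Set.mem_ofPred_eq, Set.mem_sdiff, SetLike.mem_coe, mem_killed, ← addOrderOf_dvd_iff_nsmul_eq_zero]
    refine ⟨fun h => ?_, fun ⟨h1, h2⟩ => ?_⟩
    · rw [h, Nat.pow_dvd_pow_iff_le_right hpp.out.one_lt, Nat.pow_dvd_pow_iff_le_right hpp.out.one_lt]; omega
    · obtain ⟨k, hk, hke⟩ := (Nat.dvd_prime_pow hpp.out).1 h1
      rw [hke, Nat.pow_dvd_pow_iff_le_right hpp.out.one_lt] at h2
      rw [hke]; congr 1; omega
  show Nat.card ↥{v : ZMod D.q × ZMod D.q | addOrderOf v = p ^ i} = _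
  rw [Nat.card_coe_set_eq, key, Set.ncard_sdiff (fun v hv => ?_), ← Nat.card_coe_set_eq, ← Nat.card_coe_set_eq]
  · erw [card_killed_prod hin, card_killed_prod (by omega : i - 1 ≤ D.n)]
    rw [show 2 * (i - 1) = 2 * i - 2 by omega]
  · have : p ^ (i - 1) • v = 0 := hv
    show p ^ i • v = 0
    exact addOrderOf_dvd_iff_nsmul_eq_zero.1 ((addOrderOf_dvd_of_nsmul_eq_zero this).trans (pow_dvd_pow p (Nat.sub_le i 1)))

end Cfsg.Agent.S3881
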