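import Cfsg.Statements.S3883
import Mathlib
import Cfsg.Agent.Lib.MetacyclicOdd
import Cfsg.Agent.S0012
import Cfsg.Agent.S0013

set_option autoImplicit false
open Cfsg

namespace Cfsg.Agent.S3883

open scoped Pointwise commutatorElement



/-- Let p be an odd prime and G a finite metacyclic p-group (G has a cyclic normal subgroup with cyclic quotient). Suppose G is non-abelian. Then an element g of G lies outside the Frattini subgroup if and only if its centralizer C_G(g) is abelian. -/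
theorem result {G : Type*} [Group G] [Finite G] {p : ℕ} [Fact p.Prime] (hp : p ≠ 2) (hG : IsPGroup p G) (hmc : Cfsg.IsMetacyclic G) (hna : ¬ IsMulCommutative G) (g : G) :
    g ∉ frattini G ↔ IsMulCommutative ↥(Subgroup.centralizer ({g} : Set G)) := by
  obtain ⟨D⟩ := Cfsg.Agent.MetacyclicOdd.exists_data hG hmc
  have hpp : Fact p.Prime := inferInstance
  haveI : NeZero D.q := ⟨pow_ne_zero _ hpp.out.ne_zero⟩
  have hn : 1 ≤ D.n := by
    by_contra h
    refine hna ⟨⟨fun x y => ((D.commute_iff x y).2 ?_).eq⟩⟩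
    have : Subsingleton (ZMod D.q) := by
      rw [← Finite.card_le_one_iff_subsingleton, Nat.card_zmod]
      simp [Cfsg.Agent.MetacyclicOdd.Data.q, show D.n = 0 by omega]
    exact Subsingleton.elim _ _
  have hΦ : frattini G = D.pre (Cfsg.Agent.MetacyclicArith.killed (p ^ (D.n - 1))) := by
    have hcl := D.closure_pow_eq hp hn
    have hcomm : commutator G ≤ D.pre (Cfsg.Agent.MetacyclicArith.killed (p ^ (D.n - 1))) := by
      rw [D.commutator_eq, Subgroup.zpowers_le, ← hcl]
      refine Subgroup.subset_closure ⟨D.a ^ p ^ (D.μ - 1), ?_⟩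
      rw [Cfsg.Agent.MetacyclicOdd.Data.c, ← pow_mul, ← pow_add, Nat.sub_add_cancel D.hμ]
    haveI : (D.pre (Cfsg.Agent.MetacyclicArith.killed (p ^ (D.n - 1)))).Normal := Subgroup.Normal.mk fun m hm g => by
      have h1 := hcomm (Subgroup.commutator_mem_commutator (Subgroup.mem_top g) (Subgroup.mem_top m))
      have h2 : g * m * g⁻¹ = ⁅g, m⁆ * m := by rw [commutatorElement_def]; group
      rw [h2]; exact mul_mem h1 hm
    refine le_antisymm (Cfsg.Agent.S0013.result p hG _ hcomm fun x => ?_) ?_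
    · rw [← hcl]; exact Subgroup.subset_closure ⟨x, by rw [pow_one]⟩
    · rw [← hcl, Subgroup.closure_le]
      rintro _ ⟨y, rfl⟩
      rw [pow_one]; exact (Cfsg.Agent.S0012.result p hG).2 y
  rw [hΦ, D.mem_pre, Cfsg.Agent.MetacyclicArith.mem_killed, ← addOrderOf_dvd_iff_nsmul_eq_zero,
    D.abelian_iff_card_le hG hp, D.card_centralizer_singleton hp, Nat.mul_le_mul_right_iff Nat.card_pos]
  have h := Cfsg.Agent.MetacyclicArith.card_mul_card_perp_singleton (D.ψ g)
  obtain ⟨k, hk, hke⟩ := (Nat.dvd_prime_pow hpp.out).1 (Cfsg.Agent.MetacyclicArith.addOrderOf_dvd_q (D.ψ g))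
  rw [hke] at h ⊢
  have h2 : Nat.card (Cfsg.Agent.MetacyclicArith.perp ({D.ψ g} : Set (ZMod D.q × ZMod D.q))) = p ^ (2 * D.n - k) := by
    refine Nat.eq_of_mul_eq_mul_left (pow_pos hpp.out.pos k) (h.trans ?_)
    rw [← pow_mul, ← pow_add]; congr 1; omega
  rw [h2, Nat.pow_dvd_pow_iff_le_right hpp.out.one_lt]
  show ¬ k ≤ D.n - 1 ↔ p ^ (2 * D.n - k) ≤ p ^ D.n
  rw [Nat.pow_le_pow_iff_right hpp.out.one_lt]
  omega

end Cfsg.Agent.S3883
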