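import Cfsg.Statements.S3884
import Mathlib
import Cfsg.Agent.Lib.MetacyclicOdd

set_option autoImplicit false
open Cfsg

namespace Cfsg.Agent.S3884

open scoped Pointwise commutatorElement

open Cfsg.Agent.MetacyclicArith Cfsg.Agent.MetacyclicOdd

theorem pow_form {G : Type*} [Group G] {p : ℕ} (D : Data p G) (x y k : ℕ) :
    (D.a ^ x * D.b ^ y) ^ k = D.a ^ (x * geo (D.r ^ y) k) * D.b ^ (y * k) := by
  induction k with
  | zero => simp [geo]
  | succ k ih =>
    rw [pow_succ', ih, D.mul_form, geo_succ']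
    congr 2 <;> ring

theorem orderOf_eq_of_dvd {G : Type*} [Group G] {x : G} {k : ℕ} (h1 : x ^ k = 1) (h2 : ∀ j, x ^ j = 1 → k ∣ j) :
    orderOf x = k :=
  Nat.dvd_antisymm (orderOf_dvd_of_pow_eq_one h1) (h2 _ (pow_orderOf_eq_one x))

theorem finish {G : Type*} [Group G] [Finite G] (x y : G) (k l : ℕ) (hx : orderOf x = k) (hy : orderOf y = l)
    (h : Nat.card G = k * l) (hdis : ∀ j : ℕ, x ^ j ∈ Subgroup.zpowers y → x ^ j = 1) :
    ∃ A B : Subgroup G, IsCyclic ↥A ∧ IsCyclic ↥B ∧ A ⊓ B = ⊥ ∧ Nat.card ↥A * Nat.card ↥B = Nat.card G := by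
  refine ⟨Subgroup.zpowers x, Subgroup.zpowers y, inferInstance, inferInstance, ?_, ?_⟩
  · rw [eq_bot_iff]
    rintro g ⟨hgx, hgy⟩
    obtain ⟨j, rfl⟩ := mem_powers_iff_mem_zpowers.2 hgx
    exact hdis j hgy
  · rw [Nat.card_zpowers, Nat.card_zpowers, hx, hy, h]

/-- Let p be an odd prime and G a finite metacyclic p-group (G has a cyclic normal subgroup with cyclic quotient). Then G is the product of two cyclic subgroups with trivial intersection: there are cyclic subgroups A and B with A ∩ B = 1 and |A| · |B| = |G|. -/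
theorem result {G : Type*} [Group G] [Finite G] {p : ℕ} [Fact p.Prime] (hp : p ≠ 2) (hG : IsPGroup p G) (hmc : Cfsg.IsMetacyclic G) : ∃ A B : Subgroup G, IsCyclic ↥A ∧ IsCyclic ↥B ∧ A ⊓ B = ⊥ ∧ Nat.card ↥A * Nat.card ↥B = Nat.card G := by
  obtain ⟨D⟩ := exists_data hG hmc
  have hpp : Fact p.Prime := inferInstance
  obtain ⟨m, hm⟩ := IsPGroup.iff_orderOf.1 hG D.a
  haveI : NeZero (p ^ m) := ⟨pow_ne_zero _ hpp.out.ne_zero⟩
  classical
  have hex : ∃ t, D.b ^ p ^ t ∈ Subgroup.zpowers D.a := by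
    obtain ⟨k, hk⟩ := hG D.b
    exact ⟨k, hk ▸ one_mem _⟩
  set t := Nat.find hex with ht
  have htmem : D.b ^ p ^ t ∈ Subgroup.zpowers D.a := Nat.find_spec hex
  have htmin : ∀ k : ℕ, D.b ^ k ∈ Subgroup.zpowers D.a → p ^ t ∣ k := by
    intro k hk
    have hg : D.b ^ Nat.gcd k (p ^ t) ∈ Subgroup.zpowers D.a := by
      rw [← zpow_natCast, Nat.gcd_eq_gcd_ab, zpow_add, zpow_mul, zpow_mul, zpow_natCast, zpow_natCast]
      exact mul_mem (zpow_mem hk _) (zpow_mem htmem _)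
    obtain ⟨e, he, hee⟩ := (Nat.dvd_prime_pow hpp.out).1 (Nat.gcd_dvd_right k (p ^ t))
    rw [hee] at hg
    have : t ≤ e := Nat.find_min' hex hg
    rw [show t = e by omega, ← hee]
    exact Nat.gcd_dvd_left _ _
  obtain ⟨c, hc⟩ := mem_powers_iff_mem_zpowers.2 htmem
  change D.a ^ c = D.b ^ p ^ t at hc
  have ha1 : ∀ j, D.a ^ j = 1 ↔ p ^ m ∣ j := fun j => by rw [← orderOf_dvd_iff_pow_eq_one, hm]
  have haeq : ∀ i k, D.a ^ i = D.a ^ k ↔ i ≡ k [MOD p ^ m] := fun i k => by rw [pow_eq_pow_iff_modEq, hm]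
  have hcard : Nat.card G = p ^ m * p ^ t := by
    let f : Fin (p ^ m) × Fin (p ^ t) → G := fun x => D.a ^ (x.1 : ℕ) * D.b ^ (x.2 : ℕ)
    have hf : Function.Bijective f := by
      constructor
      · rintro ⟨i, j⟩ ⟨k, l⟩ h
        change D.a ^ (i : ℕ) * D.b ^ (j : ℕ) = D.a ^ (k : ℕ) * D.b ^ (l : ℕ) at h
        have hjl : (j : ℕ) = l := by
          have main : ∀ (i k j l : ℕ), j ≤ l → l < p ^ t → D.a ^ i * D.b ^ j = D.a ^ k * D.b ^ l → j = l := by
            intro i k j l hle hl h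
            have hd : p ^ t ∣ l - j := htmin _ (by
              have : D.b ^ (l - j) = (D.a ^ k)⁻¹ * D.a ^ i := by
                rw [← Nat.sub_add_cancel hle, pow_add, ← mul_assoc, mul_left_inj] at h
                rw [h, inv_mul_cancel_left]
              rw [this]
              exact mul_mem (inv_mem (pow_mem (Subgroup.mem_zpowers _) _)) (pow_mem (Subgroup.mem_zpowers _) _))
            have := Nat.eq_zero_of_dvd_of_lt hd (by omega)
            omega
          rcases le_total (j : ℕ) l with hl | hl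
          · exact main _ _ _ _ hl l.2 h
          · exact (main _ _ _ _ hl j.2 h.symm).symm
        rw [hjl, mul_left_inj] at h
        exact Prod.ext (Fin.ext (Nat.ModEq.eq_of_lt_of_lt ((haeq _ _).1 h) i.2 k.2)) (Fin.ext hjl)
      · intro g
        obtain ⟨i, j, rfl⟩ := D.gen g
        refine ⟨(⟨(i + c * (j / p ^ t)) % p ^ m, Nat.mod_lt _ (pow_pos hpp.out.pos m)⟩,
          ⟨j % p ^ t, Nat.mod_lt _ (pow_pos hpp.out.pos t)⟩), ?_⟩
        show D.a ^ ((i + c * (j / p ^ t)) % p ^ m) * D.b ^ (j % p ^ t) = _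
        rw [(haeq _ _).2 (Nat.mod_modEq (i + c * (j / p ^ t)) (p ^ m)), pow_add, pow_mul, hc, ← pow_mul, mul_assoc,
          ← pow_add, Nat.div_add_mod]
    rw [← Nat.card_eq_of_bijective f hf, Nat.card_prod, Nat.card_fin, Nat.card_fin]
  by_cases hcase : ∃ x : ℕ, (D.a ^ x * D.b ^ 1) ^ p ^ t = 1
  · obtain ⟨x, hx⟩ := hcase
    have key : ∀ j, (D.a ^ x * D.b ^ 1) ^ j ∈ Subgroup.zpowers D.a → p ^ t ∣ j := by
      intro j hj
      rw [pow_form, one_mul, Subgroup.mul_mem_cancel_left _ (pow_mem (Subgroup.mem_zpowers _) _)] at hj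
      exact htmin j hj
    refine finish (D.a ^ x * D.b ^ 1) D.a (p ^ t) (p ^ m) (orderOf_eq_of_dvd hx fun j hj => key j (hj ▸ one_mem _)) hm
      (hcard.trans (mul_comm _ _)) fun j hj => ?_
    obtain ⟨w, rfl⟩ := key j hj
    rw [pow_mul, hx, one_pow]
  push Not at hcase
  have hac : ¬ p ^ m ∣ c := fun h => hcase 0 (by rw [pow_form, zero_mul, pow_zero, one_mul, one_mul, ← hc, ha1]; exact h)
  have hc0 : c ≠ 0 := fun h => hac (by simp [h])
  obtain ⟨s, c', hc', rfl⟩ := Nat.exists_eq_pow_mul_and_not_dvd hc0 p hpp.out.ne_one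
  have hsm : s < m := by
    by_contra h
    exact hac (dvd_mul_of_dvd_left (pow_dvd_pow p (by omega)) _)
  have hst : s < t := by
    by_contra h
    have hr : (p : ℤ) ∣ (D.r : ℤ) - 1 := by simpa using D.sub_one_dvd 1
    obtain ⟨w, hw⟩ := (pow_dvd_geo_nat_iff hp hr t (p ^ t)).2 dvd_rfl
    have hwp : ¬ p ∣ w := by
      intro hpw
      have h2 := (pow_dvd_geo_nat_iff hp hr (t + 1) (p ^ t)).1 (by rw [hw, pow_succ]; exact mul_dvd_mul_left _ hpw)
      rw [Nat.pow_dvd_pow_iff_le_right hpp.out.one_lt] at h2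
      omega
    obtain ⟨w', hw'⟩ := (isUnit_natCast m hwp).exists_left_inv
    have hcd : p ^ t ∣ p ^ s * c' := dvd_mul_of_dvd_left (pow_dvd_pow p (by omega)) _
    obtain ⟨d, hd⟩ := hcd
    refine hcase ((-(d : ZMod (p ^ m)) * w').val) ?_
    rw [pow_form, one_mul, ← hc, ← pow_add, ha1, ← ZMod.natCast_eq_zero_iff, pow_one, hw, hd]
    push_cast
    rw [ZMod.natCast_zmod_val]
    linear_combination (-(d : ZMod (p ^ m)) * (p : ZMod (p ^ m)) ^ t) * hw'
  have hb : ∀ w, D.b ^ w ∈ Subgroup.zpowers D.a → ∃ v, w = p ^ t * v ∧ D.b ^ w = D.a ^ (p ^ s * c' * v) := by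
    intro w hw
    obtain ⟨v, rfl⟩ := htmin w hw
    exact ⟨v, rfl, by rw [pow_mul, ← hc, ← pow_mul]⟩
  have hordb : orderOf D.b = p ^ t * p ^ (m - s) := by
    refine orderOf_eq_of_dvd ?_ fun j hj => ?_
    · rw [pow_mul, ← hc, ← pow_mul, ha1, mul_right_comm, ← pow_add, Nat.add_sub_cancel' hsm.le]
      exact Dvd.intro _ rfl
    · obtain ⟨v, rfl, hv⟩ := hb j (hj ▸ one_mem _)
      rw [hj, eq_comm, ha1, ← Nat.add_sub_cancel' hsm.le, pow_add, mul_assoc] at hv
      refine mul_dvd_mul_left _ ?_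
      exact (Nat.Coprime.pow_left _ ((hpp.out.coprime_iff_not_dvd).2 hc')).dvd_of_dvd_mul_left
        (Nat.dvd_of_mul_dvd_mul_left (pow_pos hpp.out.pos s) hv)
  -- find a multiplier making `a * b ^ y` of order `p ^ s`
  let f : ℕ → ℕ := fun z => geo (D.r ^ (p ^ (t - s) * z)) (p ^ s) + p ^ s * c' * z
  have hfs : ∀ z, p ^ s ∣ f z := fun z =>
    dvd_add ((pow_dvd_geo_nat_iff hp (D.sub_one_dvd _) s _).2 dvd_rfl) (dvd_mul_of_dvd_left (Dvd.intro _ rfl) _)
  have hinj : ∀ d z : ℕ, ((p : ℤ) ^ m) ∣ (f (z + d) : ℤ) - f z → ∀ e, e ≤ m - s → p ^ e ∣ d := by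
    intro d z hd e
    induction e with
    | zero => intro _; simp
    | succ e ih =>
      intro he
      have hed := ih (by omega)
      set x : ℤ := ((D.r ^ (p ^ (t - s) * (z + d)) : ℕ) : ℤ) with hx
      set x' : ℤ := ((D.r ^ (p ^ (t - s) * z) : ℕ) : ℤ) with hx'
      have hxx : (p : ℤ) ^ (e + 1) ∣ x - x' := by
        have h1 : x - x' = x' * ((p ^ D.μ * D.E (p ^ (t - s) * d) : ℕ) : ℤ) := by
          rw [hx, hx', mul_add, pow_add, D.r_pow (p ^ (t - s) * d)]; push_cast; ring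
        have h2 : p ^ (t - s + e) ∣ geo D.r (p ^ (t - s) * d) :=
          (pow_dvd_geo_nat_iff hp (by simpa using D.sub_one_dvd 1) _ _).2 (by rw [pow_add]; exact mul_dvd_mul_left _ hed)
        have h3 : p ^ (e + 1) ∣ p ^ D.μ * D.E (p ^ (t - s) * d) :=
          dvd_mul_of_dvd_right (dvd_mul_of_dvd_right ((pow_dvd_pow p (by omega)).trans h2) _) _
        rw [h1]; exact dvd_mul_of_dvd_right (by exact_mod_cast h3) _
      have hS : (p : ℤ) ^ (s + (e + 1)) ∣ geo x (p ^ s) - geo x' (p ^ s) := by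
        rw [pow_add]
        exact (mul_dvd_mul_left _ hxx).trans (geo_pow_diff hp (D.sub_one_dvd _) (D.sub_one_dvd _) s)
      have hf' : (f (z + d) : ℤ) - f z = (geo x (p ^ s) - geo x' (p ^ s)) + (p : ℤ) ^ s * ((c' * d : ℕ) : ℤ) := by
        simp only [f, hx, hx', ← geo_cast]; push_cast; ring
      rw [hf'] at hd
      have h4 : (p : ℤ) ^ (s + (e + 1)) ∣ (p : ℤ) ^ s * ((c' * d : ℕ) : ℤ) :=
        (dvd_add_right hS).1 ((pow_dvd_pow _ (by omega)).trans hd)
      rw [pow_add] at h4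
      have h5 : p ^ (e + 1) ∣ c' * d :=
        Nat.dvd_of_mul_dvd_mul_left (pow_pos hpp.out.pos s) (by exact_mod_cast h4)
      exact (Nat.Coprime.pow_left _ ((hpp.out.coprime_iff_not_dvd).2 hc')).dvd_of_dvd_mul_left h5
  haveI : NeZero (p ^ (m - s)) := ⟨pow_ne_zero _ hpp.out.ne_zero⟩
  let g : ZMod (p ^ (m - s)) → ZMod (p ^ (m - s)) := fun z => ((f z.val / p ^ s : ℕ) : ZMod (p ^ (m - s)))
  have hg : Function.Injective g := by
    have main : ∀ z w : ℕ, z ≤ w → ((f z / p ^ s : ℕ) : ZMod (p ^ (m - s))) = ((f w / p ^ s : ℕ) : ZMod (p ^ (m - s))) →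
        (z : ZMod (p ^ (m - s))) = (w : ZMod (p ^ (m - s))) := by
      intro z w hzw h
      obtain ⟨d, rfl⟩ := Nat.exists_eq_add_of_le hzw
      rw [ZMod.natCast_eq_natCast_iff, Nat.modEq_iff_dvd] at h
      obtain ⟨k1, hk1⟩ := hfs z
      obtain ⟨k2, hk2⟩ := hfs (z + d)
      rw [hk1, hk2, Nat.mul_div_cancel_left _ (pow_pos hpp.out.pos s), Nat.mul_div_cancel_left _ (pow_pos hpp.out.pos s)] at h
      have hd : p ^ (m - s) ∣ d := hinj d z (by
        rw [hk1, hk2, ← Nat.add_sub_cancel' hsm.le, pow_add]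
        push_cast at h ⊢
        rw [← mul_sub]; exact mul_dvd_mul_left _ h) _ le_rfl
      rw [Nat.cast_add, (ZMod.natCast_eq_zero_iff d _).2 hd, add_zero]
    intro z w h
    rcases le_total z.val w.val with hl | hl
    · simpa using main _ _ hl h
    · simpa using (main _ _ hl h.symm).symm
  obtain ⟨z, hz⟩ := (Finite.injective_iff_surjective.1 hg) 0
  have hfm : p ^ m ∣ f z.val := by
    obtain ⟨k1, hk1⟩ := hfs z.val
    simp only [g, ZMod.natCast_eq_zero_iff] at hz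
    rw [hk1, Nat.mul_div_cancel_left _ (pow_pos hpp.out.pos s)] at hz
    rw [hk1, ← Nat.add_sub_cancel' hsm.le, pow_add]
    exact mul_dvd_mul_left _ hz
  set y := p ^ (t - s) * z.val with hy
  have hyp : y * p ^ s = p ^ t * z.val := by rw [hy, mul_right_comm, ← pow_add, Nat.sub_add_cancel hst.le]
  have h1 : (D.a ^ 1 * D.b ^ y) ^ p ^ s = 1 := by
    rw [pow_form, one_mul, hyp, pow_mul D.b, ← hc, ← pow_mul D.a, ← pow_add, ha1]
    exact hfm
  have key : ∀ j, (D.a ^ 1 * D.b ^ y) ^ j ∈ Subgroup.zpowers D.b → p ^ s ∣ j := by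
    intro j hj
    rw [pow_form, one_mul, Subgroup.mul_mem_cancel_right _ (pow_mem (Subgroup.mem_zpowers _) _)] at hj
    obtain ⟨w, hw⟩ := mem_powers_iff_mem_zpowers.2 hj
    change D.b ^ w = D.a ^ _ at hw
    obtain ⟨v, -, hv⟩ := hb w (hw ▸ pow_mem (Subgroup.mem_zpowers _) _)
    have h2 := Nat.ModEq.of_dvd (pow_dvd_pow p hsm.le) ((haeq _ _).1 (hw.symm.trans hv))
    exact (pow_dvd_geo_nat_iff hp (D.sub_one_dvd _) s j).1
      ((h2.dvd_iff dvd_rfl).2 (dvd_mul_of_dvd_left (Dvd.intro _ rfl) _))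
  refine finish (D.a ^ 1 * D.b ^ y) D.b (p ^ s) (p ^ t * p ^ (m - s)) (orderOf_eq_of_dvd h1 fun j hj => key j (hj ▸ one_mem _))
    hordb (hcard.trans ?_) fun j hj => ?_
  · rw [← pow_add, ← pow_add, ← pow_add]; congr 1; omega
  · obtain ⟨w, rfl⟩ := key j hj
    rw [pow_mul, h1, one_pow]

end Cfsg.Agent.S3884
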