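import Cfsg.Statements.S3885
import Mathlib
import Cfsg.Agent.Lib.MetacyclicOdd

set_option autoImplicit false
open Cfsg

namespace Cfsg.Agent.S3885

open scoped Pointwise commutatorElement

open Cfsg.Agent.MetacyclicArith

/-- Let p be an odd prime and G a finite metacyclic p-group (G has a cyclic normal subgroup with cyclic quotient). Then every abelian subgroup K of G containing the center of G is the center of its own centralizer: K = Z(C_G(K)). -/
theorem result {G : Type*} [Group G] [Finite G] {p : ℕ} [Fact p.Prime] (hp : p ≠ 2) (hG : IsPGroup p G) (hmc : Cfsg.IsMetacyclic G) (K : Subgroup G) (hK : IsMulCommutative ↥K) (hZ : Subgroup.center G ≤ K) :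
    K = Subgroup.centralizer (K : Set G) ⊓ Subgroup.centralizer (Subgroup.centralizer (K : Set G) : Set G) := by
  obtain ⟨D⟩ := Cfsg.Agent.MetacyclicOdd.exists_data hG hmc
  have h2 : Subgroup.centralizer (Subgroup.centralizer (K : Set G) : Set G) = K := by
    rw [D.centralizer_eq_img hp K, D.centralizer_eq_img hp, D.img_pre hp, perp_perp, D.pre_img hp hZ]
  rw [h2]
  exact (inf_eq_right.2 (Subgroup.le_centralizer K)).symm

end Cfsg.Agent.S3885
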