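import Cfsg.Statements.S3886
import Mathlib
import Cfsg.Agent.Lib.MetacyclicOdd

set_option autoImplicit false
open Cfsg

namespace Cfsg.Agent.S3886

open scoped Pointwise commutatorElement

open Cfsg.Agent.MetacyclicArith

/-- Let p be an odd prime and G a finite metacyclic p-group (G has a cyclic normal subgroup with cyclic quotient). Then the largest value of |R| · |Z(R)| over subgroups R of G is |G : G'|², and the subgroups attaining it (the centrally large subgroups) are exactly the non-abelian subgroups together with the maximal abelian subgroups of G. -/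
theorem result {G : Type*} [Group G] [Finite G] {p : ℕ} [Fact p.Prime] (hp : p ≠ 2) (hG : IsPGroup p G) (hmc : Cfsg.IsMetacyclic G) : Cfsg.maxCentralProduct G = (commutator G).index ^ 2 ∧
    ∀ R : Subgroup G, Cfsg.IsCentrallyLarge R ↔ (¬ IsMulCommutative ↥R ∨ Maximal (fun K : Subgroup G => IsMulCommutative ↥K) R) := by
  obtain ⟨D⟩ := Cfsg.Agent.MetacyclicOdd.exists_data hG hmc
  rw [D.index_commutator hp]
  set F := (D.q * Nat.card (Subgroup.center G)) ^ 2
  have hcen : ∀ R : Subgroup G, Nat.card (Subgroup.center R) = Nat.card (R ⊓ Subgroup.centralizer (R : Set G) : Subgroup G) := by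
    intro R
    refine Nat.card_congr ⟨fun x => ⟨x.1.1, x.1.2, fun h hh => congrArg Subtype.val (Subgroup.mem_center_iff.1 x.2 ⟨h, hh⟩)⟩,
      fun x => ⟨⟨x.1, x.2.1⟩, Subgroup.mem_center_iff.2 fun h => Subtype.ext (x.2.2 h.1 h.2)⟩, fun x => rfl, fun x => rfl⟩
  have hab : ∀ R : Subgroup G, IsMulCommutative R → Nat.card R * Nat.card (Subgroup.center R) = Nat.card R * Nat.card R := by
    intro R hR
    rw [hcen, inf_eq_left.2 (haveI := hR; Subgroup.le_centralizer R)]
  have hna : ∀ R : Subgroup G, ¬ IsMulCommutative R → Nat.card R * Nat.card (Subgroup.center R) = F := by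
    intro R hR
    have hZ := D.center_le_of_nonabelian hG hp hR
    rcases dichotomy (D.img hp R) with ⟨h, -⟩ | ⟨-, -, hperp, -⟩
    · exact absurd ((D.abelian_iff_isotropic hp R).2 h) hR
    have hC : Subgroup.centralizer (R : Set G) ≤ R := by
      rw [D.centralizer_eq_img hp R]
      refine le_trans ?_ (D.pre_img hp hZ).le
      exact fun g hg => hperp hg
    rw [hcen, inf_eq_right.2 hC, D.centralizer_eq_img hp R, D.card_pre hp, D.card_img_mul hp R, inf_eq_right.2 hZ]
    show _ = F
    have := card_mul_card_perp (D.img hp R)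
    simp only [F, mul_pow]
    rw [← this]; ring
  have hle : ∀ R : Subgroup G, Nat.card R * Nat.card (Subgroup.center R) ≤ F ∧
      (Nat.card R * Nat.card (Subgroup.center R) = F ↔
        (¬ IsMulCommutative ↥R ∨ Maximal (fun K : Subgroup G => IsMulCommutative ↥K) R)) := by
    intro R
    by_cases hR : IsMulCommutative R
    · have h := (D.abelian_iff_card_le hG hp R).1 hR
      rw [hab R hR, D.maximal_abelian_iff hG hp R]
      simp only [F, sq]
      refine ⟨Nat.mul_le_mul h h, ⟨fun e => Or.inr (Nat.mul_self_inj.1 e), ?_⟩⟩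
      rintro (h' | h')
      · exact absurd hR h'
      · rw [h']
    · exact ⟨(hna R hR).le, iff_of_true (hna R hR) (Or.inl hR)⟩
  have htop : Nat.card (⊤ : Subgroup G) * Nat.card (Subgroup.center (⊤ : Subgroup G)) = F := by
    rw [hcen, Subgroup.card_top, D.card_eq hp, top_inf_eq, Subgroup.coe_top, Subgroup.centralizer_univ]
    simp only [F]; ring
  have hF : Cfsg.maxCentralProduct G = F :=
    IsGreatest.csSup_eq ⟨⟨⊤, htop⟩, fun k ⟨R, hR⟩ => hR ▸ (hle R).1⟩
  refine ⟨hF, fun R => ?_⟩
  rw [Cfsg.IsCentrallyLarge, hF]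
  exact (hle R).2

end Cfsg.Agent.S3886
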