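import Cfsg.Statements.S3887
import Mathlib
import Cfsg.Agent.Lib.MetacyclicOdd

set_option autoImplicit false
open Cfsg

namespace Cfsg.Agent.S3887

open scoped Pointwise commutatorElement

open Cfsg.Agent.MetacyclicArith

/-- Let p be an odd prime and G a finite metacyclic p-group (G has a cyclic normal subgroup with cyclic quotient). Then a subgroup R of G maximizes |R| · |C_G(R)| over all subgroups of G if and only if R contains the center of G. -/
theorem result {G : Type*} [Group G] [Finite G] {p : ℕ} [Fact p.Prime] (hp : p ≠ 2) (hG : IsPGroup p G) (hmc : Cfsg.IsMetacyclic G) (R : Subgroup G) : Cfsg.IsCentralizerLarge R ↔ Subgroup.center G ≤ R := by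
  obtain ⟨D⟩ := Cfsg.Agent.MetacyclicOdd.exists_data hG hmc
  have hpp : Fact p.Prime := inferInstance
  have key : ∀ S : Subgroup G, Nat.card S * Nat.card (Subgroup.centralizer (S : Set G)) =
      D.q ^ 2 * Nat.card (Subgroup.center G) * Nat.card (S ⊓ Subgroup.center G : Subgroup G) := by
    intro S
    rw [D.centralizer_eq_img hp S, D.card_pre hp, D.card_img_mul hp S]
    show _ = (p ^ D.n) ^ 2 * _ * _
    rw [← card_mul_card_perp (D.img hp S)]; ring
  have hF : Cfsg.maxCentralizerProduct G = D.q ^ 2 * Nat.card (Subgroup.center G) * Nat.card (Subgroup.center G) := by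
    refine IsGreatest.csSup_eq ⟨⟨⊤, by rw [key, top_inf_eq]⟩, ?_⟩
    rintro k ⟨S, rfl⟩
    rw [key]
    exact Nat.mul_le_mul_left _ (Subgroup.card_le_of_le inf_le_right)
  rw [Cfsg.IsCentralizerLarge, hF, key]
  have hpos : 0 < D.q ^ 2 * Nat.card (Subgroup.center G) := mul_pos (pow_pos (pow_pos hpp.out.pos _) _) Nat.card_pos
  constructor
  · intro h
    exact inf_eq_right.1 (Subgroup.eq_of_le_of_card_ge inf_le_right (Nat.eq_of_mul_eq_mul_left hpos h).ge)
  · intro h
    rw [inf_eq_right.2 h]

end Cfsg.Agent.S3887
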