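import Mathlib
import Cfsg.Statements.S3889
-- import your own Cfsg.Agent.* helpers here

set_option autoImplicit false
open Cfsg

namespace Cfsg.Agent.S3889

/-- A finite abelian group that is the union of a family of proper subgroups any two of which intersect trivially is elementary abelian: its exponent is a prime. -/
theorem result {G : Type*} [CommGroup G] [Finite G] (𝓑 : Set (Subgroup G)) (hprop : ∀ B ∈ 𝓑, B ≠ ⊤)
    (hcov : ∀ g : G, ∃ B ∈ 𝓑, g ∈ B) (hdisj : ∀ B ∈ 𝓑, ∀ C ∈ 𝓑, B ≠ C → B ⊓ C = ⊥) :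
    (Monoid.exponent G).Prime := by
  classical
  have : Nontrivial G := by
    rcases subsingleton_or_nontrivial G with h | h
    · obtain ⟨B, hB, -⟩ := hcov 1
      exact absurd (Subsingleton.elim _ _) (hprop B hB)
    · exact h
  set n := Monoid.exponent G with hn
  obtain ⟨g, hg⟩ := Monoid.exists_orderOf_eq_exponent (Monoid.ExponentExists.of_finite (G := G))
  have hn1 : n ≠ 1 := by
    rw [hn, Ne, Monoid.exp_eq_one_iff]
    exact not_subsingleton G
  have out : ∀ B ∈ 𝓑, ∀ g : G, g ∈ B → orderOf g = n → ∀ y ∉ B, orderOf y = n := by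
    intro B hB g hgB hgn y hy
    obtain ⟨C, hC, hyC⟩ := hcov y
    obtain ⟨E, hE, hgyE⟩ := hcov (g * y)
    have hEB : E ≠ B := by
      rintro rfl
      exact hy ((E.mul_mem_cancel_left hgB).mp hgyE)
    have h1 : g ^ orderOf y ∈ E ⊓ B := by
      refine ⟨?_, B.pow_mem hgB _⟩
      have := E.pow_mem hgyE (orderOf y)
      rwa [mul_pow, pow_orderOf_eq_one, mul_one] at this
    rw [hdisj E hE B hB hEB, Subgroup.mem_bot] at h1
    exact Nat.dvd_antisymm (Monoid.order_dvd_exponent y) (hgn ▸ orderOf_dvd_of_pow_eq_one h1)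
  obtain ⟨B, hB, hgB⟩ := hcov g
  obtain ⟨y, -, hy⟩ := SetLike.exists_of_lt (hprop B hB).lt_top
  obtain ⟨C, hC, hyC⟩ := hcov y
  have hCB : C ≠ B := fun h => hy (h ▸ hyC)
  have all : ∀ z : G, z ≠ 1 → orderOf z = n := by
    intro z hz
    by_cases hzB : z ∈ B
    · refine out C hC y hyC (out B hB g hgB hg y hy) z fun hzC => hz ?_
      exact Subgroup.mem_bot.mp (hdisj C hC B hB hCB ▸ ⟨hzC, hzB⟩)
    · exact out B hB g hgB hg z hzB
  obtain ⟨p, hp, hpn⟩ := Nat.exists_prime_and_dvd hn1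
  have := Fact.mk hp
  obtain ⟨z, hz⟩ := exists_prime_orderOf_dvd_card' (G := G) p (hpn.trans Group.exponent_dvd_nat_card)
  rw [← all z (fun h => hp.ne_one (by rw [← hz, h, orderOf_one])), hz]
  exact hp

end Cfsg.Agent.S3889
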