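import Mathlib
import Cfsg.Agent.Lib.CoprimeAction
import Cfsg.Statements.S3890
-- import your own Cfsg.Agent.* helpers here

set_option autoImplicit false
open Cfsg

namespace Cfsg.Agent.S3890

open scoped Pointwise

variable {G : Type*} [Group G] [Finite G]

/-- A finite set of proper subgroups covering `G`. -/
abbrev IsCover (𝓐 : Finset (Subgroup G)) : Prop := (∀ A ∈ 𝓐, A ≠ ⊤) ∧ (∀ g : G, ∃ A ∈ 𝓐, g ∈ A)

/-- A nilpotent minimal cover. -/
abbrev IsNilMinCover (𝓐 : Finset (Subgroup G)) : Prop :=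
  IsCover 𝓐 ∧ (∀ 𝓑 : Finset (Subgroup G), IsCover 𝓑 → 𝓐.card ≤ 𝓑.card) ∧ (∀ A ∈ 𝓐, Group.IsNilpotent ↥A)

/-- A proper subgroup contains at most one member of a minimal cover. -/
theorem eq_of_le_proper {𝓐 : Finset (Subgroup G)} (h𝓐 : IsNilMinCover 𝓐) {A B H : Subgroup G} (hA : A ∈ 𝓐) (hB : B ∈ 𝓐)
    (hH : H ≠ ⊤) (hAH : A ≤ H) (hBH : B ≤ H) : A = B := by
  classical
  by_contra hne
  have hcov : IsCover (insert H ((𝓐.erase A).erase B)) := by
    refine ⟨fun C hC => ?_, fun g => ?_⟩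
    · rcases Finset.mem_insert.mp hC with rfl | hC
      · exact hH
      · exact h𝓐.1.1 C (Finset.mem_of_mem_erase (Finset.mem_of_mem_erase hC))
    · obtain ⟨C, hC, hg⟩ := h𝓐.1.2 g
      by_cases hCA : C = A
      · exact ⟨H, Finset.mem_insert_self _ _, hAH (hCA ▸ hg)⟩
      by_cases hCB : C = B
      · exact ⟨H, Finset.mem_insert_self _ _, hBH (hCB ▸ hg)⟩
      exact ⟨C, Finset.mem_insert_of_mem (Finset.mem_erase.mpr ⟨hCB, Finset.mem_erase.mpr ⟨hCA, hC⟩⟩), hg⟩
  have h1 := h𝓐.2.1 _ hcov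
  have h2 := Finset.card_insert_le H ((𝓐.erase A).erase B)
  rw [Finset.card_erase_of_mem (Finset.mem_erase.mpr ⟨Ne.symm hne, hB⟩), Finset.card_erase_of_mem hA] at h2
  have h3 : 1 < 𝓐.card := Finset.one_lt_card.mpr ⟨A, hA, B, hB, hne⟩
  omega

variable {p : ℕ} [hp : Fact p.Prime]

omit [Finite G] hp in
/-- `p`-subgroups lie in abelian Sylow subgroups. -/
theorem isMulCommutative_conj (P : Sylow p G) (hab : IsMulCommutative ↥(P : Subgroup G)) (g : G) {a b : G}
    (ha : a ∈ MulAut.conj g • (P : Subgroup G)) (hb : b ∈ MulAut.conj g • (P : Subgroup G)) : a * b = b * a := by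
  obtain ⟨a', ha', rfl⟩ := ha
  obtain ⟨b', hb', rfl⟩ := hb
  show MulAut.conj g a' * MulAut.conj g b' = MulAut.conj g b' * MulAut.conj g a'
  rw [← map_mul, ← map_mul]
  exact congrArg _ (congrArg Subtype.val (hab.is_comm.comm ⟨a', ha'⟩ ⟨b', hb'⟩))

/-- In a member of the cover the `p`-elements are central. -/
theorem commute_of_mem {𝓐 : Finset (Subgroup G)} (h𝓐 : IsNilMinCover 𝓐) (P : Sylow p G)
    (hab : IsMulCommutative ↥(P : Subgroup G)) {A : Subgroup G} (hA : A ∈ 𝓐) {x : G} (hx : x ∈ A)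
    (hxp : ∃ k : ℕ, x ^ p ^ k = 1) {a : G} (ha : a ∈ A) : a * x = x * a := by
  haveI := h𝓐.2.2 A hA
  have hnorm : ∀ (q : ℕ) [Fact q.Prime] (Q : Sylow q A), (Q : Subgroup A).Normal := fun q _ Q =>
    Sylow.normal_of_normalizerCondition Group.normalizerCondition_of_isNilpotent Q
  obtain ⟨k, hk⟩ := hxp
  set u : A := ⟨x, hx⟩ with hu
  have hup : IsPGroup p (Subgroup.zpowers u) := by
    obtain ⟨j, -, hj⟩ := (Nat.dvd_prime_pow hp.out).mp (orderOf_dvd_of_pow_eq_one (x := u) (n := p ^ k) (Subtype.ext (by simpa using hk)))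
    exact IsPGroup.of_card (n := j) (by rw [Nat.card_zpowers, hj])
  obtain ⟨R, hR⟩ := hup.exists_le_sylow
  have hcent : Subgroup.centralizer ({u} : Set A) = ⊤ := by
    rw [← Subgroup.index_eq_one, Nat.eq_one_iff_not_exists_prime_dvd]
    intro q hq hqd
    haveI := Fact.mk hq
    obtain ⟨Q⟩ : Nonempty (Sylow q A) := inferInstance
    refine Q.not_dvd_index (hqd.trans (Subgroup.index_dvd_of_le fun v hv => ?_))
    rw [Subgroup.mem_centralizer_singleton_iff]
    rcases eq_or_ne q p with rfl | hqp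
    · have hQR : Q = R := by
        haveI := hnorm q R
        haveI := Sylow.unique_of_normal R inferInstance
        exact Subsingleton.elim _ _
      subst hQR
      obtain ⟨T, hT⟩ := (Q.isPGroup'.map A.subtype).exists_le_sylow
      obtain ⟨g, hg⟩ := MulAction.exists_smul_eq G P T
      have hmem : ∀ w ∈ (Q : Subgroup A), (w : G) ∈ MulAut.conj g • (P : Subgroup G) := fun w hw => by
        have := hT (Subgroup.mem_map_of_mem A.subtype hw)
        rw [← hg] at this
        exact this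
      exact Subtype.ext (isMulCommutative_conj P hab g (hmem v hv) (hmem u (hR (Subgroup.mem_zpowers u))))
    · exact Subgroup.commute_of_normal_of_disjoint (Q : Subgroup A) (R : Subgroup A) (hnorm q Q) (hnorm p R)
        (IsPGroup.disjoint_of_ne q p hqp _ _ Q.isPGroup' R.isPGroup') v u hv (hR (Subgroup.mem_zpowers u))
  have := Subgroup.mem_centralizer_singleton_iff.mp (hcent ▸ Subgroup.mem_top (⟨a, ha⟩ : A))
  exact congrArg Subtype.val this

/-- A nontrivial `p`-element lies in only one member of the cover. -/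
theorem eq_of_mem_mem (hZ : Subgroup.center G = ⊥) {𝓐 : Finset (Subgroup G)} (h𝓐 : IsNilMinCover 𝓐) (P : Sylow p G)
    (hab : IsMulCommutative ↥(P : Subgroup G)) {A B : Subgroup G} (hA : A ∈ 𝓐) (hB : B ∈ 𝓐) {x : G}
    (hxA : x ∈ A) (hxB : x ∈ B) (hxp : ∃ k : ℕ, x ^ p ^ k = 1) (hx : x ≠ 1) : A = B := by
  refine eq_of_le_proper h𝓐 hA hB (H := Subgroup.centralizer ({x} : Set G)) (fun h => hx ?_)
    (fun a ha => Subgroup.mem_centralizer_singleton_iff.mpr (commute_of_mem h𝓐 P hab hA hxA hxp ha))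
    (fun a ha => Subgroup.mem_centralizer_singleton_iff.mpr (commute_of_mem h𝓐 P hab hB hxB hxp ha))
  have : x ∈ Subgroup.center G := Subgroup.mem_center_iff.mpr fun g =>
    Subgroup.mem_centralizer_singleton_iff.mp (h ▸ Subgroup.mem_top g)
  rwa [hZ, Subgroup.mem_bot] at this

/-- A Sylow subgroup of a member: the member is its centraliser. -/
theorem centralizer_eq_of_le (hZ : Subgroup.center G = ⊥) {𝓐 : Finset (Subgroup G)} (h𝓐 : IsNilMinCover 𝓐)
    (P : Sylow p G) (hab : IsMulCommutative ↥(P : Subgroup G)) (R : Sylow p G) (hR : (R : Subgroup G) ≠ ⊥)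
    {A : Subgroup G} (hA : A ∈ 𝓐) (hRA : (R : Subgroup G) ≤ A) :
    Subgroup.centralizer ((R : Subgroup G) : Set G) = A := by
  have hpel : ∀ {x}, x ∈ (R : Subgroup G) → ∃ k : ℕ, x ^ p ^ k = 1 := fun {x} hx =>
    (R.isPGroup' ⟨x, hx⟩).imp fun k hk => congrArg Subtype.val hk
  refine le_antisymm (fun c hc => ?_) fun a ha => Subgroup.mem_centralizer_iff.mpr fun x hx =>
    (commute_of_mem h𝓐 P hab hA (hRA hx) (hpel hx) ha).symm
  rw [Subgroup.mem_centralizer_iff] at hc
  obtain ⟨x0, hx0, hx01⟩ := (Subgroup.bot_or_exists_ne_one (R : Subgroup G)).resolve_left hR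
  have hn0 := (orderOf_pos c).ne'
  set m := ordCompl[p] (orderOf c) with hm
  set i := (orderOf c).factorization p with hi
  have hcm : c ^ m ∈ (R : Subgroup G) := by
    have hP : IsPGroup p (Subgroup.zpowers (c ^ m)) := by
      obtain ⟨j, -, hj⟩ := (Nat.dvd_prime_pow hp.out).mp (orderOf_dvd_of_pow_eq_one (x := c ^ m) (n := p ^ i) (by
        rw [← pow_mul, mul_comm, hm, hi, Nat.ordProj_mul_ordCompl_eq_self, pow_orderOf_eq_one]))
      exact IsPGroup.of_card (n := j) (by rw [Nat.card_zpowers, hj])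
    have hle : Subgroup.zpowers (c ^ m) ≤ Subgroup.normalizer ((R : Subgroup G) : Set G) := by
      rw [Subgroup.zpowers_le]
      refine Subgroup.centralizer_le_normalizer _ (Subgroup.mem_centralizer_iff.mpr fun x hx => ?_)
      exact (Commute.pow_right (hc x hx) m).eq
    have hsup := hP.inf_normalizer_sylow R
    exact (inf_eq_left.mp ((hsup.symm).trans (inf_eq_left.mpr hle))) (Subgroup.mem_zpowers _)
  have hcp : c ^ p ^ i ∈ A := by
    set y := c ^ p ^ i with hy
    have hxy : Commute x0 y := Commute.pow_right (hc x0 hx0) _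
    have hcop : (orderOf x0).Coprime (orderOf y) := by
      obtain ⟨j, hj⟩ := hpel hx0
      obtain ⟨j', -, hj'⟩ := (Nat.dvd_prime_pow hp.out).mp (orderOf_dvd_of_pow_eq_one hj)
      rw [hj']
      refine Nat.Coprime.pow_left _ (Nat.Coprime.coprime_dvd_right (orderOf_dvd_of_pow_eq_one (x := y) (n := m) ?_) ?_)
      · rw [hy, ← pow_mul, hm, hi, Nat.ordProj_mul_ordCompl_eq_self, pow_orderOf_eq_one]
      · exact (Nat.Prime.coprime_iff_not_dvd hp.out).mpr (Nat.not_dvd_ordCompl hp.out hn0)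
    obtain ⟨B, hB, hxyB⟩ := h𝓐.1.2 (x0 * y)
    have hx0B : x0 ∈ B := by
      have h1 : x0 ^ orderOf y ∈ B := by
        have := B.pow_mem hxyB (orderOf y)
        rwa [hxy.mul_pow, pow_orderOf_eq_one, mul_one] at this
      obtain ⟨l, hl⟩ := exists_pow_eq_self_of_coprime (x := x0) (n := orderOf y) hcop.symm
      rw [← hl]
      exact pow_mem h1 _
    have hyB : y ∈ B := by simpa using mul_mem (inv_mem hx0B) hxyB
    rwa [eq_of_mem_mem hZ h𝓐 P hab hA hB (hRA hx0) hx0B (hpel hx0) hx01]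
  have hg : Nat.gcd m (p ^ i) = 1 := Nat.Coprime.pow_right i (Nat.coprime_comm.mp
    ((Nat.Prime.coprime_iff_not_dvd hp.out).mpr (Nat.not_dvd_ordCompl hp.out hn0)))
  have hbez := Nat.gcd_eq_gcd_ab m (p ^ i)
  rw [hg] at hbez
  have h1 : (c ^ m) ^ Nat.gcdA m (p ^ i) * (c ^ p ^ i) ^ Nat.gcdB m (p ^ i) = c := by
    rw [← zpow_natCast c m, ← zpow_natCast c (p ^ i), ← zpow_mul, ← zpow_mul, ← zpow_add, ← hbez]
    simp
  rw [← h1]
  exact mul_mem (A.zpow_mem (hRA hcm) _) (A.zpow_mem hcp _)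

/-- An abelian Sylow subgroup lies in a member unless it is elementary abelian of order above `p`. -/
theorem exists_member_of_not (hZ : Subgroup.center G = ⊥) {𝓐 : Finset (Subgroup G)} (h𝓐 : IsNilMinCover 𝓐)
    (P : Sylow p G) (hab : IsMulCommutative ↥(P : Subgroup G))
    (hne : ¬ (Cfsg.IsElementaryAbelian p (P : Subgroup G) ∧ p < Nat.card ↥(P : Subgroup G))) (g : G) :
    ∃ A ∈ 𝓐, MulAut.conj g • (P : Subgroup G) ≤ A := by
  by_contra hcon
  push Not at hcon
  apply hne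
  set R := MulAut.conj g • (P : Subgroup G) with hR
  have hpel : ∀ {x}, x ∈ R → ∃ k : ℕ, x ^ p ^ k = 1 := by
    rintro _ ⟨x, hx, rfl⟩
    obtain ⟨k, hk⟩ := P.isPGroup' ⟨x, hx⟩
    exact ⟨k, by show MulAut.conj g x ^ p ^ k = 1; rw [← map_pow, show x ^ p ^ k = 1 from congrArg Subtype.val hk, map_one]⟩
  have hexp : ∀ z ∈ R, z ^ p = 1 := by
    intro z hz
    by_contra hzp
    obtain ⟨C, hC, hzC⟩ := h𝓐.1.2 z
    obtain ⟨w, hwR, hwC⟩ := Set.not_subset.mp (hcon C hC)
    obtain ⟨D, hD, hwD⟩ := h𝓐.1.2 w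
    have hw1 : w ≠ 1 := fun e => hwC (e ▸ one_mem C)
    obtain ⟨k, hk⟩ := hpel hwR
    obtain ⟨j, -, hj⟩ := (Nat.dvd_prime_pow hp.out).mp (orderOf_dvd_of_pow_eq_one hk)
    have hj0 : j ≠ 0 := fun e => hw1 (orderOf_eq_one_iff.mp (by rw [hj, e, pow_zero]))
    set w' := w ^ (orderOf w / p) with hw'
    have hw'o : orderOf w' = p := orderOf_pow_orderOf_div (orderOf_pos w).ne' (hj ▸ dvd_pow_self p hj0)
    have hw'1 : w' ≠ 1 := fun e => by rw [e, orderOf_one] at hw'o; exact hp.out.ne_one hw'o.symm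
    have hw'R : w' ∈ R := pow_mem hwR _
    have hw'C : w' ∉ C := fun hm => hwC ((eq_of_mem_mem hZ h𝓐 P hab hC hD hm (pow_mem hwD _) (hpel hw'R) hw'1) ▸ hwD)
    obtain ⟨E, hE, hzwE⟩ := h𝓐.1.2 (z * w')
    have hzE : z ^ p ∈ E := by
      have hc : Commute z w' := isMulCommutative_conj P hab g hz hw'R
      have := E.pow_mem hzwE p
      rwa [hc.mul_pow, show w' ^ p = 1 from hw'o ▸ pow_orderOf_eq_one w', mul_one] at this
    have hCE := eq_of_mem_mem hZ h𝓐 P hab hC hE (pow_mem hzC p) hzE (hpel (pow_mem hz p)) hzp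
    subst hCE
    exact hw'C (by simpa using mul_mem (inv_mem hzC) hzwE)
  refine ⟨⟨hab, fun a ha => (MulAut.conj g).injective ?_⟩, ?_⟩
  · rw [map_pow, map_one]
    exact hexp _ ⟨a, ha, rfl⟩
  by_contra hle
  push Not at hle
  obtain ⟨A, hA, -⟩ := h𝓐.1.2 1
  obtain ⟨x, hx, hxA⟩ := Set.not_subset.mp (hcon A hA)
  obtain ⟨B, hB, hxB⟩ := h𝓐.1.2 x
  have hx1 : x ≠ 1 := fun e => hxA (e ▸ one_mem A)
  refine hcon B hB ?_
  have hxo : orderOf x = p := orderOf_eq_prime (hexp x hx) hx1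
  have hxR : Subgroup.zpowers x ≤ R := (Subgroup.zpowers_le).mpr hx
  have hcard : Nat.card R ≤ Nat.card (Subgroup.zpowers x) := by
    rw [Nat.card_zpowers, hxo, hR, CoprimeSZ.card_conj_smul]
    exact hle
  rw [← Subgroup.eq_of_le_of_card_ge hxR hcard]
  exact (Subgroup.zpowers_le).mpr hxB

/-- The structure of a Sylow subgroup that is not elementary abelian of order above `p`. -/
theorem core (hZ : Subgroup.center G = ⊥) {𝓐 : Finset (Subgroup G)} (h𝓐 : IsNilMinCover 𝓐)
    (P : Sylow p G) (hab : IsMulCommutative ↥(P : Subgroup G)) (hnn : ¬ (P : Subgroup G).Normal)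
    (hne : ¬ (Cfsg.IsElementaryAbelian p (P : Subgroup G) ∧ p < Nat.card ↥(P : Subgroup G))) :
    ∃ A ∈ 𝓐, (P : Subgroup G) ≤ A ∧ Subgroup.centralizer ((P : Subgroup G) : Set G) = A ∧
      IsCoatom (Subgroup.normalizer ((P : Subgroup G) : Set G)) ∧
      (∀ M : Subgroup G, IsCoatom M → A ≤ M → M = Subgroup.normalizer ((P : Subgroup G) : Set G)) ∧
      (∀ g : G, g ∉ Subgroup.normalizer ((P : Subgroup G) : Set G) →
        ¬ p ∣ Nat.card ↥(Subgroup.normalizer ((P : Subgroup G) : Set G) ⊓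
          (Subgroup.normalizer ((P : Subgroup G) : Set G)).map (MulAut.conj g).toMonoidHom)) := by
  have hPne : (P : Subgroup G) ≠ ⊥ := fun e => hnn (e ▸ inferInstance)
  obtain ⟨A, hA, hPA⟩ := exists_member_of_not hZ h𝓐 P hab hne 1
  rw [map_one, one_smul] at hPA
  have hC := centralizer_eq_of_le hZ h𝓐 P hab P hPne hA hPA
  set N := Subgroup.normalizer ((P : Subgroup G) : Set G) with hN
  have hAN : A ≤ N := hC ▸ Subgroup.centralizer_le_normalizer _
  have hNtop : N ≠ ⊤ := fun h => hnn (Subgroup.normalizer_eq_top_iff.mp h)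
  have hPuniq : ∀ {Q : Subgroup G}, IsPGroup p Q → Q ≤ N → Q ≤ (P : Subgroup G) := fun {Q} hQ hle => by
    have := hQ.inf_normalizer_sylow P
    exact inf_eq_left.mp (this.symm.trans (inf_eq_left.mpr hle))
  -- conjugates
  have hconj : ∀ g : G, g ∉ N → ∃ B ∈ 𝓐, A ≠ B ∧ MulAut.conj g • (P : Subgroup G) ≤ B ∧
      ∀ H : Subgroup G, A ≤ H → g ∈ H → B ≤ H := by
    intro g hg
    obtain ⟨B, hB, hle⟩ := exists_member_of_not hZ h𝓐 P hab hne g
    have hgne : ((g • P : Sylow p G) : Subgroup G) ≠ ⊥ := by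
      obtain ⟨x, hx, hx1⟩ := (Subgroup.bot_or_exists_ne_one (P : Subgroup G)).resolve_left hPne
      intro e
      have hm : MulAut.conj g x ∈ ((g • P : Sylow p G) : Subgroup G) := ⟨x, hx, rfl⟩
      rw [e, Subgroup.mem_bot] at hm
      exact hx1 ((MulAut.conj g).injective (hm.trans (map_one _).symm))
    have hCB : Subgroup.centralizer ((MulAut.conj g • (P : Subgroup G) : Subgroup G) : Set G) = B :=
      centralizer_eq_of_le hZ h𝓐 P hab (g • P) hgne hB hle
    refine ⟨B, hB, ?_, hle, fun H hAH hgH b hb => ?_⟩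
    · rintro rfl
      apply hg
      have h1 := hPuniq (P.isPGroup'.map (MulAut.conj g).toMonoidHom) (hle.trans hAN)
      rw [hN]
      refine CoprimeAction.mem_normalizer_of_conj_smul_eq (Subgroup.eq_of_le_of_card_ge h1 ?_)
      exact (CoprimeSZ.card_conj_smul g (P : Subgroup G)).ge
    · have hb' : g⁻¹ * b * g ∈ A := by
        rw [← hC, Subgroup.mem_centralizer_iff]
        intro x hx
        rw [← hCB, Subgroup.mem_centralizer_iff] at hb
        have h1 := hb (g * x * g⁻¹) ⟨x, hx, rfl⟩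
        calc x * (g⁻¹ * b * g) = g⁻¹ * (g * x * g⁻¹ * b) * g := by group
          _ = g⁻¹ * (b * (g * x * g⁻¹)) * g := by rw [h1]
          _ = _ := by group
      have := H.mul_mem (H.mul_mem hgH (hAH hb')) (H.inv_mem hgH)
      simpa [mul_assoc] using this
  have hmax : ∀ M : Subgroup G, M ≠ ⊤ → A ≤ M → M ≤ N := by
    intro M hM hAM g hgM
    by_contra hg
    obtain ⟨B, hB, hne', -, hBH⟩ := hconj g hg
    exact hne' (eq_of_le_proper h𝓐 hA hB hM hAM (hBH M hAM hgM))
  have hco : IsCoatom N := ⟨hNtop, fun M hM => by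
    by_contra hMt
    exact hM.not_ge (hmax M hMt (hAN.trans hM.le))⟩
  refine ⟨A, hA, hPA, hC, hco, fun M hM hAM => ?_, fun g hg hd => ?_⟩
  · rcases eq_or_lt_of_le (hmax M hM.1 hAM) with h | h
    · exact h
    · exact absurd (hM.2 _ h) hNtop
  · obtain ⟨B, hB, hne', hle, -⟩ := hconj g hg
    obtain ⟨x, hx⟩ := exists_prime_orderOf_dvd_card' p hd
    obtain ⟨hxN, n, hn, hne2⟩ := x.2
    have hxo : orderOf (x : G) = p := by rw [Subgroup.orderOf_coe, hx]
    have hno : orderOf n = p := by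
      rw [← hxo, ← hne2]
      exact (MulEquiv.orderOf_eq (MulAut.conj g) n).symm
    have hzp : ∀ {y : G}, orderOf y = p → y ∈ N → y ∈ (P : Subgroup G) := fun {y} hy hyN =>
      hPuniq (IsPGroup.of_card (n := 1) (by rw [Nat.card_zpowers, hy, pow_one]))
        ((Subgroup.zpowers_le).mpr hyN) (Subgroup.mem_zpowers y)
    exact hne' (eq_of_mem_mem hZ h𝓐 P hab hA hB (hPA (hzp hxo hxN))
      (hle (hne2 ▸ ⟨n, hzp hno hn, rfl⟩)) ⟨1, by rw [pow_one, ← hxo, pow_orderOf_eq_one]⟩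
      (fun e => by rw [e, orderOf_one] at hxo; exact hp.out.ne_one hxo.symm))

/-- A cover of a group is a finite set of proper subgroups whose union is the whole group; it is minimal when no cover has fewer members, and nilpotent when all its members are nilpotent. Let G be a finite group with trivial center admitting a nilpotent minimal cover 𝓐, and let P be an abelian Sylow p-subgroup of G that is not normal. Then either P is elementary abelian of order greater than p, or P is a Sylow p-subgroup of some member A of 𝓐, the normalizer N of P is a maximal subgroup of G, N meets each of its conjugates by elements outside N in a subgroup of order prime to p, and the centralizer of P equals A. -/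
theorem result {G : Type*} [Group G] [Finite G] (hZ : Subgroup.center G = ⊥) (𝓐 : Finset (Subgroup G))
    (h𝓐 : ((∀ A ∈ 𝓐, A ≠ ⊤) ∧ (∀ g : G, ∃ A ∈ 𝓐, g ∈ A)) ∧ (∀ 𝓑 : Finset (Subgroup G), (∀ A ∈ 𝓑, A ≠ ⊤) ∧ (∀ g : G, ∃ A ∈ 𝓑, g ∈ A) → 𝓐.card ≤ 𝓑.card) ∧ (∀ A ∈ 𝓐, Group.IsNilpotent ↥A)) {p : ℕ} [Fact p.Prime] (P : Sylow p G) (hab : IsMulCommutative ↥(P : Subgroup G))
    (hnn : ¬ (P : Subgroup G).Normal) :
    (Cfsg.IsElementaryAbelian p (P : Subgroup G) ∧ p < Nat.card ↥(P : Subgroup G)) ∨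
    (∃ A ∈ 𝓐, (P : Subgroup G) ≤ A ∧ ¬ p ∣ ((P : Subgroup G).subgroupOf A).index ∧
      IsCoatom (Subgroup.normalizer ((P : Subgroup G) : Set G)) ∧
      (∀ g : G, g ∉ Subgroup.normalizer ((P : Subgroup G) : Set G) →
        ¬ p ∣ Nat.card ↥(Subgroup.normalizer ((P : Subgroup G) : Set G) ⊓
          (Subgroup.normalizer ((P : Subgroup G) : Set G)).map (MulAut.conj g).toMonoidHom)) ∧
      Subgroup.centralizer ((P : Subgroup G) : Set G) = A) := by
  by_cases hne : Cfsg.IsElementaryAbelian p (P : Subgroup G) ∧ p < Nat.card ↥(P : Subgroup G)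
  · exact Or.inl hne
  obtain ⟨A, hA, hPA, hC, hco, -, hinter⟩ := core hZ h𝓐 P hab hnn hne
  refine Or.inr ⟨A, hA, hPA, fun hd => P.not_dvd_index ?_, hco, hinter, hC⟩
  exact hd.trans (Subgroup.relIndex_dvd_index_of_le hPA)

end Cfsg.Agent.S3890
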