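import Cfsg.Statements.S3892
import Mathlib
import Cfsg.Agent.Lib.FittingHallBasic
-- import your own Cfsg.Agent.* helpers here

set_option autoImplicit false
set_option linter.all false
open Cfsg

namespace Cfsg.Agent.S3892

open Equiv Equiv.Perm Finset

variable {n : ℕ} {H : Type*} [Group H]

theorem mem_zpowers_of_commute {x y : Perm (Fin n)} (hx : x.IsCycle) (hcard : n ≤ x.support.card + 1)
    (hc : Commute y x) : y ∈ Subgroup.zpowers x := by
  classical
  obtain ⟨hc', hmem⟩ := hx.commute_iff.1 hc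
  have : ofSubtype (subtypePerm y hc') = y := by
    ext a
    by_cases ha : a ∈ x.support
    · rw [ofSubtype_subtypePerm_of_mem hc' ha]
    · have hya : y a ∉ x.support := fun h => ha ((hc' a).1 h)
      rw [ofSubtype_apply_of_not_mem _ ha]
      have hle : x.supportᶜ.card ≤ 1 := by rw [Finset.card_compl, Fintype.card_fin]; omega
      exact congrArg Fin.val (Finset.card_le_one.1 hle a (Finset.mem_compl.2 ha) (y a) (Finset.mem_compl.2 hya))
  rwa [this] at hmem

variable [Finite H] (e : H →* Perm (Fin n)) (he : Function.Injective e)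

include he in
theorem not_sq_dvd {r : ℕ} (hr : r.Prime) (hnr : n < 2 * r) (A : Subgroup H) : ¬ r ^ 2 ∣ Nat.card A := by
  intro h1
  have h2 : Nat.card A ∣ n.factorial := by
    have := Subgroup.card_dvd_of_injective (e.comp A.subtype) (he.comp A.subtype_injective)
    rwa [Nat.card_perm, Nat.card_fin] at this
  have h3 := h1.trans h2
  rw [hr.pow_dvd_iff_le_factorization (Nat.factorial_ne_zero n)] at h3
  rw [Nat.factorization_factorial hr (lt_add_one (Nat.log r n))] at h3
  have hlog : Nat.log r n ≤ 1 := by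
    by_contra hl
    have := Nat.pow_le_of_le_log (x := 2) (by rintro rfl; simp at hl) (show 2 ≤ Nat.log r n by omega)
    have := hr.two_le
    rw [pow_two] at *
    nlinarith
  have hdiv : n / r ≤ 1 := Nat.lt_succ_iff.1 ((Nat.div_lt_iff_lt_mul hr.pos).2 (by omega))
  have hsum : (∑ i ∈ Finset.Ico 1 (Nat.log r n + 1), n / r ^ i) ≤ 1 := by
    refine (Finset.sum_le_sum_of_subset (show Finset.Ico 1 (Nat.log r n + 1) ⊆ {1} from fun i hi => by
      rw [Finset.mem_Ico] at hi; rw [Finset.mem_singleton]; omega)).trans ?_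
    simpa using hdiv
  omega

include he in
theorem zpowers_eq {r : ℕ} (hr : r.Prime) (hnr : n < 2 * r) (A : Subgroup H) [Group.IsNilpotent A]
    {x y : A} (hx : orderOf x = r) (hy : orderOf y = r) : Subgroup.zpowers x = Subgroup.zpowers y := by
  classical
  haveI : Fact r.Prime := ⟨hr⟩
  obtain ⟨Q⟩ := Sylow.nonempty (p := r) (G := A)
  have hnc : NormalizerCondition A := by exact Group.normalizerCondition_of_isNilpotent
  haveI hn : (Q : Subgroup A).Normal := Sylow.normal_of_normalizerCondition hnc Q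
  obtain ⟨k, hk⟩ := IsPGroup.iff_card.1 Q.isPGroup'
  have hle : ∀ z : A, orderOf z = r → Subgroup.zpowers z ≤ (Q : Subgroup A) := by
    intro z hz
    have hzp : IsPGroup r (Subgroup.zpowers z) := IsPGroup.of_card (n := 1) (by rw [Nat.card_zpowers, hz, pow_one])
    obtain ⟨Q', hQ'⟩ := hzp.exists_le_sylow
    haveI := Sylow.unique_of_normal Q hn
    rwa [Subsingleton.elim Q' Q] at hQ'
  have hk1 : k ≤ 1 := by
    by_contra hk2
    exact not_sq_dvd e he hr hnr A ((pow_dvd_pow r (by omega : 2 ≤ k)).trans (hk ▸ Subgroup.card_subgroup_dvd_card _))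
  have hQle : Nat.card (Q : Subgroup A) ≤ r := by
    rw [hk]; exact (Nat.pow_le_pow_right hr.pos hk1).trans (pow_one r).le
  have h1 := Subgroup.eq_of_le_of_card_ge (hle x hx) (by rw [Nat.card_zpowers, hx]; exact hQle)
  have h2 := Subgroup.eq_of_le_of_card_ge (hle y hy) (by rw [Nat.card_zpowers, hy]; exact hQle)
  rw [h1, h2]

/-- Members of the family containing an `r`-cycle. -/
noncomputable def withCycle (𝓐 : Finset (Subgroup H)) (r : ℕ) : Finset (Subgroup H) := by
  classical
  exact 𝓐.filter fun A => ∃ g ∈ A, (e g).cycleType = {r}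

theorem mem_withCycle {𝓐 : Finset (Subgroup H)} {r : ℕ} {A : Subgroup H} :
    A ∈ withCycle e 𝓐 r ↔ A ∈ 𝓐 ∧ ∃ g ∈ A, (e g).cycleType = {r} := by
  classical
  unfold withCycle; exact Finset.mem_filter

theorem cycle_facts {r : ℕ} {x : Perm (Fin n)} (h : x.cycleType = {r}) : x.IsCycle ∧ x.support.card = r ∧ orderOf x = r := by
  have hc : x.IsCycle := card_cycleType_eq_one.1 (by rw [h]; rfl)
  have hs : x.support.card = r := by rw [← sum_cycleType, h, Multiset.sum_singleton]
  exact ⟨hc, hs, hc.orderOf.trans hs⟩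

include he in
theorem card_withCycle {r : ℕ} (hr : r.Prime) (hrn : r ≤ n) (hnr : n < 2 * r)
    (hev : ∀ x : Perm (Fin n), x.cycleType = {r} → x ∈ e.range)
    (𝓐 : Finset (Subgroup H)) (hcov : ∀ g : H, ∃ A ∈ 𝓐, g ∈ A) (hnil : ∀ A ∈ 𝓐, Group.IsNilpotent A) :
    (r - 2).factorial * n.choose r ≤ (withCycle e 𝓐 r).card := by
  classical
  let C : Finset (Perm (Fin n)) := Finset.univ.filter fun x => x.cycleType = {r}
  have hC : C.card = (r - 1).factorial * n.choose r := by
    have h := card_of_cycleType_singleton (α := Fin n) hr.two_le (by rw [Fintype.card_fin]; exact hrn)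
    rw [Fintype.card_fin] at h
    exact h
  have hw : ∀ x ∈ C, ∃ A ∈ withCycle e 𝓐 r, ∃ g ∈ A, e g = x := by
    intro x hx
    obtain ⟨g, hg⟩ := hev x (Finset.mem_filter.1 hx).2
    obtain ⟨A, hA, hgA⟩ := hcov g
    exact ⟨A, Finset.mem_filter.2 ⟨hA, g, hgA, by rw [hg]; exact (Finset.mem_filter.1 hx).2⟩, g, hgA, hg⟩
  choose! φ hφ g hgA hg using hw
  have hfib : ∀ A ∈ withCycle e 𝓐 r, (C.filter fun x => φ x = A).card ≤ r - 1 := by
    intro A hA
    rcases (C.filter fun x => φ x = A).eq_empty_or_nonempty with h0 | ⟨x, hx⟩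
    · rw [h0]; simp
    rw [Finset.mem_filter] at hx
    haveI := hnil A (Finset.mem_filter.1 hA).1
    have horder : ∀ y ∈ C, ∀ h : g y ∈ A, orderOf (⟨g y, h⟩ : A) = r := by
      intro y hy h
      rw [Subgroup.orderOf_mk, ← orderOf_injective e he, hg y hy]
      exact (cycle_facts (Finset.mem_filter.1 hy).2).2.2
    have hsub : (C.filter fun y => φ y = A) ⊆ (Finset.Ico 1 r).image fun i : ℕ => x ^ i := by
      intro y hy
      rw [Finset.mem_filter] at hy
      have hxA : g x ∈ A := hx.2 ▸ hgA x hx.1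
      have hyA : g y ∈ A := hy.2 ▸ hgA y hy.1
      have hmem : (⟨g y, hyA⟩ : A) ∈ Subgroup.zpowers (⟨g x, hxA⟩ : A) :=
        (zpowers_eq e he hr hnr A (horder y hy.1 hyA) (horder x hx.1 hxA)) ▸ Subgroup.mem_zpowers _
      rw [mem_zpowers_iff_mem_range_orderOf, Finset.mem_image] at hmem
      obtain ⟨i, hi, hie⟩ := hmem
      rw [Finset.mem_range, horder x hx.1 hxA] at hi
      have hyx : x ^ i = y := by
        rw [← hg x hx.1, ← map_pow, ← hg y hy.1]
        exact congrArg e (congrArg Subtype.val hie)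
      refine Finset.mem_image.2 ⟨i, Finset.mem_Ico.2 ⟨?_, hi⟩, hyx⟩
      by_contra h0
      have : y = 1 := by rw [← hyx, show i = 0 by omega, pow_zero]
      exact (cycle_facts (Finset.mem_filter.1 hy.1).2).1.ne_one this
    exact (Finset.card_le_card hsub).trans (Finset.card_image_le.trans (by simp))
  have := Finset.card_le_mul_card_image_of_maps_to (f := φ) hφ (r - 1) hfib
  rw [hC] at this
  have hfac : (r - 1).factorial = (r - 1) * (r - 2).factorial := by
    have := hr.two_le
    rw [show r - 1 = (r - 2) + 1 by omega, Nat.factorial_succ]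
  rw [hfac, mul_assoc] at this
  exact Nat.le_of_mul_le_mul_left this (by have := hr.two_le; omega)

include he in
theorem normalizes {r : ℕ} (hr : r.Prime) (hnr : n < 2 * r) {𝓐 : Finset (Subgroup H)}
    (hnil : ∀ A ∈ 𝓐, Group.IsNilpotent A) {A : Subgroup H} (hA : A ∈ withCycle e 𝓐 r) :
    ∃ x : Perm (Fin n), x.cycleType = {r} ∧ ∀ a ∈ A,
      (∀ i ∈ x.support, e a i ∈ x.support) ∧ Commute ((e a) ^ r) x := by
  classical
  unfold withCycle at hA
  rw [Finset.mem_filter] at hA
  obtain ⟨hA, g, hg, hgc⟩ := hA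
  haveI := hnil A hA
  haveI : Fact r.Prime := ⟨hr⟩
  refine ⟨e g, hgc, fun a ha => ?_⟩
  have ho : orderOf (⟨g, hg⟩ : A) = r := by
    rw [Subgroup.orderOf_mk, ← orderOf_injective e he]; exact (cycle_facts hgc).2.2
  let X : A := ⟨g, hg⟩
  have hconj : (⟨a, ha⟩ : A) * X * (⟨a, ha⟩ : A)⁻¹ ∈ Subgroup.zpowers X := by
    have hc : orderOf ((⟨a, ha⟩ : A) * X * (⟨a, ha⟩ : A)⁻¹) = r := by
      rw [← MulAut.conj_apply, MulEquiv.orderOf_eq]; exact ho
    exact (zpowers_eq e he hr hnr A hc ho) ▸ Subgroup.mem_zpowers _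
  obtain ⟨k, hk⟩ := Subgroup.mem_zpowers_iff.1 hconj
  refine ⟨fun i hi => ?_, ?_⟩
  · have h : e a * e g * (e a)⁻¹ = e g ^ k := by
      rw [← map_inv, ← map_mul, ← map_mul, ← map_zpow]
      exact congrArg e (congrArg Subtype.val hk.symm)
    have hm : e a i ∈ (e a * e g * (e a)⁻¹).support := by
      rw [support_conj]; exact Finset.mem_map.2 ⟨i, hi, rfl⟩
    rw [h] at hm
    exact support_zpow_le _ _ hm
  · -- the component of order prime to `r` centralises the cycle
    have hcomm : Commute ((⟨a, ha⟩ : A) ^ r) X := by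
      obtain ⟨v, m, hm, hv⟩ := Nat.exists_eq_pow_mul_and_not_dvd (orderOf_pos (⟨a, ha⟩ : A)).ne' r hr.ne_one
      have hv1 : v ≤ 1 := by
        by_contra hv2
        exact not_sq_dvd e he hr hnr A ((pow_dvd_pow r (by omega : 2 ≤ v)).trans
          ((Dvd.intro m hv.symm).trans (orderOf_dvd_natCard _)))
      have hco : (orderOf ((⟨a, ha⟩ : A) ^ r)).Coprime (orderOf X) := by
        rw [ho]
        refine ((hr.coprime_iff_not_dvd.2 hm).symm).coprime_dvd_left ?_
        apply orderOf_dvd_of_pow_eq_one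
        rw [← pow_mul]
        apply orderOf_dvd_iff_pow_eq_one.1
        rw [hv]
        exact Nat.mul_dvd_mul_right ((pow_dvd_pow r hv1).trans (pow_one r).dvd) m
      exact Cfsg.Agent.FittingHallBasic.commute_of_coprime_orderOf hco
    show e a ^ r * e g = e g * e a ^ r
    rw [← map_pow, ← map_mul, ← map_mul]
    exact congrArg e (congrArg Subtype.val hcomm.eq)

/-- The permutations stabilising a set of points. -/
def stab (s : Finset (Fin n)) : Subgroup (Perm (Fin n)) where
  carrier := {g | ∀ i, g i ∈ s ↔ i ∈ s}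
  mul_mem' := fun {g h} hg hh i => by rw [Perm.mul_apply]; exact (hg _).trans (hh i)
  one_mem' := fun i => Iff.rfl
  inv_mem' := fun {g} hg i => by
    have := hg (g⁻¹ i)
    rw [show g (g⁻¹ i) = i by simp] at this
    exact this.symm

theorem mem_stab {s : Finset (Fin n)} {g : Perm (Fin n)} (h : ∀ i ∈ s, g i ∈ s) : g ∈ stab s := by
  classical
  intro i
  refine ⟨fun hi => ?_, h i⟩
  obtain ⟨j, hj, hji⟩ := Finset.surjOn_of_injOn_of_card_le (f := g) h g.injective.injOn le_rfl hi
  exact g.injective hji ▸ hj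

theorem comap_stab_ne_top (hn : 3 ≤ n) (h3 : ∀ x : Perm (Fin n), x.IsThreeCycle → x ∈ e.range)
    {s : Finset (Fin n)} (h0 : s.Nonempty) (h1 : s.card < n) : (stab s).comap e ≠ ⊤ := by
  classical
  intro htop
  obtain ⟨i, hi⟩ := h0
  obtain ⟨j, hj⟩ : ∃ j, j ∉ s := by
    by_contra h; push Not at h
    rw [Finset.eq_univ_of_forall h, Finset.card_univ, Fintype.card_fin] at h1
    omega
  have hij : i ≠ j := fun h => hj (h ▸ hi)
  obtain ⟨k, -, hk⟩ := Finset.exists_mem_notMem_of_card_lt_card (s := {i, j}) (t := Finset.univ)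
    (Finset.card_le_two.trans_lt (by rw [Finset.card_univ, Fintype.card_fin]; omega))
  simp only [Finset.mem_insert, Finset.mem_singleton, not_or] at hk
  obtain ⟨g, hg⟩ := h3 _ (isThreeCycle_swap_mul_swap_same (a := i) (b := k) (c := j) (Ne.symm hk.1) hij hk.2)
  have := ((show g ∈ (stab s).comap e from htop ▸ Subgroup.mem_top g) i).2 hi
  rw [hg, Perm.mul_apply, swap_apply_left, swap_apply_of_ne_of_ne hij.symm (Ne.symm hk.2)] at this
  exact hj this

theorem replace_members {G : Type*} [Group G] {𝓐 R 𝓑 : Finset (Subgroup G)}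
    (hprop : ∀ A ∈ 𝓐, A ≠ ⊤) (hcov : ∀ g : G, ∃ A ∈ 𝓐, g ∈ A)
    (hmin : ∀ C : Finset (Subgroup G), (∀ A ∈ C, A ≠ ⊤) ∧ (∀ g : G, ∃ A ∈ C, g ∈ A) → 𝓐.card ≤ C.card)
    (hR : R ⊆ 𝓐) (hB : ∀ B ∈ 𝓑, B ≠ ⊤) (hBc : ∀ A ∈ R, ∀ g ∈ A, ∃ B ∈ 𝓑, g ∈ B) :
    R.card ≤ 𝓑.card := by
  classical
  have h := hmin ((𝓐 \ R) ∪ 𝓑) ⟨fun A hA => (Finset.mem_union.1 hA).elim
    (fun h => hprop A (Finset.mem_sdiff.1 h).1) (hB A), fun g => by
      obtain ⟨A, hA, hg⟩ := hcov g
      by_cases hAR : A ∈ R
      · obtain ⟨B, hB', hgB⟩ := hBc A hAR g hg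
        exact ⟨B, Finset.mem_union_right _ hB', hgB⟩
      · exact ⟨A, Finset.mem_union_left _ (Finset.mem_sdiff.2 ⟨hA, hAR⟩), hg⟩⟩
  have h2 := Finset.card_union_le (𝓐 \ R) 𝓑
  have h3 := Finset.card_sdiff_add_card_eq_card hR
  omega

theorem withCycle_subset (𝓐 : Finset (Subgroup H)) (r : ℕ) : withCycle e 𝓐 r ⊆ 𝓐 := by
  classical
  unfold withCycle; exact Finset.filter_subset _ _

theorem isThreeCycle_even {x : Perm (Fin n)} (h : x.IsThreeCycle) : x ∈ alternatingGroup (Fin n) :=
  mem_alternatingGroup.2 h.sign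

theorem sign_cycle {r : ℕ} (hr : Odd r) {x : Perm (Fin n)} (h : x.cycleType = {r}) : sign x = 1 := by
  rw [sign_of_cycleType, h, Multiset.sum_singleton, Multiset.card_singleton]
  exact (hr.add_one).neg_one_pow

include he in
theorem no_cover_six (hn : 6 ≤ n) (hev : ∀ x : Perm (Fin n), sign x = 1 → x ∈ e.range)
    {𝓐 : Finset (Subgroup H)} (hprop : ∀ A ∈ 𝓐, A ≠ ⊤) (hcov : ∀ g : H, ∃ A ∈ 𝓐, g ∈ A)
    (hmin : ∀ C : Finset (Subgroup H), (∀ A ∈ C, A ≠ ⊤) ∧ (∀ g : H, ∃ A ∈ C, g ∈ A) → 𝓐.card ≤ C.card)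
    (hnil : ∀ A ∈ 𝓐, Group.IsNilpotent A) : False := by
  classical
  obtain ⟨r, hr, hlt, hle⟩ := Nat.exists_prime_lt_and_le_two_mul (n / 2) (by omega)
  have hnr : n < 2 * r := by omega
  have hrn : r < n := by
    rcases lt_or_eq_of_le (show r ≤ n by omega) with h | h
    · exact h
    · subst h
      rcases hr.eq_two_or_odd with h | h <;> omega
  have hr5 : 5 ≤ r := by
    rcases eq_or_ne r 4 with rfl | h
    · exact absurd hr (by decide)
    · omega
  have hodd : Odd r := hr.odd_of_ne_two (by omega)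
  have hcard := card_withCycle e he hr hrn.le hnr (fun x hx => hev x (sign_cycle hodd hx)) 𝓐 hcov hnil
  let B := ((Finset.univ : Finset (Fin n)).powersetCard r).image fun s => (stab s).comap e
  have hB := replace_members hprop hcov hmin (withCycle_subset e 𝓐 r) (𝓑 := B) (by
      intro A hA
      obtain ⟨s, hs, rfl⟩ := Finset.mem_image.1 hA
      have hs' := (Finset.mem_powersetCard.1 hs).2
      exact comap_stab_ne_top e (by omega) (fun x hx => hev x hx.sign)
        (Finset.card_pos.1 (by omega)) (by omega)) (by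
      intro A hA g hg
      obtain ⟨x, hx, hxA⟩ := normalizes e he hr hnr hnil hA
      exact ⟨_, Finset.mem_image.2 ⟨x.support, Finset.mem_powersetCard.2
        ⟨Finset.subset_univ _, (cycle_facts hx).2.1⟩, rfl⟩, mem_stab (hxA g hg).1⟩)
  have hBc : B.card ≤ n.choose r := Finset.card_image_le.trans (by simp)
  have h2 : 2 ≤ (r - 2).factorial := (Nat.factorial_le (show 2 ≤ r - 2 by omega) : (2:ℕ).factorial ≤ _)
  have h3 : 0 < n.choose r := Nat.choose_pos hrn.le
  nlinarith

theorem sign_mem_zpowers {r : ℕ} (hr : Odd r) {x y : Perm (Fin n)} (h : x.cycleType = {r})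
    (hy : y ∈ Subgroup.zpowers x) : sign y = 1 := by
  obtain ⟨k, rfl⟩ := Subgroup.mem_zpowers_iff.1 hy
  rw [map_zpow, sign_cycle hr h, one_zpow]

theorem sign_eq_one_of_odd_pow {r : ℕ} (hr : Odd r) {x a : Perm (Fin n)} (h : x.cycleType = {r})
    (hn : n ≤ r + 1) (hc : Commute (a ^ r) x) : sign a = 1 := by
  have h1 := sign_mem_zpowers hr h (mem_zpowers_of_commute (cycle_facts h).1
    (by rw [(cycle_facts h).2.1]; exact hn) hc)
  rw [map_pow] at h1
  rcases Int.units_eq_one_or (sign a) with h2 | h2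
  · exact h2
  · rw [h2, hr.neg_one_pow] at h1
    exact absurd h1 (by decide)

theorem five_fixed : ∀ a : Perm (Fin 5), sign a = 1 → ∀ p q : Fin 5, p ≠ q → a p = q → a q = p → ∃ i, a i = i := by
  decide +kernel

theorem five_fixed' {a : Perm (Fin 5)} (ha : sign a = 1) {s : Finset (Fin 5)} (hs : s.card = 3)
    (h : ∀ i ∈ s, a i ∈ s) : ∃ i, a i = i := by
  classical
  have hst := mem_stab h
  obtain ⟨p, q, hpq, hc⟩ := Finset.card_eq_two.1 (show sᶜ.card = 2 by rw [Finset.card_compl, hs]; rfl)
  have hmem : ∀ i ∈ sᶜ, a i = p ∨ a i = q := by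
    intro i hi
    have : a i ∈ sᶜ := Finset.mem_compl.2 fun hh => Finset.mem_compl.1 hi ((hst i).1 hh)
    rw [hc] at this
    simpa using this
  rcases hmem p (by rw [hc]; simp) with hp | hp
  · exact ⟨p, hp⟩
  rcases hmem q (by rw [hc]; simp) with hq | hq
  · exact five_fixed a ha p q hpq hp hq
  · exact ⟨q, hq⟩

/-- A cover of a group is a finite set of proper subgroups whose union is the whole group; it is minimal when no cover has fewer members, and nilpotent when all its members are nilpotent. The alternating groups of degree at least 5 and the symmetric groups of degree at least 4 have no nilpotent minimal cover. -/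
theorem result (n : ℕ) :
    (5 ≤ n → ¬ ∃ 𝓐 : Finset (Subgroup ↥(alternatingGroup (Fin n))), ((∀ A ∈ 𝓐, A ≠ ⊤) ∧ (∀ g : ↥(alternatingGroup (Fin n)), ∃ A ∈ 𝓐, g ∈ A)) ∧ (∀ 𝓑 : Finset (Subgroup ↥(alternatingGroup (Fin n))), (∀ A ∈ 𝓑, A ≠ ⊤) ∧ (∀ g : ↥(alternatingGroup (Fin n)), ∃ A ∈ 𝓑, g ∈ A) → 𝓐.card ≤ 𝓑.card) ∧ (∀ A ∈ 𝓐, Group.IsNilpotent ↥A)) ∧
    (4 ≤ n → ¬ ∃ 𝓐 : Finset (Subgroup (Equiv.Perm (Fin n))), ((∀ A ∈ 𝓐, A ≠ ⊤) ∧ (∀ g : (Equiv.Perm (Fin n)), ∃ A ∈ 𝓐, g ∈ A)) ∧ (∀ 𝓑 : Finset (Subgroup (Equiv.Perm (Fin n))), (∀ A ∈ 𝓑, A ≠ ⊤) ∧ (∀ g : (Equiv.Perm (Fin n)), ∃ A ∈ 𝓑, g ∈ A) → 𝓐.card ≤ 𝓑.card) ∧ (∀ A ∈ 𝓐, Group.IsNilpotent ↥A)) := by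
  constructor
  · rintro hn ⟨𝓐, ⟨hprop, hcov⟩, hmin, hnil⟩
    classical
    let e : alternatingGroup (Fin n) →* Perm (Fin n) := (alternatingGroup (Fin n)).subtype
    have he : Function.Injective e := Subgroup.subtype_injective _
    have hev : ∀ x : Perm (Fin n), sign x = 1 → x ∈ e.range := fun x hx => ⟨⟨x, mem_alternatingGroup.2 hx⟩, rfl⟩
    rcases Nat.lt_or_ge n 6 with h6 | h6
    · obtain rfl : n = 5 := by omega
      have hcard := card_withCycle e he Nat.prime_three (by norm_num) (by norm_num)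
        (fun x hx => hev x (sign_cycle (by decide) hx)) 𝓐 hcov hnil
      have hB := replace_members hprop hcov hmin (withCycle_subset e 𝓐 3)
        (𝓑 := (Finset.univ : Finset (Fin 5)).image fun i => (stab {i}).comap e) (by
          intro A hA
          obtain ⟨i, -, rfl⟩ := Finset.mem_image.1 hA
          exact comap_stab_ne_top e (by norm_num) (fun x hx => hev x hx.sign) (Finset.singleton_nonempty i)
            (by simp)) (by
          intro A hA g hg
          obtain ⟨x, hx, hxA⟩ := normalizes e he Nat.prime_three (by norm_num) hnil hA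
          obtain ⟨i, hi⟩ := five_fixed' (mem_alternatingGroup.1 g.2) (cycle_facts hx).2.1 (hxA g hg).1
          refine ⟨_, Finset.mem_image.2 ⟨i, Finset.mem_univ _, rfl⟩, mem_stab fun j hj => ?_⟩
          rw [Finset.mem_singleton] at hj ⊢
          subst hj; exact hi)
      have hB' := hB.trans (Finset.card_image_le.trans (le_of_eq (Finset.card_fin 5)))
      norm_num [Nat.choose] at hcard
      omega
    · exact no_cover_six e he h6 hev hprop hcov hmin hnil
  · rintro hn ⟨𝓐, ⟨hprop, hcov⟩, hmin, hnil⟩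
    classical
    let e : Perm (Fin n) →* Perm (Fin n) := MonoidHom.id _
    have he : Function.Injective e := fun _ _ h => h
    have hev : ∀ x : Perm (Fin n), x ∈ e.range := fun x => ⟨x, rfl⟩
    have htop : alternatingGroup (Fin n) ≠ ⊤ := by
      intro h
      have h1 : swap (⟨0, by omega⟩ : Fin n) ⟨1, by omega⟩ ∈ alternatingGroup (Fin n) := h ▸ Subgroup.mem_top _
      rw [mem_alternatingGroup, sign_swap (by simp)] at h1
      exact absurd h1 (by decide)
    rcases Nat.lt_or_ge n 6 with h6 | h6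
    · rcases (show n = 4 ∨ n = 5 by omega) with rfl | rfl
      · have hcard := card_withCycle e he Nat.prime_three (by norm_num) (by norm_num)
          (fun x _ => hev x) 𝓐 hcov hnil
        have hB := replace_members hprop hcov hmin (withCycle_subset e 𝓐 3)
          (𝓑 := {alternatingGroup (Fin 4)}) (by simpa using htop) (by
            intro A hA g hg
            obtain ⟨x, hx, hxA⟩ := normalizes e he Nat.prime_three (by norm_num) hnil hA
            exact ⟨_, Finset.mem_singleton_self _, mem_alternatingGroup.2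
              (sign_eq_one_of_odd_pow (by decide) hx (by norm_num) (hxA g hg).2)⟩)
        norm_num [Nat.choose] at hcard
        rw [Finset.card_singleton] at hB
        omega
      · have hcard3 := card_withCycle e he Nat.prime_three (by norm_num) (by norm_num)
          (fun x _ => hev x) 𝓐 hcov hnil
        have hcard5 := card_withCycle e he Nat.prime_five (by norm_num) (by norm_num)
          (fun x _ => hev x) 𝓐 hcov hnil
        have hdis : Disjoint (withCycle e 𝓐 3) (withCycle e 𝓐 5) := by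
          rw [Finset.disjoint_left]
          intro A h3 h5
          rw [mem_withCycle] at h3 h5
          obtain ⟨hA, x, hx, hxc⟩ := h3
          obtain ⟨-, y, hy, hyc⟩ := h5
          haveI := hnil A hA
          have hx3 : orderOf x = 3 := (cycle_facts hxc).2.2
          have hy5 : orderOf y = 5 := (cycle_facts hyc).2.2
          have hco : Commute (⟨x, hx⟩ : A) ⟨y, hy⟩ := Cfsg.Agent.FittingHallBasic.commute_of_coprime_orderOf
            (by rw [Subgroup.orderOf_mk, Subgroup.orderOf_mk, hx3, hy5]; decide)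
          have hmem := mem_zpowers_of_commute (cycle_facts hyc).1 (by
              show _ ≤ y.support.card + 1
              rw [show y.support.card = 5 from (cycle_facts hyc).2.1]; norm_num)
            (show Commute x y from congrArg Subtype.val hco.eq)
          have hd := orderOf_dvd_of_mem_zpowers hmem
          rw [hx3, show orderOf (e y) = 5 from hy5] at hd
          exact absurd hd (by decide)
        have hB := replace_members hprop hcov hmin
          (Finset.union_subset (withCycle_subset e 𝓐 3) (withCycle_subset e 𝓐 5))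
          (𝓑 := insert (alternatingGroup (Fin 5))
            (((Finset.univ : Finset (Fin 5)).powersetCard 3).image fun s => (stab s).comap e)) (by
            intro A hA
            rcases Finset.mem_insert.1 hA with rfl | hA
            · exact htop
            obtain ⟨s, hs, rfl⟩ := Finset.mem_image.1 hA
            have hs' := (Finset.mem_powersetCard.1 hs).2
            exact comap_stab_ne_top e (by norm_num) (fun x _ => hev x)
              (Finset.card_pos.1 (by omega)) (by omega)) (by
            intro A hA g hg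
            rcases Finset.mem_union.1 hA with hA | hA
            · obtain ⟨x, hx, hxA⟩ := normalizes e he Nat.prime_three (by norm_num) hnil hA
              exact ⟨_, Finset.mem_insert_of_mem (Finset.mem_image.2 ⟨x.support, Finset.mem_powersetCard.2
                ⟨Finset.subset_univ _, (cycle_facts hx).2.1⟩, rfl⟩), mem_stab (hxA g hg).1⟩
            · obtain ⟨x, hx, hxA⟩ := normalizes e he Nat.prime_five (by norm_num) hnil hA
              exact ⟨_, Finset.mem_insert_self _ _, mem_alternatingGroup.2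
                (sign_eq_one_of_odd_pow (by decide) hx (by norm_num) (hxA g hg).2)⟩)
        rw [Finset.card_union_of_disjoint hdis] at hB
        have hB2 := (Finset.card_insert_le (alternatingGroup (Fin 5)) _).trans (Nat.add_le_add_right
          (Finset.card_image_le (s := (Finset.univ : Finset (Fin 5)).powersetCard 3)
            (f := fun s => (stab s).comap e)) 1)
        have hB3 := hB.trans hB2
        rw [Finset.card_powersetCard, Finset.card_univ, Fintype.card_fin] at hB3
        norm_num [Nat.choose, Nat.factorial] at hcard3 hcard5 hB3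
        omega
    · exact no_cover_six e he h6 (fun x _ => hev x) hprop hcov hmin hnil

end Cfsg.Agent.S3892
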