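import Cfsg.Statements.S3893
import Cfsg.Agent.Lib.SuzukiGroupNilpotent
-- import your own Cfsg.Agent.* helpers here

set_option autoImplicit false
open Cfsg

namespace Cfsg.Agent.S3893

/-- A cover of a group is a finite set of proper subgroups whose union is the whole group; it is minimal when no cover has fewer members, and nilpotent when all its members are nilpotent. The Suzuki groups Sz(q), q = 2^(2m+1) with m ≥ 1, have no nilpotent minimal cover. -/
theorem result {F : Type*} [Field F] [Fintype F] (m : ℕ) (hm : 1 ≤ m) (hF : Fintype.card F = 2 ^ (2 * m + 1)) :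
    ¬ ∃ 𝓐 : Finset (Subgroup ↥(Cfsg.Lie.Sz F (2 ^ (m + 1)))), ((∀ A ∈ 𝓐, A ≠ ⊤) ∧ (∀ g : ↥(Cfsg.Lie.Sz F (2 ^ (m + 1))), ∃ A ∈ 𝓐, g ∈ A)) ∧ (∀ 𝓑 : Finset (Subgroup ↥(Cfsg.Lie.Sz F (2 ^ (m + 1)))), (∀ A ∈ 𝓑, A ≠ ⊤) ∧ (∀ g : ↥(Cfsg.Lie.Sz F (2 ^ (m + 1))), ∃ A ∈ 𝓑, g ∈ A) → 𝓐.card ≤ 𝓑.card) ∧ (∀ A ∈ 𝓐, Group.IsNilpotent ↥A) := by
  classical
  have := SuzukiGroupBasic.Param.mk' (F := F) (m := m) hm hF
  rintro ⟨𝓐, ⟨hprop, hcov⟩, hmin, hnil⟩
  let e := SuzukiGroupLie.lieEquiv (F := F) (m := m)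
  have h1 : SuzukiGroupNilpotent.IsCover F m (𝓐.image fun A => A.map e.toMonoidHom) := by
    refine ⟨?_, ?_⟩
    · intro A hA
      obtain ⟨B, hB, rfl⟩ := Finset.mem_image.mp hA
      intro htop
      refine hprop B hB ((Subgroup.map_injective (f := e.toMonoidHom) e.injective) ?_)
      rw [htop, Subgroup.map_top_of_surjective _ e.surjective]
    · intro g
      obtain ⟨A, hA, hgA⟩ := hcov (e.symm g)
      exact ⟨_, Finset.mem_image_of_mem _ hA, e.symm g, hgA, e.apply_symm_apply g⟩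
  have h2 : ∀ A : Subgroup ↥(Cfsg.Sz F m), A ∈ 𝓐.image (fun A => A.map e.toMonoidHom) → Group.IsNilpotent A := by
    intro A hA
    obtain ⟨B, hB, rfl⟩ := Finset.mem_image.mp hA
    have := hnil B hB
    exact Group.nilpotent_of_mulEquiv (Subgroup.equivMapOfInjective B e.toMonoidHom e.injective)
  obtain ⟨𝓑, ⟨hBprop, hBcov⟩, hlt⟩ := SuzukiGroupNilpotent.card_cover_nilpotent _ h1 h2
  have hle := hmin (𝓑.image fun B => B.map e.symm.toMonoidHom) ⟨?_, ?_⟩
  · exact absurd (hle.trans Finset.card_image_le) (not_le.mpr (hlt.trans_le Finset.card_image_le))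
  · intro A hA
    obtain ⟨B, hB, rfl⟩ := Finset.mem_image.mp hA
    intro htop
    refine hBprop B hB ((Subgroup.map_injective (f := e.symm.toMonoidHom) e.symm.injective) ?_)
    rw [htop, Subgroup.map_top_of_surjective _ e.symm.surjective]
  · intro g
    obtain ⟨B, hB, hgB⟩ := hBcov (e g)
    exact ⟨_, Finset.mem_image_of_mem _ hB, e g, hgB, e.symm_apply_apply g⟩

end Cfsg.Agent.S3893
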