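import Cfsg.Statements.S3894
import Mathlib
import Cfsg.Agent.Lib.FittingHallBasic
-- import your own Cfsg.Agent.* helpers here

set_option autoImplicit false
set_option linter.all false
open Cfsg

namespace Cfsg.Agent.S3894

open Matrix Polynomial

variable {F : Type*} [Field F] {n : ℕ} [NeZero n]

local notation "V" => (Fin n → F)
local notation "GLn" => GL (Fin n) F
local notation "PG" => (GL (Fin n) F ⧸ Subgroup.center (GL (Fin n) F))

/-- The quotient map. -/
abbrev pr : GLn →* PG := QuotientGroup.mk' (Subgroup.center GLn)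

/-- Action on column vectors. -/
abbrev ap (g : GLn) (v : V) : V := (g : Matrix (Fin n) (Fin n) F) *ᵥ v

theorem ap_mul (g h : GLn) (v : V) : ap (g * h) v = ap g (ap h v) := by
  simp only [ap, Units.val_mul, Matrix.mulVec_mulVec]

theorem ap_one (v : V) : ap (1 : GLn) v = v := by simp [ap]

theorem ap_inv_ap (g : GLn) (v : V) : ap g⁻¹ (ap g v) = v := by rw [← ap_mul, inv_mul_cancel, ap_one]

theorem ap_ap_inv (g : GLn) (v : V) : ap g (ap g⁻¹ v) = v := by rw [← ap_mul, mul_inv_cancel, ap_one]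

theorem ap_smul (g : GLn) (c : F) (v : V) : ap g (c • v) = c • ap g v := Matrix.mulVec_smul _ _ _

theorem exists_scalar_of_mem_center {z : GLn} (hz : z ∈ Subgroup.center GLn) :
    ∃ c : F, (z : Matrix (Fin n) (Fin n) F) = c • 1 ∧ ∀ v, ap z v = c • v := by
  rw [Matrix.GeneralLinearGroup.center_eq_range_scalar] at hz
  obtain ⟨c, rfl⟩ := hz
  refine ⟨c, ?_, ?_⟩
  · ext i j
    simp [Matrix.one_apply, Matrix.diagonal_apply]
  · intro v
    funext i
    simp [ap, Matrix.mulVec_diagonal]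

theorem pr_eq_iff {g h : GLn} : pr g = pr h ↔ ∃ z ∈ Subgroup.center GLn, h = g * z := by
  constructor
  · intro e
    exact ⟨g⁻¹ * h, (QuotientGroup.eq).1 e, by group⟩
  · rintro ⟨z, hz, rfl⟩
    exact (QuotientGroup.eq).2 (by simpa using hz)

theorem conj_eq_smul_of_commute {g h : GLn} (hc : Commute (pr g) (pr h)) :
    ∃ c : F, ((g * h * g⁻¹ : GLn) : Matrix (Fin n) (Fin n) F) = c • (h : Matrix (Fin n) (Fin n) F) := by
  have h1 : pr h = pr (g * h * g⁻¹) := by
    rw [map_mul, map_mul, map_inv, hc.eq, mul_inv_cancel_right]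
  obtain ⟨z, hz, e⟩ := pr_eq_iff.1 h1
  obtain ⟨c, hc', -⟩ := exists_scalar_of_mem_center hz
  refine ⟨c, ?_⟩
  rw [e, Units.val_mul, hc', mul_smul_comm, mul_one]

/-- The standard nilpotent Jordan block. -/
def N0 : Matrix (Fin n) (Fin n) F := Matrix.of fun i j => if (j : ℕ) = i + 1 then 1 else 0

theorem N0_apply (v : V) (i : Fin n) :
    (N0 *ᵥ v) i = if h : (i : ℕ) + 1 < n then v ⟨i + 1, h⟩ else 0 := by
  simp only [Matrix.mulVec, dotProduct, N0, Matrix.of_apply]
  split_ifs with h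
  · rw [Finset.sum_eq_single ⟨i + 1, h⟩]
    · simp
    · intro j _ hj
      rw [if_neg (fun e => hj (Fin.ext e)), zero_mul]
    · simp
  · refine Finset.sum_eq_zero fun j _ => ?_
    rw [if_neg (fun e => h (by have := j.2; omega)), zero_mul]

theorem N0_eq_zero {v : V} (h : N0 *ᵥ v = 0) : ∀ i : Fin n, i ≠ 0 → v i = 0 := by
  intro i hi
  have hi' : (i : ℕ) ≠ 0 := fun e => hi (Fin.ext e)
  have := congrFun h ⟨i - 1, by omega⟩
  rw [N0_apply, dif_pos (show (i : ℕ) - 1 + 1 < n by omega)] at this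
  rw [← show (⟨(i : ℕ) - 1 + 1, by omega⟩ : Fin n) = i from Fin.ext (by simp; omega)]
  exact this

theorem N0_supp {v : V} (h : ∀ i : Fin n, i ≠ 0 → (N0 *ᵥ v) i = 0) : ∀ i : Fin n, 2 ≤ (i : ℕ) → v i = 0 := by
  intro i hi
  have := h ⟨i - 1, by omega⟩ (fun e => by have := congrArg Fin.val e; simp at this; omega)
  rw [N0_apply, dif_pos (show (i : ℕ) - 1 + 1 < n by omega)] at this
  rw [← show (⟨(i : ℕ) - 1 + 1, by omega⟩ : Fin n) = i from Fin.ext (by simp; omega)]
  exact this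

theorem N0_pow_apply (j : ℕ) (v : V) (i : Fin n) :
    ((N0 : Matrix (Fin n) (Fin n) F) ^ j *ᵥ v) i = if h : (i : ℕ) + j < n then v ⟨i + j, h⟩ else 0 := by
  induction j generalizing v with
  | zero => simp
  | succ j ih =>
    rw [pow_succ, ← Matrix.mulVec_mulVec, ih]
    split_ifs with h1 h2
    · rw [N0_apply, dif_pos (show (i : ℕ) + j + 1 < n by omega)]
      exact congrArg v (Fin.ext (by simp; omega))
    · rw [N0_apply, dif_neg (show ¬ (i : ℕ) + j + 1 < n by omega)]
    · omega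
    · rfl

theorem N0_pow_card : (N0 : Matrix (Fin n) (Fin n) F) ^ n = 0 := by
  rw [Matrix.ext_iff_mulVec]
  intro v
  funext i
  simp [N0_pow_apply]

/-- The standard regular unipotent element. -/
def J0 : SpecialLinearGroup (Fin n) F :=
  ⟨1 + N0, by
    rw [Matrix.det_of_isUpperTriangular]
    · simp [N0]
    · intro i j hij
      have : (j : ℕ) < i := hij
      simp [N0, Matrix.one_apply, show i ≠ j by omega, show (j : ℕ) ≠ i + 1 by omega]⟩

/-- The conjugates of the standard regular unipotent element. -/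
def reg (g : GLn) : GLn := g * Matrix.SpecialLinearGroup.toGL J0 * g⁻¹

theorem det_reg (g : GLn) : ((reg g : GLn) : Matrix (Fin n) (Fin n) F).det = 1 := by
  rw [reg, Units.val_mul, Units.val_mul, Matrix.det_units_conj]
  exact J0.2

omit [NeZero n] in
theorem mem_range_of_det {x : GLn} (h : (x : Matrix (Fin n) (Fin n) F).det = 1) :
    x ∈ (Matrix.SpecialLinearGroup.toGL : SpecialLinearGroup (Fin n) F →* GLn).range :=
  ⟨⟨x, h⟩, Units.ext rfl⟩

theorem ap_reg_sub (g : GLn) (v : V) : ap (reg g) v - v = ap g (N0 *ᵥ ap g⁻¹ v) := by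
  have h : ap (Matrix.SpecialLinearGroup.toGL (J0 : SpecialLinearGroup (Fin n) F)) (ap g⁻¹ v) =
      ap g⁻¹ v + N0 *ᵥ ap g⁻¹ v := by
    show ((1 + N0 : Matrix (Fin n) (Fin n) F)) *ᵥ _ = _
    rw [Matrix.add_mulVec, Matrix.one_mulVec]
  rw [reg, ap_mul, ap_mul, h]
  show (g : Matrix (Fin n) (Fin n) F) *ᵥ _ - v = _
  rw [Matrix.mulVec_add]
  show ap g (ap g⁻¹ v) + _ - v = _
  rw [ap_ap_inv, add_sub_cancel_left]

theorem ap_reg_fixed {g : GLn} {v : V} (h : ap (reg g) v = v) :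
    ∃ c : F, v = c • ap g (Pi.single 0 1) := by
  have h1 : N0 *ᵥ ap g⁻¹ v = 0 := by
    have := congrArg (ap g⁻¹) (ap_reg_sub g v)
    rw [h, sub_self, ap_inv_ap] at this
    rw [← this]
    exact Matrix.mulVec_zero _
  refine ⟨ap g⁻¹ v 0, ?_⟩
  rw [← ap_smul]
  conv_lhs => rw [← ap_ap_inv g v]
  congr 1
  funext i
  by_cases hi : i = 0
  · subst hi; simp
  · rw [N0_eq_zero h1 i hi]; simp [hi]

theorem reg_supp {g : GLn} {v : V} {c : F} (h : ap (reg g) v - v = c • ap g (Pi.single 0 1)) :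
    ∀ i : Fin n, 2 ≤ (i : ℕ) → ap g⁻¹ v i = 0 := by
  apply N0_supp
  intro i hi
  have := congrArg (ap g⁻¹) ((ap_reg_sub g v).symm.trans h)
  rw [ap_inv_ap, ap_smul, ap_inv_ap] at this
  rw [this]; simp [hi]

section charp

variable {p : ℕ} [hp : Fact p.Prime] [CharP F p]

omit [NeZero n] in
theorem eq_one_of_pow_char {c : F} {k : ℕ} (h : c ^ p ^ k = 1) : c = 1 := by
  have h1 : (c - 1) ^ p ^ k = 0 := by rw [sub_pow_char_pow, h, one_pow, sub_self]
  exact sub_eq_zero.1 (eq_zero_of_pow_eq_zero h1)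

theorem central_pow_char {z : GLn} (hz : z ∈ Subgroup.center GLn) {k : ℕ} (h : z ^ p ^ k = 1) : z = 1 := by
  obtain ⟨c, hc, -⟩ := exists_scalar_of_mem_center hz
  have := congrArg Units.val h
  rw [Units.val_pow_eq_pow_val, hc, _root_.smul_pow, one_pow, Units.val_one] at this
  have h1 := congrFun (congrFun this 0) 0
  simp at h1
  apply Units.ext
  rw [hc, eq_one_of_pow_char h1, one_smul, Units.val_one]

theorem reg_pow (g : GLn) : reg g ^ p ^ n = 1 := by
  rw [reg, conj_pow]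
  have : Matrix.SpecialLinearGroup.toGL (J0 : SpecialLinearGroup (Fin n) F) ^ p ^ n = 1 := by
    apply Units.ext
    rw [Units.val_pow_eq_pow_val]
    show ((1 + N0 : Matrix (Fin n) (Fin n) F)) ^ p ^ n = 1
    rw [add_pow_char_pow_of_commute p n (Commute.one_left _), one_pow]
    obtain ⟨m, hm⟩ := Nat.exists_eq_add_of_le (Nat.lt_pow_self hp.out.one_lt : n < p ^ n).le
    rw [hm, pow_add, N0_pow_card, zero_mul, add_zero]
  rw [this, mul_one, mul_inv_cancel]

theorem pow_eq_one_of_commute_reg {a : PG} {g : GLn} (hc : Commute a (pr (reg g))) : a ^ p ^ n = 1 := by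
  obtain ⟨h, rfl⟩ := QuotientGroup.mk'_surjective _ a
  obtain ⟨c, hc'⟩ := conj_eq_smul_of_commute hc
  have hc1 : c = 1 := by
    have h1 : (h * reg g * h⁻¹ : GLn) ^ p ^ n = 1 := by rw [conj_pow, reg_pow, mul_one, mul_inv_cancel]
    have := congrArg Units.val h1
    rw [Units.val_pow_eq_pow_val, hc', _root_.smul_pow, ← Units.val_pow_eq_pow_val, reg_pow, Units.val_one] at this
    have h2 := congrFun (congrFun this 0) 0
    simp at h2
    exact eq_one_of_pow_char h2
  rw [hc1, one_smul] at hc'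
  have hcomm : Commute h (reg g) := by
    have := Units.ext hc'
    show h * reg g = reg g * h
    rw [← mul_inv_eq_iff_eq_mul]
    exact this
  set h' : GLn := g⁻¹ * h * g with hh'
  have hJ : Commute h' (Matrix.SpecialLinearGroup.toGL (J0 : SpecialLinearGroup (Fin n) F)) := by
    show h' * _ = _ * h'
    have e : h * (g * Matrix.SpecialLinearGroup.toGL J0 * g⁻¹) = (g * Matrix.SpecialLinearGroup.toGL J0 * g⁻¹) * h :=
      hcomm.eq
    calc h' * Matrix.SpecialLinearGroup.toGL J0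
        = g⁻¹ * (h * (g * Matrix.SpecialLinearGroup.toGL J0 * g⁻¹)) * g := by rw [hh']; group
      _ = g⁻¹ * ((g * Matrix.SpecialLinearGroup.toGL J0 * g⁻¹) * h) * g := by rw [e]
      _ = _ := by rw [hh']; group
  have hN : (h' : Matrix (Fin n) (Fin n) F) * (N0 : Matrix (Fin n) (Fin n) F) = (N0 : Matrix (Fin n) (Fin n) F) * (h' : Matrix (Fin n) (Fin n) F) := by
    have e := congrArg Units.val hJ.eq
    rw [Units.val_mul, Units.val_mul] at e
    change (h' : Matrix (Fin n) (Fin n) F) * (1 + N0 : Matrix (Fin n) (Fin n) F) = (1 + N0 : Matrix (Fin n) (Fin n) F) * (h' : Matrix (Fin n) (Fin n) F) at e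
    rw [mul_add, add_mul, mul_one, one_mul] at e
    exact add_left_cancel e
  set c₀ := ap h' (Pi.single 0 1) 0 with hc₀
  set M := (h' : Matrix (Fin n) (Fin n) F) - c₀ • 1 with hM
  have hMN : M * N0 = N0 * M := by rw [hM, sub_mul, mul_sub, hN, smul_mul_assoc, mul_smul_comm, one_mul, mul_one]
  have hN0 : (N0 : Matrix (Fin n) (Fin n) F) *ᵥ Pi.single 0 1 = 0 := by
    funext i
    rw [N0_apply]
    split_ifs with h
    · exact Pi.single_eq_of_ne (fun e => by have := congrArg Fin.val e; simp at this) _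
    · rfl
  have hMe : M *ᵥ Pi.single 0 1 = 0 := by
    have h1 : N0 *ᵥ ((h' : Matrix (Fin n) (Fin n) F) *ᵥ Pi.single 0 1) = 0 := by
      rw [Matrix.mulVec_mulVec, ← hN, ← Matrix.mulVec_mulVec, hN0, Matrix.mulVec_zero]
    funext i
    rw [hM, Matrix.sub_mulVec, Matrix.smul_mulVec, Matrix.one_mulVec]
    by_cases hi : i = 0
    · subst hi; simp [hc₀, ap]
    · have := N0_eq_zero h1 i hi
      simp [hi] at this ⊢
      exact this
  have hMk : ∀ (j : ℕ) (v : V), (N0 : Matrix (Fin n) (Fin n) F) ^ j *ᵥ v = 0 → M ^ j *ᵥ v = 0 := by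
    intro j
    induction j with
    | zero => intro v hv; simpa using hv
    | succ j ih =>
      intro v hv
      rw [pow_succ, ← Matrix.mulVec_mulVec]
      apply ih
      rw [pow_succ', ← Matrix.mulVec_mulVec] at hv
      have hw := N0_eq_zero hv
      rw [Matrix.mulVec_mulVec, ← (Commute.pow_right hMN j).eq, ← Matrix.mulVec_mulVec]
      have : (N0 : Matrix (Fin n) (Fin n) F) ^ j *ᵥ v = ((N0 : Matrix (Fin n) (Fin n) F) ^ j *ᵥ v) 0 • Pi.single 0 1 := by
        funext i
        by_cases hi : i = 0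
        · subst hi; simp
        · rw [hw i hi]; simp [hi]
      rw [this, Matrix.mulVec_smul, hMe, smul_zero]
  have hMn : M ^ p ^ n = 0 := by
    obtain ⟨m, hm⟩ := Nat.exists_eq_add_of_le (Nat.lt_pow_self hp.out.one_lt : n < p ^ n).le
    have : M ^ n = 0 := by
      rw [Matrix.ext_iff_mulVec]
      intro v
      rw [hMk n v (by rw [N0_pow_card, Matrix.zero_mulVec]), Matrix.zero_mulVec]
    rw [hm, pow_add, this, zero_mul]
  have hpow : (h' : Matrix (Fin n) (Fin n) F) ^ p ^ n = c₀ ^ p ^ n • 1 := by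
    have e : (h' : Matrix (Fin n) (Fin n) F) = M + c₀ • 1 := by rw [hM, sub_add_cancel]
    rw [e, add_pow_char_pow_of_commute p n ((Commute.one_right M).smul_right c₀), hMn, zero_add, _root_.smul_pow, one_pow]
  have hcen : h ^ p ^ n ∈ Subgroup.center GLn := by
    have h1 : h' ^ p ^ n ∈ Subgroup.center GLn := by
      rw [Subgroup.mem_center_iff]
      intro y
      apply Units.ext
      rw [Units.val_mul, Units.val_mul, Units.val_pow_eq_pow_val, hpow]
      simp
    have e : h = g * h' * g⁻¹ := by rw [hh']; group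
    rw [e, conj_pow]
    exact Subgroup.Normal.conj_mem inferInstance _ h1 g
  rw [← map_pow]
  exact (QuotientGroup.eq_one_iff _).2 hcen

variable [Finite F]

theorem isPGroup_of_reg {A : Subgroup PG} [Group.IsNilpotent A] {g : GLn} (hg : pr (reg g) ∈ A) :
    IsPGroup p A := by
  intro a
  have hpos := orderOf_pos a
  obtain ⟨v, m, hm, ho⟩ := Nat.exists_eq_pow_mul_and_not_dvd hpos.ne' p hp.out.ne_one
  have hco : (orderOf (a ^ p ^ v)).Coprime (orderOf (⟨pr (reg g), hg⟩ : A)) := by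
    have h1 : orderOf (a ^ p ^ v) = m := by
      rw [orderOf_pow' _ (pow_ne_zero _ hp.out.ne_zero), ho, Nat.gcd_mul_right_left, Nat.mul_div_cancel_left _ (pow_pos hp.out.pos _)]
    rw [h1]
    suffices hh : orderOf (⟨pr (reg g), hg⟩ : A) ∣ p ^ n ∧ m.Coprime (p ^ n) from hh.2.coprime_dvd_right hh.1
    refine ⟨?_, ?_⟩
    · apply orderOf_dvd_of_pow_eq_one
      apply Subtype.ext
      rw [SubgroupClass.coe_pow, ← map_pow, reg_pow, map_one]
      rfl
    · exact Nat.Coprime.pow_right _ ((Nat.Prime.coprime_iff_not_dvd hp.out).2 hm).symm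
  have hc : Commute ((a ^ p ^ v : A) : PG) (pr (reg g)) :=
    congrArg Subtype.val (Cfsg.Agent.FittingHallBasic.commute_of_coprime_orderOf hco).eq
  refine ⟨v + n, Subtype.ext ?_⟩
  rw [pow_add, pow_mul]
  exact pow_eq_one_of_commute_reg hc

theorem exists_fixed_mod (P : Subgroup GLn) (hP : IsPGroup p P) (L : Submodule F V) (hL : L ≠ ⊤)
    (hinv : ∀ h ∈ P, ∀ v ∈ L, ap h v ∈ L) : ∃ w ∉ L, ∀ h ∈ P, ap h w - w ∈ L := by
  classical
  letI : Fintype F := Fintype.ofFinite F
  let f : P → (V ⧸ L) →ₗ[F] (V ⧸ L) := fun h =>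
    L.mapQ L (Matrix.toLin' ((h : GLn) : Matrix (Fin n) (Fin n) F)) (fun v hv => hinv _ h.2 v hv)
  letI : MulAction P (V ⧸ L) :=
    { smul := fun h x => f h x
      one_smul := fun x => by
        obtain ⟨w, rfl⟩ := Submodule.mkQ_surjective L x
        show Submodule.Quotient.mk (Matrix.toLin' _ w) = Submodule.Quotient.mk w
        exact congrArg _ (ap_one w)
      mul_smul := fun h h' x => by
        obtain ⟨w, rfl⟩ := Submodule.mkQ_surjective L x
        show Submodule.Quotient.mk (Matrix.toLin' _ w) = Submodule.Quotient.mk (Matrix.toLin' _ (Matrix.toLin' _ w))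
        exact congrArg _ (ap_mul (h : GLn) (h' : GLn) w) }
  have hdvd : p ∣ Nat.card (V ⧸ L) := by
    have hpos : 0 < Module.finrank F (V ⧸ L) := by
      have : Nontrivial (V ⧸ L) := Submodule.Quotient.nontrivial_iff.2 hL
      exact Module.finrank_pos
    rw [Module.natCard_eq_pow_finrank (K := F)]
    refine dvd_pow ?_ hpos.ne'
    obtain ⟨f, -, hf⟩ := FiniteField.card F p
    rw [Nat.card_eq_fintype_card, hf]
    exact dvd_pow_self p f.pos.ne'
  have h0 : (0 : V ⧸ L) ∈ MulAction.fixedPoints P (V ⧸ L) := fun h => map_zero (f h)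
  obtain ⟨b, hb, hne⟩ := hP.exists_fixed_point_of_prime_dvd_card_of_fixed_point (V ⧸ L) hdvd h0
  obtain ⟨w, rfl⟩ := Submodule.mkQ_surjective L b
  refine ⟨w, fun hw => hne ((Submodule.Quotient.mk_eq_zero L).2 hw).symm, fun h hh => ?_⟩
  exact (Submodule.Quotient.eq L).1 (hb ⟨h, hh⟩)

theorem exists_lift {A : Subgroup PG} (hA : IsPGroup p A) :
    ∃ P : Subgroup GLn, IsPGroup p P ∧
      (∀ x : GLn, pr x ∈ A → ∃ z ∈ Subgroup.center GLn, x * z ∈ P) ∧
      (∀ x : GLn, pr x ∈ A → ∀ k : ℕ, x ^ p ^ k = 1 → x ∈ P) := by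
  classical
  let B := A.comap (pr : GLn →* PG)
  obtain ⟨P⟩ := Sylow.nonempty (p := p) (G := B)
  let f : B →* A := ((pr : GLn →* PG).comp B.subtype).codRestrict A fun x => x.2
  have hf : Function.Surjective f := fun a => by
    obtain ⟨x, hx⟩ := QuotientGroup.mk'_surjective _ (a : PG)
    exact ⟨⟨x, show pr x ∈ A by rw [show pr x = (a : PG) from hx]; exact a.2⟩, Subtype.ext hx⟩
  have hQ : ((P.mapSurjective hf : Sylow p A) : Subgroup A) = ⊤ :=
    ((P.mapSurjective hf).is_maximal' (hA.to_subgroup ⊤) le_top).symm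
  have h2 : ∀ x : GLn, pr x ∈ A → ∃ z ∈ Subgroup.center GLn, x * z ∈ (P : Subgroup B).map B.subtype := by
    intro x hx
    have : f ⟨x, hx⟩ ∈ ((P.mapSurjective hf : Sylow p A) : Subgroup A) := hQ ▸ Subgroup.mem_top _
    rw [Sylow.coe_mapSurjective] at this
    obtain ⟨h, hh, e⟩ := this
    have e' : pr x = pr (h : GLn) := (congrArg Subtype.val e).symm
    obtain ⟨z, hz, hz'⟩ := pr_eq_iff.1 e'
    exact ⟨z, hz, h, hh, hz'⟩
  refine ⟨(P : Subgroup B).map B.subtype, P.isPGroup'.map _, h2, ?_⟩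
  intro x hx k hk
  obtain ⟨z, hz, hxz⟩ := h2 x hx
  obtain ⟨⟨y, hy⟩, hy1⟩ : ∃ y : ((P : Subgroup B).map B.subtype), (y : GLn) = x * z := ⟨⟨_, hxz⟩, rfl⟩
  obtain ⟨m, hm⟩ := (P.isPGroup'.map B.subtype) ⟨x * z, hxz⟩
  have hm' : (x * z) ^ p ^ m = 1 := congrArg Subtype.val hm
  have hcomm : Commute x z := Subgroup.mem_center_iff.1 hz x
  have hz1 : z ^ p ^ (k + m) = 1 := by
    have e : z = x⁻¹ * (x * z) := by group
    have hc : Commute x⁻¹ (x * z) := ((Commute.refl x).mul_right hcomm).inv_left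
    rw [e, hc.mul_pow, inv_pow, pow_add, pow_mul, hk, one_pow, inv_one, one_mul, mul_comm (p ^ k), pow_mul, hm', one_pow]
  rw [central_pow_char hz hz1, mul_one] at hxz
  exact hxz

theorem exists_eigen {A : Subgroup PG} (hA : IsPGroup p A) :
    ∃ v : V, v ≠ 0 ∧ (∀ x : GLn, pr x ∈ A → ∃ c : F, ap x v = c • v) ∧
      (∀ x : GLn, pr x ∈ A → ∀ k : ℕ, x ^ p ^ k = 1 → ap x v = v) := by
  obtain ⟨P, hP, h2, h3⟩ := exists_lift hA
  have hbot : (⊥ : Submodule F V) ≠ ⊤ := bot_ne_top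
  obtain ⟨w, hw, hfix⟩ := exists_fixed_mod P hP ⊥ hbot fun h _ v hv => by
    rw [(Submodule.mem_bot F).1 hv]; simp [ap]
  have hfix' : ∀ h ∈ P, ap h w = w := fun h hh => sub_eq_zero.1 ((Submodule.mem_bot F).1 (hfix h hh))
  refine ⟨w, fun e => hw (by simp [e]), fun x hx => ?_, fun x hx k hk => hfix' x (h3 x hx k hk)⟩
  obtain ⟨z, hz, hxz⟩ := h2 x hx
  obtain ⟨c, -, hc⟩ := exists_scalar_of_mem_center (Subgroup.inv_mem _ hz)
  refine ⟨c, ?_⟩
  calc ap x w = ap (z⁻¹ * (x * z)) w := by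
        rw [← mul_assoc, ← Subgroup.mem_center_iff.1 (Subgroup.inv_mem _ hz) x, mul_assoc, inv_mul_cancel, mul_one]
    _ = c • w := by rw [ap_mul, hfix' _ hxz, hc]

theorem same_line {A : Subgroup PG} (hA : IsPGroup p A) {g g' : GLn} (hg : pr (reg g) ∈ A) (hg' : pr (reg g') ∈ A) :
    ∃ c : F, ap g' (Pi.single 0 1) = c • ap g (Pi.single 0 1) := by
  obtain ⟨v, hv, -, hfix⟩ := exists_eigen hA
  obtain ⟨a, ha⟩ := ap_reg_fixed (hfix _ hg n (reg_pow g))
  obtain ⟨b, hb⟩ := ap_reg_fixed (hfix _ hg' n (reg_pow g'))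
  have hb0 : b ≠ 0 := fun e => hv (by rw [hb, e, zero_smul])
  refine ⟨b⁻¹ * a, ?_⟩
  rw [← smul_smul, ← ha, hb, smul_smul, inv_mul_cancel₀ hb0, one_smul]

theorem not_both (h3 : 3 ≤ n) {A : Subgroup PG} (hA : IsPGroup p A) {g S : GLn}
    (hS : ∀ v : V, ap S v = fun i => v (Equiv.swap ⟨1, by omega⟩ ⟨2, by omega⟩ i))
    (hg : pr (reg g) ∈ A) (hg' : pr (reg (g * S)) ∈ A) : False := by
  obtain ⟨P, hP, -, h3'⟩ := exists_lift hA
  have hu := h3' _ hg n (reg_pow g)
  have hu' := h3' _ hg' n (reg_pow (g * S))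
  obtain ⟨v, hv, hfix⟩ := exists_fixed_mod P hP ⊥ bot_ne_top fun h _ v hv => by
    rw [(Submodule.mem_bot F).1 hv]; simp [ap]
  have hfix' : ∀ h ∈ P, ap h v = v := fun h hh => sub_eq_zero.1 ((Submodule.mem_bot F).1 (hfix h hh))
  obtain ⟨a, ha⟩ := ap_reg_fixed (hfix' _ hu)
  obtain ⟨b, hb⟩ := ap_reg_fixed (hfix' _ hu')
  let L := Submodule.span F {v}
  have hL : L ≠ ⊤ := by
    intro e
    have hv0 : v ≠ 0 := fun h => hv (by simp [h])
    have := finrank_span_singleton (K := F) hv0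
    rw [show Submodule.span F {v} = ⊤ from e, finrank_top, Module.finrank_pi, Fintype.card_fin] at this
    omega
  obtain ⟨w, hw, hwfix⟩ := exists_fixed_mod P hP L hL fun h hh x hx => by
    obtain ⟨c, rfl⟩ := Submodule.mem_span_singleton.1 hx
    rw [ap_smul, hfix' h hh]
    exact hx
  obtain ⟨c, hc⟩ := Submodule.mem_span_singleton.1 (hwfix _ hu)
  obtain ⟨d, hd⟩ := Submodule.mem_span_singleton.1 (hwfix _ hu')
  have s1 := reg_supp (hc.symm.trans (by rw [ha, smul_smul]))
  have s2 := reg_supp (hd.symm.trans (by rw [hb, smul_smul]))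
  have hww : ap g⁻¹ w = ap S (ap (g * S)⁻¹ w) := by rw [← ap_mul]; congr 1; group
  have hrest : ∀ i : Fin n, i ≠ 0 → ap g⁻¹ w i = 0 := by
    intro i hi
    by_cases h2 : 2 ≤ (i : ℕ)
    · exact s1 i h2
    · have hi1 : i = ⟨1, by omega⟩ := Fin.ext (by have : (i : ℕ) ≠ 0 := fun e => hi (Fin.ext e); simp; omega)
      rw [hi1, hww, hS]
      simp only [Equiv.swap_apply_left]
      exact s2 _ (by simp)
  have hb0 : a ≠ 0 := fun e => hv (by rw [ha, e, zero_smul]; simp)
  refine hw (Submodule.mem_span_singleton.2 ⟨ap g⁻¹ w 0 * a⁻¹, ?_⟩)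
  rw [ha, smul_smul, mul_assoc, inv_mul_cancel₀ hb0, mul_one, ← ap_smul]
  conv_rhs => rw [← ap_ap_inv g w]
  congr 1
  funext i
  by_cases hi : i = 0
  · subst hi; simp
  · rw [hrest i hi]; simp [hi]

end charp

theorem exists_gl {v : V} (hv : v ≠ 0) : ∃ g : GLn, ap g (Pi.single 0 1) = v := by
  classical
  obtain ⟨k, hk⟩ := Function.ne_iff.1 hv
  let M := ((1 : Matrix (Fin n) (Fin n) F).updateCol k v).submatrix id (Equiv.swap 0 k)
  have hdet : M.det ≠ 0 := by
    have e : ((1 : Matrix (Fin n) (Fin n) F).updateCol k v).det = v k := by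
      rw [← Matrix.cramer_apply, Matrix.cramer_one]; rfl
    rw [Matrix.det_permute', e]
    exact mul_ne_zero (by rcases Int.units_eq_one_or (Equiv.Perm.sign (Equiv.swap 0 k)) with h | h <;> simp [h]) hk
  refine ⟨Matrix.GeneralLinearGroup.mkOfDetNeZero M hdet, ?_⟩
  show M *ᵥ Pi.single 0 1 = v
  funext i
  simp [M]

/-- The stabiliser of the line through a vector. -/
def lineStab (v : V) : Subgroup GLn where
  carrier := {g | ∃ c : F, c ≠ 0 ∧ ap g v = c • v}
  one_mem' := ⟨1, one_ne_zero, by rw [ap_one, one_smul]⟩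
  mul_mem' := by
    rintro g h ⟨c, hc, e⟩ ⟨d, hd, e'⟩
    exact ⟨d * c, mul_ne_zero hd hc, by rw [ap_mul, e', ap_smul, e, smul_smul]⟩
  inv_mem' := by
    rintro g ⟨c, hc, e⟩
    refine ⟨c⁻¹, inv_ne_zero hc, ?_⟩
    have := congrArg (ap g⁻¹) e
    rw [ap_inv_ap, ap_smul] at this
    rw [eq_inv_smul_iff₀ hc]
    exact this.symm

theorem pr_mem_lineStab {v : V} (hv : v ≠ 0) (x : GLn) :
    pr x ∈ (lineStab v).map (pr : GLn →* PG) ↔ ∃ c : F, ap x v = c • v := by
  constructor
  · rintro ⟨h, ⟨c, -, e⟩, he⟩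
    obtain ⟨z, hz, rfl⟩ := pr_eq_iff.1 he
    obtain ⟨d, -, hd⟩ := exists_scalar_of_mem_center hz
    exact ⟨d * c, by rw [ap_mul, hd, ap_smul, e, smul_smul]⟩
  · rintro ⟨c, e⟩
    refine ⟨x, ⟨c, fun h => hv ?_, e⟩, rfl⟩
    rw [← ap_inv_ap x v, e, h, zero_smul]
    simp [ap]

section main

variable {p : ℕ} [hp : Fact p.Prime] [CharP F p] [Fintype F]
variable (hn : 2 ≤ n) (G : Subgroup (GL (Fin n) F ⧸ Subgroup.center (GL (Fin n) F)))
  (hG : ∀ x : GL (Fin n) F, (x : Matrix (Fin n) (Fin n) F).det = 1 → pr x ∈ G)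

include hp hn hG in
theorem no_cover (𝓐 : Finset (Subgroup G)) (hcov : ∀ g : G, ∃ A ∈ 𝓐, g ∈ A)
    (hprop : ∀ A ∈ 𝓐, A ≠ ⊤)
    (hmin : ∀ 𝓑 : Finset (Subgroup G), (∀ A ∈ 𝓑, A ≠ ⊤) ∧ (∀ g : G, ∃ A ∈ 𝓑, g ∈ A) → 𝓐.card ≤ 𝓑.card)
    (R : Finset (Subgroup G)) (hR : R ⊆ 𝓐)
    (hbig : Nat.card (Projectivization F (Fin n → F)) < R.card)
    (hout : ∀ x : GL (Fin n) F, ∀ hx : pr x ∈ G, (∀ v : Fin n → F, v ≠ 0 → ∀ c : F, ap x v ≠ c • v) →
      ∃ A ∈ 𝓐, A ∉ R ∧ (⟨pr x, hx⟩ : G) ∈ A) : False := by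
  classical
  haveI : Fintype (Projectivization F (Fin n → F)) := Fintype.ofFinite _
  let S : Projectivization F (Fin n → F) → Subgroup G := fun l => ((lineStab l.rep).map (pr : GLn →* PG)).subgroupOf G
  let 𝓑 := Finset.univ.image S ∪ (𝓐 \ R)
  have h1 := hmin 𝓑 ⟨?_, ?_⟩
  · have h2 : 𝓑.card ≤ Nat.card (Projectivization F (Fin n → F)) + (𝓐.card - R.card) := by
      refine (Finset.card_union_le _ _).trans (add_le_add ?_ ?_)
      · rw [Nat.card_eq_fintype_card]; exact Finset.card_image_le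
      · rw [Finset.card_sdiff_of_subset hR]
    have h3 := Finset.card_le_card hR
    omega
  · intro B hB
    rcases Finset.mem_union.1 hB with hB | hB
    · obtain ⟨l, -, rfl⟩ := Finset.mem_image.1 hB
      intro htop
      obtain ⟨j, hj⟩ : ∃ j : Fin n, ∀ c : F, l.rep ≠ c • Pi.single j 1 := by
        by_contra hcon
        push Not at hcon
        obtain ⟨a, ha⟩ := hcon 0
        obtain ⟨b, hb⟩ := hcon ⟨1, by omega⟩
        have e := congrFun (ha.symm.trans hb) 0
        simp [Fin.ext_iff] at e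
        exact l.rep_nonzero (by rw [ha, e, zero_smul])
      obtain ⟨g, hg⟩ := exists_gl (v := (Pi.single j 1 : Fin n → F)) (by simp)
      have hmem : (⟨pr (reg g), hG _ (det_reg g)⟩ : G) ∈ S l := htop ▸ Subgroup.mem_top _
      obtain ⟨c, hc⟩ := (pr_mem_lineStab l.rep_nonzero (reg g)).1 hmem
      have hc1 : c = 1 := by
        have key : ∀ k : ℕ, ap (reg g ^ k) l.rep = c ^ k • l.rep := by
          intro k
          induction k with
          | zero => rw [pow_zero, pow_zero, ap_one, one_smul]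
          | succ k ih => rw [pow_succ, ap_mul, hc, ap_smul, ih, smul_smul, ← pow_succ']
        have := key (p ^ n)
        rw [reg_pow, ap_one] at this
        refine eq_one_of_pow_char (p := p) (k := n) ?_
        by_contra hne
        exact l.rep_nonzero (smul_eq_zero.1 (show (c ^ p ^ n - 1) • l.rep = 0 by
          rw [sub_smul, one_smul, ← this, sub_self]) |>.resolve_left (sub_ne_zero.2 hne))
      obtain ⟨d, hd⟩ := ap_reg_fixed (g := g) (v := l.rep) (by rw [hc, hc1, one_smul])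
      exact hj d (hg ▸ hd)
    · exact hprop B (Finset.mem_sdiff.1 hB).1
  · intro y
    obtain ⟨x, hx⟩ := QuotientGroup.mk'_surjective _ (y : PG)
    have hxG : pr x ∈ G := by rw [show pr x = (y : PG) from hx]; exact y.2
    have hy : y = ⟨pr x, hxG⟩ := Subtype.ext hx.symm
    by_cases he : ∃ v : Fin n → F, v ≠ 0 ∧ ∃ c : F, ap x v = c • v
    · obtain ⟨v, hv, c, hc⟩ := he
      refine ⟨S (Projectivization.mk F v hv), Finset.mem_union_left _ (Finset.mem_image_of_mem _ (Finset.mem_univ _)), ?_⟩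
      obtain ⟨a, ha⟩ := (Projectivization.mk_eq_mk_iff' F _ _ (Projectivization.rep_nonzero _) hv).1
        (Projectivization.mk_rep (Projectivization.mk F v hv))
      rw [hy]
      exact (pr_mem_lineStab (Projectivization.rep_nonzero _) x).2 ⟨c, by
        rw [← ha, ap_smul, hc, smul_smul, smul_smul, mul_comm]⟩
    · push Not at he
      obtain ⟨A, hA, hAR, hxA⟩ := hout x hxG (fun v hv c => he v hv c)
      exact ⟨A, Finset.mem_union_right _ (Finset.mem_sdiff.2 ⟨hA, hAR⟩), hy ▸ hxA⟩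

end main

theorem coe_map_nilpotent (G : Subgroup PG) (A : Subgroup G) (h : Group.IsNilpotent A) :
    Group.IsNilpotent (A.map G.subtype) :=
  Group.nilpotent_of_mulEquiv (Subgroup.equivMapOfInjective A G.subtype G.subtype_injective)

section two

variable {F₂ : Type*} [Field F₂]

theorem scalar_smul_eq_one_of_conj {h s : GL (Fin 2) F₂} {c : F₂} (hdet : (s : Matrix (Fin 2) (Fin 2) F₂).det = 1)
    (hs : ∀ e : F₂, (s : Matrix (Fin 2) (Fin 2) F₂) * s ≠ e • 1)
    (hc : ((h * s * h⁻¹ : GL (Fin 2) F₂) : Matrix (Fin 2) (Fin 2) F₂) = c • (s : Matrix (Fin 2) (Fin 2) F₂)) :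
    Commute h s := by
  have hd := congrArg Matrix.det hc
  rw [Units.val_mul, Units.val_mul, Matrix.det_units_conj, Matrix.det_smul, hdet, Fintype.card_fin, mul_one] at hd
  have ht := congrArg Matrix.trace hc
  rw [Units.val_mul, Units.val_mul, Matrix.trace_units_conj, Matrix.trace_smul, smul_eq_mul] at ht
  have hc1 : c = 1 := by
    by_contra hne
    have ht0 : (s : Matrix (Fin 2) (Fin 2) F₂).trace = 0 := by
      have : (c - 1) * (s : Matrix (Fin 2) (Fin 2) F₂).trace = 0 := by rw [sub_mul, ← ht, one_mul, sub_self]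
      exact (mul_eq_zero.1 this).resolve_left (sub_ne_zero.2 hne)
    apply hs (-1)
    have hch := Matrix.aeval_self_charpoly (s : Matrix (Fin 2) (Fin 2) F₂)
    rw [Matrix.charpoly_fin_two, ht0, hdet] at hch
    simp [pow_two] at hch
    rw [neg_one_smul]
    exact eq_neg_of_add_eq_zero_left hch
  rw [hc1, one_smul] at hc
  have := Units.ext hc
  show h * s = s * h
  rw [← mul_inv_eq_iff_eq_mul]
  exact this

theorem diag_commute_eigen {a : F₂} (ha : a ≠ 0) (ha2 : a * a ≠ 1) {d h : GL (Fin 2) F₂}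
    (hd : (d : Matrix (Fin 2) (Fin 2) F₂) = Matrix.diagonal ![a, a⁻¹]) (hc : Commute h d) :
    ∃ c : F₂, ap h (Pi.single 0 1) = c • Pi.single 0 1 := by
  have e0 := congrArg Units.val hc.eq
  rw [Units.val_mul, Units.val_mul, hd] at e0
  have e := Matrix.ext_iff.2 e0 1 0
  rw [Matrix.mul_diagonal, Matrix.diagonal_mul] at e
  simp at e
  have h0 : (h : Matrix (Fin 2) (Fin 2) F₂) 1 0 = 0 := by
    by_contra hne
    apply ha2
    have : a = a⁻¹ := by
      rw [mul_comm] at e
      exact mul_right_cancel₀ hne e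
    nth_rewrite 2 [this]
    exact mul_inv_cancel₀ ha
  refine ⟨(h : Matrix (Fin 2) (Fin 2) F₂) 0 0, ?_⟩
  funext i
  fin_cases i <;> simp [ap, h0, Matrix.mulVec, dotProduct, Fin.sum_univ_two]

theorem exists_torus [Fintype F₂] (h4 : 4 ≤ Fintype.card F₂) {x : GL (Fin 2) F₂}
    (hx : ∀ v : Fin 2 → F₂, v ≠ 0 → ∀ c : F₂, ap x v ≠ c • v) :
    ∃ v : GL (Fin 2) F₂, (v : Matrix (Fin 2) (Fin 2) F₂).det = 1 ∧
      (∀ e : F₂, (v : Matrix (Fin 2) (Fin 2) F₂) * v ≠ e • 1) ∧
      (∀ w : Fin 2 → F₂, w ≠ 0 → ∀ c : F₂, ap v w ≠ c • w) ∧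
      (Fintype.card F₂ = 5 → v ^ 3 = 1) ∧
      ∃ H : Subgroup (GL (Fin 2) F₂), IsCyclic H ∧ x ∈ H ∧ v ∈ H := by
  classical
  set M := (x : Matrix (Fin 2) (Fin 2) F₂)
  have hirr : Irreducible M.charpoly := by
    refine (Polynomial.irreducible_iff_roots_eq_zero_of_degree_le_three ?_ ?_).2 ?_
    · rw [Matrix.charpoly_natDegree_eq_dim, Fintype.card_fin]
    · rw [Matrix.charpoly_natDegree_eq_dim, Fintype.card_fin]; norm_num
    · rw [Multiset.eq_zero_iff_forall_notMem]
      intro c hc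
      rw [Polynomial.mem_roots (Matrix.charpoly_monic M).ne_zero, ← Matrix.mem_spectrum_iff_isRoot_charpoly,
        ← Matrix.spectrum_toLin', ← Module.End.hasEigenvalue_iff_mem_spectrum] at hc
      obtain ⟨w, hw⟩ := hc.exists_hasEigenvector
      exact hx w hw.2 c hw.apply_eq_smul
  haveI := Fact.mk hirr
  let K := AdjoinRoot M.charpoly
  let pb := AdjoinRoot.powerBasis (f := M.charpoly) (Matrix.charpoly_monic M).ne_zero
  haveI : Module.Finite F₂ K := Module.Finite.of_basis pb.basis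
  haveI : Finite K := Module.finite_of_finite F₂
  haveI : Fintype K := Fintype.ofFinite K
  let q := Fintype.card F₂
  have hq4 : 4 ≤ q := h4
  have hK : Nat.card Kˣ = (q + 1) * (q - 1) := by
    rw [Nat.card_eq_fintype_card, Fintype.card_units, ← Nat.card_eq_fintype_card,
      Module.natCard_eq_pow_finrank (K := F₂), pb.finrank, AdjoinRoot.powerBasis_dim,
      Matrix.charpoly_natDegree_eq_dim, Fintype.card_fin, Nat.card_eq_fintype_card, ← Nat.sq_sub_sq]
  let ψ : K →ₐ[F₂] Matrix (Fin 2) (Fin 2) F₂ :=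
    Ideal.Quotient.liftₐ (Ideal.span {M.charpoly}) (Polynomial.aeval M) (fun a ha => by
      obtain ⟨b, rfl⟩ := Ideal.mem_span_singleton'.1 ha
      rw [map_mul, show Polynomial.aeval M M.charpoly = 0 from Matrix.aeval_self_charpoly M, mul_zero])
  have hψ : Function.Injective ψ := ψ.toRingHom.injective
  let Ψ : Kˣ →* GL (Fin 2) F₂ := Units.map ψ.toMonoidHom
  have hΨ : Function.Injective Ψ := fun a b e => Units.ext (hψ (congrArg Units.val e))
  obtain ⟨z, hz⟩ := IsCyclic.exists_ofOrder_eq_natCard (α := Kˣ)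
  rw [hK] at hz
  let k := if q = 5 then 8 else q - 1
  have hk : (q - 1) ∣ k := by
    by_cases h5 : q = 5 <;> simp [k, h5]
  let v := Ψ (z ^ k)
  have hdet : (v : Matrix (Fin 2) (Fin 2) F₂).det = 1 := by
    show ((Ψ (z ^ k) : GL (Fin 2) F₂) : Matrix (Fin 2) (Fin 2) F₂).det = 1
    obtain ⟨j, hj⟩ := hk
    rw [map_pow, Units.val_pow_eq_pow_val, Matrix.det_pow, hj, pow_mul,
      FiniteField.pow_card_sub_one_eq_one _ (((Matrix.isUnit_iff_isUnit_det _).1 (Ψ z).isUnit).ne_zero), one_pow]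
  have hv4 : v ^ 4 ≠ 1 := by
    intro e
    have e1 : z ^ (k * 4) = 1 := hΨ (by rw [map_one, pow_mul, map_pow]; exact e)
    have h := orderOf_dvd_of_pow_eq_one e1
    rw [hz] at h
    by_cases h5 : q = 5
    · simp [k, h5] at h
    · simp only [k, h5, if_false] at h
      rw [mul_comm (q + 1)] at h
      have := Nat.le_of_dvd (by norm_num) (Nat.dvd_of_mul_dvd_mul_left (by omega) h)
      omega
  have hv2 : ∀ e : F₂, (v : Matrix (Fin 2) (Fin 2) F₂) * v ≠ e • 1 := by
    intro e he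
    apply hv4
    have hd := congrArg Matrix.det he
    rw [Matrix.det_mul, hdet, Matrix.det_smul, Fintype.card_fin, Matrix.det_one] at hd
    simp only [mul_one] at hd
    apply Units.ext
    rw [Units.val_pow_eq_pow_val, show (4 : ℕ) = 2 * 2 from rfl, pow_mul, pow_two (v : Matrix (Fin 2) (Fin 2) F₂), he,
      _root_.smul_pow, one_pow, ← hd, one_smul, Units.val_one]
  refine ⟨v, hdet, hv2, ?_, ?_, Ψ.range, isCyclic_of_surjective Ψ.rangeRestrict Ψ.rangeRestrict_surjective, ?_, ⟨_, rfl⟩⟩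
  · intro w hw c hc
    by_cases he : ((z ^ k : Kˣ) : K) = algebraMap F₂ K c
    · have : (v : Matrix (Fin 2) (Fin 2) F₂) = c • 1 := by
        show ψ ((z ^ k : Kˣ) : K) = _
        rw [he, AlgHom.commutes, Algebra.algebraMap_eq_smul_one]
      exact hv2 (c * c) (by rw [this, smul_mul_smul_comm, mul_one])
    · have hu : IsUnit (((z ^ k : Kˣ) : K) - algebraMap F₂ K c) := isUnit_iff_ne_zero.2 (sub_ne_zero.2 he)
      have hu' := hu.map ψ
      rw [map_sub, AlgHom.commutes, Algebra.algebraMap_eq_smul_one] at hu'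
      obtain ⟨U, hU⟩ := hu'
      apply hw
      rw [← ap_inv_ap U w]
      have : ap U w = 0 := by
        show (U : Matrix (Fin 2) (Fin 2) F₂) *ᵥ w = 0
        rw [hU, Matrix.sub_mulVec, Matrix.smul_mulVec, Matrix.one_mulVec]
        exact sub_eq_zero.2 hc
      rw [this]
      simp [ap]
  · intro h5
    show Ψ (z ^ k) ^ 3 = 1
    have hk8 : k = 8 := by simp [k, q, h5]
    rw [← map_pow, ← pow_mul, hk8, show (8 : ℕ) * 3 = orderOf z by rw [hz]; simp [q, h5], pow_orderOf_eq_one, map_one]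
  · have hroot : ψ (AdjoinRoot.root M.charpoly) = M := Polynomial.aeval_X M
    have hr : (AdjoinRoot.root M.charpoly : K) ≠ 0 := fun e => x.ne_zero (by
      show M = 0
      rw [← hroot, e, map_zero])
    exact ⟨Units.mk0 _ hr, Units.ext hroot⟩

theorem conflict [Fintype F₂] (h4 : 4 ≤ Fintype.card F₂) {A : Subgroup (GL (Fin 2) F₂ ⧸ Subgroup.center (GL (Fin 2) F₂))}
    [Group.IsNilpotent A] {a : F₂} (ha : a ≠ 0) (ha2 : a * a ≠ 1)
    (ha4 : Fintype.card F₂ ≠ 5 → a * a * (a * a) ≠ 1) {d v : GL (Fin 2) F₂}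
    (hd : (d : Matrix (Fin 2) (Fin 2) F₂) = Matrix.diagonal ![a, a⁻¹])
    (hdA : pr d ∈ A) (hvA : pr v ∈ A) (hvdet : (v : Matrix (Fin 2) (Fin 2) F₂).det = 1)
    (hv2 : ∀ e : F₂, (v : Matrix (Fin 2) (Fin 2) F₂) * v ≠ e • 1)
    (hveig : ∀ w : Fin 2 → F₂, w ≠ 0 → ∀ c : F₂, ap v w ≠ c • w)
    (hv5 : Fintype.card F₂ = 5 → v ^ 3 = 1) : False := by
  classical
  have hddet : (d : Matrix (Fin 2) (Fin 2) F₂).det = 1 := by
    rw [hd, Matrix.det_diagonal, Fin.prod_univ_two]; simp [ha]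
  by_cases h5 : Fintype.card F₂ = 5
  · have hco : (orderOf (⟨pr d, hdA⟩ : A)).Coprime (orderOf (⟨pr v, hvA⟩ : A)) := by
      refine ((show Nat.Coprime 2 3 by norm_num).coprime_dvd_left ?_).coprime_dvd_right ?_
      · apply orderOf_dvd_of_pow_eq_one
        apply Subtype.ext
        show pr d ^ 2 = 1
        rw [← map_pow]
        refine (QuotientGroup.eq_one_iff _).2 (Subgroup.mem_center_iff.2 fun y => Units.ext ?_)
        have hp := FiniteField.pow_card_sub_one_eq_one a ha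
        rw [h5] at hp
        have hp' : a * a = -1 := by
          have : (a * a - 1) * (a * a + 1) = 0 := by ring_nf; ring_nf at hp; rw [hp]; ring
          exact eq_neg_of_add_eq_zero_left ((mul_eq_zero.1 this).resolve_left (sub_ne_zero.2 ha2))
        have hdd : ((d ^ 2 : GL (Fin 2) F₂) : Matrix (Fin 2) (Fin 2) F₂) = -1 := by
          have hinv : a⁻¹ * a⁻¹ = -1 := by rw [← mul_inv, hp', inv_neg, inv_one]
          rw [Units.val_pow_eq_pow_val, hd, pow_two, Matrix.diagonal_mul_diagonal]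
          ext i j
          fin_cases i <;> fin_cases j <;> simp [hp', hinv]
        rw [Units.val_mul, Units.val_mul, hdd]
        simp
      · apply orderOf_dvd_of_pow_eq_one
        apply Subtype.ext
        show pr v ^ 3 = 1
        rw [← map_pow, hv5 h5, map_one]
    have hc : Commute (pr d) (pr v) :=
      congrArg Subtype.val (Cfsg.Agent.FittingHallBasic.commute_of_coprime_orderOf hco).eq
    obtain ⟨c, hc'⟩ := conj_eq_smul_of_commute hc
    obtain ⟨e, he⟩ := diag_commute_eigen ha ha2 hd (scalar_smul_eq_one_of_conj hvdet hv2 hc').symm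
    exact hveig _ (by simp) e he
  · haveI : Nontrivial A := by
      refine ⟨⟨⟨pr v, hvA⟩, 1, fun e => ?_⟩⟩
      have e' : pr v = 1 := congrArg Subtype.val e
      obtain ⟨c, -, hc⟩ := exists_scalar_of_mem_center ((QuotientGroup.eq_one_iff _).1 e')
      exact hveig (Pi.single 0 1) (by simp) c (hc _)
    obtain ⟨⟨z, hzA⟩, hz, hz1⟩ := (Subgroup.bot_or_exists_ne_one (Subgroup.center A)).resolve_left
      (Group.IsNilpotent.center_ne_bot A)
    obtain ⟨h, rfl⟩ := QuotientGroup.mk'_surjective _ z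
    have hcomm : ∀ s : GL (Fin 2) F₂, pr s ∈ A → Commute (pr h) (pr s) := fun s hs =>
      (congrArg Subtype.val (Subgroup.mem_center_iff.1 hz ⟨pr s, hs⟩)).symm
    obtain ⟨c, hc⟩ := conj_eq_smul_of_commute (hcomm d hdA)
    have hd2 : ∀ e : F₂, (d : Matrix (Fin 2) (Fin 2) F₂) * d ≠ e • 1 := by
      intro e he
      rw [hd, Matrix.diagonal_mul_diagonal] at he
      have h0 := congrFun (congrFun he 0) 0
      have h1 := congrFun (congrFun he 1) 1
      simp at h0 h1
      apply ha4 h5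
      calc a * a * (a * a) = e * (a * a) := by rw [h0]
        _ = a⁻¹ * a⁻¹ * (a * a) := by rw [h1]
        _ = 1 := by field_simp
    obtain ⟨e, he⟩ := diag_commute_eigen ha ha2 hd (scalar_smul_eq_one_of_conj hddet hd2 hc)
    obtain ⟨c', hc'⟩ := conj_eq_smul_of_commute (hcomm v hvA)
    have hhv : Commute h v := scalar_smul_eq_one_of_conj hvdet hv2 hc'
    let W := Module.End.eigenspace (Matrix.toLin' (h : Matrix (Fin 2) (Fin 2) F₂)) e
    have heW : (Pi.single 0 1 : Fin 2 → F₂) ∈ W := Module.End.mem_eigenspace_iff.2 he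
    have hvW : ∀ w ∈ W, ap v w ∈ W := fun w hw => Module.End.mem_eigenspace_iff.2 (by
      show ap h (ap v w) = e • ap v w
      rw [← ap_mul, hhv.eq, ap_mul, show ap h w = e • w from Module.End.mem_eigenspace_iff.1 hw, ap_smul])
    have hWtop : W = ⊤ := by
      by_contra hne
      have h1 := Submodule.finrank_lt hne
      rw [Module.finrank_pi, Fintype.card_fin] at h1
      have hle : Submodule.span F₂ {(Pi.single 0 1 : Fin 2 → F₂)} ≤ W :=
        (Submodule.span_singleton_le_iff_mem _ _).2 heW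
      have hspan : Submodule.span F₂ {(Pi.single 0 1 : Fin 2 → F₂)} = W :=
        Submodule.eq_of_le_of_finrank_le hle (by rw [finrank_span_singleton (by simp)]; omega)
      obtain ⟨c, hc⟩ := Submodule.mem_span_singleton.1 (hspan.symm ▸ hvW _ heW)
      exact hveig _ (by simp) c hc.symm
    apply hz1
    apply Subtype.ext
    show pr h = 1
    refine (QuotientGroup.eq_one_iff _).2 (Subgroup.mem_center_iff.2 fun y => Units.ext ?_)
    have hh : (h : Matrix (Fin 2) (Fin 2) F₂) = e • 1 := by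
      apply Matrix.toLin'.injective
      apply LinearMap.ext
      intro w
      have hw : w ∈ W := hWtop ▸ Submodule.mem_top
      rw [Module.End.mem_eigenspace_iff.1 hw]
      simp
    rw [Units.val_mul, Units.val_mul, hh]
    simp

end two

theorem main {F : Type*} [Field F] [Fintype F] (n : ℕ) (hn : 3 ≤ n ∨ (n = 2 ∧ 4 ≤ Fintype.card F))
    (G : Subgroup (GL (Fin n) F ⧸ Subgroup.center (GL (Fin n) F)))
    (hG : ∀ x : GL (Fin n) F, (x : Matrix (Fin n) (Fin n) F).det = 1 → QuotientGroup.mk' (Subgroup.center (GL (Fin n) F)) x ∈ G)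
    (𝓐 : Finset (Subgroup G)) (hprop : ∀ A ∈ 𝓐, A ≠ ⊤) (hcov : ∀ g : G, ∃ A ∈ 𝓐, g ∈ A)
    (hmin : ∀ 𝓑 : Finset (Subgroup G), (∀ A ∈ 𝓑, A ≠ ⊤) ∧ (∀ g : G, ∃ A ∈ 𝓑, g ∈ A) → 𝓐.card ≤ 𝓑.card)
    (hnil : ∀ A ∈ 𝓐, Group.IsNilpotent A) : False := by
  classical
  haveI : NeZero n := ⟨by omega⟩
  obtain ⟨p, hp⟩ := CharP.exists F
  haveI := hp
  obtain ⟨f, hpp, hf⟩ := FiniteField.card F p
  haveI : Fact p.Prime := ⟨hpp⟩
  haveI : Fintype (Projectivization F (Fin n → F)) := Fintype.ofFinite _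
  have hmem : ∀ {A : Subgroup G} {x : GL (Fin n) F} (hx : pr x ∈ G), (⟨pr x, hx⟩ : G) ∈ A → pr x ∈ A.map G.subtype :=
    fun hx h => ⟨_, h, rfl⟩
  let R := 𝓐.filter fun A => ∃ g : GL (Fin n) F, pr (reg g) ∈ A.map G.subtype
  have hRp : ∀ A ∈ R, IsPGroup p (A.map G.subtype) := by
    intro A hA
    obtain ⟨hA, g, hg⟩ := Finset.mem_filter.1 hA
    haveI := coe_map_nilpotent G A (hnil A hA)
    exact isPGroup_of_reg hg
  choose mem hmemA hmemg using fun g : GL (Fin n) F => hcov ⟨pr (reg g), hG _ (det_reg g)⟩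
  have hmemR : ∀ g, mem g ∈ R := fun g => Finset.mem_filter.2 ⟨hmemA g, g, hmem _ (hmemg g)⟩
  choose gl hgl using fun l : Projectivization F (Fin n → F) => exists_gl (Projectivization.rep_nonzero l)
  have hline : ∀ (l l' : Projectivization F (Fin n → F)) (A : Subgroup G), A ∈ R → ∀ g g' : GL (Fin n) F,
      pr (reg g) ∈ A.map G.subtype → pr (reg g') ∈ A.map G.subtype →
      ap g (Pi.single 0 1) = l.rep → ap g' (Pi.single 0 1) = l'.rep → l = l' := by
    intro l l' A hA g g' hg hg' e e'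
    obtain ⟨c, hc⟩ := same_line (hRp A hA) hg hg'
    rw [e, e'] at hc
    rw [← l.mk_rep, ← l'.mk_rep, eq_comm, Projectivization.mk_eq_mk_iff']
    exact ⟨c, hc.symm⟩
  have hnoeig : ∀ x : GL (Fin n) F, ∀ hx : pr x ∈ G, (∀ v : Fin n → F, v ≠ 0 → ∀ c : F, ap x v ≠ c • v) →
      ∀ A ∈ R, (⟨pr x, hx⟩ : G) ∉ A := by
    intro x hx he A hA hxA
    obtain ⟨v, hv, hv', -⟩ := exists_eigen (hRp A hA)
    obtain ⟨c, hc⟩ := hv' x (hmem hx hxA)
    exact he v hv c hc
  rcases hn with h3 | ⟨rfl, h4⟩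
  · let σ : Equiv.Perm (Fin n) := Equiv.swap ⟨1, by omega⟩ ⟨2, by omega⟩
    let S : GL (Fin n) F :=
      Matrix.GeneralLinearGroup.mkOfDetNeZero (σ.permMatrix F) (by
        rw [Matrix.det_permutation]
        rcases Int.units_eq_one_or (Equiv.Perm.sign σ) with h | h <;> simp [h])
    have hS : ∀ v : Fin n → F, ap S v = fun i => v (σ i) := fun v => by
      show (σ.permMatrix F) *ᵥ v = _
      rw [Matrix.permMatrix_mulVec]
      rfl
    have hS0 : ap S (Pi.single 0 1) = Pi.single 0 1 := by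
      rw [hS]
      funext i
      have hσ : σ 0 = 0 := Equiv.swap_apply_of_ne_of_ne (by simp [Fin.ext_iff]) (by simp [Fin.ext_iff])
      by_cases hi : i = 0
      · subst hi; rw [hσ]
      · have : σ i ≠ 0 := fun e => hi (σ.injective (e.trans hσ.symm))
        simp [hi, this]
    let Φ : Projectivization F (Fin n → F) × Bool → {A // A ∈ R} := fun x =>
      ⟨mem (if x.2 then gl x.1 * S else gl x.1), hmemR _⟩
    have hΦ : Function.Injective Φ := by
      rintro ⟨l, b⟩ ⟨l', b'⟩ e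
      have e' : mem (if b then gl l * S else gl l) = mem (if b' then gl l' * S else gl l') := congrArg Subtype.val e
      have h1 := hmem _ (hmemg (if b then gl l * S else gl l))
      have h2 := hmem _ (hmemg (if b' then gl l' * S else gl l'))
      rw [← e'] at h2
      have hl : l = l' := by
        refine hline l l' _ (hmemR _) _ _ h1 h2 ?_ ?_
        · cases b <;> simp only [if_true, Bool.false_eq_true, if_false, ap_mul, hS0, hgl]
        · cases b' <;> simp only [if_true, Bool.false_eq_true, if_false, ap_mul, hS0, hgl]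
      subst hl
      cases b <;> cases b'
      · rfl
      · exact (not_both h3 (hRp _ (hmemR _)) hS h1 h2).elim
      · exact (not_both h3 (hRp _ (hmemR _)) hS h2 h1).elim
      · rfl
    have hcard := Fintype.card_le_of_injective Φ hΦ
    rw [Fintype.card_prod, Fintype.card_bool, Fintype.card_coe] at hcard
    haveI : Nonempty (Projectivization F (Fin n → F)) := ⟨Projectivization.mk F (Pi.single 0 1) (by simp)⟩
    have hpos : 0 < Fintype.card (Projectivization F (Fin n → F)) := Fintype.card_pos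
    refine no_cover (p := p) (by omega) G hG 𝓐 hcov hprop hmin R (Finset.filter_subset _ _) ?_ ?_
    · rw [Nat.card_eq_fintype_card]; omega
    · intro x hx he
      obtain ⟨A, hA, hxA⟩ := hcov ⟨pr x, hx⟩
      exact ⟨A, hA, fun h => hnoeig x hx he A h hxA, hxA⟩
  · obtain ⟨a, ha, ha2, ha4⟩ : ∃ a : F, a ≠ 0 ∧ a * a ≠ 1 ∧ (Fintype.card F ≠ 5 → a * a * (a * a) ≠ 1) := by
      obtain ⟨u, hu⟩ := IsCyclic.exists_ofOrder_eq_natCard (α := Fˣ)
      rw [Nat.card_eq_fintype_card, Fintype.card_units] at hu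
      refine ⟨(u : F), u.ne_zero, fun e => ?_, fun h5 e => ?_⟩
      · have : u ^ 2 = 1 := Units.ext (by simpa [pow_two] using e)
        have := Nat.le_of_dvd (by norm_num) (orderOf_dvd_of_pow_eq_one this)
        omega
      · have h1 : u ^ 4 = 1 := Units.ext (by
          rw [Units.val_pow_eq_pow_val, Units.val_one, ← e]; ring)
        have h2 := orderOf_dvd_of_pow_eq_one h1
        have h3 := Nat.le_of_dvd (by norm_num) h2
        have : orderOf u = 3 ∨ orderOf u = 4 := by omega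
        rcases this with h | h
        · rw [h] at h2; norm_num at h2
        · omega
    let d : GL (Fin 2) F :=
      Matrix.GeneralLinearGroup.mkOfDetNeZero (Matrix.diagonal ![a, a⁻¹]) (by simp [Matrix.det_diagonal, Fin.prod_univ_two, ha])
    have hd : (d : Matrix (Fin 2) (Fin 2) F) = Matrix.diagonal ![a, a⁻¹] := rfl
    have hdG : pr d ∈ G := hG _ (by rw [hd]; simp [Matrix.det_diagonal, Fin.prod_univ_two, ha])
    obtain ⟨Ax, hAx, hdAx⟩ := hcov ⟨pr d, hdG⟩
    have hAxR : Ax ∉ R := by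
      intro h
      obtain ⟨k, hk⟩ := hRp Ax h ⟨_, hmem hdG hdAx⟩
      have hk' : pr d ^ p ^ k = 1 := congrArg Subtype.val hk
      rw [← map_pow] at hk'
      obtain ⟨c, hc, -⟩ := exists_scalar_of_mem_center ((QuotientGroup.eq_one_iff _).1 hk')
      rw [Units.val_pow_eq_pow_val, hd, Matrix.diagonal_pow] at hc
      have h0 := congrFun (congrFun hc 0) 0
      have h1 := congrFun (congrFun hc 1) 1
      simp at h0 h1
      apply ha2
      refine eq_one_of_pow_char (p := p) (k := k) ?_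
      rw [mul_pow]
      nth_rewrite 1 [h0]
      rw [← h1, inv_mul_cancel₀ (pow_ne_zero _ ha)]
    let Φ : Projectivization F (Fin 2 → F) → {A // A ∈ R} := fun l => ⟨mem (gl l), hmemR _⟩
    have hΦ : Function.Injective Φ := by
      intro l l' e
      have e' : mem (gl l) = mem (gl l') := congrArg Subtype.val e
      exact hline l l' _ (hmemR _) _ _ (hmem _ (hmemg (gl l))) (e' ▸ hmem _ (hmemg (gl l'))) (hgl l) (hgl l')
    have hcard := Fintype.card_le_of_injective Φ hΦ
    rw [Fintype.card_coe] at hcard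
    refine no_cover (p := p) le_rfl G hG 𝓐 hcov hprop hmin (insert Ax R)
      (Finset.insert_subset hAx (Finset.filter_subset _ _)) ?_ ?_
    · rw [Finset.card_insert_of_notMem hAxR, Nat.card_eq_fintype_card]; omega
    · intro x hx he
      obtain ⟨v, hvdet, hv2, hveig, hv5, H, hH, hxH, hvH⟩ := exists_torus h4 he
      haveI := hH
      haveI : IsCyclic (H.map (pr : GL (Fin 2) F →* _)) :=
        isCyclic_of_surjective _ (MonoidHom.subgroupMap_surjective (pr : GL (Fin 2) F →* _) H)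
      let C := (H.map (pr : GL (Fin 2) F →* _)).subgroupOf G
      let emb : C →* H.map (pr : GL (Fin 2) F →* _) :=
        (G.subtype.comp C.subtype).codRestrict _ fun c => c.2
      haveI : IsCyclic C := isCyclic_of_injective emb (fun a b e => Subtype.ext (Subtype.ext (congrArg Subtype.val e :)))
      obtain ⟨w, hw⟩ := IsCyclic.exists_generator (α := C)
      obtain ⟨A, hA, hwA⟩ := hcov w.1
      have hall : ∀ c : C, (c : G) ∈ A := by
        intro c
        obtain ⟨j, hj⟩ := Subgroup.mem_zpowers_iff.1 (hw c)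
        rw [← hj]
        push_cast
        exact A.zpow_mem hwA j
      have hxA : (⟨pr x, hx⟩ : G) ∈ A := hall ⟨⟨pr x, hx⟩, x, hxH, rfl⟩
      have hvA : (⟨pr v, hG _ hvdet⟩ : G) ∈ A := hall ⟨⟨pr v, hG _ hvdet⟩, v, hvH, rfl⟩
      refine ⟨A, hA, fun h => ?_, hxA⟩
      rcases Finset.mem_insert.1 h with rfl | h
      · haveI := coe_map_nilpotent G A (hnil A hA)
        exact conflict h4 ha ha2 ha4 hd (hmem hdG hdAx) (hmem _ hvA) hvdet hv2 hveig hv5
      · exact hnoeig x hx he A h hxA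

/-- A cover of a group is a finite set of proper subgroups whose union is the whole group; it is minimal when no cover has fewer members, and nilpotent when all its members are nilpotent. Let F be a finite field with q elements and n ≥ 3, or n = 2 and q ≥ 4. Then no subgroup of PGL_n(F) = GL_n(F)/Z(GL_n(F)) containing the image of SL_n(F) has a nilpotent minimal cover. -/
theorem result {F : Type*} [Field F] [Fintype F] (n : ℕ) (hn : 3 ≤ n ∨ (n = 2 ∧ 4 ≤ Fintype.card F))
    (G : Subgroup (GL (Fin n) F ⧸ Subgroup.center (GL (Fin n) F)))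
    (hG : ((Matrix.SpecialLinearGroup.toGL : Matrix.SpecialLinearGroup (Fin n) F →* GL (Fin n) F).range).map
      (QuotientGroup.mk' (Subgroup.center (GL (Fin n) F))) ≤ G) :
    ¬ ∃ 𝓐 : Finset (Subgroup ↥G), ((∀ A ∈ 𝓐, A ≠ ⊤) ∧ (∀ g : ↥G, ∃ A ∈ 𝓐, g ∈ A)) ∧ (∀ 𝓑 : Finset (Subgroup ↥G), (∀ A ∈ 𝓑, A ≠ ⊤) ∧ (∀ g : ↥G, ∃ A ∈ 𝓑, g ∈ A) → 𝓐.card ≤ 𝓑.card) ∧ (∀ A ∈ 𝓐, Group.IsNilpotent ↥A) := by
  rintro ⟨𝓐, ⟨hprop, hcov⟩, hmin, hnil⟩
  refine main n hn G (fun x hx => hG ?_) 𝓐 hprop hcov hmin hnil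
  exact Subgroup.mem_map_of_mem _ (mem_range_of_det hx)

end Cfsg.Agent.S3894
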