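import Mathlib
import Cfsg.Agent.Lib.CoprimeAction
import Cfsg.Agent.Lib.TransferAlperin
import Cfsg.Agent.Lib.TransferPResidual
import Cfsg.Statements.S3895
-- import your own Cfsg.Agent.* helpers here

set_option autoImplicit false
open Cfsg

namespace Cfsg.Agent.S3895

variable {G : Type*} [Group G] [Finite G]

/-- The map from elements of a Sylow `2`-subgroup to the classes of `2`-elements. -/
theorem two_class_mem (P : Sylow 2 G) (x : (P : Subgroup G)) :
    ∀ y ∈ (ConjClasses.mk (x : G)).carrier, ∃ k : ℕ, orderOf y = 2 ^ k := by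
  haveI : Fact (Nat.Prime 2) := ⟨Nat.prime_two⟩
  intro y hy
  obtain ⟨g, hg⟩ := isConj_iff.mp (ConjClasses.mk_eq_mk_iff_isConj.mp (ConjClasses.mem_carrier_iff_mk_eq.mp hy))
  obtain ⟨k, hk⟩ := IsPGroup.iff_orderOf.mp P.isPGroup' x
  refine ⟨k, ?_⟩
  rw [← hk, ← Subgroup.orderOf_coe, ← hg]
  exact (MulEquiv.orderOf_eq (MulAut.conj g) y).symm

/-- The class of an element of the Sylow subgroup. -/
def clsMap (P : Sylow 2 G) (x : (P : Subgroup G)) :
    {c : ConjClasses G // ∀ x ∈ c.carrier, ∃ k : ℕ, orderOf x = 2 ^ k} :=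
  ⟨ConjClasses.mk (x : G), two_class_mem P x⟩

theorem clsMap_surjective (P : Sylow 2 G) : Function.Surjective (clsMap P) := by
  haveI : Fact (Nat.Prime 2) := ⟨Nat.prime_two⟩
  rintro ⟨c, hc⟩
  obtain ⟨g, rfl⟩ := ConjClasses.mk_surjective c
  obtain ⟨k, hk⟩ := hc g ConjClasses.mem_carrier_mk
  obtain ⟨R, hR⟩ := (IsPGroup.of_card (n := k) (by rw [Nat.card_zpowers, hk]) :
    IsPGroup 2 (Subgroup.zpowers g)).exists_le_sylow
  obtain ⟨w, hw⟩ := MulAction.exists_smul_eq G R P
  refine ⟨⟨w * g * w⁻¹, by rw [← hw]; exact ⟨g, hR (Subgroup.mem_zpowers g), rfl⟩⟩, Subtype.ext ?_⟩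
  exact (ConjClasses.mk_eq_mk_iff_isConj.mpr (isConj_iff.mpr ⟨w, rfl⟩)).symm

/-- An odd automorphism of a centric subgroup halves the number of fusion classes. -/
theorem two_mul_card_le (P : Sylow 2 G) (T : Subgroup G) (hT : T ≤ (P : Subgroup G))
    (hcen : (P : Subgroup G) ⊓ Subgroup.centralizer (T : Set G) ≤ T) (g : G)
    (hg : g ∈ Subgroup.normalizer (T : Set G)) (hcop : (orderOf g).Coprime 2)
    (hne : g ∉ Subgroup.centralizer (T : Set G)) :
    2 * Nat.card {c : ConjClasses G // ∀ x ∈ c.carrier, ∃ k : ℕ, orderOf x = 2 ^ k} ≤ Nat.card (P : Subgroup G) := by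
  classical
  haveI : Fact (Nat.Prime 2) := ⟨Nat.prime_two⟩
  haveI := Fintype.ofFinite (P : Subgroup G)
  haveI := Fintype.ofFinite {c : ConjClasses G // ∀ x ∈ c.carrier, ∃ k : ℕ, orderOf x = 2 ^ k}
  set C : Subgroup G := T ⊓ Subgroup.centralizer ({g} : Set G) with hC
  -- the index of `C` in `T` is at least four
  have hindex : 4 * Nat.card C ≤ Nat.card T := by
    have hCT : C ≤ T := inf_le_left
    have h0 := Subgroup.relIndex_mul_relIndex ⊥ C T bot_le hCT
    rw [Subgroup.relIndex_bot_left, Subgroup.relIndex_bot_left] at h0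
    obtain ⟨j, hj⟩ := (P.isPGroup'.to_le hT).index (C.subgroupOf T)
    change C.relIndex T = 2 ^ j at hj
    rw [hj] at h0
    rcases Nat.lt_or_ge j 2 with hj2 | hj2
    · exfalso
      apply hne
      rw [Subgroup.mem_centralizer_iff]
      intro t ht
      by_cases htC : t ∈ C
      · exact Subgroup.mem_centralizer_singleton_iff.mp htC.2
      exfalso
      interval_cases j
      · exact htC (Subgroup.relIndex_eq_one.mp hj ht)
      · have hgC : g ∈ Subgroup.normalizer (C : Set G) := by
          rw [Subgroup.mem_normalizer_iff]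
          intro x
          constructor
          · intro hx
            have : g * x * g⁻¹ = x := by rw [← Subgroup.mem_centralizer_singleton_iff.mp hx.2, mul_inv_cancel_right]
            rwa [this]
          · intro hx
            have h1 : g * (g * x * g⁻¹) = (g * x * g⁻¹) * g := (Subgroup.mem_centralizer_singleton_iff.mp hx.2).symm
            have h2 : g * x * g⁻¹ = x := by
              rw [inv_mul_cancel_right] at h1
              exact mul_left_cancel h1
            rwa [h2] at hx
        obtain ⟨jC, hjC⟩ := IsPGroup.iff_card.mp (P.isPGroup'.to_le (hCT.trans hT))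
        have hgt : g * t * g⁻¹ ∈ T := (Subgroup.mem_normalizer_iff.mp hg t).mp ht
        have hgtC : g * t * g⁻¹ ∉ C := fun h => htC (by
          have := (Subgroup.mem_normalizer_iff.mp hgC t).mpr h
          exact this)
        have hmem : (⟨t, ht⟩ : T)⁻¹ * ⟨g * t * g⁻¹, hgt⟩ ∈ C.subgroupOf T := by
          rw [Subgroup.mul_mem_iff_of_index_two hj, inv_mem_iff]
          exact iff_of_false htC hgtC
        obtain ⟨c, hc, hct⟩ := CoprimeAction.exists_fixed_mem_coset_zpowers hgC (by rw [hjC]; exact hcop.pow_right jC) t (by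
          simpa [Subgroup.mem_subgroupOf, mul_assoc] using hmem)
        have hcT : c ∈ T := by simpa using mul_mem ht (hCT hct)
        have hcC : c ∈ C := ⟨hcT, Subgroup.mem_centralizer_singleton_iff.mpr hc.symm⟩
        exact htC (by simpa using mul_mem hcC (inv_mem hct))
    · calc 4 * Nat.card C = 2 ^ 2 * Nat.card C := by norm_num
        _ ≤ 2 ^ j * Nat.card C := Nat.mul_le_mul_right _ (Nat.pow_le_pow_right two_pos hj2)
        _ = Nat.card T := by rw [mul_comm]; exact h0
  let w : ↥(P : Subgroup G) → ℕ := fun x => if (x : G) ∈ C then 6 else if (x : G) ∈ T then 2 else 3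
  have hfib : ∀ c, 6 ≤ ∑ x ∈ Finset.univ.filter (fun x => clsMap P x = c), w x := by
    intro c
    obtain ⟨x, rfl⟩ := clsMap_surjective P c
    have hxm : x ∈ Finset.univ.filter (fun y => clsMap P y = clsMap P x) := by simp
    by_cases hex : ∃ y, clsMap P y = clsMap P x ∧ (y : G) ∈ C
    · obtain ⟨y, hy, hyC⟩ := hex
      refine le_trans (le_of_eq ?_) (Finset.single_le_sum (f := w) (fun _ _ => Nat.zero_le _) (Finset.mem_filter.mpr ⟨Finset.mem_univ y, hy⟩))
      simp [w, hyC]
    push Not at hex
    by_cases hexT : ∃ y, clsMap P y = clsMap P x ∧ (y : G) ∈ T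
    · obtain ⟨y, hy, hyT⟩ := hexT
      have hyg : g * (y : G) * g⁻¹ ∈ T := (Subgroup.mem_normalizer_iff.mp hg _).mp hyT
      have hyg2 : g * (g * (y : G) * g⁻¹) * g⁻¹ ∈ T := (Subgroup.mem_normalizer_iff.mp hg _).mp hyg
      set y1 : (P : Subgroup G) := ⟨_, hT hyg⟩ with hy1
      set y2 : (P : Subgroup G) := ⟨_, hT hyg2⟩ with hy2
      have e1 : clsMap P y1 = clsMap P x := by
        rw [← hy]
        exact Subtype.ext (ConjClasses.mk_eq_mk_iff_isConj.mpr (isConj_iff.mpr ⟨g⁻¹, by simp [hy1, mul_assoc]⟩))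
      have e2 : clsMap P y2 = clsMap P x := by
        rw [← e1]
        exact Subtype.ext (ConjClasses.mk_eq_mk_iff_isConj.mpr (isConj_iff.mpr ⟨g⁻¹, by simp [hy1, hy2, mul_assoc]⟩))
      have hyn : ¬ Commute g (y : G) := fun hc =>
        hex y hy ⟨hyT, Subgroup.mem_centralizer_singleton_iff.mpr hc.eq.symm⟩
      have d1 : y1 ≠ y := fun e => hyn (by
        have h1 : g * (y : G) * g⁻¹ = y := congrArg Subtype.val e
        exact mul_inv_eq_iff_eq_mul.mp h1)
      have d2 : y2 ≠ y1 := fun e => hyn (by
        have h1 : g * (g * (y : G) * g⁻¹) * g⁻¹ = g * (y : G) * g⁻¹ := congrArg Subtype.val e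
        exact mul_inv_eq_iff_eq_mul.mp (mul_left_cancel (mul_right_cancel h1)))
      have d3 : y2 ≠ y := fun e => hyn (by
        have h1 : g * (g * (y : G) * g⁻¹) * g⁻¹ = y := congrArg Subtype.val e
        have h2 : Commute (g ^ 2) (y : G) := by
          rw [Commute, SemiconjBy, ← mul_inv_eq_iff_eq_mul]
          rw [pow_two]
          calc g * g * (y : G) * (g * g)⁻¹ = g * (g * (y : G) * g⁻¹) * g⁻¹ := by group
            _ = y := h1
        obtain ⟨m, hm⟩ := exists_pow_eq_self_of_coprime (x := g) (n := 2) hcop.symm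
        rw [← hm]
        exact h2.pow_left m)
      have hsub : ({y, y1, y2} : Finset (P : Subgroup G)) ⊆ Finset.univ.filter (fun z => clsMap P z = clsMap P x) := by
        intro z hz
        simp only [Finset.mem_insert, Finset.mem_singleton] at hz
        rcases hz with rfl | rfl | rfl <;> simp [hy, e1, e2]
      have hwt : ∀ z ∈ ({y, y1, y2} : Finset (P : Subgroup G)), 2 ≤ w z := by
        intro z _
        simp only [w]
        split_ifs <;> omega
      have h3 := Finset.card_nsmul_le_sum _ w 2 hwt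
      rw [Finset.card_insert_of_notMem (by simp [d1.symm, d3.symm]), Finset.card_pair d2.symm] at h3
      exact h3.trans (Finset.sum_le_sum_of_subset hsub)
    · push Not at hexT
      have hxT := hexT x rfl
      obtain ⟨u, hu, hne'⟩ : ∃ u ∈ (P : Subgroup G), u * (x : G) * u⁻¹ ≠ x := by
        by_contra hh
        push Not at hh
        exact hxT (hcen ⟨x.2, Subgroup.mem_centralizer_iff.mpr fun t ht => mul_inv_eq_iff_eq_mul.mp (hh t (hT ht))⟩)
      set x1 : (P : Subgroup G) := ⟨_, mul_mem (mul_mem hu x.2) (inv_mem hu)⟩ with hx1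
      have e1 : clsMap P x1 = clsMap P x :=
        Subtype.ext (ConjClasses.mk_eq_mk_iff_isConj.mpr (isConj_iff.mpr ⟨u⁻¹, by simp [hx1, mul_assoc]⟩))
      have hwt : ∀ z ∈ ({x, x1} : Finset (P : Subgroup G)), 3 ≤ w z := by
        intro z hz
        have hzc : clsMap P z = clsMap P x := by
          simp only [Finset.mem_insert, Finset.mem_singleton] at hz
          rcases hz with rfl | rfl
          · rfl
          · exact e1
        simp only [w, if_neg (hex z hzc), if_neg (hexT z hzc), le_refl]
      have h3 := Finset.card_nsmul_le_sum _ w 3 hwt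
      rw [Finset.card_pair (fun e => hne' (congrArg Subtype.val e).symm)] at h3
      refine h3.trans (Finset.sum_le_sum_of_subset ?_)
      intro z hz
      simp only [Finset.mem_insert, Finset.mem_singleton] at hz
      rcases hz with rfl | rfl <;> simp [e1]
  have htot : ∑ x, w x + Nat.card T = 3 * Nat.card (P : Subgroup G) + 4 * Nat.card C := by
    have hcard : ∀ H : Subgroup G, H ≤ (P : Subgroup G) →
        Nat.card H = ∑ x : (P : Subgroup G), if (x : G) ∈ H then 1 else 0 := by
      intro H hH
      rw [Finset.sum_boole, Nat.cast_id, ← Nat.card_congr (Subgroup.subgroupOfEquivOfLe hH).toEquiv]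
      exact (Nat.card_eq_fintype_card).trans (Fintype.card_subtype _)
    rw [hcard T hT, hcard C (inf_le_left.trans hT), Nat.card_eq_fintype_card, ← Finset.card_univ, Finset.card_eq_sum_ones,
      Finset.mul_sum, Finset.mul_sum, ← Finset.sum_add_distrib, ← Finset.sum_add_distrib]
    refine Finset.sum_congr rfl fun x _ => ?_
    simp only [w]
    split_ifs with h1 h2 h2 <;> first | rfl | exact absurd h1.1 h2
  have hge : 6 * Nat.card {c : ConjClasses G // ∀ x ∈ c.carrier, ∃ k : ℕ, orderOf x = 2 ^ k} ≤ ∑ x, w x := by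
    rw [← Finset.sum_fiberwise Finset.univ (clsMap P) w]
    have := Finset.card_nsmul_le_sum Finset.univ
      (fun c => ∑ x ∈ Finset.univ.filter (fun x => clsMap P x = c), w x) 6 (fun c _ => hfib c)
    rw [Finset.card_univ, ← Nat.card_eq_fintype_card, smul_eq_mul, mul_comm] at this
    exact this
  omega

/-- Let G be a finite group with Sylow 2-subgroup P, and write k₂(G) for the number of conjugacy classes of G consisting of 2-elements (elements of 2-power order, the identity included). Then k₂(G) > |P|/2 if and only if G has a normal 2-complement and P has more than |P|/2 conjugacy classes. -/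
theorem result {G : Type*} [Group G] [Finite G] (P : Sylow 2 G) :
    Nat.card ↥(P : Subgroup G) < 2 * Nat.card {c : ConjClasses G // ∀ x ∈ c.carrier, ∃ k : ℕ, orderOf x = 2 ^ k} ↔
      Cfsg.HasNormalPComplement 2 G ∧ Nat.card ↥(P : Subgroup G) < 2 * Nat.card (ConjClasses ↥(P : Subgroup G)) := by
  haveI : Fact (Nat.Prime 2) := ⟨Nat.prime_two⟩
  -- classes of `P` map onto the classes of `2`-elements
  let F : ConjClasses (P : Subgroup G) → {c : ConjClasses G // ∀ x ∈ c.carrier, ∃ k : ℕ, orderOf x = 2 ^ k} :=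
    Quotient.lift (clsMap P) fun a b hab => Subtype.ext (ConjClasses.mk_eq_mk_iff_isConj.mpr
      (MonoidHom.map_isConj (P : Subgroup G).subtype hab))
  have hF : Function.Surjective F := fun c => by
    obtain ⟨x, rfl⟩ := clsMap_surjective P c
    exact ⟨ConjClasses.mk x, rfl⟩
  have hle := Nat.card_le_card_of_surjective F hF
  constructor
  · intro h
    refine ⟨?_, by omega⟩
    by_contra hno
    apply hno
    refine TransferAlperin.hasNormalPComplement_of_local P fun T hT _ hcen _ g hg hcop => ?_
    by_contra hne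
    have := two_mul_card_le P T hT hcen g hg hcop hne
    omega
  · rintro ⟨hK, h⟩
    obtain ⟨K, hKn, hKc⟩ := (TransferPResidual.hasNormalPComplement_iff_exists P).mp hK
    haveI := hKn
    have hinj : Function.Injective ((QuotientGroup.mk' K).comp (P : Subgroup G).subtype) := by
      rw [← MonoidHom.ker_eq_bot_iff, eq_bot_iff]
      intro x hx
      have h1 : (x : G) ∈ K ⊓ (P : Subgroup G) := ⟨(QuotientGroup.eq_one_iff _).mp hx, x.2⟩
      rw [disjoint_iff.mp hKc.disjoint, Subgroup.mem_bot] at h1
      exact Subgroup.mem_bot.mpr (Subtype.ext h1)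
    have hsur : ∀ g : G, ∃ x : (P : Subgroup G), (QuotientGroup.mk' K) (x : G) = QuotientGroup.mk' K g := by
      intro g
      obtain ⟨⟨a, b⟩, hab⟩ := hKc.2 g
      refine ⟨⟨b, b.2⟩, ?_⟩
      have hg : (a : G) * (b : G) = g := hab
      rw [← hg, map_mul, show QuotientGroup.mk' K (a : G) = 1 from (QuotientGroup.eq_one_iff _).mpr a.2, one_mul]
    have hFi : Function.Injective F := by
      intro c d hcd
      obtain ⟨a, rfl⟩ := ConjClasses.mk_surjective c
      obtain ⟨b, rfl⟩ := ConjClasses.mk_surjective d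
      have h1 : ConjClasses.mk (a : G) = ConjClasses.mk (b : G) := congrArg Subtype.val hcd
      obtain ⟨g, hg⟩ := isConj_iff.mp (ConjClasses.mk_eq_mk_iff_isConj.mp h1)
      obtain ⟨u, hu⟩ := hsur g
      refine ConjClasses.mk_eq_mk_iff_isConj.mpr (isConj_iff.mpr ⟨u, hinj ?_⟩)
      show QuotientGroup.mk' K ((u : G) * a * (u : G)⁻¹) = QuotientGroup.mk' K (b : G)
      rw [map_mul, map_mul, map_inv, hu, ← map_inv, ← map_mul, ← map_mul, hg]
    have := Nat.card_congr (Equiv.ofBijective F ⟨hFi, hF⟩)
    omega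

end Cfsg.Agent.S3895
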