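import Mathlib
import Cfsg.Agent.Lib.CoprimeAction
import Cfsg.Agent.Lib.TransferPResidual
import Cfsg.Agent.S3895
import Cfsg.Statements.S3898
-- import your own Cfsg.Agent.* helpers here

set_option autoImplicit false
open Cfsg

namespace Cfsg.Agent.S3898

open scoped Pointwise

variable {G : Type*} [Group G] [Finite G]

/-- A `τ`-element. -/
abbrev IsPiEl (τ : Finset ℕ) {G : Type*} [Group G] (g : G) : Prop := ∀ r : ℕ, r.Prime → r ∣ orderOf g → r ∈ τ

/-- The classes of `τ`-elements. -/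
abbrev PiCls (τ : Finset ℕ) (G : Type*) [Group G] : Type _ := {c : ConjClasses G // ∀ x ∈ c.carrier, IsPiEl τ x}

/-- Classes of `(insert r τ)`-elements are controlled by the `r`-parts. -/
theorem card_insert_le (τ : Finset ℕ) (r : ℕ) (hr : r.Prime) (N : ℕ)
    (hN : ∀ C : Subgroup G, Nat.card (PiCls τ C) ≤ N) :
    Nat.card (PiCls (insert r τ) G) ≤ Nat.card (PiCls {r} G) * N := by
  classical
  haveI := Fact.mk hr
  -- decomposition of a representative
  have hdec : ∀ c : PiCls (insert r τ) G, ∃ (d : PiCls {r} G) (b : Subgroup.centralizer ({d.1.out} : Set G)),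
      IsPiEl τ b ∧ ConjClasses.mk (d.1.out * (b : G)) = c.1 := by
    rintro ⟨c, hc⟩
    obtain ⟨g, rfl⟩ := ConjClasses.mk_surjective c
    have hg := hc g ConjClasses.mem_carrier_mk
    have hn0 := (orderOf_pos g).ne'
    set a := (orderOf g).factorization r with ha
    set m := ordCompl[r] (orderOf g) with hm
    have hgcd : Nat.gcd m (r ^ a) = 1 := Nat.Coprime.pow_right a (Nat.coprime_comm.mp
      ((Nat.Prime.coprime_iff_not_dvd hr).mpr (Nat.not_dvd_ordCompl hr hn0)))
    have hbez := Nat.gcd_eq_gcd_ab m (r ^ a)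
    rw [hgcd] at hbez
    set u := (g ^ m) ^ Nat.gcdA m (r ^ a) with hu
    set v := (g ^ r ^ a) ^ Nat.gcdB m (r ^ a) with hv
    have huv : u * v = g := by
      rw [hu, hv, ← zpow_natCast g m, ← zpow_natCast g (r ^ a), ← zpow_mul, ← zpow_mul, ← zpow_add, ← hbez]
      simp
    have hcomm : Commute u v := ((Commute.refl g).pow_pow m (r ^ a)).zpow_zpow _ _
    have huo : orderOf u ∣ r ^ a := by
      refine (orderOf_dvd_of_mem_zpowers (zpow_mem (Subgroup.mem_zpowers _) _)).trans (orderOf_dvd_of_pow_eq_one ?_)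
      rw [← pow_mul, mul_comm, hm, ha, Nat.ordProj_mul_ordCompl_eq_self, pow_orderOf_eq_one]
    have hvo : orderOf v ∣ m := by
      refine (orderOf_dvd_of_mem_zpowers (zpow_mem (Subgroup.mem_zpowers _) _)).trans (orderOf_dvd_of_pow_eq_one ?_)
      rw [← pow_mul, hm, ha, Nat.ordProj_mul_ordCompl_eq_self, pow_orderOf_eq_one]
    have hd : ∀ x ∈ (ConjClasses.mk u).carrier, IsPiEl {r} x := by
      intro x hx s hs hsd
      obtain ⟨w, hw⟩ := isConj_iff.mp (ConjClasses.mk_eq_mk_iff_isConj.mp (ConjClasses.mem_carrier_iff_mk_eq.mp hx))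
      rw [← MulEquiv.orderOf_eq (MulAut.conj w) x, show (MulAut.conj w) x = u from hw] at hsd
      exact Finset.mem_singleton.mpr ((Nat.prime_dvd_prime_iff_eq hs hr).mp (hs.dvd_of_dvd_pow (hsd.trans huo)))
    obtain ⟨w, hw⟩ := isConj_iff.mp (ConjClasses.mk_eq_mk_iff_isConj.mp (Quotient.out_eq (ConjClasses.mk u)).symm)
    refine ⟨⟨ConjClasses.mk u, hd⟩, ⟨w * v * w⁻¹, ?_⟩, fun s hs hsd => ?_, ?_⟩
    · show w * v * w⁻¹ ∈ Subgroup.centralizer ({(ConjClasses.mk u).out} : Set G)
      rw [Subgroup.mem_centralizer_singleton_iff, ← hw]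
      calc w * v * w⁻¹ * (w * u * w⁻¹) = w * (v * u) * w⁻¹ := by group
        _ = w * (u * v) * w⁻¹ := by rw [hcomm.eq]
        _ = _ := by group
    · rw [← Subgroup.orderOf_coe] at hsd
      have hsd' : s ∣ orderOf v := by
        rwa [← MulEquiv.orderOf_eq (MulAut.conj w) v]
      have h1 : s ∣ orderOf g := hsd'.trans (hvo.trans (Nat.ordCompl_dvd _ r))
      rcases Finset.mem_insert.mp (hg s hs h1) with rfl | h2
      · exact absurd (hsd'.trans hvo) (Nat.not_dvd_ordCompl hr hn0)
      · exact h2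
    · refine ConjClasses.mk_eq_mk_iff_isConj.mpr (isConj_iff.mpr ⟨w⁻¹, ?_⟩)
      show w⁻¹ * ((ConjClasses.mk u).out * (w * v * w⁻¹)) * w⁻¹⁻¹ = g
      rw [← hw, ← huv]
      group
  choose D B hB hDB using hdec
  let F : PiCls (insert r τ) G → (Σ d : PiCls {r} G, PiCls τ (Subgroup.centralizer ({d.1.out} : Set G))) := fun c =>
    ⟨D c, ⟨ConjClasses.mk (B c), fun x hx s hs hsd => by
      obtain ⟨w, hw⟩ := isConj_iff.mp (ConjClasses.mk_eq_mk_iff_isConj.mp (ConjClasses.mem_carrier_iff_mk_eq.mp hx))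
      rw [← MulEquiv.orderOf_eq (MulAut.conj w) x, show (MulAut.conj w) x = B c from hw] at hsd
      exact hB c s hs hsd⟩⟩
  have hinv : ∀ (c : PiCls (insert r τ) G) (d : PiCls {r} G)
      (b : Subgroup.centralizer ({d.1.out} : Set G)) (hb : ∀ x ∈ (ConjClasses.mk b).carrier, IsPiEl τ x),
      F c = ⟨d, ⟨ConjClasses.mk b, hb⟩⟩ → c.1 = ConjClasses.mk (d.1.out * (b : G)) := by
    intro c d b hb h
    obtain ⟨h1, h2⟩ := Sigma.mk.inj_iff.mp h
    subst h1
    have h3 : ConjClasses.mk (B c) = ConjClasses.mk b := congrArg Subtype.val (eq_of_heq h2)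
    obtain ⟨w, hw⟩ := isConj_iff.mp (ConjClasses.mk_eq_mk_iff_isConj.mp h3)
    rw [← hDB c]
    refine ConjClasses.mk_eq_mk_iff_isConj.mpr (isConj_iff.mpr ⟨(w : G), ?_⟩)
    have hw' : (w : G) * (B c : G) * (w : G)⁻¹ = (b : G) := congrArg Subtype.val hw
    rw [← hw', ← mul_assoc, Subgroup.mem_centralizer_singleton_iff.mp w.2]
    group
  have hF : Function.Injective F := fun c c' h => Subtype.ext ((hinv c (D c') (B c') _ h).trans (hDB c'))
  haveI : Fintype (PiCls {r} G) := Fintype.ofFinite _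
  refine (Nat.card_le_card_of_injective F hF).trans ?_
  rw [Nat.card_sigma]
  refine (Finset.sum_le_card_nsmul _ _ N fun d _ => hN _).trans (le_of_eq ?_)
  rw [Finset.card_univ, smul_eq_mul, Nat.card_eq_fintype_card]

/-- The class map on a Sylow subgroup. -/
theorem exists_surjective (r : ℕ) [Fact r.Prime] (R : Sylow r G) :
    ∃ f : ↥(R : Subgroup G) → PiCls {r} G, Function.Surjective f ∧ ∀ x, (f x).1 = ConjClasses.mk (x : G) := by
  have hr : r.Prime := Fact.out
  have hmem : ∀ x : ↥(R : Subgroup G), ∀ y ∈ (ConjClasses.mk (x : G)).carrier, IsPiEl {r} y := by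
    intro x y hy s hs hsd
    obtain ⟨w, hw⟩ := isConj_iff.mp (ConjClasses.mk_eq_mk_iff_isConj.mp (ConjClasses.mem_carrier_iff_mk_eq.mp hy))
    rw [← MulEquiv.orderOf_eq (MulAut.conj w) y, show (MulAut.conj w) y = (x : G) from hw, Subgroup.orderOf_coe] at hsd
    obtain ⟨k, hk⟩ := IsPGroup.iff_orderOf.mp R.isPGroup' x
    exact Finset.mem_singleton.mpr ((Nat.prime_dvd_prime_iff_eq hs hr).mp (hs.dvd_of_dvd_pow (hk ▸ hsd)))
  refine ⟨fun x => ⟨_, hmem x⟩, ?_, fun x => rfl⟩
  rintro ⟨c, hc⟩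
  obtain ⟨g, rfl⟩ := ConjClasses.mk_surjective c
  have hg := hc g ConjClasses.mem_carrier_mk
  obtain ⟨T, hT⟩ := (IsPGroup.of_card (p := r) (by
    rw [Nat.card_zpowers]
    exact Nat.eq_prime_pow_of_unique_prime_dvd (orderOf_pos g).ne' (fun {d} hd hdd => Finset.mem_singleton.mp (hg d hd hdd))) :
    IsPGroup r (Subgroup.zpowers g)).exists_le_sylow
  obtain ⟨w, hw⟩ := MulAction.exists_smul_eq G T R
  refine ⟨⟨w * g * w⁻¹, by rw [← hw]; exact ⟨g, hT (Subgroup.mem_zpowers g), rfl⟩⟩, Subtype.ext ?_⟩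
  exact (ConjClasses.mk_eq_mk_iff_isConj.mpr (isConj_iff.mpr ⟨w, rfl⟩)).symm

/-- There are at most `|G|_τ` classes of `τ`-elements. -/
theorem card_le : ∀ (τ : Finset ℕ), (∀ r ∈ τ, r.Prime) → ∀ (G : Type*) [Group G] [Finite G],
    Nat.card (PiCls τ G) ≤ τ.prod (fun r => r ^ (Nat.card G).factorization r) := by
  intro τ
  induction τ using Finset.induction_on with
  | empty =>
    intro _ G _ _
    rw [Finset.prod_empty, Finite.card_le_one_iff_subsingleton]
    refine ⟨fun ⟨c, hc⟩ ⟨d, hd⟩ => Subtype.ext ?_⟩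
    have key : ∀ e : ConjClasses G, (∀ x ∈ e.carrier, IsPiEl ∅ x) → e = ConjClasses.mk 1 := by
      intro e he
      obtain ⟨g, rfl⟩ := ConjClasses.mk_surjective e
      have h1 : g = 1 := by
        rw [← orderOf_eq_one_iff, Nat.eq_one_iff_not_exists_prime_dvd]
        exact fun s hs hsd => Finset.notMem_empty s (he g ConjClasses.mem_carrier_mk s hs hsd)
      rw [h1]
    show c = d
    rw [key c hc, key d hd]
  | @insert r τ hr ih =>
    intro hp G _ _
    haveI := Fact.mk (hp r (Finset.mem_insert_self r τ))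
    have hτ : ∀ s ∈ τ, s.Prime := fun s hs => hp s (Finset.mem_insert_of_mem hs)
    refine (card_insert_le τ r Fact.out (τ.prod fun s => s ^ (Nat.card G).factorization s) fun C => ?_).trans ?_
    · refine (ih hτ C).trans (Finset.prod_le_prod (fun s _ => Nat.zero_le _) fun s hs => ?_)
      exact Nat.pow_le_pow_right (hτ s hs).pos
        ((Nat.factorization_le_iff_dvd Nat.card_pos.ne' Nat.card_pos.ne').mpr (Subgroup.card_subgroup_dvd_card C) s)
    · rw [Finset.prod_insert hr]
      refine Nat.mul_le_mul_right _ ?_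
      obtain ⟨R⟩ : Nonempty (Sylow r G) := inferInstance
      obtain ⟨f, hf, -⟩ := exists_surjective r R
      exact (Nat.card_le_card_of_surjective f hf).trans R.card_eq_multiplicity.le

/-- Few `r`-classes when fusion moves most of a Sylow subgroup. -/
theorem two_mul_card_le (r : ℕ) [Fact r.Prime] (R : Sylow r G) (C : Subgroup G) (hC : C ≤ (R : Subgroup G))
    (h4 : 4 * Nat.card C ≤ Nat.card (R : Subgroup G))
    (hmove : ∀ x ∈ (R : Subgroup G), x ∉ C → ∃ g ∈ Subgroup.normalizer ((R : Subgroup G) : Set G),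
      Odd (orderOf g) ∧ ¬ Commute g x) :
    2 * Nat.card (PiCls {r} G) ≤ Nat.card (R : Subgroup G) := by
  classical
  haveI := Fintype.ofFinite (R : Subgroup G)
  haveI := Fintype.ofFinite (PiCls {r} G)
  obtain ⟨f, hf, hfval⟩ := exists_surjective r R
  let w : ↥(R : Subgroup G) → ℕ := fun x => if (x : G) ∈ C then 6 else 2
  have hfib : ∀ c, 6 ≤ ∑ x ∈ Finset.univ.filter (fun x => f x = c), w x := by
    intro c
    obtain ⟨x, rfl⟩ := hf c
    by_cases hxC : (x : G) ∈ C
    · refine le_trans (le_of_eq ?_) (Finset.single_le_sum (f := w) (fun _ _ => Nat.zero_le _)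
        (Finset.mem_filter.mpr ⟨Finset.mem_univ x, rfl⟩))
      simp [w, hxC]
    obtain ⟨g, hg, hodd, hnc⟩ := hmove x x.2 hxC
    have hxg := (Subgroup.mem_normalizer_iff.mp hg _).mp x.2
    have hxg2 := (Subgroup.mem_normalizer_iff.mp hg _).mp hxg
    set y1 : ↥(R : Subgroup G) := ⟨_, hxg⟩ with hy1
    set y2 : ↥(R : Subgroup G) := ⟨_, hxg2⟩ with hy2
    have e1 : f y1 = f x := Subtype.ext (by
      rw [hfval, hfval]
      exact ConjClasses.mk_eq_mk_iff_isConj.mpr (isConj_iff.mpr ⟨g⁻¹, by simp [hy1, mul_assoc]⟩))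
    have e2 : f y2 = f x := by
      rw [← e1]
      refine Subtype.ext ?_
      rw [hfval, hfval]
      exact ConjClasses.mk_eq_mk_iff_isConj.mpr (isConj_iff.mpr ⟨g⁻¹, by simp [hy1, hy2, mul_assoc]⟩)
    have d1 : y1 ≠ x := fun e => hnc (by
      have h1 : g * (x : G) * g⁻¹ = x := congrArg Subtype.val e
      exact mul_inv_eq_iff_eq_mul.mp h1)
    have d2 : y2 ≠ y1 := fun e => hnc (by
      have h1 : g * (g * (x : G) * g⁻¹) * g⁻¹ = g * (x : G) * g⁻¹ := congrArg Subtype.val e
      exact mul_inv_eq_iff_eq_mul.mp (mul_left_cancel (mul_right_cancel h1)))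
    have d3 : y2 ≠ x := fun e => hnc (by
      have h1 : g * (g * (x : G) * g⁻¹) * g⁻¹ = x := congrArg Subtype.val e
      have h2 : Commute (g ^ 2) (x : G) := by
        rw [Commute, SemiconjBy, ← mul_inv_eq_iff_eq_mul, pow_two]
        calc g * g * (x : G) * (g * g)⁻¹ = g * (g * (x : G) * g⁻¹) * g⁻¹ := by group
          _ = x := h1
      obtain ⟨m, hm⟩ := exists_pow_eq_self_of_coprime (x := g) (n := 2) (Nat.coprime_two_left.mpr hodd)
      rw [← hm]
      exact h2.pow_left m)
    have hwt : ∀ z ∈ ({x, y1, y2} : Finset ↥(R : Subgroup G)), 2 ≤ w z := by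
      intro z _
      simp only [w]
      split_ifs <;> omega
    have h3 := Finset.card_nsmul_le_sum _ w 2 hwt
    rw [Finset.card_insert_of_notMem (by simp [d1.symm, d3.symm]), Finset.card_pair d2.symm] at h3
    refine h3.trans (Finset.sum_le_sum_of_subset fun z hz => ?_)
    simp only [Finset.mem_insert, Finset.mem_singleton] at hz
    rcases hz with rfl | rfl | rfl <;> simp [e1, e2]
  have htot : ∑ x, w x = 2 * Nat.card (R : Subgroup G) + 4 * Nat.card C := by
    have hcard : Nat.card C = ∑ x : ↥(R : Subgroup G), if (x : G) ∈ C then 1 else 0 := by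
      rw [Finset.sum_boole, Nat.cast_id, ← Nat.card_congr (Subgroup.subgroupOfEquivOfLe hC).toEquiv]
      exact (Nat.card_eq_fintype_card).trans (Fintype.card_subtype _)
    rw [hcard, Nat.card_eq_fintype_card, ← Finset.card_univ, Finset.card_eq_sum_ones, Finset.mul_sum, Finset.mul_sum,
      ← Finset.sum_add_distrib]
    refine Finset.sum_congr rfl fun x _ => ?_
    simp only [w]
    split_ifs <;> rfl
  have hge : 6 * Nat.card (PiCls {r} G) ≤ ∑ x, w x := by
    rw [← Finset.sum_fiberwise Finset.univ f w]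
    have := Finset.card_nsmul_le_sum Finset.univ
      (fun c => ∑ x ∈ Finset.univ.filter (fun x => f x = c), w x) 6 (fun c _ => hfib c)
    rw [Finset.card_univ, ← Nat.card_eq_fintype_card, smul_eq_mul, mul_comm] at this
    exact this
  omega

/-- For odd `r`, many `r`-classes force an abelian Sylow subgroup centralised by its odd normaliser. -/
theorem odd_prime_structure (r : ℕ) [Fact r.Prime] (hr2 : r ≠ 2) (R : Sylow r G)
    (h : Nat.card (R : Subgroup G) < 2 * Nat.card (PiCls {r} G)) :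
    ∀ g ∈ Subgroup.normalizer ((R : Subgroup G) : Set G), Odd (orderOf g) →
      g ∈ Subgroup.centralizer ((R : Subgroup G) : Set G) := by
  have hr : r.Prime := Fact.out
  have hr3 : 3 ≤ r := by have := hr.two_le; omega
  have hodd : ∀ x ∈ (R : Subgroup G), Odd (orderOf x) := by
    intro x hx
    obtain ⟨k, hk⟩ := IsPGroup.iff_orderOf.mp R.isPGroup' ⟨x, hx⟩
    rw [← Subgroup.orderOf_coe] at hk
    rw [show orderOf x = r ^ k from hk]
    exact (hr.odd_of_ne_two hr2).pow
  -- `R` is abelian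
  have hab : ∀ a ∈ (R : Subgroup G), ∀ b ∈ (R : Subgroup G), a * b = b * a := by
    by_contra hnab
    set C := (R : Subgroup G) ⊓ Subgroup.centralizer ((R : Subgroup G) : Set G) with hC
    have := two_mul_card_le r R C inf_le_left ?_ ?_
    · omega
    · have h0 := Subgroup.relIndex_mul_relIndex ⊥ C (R : Subgroup G) bot_le inf_le_left
      rw [Subgroup.relIndex_bot_left, Subgroup.relIndex_bot_left] at h0
      obtain ⟨j, hj⟩ := R.isPGroup'.index (C.subgroupOf (R : Subgroup G))
      change C.relIndex (R : Subgroup G) = r ^ j at hj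
      rw [hj] at h0
      rcases Nat.lt_or_ge j 2 with hj2 | hj2
      · exfalso
        apply hnab
        have hcyc : IsCyclic (↥(R : Subgroup G) ⧸ Subgroup.center ↥(R : Subgroup G)) := by
          have hidx : (Subgroup.center ↥(R : Subgroup G)).index = r ^ j := by
            rw [← hj]
            congr 1
            ext v
            rw [Subgroup.mem_center_iff, Subgroup.mem_subgroupOf]
            exact ⟨fun hv => ⟨v.2, Subgroup.mem_centralizer_iff.mpr fun b hb => congrArg Subtype.val (hv ⟨b, hb⟩)⟩,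
              fun hv b => Subtype.ext (Subgroup.mem_centralizer_iff.mp hv.2 b b.2)⟩
          rw [Subgroup.index_eq_card] at hidx
          interval_cases j
          · haveI : Subsingleton (↥(R : Subgroup G) ⧸ Subgroup.center ↥(R : Subgroup G)) :=
              (Nat.card_eq_one_iff_unique.mp (by simpa using hidx)).1
            infer_instance
          · exact isCyclic_of_prime_card (p := r) (by simpa using hidx)
        have hcomm := MonoidHom.isMulCommutative_of_isCyclic_of_ker_le_center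
          (QuotientGroup.mk' (Subgroup.center ↥(R : Subgroup G))) (QuotientGroup.ker_mk' _).le
        exact fun a ha b hb => congrArg Subtype.val (hcomm.is_comm.comm ⟨a, ha⟩ ⟨b, hb⟩)
      · calc 4 * Nat.card C ≤ r ^ 2 * Nat.card C := Nat.mul_le_mul_right _ (by nlinarith)
          _ ≤ r ^ j * Nat.card C := Nat.mul_le_mul_right _ (Nat.pow_le_pow_right hr.pos hj2)
          _ = Nat.card (R : Subgroup G) := by rw [mul_comm]; exact h0
    · intro x hx hxC
      by_contra hh
      push Not at hh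
      exact hxC ⟨hx, Subgroup.mem_centralizer_iff.mpr fun b hb => (hh b (Subgroup.le_normalizer hb) (hodd b hb)).eq⟩
  intro g0 hg0 hg0odd
  have hn0 := (orderOf_pos g0).ne'
  -- it suffices to treat elements of order prime to `r`
  suffices key : ∀ g ∈ Subgroup.normalizer ((R : Subgroup G) : Set G), Odd (orderOf g) → (orderOf g).Coprime r →
      g ∈ Subgroup.centralizer ((R : Subgroup G) : Set G) by
    set a := (orderOf g0).factorization r with ha
    set m := ordCompl[r] (orderOf g0) with hm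
    have hgcd : Nat.gcd m (r ^ a) = 1 := Nat.Coprime.pow_right a (Nat.coprime_comm.mp
      ((Nat.Prime.coprime_iff_not_dvd hr).mpr (Nat.not_dvd_ordCompl hr hn0)))
    have hbez := Nat.gcd_eq_gcd_ab m (r ^ a)
    rw [hgcd] at hbez
    have hg1 : g0 ^ m ∈ (R : Subgroup G) := by
      obtain ⟨j, -, hj⟩ := (Nat.dvd_prime_pow hr).mp (orderOf_dvd_of_pow_eq_one (x := g0 ^ m) (n := r ^ a) (by
        rw [← pow_mul, mul_comm, hm, ha, Nat.ordProj_mul_ordCompl_eq_self, pow_orderOf_eq_one]))
      have hP : IsPGroup r (Subgroup.zpowers (g0 ^ m)) := IsPGroup.of_card (n := j) (by rw [Nat.card_zpowers, hj])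
      have hle : Subgroup.zpowers (g0 ^ m) ≤ Subgroup.normalizer ((R : Subgroup G) : Set G) :=
        (Subgroup.zpowers_le).mpr (pow_mem hg0 m)
      exact inf_eq_left.mp (((hP.inf_normalizer_sylow R).symm).trans (inf_eq_left.mpr hle)) (Subgroup.mem_zpowers _)
    have hg1c : g0 ^ m ∈ Subgroup.centralizer ((R : Subgroup G) : Set G) :=
      Subgroup.mem_centralizer_iff.mpr fun b hb => hab b hb _ hg1
    have hdv : orderOf (g0 ^ r ^ a) ∣ m := orderOf_dvd_of_pow_eq_one (by
      rw [← pow_mul, hm, ha, Nat.ordProj_mul_ordCompl_eq_self, pow_orderOf_eq_one])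
    have hg2c := key _ (pow_mem hg0 (r ^ a)) (hg0odd.of_dvd_nat (hdv.trans (Nat.ordCompl_dvd _ r)))
      (Nat.Coprime.coprime_dvd_left hdv (Nat.coprime_comm.mp ((Nat.Prime.coprime_iff_not_dvd hr).mpr (Nat.not_dvd_ordCompl hr hn0))))
    have h1 : (g0 ^ m) ^ Nat.gcdA m (r ^ a) * (g0 ^ r ^ a) ^ Nat.gcdB m (r ^ a) = g0 := by
      rw [← zpow_natCast g0 m, ← zpow_natCast g0 (r ^ a), ← zpow_mul, ← zpow_mul, ← zpow_add, ← hbez]
      simp
    rw [← h1]
    exact mul_mem (zpow_mem hg1c _) (zpow_mem hg2c _)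
  intro g hg hgodd hgcop
  by_contra hne
  set C := (R : Subgroup G) ⊓ Subgroup.centralizer ({g} : Set G) with hC
  have := two_mul_card_le r R C inf_le_left ?_ ?_
  · omega
  · have h0 := Subgroup.relIndex_mul_relIndex ⊥ C (R : Subgroup G) bot_le inf_le_left
    rw [Subgroup.relIndex_bot_left, Subgroup.relIndex_bot_left] at h0
    obtain ⟨j, hj⟩ := R.isPGroup'.index (C.subgroupOf (R : Subgroup G))
    change C.relIndex (R : Subgroup G) = r ^ j at hj
    rw [hj] at h0
    by_cases h4 : 4 ≤ r ^ j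
    · calc 4 * Nat.card C ≤ r ^ j * Nat.card C := Nat.mul_le_mul_right _ h4
        _ = Nat.card (R : Subgroup G) := by rw [mul_comm]; exact h0
    exfalso
    apply hne
    rw [Subgroup.mem_centralizer_iff]
    intro t ht
    by_cases htC : t ∈ C
    · exact Subgroup.mem_centralizer_singleton_iff.mp htC.2
    exfalso
    have hj1 : r ^ j = 3 := by
      rcases j with _ | j
      · exact absurd (Subgroup.relIndex_eq_one.mp (by simpa using hj) ht) htC
      · have h2 : r ≤ r ^ (j + 1) := Nat.le_self_pow (Nat.succ_ne_zero j) r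
        omega
    haveI : IsMulCommutative ↥(R : Subgroup G) := ⟨⟨fun a b => Subtype.ext (hab a a.2 b b.2)⟩⟩
    haveI : (C.subgroupOf (R : Subgroup G)).Normal := ⟨fun v hv u => by
      rw [show u * v = v * u from Subtype.ext (hab u u.2 v v.2), mul_inv_cancel_right]; exact hv⟩
    have hQ : Nat.card (↥(R : Subgroup G) ⧸ C.subgroupOf (R : Subgroup G)) = 3 := by
      rw [← Subgroup.index_eq_card]; exact hj.trans hj1
    have hgt := (Subgroup.mem_normalizer_iff.mp hg t).mp ht
    have hg2t := (Subgroup.mem_normalizer_iff.mp hg _).mp hgt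
    set qt : ↥(R : Subgroup G) ⧸ C.subgroupOf (R : Subgroup G) := QuotientGroup.mk ⟨t, ht⟩ with hqt
    set qgt : ↥(R : Subgroup G) ⧸ C.subgroupOf (R : Subgroup G) := QuotientGroup.mk ⟨g * t * g⁻¹, hgt⟩ with hqgt
    have hqt1 : qt ≠ 1 := fun e => htC (Subgroup.mem_subgroupOf.mp ((QuotientGroup.eq_one_iff _).mp e))
    haveI : Fact (Nat.Prime 3) := ⟨Nat.prime_three⟩
    have htop := zpowers_eq_top_of_prime_card hQ hqt1
    obtain ⟨e, he⟩ := mem_powers_iff_mem_zpowers.mpr (htop ▸ Subgroup.mem_top qgt)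
    have he' : qt ^ e = qgt := he
    have hmem : (⟨t, ht⟩ : ↥(R : Subgroup G))⁻¹ ^ e * ⟨g * t * g⁻¹, hgt⟩ ∈ C.subgroupOf (R : Subgroup G) := by
      rw [← QuotientGroup.eq_one_iff, QuotientGroup.mk_mul, QuotientGroup.mk_pow, QuotientGroup.mk_inv, inv_pow,
        ← hqt, ← hqgt, he', inv_mul_cancel]
    have hc1 : (t⁻¹) ^ e * (g * t * g⁻¹) ∈ C := hmem
    set c1 := (t⁻¹) ^ e * (g * t * g⁻¹) with hc1d
    have hgtv : g * t * g⁻¹ = t ^ e * c1 := by rw [hc1d, inv_pow, mul_inv_cancel_left]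
    have hgc : g * c1 * g⁻¹ = c1 := by
      rw [← Subgroup.mem_centralizer_singleton_iff.mp hc1.2, mul_inv_cancel_right]
    have he3 : ¬ 3 ∣ e := by
      rintro ⟨e', rfl⟩
      have hqgt1 : qgt = 1 := by
        rw [← he', pow_mul, ← hQ, pow_card_eq_one', one_pow]
      apply htC
      have hgtC : g * t * g⁻¹ ∈ C := Subgroup.mem_subgroupOf.mp ((QuotientGroup.eq_one_iff _).mp hqgt1)
      refine ⟨ht, Subgroup.mem_centralizer_singleton_iff.mpr ?_⟩
      have h5 := Subgroup.mem_centralizer_singleton_iff.mp hgtC.2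
      rw [inv_mul_cancel_right, mul_assoc g t g⁻¹] at h5
      exact (mul_inv_eq_iff_eq_mul.mp (show g * t * g⁻¹ = t from (mul_assoc g t g⁻¹).trans (mul_left_cancel h5).symm)).symm
    have hg2 : g ^ 2 * t * (g ^ 2)⁻¹ * t⁻¹ ∈ C := by
      have hfix : g ^ 2 * t * (g ^ 2)⁻¹ = t ^ (e * e) * c1 ^ (e + 1) := by
        calc g ^ 2 * t * (g ^ 2)⁻¹ = g * (g * t * g⁻¹) * g⁻¹ := by rw [pow_two]; group
          _ = g * (t ^ e * c1) * g⁻¹ := by rw [hgtv]
          _ = (g * t * g⁻¹) ^ e * (g * c1 * g⁻¹) := by rw [conj_pow]; group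
          _ = (t ^ e * c1) ^ e * c1 := by rw [hgtv, hgc]
          _ = t ^ (e * e) * c1 ^ (e + 1) := by
            rw [Commute.mul_pow (hab _ (pow_mem ht e) _ hc1.1), ← pow_mul, pow_succ, mul_assoc]
      rw [hfix]
      have hee : e * e % 3 = 1 := by
        have : e % 3 = 1 ∨ e % 3 = 2 := by omega
        rcases this with h' | h' <;> simp [Nat.mul_mod, h']
      have hsplit : t ^ (e * e) = (t ^ 3) ^ (e * e / 3) * t := by
        rw [← pow_mul, ← pow_succ]
        congr 1
        omega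
      have ht3 : t ^ 3 ∈ C := by
        have hm : (⟨t, ht⟩ : ↥(R : Subgroup G)) ^ 3 ∈ C.subgroupOf (R : Subgroup G) := by
          rw [← QuotientGroup.eq_one_iff, QuotientGroup.mk_pow, ← hQ, pow_card_eq_one']
        exact hm
      rw [hsplit, mul_assoc ((t ^ 3) ^ (e * e / 3)) t, hab t ht _ (pow_mem hc1.1 _), ← mul_assoc, mul_inv_cancel_right]
      exact mul_mem (pow_mem ht3 _) (pow_mem hc1 _)
    have hg2C : g ^ 2 ∈ Subgroup.normalizer (C : Set G) := by
      refine pow_mem ?_ 2
      rw [Subgroup.mem_normalizer_iff]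
      intro x
      constructor
      · intro hx
        rwa [show g * x * g⁻¹ = x by rw [← Subgroup.mem_centralizer_singleton_iff.mp hx.2, mul_inv_cancel_right]]
      · intro hx
        have h1 : g * (g * x * g⁻¹) = (g * x * g⁻¹) * g := (Subgroup.mem_centralizer_singleton_iff.mp hx.2).symm
        rw [inv_mul_cancel_right] at h1
        rwa [mul_left_cancel h1] at hx
    obtain ⟨jC, hjC⟩ := IsPGroup.iff_card.mp (R.isPGroup'.to_le (inf_le_left : C ≤ (R : Subgroup G)))
    obtain ⟨c, hc, hct⟩ := CoprimeAction.exists_fixed_mem_coset_zpowers hg2C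
      (by rw [hjC]; exact (Nat.Coprime.coprime_dvd_left (orderOf_pow_dvd 2) hgcop).pow_right jC) t (by
        have : t⁻¹ * g ^ 2 * t * (g ^ 2)⁻¹ = g ^ 2 * t * (g ^ 2)⁻¹ * t⁻¹ := by
          rw [hab (g ^ 2 * t * (g ^ 2)⁻¹) ((Subgroup.mem_normalizer_iff.mp (pow_mem hg 2) t).mp ht) t⁻¹ (inv_mem ht)]
          group
        rw [this]
        exact hg2)
    have hcR : c ∈ (R : Subgroup G) := by simpa using mul_mem ht hct.1
    have hcg : Commute g c := by
      obtain ⟨m, hm⟩ := exists_pow_eq_self_of_coprime (x := g) (n := 2) (Nat.coprime_two_left.mpr hgodd)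
      rw [← hm]
      exact Commute.pow_left hc m
    have hcC : c ∈ C := ⟨hcR, Subgroup.mem_centralizer_singleton_iff.mpr hcg.eq.symm⟩
    exact htC (by simpa using mul_mem hcC (inv_mem hct))
  · intro x hx hxC
    exact ⟨g, hg, hgodd, fun hc => hxC ⟨hx, Subgroup.mem_centralizer_singleton_iff.mpr hc.eq.symm⟩⟩

/-- Let π be a finite set of primes containing 2 and G a finite group. Write k_π(G) for the number of conjugacy classes of G consisting of π-elements (elements all of whose order's prime divisors lie in π) and |G|_π for the π-part of the order of G. If k_π(G) > |G|_π/2, then G has a normal π-complement (a normal subgroup of order prime to π whose index is a π-number) and an abelian Hall subgroup for the set of odd primes in π. -/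
theorem result {G : Type*} [Group G] [Finite G] (π : Finset ℕ) (hπ : ∀ r ∈ π, r.Prime) (h2 : 2 ∈ π)
    (hk : π.prod (fun r => r ^ (Nat.card G).factorization r) < 2 * Nat.card {c : ConjClasses G // ∀ x ∈ c.carrier, ∀ r : ℕ, r.Prime → r ∣ orderOf x → r ∈ π}) :
    (∃ N : Subgroup G, N.Normal ∧ (∀ r : ℕ, r.Prime → r ∣ Nat.card ↥N → r ∉ π) ∧ ∀ r : ℕ, r.Prime → r ∣ N.index → r ∈ π) ∧ ∃ H : Subgroup G, Cfsg.IsPiHall ((↑π : Set ℕ) \ {2}) H ∧ IsMulCommutative ↥H := by
  classical
  haveI : Fact (Nat.Prime 2) := ⟨Nat.prime_two⟩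
  -- every prime has many classes
  have hbig : ∀ (r : ℕ) (_ : r ∈ π) (R : Subgroup G), Nat.card R = r ^ (Nat.card G).factorization r →
      Nat.card R < 2 * Nat.card (PiCls {r} G) := by
    intro r hr R hR
    by_contra hle
    push Not at hle
    have h1 := card_insert_le (π.erase r) r (hπ r hr) ((π.erase r).prod fun s => s ^ (Nat.card G).factorization s)
      fun C => (card_le (π.erase r) (fun s hs => hπ s (Finset.mem_of_mem_erase hs)) C).trans
        (Finset.prod_le_prod (fun s _ => Nat.zero_le _) fun s hs =>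
          Nat.pow_le_pow_right (hπ s (Finset.mem_of_mem_erase hs)).pos
            ((Nat.factorization_le_iff_dvd Nat.card_pos.ne' Nat.card_pos.ne').mpr (Subgroup.card_subgroup_dvd_card C) s))
    rw [Finset.insert_erase hr] at h1
    rw [← Finset.mul_prod_erase π (fun s => s ^ (Nat.card G).factorization s) hr, ← hR] at hk
    have h2 := Nat.mul_le_mul_right ((π.erase r).prod fun s => s ^ (Nat.card G).factorization s) hle
    rw [mul_assoc] at h2
    have h3 : Nat.card {c : ConjClasses G // ∀ x ∈ c.carrier, ∀ s : ℕ, s.Prime → s ∣ orderOf x → s ∈ π} =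
        Nat.card (PiCls π G) := rfl
    omega
  -- a normal 2-complement
  obtain ⟨P⟩ : Nonempty (Sylow 2 G) := inferInstance
  have hK2 : Cfsg.HasNormalPComplement 2 G := by
    refine ((S3895.result P).mp ?_).1
    have h1 := hbig 2 h2 P P.card_eq_multiplicity
    refine lt_of_lt_of_le h1 (Nat.mul_le_mul_left 2 (le_of_eq ?_))
    refine Nat.card_congr (Equiv.subtypeEquivRight fun c => ⟨fun hc x hx => ?_, fun hc x hx s hs hsd => ?_⟩)
    · exact ⟨_, Nat.eq_prime_pow_of_unique_prime_dvd (orderOf_pos x).ne' fun {d} hd hdd =>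
        Finset.mem_singleton.mp (hc x hx d hd hdd)⟩
    · obtain ⟨k, hk⟩ := hc x hx
      rw [hk] at hsd
      exact Finset.mem_singleton.mpr ((Nat.prime_dvd_prime_iff_eq hs Nat.prime_two).mp (hs.dvd_of_dvd_pow hsd))
  obtain ⟨K, hKn, hKc⟩ := (TransferPResidual.hasNormalPComplement_iff_exists P).mp hK2
  haveI := hKn
  have hKindex : K.index = 2 ^ (Nat.card G).factorization 2 := by
    rw [hKc.symm.index_eq_card, P.card_eq_multiplicity]
  have hKodd : ¬ 2 ∣ Nat.card K := by
    rw [← hKc.index_eq_card]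
    exact P.not_dvd_index
  -- the transfers of the odd Sylow subgroups of `K`
  set σ := π.erase 2 with hσ
  have hσ' : ∀ r : σ, r.1.Prime ∧ r.1 ≠ 2 := fun r =>
    ⟨hπ _ (Finset.mem_of_mem_erase r.2), Finset.ne_of_mem_erase r.2⟩
  haveI hfact : ∀ r : σ, Fact r.1.Prime := fun r => ⟨(hσ' r).1⟩
  let RK : ∀ r : σ, Sylow r.1 K := fun r => Classical.arbitrary _
  have hNC : ∀ r : σ, Subgroup.normalizer ((RK r : Subgroup K) : Set K) ≤
      Subgroup.centralizer ((RK r : Subgroup K) : Set K) := by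
    intro r g hg
    have hcard : Nat.card ((RK r : Subgroup K).map K.subtype) = r.1 ^ (Nat.card G).factorization r.1 := by
      rw [CoprimeAction.card_map_sylow (RK r)]
      congr 1
      have h1 := K.card_mul_index
      rw [hKindex] at h1
      rw [← h1, Nat.factorization_mul Nat.card_pos.ne' (pow_ne_zero _ two_ne_zero), Finsupp.add_apply,
        Nat.Prime.factorization_pow Nat.prime_two, Finsupp.single_eq_of_ne (hσ' r).2, add_zero]
    let R : Sylow r.1 G := Sylow.ofCard _ hcard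
    have hgN : (g : G) ∈ Subgroup.normalizer (((RK r : Subgroup K).map K.subtype : Subgroup G) : Set G) := by
      rw [Subgroup.mem_normalizer_iff]
      intro v
      constructor
      · rintro ⟨v, hv, rfl⟩
        exact ⟨g * v * g⁻¹, (Subgroup.mem_normalizer_iff.mp hg v).mp hv, rfl⟩
      · rintro ⟨u, hu, hue⟩
        refine ⟨g⁻¹ * u * g, (Subgroup.mem_normalizer_iff''.mp hg u).mp hu, ?_⟩
        have hue' : (u : G) = (g : G) * v * (g : G)⁻¹ := hue
        show (g : G)⁻¹ * (u : G) * (g : G) = v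
        rw [hue']
        group
    have hgo : Odd (orderOf (g : G)) := by
      rw [Subgroup.orderOf_coe]
      exact Nat.not_even_iff_odd.mp fun he => hKodd ((even_iff_two_dvd.mp he).trans (orderOf_dvd_natCard g))
    have hc := odd_prime_structure r.1 (hσ' r).2 R
      (hbig r.1 (Finset.mem_of_mem_erase r.2) _ hcard) (g : G) hgN hgo
    refine Subgroup.mem_centralizer_iff.mpr fun v hv => Subtype.ext ?_
    exact Subgroup.mem_centralizer_iff.mp hc (v : G) (Subgroup.mem_map_of_mem K.subtype hv)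
  let φ : ∀ r : σ, ↥K →* ↥(RK r : Subgroup K) := fun r => MonoidHom.transferSylow (RK r) (hNC r)
  let ψ : ↥K →* (∀ r : σ, ↥(RK r : Subgroup K)) := MonoidHom.pi φ
  set L := ψ.ker with hL
  have hLmem : ∀ x : K, x ∈ L ↔ ∀ r : σ, φ r x = 1 := fun x => by
    rw [hL, MonoidHom.mem_ker, funext_iff]
    rfl
  have hL1 : ∀ r : σ, ¬ r.1 ∣ Nat.card L := fun r hd =>
    MonoidHom.not_dvd_card_ker_transferSylow (RK r) (hNC r)
      (hd.trans (Subgroup.card_dvd_of_le fun x hx => (hLmem x).mp hx r))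
  have hL2 : ∀ s : ℕ, s.Prime → s ∣ L.index → s ∈ σ := by
    intro s hs hsd
    rw [hL, Subgroup.index_ker] at hsd
    haveI : Fintype σ := Fintype.ofFinite _
    have h1 := hsd.trans (Subgroup.card_subgroup_dvd_card _)
    rw [Nat.card_pi] at h1
    obtain ⟨r, -, hr⟩ := (Nat.Prime.prime hs).exists_mem_finset_dvd h1
    rw [(RK r).card_eq_multiplicity] at hr
    rw [(Nat.prime_dvd_prime_iff_eq hs (hσ' r).1).mp (hs.dvd_of_dvd_pow hr)]
    exact r.2
  -- `L` is normal in `G`
  set LG := L.map K.subtype with hLG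
  have hLchar : ∀ (g : G) (x : K), x ∈ L → ∀ y : K, (y : G) = g * x * g⁻¹ → y ∈ L := by
    intro g x hx y hy
    rw [hLmem]
    intro r
    rw [← orderOf_eq_one_iff]
    have hxo : ¬ r.1 ∣ orderOf x := fun hd => hL1 r (hd.trans (Subgroup.orderOf_dvd_natCard L hx))
    have hyo : orderOf y = orderOf x := by
      rw [← Subgroup.orderOf_coe, hy, ← Subgroup.orderOf_coe x]
      exact MulEquiv.orderOf_eq (MulAut.conj g) (x : G)
    obtain ⟨k, hk⟩ := IsPGroup.iff_orderOf.mp (RK r).isPGroup' (φ r y)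
    have hd := orderOf_map_dvd (φ r) y
    rw [hk, hyo] at hd
    rw [hk]
    rcases k with _ | k
    · rfl
    · exact absurd ((dvd_pow_self r.1 (Nat.succ_ne_zero k)).trans hd) hxo
  have hLGn : LG.Normal := ⟨by
    rintro _ ⟨x, hx, rfl⟩ g
    exact ⟨⟨g * x * g⁻¹, hKn.conj_mem _ x.2 g⟩, hLchar g x hx _ rfl, rfl⟩⟩
  have hLcard : Nat.card LG = Nat.card L := Subgroup.card_map_of_injective K.subtype_injective
  have hLindex : LG.index = K.index * L.index := by
    rw [hLG, Subgroup.index_map_subtype, mul_comm]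
  have hLno : ∀ s : ℕ, s.Prime → s ∣ Nat.card L → s ∉ π := by
    intro s hs hsd hsπ
    by_cases h2' : s = 2
    · subst h2'
      exact hKodd (hsd.trans (Subgroup.card_subgroup_dvd_card L))
    · exact hL1 ⟨s, Finset.mem_erase.mpr ⟨h2', hsπ⟩⟩ hsd
  refine ⟨⟨LG, hLGn, fun s hs hsd => hLno s hs (hLcard ▸ hsd), fun s hs hsd => ?_⟩, ?_⟩
  · rw [hLindex] at hsd
    rcases (Nat.Prime.dvd_mul hs).mp hsd with hd | hd
    · rw [hKindex] at hd
      rw [(Nat.prime_dvd_prime_iff_eq hs Nat.prime_two).mp (hs.dvd_of_dvd_pow hd)]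
      exact h2
    · exact Finset.mem_of_mem_erase (hL2 s hs hd)
  -- the Hall subgroup
  obtain ⟨A, hA⟩ := Subgroup.exists_right_complement'_of_coprime (N := L)
    (Nat.coprime_of_dvd fun s hs hd1 hd2 => hLno s hs hd1 (Finset.mem_of_mem_erase (hL2 s hs hd2)))
  have hAcard : Nat.card A = L.index := hA.symm.index_eq_card.symm
  refine ⟨A.map K.subtype, ⟨fun s hs hsd => ?_, fun s hs hsσ hsd => ?_⟩, ?_⟩
  · rw [Subgroup.card_map_of_injective K.subtype_injective, hAcard] at hsd
    obtain ⟨h1, h2'⟩ := Finset.mem_erase.mp (hL2 s hs hsd)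
    exact ⟨Finset.mem_coe.mpr h2', by simpa using h1⟩
  · rw [Subgroup.index_map_subtype, hA.index_eq_card] at hsd
    obtain ⟨hsπ, hs2⟩ := hsσ
    rcases (Nat.Prime.dvd_mul hs).mp hsd with hd | hd
    · exact hLno s hs hd (Finset.mem_coe.mp hsπ)
    · rw [hKindex] at hd
      exact hs2 (by simpa using (Nat.prime_dvd_prime_iff_eq hs Nat.prime_two).mp (hs.dvd_of_dvd_pow hd))
  · have hinj : Function.Injective (ψ.comp A.subtype) := by
      rw [← MonoidHom.ker_eq_bot_iff, eq_bot_iff]
      intro v hv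
      exact Subgroup.mem_bot.mpr (Subtype.ext (Subgroup.disjoint_def.mp hA.disjoint hv v.2))
    have hcommR : ∀ r : σ, ∀ a b : ↥(RK r : Subgroup K), a * b = b * a := fun r a b => Subtype.ext
      (Subgroup.mem_centralizer_iff.mp (hNC r (Subgroup.le_normalizer b.2)) a a.2)
    refine ⟨⟨?_⟩⟩
    rintro ⟨_, a, ha, rfl⟩ ⟨_, b, hb, rfl⟩
    have h1 : (⟨a, ha⟩ : A) * ⟨b, hb⟩ = ⟨b, hb⟩ * ⟨a, ha⟩ := hinj (by
      rw [map_mul, map_mul]
      exact funext fun r => hcommR r _ _)
    exact Subtype.ext (congrArg (fun z : A => ((z : K) : G)) h1)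

end Cfsg.Agent.S3898
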