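import Cfsg.Statements.S3899
import Mathlib
import Cfsg.Agent.Lib.PClassCount

set_option autoImplicit false
open Cfsg

namespace Cfsg.Agent.S3899

open Cfsg.Agent.PClassCount

/-- Let π be a finite non-empty set of odd primes with smallest member p and G a finite group. Write k_π(G) for the number of conjugacy classes of G consisting of π-elements (elements all of whose order's prime divisors lie in π) and |G|_π for the π-part of the order of G. If k_π(G) > (p + 1)|G|_π/(2p), then G has a normal π-complement (a normal subgroup of order prime to π whose index is a π-number) and an abelian Hall π-subgroup. -/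
theorem result {G : Type*} [Group G] [Finite G] (π : Finset ℕ) (hπ : ∀ r ∈ π, r.Prime) (h2 : 2 ∉ π) (p : ℕ) (hp : p ∈ π)
    (hmin : ∀ r ∈ π, p ≤ r) (hk : (p + 1) * π.prod (fun r => r ^ (Nat.card G).factorization r) < 2 * p * Nat.card {c : ConjClasses G // ∀ x ∈ c.carrier, ∀ r : ℕ, r.Prime → r ∣ orderOf x → r ∈ π}) :
    (∃ N : Subgroup G, N.Normal ∧ (∀ r : ℕ, r.Prime → r ∣ Nat.card ↥N → r ∉ π) ∧ ∀ r : ℕ, r.Prime → r ∣ N.index → r ∈ π) ∧ ∃ H : Subgroup G, Cfsg.IsPiHall (↑π : Set ℕ) H ∧ IsMulCommutative ↥H := by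
  classical
  have hpp := hπ p hp
  have hall : ∀ r ∈ π, ∃ (R : Sylow r G) (K : Subgroup G), K.Normal ∧ K.IsComplement' (R : Subgroup G) ∧ IsMulCommutative (R : Subgroup G) := by
    intro r hr
    haveI := Fact.mk (hπ r hr)
    obtain ⟨P⟩ : Nonempty (Sylow r G) := inferInstance
    by_cases h : Cfsg.HasNormalPComplement r G ∧ IsMulCommutative (P : Subgroup G)
    · obtain ⟨⟨R, K, hK, hKR⟩, hc⟩ := h
      refine ⟨R, K, hK, hKR, ?_⟩
      obtain ⟨g, hg⟩ := MulAction.exists_smul_eq G P R
      have e : (P : Subgroup G) ≃* (R : Subgroup G) := by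
        rw [← hg, Sylow.coe_subgroup_smul]
        exact Subgroup.equivSMul _ _
      refine ⟨⟨fun a b => ?_⟩⟩
      have := congrArg e (hc.is_comm.comm (e.symm a) (e.symm b))
      simpa using this
    exfalso
    have h1 := two_mul_mul_card_le P h
    have hrest : ∀ z : G, Nat.card (piClasses (π.erase r) (Subgroup.centralizer ({z} : Set G))) ≤
        ∏ s ∈ π.erase r, s ^ (Nat.card G).factorization s := fun z => by
      refine (card_piClasses_le (π.erase r) (fun s hs => hπ s (Finset.mem_of_mem_erase hs)) _).trans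
        (Nat.le_of_dvd (prod_pos _ (fun s hs => hπ s (Finset.mem_of_mem_erase hs)) _) (Finset.prod_dvd_prod_of_dvd _ _ fun s _ => ?_))
      exact pow_dvd_pow s ((Nat.factorization_le_iff_dvd Nat.card_pos.ne' Nat.card_pos.ne').mpr
        (Subgroup.card_subgroup_dvd_card _) s)
    have h2 := card_insert_le (r := r) (π.erase r) _ hrest
    rw [Finset.insert_erase hr] at h2
    rw [← Finset.mul_prod_erase π _ hr, ← P.card_eq_multiplicity] at hk
    have hrp := hmin r hr
    change _ < 2 * p * Nat.card (piClasses π G) at hk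
    generalize (∏ s ∈ π.erase r, s ^ (Nat.card G).factorization s) = B at h2 hk
    generalize Nat.card (P : Subgroup G) = c at h1 hk
    generalize Nat.card (pClasses r G) = k at h1 h2
    generalize Nat.card (piClasses π G) = K at h2 hk
    have h3 : (2 * p * r) * K ≤ (2 * p * r) * (k * B) := Nat.mul_le_mul_left _ h2
    have h4 : p * B * (2 * r * k) ≤ p * B * ((r + 1) * c) := Nat.mul_le_mul_left _ h1
    have h5 : p * (r + 1) ≤ r * (p + 1) := by nlinarith
    have h6 := Nat.mul_le_mul_right (c * B) h5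
    have h7 : r * ((p + 1) * (c * B)) < r * (2 * p * K) := Nat.mul_lt_mul_of_pos_left hk (hπ r hr).pos
    nlinarith
  choose R K hKn hKR hRc using hall
  haveI hn : ∀ r : π, (K r.1 r.2).Normal := fun r => hKn r.1 r.2
  let N : Subgroup G := ⨅ r : π, K r.1 r.2
  haveI hN : N.Normal := Subgroup.normal_iInf_normal fun r => hKn r.1 r.2
  have hN1 : ∀ r : ℕ, r.Prime → r ∣ Nat.card N → r ∉ π := by
    intro r hr hd hrπ
    haveI := Fact.mk hr
    refine (R r hrπ).not_dvd_index ?_
    rw [(hKR r hrπ).index_eq_card]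
    exact hd.trans (Subgroup.card_dvd_of_le (iInf_le (fun s : π => K s.1 s.2) ⟨r, hrπ⟩))
  let f : G ⧸ N →* (∀ r : π, G ⧸ K r.1 r.2) :=
    QuotientGroup.lift N (MonoidHom.pi fun r : π => QuotientGroup.mk' (K r.1 r.2)) (fun x hx => by
      rw [MonoidHom.mem_ker]
      funext r
      exact (QuotientGroup.eq_one_iff x).mpr (iInf_le (fun s : π => K s.1 s.2) r hx))
  have hf : Function.Injective f := by
    refine (injective_iff_map_eq_one f).mpr fun q hq => ?_
    obtain ⟨x, rfl⟩ := QuotientGroup.mk_surjective q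
    rw [QuotientGroup.eq_one_iff, Subgroup.mem_iInf]
    intro r
    exact (QuotientGroup.eq_one_iff x).mp (congrFun hq r)
  have hN2 : ∀ r : ℕ, r.Prime → r ∣ N.index → r ∈ π := by
    intro r hr hd
    have h1 : r ∣ ∏ s : π, Nat.card (G ⧸ K s.1 s.2) := by
      rw [← Nat.card_pi]
      exact (Subgroup.index_eq_card N ▸ hd).trans (Subgroup.card_dvd_of_injective f hf)
    obtain ⟨s, -, hs⟩ := (hr.prime.dvd_finsetProd_iff _).mp h1
    haveI := Fact.mk (hπ s.1 s.2)
    rw [← Subgroup.index_eq_card, (hKR s.1 s.2).symm.index_eq_card, Sylow.card_eq_multiplicity] at hs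
    exact ((Nat.prime_dvd_prime_iff_eq hr (hπ s.1 s.2)).mp (hr.dvd_of_dvd_pow hs)) ▸ s.2
  refine ⟨⟨N, hN, hN1, hN2⟩, ?_⟩
  have hco : (Nat.card N).Coprime N.index := Nat.coprime_of_dvd fun r hr h1 h2 => hN1 r hr h1 (hN2 r hr h2)
  obtain ⟨H, hH⟩ := Subgroup.exists_right_complement'_of_coprime hco
  refine ⟨H, ⟨?_, ?_⟩, ⟨⟨fun a b => ?_⟩⟩⟩
  · intro r hr hd
    rw [← hH.symm.index_eq_card] at hd
    exact hN2 r hr hd
  · intro r hr hr' hd
    rw [hH.index_eq_card] at hd
    exact hN1 r hr hd hr'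
  have hinj : ∀ a b : H, (a * b)⁻¹ * (b * a) ∈ (⊥ : Subgroup H) := by
    intro a b
    have hab : f (QuotientGroup.mk' N ((a : G) * b)) = f (QuotientGroup.mk' N ((b : G) * a)) := by
      simp only [map_mul]
      funext s
      have e := (hKR s.1 s.2).symm.QuotientMulEquiv
      have := (hRc s.1 s.2).is_comm.comm
      simp only [Pi.mul_apply]
      apply e.injective
      rw [map_mul, map_mul]
      exact this _ _
    have h1 := QuotientGroup.eq.mp (hf hab)
    have h2 : ((a : G) * b)⁻¹ * (b * a) ∈ N ⊓ H :=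
      Subgroup.mem_inf.mpr ⟨h1, mul_mem (inv_mem (mul_mem a.2 b.2)) (mul_mem b.2 a.2)⟩
    rw [disjoint_iff.mp hH.disjoint, Subgroup.mem_bot] at h2
    exact Subgroup.mem_bot.mpr (Subtype.ext h2)
  have := Subgroup.mem_bot.mp (hinj a b)
  rwa [inv_mul_eq_one] at this

end Cfsg.Agent.S3899
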