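import Mathlib
import Cfsg.Agent.Lib.CharInducedBurnside
import Cfsg.Agent.Lib.CoprimeAction
import Cfsg.Agent.Lib.TransferAlperin
import Cfsg.Agent.Lib.TransferPResidual
import Cfsg.Statements.S3901
-- import your own Cfsg.Agent.* helpers here

set_option autoImplicit false
open Cfsg

namespace Cfsg.Agent.S3901

open scoped Pointwise

variable {G : Type*} [Group G]

/-- If `y` of order dividing `l` acts on `A` without nontrivial fixed points and the powers of `y` act without fixed points on `T`, then `T` fixes the `|T|`-th powers. -/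
theorem smul_pow_card {H A : Type*} [Group H] [CommGroup A] [MulDistribMulAction H A] (T : Subgroup H)
    [Fintype T] (y : H) (l : ℕ) (hl : 0 < l) (hy : y ∈ Subgroup.normalizer (T : Set H)) (hyl : y ^ l = 1)
    (hfree : ∀ i, 0 < i → i < l → ∀ t ∈ T, y ^ i * t = t * y ^ i → t = 1)
    (hfix : ∀ w : A, y • w = w → w = 1) (w : A) (s : H) (hs : s ∈ T) :
    s • w ^ Fintype.card T = w ^ Fintype.card T := by
  classical
  obtain ⟨k, rfl⟩ : ∃ k, l = k + 1 := ⟨l - 1, by omega⟩
  have hnorm : ∀ v : A, ∏ i ∈ Finset.range (k + 1), y ^ i • v = 1 := by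
    intro v
    apply hfix
    rw [Finset.smul_prod']
    have h1 := Finset.prod_range_succ (fun i => y ^ i • v) (k + 1)
    rw [Finset.prod_range_succ' (fun i => y ^ i • v) (k + 1), hyl, pow_zero, one_smul] at h1
    rw [← mul_right_cancel h1]
    exact Finset.prod_congr rfl fun i _ => by rw [smul_smul, ← pow_succ']
  have hconj : ∀ t : T, ∏ i ∈ Finset.range (k + 1), ((t : H) * y ^ i * (t : H)⁻¹) • w = 1 := by
    intro t
    have h1 := hnorm ((t : H)⁻¹ • w)
    have h2 : (t : H) • ∏ i ∈ Finset.range (k + 1), y ^ i • (t : H)⁻¹ • w = 1 := by rw [h1, smul_one]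
    rw [Finset.smul_prod'] at h2
    rw [← h2]
    exact Finset.prod_congr rfl fun i _ => by rw [mul_smul, mul_smul]
  have hall : ∏ i ∈ Finset.range (k + 1), ∏ t : T, ((t : H) * y ^ i * (t : H)⁻¹) • w = 1 := by
    rw [Finset.prod_comm]
    exact Finset.prod_eq_one fun t _ => hconj t
  have hw : ∏ i ∈ Finset.range k, y ^ (i + 1) • w = w⁻¹ := by
    have h1 := hnorm w
    rw [Finset.prod_range_succ', pow_zero, one_smul] at h1
    exact eq_inv_of_mul_eq_one_left h1
  have hterm : ∀ i ∈ Finset.range k,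
      ∏ t : T, ((t : H) * y ^ (i + 1) * (t : H)⁻¹) • w = ∏ u : T, (u : H) • y ^ (i + 1) • w := by
    intro i hi
    have hyi : y ^ (i + 1) ∈ Subgroup.normalizer (T : Set H) := pow_mem hy _
    let f : T → T := fun t => ⟨(t : H) * (y ^ (i + 1) * (t : H)⁻¹ * (y ^ (i + 1))⁻¹),
      mul_mem t.2 ((Subgroup.mem_normalizer_iff.mp hyi _).mp (inv_mem t.2))⟩
    have hf : Function.Injective f := by
      intro a b hab
      have h1 := congrArg (Subtype.val) hab
      simp only [f] at h1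
      have h2 := congrArg (fun z => (b : H)⁻¹ * (z * y ^ (i + 1)) * (a : H)) h1
      simp only [mul_assoc, inv_mul_cancel, inv_mul_cancel_left, mul_one] at h2
      have h3 : (b : H)⁻¹ * (a : H) = 1 :=
        hfree (i + 1) (Nat.succ_pos _) (by have := Finset.mem_range.mp hi; omega) _ (mul_mem (inv_mem b.2) a.2)
          (by rw [mul_assoc]; exact h2.symm)
      exact Subtype.ext (inv_mul_eq_one.mp h3).symm
    refine Fintype.prod_bijective f (Finite.injective_iff_bijective.mp hf) _ _ fun t => ?_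
    rw [← mul_smul]
    congr 1
    simp [f, mul_assoc]
  have key : w ^ Fintype.card T = ∏ u : T, (u : H) • w := by
    rw [Finset.prod_range_succ', Finset.prod_congr rfl hterm, Finset.prod_comm] at hall
    simp only [← Finset.smul_prod', hw, smul_inv', Finset.prod_inv_distrib, pow_zero, mul_one,
      mul_inv_cancel, one_smul, Finset.prod_const, Finset.card_univ] at hall
    exact (inv_mul_eq_one.mp hall).symm
  rw [key, Finset.smul_prod']
  exact Fintype.prod_equiv (Equiv.mulLeft ⟨s, hs⟩) _ _ fun u => by rw [smul_smul]; rfl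

/-- A commuting pair of coprime orders, one of them outside `N`, cannot be nontrivial. -/
theorem eq_one_of_mixed [Finite G] {N : Subgroup G} (h : ∀ x : G, x ∉ N → IsPrimePow (orderOf x)) {u w : G}
    (hu : u ∉ N) (hc : Commute u w) (hcop : (orderOf u).Coprime (orderOf w)) : w = 1 := by
  by_contra hw
  have hu1 : orderOf u ≠ 1 := fun e => hu (by rw [orderOf_eq_one_iff.mp e]; exact one_mem N)
  have hw1 : orderOf w ≠ 1 := fun e => hw (orderOf_eq_one_iff.mp e)
  by_cases hm : u * w ∈ N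
  · apply hu
    have h1 : u ^ orderOf w ∈ N := by
      have := N.pow_mem hm (orderOf w)
      rwa [hc.mul_pow, pow_orderOf_eq_one, mul_one] at this
    obtain ⟨m, hm⟩ := exists_pow_eq_self_of_coprime (x := u) (n := orderOf w) hcop.symm
    rw [← hm]
    exact N.pow_mem h1 m
  · have ho := h _ hm
    rw [hc.orderOf_mul_eq_mul_orderOf_of_coprime hcop] at ho
    rcases (hcop.isPrimePow_dvd_mul ho).mp dvd_rfl with hd | hd
    · exact hw1 (Nat.Coprime.eq_one_of_dvd hcop.symm ((dvd_mul_left _ _).trans hd))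
    · exact hu1 (Nat.Coprime.eq_one_of_dvd hcop ((dvd_mul_right _ _).trans hd))

/-- Orders of elements of a `p`-subgroup. -/
theorem orderOf_of_mem_isPGroup {p : ℕ} [Fact p.Prime] {T : Subgroup G} (hT : IsPGroup p T) {t : G}
    (ht : t ∈ T) : ∃ k, orderOf t = p ^ k := by
  obtain ⟨k, hk⟩ := IsPGroup.iff_orderOf.mp hT ⟨t, ht⟩
  exact ⟨k, by rwa [← orderOf_injective T.subtype T.subtype_injective] at hk⟩

/-- No element of prime order of `G ⧸ N` normalises a nontrivial subgroup of coprime prime power order. -/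
theorem not_normalizes [Finite G] (N : Subgroup G) [N.Normal] (hns : ¬ Group.IsSolvable ↥N)
    (h : ∀ x : G, x ∉ N → IsPrimePow (orderOf x)) (p l : ℕ) [Fact p.Prime] [Fact l.Prime] (hpl : p ≠ l)
    (Tb : Subgroup (G ⧸ N)) (hTb : IsPGroup p Tb) (hne : Tb ≠ ⊥) (xb : G ⧸ N)
    (hxb : xb ∈ Subgroup.normalizer (Tb : Set (G ⧸ N))) (hl : orderOf xb = l) : False := by
  classical
  have hp : p.Prime := Fact.out
  have hlp : l.Prime := Fact.out
  -- a third prime dividing `|N|`
  obtain ⟨q, hq, hqN, hqp, hql⟩ : ∃ q, q.Prime ∧ q ∣ Nat.card N ∧ q ≠ p ∧ q ≠ l := by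
    by_contra hcon
    push Not at hcon
    apply hns
    have h0 : Nat.card N ≠ 0 := Nat.card_pos.ne'
    refine CharInduced.solvable_of_card_two_primes p l ((Nat.card N).factorization p)
      (ordCompl[p] (Nat.card N)).primeFactorsList.length hp hlp ?_
    rw [← Nat.eq_prime_pow_of_unique_prime_dvd (Nat.ordCompl_pos p h0).ne' (p := l) (fun {d} hd hdd => ?_)]
    · exact (Nat.ordProj_mul_ordCompl_eq_self _ p).symm
    · refine hcon d hd (hdd.trans (Nat.ordCompl_dvd _ p)) fun e => ?_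
      exact Nat.not_dvd_ordCompl hp h0 (e ▸ hdd)
  haveI := Fact.mk hq
  obtain ⟨Q⟩ : Nonempty (Sylow q N) := inferInstance
  set Q' : Subgroup G := (Q : Subgroup N).map N.subtype with hQ'
  set H : Subgroup G := Subgroup.normalizer (Q' : Set G) with hH
  set π := QuotientGroup.mk' N with hπdef
  have hπ : ∀ {g : G}, g ∈ N ↔ π g = 1 := fun {g} => (QuotientGroup.eq_one_iff g).symm
  have hlift : ∀ z : G ⧸ N, ∃ g ∈ H, π g = z := by
    intro z
    obtain ⟨g, rfl⟩ := QuotientGroup.mk_surjective z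
    have hg : g ∈ H ⊔ N := by rw [hH, hQ', Sylow.normalizer_sup_eq_top Q]; trivial
    rw [← SetLike.mem_coe, Subgroup.mul_normal] at hg
    obtain ⟨a, ha, b, hb, rfl⟩ := hg
    exact ⟨a, ha, by rw [show (QuotientGroup.mk (a * b) : G ⧸ N) = π (a * b) from rfl, map_mul, hπ.mp hb, mul_one]⟩
  -- a `p`-subgroup of `H` over `Tb`
  set X : Subgroup G := Tb.comap π ⊓ H with hX
  obtain ⟨T⟩ : Nonempty (Sylow p X) := inferInstance
  set T' : Subgroup G := (T : Subgroup X).map X.subtype with hT'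
  have hT'X : T' ≤ X := Subgroup.map_subtype_le _
  have hT'p : IsPGroup p T' := T.isPGroup'.map _
  let f : X →* Tb := (π.comp X.subtype).codRestrict Tb fun x => x.2.1
  have hf : Function.Surjective f := by
    rintro ⟨z, hz⟩
    obtain ⟨g, hg, rfl⟩ := hlift z
    exact ⟨⟨g, hz, hg⟩, rfl⟩
  have honto : ∀ z ∈ Tb, ∃ t ∈ T', π t = z := by
    intro z hz
    have hbot : ((T.mapSurjective hf : Sylow p Tb) : Subgroup Tb) = ⊤ :=
      ((T.mapSurjective hf).is_maximal' (hTb.to_subgroup ⊤) le_top).symm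
    rw [Sylow.coe_mapSurjective] at hbot
    have hz' : (⟨z, hz⟩ : Tb) ∈ (T : Subgroup X).map f := hbot ▸ Subgroup.mem_top _
    obtain ⟨t, ht, hte⟩ := hz'
    exact ⟨t, Subgroup.mem_map_of_mem _ ht, congrArg Subtype.val hte⟩
  -- an element of `H ∩ N(T')` over `xb`
  obtain ⟨x1, hx1H, hx1⟩ := hlift xb
  have hx1X : ∀ g ∈ X, x1 * g * x1⁻¹ ∈ X := fun g hg =>
    ⟨by show π (x1 * g * x1⁻¹) ∈ Tb
        rw [map_mul, map_mul, map_inv, hx1]
        exact (Subgroup.mem_normalizer_iff.mp hxb _).mp hg.1,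
      H.mul_mem (H.mul_mem hx1H hg.2) (H.inv_mem hx1H)⟩
  have hle : MulAut.conj x1 • T' ≤ X := by
    intro g hg
    rw [CoprimeSZ.mem_conj_smul] at hg
    simpa [mul_assoc] using hx1X _ (hT'X hg)
  obtain ⟨R, hR⟩ := CoprimeAction.exists_sylow_map_eq hle
    (by rw [CoprimeSZ.card_conj_smul, hT', CoprimeAction.card_map_sylow T])
  obtain ⟨m, hm⟩ := MulAction.exists_smul_eq X R T
  have hx2T : (m : G) * x1 ∈ Subgroup.normalizer (T' : Set G) := by
    refine CoprimeAction.mem_normalizer_of_conj_smul_eq ?_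
    rw [map_mul, mul_smul, ← hR, hT', ← hm]
    exact (CoprimeSZ.map_conj_smul X.subtype m (R : Subgroup X)).symm
  set x2 := (m : G) * x1 with hx2
  have hx2H : x2 ∈ H := mul_mem m.2.2 hx1H
  -- its `l`-part
  have hpow : ∀ k : ℕ, π (x2 ^ k) * (xb ^ k)⁻¹ ∈ Tb := by
    intro k
    induction k with
    | zero => simp
    | succ k ih =>
      have hstep := (Subgroup.mem_normalizer_iff.mp hxb _).mp ih
      have : π (x2 ^ (k + 1)) * (xb ^ (k + 1))⁻¹ = π m * (xb * (π (x2 ^ k) * (xb ^ k)⁻¹) * xb⁻¹) := by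
        rw [pow_succ' x2, pow_succ' xb, map_mul, hx2, map_mul π, hx1]
        simp [mul_assoc]
      rw [this]
      exact mul_mem m.2.1 hstep
  have hn0 : orderOf x2 ≠ 0 := (orderOf_pos x2).ne'
  set n' := ordCompl[l] (orderOf x2) with hn'
  set y := x2 ^ n' with hy
  have hyord : ∃ k, orderOf y = l ^ k := by
    have h1 : y ^ l ^ (orderOf x2).factorization l = 1 := by
      rw [hy, ← pow_mul, mul_comm, hn', Nat.ordProj_mul_ordCompl_eq_self, pow_orderOf_eq_one]
    obtain ⟨j, -, hj⟩ := (Nat.dvd_prime_pow hlp).mp (orderOf_dvd_of_pow_eq_one h1)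
    exact ⟨j, hj⟩
  obtain ⟨a, ha⟩ := hyord
  have hTbord : ∀ z ∈ Tb, ∀ k : ℕ, z ^ l ^ k = 1 → z = 1 := by
    intro z hz k hzk
    obtain ⟨j, hj⟩ := orderOf_of_mem_isPGroup hTb hz
    have h1 := orderOf_dvd_of_pow_eq_one hzk
    rw [hj] at h1
    exact orderOf_eq_one_iff.mp (hj.trans ((Nat.coprime_pow_primes j k hp hlp hpl).eq_one_of_dvd h1))
  have hxbn : xb ^ n' ∉ Tb := by
    intro hm'
    have h1 := hTbord _ hm' 1 (by rw [pow_one, ← pow_mul, mul_comm, pow_mul, ← hl, pow_orderOf_eq_one, one_pow])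
    rw [← orderOf_dvd_iff_pow_eq_one, hl] at h1
    exact Nat.not_dvd_ordCompl hlp hn0 h1
  have hyN : y ∉ N := by
    intro hm'
    apply hxbn
    have := hpow n'
    rw [← hy, hπ.mp hm', one_mul] at this
    exact inv_mem_iff.mp this
  have hylN : y ^ l ∈ N := by
    rw [hπ]
    have h1 := hpow (n' * l)
    rw [pow_mul x2, ← hy, show xb ^ (n' * l) = 1 by rw [mul_comm, pow_mul, ← hl, pow_orderOf_eq_one, one_pow],
      inv_one, mul_one] at h1
    refine hTbord _ h1 a ?_
    rw [← map_pow, ← pow_mul, mul_comm, pow_mul, ← ha, pow_orderOf_eq_one, one_pow, map_one]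
  have hyH : y ∈ H := pow_mem hx2H _
  have hyT : y ∈ Subgroup.normalizer (T' : Set G) := pow_mem hx2T _
  obtain ⟨z0, hz0, hz0'⟩ := (Subgroup.bot_or_exists_ne_one Tb).resolve_left hne
  obtain ⟨t0, ht0, hpt0⟩ := honto z0 hz0
  have ht0N : t0 ∉ N := fun hm' => hz0' (hpt0 ▸ hπ.mp hm')
  -- `y ^ l = 1`
  have hyl : y ^ l = 1 := by
    set z := y ^ l with hz
    have hzT : z ∈ Subgroup.normalizer (T' : Set G) := pow_mem hyT _
    have hzD : z ∈ Subgroup.normalizer ((T' ⊓ N : Subgroup G) : Set G) := by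
      rw [Subgroup.mem_normalizer_iff]
      exact fun g => and_congr (Subgroup.mem_normalizer_iff.mp hzT g)
        ⟨fun hg => Subgroup.Normal.conj_mem inferInstance g hg z, fun hg => by
          simpa [mul_assoc] using Subgroup.Normal.conj_mem inferInstance _ hg z⁻¹⟩
    obtain ⟨jT, hjT⟩ := IsPGroup.iff_card.mp (hT'p.to_le (inf_le_left : T' ⊓ N ≤ T'))
    obtain ⟨jz, -, hjz⟩ := (Nat.dvd_prime_pow hlp).mp (ha ▸ orderOf_pow_dvd l : orderOf z ∣ l ^ a)
    have hfixz : t0⁻¹ * z * t0 * z⁻¹ ∈ T' ⊓ N := by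
      refine ⟨?_, N.mul_mem (by simpa using Subgroup.Normal.conj_mem inferInstance z hylN t0⁻¹) (N.inv_mem hylN)⟩
      rw [show t0⁻¹ * z * t0 * z⁻¹ = t0⁻¹ * (z * t0 * z⁻¹) by group]
      exact T'.mul_mem (T'.inv_mem ht0) ((Subgroup.mem_normalizer_iff.mp hzT _).mp ht0)
    obtain ⟨c, hc, hcd⟩ := CoprimeAction.exists_fixed_mem_coset_zpowers hzD
      (by rw [hjz, hjT]; exact Nat.coprime_pow_primes _ _ hlp hp hpl.symm) t0 hfixz
    have hcT : c ∈ T' := by simpa using mul_mem ht0 hcd.1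
    have hcN : c ∉ N := fun hm' => ht0N (by simpa using mul_mem hm' (inv_mem hcd.2))
    obtain ⟨jc, hjc⟩ := orderOf_of_mem_isPGroup hT'p hcT
    exact eq_one_of_mixed h hcN hc.symm (by rw [hjc, hjz]; exact Nat.coprime_pow_primes _ _ hp hlp hpl)
  have hyo : orderOf y = l := orderOf_eq_prime hyl fun e => hyN (e ▸ one_mem N)
  have hyiN : ∀ i, 0 < i → i < l → y ^ i ∉ N := by
    intro i hi hil hm'
    apply hyN
    obtain ⟨m', hm''⟩ := exists_pow_eq_self_of_coprime (x := y) (n := i)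
      (by rw [hyo]; exact ((hlp.coprime_iff_not_dvd).mpr (Nat.not_dvd_of_pos_of_lt hi hil)).symm)
    rw [← hm'']
    exact pow_mem hm' _
  -- the `q`-torsion of the centre of `Q'`
  let W : Subgroup G :=
    { carrier := {w | w ∈ Q' ∧ (∀ v ∈ Q', v * w = w * v) ∧ w ^ q = 1}
      one_mem' := ⟨one_mem _, fun v _ => by simp, one_pow q⟩
      mul_mem' := fun {a b} ha hb => ⟨mul_mem ha.1 hb.1,
        fun v hv => (Commute.mul_right (ha.2.1 v hv : Commute v a) (hb.2.1 v hv : Commute v b)).eq,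
        by rw [Commute.mul_pow (hb.2.1 a ha.1), ha.2.2, hb.2.2, mul_one]⟩
      inv_mem' := fun {a} ha => ⟨inv_mem ha.1,
        fun v hv => (Commute.inv_right (ha.2.1 v hv : Commute v a)).eq,
        by rw [inv_pow, ha.2.2, inv_one]⟩ }
  have hWord : ∀ w ∈ W, orderOf w ∣ q := fun w hw => orderOf_dvd_of_pow_eq_one hw.2.2
  have hWH : ∀ g ∈ H, ∀ w ∈ W, g * w * g⁻¹ ∈ W := by
    intro g hg w hw
    refine ⟨(Subgroup.mem_normalizer_iff.mp hg w).mp hw.1, fun v hv => ?_, by rw [conj_pow, hw.2.2]; simp⟩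
    have hv' : g⁻¹ * v * g ∈ Q' := (Subgroup.mem_normalizer_iff''.mp hg v).mp hv
    calc v * (g * w * g⁻¹) = g * ((g⁻¹ * v * g) * w) * g⁻¹ := by group
      _ = g * (w * (g⁻¹ * v * g)) * g⁻¹ := by rw [hw.2.1 _ hv']
      _ = _ := by group
  obtain ⟨w0, hw0, hw01⟩ : ∃ w ∈ W, w ≠ 1 := by
    have hQne : (Q : Subgroup N) ≠ ⊥ := Q.ne_bot_of_dvd_card hqN
    haveI := (Subgroup.nontrivial_iff_ne_bot (Q : Subgroup N)).mpr hQne
    haveI := Q.isPGroup'.center_nontrivial
    obtain ⟨j, hj⟩ := IsPGroup.iff_card.mp (Q.isPGroup'.to_subgroup (Subgroup.center (Q : Subgroup N)))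
    obtain ⟨c, hc⟩ := exists_prime_orderOf_dvd_card' (G := Subgroup.center (Q : Subgroup N)) q (by
      rw [hj]
      refine dvd_pow_self q fun e => ?_
      rw [e, pow_zero] at hj
      exact (Finite.one_lt_card (α := Subgroup.center (Q : Subgroup N))).ne' hj)
    refine ⟨(((c : (Q : Subgroup N)) : N) : G), ⟨Subgroup.mem_map_of_mem N.subtype (c : (Q : Subgroup N)).2,
      ?_, ?_⟩, ?_⟩
    · rintro _ ⟨v, hv, rfl⟩
      exact congrArg (fun z : (Q : Subgroup N) => ((z : N) : G)) (Subgroup.mem_center_iff.mp c.2 ⟨v, hv⟩)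
    · have := pow_orderOf_eq_one c
      rw [hc] at this
      exact_mod_cast congrArg (fun z : Subgroup.center (Q : Subgroup N) => (((z : (Q : Subgroup N)) : N) : G)) this
    · intro e
      have : c = 1 := Subtype.ext (Subtype.ext (Subtype.ext e))
      rw [this, orderOf_one] at hc
      exact hq.ne_one hc.symm
  letI : CommGroup W :=
    { (inferInstance : Group W) with mul_comm := fun a b => Subtype.ext (b.2.2.1 a a.2.1) }
  letI : SMul H W := ⟨fun g w => ⟨(g : G) * w * (g : G)⁻¹, hWH g g.2 w w.2⟩⟩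
  letI : MulDistribMulAction H W :=
    { one_smul := fun w => Subtype.ext (show (1 : G) * w * (1 : G)⁻¹ = w by simp)
      mul_smul := fun g g' w => Subtype.ext (show ((g : G) * g') * (w : G) * ((g : G) * g')⁻¹ =
        (g : G) * ((g' : G) * w * (g' : G)⁻¹) * (g : G)⁻¹ by group)
      smul_mul := fun g a b => Subtype.ext (show (g : G) * ((a : G) * b) * (g : G)⁻¹ =
        ((g : G) * a * (g : G)⁻¹) * ((g : G) * b * (g : G)⁻¹) by group)
      smul_one := fun g => Subtype.ext (show (g : G) * 1 * (g : G)⁻¹ = 1 by simp) }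
  set TH := T'.subgroupOf H with hTH
  haveI : Fintype TH := Fintype.ofFinite _
  have hTHH : T' ≤ H := hT'X.trans inf_le_right
  have hfixed := smul_pow_card (A := W) TH ⟨y, hyH⟩ l hlp.pos
    (by
      rw [Subgroup.mem_normalizer_iff]
      exact fun g => Subgroup.mem_normalizer_iff.mp hyT g)
    (Subtype.ext (by simpa using hyl))
    (fun i hi hil t ht htc => by
      obtain ⟨j, hj⟩ := orderOf_of_mem_isPGroup hT'p (show (t : G) ∈ T' from ht)
      obtain ⟨j', -, hj'⟩ := (Nat.dvd_prime_pow hlp).mp (ha ▸ orderOf_pow_dvd i : orderOf (y ^ i) ∣ l ^ a)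
      have hc : Commute (y ^ i) (t : G) := by simpa [Commute, SemiconjBy] using congrArg Subtype.val htc
      exact Subtype.ext (eq_one_of_mixed h (hyiN i hi hil) hc
        (by rw [hj', hj]; exact Nat.coprime_pow_primes _ _ hlp hp hpl.symm)))
    (fun w hw => by
      have hc : Commute y (w : G) := by
        have h1 : y * (w : G) * y⁻¹ = w := congrArg Subtype.val hw
        exact mul_inv_eq_iff_eq_mul.mp h1
      refine Subtype.ext (eq_one_of_mixed h hyN hc (Nat.Coprime.coprime_dvd_right (hWord _ w.2) ?_))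
      rw [hyo]
      exact (Nat.coprime_primes hlp hq).mpr hql.symm)
    (⟨w0, hw0⟩ : W) ⟨t0, hTHH ht0⟩ ht0
  obtain ⟨jT', hjT'⟩ := IsPGroup.iff_card.mp hT'p
  have hcardT : Fintype.card TH = p ^ jT' := by
    rw [← Nat.card_eq_fintype_card, Nat.card_congr (Subgroup.subgroupOfEquivOfLe hTHH).toEquiv, hjT']
  rw [hcardT] at hfixed
  have h1 : t0 * w0 ^ p ^ jT' * t0⁻¹ = w0 ^ p ^ jT' := by
    exact congrArg Subtype.val hfixed
  obtain ⟨jt, hjt⟩ := orderOf_of_mem_isPGroup hT'p ht0
  have h2 : w0 ^ p ^ jT' = 1 := eq_one_of_mixed h ht0N (mul_inv_eq_iff_eq_mul.mp h1) (by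
    refine Nat.Coprime.coprime_dvd_right ((orderOf_pow_dvd _).trans (hWord _ hw0)) ?_
    rw [hjt]
    exact ((Nat.coprime_primes hp hq).mpr hqp.symm).pow_left jt)
  refine hw01 (orderOf_eq_one_iff.mp (Nat.Coprime.eq_one_of_dvd ?_ (orderOf_dvd_of_pow_eq_one h2)))
  exact Nat.Coprime.coprime_dvd_left (hWord _ hw0) (((Nat.coprime_primes hq hp).mpr hqp).pow_right _)


/-- Let N be a non-trivial normal subgroup of the finite group G such that every element of G outside N has prime power order. If N is not solvable, then G/N is solvable. -/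
theorem result {G : Type*} [Group G] [Finite G] (N : Subgroup G) [N.Normal] (hN : N ≠ ⊥) (hns : ¬ Group.IsSolvable ↥N)
    (h : ∀ x : G, x ∉ N → IsPrimePow (orderOf x)) : Group.IsSolvable (G ⧸ N) := by
  classical
  by_cases hone : ∀ z : G ⧸ N, z = 1
  · haveI : Subsingleton (G ⧸ N) := ⟨fun a b => (hone a).trans (hone b).symm⟩
    exact inferInstance
  push Not at hone
  obtain ⟨z, hz⟩ := hone
  haveI : Nontrivial (G ⧸ N) := nontrivial_of_ne z 1 hz
  obtain ⟨p, hp, hpn⟩ := Nat.exists_prime_and_dvd (Finite.one_lt_card (α := G ⧸ N)).ne'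
  haveI := Fact.mk hp
  -- normalisers of nontrivial `p`-subgroups are `p`-groups
  have hloc : ∀ Q : Subgroup (G ⧸ N), IsPGroup p Q → Q ≠ ⊥ →
      Cfsg.HasNormalPComplement p (Subgroup.normalizer (Q : Set (G ⧸ N))) := by
    intro Q hQ hQ1
    refine TransferPResidual.hasNormalPComplement_of_isPGroup ?_
    refine IsPGroup.of_card (n := (Nat.card (Subgroup.normalizer (Q : Set (G ⧸ N)))).primeFactorsList.length)
      (Nat.eq_prime_pow_of_unique_prime_dvd Nat.card_pos.ne' fun {d} hd hdd => ?_)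
    by_contra hdp
    haveI := Fact.mk hd
    obtain ⟨x, hx⟩ := exists_prime_orderOf_dvd_card' d hdd
    exact not_normalizes N hns h p d (Ne.symm hdp) Q hQ hQ1 x x.2
      (by rw [← hx]; exact orderOf_injective _ (Subgroup.subtype_injective _) x)
  obtain ⟨P, K, hKn, hK⟩ := TransferAlperin.hasNormalPComplement_iff_normalizer.mpr hloc
  rcases eq_or_ne K ⊥ with hK1 | hK1
  · have hP : (P : Subgroup (G ⧸ N)) = ⊤ := Subgroup.isComplement'_bot_left.mp (hK1 ▸ hK)
    have hG : IsPGroup p (G ⧸ N) := by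
      intro g
      obtain ⟨k, hk⟩ := P.isPGroup' ⟨g, hP ▸ Subgroup.mem_top g⟩
      exact ⟨k, congrArg Subtype.val hk⟩
    haveI := hG.isNilpotent
    infer_instance
  exfalso
  have hpK : ¬ p ∣ Nat.card K := by
    intro hd
    have h2 : K.index = Nat.card (P : Subgroup (G ⧸ N)) := hK.symm.index_eq_card
    have h3 := K.card_mul_index
    rw [h2, P.card_eq_multiplicity] at h3
    exact Nat.pow_succ_factorization_not_dvd (Nat.card_pos (α := G ⧸ N)).ne' hp
      (by rw [pow_succ']; exact (mul_dvd_mul_right hd _).trans (dvd_of_eq h3))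
  obtain ⟨a, ha⟩ := exists_prime_orderOf_dvd_card' p hpn
  haveI := (Subgroup.nontrivial_iff_ne_bot K).mpr hK1
  obtain ⟨r, hr, hrK⟩ := Nat.exists_prime_and_dvd (Finite.one_lt_card (α := K)).ne'
  haveI := Fact.mk hr
  obtain ⟨R, hR⟩ := CoprimeAction.exists_invariant_sylow (A := Subgroup.zpowers a) (K := K)
    (by rw [Subgroup.normalizer_eq_top_iff.mpr hKn]; exact le_top)
    (by rw [Nat.card_zpowers, ha]; exact hp.coprime_iff_not_dvd.mpr hpK)
    (Or.inl (CoprimeAction.isSolvable_zpowers a)) r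
  refine not_normalizes N hns h r p (fun e => hpK (e ▸ hrK)) _ (R.isPGroup'.map K.subtype) ?_ a
    (hR (Subgroup.mem_zpowers a)) ha
  rw [Ne, Subgroup.map_eq_bot_iff_of_injective _ K.subtype_injective]
  exact R.ne_bot_of_dvd_card hrK

end Cfsg.Agent.S3901
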