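import Mathlib
import Cfsg.Agent.Lib.NilpotentMaximal
import Cfsg.Agent.Lib.PGroupsBasic
import Cfsg.Agent.Lib.CoprimeAction
import Cfsg.Statements.S3903
-- import your own Cfsg.Agent.* helpers here

set_option autoImplicit false
open Cfsg

namespace Cfsg.Agent.S3903

variable {G : Type*} [Group G] [Finite G]

/-- The case in which every element outside `N` is a `2`-element. -/
theorem solvable_of_two (N : Subgroup G) [N.Normal] (hN : N ≠ ⊤)
    (h2 : ∀ x : G, x ∉ N → ∃ k, orderOf x = 2 ^ k)
    (hsyl : ∀ x : G, x ∉ N → (∃ P : Sylow 2 G, (P : Subgroup G) = Subgroup.centralizer ({x} : Set G)) ∧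
      IsCoatom (Subgroup.centralizer ({x} : Set G))) : Group.IsSolvable G := by
  classical
  haveI : Fact (Nat.Prime 2) := ⟨Nat.prime_two⟩
  obtain ⟨M, hM, hNM⟩ := (eq_top_or_exists_le_coatom N).resolve_left hN
  have h2q : IsPGroup 2 (G ⧸ N) := by
    intro z
    obtain ⟨g, rfl⟩ := QuotientGroup.mk_surjective z
    by_cases hg : g ∈ N
    · exact ⟨0, by rw [(QuotientGroup.eq_one_iff g).mpr hg, one_pow]⟩
    · obtain ⟨k, hk⟩ := h2 g hg
      exact ⟨k, by rw [← QuotientGroup.mk_pow, ← hk, pow_orderOf_eq_one, QuotientGroup.mk_one]⟩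
  set π := QuotientGroup.mk' N
  have hπ : Function.Surjective π := QuotientGroup.mk'_surjective N
  have hcomapM : (M.map π).comap π = M := by
    rw [Subgroup.comap_map_eq, QuotientGroup.ker_mk', sup_eq_left.mpr hNM]
  have hMb : IsCoatom (M.map π) := by
    refine ⟨fun h => hM.1 (by rw [← hcomapM, h, Subgroup.comap_top]), fun L hL => ?_⟩
    have : M < L.comap π := by
      rw [← hcomapM]
      exact (Subgroup.comap_lt_comap_of_surjective hπ).mpr hL
    rw [← Subgroup.map_comap_eq_self_of_surjective hπ L, hM.2 _ this, Subgroup.map_top_of_surjective π hπ]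
  have hMn : M.Normal := hcomapM ▸ (PGroupsBasic.normal_of_isCoatom h2q hMb).comap π
  have hMi : M.index = 2 := by
    rw [← hcomapM, Subgroup.index_comap_of_surjective _ hπ, PGroupsBasic.index_of_isCoatom h2q hMb]
  obtain ⟨x, -, hx⟩ := SetLike.exists_of_lt hM.lt_top
  obtain ⟨⟨P, hP⟩, hPmax⟩ := hsyl x (fun h => hx (hNM h))
  set S : Set G := {w | w ∈ (P : Subgroup G) ∧ w ∉ M ∧ Subgroup.centralizer ({w} : Set G) = (P : Subgroup G)} with hS
  -- every element outside `M` is conjugate into `S`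
  have hsurj : ∀ y : G, y ∉ M → ∃ w ∈ S, ∃ g : G, g * w * g⁻¹ = y := by
    intro y hy
    obtain ⟨⟨Q, hQ⟩, -⟩ := hsyl y (fun h => hy (hNM h))
    obtain ⟨g, hg⟩ := MulAction.exists_smul_eq G P Q
    have hmem : ∀ z : G, z ∈ Subgroup.centralizer ({y} : Set G) ↔ g⁻¹ * z * g ∈ (P : Subgroup G) := by
      intro z
      rw [← hQ, ← hg, Sylow.coe_subgroup_smul]
      constructor
      · rintro ⟨u, hu, rfl⟩
        show g⁻¹ * (g * u * g⁻¹) * g ∈ (P : Subgroup G)
        rw [show g⁻¹ * (g * u * g⁻¹) * g = u by group]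
        exact hu
      · intro hz
        exact ⟨_, hz, by simp [mul_assoc]⟩
    refine ⟨g⁻¹ * y * g, ⟨(hmem y).mp (Subgroup.mem_centralizer_singleton_iff.mpr rfl), fun h => hy ?_, ?_⟩,
      g, by group⟩
    · have := hMn.conj_mem _ h g
      simpa [mul_assoc] using this
    · ext z
      rw [Subgroup.mem_centralizer_singleton_iff]
      constructor
      · intro hz
        have : g * z * g⁻¹ ∈ Subgroup.centralizer ({y} : Set G) := by
          rw [Subgroup.mem_centralizer_singleton_iff]
          calc g * z * g⁻¹ * y = g * (z * (g⁻¹ * y * g)) * g⁻¹ := by group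
            _ = g * ((g⁻¹ * y * g) * z) * g⁻¹ := by rw [hz]
            _ = _ := by group
        simpa [mul_assoc] using (hmem _).mp this
      · intro hz
        have hh : g * z * g⁻¹ ∈ Subgroup.centralizer ({y} : Set G) := (hmem _).mpr (by simpa [mul_assoc] using hz)
        rw [Subgroup.mem_centralizer_singleton_iff] at hh
        calc z * (g⁻¹ * y * g) = g⁻¹ * ((g * z * g⁻¹) * y) * g := by group
          _ = g⁻¹ * (y * (g * z * g⁻¹)) * g := by rw [hh]
          _ = _ := by group
  -- counting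
  let F : S × (G ⧸ (P : Subgroup G)) → {y : G // y ∉ M} := fun wq =>
    Quotient.lift (fun g => (⟨g * wq.1.1 * g⁻¹, fun h => wq.1.2.2.1 (by
      simpa [mul_assoc] using hMn.conj_mem _ h g⁻¹)⟩ : {y : G // y ∉ M})) (fun a b hab => by
      have h := QuotientGroup.leftRel_apply.mp hab
      rw [← wq.1.2.2.2, Subgroup.mem_centralizer_singleton_iff] at h
      apply Subtype.ext
      calc a * wq.1.1 * a⁻¹ = a * (wq.1.1 * (a⁻¹ * b)) * b⁻¹ := by group
        _ = a * ((a⁻¹ * b) * wq.1.1) * b⁻¹ := by rw [← h]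
        _ = b * wq.1.1 * b⁻¹ := by group) wq.2
  have hF : Function.Surjective F := by
    rintro ⟨y, hy⟩
    obtain ⟨w, hw, g, rfl⟩ := hsurj y hy
    exact ⟨(⟨w, hw⟩, Quotient.mk'' g), rfl⟩
  have h1 := Nat.card_le_card_of_surjective F hF
  have hcardG : Nat.card G = Nat.card M + Nat.card {y : G // y ∉ M} := by
    rw [← Nat.card_sum]
    exact (Nat.card_congr (Equiv.sumCompl (fun y => y ∈ M))).symm
  have hMc : Nat.card M * 2 = Nat.card G := hMi ▸ M.card_mul_index
  rw [Nat.card_prod] at h1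
  have hP2 : Nat.card ↥((P : Subgroup G) ⊓ M) * 2 = Nat.card (P : Subgroup G) := by
    have hPM : ¬ (P : Subgroup G) ≤ M := fun hle =>
      hx (hle (hP.symm ▸ Subgroup.mem_centralizer_singleton_iff.mpr rfl))
    have hr : M.relIndex (P : Subgroup G) = 2 := by
      have h3 : M.relIndex ((P : Subgroup G) ⊔ M) = M.relIndex (P : Subgroup G) := Subgroup.relIndex_sup_right _ _
      rw [← h3, hM.2 _ (right_lt_sup.mpr hPM), Subgroup.relIndex_top_right, hMi]
    have := Subgroup.relIndex_mul_relIndex ⊥ ((P : Subgroup G) ⊓ M) (P : Subgroup G) bot_le inf_le_left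
    rwa [Subgroup.relIndex_bot_left, Subgroup.relIndex_bot_left, Subgroup.inf_relIndex_left, hr] at this
  have hSsub : S ⊆ {w | w ∈ (P : Subgroup G) ∧ w ∉ M} := fun w hw => ⟨hw.1, hw.2.1⟩
  have hSeq : {w | w ∈ (P : Subgroup G) ∧ w ∉ M} ⊆ S := by
    refine (Set.eq_of_subset_of_ncard_le hSsub ?_).ge
    have hcomp : ({w | w ∈ (P : Subgroup G) ∧ w ∉ M} : Set G).ncard = Nat.card ↥((P : Subgroup G) ⊓ M) := by
      have hd : ({w | w ∈ (P : Subgroup G) ∧ w ∉ M} : Set G) = ((P : Subgroup G) : Set G) \ (((P : Subgroup G) ⊓ M : Subgroup G) : Set G) := by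
        ext w
        exact ⟨fun ⟨a, b⟩ => ⟨a, fun h => b h.2⟩, fun ⟨a, b⟩ => ⟨a, fun h => b ⟨a, h⟩⟩⟩
      rw [hd, Set.ncard_diff (fun w hw => hw.1), ← Nat.card_coe_set_eq, ← Nat.card_coe_set_eq]
      show Nat.card ↥(P : Subgroup G) - Nat.card ↥((P : Subgroup G) ⊓ M) = _
      omega
    rw [hcomp, ← Nat.card_coe_set_eq]
    have h3 : Nat.card (G ⧸ (P : Subgroup G)) * (Nat.card ↥((P : Subgroup G) ⊓ M) * 2) = Nat.card G := by
      rw [hP2, Subgroup.card_eq_card_quotient_mul_card_subgroup (P : Subgroup G)]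
    have h4 : Nat.card ↥((P : Subgroup G) ⊓ M) * Nat.card (G ⧸ (P : Subgroup G)) ≤
        Nat.card S * Nat.card (G ⧸ (P : Subgroup G)) := by
      rw [mul_comm (Nat.card ↥((P : Subgroup G) ⊓ M))]
      rw [← mul_assoc] at h3
      omega
    exact Nat.le_of_mul_le_mul_right h4 Nat.card_pos
  -- so `P` is abelian
  obtain ⟨hxP, hxM⟩ : x ∈ (P : Subgroup G) ∧ x ∉ M :=
    ⟨hP.symm ▸ Subgroup.mem_centralizer_singleton_iff.mpr rfl, hx⟩
  have hcS : ∀ w ∈ S, ∀ b ∈ (P : Subgroup G), b * w = w * b := fun w hw b hb =>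
    Subgroup.mem_centralizer_singleton_iff.mp (hw.2.2.symm ▸ hb)
  have hcommP : ∀ a ∈ (P : Subgroup G), ∀ b ∈ (P : Subgroup G), b * a = a * b := by
    intro a ha b hb
    by_cases haM : a ∈ M
    · have hxa : x * a ∈ S := hSeq ⟨mul_mem hxP ha, fun h => hxM (by simpa using M.mul_mem h (M.inv_mem haM))⟩
      have h1 := hcS x (hSeq ⟨hxP, hxM⟩) b hb
      have h2 := hcS _ hxa b hb
      rw [← mul_assoc, h1, mul_assoc, mul_assoc] at h2
      exact mul_left_cancel h2
    · exact hcS a (hSeq ⟨ha, haM⟩) b hb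
  have hPco : IsCoatom (P : Subgroup G) := hP.symm ▸ hPmax
  by_cases hNP : Subgroup.normalizer ((P : Subgroup G) : Set G) = ⊤
  · haveI := Subgroup.normalizer_eq_top_iff.mp hNP
    haveI : Group.IsNilpotent (P : Subgroup G) := P.isPGroup'.isNilpotent
    haveI : IsSimpleGroup (G ⧸ (P : Subgroup G)) := by
      haveI : Nontrivial (G ⧸ (P : Subgroup G)) := QuotientGroup.nontrivial_iff.mpr hPco.1
      refine ⟨fun L _ => ?_⟩
      rcases eq_or_ne L ⊥ with hL | hL
      · exact Or.inl hL
      right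
      have hs := QuotientGroup.mk'_surjective (P : Subgroup G)
      have hlt : (P : Subgroup G) < L.comap (QuotientGroup.mk' (P : Subgroup G)) := by
        refine lt_of_le_of_ne (QuotientGroup.le_comap_mk' _ _) fun he => hL ?_
        rw [← Subgroup.map_comap_eq_self_of_surjective hs L, ← he, QuotientGroup.map_mk'_self]
      rw [← Subgroup.map_comap_eq_self_of_surjective hs L, hPco.2 _ hlt, Subgroup.map_top_of_surjective _ hs]
    obtain ⟨r, hr, hrd⟩ := Nat.exists_prime_and_dvd (Finite.one_lt_card (α := G ⧸ (P : Subgroup G))).ne'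
    haveI := Fact.mk hr
    obtain ⟨u, hu⟩ := exists_prime_orderOf_dvd_card' r hrd
    -- all subgroups of the quotient are trivial
    have hall : ∀ L : Subgroup (G ⧸ (P : Subgroup G)), L = ⊥ ∨ L = ⊤ := by
      intro L
      rcases eq_or_ne L ⊥ with hL | hL
      · exact Or.inl hL
      right
      have hs := QuotientGroup.mk'_surjective (P : Subgroup G)
      have hlt : (P : Subgroup G) < L.comap (QuotientGroup.mk' (P : Subgroup G)) := by
        refine lt_of_le_of_ne (QuotientGroup.le_comap_mk' _ _) fun he => hL ?_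
        rw [← Subgroup.map_comap_eq_self_of_surjective hs L, ← he, QuotientGroup.map_mk'_self]
      rw [← Subgroup.map_comap_eq_self_of_surjective hs L, hPco.2 _ hlt, Subgroup.map_top_of_surjective _ hs]
    have hz : Subgroup.zpowers u = ⊤ := (hall _).resolve_left fun h => by
      rw [Subgroup.zpowers_eq_bot] at h
      rw [h, orderOf_one] at hu
      exact hr.ne_one hu.symm
    haveI : IsCyclic (G ⧸ (P : Subgroup G)) := isCyclic_iff_exists_zpowers_eq_top.mpr ⟨u, hz⟩
    exact Group.isSolvable_of_ker_le_range (P : Subgroup G).subtype (QuotientGroup.mk' (P : Subgroup G))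
      (by rw [QuotientGroup.ker_mk', Subgroup.range_subtype])
  · have hself : Subgroup.normalizer ((P : Subgroup G) : Set G) = (P : Subgroup G) := by
      rcases eq_or_lt_of_le (Subgroup.le_normalizer (H := (P : Subgroup G))) with he | hlt
      · exact he.symm
      · exact absurd (hPco.2 _ hlt) hNP
    have hNC : Subgroup.normalizer ((P : Subgroup G) : Set G) ≤ Subgroup.centralizer ((P : Subgroup G) : Set G) := by
      rw [hself]
      exact fun a ha => Subgroup.mem_centralizer_iff.mpr fun b hb => hcommP a ha b hb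
    set K := (MonoidHom.transferSylow P hNC).ker with hK
    have hKcomp : Subgroup.IsComplement' K (P : Subgroup G) := MonoidHom.ker_transferSylow_isComplement' P hNC
    haveI : K.Normal := MonoidHom.normal_ker _
    have hK2 : ¬ 2 ∣ Nat.card K := MonoidHom.not_dvd_card_ker_transferSylow P hNC
    haveI hKs : Group.IsSolvable K := by
      rcases eq_or_ne K ⊥ with hKb | hKb
      · rw [hKb]; infer_instance
      haveI := (Subgroup.nontrivial_iff_ne_bot K).mpr hKb
      obtain ⟨r, hr, hrd⟩ := Nat.exists_prime_and_dvd (Finite.one_lt_card (α := K)).ne'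
      haveI := Fact.mk hr
      obtain ⟨Q, hQ⟩ := CoprimeAction.exists_invariant_sylow (A := (P : Subgroup G)) (K := K)
        (by rw [Subgroup.normalizer_eq_top_iff.mpr inferInstance]; exact le_top)
        (by
          obtain ⟨j, hj⟩ := IsPGroup.iff_card.mp P.isPGroup'
          rw [hj]
          exact (Nat.prime_two.coprime_iff_not_dvd.mpr hK2).pow_left j)
        (Or.inl (by haveI := P.isPGroup'.isNilpotent; infer_instance)) r
      set Q' := (Q : Subgroup K).map K.subtype with hQ'
      have hQne : ¬ Q' ≤ (P : Subgroup G) := by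
        intro hle
        have hb : Q' = ⊥ := le_bot_iff.mp
          ((le_inf (Subgroup.map_subtype_le _) hle).trans (disjoint_iff.mp hKcomp.disjoint).le)
        rw [hQ', Subgroup.map_eq_bot_iff_of_injective _ K.subtype_injective] at hb
        exact Q.ne_bot_of_dvd_card hrd hb
      have htop := hPco.2 _ (left_lt_sup.mpr hQne)
      have hKQ : K ≤ Q' := by
        intro z hz
        have hz' : z ∈ ((P : Subgroup G) ⊔ Q' : Subgroup G) := htop ▸ Subgroup.mem_top z
        rw [← SetLike.mem_coe, Subgroup.coe_mul_of_left_le_normalizer_right _ _ hQ] at hz'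
        obtain ⟨a, ha, b, hb, rfl⟩ := hz'
        have haK : a ∈ K := by
          simpa using K.mul_mem hz (K.inv_mem (Subgroup.map_subtype_le _ hb))
        have : a ∈ K ⊓ (P : Subgroup G) := ⟨haK, ha⟩
        rw [disjoint_iff.mp hKcomp.disjoint, Subgroup.mem_bot] at this
        simpa [this] using hb
      have hKr : IsPGroup r K := (Q.isPGroup'.map K.subtype).to_le hKQ
      haveI := hKr.isNilpotent
      infer_instance
    haveI : Group.IsSolvable (G ⧸ K) := by
      haveI := P.isPGroup'.isNilpotent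
      exact Group.isSolvable_of_surjective (f := (hKcomp.symm.QuotientMulEquiv).symm.toMonoidHom)
        (hKcomp.symm.QuotientMulEquiv).symm.surjective
    exact Group.isSolvable_of_ker_le_range K.subtype (QuotientGroup.mk' K)
      (by rw [QuotientGroup.ker_mk', Subgroup.range_subtype])

/-- Let N be a proper normal subgroup of the finite group G such that every element x of G outside N has prime power order and has centralizer C_G(x) a maximal subgroup of G. Then N is solvable. -/
theorem result {G : Type*} [Group G] [Finite G] (N : Subgroup G) [N.Normal] (hN : N ≠ ⊤)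
    (h : ∀ x : G, x ∉ N → IsPrimePow (orderOf x) ∧ IsCoatom (Subgroup.centralizer ({x} : Set G))) : Group.IsSolvable ↥N := by
  classical
  obtain ⟨x0, -, hx0⟩ := SetLike.exists_of_lt hN.lt_top
  -- centralisers outside `N` are Sylow subgroups
  have key : ∀ x : G, x ∉ N → ∃ p : ℕ, p.Prime ∧ (∃ k, orderOf x = p ^ k) ∧
      IsPGroup p (Subgroup.centralizer ({x} : Set G)) := by
    intro x hx
    obtain ⟨p, k, hp, hk, hpk⟩ := (isPrimePow_nat_iff _).mp (h x hx).1
    refine ⟨p, hp, ⟨k, hpk.symm⟩, ?_⟩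
    haveI := Fact.mk hp
    intro ⟨y, hy⟩
    have hc : Commute x y := (Subgroup.mem_centralizer_singleton_iff.mp hy).symm
    by_contra hcon
    obtain ⟨s, hs, hsy, hsp⟩ : ∃ s : ℕ, s.Prime ∧ s ∣ orderOf y ∧ s ≠ p := by
      by_contra hh
      push Not at hh
      apply hcon
      refine ⟨(orderOf y).primeFactorsList.length, Subtype.ext ?_⟩
      show y ^ p ^ _ = 1
      rw [← Nat.eq_prime_pow_of_unique_prime_dvd (orderOf_pos y).ne' (fun {d} hd hdd => hh d hd hdd), pow_orderOf_eq_one]
    set u := y ^ (orderOf y / s) with hu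
    have hus : orderOf u = s := orderOf_pow_orderOf_div (orderOf_pos y).ne' hsy
    have hxu : Commute x u := hc.pow_right _
    have hcop : (orderOf x).Coprime (orderOf u) := by
      rw [hus, ← hpk]
      exact ((Nat.coprime_primes hp hs).mpr hsp.symm).pow_left k
    by_cases hxuN : x * u ∈ N
    · apply hx
      have h1 : x ^ orderOf u ∈ N := by
        have := N.pow_mem hxuN (orderOf u)
        rwa [hxu.mul_pow, pow_orderOf_eq_one, mul_one] at this
      obtain ⟨m, hm⟩ := exists_pow_eq_self_of_coprime (x := x) (n := orderOf u) hcop.symm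
      rw [← hm]
      exact N.pow_mem h1 m
    · have ho := (h _ hxuN).1
      rw [hxu.orderOf_mul_eq_mul_orderOf_of_coprime hcop, hus, ← hpk] at ho
      obtain ⟨r, l, hr, -, hrl⟩ := (isPrimePow_nat_iff _).mp ho
      have h1 : p ∣ r ^ l := hrl ▸ (dvd_pow_self p hk.ne').mul_right s
      have h2 : s ∣ r ^ l := hrl ▸ dvd_mul_left s (p ^ k)
      exact hsp (((Nat.prime_dvd_prime_iff_eq hs hr).mp (hs.dvd_of_dvd_pow h2)).trans
        ((Nat.prime_dvd_prime_iff_eq hp hr).mp (hp.dvd_of_dvd_pow h1)).symm)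
  by_cases hodd : ∃ x : G, x ∉ N ∧ Odd (orderOf x)
  · obtain ⟨x, hx, hxo⟩ := hodd
    obtain ⟨p, hp, ⟨k, hk⟩, hpc⟩ := key x hx
    haveI := Fact.mk hp
    have hp2 : p ≠ 2 := by
      rintro rfl
      rcases Nat.eq_zero_or_pos k with rfl | hk0
      · exact hx (by rw [pow_zero, orderOf_eq_one_iff] at hk; rw [hk]; exact one_mem N)
      · exact Nat.not_even_iff_odd.mpr hxo (hk ▸ (even_two.pow_of_ne_zero hk0.ne'))
    obtain ⟨j, hj⟩ := IsPGroup.iff_card.mp hpc
    haveI : Group.IsSolvable G := NilpotentMaximal.isSolvable_of_odd_nilpotent_maximal _ G rfl _ (h x hx).2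
      hpc.isNilpotent (hj ▸ (hp.odd_of_ne_two hp2).pow)
    infer_instance
  push Not at hodd
  -- all elements outside `N` are `2`-elements
  haveI : Fact (Nat.Prime 2) := ⟨Nat.prime_two⟩
  have key2 : ∀ x : G, x ∉ N → (∃ k, orderOf x = 2 ^ k) ∧ IsPGroup 2 (Subgroup.centralizer ({x} : Set G)) := by
    intro x hx
    obtain ⟨p, hp, ⟨k, hk⟩, hpc⟩ := key x hx
    have : p = 2 := by
      by_contra hp2
      exact hodd x hx (hk ▸ (hp.odd_of_ne_two hp2).pow)
    subst this
    exact ⟨⟨k, hk⟩, hpc⟩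
  have hsyl : ∀ x : G, x ∉ N → (∀ g : G, ∃ j : ℕ, g ^ 2 ^ j = 1) ∨
      ∃ P : Sylow 2 G, (P : Subgroup G) = Subgroup.centralizer ({x} : Set G) := by
    intro x hx
    obtain ⟨P, hP⟩ := (key2 x hx).2.exists_le_sylow
    rcases eq_or_ne (P : Subgroup G) ⊤ with htop | htop
    · exact Or.inl fun g => (P.isPGroup' ⟨g, htop ▸ Subgroup.mem_top g⟩).imp fun j hj => congrArg Subtype.val hj
    · refine Or.inr ⟨P, (eq_or_lt_of_le hP).elim Eq.symm fun hlt => absurd ((h x hx).2.2 _ hlt) htop⟩
  by_cases h2G : ∀ g : G, ∃ j : ℕ, g ^ 2 ^ j = 1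
  · haveI : Group.IsNilpotent G := IsPGroup.isNilpotent (p := 2) h2G
    infer_instance
  have hsyl' : ∀ x : G, x ∉ N → ∃ P : Sylow 2 G, (P : Subgroup G) = Subgroup.centralizer ({x} : Set G) :=
    fun x hx => (hsyl x hx).resolve_left h2G
  haveI : Group.IsSolvable G := solvable_of_two N hN (fun x hx => (key2 x hx).1) (fun x hx => ⟨hsyl' x hx, (h x hx).2⟩)
  infer_instance

end Cfsg.Agent.S3903
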