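import Mathlib
import Cfsg.Agent.Lib.CharInducedTI
import Cfsg.Agent.Lib.CoprimeAction
import Cfsg.Agent.Lib.FrobeniusBasic
import Cfsg.Agent.Lib.GlaubermanCount
import Cfsg.Agent.Lib.NilpotentMaximal
import Cfsg.Agent.Lib.PGroupsBasic
import Cfsg.Statements.S3904
-- import your own Cfsg.Agent.* helpers here

set_option autoImplicit false
open Cfsg

namespace Cfsg.Agent.S3904

open scoped Pointwise commutatorElement

variable {G : Type*} [Group G] [Finite G]

local notation "Z" => Subgroup.center G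

/-- Comparable centralisers of noncentral elements are equal. -/
theorem centralizer_eq_of_le (h : ∀ x : G, x ∉ Z → IsCoatom (Subgroup.centralizer ({x} : Set G))) {x y : G}
    (hx : x ∉ Z) (hy : y ∉ Z) (hle : Subgroup.centralizer ({x} : Set G) ≤ Subgroup.centralizer ({y} : Set G)) :
    Subgroup.centralizer ({x} : Set G) = Subgroup.centralizer ({y} : Set G) := by
  rcases eq_or_lt_of_le hle with e | e
  · exact e
  · exact absurd ((h x hx).2 _ e) (h y hy).1

/-- The centraliser of `x` lies in that of `y` when `y` is a power of `x` times a central element. -/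
theorem centralizer_le_pow (x : G) (k : ℕ) :
    Subgroup.centralizer ({x} : Set G) ≤ Subgroup.centralizer ({x ^ k} : Set G) := fun g hg => by
  rw [Subgroup.mem_centralizer_singleton_iff] at hg ⊢
  exact (Commute.pow_right hg k).eq

/-- A nonabelian centraliser has exponent a prime modulo the centre. -/
theorem exists_prime_exponent (h : ∀ x : G, x ∉ Z → IsCoatom (Subgroup.centralizer ({x} : Set G))) {x : G}
    (hx : x ∉ Z) {a b : G} (ha : a ∈ Subgroup.centralizer ({x} : Set G)) (hb : b ∈ Subgroup.centralizer ({x} : Set G))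
    (hab : a * b ≠ b * a) : ∃ r : ℕ, r.Prime ∧ ∀ g ∈ Subgroup.centralizer ({x} : Set G), g ^ r ∈ Z := by
  -- a power of `x` of prime order modulo the centre
  have hx1 : (x : G ⧸ Z) ≠ 1 := fun e => hx ((QuotientGroup.eq_one_iff x).mp e)
  obtain ⟨r, hr, hrd⟩ := Nat.exists_prime_and_dvd (fun e => hx1 (orderOf_eq_one_iff.mp e) : orderOf (x : G ⧸ Z) ≠ 1)
  set k := orderOf (x : G ⧸ Z) / r with hk
  have hord : orderOf ((x : G ⧸ Z) ^ k) = r := orderOf_pow_orderOf_div (orderOf_pos _).ne' hrd
  set y := x ^ k with hy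
  have hyZ : y ∉ Z := fun e => by
    rw [← QuotientGroup.mk_pow, (QuotientGroup.eq_one_iff y).mpr e, orderOf_one] at hord
    exact hr.ne_one hord.symm
  have hyr : y ^ r ∈ Z := by
    rw [← QuotientGroup.eq_one_iff, QuotientGroup.mk_pow, hy, QuotientGroup.mk_pow, ← hord, pow_orderOf_eq_one]
  rw [centralizer_eq_of_le h hx hyZ (centralizer_le_pow x k)] at ha hb ⊢
  refine ⟨r, hr, ?_⟩
  -- elements whose centraliser differs
  have key : ∀ w ∈ Subgroup.centralizer ({y} : Set G), w ∉ Z →
      Subgroup.centralizer ({w} : Set G) ≠ Subgroup.centralizer ({y} : Set G) → w ^ r ∈ Z := by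
    intro w hw hwZ hne
    have hc : Commute y w := (Subgroup.mem_centralizer_singleton_iff.mp hw).symm
    have hyw : y * w ∉ Z := by
      intro e
      refine hne (centralizer_eq_of_le h hwZ hyZ fun g hg => ?_)
      rw [Subgroup.mem_centralizer_singleton_iff] at hg ⊢
      have h1 := Subgroup.mem_center_iff.mp e g
      rw [← mul_assoc, mul_assoc y w g, ← hg, ← mul_assoc] at h1
      exact mul_right_cancel h1
    by_contra hwr
    apply hne
    have h1 : Subgroup.centralizer ({w} : Set G) = Subgroup.centralizer ({w ^ r} : Set G) :=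
      centralizer_eq_of_le h hwZ hwr (centralizer_le_pow w r)
    have h2 : Subgroup.centralizer ({y * w} : Set G) = Subgroup.centralizer ({w ^ r} : Set G) := by
      refine centralizer_eq_of_le h hyw hwr fun g hg => ?_
      have h3 := centralizer_le_pow (y * w) r hg
      rw [Subgroup.mem_centralizer_singleton_iff, hc.mul_pow] at h3
      rw [Subgroup.mem_centralizer_singleton_iff]
      have h4 := Subgroup.mem_center_iff.mp hyr g
      rw [← mul_assoc, h4, mul_assoc, mul_assoc] at h3
      exact mul_left_cancel h3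
    refine centralizer_eq_of_le h hwZ hyZ fun g hg => ?_
    have h3 : g ∈ Subgroup.centralizer ({y * w} : Set G) := by rw [h2, ← h1]; exact hg
    rw [Subgroup.mem_centralizer_singleton_iff] at h3 hg ⊢
    rw [← mul_assoc, mul_assoc y w g, ← hg, ← mul_assoc] at h3
    exact mul_right_cancel h3
  obtain ⟨w0, hw0, hw0Z, hw0ne⟩ : ∃ w ∈ Subgroup.centralizer ({y} : Set G), w ∉ Z ∧
      Subgroup.centralizer ({w} : Set G) ≠ Subgroup.centralizer ({y} : Set G) := by
    refine ⟨b, hb, fun e => hab (Subgroup.mem_center_iff.mp e a), fun e => hab ?_⟩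
    rw [← e] at ha
    exact Subgroup.mem_centralizer_singleton_iff.mp ha
  intro g hg
  by_cases hgc : ∀ u ∈ Subgroup.centralizer ({y} : Set G), u * g = g * u
  · have h1 : w0 * g ∉ Z := fun e => hw0ne (centralizer_eq_of_le h hyZ hw0Z fun u hu => by
      rw [Subgroup.mem_centralizer_singleton_iff]
      have h2 := Subgroup.mem_center_iff.mp e u
      rw [← mul_assoc, mul_assoc w0 g u, ← hgc u hu, ← mul_assoc] at h2
      exact mul_right_cancel h2).symm
    have h2 : Subgroup.centralizer ({w0 * g} : Set G) ≠ Subgroup.centralizer ({y} : Set G) := by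
      intro e
      refine hw0ne (centralizer_eq_of_le h hyZ hw0Z fun u hu => ?_).symm
      have h3 : u ∈ Subgroup.centralizer ({w0 * g} : Set G) := e ▸ hu
      rw [Subgroup.mem_centralizer_singleton_iff] at h3 ⊢
      rw [← mul_assoc, mul_assoc w0 g u, ← hgc u hu, ← mul_assoc] at h3
      exact mul_right_cancel h3
    have h3 := key _ (mul_mem hw0 hg) h1 h2
    rw [Commute.mul_pow (hgc w0 hw0)] at h3
    simpa using mul_mem (inv_mem (key w0 hw0 hw0Z hw0ne)) h3
  · push Not at hgc
    obtain ⟨u, hu, hug⟩ := hgc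
    refine key g hg (fun e => hug (Subgroup.mem_center_iff.mp e u)) fun e => hug ?_
    rw [← e] at hu
    exact Subgroup.mem_centralizer_singleton_iff.mp hu

/-- An abelian non-normal centraliser gives a minimal nonabelian central quotient. -/
theorem frobenius_case (h : ∀ x : G, x ∉ Z → IsCoatom (Subgroup.centralizer ({x} : Set G))) {x : G}
    (hx : x ∉ Z) (hab : ∀ a ∈ Subgroup.centralizer ({x} : Set G), ∀ b ∈ Subgroup.centralizer ({x} : Set G), a * b = b * a)
    (hnn : ¬ (Subgroup.centralizer ({x} : Set G)).Normal) :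
    ¬ IsMulCommutative (G ⧸ Z) ∧ (∀ H : Subgroup (G ⧸ Z), H ≠ ⊤ → IsMulCommutative ↥H) ∧
      ∃ p q a : ℕ, p.Prime ∧ q.Prime ∧ p ≠ q ∧ Nat.card (G ⧸ Z) = p ^ a * q ∧
        ∀ P : Subgroup (G ⧸ Z), Nat.card ↥P = p ^ a → P.Normal := by
  set M := Subgroup.centralizer ({x} : Set G) with hM
  set π := QuotientGroup.mk' Z with hπ
  have hsur : Function.Surjective π := QuotientGroup.mk'_surjective _
  have hZC : ∀ y : G, Z ≤ Subgroup.centralizer ({y} : Set G) := fun y g hg =>
    Subgroup.mem_centralizer_singleton_iff.mpr (Subgroup.mem_center_iff.mp hg y).symm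
  have hcm : (M.map π).comap π = M := by
    rw [Subgroup.comap_map_eq, hπ, QuotientGroup.ker_mk', sup_eq_left.mpr (hZC x)]
  have hxM : x ∈ M := Subgroup.mem_centralizer_singleton_iff.mpr rfl
  have hself : ∀ g : G, (∀ u ∈ M, g * u * g⁻¹ ∈ M) → g ∈ M := by
    intro g hg
    have hN : Subgroup.normalizer (M : Set G) = M := by
      rcases eq_or_lt_of_le (Subgroup.le_normalizer (H := M)) with e | e
      · exact e.symm
      · exact absurd (Subgroup.normalizer_eq_top_iff.mp ((h x hx).2 _ e)) hnn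
    rw [← hN]
    refine CoprimeAction.mem_normalizer_of_conj_smul_eq (Subgroup.eq_of_le_of_card_ge ?_ (CoprimeSZ.card_conj_smul g M).ge)
    rintro _ ⟨u, hu, rfl⟩
    exact hg u hu
  have hFC : Cfsg.IsFrobeniusComplement (M.map π) := by
    refine FrobeniusBasic.isFrobeniusComplement_of_ti (fun e => hx ?_) (fun e => ?_) fun g' u' hu' hu1 hgu => ?_
    · have hm : π x ∈ M.map π := Subgroup.mem_map_of_mem π hxM
      rw [e, Subgroup.mem_bot] at hm
      exact (QuotientGroup.eq_one_iff x).mp hm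
    · exact (h x hx).1 (show M = ⊤ by rw [← hcm, e, Subgroup.comap_top])
    obtain ⟨u, hu, rfl⟩ := hu'
    obtain ⟨g, rfl⟩ := hsur g'
    have huZ : u ∉ Z := fun e => hu1 ((QuotientGroup.eq_one_iff u).mpr e)
    rw [← map_inv, ← map_mul, ← map_mul, ← Subgroup.mem_comap, hcm] at hgu
    have hCu : Subgroup.centralizer ({u} : Set G) = M :=
      (centralizer_eq_of_le h hx huZ fun w hw =>
        Subgroup.mem_centralizer_singleton_iff.mpr (hab w hw u hu)).symm
    refine Subgroup.mem_map_of_mem π (hself g fun w hw => ?_)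
    rw [← hCu, Subgroup.mem_centralizer_singleton_iff]
    have h1 := hab _ hgu w hw
    calc g * w * g⁻¹ * u = g * (w * (g⁻¹ * u * g)) * g⁻¹ := by group
      _ = g * ((g⁻¹ * u * g) * w) * g⁻¹ := by rw [h1]
      _ = u * (g * w * g⁻¹) := by group
  haveI : Fintype (G ⧸ Subgroup.center G) := Fintype.ofFinite _
  obtain ⟨K, hKset, hKn, hKc⟩ := CharInduced.frobenius_kernel_subgroup hFC
  haveI := hKn
  have hKne := FrobeniusBasic.kernel_ne_bot hFC hKset
  have hKtop : K.comap π ≠ ⊤ := by
    intro e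
    apply hFC.1
    have hK' : K = ⊤ := by rw [← Subgroup.map_comap_eq_self_of_surjective hsur K, e, Subgroup.map_top_of_surjective π hsur]
    have := hKc.disjoint
    rw [hK', top_disjoint] at this
    exact this
  have hcent : ∀ k ∈ K.comap π, k ∉ Z → Subgroup.centralizer ({k} : Set G) = K.comap π := by
    intro k hk hkZ
    have hk1 : π k ≠ 1 := fun e => hkZ ((QuotientGroup.eq_one_iff k).mp e)
    have hle : Subgroup.centralizer ({k} : Set G) ≤ K.comap π := by
      intro g hg
      rw [Subgroup.mem_comap, ← SetLike.mem_coe, hKset]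
      refine or_iff_not_imp_left.mpr fun hg1 c hc => hk1 ?_
      have hcom : π k * π g = π g * π k := by
        rw [← map_mul, ← map_mul, ← Subgroup.mem_centralizer_singleton_iff.mp hg]
      have h2 : π k ∈ MulAut.conj c • M.map π :=
        FrobeniusBasic.centralizer_le (FrobeniusBasic.conj_smul hFC c) hc hg1 (Subgroup.mem_centralizer_singleton_iff.mpr hcom)
      have h3 : π k ∈ Cfsg.frobeniusKernel (M.map π) := by rw [← hKset]; exact hk
      rcases h3 with h3 | h3
      · exact h3
      · exact absurd h2 (h3 c)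
    rcases eq_or_lt_of_le hle with e | e
    · exact e
    · exact absurd ((h k hkZ).2 _ e) hKtop
  have hKab : ∀ a ∈ K.comap π, ∀ b ∈ K.comap π, a * b = b * a := by
    intro a ha b hb
    by_cases hbZ : b ∈ Z
    · exact Subgroup.mem_center_iff.mp hbZ a
    rw [← hcent b hb hbZ] at ha
    exact Subgroup.mem_centralizer_singleton_iff.mp ha
  obtain ⟨k0', hk0', hk01⟩ := (Subgroup.bot_or_exists_ne_one K).resolve_left hKne
  obtain ⟨k0, rfl⟩ := hsur k0'
  have hk0Z : k0 ∉ Z := fun e => hk01 ((QuotientGroup.eq_one_iff k0).mpr e)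
  have hKco : IsCoatom K := by
    have hco := hcent k0 hk0' hk0Z ▸ h k0 hk0Z
    refine ⟨fun e => hKtop (by rw [e, Subgroup.comap_top]), fun L hL => ?_⟩
    rw [← Subgroup.map_comap_eq_self_of_surjective hsur L,
      hco.2 _ ((Subgroup.comap_lt_comap_of_surjective hsur).mpr hL), Subgroup.map_top_of_surjective π hsur]
  have hMco : IsCoatom (M.map π) := by
    refine ⟨hFC.2.1, fun L hL => ?_⟩
    have hlt : M < L.comap π := by rw [← hcm]; exact (Subgroup.comap_lt_comap_of_surjective hsur).mpr hL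
    rw [← Subgroup.map_comap_eq_self_of_surjective hsur L, (h x hx).2 _ hlt, Subgroup.map_top_of_surjective π hsur]
  -- the complement has prime order
  haveI hMnt : Nontrivial (M.map π) := (Subgroup.nontrivial_iff_ne_bot _).mpr hFC.1
  obtain ⟨q, hq, hqd⟩ := Nat.exists_prime_and_dvd (Finite.one_lt_card (α := M.map π)).ne'
  haveI := Fact.mk hq
  obtain ⟨u, hu⟩ := exists_prime_orderOf_dvd_card' q hqd
  have hu1 : (u : G ⧸ Z) ≠ 1 := fun e => by
    rw [← Subgroup.orderOf_coe, e, orderOf_one] at hu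
    exact hq.ne_one hu.symm
  have huK : (u : G ⧸ Z) ∉ K := fun e => hu1 (Subgroup.disjoint_def.mp hKc.disjoint e u.2)
  have hKu : K ⊔ Subgroup.zpowers (u : G ⧸ Z) = ⊤ :=
    hKco.2 _ (lt_of_le_of_ne le_sup_left fun e => huK (e.symm ▸ Subgroup.mem_sup_right (Subgroup.mem_zpowers _)))
  have hMz : M.map π = Subgroup.zpowers (u : G ⧸ Z) := by
    refine le_antisymm (fun v hv => ?_) ((Subgroup.zpowers_le).mpr u.2)
    obtain ⟨k, hk, z, hz, rfl⟩ := Subgroup.mem_sup_of_normal_left.mp (hKu ▸ Subgroup.mem_top v)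
    have hz' : z ∈ M.map π := (Subgroup.zpowers_le).mpr u.2 hz
    have : k = 1 := Subgroup.disjoint_def.mp hKc.disjoint hk (by simpa using mul_mem hv (inv_mem hz'))
    simpa [this] using hz
  have hMcard : Nat.card (M.map π) = q := by rw [hMz, Nat.card_zpowers, Subgroup.orderOf_coe, hu]
  -- the kernel is elementary abelian
  have hKmin : ∀ L : Subgroup (G ⧸ Z), L ≤ K → (u : G ⧸ Z) ∈ Subgroup.normalizer (L : Set (G ⧸ Z)) → L = ⊥ ∨ L = K := by
    intro L hLK huL
    rcases eq_or_ne L ⊥ with e | e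
    · exact Or.inl e
    right
    have hML : M.map π ≤ Subgroup.normalizer (L : Set (G ⧸ Z)) := hMz ▸ (Subgroup.zpowers_le).mpr huL
    have htop : L ⊔ M.map π = ⊤ := hMco.2 _ (lt_of_le_of_ne le_sup_right fun he => e (by
      rw [eq_bot_iff]
      have : L ≤ M.map π := he ▸ le_sup_left
      exact fun l hl => Subgroup.mem_bot.mpr (Subgroup.disjoint_def.mp hKc.disjoint (hLK hl) (this hl))))
    refine le_antisymm hLK fun k hk => ?_
    have hk' : k ∈ ((L ⊔ M.map π : Subgroup (G ⧸ Z)) : Set (G ⧸ Z)) := by rw [htop]; trivial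
    rw [Subgroup.coe_mul_of_right_le_normalizer_left _ _ hML] at hk'
    obtain ⟨l, hl, m, hm, rfl⟩ := hk'
    have : m = 1 := Subgroup.disjoint_def.mp hKc.disjoint (by simpa using mul_mem (inv_mem (hLK hl)) hk) hm
    simpa [this] using hl
  haveI := (Subgroup.nontrivial_iff_ne_bot K).mpr hKne
  obtain ⟨p, hp, hpd⟩ := Nat.exists_prime_and_dvd (Finite.one_lt_card (α := K)).ne'
  haveI := Fact.mk hp
  have hKcomm : ∀ a ∈ K, ∀ b ∈ K, a * b = b * a := by
    intro a ha b hb
    obtain ⟨a', rfl⟩ := hsur a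
    obtain ⟨b', rfl⟩ := hsur b
    rw [← map_mul, ← map_mul, hKab a' ha b' hb]
  let T : Subgroup (G ⧸ Z) :=
    { carrier := {t | t ∈ K ∧ t ^ p = 1}
      one_mem' := ⟨one_mem _, one_pow p⟩
      mul_mem' := fun {a b} ha hb => ⟨mul_mem ha.1 hb.1, by
        rw [Commute.mul_pow (hKcomm a ha.1 b hb.1), ha.2, hb.2, one_mul]⟩
      inv_mem' := fun {a} ha => ⟨inv_mem ha.1, by rw [inv_pow, ha.2, inv_one]⟩ }
  have hTK : T = K := by
    refine (hKmin T (fun t ht => ht.1) ?_).resolve_left fun e => ?_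
    · refine Subgroup.mem_normalizer_iff.mpr fun t => ?_
      refine ⟨fun ht => ⟨hKn.conj_mem t ht.1 _, by rw [conj_pow, ht.2]; simp⟩, fun ht => ⟨?_, ?_⟩⟩
      · simpa [mul_assoc] using hKn.conj_mem _ ht.1 (u : G ⧸ Z)⁻¹
      · have h2 := ht.2
        rw [conj_pow] at h2
        simpa using h2
    · obtain ⟨t, ht⟩ := exists_prime_orderOf_dvd_card' p hpd
      have hmem : (t : G ⧸ Z) ∈ T := ⟨t.2, by rw [← ht, ← Subgroup.orderOf_coe, pow_orderOf_eq_one]⟩
      rw [e, Subgroup.mem_bot] at hmem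
      rw [← Subgroup.orderOf_coe, hmem, orderOf_one] at ht
      exact hp.ne_one ht.symm
  have hKp : IsPGroup p K := fun t => ⟨1, by
    have := (hTK.symm ▸ t.2 : (t : G ⧸ Z) ∈ T).2
    exact Subtype.ext (by simpa using this)⟩
  obtain ⟨a, ha⟩ := IsPGroup.iff_card.mp hKp
  have hcard : Nat.card (G ⧸ Z) = p ^ a * q := by rw [← ha, ← hMcard]; exact hKc.card_mul.symm
  have hpq : p ≠ q := by
    rintro rfl
    have h1 := FrobeniusBasic.coprime_card_index hFC
    rw [hMcard, hKc.index_eq_card, ha] at h1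
    refine hq.ne_one (h1.eq_one_of_dvd (dvd_pow_self _ fun e => hKne ?_))
    exact Subgroup.card_eq_one.mp (by rw [ha, e, pow_zero])
  refine ⟨fun hc => ?_, fun H hH => ?_, p, q, a, hp, hq, hpq, hcard, fun P hP => ?_⟩
  · apply hnn
    rw [← hcm]
    exact Subgroup.Normal.comap ⟨fun v hv g => by
      have h1 : g * v = v * g := hc.is_comm.comm g v
      rw [h1, mul_inv_cancel_right]
      exact hv⟩ π
  · rcases eq_or_ne (H ⊓ K) ⊥ with e | e
    · have hinj : Function.Injective ((QuotientGroup.mk' K).comp H.subtype) := by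
        rw [← MonoidHom.ker_eq_bot_iff, eq_bot_iff]
        intro v hv
        have h1 : (v : G ⧸ Z) ∈ H ⊓ K := ⟨v.2, (QuotientGroup.eq_one_iff _).mp hv⟩
        rw [e, Subgroup.mem_bot] at h1
        exact Subgroup.mem_bot.mpr (Subtype.ext h1)
      haveI : IsCyclic ((G ⧸ Z) ⧸ K) := isCyclic_of_prime_card (p := q) (by
        rw [← Subgroup.index_eq_card, hKc.symm.index_eq_card, hMcard])
      exact (isCyclic_of_injective _ hinj).isMulCommutative
    · have hle : H ≤ K := by
        by_contra hn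
        obtain ⟨v, hv, hvK⟩ := Set.not_subset.mp hn
        apply hH
        have hKv : K ⊔ H = ⊤ := hKco.2 _ (lt_of_le_of_ne le_sup_left fun e' => hvK (e'.symm ▸ Subgroup.mem_sup_right hv))
        have hNorm : Subgroup.normalizer ((H ⊓ K : Subgroup (G ⧸ Z)) : Set (G ⧸ Z)) = ⊤ := by
          rw [← top_le_iff, ← hKv, sup_le_iff]
          constructor
          · intro k hk
            refine Subgroup.mem_normalizer_iff.mpr fun t => ?_
            constructor
            · intro ht
              rw [hKcomm k hk t ht.2, mul_inv_cancel_right]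
              exact ht
            · intro ht
              have h1 : t ∈ K := by simpa [mul_assoc] using hKn.conj_mem _ ht.2 k⁻¹
              rw [hKcomm k hk t h1, mul_inv_cancel_right] at ht
              exact ht
          · refine le_trans ?_ (Subgroup.inf_normalizer_le_normalizer_inf (H := H) (K := K))
            exact le_inf Subgroup.le_normalizer (by rw [Subgroup.normalizer_eq_top_iff.mpr hKn]; exact le_top)
        have hK' : H ⊓ K = K := (hKmin _ inf_le_right (hNorm ▸ Subgroup.mem_top _)).resolve_left e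
        rw [← hKv, sup_eq_right.mpr (inf_eq_right.mp hK')]
      exact ⟨⟨fun v w => Subtype.ext (hKcomm v (hle v.2) w (hle w.2))⟩⟩
  · have hPK : P ≤ K := by
      intro v hv
      have hP' : orderOf v ∣ p ^ a := hP ▸ Subgroup.orderOf_dvd_natCard P hv
      rw [← QuotientGroup.eq_one_iff, ← orderOf_eq_one_iff]
      have h1 : orderOf ((v : (G ⧸ Z) ⧸ K)) ∣ q := by
        have := orderOf_dvd_natCard (v : (G ⧸ Z) ⧸ K)
        rwa [← Subgroup.index_eq_card, hKc.symm.index_eq_card, hMcard] at this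
      exact Nat.eq_one_of_dvd_coprimes (((Nat.coprime_primes hp hq).mpr hpq).pow_left a)
        ((orderOf_map_dvd (QuotientGroup.mk' K) v).trans hP') h1
    rw [Subgroup.eq_of_le_of_card_ge hPK (by rw [ha, hP])]
    exact hKn

/-- Let G be a non-abelian finite group in which the centralizer of every non-central element is a maximal subgroup. Then G/Z(G) is either an elementary abelian p-group for some prime p, or a minimal non-abelian group (non-abelian with all proper subgroups abelian) of order p^a · q for distinct primes p, q with a normal Sylow p-subgroup. -/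
theorem result {G : Type*} [Group G] [Finite G] (hna : ¬ IsMulCommutative G)
    (h : ∀ x : G, x ∉ Subgroup.center G → IsCoatom (Subgroup.centralizer ({x} : Set G))) :
    (∃ p : ℕ, p.Prime ∧ Cfsg.IsElementaryAbelian p (⊤ : Subgroup (G ⧸ Subgroup.center G))) ∨
    (¬ IsMulCommutative (G ⧸ Subgroup.center G) ∧ (∀ H : Subgroup (G ⧸ Subgroup.center G), H ≠ ⊤ → IsMulCommutative ↥H) ∧
      ∃ p q a : ℕ, p.Prime ∧ q.Prime ∧ p ≠ q ∧ Nat.card (G ⧸ Subgroup.center G) = p ^ a * q ∧
        ∀ P : Subgroup (G ⧸ Subgroup.center G), Nat.card ↥P = p ^ a → P.Normal) := by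
  classical
  set π := QuotientGroup.mk' (Subgroup.center G) with hπ
  have hsur : Function.Surjective π := QuotientGroup.mk'_surjective _
  have hZC : ∀ y : G, Subgroup.center G ≤ Subgroup.centralizer ({y} : Set G) := fun y g hg =>
    Subgroup.mem_centralizer_singleton_iff.mpr (Subgroup.mem_center_iff.mp hg y).symm
  have hcm : ∀ y : G, ((Subgroup.centralizer ({y} : Set G)).map π).comap π = Subgroup.centralizer ({y} : Set G) := fun y => by
    rw [Subgroup.comap_map_eq, hπ, QuotientGroup.ker_mk', sup_eq_left.mpr (hZC y)]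
  have hone : ∀ y : G, π y = 1 ↔ y ∈ Subgroup.center G := fun y => QuotientGroup.eq_one_iff y
  have hco : ∀ y : G, y ∉ Subgroup.center G → IsCoatom ((Subgroup.centralizer ({y} : Set G)).map π) := by
    intro y hy
    refine ⟨fun e => (h y hy).1 (by rw [← hcm y, e, Subgroup.comap_top]), fun L hL => ?_⟩
    have hlt : Subgroup.centralizer ({y} : Set G) < L.comap π := by
      rw [← hcm y]; exact (Subgroup.comap_lt_comap_of_surjective hsur).mpr hL
    rw [← Subgroup.map_comap_eq_self_of_surjective hsur L, (h y hy).2 _ hlt, Subgroup.map_top_of_surjective π hsur]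
  by_cases hA : ∃ x : G, x ∉ Subgroup.center G ∧ ¬ (Subgroup.centralizer ({x} : Set G)).Normal ∧
      ∀ a ∈ Subgroup.centralizer ({x} : Set G), ∀ b ∈ Subgroup.centralizer ({x} : Set G), a * b = b * a
  · obtain ⟨x, hx, hnn, hab⟩ := hA
    exact Or.inr (frobenius_case h hx hab hnn)
  push Not at hA
  left
  have hex : ∃ x : G, x ∉ Subgroup.center G := by
    by_contra hh
    push Not at hh
    exact hna ⟨⟨fun a b => Subgroup.mem_center_iff.mp (hh b) a⟩⟩
  obtain ⟨x0, hx0⟩ := hex
  haveI : Nontrivial (G ⧸ Subgroup.center G) := nontrivial_of_ne (π x0) 1 fun e => hx0 ((hone x0).mp e)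
  -- `G` is nonabelian, so the central quotient is not cyclic
  have hncyc : ¬ IsCyclic (G ⧸ Subgroup.center G) := fun hc => hna
    (MonoidHom.isMulCommutative_of_isCyclic_of_ker_le_center (QuotientGroup.mk' (Subgroup.center G))
      (QuotientGroup.ker_mk' _).le)
  -- an abelian quotient of prime exponent
  have hfin : (∀ a b : G ⧸ Subgroup.center G, a * b = b * a) → ∀ r : ℕ, r.Prime →
      (∀ v : G ⧸ Subgroup.center G, v ^ r = 1) →
      ∃ p : ℕ, p.Prime ∧ Cfsg.IsElementaryAbelian p (⊤ : Subgroup (G ⧸ Subgroup.center G)) :=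
    fun hc r hr he => ⟨r, hr, ⟨⟨fun a b => Subtype.ext (hc a b)⟩⟩, fun v _ => he v⟩
  -- normal maximal subgroups have prime index
  have hidx : ∀ L : Subgroup (G ⧸ Subgroup.center G), IsCoatom L → L.Normal →
      ∀ W : Subgroup (G ⧸ Subgroup.center G), W ⊓ L = ⊥ → W ≠ ⊥ →
      IsCyclic W ∧ (Nat.card W).Prime ∧ L ⊔ W = ⊤ := by
    intro L hL hLn W hWL hW
    have hinj : Function.Injective ((QuotientGroup.mk' L).comp W.subtype) := by
      rw [← MonoidHom.ker_eq_bot_iff, eq_bot_iff]
      intro v hv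
      have h1 : (v : G ⧸ Subgroup.center G) ∈ W ⊓ L := ⟨v.2, (QuotientGroup.eq_one_iff _).mp hv⟩
      rw [hWL, Subgroup.mem_bot] at h1
      exact Subgroup.mem_bot.mpr (Subtype.ext h1)
    have htop : L ⊔ W = ⊤ := hL.2 _ (lt_of_le_of_ne le_sup_left fun e => hW (by
      rw [← hWL]; exact (inf_eq_left.mpr (e ▸ le_sup_right)).symm))
    have hs := QuotientGroup.mk'_surjective L
    obtain ⟨w, hwmem, hw⟩ : ∃ v, v ∉ L ∧ ∀ U : Subgroup ((G ⧸ Subgroup.center G) ⧸ L),
        QuotientGroup.mk' L v ∈ U → U = ⊤ := by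
      obtain ⟨v, -, hv⟩ := SetLike.exists_of_lt hL.lt_top
      refine ⟨v, hv, fun U hU => ?_⟩
      rw [← Subgroup.map_comap_eq_self_of_surjective hs U,
        hL.2 _ (lt_of_le_of_ne (QuotientGroup.le_comap_mk' _ _) fun e => hv (e.symm ▸ Subgroup.mem_comap.mpr hU)),
        Subgroup.map_top_of_surjective _ hs]
    haveI : Nontrivial ((G ⧸ Subgroup.center G) ⧸ L) := QuotientGroup.nontrivial_iff.mpr hL.1
    obtain ⟨q, hq, hqd⟩ := Nat.exists_prime_and_dvd (Finite.one_lt_card (α := (G ⧸ Subgroup.center G) ⧸ L)).ne'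
    haveI := Fact.mk hq
    obtain ⟨t, ht⟩ := exists_prime_orderOf_dvd_card' q hqd
    obtain ⟨t', rfl⟩ := hs t
    have hUtop : Subgroup.zpowers (QuotientGroup.mk' L t') = ⊤ := by
      have ht' : t' ∉ L := fun e => by
        rw [show QuotientGroup.mk' L t' = 1 from (QuotientGroup.eq_one_iff _).mpr e, orderOf_one] at ht
        exact hq.ne_one ht.symm
      rw [← Subgroup.map_comap_eq_self_of_surjective hs (Subgroup.zpowers (QuotientGroup.mk' L t')),
        hL.2 _ (lt_of_le_of_ne (QuotientGroup.le_comap_mk' _ _) fun e =>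
          ht' (e.symm ▸ Subgroup.mem_comap.mpr (Subgroup.mem_zpowers _))), Subgroup.map_top_of_surjective _ hs]
    have hcard : Nat.card ((G ⧸ Subgroup.center G) ⧸ L) = q := by
      rw [← ht, ← Nat.card_zpowers, hUtop, Subgroup.card_top]
    haveI : IsCyclic ((G ⧸ Subgroup.center G) ⧸ L) := isCyclic_of_prime_card (p := q) hcard
    refine ⟨isCyclic_of_injective _ hinj, ?_, htop⟩
    have h1 := Subgroup.card_dvd_of_injective _ hinj
    rw [hcard] at h1
    rcases (Nat.dvd_prime hq).mp h1 with h2 | h2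
    · exact absurd (Subgroup.card_eq_one.mp h2) hW
    · rw [h2]; exact hq
  by_cases hB : ∃ x : G, x ∉ Subgroup.center G ∧
      ∀ a ∈ Subgroup.centralizer ({x} : Set G), ∀ b ∈ Subgroup.centralizer ({x} : Set G), a * b = b * a
  · -- an abelian normal centraliser
    obtain ⟨x, hx, hab⟩ := hB
    have hMn : (Subgroup.centralizer ({x} : Set G)).Normal := by
      by_contra hn
      obtain ⟨a, ha, b, hb, hne⟩ := hA x hx hn
      exact hne (hab a ha b hb)
    obtain ⟨y, -, hy⟩ := SetLike.exists_of_lt (h x hx).lt_top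
    have hyZ : y ∉ Subgroup.center G := fun e => hy (hZC x e)
    have hdis : (Subgroup.centralizer ({y} : Set G)).map π ⊓ (Subgroup.centralizer ({x} : Set G)).map π = ⊥ := by
      rw [eq_bot_iff]
      rintro v ⟨⟨u, hu, rfl⟩, hv⟩
      have huM : u ∈ Subgroup.centralizer ({x} : Set G) := by rw [← hcm x]; exact hv
      by_contra hne
      have huZ : u ∉ Subgroup.center G := fun e => hne (Subgroup.mem_bot.mpr ((hone u).mpr e))
      have e1 := centralizer_eq_of_le h hx huZ fun w hw =>
        Subgroup.mem_centralizer_singleton_iff.mpr (hab w hw u huM)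
      apply hy
      rw [e1, Subgroup.mem_centralizer_singleton_iff]
      exact (Subgroup.mem_centralizer_singleton_iff.mp hu).symm
    have hNne : (Subgroup.centralizer ({y} : Set G)).map π ≠ ⊥ := fun e => hyZ ((hone y).mp (by
      have hm : π y ∈ (Subgroup.centralizer ({y} : Set G)).map π :=
        Subgroup.mem_map_of_mem π (Subgroup.mem_centralizer_singleton_iff.mpr rfl)
      rwa [e, Subgroup.mem_bot] at hm))
    have hMmn : ((Subgroup.centralizer ({x} : Set G)).map π).Normal := hMn.map _ hsur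
    obtain ⟨hNc, hNp, -⟩ := hidx _ (hco x hx) hMmn _ hdis hNne
    have hNab : ∀ a ∈ Subgroup.centralizer ({y} : Set G), ∀ b ∈ Subgroup.centralizer ({y} : Set G), a * b = b * a := by
      haveI := hNc
      let f := π.subgroupMap (Subgroup.centralizer ({y} : Set G))
      have hk : f.ker ≤ Subgroup.center (Subgroup.centralizer ({y} : Set G)) := fun w hw =>
        Subgroup.mem_center_iff.mpr fun v => Subtype.ext (Subgroup.mem_center_iff.mp ((hone _).mp (congrArg Subtype.val hw)) v)
      have hcomm := MonoidHom.isMulCommutative_of_isCyclic_of_ker_le_center f hk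
      exact fun a ha b hb => congrArg Subtype.val (hcomm.is_comm.comm ⟨a, ha⟩ ⟨b, hb⟩)
    have hNn : (Subgroup.centralizer ({y} : Set G)).Normal := by
      by_contra hn
      obtain ⟨a, ha, b, hb, hne⟩ := hA y hyZ hn
      exact hne (hNab a ha b hb)
    have hMne : (Subgroup.centralizer ({x} : Set G)).map π ≠ ⊥ := fun e => hx ((hone x).mp (by
      have hm : π x ∈ (Subgroup.centralizer ({x} : Set G)).map π :=
        Subgroup.mem_map_of_mem π (Subgroup.mem_centralizer_singleton_iff.mpr rfl)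
      rwa [e, Subgroup.mem_bot] at hm))
    have hNmn : ((Subgroup.centralizer ({y} : Set G)).map π).Normal := hNn.map _ hsur
    obtain ⟨hMc, hMp, htop⟩ := hidx _ (hco y hyZ) hNmn _ (inf_comm ((Subgroup.centralizer ({y} : Set G)).map π) _ ▸ hdis) hMne
    have hcard : Nat.card (G ⧸ Subgroup.center G) =
        Nat.card ((Subgroup.centralizer ({y} : Set G)).map π) * Nat.card ((Subgroup.centralizer ({x} : Set G)).map π) := by
      haveI := hNmn
      refine (Subgroup.IsComplement'.card_mul ?_).symm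
      exact Subgroup.isComplement'_of_disjoint_and_mul_eq_univ (disjoint_iff.mpr hdis)
        (by rw [← Subgroup.normal_mul, htop]; rfl)
    have hcommQ : ∀ a b : G ⧸ Subgroup.center G, a * b = b * a := by
      intro a b
      haveI := hNmn
      obtain ⟨a1, ha1, a2, ha2, rfl⟩ := Subgroup.mem_sup_of_normal_left.mp (htop ▸ Subgroup.mem_top a)
      obtain ⟨b1, hb1, b2, hb2, rfl⟩ := Subgroup.mem_sup_of_normal_left.mp (htop ▸ Subgroup.mem_top b)
      have hX : ∀ u ∈ (Subgroup.centralizer ({y} : Set G)).map π, ∀ v ∈ (Subgroup.centralizer ({x} : Set G)).map π,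
          Commute u v := fun u hu v hv =>
        Subgroup.commute_of_normal_of_disjoint _ _ hNmn hMmn (disjoint_iff.mpr hdis) u v hu hv
      have hcN : Commute a1 b1 := congrArg Subtype.val (hNc.isMulCommutative.is_comm.comm ⟨a1, ha1⟩ ⟨b1, hb1⟩)
      have hcM : Commute a2 b2 := congrArg Subtype.val (hMc.isMulCommutative.is_comm.comm ⟨a2, ha2⟩ ⟨b2, hb2⟩)
      exact ((hcN.mul_right (hX a1 ha1 b2 hb2)).mul_left ((hX b1 hb1 a2 ha2).symm.mul_right hcM)).eq
    set p := Nat.card ((Subgroup.centralizer ({y} : Set G)).map π) with hpdef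
    set q := Nat.card ((Subgroup.centralizer ({x} : Set G)).map π) with hqdef
    rcases eq_or_ne p q with hpq | hpq
    · refine hfin hcommQ p hNp fun v => ?_
      haveI := Fact.mk hNp
      obtain ⟨j, hj2, hj⟩ := (Nat.dvd_prime_pow hNp).mp (show orderOf v ∣ p ^ 2 by
        rw [pow_two]; nth_rewrite 2 [hpq]; rw [← hcard]; exact orderOf_dvd_natCard v)
      rcases Nat.lt_or_ge j 2 with hj3 | hj3
      · refine orderOf_dvd_iff_pow_eq_one.mp ?_
        rw [hj]
        exact (pow_dvd_pow p (by omega : j ≤ 1)).trans (pow_one p).dvd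
      · exact absurd (isCyclic_of_orderOf_eq_card v (by
          rw [hj, show j = 2 by omega, pow_two, hcard, ← hpq])) hncyc
    · exfalso
      apply hncyc
      obtain ⟨u, hu⟩ := hNc.exists_ofOrder_eq_natCard
      obtain ⟨w, hw⟩ := hMc.exists_ofOrder_eq_natCard
      refine isCyclic_of_orderOf_eq_card ((u : G ⧸ Subgroup.center G) * w) ?_
      rw [Commute.orderOf_mul_eq_mul_orderOf_of_coprime (hcommQ _ _) ?_, Subgroup.orderOf_coe, Subgroup.orderOf_coe, hu, hw, hcard]
      rw [Subgroup.orderOf_coe, Subgroup.orderOf_coe, hu, hw]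
      exact (Nat.coprime_primes hNp hMp).mpr hpq
  push Not at hB
  -- every centraliser is nonabelian
  have hexp : ∀ x : G, x ∉ Subgroup.center G → ∃ r : ℕ, r.Prime ∧
      ∀ g ∈ Subgroup.centralizer ({x} : Set G), g ^ r ∈ Subgroup.center G := by
    intro x hx
    obtain ⟨a, ha, b, hb, hne⟩ := hB x hx
    exact exists_prime_exponent h hx ha hb hne
  have hpM : ∀ x : G, x ∉ Subgroup.center G → ∀ r : ℕ, r.Prime → π x ^ r = 1 →
      IsPGroup r ((Subgroup.centralizer ({x} : Set G)).map π) := by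
    intro x hx r hr hxr
    obtain ⟨s, hs, hsx⟩ := hexp x hx
    have hsr : s = r := by
      have h1 : orderOf (π x) ∣ s := orderOf_dvd_of_pow_eq_one (by
        rw [← map_pow]; exact (hone _).mpr (hsx x (Subgroup.mem_centralizer_singleton_iff.mpr rfl)))
      have h2 : orderOf (π x) ∣ r := orderOf_dvd_of_pow_eq_one hxr
      by_contra hne
      exact hx ((hone x).mp (orderOf_eq_one_iff.mp (Nat.eq_one_of_dvd_coprimes ((Nat.coprime_primes hs hr).mpr hne) h1 h2)))
    subst hsr
    rintro ⟨_, g, hg, rfl⟩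
    refine ⟨1, Subtype.ext ?_⟩
    show π g ^ s ^ 1 = 1
    rw [pow_one, ← map_pow]
    exact (hone _).mpr (hsx g hg)
  obtain ⟨p, hp, hpd⟩ := Nat.exists_prime_and_dvd (Finite.one_lt_card (α := G ⧸ Subgroup.center G)).ne'
  haveI := Fact.mk hp
  by_cases hpG : IsPGroup p (G ⧸ Subgroup.center G)
  · have hexpp : ∀ v : G ⧸ Subgroup.center G, v ^ p = 1 := by
      intro v
      obtain ⟨g, rfl⟩ := hsur v
      by_cases hg : g ∈ Subgroup.center G
      · rw [(hone g).mpr hg, one_pow]
      obtain ⟨s, hs, hsx⟩ := hexp g hg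
      have h1 : π g ^ s = 1 := by
        rw [← map_pow]; exact (hone _).mpr (hsx g (Subgroup.mem_centralizer_singleton_iff.mpr rfl))
      obtain ⟨k, hk⟩ := hpG (π g)
      have hsp : s = p := by
        by_contra hne
        exact hg ((hone g).mp (orderOf_eq_one_iff.mp (Nat.eq_one_of_dvd_coprimes
          (((Nat.coprime_primes hs hp).mpr hne).pow_right k) (orderOf_dvd_of_pow_eq_one h1) (orderOf_dvd_of_pow_eq_one hk))))
      rw [← hsp]; exact h1
    refine hfin ?_ p hp hexpp
    intro a b
    rw [← commutatorElement_eq_one_iff_mul_comm]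
    obtain ⟨a', rfl⟩ := hsur a
    obtain ⟨b', rfl⟩ := hsur b
    rw [← map_commutatorElement, hone]
    by_contra hc
    obtain ⟨z, hz⟩ : ∃ z, ⁅a', b'⁆ ∉ Subgroup.centralizer ({z} : Set G) := by
      by_contra hh
      push Not at hh
      exact hc (Subgroup.mem_center_iff.mpr fun g => (Subgroup.mem_centralizer_singleton_iff.mp (hh g)).symm)
    have hzZ : z ∉ Subgroup.center G := fun e => hz (Subgroup.mem_centralizer_singleton_iff.mpr (Subgroup.mem_center_iff.mp e _))
    apply hz
    rw [← hcm z, Subgroup.mem_comap, map_commutatorElement]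
    haveI := PGroupsBasic.normal_of_isCoatom hpG (hco z hzZ)
    exact PGroupsBasic.commutator_le_of_index_le_sq hpG
      (by rw [PGroupsBasic.index_of_isCoatom hpG (hco z hzZ)]; exact Nat.le_self_pow two_ne_zero p)
      (Subgroup.commutator_mem_commutator (Subgroup.mem_top _) (Subgroup.mem_top _))
  exfalso
  -- elements of every prime order
  have hel : ∀ r : ℕ, r.Prime → r ∣ Nat.card (G ⧸ Subgroup.center G) → ∃ x, x ∉ Subgroup.center G ∧
      IsPGroup r ((Subgroup.centralizer ({x} : Set G)).map π) := by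
    intro r hr hrd
    haveI := Fact.mk hr
    obtain ⟨v, hv⟩ := exists_prime_orderOf_dvd_card' r hrd
    obtain ⟨x, rfl⟩ := hsur v
    have hx : x ∉ Subgroup.center G := fun e => by
      rw [(hone x).mpr e, orderOf_one] at hv
      exact hr.ne_one hv.symm
    exact ⟨x, hx, hpM x hx r hr (by rw [← hv, pow_orderOf_eq_one])⟩
  obtain ⟨s, hs, hsd, hsp⟩ : ∃ s, s.Prime ∧ s ∣ Nat.card (G ⧸ Subgroup.center G) ∧ s ≠ p := by
    by_contra hcon
    push Not at hcon
    exact hpG (IsPGroup.of_card (Nat.eq_prime_pow_of_unique_prime_dvd Nat.card_pos.ne' fun {d} hd hdd => hcon d hd hdd))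
  have hsolv : Group.IsSolvable (G ⧸ Subgroup.center G) := by
    obtain ⟨r, hr, hrd, hr2⟩ : ∃ r, r.Prime ∧ r ∣ Nat.card (G ⧸ Subgroup.center G) ∧ r ≠ 2 := by
      rcases eq_or_ne p 2 with hp2 | hp2
      · exact ⟨s, hs, hsd, hp2 ▸ hsp⟩
      · exact ⟨p, hp, hpd, hp2⟩
    haveI := Fact.mk hr
    obtain ⟨x, hx, hxr⟩ := hel r hr hrd
    obtain ⟨j, hj⟩ := IsPGroup.iff_card.mp hxr
    exact NilpotentMaximal.isSolvable_of_odd_nilpotent_maximal _ _ rfl _ (hco x hx) hxr.isNilpotent
      (hj ▸ (hr.odd_of_ne_two hr2).pow)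
  obtain ⟨e, E, he, hEn, hEp, hEne⟩ := GlaubermanCount.exists_normal_pSubgroup hsolv
  haveI := Fact.mk he
  haveI := hEn
  obtain ⟨t, ht, htd, hte⟩ : ∃ t, t.Prime ∧ t ∣ Nat.card (G ⧸ Subgroup.center G) ∧ t ≠ e := by
    rcases eq_or_ne p e with hpe | hpe
    · exact ⟨s, hs, hsd, hpe ▸ hsp⟩
    · exact ⟨p, hp, hpd, hpe⟩
  haveI := Fact.mk ht
  have hed : e ∣ Nat.card (G ⧸ Subgroup.center G) := by
    haveI := (Subgroup.nontrivial_iff_ne_bot E).mpr hEne
    obtain ⟨j, hj⟩ := IsPGroup.iff_card.mp hEp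
    refine (dvd_pow_self e fun h0 => ?_).trans (hj ▸ Subgroup.card_subgroup_dvd_card E)
    rw [h0, pow_zero] at hj
    exact (Finite.one_lt_card (α := E)).ne' hj
  obtain ⟨xe, hxe, hxep⟩ := hel e he hed
  obtain ⟨xt, hxt, hxtp⟩ := hel t ht htd
  set Me := (Subgroup.centralizer ({xe} : Set G)).map π with hMe
  set Mt := (Subgroup.centralizer ({xt} : Set G)).map π with hMt
  have hEMe : E ≤ Me := by
    by_contra hn
    have htop : Me ⊔ E = ⊤ := (hco xe hxe).2 _ (lt_of_le_of_ne le_sup_left fun e' => hn (le_sup_right.trans e'.ge))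
    have : IsPGroup e (⊤ : Subgroup (G ⧸ Subgroup.center G)) := htop ▸ hxep.to_sup_of_normal_right hEp
    obtain ⟨j, hj⟩ := IsPGroup.iff_card.mp this
    rw [Subgroup.card_top] at hj
    exact hte ((Nat.prime_dvd_prime_iff_eq ht he).mp (ht.dvd_of_dvd_pow (hj ▸ htd)))
  have hdisj : Disjoint E Mt := IsPGroup.disjoint_of_ne e t hte.symm _ _ hEp hxtp
  have htop : E ⊔ Mt = ⊤ := (hco xt hxt).2 _ (lt_of_le_of_ne le_sup_right fun e' =>
    hEne (le_bot_iff.mp ((le_inf le_rfl (le_sup_left.trans e'.ge : E ≤ Mt)).trans hdisj.eq_bot.le)))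
  have hMeE : Me = E := by
    refine le_antisymm (fun v hv => ?_) hEMe
    obtain ⟨a, ha, b, hb, rfl⟩ := Subgroup.mem_sup_of_normal_left.mp (htop ▸ Subgroup.mem_top v)
    have hb' : b ∈ Me := by simpa using mul_mem (inv_mem (hEMe ha)) hv
    have hb1 : b = 1 := Subgroup.disjoint_def.mp (IsPGroup.disjoint_of_ne e t hte.symm _ _ hxep hxtp) hb' hb
    rw [hb1, mul_one]; exact ha
  have hMtne : Mt ≠ ⊥ := fun e' => hxt ((hone xt).mp (by
    have hm : π xt ∈ Mt := Subgroup.mem_map_of_mem π (Subgroup.mem_centralizer_singleton_iff.mpr rfl)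
    rwa [e', Subgroup.mem_bot] at hm))
  obtain ⟨hMc, -, -⟩ := hidx Me (hco xe hxe) (hMeE ▸ hEn) Mt (by rw [hMeE, inf_comm]; exact hdisj.eq_bot) hMtne
  obtain ⟨a, ha, b, hb, hne⟩ := hB xt hxt
  haveI := hMc
  let f := π.subgroupMap (Subgroup.centralizer ({xt} : Set G))
  have hk : f.ker ≤ Subgroup.center (Subgroup.centralizer ({xt} : Set G)) := fun w hw =>
    Subgroup.mem_center_iff.mpr fun v => Subtype.ext (Subgroup.mem_center_iff.mp ((hone _).mp (congrArg Subtype.val hw)) v)
  exact hne (congrArg Subtype.val ((MonoidHom.isMulCommutative_of_isCyclic_of_ker_le_center f hk).is_comm.comm ⟨a, ha⟩ ⟨b, hb⟩))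

end Cfsg.Agent.S3904
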