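import Cfsg.Statements.S3905
import Cfsg.Agent.Lib.CentralizerMaxFrob69
-- import your own Cfsg.Agent.* helpers here

set_option autoImplicit false
open Cfsg

namespace Cfsg.Agent.S3905

open CentralizerMax69
open scoped commutatorElement

variable {G : Type*} [Group G] [Finite G] {N : Subgroup G}

theorem mem_of_pow_mem {Q : Type*} [Group Q] [Finite Q] {K : Subgroup Q} [K.Normal] {v : Q}
    (hcop : (Nat.card K).Coprime K.index) (h : v ^ Nat.card K = 1) : v ∈ K := by
  refine (QuotientGroup.eq_one_iff v).1 (orderOf_eq_one_iff.1 ?_)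
  refine Nat.eq_one_of_dvd_coprimes hcop ?_ (Subgroup.index_eq_card K ▸ orderOf_dvd_natCard _)
  exact orderOf_dvd_of_pow_eq_one (by rw [← QuotientGroup.mk_pow, h, QuotientGroup.mk_one])

theorem frobenius_case [N.Normal] (h : Hyp N)
    (hex : ∃ x : ↥N, x ∉ Subgroup.center ↥N ∧ ¬ GInv (A x)) :
    ∃ (Q K : Subgroup (↥N ⧸ Subgroup.center ↥N)) (p : ℕ), p.Prime ∧ Cfsg.IsFrobeniusComplement Q ∧
      (Nat.card ↥Q).Prime ∧ K.Normal ∧
      (K : Set (↥N ⧸ Subgroup.center ↥N)) = Cfsg.frobeniusKernel Q ∧ Cfsg.IsElementaryAbelian p K := by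
  classical
  obtain ⟨x, p, hp, hx, hxp, hA, K, hKn, hKc, hcop⟩ := exists_complement h hex
  haveI := hKn
  set π := QuotientGroup.mk' (Subgroup.center ↥N) with hπ
  set T := Ab x with hT
  have hTne : T ≠ ⊥ := fun e => mk_x_ne_one hx (Subgroup.mem_bot.1 (e ▸ mk_mem_Ab.2 (self_mem_A x)))
  have hdis := hKc.disjoint
  have hidx : K.index = Nat.card T := hKc.symm.index_eq_card
  have hfpf : ∀ a ∈ T, a ≠ 1 → K ⊓ Subgroup.centralizer {a} = ⊥ := by
    intro a ha ha1
    rw [Subgroup.eq_bot_iff_forall]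
    rintro k ⟨hk, hka⟩
    by_contra hk1
    replace hka := Subgroup.mem_centralizer_singleton_iff.1 hka
    obtain ⟨s, hs, hsd⟩ := Nat.exists_prime_and_dvd (fun e => hk1 (orderOf_eq_one_iff.1 e))
    obtain ⟨t, ht, htd⟩ := Nat.exists_prime_and_dvd (fun e => ha1 (orderOf_eq_one_iff.1 e))
    have hst : s ≠ t := fun e => by
      have h1 : s ∣ Nat.card K := hsd.trans (Subgroup.orderOf_dvd_natCard _ hk)
      have h2 : s ∣ Nat.card T := e ▸ htd.trans (Subgroup.orderOf_dvd_natCard _ ha)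
      exact hs.ne_one (Nat.eq_one_of_dvd_coprimes hcop h1 h2)
    have h3 : orderOf (k ^ (orderOf k / s)) = s := orderOf_pow_orderOf_div (orderOf_pos k).ne' hsd
    have h4 : orderOf (a ^ (orderOf a / t)) = t := orderOf_pow_orderOf_div (orderOf_pos a).ne' htd
    have h5 : k ^ (orderOf k / s) ≠ 1 := fun e => by rw [e, orderOf_one] at h3; exact hs.ne_one h3.symm
    have h6 : a ^ (orderOf a / t) ≠ 1 := fun e => by rw [e, orderOf_one] at h4; exact ht.ne_one h4.symm
    obtain ⟨u, hu, hus, huiff⟩ := lift_part hs (a := 1) (by rw [h3, pow_one]) h5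
    obtain ⟨w, hw, hwt, hwiff⟩ := lift_part ht (a := 1) (by rw [h4, pow_one]) h6
    have hc1 : k ^ (orderOf k / s) * a ^ (orderOf a / t) = a ^ (orderOf a / t) * k ^ (orderOf k / s) :=
      ((show Commute k a from hka).pow_pow _ _).eq
    have hc2 := (huiff (Subgroup.centralizer {a ^ (orderOf a / t)})).2 (Subgroup.mem_centralizer_singleton_iff.2 hc1)
    rw [Subgroup.mem_centralizer_singleton_iff] at hc2
    have hc3 := (hwiff (Subgroup.centralizer {π u})).2 (Subgroup.mem_centralizer_singleton_iff.2 hc2.symm)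
    rw [Subgroup.mem_centralizer_singleton_iff] at hc3
    have hcen := (cen_eq_of_mk_commute h hu hw hs ht hst hus hwt hc3.symm).1
    have hwA : w ∈ A x := mk_mem_Ab.1 ((hwiff T).2 (T.pow_mem ha _))
    have hxw : x ∈ A w := Subgroup.mem_centralizer_singleton_iff.2 (Subgroup.mem_centralizer_singleton_iff.1 hwA).symm
    rw [← mem_A_of_cen_eq hcen] at hxw
    have huA : u ∈ A x := Subgroup.mem_centralizer_singleton_iff.2 (Subgroup.mem_centralizer_singleton_iff.1 hxw).symm
    exact mk_x_ne_one hu (Subgroup.disjoint_def.1 hdis ((huiff K).2 (K.pow_mem hk _)) (mk_mem_Ab.2 huA))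
  have hKne : K ≠ ⊥ := fun e => Ab_ne_top hx (Subgroup.isComplement'_bot_left.1 (e ▸ hKc))
  have hFC := FrobeniusBasic.isFrobeniusComplement_of_fpf hKc hKne hTne hfpf
  have hKset := FrobeniusBasic.frobeniusKernel_eq hFC hKc
  haveI hKnil : Group.IsNilpotent K := FrobeniusNilpotent.isNilpotent_of_complement hTne hfpf
  have hcopi : (Nat.card K).Coprime K.index := hidx ▸ hcop
  haveI hKchar : K.Characteristic := Subgroup.characteristic_iff_map_le.2 fun φ => by
    rintro _ ⟨k, hk, rfl⟩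
    refine mem_of_pow_mem hcopi ?_
    rw [← map_pow, show k ^ Nat.card K = 1 from
      orderOf_dvd_iff_pow_eq_one.1 (Subgroup.orderOf_dvd_natCard _ hk), map_one]
  have hmin : ∀ L : Subgroup (↥N ⧸ Subgroup.center ↥N), L.Characteristic → L ≤ K → L ≠ ⊥ → L = K := by
    intro L hL hLK hLne
    haveI := hL
    refine le_antisymm hLK fun v hv => ?_
    obtain ⟨n, rfl⟩ := QuotientGroup.mk'_surjective _ v
    have hle : ¬ L.comap π ≤ A x := fun hle => hLne (by
      rw [eq_bot_iff]
      intro l hl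
      obtain ⟨m, rfl⟩ := QuotientGroup.mk'_surjective _ l
      exact Subgroup.mem_bot.2 (Subgroup.disjoint_def.1 hdis (hLK hl) (mk_mem_Ab.2 (hle hl))))
    obtain ⟨a, ha, l, hl, rfl⟩ := exists_mul h hx (ginv_comap L) hle n
    rw [map_mul] at hv ⊢
    have hb : π a ∈ K := by
      have h9 := K.mul_mem hv (K.inv_mem (hLK hl))
      rwa [mul_inv_cancel_right] at h9
    have ha' : π a = 1 := Subgroup.disjoint_def.1 hdis hb (mk_mem_Ab.2 ha)
    rw [ha', one_mul]; exact hl
  haveI hKnt : Nontrivial K := (Subgroup.nontrivial_iff_ne_bot K).2 hKne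
  have hKab : ∀ a ∈ K, ∀ b ∈ K, a * b = b * a := by
    by_cases hD : ⁅K, K⁆ = ⊥
    · intro a ha b hb
      exact (Subgroup.mem_centralizer_iff.1 (Subgroup.commutator_eq_bot_iff_le_centralizer.1 hD ha) b hb).symm
    · exfalso
      have h1 := hmin ⁅K, K⁆ inferInstance (Subgroup.commutator_le_self K) hD
      have h2 : commutator K = ⊤ := by
        apply Subgroup.map_injective K.subtype_injective
        rw [Subgroup.map_subtype_commutator, h1, ← MonoidHom.range_eq_map, Subgroup.range_subtype]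
      exact (IsSolvable.commutator_lt_top_of_nontrivial K).ne h2
  obtain ⟨q, hq, hqd⟩ := Nat.exists_prime_and_dvd (Finite.one_lt_card (α := K)).ne'
  haveI := Fact.mk hq
  let E : Subgroup (↥N ⧸ Subgroup.center ↥N) :=
    { carrier := {t | t ∈ K ∧ t ^ q = 1}
      one_mem' := ⟨one_mem _, one_pow q⟩
      mul_mem' := fun {a b} ha hb => ⟨mul_mem ha.1 hb.1, by
        rw [Commute.mul_pow (hKab a ha.1 b hb.1), ha.2, hb.2, one_mul]⟩
      inv_mem' := fun {a} ha => ⟨inv_mem ha.1, by rw [inv_pow, ha.2, inv_one]⟩ }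
  haveI hEchar : E.Characteristic := Subgroup.characteristic_iff_map_le.2 fun φ => by
    rintro _ ⟨t, ht, rfl⟩
    exact ⟨Subgroup.characteristic_iff_map_le.1 hKchar φ ⟨t, ht.1, rfl⟩, by rw [← map_pow, ht.2, map_one]⟩
  obtain ⟨k₀, hk₀⟩ := exists_prime_orderOf_dvd_card' q hqd
  have hk₀1 : (k₀ : ↥N ⧸ Subgroup.center ↥N) ≠ 1 := fun e => by
    rw [← Subgroup.orderOf_coe, e, orderOf_one] at hk₀; exact hq.ne_one hk₀.symm
  have hE : E = K := hmin E hEchar (fun t ht => ht.1) fun e => hk₀1 (by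
    have hm : (k₀ : ↥N ⧸ Subgroup.center ↥N) ∈ E :=
      ⟨k₀.2, by rw [← hk₀, ← Subgroup.orderOf_coe, pow_orderOf_eq_one]⟩
    rwa [e, Subgroup.mem_bot] at hm)
  obtain ⟨u, hu, huq, huiff⟩ := lift_part hq (a := 1) (by rw [Subgroup.orderOf_coe, hk₀, pow_one]) hk₀1
  have huK : π u ∈ K := (huiff K).2 k₀.2
  have hsub : Ab u ≤ K := by
    rintro _ ⟨v, hv, rfl⟩
    refine mem_of_pow_mem hcopi ?_
    by_contra hne
    set w := π v ^ Nat.card K with hw
    have hwd : orderOf w ∣ Nat.card T := orderOf_dvd_of_pow_eq_one (by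
      rw [hw, ← pow_mul, ← hidx, Subgroup.card_mul_index, pow_card_eq_one'])
    obtain ⟨g, hg⟩ := FrobeniusBasic.exists_conj_mem_of_dvd hFC hwd
    have hg1 : g⁻¹ * w * g ≠ 1 := fun e => hne (by
      have := congrArg (fun z => g * z * g⁻¹) e
      simpa [mul_assoc] using this)
    have hc : w * π u = π u * w := ((show Commute (π v) (π u) by
      show π v * π u = π u * π v
      rw [← map_mul, ← map_mul, Subgroup.mem_centralizer_singleton_iff.1 hv]).pow_left _).eq
    have h1 : g⁻¹ * π u * g ∈ K ⊓ Subgroup.centralizer {g⁻¹ * w * g} := by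
      refine ⟨by simpa using hKn.conj_mem _ huK g⁻¹, Subgroup.mem_centralizer_singleton_iff.2 ?_⟩
      calc g⁻¹ * π u * g * (g⁻¹ * w * g) = g⁻¹ * (π u * w) * g := by group
        _ = g⁻¹ * (w * π u) * g := by rw [hc]
        _ = _ := by group
    rw [hfpf _ hg hg1, Subgroup.mem_bot] at h1
    refine mk_x_ne_one hu ?_
    have e : π u = g * (g⁻¹ * π u * g) * g⁻¹ := by group
    rw [h1, mul_one, mul_inv_cancel] at e
    exact e
  have hbig : ∀ L : Subgroup (↥N ⧸ Subgroup.center ↥N), L.Characteristic → K ≤ L → L ≠ K → L = ⊤ := by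
    intro L hL hKL hLne
    haveI := hL
    rw [eq_top_iff]
    intro v _
    obtain ⟨n, rfl⟩ := QuotientGroup.mk'_surjective _ v
    have hle : ¬ L.comap π ≤ A u := fun hle => hLne (le_antisymm (fun l hl => by
      obtain ⟨m, rfl⟩ := QuotientGroup.mk'_surjective _ l
      exact hsub (mk_mem_Ab.2 (hle hl))) hKL)
    obtain ⟨a, ha, l, hl, rfl⟩ := exists_mul h hu (ginv_comap L) hle n
    rw [map_mul]
    exact L.mul_mem (hKL (hsub (mk_mem_Ab.2 ha))) hl
  haveI hTnil : Group.IsNilpotent T := Ab_nilpotent h hx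
  haveI hTnt : Nontrivial T := (Subgroup.nontrivial_iff_ne_bot T).2 hTne
  let C := commutator (↥N ⧸ Subgroup.center ↥N)
  have hC : C ≤ K := by
    by_contra hle
    haveI : (C ⊔ K).Characteristic := Subgroup.characteristic_iff_map_le.2 fun φ => by
      rw [Subgroup.map_sup]
      exact sup_le_sup (Subgroup.characteristic_iff_map_le.1 inferInstance φ)
        (Subgroup.characteristic_iff_map_le.1 hKchar φ)
    have htop := hbig (C ⊔ K) inferInstance le_sup_right fun e => hle (le_sup_left.trans e.le)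
    let ψ : T →* (↥N ⧸ Subgroup.center ↥N) ⧸ K := (QuotientGroup.mk' K).comp T.subtype
    have hψ : Function.Surjective ψ := fun z => by
      obtain ⟨v, rfl⟩ := QuotientGroup.mk'_surjective K z
      have hv : v ∈ K ⊔ T := hKc.sup_eq_top ▸ Subgroup.mem_top v
      obtain ⟨k, hk, t, ht, rfl⟩ := Subgroup.mem_sup_of_normal_left.1 hv
      exact ⟨⟨t, ht⟩, by
        show QuotientGroup.mk' K t = QuotientGroup.mk' K (k * t)
        rw [map_mul, show QuotientGroup.mk' K k = 1 from (QuotientGroup.eq_one_iff k).2 hk, one_mul]⟩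
    haveI : Group.IsSolvable ((↥N ⧸ Subgroup.center ↥N) ⧸ K) := Group.isSolvable_of_surjective hψ
    haveI : Nontrivial ((↥N ⧸ Subgroup.center ↥N) ⧸ K) := by
      rw [← Finite.one_lt_card_iff_nontrivial, ← Subgroup.index_eq_card, hidx]
      exact Finite.one_lt_card
    refine (IsSolvable.commutator_lt_top_of_nontrivial ((↥N ⧸ Subgroup.center ↥N) ⧸ K)).ne ?_
    rw [eq_top_iff, ← Subgroup.map_top_of_surjective _ (QuotientGroup.mk'_surjective K), ← htop, Subgroup.map_sup]
    refine sup_le ?_ ?_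
    · show (commutator (↥N ⧸ Subgroup.center ↥N)).map (QuotientGroup.mk' K) ≤ _
      rw [commutator_def, commutator_def, Subgroup.map_commutator]
      exact Subgroup.commutator_mono le_top le_top
    · rw [QuotientGroup.map_mk'_self]; exact bot_le
  have hTab : ∀ a ∈ T, ∀ b ∈ T, a * b = b * a := by
    intro a ha b hb
    rw [← commutatorElement_eq_one_iff_mul_comm]
    refine Subgroup.disjoint_def.1 hdis (hC (Subgroup.commutator_mem_commutator trivial trivial)) ?_
    rw [commutatorElement_def]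
    exact T.mul_mem (T.mul_mem (T.mul_mem ha hb) (T.inv_mem ha)) (T.inv_mem hb)
  obtain ⟨t, ht, htd⟩ := Nat.exists_prime_and_dvd (Finite.one_lt_card (α := T)).ne'
  haveI := Fact.mk ht
  let L : Subgroup (↥N ⧸ Subgroup.center ↥N) :=
    { carrier := {v | v ^ t ∈ K}
      one_mem' := by simp
      mul_mem' := fun {a b} ha hb => by
        have hcom : Commute (a : (↥N ⧸ Subgroup.center ↥N) ⧸ K) b := by
          rw [← commutatorElement_eq_one_iff_commute]
          show (QuotientGroup.mk' K) ⁅a, b⁆ = 1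
          exact (QuotientGroup.eq_one_iff _).2 (hC (Subgroup.commutator_mem_commutator trivial trivial))
        show (a * b) ^ t ∈ K
        rw [← QuotientGroup.eq_one_iff, QuotientGroup.mk_pow, QuotientGroup.mk_mul, hcom.mul_pow,
          ← QuotientGroup.mk_pow, ← QuotientGroup.mk_pow, (QuotientGroup.eq_one_iff _).2 ha,
          (QuotientGroup.eq_one_iff _).2 hb, one_mul]
      inv_mem' := fun {a} ha => by show a⁻¹ ^ t ∈ K; rw [inv_pow]; exact K.inv_mem ha }
  haveI hLchar : L.Characteristic := Subgroup.characteristic_iff_map_le.2 fun φ => by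
    rintro _ ⟨v, hv, rfl⟩
    show φ v ^ t ∈ K
    rw [← map_pow]
    exact Subgroup.characteristic_iff_map_le.1 hKchar φ ⟨_, hv, rfl⟩
  obtain ⟨t₀, ht₀⟩ := exists_prime_orderOf_dvd_card' t htd
  have ht₀1 : (t₀ : ↥N ⧸ Subgroup.center ↥N) ≠ 1 := fun e => by
    rw [← Subgroup.orderOf_coe, e, orderOf_one] at ht₀; exact ht.ne_one ht₀.symm
  have hLtop : L = ⊤ := hbig L hLchar (fun v hv => K.pow_mem hv t) fun e => ht₀1 (by
    refine Subgroup.disjoint_def.1 hdis (e ▸ ?_) t₀.2
    show (t₀ : ↥N ⧸ Subgroup.center ↥N) ^ t ∈ K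
    rw [← ht₀, ← Subgroup.orderOf_coe, pow_orderOf_eq_one]; exact K.one_mem)
  have hTexp : ∀ a : T, a ^ t = 1 := fun a => Subtype.ext (Subgroup.disjoint_def.1 hdis
    (show ((a ^ t : T) : ↥N ⧸ Subgroup.center ↥N) ∈ K by
      rw [SubmonoidClass.coe_pow]; exact (hLtop ▸ Subgroup.mem_top _ : (a : ↥N ⧸ Subgroup.center ↥N) ∈ L))
    (a ^ t).2)
  haveI : IsMulCommutative T := ⟨⟨fun a b => Subtype.ext (hTab a a.2 b b.2)⟩⟩
  have hcyc : IsCyclic T := by
    by_contra hnc
    refine hKne (le_bot_iff.1 (CoprimeExtra.le_of_cyclic_quotient_centralizers (A := T)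
      (by rw [Subgroup.normalizer_eq_top_iff.2 hKn]; exact le_top) hcop.symm fun B hBT hB => ?_))
    obtain ⟨b, hb, hb1⟩ := (Subgroup.bot_or_exists_ne_one B).resolve_left fun e => hnc (by
      subst e
      rw [Subgroup.bot_subgroupOf] at hB
      exact (QuotientGroup.quotientBot (G := T)).isCyclic.1 hB)
    exact fun v hv => (hfpf b (hBT hb) hb1).le ⟨hv.1, Subgroup.centralizer_le (Set.singleton_subset_iff.2 hb) hv.2⟩
  have hTcard : Nat.card T = t := by
    obtain ⟨g, hg⟩ := IsCyclic.exists_ofOrder_eq_natCard (α := T)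
    rcases (Nat.dvd_prime ht).1 (hg ▸ orderOf_dvd_of_pow_eq_one (hTexp g)) with h1 | h1
    · exact absurd h1 (Finite.one_lt_card (α := T)).ne'
    · exact h1
  refine ⟨T, K, q, hq, hFC, hTcard ▸ ht, hKn, hKset.symm, ⟨⟨fun a b => Subtype.ext (hKab a a.2 b b.2)⟩⟩,
    fun a ha => ?_⟩
  rw [← hE] at ha
  exact ha.2

/-- Let N be a normal subgroup of the finite group G such that for every element x of N outside the center of N the centralizer C_G(x) is a maximal subgroup of G. Then N/Z(N) is either an elementary abelian p-group for some prime p, or a Frobenius group whose kernel is an elementary abelian normal subgroup and whose complement has prime order. -/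
theorem result {G : Type*} [Group G] [Finite G] (N : Subgroup G) [N.Normal]
    (h : ∀ x : G, x ∈ N → x ∉ Subgroup.centralizer (N : Set G) → IsCoatom (Subgroup.centralizer ({x} : Set G))) :
    (∃ p : ℕ, p.Prime ∧ Cfsg.IsElementaryAbelian p (⊤ : Subgroup (↥N ⧸ Subgroup.center ↥N))) ∨
    (∃ (Q K : Subgroup (↥N ⧸ Subgroup.center ↥N)) (p : ℕ), p.Prime ∧ Cfsg.IsFrobeniusComplement Q ∧ (Nat.card ↥Q).Prime ∧
      K.Normal ∧ (K : Set (↥N ⧸ Subgroup.center ↥N)) = Cfsg.frobeniusKernel Q ∧ Cfsg.IsElementaryAbelian p K) := by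

  classical
  have hyp : CentralizerMax69.Hyp N := fun x hx => h x x.2 fun hc => hx (Subgroup.mem_center_iff.2 fun n =>
    Subtype.ext (Subgroup.mem_centralizer_iff.1 hc n n.2))
  by_cases hab : ∀ x : ↥N, x ∈ Subgroup.center ↥N
  · refine Or.inl ⟨2, Nat.prime_two, ?_⟩
    have : Subsingleton (↥N ⧸ Subgroup.center ↥N) :=
      QuotientGroup.subsingleton_iff.2 (eq_top_iff.2 fun x _ => hab x)
    exact ⟨⟨⟨fun a b => Subsingleton.elim _ _⟩⟩, fun a _ => Subsingleton.elim _ _⟩
  push Not at hab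
  by_cases hall : ∀ x : ↥N, x ∉ Subgroup.center ↥N → CentralizerMax69.GInv (CentralizerMax69.A x)
  · exact Or.inl (CentralizerMax69.elementary_case hyp hab hall)
  · push Not at hall
    exact Or.inr (frobenius_case hyp hall)

end Cfsg.Agent.S3905
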