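import Cfsg.Statements.S3906
import Cfsg.Agent.Lib.CoprimePieces99Series
-- import your own Cfsg.Agent.* helpers here

set_option autoImplicit false
open Cfsg Cfsg.Agent.CoprimePieces99

namespace Cfsg.Agent.S3906

/-- Let p be a prime and let k ≥ 3, c ≥ 0 and d ≥ 0 be integers with 2^d + 2 ≤ k. There is a bound B depending only on p, k, c and d such that the following holds for every finite group G of order prime to p and every elementary abelian subgroup A of order p^k of the automorphism group of G: if, for every non-identity a ∈ A, the d-th derived subgroup of the fixed-point subgroup C_G(a) (the 0-th derived subgroup of a group being the group itself) is nilpotent of class at most c, then the d-th derived subgroup of G is nilpotent of class at most B. -/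
theorem result (p k c d : ℕ) (hp : p.Prime) (hk : 3 ≤ k) (hd : 2 ^ d + 2 ≤ k) :
    ∃ B : ℕ, ∀ (G : Type) [Group G] [Finite G], (Nat.card G).Coprime p →
      ∀ A : Subgroup (MulAut G), Cfsg.IsElementaryAbelian p A → Nat.card ↥A = p ^ k →
        (∀ a ∈ A, a ≠ 1 → (derivedSeries ↥((a : MulAut G).toMonoidHom.eqLocus (MonoidHom.id G)) d).lowerCentralSeries c = ⊥) →
        (derivedSeries G d).lowerCentralSeries B = ⊥ := by
  haveI := Fact.mk hp
  refine ⟨classBound p c (d + c) (numD (2 ^ (p ^ k)) d), fun G _ _ hG A hA hcard hc => ?_⟩
  have hE := elem_of_isElementaryAbelian hA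
  have hA2 : p ^ 2 ≤ Nat.card A := hcard ▸ Nat.pow_le_pow_right hp.pos (by omega)
  rw [← sup_pD (φ := A.subtype) hE hA2 hG d]
  refine lcs_eq_bot_of_family (φ := A.subtype) (e := 2 ^ d) hE hcard hk hd hG (term_gder d)
    (fun F => le_rfl) (fun F => gder_le F d) (pD_inv hE d) (pD_fixed d) (pD_refines d)
    (exists_pD_bound hE d) (hcard ▸ card_pD_le d) fun a ha => ?_
  rw [← derivedSeries_map_subtype]
  refine lcs_lcs_map _ _ c ?_
  rw [← eqLocus_eq_Fix A a]
  exact hc a a.2 (fun e => ha (Subtype.ext e))

end Cfsg.Agent.S3906
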