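import Cfsg.Statements.S3907
import Cfsg.Agent.Lib.CoprimePieces99Series
-- import your own Cfsg.Agent.* helpers here

set_option autoImplicit false
open Cfsg Cfsg.Agent.CoprimePieces99

namespace Cfsg.Agent.S3907

/-- Let p be a prime and let k ≥ 3 and c ≥ 0 be integers. There is a bound B depending only on p, k and c such that the following holds for every finite group G of order prime to p and every elementary abelian subgroup A of order p^k of the automorphism group of G: if, for every non-identity a ∈ A, the (k−2)-th term of the lower central series of the fixed-point subgroup C_G(a) (the first term being the whole group) is nilpotent of class at most c, then the (k−2)-th term of the lower central series of G is nilpotent of class at most B. -/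
theorem result (p k c : ℕ) (hp : p.Prime) (hk : 3 ≤ k) :
    ∃ B : ℕ, ∀ (G : Type) [Group G] [Finite G], (Nat.card G).Coprime p →
      ∀ A : Subgroup (MulAut G), Cfsg.IsElementaryAbelian p A → Nat.card ↥A = p ^ k →
        (∀ a ∈ A, a ≠ 1 → ((⊤ : Subgroup ↥((a : MulAut G).toMonoidHom.eqLocus (MonoidHom.id G))).lowerCentralSeries (k - 3)).lowerCentralSeries c = ⊥) →
        ((⊤ : Subgroup G).lowerCentralSeries (k - 3)).lowerCentralSeries B = ⊥ := by
  haveI := Fact.mk hp
  refine ⟨classBound p c (k - 3 + c) (numL (2 ^ (p ^ k)) (k - 3)), fun G _ _ hG A hA hcard hc => ?_⟩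
  have hE := elem_of_isElementaryAbelian hA
  have hA2 : p ^ 2 ≤ Nat.card A := hcard ▸ Nat.pow_le_pow_right hp.pos (by omega)
  rw [← sup_pL (φ := A.subtype) hE hA2 hG (k - 3)]
  refine lcs_eq_bot_of_family (φ := A.subtype) (e := k - 3 + 1) hE hcard hk (by omega) hG
    (term_lcs (k - 3)) (fun F => gder_le_lcs F _) (fun F => Subgroup.lowerCentralSeries_le_self F _)
    (pL_inv hE _) (pL_fixed _) ?_ (exists_pL_bound hE _) (hcard ▸ card_pL_le _) fun a ha => ?_
  · exact (pStep_refines (Refines.rfl' _) (pL_refines_pc0 _)).trans' (pL_refines _)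
  rw [← Subgroup.top_subtype_lowerCentralSeries (Fix A.subtype (Subgroup.zpowers a)) (k - 3)]
  refine lcs_lcs_map _ _ c ?_
  rw [← eqLocus_eq_Fix A a]
  exact hc a a.2 (fun e => ha (Subtype.ext e))

end Cfsg.Agent.S3907
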