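import Mathlib
import Cfsg.Agent.Lib.PGroupsCyclic
import Cfsg.Statements.S3908
-- import your own Cfsg.Agent.* helpers here

set_option autoImplicit false
open Cfsg

namespace Cfsg.Agent.S3908

/-- Let G be a finite group in which any two abelian subgroups of the same order are conjugate. Then a Sylow 2-subgroup of G is cyclic, elementary abelian or generalized quaternion, and for an odd prime p a Sylow p-subgroup of G is cyclic or has exponent dividing p. -/
theorem result {G : Type*} [Group G] [Finite G] (hB : ∀ A B : Subgroup G, IsMulCommutative ↥A → IsMulCommutative ↥B → Nat.card ↥A = Nat.card ↥B → ∃ g : G, B = A.map (MulAut.conj g).toMonoidHom) :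
    (∀ P : Sylow 2 G, IsCyclic ↥(P : Subgroup G) ∨ Cfsg.IsElementaryAbelian 2 (P : Subgroup G) ∨ ∃ k : ℕ, Nonempty (↥(P : Subgroup G) ≃* QuaternionGroup (2 ^ k))) ∧
    ∀ (p : ℕ) [Fact p.Prime], p ≠ 2 → ∀ P : Sylow p G, IsCyclic ↥(P : Subgroup G) ∨ ∀ x ∈ (P : Subgroup G), x ^ p = 1 := by
  classical
  have main : ∀ (p : ℕ) [Fact p.Prime] (P : Sylow p G), (∀ x ∈ (P : Subgroup G), x ^ p = 1) ∨
      IsCyclic (P : Subgroup G) ∨ (p = 2 ∧ ∃ n : ℕ, Nonempty ((P : Subgroup G) ≃* QuaternionGroup (2 ^ n))) := by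
    intro p _ P
    by_cases he : ∀ x ∈ (P : Subgroup G), x ^ p = 1
    · exact Or.inl he
    right
    have hp : p.Prime := Fact.out
    push Not at he
    obtain ⟨x, hx, hxp⟩ := he
    obtain ⟨k, hk⟩ := (IsPGroup.iff_orderOf.mp P.isPGroup') ⟨x, hx⟩
    rw [Subgroup.orderOf_mk] at hk
    have hk2 : 2 ≤ k := by
      by_contra h
      exact hxp (orderOf_dvd_iff_pow_eq_one.mp (hk ▸ (pow_dvd_pow p (by omega : k ≤ 1)).trans (pow_one p).dvd))
    set y := x ^ p ^ (k - 2) with hy
    have hyo : orderOf y = p ^ 2 := by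
      rw [hy, orderOf_pow_of_dvd (pow_ne_zero _ hp.ne_zero) (hk ▸ pow_dvd_pow p (by omega)), hk,
        Nat.pow_div (by omega) hp.pos]
      congr 1; omega
    have noEl : ∀ A : Subgroup G, IsMulCommutative A → Nat.card A = p ^ 2 → (∀ a ∈ A, a ^ p = 1) → False := by
      intro A hA hAc hAe
      obtain ⟨g, hg⟩ := hB A (Subgroup.zpowers y) hA inferInstance (by rw [hAc, Nat.card_zpowers, hyo])
      have h1 : y ∈ A.map (MulAut.conj g).toMonoidHom := hg ▸ Subgroup.mem_zpowers y
      obtain ⟨a, ha, hae⟩ := h1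
      have h2 : y ^ p = 1 := by rw [← hae, ← map_pow, hAe a ha, map_one]
      have h3 := orderOf_dvd_of_pow_eq_one h2
      rw [hyo] at h3
      exact absurd (Nat.le_of_dvd hp.pos h3) (by have := hp.two_le; nlinarith)
    haveI : Nontrivial (P : Subgroup G) := ⟨⟨⟨x, hx⟩, 1, fun h => hxp (by
      rw [show x = 1 from congrArg Subtype.val h, one_pow])⟩⟩
    haveI := P.isPGroup'.center_nontrivial
    obtain ⟨z, hz⟩ := exists_prime_orderOf_dvd_card' (G := Subgroup.center (P : Subgroup G)) p
      ((P.isPGroup'.to_subgroup _).card_eq_or_dvd.resolve_left (Finite.one_lt_card (α := Subgroup.center (P : Subgroup G))).ne')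
    have key : ∀ H : Subgroup (P : Subgroup G), Nat.card H = p → H = Subgroup.zpowers (z : (P : Subgroup G)) := by
      intro H hH
      by_contra hne
      have hzc : Nat.card (Subgroup.zpowers (z : (P : Subgroup G))) = p := by
        rw [Nat.card_zpowers, Subgroup.orderOf_coe, hz]
      set S := Subgroup.zpowers (z : (P : Subgroup G)) ⊔ H with hS
      have hle : Subgroup.zpowers (z : (P : Subgroup G)) ≤ Subgroup.center _ := Subgroup.zpowers_le.mpr z.2
      haveI : (Subgroup.zpowers (z : (P : Subgroup G))).Normal := PGroupsBasic.normal_of_le_center hle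
      have hinf : Subgroup.zpowers (z : (P : Subgroup G)) ⊓ H = ⊥ := by
        rw [inf_comm]
        exact (PGroupsBasic.le_or_inf_eq_bot hH _).resolve_left fun h =>
          hne (Subgroup.eq_of_le_of_card_ge h (by rw [hzc, hH]))
      have hcS : Nat.card S = p * p := by
        rw [hS, PGroupsBasic.card_sup_of_normal hinf, hzc, hH]
      haveI : IsCyclic H := isCyclic_of_prime_card hH
      have hcomm : ∀ u ∈ ((Subgroup.zpowers (z : (P : Subgroup G)) : Set _) ∪ (H : Set (P : Subgroup G))), ∀ v ∈ ((Subgroup.zpowers (z : (P : Subgroup G)) : Set _) ∪ (H : Set (P : Subgroup G))), u * v = v * u := by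
        rintro u (hu | hu) v (hv | hv)
        · exact (Subgroup.mem_center_iff.mp (hle hv) u)
        · exact (Subgroup.mem_center_iff.mp (hle hu) v).symm
        · exact Subgroup.mem_center_iff.mp (hle hv) u
        · exact congrArg Subtype.val ((IsMulCommutative.is_comm (M := H)).comm ⟨u, hu⟩ ⟨v, hv⟩)
      have hel := PGroupsBasic.isElementaryAbelian_closure (p := p) hcomm (by
        rintro u (hu | hu)
        · exact PGroupsBasic.pow_eq_one_of_card hzc hu
        · exact PGroupsBasic.pow_eq_one_of_card hH hu)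
      rw [Subgroup.closure_union, Subgroup.closure_eq, Subgroup.closure_eq] at hel
      have h' := PGroupsBasic.isElementaryAbelian_map_hom hel (P : Subgroup G).subtype
      exact noEl _ h'.1 (by rw [Subgroup.card_subtype, hcS, pow_two]) h'.2
    exact PGroupsCyclic.isCyclic_or_quaternion P.isPGroup' fun H K hH hK => (key H hH).trans (key K hK).symm
  refine ⟨fun P => ?_, fun p _ hp P => ?_⟩
  · rcases main 2 P with h | h | ⟨-, n, h⟩
    · refine Or.inr (Or.inl ⟨⟨⟨fun a b => Subtype.ext ?_⟩⟩, h⟩)
      show (a : G) * b = b * a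
      have ha := h a a.2
      have hb := h b b.2
      have hab := h _ (mul_mem a.2 b.2)
      rw [pow_two, mul_eq_one_iff_eq_inv] at ha hb hab
      rw [hab, mul_inv_rev, ← ha, ← hb]
    · exact Or.inl h
    · exact Or.inr (Or.inr ⟨n, h⟩)
  · rcases main p P with h | h | ⟨h2, -⟩
    · exact Or.inr h
    · exact Or.inl h
    · exact absurd h2 hp

end Cfsg.Agent.S3908
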