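import Mathlib
import Cfsg.Statements.S3909
-- import your own Cfsg.Agent.* helpers here

set_option autoImplicit false
open Cfsg

namespace Cfsg.Agent.S3909

/-- Let G be a finite group in which any two abelian subgroups of the same order are conjugate. Let M be a normal subgroup of G. If M contains an element of the same order as a ∈ G, then a ∈ M; and if M is elementary abelian of order p^t with p prime and t ≥ 2, then M is the unique Sylow p-subgroup of G. -/
theorem result {G : Type*} [Group G] [Finite G] (hB : ∀ A B : Subgroup G, IsMulCommutative ↥A → IsMulCommutative ↥B → Nat.card ↥A = Nat.card ↥B → ∃ g : G, B = A.map (MulAut.conj g).toMonoidHom) (M : Subgroup G) [M.Normal] :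
    (∀ a : G, (∃ m ∈ M, orderOf m = orderOf a) → a ∈ M) ∧
    ∀ (p t : ℕ) [Fact p.Prime], 2 ≤ t → Nat.card ↥M = p ^ t → Cfsg.IsElementaryAbelian p M → ∀ P : Sylow p G, (P : Subgroup G) = M := by
  classical
  have hcyc : ∀ a b : G, orderOf a = orderOf b → ∃ g : G, Subgroup.zpowers b = (Subgroup.zpowers a).map (MulAut.conj g).toMonoidHom :=
    fun a b h => hB _ _ inferInstance inferInstance (by rw [Nat.card_zpowers, Nat.card_zpowers, h])
  have h1 : ∀ a : G, (∃ m ∈ M, orderOf m = orderOf a) → a ∈ M := by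
    rintro a ⟨m, hm, he⟩
    obtain ⟨g, hg⟩ := hcyc m a he
    have ha : a ∈ (Subgroup.zpowers m).map (MulAut.conj g).toMonoidHom := hg ▸ Subgroup.mem_zpowers a
    obtain ⟨y, hy, rfl⟩ := ha
    exact Subgroup.Normal.conj_mem inferInstance y (Subgroup.zpowers_le.mpr hm hy) g
  refine ⟨h1, ?_⟩
  intro p t hp ht hcard hel P
  have hpp : p.Prime := Fact.out
  have hMP : M ≤ (P : Subgroup G) := by
    obtain ⟨Q, hQ⟩ := (IsPGroup.of_card hcard).exists_le_sylow
    obtain ⟨g, hg⟩ := MulAction.exists_smul_eq G Q P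
    rw [← hg, Sylow.coe_subgroup_smul]
    intro x hx
    exact ⟨g⁻¹ * x * g, hQ (by simpa using Subgroup.Normal.conj_mem (inferInstance : M.Normal) x hx g⁻¹), by simp [mul_assoc]⟩
  obtain ⟨U', hU'⟩ := Sylow.exists_subgroup_card_pow_prime_of_le_card (n := 2) hpp
    (IsPGroup.of_card hcard) (hcard ▸ Nat.pow_le_pow_right hpp.pos ht)
  set U := U'.map M.subtype with hU
  have hUc : Nat.card U = p ^ 2 := by rw [hU, Subgroup.card_subtype, hU']
  have hUM : U ≤ M := Subgroup.map_subtype_le _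
  have hUab : IsMulCommutative U :=
    ⟨⟨fun a b => Subtype.ext (congrArg Subtype.val (hel.1.is_comm.comm ⟨a, hUM a.2⟩ ⟨b, hUM b.2⟩) : )⟩⟩
  have hmem : ∀ z : G, z ^ p = 1 → z ∈ M := by
    intro z hz
    rcases eq_or_ne z 1 with rfl | hz1
    · exact one_mem M
    · have hMne : Nontrivial M := Finite.one_lt_card_iff_nontrivial.mp (hcard ▸ Nat.one_lt_pow (by omega) hpp.one_lt)
      obtain ⟨m, hm⟩ := exists_ne (1 : M)
      refine h1 z ⟨m, m.2, ?_⟩
      rw [orderOf_eq_prime hz hz1, orderOf_eq_prime (hel.2 m m.2) (fun h => hm (Subtype.ext h))]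
  refine le_antisymm ?_ hMP
  intro x hx
  obtain ⟨k, hk⟩ := (IsPGroup.iff_orderOf.mp P.isPGroup') ⟨x, hx⟩
  rw [Subgroup.orderOf_mk] at hk
  match k, hk with
  | 0, hk => rw [pow_zero, orderOf_eq_one_iff] at hk; rw [hk]; exact one_mem M
  | 1, hk => exact hmem x (by rw [← orderOf_dvd_iff_pow_eq_one, hk, pow_one])
  | j + 2, hk =>
    exfalso
    have hy : orderOf (x ^ p ^ j) = p ^ 2 := by
      rw [orderOf_pow_of_dvd (pow_ne_zero _ hpp.ne_zero) (hk ▸ pow_dvd_pow p (by omega)), hk,
        Nat.pow_div (by omega) hpp.pos]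
      congr 1; omega
    obtain ⟨g, hg⟩ := hB U (Subgroup.zpowers (x ^ p ^ j)) hUab inferInstance (by rw [hUc, Nat.card_zpowers, hy])
    have hy' : x ^ p ^ j ∈ U.map (MulAut.conj g).toMonoidHom := hg ▸ Subgroup.mem_zpowers _
    obtain ⟨u, hu, hue⟩ := hy'
    have : (x ^ p ^ j) ^ p = 1 := by
      rw [← hue, ← map_pow, hel.2 u (hUM hu), map_one]
    have h2 := orderOf_dvd_of_pow_eq_one this
    rw [hy] at h2
    exact absurd (Nat.le_of_dvd hpp.pos h2) (by have := hpp.two_le; nlinarith)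

end Cfsg.Agent.S3909
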