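import Mathlib
import Cfsg.Statements.S3910
-- import your own Cfsg.Agent.* helpers here

set_option autoImplicit false
open Cfsg

namespace Cfsg.Agent.S3910

theorem meets_center {Q : Type*} [Group Q] [Group.IsNilpotent Q] (N : Subgroup Q) [N.Normal]
    (hN : N ≠ ⊥) : ∃ x ∈ N, x ∈ Subgroup.center Q ∧ x ≠ 1 := by
  classical
  have hex : ∃ n, N ⊓ Subgroup.upperCentralSeries Q n ≠ ⊥ := by
    obtain ⟨n, hn⟩ := Group.IsNilpotent.nilpotent (G := Q)
    exact ⟨n, by rwa [hn, inf_top_eq]⟩
  obtain ⟨j, hj⟩ : ∃ j, Nat.find hex = j + 1 := by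
    refine ⟨Nat.find hex - 1, ?_⟩
    have : Nat.find hex ≠ 0 := fun h => by
      have h2 := Nat.find_spec hex
      rw [h, Subgroup.upperCentralSeries_zero, inf_bot_eq] at h2
      exact h2 rfl
    omega
  have hspec := Nat.find_spec hex
  rw [hj] at hspec
  obtain ⟨x, ⟨hxN, hxu⟩, hx1⟩ := Subgroup.bot_or_exists_ne_one _ |>.resolve_left hspec
  refine ⟨x, hxN, Subgroup.mem_center_iff.mpr fun y => ?_, hx1⟩
  have hbot : N ⊓ Subgroup.upperCentralSeries Q j = ⊥ := by
    by_contra h
    exact Nat.find_min hex (by omega) h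
  have h1 : x * y * x⁻¹ * y⁻¹ ∈ N ⊓ Subgroup.upperCentralSeries Q j := by
    refine ⟨?_, Subgroup.mem_upperCentralSeries_succ_iff.mp hxu y⟩
    have := N.mul_mem hxN (Subgroup.Normal.conj_mem inferInstance _ (N.inv_mem hxN) y)
    simpa [mul_assoc] using this
  rw [hbot, Subgroup.mem_bot, mul_inv_eq_one, mul_inv_eq_iff_eq_mul] at h1
  exact h1.symm

theorem small {G : Type*} [Group G] {p : ℕ} [Fact p.Prime] (k : ℕ)
    (ih : ∀ i ≤ k, ∀ a b : G, orderOf a = p ^ i → orderOf b = p ^ i → Subgroup.zpowers a = Subgroup.zpowers b)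
    (a : G) (ha : orderOf a = p ^ (k + 1))
    (i : ℕ) (hi : i ≤ k) (v : G) (hv : orderOf v = p ^ i) : v ∈ Subgroup.zpowers (a ^ p) := by
  have hp : p.Prime := Fact.out
  have h : orderOf (a ^ p ^ (k + 1 - i)) = p ^ i := by
    rw [orderOf_pow_of_dvd (pow_ne_zero _ hp.ne_zero) (ha ▸ pow_dvd_pow p (by omega)), ha,
      Nat.pow_div (by omega) hp.pos]
    congr 1; omega
  have hv' : v ∈ Subgroup.zpowers (a ^ p ^ (k + 1 - i)) := ih i hi _ _ hv h ▸ Subgroup.mem_zpowers v
  refine Subgroup.zpowers_le.mpr ?_ hv'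
  rw [show k + 1 - i = (k - i) + 1 by omega, pow_succ', pow_mul]
  exact Subgroup.pow_mem _ (Subgroup.mem_zpowers _) _

/-- A finite nilpotent group in which any two abelian subgroups of the same order are conjugate is cyclic. -/
theorem result {G : Type*} [Group G] [Finite G] (hB : ∀ A B : Subgroup G, IsMulCommutative ↥A → IsMulCommutative ↥B → Nat.card ↥A = Nat.card ↥B → ∃ g : G, B = A.map (MulAut.conj g).toMonoidHom) (hnil : Group.IsNilpotent G) : IsCyclic G := by
  classical
  have := hnil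
  suffices hsyl : ∀ (p : ℕ) [Fact p.Prime] (P : Sylow p G), IsCyclic (P : Subgroup G) by
    have : IsZGroup G := ⟨fun p hp P => haveI := Fact.mk hp; hsyl p P⟩
    infer_instance
  intro p hp P
  have hPn : (P : Subgroup G).Normal := inferInstance
  have hpp : p.Prime := Fact.out
  -- key: for every k, all elements of order p^k generate the same subgroup
  suffices key : ∀ k : ℕ, ∀ a b : G, orderOf a = p ^ k → orderOf b = p ^ k → Subgroup.zpowers a = Subgroup.zpowers b by
    obtain ⟨g, hg⟩ := Finite.exists_max (fun z : ↥(P : Subgroup G) => orderOf z)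
    refine ⟨⟨g, fun x => ?_⟩⟩
    obtain ⟨i, hi⟩ := (IsPGroup.iff_orderOf.mp P.isPGroup') g
    obtain ⟨j, hj⟩ := (IsPGroup.iff_orderOf.mp P.isPGroup') x
    have hji : j ≤ i := (Nat.pow_le_pow_iff_right hpp.one_lt).mp (hj ▸ hi ▸ hg x)
    have hy : orderOf ((g : G) ^ p ^ (i - j)) = p ^ j := by
      rw [orderOf_pow_of_dvd (pow_ne_zero _ hpp.ne_zero)]
      · rw [Subgroup.orderOf_coe, hi, Nat.pow_div (by omega) hpp.pos]; congr 1; omega
      · rw [Subgroup.orderOf_coe, hi]; exact pow_dvd_pow p (by omega)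
    have := key j (x : G) _ (by rw [Subgroup.orderOf_coe, hj]) hy
    have hx : (x : G) ∈ Subgroup.zpowers ((g : G) ^ p ^ (i - j)) := this ▸ Subgroup.mem_zpowers _
    obtain ⟨n, hn⟩ := hx
    refine ⟨(p ^ (i - j) : ℕ) * n, Subtype.ext ?_⟩
    rw [← hn]
    show (g : G) ^ (((p ^ (i - j) : ℕ) : ℤ) * n) = ((g : G) ^ p ^ (i - j)) ^ n
    rw [zpow_mul, zpow_natCast]
  intro k
  induction k using Nat.strong_induction_on with
  | _ k ihs =>
  cases k with
  | zero =>
    intro a b ha hb
    rw [pow_zero, orderOf_eq_one_iff] at ha hb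
    rw [ha, hb]
  | succ k =>
    intro a b ha hb
    have ih := ihs k (Nat.lt_succ_self k)
    set U := Subgroup.zpowers (a ^ p) with hUdef
    have hap : orderOf (a ^ p) = p ^ k := by
      rw [orderOf_pow_of_dvd hpp.ne_zero (ha ▸ dvd_pow_self p (by omega)), ha, pow_succ, Nat.mul_div_cancel _ hpp.pos]
    have hUn : U.Normal := by
      refine ⟨fun u hu g => ?_⟩
      have hconj : orderOf (g * a ^ p * g⁻¹) = p ^ k :=
        hap ▸ orderOf_injective (MulAut.conj g).toMonoidHom (MulAut.conj g).injective (a ^ p)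
      rw [hUdef, ← ih _ _ hconj hap]
      obtain ⟨n, rfl⟩ := Subgroup.mem_zpowers_iff.mp hu
      exact ⟨n, by simp⟩
    have hinP : ∀ (y : G) (j : ℕ), y ^ p ^ j = 1 → y ∈ (P : Subgroup G) := by
      intro y j hj
      have hpg : IsPGroup p (Subgroup.zpowers y) := by
        intro z
        obtain ⟨n, hn⟩ := z.2
        refine ⟨j, Subtype.ext ?_⟩
        show (z : G) ^ p ^ j = 1
        rw [← hn]
        show (y ^ n) ^ p ^ j = 1
        rw [← zpow_natCast, ← zpow_mul, mul_comm, zpow_mul, zpow_natCast, hj, one_zpow]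
      obtain ⟨Q, hQ⟩ := hpg.exists_le_sylow
      have := Sylow.unique_of_normal P hPn
      rw [Subsingleton.elim Q P] at hQ
      exact hQ (Subgroup.mem_zpowers y)
    -- a central element of order `p` modulo `U`
    let π := QuotientGroup.mk' U
    set N : Subgroup (G ⧸ U) := (P : Subgroup G).map π with hN
    have : N.Normal := hPn.map π (QuotientGroup.mk'_surjective U)
    have hNne : N ≠ ⊥ := by
      intro h
      have h1 : π a ∈ N := Subgroup.mem_map_of_mem π (hinP a (k + 1) (ha ▸ pow_orderOf_eq_one a))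
      rw [h, Subgroup.mem_bot] at h1
      have h2 : a ∈ U := (QuotientGroup.eq_one_iff a).mp h1
      have h3 := Subgroup.orderOf_dvd_natCard U h2
      rw [hUdef, Nat.card_zpowers, hap, ha] at h3
      exact absurd ((Nat.pow_dvd_pow_iff_le_right hpp.one_lt).mp h3) (by omega)
    obtain ⟨x, hxN, hxc, hx1⟩ := meets_center N hNne
    obtain ⟨v0, hv0, rfl⟩ := hxN
    have hjm : π v0 ∈ (P : Subgroup G).map π := Subgroup.mem_map_of_mem π hv0
    obtain ⟨j, hj⟩ := (IsPGroup.iff_orderOf.mp (P.isPGroup'.map π)) ⟨π v0, hjm⟩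
    rw [Subgroup.orderOf_mk] at hj
    have hjpos : 0 < j := Nat.pos_of_ne_zero (by rintro rfl; exact hx1 (orderOf_eq_one_iff.mp (by simpa using hj)))
    set v := v0 ^ p ^ (j - 1) with hv
    have hvbar : orderOf (π v) = p := by
      rw [hv, map_pow, orderOf_pow_of_dvd (pow_ne_zero _ hpp.ne_zero) (hj ▸ pow_dvd_pow p (by omega)), hj,
        Nat.pow_div (by omega) hpp.pos, show j - (j - 1) = 1 by omega, pow_one]
    have hvc : π v ∈ Subgroup.center (G ⧸ U) := by rw [hv, map_pow]; exact Subgroup.pow_mem _ hxc _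
    have hvU : v ∉ U := fun h => by
      rw [show π v = 1 from (QuotientGroup.eq_one_iff v).mpr h, orderOf_one] at hvbar
      exact hpp.ne_one hvbar.symm
    have hvp : v ^ p ∈ U := (QuotientGroup.eq_one_iff _).mp (by
      show π (v ^ p) = 1
      rw [map_pow, ← hvbar, pow_orderOf_eq_one])
    obtain ⟨i, hi⟩ := (IsPGroup.iff_orderOf.mp P.isPGroup') ⟨v, (P : Subgroup G).pow_mem hv0 _⟩
    rw [Subgroup.orderOf_mk] at hi
    have hik : k < i := by
      by_contra h
      apply hvU
      have hoi : orderOf ((a ^ p) ^ p ^ (k - i)) = p ^ i := by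
        rw [orderOf_pow_of_dvd (pow_ne_zero _ hpp.ne_zero) (hap ▸ pow_dvd_pow p (by omega)), hap,
          Nat.pow_div (by omega) hpp.pos]
        congr 1; omega
      -- elements of order at most `p^k` lie in `U`
      exact small k (fun i hik => ihs i (by omega)) a ha i (by omega) v hi
    have hik' : i = k + 1 := by
      have h1 := Subgroup.orderOf_dvd_natCard U hvp
      rw [hUdef, Nat.card_zpowers, hap, orderOf_pow_of_dvd hpp.ne_zero (hi ▸ dvd_pow_self p (by omega)), hi] at h1
      obtain ⟨i', rfl⟩ : ∃ i', i = i' + 1 := ⟨i - 1, by omega⟩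
      rw [pow_succ, Nat.mul_div_cancel _ hpp.pos] at h1
      have := (Nat.pow_dvd_pow_iff_le_right hpp.one_lt).mp h1
      omega
    subst hik'
    have hUv : U ≤ Subgroup.zpowers v := by
      have : orderOf (v ^ p) = p ^ k := by
        rw [orderOf_pow_of_dvd hpp.ne_zero (hi ▸ dvd_pow_self p (by omega)), hi, pow_succ, Nat.mul_div_cancel _ hpp.pos]
      rw [hUdef, ih _ _ hap this]
      exact Subgroup.zpowers_le.mpr (Subgroup.pow_mem _ (Subgroup.mem_zpowers v) p)
    have hVn : (Subgroup.zpowers v).Normal := by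
      refine ⟨fun w hw g => ?_⟩
      obtain ⟨n, rfl⟩ := Subgroup.mem_zpowers_iff.mp hw
      rw [← conj_zpow]
      refine Subgroup.zpow_mem _ ?_ n
      have h1 : v⁻¹ * (g * v * g⁻¹) ∈ U := by
        refine (QuotientGroup.eq_one_iff _).mp ?_
        show π (v⁻¹ * (g * v * g⁻¹)) = 1
        rw [map_mul, map_mul, map_mul, (Subgroup.mem_center_iff.mp hvc) (π g), map_inv, map_inv]
        group
      simpa using Subgroup.mul_mem _ (Subgroup.mem_zpowers v) (hUv h1)
    have all : ∀ c : G, orderOf c = p ^ (k + 1) → Subgroup.zpowers c = Subgroup.zpowers v := by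
      intro c hc
      obtain ⟨g, hg⟩ := hB (Subgroup.zpowers v) (Subgroup.zpowers c) inferInstance inferInstance
        (by rw [Nat.card_zpowers, Nat.card_zpowers, hi, hc])
      rw [hg]
      refine le_antisymm ?_ ?_
      · rintro _ ⟨w, hw, rfl⟩
        exact hVn.conj_mem w hw g
      · intro w hw
        exact ⟨g⁻¹ * w * g, by simpa using hVn.conj_mem w hw g⁻¹, by simp [mul_assoc]⟩
    rw [all a ha, all b hb]

end Cfsg.Agent.S3910
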