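import Mathlib
import Cfsg.Agent.S3908
import Cfsg.Agent.S3909
import Cfsg.Statements.S3911
-- import your own Cfsg.Agent.* helpers here

set_option autoImplicit false
open Cfsg

namespace Cfsg.Agent.S3911

variable {G : Type*} [Group G] [Finite G]

theorem le_of_card_dvd {C H K : Subgroup G} (hC : IsCyclic C) (hH : H ≤ C) (hK : K ≤ C)
    (h : Nat.card H ∣ Nat.card K) : H ≤ K := by
  haveI := hC
  haveI : IsCyclic K := Subgroup.isCyclic_of_le hK
  obtain ⟨k, hk⟩ := IsCyclic.exists_generator (α := K)
  have hko : orderOf k = Nat.card K := orderOf_eq_card_of_forall_mem_zpowers hk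
  have hd : Nat.card H ≠ 0 := Nat.card_pos.ne'
  set u := k ^ (Nat.card K / Nat.card H) with hu
  have huo : orderOf u = Nat.card H := by
    rw [hu, orderOf_pow_of_dvd (Nat.div_ne_zero_iff_of_dvd h |>.mpr ⟨Nat.card_pos.ne', hd⟩)
      (by rw [hko]; exact Nat.div_dvd_of_dvd h), hko, Nat.div_div_self h Nat.card_pos.ne']
  have e : H = Subgroup.zpowers (u : G) :=
    PGroupsCyclic.eq_of_card_eq_of_isCyclic hC hH (Subgroup.zpowers_le.mpr (hK u.2))
      (by rw [Nat.card_zpowers, Subgroup.orderOf_coe, huo])
  rw [e]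
  exact Subgroup.zpowers_le.mpr u.2

theorem sylow_in {H : Subgroup G} {M : Subgroup G} [M.Normal] {p : ℕ} [Fact p.Prime] (P : Sylow p G)
    (hH : IsPGroup p H) :
    p ^ (Nat.card M).factorization p ∣ Nat.card ↥((P : Subgroup G) ⊓ M) := by
  obtain ⟨R⟩ : Nonempty (Sylow p M) := inferInstance
  obtain ⟨Q, hQ⟩ := (R.isPGroup'.map M.subtype).exists_le_sylow
  obtain ⟨g, hg⟩ := MulAction.exists_smul_eq G Q P
  have hle : ((R : Subgroup M).map M.subtype).map (MulAut.conj g).toMonoidHom ≤ (P : Subgroup G) ⊓ M := by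
    rintro _ ⟨r, hr, rfl⟩
    refine ⟨?_, Subgroup.Normal.conj_mem inferInstance r (Subgroup.map_subtype_le _ hr) g⟩
    rw [← hg, Sylow.coe_subgroup_smul]
    exact ⟨r, hQ hr, rfl⟩
  have h := Subgroup.card_dvd_of_le hle
  rwa [Subgroup.card_map_of_injective (MulAut.conj g).injective, Subgroup.card_subtype,
    R.card_eq_multiplicity] at h

theorem exists_lift (hB : ∀ A B : Subgroup G, IsMulCommutative ↥A → IsMulCommutative ↥B →
      Nat.card ↥A = Nat.card ↥B → ∃ g : G, B = A.map (MulAut.conj g).toMonoidHom)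
    (M : Subgroup G) [M.Normal] (hM : Odd (Nat.card ↥M)) (A : Subgroup (G ⧸ M)) (hA : IsMulCommutative A) :
    ∃ X : Subgroup G, X.map (QuotientGroup.mk' M) = A ∧ IsMulCommutative X ∧
      ∀ p : ℕ, p.Prime → (Nat.card X).factorization p =
        if p ∣ Nat.card A then (Nat.card A).factorization p + (Nat.card M).factorization p else 0 := by
  classical
  set π := QuotientGroup.mk' M with hπ
  obtain ⟨X, -, hX⟩ := exists_minimal_le_of_wellFoundedLT (fun X : Subgroup G => X.map π = A)
    (A.comap π) (Subgroup.map_comap_eq_self_of_surjective (QuotientGroup.mk'_surjective M) A)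
  have hXA : X.map π = A := hX.prop
  have hminimal : ∀ W : Subgroup X, W.map X.subtype ⊔ M = X ⊔ M → W = ⊤ := by
    intro W hW
    have hle : W.map X.subtype ≤ X := Subgroup.map_subtype_le W
    have h1 : (W.map X.subtype).map π = A := by
      rw [← hXA, ← sup_bot_eq ((W.map X.subtype).map π), ← sup_bot_eq (X.map π),
        ← QuotientGroup.map_mk'_self M, ← Subgroup.map_sup, ← Subgroup.map_sup, hW]
    have h2 := hX.2 h1 hle
    rw [eq_top_iff]
    intro x _
    obtain ⟨w, hw, hwe⟩ := h2 x.2
    rwa [← (Subtype.ext hwe : w = x)]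
  set K := M.subgroupOf X with hK
  have hKcard : Nat.card X = Nat.card K * Nat.card A := by
    have hrange : (π.comp X.subtype).range = A := by rw [MonoidHom.range_comp, Subgroup.range_subtype, hXA]
    have hker : (π.comp X.subtype).ker = K := by
      rw [← MonoidHom.comap_ker, hπ, QuotientGroup.ker_mk']
      rfl
    have := Subgroup.card_mul_index (π.comp X.subtype).ker
    rw [Subgroup.index_ker, hrange, hker] at this
    exact this.symm
  -- `X` is nilpotent
  have hmax : ∀ W : Subgroup X, IsCoatom W → W.Normal := by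
    intro W hW
    have hKW : K ≤ W := by
      by_contra hne
      refine hW.1 (hminimal W ?_)
      have h1 : W ⊔ K = ⊤ := hW.2 _ (left_lt_sup.mpr hne)
      refine le_antisymm (sup_le_sup_right (Subgroup.map_subtype_le W) M) (sup_le ?_ le_sup_right)
      intro x hx
      have h2 : (x : G) ∈ (W ⊔ K).map X.subtype := ⟨⟨x, hx⟩, h1 ▸ Subgroup.mem_top _, rfl⟩
      rw [Subgroup.map_sup, hK, Subgroup.subgroupOf_map_subtype] at h2
      exact (sup_le_sup_left inf_le_left _ : _ ≤ W.map X.subtype ⊔ M) h2
    have hcomm : ∀ a b : X, a * b * a⁻¹ * b⁻¹ ∈ K := by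
      intro a b
      show (a : G) * b * (a : G)⁻¹ * (b : G)⁻¹ ∈ M
      have ha : π a ∈ A := hXA ▸ Subgroup.mem_map_of_mem π a.2
      have hb : π b ∈ A := hXA ▸ Subgroup.mem_map_of_mem π b.2
      rw [← QuotientGroup.eq_one_iff, QuotientGroup.mk_mul, QuotientGroup.mk_mul, QuotientGroup.mk_mul,
        QuotientGroup.mk_inv, QuotientGroup.mk_inv, mul_inv_eq_one, mul_inv_eq_iff_eq_mul]
      exact congrArg Subtype.val (hA.is_comm.comm ⟨_, ha⟩ ⟨_, hb⟩)
    refine ⟨fun w hw g => ?_⟩
    have := W.mul_mem (hKW (hcomm g w)) hw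
    simpa [mul_assoc] using this
  haveI hnil : Group.IsNilpotent X := (Group.isNilpotent_of_finite_tfae (G := X).out 2 0).mp hmax
  have vK : ∀ p : ℕ, (Nat.card X).factorization p = (Nat.card K).factorization p + (Nat.card A).factorization p := by
    intro p
    rw [hKcard, Nat.factorization_mul Nat.card_pos.ne' Nat.card_pos.ne']
    rfl
  have hKM : ∀ p : ℕ, p.Prime → p ∣ Nat.card K → p ∣ Nat.card M := by
    intro p _ h
    refine h.trans ?_
    rw [← Subgroup.card_subtype X K, hK, Subgroup.subgroupOf_map_subtype]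
    exact Subgroup.card_dvd_of_le inf_le_left
  -- primes not dividing the order of `A` do not divide the order of `X`
  have hz : ∀ p : ℕ, p.Prime → ¬ p ∣ Nat.card A → ∀ S : Sylow p X, (S : Subgroup X) = ⊥ := by
    intro p hp hpA S
    haveI := Fact.mk hp
    obtain ⟨H, hH⟩ := Subgroup.exists_right_complement'_of_coprime (N := (S : Subgroup X)) S.card_coprime_index
    have hSK : (S : Subgroup X) ≤ K := by
      intro s hs
      show (s : G) ∈ M
      obtain ⟨k, hk⟩ := (IsPGroup.iff_orderOf.mp S.isPGroup') ⟨s, hs⟩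
      rw [Subgroup.orderOf_mk] at hk
      have h1 : orderOf (π (s : G)) ∣ p ^ k := by
        rw [← hk, ← Subgroup.orderOf_coe]; exact orderOf_map_dvd π _
      have h2 : orderOf (π (s : G)) ∣ Nat.card A :=
        Subgroup.orderOf_dvd_natCard A (hXA ▸ Subgroup.mem_map_of_mem π s.2)
      exact (QuotientGroup.eq_one_iff _).mp (orderOf_eq_one_iff.mp
        (Nat.eq_one_of_dvd_coprimes ((hp.coprime_iff_not_dvd.mpr hpA).pow_left k) h1 h2))
    have hHtop : H = ⊤ := by
      refine hminimal H (le_antisymm (sup_le_sup_right (Subgroup.map_subtype_le H) M) (sup_le ?_ le_sup_right))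
      intro x hx
      have h1 : (⟨x, hx⟩ : X) ∈ (S : Subgroup X) ⊔ H := hH.sup_eq_top ▸ Subgroup.mem_top _
      have h2 : x ∈ ((S : Subgroup X) ⊔ H).map X.subtype := ⟨_, h1, rfl⟩
      rw [Subgroup.map_sup] at h2
      refine (sup_le ?_ le_sup_left : _ ≤ H.map X.subtype ⊔ M) h2
      rintro _ ⟨s, hs, rfl⟩
      exact Subgroup.mem_sup_right (hSK hs)
    have := hH.disjoint
    rwa [hHtop, disjoint_top] at this
  -- elements of prime order
  have hMord : ∀ p : ℕ, p.Prime → p ∣ Nat.card M → ∀ a : G, a ^ p = 1 → a ∈ M := by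
    intro p hp hd a ha
    haveI := Fact.mk hp
    rcases eq_or_ne a 1 with rfl | ha1
    · exact one_mem M
    · obtain ⟨m, hm⟩ := exists_prime_orderOf_dvd_card' (G := M) p hd
      exact (S3909.result hB M).1 a ⟨m, m.2, by rw [Subgroup.orderOf_coe, hm, orderOf_eq_prime ha ha1]⟩
  have hcyc : ∀ (p : ℕ) [Fact p.Prime], p ∣ Nat.card A → p ∣ Nat.card M → ∀ P : Sylow p G, IsCyclic (P : Subgroup G) := by
    intro p _ hpA hpM P
    have hp : p.Prime := Fact.out
    have hp2 : p ≠ 2 := by
      rintro rfl
      exact Nat.not_even_iff_odd.mpr hM (even_iff_two_dvd.mpr hpM)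
    refine ((S3908.result hB).2 p hp2 P).resolve_right fun hexp => ?_
    have hPM : (P : Subgroup G) ≤ M := fun x hx => hMord p hp hpM x (hexp x hx)
    exact P.not_dvd_index ((hpA.trans (Subgroup.card_subgroup_dvd_card A)).trans (Subgroup.index_dvd_of_le hPM))
  have hab : ∀ (p : ℕ) [Fact p.Prime] (S : Sylow p X), IsMulCommutative (S : Subgroup X) := by
    intro p _ S
    have hp : p.Prime := Fact.out
    by_cases hpA : p ∣ Nat.card A
    · by_cases hpM : p ∣ Nat.card M
      · obtain ⟨P, hP⟩ := (S.isPGroup'.map X.subtype).exists_le_sylow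
        haveI := hcyc p hpA hpM P
        haveI : IsCyclic ((S : Subgroup X).map X.subtype) := Subgroup.isCyclic_of_le hP
        haveI : IsCyclic (S : Subgroup X) := isCyclic_of_surjective
          ((S : Subgroup X).equivMapOfInjective _ X.subtype_injective).symm (MulEquiv.surjective _)
        infer_instance
      · have hpK : ¬ p ∣ Nat.card K := fun h => hpM (hKM p hp h)
        refine ⟨⟨fun a b => ?_⟩⟩
        have hd : Disjoint (S : Subgroup X) K := by
          refine Subgroup.disjoint_of_coprime_natCard ?_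
          obtain ⟨k, hk⟩ := IsPGroup.iff_card.mp S.isPGroup'
          rw [hk]
          exact (hp.coprime_iff_not_dvd.mpr hpK).pow_left k
        have hc : ((a : X) * b * (a : X)⁻¹ * (b : X)⁻¹ : X) ∈ K := by
          show ((a : X) : G) * ((b : X) : G) * ((a : X) : G)⁻¹ * ((b : X) : G)⁻¹ ∈ M
          have ha : π ((a : X) : G) ∈ A := hXA ▸ Subgroup.mem_map_of_mem π (a : X).2
          have hb : π ((b : X) : G) ∈ A := hXA ▸ Subgroup.mem_map_of_mem π (b : X).2
          rw [← QuotientGroup.eq_one_iff, QuotientGroup.mk_mul, QuotientGroup.mk_mul, QuotientGroup.mk_mul,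
            QuotientGroup.mk_inv, QuotientGroup.mk_inv, mul_inv_eq_one, mul_inv_eq_iff_eq_mul]
          exact congrArg Subtype.val (hA.is_comm.comm ⟨_, ha⟩ ⟨_, hb⟩)
        have := Subgroup.disjoint_def.mp hd
          ((S : Subgroup X).mul_mem ((S : Subgroup X).mul_mem ((S : Subgroup X).mul_mem a.2 b.2) (Subgroup.inv_mem _ a.2)) (Subgroup.inv_mem _ b.2)) hc
        rw [mul_inv_eq_one, mul_inv_eq_iff_eq_mul] at this
        exact Subtype.ext this
    · rw [hz p hp hpA S]
      infer_instance
  refine ⟨X, hXA, ?_, ?_⟩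
  · -- abelian
    have hsyl : ∀ (p : ℕ) [Fact p.Prime] (S : Sylow p X), (S : Subgroup X) ≤ Subgroup.center X := by
      intro p _ S s hs
      refine Subgroup.mem_center_iff.mpr fun g => ?_
      have hall : Subgroup.centralizer ({s} : Set X) = ⊤ := by
        refine Subgroup.eq_top_of_card_eq _ (Nat.dvd_antisymm (Subgroup.card_subgroup_dvd_card _) ?_)
        refine (Nat.factorization_le_iff_dvd Nat.card_pos.ne' Nat.card_pos.ne').mp fun q => ?_
        by_cases hq : q.Prime
        swap
        · simp [Nat.factorization_eq_zero_of_not_prime _ hq]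
        haveI := Fact.mk hq
        obtain ⟨T⟩ : Nonempty (Sylow q X) := inferInstance
        have hle : (T : Subgroup X) ≤ Subgroup.centralizer ({s} : Set X) := by
          intro t ht
          refine Subgroup.mem_centralizer_singleton_iff.mpr ?_
          by_cases hqp : q = p
          · subst hqp
            have := Sylow.unique_of_normal S inferInstance
            rw [Subsingleton.elim T S] at ht
            exact congrArg Subtype.val ((hab q S).is_comm.comm ⟨t, ht⟩ ⟨s, hs⟩)
          · exact Subgroup.commute_of_normal_of_disjoint _ _ inferInstance inferInstance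
              (IsPGroup.disjoint_of_ne q p hqp _ _ T.isPGroup' S.isPGroup') t s ht hs
        have hd := Subgroup.card_dvd_of_le hle
        rw [T.card_eq_multiplicity] at hd
        exact (hq.pow_dvd_iff_le_factorization Nat.card_pos.ne').mp hd
      exact Subgroup.mem_centralizer_singleton_iff.mp (hall ▸ Subgroup.mem_top g)
    have htop : Subgroup.center X = ⊤ := by
      refine Subgroup.eq_top_of_card_eq _ (Nat.dvd_antisymm (Subgroup.card_subgroup_dvd_card _) ?_)
      refine (Nat.factorization_le_iff_dvd Nat.card_pos.ne' Nat.card_pos.ne').mp fun q => ?_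
      by_cases hq : q.Prime
      swap
      · simp [Nat.factorization_eq_zero_of_not_prime _ hq]
      haveI := Fact.mk hq
      obtain ⟨T⟩ : Nonempty (Sylow q X) := inferInstance
      have hd := Subgroup.card_dvd_of_le (hsyl q T)
      rw [T.card_eq_multiplicity] at hd
      exact (hq.pow_dvd_iff_le_factorization Nat.card_pos.ne').mp hd
    exact ⟨⟨fun a b => (Subgroup.mem_center_iff.mp (htop.symm ▸ Subgroup.mem_top b) a)⟩⟩
  · intro p hp
    haveI := Fact.mk hp
    obtain ⟨S⟩ : Nonempty (Sylow p X) := inferInstance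
    by_cases hpA : p ∣ Nat.card A
    swap
    · rw [if_neg hpA]
      have h := S.card_eq_multiplicity
      rw [hz p hp hpA S, Subgroup.card_bot] at h
      exact (Nat.pow_eq_one.mp h.symm).resolve_left hp.ne_one
    rw [if_pos hpA, vK p, add_comm]
    congr 1
    have hKdvd : Nat.card K ∣ Nat.card M := by
      rw [← Subgroup.card_subtype X K, hK, Subgroup.subgroupOf_map_subtype]
      exact Subgroup.card_dvd_of_le inf_le_left
    refine le_antisymm ((Nat.factorization_le_iff_dvd Nat.card_pos.ne' Nat.card_pos.ne').mpr hKdvd p) ?_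
    by_cases hpM : p ∣ Nat.card M
    swap
    · rw [Nat.factorization_eq_zero_of_not_dvd hpM]; exact Nat.zero_le _
    obtain ⟨P, hP⟩ := (S.isPGroup'.map X.subtype).exists_le_sylow
    have hPc := hcyc p hpA hpM P
    set S' := (S : Subgroup X).map X.subtype with hS'
    have hSM : ¬ S' ≤ M := by
      intro hle
      have hSK : (S : Subgroup X) ≤ K := fun s hs => hle ⟨s, hs, rfl⟩
      have h := Subgroup.card_dvd_of_le hSK
      rw [S.card_eq_multiplicity, hp.pow_dvd_iff_le_factorization Nat.card_pos.ne', vK p] at h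
      have := hp.factorization_pos_of_dvd Nat.card_pos.ne' hpA
      omega
    have hPM : (P : Subgroup G) ⊓ M ≤ S' := by
      obtain ⟨a, ha⟩ := IsPGroup.iff_card.mp (S.isPGroup'.map X.subtype)
      obtain ⟨b, hb⟩ := IsPGroup.iff_card.mp (P.isPGroup'.to_le (inf_le_left : (P : Subgroup G) ⊓ M ≤ P))
      rcases le_total b a with h | h
      · exact le_of_card_dvd hPc inf_le_left hP (by rw [hb, ha]; exact pow_dvd_pow p h)
      · exact absurd ((le_of_card_dvd hPc hP inf_le_left (by rw [hb, ha]; exact pow_dvd_pow p h)).trans inf_le_right) hSM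
    have hle : (P : Subgroup G) ⊓ M ≤ K.map X.subtype := by
      rw [hK, Subgroup.subgroupOf_map_subtype]
      exact le_inf inf_le_right (hPM.trans (Subgroup.map_subtype_le _))
    have h := (sylow_in (H := (P : Subgroup G)) (M := M) P P.isPGroup').trans (Subgroup.card_dvd_of_le hle)
    rwa [Subgroup.card_subtype, hp.pow_dvd_iff_le_factorization Nat.card_pos.ne'] at h

/-- Let G be a finite group in which any two abelian subgroups of the same order are conjugate. If M is a normal subgroup of G of odd order, then any two abelian subgroups of G/M of the same order are conjugate in G/M. -/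
theorem result {G : Type*} [Group G] [Finite G] (hB : ∀ A B : Subgroup G, IsMulCommutative ↥A → IsMulCommutative ↥B → Nat.card ↥A = Nat.card ↥B → ∃ g : G, B = A.map (MulAut.conj g).toMonoidHom) (M : Subgroup G) [M.Normal] (hM : Odd (Nat.card ↥M)) :
    ∀ A B : Subgroup (G ⧸ M), IsMulCommutative ↥A → IsMulCommutative ↥B → Nat.card ↥A = Nat.card ↥B →
      ∃ g : G ⧸ M, B = A.map (MulAut.conj g).toMonoidHom := by
  classical
  intro A B hA hB' hAB
  obtain ⟨X, hXA, hXc, hXf⟩ := exists_lift hB M hM A hA
  obtain ⟨Y, hYB, hYc, hYf⟩ := exists_lift hB M hM B hB'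
  have hcard : Nat.card X = Nat.card Y := by
    refine Nat.eq_of_factorization_eq Nat.card_pos.ne' Nat.card_pos.ne' fun p => ?_
    by_cases hp : p.Prime
    · rw [hXf p hp, hYf p hp, hAB]
    · rw [Nat.factorization_eq_zero_of_not_prime _ hp, Nat.factorization_eq_zero_of_not_prime _ hp]
  obtain ⟨g, hg⟩ := hB X Y hXc hYc hcard
  refine ⟨QuotientGroup.mk' M g, ?_⟩
  rw [← hXA, ← hYB, hg, Subgroup.map_map, Subgroup.map_map]
  congr 1

end Cfsg.Agent.S3911
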