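import Cfsg.Statements.S3912
import Cfsg.Agent.Lib.HallSolvable
import Cfsg.Agent.Lib.PGroupsCyclic
import Cfsg.Agent.Lib.GenQuatFacts62

set_option autoImplicit false
open Cfsg

namespace Cfsg.Agent.S3912

universe u v

open Subgroup Cfsg.Agent

/-- Any two abelian subgroups of the same order are conjugate. -/
def AbConj (G : Type*) [Group G] : Prop :=
  ∀ A B : Subgroup G, IsMulCommutative ↥A → IsMulCommutative ↥B → Nat.card ↥A = Nat.card ↥B →
    ∃ g : G, B = A.map (MulAut.conj g).toMonoidHom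

theorem zpowers_conj {G : Type*} [Group G] (hB : AbConj G) {a b : G} (h : orderOf a = orderOf b) :
    ∃ (g : G) (k : ℤ), b = g * a ^ k * g⁻¹ := by
  obtain ⟨g, hg⟩ := hB (zpowers a) (zpowers b) inferInstance inferInstance
    (by rw [Nat.card_zpowers, Nat.card_zpowers, h])
  obtain ⟨x, hx, hxb⟩ : b ∈ (zpowers a).map (MulAut.conj g).toMonoidHom := hg ▸ mem_zpowers b
  obtain ⟨k, rfl⟩ := mem_zpowers_iff.mp hx
  exact ⟨g, k, hxb.symm⟩

/-- With conjugate abelian subgroups, a nonabelian Sylow 2-subgroup with one involution has order at most 8. -/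
theorem quat_sylow_small {G : Type*} [Group G] [Finite G] [Group.IsSolvable G] (hB : AbConj G)
    (P : Sylow 2 G) (hna : ¬ IsMulCommutative ↥(P : Subgroup G))
    (huniq : ∃! x : ↥(P : Subgroup G), orderOf x = 2) : Nat.card ↥(P : Subgroup G) ≤ 8 := by
  by_contra hbig
  obtain ⟨g, hg⟩ := GenQuatFacts62.exists_cyclic_index_two P.isPGroup' hna huniq
  obtain ⟨z, hz, hzu⟩ := huniq
  have hcard : Nat.card ↥(P : Subgroup G) = orderOf g * 2 := by
    rw [← (zpowers g).card_mul_index, hg, Nat.card_zpowers]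
  obtain ⟨j, hj⟩ := IsPGroup.iff_orderOf.mp P.isPGroup' g
  have hj3 : 3 ≤ j := by
    by_contra h
    have : orderOf g ≤ 2 ^ 2 := hj ▸ Nat.pow_le_pow_right (by norm_num) (by omega)
    omega
  have hout : ∀ y : ↥(P : Subgroup G), y ∉ zpowers g → orderOf y = 4 := by
    intro y hy
    have h2 : orderOf (y * y) = 2 :=
      (GenQuatFacts62.inverts P.isPGroup' hna ⟨z, hz, hzu⟩ g hg y hy).2
    have h := orderOf_eq_prime_pow (x := y) (p := 2) (n := 1) ?_ ?_
    · simpa using h
    · intro h1
      have h0 : y * y = 1 := by simpa [pow_two] using h1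
      rw [h0, orderOf_one] at h2
      omega
    · have := pow_orderOf_eq_one (y * y)
      rw [h2] at this
      rw [show (2 : ℕ) ^ (1 + 1) = 2 * 2 from rfl, pow_mul, pow_two y]
      exact this
  set f := QuotientGroup.mk' (Cfsg.pPrimeCore 2 G) with hf
  have hfinj : ∀ x : ↥(P : Subgroup G), f x = 1 → x = 1 := by
    intro x hx
    have hxK : (x : G) ∈ Cfsg.pPrimeCore 2 G := (QuotientGroup.eq_one_iff _).mp hx
    have hd : orderOf (x : G) ∣ Nat.card ↥(Cfsg.pPrimeCore 2 G) := by
      have := orderOf_dvd_natCard (⟨x, hxK⟩ : ↥(Cfsg.pPrimeCore 2 G))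
      rwa [← orderOf_coe] at this
    obtain ⟨k, hk⟩ := IsPGroup.iff_orderOf.mp P.isPGroup' x
    rw [Subgroup.orderOf_coe, hk] at hd
    have hc := (HallCore.coprime_card_pPrimeCore 2 G).coprime_dvd_left hd
    rcases k with _ | k
    · exact orderOf_eq_one_iff.mp (by simpa using hk)
    · have h2 := Nat.eq_one_of_dvd_coprimes hc (dvd_pow_self 2 (Nat.succ_ne_zero k)) dvd_rfl
      omega
  let φ : ↥(P : Subgroup G) →* G ⧸ Cfsg.pPrimeCore 2 G := f.comp (P : Subgroup G).subtype
  have hφ : Function.Injective φ := (injective_iff_map_eq_one φ).mpr hfinj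
  have hφord : ∀ x, orderOf (φ x) = orderOf x := fun x => orderOf_injective φ hφ x
  set T := Cfsg.pCore 2 (G ⧸ Cfsg.pPrimeCore 2 G) with hT
  have : Group.IsSolvable (G ⧸ Cfsg.pPrimeCore 2 G) :=
    Group.isSolvable_of_surjective (QuotientGroup.mk'_surjective _)
  have hCT : Subgroup.centralizer (T : Set _) ≤ T :=
    HallSolvable.centralizer_pCore_le (HallSolvable.isPSolvable_of_solvable 2)
      (HallCore.pPrimeCore_quotient_self 2 G)
  have hTP : T ≤ φ.range := by
    rw [MonoidHom.range_comp, Subgroup.range_subtype]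
    exact HallCore.pCore_le_sylow (P.mapSurjective (QuotientGroup.mk'_surjective _))
  have hTn : T.Normal := by
    rw [hT]; exact Subgroup.sSup_normal _ (fun _ h => h.1)
  -- conjugacy of the cyclic subgroups of order four
  have hconj4 : ∀ a b : ↥(P : Subgroup G), orderOf a = 4 → orderOf b = 4 →
      ∃ (s : G ⧸ Cfsg.pPrimeCore 2 G) (k : ℤ), φ b = s * φ a ^ k * s⁻¹ := by
    intro a b ha hb
    obtain ⟨x, k, hk⟩ := zpowers_conj hB (a := (a : G)) (b := (b : G))
      (by rw [Subgroup.orderOf_coe, Subgroup.orderOf_coe, ha, hb])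
    exact ⟨f x, k, by simp [φ, hk]⟩
  obtain ⟨y, hy⟩ : ∃ y : ↥(P : Subgroup G), y ∉ zpowers g := by
    by_contra h
    push Not at h
    rw [(Subgroup.eq_top_iff' _).mpr h, Subgroup.index_top] at hg
    omega
  by_cases h4 : ∃ x : ↥(P : Subgroup G), orderOf x = 4 ∧ φ x ∈ T
  · obtain ⟨x, hx4, hxT⟩ := h4
    have hall : ∀ w : ↥(P : Subgroup G), φ w ∈ T := by
      have h4all : ∀ w : ↥(P : Subgroup G), orderOf w = 4 → φ w ∈ T := by
        intro w hw
        obtain ⟨s, k, hk⟩ := hconj4 x w hx4 hw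
        rw [hk]; exact hTn.conj_mem _ (T.zpow_mem hxT k) s
      intro w
      by_cases hw : w ∈ zpowers g
      · have hwy : w * y ∉ zpowers g := fun h => hy (by simpa using mul_mem (inv_mem hw) h)
        have h1 := h4all _ (hout _ hwy)
        have h2 := h4all _ (hout _ hy)
        rw [map_mul] at h1
        exact (T.mul_mem_cancel_right h2).mp h1
      · exact h4all _ (hout _ hw)
    have hnorm : ∀ s, ∃ k : ℤ, s * φ g * s⁻¹ = φ g ^ k := by
      intro s
      obtain ⟨w, hw⟩ := hTP (hTn.conj_mem _ (hall g) s)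
      have hwo : orderOf w = orderOf g := by
        rw [← hφord w, hw, show s * φ g * s⁻¹ = MulAut.conj s (φ g) from rfl, MulEquiv.orderOf_eq, hφord]
      have hwg : w ∈ zpowers g := by
        by_contra h
        have := hout w h
        rw [hwo, hj] at this
        have : 2 ^ 3 ≤ 2 ^ j := Nat.pow_le_pow_right (by norm_num) hj3
        omega
      obtain ⟨k, hk⟩ := mem_zpowers_iff.mp hwg
      exact ⟨k, by rw [← hw, ← hk, map_zpow]⟩
    set a := g ^ 2 ^ (j - 2) with ha
    have ha4 : orderOf a = 4 := by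
      rw [ha, orderOf_pow_of_dvd (by positivity) (by rw [hj]; exact pow_dvd_pow 2 (by omega)), hj,
        Nat.pow_div (by omega) (by norm_num), show j - (j - 2) = 2 by omega]
    obtain ⟨s, k, hk⟩ := hconj4 a y ha4 (hout y hy)
    obtain ⟨l, hl⟩ := hnorm s
    have : φ y = φ ((g ^ l) ^ (2 ^ (j - 2))) ^ k := by
      rw [hk, ← conj_zpow, ha, map_pow, ← conj_pow, hl, map_pow, map_zpow]
    have hyeq : y = ((g ^ l) ^ (2 ^ (j - 2))) ^ k := hφ (by rw [this, map_zpow])
    exact hy (hyeq ▸ zpow_mem (pow_mem (zpow_mem (mem_zpowers g) l) _) k)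
  · push Not at h4
    have hsmall : ∀ w : ↥(P : Subgroup G), φ w ∈ T → w = 1 ∨ w = z := by
      intro w hw
      obtain ⟨i, hi⟩ := IsPGroup.iff_orderOf.mp P.isPGroup' w
      rcases i with _ | _ | i
      · exact Or.inl (orderOf_eq_one_iff.mp (by simpa using hi))
      · exact Or.inr (hzu w (by simpa using hi))
      · exfalso
        refine h4 (w ^ 2 ^ i) ?_ (by rw [map_pow]; exact T.pow_mem hw _)
        rw [orderOf_pow_of_dvd (by positivity) (by rw [hi]; exact pow_dvd_pow 2 (by omega)), hi,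
          Nat.pow_div (by omega) (by norm_num), show i + 1 + 1 - i = 2 by omega]
    have hzc : ∀ w : ↥(P : Subgroup G), w * z * w⁻¹ = z := fun w => hzu _ (by
      show orderOf (MulAut.conj w z) = 2
      rw [MulEquiv.orderOf_eq, hz])
    have hyc : φ y ∈ Subgroup.centralizer (T : Set _) := by
      rw [Subgroup.mem_centralizer_iff]
      intro t ht
      obtain ⟨w, rfl⟩ := hTP ht
      rw [← map_mul, ← map_mul]
      congr 1
      rcases hsmall w ht with rfl | rfl
      · simp
      · exact (mul_inv_eq_iff_eq_mul.mp (hzc y)).symm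
    rcases hsmall y (hCT hyc) with rfl | rfl
    · exact hy (one_mem _)
    · have := hout y hy
      rw [hz] at this
      omega

/-- Two `p`-parts agree. -/
theorem part_eq {p : ℕ} [hp : Fact p.Prime] {a b q q' : ℕ} (hq : Nat.Coprime q p) (hq' : Nat.Coprime q' p)
    (h : p ^ a * q = p ^ b * q') : p ^ a = p ^ b ∧ q = q' := by
  have h1 : p ^ a ∣ p ^ b := (Nat.Coprime.pow_left a hq'.symm).dvd_of_dvd_mul_right (h ▸ dvd_mul_right _ _)
  have h2 : p ^ b ∣ p ^ a := (Nat.Coprime.pow_left b hq.symm).dvd_of_dvd_mul_right (h ▸ dvd_mul_right _ _)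
  have h3 := Nat.dvd_antisymm h1 h2
  refine ⟨h3, Nat.eq_of_mul_eq_mul_left (pow_pos hp.out.pos b) (h3 ▸ h)⟩

/-- The lift of an abelian subgroup. -/
theorem exists_lift {G : Type u} [Group G] [Finite G] {H : Type v} [Group H] (f : G →* H)
    (hf : Function.Surjective f) (p : ℕ) [hp : Fact p.Prime] (hN : IsPGroup p f.ker)
    (A : Subgroup H) (hA : IsMulCommutative ↥A) :
    ∃ R Q : Subgroup G, IsPGroup p R ∧ f.ker ≤ R ∧ Nat.Coprime (Nat.card Q) p ∧
      IsMulCommutative ↥Q ∧ R ⊔ Q = A.comap f ∧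
      Nat.card R * Nat.card Q = Nat.card ↥(A.comap f) ∧
      (∀ r ∈ R, ∀ q ∈ Q, r⁻¹ * (q * r * q⁻¹) ∈ f.ker) := by
  set X := A.comap f with hX
  have hker : f.ker ≤ X := fun x hx => by
    rw [hX, mem_comap, MonoidHom.mem_ker.mp hx]; exact A.one_mem
  obtain ⟨S, hS⟩ := (hN.comap_of_injective X.subtype X.subtype_injective).exists_le_sylow
  have hcommX : ∀ a b : X, f.comp X.subtype (a * b * a⁻¹) = f.comp X.subtype b := by
    intro a b
    have hab := congrArg Subtype.val (hA.is_comm.comm ⟨f a, a.2⟩ ⟨f b, b.2⟩)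
    simp only [map_mul, map_inv]
    show f a * f b * (f a)⁻¹ = f b
    rw [show f a * f b = f b * f a from hab, mul_inv_cancel_right]
  have hSn : (S : Subgroup X).Normal := ⟨fun s hs a => by
    have hmem : s⁻¹ * (a * s * a⁻¹) ∈ (f.ker).comap X.subtype := by
      rw [mem_comap, MonoidHom.mem_ker]
      have := hcommX a s
      simp only [MonoidHom.comp_apply] at this
      simp only [map_mul, map_inv] at this ⊢
      rw [this]; group
    simpa using mul_mem hs (hS hmem)⟩
  have hcop : Nat.Coprime (Nat.card ↥(S : Subgroup X)) (S : Subgroup X).index := by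
    obtain ⟨k, hk⟩ := IsPGroup.iff_card.mp S.isPGroup'
    rw [hk]
    exact ((hp.out.coprime_iff_not_dvd).mpr S.not_dvd_index).pow_left k
  obtain ⟨K, hK⟩ := Subgroup.exists_right_complement'_of_coprime hcop
  have hKcard : Nat.card K = (S : Subgroup X).index := hK.symm.index_eq_card.symm
  have hKcop : Nat.Coprime (Nat.card K) p := by
    rw [hKcard]; exact ((hp.out.coprime_iff_not_dvd).mpr S.not_dvd_index).symm
  refine ⟨(S : Subgroup X).map X.subtype, K.map X.subtype, S.isPGroup'.map _, ?_, ?_, ?_, ?_, ?_, ?_⟩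
  · intro x hx
    exact ⟨⟨x, hker hx⟩, hS (by exact hx), rfl⟩
  · rwa [Subgroup.card_map_of_injective X.subtype_injective]
  · refine ⟨⟨fun a b => ?_⟩⟩
    obtain ⟨_, a', ha', rfl⟩ := a
    obtain ⟨_, b', hb', rfl⟩ := b
    apply Subtype.ext
    show (X.subtype a') * (X.subtype b') = X.subtype b' * X.subtype a'
    rw [← map_mul, ← map_mul]
    congr 1
    rw [← mul_inv_eq_one]
    have h1 : a' * b' * (b' * a')⁻¹ ∈ K := mul_mem (mul_mem ha' hb') (inv_mem (mul_mem hb' ha'))
    have h2 : a' * b' * (b' * a')⁻¹ ∈ (S : Subgroup X) := by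
      refine hS ?_
      rw [mem_comap, MonoidHom.mem_ker]
      have := hcommX a' b'
      simp only [MonoidHom.comp_apply] at this
      simp only [map_mul, map_inv, mul_inv_rev] at this ⊢
      rw [← mul_assoc, this, mul_inv_cancel]
    exact Subgroup.disjoint_def.mp hK.disjoint h2 h1
  · rw [← Subgroup.map_sup, hK.sup_eq_top, ← MonoidHom.range_eq_map, X.range_subtype]
  · rw [Subgroup.card_map_of_injective X.subtype_injective,
      Subgroup.card_map_of_injective X.subtype_injective]
    exact hK.card_mul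
  · rintro _ ⟨r, -, rfl⟩ _ ⟨q, -, rfl⟩
    rw [MonoidHom.mem_ker]
    have := hcommX q r
    simp only [MonoidHom.comp_apply] at this
    simp only [map_mul, map_inv] at this ⊢
    rw [this]; group

/-- The quotient by a minimal normal subgroup. -/
theorem step {G : Type u} [Group G] [Finite G] [Group.IsSolvable G] {H : Type v} [Group H]
    (f : G →* H) (hf : Function.Surjective f) (hB : AbConj G)
    (hmin : HallSolvable.IsMinNormal f.ker) : AbConj H := by
  obtain ⟨p, hp, hel, hNp⟩ := hmin.exists_prime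
  haveI : Fact p.Prime := ⟨hp⟩
  -- all elements of order p are in the kernel
  have hord : ∀ x : G, x ^ p = 1 → x ∈ f.ker := by
    intro x hx
    rcases eq_or_ne x 1 with rfl | hx1
    · exact one_mem _
    obtain ⟨n, hn, hn1⟩ := (Subgroup.bot_or_exists_ne_one f.ker).resolve_left hmin.ne_bot
    obtain ⟨g, k, rfl⟩ := zpowers_conj hB (a := n) (b := x)
      ((orderOf_eq_prime (hel.2 n hn) hn1).trans (orderOf_eq_prime hx hx1).symm)
    exact (inferInstance : f.ker.Normal).conj_mem _ (zpow_mem hn k) g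
  -- the elementary case
  have hrank : Nat.card f.ker ≠ p → ∀ x : G, (∃ i, orderOf x = p ^ i) → x ∈ f.ker := by
    intro hne x ⟨i, hi⟩
    rcases Nat.lt_or_ge i 2 with hi2 | hi2
    · apply hord
      rw [← orderOf_dvd_iff_pow_eq_one, hi]
      simpa using pow_dvd_pow p (show i ≤ 1 by omega)
    exfalso
    obtain ⟨m, hm⟩ := IsPGroup.iff_card.mp hNp
    have hm2 : 2 ≤ m := by
      by_contra h
      rcases (show m = 0 ∨ m = 1 by omega) with rfl | rfl
      · exact hmin.ne_bot (Subgroup.card_eq_one.mp (by simpa using hm))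
      · exact hne (by simpa using hm)
    obtain ⟨E, hE⟩ := Sylow.exists_subgroup_card_pow_prime p (G := ↥f.ker) (n := 2)
      (hm ▸ pow_dvd_pow p hm2)
    set y := x ^ p ^ (i - 2) with hy
    have hyo : orderOf y = p ^ 2 := by
      rw [hy, orderOf_pow_of_dvd (pow_ne_zero _ hp.ne_zero) (by rw [hi]; exact pow_dvd_pow p (by omega)), hi,
        Nat.pow_div (by omega) hp.pos, show i - (i - 2) = 2 by omega]
    have hEc : IsMulCommutative ↥(E.map f.ker.subtype) := by
      refine ⟨⟨fun a b => ?_⟩⟩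
      obtain ⟨_, a', -, rfl⟩ := a
      obtain ⟨_, b', -, rfl⟩ := b
      exact Subtype.ext (congrArg Subtype.val (hel.1.is_comm.comm a' b') :)
    obtain ⟨g, hg⟩ := hB (E.map f.ker.subtype) (zpowers y) hEc inferInstance
      (by rw [Subgroup.card_map_of_injective f.ker.subtype_injective, hE, Nat.card_zpowers, hyo])
    obtain ⟨_, ⟨a, -, rfl⟩, hay⟩ : y ∈ (E.map f.ker.subtype).map (MulAut.conj g).toMonoidHom :=
      hg ▸ mem_zpowers y
    have hyp : y ^ p = 1 := by
      rw [← hay, ← map_pow]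
      have : (f.ker.subtype a) ^ p = 1 := hel.2 _ a.2
      rw [this, map_one]
    have h := orderOf_dvd_of_pow_eq_one hyp
    rw [hyo] at h
    have := Nat.le_of_dvd hp.pos h
    nlinarith [hp.two_le]
  intro A B hA hB' hAB
  obtain ⟨R, Q, hR, hNR, hQ, hQc, hsup, hmul, hcomm⟩ := exists_lift f hf p hNp A hA
  obtain ⟨R', Q', hR', hNR', hQ', hQc', hsup', hmul', hcomm'⟩ := exists_lift f hf p hNp B hB'
  have hXY : Nat.card ↥(A.comap f) = Nat.card ↥(B.comap f) := by
    have key : ∀ C : Subgroup H, Nat.card ↥(C.comap f) = Nat.card C * Nat.card f.ker := by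
      intro C
      have h1 := (C.comap f).card_mul_index
      have h2 := C.card_mul_index
      rw [Subgroup.index_comap_of_surjective _ hf] at h1
      have h3 : Nat.card f.ker * Nat.card H = Nat.card G := by
        have h4 := f.ker.card_mul_index
        rwa [Subgroup.index_ker, MonoidHom.range_eq_top.mpr hf, Subgroup.card_top] at h4
      haveI : Finite H := Finite.of_surjective f hf
      refine Nat.eq_of_mul_eq_mul_right (Nat.pos_of_ne_zero (Subgroup.index_ne_zero_of_finite (H := C))) ?_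
      rw [h1, ← h3, ← h2]; ring
    rw [key, key, hAB]
  obtain ⟨a, ha⟩ := IsPGroup.iff_card.mp hR
  obtain ⟨b, hb⟩ := IsPGroup.iff_card.mp hR'
  obtain ⟨hRR, hQQ⟩ : Nat.card R = Nat.card R' ∧ Nat.card Q = Nat.card Q' := by
    rw [ha, hb]
    exact part_eq hQ hQ' (by rw [← ha, ← hb, hmul, hmul', hXY])
  have himg : ∀ (C : Subgroup H), (C.comap f).map f = C :=
    fun C => Subgroup.map_comap_eq_self_of_surjective hf C
  have hfinish : ∀ g : G, B.comap f = (A.comap f).map (MulAut.conj g).toMonoidHom →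
      ∃ h : H, B = A.map (MulAut.conj h).toMonoidHom := by
    intro g hg
    refine ⟨f g, ?_⟩
    have := congrArg (Subgroup.map f) hg
    rw [himg, Subgroup.map_map] at this
    rw [this]
    conv_rhs => rw [← himg A, Subgroup.map_map]
    congr 1
    ext x; simp
  have hker_conj : ∀ g : G, f.ker.map (MulAut.conj g).toMonoidHom = f.ker := fun g => by
    ext x
    constructor
    · rintro ⟨y, hy, rfl⟩
      exact (inferInstance : f.ker.Normal).conj_mem y hy g
    · intro hx
      refine ⟨g⁻¹ * x * g, ?_, by simp [mul_assoc]⟩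
      simpa using (inferInstance : f.ker.Normal).conj_mem x hx g⁻¹
  by_cases hRN : R = f.ker
  · have hRN' : R' = f.ker := (Subgroup.eq_of_le_of_card_ge hNR' (by rw [← hRR, hRN])).symm
    obtain ⟨g, hg⟩ := hB Q Q' hQc hQc' hQQ
    refine hfinish g ?_
    rw [← hsup, ← hsup', hRN, hRN', Subgroup.map_sup, hker_conj, hg]
  have hcardN : Nat.card f.ker = p := by
    by_contra hne
    refine hRN (le_antisymm (fun r hr => hrank hne r ?_) hNR)
    obtain ⟨i, hi⟩ := IsPGroup.iff_orderOf.mp hR ⟨r, hr⟩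
    exact ⟨i, by rwa [← Subgroup.orderOf_coe] at hi⟩
  -- the coprime part centralises the p-part
  have hcent : ∀ (R Q : Subgroup G), IsPGroup p R → f.ker ≤ R → R ≠ f.ker → Nat.Coprime (Nat.card Q) p →
      (∀ r ∈ R, ∀ q ∈ Q, r⁻¹ * (q * r * q⁻¹) ∈ f.ker) → ∀ r ∈ R, ∀ q ∈ Q, q * r = r * q := by
    intro R Q hR hNR hne hQ hcomm
    have hfix : ∀ q ∈ Q, ∀ n ∈ f.ker, q * n * q⁻¹ = n := by
      intro q hq
      obtain ⟨r, hr, hrN⟩ : ∃ r ∈ R, r ∉ f.ker := by
        by_contra h
        push Not at h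
        exact hne (le_antisymm h hNR)
      obtain ⟨i, hi⟩ := IsPGroup.iff_orderOf.mp hR ⟨r, hr⟩
      rw [← Subgroup.orderOf_coe] at hi
      have hi2 : 2 ≤ i := by
        by_contra h
        refine hrN (hord r ?_)
        rw [← orderOf_dvd_iff_pow_eq_one]
        simp only at hi
        rw [hi]
        simpa using pow_dvd_pow p (show i ≤ 1 by omega)
      set m := p ^ (i - 1) with hm
      have hgen : zpowers (r ^ m) = f.ker := by
        have ho : orderOf (r ^ m) = p := by
          simp only at hi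
          rw [hm, orderOf_pow_of_dvd (pow_ne_zero _ hp.ne_zero) (by rw [hi]; exact pow_dvd_pow p (by omega)),
            hi, Nat.pow_div (by omega) hp.pos, show i - (i - 1) = 1 by omega, pow_one]
        refine Subgroup.eq_of_le_of_card_ge ?_ (by rw [Nat.card_zpowers, ho, hcardN])
        rw [Subgroup.zpowers_le]
        exact hord _ (ho ▸ pow_orderOf_eq_one _)
      set n := r⁻¹ * (q * r * q⁻¹) with hn
      have hnN : n ∈ f.ker := hcomm r hr q hq
      obtain ⟨l, hl⟩ := mem_zpowers_iff.mp (hgen.symm ▸ hnN : n ∈ zpowers (r ^ m))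
      have hcr : Commute r n := hl ▸ ((Commute.refl r).pow_right m).zpow_right l
      have hrm : q * r ^ m * q⁻¹ = r ^ m := by
        rw [← conj_pow, show q * r * q⁻¹ = r * n by rw [hn, mul_inv_cancel_left], hcr.mul_pow]
        have : n ^ m = 1 := by
          rw [← orderOf_dvd_iff_pow_eq_one]
          exact (orderOf_dvd_of_pow_eq_one (hel.2 n hnN)).trans (dvd_pow_self p (by omega))
        rw [this, mul_one]
      intro x hx
      obtain ⟨l', rfl⟩ := mem_zpowers_iff.mp (hgen.symm ▸ hx : x ∈ zpowers (r ^ m))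
      rw [← conj_zpow, hrm]
    intro r hr q hq
    set n := r⁻¹ * (q * r * q⁻¹) with hn
    have hnN : n ∈ f.ker := hcomm r hr q hq
    have hiter : ∀ k : ℕ, q ^ k * r * (q ^ k)⁻¹ = r * n ^ k := by
      intro k
      induction k with
      | zero => simp
      | succ k ih =>
        have h1 : q ^ (k + 1) * r * (q ^ (k + 1))⁻¹ = q * (q ^ k * r * (q ^ k)⁻¹) * q⁻¹ := by
          rw [pow_succ' q]; group
        rw [h1, ih, ← conj_mul, hfix q hq _ (pow_mem hnN k),
          show q * r * q⁻¹ = r * n by rw [hn, mul_inv_cancel_left], mul_assoc, pow_succ']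
    have h1 := hiter (orderOf q)
    rw [pow_orderOf_eq_one, one_mul, inv_one, mul_one, eq_comm, mul_eq_left] at h1
    have hd1 : orderOf n ∣ p := orderOf_dvd_of_pow_eq_one (hel.2 n hnN)
    have hd2 : orderOf n ∣ Nat.card Q := (orderOf_dvd_of_pow_eq_one h1).trans (by
      have := orderOf_dvd_natCard (⟨q, hq⟩ : Q)
      rwa [← Subgroup.orderOf_coe] at this)
    have hn1 : n = 1 := orderOf_eq_one_iff.mp (Nat.eq_one_of_dvd_coprimes hQ hd2 hd1)
    rw [hn, inv_mul_eq_one] at hn1
    exact (eq_mul_inv_iff_mul_eq.mp hn1).symm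
  have hRN' : R' ≠ f.ker := fun h => hRN
    (Subgroup.eq_of_le_of_card_ge hNR (by rw [hRR, h])).symm
  have hc1 := hcent R Q hR hNR hRN hQ hcomm
  have hc2 := hcent R' Q' hR' hNR' hRN' hQ' hcomm'
  by_cases hboth : IsMulCommutative ↥R ∧ IsMulCommutative ↥R'
  · have hab : ∀ (R Q : Subgroup G), IsMulCommutative ↥R → IsMulCommutative ↥Q →
        (∀ r ∈ R, ∀ q ∈ Q, q * r = r * q) → IsMulCommutative ↥(R ⊔ Q) := by
      intro R Q hR hQ hc
      have h : R ⊔ Q ≤ Subgroup.centralizer ((R ⊔ Q : Subgroup G) : Set G) := by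
        have hR1 : R ≤ Subgroup.centralizer ((R : Set G) ∪ Q) := fun r hr => by
          rw [Subgroup.mem_centralizer_iff]
          rintro x (hx | hx)
          · exact congrArg Subtype.val (hR.is_comm.comm ⟨x, hx⟩ ⟨r, hr⟩)
          · exact hc r hr x hx
        have hQ1 : Q ≤ Subgroup.centralizer ((R : Set G) ∪ Q) := fun q hq => by
          rw [Subgroup.mem_centralizer_iff]
          rintro x (hx | hx)
          · exact (hc x hx q hq).symm
          · exact congrArg Subtype.val (hQ.is_comm.comm ⟨x, hx⟩ ⟨q, hq⟩)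
        rw [Subgroup.sup_eq_closure, Subgroup.centralizer_closure, ← Subgroup.sup_eq_closure]
        exact sup_le hR1 hQ1
      exact ⟨⟨fun x y => Subtype.ext (Subgroup.mem_centralizer_iff.mp (h y.2) x x.2)⟩⟩
    have hX : IsMulCommutative ↥(A.comap f) := hsup ▸ hab R Q hboth.1 hQc hc1
    have hY : IsMulCommutative ↥(B.comap f) := hsup' ▸ hab R' Q' hboth.2 hQc' hc2
    obtain ⟨g, hg⟩ := hB _ _ hX hY hXY
    exact hfinish g hg
  -- the quaternion case
  obtain ⟨R0, hR0, hR0na, hR0c⟩ : ∃ R0 : Subgroup G, IsPGroup p R0 ∧ ¬ IsMulCommutative ↥R0 ∧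
      Nat.card R0 = Nat.card R := by
    by_cases h : IsMulCommutative ↥R
    · exact ⟨R', hR', fun h' => hboth ⟨h, h'⟩, hRR.symm⟩
    · exact ⟨R, hR, h, rfl⟩
  obtain ⟨P, hP⟩ := hR0.exists_le_sylow
  have hPna : ¬ IsMulCommutative ↥(P : Subgroup G) := fun h => hR0na
    ⟨⟨fun x y => Subtype.ext
      (congrArg Subtype.val (h.is_comm.comm ⟨x, hP x.2⟩ ⟨y, hP y.2⟩) :)⟩⟩
  have huniq : ∀ U V : Subgroup ↥(P : Subgroup G), Nat.card U = p → Nat.card V = p → U = V := by
    have key : ∀ U : Subgroup ↥(P : Subgroup G), Nat.card U = p → U.map (P : Subgroup G).subtype = f.ker := by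
      intro U hU
      refine Subgroup.eq_of_le_of_card_ge ?_ (by
        rw [Subgroup.card_map_of_injective (P : Subgroup G).subtype_injective, hU, hcardN])
      rintro _ ⟨u', hu, rfl⟩
      apply hord
      have h1 : (⟨u', hu⟩ : U) ^ p = 1 := Eq.mp (congrArg (fun k : ℕ => (⟨u', hu⟩ : U) ^ k = 1) hU) pow_card_eq_one'
      have := congrArg (fun x : U => ((x : ↥(P : Subgroup G)) : G)) h1
      simpa using this
    intro U V hU hV
    exact Subgroup.map_injective (P : Subgroup G).subtype_injective ((key U hU).trans (key V hV).symm)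
  rcases PGroupsCyclic.isCyclic_or_quaternion P.isPGroup' huniq with hc | ⟨rfl, -⟩
  · exact absurd hc.isMulCommutative hPna
  have huniq2 : ∃! x : ↥(P : Subgroup G), orderOf x = 2 := by
    obtain ⟨x, hx⟩ : ∃ x : ↥(P : Subgroup G), orderOf x = 2 := by
      refine exists_prime_orderOf_dvd_card' 2 ?_
      obtain ⟨k, hk⟩ := IsPGroup.iff_card.mp P.isPGroup'
      rw [hk]
      refine dvd_pow_self 2 fun h0 => hPna ?_
      rw [h0, pow_zero] at hk
      haveI := (Nat.card_eq_one_iff_unique.mp hk).1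
      exact ⟨⟨fun a b => Subsingleton.elim _ _⟩⟩
    refine ⟨x, hx, fun y hy => ?_⟩
    have h := huniq (zpowers y) (zpowers x) (by rw [Nat.card_zpowers, hy]) (by rw [Nat.card_zpowers, hx])
    obtain ⟨k, hk⟩ := mem_zpowers_iff.mp (h ▸ mem_zpowers y : y ∈ zpowers x)
    rw [← hk, ← zpow_mod_orderOf, hx] at hy ⊢
    rcases Int.emod_two_eq_zero_or_one k with h2 | h2 <;> push_cast at hy ⊢ <;> rw [h2] at hy ⊢
    · simp at hy
    · simp
  have h8 := quat_sylow_small hB P hPna huniq2
  have hR8 : Nat.card R = Nat.card ↥(P : Subgroup G) := by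
    obtain ⟨k, hk⟩ := IsPGroup.iff_card.mp P.isPGroup'
    have hle : Nat.card R0 ∣ Nat.card ↥(P : Subgroup G) := Subgroup.card_dvd_of_le hP
    have hk3 : k ≤ 3 := (Nat.pow_le_pow_iff_right (le_refl 2)).mp (by rw [← hk]; exact h8)
    obtain ⟨e, he⟩ := IsPGroup.iff_card.mp hR0
    have he3 : 3 ≤ e := by
      by_contra h
      apply hR0na
      interval_cases e
      · haveI := (Nat.card_eq_one_iff_unique.mp (he.trans (pow_zero 2))).1
        exact ⟨⟨fun a b => Subsingleton.elim _ _⟩⟩
      · exact (isCyclic_of_prime_card (p := 2) (by simpa using he)).isMulCommutative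
      · exact ⟨⟨IsPGroup.commutative_of_card_eq_prime_sq he⟩⟩
    have hek : e ≤ k := (Nat.pow_dvd_pow_iff_le_right (le_refl 2)).mp (by rw [← he, ← hk]; exact hle)
    rw [← hR0c, he, hk, show e = k by omega]
  obtain ⟨g, hg⟩ := hB Q Q' hQc hQc' hQQ
  set R1 := R.map (MulAut.conj g).toMonoidHom with hR1
  set C := Subgroup.centralizer (Q' : Set G) with hC
  have hR1C : R1 ≤ C := by
    rintro _ ⟨r, hr, rfl⟩
    rw [hC, Subgroup.mem_centralizer_iff]
    intro x hx
    obtain ⟨q, hq, rfl⟩ : x ∈ Q.map (MulAut.conj g).toMonoidHom := hg ▸ hx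
    rw [← map_mul, ← map_mul, hc1 r hr q hq]
  have hR'C : R' ≤ C := by
    intro r hr
    rw [hC, Subgroup.mem_centralizer_iff]
    exact fun x hx => hc2 r hr x hx
  have hsyl : ∀ U : Subgroup G, IsPGroup 2 U → U ≤ C → Nat.card U = Nat.card ↥(P : Subgroup G) →
      ∃ S : Sylow 2 ↥C, (S : Subgroup ↥C) = U.subgroupOf C := by
    intro U hU hUC hUc
    obtain ⟨S, hS⟩ := (hU.comap_of_injective C.subtype C.subtype_injective).exists_le_sylow
    refine ⟨S, (Subgroup.eq_of_le_of_card_ge hS ?_).symm⟩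
    obtain ⟨S', hS'⟩ := (S.isPGroup'.map C.subtype).exists_le_sylow
    have hdd := Subgroup.card_dvd_of_le hS'
    have := Nat.le_of_dvd Nat.card_pos hdd
    rw [Subgroup.card_map_of_injective C.subtype_injective, S'.card_eq_multiplicity,
      ← P.card_eq_multiplicity, ← hUc] at this
    calc Nat.card ↥(S : Subgroup ↥C) ≤ Nat.card U := this
      _ = _ := (Nat.card_congr (Subgroup.subgroupOfEquivOfLe hUC).toEquiv).symm
  obtain ⟨S1, hS1⟩ := hsyl R1 (hR.map _) hR1C
    (by rw [hR1, Subgroup.card_map_of_injective (MulAut.conj g).injective, hR8])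
  obtain ⟨S2, hS2⟩ := hsyl R' hR' hR'C (by rw [← hRR, hR8])
  obtain ⟨c, hc⟩ := MulAction.exists_smul_eq ↥C S1 S2
  refine hfinish ((c : G) * g) ?_
  have hR'eq : R' = R1.map (MulAut.conj (c : G)).toMonoidHom := by
    have h2 : R'.subgroupOf C = (R1.subgroupOf C).map (MulAut.conj c).toMonoidHom := by
      rw [← hS2, ← hc, Sylow.coe_subgroup_smul, hS1, Subgroup.pointwise_smul_def]
      rfl
    have h3 := congrArg (Subgroup.map C.subtype) h2
    rw [Subgroup.map_subgroupOf_eq_of_le hR'C, Subgroup.map_map] at h3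
    rw [h3]
    have h4 : C.subtype.comp (MulAut.conj c).toMonoidHom = (MulAut.conj (c : G)).toMonoidHom.comp C.subtype := by
      ext x; simp
    rw [h4, ← Subgroup.map_map, Subgroup.map_subgroupOf_eq_of_le hR1C]
  have hQ'eq : Q' = Q'.map (MulAut.conj (c : G)).toMonoidHom := by
    ext x
    constructor
    · intro hx
      refine ⟨x, hx, ?_⟩
      show (c : G) * x * (c : G)⁻¹ = x
      rw [← Subgroup.mem_centralizer_iff.mp c.2 x hx, mul_inv_cancel_right]
    · rintro ⟨y, hy, rfl⟩
      show (c : G) * y * (c : G)⁻¹ ∈ Q'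
      rwa [← Subgroup.mem_centralizer_iff.mp c.2 y hy, mul_inv_cancel_right]
  have hcomp : (MulAut.conj ((c : G) * g)).toMonoidHom =
      (MulAut.conj (c : G)).toMonoidHom.comp (MulAut.conj g).toMonoidHom := by
    ext x; simp
  rw [← hsup, ← hsup', Subgroup.map_sup, hcomp, ← Subgroup.map_map, ← Subgroup.map_map, ← hR1,
    ← hR'eq, ← hg, ← hQ'eq]

theorem main {H : Type v} [Group H] : ∀ (n : ℕ) (G : Type u) [Group G] [Finite G] [Group.IsSolvable G]
    (f : G →* H), Function.Surjective f → AbConj G → Nat.card f.ker ≤ n → AbConj H := by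
  intro n
  induction n with
  | zero =>
    intro G _ _ _ f _ _ h
    exact absurd h (Nat.not_le.mpr Nat.card_pos)
  | succ n ih =>
    intro G _ _ _ f hf hB h
    by_cases hk : f.ker = ⊥
    · have e : G ≃* H := MulEquiv.ofBijective f ⟨(MonoidHom.ker_eq_bot_iff f).mp hk, hf⟩
      intro A B hA hB' hAB
      have hc : ∀ C : Subgroup H, Nat.card ↥(C.comap e.toMonoidHom) = Nat.card C := fun C => by
        rw [← Subgroup.card_map_of_injective (f := e.toMonoidHom) e.injective,
          Subgroup.map_comap_eq_self_of_surjective (f := e.toMonoidHom) e.surjective]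
      have hcm : ∀ C : Subgroup H, IsMulCommutative ↥C → IsMulCommutative ↥(C.comap e.toMonoidHom) :=
        fun C hC => ⟨⟨fun a b => Subtype.ext (e.injective (by
          rw [Subgroup.coe_mul, Subgroup.coe_mul, map_mul, map_mul]
          exact congrArg Subtype.val (hC.is_comm.comm ⟨e a, a.2⟩ ⟨e b, b.2⟩)))⟩⟩
      obtain ⟨g, hg⟩ := hB _ _ (hcm A hA) (hcm B hB') (by rw [hc, hc, hAB])
      refine ⟨e g, ?_⟩
      have := congrArg (Subgroup.map e.toMonoidHom) hg
      rw [Subgroup.map_comap_eq_self_of_surjective (f := e.toMonoidHom) e.surjective, Subgroup.map_map] at this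
      rw [this]
      conv_rhs => rw [← Subgroup.map_comap_eq_self_of_surjective (f := e.toMonoidHom) e.surjective A,
        Subgroup.map_map]
      congr 1
      ext x; simp
    obtain ⟨N, hN, hNle⟩ := HallSolvable.exists_minNormal_le (M := f.ker) hk
    haveI := hN.normal
    haveI : Group.IsSolvable (G ⧸ N) := Group.isSolvable_of_surjective (QuotientGroup.mk'_surjective N)
    have hB1 : AbConj (G ⧸ N) := step (QuotientGroup.mk' N) (QuotientGroup.mk'_surjective N) hB
      (by rwa [QuotientGroup.ker_mk'])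
    refine ih (G ⧸ N) (QuotientGroup.lift N f hNle) (QuotientGroup.lift_surjective_of_surjective N f hf hNle) hB1 ?_
    rw [QuotientGroup.ker_lift]
    by_contra hlt
    have h1 : Nat.card ↥(f.ker.map (QuotientGroup.mk' N)) * Nat.card N = Nat.card f.ker := by
      have := HallSolvable.index_map_mk'_of_le hNle
      have h2 := (f.ker.map (QuotientGroup.mk' N)).card_mul_index
      rw [this] at h2
      have h3 := N.card_mul_index
      have h4 := f.ker.card_mul_index
      have h5 : N.index = Nat.card (G ⧸ N) := rfl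
      refine Nat.eq_of_mul_eq_mul_right (Nat.pos_of_ne_zero (Subgroup.index_ne_zero_of_finite (H := f.ker))) ?_
      calc _ = Nat.card N * (Nat.card ↥(f.ker.map (QuotientGroup.mk' N)) * f.ker.index) := by ring
        _ = _ := by rw [h2, ← h5, h3, h4]
    have hN2 : 2 ≤ Nat.card N := N.one_lt_card_iff_ne_bot.mpr hN.ne_bot
    have := Nat.mul_le_mul (Nat.succ_le_of_lt (Nat.not_le.mp hlt)) hN2
    omega

/-- Let G be a finite solvable group in which any two abelian subgroups of the same order are conjugate. Then every quotient of G has the same property: any two abelian subgroups of the quotient of the same order are conjugate. -/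
theorem result {G : Type*} [Group G] [Finite G] (hB : ∀ A B : Subgroup G, IsMulCommutative ↥A → IsMulCommutative ↥B → Nat.card ↥A = Nat.card ↥B → ∃ g : G, B = A.map (MulAut.conj g).toMonoidHom) (hsol : Group.IsSolvable G) (M : Subgroup G) [M.Normal] :
    ∀ A B : Subgroup (G ⧸ M), IsMulCommutative ↥A → IsMulCommutative ↥B → Nat.card ↥A = Nat.card ↥B →
      ∃ g : G ⧸ M, B = A.map (MulAut.conj g).toMonoidHom :=
  main (Nat.card (QuotientGroup.mk' M).ker) G (QuotientGroup.mk' M) (QuotientGroup.mk'_surjective M) hB le_rfl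

end Cfsg.Agent.S3912
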