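import Mathlib
import Cfsg.Statements.S3917
-- import your own Cfsg.Agent.* helpers here

set_option autoImplicit false
open Cfsg

namespace Cfsg.Agent.S3917

/-- Say that a group has self-centralizing non-cyclic subgroups when every non-cyclic subgroup H satisfies C_G(H) ≤ H. A finite abelian group with self-centralizing non-cyclic subgroups is cyclic or elementary abelian of order p² for a prime p. -/
theorem result {G : Type*} [CommGroup G] [Finite G] (hX : (∀ H : Subgroup G, ¬ IsCyclic ↥H → Subgroup.centralizer (H : Set G) ≤ H)) :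
    IsCyclic G ∨ ∃ p : ℕ, p.Prime ∧ Nat.card G = p ^ 2 ∧ Monoid.exponent G = p := by
  classical
  by_cases hcyc : IsCyclic G
  · exact Or.inl hcyc
  right
  have hprop : ∀ H : Subgroup G, H ≠ ⊤ → IsCyclic H := by
    intro H hH
    by_contra h
    refine hH (top_le_iff.mp (le_trans ?_ (hX H h)))
    intro x _ y _
    exact mul_comm y x
  obtain ⟨p, hp, P, hP⟩ : ∃ p : ℕ, p.Prime ∧ ∃ P : Sylow p G, ¬ IsCyclic (P : Subgroup G) := by
    by_contra hall
    push Not at hall
    have : IsZGroup G := ⟨hall⟩
    exact hcyc inferInstance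
  have := Fact.mk hp
  have hPtop : (P : Subgroup G) = ⊤ := by_contra fun h => hP (hprop _ h)
  have hG : IsPGroup p G := by
    intro x
    obtain ⟨k, hk⟩ := P.isPGroup' ⟨x, hPtop ▸ Subgroup.mem_top x⟩
    exact ⟨k, congrArg Subtype.val hk⟩
  have : Nontrivial G := by
    by_contra h
    rw [not_nontrivial_iff_subsingleton] at h
    exact hcyc inferInstance
  set Ω : Subgroup G := (powMonoidHom p : G →* G).ker with hΩdef
  have hmemΩ : ∀ z : G, z ∈ Ω ↔ z ^ p = 1 := fun z => Iff.rfl
  by_cases hΩ : Ω = ⊤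
  · have hexp : ∀ z : G, z ^ p = 1 := fun z => (hmemΩ z).mp (hΩ ▸ Subgroup.mem_top z)
    refine ⟨p, hp, ?_, ?_⟩
    · have hord : ∀ z : G, z ≠ 1 → orderOf z = p := fun z hz => orderOf_eq_prime (hexp z) hz
      obtain ⟨g, hg⟩ := exists_ne (1 : G)
      have hgtop : Subgroup.zpowers g ≠ ⊤ := fun h => hcyc (isCyclic_iff_exists_zpowers_eq_top.mpr ⟨g, h⟩)
      obtain ⟨y, -, hy⟩ := SetLike.exists_of_lt hgtop.lt_top
      have hy1 : y ≠ 1 := fun h => hy (h ▸ one_mem _)
      have hcg : Nat.card (Subgroup.zpowers g) = p := by rw [Nat.card_zpowers, hord g hg]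
      have hcy : Nat.card (Subgroup.zpowers y) = p := by rw [Nat.card_zpowers, hord y hy1]
      have hrel : (Subgroup.zpowers g).relIndex (Subgroup.zpowers y) = p := by
        have h1 : (Subgroup.zpowers g).relIndex (Subgroup.zpowers y) ∣ p :=
          hcy ▸ Subgroup.relIndex_dvd_card _ _
        rcases (Nat.dvd_prime hp).mp h1 with h1 | h1
        · exact absurd (Subgroup.relIndex_eq_one.mp h1 (Subgroup.mem_zpowers y)) hy
        · exact h1
      set S := Subgroup.zpowers y ⊔ Subgroup.zpowers g with hS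
      have hcS : Nat.card S = p * p := by
        have := Subgroup.relIndex_mul_relIndex ⊥ (Subgroup.zpowers g) S bot_le le_sup_right
        rw [Subgroup.relIndex_bot_left, Subgroup.relIndex_bot_left, Subgroup.relIndex_sup_right, hrel, hcg] at this
        exact this.symm
      have hStop : S = ⊤ := by
        by_contra h
        have := hprop S h
        have h2 : Monoid.exponent S ∣ p := Monoid.exponent_dvd_of_forall_pow_eq_one fun z => Subtype.ext (hexp z)
        rw [IsCyclic.exponent_eq_card, hcS] at h2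
        exact absurd (Nat.le_of_dvd hp.pos h2) (by have := hp.two_le; nlinarith)
      rw [← Subgroup.card_top, ← hStop, hcS, pow_two]
    · exact (Monoid.exponent_eq_prime_iff hp).mpr fun z hz => orderOf_eq_prime (hexp z) hz
  · exfalso
    have := hprop Ω hΩ
    have hΩp : Nat.card Ω ∣ p := by
      rw [← IsCyclic.exponent_eq_card]
      exact Monoid.exponent_dvd_of_forall_pow_eq_one fun z => Subtype.ext ((hmemΩ _).mp z.2)
    set R : Subgroup G := (powMonoidHom p : G →* G).range with hRdef
    have hR1 : R ≠ ⊥ := by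
      intro h
      apply hΩ
      rw [eq_top_iff]
      intro z _
      exact (hmemΩ z).mpr (Subgroup.mem_bot.mp (h ▸ ⟨z, rfl⟩ : z ^ p ∈ (⊥ : Subgroup G)))
    have hΩ1 : 1 < Nat.card Ω := by
      obtain ⟨z, hz⟩ := exists_prime_orderOf_dvd_card' (G := G) p (hG.card_eq_or_dvd.resolve_left (Finite.one_lt_card (α := G)).ne')
      rw [Subgroup.one_lt_card_iff_ne_bot, Subgroup.ne_bot_iff_exists_ne_one]
      refine ⟨⟨z, (hmemΩ z).mpr (hz ▸ pow_orderOf_eq_one z)⟩, fun h => ?_⟩
      exact hp.ne_one (hz ▸ orderOf_eq_one_iff.mpr (congrArg Subtype.val h))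
    have hidx : Nat.card R * p = Nat.card G := by
      rw [hRdef, ← Subgroup.index_ker, ← hΩdef]
      conv_lhs => rw [← ((Nat.dvd_prime hp).mp hΩp).resolve_left hΩ1.ne']
      exact Subgroup.index_mul_card Ω
    have hRne : R ≠ ⊤ := by
      intro h
      rw [h, Subgroup.card_top] at hidx
      exact absurd hidx (by have := hp.two_le; have := Nat.card_pos (α := G); nlinarith)
    obtain ⟨r, hr⟩ := (Subgroup.isCyclic_iff_exists_zpowers_eq_top R).mp (hprop R hRne)
    obtain ⟨g, hg⟩ : r ∈ R := hr ▸ Subgroup.mem_zpowers r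
    have hgr : g ^ p = r := hg
    have hg1 : g ≠ 1 := by
      rintro rfl
      rw [one_pow] at hgr
      subst hgr
      exact hR1 (by rw [← hr, Subgroup.zpowers_one_eq_bot])
    have hpg : p ∣ orderOf g := by
      obtain ⟨k, hk⟩ := (IsPGroup.iff_orderOf.mp hG) g
      rw [hk]
      refine dvd_pow_self p ?_
      rintro rfl
      exact hg1 (orderOf_eq_one_iff.mp (by simpa using hk))
    apply hcyc
    refine isCyclic_of_orderOf_eq_card g ?_
    rw [← hidx, ← hr, Nat.card_zpowers, ← hgr, orderOf_pow_of_dvd hp.pos.ne' hpg,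
      Nat.div_mul_cancel hpg]

end Cfsg.Agent.S3917
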