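import Mathlib
import Cfsg.Agent.Lib.PGroupsCyclic
import Cfsg.Statements.S3918
-- import your own Cfsg.Agent.* helpers here

set_option autoImplicit false
open Cfsg

namespace Cfsg.Agent.S3918

/-- Say that a group has self-centralizing non-cyclic subgroups when every non-cyclic subgroup H satisfies C_G(H) ≤ H. For an odd prime p, a finite non-abelian p-group has self-centralizing non-cyclic subgroups if and only if it has order p³. -/
theorem result {G : Type*} [Group G] [Finite G] {p : ℕ} [Fact p.Prime] (hp : p ≠ 2) (hG : IsPGroup p G) (hna : ¬ IsMulCommutative G) :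
    (∀ H : Subgroup G, ¬ IsCyclic ↥H → Subgroup.centralizer (H : Set G) ≤ H) ↔ Nat.card G = p ^ 3 := by
  classical
  have hpp : p.Prime := Fact.out
  have hnc : ¬ IsCyclic G := fun h => hna inferInstance
  obtain ⟨n, hn⟩ := IsPGroup.iff_card.mp hG
  have hn3 : 3 ≤ n := by
    by_contra h
    exact hna (PGroupsBasic.isMulCommutative_of_card_le_sq hG (hn ▸ Nat.pow_le_pow_right hpp.pos (by omega)))
  constructor
  · intro hX
    obtain ⟨E, hEn, hEc, hEel⟩ := PGroupsCyclic.exists_normal_elementary_sq hG hp hnc
    have hEnc : ¬ IsCyclic E := fun h => by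
      have := PGroupsBasic.card_le_prime_of_isCyclic h hEel.2
      rw [hEc] at this
      exact absurd this (by have := hpp.two_le; nlinarith)
    have hcent := hX E hEnc
    have hEne : E ≠ ⊥ := fun h => by
      rw [h, Subgroup.card_bot] at hEc
      exact absurd hEc (Nat.one_lt_pow two_ne_zero hpp.one_lt).ne
    set Z := E ⊓ Subgroup.center G with hZ
    have hZne : Z ≠ ⊥ := PGroupsBasic.inf_center_ne_bot hG hEne
    have hZE : Z ≠ E := by
      intro h
      apply hna
      have htop : (⊤ : Subgroup G) ≤ E := by
        refine le_trans ?_ hcent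
        intro g _
        exact Subgroup.mem_centralizer_iff.mpr fun e he =>
          ((Subgroup.mem_center_iff.mp (h.ge he).2) g).symm
      have h2 := hEel.1
      exact ⟨⟨fun a b => congrArg Subtype.val (h2.is_comm.comm ⟨a, htop trivial⟩ ⟨b, htop trivial⟩)⟩⟩
    obtain ⟨e, heE, heZ⟩ := SetLike.exists_of_lt (lt_of_le_of_ne inf_le_left hZE)
    have hZc : Nat.card Z = p := by
      obtain ⟨i, hi, hZi⟩ := (Nat.dvd_prime_pow hpp).mp (hEc ▸ Subgroup.card_dvd_of_le (inf_le_left : Z ≤ E))
      interval_cases i
      · exact absurd (Subgroup.eq_bot_of_card_eq _ (hZi.trans (pow_zero p))) hZne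
      · exact hZi.trans (pow_one p)
      · exact absurd (Subgroup.eq_of_le_of_card_ge inf_le_left (hEc.trans hZi.symm).le) hZE
    have hgen : E ≤ Z ⊔ Subgroup.zpowers e := by
      have hlt : Z < Z ⊔ Subgroup.zpowers e := left_lt_sup.mpr fun h => heZ (h (Subgroup.mem_zpowers e))
      have hle : Z ⊔ Subgroup.zpowers e ≤ E := sup_le inf_le_left (Subgroup.zpowers_le.mpr heE)
      obtain ⟨i, hi, hZi⟩ := (Nat.dvd_prime_pow hpp).mp (hEc ▸ Subgroup.card_dvd_of_le hle)
      have : Nat.card Z < Nat.card ↥(Z ⊔ Subgroup.zpowers e) :=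
        lt_of_le_of_ne (Subgroup.card_le_of_le hlt.le) fun h => hlt.ne (Subgroup.eq_of_le_of_card_ge hlt.le h.ge)
      rw [hZc, hZi] at this
      have hi2 : i = 2 := by
        by_contra h
        have : p ^ i ≤ p := (Nat.pow_le_pow_right hpp.pos (by omega : i ≤ 1)).trans (pow_one p).le
        omega
      exact (Subgroup.eq_of_le_of_card_ge hle (by rw [hZi, hEc, hi2])).ge
    have hCe : Subgroup.centralizer ({e} : Set G) ≤ E := by
      refine le_trans ?_ hcent
      intro g hg
      refine Subgroup.mem_centralizer_iff.mpr fun u hu => ?_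
      have hle : Z ⊔ Subgroup.zpowers e ≤ Subgroup.centralizer ({g} : Set G) := by
        refine sup_le (fun z hz => Subgroup.mem_centralizer_singleton_iff.mpr ?_) (Subgroup.zpowers_le.mpr ?_)
        · exact (Subgroup.mem_center_iff.mp hz.2 g).symm
        · exact Subgroup.mem_centralizer_singleton_iff.mpr (Subgroup.mem_centralizer_singleton_iff.mp hg).symm
      exact Subgroup.mem_centralizer_singleton_iff.mp (hle (hgen hu))
    -- count conjugates of `e`
    let f : G ⧸ Subgroup.centralizer ({e} : Set G) → {u : E // (u : G) ∉ Z} :=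
      Quotient.lift (fun g => ⟨⟨g * e * g⁻¹, hEn.conj_mem e heE g⟩, fun h => heZ (by
        have hZn : Z.Normal := PGroupsBasic.normal_of_le_center inf_le_right
        have h1 := hZn.conj_mem _ h g⁻¹
        rwa [show g⁻¹ * (g * e * g⁻¹) * g⁻¹⁻¹ = e by group] at h1)⟩) (fun a b hab => by
          have h := Subgroup.mem_centralizer_singleton_iff.mp (QuotientGroup.leftRel_apply.mp hab)
          apply Subtype.ext; apply Subtype.ext
          calc a * e * a⁻¹ = a * (e * (a⁻¹ * b)) * b⁻¹ := by group
            _ = a * ((a⁻¹ * b) * e) * b⁻¹ := by rw [← h]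
            _ = b * e * b⁻¹ := by group)
    have hf : Function.Injective f := by
      intro a b
      refine Quotient.inductionOn₂ a b (fun a b h => Quotient.sound ?_)
      have h' : a * e * a⁻¹ = b * e * b⁻¹ := congrArg (fun u : {u : E // (u : G) ∉ Z} => ((u : E) : G)) h
      refine QuotientGroup.leftRel_apply.mpr (Subgroup.mem_centralizer_singleton_iff.mpr ?_)
      calc a⁻¹ * b * e = a⁻¹ * (b * e * b⁻¹) * b := by group
        _ = a⁻¹ * (a * e * a⁻¹) * b := by rw [h']
        _ = e * (a⁻¹ * b) := by group
    have hlt : (Subgroup.centralizer ({e} : Set G)).index < p ^ 2 := by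
      refine lt_of_le_of_lt (Nat.card_le_card_of_injective f hf) ?_
      rw [← hEc]
      exact Finite.card_subtype_lt (x := (1 : E)) (by simp [Subgroup.one_mem])
    have hidx : (Subgroup.centralizer ({e} : Set G)).index ≤ p := by
      obtain ⟨i, hi⟩ := hG.index (Subgroup.centralizer ({e} : Set G))
      rw [hi] at hlt ⊢
      have : i < 2 := (Nat.pow_lt_pow_iff_right hpp.one_lt).mp hlt
      exact (Nat.pow_le_pow_right hpp.pos (by omega : i ≤ 1)).trans (pow_one p).le
    have hle : Nat.card G ≤ p ^ 3 := by
      rw [← Subgroup.card_mul_index (Subgroup.centralizer ({e} : Set G)), pow_succ]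
      exact Nat.mul_le_mul ((Subgroup.card_le_of_le hCe).trans hEc.le) hidx
    exact le_antisymm hle (hn ▸ Nat.pow_le_pow_right hpp.pos hn3)
  · intro hcard H hH
    by_cases htop : H = ⊤
    · rw [htop]; exact le_top
    have hd : Nat.card H ∣ p ^ 3 := hcard ▸ Subgroup.card_subgroup_dvd_card H
    obtain ⟨i, hi, hHi⟩ := (Nat.dvd_prime_pow hpp).mp hd
    have hi2 : i = 2 := by
      have h1 : i ≠ 3 := fun h => htop (Subgroup.eq_top_of_card_eq H (by rw [hHi, h, hcard]))
      have h2 : ¬ i ≤ 1 := fun h => hH (by
        rcases Nat.le_one_iff_eq_zero_or_eq_one.mp h with rfl | rfl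
        · rw [pow_zero] at hHi
          haveI : Subsingleton H := (Nat.card_eq_one_iff_unique.mp hHi).1
          exact isCyclic_of_subsingleton
        · exact isCyclic_of_prime_card (hHi.trans (pow_one p)))
      omega
    subst hi2
    have hHab : IsMulCommutative H := IsPGroup.isMulCommutative_of_card_eq_prime_sq hHi
    have hHC := PGroupsBasic.le_centralizer_of_isMulCommutative hHab
    by_contra hC
    have hlt : H < Subgroup.centralizer (H : Set G) := lt_of_le_of_ne hHC fun h => hC h.ge
    have htopC : Subgroup.centralizer (H : Set G) = ⊤ := by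
      have hidx : H.index = p := by
        have := H.card_mul_index
        rw [hHi, hcard, pow_succ p 2] at this
        exact Nat.eq_of_mul_eq_mul_left (pow_pos hpp.pos 2) this
      have h1 := (PGroupsBasic.isCoatom_of_index_eq hidx).2 _ hlt
      exact h1
    apply hna
    have hcen : H ≤ Subgroup.center G := fun h hh => Subgroup.mem_center_iff.mpr fun g =>
      (Subgroup.mem_centralizer_iff.mp (htopC.symm.le (Subgroup.mem_top g)) h hh).symm
    have hdvd : (Subgroup.center G).index ∣ p := by
      have := Subgroup.index_dvd_of_le hcen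
      have h2 := H.card_mul_index
      rw [hHi, hcard, pow_succ p 2] at h2
      rwa [Nat.eq_of_mul_eq_mul_left (pow_pos hpp.pos 2) h2] at this
    haveI : IsCyclic (G ⧸ Subgroup.center G) := by
      rcases (Nat.dvd_prime hpp).mp hdvd with h | h
      · haveI : Subsingleton (G ⧸ Subgroup.center G) := (Nat.card_eq_one_iff_unique.mp h).1
        exact isCyclic_of_subsingleton
      · exact isCyclic_of_prime_card h
    exact ⟨⟨commutative_of_cyclic_center_quotient (QuotientGroup.mk' (Subgroup.center G)) (by rw [QuotientGroup.ker_mk'])⟩⟩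

end Cfsg.Agent.S3918
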