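import Mathlib
import Cfsg.Agent.Lib.MaxClassTwo
import Cfsg.Agent.Lib.PGroupsCyclic
import Cfsg.Statements.S3919
-- import your own Cfsg.Agent.* helpers here

set_option autoImplicit false
open Cfsg

namespace Cfsg.Agent.S3919

/-- In a generalized quaternion group the centraliser of an element outside the cyclic half has order four. -/
theorem quaternion_centralizer {k : ℕ} (g : QuaternionGroup (2 ^ k))
    (hg : g * QuaternionGroup.xa 0 = QuaternionGroup.xa 0 * g) :
    g ∈ Subgroup.zpowers (QuaternionGroup.xa 0 : QuaternionGroup (2 ^ k)) := by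
  haveI : NeZero (2 ^ k) := ⟨pow_ne_zero _ two_ne_zero⟩
  have key : ∀ j : ZMod (2 * 2 ^ k), j + j = 0 → j = 0 ∨ j = ((2 ^ k : ℕ) : ZMod (2 * 2 ^ k)) := by
    intro j hj
    have hlt := ZMod.val_lt j
    have hdvd : 2 * 2 ^ k ∣ j.val + j.val := by
      refine (ZMod.natCast_eq_zero_iff _ _).mp ?_
      simpa using hj
    obtain ⟨c, hc⟩ := hdvd
    rcases Nat.lt_or_ge c 2 with hc2 | hc2
    · interval_cases c
      · exact Or.inl ((ZMod.val_eq_zero j).mp (by omega))
      · refine Or.inr ?_
        rw [← ZMod.natCast_zmod_val j, show j.val = 2 ^ k by omega]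
    · have := Nat.mul_le_mul_left (2 * 2 ^ k) hc2
      omega
  have h2 : (QuaternionGroup.xa 0 : QuaternionGroup (2 ^ k)) ^ (2 : ℤ) = QuaternionGroup.a ((2 ^ k : ℕ) : ZMod (2 * 2 ^ k)) := by
    rw [show (2 : ℤ) = ((2 : ℕ) : ℤ) from rfl, zpow_natCast, QuaternionGroup.xa_sq]
  cases g with
  | a i =>
    rw [QuaternionGroup.a_mul_xa, QuaternionGroup.xa_mul_a, QuaternionGroup.xa.injEq, sub_eq_iff_eq_add] at hg
    rcases key i (by linear_combination -hg) with rfl | rfl
    · rw [QuaternionGroup.a_zero]; exact one_mem _
    · exact ⟨2, h2⟩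
  | xa i =>
    rw [QuaternionGroup.xa_mul_xa, QuaternionGroup.xa_mul_xa, QuaternionGroup.a.injEq] at hg
    rcases key i (by linear_combination -hg) with rfl | rfl
    · exact Subgroup.mem_zpowers _
    · refine ⟨3, ?_⟩
      show (QuaternionGroup.xa 0 : QuaternionGroup (2 ^ k)) ^ (3 : ℤ) = _
      rw [show (3 : ℤ) = 1 + 2 from rfl, zpow_add, zpow_one, h2, QuaternionGroup.xa_mul_a, zero_add]

/-- Say that a group has self-centralizing non-cyclic subgroups when every non-cyclic subgroup H satisfies C_G(H) ≤ H. A finite non-abelian 2-group G of order 2^n has self-centralizing non-cyclic subgroups if and only if G has nilpotency class n − 1 (that is, G is dihedral, semidihedral or generalized quaternion). -/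
theorem result {G : Type*} [Group G] [Finite G] (hna : ¬ IsMulCommutative G) (n : ℕ) (hG : Nat.card G = 2 ^ n) :
    (∀ H : Subgroup G, ¬ IsCyclic ↥H → Subgroup.centralizer (H : Set G) ≤ H) ↔ (⊤ : Subgroup G).lowerCentralSeries (n - 2) ≠ ⊥ := by
  haveI : Fact (Nat.Prime 2) := ⟨Nat.prime_two⟩
  have hP : IsPGroup 2 G := IsPGroup.of_card hG
  haveI : Group.IsNilpotent G := hP.isNilpotent
  have hnc : ¬ ∀ a b : G, a * b = b * a := fun h => hna ⟨⟨h⟩⟩
  have hn : 3 ≤ n := by
    by_contra hlt
    apply hnc
    interval_cases n
    · haveI : Subsingleton G := (Nat.card_eq_one_iff_unique.mp (by simpa using hG)).1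
      exact fun a b => Subsingleton.elim _ _
    · haveI : IsCyclic G := isCyclic_of_prime_card (p := 2) (by simpa using hG)
      exact fun a b => IsMulCommutative.is_comm.comm a b
    · exact IsPGroup.commutative_of_card_eq_prime_sq (p := 2) hG
  have hle := MaxClassTwo.nilpotencyClass_le (p := 2) n G hG (by omega)
  rw [Ne, Subgroup.lowerCentralSeries_eq_bot_iff_nilpotencyClass_le]
  constructor
  · intro h
    have hsc : ∃ A : Subgroup G, Nat.card A = 2 ^ 2 ∧ Subgroup.centralizer (A : Set G) = A := by
      by_cases hfour : ∃ V : Subgroup G, Nat.card V = 2 ^ 2 ∧ ¬ IsCyclic V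
      · obtain ⟨V, hV, hVc⟩ := hfour
        refine ⟨V, hV, le_antisymm (h V hVc) fun a ha => Subgroup.mem_centralizer_iff.mpr fun b hb => ?_⟩
        exact congrArg Subtype.val (IsPGroup.commutative_of_card_eq_prime_sq (p := 2) hV ⟨b, hb⟩ ⟨a, ha⟩)
      push Not at hfour
      haveI : Nontrivial G := by
        by_contra hh
        haveI : Subsingleton G := not_nontrivial_iff_subsingleton.mp hh
        exact hnc fun a b => Subsingleton.elim _ _
      haveI := hP.center_nontrivial
      obtain ⟨j, hj⟩ := IsPGroup.iff_card.mp (hP.to_subgroup (Subgroup.center G))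
      obtain ⟨z, hz⟩ := exists_prime_orderOf_dvd_card' (G := Subgroup.center G) 2 (by
        rw [hj]
        refine dvd_pow_self 2 fun e => ?_
        rw [e, pow_zero] at hj
        exact (Finite.one_lt_card (α := Subgroup.center G)).ne' hj)
      have hzo : orderOf (z : G) = 2 := by rw [Subgroup.orderOf_coe, hz]
      -- the central involution is the only involution
      have huniq : ∀ x : G, orderOf x = 2 → x = z := by
        intro x hx
        by_contra hne
        have hc : Commute x (z : G) := (Subgroup.mem_center_iff.mp z.2 x)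
        have hsq : ∀ y : G, orderOf y = 2 → y * y = 1 := fun y hy => by
          rw [← pow_two, ← hy, pow_orderOf_eq_one]
        let V : Subgroup G :=
          { carrier := {w | w = 1 ∨ w = x ∨ w = z ∨ w = x * z}
            one_mem' := Or.inl rfl
            mul_mem' := by
              intro a b ha hb
              have t1 : x * x = 1 := hsq x hx
              have t2 : (z : G) * z = 1 := hsq (z : G) hzo
              have t3 : (z : G) * x = x * z := hc.eq.symm
              have t4 : x * (x * (z : G)) = z := by rw [← mul_assoc, t1, one_mul]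
              have t5 : x * (z : G) * x = z := by rw [mul_assoc, t3, t4]
              have t6 : x * (z : G) * z = x := by rw [mul_assoc, t2, mul_one]
              have t7 : (z : G) * (x * z) = x := by rw [← mul_assoc, t3, t6]
              have t8 : x * (z : G) * (x * z) = 1 := by rw [mul_assoc, t7, t1]
              rcases ha with ea | ea | ea | ea <;> rcases hb with eb | eb | eb | eb <;>
                simp [ea, eb, t1, t2, t3, t4, t5, t6, t7, t8]
            inv_mem' := by
              intro a ha
              rcases ha with ea | ea | ea | ea <;>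
                simp [ea, inv_eq_of_mul_eq_one_right (hsq x hx), inv_eq_of_mul_eq_one_right (hsq (z : G) hzo), hc.eq] }
        have hV2 : ∀ w ∈ V, w ^ 2 = 1 := by
          intro w hw
          rcases hw with ew | ew | ew | ew <;> rw [ew]
          · simp
          · rw [pow_two, hsq _ hx]
          · rw [pow_two, hsq _ hzo]
          · rw [hc.mul_pow, pow_two, pow_two, hsq _ hx, hsq _ hzo, one_mul]
        have hx1 : x ≠ 1 := fun e => by rw [e, orderOf_one] at hx; omega
        have hz1 : (z : G) ≠ 1 := fun e => by rw [e, orderOf_one] at hzo; omega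
        have hxz : x * z ≠ 1 := fun e => hne (by
          rw [eq_inv_of_mul_eq_one_left e, inv_eq_of_mul_eq_one_right (hsq _ hzo)])
        have hV4 : Nat.card V = 2 ^ 2 := by
          have hset : (V : Set G) = {1, x, (z : G), x * z} := by
            ext w
            simp [V]
          rw [← SetLike.coe_sort_coe, Nat.card_coe_set_eq, hset, Set.ncard_insert_of_notMem, Set.ncard_insert_of_notMem,
            Set.ncard_pair]
          · norm_num
          · simpa using hx1
          · simp [hne, hz1]
          · simp [Ne.symm hx1, Ne.symm hz1, Ne.symm hxz]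
        haveI := hfour V hV4
        obtain ⟨g, hg⟩ := IsCyclic.exists_generator (α := V)
        have h1 := orderOf_eq_card_of_forall_mem_zpowers hg
        rw [hV4] at h1
        have h2 : g ^ 2 = 1 := Subtype.ext (by simpa using hV2 (g : G) g.2)
        have := Nat.le_of_dvd two_pos (orderOf_dvd_of_pow_eq_one h2)
        omega
      have hUK : ∀ U : Subgroup G, Nat.card U = 2 → U = Subgroup.zpowers (z : G) := by
        intro U hU
        obtain ⟨u, hu⟩ := exists_prime_orderOf_dvd_card' (G := U) 2 (by rw [hU])
        have hu' : (u : G) = z := huniq _ (by rw [Subgroup.orderOf_coe, hu])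
        exact (Subgroup.eq_of_le_of_card_ge ((Subgroup.zpowers_le).mpr (hu' ▸ u.2))
          (by rw [Nat.card_zpowers, hzo, hU])).symm
      rcases PGroupsCyclic.isCyclic_or_quaternion hP (fun U K hU hK => (hUK U hU).trans (hUK K hK).symm) with hc | ⟨-, k, ⟨e⟩⟩
      · exact absurd (fun a b => hc.isMulCommutative.is_comm.comm a b) hnc
      haveI : NeZero (2 ^ k) := ⟨pow_ne_zero _ two_ne_zero⟩
      set y := e.symm (QuaternionGroup.xa 0) with hy
      refine ⟨Subgroup.zpowers y, ?_, le_antisymm (fun g hg => ?_) ?_⟩
      · rw [Nat.card_zpowers, hy, MulEquiv.orderOf_eq, QuaternionGroup.orderOf_xa]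
        norm_num
      · have h1 := Subgroup.mem_centralizer_iff.mp hg y (Subgroup.mem_zpowers y)
        have h2 := quaternion_centralizer (e g) (by
          rw [← e.apply_symm_apply (QuaternionGroup.xa 0), ← map_mul, ← map_mul, ← hy, h1])
        obtain ⟨m, hm⟩ := h2
        refine ⟨m, ?_⟩
        show y ^ m = g
        simp only at hm
        rw [hy, ← map_zpow, hm, e.symm_apply_apply]
      · rw [Subgroup.zpowers_le, Subgroup.mem_centralizer_iff]
        rintro _ ⟨m, rfl⟩
        exact ((Commute.refl y).zpow_left m).eq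
    obtain ⟨A, hA, hAC⟩ := hsc
    have := MaxClassTwo.class_of_self_centralizing (p := 2) n G hG A hA hAC
    omega
  · intro h H hH
    obtain ⟨C, hC, hCi, -, -, hzC, -⟩ := MaxClassTwo.structure_of_maxClass hn hG (by omega)
    have hZ := (MaxClassTwo.center_of_maxClass (p := 2) hn hG (by omega)).1
    have hCc : IsMulCommutative C := hC.isMulCommutative
    have hcomm : ∀ a ∈ C, ∀ b ∈ C, a * b = b * a := fun a ha b hb =>
      congrArg Subtype.val (hCc.is_comm.comm ⟨a, ha⟩ ⟨b, hb⟩)
    have hCyc : ∀ U : Subgroup G, U ≤ C → IsCyclic U := fun U hU =>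
      isCyclic_of_injective (Subgroup.inclusion hU) (Subgroup.inclusion_injective hU)
    obtain ⟨y, hyH, hyC⟩ : ∃ y ∈ H, y ∉ C := Set.not_subset.mp fun hle => hH (hCyc H hle)
    -- elements of `C` commuting with `y` are central
    have hcen : ∀ c ∈ C, c * y = y * c → c ∈ Subgroup.center G := by
      intro c hc hcy
      rw [Subgroup.mem_center_iff]
      intro g
      by_cases hg : g ∈ C
      · exact hcomm g hg c hc
      · have hgy : g * y⁻¹ ∈ C := by
          rw [Subgroup.mul_mem_iff_of_index_two hCi, inv_mem_iff]
          exact iff_of_false hg hyC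
        calc g * c = g * y⁻¹ * (y * c) := by group
          _ = g * y⁻¹ * c * y := by rw [← hcy]; group
          _ = c * (g * y⁻¹) * y := by rw [hcomm _ hgy c hc]
          _ = c * g := by group
    -- the centre lies in `H`
    have hZH : Subgroup.center G ≤ H := by
      have hy2 : y ^ 2 ∈ H ⊓ C := ⟨pow_mem hyH 2, Subgroup.sq_mem_of_index_two hCi y⟩
      have hy2c : y ^ 2 ∈ Subgroup.center G := hcen _ hy2.2 (by rw [← pow_succ, ← pow_succ'])
      obtain ⟨zG, hzG⟩ := exists_prime_orderOf_dvd_card' (G := Subgroup.center G) 2 (by rw [hZ])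
      have hgenZ : Subgroup.zpowers (zG : G) = Subgroup.center G :=
        Subgroup.eq_of_le_of_card_ge ((Subgroup.zpowers_le).mpr zG.2)
          (by rw [Nat.card_zpowers, Subgroup.orderOf_coe, hzG, hZ])
      suffices hm : (zG : G) ∈ H by rw [← hgenZ]; exact (Subgroup.zpowers_le).mpr hm
      have hHC : H ⊓ C ≠ ⊥ := by
        intro hbot
        apply hH
        have hle' : H ≤ Subgroup.zpowers y := by
          intro g hg
          by_cases hgC : g ∈ C
          · have : g ∈ H ⊓ C := ⟨hg, hgC⟩
            rw [hbot, Subgroup.mem_bot] at this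
            rw [this]; exact one_mem _
          · have : g * y⁻¹ ∈ H ⊓ C := ⟨H.mul_mem hg (H.inv_mem hyH), by
              show g * y⁻¹ ∈ C
              rw [Subgroup.mul_mem_iff_of_index_two hCi, inv_mem_iff]
              exact iff_of_false hgC hyC⟩
            rw [hbot, Subgroup.mem_bot, mul_inv_eq_one] at this
            rw [this]; exact Subgroup.mem_zpowers y
        exact isCyclic_of_injective (Subgroup.inclusion hle') (Subgroup.inclusion_injective hle')
      haveI := (Subgroup.nontrivial_iff_ne_bot (H ⊓ C)).mpr hHC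
      obtain ⟨j, hj⟩ := IsPGroup.iff_card.mp (hP.to_subgroup (H ⊓ C))
      obtain ⟨u, hu⟩ := exists_prime_orderOf_dvd_card' (G := ↥(H ⊓ C)) 2 (by
        rw [hj]
        refine dvd_pow_self 2 fun e => ?_
        rw [e, pow_zero] at hj
        exact (Finite.one_lt_card (α := ↥(H ⊓ C))).ne' hj)
      haveI := hC
      have hzCm : (zG : G) ∈ C := hzC zG.2
      have key : Subgroup.zpowers (u : G) = Subgroup.zpowers (zG : G) :=
        PGroupsCyclic.eq_of_card_eq_of_isCyclic hC ((Subgroup.zpowers_le).mpr u.2.2) ((Subgroup.zpowers_le).mpr hzCm)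
          (by rw [Nat.card_zpowers, Nat.card_zpowers, Subgroup.orderOf_coe, Subgroup.orderOf_coe, hu, hzG])
      have hm : (zG : G) ∈ Subgroup.zpowers (u : G) := key ▸ Subgroup.mem_zpowers _
      exact (Subgroup.zpowers_le).mpr u.2.1 hm
    intro c hc
    have hcy : y * c = c * y := Subgroup.mem_centralizer_iff.mp hc y hyH
    by_cases hcC : c ∈ C
    · exact hZH (hcen c hcC hcy.symm)
    · have : c * y ∈ Subgroup.center G := hcen _ (by
        rw [Subgroup.mul_mem_iff_of_index_two hCi]
        exact iff_of_false hcC hyC) (by rw [← mul_assoc y c y, hcy])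
      simpa using H.mul_mem (hZH this) (H.inv_mem hyH)

end Cfsg.Agent.S3919
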