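import Mathlib
import Cfsg.Statements.S3920
-- import your own Cfsg.Agent.* helpers here

set_option autoImplicit false
open Cfsg

namespace Cfsg.Agent.S3920

/-- Say that a group has self-centralizing non-cyclic subgroups when every non-cyclic subgroup H satisfies C_G(H) ≤ H. For n ≥ 3, the dihedral group of order 2n has self-centralizing non-cyclic subgroups if and only if n is odd or a power of 2. -/
theorem result (n : ℕ) (hn : 3 ≤ n) : (∀ H : Subgroup (DihedralGroup n), ¬ IsCyclic ↥H → Subgroup.centralizer (H : Set (DihedralGroup n)) ≤ H) ↔ (Odd n ∨ ∃ k : ℕ, n = 2 ^ k) := by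
  classical
  haveI : NeZero n := ⟨by omega⟩
  haveI : Fact (1 < n) := ⟨by omega⟩
  -- the solutions of `2 t = 0`
  have two : ∀ t : ZMod n, t + t = 0 → t = 0 ∨ (Even n ∧ t = ((n / 2 : ℕ) : ZMod n)) := by
    intro t ht
    have h1 : n ∣ t.val + t.val := by
      rw [← ZMod.natCast_eq_zero_iff, Nat.cast_add, ZMod.natCast_zmod_val, ht]
    have hlt := ZMod.val_lt t
    rcases Nat.eq_zero_or_pos t.val with h | h
    · exact Or.inl ((ZMod.val_eq_zero t).mp h)
    · have h2 : t.val + t.val = n := by
        obtain ⟨c, hc⟩ := h1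
        have hc2 : c < 2 := Nat.lt_of_mul_lt_mul_left (a := n) (by omega)
        interval_cases c
        · omega
        · omega
      exact Or.inr ⟨⟨t.val, h2.symm⟩, by rw [show n / 2 = t.val by omega, ZMod.natCast_zmod_val]⟩
  constructor
  · intro hX
    by_contra hcon
    push Not at hcon
    obtain ⟨hev, hpow⟩ := hcon
    rw [Nat.not_odd_iff_even] at hev
    obtain ⟨q, hq, hqn, hq2⟩ : ∃ q : ℕ, q.Prime ∧ q ∣ n ∧ q ≠ 2 := by
      by_contra h
      push Not at h
      obtain ⟨k, hk⟩ : ∃ k, n = 2 ^ k :=
        ⟨_, Nat.eq_prime_pow_of_unique_prime_dvd (by omega) (fun {d} hd hdn => h d hd hdn)⟩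
      exact hpow k hk
    obtain ⟨c, hc⟩ := hqn
    set e : ZMod n := (c : ZMod n) with he
    let H : Subgroup (DihedralGroup n) :=
      { carrier := {g | match g with
          | DihedralGroup.r j => ∃ z : ℤ, j = z * e
          | DihedralGroup.sr j => ∃ z : ℤ, j = z * e}
        one_mem' := ⟨0, by simp⟩
        mul_mem' := by
          rintro (a | a) (b | b) ⟨za, rfl⟩ ⟨zb, rfl⟩
          · exact ⟨za + zb, by push_cast; ring⟩
          · exact ⟨zb - za, by push_cast; ring⟩
          · exact ⟨za + zb, by push_cast; ring⟩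
          · exact ⟨zb - za, by push_cast; ring⟩
        inv_mem' := by
          rintro (a | a) ⟨za, rfl⟩
          · exact ⟨-za, by push_cast; ring⟩
          · exact ⟨za, rfl⟩ }
    have hnc : ¬ IsCyclic H := by
      intro h
      have h1 : (DihedralGroup.r e : DihedralGroup n) ∈ H := ⟨1, by simp⟩
      have h2 : (DihedralGroup.sr 0 : DihedralGroup n) ∈ H := ⟨0, by simp⟩
      have h3 := congrArg Subtype.val ((IsCyclic.commGroup (α := H)).mul_comm ⟨_, h1⟩ ⟨_, h2⟩)
      simp only [Subgroup.coe_mul, DihedralGroup.r_mul_sr, DihedralGroup.sr_mul_r, DihedralGroup.sr.injEq,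
        zero_sub, zero_add] at h3
      have hcpos : 0 < c := by
        rcases Nat.eq_zero_or_pos c with rfl | h
        · rw [mul_zero] at hc; omega
        · exact h
      have h4 : n ∣ c + c := by
        rw [← ZMod.natCast_eq_zero_iff, Nat.cast_add, ← he]
        linear_combination -h3
      rw [hc, ← two_mul] at h4
      have h5 := Nat.dvd_of_mul_dvd_mul_right hcpos h4
      exact hq2 ((Nat.prime_dvd_prime_iff_eq hq Nat.prime_two).mp h5)
    obtain ⟨h', hh'⟩ := hev
    have hz : (DihedralGroup.r ((h' : ℕ) : ZMod n) : DihedralGroup n) ∈ Subgroup.centralizer (H : Set (DihedralGroup n)) := by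
      have h2 : ((h' : ℕ) : ZMod n) + ((h' : ℕ) : ZMod n) = 0 := by
        rw [← Nat.cast_add, ← hh', ZMod.natCast_self]
      refine Subgroup.mem_centralizer_iff.mpr ?_
      rintro (a | a) -
      · simp [add_comm]
      · simp only [DihedralGroup.sr_mul_r, DihedralGroup.r_mul_sr, DihedralGroup.sr.injEq]
        linear_combination h2
    obtain ⟨z, hz'⟩ := hX H hnc hz
    have hmod : (q : ZMod n) * ((h' : ℕ) : ZMod n) = 0 := by
      rw [hz', he, mul_left_comm, ← Nat.cast_mul, ← hc, ZMod.natCast_self, mul_zero]
    rw [← Nat.cast_mul, ZMod.natCast_eq_zero_iff, hh', ← mul_two, mul_comm q h'] at hmod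
    have h5 := Nat.dvd_of_mul_dvd_mul_left (by omega) hmod
    exact hq2 ((Nat.prime_dvd_prime_iff_eq Nat.prime_two hq).mp h5).symm
  · intro hn' H hH
    obtain ⟨i, hi⟩ : ∃ i, (DihedralGroup.sr i : DihedralGroup n) ∈ H := by
      by_contra h
      push Not at h
      apply hH
      have hle : H ≤ Subgroup.zpowers (DihedralGroup.r 1 : DihedralGroup n) := by
        rintro (a | a) ha
        · exact ⟨(a.val : ℤ), by simp [DihedralGroup.r_one_pow]⟩
        · exact absurd ha (h a)
      exact Subgroup.isCyclic_of_le hle
    obtain ⟨j, hj0, hj⟩ : ∃ j : ZMod n, j ≠ 0 ∧ (DihedralGroup.r j : DihedralGroup n) ∈ H := by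
      by_contra h
      push Not at h
      apply hH
      have hle : H ≤ Subgroup.zpowers (DihedralGroup.sr i : DihedralGroup n) := by
        rintro (a | a) ha
        · have : a = 0 := by_contra fun h0 => h a h0 ha
          rw [this, ← DihedralGroup.one_def]
          exact one_mem _
        · have h2 := H.mul_mem hi ha
          rw [DihedralGroup.sr_mul_sr] at h2
          have : a - i = 0 := by_contra fun h0 => h _ h0 h2
          rw [sub_eq_zero.mp this]
          exact Subgroup.mem_zpowers _
      exact Subgroup.isCyclic_of_le hle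
    -- any rotation of order at most two lies in `H`
    have key : ∀ t : ZMod n, t + t = 0 → (DihedralGroup.r t : DihedralGroup n) ∈ H := by
      intro t ht
      rcases two t ht with rfl | ⟨hev, ht'⟩
      · rw [← DihedralGroup.one_def]; exact one_mem H
      · obtain ⟨k, hk⟩ := hn'.resolve_left (fun h => (Nat.not_even_iff_odd.mpr h) hev)
        have h1 : orderOf (DihedralGroup.r j : DihedralGroup n) ∣ 2 ^ k := by
          rw [DihedralGroup.orderOf_r, ← hk]
          exact Nat.div_dvd_of_dvd (Nat.gcd_dvd_left _ _)
        obtain ⟨m, -, hm⟩ := (Nat.dvd_prime_pow Nat.prime_two).mp h1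
        have hm0 : m ≠ 0 := by
          rintro rfl
          rw [pow_zero, orderOf_eq_one_iff, DihedralGroup.one_def, DihedralGroup.r.injEq] at hm
          exact hj0 hm
        have hpow := H.pow_mem hj (2 ^ (m - 1))
        have ho : orderOf ((DihedralGroup.r j : DihedralGroup n) ^ 2 ^ (m - 1)) = 2 := by
          rw [orderOf_pow_of_dvd (by positivity) (hm ▸ pow_dvd_pow 2 (by omega)), hm, Nat.pow_div (by omega) two_pos,
            show m - (m - 1) = 1 by omega, pow_one]
        rw [DihedralGroup.r_pow] at hpow ho
        set u := j * (((2 ^ (m - 1) : ℕ)) : ZMod n) with hu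
        have hu0 : u ≠ 0 := fun h0 => by
          rw [h0, ← DihedralGroup.one_def, orderOf_one] at ho
          omega
        have hu2 : u + u = 0 := by
          have := pow_orderOf_eq_one (DihedralGroup.r u : DihedralGroup n)
          rw [ho, pow_two, DihedralGroup.r_mul_r, DihedralGroup.one_def, DihedralGroup.r.injEq] at this
          exact this
        rw [ht', ← ((two u hu2).resolve_left hu0).2]
        exact hpow
    intro g hg
    have hcm := Subgroup.mem_centralizer_iff.mp hg _ hi
    rcases g with t | t
    · simp only [DihedralGroup.sr_mul_r, DihedralGroup.r_mul_sr, DihedralGroup.sr.injEq] at hcm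
      exact key t (by linear_combination hcm)
    · simp only [DihedralGroup.sr_mul_sr, DihedralGroup.r.injEq] at hcm
      have := H.mul_mem hi (key (t - i) (by linear_combination hcm))
      rwa [DihedralGroup.sr_mul_r, add_sub_cancel] at this

end Cfsg.Agent.S3920
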