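import Cfsg.Statements.S3922
import Cfsg.Agent.Lib.ThreeSizes63Abelian
import Cfsg.Agent.Lib.ThreeSizes63Mixed

set_option autoImplicit false
open Cfsg

namespace Cfsg.Agent.S3922

/-- A finite group whose conjugacy classes have exactly three distinct sizes (1 and two further values) is solvable. -/
theorem result {G : Type*} [Group G] [Finite G] (n₁ n₂ : ℕ) (h12 : n₂ < n₁) (h2 : 1 < n₂)
    (h : ∀ x : G, (Subgroup.centralizer ({x} : Set G)).index = 1 ∨ (Subgroup.centralizer ({x} : Set G)).index = n₂ ∨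
      (Subgroup.centralizer ({x} : Set G)).index = n₁)
    (h₁ : ∃ x : G, (Subgroup.centralizer ({x} : Set G)).index = n₁) (h₂ : ∃ x : G, (Subgroup.centralizer ({x} : Set G)).index = n₂) :
    Group.IsSolvable G := by
  have H : ThreeSizes63.Hyp G n₂ n₁ := ⟨h2, h12, h, h₂, h₁⟩
  by_cases hlt : ∃ x y : G, ClassSizeGraph76.cs x = n₁ ∧ ClassSizeGraph76.cs y = n₂ ∧
      TwoRegSizes38.Cn x ≤ TwoRegSizes38.Cn y
  · obtain ⟨x, y, hx, hy, hxy⟩ := hlt
    exact H.isSolvable_of_lt hx hy hxy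
  have hR := H.rigid fun x y hx hy hxy => hlt ⟨x, y, hx, hy, hxy⟩
  by_cases hpq : ∀ g : G, g ∉ Subgroup.center G → ∀ p : ℕ,
      ∃ s : ℕ, s.Prime ∧ s ≠ p ∧ s ∣ ThreeSizes63.rho g
  · exact H.isSolvable_of_two_primes hR hpq
  push Not at hpq
  obtain ⟨g0, hg0, p, hp⟩ := hpq
  exact H.isSolvable_of_one_prime hR hg0 fun r hr hrd => by_contra fun hne => hp r hr hne hrd

end Cfsg.Agent.S3922
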