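import Cfsg.Statements.S3933
import Mathlib
import Cfsg.Agent.Lib.CharInducedBurnside

set_option autoImplicit false
open Cfsg

namespace Cfsg.Agent.S3933

theorem not_coprime_normalizers {G : Type*} [Group G] [Finite G] (hS : IsSimpleGroup G) (r w : ℕ)
    [Fact r.Prime] [Fact w.Prime] (hr : r ∣ Nat.card G) (hw : Nat.card (Sylow w G) ≠ 1)
    (hcop : (Nat.card (Sylow r G)).Coprime (Nat.card (Sylow w G)))
    (hrw : ¬ r ∣ Nat.card (Sylow w G)) : False := by
  classical
  let W : Sylow w G := default
  set M := Subgroup.normalizer ((W : Subgroup G) : Set G) with hMdef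
  have hM : M.index = Nat.card (Sylow w G) := (Sylow.card_eq_index_normalizer W).symm
  let R₀ : Sylow r M := default
  let R : Sylow r G := default
  have h0 : M.index.factorization r = 0 := Nat.factorization_eq_zero_of_not_dvd (by rw [hM]; exact hrw)
  have hcard : Nat.card (R₀.map M.subtype : Subgroup G) = Nat.card (R : Subgroup G) := by
    rw [Subgroup.card_map_of_injective M.subtype_injective, R₀.card_eq_multiplicity,
      R.card_eq_multiplicity, ← M.card_mul_index, Nat.factorization_mul Nat.card_pos.ne'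
        Subgroup.index_ne_zero_of_finite, Finsupp.add_apply,
      h0, add_zero]
  let R' : Sylow r G := Sylow.ofCard (R₀.map M.subtype) (by rw [hcard, R.card_eq_multiplicity])
  have hR'M : (R' : Subgroup G) ≤ M := by
    rw [Sylow.coe_ofCard]
    exact Subgroup.map_subtype_le _
  set N := Subgroup.normalizer ((R' : Subgroup G) : Set G) with hNdef
  have hN : N.index = Nat.card (Sylow r G) := (Sylow.card_eq_index_normalizer R').symm
  have hrel : N.relIndex M = N.index := by
    have h1 := Subgroup.relIndex_mul_index (inf_le_left : M ⊓ N ≤ M)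
    have h2 := Subgroup.relIndex_mul_index (inf_le_right : M ⊓ N ≤ N)
    rw [Subgroup.inf_relIndex_left] at h1
    rw [Subgroup.inf_relIndex_right] at h2
    have hd : N.index ∣ N.relIndex M * M.index := by
      rw [h1, ← h2]; exact dvd_mul_left _ _
    have hd' : N.index ∣ N.relIndex M :=
      (show N.index.Coprime M.index by rw [hN, hM]; exact hcop).dvd_of_dvd_mul_right hd
    refine le_antisymm ?_ (Nat.le_of_dvd (Nat.pos_of_ne_zero Subgroup.index_ne_zero_of_finite) hd')
    rw [Subgroup.relIndex, Subgroup.index, Subgroup.index]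
    refine Nat.card_le_card_of_injective (fun q : M ⧸ N.subgroupOf M =>
      Quotient.liftOn' q (fun m : M => ((m : G) : G ⧸ N)) (fun a b hab => ?_)) ?_
    · exact QuotientGroup.eq.2 (by simpa [QuotientGroup.leftRel_apply, Subgroup.mem_subgroupOf] using hab)
    · intro a b hab
      induction a using Quotient.inductionOn' with
      | _ a =>
        induction b using Quotient.inductionOn' with
        | _ b =>
          have h3 : ((a : G) : G ⧸ N) = ((b : G) : G ⧸ N) := hab
          rw [QuotientGroup.eq] at h3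
          exact QuotientGroup.eq.2 (Subgroup.mem_subgroupOf.2 (by simpa using h3))
  have hmul : ∀ g : G, ∃ m ∈ M, ∃ n ∈ N, g = m * n := by
    intro g
    have hbij : Function.Bijective (fun q : M ⧸ N.subgroupOf M =>
        Quotient.liftOn' q (fun m : M => ((m : G) : G ⧸ N)) (fun a b hab =>
          QuotientGroup.eq.2 (by simpa [QuotientGroup.leftRel_apply, Subgroup.mem_subgroupOf] using hab))) := by
      refine (Nat.bijective_iff_injective_and_card _).2 ⟨?_, hrel⟩
      intro a b hab
      induction a using Quotient.inductionOn' with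
      | _ a =>
        induction b using Quotient.inductionOn' with
        | _ b =>
          have h3 : ((a : G) : G ⧸ N) = ((b : G) : G ⧸ N) := hab
          rw [QuotientGroup.eq] at h3
          exact QuotientGroup.eq.2 (Subgroup.mem_subgroupOf.2 (by simpa using h3))
    obtain ⟨q, hq⟩ := hbij.2 (g : G ⧸ N)
    induction q using Quotient.inductionOn' with
    | _ m =>
      have h3 : ((m : G) : G ⧸ N) = (g : G ⧸ N) := hq
      rw [QuotientGroup.eq] at h3
      exact ⟨m, m.2, _, h3, by simp⟩
  have hclos : Subgroup.normalClosure ((R' : Subgroup G) : Set G) ≤ M := by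
    rw [Subgroup.normalClosure, Subgroup.closure_le]
    intro x hx
    rw [Group.mem_conjugatesOfSet_iff] at hx
    obtain ⟨a, ha, hax⟩ := hx
    obtain ⟨c, rfl⟩ := isConj_iff.1 hax
    obtain ⟨m, hm, n, hn, rfl⟩ := hmul c
    rw [show m * n * a * (m * n)⁻¹ = m * (n * a * n⁻¹) * m⁻¹ by group]
    exact M.mul_mem (M.mul_mem hm (hR'M ((Subgroup.mem_normalizer_iff.1 hn a).1 ha))) (M.inv_mem hm)
  rcases hS.eq_bot_or_eq_top_of_normal (Subgroup.normalClosure ((R' : Subgroup G) : Set G))
    inferInstance with h | h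
  · refine (R'.ne_bot_of_dvd_card hr) ?_
    rw [eq_bot_iff, ← h]
    exact Subgroup.le_normalClosure
  · rw [h, top_le_iff] at hclos
    rw [hclos, Subgroup.index_top] at hM
    exact hw hM.symm

theorem card_sylow_quotient_dvd {G : Type*} [Group G] [Finite G] (K : Subgroup G) [K.Normal] (r : ℕ)
    [Fact r.Prime] : Nat.card (Sylow r (G ⧸ K)) ∣ Nat.card (Sylow r G) := by
  let P : Sylow r G := default
  have hsur := QuotientGroup.mk'_surjective K
  rw [Sylow.card_eq_index_normalizer P, Sylow.card_eq_index_normalizer (P.mapSurjective hsur)]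
  refine dvd_trans (Subgroup.index_dvd_of_le ?_) (Subgroup.index_map_dvd _ hsur)
  exact Subgroup.le_normalizer_map _

theorem card_sylow_normal_dvd {G : Type*} [Group G] [Finite G] (K : Subgroup G) [K.Normal] (r : ℕ)
    [Fact r.Prime] : Nat.card (Sylow r K) ∣ Nat.card (Sylow r G) := by
  let Q : Sylow r K := default
  obtain ⟨P, hP⟩ := (Q.2.map K.subtype).exists_le_sylow
  have hQP : (P : Subgroup G) ⊓ K = (Q : Subgroup K).map K.subtype := by
    refine le_antisymm ?_ (le_inf hP (Subgroup.map_subtype_le _))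
    have h1 : IsPGroup r ((P : Subgroup G).subgroupOf K) :=
      P.2.comap_of_injective K.subtype K.subtype_injective
    have h2 : (Q : Subgroup K) ≤ (P : Subgroup G).subgroupOf K := fun x hx =>
      hP (Subgroup.mem_map_of_mem _ hx)
    rw [← Q.is_maximal' h1 h2, Subgroup.subgroupOf_map_subtype]
  set L := Subgroup.normalizer (((Q : Subgroup K).map K.subtype : Subgroup G) : Set G) with hL
  have hPL : Subgroup.normalizer ((P : Subgroup G) : Set G) ≤ L := by
    intro g hg
    rw [hL, ← hQP, Subgroup.mem_normalizer_iff]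
    intro x
    refine and_congr (Subgroup.mem_normalizer_iff.1 hg x) ?_
    exact ⟨fun hx => Subgroup.Normal.conj_mem inferInstance x hx g, fun hx => by
      have := Subgroup.Normal.conj_mem (inferInstance : K.Normal) _ hx g⁻¹
      simpa [mul_assoc] using this⟩
  have hidx : Nat.card (Sylow r K) = L.relIndex K := by
    rw [Sylow.card_eq_index_normalizer Q, Subgroup.relIndex]
    congr 1
    rw [show Subgroup.normalizer (Q : Set K) = Subgroup.normalizer ((Q : Subgroup K) : Set K) from rfl]
    ext x
    rw [Subgroup.mem_subgroupOf, hL, Subgroup.mem_normalizer_iff, Subgroup.mem_normalizer_iff]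
    constructor
    · intro hx y
      by_cases hy : y ∈ K
      · have h1 := hx ⟨y, hy⟩
        constructor
        · rintro ⟨z, hz, hzy⟩
          have hzy' : z = ⟨y, hy⟩ := Subtype.ext hzy
          exact ⟨_, h1.1 (hzy' ▸ hz), rfl⟩
        · rintro ⟨z, hz, hzy⟩
          have hzy' : z = x * ⟨y, hy⟩ * x⁻¹ := Subtype.ext hzy
          exact ⟨_, h1.2 (hzy' ▸ hz), rfl⟩
      · constructor
        · intro hy'
          exact absurd (Subgroup.map_subtype_le _ hy') hy
        · intro hy'
          refine absurd ?_ hy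
          have := K.mul_mem (K.mul_mem (K.inv_mem x.2) (Subgroup.map_subtype_le _ hy')) x.2
          simpa [mul_assoc] using this
    · intro hx y
      constructor
      · intro hy
        obtain ⟨z, hz, hzy⟩ := (hx y).1 ⟨y, hy, rfl⟩
        have hzy' : z = x * y * x⁻¹ := Subtype.ext hzy
        exact hzy' ▸ hz
      · intro hy
        obtain ⟨z, hz, hzy⟩ := (hx y).2 ⟨_, hy, rfl⟩
        exact (Subtype.ext hzy : z = y) ▸ hz
  have htop : L ⊔ K = ⊤ := Sylow.normalizer_sup_eq_top Q
  have h3 : L.relIndex K = L.index := by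
    have h1 := Subgroup.relIndex_mul_index (inf_le_left : K ⊓ L ≤ K)
    have h2 := Subgroup.relIndex_mul_index (inf_le_right : K ⊓ L ≤ L)
    rw [Subgroup.inf_relIndex_left] at h1
    rw [Subgroup.inf_relIndex_right] at h2
    have h4 : K.relIndex L = K.index := by
      rw [← Subgroup.relIndex_sup_right (H := L) (K := K), htop, Subgroup.relIndex_top_right]
    rw [h4, ← h1, mul_comm K.index] at h2
    exact (Nat.eq_of_mul_eq_mul_right (Nat.pos_of_ne_zero Subgroup.index_ne_zero_of_finite) h2).symm
  rw [hidx, h3, Sylow.card_eq_index_normalizer P]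
  exact Subgroup.index_dvd_of_le hPL

universe v

theorem solvable_aux : ∀ (n : ℕ) (G : Type v) [Group G] [Finite G], Nat.card G = n →
    (∀ (r : ℕ) [Fact r.Prime], Nat.card (Sylow r G) = 1 ∨ IsPrimePow (Nat.card (Sylow r G))) →
    Group.IsSolvable G := by
  intro n
  induction n using Nat.strong_induction_on with
  | _ n ih =>
  intro G _ _ hn h
  classical
  have hdvd : ∀ {a b : ℕ}, a ∣ b → (b = 1 ∨ IsPrimePow b) → a = 1 ∨ IsPrimePow a := by
    intro a b hab hb
    by_cases ha : a = 1
    · exact Or.inl ha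
    rcases hb with hb | hb
    · exact Or.inl (Nat.dvd_one.1 (hb ▸ hab))
    · exact Or.inr (hb.dvd hab ha)
  by_cases hnt : Nontrivial G
  swap
  · rw [not_nontrivial_iff_subsingleton] at hnt
    exact Group.isSolvable_of_comm fun a b => Subsingleton.elim _ _
  by_cases hS : IsSimpleGroup G
  swap
  · obtain ⟨K, hK, hK1, hK2⟩ : ∃ K : Subgroup G, K.Normal ∧ K ≠ ⊥ ∧ K ≠ ⊤ := by
      by_contra hc
      push_neg at hc
      exact hS (IsSimpleGroup.mk fun H hH => or_iff_not_imp_left.2 (hc H hH))
    haveI := hK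
    have hmul := K.card_mul_index
    have hlt1 : Nat.card K < n := by
      rw [← hn]
      exact lt_of_le_of_ne (Subgroup.card_le_card_group K) fun e => hK2 (Subgroup.eq_top_of_card_eq K e)
    have hlt2 : Nat.card (G ⧸ K) < n := by
      rw [← hn, ← K.index_eq_card, ← hmul]
      exact lt_mul_of_one_lt_left (Nat.pos_of_ne_zero Subgroup.index_ne_zero_of_finite)
        ((Subgroup.one_lt_card_iff_ne_bot K).2 hK1)
    haveI := ih _ hlt1 K rfl fun r _ => hdvd (card_sylow_normal_dvd K r) (h r)
    haveI := ih _ hlt2 (G ⧸ K) rfl fun r _ => hdvd (card_sylow_quotient_dvd K r) (h r)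
    exact Group.isSolvable_of_ker_le_range K.subtype (QuotientGroup.mk' K)
      (by rw [QuotientGroup.ker_mk', Subgroup.range_subtype])
  by_contra hns
  have hbig : ∀ r : ℕ, r.Prime → ∀ k : ℕ, Nat.card G ≠ r ^ k := fun r hr k e =>
    hns (Cfsg.Agent.CharInduced.solvable_of_card_two_primes r r k 0 hr hr (by simpa using e))
  -- no Sylow subgroup is normal
  have hs : ∀ (r : ℕ), r.Prime → r ∣ Nat.card G → ∃ s k : ℕ, s.Prime ∧ 0 < k ∧ s ≠ r ∧
      s ∣ Nat.card G ∧ ∀ [Fact r.Prime], Nat.card (Sylow r G) = s ^ k := by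
    intro r hr hrd
    haveI := Fact.mk hr
    let P : Sylow r G := default
    have hne : Nat.card (Sylow r G) ≠ 1 := by
      intro e
      rw [Sylow.card_eq_index_normalizer P, Subgroup.index_eq_one] at e
      have e' : (P : Subgroup G).Normal := Subgroup.normalizer_eq_top_iff.1 e
      rcases hS.eq_bot_or_eq_top_of_normal _ e' with h1 | h1
      · exact P.ne_bot_of_dvd_card hrd h1
      · obtain ⟨k, hk⟩ := IsPGroup.iff_card.1 P.2
        rw [h1, Subgroup.card_top] at hk
        exact hbig r hr k hk
    obtain ⟨s, k, hsp, hk, hsk⟩ := (h r).resolve_left hne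
    refine ⟨s, k, hsp.nat_prime, hk, ?_, ?_, fun {_} => hsk.symm⟩
    · rintro rfl
      refine not_dvd_card_sylow s G ?_
      rw [← hsk]
      exact dvd_pow_self s hk.ne'
    · have h1 : s ∣ Nat.card (Sylow r G) := hsk ▸ dvd_pow_self s hk.ne'
      rw [Sylow.card_eq_index_normalizer P] at h1
      exact h1.trans (Subgroup.index_dvd_card _)
  have key : ∀ r w s k t l : ℕ, r.Prime → w.Prime → r ∣ Nat.card G → s.Prime → t.Prime → 0 < l →
      (∀ [Fact r.Prime], Nat.card (Sylow r G) = s ^ k) → (∀ [Fact w.Prime], Nat.card (Sylow w G) = t ^ l) →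
      s = t ∨ t = r := by
    intro r w s k t l hr hw hrd hs' ht hl h1 h2
    by_contra hc
    push_neg at hc
    haveI := Fact.mk hr
    haveI := Fact.mk hw
    refine not_coprime_normalizers hS r w hrd (by rw [h2]; exact (Nat.one_lt_pow hl.ne' ht.one_lt).ne')
      (by rw [h1, h2]; exact ((Nat.coprime_primes hs' ht).2 hc.1).pow k l) ?_
    rw [h2]
    exact fun hd => hc.2 ((Nat.prime_dvd_prime_iff_eq hr ht).1 (hr.dvd_of_dvd_pow hd)).symm
  obtain ⟨p, hp, hpd⟩ := Nat.exists_prime_and_dvd (n := Nat.card G) (Finite.one_lt_card).ne'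
  obtain ⟨q, k, hq, hk, hqp, hqd, hnp⟩ := hs p hp hpd
  obtain ⟨r, hr, hrd, hrp, hrq⟩ : ∃ r : ℕ, r.Prime ∧ r ∣ Nat.card G ∧ r ≠ p ∧ r ≠ q := by
    by_contra! hc
    refine hns (Cfsg.Agent.CharInduced.solvable_of_card_two_primes p q
      ((Nat.card G).factorization p) ((Nat.card G).factorization q) hp hq ?_)
    refine Nat.eq_of_factorization_eq Nat.card_pos.ne'
      (mul_ne_zero (pow_ne_zero _ hp.ne_zero) (pow_ne_zero _ hq.ne_zero)) fun x => ?_
    rw [Nat.factorization_mul (pow_ne_zero _ hp.ne_zero) (pow_ne_zero _ hq.ne_zero), hp.factorization_pow,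
      hq.factorization_pow, Finsupp.add_apply, Finsupp.single_apply, Finsupp.single_apply]
    by_cases hxp : x = p
    · subst hxp; simp [hqp]
    · by_cases hxq : x = q
      · subst hxq; simp [Ne.symm hxp]
      · rw [if_neg (Ne.symm hxp), if_neg (Ne.symm hxq), add_zero, Nat.factorization_eq_zero_iff]
        by_cases hx : x.Prime
        · exact Or.inr (Or.inl fun hd => hxq (hc x hx hd hxp))
        · exact Or.inl hx
  obtain ⟨a, ka, ha, hka, har, -, hnr⟩ := hs r hr hrd
  obtain ⟨b, kb, hb, hkb, hbq, -, hnq⟩ := hs q hq hqd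
  have h1 : a = q := (key r p a ka q k hr hp hrd ha hq hk hnr hnp).resolve_right (Ne.symm hrq)
  subst h1
  have h2 : b = r := (key r a a ka b kb hr hq hrd hq hb hkb hnr hnq).resolve_left (Ne.symm hbq)
  rcases key p a a k b kb hp hq hpd hq hb hkb hnp hnq with h3 | h3
  · exact hbq h3.symm
  · exact hrp (h2 ▸ h3)


/-- If for every prime r the number of Sylow r-subgroups of the finite group G is a prime power or 1, then G is solvable. -/
theorem result {G : Type*} [Group G] [Finite G] (h : ∀ (r : ℕ) [Fact r.Prime], Nat.card (Sylow r G) = 1 ∨ IsPrimePow (Nat.card (Sylow r G))) :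
    Group.IsSolvable G := by
  exact solvable_aux _ G rfl h

end Cfsg.Agent.S3933
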