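import Cfsg.Statements.S3937
import Mathlib
import Cfsg.Agent.Lib.SubnormalJoin
import Cfsg.Agent.Lib.ComponentsFitting

set_option autoImplicit false
open Cfsg

namespace Cfsg.Agent.S3937


open scoped commutatorElement

universe u

/-- In a finite nilpotent group every subgroup is subnormal. -/
theorem isSubnormal_of_nilpotent {G : Type u} [Group G] [Finite G] [Group.IsNilpotent G] (H : Subgroup G) :
    H.IsSubnormal := by
  induction H using WellFoundedGT.induction with
  | _ H ih =>
    rcases eq_or_ne H ⊤ with rfl | hne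
    · exact Subgroup.IsSubnormal.top
    have hlt := Group.normalizerCondition_of_isNilpotent (G := G) H (lt_top_iff_ne_top.2 hne)
    exact Subgroup.IsSubnormal.step H _ Subgroup.le_normalizer (ih _ hlt) Subgroup.normal_in_normalizer

/-- A left Engel element generates a subnormal subgroup. -/
theorem isSubnormal_zpowers {G : Type u} [Group G] [Finite G] (g : G)
    (h : ∀ x : G, ∃ n : ℕ, (List.replicate n g).foldl (fun a b => a * b * a⁻¹ * b⁻¹) x = 1) :
    (Subgroup.zpowers g).IsSubnormal := by
  generalize hN : Nat.card G = N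
  induction N using Nat.strong_induction_on generalizing G with
  | _ N ih =>
    subst hN
    by_contra hA
    have hsub : ∀ X : Subgroup G, Subgroup.zpowers g ≤ X → X ≠ ⊤ →
        ((Subgroup.zpowers g).subgroupOf X).IsSubnormal := by
      intro X hX hXt
      have hlt : Nat.card X < Nat.card G :=
        lt_of_le_of_ne (Subgroup.card_le_card_group X) fun e => hXt (Subgroup.eq_top_of_card_eq X e)
      have hgX : g ∈ X := hX (Subgroup.mem_zpowers g)
      have h1 := ih _ hlt ⟨g, hgX⟩ (fun x => by
        obtain ⟨n, hn⟩ := h x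
        refine ⟨n, Subtype.ext ?_⟩
        rw [OneMemClass.coe_one, ← hn]
        generalize hxv : (x : G) = v
        clear hn
        induction n generalizing x v with
        | zero => exact hxv
        | succ n ihn =>
          rw [List.replicate_succ, List.replicate_succ, List.foldl_cons, List.foldl_cons]
          exact ihn _ _ (by subst hxv; rfl)) rfl
      convert h1 using 1
      ext y
      rw [Subgroup.mem_subgroupOf, Subgroup.mem_zpowers_iff, Subgroup.mem_zpowers_iff]
      exact exists_congr fun k => ⟨fun hk => Subtype.ext hk, fun hk => congrArg Subtype.val hk⟩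
    obtain ⟨M, hM, hgM, huniq⟩ := SubnormalJoin.zipper (Subgroup.zpowers g) hsub hA
    obtain ⟨x, hx⟩ : ∃ x : G, x ∉ M := not_forall.1 fun hall => hM.1 ((Subgroup.eq_top_iff' M).2 hall)
    obtain ⟨n, hn⟩ := h x
    obtain ⟨y, hy, hyM⟩ : ∃ y : G, y ∉ M ∧ y * g * y⁻¹ * g⁻¹ ∈ M := by
      induction n generalizing x with
      | zero =>
        rw [List.replicate_zero, List.foldl_nil] at hn
        exact absurd (hn ▸ M.one_mem) hx
      | succ n ihn =>
        rw [List.replicate_succ, List.foldl_cons] at hn
        by_cases h1 : x * g * x⁻¹ * g⁻¹ ∈ M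
        · exact ⟨x, hx, h1⟩
        · exact ihn _ h1 hn
    have hgM' : g ∈ M := hgM (Subgroup.mem_zpowers g)
    have hyg : y * g * y⁻¹ ∈ M := by simpa using mul_mem hyM hgM'
    set M' := M.comap (MulAut.conj y).toMonoidHom with hM'def
    have hM't : M' ≠ ⊤ := fun e => by
      refine hM.1 ((Subgroup.eq_top_iff' M).2 fun a => ?_)
      have : y⁻¹ * a * y ∈ M' := e ▸ Subgroup.mem_top _
      rw [hM'def, Subgroup.mem_comap] at this
      simpa [MulAut.conj_apply, mul_assoc] using this
    have hle : M' ≤ M := huniq M' (Subgroup.zpowers_le.2 hyg) hM't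
    have hcard : Nat.card M' = Nat.card M :=
      Nat.card_congr ((MulAut.conj y).toEquiv.subtypeEquiv fun a => Iff.rfl)
    have heq : M' = M := Subgroup.eq_of_le_of_card_ge hle hcard.ge
    have hyN : y ∈ Subgroup.normalizer (M : Set G) := by
      rw [Subgroup.mem_normalizer_iff]
      intro a
      have hiff : a ∈ M' ↔ y * a * y⁻¹ ∈ M := Iff.rfl
      rwa [heq] at hiff
    have hMn : M.Normal := by
      refine Subgroup.normalizer_eq_top_iff.1 ((hM.le_iff.1 Subgroup.le_normalizer).resolve_right fun e => hy ?_)
      exact e ▸ hyN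
    exact hA (Subgroup.IsSubnormal.trans hgM (hsub M hgM hM.1) hMn.isSubnormal)

/-- Baer's characterization of the Fitting subgroup: in a finite group G, an element g lies in the Fitting subgroup if and only if g is a left Engel element, that is, for every x there is n with [x, g, g, …, g] = 1 (n entries g, [a, b] = aba⁻¹b⁻¹). -/
theorem result {G : Type*} [Group G] [Finite G] (g : G) :
    g ∈ Cfsg.fittingSubgroup G ↔ ∀ x : G, ∃ n : ℕ, (List.replicate n g).foldl (fun a b => a * b * a⁻¹ * b⁻¹) x = 1 := by
  constructor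
  · intro hg x
    haveI hF : (Cfsg.fittingSubgroup G).Normal := inferInstance
    set F := Cfsg.fittingSubgroup G
    obtain ⟨c, hc⟩ := Subgroup.nilpotent_iff_lowerCentralSeries.1 (inferInstance : Group.IsNilpotent F)
    have hbound : ∀ k, ∃ w ∈ (⊤ : Subgroup F).lowerCentralSeries k,
        (List.replicate (k + 1) g).foldl (fun a b => a * b * a⁻¹ * b⁻¹) x = (w : G) := by
      intro k
      induction k with
      | zero =>
        refine ⟨⟨x * g * x⁻¹ * g⁻¹, mul_mem (hF.conj_mem g hg x) (inv_mem hg)⟩, ?_, rfl⟩
        rw [Subgroup.lowerCentralSeries_zero]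
        exact Subgroup.mem_top _
      | succ k ih =>
        obtain ⟨w, hw, hwe⟩ := ih
        refine ⟨⁅w, (⟨g, hg⟩ : F)⁆, ?_, ?_⟩
        · rw [Subgroup.lowerCentralSeries_succ]
          exact Subgroup.commutator_mem_commutator hw (Subgroup.mem_top _)
        · rw [List.replicate_succ', List.foldl_append, hwe]
          rfl
    obtain ⟨w, hw, hwe⟩ := hbound c
    rw [hc, Subgroup.mem_bot] at hw
    exact ⟨c + 1, by rw [hwe, hw]; rfl⟩
  · intro h
    refine ComponentsFitting.subnormal_nilpotent_le_fitting (isSubnormal_zpowers g h) ?_ (Subgroup.mem_zpowers g)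
    refine ⟨1, top_unique fun a _ => ?_⟩
    rw [Subgroup.upperCentralSeries_one, Subgroup.mem_center_iff]
    intro b
    obtain ⟨i, hi⟩ := Subgroup.mem_zpowers_iff.1 a.2
    obtain ⟨j, hj⟩ := Subgroup.mem_zpowers_iff.1 b.2
    apply Subtype.ext
    show (b : G) * (a : G) = (a : G) * b
    rw [← hi, ← hj]
    exact ((Commute.refl g).zpow_zpow j i).eq

end Cfsg.Agent.S3937
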