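import Cfsg.Statements.S3939
import Mathlib
import Cfsg.Agent.Lib.FrobeniusCount72
import Cfsg.Agent.Lib.HallNilpotentConj
import Cfsg.Agent.Lib.PGroupsBasic

set_option autoImplicit false
open Cfsg

namespace Cfsg.Agent.S3939


open scoped Pointwise commutatorElement

variable {G : Type*} [Group G]

/-- The upper central series restricts to subgroups. -/
theorem upperCentralSeries_subgroupOf_le (H : Subgroup G) (n : ℕ) :
    (Subgroup.upperCentralSeries G n).subgroupOf H ≤ Subgroup.upperCentralSeries H n := by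
  induction n with
  | zero => intro x hx; rw [Subgroup.upperCentralSeries_zero, Subgroup.mem_bot]; exact Subtype.ext hx
  | succ n ih =>
    intro x hx
    rw [Subgroup.mem_upperCentralSeries_succ_iff]
    exact fun y => ih (Subgroup.mem_upperCentralSeries_succ_iff.1 hx (y : G))

/-- The union of the upper central series is one of its terms. -/
theorem exists_stationary [Finite G] :
    ∃ n, (⨆ k, Subgroup.upperCentralSeries G k) = Subgroup.upperCentralSeries G n ∧
      Subgroup.upperCentralSeries G (n + 1) = Subgroup.upperCentralSeries G n := by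
  obtain ⟨Z, ⟨n, rfl⟩, hZ⟩ := Set.exists_max_image (Set.range (Subgroup.upperCentralSeries G))
    (fun Z => Nat.card Z) (Set.toFinite _) ⟨_, 0, rfl⟩
  have hle : ∀ k, n ≤ k → Subgroup.upperCentralSeries G k = Subgroup.upperCentralSeries G n := fun k hk =>
    (Subgroup.eq_of_le_of_card_ge (Subgroup.upperCentralSeries_mono G hk) (hZ _ ⟨k, rfl⟩)).symm
  refine ⟨n, le_antisymm (iSup_le fun k => ?_) (le_iSup _ n), hle _ n.le_succ⟩
  exact (Subgroup.upperCentralSeries_mono G (le_max_left k n)).trans (hle _ (le_max_right k n)).le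

/-- A `p`-prime-to element of a quotient is the image of a `p`-prime-to element. -/
theorem exists_lift_pprime [Finite G] (p : ℕ) [Fact p.Prime] (N : Subgroup G) [N.Normal] (y : G ⧸ N)
    (hy : ¬ p ∣ orderOf y) : ∃ x : G, ¬ p ∣ orderOf x ∧ (x : G ⧸ N) = y := by
  obtain ⟨x, rfl⟩ := QuotientGroup.mk_surjective y
  have hpp : p.Prime := Fact.out
  refine ⟨x ^ FrobeniusCount72.primeToExp G p, fun hd => ?_, ?_⟩
  · exact hpp.coprime_iff_not_dvd.1 (Nat.coprime_ordCompl hpp Nat.card_pos.ne')
      (hd.trans (orderOf_dvd_of_pow_eq_one (FrobeniusCount72.primeTo_pow p x)))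
  · rw [QuotientGroup.mk_pow]
    have hord : orderOf (x : G ⧸ N) ∣ Nat.card G :=
      (orderOf_dvd_natCard _).trans (Subgroup.card_quotient_dvd_card N)
    have hdvd : orderOf (x : G ⧸ N) ∣ ordCompl[p] (Nat.card G) := by
      refine ((hpp.coprime_iff_not_dvd.2 hy).symm.pow_right ((Nat.card G).factorization p)).dvd_of_dvd_mul_left ?_
      rwa [Nat.ordProj_mul_ordCompl_eq_self]
    exact (pow_eq_pow_iff_modEq.2 ((FrobeniusCount72.primeToExp_spec (G := G) p).2.of_dvd hdvd)).trans (pow_one _)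

/-- A normal `p`-subgroup centralised by all `p'`-elements lies in the hypercentre. -/
theorem le_hypercenter [Finite G] (p : ℕ) [Fact p.Prime] (N : Subgroup G) [N.Normal] (hN : IsPGroup p N)
    (hc : ∀ y : G, ¬ p ∣ orderOf y → ∀ a ∈ N, a * y = y * a) :
    N ≤ ⨆ k, Subgroup.upperCentralSeries G k := by
  obtain ⟨n, hn, hn1⟩ := exists_stationary (G := G)
  rw [hn]
  by_contra hle
  set Z := Subgroup.upperCentralSeries G n
  set N' := N.map (QuotientGroup.mk' Z) with hN'
  haveI : N'.Normal := Subgroup.Normal.map inferInstance _ (QuotientGroup.mk'_surjective Z)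
  have hN'ne : N' ≠ ⊥ := by
    rw [ne_eq, hN', Subgroup.map_eq_bot_iff, QuotientGroup.ker_mk']
    exact hle
  obtain ⟨P, hP⟩ : ∃ P : Sylow p (G ⧸ Z), N' ≤ (P : Subgroup (G ⧸ Z)) :=
    (hN.map (QuotientGroup.mk' Z)).exists_le_sylow
  have hne : N'.subgroupOf (P : Subgroup (G ⧸ Z)) ≠ ⊥ := fun h => hN'ne (by
    rw [← Subgroup.map_subgroupOf_eq_of_le hP, h, Subgroup.map_bot])
  obtain ⟨⟨w, hwN, hwc⟩, hw1⟩ :=
    Subgroup.ne_bot_iff_exists_ne_one.1 (PGroupsBasic.inf_center_ne_bot P.isPGroup' hne)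
  have hw' : (w : G ⧸ Z) ≠ 1 := fun e => hw1 (Subtype.ext (Subtype.ext e))
  -- `w` is central
  have hcen : (w : G ⧸ Z) ∈ Subgroup.center (G ⧸ Z) := by
    have hC : Subgroup.centralizer ({(w : G ⧸ Z)} : Set (G ⧸ Z)) = ⊤ := by
      rw [← Subgroup.index_eq_one]
      by_contra hne1
      obtain ⟨q, hq, hqd⟩ := Nat.exists_prime_and_dvd hne1
      haveI := Fact.mk hq
      rcases eq_or_ne q p with rfl | hqp
      · refine P.not_dvd_index (hqd.trans (Subgroup.index_dvd_of_le fun u hu => ?_))
        exact Subgroup.mem_centralizer_singleton_iff.2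
          (congrArg Subtype.val (Subgroup.mem_center_iff.1 hwc ⟨u, hu⟩))
      · obtain ⟨Q⟩ := (inferInstance : Nonempty (Sylow q (G ⧸ Z)))
        refine Q.not_dvd_index (hqd.trans (Subgroup.index_dvd_of_le fun u hu => ?_))
        have hu' : ¬ p ∣ orderOf u := by
          obtain ⟨k, hk⟩ := IsPGroup.iff_orderOf.1 Q.isPGroup' ⟨u, hu⟩
          rw [Subgroup.orderOf_mk] at hk
          rw [hk]
          exact fun h => hqp ((Nat.prime_dvd_prime_iff_eq Fact.out hq).1 ((Fact.out : p.Prime).dvd_of_dvd_pow h)).symm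
        obtain ⟨y, hy, rfl⟩ := exists_lift_pprime p Z u hu'
        obtain ⟨a, ha, hwa⟩ := hwN
        rw [Subgroup.mem_centralizer_singleton_iff]
        show (y : G ⧸ Z) * (w : G ⧸ Z) = (w : G ⧸ Z) * y
        rw [← show (a : G ⧸ Z) = w from hwa, ← QuotientGroup.mk_mul, ← QuotientGroup.mk_mul, hc y hy a ha]
    rw [Subgroup.mem_center_iff]
    intro u
    exact Subgroup.mem_centralizer_singleton_iff.1 (hC ▸ Subgroup.mem_top u)
  apply hw'
  obtain ⟨a, ha⟩ := QuotientGroup.mk_surjective (w : G ⧸ Z)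
  rw [← ha] at hcen ⊢
  rw [QuotientGroup.eq_one_iff]
  show a ∈ Z
  rw [← hn1, Subgroup.mem_upperCentralSeries_succ_iff]
  intro y
  rw [← QuotientGroup.eq_one_iff]
  show (QuotientGroup.mk' Z) ⁅a, y⁆ = 1
  rw [map_commutatorElement, commutatorElement_eq_one_iff_commute]
  exact (Subgroup.mem_center_iff.1 hcen _).symm

/-- The `p`-part of an element generating nilpotent subgroups with everything is hypercentral. -/
theorem pPart_mem [Finite G] (p : ℕ) [Fact p.Prime] (g : G)
    (h : ∀ x : G, Group.IsNilpotent ↥(Subgroup.closure ({x, g} : Set G))) :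
    g ^ FrobeniusCount72.primeExp G p ∈ ⨆ k, Subgroup.upperCentralSeries G k := by
  have hpp : p.Prime := Fact.out
  set u := g ^ FrobeniusCount72.primeExp G p with hu
  obtain ⟨j, -, hj⟩ := (Nat.dvd_prime_pow hpp).1 (orderOf_dvd_of_pow_eq_one (FrobeniusCount72.prime_pow p g))
  have hcomm : ∀ y : G, ¬ p ∣ orderOf y → u * y = y * u := by
    intro y hy
    haveI := h y
    have hyH : y ∈ Subgroup.closure ({y, g} : Set G) := Subgroup.subset_closure (Set.mem_insert _ _)
    have huH : u ∈ Subgroup.closure ({y, g} : Set G) :=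
      Subgroup.pow_mem _ (Subgroup.subset_closure (Set.mem_insert_of_mem y (Set.mem_singleton g))) _
    refine congrArg Subtype.val ((HallNilpotentConj.commute_of_coprime_orderOf _ ⟨u, huH⟩ ⟨y, hyH⟩ ?_).eq)
    rw [Subgroup.orderOf_mk, Subgroup.orderOf_mk, hj]
    exact (hpp.coprime_iff_not_dvd.2 hy).pow_left j
  have hconj : ∀ a y : G, ¬ p ∣ orderOf y → ¬ p ∣ orderOf (a * y * a⁻¹) := fun a y hy =>
    ((MulEquiv.orderOf_eq (MulAut.conj a) y).symm ▸ hy :)
  -- all conjugates of `u` lie in one Sylow subgroup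
  obtain ⟨P, hP⟩ := (IsPGroup.of_card (n := j) (by rw [Nat.card_zpowers, hj]) :
    IsPGroup p (Subgroup.zpowers u)).exists_le_sylow
  set S : Set G := {y | ¬ p ∣ orderOf y}
  set K := Subgroup.normalClosure S
  have hK : K ≤ Subgroup.centralizer ({u} : Set G) := by
    refine (Subgroup.closure_le _).2 fun y hy => ?_
    obtain ⟨b, hb, hby⟩ := Group.mem_conjugatesOfSet_iff.1 hy
    obtain ⟨a, ha⟩ := isConj_iff.1 hby
    subst ha
    exact Subgroup.mem_centralizer_singleton_iff.2 (hcomm _ (hconj a b hb)).symm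
  have htop : (P : Subgroup G) ⊔ K = ⊤ := by
    rw [← Subgroup.index_eq_one]
    by_contra hne1
    obtain ⟨q, hq, hqd⟩ := Nat.exists_prime_and_dvd hne1
    haveI := Fact.mk hq
    rcases eq_or_ne q p with rfl | hqp
    · exact P.not_dvd_index (hqd.trans (Subgroup.index_dvd_of_le le_sup_left))
    · obtain ⟨Q⟩ := (inferInstance : Nonempty (Sylow q G))
      refine Q.not_dvd_index (hqd.trans (Subgroup.index_dvd_of_le fun y hy => Subgroup.mem_sup_right
        (Subgroup.subset_normalClosure (show ¬ p ∣ orderOf y from ?_))))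
      obtain ⟨k, hk⟩ := IsPGroup.iff_orderOf.1 Q.isPGroup' ⟨y, hy⟩
      rw [Subgroup.orderOf_mk] at hk
      rw [hk]
      exact fun hd => hqp ((Nat.prime_dvd_prime_iff_eq hpp hq).1 (hpp.dvd_of_dvd_pow hd)).symm
  set N := Subgroup.normalClosure ({u} : Set G)
  have hNP : N ≤ (P : Subgroup G) := by
    refine (Subgroup.closure_le _).2 fun w hw => ?_
    obtain ⟨b, hb, hbw⟩ := Group.mem_conjugatesOfSet_iff.1 hw
    obtain ⟨a, ha⟩ := isConj_iff.1 hbw
    subst ha
    rw [Set.mem_singleton_iff] at hb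
    subst hb
    obtain ⟨v, hv, k, hk, rfl⟩ : a ∈ ((P : Subgroup G) : Set G) * (K : Set G) := by
      rw [← Subgroup.mul_normal, htop]; exact Set.mem_univ _
    have h1 := Subgroup.mem_centralizer_singleton_iff.1 (hK hk)
    show v * k * u * (v * k)⁻¹ ∈ (P : Subgroup G)
    rw [show v * k * u * (v * k)⁻¹ = v * (k * u * k⁻¹) * v⁻¹ by group, h1, mul_inv_cancel_right]
    exact mul_mem (mul_mem hv (hP (Subgroup.mem_zpowers u))) (inv_mem hv)
  have hNc : ∀ y : G, ¬ p ∣ orderOf y → ∀ a ∈ N, a * y = y * a := by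
    intro y hy a ha
    have hle : N ≤ Subgroup.centralizer ({y} : Set G) := by
      refine (Subgroup.closure_le _).2 fun w hw => ?_
      obtain ⟨b, hb, hbw⟩ := Group.mem_conjugatesOfSet_iff.1 hw
      obtain ⟨c, hc⟩ := isConj_iff.1 hbw
      subst hc
      rw [Set.mem_singleton_iff] at hb
      subst hb
      have h2 := hcomm (c⁻¹ * y * c) (by simpa using hconj c⁻¹ y hy)
      exact Subgroup.mem_centralizer_singleton_iff.2 (by
        calc c * u * c⁻¹ * y = c * (u * (c⁻¹ * y * c)) * c⁻¹ := by group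
          _ = c * ((c⁻¹ * y * c) * u) * c⁻¹ := by rw [h2]
          _ = y * (c * u * c⁻¹) := by group)
    exact Subgroup.mem_centralizer_singleton_iff.1 (hle ha)
  exact le_hypercenter p N (P.isPGroup'.to_le hNP) hNc (Subgroup.subset_normalClosure rfl)

/-- In a finite group G the set of elements g such that the subgroup generated by g and x is nilpotent for every x ∈ G is exactly the hypercenter of G (the last term of the upper central series). -/
theorem result {G : Type*} [Group G] [Finite G] (g : G) :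
    (∀ x : G, Group.IsNilpotent ↥(Subgroup.closure ({x, g} : Set G))) ↔ g ∈ ⨆ n : ℕ, Subgroup.upperCentralSeries G n := by
  constructor
  · intro h
    obtain ⟨n, hn, -⟩ := exists_stationary (G := G)
    set Z := ⨆ k, Subgroup.upperCentralSeries G k with hZdef
    haveI : Z.Normal := by rw [hn]; infer_instance
    rw [← QuotientGroup.eq_one_iff, ← orderOf_eq_one_iff]
    by_contra hne
    obtain ⟨p, hp, hpd⟩ := Nat.exists_prime_and_dvd hne
    haveI := Fact.mk hp
    have h1 : (g : G ⧸ Z) = ((g ^ FrobeniusCount72.primeToExp G p : G) : G ⧸ Z) := by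
      conv_lhs => rw [← FrobeniusCount72.parts_mul p g]
      rw [QuotientGroup.mk_mul, (QuotientGroup.eq_one_iff (g ^ FrobeniusCount72.primeExp G p)).2
        (pPart_mem p g h), one_mul]
    rw [h1] at hpd
    exact hp.coprime_iff_not_dvd.1 (Nat.coprime_ordCompl hp Nat.card_pos.ne')
      (hpd.trans ((orderOf_map_dvd (QuotientGroup.mk' Z) _).trans
        (orderOf_dvd_of_pow_eq_one (FrobeniusCount72.primeTo_pow p g))))
  · intro hg x
    obtain ⟨n, hn, -⟩ := exists_stationary (G := G)
    rw [hn] at hg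
    set H := Subgroup.closure ({x, g} : Set G) with hH
    have hxH : x ∈ H := Subgroup.subset_closure (Set.mem_insert _ _)
    have hgH : g ∈ H := Subgroup.subset_closure (Set.mem_insert_of_mem _ rfl)
    set W := Subgroup.upperCentralSeries H n with hW
    have hgW : (⟨g, hgH⟩ : H) ∈ W := upperCentralSeries_subgroupOf_le H n hg
    have htop : Subgroup.zpowers (⟨x, hxH⟩ : H) ⊔ W = ⊤ := by
      refine top_unique (fun y _ => ?_)
      have hle : H ≤ (Subgroup.zpowers (⟨x, hxH⟩ : H) ⊔ W).map H.subtype := by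
        refine (Subgroup.closure_le _).2 ?_
        rintro z (rfl | rfl)
        · exact ⟨_, Subgroup.mem_sup_left (Subgroup.mem_zpowers _), rfl⟩
        · exact ⟨_, Subgroup.mem_sup_right hgW, rfl⟩
      obtain ⟨w, hw, hwy⟩ := hle y.2
      exact Subtype.ext hwy ▸ hw
    refine ⟨n + 1, top_unique fun a _ => ?_⟩
    rw [Subgroup.mem_upperCentralSeries_succ_iff]
    intro b
    rw [← QuotientGroup.eq_one_iff (N := W)]
    show (QuotientGroup.mk' W) ⁅a, b⁆ = 1
    rw [map_commutatorElement, commutatorElement_eq_one_iff_commute]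
    have key : ∀ c : H, ∃ i : ℤ, (QuotientGroup.mk' W) c = (QuotientGroup.mk' W) ⟨x, hxH⟩ ^ i := by
      intro c
      obtain ⟨u, hu, v, hv, rfl⟩ : c ∈ ((Subgroup.zpowers (⟨x, hxH⟩ : H)) : Set H) * (W : Set H) := by
        rw [← Subgroup.mul_normal, htop]; exact Set.mem_univ _
      obtain ⟨i, rfl⟩ := Subgroup.mem_zpowers_iff.1 hu
      refine ⟨i, ?_⟩
      rw [map_mul, map_zpow, show QuotientGroup.mk' W v = 1 from (QuotientGroup.eq_one_iff v).2 hv, mul_one]
    obtain ⟨i, hi⟩ := key a
    obtain ⟨j, hj⟩ := key b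
    rw [hi, hj]
    exact (Commute.refl _).zpow_zpow i j

end Cfsg.Agent.S3939
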