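import Cfsg.Statements.S3941
import Mathlib

set_option autoImplicit false
open Cfsg

namespace Cfsg.Agent.S3941

/-- Let n ≥ 5 and p an odd prime with p ≤ n, and suppose that every proper subgroup of the alternating group of degree n whose order is divisible by p has a normal Sylow p-subgroup. Then n = p. -/
theorem result (n p : ℕ) (hn : 5 ≤ n) [Fact p.Prime] (hp : p ≠ 2) (hpn : p ≤ n)
    (h : ∀ H : Subgroup ↥(alternatingGroup (Fin n)), H ≠ ⊤ → p ∣ Nat.card ↥H → Cfsg.IsPClosed p ↥H) : n = p := by
  by_contra hne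
  have hlt : p < n := lt_of_le_of_ne hpn (fun h => hne h.symm)
  have hpp : p.Prime := Fact.out
  have hp3 : 3 ≤ p := by
    have := hpp.two_le
    omega
  let x0 : Fin n := ⟨n - 1, by omega⟩
  let H : Subgroup (alternatingGroup (Fin n)) := MulAction.stabilizer (alternatingGroup (Fin n)) x0
  let pt : (k : ℕ) → k < 5 → Fin n := fun k hk => ⟨k, by omega⟩
  let s01 := Equiv.swap (pt 0 (by norm_num)) (pt 1 (by norm_num))
  let s12 := Equiv.swap (pt 1 (by norm_num)) (pt 2 (by norm_num))
  let s23 := Equiv.swap (pt 2 (by norm_num)) (pt 3 (by norm_num))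
  let s13 := Equiv.swap (pt 1 (by norm_num)) (pt 3 (by norm_num))
  have hx : ∀ k (hk : k < 5), k < n - 1 → pt k hk ≠ x0 := fun k hk h1 e => by
    have := congrArg Fin.val e
    simp only [pt, x0] at this
    omega
  have hne' : ∀ a b (ha : a < 5) (hb : b < 5), a ≠ b → pt a ha ≠ pt b hb := fun a b ha hb h e =>
    h (congrArg Fin.val e)
  have hfix : ∀ a b (ha : a < 5) (hb : b < 5), a < n - 1 → b < n - 1 →
      Equiv.swap (pt a ha) (pt b hb) x0 = x0 := fun a b ha hb h1 h2 =>
    Equiv.swap_apply_of_ne_of_ne (hx a ha h1).symm (hx b hb h2).symm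
  have hHne : H ≠ ⊤ := by
    intro e
    have h3 : Equiv.Perm.IsThreeCycle (Equiv.swap x0 (pt 0 (by norm_num)) * Equiv.swap x0 (pt 1 (by norm_num))) :=
      Equiv.Perm.isThreeCycle_swap_mul_swap_same (hx 0 (by norm_num) (by omega)).symm (hx 1 (by norm_num) (by omega)).symm
        (hne' 0 1 (by norm_num) (by norm_num) (by norm_num))
    have h4 : (⟨_, h3.mem_alternatingGroup⟩ : alternatingGroup (Fin n)) ∈ H := e ▸ Subgroup.mem_top _
    have h5 : (Equiv.swap x0 (pt 0 (by norm_num)) * Equiv.swap x0 (pt 1 (by norm_num))) x0 = x0 := h4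
    rw [Equiv.Perm.mul_apply, Equiv.swap_apply_left, Equiv.swap_apply_of_ne_of_ne (hx 1 (by norm_num) (by omega))
      (hne' 1 0 (by norm_num) (by norm_num) (by norm_num))] at h5
    exact hx 1 (by norm_num) (by omega) h5
  let c : Equiv.Perm (Fin n) := Fin.cycleRange (⟨p - 1, by omega⟩ : Fin n)
  haveI : NeZero n := ⟨by omega⟩
  have hct : c.cycleType = {p} := by
    rw [Fin.cycleType_cycleRange (by
      intro e; have := congrArg Fin.val e; simp at this; omega)]
    simp only [Multiset.singleton_inj]
    omega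
  have hcA : c ∈ alternatingGroup (Fin n) := by
    rw [Equiv.Perm.mem_alternatingGroup, Equiv.Perm.sign_of_cycleType, hct]
    simp only [Multiset.sum_singleton, Multiset.card_singleton]
    exact Even.neg_one_pow ((hpp.odd_of_ne_two hp).add_one)
  have hco : orderOf c = p := by rw [← Equiv.Perm.lcm_cycleType, hct, Multiset.lcm_singleton, normalize_eq]
  have hcx : c x0 = x0 := Fin.cycleRange_of_gt (by simp only [x0, Fin.lt_def]; omega)
  let cH : H := ⟨⟨c, hcA⟩, hcx⟩
  have hdvd : p ∣ Nat.card H := by
    have : orderOf cH = p := by rw [← Subgroup.orderOf_coe, ← Subgroup.orderOf_coe]; exact hco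
    exact this ▸ orderOf_dvd_natCard cH
  obtain ⟨P⟩ := (inferInstance : Nonempty (Sylow p H))
  haveI hPn : (P : Subgroup H).Normal := h H hHne hdvd P
  have hmemP : ∀ z : H, orderOf z = p → z ∈ (P : Subgroup H) := fun z hz => by
    obtain ⟨Q, hQ⟩ := (IsPGroup.of_card (n := 1) (by rw [Nat.card_zpowers, hz, pow_one]) :
      IsPGroup p (Subgroup.zpowers z)).exists_le_sylow
    rw [@Subsingleton.elim _ (Sylow.unique_of_normal P hPn).instSubsingleton P Q]
    exact hQ (Subgroup.mem_zpowers z)
  have hord : ∀ z ∈ (P : Subgroup H), ∃ k, orderOf ((z : alternatingGroup (Fin n)) : Equiv.Perm (Fin n)) = p ^ k :=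
    fun z hz => by
      obtain ⟨k, hk⟩ := IsPGroup.iff_orderOf.1 P.isPGroup' ⟨z, hz⟩
      exact ⟨k, by rw [Subgroup.orderOf_coe, Subgroup.orderOf_coe]; rwa [Subgroup.orderOf_mk] at hk⟩
  have ht : Equiv.Perm.IsThreeCycle (s01 * s12) := by
    have := Equiv.Perm.isThreeCycle_swap_mul_swap_same (hne' 1 0 (by norm_num) (by norm_num) (by norm_num))
      (hne' 1 2 (by norm_num) (by norm_num) (by norm_num)) (hne' 0 2 (by norm_num) (by norm_num) (by norm_num))
    simpa [s01, s12, Equiv.swap_comm] using this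
  have htx : (s01 * s12) x0 = x0 := by
    rw [Equiv.Perm.mul_apply, hfix 1 2 (by norm_num) (by norm_num) (by omega) (by omega), hfix 0 1 (by norm_num) (by norm_num) (by omega) (by omega)]
  let tH : H := ⟨⟨_, ht.mem_alternatingGroup⟩, htx⟩
  rcases eq_or_ne p 3 with rfl | hp5
  · have hu : Equiv.Perm.IsThreeCycle (s12 * s23) := by
      have := Equiv.Perm.isThreeCycle_swap_mul_swap_same (hne' 2 1 (by norm_num) (by norm_num) (by norm_num))
        (hne' 2 3 (by norm_num) (by norm_num) (by norm_num)) (hne' 1 3 (by norm_num) (by norm_num) (by norm_num))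
      simpa [s12, s23, Equiv.swap_comm] using this
    have hux : (s12 * s23) x0 = x0 := by
      rw [Equiv.Perm.mul_apply, hfix 2 3 (by norm_num) (by norm_num) (by omega) (by omega), hfix 1 2 (by norm_num) (by norm_num) (by omega) (by omega)]
    let uH : H := ⟨⟨_, hu.mem_alternatingGroup⟩, hux⟩
    have h1 : tH ∈ (P : Subgroup H) := hmemP _ (by
      rw [← Subgroup.orderOf_coe, ← Subgroup.orderOf_coe]; exact ht.orderOf)
    have h2 : uH ∈ (P : Subgroup H) := hmemP _ (by
      rw [← Subgroup.orderOf_coe, ← Subgroup.orderOf_coe]; exact hu.orderOf)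
    obtain ⟨k, hk⟩ := hord _ (mul_mem h1 h2)
    have hval : ((((tH * uH : H) : alternatingGroup (Fin n))) : Equiv.Perm (Fin n)) = s01 * s23 := by
      show s01 * s12 * (s12 * s23) = _
      rw [mul_assoc, ← mul_assoc s12, Equiv.swap_mul_self, one_mul]
    rw [hval] at hk
    have h2o : orderOf (s01 * s23) = 2 := by
      refine orderOf_eq_prime ?_ ?_
      · have hc : Commute s01 s23 := by
          refine Equiv.Perm.Disjoint.commute ?_
          intro y
          by_cases hy : y = pt 0 (by norm_num) ∨ y = pt 1 (by norm_num)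
          · right
            rcases hy with rfl | rfl
            · exact Equiv.swap_apply_of_ne_of_ne (hne' 0 2 (by norm_num) (by norm_num) (by norm_num))
                (hne' 0 3 (by norm_num) (by norm_num) (by norm_num))
            · exact Equiv.swap_apply_of_ne_of_ne (hne' 1 2 (by norm_num) (by norm_num) (by norm_num))
                (hne' 1 3 (by norm_num) (by norm_num) (by norm_num))
          · left
            push Not at hy
            exact Equiv.swap_apply_of_ne_of_ne hy.1 hy.2
        rw [hc.mul_pow, sq, sq, Equiv.swap_mul_self, Equiv.swap_mul_self, one_mul]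
      · intro e
        have := congrArg (fun f : Equiv.Perm (Fin n) => f (pt 0 (by norm_num))) e
        simp only [Equiv.Perm.mul_apply, Equiv.Perm.one_apply, s01, s23] at this
        rw [Equiv.swap_apply_of_ne_of_ne (hne' 0 2 (by norm_num) (by norm_num) (by norm_num)) (hne' 0 3 (by norm_num) (by norm_num) (by norm_num)),
          Equiv.swap_apply_left] at this
        exact hne' 1 0 (by norm_num) (by norm_num) (by norm_num) this
    rw [h2o] at hk
    have := Nat.Prime.dvd_of_dvd_pow Nat.prime_two (dvd_of_eq hk)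
    omega
  · have hp5' : 5 ≤ p := by
      by_contra hc
      push Not at hc
      have hp4 : p = 4 := by omega
      rw [hp4] at hpp
      norm_num at hpp
    have h1 : cH ∈ (P : Subgroup H) := hmemP _ (by
      rw [← Subgroup.orderOf_coe, ← Subgroup.orderOf_coe]; exact hco)
    have h2 : cH * (tH * cH⁻¹ * tH⁻¹) ∈ (P : Subgroup H) := mul_mem h1 (hPn.conj_mem _ (inv_mem h1) _)
    obtain ⟨k, hk⟩ := hord _ h2
    have hstep : ∀ a (ha : a + 1 < 5), c (pt a (by omega)) = pt (a + 1) ha := fun a ha =>
      Fin.ext (by rw [Fin.coe_cycleRange_of_lt (by simp only [pt, Fin.lt_def]; omega)])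
    have hval : ((((cH * (tH * cH⁻¹ * tH⁻¹) : H) : alternatingGroup (Fin n))) : Equiv.Perm (Fin n)) =
        s13 * s01 := by
      show c * (s01 * s12 * c⁻¹ * (s01 * s12)⁻¹) = _
      have e1 : c * (s01 * s12) * c⁻¹ = s12 * s23 := by
        rw [show c * (s01 * s12) * c⁻¹ = (c * s01 * c⁻¹) * (c * s12 * c⁻¹) by group,
          ← Equiv.swap_apply_apply, ← Equiv.swap_apply_apply, hstep 0 (by norm_num), hstep 1 (by norm_num),
          hstep 2 (by norm_num)]
      rw [show c * (s01 * s12 * c⁻¹ * (s01 * s12)⁻¹) = c * (s01 * s12) * c⁻¹ * (s01 * s12)⁻¹ by group, e1,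
        mul_inv_rev, Equiv.swap_inv, Equiv.swap_inv, ← mul_assoc]
      congr 1
      rw [show s12 * s23 * s12 = s12 * s23 * s12⁻¹ by rw [Equiv.swap_inv], ← Equiv.swap_apply_apply,
        Equiv.swap_apply_right, Equiv.swap_apply_of_ne_of_ne (hne' 3 1 (by norm_num) (by norm_num) (by norm_num))
        (hne' 3 2 (by norm_num) (by norm_num) (by norm_num))]
    rw [hval] at hk
    have h3o : orderOf (s13 * s01) = 3 := by
      refine Equiv.Perm.IsThreeCycle.orderOf ?_
      have := Equiv.Perm.isThreeCycle_swap_mul_swap_same (hne' 1 3 (by norm_num) (by norm_num) (by norm_num))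
        (hne' 1 0 (by norm_num) (by norm_num) (by norm_num)) (hne' 3 0 (by norm_num) (by norm_num) (by norm_num))
      simpa [s13, s01, Equiv.swap_comm] using this
    rw [h3o] at hk
    have := (Nat.prime_dvd_prime_iff_eq Nat.prime_three hpp).1 (Nat.prime_three.dvd_of_dvd_pow (dvd_of_eq hk))
    omega

end Cfsg.Agent.S3941
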