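import Cfsg.Statements.S3949
import Mathlib

set_option autoImplicit false
open Cfsg

namespace Cfsg.Agent.S3949

/-- Let G be a finite group and α an automorphism of G of order 2 such that the elements g·α(g)⁻¹ generate G. Let j be a positive integer such that 2^j divides the order of no element inverted by α. Then the set of values of the j-th iterate of the map c ↦ c·α(c)⁻¹ is exactly the set of elements of odd order inverted by α. -/
theorem result {G : Type*} [Group G] [Finite G] (α : MulAut G) (hα : orderOf α = 2) (hG : Subgroup.closure (Set.range (fun c : G => c * (α c)⁻¹)) = ⊤)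
    (j : ℕ) (hj : ∀ g : G, α g = g⁻¹ → ¬ 2 ^ j ∣ orderOf g) :
    Set.range ((fun c : G => c * (α c)⁻¹)^[j]) = {g : G | Odd (orderOf g) ∧ α g = g⁻¹} := by
  have hα2 : ∀ c : G, α (α c) = c := by
    intro c
    have h : (α ^ 2) c = c := by rw [← hα, pow_orderOf_eq_one]; rfl
    rwa [pow_two, MulAut.mul_apply] at h
  set f : G → G := fun c => c * (α c)⁻¹ with hf
  have hf1 : ∀ c, α (f c) = (f c)⁻¹ := by
    intro c; simp [hf, map_mul, map_inv, hα2]
  have hpow : ∀ (k : ℕ) (x : G), α x = x⁻¹ → f^[k] x = x ^ 2 ^ k := by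
    intro k
    induction k with
    | zero => intro x _; simp
    | succ k ih =>
      intro x hx
      rw [Function.iterate_succ_apply', ih x hx]
      simp only [hf, map_pow, hx, inv_pow, inv_inv]
      rw [← pow_add, pow_succ, mul_two]
  obtain ⟨k, rfl⟩ : ∃ k, j = k + 1 := by
    refine ⟨j - 1, ?_⟩
    rcases Nat.eq_zero_or_pos j with h0 | h0
    · exact absurd (by simp [h0]) (hj 1 (by simp))
    · omega
  ext y
  simp only [Set.mem_range, Set.mem_setOf_eq]
  constructor
  · rintro ⟨c, rfl⟩
    rw [Function.iterate_succ_apply, hpow k _ (hf1 c)]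
    refine ⟨?_, by rw [map_pow, hf1, inv_pow]⟩
    obtain ⟨a, r, hr, hm⟩ := Nat.exists_eq_two_pow_mul_odd (orderOf_pos (f c)).ne'
    have hak : a ≤ k := by
      by_contra hlt
      exact hj (f c) (hf1 c) (hm ▸ Dvd.dvd.mul_right (pow_dvd_pow 2 (by omega)) r)
    refine Odd.of_dvd_nat hr (orderOf_dvd_of_pow_eq_one ?_)
    rw [← pow_mul, ← orderOf_dvd_iff_pow_eq_one, hm]
    exact mul_dvd_mul_right (pow_dvd_pow 2 hak) r
  · rintro ⟨hodd, hy⟩
    have hc : Nat.Coprime (2 ^ (k + 1)) (orderOf y) :=
      Nat.Coprime.pow_left _ (Nat.coprime_two_left.2 hodd)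
    obtain ⟨m, hm⟩ := exists_pow_eq_self_of_coprime hc
    refine ⟨y ^ m, ?_⟩
    rw [hpow (k + 1) _ (by rw [map_pow, hy, inv_pow]), ← pow_mul, mul_comm, pow_mul]
    exact hm

end Cfsg.Agent.S3949
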