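import Cfsg.Statements.S3950
import Mathlib
import Cfsg.Agent.Lib.SchurMultiplierBasic
import Cfsg.Agent.Lib.SchurMultiplierExt
import Cfsg.Agent.S3979

set_option autoImplicit false
open Cfsg

namespace Cfsg.Agent.S3950

open scoped commutatorElement

/-- The cocycle `(x, y) ↦ α x * β y` with values in `ZMod k`. -/
def pairCocycle {A : Type*} [CommGroup A] (k : ℕ) (α β : A →* Multiplicative (ZMod k)) :
    SchurMultiplierExt.Cocycle A (Multiplicative (ZMod k)) :=
  SchurMultiplierExt.bilinear α β (fun u v => Multiplicative.ofAdd (u.toAdd * v.toAdd))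
    α.map_mul β.map_mul (fun a a' b => by rw [toAdd_mul, add_mul, ofAdd_add])
    (fun a b b' => by rw [toAdd_mul, mul_add, ofAdd_add])

/-- The Heisenberg extension is a stem extension when the pairing separates two elements. -/
theorem pair_stem {A : Type*} [CommGroup A] (k : ℕ) [NeZero k]
    (α β : A →* Multiplicative (ZMod k)) (x y : A) (hαx : α x = Multiplicative.ofAdd 1)
    (hβy : β y = Multiplicative.ofAdd 1) (hαy : α y = 1) :
    Cfsg.IsStemExtension (SchurMultiplierExt.proj (pairCocycle k α β)) := by
  refine SchurMultiplierExt.stem_proj _ fun z => ?_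
  have h := SchurMultiplierExt.commutator_lift (pairCocycle k α β) (mul_comm x y)
  have hval : (pairCocycle k α β).f x y * ((pairCocycle k α β).f y x)⁻¹ = Multiplicative.ofAdd 1 := by
    show Multiplicative.ofAdd ((α x).toAdd * (β y).toAdd) *
      (Multiplicative.ofAdd ((α y).toAdd * (β x).toAdd))⁻¹ = _
    simp [hαx, hβy, hαy]
  rw [hval] at h
  have hz : z = Multiplicative.ofAdd (1 : ZMod k) ^ z.toAdd.val := by
    apply Multiplicative.toAdd.injective
    simp [ZMod.natCast_zmod_val]
  rw [hz, map_pow, ← h]
  refine Subgroup.pow_mem _ ?_ _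
  rw [commutator_def]
  exact Subgroup.commutator_mem_commutator (Subgroup.mem_top _) (Subgroup.mem_top _)

/-- A finite abelian group has trivial Schur multiplier if and only if it is cyclic. -/
theorem result {G : Type*} [CommGroup G] [Finite G] : Cfsg.HasCyclicSchurMultiplier G 1 ↔ IsCyclic G := by
  refine ⟨fun h => ?_, fun h => @S3979.result G _ _ h⟩
  obtain ⟨ι, _, N, hN, ⟨e⟩⟩ := CommGroup.equiv_prod_multiplicative_zmod_of_finite G
  classical
  by_cases hpair : Pairwise (Function.onFun Nat.Coprime N)
  · haveI : ∀ i, NeZero (N i) := fun i => NeZero.of_gt (hN i)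
    rw [IsCyclic.iff_exponent_eq_card, Monoid.exponent_eq_of_mulEquiv e, Nat.card_congr e.toEquiv,
      Monoid.exponent_pi, Nat.card_pi]
    simp only [Monoid.exponent_multiplicative, ZMod.exponent, Nat.card_congr Multiplicative.toAdd,
      Nat.card_zmod]
    exact Finset.lcm_eq_prod (fun i _ j _ hij => hpair hij)
  · exfalso
    simp only [Pairwise, not_forall, Function.onFun] at hpair
    obtain ⟨i, j, hij, hc⟩ := hpair
    obtain ⟨p, hp, hpi, hpj⟩ := Nat.Prime.not_coprime_iff_dvd.1 hc
    haveI : NeZero p := ⟨hp.ne_zero⟩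
    let co : ∀ l, p ∣ N l → G →* Multiplicative (ZMod p) := fun l hl =>
      (((ZMod.castHom hl (ZMod p)).toAddMonoidHom.toMultiplicative).comp
        (Pi.evalMonoidHom (fun l => Multiplicative (ZMod (N l))) l)).comp e.toMonoidHom
    let el : ι → G := fun l => e.symm (Pi.mulSingle l (Multiplicative.ofAdd 1))
    have hself : ∀ l (hl : p ∣ N l), co l hl (el l) = Multiplicative.ofAdd 1 := by
      intro l hl; simp [co, el, map_one (ZMod.castHom hl (ZMod p)), ZMod.cast_one hl]
    have hoth : co i hpi (el j) = 1 := by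
      simp [co, el, Pi.mulSingle_eq_of_ne hij]
    have hst := pair_stem p (co i hpi) (co j hpj) (el i) (el j) (hself i hpi) (hself j hpj) hoth
    have hb := SchurMultiplierBasic.ker_eq_bot_of_hasCyclicSchurMultiplier_one h _ _ hst
    have hm : SchurMultiplierExt.incl (pairCocycle p (co i hpi) (co j hpj))
        (Multiplicative.ofAdd 1) ∈ (SchurMultiplierExt.proj (pairCocycle p (co i hpi) (co j hpj))).ker := rfl
    rw [hb, Subgroup.mem_bot] at hm
    have h1 := congrArg SchurMultiplierExt.Ext.z hm
    haveI : Fact p.Prime := ⟨hp⟩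
    exact one_ne_zero (α := ZMod p) (Multiplicative.ofAdd.injective h1)

end Cfsg.Agent.S3950
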