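import Cfsg.Statements.S3951
import Mathlib
import Cfsg.Agent.Lib.SchurMultiplierBasic
import Cfsg.Agent.Lib.SchurMultiplierExt
import Cfsg.Agent.S3950

set_option autoImplicit false
open Cfsg

namespace Cfsg.Agent.S3951

/-- For positive integers `m` and `n` with `n` dividing `m`, the Schur multiplier of the abelian group `ZMod m × ZMod n` (written multiplicatively) is cyclic of order `n`. In particular the elementary abelian group of order `p ^ 2` has multiplier of order `p`. -/
theorem result (m n : ℕ) [NeZero m] [NeZero n] (hnm : n ∣ m) : Cfsg.HasCyclicSchurMultiplier (Multiplicative (ZMod m × ZMod n)) n := by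
  let α : Multiplicative (ZMod m × ZMod n) →* Multiplicative (ZMod n) :=
    AddMonoidHom.toMultiplicative ((ZMod.castHom hnm (ZMod n)).toAddMonoidHom.comp (AddMonoidHom.fst _ _))
  let β : Multiplicative (ZMod m × ZMod n) →* Multiplicative (ZMod n) :=
    AddMonoidHom.toMultiplicative (AddMonoidHom.snd _ _)
  let xa : Multiplicative (ZMod m × ZMod n) := Multiplicative.ofAdd (1, 0)
  let xb : Multiplicative (ZMod m × ZMod n) := Multiplicative.ofAdd (0, 1)
  refine ⟨⟨SchurMultiplierExt.Ext (S3950.pairCocycle n α β), inferInstance, inferInstance,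
    SchurMultiplierExt.proj _, S3950.pair_stem n α β xa xb (by simp [α, xa, ZMod.cast_one hnm]) (by simp [β, xb])
      (by simp [α, xb]), ⟨SchurMultiplierExt.kerEquiv _⟩⟩, fun Γ _ _ σ hσ => ?_⟩
  obtain ⟨a, ha⟩ := hσ.1 xa
  obtain ⟨b, hb⟩ := hσ.1 xb
  have hgen : Subgroup.closure ({b, a} : Set Γ) = ⊤ := by
    refine SchurMultiplierBasic.stem_eq_top_of_map_eq_top hσ _ ?_
    rw [MonoidHom.map_closure, Set.image_pair, ha, hb, eq_top_iff]
    intro g _
    have hg : g = xb ^ g.toAdd.2.val * xa ^ g.toAdd.1.val := by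
      apply Multiplicative.toAdd.injective
      simp [xa, xb, Prod.ext_iff, ZMod.natCast_zmod_val]
    rw [hg]
    exact Subgroup.mul_mem _ (Subgroup.pow_mem _ (Subgroup.subset_closure (by simp)) _)
      (Subgroup.pow_mem _ (Subgroup.subset_closure (by simp)) _)
  set c := a * b * a⁻¹ * b⁻¹ with hc
  have hck : c ∈ σ.ker := by
    rw [MonoidHom.mem_ker, hc, map_mul, map_mul, map_mul, map_inv, map_inv, mul_comm (σ a) (σ b)]
    group
  have hcc := Subgroup.mem_center_iff.1 (hσ.2.1 hck)
  have hle : commutator Γ ≤ Subgroup.zpowers c := by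
    refine SchurMultiplierBasic.commutator_le_zpowers b a c hgen hc.symm ?_ ?_
    · rw [hcc b, mul_inv_cancel_right]; exact Subgroup.mem_zpowers c
    · rw [hcc a, mul_inv_cancel_right]; exact Subgroup.mem_zpowers c
  have hcn : c ^ n = 1 := by
    have hbn : b ^ n ∈ σ.ker := by
      rw [MonoidHom.mem_ker, map_pow, hb]
      apply Multiplicative.toAdd.injective
      simp [xb, Prod.ext_iff]
    have h1 : a * b ^ n * a⁻¹ = b ^ n := by
      rw [Subgroup.mem_center_iff.1 (hσ.2.1 hbn) a, mul_inv_cancel_right]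
    rw [← conj_pow, show a * b * a⁻¹ = c * b by rw [hc, inv_mul_cancel_right],
      Commute.mul_pow (hcc b).symm, mul_eq_right] at h1
    exact h1
  refine SchurMultiplierBasic.exists_surjective_zmod n (⟨c, hck⟩ : σ.ker) (Subtype.ext hcn) ?_
  rintro ⟨g, hg⟩
  obtain ⟨k, rfl⟩ := Subgroup.mem_zpowers_iff.1 (hle (hσ.2.2 hg))
  exact Subgroup.mem_zpowers_iff.2 ⟨k, Subtype.ext rfl⟩

end Cfsg.Agent.S3951
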