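import Cfsg.Statements.S3952
import Mathlib
import Cfsg.Agent.Lib.SchurMultiplierCover
import Cfsg.Agent.Lib.CharBasicOrth

set_option autoImplicit false
open Cfsg

namespace Cfsg.Agent.S3952


/-- A central element of order `p ^ a` lying in the derived group forces an irreducible
representation of degree divisible by `p ^ a`, so `p ^ (2 * a)` is at most the index of any central
subgroup containing it. -/
theorem order_sq_le_index {H : Type*} [Group H] [Finite H] (Z : Subgroup H)
    (hZ : Z ≤ Subgroup.center H) {z : H} (hzZ : z ∈ Z) (hz : z ∈ commutator H) {p a : ℕ}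
    (hp : p.Prime) (hord : orderOf z = p ^ (a + 1)) : (p ^ (a + 1)) ^ 2 ≤ Z.index := by
  classical
  haveI := Fintype.ofFinite H
  haveI := Fact.mk hp
  have hw : z ^ p ^ a ≠ 1 := by
    intro h
    have := Nat.le_of_dvd (pow_pos hp.pos _) (hord ▸ orderOf_dvd_of_pow_eq_one h)
    exact absurd this (Nat.not_le.2 (Nat.pow_lt_pow_succ hp.one_lt))
  obtain ⟨χ, hχ⟩ : ∃ χ : Cfsg.IrrCharacter H, χ.1 (z ^ p ^ a) ≠ χ.1 1 := by
    by_contra h
    push Not at h
    exact hw (isConj_one_left.1 ((CharBasicOrth.isConj_iff_forall_irr (z ^ p ^ a) 1).2 h))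
  obtain ⟨f, hf⟩ := χ
  obtain ⟨n, ρ, hρ, rfl⟩ := hf
  haveI := hρ
  simp only at hχ
  haveI := CharBasic.nontrivial_of_irreducible ρ
  have hscal : ∀ y ∈ Z, ∃ c : ℂ, ρ y = c • LinearMap.id := fun y hy =>
    CharBasic.exists_scalar_of_mem_center ρ (hZ hy)
  have hone : (1 : Module.End ℂ (Fin n → ℂ)) = LinearMap.id := rfl
  have hpowscal : ∀ (y : H) (c : ℂ) (k : ℕ), ρ y = c • LinearMap.id →
      ρ (y ^ k) = (c ^ k) • LinearMap.id := fun y c k h => by
    rw [map_pow, h, ← hone, smul_pow, one_pow]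
  have hcancel : ∀ c : ℂ, c • (LinearMap.id : (Fin n → ℂ) →ₗ[ℂ] (Fin n → ℂ)) = LinearMap.id → c = 1 := by
    intro c h
    obtain ⟨v, hv⟩ := exists_ne (0 : Fin n → ℂ)
    have h2 := LinearMap.congr_fun h v
    simp only [LinearMap.smul_apply, LinearMap.id_apply] at h2
    exact smul_left_injective ℂ hv (h2.trans (one_smul ℂ v).symm)
  have hchar : ∀ (y : H) (c : ℂ), ρ y = c • LinearMap.id → ρ.character y = c * n := fun y c h => by
    simp [Representation.character, h]
  obtain ⟨c, hc⟩ := hscal z hzZ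
  have hcord : orderOf c = p ^ (a + 1) := by
    refine orderOf_eq_prime_pow (fun h => hχ ?_) ?_
    · rw [hchar _ _ (hpowscal z c _ hc), h, hchar 1 1 (by rw [map_one, one_smul]; rfl)]
    · refine hcancel _ ?_
      rw [← hpowscal z c _ hc, ← hord, pow_orderOf_eq_one, map_one]
      rfl
  have hdet : c ^ n = 1 := by
    let D : H →* ℂˣ := ((LinearMap.det).comp ρ).toHomUnits
    have h1 : D z = 1 := Abelianization.commutator_subset_ker D hz
    have h2 : LinearMap.det (ρ z) = 1 := congrArg Units.val h1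
    rw [hc, LinearMap.det_smul, LinearMap.det_id, mul_one, Module.finrank_fintype_fun_eq_card,
      Fintype.card_fin] at h2
    exact h2
  have hdvd : p ^ (a + 1) ∣ n := hcord ▸ orderOf_dvd_of_pow_eq_one hdet
  have hn0 : 0 < n := by
    rcases Nat.eq_zero_or_pos n with rfl | h
    · exact absurd (inferInstance : Nontrivial (Fin 0 → ℂ)) (not_nontrivial _)
    · exact h
  have hself := congrArg Complex.re (CharBasicOrth.classInner_character_irreducible_self ρ)
  rw [CharBasicOrth.classInner_self_re, Complex.one_re, inv_mul_eq_one₀ (Nat.cast_ne_zero.2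
    Nat.card_pos.ne')] at hself
  have hle : ((Nat.card Z : ℝ)) * (n : ℝ) ^ 2 ≤ (Nat.card H : ℝ) := by
    rw [hself]
    have hnorm : ∀ y ∈ (Finset.univ.filter fun y => y ∈ Z), ‖ρ.character y‖ ^ 2 = (n : ℝ) ^ 2 := by
      intro y hy
      obtain ⟨b, hb⟩ := hscal y (Finset.mem_filter.1 hy).2
      have hb1 : b ^ orderOf y = 1 := hcancel _ (by
        rw [← hpowscal y b _ hb, pow_orderOf_eq_one, map_one]; rfl)
      rw [hchar y b hb, norm_mul, Complex.norm_eq_one_of_pow_eq_one hb1 (orderOf_pos y).ne',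
        one_mul, Complex.norm_natCast]
    calc (Nat.card Z : ℝ) * (n : ℝ) ^ 2
        = ∑ y ∈ (Finset.univ.filter fun y => y ∈ Z), ‖ρ.character y‖ ^ 2 := by
          rw [Finset.sum_congr rfl hnorm, Finset.sum_const, nsmul_eq_mul]
          congr 1
          rw [Nat.card_eq_fintype_card, Fintype.card_subtype]
      _ ≤ ∑ y, ‖ρ.character y‖ ^ 2 :=
          Finset.sum_le_univ_sum_of_nonneg fun y => by positivity
  have hle' : Nat.card Z * n ^ 2 ≤ Nat.card Z * Z.index := by
    rw [Subgroup.card_mul_index]; exact_mod_cast hle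
  exact (Nat.pow_le_pow_left (Nat.le_of_dvd hn0 hdvd) 2).trans
    (Nat.le_of_mul_le_mul_left hle' Nat.card_pos)

/-- If `A` is the Schur multiplier of the finite group `Q`, then the square of the exponent of `A` divides the order of `Q`. -/
theorem result {Q : Type*} [Group Q] [Finite Q] {A : Type*} [CommGroup A] (hA : Cfsg.HasSchurMultiplier Q A) : Monoid.exponent A ^ 2 ∣ Nat.card Q := by
  obtain ⟨⟨Γ, _, _, σ, hσ, ⟨eA⟩⟩, -⟩ := hA
  haveI : Finite A := Finite.of_equiv σ.ker eA.toEquiv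
  obtain ⟨a, ha⟩ := Monoid.exists_orderOf_eq_exponent (G := A) (Monoid.ExponentExists.of_finite)
  rw [← ha]
  have hord : orderOf a = orderOf ((eA.symm a : σ.ker) : Γ) := by
    rw [Subgroup.orderOf_coe, MulEquiv.orderOf_eq]
  rw [hord]
  set z0 : Γ := ((eA.symm a : σ.ker) : Γ) with hz0
  have hz0k : z0 ∈ σ.ker := (eA.symm a).2
  rw [Nat.dvd_iff_prime_pow_dvd_dvd]
  intro p k hp hpk
  haveI := Fact.mk hp
  obtain ⟨a', r, hr, hN⟩ := Nat.exists_eq_pow_mul_and_not_dvd (orderOf_pos z0).ne' p hp.one_lt.ne'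
  rw [hN, mul_pow, ← pow_mul] at hpk
  have hk : k ≤ a' * 2 := (Nat.pow_dvd_pow_iff_le_right hp.one_lt).1
    ((Nat.Coprime.pow k 2 (hp.coprime_iff_not_dvd.2 hr)).dvd_of_dvd_mul_right hpk)
  refine (pow_dvd_pow p hk).trans ?_
  rcases Nat.eq_zero_or_pos a' with rfl | hpos
  · simp
  obtain ⟨b, rfl⟩ := Nat.exists_eq_add_of_le hpos
  obtain ⟨P⟩ : Nonempty (Sylow p Q) := inferInstance
  set z := z0 ^ r with hz
  have hzk : z ∈ σ.ker := Subgroup.pow_mem _ hz0k r
  have hzord : orderOf z = p ^ (b + 1) := by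
    rw [hz, orderOf_pow' z0 (fun h => hr (by rw [h]; exact dvd_zero p)), hN, Nat.gcd_mul_left_left,
      Nat.mul_div_cancel _ (Nat.pos_of_ne_zero fun h => hr (by rw [h]; exact dvd_zero p)), add_comm]
  set H := (P : Subgroup Q).comap σ with hH
  have hzH : z ∈ H := by
    show σ z ∈ (P : Subgroup Q)
    rw [MonoidHom.mem_ker.1 hzk]; exact one_mem _
  have hidx : H.index = (P : Subgroup Q).index := Subgroup.index_comap_of_surjective _ hσ.1
  have hcomm : (⟨z, hzH⟩ : H) ∈ commutator H := by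
    have key : ∀ (k : ℕ) (g₀ : Γ), g₀⁻¹ * z ^ k * g₀ ∈ H → g₀⁻¹ * z ^ k * g₀ = z ^ k := by
      intro k g₀ _
      rw [mul_assoc, ← Subgroup.mem_center_iff.1 (hσ.2.1 (Subgroup.pow_mem _ hzk k)) g₀,
        inv_mul_cancel_left]
    have h1 := MonoidHom.transfer_eq_pow (Abelianization.of (G := H)) z key
    rw [show MonoidHom.transfer (Abelianization.of (G := H)) z = 1 from
      Abelianization.commutator_subset_ker _ (hσ.2.2 hzk)] at h1
    rw [← Abelianization.ker_of, MonoidHom.mem_ker]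
    have h2 : (Abelianization.of (⟨z, hzH⟩ : H)) ^ H.index = 1 := by
      rw [← map_pow]
      exact h1.symm
    have h3 : (Abelianization.of (⟨z, hzH⟩ : H)) ^ (p ^ (b + 1)) = 1 := by
      rw [← map_pow]
      refine (congrArg Abelianization.of ?_).trans (map_one _)
      exact Subtype.ext (hzord ▸ pow_orderOf_eq_one z)
    have hco : Nat.gcd (p ^ (b + 1)) H.index = 1 := by
      rw [hidx]; exact Nat.Coprime.pow_left _ (hp.coprime_iff_not_dvd.2 P.not_dvd_index)
    have := pow_gcd_eq_one.2 ⟨h3, h2⟩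
    rwa [hco, pow_one] at this
  have hZ : σ.ker.subgroupOf H ≤ Subgroup.center H := fun x hx => Subgroup.mem_center_iff.2 fun g =>
    Subtype.ext (Subgroup.mem_center_iff.1 (hσ.2.1 hx) g)
  have hzord' : orderOf (⟨z, hzH⟩ : H) = p ^ (b + 1) := by rw [Subgroup.orderOf_mk]; exact hzord
  have hle := order_sq_le_index _ hZ (z := ⟨z, hzH⟩) hzk hcomm hp hzord'
  have hindex : (σ.ker.subgroupOf H).index = Nat.card (P : Subgroup Q) := by
    rw [← Subgroup.relIndex, ← MonoidHom.comap_bot, Subgroup.relIndex_comap, Subgroup.relIndex_bot_left,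
      Subgroup.map_comap_eq_self_of_surjective hσ.1]
  rw [hindex, Sylow.card_eq_multiplicity, ← pow_mul] at hle
  exact (pow_dvd_pow p (by rw [add_comm 1 b]; exact (Nat.pow_le_pow_iff_right hp.one_lt).1 hle)).trans
    (Nat.ordProj_dvd _ p)

end Cfsg.Agent.S3952
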