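import Cfsg.Statements.S3953
import Mathlib
import Cfsg.Agent.Lib.SchurMultiplierCover
import Cfsg.Agent.Lib.SchurMultiplierTransfer

set_option autoImplicit false
open Cfsg

namespace Cfsg.Agent.S3953

/-- Let `P` be a Sylow `p`-subgroup of the finite group `G`, let `A` be the Schur multiplier of `G` and `B` that of `P`. Then the `p`-primary component of `A` is isomorphic to a direct factor of `B`: there are subgroups `C` and `D` of `B` meeting trivially and generating `B`, with `C` isomorphic to the `p`-primary component of `A`. -/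
theorem result {G : Type*} [Group G] [Finite G] (p : ℕ) [Fact p.Prime] (P : Sylow p G) {A B : Type*} [CommGroup A] [CommGroup B] (hA : Cfsg.HasSchurMultiplier G A) (hB : Cfsg.HasSchurMultiplier P B) : ∃ C D : Subgroup B, C ⊓ D = ⊥ ∧ C ⊔ D = ⊤ ∧ Nonempty (CommGroup.primaryComponent A p ≃* C) := by
  classical
  obtain ⟨eA⟩ := SchurMultiplierCover.hasSchurMultiplier_equiv hA
  obtain ⟨eB⟩ := SchurMultiplierCover.hasSchurMultiplier_equiv hB
  haveI : Finite A := Finite.of_equiv _ eA.symm.toEquiv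
  obtain ⟨θ, r, hr⟩ := SchurMultiplierTransfer.exists_transfer (P : Subgroup G)
  let a : A →* B := eB.symm.toMonoidHom.comp (θ.comp eA.toMonoidHom)
  let b : B →* A := eA.symm.toMonoidHom.comp (r.comp eB.toMonoidHom)
  set m := (P : Subgroup G).index
  have hab : ∀ x, b (a x) = x ^ m := fun x => by simp [a, b, hr]
  -- an idempotent exponent onto the primary component
  obtain ⟨α, k, hpk, hN⟩ := Nat.exists_eq_pow_mul_and_not_dvd
    (Nat.card_pos (α := A)).ne' p (Fact.out : p.Prime).one_lt.ne'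
  have hco : Nat.Coprime (p ^ α) k :=
    Nat.Coprime.pow_left _ ((Fact.out : p.Prime).coprime_iff_not_dvd.2 hpk)
  set e : ℤ := (k : ℤ) * Nat.gcdB (p ^ α) k with he
  have hAp : ∀ x, x ∈ CommGroup.primaryComponent A p ↔ x ^ (p ^ α) = 1 := by
    intro x
    constructor
    · rintro ⟨i, hi⟩
      obtain ⟨i', -, hi'⟩ := (Nat.dvd_prime_pow Fact.out).1 (orderOf_dvd_of_pow_eq_one hi)
      rw [← orderOf_dvd_iff_pow_eq_one, hi']
      have hd : p ^ i' ∣ p ^ α * k := by
        rw [← hN, ← hi']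
        exact orderOf_dvd_natCard x
      exact (Nat.Coprime.pow_left _ ((Fact.out : p.Prime).coprime_iff_not_dvd.2 hpk)).dvd_of_dvd_mul_right hd
    · intro hx
      exact ⟨α, hx⟩
  have hproj : ∀ x : A, x ^ e ∈ CommGroup.primaryComponent A p := by
    intro x
    rw [hAp, ← zpow_natCast, ← zpow_mul, he, show (k : ℤ) * Nat.gcdB (p ^ α) k * ((p ^ α : ℕ) : ℤ) =
      ((p ^ α * k : ℕ) : ℤ) * Nat.gcdB (p ^ α) k by push_cast; ring, zpow_mul, zpow_natCast, ← hN,
      pow_card_eq_one', one_zpow]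
  have hfix : ∀ x ∈ CommGroup.primaryComponent A p, x ^ e = x := by
    intro x hx
    have hb := Nat.gcd_eq_gcd_ab (p ^ α) k
    rw [hco, Nat.cast_one] at hb
    conv_rhs => rw [← zpow_one x, hb, zpow_add, zpow_mul x ((p ^ α : ℕ) : ℤ), zpow_natCast,
      (hAp x).1 hx, one_zpow, one_mul, ← he]
  have hm : Nat.Coprime (p ^ α) m :=
    Nat.Coprime.pow_left _ ((Fact.out : p.Prime).coprime_iff_not_dvd.2 P.not_dvd_index)
  let Ap := CommGroup.primaryComponent A p
  have hpow : ∀ x ∈ Ap, x ^ m = 1 → x = 1 := fun x hx h => by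
    have := pow_gcd_eq_one.2 ⟨(hAp x).1 hx, h⟩
    rwa [hm, pow_one] at this
  have hsurj : ∀ y ∈ Ap, ∃ x ∈ Ap, x ^ m = y := fun y hy => by
    have hc : m.Coprime (orderOf y) :=
      (hm.coprime_dvd_left (orderOf_dvd_of_pow_eq_one ((hAp y).1 hy))).symm
    obtain ⟨i, hi⟩ := exists_pow_eq_self_of_coprime hc
    exact ⟨y ^ i, Subgroup.pow_mem _ hy i, by rwa [← pow_mul, mul_comm, pow_mul]⟩
  let rp : B →* A := (zpowGroupHom e).comp b
  have hrp : ∀ z, rp z ∈ Ap := fun z => hproj _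
  have hrpa : ∀ x ∈ Ap, rp (a x) = x ^ m := fun x hx => by
    show (b (a x)) ^ e = x ^ m
    rw [hab, hfix _ (Subgroup.pow_mem _ hx m)]
  refine ⟨Ap.map a, rp.ker, ?_, ?_, ⟨MulEquiv.ofBijective ((a.comp Ap.subtype).codRestrict _
    fun x => Subgroup.mem_map_of_mem a x.2) ⟨?_, ?_⟩⟩⟩
  · rw [eq_bot_iff]
    rintro _ ⟨⟨x, hx, rfl⟩, hk⟩
    rw [Subgroup.mem_bot, hpow x hx ((hrpa x hx).symm.trans hk), map_one]
  · rw [eq_top_iff]
    intro z _
    obtain ⟨x, hx, hxz⟩ := hsurj (rp z) (hrp z)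
    have : z = a x * ((a x)⁻¹ * z) := by group
    rw [this]
    refine Subgroup.mul_mem_sup (Subgroup.mem_map_of_mem a hx) ?_
    rw [MonoidHom.mem_ker, map_mul, map_inv, hrpa x hx, hxz, inv_mul_cancel]
  · refine (injective_iff_map_eq_one _).2 fun x hx => ?_
    have h1 : a x = 1 := congrArg Subtype.val hx
    exact Subtype.ext (hpow x x.2 (by rw [← hrpa x x.2, h1, map_one]))
  · rintro ⟨_, x, hx, rfl⟩
    exact ⟨⟨x, hx⟩, rfl⟩

end Cfsg.Agent.S3953
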