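import Cfsg.Statements.S3954
import Mathlib
import Cfsg.Agent.Lib.SchurMultiplierCover
import Cfsg.Agent.Lib.SchurMultiplierTransfer

set_option autoImplicit false
open Cfsg

namespace Cfsg.Agent.S3954


/-- A quotient of a subgroup of a finite abelian group is isomorphic to a subgroup. -/
theorem exists_subgroup_equiv {B K : Type*} [CommGroup B] [Finite B] [CommGroup K]
    (S : Subgroup B) (f : S →* K) (hf : Function.Surjective f) :
    ∃ C : Subgroup B, Nonempty (K ≃* C) := by
  haveI : Finite K := Finite.of_surjective f hf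
  haveI : Finite S := inferInstance
  obtain ⟨eS⟩ := CommGroup.monoidHom_mulEquiv_of_hasEnoughRootsOfUnity S ℂ
  obtain ⟨eK⟩ := CommGroup.monoidHom_mulEquiv_of_hasEnoughRootsOfUnity K ℂ
  let pre : (K →* ℂˣ) →* (S →* ℂˣ) := MonoidHom.mk' (fun χ => χ.comp f) fun a b => rfl
  let j : K →* B := ((S.subtype.comp eS.toMonoidHom).comp pre).comp eK.symm.toMonoidHom
  have hj : Function.Injective j := by
    refine ((Subtype.val_injective.comp eS.injective).comp ?_).comp eK.symm.injective
    intro a b h
    exact MonoidHom.ext fun k => by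
      obtain ⟨s, rfl⟩ := hf k
      exact DFunLike.congr_fun h s
  exact ⟨j.range, ⟨MonoidHom.ofInjective hj⟩⟩

/-- Let `U` be a subgroup of index `m` in the finite group `G`, let `A` be the Schur multiplier of `G` and `B` that of `U`. Then the subgroup of `m`-th powers of `A` is isomorphic to a subgroup of `B`. -/
theorem result {G : Type*} [Group G] [Finite G] (U : Subgroup G) {A B : Type*} [CommGroup A] [CommGroup B] (hA : Cfsg.HasSchurMultiplier G A) (hB : Cfsg.HasSchurMultiplier U B) : ∃ C : Subgroup B, Nonempty ((powMonoidHom U.index : A →* A).range ≃* C) := by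
  obtain ⟨eA⟩ := SchurMultiplierCover.hasSchurMultiplier_equiv hA
  obtain ⟨eB⟩ := SchurMultiplierCover.hasSchurMultiplier_equiv hB
  haveI : Finite B := Finite.of_equiv _ eB.symm.toEquiv
  obtain ⟨θ, r, hr⟩ := SchurMultiplierTransfer.exists_transfer U
  let a : A →* B := eB.symm.toMonoidHom.comp (θ.comp eA.toMonoidHom)
  let b : B →* A := eA.symm.toMonoidHom.comp (r.comp eB.toMonoidHom)
  have hab : ∀ x, b (a x) = x ^ U.index := fun x => by simp [a, b, hr]
  let f : a.range →* (powMonoidHom U.index : A →* A).range :=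
    (b.comp a.range.subtype).codRestrict _ fun y => by
      obtain ⟨y, x, rfl⟩ := y
      exact ⟨x, (hab x).symm⟩
  refine exists_subgroup_equiv a.range f fun y => ?_
  obtain ⟨y, x, rfl⟩ := y
  exact ⟨⟨a x, x, rfl⟩, Subtype.ext (hab x)⟩

end Cfsg.Agent.S3954
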