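import Cfsg.Statements.S3958
import Mathlib
import Cfsg.Agent.Lib.SchurMultiplierCover

set_option autoImplicit false
universe u v
open Cfsg

namespace Cfsg.Agent.S3958

/-- Let `σ : Γ →* Q` be a finite stem extension of the finite group `Q` with `Γ` of trivial Schur multiplier. Then `σ` is a Schur covering group of `Q`: for every finite stem extension `τ : Δ →* Q` with `Δ` in the same universe as `Q`, the kernel of `τ` is a homomorphic image of the kernel of `σ`. -/
theorem result {Q : Type u} [Group Q] [Finite Q] {Γ : Type v} [Group Γ] [Finite Γ] (σ : Γ →* Q) (hσ : Cfsg.IsStemExtension σ) (hΓ : Cfsg.HasCyclicSchurMultiplier Γ 1) (Δ : Type u) [Group Δ] [Finite Δ] (τ : Δ →* Q) (hτ : Cfsg.IsStemExtension τ) : ∃ π : σ.ker →* τ.ker, Function.Surjective π := by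
  have hbot := SchurMultiplierCover.hasCyclicSchurMultiplier_one_iff.1 hΓ
  obtain ⟨Γ', _, _, σ', hσ', ⟨e⟩, β, hβ, hβσ⟩ := SchurMultiplierCover.exists_cover_over hσ
  have hle : β.ker ≤ σ'.ker := fun x hx => by
    rw [MonoidHom.mem_ker, ← hβσ, MonoidHom.comp_apply, MonoidHom.mem_ker.1 hx, map_one]
  have hinj : Function.Injective β := (MonoidHom.ker_eq_bot_iff β).1
    (SchurMultiplierCover.ker_eq_bot_of_mult_eq_bot hbot
      ⟨hβ, hle.trans hσ'.2.1, hle.trans hσ'.2.2⟩)
  let b : Γ' ≃* Γ := MulEquiv.ofBijective β ⟨hinj, hβ⟩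
  let r : σ.ker →* σ'.ker := (b.symm.toMonoidHom.comp σ.ker.subtype).codRestrict σ'.ker fun x => by
    rw [MonoidHom.mem_ker, ← hβσ]
    show σ (b (b.symm x)) = 1
    rw [b.apply_symm_apply]
    exact x.2
  have hr : Function.Surjective r := fun y => by
    refine ⟨⟨β y, ?_⟩, Subtype.ext (b.symm_apply_apply y)⟩
    rw [MonoidHom.mem_ker, ← MonoidHom.comp_apply, hβσ]
    exact y.2
  obtain ⟨π, hπ⟩ := SchurMultiplierCover.exists_surjective_mult hτ
  exact ⟨π.comp (e.toMonoidHom.comp r), hπ.comp (e.surjective.comp hr)⟩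

end Cfsg.Agent.S3958
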