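import Cfsg.Statements.S3960
import Mathlib
import Cfsg.Agent.Lib.SchurMultiplierCover

set_option autoImplicit false
universe u
open Cfsg

namespace Cfsg.Agent.S3960

open scoped commutatorElement

/-- The derived group is perfect as soon as, together with the centre, it fills the group. -/
theorem isPerfect_commutator {X : Type*} [Group X]
    (h : commutator X ⊔ Subgroup.center X = ⊤) : Group.IsPerfect (commutator X) := by
  rw [Subgroup.isPerfect_iff]
  refine le_antisymm (Subgroup.commutator_le.2 fun a ha b hb =>
    (commutator X).mul_mem ((commutator X).mul_mem ((commutator X).mul_mem ha hb)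
      ((commutator X).inv_mem ha)) ((commutator X).inv_mem hb)) ?_
  conv_lhs => rw [commutator_def]
  rw [Subgroup.commutator_le]
  intro g _ k _
  obtain ⟨a, ha, z, hz, rfl⟩ := Subgroup.mem_sup_of_normal_right.1 (h ▸ Subgroup.mem_top g)
  obtain ⟨b, hb, t, ht, rfl⟩ := Subgroup.mem_sup_of_normal_right.1 (h ▸ Subgroup.mem_top k)
  rw [SchurMultiplierCover.commutatorElement_mul_center hz ht]
  exact Subgroup.commutator_mem_commutator ha hb

/-- A finite perfect group `Q` has a universal central extension: a finite perfect group `G` in the universe of `Q` and a surjective homomorphism `π : G →* Q` with central kernel such that for every group `X` in that universe and every surjective homomorphism `ξ : X →* Q` with central kernel there is exactly one homomorphism `η : G →* X` with `ξ ∘ η = π`. -/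
theorem result {Q : Type u} [Group Q] [Finite Q] (hQ : Group.IsPerfect Q) : ∃ (G : Type u) (_ : Group G) (_ : Finite G) (π : G →* Q), Group.IsPerfect G ∧ Function.Surjective π ∧ π.ker ≤ Subgroup.center G ∧ ∀ (X : Type u) [Group X] (ξ : X →* Q), Function.Surjective ξ → ξ.ker ≤ Subgroup.center X → ∃! η : G →* X, ξ.comp η = π := by
  have himg : (commutator (SchurMultiplierCover.E Q)).map (SchurMultiplierCover.proj Q) = ⊤ := by
    rw [commutator_def, Subgroup.map_commutator, Subgroup.map_top_of_surjective _
      (SchurMultiplierCover.proj_surjective Q), ← commutator_def, hQ.commutator_eq_top]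
  let G := commutator (SchurMultiplierCover.E Q)
  let π : G →* Q := (SchurMultiplierCover.proj Q).comp G.subtype
  have hperf : Group.IsPerfect G := by
    refine isPerfect_commutator ?_
    rw [eq_top_iff]
    intro e _
    obtain ⟨c, hc, hce⟩ : SchurMultiplierCover.proj Q e ∈ G.map (SchurMultiplierCover.proj Q) :=
      himg.symm ▸ Subgroup.mem_top _
    have : e = c * (c⁻¹ * e) := by group
    rw [this]
    refine Subgroup.mul_mem_sup hc (SchurMultiplierCover.proj_ker_le_center Q ?_)
    rw [MonoidHom.mem_ker, map_mul, map_inv, hce, inv_mul_cancel]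
  refine ⟨G, inferInstance, inferInstance, π, hperf, fun q => ?_, fun x hx => ?_,
    fun X _ ξ hξ hc => ?_⟩
  · obtain ⟨c, hc, hcq⟩ : q ∈ G.map (SchurMultiplierCover.proj Q) := himg.symm ▸ Subgroup.mem_top q
    exact ⟨⟨c, hc⟩, hcq⟩
  · rw [Subgroup.mem_center_iff]
    intro y
    exact Subtype.ext (Subgroup.mem_center_iff.1
      (SchurMultiplierCover.proj_ker_le_center Q (x := (x : SchurMultiplierCover.E Q)) hx) y)
  · obtain ⟨Φ, hΦ⟩ := SchurMultiplierCover.exists_lift ξ hξ hc (MonoidHom.id Q)
    have hcomp : ξ.comp (Φ.comp G.subtype) = π := by rw [← MonoidHom.comp_assoc, hΦ]; rfl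
    refine ⟨Φ.comp G.subtype, hcomp, fun η hη => ?_⟩
    exact SchurMultiplierCover.eq_of_perfect hperf hc η _
      (hη.trans hcomp.symm)

end Cfsg.Agent.S3960
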