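import Cfsg.Statements.S3961
import Mathlib
import Cfsg.Agent.Lib.SchurMultiplierBasic
import Cfsg.Agent.Lib.SchurMultiplierCover

set_option autoImplicit false
universe u v
open Cfsg

namespace Cfsg.Agent.S3961

/-- Let `π : G →* Q` be a surjective homomorphism with central kernel from a finite perfect group `G` (a perfect cover of `Q`). Then `π` is universal, in the sense that every surjective homomorphism `ξ : X →* Q` with central kernel from a group `X` in the universe of `G` admits a homomorphism `η : G →* X` with `ξ ∘ η = π`, if and only if `G` has trivial Schur multiplier. -/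
theorem result {G : Type u} {Q : Type v} [Group G] [Group Q] [Finite G] (hG : Group.IsPerfect G) (π : G →* Q) (hπ : Function.Surjective π) (hker : π.ker ≤ Subgroup.center G) : (∀ (X : Type u) [Group X] (ξ : X →* Q), Function.Surjective ξ → ξ.ker ≤ Subgroup.center X → ∃ η : G →* X, ξ.comp η = π) ↔ Cfsg.HasCyclicSchurMultiplier G 1 := by
  haveI : Finite Q := Finite.of_surjective π hπ
  rw [SchurMultiplierCover.hasCyclicSchurMultiplier_one_iff]
  constructor
  · intro huniv
    rw [← SchurMultiplierCover.hasCyclicSchurMultiplier_one_iff]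
    refine SchurMultiplierBasic.hasCyclicSchurMultiplier_one fun Γ _ _ τ hτ => ?_
    have hΓ : Group.IsPerfect Γ := ⟨by
      refine SchurMultiplierBasic.stem_eq_top_of_map_eq_top hτ _ ?_
      rw [commutator_def, Subgroup.map_commutator, Subgroup.map_top_of_surjective _ hτ.1,
        ← commutator_def, hG.commutator_eq_top]⟩
    have hcen : (π.comp τ).ker ≤ Subgroup.center Γ := by
      intro x hx
      have hc : ∀ g : Γ, x * g * x⁻¹ * g⁻¹ ∈ Subgroup.center Γ := fun g => hτ.2.1 (by
        rw [MonoidHom.mem_ker, map_mul, map_mul, map_mul, map_inv, map_inv,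
          ← Subgroup.mem_center_iff.1 (hker (show τ x ∈ π.ker from hx)) (τ g)]
        group)
      let φ : Γ →* Subgroup.center Γ := MonoidHom.mk' (fun g => ⟨_, hc g⟩) (by
        intro g h
        ext
        show x * (g * h) * x⁻¹ * (g * h)⁻¹ = (x * g * x⁻¹ * g⁻¹) * (x * h * x⁻¹ * h⁻¹)
        calc x * (g * h) * x⁻¹ * (g * h)⁻¹
            = x * g * x⁻¹ * ((x * h * x⁻¹ * h⁻¹) * g⁻¹) := by group
          _ = x * g * x⁻¹ * (g⁻¹ * (x * h * x⁻¹ * h⁻¹)) := by
              rw [← Subgroup.mem_center_iff.1 (hc h) g⁻¹]
          _ = _ := by group)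
      have hle : commutator Γ ≤ φ.ker := by
        rw [commutator_def, Subgroup.commutator_le]
        intro a _ b _
        rw [MonoidHom.mem_ker, map_commutatorElement, commutatorElement_eq_one_iff_mul_comm]
        exact Subtype.ext (Subgroup.mem_center_iff.1 (φ b).2 _)
      rw [Subgroup.mem_center_iff]
      intro g
      have h1 : x * g * x⁻¹ * g⁻¹ = 1 :=
        congrArg Subtype.val (show φ g = 1 from hle (by rw [hΓ.commutator_eq_top]; trivial))
      rw [mul_inv_eq_one, mul_inv_eq_iff_eq_mul] at h1
      exact h1.symm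
    obtain ⟨η, hη⟩ := huniv Γ (π.comp τ) (hπ.comp hτ.1) hcen
    have hid : τ.comp η = MonoidHom.id G := SchurMultiplierCover.eq_of_perfect hG hker _ _
      (by rw [← MonoidHom.comp_assoc, hη]; rfl)
    have hrange : η.range = ⊤ := by
      refine SchurMultiplierBasic.stem_eq_top_of_map_eq_top hτ _ ?_
      rw [MonoidHom.map_range, hid, MonoidHom.range_eq_top]
      exact Function.surjective_id
    rw [eq_bot_iff]
    intro k hk
    obtain ⟨g, rfl⟩ : k ∈ η.range := hrange ▸ Subgroup.mem_top k
    have : g = 1 := (DFunLike.congr_fun hid g).symm.trans hk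
    rw [Subgroup.mem_bot, this, map_one]
  · intro hbot X _ ξ hξ hc
    obtain ⟨Φ, hΦ⟩ := SchurMultiplierCover.exists_lift ξ hξ hc π
    let i : commutator (SchurMultiplierCover.E G) →* G :=
      (SchurMultiplierCover.proj G).comp (Subgroup.subtype _)
    have hi : Function.Bijective i := by
      refine ⟨(injective_iff_map_eq_one i).2 fun e he => ?_, fun g => ?_⟩
      · have h2 : (e : SchurMultiplierCover.E G) ∈ SchurMultiplierCover.mult G := ⟨he, e.2⟩
        rw [hbot] at h2
        exact Subtype.ext h2
      · obtain ⟨c, hc', hcg⟩ : g ∈ (commutator (SchurMultiplierCover.E G)).map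
            (SchurMultiplierCover.proj G) := by
          rw [commutator_def, Subgroup.map_commutator, Subgroup.map_top_of_surjective _
            (SchurMultiplierCover.proj_surjective G), ← commutator_def, hG.commutator_eq_top]
          trivial
        exact ⟨⟨c, hc'⟩, hcg⟩
    let e := MulEquiv.ofBijective i hi
    refine ⟨(Φ.comp (Subgroup.subtype _)).comp e.symm.toMonoidHom, MonoidHom.ext fun g => ?_⟩
    show ξ (Φ (e.symm g : SchurMultiplierCover.E G)) = π g
    have h := DFunLike.congr_fun hΦ (e.symm g : SchurMultiplierCover.E G)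
    simp only [MonoidHom.comp_apply] at h
    rw [h]
    exact congrArg π (e.apply_symm_apply g)

end Cfsg.Agent.S3961
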