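import Cfsg.Statements.S3962
import Mathlib

set_option autoImplicit false
open Cfsg

namespace Cfsg.Agent.S3962

/-- Let `G` be a perfect group and `π : G →* Q` a surjective homomorphism whose kernel is central. Then `π` maps the centre of `G` onto the centre of `Q`. Taking `π` to be the map to `G ⧸ Z(G)` shows that the central quotient of a perfect group has trivial centre. -/
theorem result {G Q : Type*} [Group G] [Group Q] (hG : Group.IsPerfect G) (π : G →* Q) (hπ : Function.Surjective π) (hker : π.ker ≤ Subgroup.center G) : (Subgroup.center G).map π = Subgroup.center Q := by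
  refine le_antisymm ?_ ?_
  · rintro _ ⟨z, hz, rfl⟩
    rw [Subgroup.mem_center_iff]
    intro q
    obtain ⟨g, rfl⟩ := hπ q
    rw [← map_mul, ← map_mul, Subgroup.mem_center_iff.1 hz g]
  · intro q hq
    obtain ⟨x, rfl⟩ := hπ q
    refine Subgroup.mem_map_of_mem π ?_
    have hc : ∀ g : G, x * g * x⁻¹ * g⁻¹ ∈ Subgroup.center G := by
      intro g
      refine hker ?_
      rw [MonoidHom.mem_ker, map_mul, map_mul, map_mul, map_inv, map_inv,
        ← Subgroup.mem_center_iff.1 hq (π g)]
      group
    let φ : G →* Subgroup.center G := MonoidHom.mk' (fun g => ⟨_, hc g⟩) (by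
      intro g h
      ext
      show x * (g * h) * x⁻¹ * (g * h)⁻¹ = (x * g * x⁻¹ * g⁻¹) * (x * h * x⁻¹ * h⁻¹)
      calc x * (g * h) * x⁻¹ * (g * h)⁻¹
          = x * g * x⁻¹ * ((x * h * x⁻¹ * h⁻¹) * g⁻¹) := by group
        _ = x * g * x⁻¹ * (g⁻¹ * (x * h * x⁻¹ * h⁻¹)) := by
            rw [← Subgroup.mem_center_iff.1 (hc h) g⁻¹]
        _ = _ := by group)
    rw [Subgroup.mem_center_iff]
    intro g
    have hle : commutator G ≤ φ.ker := by
      rw [commutator_def, Subgroup.commutator_le]
      intro a _ b _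
      rw [MonoidHom.mem_ker, map_commutatorElement, commutatorElement_eq_one_iff_mul_comm]
      exact Subtype.ext (Subgroup.mem_center_iff.1 (φ b).2 _)
    have hg : φ g = 1 := hle (by rw [hG.commutator_eq_top]; trivial)
    have h1 : x * g * x⁻¹ * g⁻¹ = 1 := congrArg Subtype.val hg
    rw [mul_inv_eq_one, mul_inv_eq_iff_eq_mul] at h1
    exact h1.symm

end Cfsg.Agent.S3962
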