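import Cfsg.Statements.S3963
import Mathlib
import Cfsg.Agent.Lib.SchurMultiplierBasic

set_option autoImplicit false
open Cfsg

namespace Cfsg.Agent.S3963

/-- For every `n ≥ 1` the dicyclic (generalized quaternion) group of order `4 n` has trivial Schur multiplier. -/
theorem result (n : ℕ) [NeZero n] : Cfsg.HasCyclicSchurMultiplier (QuaternionGroup n) 1 := by
  refine SchurMultiplierBasic.hasCyclicSchurMultiplier_one fun Γ _ _ σ hσ => ?_
  obtain ⟨a, ha⟩ := hσ.1 (QuaternionGroup.a 1)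
  obtain ⟨x, hx⟩ := hσ.1 (QuaternionGroup.xa 0)
  have hgen : Subgroup.closure ({a, x} : Set Γ) = ⊤ := by
    refine SchurMultiplierBasic.stem_eq_top_of_map_eq_top hσ _ ?_
    rw [MonoidHom.map_closure, Set.image_pair, ha, hx, eq_top_iff]
    intro g _
    have h1 : ∀ i : ZMod (2 * n), QuaternionGroup.a i ∈
        Subgroup.closure ({QuaternionGroup.a 1, QuaternionGroup.xa 0} : Set (QuaternionGroup n)) := by
      intro i
      rw [← ZMod.natCast_zmod_val i, ← QuaternionGroup.a_one_pow]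
      exact Subgroup.pow_mem _ (Subgroup.subset_closure (by simp)) _
    cases g with
    | a i => exact h1 i
    | xa i =>
      have : QuaternionGroup.xa i = QuaternionGroup.xa 0 * (QuaternionGroup.a i : QuaternionGroup n) := by
        rw [QuaternionGroup.xa_mul_a, zero_add]
      rw [this]
      exact Subgroup.mul_mem _ (Subgroup.subset_closure (by simp)) (h1 i)
  have hcen : ∀ w ∈ σ.ker, ∀ g : Γ, g * w = w * g := fun w hw =>
    Subgroup.mem_center_iff.1 (hσ.2.1 hw)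
  set z := a * (x * a * x⁻¹) with hz
  have hzk : z ∈ σ.ker := by
    rw [MonoidHom.mem_ker, hz, map_mul, map_mul, map_mul, map_inv, ha, hx]
    rw [QuaternionGroup.xa_mul_a, ← mul_assoc, QuaternionGroup.a_mul_xa, zero_add, sub_self]
    exact mul_inv_cancel _
  have hzc := hcen z hzk
  have hxa : x * a * x⁻¹ = a⁻¹ * z := by rw [hz]; group
  set w := (x ^ 2)⁻¹ * a ^ n with hw
  have hwk : w ∈ σ.ker := by
    rw [MonoidHom.mem_ker, hw, map_mul, map_inv, map_pow, map_pow, ha, hx, QuaternionGroup.xa_sq,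
      QuaternionGroup.a_one_pow, inv_mul_cancel]
  have hn : x * a ^ n = a ^ n * x := by
    have he : a ^ n = x ^ 2 * w := by rw [hw]; group
    calc x * a ^ n = x * (x ^ 2 * w) := by rw [← he]
      _ = x ^ 2 * (x * w) := by group
      _ = x ^ 2 * (w * x) := by rw [hcen w hwk x]
      _ = a ^ n * x := by rw [← mul_assoc, ← he]
  set c := x * a * x⁻¹ * a⁻¹ with hc
  have hc' : c = (a ^ 2)⁻¹ * z := by
    rw [hc, hxa, mul_assoc, ← hzc a⁻¹, ← mul_assoc, pow_two, mul_inv_rev]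
  have hcn : c ^ n = 1 := hc' ▸ SchurMultiplierBasic.inverting_commutator_pow a x z n hzc hxa hn
  have hzp : ∀ g : Γ, g * z⁻¹ = z⁻¹ * g := hcen _ (σ.ker.inv_mem hzk)
  have hcomm : commutator Γ ≤ Subgroup.zpowers c := by
    refine SchurMultiplierBasic.commutator_le_zpowers a x c hgen hc.symm ?_ ?_
    · have : a * c * a⁻¹ = c := by
        rw [hc', mul_assoc a, mul_assoc (a ^ 2)⁻¹ z a⁻¹, ← hzc a⁻¹]
        group
      rw [this]; exact Subgroup.mem_zpowers c
    · have : x * c * x⁻¹ = c⁻¹ := by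
        have h2 : x * (a ^ 2)⁻¹ * x⁻¹ = ((x * a * x⁻¹) ^ 2)⁻¹ := by rw [conj_pow]; group
        have hb2 : (a⁻¹ * z) * (a⁻¹ * z) = (a ^ 2)⁻¹ * (z * z) := by
          calc (a⁻¹ * z) * (a⁻¹ * z) = a⁻¹ * (z * a⁻¹) * z := by group
            _ = a⁻¹ * (a⁻¹ * z) * z := by rw [hzc a⁻¹]
            _ = (a ^ 2)⁻¹ * (z * z) := by group
        calc x * c * x⁻¹ = (x * (a ^ 2)⁻¹ * x⁻¹) * (x * z * x⁻¹) := by rw [hc']; group
          _ = ((a ^ 2)⁻¹ * (z * z))⁻¹ * z := by
              rw [h2, hxa, pow_two (a⁻¹ * z), hb2, hzc x, mul_inv_cancel_right]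
          _ = z⁻¹ * z⁻¹ * (a ^ 2 * z) := by group
          _ = z⁻¹ * z⁻¹ * (z * a ^ 2) := by rw [hzc (a ^ 2)]
          _ = ((a ^ 2)⁻¹ * z)⁻¹ := by group
          _ = c⁻¹ := by rw [hc']
      rw [this]; exact Subgroup.inv_mem _ (Subgroup.mem_zpowers c)
  rw [eq_bot_iff]
  intro g hg
  obtain ⟨k, rfl⟩ := Subgroup.mem_zpowers_iff.1 (hcomm (hσ.2.2 hg))
  have hσc : σ c = ((QuaternionGroup.a 1 : QuaternionGroup n) ^ 2)⁻¹ := by
    rw [hc', map_mul, map_inv, map_pow, ha, MonoidHom.mem_ker.1 hzk, mul_one]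
  have h1 : (QuaternionGroup.a 1 : QuaternionGroup n) ^ (2 * k) = 1 := by
    rw [MonoidHom.mem_ker, map_zpow, hσc, inv_zpow', ← zpow_natCast, ← zpow_mul] at hg
    rw [← inv_eq_one, ← zpow_neg]
    convert hg using 2
    push_cast
    ring
  rw [← orderOf_dvd_iff_zpow_eq_one, QuaternionGroup.orderOf_a_one] at h1
  push_cast at h1
  obtain ⟨t, ht⟩ := Int.dvd_of_mul_dvd_mul_left (by norm_num) h1
  rw [Subgroup.mem_bot, ht, zpow_mul, zpow_natCast, hcn, one_zpow]

end Cfsg.Agent.S3963
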