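import Cfsg.Statements.S3964
import Mathlib
import Cfsg.Agent.Lib.SchurMultiplierBasic

set_option autoImplicit false
open Cfsg

namespace Cfsg.Agent.S3964


/-- In a stem extension of a dihedral group the kernel consists of powers of one commutator. -/
theorem dihedral_kernel (n : ℕ) [NeZero n] (Γ : Type) [Group Γ] [Finite Γ] (σ : Γ →* DihedralGroup n)
    (hσ : Cfsg.IsStemExtension σ) :
    ∃ c : Γ, c ^ n = 1 ∧ σ c = DihedralGroup.r (-2) ∧
      ∀ g ∈ σ.ker, ∃ k : ℤ, c ^ k = g ∧ (n : ℤ) ∣ 2 * k := by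
  obtain ⟨a, ha⟩ := hσ.1 (DihedralGroup.r 1)
  obtain ⟨x, hx⟩ := hσ.1 (DihedralGroup.sr 0)
  have hgen : Subgroup.closure ({a, x} : Set Γ) = ⊤ := by
    refine SchurMultiplierBasic.stem_eq_top_of_map_eq_top hσ _ ?_
    rw [MonoidHom.map_closure, Set.image_pair, ha, hx, eq_top_iff]
    intro g _
    have h1 : ∀ i : ZMod n, DihedralGroup.r i ∈
        Subgroup.closure ({DihedralGroup.r 1, DihedralGroup.sr 0} : Set (DihedralGroup n)) := by
      intro i
      rw [← ZMod.natCast_zmod_val i, ← DihedralGroup.r_one_pow]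
      exact Subgroup.pow_mem _ (Subgroup.subset_closure (by simp)) _
    cases g with
    | r i => exact h1 i
    | sr i =>
      have : DihedralGroup.sr i = DihedralGroup.sr 0 * (DihedralGroup.r i : DihedralGroup n) := by
        rw [DihedralGroup.sr_mul_r, zero_add]
      rw [this]
      exact Subgroup.mul_mem _ (Subgroup.subset_closure (by simp)) (h1 i)
  have hzk : a * (x * a * x⁻¹) ∈ σ.ker := by
    rw [MonoidHom.mem_ker, map_mul, map_mul, map_mul, map_inv, ha, hx]
    simp [DihedralGroup.sr_mul_r, DihedralGroup.sr_mul_sr]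
  have hn : x * a ^ n = a ^ n * x :=
    Subgroup.mem_center_iff.1 (hσ.2.1 (by
      rw [MonoidHom.mem_ker, map_pow, ha, DihedralGroup.r_one_pow_n])) x
  obtain ⟨c, hcn, hσc, hle⟩ := SchurMultiplierBasic.dihedral_type_commutator hσ a x _ n hgen hzk
    (by group) hn
  have hc2 : σ c = DihedralGroup.r (-2) := by
    rw [hσc, ha, DihedralGroup.r_one_pow, DihedralGroup.inv_r]; norm_num
  refine ⟨c, hcn, hc2, fun g hg => ?_⟩
  obtain ⟨k, rfl⟩ := Subgroup.mem_zpowers_iff.1 (hle (hσ.2.2 hg))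
  refine ⟨k, rfl, ?_⟩
  rw [MonoidHom.mem_ker, map_zpow, hc2, DihedralGroup.r_zpow, DihedralGroup.one_def] at hg
  have h1 : ((-(2 * k) : ℤ) : ZMod n) = 0 := by
    push_cast
    rw [← DihedralGroup.r.injEq]
    convert hg using 2
    ring
  rw [ZMod.intCast_zmod_eq_zero_iff_dvd] at h1
  exact dvd_neg.1 h1

/-- For odd `n` the dihedral group of order `2 n` has trivial Schur multiplier. -/
theorem result (n : ℕ) (hn : Odd n) : Cfsg.HasCyclicSchurMultiplier (DihedralGroup n) 1 := by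
  haveI : NeZero n := ⟨fun h => by simp [h] at hn⟩
  refine SchurMultiplierBasic.hasCyclicSchurMultiplier_one fun Γ _ _ σ hσ => ?_
  obtain ⟨c, hcn, -, hker⟩ := dihedral_kernel n Γ σ hσ
  rw [eq_bot_iff]
  intro g hg
  obtain ⟨k, rfl, hk⟩ := hker g hg
  have hco : IsCoprime (n : ℤ) 2 := Nat.isCoprime_iff_coprime.2 (Nat.coprime_two_right.2 hn)
  obtain ⟨t, rfl⟩ := hco.dvd_of_dvd_mul_left hk
  rw [Subgroup.mem_bot, zpow_mul, zpow_natCast, hcn, one_zpow]

end Cfsg.Agent.S3964
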