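import Cfsg.Statements.S3966
import Mathlib

set_option autoImplicit false
open Cfsg

namespace Cfsg.Agent.S3966

open scoped commutatorElement

/-- The natural map of the dicyclic group onto the dihedral group, on elements. -/
def toDihedralFun (n : ℕ) : QuaternionGroup n → DihedralGroup n
  | QuaternionGroup.a i => DihedralGroup.r (ZMod.castHom (Dvd.intro_left 2 rfl) (ZMod n) i)
  | QuaternionGroup.xa i => DihedralGroup.sr (ZMod.castHom (Dvd.intro_left 2 rfl) (ZMod n) i)

/-- The natural map of the dicyclic group onto the dihedral group. -/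
def toDihedral (n : ℕ) : QuaternionGroup n →* DihedralGroup n :=
  MonoidHom.mk' (toDihedralFun n) (by
    rintro (i | i) (j | j) <;>
      simp [toDihedralFun, DihedralGroup.r_mul_r, DihedralGroup.r_mul_sr, DihedralGroup.sr_mul_r,
        DihedralGroup.sr_mul_sr, map_add, map_sub, map_natCast])

/-- For even `n ≥ 2` the dicyclic group of order `4 n` is a stem extension of the dihedral group of order `2 n` with kernel of order `2`: there is a surjective homomorphism `QuaternionGroup n →* DihedralGroup n` whose kernel is central, lies in the commutator subgroup and has two elements. Together with the order of the multiplier this exhibits the dicyclic group as a Schur covering group of the dihedral group. -/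
theorem result (n : ℕ) [NeZero n] (hn : Even n) : ∃ σ : QuaternionGroup n →* DihedralGroup n, Cfsg.IsStemExtension σ ∧ Nat.card σ.ker = 2 := by
  have hn2 : ((n : ZMod (2 * n))) + n = 0 := by
    rw [← Nat.cast_add, ← two_mul, ZMod.natCast_self]
  have hne : (QuaternionGroup.a (n : ZMod (2 * n)) : QuaternionGroup n) ≠ 1 := by
    rw [QuaternionGroup.one_def, Ne, QuaternionGroup.a.injEq, ZMod.natCast_eq_zero_iff]
    intro h
    have := Nat.le_of_dvd (Nat.pos_of_ne_zero (NeZero.ne n)) h
    have := NeZero.ne n
    omega
  have hker : (toDihedral n).ker = Subgroup.zpowers (QuaternionGroup.a (n : ZMod (2 * n))) := by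
    refine le_antisymm ?_ (Subgroup.zpowers_le.2 ?_)
    · rintro (i | i) h
      · simp only [MonoidHom.mem_ker, toDihedral, MonoidHom.mk'_apply, toDihedralFun,
          DihedralGroup.one_def, DihedralGroup.r.injEq] at h
        rw [ZMod.castHom_apply, ZMod.cast_eq_val, ZMod.natCast_eq_zero_iff] at h
        obtain ⟨k, hk⟩ := h
        rw [← ZMod.natCast_zmod_val i, hk, ← QuaternionGroup.a_one_pow (n * k), pow_mul,
          QuaternionGroup.a_one_pow]
        exact Subgroup.pow_mem _ (Subgroup.mem_zpowers _) _
      · simp [MonoidHom.mem_ker, toDihedral, toDihedralFun, -DihedralGroup.r_zero, DihedralGroup.one_def] at h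
    · simp [MonoidHom.mem_ker, toDihedral, toDihedralFun, -DihedralGroup.r_zero, DihedralGroup.one_def]
  refine ⟨toDihedral n, ⟨?_, ?_, ?_⟩, ?_⟩
  · rintro (i | i)
    · obtain ⟨j, hj⟩ := ZMod.castHom_surjective (Dvd.intro_left 2 rfl : n ∣ 2 * n) i
      exact ⟨QuaternionGroup.a j, congrArg DihedralGroup.r hj⟩
    · obtain ⟨j, hj⟩ := ZMod.castHom_surjective (Dvd.intro_left 2 rfl : n ∣ 2 * n) i
      exact ⟨QuaternionGroup.xa j, congrArg DihedralGroup.sr hj⟩
  · rw [hker, Subgroup.zpowers_le, Subgroup.mem_center_iff]
    rintro (i | i)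
    · rw [QuaternionGroup.a_mul_a, QuaternionGroup.a_mul_a, add_comm]
    · rw [QuaternionGroup.xa_mul_a, QuaternionGroup.a_mul_xa, QuaternionGroup.xa.injEq]
      linear_combination hn2
  · rw [hker, Subgroup.zpowers_le]
    obtain ⟨k, hk⟩ := hn
    have hk' : (n : ZMod (2 * n)) = k + k := by rw [← Nat.cast_add, ← hk]
    have : ⁅(QuaternionGroup.xa 0 : QuaternionGroup n), QuaternionGroup.a (k : ZMod (2 * n))⁆ =
        QuaternionGroup.a (n : ZMod (2 * n)) := by
      rw [commutatorElement_def, mul_inv_eq_iff_eq_mul, mul_inv_eq_iff_eq_mul,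
        QuaternionGroup.xa_mul_a, QuaternionGroup.a_mul_a, QuaternionGroup.a_mul_xa,
        QuaternionGroup.xa.injEq]
      linear_combination hn2 - hk'
    rw [← this, commutator_def]
    exact Subgroup.commutator_mem_commutator (Subgroup.mem_top _) (Subgroup.mem_top _)
  · rw [hker, Nat.card_zpowers]
    refine orderOf_eq_prime ?_ hne
    rw [pow_two, QuaternionGroup.a_mul_a, hn2, QuaternionGroup.a_zero]

end Cfsg.Agent.S3966
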