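import Cfsg.Statements.S3965
import Mathlib
import Cfsg.Agent.Lib.SchurMultiplierBasic
import Cfsg.Agent.S3964
import Cfsg.Agent.S3966

set_option autoImplicit false
open Cfsg

namespace Cfsg.Agent.S3965

/-- For even `n ≥ 2` the dihedral group of order `2 n` has Schur multiplier cyclic of order `2`. -/
theorem result (n : ℕ) [NeZero n] (hn : Even n) : Cfsg.HasCyclicSchurMultiplier (DihedralGroup n) 2 := by
  obtain ⟨σ, hσ, hcard⟩ := S3966.result n hn
  obtain ⟨m, hm⟩ := hn
  refine ⟨⟨QuaternionGroup n, inferInstance, inferInstance, σ, hσ, ?_⟩, fun Γ _ _ τ hτ => ?_⟩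
  · haveI : Fact (Nat.Prime 2) := ⟨Nat.prime_two⟩
    haveI : IsCyclic σ.ker := isCyclic_of_prime_card hcard
    exact ⟨mulEquivOfCyclicCardEq (by rw [hcard]; simp)⟩
  · obtain ⟨c, hcn, hσc, hker⟩ := S3964.dihedral_kernel n Γ τ hτ
    have hmem : c ^ m ∈ τ.ker := by
      rw [MonoidHom.mem_ker, map_pow, hσc, DihedralGroup.r_pow, DihedralGroup.one_def]
      congr 1
      have h0 : ((m : ZMod n) + m) = 0 := by rw [← Nat.cast_add, ← hm, ZMod.natCast_self]
      linear_combination -h0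
    refine SchurMultiplierBasic.exists_surjective_zmod 2 (⟨c ^ m, hmem⟩ : τ.ker) ?_ ?_
    · refine Subtype.ext ?_
      show (c ^ m) ^ 2 = 1
      rw [← pow_mul, mul_two, ← hm, hcn]
    · rintro ⟨g, hg⟩
      obtain ⟨k, rfl, hk⟩ := hker g hg
      have hmne : (m : ℤ) ≠ 0 := by
        have := NeZero.ne n; omega
      obtain ⟨t, ht⟩ : (m : ℤ) ∣ k := by
        rw [hm] at hk
        push_cast at hk
        rw [← two_mul] at hk
        exact Int.dvd_of_mul_dvd_mul_left (by norm_num) hk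
      refine Subgroup.mem_zpowers_iff.2 ⟨t, Subtype.ext ?_⟩
      show (c ^ m) ^ t = c ^ k
      rw [ht, zpow_mul, zpow_natCast]

end Cfsg.Agent.S3965
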