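import Cfsg.Statements.S3967
import Mathlib
import Cfsg.Agent.Lib.SchurMultiplierBasic

set_option autoImplicit false
open Cfsg

namespace Cfsg.Agent.S3967

open scoped commutatorElement

section abstract

variable {Γ : Type*} [Group Γ]

/-- Iterated conjugation of `a` when `b a b⁻¹ = c a` and `b c b⁻¹ = c ^ r`. -/
theorem conj_iter (a b c : Γ) (r : ℕ) (hac : a * c = c * a) (hba : b * a * b⁻¹ = c * a)
    (hbc : b * c * b⁻¹ = c ^ r) (k : ℕ) :
    b ^ k * a * (b ^ k)⁻¹ = c ^ (∑ i ∈ Finset.range k, r ^ i) * a := by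
  induction k with
  | zero => simp
  | succ k ih =>
    calc b ^ (k + 1) * a * (b ^ (k + 1))⁻¹ = b * (b ^ k * a * (b ^ k)⁻¹) * b⁻¹ := by
          rw [pow_succ']; group
      _ = (b * c ^ (∑ i ∈ Finset.range k, r ^ i) * b⁻¹) * (b * a * b⁻¹) := by rw [ih]; group
      _ = c ^ (r * ∑ i ∈ Finset.range k, r ^ i) * (c * a) := by
          rw [← conj_pow, hbc, ← pow_mul, hba]
      _ = _ := by rw [geom_sum_succ, ← mul_assoc, pow_succ]

/-- A group generated by `A, B` with `A ^ m = 1`, `B ^ n = A ^ t`, `B A B⁻¹ = A ^ r` is finite. -/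
theorem finite_of_rels (A B : Γ) (m n r t : ℕ) (hm : 0 < m) (hn : 0 < n)
    (hgen : Subgroup.closure ({A, B} : Set Γ) = ⊤) (hA : A ^ m = 1) (hBn : B ^ n = A ^ t)
    (hBA : B * A * B⁻¹ = A ^ r) : Finite Γ := by
  have hBfin : B ^ (n * m) = 1 := by rw [pow_mul, hBn, ← pow_mul, mul_comm, pow_mul, hA, one_pow]
  haveI hfinA : Finite (Subgroup.zpowers A) :=
    (finite_zpowers.2 (isOfFinOrder_iff_pow_eq_one.2 ⟨m, hm, hA⟩)).to_subtype
  have hmap : (Subgroup.zpowers A).map (MulAut.conj B).toMonoidHom ≤ Subgroup.zpowers A := by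
    rw [MonoidHom.map_zpowers]
    exact Subgroup.zpowers_le.2 (by
      show B * A * B⁻¹ ∈ Subgroup.zpowers A
      rw [hBA]; exact Subgroup.pow_mem _ (Subgroup.mem_zpowers A) r)
  have heq : (Subgroup.zpowers A).map (MulAut.conj B).toMonoidHom = Subgroup.zpowers A :=
    Subgroup.eq_of_le_of_card_ge hmap
      (le_of_eq (Subgroup.card_map_of_injective (MulAut.conj B).injective).symm)
  have htop : Subgroup.normalizer (Subgroup.zpowers A : Set Γ) = ⊤ := by
    rw [eq_top_iff, ← hgen, Subgroup.closure_le]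
    intro g hg
    rcases hg with rfl | rfl
    · exact Subgroup.le_normalizer (Subgroup.mem_zpowers g)
    · rw [SetLike.mem_coe, Subgroup.mem_normalizer_iff]
      intro h
      conv_rhs => rw [← heq]
      constructor
      · exact fun hh => Subgroup.mem_map_of_mem (MulAut.conj g).toMonoidHom hh
      · rintro ⟨k, hk, hke⟩
        have : k = h := (MulAut.conj g).injective hke
        exact this ▸ hk
  haveI : (Subgroup.zpowers A).Normal := Subgroup.normalizer_eq_top_iff.1 htop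
  let q := QuotientGroup.mk' (Subgroup.zpowers A)
  have hcyc : ∀ g : Γ, q g ∈ Subgroup.zpowers (q B) := by
    have : Subgroup.closure ({A, B} : Set Γ) ≤ (Subgroup.zpowers (q B)).comap q := by
      rw [Subgroup.closure_le]
      intro g hg
      rcases hg with rfl | rfl
      · rw [SetLike.mem_coe, Subgroup.mem_comap, show q g = 1 from
          (QuotientGroup.eq_one_iff g).2 (Subgroup.mem_zpowers g)]
        exact one_mem _
      · exact Subgroup.mem_zpowers _
    exact fun g => this (hgen ▸ Subgroup.mem_top g)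
  haveI : Finite (Subgroup.zpowers (q B)) :=
    (finite_zpowers.2 (isOfFinOrder_iff_pow_eq_one.2
      ⟨n * m, Nat.mul_pos hn hm, by rw [← map_pow, hBfin, map_one]⟩)).to_subtype
  haveI : Finite (Γ ⧸ Subgroup.zpowers A) :=
    Finite.of_surjective (Subtype.val : Subgroup.zpowers (q B) → _) fun x => by
      obtain ⟨g, rfl⟩ := QuotientGroup.mk'_surjective _ x
      exact ⟨⟨_, hcyc g⟩, rfl⟩
  exact Finite.of_subgroup_quotient (Subgroup.zpowers A)

end abstract

/-- The numerical data. -/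
theorem numbers (m n r l : ℕ) (hm : 0 < m) (hn : 0 < n) (hr : 0 < r) (hrn : r ^ n ≡ 1 [MOD m]) :
    ∃ d md h S e : ℕ, d = Nat.gcd m (r - 1) ∧ m = md * d ∧ 0 < md ∧ 0 < d ∧
      S = ∑ i ∈ Finset.range n, r ^ i ∧ Nat.gcd m S = h * md ∧ h ∣ d ∧
      e = Nat.gcd l (Nat.gcd m (r - 1) * Nat.gcd m (∑ i ∈ Finset.range n, r ^ i) / m) ∧
      e = Nat.gcd l h ∧ m * l / Nat.gcd m (r - 1) = md * l ∧ 0 < e := by
  set d := Nat.gcd m (r - 1) with hd
  set S := ∑ i ∈ Finset.range n, r ^ i with hS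
  have hd0 : 0 < d := Nat.gcd_pos_of_pos_left _ hm
  obtain ⟨md, hmd⟩ : d ∣ m := Nat.gcd_dvd_left _ _
  have hmd0 : 0 < md := Nat.pos_of_ne_zero fun h => hm.ne' (by rw [hmd, h, mul_zero])
  have hdvd : m ∣ (r - 1) * S := by
    have h1 : ((r - 1) * S : ℕ) + 1 = r ^ n := by
      obtain ⟨s, rfl⟩ : ∃ s, r = s + 1 := ⟨r - 1, by omega⟩
      rw [Nat.add_sub_cancel, mul_comm]
      exact geom_sum_mul_add s n
    have h2 : m ∣ r ^ n - 1 := (Nat.modEq_iff_dvd' (Nat.one_le_pow _ _ hr)).1 hrn.symm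
    rwa [← h1, Nat.add_sub_cancel] at h2
  obtain ⟨k₁, k₂, h1, h2, h12⟩ := Nat.dvd_mul.1 hdvd
  have hmdg : m ∣ d * Nat.gcd m S := by
    rw [← h12]
    exact mul_dvd_mul (Nat.dvd_gcd ⟨k₂, h12.symm⟩ h1) (Nat.dvd_gcd ⟨k₁, mul_comm k₁ k₂⟩ h2)
  obtain ⟨h, hh⟩ := hmdg
  have hg : Nat.gcd m S = h * md := by
    apply Nat.eq_of_mul_eq_mul_left hd0
    rw [hh, hmd]; ring
  have hh0 : 0 < h := Nat.pos_of_ne_zero fun e => by
    rw [e, zero_mul] at hg
    exact (Nat.gcd_pos_of_pos_left S hm).ne' hg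
  refine ⟨d, md, h, S, Nat.gcd l h, rfl, by rw [mul_comm]; exact hmd, hmd0, hd0, rfl, hg, ?_, ?_,
    rfl, ?_, Nat.gcd_pos_of_pos_right _ hh0⟩
  · have h3 : h * md ∣ d * md := hg ▸ (by rw [← hmd]; exact Nat.gcd_dvd_left _ _)
    exact Nat.dvd_of_mul_dvd_mul_right hmd0 h3
  · rw [hh, Nat.mul_div_cancel_left _ hm]
  · rw [hmd, mul_assoc, Nat.mul_div_cancel_left _ hd0]

/-- The relations. -/
abbrev rels (m n r t : ℕ) : Set (FreeGroup Bool) :=
  {FreeGroup.of true ^ m, (FreeGroup.of false) ^ n * (FreeGroup.of true ^ t)⁻¹,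
    FreeGroup.of false * FreeGroup.of true * (FreeGroup.of false)⁻¹ * (FreeGroup.of true ^ r)⁻¹}

/-- The presented metacyclic group. -/
abbrev Meta (m n r t : ℕ) := PresentedGroup (rels m n r t)

theorem meta_rels (m n r t : ℕ) :
    (PresentedGroup.of true : Meta m n r t) ^ m = 1 ∧
    (PresentedGroup.of false : Meta m n r t) ^ n = PresentedGroup.of true ^ t ∧
    (PresentedGroup.of false : Meta m n r t) * PresentedGroup.of true * (PresentedGroup.of false)⁻¹ =
      PresentedGroup.of true ^ r := by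
  refine ⟨?_, ?_, ?_⟩
  · simpa [PresentedGroup.of] using (PresentedGroup.one_of_mem (rels := rels m n r t)
      (x := FreeGroup.of true ^ m) (by simp))
  · exact mul_inv_eq_one.1 (by
      simpa [PresentedGroup.of] using (PresentedGroup.one_of_mem (rels := rels m n r t)
        (x := (FreeGroup.of false) ^ n * (FreeGroup.of true ^ t)⁻¹) (by simp)))
  · exact mul_inv_eq_one.1 (by
      simpa [PresentedGroup.of, map_mul, map_inv, map_pow] using
        (PresentedGroup.one_of_mem (rels := rels m n r t)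
          (x := FreeGroup.of false * FreeGroup.of true * (FreeGroup.of false)⁻¹ *
            (FreeGroup.of true ^ r)⁻¹) (by simp)))

theorem meta_gen (m n r t : ℕ) : Subgroup.closure
    ({PresentedGroup.of true, PresentedGroup.of false} : Set (Meta m n r t)) = ⊤ := by
  rw [← PresentedGroup.closure_range_of (rels m n r t)]
  congr 1
  ext x
  simp only [Set.mem_range, Set.mem_insert_iff, Set.mem_singleton_iff, Bool.exists_bool]
  tauto

/-- The model: for every `e` dividing `h, l` a stem extension with kernel of order `e`, and the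
order of the generator `a` is a multiple of `m`. -/
theorem model (m n r d md S e l : ℕ) (hn : 0 < n) (hr : 0 < r) (hd : d = Nat.gcd m (r - 1))
    (hm : m = md * d) (hmd : 0 < md) (hd0 : 0 < d) (hS : S = ∑ i ∈ Finset.range n, r ^ i)
    (he : 0 < e) (hed : e ∣ d) (heS : e * md ∣ S) (hel : e ∣ l) :
    (∃ (Γ : Type) (_ : Group Γ) (_ : Finite Γ) (σ : Γ →* Meta m n r (md * l)),
      Cfsg.IsStemExtension σ ∧ Nonempty (σ.ker ≃* Multiplicative (ZMod e))) ∧
    ∀ i : ℤ, (PresentedGroup.of true : Meta m n r (md * l)) ^ i = 1 → (m : ℤ) ∣ i := by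
  haveI : NeZero e := ⟨he.ne'⟩
  obtain ⟨rd, hrd⟩ : d ∣ r - 1 := hd ▸ Nat.gcd_dvd_right _ _
  have hco : Nat.Coprime rd md := by
    have h := Nat.gcd_mul_left d md rd
    rw [← hrd, mul_comm d md, ← hm, ← hd] at h
    rw [Nat.Coprime, Nat.gcd_comm]
    exact Nat.eq_of_mul_eq_mul_left hd0 (by rw [mul_one]; exact h.symm)
  set κ : ℤ := Nat.gcdA rd md with hκ
  set s : ℤ := Nat.gcdB rd md with hs
  have hbez : (rd : ℤ) * κ + md * s = 1 := by
    rw [hκ, hs, ← Nat.gcd_eq_gcd_ab, hco, Nat.cast_one]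
  have hr1 : (r : ℤ) = d * rd + 1 := by
    have : r = d * rd + 1 := by omega
    rw [this]; push_cast; ring
  set K : AddSubgroup (ℤ × ZMod e) := AddSubgroup.zmultiples ((m : ℤ), -(κ : ZMod e)) with hK
  have hde : ((d : ℕ) : ZMod e) = 0 := (ZMod.natCast_eq_zero_iff d e).2 hed
  let φ0 : ℤ × ZMod e →+ ℤ × ZMod e := AddMonoidHom.mk'
    (fun x => ((r : ℤ) * x.1, x.2 + (s : ZMod e) * (x.1 : ZMod e))) fun x y => by
      ext
      · simp [mul_add]
      · simp [mul_add]; abel
  have hφK : K ≤ K.comap φ0 := by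
    rw [hK, AddSubgroup.zmultiples_le, AddSubgroup.mem_comap, AddSubgroup.mem_zmultiples_iff]
    refine ⟨r, ?_⟩
    ext
    · simp [φ0]
    · have h1 : ((rd : ZMod e)) * κ + md * s = 1 := by exact_mod_cast congrArg (Int.cast : ℤ → ZMod e) hbez
      have h2 : (m : ZMod e) = md * d := by rw [hm]; push_cast; ring
      have h3 : (r : ZMod e) = d * rd + 1 := by exact_mod_cast congrArg (Int.cast : ℤ → ZMod e) hr1
      simp [φ0]
      linear_combination (-(κ : ZMod e)) * h3 + (-(s : ZMod e)) * h2 +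
        (-((rd : ZMod e) * κ + md * s)) * hde
  let φN : (ℤ × ZMod e) ⧸ K →+ (ℤ × ZMod e) ⧸ K := QuotientAddGroup.map K K φ0 hφK
  let a : (ℤ × ZMod e) ⧸ K := QuotientAddGroup.mk ((1 : ℤ), (0 : ZMod e))
  let z : (ℤ × ZMod e) ⧸ K := QuotientAddGroup.mk ((0 : ℤ), (1 : ZMod e))
  let c : (ℤ × ZMod e) ⧸ K := QuotientAddGroup.mk (((r : ℤ) - 1), (s : ZMod e))
  have hmk : ∀ (i : ℤ) (j : ZMod e),
      (QuotientAddGroup.mk (i, j) : (ℤ × ZMod e) ⧸ K) = i • a + (j.val : ℤ) • z := by
    intro i j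
    rw [← QuotientAddGroup.mk_zsmul, ← QuotientAddGroup.mk_zsmul, ← QuotientAddGroup.mk_add]
    congr 1
    ext <;> simp
  have hφa : φN a = a + c := by
    show φN (QuotientAddGroup.mk _) = _
    rw [QuotientAddGroup.map_mk, ← QuotientAddGroup.mk_add]
    congr 1
    ext <;> simp [φ0]
  have hφz : φN z = z := by
    show φN (QuotientAddGroup.mk _) = _
    rw [QuotientAddGroup.map_mk]
    congr 1
    ext <;> simp [φ0]
  have hcz : (md : ℤ) • c = z := by
    rw [← QuotientAddGroup.mk_zsmul]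
    apply (QuotientAddGroup.eq).2
    rw [hK, AddSubgroup.mem_zmultiples_iff]
    refine ⟨-(rd : ℤ), ?_⟩
    ext
    · simp [hm, hr1]; ring
    · have h1 : ((rd : ZMod e)) * κ + md * s = 1 := by
        exact_mod_cast congrArg (Int.cast : ℤ → ZMod e) hbez
      simp
      linear_combination h1
  have hcfix : φN c = (r : ℤ) • c := by
    show φN (QuotientAddGroup.mk _) = _
    rw [QuotientAddGroup.map_mk, ← QuotientAddGroup.mk_zsmul]
    congr 1
    ext
    · simp [φ0]
    · simp [φ0]; ring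
  have hez : (e : ℤ) • z = 0 := by
    rw [← QuotientAddGroup.mk_zsmul]
    refine (QuotientAddGroup.eq_zero_iff _).2 ?_
    have : (e : ℤ) • ((0 : ℤ), (1 : ZMod e)) = 0 := by ext <;> simp
    rw [this]; exact zero_mem _
  have hcdiv : ∀ k : ℕ, e * md ∣ k → (k : ℤ) • c = 0 := by
    rintro _ ⟨k, rfl⟩
    rw [show ((e * md * k : ℕ) : ℤ) = (k : ℤ) * ((e : ℤ) * md) by push_cast; ring, mul_smul,
      mul_smul, hcz, hez, smul_zero]
  have hiter : ∀ k : ℕ, φN^[k] a = a + ((∑ i ∈ Finset.range k, r ^ i : ℕ) : ℤ) • c := by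
    intro k
    induction k with
    | zero => simp
    | succ k ih =>
      rw [Function.iterate_succ_apply', ih, map_add, hφa, map_zsmul, hcfix, ← mul_smul, add_assoc,
        geom_sum_succ]
      congr 1
      push_cast
      rw [add_zsmul, one_zsmul, mul_comm, add_comm]
  have hiterz : ∀ k : ℕ, φN^[k] z = z := fun k => by
    induction k with
    | zero => rfl
    | succ k ih => rw [Function.iterate_succ_apply', ih, hφz]
  have hφn : ∀ x, φN^[n] x = x := by
    intro x
    obtain ⟨⟨i, j⟩, rfl⟩ := QuotientAddGroup.mk_surjective x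
    rw [hmk i j, iterate_map_add, iterate_map_zsmul, iterate_map_zsmul, hiter, hiterz, ← hS,
      hcdiv S heS, add_zero]
  obtain ⟨n', hn'⟩ := Nat.exists_eq_add_one.2 hn
  let α : MulAut (Multiplicative ((ℤ × ZMod e) ⧸ K)) := AddEquiv.toMultiplicative
    { toFun := φN
      invFun := φN^[n']
      left_inv := fun x => by
        have := hφn x
        rw [hn', Function.iterate_succ_apply] at this
        exact this
      right_inv := fun x => by
        have := hφn x
        rw [hn', Function.iterate_succ_apply'] at this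
        exact this
      map_add' := φN.map_add }
  have hαapp : ∀ x, α (Multiplicative.ofAdd x) = Multiplicative.ofAdd (φN x) := fun x => rfl
  have hαpow : ∀ (k : ℕ) x, (α ^ k) (Multiplicative.ofAdd x) = Multiplicative.ofAdd (φN^[k] x) := by
    intro k
    induction k with
    | zero => intro x; simp
    | succ k ih => intro x; rw [pow_succ, MulAut.mul_apply, hαapp, ih, Function.iterate_succ_apply]
  have hαn : α ^ n = 1 := MulEquiv.ext fun x => by
    rw [← ofAdd_toAdd x, hαpow, hφn]; rfl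
  let θ : Multiplicative ℤ →* MulAut (Multiplicative ((ℤ × ZMod e) ⧸ K)) := zpowersHom _ α
  have hθ : ∀ k : ℤ, θ (Multiplicative.ofAdd k) = α ^ k := fun k => rfl
  have htfix : φN ((md * l : ℕ) • a) = (md * l : ℕ) • a := by
    rw [map_nsmul, hφa, nsmul_add, ← natCast_zsmul c, hcdiv (md * l) (by rw [mul_comm e]; exact mul_dvd_mul_left md hel),
      add_zero]
  let aS : Multiplicative ((ℤ × ZMod e) ⧸ K) ⋊[θ] Multiplicative ℤ :=
    SemidirectProduct.inl (Multiplicative.ofAdd a)
  let bS : Multiplicative ((ℤ × ZMod e) ⧸ K) ⋊[θ] Multiplicative ℤ :=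
    SemidirectProduct.inr (Multiplicative.ofAdd 1)
  let q : Multiplicative ((ℤ × ZMod e) ⧸ K) ⋊[θ] Multiplicative ℤ :=
    ⟨Multiplicative.ofAdd (-((md * l : ℕ) • a)), Multiplicative.ofAdd (n : ℤ)⟩
  have hfix' : ∀ k : Multiplicative ℤ,
      θ k (Multiplicative.ofAdd (-((md * l : ℕ) • a))) = Multiplicative.ofAdd (-((md * l : ℕ) • a)) := by
    intro k
    have h1 : α ∈ MulAction.stabilizer (MulAut (Multiplicative ((ℤ × ZMod e) ⧸ K)))
        (Multiplicative.ofAdd (-((md * l : ℕ) • a))) := by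
      show α _ = _
      rw [hαapp, map_neg, htfix]
    exact Subgroup.zpow_mem _ h1 k.toAdd
  have hqc : ∀ x, x * q = q * x := by
    rintro ⟨x, k⟩
    refine SemidirectProduct.ext ?_ ?_
    · show x * θ k _ = _ * θ (Multiplicative.ofAdd (n : ℤ)) x
      rw [hfix', hθ, zpow_natCast, hαn, MulAut.one_apply, mul_comm]
    · exact mul_comm k _
  haveI : (Subgroup.zpowers q).Normal := ⟨fun y hy g => by
    obtain ⟨k, rfl⟩ := Subgroup.mem_zpowers_iff.1 hy
    rw [(show Commute g (q ^ k) from Commute.zpow_right (hqc g) k).eq, mul_inv_cancel_right]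
    exact Subgroup.zpow_mem _ (Subgroup.mem_zpowers q) k⟩
  let Γ := (Multiplicative ((ℤ × ZMod e) ⧸ K) ⋊[θ] Multiplicative ℤ) ⧸ Subgroup.zpowers q
  let mk := QuotientGroup.mk' (Subgroup.zpowers q)
  let zS : Multiplicative ((ℤ × ZMod e) ⧸ K) ⋊[θ] Multiplicative ℤ :=
    SemidirectProduct.inl (Multiplicative.ofAdd z)
  have hzc : ∀ x, x * zS = zS * x := by
    rintro ⟨x, k⟩
    refine SemidirectProduct.ext ?_ ?_
    · show x * θ k (Multiplicative.ofAdd z) = Multiplicative.ofAdd z * θ 1 x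
      have h1 : α ∈ MulAction.stabilizer (MulAut (Multiplicative ((ℤ × ZMod e) ⧸ K)))
          (Multiplicative.ofAdd z) := by show α _ = _; rw [hαapp, hφz]
      rw [show θ k (Multiplicative.ofAdd z) = Multiplicative.ofAdd z from
        Subgroup.zpow_mem _ h1 k.toAdd, map_one, MulAut.one_apply, mul_comm]
    · exact mul_comm k 1
  -- components of powers of `q`
  have hqright : ∀ k : ℤ, (q ^ k).right = Multiplicative.ofAdd (k * n) := fun k => by
    rw [← SemidirectProduct.rightHom_eq_right, map_zpow]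
    apply Multiplicative.toAdd.injective
    rw [toAdd_zpow]
    show k • (n : ℤ) = k * n
    rfl
  have hfree : ∀ x : (ℤ × ZMod e) ⧸ K,
      mk (SemidirectProduct.inl (Multiplicative.ofAdd x)) = 1 → x = 0 := by
    intro x hx
    obtain ⟨k, hk⟩ := Subgroup.mem_zpowers_iff.1 ((QuotientGroup.eq_one_iff _).1 hx)
    have h1 := congrArg SemidirectProduct.right hk
    rw [hqright, SemidirectProduct.right_inl] at h1
    have hk0 : k = 0 := by
      rcases mul_eq_zero.1 (Multiplicative.ofAdd.injective h1 : k * (n : ℤ) = 0) with h | h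
      · exact h
      · omega
    rw [hk0, zpow_zero] at hk
    exact (Multiplicative.ofAdd.injective (congrArg SemidirectProduct.left hk)).symm
  -- the map onto the presented group
  obtain ⟨hA, hBn, hBA⟩ := meta_rels m n r (md * l)
  set A : Meta m n r (md * l) := PresentedGroup.of true with hAdef
  set Bg : Meta m n r (md * l) := PresentedGroup.of false with hBdef
  let f0 : ℤ × ZMod e →+ Additive (Meta m n r (md * l)) := AddMonoidHom.mk'
    (fun x => Additive.ofMul (A ^ x.1)) fun x y => by rw [← ofMul_mul, ← zpow_add]; rfl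
  have hf0 : K ≤ f0.ker := by
    rw [hK, AddSubgroup.zmultiples_le, AddMonoidHom.mem_ker]
    show Additive.ofMul (A ^ (m : ℤ)) = 0
    rw [zpow_natCast, hA, ofMul_one]
  let fN : Multiplicative ((ℤ × ZMod e) ⧸ K) →* Meta m n r (md * l) :=
    AddMonoidHom.toMultiplicativeLeft (QuotientAddGroup.lift K f0 hf0)
  have hfN : ∀ (i : ℤ) (j : ZMod e),
      fN (Multiplicative.ofAdd (QuotientAddGroup.mk (i, j))) = A ^ i := fun i j => rfl
  have hfα : ∀ x, fN (α x) = Bg * fN x * Bg⁻¹ := by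
    intro x
    obtain ⟨⟨i, j⟩, hx⟩ := QuotientAddGroup.mk_surjective x.toAdd
    rw [← ofAdd_toAdd x, ← hx, hαapp, QuotientAddGroup.map_mk, hfN]
    show A ^ ((r : ℤ) * i) = _
    rw [zpow_mul, zpow_natCast, ← hBA, conj_zpow, hfN]
  have hfθ : ∀ g : Multiplicative ℤ, fN.comp (θ g).toMonoidHom =
      (MulAut.conj (zpowersHom (Meta m n r (md * l)) Bg g)).toMonoidHom.comp fN := by
    intro g
    have key : ∀ k : ℤ, ∀ x, fN ((α ^ k) x) = Bg ^ k * fN x * (Bg ^ k)⁻¹ := by
      intro k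
      induction k with
      | zero => intro x; simp
      | succ k ih => intro x; rw [zpow_add_one, MulAut.mul_apply, ih, hfα, zpow_add_one]; group
      | pred k ih =>
        intro x
        have h := ih x
        have h2 : fN ((α⁻¹) x) = Bg⁻¹ * fN x * Bg := by
          have h3 := hfα (α⁻¹ x)
          rw [MulAut.apply_inv_self] at h3
          rw [h3]; group
        rw [zpow_sub_one, MulAut.mul_apply, ih, h2, zpow_sub_one]; group
    exact MonoidHom.ext fun x => key g.toAdd x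
  let f : Multiplicative ((ℤ × ZMod e) ⧸ K) ⋊[θ] Multiplicative ℤ →* Meta m n r (md * l) :=
    SemidirectProduct.lift fN (zpowersHom _ Bg) hfθ
  have hfa : f aS = A := by
    simp only [f, aS, SemidirectProduct.lift_inl]
    exact (hfN 1 0).trans (zpow_one A)
  have hfb : f bS = Bg := by simp [f, bS, SemidirectProduct.lift_inr]
  have hfq : f q = 1 := by
    show fN (Multiplicative.ofAdd (-((md * l : ℕ) • a))) * Bg ^ (n : ℤ) = 1
    rw [ofAdd_neg, map_inv, ofAdd_nsmul, map_pow, zpow_natCast, hBn]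
    show ((fN (Multiplicative.ofAdd a)) ^ (md * l))⁻¹ * _ = 1
    rw [show fN (Multiplicative.ofAdd a) = A from (hfN 1 0).trans (zpow_one A), inv_mul_cancel]
  let σ : Γ →* Meta m n r (md * l) :=
    QuotientGroup.lift (Subgroup.zpowers q) f (Subgroup.zpowers_le.2 hfq)
  have hσsurj : Function.Surjective σ := by
    rw [← MonoidHom.range_eq_top, eq_top_iff, ← meta_gen m n r (md * l), Subgroup.closure_le]
    intro x hx
    rcases hx with rfl | rfl
    · exact ⟨mk aS, hfa⟩
    · exact ⟨mk bS, hfb⟩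
  -- normal forms
  have hdec : ∀ g : Γ, ∃ (x : (ℤ × ZMod e) ⧸ K) (k : ℤ),
      g = mk (SemidirectProduct.inl (Multiplicative.ofAdd x)) * mk bS ^ k := by
    intro g
    obtain ⟨w, rfl⟩ := QuotientGroup.mk'_surjective _ g
    refine ⟨w.left.toAdd, w.right.toAdd, ?_⟩
    rw [← map_zpow, ← map_mul, ← map_zpow SemidirectProduct.inr, ← ofAdd_zsmul, smul_eq_mul,
      mul_one, ofAdd_toAdd, ofAdd_toAdd, SemidirectProduct.inl_left_mul_inr_right]
  haveI : Finite ((ℤ × ZMod e) ⧸ K) := by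
    haveI : NeZero m := ⟨by rw [hm]; exact (Nat.mul_pos hmd hd0).ne'⟩
    refine Finite.of_surjective (fun p : Fin m × ZMod e => QuotientAddGroup.mk ((p.1.val : ℤ), p.2)) ?_
    intro x
    obtain ⟨⟨i, j⟩, rfl⟩ := QuotientAddGroup.mk_surjective x
    refine ⟨(⟨(i % (m : ℤ)).toNat, ?_⟩, j + (i / (m : ℤ) : ℤ) * (κ : ZMod e)), ?_⟩
    · have := Int.emod_lt_of_pos i (show (0 : ℤ) < m by exact_mod_cast (NeZero.pos m))
      have := Int.emod_nonneg i (show (m : ℤ) ≠ 0 by exact_mod_cast (NeZero.ne m))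
      omega
    · apply (QuotientAddGroup.eq).2
      rw [hK, AddSubgroup.mem_zmultiples_iff]
      refine ⟨i / (m : ℤ), ?_⟩
      have hnn := Int.emod_nonneg i (show (m : ℤ) ≠ 0 by exact_mod_cast (NeZero.ne m))
      have := Int.emod_def i (m : ℤ)
      ext
      · simp only [Prod.smul_fst, smul_eq_mul, Prod.fst_add, Prod.fst_neg, Int.toNat_of_nonneg hnn]
        rw [this]; ring
      · simp
  haveI hΓfin : Finite Γ := by
    refine Finite.of_surjective (fun p : ((ℤ × ZMod e) ⧸ K) × Fin n =>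
      mk (SemidirectProduct.inl (Multiplicative.ofAdd p.1)) * mk bS ^ (p.2.val : ℤ)) ?_
    intro g
    obtain ⟨x, k, rfl⟩ := hdec g
    have hbn : mk bS ^ (n : ℤ) = mk (SemidirectProduct.inl (Multiplicative.ofAdd ((md * l : ℕ) • a))) := by
      rw [← map_zpow]
      refine QuotientGroup.eq.2 ?_
      refine Subgroup.mem_zpowers_iff.2 ⟨-1, ?_⟩
      rw [zpow_neg_one, eq_inv_mul_iff_mul_eq, mul_inv_eq_iff_eq_mul]
      refine SemidirectProduct.ext ?_ ?_
      · rw [← map_zpow SemidirectProduct.inr, ← ofAdd_zsmul]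
        simp [q, map_one]
      · rw [← map_zpow SemidirectProduct.inr, ← ofAdd_zsmul]
        simp [q]
    refine ⟨(x + (k / (n : ℤ)) • ((md * l : ℕ) • a),
      ⟨(k % (n : ℤ)).toNat, by have := Int.emod_lt_of_pos k (show (0:ℤ) < n by omega); omega⟩), ?_⟩
    simp only [Int.toNat_of_nonneg (Int.emod_nonneg k (by omega : (n : ℤ) ≠ 0))]
    conv_rhs => rw [show k = (n : ℤ) * (k / n) + k % n from (Int.mul_ediv_add_emod k n).symm]
    rw [zpow_add, zpow_mul, hbn,
      ← map_zpow mk (SemidirectProduct.inl (Multiplicative.ofAdd ((md * l : ℕ) • a))), ← map_zpow SemidirectProduct.inl, ← ofAdd_zsmul,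
      ← mul_assoc, ← map_mul mk, ← map_mul SemidirectProduct.inl, ← ofAdd_add]
  -- `Γ ⧸ ⟨z⟩` satisfies the relations
  have hzmc : mk zS ∈ Subgroup.center Γ := Subgroup.mem_center_iff.2 fun g => by
    obtain ⟨w, rfl⟩ := QuotientGroup.mk'_surjective _ g
    show mk w * mk zS = mk zS * mk w
    rw [← map_mul, ← map_mul, hzc]
  haveI : (Subgroup.zpowers (mk zS)).Normal := ⟨fun y hy g => by
    rw [Subgroup.mem_center_iff.1 (Subgroup.zpowers_le.2 hzmc hy) g, mul_inv_cancel_right]
    exact hy⟩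
  let π := QuotientGroup.mk' (Subgroup.zpowers (mk zS))
  have hπz : π (mk zS) = 1 := (QuotientGroup.eq_one_iff _).2 (Subgroup.mem_zpowers _)
  have hinl : ∀ (i : ℤ) (j : ZMod e), π (mk (SemidirectProduct.inl
      (Multiplicative.ofAdd (QuotientAddGroup.mk (i, j))))) = π (mk aS) ^ i := by
    intro i j
    rw [hmk, ofAdd_add, ofAdd_zsmul, ofAdd_zsmul, map_mul, map_mul, map_mul, map_zpow, map_zpow,
      map_zpow, map_zpow, map_zpow, map_zpow, hπz, one_zpow, mul_one]
  have hback : ∀ x ∈ rels m n r (md * l),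
      FreeGroup.lift (fun b => if b then π (mk aS) else π (mk bS)) x = 1 := by
    intro x hx
    rcases hx with rfl | rfl | rfl
    · simp only [map_pow, FreeGroup.lift_apply_of, if_true]
      rw [← zpow_natCast, ← hinl (m : ℤ) (-(κ : ZMod e))]
      have h0 : (QuotientAddGroup.mk ((m : ℤ), -(κ : ZMod e)) : (ℤ × ZMod e) ⧸ K) = 0 :=
        (QuotientAddGroup.eq_zero_iff _).2 (AddSubgroup.mem_zmultiples _)
      rw [h0, ofAdd_zero, map_one, map_one, map_one]
    · simp only [map_mul, map_inv, map_pow, FreeGroup.lift_apply_of, if_true, Bool.false_eq_true,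
        if_false]
      rw [mul_inv_eq_one, ← map_pow π, ← map_pow π, ← map_pow mk, ← map_pow mk]
      apply congrArg π
      refine QuotientGroup.eq.2 ?_
      refine Subgroup.mem_zpowers_iff.2 ⟨-1, ?_⟩
      rw [zpow_neg_one, eq_inv_mul_iff_mul_eq, mul_inv_eq_iff_eq_mul]
      refine SemidirectProduct.ext ?_ ?_
      · simp [aS, bS, q, ← map_pow, ← ofAdd_nsmul, map_one]
      · simp [aS, bS, q, ← map_pow, ← ofAdd_nsmul]
    · simp only [map_mul, map_inv, map_pow, FreeGroup.lift_apply_of, if_true, Bool.false_eq_true,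
        if_false]
      rw [mul_inv_eq_one, ← map_mul, ← map_inv, ← map_mul, ← map_mul, ← map_inv, ← map_mul]
      have : bS * aS * bS⁻¹ = SemidirectProduct.inl (Multiplicative.ofAdd
          (QuotientAddGroup.mk ((r : ℤ), (s : ZMod e)) : (ℤ × ZMod e) ⧸ K)) := by
        show SemidirectProduct.inr _ * SemidirectProduct.inl _ * (SemidirectProduct.inr _)⁻¹ = _
        rw [← map_inv, ← SemidirectProduct.inl_aut, hθ, zpow_one, hαapp]
        congr 2
        show φN (QuotientAddGroup.mk _) = _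
        rw [QuotientAddGroup.map_mk]
        congr 1
        ext <;> simp [φ0]
      rw [this, hinl, zpow_natCast]
  let ψ : Meta m n r (md * l) →* Γ ⧸ Subgroup.zpowers (mk zS) := PresentedGroup.toGroup hback
  have hcompψ : ∀ g : Γ, ψ (σ g) = π g := by
    intro g
    obtain ⟨x, k, rfl⟩ := hdec g
    obtain ⟨⟨i, j⟩, rfl⟩ := QuotientAddGroup.mk_surjective x
    rw [map_mul, map_mul, map_mul, map_zpow, map_zpow, map_zpow, hinl]
    congr 1
    · show ψ (f (SemidirectProduct.inl _)) = _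
      simp only [f, SemidirectProduct.lift_inl, hfN, map_zpow]
      congr 1
      exact PresentedGroup.toGroup.of hback
    · show ψ (f bS) ^ k = _
      rw [hfb]
      congr 1
      exact PresentedGroup.toGroup.of hback
  have hkle : σ.ker ≤ Subgroup.zpowers (mk zS) := fun g hg =>
    (QuotientGroup.eq_one_iff g).1 (show π g = 1 by
      rw [← hcompψ, MonoidHom.mem_ker.1 hg, map_one])
  have hσz : σ (mk zS) = 1 := by
    show f (SemidirectProduct.inl _) = 1
    simp only [f, SemidirectProduct.lift_inl]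
    exact (hfN 0 1).trans (zpow_zero A)
  have hker : σ.ker = Subgroup.zpowers (mk zS) := le_antisymm hkle (Subgroup.zpowers_le.2 hσz)
  have hzero : ∀ (i : ℤ) (j : ZMod e), (QuotientAddGroup.mk (i, j) : (ℤ × ZMod e) ⧸ K) = 0 →
      (m : ℤ) ∣ i ∧ (i = 0 → j = 0) := by
    intro i j h
    obtain ⟨k, hk⟩ := AddSubgroup.mem_zmultiples_iff.1 ((QuotientAddGroup.eq_zero_iff _).1 h)
    have h1 : k * m = i := by simpa using congrArg Prod.fst hk
    refine ⟨⟨k, by rw [← h1, mul_comm]⟩, fun hi => ?_⟩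
    have hk0 : k = 0 := by
      rcases mul_eq_zero.1 (h1.trans hi) with h2 | h2
      · exact h2
      · rw [hm] at h2; exfalso; exact (Nat.mul_pos hmd hd0).ne' (Int.natCast_eq_zero.1 h2)
    simpa [hk0] using (congrArg Prod.snd hk).symm
  have hzord : orderOf (mk zS) = e := by
    rw [orderOf_eq_iff he]
    refine ⟨?_, fun k hk hk0 hk1 => ?_⟩
    · rw [← map_pow, ← map_pow SemidirectProduct.inl, ← ofAdd_nsmul, ← natCast_zsmul, hez,
        ofAdd_zero, map_one, map_one]
    · rw [← map_pow, ← map_pow SemidirectProduct.inl, ← ofAdd_nsmul, ← natCast_zsmul] at hk1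
      have h := hfree _ hk1
      rw [← QuotientAddGroup.mk_zsmul] at h
      have h2 := (hzero _ _ h).2 (by simp)
      simp only [Prod.smul_snd, zsmul_eq_mul, mul_one, Int.cast_natCast] at h2
      have h2 : (k : ZMod e) = 0 := by simpa using h2
      rw [ZMod.natCast_eq_zero_iff] at h2
      exact absurd (Nat.le_of_dvd hk0 h2) (Nat.not_le.2 hk)
  refine ⟨⟨Γ, inferInstance, hΓfin, σ, ⟨hσsurj, ?_, ?_⟩, ?_⟩, ?_⟩
  · rw [hker]; exact Subgroup.zpowers_le.2 hzmc
  · rw [hker, Subgroup.zpowers_le]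
    have hcc : ⁅bS, aS⁆ = SemidirectProduct.inl (Multiplicative.ofAdd c) := by
      show SemidirectProduct.inr _ * SemidirectProduct.inl _ * (SemidirectProduct.inr _)⁻¹ * _⁻¹ = _
      rw [← map_inv, ← SemidirectProduct.inl_aut, hθ, zpow_one, hαapp, hφa, mul_inv_eq_iff_eq_mul,
        ← map_mul, ← ofAdd_add, add_comm]
    have hz : zS = ⁅bS, aS⁆ ^ md := by
      rw [hcc, ← map_pow, ← ofAdd_nsmul, ← natCast_zsmul, hcz]
    rw [hz, map_pow, map_commutatorElement]
    refine Subgroup.pow_mem _ ?_ _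
    rw [commutator_def]
    exact Subgroup.commutator_mem_commutator (Subgroup.mem_top _) (Subgroup.mem_top _)
  · haveI : IsCyclic σ.ker := by
      rw [hker]; exact Subgroup.isCyclic_zpowers _
    exact ⟨mulEquivOfCyclicCardEq (by rw [hker, Nat.card_zpowers, hzord]; simp)⟩
  · intro i hi
    have h1 : σ (mk (SemidirectProduct.inl (Multiplicative.ofAdd
        (QuotientAddGroup.mk (i, (0 : ZMod e)) : (ℤ × ZMod e) ⧸ K)))) = 1 := by
      show f (SemidirectProduct.inl _) = 1
      simp only [f, SemidirectProduct.lift_inl, hfN, hi]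
    obtain ⟨k, hk⟩ := Subgroup.mem_zpowers_iff.1 (hkle h1)
    rw [← map_zpow, ← map_zpow SemidirectProduct.inl, ← ofAdd_zsmul] at hk
    have h2 := hk.symm
    rw [← inv_mul_eq_one, ← map_inv, ← map_mul, ← map_inv, ← map_mul, ← ofAdd_neg, ← ofAdd_add] at h2
    have h3 := hfree _ h2
    rw [← QuotientAddGroup.mk_zsmul, ← QuotientAddGroup.mk_neg, ← QuotientAddGroup.mk_add] at h3
    have h4 := (hzero _ _ h3).1
    simpa using h4

/-- Let `m, n ≥ 1`, `r ≥ 1` with `r ^ n ≡ 1 (mod m)`, and `l` a natural number; put `d = gcd(m, r - 1)`, `t = m l / d` and `h = d · gcd(m, 1 + r + ⋯ + r^(n-1)) / m`. The group presented by generators `a, b` and relations `a ^ m = 1`, `b ^ n = a ^ t`, `b a b⁻¹ = a ^ r` (a metacyclic group of order `m n`) has Schur multiplier cyclic of order `gcd(l, h)`. -/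
theorem result (m n r l : ℕ) (hm : 0 < m) (hn : 0 < n) (hr : 0 < r) (hrn : r ^ n ≡ 1 [MOD m]) : Cfsg.HasCyclicSchurMultiplier (PresentedGroup ({FreeGroup.of true ^ m, (FreeGroup.of false) ^ n * (FreeGroup.of true ^ (m * l / Nat.gcd m (r - 1)))⁻¹, FreeGroup.of false * FreeGroup.of true * (FreeGroup.of false)⁻¹ * (FreeGroup.of true ^ r)⁻¹} : Set (FreeGroup Bool))) (Nat.gcd l (Nat.gcd m (r - 1) * Nat.gcd m (∑ i ∈ Finset.range n, r ^ i) / m)) := by
  obtain ⟨d, md, h, S, e, hd, hmd, hmd0, hd0, hS, hg, hhd, he, heh, ht, he0⟩ :=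
    numbers m n r l hm hn hr hrn
  rw [ht, ← he]
  change Cfsg.HasCyclicSchurMultiplier (Meta m n r (md * l)) e
  have hel : e ∣ l := heh ▸ Nat.gcd_dvd_left _ _
  have hee : e ∣ h := heh ▸ Nat.gcd_dvd_right _ _
  obtain ⟨hex, hord⟩ := model m n r d md S e l hn hr hd hmd hmd0 hd0 hS he0 (hee.trans hhd)
    ((mul_dvd_mul_right hee md).trans (hg ▸ Nat.gcd_dvd_right m S)) hel
  refine ⟨hex, fun Γ _ _ σ hσ => ?_⟩
  obtain ⟨a, ha⟩ := hσ.1 (PresentedGroup.of true)
  obtain ⟨b, hb⟩ := hσ.1 (PresentedGroup.of false)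
  obtain ⟨hA, hBn, hBA⟩ := meta_rels m n r (md * l)
  have hgen : Subgroup.closure ({a, b} : Set Γ) = ⊤ := by
    refine SchurMultiplierBasic.stem_eq_top_of_map_eq_top hσ _ ?_
    rw [MonoidHom.map_closure, Set.image_pair, ha, hb, meta_gen]
  set c := b * a * b⁻¹ * a⁻¹ with hc
  have hcen : ∀ w ∈ σ.ker, ∀ g : Γ, g * w = w * g := fun w hw =>
    Subgroup.mem_center_iff.1 (hσ.2.1 hw)
  set z := b * a * b⁻¹ * (a ^ r)⁻¹ with hzdef
  have hzk : z ∈ σ.ker := by
    rw [MonoidHom.mem_ker, hzdef, map_mul, map_mul, map_mul, map_inv, map_inv, map_pow, ha, hb,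
      hBA, mul_inv_cancel]
  have hba : b * a * b⁻¹ = a ^ r * z := by
    rw [hcen z hzk (a ^ r), hzdef, inv_mul_cancel_right]
  obtain ⟨r', hr'⟩ := Nat.exists_eq_add_one.2 hr
  have hc' : c = a ^ r' * z := by
    rw [hc, hba, hr', pow_succ, mul_assoc (a ^ r'), hcen z hzk a, mul_assoc (a ^ r'),
      mul_inv_cancel_right]
  have hac : a * c = c * a := by
    rw [hc', ← mul_assoc, ← pow_succ', pow_succ, mul_assoc, hcen z hzk a, ← mul_assoc]
  have hbc : b * c * b⁻¹ = c ^ r := by
    calc b * c * b⁻¹ = (b * a * b⁻¹) ^ r' * (b * z * b⁻¹) := by rw [hc', conj_pow]; group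
      _ = (a ^ r * z) ^ r' * z := by rw [hba, hcen z hzk b, mul_inv_cancel_right]
      _ = (a ^ r') ^ r * (z ^ r' * z) := by
          rw [Commute.mul_pow (hcen z hzk (a ^ r)), ← pow_mul, mul_comm r r', pow_mul, mul_assoc]
      _ = c ^ r := by
          rw [hc', Commute.mul_pow (hcen z hzk (a ^ r')), ← pow_succ, ← hr']
  have hcfix : ∀ k : ℕ, b * a ^ k = a ^ k * b → c ^ k = 1 := by
    intro k hk
    have h1 : b * a ^ k * b⁻¹ = a ^ k := by rw [hk, mul_inv_cancel_right]
    rw [← conj_pow, show b * a * b⁻¹ = c * a by rw [hc, inv_mul_cancel_right],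
      Commute.mul_pow (show Commute c a from hac.symm)] at h1
    exact mul_eq_right.1 h1
  have hcm : c ^ m = 1 := hcfix m (hcen (a ^ m) (by rw [MonoidHom.mem_ker, map_pow, ha, hA]) b)
  obtain ⟨w, hwk, hbn⟩ : ∃ w ∈ σ.ker, b ^ n = a ^ (md * l) * w :=
    ⟨(a ^ (md * l))⁻¹ * b ^ n, by
      rw [MonoidHom.mem_ker, map_mul, map_inv, map_pow, map_pow, ha, hb, hBn, inv_mul_cancel],
      by group⟩
  have hct : c ^ (md * l) = 1 := by
    refine hcfix _ ?_
    have h1 : a ^ (md * l) = b ^ n * w⁻¹ := by rw [hbn, mul_inv_cancel_right]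
    rw [h1, ← mul_assoc, ← pow_succ', pow_succ, mul_assoc, hcen w⁻¹ (σ.ker.inv_mem hwk) b, ← mul_assoc]
  have hcS : c ^ S = 1 := by
    have h1 := conj_iter a b c r hac (by rw [hc, inv_mul_cancel_right]) hbc n
    rw [← hS, hbn, mul_inv_rev] at h1
    have h2 : a ^ (md * l) * w * a * (w⁻¹ * (a ^ (md * l))⁻¹) = a := by
      have h3 : w * a * w⁻¹ = a := by rw [← hcen w hwk a, mul_inv_cancel_right]
      calc a ^ (md * l) * w * a * (w⁻¹ * (a ^ (md * l))⁻¹)
          = a ^ (md * l) * (w * a * w⁻¹) * (a ^ (md * l))⁻¹ := by group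
        _ = a := by rw [h3, (Commute.self_pow a (md * l)).eq.symm, mul_inv_cancel_right]
    rw [h2, right_eq_mul] at h1
    exact h1
  have hcg : c ^ (h * md) = 1 := hg ▸ pow_gcd_eq_one.2 ⟨hcm, hcS⟩
  have hle : commutator Γ ≤ Subgroup.zpowers c := by
    refine SchurMultiplierBasic.commutator_le_zpowers a b c hgen hc.symm ?_ ?_
    · rw [hac, mul_inv_cancel_right]; exact Subgroup.mem_zpowers c
    · rw [hbc]; exact Subgroup.pow_mem _ (Subgroup.mem_zpowers c) r
  have hσc : σ c = (PresentedGroup.of true : Meta m n r (md * l)) ^ r' := by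
    rw [hc', map_mul, map_pow, ha, MonoidHom.mem_ker.1 hzk, mul_one]
  have hmem : c ^ md ∈ σ.ker := by
    rw [MonoidHom.mem_ker, map_pow, hσc, ← pow_mul]
    have : m ∣ r' * md := by
      have h1 : d ∣ r' := by rw [hd]; exact (Nat.gcd_dvd_right m (r - 1)).trans (by rw [hr', Nat.add_sub_cancel])
      rw [hmd, mul_comm md d]
      exact mul_dvd_mul_right h1 md
    obtain ⟨k, hk⟩ := this
    rw [hk, pow_mul, hA, one_pow]
  refine SchurMultiplierBasic.exists_surjective_zmod e (⟨c ^ md, hmem⟩ : σ.ker)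
    (Subtype.ext ?_) ?_
  · show (c ^ md) ^ e = 1
    rw [heh]
    refine pow_gcd_eq_one.2 ⟨?_, ?_⟩
    · rw [← pow_mul]; exact hct
    · rw [← pow_mul, mul_comm]; exact hcg
  · rintro ⟨g, hgk⟩
    obtain ⟨k, rfl⟩ := Subgroup.mem_zpowers_iff.1 (hle (hσ.2.2 hgk))
    have h1 : (PresentedGroup.of true : Meta m n r (md * l)) ^ ((r' : ℤ) * k) = 1 := by
      rw [zpow_mul, zpow_natCast, ← hσc, ← map_zpow]
      exact hgk
    have h2 := hord _ h1
    obtain ⟨j, hj⟩ : (md : ℤ) ∣ k := by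
      obtain ⟨rd, hrd⟩ : d ∣ r' := by
        rw [hd]; exact (Nat.gcd_dvd_right m (r - 1)).trans (by rw [hr', Nat.add_sub_cancel])
      have hco : Nat.Coprime md rd := by
        have h3 := Nat.gcd_mul_left d md rd
        have h4 : r - 1 = d * rd := by rw [← hrd, hr', Nat.add_sub_cancel]
        rw [← h4, mul_comm d md, ← hmd, ← hd] at h3
        exact Nat.eq_of_mul_eq_mul_left hd0 (by rw [mul_one]; exact h3.symm)
      rw [hrd, hmd] at h2
      push_cast at h2
      rw [mul_comm (md : ℤ) (d : ℤ), mul_assoc] at h2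
      exact (Nat.isCoprime_iff_coprime.2 hco).dvd_of_dvd_mul_left
        (Int.dvd_of_mul_dvd_mul_left (by exact_mod_cast hd0.ne') h2)
    refine Subgroup.mem_zpowers_iff.2 ⟨j, Subtype.ext ?_⟩
    show (c ^ md) ^ j = c ^ k
    rw [hj, zpow_mul, zpow_natCast]

end Cfsg.Agent.S3967
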