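import Cfsg.Statements.S3968
import Mathlib
import Cfsg.Agent.Lib.CharBasicOrth
import Cfsg.Agent.Lib.CharBasicDecomp
import Cfsg.Agent.Lib.CharInducedBurnside

set_option autoImplicit false
open Cfsg

namespace Cfsg.Agent.S3968


/-- Endomorphisms commuting with an operator with simple spectrum are diagonal. -/
theorem diag_of_commute {ι V : Type*} [Fintype ι] [AddCommGroup V] [Module ℂ V]
    (b : Module.Basis ι ℂ V) (μ : ι → ℂ) (hμ : Function.Injective μ) (D T : Module.End ℂ V)
    (hD : ∀ i, D (b i) = μ i • b i) (hT : D * T = T * D) (i : ι) : ∃ c : ℂ, T (b i) = c • b i := by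
  classical
  refine ⟨b.repr (T (b i)) i, b.repr.injective (Finsupp.ext fun j => ?_)⟩
  rcases eq_or_ne j i with rfl | hne
  · simp
  · rw [map_smul, b.repr_self, Finsupp.smul_apply, Finsupp.single_eq_of_ne hne, smul_zero]
    have h1 : D (T (b i)) = μ i • T (b i) := by
      rw [← Module.End.mul_apply, hT, Module.End.mul_apply, hD, map_smul]
    have h2 : ∀ v, b.repr (D v) j = μ j * b.repr v j := fun v => by
      conv_lhs => rw [← b.sum_repr v]
      simp only [map_sum, map_smul, hD, b.repr_self, Finsupp.coe_finsetSum, Finset.sum_apply,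
        Finsupp.smul_apply, smul_eq_mul]
      rw [Finset.sum_eq_single j (fun k _ hk => by rw [Finsupp.single_eq_of_ne hk.symm]; simp) (by simp)]
      rw [Finsupp.single_eq_same]; ring
    have h3 := h2 (T (b i))
    rw [h1, map_smul, Finsupp.smul_apply, smul_eq_mul] at h3
    by_contra hc
    exact hne (hμ (mul_right_cancel₀ hc h3).symm)

/-- Let `p` be a prime and `G` a finite group with a faithful irreducible complex character of degree `p` (so `G` is an irreducible linear group in `p` variables). If `p ^ 2` divides the order of `G`, then the centre of `G` is nontrivial. -/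
theorem result {G : Type*} [Group G] [Finite G] (p : ℕ) (hp : p.Prime) (χ : Cfsg.IrrCharacter G) (hdeg : χ.1 1 = p) (hfaith : ∀ g : G, χ.1 g = χ.1 1 → g = 1) (hdiv : p ^ 2 ∣ Nat.card G) : Subgroup.center G ≠ ⊥ := by
  haveI := Fact.mk hp
  intro hZ
  obtain ⟨f, hf⟩ := χ
  obtain ⟨m, ρ, hρ, rfl⟩ := hf
  simp only at hdeg hfaith
  have hfin : Module.finrank ℂ (Fin m → ℂ) = p := by
    rw [Representation.char_one] at hdeg; exact_mod_cast hdeg
  have hinj : ∀ a b : G, ρ a = ρ b → a = b := fun a b hab => by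
    have h1 : ρ (a * b⁻¹) = 1 := by rw [map_mul, hab, ← map_mul, mul_inv_cancel, map_one]
    exact mul_inv_eq_one.1 (hfaith _ (by
      show LinearMap.trace ℂ _ (ρ (a * b⁻¹)) = LinearMap.trace ℂ _ (ρ 1)
      rw [h1, map_one ρ]))
  obtain ⟨P⟩ := (inferInstance : Nonempty (Sylow p G))
  -- vanishing on the centre of `P`
  have hvan : ∀ x ∈ (P : Subgroup G), (∀ y ∈ (P : Subgroup G), y * x = x * y) → x ≠ 1 →
      ρ.character x = 0 := by
    intro x _ hxc hx1
    refine (CharInduced.character_eq_zero_or_norm_eq ρ x ?_).resolve_right fun hn => hx1 ?_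
    · rw [hfin]
      refine hp.coprime_iff_not_dvd.2 fun hd => P.not_dvd_index (hd.trans (Subgroup.index_dvd_of_le ?_))
      exact fun y hy => Subgroup.mem_centralizer_singleton_iff.2 (hxc y hy)
    · obtain ⟨w, hw⟩ := (CharBasic.norm_eq_finrank_iff ρ x).1 hn
      have hc : x ∈ Subgroup.center G := Subgroup.mem_center_iff.2 fun g => hinj _ _ (by
        rw [map_mul, map_mul, hw]
        ext v
        simp)
      rwa [hZ, Subgroup.mem_bot] at hc
  -- a subgroup on which the character vanishes has order dividing `p`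
  have hdvd : ∀ A : Subgroup G, (∀ a ∈ A, a ≠ 1 → ρ.character a = 0) → Nat.card A ∣ p := by
    intro A hA
    classical
    haveI := Fintype.ofFinite A
    obtain ⟨k, hk⟩ := CharBasicOrth.classInner_isCharacter
      (CharBasic.isCharacter_comap A.subtype (CharBasic.isCharacter_of_rep ρ)) (CharBasicDecomp.isCharacter_one (G := A))
    have h1 := CharBasicOrth.card_mul_classInner (G := A) (ρ.character ∘ A.subtype) (fun _ => (1 : ℂ))
    have h2 : ∑ a : A, (ρ.character ∘ A.subtype) a * (starRingEnd ℂ) 1 = p := by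
      rw [Finset.sum_eq_single (1 : A) (fun a _ ha => by
        simp [hA a a.2 (fun e => ha (Subtype.ext e))]) (by simp)]
      simp [hdeg]
    rw [h2, hk] at h1
    exact ⟨k, by exact_mod_cast h1.symm⟩
  have hcard : Nat.card (P : Subgroup G) ≠ p := by
    intro h
    have h1 : p ^ 2 ∣ Nat.card (P : Subgroup G) := P.pow_dvd_card_of_pow_dvd_card hdiv
    rw [h] at h1
    exact absurd (Nat.le_of_dvd hp.pos h1) (by nlinarith [hp.two_le])
  haveI : Nontrivial (P : Subgroup G) := by
    rw [← Finite.one_lt_card_iff_nontrivial]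
    exact lt_of_lt_of_le hp.one_lt (Nat.le_of_dvd Nat.card_pos (P.dvd_card_of_dvd_card ((dvd_pow_self p two_ne_zero).trans hdiv)))
  haveI := P.isPGroup'.center_nontrivial
  let A : Subgroup G := (Subgroup.center (P : Subgroup G)).map (P : Subgroup G).subtype
  have hA : ∀ a ∈ A, a ∈ (P : Subgroup G) ∧ ∀ y ∈ (P : Subgroup G), y * a = a * y := by
    rintro _ ⟨a, ha, rfl⟩
    exact ⟨a.2, fun y hy => congrArg Subtype.val (Subgroup.mem_center_iff.1 ha ⟨y, hy⟩)⟩
  have hAp : Nat.card A ∣ p := hdvd A fun a ha ha1 => hvan a (hA a ha).1 (hA a ha).2 ha1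
  have hAc : Nat.card A = p := by
    refine ((Nat.dvd_prime hp).1 hAp).resolve_left fun h => ?_
    rw [Subgroup.card_map_of_injective (Subgroup.subtype_injective _)] at h
    exact absurd h (Finite.one_lt_card (α := Subgroup.center (P : Subgroup G))).ne'
  obtain ⟨⟨z, hzA⟩, hz⟩ := exists_prime_orderOf_dvd_card' (G := A) p (dvd_of_eq hAc.symm)
  rw [Subgroup.orderOf_mk] at hz
  obtain ⟨b, μ, h1, h2, -, h4⟩ := CharBasic.exists_rep_eigenbasis ρ z
  have hμ : Function.Injective μ := by
    classical
    intro i j hij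
    have hμ0 : ∀ i, μ i ≠ 0 := fun i h0 => by
      have := h2 i
      rw [h0, zero_pow (orderOf_pos z).ne'] at this
      exact zero_ne_one this
    have h5 : ∑ k, ∑ n ∈ Finset.range p, (μ k * (μ j)⁻¹) ^ n = (p : ℂ) := by
      rw [Finset.sum_comm, Finset.sum_eq_single 0]
      · simp [hfin]
      · intro n hn hn0
        simp only [mul_pow, ← Finset.sum_mul, ← h4]
        rw [hvan (z ^ n) (Subgroup.pow_mem _ (hA z hzA).1 n)
          (fun y hy => ((show Commute y z from (hA z hzA).2 y hy).pow_right n).eq) ?_, zero_mul]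
        intro e
        rw [← orderOf_dvd_iff_pow_eq_one, hz] at e
        exact absurd (Nat.le_of_dvd (Nat.pos_of_ne_zero hn0) e) (not_le.2 (Finset.mem_range.1 hn))
      · simp [hp.ne_zero]
    have h6 : ∀ k, ∑ n ∈ Finset.range p, (μ k * (μ j)⁻¹) ^ n = if μ k = μ j then (p : ℂ) else 0 := by
      intro k
      split_ifs with hk
      · simp [hk, hμ0 j]
      · rw [geom_sum_eq (fun e => hk (by rwa [mul_inv_eq_one₀ (hμ0 j)] at e)), mul_pow, inv_pow,
          ← hz, h2, h2]
        simp
    simp only [h6] at h5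
    rw [← Finset.sum_filter, Finset.sum_const, nsmul_eq_mul, mul_left_eq_self₀] at h5
    have h7 : (Finset.univ.filter fun k => μ k = μ j).card = 1 := by
      have := h5.resolve_right (Nat.cast_ne_zero.2 hp.ne_zero)
      exact_mod_cast this
    exact Finset.card_le_one.1 h7.le i (by simp [hij]) j (by simp)
  have hcomm : ∀ u ∈ (P : Subgroup G), ∀ v ∈ (P : Subgroup G), u * v = v * u := by
    intro u hu v hv
    refine hinj _ _ ?_
    rw [map_mul, map_mul]
    refine b.ext fun i => ?_
    have hd : ∀ w ∈ (P : Subgroup G), ∃ c : ℂ, ρ w (b i) = c • b i := fun w hw =>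
      diag_of_commute b μ hμ (ρ z) (ρ w) h1 (by rw [← map_mul, ← map_mul, (hA z hzA).2 w hw]) i
    obtain ⟨c, hc⟩ := hd u hu
    obtain ⟨d, hd'⟩ := hd v hv
    rw [Module.End.mul_apply, Module.End.mul_apply, hd', hc, map_smul, map_smul, hc, hd', smul_comm]
  refine hcard (Nat.dvd_antisymm (hdvd _ fun a ha ha1 => hvan a ha (fun y hy => hcomm y hy a ha) ha1) ?_)
  exact P.dvd_card_of_dvd_card ((dvd_pow_self p two_ne_zero).trans hdiv)

end Cfsg.Agent.S3968
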