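import Cfsg.Statements.S3969
import Mathlib
import Cfsg.Agent.Lib.BurnsideSmall

set_option autoImplicit false
open Cfsg

namespace Cfsg.Agent.S3969


/-- An automorphism of prime order `q` of a group of order dividing `p ^ d` forces `q` to divide
some `p ^ i - 1`. -/
theorem aut_eq_one {K : Type*} [Group K] [Finite K] {p q d : ℕ} (hp : p.Prime) (hq : q.Prime)
    (hqp : q ≠ p) (hK : Nat.card K ∣ p ^ d) (hd : ∀ i, 1 ≤ i → i ≤ d → ¬ q ∣ p ^ i - 1)
    (φ : MulAut K) (hφ : φ ^ q = 1) (x : K) : φ x = x := by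
  haveI := Fact.mk hq
  let F : Subgroup K := φ.toMonoidHom.eqLocus (MonoidHom.id K)
  suffices hF : F = ⊤ from (hF ▸ Subgroup.mem_top x : x ∈ F)
  by_contra hne
  have hφ1 : φ ≠ 1 := fun e => hne ((Subgroup.eq_top_iff' F).2 fun y => by
    show φ y = y
    rw [e]; rfl)
  have hord : orderOf φ = q := orderOf_eq_prime hφ hφ1
  have hZ : IsPGroup q (Subgroup.zpowers φ) := IsPGroup.of_card (n := 1) (by rw [Nat.card_zpowers, hord, pow_one])
  have hmod := hZ.card_modEq_card_fixedPoints K
  have hfix : Nat.card (MulAction.fixedPoints (Subgroup.zpowers φ) K) = Nat.card F := by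
    refine Nat.card_congr (Equiv.subtypeEquivRight fun y => ⟨fun hy => hy ⟨φ, Subgroup.mem_zpowers φ⟩, ?_⟩)
    rintro hy ⟨ψ, hψ⟩
    obtain ⟨k, rfl⟩ := Subgroup.mem_zpowers_iff.1 hψ
    have hs : φ ∈ MulAction.stabilizer (MulAut K) y := hy
    exact zpow_mem hs k
  rw [hfix] at hmod
  obtain ⟨n, hn, hn'⟩ := (Nat.dvd_prime_pow hp).1 hK
  obtain ⟨w, hw, hw'⟩ := (Nat.dvd_prime_pow hp).1 ((Subgroup.card_subgroup_dvd_card F).trans hK)
  have hlt : Nat.card F < Nat.card K :=
    lt_of_le_of_ne (Subgroup.card_le_card_group F) fun e => hne (Subgroup.eq_top_of_card_eq F e)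
  rw [hn', hw'] at hlt
  have hwn : w < n := (Nat.pow_lt_pow_iff_right hp.one_lt).1 hlt
  have h1 : q ∣ p ^ n - p ^ w := by
    have := (Nat.modEq_iff_dvd' hlt.le).1 (hn' ▸ hw' ▸ hmod.symm)
    exact this
  rw [show p ^ n - p ^ w = p ^ w * (p ^ (n - w) - 1) by
    rw [Nat.mul_sub, mul_one, ← pow_add, Nat.add_sub_cancel' hwn.le]] at h1
  rcases hq.dvd_mul.1 h1 with h2 | h2
  · exact hqp ((Nat.prime_dvd_prime_iff_eq hq hp).1 (hq.dvd_of_dvd_pow h2))
  · exact hd (n - w) (by omega) (by omega) h2

/-- Let `P` be an abelian Sylow `p`-subgroup of the finite group `G`, generated by `d` elements (`d` its minimal number of generators). If the order of `G` is coprime to `(p - 1)(p ^ 2 - 1) ⋯ (p ^ d - 1)`, then `G` has a normal `p`-complement. (The classical statement needs only the largest number of cyclic factors of `P` of equal order in place of `d`; the form here follows from it.) -/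
theorem result {G : Type*} [Group G] [Finite G] (p : ℕ) [Fact p.Prime] (P : Sylow p G) (hab : IsMulCommutative (P : Subgroup G)) (hcop : Nat.Coprime (Nat.card G) (∏ i ∈ Finset.Icc 1 (Group.rank (P : Subgroup G)), (p ^ i - 1))) : Cfsg.HasNormalPComplement p G := by
  classical
  have hp : p.Prime := Fact.out
  refine BurnsideSmall.hasNormalPComplement_of_normalizer_le_centralizer P ?_
  set N := Subgroup.normalizer ((P : Subgroup G) : Set G)
  set C := Subgroup.centralizer ((P : Subgroup G) : Set G) with hC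
  haveI : (C.subgroupOf N).Normal :=
    (Subgroup.normalizerMonoidHom_ker (P : Subgroup G)) ▸ MonoidHom.normal_ker _
  by_contra hNC
  have hidx : (C.subgroupOf N).index ≠ 1 := fun h => hNC (Subgroup.relIndex_eq_one.1 h)
  obtain ⟨q, hq, hqd⟩ := Nat.exists_prime_and_dvd hidx
  haveI := Fact.mk hq
  have hqG : q ∣ Nat.card G :=
    hqd.trans ((Subgroup.index_dvd_card _).trans (Subgroup.card_subgroup_dvd_card N))
  have hqp : q ≠ p := by
    rintro rfl
    refine P.not_dvd_index (hqd.trans ?_)
    have hPC : (P : Subgroup G) ≤ C := fun a ha => Subgroup.mem_centralizer_iff.2 fun b hb =>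
      congrArg Subtype.val (hab.is_comm.comm (⟨b, hb⟩ : (P : Subgroup G)) ⟨a, ha⟩)
    exact (Subgroup.relIndex_dvd_of_le_left N hPC).trans (Subgroup.relIndex_dvd_index_of_le Subgroup.le_normalizer)
  obtain ⟨z, hz⟩ := exists_prime_orderOf_dvd_card' (G := N ⧸ C.subgroupOf N) q hqd
  obtain ⟨y, rfl⟩ := QuotientGroup.mk_surjective z
  let σ : MulAut (P : Subgroup G) := (P : Subgroup G).normalizerMonoidHom y
  have hσq : σ ^ q = 1 := by
    rw [← map_pow, ← MonoidHom.mem_ker, Subgroup.normalizerMonoidHom_ker, ← QuotientGroup.eq_one_iff,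
      QuotientGroup.mk_pow, ← hz]
    exact pow_orderOf_eq_one _
  letI : CommGroup (P : Subgroup G) :=
    { (inferInstance : Group (P : Subgroup G)) with mul_comm := hab.is_comm.comm }
  let f : (P : Subgroup G) →* (P : Subgroup G) := powMonoidHom p
  set d := Group.rank (P : Subgroup G)
  have hker : Nat.card f.ker ∣ p ^ d := by
    have h1 : Nat.card f.ker = f.range.index := by
      refine Nat.eq_of_mul_eq_mul_right (Nat.card_pos (α := f.range)) ?_
      rw [Subgroup.index_mul_card, ← Subgroup.index_ker, mul_comm, Subgroup.index_mul_card]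
    rw [h1]
    refine (card_dvd_exponent_pow_rank' ((P : Subgroup G) ⧸ f.range) (fun g => ?_)).trans
      (pow_dvd_pow p (Group.rank_le_of_surjective (QuotientGroup.mk' f.range) (QuotientGroup.mk'_surjective _)))
    obtain ⟨a, rfl⟩ := QuotientGroup.mk_surjective g
    rw [← QuotientGroup.mk_pow, QuotientGroup.eq_one_iff]
    exact ⟨a, rfl⟩
  have hd : ∀ i, 1 ≤ i → i ≤ d → ¬ q ∣ p ^ i - 1 := fun i h1 h2 hdvd =>
    hq.ne_one (Nat.eq_one_of_dvd_coprimes hcop hqG
      (hdvd.trans (Finset.dvd_prod_of_mem (fun i => p ^ i - 1) (Finset.mem_Icc.2 ⟨h1, h2⟩))))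
  have hmaps : ∀ a, a ∈ f.ker → σ a ∈ f.ker := fun a ha => by
    rw [MonoidHom.mem_ker] at ha ⊢
    show (σ a) ^ p = 1
    rw [← map_pow, show a ^ p = 1 from ha, map_one]
  let φ : MulAut f.ker := MulEquiv.ofBijective
    ((σ.toMonoidHom.comp f.ker.subtype).codRestrict f.ker fun a => hmaps a a.2)
    (Finite.injective_iff_bijective.1 fun a b hab' => Subtype.ext (σ.injective (congrArg Subtype.val hab')))
  have hφ : φ ^ q = 1 := by
    have h : ∀ n : ℕ, ∀ a : f.ker, ((φ ^ n) a : (P : Subgroup G)) = (σ ^ n) a := by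
      intro n
      induction n with
      | zero => intro a; rfl
      | succ n ih =>
        intro a
        rw [pow_succ', pow_succ', MulAut.mul_apply, MulAut.mul_apply, ← ih]
        rfl
    ext a
    rw [h, hσq]
    rfl
  have hfix : ∀ k : ℕ, ∀ x : (P : Subgroup G), x ^ p ^ k = 1 → σ x = x := by
    intro k
    induction k with
    | zero => intro x hx; rw [pow_zero, pow_one] at hx; rw [hx, map_one]
    | succ k ih =>
      intro x hx
      have h1 : σ (x ^ p) = x ^ p := ih _ (by rw [← pow_mul, ← pow_succ', hx])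
      set c := x⁻¹ * σ x with hc
      have hcp : c ^ p = 1 := by rw [hc, mul_pow, inv_pow, ← map_pow, h1, inv_mul_cancel]
      have hcfix : σ c = c :=
        congrArg Subtype.val (aut_eq_one hp hq hqp hker hd φ hφ ⟨c, hcp⟩)
      have hpow : ∀ n : ℕ, (σ ^ n) x = x * c ^ n := by
        intro n
        induction n with
        | zero => simp
        | succ n ihn =>
          rw [pow_succ', MulAut.mul_apply, ihn, map_mul, map_pow, hcfix, pow_succ', ← mul_assoc, hc,
            mul_inv_cancel_left]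
      have hcq : c ^ q = 1 := by
        have h2 := hpow q
        rw [hσq, MulAut.one_apply] at h2
        exact mul_left_cancel (a := x) (by rw [← h2, mul_one])
      have hc1 : c = 1 := by
        have h3 := pow_gcd_eq_one.2 ⟨hcp, hcq⟩
        rwa [(Nat.coprime_primes hp hq).2 hqp.symm, pow_one] at h3
      rw [hc, inv_mul_eq_one] at hc1
      exact hc1.symm
  have hσ : σ = 1 := by
    refine MulEquiv.ext fun x => ?_
    obtain ⟨k, hk⟩ := P.isPGroup' x
    exact hfix k x hk
  have hker' : y ∈ C.subgroupOf N := by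
    rw [← Subgroup.normalizerMonoidHom_ker, MonoidHom.mem_ker]
    exact hσ
  rw [(QuotientGroup.eq_one_iff (N := C.subgroupOf N) y).2 hker', orderOf_one] at hz
  exact hq.ne_one hz.symm

end Cfsg.Agent.S3969
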