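import Cfsg.Statements.S3970
import Mathlib
import Cfsg.Agent.S3969

set_option autoImplicit false
open Cfsg

namespace Cfsg.Agent.S3970

/-- Let `G` be a finite group such that for every prime `p` dividing its order, other than the largest such prime, the Sylow `p`-subgroups are abelian and generated by at most two elements, and suppose `12` does not divide the order of `G`. Then `G` is solvable. In particular a group of cube-free order not divisible by `12` is solvable. -/
theorem result {G : Type*} [Group G] [Finite G] (h : ∀ p : ℕ, p.Prime → p ∣ Nat.card G → (∃ q : ℕ, q.Prime ∧ q ∣ Nat.card G ∧ p < q) → ∀ P : Sylow p G, IsMulCommutative (P : Subgroup G) ∧ Group.rank (P : Subgroup G) ≤ 2) (h12 : ¬ 12 ∣ Nat.card G) : Group.IsSolvable G := by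
  generalize hN : Nat.card G = N
  induction N using Nat.strong_induction_on generalizing G with
  | _ N ih =>
    subst hN
    rcases subsingleton_or_nontrivial G with hs | hs
    · infer_instance
    set p := (Nat.card G).minFac with hp_def
    have hG1 : Nat.card G ≠ 1 := (Finite.one_lt_card (α := G)).ne'
    have hp : p.Prime := Nat.minFac_prime hG1
    have hpd : p ∣ Nat.card G := Nat.minFac_dvd _
    haveI := Fact.mk hp
    have hmin : ∀ r : ℕ, r.Prime → r ∣ Nat.card G → p ≤ r := fun r hr hrd =>
      Nat.minFac_le_of_dvd hr.two_le hrd
    by_cases hone : ∀ q : ℕ, q.Prime → q ∣ Nat.card G → q = p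
    · have hPG : IsPGroup p G := IsPGroup.of_card (n := (Nat.card G).primeFactorsList.length)
        (Nat.eq_prime_pow_of_unique_prime_dvd Nat.card_pos.ne' (fun {q} hq hqd => hone q hq hqd))
      haveI := hPG.isNilpotent
      infer_instance
    push Not at hone
    obtain ⟨q, hq, hqd, hqp⟩ := hone
    have hlt : p < q := lt_of_le_of_ne (hmin q hq hqd) hqp.symm
    obtain ⟨P⟩ := (inferInstance : Nonempty (Sylow p G))
    obtain ⟨hab, hrank⟩ := h p hp hpd ⟨q, hq, hqd, hlt⟩ P
    have hcop : Nat.Coprime (Nat.card G) (∏ i ∈ Finset.Icc 1 (Group.rank (P : Subgroup G)), (p ^ i - 1)) := by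
      refine Nat.Coprime.prod_right fun i hi => Nat.coprime_of_dvd fun r hr hrG hri => ?_
      rw [Finset.mem_Icc] at hi
      have hp2 := hp.two_le
      have hrp := hmin r hr hrG
      rcases (show i = 1 ∨ i = 2 by omega) with rfl | rfl
      · rw [pow_one] at hri
        have := Nat.le_of_dvd (by omega) hri
        omega
      · rw [show p ^ 2 - 1 = (p + 1) * (p - 1) by
          have := Nat.sq_sub_sq p 1; rw [one_pow] at this; exact this] at hri
        rcases hr.dvd_mul.1 hri with h1 | h1
        · have h2 := Nat.le_of_dvd (by omega) h1
          rcases eq_or_ne r p with rfl | hne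
          · rw [Nat.dvd_add_self_left] at h1
            exact hr.not_dvd_one h1
          have hr1 : r = p + 1 := by omega
          have hp_2 : p = 2 := by
            by_contra hne2
            have ho := hp.odd_of_ne_two hne2
            have hor : Odd r := hr.odd_of_ne_two (by omega)
            rw [hr1] at hor
            exact Nat.not_even_iff_odd.2 hor ho.add_one
          have h3 : 3 ∣ Nat.card G := by
            rw [show r = 3 by omega] at hrG; exact hrG
          have h4 : ¬ 2 ^ 2 ∣ Nat.card G := fun h4 =>
            h12 ((show Nat.Coprime (2 ^ 2) 3 by norm_num).mul_dvd_of_dvd_of_dvd h4 h3)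
          have hfac : (Nat.card G).factorization p ≤ 1 := by
            by_contra hc
            apply h4
            have h5 := (pow_dvd_pow p (show 2 ≤ (Nat.card G).factorization p by omega)).trans
              (Nat.ordProj_dvd (Nat.card G) p)
            rwa [hp_2] at h5
          obtain ⟨a, ha⟩ := exists_prime_orderOf_dvd_card' (G := (P : Subgroup G)) p (P.dvd_card_of_dvd_card hpd)
          have htop : Subgroup.zpowers a = ⊤ := by
            refine Subgroup.eq_top_of_le_card _ ?_
            rw [Nat.card_zpowers, ha, P.card_eq_multiplicity]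
            exact (Nat.pow_le_pow_right hp.pos hfac).trans_eq (pow_one p)
          have hr2 : Group.rank (P : Subgroup G) ≤ 1 := by
            have := Group.rank_le (S := ({a} : Finset (P : Subgroup G)))
              (by rw [Finset.coe_singleton, ← Subgroup.zpowers_eq_closure, htop])
            simpa using this
          omega
        · have := Nat.le_of_dvd (by omega) h1
          omega
    obtain ⟨P', K, hKn, hK⟩ := S3969.result p P hab hcop
    haveI := hKn
    have hmul := hK.card_mul
    have hPcard : Nat.card (P' : Subgroup G) = p ^ (Nat.card G).factorization p := P'.card_eq_multiplicity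
    have hP1 : 1 < Nat.card (P' : Subgroup G) :=
      lt_of_lt_of_le hp.one_lt (Nat.le_of_dvd Nat.card_pos (P'.dvd_card_of_dvd_card hpd))
    have hKlt : Nat.card K < Nat.card G :=
      hmul ▸ lt_mul_of_one_lt_right Nat.card_pos hP1
    have hKd : Nat.card K ∣ Nat.card G := Subgroup.card_subgroup_dvd_card K
    haveI : Group.IsSolvable K := ih _ hKlt (fun r hr hrK ⟨s, hs', hsK, hrs⟩ R => by
      haveI := Fact.mk hr
      have hrp : r ≠ p := by
        rintro rfl
        have hidx : Nat.card K = (P' : Subgroup G).index := (hK.index_eq_card).symm
        exact P'.not_dvd_index (hidx ▸ hrK)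
      let e := (R : Subgroup K).equivMapOfInjective K.subtype (Subgroup.subtype_injective K)
      have hcard : Nat.card ((R : Subgroup K).map K.subtype) = r ^ (Nat.card G).factorization r := by
        rw [← Nat.card_congr e.toEquiv, R.card_eq_multiplicity]
        congr 1
        rw [← hmul, Nat.factorization_mul Nat.card_pos.ne' Nat.card_pos.ne', Finsupp.add_apply, hPcard,
          hp.factorization_pow, Finsupp.single_eq_of_ne hrp, add_zero]
      obtain ⟨hab', hrank'⟩ := h r hr (hrK.trans hKd) ⟨s, hs', hsK.trans hKd, hrs⟩ (Sylow.ofCard _ hcard)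
      refine ⟨⟨⟨fun a b => e.injective ?_⟩⟩, ?_⟩
      · rw [map_mul, map_mul]
        exact hab'.is_comm.comm (e a) (e b)
      · rw [Group.rank_congr e]
        exact hrank') (fun hd => h12 (hd.trans hKd)) rfl
    haveI : Group.IsSolvable (G ⧸ K) := by
      haveI := (IsPGroup.of_card (n := (Nat.card G).factorization p) (show Nat.card (G ⧸ K) = _ by
        rw [← hPcard, ← Subgroup.index_eq_card, hK.symm.index_eq_card]) : IsPGroup p (G ⧸ K)).isNilpotent
      infer_instance
    exact (Group.isSolvable_iff_subgroup_quotient K).2 ⟨inferInstance, inferInstance⟩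

end Cfsg.Agent.S3970
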