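import Cfsg.Statements.S3971
import Mathlib
import Cfsg.Agent.Lib.BurnsideSmall
import Cfsg.Agent.Lib.TransferOmega

set_option autoImplicit false
open Cfsg

namespace Cfsg.Agent.S3971


/-- A group of order dividing 8 with a cyclic subgroup of index at most 2 has no automorphism of
prime order at least 5. -/
theorem no_aut {R : Type*} [Group R] [Finite R] (c : R) (hR : Nat.card R ∣ 2 * orderOf c)
    (hc4 : orderOf c ∣ 4) (φ : MulAut R) {q : ℕ} (hq : q.Prime) (hq5 : 5 ≤ q) (hφ : orderOf φ = q) : False := by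
  haveI := Fact.mk hq
  have h8 : Nat.card R ∣ 8 := hR.trans ((mul_dvd_mul_left 2 hc4).trans (by norm_num))
  rcases BurnsideSmall.aut_prime_order h8 φ hq hφ with rfl | rfl | rfl
  · omega
  · omega
  have hle := Nat.le_of_dvd (by have := orderOf_pos c; omega) hR
  have hc4' := Nat.le_of_dvd (by norm_num) hc4
  -- the fixed points
  let F : Subgroup R := φ.toMonoidHom.eqLocus (MonoidHom.id R)
  have hne : F ≠ ⊤ := fun e => by
    have : φ = 1 := MulEquiv.ext fun y => (show y ∈ F from e ▸ Subgroup.mem_top y)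
    rw [this, orderOf_one] at hφ
    omega
  have hcard7 : 7 ≤ Nat.card R := by
    obtain ⟨y, hy⟩ : ∃ y, φ y ≠ y := by
      by_contra hall
      push Not at hall
      exact hne ((Subgroup.eq_top_iff' F).2 hall)
    have hstab : (MulAction.stabilizer (Subgroup.zpowers φ) y).index = 7 := by
      refine ((Nat.dvd_prime hq).1 ?_).resolve_left fun h1 => hy ?_
      · have := Subgroup.index_dvd_card (MulAction.stabilizer (Subgroup.zpowers φ) y)
        rwa [Nat.card_zpowers, hφ] at this
      · rw [Subgroup.index_eq_one] at h1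
        exact (h1 ▸ Subgroup.mem_top _ : (⟨φ, Subgroup.mem_zpowers φ⟩ : Subgroup.zpowers φ) ∈
          MulAction.stabilizer (Subgroup.zpowers φ) y)
    rw [← hstab, MulAction.index_stabilizer]
    exact (Set.ncard_le_ncard (Set.subset_univ _)).trans_eq (Set.ncard_univ R)
  have hc : orderOf c = 4 := by
    rcases (Nat.dvd_prime_pow Nat.prime_two).1 (show orderOf c ∣ 2 ^ 2 from hc4) with ⟨i, hi, hi'⟩
    interval_cases i <;> omega
  have hcfix : φ c ≠ c := fun e => by
    have hle4 : orderOf c ≤ Nat.card F := by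
      rw [← Nat.card_zpowers]
      exact Subgroup.card_le_of_le (Subgroup.zpowers_le.2 e)
    have hZ : IsPGroup 7 (Subgroup.zpowers φ) :=
      IsPGroup.of_card (n := 1) (by rw [Nat.card_zpowers, hφ, pow_one])
    have hmod := hZ.card_modEq_card_fixedPoints R
    have hfix : Nat.card (MulAction.fixedPoints (Subgroup.zpowers φ) R) = Nat.card F := by
      refine Nat.card_congr (Equiv.subtypeEquivRight fun y => ⟨fun hy => hy ⟨φ, Subgroup.mem_zpowers φ⟩, ?_⟩)
      rintro hy ⟨ψ, hψ⟩
      obtain ⟨k, rfl⟩ := Subgroup.mem_zpowers_iff.1 hψ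
      have hs : φ ∈ MulAction.stabilizer (MulAut R) y := hy
      exact zpow_mem hs k
    rw [hfix] at hmod
    have hlt : Nat.card F < Nat.card R :=
      lt_of_le_of_ne (Subgroup.card_le_card_group F) fun e' => hne (Subgroup.eq_top_of_card_eq F e')
    have h7 := Nat.le_of_dvd (by omega) ((Nat.modEq_iff_dvd' hlt.le).1 hmod.symm)
    omega
  have hstab : (MulAction.stabilizer (Subgroup.zpowers φ) c).index = 7 := by
    refine ((Nat.dvd_prime hq).1 ?_).resolve_left fun h1 => hcfix ?_
    · have := Subgroup.index_dvd_card (MulAction.stabilizer (Subgroup.zpowers φ) c)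
      rwa [Nat.card_zpowers, hφ] at this
    · rw [Subgroup.index_eq_one] at h1
      exact (h1 ▸ Subgroup.mem_top _ : (⟨φ, Subgroup.mem_zpowers φ⟩ : Subgroup.zpowers φ) ∈
        MulAction.stabilizer (Subgroup.zpowers φ) c)
  rw [MulAction.index_stabilizer] at hstab
  have hsub : MulAction.orbit (Subgroup.zpowers φ) c ⊆ ({1, c ^ 2} : Set R)ᶜ := by
    rintro _ ⟨⟨ψ, hψ⟩, rfl⟩
    have ho : orderOf (ψ c) = 4 := by rw [MulEquiv.orderOf_eq, hc]
    intro hm
    rcases hm with hm | hm
    · have hm' : ψ c = 1 := hm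
      rw [hm', orderOf_one] at ho
      omega
    · have hm' : ψ c = c ^ 2 := hm
      rw [hm', orderOf_pow' _ two_ne_zero, hc] at ho
      norm_num at ho
  have h1 := Set.ncard_le_ncard hsub
  have h2 := Set.ncard_add_ncard_compl ({1, c ^ 2} : Set R)
  rw [hstab] at h1
  rw [Set.ncard_pair (fun e => by
    have := orderOf_le_of_pow_eq_one two_pos e.symm
    omega)] at h2
  omega

/-- Let `G` be a finite group of order `2 ^ a * n` with `n` odd and not divisible by `3`, and suppose `G` has an element of order `2 ^ (a - 1)` (so a Sylow `2`-subgroup has a cyclic subgroup of index at most `2`). Then `G` has a normal subgroup of order `n`. -/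
theorem result {G : Type*} [Group G] [Finite G] (a n : ℕ) (hG : Nat.card G = 2 ^ a * n) (hn : Odd n) (h3 : ¬ 3 ∣ n) (hx : ∃ x : G, orderOf x = 2 ^ (a - 1)) : ∃ N : Subgroup G, N.Normal ∧ Nat.card N = n := by
  haveI : Fact (Nat.Prime 2) := ⟨Nat.prime_two⟩
  obtain ⟨x, hx⟩ := hx
  have hfac : (Nat.card G).factorization 2 = a := by
    rw [hG, Nat.factorization_mul (pow_ne_zero _ two_ne_zero) hn.pos.ne', Finsupp.add_apply,
      Nat.prime_two.factorization_pow, Finsupp.single_eq_same,
      Nat.factorization_eq_zero_of_not_dvd hn.not_two_dvd_nat, add_zero]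
  obtain ⟨P, hP⟩ := (IsPGroup.of_card (n := a - 1) (by rw [Nat.card_zpowers, hx]) :
    IsPGroup 2 (Subgroup.zpowers x)).exists_le_sylow
  have hPcard : Nat.card (P : Subgroup G) = 2 ^ a := by rw [P.card_eq_multiplicity, hfac]
  have hidx : (Subgroup.zpowers x).relIndex (P : Subgroup G) ∣ 2 := by
    have h1 := Subgroup.relIndex_mul_relIndex ⊥ (Subgroup.zpowers x) (P : Subgroup G) bot_le hP
    rw [Subgroup.relIndex_bot_left, Subgroup.relIndex_bot_left, Nat.card_zpowers, hx, hPcard] at h1
    have h2 : 2 ^ a ∣ 2 ^ (a - 1) * 2 := by rw [← pow_succ]; exact pow_dvd_pow 2 (by omega)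
    rw [← h1] at h2
    exact (Nat.mul_dvd_mul_iff_left (pow_pos two_pos _)).1 h2
  have key : Cfsg.HasNormalPComplement 2 G := by
    refine TransferOmega.hasNormalPComplement_of_small P fun R hR hsmall g hg hcop => ?_
    by_contra hne
    have h4 : ∀ r ∈ R, r ^ 4 = 1 := fun r hr => by
      rcases hsmall r hr with h | h
      · rw [show (4 : ℕ) = 2 * 2 from rfl, pow_mul, h, one_pow]
      · exact h.2
    set φ := R.normalizerMonoidHom ⟨g, hg⟩ with hφ
    have hφ1 : φ ≠ 1 := fun e => hne (by
      have : (⟨g, hg⟩ : Subgroup.normalizer (R : Set G)) ∈ R.normalizerMonoidHom.ker := e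
      rw [Subgroup.normalizerMonoidHom_ker] at this
      exact this)
    obtain ⟨q, hq, hqd⟩ := Nat.exists_prime_and_dvd (mt orderOf_eq_one_iff.1 hφ1)
    have hqg : q ∣ orderOf g := hqd.trans ((orderOf_map_dvd _ _).trans (by rw [Subgroup.orderOf_mk]))
    have hq2 : q ≠ 2 := by
      rintro rfl
      exact Nat.prime_two.not_dvd_one (hcop ▸ Nat.dvd_gcd hqg dvd_rfl)
    have hq3 : q ≠ 3 := by
      rintro rfl
      have h5 : 3 ∣ 2 ^ a * n := hG ▸ hqg.trans (orderOf_dvd_natCard g)
      rcases Nat.prime_three.dvd_mul.1 h5 with h6 | h6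
      · have := Nat.prime_three.dvd_of_dvd_pow h6
        norm_num at this
      · exact h3 h6
    have hq5 : 5 ≤ q := by
      have := hq.two_le
      by_contra hc
      have : q = 4 := by omega
      subst this
      norm_num at hq
    -- a cyclic subgroup of index at most two
    set C := (Subgroup.zpowers x).subgroupOf R
    have hCidx : C.index ∣ 2 := by
      have h1 : (Subgroup.zpowers x).relIndex R ≤ (Subgroup.zpowers x).relIndex (P : Subgroup G) :=
        Subgroup.relIndex_le_of_le_right hR Subgroup.index_ne_zero_of_finite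
      have h2 := Nat.le_of_dvd two_pos hidx
      have h3 : C.index ≠ 0 := Subgroup.index_ne_zero_of_finite
      have h4 : C.index = 1 ∨ C.index = 2 := by
        change C.index ≤ _ at h1
        omega
      rcases h4 with h4 | h4 <;> rw [h4]
      exact one_dvd 2
    haveI : IsCyclic C := by
      have : C ≤ (Subgroup.zpowers x).subgroupOf R := le_rfl
      exact isCyclic_of_injective ((R.subtype.comp C.subtype).codRestrict (Subgroup.zpowers x) fun z => z.2)
        (fun u v huv => Subtype.ext (Subtype.ext (congrArg (fun w : Subgroup.zpowers x => (w : G)) huv)))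
    obtain ⟨c, hc⟩ := IsCyclic.exists_generator (α := C)
    have hco : orderOf (c : R) = Nat.card C := by
      rw [Subgroup.orderOf_coe, orderOf_eq_card_of_forall_mem_zpowers hc]
    refine no_aut (c : R) ?_ ?_ (φ ^ (orderOf φ / q)) hq hq5 (orderOf_pow_orderOf_div (orderOf_pos φ).ne' hqd)
    · rw [hco, ← Subgroup.index_mul_card C]
      exact mul_dvd_mul_right hCidx _
    · exact orderOf_dvd_of_pow_eq_one (Subtype.ext (h4 _ (c : R).2))
  obtain ⟨P', K, hKn, hK⟩ := key
  refine ⟨K, hKn, ?_⟩
  have h1 := hK.card_mul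
  rw [P'.card_eq_multiplicity, hfac, hG, mul_comm (2 ^ a) n] at h1
  exact Nat.eq_of_mul_eq_mul_right (pow_pos two_pos a) h1

end Cfsg.Agent.S3971
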