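import Cfsg.Statements.S3973
import Mathlib
import Cfsg.Agent.Lib.SchurMultiplierCover

set_option autoImplicit false
open Cfsg

namespace Cfsg.Agent.S3973

open scoped commutatorElement

/-- The kernel of any stem extension of a presented finite group needs `r - n` generators. -/
theorem rank_ker_le (n : ℕ) (rels : Finset (FreeGroup (Fin n)))
    [Finite (PresentedGroup (rels : Set (FreeGroup (Fin n))))]
    {Γ : Type} [Group Γ] [Finite Γ] (σ : Γ →* PresentedGroup (rels : Set (FreeGroup (Fin n))))
    (hσ : Cfsg.IsStemExtension σ) : Group.rank σ.ker ≤ rels.card - n := by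
  classical
  let P := PresentedGroup (rels : Set (FreeGroup (Fin n)))
  let π : FreeGroup (Fin n) →* P := PresentedGroup.mk _
  let s : P → Γ := Function.surjInv hσ.1
  let Ψ : FreeGroup (Fin n) →* Γ := FreeGroup.lift fun i => s (π (FreeGroup.of i))
  have hΨ : σ.comp Ψ = π := FreeGroup.ext_hom _ _ fun i => by
    simp [Ψ, s, Function.surjInv_eq hσ.1]
  have hπs : Function.Surjective π := QuotientGroup.mk'_surjective _
  have hsur : Ψ.range = ⊤ := by
    refine SchurMultiplierBasic.stem_eq_top_of_map_eq_top hσ _ ?_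
    rw [MonoidHom.map_range, hΨ, MonoidHom.range_eq_top.2 hπs]
  -- exponent sums
  let d : FreeGroup (Fin n) →* Multiplicative (Fin n → ℤ) :=
    FreeGroup.lift fun i => Multiplicative.ofAdd (Pi.single i 1)
  have hdker : d.ker ≤ commutator (FreeGroup (Fin n)) := by
    let back : Multiplicative (Fin n → ℤ) →* Abelianization (FreeGroup (Fin n)) :=
      AddMonoidHom.toMultiplicativeLeft (Fintype.linearCombination ℤ
        fun i => Additive.ofMul (Abelianization.of (FreeGroup.of i))).toAddMonoidHom
    have hb : back.comp d = Abelianization.of := FreeGroup.ext_hom _ _ fun i => by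
      simp [back, d, Fintype.linearCombination_apply_single]
    intro x hx
    rw [← Abelianization.ker_of, MonoidHom.mem_ker, ← hb, MonoidHom.comp_apply,
      MonoidHom.mem_ker.1 hx, map_one]
  letI : CommGroup σ.ker :=
    { (inferInstance : Group σ.ker) with
      mul_comm := fun a b => Subtype.ext (Subgroup.mem_center_iff.1 (hσ.2.1 b.2) a) }
  have hR : ∀ x ∈ π.ker, Ψ x ∈ σ.ker := fun x hx => by
    rw [MonoidHom.mem_ker, ← MonoidHom.comp_apply, hΨ]; exact hx
  have hrel : ∀ r : rels, (r : FreeGroup (Fin n)) ∈ π.ker := fun r =>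
    PresentedGroup.one_of_mem r.2
  let J : π.ker →* σ.ker × Multiplicative (Fin n → ℤ) :=
    MonoidHom.prod ((Ψ.comp π.ker.subtype).codRestrict σ.ker fun x => hR x x.2)
      (d.comp π.ker.subtype)
  let Λ : (rels → ℤ) →ₗ[ℤ] Additive (σ.ker × Multiplicative (Fin n → ℤ)) :=
    Fintype.linearCombination ℤ fun r => Additive.ofMul (J ⟨r.1, hrel r⟩)
  let f : (rels → ℤ) →ₗ[ℤ] (Fin n → ℤ) :=
    ((AddMonoidHom.mk' (fun a : Additive (σ.ker × Multiplicative (Fin n → ℤ)) =>
      Multiplicative.toAdd (Additive.toMul a).2) fun _ _ => rfl).toIntLinearMap).comp Λ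
  let g : (rels → ℤ) →ₗ[ℤ] Additive σ.ker :=
    ((AddMonoidHom.mk' (fun a : Additive (σ.ker × Multiplicative (Fin n → ℤ)) =>
      Additive.ofMul (Additive.toMul a).1) fun _ _ => rfl).toIntLinearMap).comp Λ
  -- every relation is represented
  have hcover : ∀ x : π.ker, ∃ v, Λ v = Additive.ofMul (J x) := by
    rintro ⟨x, hx⟩
    have hx' : x ∈ Subgroup.normalClosure (rels : Set (FreeGroup (Fin n))) :=
      PresentedGroup.mk_eq_one_iff.1 hx
    rw [Subgroup.normalClosure] at hx'
    induction hx' using Subgroup.closure_induction with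
    | mem y hy =>
      obtain ⟨r, hr, hc⟩ := Group.mem_conjugatesOfSet_iff.1 hy
      obtain ⟨c, rfl⟩ := isConj_iff.1 hc
      refine ⟨Pi.single ⟨r, hr⟩ 1, ?_⟩
      rw [Fintype.linearCombination_apply_single, one_smul]
      refine congrArg Additive.ofMul (Prod.ext (Subtype.ext ?_) ?_)
      · show Ψ r = Ψ (c * r * c⁻¹)
        rw [map_mul, map_mul, map_inv,
          Subgroup.mem_center_iff.1 (hσ.2.1 (hR r (hrel ⟨r, hr⟩))) (Ψ c), mul_inv_cancel_right]
      · show d r = d (c * r * c⁻¹)
        rw [map_mul, map_mul, map_inv, mul_comm (d c), mul_inv_cancel_right]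
    | one => exact ⟨0, by rw [map_zero]; exact (congrArg Additive.ofMul (map_one J)).symm⟩
    | mul y z hy hz ihy ihz =>
      obtain ⟨v, hv⟩ := ihy (PresentedGroup.mk_eq_one_iff.2 hy)
      obtain ⟨w, hw⟩ := ihz (PresentedGroup.mk_eq_one_iff.2 hz)
      refine ⟨v + w, ?_⟩
      rw [map_add, hv, hw, ← ofMul_mul, ← map_mul]
      rfl
    | inv y hy ihy =>
      obtain ⟨v, hv⟩ := ihy (PresentedGroup.mk_eq_one_iff.2 hy)
      refine ⟨-v, ?_⟩
      rw [map_neg, hv, ← ofMul_inv, ← map_inv]
      rfl
  -- the kernel of `f` maps onto the kernel of `σ`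
  have hg : ∀ a : σ.ker, ∃ v ∈ LinearMap.ker f, g v = Additive.ofMul a := by
    intro a
    have hc := hσ.2.2 a.2
    have hmap : (commutator (FreeGroup (Fin n))).map Ψ = commutator Γ := by
      rw [commutator_def, commutator_def, Subgroup.map_commutator, ← MonoidHom.range_eq_map, hsur]
    rw [← hmap] at hc
    obtain ⟨x, hx, hxa⟩ := hc
    have hxk : x ∈ π.ker := by
      rw [MonoidHom.mem_ker, ← hΨ, MonoidHom.comp_apply, hxa]; exact a.2
    obtain ⟨v, hv⟩ := hcover ⟨x, hxk⟩
    refine ⟨v, ?_, ?_⟩
    · show Multiplicative.toAdd (Additive.toMul (Λ v)).2 = 0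
      rw [hv]
      exact congrArg Multiplicative.toAdd (show d x = 1 from Abelianization.commutator_subset_ker d hx)
    · show Additive.ofMul (Additive.toMul (Λ v)).1 = _
      rw [hv]
      exact congrArg Additive.ofMul (Subtype.ext hxa)
  -- rank of the image of `f`
  have hfull : n ≤ Module.finrank ℤ (LinearMap.range f) := by
    set N := Nat.card P
    have hN : (N : ℤ) ≠ 0 := Int.natCast_ne_zero.2 Nat.card_pos.ne'
    have hmem : ∀ x : Fin n → ℤ, (N : ℤ) • x ∈ LinearMap.range f := by
      intro x
      have hd : ∃ y, d y = Multiplicative.ofAdd x := by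
        refine ⟨(List.ofFn fun i => (FreeGroup.of i) ^ x i).prod, ?_⟩
        rw [map_list_prod, List.map_ofFn, List.prod_ofFn]
        apply Multiplicative.toAdd.injective
        rw [toAdd_prod, toAdd_ofAdd]
        conv_rhs => rw [← Finset.univ_sum_single x]
        refine Finset.sum_congr rfl fun i _ => ?_
        simp [d, ← Pi.single_smul]
      obtain ⟨y, hy⟩ := hd
      obtain ⟨v, hv⟩ := hcover ⟨y ^ N, by rw [MonoidHom.mem_ker, map_pow, pow_card_eq_one']⟩
      refine ⟨v, ?_⟩
      show Multiplicative.toAdd (Additive.toMul (Λ v)).2 = _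
      rw [hv]
      show Multiplicative.toAdd (d (y ^ N)) = _
      rw [map_pow, hy, toAdd_pow, toAdd_ofAdd, natCast_zsmul]
    let sc : (Fin n → ℤ) →ₗ[ℤ] LinearMap.range f :=
      ((N : ℤ) • LinearMap.id).codRestrict _ hmem
    have hinj : Function.Injective sc := fun x y h =>
      smul_right_injective (Fin n → ℤ) hN (congrArg Subtype.val h)
    have := LinearMap.finrank_le_finrank_of_injective hinj
    rwa [Module.finrank_fintype_fun_eq_card, Fintype.card_fin] at this
  have hrn := Submodule.finrank_quotient_add_finrank (LinearMap.ker f)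
  rw [f.quotKerEquivRange.finrank_eq] at hrn
  rw [Module.finrank_fintype_fun_eq_card, Fintype.card_coe] at hrn
  let b := Module.finBasis ℤ (LinearMap.ker f)
  let gen : Fin (Module.finrank ℤ (LinearMap.ker f)) → σ.ker := fun i =>
    Additive.toMul (g (b i))
  have hgen : Subgroup.closure ((Finset.univ.image gen : Finset σ.ker) : Set σ.ker) = ⊤ := by
    rw [eq_top_iff]
    intro a _
    obtain ⟨v, hv, hva⟩ := hg a
    have hsum : Additive.ofMul a = ∑ i, b.repr ⟨v, hv⟩ i • g (b i) := by
      rw [← hva]
      have h1 : (g.comp (LinearMap.ker f).subtype) (∑ i, b.repr ⟨v, hv⟩ i • b i) =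
          ∑ i, b.repr ⟨v, hv⟩ i • g (b i) := by
        rw [map_sum]
        exact Finset.sum_congr rfl fun i _ => by rw [map_zsmul]; rfl
      rw [b.sum_repr] at h1
      exact h1
    have ha : a = ∏ i, gen i ^ (b.repr ⟨v, hv⟩ i) := by
      apply Additive.ofMul.injective
      rw [hsum, ofMul_prod]
      refine Finset.sum_congr rfl fun i _ => ?_
      simp [gen, ofMul_zpow]
    rw [ha]
    exact Subgroup.prod_mem _ fun i _ => Subgroup.zpow_mem _ (Subgroup.subset_closure (by simp)) _
  have hle := Group.rank_le hgen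
  have hcard : (Finset.univ.image gen).card ≤ Module.finrank ℤ (LinearMap.ker f) :=
    Finset.card_image_le.trans (by simp)
  omega

/-- If a finite group is presented by `n` generators and a finite set of `r` relators, then its Schur multiplier can be generated by `r - n` elements. In particular a finite group with a presentation having as many relators as generators has trivial Schur multiplier. -/
theorem result (n : ℕ) (rels : Finset (FreeGroup (Fin n))) [Finite (PresentedGroup (rels : Set (FreeGroup (Fin n))))] {A : Type*} [CommGroup A] [Finite A] (hA : Cfsg.HasSchurMultiplier (PresentedGroup (rels : Set (FreeGroup (Fin n)))) A) : Group.rank A ≤ rels.card - n := by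
  obtain ⟨⟨Γ, _, _, σ, hσ, ⟨e⟩⟩, -⟩ := hA
  rw [← Group.rank_congr e]
  exact rank_ker_le n rels σ hσ

end Cfsg.Agent.S3973
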