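import Cfsg.Statements.S3974
import Mathlib
import Cfsg.Agent.Lib.SchurMultiplierCover
import Cfsg.Agent.Lib.SchurMultiplierComplement

set_option autoImplicit false
universe u v
open Cfsg

namespace Cfsg.Agent.S3974

open scoped commutatorElement

/-- If the orders are coprime, any two covering groups are isomorphic over the base. -/
theorem covers_iso {Q : Type u} [Group Q] [Finite Q]
    (hcop : Nat.Coprime (Nat.card (Abelianization Q)) (Nat.card (SchurMultiplierCover.mult Q)))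
    {Γ₁ Γ₂ : Type u} [Group Γ₁] [Finite Γ₁] [Group Γ₂] [Finite Γ₂] (σ₁ : Γ₁ →* Q) (σ₂ : Γ₂ →* Q)
    (h₁ : Cfsg.IsStemExtension σ₁) (h₂ : Cfsg.IsStemExtension σ₂)
    (k₁ : Nonempty (σ₁.ker ≃* SchurMultiplierCover.mult Q))
    (k₂ : Nonempty (σ₂.ker ≃* SchurMultiplierCover.mult Q)) :
    ∃ e : Γ₁ ≃* Γ₂, σ₂.comp e.toMonoidHom = σ₁ := by
  obtain ⟨Φ₁, hΦ₁⟩ := SchurMultiplierCover.exists_lift σ₁ h₁.1 h₁.2.1 (MonoidHom.id Q)
  obtain ⟨Φ₂, hΦ₂⟩ := SchurMultiplierCover.exists_lift σ₂ h₂.1 h₂.2.1 (MonoidHom.id Q)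
  rw [MonoidHom.id_comp] at hΦ₁ hΦ₂
  obtain ⟨hs₁, -⟩ := SchurMultiplierCover.lift_stem h₁ Φ₁ hΦ₁
  have hL := SchurMultiplierComplement.isCompl_ker h₁ k₁ Φ₁ hΦ₁
  let dL : Φ₁.ker →* Multiplicative (Q →₀ ℤ) :=
    (SchurMultiplierCover.degHom Q).comp Φ₁.ker.subtype
  have hinj : Function.Injective dL := fun a b h => Subtype.ext (hL.deg_injective a.2 b.2 h)
  set n := Nat.card (Abelianization Q) with hn
  let nn : SchurMultiplierCover.E Q →* dL.range :=
    ((powMonoidHom n).comp (SchurMultiplierCover.degHom Q)).codRestrict _ fun e => by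
      obtain ⟨l, hl, he⟩ := hL.exists_deg_eq (e := e ^ n) (by rw [map_pow, map_pow, pow_card_eq_one'])
      exact ⟨⟨l, hl⟩, by simp [dL, he]⟩
  let ψ : SchurMultiplierCover.E Q →* Φ₁.ker := (MonoidHom.ofInjective hinj).symm.toMonoidHom.comp nn
  letI : CommGroup σ₂.ker :=
    { (inferInstance : Group σ₂.ker) with
      mul_comm := fun a b => Subtype.ext (Subgroup.mem_center_iff.1 (h₂.2.1 b.2) a) }
  let μ : Φ₁.ker →* σ₂.ker := (Φ₂.comp Φ₁.ker.subtype).codRestrict _ fun l => by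
    rw [MonoidHom.mem_ker, ← MonoidHom.comp_apply, ← MonoidHom.comp_assoc, hΦ₂]
    exact hL.le l.2
  have hc : Nat.Coprime n (Nat.card σ₂.ker) := by
    rw [Nat.card_congr k₂.some.toEquiv]; exact hcop
  obtain ⟨k, hk⟩ : ∃ k : ℤ, ∀ z : σ₂.ker, (z ^ n) ^ k = z := by
    refine ⟨Nat.gcdA n (Nat.card σ₂.ker), fun z => ?_⟩
    rw [← zpow_natCast z n, ← zpow_mul]
    have hb := Nat.gcd_eq_gcd_ab n (Nat.card σ₂.ker)
    rw [hc] at hb
    conv_rhs => rw [← zpow_one z, ← Nat.cast_one, hb, zpow_add, zpow_mul _ (Nat.card σ₂.ker : ℤ),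
      zpow_natCast, pow_card_eq_one', one_zpow, mul_one]
  let χ : SchurMultiplierCover.E Q →* σ₂.ker := (zpowGroupHom k).comp (μ.comp ψ)
  have hχ : ∀ l : Φ₁.ker, χ l = μ l := by
    intro l
    have hψ : ψ l = l ^ n := by
      apply (MonoidHom.ofInjective hinj).injective
      apply Subtype.ext
      show ((MonoidHom.ofInjective hinj) ((MonoidHom.ofInjective hinj).symm (nn l)) : Multiplicative (Q →₀ ℤ)) = dL (l ^ n)
      rw [MulEquiv.apply_symm_apply, map_pow]
      rfl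
    show (μ (ψ l)) ^ k = μ l
    rw [hψ, map_pow, hk]
  let Φ : SchurMultiplierCover.E Q →* Γ₂ := MonoidHom.mk' (fun e => Φ₂ e * ((χ e : Γ₂))⁻¹) fun a b => by
    have e1 := Subgroup.mem_center_iff.1 ((Subgroup.center Γ₂).inv_mem (h₂.2.1 (χ a).2))
    show Φ₂ (a * b) * ((χ (a * b) : Γ₂))⁻¹ = _
    rw [map_mul, map_mul, Subgroup.coe_mul, mul_inv_rev]
    calc Φ₂ a * Φ₂ b * ((χ b : Γ₂)⁻¹ * (χ a : Γ₂)⁻¹)
        = Φ₂ a * ((Φ₂ b * (χ b : Γ₂)⁻¹) * (χ a : Γ₂)⁻¹) := by group
      _ = Φ₂ a * ((χ a : Γ₂)⁻¹ * (Φ₂ b * (χ b : Γ₂)⁻¹)) := by rw [e1]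
      _ = _ := by group
  have hΦ : σ₂.comp Φ = SchurMultiplierCover.proj Q := MonoidHom.ext fun e => by
    show σ₂ (Φ₂ e * (χ e : Γ₂)⁻¹) = _
    rw [map_mul, map_inv, MonoidHom.mem_ker.1 (χ e).2, inv_one, mul_one]
    exact DFunLike.congr_fun hΦ₂ e
  have hle : Φ₁.ker ≤ Φ.ker := fun l hl => by
    show Φ₂ l * (χ l : Γ₂)⁻¹ = 1
    rw [hχ ⟨l, hl⟩]
    exact mul_inv_cancel _
  obtain ⟨hsΦ, -⟩ := SchurMultiplierCover.lift_stem h₂ Φ hΦ
  let η : Γ₁ →* Γ₂ := Φ₁.liftOfSurjective hs₁ ⟨Φ, hle⟩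
  have hη : ∀ e, η (Φ₁ e) = Φ e := fun e => by simp [η]
  have hηs : Function.Surjective η := fun y => by
    obtain ⟨e, rfl⟩ := hsΦ y
    exact ⟨Φ₁ e, hη e⟩
  have hcard : Nat.card Γ₁ ≤ Nat.card Γ₂ := by
    rw [Subgroup.card_eq_card_quotient_mul_card_subgroup σ₁.ker,
      Subgroup.card_eq_card_quotient_mul_card_subgroup σ₂.ker,
      Nat.card_congr (QuotientGroup.quotientKerEquivOfSurjective σ₁ h₁.1).toEquiv,
      Nat.card_congr (QuotientGroup.quotientKerEquivOfSurjective σ₂ h₂.1).toEquiv,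
      Nat.card_congr (k₁.some.trans k₂.some.symm).toEquiv]
  refine ⟨MulEquiv.ofBijective η (hηs.bijective_of_nat_card_le hcard), MonoidHom.ext fun x => ?_⟩
  obtain ⟨e, rfl⟩ := hs₁ x
  show σ₂ (η (Φ₁ e)) = σ₁ (Φ₁ e)
  rw [hη]
  exact (DFunLike.congr_fun hΦ e).trans (DFunLike.congr_fun hΦ₁ e).symm

/-- If the orders are not coprime, there are two covering groups not isomorphic over the base. -/
theorem coprime_of_unique {Q : Type u} [Group Q] [Finite Q]
    (huniq : ∀ (Γ₁ Γ₂ : Type u) [Group Γ₁] [Finite Γ₁] [Group Γ₂] [Finite Γ₂] (σ₁ : Γ₁ →* Q)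
      (σ₂ : Γ₂ →* Q), Cfsg.IsStemExtension σ₁ → Cfsg.IsStemExtension σ₂ →
      Nonempty (σ₁.ker ≃* SchurMultiplierCover.mult Q) →
      Nonempty (σ₂.ker ≃* SchurMultiplierCover.mult Q) →
      ∃ e : Γ₁ ≃* Γ₂, σ₂.comp e.toMonoidHom = σ₁) :
    Nat.Coprime (Nat.card (Abelianization Q)) (Nat.card (SchurMultiplierCover.mult Q)) := by
  classical
  haveI := Fintype.ofFinite Q
  by_contra hnc
  obtain ⟨p, hp, hpa, hpm⟩ := Nat.Prime.not_coprime_iff_dvd.1 hnc
  haveI := Fact.mk hp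
  obtain ⟨z, hz⟩ : ∃ z : SchurMultiplierCover.mult Q, ∀ y, y ^ p ≠ z := by
    by_contra hall
    push Not at hall
    obtain ⟨y, hy⟩ := exists_prime_orderOf_dvd_card' p hpm
    have hinj : Function.Injective (fun y : SchurMultiplierCover.mult Q => y ^ p) :=
      Finite.injective_iff_surjective.2 hall
    have : y = 1 := hinj (by show y ^ p = 1 ^ p; rw [one_pow, ← hy, pow_orderOf_eq_one])
    rw [this, orderOf_one] at hy
    exact hp.one_lt.ne hy
  obtain ⟨a, ha⟩ := exists_prime_orderOf_dvd_card' p hpa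
  obtain ⟨q, rfl⟩ : ∃ q, Abelianization.of q = a := QuotientGroup.mk_surjective a
  obtain ⟨L, -, hLi, hLs⟩ := SchurMultiplierCover.exists_complement
    (SchurMultiplierCover.proj Q).ker le_rfl (sup_eq_left.2 (SchurMultiplierCover.mult_le_ker Q))
  have hL : SchurMultiplierComplement.IsCompl L := ⟨le_sup_left.trans_eq hLs, hLi, hLs⟩
  letI : CommGroup L :=
    { (inferInstance : Group L) with
      mul_comm := fun a b => Subtype.ext (Subgroup.mem_center_iff.1
        (SchurMultiplierCover.proj_ker_le_center Q (hL.le b.2)) a) }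
  let f : Additive L →ₗ[ℤ] (Q →₀ ℤ) := (MonoidHom.toAdditiveLeft
    ((SchurMultiplierCover.degHom Q).comp L.subtype)).toIntLinearMap
  have hf : Function.Injective f := fun a b h =>
    Additive.toMul.injective (Subtype.ext (hL.deg_injective (Additive.toMul a).2 (Additive.toMul b).2 h))
  let b := (Module.Free.chooseBasis ℤ (LinearMap.range f)).map (LinearEquiv.ofInjective f hf).symm
  obtain ⟨l, hl, hld⟩ := hL.exists_deg_eq (e := SchurMultiplierCover.gen Q q ^ p)
    (by rw [map_pow, SchurMultiplierCover.proj_gen, map_pow, ← ha, pow_orderOf_eq_one])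
  let w : Additive L := Additive.ofMul ⟨l, hl⟩
  obtain ⟨i, hi⟩ : ∃ i, ¬ (p : ℤ) ∣ b.repr w i := by
    by_contra hall
    push Not at hall
    choose d hd using hall
    let v : Additive L := ∑ i, d i • b i
    have hv : (p : ℤ) • v = w := by
      rw [Finset.smul_sum]
      conv_rhs => rw [← b.sum_repr w]
      refine Finset.sum_congr rfl fun i _ => ?_
      rw [hd i, mul_smul]
    have hdeg : (p : ℤ) • f v = (p : ℤ) •
        Multiplicative.toAdd (SchurMultiplierCover.degHom Q (SchurMultiplierCover.gen Q q)) := by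
      rw [← map_zsmul, hv]
      show Multiplicative.toAdd (SchurMultiplierCover.degHom Q l) = _
      rw [hld, map_pow, toAdd_pow, natCast_zsmul]
    have hfv := smul_right_injective (Q →₀ ℤ) (Int.natCast_ne_zero.2 hp.ne_zero) hdeg
    have hmem : SchurMultiplierCover.gen Q q * ((Additive.toMul v : L) : SchurMultiplierCover.E Q)⁻¹
        ∈ commutator (SchurMultiplierCover.E Q) := by
      rw [← SchurMultiplierCover.degHom_ker]
      show SchurMultiplierCover.degHom Q _ = 1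
      rw [map_mul, map_inv, mul_inv_eq_one]
      exact (Multiplicative.toAdd.injective hfv).symm
    have h1 := Abelianization.commutator_subset_ker
      (Abelianization.of.comp (SchurMultiplierCover.proj Q)) hmem
    rw [MonoidHom.mem_ker, MonoidHom.comp_apply, map_mul, map_inv,
      MonoidHom.mem_ker.1 (hL.le (Additive.toMul v : L).2), inv_one, mul_one,
      SchurMultiplierCover.proj_gen] at h1
    rw [h1, orderOf_one] at ha
    exact hp.one_lt.ne ha
  let m : Additive L →ₗ[ℤ] Additive (SchurMultiplierCover.mult Q) :=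
    b.constr ℤ fun j => if j = i then Additive.ofMul z else 0
  let mh : L →* SchurMultiplierCover.mult Q := AddMonoidHom.toMultiplicative m.toAddMonoidHom
  have hmw : (mh ⟨l, hl⟩) = z ^ (b.repr w i) := by
    have : m w = b.repr w i • Additive.ofMul z := by
      rw [Module.Basis.constr_apply_fintype, Finset.sum_eq_single i]
      · simp [Module.Basis.equivFun_apply]
      · intro j _ hj; simp [hj]
      · intro h; exact absurd (Finset.mem_univ _) h
    exact congrArg Additive.toMul this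
  -- the sheared complement
  have hcz : ∀ m : SchurMultiplierCover.mult Q, (m : SchurMultiplierCover.E Q) ∈
      Subgroup.center (SchurMultiplierCover.E Q) := fun m => SchurMultiplierCover.mult_le_center Q m.2
  let sh : L →* SchurMultiplierCover.E Q :=
    MonoidHom.mk' (fun l => (l : SchurMultiplierCover.E Q) * (mh l : SchurMultiplierCover.E Q))
      fun x y => by
        rw [map_mul, Subgroup.coe_mul, Subgroup.coe_mul]
        have e1 := Subgroup.mem_center_iff.1 (hcz (mh x)) (y : SchurMultiplierCover.E Q)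
        calc (x : SchurMultiplierCover.E Q) * y * (mh x * mh y)
            = x * ((y : SchurMultiplierCover.E Q) * mh x) * mh y := by group
          _ = x * ((mh x : SchurMultiplierCover.E Q) * y) * mh y := by rw [e1]
          _ = _ := by group
  have hL2 : SchurMultiplierComplement.IsCompl sh.range := by
    have hle : sh.range ≤ (SchurMultiplierCover.proj Q).ker := by
      rintro _ ⟨x, rfl⟩
      exact (SchurMultiplierCover.proj Q).ker.mul_mem (hL.le x.2)
        (SchurMultiplierCover.mult_le_ker Q (mh x).2)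
    refine ⟨hle, eq_bot_iff.2 ?_, le_antisymm
      (sup_le hle (SchurMultiplierCover.mult_le_ker Q)) ?_⟩
    · rintro _ ⟨⟨x, rfl⟩, hx⟩
      have hxM : (x : SchurMultiplierCover.E Q) ∈ L ⊓ SchurMultiplierCover.mult Q := by
        refine ⟨x.2, ?_⟩
        have h := (SchurMultiplierCover.mult Q).mul_mem hx
          ((SchurMultiplierCover.mult Q).inv_mem (mh x).2)
        rwa [show sh x * ((mh x : SchurMultiplierCover.E Q))⁻¹ = x from mul_inv_cancel_right _ _] at h
      rw [hL.inf, Subgroup.mem_bot] at hxM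
      have hx1 : x = 1 := Subtype.ext hxM
      rw [hx1, map_one]
      exact Subgroup.one_mem _
    · intro e he
      obtain ⟨x, hx, y, hy, rfl⟩ := hL.decomp he
      have : x * y = sh ⟨x, hx⟩ * ((mh ⟨x, hx⟩ : SchurMultiplierCover.E Q)⁻¹ * y) := by
        show x * y = x * (mh ⟨x, hx⟩ : SchurMultiplierCover.E Q) * _
        group
      rw [this]
      exact Subgroup.mul_mem_sup ⟨_, rfl⟩
        ((SchurMultiplierCover.mult Q).mul_mem ((SchurMultiplierCover.mult Q).inv_mem (mh _).2) hy)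
  haveI := hL.normal
  haveI := hL2.normal
  obtain ⟨hf1, hst1, hk1⟩ := SchurMultiplierComplement.cover_of_compl L hL
  obtain ⟨hf2, hst2, hk2⟩ := SchurMultiplierComplement.cover_of_compl sh.range hL2
  haveI := hf1
  haveI := hf2
  obtain ⟨η, hη⟩ := huniq _ _ _ _ hst1 hst2 hk1 hk2
  -- the two lifts differ by a homomorphism into the multiplier
  let e1 : SchurMultiplierCover.E Q →* SchurMultiplierCover.E Q ⧸ sh.range :=
    η.toMonoidHom.comp (QuotientGroup.mk' L)
  let e2 := QuotientGroup.mk' sh.range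
  set g := SchurMultiplierCover.gen Q q
  obtain ⟨k, hk, hgk⟩ : ∃ k ∈ (QuotientGroup.lift sh.range (SchurMultiplierCover.proj Q) hL2.le).ker,
      e1 g = e2 g * k := by
    refine ⟨(e2 g)⁻¹ * e1 g, ?_, by group⟩
    rw [MonoidHom.mem_ker, map_mul, map_inv]
    have := DFunLike.congr_fun hη (QuotientGroup.mk' L g)
    exact inv_mul_eq_one.2 this.symm
  obtain ⟨kz, hkz⟩ : ∃ y : SchurMultiplierCover.mult Q, e2 y = k := by
    obtain ⟨e, rfl⟩ := QuotientGroup.mk'_surjective sh.range k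
    obtain ⟨x, hx, y, hy, rfl⟩ := hL2.decomp (show e ∈ (SchurMultiplierCover.proj Q).ker from hk)
    refine ⟨⟨y, hy⟩, ?_⟩
    show e2 y = e2 (x * y)
    rw [map_mul, show e2 x = 1 from (QuotientGroup.eq_one_iff _).2 hx, one_mul]
  -- evaluate on l
  obtain ⟨c, hc, hlc⟩ : ∃ c ∈ commutator (SchurMultiplierCover.E Q), g ^ p = c * l := by
    refine ⟨g ^ p * l⁻¹, ?_, by group⟩
    rw [← SchurMultiplierCover.degHom_ker]
    show SchurMultiplierCover.degHom Q _ = 1
    rw [map_mul, map_inv, hld, mul_inv_cancel]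
  have hcc : e1 c = e2 c := SchurMultiplierCover.eq_on_commutator hst2.2.1 e1 e2
    (MonoidHom.ext fun e => DFunLike.congr_fun hη (QuotientGroup.mk' L e)) hc
  have hl1 : e1 l = 1 := by
    show η (QuotientGroup.mk' L l) = 1
    rw [show QuotientGroup.mk' L l = 1 from (QuotientGroup.eq_one_iff _).2 hl, map_one]
  have hl2 : e2 l = e2 ((mh ⟨l, hl⟩ : SchurMultiplierCover.E Q)⁻¹) := by
    rw [map_inv, eq_inv_iff_mul_eq_one, ← map_mul]
    exact (QuotientGroup.eq_one_iff _).2 ⟨⟨l, hl⟩, rfl⟩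
  have hkc : Commute (e2 g) k := Subgroup.mem_center_iff.1 (hst2.2.1 hk) _
  have heq : e2 g ^ p * k ^ p = e2 c := by
    rw [← hkc.mul_pow, ← hgk, ← map_pow, hlc, map_mul, hl1, mul_one, hcc]
  rw [← map_pow, hlc, map_mul, mul_assoc, mul_eq_left, hl2, map_inv, inv_mul_eq_one,
    ← hkz, ← map_pow, ← SubmonoidClass.coe_pow] at heq
  have heq' : mh ⟨l, hl⟩ = kz ^ p := by
    by_contra hne
    have hmem : ((mh ⟨l, hl⟩ : SchurMultiplierCover.E Q))⁻¹ * ((kz ^ p : SchurMultiplierCover.mult Q) : SchurMultiplierCover.E Q) ∈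
        sh.range ⊓ SchurMultiplierCover.mult Q :=
      ⟨QuotientGroup.eq.1 heq,
        (SchurMultiplierCover.mult Q).mul_mem ((SchurMultiplierCover.mult Q).inv_mem (mh _).2) (kz ^ p).2⟩
    rw [hL2.inf, Subgroup.mem_bot, inv_mul_eq_one] at hmem
    exact hne (Subtype.ext hmem)
  rw [hmw] at heq'
  obtain ⟨u', v', huv⟩ := (Nat.prime_iff_prime_int.1 hp).coprime_iff_not_dvd.2 hi
  refine hz (z ^ u' * kz ^ v') ?_
  have e : kz ^ (p : ℤ) = z ^ (b.repr w i) := by rw [zpow_natCast]; exact heq'.symm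
  rw [mul_pow, ← zpow_natCast (z ^ u'), ← zpow_natCast (kz ^ v'), ← zpow_mul, ← zpow_mul,
    mul_comm v' (p : ℤ), zpow_mul kz, e, ← zpow_mul, ← zpow_add, mul_comm (b.repr w i) v', huv,
    zpow_one]

/-- Let `Q` be a finite group with Schur multiplier `A`. Any two Schur covering groups of `Q` (finite stem extensions `σ₁ : Γ₁ →* Q`, `σ₂ : Γ₂ →* Q` with kernels isomorphic to `A`, `Γ₁, Γ₂` in the universe of `Q`) are isomorphic over `Q` — there is a group isomorphism `e : Γ₁ ≃* Γ₂` with `σ₂ ∘ e = σ₁` — if and only if the order of the commutator quotient of `Q` is coprime to the order of `A`. In particular a finite perfect group has a unique Schur covering group up to isomorphism over it. -/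
theorem result {Q : Type u} [Group Q] [Finite Q] {A : Type v} [CommGroup A] (hA : Cfsg.HasSchurMultiplier Q A) : (∀ (Γ₁ Γ₂ : Type u) [Group Γ₁] [Finite Γ₁] [Group Γ₂] [Finite Γ₂] (σ₁ : Γ₁ →* Q) (σ₂ : Γ₂ →* Q), Cfsg.IsStemExtension σ₁ → Cfsg.IsStemExtension σ₂ → Nonempty (σ₁.ker ≃* A) → Nonempty (σ₂.ker ≃* A) → ∃ e : Γ₁ ≃* Γ₂, σ₂.comp e.toMonoidHom = σ₁) ↔ Nat.Coprime (Nat.card (Abelianization Q)) (Nat.card A) := by
  obtain ⟨a⟩ := SchurMultiplierCover.hasSchurMultiplier_equiv hA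
  rw [Nat.card_congr a.toEquiv]
  constructor
  · intro h
    refine coprime_of_unique fun Γ₁ Γ₂ _ _ _ _ σ₁ σ₂ h₁ h₂ k₁ k₂ => ?_
    exact h Γ₁ Γ₂ σ₁ σ₂ h₁ h₂ ⟨k₁.some.trans a.symm⟩ ⟨k₂.some.trans a.symm⟩
  · intro hcop Γ₁ Γ₂ _ _ _ _ σ₁ σ₂ h₁ h₂ k₁ k₂
    exact covers_iso hcop σ₁ σ₂ h₁ h₂ ⟨k₁.some.trans a⟩ ⟨k₂.some.trans a⟩

end Cfsg.Agent.S3974
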