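import Cfsg.Statements.S3976
import Mathlib
import Cfsg.Agent.Lib.SubgroupCount72

set_option autoImplicit false
open Cfsg

namespace Cfsg.Agent.S3976

open scoped Pointwise

/-- Let `p` be a prime and `G` a group of order `p ^ m`. For every `s ≤ m` the number of normal subgroups of `G` of order `p ^ s` is congruent to `1` modulo `p`. -/
theorem result {G : Type*} [Group G] [Finite G] (p m s : ℕ) (hp : p.Prime) (hG : Nat.card G = p ^ m) (hs : s ≤ m) : Nat.card {H : Subgroup G // H.Normal ∧ Nat.card H = p ^ s} ≡ 1 [MOD p] := by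
  classical
  haveI := Fact.mk hp
  have hc : ∀ (g : ConjAct G) (H : Subgroup G), Nat.card ↥(g • H) = Nat.card H := fun g H =>
    Nat.card_congr (Subgroup.equivSMul g H).toEquiv.symm
  letI : MulAction (ConjAct G) {H : Subgroup G // Nat.card H = p ^ s} :=
    { smul := fun g H => ⟨g • H.1, (hc g H.1).trans H.2⟩
      one_smul := fun H => Subtype.ext (one_smul _ H.1)
      mul_smul := fun g h H => Subtype.ext (mul_smul g h H.1) }
  have hP : IsPGroup p (ConjAct G) := IsPGroup.of_card (n := m) (by rw [← hG]; exact Nat.card_congr ConjAct.ofConjAct.toEquiv)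
  have h1 := hP.card_modEq_card_fixedPoints {H : Subgroup G // Nat.card H = p ^ s}
  have h2 := SubgroupCount72.card_subgroups_modEq_one (G := G) hp (hG ▸ pow_dvd_pow p hs)
  have h3 : Nat.card (MulAction.fixedPoints (ConjAct G) {H : Subgroup G // Nat.card H = p ^ s}) =
      Nat.card {H : Subgroup G // H.Normal ∧ Nat.card H = p ^ s} := by
    refine Nat.card_congr
      { toFun := fun H => ⟨H.1.1, ⟨fun x hx g => ?_⟩, H.1.2⟩
        invFun := fun H => ⟨⟨H.1, H.2.2⟩, fun g => Subtype.ext ?_⟩
        left_inv := fun H => rfl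
        right_inv := fun H => rfl }
    · have h4 : ConjAct.toConjAct g • H.1.1 = H.1.1 := congrArg Subtype.val (H.2 (ConjAct.toConjAct g))
      rw [← h4]
      exact Subgroup.smul_mem_pointwise_smul x (ConjAct.toConjAct g) H.1.1 hx
    · exact @Subgroup.Normal.conjAct G _ H.1 H.2.1 g
  rw [h3] at h1
  exact h1.symm.trans h2

end Cfsg.Agent.S3976
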