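import Cfsg.Statements.S3977
import Mathlib
import Cfsg.Agent.Lib.SubgroupCount72
import Cfsg.Agent.Lib.PGroupsCyclic

set_option autoImplicit false
open Cfsg

namespace Cfsg.Agent.S3977

/-- Let `p` be a prime and `G` a group of order `p ^ m` which has exactly one subgroup of order `p ^ s`, where `1 ≤ s < m`, and where `s ≥ 2` if `p = 2`. Then `G` is cyclic. (For `p = 2` and `s = 1` the generalized quaternion groups also occur; that case is the classical criterion for a unique involution.) -/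
theorem result {G : Type*} [Group G] [Finite G] (p m s : ℕ) (hp : p.Prime) (hG : Nat.card G = p ^ m) (hs : 1 ≤ s) (hsm : s < m) (h2 : p ≠ 2 ∨ 2 ≤ s) (huniq : ∀ H K : Subgroup G, Nat.card H = p ^ s → Nat.card K = p ^ s → H = K) : IsCyclic G := by
  haveI := Fact.mk hp
  have hpG : IsPGroup p G := IsPGroup.of_card hG
  obtain ⟨H, hH⟩ := Sylow.exists_subgroup_card_pow_prime p (hG ▸ pow_dvd_pow p hsm.le : p ^ s ∣ Nat.card G)
  -- small elements lie in `H`
  have hmem : ∀ x : G, (∃ i, i ≤ s ∧ orderOf x = p ^ i) → x ∈ H := by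
    rintro x ⟨i, hi, hxi⟩
    obtain ⟨K, hK, hxK⟩ := Sylow.exists_subgroup_card_pow_prime_le p
      (hG ▸ pow_dvd_pow p hsm.le : p ^ s ∣ Nat.card G) (Subgroup.zpowers x)
      (by rw [Nat.card_zpowers, hxi]) hi
    exact huniq K H hK hH ▸ hxK (Subgroup.mem_zpowers x)
  -- `H` is cyclic
  obtain ⟨x, hx⟩ : ∃ x : G, x ∉ H := by
    refine not_forall.1 fun hall => ?_
    have : H = ⊤ := (Subgroup.eq_top_iff' H).2 hall
    rw [this, Subgroup.card_top, hG] at hH
    exact hsm.ne' (Nat.pow_right_injective hp.two_le hH)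
  obtain ⟨i, hi⟩ := IsPGroup.iff_orderOf.1 hpG x
  have hsi : s ≤ i := (le_of_not_ge fun h => hx (hmem x ⟨i, h, hi⟩))
  have hHc : IsCyclic H := by
    have h1 : orderOf (x ^ p ^ (i - s)) = p ^ s := by
      rw [orderOf_pow' _ (pow_ne_zero _ hp.ne_zero), hi, Nat.gcd_eq_right (pow_dvd_pow p (Nat.sub_le _ _)),
        Nat.pow_div (Nat.sub_le _ _) hp.pos]
      congr 1
      omega
    rw [Subgroup.isCyclic_iff_exists_zpowers_eq_top]
    exact ⟨x ^ p ^ (i - s), huniq _ H (by rw [Nat.card_zpowers, h1]) hH⟩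
  rcases PGroupsCyclic.isCyclic_or_quaternion (p := p) hpG (fun A B hA hB =>
    PGroupsCyclic.eq_of_card_eq_of_isCyclic hHc
      (fun a ha => hmem a (by
        obtain ⟨j, hj, hj'⟩ := (Nat.dvd_prime_pow hp).1
          (show orderOf a ∣ p ^ 1 by
            rw [pow_one, ← hA, ← Subgroup.orderOf_mk a ha]; exact orderOf_dvd_natCard _)
        exact ⟨j, hj.trans hs, hj'⟩))
      (fun a ha => hmem a (by
        obtain ⟨j, hj, hj'⟩ := (Nat.dvd_prime_pow hp).1
          (show orderOf a ∣ p ^ 1 by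
            rw [pow_one, ← hB, ← Subgroup.orderOf_mk a ha]; exact orderOf_dvd_natCard _)
        exact ⟨j, hj.trans hs, hj'⟩))
      (hA.trans hB.symm)) with hc | ⟨rfl, n, ⟨e⟩⟩
  · exact hc
  exfalso
  have hs2 : 2 ≤ s := h2.resolve_left (not_not.2 rfl)
  haveI : NeZero (2 ^ n) := ⟨pow_ne_zero _ two_ne_zero⟩
  have hcard : Nat.card G = 4 * 2 ^ n := by
    rw [Nat.card_congr e.toEquiv, Nat.card_eq_fintype_card, QuaternionGroup.card]
  have hn : 1 ≤ n := by
    rcases Nat.eq_zero_or_pos n with rfl | hn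
    · rw [hG, show (4 * 2 ^ 0 : ℕ) = 2 ^ 2 by norm_num] at hcard
      have := Nat.pow_right_injective le_rfl hcard
      omega
    · exact hn
  have hin : ∀ i : ZMod (2 * 2 ^ n), e.symm (QuaternionGroup.xa i) ∈ H := fun i =>
    hmem _ ⟨2, hs2, by rw [MulEquiv.orderOf_eq, QuaternionGroup.orderOf_xa]; norm_num⟩
  haveI := hHc
  have h3 : (⟨_, hin 0⟩ : H) * ⟨_, hin 1⟩ = ⟨_, hin 1⟩ * ⟨_, hin 0⟩ := IsCyclic.commGroup.mul_comm _ _
  have h4 := congrArg (fun z : H => e (z : G)) h3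
  simp only [Subgroup.coe_mul, map_mul, MulEquiv.apply_symm_apply, QuaternionGroup.xa_mul_xa,
    QuaternionGroup.a.injEq] at h4
  have h5 : ((2 : ℕ) : ZMod (2 * 2 ^ n)) = 0 := by push_cast; linear_combination h4
  rw [ZMod.natCast_eq_zero_iff] at h5
  have h6 := Nat.le_of_dvd two_pos h5
  have h7 : 2 ≤ 2 ^ n := le_trans (by norm_num) (Nat.pow_le_pow_right two_pos hn)
  omega

end Cfsg.Agent.S3977
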