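import Cfsg.Statements.S3978
import Mathlib
import Cfsg.Agent.Lib.SchurMultiplierBasic
import Cfsg.Agent.Lib.SchurMultiplierCover
import Cfsg.Agent.Lib.SchurMultiplierProjective

set_option autoImplicit false
open Cfsg

namespace Cfsg.Agent.S3978

/-- A finite group `Q` has trivial Schur multiplier if and only if, for every `n`, every homomorphism from `Q` to the projective general linear group (the quotient of `GL n ℂ` by its centre) lifts to a homomorphism into `GL n ℂ`. -/
theorem result {Q : Type*} [Group Q] [Finite Q] : Cfsg.HasCyclicSchurMultiplier Q 1 ↔ ∀ (n : ℕ) (γ : Q →* (GL (Fin n) ℂ ⧸ Subgroup.center (GL (Fin n) ℂ))), ∃ ρ : Q →* GL (Fin n) ℂ, (QuotientGroup.mk' (Subgroup.center (GL (Fin n) ℂ))).comp ρ = γ := by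
  constructor
  · intro h n γ
    have hbot := SchurMultiplierCover.hasCyclicSchurMultiplier_one_iff.1 h
    haveI : Subsingleton (MonoidHom.id Q).ker := by rw [MonoidHom.ker_id]; infer_instance
    haveI : Subsingleton (SchurMultiplierCover.mult Q) := by rw [hbot]; infer_instance
    letI : Unique (MonoidHom.id Q).ker := uniqueOfSubsingleton 1
    letI : Unique (SchurMultiplierCover.mult Q) := uniqueOfSubsingleton 1
    obtain ⟨ρ, hρ⟩ := SchurMultiplierProjective.projective_lift (MonoidHom.id Q)
      SchurMultiplierBasic.stem_id ⟨MulEquiv.ofUnique⟩ n γ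
    exact ⟨ρ, hρ.trans (MonoidHom.comp_id γ)⟩
  · intro h
    refine SchurMultiplierBasic.hasCyclicSchurMultiplier_one fun Δ _ _ τ hτ => ?_
    obtain ⟨π, hπ⟩ := SchurMultiplierProjective.surjective_of_lifts (MonoidHom.id Q)
      SchurMultiplierBasic.stem_id
      (fun n γ => by
        obtain ⟨ρ, hρ⟩ := h n γ
        exact ⟨ρ, hρ.trans (MonoidHom.comp_id γ).symm⟩) τ hτ
    haveI : Subsingleton (MonoidHom.id Q).ker := by rw [MonoidHom.ker_id]; infer_instance
    haveI : Subsingleton τ.ker := hπ.subsingleton
    exact Subgroup.eq_bot_of_subsingleton _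

end Cfsg.Agent.S3978
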