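import Cfsg.Statements.S3980
import Mathlib
import Cfsg.Agent.Lib.SchurMultiplierProduct

set_option autoImplicit false
universe u v w
open Cfsg

namespace Cfsg.Agent.S3980

/-- Let `Q₁` and `Q₂` be finite groups whose commutator quotients have coprime orders, with Schur multipliers `A` and `B`. Then the Schur multiplier of `Q₁ × Q₂` is isomorphic to `A × B`. -/
theorem result {Q₁ : Type u} {Q₂ : Type v} [Group Q₁] [Group Q₂] [Finite Q₁] [Finite Q₂] {A B : Type w} [CommGroup A] [CommGroup B] (hA : Cfsg.HasSchurMultiplier Q₁ A) (hB : Cfsg.HasSchurMultiplier Q₂ B) (hcop : Nat.Coprime (Nat.card (Abelianization Q₁)) (Nat.card (Abelianization Q₂))) : Cfsg.HasSchurMultiplier (Q₁ × Q₂) (A × B) := by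
  obtain ⟨⟨Γ, _, _, σ, hσ, ⟨f⟩⟩, hsur⟩ := SchurMultiplierProduct.hasSchurMultiplier_prod hA hB
  haveI : Subsingleton (SchurMultiplierProduct.AbTensor Q₁ Q₂) := by
    refine ⟨fun s t => ?_⟩
    have h : ∀ u : SchurMultiplierProduct.AbTensor Q₁ Q₂, u = 1 := fun u => by
      induction u using SchurMultiplierProduct.tens_induction with
      | h1 => rfl
      | ht a b =>
        have h1 : (SchurMultiplierProduct.tens a b) ^ Nat.card (Abelianization Q₁) = 1 := by
          have hp : ∀ k : ℕ, (SchurMultiplierProduct.tens a b) ^ k = SchurMultiplierProduct.tens (a ^ k) b := by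
            intro k
            induction k with
            | zero => rw [pow_zero, pow_zero, SchurMultiplierProduct.tens_one_left]
            | succ k ih => rw [pow_succ, pow_succ, ih, SchurMultiplierProduct.tens_mul_left]
          rw [hp, pow_card_eq_one', SchurMultiplierProduct.tens_one_left]
        have h2 : (SchurMultiplierProduct.tens a b) ^ Nat.card (Abelianization Q₂) = 1 := by
          have hp : ∀ k : ℕ, (SchurMultiplierProduct.tens a b) ^ k = SchurMultiplierProduct.tens a (b ^ k) := by
            intro k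
            induction k with
            | zero => rw [pow_zero, pow_zero, SchurMultiplierProduct.tens_one_right]
            | succ k ih => rw [pow_succ, pow_succ, ih, SchurMultiplierProduct.tens_mul_right]
          rw [hp, pow_card_eq_one', SchurMultiplierProduct.tens_one_right]
        have h3 := pow_gcd_eq_one.2 ⟨h1, h2⟩
        rwa [hcop, pow_one] at h3
      | hm s t hs ht => rw [hs, ht, one_mul]
    rw [h s, h t]
  haveI : Unique (SchurMultiplierProduct.AbTensor Q₁ Q₂) := uniqueOfSubsingleton 1
  let e : A × B ≃* A × B × SchurMultiplierProduct.AbTensor Q₁ Q₂ :=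
    (MulEquiv.refl A).prodCongr MulEquiv.prodUnique.symm
  refine ⟨⟨Γ, inferInstance, inferInstance, σ, hσ, ⟨f.trans e.symm⟩⟩, fun Δ _ _ τ hτ => ?_⟩
  obtain ⟨π, hπ⟩ := hsur Δ τ hτ
  exact ⟨π.comp e.toMonoidHom, hπ.comp e.surjective⟩

end Cfsg.Agent.S3980
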