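import Cfsg.Statements.S3981
import Mathlib

set_option autoImplicit false
open Cfsg

namespace Cfsg.Agent.S3981


/-- The key step: a larger invariant `p`-group produces an inverted or centralised element. -/
theorem exists_inverted_or_fixed {G : Type*} [Group G] [Finite G] {p : ℕ} [Fact p.Prime]
    {Q R : Subgroup G} (hR : IsPGroup p R) (hQR : Q ≤ R) (hne : ¬ R ≤ Q)
    (hRN : R ≤ Subgroup.normalizer (Q : Set G)) {y : G} (hy : y * y = 1)
    (hyR : y ∈ Subgroup.normalizer (R : Set G)) (hyQ : y ∈ Subgroup.normalizer (Q : Set G)) :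
    ∃ x, x ∈ Subgroup.normalizer (Q : Set G) ∧ x ∉ Q ∧ x ^ p ∈ Q ∧
      (y * x * y⁻¹ * x ∈ Q ∨ y * x * y⁻¹ * x⁻¹ ∈ Q) := by
  haveI hn : (Q.subgroupOf R).Normal := Subgroup.normal_subgroupOf_of_le_normalizer hRN
  haveI : Nontrivial (R ⧸ Q.subgroupOf R) := by
    rw [← Finite.one_lt_card_iff_nontrivial]
    show 1 < (Q.subgroupOf R).index
    have h0 : (Q.subgroupOf R).index ≠ 0 := Subgroup.index_ne_zero_of_finite
    have h1 : (Q.subgroupOf R).index ≠ 1 := fun h => hne (Subgroup.relIndex_eq_one.1 h)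
    omega
  have hRQ : IsPGroup p (R ⧸ Q.subgroupOf R) := hR.to_quotient _
  haveI := hRQ.center_nontrivial
  obtain ⟨⟨z, hzc⟩, hzo⟩ := exists_prime_orderOf_dvd_card' (G := Subgroup.center (R ⧸ Q.subgroupOf R)) p (by
    obtain ⟨k, hk0, hk⟩ := (hRQ.to_subgroup (Subgroup.center (R ⧸ Q.subgroupOf R))).nontrivial_iff_card.1 inferInstance
    exact hk ▸ dvd_pow_self p hk0.ne')
  obtain ⟨x, rfl⟩ := QuotientGroup.mk_surjective z
  rw [Subgroup.orderOf_mk] at hzo
  have hxp : ((x : R) : R ⧸ Q.subgroupOf R) ^ p = 1 := hzo ▸ pow_orderOf_eq_one _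
  have hxQ : (x : G) ∉ Q := fun h => by
    rw [show ((x : R) : R ⧸ Q.subgroupOf R) = 1 from (QuotientGroup.eq_one_iff x).2 h, orderOf_one] at hzo
    exact (Fact.out : p.Prime).ne_one hzo.symm
  let w : R := ⟨y * x * y⁻¹, (Subgroup.mem_normalizer_iff.1 hyR x).1 x.2⟩
  have hcomm : (x : R ⧸ Q.subgroupOf R) * w = w * x := (Subgroup.mem_center_iff.1 hzc _).symm
  by_cases hu : (x * w : G) ∈ Q
  · refine ⟨x, hRN x.2, hxQ, ?_, Or.inl ?_⟩
    · have := (QuotientGroup.eq_one_iff (N := Q.subgroupOf R) (x ^ p)).1 (by rw [QuotientGroup.mk_pow, hxp])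
      exact this
    · have h1 : ((x * w : R) : R ⧸ Q.subgroupOf R) = 1 := (QuotientGroup.eq_one_iff _).2 hu
      rw [QuotientGroup.mk_mul, hcomm, ← QuotientGroup.mk_mul] at h1
      have h2 := (QuotientGroup.eq_one_iff (N := Q.subgroupOf R) (w * x)).1 h1
      exact h2
  · refine ⟨x * w, hRN (x * w).2, hu, ?_, Or.inr ?_⟩
    · have hwp : (w : R ⧸ Q.subgroupOf R) ^ p = 1 := by
        rw [← QuotientGroup.mk_pow, QuotientGroup.eq_one_iff]
        have h1 : ((x : G)) ^ p ∈ Q := (QuotientGroup.eq_one_iff (N := Q.subgroupOf R) (x ^ p)).1 (by rw [QuotientGroup.mk_pow, hxp])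
        show (y * x * y⁻¹) ^ p ∈ Q
        rw [conj_pow]
        exact (Subgroup.mem_normalizer_iff.1 hyQ _).1 h1
      exact (QuotientGroup.eq_one_iff (N := Q.subgroupOf R) ((x * w) ^ p)).1 (by
        rw [QuotientGroup.mk_pow, QuotientGroup.mk_mul, (show Commute _ _ from hcomm).mul_pow, hxp, hwp, one_mul])
    · have h1 : ((w * x * (x * w)⁻¹ : R) : R ⧸ Q.subgroupOf R) = 1 := by
        rw [QuotientGroup.mk_mul, QuotientGroup.mk_inv, QuotientGroup.mk_mul, QuotientGroup.mk_mul, hcomm,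
          mul_inv_cancel]
      have h2 := (QuotientGroup.eq_one_iff _).1 h1
      have h3 : y * (x * (y * x * y⁻¹)) * y⁻¹ * ((x : G) * (y * x * y⁻¹))⁻¹ =
          (y * x * y⁻¹) * x * ((x : G) * (y * x * y⁻¹))⁻¹ := by
        have hyi : y⁻¹ = y := inv_eq_of_mul_eq_one_right hy
        rw [show y * (x * (y * x * y⁻¹)) * y⁻¹ = y * x * y * x * (y⁻¹ * y⁻¹) by group, hyi, hy, mul_one]
      show y * (x * (y * x * y⁻¹)) * y⁻¹ * ((x : G) * (y * x * y⁻¹))⁻¹ ∈ Q
      rw [h3]
      exact h2

/-- Let p be an odd prime, Q a p-subgroup of the finite group G and y an involution normalizing Q. Then Q is maximal among the p-subgroups of G normalized by y if and only if the image of y in N_G(Q) ⧸ Q neither inverts nor centralizes any element of order p there; the latter is phrased inside N_G(Q): for every x in N_G(Q) outside Q with x ^ p ∈ Q, neither y x y⁻¹ x nor y x y⁻¹ x⁻¹ lies in Q. -/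
theorem result {G : Type*} [Group G] [Finite G] (p : ℕ) [Fact p.Prime] (hp2 : p ≠ 2) (Q : Subgroup G) (hQ : IsPGroup p ↥Q) (y : G) (hy : orderOf y = 2) (hyQ : y ∈ Subgroup.normalizer (Q : Set G)) : (∀ R : Subgroup G, IsPGroup p ↥R → Q ≤ R → y ∈ Subgroup.normalizer (R : Set G) → R = Q) ↔ ∀ x : G, x ∈ Subgroup.normalizer (Q : Set G) → x ∉ Q → x ^ p ∈ Q → (y * x * y⁻¹ * x ∉ Q ∧ y * x * y⁻¹ * x⁻¹ ∉ Q) := by
  have hy2 : y * y = 1 := by rw [← sq, ← hy, pow_orderOf_eq_one]
  constructor
  · intro hmax x hxN hxQ hxp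
    by_contra hbad
    rw [not_and_or, not_not, not_not] at hbad
    have hZ : IsPGroup p (Subgroup.zpowers x) := by
      obtain ⟨k, hk⟩ := hQ ⟨_, hxp⟩
      have h1 : x ^ p ^ (k + 1) = 1 := by
        have := congrArg Subtype.val hk
        rw [Subgroup.coe_pow, OneMemClass.coe_one, ← pow_mul, ← pow_succ'] at this
        exact this
      obtain ⟨j, -, hj⟩ := (Nat.dvd_prime_pow Fact.out).1 (orderOf_dvd_of_pow_eq_one h1)
      exact IsPGroup.of_card (n := j) (by rw [Nat.card_zpowers, hj])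
    set R := Q ⊔ Subgroup.zpowers x with hR
    have hRp : IsPGroup p R := hQ.to_sup_of_normal_left' hZ (Subgroup.zpowers_le.2 hxN)
    have hyx : y * x * y⁻¹ ∈ R := by
      rcases hbad with h | h
      · have h2 := mul_mem (Subgroup.mem_sup_left (T := Subgroup.zpowers x) h)
          (inv_mem (Subgroup.mem_sup_right (S := Q) (Subgroup.mem_zpowers x)))
        rwa [mul_inv_cancel_right] at h2
      · have h2 := mul_mem (Subgroup.mem_sup_left (T := Subgroup.zpowers x) h)
          (Subgroup.mem_sup_right (S := Q) (Subgroup.mem_zpowers x))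
        rwa [inv_mul_cancel_right] at h2
    have hle : R.map (MulAut.conj y).toMonoidHom ≤ R := by
      rw [hR, Subgroup.map_sup]
      refine sup_le ?_ ?_
      · rintro _ ⟨a, ha, rfl⟩
        exact Subgroup.mem_sup_left ((Subgroup.mem_normalizer_iff.1 hyQ a).1 ha)
      · rw [MonoidHom.map_zpowers]
        exact Subgroup.zpowers_le.2 hyx
    have hyR : y ∈ Subgroup.normalizer (R : Set G) := by
      have hc : ∀ a ∈ R, y * a * y⁻¹ ∈ R := fun a ha => hle (Subgroup.mem_map_of_mem _ ha)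
      rw [Subgroup.mem_normalizer_iff]
      refine fun a => ⟨hc a, fun ha => ?_⟩
      have h2 := hc _ ha
      have hyi : y⁻¹ = y := inv_eq_of_mul_eq_one_right hy2
      rw [hyi, show y * (y * a * y) * y = y * y * a * (y * y) by group, hy2, one_mul, mul_one] at h2
      exact h2
    exact hxQ (hmax R hRp le_sup_left hyR ▸ Subgroup.mem_sup_right (Subgroup.mem_zpowers x))
  · intro hall R hRp hQR hyR
    by_contra hne
    have hlt : Q < R := lt_of_le_of_ne hQR (Ne.symm hne)
    haveI := hRp.isNilpotent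
    have h1 : R ⊓ Subgroup.normalizer (Q : Set G) ≠ Q := by
      intro h
      have hnc := Group.normalizerCondition_of_isNilpotent (G := R)
      have h2 := hnc (Q.subgroupOf R) (by
        rw [lt_top_iff_ne_top, ne_eq, Subgroup.subgroupOf_eq_top]
        exact hlt.not_ge)
      obtain ⟨a, ha, hna⟩ := SetLike.exists_of_lt h2
      apply hna
      show (a : G) ∈ Q
      rw [← h]
      refine ⟨a.2, Subgroup.mem_normalizer_iff.2 fun b => ?_⟩
      constructor
      · intro hb
        exact ((Subgroup.mem_normalizer_iff.1 ha ⟨b, hQR hb⟩).1 hb :)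
      · intro hb
        have hbR : b ∈ R := by
          have := mul_mem (mul_mem (inv_mem a.2) (hQR hb)) a.2
          rwa [show (a : G)⁻¹ * (a * b * (a : G)⁻¹) * a = b by group] at this
        exact ((Subgroup.mem_normalizer_iff.1 ha ⟨b, hbR⟩).2 hb :)
    have hle : Q ≤ R ⊓ Subgroup.normalizer (Q : Set G) := le_inf hQR Subgroup.le_normalizer
    obtain ⟨x, hxN, hxQ, hxp, hor⟩ := exists_inverted_or_fixed (hRp.to_le inf_le_left) hle
      (fun h => h1 (le_antisymm h hle)) inf_le_right hy2 (by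
        rw [Subgroup.mem_normalizer_iff]
        intro a
        rw [Subgroup.mem_inf, Subgroup.mem_inf]
        exact and_congr (Subgroup.mem_normalizer_iff.1 hyR a) ⟨fun ha => mul_mem (mul_mem hyQ ha) (inv_mem hyQ),
          fun ha => by
            have := mul_mem (mul_mem (inv_mem hyQ) ha) hyQ
            rwa [show y⁻¹ * (y * a * y⁻¹) * y = a by group] at this⟩) hyQ
    obtain ⟨h3, h4⟩ := hall x hxN hxQ hxp
    exact hor.elim h3 h4

end Cfsg.Agent.S3981
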