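import Cfsg.Statements.S3982
import Mathlib
import Cfsg.Agent.Lib.LocalBasics

set_option autoImplicit false
open Cfsg

namespace Cfsg.Agent.S3982

open scoped Pointwise

/-- An involution normalising a subgroup of odd order gives an element of even order normalising a
Sylow subgroup of it. -/
theorem even_normalizer_sylow {G : Type*} [Group G] [Finite G] {p : ℕ} [Fact p.Prime] (L : Subgroup G)
    (hL : Odd (Nat.card L)) {y : G} (hy : orderOf y = 2)
    (hyL : y ∈ Subgroup.normalizer (L : Set G)) (S : Sylow p L) :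
    Even (Nat.card (Subgroup.normalizer (((S : Subgroup L).map L.subtype : Subgroup G) : Set G))) := by
  have hy2 : y * y = 1 := by rw [← sq, ← hy, pow_orderOf_eq_one]
  have hyi : y⁻¹ = y := inv_eq_of_mul_eq_one_right hy2
  have hc : ∀ a ∈ L, y * a * y⁻¹ ∈ L := fun a ha => (Subgroup.mem_normalizer_iff.1 hyL a).1 ha
  let φ : MulAut L :=
    { toFun := fun a => ⟨y * a * y⁻¹, hc a a.2⟩
      invFun := fun a => ⟨y * a * y⁻¹, hc a a.2⟩
      left_inv := fun a => Subtype.ext (by
        show y * (y * a * y⁻¹) * y⁻¹ = a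
        rw [hyi, show y * (y * (a : G) * y) * y = y * y * a * (y * y) by group, hy2, one_mul, mul_one])
      right_inv := fun a => Subtype.ext (by
        show y * (y * a * y⁻¹) * y⁻¹ = a
        rw [hyi, show y * (y * (a : G) * y) * y = y * y * a * (y * y) by group, hy2, one_mul, mul_one])
      map_mul' := fun a b => Subtype.ext (by
        show y * (a * b) * y⁻¹ = (y * a * y⁻¹) * (y * b * y⁻¹)
        group) }
  obtain ⟨l, hl⟩ := MulAction.exists_smul_eq L (φ • S) S
  set S' : Subgroup G := (S : Subgroup L).map L.subtype with hS'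
  have hnS : ∀ a ∈ S', ((l : G) * y) * a * ((l : G) * y)⁻¹ ∈ S' := by
    rintro _ ⟨a, ha, rfl⟩
    refine ⟨l * φ a * l⁻¹, ?_, ?_⟩
    · rw [← hl]
      exact Subgroup.smul_mem_pointwise_smul (φ a) (MulAut.conj l) _
        (Subgroup.smul_mem_pointwise_smul a φ _ ha)
    · show (l : G) * (y * a * y⁻¹) * (l : G)⁻¹ = _
      simp only [Subgroup.coe_subtype]
      group
  have hn : (l : G) * y ∈ Subgroup.normalizer (S' : Set G) := Subgroup.mem_normalizer_fintype hnS
  have heven : 2 ∣ orderOf ((l : G) * y) := by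
    by_contra hodd
    have hsq : ((l : G) * y) ^ 2 ∈ L := by
      rw [sq, show (l : G) * y * (l * y) = l * (y * l * y⁻¹) * (y * y) by group, hy2, mul_one]
      exact mul_mem l.2 (hc l l.2)
    have hmem : ((l : G) * y) ∈ L := by
      have hcop : Nat.Coprime 2 (orderOf ((l : G) * y)) := (Nat.Prime.coprime_iff_not_dvd Nat.prime_two).2 hodd
      obtain ⟨m, hm⟩ := exists_pow_eq_self_of_coprime hcop
      rw [← hm]
      exact Subgroup.pow_mem _ hsq m
    have hyL' : y ∈ L := by
      simpa using mul_mem (inv_mem l.2) hmem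
    have h2 : 2 ∣ Nat.card L := by
      rw [← hy, ← Subgroup.orderOf_mk y hyL']
      exact orderOf_dvd_natCard _
    exact Nat.not_even_iff_odd.2 hL (even_iff_two_dvd.2 h2)
  rw [even_iff_two_dvd]
  exact heven.trans ((Subgroup.orderOf_mk _ hn).symm ▸ orderOf_dvd_natCard _)

/-- Let p be an odd prime and G a finite group of even order divisible by p in which the centralizer of every non-identity p-element has odd order. If some nontrivial p-subgroup of G has a normalizer of even order, then the normalizer of every Sylow p-subgroup of G has even order. -/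
theorem result {G : Type*} [Group G] [Finite G] (p : ℕ) [Fact p.Prime] (hp2 : p ≠ 2) (hpG : p ∣ Nat.card G) (h2G : 2 ∣ Nat.card G) (hC : ∀ g : G, g ≠ 1 → (∃ k : ℕ, orderOf g = p ^ k) → Odd (Nat.card ↥(Subgroup.centralizer ({g} : Set G)))) (Q : Subgroup G) (hQ : IsPGroup p ↥Q) (hQ1 : Q ≠ ⊥) (hev : Even (Nat.card ↥(Subgroup.normalizer (Q : Set G)))) (P : Sylow p G) : Even (Nat.card ↥(Subgroup.normalizer ((P : Subgroup G) : Set G))) := by
  classical
  have hne : ∃ Q₀ : Subgroup G, (IsPGroup p Q₀ ∧ Q₀ ≠ ⊥ ∧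
      Even (Nat.card (Subgroup.normalizer (Q₀ : Set G)))) ∧ ∀ R : Subgroup G, (IsPGroup p R ∧ R ≠ ⊥ ∧
      Even (Nat.card (Subgroup.normalizer (R : Set G)))) → Nat.card R ≤ Nat.card Q₀ := by
    obtain ⟨Q₀, hQ₀, hmax⟩ := Set.exists_max_image {R : Subgroup G | IsPGroup p R ∧ R ≠ ⊥ ∧
      Even (Nat.card (Subgroup.normalizer (R : Set G)))} (fun R => Nat.card R) (Set.toFinite _)
      ⟨Q, hQ, hQ1, hev⟩
    exact ⟨Q₀, hQ₀, hmax⟩
  clear hev hQ1 hQ Q
  obtain ⟨Q, ⟨hQ, hQ1, hev⟩, hmax⟩ := hne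
  obtain ⟨⟨y, hyQ⟩, hy⟩ := exists_prime_orderOf_dvd_card' (G := Subgroup.normalizer (Q : Set G)) 2
    (even_iff_two_dvd.1 hev)
  rw [Subgroup.orderOf_mk] at hy
  obtain ⟨P₀, hP₀⟩ := hQ.exists_le_sylow
  have hodd : ∀ g : G, g ≠ 1 → g ∈ Q → y * g ≠ g * y := by
    intro g hg hgQ hcomm
    obtain ⟨k, hk⟩ := IsPGroup.iff_orderOf.1 hQ ⟨g, hgQ⟩
    have hodd' := hC g hg ⟨k, by rwa [Subgroup.orderOf_mk] at hk⟩
    have hyC : y ∈ Subgroup.centralizer ({g} : Set G) := Subgroup.mem_centralizer_singleton_iff.2 hcomm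
    exact Nat.not_even_iff_odd.2 hodd' (even_iff_two_dvd.2 (hy ▸ (Subgroup.orderOf_mk y hyC).symm ▸
      orderOf_dvd_natCard _))
  have hy2 : y * y = 1 := by rw [← sq, ← hy, pow_orderOf_eq_one]
  have hinv : ∀ g ∈ Q, y * g * y⁻¹ = g⁻¹ := by
    let φ : Q →* Q :=
      { toFun := fun a => ⟨y * a * y⁻¹, (Subgroup.mem_normalizer_iff.1 hyQ a).1 a.2⟩
        map_one' := Subtype.ext (by simp)
        map_mul' := fun a b => Subtype.ext (by
          show y * (a * b) * y⁻¹ = (y * a * y⁻¹) * (y * b * y⁻¹)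
          group) }
    have hfpf : MonoidHom.FixedPointFree φ := fun a ha => by
      by_contra ha1
      exact hodd a (fun e => ha1 (Subtype.ext e)) a.2 (mul_inv_eq_iff_eq_mul.1 (congrArg Subtype.val ha))
    have hinvol : Function.Involutive φ := fun a => Subtype.ext (by
      show y * (y * a * y⁻¹) * y⁻¹ = a
      rw [inv_eq_of_mul_eq_one_right hy2, show y * (y * (a : G) * y) * y = y * y * a * (y * y) by group,
        hy2, one_mul, mul_one])
    intro g hg
    exact congrArg Subtype.val (congrFun (hfpf.coe_eq_inv_of_involutive hinvol) ⟨g, hg⟩)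
  have hmain : Q = (P₀ : Subgroup G) := by
    refine le_antisymm hP₀ ?_
    by_contra hle
    have hlt : Q < (P₀ : Subgroup G) := lt_of_le_not_ge hP₀ hle
    haveI := P₀.isPGroup'.isNilpotent
    set T := (P₀ : Subgroup G) ⊓ Subgroup.normalizer (Q : Set G) with hT
    have hQT : Q < T := by
      refine lt_of_le_of_ne (le_inf hP₀ Subgroup.le_normalizer) fun h => ?_
      have hnc := Group.normalizerCondition_of_isNilpotent (G := (P₀ : Subgroup G))
      have h2 := hnc (Q.subgroupOf (P₀ : Subgroup G)) (by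
        rw [lt_top_iff_ne_top, ne_eq, Subgroup.subgroupOf_eq_top]
        exact hlt.not_ge)
      obtain ⟨a, ha, hna⟩ := SetLike.exists_of_lt h2
      apply hna
      show (a : G) ∈ Q
      rw [h]
      refine ⟨a.2, Subgroup.mem_normalizer_fintype fun b hb => ?_⟩
      exact ((Subgroup.mem_normalizer_iff.1 ha ⟨b, hP₀ hb⟩).1 hb :)
    set C := Subgroup.centralizer (Q : Set G) with hCdef
    have hTN : T ≤ Subgroup.normalizer (C : Set G) := fun t ht =>
      LocalBasics.le_normalizer_centralizer (X := Subgroup.normalizer (Q : Set G)) le_rfl ht.2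
    have hyC : y ∈ Subgroup.normalizer (C : Set G) :=
      LocalBasics.le_normalizer_centralizer (X := Subgroup.normalizer (Q : Set G)) le_rfl hyQ
    have hCodd : Odd (Nat.card C) := by
      obtain ⟨⟨g, hg⟩, hg1⟩ := Subgroup.ne_bot_iff_exists_ne_one.1 hQ1
      obtain ⟨k, hk⟩ := IsPGroup.iff_orderOf.1 hQ ⟨g, hg⟩
      exact (hC g (fun e => hg1 (Subtype.ext e)) ⟨k, by rwa [Subgroup.orderOf_mk] at hk⟩).of_dvd_nat
        (Subgroup.card_dvd_of_le (Subgroup.centralizer_le (Set.singleton_subset_iff.2 hg)))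
    set L := T ⊔ C with hL
    have hLset : ∀ g ∈ L, ∃ t ∈ T, ∃ c ∈ C, t * c = g := fun g hg => by
      have : g ∈ ((T : Set G) * (C : Set G)) := by
        rw [← Subgroup.coe_mul_of_left_le_normalizer_right T C hTN]; exact hg
      exact this
    have hcomm : ∀ t ∈ T, t⁻¹ * (y * t * y⁻¹) ∈ C := by
      intro t ht
      rw [hCdef, Subgroup.mem_centralizer_iff]
      intro q hq
      have h1 : t * q * t⁻¹ ∈ Q := (Subgroup.mem_normalizer_iff.1 ht.2 q).1 hq
      have h2 := hinv _ h1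
      have h3 := hinv q hq
      have h4 : (y * t * y⁻¹) * q⁻¹ * (y * t * y⁻¹)⁻¹ = t * q⁻¹ * t⁻¹ := by
        conv_lhs => rw [← h3]
        rw [show y * t * y⁻¹ * (y * q * y⁻¹) * (y * t * y⁻¹)⁻¹ = y * (t * q * t⁻¹) * y⁻¹ by group, h2]
        group
      have h5 : (y * t * y⁻¹) * q * (y * t * y⁻¹)⁻¹ = t * q * t⁻¹ := by
        have := congrArg (·⁻¹) h4
        simpa only [mul_inv_rev, inv_inv, mul_assoc] using this
      have h6 : (t⁻¹ * (y * t * y⁻¹)) * q * (t⁻¹ * (y * t * y⁻¹))⁻¹ = q := by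
        rw [show t⁻¹ * (y * t * y⁻¹) * q * (t⁻¹ * (y * t * y⁻¹))⁻¹ =
          t⁻¹ * ((y * t * y⁻¹) * q * (y * t * y⁻¹)⁻¹) * t by group, h5]
        group
      exact (mul_inv_eq_iff_eq_mul.1 h6).symm
    have hyL : y ∈ Subgroup.normalizer (L : Set G) := by
      refine Subgroup.mem_normalizer_fintype fun g hg => ?_
      obtain ⟨t, ht, c, hc, rfl⟩ := hLset g hg
      rw [show y * (t * c) * y⁻¹ = t * (t⁻¹ * (y * t * y⁻¹)) * (y * c * y⁻¹) by group]
      exact mul_mem (mul_mem (Subgroup.mem_sup_left ht) (Subgroup.mem_sup_right (hcomm t ht)))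
        (Subgroup.mem_sup_right ((Subgroup.mem_normalizer_iff.1 hyC c).1 hc))
    have hLodd : Odd (Nat.card L) := by
      rw [Nat.odd_iff, ← Nat.two_dvd_ne_zero]
      intro h2
      obtain ⟨g, hg⟩ := exists_prime_orderOf_dvd_card' (G := L) 2 h2
      obtain ⟨t, ht, c, hc, htc⟩ := hLset g g.2
      obtain ⟨k, hk⟩ := (P₀.isPGroup'.to_le inf_le_left : IsPGroup p T) ⟨t, ht⟩
      have hk' : t ^ p ^ k = 1 := congrArg Subtype.val hk
      haveI : (C.subgroupOf L).Normal := Subgroup.normal_subgroupOf_of_le_normalizer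
        (sup_le hTN Subgroup.le_normalizer)
      have h3 : ((g : L) : L ⧸ C.subgroupOf L) ^ p ^ k = 1 := by
        have : (g : L ⧸ C.subgroupOf L) = ((⟨t, Subgroup.mem_sup_left ht⟩ : L) : L ⧸ C.subgroupOf L) := by
          rw [QuotientGroup.eq, Subgroup.mem_subgroupOf]
          show (g : G)⁻¹ * t ∈ C
          rw [← htc, mul_inv_rev, mul_assoc, inv_mul_cancel, mul_one]
          exact inv_mem hc
        rw [this, ← QuotientGroup.mk_pow]
        exact (QuotientGroup.eq_one_iff _).2 (by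
          show t ^ p ^ k ∈ C
          rw [hk']; exact one_mem _)
      rw [← QuotientGroup.mk_pow, QuotientGroup.eq_one_iff, Subgroup.mem_subgroupOf] at h3
      obtain ⟨j, hj⟩ : Odd (p ^ k) := ((Fact.out : p.Prime).odd_of_ne_two hp2).pow
      have hg2 : ((g : G)) ^ p ^ k = g := by
        rw [hj, pow_succ, pow_mul, show ((g : G)) ^ 2 = 1 by rw [← hg, ← Subgroup.orderOf_coe, pow_orderOf_eq_one],
          one_pow, one_mul]
      rw [Subgroup.coe_pow, hg2] at h3
      refine Nat.not_even_iff_odd.2 hCodd (even_iff_two_dvd.2 ?_)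
      rw [← hg, ← Subgroup.orderOf_coe, ← Subgroup.orderOf_mk (g : G) h3]
      exact orderOf_dvd_natCard _
    obtain ⟨S, hS⟩ := ((P₀.isPGroup'.to_le inf_le_left : IsPGroup p T).comap_subtype (K := L)).exists_le_sylow
    set S' : Subgroup G := (S : Subgroup L).map L.subtype with hS'
    have hTS : T ≤ S' := fun t ht => ⟨⟨t, Subgroup.mem_sup_left ht⟩, hS ht, rfl⟩
    have h1 := hmax S' ⟨S.isPGroup'.map _, fun h => hQ1 (le_bot_iff.1 (h ▸ hQT.le.trans hTS)),
      even_normalizer_sylow L hLodd hy hyL S⟩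
    exact hQT.ne (Subgroup.eq_of_le_of_card_ge hQT.le ((Subgroup.card_le_of_le hTS).trans h1))
  obtain ⟨g, hg⟩ := MulAction.exists_smul_eq G P₀ P
  rw [← hg, even_iff_two_dvd]
  have hmem : g * y * g⁻¹ ∈ Subgroup.normalizer (((g • P₀ : Sylow p G) : Subgroup G) : Set G) := by
    refine Subgroup.mem_normalizer_fintype fun a ha => ?_
    have ha' := Subgroup.mem_pointwise_smul_iff_inv_smul_mem.1
      (show a ∈ MulAut.conj g • (P₀ : Subgroup G) from ha)
    simp only [← map_inv, MulAut.smul_def, MulAut.conj_apply, inv_inv] at ha'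
    show g * y * g⁻¹ * a * (g * y * g⁻¹)⁻¹ ∈ MulAut.conj g • (P₀ : Subgroup G)
    rw [Subgroup.mem_pointwise_smul_iff_inv_smul_mem]
    simp only [← map_inv, MulAut.smul_def, MulAut.conj_apply, inv_inv]
    rw [show g⁻¹ * (g * y * g⁻¹ * a * (g * y * g⁻¹)⁻¹) * g = y * (g⁻¹ * a * g) * y⁻¹ by group, ← hmain]
    exact (Subgroup.mem_normalizer_iff.1 hyQ _).1 (hmain ▸ ha')
  have ho : orderOf (g * y * g⁻¹) = 2 := by
    rw [← hy]; exact MulEquiv.orderOf_eq (MulAut.conj g) y
  exact ho ▸ (Subgroup.orderOf_mk _ hmem).symm ▸ orderOf_dvd_natCard _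

end Cfsg.Agent.S3982
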