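import Cfsg.Statements.S3983
import Mathlib

set_option autoImplicit false
open scoped Pointwise
open Cfsg

namespace Cfsg.Agent.S3983


/-- Two Sylow subgroups of a TI group sharing a nontrivial element coincide. -/
theorem sylow_eq_of_mem {G : Type*} [Group G] [Finite G] (p : ℕ) [Fact p.Prime] (P : Sylow p G)
    (hTI : ∀ g : G, g ∉ Subgroup.normalizer ((P : Subgroup G) : Set G) →
      (P : Subgroup G) ⊓ (MulAut.conj g • (P : Subgroup G)) = ⊥)
    (R S : Sylow p G) (t : G) (ht : t ≠ 1) (hR : t ∈ R) (hS : t ∈ S) : R = S := by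
  obtain ⟨g, rfl⟩ := MulAction.exists_smul_eq G P R
  obtain ⟨h, rfl⟩ := MulAction.exists_smul_eq G P S
  by_contra hne
  have hn : g⁻¹ * h ∉ Subgroup.normalizer ((P : Subgroup G) : Set G) := by
    intro hn
    have hn' : (g⁻¹ * h) • P = P := Sylow.smul_eq_iff_mem_normalizer.2 hn
    rw [mul_smul, inv_smul_eq_iff] at hn'
    exact hne hn'.symm
  have h2 : g⁻¹ * t * g ∈ (P : Subgroup G) ⊓ (MulAut.conj (g⁻¹ * h) • (P : Subgroup G)) := by
    refine Subgroup.mem_inf.2 ⟨?_, ?_⟩
    · have := Subgroup.mem_pointwise_smul_iff_inv_smul_mem.1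
        (show t ∈ MulAut.conj g • (P : Subgroup G) from hR)
      simpa [MulAut.smul_def, MulAut.conj_apply] using this
    · rw [Subgroup.mem_pointwise_smul_iff_inv_smul_mem]
      have := Subgroup.mem_pointwise_smul_iff_inv_smul_mem.1
        (show t ∈ MulAut.conj h • (P : Subgroup G) from hS)
      simpa [MulAut.smul_def, MulAut.conj_apply, mul_assoc] using this
  rw [hTI _ hn, Subgroup.mem_bot] at h2
  exact ht (by simpa [mul_eq_one_iff_eq_inv, inv_mul_eq_iff_eq_mul] using h2)

/-- Let P be a Sylow p-subgroup of the finite group G that meets each conjugate g P g⁻¹ with g outside N_G(P) trivially, and let U be a subgroup of G of order divisible by p. Then a Sylow p-subgroup Q of U has the same property inside U: Q meets each conjugate u Q u⁻¹ with u ∈ U outside N_U(Q) trivially. -/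
theorem result {G : Type*} [Group G] [Finite G] (p : ℕ) [Fact p.Prime] (P : Sylow p G) (hTI : ∀ g : G, g ∉ Subgroup.normalizer ((P : Subgroup G) : Set G) → (P : Subgroup G) ⊓ (MulAut.conj g • (P : Subgroup G)) = ⊥) (U : Subgroup G) (hU : p ∣ Nat.card ↥U) (Q : Sylow p ↥U) : ∀ u : ↥U, u ∉ Subgroup.normalizer ((Q : Subgroup ↥U) : Set ↥U) → (Q : Subgroup ↥U) ⊓ (MulAut.conj u • (Q : Subgroup ↥U)) = ⊥ := by
  intro u hu
  by_contra hne
  obtain ⟨t, htmem, ht⟩ := Subgroup.ne_bot_iff_exists_ne_one.1 hne |> fun ⟨⟨t, h⟩, h'⟩ =>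
    (⟨t, h, fun e => h' (Subtype.ext e)⟩ : ∃ t : ↥U, t ∈ ((Q : Subgroup ↥U) ⊓ (MulAut.conj u • (Q : Subgroup ↥U))) ∧ t ≠ 1)
  obtain ⟨R, hR⟩ := Sylow.exists_comap_subtype_eq Q
  have h1 : (t : G) ∈ R := by
    have := htmem.1
    rw [← hR] at this
    exact this
  have h2 : (t : G) ∈ ((u : G) • R : Sylow p G) := by
    have := Subgroup.mem_pointwise_smul_iff_inv_smul_mem.1 htmem.2
    rw [← hR] at this
    refine Subgroup.mem_pointwise_smul_iff_inv_smul_mem.2 ?_
    simpa [MulAut.smul_def, MulAut.conj_apply, Subgroup.mem_subgroupOf] using this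
  have heq := sylow_eq_of_mem p P hTI R ((u : G) • R) t (fun e => ht (Subtype.ext e)) h1 h2
  apply hu
  rw [Subgroup.mem_normalizer_iff]
  intro v
  rw [← hR]
  have hn : ((u : G)) ∈ Subgroup.normalizer ((R : Subgroup G) : Set G) :=
    Sylow.smul_eq_iff_mem_normalizer.1 heq.symm
  rw [Subgroup.mem_normalizer_iff] at hn
  simpa [Subgroup.mem_subgroupOf] using hn (v : G)

end Cfsg.Agent.S3983
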