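import Cfsg.Statements.S3984
import Mathlib
import Cfsg.Agent.Lib.SylowQuotient
import Cfsg.Agent.S3983

set_option autoImplicit false
open scoped Pointwise
open Cfsg

namespace Cfsg.Agent.S3984

/-- Let P be a Sylow p-subgroup of the finite group G that meets each conjugate g P g⁻¹ with g outside N_G(P) trivially, and let N be a normal subgroup of G of order prime to p. Then every Sylow p-subgroup Q of G ⧸ N meets each conjugate x Q x⁻¹ with x outside its normalizer trivially. -/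
theorem result {G : Type*} [Group G] [Finite G] (p : ℕ) [Fact p.Prime] (P : Sylow p G) (hTI : ∀ g : G, g ∉ Subgroup.normalizer ((P : Subgroup G) : Set G) → (P : Subgroup G) ⊓ (MulAut.conj g • (P : Subgroup G)) = ⊥) (N : Subgroup G) [N.Normal] (hN : (Nat.card ↥N).Coprime p) (Q : Sylow p (G ⧸ N)) : ∀ x : G ⧸ N, x ∉ Subgroup.normalizer ((Q : Subgroup (G ⧸ N)) : Set (G ⧸ N)) → (Q : Subgroup (G ⧸ N)) ⊓ (MulAut.conj x • (Q : Subgroup (G ⧸ N))) = ⊥ := by
  intro x hx
  by_contra hne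
  obtain ⟨⟨t, htmem⟩, ht⟩ := Subgroup.ne_bot_iff_exists_ne_one.1 hne
  have ht1 : t ≠ 1 := fun e => ht (Subtype.ext e)
  have hxQ : t ∈ (x • Q : Sylow p (G ⧸ N)) := htmem.2
  have hπ := QuotientGroup.mk'_surjective N
  obtain ⟨A, hA, hAmap⟩ := SylowQuotient.exists_pgroup_map_eq (p := p) (QuotientGroup.mk' N) hπ
    (Subgroup.zpowers t) (Q.isPGroup'.to_le (Subgroup.zpowers_le.2 htmem.1))
  obtain ⟨a, haA, hat⟩ : t ∈ A.map (QuotientGroup.mk' N) := hAmap ▸ Subgroup.mem_zpowers t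
  obtain ⟨T, hT, hTQ⟩ := SylowQuotient.exists_sylow_lift (QuotientGroup.mk' N) hπ Q A hA
    (hAmap ▸ Subgroup.zpowers_le.2 htmem.1)
  obtain ⟨T', hT', hTQ'⟩ := SylowQuotient.exists_sylow_lift (QuotientGroup.mk' N) hπ (x • Q) A hA
    (hAmap ▸ Subgroup.zpowers_le.2 hxQ)
  have ha1 : a ≠ 1 := fun e => ht1 (by rw [← hat, e, map_one])
  have heq := S3983.sylow_eq_of_mem p P hTI T T' a ha1 (hT haA) (hT' haA)
  subst heq
  refine hx (Sylow.smul_eq_iff_mem_normalizer.1 (Sylow.ext ?_))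
  exact hTQ'.symm.trans hTQ

end Cfsg.Agent.S3984
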