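import Cfsg.Statements.S3985
import Mathlib
import Cfsg.Agent.Lib.PGroupsCyclic
import Cfsg.Agent.Lib.FrobeniusCount72

set_option autoImplicit false
open scoped Pointwise
open Cfsg

namespace Cfsg.Agent.S3985


/-- A power map fixing a nontrivial power of a generator and having order prime to `p` is trivial. -/
theorem pow_map_trivial {G : Type*} [Group G] {p n : ℕ} (hp : p.Prime) {a h : G} {k : ℤ} {m : ℕ}
    (ha : orderOf a = p ^ n) (hk : h * a * h⁻¹ = a ^ k) (hm : h ^ m = 1) (hpm : ¬ p ∣ m)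
    {i : ℤ} (hi : a ^ i ≠ 1) (hfix : h * a ^ i * h⁻¹ = a ^ i) : h * a * h⁻¹ = a := by
  have hpZ : Prime (p : ℤ) := Nat.prime_iff_prime_int.1 hp
  have h1 : a ^ (k ^ m) = a ^ (1 : ℤ) := by
    rw [← PGroupsCyclic.conj_iterate hk m, hm, one_mul, inv_one, mul_one, zpow_one]
  rw [PGroupsCyclic.zpow_eq_iff_dvd, ha, ← geom_sum_mul] at h1
  have h2 : a ^ (k * i) = a ^ i := by
    rw [zpow_mul, ← hk, conj_zpow, hfix]
  rw [PGroupsCyclic.zpow_eq_iff_dvd, ha, show k * i - i = (k - 1) * i by ring] at h2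
  have hk1 : (p : ℤ) ∣ k - 1 := by
    by_contra hc
    apply hi
    rw [← orderOf_dvd_iff_zpow_eq_one, ha]
    push_cast at h2 ⊢
    exact hpZ.pow_dvd_of_dvd_mul_left _ hc h2
  have hs : ¬ (p : ℤ) ∣ ∑ j ∈ Finset.range m, k ^ j := by
    intro hc
    have h3 : (p : ℤ) ∣ ∑ j ∈ Finset.range m, (k ^ j - 1) :=
      Finset.dvd_sum fun j _ => hk1.trans ⟨_, (mul_geom_sum k j).symm⟩
    rw [Finset.sum_sub_distrib, Finset.sum_const, Finset.card_range, nsmul_one] at h3
    have h4 := Int.dvd_sub hc h3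
    rw [sub_sub_cancel] at h4
    exact hpm (Int.natCast_dvd_natCast.1 h4)
  push_cast at h1
  have h5 := hpZ.pow_dvd_of_dvd_mul_left _ hs h1
  rw [hk]
  conv_rhs => rw [← zpow_one a]
  rw [PGroupsCyclic.zpow_eq_iff_dvd, ha]
  push_cast
  exact h5

/-- Let P be a cyclic Sylow p-subgroup of the finite group G. Then P meets each conjugate g P g⁻¹ with g outside N_G(P) trivially if and only if P is weakly self-centralizing: C_G(x) = C_G(P) for every non-identity x ∈ P. -/
theorem result {G : Type*} [Group G] [Finite G] (p : ℕ) [Fact p.Prime] (P : Sylow p G) (hcyc : IsCyclic ↥(P : Subgroup G)) : (∀ g : G, g ∉ Subgroup.normalizer ((P : Subgroup G) : Set G) → (P : Subgroup G) ⊓ (MulAut.conj g • (P : Subgroup G)) = ⊥) ↔ ∀ x : G, x ∈ (P : Subgroup G) → x ≠ 1 → Subgroup.centralizer ({x} : Set G) = Subgroup.centralizer ((P : Subgroup G) : Set G) := by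
  have hcomm : ∀ u ∈ (P : Subgroup G), ∀ v ∈ (P : Subgroup G), u * v = v * u := fun u hu v hv => by
    obtain ⟨a, ha⟩ := (Subgroup.isCyclic_iff_exists_zpowers_eq_top _).1 hcyc
    rw [← ha, Subgroup.mem_zpowers_iff] at hu hv
    obtain ⟨i, rfl⟩ := hu
    obtain ⟨j, rfl⟩ := hv
    exact ((Commute.refl a).zpow_zpow i j).eq
  constructor
  · intro hTI x hx hx1
    refine le_antisymm ?_ (Subgroup.centralizer_le (Set.singleton_subset_iff.2 hx))
    intro g hg
    rw [Subgroup.mem_centralizer_singleton_iff] at hg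
    have hgN : g ∈ Subgroup.normalizer ((P : Subgroup G) : Set G) := by
      by_contra hn
      have hmem : x ∈ (P : Subgroup G) ⊓ (MulAut.conj g • (P : Subgroup G)) := by
        refine Subgroup.mem_inf.2 ⟨hx, ?_⟩
        rw [Subgroup.mem_pointwise_smul_iff_inv_smul_mem]
        simpa [MulAut.smul_def, MulAut.conj_apply, mul_assoc, ← hg] using hx
      rw [hTI g hn, Subgroup.mem_bot] at hmem
      exact hx1 hmem
    obtain ⟨a, ha⟩ := (Subgroup.isCyclic_iff_exists_zpowers_eq_top _).1 hcyc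
    obtain ⟨n, hn⟩ := IsPGroup.iff_orderOf.1 P.isPGroup' ⟨a, ha ▸ Subgroup.mem_zpowers a⟩
    rw [Subgroup.orderOf_mk] at hn
    have hp : p.Prime := Fact.out
    -- the two parts of `g`
    set s := FrobeniusCount72.primeExp G p
    set t := FrobeniusCount72.primeToExp G p
    have hgs : g ^ s ∈ (P : Subgroup G) := by
      have hq : IsPGroup p (Subgroup.zpowers (g ^ s)) := by
        obtain ⟨j, -, hj⟩ := (Nat.dvd_prime_pow hp).1
          (orderOf_dvd_of_pow_eq_one (FrobeniusCount72.prime_pow p g))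
        exact IsPGroup.of_card (n := j) (by rw [Nat.card_zpowers, hj])
      have hle : (P : Subgroup G) ≤ (P : Subgroup G) ⊔ Subgroup.zpowers (g ^ s) := le_sup_left
      have hsup : IsPGroup p ↥((P : Subgroup G) ⊔ Subgroup.zpowers (g ^ s)) :=
        P.isPGroup'.to_sup_of_normal_left' hq
          (Subgroup.zpowers_le.2 (Subgroup.pow_mem _ hgN _))
      rw [← P.is_maximal' hsup hle]
      exact Subgroup.mem_sup_right (Subgroup.mem_zpowers _)
    have hxa : x ∈ Subgroup.zpowers a := ha ▸ hx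
    obtain ⟨i, rfl⟩ := Subgroup.mem_zpowers_iff.1 hxa
    have haP : a ∈ (P : Subgroup G) := ha ▸ Subgroup.mem_zpowers a
    obtain ⟨k, hk⟩ : g ^ t * a * (g ^ t)⁻¹ ∈ Subgroup.zpowers a :=
      ha ▸ (Subgroup.mem_normalizer_iff.1 (Subgroup.pow_mem _ hgN t) a).1 haP
    have hct : g ^ t * a * (g ^ t)⁻¹ = a := by
      refine pow_map_trivial hp hn hk.symm (FrobeniusCount72.primeTo_pow p g)
        (hp.coprime_iff_not_dvd.1 (Nat.coprime_ordCompl hp Nat.card_pos.ne')) hx1 ?_
      rw [mul_inv_eq_iff_eq_mul]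
      exact ((Commute.pow_left (show Commute g (a ^ i) from hg) t)).eq
    have h1 : g * a = a * g := by
      have h2 : g ^ t * a = a * g ^ t := mul_inv_eq_iff_eq_mul.1 hct
      have h3 := hcomm _ hgs a haP
      conv_lhs => rw [← FrobeniusCount72.parts_mul p g]
      conv_rhs => rw [← FrobeniusCount72.parts_mul p g]
      rw [mul_assoc, h2, ← mul_assoc, h3, mul_assoc]
    rw [Subgroup.mem_centralizer_iff]
    intro v hv
    obtain ⟨j, rfl⟩ := Subgroup.mem_zpowers_iff.1 (show v ∈ Subgroup.zpowers a from ha ▸ hv)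
    exact ((show Commute g a from h1).zpow_right j).eq.symm
  · intro hC g hg
    by_contra hne
    obtain ⟨⟨x, hx⟩, hx1⟩ := Subgroup.ne_bot_iff_exists_ne_one.1 hne
    replace hx1 : x ≠ 1 := fun e => hx1 (Subtype.ext e)
    obtain ⟨hxP, hxg⟩ := Subgroup.mem_inf.1 hx
    rw [Subgroup.mem_pointwise_smul_iff_inv_smul_mem] at hxg
    simp only [← map_inv, MulAut.smul_def, MulAut.conj_apply, inv_inv] at hxg
    have hy1 : g⁻¹ * x * g ≠ 1 := fun e => hx1 (by
      rw [show x = g * (g⁻¹ * x * g) * g⁻¹ by group, e, mul_one, mul_inv_cancel])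
    -- `g` conjugates `P` into the centraliser of `P`
    have hle : ((g • P : Sylow p G) : Subgroup G) ≤ Subgroup.centralizer ((P : Subgroup G) : Set G) := by
      rw [← hC x hxP hx1]
      intro z hz
      have hz' := Subgroup.mem_pointwise_smul_iff_inv_smul_mem.1
        (show z ∈ MulAut.conj g • (P : Subgroup G) from hz)
      simp only [← map_inv, MulAut.smul_def, MulAut.conj_apply, inv_inv] at hz'
      have h2 := hcomm _ hz' _ hxg
      rw [Subgroup.mem_centralizer_singleton_iff]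
      calc z * x = g * ((g⁻¹ * z * g) * (g⁻¹ * x * g)) * g⁻¹ := by group
        _ = g * ((g⁻¹ * x * g) * (g⁻¹ * z * g)) * g⁻¹ := by rw [h2]
        _ = x * z := by group
    have hsup : IsPGroup p ↥((P : Subgroup G) ⊔ ((g • P : Sylow p G) : Subgroup G)) :=
      P.isPGroup'.to_sup_of_normal_left' (g • P).isPGroup'
        (hle.trans (Subgroup.centralizer_le_normalizer _))
    have h3 : ((g • P : Sylow p G) : Subgroup G) ≤ P := by
      rw [← P.is_maximal' hsup le_sup_left]
      exact le_sup_right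
    exact hg (Sylow.smul_eq_iff_mem_normalizer.1 (Sylow.ext ((g • P).is_maximal' P.isPGroup' h3).symm))

end Cfsg.Agent.S3985
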