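import Cfsg.Statements.S3986
import Mathlib

set_option autoImplicit false
open Cfsg

namespace Cfsg.Agent.S3986


/-- Elements of prime power orders for different primes commute when the Sylow subgroup splits. -/
theorem commute_of_split {G : Type*} [Group G] [Finite G] {p : ℕ} [Fact p.Prime] {P : Sylow p G}
    {K : Subgroup G} (hPn : (P : Subgroup G).Normal) (hKn : K.Normal)
    (h1 : (P : Subgroup G) ⊓ K = ⊥) (h2 : (P : Subgroup G) ⊔ K = ⊤) {x y : G}
    (hx : ∃ a : ℕ, orderOf x = p ^ a) (hy : ∃ q b : ℕ, q.Prime ∧ q ≠ p ∧ orderOf y = q ^ b) :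
    x ∈ (P : Subgroup G) ∧ y ∈ K ∧ x * y = y * x := by
  obtain ⟨a, ha⟩ := hx
  obtain ⟨q, b, hq, hqp, hb⟩ := hy
  haveI := hPn
  haveI := hKn
  have hxP : x ∈ (P : Subgroup G) := by
    obtain ⟨Q, hQ⟩ := (IsPGroup.of_card (n := a) (by rw [Nat.card_zpowers, ha]) :
      IsPGroup p (Subgroup.zpowers x)).exists_le_sylow
    rw [@Subsingleton.elim _ (Sylow.unique_of_normal P hPn).instSubsingleton P Q]
    exact hQ (Subgroup.mem_zpowers x)
  have hcompl : Subgroup.IsComplement' K (P : Subgroup G) :=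
    Subgroup.isComplement'_of_disjoint_and_mul_eq_univ (disjoint_iff.2 (by rw [inf_comm, h1]))
      (by rw [← Subgroup.normal_mul, sup_comm, h2, Subgroup.coe_top])
  have hidx : K.index = Nat.card (P : Subgroup G) := hcompl.symm.index_eq_card
  have hyK : y ∈ K := by
    rw [← QuotientGroup.eq_one_iff, ← orderOf_eq_one_iff]
    obtain ⟨n, hn⟩ := IsPGroup.iff_card.1 P.isPGroup'
    have h3 : orderOf (y : G ⧸ K) ∣ q ^ b := hb ▸ orderOf_map_dvd (QuotientGroup.mk' K) y
    have h4 : orderOf (y : G ⧸ K) ∣ p ^ n := by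
      rw [← hn, ← hidx, Subgroup.index]; exact orderOf_dvd_natCard _
    exact Nat.eq_one_of_dvd_coprimes
      (((Nat.coprime_primes hq Fact.out).2 hqp).pow b n) h3 h4
  exact ⟨hxP, hyK, Subgroup.commute_of_normal_of_disjoint _ _ hPn hKn (disjoint_iff.2 h1) x y hxP hyK⟩

/-- Let p be a prime and G a finite group. Then some Sylow p-subgroup of G is a direct factor of G (it is normal and has a normal complement) if and only if every element of p-power order commutes with every element whose order is a power of a prime other than p. -/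
theorem result {G : Type*} [Group G] [Finite G] (p : ℕ) [Fact p.Prime] : (∃ (P : Sylow p G) (K : Subgroup G), (P : Subgroup G).Normal ∧ K.Normal ∧ (P : Subgroup G) ⊓ K = ⊥ ∧ (P : Subgroup G) ⊔ K = ⊤) ↔ ∀ x y : G, (∃ a : ℕ, orderOf x = p ^ a) → (∃ q b : ℕ, q.Prime ∧ q ≠ p ∧ orderOf y = q ^ b) → x * y = y * x := by
  constructor
  · rintro ⟨P, K, hPn, hKn, h1, h2⟩ x y hx hy
    exact (commute_of_split hPn hKn h1 h2 hx hy).2.2
  intro h
  obtain ⟨P⟩ := (inferInstance : Nonempty (Sylow p G))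
  set C := Subgroup.centralizer ((P : Subgroup G) : Set G)
  have hC : ∀ q : ℕ, q.Prime → q ≠ p → ∀ Q : Sylow q G, (Q : Subgroup G) ≤ C := by
    intro q hq hqp Q y hy
    haveI := Fact.mk hq
    rw [Subgroup.mem_centralizer_iff]
    intro x hx
    refine h x y ?_ ⟨q, ?_⟩
    · obtain ⟨a, ha⟩ := IsPGroup.iff_orderOf.1 P.isPGroup' ⟨x, hx⟩
      exact ⟨a, by rwa [Subgroup.orderOf_mk] at ha⟩
    · obtain ⟨b, hb⟩ := IsPGroup.iff_orderOf.1 Q.isPGroup' ⟨y, hy⟩
      exact ⟨b, hq, hqp, by rwa [Subgroup.orderOf_mk] at hb⟩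
  have hidxC : ∀ q : ℕ, q.Prime → q ≠ p → ¬ q ∣ C.index := by
    intro q hq hqp hd
    haveI := Fact.mk hq
    obtain ⟨Q⟩ := (inferInstance : Nonempty (Sylow q G))
    exact Q.not_dvd_index (hd.trans (Subgroup.index_dvd_of_le (hC q hq hqp Q)))
  have htop : Subgroup.normalizer ((P : Subgroup G) : Set G) = ⊤ := by
    rw [← Subgroup.index_eq_one]
    by_contra hne
    obtain ⟨q, hq, hqd⟩ := Nat.exists_prime_and_dvd hne
    rcases eq_or_ne q p with rfl | hqp
    · exact P.not_dvd_index (hqd.trans (Subgroup.index_dvd_of_le Subgroup.le_normalizer))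
    · exact hidxC q hq hqp (hqd.trans (Subgroup.index_dvd_of_le (Subgroup.centralizer_le_normalizer _)))
  haveI hPn : (P : Subgroup G).Normal := Subgroup.normalizer_eq_top_iff.1 htop
  obtain ⟨K, hK⟩ := Subgroup.exists_right_complement'_of_coprime P.card_coprime_index
  haveI : C.Normal := inferInstance
  have hKC : K ≤ C := by
    intro y hy
    rw [← QuotientGroup.eq_one_iff, ← orderOf_eq_one_iff]
    have h1 : orderOf (y : G ⧸ C) ∣ C.index := orderOf_dvd_natCard _
    have h2 : orderOf (y : G ⧸ C) ∣ (P : Subgroup G).index := by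
      rw [hK.symm.index_eq_card]
      exact (orderOf_map_dvd (QuotientGroup.mk' C) y).trans
        ((Subgroup.orderOf_mk y hy).symm ▸ orderOf_dvd_natCard (⟨y, hy⟩ : K))
    by_contra hne
    obtain ⟨q, hq, hqd⟩ := Nat.exists_prime_and_dvd hne
    rcases eq_or_ne q p with rfl | hqp
    · exact P.not_dvd_index (hqd.trans h2)
    · exact hidxC q hq hqp (hqd.trans h1)
  have hKn : K.Normal := by
    refine Subgroup.normalizer_eq_top_iff.1 (top_unique ?_)
    rw [← hK.sup_eq_top]
    refine sup_le (fun g hg => ?_) Subgroup.le_normalizer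
    rw [Subgroup.mem_normalizer_iff]
    intro k
    constructor
    · intro hk
      rwa [Subgroup.mem_centralizer_iff.1 (hKC hk) g hg, mul_assoc, mul_inv_cancel, mul_one]
    · intro hk
      have h2 := Subgroup.mem_centralizer_iff.1 (hKC hk) g hg
      have h3 : k = g * k * g⁻¹ := mul_left_cancel (a := g) (by
        rw [h2]; group)
      rwa [h3]
  exact ⟨P, K, hPn, hKn, disjoint_iff.1 hK.disjoint, hK.sup_eq_top⟩

end Cfsg.Agent.S3986
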