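import Cfsg.Statements.S3987
import Mathlib
import Cfsg.Agent.S3986

set_option autoImplicit false
open Cfsg

namespace Cfsg.Agent.S3987

/-- Let p be a prime and G a finite group. Then some Sylow p-subgroup of G is a direct factor of G (normal with a normal complement) if and only if for every element x of p-power order and every element y whose order is a power of a prime other than p, the conjugacy class of x y has as many elements as the product of the sizes of the classes of x and of y. -/
theorem result {G : Type*} [Group G] [Finite G] (p : ℕ) [Fact p.Prime] : (∃ (P : Sylow p G) (K : Subgroup G), (P : Subgroup G).Normal ∧ K.Normal ∧ (P : Subgroup G) ⊓ K = ⊥ ∧ (P : Subgroup G) ⊔ K = ⊤) ↔ ∀ x y : G, (∃ a : ℕ, orderOf x = p ^ a) → (∃ q b : ℕ, q.Prime ∧ q ≠ p ∧ orderOf y = q ^ b) → (Subgroup.centralizer ({x * y} : Set G)).index = (Subgroup.centralizer ({x} : Set G)).index * (Subgroup.centralizer ({y} : Set G)).index := by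
  constructor
  · rintro ⟨P, K, hPn, hKn, h1, h2⟩ x y hx hy
    obtain ⟨hxP, hyK, hxy⟩ := S3986.commute_of_split hPn hKn h1 h2 hx hy
    obtain ⟨a, ha⟩ := hx
    obtain ⟨q, b, hq, hqp, hb⟩ := hy
    have hcop : Nat.Coprime (orderOf x) (orderOf y) := by
      rw [ha, hb]; exact ((Nat.coprime_primes Fact.out hq).2 hqp.symm).pow a b
    have hinf : Subgroup.centralizer ({x * y} : Set G) =
        Subgroup.centralizer {x} ⊓ Subgroup.centralizer {y} := by
      refine le_antisymm ?_ ?_
      · intro g hg
        have hg' : Commute g (x * y) := Subgroup.mem_centralizer_singleton_iff.1 hg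
        obtain ⟨k, hk1, hk0⟩ := Nat.chineseRemainder hcop 1 0
        have hxk : (x * y) ^ k = x := by
          rw [(show Commute x y from hxy).mul_pow, pow_eq_pow_iff_modEq.2 hk1,
            pow_eq_pow_iff_modEq.2 hk0, pow_one, pow_zero, mul_one]
        have hgx : Commute g x := hxk ▸ hg'.pow_right k
        have hgy : Commute g y := by
          have := hgx.inv_right.mul_right hg'
          rwa [inv_mul_cancel_left] at this
        exact ⟨Subgroup.mem_centralizer_singleton_iff.2 hgx,
          Subgroup.mem_centralizer_singleton_iff.2 hgy⟩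
      · rintro g ⟨hgx, hgy⟩
        exact Subgroup.mem_centralizer_singleton_iff.2
          ((show Commute g x from Subgroup.mem_centralizer_singleton_iff.1 hgx).mul_right
            (show Commute g y from Subgroup.mem_centralizer_singleton_iff.1 hgy))
    rw [hinf]
    have hKx : K ≤ Subgroup.centralizer {x} := fun k hk =>
      Subgroup.mem_centralizer_singleton_iff.2
        (Subgroup.commute_of_normal_of_disjoint _ _ hPn hKn (disjoint_iff.2 h1) x k hxP hk).eq.symm
    have hPy : (P : Subgroup G) ≤ Subgroup.centralizer {y} := fun k hk =>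
      Subgroup.mem_centralizer_singleton_iff.2
        (Subgroup.commute_of_normal_of_disjoint _ _ hPn hKn (disjoint_iff.2 h1) k y hk hyK).eq
    haveI := hKn
    have hcompl : Subgroup.IsComplement' K (P : Subgroup G) :=
      Subgroup.isComplement'_of_disjoint_and_mul_eq_univ (disjoint_iff.2 (by rw [inf_comm, h1]))
        (by rw [← Subgroup.normal_mul, sup_comm, h2, Subgroup.coe_top])
    refine le_antisymm Subgroup.index_inf_le (Nat.le_of_dvd (Nat.pos_of_ne_zero Subgroup.index_ne_zero_of_finite) ?_)
    refine Nat.Coprime.mul_dvd_of_dvd_of_dvd ?_ (Subgroup.index_dvd_of_le inf_le_left)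
      (Subgroup.index_dvd_of_le inf_le_right)
    refine Nat.Coprime.coprime_dvd_left (Subgroup.index_dvd_of_le hKx)
      (Nat.Coprime.coprime_dvd_right (Subgroup.index_dvd_of_le hPy) ?_)
    rw [hcompl.symm.index_eq_card]
    exact P.card_coprime_index
  · intro h
    refine (S3986.result p).2 fun x y hx hy => ?_
    have h1 : Subgroup.centralizer {x} ⊓ Subgroup.centralizer {y} ≤
        Subgroup.centralizer ({x * y} : Set G) := by
      rintro g ⟨hgx, hgy⟩
      exact Subgroup.mem_centralizer_singleton_iff.2
        ((show Commute g x from Subgroup.mem_centralizer_singleton_iff.1 hgx).mul_right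
          (show Commute g y from Subgroup.mem_centralizer_singleton_iff.1 hgy))
    have h2 : (Subgroup.centralizer {x} ⊓ Subgroup.centralizer {y}).index ≤
        (Subgroup.centralizer ({x * y} : Set G)).index := (h x y hx hy).symm ▸ Subgroup.index_inf_le
    have h3 : Subgroup.centralizer {x} ⊓ Subgroup.centralizer {y} =
        Subgroup.centralizer ({x * y} : Set G) := by
      refine Subgroup.eq_of_le_of_card_ge h1 ?_
      have e1 := Subgroup.index_mul_card (Subgroup.centralizer ({x * y} : Set G))
      have e2 := Subgroup.index_mul_card (Subgroup.centralizer {x} ⊓ Subgroup.centralizer {y})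
      refine Nat.le_of_mul_le_mul_left ?_ (Nat.pos_of_ne_zero (Subgroup.index_ne_zero_of_finite (H := Subgroup.centralizer ({x * y} : Set G))))
      rw [e1, ← e2]
      exact Nat.mul_le_mul_right _ h2
    have h4 : x * y ∈ Subgroup.centralizer {x} ⊓ Subgroup.centralizer {y} :=
      h3.symm ▸ Subgroup.mem_centralizer_singleton_iff.2 rfl
    have h5 := Subgroup.mem_centralizer_singleton_iff.1 h4.1
    rw [mul_assoc] at h5
    exact (mul_left_cancel h5).symm

end Cfsg.Agent.S3987
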