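import Cfsg.Statements.S3994
import Mathlib
import Cfsg.Agent.Lib.FrobeniusCount72

set_option autoImplicit false
open Cfsg

namespace Cfsg.Agent.S3994

/-- Let G be a finite group and n a positive integer. The number of elements of G whose order is divisible by n is either 0 or divisible by the largest divisor of the order of G that is coprime to n. -/
theorem result {G : Type*} [Group G] [Finite G] (n : ℕ) (hn : 0 < n) :
    Nat.card {g : G // n ∣ orderOf g} = 0 ∨
      (Nat.card G / Nat.gcd (Nat.card G) (n ^ Nat.card G)) ∣ Nat.card {g : G // n ∣ orderOf g} := by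
  refine Or.inr ?_
  set N := Nat.card G with hN
  have hN0 : N ≠ 0 := Nat.card_pos.ne'
  have hg : Nat.gcd N (n ^ N) ∣ N := Nat.gcd_dvd_left _ _
  rw [Nat.dvd_iff_prime_pow_dvd_dvd]
  intro r k hr hk
  haveI := Fact.mk hr
  have hkN : r ^ k ∣ N := hk.trans (Nat.div_dvd_of_dvd hg)
  have hkA : k ≤ N.factorization r := (hr.pow_dvd_iff_le_factorization hN0).1 hkN
  by_cases hrn : r ∣ n
  · have hA : r ^ N.factorization r ∣ Nat.gcd N (n ^ N) :=
      Nat.dvd_gcd (Nat.ordProj_dvd _ _)
        ((pow_dvd_pow_of_dvd hrn _).trans (pow_dvd_pow n (Nat.factorization_lt r hN0).le))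
    have h := mul_dvd_mul hk hA
    rw [Nat.div_mul_cancel hg, ← pow_add, hr.pow_dvd_iff_le_factorization hN0] at h
    have hk0 : k = 0 := by omega
    subst hk0
    simp
  · exact (pow_dvd_pow r hkA).trans (FrobeniusCount72.ordProj_dvd_card_dvd_orderOf n r hrn)

end Cfsg.Agent.S3994
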