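import Cfsg.Statements.S3995
import Mathlib
import Cfsg.Agent.Lib.FrobeniusCount72
import Cfsg.Agent.Lib.PGroupsCyclic

set_option autoImplicit false
open Cfsg

namespace Cfsg.Agent.S3995

/-- Let G be a finite group such that the numbers of elements of each order that occurs in G (the numbers #{g : o(g) = m}, m ranging over the element orders of G) take exactly two values, 1 and some n ≠ 1. Then either G is a p-group of exponent p and order at least 3 for some prime p, or G is the quaternion group of order 8, or G is cyclic of order 4, or G ≅ Z₂ × P for a p-group P of exponent p with p an odd prime. -/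
theorem result {G : Type*} [Group G] [Finite G] (n : ℕ) (hn : n ≠ 1) (h : ((fun m : ℕ => Nat.card {g : G // orderOf g = m}) '' Set.range (orderOf : G → ℕ)) = {1, n}) :
    (∃ p : ℕ, p.Prime ∧ IsPGroup p G ∧ 3 ≤ Nat.card G ∧ Monoid.exponent G = p) ∨
      Nonempty (G ≃* QuaternionGroup 2) ∨ (IsCyclic G ∧ Nat.card G = 4) ∨
      (∃ (p : ℕ) (P : Type) (_ : Group P) (_ : Finite P), p.Prime ∧ p ≠ 2 ∧ IsPGroup p P ∧ Monoid.exponent P = p ∧
        Nonempty (G ≃* Multiplicative (ZMod 2) × P)) := by
  classical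
  haveI := Fintype.ofFinite G
  set cnt := fun m : ℕ => Nat.card {g : G // orderOf g = m} with hcnt
  have hval : ∀ g : G, cnt (orderOf g) = 1 ∨ cnt (orderOf g) = n := fun g => by
    have hm : cnt (orderOf g) ∈ ({1, n} : Set ℕ) := h ▸ ⟨orderOf g, ⟨g, rfl⟩, rfl⟩
    simpa using hm
  have hzero : ∀ m, (∀ g : G, orderOf g ≠ m) → cnt m = 0 := fun m hm => by
    haveI : IsEmpty {g : G // orderOf g = m} := ⟨fun g => hm g.1 g.2⟩
    exact Nat.card_of_isEmpty
  have htot : ∀ m, Nat.totient m ∣ cnt m := fun m => FrobeniusCount72.totient_dvd_card_orderOf m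
  have hbig : ∀ g : G, 2 < orderOf g → cnt (orderOf g) = n ∧ Nat.totient (orderOf g) ∣ n := by
    intro g hg
    have heq : cnt (orderOf g) = n := by
      refine (hval g).resolve_left fun h1 => ?_
      have h2 := (even_iff_two_dvd.1 (Nat.totient_even hg)).trans (htot (orderOf g))
      rw [h1] at h2
      norm_num at h2
    exact ⟨heq, heq ▸ htot _⟩
  obtain ⟨g₀, hg₀⟩ : ∃ g : G, cnt (orderOf g) = n := by
    have hm : n ∈ ({1, n} : Set ℕ) := by simp
    rw [← h] at hm
    obtain ⟨_, ⟨g, rfl⟩, hg⟩ := hm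
    exact ⟨g, hg⟩
  have hone : cnt 1 = 1 := by
    refine Nat.card_eq_one_iff_unique.2 ⟨⟨fun a b => Subtype.ext ?_⟩, ⟨⟨1, orderOf_one⟩⟩⟩
    rw [orderOf_eq_one_iff.1 a.2, orderOf_eq_one_iff.1 b.2]
  have hn2 : 2 ≤ n := by
    have : cnt (orderOf g₀) ≠ 0 := by
      haveI : Nonempty {g : G // orderOf g = orderOf g₀} := ⟨⟨g₀, rfl⟩⟩
      exact Nat.card_pos.ne'
    omega
  have hsum : ∀ (m : ℕ) (D : Finset ℕ), (∀ d ∈ D, d ∣ m) → (∀ g : G, g ^ m = 1 → orderOf g ∈ D) →
      Nat.card {g : G // g ^ m = 1} = ∑ d ∈ D, cnt d := by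
    intro m D hD hD'
    simp only [hcnt, Nat.card_eq_fintype_card, Fintype.card_subtype]
    rw [Finset.card_eq_sum_card_fiberwise (t := D) (f := fun g : G => orderOf g)
      (fun g hg => hD' g (Finset.mem_filter.1 hg).2)]
    refine Finset.sum_congr rfl fun d hd => ?_
    rw [Finset.filter_filter]
    congr 1
    refine Finset.filter_congr fun g _ => ⟨fun hg => hg.2, fun hg => ⟨?_, hg⟩⟩
    rw [← orderOf_dvd_iff_pow_eq_one, hg]
    exact hD d hd
  have hfrob : ∀ m, m ∣ Nat.card G → m ∣ Nat.card {g : G // g ^ m = 1} :=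
    FrobeniusCount72.dvd_card_pow_eq_one
  have helt : ∀ q : ℕ, q.Prime → q ∣ Nat.card G → ∃ g : G, orderOf g = q := fun q hq hd => by
    haveI := Fact.mk hq
    exact exists_prime_orderOf_dvd_card' q hd
  have hcntn : ∀ m, 2 < m → cnt m = n ∨ cnt m = 0 := fun m hm => by
    by_cases hex : ∃ g : G, orderOf g = m
    · obtain ⟨g, rfl⟩ := hex; exact Or.inl (hbig g hm).1
    · exact Or.inr (hzero m (fun g hg => hex ⟨g, hg⟩))
  -- odd primes
  have hoddp : ∀ q : ℕ, q.Prime → q ≠ 2 → q ∣ Nat.card G → cnt q = n ∧ (q : ℤ) ∣ 1 + (n : ℤ) := by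
    intro q hq hq2 hd
    obtain ⟨g, hg⟩ := helt q hq hd
    have hc : cnt q = n := hg ▸ (hbig g (by have := hq.two_le; omega)).1
    refine ⟨hc, ?_⟩
    have h1 := hfrob q hd
    rw [hsum q {1, q} (by simp) (fun g hg => by
      simpa using (Nat.dvd_prime hq).1 (orderOf_dvd_of_pow_eq_one hg)),
      Finset.sum_pair hq.one_lt.ne, hone, hc] at h1
    exact_mod_cast h1
  have hqsq : ∀ q : ℕ, q.Prime → q ≠ 2 → ∀ g : G, ¬ q ^ 2 ∣ orderOf g := by
    intro q hq hq2 g hg
    have hd : q ∣ Nat.card G := (dvd_pow_self q two_ne_zero).trans (hg.trans (orderOf_dvd_natCard g))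
    have hpos : q ^ 2 ≤ orderOf g := Nat.le_of_dvd (orderOf_pos g) hg
    have h3 : 2 < orderOf g := by
      have := hq.two_le
      nlinarith
    have h4 : q ∣ n := by
      refine dvd_trans ?_ ((Nat.totient_dvd_of_dvd hg).trans (hbig g h3).2)
      rw [Nat.totient_prime_pow hq two_pos]
      exact Dvd.dvd.mul_right (dvd_pow_self q (by norm_num)) _
    have h5 : (q : ℤ) ∣ 1 := by
      have := Int.dvd_sub (hoddp q hq hq2 hd).2 (Int.natCast_dvd_natCast.2 h4)
      simpa using this
    exact hq.ne_one (by exact_mod_cast Int.eq_one_of_dvd_one (Int.natCast_nonneg q) h5)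
  have huniq : ∀ q r : ℕ, q.Prime → r.Prime → q ≠ 2 → r ≠ 2 → q ∣ Nat.card G → r ∣ Nat.card G → q = r := by
    intro q r hq hr hq2 hr2 hqd hrd
    by_contra hne
    have hq3 := hq.two_le
    have hr3 := hr.two_le
    have hcop : Nat.Coprime q r := (Nat.coprime_primes hq hr).2 hne
    have h1 := hfrob (q * r) (hcop.mul_dvd_of_dvd_of_dvd hqd hrd)
    have hlt : q < q * r ∧ r < q * r := ⟨lt_mul_of_one_lt_right hq.pos hr.one_lt, lt_mul_of_one_lt_left hr.pos hq.one_lt⟩
    rw [hsum (q * r) {1, q, r, q * r} (by simp) (fun g hg => by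
      obtain ⟨a, b, ha, hb, hab⟩ := Nat.dvd_mul.1 (orderOf_dvd_of_pow_eq_one hg)
      rcases (Nat.dvd_prime hq).1 ha with rfl | rfl <;> rcases (Nat.dvd_prime hr).1 hb with rfl | rfl <;>
        simp [← hab])] at h1
    rw [Finset.sum_insert (by simp; omega), Finset.sum_insert (by simp; omega),
      Finset.sum_insert (by simp; omega), Finset.sum_singleton, hone, (hoddp q hq hq2 hqd).1,
      (hoddp r hr hr2 hrd).1] at h1
    have h2 : (q : ℤ) ∣ 1 + ((n : ℤ) + (n + (cnt (q * r) : ℤ))) :=
      (dvd_mul_right (q : ℤ) r).trans (by exact_mod_cast h1)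
    have h3 := (hoddp q hq hq2 hqd).2
    rcases hcntn (q * r) (by omega) with hc | hc <;> rw [hc] at h2
    · have h4 : (q : ℤ) ∣ 2 := by
        have := Int.dvd_sub (dvd_mul_of_dvd_right h3 3) h2
        convert this using 1
        ring
      have := Int.le_of_dvd two_pos h4
      omega
    · have h4 : (q : ℤ) ∣ 1 := by
        have := Int.dvd_sub (dvd_mul_of_dvd_right h3 2) h2
        convert this using 1
        push_cast
        ring
      have := Int.le_of_dvd one_pos h4
      omega
  by_cases h2G : 2 ∣ Nat.card G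
  swap
  · obtain ⟨p, hp, hpd⟩ := Nat.exists_prime_and_dvd (n := Nat.card G) (fun h1 => by
      have : orderOf g₀ = 1 := Nat.dvd_one.1 (h1 ▸ orderOf_dvd_natCard g₀)
      rw [this, hone] at hg₀
      omega)
    have hp2 : p ≠ 2 := fun e => h2G (e ▸ hpd)
    have hord : ∀ g : G, orderOf g ∣ p := fun g => by
      have h1 : ∀ q : ℕ, q.Prime → q ∣ orderOf g → q = p := fun q hq hqd =>
        huniq q p hq hp (fun e => h2G (e ▸ hqd.trans (orderOf_dvd_natCard g))) hp2
          (hqd.trans (orderOf_dvd_natCard g)) hpd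
      rw [Nat.eq_prime_pow_of_unique_prime_dvd (orderOf_pos g).ne' (fun {q} hq hqd => h1 q hq hqd)]
      have : (orderOf g).primeFactorsList.length ≤ 1 := by
        by_contra hc
        refine hqsq p hp hp2 g ?_
        rw [Nat.eq_prime_pow_of_unique_prime_dvd (orderOf_pos g).ne' (fun {q} hq hqd => h1 q hq hqd)]
        exact pow_dvd_pow p (by omega)
      calc p ^ (orderOf g).primeFactorsList.length ∣ p ^ 1 := pow_dvd_pow p this
        _ = p := pow_one p
    refine Or.inl ⟨p, hp, ?_, ?_, ?_⟩
    · exact fun g => ⟨1, by rw [pow_one, ← orderOf_dvd_iff_pow_eq_one]; exact hord g⟩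
    · exact le_trans (by have := hp.two_le; omega) (Nat.le_of_dvd Nat.card_pos hpd)
    · refine Nat.dvd_antisymm (Monoid.exponent_dvd.2 hord) ?_
      obtain ⟨g, hg⟩ := helt p hp hpd
      exact hg ▸ Monoid.order_dvd_exponent g
  obtain ⟨z, hz⟩ := helt 2 Nat.prime_two h2G
  have hodd2 : ¬ 2 ∣ cnt 2 := by
    have h1 := hfrob 2 h2G
    rw [hsum 2 {1, 2} (by simp) (fun g hg => by
      simpa using (Nat.dvd_prime Nat.prime_two).1 (orderOf_dvd_of_pow_eq_one hg)),
      Finset.sum_pair (by norm_num), hone] at h1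
    omega
  rcases (hz ▸ hval z : cnt 2 = 1 ∨ cnt 2 = n) with hu | hu
  swap
  · have hord : ∀ g : G, orderOf g ∣ 2 := fun g => by
      have hpos := orderOf_pos g
      by_contra hg
      have h3 : 2 < orderOf g := by
        rcases Nat.lt_or_ge 2 (orderOf g) with h' | h'
        · exact h'
        · exfalso
          apply hg
          rcases Nat.le_one_iff_eq_zero_or_eq_one.1 (show orderOf g - 1 ≤ 1 by omega) with h'' | h''
          · rw [show orderOf g = 1 by omega]; exact one_dvd _
          · rw [show orderOf g = 2 by omega]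
      exact hodd2 (hu ▸ (even_iff_two_dvd.1 (Nat.totient_even h3)).trans (hbig g h3).2)
    refine Or.inl ⟨2, Nat.prime_two, ?_, ?_, ?_⟩
    · exact fun g => ⟨1, by rw [pow_one, ← orderOf_dvd_iff_pow_eq_one]; exact hord g⟩
    · have h1 := hsum 2 {1, 2} (by simp) (fun g hg => by
        simpa using (Nat.dvd_prime Nat.prime_two).1 (orderOf_dvd_of_pow_eq_one hg))
      rw [Finset.sum_pair (by norm_num), hone, hu] at h1
      have h2 := Finite.card_subtype_le (fun g : G => g ^ 2 = 1)
      omega
    · refine Nat.dvd_antisymm (Monoid.exponent_dvd.2 hord) ?_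
      exact hz ▸ Monoid.order_dvd_exponent z
  -- a unique involution
  have hzuniq : ∀ g : G, orderOf g = 2 → g = z := fun g hg =>
    congrArg Subtype.val ((Nat.card_eq_one_iff_unique.1 hu).1.elim ⟨g, hg⟩ ⟨z, hz⟩)
  have hzc : ∀ g : G, g * z = z * g := fun g => by
    rw [← mul_inv_eq_iff_eq_mul]
    exact hzuniq _ ((MulEquiv.orderOf_eq (MulAut.conj g) z).trans hz)
  by_cases hodd : ∃ p : ℕ, p.Prime ∧ p ≠ 2 ∧ p ∣ Nat.card G
  · obtain ⟨p, hp, hp2, hpd⟩ := hodd
    haveI := Fact.mk hp
    have hp3 : 3 ≤ p := by have := hp.two_le; omega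
    have hp4 : p ≠ 4 := fun e => by rw [e] at hp; norm_num at hp
    obtain ⟨x, hx⟩ := helt p hp hpd
    have hxz : orderOf (z * x) = 2 * p := by
      rw [(show Commute z x from (hzc x).symm).orderOf_mul_eq_mul_orderOf_of_coprime
        (by rw [hz, hx]; exact (Nat.coprime_primes Nat.prime_two hp).2 hp2.symm), hz, hx]
    have h4 : ∀ g : G, ¬ 4 ∣ orderOf g := by
      intro g hg
      have hg4 : orderOf (g ^ (orderOf g / 4)) = 4 := orderOf_pow_orderOf_div (orderOf_pos g).ne' hg
      have h4G : 4 ∣ Nat.card G := hg.trans (orderOf_dvd_natCard g)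
      have hc4 : cnt 4 = n := hg4 ▸ (hbig _ (by omega)).1
      have hc2p : cnt (2 * p) = n := hxz ▸ (hbig _ (by omega)).1
      have h1 := hfrob (4 * p) ((Nat.Coprime.pow_left 2 ((Nat.coprime_primes Nat.prime_two hp).2 hp2.symm)
        : Nat.Coprime (2 ^ 2) p).mul_dvd_of_dvd_of_dvd h4G hpd)
      rw [hsum (4 * p) {1, 2, 4, p, 2 * p, 4 * p} (by
          simp only [Finset.mem_insert, Finset.mem_singleton, forall_eq_or_imp, forall_eq]
          exact ⟨one_dvd _, Dvd.intro (2 * p) (by ring), dvd_mul_right _ _, dvd_mul_left _ _,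
            Dvd.intro 2 (by ring), dvd_refl _⟩) (fun g hg => by
        obtain ⟨a, b, ha, hb, hab⟩ := Nat.dvd_mul.1 (orderOf_dvd_of_pow_eq_one hg)
        have ha' : a = 1 ∨ a = 2 ∨ a = 4 := by
          have : a ≤ 4 := Nat.le_of_dvd (by norm_num) ha
          interval_cases a <;> first | omega | (exfalso; revert ha; decide)
        rcases ha' with rfl | rfl | rfl <;> rcases (Nat.dvd_prime hp).1 hb with rfl | rfl <;>
          simp [← hab])] at h1
      rw [Finset.sum_insert (by simp; omega), Finset.sum_insert (by simp; omega),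
        Finset.sum_insert (by simp; omega), Finset.sum_insert (by simp; omega),
        Finset.sum_insert (by simp; omega), Finset.sum_singleton, hone, hu, hc4,
        (hoddp p hp hp2 hpd).1, hc2p] at h1
      have h2 : (p : ℤ) ∣ 1 + (1 + ((n : ℤ) + (n + (n + (cnt (4 * p) : ℤ))))) :=
        (dvd_mul_left (p : ℤ) 4).trans (by exact_mod_cast h1)
      have h3 := (hoddp p hp hp2 hpd).2
      rcases hcntn (4 * p) (by omega) with hc | hc <;> rw [hc] at h2
      · have h5 : (p : ℤ) ∣ 2 := by
          have := Int.dvd_sub (dvd_mul_of_dvd_right h3 4) h2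
          convert this using 1
          ring
        have := Int.le_of_dvd two_pos h5
        omega
      · have h5 : (p : ℤ) ∣ 1 := by
          have := Int.dvd_sub (dvd_mul_of_dvd_right h3 3) h2
          convert this using 1
          push_cast
          ring
        have := Int.le_of_dvd one_pos h5
        omega
    have hord : ∀ g : G, orderOf g ∣ 2 * p := by
      intro g
      rw [Nat.dvd_iff_prime_pow_dvd_dvd]
      intro r k hr hk
      rcases Nat.eq_zero_or_pos k with rfl | hkpos
      · simp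
      have hrG : r ∣ Nat.card G := (dvd_pow_self r hkpos.ne').trans (hk.trans (orderOf_dvd_natCard g))
      have hk1 : k ≤ 1 := by
        by_contra hc
        have hsq : r ^ 2 ∣ orderOf g := (pow_dvd_pow r (by omega)).trans hk
        rcases eq_or_ne r 2 with rfl | hr2
        · exact h4 g hsq
        · exact hqsq r hr hr2 g hsq
      rw [show k = 1 by omega, pow_one]
      rcases eq_or_ne r 2 with rfl | hr2
      · exact dvd_mul_right _ _
      · rw [huniq r p hr hp hr2 hp2 hrG hpd]
        exact dvd_mul_left _ _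
    obtain ⟨P⟩ := (inferInstance : Nonempty (Sylow p G))
    have hPexp : ∀ x : (P : Subgroup G), orderOf x ∣ p := fun x => by
      obtain ⟨k, hk⟩ := IsPGroup.iff_orderOf.1 P.isPGroup' x
      have h1 : p ^ k ∣ 2 * p := by rw [← hk, ← Subgroup.orderOf_coe]; exact hord _
      rw [hk]
      exact (Nat.Coprime.pow_left k ((Nat.coprime_primes hp Nat.prime_two).2 hp2)).dvd_of_dvd_mul_left h1
    -- `G` is the product of the involution and `P`
    let Z := Subgroup.zpowers z
    have hZ : Nat.card Z = 2 := by rw [Nat.card_zpowers, hz]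
    have hcommZ : ∀ (a : Z) (b : G), Commute (a : G) b := fun a b => by
      obtain ⟨i, hi⟩ := Subgroup.mem_zpowers_iff.1 a.2
      rw [← hi]
      exact Commute.zpow_left (hzc b).symm i
    let f : Z × (P : Subgroup G) →* G :=
      { toFun := fun a => (a.1 : G) * a.2
        map_one' := by simp
        map_mul' := fun a b => by
          show ((a.1 * b.1 : Z) : G) * ((a.2 * b.2 : (P : Subgroup G)) : G) = _
          rw [Subgroup.coe_mul, Subgroup.coe_mul, mul_assoc, ← mul_assoc (b.1 : G),
            (hcommZ b.1 (a.2 : G)).eq]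
          simp only [mul_assoc] }
    have hfinj : Function.Injective f := by
      rw [injective_iff_map_eq_one]
      intro a ha
      have ha' : (a.1 : G) = (a.2 : G)⁻¹ := eq_inv_of_mul_eq_one_left ha
      have h1 : orderOf (a.1 : G) = 1 := by
        refine Nat.eq_one_of_dvd_coprimes ((Nat.coprime_primes Nat.prime_two hp).2 hp2.symm)
          (by rw [Subgroup.orderOf_coe, ← hZ]; exact orderOf_dvd_natCard _) ?_
        rw [ha', orderOf_inv, Subgroup.orderOf_coe]; exact hPexp _
      rw [orderOf_eq_one_iff] at h1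
      rw [h1, eq_comm, inv_eq_one] at ha'
      exact Prod.ext (Subtype.ext h1) (Subtype.ext ha')
    have hfsurj : Function.Surjective f := by
      intro g
      have h1 : g ^ (2 * p) = 1 := orderOf_dvd_iff_pow_eq_one.1 (hord g)
      set s := FrobeniusCount72.primeExp G p
      set t := FrobeniusCount72.primeToExp G p
      obtain ⟨Q, hQ⟩ := (IsPGroup.of_card (n := 1) (by rw [Nat.card_zpowers, hx, pow_one]) :
        IsPGroup p (Subgroup.zpowers x)).exists_le_sylow
      have hr : orderOf (g ^ t) ∣ 2 := by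
        have h2 : orderOf (g ^ t) ∣ 2 * p := (orderOf_pow_dvd t).trans (hord g)
        refine Nat.Coprime.dvd_of_dvd_mul_right ?_ h2
        exact Nat.Coprime.coprime_dvd_left (orderOf_dvd_of_pow_eq_one (FrobeniusCount72.primeTo_pow p g))
          (Nat.coprime_ordCompl hp Nat.card_pos.ne').symm
      have hrZ : g ^ t ∈ Z := by
        rcases (Nat.dvd_prime Nat.prime_two).1 hr with h3 | h3
        · rw [orderOf_eq_one_iff.1 h3]; exact one_mem _
        · rw [hzuniq _ h3]; exact Subgroup.mem_zpowers z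
      -- the `p`-part: `P` is normal
      have hidx : (P : Subgroup G).index ∣ 2 := by
        rw [Nat.dvd_iff_prime_pow_dvd_dvd]
        intro r k hr' hk
        rcases Nat.eq_zero_or_pos k with rfl | hkpos
        · simp
        have hrG : r ∣ Nat.card G := (dvd_pow_self r hkpos.ne').trans (hk.trans (Subgroup.index_dvd_card _))
        have hr2 : r = 2 := by
          by_contra hr2
          exact P.not_dvd_index ((dvd_of_eq (huniq r p hr' hp hr2 hp2 hrG hpd).symm).trans ((dvd_pow_self r hkpos.ne').trans hk))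
        subst hr2
        refine pow_dvd_pow 2 (show k ≤ 1 from ?_) |>.trans (dvd_of_eq (pow_one 2))
        by_contra hc
        haveI : Fact (Nat.Prime 2) := ⟨Nat.prime_two⟩
        obtain ⟨K, hK⟩ := Sylow.exists_subgroup_card_pow_prime 2
          (((pow_dvd_pow 2 (by omega : 2 ≤ k)).trans hk).trans (Subgroup.index_dvd_card _))
        have hK2 : ∀ a : K, a = 1 ∨ (a : G) = z := fun a => by
          have h2 : orderOf (a : G) ∣ 2 := by
            rw [Subgroup.orderOf_coe]
            obtain ⟨j, hj, hj'⟩ := (Nat.dvd_prime_pow Nat.prime_two).1 (hK ▸ orderOf_dvd_natCard a)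
            have hj1 : j ≤ 1 := by
              by_contra hj1
              have : j = 2 := by omega
              subst this
              exact h4 (a : G) (by rw [Subgroup.orderOf_coe, hj']; norm_num)
            rw [hj']
            exact (pow_dvd_pow 2 hj1).trans (dvd_of_eq (pow_one 2))
          rcases (Nat.dvd_prime Nat.prime_two).1 h2 with h3 | h3
          · exact Or.inl (Subtype.ext (orderOf_eq_one_iff.1 h3))
          · exact Or.inr (hzuniq _ h3)
        have hle : Nat.card K ≤ Nat.card Z := by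
          refine Nat.card_le_card_of_injective (fun a : K => (⟨(a : G), by
            rcases hK2 a with h3 | h3
            · rw [h3]; exact one_mem _
            · rw [h3]; exact Subgroup.mem_zpowers z⟩ : Z)) (fun a b hab => Subtype.ext (congrArg (fun c : Z => (c : G)) hab))
        omega
      have hPn : (P : Subgroup G).Normal := by
        rcases (Nat.dvd_prime Nat.prime_two).1 hidx with h3 | h3
        · rw [Subgroup.index_eq_one] at h3; rw [h3]; infer_instance
        · exact Subgroup.normal_of_index_eq_two h3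
      have hsP : g ^ s ∈ (P : Subgroup G) := by
        obtain ⟨j, -, hj⟩ := (Nat.dvd_prime_pow hp).1
          (orderOf_dvd_of_pow_eq_one (FrobeniusCount72.prime_pow p g))
        obtain ⟨R, hR⟩ := (IsPGroup.of_card (n := j) (by rw [Nat.card_zpowers, hj]) :
          IsPGroup p (Subgroup.zpowers (g ^ s))).exists_le_sylow
        rw [@Subsingleton.elim _ (Sylow.unique_of_normal P hPn).instSubsingleton P R]
        exact hR (Subgroup.mem_zpowers _)
      refine ⟨(⟨_, hrZ⟩, ⟨_, hsP⟩), ?_⟩
      show g ^ t * g ^ s = g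
      rw [(Commute.pow_pow_self g t s).eq]
      exact FrobeniusCount72.parts_mul p g
    let eP' : (P : Subgroup G) ≃* Shrink.{0} (P : Subgroup G) := Shrink.mulEquiv.symm
    haveI : IsCyclic Z := inferInstance
    let eZ : Z ≃* Multiplicative (ZMod 2) := mulEquivOfCyclicCardEq (by rw [hZ]; simp)
    refine Or.inr (Or.inr (Or.inr ⟨p, Shrink.{0} (P : Subgroup G), inferInstance, Finite.of_equiv _ eP'.toEquiv, hp, hp2,
      P.isPGroup'.of_equiv eP', ?_, ⟨((MulEquiv.ofBijective f ⟨hfinj, hfsurj⟩).symm).trans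
        (MulEquiv.prodCongr eZ eP')⟩⟩))
    rw [← Monoid.exponent_eq_of_mulEquiv eP']
    refine Nat.dvd_antisymm (Monoid.exponent_dvd.2 hPexp) ?_
    obtain ⟨y, hy⟩ := exists_prime_orderOf_dvd_card' (G := (P : Subgroup G)) p
      (P.dvd_card_of_dvd_card hpd)
    exact (dvd_of_eq hy.symm).trans (Monoid.order_dvd_exponent y)
  push Not at hodd
  haveI : Fact (Nat.Prime 2) := ⟨Nat.prime_two⟩
  have hG2 : IsPGroup 2 G := IsPGroup.of_card (n := (Nat.card G).primeFactorsList.length)
    (Nat.eq_prime_pow_of_unique_prime_dvd Nat.card_pos.ne' (fun {q} hq hqd => by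
      by_contra hne
      exact hodd q hq hne hqd))
  obtain ⟨g4, hg4⟩ : ∃ g : G, 2 < orderOf g := by
    refine ⟨g₀, ?_⟩
    have hpos := orderOf_pos g₀
    by_contra hc
    rcases Nat.le_one_iff_eq_zero_or_eq_one.1 (show orderOf g₀ - 1 ≤ 1 by omega) with h'' | h''
    · rw [show orderOf g₀ = 1 by omega, hone] at hg₀; omega
    · rw [show orderOf g₀ = 2 by omega, hu] at hg₀; omega
  obtain ⟨a, ha⟩ := IsPGroup.iff_orderOf.1 hG2 g4
  have ha2 : 2 ≤ a := by
    by_contra hc
    have := Nat.pow_le_pow_right two_pos (show a ≤ 1 by omega)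
    omega
  have h4' : orderOf (g4 ^ (orderOf g4 / 4)) = 4 := by
    refine orderOf_pow_orderOf_div (orderOf_pos g4).ne' ?_
    rw [ha]
    exact (by norm_num : (4 : ℕ) = 2 ^ 2) ▸ pow_dvd_pow 2 ha2
  have hn4 : ¬ 4 ∣ n := by
    have h1 := hfrob 4 (h4' ▸ orderOf_dvd_natCard _)
    rw [hsum 4 {1, 2, 4} (by simp) (fun g hg => by
      have h2 := orderOf_dvd_of_pow_eq_one hg
      have h3 := Nat.le_of_dvd (by norm_num) h2
      generalize orderOf g = d at h2 h3 ⊢
      interval_cases d <;> first | (simp; done) | (exfalso; revert h2; decide))] at h1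
    have hc4 : cnt 4 = n := h4' ▸ (hbig _ (by omega)).1
    rw [Finset.sum_insert (by simp), Finset.sum_pair (by norm_num), hone, hu, hc4] at h1
    omega
  have hexp : ∀ g : G, orderOf g ∣ 4 := fun g => by
    obtain ⟨k, hk⟩ := IsPGroup.iff_orderOf.1 hG2 g
    rw [hk]
    by_cases hk2 : k ≤ 2
    · exact (pow_dvd_pow 2 hk2).trans (by norm_num)
    · exfalso
      apply hn4
      have h3 : 2 < orderOf g := by
        rw [hk]
        have := Nat.pow_le_pow_right two_pos (show 3 ≤ k by omega)
        omega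
      refine dvd_trans ?_ (hbig g h3).2
      rw [hk, Nat.totient_prime_pow Nat.prime_two (by omega)]
      exact Dvd.dvd.mul_right ((by norm_num : (4 : ℕ) = 2 ^ 2) ▸ pow_dvd_pow 2 (by omega)) _
  have hcyc4 : IsCyclic G → Nat.card G = 4 := fun hc => by
    obtain ⟨g, hg⟩ := hc.exists_generator
    have h1 := orderOf_eq_card_of_forall_mem_zpowers hg
    exact Nat.dvd_antisymm (h1 ▸ hexp g) (h4' ▸ orderOf_dvd_natCard _)
  rcases PGroupsCyclic.isCyclic_or_quaternion (p := 2) hG2 (fun A B hA hB => by
      have hz' : ∀ C : Subgroup G, Nat.card C = 2 → C = Subgroup.zpowers z := fun C hC => by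
        obtain ⟨⟨c, hcC⟩, hc⟩ := exists_prime_orderOf_dvd_card' (G := C) 2 (dvd_of_eq hC.symm)
        rw [Subgroup.orderOf_mk] at hc
        have := hzuniq c hc
        subst this
        exact (Subgroup.eq_of_le_of_card_ge (Subgroup.zpowers_le.2 hcC) (by rw [Nat.card_zpowers, hz, hC])).symm
      rw [hz' A hA, hz' B hB]) with hc | ⟨-, k, ⟨e⟩⟩
  · exact Or.inr (Or.inr (Or.inl ⟨hc, hcyc4 hc⟩))
  haveI : NeZero (2 ^ k) := ⟨pow_ne_zero _ two_ne_zero⟩
  have hk : 2 * 2 ^ k ∣ 4 := by
    have := hexp (e.symm (QuaternionGroup.a 1))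
    rwa [MulEquiv.orderOf_eq, QuaternionGroup.orderOf_a_one] at this
  have hk' : k = 0 ∨ k = 1 := by
    by_contra hc
    push Not at hc
    have := Nat.le_of_dvd (by norm_num) hk
    have := Nat.pow_le_pow_right two_pos (show 2 ≤ k by omega)
    omega
  rcases hk' with rfl | rfl
  · have hcard : Nat.card G = 4 := by
      rw [Nat.card_congr e.toEquiv, Nat.card_eq_fintype_card, QuaternionGroup.card]; norm_num
    exact Or.inr (Or.inr (Or.inl ⟨isCyclic_of_orderOf_eq_card _ (h4'.trans hcard.symm), hcard⟩))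
  · exact Or.inr (Or.inl ⟨e⟩)

end Cfsg.Agent.S3995
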