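import Cfsg.Statements.S3997
import Mathlib

set_option autoImplicit false
open Cfsg

namespace Cfsg.Agent.S3997

/-- Let G and H be finite groups with the same order type: for every m they have the same number of elements of order m. If G is nilpotent then so is H. -/
theorem result {G H : Type*} [Group G] [Finite G] [Group H] [Finite H] (hT : (∀ m : ℕ, Nat.card {g : G // orderOf g = m} = Nat.card {h : H // orderOf h = m})) (hG : Group.IsNilpotent G) :
    Group.IsNilpotent H := by
  classical
  haveI := Fintype.ofFinite G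
  haveI := Fintype.ofFinite H
  have hfib : ∀ m, Nonempty ({g : G // orderOf g = m} ≃ {h : H // orderOf h = m}) := fun m =>
    Finite.card_eq.1 (hT m)
  let e0 := fun m => (hfib m).some
  let e : G ≃ H := Equiv.ofFiberEquiv e0
  have he : ∀ g, orderOf (e g) = orderOf g := fun g => Equiv.ofFiberEquiv_map _ g
  have hcard : Nat.card G = Nat.card H := Nat.card_congr e
  refine ((Group.isNilpotent_of_finite_tfae (G := H)).out 0 3).2 ?_
  have hGn := ((Group.isNilpotent_of_finite_tfae (G := G)).out 0 3).1 hG
  intro p hp P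
  let S : Set H := {h | ∃ k, orderOf h = p ^ k}
  have hsub : ((P : Subgroup H) : Set H) ⊆ S := by
    intro h hh
    obtain ⟨k, hk⟩ := IsPGroup.iff_orderOf.1 P.2 ⟨h, hh⟩
    exact ⟨k, by rwa [Subgroup.orderOf_mk] at hk⟩
  obtain ⟨Q⟩ : Nonempty (Sylow p G) := inferInstance
  have hQ : (Q : Subgroup G).Normal := hGn p hp Q
  have himg : S = e '' ((Q : Subgroup G) : Set G) := by
    ext h
    constructor
    · rintro ⟨k, hk⟩
      refine ⟨e.symm h, ?_, e.apply_symm_apply h⟩
      have : IsPGroup p (Subgroup.zpowers (e.symm h)) :=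
        IsPGroup.of_card (n := k) (by rw [Nat.card_zpowers, ← he, e.apply_symm_apply, hk])
      obtain ⟨Q', hQ'⟩ := this.exists_le_sylow
      haveI := hQ
      letI := Sylow.unique_of_normal Q hQ
      rw [Subsingleton.elim Q Q']
      exact hQ' (Subgroup.mem_zpowers _)
    · rintro ⟨g, hg, rfl⟩
      obtain ⟨k, hk⟩ := IsPGroup.iff_orderOf.1 Q.2 ⟨g, hg⟩
      exact ⟨k, by rw [he]; rwa [Subgroup.orderOf_mk] at hk⟩
  have hle : Set.ncard S ≤ Set.ncard ((P : Subgroup H) : Set H) := by
    rw [himg, Set.ncard_image_of_injective _ e.injective]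
    simp only [← Nat.card_coe_set_eq, SetLike.coe_sort_coe]
    rw [Sylow.card_eq_multiplicity, Sylow.card_eq_multiplicity, hcard]
  have heq : ((P : Subgroup H) : Set H) = S := Set.eq_of_subset_of_ncard_le hsub hle
  refine ⟨fun n hn g => ?_⟩
  have : n ∈ S := heq ▸ hn
  obtain ⟨k, hk⟩ := this
  show g * n * g⁻¹ ∈ ((P : Subgroup H) : Set H)
  rw [heq]
  exact ⟨k, by rw [← hk]; exact orderOf_injective (MulAut.conj g).toMonoidHom (MulAut.conj g).injective n⟩

end Cfsg.Agent.S3997
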