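import Cfsg.Statements.S3998
import Mathlib
import Cfsg.Agent.Lib.Supersolvable

set_option autoImplicit false
open Cfsg

namespace Cfsg.Agent.S3998

universe u v

theorem orderOf_mk_eq {G : Type*} [Group G] [Finite G] {p : ℕ} [hp : Fact p.Prime]
    (P : Sylow p G) [hn : (P : Subgroup G).Normal] (g : G) :
    orderOf (QuotientGroup.mk g : G ⧸ (P : Subgroup G)) = ordCompl[p] (orderOf g) := by
  set x : G ⧸ (P : Subgroup G) := QuotientGroup.mk g
  have hnd : ¬ p ∣ orderOf x := fun h => by
    have := h.trans (orderOf_dvd_natCard x)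
    rw [← Subgroup.index_eq_card] at this
    exact P.not_dvd_index this
  have h1 : orderOf x ∣ orderOf g := orderOf_map_dvd (QuotientGroup.mk' (P : Subgroup G)) g
  obtain ⟨c, hc⟩ := h1
  have hmem : g ^ orderOf x ∈ (P : Subgroup G) := by
    rw [← QuotientGroup.eq_one_iff, QuotientGroup.mk_pow]
    exact pow_orderOf_eq_one x
  obtain ⟨k, hk⟩ := P.2 ⟨g ^ orderOf x, hmem⟩
  have hk' : g ^ (orderOf x * p ^ k) = 1 := by
    rw [pow_mul]; exact congrArg Subtype.val hk
  have h2 : c ∣ p ^ k := by
    have := orderOf_dvd_of_pow_eq_one hk'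
    rw [hc] at this
    exact Nat.dvd_of_mul_dvd_mul_left (orderOf_pos x) this
  obtain ⟨j, -, rfl⟩ := (Nat.dvd_prime_pow hp.out).1 h2
  rw [hc, mul_comm]
  symm
  rw [Nat.ordCompl_self_pow_mul _ j hp.out]
  exact Nat.ordCompl_eq_self_iff_zero_or_not_dvd _ hp.out |>.2 (Or.inr hnd)

theorem normal_of_equiv {G H : Type*} [Group G] [Finite G] [Group H] [Finite H] (e : G ≃ H)
    (he : ∀ g, orderOf (e g) = orderOf g) (p : ℕ) [hp : Fact p.Prime]
    (Q : Sylow p G) (hQ : (Q : Subgroup G).Normal) (P : Sylow p H) : (P : Subgroup H).Normal := by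
  let S : Set H := {h | ∃ k, orderOf h = p ^ k}
  have hcard : Nat.card G = Nat.card H := Nat.card_congr e
  have hsub : ((P : Subgroup H) : Set H) ⊆ S := by
    intro h hh
    obtain ⟨k, hk⟩ := IsPGroup.iff_orderOf.1 P.2 ⟨h, hh⟩
    exact ⟨k, by rwa [Subgroup.orderOf_mk] at hk⟩
  have himg : S = e '' ((Q : Subgroup G) : Set G) := by
    ext h
    constructor
    · rintro ⟨k, hk⟩
      refine ⟨e.symm h, ?_, e.apply_symm_apply h⟩
      have : IsPGroup p (Subgroup.zpowers (e.symm h)) :=
        IsPGroup.of_card (n := k) (by rw [Nat.card_zpowers, ← he, e.apply_symm_apply, hk])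
      obtain ⟨Q', hQ'⟩ := this.exists_le_sylow
      haveI := hQ
      letI := Sylow.unique_of_normal Q hQ
      rw [Subsingleton.elim Q Q']
      exact hQ' (Subgroup.mem_zpowers _)
    · rintro ⟨g, hg, rfl⟩
      obtain ⟨k, hk⟩ := IsPGroup.iff_orderOf.1 Q.2 ⟨g, hg⟩
      exact ⟨k, by rw [he]; rwa [Subgroup.orderOf_mk] at hk⟩
  have hle : Set.ncard S ≤ Set.ncard ((P : Subgroup H) : Set H) := by
    rw [himg, Set.ncard_image_of_injective _ e.injective]
    simp only [← Nat.card_coe_set_eq, SetLike.coe_sort_coe]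
    rw [Sylow.card_eq_multiplicity, Sylow.card_eq_multiplicity, hcard]
  have heq : ((P : Subgroup H) : Set H) = S := Set.eq_of_subset_of_ncard_le hsub hle
  refine ⟨fun n hn g => ?_⟩
  have : n ∈ S := heq ▸ hn
  obtain ⟨k, hk⟩ := this
  show g * n * g⁻¹ ∈ ((P : Subgroup H) : Set H)
  rw [heq]
  exact ⟨k, by rw [← hk]; exact orderOf_injective (MulAut.conj g).toMonoidHom (MulAut.conj g).injective n⟩

theorem aux (n : ℕ) : ∀ (G : Type u) [Group G] [Finite G] (H : Type v) [Group H] [Finite H],
    Nat.card G = n → (∀ m : ℕ, Nat.card {g : G // orderOf g = m} = Nat.card {h : H // orderOf h = m}) →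
    Cfsg.IsSupersolvable G → Group.IsSolvable H := by
  induction n using Nat.strong_induction_on with
  | _ n ih =>
  intro G _ _ H _ _ hn hT hG
  have hfib : ∀ m, Nonempty ({g : G // orderOf g = m} ≃ {h : H // orderOf h = m}) := fun m =>
    Finite.card_eq.1 (hT m)
  let e0 := fun m => (hfib m).some
  let e : G ≃ H := Equiv.ofFiberEquiv e0
  have he : ∀ g, orderOf (e g) = orderOf g := fun g => Equiv.ofFiberEquiv_map _ g
  have hcard : Nat.card G = Nat.card H := Nat.card_congr e
  rcases subsingleton_or_nontrivial G with hsing | hnt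
  · haveI : Subsingleton H := e.symm.subsingleton
    exact Group.isSolvable_of_comm fun a b => Subsingleton.elim _ _
  have hne : (Nat.card G).primeFactors.Nonempty :=
    Nat.nonempty_primeFactors.mpr Finite.one_lt_card
  set p := (Nat.card G).primeFactors.max' hne with hpdef
  have hpm := Nat.mem_primeFactors.mp ((Nat.card G).primeFactors.max'_mem hne)
  have hmax : ∀ q : ℕ, q.Prime → q ∣ Nat.card G → q ≤ p := fun q hq hd =>
    Finset.le_max' _ _ (Nat.mem_primeFactors.mpr ⟨hq, hd, hpm.2.2⟩)
  haveI : Fact p.Prime := ⟨hpm.1⟩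
  obtain ⟨Q⟩ : Nonempty (Sylow p G) := inferInstance
  obtain ⟨P⟩ : Nonempty (Sylow p H) := inferInstance
  haveI hQn : (Q : Subgroup G).Normal := Supersolvable.sylow_normal_of_max hG p hmax Q
  haveI hPn : (P : Subgroup H).Normal := normal_of_equiv e he p Q hQn P
  have hPQ : Nat.card (Q : Subgroup G) = Nat.card (P : Subgroup H) := by
    rw [Sylow.card_eq_multiplicity, Sylow.card_eq_multiplicity, hcard]
  have hT' : ∀ m : ℕ, Nat.card {x : G ⧸ (Q : Subgroup G) // orderOf x = m} =
      Nat.card {y : H ⧸ (P : Subgroup H) // orderOf y = m} := by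
    intro m
    refine Nat.eq_of_mul_eq_mul_left (Nat.card_pos (α := (Q : Subgroup G))) ?_
    conv_rhs => rw [hPQ]
    rw [← Nat.card_prod, ← Nat.card_prod]
    refine Nat.card_congr
      ((QuotientGroup.preimageMkEquivSubgroupProdSet _ {x | orderOf x = m}).symm.trans
        (Equiv.trans (Equiv.subtypeEquiv e fun g => ?_)
          (QuotientGroup.preimageMkEquivSubgroupProdSet _ {y | orderOf y = m})))
    show orderOf (QuotientGroup.mk g : G ⧸ (Q : Subgroup G)) = m ↔
      orderOf (QuotientGroup.mk (e g) : H ⧸ (P : Subgroup H)) = m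
    rw [orderOf_mk_eq, orderOf_mk_eq, he]
  have hlt : Nat.card (G ⧸ (Q : Subgroup G)) < n :=
    hn ▸ Supersolvable.card_quotient_lt _ (Q.ne_bot_of_dvd_card hpm.2.1)
  have hq : Group.IsSolvable (H ⧸ (P : Subgroup H)) :=
    ih _ hlt (G ⧸ (Q : Subgroup G)) (H ⧸ (P : Subgroup H)) rfl hT' (Supersolvable.quotient hG _)
  rw [Group.isSolvable_iff_subgroup_quotient (P : Subgroup H)]
  exact ⟨IsNilpotent.to_isSolvable (h := P.2.isNilpotent), hq⟩

/-- Let G and H be finite groups with the same order type (for every m the same number of elements of order m). If G is supersolvable then H is solvable. -/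
theorem result {G H : Type*} [Group G] [Finite G] [Group H] [Finite H] (hT : (∀ m : ℕ, Nat.card {g : G // orderOf g = m} = Nat.card {h : H // orderOf h = m})) (hG : Cfsg.IsSupersolvable G) :
    Group.IsSolvable H := by
  exact aux (Nat.card G) G H rfl hT hG

end Cfsg.Agent.S3998
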