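import Cfsg.Statements.S3999
import Mathlib
import Cfsg.Agent.Lib.FrobeniusComplement
import Cfsg.Agent.Lib.FrobeniusNilpotent
import Cfsg.Agent.Lib.ComponentsFitting
import Cfsg.Agent.Lib.QuaternionOddAut
import Cfsg.Agent.S0144


set_option autoImplicit false
open Cfsg

namespace Cfsg.Agent.S3999

/-- number of solutions of `x ^ m = 1` -/
noncomputable def sol (X : Type*) [Group X] (m : ℕ) : ℕ := Nat.card {x : X // x ^ m = 1}

lemma sol_eq_sum {X : Type*} [Group X] [Finite X] {m : ℕ} (hm : m ≠ 0) :
    sol X m = ∑ d ∈ m.divisors, Nat.card {g : X // orderOf g = d} := by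
  classical
  haveI := Fintype.ofFinite X
  simp only [sol, Nat.card_eq_fintype_card, Fintype.card_subtype]
  exact (sum_card_orderOf_eq_card_pow_eq_one hm).symm

lemma sol_congr {X Y : Type*} [Group X] [Finite X] [Group Y] [Finite Y]
    (hT : ∀ m : ℕ, Nat.card {g : X // orderOf g = m} = Nat.card {h : Y // orderOf h = m})
    {m : ℕ} (hm : m ≠ 0) : sol X m = sol Y m := by
  rw [sol_eq_sum hm, sol_eq_sum hm]
  exact Finset.sum_congr rfl fun d _ => hT d

lemma sol_of_all {X : Type*} [Group X] {m : ℕ} (h : ∀ x : X, x ^ m = 1) : sol X m = Nat.card X :=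
  Nat.card_congr (Equiv.subtypeUnivEquiv h)

lemma card_eq_of {X Y : Type*} [Group X] [Finite X] [Group Y] [Finite Y]
    (hT : ∀ m : ℕ, Nat.card {g : X // orderOf g = m} = Nat.card {h : Y // orderOf h = m}) :
    Nat.card X = Nat.card Y := by
  have h := sol_congr hT (m := Nat.card X * Nat.card Y) (Nat.mul_ne_zero Nat.card_pos.ne' Nat.card_pos.ne')
  rwa [sol_of_all fun x => by rw [pow_mul, pow_card_eq_one', one_pow],
    sol_of_all fun y => by rw [mul_comm, pow_mul, pow_card_eq_one', one_pow]] at h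

lemma mem_of_sol {X : Type*} [Group X] [Finite X] {L : Subgroup X} {m : ℕ}
    (hL : Nat.card L = m) (hs : sol X m = m) {x : X} (hx : x ^ m = 1) : x ∈ L := by
  let f : L → {x : X // x ^ m = 1} := fun y => ⟨y, by
    have := pow_card_eq_one' (x := y)
    rw [hL] at this
    simpa using congrArg Subtype.val this⟩
  have hf : Function.Injective f := fun a b h => Subtype.ext (congrArg (fun z : {x : X // x ^ m = 1} => (z : X)) h :)
  obtain ⟨y, hy⟩ := (hf.bijective_of_nat_card_le (by rw [hL]; exact le_of_eq hs)).2 ⟨x, hx⟩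
  have : (y : X) = x := congrArg Subtype.val hy
  exact this ▸ y.2

lemma normal_of_sol {X : Type*} [Group X] [Finite X] {L : Subgroup X} {m : ℕ}
    (hL : Nat.card L = m) (hs : sol X m = m) : L.Normal := by
  refine ⟨fun x hx g => mem_of_sol hL hs ?_⟩
  have h1 := pow_card_eq_one' (x := (⟨x, hx⟩ : L))
  rw [hL] at h1
  have h2 : x ^ m = 1 := by simpa using congrArg Subtype.val h1
  rw [conj_pow, h2, mul_one, mul_inv_cancel]

lemma sol_of_normal {X : Type*} [Group X] [Finite X] {N : Subgroup X} [N.Normal]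
    (hc : (Nat.card N).Coprime N.index) : sol X (Nat.card N) = Nat.card N := by
  refine Nat.card_congr (Equiv.subtypeEquivRight fun x => ⟨fun hx => ?_, fun hx => ?_⟩)
  · rw [← QuotientGroup.eq_one_iff x, ← orderOf_eq_one_iff]
    refine Nat.eq_one_of_dvd_coprimes hc ?_ ?_
    · apply orderOf_dvd_of_pow_eq_one
      rw [← QuotientGroup.mk_pow, hx, QuotientGroup.mk_one]
    · exact orderOf_dvd_natCard _
  · exact congrArg Subtype.val (pow_card_eq_one' (x := (⟨x, hx⟩ : N)))

lemma card_sup {X : Type*} [Group X] [Finite X] (N P : Subgroup X) [N.Normal]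
    (h : (Nat.card N).Coprime (Nat.card P)) : Nat.card (N ⊔ P : Subgroup X) = Nat.card N * Nat.card P :=
  PGroupsBasic.card_sup_of_normal (Subgroup.inf_eq_bot_of_coprime h)

/-- `X` has a normal Hall subgroup for the primes `≥ t` -/
def HallGE (t : ℕ) (X : Type*) [Group X] : Prop :=
  ∃ N : Subgroup X, N.Normal ∧ (∀ p : ℕ, p.Prime → p ∣ Nat.card N → t ≤ p) ∧
    ∀ p : ℕ, p.Prime → p ∣ N.index → p < t

lemma hallGE_transfer {A B : Type*} [Group A] [Finite A] [Group B] [Finite B]
    (hc : Nat.card A = Nat.card B) (hs : ∀ m, m ∣ Nat.card A → sol A m = sol B m)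
    (hA : ∀ t, 5 ≤ t → HallGE t A) : ∀ d t, Nat.card B < t + d → 5 ≤ t → HallGE t B := by
  intro d
  induction d with
  | zero =>
    intro t ht _
    refine ⟨⊥, inferInstance, fun p hp hd => ?_, fun p hp hd => ?_⟩
    · rw [Subgroup.card_bot, Nat.dvd_one] at hd; exact absurd hd hp.ne_one
    · rw [Subgroup.index_bot] at hd; exact lt_of_le_of_lt (Nat.le_of_dvd Nat.card_pos hd) ht
  | succ d ih =>
    intro t ht h5
    obtain ⟨N, hN, hN1, hN2⟩ := ih (t + 1) (by omega) (by omega)
    by_cases htp : t.Prime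
    swap
    · refine ⟨N, hN, fun p hp hd => by have := hN1 p hp hd; omega, fun p hp hd => ?_⟩
      rcases Nat.lt_succ_iff_lt_or_eq.1 (hN2 p hp hd) with h | h
      · exact h
      · exact absurd (h ▸ hp) htp
    haveI := Fact.mk htp
    obtain ⟨S⟩ := (inferInstance : Nonempty (Sylow t B))
    obtain ⟨a, ha⟩ := IsPGroup.iff_card.1 S.isPGroup'
    have hcop : (Nat.card N).Coprime (Nat.card (S : Subgroup B)) := by
      rw [ha]
      refine Nat.Coprime.pow_right _ ((Nat.Prime.coprime_iff_not_dvd htp).2 fun h => ?_).symm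
      have := hN1 t htp h
      omega
    have hL : Nat.card (N ⊔ S : Subgroup B) = Nat.card N * Nat.card (S : Subgroup B) := card_sup _ _ hcop
    have hL1 : ∀ p : ℕ, p.Prime → p ∣ Nat.card (N ⊔ S : Subgroup B) → t ≤ p := by
      intro p hp hd
      rw [hL] at hd
      rcases hp.dvd_mul.1 hd with h | h
      · have := hN1 p hp h; omega
      · rw [ha] at h
        exact ((Nat.prime_dvd_prime_iff_eq hp htp).1 (hp.dvd_of_dvd_pow h)).ge
    have hL2 : ∀ p : ℕ, p.Prime → p ∣ (N ⊔ S : Subgroup B).index → p < t := by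
      intro p hp hd
      have h1 := hN2 p hp (hd.trans (Subgroup.index_dvd_of_le le_sup_left))
      rcases Nat.lt_succ_iff_lt_or_eq.1 h1 with h | h
      · exact h
      · subst h
        exact absurd (hd.trans (Subgroup.index_dvd_of_le le_sup_right)) S.not_dvd_index
    obtain ⟨M, hM, hM1, hM2⟩ := hA t h5
    have key : ∀ {x y : ℕ}, (∀ p : ℕ, p.Prime → p ∣ x → t ≤ p) → (∀ p : ℕ, p.Prime → p ∣ y → p < t) →
        x.Coprime y := fun h1 h2 => Nat.coprime_of_dvd fun p hp hx hy =>
      absurd (h1 p hp hx) (not_le.2 (h2 p hp hy))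
    have e : Nat.card M = Nat.card (N ⊔ S : Subgroup B) := by
      refine Nat.dvd_antisymm ?_ ?_
      · refine (key hM1 hL2).dvd_of_dvd_mul_right ?_
        rw [Subgroup.card_mul_index, ← hc]; exact Subgroup.card_subgroup_dvd_card M
      · refine (key hL1 hM2).dvd_of_dvd_mul_right ?_
        rw [Subgroup.card_mul_index, hc]; exact Subgroup.card_subgroup_dvd_card _
    haveI := hM
    have h3 := sol_of_normal (key hM1 hM2)
    rw [hs _ (Subgroup.card_subgroup_dvd_card M), e] at h3
    exact ⟨N ⊔ S, normal_of_sol rfl h3, hL1, hL2⟩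

lemma aut_trivial {Q : Type*} [Group Q] [Finite Q] {s p : ℕ} [hs : Fact s.Prime] (hp : p.Prime) (hp5 : 5 ≤ p)
    (hsp : s < p) (hQ : IsPGroup s Q)
    (hst : IsCyclic Q ∨ (s = 2 ∧ ∃ n : ℕ, Nonempty (Q ≃* QuaternionGroup (2 ^ n))))
    (φ : MulAut Q) (hφ : φ ^ p = 1) : φ = 1 := by
  have hd := orderOf_dvd_of_pow_eq_one hφ
  rcases hst with hcy | ⟨-, n, ⟨e⟩⟩
  · haveI := hcy
    obtain ⟨a, ha⟩ := IsPGroup.iff_card.1 hQ
    rw [← orderOf_eq_one_iff]
    rcases (Nat.dvd_prime hp).1 hd with h | h
    · exact h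
    exfalso
    have h1 : p ∣ Nat.totient (s ^ a) := by
      rw [← ha, ← IsCyclic.card_mulAut, ← h]
      exact orderOf_dvd_natCard φ
    rcases Nat.eq_zero_or_pos a with rfl | ha0
    · simp at h1; exact absurd h1 hp.ne_one
    · rw [Nat.totient_prime_pow hs.out ha0] at h1
      rcases hp.dvd_mul.1 h1 with h2 | h2
      · exact absurd (Nat.le_of_dvd hs.out.pos (hp.dvd_of_dvd_pow h2)) (not_le.2 hsp)
      · have := Nat.le_of_dvd (by have := hs.out.two_le; omega) h2
        omega
  · have hodd : Odd (orderOf φ) :=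
      (hp.odd_of_ne_two (by omega)).of_dvd_nat hd
    have h3 := orderOf_dvd_of_pow_eq_one (QuaternionOddAut.main e hodd).1
    rw [← orderOf_eq_one_iff]
    exact Nat.eq_one_of_dvd_coprimes ((Nat.coprime_primes hp Nat.prime_three).2 (by omega)) hd h3

lemma hallGE_of_solvable {A : Type*} [Group A] [Finite A] [Group.IsSolvable A]
    (hst : ∀ (s : ℕ) [Fact s.Prime] (P : Subgroup A), IsPGroup s P →
      IsCyclic P ∨ (s = 2 ∧ ∃ n : ℕ, Nonempty (P ≃* QuaternionGroup (2 ^ n))))
    (t : ℕ) (h5 : 5 ≤ t) : HallGE t A := by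
  let T := {N : Subgroup A // N.Normal ∧ ∀ p : ℕ, p.Prime → p ∣ Nat.card N → t ≤ p}
  haveI : Nonempty T := ⟨⟨⊥, inferInstance, fun p hp hd => by
    rw [Subgroup.card_bot, Nat.dvd_one] at hd; exact absurd hd hp.ne_one⟩⟩
  obtain ⟨⟨N, hN, hN1⟩, hmax⟩ := Finite.exists_max (fun N : T => Nat.card N.1)
  refine ⟨N, hN, hN1, fun p hp hd => ?_⟩
  by_contra hlt
  push Not at hlt
  haveI := hN
  haveI := Fact.mk hp
  haveI : Group.IsSolvable (A ⧸ N) := inferInstance
  rw [Subgroup.index_eq_card] at hd
  obtain ⟨x, hx⟩ := exists_prime_orderOf_dvd_card' (G := A ⧸ N) p hd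
  have hcard : ∀ O : Subgroup (A ⧸ N),
      Nat.card (O.comap (QuotientGroup.mk' N)) = Nat.card O * Nat.card N := fun O => by
    have h1 := Subgroup.index_comap_of_surjective O (QuotientGroup.mk'_surjective N)
    have h2 := Subgroup.card_mul_index (O.comap (QuotientGroup.mk' N))
    rw [h1] at h2
    have h3 := Subgroup.card_mul_index O
    have h4 := Subgroup.card_eq_card_quotient_mul_card_subgroup N
    have h5 : 0 < O.index := Nat.pos_of_ne_zero Subgroup.index_ne_zero_of_finite
    apply Nat.eq_of_mul_eq_mul_right h5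
    rw [h2, h4, ← h3]; ring
  have hbig : ∀ s : ℕ, s.Prime → t ≤ s → Cfsg.pCore s (A ⧸ N) = ⊥ := by
    intro s hs hts
    haveI := Fact.mk hs
    obtain ⟨a, ha⟩ := IsPGroup.iff_card.1 (ComponentsCores.isPGroup_pCore (G := A ⧸ N) s)
    have hc := hcard (Cfsg.pCore s (A ⧸ N))
    have hle := hmax ⟨(Cfsg.pCore s (A ⧸ N)).comap (QuotientGroup.mk' N), inferInstance, fun q hq hqd => by
      rw [hc, ha] at hqd
      rcases hq.dvd_mul.1 hqd with h | h
      · exact hts.trans ((Nat.prime_dvd_prime_iff_eq hq hs).1 (hq.dvd_of_dvd_pow h)).ge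
      · exact hN1 q hq h⟩
    simp only [hc] at hle
    have hN0 : 0 < Nat.card N := Nat.card_pos
    refine Subgroup.card_eq_one.1 (le_antisymm ?_ Nat.card_pos)
    exact Nat.le_of_mul_le_mul_right (by rwa [one_mul]) hN0
  have hxF : x ∈ Cfsg.fittingSubgroup (A ⧸ N) := by
    apply ComponentsFitting.centralizer_fitting_le_of_solvable
    rw [Subgroup.mem_centralizer_iff]
    intro y hy
    have hle : Cfsg.fittingSubgroup (A ⧸ N) ≤ Subgroup.centralizer {x} := by
      rw [ComponentsFitting.fittingSubgroup_eq_iSup]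
      refine iSup_le fun ⟨s, hs⟩ => ?_
      have hsp := Nat.prime_of_mem_primeFactors hs
      haveI := Fact.mk hsp
      by_cases hts : t ≤ s
      · simp [hbig s hsp hts]
      push Not at hts
      set O := Cfsg.pCore s (A ⧸ N) with hO
      haveI : O.Normal := inferInstance
      have hOp : IsPGroup s O := ComponentsCores.isPGroup_pCore s
      let M := O.comap (QuotientGroup.mk' N)
      obtain ⟨P⟩ := (inferInstance : Nonempty (Sylow s M))
      let P' := (P : Subgroup M).map M.subtype
      have hP' : IsPGroup s P' := P.isPGroup'.map _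
      let f : P' →* O := ((QuotientGroup.mk' N).comp P'.subtype).codRestrict O (fun y => by
        obtain ⟨z, -, hz⟩ := Subgroup.mem_map.1 y.2
        show QuotientGroup.mk' N (y : A) ∈ O
        rw [← hz]
        exact z.2)
      have hf : Function.Injective f := by
        rw [injective_iff_map_eq_one]
        intro y hy
        have h1 : (y : A) ∈ N := (QuotientGroup.eq_one_iff _).1 (congrArg Subtype.val hy)
        obtain ⟨b, hb⟩ := IsPGroup.iff_card.1 hP'
        have hcop : (Nat.card N).Coprime (Nat.card P') := by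
          rw [hb]
          refine Nat.Coprime.pow_right _ ((Nat.Prime.coprime_iff_not_dvd hsp).2 fun h => ?_).symm
          have := hN1 s hsp h
          omega
        have h2 : (y : A) ∈ N ⊓ P' := ⟨h1, y.2⟩
        rw [Subgroup.inf_eq_bot_of_coprime hcop, Subgroup.mem_bot] at h2
        exact Subtype.ext h2
      obtain ⟨a, ha⟩ := IsPGroup.iff_card.1 hOp
      have hge : Nat.card O ≤ Nat.card P' := by
        have hd' : s ^ a ∣ Nat.card M := by rw [hcard O, ha]; exact dvd_mul_right _ _
        have h3 := P.pow_dvd_card_of_pow_dvd_card hd'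
        rw [← Subgroup.card_map_of_injective M.subtype_injective, ← ha] at h3
        exact Nat.le_of_dvd Nat.card_pos h3
      let e : P' ≃* O := MulEquiv.ofBijective f (hf.bijective_of_nat_card_le hge)
      have hstO : IsCyclic O ∨ (s = 2 ∧ ∃ n : ℕ, Nonempty (O ≃* QuaternionGroup (2 ^ n))) := by
        rcases hst s P' hP' with h | ⟨h2, n, ⟨g⟩⟩
        · exact Or.inl (e.isCyclic.1 h)
        · exact Or.inr ⟨h2, n, ⟨e.symm.trans g⟩⟩
      have hφ := aut_trivial hp (by omega) (by omega) hOp hstO (MulAut.conjNormal x) (by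
        rw [← map_pow, ← hx, pow_orderOf_eq_one, map_one])
      intro y hy
      rw [Subgroup.mem_centralizer_singleton_iff]
      have h4 : ((MulAut.conjNormal x ⟨y, hy⟩ : O) : A ⧸ N) = x * y * x⁻¹ := MulAut.conjNormal_apply _ _
      rw [hφ, MulAut.one_apply] at h4
      exact (mul_inv_eq_iff_eq_mul.1 h4.symm).symm
    exact (Subgroup.mem_centralizer_singleton_iff.1 (hle hy))
  set F := Cfsg.fittingSubgroup (A ⧸ N)
  obtain ⟨P⟩ := (inferInstance : Nonempty (Sylow p F))
  haveI : (P : Subgroup F).Normal := inferInstance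
  haveI : (P : Subgroup F).Characteristic := P.characteristic_of_normal inferInstance
  haveI : ((P : Subgroup F).map F.subtype).Normal := inferInstance
  have hle : (P : Subgroup F).map F.subtype ≤ Cfsg.pCore p (A ⧸ N) :=
    ComponentsCores.le_pCore' (P.isPGroup'.map _)
  rw [hbig p hp hlt, le_bot_iff, Subgroup.map_eq_bot_iff_of_injective _ F.subtype_injective] at hle
  have hpF : p ∣ Nat.card F := by
    have h1 : orderOf (⟨x, hxF⟩ : F) = p := by rw [Subgroup.orderOf_mk, hx]
    exact h1 ▸ orderOf_dvd_natCard _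
  have := P.dvd_card_of_dvd_card hpF
  rw [hle, Subgroup.card_bot, Nat.dvd_one] at this
  exact hp.ne_one this

section frob
variable {X : Type*} [Group X] [Finite X] {C : Subgroup X}

lemma compl_facts (hC : Cfsg.IsFrobeniusComplement C) :
    ∃ K : Subgroup X, K.Normal ∧ Subgroup.IsComplement' K C ∧ Group.IsNilpotent K ∧
      ∀ (s : ℕ) [Fact s.Prime] (P : Subgroup C), IsPGroup s P →
        IsCyclic P ∨ (s = 2 ∧ ∃ n : ℕ, Nonempty (P ≃* QuaternionGroup (2 ^ n))) := by
  obtain ⟨K, hK, hn, hc, hnil⟩ := FrobeniusNilpotent.exists_nilpotent_kernel hC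
  haveI := hn
  refine ⟨K, hn, hc, hnil, fun s _ P hP => FrobeniusComplement.sylow_cyclic_or_quaternion hc
    (FrobeniusBasic.kernel_ne_bot hC hK) (FrobeniusBasic.fpf_of_complement hC hc.disjoint) P hP⟩

lemma solvable_iff_compl (hC : Cfsg.IsFrobeniusComplement C) :
    Group.IsSolvable X ↔ Group.IsSolvable C := by
  obtain ⟨K, hK, hc, hnil, -⟩ := compl_facts hC
  haveI := hK
  refine ⟨fun h => inferInstance, fun h => ?_⟩
  haveI := h
  haveI := hnil
  haveI : Group.IsSolvable K := inferInstance
  haveI : Group.IsSolvable (X ⧸ K) := Group.isSolvable_of_surjective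
    (f := (Subgroup.IsComplement'.QuotientMulEquiv hc.symm).symm.toMonoidHom) (MulEquiv.surjective _)
  exact (Group.isSolvable_iff_subgroup_quotient K).2 ⟨inferInstance, inferInstance⟩

lemma sol_compl (hC : Cfsg.IsFrobeniusComplement C) {m : ℕ} (hm : m ∣ Nat.card C) :
    sol X m = 1 + C.index * (sol C m - 1) := by
  have h1 := FrobeniusBasic.card_conjClosure_inter hC {x : X | x ^ m = 1} (fun g x => by
    simp [conj_pow])
  have h2 : sol X m = (FrobeniusBasic.conjClosure C ∩ {x : X | x ^ m = 1}).ncard + 1 := by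
    rw [← Set.ncard_insert_of_notMem (a := (1 : X)) (fun h => h.1.1 rfl)]
    rw [sol, ← Set.coe_setOf, Nat.card_coe_set_eq]
    congr 1
    ext x
    simp only [Set.mem_insert_iff, Set.mem_inter_iff, Set.mem_setOf_eq]
    constructor
    · intro hx
      by_cases h : x = 1
      · exact Or.inl h
      · exact Or.inr ⟨⟨h, FrobeniusBasic.exists_conj_mem_of_dvd hC ((orderOf_dvd_of_pow_eq_one hx).trans hm)⟩, hx⟩
    · rintro (rfl | ⟨-, hx⟩)
      · exact one_pow m
      · exact hx
  have h3 : sol C m = {x : X | x ∈ C ∧ x ≠ 1 ∧ x ∈ {x : X | x ^ m = 1}}.ncard + 1 := by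
    rw [← Set.ncard_insert_of_notMem (a := (1 : X)) (fun h => h.2.1 rfl)]
    rw [sol, ← Set.coe_setOf, Nat.card_coe_set_eq, ← Set.ncard_image_of_injective _ C.subtype_injective]
    congr 1
    ext x
    simp only [Set.mem_image, Set.mem_setOf_eq, Set.mem_insert_iff, Subgroup.coe_subtype]
    constructor
    · rintro ⟨y, hy, rfl⟩
      by_cases h : (y : X) = 1
      · exact Or.inl h
      · exact Or.inr ⟨y.2, h, by simpa using congrArg Subtype.val hy⟩
    · rintro (rfl | ⟨hx, -, hxm⟩)
      · exact ⟨1, one_pow m, rfl⟩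
      · exact ⟨⟨x, hx⟩, Subtype.ext (by simpa using hxm), rfl⟩
  rw [h2, h3, h1, Nat.add_sub_cancel]
  ring

end frob

lemma solvable_of_hall {A : Type*} [Group A] [Finite A]
    (hst : ∀ (s : ℕ) [Fact s.Prime] (P : Subgroup A), IsPGroup s P →
      IsCyclic P ∨ (s = 2 ∧ ∃ n : ℕ, Nonempty (P ≃* QuaternionGroup (2 ^ n))))
    (h : HallGE 5 A) : Group.IsSolvable A := by
  obtain ⟨N, hN, h1, h2⟩ := h
  haveI := hN
  haveI : IsZGroup N := by
    refine (isZGroup_iff N).2 fun s hs P => ?_
    haveI := Fact.mk hs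
    by_cases hb : Nat.card (P : Subgroup N) = 1
    · haveI : Subsingleton (P : Subgroup N) := (Nat.card_eq_one_iff_unique.1 hb).1
      infer_instance
    have hs5 : 5 ≤ s := by
      obtain ⟨a, ha⟩ := IsPGroup.iff_card.1 P.isPGroup'
      refine h1 s hs (dvd_trans ?_ (Subgroup.card_subgroup_dvd_card (P : Subgroup N)))
      rw [ha]
      exact dvd_pow_self s (fun h0 => hb (by rw [ha, h0, pow_zero]))
    rcases hst s ((P : Subgroup N).map N.subtype) (P.isPGroup'.map _) with h | ⟨h, -⟩
    · exact ((P : Subgroup N).equivMapOfInjective N.subtype N.subtype_injective).isCyclic.2 h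
    · omega
  haveI : Group.IsSolvable N := inferInstance
  haveI : Group.IsSolvable (A ⧸ N) := by
    have hne : Nat.card (A ⧸ N) ≠ 0 := Nat.card_pos.ne'
    refine S0144.result 2 3 ((Nat.card (A ⧸ N)).factorization 2) ((Nat.card (A ⧸ N)).factorization 3)
      Nat.prime_two Nat.prime_three ?_
    refine Nat.eq_of_factorization_eq hne (by positivity) fun q => ?_
    rw [Nat.factorization_mul (by positivity) (by positivity), Nat.factorization_pow, Nat.factorization_pow,
      Nat.prime_two.factorization, Nat.prime_three.factorization]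
    rcases eq_or_ne q 2 with rfl | hq2
    · simp
    rcases eq_or_ne q 3 with rfl | hq3
    · simp
    simp [hq2.symm, hq3.symm]
    by_contra hq
    have hmem : q ∈ (Nat.card (A ⧸ N)).primeFactors := by
      rw [← Nat.support_factorization, Finsupp.mem_support_iff]; exact hq
    have hqp := Nat.prime_of_mem_primeFactors hmem
    have hlt := h2 q hqp (by rw [Subgroup.index_eq_card]; exact Nat.dvd_of_mem_primeFactors hmem)
    interval_cases q <;> first | omega | exact absurd hqp (by norm_num)
  exact (Group.isSolvable_iff_subgroup_quotient N).2 ⟨inferInstance, inferInstance⟩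

lemma exists_normal_prod {X : Type*} [Group X] [Finite X] (s : Finset ℕ) (hp : ∀ r ∈ s, r.Prime)
    (hs : ∀ r ∈ s, ∃ P : Subgroup X, P.Normal ∧ Nat.card P = r ^ (Nat.card X).factorization r) :
    ∃ N : Subgroup X, N.Normal ∧ Nat.card N = ∏ r ∈ s, r ^ (Nat.card X).factorization r := by
  classical
  induction s using Finset.induction with
  | empty => exact ⟨⊥, inferInstance, by simp⟩
  | @insert r s hr ih =>
    obtain ⟨N, hN, hNc⟩ := ih (fun a ha => hp a (Finset.mem_insert_of_mem ha))
      (fun a ha => hs a (Finset.mem_insert_of_mem ha))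
    obtain ⟨P, hP, hPc⟩ := hs r (Finset.mem_insert_self r s)
    haveI := hN
    haveI := hP
    refine ⟨N ⊔ P, inferInstance, ?_⟩
    rw [card_sup _ _ ?_, hNc, hPc, Finset.prod_insert hr, mul_comm]
    rw [hNc, hPc]
    exact Nat.Coprime.prod_left fun a ha => ((Nat.coprime_primes (hp a (Finset.mem_insert_of_mem ha))
      (hp r (Finset.mem_insert_self r s))).2 (fun h => hr (h ▸ ha))).pow _ _

/-- Let F be a finite Frobenius group (it has a Frobenius complement) and G a finite group with the same order type as F (for every m the same number of elements of order m). Then G is a Frobenius group; moreover G is solvable if and only if F is. -/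
theorem result {F G : Type*} [Group F] [Finite F] [Group G] [Finite G] (hF : (∃ C : Subgroup F, Cfsg.IsFrobeniusComplement C)) (hT : (∀ m : ℕ, Nat.card {g : F // orderOf g = m} = Nat.card {h : G // orderOf h = m})) :
    (∃ C : Subgroup G, Cfsg.IsFrobeniusComplement C) ∧ (Group.IsSolvable G ↔ Group.IsSolvable F) := by
  classical
  obtain ⟨C, hC⟩ := hF
  obtain ⟨K, hK, hc, hnil, hstF⟩ := compl_facts hC
  haveI := hK
  haveI := hnil
  have hcard := card_eq_of hT
  set k := Nat.card K with hk
  set h := Nat.card C with hh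
  have hn : k * h = Nat.card F := hc.card_mul
  have hKi : C.index = k := hc.index_eq_card
  have hcop : k.Coprime h := by
    have := FrobeniusBasic.coprime_card_index hC
    rw [hKi] at this
    exact Nat.Coprime.symm this
  have hKb : K ≠ ⊥ := fun e => hC.2.1 (by rw [e] at hc; exact Subgroup.isComplement'_bot_left.1 hc)
  have hsy : ∀ r ∈ k.primeFactors, r.Prime ∧ ∃ P : Subgroup G, P.Normal ∧
      Nat.card P = r ^ (Nat.card G).factorization r := by
    intro r hr
    have hrp := Nat.prime_of_mem_primeFactors hr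
    haveI := Fact.mk hrp
    obtain ⟨R⟩ := (inferInstance : Nonempty (Sylow r K))
    haveI : (R : Subgroup K).Normal := inferInstance
    haveI : (R : Subgroup K).Characteristic := R.characteristic_of_normal inferInstance
    haveI : ((R : Subgroup K).map K.subtype).Normal := inferInstance
    have hrh : ¬ r ∣ h := fun hd => hrp.ne_one
      (Nat.eq_one_of_dvd_coprimes hcop (Nat.dvd_of_mem_primeFactors hr) hd)
    have hfac : (Nat.card F).factorization r = k.factorization r := by
      rw [← hn, Nat.factorization_mul Nat.card_pos.ne' Nat.card_pos.ne', Finsupp.add_apply,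
        Nat.factorization_eq_zero_of_not_dvd hrh, add_zero]
    have hRc : Nat.card ((R : Subgroup K).map K.subtype) = r ^ (Nat.card F).factorization r := by
      rw [Subgroup.card_map_of_injective K.subtype_injective, R.card_eq_multiplicity, hfac]
    have hsol : sol F (r ^ (Nat.card F).factorization r) = r ^ (Nat.card F).factorization r := by
      rw [← hRc]
      refine sol_of_normal ?_
      have hi : ((R : Subgroup K).map K.subtype).index = Nat.card F / r ^ (Nat.card F).factorization r := by
        rw [← hRc, ← Subgroup.card_mul_index ((R : Subgroup K).map K.subtype),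
          Nat.mul_div_cancel_left _ Nat.card_pos]
      rw [hi, hRc]
      exact Nat.Coprime.pow_left _ ((Nat.Prime.coprime_iff_not_dvd hrp).2
        (Nat.not_dvd_ordCompl hrp Nat.card_pos.ne'))
    obtain ⟨P⟩ := (inferInstance : Nonempty (Sylow r G))
    refine ⟨hrp, P, normal_of_sol rfl ?_, P.card_eq_multiplicity⟩
    rw [← sol_congr hT Nat.card_pos.ne', P.card_eq_multiplicity, ← hcard]
    exact hsol
  obtain ⟨KG, hKG, hKGc⟩ := exists_normal_prod k.primeFactors (fun r hr => (hsy r hr).1)
    (fun r hr => (hsy r hr).2)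
  haveI := hKG
  have hKGk : Nat.card KG = k := by
    rw [hKGc]
    conv_rhs => rw [← Nat.prod_factorization_pow_eq_self (n := k) Nat.card_pos.ne']
    rw [Finsupp.prod, Nat.support_factorization]
    refine Finset.prod_congr rfl fun r hr => ?_
    have hrp := Nat.prime_of_mem_primeFactors hr
    rw [← hcard, ← hn, Nat.factorization_mul Nat.card_pos.ne' Nat.card_pos.ne', Finsupp.add_apply,
      Nat.factorization_eq_zero_of_not_dvd (n := h) (fun hd => hrp.ne_one
      (Nat.eq_one_of_dvd_coprimes hcop (Nat.dvd_of_mem_primeFactors hr) hd)), add_zero]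
  have hKGi : KG.index = h := by
    have h1 := KG.card_mul_index
    rw [hKGk, ← hcard, ← hn] at h1
    exact Nat.eq_of_mul_eq_mul_left Nat.card_pos h1
  obtain ⟨D, hD⟩ := Subgroup.exists_right_complement'_of_coprime (N := KG) (by rw [hKGk, hKGi]; exact hcop)
  have hDc : Nat.card D = h := by
    rw [← hKGi]; exact hD.symm.index_eq_card.symm
  have hfpf : ∀ d ∈ D, d ≠ 1 → KG ⊓ Subgroup.centralizer ({d} : Set G) = ⊥ := by
    intro d hd hd1
    rw [Subgroup.eq_bot_iff_forall]
    intro x hx
    by_contra hx1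
    obtain ⟨hxK, hxc⟩ := Subgroup.mem_inf.1 hx
    have hcom : Commute d x := (Subgroup.mem_centralizer_singleton_iff.1 hxc).symm
    have hod : orderOf d ∣ h := hDc ▸ Subgroup.orderOf_dvd_natCard D hd
    have hox : orderOf x ∣ k := hKGk ▸ Subgroup.orderOf_dvd_natCard KG hxK
    have hco : (orderOf d).Coprime (orderOf x) :=
      (hcop.symm.coprime_dvd_left hod).coprime_dvd_right hox
    have hprod : orderOf (d * x) = orderOf d * orderOf x := hcom.orderOf_mul_eq_mul_orderOf_of_coprime hco
    have hpos : 0 < Nat.card {g : F // orderOf g = orderOf (d * x)} := by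
      rw [hT]
      haveI : Nonempty {g : G // orderOf g = orderOf (d * x)} := ⟨⟨d * x, rfl⟩⟩
      exact Nat.card_pos
    obtain ⟨⟨g, hg⟩⟩ := (Nat.card_pos_iff.1 hpos).1
    by_cases hgk : g ∈ Cfsg.frobeniusKernel C
    · have h1 := FrobeniusBasic.coprime_orderOf hC hgk
      rw [hg, hprod] at h1
      exact hd1 (orderOf_eq_one_iff.1 (Nat.eq_one_of_dvd_coprimes h1 (dvd_mul_right _ _) hod))
    · rw [FrobeniusBasic.frobeniusKernel_eq_compl, Set.mem_compl_iff, not_not] at hgk
      obtain ⟨-, u, hu⟩ := hgk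
      have h1 : orderOf g ∣ h := by
        have e : orderOf (u⁻¹ * g * u) = orderOf g := by
          have : u⁻¹ * g * u = MulAut.conj u⁻¹ g := by simp
          rw [this, MulEquiv.orderOf_eq]
        exact e ▸ Subgroup.orderOf_dvd_natCard C hu
      rw [hg, hprod] at h1
      exact hx1 (orderOf_eq_one_iff.1 (Nat.eq_one_of_dvd_coprimes hcop hox ((dvd_mul_left _ _).trans h1)))
  have hDfc : Cfsg.IsFrobeniusComplement D := by
    refine FrobeniusBasic.isFrobeniusComplement_of_fpf hD ?_ ?_ hfpf
    · intro e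
      rw [e, Subgroup.card_bot] at hKGk
      exact hKb (Subgroup.card_eq_one.1 hKGk.symm)
    · intro e
      rw [e, Subgroup.card_bot] at hDc
      exact hC.1 (Subgroup.card_eq_one.1 hDc.symm)
  refine ⟨⟨D, hDfc⟩, ?_⟩
  obtain ⟨K', hK', hc', hnil', hstG⟩ := compl_facts hDfc
  have hDi : D.index = k := by rw [← hKGk]; exact hD.index_eq_card
  have hsolC : ∀ m, m ∣ h → sol C m = sol D m := by
    intro m hm
    have hm0 : m ≠ 0 := fun e => Nat.card_pos.ne' (Nat.eq_zero_of_zero_dvd (e ▸ hm) : h = 0)
    have e := sol_congr hT hm0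
    rw [sol_compl hC (hh ▸ hm), sol_compl hDfc (hDc ▸ hm), hKi, hDi] at e
    have e' := Nat.eq_of_mul_eq_mul_left Nat.card_pos (Nat.add_left_cancel e)
    haveI : Nonempty {x : C // x ^ m = 1} := ⟨⟨1, one_pow m⟩⟩
    haveI : Nonempty {x : D // x ^ m = 1} := ⟨⟨1, one_pow m⟩⟩
    have p1 : 0 < sol C m := Nat.card_pos
    have p2 : 0 < sol D m := Nat.card_pos
    omega
  rw [solvable_iff_compl hDfc, solvable_iff_compl hC]
  constructor
  · intro hs
    haveI := hs
    exact solvable_of_hall hstF (hallGE_transfer (A := D) (B := C) hDc (fun m hm => (hsolC m (hDc ▸ hm)).symm)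
      (hallGE_of_solvable hstG) (Nat.card C) 5 (by omega) le_rfl)
  · intro hs
    haveI := hs
    exact solvable_of_hall hstG (hallGE_transfer (A := C) (B := D) hDc.symm hsolC
      (hallGE_of_solvable hstF) (Nat.card D) 5 (by omega) le_rfl)

end Cfsg.Agent.S3999
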