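import Cfsg.Statements.S4002
import Cfsg.Agent.Lib.PrimeGraphSolvable
import Mathlib.NumberTheory.Bertrand
-- import your own Cfsg.Agent.* helpers here

set_option autoImplicit false
open Cfsg

namespace Cfsg.Agent.S4002

/-- Three primes up to `n` with pairwise products above `n`. -/
theorem exists_three {n : ℕ} (hn : 7 ≤ n) : ∃ p q r : ℕ, p.Prime ∧ q.Prime ∧ r.Prime ∧
    p < q ∧ q < r ∧ r ≤ n ∧ n < p * q := by
  by_cases h1 : n < 15
  · exact ⟨3, 5, 7, by norm_num, by norm_num, by norm_num, by norm_num, by norm_num, hn, h1⟩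
  by_cases h2 : n < 35
  · exact ⟨5, 7, 11, by norm_num, by norm_num, by norm_num, by norm_num, by norm_num, by omega, h2⟩
  by_cases h3 : n < 64
  · exact ⟨11, 13, 17, by norm_num, by norm_num, by norm_num, by norm_num, by norm_num, by omega,
      by omega⟩
  have hm : 8 ≤ Nat.sqrt n := Nat.le_sqrt.2 (by omega)
  obtain ⟨p, hp, hp1, hp2⟩ := Nat.bertrand (Nat.sqrt n) (by omega)
  obtain ⟨q, hq, hq1, hq2⟩ := Nat.bertrand (2 * Nat.sqrt n) (by omega)
  obtain ⟨r, hr, hr1, hr2⟩ := Nat.bertrand (4 * Nat.sqrt n) (by omega)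
  have h8 : 8 * Nat.sqrt n ≤ n :=
    le_trans (Nat.mul_le_mul_right _ hm) (Nat.sqrt_le n)
  refine ⟨p, q, r, hp, hq, hr, by omega, by omega, by omega, ?_⟩
  calc n < (Nat.sqrt n + 1) * (Nat.sqrt n + 1) := Nat.lt_succ_sqrt n
    _ ≤ p * q := Nat.mul_le_mul (by omega) (by omega)

/-- If the set of element orders of a finite group G is {1, 2, …, n} with n ≥ 7, then G is not solvable. -/
theorem result {G : Type*} [Group G] [Finite G] (n : ℕ) (hn : 7 ≤ n) (h : Set.range (orderOf : G → ℕ) = {k : ℕ | 1 ≤ k ∧ k ≤ n}) : ¬ Group.IsSolvable G := by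
  intro hsol
  haveI := hsol
  obtain ⟨p, q, r, hp, hq, hr, hpq, hqr, hrn, hmul⟩ := exists_three hn
  have hd : ∀ s : ℕ, 1 ≤ s → s ≤ n → s ∣ Nat.card G := fun s h1 h2 => by
    obtain ⟨x, rfl⟩ : s ∈ Set.range (orderOf : G → ℕ) := h ▸ ⟨h1, h2⟩
    exact orderOf_dvd_natCard x
  have hno : ∀ a b : ℕ, n < a * b → PrimeGraphSolvable.NoEdge G a b := fun a b hab x hx => by
    have : orderOf x ∈ {k : ℕ | 1 ≤ k ∧ k ≤ n} := h ▸ ⟨x, rfl⟩
    rw [hx] at this
    exact absurd this.2 (not_le.2 hab)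
  exact PrimeGraphSolvable.no_three_coclique hp hq hr hpq.ne (hpq.trans hqr).ne hqr.ne
    (hd p hp.one_lt.le (by omega)) (hd q hq.one_lt.le (by omega)) (hd r hr.one_lt.le hrn)
    (hno p q hmul) (hno p r (hmul.trans_le (Nat.mul_le_mul_left p hqr.le)))
    (hno q r (hmul.trans_le (Nat.mul_le_mul hpq.le hqr.le)))

end Cfsg.Agent.S4002
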