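import Cfsg.Statements.S4003
import Mathlib
import Cfsg.Agent.Lib.PGroupsBasic
import Cfsg.Agent.Lib.PGroupsCyclic
import Cfsg.Agent.Lib.HallCore

set_option autoImplicit false
set_option linter.all false
open Cfsg

namespace Cfsg.Agent.S4003

open Cfsg.Agent
open Subgroup
open scoped commutatorElement

universe u v

theorem dvd_card_of_fibres {α : Type u} {β : Type v} [Finite α] (f : α → β) (d : ℕ)
    (h : ∀ a, d ∣ Nat.card {x // f x = f a}) : d ∣ Nat.card α := by
  classical
  haveI := Fintype.ofFinite α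
  rw [← Nat.card_congr (Equiv.sigmaFiberEquiv (Set.rangeFactorization f))]
  haveI := Fintype.ofFinite (Set.range f)
  rw [Nat.card_sigma]
  refine Finset.dvd_sum fun b _ => ?_
  obtain ⟨_, a, rfl⟩ := b
  have e : Nat.card {x // Set.rangeFactorization f x = ⟨f a, a, rfl⟩} = Nat.card {x // f x = f a} :=
    Nat.card_congr (Equiv.subtypeEquivRight (α := α) fun x =>
      ⟨fun hx => congrArg Subtype.val hx, fun hx => Subtype.ext hx⟩)
  exact e ▸ h a

theorem card_eq_mul_of_fibres {α : Type u} {β : Type v} [Finite α] [Finite β] (f : α → β) (d : ℕ)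
    (h : ∀ b, Nat.card {x // f x = b} = d) : Nat.card α = Nat.card β * d := by
  classical
  haveI := Fintype.ofFinite β
  rw [← Nat.card_congr (Equiv.sigmaFiberEquiv f), Nat.card_sigma]
  simp only [h, Finset.sum_const, Finset.card_univ, smul_eq_mul, Nat.card_eq_fintype_card]

theorem card_generators {G : Type u} [Group G] [Finite G] (y : G) :
    Nat.card {w : G // zpowers w = zpowers y} = Nat.totient (orderOf y) := by
  classical
  haveI := Fintype.ofFinite (zpowers y)
  rw [← IsCyclic.card_orderOf_eq_totient (α := zpowers y) (d := orderOf y) (by rw [Fintype.card_eq_nat_card, Nat.card_zpowers]),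
    ← Fintype.card_subtype, ← Nat.card_eq_fintype_card]
  refine Nat.card_congr
    { toFun := fun w => ⟨⟨w.1, w.2.le (mem_zpowers w.1)⟩, ?_⟩
      invFun := fun a => ⟨(a.1 : G), ?_⟩
      left_inv := fun w => rfl
      right_inv := fun a => rfl }
  · rw [Subgroup.orderOf_mk, ← Nat.card_zpowers, ← Nat.card_zpowers, w.2]
  · refine Subgroup.eq_of_le_of_card_ge (zpowers_le.mpr a.1.2) ?_
    rw [Nat.card_zpowers, Nat.card_zpowers, Subgroup.orderOf_coe, a.2]

def Cyc {G : Type u} [Group G] (n : ℕ) (X : Subgroup G) : Prop := ∃ u : G, orderOf u = n ∧ zpowers u = X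

theorem card_elements_eq {G : Type u} [Group G] [Finite G] (n : ℕ) (Q : Subgroup G → Prop) :
    Nat.card {u : G // orderOf u = n ∧ Q (zpowers u)} =
      Nat.card {X : Subgroup G // Cyc n X ∧ Q X} * Nat.totient n := by
  refine card_eq_mul_of_fibres (fun u => ⟨zpowers u.1, ⟨u.1, u.2.1, rfl⟩, u.2.2⟩) _ ?_
  rintro ⟨X, ⟨u, hu, rfl⟩, hQ⟩
  subst hu
  rw [← card_generators u]
  refine Nat.card_congr
    { toFun := fun w => ⟨w.1.1, congrArg Subtype.val w.2⟩
      invFun := fun w => ⟨⟨w.1, ?_, ?_⟩, Subtype.ext w.2⟩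
      left_inv := fun w => rfl
      right_inv := fun w => rfl }
  · rw [← Nat.card_zpowers, w.2, Nat.card_zpowers]
  · rw [w.2]; exact hQ

/-- Elements of order `p ^ s` in a noncyclic `p`-group. -/
theorem dvd_card_pGroup {P : Type u} [Group P] [Finite P] {p : ℕ} [Fact p.Prime] (hP : IsPGroup p P)
    (hp2 : p ≠ 2) (hnc : ¬ IsCyclic P) {s : ℕ} (hs : 1 < s) :
    p ^ s ∣ Nat.card {u : P // orderOf u = p ^ s} := by
  have hp : p.Prime := Fact.out
  obtain ⟨E, hEn, hEc, hEel⟩ := PGroupsCyclic.exists_normal_elementary_sq hP hp2 hnc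
  obtain ⟨z, hzE, hzo⟩ := PGroupsBasic.exists_orderOf_eq_of_ne_bot (p := p) (hP.to_subgroup (E ⊓ center P))
    (PGroupsBasic.inf_center_ne_bot hP (N := E) fun h => by
      rw [h, Subgroup.card_bot] at hEc
      have := Nat.one_lt_pow (two_ne_zero) hp.one_lt
      omega)
  haveI : (zpowers z).Normal := PGroupsBasic.normal_of_le_center (zpowers_le.mpr hzE.2)
  have hpow : ∀ x : P, ∀ e ∈ E, (x * e) ^ p = x ^ p := by
    intro x e he
    set f := QuotientGroup.mk' (zpowers z)
    haveI : (E.map f).Normal := Subgroup.Normal.map hEn f (QuotientGroup.mk'_surjective _)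
    have h1 : Nat.card (E.map f) = p := by
      have h2 := HallCore.card_map_mk'_mul (zpowers z) E (zpowers_le.mpr hzE.1)
      rw [Nat.card_zpowers, hzo, hEc, sq] at h2
      exact Nat.eq_of_mul_eq_mul_right hp.pos h2
    have h3 := PGroupsBasic.le_center_of_card_eq_prime (hP.to_quotient (zpowers z)) h1
      (mem_map_of_mem f he)
    have h4 : ⁅e, x⁆ ∈ zpowers z := by
      rw [← QuotientGroup.eq_one_iff]
      show f ⁅e, x⁆ = 1
      rw [map_commutatorElement, commutatorElement_eq_one_iff_mul_comm]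
      exact (mem_center_iff.mp h3 (f x)).symm
    rw [PGroupsBasic.mul_pow_of_central (zpowers_le.mpr hzE.2 h4), hEel.2 e he, mul_one]
    obtain ⟨m, hm⟩ : p ∣ p.choose 2 := hp.dvd_choose_self (by norm_num) (by have := hp.two_le; omega)
    obtain ⟨i, hi⟩ := mem_zpowers_iff.mp h4
    have h5 : ⁅e, x⁆ ^ p = 1 := by
      rw [← hi, ← zpow_natCast, ← zpow_mul, mul_comm, zpow_mul, zpow_natCast, ← hzo, pow_orderOf_eq_one, one_zpow]
    rw [hm, pow_mul, h5, one_pow, mul_one]
  refine dvd_card_of_fibres (fun u => zpowers (u.1 ^ p)) _ ?_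
  rintro ⟨u0, hu0⟩
  set y := u0 ^ p with hy
  have hoy : orderOf y = p ^ (s - 1) := by
    rw [hy, orderOf_pow' _ hp.ne_zero, hu0, Nat.gcd_eq_right (dvd_pow_self p (by omega))]
    exact Nat.div_eq_of_eq_mul_left hp.pos (by rw [← pow_succ, Nat.sub_add_cancel (by omega)])
  have hord : ∀ u : P, orderOf (u ^ p) = p ^ (s - 1) → orderOf u = p ^ s := by
    intro u hu
    obtain ⟨t, rfl⟩ : ∃ t, s = t + 1 + 1 := ⟨s - 2, by omega⟩
    refine orderOf_eq_prime_pow ?_ ?_
    · intro h
      have h6 : orderOf (u ^ p) ∣ p ^ t := orderOf_dvd_of_pow_eq_one (by rw [← pow_mul, ← pow_succ']; exact h)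
      rw [hu, Nat.add_sub_cancel, Nat.pow_dvd_pow_iff_le_right hp.one_lt] at h6
      omega
    · rw [pow_succ' p (t + 1), pow_mul]
      rw [← orderOf_dvd_iff_pow_eq_one, hu, Nat.add_sub_cancel]
  have hcard : Nat.card {u : {u : P // orderOf u = p ^ s} // zpowers (u.1 ^ p) = zpowers y} =
      Nat.card {w : P // zpowers w = zpowers y} * Nat.card {u : P // u ^ p = y} := by
    refine card_eq_mul_of_fibres (fun u => ⟨u.1.1 ^ p, u.2⟩) _ ?_
    rintro ⟨w, hw⟩
    have how : orderOf w = p ^ (s - 1) := by rw [← Nat.card_zpowers, hw, Nat.card_zpowers, hoy]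
    obtain ⟨i, hi⟩ := (isOfFinOrder_of_finite y).mem_powers_iff_mem_zpowers.mpr (hw ▸ mem_zpowers w)
    simp only at hi
    have hco : (Nat.card P).Coprime i := by
      obtain ⟨a, ha⟩ := IsPGroup.iff_card.mp hP
      rw [ha]
      refine Nat.Coprime.pow_left _ (hp.coprime_iff_not_dvd.mpr ?_)
      rintro ⟨j, rfl⟩
      have h7 : orderOf w ∣ p ^ (s - 2) := by
        refine orderOf_dvd_of_pow_eq_one ?_
        rw [← hi, ← pow_mul, mul_comm p j, mul_assoc, ← pow_succ', show s - 2 + 1 = s - 1 by omega, mul_comm,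
          pow_mul, ← hoy, pow_orderOf_eq_one, one_pow]
      rw [how, Nat.pow_dvd_pow_iff_le_right hp.one_lt] at h7
      omega
    refine (Nat.card_congr ?_).trans (Nat.card_congr (Equiv.subtypeEquiv (powCoprime hco) (q := fun u : P => u ^ p = w) ?_)).symm
    · exact
        { toFun := fun u => ⟨u.1.1.1, congrArg Subtype.val u.2⟩
          invFun := fun u => ⟨⟨⟨u.1, hord u.1 (by rw [u.2, how])⟩, by rw [u.2, hw]⟩, Subtype.ext u.2⟩
          left_inv := fun u => rfl
          right_inv := fun u => rfl }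
    · intro u
      simp only [powCoprime_apply]
      rw [← pow_mul, mul_comm i p, pow_mul, ← hi]
      exact ⟨fun h => by rw [h], fun h => (powCoprime hco).injective h⟩
  rw [hcard, card_generators, hoy]
  have hF : p ^ 2 ∣ Nat.card {u : P // u ^ p = y} := by
    refine dvd_card_of_fibres (fun u => (u.1 : P ⧸ E)) _ ?_
    rintro ⟨a, ha⟩
    rw [← hEc]
    refine dvd_of_eq (Nat.card_congr
      { toFun := fun e => ⟨⟨a * e, by rw [hpow a e e.2, ha]⟩, ?_⟩
        invFun := fun u => ⟨a⁻¹ * u.1.1, ?_⟩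
        left_inv := fun e => by simp
        right_inv := fun u => by simp })
    · exact QuotientGroup.eq.mpr (by simpa using e.2)
    · exact QuotientGroup.eq.mp u.2.symm
  rw [Nat.totient_prime_pow hp (by omega), show s - 1 - 1 = s - 2 by omega, mul_right_comm]
  refine dvd_mul_of_dvd_left ?_ _
  calc p ^ s = p ^ (s - 2) * p ^ 2 := by rw [← pow_add]; congr 1; omega
    _ ∣ _ := mul_dvd_mul_left _ hF

theorem card_modEq_fixed {G : Type u} [Group G] [Finite G] {p : ℕ} [Fact p.Prime] (P : Subgroup G)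
    (hP : IsPGroup p P) (Q : Subgroup G → Prop)
    (hQ : ∀ g ∈ P, ∀ X, Q X → Q (X.map (MulAut.conj g).toMonoidHom)) :
    Nat.card {X : Subgroup G // Q X} ≡
      Nat.card {X : Subgroup G // Q X ∧ ∀ g ∈ P, X.map (MulAut.conj g).toMonoidHom = X} [MOD p] := by
  letI : MulAction P {X : Subgroup G // Q X} :=
    { smul := fun g X => ⟨X.1.map (MulAut.conj (g : G)).toMonoidHom, hQ g g.2 X.1 X.2⟩
      one_smul := fun X => Subtype.ext (by
        show X.1.map (MulAut.conj ((1 : P) : G)).toMonoidHom = X.1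
        convert Subgroup.map_id X.1 using 2
        ext x; simp)
      mul_smul := fun g h X => Subtype.ext (by
        show X.1.map (MulAut.conj ((g * h : P) : G)).toMonoidHom =
          (X.1.map (MulAut.conj (h : G)).toMonoidHom).map (MulAut.conj (g : G)).toMonoidHom
        rw [Subgroup.map_map]
        congr 1
        ext x; simp [MulAut.conj_apply, mul_assoc]) }
  refine (hP.card_modEq_card_fixedPoints {X : Subgroup G // Q X}).trans (congrArg (· % p) ?_)
  exact Nat.card_congr
    { toFun := fun X => ⟨X.1.1, X.1.2, fun g hg => congrArg Subtype.val (X.2 ⟨g, hg⟩)⟩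
      invFun := fun X => ⟨⟨X.1, X.2.1⟩, fun g => Subtype.ext (X.2.2 g g.2)⟩
      left_inv := fun X => rfl
      right_inv := fun X => rfl }

/-- Elements of order `p ^ s` when a Sylow `p`-subgroup is noncyclic. -/
theorem dvd_card_of_noncyclic {K : Type u} [Group K] [Finite K] {p : ℕ} [Fact p.Prime] (hp2 : p ≠ 2)
    (P : Sylow p K) (hnc : ¬ IsCyclic (P : Subgroup K)) {s : ℕ} (hs : 1 < s) :
    p ^ s ∣ Nat.card {u : K // orderOf u = p ^ s} := by
  have hp : p.Prime := Fact.out
  have hconj : ∀ (g : K) X, Cyc (p ^ s) X → Cyc (p ^ s) (X.map (MulAut.conj g).toMonoidHom) := by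
    rintro g _ ⟨u, hu, rfl⟩
    exact ⟨MulAut.conj g u, by rw [MulEquiv.orderOf_eq, hu], (MonoidHom.map_zpowers (MulAut.conj g).toMonoidHom u).symm⟩
  have h1 := card_modEq_fixed (P : Subgroup K) P.isPGroup' (fun X => Cyc (p ^ s) X ∧ True)
    (fun g _ X hX => ⟨hconj g X hX.1, trivial⟩)
  have h2 := card_modEq_fixed (P : Subgroup K) P.isPGroup' (fun X => Cyc (p ^ s) X ∧ X ≤ P)
    (fun g hg X hX => ⟨hconj g X hX.1, by
      rintro _ ⟨x, hx, rfl⟩
      exact mul_mem (mul_mem hg (hX.2 hx)) (inv_mem hg)⟩)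
  have h3 : Nat.card {X : Subgroup K // (Cyc (p ^ s) X ∧ True) ∧ ∀ g ∈ (P : Subgroup K), X.map (MulAut.conj g).toMonoidHom = X}
      = Nat.card {X : Subgroup K // (Cyc (p ^ s) X ∧ X ≤ P) ∧ ∀ g ∈ (P : Subgroup K), X.map (MulAut.conj g).toMonoidHom = X} := by
    refine Nat.card_congr (Equiv.subtypeEquivRight fun X => ⟨?_, fun h => ⟨⟨h.1.1, trivial⟩, h.2⟩⟩)
    rintro ⟨⟨hX, -⟩, hf⟩
    refine ⟨⟨hX, ?_⟩, hf⟩
    obtain ⟨u, hu, rfl⟩ := hX
    have hn : (P : Subgroup K) ≤ normalizer (zpowers u : Set K) := by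
      intro g hg
      rw [Subgroup.mem_normalizer_iff]
      intro x
      constructor
      · intro hx
        exact (hf g hg).le ⟨x, hx, rfl⟩
      · intro hx
        obtain ⟨w, hw, hwx⟩ : g * x * g⁻¹ ∈ (zpowers u).map (MulAut.conj g).toMonoidHom := (hf g hg).symm ▸ hx
        have : w = x := (MulAut.conj g).injective hwx
        exact this ▸ hw
    have hXp : IsPGroup p (zpowers u) := IsPGroup.of_card (n := s) (by rw [Nat.card_zpowers, hu])
    have h4 := P.is_maximal' (P.isPGroup'.to_sup_of_normal_right' hXp hn) le_sup_left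
    exact h4 ▸ le_sup_right
  have hB : p ^ s ∣ Nat.card {X : Subgroup K // Cyc (p ^ s) X ∧ X ≤ P} * Nat.totient (p ^ s) := by
    rw [← card_elements_eq (p ^ s) (fun X => X ≤ (P : Subgroup K))]
    refine (Nat.card_congr ?_) ▸ dvd_card_pGroup (P := (P : Subgroup K)) P.isPGroup' hp2 hnc hs
    exact
      { toFun := fun u => ⟨(u.1 : K), by rw [Subgroup.orderOf_coe, u.2], zpowers_le.mpr u.1.2⟩
        invFun := fun u => ⟨⟨u.1, zpowers_le.mp u.2.2⟩, by rw [Subgroup.orderOf_mk, u.2.1]⟩
        left_inv := fun u => rfl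
        right_inv := fun u => rfl }
  have hsplit : p ^ s = p ^ (s - 1) * p := by rw [← pow_succ, Nat.sub_add_cancel (by omega)]
  have hdvd : ∀ c : ℕ, p ^ s ∣ c * Nat.totient (p ^ s) → p ∣ c := by
    intro c hc
    rw [Nat.totient_prime_pow hp (by omega), mul_left_comm] at hc
    conv at hc => lhs; rw [hsplit]
    have h5 : p ∣ c * (p - 1) := Nat.dvd_of_mul_dvd_mul_left (Nat.pow_pos hp.pos) hc
    refine (hp.dvd_mul.mp h5).resolve_right fun h6 => ?_
    have := hp.two_le
    have := Nat.le_of_dvd (by omega) h6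
    omega
  have hA : p ∣ Nat.card {X : Subgroup K // Cyc (p ^ s) X ∧ True} := by
    rw [Nat.ModEq] at h1 h2
    rw [Nat.dvd_iff_mod_eq_zero, h1, h3, ← h2]
    exact Nat.dvd_iff_mod_eq_zero.mp (hdvd _ hB)
  have h7 := card_elements_eq (G := K) (p ^ s) (fun _ => True)
  rw [Nat.card_congr (Equiv.subtypeEquivRight (p := fun u : K => orderOf u = p ^ s ∧ True)
    (q := fun u : K => orderOf u = p ^ s) fun u => and_iff_left trivial)] at h7
  rw [h7, Nat.totient_prime_pow hp (by omega), mul_left_comm]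
  conv_lhs => rw [hsplit]
  exact mul_dvd_mul_left _ (dvd_mul_of_dvd_left hA _)

theorem dvd_index_mul {G : Type u} [Group G] [Finite G] {p : ℕ} [Fact p.Prime] (hp2 : p ≠ 2)
    (P : Sylow p G) (hP : ¬ IsCyclic (P : Subgroup G)) (C : Subgroup G) {s : ℕ} (hs : 1 < s) :
    p ^ s ∣ C.index * Nat.card {u : C // orderOf u = p ^ s} := by
  have hp : p.Prime := Fact.out
  obtain ⟨S⟩ : Nonempty (Sylow p C) := inferInstance
  by_cases hS : IsCyclic (S : Subgroup C)
  · have h1 : p ^ (s - 1) ∣ Nat.card {u : C // orderOf u = p ^ s} := by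
      have h7 := card_elements_eq (G := C) (p ^ s) (fun _ => True)
      rw [Nat.card_congr (Equiv.subtypeEquivRight (p := fun u : C => orderOf u = p ^ s ∧ True)
        (q := fun u : C => orderOf u = p ^ s) fun u => and_iff_left trivial)] at h7
      rw [h7, Nat.totient_prime_pow hp (by omega)]
      exact dvd_mul_of_dvd_right (dvd_mul_right _ _) _
    have h2 : p ∣ C.index := by
      by_contra hC
      set S' := (S : Subgroup C).map C.subtype
      have hidx : ¬ p ∣ S'.index := by
        rw [Subgroup.index_map_subtype]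
        exact hp.not_dvd_mul S.not_dvd_index hC
      let T : Sylow p G := (S.isPGroup'.map C.subtype).toSylow hidx
      haveI hTc : IsCyclic (T : Subgroup G) := by
        show IsCyclic S'
        exact isCyclic_of_surjective _ ((S : Subgroup C).equivMapOfInjective C.subtype C.subtype_injective).surjective
      exact hP (isCyclic_of_surjective _ (T.equiv P).surjective)
    have hsplit : p ^ s = p * p ^ (s - 1) := by rw [← pow_succ', Nat.sub_add_cancel (by omega)]
    exact hsplit.dvd.trans (mul_dvd_mul h2 h1)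
  · exact dvd_mul_of_dvd_right (dvd_card_of_noncyclic hp2 S hS hs) _

theorem card_part {G : Type u} [Group G] [Finite G] {p : ℕ} (hp : p.Prime) (s : ℕ) {m : ℕ}
    (hm : Nat.Coprime p m) {v : G} (hv : orderOf v = m) :
    Nat.card {g : G // orderOf g = p ^ s * m ∧ g ^ p ^ s = v} =
      Nat.card {u : centralizer ({v} : Set G) // orderOf u = p ^ s} := by
  obtain ⟨a, ha⟩ := exists_pow_eq_self_of_coprime (show (p ^ s).Coprime (orderOf v) from hv ▸ hm.pow_left s)
  have hm0 : 0 < m := hv ▸ orderOf_pos v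
  set w := v ^ a with hw
  have hw1 : w ^ p ^ s = v := by rw [hw, ← pow_mul, mul_comm, pow_mul]; exact ha
  have how : orderOf w = m := by
    refine Nat.dvd_antisymm ?_ ?_
    · rw [hw, ← hv]; exact orderOf_pow_dvd a
    · rw [← hv]; conv_lhs => rw [← hw1]
      exact orderOf_pow_dvd _
  have hcw : ∀ x : G, Commute x v → Commute x w := fun x hx => hx.pow_right a
  refine Nat.card_congr
    { toFun := fun g => ⟨⟨g.1 * w⁻¹, ?_⟩, ?_⟩
      invFun := fun u => ⟨(u.1 : G) * w, ?_, ?_⟩
      left_inv := fun g => Subtype.ext (inv_mul_cancel_right _ _)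
      right_inv := fun u => Subtype.ext (Subtype.ext (mul_inv_cancel_right _ _)) }
  · rw [mem_centralizer_singleton_iff]
    have h1 : Commute g.1 v := (congrArg (Commute g.1) g.2.2).mp ((Commute.refl g.1).pow_right _)
    exact ((h1.mul_left ((hcw v (Commute.refl v)).symm.inv_left))).eq
  · rw [Subgroup.orderOf_mk]
    have h1 : Commute g.1 v := (congrArg (Commute g.1) g.2.2).mp ((Commute.refl g.1).pow_right _)
    have h2 : (g.1 * w⁻¹) ^ p ^ s = 1 := by
      rw [(hcw _ h1).inv_right.mul_pow, g.2.2, inv_pow, hw1, mul_inv_cancel]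
    obtain ⟨t, -, ht⟩ := (Nat.dvd_prime_pow hp).mp (orderOf_dvd_of_pow_eq_one h2)
    have h3 : Commute (g.1 * w⁻¹) w := (hcw _ h1).mul_left (Commute.refl w).inv_left
    have h4 := h3.orderOf_mul_eq_mul_orderOf_of_coprime (by rw [ht, how]; exact hm.pow_left t)
    rw [inv_mul_cancel_right, g.2.1, how] at h4
    exact (Nat.eq_of_mul_eq_mul_right hm0 h4).symm
  · have h3 : Commute (u.1 : G) w := hcw _ (mem_centralizer_singleton_iff.mp u.1.2)
    rw [h3.orderOf_mul_eq_mul_orderOf_of_coprime (by rw [Subgroup.orderOf_coe, u.2, how]; exact hm.pow_left s),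
      Subgroup.orderOf_coe, u.2, how]
  · have h3 : Commute (u.1 : G) w := hcw _ (mem_centralizer_singleton_iff.mp u.1.2)
    rw [h3.mul_pow, hw1]
    have h5 : (u.1 : G) ^ p ^ s = 1 := by
      have := pow_orderOf_eq_one (u.1 : G)
      rwa [Subgroup.orderOf_coe, u.2] at this
    rw [h5, one_mul]

theorem dvd_card_main {G : Type u} [Group G] [Finite G] {p : ℕ} [Fact p.Prime] (hp2 : p ≠ 2)
    (P : Sylow p G) (hP : ¬ IsCyclic (P : Subgroup G)) (s m : ℕ) (hs : 1 < s) (hm : Nat.Coprime p m) :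
    p ^ s ∣ Nat.card {g : G // orderOf g = p ^ s * m} := by
  have hp : p.Prime := Fact.out
  refine dvd_card_of_fibres (fun g => ConjClasses.mk (g.1 ^ p ^ s)) _ ?_
  rintro ⟨g0, hg0⟩
  set v := g0 ^ p ^ s with hvdef
  have hv : orderOf v = m := by
    rw [hvdef, orderOf_pow' _ (pow_ne_zero _ hp.ne_zero), hg0, Nat.gcd_mul_right_left,
      Nat.mul_div_cancel_left _ (Nat.pow_pos hp.pos)]
  have hc : Nat.card {g : {g : G // orderOf g = p ^ s * m} // ConjClasses.mk (g.1 ^ p ^ s) = ConjClasses.mk v} =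
      Nat.card {w : G // IsConj w v} * Nat.card {g : G // orderOf g = p ^ s * m ∧ g ^ p ^ s = v} := by
    refine card_eq_mul_of_fibres (fun g => ⟨g.1.1 ^ p ^ s, ConjClasses.mk_eq_mk_iff_isConj.mp g.2⟩) _ ?_
    rintro ⟨w, hw⟩
    obtain ⟨c, hc⟩ := isConj_iff.mp hw
    refine (Nat.card_congr ?_).trans (Nat.card_congr (Equiv.subtypeEquiv (MulAut.conj c).toEquiv
      (p := fun g => orderOf g = p ^ s * m ∧ g ^ p ^ s = w) ?_))
    · exact
        { toFun := fun g => ⟨g.1.1.1, g.1.1.2, congrArg Subtype.val g.2⟩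
          invFun := fun g => ⟨⟨⟨g.1, g.2.1⟩, ConjClasses.mk_eq_mk_iff_isConj.mpr (g.2.2.symm ▸ hw)⟩,
            Subtype.ext g.2.2⟩
          left_inv := fun g => rfl
          right_inv := fun g => rfl }
    · intro g
      have he : ((MulAut.conj c).toEquiv g) = MulAut.conj c g := rfl
      rw [he, MulEquiv.orderOf_eq, ← map_pow, ← hc, ← MulAut.conj_apply]
      exact and_congr_right fun _ => ⟨fun h => by rw [h], fun h => (MulAut.conj c).injective h⟩
  have hcl : Nat.card {w : G // IsConj w v} = (centralizer ({v} : Set G)).index := by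
    have h2 := MulAction.index_stabilizer (ConjAct G) v
    rw [ConjAct.stabilizer_eq_centralizer] at h2
    have h2' : (centralizer ({v} : Set G)).index = (MulAction.orbit (ConjAct G) v).ncard := h2
    rw [h2', ← Nat.card_coe_set_eq]
    exact Nat.card_congr (Equiv.subtypeEquivRight fun w => ConjAct.mem_orbit_conjAct.symm)
  rw [hc, hcl, card_part hp s hm hv]
  exact dvd_index_mul hp2 P hP _ hs

/-- Let G be a finite group, p an odd prime dividing the order of G whose Sylow p-subgroups are not cyclic, and n = p^s·m with s > 1 and m coprime to p. Then the number of elements of G of order n is a multiple of p^s. -/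
theorem result {G : Type*} [Group G] [Finite G] (p : ℕ) [Fact p.Prime] (hodd : p ≠ 2) (hpG : p ∣ Nat.card G)
    (P : Sylow p G) (hP : ¬ IsCyclic ↥(P : Subgroup G)) (s m : ℕ) (hs : 1 < s) (hm : Nat.Coprime p m) :
    p ^ s ∣ Nat.card {g : G // orderOf g = p ^ s * m} := by
  exact dvd_card_main hodd P hP s m hs hm

end Cfsg.Agent.S4003
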