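import Cfsg.Statements.S4004
import Mathlib
import Cfsg.Agent.S3996
import Cfsg.Agent.Lib.FrobeniusCount72
import Cfsg.Agent.Lib.BurnsideSmall

set_option autoImplicit false
open Cfsg
open scoped Pointwise

namespace Cfsg.Agent.S4004

open S3996 (cnt pair_dvd card_pow_eq)

section
variable {G : Type*} [Group G] [Finite G] {a b : ℕ}

theorem cnt_ne_zero (g : G) : cnt G (orderOf g) ≠ 0 := by
  haveI : Nonempty {x : G // orderOf x = orderOf g} := ⟨⟨g, rfl⟩⟩
  exact Nat.card_pos.ne'

theorem exists_of_cnt {m : ℕ} (h : cnt G m ≠ 0) : ∃ g : G, orderOf g = m := by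
  obtain ⟨⟨g, hg⟩⟩ := (Nat.card_ne_zero.1 h).1
  exact ⟨g, hg⟩

theorem cnt_one : cnt G 1 = 1 := by
  refine Nat.card_eq_one_iff_unique.2 ⟨⟨fun x y => Subtype.ext ?_⟩, ⟨⟨1, orderOf_one⟩⟩⟩
  rw [orderOf_eq_one_iff.1 x.2, orderOf_eq_one_iff.1 y.2]

theorem cnt_prime {p : ℕ} (hp : p.Prime) (hd : p ∣ Nat.card G) : cnt G p ≠ 0 := by
  haveI := Fact.mk hp
  obtain ⟨g, hg⟩ := exists_prime_orderOf_dvd_card' (G := G) p hd
  exact hg ▸ cnt_ne_zero g

theorem three_le {p : ℕ} (hodd : Odd (Nat.card G)) (hp : p.Prime) (hd : p ∣ Nat.card G) : 3 ≤ p := by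
  have := (hodd.of_dvd_nat hd)
  have := hp.two_le
  rcases this.lt_or_eq with h | h
  · omega
  · subst h; simp [Nat.odd_iff] at *

theorem hsmall {p : ℕ} (hp3 : 3 ≤ p) {z : ℤ} (hz : (p : ℤ) ∣ z) : z ≠ 1 ∧ z ≠ 2 ∧ z ≠ -1 ∧ z ≠ -2 := by
  refine ⟨?_, ?_, ?_, ?_⟩ <;> rintro rfl <;>
    [have := Int.le_of_dvd one_pos hz; have := Int.le_of_dvd two_pos hz;
     have := Int.le_of_dvd one_pos (dvd_neg.1 hz); have := Int.le_of_dvd two_pos (dvd_neg.1 hz)] <;> omega

theorem cong_one {p : ℕ} (hp : p.Prime) (hd : p ∣ Nat.card G) : (p : ℤ) ∣ 1 + (cnt G p : ℤ) := by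
  have h1 := pair_dvd hp hd 1 hp.not_dvd_one (one_dvd _)
  rw [mul_one, cnt_one] at h1
  exact_mod_cast h1

theorem cong_two {p q : ℕ} (hp : p.Prime) (hq : q.Prime) (hne : p ≠ q) (hpd : p ∣ Nat.card G)
    (hqd : q ∣ Nat.card G) : (p : ℤ) ∣ (cnt G q : ℤ) + (cnt G (p * q) : ℤ) := by
  exact_mod_cast pair_dvd hp hpd q (fun h => hne ((Nat.prime_dvd_prime_iff_eq hp hq).1 h)) hqd

/-- Two primes with the same count force the product to have count `1` modulo each. -/
theorem same_pair (hodd : Odd (Nat.card G)) {p q : ℕ} (hp : p.Prime) (hq : q.Prime) (hne : p ≠ q)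
    (hpd : p ∣ Nat.card G) (hqd : q ∣ Nat.card G) (heq : cnt G p = cnt G q) :
    (p : ℤ) ∣ (cnt G (p * q) : ℤ) - 1 ∧ cnt G (p * q) ≠ 0 ∧ cnt G (p * q) ≠ cnt G p := by
  have h3 := three_le hodd hp hpd
  have h1 := cong_one (G := G) hp hpd
  have h2 := cong_two (G := G) hp hq hne hpd hqd
  rw [← heq] at h2
  have hd : (p : ℤ) ∣ (cnt G (p * q) : ℤ) - 1 := by
    have := dvd_sub h2 h1
    refine S3996.dvd_congr' this ?_
    ring
  refine ⟨hd, fun h0 => ?_, fun h0 => ?_⟩
  · rw [h0] at hd
    exact (hsmall h3 hd).2.2.1 (by norm_num)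
  · rw [h0] at hd
    exact (hsmall h3 (dvd_sub h1 hd)).2.1 (by ring)

/-- With two primes of the same count, the Sylow part of the first divides `1 + count`. -/
theorem ordProj_dvd_of_same (hodd : Odd (Nat.card G))
    (hv : ∀ m, 1 < m → cnt G m = 0 ∨ cnt G m = a ∨ cnt G m = b) {p q : ℕ} (hp : p.Prime) (hq : q.Prime)
    (hne : p ≠ q) (hpd : p ∣ Nat.card G) (hqd : q ∣ Nat.card G) (heq : cnt G p = cnt G q) :
    ordProj[p] (Nat.card G) ∣ 1 + cnt G p := by
  have h3 := three_le hodd hp hpd
  have h1 := cong_one (G := G) hp hpd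
  obtain ⟨hd, hx0, hxne⟩ := same_pair hodd hp hq hne hpd hqd heq
  have hp0 := cnt_prime (G := G) hp hpd
  have hexp : ∀ k, cnt G (p ^ (k + 2)) = 0 := by
    intro k
    by_contra h0
    have hdd : (p : ℤ) ∣ (cnt G (p ^ (k + 2)) : ℤ) := by
      refine Int.natCast_dvd_natCast.2 (dvd_trans ?_ (FrobeniusCount72.totient_dvd_card_orderOf _))
      rw [Nat.totient_prime_pow hp (by omega)]
      exact Dvd.dvd.mul_right (dvd_pow_self p (by omega)) _
    have hm : 1 < p ^ (k + 2) := Nat.one_lt_pow (by omega) hp.one_lt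
    have hpq : 1 < p * q := by nlinarith [hp.two_le, hq.two_le]
    have : cnt G (p ^ (k + 2)) = cnt G p ∨ cnt G (p ^ (k + 2)) = cnt G (p * q) := by
      have := hv _ hm
      have := hv p hp.one_lt
      have := hv _ hpq
      omega
    rcases this with e | e <;> rw [e] at hdd
    · exact (hsmall h3 (dvd_sub h1 hdd)).1 (by ring)
    · exact (hsmall h3 (dvd_sub hd hdd)).2.2.1 (by ring)
  have hF := FrobeniusCount72.dvd_card_pow_eq_one (G := G) _ (Nat.ordProj_dvd (Nat.card G) p)
  rw [card_pow_eq _ (pow_ne_zero _ hp.ne_zero), Nat.sum_divisors_prime_pow hp] at hF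
  obtain ⟨e, he⟩ : ∃ e, (Nat.card G).factorization p = e + 1 :=
    Nat.exists_eq_add_of_le' (hp.factorization_pos_of_dvd Nat.card_pos.ne' hpd)
  rw [he] at hF ⊢
  rw [Finset.sum_range_succ', Finset.sum_range_succ', Finset.sum_eq_zero (fun k _ => hexp k),
    pow_zero, zero_add, cnt_one, pow_one] at hF
  rwa [Nat.add_comm 1]

/-- A third prime has the same count as two primes with equal counts. -/
theorem same_all (hodd : Odd (Nat.card G))
    (hv : ∀ m, 1 < m → cnt G m = 0 ∨ cnt G m = a ∨ cnt G m = b) {p q r : ℕ} (hp : p.Prime) (hq : q.Prime)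
    (hr : r.Prime) (hpq : p ≠ q) (hpr : p ≠ r) (hqr : q ≠ r) (hpd : p ∣ Nat.card G) (hqd : q ∣ Nat.card G)
    (hrd : r ∣ Nat.card G) (heq : cnt G p = cnt G q) : cnt G r = cnt G p := by
  by_contra hne
  have p3 := three_le hodd hp hpd
  have q3 := three_le hodd hq hqd
  have r3 := three_le hodd hr hrd
  obtain ⟨hd, hx0, hxne⟩ := same_pair hodd hp hq hpq hpd hqd heq
  obtain ⟨A, B, hA, hB, hv'⟩ : ∃ A B, cnt G p = A ∧ cnt G r = B ∧
      ∀ m, 1 < m → cnt G m = 0 ∨ cnt G m = A ∨ cnt G m = B := by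
    refine ⟨_, _, rfl, rfl, fun m hm => ?_⟩
    have := hv m hm
    have := hv p hp.one_lt
    have := hv r hr.one_lt
    have := cnt_prime (G := G) hp hpd
    have := cnt_prime (G := G) hr hrd
    omega
  have hM : cnt G (p * q) = B := ((hv' _ (by nlinarith)).resolve_left hx0).resolve_left (hA ▸ hxne)
  rw [hM] at hd
  have c1 := cong_one (G := G) hp hpd
  have c3 := cong_one (G := G) hr hrd
  rw [hA] at c1
  rw [hB] at c3
  have c2 := cong_one (G := G) hq hqd
  rw [← heq, hA] at c2
  have hd' : (q : ℤ) ∣ (B : ℤ) - 1 := by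
    have := (same_pair hodd hq hp hpq.symm hqd hpd heq.symm).1
    rwa [mul_comm q p, hM] at this
  -- products with the third prime have the count of the first two
  have key : ∀ s : ℕ, s.Prime → s ≠ r → s ∣ Nat.card G → (s : ℤ) ∣ 1 + (A : ℤ) → (s : ℤ) ∣ (B : ℤ) - 1 →
      cnt G (s * r) = A := by
    intro s hs hsr hsd hsA hsB
    have s3 := three_le hodd hs hsd
    have c := cong_two (G := G) hs hr hsr hsd hrd
    rw [hB] at c
    rcases hv' (s * r) (by nlinarith) with e | e | e
    · rw [e] at c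
      exact absurd (by push_cast; ring) (hsmall s3 (dvd_sub c hsB)).1
    · exact e
    · rw [e] at c
      exact absurd (by ring) (hsmall s3 (dvd_sub c (hsB.mul_left 2))).2.1
  have hqrA : cnt G (q * r) = A := key q hq hqr hqd c2 hd'
  have hnd : ∀ {x y z : ℕ}, x.Prime → y.Prime → z.Prime → x ≠ y → x ≠ z → ¬ x ∣ y * z :=
    fun {x y z} hx hy hz h1 h2 h => (hx.dvd_mul.1 h).elim
      (fun h => h1 ((Nat.prime_dvd_prime_iff_eq hx hy).1 h)) (fun h => h2 ((Nat.prime_dvd_prime_iff_eq hx hz).1 h))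
  have cp : (p : ℤ) ∣ (cnt G (q * r) : ℤ) + (cnt G (p * (q * r)) : ℤ) := by
    exact_mod_cast pair_dvd hp hpd (q * r) (hnd hp hq hr hpq hpr)
      (((Nat.coprime_primes hq hr).2 hqr).mul_dvd_of_dvd_of_dvd hqd hrd)
  have cr : (r : ℤ) ∣ (cnt G (p * q) : ℤ) + (cnt G (r * (p * q)) : ℤ) := by
    exact_mod_cast pair_dvd hr hrd (p * q) (hnd hr hp hq hpr.symm hqr.symm)
      (((Nat.coprime_primes hp hq).2 hpq).mul_dvd_of_dvd_of_dvd hpd hqd)
  rw [hqrA] at cp
  rw [hM, show r * (p * q) = p * (q * r) by ring] at cr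
  have hX := hv' (p * (q * r)) (by nlinarith [Nat.mul_le_mul q3 r3])
  rcases hX with e | e | e <;> rw [e] at cp cr
  · exact (hsmall p3 (dvd_sub c1 cp)).1 (by push_cast; ring)
  · exact (hsmall p3 (dvd_sub (c1.mul_left 2) cp)).2.1 (by ring)
  · exact (hsmall r3 (dvd_sub (c3.mul_left 2) cr)).2.1 (by ring)

theorem sum_le (D : Finset ℕ) : ∑ d ∈ D, cnt G d ≤ Nat.card G := by
  classical
  haveI := Fintype.ofFinite G
  simp only [cnt, Nat.card_eq_fintype_card, Fintype.card_subtype]
  rw [← Finset.card_biUnion (fun i _ j _ hij => Finset.disjoint_left.2 fun g hgi hgj => hij (by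
    simp only [Finset.mem_filter] at hgi hgj
    exact hgi.2.symm.trans hgj.2))]
  exact Finset.card_le_univ _

/-- Distinct primes have distinct counts. -/
theorem prime_ne (hodd : Odd (Nat.card G))
    (hv : ∀ m, 1 < m → cnt G m = 0 ∨ cnt G m = a ∨ cnt G m = b) {p q : ℕ} (hp : p.Prime) (hq : q.Prime)
    (hpq : p ≠ q) (hpd : p ∣ Nat.card G) (hqd : q ∣ Nat.card G) : cnt G p ≠ cnt G q := by
  intro heq
  have hall : ∀ t : ℕ, t.Prime → t ∣ Nat.card G → cnt G t = cnt G p := by
    intro t ht htd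
    rcases eq_or_ne t p with rfl | htp
    · rfl
    rcases eq_or_ne t q with rfl | htq
    · exact heq.symm
    exact same_all hodd hv hp hq ht hpq htp.symm htq.symm hpd hqd htd heq
  have hdvd : Nat.card G ∣ 1 + cnt G p := by
    rw [Nat.dvd_iff_prime_pow_dvd_dvd]
    intro t k ht hk
    rcases Nat.eq_zero_or_pos k with rfl | hk0
    · simp
    have htd := (dvd_pow_self t hk0.ne').trans hk
    refine (pow_dvd_pow t ((ht.pow_dvd_iff_le_factorization Nat.card_pos.ne').1 hk)).trans ?_
    rcases eq_or_ne t p with rfl | htp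
    · exact ordProj_dvd_of_same hodd hv ht hq hpq htd hqd heq
    · have := ordProj_dvd_of_same hodd hv ht hp htp htd hpd (hall t ht htd)
      rwa [hall t ht htd] at this
  have hc := sum_le (G := G) {1, p, q}
  rw [Finset.sum_insert (by simp [hp.ne_one.symm, hq.ne_one.symm]), Finset.sum_pair hpq, cnt_one, ← heq] at hc
  have := Nat.le_of_dvd (by omega) hdvd
  have := cnt_prime (G := G) hp hpd
  omega

/-- The count of `p q` is not that of `p`. -/
theorem pq_ne (hodd : Odd (Nat.card G)) {p q : ℕ} (hp : p.Prime) (hq : q.Prime) (hpq : p ≠ q)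
    (hpd : p ∣ Nat.card G) (hqd : q ∣ Nat.card G) : cnt G (p * q) ≠ cnt G p := by
  intro hX
  haveI := Fact.mk hp
  have p3 := three_le hodd hp hpd
  have q3 := three_le hodd hq hqd
  obtain ⟨P⟩ := (inferInstance : Nonempty (Sylow p G))
  by_cases hy : ∃ y : G, orderOf y = q ∧ ∀ x ∈ (P : Subgroup G), x * y = y * x
  · obtain ⟨y, hy, hyc⟩ := hy
    have hf : ∀ x : {x : G // orderOf x = p}, ∃ z : G, orderOf z = q ∧ Commute x.1 z := by
      intro x
      obtain ⟨S, hS⟩ := (IsPGroup.of_card (n := 1) (by rw [Nat.card_zpowers, x.2, pow_one]) :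
        IsPGroup p (Subgroup.zpowers x.1)).exists_le_sylow
      obtain ⟨g, rfl⟩ := MulAction.exists_smul_eq G P S
      have hx : x.1 ∈ ((g • P : Sylow p G) : Subgroup G) := hS (Subgroup.mem_zpowers _)
      rw [Sylow.coe_subgroup_smul] at hx
      obtain ⟨u, hu, hux⟩ := Subgroup.mem_smul_pointwise_iff_exists _ _ _ |>.1 hx
      refine ⟨g * y * g⁻¹, ?_, ?_⟩
      · rw [← hy]
        exact orderOf_injective (MulAut.conj g).toMonoidHom (MulAut.conj g).injective y
      · rw [← hux, MulAut.smul_def, MulAut.conj_apply]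
        exact Commute.conj (hyc u hu) g
    choose z hz hzc using hf
    have ho : ∀ (i : Fin 2) (x : {x : G // orderOf x = p}), orderOf (z x ^ ((i : ℕ) + 1)) = q := by
      intro i x
      rw [Nat.Coprime.orderOf_pow, hz x]
      rw [hz x]
      refine (hq.coprime_iff_not_dvd.2 fun h => ?_)
      have := Nat.le_of_dvd (by omega) h
      omega
    have hinj : Function.Injective (fun w : Fin 2 × {x : G // orderOf x = p} =>
        (⟨w.2.1 * z w.2 ^ ((w.1 : ℕ) + 1), by
          rw [((hzc w.2).pow_right _).orderOf_mul_eq_mul_orderOf_of_coprime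
            (by rw [w.2.2, ho]; exact (Nat.coprime_primes hp hq).2 hpq), w.2.2, ho]⟩ :
          {g : G // orderOf g = p * q})) := by
      rintro ⟨i, x⟩ ⟨j, x'⟩ h
      have h' : x.1 * z x ^ ((i : ℕ) + 1) = x'.1 * z x' ^ ((j : ℕ) + 1) := congrArg Subtype.val h
      have hq' : ∀ (k : Fin 2) (u : {x : G // orderOf x = p}), (u.1 * z u ^ ((k : ℕ) + 1)) ^ q = u.1 ^ q := by
        intro k u
        have e : (z u ^ ((k : ℕ) + 1)) ^ q = 1 := orderOf_dvd_iff_pow_eq_one.1 (dvd_of_eq (ho k u))
        rw [((hzc u).pow_right _).mul_pow, e, mul_one]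
      have e : x.1 ^ q = x'.1 ^ q := by rw [← hq' i x, h', hq']
      obtain ⟨m, hm⟩ := exists_pow_eq_self_of_coprime (x := x.1) (n := q)
        (by rw [x.2]; exact (Nat.coprime_primes hq hp).2 hpq.symm)
      have hmod : q * m ≡ 1 [MOD p] := by
        have : x.1 ^ (q * m) = x.1 ^ 1 := by rw [pow_mul, hm, pow_one]
        have := pow_eq_pow_iff_modEq.1 this
        rwa [x.2] at this
      have hxx : x = x' := by
        refine Subtype.ext ?_
        have : x'.1 ^ (q * m) = x'.1 ^ 1 := pow_eq_pow_iff_modEq.2 (by rw [x'.2]; exact hmod)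
        rw [← hm, e, ← pow_mul, this, pow_one]
      subst hxx
      have h2 := pow_eq_pow_iff_modEq.1 (mul_left_cancel h')
      rw [hz x] at h2
      have := i.2
      have := j.2
      have h3 := Nat.ModEq.eq_of_lt_of_lt h2 (by omega) (by omega)
      exact Prod.ext (Fin.ext (by simpa using h3)) rfl
    have := Nat.card_le_card_of_injective _ hinj
    rw [Nat.card_prod, Nat.card_fin] at this
    have := cnt_prime (G := G) hp hpd
    simp only [cnt] at *
    omega
  · -- no fixed points: `p` divides the count of `q`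
    letI : MulAction ↥(P : Subgroup G) {y : G // orderOf y = q} :=
      { smul := fun x y => ⟨(x : G) * y.1 * (x : G)⁻¹, by
          rw [← MulAut.conj_apply]
          exact (orderOf_injective (MulAut.conj (x : G)).toMonoidHom (MulAut.conj (x : G)).injective y.1).trans y.2⟩
        one_smul := fun y => Subtype.ext (show ((1 : ↥(P : Subgroup G)) : G) * y.1 * _ = y.1 by simp)
        mul_smul := fun x x' y => Subtype.ext (show ((x * x' : ↥(P : Subgroup G)) : G) * y.1 * _ = (x : G) * ((x' : G) * y.1 * (x' : G)⁻¹) * (x : G)⁻¹ by simp [mul_assoc]) }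
    have hmod := P.isPGroup'.card_modEq_card_fixedPoints {y : G // orderOf y = q}
    haveI : IsEmpty (MulAction.fixedPoints ↥(P : Subgroup G) {y : G // orderOf y = q}) := by
      refine ⟨fun w => hy ⟨w.1.1, w.1.2, fun x hx => ?_⟩⟩
      have e : x * w.1.1 * x⁻¹ = w.1.1 := congrArg Subtype.val (w.2 ⟨x, hx⟩)
      exact mul_inv_eq_iff_eq_mul.1 e
    rw [Nat.card_of_isEmpty (α := MulAction.fixedPoints ↥(P : Subgroup G) {y : G // orderOf y = q})] at hmod
    have hb : (p : ℤ) ∣ (cnt G q : ℤ) := Int.natCast_dvd_natCast.2 ((Nat.modEq_zero_iff_dvd).1 hmod)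
    have c := cong_two (G := G) hp hq hpq hpd hqd
    rw [hX] at c
    exact (hsmall p3 (dvd_sub (dvd_add (cong_one (G := G) hp hpd) hb) c)).1 (by ring)

/-- Elements have order `1`, `p` or `q`. -/
theorem orders (hodd : Odd (Nat.card G))
    (hv : ∀ m, 1 < m → cnt G m = 0 ∨ cnt G m = a ∨ cnt G m = b) {p q : ℕ} (hp : p.Prime) (hq : q.Prime)
    (hpq : p ≠ q) (hpd : p ∣ Nat.card G) (hqd : q ∣ Nat.card G)
    (htwo : ∀ r : ℕ, r.Prime → r ∣ Nat.card G → r = p ∨ r = q) (g : G) :
    orderOf g = 1 ∨ orderOf g = p ∨ orderOf g = q := by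
  have hne := prime_ne hodd hv hp hq hpq hpd hqd
  have hp0 := cnt_prime (G := G) hp hpd
  have hq0 := cnt_prime (G := G) hq hqd
  have h0 : cnt G (p * q) = 0 := by
    have h1 := pq_ne hodd hp hq hpq hpd hqd
    have h2 := pq_ne hodd hq hp hpq.symm hqd hpd
    rw [mul_comm q p] at h2
    have := hv (p * q) (by nlinarith [hp.two_le, hq.two_le])
    have := hv p hp.one_lt
    have := hv q hq.one_lt
    omega
  have hno : ∀ d, d ∣ orderOf g → cnt G d ≠ 0 := by
    intro d hd
    have := cnt_ne_zero (g ^ (orderOf g / d))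
    rwa [orderOf_pow_orderOf_div (orderOf_pos g).ne' hd] at this
  have hpp : ∀ r s : ℕ, r.Prime → s.Prime → r ≠ s → r ∣ Nat.card G → s ∣ Nat.card G → cnt G r ≠ cnt G s →
      cnt G (r * s) = 0 → ¬ r ^ 2 ∣ orderOf g := by
    intro r s hr hs hrs hrd hsd hne hrs0 h
    have r3 := three_le hodd hr hrd
    have s3 := three_le hodd hs hsd
    have hd : (r : ℤ) ∣ (cnt G (r ^ 2) : ℤ) := by
      refine Int.natCast_dvd_natCast.2 (dvd_trans ?_ (FrobeniusCount72.totient_dvd_card_orderOf _))
      rw [Nat.totient_prime_pow hr (by omega), show 2 - 1 = 1 by omega, pow_one]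
      exact dvd_mul_right _ _
    have hne0 : cnt G (r ^ 2) ≠ cnt G r := fun e => by
      rw [e] at hd
      exact (hsmall r3 (dvd_sub (cong_one (G := G) hr hrd) hd)).1 (by ring)
    have hval : cnt G (r ^ 2) = cnt G s := by
      have := hv (r ^ 2) (Nat.one_lt_pow (by omega) hr.one_lt)
      have := hv r hr.one_lt
      have := hv s hs.one_lt
      have := cnt_prime (G := G) hr hrd
      have := cnt_prime (G := G) hs hsd
      have := hno _ h
      omega
    have hz : cnt G (s * r ^ 2) = 0 := by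
      by_contra hc
      obtain ⟨u, hu⟩ := exists_of_cnt hc
      have := cnt_ne_zero (u ^ r)
      rw [orderOf_pow_of_dvd hr.ne_zero (hu ▸ Dvd.dvd.mul_left (dvd_pow_self r (by omega)) s), hu,
        show s * r ^ 2 / r = r * s by rw [show s * r ^ 2 = r * (r * s) by ring, Nat.mul_div_cancel_left _ hr.pos]] at this
      exact this hrs0
    have c : (s : ℤ) ∣ (cnt G (r ^ 2) : ℤ) + (cnt G (s * r ^ 2) : ℤ) := by
      exact_mod_cast pair_dvd hs hsd (r ^ 2)
        (fun h => hrs.symm ((Nat.prime_dvd_prime_iff_eq hs hr).1 (hs.dvd_of_dvd_pow h)))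
        (h.trans (orderOf_dvd_natCard g))
    rw [hval, hz] at c
    exact (hsmall s3 (dvd_sub (cong_one (G := G) hs hsd) c)).1 (by push_cast; ring)
  have hnpq : ¬ (p ∣ orderOf g ∧ q ∣ orderOf g) := fun h =>
    hno _ (((Nat.coprime_primes hp hq).2 hpq).mul_dvd_of_dvd_of_dvd h.1 h.2) h0
  rcases eq_or_ne (orderOf g) 1 with h1 | h1
  · exact Or.inl h1
  obtain ⟨r, hr, hrd⟩ := Nat.exists_prime_and_dvd h1
  have hprim : ∀ t : ℕ, t.Prime → t ∣ orderOf g → t = r := by
    intro t ht htd
    rcases htwo t ht (htd.trans (orderOf_dvd_natCard g)) with rfl | rfl <;>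
      rcases htwo r hr (hrd.trans (orderOf_dvd_natCard g)) with rfl | rfl <;>
      first | rfl | exact absurd ⟨by assumption, by assumption⟩ hnpq
  have hpow : orderOf g = r := by
    have e := Nat.eq_prime_pow_of_unique_prime_dvd (orderOf_pos g).ne' (fun {d} hd hdd => hprim d hd hdd)
    generalize (orderOf g).primeFactorsList.length = k at e
    match k, e with
    | 0, e => exact absurd (by simpa using e) h1
    | 1, e => simpa using e
    | k + 2, e =>
      exfalso
      have h2 : r ^ 2 ∣ orderOf g := e ▸ pow_dvd_pow r (by omega)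
      rcases htwo r hr (hrd.trans (orderOf_dvd_natCard g)) with rfl | rfl
      · exact hpp r q hr hq hpq hpd hqd hne h0 h2
      · exact hpp r p hr hp hpq.symm hqd hpd hne.symm (by rwa [mul_comm]) h2
  rcases htwo r hr (hrd.trans (orderOf_dvd_natCard g)) with rfl | rfl
  · exact Or.inr (Or.inl hpow)
  · exact Or.inr (Or.inr hpow)

/-- The structure: a Sylow subgroup is a Frobenius complement of prime order. -/
theorem frob {p q : ℕ} (hp : p.Prime) (hq : q.Prime) (hpq : p ≠ q)
    (hpd : p ∣ Nat.card G) (hqd : q ∣ Nat.card G)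
    (hord : ∀ g : G, orderOf g = 1 ∨ orderOf g = p ∨ orderOf g = q)
    (A : Subgroup G) [hAn : A.Normal] (hAc : ∀ x y : ↥A, x * y = y * x) (w : ↥A) (hw : orderOf (w : G) = q) :
    ∃ C : Subgroup G, Cfsg.IsFrobeniusComplement C ∧ (Nat.card ↥C).Prime := by
  classical
  haveI := Fact.mk hp
  letI : CommGroup ↥A := { (inferInstance : Group ↥A) with mul_comm := hAc }
  -- no element of order `p q`
  have hno : ∀ x y : G, orderOf x = p → orderOf y = q → ¬ Commute x y := by
    intro x y hx hy hc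
    have h := hc.orderOf_mul_eq_mul_orderOf_of_coprime (by rw [hx, hy]; exact (Nat.coprime_primes hp hq).2 hpq)
    rw [hx, hy] at h
    rcases hord (x * y) with e | e | e <;> rw [e] at h <;>
      nlinarith [hp.two_le, hq.two_le]
  have hAq : ∀ v : ↥A, v ^ q = 1 := by
    intro v
    rcases hord (v : G) with e | e | e
    · rw [show v = 1 from Subtype.ext (orderOf_eq_one_iff.1 e), one_pow]
    · exact absurd (congrArg Subtype.val (hAc v w)) (hno v w e hw)
    · exact Subtype.ext (by rw [Subgroup.coe_pow, Subgroup.coe_one]; exact e ▸ pow_orderOf_eq_one (v : G))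
  -- the action on `A`
  let φ : G →* AddMonoid.End (Additive ↥A) :=
    { toFun := fun g => MonoidHom.toAdditive (MulAut.conjNormal g : MulAut ↥A).toMonoidHom
      map_one' := by
        refine AddMonoidHom.ext fun v => ?_
        show Additive.ofMul ((MulAut.conjNormal (1 : G) : MulAut ↥A) v.toMul) = v
        rw [map_one]; rfl
      map_mul' := fun g g' => by
        refine AddMonoidHom.ext fun v => ?_
        show Additive.ofMul ((MulAut.conjNormal (g * g') : MulAut ↥A) v.toMul) = _
        rw [map_mul]; rfl }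
  have hφ : ∀ (g : G) (v : Additive ↥A), ((φ g v).toMul : G) = g * (v.toMul : G) * g⁻¹ := fun g v =>
    MulAut.conjNormal_apply g v.toMul
  have happ : ∀ (a b : AddMonoid.End (Additive ↥A)) (v : Additive ↥A), (a * b) v = a (b v) := fun _ _ _ => rfl
  have hadd : ∀ (a b : AddMonoid.End (Additive ↥A)) (v : Additive ↥A), (a + b) v = a v + b v := fun _ _ _ => rfl
  -- norms of elements of order `p` vanish
  have hnorm : ∀ g : G, orderOf g = p → ∑ k ∈ Finset.range p, φ g ^ k = 0 := by
    intro g hg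
    have hgp : φ g ^ p = 1 := by rw [← map_pow, ← hg, pow_orderOf_eq_one, map_one]
    have hfix : φ g * ∑ k ∈ Finset.range p, φ g ^ k = ∑ k ∈ Finset.range p, φ g ^ k := by
      have := mul_geom_sum (φ g) p
      rw [hgp, sub_self, sub_mul, one_mul, sub_eq_zero] at this
      exact this
    refine AddMonoidHom.ext fun v => ?_
    set s := (∑ k ∈ Finset.range p, φ g ^ k) v with hs
    have hgs : φ g s = s := by rw [hs, ← happ, hfix]
    show s = 0
    by_contra hs0
    have e : g * (s.toMul : G) * g⁻¹ = (s.toMul : G) := by rw [← hφ, hgs]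
    refine hno g (s.toMul : G) hg ?_ (mul_inv_eq_iff_eq_mul.1 e)
    haveI := Fact.mk hq
    exact orderOf_eq_prime (by rw [← Subgroup.coe_pow, hAq, Subgroup.coe_one])
      (fun h => hs0 (Subtype.ext h : s.toMul = 1))
  have hp0 : (p : AddMonoid.End (Additive ↥A)) ≠ 0 := by
    intro h
    have h1 : (p : AddMonoid.End (Additive ↥A)) (Additive.ofMul w) = 0 := by rw [h]; rfl
    rw [AddMonoid.End.natCast_apply] at h1
    have h2 : w ^ p = 1 := h1
    have h3 : (w : G) ^ p = 1 := by rw [← Subgroup.coe_pow, h2]; rfl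
    have := orderOf_dvd_of_pow_eq_one h3
    rw [hw] at this
    exact hpq ((Nat.prime_dvd_prime_iff_eq hq hp).1 this).symm
  obtain ⟨P⟩ := (inferInstance : Nonempty (Sylow p G))
  have hP1 : (P : Subgroup G) ≠ ⊥ := P.ne_bot_of_dvd_card hpd
  haveI : Nontrivial ↥(P : Subgroup G) := (Subgroup.nontrivial_iff_ne_bot _).2 hP1
  have hPord : ∀ x : G, x ∈ (P : Subgroup G) → x ≠ 1 → orderOf x = p := by
    intro x hx hx1
    rcases hord x with e | e | e
    · exact absurd (orderOf_eq_one_iff.1 e) hx1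
    · exact e
    · obtain ⟨k, hk⟩ := IsPGroup.iff_orderOf.1 P.isPGroup' ⟨x, hx⟩
      rw [Subgroup.orderOf_mk, e] at hk
      exact absurd ((Nat.prime_dvd_prime_iff_eq hq hp).1 (hq.dvd_of_dvd_pow (dvd_of_eq hk))).symm hpq
  haveI := P.isPGroup'.center_nontrivial
  obtain ⟨zc, hzc⟩ := exists_ne (1 : Subgroup.center ↥(P : Subgroup G))
  set z : G := ((zc : ↥(P : Subgroup G)) : G) with hzdef
  have hz1 : z ≠ 1 := fun h => hzc (Subtype.ext (Subtype.ext h))
  have hzP : z ∈ (P : Subgroup G) := (zc : ↥(P : Subgroup G)).2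
  have hzo := hPord z hzP hz1
  -- the Sylow subgroup has order `p`
  have hPz : (P : Subgroup G) = Subgroup.zpowers z := by
    refine le_antisymm (fun x hx => ?_) (Subgroup.zpowers_le.2 hzP)
    by_contra hxz
    have hcomm : Commute z x := (congrArg Subtype.val (Subgroup.mem_center_iff.1 zc.2 ⟨x, hx⟩)).symm
    have h1 : ∑ j ∈ Finset.range p, ∑ k ∈ Finset.range p, φ (z ^ j * x) ^ k = 0 := by
      refine Finset.sum_eq_zero fun j _ => hnorm _ (hPord _ (mul_mem (pow_mem hzP j) hx) fun h => hxz ?_)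
      rw [eq_inv_of_mul_eq_one_right h]
      exact inv_mem (pow_mem (Subgroup.mem_zpowers z) j)
    rw [Finset.sum_comm, Finset.sum_eq_single 0] at h1
    · simp at h1
      exact hp0 h1
    · intro k hk hk0
      have he : ∀ j, φ (z ^ j * x) ^ k = φ (z ^ k) ^ j * φ (x ^ k) := fun j => by
        rw [← map_pow, (hcomm.pow_left j).mul_pow, map_mul, ← pow_mul, mul_comm j k, pow_mul, map_pow]
      simp only [he, ← Finset.sum_mul]
      rw [hnorm, zero_mul]
      refine hPord _ (pow_mem hzP k) fun h => ?_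
      have := orderOf_dvd_of_pow_eq_one h
      rw [hzo] at this
      have := Nat.le_of_dvd (Nat.pos_of_ne_zero hk0) this
      have := Finset.mem_range.1 hk
      omega
    · intro h; exact absurd (Finset.mem_range.2 hp.pos) h
  -- it is self-normalizing
  have hN : Subgroup.normalizer ((P : Subgroup G) : Set G) ≤ (P : Subgroup G) := by
    intro y hy
    rcases hord y with e | e | e
    · rw [orderOf_eq_one_iff.1 e]; exact one_mem _
    · have hyp : IsPGroup p (Subgroup.zpowers y) := IsPGroup.of_card (n := 1) (by rw [Nat.card_zpowers, e, pow_one])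
      have hy' : y ∈ Subgroup.zpowers y ⊓ Subgroup.normalizer ((P : Subgroup G) : Set G) :=
        ⟨Subgroup.mem_zpowers y, hy⟩
      exact ((hyp.inf_normalizer_sylow P).le hy').2
    exfalso
    -- an element of order `q` normalizing
    have hc : y * z * y⁻¹ ∈ Subgroup.zpowers z := hPz ▸ (Subgroup.mem_normalizer_iff.1 hy z).1 hzP
    obtain ⟨r, hr⟩ := Submonoid.mem_powers_iff _ _ |>.1 ((mem_powers_iff_mem_zpowers).2 hc)
    have hri : ∀ i : ℕ, y ^ i * z = z ^ (r ^ i) * y ^ i := by
      intro i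
      induction i with
      | zero => simp
      | succ i ih =>
        have hk : ∀ n : ℕ, y * z ^ n = z ^ (r * n) * y := fun n => by
          rw [pow_mul, hr, conj_pow, inv_mul_cancel_right]
        rw [pow_succ' y i, mul_assoc, ih, ← mul_assoc, hk, mul_assoc, ← pow_succ', pow_succ' r i]
    have hyq : y ^ q = 1 := e ▸ pow_orderOf_eq_one y
    -- norms of `y` vanish
    have hy0 : ∑ i ∈ Finset.range q, φ y ^ i = 0 := by
      refine AddMonoidHom.ext fun v => ?_
      have hn : ∀ n : ℕ, ((v.toMul : G) * y) ^ n =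
          (((∑ i ∈ Finset.range n, φ y ^ i) v).toMul : G) * y ^ n := by
        intro n
        induction n with
        | zero =>
          rw [Finset.sum_range_zero, pow_zero, pow_zero, mul_one]
          rfl
        | succ n ih =>
          rw [pow_succ', ih, geom_sum_succ, hadd, happ, toMul_add, Subgroup.coe_mul, hφ]
          have he : ((((1 : AddMonoid.End (Additive ↥A)) v).toMul : ↥A) : G) = (v.toMul : G) := rfl
          rw [he]
          set s := (((∑ i ∈ Finset.range n, φ y ^ i) v).toMul : G) with hs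
          have hcm : y * s * y⁻¹ * (v.toMul : G) = (v.toMul : G) * (y * s * y⁻¹) := by
            have := congrArg Subtype.val (hAc (MulAut.conjNormal y ((∑ i ∈ Finset.range n, φ y ^ i) v).toMul) v.toMul)
            simpa [MulAut.conjNormal_apply, hs] using this
          rw [hcm, pow_succ' y n]
          group
      have hvy : ((v.toMul : G) * y) ^ q = 1 := by
        rcases hord ((v.toMul : G) * y) with e' | e' | e'
        · rw [orderOf_eq_one_iff.1 e', one_pow]
        · exfalso
          have h1 := congrArg (QuotientGroup.mk' A) (e' ▸ pow_orderOf_eq_one ((v.toMul : G) * y))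
          rw [map_pow, map_mul, map_one, QuotientGroup.mk'_apply A (v.toMul : G), (QuotientGroup.eq_one_iff _).2 v.toMul.2, one_mul, ← map_pow] at h1
          have h2 : y ^ p ∈ A := (QuotientGroup.eq_one_iff _).1 h1
          obtain ⟨m, hm⟩ := exists_pow_eq_self_of_coprime (x := y) (n := p)
            (by rw [e]; exact (Nat.coprime_primes hp hq).2 hpq)
          have hyA : y ∈ A := hm ▸ pow_mem h2 m
          -- then it centralizes
          refine hno z y hzo e ?_
          have h4 : y * z * y⁻¹ * z⁻¹ ∈ A ⊓ (P : Subgroup G) := by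
            refine Subgroup.mem_inf.2 ⟨?_, mul_mem ((Subgroup.mem_normalizer_iff.1 hy z).1 hzP) (inv_mem hzP)⟩
            rw [mul_assoc, mul_assoc]
            exact mul_mem hyA (by simpa [mul_assoc] using hAn.conj_mem _ (inv_mem hyA) z)
          by_contra hnc
          have h5 : y * z * y⁻¹ * z⁻¹ ≠ 1 := fun h => hnc
            ((mul_inv_eq_iff_eq_mul.1 (mul_inv_eq_one.1 h)).symm)
          have h6 := hPord _ h4.2 h5
          have h7 : (⟨_, h4.1⟩ : ↥A) ^ q = 1 := hAq _
          have h8 := orderOf_dvd_of_pow_eq_one (congrArg Subtype.val h7)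
          rw [h6] at h8
          exact hpq ((Nat.prime_dvd_prime_iff_eq hp hq).1 h8)
        · exact e' ▸ pow_orderOf_eq_one _
      have := hn q
      rw [hvy, hyq, mul_one] at this
      exact (Subtype.ext this.symm : ((∑ i ∈ Finset.range q, φ y ^ i) v).toMul = 1)
    have h1 : ∑ k ∈ Finset.range p, φ (z ^ (k * (p - 1))) * (∑ i ∈ Finset.range q, φ y ^ i) * φ (z ^ k) = 0 := by
      simp [hy0]
    have he : ∀ k i : ℕ, φ (z ^ (k * (p - 1))) * φ y ^ i * φ (z ^ k) = φ (z ^ (p - 1 + r ^ i)) ^ k * φ (y ^ i) := by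
      intro k i
      rw [← map_pow, ← map_mul, ← map_mul, ← map_pow, ← map_mul]
      congr 1
      have hk : y ^ i * z ^ k = z ^ (r ^ i * k) * y ^ i := by
        rw [pow_mul]
        exact (SemiconjBy.pow_right (show SemiconjBy (y ^ i) z (z ^ r ^ i) from hri i) k).eq
      rw [mul_assoc, hk, ← mul_assoc, ← pow_add, ← pow_mul]
      ring_nf
    simp only [Finset.mul_sum, Finset.sum_mul, he] at h1
    rw [Finset.sum_comm, Finset.sum_eq_single 0] at h1
    · have hz0 : z ^ (p - 1 + r ^ 0) = 1 := by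
        rw [pow_zero, Nat.sub_add_cancel hp.one_le, ← hzo, pow_orderOf_eq_one]
      have hz0' : φ (z ^ (p - 1 + r ^ 0)) = 1 := by rw [hz0, map_one]
      rw [hz0'] at h1
      simp at h1
      exact hp0 h1
    · intro i hi hi0
      simp only [← Finset.sum_mul]
      rw [hnorm, zero_mul]
      refine hPord _ (pow_mem hzP _) fun h => ?_
      have hzr : z ^ (r ^ i) = z := by
        have h' : z ^ (p - 1 + r ^ i) * z = z := by rw [h, one_mul]
        rwa [← pow_succ, show p - 1 + r ^ i + 1 = p + r ^ i by have := hp.pos; omega, pow_add, ← hzo,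
          pow_orderOf_eq_one, one_mul] at h'
      have hcy := hri i
      rw [hzr] at hcy
      refine hno z (y ^ i) hzo ?_ hcy.symm
      rw [Nat.Coprime.orderOf_pow, e]
      rw [e]
      refine hq.coprime_iff_not_dvd.2 fun h => ?_
      have := Nat.le_of_dvd (Nat.pos_of_ne_zero hi0) h
      have := Finset.mem_range.1 hi
      omega
    · intro h; exact absurd (Finset.mem_range.2 hq.pos) h
  have hcard : Nat.card ↥(P : Subgroup G) = p := by rw [hPz, Nat.card_zpowers, hzo]
  refine ⟨P, ⟨hP1, ?_, fun g hg => ?_⟩, by rw [hcard]; exact hp⟩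
  · intro htop
    rw [htop, Subgroup.card_top] at hcard
    rw [hcard] at hqd
    exact hpq ((Nat.prime_dvd_prime_iff_eq hq hp).1 hqd).symm
  · by_contra hne
    refine hg (hN ?_)
    have hcard2 : Nat.card ↥(MulAut.conj g • (P : Subgroup G)) = p := by
      rw [← Nat.card_congr (Subgroup.equivSMul (MulAut.conj g) (P : Subgroup G)).toEquiv, hcard]
    have h1 : Nat.card ↥((P : Subgroup G) ⊓ MulAut.conj g • (P : Subgroup G)) = p := by
      have := Subgroup.card_dvd_of_le (inf_le_left : (P : Subgroup G) ⊓ MulAut.conj g • (P : Subgroup G) ≤ P)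
      rw [hcard] at this
      exact (hp.eq_one_or_self_of_dvd _ this).resolve_left (fun h => hne (Subgroup.card_eq_one.1 h))
    have e1 := Subgroup.eq_of_le_of_card_ge
      (inf_le_left : (P : Subgroup G) ⊓ MulAut.conj g • (P : Subgroup G) ≤ P) (by rw [hcard, h1])
    have e2 := Subgroup.eq_of_le_of_card_ge
      (inf_le_right : (P : Subgroup G) ⊓ MulAut.conj g • (P : Subgroup G) ≤ _) (by rw [hcard2, h1])
    have e3 : MulAut.conj g • (P : Subgroup G) = P := e2.symm.trans e1
    rw [Subgroup.mem_normalizer_iff]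
    intro x
    constructor
    · intro hx
      rw [← e3]
      exact ⟨x, hx, rfl⟩
    · intro hx
      rw [← e3] at hx
      obtain ⟨u, hu, hue⟩ := hx
      have : u = x := by
        have h := hue
        simp only [MulDistribMulAction.toMonoidEnd_apply, MulDistribMulAction.toMonoidHom_apply,
          MulAut.smul_def, MulAut.conj_apply] at h
        exact mul_left_cancel (mul_right_cancel h)
      exact this ▸ hu

end

/-- Let G be a finite group of odd order in which the numbers of elements of each order that occurs (the numbers #{g : o(g) = m}, m ranging over the element orders of G) take exactly three different values. Then the order of G has at most two prime divisors; and if it has exactly two, then every Sylow subgroup of G for a prime dividing its order has prime exponent, G is a Frobenius group, and some Frobenius complement of G has prime order. -/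
theorem result {G : Type*} [Group G] [Finite G] (hodd : Odd (Nat.card G)) (h : (((fun m : ℕ => Nat.card {g : G // orderOf g = m}) '' Set.range (orderOf : G → ℕ))).ncard = 3) :
    (Nat.card G).primeFactors.card ≤ 2 ∧
      ((Nat.card G).primeFactors.card = 2 →
        (∀ (p : ℕ) [Fact p.Prime] (P : Sylow p G), p ∣ Nat.card G → Monoid.exponent ↥(P : Subgroup G) = p) ∧
        ∃ C : Subgroup G, Cfsg.IsFrobeniusComplement C ∧ (Nat.card ↥C).Prime) := by
  classical
  set f := fun m : ℕ => Nat.card {g : G // orderOf g = m} with hf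
  obtain ⟨a, b, hab, hset⟩ : ∃ a b, a ≠ b ∧ (f '' Set.range (orderOf : G → ℕ)) \ {1} = {a, b} := by
    refine Set.ncard_eq_two.1 ?_
    rw [Set.ncard_diff_singleton_of_mem (show 1 ∈ f '' Set.range (orderOf : G → ℕ) from ⟨1, ⟨1, orderOf_one⟩, cnt_one⟩), h]
  have hv : ∀ m, 1 < m → cnt G m = 0 ∨ cnt G m = a ∨ cnt G m = b := by
    intro m hm
    by_cases h0 : cnt G m = 0
    · exact Or.inl h0
    obtain ⟨g, hg⟩ := exists_of_cnt h0
    have hm2 : 2 < m := by
      have hodd' := hodd.of_dvd_nat (hg ▸ orderOf_dvd_natCard g)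
      obtain ⟨k, hk⟩ := hodd'
      omega
    have hne : cnt G m ≠ 1 := fun h1 => by
      have := (even_iff_two_dvd.1 (Nat.totient_even hm2)).trans (FrobeniusCount72.totient_dvd_card_orderOf (G := G) m)
      change 2 ∣ cnt G m at this
      omega
    have h3 : cnt G m ∈ (f '' Set.range (orderOf : G → ℕ)) \ {1} := ⟨⟨m, ⟨g, hg⟩, rfl⟩, hne⟩
    rw [hset] at h3
    exact Or.inr h3
  have hmem : ∀ r, r ∈ (Nat.card G).primeFactors ↔ r.Prime ∧ r ∣ Nat.card G := fun r => by
    rw [Nat.mem_primeFactors]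
    exact ⟨fun h => ⟨h.1, h.2.1⟩, fun h => ⟨h.1, h.2, Nat.card_pos.ne'⟩⟩
  refine ⟨?_, fun h2 => ?_⟩
  · by_contra hc
    have hsub : (Nat.card G).primeFactors.image (cnt G) ⊆ {a, b} := fun x hx => by
      obtain ⟨r, hr, rfl⟩ := Finset.mem_image.1 hx
      obtain ⟨hr1, hr2⟩ := (hmem r).1 hr
      simpa using (hv r hr1.one_lt).resolve_left (cnt_prime hr1 hr2)
    have hle := Finset.card_le_card hsub
    rw [Finset.card_image_of_injOn] at hle
    · have := Finset.card_le_two (a := a) (b := b); omega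
    · intro r hr s hs hrs
      by_contra hne
      obtain ⟨hr1, hr2⟩ := (hmem r).1 hr
      obtain ⟨hs1, hs2⟩ := (hmem s).1 hs
      exact prime_ne hodd hv hr1 hs1 hne hr2 hs2 hrs
  obtain ⟨p, q, hpq, hpf⟩ := Finset.card_eq_two.1 h2
  obtain ⟨hp, hpd⟩ := (hmem p).1 (by simp [hpf])
  obtain ⟨hq, hqd⟩ := (hmem q).1 (by simp [hpf])
  have htwo : ∀ r : ℕ, r.Prime → r ∣ Nat.card G → r = p ∨ r = q := fun r hr hrd => by
    have := (hmem r).2 ⟨hr, hrd⟩
    simpa [hpf] using this
  have hord := orders hodd hv hp hq hpq hpd hqd htwo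
  refine ⟨fun r hr P hrd => ?_, ?_⟩
  · haveI : Nontrivial ↥(P : Subgroup G) := (Subgroup.nontrivial_iff_ne_bot _).2 (P.ne_bot_of_dvd_card hrd)
    refine (hr.out.eq_one_or_self_of_dvd _ (Monoid.exponent_dvd_iff_forall_pow_eq_one.2 fun x => ?_)).resolve_left
      (fun h1 => ?_)
    · obtain ⟨k, hk⟩ := IsPGroup.iff_orderOf.1 P.isPGroup' x
      rw [← orderOf_dvd_iff_pow_eq_one]
      have hx := hord (x : G)
      rw [Subgroup.orderOf_coe] at hx
      rcases hx with e | e | e
      · exact e ▸ one_dvd r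
      · rw [e] at hk ⊢
        exact dvd_of_eq ((Nat.prime_dvd_prime_iff_eq hp hr.out).1 (hp.dvd_of_dvd_pow (dvd_of_eq hk)))
      · rw [e] at hk ⊢
        exact dvd_of_eq ((Nat.prime_dvd_prime_iff_eq hq hr.out).1 (hq.dvd_of_dvd_pow (dvd_of_eq hk)))
    · exact not_subsingleton _ (Monoid.exp_eq_one_iff.1 h1)
  -- an abelian normal subgroup
  haveI := S3996.result h
  obtain ⟨n, hn⟩ := (Group.isSolvable_def G).1 this
  have hex : ∃ k, derivedSeries G k = ⊥ := ⟨n, hn⟩
  obtain ⟨k, hk⟩ : ∃ k, Nat.find hex = k + 1 := by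
    refine ⟨Nat.find hex - 1, ?_⟩
    have : Nat.find hex ≠ 0 := fun h0 => by
      have h' := Nat.find_spec hex
      rw [h0, derivedSeries_zero] at h'
      haveI : Subsingleton G := Subgroup.subsingleton_iff.1 (subsingleton_of_bot_eq_top h'.symm)
      have := Nat.le_of_dvd Nat.card_pos hpd
      have := Nat.card_eq_one_iff_unique.2 ⟨(inferInstance : Subsingleton G), inferInstance⟩
      have := hp.two_le
      omega
    omega
  have hA0 : derivedSeries G k ≠ ⊥ := Nat.find_min hex (by omega)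
  have hA1 : derivedSeries G (k + 1) = ⊥ := hk ▸ Nat.find_spec hex
  haveI : (derivedSeries G k).Normal := derivedSeries_normal G k
  have hAc : ∀ x y : ↥(derivedSeries G k), x * y = y * x := by
    intro x y
    rw [derivedSeries_succ] at hA1
    exact Subtype.ext (((Subgroup.mem_centralizer_iff.1
      (Subgroup.commutator_eq_bot_iff_le_centralizer.1 hA1 x.2)) y.1 y.2).symm)
  obtain ⟨w, hwA, hw1⟩ := Subgroup.ne_bot_iff_exists_ne_one.1 hA0 |> fun ⟨w, hw⟩ =>
    (⟨w.1, w.2, fun e => hw (Subtype.ext e)⟩ : ∃ w, w ∈ derivedSeries G k ∧ w ≠ 1)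
  rcases hord w with e | e | e
  · exact absurd (orderOf_eq_one_iff.1 e) hw1
  · exact frob hq hp hpq.symm hqd hpd (fun g => (hord g).imp_right Or.symm) _ hAc ⟨w, hwA⟩ e
  · exact frob hp hq hpq hpd hqd hord _ hAc ⟨w, hwA⟩ e

end Cfsg.Agent.S4004
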