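import Cfsg.Statements.S4005
import Mathlib

set_option autoImplicit false
open Cfsg

namespace Cfsg.Agent.S4005

open scoped IsMulCommutative

variable {G : Type*} [Group G]

theorem four_eq_one {a b t : G} (ha : a * a = 1) (hb : b * b = 1) (ht : t * t = 1) (hab : a * b = b * a)
    (hat : a * t * (a * t) * (a * t) = 1) (hbt : b * t * (b * t) * (b * t) = 1) :
    a * b * t * (a * b * t) * (a * b * t) * (a * b * t) = 1 := by
  have hai : a⁻¹ = a := inv_eq_of_mul_eq_one_left ha
  have hbi : b⁻¹ = b := inv_eq_of_mul_eq_one_left hb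
  have hti : t⁻¹ = t := inv_eq_of_mul_eq_one_left ht
  have ea : t * a * t = a * t * a := by
    calc t * a * t = a⁻¹ * (a * t * (a * t) * (a * t)) * (t⁻¹ * a⁻¹) * (t⁻¹ * a⁻¹) * (t⁻¹ * a⁻¹) * a * t * a * t := by group
      _ = _ := by rw [hat, hai, hti]; simp [mul_assoc, ← mul_assoc a a, ha, ← mul_assoc t t, ht]
  have eb : t * b * t = b * t * b := by
    calc t * b * t = b⁻¹ * (b * t * (b * t) * (b * t)) * (t⁻¹ * b⁻¹) * (t⁻¹ * b⁻¹) * (t⁻¹ * b⁻¹) * b * t * b * t := by group
      _ = _ := by rw [hbt, hbi, hti]; simp [mul_assoc, ← mul_assoc b b, hb, ← mul_assoc t t, ht]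
  have e : t * (a * b) * t = a * t * a * (b * t * b) := by
    calc t * (a * b) * t = t * a * (t * t) * b * t := by rw [ht]; group
      _ = (t * a * t) * (t * b * t) := by group
      _ = _ := by rw [ea, eb]
  have e2 : a * b * (t * (a * b) * t) = b * t * a * b * t * b := by
    calc a * b * (t * (a * b) * t) = a * b * (a * t * a * (b * t * b)) := by rw [e]
      _ = (b * a) * a * t * a * b * t * b := by rw [← hab]; group
      _ = b * (a * a) * t * a * b * t * b := by group
      _ = _ := by rw [ha]; group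
  calc a * b * t * (a * b * t) * (a * b * t) * (a * b * t)
      = (a * b * (t * (a * b) * t)) * (a * b * (t * (a * b) * t)) := by group
    _ = b * t * a * b * t * (b * b) * t * a * b * t * b := by rw [e2]; group
    _ = b * t * (a * b) * (t * t) * (a * b) * t * b := by rw [hb]; group
    _ = b * t * ((a * b) * (b * a)) * t * b := by rw [ht, ← hab]; group
    _ = b * t * (a * (b * b) * a) * t * b := by group
    _ = b * (t * t) * b := by rw [hb, mul_one, ha]; group
    _ = 1 := by rw [ht, mul_one, hb]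

variable (h123 : ∀ x : G, orderOf x = 1 ∨ orderOf x = 2 ∨ orderOf x = 3)

include h123 in
theorem cases_of (x : G) : x ^ 2 = 1 ∨ x ^ 3 = 1 := by
  rcases h123 x with h | h | h
  · left; rw [orderOf_eq_one_iff.mp h, one_pow]
  · left; rw [← h, pow_orderOf_eq_one]
  · right; rw [← h, pow_orderOf_eq_one]

include h123 in
/-- The centralizer of an involution consists of involutions. -/
theorem centralizer_sq {s u : G} (hs : s * s = 1) (hs1 : s ≠ 1) (hu : u * s = s * u) : u * u = 1 := by
  by_contra hne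
  have hu3 : u ^ 3 = 1 := (cases_of h123 u).resolve_left (by rwa [sq])
  have hs2 : s ^ 2 = 1 := by rw [sq, hs]
  rcases cases_of h123 (u * s) with h | h
  · rw [(show Commute u s from hu).mul_pow, hs2, mul_one] at h
    exact hne (by rwa [sq] at h)
  · rw [(show Commute u s from hu).mul_pow, hu3, one_mul] at h
    apply hs1
    calc s = s ^ 3 * (s ^ 2)⁻¹ := by group
      _ = 1 := by rw [h, hs2]; group

include h123 in
theorem centralizer_comm' {s u v : G} (hs : s * s = 1) (hs1 : s ≠ 1) (hu : u * s = s * u) (hv : v * s = s * v) :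
    u * v = v * u := by
  have h1 := centralizer_sq h123 hs hs1 hu
  have h2 := centralizer_sq h123 hs hs1 hv
  have h3 := centralizer_sq h123 hs hs1 (show u * v * s = s * (u * v) by rw [mul_assoc, hv, ← mul_assoc, hu, mul_assoc])
  calc u * v = (u * v)⁻¹ := (inv_eq_of_mul_eq_one_left h3).symm
    _ = v⁻¹ * u⁻¹ := mul_inv_rev u v
    _ = v * u := by rw [inv_eq_of_mul_eq_one_left h1, inv_eq_of_mul_eq_one_left h2]

include h123 in
/-- Every involution lies in the centralizer of `a` if this has at least four elements. -/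
theorem all_commute {a b : G} (ha : a * a = 1) (ha1 : a ≠ 1) (hb1 : b ≠ 1) (hab : b * a = a * b) (hne : a ≠ b)
    {t : G} (ht : t * t = 1) : t * a = a * t := by
  by_cases ht1 : t = 1
  · simp [ht1]
  have hb := centralizer_sq h123 ha ha1 hab
  by_contra hta
  have htb : t * b ≠ b * t := fun h => hta (centralizer_comm' h123 hb hb1 h hab.symm)
  have hcube : ∀ x : G, x * x = 1 → t * x ≠ x * t → x * t * (x * t) * (x * t) = 1 := by
    intro x hx hxt
    rcases cases_of h123 (x * t) with h | h
    · exfalso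
      apply hxt
      rw [sq] at h
      calc t * x = t⁻¹ * x⁻¹ := by rw [inv_eq_of_mul_eq_one_left hx, inv_eq_of_mul_eq_one_left ht]
        _ = (x * t)⁻¹ := (mul_inv_rev x t).symm
        _ = x * t := inv_eq_of_mul_eq_one_left h
    · rwa [pow_three', ] at h
  have h4 := four_eq_one ha hb ht hab.symm (hcube a ha hta) (hcube b hb htb)
  set c := a * b * t with hc
  have hc2 : c * c = 1 := by
    rcases cases_of h123 c with h | h
    · rwa [sq] at h
    · rw [pow_three'] at h
      rw [h, one_mul] at h4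
      rw [h4, one_mul]
  have hab2 : (a * b) * (a * b) = 1 := by
    rw [show a * b * (a * b) = a * (b * a) * b by group, hab, show a * (a * b) * b = (a * a) * (b * b) by group, ha, hb, one_mul]
  have hab1 : a * b ≠ 1 := fun h => hne (by
    calc a = (a * b) * b⁻¹ := by group
      _ = b := by rw [h, one_mul, inv_eq_of_mul_eq_one_left hb])
  have htab : t * (a * b) = (a * b) * t := by
    calc t * (a * b) = t⁻¹ * (a * b)⁻¹ := by rw [inv_eq_of_mul_eq_one_left hab2, inv_eq_of_mul_eq_one_left ht]
      _ = c⁻¹ := by rw [hc, mul_inv_rev (a * b) t]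
      _ = c := inv_eq_of_mul_eq_one_left hc2
  have haab : a * (a * b) = (a * b) * a := by rw [mul_assoc, hab]
  exact hta (centralizer_comm' h123 hab2 hab1 htab haab)

theorem conj_pow' (g : G) (k : ℕ) (s : G) : (fun s => g * s * g⁻¹)^[k] s = g ^ k * s * (g ^ k)⁻¹ := by
  induction k with
  | zero => simp
  | succ k ih => rw [Function.iterate_succ_apply', ih, pow_succ']; group

/-- A finite group whose set of element orders is exactly {1, 2, 3} has either a normal elementary abelian 3-subgroup of index 2 or a normal elementary abelian 2-subgroup of index 3. -/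
theorem result {G : Type*} [Group G] [Finite G] (h : Set.range (orderOf : G → ℕ) = {k : ℕ | 1 ≤ k ∧ k ≤ 3}) :
    (∃ N : Subgroup G, N.Normal ∧ Cfsg.IsElementaryAbelian 3 N ∧ N.index = 2) ∨
      (∃ N : Subgroup G, N.Normal ∧ Cfsg.IsElementaryAbelian 2 N ∧ N.index = 3) := by
  haveI : Fact (Nat.Prime 2) := ⟨Nat.prime_two⟩
  haveI : Fact (Nat.Prime 3) := ⟨Nat.prime_three⟩
  have h123 : ∀ x : G, orderOf x = 1 ∨ orderOf x = 2 ∨ orderOf x = 3 := by
    intro x
    have hx : orderOf x ∈ Set.range (orderOf : G → ℕ) := ⟨x, rfl⟩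
    rw [h] at hx
    obtain ⟨h1, h2⟩ := hx
    omega
  obtain ⟨a, ha⟩ : 2 ∈ Set.range (orderOf : G → ℕ) := by rw [h]; exact ⟨by norm_num, by norm_num⟩
  obtain ⟨c, hc⟩ : 3 ∈ Set.range (orderOf : G → ℕ) := by rw [h]; exact ⟨by norm_num, by norm_num⟩
  have ha2 : a * a = 1 := by
    have := pow_orderOf_eq_one a
    rwa [ha, sq] at this
  have ha1 : a ≠ 1 := by rintro rfl; simp at ha
  by_cases hbig : ∃ s b : G, s * s = 1 ∧ s ≠ 1 ∧ b ≠ 1 ∧ b * s = s * b ∧ s ≠ b
  · right
    obtain ⟨s, b, hs, hs1, hb1, hbs, hne⟩ := hbig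
    let S : Subgroup G := Subgroup.centralizer ({s} : Set G)
    have hS : ∀ x, x ∈ S ↔ x * x = 1 := fun x => by
      rw [Subgroup.mem_centralizer_singleton_iff]
      exact ⟨centralizer_sq h123 hs hs1, all_commute h123 hs hs1 hb1 hbs hne⟩
    haveI hSn : S.Normal := ⟨fun x hx g => by
      rw [hS] at hx ⊢
      rw [show g * x * g⁻¹ * (g * x * g⁻¹) = g * (x * x) * g⁻¹ by group, hx]; group⟩
    haveI hScomm : IsMulCommutative S := ⟨⟨fun u v => Subtype.ext (centralizer_comm' h123 hs hs1
      (Subgroup.mem_centralizer_singleton_iff.mp u.2) (Subgroup.mem_centralizer_singleton_iff.mp v.2))⟩⟩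
    refine ⟨S, hSn, ⟨hScomm, fun x hx => by rw [sq]; exact (hS x).mp hx⟩, ?_⟩
    have hexp : ∀ q : G ⧸ S, q ^ 3 = 1 := by
      intro q
      obtain ⟨x, rfl⟩ := QuotientGroup.mk_surjective q
      rcases cases_of h123 x with hx | hx
      · rw [(QuotientGroup.eq_one_iff x).mpr ((hS x).mpr (by rwa [← sq])), one_pow]
      · rw [← QuotientGroup.mk_pow, hx, QuotientGroup.mk_one]
    have hout : ∀ x : G, x ∉ S → x ^ 3 = 1 := fun x hx =>
      (cases_of h123 x).resolve_left (fun h2 => hx ((hS x).mpr (by rwa [← sq])))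
    -- the norm of every element outside `S` vanishes on `S`
    have hnorm : ∀ g : G, g ∉ S → ∀ v : S, (MulAut.conjNormal g v) * (MulAut.conjNormal (g ^ 2) v) * v = 1 := by
      intro g hg v
      apply Subtype.ext
      have h3 := hout g hg
      have hvg : (v : G) * g ∉ S := fun hvg => hg (by simpa using S.mul_mem (S.inv_mem v.2) hvg)
      have h3' := hout _ hvg
      rw [pow_three'] at h3'
      have hg3 : g * g * g = 1 := by rwa [pow_three'] at h3
      simp only [Subgroup.coe_mul, Subgroup.coe_one, MulAut.conjNormal_apply]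
      calc g * v * g⁻¹ * (g ^ 2 * v * (g ^ 2)⁻¹) * v = g * v * g * v * (g * g)⁻¹ * v := by rw [sq]; group
        _ = g * v * g * v * g * v := by
          rw [inv_eq_of_mul_eq_one_right hg3]
        _ = (v : G)⁻¹ * ((v : G) * g * ((v : G) * g) * ((v : G) * g)) * v := by group
        _ = 1 := by rw [h3']; group
    -- no two independent commuting elements
    have hcyc : ∀ x y : G, x ∉ S → y ∉ S → (x : G ⧸ S) * y = (y : G ⧸ S) * x → (y : G ⧸ S) ∈ Subgroup.zpowers (x : G ⧸ S) := by
      intro x y hx hy hxy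
      by_contra hyx
      have hnot : ∀ i : ℕ, x ^ i * y ∉ S := by
        intro i hi
        apply hyx
        refine Subgroup.mem_zpowers_iff.mpr ⟨-(i : ℤ), ?_⟩
        have := (QuotientGroup.eq_one_iff _).mpr hi
        rw [QuotientGroup.mk_mul, QuotientGroup.mk_pow] at this
        rw [zpow_neg, zpow_natCast]
        exact inv_eq_of_mul_eq_one_right this
      have hmod : ∀ u w : G, (u : G ⧸ S) = (w : G ⧸ S) → ∀ v : S, MulAut.conjNormal u v = MulAut.conjNormal w v := by
        intro u w huw v
        have hmem : w⁻¹ * u ∈ S := QuotientGroup.eq.mp huw.symm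
        apply Subtype.ext
        simp only [MulAut.conjNormal_apply]
        have hc : (w⁻¹ * u) * (v : G) = v * (w⁻¹ * u) := congrArg Subtype.val (mul_comm (⟨_, hmem⟩ : S) v)
        calc u * v * u⁻¹ = w * ((w⁻¹ * u) * v) * u⁻¹ := by group
          _ = w * (v * (w⁻¹ * u)) * u⁻¹ := by rw [hc]
          _ = _ := by group
      obtain ⟨v, hv1⟩ : ∃ v : S, v ≠ 1 :=
        ⟨⟨s, Subgroup.mem_centralizer_singleton_iff.mpr rfl⟩, fun h => hs1 (congrArg Subtype.val h)⟩
      let e : G → Additive S := fun g => Additive.ofMul (MulAut.conjNormal g v)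
      have n1 : e x + e (x ^ 2) + e 1 = 0 := by simpa [e] using congrArg Additive.ofMul (hnorm x hx v)
      have n2 : e y + e (y ^ 2) + e 1 = 0 := by simpa [e] using congrArg Additive.ofMul (hnorm y hy v)
      have hxy' : Commute (x : G ⧸ S) (y : G ⧸ S) := hxy
      have hm : ∀ u w : G, (u : G ⧸ S) = (w : G ⧸ S) → e u = e w := fun u w huw =>
        congrArg Additive.ofMul (hmod u w huw v)
      have n3 : e (x * y) + e (x ^ 2 * y ^ 2) + e 1 = 0 := by
        have h1 := congrArg Additive.ofMul (hnorm (x * y) (by simpa using hnot 1) v)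
        have h2 : e ((x * y) ^ 2) = e (x ^ 2 * y ^ 2) := hm _ _ (by
          simp only [QuotientGroup.mk_mul, QuotientGroup.mk_pow]; exact hxy'.mul_pow 2)
        rw [← h2]
        simpa [e] using h1
      have n4 : e (x ^ 2 * y) + e (x * y ^ 2) + e 1 = 0 := by
        have h1 := congrArg Additive.ofMul (hnorm (x ^ 2 * y) (hnot 2) v)
        have h2 : e ((x ^ 2 * y) ^ 2) = e (x * y ^ 2) := hm _ _ (by
          simp only [QuotientGroup.mk_mul, QuotientGroup.mk_pow]
          rw [(hxy'.pow_left 2).mul_pow, ← pow_mul, show 2 * 2 = 3 + 1 from rfl, pow_succ, hexp, one_mul])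
        rw [← h2]
        simpa [e] using h1
      have row : ∀ w : G, e (w * y) + e (w * y ^ 2) + e w = 0 := by
        intro w
        have h1 := congrArg (fun z => Additive.ofMul (MulAut.conjNormal w z)) (hnorm y hy v)
        simp only [map_mul, ← MulAut.mul_apply] at h1
        simp only [← map_mul, map_one, ofMul_mul, ofMul_one] at h1
        exact h1
      have r1 := row x
      have r2 := row (x ^ 2)
      have h4 : e 1 + e 1 + e 1 = 0 := by
        linear_combination (norm := abel) n1 + n3 + n4 - r1 - r2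
      have h5 : e 1 = Additive.ofMul v := by simp [e]
      have h6 : v * v = 1 := Subtype.ext ((hS _).mp v.2)
      apply hv1
      rw [h5, ← ofMul_mul, ← ofMul_mul, h6, one_mul] at h4
      exact Additive.ofMul.injective h4
    have hcS : c ∉ S := fun hcs => by
      have := (hS c).mp hcs
      rw [← sq, ← orderOf_dvd_iff_pow_eq_one, hc] at this
      omega
    haveI : Nontrivial (G ⧸ S) := ⟨⟨(c : G ⧸ S), 1, fun h => hcS ((QuotientGroup.eq_one_iff c).mp h)⟩⟩
    have hp : IsPGroup 3 (G ⧸ S) := fun q => ⟨1, by rw [pow_one]; exact hexp q⟩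
    haveI := hp.center_nontrivial
    obtain ⟨⟨z, hz⟩, hz1⟩ := exists_ne (1 : Subgroup.center (G ⧸ S))
    obtain ⟨x, rfl⟩ := QuotientGroup.mk_surjective z
    have hx : x ∉ S := fun hxs => hz1 (Subtype.ext ((QuotientGroup.eq_one_iff x).mpr hxs))
    have htop : Subgroup.zpowers (x : G ⧸ S) = ⊤ := by
      rw [eq_top_iff]
      intro q _
      obtain ⟨y, rfl⟩ := QuotientGroup.mk_surjective q
      by_cases hy : y ∈ S
      · rw [(QuotientGroup.eq_one_iff y).mpr hy]; exact one_mem _
      · exact hcyc x y hx hy (Subgroup.mem_center_iff.mp hz y).symm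
    rw [Subgroup.index, ← Subgroup.card_top, ← htop, Nat.card_zpowers]
    exact orderOf_eq_prime (hexp _) (fun h => hx ((QuotientGroup.eq_one_iff x).mp h))
  · left
    push Not at hbig
    let T : Sylow 2 G := default
    have hT : Nat.card T = 2 := by
      have h2 : 2 ∣ Nat.card G := ha ▸ orderOf_dvd_natCard a
      have hne : (T : Subgroup G) ≠ ⊥ := T.ne_bot_of_dvd_card h2
      haveI : Nontrivial (T : Subgroup G) := (Subgroup.nontrivial_iff_ne_bot _).mpr hne
      haveI := T.isPGroup'.center_nontrivial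
      obtain ⟨⟨⟨z, hzT⟩, hz⟩, hz1⟩ := exists_ne (1 : Subgroup.center (T : Subgroup G))
      have hz1' : z ≠ 1 := fun h => hz1 (Subtype.ext (Subtype.ext h))
      have hz2 : z * z = 1 := by
        obtain ⟨k, hk⟩ := (IsPGroup.iff_orderOf.mp T.isPGroup') ⟨z, hzT⟩
        rw [Subgroup.orderOf_mk] at hk
        rcases h123 z with e | e | e
        · rw [orderOf_eq_one_iff.mp e, one_mul]
        · rw [← sq, ← e, pow_orderOf_eq_one]
        · rw [e] at hk
          rcases k with _ | k
          · omega
          · omega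
      have hle : (T : Subgroup G) = Subgroup.zpowers z := by
        refine le_antisymm (fun u hu => ?_) (Subgroup.zpowers_le.mpr hzT)
        by_cases hu1 : u = 1
        · rw [hu1]; exact one_mem _
        · have := hbig z u hz2 hz1' hu1 (congrArg Subtype.val (Subgroup.mem_center_iff.mp hz ⟨u, hu⟩))
          rw [← this]; exact Subgroup.mem_zpowers z
      show Nat.card (T : Subgroup G) = 2
      rw [hle, Nat.card_zpowers]
      exact orderOf_eq_prime (by rw [sq, hz2]) hz1'
    have hNC : Subgroup.normalizer ((T : Subgroup G) : Set G) ≤ Subgroup.centralizer (T : Set G) := by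
      intro g hg
      rw [Subgroup.mem_centralizer_iff]
      intro u hu
      by_cases hu1 : u = 1
      · simp [hu1]
      have hv := (Subgroup.mem_normalizer_iff.mp hg u).mp hu
      have hv1 : g * u * g⁻¹ ≠ 1 := by simpa using hu1
      obtain ⟨z, -, huniv⟩ : ∃ z : (T : Subgroup G), z ≠ 1 ∧ ∀ w : (T : Subgroup G), w ≠ 1 → w = z := by
        have := (Nat.card_eq_two_iff' (1 : (T : Subgroup G))).mp hT
        obtain ⟨z, hz1, hz2⟩ := this
        exact ⟨z, hz1, fun w hw => hz2 w hw⟩
      have e1 := huniv ⟨u, hu⟩ (fun h => hu1 (congrArg Subtype.val h))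
      have e2 := huniv ⟨_, hv⟩ (fun h => hv1 (congrArg Subtype.val h))
      have e3 : g * u * g⁻¹ = u := congrArg Subtype.val (e2.trans e1.symm)
      exact (mul_inv_eq_iff_eq_mul.mp e3).symm
    set N := (MonoidHom.transferSylow T hNC).ker
    have hN := MonoidHom.ker_transferSylow_isComplement' T hNC
    have hNidx : N.index = 2 := by rw [hN.symm.index_eq_card]; exact hT
    have hNodd : ¬ 2 ∣ Nat.card N := by
      rw [← hN.index_eq_card]
      exact T.not_dvd_index
    have hN3 : ∀ n ∈ N, n ^ 3 = 1 := by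
      intro n hn
      rcases h123 n with e | e | e
      · rw [orderOf_eq_one_iff.mp e, one_pow]
      · exact absurd (e ▸ Subgroup.orderOf_dvd_natCard N hn) hNodd
      · rw [← e, pow_orderOf_eq_one]
    have hai : a⁻¹ = a := inv_eq_of_mul_eq_one_left ha2
    let f : N → N := fun n => ⟨(n : G)⁻¹ * (a * n * a⁻¹), mul_mem (inv_mem n.2) (Subgroup.Normal.conj_mem inferInstance _ n.2 a)⟩
    have hinj : Function.Injective f := by
      intro u v huv
      have h1 : (u : G)⁻¹ * (a * u * a⁻¹) = (v : G)⁻¹ * (a * v * a⁻¹) := congrArg Subtype.val huv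
      have h2 : (v : G) * (u : G)⁻¹ * a = a * ((v : G) * (u : G)⁻¹) := by
        calc (v : G) * (u : G)⁻¹ * a = (v : G) * ((u : G)⁻¹ * (a * u * a⁻¹)) * a * (u : G)⁻¹ := by group
          _ = (v : G) * ((v : G)⁻¹ * (a * v * a⁻¹)) * a * (u : G)⁻¹ := by rw [h1]
          _ = _ := by group
      by_contra hne
      have hd1 : (v : G) * (u : G)⁻¹ ≠ 1 := fun h => hne (Subtype.ext (mul_inv_eq_one.mp h).symm)
      have h3 := hbig a _ ha2 ha1 hd1 h2
      refine hNodd ?_
      have h4 : a ∈ N := h3 ▸ mul_mem v.2 (inv_mem u.2)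
      exact ha ▸ Subgroup.orderOf_dvd_natCard N h4
    have hinv : ∀ n ∈ N, a * n * a⁻¹ = n⁻¹ := by
      intro n hn
      obtain ⟨m, hm⟩ := Finite.injective_iff_surjective.mp hinj ⟨n, hn⟩
      have h1 : (m : G)⁻¹ * (a * m * a⁻¹) = n := congrArg Subtype.val hm
      rw [← h1, mul_inv_rev, inv_inv, hai]
      calc a * ((m : G)⁻¹ * (a * m * a)) * a = a * (m : G)⁻¹ * a * m * (a * a) := by group
        _ = a * (m : G)⁻¹ * a⁻¹ * m := by rw [ha2, hai]; group
        _ = (a * m * a⁻¹)⁻¹ * m := by group
        _ = _ := by rw [hai]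
    refine ⟨N, inferInstance, ⟨⟨⟨fun u v => Subtype.ext ?_⟩⟩, hN3⟩, hNidx⟩
    have h1 := hinv _ (mul_mem u.2 v.2)
    rw [mul_inv_rev, ← hinv u u.2, ← hinv v v.2] at h1
    have h2 : a * ((u : G) * v) * a⁻¹ = a * ((v : G) * u) * a⁻¹ := by rw [h1]; group
    exact mul_left_cancel (mul_right_cancel h2)

end Cfsg.Agent.S4005
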