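import Mathlib
import Cfsg.Statements.S4006
import Cfsg.Agent.Lib.FrobeniusFPF
import Cfsg.Agent.Lib.PGroupsCyclic
import Cfsg.Agent.Lib.CharInducedBurnside

set_option autoImplicit false
open Cfsg

namespace Cfsg.Agent.S4006

/-- Levi: a finite `2`-group in which every element commutes with its conjugates has class at most two. -/
theorem engel_class_two {N : Type*} [Group N] [Finite N] (h2 : IsPGroup 2 N)
    (hE : ∀ x g : N, Commute x (g * x * g⁻¹)) : ∀ x y z : N, Commute (x⁻¹ * y⁻¹ * x * y) z := by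
  let d : N → N → N := fun y a => a⁻¹ * y⁻¹ * a * y
  have hE' : ∀ x g h : N, Commute (g * x * g⁻¹) (h * x * h⁻¹) := fun x g h => by
    have := (hE x (g⁻¹ * h)).map (MulAut.conj g).toMonoidHom
    simpa [mul_assoc] using this
  have hsplit : ∀ y z a, d (y * z) a = d z a * d y a * d z (d y a) := fun y z a => by simp only [d]; group
  have hdd : ∀ y a, d y (d y a) = 1 := by
    intro y a
    have e : d y a = (a⁻¹ * y * a⁻¹⁻¹)⁻¹ * y := by simp only [d]; group
    have hc : Commute (d y a) y := by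
      rw [e]
      exact ((hE y a⁻¹).symm.inv_left).mul_left (Commute.refl y)
    show (d y a)⁻¹ * y⁻¹ * d y a * y = 1
    rw [mul_assoc _ (d y a) y, hc.eq, ← mul_assoc, inv_mul_cancel_right, inv_mul_cancel]
  have hone : ∀ y, d y 1 = 1 := fun y => by simp [d]
  intro x y₀ z₀
  set A := Subgroup.closure (Set.range fun g : N => g * x * g⁻¹) with hA
  have hAc : ∀ a ∈ A, ∀ b ∈ A, Commute a b := by
    intro a ha b hb
    have : IsMulCommutative A := by
      rw [hA]
      exact Subgroup.isMulCommutative_closure (by rintro _ ⟨g, rfl⟩ _ ⟨h, rfl⟩; exact hE' x g h)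
    exact congrArg Subtype.val (this.is_comm.comm (⟨a, ha⟩ : A) ⟨b, hb⟩)
  have hAn : ∀ y a, a ∈ A → y⁻¹ * a * y ∈ A := by
    intro y a ha
    have : A ≤ A.comap (MulAut.conj y⁻¹).toMonoidHom := by
      conv_lhs => rw [hA]
      rw [Subgroup.closure_le]
      rintro _ ⟨g, rfl⟩
      exact Subgroup.subset_closure ⟨y⁻¹ * g, by simp [mul_assoc]⟩
    simpa using this ha
  have hdA : ∀ y a, a ∈ A → d y a ∈ A := fun y a ha => by
    show a⁻¹ * y⁻¹ * a * y ∈ A
    rw [mul_assoc _ a, mul_assoc, ← mul_assoc y⁻¹]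
    exact mul_mem (inv_mem ha) (hAn y a ha)
  have hmul : ∀ y a b, a ∈ A → b ∈ A → d y (a * b) = d y a * d y b := by
    intro y a b ha hb
    have e : d y (a * b) = b⁻¹ * d y a * b * d y b := by simp only [d]; group
    rw [e, mul_assoc b⁻¹, (hAc _ (hdA y a ha) _ hb).eq, inv_mul_cancel_left]
  have hinv : ∀ y a, a ∈ A → d y a⁻¹ = (d y a)⁻¹ := fun y a ha => by
    apply eq_inv_of_mul_eq_one_left
    rw [← hmul y a⁻¹ a (inv_mem ha) ha, inv_mul_cancel, hone]
  have hlong : ∀ y z a, a ∈ A →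
      d y (d z a) * d z (d y (d z a)) * d z (d y a) * d y (d z (d y a)) * d z (d y (d z (d y a))) = 1 := by
    intro y z a ha
    have h1 := hdd (y * z) a
    rw [hsplit y z a] at h1
    have m1 := hdA z a ha
    have m2 := hdA y a ha
    have m3 := hdA z _ m2
    rw [hmul _ _ _ (mul_mem m1 m2) m3, hmul _ _ _ m1 m2, hsplit y z (d z a), hsplit y z (d y a),
      hsplit y z (d z (d y a)), hdd z a, hdd y a, hdd z (d y a), hone] at h1
    simpa [mul_assoc] using h1
  have htri : ∀ y z b, b ∈ A → d y (d z (d y b)) = 1 := by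
    intro y z b hb
    have h1 := hlong y z (d y b) (hdA y b hb)
    rw [hdd y b, hone, hone, hone] at h1
    simp only [mul_one] at h1
    have e : d y (d z (d y b)) * d z (d y (d z (d y b))) = z⁻¹ * d y (d z (d y b)) * z := by simp only [d]; group
    rw [e] at h1
    have h2 : d y (d z (d y b)) = z * (z⁻¹ * d y (d z (d y b)) * z) * z⁻¹ := by group
    rw [h1, mul_one, mul_inv_cancel] at h2
    exact h2
  have hanti : ∀ y z a, a ∈ A → d y (d z a) = (d z (d y a))⁻¹ := by
    intro y z a ha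
    have h1 := hlong y z a ha
    rw [htri z y a ha, htri y z a ha, hone, mul_one, mul_one, mul_one] at h1
    exact eq_inv_of_mul_eq_one_left h1
  have hdinv : ∀ y a, a ∈ A → d y⁻¹ a = (d y a)⁻¹ := by
    intro y a ha
    have h1 := hsplit y y⁻¹ a
    rw [mul_inv_cancel] at h1
    have e0 : d 1 a = 1 := by simp [d]
    have e1 : d y⁻¹ (d y a) = 1 := by
      have h3 := hdd y a
      have e : d y⁻¹ (d y a) = (y * d y (d y a) * y⁻¹)⁻¹ := by simp only [d]; group
      rw [e, h3, mul_one, mul_inv_cancel, inv_one]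
    rw [e0, e1, mul_one] at h1
    exact eq_inv_of_mul_eq_one_left h1.symm
  have hxA : x ∈ A := Subgroup.subset_closure ⟨1, by simp⟩
  set T := d z₀ (d y₀ x) with hT
  have hTA : T ∈ A := hdA _ _ (hdA _ _ hxA)
  have hcy : d (y₀⁻¹ * z₀⁻¹ * y₀ * z₀) x = T * T := by
    have mX : d y₀ x ∈ A := hdA _ _ hxA
    have mY : d z₀ x ∈ A := hdA _ _ hxA
    have s1 : d (y₀⁻¹ * z₀⁻¹) x = (d z₀ x)⁻¹ * (d y₀ x)⁻¹ * T := by
      rw [hsplit, hdinv _ _ hxA, hdinv _ _ hxA, hdinv _ _ (inv_mem mX), hinv _ _ mX, inv_inv]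
    have s2 : d (y₀⁻¹ * z₀⁻¹ * y₀) x = (d z₀ x)⁻¹ * T * T := by
      rw [hsplit (y₀⁻¹ * z₀⁻¹) y₀, s1, hmul _ _ _ (mul_mem (inv_mem mY) (inv_mem mX)) hTA,
        hmul _ _ _ (inv_mem mY) (inv_mem mX), hinv _ _ mY, hinv _ _ mX, hdd, inv_one, mul_one,
        hanti y₀ z₀ x hxA, inv_inv, hT, htri y₀ z₀ x hxA, mul_one, ← hT]
      have c := hAc _ mX _ (mul_mem (mul_mem (inv_mem mY) (inv_mem mX)) hTA)
      rw [c.eq, mul_assoc ((d z₀ x)⁻¹) ((d y₀ x)⁻¹) T, mul_assoc ((d z₀ x)⁻¹), mul_assoc ((d y₀ x)⁻¹),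
        (hAc _ hTA _ mX).eq, inv_mul_cancel_left]
    rw [hsplit (y₀⁻¹ * z₀⁻¹ * y₀) z₀, s2, hmul _ _ _ (mul_mem (inv_mem mY) hTA) hTA,
      hmul _ _ _ (inv_mem mY) hTA, hinv _ _ mY, hdd, inv_one, one_mul, hT, hdd, mul_one, mul_one, ← hT]
    group
  -- the same commutator from the side of the normal closure of `y₀`
  have hT3 : T * T * T = 1 := by
    have e : d (y₀⁻¹ * z₀⁻¹ * y₀ * z₀) x = (d x (d z₀ y₀))⁻¹ := by simp only [d]; group
    -- alternating in the two outer arguments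
    set B := Subgroup.closure (Set.range fun g : N => g * y₀ * g⁻¹) with hB
    have hBc : ∀ a ∈ B, ∀ b ∈ B, Commute a b := by
      intro a ha b hb
      have : IsMulCommutative B := by
        rw [hB]
        exact Subgroup.isMulCommutative_closure (by rintro _ ⟨g, rfl⟩ _ ⟨h, rfl⟩; exact hE' y₀ g h)
      exact congrArg Subtype.val (this.is_comm.comm (⟨a, ha⟩ : B) ⟨b, hb⟩)
    have hyB : y₀ ∈ B := Subgroup.subset_closure ⟨1, by simp⟩
    have hBn : ∀ g : N, g⁻¹ * y₀ * g ∈ B := fun g => Subgroup.subset_closure ⟨g⁻¹, by simp⟩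
    have hBn2 : ∀ (u : N) b, b ∈ B → u⁻¹ * b * u ∈ B := by
      intro u b hb
      have : B ≤ B.comap (MulAut.conj u⁻¹).toMonoidHom := by
        conv_lhs => rw [hB]
        rw [Subgroup.closure_le]
        rintro _ ⟨g, rfl⟩
        exact Subgroup.subset_closure ⟨u⁻¹ * g, by simp [mul_assoc]⟩
      simpa using this hb
    have hdB : ∀ u b, b ∈ B → d u b ∈ B := fun u b hb => by
      show b⁻¹ * u⁻¹ * b * u ∈ B
      rw [mul_assoc _ b, mul_assoc, ← mul_assoc u⁻¹]
      exact mul_mem (inv_mem hb) (hBn2 u b hb)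
    have hmB : ∀ u a b, a ∈ B → b ∈ B → d u (a * b) = d u a * d u b := by
      intro u a b ha hb
      have e : d u (a * b) = b⁻¹ * d u a * b * d u b := by simp only [d]; group
      rw [e, mul_assoc b⁻¹, (hBc _ (hdB u a ha) _ hb).eq, inv_mul_cancel_left]
    have hinvB : ∀ u a, a ∈ B → d u a⁻¹ = (d u a)⁻¹ := fun u a ha => by
      apply eq_inv_of_mul_eq_one_left
      rw [← hmB u a⁻¹ a (inv_mem ha) ha, inv_mul_cancel, hone]
    -- in `B`: d x (d z y) = (d z (d x y))⁻¹
    have hantiB : d x (d z₀ y₀) = (d z₀ (d x y₀))⁻¹ := by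
      have hlongB : ∀ b ∈ B, d x (d z₀ b) * d z₀ (d x (d z₀ b)) * d z₀ (d x b) * d x (d z₀ (d x b)) *
          d z₀ (d x (d z₀ (d x b))) = 1 := by
        intro a ha
        have h1 := hdd (x * z₀) a
        rw [hsplit x z₀ a] at h1
        have m1 := hdB z₀ a ha
        have m2 := hdB x a ha
        have m3 := hdB z₀ _ m2
        rw [hmB _ _ _ (mul_mem m1 m2) m3, hmB _ _ _ m1 m2, hsplit x z₀ (d z₀ a), hsplit x z₀ (d x a),
          hsplit x z₀ (d z₀ (d x a)), hdd z₀ a, hdd x a, hdd z₀ (d x a), hone] at h1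
        simpa [mul_assoc] using h1
      have htriB : d x (d z₀ (d x y₀)) = 1 := by
        have h1 := hlongB (d x y₀) (hdB x y₀ hyB)
        rw [hdd x y₀, hone, hone, hone] at h1
        simp only [mul_one] at h1
        have e : d x (d z₀ (d x y₀)) * d z₀ (d x (d z₀ (d x y₀))) = z₀⁻¹ * d x (d z₀ (d x y₀)) * z₀ := by
          simp only [d]; group
        rw [e] at h1
        have h2 : d x (d z₀ (d x y₀)) = z₀ * (z₀⁻¹ * d x (d z₀ (d x y₀)) * z₀) * z₀⁻¹ := by group
        rw [h1, mul_one, mul_inv_cancel] at h2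
        exact h2
      have htri2 : d z₀ (d x (d z₀ y₀)) = 1 := by
        -- same argument with the two outer arguments exchanged
        have h1 := hdd (z₀ * x) (d z₀ y₀)
        have m0 := hdB z₀ y₀ hyB
        rw [hsplit z₀ x (d z₀ y₀), hdd z₀ y₀, hone, mul_one, mul_one, hsplit z₀ x, hdd x (d z₀ y₀), one_mul] at h1
        have e : d z₀ (d x (d z₀ y₀)) * d x (d z₀ (d x (d z₀ y₀))) = x⁻¹ * d z₀ (d x (d z₀ y₀)) * x := by
          simp only [d]; group
        rw [e] at h1
        have h2 : d z₀ (d x (d z₀ y₀)) = x * (x⁻¹ * d z₀ (d x (d z₀ y₀)) * x) * x⁻¹ := by group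
        rw [h1, mul_one, mul_inv_cancel] at h2
        exact h2
      have h1 := hlongB y₀ hyB
      rw [htri2, htriB, hone, mul_one, mul_one, mul_one] at h1
      exact eq_inv_of_mul_eq_one_left h1
    have e2 : d x y₀ = (d y₀ x)⁻¹ := by simp only [d]; group
    rw [e, hantiB, inv_inv, e2, hinv _ _ (hdA _ _ hxA)] at hcy
    rw [← hcy, hT, inv_mul_cancel]
  have hT1 : T = 1 := by
    obtain ⟨k, hk⟩ := h2 T
    have h3 : T ^ 3 = 1 := by rw [pow_succ, sq]; exact hT3
    exact orderOf_eq_one_iff.1 (Nat.eq_one_of_dvd_coprimes (Nat.Coprime.pow_left k (by norm_num))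
      (orderOf_dvd_of_pow_eq_one hk) (orderOf_dvd_of_pow_eq_one h3))
  show x⁻¹ * y₀⁻¹ * x * y₀ * z₀ = z₀ * (x⁻¹ * y₀⁻¹ * x * y₀)
  calc x⁻¹ * y₀⁻¹ * x * y₀ * z₀ = z₀ * (x⁻¹ * y₀⁻¹ * x * y₀) * T := by simp only [hT, d]; group
    _ = _ := by rw [hT1, mul_one]

section fpf

variable {G : Type*} [Group G] {N : Subgroup G} [N.Normal] {r : G}

/-- the norm identity of a fixed-point-free element of order three -/
theorem norm_identity [Finite G] (hr : r ^ 3 = 1) (hfix : ∀ n ∈ N, Commute r n → n = 1) {x : G} (hx : x ∈ N) :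
    x * (r * x * r⁻¹) * (r * (r * x * r⁻¹) * r⁻¹) = 1 ∧ Commute x (r * x * r⁻¹) := by
  have hN : N.Normal := inferInstance
  have hr3 : r * (r * (r * 1)) = 1 := by rw [mul_one, ← mul_assoc, ← sq, ← pow_succ, hr]
  have hrep : ∀ {f : N → N}, Function.Injective f → ∀ v : N, ∃ y : N, f y = v := fun hf v =>
    (Finite.injective_iff_surjective.1 hf) v
  have hr3' : ∀ y : G, r * (r * (r * y * r⁻¹) * r⁻¹) * r⁻¹ = y := fun y => by
    have e : r * (r * (r * y * r⁻¹) * r⁻¹) * r⁻¹ = r ^ 3 * y * (r ^ 3)⁻¹ := by rw [pow_succ, sq]; group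
    rw [e, hr, one_mul, inv_one, mul_one]
  have h1 : x * (r * x * r⁻¹) * (r * (r * x * r⁻¹) * r⁻¹) = 1 := by
    let f : N → N := fun y => ⟨(y : G)⁻¹ * (r * y * r⁻¹), mul_mem (inv_mem y.2) (hN.conj_mem _ y.2 r)⟩
    obtain ⟨y, hy⟩ := hrep (f := f) (fun a b e => by
      have e' : (a : G)⁻¹ * (r * a * r⁻¹) = (b : G)⁻¹ * (r * b * r⁻¹) := congrArg Subtype.val e
      have : (b : G) * (a : G)⁻¹ = 1 := hfix _ (mul_mem b.2 (inv_mem a.2)) (by
        show r * ((b : G) * (a : G)⁻¹) = (b : G) * (a : G)⁻¹ * r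
        calc r * ((b : G) * (a : G)⁻¹) = (b : G) * ((b : G)⁻¹ * (r * b * r⁻¹)) * r * (a : G)⁻¹ := by group
          _ = (b : G) * ((a : G)⁻¹ * (r * a * r⁻¹)) * r * (a : G)⁻¹ := by rw [e']
          _ = _ := by group)
      exact Subtype.ext (mul_inv_eq_one.1 this).symm) ⟨x, hx⟩
    have e : (y : G)⁻¹ * (r * y * r⁻¹) = x := congrArg Subtype.val hy
    rw [← e]
    calc _ = (y : G)⁻¹ * (r * (r * (r * y * r⁻¹) * r⁻¹) * r⁻¹) := by group
      _ = 1 := by rw [hr3', inv_mul_cancel]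
  have h2 : (r * (r * x * r⁻¹) * r⁻¹) * (r * x * r⁻¹) * x = 1 := by
    let f : N → N := fun y => ⟨(r * y * r⁻¹) * (y : G)⁻¹, mul_mem (hN.conj_mem _ y.2 r) (inv_mem y.2)⟩
    obtain ⟨y, hy⟩ := hrep (f := f) (fun a b e => by
      have e' : (r * a * r⁻¹) * (a : G)⁻¹ = (r * b * r⁻¹) * (b : G)⁻¹ := congrArg Subtype.val e
      have : (b : G)⁻¹ * (a : G) = 1 := hfix _ (mul_mem (inv_mem b.2) a.2) (by
        show r * ((b : G)⁻¹ * (a : G)) = (b : G)⁻¹ * (a : G) * r
        calc r * ((b : G)⁻¹ * (a : G)) = r * (b : G)⁻¹ * r⁻¹ * ((r * a * r⁻¹) * (a : G)⁻¹) * a * r := by group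
          _ = r * (b : G)⁻¹ * r⁻¹ * ((r * b * r⁻¹) * (b : G)⁻¹) * a * r := by rw [e']
          _ = _ := by group)
      exact Subtype.ext (inv_mul_eq_one.1 this).symm) ⟨x, hx⟩
    have e : (r * y * r⁻¹) * (y : G)⁻¹ = x := congrArg Subtype.val hy
    rw [← e]
    calc _ = (r * (r * (r * y * r⁻¹) * r⁻¹) * r⁻¹) * (y : G)⁻¹ := by group
      _ = 1 := by rw [hr3', mul_inv_cancel]
  refine ⟨h1, ?_⟩
  set a := r * x * r⁻¹
  set b := r * a * r⁻¹
  have e1 : b = (x * a)⁻¹ := eq_inv_of_mul_eq_one_right h1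
  rw [mul_assoc] at h2
  have e2 : b = (a * x)⁻¹ := eq_inv_of_mul_eq_one_left h2
  show x * a = a * x
  exact inv_injective (e1.symm.trans e2)

end fpf

/-- the 2-normal case with quotient `S₃`: the kernel is elementary abelian -/
theorem elementary_of_s3 {G : Type*} [Group G] [Finite G] (N : Subgroup G) [N.Normal] (r t : G)
    (hr : r ^ 3 = 1) (ht : t * t = 1) (htr : t * r * t = r⁻¹) (hfix : ∀ n ∈ N, Commute r n → n = 1)
    (h4 : ∀ n ∈ N, n ^ 4 = 1) (hsq : ∀ n ∈ N, ((t * n) * (t * n)) * ((t * n) * (t * n)) = 1)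
    (hcl : ∀ a ∈ N, ∀ b ∈ N, ∀ c ∈ N, Commute (a⁻¹ * b⁻¹ * a * b) c) :
    (∀ a ∈ N, ∀ b ∈ N, Commute a b) ∧ ∀ a ∈ N, a ^ 2 = 1 := by
  have hN : N.Normal := inferInstance
  have hti : t⁻¹ = t := inv_eq_of_mul_eq_one_right ht
  have hri : r⁻¹ = r * r := inv_eq_of_mul_eq_one_right (by rw [← mul_assoc, ← sq, ← pow_succ, hr])
  let σ : G → G := fun x => r * x * r⁻¹
  let τ : G → G := fun x => r⁻¹ * x * r
  let mm : G → G := fun n => t * n * t * n
  have hσ : ∀ {x}, x ∈ N → σ x ∈ N := fun h => hN.conj_mem _ h r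
  have hτ : ∀ {x}, x ∈ N → τ x ∈ N := fun {x} h => by
    have := hN.conj_mem _ h r⁻¹; simpa [τ] using this
  have hmm : ∀ {n}, n ∈ N → mm n ∈ N := fun {n} h => by
    have := mul_mem (hN.conj_mem _ h t) h
    rwa [hti] at this
  have hnorm : ∀ {x}, x ∈ N → x * σ x * σ (σ x) = 1 := fun h => (norm_identity hr hfix h).1
  have hστ : ∀ x, σ (σ x) = τ x := fun x => by
    show r * (r * x * r⁻¹) * r⁻¹ = r⁻¹ * x * r
    rw [hri]
    calc r * (r * x * (r * r)) * (r * r) = (r * r) * x * r * (r * (r * r)) := by group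
      _ = r * r * x * r := by rw [← hri, mul_inv_cancel, mul_one]
  have hcen : ∀ {a b c}, a ∈ N → b ∈ N → c ∈ N → (a⁻¹ * b⁻¹ * a * b) * c = c * (a⁻¹ * b⁻¹ * a * b) :=
    fun ha hb hc => (hcl _ ha _ hb _ hc).eq
  -- commutator map
  let cm : G → G → G := fun a b => a⁻¹ * b⁻¹ * a * b
  have hcmN : ∀ {a b}, a ∈ N → b ∈ N → cm a b ∈ N := fun ha hb =>
    mul_mem (mul_mem (mul_mem (inv_mem ha) (inv_mem hb)) ha) hb
  have hcl2 : ∀ {a b c}, a ∈ N → b ∈ N → c ∈ N → cm (a * b) c = cm a c * cm b c := by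
    intro a b c ha hb hc
    calc cm (a * b) c = b⁻¹ * cm a c * b * cm b c := by simp only [cm]; group
      _ = cm a c * cm b c := by rw [mul_assoc b⁻¹, hcen ha hc hb, inv_mul_cancel_left]
  have hcr : ∀ {a b c}, a ∈ N → b ∈ N → c ∈ N → cm a (b * c) = cm a b * cm a c := by
    intro a b c ha hb hc
    calc cm a (b * c) = cm a c * (c⁻¹ * cm a b * c) := by simp only [cm]; group
      _ = cm a c * cm a b := by rw [mul_assoc c⁻¹, hcen ha hb hc, inv_mul_cancel_left]
      _ = cm a b * cm a c := (hcen ha hc (hcmN ha hb))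
  have hcm1 : ∀ {a b}, cm a b = 1 → Commute a b := fun {a b} h => by
    show a * b = b * a
    calc a * b = b * a * cm a b := by simp only [cm]; group
      _ = b * a := by rw [h, mul_one]
  have hcm0 : ∀ {a b}, Commute a b → cm a b = 1 := fun {a b} h => by
    show a⁻¹ * b⁻¹ * a * b = 1
    rw [mul_assoc _ a b, h.eq]; group
  -- the decomposition modulo a normal subgroup containing the commutators
  have hdec : ∀ (W : Subgroup G), (∀ a ∈ N, ∀ b ∈ N, cm a b ∈ W) → W.Normal → ∀ n ∈ N,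
      ∃ A ∈ N, ∃ w ∈ W, n = (mm (σ n) * τ (mm n))⁻¹ * (A * A) * w ∧
        n * n = ((mm (σ n) * τ (mm n))⁻¹ * (mm (σ n) * τ (mm n))⁻¹) * ((A * A) * (A * A)) *
          ((n * n)⁻¹ * (((mm (σ n) * τ (mm n))⁻¹ * (mm (σ n) * τ (mm n))⁻¹) * ((A * A) * (A * A))))⁻¹ ∧
        (n * n)⁻¹ * (((mm (σ n) * τ (mm n))⁻¹ * (mm (σ n) * τ (mm n))⁻¹) * ((A * A) * (A * A))) ∈ W := by
    intro W hW hWn n hn
    haveI := hWn
    let π := QuotientGroup.mk' W
    have hc : ∀ a ∈ N, ∀ b ∈ N, π a * π b = π b * π a := by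
      intro a ha b hb
      have h1 : π (cm a b) = 1 := (QuotientGroup.eq_one_iff _).2 (hW a ha b hb)
      calc π a * π b = π (b * a * cm a b) := by rw [← map_mul]; congr 1; simp only [cm]; group
        _ = π b * π a := by rw [map_mul, h1, mul_one, map_mul]
    have htnt : t * σ n * t = τ (t * n * t) := by
      show t * (r * n * r⁻¹) * t = r⁻¹ * (t * n * t) * r
      have e : t * r⁻¹ * t = r := by
        calc t * r⁻¹ * t = t * (t * r * t) * t := by rw [htr]
          _ = (t * t) * r * (t * t) := by group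
          _ = r := by rw [ht, one_mul, mul_one]
      calc t * (r * n * r⁻¹) * t = (t * r * t) * (t * n * t) * (t * r⁻¹ * t) := by
            calc _ = t * r * (t * t) * n * (t * t) * r⁻¹ * t := by rw [ht]; group
              _ = _ := by group
        _ = _ := by rw [htr, e]
    have hA : t * n * t ∈ N := by have := hN.conj_mem _ hn t; rwa [hti] at this
    refine ⟨τ (t * n * t), hτ hA, ?_⟩
    set A := τ (t * n * t) with hAdef
    have hAN : A ∈ N := hτ hA
    have e1 : mm (σ n) = A * σ n := by show t * σ n * t * σ n = A * σ n; rw [htnt]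
    have e2 : τ (mm n) = A * τ n := by simp only [hAdef, mm, τ]; group
    set q := (mm (σ n) * τ (mm n))⁻¹ * (A * A) with hq
    have hπ : π n = π q := by
      have hn1 : σ n * τ n = n⁻¹ := by
        rw [← hστ]
        exact eq_inv_of_mul_eq_one_right (by rw [← mul_assoc]; exact hnorm hn)
      have h1 : π (mm (σ n) * τ (mm n)) = π (A * A) * π n⁻¹ := by
        rw [← hn1, e1, e2]
        simp only [map_mul]
        have := hc A hAN (σ n) (hσ hn)
        calc π A * π (σ n) * (π A * π (τ n)) = π A * (π (σ n) * π A) * π (τ n) := by group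
          _ = π A * (π A * π (σ n)) * π (τ n) := by rw [← this]
          _ = _ := by group
      rw [hq, map_mul, map_inv, h1, map_inv, mul_inv_rev, inv_inv, mul_assoc, inv_mul_cancel, mul_one]
    refine ⟨q⁻¹ * n, by rw [← QuotientGroup.eq_one_iff]; exact (map_mul π q⁻¹ n).trans (by rw [map_inv, hπ, inv_mul_cancel]),
      by rw [mul_inv_cancel_left], (fun x y => by rw [mul_inv_rev, inv_inv, mul_inv_cancel_left] : ∀ x y : G, x = y * (x⁻¹ * y)⁻¹) _ _, ?_⟩
    rw [← QuotientGroup.eq_one_iff]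
    show π _ = 1
    have hvN : (mm (σ n) * τ (mm n))⁻¹ ∈ N := inv_mem (mul_mem (hmm (hσ hn)) (hτ (hmm hn)))
    set v := (mm (σ n) * τ (mm n))⁻¹
    have hcv : π v * π (A * A) = π (A * A) * π v := hc v hvN _ (mul_mem hAN hAN)
    rw [map_mul, map_inv, inv_mul_eq_one, map_mul π n n, hπ, hq, map_mul π v (A * A),
      map_mul π (v * v) ((A * A) * (A * A)), map_mul π v v, map_mul π (A * A) (A * A)]
    calc π v * π (A * A) * (π v * π (A * A)) = π v * (π (A * A) * π v) * π (A * A) := by group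
      _ = π v * (π v * π (A * A)) * π (A * A) := by rw [hcv]
      _ = _ := by group
  have hmsq : ∀ {n}, n ∈ N → mm n * mm n = 1 := fun {n} hn => by
    have := hsq n hn
    calc mm n * mm n = (t * n) * (t * n) * ((t * n) * (t * n)) := by simp only [mm]; group
      _ = 1 := this
  have hτsq : ∀ {n}, n ∈ N → τ (mm n) * τ (mm n) = 1 := fun {n} hn => by
    calc τ (mm n) * τ (mm n) = τ (mm n * mm n) := by simp only [τ]; group
      _ = 1 := by rw [hmsq hn]; simp [τ]
  have hA4 : ∀ {A}, A ∈ N → (A * A) * (A * A) = 1 := fun {A} hA => by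
    rw [← h4 A hA, pow_succ, pow_succ, sq]; group
  -- squares are central
  let W : Subgroup G := N ⊓ Subgroup.centralizer (N : Set G)
  have hWn : W.Normal := by
    constructor
    intro w hw g
    refine ⟨hN.conj_mem _ hw.1 g, Subgroup.mem_centralizer_iff.2 fun y hy => ?_⟩
    have h1 := Subgroup.mem_centralizer_iff.1 hw.2 (g⁻¹ * y * g) (by simpa using hN.conj_mem _ hy g⁻¹)
    calc y * (g * w * g⁻¹) = g * ((g⁻¹ * y * g) * w) * g⁻¹ := by group
      _ = g * (w * (g⁻¹ * y * g)) * g⁻¹ := by rw [h1]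
      _ = _ := by group
  have hWcm : ∀ a ∈ N, ∀ b ∈ N, cm a b ∈ W := fun a ha b hb =>
    ⟨hcmN ha hb, Subgroup.mem_centralizer_iff.2 fun y hy => (hcen ha hb hy).symm⟩
  have hvv : ∀ {n}, n ∈ N → (mm (σ n) * τ (mm n))⁻¹ * (mm (σ n) * τ (mm n))⁻¹ ∈ W := by
    intro n hn
    have : (mm (σ n) * τ (mm n))⁻¹ * (mm (σ n) * τ (mm n))⁻¹ = cm (τ (mm n)) (mm (σ n)) := by
      have i1 : (mm (σ n))⁻¹ = mm (σ n) := inv_eq_of_mul_eq_one_right (hmsq (hσ hn))
      have i2 : (τ (mm n))⁻¹ = τ (mm n) := inv_eq_of_mul_eq_one_right (hτsq hn)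
      simp only [cm, mul_inv_rev, i1, i2, mul_assoc]
    rw [this]; exact hWcm _ (hτ (hmm hn)) _ (hmm (hσ hn))
  have hsqW : ∀ n ∈ N, n * n ∈ W := by
    intro n hn
    obtain ⟨A, hA, w, -, -, h2, h3⟩ := hdec W hWcm hWn n hn
    rw [h2, hA4 hA, mul_one]
    refine mul_mem (hvv hn) (inv_mem ?_)
    rwa [hA4 hA, mul_one] at h3
  -- commutators have order at most two
  have hcm2 : ∀ {a b}, a ∈ N → b ∈ N → cm a b * cm a b = 1 := by
    intro a b ha hb
    rw [← hcl2 ha ha hb]
    exact hcm0 (Subgroup.mem_centralizer_iff.1 (hsqW a ha).2 b hb).symm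
  have hmm_comm : ∀ {a b}, a ∈ N → b ∈ N → cm (mm a) (mm b) = 1 := by
    intro a b ha hb
    have hta : t * a * t ∈ N := by have := hN.conj_mem _ ha t; rwa [hti] at this
    have htb : t * b * t ∈ N := by have := hN.conj_mem _ hb t; rwa [hti] at this
    have e : mm (a * b) = mm a * mm b * (cm (mm b) b * (b⁻¹ * cm (t * b * t) a * b)) ∨ True := Or.inr trivial
    clear e
    set c := cm (t * b * t) a with hcdef
    have hcN : c ∈ N := hcmN htb ha
    have e2 : mm (a * b) = mm a * mm b * c := by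
      have e1 : mm (a * b) = (t * a * t) * ((t * b * t) * a) * b := by
        show t * (a * b) * t * (a * b) = _
        calc t * (a * b) * t * (a * b) = t * a * (t * t) * b * t * a * b := by rw [ht]; group
          _ = _ := by group
      have e3 : (t * b * t) * a = a * (t * b * t) * c := by simp only [hcdef, cm]; group
      rw [e1, e3]
      calc (t * a * t) * (a * (t * b * t) * c) * b = (t * a * t) * a * (t * b * t) * (c * b) := by group
        _ = (t * a * t) * a * (t * b * t) * (b * c) := by rw [hcen htb ha hb]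
        _ = _ := by simp only [mm]; group
    have h1 := hmsq (mul_mem ha hb)
    rw [e2] at h1
    have h2 : mm a * mm b * (mm a * mm b) * (c * c) = 1 := by
      have hc := hcen htb ha (mul_mem (hmm ha) (hmm hb))
      calc _ = mm a * mm b * ((mm a * mm b) * c) * c := by group
        _ = mm a * mm b * (c * (mm a * mm b)) * c := by rw [← hc]
        _ = 1 := by rw [← h1]; group
    rw [hcm2 htb ha, mul_one] at h2
    have i1 : (mm a)⁻¹ = mm a := inv_eq_of_mul_eq_one_right (hmsq ha)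
    have i2 : (mm b)⁻¹ = mm b := inv_eq_of_mul_eq_one_right (hmsq hb)
    rw [← h2]; simp only [cm, i1, i2, mul_assoc]
  have hcσ : ∀ a b, cm (σ a) (σ b) = σ (cm a b) := fun a b => by simp only [cm, σ]; group
  have hb1 : ∀ {a b}, a ∈ N → b ∈ N → cm (mm a) (σ (mm b)) = 1 := by
    intro a b ha hb
    set p := mm a
    set q := mm b
    have hp : p ∈ N := hmm ha
    have hq : q ∈ N := hmm hb
    have hpq : cm p q = 1 := hmm_comm ha hb
    have hone : σ 1 = 1 := by simp [σ]
    have hσσ : ∀ {x}, x ∈ N → σ (σ x) = (x * σ x)⁻¹ := fun hx => eq_inv_of_mul_eq_one_right (hnorm hx)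
    have h1 : cm (p * σ p) (q * σ q) = 1 := by
      refine hcm0 ?_
      have hc : Commute (σ (σ p)) (σ (σ q)) := hcm1 (by rw [hcσ, hcσ, hpq, hone, hone])
      rw [hσσ hp, hσσ hq] at hc
      rwa [Commute.inv_left_iff, Commute.inv_right_iff] at hc
    rw [hcl2 hp (hσ hp) (mul_mem hq (hσ hq)), hcr hp hq (hσ hq), hcr (hσ hp) hq (hσ hq), hcσ, hpq, hone,
      one_mul, mul_one] at h1
    have h2 : cm (σ p) q = cm p (σ q) :=
      (eq_inv_of_mul_eq_one_right h1).trans (inv_eq_of_mul_eq_one_right (hcm2 hp (hσ hq)))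
    have h3 : σ (cm p (σ q)) = cm p (σ q) := by
      rw [← hcσ, hσσ hq]
      have : cm (σ p) (q * σ q)⁻¹ * cm (σ p) (q * σ q) = 1 := by
        rw [← hcr (hσ hp) (inv_mem (mul_mem hq (hσ hq))) (mul_mem hq (hσ hq)), inv_mul_cancel]
        exact hcm0 (Commute.one_right _)
      rw [eq_inv_of_mul_eq_one_left this, hcr (hσ hp) hq (hσ hq), hcσ, hpq, hone, mul_one, h2]
      exact (eq_inv_of_mul_eq_one_left (hcm2 hp (hσ hq))).symm
    refine hfix _ (hcmN hp (hσ hq)) ?_
    exact (mul_inv_eq_iff_eq_mul.1 h3)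
  -- N is abelian
  have hvu : ∀ {a b}, a ∈ N → b ∈ N → cm (mm a) (τ (mm b)) = 1 := by
    intro a b ha hb
    have e : σ (τ (mm b)) = mm b := by simp only [σ, τ]; group
    have h := hb1 hb ha
    have h' : cm (σ (mm a)) (σ (τ (mm b))) = 1 := by
      rw [e]; exact hcm0 (hcm1 h).symm
    rw [hcσ] at h'
    have : cm (mm a) (τ (mm b)) = r⁻¹ * σ (cm (mm a) (τ (mm b))) * r := by simp only [σ]; group
    rw [this, h', mul_one, inv_mul_cancel]
  have hab : ∀ a ∈ N, ∀ b ∈ N, Commute a b := by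
    intro a ha b hb
    apply hcm1
    obtain ⟨A, hA, w, hw, ea, -, -⟩ := hdec W hWcm hWn a ha
    obtain ⟨B, hB, w', hw', eb, -, -⟩ := hdec W hWcm hWn b hb
    have hz : ∀ {z y}, z ∈ W → y ∈ N → cm z y = 1 := fun hz hy =>
      hcm0 (Subgroup.mem_centralizer_iff.1 hz.2 _ hy).symm
    have hz' : ∀ {z y}, z ∈ W → y ∈ N → cm y z = 1 := fun hz hy =>
      hcm0 (Subgroup.mem_centralizer_iff.1 hz.2 _ hy)
    have m1 := hmm (hσ ha)
    have m2 := hτ (hmm ha)
    have n1 := hmm (hσ hb)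
    have n2 := hτ (hmm hb)
    have hAW := hsqW A hA
    have hBW := hsqW B hB
    have hv : Commute (mm (σ a) * τ (mm a)) (mm (σ b) * τ (mm b)) := by
      refine Commute.mul_left (Commute.mul_right (hcm1 (hmm_comm (hσ ha) (hσ hb))) (hcm1 (hvu (hσ ha) hb)))
        (Commute.mul_right (hcm1 (hvu (hσ hb) ha)).symm ?_)
      have : cm (τ (mm a)) (τ (mm b)) = τ (cm (mm a) (mm b)) := by simp only [cm, τ]; group
      exact hcm1 (by rw [this, hmm_comm ha hb]; simp [τ])
    rw [ea, eb]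
    have i1 := inv_mem (mul_mem m1 m2)
    have i2 := inv_mem (mul_mem n1 n2)
    rw [hcl2 (mul_mem i1 hAW.1) hw.1 (mul_mem (mul_mem i2 hBW.1) hw'.1), hz hw (mul_mem (mul_mem i2 hBW.1) hw'.1),
      hcl2 i1 hAW.1 (mul_mem (mul_mem i2 hBW.1) hw'.1), hz hAW (mul_mem (mul_mem i2 hBW.1) hw'.1),
      hcr i1 (mul_mem i2 hBW.1) hw'.1, hz' hw' i1, hcr i1 i2 hBW.1, hz' hBW i1, hcm0 hv.inv_inv]
    simp
  refine ⟨hab, fun n hn => ?_⟩
  obtain ⟨A, hA, w, -, -, h2, h3⟩ := hdec ⊥ (fun a ha b hb => Subgroup.mem_bot.2 (hcm0 (hab a ha b hb))) inferInstance n hn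
  rw [Subgroup.mem_bot] at h3
  rw [h3, inv_one, mul_one, hA4 hA, mul_one] at h2
  have hv1 : (mm (σ n) * τ (mm n))⁻¹ * (mm (σ n) * τ (mm n))⁻¹ = 1 := by
    have hc := hab _ (hmm (hσ hn)) _ (hτ (hmm hn))
    rw [← mul_inv_rev, inv_eq_one]
    calc _ = mm (σ n) * (τ (mm n) * mm (σ n)) * τ (mm n) := by group
      _ = mm (σ n) * (mm (σ n) * τ (mm n)) * τ (mm n) := by rw [← hc.eq]
      _ = (mm (σ n) * mm (σ n)) * (τ (mm n) * τ (mm n)) := by group
      _ = 1 := by rw [hmsq (hσ hn), hτsq hn, one_mul]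
  rw [sq, h2, hv1]

theorem nine_dvd {X : Type*} [Group X] [Finite X] (D : Subgroup X) [D.Normal] (hD : Nat.card D = 3) (q : X)
    (hq : orderOf q = 3) (hnot : q ∉ D) : 3 ^ 2 ∣ Nat.card X := by
  haveI : Fact (Nat.Prime 3) := ⟨Nat.prime_three⟩
  have h : orderOf (QuotientGroup.mk' D q) = 3 := orderOf_eq_prime
    (by rw [← map_pow, ← hq, pow_orderOf_eq_one, map_one]) (fun e => hnot ((QuotientGroup.eq_one_iff q).1 e))
  have h3 : 3 ∣ D.index := by rw [Subgroup.index_eq_card, ← h]; exact orderOf_dvd_natCard _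
  rw [← D.card_mul_index, hD, sq]
  exact mul_dvd_mul_left 3 h3

/-- a largest normal `p`-subgroup -/
theorem exists_max_normal {G : Type*} [Group G] [Finite G] (p : ℕ) [Fact p.Prime] :
    ∃ N : Subgroup G, N.Normal ∧ IsPGroup p N ∧ ∀ M : Subgroup G, M.Normal → IsPGroup p M → M ≤ N := by
  obtain ⟨N, ⟨hNn, hNp⟩, hmax⟩ := Set.Finite.exists_maximalFor (fun M : Subgroup G => Nat.card M)
    {M : Subgroup G | M.Normal ∧ IsPGroup p M} (Set.toFinite _) ⟨⊥, inferInstance, IsPGroup.of_bot⟩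
  refine ⟨N, hNn, hNp, fun M hMn hMp => ?_⟩
  haveI := hNn
  haveI := hMn
  have h := hmax (j := M ⊔ N) ⟨inferInstance, hMp.to_sup_of_normal_right hNp⟩ (Subgroup.card_le_of_le le_sup_right)
  exact le_sup_left.trans (Subgroup.eq_of_le_of_card_ge le_sup_right h).ge

set_option maxHeartbeats 2000000 in
/-- A finite group whose set of element orders is exactly {1, 2, 3, 4} has a normal subgroup N such that either N is a 2-group of exponent 4 and nilpotency class at most 2 with G/N of order 3, or N is an elementary abelian 2-group with G/N isomorphic to the symmetric group of degree 3, or N is an elementary abelian 3-group with G/N cyclic of order 4 or quaternion of order 8. -/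
theorem result {G : Type*} [Group G] [Finite G] (h : Set.range (orderOf : G → ℕ) = {k : ℕ | 1 ≤ k ∧ k ≤ 4}) :
    ∃ (N : Subgroup G) (_ : N.Normal),
      (IsPGroup 2 ↥N ∧ Monoid.exponent ↥N = 4 ∧ Group.nilpotencyClass ↥N ≤ 2 ∧ N.index = 3) ∨
      (Cfsg.IsElementaryAbelian 2 N ∧ Nonempty (G ⧸ N ≃* Equiv.Perm (Fin 3))) ∨
      (Cfsg.IsElementaryAbelian 3 N ∧ ((IsCyclic (G ⧸ N) ∧ N.index = 4) ∨ Nonempty (G ⧸ N ≃* QuaternionGroup 2))) := by
  classical
  haveI : Fact (Nat.Prime 2) := ⟨Nat.prime_two⟩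
  haveI : Fact (Nat.Prime 3) := ⟨Nat.prime_three⟩
  have hle : ∀ g : G, orderOf g ≤ 4 := fun g => by
    have : orderOf g ∈ Set.range (orderOf : G → ℕ) := ⟨g, rfl⟩
    rw [h] at this; exact this.2
  obtain ⟨r, hr⟩ : ∃ g : G, orderOf g = 3 := by
    have : (3 : ℕ) ∈ Set.range (orderOf : G → ℕ) := by rw [h]; exact ⟨by norm_num, by norm_num⟩
    exact this
  obtain ⟨g4, hg4⟩ : ∃ g : G, orderOf g = 4 := by
    have : (4 : ℕ) ∈ Set.range (orderOf : G → ℕ) := by rw [h]; exact ⟨by norm_num, le_rfl⟩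
    exact this
  have hr3 : r ^ 3 = 1 := hr ▸ pow_orderOf_eq_one r
  have h6 : ∀ a b : G, orderOf a = 2 → orderOf b = 3 → ¬ Commute a b := fun a b ha hb hc => by
    have := hle (a * b)
    rw [hc.orderOf_mul_eq_mul_orderOf_of_coprime (by rw [ha, hb]; norm_num), ha, hb] at this
    omega
  have hord : ∀ g : G, g = 1 ∨ orderOf g = 2 ∨ orderOf g = 3 ∨ orderOf g = 4 := fun g => by
    have := hle g
    have := orderOf_pos g
    rcases (by omega : orderOf g = 1 ∨ orderOf g = 2 ∨ orderOf g = 3 ∨ orderOf g = 4) with e | e | e | e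
    · exact Or.inl (orderOf_eq_one_iff.1 e)
    · tauto
    · tauto
    · tauto
  have hsq4 : ∀ g : G, orderOf g = 4 → orderOf (g ^ 2) = 2 := fun g e => by
    rw [orderOf_pow, e]; rfl
  have hcases : ∀ g : G, g ≠ 1 → orderOf g = 3 ∨ ∃ k : ℕ, orderOf (g ^ k) = 2 := fun g hg => by
    rcases hord g with e | e | e | e
    · exact absurd e hg
    · exact Or.inr ⟨1, by rw [pow_one]; exact e⟩
    · exact Or.inl e
    · exact Or.inr ⟨2, hsq4 g e⟩
  have h23 : ∀ a b : G, Commute a b → a ≠ 1 → orderOf a ≠ 3 → orderOf b ≠ 3 := by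
    intro a b hc ha ha3 hb
    obtain ⟨k, hk⟩ := (hcases a ha).resolve_left ha3
    exact h6 _ _ hk hb (hc.pow_left k)
  have hsolv : Group.IsSolvable G := by
    obtain ⟨a, m, hm, hcard⟩ := Nat.exists_eq_two_pow_mul_odd (Nat.card_pos (α := G)).ne'
    have hm3 : m = 3 ^ m.factorization 3 := by
      refine Nat.eq_pow_of_factorization_eq_single (by rintro rfl; simp at hm) ?_
      ext p
      by_cases hp : p = 3
      · simp [hp]
      rw [Finsupp.single_eq_of_ne hp]
      by_contra hne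
      have hp' : p.Prime := by
        by_contra hnp; exact hne (Nat.factorization_eq_zero_of_not_prime _ hnp)
      haveI := Fact.mk hp'
      have hpd : p ∣ m := by
        by_contra hnd; exact hne (Nat.factorization_eq_zero_of_not_dvd hnd)
      obtain ⟨g, hg⟩ := exists_prime_orderOf_dvd_card' p (show p ∣ Nat.card G by rw [hcard]; exact hpd.mul_left _)
      have := hle g
      rw [hg] at this
      have := hp'.two_le
      interval_cases p
      · exact absurd hpd (Nat.two_dvd_ne_zero.2 (Nat.odd_iff.1 hm))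
      · exact hp rfl
      · exact absurd hp' (by norm_num)
    exact Cfsg.Agent.CharInduced.solvable_of_card_two_primes 2 3 a (m.factorization 3) Nat.prime_two Nat.prime_three
      (by rw [hcard, ← hm3])
  -- an abelian normal subgroup is a p-group
  have hab : ∀ (X : Type _) [Group X], Group.IsSolvable X → Nontrivial X →
      ∃ D : Subgroup X, D.Normal ∧ D ≠ ⊥ ∧ ∀ a ∈ D, ∀ b ∈ D, Commute a b := by
    intro X _ hX _
    obtain ⟨n, hn⟩ := hX.solvable
    have hex : ∃ n, derivedSeries X n = ⊥ := ⟨n, hn⟩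
    have h0 : Nat.find hex ≠ 0 := fun e => by
      have := Nat.find_spec hex
      rw [e, derivedSeries_zero] at this
      exact top_ne_bot this
    obtain ⟨k, hk⟩ := Nat.exists_eq_succ_of_ne_zero h0
    refine ⟨derivedSeries X k, inferInstance, Nat.find_min hex (by omega), fun a ha b hb => ?_⟩
    have := Nat.find_spec hex
    rw [hk, derivedSeries_succ, Subgroup.commutator_eq_bot_iff_le_centralizer] at this
    exact (Subgroup.mem_centralizer_iff.1 (this ha) b hb).symm
  have hpiord : ∀ {X : Type _} [Group X] (f : G →* X), Function.Surjective f → ∀ x : X, orderOf x ≤ 4 ∧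
      ∀ a b : X, orderOf a = 2 → orderOf b = 3 → ¬ Commute a b := by
    intro X _ f hf x
    have hle' : ∀ x : X, orderOf x ≤ 4 := fun x => by
      obtain ⟨g, rfl⟩ := hf x
      exact (Nat.le_of_dvd (orderOf_pos g) (orderOf_map_dvd f g)).trans (hle g)
    refine ⟨hle' x, fun a b ha hb hc => ?_⟩
    have := hle' (a * b)
    rw [hc.orderOf_mul_eq_mul_orderOf_of_coprime (by rw [ha, hb]; norm_num), ha, hb] at this
    omega
  obtain ⟨N₃, hN₃n, hN₃p, hN₃max⟩ := exists_max_normal (G := G) 3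
  have hpgroup : ∀ {p : ℕ} [Fact p.Prime] (H : Subgroup G), IsPGroup p H → ∀ x ∈ H, ∃ k, x ^ p ^ k = 1 :=
    fun H hH x hx => by
      obtain ⟨k, hk⟩ := hH ⟨x, hx⟩
      exact ⟨k, congrArg Subtype.val hk⟩
  have hp3 : ∀ H : Subgroup G, IsPGroup 3 H → ∀ x ∈ H, x ≠ 1 → orderOf x = 3 := fun H hH x hx hx1 => by
    obtain ⟨k, hk⟩ := hpgroup H hH x hx
    obtain ⟨j, -, hj⟩ := (Nat.dvd_prime_pow Nat.prime_three).1 (orderOf_dvd_of_pow_eq_one hk)
    have := hle x
    rcases hord x with e | e | e | e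
    · exact absurd e hx1
    all_goals first
      | exact e
      | (exfalso; rcases j with _ | j <;> [omega; (have : 3 ∣ orderOf x := hj ▸ dvd_pow_self 3 (by omega); omega)])
  have hp2 : ∀ H : Subgroup G, IsPGroup 2 H → ∀ x ∈ H, orderOf x ≠ 3 := fun H hH x hx e => by
    obtain ⟨k, hk⟩ := hpgroup H hH x hx
    have := Nat.prime_dvd_prime_iff_eq Nat.prime_three Nat.prime_two |>.1
      (Nat.prime_three.dvd_of_dvd_pow (e ▸ orderOf_dvd_of_pow_eq_one hk))
    omega
  have hto2 : ∀ H : Subgroup G, (∀ x ∈ H, orderOf x ≠ 3) → IsPGroup 2 H := fun H hH x => by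
    rcases hord (x : G) with e | e | e | e
    · exact ⟨0, Subtype.ext (by simpa using e)⟩
    · exact ⟨1, Subtype.ext (by rw [pow_one, SubmonoidClass.coe_pow, ← e, pow_orderOf_eq_one]; rfl)⟩
    · exact absurd e (hH x x.2)
    · exact ⟨2, Subtype.ext (by rw [SubmonoidClass.coe_pow, show (2 : ℕ) ^ 2 = 4 from rfl, ← e, pow_orderOf_eq_one]; rfl)⟩
  by_cases hN₃ : N₃ ≠ ⊥
  · -- Frobenius group with 3-kernel
    haveI := hN₃n
    refine ⟨N₃, hN₃n, Or.inr (Or.inr ?_)⟩
    obtain ⟨n₀, hn₀, hn₀1⟩ : ∃ n ∈ N₃, n ≠ 1 := by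
      by_contra hc; push Not at hc; exact hN₃ ((Subgroup.eq_bot_iff_forall _).2 hc)
    have hfree : ∀ z : G, orderOf z = 2 → ∀ n ∈ N₃, Commute z n → n = 1 := fun z hz n hn hc => by
      by_contra hn1; exact h6 z n hz (hp3 _ hN₃p n hn hn1) hc
    have hinv : ∀ z : G, orderOf z = 2 → ∀ n ∈ N₃, z * n * z⁻¹ = n⁻¹ := by
      intro z hz n hn
      let f : N₃ → N₃ := fun y => ⟨(y : G)⁻¹ * (z * y * z⁻¹), mul_mem (inv_mem y.2) (hN₃n.conj_mem _ y.2 z)⟩
      have hf : Function.Injective f := fun a b e => by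
        have e' : (a : G)⁻¹ * (z * a * z⁻¹) = (b : G)⁻¹ * (z * b * z⁻¹) := congrArg Subtype.val e
        have : (b : G) * (a : G)⁻¹ = 1 := hfree z hz _ (mul_mem b.2 (inv_mem a.2)) (by
          show z * ((b : G) * (a : G)⁻¹) = (b : G) * (a : G)⁻¹ * z
          calc z * ((b : G) * (a : G)⁻¹) = (b : G) * ((b : G)⁻¹ * (z * b * z⁻¹)) * z * (a : G)⁻¹ := by group
            _ = (b : G) * ((a : G)⁻¹ * (z * a * z⁻¹)) * z * (a : G)⁻¹ := by rw [e']
            _ = _ := by group)
        exact Subtype.ext (mul_inv_eq_one.1 this).symm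
      obtain ⟨y, hy⟩ := (Finite.injective_iff_surjective.1 hf) ⟨n, hn⟩
      have e : (y : G)⁻¹ * (z * y * z⁻¹) = n := congrArg Subtype.val hy
      have hzz : z * z = 1 := by rw [← sq, ← hz, pow_orderOf_eq_one]
      have hzi : z⁻¹ = z := inv_eq_of_mul_eq_one_right hzz
      rw [← e, hzi]
      calc z * ((y : G)⁻¹ * (z * y * z)) * z = z * (y : G)⁻¹ * z * y * (z * z) := by group
        _ = (z * y * z⁻¹)⁻¹ * y := by rw [hzz, mul_one, hzi, mul_inv_rev, mul_inv_rev, hzi]; group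
        _ = _ := by rw [hzi]; group
    obtain ⟨z₀, hz₀⟩ : ∃ z : G, orderOf z = 2 := ⟨g4 ^ 2, hsq4 g4 hg4⟩
    have hNab : ∀ a ∈ N₃, ∀ b ∈ N₃, a * b = b * a := fun a ha b hb => by
      have h1 := hinv z₀ hz₀ _ (mul_mem ha hb)
      have h2 : z₀ * (a * b) * z₀⁻¹ = (z₀ * a * z₀⁻¹) * (z₀ * b * z₀⁻¹) := by group
      rw [h2, hinv z₀ hz₀ a ha, hinv z₀ hz₀ b hb, mul_inv_rev] at h1
      calc a * b = (b⁻¹ * a⁻¹)⁻¹ := by group
        _ = (a⁻¹ * b⁻¹)⁻¹ := by rw [h1]
        _ = b * a := by group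
    have hel : Cfsg.IsElementaryAbelian 3 N₃ := by
      refine ⟨⟨⟨fun a b => Subtype.ext (hNab a a.2 b b.2)⟩⟩, fun a ha => ?_⟩
      by_cases ha1 : a = 1
      · rw [ha1, one_pow]
      · rw [← hp3 _ hN₃p a ha ha1, pow_orderOf_eq_one]
    refine ⟨hel, ?_⟩
    have hCN : ∀ c : G, (∀ n ∈ N₃, c * n = n * c) → c ∈ N₃ := by
      have hC : Subgroup.centralizer (N₃ : Set G) ≤ N₃ := by
        refine hN₃max _ inferInstance fun c => ?_
        by_cases hc1 : (c : G) = 1
        · exact ⟨0, Subtype.ext (by simpa using hc1)⟩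
        · refine ⟨1, Subtype.ext ?_⟩
          have : orderOf (c : G) = 3 := by
            by_contra hc3
            exact h23 (c : G) n₀ (Subgroup.mem_centralizer_iff.1 c.2 n₀ hn₀).symm hc1 hc3 (hp3 _ hN₃p n₀ hn₀ hn₀1)
          rw [pow_one, SubmonoidClass.coe_pow, ← this, pow_orderOf_eq_one]; rfl
      exact fun c hc => hC (Subgroup.mem_centralizer_iff.2 fun n hn => (hc n hn).symm)
    have hinvN : ∀ z₁ z₂ : G, orderOf z₁ = 2 → orderOf z₂ = 2 → z₁⁻¹ * z₂ ∈ N₃ := by
      intro z₁ z₂ h1 h2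
      refine hCN _ fun n hn => ?_
      have e1 := hinv z₁ h1 n hn
      have e2 := hinv z₂ h2 n hn
      calc z₁⁻¹ * z₂ * n = z₁⁻¹ * (z₂ * n * z₂⁻¹) * z₂ := by group
        _ = z₁⁻¹ * (z₁ * n * z₁⁻¹) * z₂ := by rw [e2, e1]
        _ = n * (z₁⁻¹ * z₂) := by group
    let π := QuotientGroup.mk' N₃
    have hπ : Function.Surjective π := QuotientGroup.mk'_surjective N₃
    have hπ1 : ∀ g, π g = 1 ↔ g ∈ N₃ := fun g => QuotientGroup.eq_one_iff g
    have h2notin : ∀ z, orderOf z = 2 → z ∉ N₃ := fun z hz hm => by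
      have := hp3 _ hN₃p z hm (fun e => by rw [e, orderOf_one] at hz; omega)
      omega
    have h3in : ∀ g, orderOf g = 3 → g ∈ N₃ := by
      intro g hg
      by_contra hgN
      have hgz : orderOf (g * z₀ * g⁻¹) = 2 := by
        rw [← hz₀]; exact MulEquiv.orderOf_eq (MulAut.conj g) z₀
      have hc : Commute (π z₀) (π g) := by
        have := (hπ1 _).2 (hinvN _ _ hz₀ hgz)
        simp only [map_mul, map_inv] at this
        exact ((mul_inv_eq_iff_eq_mul.1 (inv_mul_eq_one.1 this).symm)).symm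
      refine (hpiord π hπ 1).2 (π z₀) (π g) (orderOf_eq_prime ?_ (fun e => h2notin _ hz₀ ((hπ1 _).1 e)))
        (orderOf_eq_prime ?_ (fun e => hgN ((hπ1 _).1 e))) hc
      · rw [← map_pow, ← hz₀, pow_orderOf_eq_one, map_one]
      · rw [← map_pow, ← hg, pow_orderOf_eq_one, map_one]
    have hQ2 : IsPGroup 2 (G ⧸ N₃) := fun q => by
      obtain ⟨g, rfl⟩ := hπ q
      refine ⟨2, ?_⟩
      show π g ^ 4 = 1
      rcases hord g with e | e | e | e
      · rw [e, map_one, one_pow]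
      · rw [show 4 = 2 * 2 from rfl, pow_mul, ← map_pow, ← e, pow_orderOf_eq_one, map_one, one_pow]
      · rw [(hπ1 g).2 (h3in g e), one_pow]
      · rw [← map_pow, ← e, pow_orderOf_eq_one, map_one]
    have hinvol : ∀ q : G ⧸ N₃, orderOf q = 2 → q = π z₀ := by
      intro q hq
      obtain ⟨g, rfl⟩ := hπ q
      have hgN : g ∉ N₃ := fun hm => by rw [(hπ1 g).2 hm, orderOf_one] at hq; omega
      rcases hord g with e | e | e | e
      · exact absurd (e ▸ one_mem N₃) hgN
      · exact (inv_mul_eq_one.1 (by rw [← map_inv, ← map_mul]; exact (hπ1 _).2 (hinvN _ _ e hz₀)))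
      · exact absurd (h3in g e) hgN
      · exfalso
        refine h2notin _ (hsq4 g e) ((hπ1 _).1 ?_)
        rw [map_pow, ← hq, pow_orderOf_eq_one]
    have huniq : ∀ H K : Subgroup (G ⧸ N₃), Nat.card H = 2 → Nat.card K = 2 → H = K := by
      have key : ∀ H : Subgroup (G ⧸ N₃), Nat.card H = 2 → H = Subgroup.zpowers (π z₀) := by
        intro H hH
        haveI : Nontrivial H := Finite.one_lt_card_iff_nontrivial.1 (by omega)
        obtain ⟨⟨x, hx⟩, hx1⟩ := exists_ne (1 : H)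
        have hxo : orderOf x = 2 := by
          have hd := Subgroup.orderOf_dvd_natCard H hx
          rw [hH] at hd
          exact ((Nat.dvd_prime Nat.prime_two).1 hd).resolve_left (fun e => hx1 (Subtype.ext (orderOf_eq_one_iff.1 e)))
        rw [← hinvol x hxo]
        exact (Subgroup.eq_of_le_of_card_ge (Subgroup.zpowers_le.2 hx) (by rw [Nat.card_zpowers, hxo, hH])).symm
      exact fun H K hH hK => (key H hH).trans (key K hK).symm
    have ho4 : orderOf (π g4) = 4 := by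
      have h1 : orderOf (π g4) ∣ 4 := hg4 ▸ orderOf_map_dvd π g4
      have h2 : π (g4 ^ 2) ≠ 1 := fun e => h2notin _ (hsq4 g4 hg4) ((hπ1 _).1 e)
      obtain ⟨j, hj, hj'⟩ := (Nat.dvd_prime_pow Nat.prime_two).1 (show orderOf (π g4) ∣ 2 ^ 2 from h1)
      interval_cases j
      · exfalso; apply h2; rw [map_pow, orderOf_eq_one_iff.1 (show orderOf (π g4) = 1 by simpa using hj'), one_pow]
      · exfalso; apply h2; rw [map_pow]; exact orderOf_dvd_iff_pow_eq_one.1 (by rw [hj', pow_one])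
      · exact hj'
    rcases Cfsg.Agent.PGroupsCyclic.isCyclic_or_quaternion hQ2 huniq with hcyc | ⟨-, k, ⟨e⟩⟩
    · refine Or.inl ⟨hcyc, ?_⟩
      obtain ⟨c, hc⟩ := hcyc.exists_ofOrder_eq_natCard
      rw [Subgroup.index_eq_card]
      have h1 : orderOf c ≤ 4 := (hpiord π hπ c).1
      have h2 : 4 ∣ Nat.card (G ⧸ N₃) := ho4 ▸ orderOf_dvd_natCard _
      have h3 : 0 < Nat.card (G ⧸ N₃) := Nat.card_pos
      have := Nat.le_of_dvd h3 h2
      omega
    · have h1 := (hpiord π hπ (e.symm (QuaternionGroup.a 1))).1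
      rw [MulEquiv.orderOf_eq, QuaternionGroup.orderOf_a_one] at h1
      rcases k with _ | _ | k
      · refine Or.inl ?_
        haveI : NeZero (2 ^ 0) := ⟨by norm_num⟩
        have hc : Nat.card (G ⧸ N₃) = 4 := by
          rw [Nat.card_congr e.toEquiv, Nat.card_eq_fintype_card, QuaternionGroup.card]; norm_num
        exact ⟨isCyclic_of_orderOf_eq_card (π g4) (by rw [ho4, hc]), by rw [Subgroup.index_eq_card, hc]⟩
      · exact Or.inr ⟨e⟩
      · exfalso
        have : 4 ≤ 2 ^ (k + 1 + 1) := by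
          calc 4 = 2 ^ 2 := rfl
            _ ≤ 2 ^ (k + 1 + 1) := Nat.pow_le_pow_right (by norm_num) (by omega)
        omega
  push Not at hN₃
  obtain ⟨N, hNn, hN2, hNmax⟩ := exists_max_normal (G := G) 2
  haveI := hNn
  have hDp : ∀ {X : Type _} [Group X] (D : Subgroup X), (∀ a ∈ D, ∀ b ∈ D, Commute a b) →
      (∀ x : X, orderOf x ≤ 4) → (∀ x : X, IsOfFinOrder x) →
      (∀ a b : X, orderOf a = 2 → orderOf b = 3 → ¬ Commute a b) → IsPGroup 2 D ∨ IsPGroup 3 D := by
    intro X _ D hDc hX hfin hX6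
    have hk : ∀ x : D, orderOf (x : X) = 3 ∨ x ^ 4 = 1 := fun x => by
      have := hX (x : X)
      have := (hfin (x : X)).orderOf_pos
      rcases (by omega : orderOf (x : X) = 3 ∨ orderOf (x : X) = 1 ∨ orderOf (x : X) = 2 ∨ orderOf (x : X) = 4)
        with e | e | e | e
      · exact Or.inl e
      all_goals exact Or.inr (Subtype.ext (orderOf_dvd_iff_pow_eq_one.1 (by rw [e] <;> norm_num)))
    by_cases h3 : ∃ b ∈ D, orderOf b = 3
    · obtain ⟨b, hb, hbo⟩ := h3
      refine Or.inr fun x => ?_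
      rcases hk x with e | e
      · exact ⟨1, Subtype.ext (by rw [pow_one, SubmonoidClass.coe_pow, ← e, pow_orderOf_eq_one]; rfl)⟩
      · have h4 : (x : X) ^ 4 = 1 := congrArg Subtype.val e
        have h2 : (x : X) ^ 2 = 1 := by
          by_contra hne
          exact hX6 _ b (orderOf_eq_prime (by rw [← pow_mul]; exact h4) hne) hbo ((hDc _ x.2 b hb).pow_left 2)
        refine ⟨0, Subtype.ext ?_⟩
        by_contra hne
        exact hX6 _ b (orderOf_eq_prime h2 (by simpa using hne)) hbo (hDc _ x.2 b hb)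
    · push Not at h3
      exact Or.inl fun x => ⟨2, (hk x).resolve_left (h3 x x.2)⟩
  haveI : Nontrivial G := ⟨⟨r, 1, fun e => by rw [e, orderOf_one] at hr; omega⟩⟩
  have hN1 : N ≠ ⊥ := by
    intro e
    obtain ⟨D, hDn, hD1, hDc⟩ := hab G hsolv inferInstance
    rcases hDp D hDc hle (fun x => isOfFinOrder_of_finite x) h6 with h2 | h3
    · exact hD1 (le_bot_iff.1 (e ▸ hNmax D hDn h2))
    · exact hD1 (le_bot_iff.1 (hN₃ ▸ hN₃max D hDn h3))
  obtain ⟨n₁, hn₁, hn₁1⟩ : ∃ n ∈ N, n ≠ 1 := by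
    by_contra hc; push Not at hc; exact hN1 ((Subgroup.eq_bot_iff_forall _).2 hc)
  have hfix : ∀ u : G, orderOf u = 3 → ∀ n ∈ N, Commute u n → n = 1 := fun u hu n hn hc => by
    by_contra hn1; exact h23 n u hc.symm hn1 (hp2 N hN2 n hn) hu
  let π := QuotientGroup.mk' N
  have hπ : Function.Surjective π := QuotientGroup.mk'_surjective N
  have hπ1 : ∀ g, π g = 1 ↔ g ∈ N := fun g => QuotientGroup.eq_one_iff g
  have hrN : r ∉ N := fun hm => hp2 N hN2 r hm hr
  have hπr : orderOf (π r) = 3 := orderOf_eq_prime (by rw [← map_pow, hr3, map_one]) (fun e => hrN ((hπ1 r).1 e))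
  have hcoset : ∀ (n : G), n ∈ N → ∀ u : G, π u = π r ∨ π u = (π r)⁻¹ → orderOf (n * u) = 3 := by
    intro n hn u hu
    have h3 : orderOf (π (n * u)) = 3 := by
      rw [map_mul, (hπ1 n).2 hn, one_mul]
      rcases hu with e | e <;> rw [e]
      · exact hπr
      · rw [orderOf_inv, hπr]
    have hd : 3 ∣ orderOf (n * u) := h3 ▸ orderOf_map_dvd π (n * u)
    have := hle (n * u)
    have := orderOf_pos (n * u)
    omega
  have hclass : ∀ a ∈ N, ∀ b ∈ N, ∀ c ∈ N, Commute (a⁻¹ * b⁻¹ * a * b) c := by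
    have hone : ∀ u : G, (π u = π r ∨ π u = (π r)⁻¹) → ∀ x ∈ N, ∀ g ∈ N, Commute x (g * (u * x * u⁻¹) * g⁻¹) := by
      intro u hu x hx g hg
      have ho := hcoset g hg u hu
      have := (norm_identity (by rw [← ho]; exact pow_orderOf_eq_one _) (hfix _ ho) hx).2
      rwa [show g * u * x * (g * u)⁻¹ = g * (u * x * u⁻¹) * g⁻¹ by group] at this
    have hE : ∀ x g : N, Commute x (g * x * g⁻¹) := by
      intro x g
      have h1 := (hone r (Or.inl rfl) x x.2 (g : G)⁻¹ (inv_mem g.2)).map (MulAut.conj (g : G)).toMonoidHom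
      have h2 := (hone r⁻¹ (Or.inr (map_inv π r)) x x.2 (g : G)⁻¹ (inv_mem g.2)).map (MulAut.conj (g : G)).toMonoidHom
      simp only [MulEquiv.coe_toMonoidHom, MulAut.conj_apply] at h1 h2
      rw [show (g : G) * ((g : G)⁻¹ * (r * x * r⁻¹) * (g : G)⁻¹⁻¹) * (g : G)⁻¹ = r * x * r⁻¹ by group] at h1
      rw [show (g : G) * ((g : G)⁻¹ * (r⁻¹ * x * r⁻¹⁻¹) * (g : G)⁻¹⁻¹) * (g : G)⁻¹ = r⁻¹ * x * r⁻¹⁻¹ by group] at h2
      have hn := (norm_identity hr3 (hfix r hr) x.2).1
      have e : (x : G) = ((r * x * r⁻¹) * (r⁻¹ * x * r⁻¹⁻¹))⁻¹ := by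
        have e2 : r * (r * x * r⁻¹) * r⁻¹ = r⁻¹ * x * r⁻¹⁻¹ := by
          have hri : r⁻¹ = r * r := inv_eq_of_mul_eq_one_right (by rw [← mul_assoc, ← sq, ← pow_succ, hr3])
          rw [inv_inv]
          calc r * (r * x * r⁻¹) * r⁻¹ = (r * r) * x * (r * r)⁻¹ := by group
            _ = _ := by rw [← hri, inv_inv]
        rw [← e2]
        exact eq_inv_of_mul_eq_one_left (by rw [← mul_assoc]; exact hn)
      have h3 : Commute ((g : G) * x * (g : G)⁻¹) x := by
        have := (h1.mul_right h2).inv_right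
        rwa [← e] at this
      exact Subtype.ext h3.eq.symm
    intro a ha b hb c hc
    exact congrArg Subtype.val (engel_class_two hN2 hE ⟨a, ha⟩ ⟨b, hb⟩ ⟨c, hc⟩).eq
  -- the Sylow 3-subgroups have order 3
  let R : Sylow 3 G := Classical.choice inferInstance
  have hR3 : Nat.card (R : Subgroup G) = 3 := by
    have h3d : 3 ∣ Nat.card G := hr ▸ orderOf_dvd_natCard r
    haveI : Nontrivial (R : Subgroup G) :=
      (Subgroup.nontrivial_iff_ne_bot _).2 (R.ne_bot_of_dvd_card h3d)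
    haveI := R.isPGroup'.center_nontrivial
    obtain ⟨⟨⟨c, hcR⟩, hcc⟩, hc1⟩ := exists_ne (1 : Subgroup.center (R : Subgroup G))
    have hc1' : c ≠ 1 := fun e => hc1 (Subtype.ext (Subtype.ext e))
    have hco := hp3 _ R.isPGroup' c hcR hc1'
    have hall : ∀ b ∈ (R : Subgroup G), b ∈ Subgroup.zpowers c := by
      intro b hb
      set A := Subgroup.closure ({b, c} : Set G) with hA
      have hbc : Commute b c := congrArg Subtype.val (Subgroup.mem_center_iff.1 hcc ⟨b, hb⟩)
      have hAR : A ≤ (R : Subgroup G) := (Subgroup.closure_le _).2 (by rintro x (rfl | rfl) <;> assumption)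
      have hAc : IsMulCommutative A := by
        rw [hA]
        exact Subgroup.isMulCommutative_closure (by
          rintro x (rfl | rfl) y (rfl | rfl)
          · rfl
          · exact hbc.eq
          · exact hbc.eq.symm
          · rfl)
      set V : Subgroup G := N ⊓ Subgroup.centralizer (N : Set G) with hV
      have hV1 : V ≠ ⊥ := by
        haveI : Nontrivial N := (Subgroup.nontrivial_iff_ne_bot N).2 hN1
        haveI := hN2.center_nontrivial
        obtain ⟨⟨⟨v, hvN⟩, hvc⟩, hv1⟩ := exists_ne (1 : Subgroup.center N)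
        intro e
        have hvV : v ∈ V := ⟨hvN, Subgroup.mem_centralizer_iff.2 fun y hy =>
          congrArg Subtype.val (Subgroup.mem_center_iff.1 hvc ⟨y, hy⟩)⟩
        rw [e, Subgroup.mem_bot] at hvV
        exact hv1 (Subtype.ext (Subtype.ext hvV))
      haveI : V.Normal := by rw [hV]; infer_instance
      have hcyc := Cfsg.Agent.FrobeniusFPF.isCyclic_of_fpf A V
        ⟨⟨fun a b => Subtype.ext (Subgroup.mem_centralizer_iff.1 b.2.2 a a.2.1)⟩⟩ hV1
        (by rw [Subgroup.normalizer_eq_top_iff.2 (inferInstance : V.Normal)]; exact le_top)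
        (fun a ha ha1 => by
          rw [Subgroup.eq_bot_iff_forall]
          rintro v ⟨hv, hva⟩
          exact hfix a (hp3 _ R.isPGroup' a (hAR ha) ha1) v hv.1
            (Subgroup.mem_centralizer_singleton_iff.1 hva).symm) (Or.inl hAc)
      obtain ⟨⟨d, hd⟩, hdd⟩ := hcyc.exists_ofOrder_eq_natCard
      have hcard : Nat.card A ≤ 3 := by
        rw [← hdd, Subgroup.orderOf_mk]
        by_cases hd1 : d = 1
        · rw [hd1, orderOf_one]; omega
        · rw [hp3 _ R.isPGroup' d (hAR hd) hd1]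
      have hcA : Subgroup.zpowers c ≤ A := Subgroup.zpowers_le.2 (Subgroup.subset_closure (by simp))
      rw [Subgroup.eq_of_le_of_card_ge hcA (by rw [Nat.card_zpowers, hco]; exact hcard)]
      exact Subgroup.subset_closure (by simp)
    rw [show (R : Subgroup G) = Subgroup.zpowers c from le_antisymm hall (Subgroup.zpowers_le.2 hcR),
      Nat.card_zpowers, hco]
  -- the quotient
  have hQle : ∀ q : G ⧸ N, orderOf q ≤ 4 := fun q => (hpiord π hπ q).1
  have hQ6 := (hpiord π hπ 1).2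
  have hQ2 : ∀ M : Subgroup (G ⧸ N), M.Normal → IsPGroup 2 M → M = ⊥ := by
    intro M hMn hM
    have h1 : M.comap π ≤ N := hNmax _ (hMn.comap π) (hM.comap_of_ker_isPGroup π (by rw [QuotientGroup.ker_mk']; exact hN2))
    rw [Subgroup.eq_bot_iff_forall]
    intro q hq
    obtain ⟨g, rfl⟩ := hπ q
    exact (hπ1 g).2 (h1 hq)
  haveI : Nontrivial (G ⧸ N) := ⟨⟨π r, 1, fun e => hrN ((hπ1 r).1 e)⟩⟩
  obtain ⟨D, hDn, hD1, hDc⟩ := hab (G ⧸ N) (solvable_of_surjective (G := G) hπ) inferInstance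
  haveI := hDn
  have hD3 : IsPGroup 3 D := (hDp D hDc hQle (fun x => isOfFinOrder_of_finite x) hQ6).resolve_left
    fun h2 => hD1 (hQ2 D hDn h2)
  have hDcard : Nat.card D = 3 := by
    obtain ⟨k, hk⟩ := IsPGroup.iff_card.1 hD3
    have h9 : ¬ 3 ^ 2 ∣ Nat.card G := by
      intro h9
      have := R.pow_dvd_card_of_pow_dvd_card h9
      rw [hR3] at this
      norm_num at this
    have hdG : Nat.card D ∣ Nat.card G := (Subgroup.card_subgroup_dvd_card D).trans (Subgroup.card_quotient_dvd_card N)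
    rcases k with _ | _ | k
    · exact absurd (Subgroup.eq_bot_of_card_eq D hk) hD1
    · rw [hk]; rfl
    · exact absurd ((pow_dvd_pow 3 (by omega)).trans (hk ▸ hdG)) h9
  haveI : IsCyclic D := isCyclic_of_prime_card hDcard
  let φ : G ⧸ N →* MulAut D := MulAut.conjNormal
  have hDgen : π r ∈ D := by
    by_contra hnot
    have h9 : 3 ^ 2 ∣ Nat.card G :=
      (nine_dvd D hDcard (π r) hπr hnot).trans (Subgroup.card_quotient_dvd_card N)
    have := R.pow_dvd_card_of_pow_dvd_card h9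
    rw [hR3] at this
    norm_num at this
  have hker : φ.ker = D := by
    ext q
    constructor
    · intro hq
      have hc : Commute q (π r) := by
        have e : q * π r * q⁻¹ = π r := by
          have := congrArg Subtype.val (DFunLike.congr_fun (MonoidHom.mem_ker.1 hq) ⟨π r, hDgen⟩)
          rwa [MulAut.conjNormal_apply] at this
        exact mul_inv_eq_iff_eq_mul.1 e
      have hq3 : q = 1 ∨ orderOf q = 3 := by
        have := hQle q
        have := orderOf_pos q
        rcases (by omega : orderOf q = 1 ∨ orderOf q = 2 ∨ orderOf q = 3 ∨ orderOf q = 4) with e | e | e | e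
        · exact Or.inl (orderOf_eq_one_iff.1 e)
        · exact absurd hc (hQ6 q _ e hπr)
        · exact Or.inr e
        · exact absurd (hc.pow_left 2) (hQ6 _ _ (by rw [orderOf_pow, e]; rfl) hπr)
      rcases hq3 with rfl | e
      · exact one_mem D
      · by_contra hnot
        have h9 : 3 ^ 2 ∣ Nat.card G := (nine_dvd D hDcard q e hnot).trans (Subgroup.card_quotient_dvd_card N)
        have := R.pow_dvd_card_of_pow_dvd_card h9
        rw [hR3] at this
        norm_num at this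
    · intro hq
      refine MonoidHom.mem_ker.2 (MulEquiv.ext fun x => Subtype.ext ?_)
      rw [MulAut.conjNormal_apply, (hDc q hq x x.2).eq, mul_inv_cancel_right]
      rfl
  have hQcard : Nat.card (G ⧸ N) = 3 ∨ Nat.card (G ⧸ N) = 6 := by
    have h1 := (φ.ker).card_mul_index
    rw [Subgroup.index_ker, hker, hDcard] at h1
    have h2 : Nat.card φ.range ∣ 2 := by
      have := Subgroup.card_subgroup_dvd_card φ.range
      rwa [IsCyclic.card_mulAut, hDcard, Nat.totient_prime Nat.prime_three] at this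
    rcases (Nat.dvd_prime Nat.prime_two).1 h2 with e | e <;> rw [e] at h1 <;> omega
  rcases hQcard with h3 | h6Q
  · refine ⟨N, hNn, Or.inl ⟨hN2, ?_, ?_, by rw [Subgroup.index_eq_card, h3]⟩⟩
    · have hg4N : g4 ∈ N := by
        rw [← hπ1, ← orderOf_eq_one_iff]
        exact Nat.eq_one_of_dvd_coprimes (show Nat.Coprime 4 3 by norm_num) (hg4 ▸ orderOf_map_dvd π g4) (h3 ▸ orderOf_dvd_natCard _)
      refine Nat.dvd_antisymm (Monoid.exponent_dvd_of_forall_pow_eq_one fun x => Subtype.ext ?_) ?_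
      · rw [SubmonoidClass.coe_pow]
        rcases hord (x : G) with e | e | e | e
        · rw [e, one_pow]; rfl
        · rw [show 4 = 2 * 2 from rfl, pow_mul, ← e, pow_orderOf_eq_one, one_pow]; rfl
        · exact absurd e (hp2 N hN2 x x.2)
        · rw [← e, pow_orderOf_eq_one]; rfl
      · have := Monoid.order_dvd_exponent (⟨g4, hg4N⟩ : N)
        rwa [Subgroup.orderOf_mk, hg4] at this
    · haveI := hN2.isNilpotent
      rw [← Subgroup.lowerCentralSeries_eq_bot_iff_nilpotencyClass_le, eq_bot_iff]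
      intro x hx
      rw [Subgroup.lowerCentralSeries_succ, Subgroup.commutator_def] at hx
      refine (Subgroup.closure_le (⊥ : Subgroup N)).2 ?_ hx
      rintro _ ⟨a, ha, b, -, rfl⟩
      have hac : Commute a b := by
        rw [Subgroup.lowerCentralSeries_succ, Subgroup.commutator_def] at ha
        refine Subgroup.closure_induction (p := fun a _ => Commute a b) ?_ (Commute.one_left b)
          (fun x y _ _ hx hy => hx.mul_left hy) (fun x _ hx => hx.inv_left) ha
        rintro _ ⟨u, -, v, -, rfl⟩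
        have := hclass (u⁻¹ : N) (u⁻¹ : N).2 (v⁻¹ : N) (v⁻¹ : N).2 b b.2
        apply Subtype.ext
        simpa [commutatorElement_def] using this.eq
      exact Subgroup.mem_bot.2 (commutatorElement_eq_one_iff_commute.2 hac)
  · obtain ⟨q, hq⟩ := exists_prime_orderOf_dvd_card' (G := G ⧸ N) 2 (by rw [h6Q]; norm_num)
    obtain ⟨g, hgq⟩ := hπ q
    have hqr : q * π r * q⁻¹ = (π r)⁻¹ := by
      have hmem : q * π r * q⁻¹ ∈ D := hDn.conj_mem _ hDgen q
      have hDz : D = Subgroup.zpowers (π r) :=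
        (Subgroup.eq_of_le_of_card_ge (Subgroup.zpowers_le.2 hDgen) (by rw [Nat.card_zpowers, hπr, hDcard])).symm
      rw [hDz] at hmem
      obtain ⟨i, hi, e⟩ := (isOfFinOrder_of_finite (π r)).mem_zpowers_iff_mem_range_orderOf.1 hmem |> Finset.mem_image.1
      rw [hπr, Finset.mem_range] at hi
      interval_cases i
      · rw [pow_zero] at e
        rw [conj_eq_one_iff.1 e.symm, orderOf_one] at hπr
        omega
      · rw [pow_one] at e
        exact absurd (mul_inv_eq_iff_eq_mul.1 e.symm) (hQ6 q _ hq hπr)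
      · rw [← e, eq_inv_iff_mul_eq_one, ← pow_succ, show (2 : ℕ) + 1 = orderOf (π r) from hπr.symm, pow_orderOf_eq_one]
    have hri : ∀ v ∈ N, ∃ y ∈ N, y * r⁻¹ * y⁻¹ = r⁻¹ * v := by
      let f : N → N := fun y => ⟨r * (y * r⁻¹ * (y : G)⁻¹), by
        have := mul_mem (hNn.conj_mem _ y.2 r) (inv_mem y.2)
        simpa [mul_assoc] using this⟩
      have hf : Function.Injective f := fun a b e => by
        have e' : (a : G) * r⁻¹ * (a : G)⁻¹ = b * r⁻¹ * (b : G)⁻¹ := mul_left_cancel (congrArg Subtype.val e)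
        have : (b : G)⁻¹ * a = 1 := hfix r hr _ (mul_mem (inv_mem b.2) a.2) (by
          show r * ((b : G)⁻¹ * a) = (b : G)⁻¹ * a * r
          calc r * ((b : G)⁻¹ * a) = r * (b : G)⁻¹ * ((a : G) * r⁻¹ * (a : G)⁻¹) * a * r := by group
            _ = r * (b : G)⁻¹ * ((b : G) * r⁻¹ * (b : G)⁻¹) * a * r := by rw [e']
            _ = _ := by group)
        exact Subtype.ext (inv_mul_eq_one.1 this).symm
      intro v hv
      obtain ⟨y, hy⟩ := (Finite.injective_iff_surjective.1 hf) ⟨v, hv⟩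
      refine ⟨y, y.2, ?_⟩
      rw [← show r * ((y : G) * r⁻¹ * (y : G)⁻¹) = v from congrArg Subtype.val hy, inv_mul_cancel_left]
    obtain ⟨y, hy, hye⟩ := hri (r * (g * r * g⁻¹)) (by
      rw [← hπ1, map_mul, map_mul, map_mul, map_inv, hgq, hqr, mul_inv_cancel])
    rw [inv_mul_cancel_left] at hye
    set t := y⁻¹ * g with ht
    have htr : t * r * t⁻¹ = r⁻¹ := by
      calc t * r * t⁻¹ = y⁻¹ * (g * r * g⁻¹) * y := by rw [ht]; group
        _ = r⁻¹ := by rw [← hye]; group
    have hπt : π t = q := by rw [ht, map_mul, map_inv, (hπ1 y).2 hy, inv_one, one_mul, hgq]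
    have htt : t * t = 1 := by
      refine hfix r hr _ ((hπ1 _).1 (by rw [map_mul, hπt, ← sq, ← hq, pow_orderOf_eq_one])) ?_
      have e : t * t * r * (t * t)⁻¹ = r := by
        calc t * t * r * (t * t)⁻¹ = t * (t * r * t⁻¹) * t⁻¹ := by group
          _ = t * r⁻¹ * t⁻¹ := by rw [htr]
          _ = (t * r * t⁻¹)⁻¹ := by group
          _ = r := by rw [htr, inv_inv]
      exact (mul_inv_eq_iff_eq_mul.1 e).symm
    have hti : t⁻¹ = t := inv_eq_of_mul_eq_one_right htt
    rw [hti] at htr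
    obtain ⟨hNab, hNsq⟩ := elementary_of_s3 N r t hr3 htt htr (fun n hn hc => hfix r hr n hn hc)
      (fun n hn => by
        rcases hord n with e | e | e | e
        · rw [e, one_pow]
        · rw [show 4 = 2 * 2 from rfl, pow_mul, ← e, pow_orderOf_eq_one, one_pow]
        · exact absurd e (hp2 N hN2 n hn)
        · rw [← e, pow_orderOf_eq_one])
      (fun n hn => by
        have hq' : orderOf (π (t * n)) = 2 := by rw [map_mul, hπt, (hπ1 n).2 hn, mul_one, hq]
        have hd : 2 ∣ orderOf (t * n) := hq' ▸ orderOf_map_dvd π (t * n)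
        have := hle (t * n)
        have := orderOf_pos (t * n)
        have hd4 : orderOf (t * n) ∣ 4 := by
          rcases (by omega : orderOf (t * n) = 2 ∨ orderOf (t * n) = 4) with e | e <;> rw [e] <;> norm_num
        have := orderOf_dvd_iff_pow_eq_one.1 hd4
        rw [← this, pow_succ, pow_succ, sq]; group)
      hclass
    refine ⟨N, hNn, Or.inr (Or.inl ⟨⟨⟨⟨fun a b => Subtype.ext (hNab a a.2 b b.2).eq⟩⟩, hNsq⟩, ?_⟩)⟩
    let T := Subgroup.zpowers q
    have hT : Nat.card T = 2 := by rw [Nat.card_zpowers, hq]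
    have hidx : T.index = 3 := by
      have := T.card_mul_index
      rw [hT, h6Q] at this; omega
    have hcard3 : Nat.card ((G ⧸ N) ⧸ T) = 3 := by rw [← Subgroup.index_eq_card, hidx]
    let e3 : ((G ⧸ N) ⧸ T) ≃ Fin 3 := (Finite.equivFin _).trans (finCongr hcard3)
    let ψ : G ⧸ N →* Equiv.Perm (Fin 3) := e3.permCongrHom.toMonoidHom.comp (MulAction.toPermHom (G ⧸ N) ((G ⧸ N) ⧸ T))
    have hψ : Function.Injective ψ := by
      rw [← MonoidHom.ker_eq_bot_iff]
      have hk : ψ.ker = (MulAction.toPermHom (G ⧸ N) ((G ⧸ N) ⧸ T)).ker := by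
        ext u
        simp [ψ, MonoidHom.mem_ker]
      rw [hk, ← Subgroup.normalCore_eq_ker]
      refine hQ2 _ inferInstance ((IsPGroup.of_card (n := 1) (by rw [hT]; rfl) : IsPGroup 2 T).to_le (Subgroup.normalCore_le T))
    exact ⟨MulEquiv.ofBijective ψ ((Nat.bijective_iff_injective_and_card ψ).2 ⟨hψ, by rw [h6Q, Nat.card_perm, Nat.card_fin]; rfl⟩)⟩

end Cfsg.Agent.S4006
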