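import Cfsg.Statements.S4009
import Cfsg.Agent.Lib.DerivedLengthMann4

set_option autoImplicit false
open Cfsg

namespace Cfsg.Agent.S4009

/-- Let P be a finite p-group of order p^n whose derived length is exactly k + 1 (the k-th derived subgroup is nontrivial and the (k+1)-st is trivial). Then n ≥ 2^k + 2k − 2. -/
theorem result {P : Type*} [Group P] [Finite P] (p : ℕ) [Fact p.Prime] (n k : ℕ) (hcard : Nat.card P = p ^ n) (hk : derivedSeries P k ≠ ⊥) (hk' : derivedSeries P (k + 1) = ⊥) : 2 ^ k + 2 * k ≤ n + 2 := by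
  have hP : IsPGroup p P := IsPGroup.of_card hcard
  have hds : ∀ j, derivedSeries P j = (fun X : Subgroup P => ⁅X, X⁆)^[j] ⊤ := by
    intro j
    induction j with
    | zero => rfl
    | succ j ih => rw [derivedSeries_succ, ih, Function.iterate_succ_apply']
  have h := DerivedLengthMann4.pow_expBound_le hP k ⊤ 1 le_rfl le_rfl (hds k ▸ hk)
  rw [Subgroup.card_top, hcard, Nat.pow_le_pow_iff_right (Fact.out : p.Prime).one_lt] at h
  match k with
  | 0 => simp
  | 1 => simp only [DerivedLengthMann4.expBound] at h; omega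
  | k + 2 =>
    simp only [DerivedLengthMann4.expBound] at h
    have : 1 ≤ 2 ^ (k + 2) := Nat.one_le_two_pow
    omega

end Cfsg.Agent.S4009
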