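import Cfsg.Statements.S4010
import Mathlib
import Cfsg.Agent.Lib.LinearPGroupDL73

set_option autoImplicit false
set_option linter.all false
open Cfsg

namespace Cfsg.Agent.S4010

open Cfsg.Agent

/-- Let F be a field, n ≥ 1, and P a finite p-group (p a prime) admitting an injective homomorphism into the general linear group of degree n over F. Then the derived length of P is at most ⌊log₂ n⌋ + 1: that term of the derived series of P is trivial. -/
theorem result {P : Type*} [Group P] [Finite P] (p : ℕ) [Fact p.Prime] (hP : IsPGroup p P) (F : Type*) [Field F] (n : ℕ) (hn : 1 ≤ n) (ρ : P →* Matrix.GeneralLinearGroup (Fin n) F) (hρ : Function.Injective ρ) : derivedSeries P (Nat.log 2 n + 1) = ⊥ := by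
  have hF : ∀ g ∈ derivedSeries P (Nat.log 2 n + 1),
      LinearPGroupDL73.matrixRep (K := AlgebraicClosure F) ρ g = 1 := by
    intro g hg
    by_cases hc : (p : AlgebraicClosure F) = 0
    · haveI : CharP (AlgebraicClosure F) p := by
        obtain ⟨q, hq⟩ := CharP.exists (AlgebraicClosure F)
        have hdvd := (CharP.cast_eq_zero_iff (AlgebraicClosure F) q p).mp hc
        rcases (Nat.dvd_prime Fact.out).mp hdvd with h | h
        · exact absurd h (CharP.char_ne_one (AlgebraicClosure F) q)
        · exact h ▸ hq
      exact LinearPGroupDL73.derived_trivial_of_charP hP _ _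
        (by simpa using (Nat.lt_pow_succ_log_self (b := 2) one_lt_two n).le) g hg
    · exact LinearPGroupDL73.derived_acts_trivial hc n P hP _ _ (by simp) g hg
  rw [Subgroup.eq_bot_iff_forall]
  intro g hg
  exact hρ ((LinearPGroupDL73.eq_one_of_matrixRep ρ g (hF g hg)).trans (map_one ρ).symm)

end Cfsg.Agent.S4010
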