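import Cfsg.Statements.S4013
import Mathlib

set_option autoImplicit false
open Cfsg

namespace Cfsg.Agent.S4013

/-- Let G be a finite p-group (p prime) and N < M normal subgroups of G such that for some g ∈ M ∖ N the conjugacy class of g is exactly M ∖ N. Then p = 2 and N has index 2 in M. -/
theorem result {G : Type*} [Group G] [Finite G] (p : ℕ) [Fact p.Prime] (hG : IsPGroup p G) (N M : Subgroup G) [N.Normal] [M.Normal] (hNM : N < M) (g : G) (hgM : g ∈ M) (hgN : g ∉ N) (hcl : {h : G | IsConj g h} = (M : Set G) \ (N : Set G)) : p = 2 ∧ N.relIndex M = 2 := by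
  have hp : p.Prime := Fact.out
  obtain ⟨a, ha⟩ := IsPGroup.iff_card.mp (hG.to_subgroup N)
  obtain ⟨b, hb⟩ := IsPGroup.iff_card.mp (hG.to_subgroup M)
  have hG' : IsPGroup p (ConjAct G) := hG
  obtain ⟨k, hk⟩ := hG'.card_orbit g
  have horb : (MulAction.orbit (ConjAct G) g) = {h : G | IsConj g h} := by
    ext x
    rw [ConjAct.mem_orbit_conjAct, Set.mem_setOf_eq, isConj_comm]
  have hsub : (N : Set G) ⊆ M := hNM.le
  have hcard : p ^ k + p ^ a = p ^ b := by
    rw [← hk, ← ha, ← hb, horb, hcl, Nat.card_coe_set_eq]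
    show ((M : Set G) \ N).ncard + (N : Set G).ncard = (M : Set G).ncard
    exact Set.ncard_sdiff_add_ncard_of_subset hsub
  have hab : a < b := by
    by_contra h
    push Not at h
    have h1 : p ^ b ≤ p ^ a := Nat.pow_le_pow_right hp.pos h
    have h2 : 0 < p ^ k := Nat.pow_pos hp.pos
    omega
  have hdiv : p ^ a ∣ p ^ k := by
    have : p ^ k = p ^ b - p ^ a := by omega
    rw [this]
    exact Nat.dvd_sub (pow_dvd_pow p hab.le) dvd_rfl
  have hak : a ≤ k := (Nat.pow_dvd_pow_iff_le_right hp.one_lt).mp hdiv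
  obtain ⟨d, rfl⟩ := Nat.exists_eq_add_of_lt hab
  obtain ⟨e, rfl⟩ := Nat.exists_eq_add_of_le hak
  have h3 : p ^ e + 1 = p ^ (d + 1) := by
    have h2 : 0 < p ^ a := Nat.pow_pos hp.pos
    apply Nat.eq_of_mul_eq_mul_left h2
    rw [mul_add, mul_one, ← pow_add, ← pow_add]
    rw [hcard, Nat.add_assoc]
  have he : e = 0 := by
    by_contra he
    have h4 : p ∣ p ^ e := dvd_pow_self p he
    have h5 : p ∣ p ^ e + 1 := h3 ▸ dvd_pow_self p (Nat.succ_ne_zero d)
    have := (Nat.dvd_add_right h4).mp h5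
    exact hp.one_lt.ne' (Nat.dvd_one.mp this)
  subst he
  have h6 : p ^ (d + 1) = 2 := by simpa using h3.symm
  have hp2 : p = 2 := by
    have : p ∣ 2 := h6 ▸ dvd_pow_self p (Nat.succ_ne_zero d)
    exact (Nat.prime_dvd_prime_iff_eq hp Nat.prime_two).mp this
  refine ⟨hp2, ?_⟩
  have h7 := Subgroup.relIndex_mul_relIndex ⊥ N M bot_le hNM.le
  rw [Subgroup.relIndex_bot_left, Subgroup.relIndex_bot_left, ha, hb] at h7
  have h8 : p ^ a * N.relIndex M = p ^ a * 2 := by
    rw [h7, Nat.add_assoc, pow_add, h6]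
  exact Nat.eq_of_mul_eq_mul_left (Nat.pow_pos hp.pos) h8

end Cfsg.Agent.S4013
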