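import Cfsg.Statements.S4015
import Mathlib
import Cfsg.Agent.Lib.LinearPGroupLogP73
import Cfsg.Agent.Lib.DerivedLengthLower73

set_option autoImplicit false
set_option linter.all false
open Cfsg

namespace Cfsg.Agent.S4015

open Cfsg.Agent
open Cfsg.Agent.DerivedLengthLower73

theorem finrank_le_of_semilinear {K : Type*} [Field K] {n : ℕ} (σ : K →+* K)
    (hσs : Function.Surjective σ) (E E' : Submodule K (Fin n → K))
    (h : ∀ v ∈ E, σ ∘ v ∈ E') : Module.finrank K E ≤ Module.finrank K E' := by
  let b := Module.finBasis K E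
  let j : E →+ E' :=
    { toFun := fun v => ⟨σ ∘ v.1, h v.1 v.2⟩
      map_zero' := Subtype.ext (funext fun i => map_zero σ)
      map_add' := fun v w => Subtype.ext (funext fun i => map_add σ (v.1 i) (w.1 i)) }
  have hli := b.linearIndependent.map_of_surjective_injective σ j hσs
    (fun m hm => Subtype.ext (funext fun i =>
      σ.injective ((congrFun (congrArg Subtype.val hm) i).trans (map_zero σ).symm)))
    (fun c m => Subtype.ext (funext fun i => map_mul σ c (m.1 i)))
  simpa using hli.fintype_card_le_finrank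

theorem finrank_frobenius_orbit {K : Type*} [Field K] {n q e : ℕ} (f : Module.End K (Fin n → K))
    (σ : K →+* K)
    (hσs : Function.Surjective σ) (hcomm : ∀ v, f (σ ∘ v) = σ ∘ (f v)) (z : K)
    (hdist : Set.InjOn (fun i => σ^[i] z) (Set.Iio e)) :
    e * Module.finrank K (f.eigenspace z) ≤ n := by
  classical
  have hmono : ∀ μ, Module.finrank K (f.eigenspace μ) ≤ Module.finrank K (f.eigenspace (σ μ)) := by
    intro μ
    refine finrank_le_of_semilinear σ hσs _ _ fun v hv => ?_
    rw [Module.End.mem_eigenspace_iff] at hv ⊢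
    rw [hcomm, hv]
    ext j
    simp
  have hiter : ∀ i, Module.finrank K (f.eigenspace z) ≤ Module.finrank K (f.eigenspace (σ^[i] z)) := by
    intro i
    induction i with
    | zero => exact le_rfl
    | succ i ih => rw [Function.iterate_succ_apply']; exact ih.trans (hmono _)
  have key : ∀ i ≤ e, i * Module.finrank K (f.eigenspace z) ≤
      Module.finrank K (⨆ j ∈ Finset.range i, f.eigenspace (σ^[j] z) : Submodule K (Fin n → K)) := by
    intro i hi
    induction i with
    | zero => simp
    | succ i ih =>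
      rw [Finset.range_add_one, Finset.iSup_insert]
      have hdisj : Disjoint (f.eigenspace (σ^[i] z))
          (⨆ j ∈ Finset.range i, f.eigenspace (σ^[j] z)) := by
        refine (f.eigenspaces_iSupIndep (σ^[i] z)).mono_right (iSup₂_le fun j hj => ?_)
        refine le_iSup₂_of_le (σ^[j] z) ?_ le_rfl
        intro h
        have := hdist (Set.mem_Iio.mpr ((Finset.mem_range.mp hj).trans (Nat.lt_of_succ_le hi)))
          (Set.mem_Iio.mpr (Nat.lt_of_succ_le hi)) h
        exact (Finset.mem_range.mp hj).ne this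
      have h := Submodule.finrank_sup_add_finrank_inf_eq (f.eigenspace (σ^[i] z))
          (⨆ j ∈ Finset.range i, f.eigenspace (σ^[j] z))
      rw [disjoint_iff.mp hdisj, finrank_bot] at h
      have h1 := ih (Nat.le_of_succ_le hi)
      have h2 := hiter i
      rw [add_mul, one_mul]
      omega
  refine (key e le_rfl).trans ((Submodule.finrank_le _).trans ?_)
  simp

theorem upper_bound {F : Type*} [Field F] [Fintype F] (q : ℕ) (hF : Fintype.card F = q) (p : ℕ) [Fact p.Prime] (hpq : ¬ p ∣ q) (n e : ℕ) (he : e = orderOf (q : ZMod p)) (hen : e ≤ n) (P : Subgroup (GL (Fin n) F)) (hP : IsPGroup p P) : derivedSeries ↥P (Nat.log p (n / e) + 1) = ⊥ := by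
  classical
  have hp : p.Prime := Fact.out
  set K := AlgebraicClosure F
  haveI : ExpChar F (ringChar F) := by
    haveI := Fact.mk (CharP.char_is_prime F (ringChar F))
    exact ExpChar.prime Fact.out
  obtain ⟨r, hr⟩ := CharP.exists F
  haveI := hr
  obtain ⟨k, hr0, hk⟩ := FiniteField.card F r
  haveI := Fact.mk hr0
  haveI : CharP K r := charP_of_injective_algebraMap (algebraMap F K).injective r
  rw [hF] at hk
  have hchar : (p : K) ≠ 0 := by
    rw [Ne, CharP.cast_eq_zero_iff K r p, Nat.prime_dvd_prime_iff_eq hr0 hp]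
    intro h
    exact hpq (hk ▸ h ▸ dvd_pow_self r k.2.ne')
  let σ : K →+* K := iterateFrobenius K r k
  have hσ : ∀ x, σ x = x ^ q := fun x => by rw [hk]; exact iterateFrobenius_def r k x
  have hσF : ∀ a : F, σ (algebraMap F K a) = algebraMap F K a := fun a => by
    rw [hσ, ← map_pow, ← hF, FiniteField.pow_card]
  have hσs : Function.Surjective σ := fun y => by
    obtain ⟨z, hz⟩ := IsAlgClosed.exists_pow_nat_eq y (n := q) (hF ▸ Fintype.card_pos)
    exact ⟨z, (hσ z).trans hz⟩
  set ρ := LinearPGroupDL73.matrixRep (K := K) P.subtype with hρ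
  have hcomm : ∀ g v, ρ g (σ ∘ v) = σ ∘ (ρ g v) := by
    intro g v
    funext i
    rw [hρ, Function.comp_apply, LinearPGroupDL73.matrixRep_apply, LinearPGroupDL73.matrixRep_apply,
      Matrix.mulVec, Matrix.mulVec, dotProduct, dotProduct, map_sum]
    refine Finset.sum_congr rfl fun j _ => ?_
    rw [map_mul, Matrix.map_apply, hσF]
    rfl
  by_contra hne
  set D := derivedSeries ↥P (Nat.log p (n / e) + 1)
  haveI : D.Normal := derivedSeries_normal _ _
  obtain ⟨c, hc1, hcD, hcZ⟩ : ∃ c, c ≠ 1 ∧ c ∈ D ∧ c ∈ Subgroup.center ↥P := by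
    have h : D ⊓ Subgroup.center ↥P ≠ ⊥ := by
      haveI : Nontrivial D := Subgroup.nontrivial_iff_ne_bot D |>.mpr hne
      have hdvd : p ∣ Nat.card D := by
        obtain ⟨m, hm0, hm⟩ := (hP.to_subgroup D).nontrivial_iff_card.mp inferInstance
        exact hm ▸ dvd_pow_self p (by omega)
      obtain ⟨b, hb, hb1⟩ := IsPGroup.exists_fixed_point_of_prime_dvd_card_of_fixed_point
        (p := p) (G := ConjAct ↥P) (hP.of_equiv ConjAct.toConjAct) D hdvd (a := 1)
        (fun g => smul_one g)
      intro hbot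
      apply hb1
      have : (b : ↥P) ∈ D ⊓ Subgroup.center ↥P := ⟨b.2, Subgroup.mem_center_iff.mpr fun g => by
        have h2 := congrArg Subtype.val (hb (ConjAct.toConjAct g))
        rw [ConjAct.Subgroup.val_conj_smul, ConjAct.toConjAct_smul] at h2
        exact mul_inv_eq_iff_eq_mul.mp h2⟩
      rw [hbot, Subgroup.mem_bot] at this
      exact (Subtype.ext this).symm
    haveI : Nontrivial ↥(D ⊓ Subgroup.center ↥P) := (Subgroup.nontrivial_iff_ne_bot _).mpr h
    obtain ⟨⟨c, hc⟩, hc1⟩ := exists_ne (1 : ↥(D ⊓ Subgroup.center ↥P))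
    exact ⟨c, fun h => hc1 (Subtype.ext h), hc.1, hc.2⟩
  obtain ⟨j, hj⟩ := IsPGroup.iff_orderOf.mp hP c
  have hj0 : j ≠ 0 := fun h => hc1 (orderOf_eq_one_iff.mp (by rw [hj, h, pow_zero]))
  set x := c ^ p ^ (j - 1) with hx
  have hxord : orderOf x = p := by
    rw [hx, orderOf_pow_of_dvd (pow_ne_zero _ hp.ne_zero) (hj ▸ pow_dvd_pow p (by omega)), hj,
      Nat.pow_div (by omega) hp.pos, show j - (j - 1) = 1 by omega, pow_one]
  have hxD : x ∈ D := pow_mem hcD _
  have hxZ : x ∈ Subgroup.center ↥P := pow_mem hcZ _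
  have hxp : ρ x ^ p = 1 := by rw [← map_pow, ← hxord, pow_orderOf_eq_one, map_one]
  have he0 : 0 < e := by
    rw [he, orderOf_pos_iff]
    have hq0 : (q : ZMod p) ≠ 0 := by rw [Ne, ZMod.natCast_eq_zero_iff]; exact hpq
    exact isOfFinOrder_iff_pow_eq_one.mpr ⟨p - 1, Nat.sub_pos_of_lt hp.one_lt, ZMod.pow_card_sub_one_eq_one hq0⟩
  have honly : ∀ z : K, (ρ x).HasEigenvalue z → z = 1 := by
    intro z hz
    by_contra hz1
    set W := (ρ x).eigenspace z
    obtain ⟨w, hw, hw0⟩ := Submodule.exists_mem_ne_zero_of_ne_bot hz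
    have hzp : z ^ p = 1 := by
      have hpow : ∀ i : ℕ, (ρ x ^ i) w = z ^ i • w := by
        intro i
        induction i with
        | zero => simp
        | succ i ih =>
          rw [pow_succ', Module.End.mul_apply, ih, map_smul, Module.End.mem_eigenspace_iff.mp hw,
            smul_smul, pow_succ]
      have := hpow p
      rw [hxp, Module.End.one_apply] at this
      exact smul_left_injective K hw0 (this.symm.trans (one_smul K w).symm)
    have hord : orderOf z = p := orderOf_eq_prime hzp hz1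
    have hit : ∀ i : ℕ, σ^[i] z = z ^ (q ^ i) := by
      intro i
      induction i with
      | zero => simp
      | succ i ih => rw [Function.iterate_succ_apply', ih, hσ, ← pow_mul, pow_succ]
    have hdim := finrank_frobenius_orbit (q := q) (e := e) (ρ x) σ hσs (hcomm x) z (by
      intro i hi i' hi' h
      simp only [hit] at h
      have hz0 : z ≠ 0 := fun h0 => by simp [h0, hp.ne_zero] at hzp
      obtain ⟨uz, rfl⟩ : ∃ uz : Kˣ, (uz : K) = z := ⟨Units.mk0 z hz0, rfl⟩
      rw [← Units.val_pow_eq_pow_val, ← Units.val_pow_eq_pow_val, Units.val_inj, pow_inj_mod] at h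
      rw [orderOf_units] at hord
      rw [hord] at h
      have h' : ((q : ZMod p)) ^ i = (q : ZMod p) ^ i' := by
        have := congrArg (fun m : ℕ => (m : ZMod p)) h
        simpa [ZMod.natCast_mod] using this
      rw [he] at hi hi'
      have hu : IsUnit (q : ZMod p) := isUnit_iff_ne_zero.mpr (by rw [Ne, ZMod.natCast_eq_zero_iff]; exact hpq)
      obtain ⟨u, hu⟩ := hu
      rw [← hu, ← Units.val_pow_eq_pow_val, ← Units.val_pow_eq_pow_val, Units.val_inj] at h'
      rw [← hu, orderOf_units] at hi hi'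
      exact pow_injOn_Iio_orderOf hi hi' h')
    have hinv : ∀ g, ∀ v ∈ W, ρ g v ∈ W := by
      intro g v hv
      rw [Module.End.mem_eigenspace_iff] at hv ⊢
      rw [← Module.End.mul_apply, ← map_mul, ← Subgroup.mem_center_iff.mp hxZ g, map_mul,
        Module.End.mul_apply, hv, map_smul]
    have h1 := LinearPGroupLogP73.derived_acts_trivial_logp hchar (n / e) ↥P hP W
      (LinearPGroupDL73.subRep ρ W hinv)
      ((Nat.le_div_iff_mul_le he0).mpr (by rw [mul_comm]; exact hdim)) x hxD
    have h2 := congrArg Subtype.val (LinearMap.congr_fun h1 ⟨w, hw⟩)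
    have h3 : z • w = w := (Module.End.mem_eigenspace_iff.mp hw).symm.trans h2
    exact hz1 (smul_left_injective K hw0 (h3.trans (one_smul K w).symm))
  set T : Module.End K (Fin n → K) := ∑ i ∈ Finset.range p, ρ x ^ i with hT
  have hker : LinearMap.ker T = ⊥ := by
    by_contra hk0
    haveI : Nontrivial (LinearMap.ker T) := Submodule.nontrivial_iff_ne_bot.mpr hk0
    have hinvT : ∀ v ∈ LinearMap.ker T, ρ x v ∈ LinearMap.ker T := by
      intro v hv
      have hc : T * ρ x = ρ x * T := by simp [hT, Finset.sum_mul, Finset.mul_sum, pow_mul_comm']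
      rw [LinearMap.mem_ker] at hv ⊢
      rw [← Module.End.mul_apply, hc, Module.End.mul_apply, hv, map_zero]
    obtain ⟨μ, hμ⟩ := Module.End.exists_eigenvalue ((ρ x).restrict hinvT)
    obtain ⟨v, hv, hv0⟩ := Submodule.exists_mem_ne_zero_of_ne_bot hμ
    have hv' : ρ x v.1 = μ • v.1 := congrArg Subtype.val (Module.End.mem_eigenspace_iff.mp hv)
    have hv1 : (v.1 : Fin n → K) ≠ 0 := fun h => hv0 (Subtype.ext h)
    have hμ1 : μ = 1 := honly μ (Module.End.hasEigenvalue_of_hasEigenvector
      ⟨Module.End.mem_eigenspace_iff.mpr hv', hv1⟩)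
    rw [hμ1, one_smul] at hv'
    have hpow : ∀ i : ℕ, (ρ x ^ i) v.1 = v.1 := by
      intro i
      induction i with
      | zero => simp
      | succ i ih => rw [pow_succ', Module.End.mul_apply, ih, hv']
    have : T v.1 = (p : K) • v.1 := by
      show (∑ i ∈ Finset.range p, ρ x ^ i) v.1 = _
      rw [LinearMap.sum_apply, Finset.sum_congr rfl (fun i _ => hpow i), Finset.sum_const, Finset.card_range, Nat.cast_smul_eq_nsmul]
    rw [LinearMap.mem_ker.mp v.2] at this
    exact hv1 ((smul_eq_zero.mp this.symm).resolve_left hchar)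
  have hprod : T * (ρ x - 1) = 0 := by
    rw [hT, geom_sum_mul, hxp, sub_self]
  have hx1 : ρ x = 1 := by
    refine LinearMap.ext fun v => sub_eq_zero.mp ?_
    have hmem : (ρ x - 1) v ∈ LinearMap.ker T := LinearMap.congr_fun hprod v
    rwa [hker, Submodule.mem_bot] at hmem
  have hx1' : x = 1 := Subtype.ext (LinearPGroupDL73.eq_one_of_matrixRep P.subtype x hx1)
  rw [hx1', orderOf_one] at hxord
  exact hp.ne_one hxord.symm

theorem lower_bound {F : Type*} [Field F] [Fintype F] (q : ℕ) (hF : Fintype.card F = q) (p : ℕ) [Fact p.Prime] (hpq : ¬ p ∣ q) (k : ℕ) :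
    HasPDL p k (GL (Fin (orderOf (q : ZMod p) * p ^ k)) F) := by
  classical
  have hp : p.Prime := Fact.out
  induction k with
  | zero =>
    set e := orderOf (q : ZMod p) with he
    have he0 : 0 < e := orderOf_pos_iff.mpr (isOfFinOrder_iff_pow_eq_one.mpr ⟨p - 1, Nat.sub_pos_of_lt hp.one_lt,
      ZMod.pow_card_sub_one_eq_one (by rw [Ne, ZMod.natCast_eq_zero_iff]; exact hpq)⟩)
    have hdvd : p ∣ q ^ e - 1 := by
      have hq0 : 1 ≤ q ^ e := Nat.one_le_pow _ _ (hF ▸ Fintype.card_pos)
      rw [← ZMod.natCast_eq_zero_iff, Nat.cast_sub hq0, Nat.cast_pow, pow_orderOf_eq_one, Nat.cast_one, sub_self]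
    have hcard : p ∣ Nat.card (GL (Fin (e * p ^ 0)) F) := by
      rw [pow_zero, mul_one, Matrix.card_GL_field, hF]
      refine hdvd.trans ?_
      have := Finset.dvd_prod_of_mem (fun i : Fin e => q ^ e - q ^ (i : ℕ)) (Finset.mem_univ ⟨0, he0⟩)
      simpa using this
    obtain ⟨x, hx⟩ := exists_prime_orderOf_dvd_card' p hcard
    refine ⟨Subgroup.zpowers x, IsPGroup.of_card (n := 1) (by rw [Nat.card_zpowers, hx, pow_one]), ?_⟩
    rw [derivedSeries_zero]
    haveI : Nontrivial (Subgroup.zpowers x) := (Subgroup.nontrivial_iff_ne_bot _).mpr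
      (by rw [Ne, Subgroup.zpowers_eq_bot]; rintro rfl; rw [orderOf_one] at hx; exact hp.ne_one hx.symm)
    exact top_ne_bot
  | succ k ih =>
    rw [pow_succ, ← mul_assoc]
    exact gl_step ih

/-- Let p be an odd prime, F a finite field with q elements where p does not divide q, and e the multiplicative order of q modulo p. Let n ≥ e and write w = ⌊n/e⌋ and k = ⌊log_p w⌋. Then a Sylow p-subgroup of GL(n, F) has derived length exactly k + 1: its (k+1)-st derived subgroup is trivial and its k-th is not. -/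
theorem result (p : ℕ) [Fact p.Prime] (hp : p ≠ 2) (F : Type*) [Field F] [Fintype F] (q : ℕ) (hq : Fintype.card F = q) (hpq : ¬ p ∣ q) (n : ℕ) (hn : orderOf (q : ZMod p) ≤ n) (P : Sylow p (Matrix.GeneralLinearGroup (Fin n) F)) : derivedSeries ↥(P : Subgroup (Matrix.GeneralLinearGroup (Fin n) F)) (Nat.log p (n / orderOf (q : ZMod p)) + 1) = ⊥ ∧ derivedSeries ↥(P : Subgroup (Matrix.GeneralLinearGroup (Fin n) F)) (Nat.log p (n / orderOf (q : ZMod p))) ≠ ⊥ := by
  have hp' : p.Prime := Fact.out
  refine ⟨upper_bound q hq p hpq n _ rfl hn _ P.2, ?_⟩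
  refine (gl_pad ?_ (lower_bound q hq p hpq _)).sylow P
  set e := orderOf (q : ZMod p)
  have he0 : 0 < e := orderOf_pos_iff.mpr (isOfFinOrder_iff_pow_eq_one.mpr ⟨p - 1, Nat.sub_pos_of_lt hp'.one_lt,
    ZMod.pow_card_sub_one_eq_one (by rw [Ne, ZMod.natCast_eq_zero_iff]; exact hpq)⟩)
  calc e * p ^ Nat.log p (n / e) ≤ e * (n / e) :=
        Nat.mul_le_mul_left _ (Nat.pow_log_le_self p (Nat.div_pos hn he0).ne')
    _ ≤ n := Nat.mul_div_le n e

end Cfsg.Agent.S4015
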