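import Cfsg.Statements.S4016
import Cfsg.Agent.Lib.H74CyclicAbCases
import Cfsg.Agent.Lib.FrobeniusThompson

set_option autoImplicit false
open Cfsg

namespace Cfsg.Agent.S4016

section
open Subgroup H74CyclicAb

universe u

theorem npc_of_normalizer_le {G : Type u} [Group G] [Finite G] {p : ℕ} [Fact p.Prime]
    (P : Sylow p G) (hc : IsCyclic (P : Subgroup G))
    (h : ∀ y ∈ normalizer ((P : Subgroup G) : Set G), (orderOf y).Coprime p →
      ∀ x ∈ (P : Subgroup G), y * x = x * y) : Cfsg.HasNormalPComplement p G := by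
  have hle : normalizer (P : Set G) ≤ centralizer (P : Set G) :=
    normalizer_le_of_coprime_le P (fun x hx y hy => comm_of_isCyclic hc y hy x hx)
      fun y hy hyc x hx => (h y hy hyc x hx).symm
  exact ⟨P, _, MonoidHom.normal_ker _, MonoidHom.ker_transferSylow_isComplement' P hle⟩

theorem unique_normal {G : Type u} [Group G] [Finite G] {p : ℕ} [Fact p.Prime]
    (h : ∀ Q R : Sylow p G, Q = R) : ∀ Q : Sylow p G, (Q : Subgroup G).Normal := fun Q => by
  have : Subsingleton (Sylow p G) := ⟨h⟩
  exact Sylow.normal_of_subsingleton Q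

theorem main (p : ℕ) [hp : Fact p.Prime] : ∀ (n : ℕ) (G : Type u) [Group G] [Finite G],
    Nat.card G = n → (∀ Q : Sylow p G, IsCyclic (Q : Subgroup G)) →
    (∀ H : Subgroup G, ¬ p ∣ Nat.card H → ∀ a ∈ H, ∀ b ∈ H, a * b = b * a) →
    Cfsg.HasNormalPComplement p G ∨ ∀ Q : Sylow p G, (Q : Subgroup G).Normal := by
  intro n
  induction n using Nat.strong_induction_on with
  | _ n ih =>
  intro G _ _ hn hcyc hab
  obtain ⟨P⟩ : Nonempty (Sylow p G) := inferInstance
  have ihH : ∀ H : Subgroup G, H ≠ ⊤ →
      Cfsg.HasNormalPComplement p H ∨ ∀ Q : Sylow p H, (Q : Subgroup H).Normal := by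
    intro H hH
    refine ih (Nat.card H) ?_ H rfl (fun R => ?_) (fun X hX a ha b hb => ?_)
    · rw [← hn]
      exact lt_of_le_of_ne (Subgroup.card_le_card_group H) fun e => hH (eq_top_of_card_eq H e)
    · obtain ⟨Q, hQ⟩ := (R.2.map H.subtype).exists_le_sylow
      have := hcyc Q
      have h1 : IsCyclic ((R : Subgroup H).map H.subtype) :=
        isCyclic_of_injective (inclusion hQ) (inclusion_injective hQ)
      exact isCyclic_of_surjective
        ((R : Subgroup H).equivMapOfInjective H.subtype H.subtype_injective).symm.toMonoidHom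
        (MulEquiv.surjective _)
    · refine Subtype.ext (hab (X.map H.subtype) ?_ _ ⟨a, ha, rfl⟩ _ ⟨b, hb, rfl⟩)
      rwa [card_map_of_injective H.subtype_injective]
  have ihQ : ∀ (N : Subgroup G) [N.Normal], N ≠ ⊥ →
      (∀ X : Subgroup (G ⧸ N), ¬ p ∣ Nat.card X → ∀ a ∈ X, ∀ b ∈ X, a * b = b * a) →
      Cfsg.HasNormalPComplement p (G ⧸ N) ∨ ∀ Q : Sylow p (G ⧸ N), (Q : Subgroup (G ⧸ N)).Normal := by
    intro N _ hN hX
    refine ih (Nat.card (G ⧸ N)) ?_ (G ⧸ N) rfl (fun R => ?_) hX
    · rw [← hn, card_eq_card_quotient_mul_card_subgroup N]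
      exact lt_mul_of_one_lt_right Nat.card_pos (one_lt_card_iff_ne_bot N |>.2 hN)
    · have := hcyc P
      set R0 := P.mapSurjective (QuotientGroup.mk'_surjective N)
      have h0 : IsCyclic (R0 : Subgroup (G ⧸ N)) :=
        isCyclic_of_surjective ((QuotientGroup.mk' N).subgroupMap (P : Subgroup G))
          ((QuotientGroup.mk' N).subgroupMap_surjective _)
      exact isCyclic_of_surjective (R0.equiv R).toMonoidHom (R0.equiv R).surjective
  by_cases hd : p ∣ Nat.card G
  swap
  · refine Or.inr fun Q => ?_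
    obtain ⟨k, hk⟩ := IsPGroup.iff_card.1 Q.2
    rcases Nat.eq_zero_or_pos k with rfl | hk0
    · rw [pow_zero] at hk
      rw [eq_bot_of_card_eq (Q : Subgroup G) hk]
      infer_instance
    · exact absurd ((dvd_pow_self p hk0.ne').trans (hk ▸ card_subgroup_dvd_card _)) hd
  by_cases h2 : ∃ N : Subgroup G, N.Normal ∧ N ≠ ⊥ ∧ ¬ p ∣ Nat.card N
  · -- a normal `p'`-subgroup
    obtain ⟨N, _, hN1, hNp⟩ := h2
    have hX : ∀ X : Subgroup (G ⧸ N), ¬ p ∣ Nat.card X → ∀ a ∈ X, ∀ b ∈ X, a * b = b * a := by
      intro X hX a ha b hb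
      obtain ⟨a, rfl⟩ := QuotientGroup.mk'_surjective N a
      obtain ⟨b, rfl⟩ := QuotientGroup.mk'_surjective N b
      rw [← map_mul, ← map_mul, hab (X.comap (QuotientGroup.mk' N)) ?_ a ha b hb]
      rw [← HallCore.card_comap_mk']
      exact fun h => (hp.out.dvd_mul.1 h).elim hX hNp
    rcases ihQ N hN1 hX with h | h
    · exact Or.inl (FrobeniusThompson.pNC_of_quotient N hNp h)
    by_cases hcom : ∀ n ∈ N, ∀ x ∈ (P : Subgroup G), n * x = x * n
    · refine Or.inr (unique_normal fun Q R => ?_)
      have key : ∀ S : Sylow p G, (S : Subgroup G) ≤ P := by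
        intro S s hs
        have : Subsingleton (Sylow p (G ⧸ N)) := by
          have := h (P.mapSurjective (QuotientGroup.mk'_surjective N))
          exact (Sylow.unique_of_normal _ this).instSubsingleton
        have h1 : QuotientGroup.mk' N s ∈
            (P : Subgroup G).map (QuotientGroup.mk' N) := by
          have h2 : S.mapSurjective (QuotientGroup.mk'_surjective N) =
              P.mapSurjective (QuotientGroup.mk'_surjective N) := Subsingleton.elim _ _
          have h3 := congrArg (fun T : Sylow p (G ⧸ N) => (T : Subgroup (G ⧸ N))) h2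
          simp only [Sylow.coe_mapSurjective] at h3
          rw [← h3]
          exact ⟨s, hs, rfl⟩
        obtain ⟨x, hx, hxs⟩ := h1
        have hn : x⁻¹ * s ∈ N := QuotientGroup.eq.1 hxs
        obtain ⟨a, ha⟩ := S.2 ⟨s, hs⟩
        refine mem_sylow_of_mem_normalizer P (a := a) (by simpa using congrArg Subtype.val ha) ?_
        refine mem_normalizer_of_conj fun y hy => ?_
        have e : s * y * s⁻¹ = x * ((x⁻¹ * s) * y * (x⁻¹ * s)⁻¹) * x⁻¹ := by group
        rw [e, hcom _ hn y hy, mul_inv_cancel_right]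
        exact mul_mem (mul_mem hx hy) (inv_mem hx)
      have e1 := Sylow.ext (Q.3 P.2 (key Q))
      have e2 := Sylow.ext (R.3 P.2 (key R))
      exact e1.symm.trans e2
    · left
      refine npc_of_normalizer_le P (hcyc P) fun y hy hyc => ?_
      have hyN : ∀ m ∈ N, y * m = m * y := fun m hm =>
        hab _ (not_dvd_card_sup_zpowers hNp hyc
          (mem_normalizer_of_conj fun x hx => (inferInstance : N.Normal).conj_mem x hx y)) y
          (le_sup_right (α := Subgroup G) (mem_zpowers y)) m (le_sup_left (α := Subgroup G) hm)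
      refine commute_of_trivial_mod (hcyc P) P.2 hyc
        (P0 := (P : Subgroup G) ⊓ centralizer (N : Set G)) inf_le_left ?_ fun x hx => ?_
      · intro hle
        exact hcom fun m hm x hx => (hle hx).2 m hm
      · refine ⟨(P : Subgroup G).mul_mem ((Subgroup.mem_normalizer_iff.1 hy x).1 hx) ((P : Subgroup G).inv_mem hx), fun m hm => ?_⟩
        have h1 := hyN _ ((inferInstance : N.Normal).conj_mem m hm x⁻¹)
        rw [inv_inv] at h1
        have hym : y * m * y⁻¹ = m := by rw [hyN m hm]; group
        have e : (y * x * y⁻¹ * x⁻¹) * m = m * (y * x * y⁻¹ * x⁻¹) := by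
          calc (y * x * y⁻¹ * x⁻¹) * m = y * x * y⁻¹ * (x⁻¹ * m * x) * x⁻¹ := by group
            _ = y * x * y⁻¹ * ((x⁻¹ * m * x) * y) * y⁻¹ * x⁻¹ := by group
            _ = y * x * y⁻¹ * (y * (x⁻¹ * m * x)) * y⁻¹ * x⁻¹ := by rw [h1]
            _ = (y * m * y⁻¹) * (y * x * y⁻¹ * x⁻¹) := by group
            _ = m * (y * x * y⁻¹ * x⁻¹) := by rw [hym]
        exact e.symm
  by_cases h3 : ∃ D : Subgroup G, D.Normal ∧ D ≠ ⊥ ∧ IsPGroup p D
  · -- a normal `p`-subgroup
    obtain ⟨D, _, hD1, hDp⟩ := h3
    have hDle : ∀ Q : Sylow p G, D ≤ Q := fun Q => hDp.le_sylow_of_normal Q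
    set C := centralizer (D : Set G)
    have hPC : ∀ Q : Sylow p G, (Q : Subgroup G) ≤ C := fun Q x hx d hd =>
      comm_of_isCyclic (hcyc Q) d (hDle Q hd) x hx
    by_cases hC : C = ⊤
    swap
    · rcases ihH C hC with h | h
      · refine Or.inr (unique_normal fun Q R => ?_)
        have hC' : IsPGroup p C := by
          have hbot : (Cfsg.pResidual p C).map C.subtype = ⊥ := by
            by_contra hne
            refine h2 ⟨_, ?_, hne, ?_⟩
            · exact ConjAct.normal_of_characteristic_of_normal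
            · rw [card_map_of_injective C.subtype_injective]
              exact TransferPResidual.hasNormalPComplement_iff_not_dvd.1 h
          rw [map_eq_bot_iff_of_injective _ C.subtype_injective] at hbot
          exact TransferPResidual.pResidual_eq_bot_iff.1 hbot
        have e1 := Q.3 hC' (hPC Q)
        have e2 := R.3 hC' (hPC R)
        exact Sylow.ext (e1.symm.trans e2)
      · refine Or.inr (unique_normal fun Q R => ?_)
        have : Subsingleton (Sylow p C) :=
          (Sylow.unique_of_normal (Q.subtype (hPC Q)) (h _)).instSubsingleton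
        have h1 : Q.subtype (hPC Q) = R.subtype (hPC R) := Subsingleton.elim _ _
        exact Sylow.subtype_injective h1
    have hcen : ∀ d ∈ D, ∀ g : G, d * g = g * d := fun d hd g => (hC ▸ mem_top g : g ∈ C) d hd
    have hX : ∀ X : Subgroup (G ⧸ D), ¬ p ∣ Nat.card X → ∀ a ∈ X, ∀ b ∈ X, a * b = b * a := by
      intro X hX a ha b hb
      set Y := X.comap (QuotientGroup.mk' D)
      have hDY : D ≤ Y := QuotientGroup.le_comap_mk' D X
      set D' := D.subgroupOf Y
      have hDc : Nat.card D' = Nat.card D := Nat.card_congr (subgroupOfEquivOfLe hDY).toEquiv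
      have hidx : D'.index = Nat.card X := by
        have h1 := card_mul_index D'
        rw [hDc, ← HallCore.card_comap_mk', mul_comm (Nat.card X)] at h1
        exact Nat.eq_of_mul_eq_mul_left Nat.card_pos h1
      obtain ⟨j, hj⟩ := IsPGroup.iff_card.1 hDp
      obtain ⟨L, hL⟩ := exists_right_complement'_of_coprime (N := D')
        (by rw [hDc, hidx, hj]; exact Nat.Coprime.pow_left j ((Nat.Prime.coprime_iff_not_dvd hp.out).2 hX))
      have hLp : ¬ p ∣ Nat.card (L.map Y.subtype) := by
        rw [card_map_of_injective Y.subtype_injective, ← hL.symm.index_eq_card, hidx]; exact hX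
      have lift : ∀ a ∈ X, ∃ l ∈ L.map Y.subtype, QuotientGroup.mk' D l = a := by
        intro a ha
        obtain ⟨g, rfl⟩ := QuotientGroup.mk'_surjective D a
        obtain ⟨⟨d, l⟩, hdl⟩ := (hL.existsUnique ⟨g, ha⟩).exists
        refine ⟨_, ⟨l, l.2, rfl⟩, ?_⟩
        have hdl' : ((d : Y) : G) * ((l : Y) : G) = g := congrArg Subtype.val hdl
        rw [← hdl', map_mul]
        have : QuotientGroup.mk' D ((d : Y) : G) = 1 := (QuotientGroup.eq_one_iff _).2 d.2
        rw [this, one_mul]
        rfl
      obtain ⟨la, hla, rfl⟩ := lift a ha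
      obtain ⟨lb, hlb, rfl⟩ := lift b hb
      rw [← map_mul, ← map_mul, hab _ hLp la hla lb hlb]
    rcases ihQ D hD1 hX with h | h
    · by_cases hPD : (P : Subgroup G) ≤ D
      · refine Or.inr (unique_normal fun Q R => ?_)
        have hQP : ∀ Q : Sylow p G, P = Q := fun Q =>
          Sylow.ext (P.3 Q.2 (hPD.trans (hDle Q))).symm
        exact (hQP Q).symm.trans (hQP R)
      left
      refine npc_of_normalizer_le P (hcyc P) fun y hy hyc => ?_
      refine commute_of_trivial_mod (hcyc P) P.2 hyc (hDle P) hPD fun x hx => ?_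
      have hcP : y * x * y⁻¹ * x⁻¹ ∈ (P : Subgroup G) :=
        mul_mem ((Subgroup.mem_normalizer_iff.1 hy x).1 hx) (inv_mem hx)
      set f := QuotientGroup.mk' D
      have h1 : f y ∈ Cfsg.pResidual p (G ⧸ D) :=
        TransferPResidual.mem_pResidual_of_coprime (hyc.coprime_dvd_left (orderOf_map_dvd f y))
      have hcR : f (y * x * y⁻¹ * x⁻¹) ∈ Cfsg.pResidual p (G ⧸ D) := by
        rw [show y * x * y⁻¹ * x⁻¹ = y * (x * y⁻¹ * x⁻¹) by group, map_mul]
        refine mul_mem h1 ?_
        rw [map_mul, map_mul, map_inv, map_inv]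
        exact (inferInstance : (Cfsg.pResidual p (G ⧸ D)).Normal).conj_mem _ (inv_mem h1) _
      rw [TransferPResidual.mem_pResidual_iff_coprime h] at hcR
      have hpp : ∃ k, (y * x * y⁻¹ * x⁻¹) ^ p ^ k = 1 := by
        obtain ⟨k, hk⟩ := P.2 ⟨_, hcP⟩
        exact ⟨k, by simpa using congrArg Subtype.val hk⟩
      obtain ⟨k, hk⟩ := hpp
      have h4 : orderOf (f (y * x * y⁻¹ * x⁻¹)) ∣ p ^ k :=
        orderOf_dvd_of_pow_eq_one (by rw [← map_pow, hk, map_one])
      exact (QuotientGroup.eq_one_iff _).1
        (orderOf_eq_one_iff.1 (Nat.Coprime.eq_one_of_dvd (Nat.Coprime.pow_right k hcR) h4))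
    · refine Or.inr (unique_normal fun Q R => ?_)
      have : Subsingleton (Sylow p (G ⧸ D)) :=
        (Sylow.unique_of_normal _ (h (P.mapSurjective (QuotientGroup.mk'_surjective D)))).instSubsingleton
      have h1 : Q.mapSurjective (QuotientGroup.mk'_surjective D) =
          R.mapSurjective (QuotientGroup.mk'_surjective D) := Subsingleton.elim _ _
      have h2 := congrArg (fun T : Sylow p (G ⧸ D) => (T : Subgroup (G ⧸ D))) h1
      simp only [Sylow.coe_mapSurjective] at h2
      have h3 := congrArg (Subgroup.comap (QuotientGroup.mk' D)) h2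
      rw [comap_map_eq, comap_map_eq, QuotientGroup.ker_mk', sup_eq_left.2 (hDle Q),
        sup_eq_left.2 (hDle R)] at h3
      exact Sylow.ext h3
  by_cases hnc : ∃ a b : G, a * b ≠ b * a
  swap
  · push Not at hnc
    refine Or.inr fun Q => ⟨fun x hx g => ?_⟩
    rwa [hnc g x, mul_inv_cancel_right]
  exfalso
  refine H74CyclicAb.Hyp.contradiction (G := G) (p := p) ⟨?_, hnc, hcyc, hab, ?_⟩
  · intro N hN
    by_contra hne
    push Not at hne
    obtain ⟨hN1, hN2⟩ := hne
    rcases ihH N hN2 with h | h
    · refine h3 ⟨N, hN, hN1, ?_⟩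
      have hbot : (Cfsg.pResidual p N).map N.subtype = ⊥ := by
        by_contra hne'
        refine h2 ⟨_, ?_, hne', ?_⟩
        · exact ConjAct.normal_of_characteristic_of_normal
        · rw [card_map_of_injective N.subtype_injective]
          exact TransferPResidual.hasNormalPComplement_iff_not_dvd.1 h
      rw [map_eq_bot_iff_of_injective _ N.subtype_injective] at hbot
      exact TransferPResidual.pResidual_eq_bot_iff.1 hbot
    · obtain ⟨R⟩ : Nonempty (Sylow p N) := inferInstance
      have : (R : Subgroup N).Characteristic := Sylow.characteristic_of_normal R (h R)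
      refine h3 ⟨(R : Subgroup N).map N.subtype, ConjAct.normal_of_characteristic_of_normal, ?_,
        R.2.map N.subtype⟩
      intro hb
      rw [map_eq_bot_iff_of_injective _ N.subtype_injective] at hb
      refine h2 ⟨N, hN, hN1, fun hd' => R.ne_bot_of_dvd_card hd' hb⟩
  · intro H hH
    refine (ihH H hH).imp id fun h Q hQ => ?_
    have h1 := h (Q.subtype hQ)
    rw [Sylow.coe_subtype] at h1
    exact (normal_subgroupOf_iff_le_normalizer hQ).1 h1

end

/-- Let G be a finite group and p a prime such that a Sylow p-subgroup P of G is cyclic and every subgroup of G of order prime to p is abelian. Then G has a normal p-complement or P is normal in G. -/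
theorem result {G : Type*} [Group G] [Finite G] {p : ℕ}
    [Fact p.Prime] (P : Sylow p G) (hcyc : IsCyclic P)
    (hab : ∀ H : Subgroup G, ¬ p ∣ Nat.card H → IsMulCommutative H) :
    Cfsg.HasNormalPComplement p G ∨ (P : Subgroup G).Normal := by
  have hall : ∀ Q : Sylow p G, IsCyclic (Q : Subgroup G) := fun Q => by
    have : IsCyclic (P : Subgroup G) := hcyc
    exact isCyclic_of_surjective (P.equiv Q).toMonoidHom (P.equiv Q).surjective
  refine (main p _ G rfl hall fun H hH a ha b hb => ?_).imp id fun h => h P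
  exact congrArg Subtype.val ((hab H hH).is_comm.comm ⟨a, ha⟩ ⟨b, hb⟩)

end Cfsg.Agent.S4016
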