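import Cfsg.Statements.S4018
import Cfsg.Agent.Lib.CharBasicInt
import Cfsg.Agent.Lib.CharBasicLinear
import Cfsg.Agent.Lib.CharInducedTI

set_option autoImplicit false
open Cfsg

namespace Cfsg.Agent.S4018

open Cfsg.Agent.CharBasic Cfsg.Agent.CharBasicOrth Cfsg.Agent.CharBasicDecomp
  Cfsg.Agent.CharBasicLinear
open scoped ComplexConjugate

/-- Two integers vectors: a support lemma for norm two. -/
theorem exists_two_of_sq_sum {ι : Type*} [Fintype ι] [DecidableEq ι] (f : ι → ℤ)
    (h : ∑ x, f x * f x = 2) :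
    ∃ a b, a ≠ b ∧ (f a = 1 ∨ f a = -1) ∧ (f b = 1 ∨ f b = -1) ∧
      ∀ x, x ≠ a → x ≠ b → f x = 0 := by
  have hsq : ∀ x, f x * f x ≤ 2 := fun x =>
    h ▸ Finset.single_le_sum (f := fun x => f x * f x) (fun _ _ => mul_self_nonneg _) (Finset.mem_univ x)
  have hb : ∀ x, f x = 1 ∨ f x = 0 ∨ f x = -1 := by
    intro x
    have h1 : f x ≤ 1 := by nlinarith [hsq x]
    have h2 : -1 ≤ f x := by nlinarith [hsq x]
    omega
  have hcard : (Finset.univ.filter fun x => f x ≠ 0).card = 2 := by
    have h1 : (∑ x, f x * f x) = ∑ x ∈ Finset.univ.filter (fun x => f x ≠ 0), (1 : ℤ) := by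
      rw [Finset.sum_filter]
      refine Finset.sum_congr rfl fun x _ => ?_
      rcases hb x with e | e | e <;> simp [e]
    rw [h, Finset.sum_const, nsmul_eq_mul, mul_one] at h1
    exact_mod_cast h1.symm
  obtain ⟨a, b, hab, hs⟩ := Finset.card_eq_two.1 hcard
  have hne : ∀ x, f x ≠ 0 ↔ x = a ∨ x = b := by
    intro x
    have := Finset.ext_iff.1 hs x
    simpa using this
  refine ⟨a, b, hab, ?_, ?_, fun x hxa hxb => ?_⟩
  · rcases hb a with e | e | e
    exacts [Or.inl e, absurd e ((hne a).2 (Or.inl rfl)), Or.inr e]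
  · rcases hb b with e | e | e
    exacts [Or.inl e, absurd e ((hne b).2 (Or.inr rfl)), Or.inr e]
  · by_contra hx
    rcases (hne x).1 hx with e | e
    exacts [hxa e, hxb e]

theorem sum_eq_pair {ι : Type*} [Fintype ι] [DecidableEq ι] (F : ι → ℤ) {a b : ι} (hab : a ≠ b)
    (h : ∀ x, x ≠ a → x ≠ b → F x = 0) : ∑ x, F x = F a + F b := by
  rw [← Finset.sum_subset (Finset.subset_univ {a, b}), Finset.sum_pair hab]
  intro x _ hx
  simp only [Finset.mem_insert, Finset.mem_singleton, not_or] at hx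
  exact h x hx.1 hx.2

section Group

variable {G : Type*} [Group G] [Finite G]

omit [Finite G] in
theorem center_eq_bot [IsSimpleGroup G] (hnab : ¬ ∀ a b : G, a * b = b * a) :
    Subgroup.center G = ⊥ := by
  rcases (Subgroup.center G).normal_of_characteristic.eq_bot_or_eq_top with h | h
  · exact h
  · exact absurd (fun a b => ((Subgroup.mem_center_iff.1 (h ▸ Subgroup.mem_top a)) b).symm) hnab

omit [Finite G] in
theorem centralizer_ne_top [IsSimpleGroup G] (hnab : ¬ ∀ a b : G, a * b = b * a) {z : G}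
    (hz : z ≠ 1) : Subgroup.centralizer ({z} : Set G) ≠ ⊤ := by
  intro h
  have hc : z ∈ Subgroup.center G := Subgroup.mem_center_iff.2 fun g =>
    Subgroup.mem_centralizer_singleton_iff.1 (h ▸ Subgroup.mem_top g)
  rw [center_eq_bot hnab, Subgroup.mem_bot] at hc
  exact hz hc

/-- The structure forced by the hypotheses. -/
structure Setup (G : Type*) [Group G] where
  n : ℕ
  three_le : 3 ≤ n
  odd_n : Odd n
  C : Subgroup G
  N : Subgroup G
  t : G
  a : G
  P : Subgroup G
  cardC : Nat.card C = 2 * n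
  cardN : Nat.card N = 4 * n
  commC : ∀ x y : C, x * y = y * x
  htC : t ∈ C
  ht : orderOf t = 2
  centT : Subgroup.centralizer ({t} : Set G) = N
  CleN : C ≤ N
  ti : ∀ g : G, g ∉ N → ∀ x ∈ C, g * x * g⁻¹ ∈ C → x = 1
  outside : ∀ g ∈ N, g ∉ C → orderOf g = 2 ∧ ∀ x ∈ C, g * x * g⁻¹ = x⁻¹
  haN : a ∈ N
  haC : a ∉ C
  invol : ∀ u : G, orderOf u = 2 → IsConj t u
  PleC : P ≤ C
  cardP : Nat.card P = n
  tP : t ∉ P
  small : ∀ u v : G, orderOf u = 2 → orderOf v = 2 → u * v ≠ 1 →
    ∃ y : G, y⁻¹ * (u * v) * y ∈ C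

theorem exists_setup [IsSimpleGroup G] (P : Sylow 3 G) (hab : IsMulCommutative P)
    (hN : Nat.card (Subgroup.normalizer ((P : Subgroup G) : Set G)) = 4 * Nat.card P)
    (hC : Nat.card (Subgroup.centralizer (P : Set G)) = 2 * Nat.card P)
    (hTI : Cfsg.IsTISubset (Subgroup.centralizer (P : Set G) : Set G))
    (heven : ∀ H : Subgroup G, H ≠ ⊤ → 2 ∣ Nat.card H → Nat.card H ∣ 4 * Nat.card P) :
    Nonempty (Setup G) ∧ ¬ ∀ a b : G, a * b = b * a := by
  classical
  set n := Nat.card P with hn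
  set C := Subgroup.centralizer (P : Set G) with hCdef
  set N0 := Subgroup.normalizer ((P : Subgroup G) : Set G) with hN0def
  have : Fact (Nat.Prime 3) := ⟨Nat.prime_three⟩
  obtain ⟨e, he⟩ := IsPGroup.iff_card.1 P.isPGroup'
  change n = 3 ^ e at he
  have hodd : Odd n := he ▸ Odd.pow (by decide)
  have hnpos : 0 < n := hodd.pos
  have hGeven : 2 ∣ Nat.card G :=
    (dvd_mul_right 2 n).trans (hC ▸ Subgroup.card_subgroup_dvd_card C)
  have h4G : 4 ∣ Nat.card G := (dvd_mul_right 4 n).trans (hN ▸ Subgroup.card_subgroup_dvd_card N0)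
  have hnab : ¬ ∀ a b : G, a * b = b * a := by
    intro hcomm
    let _ : CommGroup G := { (inferInstance : Group G) with mul_comm := hcomm }
    have hp : (Nat.card G).Prime := IsSimpleGroup.prime_card
    rcases (Nat.dvd_prime hp).1 hGeven with h | h
    · omega
    · rw [← h] at h4G; omega
  have hn1 : n ≠ 1 := by
    intro h1
    have hPbot : (P : Subgroup G) = ⊥ := Subgroup.eq_bot_of_card_eq _ h1
    have h4 : Nat.card G = 4 := by
      have hT : N0 = ⊤ := eq_top_iff.2 fun g _ => by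
        rw [hN0def, hPbot, Subgroup.mem_normalizer_iff]
        intro h
        simp [Subgroup.mem_bot]
      rw [← Subgroup.card_top (G := G), ← hT, hN, h1]
    exact hnab fun a b => (IsPGroup.isMulCommutative_of_card_eq_prime_sq (p := 2)
      (by rw [h4]; norm_num)).is_comm.comm a b
  have hn3 : 3 ≤ n := by
    rcases Nat.eq_zero_or_pos e with he0 | he0
    · rw [he0, pow_zero] at he; exact absurd he hn1
    · exact he ▸ Nat.le_self_pow he0.ne' 3
  obtain ⟨t', ht'⟩ := exists_prime_orderOf_dvd_card' (G := C) 2 (hC ▸ dvd_mul_right 2 n)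
  set t : G := (t' : G) with htdef
  have ht : orderOf t = 2 := (Subgroup.orderOf_coe t').trans ht'
  have htC : t ∈ C := t'.2
  have hPC : (P : Subgroup G) ≤ C := fun x hx =>
    Subgroup.mem_centralizer_iff.2 fun y hy => congrArg Subtype.val (hab.is_comm.comm ⟨y, hy⟩ ⟨x, hx⟩)
  have ht1 : t ≠ 1 := fun h => by rw [h, orderOf_one] at ht; omega
  have htt : t * t = 1 := by rw [← sq, ← ht, pow_orderOf_eq_one]
  have htP : t ∉ (P : Subgroup G) := fun h => by
    have h2 : 2 ∣ n := by
      have := orderOf_dvd_natCard (⟨t, h⟩ : (P : Subgroup G))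
      rwa [Subgroup.orderOf_mk, ht] at this
    exact hodd.not_two_dvd_nat h2
  have hPidx : ((P : Subgroup G).subgroupOf C).index = 2 := by
    have h := Subgroup.card_mul_index ((P : Subgroup G).subgroupOf C)
    rw [Nat.card_congr (Subgroup.subgroupOfEquivOfLe hPC).toEquiv, hC, mul_comm 2 n] at h
    exact Nat.eq_of_mul_eq_mul_left hnpos h
  have hcl : ∀ x ∈ C, x ∈ (P : Subgroup G) ∨ ∃ p ∈ (P : Subgroup G), x = t * p := by
    intro x hx
    by_cases hxP : x ∈ (P : Subgroup G)
    · exact Or.inl hxP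
    · refine Or.inr ⟨t⁻¹ * x, ?_, by group⟩
      have h := (Subgroup.mul_mem_iff_of_index_two hPidx
        (a := (t' : C)⁻¹) (b := (⟨x, hx⟩ : C))).2
          (iff_of_false (fun h => htP (inv_mem_iff.1 h)) hxP)
      exact h
  have hcomm : ∀ x y : C, x * y = y * x := by
    have hPc : ∀ p ∈ (P : Subgroup G), ∀ y ∈ C, p * y = y * p := fun p hp y hy =>
      Subgroup.mem_centralizer_iff.1 hy p hp
    rintro ⟨x, hx⟩ ⟨y, hy⟩
    apply Subtype.ext
    change x * y = y * x
    rcases hcl x hx with h | ⟨p, hp, rfl⟩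
    · exact hPc x h y hy
    · rcases hcl y hy with h | ⟨q, hq, rfl⟩
      · exact (hPc y h _ hx).symm
      · have hqt := hPc q hq t htC
        have hpt := hPc p hp t htC
        have hpq := hPc p hp q (hPC hq)
        calc t * p * (t * q) = t * (p * t) * q := by group
          _ = t * (t * p) * q := by rw [hpt]
          _ = t * t * (p * q) := by group
          _ = t * t * (q * p) := by rw [hpq]
          _ = t * (t * q) * p := by group
          _ = t * (q * t) * p := by rw [hqt]
          _ = t * q * (t * p) := by group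
  have huniq : ∀ x ∈ C, orderOf x = 2 → x = t := by
    intro x hx hox
    rcases hcl x hx with h | ⟨p, hp, rfl⟩
    · have := orderOf_dvd_natCard (⟨x, h⟩ : (P : Subgroup G))
      rw [Subgroup.orderOf_mk, hox] at this
      exact absurd this hodd.not_two_dvd_nat
    · have hpt : p * t = t * p := Subgroup.mem_centralizer_iff.1 htC p hp
      have hp2 : p ^ 2 = 1 := by
        have h1 : (t * p) ^ 2 = 1 := by rw [← hox, pow_orderOf_eq_one]
        calc p ^ 2 = t * t * (p * p) := by rw [htt, one_mul, sq]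
          _ = t * (t * p) * p := by group
          _ = t * (p * t) * p := by rw [hpt]
          _ = (t * p) ^ 2 := by rw [sq]; group
          _ = 1 := h1
      have hp1 : p = 1 := by
        have hd := orderOf_dvd_of_pow_eq_one hp2
        have hd' := orderOf_dvd_natCard (⟨p, hp⟩ : (P : Subgroup G))
        rw [Subgroup.orderOf_mk] at hd'
        rcases (Nat.dvd_prime Nat.prime_two).1 hd with h | h
        · exact orderOf_eq_one_iff.1 h
        · exact absurd (h ▸ hd') hodd.not_two_dvd_nat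
      rw [hp1, mul_one]
  have hnormC : ∀ g ∈ N0, ∀ x ∈ C, g * x * g⁻¹ ∈ C := by
    intro g hg x hx
    refine Subgroup.mem_centralizer_iff.2 fun y hy => ?_
    have hy' : g⁻¹ * y * g ∈ (P : Subgroup G) := by
      have := (Subgroup.mem_normalizer_iff.1 (inv_mem hg) y).1 hy
      simpa using this
    have := Subgroup.mem_centralizer_iff.1 hx _ hy'
    calc y * (g * x * g⁻¹) = g * (g⁻¹ * y * g * x) * g⁻¹ := by group
      _ = g * (x * (g⁻¹ * y * g)) * g⁻¹ := by rw [this]
      _ = g * x * g⁻¹ * y := by group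
  have hconjord : ∀ g x : G, orderOf (g * x * g⁻¹) = orderOf x := fun g x => by
    rw [show g * x * g⁻¹ = MulAut.conj g x from rfl, MulEquiv.orderOf_eq]
  have hNle : N0 ≤ Subgroup.centralizer ({t} : Set G) := fun g hg => by
    have := huniq _ (hnormC g hg t htC) ((hconjord g t).trans ht)
    exact Subgroup.mem_centralizer_singleton_iff.2 (mul_inv_eq_iff_eq_mul.1 this)
  have hcentT : Subgroup.centralizer ({t} : Set G) = N0 := by
    refine (Subgroup.eq_of_le_of_card_ge hNle ?_).symm
    rw [hN]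
    refine Nat.le_of_dvd (by omega) (heven _ (centralizer_ne_top hnab ht1) ?_)
    have hmem : t ∈ Subgroup.centralizer ({t} : Set G) := Subgroup.mem_centralizer_singleton_iff.2 rfl
    have := orderOf_dvd_natCard (⟨t, hmem⟩ : Subgroup.centralizer ({t} : Set G))
    rwa [Subgroup.orderOf_mk, ht] at this
  have hNC : Subgroup.normalizer (C : Set G) = N0 := by
    refine le_antisymm (fun g hg => ?_) (fun g hg => ?_)
    · rw [← hcentT]
      have := huniq _ ((Subgroup.mem_normalizer_iff.1 hg t).1 htC) ((hconjord g t).trans ht)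
      exact Subgroup.mem_centralizer_singleton_iff.2 (mul_inv_eq_iff_eq_mul.1 this)
    · refine Subgroup.mem_normalizer_iff.2 fun x => ⟨hnormC g hg x, fun h => ?_⟩
      have := hnormC g⁻¹ (inv_mem hg) _ h
      simpa [mul_assoc] using this
  have hti : ∀ g : G, g ∉ N0 → ∀ x ∈ C, g * x * g⁻¹ ∈ C → x = 1 := by
    intro g hg
    exact hTI g (hNC ▸ hg)
  have hCN : C ≤ N0 := fun x hx => hcentT ▸
    Subgroup.mem_centralizer_singleton_iff.2
      (congrArg Subtype.val (hcomm ⟨x, hx⟩ ⟨t, htC⟩))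
  -- Sylow two-subgroup
  have : Fact (Nat.Prime 2) := ⟨Nat.prime_two⟩
  have htwo : IsPGroup 2 (Subgroup.zpowers t) :=
    IsPGroup.of_card (n := 1) (by rw [Nat.card_zpowers, ht, pow_one])
  obtain ⟨S, hS⟩ := htwo.exists_le_sylow
  have htS : t ∈ (S : Subgroup G) := hS (Subgroup.mem_zpowers t)
  have h4S : 4 ∣ Nat.card S := by
    rw [show (4 : ℕ) = 2 ^ 2 from rfl]
    exact S.pow_dvd_card_of_pow_dvd_card h4G
  obtain ⟨c, hc⟩ := IsPGroup.iff_card.1 S.isPGroup'
  have hScard : Nat.card S = 4 := by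
    have : Nontrivial S := ⟨⟨⟨t, htS⟩, 1, fun h => ht1 (congrArg Subtype.val h)⟩⟩
    have := S.isPGroup'.center_nontrivial
    obtain ⟨⟨z, hz⟩, hz1⟩ := exists_ne (1 : Subgroup.center S)
    have hz1' : (z : G) ≠ 1 := fun h => hz1 (Subtype.ext (Subtype.ext h))
    have hle : (S : Subgroup G) ≤ Subgroup.centralizer ({(z : G)} : Set G) := fun x hx =>
      Subgroup.mem_centralizer_singleton_iff.2
        (congrArg Subtype.val (Subgroup.mem_center_iff.1 hz ⟨x, hx⟩))
    have hd : Nat.card S ∣ 4 * n := (Subgroup.card_dvd_of_le hle).trans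
      (heven _ (centralizer_ne_top hnab hz1')
        (((dvd_mul_right 2 2).trans h4S).trans (Subgroup.card_dvd_of_le hle)))
    rw [hc] at hd
    have hd4 : 2 ^ c ∣ 4 :=
      ((Nat.coprime_two_left.2 hodd).pow_left c).dvd_of_dvd_mul_right hd
    exact Nat.dvd_antisymm (hc ▸ hd4) h4S
  -- S is elementary abelian
  have hnoburn : ¬ Subgroup.normalizer ((S : Subgroup G) : Set G) ≤
      Subgroup.centralizer ((S : Subgroup G) : Set G) := by
    intro hle
    have hnorm : (MonoidHom.transferSylow S hle).ker.Normal := MonoidHom.normal_ker _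
    have hcpl := MonoidHom.ker_transferSylow_isComplement' S hle
    rcases hnorm.eq_bot_or_eq_top with h | h
    · have hmul := hcpl.card_mul_card
      rw [h, Subgroup.card_bot, one_mul] at hmul
      have : IsMulCommutative G := by
        refine IsPGroup.isMulCommutative_of_card_eq_prime_sq (p := 2) ?_
        rw [← hmul, hScard]; norm_num
      exact hnab fun a b => this.is_comm.comm a b
    · have := MonoidHom.not_dvd_card_ker_transferSylow S hle
      rw [h, Subgroup.card_top] at this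
      exact this hGeven
  have hScomm : IsMulCommutative S :=
    IsPGroup.isMulCommutative_of_card_eq_prime_sq (p := 2) (by rw [hScard]; norm_num)
  have hsq : ∀ x ∈ (S : Subgroup G), x * x = 1 := by
    intro x hx
    have hd := orderOf_dvd_natCard (⟨x, hx⟩ : (S : Subgroup G))
    rw [Subgroup.orderOf_mk, hScard] at hd
    obtain ⟨j, hj, he⟩ := (Nat.dvd_prime_pow Nat.prime_two (m := 2)).1 (by simpa using hd)
    interval_cases j
    · rw [pow_zero, orderOf_eq_one_iff] at he; simp [he]
    · rw [← sq, ← show orderOf x = 2 from by simpa using he, pow_orderOf_eq_one]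
    · exfalso
      refine hnoburn ?_
      have hcyc : IsCyclic S := isCyclic_of_orderOf_eq_card (⟨x, hx⟩ : (S : Subgroup G))
        (by rw [Subgroup.orderOf_mk, he, hScard]; norm_num)
      refine hcyc.normalizer_le_centralizer ?_
      exact le_antisymm (Nat.minFac_le_of_dvd le_rfl hGeven)
        (Nat.minFac_prime (by intro h; rw [h] at hGeven; omega)).two_le
  have hall : ∀ x ∈ (S : Subgroup G), ∀ y ∈ (S : Subgroup G), x ≠ 1 → y ≠ 1 → x ≠ y →
      ∀ z ∈ (S : Subgroup G), z = 1 ∨ z = x ∨ z = y ∨ z = x * y := by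
    intro x hx y hy hx1 hy1 hxy z hz
    have := Fintype.ofFinite G
    let T := Finset.univ.filter fun w : G => w ∈ (S : Subgroup G)
    have hT : T.card = 4 := by
      rw [← hScard, Nat.card_eq_fintype_card]
      exact (Fintype.card_subtype _).symm
    have hne : x * y ≠ 1 := fun h => hxy (by
      calc x = x * (y * y) := by rw [hsq y hy, mul_one]
        _ = x * y * y := by group
        _ = y := by rw [h, one_mul])
    have hsub : ({1, x, y, x * y} : Finset G) ⊆ T := by
      intro w hw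
      simp only [Finset.mem_insert, Finset.mem_singleton] at hw
      rcases hw with rfl | rfl | rfl | rfl <;> simp [T, hx, hy, mul_mem]
    have hc4 : ({1, x, y, x * y} : Finset G).card = 4 := by
      have e1 : x ≠ x * y := fun h => hy1 (left_eq_mul.1 h)
      have e2 : y ≠ x * y := fun h => hx1 (right_eq_mul.1 h)
      rw [Finset.card_insert_of_notMem, Finset.card_insert_of_notMem, Finset.card_pair e2]
      · simp [hxy, e1]
      · simp [hx1.symm, hy1.symm, hne.symm]
    have hzT : z ∈ T := by simp [T, hz]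
    rw [← Finset.eq_of_subset_of_card_le hsub (by rw [hT, hc4])] at hzT
    simpa using hzT
  set m := (S : Subgroup G).index with hm
  obtain ⟨j, hj⟩ : Odd m := by
    rw [← Nat.not_even_iff_odd, even_iff_two_dvd]
    exact S.not_dvd_index
  have hfix : ∀ g ∈ Subgroup.normalizer ((S : Subgroup G) : Set G), ∀ x ∈ (S : Subgroup G),
      x ≠ 1 → g * x * g⁻¹ = x → ∀ y ∈ (S : Subgroup G), g * y * g⁻¹ = y := by
    intro g hg x hx hx1 hgx y hy
    by_cases hy1 : y = 1
    · simp [hy1]
    by_cases hyx : y = x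
    · rw [hyx]; exact hgx
    have hz : g * y * g⁻¹ ∈ (S : Subgroup G) := (Subgroup.mem_normalizer_iff.1 hg y).1 hy
    rcases hall x hx y hy hx1 hy1 (Ne.symm hyx) _ hz with e | e | e | e
    · exact absurd (conj_eq_one_iff.1 e) hy1
    · exact absurd (mul_left_cancel (mul_right_cancel (e.trans hgx.symm))) hyx
    · exact e
    · exfalso
      have hg2 : Commute (g ^ 2) y := by
        refine mul_inv_eq_iff_eq_mul.1 ?_
        calc g ^ 2 * y * (g ^ 2)⁻¹ = g * (g * y * g⁻¹) * g⁻¹ := by rw [sq]; group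
          _ = g * (x * y) * g⁻¹ := by rw [e]
          _ = g * x * g⁻¹ * (g * y * g⁻¹) := by group
          _ = x * (x * y) := by rw [hgx, e]
          _ = y := by rw [← mul_assoc, hsq x hx, one_mul]
      set Q := Subgroup.normalizer ((S : Subgroup G) : Set G) with hQ
      have hgm : g ^ m ∈ (S : Subgroup G) := by
        have hle : (S : Subgroup G) ≤ Q := Subgroup.le_normalizer
        have hnorm : ((S : Subgroup G).subgroupOf Q).Normal := Subgroup.normal_in_normalizer
        have h1 : (⟨g, hg⟩ : Q) ^ ((S : Subgroup G).subgroupOf Q).index ∈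
            (S : Subgroup G).subgroupOf Q := Subgroup.pow_index_mem _ _
        obtain ⟨i, hi⟩ : ((S : Subgroup G).subgroupOf Q).index ∣ m :=
          Subgroup.relIndex_dvd_index_of_le hle
        rw [hi, pow_mul]
        exact pow_mem (Subgroup.mem_subgroupOf.1 h1) i
      have hcm : Commute (g ^ m) y := congrArg Subtype.val (hScomm.is_comm.comm ⟨_, hgm⟩ ⟨y, hy⟩)
      have hcg : Commute g y := by
        have h1 : g = g ^ m * ((g ^ 2) ^ j)⁻¹ := by
          rw [← pow_mul, hj, eq_mul_inv_iff_mul_eq, ← pow_succ']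
        rw [h1]
        exact Commute.mul_left hcm (hg2.pow_left j).inv_left
      have : g * y * g⁻¹ = y := mul_inv_eq_iff_eq_mul.2 hcg
      rw [this] at e
      exact hx1 (right_eq_mul.1 e)
  obtain ⟨g, hg, hgnc⟩ := SetLike.not_le_iff_exists.1 hnoburn
  have hmove : ∀ x ∈ (S : Subgroup G), x ≠ 1 → g * x * g⁻¹ ≠ x := by
    intro x hx hx1 hgx
    refine hgnc (Subgroup.mem_centralizer_iff.2 fun y hy => ?_)
    exact (mul_inv_eq_iff_eq_mul.1 (hfix g hg x hx hx1 hgx y hy)).symm
  set a := g * t * g⁻¹ with had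
  have haS : a ∈ (S : Subgroup G) := (Subgroup.mem_normalizer_iff.1 hg t).1 htS
  have hat : a ≠ t := hmove t htS ht1
  have ha1 : a ≠ 1 := fun h => ht1 (conj_eq_one_iff.1 h)
  have hta : IsConj t a := isConj_iff.2 ⟨g, rfl⟩
  have hinvol : ∀ u : G, orderOf u = 2 → IsConj t u := by
    intro u hu
    have h2u : IsPGroup 2 (Subgroup.zpowers u) :=
      IsPGroup.of_card (n := 1) (by rw [Nat.card_zpowers, hu, pow_one])
    obtain ⟨S', hS'⟩ := h2u.exists_le_sylow
    obtain ⟨y, hy⟩ := MulAction.exists_smul_eq G S S'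
    have huS : y⁻¹ * u * y ∈ (S : Subgroup G) := by
      have := hS' (Subgroup.mem_zpowers u)
      rw [← hy, Sylow.smul_def, Sylow.pointwise_smul_def] at this
      simpa [Subgroup.mem_pointwise_smul_iff_inv_smul_mem, MulAut.smul_def] using this
    have huc : IsConj (y⁻¹ * u * y) u := isConj_iff.2 ⟨y, by group⟩
    refine IsConj.trans ?_ huc
    have hne : y⁻¹ * u * y ≠ 1 := fun h => by
      have := (hconjord y⁻¹ u)
      rw [inv_inv, h, orderOf_one, hu] at this
      omega
    rcases hall t htS a haS ht1 ha1 hat.symm _ huS with e | e | e | e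
    · exact absurd e hne
    · rw [e]
    · rw [e]; exact hta
    · rw [e]
      refine hta.trans (isConj_iff.2 ⟨g, ?_⟩)
      have hga : g * a * g⁻¹ ∈ (S : Subgroup G) := (Subgroup.mem_normalizer_iff.1 hg a).1 haS
      rcases hall t htS a haS ht1 ha1 hat.symm _ hga with e' | e' | e' | e'
      · exact absurd (conj_eq_one_iff.1 e') ha1
      · exfalso
        refine hmove (t * a) (mul_mem htS haS) ?_ ?_
        · intro h
          refine hat ?_
          calc a = t * t * a := by rw [htt, one_mul]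
            _ = t * (t * a) := by group
            _ = t := by rw [h, mul_one]
        · calc g * (t * a) * g⁻¹ = g * t * g⁻¹ * (g * a * g⁻¹) := by group
            _ = a * t := by rw [e']
            _ = t * a := congrArg Subtype.val (hScomm.is_comm.comm ⟨a, haS⟩ ⟨t, htS⟩)
      · exact absurd e' (hmove a haS ha1)
      · exact e'
  have haN : a ∈ N0 := hcentT ▸ Subgroup.mem_centralizer_singleton_iff.2
    (congrArg Subtype.val (hScomm.is_comm.comm ⟨a, haS⟩ ⟨t, htS⟩))
  have hoa : orderOf a = 2 := (hconjord g t).trans ht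
  have haC : a ∉ C := fun h => hat (huniq a h hoa)
  have haa : a * a = 1 := hsq a haS
  have hthree : ∀ x : G, orderOf x ∣ n → ∃ y : G, y⁻¹ * x * y ∈ (P : Subgroup G) := by
    intro x hx
    obtain ⟨i, -, hi⟩ := (Nat.dvd_prime_pow Nat.prime_three).1 (he ▸ hx)
    have h3 : IsPGroup 3 (Subgroup.zpowers x) :=
      IsPGroup.of_card (n := i) (by rw [Nat.card_zpowers, hi])
    obtain ⟨P', hP'⟩ := h3.exists_le_sylow
    obtain ⟨y, hy⟩ := MulAction.exists_smul_eq G P P'
    refine ⟨y, ?_⟩
    have := hP' (Subgroup.mem_zpowers x)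
    rw [← hy, Sylow.smul_def, Sylow.pointwise_smul_def] at this
    simpa [Subgroup.mem_pointwise_smul_iff_inv_smul_mem, MulAut.smul_def] using this
  have hPN : ∀ x ∈ N0, orderOf x ∣ n → x ∈ (P : Subgroup G) := by
    intro x hx hox
    obtain ⟨i, -, hi⟩ := (Nat.dvd_prime_pow Nat.prime_three).1 (he ▸ hox)
    have h3 : IsPGroup 3 (Subgroup.zpowers x) :=
      IsPGroup.of_card (n := i) (by rw [Nat.card_zpowers, hi])
    have hle : Subgroup.zpowers x ≤ N0 := Subgroup.zpowers_le.2 hx
    have hsup : IsPGroup 3 (Subgroup.zpowers x ⊔ (P : Subgroup G) : Subgroup G) :=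
      IsPGroup.to_sup_of_normal_right' h3 P.isPGroup' hle
    exact (P.3 hsup le_sup_right).le (le_sup_left (b := (P : Subgroup G)) (Subgroup.mem_zpowers x))
  have hainvP : ∀ x ∈ (P : Subgroup G), a * x * a⁻¹ = x⁻¹ := by
    intro x hx
    have hax : a * x * a⁻¹ ∈ (P : Subgroup G) := (Subgroup.mem_normalizer_iff.1 haN x).1 hx
    set z := x * (a * x * a⁻¹) with hz
    have hzP : z ∈ (P : Subgroup G) := mul_mem hx hax
    have hzn : orderOf z ∣ n := by
      have := orderOf_dvd_natCard (⟨z, hzP⟩ : (P : Subgroup G))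
      rwa [Subgroup.orderOf_mk] at this
    have hza : a * z * a⁻¹ = z := by
      have hainv : a⁻¹ = a := inv_eq_of_mul_eq_one_right haa
      calc a * z * a⁻¹ = a * x * a⁻¹ * (a * a * x * (a * a)⁻¹) := by rw [hz]; group
        _ = a * x * a⁻¹ * x := by rw [haa, inv_one, one_mul, mul_one]
        _ = z := congrArg Subtype.val (hab.is_comm.comm ⟨_, hax⟩ ⟨x, hx⟩)
    have hz' : g⁻¹ * z * g ∈ (P : Subgroup G) := by
      refine hPN _ ?_ ?_
      · rw [← hcentT]
        refine Subgroup.mem_centralizer_singleton_iff.2 ?_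
        calc g⁻¹ * z * g * t = g⁻¹ * (z * a) * g := by rw [had]; group
          _ = g⁻¹ * (a * z) * g := by rw [mul_inv_eq_iff_eq_mul.1 hza]
          _ = t * (g⁻¹ * z * g) := by rw [had]; group
      · have := hconjord g⁻¹ z
        rw [inv_inv] at this
        rw [this]; exact hzn
    have hz1 : z = 1 := by
      refine hti g⁻¹ (fun h => hat ?_) z (hPC hzP) (by simpa using hPC hz')
      have hgN : g ∈ N0 := by simpa using inv_mem h
      rw [← hcentT, Subgroup.mem_centralizer_singleton_iff] at hgN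
      exact mul_inv_eq_iff_eq_mul.2 hgN
    exact eq_inv_of_mul_eq_one_right hz1
  have hainvC : ∀ x ∈ C, a * x * a⁻¹ = x⁻¹ := by
    intro x hx
    rcases hcl x hx with h | ⟨p, hp, rfl⟩
    · exact hainvP x h
    · have hat' : a * t * a⁻¹ = t :=
        mul_inv_eq_iff_eq_mul.2 (congrArg Subtype.val (hScomm.is_comm.comm ⟨a, haS⟩ ⟨t, htS⟩))
      have htinv : t⁻¹ = t := inv_eq_of_mul_eq_one_right htt
      have hpt : p * t = t * p := Subgroup.mem_centralizer_iff.1 htC p hp
      calc a * (t * p) * a⁻¹ = a * t * a⁻¹ * (a * p * a⁻¹) := by group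
        _ = t * p⁻¹ := by rw [hat', hainvP p hp]
        _ = (p * t)⁻¹ := by rw [mul_inv_rev, htinv]
        _ = (t * p)⁻¹ := by rw [hpt]
  have hidx : (C.subgroupOf N0).index = 2 := by
    have h := Subgroup.card_mul_index (C.subgroupOf N0)
    rw [Nat.card_congr (Subgroup.subgroupOfEquivOfLe hCN).toEquiv, hC, hN] at h
    have h' : 2 * n * (C.subgroupOf N0).index = 2 * n * 2 := by rw [h]; ring
    exact Nat.eq_of_mul_eq_mul_left (by omega) h'
  have houtside : ∀ y ∈ N0, y ∉ C → orderOf y = 2 ∧ ∀ x ∈ C, y * x * y⁻¹ = x⁻¹ := by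
    intro y hy hyC
    have hc0 : y * a ∈ C := (Subgroup.mul_mem_iff_of_index_two hidx
      (a := (⟨y, hy⟩ : N0)) (b := (⟨a, haN⟩ : N0))).2 (iff_of_false hyC haC)
    have hy' : y = y * a * a := by rw [mul_assoc, haa, mul_one]
    refine ⟨orderOf_eq_prime ?_ (fun h => hyC (h ▸ one_mem C)), fun x hx => ?_⟩
    · have := hainvC _ hc0
      calc y ^ 2 = y * a * (a * (y * a) * a⁻¹) := by rw [sq]; nth_rewrite 1 [hy']; group
        _ = 1 := by rw [this, mul_inv_cancel]
    · calc y * x * y⁻¹ = y * a * (a⁻¹ * x * a) * (y * a)⁻¹ := by group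
        _ = y * a * x⁻¹ * (y * a)⁻¹ := by
            have hainv : a⁻¹ = a := inv_eq_of_mul_eq_one_right haa
            have h := hainvC x hx
            rw [hainv] at h ⊢
            rw [h]
        _ = x⁻¹ := by
            have := congrArg Subtype.val (hcomm ⟨_, hc0⟩ ⟨x⁻¹, inv_mem hx⟩)
            exact mul_inv_eq_iff_eq_mul.2 this
  have hclass : ∀ x : G, orderOf x ∣ 4 * n → ∃ y : G, y⁻¹ * x * y ∈ C := by
    intro x hx
    by_cases h2 : 2 ∣ orderOf x
    · obtain ⟨i, hi⟩ := h2
      have hpos := (isOfFinOrder_of_finite x).orderOf_pos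
      have hi0 : i ≠ 0 := fun h => by rw [h, mul_zero] at hi; omega
      have hz : orderOf (x ^ i) = 2 := by
        rw [orderOf_pow' _ hi0, hi, Nat.gcd_eq_right (dvd_mul_left i 2),
          Nat.mul_div_cancel _ (Nat.pos_of_ne_zero hi0)]
      obtain ⟨y, hy⟩ := isConj_iff.1 (hinvol _ hz)
      have hyN : y⁻¹ * x * y ∈ N0 := by
        rw [← hcentT]
        refine Subgroup.mem_centralizer_singleton_iff.2 ?_
        have hc : x * x ^ i = x ^ i * x := (Commute.self_pow x i).eq
        rw [← hy] at hc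
        calc y⁻¹ * x * y * t = y⁻¹ * (x * (y * t * y⁻¹)) * y := by group
          _ = y⁻¹ * (y * t * y⁻¹ * x) * y := by rw [hc]
          _ = t * (y⁻¹ * x * y) := by group
      by_cases hC' : y⁻¹ * x * y ∈ C
      · exact ⟨y, hC'⟩
      · obtain ⟨w, hw⟩ := isConj_iff.1 (hinvol _ (houtside _ hyN hC').1)
        refine ⟨y * w, ?_⟩
        have : (y * w)⁻¹ * x * (y * w) = w⁻¹ * (y⁻¹ * x * y) * w := by group
        rw [this, ← hw]
        simpa [mul_assoc] using htC
    · have hxn : orderOf x ∣ n := by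
        have hcop : (orderOf x).Coprime 4 := by
          rw [show (4 : ℕ) = 2 ^ 2 from rfl]
          exact ((Nat.prime_two.coprime_iff_not_dvd.2 h2).symm).pow_right 2
        exact hcop.dvd_of_dvd_mul_left hx
      obtain ⟨y, hy⟩ := hthree x hxn
      exact ⟨y, hPC hy⟩
  refine ⟨⟨⟨n, hn3, hodd, C, N0, t, a, (P : Subgroup G), hC, hN, hcomm, htC, ht, hcentT,
    hCN, hti, houtside, haN, haC, hinvol, hPC, rfl, htP, ?_⟩⟩, hnab⟩
  intro u v hu hv huv
  set x := u * v with hx
  have huu : u * u = 1 := by rw [← sq, ← hu, pow_orderOf_eq_one]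
  have hvv : v * v = 1 := by rw [← sq, ← hv, pow_orderOf_eq_one]
  set D := Subgroup.closure ({u, v} : Set G) with hD
  have huD : u ∈ D := Subgroup.subset_closure (by simp)
  have hvD : v ∈ D := Subgroup.subset_closure (by simp)
  have hDne : D ≠ ⊤ := by
    intro htop
    have hnormal : (Subgroup.zpowers x).Normal := by
      rw [← Subgroup.normalizer_eq_top_iff, eq_top_iff, ← htop, hD, Subgroup.closure_le]
      have hinv : ∀ w : G, w * w = 1 → w * x * w⁻¹ = x⁻¹ → w ∈
          (Subgroup.normalizer ((Subgroup.zpowers x : Subgroup G) : Set G) : Set G) := by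
        intro w hww hwx
        have hwinv : w⁻¹ = w := inv_eq_of_mul_eq_one_right hww
        have hz : ∀ z ∈ Subgroup.zpowers x, w * z * w⁻¹ ∈ Subgroup.zpowers x := by
          intro z hz
          obtain ⟨i, rfl⟩ := Subgroup.mem_zpowers_iff.1 hz
          rw [← conj_zpow, hwx]
          exact Subgroup.zpow_mem _ (inv_mem (Subgroup.mem_zpowers x)) i
        refine Subgroup.mem_normalizer_iff.2 fun z => ⟨hz z, fun h => ?_⟩
        have h2 := hz _ h
        have : w * (w * z * w⁻¹) * w⁻¹ = z := by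
          rw [hwinv]
          calc w * (w * z * w) * w = (w * w) * z * (w * w) := by group
            _ = z := by rw [hww, one_mul, mul_one]
        rwa [this] at h2
      have hui : u⁻¹ = u := inv_eq_of_mul_eq_one_right huu
      have hvi : v⁻¹ = v := inv_eq_of_mul_eq_one_right hvv
      intro w hw
      simp only [Set.mem_insert_iff, Set.mem_singleton_iff] at hw
      rcases hw with rfl | rfl
      · refine hinv _ huu ?_
        rw [hx, mul_inv_rev, hvi, hui, ← mul_assoc, huu, one_mul]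
      · refine hinv _ hvv ?_
        rw [hx, mul_inv_rev, hvi, hui, mul_assoc, mul_assoc, hvv, mul_one]
    rcases hnormal.eq_bot_or_eq_top with h | h
    · exact huv (Subgroup.zpowers_eq_bot.1 h)
    · refine hnab fun y z => ?_
      have hy : y ∈ Subgroup.zpowers x := h ▸ Subgroup.mem_top y
      have hz : z ∈ Subgroup.zpowers x := h ▸ Subgroup.mem_top z
      obtain ⟨i, rfl⟩ := Subgroup.mem_zpowers_iff.1 hy
      obtain ⟨l, rfl⟩ := Subgroup.mem_zpowers_iff.1 hz
      exact zpow_mul_comm x i l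
  refine hclass x ?_
  have h2D : 2 ∣ Nat.card D := by
    have := orderOf_dvd_natCard (⟨u, huD⟩ : D)
    rwa [Subgroup.orderOf_mk, hu] at this
  have hxD := orderOf_dvd_natCard (⟨x, mul_mem huD hvD⟩ : D)
  rw [Subgroup.orderOf_mk] at hxD
  exact hxD.trans (heven D hDne h2D)

end Group


section Combinatorics

/-- The configuration forced on a family of norm two vectors with pairwise inner products one. -/
theorem core {I J : Type*} [Fintype J] [DecidableEq I] [DecidableEq J] (R : Finset I) (bar : I → I)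
    (c : I → J → ℤ) (deg : J → ℤ) (hR : 3 ≤ R.card)
    (hbarR : ∀ μ ∈ R, bar μ ∈ R) (hbar : ∀ μ, bar (bar μ) = μ) (hne : ∀ μ ∈ R, bar μ ≠ μ)
    (hsym : ∀ μ ψ, c (bar μ) ψ = c μ ψ)
    (hnorm : ∀ μ ∈ R, ∑ ψ, c μ ψ * c μ ψ = 2)
    (hinner : ∀ μ ∈ R, ∀ ν ∈ R, μ ≠ ν → μ ≠ bar ν → ∑ ψ, c μ ψ * c ν ψ = 1)
    (hdeg : ∀ μ ∈ R, ∑ ψ, c μ ψ * deg ψ = -1) :
    ∃ l ∈ R, ∃ η θ : J, ∃ A B : ℤ, η ≠ θ ∧ (A = 1 ∨ A = -1) ∧ (B = 1 ∨ B = -1) ∧
      c l η = A ∧ c l θ = B ∧ (∀ ψ, ψ ≠ η → ψ ≠ θ → c l ψ = 0) ∧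
      (∀ μ ∈ R, c μ η = A) ∧ (∀ μ ∈ R, μ ≠ l → μ ≠ bar l → c μ θ = 0) := by
  obtain ⟨l, hl⟩ : R.Nonempty := Finset.card_pos.1 (by omega)
  obtain ⟨l', hl', hl'n⟩ : ∃ l' ∈ R, l' ∉ ({l, bar l} : Finset I) :=
    Finset.exists_mem_notMem_of_card_lt_card (lt_of_le_of_lt (Finset.card_le_two) (by omega))
  simp only [Finset.mem_insert, Finset.mem_singleton, not_or] at hl'n
  obtain ⟨a, b, hab, ha, hb, h0⟩ := exists_two_of_sq_sum _ (hnorm l hl)
  obtain ⟨a', b', hab', ha', hb', h0'⟩ := exists_two_of_sq_sum _ (hnorm l' hl')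
  have hbd : ∀ x, c l' x = 1 ∨ c l' x = 0 ∨ c l' x = -1 := by
    intro x
    by_cases h1 : x = a'
    · subst h1; omega
    by_cases h2 : x = b'
    · subst h2; omega
    exact Or.inr (Or.inl (h0' x h1 h2))
  have hll : ∑ ψ, c l ψ * c l' ψ = 1 :=
    hinner l hl l' hl' (Ne.symm hl'n.1) (fun h => hl'n.2 (by rw [h, hbar]))
  rw [sum_eq_pair _ hab (fun x h1 h2 => by rw [h0 x h1 h2, zero_mul])] at hll
  obtain ⟨η, θ, A, B, hne', hA, hB, hlη, hlθ, hl0, hl'η, hl'θ⟩ :
      ∃ η θ : J, ∃ A B : ℤ, η ≠ θ ∧ (A = 1 ∨ A = -1) ∧ (B = 1 ∨ B = -1) ∧ c l η = A ∧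
        c l θ = B ∧ (∀ ψ, ψ ≠ η → ψ ≠ θ → c l ψ = 0) ∧ c l' η = A ∧ c l' θ = 0 := by
    by_cases hza : c l' b = 0
    · refine ⟨a, b, c l a, c l b, hab, ha, hb, rfl, rfl, h0, ?_, hza⟩
      rw [hza, mul_zero, add_zero] at hll
      rcases ha with e | e <;> rw [e] at hll ⊢ <;> omega
    · refine ⟨b, a, c l b, c l a, hab.symm, hb, ha, rfl, rfl, fun x h1 h2 => h0 x h2 h1, ?_, ?_⟩ <;>
      · rcases ha with e | e <;> rcases hb with f | f <;> rcases hbd a with g | g | g <;>
          rcases hbd b with g' | g' | g' <;> simp only [e, f, g, g'] at hll hza ⊢ <;> first | omega | exact absurd trivial hza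
  obtain ⟨θ', B', hne'', hθθ', hB', hl'θ', hl'0⟩ : ∃ θ' : J, ∃ B' : ℤ, η ≠ θ' ∧ θ ≠ θ' ∧
      (B' = 1 ∨ B' = -1) ∧ c l' θ' = B' ∧ ∀ ψ, ψ ≠ η → ψ ≠ θ' → c l' ψ = 0 := by
    have hη : η = a' ∨ η = b' := by
      by_contra h; rw [not_or] at h
      have := h0' η h.1 h.2; omega
    rcases hη with rfl | rfl
    · exact ⟨b', _, hab', fun h => by subst h; omega, hb', rfl, h0'⟩
    · exact ⟨a', _, hab'.symm, fun h => by subst h; omega, ha', rfl, fun x h1 h2 => h0' x h2 h1⟩
  have hall : ∀ μ ∈ R, c μ η = A := by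
    intro μ hμ
    by_cases h1 : μ = l
    · rw [h1, hlη]
    by_cases h2 : μ = bar l
    · rw [h2, hsym, hlη]
    by_cases h3 : μ = l'
    · rw [h3, hl'η]
    by_cases h4 : μ = bar l'
    · rw [h4, hsym, hl'η]
    have e1 := hinner μ hμ l hl h1 h2
    rw [sum_eq_pair _ hne' (fun x a b => by rw [hl0 x a b, mul_zero]), hlη, hlθ] at e1
    have e2 := hinner μ hμ l' hl' h3 h4
    rw [sum_eq_pair _ hne'' (fun x a b => by rw [hl'0 x a b, mul_zero]), hl'η, hl'θ'] at e2
    have hsum : ∑ x ∈ ({η, θ, θ'} : Finset J), c μ x * c μ x ≤ 2 :=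
      (Finset.sum_le_sum_of_subset_of_nonneg (Finset.subset_univ _)
        (fun _ _ _ => mul_self_nonneg _)).trans (hnorm μ hμ).le
    rw [Finset.sum_insert (by simp [hne', hne'']), Finset.sum_pair hθθ'] at hsum
    obtain ⟨D, hD⟩ : ∃ D, c μ η = D := ⟨_, rfl⟩
    obtain ⟨x, hx⟩ : ∃ x, c μ θ = x := ⟨_, rfl⟩
    obtain ⟨y, hy⟩ : ∃ y, c μ θ' = y := ⟨_, rfl⟩
    rw [hD, hx, hy] at hsum
    rw [hD, hx] at e1
    rw [hD, hy] at e2
    rw [hD]
    have hD1 : D ≤ 1 ∧ -1 ≤ D := ⟨by nlinarith, by nlinarith⟩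
    have hx1 : x ≤ 1 ∧ -1 ≤ x := ⟨by nlinarith, by nlinarith⟩
    have hy1 : y ≤ 1 ∧ -1 ≤ y := ⟨by nlinarith, by nlinarith⟩
    by_cases hD0 : D = 0
    · exfalso
      subst hD0
      have hxB : x = B := by rcases hB with e | e <;> subst e <;> omega
      have hyB : y = B' := by rcases hB' with e | e <;> subst e <;> omega
      have h0μ : ∀ ψ, ψ ≠ θ → ψ ≠ θ' → c μ ψ = 0 := by
        intro ψ hψ1 hψ2
        have hs : ∑ x ∈ ({ψ, θ, θ'} : Finset J), c μ x * c μ x ≤ 2 :=
          (Finset.sum_le_sum_of_subset_of_nonneg (Finset.subset_univ _)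
            (fun _ _ _ => mul_self_nonneg _)).trans (hnorm μ hμ).le
        rw [Finset.sum_insert (by simp [hψ1, hψ2]), Finset.sum_pair hθθ', hx, hy, hxB, hyB] at hs
        have hBB : B * B = 1 := by rcases hB with e | e <;> subst e <;> rfl
        have hBB' : B' * B' = 1 := by rcases hB' with e | e <;> subst e <;> rfl
        rw [hBB, hBB'] at hs
        exact mul_self_eq_zero.1 (le_antisymm (by omega) (mul_self_nonneg _))
      have d1 := hdeg l hl
      have d2 := hdeg l' hl'
      have d3 := hdeg μ hμ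
      rw [sum_eq_pair _ hne' (fun x a b => by rw [hl0 x a b, zero_mul]), hlη, hlθ] at d1
      rw [sum_eq_pair _ hne'' (fun x a b => by rw [hl'0 x a b, zero_mul]), hl'η, hl'θ'] at d2
      rw [sum_eq_pair _ hθθ' (fun x a b => by rw [h0μ x a b, zero_mul]), hx, hy, hxB, hyB] at d3
      omega
    · rcases hA with e | e <;> rcases hB with f | f <;> subst e f <;> omega
  refine ⟨l, hl, η, θ, A, B, hne', hA, hB, hlη, hlθ, hl0, hall, fun μ hμ h1 h2 => ?_⟩
  have e1 := hinner μ hμ l hl h1 h2
  rw [sum_eq_pair _ hne' (fun x a b => by rw [hl0 x a b, mul_zero]), hlη, hlθ, hall μ hμ] at e1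
  rcases hA with e | e <;> rcases hB with f | f <;> subst e f <;> omega

end Combinatorics

section Counting

variable {G : Type*} [Group G]

theorem setup_conjC (S : Setup G) {h x : G} (hh : h ∈ S.N) (hx : x ∈ S.C) :
    h * x * h⁻¹ ∈ S.C := by
  by_cases hC : h ∈ S.C
  · exact S.C.mul_mem (S.C.mul_mem hC hx) (S.C.inv_mem hC)
  · rw [(S.outside h hh hC).2 x hx]; exact S.C.inv_mem hx

variable [Fintype G]

open Classical in
theorem card_filter_mem (H : Subgroup G) :
    (Finset.univ.filter fun g : G => g ∈ H).card = Nat.card H := by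
  rw [← Fintype.card_subtype, ← Nat.card_eq_fintype_card]

open Classical in
theorem card_invol_mul (S : Setup G) :
    (Finset.univ.filter fun g : G => orderOf g = 2).card * (4 * S.n) = Nat.card G := by
  have h := card_conj_mul_card_centralizer S.t
  have hc : Nat.card {g : G // IsConj S.t g} =
      (Finset.univ.filter fun g : G => orderOf g = 2).card := by
    rw [← Fintype.card_subtype, ← Nat.card_eq_fintype_card]
    refine Nat.card_congr (Equiv.subtypeEquivRight fun g => ⟨fun hg => ?_, S.invol g⟩)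
    obtain ⟨c, rfl⟩ := isConj_iff.1 hg
    rw [show c * S.t * c⁻¹ = MulAut.conj c S.t from rfl, MulEquiv.orderOf_eq, S.ht]
  rwa [hc, S.centT, S.cardN] at h

open Classical in
theorem card_invC (S : Setup G) {g y0 : G} (hy0 : y0⁻¹ * g * y0 ∈ S.C) (hg : g ≠ 1) :
    (Finset.univ.filter fun y : G => y⁻¹ * g * y ∈ S.C).card = 4 * S.n := by
  rw [← S.cardN, ← card_filter_mem]
  refine Finset.card_nbij' (fun y => y0⁻¹ * y) (fun h => y0 * h) ?_ ?_
    (fun y _ => mul_inv_cancel_left y0 y) (fun h _ => inv_mul_cancel_left y0 h)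
  · intro y hy
    simp only [Finset.coe_filter, Finset.mem_univ, true_and, Set.mem_ofPred_eq] at hy ⊢
    by_contra hN
    refine hg ?_
    have h1 := S.ti (y⁻¹ * y0) (fun h => hN (by simpa using S.N.inv_mem h)) _ hy0
      (by simpa [mul_assoc] using hy)
    simpa [mul_assoc, inv_mul_eq_iff_eq_mul] using h1
  · intro h hh
    simp only [Finset.coe_filter, Finset.mem_univ, true_and, Set.mem_ofPred_eq] at hh ⊢
    simpa [mul_assoc] using setup_conjC S (S.N.inv_mem hh) hy0

open Classical in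
theorem sum_invol (S : Setup G) (φ : G → ℂ) (hφ : IsClassFunction G φ) :
    ∑ u ∈ Finset.univ.filter (fun g : G => orderOf g = 2),
      ∑ v ∈ Finset.univ.filter (fun g : G => orderOf g = 2), φ (u * v) =
      ((Finset.univ.filter fun g : G => orderOf g = 2).card : ℂ) *
        (φ 1 + ((2 * S.n : ℕ) : ℂ) *
          ∑ x ∈ Finset.univ.filter (fun g : G => g ∈ S.C ∧ g ≠ 1), φ x) := by
  set I := Finset.univ.filter fun g : G => orderOf g = 2 with hI
  set Cs := Finset.univ.filter fun g : G => g ∈ S.C ∧ g ≠ 1 with hCs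
  set M := Finset.univ.filter fun g : G => g ∈ S.N ∧ g ∉ S.C with hM
  have memI : ∀ {g}, g ∈ I ↔ orderOf g = 2 := by simp [hI]
  have sq1 : ∀ {g}, g ∈ I → g * g = 1 := fun {g} hg => by
    rw [← sq, ← memI.1 hg, pow_orderOf_eq_one]
  have hone : ∑ p ∈ (I ×ˢ I).filter (fun p => p.1 * p.2 = 1), φ (p.1 * p.2) =
      (I.card : ℂ) * φ 1 := by
    rw [Finset.sum_congr rfl (g := fun _ => φ 1) (fun p hp => by rw [(Finset.mem_filter.1 hp).2]),
      Finset.sum_const, nsmul_eq_mul]
    congr 2
    refine Finset.card_nbij' (fun p => p.1) (fun u => (u, u)) ?_ ?_ ?_ (fun u _ => rfl)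
    · intro p hp
      simp only [Finset.mem_coe, Finset.mem_filter, Finset.mem_product] at hp ⊢
      exact hp.1.1
    · intro u hu
      simp only [Finset.mem_coe, Finset.mem_filter, Finset.mem_product] at hu ⊢
      exact ⟨⟨hu, hu⟩, sq1 hu⟩
    · rintro ⟨u, v⟩ hp
      simp only [Finset.mem_coe, Finset.mem_filter, Finset.mem_product] at hp
      obtain ⟨⟨hu, -⟩, h⟩ := hp
      change (u, u) = (u, v)
      rw [← mul_left_cancel (h.trans (sq1 hu).symm)]
  set Q := (I ×ˢ I).filter (fun p => ¬ p.1 * p.2 = 1) with hQ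
  have hQ0 : ∑ p ∈ (I ×ˢ I).filter (fun p => p.1 * p.2 ∈ Cs), φ (p.1 * p.2) =
      ((2 * S.n : ℕ) : ℂ) * ∑ x ∈ Cs, φ x := by
    have hMc : M.card = 2 * S.n := by
      have h2 : M = (Finset.univ.filter fun g : G => g ∈ S.N) \
          (Finset.univ.filter fun g : G => g ∈ S.C) := by ext g; simp [hM]
      rw [h2, Finset.card_sdiff_of_subset, card_filter_mem, card_filter_mem, S.cardN, S.cardC]
      · omega
      · intro g; simpa using fun h => S.CleN h
    have : ∑ p ∈ (I ×ˢ I).filter (fun p => p.1 * p.2 ∈ Cs), φ (p.1 * p.2) =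
        ∑ q ∈ M ×ˢ Cs, φ q.2 := by
      refine Finset.sum_nbij' (fun p => (p.1, p.1 * p.2)) (fun q => (q.1, q.1 * q.2)) ?_ ?_ ?_ ?_
        (fun _ _ => rfl)
      · rintro ⟨u, v⟩ hp
        simp only [Finset.mem_coe, Finset.mem_filter, Finset.mem_product] at hp ⊢
        obtain ⟨⟨hu, hv⟩, huv⟩ := hp
        refine ⟨?_, huv⟩
        simp only [hCs, Finset.mem_filter, Finset.mem_univ, true_and] at huv
        simp only [hM, Finset.mem_filter, Finset.mem_univ, true_and]
        have hinv : u * (u * v) * u⁻¹ = (u * v)⁻¹ := by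
          rw [← mul_assoc, sq1 hu, one_mul, mul_inv_rev,
            inv_eq_of_mul_eq_one_right (sq1 hu), inv_eq_of_mul_eq_one_right (sq1 hv)]
        refine ⟨?_, fun huC => ?_⟩
        · by_contra hN
          exact huv.2 (S.ti u hN _ huv.1 (hinv ▸ S.C.inv_mem huv.1))
        · have hvC : v ∈ S.C := (S.C.mul_mem_cancel_left huC).1 huv.1
          have key : ∀ w ∈ S.C, orderOf w = 2 → w = S.t := by
            intro w hw hw2
            obtain ⟨y, hy⟩ := isConj_iff.1 (S.invol w hw2)
            have hyN : y ∈ S.N := by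
              by_contra hN
              have h1 := S.ti y hN S.t S.htC (hy ▸ hw)
              have := S.ht
              rw [h1, orderOf_one] at this
              omega
            rw [← S.centT, Subgroup.mem_centralizer_singleton_iff] at hyN
            rw [← hy, hyN, mul_inv_cancel_right]
          refine huv.2 ?_
          rw [key u huC (memI.1 hu), ← key v hvC (memI.1 hv)]
          exact sq1 hv
      · rintro ⟨u, x⟩ hq
        simp only [Finset.mem_coe, Finset.mem_filter, Finset.mem_product] at hq ⊢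
        obtain ⟨hu, hx⟩ := hq
        simp only [hM, Finset.mem_filter, Finset.mem_univ, true_and] at hu
        have hxC : x ∈ S.C := by
          simp only [hCs, Finset.mem_filter, Finset.mem_univ, true_and] at hx; exact hx.1
        have huI : u ∈ I := memI.2 (S.outside u hu.1 hu.2).1
        have huxI : u * x ∈ I := memI.2 (S.outside _ (S.N.mul_mem hu.1 (S.CleN hxC))
          (fun h => hu.2 ((S.C.mul_mem_cancel_right hxC).1 h))).1
        exact ⟨⟨huI, huxI⟩, by rwa [← mul_assoc, sq1 huI, one_mul]⟩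
      · rintro ⟨u, v⟩ hp
        simp only [Finset.mem_coe, Finset.mem_filter, Finset.mem_product] at hp
        simp [← mul_assoc, sq1 hp.1.1]
      · rintro ⟨u, x⟩ hq
        simp only [Finset.mem_coe, Finset.mem_product, hM, Finset.mem_filter, Finset.mem_univ,
          true_and] at hq
        simp [← mul_assoc, sq1 (memI.2 (S.outside u hq.1.1 hq.1.2).1)]
    rw [this, Finset.sum_product, Finset.sum_congr rfl (g := fun _ => ∑ x ∈ Cs, φ x)
      (fun _ _ => rfl), Finset.sum_const, hMc, nsmul_eq_mul]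
  have hn0 : (((4 * S.n : ℕ)) : ℂ) ≠ 0 := by
    have := S.three_le
    exact Nat.cast_ne_zero.2 (by omega)
  have hrest : ((4 * S.n : ℕ) : ℂ) * ∑ p ∈ Q, φ (p.1 * p.2) =
      (Nat.card G : ℂ) * (((2 * S.n : ℕ) : ℂ) * ∑ x ∈ Cs, φ x) := by
    have step : ∀ p ∈ Q, ((4 * S.n : ℕ) : ℂ) * φ (p.1 * p.2) = ∑ y : G,
        if y⁻¹ * (p.1 * p.2) * y ∈ S.C then φ (y⁻¹ * (p.1 * p.2) * y) else 0 := by
      intro p hp
      simp only [hQ, Finset.mem_filter, Finset.mem_product, memI] at hp
      obtain ⟨y0, hy0⟩ := S.small _ _ hp.1.1 hp.1.2 hp.2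
      rw [← Finset.sum_filter, Finset.sum_congr rfl (g := fun _ => φ (p.1 * p.2)) (fun y _ => by
          simpa using hφ (p.1 * p.2) y⁻¹),
        Finset.sum_const, card_invC S hy0 hp.2, nsmul_eq_mul]
    rw [Finset.mul_sum, Finset.sum_congr rfl step, Finset.sum_comm,
      Finset.sum_congr rfl (g := fun _ => ((2 * S.n : ℕ) : ℂ) * ∑ x ∈ Cs, φ x) ?_,
      Finset.sum_const, Finset.card_univ, ← Nat.card_eq_fintype_card, nsmul_eq_mul]
    intro y _
    rw [← hQ0, ← Finset.sum_filter]
    refine Finset.sum_nbij' (fun p => (y⁻¹ * p.1 * y, y⁻¹ * p.2 * y))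
      (fun p => (y * p.1 * y⁻¹, y * p.2 * y⁻¹)) ?_ ?_ ?_ ?_ ?_
    · rintro ⟨u, v⟩ hp
      simp only [hQ, Finset.mem_coe, Finset.mem_filter, Finset.mem_product, memI] at hp ⊢
      have e : y⁻¹ * u * y * (y⁻¹ * v * y) = y⁻¹ * (u * v) * y := by group
      have ho : ∀ w, orderOf (y⁻¹ * w * y) = orderOf w := fun w => by
        conv_rhs => rw [← MulEquiv.orderOf_eq (MulAut.conj y⁻¹) w]
        simp
      refine ⟨⟨(ho u).trans hp.1.1.1, (ho v).trans hp.1.1.2⟩, ?_⟩
      simp only [hCs, Finset.mem_filter, Finset.mem_univ, true_and, e]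
      exact ⟨hp.2, fun h => hp.1.2 (by
        have := congrArg (fun z => y * z * y⁻¹) h
        simpa [mul_assoc] using this)⟩
    · rintro ⟨u, v⟩ hp
      simp only [hQ, hCs, Finset.mem_coe, Finset.mem_filter, Finset.mem_product, Finset.mem_univ,
        true_and, memI] at hp ⊢
      have e : y * u * y⁻¹ * (y * v * y⁻¹) = y * (u * v) * y⁻¹ := by group
      have ho : ∀ w, orderOf (y * w * y⁻¹) = orderOf w := fun w =>
        MulEquiv.orderOf_eq (MulAut.conj y) w
      refine ⟨⟨⟨(ho u).trans hp.1.1, (ho v).trans hp.1.2⟩, ?_⟩, ?_⟩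
      · rw [e]; exact fun h => hp.2.2 (conj_eq_one_iff.1 h)
      · have e2 : y⁻¹ * (y * u * y⁻¹ * (y * v * y⁻¹)) * y = u * v := by group
        rw [e2]; exact hp.2.1
    · rintro ⟨u, v⟩ _; simp [mul_assoc]
    · rintro ⟨u, v⟩ _; simp [mul_assoc]
    · rintro ⟨u, v⟩ _
      change φ (y⁻¹ * (u * v) * y) = φ (y⁻¹ * u * y * (y⁻¹ * v * y))
      congr 1; group
  rw [← Finset.sum_product' (f := fun u v => φ (u * v)),
    ← Finset.sum_filter_add_sum_filter_not _ (fun p => p.1 * p.2 = 1), hone, mul_add]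
  congr 1
  refine mul_left_cancel₀ hn0 ?_
  rw [← hQ, hrest, ← card_invol_mul S]
  push_cast
  ring

open Classical in
theorem sum_invol_irr (S : Setup G) {χ : G → ℂ} (hχ : IsIrrCharacter G χ) :
    ((Finset.univ.filter fun g : G => orderOf g = 2).card : ℂ) * χ S.t ^ 2 =
      χ 1 * (χ 1 + ((2 * S.n : ℕ) : ℂ) *
          ∑ x ∈ Finset.univ.filter (fun g : G => g ∈ S.C ∧ g ≠ 1), χ x) := by
  have hcf := CharBasic.isClassFunction_of_isCharacter (CharBasic.isCharacter_of_isIrrCharacter hχ)
  have hs := sum_invol S χ hcf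
  obtain ⟨d, ρ, hρ, rfl⟩ := hχ
  set I := Finset.univ.filter fun g : G => orderOf g = 2 with hI
  set f : G → ℂ := fun g => if orderOf g = 2 then 1 else 0 with hf
  have hfc : IsClassFunction G f := fun g h => by
    simp only [hf, show orderOf (h * g * h⁻¹) = orderOf g from MulEquiv.orderOf_eq (MulAut.conj h) g]
  have hT := CharBasicInt.sum_smul_rep_eq ρ hfc
  simp only [hf, ite_smul, one_smul, zero_smul, ite_mul, one_mul, zero_mul, ← Finset.sum_filter,
    ← hI] at hT
  have hconst : ∑ g ∈ I, ρ.character g = (I.card : ℂ) * ρ.character S.t := by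
    rw [Finset.sum_congr rfl (g := fun _ => ρ.character S.t), Finset.sum_const, nsmul_eq_mul]
    intro g hg
    exact (CharBasic.apply_eq_of_isConj hcf (S.invol g (by simpa [hI] using hg))).symm
  rw [hconst] at hT
  set a : ℂ := (I.card : ℂ) * ρ.character S.t / (Module.finrank ℂ (Fin d → ℂ) : ℂ) with ha
  have hdne : (Module.finrank ℂ (Fin d → ℂ) : ℂ) ≠ 0 :=
    Nat.cast_ne_zero.2 (CharBasic.finrank_pos_of_irreducible ρ).ne'
  have hi0 : (I.card : ℂ) ≠ 0 := by
    refine Nat.cast_ne_zero.2 (Finset.card_pos.2 ⟨S.t, ?_⟩).ne'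
    simp [hI, S.ht]
  have h2 : ∑ u ∈ I, ∑ v ∈ I, ρ.character (u * v) =
      a * a * (Module.finrank ℂ (Fin d → ℂ) : ℂ) := by
    have h3 := congrArg (LinearMap.trace ℂ (Fin d → ℂ))
      (congrArg (fun T : Module.End ℂ (Fin d → ℂ) => T * T) hT)
    simp only [Finset.sum_mul, Finset.mul_sum, ← map_mul, map_sum] at h3
    rw [show ((a • LinearMap.id : Module.End ℂ (Fin d → ℂ)) * (a • LinearMap.id)) =
        (a * a) • LinearMap.id from LinearMap.ext fun w => by simp [smul_smul], map_smul,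
      LinearMap.trace_id, smul_eq_mul] at h3
    rw [← h3, Finset.sum_comm]
    rfl
  rw [h2, ha, Representation.char_one] at hs
  rw [Representation.char_one]
  field_simp at hs
  linear_combination hs

end Counting

section Characters

variable {G : Type*} [Group G] [Fintype G]

open Classical in
theorem false_of_setup [IsSimpleGroup G] (hnab : ¬ ∀ a b : G, a * b = b * a) (S : Setup G) :
    False := by
  have := Fintype.ofFinite S.C
  set k := 2 * S.n with hk
  have hn := S.three_le
  have hcC : Nat.card S.C = k := S.cardC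
  -- linear characters of C
  have hlin : ∀ μ : IrrCharacter S.C, ∃ lam : S.C →* ℂˣ, ∀ x, (μ : S.C → ℂ) x = (lam x : ℂ) :=
    fun μ => (exists_hom_of_comm S.commC μ.2).imp fun lam h x => congrFun h x
  have hone : ∀ μ : IrrCharacter S.C, (μ : S.C → ℂ) 1 = 1 := fun μ =>
    apply_one_eq_one_of_comm S.commC μ.2
  have hinv : ∀ (μ : IrrCharacter S.C) x, (μ : S.C → ℂ) x⁻¹ = conj ((μ : S.C → ℂ) x) :=
    fun μ => CharBasic.isCharacter_inv (CharBasic.isCharacter_of_isIrrCharacter μ.2)
  have hcardI : Fintype.card (IrrCharacter S.C) = k := by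
    have h := sum_sq_apply_one (G := S.C)
    simp only [hone, one_pow, Finset.sum_const, Finset.card_univ, nsmul_eq_mul, mul_one, hcC] at h
    exact_mod_cast h
  set one : IrrCharacter S.C := trivIrr S.C with hone'
  set t' : S.C := ⟨S.t, S.htC⟩ with ht'
  have ht'1 : t' ≠ 1 := fun h => by
    have h2 := S.ht
    rw [show S.t = 1 from congrArg Subtype.val h, orderOf_one] at h2
    omega
  have hsumt : ∑ μ : IrrCharacter S.C, (μ : S.C → ℂ) t' = 0 := by
    have h := sum_irr_mul_conj t' 1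
    rw [if_neg (fun h => ht'1 (isConj_one_left.1 h))] at h
    simpa [hone] using h
  -- the sign character
  have hidx : (S.P.subgroupOf S.C).index = 2 := by
    have h := Subgroup.card_mul_index (S.P.subgroupOf S.C)
    rw [Nat.card_congr (Subgroup.subgroupOfEquivOfLe S.PleC).toEquiv, S.cardP, S.cardC,
      mul_comm 2 S.n] at h
    exact Nat.eq_of_mul_eq_mul_left (by omega) h
  let sgn : S.C →* ℂˣ :=
    { toFun := fun x => if x ∈ S.P.subgroupOf S.C then 1 else -1
      map_one' := if_pos (one_mem _)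
      map_mul' := fun x y => by
        have h := Subgroup.mul_mem_iff_of_index_two hidx (a := x) (b := y)
        by_cases h1 : x ∈ S.P.subgroupOf S.C <;> by_cases h2 : y ∈ S.P.subgroupOf S.C <;>
          simp [h, h1, h2] }
  set σ : IrrCharacter S.C := ⟨_, isIrrCharacter_linear sgn⟩ with hσ
  have hσt : (σ : S.C → ℂ) t' = -1 := by
    simp [hσ, sgn, Subgroup.mem_subgroupOf, ht', S.tP]
  have hσ1 : σ ≠ one := fun h => by
    rw [h] at hσt
    change (1 : ℂ) = -1 at hσt
    norm_num at hσt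
  let bar : IrrCharacter S.C → IrrCharacter S.C := fun μ => ⟨_, isIrrCharacter_conj μ.2⟩
  have hbarapp : ∀ μ x, (bar μ : S.C → ℂ) x = conj ((μ : S.C → ℂ) x) := fun _ _ => rfl
  have hbar : ∀ μ, bar (bar μ) = μ := fun μ => Subtype.ext (funext fun x => by simp [hbarapp])
  have hbar1 : bar one = one := Subtype.ext (funext fun x => by
    simp [hbarapp, hone', CharBasicDecomp.trivIrr])
  have hbarσ : bar σ = σ := Subtype.ext (funext fun x => by
    rw [hbarapp]
    by_cases h : x ∈ S.P.subgroupOf S.C <;> simp [hσ, sgn, h])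
  have hreal : ∀ μ, bar μ = μ → μ = one ∨ μ = σ := by
    intro μ hμ
    obtain ⟨lam, hlam⟩ := hlin μ
    have hsq : ∀ x, (lam x : ℂ) * lam x = 1 := fun x => by
      have h1 : conj (lam x : ℂ) = lam x := by
        rw [← hlam, ← hbarapp, hμ]
      have h2 : (lam x⁻¹ : ℂ) = conj (lam x : ℂ) := by rw [← hlam, ← hlam, hinv]
      rw [map_inv, h1] at h2
      calc (lam x : ℂ) * lam x = ((lam x)⁻¹ : ℂˣ) * (lam x : ℂ) := by rw [h2]
        _ = 1 := Units.inv_mul _
    have hP : ∀ x ∈ S.P.subgroupOf S.C, (lam x : ℂ) = 1 := by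
      intro x hx
      have hp : (lam x : ℂ) ^ S.n = 1 := by
        have hxn : x ^ S.n = 1 := by
          have h := pow_card_eq_one' (x := (⟨(x : G), hx⟩ : S.P))
          rw [S.cardP] at h
          exact Subtype.ext (by simpa using congrArg Subtype.val h)
        rw [← Units.val_pow_eq_pow_val, ← map_pow, hxn, map_one, Units.val_one]
      rcases mul_self_eq_one_iff.1 (hsq x) with h | h
      · exact h
      · rw [h, S.odd_n.neg_one_pow] at hp; norm_num at hp
    have hoff : ∀ x, x ∉ S.P.subgroupOf S.C → (lam x : ℂ) = lam t' := by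
      intro x hx
      have hmem : t'⁻¹ * x ∈ S.P.subgroupOf S.C :=
        (Subgroup.mul_mem_iff_of_index_two hidx).2
          (iff_of_false (fun h => S.tP (Subgroup.mem_subgroupOf.1 (inv_mem_iff.1 h))) hx)
      have h := hP _ hmem
      rw [map_mul, map_inv, Units.val_mul] at h
      calc (lam x : ℂ) = (lam t' : ℂ) * (((lam t')⁻¹ : ℂˣ) * (lam x : ℂ)) := by
            rw [← mul_assoc, Units.mul_inv, one_mul]
        _ = lam t' := by rw [h, mul_one]
    rcases mul_self_eq_one_iff.1 (hsq t') with h | h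
    · refine Or.inl (Subtype.ext (funext fun x => ?_))
      rw [hlam]
      by_cases hx : x ∈ S.P.subgroupOf S.C
      · rw [hP x hx]; rfl
      · rw [hoff x hx, h]; rfl
    · refine Or.inr (Subtype.ext (funext fun x => ?_))
      rw [hlam]
      by_cases hx : x ∈ S.P.subgroupOf S.C
      · rw [hP x hx]; simp [hσ, sgn, hx]
      · rw [hoff x hx, h]; simp [hσ, sgn, hx]
  set R : Finset (IrrCharacter S.C) := Finset.univ \ {one, σ} with hR
  have memR : ∀ {μ}, μ ∈ R ↔ μ ≠ one ∧ μ ≠ σ := by simp [hR]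
  have hRcard : R.card + 2 = k := by
    have h := Finset.card_sdiff_add_card_eq_card (Finset.subset_univ ({one, σ} : Finset _))
    rw [Finset.card_pair hσ1.symm, Finset.card_univ, hcardI] at h
    exact h
  have hsumR : ∀ F : IrrCharacter S.C → ℂ, ∑ μ, F μ = ∑ μ ∈ R, F μ + (F one + F σ) := by
    intro F
    rw [← Finset.sum_pair (f := F) hσ1.symm, Finset.sum_sdiff (Finset.subset_univ _)]
  -- multiplicities
  have hres : ∀ ψ : IrrCharacter G, IsCharacter S.C fun x : S.C => (ψ : G → ℂ) x := fun ψ =>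
    CharBasic.isCharacter_comap S.C.subtype (CharBasic.isCharacter_of_isIrrCharacter ψ.2)
  choose m hm using fun (ψ : IrrCharacter G) (μ : IrrCharacter S.C) =>
    classInner_isCharacter (hres ψ) (CharBasic.isCharacter_of_isIrrCharacter μ.2)
  have hexp : ∀ (ψ : IrrCharacter G) (x : S.C),
      (ψ : G → ℂ) x = ∑ μ : IrrCharacter S.C, (m ψ μ : ℂ) * (μ : S.C → ℂ) x := by
    intro ψ x
    have h := congrFun (eq_sum_classInner (CharBasic.isClassFunction_of_isCharacter (hres ψ))) x
    simp only [Finset.sum_apply, Pi.smul_apply, smul_eq_mul, hm] at h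
    exact h
  have hinvres : ∀ (ψ : IrrCharacter G) (x : S.C),
      (ψ : G → ℂ) ((x⁻¹ : S.C) : G) = (ψ : G → ℂ) x := by
    intro ψ x
    rw [InvMemClass.coe_inv, ← (S.outside S.a S.haN S.haC).2 x x.2]
    exact CharBasic.isClassFunction_of_isCharacter (CharBasic.isCharacter_of_isIrrCharacter ψ.2) _ _
  have hmbar : ∀ ψ μ, m ψ (bar μ) = m ψ μ := by
    intro ψ μ
    have h : (m ψ (bar μ) : ℂ) = m ψ μ := by
      rw [← hm, ← hm, classInner, classInner]
      congr 1
      refine Fintype.sum_equiv (Equiv.inv S.C) _ _ fun x => ?_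
      simp only [Equiv.inv_apply, hinvres, hbarapp, hinv]
    exact_mod_cast h
  have hmtriv : ∀ μ, m (trivIrr G) μ = if μ = one then 1 else 0 := by
    intro μ
    have h : (m (trivIrr G) μ : ℂ) = if one = μ then 1 else 0 := by
      rw [← hm, ← classInner_irrCharacter]
      rfl
    by_cases hμ : μ = one
    · rw [if_pos hμ.symm] at h; rw [if_pos hμ]; exact_mod_cast h
    · rw [if_neg (Ne.symm hμ)] at h; rw [if_neg hμ]; exact_mod_cast h
  let d : IrrCharacter S.C → IrrCharacter G → ℤ := fun μ ψ => (m ψ one : ℤ) - m ψ μ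
  let c : IrrCharacter S.C → IrrCharacter G → ℤ := fun μ ψ => if ψ = trivIrr G then 0 else d μ ψ
  have hsym : ∀ μ ψ, c (bar μ) ψ = c μ ψ := by
    intro μ ψ; simp only [c, d, hmbar]
  -- induced differences
  let f : IrrCharacter S.C → S.C → ℂ := fun μ => (one : S.C → ℂ) - (μ : S.C → ℂ)
  let Φ : IrrCharacter S.C → G → ℂ := fun μ => indFun S.C (f μ)
  have hΦcoef : ∀ μ ψ, classInner (Φ μ) (ψ : IrrCharacter G) = (d μ ψ : ℂ) := by
    intro μ ψ
    rw [← CharBasicOrth.conj_classInner, CharInduced.inner_ind_right _ _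
      (CharBasic.isClassFunction_of_isCharacter (CharBasic.isCharacter_of_isIrrCharacter ψ.2)),
      CharInduced.inner_sub_right, hm, hm]
    simp [d]
  have hΦ1 : ∀ μ, Φ μ 1 = 0 := by
    intro μ
    simp only [Φ, CharInduced.ind_one_apply]
    simp [f, hone]
  have hΦres : ∀ μ (x : S.C), Φ μ x = f μ x + f (bar μ) x := by
    intro μ x
    by_cases hx1 : x = 1
    · subst hx1
      rw [OneMemClass.coe_one, hΦ1]
      simp [f, hone, hbarapp]
    have hC2 : (Finset.univ.filter fun y : G => y ∈ S.N ∧ y ∉ S.C).card = k := by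
      have h := Finset.card_filter_add_card_filter_not
        (s := Finset.univ.filter fun g : G => g ∈ S.N) (fun g => g ∈ S.C)
      simp only [Finset.filter_filter, card_filter_mem, S.cardN] at h
      have h2 : (Finset.univ.filter fun y : G => y ∈ S.N ∧ y ∈ S.C).card = k := by
        rw [← hcC, ← card_filter_mem]
        congr 1; ext y; simp; exact fun h => S.CleN h
      omega
    have key : ∀ y : G, extendByZero S.C (f μ) (y⁻¹ * x * y) =
        (if y ∈ S.C then f μ x else 0) + (if y ∈ S.N ∧ y ∉ S.C then f (bar μ) x else 0) := by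
      intro y
      by_cases hyC : y ∈ S.C
      · rw [if_pos hyC, if_neg (fun h => h.2 hyC), add_zero]
        have : (y⁻¹ * x * y : G) = x := by
          have h := congrArg Subtype.val (S.commC x ⟨y, hyC⟩)
          simp only [Subgroup.coe_mul] at h
          rw [mul_assoc, h, inv_mul_cancel_left]
        rw [this, CharInduced.ext_zero_coe]
      by_cases hyN : y ∈ S.N
      · rw [if_neg hyC, if_pos ⟨hyN, hyC⟩, zero_add]
        have h := (S.outside y⁻¹ (S.N.inv_mem hyN) (fun h => hyC (inv_mem_iff.1 h))).2 x x.2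
        rw [inv_inv, ← InvMemClass.coe_inv] at h
        rw [h, CharInduced.ext_zero_coe]
        simp only [f, Pi.sub_apply, hinv, hbarapp]
        simp [hone', CharBasicDecomp.trivIrr]
      · rw [if_neg hyC, if_neg (fun h => hyN h.1), add_zero]
        refine CharInduced.ext_zero_of_not_mem _ fun h => hx1 (Subtype.ext ?_)
        exact S.ti y⁻¹ (fun h' => hyN (inv_mem_iff.1 h')) x x.2 (by rwa [inv_inv])
    simp only [Φ, CharInduced.indFun_apply, key, Finset.sum_add_distrib, ← Finset.sum_filter,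
      Finset.sum_const, nsmul_eq_mul, card_filter_mem, hC2, hcC]
    have : (k : ℂ) ≠ 0 := Nat.cast_ne_zero.2 (by omega)
    field_simp
  have hgram : ∀ μ ν, μ ≠ one → ν ≠ one → ∑ ψ, c μ ψ * c ν ψ =
      1 + ((if μ = ν then 1 else 0) + (if bar μ = ν then 1 else 0)) := by
    intro μ ν hμ hν
    have hbμ : bar μ ≠ one := fun h => hμ (by rw [← hbar μ, h, hbar1])
    have hin : classInner (Φ μ) (Φ ν) =
        2 + ((if μ = ν then 1 else 0) + (if bar μ = ν then 1 else 0)) := by
      rw [show Φ ν = indFun S.C (f ν) from rfl, CharInduced.inner_ind_right _ _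
        (show IsClassFunction G (Φ μ) from CharInduced.isClassFunction_ind _ _)]
      rw [show (fun x : S.C => Φ μ x) = f μ + f (bar μ) from funext (hΦres μ)]
      simp only [f, CharInduced.inner_add_left, CharInduced.inner_sub_left,
        CharInduced.inner_sub_right, classInner_irrCharacter]
      simp only [if_pos, if_neg hμ, if_neg hbμ, if_neg hν.symm]
      ring
    rw [classInner_eq_sum (show IsClassFunction G (Φ μ) from CharInduced.isClassFunction_ind _ _)]
      at hin
    simp only [hΦcoef, map_intCast] at hin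
    have hd : ∑ ψ, d μ ψ * d ν ψ =
        2 + ((if μ = ν then 1 else 0) + (if bar μ = ν then 1 else 0)) := by
      exact_mod_cast hin
    have hc : ∑ ψ, c μ ψ * c ν ψ = ∑ ψ, d μ ψ * d ν ψ - 1 := by
      rw [← Finset.add_sum_erase Finset.univ (fun ψ => d μ ψ * d ν ψ) (Finset.mem_univ (trivIrr G)),
        ← Finset.add_sum_erase Finset.univ (fun ψ => c μ ψ * c ν ψ) (Finset.mem_univ (trivIrr G)),
        Finset.sum_congr rfl (g := fun ψ => d μ ψ * d ν ψ) (fun ψ hψ => by
          simp [c, (Finset.mem_erase.1 hψ).1])]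
      simp [c, d, hmtriv, hμ, hν]
    rw [hc, hd]; ring
  choose deg hdegpos hdeg using fun ψ : IrrCharacter G => CharBasic.isIrrCharacter_apply_one ψ.2
  have hdegsum : ∀ μ, μ ≠ one → ∑ ψ, c μ ψ * (deg ψ : ℤ) = -1 := by
    intro μ hμ
    have h := congrFun (eq_sum_classInner (CharInduced.isClassFunction_ind S.C (f μ))) 1
    simp only [Finset.sum_apply, Pi.smul_apply, smul_eq_mul] at h
    rw [show indFun S.C (f μ) = Φ μ from rfl] at h
    simp only [hΦ1, hΦcoef, hdeg] at h
    have hd : ∑ ψ, d μ ψ * (deg ψ : ℤ) = 0 := by exact_mod_cast h.symm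
    rw [← Finset.add_sum_erase Finset.univ (fun ψ => c μ ψ * (deg ψ : ℤ))
      (Finset.mem_univ (trivIrr G)), Finset.sum_congr rfl (g := fun ψ => d μ ψ * (deg ψ : ℤ))
        (fun ψ hψ => by simp [c, (Finset.mem_erase.1 hψ).1])]
    rw [← Finset.add_sum_erase Finset.univ (fun ψ => d μ ψ * (deg ψ : ℤ))
      (Finset.mem_univ (trivIrr G))] at hd
    have ht : deg (trivIrr G) = 1 := by
      have ht' : (deg (trivIrr G) : ℂ) = 1 := (hdeg (trivIrr G)).symm.trans rfl
      exact_mod_cast ht'
    simp only [c, d, hmtriv, if_pos, if_neg hμ, ht, zero_mul, Nat.cast_one, Nat.cast_zero] at hd ⊢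
    linarith
  -- apply the configuration lemma
  have hRne : ∀ μ ∈ R, bar μ ≠ μ := fun μ hμ h => by
    have := hreal μ h
    have := memR.1 hμ
    tauto
  have hbarR : ∀ μ ∈ R, bar μ ∈ R := fun μ hμ => memR.2
    ⟨fun h => (memR.1 hμ).1 (by rw [← hbar μ, h, hbar1]),
      fun h => (memR.1 hμ).2 (by rw [← hbar μ, h, hbarσ])⟩
  obtain ⟨l, hl, η, θ, A, B, hηθ, hA, hB, hlη, hlθ, hl0, hallA, hθ0⟩ :=
    core R bar c (fun ψ => (deg ψ : ℤ)) (by omega) hbarR hbar hRne hsym
      (fun μ hμ => by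
        rw [hgram μ μ (memR.1 hμ).1 (memR.1 hμ).1, if_pos rfl, if_neg (hRne μ hμ)]; rfl)
      (fun μ hμ ν hν h1 h2 => by
        rw [hgram μ ν (memR.1 hμ).1 (memR.1 hν).1, if_neg h1,
          if_neg (fun h => h2 (by rw [← h, hbar]))]
        rfl)
      (fun μ hμ => hdegsum μ (memR.1 hμ).1)
  have hne_triv : ∀ ψ, c l ψ ≠ 0 → ψ ≠ trivIrr G := fun ψ h h' => h (by simp [c, h'])
  have hη1 : η ≠ trivIrr G := hne_triv η (by omega)
  have hθ1 : θ ≠ trivIrr G := hne_triv θ (by omega)
  have hdc : ∀ μ ψ, ψ ≠ trivIrr G → d μ ψ = c μ ψ := fun μ ψ h => (if_neg h).symm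
  -- values on C
  have hvals : ∀ ψ : IrrCharacter G, ψ ≠ trivIrr G →
      ((deg ψ : ℤ) = k * (m ψ one : ℤ) - ∑ μ ∈ R, c μ ψ - c σ ψ) ∧
      (ψ : G → ℂ) S.t = (c σ ψ : ℂ) - ∑ μ ∈ R, (c μ ψ : ℂ) * (μ : S.C → ℂ) t' := by
    intro ψ hψ
    have hmd : ∀ μ, (m ψ μ : ℂ) = (m ψ one : ℂ) - (d μ ψ : ℂ) := fun μ => by simp [d]
    have hd0 : d one ψ = 0 := by simp [d]
    constructor
    · have h := hexp ψ 1
      rw [OneMemClass.coe_one, hdeg, Finset.sum_congr rfl
        (g := fun μ => ((m ψ one : ℂ) - (d μ ψ : ℂ)) * (μ : S.C → ℂ) 1)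
        (fun μ _ => by rw [← hmd μ])] at h
      simp only [hone, mul_one, Finset.sum_sub_distrib, Finset.sum_const, Finset.card_univ,
        hcardI, nsmul_eq_mul] at h
      rw [hsumR (fun μ => (d μ ψ : ℂ))] at h
      simp only [hd0, hdc _ _ hψ, Int.cast_zero, zero_add] at h
      have h' : ((deg ψ : ℤ) : ℂ) = ((k * (m ψ one : ℤ) - ∑ μ ∈ R, c μ ψ - c σ ψ : ℤ) : ℂ) := by
        push_cast; rw [h]; ring
      exact_mod_cast h'
    · have h := hexp ψ t'
      rw [Finset.sum_congr rfl
        (g := fun μ => ((m ψ one : ℂ) - (d μ ψ : ℂ)) * (μ : S.C → ℂ) t')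
        (fun μ _ => by rw [← hmd μ])] at h
      simp only [sub_mul, Finset.sum_sub_distrib, ← Finset.mul_sum, hsumt, mul_zero] at h
      rw [hsumR (fun μ => (d μ ψ : ℂ) * (μ : S.C → ℂ) t')] at h
      simp only [hd0, hdc _ _ hψ, Int.cast_zero, zero_mul, zero_add, hσt] at h
      rw [show ((t' : S.C) : G) = S.t from rfl] at h
      rw [h]; ring
  have hRsumt : ∑ μ ∈ R, (μ : S.C → ℂ) t' = 0 := by
    have h := hsumR (fun μ => (μ : S.C → ℂ) t')
    simp only [hsumt, hσt] at h
    rw [show (one : S.C → ℂ) t' = 1 from rfl] at h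
    linear_combination -h
  set i : ℕ := (Finset.univ.filter fun g : G => orderOf g = 2).card with hi
  have hCsum : ∀ ψ : IrrCharacter G,
      ∑ x ∈ Finset.univ.filter (fun g : G => g ∈ S.C ∧ g ≠ 1), (ψ : G → ℂ) x =
        (((k : ℤ) * (m ψ one : ℤ) - (deg ψ : ℤ) : ℤ) : ℂ) := by
    intro ψ
    have h := hm ψ one
    rw [classInner, hcC] at h
    have honeapp : ∀ x, (one : S.C → ℂ) x = 1 := fun _ => rfl
    simp only [honeapp, map_one, mul_one] at h
    have hk0 : (k : ℂ) ≠ 0 := Nat.cast_ne_zero.2 (by omega)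
    rw [inv_mul_eq_iff_eq_mul₀ hk0] at h
    have h2 : ∑ x : S.C, (ψ : G → ℂ) x =
        (ψ : G → ℂ) 1 + ∑ x ∈ Finset.univ.filter (fun g : G => g ∈ S.C ∧ g ≠ 1), (ψ : G → ℂ) x := by
      rw [← Finset.sum_subtype (Finset.univ.filter fun g : G => g ∈ S.C) (by simp)
        (fun g => (ψ : G → ℂ) g),
        ← Finset.add_sum_erase _ _ (show (1 : G) ∈ Finset.univ.filter fun g : G => g ∈ S.C by
          simp [one_mem])]
      congr 1
      refine Finset.sum_congr ?_ fun _ _ => rfl
      ext g; simp [and_comm]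
    rw [h, hdeg] at h2
    push_cast
    rw [h2]; ring
  have hival : (i : ℤ) = 1 + k * (k - 1) := by
    have h := sum_invol_irr S (trivIrr G).2
    rw [hCsum (trivIrr G), ← hi, ← hk] at h
    have ht : deg (trivIrr G) = 1 := by
      have ht' : (deg (trivIrr G) : ℂ) = 1 := (hdeg (trivIrr G)).symm.trans rfl
      exact_mod_cast ht'
    simp only [hmtriv, if_pos, ht] at h
    simp only [CharBasicDecomp.trivIrr, one_pow, mul_one, one_mul] at h
    have h' : ((i : ℤ) : ℂ) = ((1 + k * (k - 1) : ℤ) : ℂ) := by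
      push_cast at h ⊢; rw [h]; ring
    exact_mod_cast h'
  obtain ⟨D, hD⟩ : ∃ D, c σ η = D := ⟨_, rfl⟩
  have hDbd : D ≤ 1 ∧ -1 ≤ D := by
    have h := hgram σ σ hσ1 hσ1
    rw [if_pos rfl, if_pos hbarσ] at h
    have h2 : c σ η * c σ η ≤ 3 := (Finset.single_le_sum (f := fun ψ => c σ ψ * c σ ψ)
      (fun _ _ => mul_self_nonneg _) (Finset.mem_univ η)).trans h.le
    rw [hD] at h2
    exact ⟨by nlinarith, by nlinarith⟩
  set e : ℤ := (deg η : ℤ) with he
  obtain ⟨hedeg, het⟩ := hvals η hη1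
  rw [Finset.sum_congr rfl (g := fun _ => A) (fun μ hμ => hallA μ hμ), Finset.sum_const,
    nsmul_eq_mul, hD, ← he] at hedeg
  have hsAt : ∑ μ ∈ R, (c μ η : ℂ) * (μ : S.C → ℂ) t' = 0 := by
    rw [Finset.sum_congr rfl (g := fun μ : IrrCharacter S.C => (A : ℂ) * (μ : S.C → ℂ) t')
      (fun μ hμ => by rw [hallA μ hμ]), ← Finset.mul_sum, hRsumt, mul_zero]
  rw [hsAt, sub_zero, hD] at het
  have hRc : (R.card : ℤ) = k - 2 := by omega
  rw [hRc] at hedeg
  have hstar : (i : ℤ) * (D * D) = e * (e + k * ((k - 2) * A + D)) := by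
    have h := sum_invol_irr S η.2
    rw [hCsum η, het, hdeg, ← hi, ← hk] at h
    have h' : (((i : ℤ) * (D * D) : ℤ) : ℂ) =
        ((e * (e + k * (k * (m η one : ℤ) - e)) : ℤ) : ℂ) := by
      simp only [he]; push_cast at h ⊢; rw [← h]; ring
    have h'' : (i : ℤ) * (D * D) = e * (e + k * (k * (m η one : ℤ) - e)) := by exact_mod_cast h'
    rw [h'']
    linear_combination (e * k) * hedeg.symm - (0 : ℤ)
  have hAA : A * A = 1 := by rcases hA with h | h <;> rw [h] <;> rfl
  have hDA : D = A := by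
    have h1 : (k : ℤ) ∣ 4 * A * (A - D) := by
      refine ⟨(k - 1) * (D * D) - (k * (m η one : ℤ) ^ 2 + 2 * (m η one : ℤ) * (2 * A - D)
        - 2 * (m η one : ℤ) * k * A + (k : ℤ) * A * A - 2 * A * (2 * A - D))
        - e * ((k - 2) * A + D), ?_⟩
      rw [hival] at hstar
      rw [hedeg] at hstar ⊢
      linear_combination -hstar
    have h2 : (S.n : ℤ) ∣ 2 * (A - D) := by
      have h3 : (2 : ℤ) * S.n ∣ 2 * (2 * (A - D) * A) := by
        rw [hk] at h1; push_cast at h1
        convert h1 using 1; ring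
      have h4 := Int.dvd_of_mul_dvd_mul_left (by norm_num : (2 : ℤ) ≠ 0) h3
      have : (2 * (A - D) * A) * A = 2 * (A - D) := by rw [mul_assoc, hAA, mul_one]
      rw [← this]; exact h4.mul_right A
    have hcop : IsCoprime (S.n : ℤ) 2 := by
      have : Nat.Coprime S.n 2 := (Nat.coprime_two_right).2 S.odd_n
      exact_mod_cast Nat.isCoprime_iff_coprime.2 this
    have h5 := hcop.dvd_of_dvd_mul_left h2
    have h6 : A - D = 0 := by
      by_contra hne
      have := Int.le_of_dvd (abs_pos.2 hne) ((dvd_abs _ _).2 h5)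
      have : |A - D| ≤ 2 := abs_le.2 ⟨by omega, by omega⟩
      omega
    omega
  rw [hDA, hAA, mul_one] at hstar
  have hepos : 0 < e := by rw [he]; exact_mod_cast hdegpos η
  have hipos : 0 < (i : ℤ) := by
    rw [hival]
    have : 0 ≤ (k : ℤ) * (k - 1) := mul_nonneg (by omega) (by omega)
    omega
  rcases hA with hA' | hA'
  · -- a linear character
    have he1 : e = 1 := by
      have h : (e - 1) * (e + i) = 0 := by
        rw [hA'] at hstar
        linear_combination -hstar + e * hival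
      rcases mul_eq_zero.1 h with h | h <;> omega
    have hη11 : (η : G → ℂ) 1 = 1 := by
      rw [hdeg]
      have : deg η = 1 := by omega
      rw [this, Nat.cast_one]
    obtain ⟨lam, hlam⟩ :=
      exists_hom_of_apply_one_eq_one (CharBasic.isCharacter_of_isIrrCharacter η.2) hη11
    rcases (MonoidHom.normal_ker lam).eq_bot_or_eq_top with h | h
    · exact hnab fun a b => (MonoidHom.ker_eq_bot_iff lam).1 h (by rw [map_mul, map_mul, mul_comm])
    · refine hη1 (Subtype.ext ?_)
      rw [hlam]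
      funext g
      have : g ∈ lam.ker := h ▸ Subgroup.mem_top g
      rw [MonoidHom.mem_ker] at this
      simp [this, CharBasicDecomp.trivIrr]
  · have hei : e = i := by
      have h : (e + 1) * (e - i) = 0 := by
        rw [hA'] at hstar
        linear_combination -hstar - e * hival
      rcases mul_eq_zero.1 h with h | h <;> omega
    have hdl := hdegsum l (memR.1 hl).1
    rw [sum_eq_pair _ hηθ (fun x a b => by rw [hl0 x a b, zero_mul]), hlη, hlθ, hA', ← he, hei]
      at hdl
    have hBpos : B = 1 := by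
      rcases hB with h | h
      · exact h
      · exfalso
        rw [h] at hdl
        have := hdegpos θ
        have hk6 : 1 < (i : ℤ) := by
          rw [hival]
          have : 0 < (k : ℤ) * (k - 1) := mul_pos (by omega) (by omega)
          omega
        omega
    have hσθ : c σ θ = 0 := by
      have h := hgram σ l hσ1 (memR.1 hl).1
      rw [hbarσ, if_neg (fun h => (memR.1 hl).2 h.symm),
        sum_eq_pair _ hηθ (fun x a b => by rw [hl0 x a b, mul_zero]), hlη, hlθ, hD, hDA, hA',
        hBpos] at h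
      omega
    have hsumθ : ∑ μ ∈ R, c μ θ = 2 := by
      rw [← Finset.sum_subset (s₁ := {l, bar l}) (by
        simp [Finset.insert_subset_iff, hl, hbarR l hl]) (fun x hx hx' => by
          simp only [Finset.mem_insert, Finset.mem_singleton, not_or] at hx'
          exact hθ0 x hx hx'.1 hx'.2), Finset.sum_pair (hRne l hl).symm, hsym, hlθ, hBpos]
      rfl
    obtain ⟨hθdeg, -⟩ := hvals θ hθ1
    rw [hsumθ, hσθ, sub_zero] at hθdeg
    rw [hBpos, one_mul, hθdeg, hival] at hdl
    have h2 : (k : ℤ) ∣ 2 := ⟨(m θ one : ℤ) - (k - 1), by linear_combination -hdl⟩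
    have := Int.le_of_dvd (by norm_num) h2
    omega

end Characters

/-- Let G be a finite group with an abelian Sylow 3-subgroup P such that the normalizer of P has order 4·#P, the centralizer C of P has order 2·#P, C meets each of its conjugates by elements outside its normalizer trivially, and every proper subgroup of G of even order has order dividing 4·#P. Then G is not simple. -/
theorem result {G : Type*} [Group G] [Finite G]
    (P : Sylow 3 G) (hab : IsMulCommutative P)
    (hN : Nat.card (Subgroup.normalizer ((P : Subgroup G) : Set G)) = 4 * Nat.card P)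
    (hC : Nat.card (Subgroup.centralizer (P : Set G)) = 2 * Nat.card P)
    (hTI : Cfsg.IsTISubset (Subgroup.centralizer (P : Set G) : Set G))
    (heven : ∀ H : Subgroup G, H ≠ ⊤ → 2 ∣ Nat.card H → Nat.card H ∣ 4 * Nat.card P) :
    ¬ IsSimpleGroup G := by
  intro hsimple
  have := Fintype.ofFinite G
  obtain ⟨⟨S⟩, hnab⟩ := exists_setup P hab hN hC hTI heven
  exact false_of_setup hnab S

end Cfsg.Agent.S4018
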