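import Cfsg.Statements.S4021
import Cfsg.Agent.Lib.EqOrderConj59Quat

set_option autoImplicit false
open Cfsg

namespace Cfsg.Agent.S4021

open Cfsg.Agent.EqOrderConj59

theorem core_free {G : Type*} [Group G] [Finite G] (hG : Good G)
    (hO : ∀ N : Subgroup G, N.Normal → Odd (Nat.card N) → N = ⊥) :
    (IsCyclic G ∧ IsPGroup 2 G) ∨
    Nonempty (G ≃* Cfsg.affineGroup (GaloisField 2 3)) ∨
    Nonempty (G ≃* Cfsg.semiaffineGroup (GaloisField 2 3)) ∨
    Nonempty (G ≃* Cfsg.semiaffineGroup (GaloisField 2 5)) ∨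
    Nonempty (G ≃* Matrix.ProjectiveSpecialLinearGroup (Fin 2) (GaloisField 2 3)) ∨
    Nonempty (G ≃* MulAut (Matrix.ProjectiveSpecialLinearGroup (Fin 2) (GaloisField 2 5))) ∨
    Nonempty (G ≃* alternatingGroup (Fin 4)) ∨
    Nonempty (G ≃* alternatingGroup (Fin 5)) ∨
    Nonempty (G ≃* Matrix.SpecialLinearGroup (Fin 2) (ZMod 3)) ∨
    Nonempty (G ≃* Matrix.SpecialLinearGroup (Fin 2) (ZMod 5)) := by
  have := Fact.mk Nat.prime_two
  obtain ⟨S⟩ : Nonempty (Sylow 2 G) := inferInstance
  have cyc : IsCyclic S → IsCyclic G ∧ IsPGroup 2 G := by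
    intro hc
    have hN : NN (S : Subgroup G) ≤ CC (S : Subgroup G) := by
      by_cases h2 : 2 ∣ Nat.card G
      · refine IsCyclic.normalizer_le_centralizer ?_ hc
        exact (Nat.minFac_eq_two_iff _).2 h2
      · have hb : (S : Subgroup G) = ⊥ := by
          have h1 := hO ⊤ inferInstance (by rw [Subgroup.card_top, Nat.odd_iff]; omega)
          exact le_bot_iff.1 (h1 ▸ le_top)
        intro x _
        refine mem_CC.2 fun a ha => ?_
        rw [hb, Subgroup.mem_bot] at ha
        rw [ha, one_mul, mul_one]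
    obtain ⟨N, hNn, hNm, hNc⟩ := exists_oddPart S hN
    have hNb : N = ⊥ := hO N hNn (Nat.not_even_iff_odd.1 fun he => by
      obtain ⟨i, hi, hio⟩ := Cfsg.Agent.SignalizerStrongEmb.exists_involution_of_even he
      have := (hNm i).1 hi
      rw [hio] at this
      exact absurd this (by decide))
    rw [hNb] at hNc
    have htop : (S : Subgroup G) = ⊤ := Subgroup.isComplement'_bot_left.1 hNc
    have e : S ≃* G := (MulEquiv.subgroupCongr htop).trans Subgroup.topEquiv
    exact ⟨isCyclic_of_surjective _ e.surjective, S.2.of_equiv e⟩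
  rcases S4020.result (fun p _ H K _ _ e => hG H K e) S with hc | he | hq
  · exact Or.inl (cyc hc)
  · obtain ⟨m, hm⟩ := IsPGroup.iff_card.1 S.2
    rcases m with _ | _ | _ | m
    · exact Or.inl (cyc (by
        have : Subsingleton S := (Nat.card_eq_one_iff_unique.1 (by simpa using hm)).1
        exact isCyclic_of_subsingleton))
    · exact Or.inl (cyc (isCyclic_of_prime_card (p := 2) (by simpa using hm)))
    · obtain ⟨D, h⟩ := exists_ctx hG hO S he (q := 4) (by simpa using hm) le_rfl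
      rcases h.four_case rfl with h4 | h5
      · exact Or.inr (Or.inr (Or.inr (Or.inr (Or.inr (Or.inr (Or.inl h4))))))
      · exact Or.inr (Or.inr (Or.inr (Or.inr (Or.inr (Or.inr (Or.inr (Or.inl h5)))))))
    · obtain ⟨D, h⟩ := exists_ctx hG hO S he (q := 2 ^ (m + 1 + 1 + 1)) hm
        (le_trans (by norm_num : 4 ≤ 2 ^ 2) (Nat.pow_le_pow_right two_pos (by omega)))
      rcases h.big_case (n := m + 1 + 1 + 1) (by omega) rfl with h1 | h1 | h1 | h1 | h1
      · exact Or.inr (Or.inl h1)
      · exact Or.inr (Or.inr (Or.inl h1))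
      · exact Or.inr (Or.inr (Or.inr (Or.inl h1)))
      · exact Or.inr (Or.inr (Or.inr (Or.inr (Or.inl h1))))
      · exact Or.inr (Or.inr (Or.inr (Or.inr (Or.inr (Or.inl h1)))))
  · rcases quat_case hG hO S hq.some with h1 | h1
    · exact Or.inr (Or.inr (Or.inr (Or.inr (Or.inr (Or.inr (Or.inr (Or.inr (Or.inl h1))))))))
    · exact Or.inr (Or.inr (Or.inr (Or.inr (Or.inr (Or.inr (Or.inr (Or.inr (Or.inr h1))))))))

/-- Let G be a finite group in which any two subgroups of the same order are conjugate. Then G/O(G), O(G) the largest normal subgroup of odd order, is one of: a cyclic 2-group; the one-dimensional affine group over the field with 8 elements; the one-dimensional semi-affine group over the field with 8 or with 32 elements; PSL₂(8); the full automorphism group of PSL₂(32); the alternating group of degree 4 or 5; SL₂(3); or SL₂(5). -/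
theorem result {G : Type*} [Group G] [Finite G]
    (hC : ∀ H K : Subgroup G, Nat.card H = Nat.card K → ∃ g : G, K = H.map (MulAut.conj g).toMonoidHom) :
    (IsCyclic (G ⧸ Cfsg.oddCore G) ∧ IsPGroup 2 (G ⧸ Cfsg.oddCore G)) ∨
    Nonempty (G ⧸ Cfsg.oddCore G ≃* Cfsg.affineGroup (GaloisField 2 3)) ∨
    Nonempty (G ⧸ Cfsg.oddCore G ≃* Cfsg.semiaffineGroup (GaloisField 2 3)) ∨
    Nonempty (G ⧸ Cfsg.oddCore G ≃* Cfsg.semiaffineGroup (GaloisField 2 5)) ∨
    Nonempty (G ⧸ Cfsg.oddCore G ≃* Matrix.ProjectiveSpecialLinearGroup (Fin 2) (GaloisField 2 3)) ∨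
    Nonempty (G ⧸ Cfsg.oddCore G ≃* MulAut (Matrix.ProjectiveSpecialLinearGroup (Fin 2) (GaloisField 2 5))) ∨
    Nonempty (G ⧸ Cfsg.oddCore G ≃* alternatingGroup (Fin 4)) ∨
    Nonempty (G ⧸ Cfsg.oddCore G ≃* alternatingGroup (Fin 5)) ∨
    Nonempty (G ⧸ Cfsg.oddCore G ≃* Matrix.SpecialLinearGroup (Fin 2) (ZMod 3)) ∨
    Nonempty (G ⧸ Cfsg.oddCore G ≃* Matrix.SpecialLinearGroup (Fin 2) (ZMod 5)) := by
  have hG : Good G := hC
  refine core_free (hG.quotient (Cfsg.oddCore G)) fun N hN hodd => ?_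
  have := hN
  exact le_bot_iff.1 ((ComponentsCores.le_pPrimeCore' (Nat.coprime_two_right.2 hodd)).trans
    (le_of_eq (HallCore.pPrimeCore_quotient_self 2 G)))

end Cfsg.Agent.S4021
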