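import Cfsg.Statements.S4024
import Mathlib
import Cfsg.Agent.S4023
import Cfsg.Agent.Lib.HallCore
import Cfsg.Agent.Lib.HallSolvable

set_option autoImplicit false
set_option linter.all false
open Cfsg

namespace Cfsg.Agent.S4024

open Cfsg.Agent
open Subgroup

universe u

theorem exists_normal_sections {G : Type u} [Group G] [Finite G] {p : ℕ} [Fact p.Prime]
    (H : Subgroup G) [H.Normal] (hsolv : Cfsg.IsPSolvable p H) (hdiv : p ∣ Nat.card H) :
    ∃ (R : Subgroup G) (_ : R.Normal) (M : Subgroup G) (_ : M.Normal) (k : ℕ),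
      M ≤ H ∧ 1 ≤ k ∧ (Nat.card R).Coprime p ∧ Nat.card (M.map (QuotientGroup.mk' R)) = p ^ k := by
  set R := Cfsg.pPrimeCore p G with hR
  set q := QuotientGroup.mk' R
  have hRc : (Nat.card R).Coprime p := HallCore.coprime_card_pPrimeCore p G
  set K := H.map q with hK
  haveI : K.Normal := Subgroup.Normal.map inferInstance q (QuotientGroup.mk'_surjective R)
  have hKne : K ≠ ⊥ := by
    intro h0
    have h1 : H ≤ R := HallSolvable.map_mk'_eq_bot.mp h0
    have h2 := hdiv.trans (Subgroup.card_dvd_of_le h1)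
    exact (Fact.out : p.Prime).coprime_iff_not_dvd.mp hRc.symm h2
  haveI : Nontrivial K := (Subgroup.nontrivial_iff_ne_bot K).mpr hKne
  have hKs : HallSolvable.IsPiSeparable {p} K :=
    (HallSolvable.isPSolvable_iff p).mp
      (HallSolvable.isPSolvable_of_surjective hsolv (q.subgroupMap_surjective H))
  have hK' : Cfsg.pPrimeCore p K = ⊥ := by
    have h1 := HallCore.map_subtype_pPrimeCore (p := p) K
    rw [HallCore.pPrimeCore_quotient_self, bot_inf_eq] at h1
    exact (Subgroup.map_eq_bot_iff_of_injective _ K.subtype_injective).mp h1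
  have hB : Cfsg.pCore p (G ⧸ R) ⊓ K ≠ ⊥ := by
    rw [← HallCore.map_subtype_pCore]
    intro h0
    have h1 := (Subgroup.map_eq_bot_iff_of_injective _ K.subtype_injective).mp h0
    rcases hKs.exists_core_ne_bot with h2 | h2
    · exact h2 ((HallCore.pCore_eq_piCore p K).symm.trans h1)
    · exact h2 ((HallCore.pPrimeCore_eq_piCore p K).symm.trans hK')
  set B := Cfsg.pCore p (G ⧸ R) ⊓ K
  obtain ⟨k, hk⟩ := IsPGroup.iff_card.mp ((HallCore.isPGroup_pCore p (G ⧸ R)).to_le
    (inf_le_left : B ≤ Cfsg.pCore p (G ⧸ R)))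
  refine ⟨R, inferInstance, B.comap q ⊓ H, inferInstance, k, inf_le_right, ?_, hRc, ?_⟩
  · by_contra hk0
    exact hB (Subgroup.eq_bot_of_card_eq _ (by rw [hk, show k = 0 by omega, pow_zero]))
  · rw [← hk]
    congr 2
    refine le_antisymm ((Subgroup.map_mono inf_le_left).trans (Subgroup.map_comap_le _ _)) ?_
    intro b hb
    obtain ⟨h, hh, rfl⟩ := (inf_le_right : B ≤ K) hb
    exact ⟨h, ⟨hb, hh⟩, rfl⟩

theorem exponent_cases {G : Type u} [Group G] [Finite G] {p : ℕ} [Fact p.Prime] (hp : p ≠ 2)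
    (hC : ∀ H K : Subgroup G, IsPGroup p H → IsPGroup p K → Nat.card H = Nat.card K →
      ∃ g : G, K = H.map (MulAut.conj g).toMonoidHom) (P : Sylow p G) :
    IsCyclic (P : Subgroup G) ∨ ∀ a ∈ (P : Subgroup G), a ^ p = 1 := by
  rcases Cfsg.Agent.S4023.result hC P with h | h | ⟨h, -⟩ | ⟨-, -, -, h⟩
  · exact Or.inl h
  · exact Or.inr h.2
  · exact absurd h hp
  · refine Or.inr fun a ha => ?_
    have h1 := Monoid.pow_exponent_eq_one (⟨a, ha⟩ : (P : Subgroup G))
    rw [h] at h1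
    exact congrArg Subtype.val h1

theorem exp_case {G : Type u} [Group G] [Finite G] {p : ℕ} [Fact p.Prime]
    (hC : ∀ H K : Subgroup G, IsPGroup p H → IsPGroup p K → Nat.card H = Nat.card K →
      ∃ g : G, K = H.map (MulAut.conj g).toMonoidHom) (P : Sylow p G)
    (hexp : ∀ a ∈ (P : Subgroup G), a ^ p = 1)
    (R : Subgroup G) [R.Normal] (M : Subgroup G) [M.Normal] (k : ℕ) (hk : 1 ≤ k)
    (hR : (Nat.card R).Coprime p) (hM : Nat.card (M.map (QuotientGroup.mk' R)) = p ^ k) :
    (P : Subgroup G) ≤ M ∧ IsMulCommutative (P : Subgroup G) := by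
  have hp : p.Prime := Fact.out
  set q := QuotientGroup.mk' R with hq
  have hMc : Nat.card M = Nat.card (R ⊓ M : Subgroup G) * p ^ k := by
    rw [← HallCore.card_mul_relIndex (inf_le_right : R ⊓ M ≤ M), Subgroup.inf_relIndex_right,
      HallSolvable.relIndex_eq_card_map, hM]
  have hRM : (Nat.card (R ⊓ M : Subgroup G)).Coprime p :=
    hR.coprime_dvd_left (Subgroup.card_dvd_of_le inf_le_left)
  obtain ⟨B0, hB0⟩ := Sylow.exists_subgroup_card_pow_prime (G := M) p (n := k) (hMc ▸ dvd_mul_left _ _)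
  set B1 := B0.map M.subtype with hB1
  have hB1c : Nat.card B1 = p ^ k := by
    rw [hB1, Subgroup.card_map_of_injective M.subtype_injective, hB0]
  have hconjM : ∀ A : Subgroup G, Nat.card A = p ^ k → A ≤ M := by
    intro A hA
    obtain ⟨g, hg⟩ := hC B1 A (IsPGroup.of_card hB1c) (IsPGroup.of_card hA) (hB1c.trans hA.symm)
    rw [hg]
    rintro _ ⟨b, hb, rfl⟩
    exact Subgroup.Normal.conj_mem inferInstance b (Subgroup.map_subtype_le B0 hb) g
  have hkP : p ^ k ∣ Nat.card (P : Subgroup G) :=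
    P.pow_dvd_card_of_pow_dvd_card (hB1c ▸ Subgroup.card_subgroup_dvd_card B1)
  have hPM : (P : Subgroup G) ≤ M := by
    intro y hy
    by_cases hy1 : y = 1
    · exact hy1 ▸ one_mem M
    have ho : orderOf (⟨y, hy⟩ : (P : Subgroup G)) = p :=
      orderOf_eq_prime (Subtype.ext (hexp y hy)) (fun h => hy1 (congrArg Subtype.val h))
    obtain ⟨A, hA, hyA⟩ := Sylow.exists_subgroup_card_pow_prime_le p hkP (zpowers (⟨y, hy⟩ : (P : Subgroup G)))
      (n := 1) (by rw [Nat.card_zpowers, ho, pow_one]) hk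
    refine hconjM (A.map (P : Subgroup G).subtype) ?_ ⟨_, hyA (mem_zpowers _), rfl⟩
    rw [Subgroup.card_map_of_injective (P : Subgroup G).subtype_injective, hA]
  refine ⟨hPM, ?_⟩
  have hinj : ∀ x ∈ (P : Subgroup G), q x = 1 → x = 1 := by
    intro x hx h1
    have h2 : x ∈ R := (QuotientGroup.eq_one_iff x).mp h1
    obtain ⟨j, hj⟩ := (IsPGroup.iff_orderOf.mp P.isPGroup') ⟨x, hx⟩
    rw [Subgroup.orderOf_mk] at hj
    have h3 : orderOf x ∣ Nat.card R := Subgroup.orderOf_dvd_natCard R h2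
    exact orderOf_eq_one_iff.mp (Nat.eq_one_of_dvd_coprimes (hR.pow_right j) h3 (dvd_of_eq hj))
  have hPB : (P : Subgroup G).map q = M.map q := by
    refine Subgroup.eq_of_le_of_card_ge (Subgroup.map_mono hPM) ?_
    rw [hM]
    have h1 : Nat.card ((P : Subgroup G).map q) = Nat.card (P : Subgroup G) := by
      refine (Nat.card_congr ?_).symm
      refine Equiv.ofBijective (fun x => ⟨q x, mem_map_of_mem _ x.2⟩) ⟨?_, ?_⟩
      · intro a b hab
        have h4 : q ((a : G)⁻¹ * b) = 1 := by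
          rw [map_mul, map_inv, show q (a : G) = q (b : G) from congrArg Subtype.val hab, inv_mul_cancel]
        exact Subtype.ext (inv_mul_eq_one.mp (hinj _ (mul_mem (inv_mem a.2) b.2) h4))
      · rintro ⟨_, x, hx, rfl⟩
        exact ⟨⟨x, hx⟩, rfl⟩
    rw [h1]
    exact Nat.le_of_dvd Nat.card_pos hkP
  haveI : (M.map q).Normal := Subgroup.Normal.map inferInstance q (QuotientGroup.mk'_surjective R)
  haveI : Nontrivial (P : Subgroup G) := by
    rw [← Finite.one_lt_card_iff_nontrivial]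
    exact lt_of_lt_of_le hp.one_lt (Nat.le_of_dvd Nat.card_pos ((dvd_pow_self p (by omega)).trans hkP))
  haveI := P.isPGroup'.center_nontrivial
  obtain ⟨⟨z, hz⟩, hz1⟩ := exists_ne (1 : center (P : Subgroup G))
  have hz1' : (z : G) ≠ 1 := fun h => hz1 (Subtype.ext (Subtype.ext h))
  refine ⟨⟨fun a b => ?_⟩⟩
  suffices hcen : ∀ x ∈ (P : Subgroup G), ∀ y ∈ (P : Subgroup G), q x * q y = q y * q x by
    refine Subtype.ext ?_
    show (a : G) * b = b * a
    have h4 : q (((a : G) * b)⁻¹ * (b * a)) = 1 := by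
      rw [map_mul, map_inv, map_mul, map_mul, hcen _ a.2 _ b.2, inv_mul_cancel]
    exact inv_mul_eq_one.mp (hinj _ (mul_mem (inv_mem (mul_mem a.2 b.2)) (mul_mem b.2 a.2)) h4)
  intro x hx y hy
  by_cases hx1 : x = 1
  · simp [hx1]
  have hox : orderOf x = p := orderOf_eq_prime (hexp x hx) hx1
  have hoz : orderOf (z : G) = p := orderOf_eq_prime (hexp _ z.2) hz1'
  obtain ⟨g, hg⟩ := hC (zpowers (z : G)) (zpowers x) (IsPGroup.of_card (n := 1) (by rw [Nat.card_zpowers, hoz, pow_one]))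
    (IsPGroup.of_card (n := 1) (by rw [Nat.card_zpowers, hox, pow_one])) (by rw [Nat.card_zpowers, Nat.card_zpowers, hoz, hox])
  obtain ⟨w, hw, hwx⟩ : x ∈ (zpowers (z : G)).map (MulAut.conj g).toMonoidHom := hg ▸ mem_zpowers x
  obtain ⟨i, rfl⟩ := mem_zpowers_iff.mp hw
  have hzc : ∀ b ∈ M.map q, q (z : G) * b = b * q (z : G) := by
    rw [← hPB]
    rintro _ ⟨u, hu, rfl⟩
    rw [← map_mul, ← map_mul]
    exact congrArg q (congrArg Subtype.val (mem_center_iff.mp hz ⟨u, hu⟩).symm)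
  have hb : (q g)⁻¹ * q y * q g ∈ M.map q := by
    have := Subgroup.Normal.conj_mem (inferInstance : (M.map q).Normal) (q y) (mem_map_of_mem q (hPM hy)) (q g)⁻¹
    rwa [inv_inv] at this
  have hxq : q x = q g * q (z : G) ^ i * (q g)⁻¹ := by
    rw [← hwx]
    simp [MulAut.conj_apply, map_mul, map_zpow, map_inv]
  have hc : Commute (q (z : G) ^ i) ((q g)⁻¹ * q y * q g) := (Commute.zpow_left (hzc _ hb) i)
  rw [hxq]
  calc q g * q (z : G) ^ i * (q g)⁻¹ * q y
      = q g * (q (z : G) ^ i * ((q g)⁻¹ * q y * q g)) * (q g)⁻¹ := by group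
    _ = q g * ((q g)⁻¹ * q y * q g * q (z : G) ^ i) * (q g)⁻¹ := by rw [hc.eq]
    _ = q y * (q g * q (z : G) ^ i * (q g)⁻¹) := by group

/-- Let p be an odd prime and G a finite group in which any two p-subgroups of the same order are conjugate, with Sylow p-subgroup P. If H is a normal p-solvable subgroup of G whose order is divisible by p, then P is abelian, and either P ≤ H or P is cyclic. -/
theorem result {G : Type*} [Group G] [Finite G]
    {p : ℕ} [Fact p.Prime] (hp : p ≠ 2) (hC : ∀ H K : Subgroup G, IsPGroup p H → IsPGroup p K → Nat.card H = Nat.card K →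
      ∃ g : G, K = H.map (MulAut.conj g).toMonoidHom) (P : Sylow p G)
    (H : Subgroup G) [H.Normal] (hsolv : Cfsg.IsPSolvable p H) (hdiv : p ∣ Nat.card H) :
    IsMulCommutative P ∧ ((P : Subgroup G) ≤ H ∨ IsCyclic P) := by
  rcases exponent_cases hp hC P with hc | hexp
  · exact ⟨IsCyclic.isMulCommutative, Or.inr hc⟩
  · obtain ⟨R, hRn, M, hMn, k, hMH, hk, hR, hM⟩ := exists_normal_sections H hsolv hdiv
    obtain ⟨h1, h2⟩ := exp_case hC P hexp R M k hk hR hM
    exact ⟨h2, Or.inl (h1.trans hMH)⟩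

end Cfsg.Agent.S4024
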