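import Cfsg.Statements.S4028
import Mathlib

set_option autoImplicit false
open Cfsg

namespace Cfsg.Agent.S4028

theorem conj_pow_two_centralizes {G : Type*} [Group G] {k : ℕ} {x g : G}
    (hx : orderOf x = 2 ^ k)
    (hg : g ∈ Subgroup.normalizer ((Subgroup.zpowers x : Subgroup G) : Set G)) :
    ∃ j : ℕ, g ^ 2 ^ j * x = x * g ^ 2 ^ j := by
  have h1 := (Subgroup.mem_normalizer_iff.mp hg x).mp (Subgroup.mem_zpowers x)
  obtain ⟨a, ha⟩ := Subgroup.mem_zpowers_iff.mp h1
  have hn : ∀ n : ℕ, g ^ n * x * (g ^ n)⁻¹ = x ^ (a ^ n) := by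
    intro n
    induction n with
    | zero => simp
    | succ n ih =>
      calc g ^ (n + 1) * x * (g ^ (n + 1))⁻¹ = g * (g ^ n * x * (g ^ n)⁻¹) * g⁻¹ := by
            rw [pow_succ']; group
        _ = g * x ^ (a ^ n) * g⁻¹ := by rw [ih]
        _ = (g * x * g⁻¹) ^ (a ^ n) := (conj_zpow ..).symm
        _ = _ := by rw [← ha, ← zpow_mul, ← pow_succ']
  rcases k with _ | k
  · rw [pow_zero, orderOf_eq_one_iff] at hx
    exact ⟨0, by simp [hx]⟩
  · refine ⟨k, ?_⟩
    have hodd : Odd a := by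
      by_contra he
      rw [Int.not_odd_iff_even] at he
      have h2 : (x ^ a) ^ (2 ^ k : ℕ) = 1 := by
        obtain ⟨b, rfl⟩ := he
        rw [← zpow_natCast, ← zpow_mul, ← orderOf_dvd_iff_zpow_eq_one, hx]
        exact ⟨b, by push_cast; ring⟩
      rw [ha, conj_pow, mul_inv_eq_one, mul_eq_left] at h2
      have := Nat.le_of_dvd (Nat.two_pow_pos k) (hx ▸ orderOf_dvd_of_pow_eq_one h2)
      rw [pow_succ] at this
      have := Nat.two_pow_pos k
      omega
    have h := hn (2 ^ k)
    have hd : ((2 ^ (k + 1) : ℕ) : ℤ) ∣ a ^ (2 ^ k) - 1 := by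
      clear h ha hn hx
      induction k with
      | zero =>
        obtain ⟨b, rfl⟩ := hodd
        exact ⟨b, by simp⟩
      | succ k ih =>
        obtain ⟨c, hc⟩ := ih
        refine ⟨c * (2 ^ k * c + 1), ?_⟩
        have : a ^ (2 ^ (k + 1)) = (a ^ (2 ^ k)) ^ 2 := by rw [← pow_mul, pow_succ]
        rw [this, sub_eq_iff_eq_add.mp hc]
        push_cast
        ring
    have hfix : x ^ (a ^ (2 ^ k)) = x := by
      conv_rhs => rw [← zpow_one x]
      rw [← hx] at hd
      exact zpow_eq_zpow_iff_modEq.mpr (Int.modEq_iff_dvd.mpr (by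
        have := dvd_neg.mpr hd
        simpa using this))
    rw [hfix] at h
    exact mul_inv_eq_iff_eq_mul.mp h

/-- Let G be a finite group with Sylow 2-subgroup P. Then N_G(⟨x⟩) = C_G(x) holds for every 2-element x of G if and only if N_P(⟨y⟩) = C_P(y) holds for every y ∈ P (computed inside P). -/
theorem result {G : Type*} [Group G] [Finite G] (P : Sylow 2 G) :
    (∀ x : G, (∀ r : ℕ, r.Prime → r ∣ orderOf x → r = 2) →
      Subgroup.normalizer ((Subgroup.zpowers x : Subgroup G) : Set G) ≤ Subgroup.centralizer {x}) ↔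
    (∀ y : ↥(P : Subgroup G), Subgroup.normalizer ((Subgroup.zpowers y : Subgroup ↥(P : Subgroup G)) : Set ↥(P : Subgroup G)) ≤
        Subgroup.centralizer {y}) := by
  haveI : Fact (Nat.Prime 2) := ⟨Nat.prime_two⟩
  have h2el : ∀ x : G, (∀ r : ℕ, r.Prime → r ∣ orderOf x → r = 2) ↔ ∃ k, orderOf x = 2 ^ k := by
    intro x
    constructor
    · intro h
      exact ⟨_, Nat.eq_prime_pow_of_unique_prime_dvd (orderOf_pos x).ne' (fun {r} hr hd => h r hr hd)⟩
    · rintro ⟨k, hk⟩ r hr hd
      exact (Nat.prime_dvd_prime_iff_eq hr Nat.prime_two).mp (hr.dvd_of_dvd_pow (hk ▸ hd))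
  constructor
  · intro h y g hg
    have hy : ∃ k, orderOf (y : G) = 2 ^ k := by
      obtain ⟨k, hk⟩ := (IsPGroup.iff_orderOf.mp P.isPGroup') y
      exact ⟨k, by rw [Subgroup.orderOf_coe]; exact hk⟩
    have h1 : (g : G) ∈ Subgroup.normalizer ((Subgroup.zpowers (y : G) : Subgroup G) : Set G) := by
      rw [Subgroup.mem_normalizer_iff] at hg ⊢
      intro n
      have hz : ∀ m : ↥(P : Subgroup G), m ∈ Subgroup.zpowers y ↔ (m : G) ∈ Subgroup.zpowers (y : G) := by
        intro m
        simp only [Subgroup.mem_zpowers_iff, ← Subgroup.coe_zpow, Subtype.coe_inj]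
      constructor
      · intro hn
        have hnP : n ∈ (P : Subgroup G) := Subgroup.zpowers_le.mpr y.2 hn
        have := (hg ⟨n, hnP⟩).mp ((hz ⟨n, hnP⟩).mpr hn)
        exact (hz _).mp this
      · intro hn
        have hnP : (g : G) * n * (g : G)⁻¹ ∈ (P : Subgroup G) := Subgroup.zpowers_le.mpr y.2 hn
        have hnP' : n ∈ (P : Subgroup G) := by
          have := mul_mem (mul_mem (inv_mem g.2) hnP) g.2
          simpa [mul_assoc] using this
        exact (hz ⟨n, hnP'⟩).mp ((hg ⟨n, hnP'⟩).mpr ((hz (g * ⟨n, hnP'⟩ * g⁻¹)).mpr hn))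
    have h2 := h (y : G) ((h2el _).mpr hy) h1
    rw [Subgroup.mem_centralizer_singleton_iff] at h2 ⊢
    exact Subtype.ext h2
  · intro h x hx g hg
    obtain ⟨k, hk⟩ := (h2el x).mp hx
    obtain ⟨j, hj⟩ := conj_pow_two_centralizes hk hg
    obtain ⟨e, m, hm, hgord⟩ := Nat.exists_eq_pow_mul_and_not_dvd (orderOf_pos g).ne' 2 (by omega)
    set N := Subgroup.normalizer ((Subgroup.zpowers x : Subgroup G) : Set G) with hN
    -- the 2-part of g
    have hxN : x ∈ N := Subgroup.le_normalizer (Subgroup.mem_zpowers x)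
    have hu : (g ^ m) * x = x * (g ^ m) := by
      let K : Subgroup G := Subgroup.zpowers (g ^ m) ⊔ Subgroup.zpowers x
      have hK : IsPGroup 2 K := by
        refine IsPGroup.to_sup_of_normal_right' ?_ ?_ ?_
        · refine IsPGroup.of_card (n := e) ?_
          rw [Nat.card_zpowers, orderOf_pow_of_dvd (by rintro rfl; exact hm (dvd_zero 2)) (hgord ▸ dvd_mul_left _ _), hgord]
          exact Nat.mul_div_cancel _ (Nat.pos_of_ne_zero (by rintro rfl; exact hm (dvd_zero 2)))
        · exact IsPGroup.of_card (n := k) (by rw [Nat.card_zpowers, hk])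
        · rw [Subgroup.zpowers_le]
          exact pow_mem hg m
      obtain ⟨Q, hQ⟩ := hK.exists_le_sylow
      obtain ⟨c, hc⟩ := MulAction.exists_smul_eq G Q P
      have hP : ∀ z ∈ (Q : Subgroup G), c * z * c⁻¹ ∈ (P : Subgroup G) := by
        intro z hz
        rw [← hc, Sylow.coe_subgroup_smul]
        exact Subgroup.smul_mem_pointwise_smul z (MulAut.conj c) _ hz
      have hyP := hP x (hQ (Subgroup.mem_sup_right (Subgroup.mem_zpowers x)))
      have huP := hP _ (hQ (Subgroup.mem_sup_left (Subgroup.mem_zpowers (g ^ m))))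
      have hm' : (⟨_, huP⟩ : ↥(P : Subgroup G)) ∈ Subgroup.normalizer
          ((Subgroup.zpowers (⟨_, hyP⟩ : ↥(P : Subgroup G)) : Subgroup ↥(P : Subgroup G)) : Set ↥(P : Subgroup G)) := by
        rw [Subgroup.mem_normalizer_iff]
        rintro ⟨n, hn⟩
        simp only [Subgroup.mem_zpowers_iff, Subtype.ext_iff, Subgroup.coe_zpow, Subgroup.coe_mul,
          Subgroup.coe_inv]
        have hN' := Subgroup.mem_normalizer_iff.mp (pow_mem hg m) (c⁻¹ * n * c)
        simp only [Subgroup.mem_zpowers_iff] at hN'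
        constructor
        · rintro ⟨i, hi⟩
          obtain ⟨i', hi'⟩ := hN'.mp ⟨i, by rw [← hi, conj_zpow]; group⟩
          exact ⟨i', by rw [conj_zpow, hi']; group⟩
        · rintro ⟨i, hi⟩
          obtain ⟨i', hi'⟩ := hN'.mpr ⟨i, by
            rw [show x ^ i = c⁻¹ * (c * x * c⁻¹) ^ i * c by rw [conj_zpow]; group, hi]; group⟩
          exact ⟨i', by rw [conj_zpow, hi']; group⟩
      have h3 := h _ hm'
      rw [Subgroup.mem_centralizer_singleton_iff] at h3
      have h4 := congrArg Subtype.val h3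
      simp only [Subgroup.coe_mul] at h4
      calc g ^ m * x = c⁻¹ * (c * g ^ m * c⁻¹ * (c * x * c⁻¹)) * c := by group
        _ = c⁻¹ * (c * x * c⁻¹ * (c * g ^ m * c⁻¹)) * c := by rw [h4]
        _ = _ := by group
    rw [Subgroup.mem_centralizer_singleton_iff]
    have hcop : Nat.Coprime m (2 ^ j) := by
      apply Nat.Coprime.pow_right
      exact Nat.coprime_comm.mp ((Nat.Prime.coprime_iff_not_dvd Nat.prime_two).mpr hm)
    have hmemC : ∀ z, z * x = x * z → z ∈ Subgroup.centralizer ({x} : Set G) := fun z hz =>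
      Subgroup.mem_centralizer_singleton_iff.mpr hz
    have hb := Nat.gcd_eq_gcd_ab m (2 ^ j)
    rw [hcop] at hb
    have : g = (g ^ m) ^ (m.gcdA (2 ^ j)) * (g ^ 2 ^ j) ^ (m.gcdB (2 ^ j)) := by
      rw [← zpow_natCast g m, ← zpow_natCast g (2 ^ j), ← zpow_mul, ← zpow_mul, ← zpow_add, ← hb]
      simp
    have hg' : g ∈ Subgroup.centralizer ({x} : Set G) := by
      rw [this]
      exact mul_mem (Subgroup.zpow_mem _ (hmemC _ hu) _) (Subgroup.zpow_mem _ (hmemC _ hj) _)
    exact Subgroup.mem_centralizer_singleton_iff.mp hg'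

end Cfsg.Agent.S4028
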