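import Cfsg.Statements.S4029
import Mathlib

set_option autoImplicit false
open Cfsg

namespace Cfsg.Agent.S4029

open scoped Classical in
theorem sq_mem_frattini {P : Type*} [Group P] [Finite P] (hP : IsPGroup 2 P) (x : P) :
    x ^ 2 ∈ frattini P := by
  haveI : Group.IsNilpotent P := hP.isNilpotent
  simp only [frattini, Order.radical, Subgroup.mem_iInf]
  intro M hM
  have hn : M.Normal := Subgroup.NormalizerCondition.normal_of_coatom M (Group.normalizerCondition_of_isNilpotent) hM
  have hq : IsPGroup 2 (P ⧸ M) := hP.to_quotient M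
  haveI : Fact (Nat.Prime 2) := ⟨Nat.prime_two⟩
  obtain ⟨k, hk⟩ := IsPGroup.iff_card.mp hq
  by_cases hk0 : k = 0
  · subst hk0
    have : M = ⊤ := by
      rw [← Subgroup.index_eq_one, Subgroup.index, hk, pow_zero]
    exact absurd this hM.1
  obtain ⟨z, hz⟩ := exists_prime_orderOf_dvd_card' (G := P ⧸ M) 2 (hk ▸ dvd_pow_self 2 hk0)
  obtain ⟨a, rfl⟩ := QuotientGroup.mk_surjective z
  have hM' : (Subgroup.zpowers (a : P ⧸ M)).comap (QuotientGroup.mk' M) = ⊤ := by
    refine hM.2 _ (lt_of_le_of_ne (fun m hm => ?_) ?_)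
    · simp only [Subgroup.mem_comap, QuotientGroup.mk'_apply]
      rw [(QuotientGroup.eq_one_iff m).mpr hm]
      exact one_mem _
    · intro h
      have : a ∈ (Subgroup.zpowers (a : P ⧸ M)).comap (QuotientGroup.mk' M) :=
        Subgroup.mem_zpowers _
      rw [← h] at this
      rw [(QuotientGroup.eq_one_iff a).mpr this, orderOf_one] at hz
      omega
  have hx : x ∈ (Subgroup.zpowers (a : P ⧸ M)).comap (QuotientGroup.mk' M) := hM' ▸ Subgroup.mem_top x
  obtain ⟨i, hi⟩ := Subgroup.mem_zpowers_iff.mp (Subgroup.mem_comap.mp hx)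
  rw [← QuotientGroup.eq_one_iff, QuotientGroup.mk_pow]
  rw [QuotientGroup.mk'_apply] at hi
  rw [← hi, ← zpow_natCast, ← zpow_mul, mul_comm, zpow_mul, zpow_natCast, ← hz, pow_orderOf_eq_one, one_zpow]

open scoped Classical in
/-- In a finite group in which only elements squaring to `1` are conjugate to their inverses,
`∑ r(g)^2 = |G| * #(classes of such elements)`, where `r` counts square roots. -/
theorem sum_sq_eq {G : Type*} [Group G] [Fintype G]
    (hreal : ∀ x z : G, x⁻¹ * z * x = z⁻¹ → z ^ 2 = 1) :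
    ∑ g : G, (Finset.univ.filter fun x : G => x ^ 2 = g).card ^ 2 =
      Fintype.card G * ((Finset.univ.filter fun z : G => z ^ 2 = 1).image ConjClasses.mk).card := by
  set S : Finset G := Finset.univ.filter fun z : G => z ^ 2 = 1 with hS
  let A : Finset (G × G) := Finset.univ.filter fun q => q.1 ^ 2 = q.2 ^ 2
  let B : Finset (G × G) := Finset.univ.filter fun q => q.1⁻¹ * q.2 * q.1 = q.2⁻¹
  have hA : A.card = ∑ g : G, (Finset.univ.filter fun x : G => x ^ 2 = g).card ^ 2 := by
    rw [Finset.card_eq_sum_card_fiberwise (f := fun q => q.1 ^ 2) (t := Finset.univ)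
      (fun _ _ => Finset.mem_univ _)]
    refine Finset.sum_congr rfl fun g _ => ?_
    rw [sq (Finset.card _), ← Finset.card_product]
    congr 1
    ext q
    simp only [A, Finset.mem_filter, Finset.mem_univ, true_and, Finset.mem_product]
    constructor
    · rintro ⟨h1, h2⟩
      exact ⟨h2, h1 ▸ h2⟩
    · rintro ⟨h1, h2⟩
      exact ⟨h1.trans h2.symm, h1⟩
  have hB : A.card = B.card := by
    refine Finset.card_nbij' (fun q => (q.1, q.1⁻¹ * q.2)) (fun q => (q.1, q.1 * q.2)) ?_ ?_ ?_ ?_
    · intro q hq
      simp only [A, B, Finset.coe_filter, Finset.mem_univ, true_and, Set.mem_setOf_eq] at hq ⊢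
      have : q.2⁻¹ * q.1 = q.1⁻¹ * q.1⁻¹ * q.2 * q.1 := by
        calc q.2⁻¹ * q.1 = (q.2 ^ 2)⁻¹ * q.2 * q.1 := by group
          _ = (q.1 ^ 2)⁻¹ * q.2 * q.1 := by rw [hq]
          _ = _ := by group
      calc q.1⁻¹ * (q.1⁻¹ * q.2) * q.1 = q.1⁻¹ * q.1⁻¹ * q.2 * q.1 := by group
        _ = q.2⁻¹ * q.1 := this.symm
        _ = _ := by group
    · intro q hq
      simp only [A, B, Finset.coe_filter, Finset.mem_univ, true_and, Set.mem_setOf_eq] at hq ⊢
      have h1 : q.2 * q.1 = q.1 * q.2⁻¹ := by
        rw [← hq]; group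
      rw [sq, sq]
      calc q.1 * q.1 = q.1 * (q.1 * q.2⁻¹) * q.2 := by group
        _ = q.1 * (q.2 * q.1) * q.2 := by rw [h1]
        _ = (q.1 * q.2) * (q.1 * q.2) := by group
    · intro q _; simp
    · intro q _; simp
  have hC : B.card = ∑ z ∈ S, Nat.card (Subgroup.centralizer ({z} : Set G)) := by
    rw [Finset.card_eq_sum_card_fiberwise (f := fun q => q.2) (t := S)]
    swap
    · intro q hq
      simp only [B, S, Finset.coe_filter, Finset.mem_univ, true_and, Set.mem_setOf_eq] at hq ⊢
      exact hreal _ _ hq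
    refine Finset.sum_congr rfl fun z hz => ?_
    simp only [S, Finset.mem_filter, Finset.mem_univ, true_and] at hz
    have hinv : z⁻¹ = z := inv_eq_of_mul_eq_one_left (by rw [← sq, hz])
    rw [Nat.card_eq_fintype_card, Fintype.card_subtype]
    refine Finset.card_nbij' (fun q => q.1) (fun x => (x, z)) ?_ ?_ ?_ ?_
    · intro q hq
      simp only [B, Finset.coe_filter, Finset.mem_univ, true_and, Finset.mem_filter,
        Set.mem_setOf_eq] at hq ⊢
      obtain ⟨h1, h2⟩ := hq
      rw [h2, hinv] at h1
      rw [Subgroup.mem_centralizer_singleton_iff]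
      calc q.1 * z = q.1 * (q.1⁻¹ * z * q.1) := by rw [h1]
        _ = z * q.1 := by group
    · intro x hx
      simp only [B, Finset.coe_filter, Finset.mem_univ, true_and, Finset.mem_filter,
        Set.mem_setOf_eq, and_true] at hx ⊢
      rw [Subgroup.mem_centralizer_singleton_iff] at hx
      rw [hinv, mul_assoc, ← hx]; group
    · intro q hq
      simp only [B, Finset.coe_filter, Finset.mem_univ, true_and, Finset.mem_filter,
        Set.mem_setOf_eq] at hq
      exact Prod.ext rfl hq.2.symm
    · intro x _; rfl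
  rw [← hA, hB, hC, Finset.card_eq_sum_ones (S.image ConjClasses.mk), Finset.mul_sum, mul_one,
    ← Finset.sum_fiberwise_of_maps_to (g := ConjClasses.mk)
    (fun z hz => Finset.mem_image_of_mem _ hz)]
  refine Finset.sum_congr rfl fun c hc => ?_
  obtain ⟨z, hz, rfl⟩ := Finset.mem_image.mp hc
  have hfib : S.filter (fun w => ConjClasses.mk w = ConjClasses.mk z) =
      Finset.univ.filter fun w => IsConj z w := by
    ext w
    simp only [S, Finset.mem_filter, Finset.mem_univ, true_and,
      ConjClasses.mk_eq_mk_iff_isConj] at hz ⊢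
    constructor
    · rintro ⟨-, h⟩; exact h.symm
    · intro h
      refine ⟨?_, h.symm⟩
      obtain ⟨g, hg⟩ := isConj_iff.mp h
      rw [← hg, conj_pow, hz, mul_one, mul_inv_cancel]
  rw [hfib]
  have hconst : ∀ w ∈ Finset.univ.filter (fun w => IsConj z w),
      Nat.card (Subgroup.centralizer ({w} : Set G)) = Nat.card (Subgroup.centralizer ({z} : Set G)) := by
    intro w hw
    simp only [Finset.mem_filter, Finset.mem_univ, true_and] at hw
    obtain ⟨g, rfl⟩ := isConj_iff.mp hw
    refine (Nat.card_congr ((MulAut.conj g).toEquiv.subtypeEquiv fun x => ?_)).symm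
    simp only [Subgroup.mem_centralizer_singleton_iff, MulEquiv.toEquiv_eq_coe, EquivLike.coe_coe,
      MulAut.conj_apply]
    constructor
    · intro h
      calc g * x * g⁻¹ * (g * z * g⁻¹) = g * (x * z) * g⁻¹ := by group
        _ = g * (z * x) * g⁻¹ := by rw [h]
        _ = _ := by group
    · intro h
      calc x * z = g⁻¹ * (g * x * g⁻¹ * (g * z * g⁻¹)) * g := by group
        _ = g⁻¹ * (g * z * g⁻¹ * (g * x * g⁻¹)) * g := by rw [h]
        _ = _ := by group
  rw [Finset.sum_congr rfl hconst, Finset.sum_const, smul_eq_mul]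
  have horb : MulAction.orbit (ConjAct G) z = {w : G | IsConj z w} := by
    ext w; rw [ConjAct.mem_orbit_conjAct, Set.mem_setOf_eq, isConj_comm]
  have h2 := MulAction.index_stabilizer (ConjAct G) z
  rw [horb] at h2
  have h3 : Nat.card (MulAction.stabilizer (ConjAct G) z) = Nat.card (Subgroup.centralizer ({z} : Set G)) := by
    rw [ConjAct.stabilizer_eq_centralizer]
    rfl
  have h4 := (MulAction.stabilizer (ConjAct G) z).card_mul_index
  rw [h2, h3, Set.ncard_eq_toFinset_card', (Nat.card_congr ConjAct.ofConjAct.toEquiv).trans (Nat.card_eq_fintype_card (α := G))] at h4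
  rw [mul_comm]
  convert h4 using 2
  congr 1
  ext w; simp

/-- Let P be a finite 2-group in which N_P(⟨y⟩) = C_P(y) for every y ∈ P. If s is the number of conjugacy classes of involutions of P, then #(P/Φ(P)) ≤ s + 1; in particular the subgroup generated by the involutions of P has order at least #(P/Φ(P)). -/
theorem result {P : Type*} [Group P] [Finite P] (hP : IsPGroup 2 P)
    (hirr : ∀ y : P, Subgroup.normalizer ((Subgroup.zpowers y : Subgroup P) : Set P) ≤ Subgroup.centralizer {y}) :
    Nat.card (P ⧸ frattini P) ≤ Nat.card {c : ConjClasses P // ∃ y : P, ConjClasses.mk y = c ∧ orderOf y = 2} + 1 ∧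
    Nat.card (P ⧸ frattini P) ≤ Nat.card (Subgroup.closure {y : P | orderOf y = 2}) := by
  classical
  haveI := Fintype.ofFinite P
  have hreal : ∀ x z : P, x⁻¹ * z * x = z⁻¹ → z ^ 2 = 1 := by
    intro x z h
    have hx : x⁻¹ ∈ Subgroup.normalizer ((Subgroup.zpowers z : Subgroup P) : Set P) := by
      rw [Subgroup.mem_normalizer_iff]
      intro n
      have key : x⁻¹ * n * x⁻¹⁻¹ = x⁻¹ * n * x⁻¹⁻¹ := rfl
      constructor
      · intro hn
        obtain ⟨i, rfl⟩ := Subgroup.mem_zpowers_iff.mp hn
        rw [← MulAut.conj_apply, map_zpow, MulAut.conj_apply, inv_inv, h, inv_zpow]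
        exact Subgroup.mem_zpowers_iff.mpr ⟨-i, zpow_neg z i⟩
      · intro hn
        obtain ⟨i, hi⟩ := Subgroup.mem_zpowers_iff.mp hn
        have : n = (MulAut.conj x⁻¹).symm (z ^ i) := by
          rw [hi, ← MulAut.conj_apply, MulEquiv.symm_apply_apply]
        rw [this, map_zpow]
        refine Subgroup.zpow_mem _ ?_ _
        rw [MulAut.conj_symm_apply]
        refine Subgroup.mem_zpowers_iff.mpr ⟨-1, ?_⟩
        rw [zpow_neg_one, inv_inv]
        calc z⁻¹ = (x * (x⁻¹ * z * x) * x⁻¹)⁻¹ := by group
          _ = (x * z⁻¹ * x⁻¹)⁻¹ := by rw [h]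
          _ = _ := by group
    have hc := hirr z hx
    rw [Subgroup.mem_centralizer_singleton_iff] at hc
    have : z = z⁻¹ := by
      rw [← h, hc]; group
    rw [sq]
    nth_rewrite 2 [this]
    exact mul_inv_cancel z
  set r : P → ℕ := fun g => (Finset.univ.filter fun x : P => x ^ 2 = g).card with hr
  set C : Finset (ConjClasses P) := (Finset.univ.filter fun z : P => z ^ 2 = 1).image ConjClasses.mk with hC
  set F : Finset P := Finset.univ.filter fun g => g ∈ frattini P with hF
  have hF' : F.card = Nat.card (frattini P) := by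
    rw [Nat.card_eq_fintype_card, Fintype.card_subtype]
  have hsum : ∑ g ∈ F, r g = Fintype.card P := by
    rw [← Finset.card_univ, Finset.card_eq_sum_card_fiberwise (f := fun x => x ^ 2) (t := F)]
    intro x _
    simpa [F] using sq_mem_frattini hP x
  have hcs := sq_sum_le_card_mul_sum_sq (s := F) (f := r)
  have hle : ∑ g ∈ F, r g ^ 2 ≤ Fintype.card P * C.card := by
    rw [hC, ← sum_sq_eq hreal]
    exact Finset.sum_le_sum_of_subset_of_nonneg (Finset.subset_univ _) (fun _ _ _ => Nat.zero_le _)
  rw [hsum] at hcs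
  have hmain : Nat.card (P ⧸ frattini P) ≤ C.card := by
    have h1 := Subgroup.card_eq_card_quotient_mul_card_subgroup (frattini P)
    rw [← hF', Nat.card_eq_fintype_card] at h1
    have h2 : Fintype.card P * Fintype.card P ≤ Fintype.card P * (F.card * C.card) := by
      rw [sq] at hcs
      calc _ ≤ F.card * ∑ g ∈ F, r g ^ 2 := hcs
        _ ≤ F.card * (Fintype.card P * C.card) := Nat.mul_le_mul_left _ hle
        _ = _ := by ring
    have h3 := Nat.le_of_mul_le_mul_left h2 Fintype.card_pos
    rw [h1, mul_comm F.card] at h3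
    refine Nat.le_of_mul_le_mul_right h3 ?_
    rw [hF']; exact Nat.card_pos
  set I : Finset P := Finset.univ.filter fun y => orderOf y = 2 with hI
  have hCle : C.card ≤ (I.image ConjClasses.mk).card + 1 := by
    refine le_trans (Finset.card_le_card ?_) (Finset.card_insert_le (ConjClasses.mk 1) _)
    intro c hc
    obtain ⟨z, hz, rfl⟩ := Finset.mem_image.mp hc
    by_cases h1 : z = 1
    · subst h1; exact Finset.mem_insert_self _ _
    · refine Finset.mem_insert_of_mem (Finset.mem_image_of_mem _ ?_)
      simp only [Finset.mem_filter, Finset.mem_univ, true_and, I] at hz ⊢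
      exact orderOf_eq_prime hz h1
  refine ⟨?_, ?_⟩
  · refine hmain.trans (hCle.trans (Nat.add_le_add_right (le_of_eq ?_) 1))
    rw [Nat.card_eq_fintype_card, Fintype.card_subtype]
    congr 1
    ext c
    simp [I, and_comm, eq_comm]
  · refine hmain.trans (le_trans Finset.card_image_le ?_)
    rw [Nat.card_eq_fintype_card, Fintype.card_subtype]
    refine Finset.card_le_card fun z hz => ?_
    simp only [Finset.mem_filter, Finset.mem_univ, true_and] at hz ⊢
    by_cases h1 : z = 1
    · subst h1; exact one_mem _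
    · exact Subgroup.subset_closure (orderOf_eq_prime hz h1)

end Cfsg.Agent.S4029
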