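import Cfsg.Statements.S4032
import Mathlib
import Cfsg.Agent.Lib.CoprimeLift

set_option autoImplicit false
open Cfsg

namespace Cfsg.Agent.S4032

open Cfsg.Agent

/-- Let π be a set of primes and G a finite group in which N_G(⟨x⟩) = C_G(x) for every π-element x. If N is a normal subgroup of G whose order is divisible by no prime of π, then G/N has the same property: N_{G/N}(⟨y⟩) = C_{G/N}(y) for every π-element y of G/N. -/
theorem result {G : Type*} [Group G] [Finite G] (π : Set ℕ)
    (hirr : ∀ x : G, (∀ r : ℕ, r.Prime → r ∣ orderOf x → r ∈ π) →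
      Subgroup.normalizer ((Subgroup.zpowers x : Subgroup G) : Set G) ≤ Subgroup.centralizer {x})
    (N : Subgroup G) [N.Normal] (hN : ∀ r : ℕ, r.Prime → r ∣ Nat.card N → r ∉ π) :
    ∀ y : G ⧸ N, (∀ r : ℕ, r.Prime → r ∣ orderOf y → r ∈ π) →
      Subgroup.normalizer ((Subgroup.zpowers y : Subgroup (G ⧸ N)) : Set (G ⧸ N)) ≤ Subgroup.centralizer {y} := by
  intro y hy g hg
  set D := Subgroup.centralizer ({g} : Set (G ⧸ N)) ⊓ Subgroup.zpowers y with hD
  suffices hs : y ∈ D by
    exact Subgroup.mem_centralizer_singleton_iff.mpr (Subgroup.mem_centralizer_singleton_iff.mp hs.1).symm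
  have hdvd : orderOf y ∣ Nat.card D := by
    rw [← Nat.factorization_prime_le_iff_dvd (orderOf_pos y).ne' Nat.card_pos.ne']
    intro p hp
    rw [← Nat.Prime.pow_dvd_iff_le_factorization hp Nat.card_pos.ne']
    set a := (orderOf y).factorization p with ha
    by_cases ha0 : a = 0
    · rw [ha0, pow_zero]; exact one_dvd _
    have hpa : p ^ a ∣ orderOf y := Nat.ordProj_dvd _ _
    set m := orderOf y / p ^ a with hm
    have hm0 : m ≠ 0 := Nat.div_ne_zero_iff.mpr ⟨pow_ne_zero _ hp.ne_zero, Nat.le_of_dvd (orderOf_pos y) hpa⟩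
    have hord : orderOf (y ^ m) = p ^ a := by
      rw [orderOf_pow_of_dvd hm0 (Nat.div_dvd_of_dvd hpa), Nat.div_div_self hpa (orderOf_pos y).ne']
    have hpπ : p ∈ π := hy p hp ((dvd_pow_self p ha0).trans hpa)
    have hcop : (orderOf (y ^ m)).Coprime (Nat.card N) := by
      rw [hord]
      exact Nat.Coprime.pow_left _ ((Nat.Prime.coprime_iff_not_dvd hp).mpr (fun hd => hN p hp hd hpπ))
    obtain ⟨x, hx, hxo⟩ := CoprimeLift.exists_lift_coprime N (y ^ m) hcop
    have hgn : g ∈ Subgroup.normalizer ((Subgroup.zpowers (x : G ⧸ N) : Subgroup (G ⧸ N)) : Set (G ⧸ N)) := by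
      have hd : (m : ℕ) ∣ orderOf y := Nat.div_dvd_of_dvd hpa
      rw [hx, Subgroup.mem_normalizer_iff]
      intro z
      constructor
      · intro hz
        obtain ⟨i, rfl⟩ := Subgroup.mem_zpowers_iff.mp hz
        obtain ⟨j, hj⟩ := Subgroup.mem_zpowers_iff.mp ((Subgroup.mem_normalizer_iff.mp hg y).mp (Subgroup.mem_zpowers y))
        refine Subgroup.mem_zpowers_iff.mpr ⟨j * i, ?_⟩
        rw [← conj_zpow, ← conj_pow, ← hj, zpow_mul]
        simp only [← zpow_natCast, ← zpow_mul]
        congr 1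
        ring
      · intro hz
        obtain ⟨i, hi⟩ := Subgroup.mem_zpowers_iff.mp hz
        obtain ⟨j, hj⟩ := Subgroup.mem_zpowers_iff.mp
          ((Subgroup.mem_normalizer_iff.mp (inv_mem hg) y).mp (Subgroup.mem_zpowers y))
        refine Subgroup.mem_zpowers_iff.mpr ⟨j * i, ?_⟩
        have h1 : z = g⁻¹ * (g * z * g⁻¹) * g⁻¹⁻¹ := by group
        rw [h1, ← hi, ← conj_zpow, ← conj_pow, ← hj, zpow_mul]
        simp only [← zpow_natCast, ← zpow_mul]
        congr 1
        ring
    obtain ⟨u, hu, hun⟩ := CoprimeLift.exists_lift_normalizer N x (hxo ▸ hcop) g hgn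
    have hcomm := Subgroup.mem_centralizer_singleton_iff.mp (hirr x (fun r hr hd => by
      rw [hxo, hord] at hd
      exact (Nat.prime_dvd_prime_iff_eq hr hp).mp (hr.dvd_of_dvd_pow hd) ▸ hpπ) hun)
    have hmem : y ^ m ∈ D := by
      refine ⟨Subgroup.mem_centralizer_singleton_iff.mpr ?_, Subgroup.pow_mem _ (Subgroup.mem_zpowers y) m⟩
      have := congrArg (fun z : G => (z : G ⧸ N)) hcomm
      simp only [QuotientGroup.mk_mul, hu, hx] at this
      exact this.symm
    rw [← hord]
    exact Subgroup.orderOf_dvd_natCard D hmem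
  have heq : D = Subgroup.zpowers y := Subgroup.eq_of_le_of_card_ge inf_le_right (by
    rw [Nat.card_zpowers]; exact Nat.le_of_dvd Nat.card_pos hdvd)
  rw [heq]
  exact Subgroup.mem_zpowers y

end Cfsg.Agent.S4032
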