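import Cfsg.Statements.S4036
import Mathlib

set_option autoImplicit false
open Cfsg

namespace Cfsg.Agent.S4036

/-- Let P be a finite abelian p-group and K a group of automorphisms of P (a subgroup of Aut P) whose order is divisible by p. If all non-identity elements of K have the same fixed-point subgroup on P, then K has no non-trivial normal subgroup of order prime to p. -/
theorem result {P : Type*} [CommGroup P] [Finite P] {p : ℕ}
    [Fact p.Prime] (hP : IsPGroup p P) (K : Subgroup (MulAut P)) (hK : p ∣ Nat.card K)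
    (hfix : ∀ x y : MulAut P, x ∈ K → y ∈ K → x ≠ 1 → y ≠ 1 → ∀ v : P, x v = v ↔ y v = v) :
    ∀ N : Subgroup ↥K, N.Normal → ¬ p ∣ Nat.card N → N = ⊥ := by
  intro N hN hpN
  classical
  haveI : Fintype N := Fintype.ofFinite N
  rw [Subgroup.eq_bot_iff_forall]
  intro n₀ hn₀
  by_contra hne
  have hn₀' : ((n₀ : ↥K) : MulAut P) ≠ 1 := fun h => hne (Subtype.ext h)
  -- the product of all conjugates
  let e : P →* P :=
    { toFun := fun v => ∏ n : N, ((n : ↥K) : MulAut P) v
      map_one' := by simp
      map_mul' := fun v w => by simp [Finset.prod_mul_distrib] }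
  have he_inv : ∀ (m : N) (v : P), ((m : ↥K) : MulAut P) (e v) = e v := by
    intro m v
    simp only [e, MonoidHom.coe_mk, OneHom.coe_mk, map_prod]
    exact Fintype.prod_equiv (Equiv.mulLeft m) _ _ (fun n => by simp [MulAut.mul_apply])
  -- x of order p
  obtain ⟨x, hx⟩ := exists_prime_orderOf_dvd_card' (G := ↥K) p hK
  have hx' : (x : MulAut P) ≠ 1 := fun h => by
    have : x = 1 := Subtype.ext h
    rw [this, orderOf_one] at hx
    exact (Fact.out : p.Prime).one_lt.ne' hx.symm
  have he_x : ∀ v : P, e ((x : MulAut P) v) = (x : MulAut P) (e v) := by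
    intro v
    simp only [e, MonoidHom.coe_mk, OneHom.coe_mk, map_prod]
    let σ : N ≃ N := (MulAut.conjNormal (H := N) x⁻¹).toEquiv
    refine (Fintype.prod_equiv σ _ _ fun n => ?_)
    have : x * ((σ n : N) : ↥K) = (n : ↥K) * x := by
      simp [σ, MulEquiv.toEquiv_eq_coe, mul_assoc]
    rw [← MulAut.mul_apply, ← MulAut.mul_apply, ← Subgroup.coe_mul, ← Subgroup.coe_mul, this]
  let W : Subgroup P := e.ker
  -- the action of ⟨x⟩ on W
  have hstab : ∀ v ∈ W, (x : MulAut P) v ∈ W := fun v hv => by
    rw [MonoidHom.mem_ker] at hv ⊢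
    rw [he_x, hv, map_one]
  have hpow : ∀ g ∈ Subgroup.zpowers (x : MulAut P), ∀ v ∈ W, g v ∈ W := by
    intro g hg v hv
    obtain ⟨k, rfl⟩ := (isOfFinOrder_of_finite _).mem_powers_iff_mem_zpowers.mpr hg
    induction k generalizing v with
    | zero => simpa using hv
    | succ k ih =>
      simp only [pow_succ, MulAut.mul_apply]
      exact ih _ (hstab v hv) (Subgroup.pow_mem _ (Subgroup.mem_zpowers _) k)
  letI : MulAction (Subgroup.zpowers (x : MulAut P)) W :=
    { smul := fun g v => ⟨(g : MulAut P) v.1, hpow g g.2 v v.2⟩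
      one_smul := fun v => Subtype.ext rfl
      mul_smul := fun g h v => Subtype.ext rfl }
  have hxp : IsPGroup p (Subgroup.zpowers (x : MulAut P)) :=
    IsPGroup.of_card (n := 1) (by rw [Nat.card_zpowers, Subgroup.orderOf_coe, hx, pow_one])
  have hcopN : ∀ v : P, v ^ Nat.card N = 1 → v = 1 := by
    intro v hv
    obtain ⟨k, hk⟩ := (IsPGroup.iff_orderOf.mp hP) v
    have h1 : orderOf v ∣ Nat.card N := orderOf_dvd_of_pow_eq_one hv
    rw [hk] at h1
    rcases k with _ | k
    · simpa using hk
    · exact absurd ((dvd_pow_self p k.succ_ne_zero).trans h1) hpN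
  by_cases hW : ∀ v ∈ W, v = 1
  · -- then e is injective, so N fixes everything
    have hsurj : Function.Surjective e := Finite.injective_iff_surjective.mp
      ((injective_iff_map_eq_one e).mpr fun v hv => hW v (MonoidHom.mem_ker.mpr hv))
    apply hn₀'
    ext v
    obtain ⟨w, rfl⟩ := hsurj v
    exact he_inv ⟨n₀, hn₀⟩ w
  · push Not at hW
    obtain ⟨v, hv, hv1⟩ := hW
    have hpW : p ∣ Nat.card W := by
      haveI : Nontrivial W := ⟨⟨⟨v, hv⟩, 1, fun h => hv1 (congrArg Subtype.val h)⟩⟩
      rcases (hP.to_subgroup W).card_eq_or_dvd with h | h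
      · exact absurd h (by simp [Nat.card_eq_one_iff_unique, not_subsingleton W])
      · exact h
    obtain ⟨w, hw, hw1⟩ := hxp.exists_fixed_point_of_prime_dvd_card_of_fixed_point W hpW
      (a := (1 : W)) (fun g => Subtype.ext (map_one (g : MulAut P)))
    have hwx : (x : MulAut P) (w : P) = w := congrArg Subtype.val (hw ⟨_, Subgroup.mem_zpowers _⟩)
    have hwN : ∀ n : N, ((n : ↥K) : MulAut P) (w : P) = w := by
      intro n
      by_cases hn : ((n : ↥K) : MulAut P) = 1
      · simp [hn]
      · exact (hfix _ _ x.2 (n : ↥K).2 hx' hn _).mp hwx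
    have : (w : P) ^ Nat.card N = 1 := by
      have := MonoidHom.mem_ker.mp w.2
      simpa [e, hwN, Nat.card_eq_fintype_card] using this
    exact hw1 (Subtype.ext (hcopN _ this).symm)

end Cfsg.Agent.S4036
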