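import Cfsg.Statements.S4038
import Cfsg.Agent.Lib.CoprimeNilMaxMain38

set_option autoImplicit false
open Cfsg
open scoped commutatorElement

namespace Cfsg.Agent.S4038

/-- Let A and G be finite groups of coprime orders with A acting on G by automorphisms. Suppose G has a proper A-invariant subgroup M, maximal among proper A-invariant subgroups, which is nilpotent and whose Sylow 2-subgroups have nilpotency class at most 2. Then G is solvable. -/
theorem result {G A : Type*} [Group G] [Finite G]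
    [Group A] [Finite A] (φ : A →* MulAut G) (hcop : (Nat.card A).Coprime (Nat.card G))
    (M : Subgroup G) (hMtop : M ≠ ⊤) (hMinv : ∀ a : A, ∀ m : G, m ∈ M → φ a m ∈ M)
    (hMmax : ∀ H : Subgroup G, M ≤ H → H ≠ ⊤ → (∀ a : A, ∀ h : G, h ∈ H → φ a h ∈ H) → H = M)
    (hnil : Group.IsNilpotent M) (h2 : ∀ S : Sylow 2 ↥M, Group.nilpotencyClass ↥(S : Subgroup ↥M) ≤ 2) :
    Group.IsSolvable G := by
  refine CoprimeNilMax38.solvable_of_nilpotent_maximal _ G φ rfl hcop M hMtop hMinv hMmax hnil ?_
  intro x hx y hy s hs h2x h2y h2s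
  have : Fact (Nat.Prime 2) := ⟨Nat.prime_two⟩
  obtain ⟨S⟩ : Nonempty (Sylow 2 M) := inferInstance
  have hSnil : Group.IsNilpotent (S : Subgroup M) := S.isPGroup'.isNilpotent
  have h := Subgroup.lowerCentralSeries_eq_bot_iff_nilpotencyClass_le.mpr (h2 S)
  rw [Subgroup.lowerCentralSeries_succ, Subgroup.lowerCentralSeries_succ, Subgroup.lowerCentralSeries_zero,
    Subgroup.commutator_eq_bot_iff_le_centralizer] at h
  set a : (S : Subgroup M) := ⟨⟨x, hx⟩, CoprimeNilMax38.two_mem_sylow hnil S hx h2x⟩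
  set b : (S : Subgroup M) := ⟨⟨y, hy⟩, CoprimeNilMax38.two_mem_sylow hnil S hy h2y⟩
  set c : (S : Subgroup M) := ⟨⟨s, hs⟩, CoprimeNilMax38.two_mem_sylow hnil S hs h2s⟩
  have h1 := Subgroup.mem_centralizer_iff.1
    (h (Subgroup.commutator_mem_commutator (Subgroup.mem_top a) (Subgroup.mem_top b))) c (Subgroup.mem_top c)
  exact (congrArg (fun q : (S : Subgroup M) => ((q : M) : G)) h1).symm

end Cfsg.Agent.S4038
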