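import Cfsg.Statements.S4039
import Cfsg.Agent.Lib.NilpotentMaximal
import Cfsg.Agent.Lib.TransferTate

set_option autoImplicit false
open Cfsg

namespace Cfsg.Agent.S4039

open scoped commutatorElement Pointwise

open NilpotentMaximal

universe u

theorem commutator_le_center_of_surjective {A B : Type u} [Group A] [Group B] {f : A →* B}
    (hf : Function.Surjective f) (h : commutator A ≤ Subgroup.center A) :
    commutator B ≤ Subgroup.center B := by
  rw [commutator_def, ← Subgroup.map_top_of_surjective f hf, ← Subgroup.map_commutator,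
    ← commutator_def]
  rintro _ ⟨x, hx, rfl⟩
  rw [Subgroup.mem_center_iff]
  intro y
  obtain ⟨y, rfl⟩ := hf y
  rw [← map_mul, ← map_mul, Subgroup.mem_center_iff.mp (h hx) y]

/-- The Sylow subgroup of a maximal nilpotent subgroup of class two controls fusion. -/
theorem controls_of_classTwo {G : Type u} [Group G] [Finite G] {p : ℕ} [Fact p.Prime]
    (Q : Sylow p G) {M : Subgroup G}
    (hNQ : Subgroup.normalizer ((Q : Subgroup G) : Set G) = M) (hQM : (Q : Subgroup G) ≤ M)
    (hQne : (Q : Subgroup G) ≠ ⊥) (hcl : commutator M ≤ Subgroup.center M)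
    (hnn : ∀ X : Subgroup G, X ≤ M → X ≠ ⊥ → Subgroup.normalizer (X : Set G) ≠ ⊤)
    (hM : IsCoatom M)
    (hPM : ∀ {r : G}, r ∈ M → ∀ R : Subgroup G, IsPGroup p R → r ∈ R → r ∈ (Q : Subgroup G))
    (hpn : Cfsg.HasNormalPComplement p M) :
    TransferTate.ControlsFusion (Q : Subgroup G) (Q : Subgroup G) := by
  classical
  set Z := FrobeniusThompson.zOf (Q : Subgroup G) with hZdef
  have hZne : Z ≠ ⊥ := FrobeniusThompson.zOf_ne_bot Q.isPGroup' hQne
  -- a Sylow subgroup containing `Z` is `Q`
  have huniq : ∀ R : Sylow p G, Z ≤ (R : Subgroup G) → (R : Subgroup G) = Q := by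
    intro R hZR
    set U := (Q : Subgroup G) ⊓ R with hU
    have hconj : ∀ m ∈ M, ∀ u ∈ U, m * u * m⁻¹ ∈ U := by
      intro m hm u hu
      have hc : (⁅(⟨m, hm⟩ : M), ⟨u, hQM hu.1⟩⁆ : M) ∈ Subgroup.center M :=
        hcl (Subgroup.commutator_mem_commutator (Subgroup.mem_top _) (Subgroup.mem_top _))
      have hQn : m * u * m⁻¹ ∈ (Q : Subgroup G) := by
        have hm' : m ∈ Subgroup.normalizer ((Q : Subgroup G) : Set G) := hNQ.symm ▸ hm
        exact (Subgroup.mem_normalizer_iff.mp hm' u).mp hu.1
      have hQc : ⁅m, u⁆ ∈ (Q : Subgroup G) := by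
        rw [commutatorElement_def]
        exact mul_mem hQn (inv_mem hu.1)
      have hcZ : ⁅m, u⁆ ∈ Z := by
        refine ⟨hQc, Subgroup.mem_centralizer_iff.mpr fun q hq => ?_⟩
        exact congrArg Subtype.val (Subgroup.mem_center_iff.mp hc ⟨q, hQM hq⟩)
      refine ⟨hQn, ?_⟩
      have e : m * u * m⁻¹ = ⁅m, u⁆ * u := by rw [commutatorElement_def]; group
      rw [e]
      exact mul_mem (hZR hcZ) hu.2
    have hUne : U ≠ ⊥ := fun h => hZne (le_bot_iff.mp (h ▸ le_inf inf_le_left hZR))
    have hMU : M ≤ Subgroup.normalizer (U : Set G) := by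
      intro m hm
      rw [Subgroup.mem_normalizer_iff]
      refine fun x => ⟨fun hx => hconj m hm x hx, fun hx => ?_⟩
      have := hconj m⁻¹ (inv_mem hm) _ hx
      simpa [mul_assoc] using this
    have hNU : Subgroup.normalizer (U : Set G) = M :=
      eq_of_le hM hMU (hnn U (inf_le_left.trans hQM) hUne)
    by_contra hne
    have hUR : U.subgroupOf R ≠ ⊤ := by
      intro h
      have hRU : (R : Subgroup G) ≤ U := Subgroup.subgroupOf_eq_top.mp h
      exact hne (R.is_maximal' Q.isPGroup' (hRU.trans inf_le_left)).symm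
    have hnilR := R.isPGroup'.isNilpotent
    have h1 := Group.normalizerCondition_of_isNilpotent (G := R) (U.subgroupOf R)
      (lt_top_iff_ne_top.mpr hUR)
    obtain ⟨r, hr, hrU⟩ := SetLike.exists_of_lt h1
    apply hrU
    have hrM : (r : G) ∈ M := by
      rw [← hNU, Subgroup.mem_normalizer_iff]
      intro y
      have hr' := Subgroup.mem_normalizer_iff.mp hr
      constructor
      · intro hy; exact (hr' ⟨y, hy.2⟩).mp hy
      · intro hy
        have hyR : y ∈ (R : Subgroup G) := by
          have := (R : Subgroup G).mul_mem ((R : Subgroup G).mul_mem ((R : Subgroup G).inv_mem r.2) hy.2) r.2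
          simpa [mul_assoc] using this
        exact (hr' ⟨y, hyR⟩).mpr hy
    rw [Subgroup.mem_subgroupOf]
    exact ⟨hPM hrM R R.isPGroup' r.2, r.2⟩
  intro x hx g hy
  set y := g * x * g⁻¹ with hydef
  set C := Subgroup.centralizer ({y} : Set G) with hC
  have hZC : Z ≤ C := by
    intro z hz
    rw [hC, Subgroup.mem_centralizer_iff]
    rintro _ rfl
    exact Subgroup.mem_centralizer_iff.mp hz.2 _ hy
  set Z' := Z.map (MulAut.conj g).toMonoidHom with hZ'
  have hZ'C : Z' ≤ C := by
    rintro _ ⟨z, hz, rfl⟩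
    rw [hC, Subgroup.mem_centralizer_iff]
    rintro _ rfl
    have := Subgroup.mem_centralizer_iff.mp hz.2 _ hx
    simp only [MulEquiv.coe_toMonoidHom, MulAut.conj_apply]
    calc y * (g * z * g⁻¹) = g * (x * z) * g⁻¹ := by rw [hydef]; group
      _ = g * (z * x) * g⁻¹ := by rw [this]
      _ = g * z * g⁻¹ * y := by rw [hydef]; group
  have hpZ : IsPGroup p Z := Q.isPGroup'.to_le inf_le_left
  obtain ⟨T, hT⟩ := (hpZ.comap_subtype (K := C)).exists_le_sylow
  obtain ⟨T₂, hT₂⟩ := ((hpZ.map (MulAut.conj g).toMonoidHom).comap_subtype (K := C)).exists_le_sylow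
  obtain ⟨c, hc⟩ := MulAction.exists_smul_eq C T₂ T
  obtain ⟨S, hS⟩ := (T.isPGroup'.map C.subtype).exists_le_sylow
  have hSQ : (S : Subgroup G) = Q :=
    huniq S fun z hz => hS ⟨⟨z, hZC hz⟩, hT hz, rfl⟩
  set h := (c : G) * g with hh
  have hconjZ : ∀ z ∈ Z, h * z * h⁻¹ ∈ (Q : Subgroup G) := by
    intro z hz
    rw [← hSQ]
    have hz' : g * z * g⁻¹ ∈ Z' := ⟨z, hz, rfl⟩
    have h2 : c * ⟨g * z * g⁻¹, hZ'C hz'⟩ * c⁻¹ ∈ (T : Subgroup C) := by
      rw [← hc]
      exact Subgroup.smul_mem_pointwise_smul _ (MulAut.conj c) _ (hT₂ hz')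
    refine hS ⟨_, h2, ?_⟩
    simp [hh, mul_assoc]
  have hhM : h ∈ M := by
    have := huniq (h⁻¹ • Q) fun z hz => by
      rw [Sylow.coe_subgroup_smul, Subgroup.mem_pointwise_smul_iff_inv_smul_mem]
      simpa using hconjZ z hz
    have h' : h⁻¹ ∈ Subgroup.normalizer ((Q : Subgroup G) : Set G) :=
      Sylow.smul_eq_iff_mem_normalizer.mp (Sylow.ext this)
    rw [hNQ] at h'
    simpa using inv_mem h'
  have hhxy : h * x * h⁻¹ = y := by
    have hcy := Subgroup.mem_centralizer_iff.mp c.2 y rfl
    rw [hh]
    calc (c : G) * g * x * ((c : G) * g)⁻¹ = (c : G) * y * (c : G)⁻¹ := by rw [hydef]; group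
      _ = y * (c : G) * (c : G)⁻¹ := by rw [hcy]
      _ = y := by group
  have hctrl := TransferTate.control_of_hasNormalPComplement (Q.subtype hQM) hpn
  obtain ⟨a, ha, hax⟩ := hctrl ⟨x, hQM hx⟩ hx ⟨h, hhM⟩ (by
    change h * x * h⁻¹ ∈ (Q : Subgroup G)
    rw [hhxy]; exact hy)
  exact ⟨a, ha, (congrArg Subtype.val hax).trans hhxy⟩

theorem isSolvable_of_classTwo_maximal : ∀ (n : ℕ) (G : Type u) [Group G] [Finite G], Nat.card G = n →
    ∀ M : Subgroup G, IsCoatom M → Group.IsNilpotent M → commutator M ≤ Subgroup.center M →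
      Group.IsSolvable G := by
  intro n
  induction n using Nat.strong_induction_on with
  | _ n ih =>
    intro G _ _ hn M hM hnil hcl
    by_cases hcore : M.normalCore = ⊥
    swap
    · set N := M.normalCore
      have hker : (QuotientGroup.mk' N).ker ≤ M := by
        rw [QuotientGroup.ker_mk']; exact M.normalCore_le
      have hsurj := QuotientGroup.mk'_surjective N
      have hlt : Nat.card (G ⧸ N) < n := by
        rw [← hn, Subgroup.card_eq_card_quotient_mul_card_subgroup N]
        exact lt_mul_of_one_lt_right Nat.card_pos ((Subgroup.one_lt_card_iff_ne_bot N).mpr hcore)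
      have hcomap : (M.map (QuotientGroup.mk' N)).comap (QuotientGroup.mk' N) = M :=
        Subgroup.comap_map_eq_self hker
      have hmax : IsCoatom (M.map (QuotientGroup.mk' N)) := by
        refine ⟨fun h => hM.1 (by rw [← hcomap, h]; exact Subgroup.comap_top _), fun K hK => ?_⟩
        have hlt' : M < K.comap (QuotientGroup.mk' N) :=
          lt_of_eq_of_lt hcomap.symm ((Subgroup.comap_lt_comap_of_surjective hsurj).mpr hK)
        rw [← Subgroup.map_comap_eq_self_of_surjective hsurj K, hM.2 _ hlt',
          Subgroup.map_top_of_surjective _ hsurj]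
      have := hnil
      have hq := ih _ hlt (G ⧸ N) rfl _ hmax
        (Group.nilpotent_of_surjective _ ((QuotientGroup.mk' N).subgroupMap_surjective M))
        (commutator_le_center_of_surjective ((QuotientGroup.mk' N).subgroupMap_surjective M) hcl)
      have hN : Group.IsSolvable N := CoprimeAction.isSolvable_of_le M.normalCore_le
      exact Group.isSolvable_of_ker_le_range N.subtype (QuotientGroup.mk' N) (by simp)
    -- now `M` is corefree
    have := hnil
    have hMsol : Group.IsSolvable M := inferInstance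
    let π : Finset ℕ := (Nat.card M).primeFactors
    have hprime : ∀ p : π, Fact (p : ℕ).Prime := fun p => ⟨Nat.prime_of_mem_primeFactors p.2⟩
    -- each prime of `M` has a normal complement in `G`, and its Sylow subgroup in `M` is a Sylow of `G`
    have key : ∀ p : π, Cfsg.HasNormalPComplement (p : ℕ) G ∧ ¬ (p : ℕ) ∣ M.index := by
      rintro ⟨p, hp⟩
      have : Fact p.Prime := ⟨Nat.prime_of_mem_primeFactors hp⟩
      have hpM : p ∣ Nat.card M := Nat.dvd_of_mem_primeFactors hp
      obtain ⟨P⟩ : Nonempty (Sylow p M) := inferInstance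
      have hPn : (P : Subgroup M).Normal := inferInstance
      set P' := (P : Subgroup M).map M.subtype with hP'
      have hP'ne : P' ≠ ⊥ := by
        rw [hP', Ne, Subgroup.map_eq_bot_iff_of_injective _ M.subtype_injective]
        exact P.ne_bot_of_dvd_card hpM
      have hMP : M ≤ Subgroup.normalizer (P' : Set G) := by
        intro m hm
        rw [Subgroup.mem_normalizer_iff]
        intro x
        constructor
        · rintro ⟨y, hy, rfl⟩
          exact ⟨⟨m, hm⟩ * y * ⟨m, hm⟩⁻¹, hPn.conj_mem y hy _, rfl⟩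
        · rintro ⟨y, hy, hyx⟩
          refine ⟨⟨m, hm⟩⁻¹ * y * ⟨m, hm⟩, hPn.conj_mem' y hy _, ?_⟩
          simp only [map_mul, map_inv, hyx]
          simp [mul_assoc]
      have hnotnormal : ∀ X : Subgroup G, X ≤ M → X ≠ ⊥ → Subgroup.normalizer (X : Set G) ≠ ⊤ := by
        intro X hXM hX h
        have : X.Normal := Subgroup.normalizer_eq_top_iff.mp h
        exact hX (le_bot_iff.mp (hcore ▸ Subgroup.normal_le_normalCore.mpr hXM))
      have hP'M : P' ≤ M := Subgroup.map_subtype_le _
      have hN : Subgroup.normalizer (P' : Set G) = M := eq_of_le hM hMP (hnotnormal P' hP'M hP'ne)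
      -- `P'` is a Sylow subgroup of `G`
      obtain ⟨Q, hQ⟩ := (P.isPGroup'.map M.subtype).exists_le_sylow
      have hQP : P' = (Q : Subgroup G) := by
        by_contra hne
        have hlt : P' < (Q : Subgroup G) := lt_of_le_of_ne hQ hne
        have hnilQ := Q.isPGroup'.isNilpotent
        have h1 := Group.normalizerCondition_of_isNilpotent (G := Q) (P'.subgroupOf Q)
          (lt_top_iff_ne_top.mpr fun h => hne (le_antisymm hQ (Subgroup.subgroupOf_eq_top.mp h)))
        obtain ⟨x, hx, hxP⟩ := SetLike.exists_of_lt h1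
        apply hxP
        have hxN : (x : G) ∈ M := by
          rw [← hN, Subgroup.mem_normalizer_iff]
          intro y
          constructor
          · intro hy
            have hyQ : y ∈ (Q : Subgroup G) := hQ hy
            exact ((Subgroup.mem_normalizer_iff.mp hx) ⟨y, hyQ⟩).mp hy
          · intro hy
            have hyQ : y ∈ (Q : Subgroup G) := by
              have := (Q : Subgroup G).mul_mem ((Q : Subgroup G).mul_mem ((Q : Subgroup G).inv_mem x.2) (hQ hy)) x.2
              simpa [mul_assoc] using this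
            exact ((Subgroup.mem_normalizer_iff.mp hx) ⟨y, hyQ⟩).mpr hy
        have hsup : IsPGroup p ((Q : Subgroup G).subgroupOf M) := Q.isPGroup'.comap_subtype
        have heq := P.is_maximal' hsup (fun y hy => hQ ⟨y, hy, rfl⟩)
        rw [Subgroup.mem_subgroupOf]
        exact ⟨⟨x, hxN⟩, heq ▸ (x.2 : (⟨x, hxN⟩ : M) ∈ (Q : Subgroup G).subgroupOf M), rfl⟩
      have hidx : ¬ p ∣ M.index := fun hd => by
        have := Q.not_dvd_index
        rw [← hQP] at this
        exact this (hd.trans (Subgroup.index_dvd_of_le hP'M))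
      refine ⟨?_, hidx⟩
      have hNQ : Subgroup.normalizer ((Q : Subgroup G) : Set G) = M := hQP ▸ hN
      have hQM : (Q : Subgroup G) ≤ M := hQP ▸ hP'M
      have hQne : (Q : Subgroup G) ≠ ⊥ := hQP ▸ hP'ne
      have hPM : ∀ {r : G}, r ∈ M → ∀ R : Subgroup G, IsPGroup p R → r ∈ R → r ∈ (Q : Subgroup G) := by
        intro r hrM R hR hrR
        obtain ⟨T, hT⟩ := (hR.comap_subtype (K := M)).exists_le_sylow
        have := Sylow.unique_of_normal P hPn
        have hTP : T = P := Subsingleton.elim _ _
        have h1 : (⟨r, hrM⟩ : M) ∈ (T : Subgroup M) := hT hrR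
        rw [hTP] at h1
        exact hQP ▸ Subgroup.mem_map_of_mem M.subtype h1
      exact TransferTate.hasNormalPComplement_of_control Q
        (controls_of_classTwo Q hNQ hQM hQne hcl (fun X hX hXne => hnotnormal X hX hXne) hM hPM
          (hasNormalPComplement_of_isNilpotent hnil p))
    -- the intersection of the complements
    let f : G →* ∀ p : π, G ⧸ Cfsg.pResidual (p : ℕ) G := MonoidHom.pi fun p => QuotientGroup.mk' _
    have hGf : Group.IsSolvable f.range := by
      have : ∀ p : π, Group.IsNilpotent (G ⧸ Cfsg.pResidual (p : ℕ) G) := fun p =>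
        have := hprime p
        TransferPResidual.isPGroup_quotient_pResidual.isNilpotent
      infer_instance
    have hmemN : ∀ x, x ∈ f.ker → ∀ p : π, x ∈ Cfsg.pResidual (p : ℕ) G := fun x hx p =>
      (QuotientGroup.eq_one_iff x).mp (congrFun (MonoidHom.mem_ker.mp hx) p)
    suffices hker : Group.IsSolvable f.ker by
      exact Group.isSolvable_of_ker_le_range f.ker.subtype f.rangeRestrict (by simp)
    set N := f.ker
    have hcop : (Nat.card M).Coprime (Nat.card N) := by
      refine Nat.coprime_of_dvd fun q hq hqM hqN => ?_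
      have hq' : q ∈ π := Nat.mem_primeFactors.mpr ⟨hq, hqM, Nat.card_pos.ne'⟩
      have : Fact q.Prime := ⟨hq⟩
      exact (TransferPResidual.hasNormalPComplement_iff_not_dvd.mp (key ⟨q, hq'⟩).1)
        (hqN.trans (Subgroup.card_dvd_of_le fun x hx => hmemN x hx ⟨q, hq'⟩))
    by_cases hN : N = ⊥
    · rw [hN]; infer_instance
    obtain ⟨q, hq, hqN⟩ := Nat.exists_prime_and_dvd
      (by rw [ne_eq, Subgroup.card_eq_one]; exact hN : Nat.card N ≠ 1)
    have : Fact q.Prime := ⟨hq⟩
    have hNn : N.Normal := inferInstance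
    obtain ⟨S, hS⟩ := CoprimeAction.exists_invariant_sylow (A := M) (K := N)
      (fun _ _ => by rw [Subgroup.normalizer_eq_top_iff.mpr hNn]; trivial) hcop (Or.inl hMsol) q
    set S' := (S : Subgroup N).map N.subtype
    have hSn : (S : Subgroup N) = ⊤ := by
      have hMS : M ≤ Subgroup.normalizer (S' : Set G) := hS
      have hS'ne : S' ≠ ⊥ := by
        rw [Ne, Subgroup.map_eq_bot_iff_of_injective _ N.subtype_injective]
        exact S.ne_bot_of_dvd_card hqN
      have htop : M ⊔ S' = ⊤ := by
        refine hM.2 _ (left_lt_sup.mpr fun h => hS'ne ?_)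
        have hS'c : Nat.card S' = 1 :=
          Nat.Coprime.eq_one_of_dvd (hcop.symm.coprime_dvd_left (Subgroup.card_dvd_of_le (Subgroup.map_subtype_le _)))
            (Subgroup.card_dvd_of_le h)
        exact Subgroup.card_eq_one.mp hS'c
      rw [Subgroup.eq_top_iff']
      intro x
      have hx : (x : G) ∈ (↑(S' ⊔ M) : Set G) := by rw [sup_comm, htop]; trivial
      rw [Subgroup.coe_mul_of_right_le_normalizer_left _ _ hMS] at hx
      obtain ⟨s, hs, m, hm, hsm⟩ := Set.mem_mul.mp hx
      have hm1 : m = 1 := by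
        have hmN : m ∈ N := by
          have : m = s⁻¹ * x := by rw [← hsm]; group
          rw [this]
          exact N.mul_mem (N.inv_mem (Subgroup.map_subtype_le _ hs)) x.2
        exact Subgroup.disjoint_def.mp (disjoint_iff.mpr (Subgroup.inf_eq_bot_of_coprime hcop)) hm hmN
      obtain ⟨s', hs', hs''⟩ := hs
      have : s' = x := Subtype.ext (by rw [← hsm, hm1, mul_one]; exact hs'')
      exact this ▸ hs'
    have : IsPGroup q (⊤ : Subgroup N) := hSn ▸ S.isPGroup'
    have := (this.of_equiv Subgroup.topEquiv).isNilpotent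
    infer_instance


/-- A finite group possessing a maximal subgroup that is nilpotent of class at most 2 is solvable. -/
theorem result {G : Type*} [Group G] [Finite G]
    (M : Subgroup G) (hmax : IsCoatom M) (hnil : Group.IsNilpotent M) (hcl : Group.nilpotencyClass ↥M ≤ 2) :
    Group.IsSolvable G := by
  refine isSolvable_of_classTwo_maximal _ G rfl M hmax hnil ?_
  have := hnil
  have h2 : (⊤ : Subgroup M).lowerCentralSeries 2 = ⊥ :=
    Subgroup.lowerCentralSeries_eq_bot_iff_nilpotencyClass_le.mpr hcl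
  rw [Subgroup.lowerCentralSeries_succ, Subgroup.lowerCentralSeries_succ, Subgroup.lowerCentralSeries_zero,
    Subgroup.commutator_eq_bot_iff_le_centralizer] at h2
  simpa [Subgroup.centralizer_univ, commutator_def] using h2

end Cfsg.Agent.S4039
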