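import Cfsg.Statements.S4043
import Mathlib
import Cfsg.Agent.Lib.CoprimeSZ
import Cfsg.Agent.Lib.HallCore

set_option autoImplicit false
open Cfsg

namespace Cfsg.Agent.S4043

open Cfsg.Agent
open scoped Pointwise

/-- The normal `p`-complement of a complement of `N`, viewed in `G`. -/
theorem exists_complement_core {G : Type*} [Group G] [Finite G] {p : ℕ} [Fact p.Prime]
    (N A : Subgroup G) [N.Normal] (hA : A.IsComplement' N) (hAp : Cfsg.HasNormalPComplement p A) :
    ∃ K : Subgroup G, K ≤ A ∧ A ≤ Subgroup.normalizer (K : Set G) ∧ ¬ p ∣ Nat.card K ∧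
      Nat.card K = (Nat.card (G ⧸ N)) / p ^ (Nat.card (G ⧸ N)).factorization p ∧
      (∀ x ∈ A, ¬ p ∣ orderOf x → x ∈ K) ∧ ∃ j : ℕ, Nat.card A = Nat.card K * p ^ j := by
  have hp : p.Prime := Fact.out
  obtain ⟨P, M, hM, hc⟩ := hAp
  have hMp : ¬ p ∣ Nat.card M := by
    rw [← hc.index_eq_card]
    exact P.not_dvd_index
  obtain ⟨j, hj⟩ := IsPGroup.iff_card.mp P.isPGroup'
  have hAM : Nat.card A = Nat.card M * p ^ j := by rw [← hj, hc.card_mul]
  have hMc : Nat.card (M.map A.subtype) = Nat.card M := Nat.card_congr (M.equivMapOfInjective _ A.subtype_injective).toEquiv.symm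
  refine ⟨M.map A.subtype, Subgroup.map_subtype_le _, ?_, by rwa [hMc], ?_, ?_, j, by rw [hMc, hAM]⟩
  · intro a ha
    have := Subgroup.le_normalizer_map A.subtype (H := M) ⟨⟨a, ha⟩, by rw [Subgroup.normalizer_eq_top]; trivial, rfl⟩
    exact this
  · have hQ : Nat.card (G ⧸ N) = Nat.card M * p ^ j := by
      rw [← hAM]
      exact hA.index_eq_card
    rw [hMc, hQ]
    rw [Nat.factorization_mul (Nat.card_pos).ne' (pow_ne_zero _ hp.ne_zero), Finsupp.add_apply,
      Nat.factorization_eq_zero_of_not_dvd hMp, hp.factorization_pow, Finsupp.single_eq_same, zero_add,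
      Nat.mul_div_cancel _ (Nat.pow_pos hp.pos)]
  · intro x hx hord
    refine ⟨⟨x, hx⟩, ?_, rfl⟩
    haveI := hM
    rw [SetLike.mem_coe, ← QuotientGroup.eq_one_iff, ← orderOf_eq_one_iff]
    have h1 : orderOf ((⟨x, hx⟩ : A) : A ⧸ M) ∣ orderOf x := by
      conv_rhs => rw [← Subgroup.orderOf_mk x hx]
      exact orderOf_map_dvd (QuotientGroup.mk' M) _
    have h2 : orderOf ((⟨x, hx⟩ : A) : A ⧸ M) ∣ p ^ j := by
      refine (orderOf_dvd_natCard _).trans (dvd_of_eq ?_)
      have := Subgroup.card_eq_card_quotient_mul_card_subgroup M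
      rw [hAM, mul_comm] at this
      exact (Nat.eq_of_mul_eq_mul_right Nat.card_pos this).symm
    exact Nat.eq_one_of_dvd_coprimes (Nat.Coprime.pow_left _ ((Nat.Prime.coprime_iff_not_dvd hp).mpr hord)) h2 h1

/-- The normalizer of the `p`-complement of `A` is `A`. -/
theorem normalizer_core_le {G : Type*} [Group G] [Finite G] {p : ℕ} [Fact p.Prime]
    (N A K : Subgroup G) [N.Normal] (hN : IsPGroup p N) (hA : A.IsComplement' N)
    (hC : ∀ n : G, n ∈ N → (∀ a : G, a ∈ A → a * n * a⁻¹ = n) → n = 1)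
    (hKA : K ≤ A) (hpK : ¬ p ∣ Nat.card K) (hKn : A ≤ Subgroup.normalizer (K : Set G)) (j : ℕ) (hj : Nat.card A = Nat.card K * p ^ j) :
    Subgroup.normalizer (K : Set G) ≤ A := by
  set D := N ⊓ Subgroup.normalizer (K : Set G) with hD
  have hdis : ∀ x ∈ N, x ∈ A → x = 1 := fun x hx hxA => Subgroup.disjoint_def.mp hA.disjoint hxA hx
  -- `D` centralizes `K`
  have hDK : ∀ d ∈ D, ∀ k ∈ K, d * k = k * d := by
    intro d hd k hk
    have h1 : d * k * d⁻¹ * k⁻¹ ∈ A := hKA (mul_mem ((Subgroup.mem_normalizer_iff.mp hd.2 k).mp hk) (inv_mem hk))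
    have h2 : d * k * d⁻¹ * k⁻¹ ∈ N := by
      rw [show d * k * d⁻¹ * k⁻¹ = d * (k * d⁻¹ * k⁻¹) by group]
      exact mul_mem hd.1 (Subgroup.Normal.conj_mem inferInstance _ (inv_mem hd.1) k)
    have h3 := hdis _ h2 h1
    rwa [mul_inv_eq_one, mul_inv_eq_iff_eq_mul] at h3
  have hDA : ∀ a ∈ A, ∀ d ∈ D, a * d * a⁻¹ ∈ D := fun a ha d hd =>
    ⟨Subgroup.Normal.conj_mem inferInstance _ hd.1 a, (Subgroup.normalizer (K : Set G)).mul_mem ((Subgroup.normalizer (K : Set G)).mul_mem (hKn ha) hd.2) ((Subgroup.normalizer (K : Set G)).inv_mem (hKn ha))⟩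
  letI : MulAction A D :=
    { smul := fun a d => ⟨(a : G) * d * (a : G)⁻¹, hDA a a.2 d d.2⟩
      one_smul := fun d => Subtype.ext (show (1 : G) * d * (1 : G)⁻¹ = d by group)
      mul_smul := fun a b d => Subtype.ext (show ((a : G) * b) * d * ((a : G) * b)⁻¹ =
        (a : G) * ((b : G) * d * (b : G)⁻¹) * (a : G)⁻¹ by group) }
  have hDbot : D = ⊥ := by
    by_contra hne
    -- the action factors through a `p`-group
    obtain ⟨P⟩ : Nonempty (Sylow p A) := inferInstance
    have hpD : p ∣ Nat.card D := by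
      rcases (hN.to_le (show D ≤ N from inf_le_left)).card_eq_or_dvd with h | h
      · exact absurd (Subgroup.eq_bot_of_card_eq _ h) hne
      · exact h
    obtain ⟨d, hd, hd1⟩ := P.isPGroup'.exists_fixed_point_of_prime_dvd_card_of_fixed_point D hpD
      (a := (1 : D)) (fun a => Subtype.ext (show ((a : A) : G) * (1 : G) * ((a : A) : G)⁻¹ = 1 by group))
    refine hd1 (Subtype.ext ((hC d d.2.1 ?_).symm))
    have hle : (⊤ : Subgroup A) ≤ MulAction.stabilizer A d := by
      have h1 : K.subgroupOf A ≤ MulAction.stabilizer A d := fun k hk => Subtype.ext (by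
        show (k : G) * d * (k : G)⁻¹ = d
        rw [← hDK d d.2 k hk, mul_inv_cancel_right])
      have h2 : (P : Subgroup A) ≤ MulAction.stabilizer A d := fun k hk => hd ⟨k, hk⟩
      rw [top_le_iff]
      refine Subgroup.eq_top_of_card_eq _ (Nat.dvd_antisymm (Subgroup.card_subgroup_dvd_card _) ?_)
      obtain ⟨i, hi⟩ := IsPGroup.iff_card.mp P.isPGroup'
      have hcard := P.card_eq_multiplicity
      have d1 : Nat.card K ∣ Nat.card (MulAction.stabilizer A d) := by
        rw [← Nat.card_congr (Subgroup.subgroupOfEquivOfLe hKA).toEquiv]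
        exact Subgroup.card_dvd_of_le h1
      have d2 : p ^ j ∣ Nat.card (MulAction.stabilizer A d) := by
        refine dvd_trans ?_ (Subgroup.card_dvd_of_le h2)
        rw [hcard, hj, Nat.factorization_mul Nat.card_pos.ne' (pow_ne_zero _ (Fact.out : p.Prime).ne_zero),
          Finsupp.add_apply, Nat.factorization_eq_zero_of_not_dvd hpK, (Fact.out : p.Prime).factorization_pow,
          Finsupp.single_eq_same, zero_add]
      rw [hj]
      exact Nat.Coprime.mul_dvd_of_dvd_of_dvd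
        (Nat.Coprime.pow_right _ (Nat.coprime_comm.mp ((Nat.Prime.coprime_iff_not_dvd Fact.out).mpr hpK))) d1 d2
    intro a ha
    exact congrArg Subtype.val (hle (Subgroup.mem_top (⟨a, ha⟩ : A)))
  intro g hg
  obtain ⟨⟨a, n⟩, rfl⟩ := hA.2 g
  have hn : (n : G) ∈ D := by
    refine ⟨n.2, ?_⟩
    have := mul_mem (inv_mem (hKn a.2)) hg
    simpa using this
  rw [hDbot, Subgroup.mem_bot] at hn
  simp [hn]

/-- Let G be a finite group that is the semidirect product of a normal p-subgroup N by a subgroup A, and also of N by a subgroup A₁, where p is a prime and A and A₁ both have normal p-complements. If C_N(A) = C_N(A₁) = 1, then A₁ is conjugate to A by an element of N. -/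
theorem result {G : Type*} [Group G] [Finite G] {p : ℕ}
    [Fact p.Prime] (N : Subgroup G) [N.Normal] (hN : IsPGroup p N) (A A₁ : Subgroup G)
    (hA : A.IsComplement' N) (hA₁ : A₁.IsComplement' N)
    (hAp : Cfsg.HasNormalPComplement p A) (hA₁p : Cfsg.HasNormalPComplement p A₁)
    (hC : ∀ n : G, n ∈ N → (∀ a : G, a ∈ A → a * n * a⁻¹ = n) → n = 1)
    (hC₁ : ∀ n : G, n ∈ N → (∀ a : G, a ∈ A₁ → a * n * a⁻¹ = n) → n = 1) :
    ∃ n : G, n ∈ N ∧ A₁ = A.map (MulAut.conj n).toMonoidHom := by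
  obtain ⟨K, hKA, hKn, hKp, hKc, hKmem, j, hj⟩ := exists_complement_core N A hA hAp
  obtain ⟨K₁, hK₁A, hK₁n, hK₁p, hK₁c, hK₁mem, j₁, hj₁⟩ := exists_complement_core N A₁ hA₁ hA₁p
  have hN' : ∀ x ∈ N, ∀ y, y * x * y⁻¹ ∈ N := fun x hx y => Subgroup.Normal.conj_mem inferInstance x hx y
  haveI := hN.isNilpotent
  -- `K₁ ≤ N ⊔ K`
  have hle : K₁ ≤ N ⊔ K := by
    intro x hx
    have hox : ¬ p ∣ orderOf x := fun hd => hK₁p (hd.trans (Subgroup.orderOf_dvd_natCard K₁ hx))
    obtain ⟨⟨a, n⟩, han⟩ := hA.2 x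
    simp only at han
    have hao : ¬ p ∣ orderOf (a : G) := by
      intro hd
      refine hox (hd.trans ?_)
      have h1 : (a : G) ^ orderOf x ∈ N := by
        rw [← QuotientGroup.eq_one_iff, QuotientGroup.mk_pow]
        have : ((a : G) : G ⧸ N) = (x : G ⧸ N) := by
          rw [← han, QuotientGroup.mk_mul, (QuotientGroup.eq_one_iff (n : G)).mpr n.2, mul_one]
        rw [this, ← QuotientGroup.mk_pow, pow_orderOf_eq_one, QuotientGroup.mk_one]
      exact orderOf_dvd_of_pow_eq_one (Subgroup.disjoint_def.mp hA.disjoint (pow_mem a.2 _) h1)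
    rw [← han]
    exact mul_mem (Subgroup.mem_sup_right (hKmem _ a.2 hao)) (Subgroup.mem_sup_left n.2)
  have hcop : (Nat.card K).Coprime (Nat.card N) := by
    obtain ⟨e, he⟩ := IsPGroup.iff_card.mp hN
    rw [he]
    exact Nat.Coprime.pow_right _ (Nat.coprime_comm.mp ((Nat.Prime.coprime_iff_not_dvd Fact.out).mpr hKp))
  obtain ⟨n, hn, hnK⟩ := CoprimeSZ.exists_conj_of_card_eq (N := N) (A := K) (B := K₁)
    (by rw [Subgroup.normalizer_eq_top]; exact le_top) hcop (Or.inr inferInstance) hle (hK₁c.trans hKc.symm)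
  refine ⟨n, hn, Subgroup.eq_of_le_of_card_ge ?_ ?_⟩
  · intro x hx
    have hx' := hK₁n hx
    rw [← hnK] at hx'
    have h1 : n⁻¹ * x * n ∈ Subgroup.normalizer (K : Set G) := by
      rw [Subgroup.mem_normalizer_iff] at hx' ⊢
      intro k
      have h2 := hx' (n * k * n⁻¹)
      rw [CoprimeSZ.mem_conj_smul, CoprimeSZ.mem_conj_smul] at h2
      simpa [mul_assoc] using h2
    exact ⟨n⁻¹ * x * n, normalizer_core_le N A K hN hA hC hKA hKp hKn j hj h1, by simp [mul_assoc]⟩
  · rw [Subgroup.card_map_of_injective (MulAut.conj n).injective]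
    exact (Nat.eq_of_mul_eq_mul_right Nat.card_pos (hA.card_mul_card.trans hA₁.card_mul_card.symm)).le

end Cfsg.Agent.S4043
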