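import Cfsg.Statements.S4049
import Mathlib
import Cfsg.Agent.Lib.OddInverted

set_option autoImplicit false
open Cfsg

namespace Cfsg.Agent.S4049

open Cfsg.Agent

/-- Let G be a finite group such that N_G(H)/C_G(H) has odd order for every nontrivial subgroup H of odd order. Then the Sylow 2-subgroups of G are normal. -/
theorem result {G : Type*} [Group G] [Finite G]
    (hhom : ∀ H : Subgroup G, H ≠ ⊥ → ¬ 2 ∣ Nat.card ↥H →
        ¬ 2 ∣ (Subgroup.centralizer (H : Set G)).relIndex (Subgroup.normalizer (H : Set G))) (P : Sylow 2 G) :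
    (P : Subgroup G).Normal := by
  by_contra hP
  obtain ⟨h, u, hne, hodd, hu, hk⟩ := OddInverted.exists_even_automizer P hP
  set H := Subgroup.zpowers h with hH
  set N := Subgroup.normalizer (H : Set G)
  set C := Subgroup.centralizer (H : Set G)
  refine hhom H (by simpa [hH] using hne) ?_ ?_
  · rw [hH, Nat.card_zpowers]
    exact fun hd => (Nat.not_even_iff_odd.mpr hodd) (even_iff_two_dvd.mpr hd)
  · haveI : (C.subgroupOf N).Normal := ⟨fun c hc g => by
      rw [Subgroup.mem_subgroupOf] at hc ⊢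
      simp only [Subgroup.coe_mul, Subgroup.coe_inv]
      rw [Subgroup.mem_centralizer_iff] at hc ⊢
      intro z hz
      have hz' : (g : G)⁻¹ * z * g ∈ H := by
        have := (Subgroup.mem_normalizer_iff.mp (inv_mem g.2) z).mp hz
        simpa using this
      have h1 := hc _ hz'
      calc z * (↑g * ↑c * (↑g : G)⁻¹) = ↑g * ((↑g⁻¹ : G) * z * ↑g * ↑c) * (↑g : G)⁻¹ := by simp [mul_assoc]
        _ = ↑g * (↑c * ((↑g : G)⁻¹ * z * ↑g)) * (↑g : G)⁻¹ := by rw [Subgroup.coe_inv, h1]
        _ = _ := by group⟩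
    set ū : N ⧸ C.subgroupOf N := QuotientGroup.mk ⟨u, hu⟩
    have h2 : Even (orderOf ū) := hk _ (by
      have h3 := pow_orderOf_eq_one ū
      rw [← QuotientGroup.mk_pow, QuotientGroup.eq_one_iff, Subgroup.mem_subgroupOf] at h3
      exact ((Subgroup.mem_centralizer_iff.mp h3) h (Subgroup.mem_zpowers h)).symm)
    exact (even_iff_two_dvd.mp h2).trans (orderOf_dvd_natCard ū)

end Cfsg.Agent.S4049
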