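import Cfsg.Statements.S4051
import Mathlib
import Cfsg.Agent.Lib.PiClosedHom

set_option autoImplicit false
open Cfsg

namespace Cfsg.Agent.S4051

open Cfsg.Agent

/-- `π`-closedness is extended. -/
theorem closed_extension {G : Type*} [Group G] [Finite G] (π : Set ℕ) (hhom : PiClosedHom.Hom π G)
    (K : Subgroup G) [K.Normal] (hK : PiClosedHom.Closed π K) (hQ : PiClosedHom.Closed π (G ⧸ K)) :
    PiClosedHom.Closed π G := by
  obtain ⟨L₀, hL₀⟩ := hK
  set L := L₀.map K.subtype with hLdef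
  have hLiff : ∀ x : G, x ∈ L ↔ x ∈ K ∧ PiClosedHom.IsPiElt π x := by
    intro x
    constructor
    · rintro ⟨y, hy, rfl⟩
      exact ⟨y.2, fun p hp hd => (hL₀ y).mp hy p hp (by rwa [Subgroup.coe_subtype, Subgroup.orderOf_coe] at hd)⟩
    · rintro ⟨hx, hπ⟩
      exact ⟨⟨x, hx⟩, (hL₀ _).mpr (fun p hp hd => hπ p hp (by rwa [Subgroup.orderOf_mk] at hd)), rfl⟩
  haveI hLn : L.Normal := ⟨fun x hx g => by
    rw [hLiff] at hx ⊢
    refine ⟨Subgroup.Normal.conj_mem inferInstance x hx.1 g, fun p hp hd => hx.2 p hp ?_⟩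
    rwa [← MulAut.conj_apply, MulEquiv.orderOf_eq] at hd⟩
  have hLK : L ≤ K := fun x hx => ((hLiff x).mp hx).1
  set f := QuotientGroup.mk' L with hf
  -- the subgroup generated by the images of π-elements
  set D := Subgroup.closure (f '' {x : G | PiClosedHom.IsPiElt π x}) with hD
  set Kb := K.map f with hKb
  haveI : Kb.Normal := Subgroup.Normal.map inferInstance _ (QuotientGroup.mk'_surjective L)
  have hcentral : ∀ z ∈ Kb, ∀ d ∈ D, d * z = z * d := by
    rintro _ ⟨k, hk, rfl⟩ d hd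
    have : D ≤ Subgroup.centralizer ({f k} : Set (G ⧸ L)) := by
      rw [hD, Subgroup.closure_le]
      rintro _ ⟨g, hg, rfl⟩
      exact Subgroup.mem_centralizer_singleton_iff.mpr
        (PiClosedHom.centralizes_mod π hhom L K hLK (fun x hx => ((hLiff x).mp hx).2)
          (fun x hx hπ => (hLiff x).mpr ⟨hx, hπ⟩) g hg k hk)
    exact Subgroup.mem_centralizer_singleton_iff.mp (this hd)
  obtain ⟨M, hM⟩ := hQ
  -- orders in `Kb` avoid `π`
  have hKbπ : ∀ r : ℕ, r.Prime → r ∣ Nat.card Kb → r ∉ π := by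
    intro r hr hd hrπ
    haveI : Fact r.Prime := ⟨hr⟩
    obtain ⟨⟨y, hy⟩, hyo⟩ := exists_prime_orderOf_dvd_card' (G := Kb) r hd
    rw [Subgroup.orderOf_mk] at hyo
    obtain ⟨x, hx, rfl⟩ := hy
    have h1 : x ^ r ∈ L := by
      rw [← QuotientGroup.eq_one_iff, QuotientGroup.mk_pow, ← hyo]
      exact pow_orderOf_eq_one _
    have hxL : x ∈ L := (hLiff x).mpr ⟨hx, fun q hq hqd => by
      have h2 : q ∣ r * orderOf (x ^ r) := hqd.trans (by
        rw [orderOf_dvd_iff_pow_eq_one, pow_mul, pow_orderOf_eq_one])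
      rcases hq.dvd_mul.mp h2 with h3 | h3
      · exact (Nat.prime_dvd_prime_iff_eq hq hr).mp h3 ▸ hrπ
      · exact ((hLiff _).mp h1).2 q hq h3⟩
    rw [hf, QuotientGroup.mk'_apply, (QuotientGroup.eq_one_iff x).mpr hxL, orderOf_one] at hyo
    exact hr.one_lt.ne hyo
  set Z := Kb.subgroupOf D with hZ
  haveI hZn : Z.Normal := inferInstance
  have hZπ : ∀ r : ℕ, r.Prime → r ∣ Nat.card Z → r ∉ π := fun r hr hd =>
    hKbπ r hr (hd.trans (HallCore.card_subgroupOf_dvd Kb D))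
  -- the quotient `D ⧸ Z` is a π-group
  have hDM : ∀ d ∈ D, ∀ a : G, f a = d → (a : G ⧸ K) ∈ M := by
    have hle : D ≤ (M.comap (QuotientGroup.mk' K)).map f := by
      rw [hD, Subgroup.closure_le]
      rintro _ ⟨g, hg, rfl⟩
      refine ⟨g, (hM _).mpr (fun p hp hd => hg p hp (hd.trans (orderOf_map_dvd (QuotientGroup.mk' K) g))), rfl⟩
    intro d hd a ha
    obtain ⟨b, hb, hbd⟩ := hle hd
    have h1 : a⁻¹ * b ∈ L := QuotientGroup.eq.mp (ha.trans hbd.symm)
    have h2 : (a : G ⧸ K) = (b : G ⧸ K) := QuotientGroup.eq.mpr (hLK h1)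
    rw [h2]
    exact hb
  have hidx : ∀ r : ℕ, r.Prime → r ∣ Z.index → r ∈ π := by
    intro r hr hd
    haveI : Fact r.Prime := ⟨hr⟩
    obtain ⟨y, hy⟩ := exists_prime_orderOf_dvd_card' (G := D ⧸ Z) r hd
    obtain ⟨⟨d, hdD⟩, rfl⟩ := QuotientGroup.mk_surjective y
    obtain ⟨a, rfl⟩ := QuotientGroup.mk'_surjective L d
    have hm : orderOf ((⟨f a, hdD⟩ : D) : D ⧸ Z) ∣ orderOf (a : G ⧸ K) := by
      apply orderOf_dvd_of_pow_eq_one
      rw [← QuotientGroup.mk_pow, QuotientGroup.eq_one_iff, hZ, Subgroup.mem_subgroupOf]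
      refine ⟨a ^ orderOf (a : G ⧸ K), ?_, map_pow f a _⟩
      show a ^ orderOf (a : G ⧸ K) ∈ K
      rw [← QuotientGroup.eq_one_iff, QuotientGroup.mk_pow, pow_orderOf_eq_one]
    rw [hy] at hm
    exact (hM _).mp (hDM _ hdD a rfl) r hr hm
  have hcop : (Nat.card Z).Coprime Z.index :=
    Nat.coprime_of_dvd fun r hr h1 h2 => hZπ r hr h1 (hidx r hr h2)
  obtain ⟨H, hH⟩ := Subgroup.exists_right_complement'_of_coprime hcop
  haveI hHn : H.Normal := ⟨fun h hh d => by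
    obtain ⟨⟨z, t⟩, rfl⟩ := hH.2 d
    have hzc : ∀ u : D, (z : D) * u = u * z := fun u =>
      Subtype.ext (hcentral _ z.2 u u.2).symm
    have h1 : (t : D) * h * (t : D)⁻¹ ∈ H := mul_mem (mul_mem t.2 hh) (inv_mem t.2)
    have h2 : (z : D) * t * h * ((z : D) * t)⁻¹ = (t : D) * h * (t : D)⁻¹ := by
      calc (z : D) * t * h * ((z : D) * t)⁻¹ = (z : D) * ((t : D) * h * (t : D)⁻¹) * (z : D)⁻¹ := by group
        _ = ((t : D) * h * (t : D)⁻¹) * z * (z : D)⁻¹ := by rw [hzc]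
        _ = _ := by group
    rw [← h2] at h1
    exact h1⟩
  have hHtop : ∀ (g : G) (hg : PiClosedHom.IsPiElt π g), (⟨f g, Subgroup.subset_closure ⟨g, hg, rfl⟩⟩ : D) ∈ H := by
    intro g hg
    rw [← QuotientGroup.eq_one_iff, ← orderOf_eq_one_iff]
    by_contra hne
    obtain ⟨r, hr, hd⟩ := Nat.exists_prime_and_dvd hne
    refine hZπ r hr ?_ (hg r hr ?_)
    · rw [← hH.index_eq_card] at *
      exact hd.trans (orderOf_dvd_natCard _)
    · refine hd.trans ((orderOf_map_dvd (QuotientGroup.mk' H) _).trans ?_)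
      rw [Subgroup.orderOf_mk]
      exact orderOf_map_dvd f g
  have hDπ : ∀ d ∈ D, ∀ r : ℕ, r.Prime → r ∣ orderOf d → r ∈ π := by
    have hHtop' : D ≤ H.map D.subtype := by
      refine (Subgroup.closure_le _).mpr ?_
      rintro _ ⟨g, hg, rfl⟩
      exact ⟨_, hHtop g hg, rfl⟩
    intro d hd r hr hdiv
    obtain ⟨h, hh, rfl⟩ := hHtop' hd
    rw [Subgroup.coe_subtype, Subgroup.orderOf_coe] at hdiv
    refine hidx r hr ?_
    rw [hH.symm.index_eq_card]
    exact hdiv.trans (Subgroup.orderOf_dvd_natCard H hh)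
  refine ⟨D.comap f, fun x => ⟨fun hx p hp hd => ?_, fun hx => Subgroup.subset_closure ⟨x, hx, rfl⟩⟩⟩
  have h1 : x ^ orderOf (f x) ∈ L := by
    rw [← QuotientGroup.eq_one_iff, QuotientGroup.mk_pow]
    exact pow_orderOf_eq_one _
  have h2 : p ∣ orderOf (f x) * orderOf (x ^ orderOf (f x)) := hd.trans (by
    rw [orderOf_dvd_iff_pow_eq_one, pow_mul, pow_orderOf_eq_one])
  rcases hp.dvd_mul.mp h2 with h3 | h3
  · exact hDπ _ hx p hp h3
  · exact ((hLiff _).mp h1).2 p hp h3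

/-- Let π be a set of primes and G a finite group such that N_G(H)/C_G(H) is a π'-group for every nontrivial π'-subgroup H of G. If K is a normal subgroup of G such that the π-elements of K form a subgroup and the π-elements of G/K form a subgroup, then the π-elements of G form a subgroup. -/
theorem result {G : Type*} [Group G] [Finite G] (π : Set ℕ)
    (hπ : ∀ p ∈ π, p.Prime) (hhom : (∀ H : Subgroup G, H ≠ ⊥ → (∀ p : ℕ, p.Prime → p ∣ Nat.card ↥H → p ∉ π) →
        ∀ p : ℕ, p.Prime → p ∣ (Subgroup.centralizer (H : Set G)).relIndex (Subgroup.normalizer (H : Set G)) → p ∉ π))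
    (K : Subgroup G) [K.Normal]
    (hK : ∃ L : Subgroup ↥K, ∀ x : ↥K, x ∈ L ↔ ∀ p : ℕ, p.Prime → p ∣ orderOf x → p ∈ π)
    (hQ : ∃ L : Subgroup (G ⧸ K), ∀ x : G ⧸ K, x ∈ L ↔ ∀ p : ℕ, p.Prime → p ∣ orderOf x → p ∈ π) :
    (∃ K : Subgroup G, ∀ x : G, x ∈ K ↔ ∀ p : ℕ, p.Prime → p ∣ orderOf x → p ∈ π) := by
  exact closed_extension π (PiClosedHom.hom_of_relIndex π hhom) K hK hQ

end Cfsg.Agent.S4051
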