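import Cfsg.Statements.S4050
import Mathlib
import Cfsg.Agent.S4051
import Cfsg.Agent.Lib.HallSolvable

set_option autoImplicit false
open Cfsg

namespace Cfsg.Agent.S4050

open Cfsg.Agent

universe u

theorem closed_of_separable (π : Set ℕ) : ∀ (n : ℕ) (G : Type u) [Group G] [Finite G], Nat.card G ≤ n →
    HallSolvable.IsPiSeparable π G → PiClosedHom.Hom π G → PiClosedHom.Closed π G := by
  intro n
  induction n using Nat.strong_induction_on with
  | _ n ih =>
    intro G _ _ hn hsep hhom
    obtain ⟨m, H, h0, hm, hmono, hnorm, hstep⟩ := id hsep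
    by_cases htop : ∀ i ≤ m, H i = ⊤ → False
    · exact absurd hm (fun h => htop m le_rfl h)
    classical
    have hex : ∃ i, H i = ⊤ := ⟨m, hm⟩
    set i₀ := Nat.find hex with hi₀
    have hi : H i₀ = ⊤ := Nat.find_spec hex
    have hle : i₀ ≤ m := Nat.find_le hm
    rcases Nat.eq_zero_or_pos i₀ with h | h
    · rw [h, h0] at hi
      refine ⟨⊤, fun x => ⟨fun _ p hp hd => ?_, fun _ => Subgroup.mem_top x⟩⟩
      have hx : x = 1 := by
        have := Subgroup.mem_top x
        rw [← hi] at this
        exact this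
      rw [hx, orderOf_one] at hd
      exact absurd (Nat.dvd_one.mp hd) hp.one_lt.ne'
    · obtain ⟨j, hj⟩ : ∃ j, i₀ = j + 1 := ⟨i₀ - 1, by omega⟩
      have hjK : H j ≠ ⊤ := Nat.find_min hex (show j < Nat.find hex by omega)
      set K := H j with hK
      haveI : K.Normal := hnorm j
      have hclK : PiClosedHom.Closed π K :=
        ih _ (lt_of_lt_of_le (HallSolvable.card_subgroup_lt hjK) hn) K le_rfl (hsep.to_subgroup K)
          (hhom.to_subgroup π K)
      have hpiece := hstep j (by omega)
      rw [← hj, hi, Subgroup.relIndex_top_right] at hpiece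
      have hclQ : PiClosedHom.Closed π (G ⧸ K) := by
        rcases hpiece with hπ | hπ
        · exact ⟨⊤, fun x => ⟨fun _ p hp hd => hπ p hp (hd.trans (orderOf_dvd_natCard x)), fun _ => Subgroup.mem_top x⟩⟩
        · refine ⟨⊥, fun x => ⟨fun hx p hp hd => ?_, fun hx => ?_⟩⟩
          · rw [Subgroup.mem_bot] at hx
            rw [hx, orderOf_one] at hd
            exact absurd (Nat.dvd_one.mp hd) hp.one_lt.ne'
          · rw [Subgroup.mem_bot, ← orderOf_eq_one_iff]
            by_contra hne
            obtain ⟨p, hp, hd⟩ := Nat.exists_prime_and_dvd hne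
            exact hπ p hp (hd.trans (orderOf_dvd_natCard x)) (hx p hp hd)
      exact S4051.closed_extension π hhom K hclK hclQ

/-- Let π be a set of primes and G a finite group. The π-elements of G (elements whose order is divisible only by primes of π) form a subgroup if and only if G is π-separable (it has a chain of normal subgroups from 1 to G with each successive index divisible only by primes in π or only by primes outside π) and N_G(H)/C_G(H) is a π'-group for every nontrivial π'-subgroup H of G. -/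
theorem result {G : Type*} [Group G] [Finite G] (π : Set ℕ)
    (hπ : ∀ p ∈ π, p.Prime) :
    (∃ K : Subgroup G, ∀ x : G, x ∈ K ↔ ∀ p : ℕ, p.Prime → p ∣ orderOf x → p ∈ π) ↔
    ((∃ (n : ℕ) (H : Fin (n + 1) → Subgroup G), H 0 = ⊥ ∧ H (Fin.last n) = ⊤ ∧ Monotone H ∧ (∀ i, (H i).Normal) ∧
      ∀ i : Fin n, (∀ q : ℕ, q.Prime → q ∣ (H i.castSucc).relIndex (H i.succ) → q ∈ π) ∨
        (∀ q : ℕ, q.Prime → q ∣ (H i.castSucc).relIndex (H i.succ) → q ∉ π)) ∧
     (∀ H : Subgroup G, H ≠ ⊥ → (∀ p : ℕ, p.Prime → p ∣ Nat.card ↥H → p ∉ π) →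
        ∀ p : ℕ, p.Prime → p ∣ (Subgroup.centralizer (H : Set G)).relIndex (Subgroup.normalizer (H : Set G)) → p ∉ π)) := by
  constructor
  · rintro ⟨K, hK⟩
    haveI hKn : K.Normal := ⟨fun x hx g => (hK _).mpr fun p hp hd => (hK x).mp hx p hp (by
      rwa [← MulAut.conj_apply, MulEquiv.orderOf_eq] at hd)⟩
    have hKπ : ∀ q : ℕ, q.Prime → q ∣ Nat.card K → q ∈ π := by
      intro q hq hd
      haveI : Fact q.Prime := ⟨hq⟩
      obtain ⟨x, hx⟩ := exists_prime_orderOf_dvd_card' (G := K) q hd
      exact (hK x).mp x.2 q hq (by rw [Subgroup.orderOf_coe, hx])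
    have hKidx : ∀ q : ℕ, q.Prime → q ∣ K.index → q ∉ π := by
      intro q hq hd hqπ
      haveI : Fact q.Prime := ⟨hq⟩
      obtain ⟨y, hy⟩ := exists_prime_orderOf_dvd_card' (G := G ⧸ K) q hd
      obtain ⟨x, rfl⟩ := QuotientGroup.mk_surjective y
      have h1 : x ^ q ∈ K := by
        rw [← QuotientGroup.eq_one_iff, QuotientGroup.mk_pow, ← hy, pow_orderOf_eq_one]
      have hx : x ∈ K := (hK x).mpr fun r hr hrd => by
        have h2 : r ∣ q * orderOf (x ^ q) := hrd.trans (by
          rw [orderOf_dvd_iff_pow_eq_one, pow_mul, pow_orderOf_eq_one])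
        rcases hr.dvd_mul.mp h2 with h3 | h3
        · exact (Nat.prime_dvd_prime_iff_eq hr hq).mp h3 ▸ hqπ
        · exact (hK _).mp h1 r hr h3
      rw [(QuotientGroup.eq_one_iff x).mpr hx, orderOf_one] at hy
      exact hq.one_lt.ne hy
    refine ⟨⟨2, ![⊥, K, ⊤], rfl, rfl, ?_, ?_, ?_⟩, ?_⟩
    · intro a b hab
      fin_cases a <;> fin_cases b <;> first | exact le_rfl | exact bot_le | exact le_top | simp at hab
    · intro i
      fin_cases i
      · exact Subgroup.normal_bot
      · exact hKn
      · exact Subgroup.normal_top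
    · intro i
      fin_cases i
      · left
        intro q hq hd
        exact hKπ q hq (by simpa [Subgroup.relIndex_bot_left] using hd)
      · right
        intro q hq hd
        exact hKidx q hq (by simpa [Subgroup.relIndex_top_right] using hd)
    · refine PiClosedHom.relIndex_of_hom π ?_
      intro H _ hHπ x hx r hr hrπ hxr
      obtain ⟨e, s, hs, hord⟩ := Nat.exists_eq_pow_mul_and_not_dvd (orderOf_pos x).ne' r hr.ne_one
      have hs0 : s ≠ 0 := by rintro rfl; exact hs (dvd_zero r)
      have hxs : x ^ s ∈ K := (hK _).mpr fun q hq hd => by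
        rw [orderOf_pow_of_dvd hs0 (hord ▸ dvd_mul_left _ _), hord,
          Nat.mul_div_cancel _ (Nat.pos_of_ne_zero hs0)] at hd
        exact (Nat.prime_dvd_prime_iff_eq hq hr).mp (hq.dvd_of_dvd_pow hd) ▸ hrπ
      have hxsC : x ^ s ∈ Subgroup.centralizer (H : Set G) := by
        rw [Subgroup.mem_centralizer_iff]
        intro h hh
        have h1 : x ^ s * h * (x ^ s)⁻¹ * h⁻¹ ∈ H :=
          mul_mem ((Subgroup.mem_normalizer_iff.mp (pow_mem hx s) h).mp hh) (inv_mem hh)
        have h2 : x ^ s * h * (x ^ s)⁻¹ * h⁻¹ ∈ K := by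
          rw [show x ^ s * h * (x ^ s)⁻¹ * h⁻¹ = x ^ s * (h * (x ^ s)⁻¹ * h⁻¹) by group]
          exact mul_mem hxs (hKn.conj_mem _ (inv_mem hxs) h)
        have h3 : x ^ s * h * (x ^ s)⁻¹ * h⁻¹ = 1 := by
          rw [← orderOf_eq_one_iff]
          by_contra hne
          obtain ⟨q, hq, hd⟩ := Nat.exists_prime_and_dvd hne
          exact hHπ q hq (hd.trans (Subgroup.orderOf_dvd_natCard H h1))
            (hKπ q hq (hd.trans (Subgroup.orderOf_dvd_natCard K h2)))
        rw [mul_inv_eq_one, mul_inv_eq_iff_eq_mul] at h3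
        exact h3.symm
      have hcop : Nat.Coprime r s := (Nat.Prime.coprime_iff_not_dvd hr).mpr hs
      have hb := Nat.gcd_eq_gcd_ab r s
      rw [hcop] at hb
      have : x = (x ^ r) ^ (r.gcdA s) * (x ^ s) ^ (r.gcdB s) := by
        rw [← zpow_natCast x r, ← zpow_natCast x s, ← zpow_mul, ← zpow_mul, ← zpow_add, ← hb]
        simp
      rw [this]
      exact mul_mem (Subgroup.zpow_mem _ hxr _) (Subgroup.zpow_mem _ hxsC _)
  · rintro ⟨⟨n, H, h0, hn, hmono, hnorm, hstep⟩, hhom⟩
    refine closed_of_separable π _ G le_rfl ?_ (PiClosedHom.hom_of_relIndex π hhom)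
    refine ⟨n, fun i => H ⟨min i n, Nat.lt_succ_of_le (min_le_right _ _)⟩, ?_, ?_,
      fun a b hab => hmono (by
        show min a n ≤ min b n
        exact min_le_min_right n hab), fun i => hnorm _, fun i hi => ?_⟩
    · simp only [Nat.zero_min]; exact h0
    · simp only [min_self]; exact hn
    · simp only [Nat.min_eq_left hi.le, Nat.min_eq_left (Nat.succ_le_of_lt hi)]
      exact hstep ⟨i, hi⟩

end Cfsg.Agent.S4050
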