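import Cfsg.Statements.S4056
import Mathlib

set_option autoImplicit false
open Cfsg

namespace Cfsg.Agent.S4056

open scoped commutatorElement
theorem frattini_le_of_index_two {P : Type*} [Group P] [Finite P] {M : Subgroup P}
    (h : M.index = 2) : frattini P ≤ M := by
  refine frattini_le_coatom ⟨fun ht => by rw [ht, Subgroup.index_top] at h; omega, fun K hK => ?_⟩
  have h1 := Subgroup.relIndex_mul_index hK.le
  rw [h] at h1
  have h2 : K.index ∣ 2 := ⟨_, by rw [mul_comm]; exact h1.symm⟩
  rcases (Nat.dvd_prime Nat.prime_two).mp h2 with h3 | h3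
  · exact Subgroup.index_eq_one.mp h3
  · rw [h3] at h1
    have : M.relIndex K = 1 := by omega
    exact absurd (Subgroup.relIndex_eq_one.mp this) hK.not_ge

/-- In a finite 2-group of nilpotency class at most 2 and exponent dividing 4, the Frattini subgroup lies in the centre and is elementary abelian. -/
theorem result {P : Type*} [Group P] [Finite P] (hP : IsPGroup 2 P)
    (hcl : Group.nilpotencyClass P ≤ 2) (hexp : Monoid.exponent P ∣ 4) :
    frattini P ≤ Subgroup.center P ∧ Cfsg.IsElementaryAbelian 2 (frattini P) := by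
  haveI : Fact (Nat.Prime 2) := ⟨Nat.prime_two⟩
  haveI : Group.IsNilpotent P := hP.isNilpotent
  have hcomm : ∀ a b : P, ⁅a, b⁆ ∈ Subgroup.center P := by
    intro a b
    rw [Subgroup.mem_center_iff]
    intro c
    have h2 : Subgroup.lowerCentralSeries (⊤ : Subgroup P) 2 = ⊥ :=
      Subgroup.lowerCentralSeries_eq_bot_iff_nilpotencyClass_le.mpr hcl
    have h1 : ⁅a, b⁆ ∈ Subgroup.lowerCentralSeries (⊤ : Subgroup P) 1 := by
      rw [Subgroup.lowerCentralSeries_succ, Subgroup.lowerCentralSeries_zero]
      exact Subgroup.commutator_mem_commutator (Subgroup.mem_top _) (Subgroup.mem_top _)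
    have h3 : ⁅⁅a, b⁆, c⁆ ∈ Subgroup.lowerCentralSeries (⊤ : Subgroup P) 2 := by
      rw [Subgroup.lowerCentralSeries_succ]
      exact Subgroup.commutator_mem_commutator h1 (Subgroup.mem_top _)
    rw [h2, Subgroup.mem_bot, commutatorElement_eq_one_iff_mul_comm] at h3
    exact h3.symm
  have h4 : ∀ x : P, x ^ 4 = 1 := fun x =>
    orderOf_dvd_iff_pow_eq_one.mp ((Monoid.order_dvd_exponent x).trans hexp)
  have hsq : ∀ a b : P, (b * a) * (b * a) = (b * b) * (a * a) * ⁅a, b⁆ := by
    intro a b
    have hz := (Subgroup.mem_center_iff.mp (hcomm a b))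
    calc (b * a) * (b * a) = b * (⁅a, b⁆ * b * a) * a := by rw [commutatorElement_def]; group
      _ = b * (b * a * ⁅a, b⁆) * a := by rw [mul_assoc (⁅a, b⁆), hz (b * a)]
      _ = b * b * a * (⁅a, b⁆ * a) := by group
      _ = b * b * a * (a * ⁅a, b⁆) := by rw [hz a]
      _ = _ := by group
  have hsqc : ∀ a b : P, ⁅a, b⁆ ^ 2 = ⁅a * a, b⁆ := by
    intro a b
    have hz := (Subgroup.mem_center_iff.mp (hcomm a b))
    symm
    calc ⁅a * a, b⁆ = a * ⁅a, b⁆ * b * a⁻¹ * b⁻¹ := by
          rw [commutatorElement_def, commutatorElement_def]; group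
      _ = ⁅a, b⁆ * (a * b * a⁻¹ * b⁻¹) := by rw [hz a]; group
      _ = _ := by rw [sq, commutatorElement_def a b]
  -- the set of central elements of order dividing two
  let W : Subgroup P :=
    { carrier := {x | x ∈ Subgroup.center P ∧ x ^ 2 = 1}
      one_mem' := ⟨one_mem _, one_pow _⟩
      mul_mem' := fun {a b} ha hb => ⟨mul_mem ha.1 hb.1, by
        rw [(Commute.symm (Subgroup.mem_center_iff.mp ha.1 b)).mul_pow, ha.2, hb.2, one_mul]⟩
      inv_mem' := fun {a} ha => ⟨inv_mem ha.1, by rw [inv_pow, ha.2, inv_one]⟩ }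
  have hinvol : ∀ a b : P, ⁅a, b⁆ ^ 2 = 1 := by
    intro a b
    have hz := (Subgroup.mem_center_iff.mp (hcomm a b))
    have hbb : Commute (b * b) (a * a) := by
      apply (commutatorElement_eq_one_iff_mul_comm.mp ?_ : _ = _)
      rw [← hsqc, ← commutatorElement_inv, ← hsqc, inv_pow, ← pow_mul, h4, inv_one]
    have e := h4 (b * a)
    rw [show (4 : ℕ) = 2 * 2 from rfl, pow_mul, sq (b * a), hsq a b] at e
    have hcc : Commute (b * b * (a * a)) ⁅a, b⁆ := hz _
    rw [hcc.mul_pow, hbb.mul_pow, sq (b * b), sq (a * a)] at e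
    have hb4 : b * b * (b * b) = 1 := by rw [← h4 b, show (4 : ℕ) = 2 + 2 from rfl, pow_add, sq]
    have ha4 : a * a * (a * a) = 1 := by rw [← h4 a, show (4 : ℕ) = 2 + 2 from rfl, pow_add, sq]
    rwa [hb4, ha4, one_mul, one_mul] at e
  have hsqW : ∀ a : P, a * a ∈ W := by
    intro a
    refine ⟨?_, ?_⟩
    · rw [Subgroup.mem_center_iff]
      intro b
      have hc2 : ⁅a * a, b⁆ = 1 := by rw [← hsqc, hinvol]
      exact (commutatorElement_eq_one_iff_mul_comm.mp hc2).symm
    · rw [← h4 a, show (4 : ℕ) = 2 + 2 from rfl, pow_add, ← sq, ← sq]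
  have hle : frattini P ≤ W := by
    intro x hx
    by_contra hxW
    let S : Set (Subgroup P) := {M | W ≤ M ∧ x ∉ M}
    obtain ⟨M, ⟨hWM, hxM⟩, hmax⟩ := (Set.toFinite S).exists_maximal ⟨W, le_refl W, hxW⟩
    have hn : ∀ m ∈ M, ∀ y : P, y * m * y⁻¹ ∈ M := by
      intro m hm y
      have : y * m * y⁻¹ = ⁅y, m⁆ * m := by rw [commutatorElement_def]; group
      rw [this]
      exact mul_mem (hWM ⟨hcomm y m, hinvol y m⟩) hm
    have key : ∀ y, y ∉ M → y⁻¹ * x ∈ M := by
      intro y hy
      let K : Subgroup P :=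
        { carrier := {g | g ∈ M ∨ y⁻¹ * g ∈ M}
          one_mem' := Or.inl (one_mem _)
          mul_mem' := by
            rintro g h (hg | hg) (hh | hh)
            · exact Or.inl (mul_mem hg hh)
            · right
              have : y⁻¹ * (g * h) = (y⁻¹ * g * y) * (y⁻¹ * h) := by group
              rw [this]
              refine mul_mem ?_ hh
              simpa using hn g hg y⁻¹
            · right
              rw [← mul_assoc]
              exact mul_mem hg hh
            · left
              have : g * h = (y * (y⁻¹ * g) * y⁻¹) * (y * y) * (y⁻¹ * h) := by group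
              rw [this]
              exact mul_mem (mul_mem (hn _ hg y) (hWM (hsqW y))) hh
          inv_mem' := by
            rintro g (hg | hg)
            · exact Or.inl (inv_mem hg)
            · right
              have : y⁻¹ * g⁻¹ = y⁻¹ * (y⁻¹ * g)⁻¹ * y * (y * y)⁻¹ := by group
              rw [this]
              refine mul_mem ?_ (inv_mem (hWM (hsqW y)))
              simpa using hn _ (inv_mem hg) y⁻¹ }
      have hMK : M ≤ K := fun g hg => Or.inl hg
      have hyK : y ∈ K := Or.inr (by rw [inv_mul_cancel]; exact one_mem _)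
      by_contra hyx
      have : K ≤ M := hmax ⟨hWM.trans hMK, fun h => h.elim hxM hyx⟩ hMK
      exact hy (this hyK)
    have h2 : M.index = 2 := by
      rw [Subgroup.index_eq_two_iff]
      refine ⟨x, fun b => ?_⟩
      by_cases hb : b ∈ M
      · refine Or.inr ⟨hb, fun h => hxM ?_⟩
        simpa [mul_assoc] using mul_mem (inv_mem hb) h
      · refine Or.inl ⟨?_, hb⟩
        have h := key b hb
        have e : b * x = b * b * (b⁻¹ * x) := by group
        rw [e]
        exact mul_mem (hWM (hsqW b)) h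
    exact hxM (frattini_le_of_index_two h2 hx)
  exact ⟨hle.trans fun x hx => hx.1, ⟨⟨fun a b => Subtype.ext
    (Subgroup.mem_center_iff.mp (hle b.2).1 a.1)⟩⟩, fun a ha => (hle ha).2⟩

end Cfsg.Agent.S4056
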