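import Cfsg.Statements.S4058
import Mathlib
import Cfsg.Agent.Lib.FSIndicatorSum
import Cfsg.Agent.Lib.CharBasicInt
import Cfsg.Agent.Lib.CharBasicLinear
import Cfsg.Agent.S4029

set_option autoImplicit false
open Cfsg

namespace Cfsg.Agent.S4058

open Cfsg.Agent
open scoped ComplexConjugate

theorem sum_hom_eq {G : Type*} [Group G] {Λ : Type*} [Group Λ] [Fintype Λ]
    (Ψ : Λ →* (G →* ℂˣ)) (g : G) :
    (∑ l : Λ, ((Ψ l g : ℂˣ) : ℂ)) = Fintype.card Λ ∨ (∑ l : Λ, ((Ψ l g : ℂˣ) : ℂ)) = 0 := by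
  by_cases h : ∀ l, Ψ l g = 1
  · left; simp [h]
  · right
    push Not at h
    obtain ⟨l0, hl0⟩ := h
    have e : ((Ψ l0 g : ℂˣ) : ℂ) * ∑ l : Λ, ((Ψ l g : ℂˣ) : ℂ) = ∑ l : Λ, ((Ψ l g : ℂˣ) : ℂ) := by
      rw [Finset.mul_sum]
      exact Fintype.sum_equiv (Equiv.mulLeft l0) _ _ (fun l => by simp)
    by_contra hne
    exact hl0 (Units.ext (mul_right_cancel₀ hne (e.trans (one_mul _).symm)))

theorem sum_lin_eq {G : Type*} [Group G] [Fintype G] (lam : G →* ℂˣ) [Decidable (lam = 1)] :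
    ∑ g : G, ((lam g : ℂˣ) : ℂ) = if lam = 1 then (Fintype.card G : ℂ) else 0 := by
  by_cases h : lam = 1
  · subst h; simp
  · rw [if_neg h]
    obtain ⟨g0, hg0⟩ : ∃ g0, lam g0 ≠ 1 := by
      by_contra hc; push Not at hc; exact h (MonoidHom.ext hc)
    have e : ((lam g0 : ℂˣ) : ℂ) * ∑ g : G, ((lam g : ℂˣ) : ℂ) = ∑ g : G, ((lam g : ℂˣ) : ℂ) := by
      rw [Finset.mul_sum]
      exact Fintype.sum_equiv (Equiv.mulLeft g0) _ _ (fun g => by simp)
    by_contra hne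
    exact hg0 (Units.ext (mul_right_cancel₀ hne (e.trans (one_mul _).symm)))

/-- At most `χ(1)^2` linear characters fix an irreducible character. -/
theorem card_stab_le {G : Type*} [Group G] [Fintype G] {χ : G → ℂ}
    (hχ : Cfsg.IsIrrCharacter G χ) {n : ℕ} (hn : χ 1 = n)
    {Λ : Type*} [Group Λ] [Fintype Λ] (Ψ : Λ →* (G →* ℂˣ)) (hΨ : Function.Injective Ψ)
    (hfix : ∀ l g, χ g * ((Ψ l g : ℂˣ) : ℂ) = χ g) :
    Fintype.card Λ ≤ n ^ 2 := by
  classical
  have h1 : ∑ g : G, χ g * conj (χ g) = (Nat.card G : ℂ) := by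
    have := CharBasicOrth.classInner_irr_self hχ
    rw [Cfsg.classInner] at this
    have hG : (Nat.card G : ℂ) ≠ 0 := Nat.cast_ne_zero.2 Nat.card_pos.ne'
    field_simp at this
    exact this
  have h2 : ∑ g : G, χ g * conj (χ g) * ∑ l : Λ, ((Ψ l g : ℂˣ) : ℂ) = (Fintype.card Λ : ℂ) * Nat.card G := by
    simp only [Finset.mul_sum]
    rw [Finset.sum_comm, ← h1]
    simp only [mul_right_comm (χ _) (conj (χ _)) _, hfix]
    rw [Finset.sum_const, Finset.card_univ, nsmul_eq_mul]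
  have h3 : ∑ g : G, ∑ l : Λ, ((Ψ l g : ℂˣ) : ℂ) = (Nat.card G : ℂ) := by
    rw [Finset.sum_comm]
    simp only [sum_lin_eq, map_eq_one_iff Ψ hΨ]
    simp [Nat.card_eq_fintype_card]
  have hle : (Fintype.card Λ : ℝ) * Nat.card G ≤ (n : ℝ) ^ 2 * Nat.card G := by
    have e2 := congrArg Complex.re h2
    have e3 := congrArg Complex.re h3
    simp only [Complex.re_sum, Complex.mul_re, Complex.natCast_re, Complex.natCast_im, mul_zero, sub_zero] at e2 e3
    rw [← e2, ← e3, Finset.mul_sum]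
    refine Finset.sum_le_sum fun g _ => ?_
    have hre : (∑ l : Λ, ((Ψ l g : ℂˣ) : ℂ).re) = (Fintype.card Λ : ℝ) ∧ (∑ l : Λ, ((Ψ l g : ℂˣ) : ℂ).im) = 0 ∨
        (∑ l : Λ, ((Ψ l g : ℂˣ) : ℂ).re) = 0 ∧ (∑ l : Λ, ((Ψ l g : ℂˣ) : ℂ).im) = 0 := by
      rcases sum_hom_eq Ψ g with h | h
      · left; rw [← Complex.re_sum, ← Complex.im_sum, h]; simp
      · right; rw [← Complex.re_sum, ← Complex.im_sum, h]; simp
    have hb : ‖χ g‖ ≤ (n : ℝ) := by
      have := CharBasic.isCharacter_norm_le (CharBasic.isCharacter_of_isIrrCharacter hχ) g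
      rw [hn] at this
      simpa using this
    have hb2 : (χ g).re * (χ g).re + (χ g).im * (χ g).im ≤ (n : ℝ) ^ 2 := by
      rw [← Complex.normSq_apply, Complex.normSq_eq_norm_sq]
      exact pow_le_pow_left₀ (norm_nonneg _) hb 2
    simp only [Complex.im_sum, Complex.conj_re, Complex.conj_im]
    rcases hre with ⟨r1, r2⟩ | ⟨r1, r2⟩
    · rw [r1, r2]
      have : (0 : ℝ) ≤ Fintype.card Λ := Nat.cast_nonneg _
      nlinarith
    · rw [r1, r2]
      simp
  have := le_of_mul_le_mul_right hle (Nat.cast_pos.mpr Nat.card_pos)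
  exact_mod_cast this

/-- A finite group of exponent two has as many linear characters as elements. -/
theorem card_hom_of_sq {Q : Type*} [Group Q] [Finite Q] (h : ∀ q : Q, q * q = 1) :
    Nat.card (Q →* ℂˣ) = Nat.card Q := by
  rw [CharBasicLinear.card_hom_units]
  have hc : commutator Q = ⊥ := by
    rw [commutator_def, Subgroup.commutator_eq_bot_iff_le_centralizer]
    intro a _
    rw [Subgroup.mem_centralizer_iff]
    intro b _
    have hi : ∀ q : Q, q⁻¹ = q := fun q => inv_eq_of_mul_eq_one_left (h q)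
    calc b * a = (b * a)⁻¹ := (hi _).symm
      _ = a⁻¹ * b⁻¹ := mul_inv_rev b a
      _ = a * b := by rw [hi, hi]
  rw [hc, Subgroup.index_bot]

/-- Let G be a finite 2-group with #(G/Φ(G)) ≥ 2^(2k+1). Then the number of elements x of G with x² = 1 is divisible by 2^(k+1). -/
theorem result {G : Type*} [Group G] [Finite G] (hG : IsPGroup 2 G) (k : ℕ)
    (hgen : 2 ^ (2 * k + 1) ≤ Nat.card (G ⧸ frattini G)) :
    2 ^ (k + 1) ∣ Nat.card {x : G // x ^ 2 = 1} := by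
  classical
  haveI := Fintype.ofFinite G
  haveI : Fact (Nat.Prime 2) := ⟨Nat.prime_two⟩
  haveI : (frattini G).Normal := inferInstance
  let Λ := (G ⧸ frattini G) →* ℂˣ
  have hsq : ∀ q : G ⧸ frattini G, q * q = 1 := by
    intro q
    obtain ⟨a, rfl⟩ := QuotientGroup.mk_surjective q
    rw [← QuotientGroup.mk_mul, QuotientGroup.eq_one_iff, ← sq]
    exact S4029.sq_mem_frattini hG a
  have hΛcard : Nat.card Λ = Nat.card (G ⧸ frattini G) := card_hom_of_sq hsq
  haveI : Finite Λ := Nat.finite_of_card_ne_zero (hΛcard ▸ Nat.card_pos.ne')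
  haveI : Fintype Λ := Fintype.ofFinite Λ
  let Ψ : Λ →* (G →* ℂˣ) :=
    { toFun := fun l => l.comp (QuotientGroup.mk' (frattini G))
      map_one' := by ext g; rfl
      map_mul' := fun a b => by ext g; rfl }
  have hΨ : Function.Injective Ψ := by
    intro a b h
    refine MonoidHom.ext fun q => ?_
    obtain ⟨g, rfl⟩ := QuotientGroup.mk_surjective q
    exact congrArg (fun f : G →* ℂˣ => f g) h
  have hΨsq : ∀ l, Ψ l * Ψ l = 1 := by
    intro l
    ext g
    show ((l (g : G ⧸ frattini G) * l (g : G ⧸ frattini G) : ℂˣ) : ℂ) = 1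
    rw [← map_mul, hsq, map_one, Units.val_one]
  letI act : MulAction Λ (Cfsg.IrrCharacter G) :=
    { smul := fun l χ => ⟨fun g => χ.1 g * ((Ψ l g : ℂˣ) : ℂ), CharBasicDecomp.isIrrCharacter_mul_linear χ.2 (Ψ l)⟩
      one_smul := fun χ => Subtype.ext (funext fun g => by
        show χ.1 g * ((Ψ 1 g : ℂˣ) : ℂ) = χ.1 g
        rw [map_one, MonoidHom.one_apply, Units.val_one, mul_one])
      mul_smul := fun a b χ => Subtype.ext (funext fun g => by
        show χ.1 g * ((Ψ (a * b) g : ℂˣ) : ℂ) = χ.1 g * ((Ψ b g : ℂˣ) : ℂ) * ((Ψ a g : ℂˣ) : ℂ)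
        rw [map_mul, MonoidHom.mul_apply, Units.val_mul, mul_assoc, mul_comm ((Ψ a g : ℂˣ) : ℂ)]) }
  have hsmul : ∀ (l : Λ) (χ : Cfsg.IrrCharacter G) (g : G),
      (l • χ).1 g = χ.1 g * ((Ψ l g : ℂˣ) : ℂ) := fun _ _ _ => rfl
  -- degree and indicator as integers
  have hdeg : ∀ χ : Cfsg.IrrCharacter G, ∃ j : ℕ, χ.1 1 = ((2 ^ j : ℕ) : ℂ) := by
    intro χ
    obtain ⟨n, -, hn, hdvd⟩ := CharBasicInt.exists_apply_one_dvd_card χ.2
    obtain ⟨m, hm⟩ := IsPGroup.iff_card.mp hG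
    obtain ⟨j, -, rfl⟩ := (Nat.dvd_prime_pow Nat.prime_two).mp (hm ▸ hdvd)
    exact ⟨j, hn⟩
  choose j hj using hdeg
  choose z hz using fun χ : Cfsg.IrrCharacter G =>
    FSIndicatorSum.nu_int (CharBasic.isCharacter_of_isIrrCharacter χ.2)
  let f : Cfsg.IrrCharacter G → ℤ := fun χ => (2 : ℤ) ^ (j χ) * z χ
  have hf : ∀ χ, (f χ : ℂ) = χ.1 1 * FSIndicatorSum.nu χ.1 := by
    intro χ; simp only [f, hj, hz]; push_cast; ring
  have hinv : ∀ (l : Λ) χ, f (l • χ) = f χ := by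
    intro l χ
    have : (f (l • χ) : ℂ) = (f χ : ℂ) := by
      rw [hf, hf, hsmul, map_one, Units.val_one, mul_one]
      congr 1
      exact FSIndicatorSum.nu_mul_linear χ.1 (Ψ l) (hΨsq l)
    exact_mod_cast this
  have hd : ∃ d, Nat.card Λ = 2 ^ d ∧ 2 * k + 1 ≤ d := by
    rw [hΛcard]
    obtain ⟨d, hd⟩ := IsPGroup.iff_card.mp (hG.to_quotient (frattini G))
    refine ⟨d, hd, ?_⟩
    rw [hd] at hgen
    exact (Nat.pow_le_pow_iff_right (by norm_num)).mp hgen
  obtain ⟨d, hd, hdk⟩ := hd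
  have horb : ∀ χ : Cfsg.IrrCharacter G,
      (2 : ℤ) ^ (k + 1) ∣ (Fintype.card (MulAction.orbit Λ χ) : ℤ) * f χ := by
    intro χ
    have hos := MulAction.card_orbit_mul_card_stabilizer_eq_card_group Λ χ
    have hst : Fintype.card (MulAction.stabilizer Λ χ) ≤ (2 ^ j χ) ^ 2 := by
      refine card_stab_le χ.2 (hj χ) (Ψ.comp (MulAction.stabilizer Λ χ).subtype)
        (hΨ.comp Subtype.val_injective) ?_
      intro l g
      have := congrArg (fun ψ : Cfsg.IrrCharacter G => ψ.1 g) l.2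
      simpa [hsmul] using this
    rw [← Nat.card_eq_fintype_card (α := Λ), hd] at hos
    obtain ⟨t, -, ht⟩ := (Nat.dvd_prime_pow Nat.prime_two).mp ⟨_, by rw [mul_comm]; exact hos.symm⟩
    obtain ⟨o, -, ho⟩ := (Nat.dvd_prime_pow Nat.prime_two).mp ⟨_, hos.symm⟩
    rw [ht, ho, ← pow_add] at hos
    rw [ht, ← pow_mul] at hst
    have h1 : o + t = d := Nat.pow_right_injective (le_refl 2) hos
    have h2 : t ≤ j χ * 2 := (Nat.pow_le_pow_iff_right (by norm_num)).mp hst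
    simp only [f, ho, Nat.cast_pow, Nat.cast_ofNat, ← mul_assoc, ← pow_add]
    exact Dvd.dvd.mul_right (pow_dvd_pow 2 (by omega)) _
  have hsum : (2 : ℤ) ^ (k + 1) ∣ ∑ χ, f χ := by
    rw [← Equiv.sum_comp (MulAction.selfEquivSigmaOrbits Λ (Cfsg.IrrCharacter G)).symm f,
      Fintype.sum_sigma]
    refine Finset.dvd_sum fun ω _ => ?_
    have : ∀ x : MulAction.orbit Λ ω.out,
        f ((MulAction.selfEquivSigmaOrbits Λ (Cfsg.IrrCharacter G)).symm ⟨ω, x⟩) = f ω.out := by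
      rintro ⟨x, l, rfl⟩
      exact hinv l _
    rw [Finset.sum_congr rfl (fun x _ => this x), Finset.sum_const, Finset.card_univ, nsmul_eq_mul]
    convert horb ω.out
  have htot : ((∑ χ, f χ : ℤ) : ℂ) = (Nat.card {x : G // x ^ 2 = 1} : ℂ) := by
    push_cast
    rw [Finset.sum_congr rfl (fun χ _ => hf χ), FSIndicatorSum.sum_apply_one_mul_nu]
    simp only [sq]
  have htot' : (∑ χ, f χ : ℤ) = (Nat.card {x : G // x ^ 2 = 1} : ℤ) := by exact_mod_cast htot
  rw [htot'] at hsum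
  exact_mod_cast hsum

end Cfsg.Agent.S4058
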