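import Cfsg.Statements.S4057
import Mathlib
import Cfsg.Agent.Lib.UnitriGenBound29
import Cfsg.Agent.Lib.RankTwoOdd
import Cfsg.Agent.Lib.RankTwoChief

set_option autoImplicit false
open Cfsg

namespace Cfsg.Agent.S4057

open Subgroup Cfsg.Agent

variable {P : Type*} [Group P] [Finite P] {p : ℕ} [Fact p.Prime]

/-- A chief series of `P` below a normal subgroup `A`, continued by `A`. -/
theorem exists_chain (hP : IsPGroup p P) (A : Subgroup P) [A.Normal] {j : ℕ}
    (hj : Nat.card A = p ^ j) :
    ∃ L : ℕ → Subgroup P, L 0 = ⊥ ∧ (∀ r, (L r).Normal) ∧ (∀ r, L r ≤ A) ∧ Monotone L ∧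
      (∀ r, Nat.card (L r) = p ^ min r j) := by
  have hstep : ∀ M : {M : Subgroup P // M.Normal ∧ M ≤ A}, ∃ M' : {M : Subgroup P // M.Normal ∧ M ≤ A},
      M.1 ≤ M'.1 ∧ ((M.1 = A ∧ M'.1 = A) ∨ Nat.card M'.1 = Nat.card M.1 * p) := by
    intro M
    haveI := M.2.1
    rcases M.2.2.eq_or_lt with h | h
    · exact ⟨M, le_rfl, Or.inl ⟨h, h⟩⟩
    · obtain ⟨M', h1, h2, h3, h4⟩ := PGroupsBasic.exists_normal_succ hP h
      exact ⟨⟨M', h1, h3⟩, h2, Or.inr h4⟩
  choose next hnext1 hnext2 using hstep
  let L : ℕ → {M : Subgroup P // M.Normal ∧ M ≤ A} := fun r =>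
    Nat.rec ⟨⊥, inferInstance, bot_le⟩ (fun _ M => next M) r
  refine ⟨fun r => (L r).1, rfl, fun r => (L r).2.1, fun r => (L r).2.2,
    monotone_nat_of_le_succ fun r => hnext1 (L r), fun r => ?_⟩
  induction r with
  | zero => simp [L]
  | succ r ih =>
    show Nat.card (next (L r)).1 = _
    change Nat.card (L r).1 = _ at ih
    rcases hnext2 (L r) with ⟨h1, h2⟩ | h
    · rw [h1, hj] at ih
      have := Nat.pow_right_injective (Fact.out : p.Prime).two_le ih
      rw [h2, hj]
      congr 1
      omega
    · have hle : Nat.card (next (L r)).1 ≤ p ^ j :=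
        hj ▸ card_le_of_le (next (L r)).2.2
      rw [h, ih, ← pow_succ] at hle ⊢
      have := (Nat.pow_le_pow_iff_right (Fact.out : p.Prime).one_lt).1 hle
      congr 1
      omega

/-- The key bound `|H : Φ(H)| ≤ p ^ (j + j ^ 2 / 4)`. -/
theorem index_frattini_le (hp2 : p ≠ 2) (hP : IsPGroup p P) (A : Subgroup P) [A.Normal]
    (hA : Cfsg.IsElementaryAbelian p A)
    (hmax : ∀ B : Subgroup P, B.Normal → Cfsg.IsElementaryAbelian p B → A ≤ B → B = A)
    {j : ℕ} (hj : Nat.card A = p ^ j) (H : Subgroup P) :
    (frattini H).index ≤ p ^ (j + j ^ 2 / 4) := by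
  have hpp : p.Prime := Fact.out
  obtain ⟨L, hL0, hLn, hLA, hLmono, hLcard⟩ := exists_chain hP A hj
  letI : CommGroup A := { (inferInstance : Group A) with
    mul_comm := fun a b => Subtype.ext (PGroupsBasic.comm_of_isMulCommutative hA.1 a.2 b.2) }
  let ρ : H →* AddMonoid.End (Additive A) :=
    { toFun := fun h => AddMonoidHom.mk' (fun a => Additive.ofMul (MulAut.conjNormal (h : P) a.toMul))
        fun a b => by simp [toMul_add, map_mul]
      map_one' := by
        apply DFunLike.ext
        intro a
        simp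
        rfl
      map_mul' := fun g h => by
        apply DFunLike.ext
        intro a
        simp only [Subgroup.coe_mul, map_mul, AddMonoid.End.coe_mul, Function.comp_apply]
        rfl }
  let F : ℕ → AddSubgroup (Additive A) := fun r => ((L r).subgroupOf A).toAddSubgroup
  have memF : ∀ r v, v ∈ F r ↔ ((v.toMul : A) : P) ∈ L r := fun r v => Iff.rfl
  have htop : ∀ r, j ≤ r → L r = A := fun r hr => eq_of_le_of_card_ge (hLA r) (by
    rw [hLcard, hj, min_eq_right hr])
  have hcomm : ∀ (g : P) r, ∀ v ∈ L r, g * v * g⁻¹ * v⁻¹ ∈ L (r - 1) := by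
    intro g r v hv
    haveI := hLn (r - 1)
    haveI := hLn r
    rcases Nat.eq_zero_or_pos r with rfl | hr
    · rw [hL0, mem_bot] at hv
      subst hv
      simp
    set f := QuotientGroup.mk' (L (r - 1))
    haveI : ((L r).map f).Normal := Subgroup.Normal.map ‹_› _ (QuotientGroup.mk'_surjective _)
    have hcen : (L r).map f ≤ center _ := by
      rcases Nat.lt_or_ge j r with hjr | hjr
      · rw [show L r = L (r - 1) by rw [htop r hjr.le, htop (r - 1) (by omega)],
          QuotientGroup.map_mk'_self]
        exact bot_le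
      · refine PGroupsBasic.le_center_of_card_eq_prime (hP.to_quotient _) ?_
        have h1 := relIndex_mul_relIndex ⊥ (L (r - 1)) (L r) bot_le (hLmono (Nat.sub_le r 1))
        rw [relIndex_bot_left, relIndex_bot_left, hLcard, hLcard, min_eq_left hjr,
          min_eq_left (by omega)] at h1
        have h2 : (L (r - 1)).relIndex (L r) = p := by
          refine Nat.eq_of_mul_eq_mul_left (pow_pos hpp.pos (r - 1)) (h1.trans ?_)
          rw [← pow_succ]
          congr 1
          omega
        have h3 : Nat.card ((L r).map f) = (L (r - 1)).relIndex (L r) := by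
          rw [← relIndex_bot_left, ← Subgroup.map_bot f, relIndex_map_map, QuotientGroup.ker_mk',
            bot_sup_eq, sup_eq_left.mpr (hLmono (Nat.sub_le r 1))]
        exact h3.trans h2
    refine (QuotientGroup.eq_one_iff _).1 ?_
    show f (g * v * g⁻¹ * v⁻¹) = 1
    have := mem_center_iff.1 (hcen (mem_map_of_mem f hv)) (f g)
    simp only [map_mul, map_inv, this]
    group
  let fl : UnitriGenBound29.Flag ρ p j :=
    { F := F
      bot := by
        apply le_antisymm _ bot_le
        intro v hv
        have h1 := (memF 0 v).1 hv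
        rw [hL0, mem_bot] at h1
        rw [AddSubgroup.mem_bot]
        exact Additive.toMul.injective (Subtype.ext (by simpa using h1))
      top := fun r hr => eq_top_iff.2 fun v _ => by
        rw [memF, htop r hr]
        exact v.toMul.2
      mono := fun r s hrs v hv => hLmono hrs hv
      gen := by
        intro r hr hrj
        haveI := hLn (r - 1)
        have hlt : L (r - 1) < L r := by
          refine lt_of_le_of_ne (hLmono (Nat.sub_le r 1)) fun h => ?_
          have := congrArg (fun M : Subgroup P => Nat.card M) h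
          simp only [hLcard] at this
          have := Nat.pow_right_injective hpp.two_le this
          omega
        obtain ⟨a, ha, ha'⟩ := SetLike.exists_of_lt hlt
        refine ⟨Additive.ofMul ⟨a, hLA r ha⟩, ha, ha', fun v hv => ?_⟩
        have hsup : L (r - 1) ⊔ zpowers a = L r := by
          refine eq_of_le_of_card_ge (sup_le hlt.le (zpowers_le.2 ha)) ?_
          rw [PGroupsBasic.card_sup_zpowers (orderOf_eq_prime (hA.2 a (hLA r ha))
            fun h => ha' (h ▸ one_mem _)) ha', hLcard, hLcard, ← pow_succ]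
          exact Nat.pow_le_pow_right hpp.pos (by omega)
        have hv' : ((v.toMul : A) : P) ∈ L (r - 1) ⊔ zpowers a := by rw [hsup]; exact hv
        rw [← SetLike.mem_coe, Subgroup.normal_mul] at hv'
        obtain ⟨m, hm, t, ht, hmt⟩ := hv'
        obtain ⟨k, hk⟩ := mem_powers_iff_mem_zpowers.2 ht
        refine ⟨k, ?_⟩
        show (((v - k • Additive.ofMul (⟨a, hLA r ha⟩ : A)).toMul : A) : P) ∈ L (r - 1)
        simp only [toMul_sub, toMul_nsmul, toMul_ofMul, Subgroup.coe_div, SubmonoidClass.coe_pow]
        rw [← hmt, show a ^ k = t from hk, mul_div_cancel_right]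
        exact hm
      step := by
        intro g r v hv
        show (((ρ g v - v).toMul : A) : P) ∈ L (r - 1)
        simp only [toMul_sub, Subgroup.coe_div]
        rw [div_eq_mul_inv]
        exact hcomm g r _ hv
      exp := fun v => Additive.toMul.injective (Subtype.ext (by
        simpa using hA.2 _ v.toMul.2)) }
  set C : Subgroup H := (centralizer (A : Set P)).subgroupOf H with hC
  have hK : ∀ g : H, g ∈ C ↔ ∀ v, ρ g v = v := by
    intro g
    rw [hC, mem_subgroupOf, mem_centralizer_iff]
    constructor
    · intro h v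
      refine Additive.toMul.injective (Subtype.ext ?_)
      show (g : P) * ((v.toMul : A) : P) * (g : P)⁻¹ = _
      rw [← h _ v.toMul.2, mul_inv_cancel_right]
    · intro h a ha
      have := congrArg (fun v : Additive A => ((v.toMul : A) : P)) (h (Additive.ofMul ⟨a, ha⟩))
      change (g : P) * a * (g : P)⁻¹ = a at this
      calc a * (g : P) = (g : P) * a * (g : P)⁻¹ * g := by rw [this]
        _ = (g : P) * a := by group
  have hH : IsPGroup p H := hP.to_subgroup H
  have hmain := UnitriGenBound29.card_le fl hH (PGroupsBasic.commutator_le_frattini hH) hK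
  -- the part centralising `A`
  have hcent : Nat.card C ≤ p ^ j * Nat.card ↥(C ⊓ frattini H) := by
    classical
    have hCmem : ∀ c : C, (((c : H) : P)) ∈ centralizer (A : Set P) := fun c => c.2
    have hc : RankTwoChief.PCentral p C := by
      intro x hx y
      have hxA : ((x : H) : P) ∈ A := RankTwoOdd.mem_of_mem_centralizer hp2 hP hA hmax (hCmem x)
        (by simpa using congrArg (fun z : C => ((z : H) : P)) hx)
      exact Subtype.ext (Subtype.ext ((mem_centralizer_iff.1 (hCmem y)) _ hxA))
    let φ : C → ↥(C ⊓ frattini H) := fun c =>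
      ⟨(c : H) ^ p, C.pow_mem c.2 p, PGroupsBasic.pow_mem_frattini hH _⟩
    haveI := Fintype.ofFinite C
    haveI := Fintype.ofFinite A
    haveI := Fintype.ofFinite ↥(C ⊓ frattini H)
    simp only [Nat.card_eq_fintype_card]
    rw [← Finset.card_univ, ← Finset.card_univ]
    refine Finset.card_le_mul_card_image_of_maps_to (f := φ) (fun _ _ => Finset.mem_univ _) _ ?_
    intro b _
    by_cases hb : ∃ c, φ c = b
    · obtain ⟨c₀, rfl⟩ := hb
      rw [← hj, Nat.card_eq_fintype_card, ← Finset.card_univ]
      have hmem : ∀ c ∈ Finset.univ.filter (fun c => φ c = φ c₀),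
          (((c * c₀⁻¹ : C) : H) : P) ∈ A := by
        intro c hc'
        have hcc : c ^ p = c₀ ^ p := by
          apply Subtype.ext
          simpa [φ] using congrArg Subtype.val (Finset.mem_filter.1 hc').2
        have := RankTwoChief.pow_mul_inv_eq_one hp2 (hH.to_subgroup C) hc c c₀ hcc
        exact RankTwoOdd.mem_of_mem_centralizer hp2 hP hA hmax (hCmem _)
          (by simpa using congrArg (fun z : C => ((z : H) : P)) this)
      rw [← Finset.card_attach]
      refine Finset.card_le_card_of_injOn (fun c => (⟨_, hmem c.1 c.2⟩ : A))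
        (fun _ _ => Finset.mem_univ _) ?_
      intro c _ c' _ h
      have := congrArg Subtype.val h
      exact Subtype.ext (mul_right_cancel (Subtype.ext (Subtype.ext this)))
    · rw [Finset.filter_false_of_mem fun c _ h => hb ⟨c, h⟩, Finset.card_empty]
      exact Nat.zero_le _
  have h1 : Nat.card H * Nat.card ↥(C ⊓ frattini H) ≤
      p ^ j * Nat.card (frattini H) * p ^ (j ^ 2 / 4) * Nat.card ↥(C ⊓ frattini H) := by
    calc Nat.card H * Nat.card ↥(C ⊓ frattini H)
        ≤ Nat.card C * Nat.card (frattini H) * p ^ (j ^ 2 / 4) := hmain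
      _ ≤ p ^ j * Nat.card ↥(C ⊓ frattini H) * Nat.card (frattini H) * p ^ (j ^ 2 / 4) := by gcongr
      _ = _ := by ring
  have h2 := Nat.le_of_mul_le_mul_right h1 Nat.card_pos
  rw [← Subgroup.card_mul_index (frattini H)] at h2
  refine Nat.le_of_mul_le_mul_left (h2.trans (le_of_eq ?_)) Nat.card_pos
  rw [pow_add]
  ring

/-- Let p be an odd prime and P a finite p-group in which every normal abelian subgroup can be generated by k elements. Then every subgroup of P can be generated by at most ⌊k(k+4)/4⌋ elements. -/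
theorem result {P : Type*} [Group P] [Finite P] {p : ℕ} [Fact p.Prime]
    (hp : p ≠ 2) (hP : IsPGroup p P) (k : ℕ)
    (hab : ∀ A : Subgroup P, A.Normal → IsMulCommutative A → ∃ S : Finset P, S.card ≤ k ∧ Subgroup.closure (S : Set P) = A) :
    ∀ H : Subgroup P, ∃ S : Finset P, S.card ≤ k * (k + 4) / 4 ∧ Subgroup.closure (S : Set P) = H := by
  intro H
  classical
  obtain ⟨A, hAn, hA, hmax⟩ := RankTwoOdd.exists_maximal_normal (G := P) p
  obtain ⟨j, hj⟩ := IsPGroup.iff_card.mp (hP.to_subgroup A)
  have hjk : j ≤ k := by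
    obtain ⟨S, hS, hgen⟩ := hab A hAn hA.1
    have hc : ∀ a b : A, a * b = b * a := fun a b =>
      Subtype.ext (PGroupsBasic.comm_of_isMulCommutative hA.1 a.2 b.2)
    have hpow : ∀ a : A, a ^ p = 1 := fun a => Subtype.ext (hA.2 a a.2)
    have hSA : ∀ s ∈ S, s ∈ A := fun s hs => hgen ▸ Subgroup.subset_closure hs
    let T : Finset A := S.attach.image fun s => ⟨s.1, hSA _ s.2⟩
    have hT : Subgroup.closure (T : Set A) = ⊤ := by
      refine Subgroup.map_injective A.subtype_injective ?_
      rw [MonoidHom.map_closure, ← MonoidHom.range_eq_map, Subgroup.range_subtype]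
      refine Eq.trans ?_ hgen
      congr 1
      ext x
      simp [T, hSA]
      exact fun h => hSA x h
    have h1 := PGroupsBasic.card_closure_le_pow hc hpow T
    rw [hT, Subgroup.card_top, hj] at h1
    have h2 := (Nat.pow_le_pow_iff_right (Fact.out : p.Prime).one_lt).1 h1
    exact h2.trans (Finset.card_image_le.trans (by rwa [Finset.card_attach]))
  haveI := Fintype.ofFinite H
  obtain ⟨T, -, hTcard, hTgen⟩ := PGroupsBasic.exists_basis_subset (hP.to_subgroup H)
    (Finset.univ : Finset H) (by simp)
  refine ⟨T.image H.subtype, ?_, ?_⟩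
  · have h1 := index_frattini_le hp hP A hA hmax hj H
    rw [← hTcard] at h1
    have h2 := (Nat.pow_le_pow_iff_right (Fact.out : p.Prime).one_lt).1 h1
    refine Finset.card_image_le.trans (h2.trans ?_)
    have h3 : j + j ^ 2 / 4 ≤ k + k ^ 2 / 4 :=
      add_le_add hjk (Nat.div_le_div_right (Nat.pow_le_pow_left hjk 2))
    refine h3.trans (le_of_eq ?_)
    rw [show k * (k + 4) = k ^ 2 + k * 4 by ring, Nat.add_mul_div_right _ _ (by norm_num : 0 < 4)]
    ring
  · rw [Finset.coe_image, ← MonoidHom.map_closure, hTgen, ← MonoidHom.range_eq_map,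
      Subgroup.range_subtype]

end Cfsg.Agent.S4057
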