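import Cfsg.Statements.S4059
import Mathlib

set_option autoImplicit false
open Cfsg

namespace Cfsg.Agent.S4059

/-- Let G be a finite group in which every element is conjugate to its inverse. Then: every non-identity element commuting with all elements of some Sylow 2-subgroup is an involution; the centre of G is an elementary abelian 2-group; the commutator quotient G/G' is an elementary abelian 2-group; and G is generated by its 2-elements. -/
theorem result {G : Type*} [Group G] [Finite G] (hamb : ∀ x : G, IsConj x x⁻¹) :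
    (∀ (S : Sylow 2 G) (x : G), x ∈ Subgroup.centralizer ((S : Subgroup G) : Set G) → x ≠ 1 → orderOf x = 2) ∧
    (∀ z : G, z ∈ Subgroup.center G → z ^ 2 = 1) ∧
    (∀ x : G, x ^ 2 ∈ commutator G) ∧
    Subgroup.closure {x : G | ∃ k : ℕ, orderOf x = 2 ^ k} = ⊤ := by
  haveI : Fact (Nat.Prime 2) := ⟨Nat.prime_two⟩
  refine ⟨?_, ?_, ?_, ?_⟩
  · intro S x hx hx1
    refine orderOf_eq_prime ?_ hx1
    have hx' : x⁻¹ ∈ Subgroup.centralizer ((S : Subgroup G) : Set G) := inv_mem hx
    obtain ⟨c, hc⟩ := isConj_iff.mp (hamb x)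
    obtain ⟨n, hn, hn'⟩ := S.conj_eq_normalizer_conj_of_mem_centralizer x c⁻¹ hx (by
      rw [inv_inv, hc]; exact hx')
    rw [inv_inv, hc] at hn'
    -- n⁻¹ * x * n = x⁻¹
    obtain ⟨e, m, hm, hord⟩ := Nat.exists_eq_pow_mul_and_not_dvd (orderOf_pos n).ne' 2 (by omega)
    have hm0 : m ≠ 0 := by rintro rfl; exact hm (dvd_zero 2)
    have hu2 : IsPGroup 2 (Subgroup.zpowers (n ^ m)) := by
      refine IsPGroup.of_card (n := e) ?_
      rw [Nat.card_zpowers, orderOf_pow_of_dvd hm0 (hord ▸ dvd_mul_left _ _), hord]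
      exact Nat.mul_div_cancel _ (Nat.pos_of_ne_zero hm0)
    have hsup : IsPGroup 2 ((Subgroup.zpowers (n ^ m) ⊔ (S : Subgroup G) : Subgroup G)) :=
      hu2.to_sup_of_normal_right' S.isPGroup' (by
        rw [Subgroup.zpowers_le]; exact pow_mem hn m)
    have hmem : n ^ m ∈ (S : Subgroup G) := by
      have := S.is_maximal' hsup le_sup_right
      rw [← this]
      exact Subgroup.mem_sup_left (Subgroup.mem_zpowers _)
    have hcomm : n ^ m * x = x * n ^ m :=
      Subgroup.mem_centralizer_iff.mp hx _ hmem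
    have hk : ∀ k : ℕ, (n ^ k)⁻¹ * x * n ^ k = if Even k then x else x⁻¹ := by
      intro k
      induction k with
      | zero => simp
      | succ k ih =>
        have : (n ^ (k + 1))⁻¹ * x * n ^ (k + 1) = n⁻¹ * ((n ^ k)⁻¹ * x * n ^ k) * n := by
          rw [pow_succ]; group
        rw [this, ih]
        by_cases h : Even k
        · rw [if_pos h, if_neg (by simp [Nat.even_add_one, h]), ← hn']
        · rw [if_neg h, if_pos (by simp [Nat.even_add_one, h])]
          calc n⁻¹ * x⁻¹ * n = (n⁻¹ * x * n)⁻¹ := by group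
            _ = x := by rw [← hn', inv_inv]
    have h1 := hk m
    rw [if_neg (by rw [even_iff_two_dvd]; exact hm), mul_assoc, ← hcomm, inv_mul_cancel_left] at h1
    rw [sq]
    nth_rewrite 2 [h1]
    exact mul_inv_cancel x
  · intro z hz
    obtain ⟨c, hc⟩ := isConj_iff.mp (hamb z)
    rw [Subgroup.mem_center_iff.mp hz c, mul_inv_cancel_right] at hc
    rw [sq]
    nth_rewrite 2 [hc]
    exact mul_inv_cancel z
  · intro x
    obtain ⟨c, hc⟩ := isConj_iff.mp (hamb x)
    have h : Abelianization.of x = Abelianization.of x⁻¹ := by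
      rw [← hc, map_mul, map_mul, map_inv, mul_comm (Abelianization.of c), mul_inv_cancel_right]
    rw [← Abelianization.ker_of G, MonoidHom.mem_ker, map_pow, sq]
    nth_rewrite 2 [h]
    rw [map_inv, mul_inv_cancel]
  · set T : Subgroup G := Subgroup.closure {x : G | ∃ k : ℕ, orderOf x = 2 ^ k} with hT
    have hTn : T.Normal := by
      refine ⟨fun t ht g => ?_⟩
      have h1 : T ≤ T.comap (MulAut.conj g).toMonoidHom := by
        rw [hT, Subgroup.closure_le]
        rintro y ⟨k, hk⟩
        refine Subgroup.subset_closure ⟨k, ?_⟩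
        rw [MulEquiv.coe_toMonoidHom, MulEquiv.orderOf_eq, hk]
      exact h1 ht
    have hS : ((default : Sylow 2 G) : Subgroup G) ≤ T := by
      intro y hy
      obtain ⟨k, hk⟩ := (IsPGroup.iff_orderOf.mp (default : Sylow 2 G).isPGroup') ⟨y, hy⟩
      exact Subgroup.subset_closure ⟨k, by rw [← hk, Subgroup.orderOf_mk]⟩
    have hodd : ¬ 2 ∣ T.index := fun h =>
      (default : Sylow 2 G).not_dvd_index (h.trans (Subgroup.index_dvd_of_le hS))
    by_contra hne
    obtain ⟨x, hx⟩ : ∃ x, x ∉ T := by
      by_contra hall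
      push Not at hall
      exact hne (eq_top_iff.mpr fun x _ => hall x)
    obtain ⟨c, hc⟩ := isConj_iff.mp (hamb x)
    have hkey : ∀ a b : G ⧸ T, b * a * b⁻¹ = a⁻¹ → a = 1 := by
      intro a b hab
      have hbk : ∀ k : ℕ, b ^ k * a * (b ^ k)⁻¹ = if Even k then a else a⁻¹ := by
        intro k
        induction k with
        | zero => simp
        | succ k ih =>
          have : b ^ (k + 1) * a * (b ^ (k + 1))⁻¹ = b * (b ^ k * a * (b ^ k)⁻¹) * b⁻¹ := by
            rw [pow_succ']; group
          rw [this, ih]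
          by_cases h : Even k
          · rw [if_pos h, if_neg (by simp [Nat.even_add_one, h]), hab]
          · rw [if_neg h, if_pos (by simp [Nat.even_add_one, h])]
            calc b * a⁻¹ * b⁻¹ = (b * a * b⁻¹)⁻¹ := by group
              _ = a := by rw [hab, inv_inv]
      have h1 := hbk (Nat.card (G ⧸ T))
      rw [pow_card_eq_one', if_neg (by rw [even_iff_two_dvd]; exact hodd)] at h1
      simp only [one_mul, inv_one, mul_one] at h1
      have h2 : a ^ 2 = 1 := by
        rw [sq]; nth_rewrite 2 [h1]; exact mul_inv_cancel a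
      have h3 : orderOf a ∣ Nat.gcd 2 (Nat.card (G ⧸ T)) :=
        Nat.dvd_gcd (orderOf_dvd_of_pow_eq_one h2) (orderOf_dvd_natCard a)
      rw [show Nat.gcd 2 (Nat.card (G ⧸ T)) = 1 from (Nat.Prime.coprime_iff_not_dvd Nat.prime_two).mpr hodd, Nat.dvd_one] at h3
      exact orderOf_eq_one_iff.mp h3
    refine hx ((QuotientGroup.eq_one_iff x).mp (hkey _ (c : G ⧸ T) ?_))
    rw [← QuotientGroup.mk_mul, ← QuotientGroup.mk_inv, ← QuotientGroup.mk_mul, hc, QuotientGroup.mk_inv]

end Cfsg.Agent.S4059
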