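import Cfsg.Statements.S4060
import Mathlib

set_option autoImplicit false
open Cfsg

namespace Cfsg.Agent.S4060

open scoped Pointwise in
theorem centralizing_real_sq {G : Type*} [Group G] [Finite G] (S : Sylow 2 G) (x : G)
    (hx : x ∈ Subgroup.centralizer ((S : Subgroup G) : Set G)) (hr : IsConj x x⁻¹) : x ^ 2 = 1 := by
  haveI : Fact (Nat.Prime 2) := ⟨Nat.prime_two⟩
  have hx' : x⁻¹ ∈ Subgroup.centralizer ((S : Subgroup G) : Set G) := inv_mem hx
  obtain ⟨c, hc⟩ := isConj_iff.mp hr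
  obtain ⟨n, hn, hn'⟩ := S.conj_eq_normalizer_conj_of_mem_centralizer x c⁻¹ hx (by
    rw [inv_inv, hc]; exact hx')
  rw [inv_inv, hc] at hn'
  obtain ⟨e, m, hm, hord⟩ := Nat.exists_eq_pow_mul_and_not_dvd (orderOf_pos n).ne' 2 (by omega)
  have hm0 : m ≠ 0 := by rintro rfl; exact hm (dvd_zero 2)
  have hu2 : IsPGroup 2 (Subgroup.zpowers (n ^ m)) := by
    refine IsPGroup.of_card (n := e) ?_
    rw [Nat.card_zpowers, orderOf_pow_of_dvd hm0 (hord ▸ dvd_mul_left _ _), hord]
    exact Nat.mul_div_cancel _ (Nat.pos_of_ne_zero hm0)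
  have hsup : IsPGroup 2 ((Subgroup.zpowers (n ^ m) ⊔ (S : Subgroup G) : Subgroup G)) :=
    hu2.to_sup_of_normal_right' S.isPGroup' (by
      rw [Subgroup.zpowers_le]; exact pow_mem hn m)
  have hmem : n ^ m ∈ (S : Subgroup G) := by
    have := S.is_maximal' hsup le_sup_right
    rw [← this]
    exact Subgroup.mem_sup_left (Subgroup.mem_zpowers _)
  have hcomm : n ^ m * x = x * n ^ m :=
    Subgroup.mem_centralizer_iff.mp hx _ hmem
  have hk : ∀ k : ℕ, (n ^ k)⁻¹ * x * n ^ k = if Even k then x else x⁻¹ := by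
    intro k
    induction k with
    | zero => simp
    | succ k ih =>
      have : (n ^ (k + 1))⁻¹ * x * n ^ (k + 1) = n⁻¹ * ((n ^ k)⁻¹ * x * n ^ k) * n := by
        rw [pow_succ]; group
      rw [this, ih]
      by_cases h : Even k
      · rw [if_pos h, if_neg (by simp [Nat.even_add_one, h]), ← hn']
      · rw [if_neg h, if_pos (by simp [Nat.even_add_one, h])]
        calc n⁻¹ * x⁻¹ * n = (n⁻¹ * x * n)⁻¹ := by group
          _ = x := by rw [← hn', inv_inv]
  have h1 := hk m
  rw [if_neg (by rw [even_iff_two_dvd]; exact hm), mul_assoc, ← hcomm, inv_mul_cancel_left] at h1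
  rw [sq]
  nth_rewrite 2 [h1]
  exact mul_inv_cancel x

/-- A minimal normal subgroup of a solvable group is a p-group. -/
theorem exists_normal_pGroup {G : Type*} [Group G] [Finite G] [Group.IsSolvable G] [Nontrivial G] :
    ∃ (N : Subgroup G) (q : ℕ), N.Normal ∧ q.Prime ∧ IsPGroup q N ∧ N ≠ ⊥ := by
  obtain ⟨A, hA⟩ : ∃ A : Subgroup G, Minimal (fun B : Subgroup G => B ≠ ⊥ ∧ B.Normal) A :=
    (Set.toFinite {A : Subgroup G | A ≠ ⊥ ∧ A.Normal}).exists_minimal ⟨⊤, top_ne_bot, inferInstance⟩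
  obtain ⟨⟨hAne, hAn⟩, hmin⟩ := hA
  haveI := hAn
  have hcommA : ⁅A, A⁆ = ⊥ := by
    by_contra hne
    have h1 : A ≤ ⁅A, A⁆ := hmin ⟨hne, inferInstance⟩ (Subgroup.commutator_le_right A A)
    have h2 : ∀ k, A ≤ derivedSeries G k := by
      intro k
      induction k with
      | zero => simp
      | succ k ih =>
        rw [derivedSeries_succ]
        exact h1.trans (Subgroup.commutator_mono ih ih)
    obtain ⟨k, hk⟩ := (Group.isSolvable_def G).mp inferInstance
    exact hAne (le_bot_iff.mp (hk ▸ h2 k))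
  have hcomm : ∀ a ∈ A, ∀ b ∈ A, a * b = b * a := fun a ha b hb =>
    Subgroup.mem_centralizer_iff.mp (Subgroup.commutator_eq_bot_iff_le_centralizer.mp hcommA hb) a ha
  set q := (Nat.card A).minFac with hq
  have hA1 : Nat.card A ≠ 1 := fun h => hAne (Subgroup.eq_bot_of_card_eq A h)
  have hqp : q.Prime := Nat.minFac_prime hA1
  haveI : Fact q.Prime := ⟨hqp⟩
  obtain ⟨a, ha⟩ := exists_prime_orderOf_dvd_card' (G := A) q (Nat.minFac_dvd _)
  let B : Subgroup G :=
    { carrier := {u | u ∈ A ∧ u ^ q = 1}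
      one_mem' := ⟨one_mem _, one_pow _⟩
      mul_mem' := fun {u v} hu hv => ⟨mul_mem hu.1 hv.1, by
        have hc : Commute u v := hcomm u hu.1 v hv.1
        rw [hc.mul_pow, hu.2, hv.2, one_mul]⟩
      inv_mem' := fun {u} hu => ⟨inv_mem hu.1, by rw [inv_pow, hu.2, inv_one]⟩ }
  have hBn : B.Normal := ⟨fun u hu g => ⟨hAn.conj_mem u hu.1 g, by
    rw [conj_pow, hu.2, mul_one, mul_inv_cancel]⟩⟩
  have haB : (a : G) ∈ B := ⟨a.2, by rw [← ha, ← Subgroup.coe_pow, pow_orderOf_eq_one]; rfl⟩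
  have hBne : B ≠ ⊥ := by
    intro h
    rw [h, Subgroup.mem_bot] at haB
    rw [show a = 1 from Subtype.ext haB, orderOf_one] at ha
    exact hqp.one_lt.ne ha
  exact ⟨B, q, hBn, hqp, fun u => ⟨1, Subtype.ext (by simpa using u.2.2)⟩, hBne⟩

open scoped Pointwise in
theorem aux : ∀ (n : ℕ) {G : Type*} [Group G] [Finite G] [Group.IsSolvable G],
    Nat.card G ≤ n → ∀ (S : Sylow 2 G) (x : G), x ≠ 1 → Odd (orderOf x) →
      x ∈ Subgroup.normalizer ((S : Subgroup G) : Set G) → ¬ IsConj x x⁻¹ := by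
  intro n
  induction n using Nat.strong_induction_on with
  | _ n ih =>
    intro G _ _ _ hn S x hx hodd hnorm hr
    haveI : Fact (Nat.Prime 2) := ⟨Nat.prime_two⟩
    haveI : Nontrivial G := ⟨⟨x, 1, hx⟩⟩
    obtain ⟨N, q, hNn, hq, hNq, hNne⟩ := exists_normal_pGroup (G := G)
    haveI := hNn
    haveI : Fact q.Prime := ⟨hq⟩
    by_cases hxN : x ∈ N
    · obtain ⟨k, hk⟩ := (IsPGroup.iff_orderOf.mp hNq) ⟨x, hxN⟩
      rw [Subgroup.orderOf_mk] at hk
      have hk0 : k ≠ 0 := by
        rintro rfl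
        exact hx (orderOf_eq_one_iff.mp (by simpa using hk))
      have hq2 : q ≠ 2 := by
        rintro rfl
        rw [hk] at hodd
        exact Nat.not_even_iff_odd.mpr hodd (by simp [Nat.even_pow, hk0])
      have hdis : Disjoint N (S : Subgroup G) := IsPGroup.disjoint_of_ne q 2 hq2 _ _ hNq S.isPGroup'
      have hxS : x ∈ Subgroup.centralizer ((S : Subgroup G) : Set G) := by
        rw [Subgroup.mem_centralizer_iff]
        intro s hs
        have h1 : x * s * x⁻¹ * s⁻¹ ∈ (S : Subgroup G) :=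
          mul_mem ((Subgroup.mem_normalizer_iff.mp hnorm s).mp hs) (inv_mem hs)
        have h2 : x * s * x⁻¹ * s⁻¹ ∈ N := by
          rw [show x * s * x⁻¹ * s⁻¹ = x * (s * x⁻¹ * s⁻¹) by group]
          exact mul_mem hxN (hNn.conj_mem _ (inv_mem hxN) s)
        have h3 := Subgroup.disjoint_def.mp hdis h2 h1
        rw [mul_inv_eq_one, mul_inv_eq_iff_eq_mul] at h3
        exact h3.symm
      have h4 : orderOf x ∣ 2 := orderOf_dvd_of_pow_eq_one (centralizing_real_sq S x hxS hr)
      rcases (Nat.dvd_prime Nat.prime_two).mp h4 with h5 | h5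
      · exact hx (orderOf_eq_one_iff.mp h5)
      · rw [h5] at hodd
        exact absurd hodd (by decide)
    · have hlt : Nat.card (G ⧸ N) < n := by
        refine lt_of_lt_of_le ?_ hn
        rw [Subgroup.card_eq_card_quotient_mul_card_subgroup N]
        exact Nat.lt_mul_iff_one_lt_right Nat.card_pos |>.mpr ((Subgroup.one_lt_card_iff_ne_bot N).mpr hNne)
      have hsurj : Function.Surjective (QuotientGroup.mk' N) := QuotientGroup.mk'_surjective N
      refine ih _ hlt le_rfl (S.mapSurjective hsurj) (x : G ⧸ N) ?_ ?_ ?_ ?_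
      · rwa [Ne, QuotientGroup.eq_one_iff]
      · exact hodd.of_dvd_nat (orderOf_map_dvd (QuotientGroup.mk' N) x)
      · rw [Sylow.coe_mapSurjective]
        exact Subgroup.le_normalizer_map (QuotientGroup.mk' N) ⟨x, hnorm, rfl⟩
      · simpa using MonoidHom.map_isConj (QuotientGroup.mk' N) hr

/-- Let G be a finite solvable group with Sylow 2-subgroup S, and let x ≠ 1 be an element of odd order normalizing S. Then x is not conjugate to its inverse in G. -/
theorem result {G : Type*} [Group G] [Finite G] [Group.IsSolvable G]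
    (S : Sylow 2 G) (x : G) (hx : x ≠ 1) (hodd : Odd (orderOf x))
    (hnorm : x ∈ Subgroup.normalizer ((S : Subgroup G) : Set G)) : ¬ IsConj x x⁻¹ := by
  exact aux _ le_rfl S x hx hodd hnorm

end Cfsg.Agent.S4060
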