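import Cfsg.Statements.S4061
import Cfsg.Agent.Lib.HallTheorem
import Cfsg.Agent.Lib.PermBasic
import Cfsg.Agent.Lib.PGroupsCyclic

set_option autoImplicit false
open Cfsg

namespace Cfsg.Agent.S4061


open Cfsg.Agent.HallCore Cfsg.Agent.HallSolvable
open scoped commutatorElement

theorem conj_pow_odd {G : Type*} [Group G] {g h : G} (hg : g * h * g⁻¹ = h⁻¹) (k : ℕ) :
    g ^ (2 * k + 1) * h * (g ^ (2 * k + 1))⁻¹ = h⁻¹ := by
  induction k with
  | zero => simpa using hg
  | succ k ih =>
    rw [show 2 * (k + 1) + 1 = 2 + (2 * k + 1) by ring, pow_add]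
    have h2 : g * h⁻¹ * g⁻¹ = h := by rw [← conj_inv, hg, inv_inv]
    calc g ^ 2 * g ^ (2 * k + 1) * h * (g ^ 2 * g ^ (2 * k + 1))⁻¹
        = g * (g * (g ^ (2 * k + 1) * h * (g ^ (2 * k + 1))⁻¹) * g⁻¹) * g⁻¹ := by group
      _ = h⁻¹ := by rw [ih, h2, hg]

/-- With trivial odd core the involution is unique. -/
theorem unique_of_oddCore_bot {G : Type*} [Group G] [Finite G] [Group.IsSolvable G]
    (hamb : ∀ x : G, IsConj x x⁻¹)
    (hone : ∀ s t : G, orderOf s = 2 → orderOf t = 2 → IsConj s t)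
    (hcore : Cfsg.pPrimeCore 2 G = ⊥) (s t : G) (hs : orderOf s = 2) (ht : orderOf t = 2) :
    s = t := by
  classical
  haveI : Fact (Nat.Prime 2) := ⟨Nat.prime_two⟩
  by_contra hst
  have : Nontrivial G := ⟨⟨s, t, hst⟩⟩
  obtain ⟨N, hN⟩ := exists_minNormal (G := G)
  haveI := hN.normal
  obtain ⟨p, hp, hel, hpg⟩ := hN.exists_prime
  have hp2 : p = 2 := by
    by_contra hne
    refine hN.ne_bot (le_bot_iff.1 (hcore ▸ le_pPrimeCore ?_))
    haveI : Fact p.Prime := ⟨hp⟩
    obtain ⟨k, hk⟩ := IsPGroup.iff_card.1 hpg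
    rw [hk]
    exact Nat.Coprime.pow_left _ ((Nat.coprime_primes hp Nat.prime_two).2 hne)
  subst hp2
  obtain ⟨n0, hn0, hn1⟩ := N.bot_or_exists_ne_one.resolve_left hN.ne_bot
  have hexp : ∀ a ∈ N, a ≠ 1 → orderOf a = 2 := fun a ha ha1 =>
    orderOf_eq_prime (hel.2 a ha) ha1
  have hinvN : ∀ x : G, orderOf x = 2 → x ∈ N := by
    intro x hx
    obtain ⟨c, hc⟩ := isConj_iff.1 (hone n0 x (hexp n0 hn0 hn1) hx)
    rw [← hc]; exact (inferInstance : N.Normal).conj_mem _ hn0 c
  -- conjugation on the involutions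
  let X := {x : G // orderOf x = 2}
  letI : MulAction G X :=
    { smul := fun g x => ⟨g * x.1 * g⁻¹, by rw [← MulAut.conj_apply, MulEquiv.orderOf_eq]; exact x.2⟩
      one_smul := fun x => Subtype.ext (by show 1 * x.1 * 1⁻¹ = x.1; group)
      mul_smul := fun a b x => Subtype.ext
        (by show a * b * x.1 * (a * b)⁻¹ = a * (b * x.1 * b⁻¹) * a⁻¹; group) }
  have hsm : ∀ (g : G) (x : X), (g • x).1 = g * x.1 * g⁻¹ := fun _ _ => rfl
  have htrans : MulAction.IsPretransitive G X := ⟨fun x y => by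
    obtain ⟨c, hc⟩ := isConj_iff.1 (hone x.1 y.1 x.2 y.2)
    exact ⟨c, Subtype.ext hc⟩⟩
  have hcardX : 1 < Nat.card X :=
    Finite.one_lt_card_iff_nontrivial.2 ⟨⟨⟨s, hs⟩, ⟨t, ht⟩, fun h => hst (congrArg Subtype.val h)⟩⟩
  have hXodd : Odd (Nat.card X) := by
    obtain ⟨k, hk⟩ := IsPGroup.iff_card.1 hpg
    have h1 : Nat.card X + 1 = Nat.card N := by
      let e : X ≃ {a : N // a ≠ 1} :=
        { toFun := fun x => ⟨⟨x.1, hinvN _ x.2⟩, fun h => by
            have hx := x.2
            rw [show x.1 = 1 from congrArg Subtype.val h, orderOf_one] at hx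
            omega⟩
          invFun := fun a => ⟨a.1.1, hexp _ a.1.2 fun h => a.2 (Subtype.ext h)⟩
          left_inv := fun _ => rfl
          right_inv := fun _ => rfl }
      have := Fintype.ofFinite N
      rw [Nat.card_congr e, Nat.card_eq_fintype_card, Nat.card_eq_fintype_card,
        Fintype.card_subtype_compl, Fintype.card_subtype_eq]
      have := Fintype.card_pos (α := N)
      omega
    have hk0 : k ≠ 0 := fun h0 => by rw [hk, h0, pow_zero] at h1; omega
    have h2 : Even (Nat.card N) := by rw [hk]; exact Nat.even_pow.2 ⟨even_two, hk0⟩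
    rw [← h1, Nat.even_add_one, Nat.not_even_iff_odd] at h2
    exact h2
  obtain ⟨H, hH⟩ := Cfsg.Agent.HallTheorem.exists_isPiHall_of_solvable (G := G) ({2}ᶜ : Set ℕ)
  have hHodd : ¬ 2 ∣ Nat.card H := fun h2 => hH.1 2 Nat.prime_two h2 rfl
  have hHidx : ∀ q : ℕ, q.Prime → q ∣ H.index → q = 2 := fun q hq hd => by
    by_contra hne
    exact hH.2 q hq hne hd
  haveI : Nonempty X := ⟨⟨s, hs⟩⟩
  have hHtrans : MulAction.IsPretransitive H X := by
    let x0 : X := ⟨s, hs⟩
    rw [MulAction.isPretransitive_iff_orbit_eq_univ (a := x0)]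
    have hGx : (MulAction.stabilizer G x0).index = Nat.card X := by
      rw [MulAction.index_stabilizer, MulAction.orbit_eq_univ G x0, Set.ncard_univ]
    have hco : ((MulAction.stabilizer G x0).index).Coprime H.index := by
      rw [hGx]
      refine Nat.coprime_of_dvd fun q hq h1 h2 => ?_
      exact (Nat.not_even_iff_odd.2 hXodd) (even_iff_two_dvd.2 (hHidx q hq h2 ▸ h1))
    have h1 : (MulAction.stabilizer G x0).index * H.index ∣ (MulAction.stabilizer G x0 ⊓ H).index :=
      hco.mul_dvd_of_dvd_of_dvd (Subgroup.index_dvd_of_le inf_le_left)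
        (Subgroup.index_dvd_of_le inf_le_right)
    have h2 : (MulAction.stabilizer G x0).relIndex H = Nat.card X := by
      have h3 := Subgroup.relIndex_mul_index (inf_le_right : MulAction.stabilizer G x0 ⊓ H ≤ H)
      rw [Subgroup.inf_relIndex_right] at h3
      refine le_antisymm ?_ ?_
      · have h4 := Subgroup.index_inf_le (H := MulAction.stabilizer G x0) (K := H)
        rw [← h3, hGx] at h4
        exact Nat.le_of_mul_le_mul_right h4 (Nat.pos_of_ne_zero Subgroup.index_ne_zero_of_finite)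
      · rw [← h3, hGx] at h1
        exact Nat.le_of_dvd (Nat.pos_of_ne_zero Subgroup.index_ne_zero_of_finite)
          (Nat.dvd_of_mul_dvd_mul_right (Nat.pos_of_ne_zero Subgroup.index_ne_zero_of_finite) h1)
    have h5 : (MulAction.stabilizer H x0) = (MulAction.stabilizer G x0).subgroupOf H := by
      ext g; rfl
    have h6 : Set.ncard (MulAction.orbit H x0) = Nat.card X := by
      rw [← MulAction.index_stabilizer, h5, ← h2]; rfl
    exact Set.eq_of_subset_of_ncard_le (Set.subset_univ _) (by rw [h6, Set.ncard_univ])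
  obtain ⟨⟨h, hhH⟩, hfix⟩ := Cfsg.Agent.PermBasic.exists_derangement (G := H) (X := X) hcardX
  have hfix' : ∀ x : G, orderOf x = 2 → ¬ Commute h x := by
    intro x hx hc
    refine hfix ⟨x, hx⟩ (Subtype.ext ?_)
    show h * x * h⁻¹ = x
    rw [hc.eq, mul_inv_cancel_right]
  have hhodd : Odd (orderOf h) := by
    rw [← Nat.not_even_iff_odd, even_iff_two_dvd]
    exact fun h2 => hHodd (h2.trans (by
      rw [← Subgroup.orderOf_mk h hhH]; exact orderOf_dvd_natCard _))
  obtain ⟨g0, hg0⟩ := isConj_iff.1 (hamb h)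
  obtain ⟨e, q, hq, hfac⟩ := Nat.exists_eq_two_pow_mul_odd (orderOf_pos g0).ne'
  obtain ⟨k, rfl⟩ := hq
  set g := g0 ^ (2 * k + 1) with hgdef
  have hg : g * h * g⁻¹ = h⁻¹ := conj_pow_odd hg0 k
  have hg2 : g ^ 2 ^ e = 1 := by
    rw [hgdef, ← pow_mul, mul_comm, ← hfac, pow_orderOf_eq_one]
  have hcom : Commute (g ^ 2) h := by
    have h1 : g * h⁻¹ * g⁻¹ = h := by rw [← conj_inv, hg, inv_inv]
    have : g ^ 2 * h * (g ^ 2)⁻¹ = h := by
      calc g ^ 2 * h * (g ^ 2)⁻¹ = g * (g * h * g⁻¹) * g⁻¹ := by rw [pow_two]; group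
        _ = h := by rw [hg, h1]
    exact mul_inv_eq_iff_eq_mul.1 this
  have hgsq : g ^ 2 = 1 := by
    by_contra hne
    have hord : ∃ j, orderOf (g ^ 2) = 2 ^ (j + 1) := by
      have hdvd : orderOf (g ^ 2) ∣ 2 ^ e :=
        orderOf_dvd_of_pow_eq_one (by rw [pow_right_comm, hg2, one_pow])
      obtain ⟨j, -, hj⟩ := (Nat.dvd_prime_pow Nat.prime_two).1 hdvd
      rcases j with _ | j
      · exact absurd (orderOf_eq_one_iff.1 (by simpa using hj)) hne
      · exact ⟨j, hj⟩
    obtain ⟨j, hj⟩ := hord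
    refine hfix' ((g ^ 2) ^ 2 ^ j) ?_ (hcom.pow_left _).symm
    rw [orderOf_pow' _ (pow_pos two_pos j).ne', hj,
      Nat.gcd_eq_right (pow_dvd_pow 2 (Nat.le_succ j)), pow_succ,
      Nat.mul_div_cancel_left _ (pow_pos two_pos j)]
  -- `g` lies in `N`, so `h ^ 2` does as well
  have hgN : g ∈ N := by
    by_cases hg1 : g = 1
    · rw [hg1]; exact one_mem N
    · exact hinvN g (orderOf_eq_prime hgsq hg1)
  have hh2 : h ^ 2 ∈ N := by
    have h1 : (g * h * g⁻¹) * h⁻¹ ∈ N := by
      rw [show g * h * g⁻¹ * h⁻¹ = g * (h * g⁻¹ * h⁻¹) by group]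
      exact mul_mem hgN ((inferInstance : N.Normal).conj_mem _ (inv_mem hgN) h)
    rw [hg, ← pow_two, inv_pow] at h1
    exact inv_mem_iff.1 h1
  have h4 : h ^ 4 = 1 := by
    rw [show (4 : ℕ) = 2 * 2 from rfl, pow_mul]; exact hel.2 _ hh2
  have hh1 : h = 1 := by
    have hd : orderOf h ∣ 2 ^ 2 := orderOf_dvd_of_pow_eq_one h4
    obtain ⟨i, -, hi⟩ := (Nat.dvd_prime_pow Nat.prime_two).1 hd
    rcases i with _ | i
    · exact orderOf_eq_one_iff.1 hi
    · rw [hi, pow_succ] at hhodd
      exact absurd hhodd (Nat.not_odd_iff_even.2 (even_two.mul_left _))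
  exact hfix' s hs (by rw [hh1]; exact Commute.one_left s)

theorem lift_involution {G : Type*} [Group G] [Finite G] (K : Subgroup G) [K.Normal]
    (hK : Odd (Nat.card K)) (x : G ⧸ K) (hx : orderOf x = 2) :
    ∃ y : G, orderOf y = 2 ∧ (y : G ⧸ K) = x := by
  obtain ⟨a, rfl⟩ := QuotientGroup.mk_surjective x
  obtain ⟨e, q, hq, hfac⟩ := Nat.exists_eq_two_pow_mul_odd (orderOf_pos a).ne'
  obtain ⟨k, rfl⟩ := hq
  set y := a ^ (2 * k + 1)
  have hy : (y : G ⧸ K) = (a : G ⧸ K) := by
    have h2 : (a : G ⧸ K) ^ 2 = 1 := hx ▸ pow_orderOf_eq_one _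
    rw [QuotientGroup.mk_pow, pow_succ, pow_mul, h2, one_pow, one_mul]
  have hy2 : y ^ 2 = 1 := by
    have h1 : y ^ 2 ∈ K := by
      rw [← QuotientGroup.eq_one_iff, QuotientGroup.mk_pow, hy, ← hx, pow_orderOf_eq_one]
    have h2 : orderOf (y ^ 2) ∣ Nat.card K := by
      rw [← Subgroup.orderOf_mk (y ^ 2) h1]; exact orderOf_dvd_natCard _
    have h3 : orderOf (y ^ 2) ∣ 2 ^ e :=
      orderOf_dvd_of_pow_eq_one (by
        rw [← pow_mul, ← pow_mul, show (2 * k + 1) * (2 * 2 ^ e) = 2 ^ e * (2 * k + 1) * 2 by ring,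
          pow_mul, ← hfac, pow_orderOf_eq_one, one_pow])
    exact orderOf_eq_one_iff.1 (Nat.eq_one_of_dvd_coprimes
      ((Nat.coprime_two_right.2 hK).pow_right e) h2 h3)
  refine ⟨y, orderOf_eq_prime hy2 fun h1 => ?_, hy⟩
  rw [h1, QuotientGroup.mk_one] at hy
  rw [← hy, orderOf_one] at hx
  omega

/-- Let G be a finite solvable group of even order in which every element is conjugate to its inverse and all involutions are conjugate. Then a Sylow 2-subgroup S of G has order 2 or is a generalized quaternion group (of order at least 8). Moreover, if S has order 2, then G is the semidirect product of its largest normal subgroup of odd order O(G) by S, O(G) equals the derived subgroup of G, and the involution of S inverts every element of O(G). -/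
theorem result {G : Type*} [Group G] [Finite G] [Group.IsSolvable G]
    (hamb : ∀ x : G, IsConj x x⁻¹) (heven : 2 ∣ Nat.card G) (hone : ∀ s t : G, orderOf s = 2 → orderOf t = 2 → IsConj s t) (S : Sylow 2 G) :
    (Nat.card S = 2 ∨ ∃ n : ℕ, Nonempty ((S : Subgroup G) ≃* QuaternionGroup (2 ^ (n + 1)))) ∧
    (Nat.card S = 2 → (S : Subgroup G).IsComplement' (Cfsg.oddCore G) ∧ Cfsg.oddCore G = commutator G ∧
        ∀ t : G, t ∈ S → t ≠ 1 → ∀ x : G, x ∈ Cfsg.oddCore G → t * x * t⁻¹ = x⁻¹) := by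
  classical
  haveI : Fact (Nat.Prime 2) := ⟨Nat.prime_two⟩
  set K := Cfsg.oddCore G with hKdef
  haveI hKn : K.Normal := pPrimeCore_normal 2 G
  have hKodd : Odd (Nat.card K) := Nat.coprime_two_right.1 (coprime_card_pPrimeCore 2 G)
  have hSK : ∀ x : G, x ∈ (S : Subgroup G) → x ∈ K → x = 1 := fun x hxS hxK => by
    obtain ⟨k, hk⟩ := IsPGroup.iff_orderOf.1 S.2 ⟨x, hxS⟩
    rw [Subgroup.orderOf_mk] at hk
    refine orderOf_eq_one_iff.1 (Nat.eq_one_of_dvd_coprimes
      ((Nat.coprime_two_right.2 hKodd).pow_right k) ?_ (dvd_of_eq hk))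
    rw [← Subgroup.orderOf_mk x hxK]; exact orderOf_dvd_natCard _
  have hambQ : ∀ x : G ⧸ K, IsConj x x⁻¹ := fun x => by
    obtain ⟨a, rfl⟩ := QuotientGroup.mk_surjective x
    exact (QuotientGroup.mk' K).map_isConj (hamb a)
  have honeQ : ∀ s t : G ⧸ K, orderOf s = 2 → orderOf t = 2 → IsConj s t := fun s t hs ht => by
    obtain ⟨a, ha, rfl⟩ := lift_involution K hKodd s hs
    obtain ⟨b, hb, rfl⟩ := lift_involution K hKodd t ht
    exact (QuotientGroup.mk' K).map_isConj (hone a b ha hb)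
  have hcoreQ : Cfsg.pPrimeCore 2 (G ⧸ K) = ⊥ := by
    rw [eq_bot_iff]
    intro x hx
    obtain ⟨a, rfl⟩ := QuotientGroup.mk_surjective x
    haveI : (Cfsg.pPrimeCore 2 (G ⧸ K)).Normal := pPrimeCore_normal 2 _
    have hle : (Cfsg.pPrimeCore 2 (G ⧸ K)).comap (QuotientGroup.mk' K) ≤ K := by
      refine le_pPrimeCore ?_
      set M := (Cfsg.pPrimeCore 2 (G ⧸ K)).comap (QuotientGroup.mk' K)
      have hc : Nat.card M = Nat.card (Cfsg.pPrimeCore 2 (G ⧸ K)) * Nat.card K := by
        have h1 := QuotientGroup.preimageMkEquivSubgroupProdSet K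
          ((Cfsg.pPrimeCore 2 (G ⧸ K)) : Set (G ⧸ K))
        rw [mul_comm, ← Nat.card_prod]
        exact Nat.card_congr h1
      rw [hc]
      exact (coprime_card_pPrimeCore 2 _).mul_left (Nat.coprime_two_right.2 hKodd)
    exact Subgroup.mem_bot.2 ((QuotientGroup.eq_one_iff a).2 (hle hx))
  have huniq : ∀ s t : G, s ∈ (S : Subgroup G) → t ∈ (S : Subgroup G) →
      orderOf s = 2 → orderOf t = 2 → s = t := by
    intro s t hsS htS hs ht
    have h1 : ∀ u : G, u ∈ (S : Subgroup G) → orderOf u = 2 → orderOf (u : G ⧸ K) = 2 := by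
      intro u huS hu
      refine orderOf_eq_prime (by rw [← QuotientGroup.mk_pow, ← hu, pow_orderOf_eq_one,
        QuotientGroup.mk_one]) fun h => ?_
      rw [hSK u huS ((QuotientGroup.eq_one_iff u).1 h), orderOf_one] at hu
      omega
    have := unique_of_oddCore_bot hambQ honeQ hcoreQ _ _ (h1 s hsS hs) (h1 t htS ht)
    exact inv_mul_eq_one.1 (hSK _ (mul_mem (inv_mem hsS) htS) (QuotientGroup.eq.1 this))
  have hSne : 1 < Nat.card (S : Subgroup G) := by
    obtain ⟨k, hk⟩ := IsPGroup.iff_card.1 S.2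
    have h2 : 2 ∣ Nat.card (S : Subgroup G) := S.dvd_card_of_dvd_card heven
    exact Nat.le_of_dvd Nat.card_pos h2
  have hcycCase : IsCyclic (S : Subgroup G) → Nat.card (S : Subgroup G) = 2 := by
    intro hcyc
    obtain ⟨x, hx⟩ := isCyclic_iff_exists_zpowers_eq_top.1 hcyc
    have hcomm : IsMulCommutative (S : Subgroup G) := inferInstance
    have hcc : ∀ y : G, y ∈ (S : Subgroup G) →
        y ∈ Subgroup.centralizer ((S : Subgroup G) : Set G) := fun y hy =>
      Subgroup.mem_centralizer_iff.2 fun z hz =>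
        congrArg Subtype.val (hcomm.is_comm.comm (⟨z, hz⟩ : (S : Subgroup G)) ⟨y, hy⟩)
    obtain ⟨g, hg⟩ := isConj_iff.1 (hamb x.1)
    obtain ⟨m, hm, hmx⟩ := Sylow.conj_eq_normalizer_conj_of_mem_centralizer S x.1 g⁻¹
      (hcc _ x.2) (by rw [inv_inv, hg]; exact hcc _ (inv_mem x.2))
    rw [inv_inv, hg] at hmx
    have hmC : m ∈ Subgroup.centralizer ((S : Subgroup G) : Set G) := by
      have hmin : (Nat.card G).minFac = 2 := by rw [Nat.minFac_eq_two_iff]; exact heven
      exact hcyc.normalizer_le_centralizer hmin hm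
    have hxx : m⁻¹ * x.1 * m = x.1 := by
      have hc2 := Subgroup.mem_centralizer_iff.1 hmC x.1 x.2
      rw [mul_assoc, hc2, inv_mul_cancel_left]
    rw [hxx] at hmx
    have h2 : orderOf x ∣ 2 := orderOf_dvd_of_pow_eq_one (Subtype.ext (by
      show x.1 ^ 2 = 1; rw [pow_two]; nth_rewrite 1 [← hmx]; exact inv_mul_cancel _))
    have h3 : Nat.card (S : Subgroup G) ∣ 2 := by
      rw [← Subgroup.card_top, ← hx, Nat.card_zpowers]; exact h2
    rcases (Nat.dvd_prime Nat.prime_two).1 h3 with h | h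
    · omega
    · exact h
  refine ⟨?_, fun hS2 => ?_⟩
  · rcases Cfsg.Agent.PGroupsCyclic.isCyclic_or_quaternion S.2 (fun H L hH hL => by
      haveI : Fact (Nat.Prime 2) := ⟨Nat.prime_two⟩
      obtain ⟨a, ha⟩ := isCyclic_iff_exists_zpowers_eq_top.1 (isCyclic_of_prime_card (α := H) hH)
      obtain ⟨b, hb⟩ := isCyclic_iff_exists_zpowers_eq_top.1 (isCyclic_of_prime_card (α := L) hL)
      have oa : orderOf ((a : S) : G) = 2 := by
        rw [Subgroup.orderOf_coe, Subgroup.orderOf_coe, ← Nat.card_zpowers, ha, Subgroup.card_top, hH]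
      have ob : orderOf ((b : S) : G) = 2 := by
        rw [Subgroup.orderOf_coe, Subgroup.orderOf_coe, ← Nat.card_zpowers, hb, Subgroup.card_top, hL]
      have hab : (a : S) = (b : S) := Subtype.ext (huniq _ _ (a : S).2 (b : S).2 oa ob)
      have hz : ∀ (M : Subgroup S) (c : M), Subgroup.zpowers c = ⊤ →
          M = Subgroup.zpowers (c : S) := by
        intro M c hc
        have h0 : M = (Subgroup.zpowers c).map M.subtype := by
          rw [hc, ← MonoidHom.range_eq_map, Subgroup.range_subtype]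
        rw [MonoidHom.map_zpowers] at h0
        exact h0
      rw [hz H a ha, hz L b hb, hab]) with hcyc | ⟨-, n, ⟨f⟩⟩
    · exact Or.inl (hcycCase hcyc)
    · rcases n with _ | n
      · left
        have h4 : Nat.card (S : Subgroup G) = 4 := by
          rw [Nat.card_congr f.toEquiv, pow_zero, Nat.card_eq_fintype_card, QuaternionGroup.card, mul_one]
        have hcyc : IsCyclic (S : Subgroup G) := by
          haveI : IsCyclic (QuaternionGroup (2 ^ 0)) := QuaternionGroup.quaternionGroup_one_isCyclic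
          exact isCyclic_of_surjective f.symm f.symm.surjective
        exact absurd (hcycCase hcyc) (by omega)
      · exact Or.inr ⟨n, ⟨f⟩⟩
  · have hmin : (Nat.card G).minFac = 2 := by rw [Nat.minFac_eq_two_iff]; exact heven
    have hcyc : IsCyclic (S : Subgroup G) := isCyclic_of_prime_card (p := 2) hS2
    have hcompl := MonoidHom.ker_transferSylow_isComplement' S
      (hcyc.normalizer_le_centralizer hmin)
    set K0 := (MonoidHom.transferSylow S (hcyc.normalizer_le_centralizer hmin)).ker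
    have hK0le : K0 ≤ K := le_pPrimeCore (by
      rw [Nat.coprime_two_right, Nat.odd_iff]
      have h2 := MonoidHom.not_dvd_card_ker_transferSylow S (hcyc.normalizer_le_centralizer hmin)
      change ¬ 2 ∣ Nat.card K0 at h2
      omega)
    have hKK : K0 = K := by
      refine Subgroup.eq_of_le_of_card_ge hK0le ?_
      obtain ⟨c, hc⟩ := Subgroup.card_dvd_of_le hK0le
      have h1 : Nat.card K ∣ Nat.card K0 * 2 := by
        rw [← hS2, hcompl.card_mul]; exact Subgroup.card_subgroup_dvd_card K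
      exact Nat.le_of_dvd Nat.card_pos ((Nat.coprime_two_right.2 hKodd).dvd_of_dvd_mul_right h1)
    rw [hKK] at hcompl
    refine ⟨hcompl.symm, ?_, ?_⟩
    · refine le_antisymm (fun x hx => ?_) ?_
      · obtain ⟨c, hc⟩ := isConj_iff.1 (hamb x)
        have h2 : x ^ 2 ∈ commutator G := by
          have : ⁅c, x⁆ = x⁻¹ * x⁻¹ := by rw [commutatorElement_def, hc]
          have hm : ⁅c, x⁆ ∈ commutator G :=
            Subgroup.commutator_mem_commutator (Subgroup.mem_top c) (Subgroup.mem_top x)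
          rw [this] at hm
          have := inv_mem hm
          rwa [mul_inv_rev, inv_inv, ← pow_two] at this
        have hox : Odd (orderOf x) := hKodd.of_dvd_nat (by
          rw [← Subgroup.orderOf_mk x hx]; exact orderOf_dvd_natCard _)
        obtain ⟨j, hj⟩ := hox
        have : x = (x ^ 2) ^ (j + 1) := by
          rw [← pow_mul, show 2 * (j + 1) = orderOf x + 1 by omega, pow_succ, pow_orderOf_eq_one,
            one_mul]
        rw [this]; exact pow_mem h2 _
      · have hidx : K.index = 2 := by rw [hcompl.symm.index_eq_card, hS2]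
        have : IsCyclic (G ⧸ K) := isCyclic_of_prime_card (p := 2) hidx
        rw [commutator_def, Subgroup.commutator_le]
        intro a _ b _
        rw [← QuotientGroup.eq_one_iff, ← QuotientGroup.mk'_apply, map_commutatorElement,
          commutatorElement_eq_one_iff_mul_comm]
        exact Std.Commutative.comm (self := (IsCyclic.isMulCommutative).is_comm) _ _
    · intro t htS ht1 x hx
      have ht2 : t * t = 1 := by
        have h2 : (⟨t, htS⟩ : (S : Subgroup G)) ^ Nat.card (S : Subgroup G) = 1 := pow_card_eq_one'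
        rw [hS2] at h2
        rw [← pow_two]; exact congrArg Subtype.val h2
      have htinv : t⁻¹ = t := inv_eq_of_mul_eq_one_right ht2
      let φ : K →* K :=
        { toFun := fun z => ⟨t * z.1 * t⁻¹, hKn.conj_mem _ z.2 t⟩
          map_one' := Subtype.ext (by simp)
          map_mul' := fun y z => Subtype.ext
            (show t * (y.1 * z.1) * t⁻¹ = t * y.1 * t⁻¹ * (t * z.1 * t⁻¹) by group) }
      have hfpf : MonoidHom.FixedPointFree φ := by
        intro z hz
        have hz' : t * z.1 * t⁻¹ = z.1 := congrArg Subtype.val hz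
        obtain ⟨g, hg⟩ := isConj_iff.1 (hamb z.1)
        obtain ⟨k, hk, hkg⟩ : ∃ k ∈ K, k * z.1 * k⁻¹ = z.1⁻¹ := by
          by_cases hgK : g ∈ K
          · exact ⟨g, hgK, hg⟩
          · refine ⟨g * t, ?_, ?_⟩
            · have hidx : K.index = 2 := by rw [hcompl.symm.index_eq_card, hS2]
              rw [Subgroup.mul_mem_iff_of_index_two hidx]
              exact iff_of_false hgK fun htK => ht1 (hSK t htS htK)
            · calc g * t * z.1 * (g * t)⁻¹ = g * (t * z.1 * t⁻¹) * g⁻¹ := by group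
                _ = z.1⁻¹ := by rw [hz', hg]
        have hok : Odd (orderOf k) := hKodd.of_dvd_nat (by
          rw [← Subgroup.orderOf_mk k hk]; exact orderOf_dvd_natCard _)
        obtain ⟨j, hj⟩ := hok
        have h1 := conj_pow_odd hkg j
        rw [← hj, pow_orderOf_eq_one, one_mul, inv_one, mul_one] at h1
        have h2 : z ^ 2 = 1 := Subtype.ext (by
          show z.1 ^ 2 = 1; rw [pow_two]; nth_rewrite 1 [h1]; exact inv_mul_cancel _)
        exact orderOf_eq_one_iff.1 (Nat.eq_one_of_dvd_coprimes (Nat.coprime_two_right.2 hKodd)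
          (orderOf_dvd_natCard z) (orderOf_dvd_of_pow_eq_one h2))
      have hinv : Function.Involutive φ := fun z => Subtype.ext (by
        show t * (t * z.1 * t⁻¹) * t⁻¹ = z.1
        rw [show t * (t * z.1 * t⁻¹) * t⁻¹ = (t * t) * z.1 * (t * t)⁻¹ by group, ht2]; group)
      exact congrArg Subtype.val (congrFun (hfpf.coe_eq_inv_of_involutive hinv) ⟨x, hx⟩)

end Cfsg.Agent.S4061
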