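import Cfsg.Statements.S4062
import Mathlib
import Cfsg.Agent.Lib.HallSolvable
import Cfsg.Agent.Lib.CoprimeLift

set_option autoImplicit false
open Cfsg

namespace Cfsg.Agent.S4062

open Cfsg.Agent
open scoped commutatorElement

universe u

/-- All elements of equal order are conjugate. -/
def EqOrdConj (G : Type u) [Group G] : Prop := ∀ x y : G, orderOf x = orderOf y → IsConj x y

theorem quotient_eqOrdConj {G : Type u} [Group G] [Finite G] (h : EqOrdConj G) (N : Subgroup G) [N.Normal]
    {p : ℕ} [Fact p.Prime] (hN : Cfsg.IsElementaryAbelian p N) (hNp : IsPGroup p N)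
    (hall : ∀ x : G, orderOf x = p → x ∈ N) : EqOrdConj (G ⧸ N) := by
  have hp : p.Prime := Fact.out
  intro a b hab
  obtain ⟨e, he⟩ := IsPGroup.iff_card.mp hNp
  have hlift : ∀ y : G ⧸ N, ∃ x : G, (x : G ⧸ N) = y ∧
      orderOf x = if p ∣ orderOf y then p * orderOf y else orderOf y := by
    intro y
    by_cases hpy : p ∣ orderOf y
    · obtain ⟨x, rfl⟩ := QuotientGroup.mk_surjective y
      refine ⟨x, rfl, ?_⟩
      rw [if_pos hpy]
      set m := orderOf (x : G ⧸ N)
      have h1 : x ^ m ∈ N := by
        rw [← QuotientGroup.eq_one_iff, QuotientGroup.mk_pow, pow_orderOf_eq_one]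
      have hm : m ∣ orderOf x := orderOf_map_dvd (QuotientGroup.mk' N) x
      have h2 : orderOf x ∣ p * m := by
        rw [orderOf_dvd_iff_pow_eq_one, mul_comm, pow_mul]
        exact hN.2 _ h1
      obtain ⟨c, hc⟩ := hm
      have hm0 : 0 < m := orderOf_pos _
      rw [hc, mul_comm p] at h2
      rcases (Nat.dvd_prime hp).mp (Nat.dvd_of_mul_dvd_mul_left hm0 h2) with h3 | h3
      · exfalso
        rw [h3, mul_one] at hc
        obtain ⟨d, hd⟩ := hpy
        have hd0 : d ≠ 0 := by rintro rfl; rw [mul_zero] at hd; omega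
        have h5 : orderOf (x ^ d) = p := by
          rw [orderOf_pow_of_dvd hd0 (by rw [hc, hd]; exact dvd_mul_left d p), hc, hd,
            Nat.mul_div_cancel _ (Nat.pos_of_ne_zero hd0)]
        have h6 := (QuotientGroup.eq_one_iff _).mpr (hall _ h5)
        rw [QuotientGroup.mk_pow, ← orderOf_dvd_iff_pow_eq_one] at h6
        have h7 := Nat.le_of_dvd (Nat.pos_of_ne_zero hd0) h6
        have h8 : d * 2 ≤ d * p := Nat.mul_le_mul_left d hp.two_le
        rw [mul_comm p] at hd
        omega
      · rw [hc, h3, mul_comm]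
    · rw [if_neg hpy]
      exact CoprimeLift.exists_lift_coprime N y (by
        rw [he]; exact Nat.Coprime.pow_right _ (Nat.coprime_comm.mp ((Nat.Prime.coprime_iff_not_dvd hp).mpr hpy)))
  obtain ⟨x, rfl, hx⟩ := hlift a
  obtain ⟨y, rfl, hy⟩ := hlift b
  have := h x y (by rw [hx, hy, hab])
  simpa using MonoidHom.map_isConj (QuotientGroup.mk' N) this

theorem card_le_two_of_comm {G : Type u} [Group G] [Finite G] (h : EqOrdConj G) (hc : ∀ a b : G, a * b = b * a) :
    Nat.card G = 1 ∨ Nat.card G = 2 := by
  have heq : ∀ x y : G, orderOf x = orderOf y → x = y := by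
    intro x y hxy
    obtain ⟨c, hc'⟩ := isConj_iff.mp (h x y hxy)
    rwa [hc c x, mul_inv_cancel_right] at hc'
  have hinv : ∀ x : G, x ^ 2 = 1 := fun x => by
    rw [sq]
    nth_rewrite 2 [heq x x⁻¹ (orderOf_inv x).symm]
    exact mul_inv_cancel x
  by_cases hx : ∃ x : G, x ≠ 1
  · right
    obtain ⟨x, hx⟩ := hx
    rw [Nat.card_eq_two_iff' 1]
    exact ⟨x, hx, fun y hy => heq y x ((orderOf_eq_prime (hinv y) hy).trans (orderOf_eq_prime (hinv x) hx).symm)⟩
  · left
    push Not at hx
    exact Nat.card_eq_one_iff_unique.mpr ⟨⟨fun a b => (hx a).trans (hx b).symm⟩, ⟨1⟩⟩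

theorem iso_s3 {G : Type u} [Group G] [Finite G] (hcard : Nat.card G = 6) (hnc : ¬ ∀ a b : G, a * b = b * a) :
    Nonempty (G ≃* Equiv.Perm (Fin 3)) := by
  haveI : Fact (Nat.Prime 2) := ⟨Nat.prime_two⟩
  obtain ⟨a, ha⟩ := exists_prime_orderOf_dvd_card' (G := G) 2 (by rw [hcard]; norm_num)
  set H := Subgroup.zpowers a with hH
  have hHc : Nat.card H = 2 := by rw [hH, Nat.card_zpowers, ha]
  have hidx : H.index = 3 := by
    have := H.card_mul_index
    rw [hHc, hcard] at this
    omega
  have hinj : Function.Injective (MulAction.toPermHom G (G ⧸ H)) := by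
    rw [← MonoidHom.ker_eq_bot_iff, ← Subgroup.normalCore_eq_ker]
    by_contra hne
    apply hnc
    have hle : H.normalCore ≤ H := Subgroup.normalCore_le H
    have hcd := Subgroup.card_dvd_of_le hle
    rw [hHc] at hcd
    rcases (Nat.dvd_prime Nat.prime_two).mp hcd with h1 | h1
    · exact absurd (Subgroup.eq_bot_of_card_eq _ h1) hne
    · have heq := Subgroup.eq_of_le_of_card_ge hle (by rw [h1, hHc])
      have hn : H.Normal := heq ▸ Subgroup.normalCore_normal H
      have hac : ∀ g : G, g * a = a * g := by
        intro g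
        obtain ⟨z, -, hz⟩ := (Nat.card_eq_two_iff' (1 : H)).mp hHc
        have ha1 : a ≠ 1 := by rintro rfl; simp at ha
        have e1 := hz ⟨a, Subgroup.mem_zpowers a⟩ (fun h => ha1 (congrArg Subtype.val h))
        have e2 := hz ⟨g * a * g⁻¹, hn.conj_mem a (Subgroup.mem_zpowers a) g⟩ (fun h => ha1 (by
          have := congrArg Subtype.val h
          simpa using this))
        exact mul_inv_eq_iff_eq_mul.mp (congrArg Subtype.val (e2.trans e1.symm))
      have hc : IsCyclic (G ⧸ H) := by
        haveI := hn
        haveI : Fact (Nat.Prime 3) := ⟨Nat.prime_three⟩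
        exact isCyclic_of_prime_card (p := 3) hidx
      haveI := hn
      haveI := hc
      intro u v
      exact ((QuotientGroup.mk' H).isMulCommutative_of_isCyclic_of_ker_le_center (by
        rw [QuotientGroup.ker_mk', hH, Subgroup.zpowers_le]
        exact Subgroup.mem_center_iff.mpr hac)).is_comm.comm u v
  haveI : Fintype (G ⧸ H) := Fintype.ofFinite _
  have h3 : Fintype.card (G ⧸ H) = 3 := by rw [← Nat.card_eq_fintype_card, ← Subgroup.index, hidx]
  let φ : G →* Equiv.Perm (Fin 3) := (Fintype.equivFinOfCardEq h3).permCongrHom.toMonoidHom.comp (MulAction.toPermHom G (G ⧸ H))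
  refine ⟨MulEquiv.ofBijective φ ((Nat.bijective_iff_injective_and_card φ).mpr ⟨?_, ?_⟩)⟩
  · exact (Fintype.equivFinOfCardEq h3).permCongrHom.injective.comp hinj
  · rw [hcard, Nat.card_eq_fintype_card, Fintype.card_perm, Fintype.card_fin]; rfl

theorem main : ∀ (n : ℕ) (G : Type u) [Group G] [Finite G] [Group.IsSolvable G], Nat.card G ≤ n → EqOrdConj G →
    Nat.card G = 1 ∨ Nat.card G = 2 ∨ Nonempty (G ≃* Equiv.Perm (Fin 3)) := by
  intro n
  induction n using Nat.strong_induction_on with
  | _ n ih =>
    intro G _ _ _ hn h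
    by_cases hc : ∀ a b : G, a * b = b * a
    · rcases card_le_two_of_comm h hc with h1 | h1
      · exact Or.inl h1
      · exact Or.inr (Or.inl h1)
    haveI : Nontrivial G := by
      by_contra hh
      rw [not_nontrivial_iff_subsingleton] at hh
      exact hc fun a b => Subsingleton.elim _ _
    obtain ⟨N, hN⟩ := HallSolvable.exists_minNormal (G := G)
    haveI := hN.normal
    obtain ⟨p, hp, hel, hNp⟩ := hN.exists_prime
    haveI : Fact p.Prime := ⟨hp⟩
    obtain ⟨z, hz, hz1⟩ := (Subgroup.bot_or_exists_ne_one N).resolve_left hN.ne_bot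
    have hzo : orderOf z = p := orderOf_eq_prime (hel.2 z hz) hz1
    have hall : ∀ x : G, orderOf x = p → x ∈ N := by
      intro x hx
      obtain ⟨c, hc⟩ := isConj_iff.mp (h z x (hzo.trans hx.symm))
      rw [← hc]
      exact hN.normal.conj_mem z hz c
    have hNne : N.index * Nat.card N = Nat.card G := Subgroup.index_mul_card N
    set C := Subgroup.centralizer ({z} : Set G) with hC
    have hNC : N ≤ C := fun u hu => Subgroup.mem_centralizer_singleton_iff.mpr
      (congrArg Subtype.val (hel.1.is_comm.comm (⟨u, hu⟩ : N) ⟨z, hz⟩))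
    have horb : C.index = Nat.card N - 1 := by
      have h2 := MulAction.index_stabilizer (ConjAct G) z
      rw [ConjAct.stabilizer_eq_centralizer] at h2
      have h3 : MulAction.orbit (ConjAct G) z = (N : Set G) \ {1} := by
        ext w
        rw [ConjAct.mem_orbit_conjAct]
        constructor
        · intro hw
          obtain ⟨c, hc⟩ := isConj_iff.mp hw.symm
          rw [← hc]
          exact ⟨hN.normal.conj_mem z hz c, by simpa using hz1⟩
        · rintro ⟨hw, hw1⟩
          exact (h z w (hzo.trans (orderOf_eq_prime (hel.2 w hw) (by simpa using hw1)).symm)).symm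
      calc C.index = (MulAction.orbit (ConjAct G) z).ncard := h2
        _ = _ := by rw [h3, Set.ncard_sdiff (by simp), Set.ncard_singleton, ← Nat.card_coe_set_eq]; rfl
    have hdvd : Nat.card N - 1 ∣ N.index := horb ▸ Subgroup.index_dvd_of_le hNC
    have hlt : Nat.card (G ⧸ N) < n := lt_of_lt_of_le (HallSolvable.card_quotient_lt hN.ne_bot) hn
    have hN2 : 2 ≤ Nat.card N := (N.one_lt_card_iff_ne_bot.mpr hN.ne_bot)
    obtain ⟨e, he⟩ := IsPGroup.iff_card.mp hNp
    rcases ih _ hlt (G ⧸ N) le_rfl (quotient_eqOrdConj h N hel hNp hall) with hQ | hQ | ⟨⟨φ⟩⟩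
    · -- `G = N` is abelian
      exfalso
      rw [← Subgroup.index, Subgroup.index_eq_one] at hQ
      exact hc fun a b => congrArg Subtype.val (hel.1.is_comm.comm (⟨a, hQ ▸ Subgroup.mem_top a⟩ : N) ⟨b, hQ ▸ Subgroup.mem_top b⟩)
    · rw [← Subgroup.index] at hQ
      rw [hQ] at hdvd
      have h3 : Nat.card N ≤ 3 := by have := Nat.le_of_dvd two_pos hdvd; omega
      rcases (show Nat.card N = 2 ∨ Nat.card N = 3 by omega) with h4 | h4
      · exfalso
        refine hc (IsPGroup.commutative_of_card_eq_prime_sq (p := 2) ?_)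
        rw [← hNne, hQ, h4]; norm_num
      · exact Or.inr (Or.inr (iso_s3 (by rw [← hNne, hQ, h4]) hc))
    · exfalso
      have h6 : N.index = 6 := by
        rw [Subgroup.index, Nat.card_congr φ.toEquiv, Nat.card_eq_fintype_card, Fintype.card_perm, Fintype.card_fin]; rfl
      rw [h6] at hdvd
      have hle7 : Nat.card N ≤ 7 := by have := Nat.le_of_dvd (by norm_num) hdvd; omega
      have hval : ∀ v : ℕ, v ∣ 6 → v = 1 ∨ v = 2 ∨ v = 3 ∨ v = 6 := by
        intro v hv
        have := Nat.le_of_dvd (by norm_num) hv
        interval_cases v <;> first | omega | (exfalso; revert hv; decide)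
      obtain ⟨y0, hy0⟩ : ∃ y : G, φ (y : G ⧸ N) = Equiv.swap 0 1 := by
        obtain ⟨q, hq⟩ := φ.surjective (Equiv.swap 0 1)
        obtain ⟨y, rfl⟩ := QuotientGroup.mk_surjective q
        exact ⟨y, hq⟩
      obtain ⟨c0, hc0⟩ : ∃ y : G, φ (y : G ⧸ N) = Equiv.swap 0 1 * Equiv.swap 1 2 := by
        obtain ⟨q, hq⟩ := φ.surjective (Equiv.swap 0 1 * Equiv.swap 1 2)
        obtain ⟨y, rfl⟩ := QuotientGroup.mk_surjective q
        exact ⟨y, hq⟩
      have hcent : ∀ g : Equiv.Perm (Fin 3), g * Equiv.swap 0 1 = Equiv.swap 0 1 * g → g = 1 ∨ g = Equiv.swap 0 1 := by decide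
      have hord3 : ∀ g : Equiv.Perm (Fin 3), g ^ 3 = 1 → g = 1 ∨ g = Equiv.swap 0 1 * Equiv.swap 1 2 ∨
          g = Equiv.swap 1 2 * Equiv.swap 0 1 := by decide
      have hne : (Equiv.swap 0 1 * Equiv.swap 1 2 : Equiv.Perm (Fin 3)) ≠ Equiv.swap 1 2 * Equiv.swap 0 1 := by decide
      have hcases := hval _ hdvd
      rcases (show Nat.card N = 2 ∨ Nat.card N = 3 ∨ Nat.card N = 4 ∨ Nat.card N = 7 by omega) with h4 | h4 | h4 | h4
      · -- `N` of order two is central, an element over a transposition is not real
        have hNz : ∀ u ∈ N, ∀ g : G, g * u = u * g := by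
          intro u hu g
          have hzz : ∀ w : G, w * z = z * w := by
            intro w
            have : C = ⊤ := Subgroup.index_eq_one.mp (by rw [horb, h4])
            exact Subgroup.mem_centralizer_singleton_iff.mp (show w ∈ C by rw [this]; trivial)
          obtain ⟨z', -, hz'⟩ := (Nat.card_eq_two_iff' (1 : N)).mp h4
          by_cases hu1 : u = 1
          · simp [hu1]
          · have : u = z := congrArg Subtype.val ((hz' ⟨u, hu⟩ (fun h => hu1 (congrArg Subtype.val h))).trans
              (hz' ⟨z, hz⟩ (fun h => hz1 (congrArg Subtype.val h))).symm)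
            rw [this]; exact hzz g
        obtain ⟨g, hg⟩ := isConj_iff.mp (h y0 y0⁻¹ (orderOf_inv y0).symm)
        have hg' : φ (g : G ⧸ N) * Equiv.swap 0 1 = Equiv.swap 0 1 * φ (g : G ⧸ N) := by
          have h1 := congrArg (fun w : G => φ (w : G ⧸ N)) hg
          simp only [QuotientGroup.mk_mul, QuotientGroup.mk_inv, map_mul, map_inv, hy0, Equiv.swap_inv] at h1
          exact mul_inv_eq_iff_eq_mul.mp h1
        have hgy : g * y0 = y0 * g := by
          rcases hcent _ hg' with h1 | h1
          · have hgN : g ∈ N := (QuotientGroup.eq_one_iff g).mp (φ.injective (h1.trans (map_one φ).symm))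
            exact (hNz g hgN y0).symm
          · have hgN : y0⁻¹ * g ∈ N := QuotientGroup.eq.mp (φ.injective (hy0.trans h1.symm))
            have h2 := hNz _ hgN y0
            have h3 : g = y0 * (y0⁻¹ * g) := by group
            rw [h3]
            nth_rewrite 2 [h2]
            group
        rw [hgy, mul_inv_cancel_right] at hg
        have hy2 : y0 ^ 2 = 1 := by rw [sq]; nth_rewrite 2 [hg]; exact mul_inv_cancel y0
        have hy1 : y0 ≠ 1 := by
          rintro rfl
          rw [QuotientGroup.mk_one, map_one] at hy0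
          exact absurd hy0 (by decide)
        have h5 : p = 2 := by
          have : p ∣ 2 := by rw [← h4, ← hzo]; exact Subgroup.orderOf_dvd_natCard N hz
          exact (Nat.prime_dvd_prime_iff_eq hp Nat.prime_two).mp this
        have := (QuotientGroup.eq_one_iff y0).mpr (hall y0 ((orderOf_eq_prime hy2 hy1).trans h5.symm))
        rw [this, map_one] at hy0
        exact absurd hy0 (by decide)
      · -- order nine elements
        have h5 : p = 3 := by
          have : p ∣ 3 := by rw [← h4, ← hzo]; exact Subgroup.orderOf_dvd_natCard N hz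
          exact (Nat.prime_dvd_prime_iff_eq hp Nat.prime_three).mp this
        haveI : Fact (Nat.Prime 3) := ⟨Nat.prime_three⟩
        have h1 : c0 ^ 3 ∈ N := by
          rw [← QuotientGroup.eq_one_iff, QuotientGroup.mk_pow]
          apply φ.injective
          rw [map_pow, hc0, map_one]
          decide
        have hnot : c0 ^ 3 ≠ 1 := by
          intro h3
          have h6 : c0 ∈ N := by
            by_cases hc1 : c0 = 1
            · rw [hc1]; exact one_mem _
            · exact hall c0 ((orderOf_eq_prime h3 hc1).trans h5.symm)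
          rw [(QuotientGroup.eq_one_iff c0).mpr h6, map_one] at hc0
          exact absurd hc0 (by decide)
        have h9 : orderOf c0 = 9 := by
          have h33 : c0 ^ 3 ^ (1 + 1) = 1 := by
            show c0 ^ 9 = 1
            rw [show 9 = 3 * 3 from rfl, pow_mul]
            have := hel.2 _ h1
            rwa [h5] at this
          exact orderOf_eq_prime_pow (by simpa using hnot) h33
        have hle : (Subgroup.centralizer ({c0} : Set G)).index ≤ 2 := by
          have hh : Subgroup.zpowers c0 ≤ Subgroup.centralizer ({c0} : Set G) :=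
            Subgroup.zpowers_le.mpr (Subgroup.mem_centralizer_singleton_iff.mpr rfl)
          have h8 := (Subgroup.zpowers c0).card_mul_index
          rw [Nat.card_zpowers, h9, ← hNne, h6, h4] at h8
          have := Nat.le_of_dvd (by omega) (Subgroup.index_dvd_of_le hh)
          omega
        have h2 := MulAction.index_stabilizer (ConjAct G) c0
        rw [ConjAct.stabilizer_eq_centralizer] at h2
        have h3 : ({c0, c0 ^ 2, c0 ^ 4} : Set G) ⊆ MulAction.orbit (ConjAct G) c0 := by
          intro w hw
          rw [ConjAct.mem_orbit_conjAct]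
          apply IsConj.symm
          rcases hw with rfl | rfl | rfl
          · exact IsConj.refl _
          · exact h _ _ (by rw [Nat.Coprime.orderOf_pow]; rw [h9]; decide)
          · exact h _ _ (by rw [Nat.Coprime.orderOf_pow]; rw [h9]; decide)
        have h4' := Set.ncard_le_ncard h3 (Set.toFinite _)
        have h2' : (Subgroup.centralizer ({c0} : Set G)).index = (MulAction.orbit (ConjAct G) c0).ncard := h2
        have hd : ∀ i j : ℕ, i < 9 → j < 9 → c0 ^ i = c0 ^ j → i = j := fun i j hi hj hij =>
          pow_injOn_Iio_orderOf (by simpa [h9] using hi) (by simpa [h9] using hj) hij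
        have h3' : ({c0, c0 ^ 2, c0 ^ 4} : Set G).ncard = 3 := by
          rw [Set.ncard_eq_three]
          refine ⟨c0, c0 ^ 2, c0 ^ 4, ?_, ?_, ?_, rfl⟩
          · intro e; have := hd 1 2 (by norm_num) (by norm_num) (by simpa using e); omega
          · intro e; have := hd 1 4 (by norm_num) (by norm_num) (by simpa using e); omega
          · intro e; have := hd 2 4 (by norm_num) (by norm_num) e; omega
        omega
      · -- Klein four group
        have h5 : p = 2 := by
          have : p ∣ 4 := by rw [← h4, ← hzo]; exact Subgroup.orderOf_dvd_natCard N hz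
          exact (Nat.prime_dvd_prime_iff_eq hp Nat.prime_two).mp (hp.dvd_of_dvd_pow (show p ∣ 2 ^ 2 from this))
        obtain ⟨c, hcimg, hcord⟩ := CoprimeLift.exists_lift_coprime N (c0 : G ⧸ N) (by
          rw [h4, ← MulEquiv.orderOf_eq φ, hc0]
          have : orderOf (Equiv.swap 0 1 * Equiv.swap 1 2 : Equiv.Perm (Fin 3)) = 3 :=
            haveI : Fact (Nat.Prime 3) := ⟨Nat.prime_three⟩
            orderOf_eq_prime (by decide) (by decide)
          rw [this]; decide)
        have hc3 : c ^ 3 = 1 := by
          rw [← orderOf_dvd_iff_pow_eq_one, hcord, ← MulEquiv.orderOf_eq φ, hc0, orderOf_dvd_iff_pow_eq_one]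
          decide
        obtain ⟨g, hg⟩ := isConj_iff.mp (h c c⁻¹ (orderOf_inv c).symm)
        have hφc : φ (c : G ⧸ N) = Equiv.swap 0 1 * Equiv.swap 1 2 := by rw [hcimg, hc0]
        have h1 := congrArg (fun w : G => φ (w : G ⧸ N)) hg
        simp only [QuotientGroup.mk_mul, QuotientGroup.mk_inv, map_mul, map_inv, hφc] at h1
        have hsq : ∀ s : Equiv.Perm (Fin 3), s * (Equiv.swap 0 1 * Equiv.swap 1 2) * s⁻¹ =
            (Equiv.swap 0 1 * Equiv.swap 1 2)⁻¹ → s * s = 1 ∧ s ≠ 1 := by decide
        obtain ⟨hs1, hs2⟩ := hsq _ h1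
        have hgN : g ∉ N := fun hgN => hs2 (by rw [(QuotientGroup.eq_one_iff g).mpr hgN, map_one])
        have hg2N : g * g ∈ N := by
          rw [← QuotientGroup.eq_one_iff, QuotientGroup.mk_mul]
          exact φ.injective (by rw [map_mul, hs1, map_one])
        have hg2 : g * g ≠ 1 := fun e =>
          hgN (hall g ((orderOf_eq_prime (by rw [sq, e]) (fun h0 => hgN (by rw [h0]; exact one_mem N))).trans h5.symm))
        have hcomm : g * g * c = c * (g * g) := by
          have e : g * g * c * (g * g)⁻¹ = c := by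
            calc g * g * c * (g * g)⁻¹ = g * (g * c * g⁻¹) * g⁻¹ := by group
              _ = g * c⁻¹ * g⁻¹ := by rw [hg]
              _ = (g * c * g⁻¹)⁻¹ := by group
              _ = c := by rw [hg, inv_inv]
          exact mul_inv_eq_iff_eq_mul.mp e
        obtain ⟨w, hw⟩ := isConj_iff.mp (h z (g * g) (hzo.trans (orderOf_eq_prime (hel.2 _ hg2N) hg2).symm))
        have hin : w⁻¹ * c * w ∈ C := by
          rw [hC, Subgroup.mem_centralizer_singleton_iff]
          calc w⁻¹ * c * w * z = w⁻¹ * (c * (w * z * w⁻¹)) * w := by group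
            _ = w⁻¹ * ((w * z * w⁻¹) * c) * w := by rw [hw, hcomm]
            _ = _ := by group
        have hCcard : Nat.card C = 8 := by
          have := C.card_mul_index
          rw [horb, h4, ← hNne, h6, h4] at this
          omega
        have h9 : orderOf (w⁻¹ * c * w) ∣ 8 := hCcard ▸ Subgroup.orderOf_dvd_natCard C hin
        have h10 : orderOf (w⁻¹ * c * w) ∣ 3 := orderOf_dvd_of_pow_eq_one (by
          have := conj_pow (a := w⁻¹) (b := c) (i := 3)
          rw [inv_inv] at this
          rw [this, hc3]; group)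
        have h11 := Nat.eq_one_of_dvd_coprimes (show Nat.Coprime 8 3 by decide) h9 h10
        rw [orderOf_eq_one_iff] at h11
        have h12 : c = 1 := by
          calc c = w * (w⁻¹ * c * w) * w⁻¹ := by group
            _ = 1 := by rw [h11]; group
        rw [h12, QuotientGroup.mk_one, map_one] at hφc
        exact absurd hφc (by decide)
      · -- order seven
        have hCN : C = N := (Subgroup.eq_of_le_of_card_ge hNC (le_of_eq (by
          have := C.card_mul_index
          rw [horb, h4, ← hNne, h6, h4] at this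
          omega))).symm
        haveI : Fact (Nat.Prime 7) := ⟨Nat.prime_seven⟩
        haveI : IsCyclic N := isCyclic_of_prime_card (p := 7) h4
        have hpow : ∀ g : G, ∃ i : ℤ, ∀ u ∈ N, g * u * g⁻¹ = u ^ i := by
          intro g
          obtain ⟨i, hi⟩ := MonoidHom.map_cyclic ((MulAut.conjNormal g).toMonoidHom : N →* N)
          refine ⟨i, fun u hu => ?_⟩
          have := congrArg Subtype.val (hi ⟨u, hu⟩)
          simpa using this
        have hcomm : ∀ a b : G, (a : G ⧸ N) * b = (b : G ⧸ N) * a := by
          intro a b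
          obtain ⟨i, hi⟩ := hpow a
          obtain ⟨j, hj⟩ := hpow b
          have e1 : (a * b) * z * (a * b)⁻¹ = (b * a) * z * (b * a)⁻¹ := by
            calc (a * b) * z * (a * b)⁻¹ = a * (b * z * b⁻¹) * a⁻¹ := by group
              _ = (z ^ j) ^ i := by rw [hj z hz, hi _ (Subgroup.zpow_mem _ hz j)]
              _ = (z ^ i) ^ j := by rw [← zpow_mul, ← zpow_mul, mul_comm]
              _ = b * (a * z * a⁻¹) * b⁻¹ := by rw [hi z hz, hj _ (Subgroup.zpow_mem _ hz i)]
              _ = _ := by group
          rw [← QuotientGroup.mk_mul, ← QuotientGroup.mk_mul, QuotientGroup.eq]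
          rw [← hCN, hC, Subgroup.mem_centralizer_singleton_iff]
          calc (a * b)⁻¹ * (b * a) * z = (a * b)⁻¹ * ((b * a) * z * (b * a)⁻¹) * (b * a) := by group
            _ = (a * b)⁻¹ * ((a * b) * z * (a * b)⁻¹) * (b * a) := by rw [e1]
            _ = _ := by group
        have := congrArg φ (hcomm y0 c0)
        rw [map_mul, map_mul, hy0, hc0] at this
        exact absurd this (by decide)

/-- A finite solvable group in which any two elements of the same order are conjugate has order 1 or 2 or is isomorphic to the symmetric group of degree 3. -/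
theorem result {G : Type*} [Group G] [Finite G] [Group.IsSolvable G]
    (h : ∀ x y : G, orderOf x = orderOf y → IsConj x y) :
    Nat.card G = 1 ∨ Nat.card G = 2 ∨ Nonempty (G ≃* Equiv.Perm (Fin 3)) := by
  exact main _ G le_rfl h

end Cfsg.Agent.S4062
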