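import Cfsg.Statements.S4064
import Cfsg.Agent.Lib.TICentralizers82Complement
import Cfsg.Agent.Lib.TICentralizers82Exception
import Cfsg.Agent.Lib.CAGroupProjective22
import Cfsg.Agent.S5748

set_option autoImplicit false
open Cfsg

namespace Cfsg.Agent.S4064

open Cfsg.Agent.TICentralizers82

/-- The case of no nilpotent normal subgroup. -/
theorem no_fitting_case {G : Type*} [Group G] [Finite G] {t : G} (H : Setup t) :
    ∃ n : ℕ, 2 ≤ n ∧ Nonempty (G ≃* Matrix.ProjectiveSpecialLinearGroup (Fin 2) (GaloisField 2 n)) := by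
  classical
  have := Fintype.ofFinite G
  have hk := H.three_le_kk
  have hle := H.card_le
  have hsub : H.elemTwo ≤ cn t := fun x hx => hx.1
  obtain ⟨P, hP⟩ : kk t + 1 ∣ Nat.card (cn t) := by
    rw [← H.card_elemTwo]
    exact Subgroup.card_dvd_of_le hsub
  have hP1 : P = 1 := by
    rcases P with _ | _ | P
    · have := Nat.card_pos (α := cn t)
      omega
    · rfl
    · have : (kk t + 1) * 2 ≤ (kk t + 1) * (P + 1 + 1) := Nat.mul_le_mul_left _ (by omega)
      omega
  subst hP1
  have hE : H.elemTwo = cn t := Subgroup.eq_of_le_of_card_ge hsub (by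
    rw [H.card_elemTwo]; omega)
  have hcomm : ∀ a ∈ cn t, ∀ b ∈ cn t, a * b = b * a := fun a ha b hb =>
    (H.sq_one_central hb (H.mem_elemTwo.1 (hE.symm ▸ hb)).2 ha).eq
  have hcfg : CAGroupStructure22.Cfg t := by
    refine ⟨fun u hu a ha b hb => ?_, fun x hx hx1 => ?_, H.ot, fun hn => ?_, ?_⟩
    · obtain ⟨g, hg⟩ := isConj_iff.1 (H.conjI u t hu H.ot)
      have ha' : g * a * g⁻¹ ∈ cn t := hg ▸ mem_cn_conj.2 ha
      have hb' : g * b * g⁻¹ ∈ cn t := hg ▸ mem_cn_conj.2 hb
      have := hcomm _ ha' _ hb'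
      refine mul_left_cancel (a := g) (mul_right_cancel (b := g⁻¹) ?_)
      calc g * (a * b) * g⁻¹ = g * a * g⁻¹ * (g * b * g⁻¹) := by group
        _ = g * b * g⁻¹ * (g * a * g⁻¹) := this
        _ = g * (b * a) * g⁻¹ := by group
    · exact le_antisymm (H.cc x hx hx1) fun y hy => mem_cn.2 (hcomm y hy x hx)
    · exact H.t_ne ((Subgroup.eq_bot_iff_forall _).1 (H.noNil _ hn H.nil) t H.t_mem)
    · by_contra hne
      push Not at hne
      have h1 := H.card_invol_cen
      have h2 : Nat.card {x : G // x ∈ cn t ∧ orderOf x = 2} = 1 := Nat.card_eq_one_iff_unique.2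
        ⟨⟨fun x y => Subtype.ext <| by
          have h : ∀ z : {x : G // x ∈ cn t ∧ orderOf x = 2}, z.1 = t := fun z =>
            by_contra fun hz => hne z.1 z.2.2 hz z.2.1
          rw [h x, h y]⟩, ⟨⟨t, H.t_mem, H.ot⟩⟩⟩
      omega
  obtain ⟨r, hr, ⟨e⟩⟩ := CAGroupProjective22.exists_equiv hcfg
  exact ⟨r, hr, ⟨e.trans (S5748.pslEquiv (GaloisField 2 r)).symm⟩⟩


/-- Let G be a finite group in which the centralizer of every element meets each of its conjugates by elements outside its normalizer trivially. Then G is nilpotent; or G is a Frobenius group with a complement that is cyclic or isomorphic to the direct product of a cyclic group of odd order and the quaternion group of order 8; or G is isomorphic to PSL₂(2ⁿ) for some n ≥ 2. -/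
theorem result {G : Type*} [Group G] [Finite G] (hTI : ∀ x : G, Cfsg.IsTISubset (Subgroup.centralizer ({x} : Set G) : Set G)) :
    Group.IsNilpotent G ∨
    (∃ H : Subgroup G, Cfsg.IsFrobeniusComplement H ∧
      (IsCyclic H ∨ ∃ m : ℕ, Odd m ∧ Nonempty (H ≃* Multiplicative (ZMod m) × QuaternionGroup 2))) ∨
    (∃ n : ℕ, 2 ≤ n ∧ Nonempty (G ≃* Matrix.ProjectiveSpecialLinearGroup (Fin 2) (GaloisField 2 n))) := by
  classical
  by_cases hN : ∃ N : Subgroup G, N.Normal ∧ Group.IsNilpotent N ∧ N ≠ ⊥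
  · obtain ⟨N, hNn, hNnil, hN⟩ := hN
    rcases nilpotent_or_frobenius hTI hNn hNnil hN with h | ⟨K, H, hKn, hK, hH, hc, hfpf, hF⟩
    · exact Or.inl h
    · haveI := hKn
      exact Or.inr (Or.inl ⟨H, hF, complement_structure hTI hc hK hH hfpf⟩)
  push Not at hN
  rcases subsingleton_or_nontrivial G with hG | hG
  · haveI := hG
    exact Or.inl inferInstance
  obtain ⟨t, H⟩ := exists_setup hTI hN
  exact Or.inr (Or.inr (no_fitting_case H))

end Cfsg.Agent.S4064
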