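import Cfsg.Statements.S4065
import Mathlib

set_option autoImplicit false
open Cfsg

namespace Cfsg.Agent.S4065

open Matrix in
theorem psl_mk_injective (n : ℕ) :
    Function.Injective (QuotientGroup.mk (s := Subgroup.center
      (Matrix.SpecialLinearGroup (Fin 2) (GaloisField 2 n)))) := by
  intro a b h
  have hm := QuotientGroup.eq.mp h
  obtain ⟨r, hr, hr'⟩ := Matrix.SpecialLinearGroup.mem_center_iff.mp hm
  rw [Fintype.card_fin, sq_eq_one_iff] at hr
  have hr1 : r = 1 := by
    rcases hr with h | h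
    · exact h
    · rw [h]; exact CharTwo.neg_eq 1
  subst hr1
  rw [map_one] at hr'
  have : a⁻¹ * b = 1 := Subtype.ext (by rw [Matrix.SpecialLinearGroup.coe_one]; exact hr'.symm)
  exact inv_mul_eq_one.mp this

open Matrix in
theorem commute_of_commute_nonscalar {F : Type*} [Field F] (X A B : Matrix (Fin 2) (Fin 2) F)
    (hX : ¬ (X 0 1 = 0 ∧ X 1 0 = 0 ∧ X 0 0 = X 1 1)) (hA : A * X = X * A) (hB : B * X = X * B) :
    A * B = B * A := by
  have e : ∀ Y : Matrix (Fin 2) (Fin 2) F, Y * X = X * Y →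
      Y 0 1 * X 1 0 = X 0 1 * Y 1 0 ∧
      Y 0 1 * (X 0 0 - X 1 1) = X 0 1 * (Y 0 0 - Y 1 1) ∧
      Y 1 0 * (X 0 0 - X 1 1) = X 1 0 * (Y 0 0 - Y 1 1) := by
    intro Y hY
    have h00 := congrFun (congrFun hY 0) 0
    have h01 := congrFun (congrFun hY 0) 1
    have h10 := congrFun (congrFun hY 1) 0
    simp only [Matrix.mul_apply, Fin.sum_univ_two] at h00 h01 h10
    refine ⟨by linear_combination h00, by linear_combination -h01, by linear_combination h10⟩
  obtain ⟨a1, a2, a3⟩ := e A hA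
  obtain ⟨b1, b2, b3⟩ := e B hB
  -- (A₀₁, A₁₀, A₀₀ - A₁₁) is proportional to (X₀₁, X₁₀, X₀₀ - X₁₁)
  have key : A 0 1 * B 1 0 = B 0 1 * A 1 0 ∧
      A 0 1 * (B 0 0 - B 1 1) = B 0 1 * (A 0 0 - A 1 1) ∧
      A 1 0 * (B 0 0 - B 1 1) = B 1 0 * (A 0 0 - A 1 1) := by
    by_cases h1 : X 0 1 = 0
    · by_cases h2 : X 1 0 = 0
      · have h3 : X 0 0 - X 1 1 ≠ 0 := fun h => hX ⟨h1, h2, sub_eq_zero.mp h⟩
        rw [h1, zero_mul, mul_eq_zero, or_iff_left h3] at a2 b2
        rw [h2, zero_mul, mul_eq_zero, or_iff_left h3] at a3 b3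
        simp [a2, a3, b2, b3]
      · rw [h1, zero_mul, mul_eq_zero, or_iff_left h2] at a1 b1
        refine ⟨by simp [a1, b1], by simp [a1, b1], ?_⟩
        apply mul_left_cancel₀ h2
        linear_combination (-A 1 0) * b3 + B 1 0 * a3
    · have k1 : A 0 1 * B 1 0 = B 0 1 * A 1 0 := by
        apply mul_left_cancel₀ h1
        linear_combination B 0 1 * a1 - A 0 1 * b1
      have k2 : A 0 1 * (B 0 0 - B 1 1) = B 0 1 * (A 0 0 - A 1 1) := by
        apply mul_left_cancel₀ h1
        linear_combination B 0 1 * a2 - A 0 1 * b2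
      refine ⟨k1, k2, ?_⟩
      apply mul_left_cancel₀ h1
      linear_combination -(B 0 0 - B 1 1) * a1 + (A 0 0 - A 1 1) * b1 + X 1 0 * k2
  obtain ⟨k1, k2, k3⟩ := key
  ext i j
  fin_cases i <;> fin_cases j <;> simp only [Matrix.mul_apply, Fin.sum_univ_two, Fin.zero_eta, Fin.mk_one]
  · linear_combination k1
  · linear_combination -k2
  · linear_combination k3
  · linear_combination -k1

open Matrix in
/-- Nontrivial centralizers are abelian. -/
theorem centralizer_comm (n : ℕ)
    (x a b : Matrix.ProjectiveSpecialLinearGroup (Fin 2) (GaloisField 2 n)) (hx : x ≠ 1)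
    (ha : a * x = x * a) (hb : b * x = x * b) : a * b = b * a := by
  obtain ⟨X, rfl⟩ := QuotientGroup.mk_surjective x
  obtain ⟨A, rfl⟩ := QuotientGroup.mk_surjective a
  obtain ⟨B, rfl⟩ := QuotientGroup.mk_surjective b
  rw [← QuotientGroup.mk_mul, ← QuotientGroup.mk_mul] at ha hb
  have ha' := congrArg Subtype.val (psl_mk_injective n ha)
  have hb' := congrArg Subtype.val (psl_mk_injective n hb)
  simp only [Matrix.SpecialLinearGroup.coe_mul] at ha' hb'
  rw [← QuotientGroup.mk_mul, ← QuotientGroup.mk_mul]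
  congr 1
  apply Subtype.ext
  simp only [Matrix.SpecialLinearGroup.coe_mul]
  refine commute_of_commute_nonscalar X.1 _ _ ?_ ha' hb'
  rintro ⟨h1, h2, h3⟩
  apply hx
  rw [QuotientGroup.eq_one_iff, Matrix.SpecialLinearGroup.mem_center_iff]
  refine ⟨X.1 0 0, ?_, ?_⟩
  · have := X.2
    rw [Matrix.det_fin_two, h1, h2, ← h3] at this
    rw [Fintype.card_fin, sq]
    simpa using this
  · ext i j
    fin_cases i <;> fin_cases j <;> simp [h1, h2, h3]

/-- Let F be a finite field with 2ⁿ elements, n ≥ 2. In PSL₂(F) the centralizer of every element meets each of its conjugates by elements outside its normalizer trivially. -/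
theorem result (n : ℕ) (hn : 2 ≤ n)
    (x : Matrix.ProjectiveSpecialLinearGroup (Fin 2) (GaloisField 2 n)) :
    Cfsg.IsTISubset (Subgroup.centralizer ({x} : Set (Matrix.ProjectiveSpecialLinearGroup (Fin 2) (GaloisField 2 n))) :
      Set (Matrix.ProjectiveSpecialLinearGroup (Fin 2) (GaloisField 2 n))) := by
  intro g hg y hy hy'
  by_contra hy1
  apply hg
  by_cases hx : x = 1
  · subst hx
    rw [Subgroup.mem_normalizer_iff]
    intro h
    simp [Subgroup.mem_centralizer_singleton_iff]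
  simp only [SetLike.mem_coe, Subgroup.mem_centralizer_singleton_iff] at hy hy'
  have hgy1 : g * y * g⁻¹ ≠ 1 := by simpa using hy1
  -- `C(x) = C(g y g⁻¹) = g C(y) g⁻¹ = g C(x) g⁻¹`
  rw [Subgroup.mem_normalizer_iff]
  intro h
  simp only [Subgroup.mem_centralizer_singleton_iff]
  constructor
  · intro hh
    have hhy : h * y = y * h := centralizer_comm n x h y hx hh hy
    have h1 : (g * h * g⁻¹) * (g * y * g⁻¹) = (g * y * g⁻¹) * (g * h * g⁻¹) := by
      calc _ = g * (h * y) * g⁻¹ := by group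
        _ = g * (y * h) * g⁻¹ := by rw [hhy]
        _ = _ := by group
    exact centralizer_comm n _ _ _ hgy1 h1 hy'.symm
  · intro hh
    have h1 : (g * h * g⁻¹) * (g * y * g⁻¹) = (g * y * g⁻¹) * (g * h * g⁻¹) :=
      centralizer_comm n x _ _ hx hh hy'
    have hhy : h * y = y * h := by
      calc h * y = g⁻¹ * ((g * h * g⁻¹) * (g * y * g⁻¹)) * g := by group
        _ = g⁻¹ * ((g * y * g⁻¹) * (g * h * g⁻¹)) * g := by rw [h1]
        _ = _ := by group
    exact centralizer_comm n y h x hy1 hhy hy.symm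

end Cfsg.Agent.S4065
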