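import Cfsg.Statements.S4066
import Mathlib

set_option autoImplicit false
open Cfsg

namespace Cfsg.Agent.S4066

/-- `C(y)` is normalized by everything that makes it meet a conjugate nontrivially. -/
theorem centralizer_stable {G : Type*} [Group G]
    (hTI : ∀ x : G, Cfsg.IsTISubset (Subgroup.centralizer ({x} : Set G) : Set G))
    (x g v : G) (hv1 : v ≠ 1) (hv : v * x = x * v) (hv' : (g * v * g⁻¹) * x = x * (g * v * g⁻¹))
    (u : G) (hu : u * x = x * u) : (g * u * g⁻¹) * x = x * (g * u * g⁻¹) := by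
  have hn : g ∈ Subgroup.normalizer (Subgroup.centralizer ({x} : Set G) : Set G) := by
    by_contra hg
    exact hv1 (hTI x g hg v (Subgroup.mem_centralizer_singleton_iff.mpr hv)
      (Subgroup.mem_centralizer_singleton_iff.mpr hv'))
  exact Subgroup.mem_centralizer_singleton_iff.mp
    ((Subgroup.mem_normalizer_iff.mp hn u).mp (Subgroup.mem_centralizer_singleton_iff.mpr hu))

/-- Inside a subgroup centralizing a nontrivial `z`, every p-subgroup generates with its
conjugates a p-group, so there is only one Sylow subgroup. -/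
theorem conj_commute {G : Type*} [Group G]
    (hTI : ∀ x : G, Cfsg.IsTISubset (Subgroup.centralizer ({x} : Set G) : Set G))
    (z : G) (hz : z ≠ 1) (x h : G) (hx : x * z = z * x) (hh : h * z = z * h) :
    (h * x * h⁻¹) * x = x * (h * x * h⁻¹) :=
  centralizer_stable hTI x h z hz hx.symm
    (by rw [show h * z * h⁻¹ = z by rw [hh, mul_inv_cancel_right]]; exact hx.symm) x rfl

/-- Let G be a finite group in which the centralizer of every element meets each of its conjugates by elements outside its normalizer trivially. Then any two distinct Sylow p-subgroups of G, for any prime p, intersect trivially. -/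
theorem result {G : Type*} [Group G] [Finite G] (hTI : ∀ x : G, Cfsg.IsTISubset (Subgroup.centralizer ({x} : Set G) : Set G))
    {p : ℕ} [Fact p.Prime] (P Q : Sylow p G) (hPQ : P ≠ Q) : (P : Subgroup G) ⊓ (Q : Subgroup G) = ⊥ := by
  by_contra hne
  obtain ⟨y, hy, hy1⟩ := ((Subgroup.bot_or_exists_ne_one _).resolve_left hne)
  have hP1 : Nontrivial (P : Subgroup G) := ⟨⟨⟨y, hy.1⟩, 1, fun h => hy1 (congrArg Subtype.val h)⟩⟩
  haveI := P.isPGroup'.center_nontrivial
  obtain ⟨⟨z, hz⟩, hz1⟩ := exists_ne (1 : Subgroup.center (P : Subgroup G))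
  have hzG : (z : G) ≠ 1 := fun h => hz1 (Subtype.ext (Subtype.ext h))
  have hPz : ∀ u ∈ (P : Subgroup G), u * (z : G) = (z : G) * u := fun u hu =>
    congrArg Subtype.val (Subgroup.mem_center_iff.mp hz ⟨u, hu⟩)
  obtain ⟨g, hg⟩ := MulAction.exists_smul_eq G Q P
  have hQmem : ∀ u ∈ (Q : Subgroup G), g * u * g⁻¹ ∈ (P : Subgroup G) := by
    intro u hu
    rw [← hg, Sylow.coe_subgroup_smul]
    exact Subgroup.smul_mem_pointwise_smul u (MulAut.conj g) _ hu
  have hQz : ∀ u ∈ (Q : Subgroup G), u * (z : G) = (z : G) * u := by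
    intro u hu
    have h := centralizer_stable hTI (z : G) g⁻¹ (g * y * g⁻¹)
      (by simpa using hy1) (hPz _ (hQmem y hy.2))
      (by simpa [mul_assoc] using hPz y hy.1) _ (hPz _ (hQmem u hu))
    simpa [mul_assoc] using h
  let H : Subgroup G := Subgroup.centralizer ({(z : G)} : Set G)
  have hmem : ∀ u, u * (z : G) = (z : G) * u → u ∈ H := fun u hu =>
    Subgroup.mem_centralizer_singleton_iff.mpr hu
  -- each element of P lies in the p-core of H
  have hnorm : ∀ x : H, IsMulCommutative (Subgroup.normalClosure ({x} : Set H)) := by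
    intro x
    refine Subgroup.isMulCommutative_closure ?_
    intro a ha b hb
    simp only [Group.mem_conjugatesOfSet_iff, Set.mem_singleton_iff, exists_eq_left] at ha hb
    obtain ⟨c, rfl⟩ := isConj_iff.mp ha
    obtain ⟨d, rfl⟩ := isConj_iff.mp hb
    apply Subtype.ext
    simp only [Subgroup.coe_mul, Subgroup.coe_inv]
    have hcd := conj_commute hTI (z : G) hzG (x : G) ((d : G)⁻¹ * c)
      (Subgroup.mem_centralizer_singleton_iff.mp x.2)
      (Subgroup.mem_centralizer_singleton_iff.mp (mul_mem (inv_mem d.2) c.2))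
    calc (c : G) * x * (c : G)⁻¹ * ((d : G) * x * (d : G)⁻¹)
        = (d : G) * (((d : G)⁻¹ * c) * x * ((d : G)⁻¹ * c)⁻¹ * x) * (d : G)⁻¹ := by group
      _ = (d : G) * ((x : G) * (((d : G)⁻¹ * c) * x * ((d : G)⁻¹ * c)⁻¹)) * (d : G)⁻¹ := by rw [hcd]
      _ = _ := by group
  let PH : Sylow p H := P.subtype (fun u hu => hmem u (hPz u hu))
  let QH : Sylow p H := Q.subtype (fun u hu => hmem u (hQz u hu))
  have hall : ∀ (x : H) (T : Sylow p H), x ∈ (PH : Subgroup H) → x ∈ (T : Subgroup H) := by
    intro x T hx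
    set N := Subgroup.normalClosure ({x} : Set H) with hN
    haveI : IsMulCommutative N := hnorm x
    obtain ⟨k, hk⟩ := (IsPGroup.iff_orderOf.mp PH.isPGroup') ⟨x, hx⟩
    rw [Subgroup.orderOf_mk] at hk
    let Ω : Subgroup H :=
      { carrier := {u | u ∈ N ∧ u ^ p ^ k = 1}
        one_mem' := ⟨one_mem _, one_pow _⟩
        mul_mem' := fun {a b} ha hb => ⟨mul_mem ha.1 hb.1, by
          have hab : Commute a b := congrArg Subtype.val (mul_comm' (⟨a, ha.1⟩ : N) ⟨b, hb.1⟩)
          rw [hab.mul_pow, ha.2, hb.2, one_mul]⟩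
        inv_mem' := fun {a} ha => ⟨inv_mem ha.1, by rw [inv_pow, ha.2, inv_one]⟩ }
    have hNΩ : N ≤ Ω := by
      have hΩn : Ω.Normal := ⟨fun u hu h => ⟨Subgroup.normalClosure_normal.conj_mem u hu.1 h, by
        rw [conj_pow, hu.2, mul_one, mul_inv_cancel]⟩⟩
      refine Subgroup.normalClosure_le_normal ?_
      rintro u rfl
      exact ⟨Subgroup.subset_normalClosure rfl, by rw [← hk, pow_orderOf_eq_one]⟩
    have hNp : IsPGroup p N := fun u => ⟨k, Subtype.ext (hNΩ u.2).2⟩
    obtain ⟨T0, hT0⟩ := hNp.exists_le_sylow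
    obtain ⟨c, hc⟩ := MulAction.exists_smul_eq H T0 T
    have h2 : N ≤ (T : Subgroup H) := by
      intro u hu
      rw [← hc, Sylow.coe_subgroup_smul, Subgroup.mem_pointwise_smul_iff_inv_smul_mem]
      apply hT0
      have := Subgroup.normalClosure_normal.conj_mem u hu c⁻¹
      simpa [MulAut.smul_def] using this
    exact h2 (Subgroup.subset_normalClosure rfl)
  have hle : (PH : Subgroup H) ≤ QH := fun x hx => hall x QH hx
  have heq : PH = QH := Sylow.ext (Subgroup.eq_of_le_of_card_ge hle
    (by rw [Sylow.card_eq_multiplicity, Sylow.card_eq_multiplicity]))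
  apply hPQ
  exact Sylow.subtype_injective heq

end Cfsg.Agent.S4066
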