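import Cfsg.Statements.S4068
import Mathlib
import Cfsg.Agent.Lib.PrimeOrderGroups
import Cfsg.Agent.Lib.CharInducedBurnside
import Cfsg.Agent.S0183

set_option autoImplicit false
set_option linter.all false
open Cfsg

namespace Cfsg.Agent.S4068

open Cfsg.Agent

universe u

theorem three_le_card_primeFactors {G : Type u} [Group G] [Finite G] (hns : ¬ Group.IsSolvable G) :
    3 ≤ (Nat.card G).primeFactors.card := by
  by_contra hh
  have hc : (Nat.card G).primeFactors.card ≤ 2 := by omega
  have hpow := Nat.prod_factorization_pow_eq_self (Nat.card_pos (α := G)).ne'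
  rw [Finsupp.prod, Nat.support_factorization] at hpow
  obtain ⟨p, q, a, b, hp, hq, hcard⟩ : ∃ p q a b : ℕ, p.Prime ∧ q.Prime ∧ Nat.card G = p ^ a * q ^ b := by
    interval_cases h : (Nat.card G).primeFactors.card
    · rw [Finset.card_eq_zero.mp h, Finset.prod_empty] at hpow
      exact ⟨2, 2, 0, 0, Nat.prime_two, Nat.prime_two, by simpa using hpow.symm⟩
    · obtain ⟨p, hp⟩ := Finset.card_eq_one.mp h
      rw [hp, Finset.prod_singleton] at hpow
      exact ⟨p, 2, (Nat.card G).factorization p, 0,
        Nat.prime_of_mem_primeFactors (n := Nat.card G) (by rw [hp]; simp), Nat.prime_two, by simpa using hpow.symm⟩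
    · obtain ⟨p, q, hne, hpq⟩ := Finset.card_eq_two.mp h
      rw [hpq, Finset.prod_pair hne] at hpow
      exact ⟨p, q, _, _, Nat.prime_of_mem_primeFactors (n := Nat.card G) (by rw [hpq]; simp),
        Nat.prime_of_mem_primeFactors (n := Nat.card G) (by rw [hpq]; simp), hpow.symm⟩
  exact hns (CharInduced.solvable_of_card_two_primes p q a b hp hq hcard)

theorem prime_orders {G : Type u} [Group G] [Finite G] (hns : ¬ Group.IsSolvable G)
    (h4 : Nat.card (MulAction.orbitRel.Quotient (MulAut G) G) = 4) :
    (∀ g : G, g ≠ 1 → (orderOf g).Prime) ∧ (Nat.card G).primeFactors.card = 3 := by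
  classical
  let o : MulAction.orbitRel.Quotient (MulAut G) G → ℕ := Quotient.lift (fun g : G => orderOf g) (by
    rintro a b ⟨φ, hφ⟩
    show orderOf a = orderOf b
    rw [← hφ]
    exact MulEquiv.orderOf_eq φ b)
  haveI := Fintype.ofFinite (MulAction.orbitRel.Quotient (MulAut G) G)
  have hle : (Finset.univ.image o).card ≤ 4 := by
    refine Finset.card_image_le.trans ?_
    rw [Finset.card_univ, ← Nat.card_eq_fintype_card, h4]
  have hmem : ∀ g : G, orderOf g ∈ Finset.univ.image o := fun g =>
    Finset.mem_image.mpr ⟨Quotient.mk'' g, Finset.mem_univ _, rfl⟩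
  have hsub : insert 1 (Nat.card G).primeFactors ⊆ Finset.univ.image o := by
    intro p hp
    rcases Finset.mem_insert.mp hp with rfl | hp
    · simpa using hmem 1
    · haveI := Fact.mk (Nat.prime_of_mem_primeFactors hp)
      obtain ⟨g, hg⟩ := exists_prime_orderOf_dvd_card' p (Nat.dvd_of_mem_primeFactors hp)
      exact hg ▸ hmem g
  have h1 : 1 ∉ (Nat.card G).primeFactors := fun h => Nat.not_prime_one (Nat.prime_of_mem_primeFactors h)
  have h3 := three_le_card_primeFactors hns
  have hc := Finset.card_le_card hsub
  rw [Finset.card_insert_of_notMem h1] at hc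
  have heq := Finset.eq_of_subset_of_card_le hsub (by rw [Finset.card_insert_of_notMem h1]; omega)
  refine ⟨fun g hg => ?_, by omega⟩
  have h5 := hmem g
  rw [← heq, Finset.mem_insert] at h5
  exact Nat.prime_of_mem_primeFactors (n := Nat.card G)
    (h5.resolve_left fun h => hg (orderOf_eq_one_iff.mp h))

theorem even_card {G : Type u} [Group G] [Finite G] (hord : ∀ g : G, g ≠ 1 → (orderOf g).Prime)
    (hns : ¬ Group.IsSolvable G) : 2 ∣ Nat.card G := by
  by_contra h2
  refine hns (Cfsg.Agent.S0183.result (Nat.odd_iff.mpr (by omega)) fun g hg => ?_)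
  haveI := Fact.mk (hord g hg)
  exact (PrimeOrderGroups.centralizer_isPGroup hord (hord g hg) rfl).isNilpotent

/-- A finite non-solvable group on which its automorphism group has exactly four orbits is isomorphic to the alternating group of degree 5. -/
theorem result {G : Type*} [Group G] [Finite G] (hns : ¬ Group.IsSolvable G)
    (h4 : Nat.card (MulAction.orbitRel.Quotient (MulAut G) G) = 4) : Nonempty (G ≃* alternatingGroup (Fin 5)) := by
  obtain ⟨hord, h3⟩ := prime_orders hns h4
  exact PrimeOrderGroups.iso_A5_of_prime_orders hord hns (even_card hord hns) h3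

end Cfsg.Agent.S4068
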