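import Cfsg.Statements.S4072
import Mathlib
import Cfsg.Agent.Lib.PGroupsBasic

set_option autoImplicit false
open Cfsg

namespace Cfsg.Agent.S4072

open Subgroup
open Cfsg.Agent
open scoped commutatorElement

/-- In a perfect group no non-trivial abelian Sylow subgroup is centralized by its normalizer. -/
theorem not_normalizer_le_centralizer {G : Type*} [Group G] [Finite G] (hperf : commutator G = ⊤)
    {q : ℕ} [Fact q.Prime] (Q : Sylow q G) (hne : (Q : Subgroup G) ≠ ⊥) :
    ¬ normalizer ((Q : Subgroup G) : Set G) ≤ centralizer (Q : Set G) := by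
  intro hQ
  have hc := MonoidHom.ker_transferSylow_isComplement' Q hQ
  haveI : IsMulCommutative (Q : Subgroup G) := ⟨⟨fun a b => Subtype.ext
    (mem_centralizer_iff.mp (hQ (le_normalizer b.2)) a a.2)⟩⟩
  have hle : commutator G ≤ (MonoidHom.transferSylow Q hQ).ker := by
    rw [commutator_def, Subgroup.commutator_le]
    intro a _ b _
    rw [MonoidHom.mem_ker, map_commutatorElement, commutatorElement_eq_one_iff_mul_comm]
    exact mul_comm' _ _
  rw [hperf, top_le_iff] at hle
  rw [hle] at hc
  exact hne ((Subgroup.isComplement'_top_left).mp hc)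

/-- A central element of a Sylow subgroup of a perfect group lies in the derived group of it. -/
theorem central_mem_derived {G : Type*} [Group G] [Finite G] (hperf : commutator G = ⊤)
    {q : ℕ} [Fact q.Prime] (Q : Sylow q G) (z : G) (hzQ : z ∈ (Q : Subgroup G)) (hz : z ∈ center G) :
    (⟨z, hzQ⟩ : (Q : Subgroup G)) ∈ commutator (Q : Subgroup G) := by
  let φ : (Q : Subgroup G) →* Abelianization (Q : Subgroup G) := Abelianization.of
  have hker : φ.transfer = 1 := by
    ext g
    have : g ∈ φ.transfer.ker := Abelianization.commutator_subset_ker _ (hperf ▸ mem_top g)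
    simpa using this
  have h1 := MonoidHom.transfer_eq_pow (H := (Q : Subgroup G)) φ z (fun k g₀ _ => by
    rw [mul_assoc, ← mem_center_iff.mp (pow_mem hz k) g₀, inv_mul_cancel_left])
  rw [hker, MonoidHom.one_apply] at h1
  have h2 : φ ⟨z, hzQ⟩ ^ (Q : Subgroup G).index = 1 := by
    rw [← map_pow, h1]; rfl
  obtain ⟨k, hk⟩ := (IsPGroup.iff_orderOf.mp (IsPGroup.of_surjective Q.isPGroup' φ
    QuotientGroup.mk_surjective)) (φ ⟨z, hzQ⟩)
  have h3 : orderOf (φ ⟨z, hzQ⟩) = 1 := by
    refine Nat.eq_one_of_dvd_coprimes (a := q ^ k) (b := (Q : Subgroup G).index) ?_ (hk ▸ dvd_rfl)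
      (orderOf_dvd_of_pow_eq_one h2)
    exact Nat.Coprime.pow_left _ ((Nat.Prime.coprime_iff_not_dvd Fact.out).mpr Q.not_dvd_index)
  have h4 : φ ⟨z, hzQ⟩ = 1 := orderOf_eq_one_iff.mp h3
  exact (QuotientGroup.eq_one_iff _).mp h4

/-- A non-abelian `q`-group with all proper subgroups abelian has derived subgroup of order `≤ q`. -/
theorem card_derived_le {Q : Type*} [Group Q] [Finite Q] {q : ℕ} [Fact q.Prime] (hQ : IsPGroup q Q)
    (hsub : ∀ S : Subgroup Q, S ≠ ⊤ → IsMulCommutative S) : Nat.card (commutator Q) ≤ q := by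
  have hq : 1 ≤ q := (Fact.out : q.Prime).one_lt.le
  by_cases hab : ∀ a b : Q, a * b = b * a
  · have : commutator Q = ⊥ := by
      rw [eq_bot_iff, commutator_def, Subgroup.commutator_le]
      intro a _ b _
      rw [Subgroup.mem_bot, commutatorElement_eq_one_iff_mul_comm]
      exact hab a b
    rw [this, Subgroup.card_bot]
    exact hq
  push Not at hab
  obtain ⟨x, y, hxy⟩ := hab
  have hgen : ∀ a b : Q, a * b ≠ b * a → closure ({a, b} : Set Q) = ⊤ := by
    intro a b h
    by_contra hne
    exact h (congrArg Subtype.val ((hsub _ hne).is_comm.comm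
      ⟨a, subset_closure (Set.mem_insert a _)⟩ ⟨b, subset_closure (Set.mem_insert_of_mem a rfl)⟩))
  have hxt : zpowers x ≠ ⊤ := fun h => hxy (by
    obtain ⟨i, hi⟩ := mem_zpowers_iff.mp (h ▸ mem_top y : y ∈ zpowers x)
    rw [← hi]; exact (Commute.zpow_right (Commute.refl x) i).eq)
  have hyt : zpowers y ≠ ⊤ := fun h => hxy (by
    obtain ⟨i, hi⟩ := mem_zpowers_iff.mp (h ▸ mem_top x : x ∈ zpowers y)
    rw [← hi]; exact (Commute.zpow_left (Commute.refl y) i).eq)
  obtain ⟨A, hA, hxA⟩ := PGroupsBasic.exists_isCoatom_ge hxt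
  obtain ⟨B, hB, hyB⟩ := PGroupsBasic.exists_isCoatom_ge hyt
  have hx : x ∈ A := hxA (mem_zpowers x)
  have hy : y ∈ B := hyB (mem_zpowers y)
  haveI := PGroupsBasic.normal_of_isCoatom hQ hA
  haveI := PGroupsBasic.normal_of_isCoatom hQ hB
  have hcen : ∀ u, u ∈ A → u ∈ B → ∀ g, g * u = u * g := by
    intro u huA huB g
    have htop : (⊤ : Subgroup Q) ≤ centralizer ({u} : Set Q) := by
      rw [← hgen x y hxy, closure_le]
      rintro w (rfl | rfl) <;>
        simp only [SetLike.mem_coe, mem_centralizer_singleton_iff]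
      · exact congrArg Subtype.val ((hsub A hA.1).is_comm.comm ⟨_, hx⟩ ⟨u, huA⟩)
      · exact congrArg Subtype.val ((hsub B hB.1).is_comm.comm ⟨_, hy⟩ ⟨u, huB⟩)
    exact mem_centralizer_singleton_iff.mp (htop (mem_top g))
  set c := ⁅x, y⁆ with hc
  have hcA : c ∈ A := by
    rw [hc, commutatorElement_def, show x * y * x⁻¹ * y⁻¹ = x * (y * x⁻¹ * y⁻¹) by group]
    exact mul_mem hx (Normal.conj_mem inferInstance _ (inv_mem hx) y)
  have hcB : c ∈ B := by
    rw [hc, commutatorElement_def]
    exact mul_mem (Normal.conj_mem inferInstance _ hy x) (inv_mem hy)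
  have hcz : c ∈ center Q := mem_center_iff.mpr (hcen c hcA hcB)
  have hxq : x ^ q ∈ B := PGroupsBasic.index_of_isCoatom hQ hB ▸ B.pow_index_mem x
  have hcq : c ^ q = 1 := by
    rw [hc, ← PGroupsBasic.commutatorElement_pow_left hcz q, commutatorElement_eq_one_iff_mul_comm]
    exact (hcen (x ^ q) (pow_mem hx q) hxq y).symm
  haveI hW : (zpowers c).Normal := PGroupsBasic.normal_of_le_center (zpowers_le.mpr hcz)
  have hle : commutator Q ≤ zpowers c := by
    have hcomm : ∀ a ∈ ({x, y} : Set Q), ∀ b ∈ ({x, y} : Set Q),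
        (a : Q ⧸ zpowers c) * (b : Q ⧸ zpowers c) = (b : Q ⧸ zpowers c) * a := by
      have hxy' : (x : Q ⧸ zpowers c) * (y : Q ⧸ zpowers c) = (y : Q ⧸ zpowers c) * x := by
        rw [← commutatorElement_eq_one_iff_mul_comm]
        show ((⁅x, y⁆ : Q) : Q ⧸ zpowers c) = 1
        rw [QuotientGroup.eq_one_iff]
        exact mem_zpowers c
      rintro a (rfl | rfl) b (rfl | rfl)
      · rfl
      · exact hxy'
      · exact hxy'.symm
      · rfl
    have hall : ∀ a b : Q, (a : Q ⧸ zpowers c) * (b : Q ⧸ zpowers c) = (b : Q ⧸ zpowers c) * a := by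
      intro a b
      haveI : IsMulCommutative (closure (QuotientGroup.mk' (zpowers c) '' {x, y})) :=
        Subgroup.isMulCommutative_closure (by
          rintro _ ⟨u, hu, rfl⟩ _ ⟨v, hv, rfl⟩
          exact hcomm u hu v hv)
      have hmem : ∀ a : Q, (a : Q ⧸ zpowers c) ∈ closure (QuotientGroup.mk' (zpowers c) '' {x, y}) := by
        intro a
        rw [← MonoidHom.map_closure, hgen x y hxy]
        exact ⟨a, mem_top a, rfl⟩
      exact congrArg Subtype.val (mul_comm' (⟨_, hmem a⟩ : closure (QuotientGroup.mk' (zpowers c) '' {x, y})) ⟨_, hmem b⟩)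
    rw [commutator_def, Subgroup.commutator_le]
    intro a _ b _
    rw [← QuotientGroup.eq_one_iff]
    show ⁅(a : Q ⧸ zpowers c), (b : Q ⧸ zpowers c)⁆ = 1
    rw [commutatorElement_eq_one_iff_mul_comm]
    exact hall a b
  exact (Subgroup.card_le_of_le hle).trans (by
    rw [Nat.card_zpowers]
    exact Nat.le_of_dvd (Fact.out : q.Prime).pos (orderOf_dvd_of_pow_eq_one hcq))

/-- A finite group in which every non-abelian subgroup is self-normalizing is solvable or simple. -/
theorem result {G : Type*} [Group G] [Finite G] (hS : ∀ H : Subgroup G, ¬ IsMulCommutative H → Subgroup.normalizer (H : Set G) = H) :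
    Group.IsSolvable G ∨ IsSimpleGroup G := by
  by_cases hsol : Group.IsSolvable G
  · exact Or.inl hsol
  right
  have hnormal : ∀ N : Subgroup G, N.Normal → N ≠ ⊤ → IsMulCommutative N := by
    intro N hN hNt
    by_contra h
    exact hNt ((hS N h).symm.trans (Subgroup.normalizer_eq_top N))
  have hperf : commutator G = ⊤ := by
    by_contra hne
    haveI := hnormal _ inferInstance hne
    refine hsol ?_
    haveI : Group.IsSolvable (commutator G) :=
      Group.isSolvable_of_comm fun a b => mul_comm' a b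
    haveI : Group.IsSolvable (Abelianization G) := Group.isSolvable_of_comm fun a b => mul_comm a b
    exact Group.isSolvable_of_ker_le_range (commutator G).subtype Abelianization.of (by
      rw [Abelianization.ker_of, Subgroup.range_subtype])
  haveI : Nontrivial G := by
    by_contra h
    rw [not_nontrivial_iff_subsingleton] at h
    exact hsol inferInstance
  refine ⟨fun N hN => ?_⟩
  by_contra hne
  push Not at hne
  obtain ⟨hNbot, hNtop⟩ := hne
  obtain ⟨R, hNR, hR⟩ := (Set.toFinite {R : Subgroup G | R.Normal ∧ R ≠ ⊤}).exists_le_maximal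
    (show N ∈ {R : Subgroup G | R.Normal ∧ R ≠ ⊤} from ⟨hN, hNtop⟩)
  obtain ⟨⟨hRn, hRt⟩, hRmax⟩ := hR
  haveI := hRn
  haveI hRc := hnormal R hRn hRt
  have hperf' : commutator (G ⧸ R) = ⊤ := by
    rw [commutator_def, ← Subgroup.map_top_of_surjective _ (QuotientGroup.mk'_surjective R),
      ← Subgroup.map_commutator, ← commutator_def, hperf, Subgroup.map_top_of_surjective _ (QuotientGroup.mk'_surjective R)]
  have hquot : ∀ H : Subgroup (G ⧸ R), ¬ IsMulCommutative (H.comap (QuotientGroup.mk' R)) →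
      Subgroup.normalizer (H : Set (G ⧸ R)) = H := by
    intro H hH
    have h := hS _ hH
    rw [← Subgroup.comap_normalizer_eq_of_surjective H (QuotientGroup.mk'_surjective R)] at h
    exact Subgroup.comap_injective (QuotientGroup.mk'_surjective R) h
  haveI hCn : (centralizer (R : Set G)).Normal := inferInstance
  have hRC : R ≤ centralizer (R : Set G) := fun r hr => mem_centralizer_iff.mpr fun s hs =>
    congrArg Subtype.val (mul_comm' (⟨s, hs⟩ : R) ⟨r, hr⟩)
  by_cases hC : centralizer (R : Set G) = ⊤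
  · -- `R` is central
    have hRZ : R ≤ center G := fun r hr => mem_center_iff.mpr fun g =>
      (mem_centralizer_iff.mp (hC ▸ mem_top g : g ∈ centralizer (R : Set G)) r hr).symm
    have hR1 : Nat.card R ≠ 1 := fun h => hNbot (le_bot_iff.mp ((Subgroup.eq_bot_of_card_eq R h) ▸ hNR))
    obtain ⟨q, hq, hqR⟩ := Nat.exists_prime_and_dvd hR1
    haveI : Fact q.Prime := ⟨hq⟩
    let Q : Sylow q G := default
    obtain ⟨z, hz⟩ := exists_prime_orderOf_dvd_card' (G := R) q hqR
    have hzp : IsPGroup q (zpowers (z : G)) := IsPGroup.of_card (n := 1) (by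
      rw [Nat.card_zpowers, Subgroup.orderOf_coe, hz, pow_one])
    have hzQ : (z : G) ∈ (Q : Subgroup G) := by
      obtain ⟨T, hT⟩ := hzp.exists_le_sylow
      obtain ⟨g, hg⟩ := MulAction.exists_smul_eq G T Q
      rw [← hg, Sylow.coe_subgroup_smul, Subgroup.mem_pointwise_smul_iff_inv_smul_mem]
      have hc : g⁻¹ * (z : G) * g = z := by
        rw [mul_assoc, ← mem_center_iff.mp (hRZ z.2) g, inv_mul_cancel_left]
      simpa [MulAut.smul_def, hc] using hT (mem_zpowers (z : G))
    have hz1 : (z : G) ≠ 1 := by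
      intro h
      rw [← Subgroup.orderOf_coe, h, orderOf_one] at hz
      exact hq.one_lt.ne hz
    have hmem := central_mem_derived hperf Q z hzQ (hRZ z.2)
    have hQnc : ¬ IsMulCommutative (Q : Subgroup G) := by
      intro hc
      have : commutator (Q : Subgroup G) = ⊥ := by
        rw [eq_bot_iff, commutator_def, Subgroup.commutator_le]
        intro a _ b _
        rw [Subgroup.mem_bot, commutatorElement_eq_one_iff_mul_comm]
        exact hc.is_comm.comm a b
      rw [this, Subgroup.mem_bot] at hmem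
      exact hz1 (congrArg Subtype.val hmem)
    have hNQ := hS _ hQnc
    have hsub : ∀ S : Subgroup (Q : Subgroup G), S ≠ ⊤ → IsMulCommutative S := by
      intro S hSt
      by_contra hSc
      have hSc' : ¬ IsMulCommutative (S.map (Q : Subgroup G).subtype) := fun h => hSc ⟨⟨fun a b => by
        apply Subtype.ext; apply Subtype.ext
        have := congrArg Subtype.val (h.is_comm.comm (⟨_, mem_map_of_mem _ a.2⟩ : S.map (Q : Subgroup G).subtype)
          ⟨_, mem_map_of_mem _ b.2⟩)
        simpa using this⟩⟩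
      obtain ⟨u, hu, huS⟩ := SetLike.exists_of_lt (PGroupsBasic.lt_normalizer Q.isPGroup' hSt)
      have hu' : (u : G) ∈ normalizer ((S.map (Q : Subgroup G).subtype : Subgroup G) : Set G) :=
        Subgroup.le_normalizer_map (Q : Subgroup G).subtype ⟨u, hu, rfl⟩
      rw [hS _ hSc'] at hu'
      obtain ⟨s, hs, hsu⟩ := hu'
      exact huS (Subtype.ext hsu ▸ hs)
    have hder := card_derived_le Q.isPGroup' hsub
    have hder' : commutator (Q : Subgroup G) ≤ R.subgroupOf (Q : Subgroup G) := by
      have hle : zpowers (⟨(z : G), hzQ⟩ : (Q : Subgroup G)) ≤ commutator (Q : Subgroup G) :=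
        zpowers_le.mpr hmem
      have heq := Subgroup.eq_of_le_of_card_ge hle (hder.trans (le_of_eq (by
        rw [Nat.card_zpowers, Subgroup.orderOf_mk, Subgroup.orderOf_coe, hz])))
      rw [← heq, zpowers_le]
      exact z.2
    have hsurj := QuotientGroup.mk'_surjective R
    let Qb : Sylow q (G ⧸ R) := Q.mapSurjective hsurj
    have hQb : (Qb : Subgroup (G ⧸ R)) = (Q : Subgroup G).map (QuotientGroup.mk' R) :=
      Sylow.coe_mapSurjective hsurj Q
    have hcomm : ∀ a ∈ (Qb : Subgroup (G ⧸ R)), ∀ b ∈ (Qb : Subgroup (G ⧸ R)), a * b = b * a := by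
      rw [hQb]
      rintro _ ⟨a, ha, rfl⟩ _ ⟨b, hb, rfl⟩
      rw [← commutatorElement_eq_one_iff_mul_comm, ← map_commutatorElement, QuotientGroup.mk'_apply,
        QuotientGroup.eq_one_iff]
      exact hder' (Subgroup.commutator_mem_commutator (mem_top (⟨a, ha⟩ : (Q : Subgroup G))) (mem_top ⟨b, hb⟩))
    have hne : (Qb : Subgroup (G ⧸ R)) ≠ ⊥ := by
      rw [hQb, Ne, Subgroup.map_eq_bot_iff, QuotientGroup.ker_mk']
      intro hQR
      exact hQnc ⟨⟨fun a b => Subtype.ext (mem_center_iff.mp (hRZ (hQR b.2)) a)⟩⟩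
    refine not_normalizer_le_centralizer hperf' Qb hne ?_
    have hn := hquot (Qb : Subgroup (G ⧸ R)) (fun h => hQnc ⟨⟨fun a b => by
      apply Subtype.ext
      have ha : (a : G) ∈ (Qb : Subgroup (G ⧸ R)).comap (QuotientGroup.mk' R) := by
        rw [mem_comap, hQb]; exact mem_map_of_mem _ a.2
      have hb : (b : G) ∈ (Qb : Subgroup (G ⧸ R)).comap (QuotientGroup.mk' R) := by
        rw [mem_comap, hQb]; exact mem_map_of_mem _ b.2
      have := congrArg Subtype.val (h.is_comm.comm (⟨_, ha⟩ : (Qb : Subgroup (G ⧸ R)).comap (QuotientGroup.mk' R)) ⟨_, hb⟩)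
      simpa using this⟩⟩)
    rw [hn]
    exact fun b hb => mem_centralizer_iff.mpr fun a ha => hcomm a ha b hb
  · -- `R` is self-centralizing
    have hCR : centralizer (R : Set G) ≤ R := hRmax ⟨hCn, hC⟩ hRC
    haveI : Nontrivial (G ⧸ R) := QuotientGroup.nontrivial_iff.mpr hRt
    obtain ⟨q, hq, hqd⟩ := Nat.exists_prime_and_dvd (n := Nat.card (G ⧸ R)) (Finite.one_lt_card.ne')
    haveI : Fact q.Prime := ⟨hq⟩
    obtain ⟨y, hy⟩ := exists_prime_orderOf_dvd_card' (G := G ⧸ R) q hqd
    have hy1 : y ≠ 1 := by rintro rfl; rw [orderOf_one] at hy; exact hq.one_lt.ne hy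
    have hn := hquot (zpowers y) (by
      intro h
      obtain ⟨a, rfl⟩ := QuotientGroup.mk_surjective y
      refine hy1 ((QuotientGroup.eq_one_iff a).mpr (hCR (mem_centralizer_iff.mpr fun r hr => ?_)))
      exact congrArg Subtype.val (h.is_comm.comm
        (⟨r, by rw [mem_comap, QuotientGroup.mk'_apply, (QuotientGroup.eq_one_iff r).mpr hr]; exact one_mem _⟩ :
          (zpowers (a : G ⧸ R)).comap (QuotientGroup.mk' R))
        ⟨a, mem_zpowers _⟩))
    have hyp : IsPGroup q (zpowers y) := IsPGroup.of_card (n := 1) (by rw [Nat.card_zpowers, hy, pow_one])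
    obtain ⟨T, hT⟩ := hyp.exists_le_sylow
    have hTeq : (T : Subgroup (G ⧸ R)) = zpowers y := by
      by_contra hne
      have hlt : (zpowers y).subgroupOf (T : Subgroup (G ⧸ R)) ≠ ⊤ := by
        rw [Ne, Subgroup.subgroupOf_eq_top]
        exact fun h => hne (le_antisymm h hT)
      obtain ⟨u, hu, huy⟩ := SetLike.exists_of_lt (PGroupsBasic.lt_normalizer T.isPGroup' hlt)
      refine huy ?_
      rw [mem_subgroupOf, ← hn, mem_normalizer_iff]
      intro w
      by_cases hw : w ∈ (T : Subgroup (G ⧸ R))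
      · exact (mem_normalizer_iff.mp hu ⟨w, hw⟩)
      · constructor
        · intro h; exact absurd (hT h) hw
        · intro h
          refine absurd ?_ hw
          have := mul_mem (mul_mem (inv_mem u.2) (hT h)) u.2
          simpa [mul_assoc] using this
    refine not_normalizer_le_centralizer hperf' T (by rw [hTeq]; simpa using hy1) ?_
    rw [hTeq, hn]
    intro b hb
    rw [mem_centralizer_iff]
    intro a ha
    have ha' : a ∈ zpowers y := hTeq ▸ ha
    exact congrArg Subtype.val (mul_comm' (⟨a, ha'⟩ : zpowers y) ⟨b, hb⟩)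

end Cfsg.Agent.S4072
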