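import Cfsg.Statements.S4074
import Mathlib

set_option autoImplicit false
open Cfsg

namespace Cfsg.Agent.S4074

open DihedralGroup in
theorem dihedral_even_counterexample (m : ℕ) (hm : 2 < m) :
    ∃ H : Subgroup (DihedralGroup (2 * m)), ¬ IsMulCommutative H ∧
      Subgroup.normalizer (H : Set (DihedralGroup (2 * m))) ≠ H := by
  haveI : NeZero (2 * m) := ⟨by omega⟩
  let φ : ZMod (2 * m) →+* ZMod 2 := ZMod.castHom (dvd_mul_right 2 m) (ZMod 2)
  let H : Subgroup (DihedralGroup (2 * m)) :=
    { carrier := {g | match g with
        | DihedralGroup.r i => φ i = 0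
        | DihedralGroup.sr i => φ i = 0}
      one_mem' := by
        show φ 0 = 0
        exact map_zero φ
      mul_mem' := by
        rintro (a | a) (b | b) (ha : φ a = 0) (hb : φ b = 0) <;>
          simp [ha, hb, map_add, map_sub]
      inv_mem' := by
        rintro (a | a) (ha : φ a = 0)
        · show φ (-a) = 0
          simp [ha]
        · exact ha }
  refine ⟨H, ?_, ?_⟩
  · intro h
    have h2 : φ 2 = 0 := by
      rw [show (2 : ZMod (2 * m)) = ((2 : ℕ) : ZMod (2 * m)) by simp, map_natCast]; rfl
    have h1 : (r 2 : DihedralGroup (2 * m)) ∈ H := h2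
    have h0 : (sr 0 : DihedralGroup (2 * m)) ∈ H := map_zero φ
    have := congrArg Subtype.val (mul_comm' (⟨_, h1⟩ : H) (⟨_, h0⟩ : H))
    simp only [Subgroup.coe_mul, r_mul_sr, sr_mul_r, sr.injEq] at this
    have h4 : ((4 : ℕ) : ZMod (2 * m)) = 0 := by
      push_cast
      linear_combination -this
    have := Nat.le_of_dvd (by omega) ((ZMod.natCast_eq_zero_iff _ _).mp h4)
    omega
  · intro h
    have : (r 1 : DihedralGroup (2 * m)) ∈ Subgroup.normalizer (H : Set (DihedralGroup (2 * m))) := by
      rw [Subgroup.mem_normalizer_iff]
      rintro (a | a)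
      · show φ a = 0 ↔ φ _ = 0
        simp
      · show φ a = 0 ↔ φ _ = 0
        simp only [map_sub, map_add, map_neg, map_one]
        generalize φ a = x
        revert x
        decide
    rw [h] at this
    have : φ 1 = 0 := this
    simp at this

/-- For n > 2, every non-abelian subgroup of the dihedral group of order 2n is self-normalizing if and only if n = 4 or n is odd. -/
theorem result (n : ℕ) (hn : 2 < n) :
    (∀ H : Subgroup (DihedralGroup n), ¬ IsMulCommutative H → Subgroup.normalizer (H : Set (DihedralGroup n)) = H) ↔
    (n = 4 ∨ Odd n) := by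
  open DihedralGroup in
  haveI : NeZero n := ⟨by omega⟩
  constructor
  · intro h
    by_contra hc
    push Not at hc
    obtain ⟨hn4, hodd⟩ := hc
    obtain ⟨m, rfl⟩ := even_iff_two_dvd.mp (Nat.not_odd_iff_even.mp hodd)
    obtain ⟨H, h1, h2⟩ := dihedral_even_counterexample m (by omega)
    exact h2 (h H h1)
  · intro hn H hH
    rcases hn with rfl | hodd
    · have hcard : Nat.card (DihedralGroup 4) = 8 := DihedralGroup.nat_card
      have hd : Nat.card H ∣ 2 ^ 3 := by
        have h := Subgroup.card_subgroup_dvd_card H
        rw [hcard] at h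
        exact h
      obtain ⟨k, hk, hk'⟩ := (Nat.dvd_prime_pow Nat.prime_two).mp hd
      haveI : Fact (Nat.Prime 2) := ⟨Nat.prime_two⟩
      interval_cases k
      · exact absurd (by
          haveI : Subsingleton H := (Nat.card_eq_one_iff_unique.mp hk').1
          exact ⟨⟨fun a b => Subsingleton.elim _ _⟩⟩) hH
      · haveI := isCyclic_of_prime_card (α := H) (p := 2) (by simpa using hk')
        exact absurd IsCyclic.isMulCommutative hH
      · exact absurd (IsPGroup.isMulCommutative_of_card_eq_prime_sq hk') hH
      · have : H = ⊤ := Subgroup.eq_top_of_card_eq H (by rw [hk', hcard]; norm_num)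
        subst this
        exact eq_top_iff.mpr Subgroup.le_normalizer
    · refine le_antisymm ?_ Subgroup.le_normalizer
      have hrefl : ∃ i, (DihedralGroup.sr i : DihedralGroup n) ∈ H := by
        by_contra hno
        push Not at hno
        refine hH ⟨⟨fun a b => Subtype.ext ?_⟩⟩
        obtain ⟨a | a, ha⟩ := a
        · obtain ⟨b | b, hb⟩ := b
          · simp [add_comm]
          · exact absurd hb (hno b)
        · exact absurd ha (hno a)
      obtain ⟨i, hi⟩ := hrefl
      obtain ⟨t, ht⟩ := hodd
      have key : ∀ j : ZMod n, (DihedralGroup.r j : DihedralGroup n) ∈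
          Subgroup.normalizer (H : Set (DihedralGroup n)) → DihedralGroup.r j ∈ H := by
        intro j hj
        have h1 := (Subgroup.mem_normalizer_iff.mp hj _).mp hi
        have h2 := H.mul_mem h1 hi
        rw [DihedralGroup.inv_r, DihedralGroup.r_mul_sr, DihedralGroup.sr_mul_r,
          DihedralGroup.sr_mul_sr] at h2
        have h3 := H.pow_mem h2 (t + 1)
        have hjn : ((2 * t + 1 : ℕ) : ZMod n) * j = 0 := by
          rw [← ht, ZMod.natCast_self, zero_mul]
        have hr : ∀ (a : ZMod n) (k : ℕ), (DihedralGroup.r a : DihedralGroup n) ^ k = DihedralGroup.r ((k : ZMod n) * a) := by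
          intro a k
          induction k with
          | zero => simp
          | succ k ih => rw [pow_succ, ih, DihedralGroup.r_mul_r]; push_cast; ring_nf
        rw [hr] at h3
        convert h3 using 2
        push_cast at hjn ⊢
        linear_combination (-1 : ZMod n) * hjn
      intro g hg
      rcases g with a | a
      · exact key a hg
      · have h1 : (DihedralGroup.sr i : DihedralGroup n) * DihedralGroup.sr a ∈
            Subgroup.normalizer (H : Set (DihedralGroup n)) :=
          mul_mem (Subgroup.le_normalizer hi) hg
        rw [DihedralGroup.sr_mul_sr] at h1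
        have h2 := H.mul_mem hi (key _ h1)
        rw [DihedralGroup.sr_mul_r, add_sub_cancel] at h2
        exact h2

end Cfsg.Agent.S4074
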