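import Cfsg.Statements.S4075
-- import your own Cfsg.Agent.* helpers here

set_option autoImplicit false
open Cfsg

namespace Cfsg.Agent.S4075

/-- Let G be a finite nilpotent group. Every non-abelian subgroup of G is self-normalizing if and only if G is abelian or G is a minimal non-abelian p-group for some prime p (non-abelian of prime-power order with every proper subgroup abelian). -/
theorem result {G : Type*} [Group G] [Finite G]
    [Group.IsNilpotent G] :
    (∀ H : Subgroup G, ¬ IsMulCommutative H → Subgroup.normalizer (H : Set G) = H) ↔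
    (IsMulCommutative G ∨ (IsPrimePow (Nat.card G) ∧ ¬ IsMulCommutative G ∧ ∀ H : Subgroup G, H ≠ ⊤ → IsMulCommutative H)) := by
  constructor
  · intro h
    by_cases hG : IsMulCommutative G
    · exact Or.inl hG
    refine Or.inr ?_
    have hprop : ∀ H : Subgroup G, H ≠ ⊤ → IsMulCommutative H := by
      intro H hH
      by_contra hna
      have := Group.normalizerCondition_of_isNilpotent (G := G) H (lt_top_iff_ne_top.2 hH)
      rw [h H hna] at this
      exact lt_irrefl _ this
    refine ⟨?_, hG, hprop⟩
    by_contra hpp
    apply hG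
    have hPtop : ∀ (p : ℕ) [Fact p.Prime] (P : Sylow p G), (P : Subgroup G) ≠ ⊤ := by
      intro p hp P htop
      obtain ⟨n, hn⟩ := IsPGroup.iff_card.1 P.isPGroup'
      rw [htop, Subgroup.card_top] at hn
      rcases Nat.eq_zero_or_pos n with h0 | h0
      · rw [h0, pow_zero] at hn
        haveI := (Nat.card_eq_one_iff_unique.1 hn).1
        exact hG ⟨⟨fun a b => Subsingleton.elim _ _⟩⟩
      · exact hpp ⟨p, n, hp.out.prime, h0, hn.symm⟩
    have hle : ∀ (p : ℕ) [Fact p.Prime] (P : Sylow p G), (P : Subgroup G) ≤ Subgroup.center G := by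
      intro p _ P x hx
      have htop : Subgroup.centralizer ({x} : Set G) = ⊤ := by
        rw [← Subgroup.index_eq_one]
        by_contra hne
        obtain ⟨q, hq, hqd⟩ := Nat.exists_prime_and_dvd hne
        haveI := Fact.mk hq
        obtain ⟨Q⟩ : Nonempty (Sylow q G) := inferInstance
        apply Q.not_dvd_index
        refine hqd.trans (Subgroup.index_dvd_of_le ?_)
        intro y hy
        rw [Subgroup.mem_centralizer_singleton_iff]
        rcases eq_or_ne p q with rfl | hne'
        · haveI := Sylow.unique_of_normal P inferInstance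
          obtain rfl : Q = P := Subsingleton.elim _ _
          haveI := hprop _ (hPtop p Q)
          exact congrArg Subtype.val (mul_comm' (⟨y, hy⟩ : (Q : Subgroup G)) ⟨x, hx⟩)
        · exact (Subgroup.commute_of_normal_of_disjoint _ _ inferInstance inferInstance
            (IsPGroup.disjoint_of_ne _ _ (Ne.symm hne') _ _ Q.isPGroup' P.isPGroup') y x hy hx).eq
      rw [Subgroup.mem_center_iff]
      intro g
      have hg : g ∈ Subgroup.centralizer ({x} : Set G) := htop ▸ Subgroup.mem_top g
      exact (Subgroup.mem_centralizer_singleton_iff.1 hg)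
    have hc : Subgroup.center G = ⊤ := by
      rw [← Subgroup.index_eq_one]
      by_contra hne
      obtain ⟨q, hq, hqd⟩ := Nat.exists_prime_and_dvd hne
      haveI := Fact.mk hq
      obtain ⟨Q⟩ : Nonempty (Sylow q G) := inferInstance
      exact Q.not_dvd_index (hqd.trans (Subgroup.index_dvd_of_le (hle q Q)))
    exact ⟨⟨fun a b => (Subgroup.mem_center_iff.1 (hc ▸ Subgroup.mem_top b) a)⟩⟩
  · rintro (hG | ⟨-, -, hprop⟩) H hH
    · exact absurd (inferInstance : IsMulCommutative H) hH
    · by_cases hT : H = ⊤
      · subst hT
        exact top_le_iff.1 Subgroup.le_normalizer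
      · exact absurd (hprop H hT) hH

end Cfsg.Agent.S4075
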