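import Cfsg.Statements.S4078
import Cfsg.Agent.Lib.TwoGenCriterion45
import Cfsg.Agent.S0205

set_option autoImplicit false
open Cfsg

namespace Cfsg.Agent.S4078

universe u

/-- Every solubilizer is a subgroup. -/
def Sols (G : Type u) [Group G] : Prop :=
  ∀ x : G, ∃ H : Subgroup G, ∀ y : G, y ∈ H ↔ Group.IsSolvable (Subgroup.closure ({x, y} : Set G))

theorem solvable_map_iff {X Y : Type u} [Group X] [Group Y] (f : X →* Y)
    (hf : Function.Injective f) (a b : X) :
    Group.IsSolvable (Subgroup.closure ({a, b} : Set X)) ↔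
      Group.IsSolvable (Subgroup.closure ({f a, f b} : Set Y)) := by
  have e : (Subgroup.closure ({a, b} : Set X)).map f = Subgroup.closure ({f a, f b} : Set Y) := by
    rw [MonoidHom.map_closure, Set.image_pair]
  rw [← e]
  constructor
  · intro _
    exact Group.isSolvable_of_surjective (f := f.subgroupMap _) (MonoidHom.subgroupMap_surjective _ _)
  · intro _
    exact Group.isSolvable_of_surjective
      (f := ((Subgroup.closure ({a, b} : Set X)).equivMapOfInjective f hf).symm.toMonoidHom)
      (MulEquiv.surjective _)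

theorem sols_subgroup {X : Type u} [Group X] (K : Subgroup X) (h : Sols X) : Sols K := by
  intro x
  obtain ⟨H, hH⟩ := h (x : X)
  exact ⟨H.subgroupOf K, fun y => by
    rw [Subgroup.mem_subgroupOf, hH]
    exact (solvable_map_iff K.subtype K.subtype_injective x y).symm⟩

theorem solvable_quotient_iff {X : Type u} [Group X] [Finite X] (N : Subgroup X) [N.Normal]
    [Group.IsSolvable N] (a b : X) :
    Group.IsSolvable (Subgroup.closure ({a, b} : Set X)) ↔
      Group.IsSolvable
        (Subgroup.closure ({QuotientGroup.mk' N a, QuotientGroup.mk' N b} : Set (X ⧸ N))) := by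
  set C := Subgroup.closure ({a, b} : Set X)
  have e : C.map (QuotientGroup.mk' N) =
      Subgroup.closure ({QuotientGroup.mk' N a, QuotientGroup.mk' N b} : Set (X ⧸ N)) := by
    rw [MonoidHom.map_closure, Set.image_pair]
  rw [← e]
  constructor
  · intro _
    exact Group.isSolvable_of_surjective (f := (QuotientGroup.mk' N).subgroupMap _)
      (MonoidHom.subgroupMap_surjective _ _)
  · intro _
    refine Group.isSolvable_of_ker_le_range
      (Subgroup.inclusion (inf_le_left : C ⊓ N ≤ C)) ((QuotientGroup.mk' N).subgroupMap C) ?_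
      (hG' := Group.isSolvable_of_isSolvable_injective
        (Subgroup.inclusion_injective (inf_le_right : C ⊓ N ≤ N)))
    intro c hc
    have h1 : QuotientGroup.mk' N (c : X) = 1 := congrArg Subtype.val hc
    exact ⟨⟨c, c.2, (QuotientGroup.eq_one_iff _).mp h1⟩, rfl⟩

theorem sols_quotient {X : Type u} [Group X] [Finite X] (N : Subgroup X) [N.Normal]
    [Group.IsSolvable N] (h : Sols X) : Sols (X ⧸ N) := by
  intro x
  obtain ⟨a, rfl⟩ := QuotientGroup.mk'_surjective N x
  obtain ⟨H, hH⟩ := h a
  refine ⟨H.map (QuotientGroup.mk' N), fun y => ?_⟩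
  obtain ⟨b, rfl⟩ := QuotientGroup.mk'_surjective N y
  rw [← solvable_quotient_iff]
  constructor
  · rintro ⟨c, hc, e⟩
    rw [solvable_quotient_iff N a b, ← e, ← solvable_quotient_iff]
    exact (hH c).mp hc
  · exact fun hb => ⟨b, (hH b).mpr hb, rfl⟩

theorem solvable_of_involutions {X : Type u} [Group X] {s t : X} (hs : s * s = 1) (ht : t * t = 1) :
    Group.IsSolvable (Subgroup.closure ({s, t} : Set X)) := by
  have hs' : s⁻¹ = s := inv_eq_of_mul_eq_one_left hs
  have ht' : t⁻¹ = t := inv_eq_of_mul_eq_one_left ht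
  set C := Subgroup.closure ({s, t} : Set X)
  set R := Subgroup.zpowers (s * t)
  have hsC : s ∈ C := Subgroup.subset_closure (by simp)
  have htC : t ∈ C := Subgroup.subset_closure (by simp)
  have hRC : R ≤ C := Subgroup.zpowers_le.mpr (mul_mem hsC htC)
  have hnorm : C ≤ Subgroup.normalizer (R : Set X) := by
    rw [Subgroup.closure_le]
    have key : ∀ g : X, g * g = 1 → g * (s * t) * g⁻¹ = (s * t)⁻¹ → g ∈ Subgroup.normalizer (R : Set X) := by
      intro g hg he
      have hk : ∀ n ∈ R, g * n * g⁻¹ ∈ R := by
        rintro _ ⟨i, rfl⟩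
        show g * (s * t) ^ i * g⁻¹ ∈ R
        rw [← conj_zpow, he]
        exact zpow_mem (inv_mem (Subgroup.mem_zpowers _)) i
      refine Subgroup.mem_normalizer_iff.mpr fun n => ⟨hk n, fun hn => ?_⟩
      have hg' : g⁻¹ = g := inv_eq_of_mul_eq_one_left hg
      have h2 := hk _ hn
      rwa [hg', show g * (g * n * g) * g = (g * g) * n * (g * g) by group, hg, one_mul, mul_one] at h2
    rintro g (rfl | rfl)
    · exact key g hs (by rw [hs', mul_inv_rev, hs', ht', ← mul_assoc, hs, one_mul])
    · exact key g ht (by rw [ht', mul_inv_rev, hs', ht', mul_assoc, mul_assoc, ht, mul_one])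
  haveI : (R.subgroupOf C).Normal := Subgroup.normal_subgroupOf_of_le_normalizer hnorm
  haveI : Group.IsSolvable (R.subgroupOf C) := Group.isSolvable_of_comm fun u v => by
    obtain ⟨i, hi⟩ := Subgroup.mem_zpowers_iff.mp (Subgroup.mem_subgroupOf.mp u.2)
    obtain ⟨j, hj⟩ := Subgroup.mem_zpowers_iff.mp (Subgroup.mem_subgroupOf.mp v.2)
    refine Subtype.ext (Subtype.ext ?_)
    rw [Subgroup.coe_mul, Subgroup.coe_mul, Subgroup.coe_mul, Subgroup.coe_mul, ← hi, ← hj,
      zpow_mul_comm]
  haveI : Group.IsSolvable (C ⧸ R.subgroupOf C) := by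
    set π := QuotientGroup.mk' (R.subgroupOf C)
    set z := π ⟨s, hsC⟩
    have htz : π ⟨t, htC⟩ = z⁻¹ := by
      rw [eq_inv_iff_mul_eq_one, ← map_mul, QuotientGroup.mk'_apply, QuotientGroup.eq_one_iff]
      show t * s ∈ R
      have h3 := inv_mem (Subgroup.mem_zpowers (s * t))
      rwa [mul_inv_rev, hs', ht'] at h3
    refine Group.isSolvable_of_comm fun u v => ?_
    have hall : ∀ w : C ⧸ R.subgroupOf C, w ∈ Subgroup.zpowers z := by
      intro w
      obtain ⟨⟨c, hc⟩, rfl⟩ := QuotientGroup.mk'_surjective _ w
      induction hc using Subgroup.closure_induction with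
      | mem g hg =>
        rcases hg with rfl | rfl
        · exact Subgroup.mem_zpowers _
        · exact htz ▸ inv_mem (Subgroup.mem_zpowers _)
      | one => exact one_mem _
      | mul g g' hg hg' ih ih' => exact mul_mem ih ih'
      | inv g hg ih => exact inv_mem ih
    obtain ⟨i, hi⟩ := Subgroup.mem_zpowers_iff.mp (hall u)
    obtain ⟨j, hj⟩ := Subgroup.mem_zpowers_iff.mp (hall v)
    rw [← hi, ← hj, zpow_mul_comm]
  exact Group.isSolvable_of_ker_le_range (R.subgroupOf C).subtype
    (QuotientGroup.mk' (R.subgroupOf C)) (by simp)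


/-- For an element x of a finite group G let Sol(x) be the set of y ∈ G such that x and y generate a solvable subgroup. Then G is solvable if and only if Sol(x) is (the carrier of) a subgroup of G for every x ∈ G. -/
theorem result {G : Type*} [Group G] [Finite G] :
    Group.IsSolvable G ↔ ∀ x : G, ∃ H : Subgroup G, (H : Set G) = {y : G | Group.IsSolvable ↥(Subgroup.closure ({x, y} : Set G))} := by
  constructor
  · intro hG x
    haveI := hG
    exact ⟨⊤, Set.ext fun y => iff_of_true trivial
      (show Group.IsSolvable (Subgroup.closure ({x, y} : Set G)) from inferInstance)⟩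
  intro h
  refine TwoGen45.isSolvable_of_hereditary (fun X _ => Sols X)
    (fun X _ _ K hX => sols_subgroup K hX) (fun X _ _ N _ _ hX => sols_quotient N hX)
    (fun X _ _ hX hsimple hns hproper => ?_) G fun x => ?_
  · obtain ⟨a, b, hab⟩ := TwoGen45.exists_pair_generators hsimple hns hproper
    -- all involutions lie in every solubilizer of an involution
    set T := {t : X | t * t = 1}
    have hT : Subgroup.closure T = ⊤ := by
      have hn : (Subgroup.closure T).Normal := by
        have hconj : ∀ (g n : X), n ∈ Subgroup.closure T → g * n * g⁻¹ ∈ Subgroup.closure T := by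
          intro g n hn
          induction hn using Subgroup.closure_induction with
          | mem t ht => exact Subgroup.subset_closure (show g * t * g⁻¹ * (g * t * g⁻¹) = 1 by
              rw [show g * t * g⁻¹ * (g * t * g⁻¹) = g * (t * t) * g⁻¹ by group, ht]; group)
          | one => simp
          | mul u v _ _ hu hv => simpa [mul_assoc] using mul_mem hu hv
          | inv u _ hu => simpa [mul_assoc] using inv_mem hu
        exact ⟨fun n hn g => hconj g n hn⟩
      refine (hsimple.eq_bot_or_eq_top_of_normal _ hn).resolve_left fun hbot => hns ?_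
      refine Cfsg.Agent.S0205.result ?_
      refine Nat.not_even_iff_odd.mp fun heven => ?_
      haveI : Fact (Nat.Prime 2) := ⟨Nat.prime_two⟩
      obtain ⟨t, ht⟩ := exists_prime_orderOf_dvd_card' 2 heven.two_dvd
      have htT : t * t = 1 := by rw [← sq]; exact orderOf_dvd_iff_pow_eq_one.mp (dvd_of_eq ht)
      have h1 : t ∈ Subgroup.closure T := Subgroup.subset_closure htT
      rw [hbot, Subgroup.mem_bot] at h1
      rw [h1, orderOf_one] at ht
      exact absurd ht (by norm_num)
    have hinv : ∀ t ∈ T, ∀ y : X, Group.IsSolvable (Subgroup.closure ({t, y} : Set X)) := by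
      intro t ht y
      obtain ⟨H, hH⟩ := hX t
      have : Subgroup.closure T ≤ H :=
        (Subgroup.closure_le H).mpr fun u hu => (hH u).mpr (solvable_of_involutions ht hu)
      exact (hH y).mp (this (hT ▸ Subgroup.mem_top y))
    obtain ⟨H, hH⟩ := hX a
    have : Subgroup.closure T ≤ H :=
      (Subgroup.closure_le H).mpr fun u hu => (hH u).mpr (Set.pair_comm u a ▸ hinv u hu a)
    haveI := (hH b).mp (this (hT ▸ Subgroup.mem_top b))
    apply hns
    haveI : Group.IsSolvable (⊤ : Subgroup X) := by rw [← hab]; infer_instance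
    exact Group.isSolvable_of_surjective
      (f := (Subgroup.topEquiv : (⊤ : Subgroup X) ≃* X).toMonoidHom) Subgroup.topEquiv.surjective
  · obtain ⟨H, hH⟩ := h x
    exact ⟨H, fun y => Set.ext_iff.mp hH y⟩

end Cfsg.Agent.S4078
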