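import Cfsg.Statements.S4080
import Mathlib

set_option autoImplicit false
open Cfsg

namespace Cfsg.Agent.S4080

open Matrix in
theorem nilpotent_two {F : Type*} [Field F] (D : Matrix (Fin 2) (Fin 2) F) (n : ℕ) (h : D ^ n = 0) :
    D ^ 2 = 0 := by
  rcases Nat.eq_zero_or_pos n with rfl | hn
  · simp at h
  have hdet : D.det = 0 := by
    have := congrArg Matrix.det h
    rw [Matrix.det_pow, Matrix.det_zero] at this
    exact pow_eq_zero_iff hn.ne' |>.1 this
  have hsq : D ^ 2 = D.trace • D := by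
    rw [Matrix.det_fin_two] at hdet
    ext i j
    fin_cases i <;> fin_cases j <;>
      simp [pow_two, Matrix.mul_apply, Fin.sum_univ_two, Matrix.trace_fin_two] <;>
      first | linear_combination hdet | linear_combination -hdet | ring
  have hpow : ∀ k, D ^ (k + 1) = D.trace ^ k • D := by
    intro k
    induction k with
    | zero => simp
    | succ k ih => rw [pow_succ, ih, smul_mul_assoc, ← pow_two, hsq, smul_smul, pow_succ]
  obtain ⟨k, rfl⟩ : ∃ k, n = k + 1 := ⟨n - 1, by omega⟩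
  rw [hpow, smul_eq_zero] at h
  rw [hsq]
  rcases h with h | h
  · rw [(pow_eq_zero_iff').1 h |>.1, zero_smul]
  · rw [h, smul_zero]

theorem dvd_of_mul_eq_zero {p : ℕ} [Fact p.Prime] (x : ZMod (p ^ 2)) (h : (p : ZMod (p ^ 2)) * x = 0) :
    ∃ y : ZMod (p ^ 2), x = (p : ZMod (p ^ 2)) * y := by
  rw [← ZMod.natCast_zmod_val x, ← Nat.cast_mul, ZMod.natCast_eq_zero_iff] at h
  have h' : p * p ∣ p * x.val := (pow_two p).symm.dvd.trans h
  obtain ⟨y, hy⟩ := Nat.dvd_of_mul_dvd_mul_left (Fact.out : p.Prime).pos h'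
  exact ⟨(y : ZMod (p ^ 2)), by rw [← ZMod.natCast_zmod_val x, hy, Nat.cast_mul]⟩

theorem dvd_of_cast_eq_zero {p : ℕ} [Fact p.Prime] (x : ZMod (p ^ 2))
    (h : ZMod.castHom (dvd_pow_self p two_ne_zero) (ZMod p) x = 0) : ∃ y : ZMod (p ^ 2), x = (p : ZMod (p ^ 2)) * y := by
  rw [← ZMod.natCast_zmod_val x, map_natCast, ZMod.natCast_eq_zero_iff] at h
  obtain ⟨y, hy⟩ := h
  exact ⟨(y : ZMod (p ^ 2)), by rw [← ZMod.natCast_zmod_val x, hy, Nat.cast_mul]⟩

theorem matrix_core {p : ℕ} [Fact p.Prime] (hp : 3 < p) (A : Matrix (Fin 2) (Fin 2) (ZMod (p ^ 2)))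
    (hA : A ^ p = 1) : (p : Matrix (Fin 2) (Fin 2) (ZMod (p ^ 2))) * (A - 1) = 0 := by
  set D := A - 1 with hD
  set π := (ZMod.castHom (dvd_pow_self p two_ne_zero) (ZMod p)).mapMatrix (m := Fin 2) with hπ
  have hpD : (π D) ^ p = 0 := by
    rw [hD, map_sub, map_one, sub_pow_char_of_commute _ (Commute.one_right (π A)), ← map_pow, hA, map_one,
      one_pow, sub_self]
  have h2 := nilpotent_two (π D) p hpD
  obtain ⟨E, hE⟩ : ∃ E, D ^ 2 = (p : Matrix (Fin 2) (Fin 2) (ZMod (p ^ 2))) * E := by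
    rw [← map_pow] at h2
    choose E hE using fun i j => dvd_of_cast_eq_zero ((D ^ 2) i j) (congrFun (congrFun h2 i) j)
    refine ⟨Matrix.of E, ?_⟩
    ext i j
    rw [hE i j, ← nsmul_eq_mul, ← nsmul_eq_mul, Matrix.smul_apply, Matrix.of_apply]
  have hpp : ((p : ℕ) : Matrix (Fin 2) (Fin 2) (ZMod (p ^ 2))) * (p : Matrix (Fin 2) (Fin 2) (ZMod (p ^ 2))) = 0 := by
    rw [← Nat.cast_mul, ← pow_two, ← map_natCast (Matrix.scalar (Fin 2)) (p ^ 2), ZMod.natCast_self, map_zero]
  have hp2 : (p : Matrix (Fin 2) (Fin 2) (ZMod (p ^ 2))) * D ^ 2 = 0 := by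
    rw [hE, ← mul_assoc, hpp, zero_mul]
  have hD4 : D ^ 4 = 0 := by
    rw [show 4 = 2 + 2 from rfl, pow_add, hE, mul_assoc, ← mul_assoc E,
      ← (Nat.cast_commute p E).eq, mul_assoc, ← mul_assoc (p : Matrix (Fin 2) (Fin 2) (ZMod (p ^ 2))), hpp,
      zero_mul]
  have hexp := (Commute.one_right D).add_pow p
  rw [show D + 1 = A by rw [hD]; abel, hA] at hexp
  rw [Finset.sum_eq_add_of_mem 0 1 (by simp) (Finset.mem_range.2 (by omega)) zero_ne_one] at hexp
  · simp only [pow_zero, one_pow, mul_one, Nat.choose_zero_right, Nat.cast_one, pow_one,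
      Nat.choose_one_right, left_eq_add] at hexp
    rw [(Nat.cast_commute p D).eq]
    exact hexp
  · intro k hk ⟨hk0, hk1⟩
    rw [one_pow, mul_one]
    rcases Nat.lt_or_ge k 4 with hk4 | hk4
    · obtain ⟨c, hc⟩ := (Fact.out : p.Prime).dvd_choose_self hk0 (by omega : k < p)
      obtain ⟨j, rfl⟩ : ∃ j, k = 2 + j := ⟨k - 2, by omega⟩
      rw [hc, Nat.cast_mul, ← mul_assoc, ← (Nat.cast_commute p (D ^ (2 + j))).eq, pow_add, ← mul_assoc,
        hp2, zero_mul, zero_mul]
    · rw [pow_eq_zero_of_le hk4 hD4, zero_mul]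

theorem apply_eq {p : ℕ} [Fact p.Prime] (hp : 3 < p)
    (f : Module.End (ZMod (p ^ 2)) (Fin 2 → ZMod (p ^ 2))) (hf : f ^ p = 1)
    (v : Fin 2 → ZMod (p ^ 2)) (hv : p • v = 0) : f v = v := by
  set A := LinearMap.toMatrixAlgEquiv' f with hA
  have h := matrix_core hp A (by rw [hA, ← map_pow, hf, map_one])
  choose u hu using fun i => dvd_of_mul_eq_zero (v i)
    (by rw [← nsmul_eq_mul]; exact congrFun hv i)
  have hvu : v = p • u := funext fun i => by rw [hu i, Pi.smul_apply, nsmul_eq_mul]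
  have h' : p • (f - 1) = 0 := by
    apply LinearMap.toMatrixAlgEquiv'.injective
    rw [map_nsmul, map_sub, map_one, map_zero, ← hA, nsmul_eq_mul, h]
  rw [← sub_eq_zero, hvu, map_nsmul, ← smul_sub]
  exact LinearMap.congr_fun h' u

/-- Let p > 3 be a prime and L the direct product of two cyclic groups of order p². Every automorphism of L of order p fixes every element of order p of L. -/
theorem result {p : ℕ} [Fact p.Prime] (hp : 3 < p)
    (a : MulAut (Multiplicative (ZMod (p ^ 2) × ZMod (p ^ 2)))) (ha : orderOf a = p)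
    (x : Multiplicative (ZMod (p ^ 2) × ZMod (p ^ 2))) (hx : orderOf x = p) : a x = x := by
  set e := (LinearEquiv.finTwoArrow (ZMod (p ^ 2)) (ZMod (p ^ 2)))
  let a' : (ZMod (p ^ 2) × ZMod (p ^ 2)) →+ (ZMod (p ^ 2) × ZMod (p ^ 2)) := MonoidHom.toAdditive a.toMonoidHom
  set f : Module.End (ZMod (p ^ 2)) (Fin 2 → ZMod (p ^ 2)) :=
    e.symm.toLinearMap ∘ₗ (a'.toZModLinearMap (p ^ 2)) ∘ₗ e.toLinearMap with hf
  have happ : ∀ v, f v = e.symm (Multiplicative.toAdd (a (Multiplicative.ofAdd (e v)))) := fun v => rfl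
  have hfp : ∀ (k : ℕ) v, (f ^ k) v = e.symm (Multiplicative.toAdd ((a ^ k) (Multiplicative.ofAdd (e v)))) := by
    intro k
    induction k with
    | zero => intro v; simp
    | succ k ih =>
      intro v
      rw [pow_succ f k, Module.End.mul_apply, ih, happ, LinearEquiv.apply_symm_apply, ofAdd_toAdd, pow_succ a k,
        MulAut.mul_apply]
  have hfp1 : f ^ p = 1 := by
    refine LinearMap.ext fun v => ?_
    rw [hfp, show a ^ p = 1 from (congrArg (a ^ ·) ha.symm).trans (pow_orderOf_eq_one a)]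
    simp
  have hx' : p • e.symm (Multiplicative.toAdd x) = 0 := by
    rw [← map_nsmul, ← toAdd_pow, show x ^ p = 1 from (congrArg (x ^ ·) hx.symm).trans (pow_orderOf_eq_one x), toAdd_one, map_zero]
  have := apply_eq hp f hfp1 _ hx'
  rw [happ, LinearEquiv.apply_symm_apply, ofAdd_toAdd] at this
  exact Multiplicative.toAdd.injective (e.symm.injective this)

end Cfsg.Agent.S4080
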