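import Mathlib
import Cfsg.Statements.S4081
import Cfsg.Agent.Lib.CharInducedBurnside

set_option autoImplicit false
open Cfsg Polynomial
open scoped IsMulCommutative

namespace Cfsg.Agent.S4081

section Linear

variable {p : ℕ} [Fact p.Prime] {V : Type*} [AddCommGroup V] [Module (ZMod p) V]

theorem semi_aeval (T : Module.End (ZMod p) V) (β : V ≃+ V) (k : ℕ)
    (h : ∀ u, β (T u) = (T ^ k) (β u)) (f : (ZMod p)[X]) (u : V) :
    β (aeval T f u) = aeval T (f.comp (X ^ k)) (β u) := by
  induction f using Polynomial.induction_on' with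
  | add f g hf hg => simp [hf, hg, add_comp, map_add]
  | monomial i a =>
    have hi : ∀ (i : ℕ) (u : V), β ((T ^ i) u) = (T ^ (k * i)) (β u) := by
      intro i
      induction i with
      | zero => intro u; simp
      | succ i ih =>
        intro u
        rw [pow_succ, Module.End.mul_apply, ih, h, Nat.mul_succ, pow_add, Module.End.mul_apply]
    simp [monomial_comp, aeval_monomial, ← pow_mul, ZMod.map_smul, hi]

/-- If semilinear symmetries of `T` are transitive on non-zero vectors, then a polynomial in `T`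
killing one non-zero vector is zero. -/
theorem aeval_eq_zero_of_apply_eq_zero [Finite V] (T : Module.End (ZMod p) V)
    (htrans : ∀ v w : V, v ≠ 0 → w ≠ 0 →
      ∃ β : V ≃+ V, ∃ k : ℕ, β v = w ∧ ∀ u, β (T u) = (T ^ k) (β u))
    (r : (ZMod p)[X]) {v : V} (hv : v ≠ 0) (hrv : aeval T r v = 0) : aeval T r = 0 := by
  set C : V → Set V := fun v => Set.range fun f : (ZMod p)[X] => aeval T f v with hC
  have hmono : ∀ v w, w ∈ C v → C w ⊆ C v := by
    rintro v _ ⟨f, rfl⟩ _ ⟨g, rfl⟩
    exact ⟨g * f, by simp⟩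
  have hcard : ∀ v w : V, v ≠ 0 → w ≠ 0 → (C v).ncard ≤ (C w).ncard := by
    intro v w hv hw
    obtain ⟨β, k, hβv, hβ⟩ := htrans v w hv hw
    refine Set.ncard_le_ncard_of_injOn β ?_ β.injective.injOn (Set.toFinite _)
    rintro _ ⟨f, rfl⟩
    exact ⟨f.comp (X ^ k), by simp [semi_aeval T β k hβ, hβv]⟩
  have hmin : ∀ v w : V, v ≠ 0 → w ≠ 0 → w ∈ C v → C w = C v := fun v w hv hw h =>
    Set.eq_of_subset_of_ncard_le (hmono v w h) (hcard v w hv hw) (Set.toFinite _)
  have hself : ∀ v, v ∈ C v := fun v => ⟨1, by simp⟩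
  refine LinearMap.ext fun w => ?_
  by_contra hw
  rw [LinearMap.zero_apply] at hw
  have hw0 : w ≠ 0 := fun h => hw (by simp [h])
  have hru : aeval T r (v + w) = aeval T r w := by simp [hrv]
  have hu0 : v + w ≠ 0 := fun h => hw (by rw [← hru, h, map_zero])
  have h1 : C (aeval T r w) = C w := hmin w _ hw0 hw ⟨r, rfl⟩
  have h2 : C (aeval T r w) = C (v + w) := hmin (v + w) _ hu0 hw ⟨r, hru⟩
  obtain ⟨f, hf⟩ : v + w ∈ C w := by rw [← h1, h2]; exact hself _
  simp only at hf
  have h3 : v ∈ C w := ⟨f - 1, by simp [hf]⟩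
  obtain ⟨g, hg⟩ : w ∈ C v := by rw [hmin w v hw0 hv h3]; exact hself w
  apply hw
  simp only at hg
  rw [← hg, ← Module.End.mul_apply, ← map_mul, mul_comm r g, map_mul, Module.End.mul_apply, hrv,
    map_zero]

theorem orderOf_cast_eq [Finite V] {q : ℕ} [Fact q.Prime] (hpq : p ≠ q) [Nontrivial V]
    (T : Module.End (ZMod p) V) (hT : T ^ q = 1) (hT1 : T ≠ 1)
    (hkill : ∀ (r : (ZMod p)[X]) (v : V), v ≠ 0 → aeval T r v = 0 → aeval T r = 0)
    (hconj : ∀ k : ℕ, ¬ q ∣ k → ∃ β : V ≃+ V, ∀ u, β (T u) = (T ^ k) (β u)) :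
    orderOf (p : ZMod q) = q - 1 := by
  have : Finite (Module.End (ZMod p) V) := Finite.of_injective _ DFunLike.coe_injective
  set J : Ideal (ZMod p)[X] := RingHom.ker (aeval T (R := ZMod p)).toRingHom with hJ
  have hmem : ∀ f, f ∈ J ↔ aeval T f = 0 := fun f => RingHom.mem_ker
  have hprime : J.IsPrime := by
    refine ⟨fun h => ?_, fun {f g} hfg => ?_⟩
    · have h1 := (hmem 1).1 (h ▸ Submodule.mem_top)
      rw [map_one] at h1
      obtain ⟨v, hv⟩ := exists_ne (0 : V)
      exact hv (LinearMap.congr_fun h1 v)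
    · rw [hmem, map_mul] at hfg
      simp only [hmem]
      by_contra! hne
      obtain ⟨v, hv⟩ : ∃ v, aeval T g v ≠ 0 := by
        by_contra! hall
        exact hne.2 (LinearMap.ext hall)
      exact hne.1 (hkill f _ hv (by simpa using LinearMap.congr_fun hfg v))
  have : Finite ((ZMod p)[X] ⧸ J) :=
    Finite.of_injective _ (RingHom.kerLift_injective (aeval T (R := ZMod p)).toRingHom)
  have : J.IsMaximal := Ideal.Quotient.maximal_of_isField _ (Finite.isField_of_domain _)
  letI : Field ((ZMod p)[X] ⧸ J) := Ideal.Quotient.field J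
  set ζ : (ZMod p)[X] ⧸ J := Ideal.Quotient.mkₐ (ZMod p) J X with hζdef
  have hmk : ∀ f, Ideal.Quotient.mkₐ (ZMod p) J f = 0 ↔ aeval T f = 0 := fun f => by
    rw [Ideal.Quotient.mkₐ_eq_mk, Ideal.Quotient.eq_zero_iff_mem, hmem]
  have hζ : orderOf ζ = q := by
    refine orderOf_eq_prime ?_ ?_
    · rw [hζdef, ← map_pow, ← sub_eq_zero, ← map_one (Ideal.Quotient.mkₐ (ZMod p) J), ← map_sub, hmk]
      simp [hT]
    · intro h
      rw [hζdef, ← sub_eq_zero, ← map_one (Ideal.Quotient.mkₐ (ZMod p) J), ← map_sub, hmk] at h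
      simp [sub_eq_zero] at h
      exact hT1 h
  have hp0 : (p : ZMod q) ≠ 0 := by
    rw [Ne, ZMod.natCast_eq_zero_iff]
    · exact fun h => hpq ((Nat.prime_dvd_prime_iff_eq (Fact.out : q.Prime) (Fact.out : p.Prime)).1 h).symm
  have hpow : ∀ k : ℕ, ¬ q ∣ k → ∃ i : ℕ, (k : ZMod q) = (p : ZMod q) ^ i := by
    intro k hk
    obtain ⟨β, hβ⟩ := hconj k hk
    have hle : ∀ f : (ZMod p)[X], f ∈ J → aeval (ζ ^ k) f = 0 := by
      intro f hf
      rw [hζdef, ← map_pow, aeval_algHom_apply, hmk, ← comp_eq_aeval]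
      refine LinearMap.ext fun w => ?_
      obtain ⟨u, rfl⟩ := β.surjective w
      rw [← semi_aeval T β k hβ f u, (hmem f).1 hf]
      simp
    obtain ⟨i, hi⟩ := (FiniteField.bijective_frobeniusAlgHom_pow (ZMod p) ((ZMod p)[X] ⧸ J)).2
      (Ideal.Quotient.liftₐ J (aeval (ζ ^ k)) hle)
    have h := DFunLike.congr_fun hi ζ
    simp only [AlgHom.coe_pow, FiniteField.coe_frobeniusAlgHom, pow_iterate, ZMod.card] at h
    have h' : Ideal.Quotient.liftₐ J (aeval (ζ ^ k)) hle ζ = ζ ^ k := by
      show aeval (ζ ^ k) X = _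
      simp
    rw [h', (orderOf_pos_iff.1 (hζ ▸ (Fact.out : q.Prime).pos)).pow_eq_pow_iff_modEq, hζ, ← ZMod.natCast_eq_natCast_iff, Nat.cast_pow] at h
    exact ⟨i, h.symm⟩
  rw [show (p : ZMod q) = ((Units.mk0 _ hp0 : (ZMod q)ˣ) : ZMod q) from rfl, orderOf_units,
    orderOf_eq_card_of_forall_mem_zpowers, Nat.card_eq_fintype_card, ZMod.card_units]
  intro u
  have hu : ¬ q ∣ (u : ZMod q).val := by
    rw [← ZMod.natCast_eq_zero_iff, ZMod.natCast_val, ZMod.cast_id', id]
    exact u.ne_zero
  obtain ⟨i, hi⟩ := hpow _ hu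
  rw [ZMod.natCast_val, ZMod.cast_id', id] at hi
  exact ⟨i, Units.ext (by simp [hi])⟩

/-- The converse: all symmetries exist. -/
theorem exists_symm [Finite V] {q : ℕ} [Fact q.Prime] (hpq : p ≠ q)
    (hord : orderOf (p : ZMod q) = q - 1)
    (T : Module.End (ZMod p) V) (hT : T ^ q = 1) (hfix : ∀ v, T v = v → v = 0) :
    (∀ v w : V, v ≠ 0 → w ≠ 0 → ∃ e : V ≃+ V, e v = w ∧ ∀ u, e (T u) = T (e u)) ∧
    ∀ k : ℕ, ¬ q ∣ k → ∃ e : V ≃+ V, ∀ u, e (T u) = (T ^ k) (e u) := by
  have hp := (Fact.out : p.Prime)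
  have hq := (Fact.out : q.Prime)
  set Φ : (ZMod p)[X] := cyclotomic q (ZMod p) with hΦ
  have hdegΦ : Φ.natDegree = q - 1 := by rw [hΦ, natDegree_cyclotomic, Nat.totient_prime hq]
  have hΦT : aeval T Φ = 0 := by
    refine LinearMap.ext fun v => ?_
    refine hfix _ (sub_eq_zero.1 ?_)
    have h := congrArg (fun f => aeval T f v) (cyclotomic_prime_mul_X_sub_one (ZMod p) q)
    simp [hT, ← hΦ] at h
    have hc : T (aeval T Φ v) = aeval T Φ (T v) := by
      have := congrArg (fun f => aeval T f v) (mul_comm X Φ)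
      simpa using this
    rw [hc]
    exact h
  have hirr : Irreducible Φ := by
    have hnu : ¬ IsUnit Φ := fun h => by
      have := natDegree_eq_zero_of_isUnit h
      have := hq.two_le
      omega
    obtain ⟨g, hg, hgΦ⟩ := WfDvdMonoid.exists_irreducible_factor hnu (cyclotomic_ne_zero q _)
    have : Fact (Irreducible g) := ⟨hg⟩
    have : Module.Finite (ZMod p) (AdjoinRoot g) := (AdjoinRoot.powerBasis hg.ne_zero).finite
    have : Finite (AdjoinRoot g) := Module.finite_of_finite (ZMod p)
    have : Fintype (AdjoinRoot g) := Fintype.ofFinite _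
    have : CharP (AdjoinRoot g) p :=
      charP_of_injective_algebraMap (algebraMap (ZMod p) (AdjoinRoot g)).injective p
    have : NeZero ((q : ℕ) : AdjoinRoot g) := ⟨by
      rw [Ne, CharP.cast_eq_zero_iff (AdjoinRoot g) p]
      exact fun h => hpq ((Nat.prime_dvd_prime_iff_eq hp hq).1 h)⟩
    have hroot : (cyclotomic q (AdjoinRoot g)).IsRoot (AdjoinRoot.root g) := by
      rw [← map_cyclotomic q (AdjoinRoot.of g), IsRoot.def, eval_map]
      obtain ⟨c, hc⟩ := hgΦ
      rw [← hΦ, hc, eval₂_mul, AdjoinRoot.eval₂_root, zero_mul]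
    have hprim := isRoot_cyclotomic_iff.1 hroot
    have hdvd : q ∣ p ^ g.natDegree - 1 := by
      rw [hprim.eq_orderOf]
      refine orderOf_dvd_of_pow_eq_one ?_
      have hc : Fintype.card (AdjoinRoot g) = p ^ g.natDegree := by
        rw [Module.card_eq_pow_finrank (K := ZMod p), ZMod.card,
          (AdjoinRoot.powerBasis hg.ne_zero).finrank, AdjoinRoot.powerBasis_dim]
      rw [← hc]
      exact FiniteField.pow_card_sub_one_eq_one _ (hprim.ne_zero hq.ne_zero)
    have hle : Φ.natDegree ≤ g.natDegree := by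
      rw [hdegΦ, ← hord]
      refine Nat.le_of_dvd hg.natDegree_pos (orderOf_dvd_of_pow_eq_one ?_)
      have h1 : 1 ≤ p ^ g.natDegree := Nat.one_le_pow _ _ hp.pos
      rw [← ZMod.natCast_eq_zero_iff, Nat.cast_sub h1, sub_eq_zero] at hdvd
      simpa using hdvd
    exact (associated_of_dvd_of_natDegree_le hgΦ (cyclotomic_ne_zero q _) hle).irreducible hg
  have : (Ideal.span {Φ}).IsMaximal := PrincipalIdealRing.isMaximal_of_irreducible hirr
  letI : Field ((ZMod p)[X] ⧸ Ideal.span {Φ}) := Ideal.Quotient.field _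
  let f : ((ZMod p)[X] ⧸ Ideal.span {Φ}) →+* Module.End (ZMod p) V :=
    Ideal.Quotient.lift _ (aeval T (R := ZMod p)).toRingHom (fun a ha => by
      obtain ⟨c, rfl⟩ := Ideal.mem_span_singleton'.1 ha
      simp [hΦT])
  letI : Module ((ZMod p)[X] ⧸ Ideal.span {Φ}) V := Module.compHom V f
  set ζ : (ZMod p)[X] ⧸ Ideal.span {Φ} := Ideal.Quotient.mk _ X with hζ
  have hsmul : ∀ (n : ℕ) (u : V), (ζ ^ n) • u = (T ^ n) u := fun n u => by
    show f (ζ ^ n) u = _
    rw [map_pow, hζ]
    simp [f]
  have hT' : ∀ u, T u = ζ • u := fun u => by simpa using (hsmul 1 u).symm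
  refine ⟨fun v w hv hw => ?_, fun k hk => ?_⟩
  · obtain ⟨e, he⟩ : ∃ e : V ≃ₗ[(ZMod p)[X] ⧸ Ideal.span {Φ}] V, e v = w := by
      by_cases hdep : ∃ c : (ZMod p)[X] ⧸ Ideal.span {Φ}, c • v = w
      · obtain ⟨c, rfl⟩ := hdep
        have hc : c ≠ 0 := fun h => hw (by rw [h, zero_smul])
        exact ⟨LinearEquiv.smulOfUnit (Units.mk0 c hc), rfl⟩
      · have hnm : v ∉ Submodule.span ((ZMod p)[X] ⧸ Ideal.span {Φ}) {w - v} := by
          rw [Submodule.mem_span_singleton]
          rintro ⟨c, hc⟩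
          have hc0 : c ≠ 0 := fun h => hv (by rw [← hc, h, zero_smul])
          refine hdep ⟨c⁻¹ + 1, ?_⟩
          rw [add_smul, one_smul]
          nth_rw 1 [← hc]
          rw [inv_smul_smul₀ hc0, sub_add_cancel]
        obtain ⟨g, hg1, hg2⟩ := Submodule.exists_dual_map_eq_bot_of_notMem hnm inferInstance
        have hgd : g (w - v) = 0 := by
          have : g (w - v) ∈ (Submodule.span _ {w - v}).map g :=
            Submodule.mem_map_of_mem (Submodule.mem_span_singleton_self _)
          rwa [hg2, Submodule.mem_bot] at this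
        let h := (g v)⁻¹ • g
        have hh1 : h v = 1 := by simp [h, inv_mul_cancel₀ hg1]
        have hh2 : h (w - v) = 0 := by simp [h, hgd]
        have key : ∀ u, h (u - h u • (w - v)) = h u := fun u => by
          rw [map_sub, map_smul, hh2, smul_zero, sub_zero]
        have key' : ∀ u, h (u + h u • (w - v)) = h u := fun u => by
          rw [map_add, map_smul, hh2, smul_zero, add_zero]
        refine ⟨LinearEquiv.ofLinear (LinearMap.id + h.smulRight (w - v))
          (LinearMap.id - h.smulRight (w - v)) ?_ ?_, ?_⟩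
        · refine LinearMap.ext fun u => ?_
          simp [key, -map_sub]
        · refine LinearMap.ext fun u => ?_
          simp [key', -map_sub, -map_add]
        · simp [hh1]
    exact ⟨e.toAddEquiv, he, fun u => by rw [hT', hT']; exact e.map_smul ζ u⟩
  · obtain ⟨i, hi⟩ : ∃ i : ℕ, (k : ZMod q) = (p : ZMod q) ^ i := by
      have hp0 : (p : ZMod q) ≠ 0 := by
        rw [Ne, ZMod.natCast_eq_zero_iff]
        exact fun h => hpq ((Nat.prime_dvd_prime_iff_eq hq hp).1 h).symm
      have hk0 : (k : ZMod q) ≠ 0 := by rwa [Ne, ZMod.natCast_eq_zero_iff]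
      have htop : Subgroup.zpowers (Units.mk0 _ hp0) = ⊤ := by
        refine Subgroup.eq_top_of_card_eq _ ?_
        rw [Nat.card_zpowers, ← orderOf_units, Units.val_mk0, hord, Nat.card_eq_fintype_card, ZMod.card_units]
      have := htop ▸ Subgroup.mem_top (Units.mk0 _ hk0)
      rw [← mem_powers_iff_mem_zpowers] at this
      obtain ⟨i, hi⟩ := this
      exact ⟨i, by simpa using (congrArg Units.val hi).symm⟩
    have : CharP ((ZMod p)[X] ⧸ Ideal.span {Φ}) p :=
      charP_of_injective_algebraMap (algebraMap (ZMod p) _).injective p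
    have : Finite ((ZMod p)[X] ⧸ Ideal.span {Φ}) := by
      have := (AdjoinRoot.powerBasis (cyclotomic_ne_zero q (ZMod p))).finite
      exact Module.finite_of_finite (ZMod p) (M := AdjoinRoot Φ)
    let σ : ((ZMod p)[X] ⧸ Ideal.span {Φ}) ≃+* _ := iterateFrobeniusEquiv _ p i
    let b := Module.Free.chooseBasis ((ZMod p)[X] ⧸ Ideal.span {Φ}) V
    let e : V ≃+ V :=
      (b.repr.toAddEquiv.trans (Finsupp.mapRange.addEquiv σ.toAddEquiv)).trans b.repr.symm.toAddEquiv
    refine ⟨e, fun u => ?_⟩
    have he : ∀ (c : (ZMod p)[X] ⧸ Ideal.span {Φ}) (u : V), e (c • u) = σ c • e u := by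
      intro c u
      apply b.repr.injective
      ext j
      simp [e]
    rw [hT', he, ← hsmul]
    congr 1
    have hζq : ζ ^ q = 1 := by
      rw [hζ, ← map_pow, ← map_one (Ideal.Quotient.mk _), Ideal.Quotient.eq, Ideal.mem_span_singleton]
      exact ⟨X - 1, (cyclotomic_prime_mul_X_sub_one (ZMod p) q).symm⟩
    show σ ζ = ζ ^ k
    simp only [σ, iterateFrobeniusEquiv_apply, iterateFrobenius_def]
    rw [← pow_mod_orderOf, ← pow_mod_orderOf ζ k]
    congr 1
    have hd := orderOf_dvd_of_pow_eq_one hζq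
    refine (Nat.ModEq.of_dvd hd ?_)
    rw [← ZMod.natCast_eq_natCast_iff, Nat.cast_pow, hi]

end Linear

section Group

variable {G : Type*} [Group G] {p : ℕ}

/-- Conjugation on an abelian normal subgroup of exponent `p`, as linear maps. -/
noncomputable def conjEnd (P : Subgroup G) [P.Normal] [IsMulCommutative P]
    [Module (ZMod p) (Additive P)] : G →* Module.End (ZMod p) (Additive P) where
  toFun g := (MonoidHom.toAdditive ((MulAut.conjNormal g : MulAut P).toMonoidHom)).toZModLinearMap p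
  map_one' := by
    refine LinearMap.ext fun u => ?_
    refine Additive.toMul.injective (Subtype.ext ?_)
    show (1 : G) * ((Additive.toMul u : P) : G) * 1⁻¹ = _
    simp
  map_mul' g h := by
    refine LinearMap.ext fun u => ?_
    refine Additive.toMul.injective (Subtype.ext ?_)
    show (g * h) * ((Additive.toMul u : P) : G) * (g * h)⁻¹ =
      g * (h * ((Additive.toMul u : P) : G) * h⁻¹) * g⁻¹
    simp [mul_assoc]

variable (P : Subgroup G) [P.Normal] [IsMulCommutative P] [Module (ZMod p) (Additive P)]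

theorem coe_conjEnd (g : G) (u : Additive P) :
    ((Additive.toMul (conjEnd (p := p) P g u) : P) : G) = g * ((Additive.toMul u : P) : G) * g⁻¹ :=
  rfl

theorem conjEnd_eq_one {g : G} (hg : g ∈ P) : conjEnd (p := p) P g = 1 := by
  refine LinearMap.ext fun u => Additive.toMul.injective (Subtype.ext ?_)
  rw [coe_conjEnd]
  have h := congrArg Subtype.val (mul_comm' (⟨g, hg⟩ : P) (Additive.toMul u))
  show g * ((Additive.toMul u : P) : G) * g⁻¹ = ((Additive.toMul u : P) : G)
  simp only [Subgroup.coe_mul] at h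
  rw [h, mul_inv_cancel_right]

end Group

theorem index_eq_of_orderOf_eq {G : Type*} [Group G] {p q : ℕ} (hp : p ≠ 1) (hq : q ≠ 1) (hpq : p ≠ q)
    {a b : G} (ha : orderOf a = p) (hb : orderOf b = q) (i j : Fin 3)
    (h : orderOf (![1, a, b] i) = orderOf (![1, a, b] j)) : i = j := by
  fin_cases i <;> fin_cases j <;> simp [ha, hb, hp, hq, hpq, hp.symm, hq.symm, hpq.symm] at h ⊢

theorem classes_of_three {G : Type*} [Group G] [Finite G] {p q : ℕ} [hp : Fact p.Prime]
    [hq : Fact q.Prime] (hpq : p ≠ q) (hp' : p ∣ Nat.card G) (hq' : q ∣ Nat.card G)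
    (h3 : Nat.card (MulAction.orbitRel.Quotient (MulAut G) G) = 3) :
    (∀ g : G, orderOf g = 1 ∨ orderOf g = p ∨ orderOf g = q) ∧
    (∀ g h : G, orderOf g = orderOf h → ∃ α : MulAut G, α g = h) := by
  obtain ⟨a, ha⟩ := exists_prime_orderOf_dvd_card' p hp'
  obtain ⟨b, hb⟩ := exists_prime_orderOf_dvd_card' q hq'
  let cl : G → MulAction.orbitRel.Quotient (MulAut G) G := fun g => Quotient.mk'' g
  have hcl : ∀ g h, cl g = cl h → ∃ α : MulAut G, α h = g := fun g h e =>
    MulAction.orbitRel_apply.1 (Quotient.eq''.1 e)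
  have hord : ∀ g h, cl g = cl h → orderOf g = orderOf h := fun g h e => by
    obtain ⟨α, rfl⟩ := hcl g h e
    exact α.orderOf_eq h
  let ι : Fin 3 → MulAction.orbitRel.Quotient (MulAut G) G := fun i => cl (![1, a, b] i)
  have h1p := hp.out.ne_one
  have h1q := hq.out.ne_one
  have := hp.out.one_lt
  have := hq.out.one_lt
  have hinj : Function.Injective ι := by
    intro i j e
    exact index_eq_of_orderOf_eq h1p h1q hpq ha hb i j (hord _ _ e)
  have : Finite (MulAction.orbitRel.Quotient (MulAut G) G) := inferInstance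
  have hsurj : ∀ g, ∃ i, ι i = cl g := fun g =>
    (hinj.bijective_of_nat_card_le (by simp [h3])).2 (cl g)
  have hclass : ∀ g : G, orderOf g = 1 ∨ orderOf g = p ∨ orderOf g = q := by
    intro g
    obtain ⟨i, hi⟩ := hsurj g
    have := hord _ _ hi
    fin_cases i <;> simp_all
  refine ⟨hclass, fun g h e => ?_⟩
  obtain ⟨i, hi⟩ := hsurj g
  obtain ⟨j, hj⟩ := hsurj h
  have hij : i = j := by
    have e1 := hord _ _ hi
    have e2 := hord _ _ hj
    rw [e, ← e2] at e1
    exact index_eq_of_orderOf_eq h1p h1q hpq ha hb i j e1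
  obtain ⟨α, hα⟩ := hcl h g (by rw [← hj, ← hij, hi])
  exact ⟨α, hα⟩

theorem forward_aux {G : Type*} [Group G] [Finite G] [Group.IsSolvable G] {p q : ℕ}
    [hp : Fact p.Prime] [hq : Fact q.Prime] (hpq : p ≠ q) (hp' : p ∣ Nat.card G) (hq' : q ∣ Nat.card G)
    (hclass : ∀ g : G, orderOf g = 1 ∨ orderOf g = p ∨ orderOf g = q)
    (htrans : ∀ g h : G, orderOf g = orderOf h → ∃ α : MulAut G, α g = h)
    {e : G} (he : e ∈ commutator G) (hep : orderOf e = p) :
    ∃ (p q n : ℕ) (_ : Fact p.Prime) (_ : Fact q.Prime), p ≠ q ∧ 1 ≤ n ∧ Nat.card G = p ^ n * q ∧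
      (∀ P : Sylow p G, (P : Subgroup G).Normal ∧ Cfsg.IsElementaryAbelian p (P : Subgroup G)) ∧
      orderOf (p : ZMod q) = q - 1 ∧
      ∀ x y : G, orderOf x = q → orderOf y = p → x * y * x⁻¹ ≠ y := by
  have hp1 := hp.out.one_lt
  have hq1 := hq.out.one_lt
  have : Nontrivial G := ⟨e, 1, fun h => by rw [h, orderOf_one] at hep; omega⟩
  set C := commutator G with hC
  have hchar : ∀ (α : MulAut G) (g : G), g ∈ C → α g ∈ C := fun α g hg =>
    Subgroup.characteristic_iff_le_comap.1 (inferInstance : (commutator G).Characteristic) α hg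
  have hmemp : ∀ g : G, orderOf g = p → g ∈ C := fun g hg => by
    obtain ⟨α, rfl⟩ := htrans e g (hep.trans hg.symm)
    exact hchar α e he
  have hnotq : ∀ g ∈ C, orderOf g ≠ q := by
    intro g hg hgq
    apply (Group.IsSolvable.commutator_lt_top_of_nontrivial G).ne
    rw [eq_top_iff]
    intro x _
    rcases hclass x with h | h | h
    · rw [orderOf_eq_one_iff.1 h]; exact one_mem _
    · exact hmemp x h
    · obtain ⟨α, rfl⟩ := htrans g x (hgq.trans h.symm)
      exact hchar α g hg
  have hCiff : ∀ g, g ∈ C ↔ g ^ p = 1 := by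
    intro g
    refine ⟨fun hg => ?_, fun hg => ?_⟩
    · rcases hclass g with h | h | h
      · rw [orderOf_eq_one_iff.1 h, one_pow]
      · rw [← h]; exact pow_orderOf_eq_one g
      · exact absurd h (hnotq g hg)
    · rcases hclass g with h | h | h
      · rw [orderOf_eq_one_iff.1 h]; exact one_mem _
      · exact hmemp g h
      · have := orderOf_dvd_of_pow_eq_one hg
        rw [h] at this
        exact absurd ((Nat.prime_dvd_prime_iff_eq hq.out hp.out).1 this).symm hpq
  have hCpg : IsPGroup p C := fun g => ⟨1, Subtype.ext (by simpa using (hCiff g).1 g.2)⟩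
  have hCsyl : ∀ P : Sylow p G, (P : Subgroup G) = C := by
    intro P
    refine (P.3 hCpg fun g hg => ?_).symm
    rcases hclass g with h | h | h
    · rw [orderOf_eq_one_iff.1 h]; exact one_mem _
    · exact hmemp g h
    · obtain ⟨k, hk⟩ := P.2 ⟨g, hg⟩
      have : g ^ p ^ k = 1 := congrArg Subtype.val hk
      have h' := orderOf_dvd_of_pow_eq_one this
      rw [h] at h'
      exact absurd ((Nat.prime_dvd_prime_iff_eq hq.out hp.out).1 (hq.out.dvd_of_dvd_pow h')).symm hpq
  have : Nontrivial C := ⟨⟨e, he⟩, 1, fun h => by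
    have := congrArg Subtype.val h
    simp only [OneMemClass.coe_one] at this
    rw [this, orderOf_one] at hep; omega⟩
  have hcomm : IsMulCommutative C := by
    have := hCpg.center_nontrivial
    obtain ⟨⟨z, hz⟩, hz1⟩ := exists_ne (1 : Subgroup.center C)
    have hz1' : (z : G) ≠ 1 := fun h => hz1 (Subtype.ext (Subtype.ext h))
    have hzp : orderOf (z : G) = p := orderOf_eq_prime ((hCiff _).1 z.2) hz1'
    refine IsMulCommutative.of_comm fun u v => Subtype.ext ?_
    rcases hclass (u : G) with h | h | h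
    · rw [Subgroup.coe_mul, Subgroup.coe_mul, orderOf_eq_one_iff.1 h, one_mul, mul_one]
    · obtain ⟨α, hα⟩ := htrans (z : G) u (hzp.trans h.symm)
      have hv : α.symm (v : G) ∈ C := hchar α.symm v v.2
      have h1 := congrArg (fun c : C => α (c : G)) (Subgroup.mem_center_iff.1 hz ⟨_, hv⟩)
      simp [hα] at h1
      simpa using h1.symm
    · exact absurd h (hnotq _ u.2)
  have hfpf : ∀ x y : G, orderOf x = q → orderOf y = p → x * y * x⁻¹ ≠ y := by
    intro x y hx hy hcom
    have hc : Commute x y := mul_inv_eq_iff_eq_mul.1 hcom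
    have h := hc.orderOf_mul_eq_mul_orderOf_of_coprime
      (by rw [hx, hy]; exact (Nat.coprime_primes hq.out hp.out).2 hpq.symm)
    rw [hx, hy] at h
    have h2 : 2 * 2 ≤ q * p := Nat.mul_le_mul hq.out.two_le hp.out.two_le
    have h3 : q < q * p := lt_mul_of_one_lt_right (by omega) hp1
    have h4 : p < q * p := lt_mul_of_one_lt_left (by omega) hq1
    rcases hclass (x * y) with h' | h' | h' <;> omega
  have : Module (ZMod p) (Additive C) := AddCommGroup.zmodModule fun u =>
    Additive.toMul.injective (Subtype.ext (by simpa using (hCiff _).1 (Additive.toMul u : C).2))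
  set ρ := conjEnd (p := p) C with hρ
  have hfix : ∀ g : G, orderOf g = q → ∀ u : Additive C, ρ g u = u → u = 0 := by
    intro g hg u hu
    by_contra hne
    refine hfpf g ((Additive.toMul u : C) : G) hg ?_ ?_
    · refine orderOf_eq_prime ((hCiff _).1 (Additive.toMul u : C).2) fun h => hne ?_
      exact Additive.toMul.injective (Subtype.ext h)
    · conv_rhs => rw [← hu]
      rfl
  have hpowq : ∀ g : G, orderOf g = q → g ^ q = 1 := fun g hg => hg ▸ pow_orderOf_eq_one g
  have hN : ∀ g : G, orderOf g = q → ∑ i ∈ Finset.range q, ρ g ^ i = 0 := by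
    intro g hg
    refine LinearMap.ext fun u => hfix g hg _ ?_
    have h := mul_geom_sum (ρ g) q
    rw [← map_pow, hpowq g hg, map_one, sub_self] at h
    have h' := LinearMap.congr_fun h u
    rw [Module.End.mul_apply, LinearMap.sub_apply, Module.End.one_apply, LinearMap.zero_apply,
      sub_eq_zero] at h'
    exact h'
  obtain ⟨Q⟩ : Nonempty (Sylow q G) := inferInstance
  obtain ⟨x, hx⟩ := exists_prime_orderOf_dvd_card' (G := (Q : Subgroup G)) q (Q.dvd_card_of_dvd_card hq')
  have hx' : orderOf (x : G) = q := by rw [Subgroup.orderOf_coe, hx]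
  have hQord : ∀ g ∈ (Q : Subgroup G), g = 1 ∨ orderOf g = q := by
    intro g hg
    rcases hclass g with h | h | h
    · exact Or.inl (orderOf_eq_one_iff.1 h)
    · obtain ⟨k, hk⟩ := Q.2 ⟨g, hg⟩
      have : g ^ q ^ k = 1 := congrArg Subtype.val hk
      have h' := orderOf_dvd_of_pow_eq_one this
      rw [h] at h'
      exact absurd ((Nat.prime_dvd_prime_iff_eq hp.out hq.out).1 (hp.out.dvd_of_dvd_pow h')) hpq
    · exact Or.inr h
  have hQC : ∀ g ∈ (Q : Subgroup G), g ∈ C → g = 1 := fun g hg hgC =>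
    (hQord g hg).resolve_right (hnotq g hgC)
  have hQeq : (Q : Subgroup G) = Subgroup.zpowers (x : G) := by
    refine le_antisymm ?_ (Subgroup.zpowers_le.2 x.2)
    intro y hy
    by_contra hyx
    have hc : Commute (x : G) y := by
      have : (x : G) * y * (x : G)⁻¹ * y⁻¹ ∈ C := by
        rw [hC, commutator_def]
        exact Subgroup.commutator_mem_commutator (Subgroup.mem_top _) (Subgroup.mem_top _)
      have h1 := hQC _ (Subgroup.mul_mem _ (Subgroup.mul_mem _ (Subgroup.mul_mem _ x.2 hy)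
        (Subgroup.inv_mem _ x.2)) (Subgroup.inv_mem _ hy)) this
      exact mul_inv_eq_iff_eq_mul.1 (mul_inv_eq_one.1 h1)
    have hord : ∀ i, orderOf ((x : G) ^ i * y) = q := by
      intro i
      refine (hQord _ (Subgroup.mul_mem _ (Subgroup.pow_mem _ x.2 i) hy)).resolve_left fun h => hyx ?_
      rw [eq_inv_of_mul_eq_one_right h]
      exact Subgroup.inv_mem _ (Subgroup.pow_mem _ (Subgroup.mem_zpowers _) i)
    have hsum : ∀ j, j < q → ∑ i ∈ Finset.range q, ρ ((x : G) ^ i * y) ^ j =
        (∑ i ∈ Finset.range q, ρ ((x : G) ^ j) ^ i) * ρ (y ^ j) := by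
      intro j _
      rw [Finset.sum_mul]
      refine Finset.sum_congr rfl fun i _ => ?_
      rw [← map_pow, ← map_pow, ← map_mul, (hc.pow_left i).mul_pow, ← pow_mul, ← pow_mul, mul_comm i j]
    have h0 : ∑ i ∈ Finset.range q, ∑ j ∈ Finset.range q, ρ ((x : G) ^ i * y) ^ j = 0 :=
      Finset.sum_eq_zero fun i _ => hN _ (hord i)
    rw [Finset.sum_comm, Finset.sum_congr rfl (fun j hj => hsum j (Finset.mem_range.1 hj)),
      Finset.sum_eq_single 0] at h0
    · simp at h0
      have h1 : ((q : ℕ) : ZMod p) ≠ 0 := by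
        rw [Ne, ZMod.natCast_eq_zero_iff]
        exact fun h => hpq ((Nat.prime_dvd_prime_iff_eq hp.out hq.out).1 h)
      obtain ⟨u, hu⟩ := exists_ne (0 : Additive C)
      have h2 := LinearMap.congr_fun h0 u
      simp at h2
      rw [← Nat.cast_smul_eq_nsmul (ZMod p)] at h2
      exact hu ((smul_eq_zero.1 h2).resolve_left h1)
    · intro j hj hj0
      rw [hN, zero_mul]
      rw [Nat.Coprime.orderOf_pow (y := (x : G)) (by
        rw [hx']
        exact (hq.out.coprime_iff_not_dvd.2 fun h => hj0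
          (Nat.eq_zero_of_dvd_of_lt h (Finset.mem_range.1 hj)))), hx']
    · exact fun h => absurd (Finset.mem_range.2 hq.out.pos) h
  obtain ⟨P⟩ : Nonempty (Sylow p G) := inferInstance
  set n := (Nat.card G).factorization p with hn
  have hcardC : Nat.card C = p ^ n := by rw [← hCsyl P, P.card_eq_multiplicity]
  have hq1' : (Nat.card G).factorization q = 1 := by
    have h := Q.card_eq_multiplicity
    rw [hQeq, Nat.card_zpowers, hx'] at h
    exact (Nat.pow_eq_self_iff hq1).1 h.symm
  have hcard : Nat.card G = p ^ n * q := by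
    refine Nat.eq_of_factorization_eq Nat.card_pos.ne'
      (Nat.mul_ne_zero (pow_ne_zero _ hp.out.ne_zero) hq.out.ne_zero) fun r => ?_
    rw [Nat.factorization_mul (pow_ne_zero _ hp.out.ne_zero) hq.out.ne_zero, Finsupp.add_apply,
      Nat.factorization_pow, Finsupp.smul_apply, hp.out.factorization, hq.out.factorization]
    by_cases hrp : r = p
    · subst hrp; simp [hn, hpq.symm]
    by_cases hrq : r = q
    · subst hrq; simp [hq1', hpq]
    · simp only [Finsupp.single_eq_of_ne hrp, Finsupp.single_eq_of_ne hrq, smul_zero, add_zero]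
      by_cases hr : r.Prime
      · by_cases hd : r ∣ Nat.card G
        · have := Fact.mk hr
          obtain ⟨g, hg⟩ := exists_prime_orderOf_dvd_card' r hd
          rcases hclass g with h | h | h <;> rw [hg] at h
          · exact absurd h hr.ne_one
          · exact absurd h hrp
          · exact absurd h hrq
        · exact Nat.factorization_eq_zero_of_not_dvd hd
      · exact Nat.factorization_eq_zero_of_not_prime _ hr
  refine ⟨p, q, n, hp, hq, hpq, ?_, hcard, ?_, ?_, hfpf⟩
  · exact (hp.out.dvd_iff_one_le_factorization Nat.card_pos.ne').1 hp'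
  · intro P'
    rw [hCsyl P']
    exact ⟨inferInstance, hcomm, fun a ha => (hCiff a).1 ha⟩
  · have hcompl : C.IsComplement' (Subgroup.zpowers (x : G)) := by
      refine Subgroup.isComplement'_of_coprime ?_ ?_
      · rw [hcardC, Nat.card_zpowers, hx', ← hcard]
      · rw [hcardC, Nat.card_zpowers, hx']
        exact ((Nat.coprime_primes hp.out hq.out).2 hpq).pow_left n
    have hdec : ∀ g : G, ∃ k : ℕ, ρ g = ρ (x : G) ^ k := by
      intro g
      obtain ⟨⟨⟨v, hv⟩, ⟨w, hw⟩⟩, rfl⟩ := hcompl.2 g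
      rw [SetLike.mem_coe, ← mem_powers_iff_mem_zpowers] at hw
      obtain ⟨k, rfl⟩ := hw
      exact ⟨k, by simp [hρ, conjEnd_eq_one C hv]⟩
    let β : MulAut G → (Additive C ≃+ Additive C) := fun α => MulEquiv.toAdditive
      { toFun := fun c => ⟨α c, hchar α c c.2⟩
        invFun := fun c => ⟨α.symm c, hchar α.symm c c.2⟩
        left_inv := fun c => by simp
        right_inv := fun c => by simp
        map_mul' := fun c d => by simp }
    have hβ : ∀ (α : MulAut G) g u, β α (ρ g u) = ρ (α g) (β α u) := by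
      intro α g u
      refine Additive.toMul.injective (Subtype.ext ?_)
      show α (g * ((Additive.toMul u : C) : G) * g⁻¹) =
        α g * α ((Additive.toMul u : C) : G) * (α g)⁻¹
      simp
    have : Nontrivial (Additive C) := inferInstance
    refine orderOf_cast_eq hpq (ρ (x : G)) ?_ ?_ ?_ ?_
    · rw [← map_pow, hpowq _ hx', map_one]
    · intro h
      obtain ⟨u, hu⟩ := exists_ne (0 : Additive C)
      exact hu (hfix _ hx' u (by rw [h]; rfl))
    · refine fun r v hv h => aeval_eq_zero_of_apply_eq_zero _ ?_ r hv h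
      intro v w hv hw
      have ho : ∀ v : Additive C, v ≠ 0 → orderOf ((Additive.toMul v : C) : G) = p := fun v hv =>
        orderOf_eq_prime ((hCiff _).1 (Additive.toMul v : C).2) fun h =>
          hv (Additive.toMul.injective (Subtype.ext h))
      obtain ⟨α, hα⟩ := htrans _ _ ((ho v hv).trans (ho w hw).symm)
      obtain ⟨k, hk⟩ := hdec (α (x : G))
      refine ⟨β α, k, Additive.toMul.injective (Subtype.ext hα), fun u => ?_⟩
      rw [hβ, hk]
    · intro k hk
      obtain ⟨α, hα⟩ := htrans (x : G) ((x : G) ^ k) (by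
        rw [Nat.Coprime.orderOf_pow (y := (x : G)) (hx'.symm ▸ hq.out.coprime_iff_not_dvd.2 hk)])
      exact ⟨β α, fun u => by rw [hβ, hα, map_pow]⟩

theorem backward {G : Type*} [Group G] [Finite G] {p q n : ℕ} [hp : Fact p.Prime] [hq : Fact q.Prime]
    (hpq : p ≠ q) (hn : 1 ≤ n) (hcard : Nat.card G = p ^ n * q)
    (hP : ∀ P : Sylow p G, (P : Subgroup G).Normal ∧ Cfsg.IsElementaryAbelian p (P : Subgroup G))
    (hord : orderOf (p : ZMod q) = q - 1)
    (hfpf : ∀ x y : G, orderOf x = q → orderOf y = p → x * y * x⁻¹ ≠ y) :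
    Nat.card (MulAction.orbitRel.Quotient (MulAut G) G) = 3 := by
  have hp1 := hp.out.one_lt
  have hq1 := hq.out.one_lt
  obtain ⟨S⟩ : Nonempty (Sylow p G) := inferInstance
  obtain ⟨hSn, hSc, hSe⟩ := hP S
  set P := (S : Subgroup G) with hPdef
  have hqp : ¬ q ∣ p := fun h => hpq ((Nat.prime_dvd_prime_iff_eq hq.out hp.out).1 h).symm
  have hpq' : ¬ p ∣ q := fun h => hpq ((Nat.prime_dvd_prime_iff_eq hp.out hq.out).1 h)
  have hcardP : Nat.card P = p ^ n := by
    rw [hPdef, S.card_eq_multiplicity, hcard,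
      Nat.factorization_mul (pow_ne_zero _ hp.out.ne_zero) hq.out.ne_zero, Finsupp.add_apply,
      hp.out.factorization_pow, Finsupp.single_eq_same, Nat.factorization_eq_zero_of_not_dvd hpq',
      add_zero]
  have hqd : q ∣ Nat.card G := hcard ▸ dvd_mul_left _ _
  obtain ⟨x, hx⟩ := exists_prime_orderOf_dvd_card' q hqd
  have hindex : P.index = q := by
    have h := P.card_mul_index
    rw [hcardP, hcard] at h
    exact Nat.eq_of_mul_eq_mul_left (pow_pos hp.out.pos n) h
  have hclass : ∀ g : G, orderOf g = 1 ∨ orderOf g = p ∨ orderOf g = q := by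
    intro g
    have h1 : g ^ q ∈ P := hindex ▸ P.pow_index_mem g
    have h2 : orderOf g ∣ q * p := orderOf_dvd_of_pow_eq_one (by rw [pow_mul]; exact hSe _ h1)
    obtain ⟨y, z, hy, hz, hyz⟩ := Nat.dvd_mul.1 h2
    rcases (Nat.dvd_prime hq.out).1 hy with rfl | rfl <;>
      rcases (Nat.dvd_prime hp.out).1 hz with h | h <;> rw [h] at hyz
    · exact Or.inl (by simpa using hyz.symm)
    · exact Or.inr (Or.inl (by simpa using hyz.symm))
    · exact Or.inr (Or.inr (by simpa using hyz.symm))
    · exfalso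
      refine hfpf (g ^ p) (g ^ y) ?_ ?_ ?_
      · rw [orderOf_pow_of_dvd hp.out.ne_zero (hyz ▸ dvd_mul_left _ _), ← hyz,
          Nat.mul_div_cancel _ hp.out.pos]
      · rw [orderOf_pow_of_dvd hq.out.ne_zero (hyz ▸ dvd_mul_right _ _), ← hyz,
          Nat.mul_div_cancel_left _ hq.out.pos]
      · rw [mul_inv_eq_iff_eq_mul]; exact (Commute.pow_pow_self g p y).eq
  have hordP : ∀ u ∈ P, u ≠ 1 → orderOf u = p := fun u hu h => orderOf_eq_prime (hSe u hu) h
  have : Module (ZMod p) (Additive P) := AddCommGroup.zmodModule fun u =>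
    Additive.toMul.injective (Subtype.ext (by simpa using hSe _ (Additive.toMul u : P).2))
  set ρ := conjEnd (p := p) P with hρ
  have hT : ρ x ^ q = 1 := by rw [← map_pow, ← hx, pow_orderOf_eq_one, map_one]
  have hfix : ∀ u : Additive P, ρ x u = u → u = 0 := by
    intro u hu
    by_contra hne
    refine hfpf x ((Additive.toMul u : P) : G) hx ?_ ?_
    · exact hordP _ (Additive.toMul u : P).2 fun h => hne (Additive.toMul.injective (Subtype.ext h))
    · conv_rhs => rw [← hu]
      rfl
  obtain ⟨hlin, hsemi⟩ := exists_symm hpq hord (ρ x) hT hfix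
  have hcompl : P.IsComplement' (Subgroup.zpowers x) := by
    refine Subgroup.isComplement'_of_coprime ?_ ?_
    · rw [hcardP, Nat.card_zpowers, hx, ← hcard]
    · rw [hcardP, Nat.card_zpowers, hx]
      exact ((Nat.coprime_primes hp.out hq.out).2 hpq).pow_left n
  have hext : ∀ (e : Additive P ≃+ Additive P) (k : ℕ), ¬ q ∣ k →
      (∀ u, e (ρ x u) = (ρ x ^ k) (e u)) →
      ∃ α : MulAut G, α x = x ^ k ∧
        ∀ u : P, α (u : G) = ((Additive.toMul (e (Additive.ofMul u)) : P) : G) := by
    intro e k hk he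
    have hco : (Nat.card (Subgroup.zpowers x)).Coprime k := by
      rw [Nat.card_zpowers, hx]; exact hq.out.coprime_iff_not_dvd.2 hk
    let fg : Subgroup.zpowers x ≃* Subgroup.zpowers x :=
      { powCoprime hco with map_mul' := fun a b => mul_pow a b k }
    let fn : P ≃* P := MulEquiv.toAdditive.symm e
    let m := SemidirectProduct.mulEquivSubgroup hcompl
    let σ := SemidirectProduct.congr (φ₁ := P.normalizerMonoidHom.comp
        (Subgroup.inclusion (P.normalizer_eq_top ▸ le_top)))
      (φ₂ := P.normalizerMonoidHom.comp (Subgroup.inclusion (P.normalizer_eq_top ▸ le_top)))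
      fn fg (by
        intro g
        obtain ⟨w, hw⟩ := g
        obtain ⟨i, rfl⟩ := mem_powers_iff_mem_zpowers.2 hw
        refine MulEquiv.ext fun u => Subtype.ext ?_
        have h1 := semi_aeval (ρ x) e k he (X ^ i) (Additive.ofMul u)
        rw [pow_comp, X_comp, aeval_X_pow, map_pow, aeval_X_pow, ← pow_mul, ← map_pow, ← map_pow] at h1
        have h2 := congrArg (fun z => ((Additive.toMul z : P) : G)) h1
        simp only [hρ, coe_conjEnd] at h2
        show ((fn (MulAut.conjNormal (x ^ i) u) : P) : G) = _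
        calc _ = x ^ (k * i) * ((Additive.toMul (e (Additive.ofMul u)) : P) : G) * (x ^ (k * i))⁻¹ := h2
          _ = _ := by rw [mul_comm k i, pow_mul]; rfl)
    refine ⟨(m.symm.trans σ).trans m, ?_, fun u => ?_⟩
    · have h1 : m (SemidirectProduct.inr ⟨x, Subgroup.mem_zpowers x⟩) = x := by simp [m]
      show m (σ (m.symm x)) = _
      rw [m.symm_apply_eq.2 h1.symm]
      simp [m, σ, fg]
      rfl
    · have h1 : m (SemidirectProduct.inl u) = (u : G) := by simp [m]
      show m (σ (m.symm (u : G))) = _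
      rw [m.symm_apply_eq.2 h1.symm]
      simp [m, σ, fn]
  have htp : ∀ u v : G, orderOf u = p → orderOf v = p → ∃ α : MulAut G, α u = v := by
    intro u v hu hv
    have hmem : ∀ w : G, orderOf w = p → w ∈ P := by
      intro w hw
      obtain ⟨R, hR⟩ := (IsPGroup.of_card (p := p) (n := 1)
        (by rw [Nat.card_zpowers, hw, pow_one])).exists_le_sylow (P := Subgroup.zpowers w)
      have := Sylow.unique_of_normal S hSn
      have hRS : R = S := Subsingleton.elim R S
      rw [hRS] at hR
      exact hR (Subgroup.mem_zpowers w)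
    have hne : ∀ (w : G) (hw : orderOf w = p), Additive.ofMul (⟨w, hmem w hw⟩ : P) ≠ 0 :=
      fun w hw h => by
        have h' : w = 1 := congrArg Subtype.val (congrArg Additive.toMul h)
        rw [h', orderOf_one] at hw
        omega
    obtain ⟨e, he, he'⟩ := hlin _ _ (hne u hu) (hne v hv)
    obtain ⟨α, -, hα⟩ := hext e 1 hq.out.not_dvd_one (fun w => by rw [pow_one]; exact he' w)
    refine ⟨α, ?_⟩
    rw [show u = ((⟨u, hmem u hu⟩ : P) : G) from rfl, hα, he]
    rfl
  have htq : ∀ y : G, orderOf y = q → ∃ α : MulAut G, α x = y := by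
    intro y hy
    have hS : ∀ R : Sylow q G, Nat.card R = q := by
      intro R
      rw [R.card_eq_multiplicity, hcard,
        Nat.factorization_mul (pow_ne_zero _ hp.out.ne_zero) hq.out.ne_zero, Finsupp.add_apply,
        Nat.factorization_eq_zero_of_not_dvd (fun h => hqp (hq.out.dvd_of_dvd_pow h)),
        hq.out.factorization_self, zero_add, pow_one]
    have hz : ∀ w : G, orderOf w = q → ∃ R : Sylow q G, (R : Subgroup G) = Subgroup.zpowers w := by
      intro w hw
      obtain ⟨R, hR⟩ := (IsPGroup.of_card (p := q) (n := 1)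
        (by rw [Nat.card_zpowers, hw, pow_one])).exists_le_sylow (P := Subgroup.zpowers w)
      exact ⟨R, (Subgroup.eq_of_le_of_card_ge hR (le_of_eq (by rw [Nat.card_zpowers, hw, hS R]))).symm⟩
    obtain ⟨Rx, hRx⟩ := hz x hx
    obtain ⟨Ry, hRy⟩ := hz y hy
    obtain ⟨c, hc⟩ := MulAction.exists_smul_eq G Rx Ry
    have hy' : c⁻¹ * y * c ∈ Subgroup.zpowers x := by
      have h : y ∈ ((c • Rx : Sylow q G) : Subgroup G) := by rw [hc, hRy]; exact Subgroup.mem_zpowers y
      rw [Sylow.coe_subgroup_smul, Subgroup.mem_pointwise_smul_iff_inv_smul_mem, hRx] at h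
      simpa [MulAut.smul_def] using h
    obtain ⟨k, hk⟩ := mem_powers_iff_mem_zpowers.2 hy'
    simp only at hk
    have hk0 : ¬ q ∣ k := by
      rintro ⟨d, rfl⟩
      rw [pow_mul, ← hx, pow_orderOf_eq_one, one_pow] at hk
      have h1 : y = 1 := by
        have := congrArg (fun z => c * z * c⁻¹) hk.symm
        simpa [mul_assoc] using this
      rw [h1, orderOf_one] at hy
      omega
    obtain ⟨e, he⟩ := hsemi k hk0
    obtain ⟨α, hα, -⟩ := hext e k hk0 he
    refine ⟨α.trans (MulAut.conj c), ?_⟩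
    show c * α x * c⁻¹ = y
    rw [hα, hk]
    simp [mul_assoc]
  obtain ⟨u₀, hu₀⟩ := exists_prime_orderOf_dvd_card' p
    (hcard ▸ dvd_mul_of_dvd_left (dvd_pow_self p (by omega)) q)
  let ι : Fin 3 → MulAction.orbitRel.Quotient (MulAut G) G := fun i => Quotient.mk'' (![1, u₀, x] i)
  rw [← Nat.card_eq_of_bijective ι ⟨?_, ?_⟩, Nat.card_fin]
  · intro i j e
    obtain ⟨α, hα⟩ := MulAction.orbitRel_apply.1 (Quotient.eq''.1 e)
    have := α.orderOf_eq (![1, u₀, x] j)
    change α _ = _ at hα
    rw [hα] at this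
    exact index_eq_of_orderOf_eq hp.out.ne_one hq.out.ne_one hpq hu₀ hx i j this
  · intro c
    induction c using Quotient.inductionOn' with
    | h g =>
      have key : ∀ i, (∃ α : MulAut G, α g = ![1, u₀, x] i) → ∃ i, ι i = Quotient.mk'' g :=
        fun i ⟨α, hα⟩ => ⟨i, Quotient.eq''.2 (MulAction.orbitRel_apply.2 ⟨α, hα⟩)⟩
      rcases hclass g with h | h | h
      · exact key 0 ⟨1, by simpa using orderOf_eq_one_iff.1 h⟩
      · exact key 1 (htp g u₀ h hu₀)
      · obtain ⟨α, hα⟩ := htq g h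
        exact key 2 ⟨α.symm, by simp [← hα]⟩

theorem forward {G : Type*} [Group G] [Finite G] (hnpp : ¬ IsPrimePow (Nat.card G))
    (hnt : Nat.card G ≠ 1) (h3 : Nat.card (MulAction.orbitRel.Quotient (MulAut G) G) = 3) :
    ∃ (p q n : ℕ) (_ : Fact p.Prime) (_ : Fact q.Prime), p ≠ q ∧ 1 ≤ n ∧ Nat.card G = p ^ n * q ∧
      (∀ P : Sylow p G, (P : Subgroup G).Normal ∧ Cfsg.IsElementaryAbelian p (P : Subgroup G)) ∧
      orderOf (p : ZMod q) = q - 1 ∧
      ∀ x y : G, orderOf x = q → orderOf y = p → x * y * x⁻¹ ≠ y := by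
  obtain ⟨p, hp, hp'⟩ := Nat.exists_prime_and_dvd hnt
  obtain ⟨q, hq, hq', hqp⟩ : ∃ q, q.Prime ∧ q ∣ Nat.card G ∧ q ≠ p := by
    by_contra! h
    have he := Nat.eq_prime_pow_of_unique_prime_dvd Nat.card_pos.ne' (fun {d} hd hd' => h d hd hd')
    refine hnpp ⟨p, (Nat.card G).primeFactorsList.length, hp.prime, ?_, he.symm⟩
    by_contra h0
    rw [show (Nat.card G).primeFactorsList.length = 0 by omega, pow_zero] at he
    exact hnt he
  have := Fact.mk hp
  have := Fact.mk hq
  obtain ⟨hclass, htrans⟩ := classes_of_three hqp.symm hp' hq' h3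
  obtain ⟨a, b, hab⟩ : ∃ a b, Nat.card G = p ^ a * q ^ b := by
    obtain ⟨a, m, hm, he⟩ := Nat.exists_eq_pow_mul_and_not_dvd (Nat.card_pos (α := G)).ne' p hp.ne_one
    have hm0 : m ≠ 0 := fun h => hm (h ▸ dvd_zero p)
    have hmq := Nat.eq_prime_pow_of_unique_prime_dvd (p := q) hm0 (fun {d} hd hd' => by
      have := Fact.mk hd
      obtain ⟨g, hg⟩ := exists_prime_orderOf_dvd_card' d (he ▸ dvd_mul_of_dvd_right hd' (p ^ a))
      rcases hclass g with h | h | h <;> rw [hg] at h
      · exact absurd h hd.ne_one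
      · exact absurd (h ▸ hd') hm
      · exact h)
    exact ⟨a, _, hmq ▸ he⟩
  have : Group.IsSolvable G := CharInduced.solvable_of_card_two_primes p q a b hp hq hab
  obtain ⟨g, hg⟩ := exists_prime_orderOf_dvd_card' p hp'
  obtain ⟨k, hk⟩ := exists_prime_orderOf_dvd_card' q hq'
  obtain ⟨e, he, he1⟩ : ∃ e ∈ commutator G, e ≠ 1 := by
    by_contra! h
    have hc : Commute g k := by
      refine mul_inv_eq_iff_eq_mul.1 (mul_inv_eq_one.1 (h (g * k * g⁻¹ * k⁻¹) ?_))
      rw [commutator_def]
      exact Subgroup.commutator_mem_commutator (Subgroup.mem_top _) (Subgroup.mem_top _)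
    have h' := hc.orderOf_mul_eq_mul_orderOf_of_coprime
      (by rw [hg, hk]; exact (Nat.coprime_primes hp hq).2 hqp.symm)
    rw [hg, hk] at h'
    have h2 : 2 * 2 ≤ p * q := Nat.mul_le_mul hp.two_le hq.two_le
    have h3 : p < p * q := lt_mul_of_one_lt_right hp.pos hq.one_lt
    have h4 : q < p * q := lt_mul_of_one_lt_left hq.pos hp.one_lt
    rcases hclass (g * k) with h'' | h'' | h'' <;> omega
  rcases hclass e with h | h | h
  · exact absurd (orderOf_eq_one_iff.1 h) he1
  · exact forward_aux hqp.symm hp' hq' hclass htrans he h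
  · exact forward_aux hqp hq' hp' (fun g => (hclass g).imp_right Or.symm) htrans he h


/-- Let G be a finite group whose order is not a prime power. Then the automorphism group of G has exactly three orbits on G if and only if there are distinct primes p, q with #G = pⁿ·q (n ≥ 1) such that G has a normal elementary abelian Sylow p-subgroup P, p is a primitive root modulo q (the multiplicative order of p mod q is q − 1), and every element of order q of G acts on P without non-identity fixed points. -/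
theorem result {G : Type*} [Group G] [Finite G] (hnpp : ¬ IsPrimePow (Nat.card G)) (hnt : Nat.card G ≠ 1) :
    Nat.card (MulAction.orbitRel.Quotient (MulAut G) G) = 3 ↔
    ∃ (p q n : ℕ) (_ : Fact p.Prime) (_ : Fact q.Prime), p ≠ q ∧ 1 ≤ n ∧ Nat.card G = p ^ n * q ∧
      (∀ P : Sylow p G, (P : Subgroup G).Normal ∧ Cfsg.IsElementaryAbelian p (P : Subgroup G)) ∧
      orderOf (p : ZMod q) = q - 1 ∧
      ∀ x y : G, orderOf x = q → orderOf y = p → x * y * x⁻¹ ≠ y := by
  constructor
  · exact forward hnpp hnt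
  · rintro ⟨p, q, n, hp, hq, hpq, hn, hcard, hP, hord, hfpf⟩
    exact backward hpq hn hcard hP hord hfpf

end Cfsg.Agent.S4081
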