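import Cfsg.Statements.S4082
import Mathlib
import Cfsg.Agent.Lib.H74Basic
import Cfsg.Agent.Lib.PGroupsCyclic

set_option autoImplicit false
open Cfsg

namespace Cfsg.Agent.S4082

open scoped Pointwise
open Cfsg.Agent.H74Basic

variable {G : Type*} [Group G]

/-- The hypothesis of the statement, as a predicate. -/
def RestrictedPByCyclic (p : ℕ) (G : Type*) [Group G] : Prop :=
  ∀ H : Subgroup G, (∀ S : Sylow p ↥H, (S : Subgroup ↥H).Normal) →
    (∀ (S : Sylow p ↥H) [(S : Subgroup ↥H).Normal], IsCyclic (↥H ⧸ (S : Subgroup ↥H))) →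
    IsCyclic H ∨ (∃ n : ℕ, Nonempty (H ≃* DihedralGroup (p ^ n)))

theorem apply_hyp [Finite G] {p : ℕ} [Fact p.Prime] (h : RestrictedPByCyclic p G) {S : Subgroup G}
    (hS : IsPGroup p S) {x : G} (hx : x ∈ Subgroup.normalizer (S : Set G)) :
    IsCyclic ↥(S ⊔ Subgroup.zpowers x) ∨
      ∃ n : ℕ, Nonempty (↥(S ⊔ Subgroup.zpowers x) ≃* DihedralGroup (p ^ n)) := by
  set H := S ⊔ Subgroup.zpowers x with hH
  haveI hN : (S.subgroupOf H).Normal := (Subgroup.normal_subgroupOf_iff_le_normalizer le_sup_left).2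
    (sup_le Subgroup.le_normalizer (Subgroup.zpowers_le.2 hx))
  have hxH : x ∈ H := Subgroup.mem_sup_right (Subgroup.mem_zpowers x)
  have hgen : ∀ q : H ⧸ S.subgroupOf H, q ∈ Subgroup.zpowers (QuotientGroup.mk (⟨x, hxH⟩ : H) : H ⧸ S.subgroupOf H) := by
    intro q
    obtain ⟨⟨y, hy⟩, rfl⟩ := QuotientGroup.mk_surjective q
    have hy' : y ∈ (S : Set G) * (Subgroup.zpowers x : Set G) :=
      Subgroup.coe_mul_of_right_le_normalizer_left S (Subgroup.zpowers x) (Subgroup.zpowers_le.2 hx) ▸ hy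
    obtain ⟨s, hs, z, hz, rfl⟩ := hy'
    obtain ⟨i, rfl⟩ := Subgroup.mem_zpowers_iff.1 hz
    refine Subgroup.mem_zpowers_iff.2 ⟨i, ?_⟩
    rw [← QuotientGroup.mk_zpow, QuotientGroup.eq]
    rw [Subgroup.mem_subgroupOf]
    have : x ^ (-i) * s * (x ^ (-i))⁻¹ ∈ S :=
      (Subgroup.mem_normalizer_iff.1 ((Subgroup.normalizer (S : Set G)).zpow_mem hx (-i)) s).1 hs
    simpa [mul_assoc] using this
  haveI hc : IsCyclic (H ⧸ S.subgroupOf H) := ⟨⟨_, hgen⟩⟩
  have hle : ∀ T : Sylow p H, S.subgroupOf H ≤ (T : Subgroup H) := fun T => by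
    refine (T.is_maximal' ?_ le_sup_left).le.trans' le_sup_right
    exact T.isPGroup'.to_sup_of_normal_right (hS.of_equiv (Subgroup.subgroupOfEquivOfLe (le_sup_left : S ≤ H)).symm)
  have hcomm : commutator H ≤ S.subgroupOf H := by
    rw [← QuotientGroup.ker_mk' (S.subgroupOf H)]
    letI : CommGroup (H ⧸ S.subgroupOf H) := IsCyclic.commGroup
    exact Abelianization.commutator_subset_ker _
  have hnorm : ∀ T : Sylow p H, (T : Subgroup H).Normal := fun T => ⟨fun t ht g => by
    have h1 : g * t * g⁻¹ * t⁻¹ ∈ (T : Subgroup H) :=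
      (hcomm.trans (hle T)) (Subgroup.commutator_mem_commutator trivial trivial)
    simpa using (T : Subgroup H).mul_mem h1 ht⟩
  refine h H hnorm fun T _ => ?_
  exact isCyclic_of_surjective (QuotientGroup.map (S.subgroupOf H) (T : Subgroup H) (MonoidHom.id H) (hle T))
    (QuotientGroup.map_surjective_of_surjective _ _ _ (QuotientGroup.mk_surjective (s := (T : Subgroup H))) _)

theorem dihedral_sq_or_pow {n : ℕ} (u : DihedralGroup n) : u ^ 2 = 1 ∨ u ^ n = 1 := by
  cases u with
  | r i => right; rw [DihedralGroup.r_pow, ZMod.natCast_self, mul_zero, DihedralGroup.r_zero]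
  | sr i => left; rw [pow_two, DihedralGroup.sr_mul_self]

theorem commute_or_sq_or_pow [Finite G] {p : ℕ} [Fact p.Prime] (h : RestrictedPByCyclic p G) {S : Subgroup G}
    (hS : IsPGroup p S) {x : G} (hx : x ∈ Subgroup.normalizer (S : Set G)) :
    x ∈ Subgroup.centralizer (S : Set G) ∨ x ^ 2 = 1 ∨ ∃ n, x ^ (p ^ n) = 1 := by
  have hxH : x ∈ S ⊔ Subgroup.zpowers x := Subgroup.mem_sup_right (Subgroup.mem_zpowers x)
  rcases apply_hyp h hS hx with hc | ⟨n, ⟨e⟩⟩
  · refine Or.inl (Subgroup.mem_centralizer_iff.2 fun s hs => ?_)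
    haveI := hc
    exact congrArg Subtype.val (mul_comm' (⟨s, Subgroup.mem_sup_left hs⟩ : ↥(S ⊔ Subgroup.zpowers x)) ⟨x, hxH⟩)
  · rcases dihedral_sq_or_pow (e ⟨x, hxH⟩) with h2 | h2
    · rw [← map_pow, e.map_eq_one_iff] at h2
      exact Or.inr (Or.inl (congrArg Subtype.val h2))
    · rw [← map_pow, e.map_eq_one_iff] at h2
      exact Or.inr (Or.inr ⟨n, congrArg Subtype.val h2⟩)

theorem eq_of_card_prime [Finite G] {p : ℕ} [Fact p.Prime] {P Q₁ Q₂ : Subgroup G} (hP : IsCyclic P)
    (h1 : Q₁ ≤ P) (h2 : Q₂ ≤ P) (c1 : Nat.card Q₁ = p) (c2 : Nat.card Q₂ = p) : Q₁ = Q₂ := by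
  haveI := hP
  haveI := Fintype.ofFinite P
  classical
  have e : Q₁.subgroupOf P = Q₂.subgroupOf P := by
    apply SetLike.coe_injective
    have key : ∀ Q : Subgroup G, Q ≤ P → Nat.card Q = p →
        (Q.subgroupOf P : Set P) = {y : P | y ^ p = 1} := by
      intro Q hQ hc
      apply Set.eq_of_subset_of_ncard_le
      · intro y hy
        refine Subtype.ext ?_
        have := pow_card_eq_one' (x := (⟨(y : G), hy⟩ : Q))
        rw [hc] at this
        exact congrArg (fun z : Q => (z : G)) this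
      · rw [← Nat.card_coe_set_eq (Q.subgroupOf P : Set P), SetLike.coe_sort_coe,
          Nat.card_congr (Subgroup.subgroupOfEquivOfLe hQ).toEquiv, hc, Set.ncard_eq_toFinset_card']
        simpa using IsCyclic.card_pow_eq_one_le (α := P) (Fact.out : p.Prime).pos
      · exact Set.toFinite _
    rw [key Q₁ h1 c1, key Q₂ h2 c2]
  rw [← inf_eq_left.2 h1, ← inf_eq_left.2 h2, ← Subgroup.subgroupOf_map_subtype, e, Subgroup.subgroupOf_map_subtype]

theorem forward [Finite G] {p : ℕ} [Fact p.Prime] (hp : p ≠ 2) (P : Sylow p G) (h : RestrictedPByCyclic p G) :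
    IsCyclic P ∧
      (Subgroup.normalizer ((P : Subgroup G) : Set G) = Subgroup.centralizer ((P : Subgroup G) : Set G) ∨
       ((Subgroup.centralizer ((P : Subgroup G) : Set G)).relIndex (Subgroup.normalizer ((P : Subgroup G) : Set G)) = 2 ∧
        ∀ Q : Subgroup G, Q ≤ P → Nat.card Q = p →
          IsMulCommutative ↥(Subgroup.centralizer (Q : Set G)) ∧
          ∀ x : G, x ∈ Subgroup.normalizer (Q : Set G) → x ∉ Subgroup.centralizer (Q : Set G) →
            orderOf x = 2 ∧ ∀ c : G, c ∈ Subgroup.centralizer (Q : Set G) → x * c * x⁻¹ = c⁻¹)) := by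
  have hpp : p.Prime := Fact.out
  have hPc : IsCyclic (P : Subgroup G) := by
    rcases apply_hyp h P.isPGroup' (x := 1) (one_mem _) with hc | ⟨n, ⟨e⟩⟩
    · rw [Subgroup.zpowers_one_eq_bot, sup_bot_eq] at hc
      exact hc
    · exfalso
      have h2 := Nat.card_congr e.toEquiv
      rw [DihedralGroup.nat_card, Subgroup.zpowers_one_eq_bot, sup_bot_eq] at h2
      obtain ⟨k, hk⟩ := IsPGroup.iff_card.1 P.isPGroup'
      rw [hk] at h2
      exact hp ((Nat.prime_dvd_prime_iff_eq Nat.prime_two hpp).1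
        (Nat.prime_two.dvd_of_dvd_pow ⟨_, h2⟩)).symm
  refine ⟨hPc, ?_⟩
  set N := Subgroup.normalizer ((P : Subgroup G) : Set G) with hN
  set C := Subgroup.centralizer ((P : Subgroup G) : Set G) with hC
  by_cases hNC : N ≤ C
  · exact Or.inl (le_antisymm hNC (Subgroup.centralizer_le_normalizer _))
  refine Or.inr ?_
  haveI : IsMulCommutative (P : Subgroup G) := by haveI := hPc; infer_instance
  have hPC : (P : Subgroup G) ≤ C := fun u hu => Subgroup.mem_centralizer_iff.2 fun v hv =>
    congrArg Subtype.val (mul_comm' (⟨v, hv⟩ : (P : Subgroup G)) ⟨u, hu⟩)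
  have hinv : ∀ x ∈ N, x ∉ C → ∀ u ∈ (P : Subgroup G), x * u * x⁻¹ = u⁻¹ := by
    intro x hx hxC u hu
    have hsq : x ^ 2 = 1 := by
      rcases commute_or_sq_or_pow h P.isPGroup' hx with h1 | h1 | ⟨k, hk⟩
      · exact absurd h1 hxC
      · exact h1
      · exfalso
        apply hxC
        apply hPC
        have hz : IsPGroup p (Subgroup.zpowers x) := by
          obtain ⟨i, -, hi⟩ := (Nat.dvd_prime_pow hpp).1 (orderOf_dvd_of_pow_eq_one hk)
          exact IsPGroup.of_card (n := i) (by rw [Nat.card_zpowers, hi])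
        have e : Subgroup.zpowers x ⊓ N = Subgroup.zpowers x ⊓ P := hz.inf_normalizer_sylow P
        have hm : x ∈ Subgroup.zpowers x ⊓ N := ⟨Subgroup.mem_zpowers x, hx⟩
        rw [e] at hm
        exact hm.2
    by_contra hne
    apply hxC
    have hx1 : x⁻¹ = x := inv_eq_of_mul_eq_one_right (by rw [← pow_two, hsq])
    have hu' : x * u * x⁻¹ ∈ (P : Subgroup G) := (Subgroup.mem_normalizer_iff.1 hx u).1 hu
    refine centralizes P hPc hx (Or.inl ⟨x * u * x⁻¹ * u, (P : Subgroup G).mul_mem hu' hu, ?_, ?_⟩)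
    · exact fun e => hne (eq_inv_of_mul_eq_one_left e)
    · have hcomm : u * (x * u * x⁻¹) = x * u * x⁻¹ * u :=
        congrArg Subtype.val (mul_comm' (⟨u, hu⟩ : (P : Subgroup G)) ⟨_, hu'⟩)
      calc x * (x * u * x⁻¹ * u) * x⁻¹ = (x * x) * u * (x⁻¹ * (u * x⁻¹)) := by group
        _ = u * (x * u * x⁻¹) := by rw [← pow_two, hsq, one_mul]; rw [hx1]; group
        _ = x * u * x⁻¹ * u := hcomm
  obtain ⟨a, haN, haC⟩ := SetLike.not_le_iff_exists.1 hNC
  refine ⟨?_, ?_⟩
  · rw [Subgroup.relIndex, Subgroup.index_eq_two_iff]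
    refine ⟨⟨a, haN⟩, fun b => ?_⟩
    simp only [Subgroup.mem_subgroupOf, Subgroup.coe_mul]
    by_cases hb : (b : G) ∈ C
    · exact Or.inr ⟨hb, fun h1 => haC (by simpa using C.mul_mem (C.inv_mem hb) h1)⟩
    · refine Or.inl ⟨Subgroup.mem_centralizer_iff.2 fun u hu => ?_, hb⟩
      have h1 := hinv _ haN haC u hu
      have h2 := hinv _ b.2 hb u⁻¹ ((P : Subgroup G).inv_mem hu)
      rw [inv_inv, ← h1] at h2
      calc u * ((b : G) * a) = (b : G) * (a * u * a⁻¹) * (b : G)⁻¹ * ((b : G) * a) := by rw [h2]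
        _ = (b : G) * a * u := by group
  · intro Q hQP hQ
    have key : ∀ x : G, x ∈ Subgroup.normalizer (Q : Set G) → x ∉ Subgroup.centralizer (Q : Set G) → x ^ 2 = 1 := by
      intro x hx hxC
      rcases commute_or_sq_or_pow h (IsPGroup.of_card (n := 1) (by rw [hQ, pow_one])) hx with h1 | h1 | ⟨k, hk⟩
      · exact absurd h1 hxC
      · exact h1
      · exfalso
        apply hxC
        rw [Subgroup.mem_centralizer_iff]
        intro q hq
        haveI : IsCyclic Q := isCyclic_of_prime_card hQ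
        obtain ⟨g, hg⟩ := IsCyclic.exists_generator (α := Q)
        obtain ⟨i, hi⟩ := Subgroup.mem_zpowers_iff.1 (hg ⟨q, hq⟩)
        obtain ⟨u, hu⟩ := Subgroup.mem_zpowers_iff.1 (hg ⟨_, (Subgroup.mem_normalizer_iff.1 hx g).1 g.2⟩)
        have hu' : ((g : Q) : G) ^ u = x * g * x⁻¹ := by simpa using congrArg Subtype.val hu
        have hi' : ((g : Q) : G) ^ i = q := by simpa using congrArg Subtype.val hi
        have hpow : ∀ j : ℕ, x ^ j * (g : G) * (x ^ j)⁻¹ = (g : G) ^ (u ^ j) := by
          intro j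
          induction j with
          | zero => simp
          | succ j ih =>
            rw [pow_succ' x j]
            calc x * x ^ j * (g : G) * (x * x ^ j)⁻¹ = x * (x ^ j * (g : G) * (x ^ j)⁻¹) * x⁻¹ := by group
              _ = (g : G) ^ (u ^ (j + 1)) := by
                rw [ih, ← MulAut.conj_apply, map_zpow, MulAut.conj_apply, ← hu', ← zpow_mul, pow_succ, mul_comm]
        have h1 := hpow (p ^ k)
        rw [hk, one_mul, inv_one, mul_one] at h1
        have h2 : (((u ^ (p ^ k) - u : ℤ)) : ZMod p) = 0 := by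
          push_cast
          rw [ZMod.pow_card_pow, sub_self]
        rw [ZMod.intCast_zmod_eq_zero_iff_dvd] at h2
        have hgp : ∀ a : ℤ, (p : ℤ) ∣ a → (g : G) ^ a = 1 := by
          rintro a ⟨b, rfl⟩
          rw [zpow_mul, zpow_natCast]
          have := pow_card_eq_one' (x := g)
          rw [hQ] at this
          rw [← Subgroup.coe_pow, this, Subgroup.coe_one, one_zpow]
        have h3 : x * (g : G) * x⁻¹ = g := by
          have h4 := hgp _ h2
          rw [zpow_sub, ← h1, mul_inv_eq_one] at h4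
          exact hu' ▸ h4.symm
        rw [← hi']
        exact (((show Commute x (g : G) from mul_inv_eq_iff_eq_mul.1 h3).zpow_right i).eq).symm
    have hinvQ : ∀ x : G, x ∈ Subgroup.normalizer (Q : Set G) → x ∉ Subgroup.centralizer (Q : Set G) →
        orderOf x = 2 ∧ ∀ c : G, c ∈ Subgroup.centralizer (Q : Set G) → x * c * x⁻¹ = c⁻¹ := by
      intro x hx hxC
      have hx2 := key x hx hxC
      refine ⟨?_, fun c hc => ?_⟩
      · exact orderOf_eq_prime hx2 (fun e => hxC (e ▸ one_mem _))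
      have hxc : (x * c) ^ 2 = 1 := key _ (Subgroup.mul_mem _ hx (Subgroup.centralizer_le_normalizer _ hc))
        (fun e => hxC (by simpa using Subgroup.mul_mem _ e (Subgroup.inv_mem _ hc)))
      have hx1 : x⁻¹ = x := inv_eq_of_mul_eq_one_right (by rw [← pow_two, hx2])
      rw [hx1]
      refine eq_inv_of_mul_eq_one_left ?_
      rw [pow_two] at hxc
      simpa [mul_assoc] using hxc
    refine ⟨?_, hinvQ⟩
    have haQ : a ∈ Subgroup.normalizer (Q : Set G) := by
      rw [Subgroup.mem_normalizer_iff]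
      intro q
      constructor
      · intro hq
        rw [hinv a haN haC q (hQP hq)]
        exact Q.inv_mem hq
      · intro hq
        have h1 := hinv a haN haC _ (hQP hq)
        have h2 : a * (a * q * a⁻¹) * a⁻¹ ∈ Q := h1 ▸ Q.inv_mem hq
        have ha2 : a * a = 1 := by
          rcases commute_or_sq_or_pow h P.isPGroup' haN with h3 | h3 | ⟨k, hk⟩
          · exact absurd h3 haC
          · rwa [← pow_two]
          · exfalso
            apply haC
            apply hPC
            have hz : IsPGroup p (Subgroup.zpowers a) := by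
              obtain ⟨i, -, hi⟩ := (Nat.dvd_prime_pow hpp).1 (orderOf_dvd_of_pow_eq_one hk)
              exact IsPGroup.of_card (n := i) (by rw [Nat.card_zpowers, hi])
            have e : Subgroup.zpowers a ⊓ N = Subgroup.zpowers a ⊓ P := hz.inf_normalizer_sylow P
            have hm : a ∈ Subgroup.zpowers a ⊓ N := ⟨Subgroup.mem_zpowers a, haN⟩
            rw [e] at hm
            exact hm.2
        have e : a * (a * q * a⁻¹) * a⁻¹ = (a * a) * q * (a * a)⁻¹ := by group
        rw [e, ha2, one_mul, inv_one, mul_one] at h2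
        exact h2
    have haQC : a ∉ Subgroup.centralizer (Q : Set G) := by
      intro hc
      obtain ⟨⟨q, hq⟩, hq1⟩ := exists_prime_orderOf_dvd_card' (G := Q) p (by rw [hQ])
      rw [Subgroup.orderOf_mk] at hq1
      have h1 := hinv a haN haC q (hQP hq)
      rw [← Subgroup.mem_centralizer_iff.1 hc q hq, mul_inv_cancel_right] at h1
      have h2 : q ^ 2 = 1 := by rw [pow_two]; exact eq_inv_iff_mul_eq_one.1 h1
      have := orderOf_dvd_of_pow_eq_one h2
      rw [hq1] at this
      exact hp ((Nat.prime_dvd_prime_iff_eq hpp Nat.prime_two).1 this)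
    obtain ⟨-, hi⟩ := hinvQ a haQ haQC
    refine ⟨⟨fun c d => Subtype.ext ?_⟩⟩
    have h1 := hi ((c : G) * d) (Subgroup.mul_mem _ c.2 d.2)
    have h2 : a * ((c : G) * d) * a⁻¹ = (a * c * a⁻¹) * (a * d * a⁻¹) := by group
    rw [h2, hi _ c.2, hi _ d.2, mul_inv_rev] at h1
    have := congrArg (·⁻¹) h1
    simp only [mul_inv_rev, inv_inv] at this
    show (c : G) * d = d * c
    exact this.symm

/-- The subgroups with a normal Sylow subgroup inside `P` and cyclic quotient. -/
theorem core [Finite G] {p : ℕ} [Fact p.Prime] (P : Sylow p G) (hPc : IsCyclic (P : Subgroup G))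
    (hcond : Subgroup.normalizer ((P : Subgroup G) : Set G) = Subgroup.centralizer ((P : Subgroup G) : Set G) ∨
        ∀ Q : Subgroup G, Q ≤ P → Nat.card Q = p →
          ∀ x : G, x ∈ Subgroup.normalizer (Q : Set G) → x ∉ Subgroup.centralizer (Q : Set G) →
            orderOf x = 2 ∧ ∀ c : G, c ∈ Subgroup.centralizer (Q : Set G) → x * c * x⁻¹ = c⁻¹)
    {H : Subgroup G} (T : Sylow p H) [hT : (T : Subgroup H).Normal]
    (hq : IsCyclic (H ⧸ (T : Subgroup H))) (hTP : (T : Subgroup H).map H.subtype ≤ P) :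
    IsCyclic H ∨ ∃ n : ℕ, Nonempty (H ≃* DihedralGroup (p ^ n)) := by
  have hpp : p.Prime := Fact.out
  obtain ⟨q, hqgen⟩ := hq.exists_generator
  obtain ⟨g, rfl⟩ := QuotientGroup.mk_surjective q
  have hdec : ∀ y : H, ∃ i : ℤ, (g ^ i)⁻¹ * y ∈ (T : Subgroup H) := by
    intro y
    obtain ⟨i, hi⟩ := Subgroup.mem_zpowers_iff.1 (hqgen (y : H ⧸ (T : Subgroup H)))
    rw [← QuotientGroup.mk_zpow, QuotientGroup.eq] at hi
    exact ⟨i, hi⟩
  by_cases hbot : (T : Subgroup H) = ⊥
  · left
    refine ⟨⟨g, fun y => ?_⟩⟩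
    obtain ⟨i, hi⟩ := hdec y
    rw [hbot, Subgroup.mem_bot, inv_mul_eq_one] at hi
    exact Subgroup.mem_zpowers_iff.2 ⟨i, hi⟩
  set S := (T : Subgroup H).map H.subtype with hS
  have hSc : IsCyclic (T : Subgroup H) := by
    haveI := hPc
    haveI : IsCyclic S := isCyclic_of_injective (Subgroup.inclusion hTP) (Subgroup.inclusion_injective hTP)
    exact isCyclic_of_surjective ((T : Subgroup H).equivMapOfInjective _ H.subtype_injective).symm.toMonoidHom
      (MulEquiv.surjective _)
  obtain ⟨q₀, hq₀⟩ := exists_prime_orderOf_dvd_card' (G := (T : Subgroup H)) p (by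
    obtain ⟨k, hk⟩ := IsPGroup.iff_card.1 T.isPGroup'
    rw [hk]
    refine dvd_pow_self p ?_
    rintro rfl
    exact hbot (Subgroup.card_eq_one.1 (by rw [hk, pow_zero])))
  set q₁ : G := ((q₀ : H) : G) with hq₁
  have hq₁o : orderOf q₁ = p := by rw [hq₁, Subgroup.orderOf_coe, Subgroup.orderOf_coe, hq₀]
  set Q := Subgroup.zpowers q₁ with hQ
  have hQc : Nat.card Q = p := by rw [hQ, Nat.card_zpowers, hq₁o]
  have hQP : Q ≤ P := Subgroup.zpowers_le.2 (hTP ⟨_, q₀.2, rfl⟩)
  have hHQ : ∀ y : H, (y : G) ∈ Subgroup.normalizer (Q : Set G) := by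
    intro y
    have e : Q.map (MulAut.conj (y : G)).toMonoidHom = Q := by
      refine eq_of_card_prime hPc ?_ hQP ?_ hQc
      · rintro _ ⟨z, hz, rfl⟩
        obtain ⟨i, rfl⟩ := Subgroup.mem_zpowers_iff.1 hz
        show (y : G) * q₁ ^ i * (y : G)⁻¹ ∈ (P : Subgroup G)
        exact hTP ⟨y * (q₀ : H) ^ i * y⁻¹, hT.conj_mem _ ((T : Subgroup H).zpow_mem q₀.2 i) y, by simp [hq₁]⟩
      · rw [← Nat.card_congr (Q.equivMapOfInjective _ (MulAut.conj (y : G)).injective).toEquiv, hQc]
    rw [Subgroup.mem_normalizer_iff]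
    intro z
    constructor
    · intro hz
      exact e ▸ ⟨z, hz, rfl⟩
    · intro hz
      rw [← e] at hz
      obtain ⟨w, hw, hwz⟩ := hz
      exact (MulAut.conj (y : G)).injective hwz ▸ hw
  have hTC : ∀ t : H, t ∈ (T : Subgroup H) → (t : G) ∈ Subgroup.centralizer (Q : Set G) := by
    intro t ht
    rw [Subgroup.mem_centralizer_iff]
    intro z hz
    haveI := hPc
    exact congrArg Subtype.val (mul_comm' (⟨z, hQP hz⟩ : (P : Subgroup G)) ⟨_, hTP ⟨t, ht, rfl⟩⟩)
  by_cases hgC : (g : G) ∈ Subgroup.centralizer (Q : Set G)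
  · -- `H` is cyclic
    left
    have hgn : g ∈ Subgroup.normalizer ((T : Subgroup H) : Set H) := by
      rw [Subgroup.normalizer_eq_top]; trivial
    have hgc := centralizes T hSc hgn (Or.inl ⟨q₀, q₀.2, fun e => by
      have : orderOf (q₀ : H) = p := by rw [Subgroup.orderOf_coe, hq₀]
      rw [e, orderOf_one] at this
      exact hpp.ne_one this.symm, Subtype.ext (by
        show (g : G) * q₁ * (g : G)⁻¹ = q₁
        rw [← Subgroup.mem_centralizer_iff.1 hgC q₁ (Subgroup.mem_zpowers q₁), mul_inv_cancel_right])⟩)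
    obtain ⟨a, z, haz, hcaz, ⟨k, hk⟩, hz⟩ := exists_parts (p := p) g
    have haT : a ∈ (T : Subgroup H) := by
      have hpg : IsPGroup p (Subgroup.zpowers a) := IsPGroup.of_card (n := k) (by rw [Nat.card_zpowers, hk])
      obtain ⟨T', hT'⟩ := hpg.exists_le_sylow
      haveI := Sylow.unique_of_normal T hT
      obtain rfl : T' = T := Subsingleton.elim _ _
      exact hT' (Subgroup.mem_zpowers a)
    obtain ⟨s, hs⟩ := hSc.exists_generator
    haveI := hSc
    have hsa : Commute (s : H) a := congrArg Subtype.val (mul_comm' s ⟨a, haT⟩)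
    have hsg : Commute (s : H) g := Subgroup.mem_centralizer_iff.1 hgc s s.2
    have hsz : Commute (s : H) z := by
      have : z = a⁻¹ * g := by rw [haz]; group
      rw [this]; exact hsa.inv_right.mul_right hsg
    obtain ⟨e, he⟩ := IsPGroup.iff_orderOf.1 T.isPGroup' s
    rw [← Subgroup.orderOf_coe] at he
    have hcop : (orderOf (s : H)).Coprime (orderOf z) := he ▸ (hz.pow_right e).symm
    have hsmem : ∀ w : H, Commute (s : H) w → (orderOf (s : H)).Coprime (orderOf w) →
        (s : H) ∈ Subgroup.zpowers ((s : H) * w) ∧ w ∈ Subgroup.zpowers ((s : H) * w) := by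
      intro w hc hco
      obtain ⟨m, hm⟩ := Nat.chineseRemainder hco 1 0
      have h1 : ((s : H) * w) ^ m = s := by
        rw [hc.mul_pow, ← pow_mod_orderOf (s : H) m, show m % orderOf (s : H) = 1 % orderOf (s : H) from hm.1,
          pow_mod_orderOf, pow_one, orderOf_dvd_iff_pow_eq_one.1 (Nat.modEq_zero_iff_dvd.1 hm.2), mul_one]
      have h2 : (s : H) ∈ Subgroup.zpowers ((s : H) * w) := by
        have h3 := Subgroup.npow_mem_zpowers ((s : H) * w) m
        rwa [h1] at h3
      refine ⟨h2, ?_⟩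
      have := Subgroup.mul_mem _ (Subgroup.inv_mem _ h2) (Subgroup.mem_zpowers ((s : H) * w))
      simpa using this
    obtain ⟨h1, h2⟩ := hsmem z hsz hcop
    have hTle : (T : Subgroup H) ≤ Subgroup.zpowers ((s : H) * z) := by
      intro t ht
      obtain ⟨i, hi⟩ := Subgroup.mem_zpowers_iff.1 (hs ⟨t, ht⟩)
      have : (s : H) ^ i = t := by simpa using congrArg Subtype.val hi
      exact this ▸ Subgroup.zpow_mem _ h1 i
    refine ⟨⟨(s : H) * z, fun y => ?_⟩⟩
    obtain ⟨i, hi⟩ := hdec y
    have hgm : g ∈ Subgroup.zpowers ((s : H) * z) := by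
      rw [haz]; exact Subgroup.mul_mem _ (hTle haT) h2
    have := Subgroup.mul_mem _ (Subgroup.zpow_mem _ hgm i) (hTle hi)
    rw [mul_inv_cancel_left] at this
    exact this
  · right
    have hQcond : orderOf (g : G) = 2 ∧ ∀ c : G, c ∈ Subgroup.centralizer (Q : Set G) → (g : G) * c * (g : G)⁻¹ = c⁻¹ := by
      rcases hcond with hA | hB
      · exfalso
        apply hgC
        have hgQ := hHQ g
        set C := Subgroup.centralizer (Q : Set G) with hC
        have hPC : (P : Subgroup G) ≤ C := fun u hu => Subgroup.mem_centralizer_iff.2 fun v hv =>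
          haveI := hPc
          congrArg Subtype.val (mul_comm' (⟨v, hQP hv⟩ : (P : Subgroup G)) ⟨u, hu⟩)
        have hgP : (((g : G) • P : Sylow p G) : Subgroup G) ≤ C := by
          rw [Sylow.coe_subgroup_smul]
          rintro _ ⟨u, hu, rfl⟩
          show (g : G) * u * (g : G)⁻¹ ∈ C
          rw [Subgroup.mem_centralizer_iff]
          intro v hv
          have hv' : (g : G)⁻¹ * v * g ∈ Q := (Subgroup.mem_normalizer_iff''.1 hgQ v).1 hv
          have := Subgroup.mem_centralizer_iff.1 (hPC hu) _ hv'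
          calc v * ((g : G) * u * (g : G)⁻¹) = g * (((g : G)⁻¹ * v * g) * u) * (g : G)⁻¹ := by group
            _ = g * (u * ((g : G)⁻¹ * v * g)) * (g : G)⁻¹ := by rw [this]
            _ = (g : G) * u * (g : G)⁻¹ * v := by group
        obtain ⟨w, hw⟩ := MulAction.exists_smul_eq C (P.subtype hPC) (((g : G) • P).subtype hgP)
        rw [Sylow.smul_subtype] at hw
        have hw' : (w : G) • P = (g : G) • P := Sylow.subtype_injective hw
        have hn : (w : G)⁻¹ * g ∈ Subgroup.normalizer ((P : Subgroup G) : Set G) :=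
          Sylow.smul_eq_iff_mem_normalizer.1 (by rw [mul_smul, ← hw', inv_smul_smul])
        rw [hA] at hn
        have := C.mul_mem w.2 (Subgroup.centralizer_le hQP hn)
        simpa using this
      · exact hB Q hQP hQc g (hHQ g) hgC
    obtain ⟨hg2, hginv⟩ := hQcond
    obtain ⟨s, hs⟩ := hSc.exists_generator
    obtain ⟨e, he⟩ := IsPGroup.iff_orderOf.1 T.isPGroup' s
    refine ⟨e, ?_⟩
    haveI : NeZero (p ^ e) := ⟨(pow_pos hpp.pos e).ne'⟩
    have hgT : g ∉ (T : Subgroup H) := fun hg => hgC (hTC g hg)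
    have hTz : Subgroup.zpowers (s : H) = (T : Subgroup H) := by
      refine le_antisymm (Subgroup.zpowers_le.2 s.2) fun t ht => ?_
      obtain ⟨i, hi⟩ := Subgroup.mem_zpowers_iff.1 (hs ⟨t, ht⟩)
      exact Subgroup.mem_zpowers_iff.2 ⟨i, by simpa using congrArg Subtype.val hi⟩
    refine Cfsg.Agent.PGroupsCyclic.nonempty_mulEquiv_dihedral (x := (s : H)) (y := g) ?_ ?_ ?_ ?_ ?_
    · rw [Subgroup.orderOf_coe, he]
    · rw [hTz]; exact hgT
    · exact Subtype.ext (hginv _ (hTC _ s.2))
    · rw [← hg2, Subgroup.orderOf_coe]; exact pow_orderOf_eq_one g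
    · have hTcard : Nat.card (T : Subgroup H) = p ^ e := by
        rw [← hTz, Nat.card_zpowers, Subgroup.orderOf_coe, he]
      rw [← (T : Subgroup H).index_mul_card, hTcard]
      congr 1
      rw [Subgroup.index_eq_two_iff]
      refine ⟨g, fun y => ?_⟩
      have hg2' : g * g = 1 := by
        rw [← pow_two, ← hg2, Subgroup.orderOf_coe]; exact pow_orderOf_eq_one g
      obtain ⟨i, hi⟩ := hdec y
      rcases Int.even_or_odd i with ⟨j, rfl⟩ | ⟨j, rfl⟩
      · rw [← two_mul, zpow_mul, zpow_two, hg2', one_zpow, inv_one, one_mul] at hi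
        exact Or.inr ⟨hi, fun h => hgT (by simpa using (T : Subgroup H).mul_mem ((T : Subgroup H).inv_mem hi) h)⟩
      · rw [zpow_add, zpow_mul, zpow_two, hg2', one_zpow, one_mul, zpow_one] at hi
        refine Or.inl ⟨?_, fun h => hgT ?_⟩
        · have := hT.conj_mem _ hi g
          rw [mul_assoc, mul_assoc, mul_inv_cancel_left] at this
          rwa [show g⁻¹ = g from inv_eq_of_mul_eq_one_right hg2'] at this
        · have := (T : Subgroup H).mul_mem hi ((T : Subgroup H).inv_mem h)
          simpa using this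

theorem backward [Finite G] {p : ℕ} [Fact p.Prime] (P : Sylow p G) (hPc : IsCyclic (P : Subgroup G))
    (hcond : Subgroup.normalizer ((P : Subgroup G) : Set G) = Subgroup.centralizer ((P : Subgroup G) : Set G) ∨
        ∀ Q : Subgroup G, Q ≤ P → Nat.card Q = p →
          ∀ x : G, x ∈ Subgroup.normalizer (Q : Set G) → x ∉ Subgroup.centralizer (Q : Set G) →
            orderOf x = 2 ∧ ∀ c : G, c ∈ Subgroup.centralizer (Q : Set G) → x * c * x⁻¹ = c⁻¹) :
    RestrictedPByCyclic p G := by
  intro H hn hq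
  obtain ⟨T⟩ : Nonempty (Sylow p H) := inferInstance
  obtain ⟨P', hP'⟩ := (T.isPGroup'.map H.subtype).exists_le_sylow
  obtain ⟨c, rfl⟩ := MulAction.exists_smul_eq G P P'
  set H' := H.map (MulAut.conj c⁻¹).toMonoidHom with hH'
  let e : H ≃* H' := H.equivMapOfInjective _ (MulAut.conj c⁻¹).injective
  let T' : Sylow p H' := T.mapSurjective (f := e.toMonoidHom) e.surjective
  have hT'eq : (T' : Subgroup H') = (T : Subgroup H).map e.toMonoidHom := Sylow.coe_mapSurjective _ _
  haveI := hn T
  haveI hT'n : (T' : Subgroup H').Normal := hT'eq ▸ Subgroup.Normal.map inferInstance _ e.surjective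
  have hq' : IsCyclic (H' ⧸ (T' : Subgroup H')) := by
    haveI := hq T
    refine isCyclic_of_surjective (QuotientGroup.map (T : Subgroup H) (T' : Subgroup H') e.toMonoidHom
      (Subgroup.map_le_iff_le_comap.1 hT'eq.ge)) (QuotientGroup.map_surjective_of_surjective _ _ _ ?_ _)
    exact (QuotientGroup.mk_surjective (s := (T' : Subgroup H'))).comp e.surjective
  have hle : (T' : Subgroup H').map H'.subtype ≤ P := by
    rw [hT'eq]
    rintro _ ⟨_, ⟨t, ht, rfl⟩, rfl⟩
    have h1 := hP' ⟨t, ht, rfl⟩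
    rw [Sylow.coe_subgroup_smul, Subgroup.mem_pointwise_smul_iff_inv_smul_mem] at h1
    simp only [MulAut.smul_def, ← map_inv] at h1
    exact h1
  rcases core P hPc hcond T' hq' hle with hc | ⟨n, ⟨f⟩⟩
  · haveI := hc
    exact Or.inl (isCyclic_of_surjective e.symm.toMonoidHom e.symm.surjective)
  · exact Or.inr ⟨n, ⟨e.trans f⟩⟩

/-- Let p be an odd prime and G a finite group with Sylow p-subgroup P. Say that G has restricted p-by-cyclic subgroups when every subgroup H of G whose Sylow p-subgroup is normal in H with cyclic quotient is itself cyclic or dihedral of order 2pⁿ for some n. Then G has restricted p-by-cyclic subgroups if and only if P is cyclic and one of the following holds: (1) N_G(P) = C_G(P); or (2) N_G(P)/C_G(P) has order 2 and, for the subgroup Q of order p of P, the centralizer C_G(Q) is abelian and every element of N_G(Q) outside C_G(Q) is an involution inverting every element of C_G(Q). -/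
theorem result {G : Type*} [Group G] [Finite G] {p : ℕ}
    [Fact p.Prime] (hp : p ≠ 2) (P : Sylow p G) :
    (∀ H : Subgroup G, (∀ S : Sylow p ↥H, (S : Subgroup ↥H).Normal) →
        (∀ (S : Sylow p ↥H) [(S : Subgroup ↥H).Normal], IsCyclic (↥H ⧸ (S : Subgroup ↥H))) →
        IsCyclic H ∨ (∃ n : ℕ, Nonempty (H ≃* DihedralGroup (p ^ n)))) ↔
    (IsCyclic P ∧
      (Subgroup.normalizer ((P : Subgroup G) : Set G) = Subgroup.centralizer ((P : Subgroup G) : Set G) ∨
       ((Subgroup.centralizer ((P : Subgroup G) : Set G)).relIndex (Subgroup.normalizer ((P : Subgroup G) : Set G)) = 2 ∧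
        ∀ Q : Subgroup G, Q ≤ P → Nat.card Q = p →
          IsMulCommutative ↥(Subgroup.centralizer (Q : Set G)) ∧
          ∀ x : G, x ∈ Subgroup.normalizer (Q : Set G) → x ∉ Subgroup.centralizer (Q : Set G) →
            orderOf x = 2 ∧ ∀ c : G, c ∈ Subgroup.centralizer (Q : Set G) → x * c * x⁻¹ = c⁻¹))) := by
  constructor
  · exact fun h => forward hp P h
  · rintro ⟨hc, hA | ⟨-, hB⟩⟩
    · exact backward P hc (Or.inl hA)
    · exact backward P hc (Or.inr fun Q h1 h2 => (hB Q h1 h2).2)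

end Cfsg.Agent.S4082
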