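import Cfsg.Statements.S4083
import Mathlib
import Cfsg.Agent.Lib.H74Basic
import Cfsg.Agent.Lib.PGroupsCyclic

set_option autoImplicit false
open Cfsg

namespace Cfsg.Agent.S4083

open scoped Pointwise
open Cfsg.Agent.H74Basic

variable {G : Type*} [Group G]

/-- The hypothesis of the statement, as a predicate. -/
def RestrictedTwoByCyclic (G : Type*) [Group G] : Prop :=
  ∀ H : Subgroup G, (∀ S : Sylow 2 ↥H, (S : Subgroup ↥H).Normal) →
    (∀ (S : Sylow 2 ↥H) [(S : Subgroup ↥H).Normal], IsCyclic (↥H ⧸ (S : Subgroup ↥H))) →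
    IsCyclic H ∨ (∃ n : ℕ, Nonempty (H ≃* DihedralGroup (2 ^ n))) ∨ Nonempty (H ≃* alternatingGroup (Fin 4))

theorem apply_hyp [Finite G] (h : RestrictedTwoByCyclic G) {S : Subgroup G}
    (hS : IsPGroup 2 S) {x : G} (hx : x ∈ Subgroup.normalizer (S : Set G)) :
    IsCyclic ↥(S ⊔ Subgroup.zpowers x) ∨
      (∃ n : ℕ, Nonempty (↥(S ⊔ Subgroup.zpowers x) ≃* DihedralGroup (2 ^ n))) ∨
      Nonempty (↥(S ⊔ Subgroup.zpowers x) ≃* alternatingGroup (Fin 4)) := by
  set H := S ⊔ Subgroup.zpowers x with hH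
  haveI hN : (S.subgroupOf H).Normal := (Subgroup.normal_subgroupOf_iff_le_normalizer le_sup_left).2
    (sup_le Subgroup.le_normalizer (Subgroup.zpowers_le.2 hx))
  have hxH : x ∈ H := Subgroup.mem_sup_right (Subgroup.mem_zpowers x)
  have hgen : ∀ q : H ⧸ S.subgroupOf H, q ∈ Subgroup.zpowers (QuotientGroup.mk (⟨x, hxH⟩ : H) : H ⧸ S.subgroupOf H) := by
    intro q
    obtain ⟨⟨y, hy⟩, rfl⟩ := QuotientGroup.mk_surjective q
    have hy' : y ∈ (S : Set G) * (Subgroup.zpowers x : Set G) :=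
      Subgroup.coe_mul_of_right_le_normalizer_left S (Subgroup.zpowers x) (Subgroup.zpowers_le.2 hx) ▸ hy
    obtain ⟨s, hs, z, hz, rfl⟩ := hy'
    obtain ⟨i, rfl⟩ := Subgroup.mem_zpowers_iff.1 hz
    refine Subgroup.mem_zpowers_iff.2 ⟨i, ?_⟩
    rw [← QuotientGroup.mk_zpow, QuotientGroup.eq]
    rw [Subgroup.mem_subgroupOf]
    have : x ^ (-i) * s * (x ^ (-i))⁻¹ ∈ S :=
      (Subgroup.mem_normalizer_iff.1 ((Subgroup.normalizer (S : Set G)).zpow_mem hx (-i)) s).1 hs
    simpa [mul_assoc] using this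
  haveI hc : IsCyclic (H ⧸ S.subgroupOf H) := ⟨⟨_, hgen⟩⟩
  have hle : ∀ T : Sylow 2 H, S.subgroupOf H ≤ (T : Subgroup H) := fun T => by
    refine (T.is_maximal' ?_ le_sup_left).le.trans' le_sup_right
    exact T.isPGroup'.to_sup_of_normal_right (hS.of_equiv (Subgroup.subgroupOfEquivOfLe (le_sup_left : S ≤ H)).symm)
  have hcomm : commutator H ≤ S.subgroupOf H := by
    rw [← QuotientGroup.ker_mk' (S.subgroupOf H)]
    letI : CommGroup (H ⧸ S.subgroupOf H) := IsCyclic.commGroup
    exact Abelianization.commutator_subset_ker _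
  have hnorm : ∀ T : Sylow 2 H, (T : Subgroup H).Normal := fun T => ⟨fun t ht g => by
    have h1 : g * t * g⁻¹ * t⁻¹ ∈ (T : Subgroup H) :=
      (hcomm.trans (hle T)) (Subgroup.commutator_mem_commutator trivial trivial)
    simpa using (T : Subgroup H).mul_mem h1 ht⟩
  refine h H hnorm fun T _ => ?_
  exact isCyclic_of_surjective (QuotientGroup.map (S.subgroupOf H) (T : Subgroup H) (MonoidHom.id H) (hle T))
    (QuotientGroup.map_surjective_of_surjective _ _ _ (QuotientGroup.mk_surjective (s := (T : Subgroup H))) _)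

theorem not_comm_dihedral {n : ℕ} (hn : 2 ≤ n) (h : IsMulCommutative (DihedralGroup (2 ^ n))) : False := by
  have h1 := mul_comm' (DihedralGroup.r (1 : ZMod (2 ^ n))) (DihedralGroup.sr 0)
  rw [DihedralGroup.r_mul_sr, DihedralGroup.sr_mul_r, DihedralGroup.sr.injEq, zero_sub, zero_add] at h1
  have h2 : ((2 : ℕ) : ZMod (2 ^ n)) = 0 := by push_cast; linear_combination -h1
  rw [ZMod.natCast_eq_zero_iff] at h2
  have := Nat.le_of_dvd (by norm_num) h2
  have : 2 ^ 2 ≤ 2 ^ n := Nat.pow_le_pow_right (by norm_num) hn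
  omega

theorem forward [Finite G] (P : Sylow 2 G) (h : RestrictedTwoByCyclic G) :
    IsCyclic P ∨
      ((∃ n : ℕ, 1 ≤ n ∧ Nonempty ((P : Subgroup G) ≃* DihedralGroup (2 ^ n))) ∧
        ∀ K : Subgroup G, K ≤ P → Nat.card K = 4 → (∀ k ∈ K, k ^ 2 = 1) → Subgroup.centralizer (K : Set G) = K) := by
  have hPo := apply_hyp h P.isPGroup' (x := 1) (one_mem _)
  rw [Subgroup.zpowers_one_eq_bot, sup_bot_eq] at hPo
  rcases hPo with hc | ⟨n, ⟨e⟩⟩ | ⟨⟨e⟩⟩
  · exact Or.inl hc
  · rcases Nat.eq_zero_or_pos n with rfl | hn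
    · refine Or.inl (isCyclic_of_prime_card (p := 2) ?_)
      rw [Nat.card_congr e.toEquiv, DihedralGroup.nat_card, pow_zero, mul_one]
    refine Or.inr ⟨⟨n, hn, ⟨e⟩⟩, fun K _ hK hexp => ?_⟩
    have hKc : IsMulCommutative K := IsPGroup.isMulCommutative_of_card_eq_prime_sq (p := 2) (by rw [hK]; norm_num)
    refine le_antisymm (fun z hz => ?_) fun k hk => Subgroup.mem_centralizer_iff.2 fun l hl =>
      congrArg Subtype.val (mul_comm' (⟨l, hl⟩ : K) ⟨k, hk⟩)
    set H := K ⊔ Subgroup.zpowers z with hH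
    have hKH : K ≤ H := le_sup_left
    have hHc : IsMulCommutative H := by
      rw [hH, ← Subgroup.closure_eq K, Subgroup.zpowers_eq_closure, ← Subgroup.closure_union]
      apply Subgroup.isMulCommutative_closure
      rintro a (ha | rfl) b (hb | rfl)
      · exact congrArg Subtype.val (mul_comm' (⟨a, ha⟩ : K) ⟨b, hb⟩)
      · exact Subgroup.mem_centralizer_iff.1 hz a ha
      · exact (Subgroup.mem_centralizer_iff.1 hz b hb).symm
      · rfl
    rcases apply_hyp h (IsPGroup.of_card (n := 2) (by rw [hK]; norm_num : Nat.card K = 2 ^ 2))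
        (Subgroup.centralizer_le_normalizer _ hz) with hc | ⟨m, ⟨f⟩⟩ | ⟨⟨f⟩⟩
    · exfalso
      haveI : IsCyclic K := isCyclic_of_injective (Subgroup.inclusion hKH) (Subgroup.inclusion_injective hKH)
      obtain ⟨g, hg⟩ := IsCyclic.exists_generator (α := K)
      have h2 : g ^ 2 = 1 := Subtype.ext (hexp g g.2)
      have := orderOf_dvd_of_pow_eq_one h2
      rw [orderOf_eq_card_of_forall_mem_zpowers hg, hK] at this
      norm_num at this
    · have hm : m ≤ 1 := by
        by_contra hm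
        exact not_comm_dihedral (n := m) (by omega) ⟨⟨fun a b => by
          have := hHc
          exact f.symm.injective (by rw [map_mul, map_mul]; exact mul_comm' _ _)⟩⟩
      have hle : Nat.card H ≤ 4 := by
        rw [hH, Nat.card_congr f.toEquiv, DihedralGroup.nat_card]
        calc 2 * 2 ^ m ≤ 2 * 2 ^ 1 := by gcongr; norm_num
          _ = 4 := by norm_num
      have := Subgroup.eq_of_le_of_card_ge hKH (hK ▸ hle)
      exact this ▸ (Subgroup.mem_sup_right (Subgroup.mem_zpowers z) : z ∈ H)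
    · exfalso
      have hnc : ∃ a b : alternatingGroup (Fin 4), a * b ≠ b * a := by decide
      obtain ⟨a, b, hab⟩ := hnc
      apply hab
      have := hHc
      exact f.symm.injective (by rw [map_mul, map_mul]; exact mul_comm' _ _)
  · exfalso
    have h2 := Nat.card_congr e.toEquiv
    obtain ⟨k, hk⟩ := IsPGroup.iff_card.1 P.isPGroup'
    rw [hk, nat_card_alternatingGroup, Nat.card_fin] at h2
    have h3 : 3 ∣ 2 ^ k := by rw [h2]; decide
    exact absurd ((Nat.prime_dvd_prime_iff_eq Nat.prime_three Nat.prime_two).1 (Nat.prime_three.dvd_of_dvd_pow h3)) (by norm_num)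

theorem subgroup_dihedral {T : Type*} [Group T] [Finite T] {n : ℕ} (ι : T →* DihedralGroup (2 ^ n))
    (hι : Function.Injective ι) : IsCyclic T ∨ ∃ m : ℕ, 1 ≤ m ∧ Nonempty (T ≃* DihedralGroup (2 ^ m)) := by
  set R : Subgroup (DihedralGroup (2 ^ n)) := Subgroup.zpowers (DihedralGroup.r 1) with hR
  have hrR : ∀ i : ZMod (2 ^ n), DihedralGroup.r i ∈ R := fun i => by
    obtain ⟨k, rfl⟩ := ZMod.intCast_surjective i
    exact Subgroup.mem_zpowers_iff.2 ⟨k, DihedralGroup.r_one_zpow k⟩
  set R' := R.comap ι with hR'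
  haveI hc : IsCyclic R' := isCyclic_of_injective (ι.subgroupComap R) fun a b h =>
    Subtype.ext (hι (congrArg Subtype.val h))
  by_cases htop : R' = ⊤
  · exact Or.inl (isCyclic_of_surjective R'.subtype fun x => ⟨⟨x, htop ▸ trivial⟩, rfl⟩)
  obtain ⟨y, -, hy⟩ := SetLike.exists_of_lt (lt_top_iff_ne_top.2 htop)
  obtain ⟨i, hi⟩ : ∃ i, ι y = DihedralGroup.sr i := by
    cases h : ι y with
    | r i => exact absurd (show ι y ∈ R from h ▸ hrR i) hy
    | sr i => exact ⟨i, rfl⟩
  obtain ⟨x, hx⟩ := IsCyclic.exists_generator (α := R')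
  have hz : Subgroup.zpowers (x : T) = R' := by
    refine le_antisymm (Subgroup.zpowers_le.2 x.2) fun t ht => ?_
    obtain ⟨j, hj⟩ := Subgroup.mem_zpowers_iff.1 (hx ⟨t, ht⟩)
    exact Subgroup.mem_zpowers_iff.2 ⟨j, by simpa using congrArg Subtype.val hj⟩
  have hy2 : y ^ 2 = 1 := hι (by rw [map_pow, hi, map_one, pow_two, DihedralGroup.sr_mul_self])
  obtain ⟨a, ha⟩ : ∃ a, ι x = DihedralGroup.r a := by
    obtain ⟨k, hk⟩ := Subgroup.mem_zpowers_iff.1 (x.2 : ι x ∈ R)
    exact ⟨k, by rw [← hk, DihedralGroup.r_one_zpow]⟩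
  have hinv : y * x * y⁻¹ = (x : T)⁻¹ := hι (by
    rw [map_mul, map_mul, map_inv, map_inv, hi, ha, DihedralGroup.inv_sr, DihedralGroup.sr_mul_r,
      DihedralGroup.sr_mul_sr, DihedralGroup.inv_r]
    congr 1; abel)
  obtain ⟨m, hm, hmo⟩ : ∃ m, m ≤ n ∧ orderOf (x : T) = 2 ^ m := by
    refine (Nat.dvd_prime_pow Nat.prime_two).1 ?_
    refine orderOf_dvd_of_pow_eq_one (hι ?_)
    rw [map_pow, map_one, ha, DihedralGroup.r_pow, ZMod.natCast_self, mul_zero, DihedralGroup.r_zero]
  have hcard : Nat.card T = 2 * 2 ^ m := by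
    rw [← R'.index_mul_card, ← hmo, ← Nat.card_zpowers, hz]
    congr 1
    rw [Subgroup.index_eq_two_iff]
    refine ⟨y, fun b => ?_⟩
    show Xor' (ι (b * y) ∈ R) (ι b ∈ R)
    rw [map_mul, hi]
    cases hb : ι b with
    | r j =>
      refine Or.inr ⟨hrR j, fun h => hy ?_⟩
      show ι y ∈ R
      rw [hi]
      have := R.mul_mem (R.inv_mem (hrR j)) h
      rwa [inv_mul_cancel_left] at this
    | sr j =>
      refine Or.inl ⟨by rw [DihedralGroup.sr_mul_sr]; exact hrR _, fun h => hy ?_⟩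
      show ι y ∈ R
      rw [hi]
      have := R.mul_mem h (hrR (i - j))
      rwa [DihedralGroup.sr_mul_r, add_sub_cancel] at this
  haveI : NeZero (2 ^ m) := ⟨(pow_pos Nat.two_pos m).ne'⟩
  obtain ⟨e⟩ := Cfsg.Agent.PGroupsCyclic.nonempty_mulEquiv_dihedral (x := (x : T)) (y := y) hmo
    (by rw [hz]; exact hy) hinv hy2 hcard
  rcases Nat.eq_zero_or_pos m with rfl | hm1
  · exact Or.inl (isCyclic_of_prime_card (p := 2) (by rw [hcard, pow_zero, mul_one]))
  · exact Or.inr ⟨m, hm1, ⟨e⟩⟩

/-- An automorphism of odd order of a dihedral 2-group of order at least 8 is trivial. -/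
theorem aut_trivial {m : ℕ} (hm : 2 ≤ m) (φ : MulAut (DihedralGroup (2 ^ m))) {k : ℕ} (hk : Odd k)
    (hφ : φ ^ k = 1) : φ = 1 := by
  haveI : NeZero (2 ^ m) := ⟨(pow_pos Nat.two_pos m).ne'⟩
  obtain ⟨j, rfl⟩ := hk
  obtain ⟨u, hu⟩ : ∃ u, φ (DihedralGroup.r 1) = DihedralGroup.r u := by
    cases h : φ (DihedralGroup.r 1) with
    | r u => exact ⟨u, rfl⟩
    | sr u =>
      exfalso
      have h1 : orderOf (φ (DihedralGroup.r (1 : ZMod (2 ^ m)))) = 2 ^ m := by
        rw [MulEquiv.orderOf_eq, DihedralGroup.orderOf_r_one]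
      rw [h, DihedralGroup.orderOf_sr] at h1
      have : 2 ^ 2 ≤ 2 ^ m := Nat.pow_le_pow_right (by norm_num) hm
      omega
  have hr : ∀ i, φ (DihedralGroup.r i) = DihedralGroup.r (u * i) := fun i => by
    obtain ⟨l, rfl⟩ := ZMod.intCast_surjective i
    rw [← DihedralGroup.r_one_zpow, map_zpow, hu, DihedralGroup.r_zpow]
  have hrp : ∀ l : ℕ, (φ ^ l) (DihedralGroup.r 1) = DihedralGroup.r (u ^ l) := by
    intro l
    induction l with
    | zero => simp
    | succ l ih => rw [pow_succ' φ, MulAut.mul_apply, ih, hr, pow_succ']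
  have hu1 : u ^ (2 * j + 1) = 1 := by
    have := hrp (2 * j + 1)
    rw [hφ, MulAut.one_apply, DihedralGroup.r.injEq] at this
    exact this.symm
  have hu' : u = 1 := by
    have hUnit : IsUnit u := IsUnit.of_pow_eq_one hu1 (by omega)
    have h1 : u ^ Nat.totient (2 ^ m) = 1 := by
      rw [← hUnit.unit_spec, ← Units.val_pow_eq_pow_val, ZMod.pow_totient, Units.val_one]
    have h2 := (pow_gcd_eq_one (a := u) (m := 2 * j + 1) (n := Nat.totient (2 ^ m))).2 ⟨hu1, h1⟩
    have hg : Nat.gcd (2 * j + 1) (Nat.totient (2 ^ m)) = 1 := by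
      rw [Nat.totient_prime_pow Nat.prime_two (by omega), show (2 : ℕ) - 1 = 1 from rfl, mul_one]
      exact Nat.Coprime.pow_right _ (Nat.coprime_two_right.2 ⟨j, rfl⟩)
    rwa [hg, pow_one] at h2
  obtain ⟨c, hc⟩ : ∃ c, φ (DihedralGroup.sr 0) = DihedralGroup.sr c := by
    cases h : φ (DihedralGroup.sr 0) with
    | sr c => exact ⟨c, rfl⟩
    | r c =>
      exfalso
      have := φ.injective (h.trans (by rw [hr, hu', one_mul] : DihedralGroup.r c = φ (DihedralGroup.r c)))
      simp at this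
  have hs : ∀ i, φ (DihedralGroup.sr i) = DihedralGroup.sr (c + i) := fun i => by
    rw [show DihedralGroup.sr i = DihedralGroup.sr 0 * DihedralGroup.r i by rw [DihedralGroup.sr_mul_r, zero_add],
      map_mul, hc, hr, hu', one_mul, DihedralGroup.sr_mul_r]
  have hsp : ∀ l : ℕ, (φ ^ l) (DihedralGroup.sr 0) = DihedralGroup.sr ((l : ZMod (2 ^ m)) * c) := by
    intro l
    induction l with
    | zero => simp
    | succ l ih => rw [pow_succ' φ, MulAut.mul_apply, ih, hs]; congr 1; push_cast; ring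
  have hc0 : c = 0 := by
    have h1 := hsp (2 * j + 1)
    rw [hφ, MulAut.one_apply, DihedralGroup.sr.injEq] at h1
    have hunit : IsUnit ((2 * j + 1 : ℕ) : ZMod (2 ^ m)) :=
      (ZMod.isUnit_iff_coprime _ _).2 (Nat.Coprime.pow_right _ (Nat.coprime_two_right.2 ⟨j, rfl⟩))
    exact hunit.mul_right_eq_zero.1 h1.symm
  ext d
  cases d with
  | r i => rw [hr, hu', one_mul, MulAut.one_apply]
  | sr i => rw [hs, hc0, zero_add, MulAut.one_apply]

/-- A dihedral group of order at least 4 contains a four-group. -/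
theorem exists_four {m : ℕ} (hm : 1 ≤ m) :
    ∃ K : Subgroup (DihedralGroup (2 ^ m)), Nat.card K = 4 ∧ ∀ k ∈ K, k ^ 2 = 1 := by
  set h : ZMod (2 ^ m) := ((2 ^ (m - 1) : ℕ) : ZMod (2 ^ m)) with hh
  have hsum : h + h = 0 := by
    rw [hh, ← Nat.cast_add, ZMod.natCast_eq_zero_iff, ← two_mul, ← pow_succ', Nat.sub_add_cancel hm]
  have hne : h ≠ 0 := by
    rw [hh, ne_eq, ZMod.natCast_eq_zero_iff]
    intro hd
    have := Nat.le_of_dvd (pow_pos Nat.two_pos _) hd
    exact absurd this (Nat.pow_lt_pow_right (by norm_num) (by omega)).not_ge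
  have hneg : -h = h := neg_eq_of_add_eq_zero_left hsum
  let K : Subgroup (DihedralGroup (2 ^ m)) :=
    { carrier := {DihedralGroup.r 0, DihedralGroup.r h, DihedralGroup.sr 0, DihedralGroup.sr h}
      one_mem' := Or.inl DihedralGroup.one_def
      mul_mem' := by
        rintro a b (rfl | rfl | rfl | rfl) (rfl | rfl | rfl | rfl) <;>
          simp only [DihedralGroup.r_mul_r, DihedralGroup.r_mul_sr, DihedralGroup.sr_mul_r, DihedralGroup.sr_mul_sr, Set.mem_insert_iff, Set.mem_singleton_iff, hsum, hneg, sub_eq_add_neg, neg_zero, add_zero, zero_add, true_or, or_true]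
      inv_mem' := by
        rintro a (rfl | rfl | rfl | rfl) <;> simp [DihedralGroup.inv_r, DihedralGroup.inv_sr, hneg, neg_zero] }
  refine ⟨K, ?_, ?_⟩
  · rw [← SetLike.coe_sort_coe, Nat.card_coe_set_eq]
    show ({DihedralGroup.r 0, DihedralGroup.r h, DihedralGroup.sr 0, DihedralGroup.sr h} : Set (DihedralGroup (2 ^ m))).ncard = 4
    rw [Set.ncard_insert_of_notMem (by simp [hne.symm, DihedralGroup.one_def, -DihedralGroup.r_zero]) (Set.toFinite _),
      Set.ncard_insert_of_notMem (by simp) (Set.toFinite _), Set.ncard_pair (by simp [hne.symm])]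
  · rintro k (rfl | rfl | rfl | rfl) <;> rw [pow_two] <;>
      simp [DihedralGroup.r_mul_r, DihedralGroup.sr_mul_sr, hsum]

theorem cyclic_of_central_cyclic [Finite G] {s z : G} {b : ℕ} (h : Commute s z)
    (hs : ∃ e, orderOf s = 2 ^ e) (hz : orderOf z = b) (hb : Nat.Coprime b 2)
    (hgen : Subgroup.zpowers s ⊔ Subgroup.zpowers z = ⊤) : IsCyclic G := by
  obtain ⟨e, he⟩ := hs
  have hco : (orderOf s).Coprime (orderOf z) := by rw [he, hz]; exact (hb.pow_right e).symm
  obtain ⟨m, hm⟩ := Nat.chineseRemainder hco 1 0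
  have h1 : (s * z) ^ m = s := by
    rw [h.mul_pow, ← pow_mod_orderOf s m, show m % orderOf s = 1 % orderOf s from hm.1, pow_mod_orderOf,
      pow_one, orderOf_dvd_iff_pow_eq_one.1 (Nat.modEq_zero_iff_dvd.1 hm.2), mul_one]
  have h2 : s ∈ Subgroup.zpowers (s * z) := by
    have := Subgroup.npow_mem_zpowers (s * z) m
    rwa [h1] at this
  have h3 : z ∈ Subgroup.zpowers (s * z) := by
    have := Subgroup.mul_mem _ (Subgroup.inv_mem _ h2) (Subgroup.mem_zpowers (s * z))
    rwa [inv_mul_cancel_left] at this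
  refine ⟨⟨s * z, fun x => ?_⟩⟩
  exact (hgen ▸ sup_le (Subgroup.zpowers_le.2 h2) (Subgroup.zpowers_le.2 h3) : (⊤ : Subgroup G) ≤ _) trivial

theorem backward [Finite G] (P : Sylow 2 G)
    (hcond : IsCyclic P ∨
      ((∃ n : ℕ, 1 ≤ n ∧ Nonempty ((P : Subgroup G) ≃* DihedralGroup (2 ^ n))) ∧
        ∀ K : Subgroup G, K ≤ P → Nat.card K = 4 → (∀ k ∈ K, k ^ 2 = 1) → Subgroup.centralizer (K : Set G) = K)) :
    RestrictedTwoByCyclic G := by
  intro H hn hq
  obtain ⟨T⟩ : Nonempty (Sylow 2 H) := inferInstance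
  haveI hTn := hn T
  haveI hTq := hq T
  obtain ⟨P', hP'⟩ := (T.isPGroup'.map H.subtype).exists_le_sylow
  obtain ⟨c, rfl⟩ := MulAction.exists_smul_eq G P P'
  have hmemP : ∀ t : H, t ∈ (T : Subgroup H) → c⁻¹ * (t : G) * c⁻¹⁻¹ ∈ (P : Subgroup G) := by
    intro t ht
    have h1 := hP' ⟨t, ht, rfl⟩
    rw [Sylow.coe_subgroup_smul, Subgroup.mem_pointwise_smul_iff_inv_smul_mem] at h1
    simp only [MulAut.smul_def, ← map_inv, MulAut.conj_apply] at h1
    exact h1
  let ι : (T : Subgroup H) →* (P : Subgroup G) :=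
    { toFun := fun t => ⟨c⁻¹ * ((t : H) : G) * c⁻¹⁻¹, hmemP t t.2⟩
      map_one' := Subtype.ext (by simp)
      map_mul' := fun a b => Subtype.ext (by
        show c⁻¹ * (((a : H) : G) * ((b : H) : G)) * c⁻¹⁻¹ = c⁻¹ * ((a : H) : G) * c⁻¹⁻¹ * (c⁻¹ * ((b : H) : G) * c⁻¹⁻¹)
        group) }
  have hι : Function.Injective ι := fun a b h => by
    have := congrArg Subtype.val h
    exact Subtype.ext (Subtype.ext (mul_left_cancel (mul_right_cancel this)))
  -- generators
  obtain ⟨q, hqgen⟩ := hTq.exists_generator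
  obtain ⟨g, rfl⟩ := QuotientGroup.mk_surjective q
  obtain ⟨a, z, haz, -, ⟨k, hk⟩, hz⟩ := exists_parts (p := 2) g
  have haT : a ∈ (T : Subgroup H) := by
    have hpg : IsPGroup 2 (Subgroup.zpowers a) := IsPGroup.of_card (n := k) (by rw [Nat.card_zpowers, hk])
    obtain ⟨T', hT'⟩ := hpg.exists_le_sylow
    haveI := Sylow.unique_of_normal T hTn
    obtain rfl : T' = T := Subsingleton.elim _ _
    exact hT' (Subgroup.mem_zpowers a)
  have htop : (T : Subgroup H) ⊔ Subgroup.zpowers z = ⊤ := by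
    refine top_le_iff.1 fun y _ => ?_
    obtain ⟨i, hi⟩ := Subgroup.mem_zpowers_iff.1 (hqgen (y : H ⧸ (T : Subgroup H)))
    rw [← QuotientGroup.mk_zpow, QuotientGroup.eq] at hi
    have hg' : g ∈ (T : Subgroup H) ⊔ Subgroup.zpowers z := by
      rw [haz]; exact Subgroup.mul_mem _ (Subgroup.mem_sup_left haT) (Subgroup.mem_sup_right (Subgroup.mem_zpowers z))
    have := Subgroup.mul_mem _ (Subgroup.zpow_mem _ hg' i) (Subgroup.mem_sup_left hi)
    rwa [mul_inv_cancel_left] at this
  have hzodd : Odd (orderOf z) := Nat.coprime_two_right.1 hz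
  by_cases hTc : IsCyclic (T : Subgroup H)
  · left
    obtain ⟨s, hs⟩ := hTc.exists_generator
    have hsT : Subgroup.zpowers (s : H) = (T : Subgroup H) := by
      refine le_antisymm (Subgroup.zpowers_le.2 s.2) fun t ht => ?_
      obtain ⟨j, hj⟩ := Subgroup.mem_zpowers_iff.1 (hs ⟨t, ht⟩)
      exact Subgroup.mem_zpowers_iff.2 ⟨j, by simpa using congrArg Subtype.val hj⟩
    obtain ⟨e, he⟩ := IsPGroup.iff_orderOf.1 T.isPGroup' s
    rw [← Subgroup.orderOf_coe] at he
    refine cyclic_of_central_cyclic (s := (s : H)) (z := z) ?_ ⟨e, he⟩ rfl hz (by rw [hsT, htop])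
    rcases Nat.eq_zero_or_pos e with rfl | he0
    · rw [pow_zero, orderOf_eq_one_iff] at he
      rw [he]; exact Commute.one_left z
    · have hinv : orderOf ((s : H) ^ (2 ^ (e - 1))) = 2 := by
        rw [orderOf_pow_of_dvd (pow_pos Nat.two_pos _).ne' (he ▸ pow_dvd_pow 2 (Nat.sub_le e 1)), he]
        rw [Nat.pow_div (Nat.sub_le e 1) Nat.two_pos, show e - (e - 1) = 1 by omega, pow_one]
      set w := (s : H) ^ (2 ^ (e - 1)) with hw
      have hwT : w ∈ (T : Subgroup H) := (T : Subgroup H).pow_mem s.2 _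
      have hfix : z * w * z⁻¹ = w := by
        have hzw : z * w * z⁻¹ ∈ (T : Subgroup H) := hTn.conj_mem _ hwT z
        haveI := hTc
        haveI := Fintype.ofFinite (T : Subgroup H)
        classical
        have hle := IsCyclic.card_pow_eq_one_le (α := (T : Subgroup H)) Nat.two_pos
        by_contra hne
        have hw1 : w ≠ 1 := fun h => by rw [h, orderOf_one] at hinv; norm_num at hinv
        have hsub : ({1, ⟨w, hwT⟩, ⟨_, hzw⟩} : Finset (T : Subgroup H)) ⊆ Finset.univ.filter fun x => x ^ 2 = 1 := by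
          intro x hx
          simp only [Finset.mem_insert, Finset.mem_singleton] at hx
          simp only [Finset.mem_filter, Finset.mem_univ, true_and]
          have hw2 : w ^ 2 = 1 := by rw [← hinv]; exact pow_orderOf_eq_one w
          rcases hx with rfl | rfl | rfl
          · exact one_pow 2
          · exact Subtype.ext hw2
          · refine Subtype.ext ?_
            show (z * w * z⁻¹) ^ 2 = 1
            rw [conj_pow, hw2, mul_one, mul_inv_cancel]
        have hcard := Finset.card_le_card hsub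
        rw [Finset.card_insert_of_notMem, Finset.card_pair] at hcard
        · omega
        · exact fun h => hne (congrArg Subtype.val h).symm
        · simp only [Finset.mem_insert, Finset.mem_singleton, not_or]
          exact ⟨fun h => hw1 (congrArg Subtype.val h).symm,
            fun h => hw1 (conj_eq_one_iff.1 (congrArg Subtype.val h).symm)⟩
      have hzn : z ∈ Subgroup.normalizer ((T : Subgroup H) : Set H) := by rw [Subgroup.normalizer_eq_top]; trivial
      have hzc := centralizes T hTc hzn (Or.inl ⟨w, hwT, fun h => by rw [h, orderOf_one] at hinv; norm_num at hinv, hfix⟩)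
      exact Subgroup.mem_centralizer_iff.1 hzc s s.2
  -- the Sylow subgroup is dihedral
  obtain ⟨⟨n, -, ⟨eP⟩⟩, hK⟩ : ((∃ n : ℕ, 1 ≤ n ∧ Nonempty ((P : Subgroup G) ≃* DihedralGroup (2 ^ n))) ∧
        ∀ K : Subgroup G, K ≤ P → Nat.card K = 4 → (∀ k ∈ K, k ^ 2 = 1) → Subgroup.centralizer (K : Set G) = K) := by
    refine hcond.resolve_left fun hPc => hTc ?_
    haveI := hPc
    exact isCyclic_of_injective ι hι
  obtain ⟨m, hm, ⟨eT⟩⟩ := (subgroup_dihedral (eP.toMonoidHom.comp ι) (eP.injective.comp hι)).resolve_left hTc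
  obtain ⟨K, hKcard, hKexp⟩ := exists_four hm
  set K₁ := K.map eT.symm.toMonoidHom with hK₁
  set K₂ := K₁.map ((P : Subgroup G).subtype.comp ι) with hK₂
  have hinj : Function.Injective ((P : Subgroup G).subtype.comp ι) := Subtype.val_injective.comp hι
  have hK₂c : Nat.card K₂ = 4 := by
    rw [hK₂, ← Nat.card_congr (K₁.equivMapOfInjective _ hinj).toEquiv, hK₁,
      ← Nat.card_congr (K.equivMapOfInjective _ eT.symm.injective).toEquiv, hKcard]
  have hK₂e : ∀ u ∈ K₂, u ^ 2 = 1 := by
    rintro _ ⟨_, ⟨d, hd, rfl⟩, rfl⟩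
    rw [← map_pow, ← map_pow, hKexp d hd, map_one, map_one]
  have hCK : Subgroup.centralizer (K₂ : Set G) = K₂ := by
    refine hK K₂ ?_ hK₂c hK₂e
    rintro _ ⟨v, -, rfl⟩
    exact (ι v).2
  -- odd elements centralizing the four-group are trivial
  have hone : ∀ u : H, Odd (orderOf u) → (∀ v : (T : Subgroup H), eT v ∈ K → u * v = v * u) → u = 1 := by
    intro u hu hc
    have hmem : c⁻¹ * (u : G) * c⁻¹⁻¹ ∈ Subgroup.centralizer (K₂ : Set G) := by
      rw [Subgroup.mem_centralizer_iff]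
      rintro _ ⟨_, ⟨d, hd, rfl⟩, rfl⟩
      have h1 : (u : H) * (eT.symm d : (T : Subgroup H)) = (eT.symm d : (T : Subgroup H)) * u :=
        hc (eT.symm d) (by rw [eT.apply_symm_apply]; exact hd)
      have h2 : (u : G) * ((eT.symm d : (T : Subgroup H)) : H) = ((eT.symm d : (T : Subgroup H)) : H) * (u : G) :=
        congrArg Subtype.val h1
      show c⁻¹ * (((eT.symm d : (T : Subgroup H)) : H) : G) * c⁻¹⁻¹ * (c⁻¹ * (u : G) * c⁻¹⁻¹) =
        c⁻¹ * (u : G) * c⁻¹⁻¹ * (c⁻¹ * (((eT.symm d : (T : Subgroup H)) : H) : G) * c⁻¹⁻¹)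
      calc _ = c⁻¹ * ((((eT.symm d : (T : Subgroup H)) : H) : G) * u) * c⁻¹⁻¹ := by group
        _ = c⁻¹ * ((u : G) * (((eT.symm d : (T : Subgroup H)) : H) : G)) * c⁻¹⁻¹ := by rw [h2]
        _ = _ := by group
    rw [hCK] at hmem
    have h4 := orderOf_dvd_of_pow_eq_one (hK₂e _ hmem)
    rw [← MulAut.conj_apply, MulEquiv.orderOf_eq, Subgroup.orderOf_coe] at h4
    rcases (Nat.dvd_prime Nat.prime_two).1 h4 with h5 | h5
    · exact orderOf_eq_one_iff.1 h5
    · rw [h5] at hu
      exact absurd hu (by decide)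
  have hTH : z = 1 → IsCyclic H ∨ (∃ n : ℕ, Nonempty (H ≃* DihedralGroup (2 ^ n))) ∨ Nonempty (H ≃* alternatingGroup (Fin 4)) := by
    intro hz1
    rw [hz1, Subgroup.zpowers_one_eq_bot, sup_bot_eq] at htop
    exact Or.inr (Or.inl ⟨m, ⟨(Subgroup.topEquiv.symm.trans (MulEquiv.subgroupCongr htop.symm)).trans eT⟩⟩)
  rcases Nat.lt_or_ge m 2 with hm2 | hm2
  swap
  · -- order at least 8
    apply hTH
    refine hone z hzodd fun v _ => ?_
    let ψ : MulAut (DihedralGroup (2 ^ m)) := (eT.symm.trans (MulAut.conjNormal z)).trans eT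
    have hψ : ∀ l : ℕ, ∀ w : (T : Subgroup H), (ψ ^ l) (eT w) = eT (MulAut.conjNormal (z ^ l) w) := by
      intro l
      induction l with
      | zero => intro w; simp
      | succ l ih =>
        intro w
        rw [pow_succ ψ, pow_succ z, MulAut.mul_apply, map_mul, MulAut.mul_apply]
        rw [show ψ (eT w) = eT (MulAut.conjNormal z w) by simp [ψ], ih]
    have h1 : ψ ^ orderOf z = 1 := by
      ext d
      obtain ⟨w, rfl⟩ := eT.surjective d
      rw [hψ, pow_orderOf_eq_one, map_one, MulAut.one_apply, MulAut.one_apply]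
    have h2 := aut_trivial hm2 ψ hzodd h1
    have h3 := hψ 1 v
    rw [pow_one, pow_one, h2, MulAut.one_apply] at h3
    have h4 : (v : H) = z * v * z⁻¹ := by
      conv_lhs => rw [eT.injective h3, MulAut.conjNormal_apply]
    exact (mul_inv_eq_iff_eq_mul.1 h4.symm)
  -- the four-group
  obtain rfl : m = 1 := by omega
  by_cases hz1 : z = 1
  · exact hTH hz1
  refine Or.inr (Or.inr ?_)
  have hKtop : K = ⊤ := Subgroup.eq_top_of_card_eq K (by rw [hKcard, DihedralGroup.nat_card, pow_one])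
  have hT4 : Nat.card (T : Subgroup H) = 4 := by
    rw [Nat.card_congr eT.toEquiv, DihedralGroup.nat_card, pow_one]
  have hcT : ∀ u : H, Odd (orderOf u) → (∀ v : (T : Subgroup H), u * v = v * u) → u = 1 :=
    fun u hu h => hone u hu fun v _ => h v
  -- z permutes the three involutions
  have hz3 : z ^ 3 = 1 := by
    have hz6 : z ^ 6 = 1 := by
      refine hcT _ ?_ fun v => ?_
      · exact Odd.of_dvd_nat hzodd (orderOf_pow_dvd 6)
      · classical
        haveI := Fintype.ofFinite (T : Subgroup H)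
        let X := {v : (T : Subgroup H) // v ≠ 1}
        by_cases hv : v = 1
        · rw [hv]; simp
        let π : Equiv.Perm X := (MulAut.conjNormal z : MulAut (T : Subgroup H)).toEquiv.subtypeEquiv fun w => by simp
        have hX : Nat.card X = 3 := by
          have h3 : Nat.card X = Nat.card (T : Subgroup H) - 1 := by
            rw [Nat.card_eq_fintype_card, Nat.card_eq_fintype_card]
            simp [X]
          rw [h3, hT4]
        have hπ : π ^ 6 = 1 := by
          have := pow_card_eq_one' (x := π)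
          rw [Nat.card_perm, hX] at this
          exact this
        have hπp : ∀ l : ℕ, ∀ w : X, ((π ^ l) w).1 = MulAut.conjNormal (z ^ l) w.1 := by
          intro l
          induction l with
          | zero => intro w; simp
          | succ l ih =>
            intro w
            rw [pow_succ' π, pow_succ' z, Equiv.Perm.mul_apply, map_mul, MulAut.mul_apply, ← ih]
            rfl
        have h5 := hπp 6 ⟨v, hv⟩
        rw [hπ, Equiv.Perm.one_apply] at h5
        have h6 : (v : H) = z ^ 6 * v * (z ^ 6)⁻¹ := by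
          conv_lhs => rw [show v = MulAut.conjNormal (z ^ 6) v from h5, MulAut.conjNormal_apply]
        exact mul_inv_eq_iff_eq_mul.1 h6.symm
    have hd : orderOf z ∣ 2 * 3 := orderOf_dvd_of_pow_eq_one hz6
    have hd3 := Nat.Coprime.dvd_of_dvd_mul_left hz hd
    exact orderOf_dvd_iff_pow_eq_one.1 hd3
  set Z := Subgroup.zpowers z with hZdef
  have hZc : Nat.card Z = 3 := by
    haveI := Fact.mk Nat.prime_three
    rw [hZdef, Nat.card_zpowers, orderOf_eq_prime hz3 hz1]
  have hcompl : Subgroup.IsComplement' (T : Subgroup H) Z := by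
    refine Subgroup.isComplement'_of_disjoint_and_mul_eq_univ ?_ ?_
    · exact disjoint_iff.2 (Subgroup.inf_eq_bot_of_coprime (by rw [hT4, hZc]; norm_num))
    · rw [← Subgroup.normal_mul, htop, Subgroup.coe_top]
  have hidx : Z.index = 4 := hcompl.index_eq_card.trans hT4
  have hcore : Z.normalCore = ⊥ := by
    by_contra hne
    have hd := Subgroup.card_dvd_of_le (Subgroup.normalCore_le Z)
    rw [hZc, Nat.dvd_prime Nat.prime_three] at hd
    rcases hd with hd | hd
    · exact hne (Subgroup.card_eq_one.1 hd)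
    · have heq := Subgroup.eq_of_le_of_card_ge (Subgroup.normalCore_le Z) (by rw [hd, hZc])
      haveI : Z.Normal := heq ▸ Subgroup.normalCore_normal Z
      apply hz1
      refine hcT z hzodd fun v => ?_
      exact (Subgroup.commute_of_normal_of_disjoint _ _ inferInstance inferInstance hcompl.symm.disjoint z v (Subgroup.mem_zpowers z) v.2).eq
  haveI := Fintype.ofFinite (H ⧸ Z)
  classical
  let f := MulAction.toPermHom H (H ⧸ Z)
  have hf : Function.Injective f := by
    rw [← MonoidHom.ker_eq_bot_iff]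
    show (MulAction.toPermHom H (H ⧸ Z)).ker = ⊥
    rw [← Subgroup.normalCore_eq_ker, hcore]
  have e4 : (H ⧸ Z) ≃ Fin 4 := (Fintype.equivFinOfCardEq (by
    rw [← Nat.card_eq_fintype_card, ← Subgroup.index_eq_card, hidx]))
  let g' : H →* Equiv.Perm (Fin 4) := e4.permCongrHom.toMonoidHom.comp f
  have hg' : Function.Injective g' := e4.permCongrHom.injective.comp hf
  have hcardH : Nat.card g'.range = 12 := by
    rw [← Nat.card_congr (MonoidHom.ofInjective hg').toEquiv, ← hcompl.card_mul, hT4, hZc]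
  have hrange : g'.range = alternatingGroup (Fin 4) := by
    apply Equiv.Perm.eq_alternatingGroup_of_index_eq_two
    have := g'.range.index_mul_card
    rw [hcardH, Nat.card_perm, Nat.card_fin] at this
    simp [Nat.factorial] at this
    omega
  exact ⟨(MonoidHom.ofInjective hg').trans (MulEquiv.subgroupCongr hrange)⟩

/-- Let G be a finite group with Sylow 2-subgroup P. Every subgroup H of G whose Sylow 2-subgroup is normal in H with cyclic quotient is cyclic, dihedral of 2-power order, or isomorphic to the alternating group of degree 4, if and only if either P is cyclic, or P is dihedral (of order at least 4) and every elementary abelian subgroup K of order 4 of P satisfies C_G(K) = K. -/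
theorem result {G : Type*} [Group G] [Finite G] (P : Sylow 2 G) :
    (∀ H : Subgroup G, (∀ S : Sylow 2 ↥H, (S : Subgroup ↥H).Normal) →
        (∀ (S : Sylow 2 ↥H) [(S : Subgroup ↥H).Normal], IsCyclic (↥H ⧸ (S : Subgroup ↥H))) →
        IsCyclic H ∨ (∃ n : ℕ, Nonempty (H ≃* DihedralGroup (2 ^ n))) ∨ Nonempty (H ≃* alternatingGroup (Fin 4))) ↔
    (IsCyclic P ∨
      ((∃ n : ℕ, 1 ≤ n ∧ Nonempty ((P : Subgroup G) ≃* DihedralGroup (2 ^ n))) ∧
        ∀ K : Subgroup G, K ≤ P → Nat.card K = 4 → (∀ k ∈ K, k ^ 2 = 1) → Subgroup.centralizer (K : Set G) = K)) := by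
  exact ⟨fun h => forward P h, fun h => backward P h⟩

end Cfsg.Agent.S4083
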