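import Cfsg.Statements.S4084
import Mathlib

set_option autoImplicit false
open Cfsg

namespace Cfsg.Agent.S4084

theorem transfer_order {X Y : Type*} [Group X] [Finite X] [Group Y] [Finite Y] (f : X ≃ Y)
    (hf : ∀ x y : X, Commute x y ↔ Commute (f x) (f y))
    {p q : ℕ} (hp : p.Prime) (hq : q.Prime) (hpq : p ≠ q)
    (h : ∃ g : X, orderOf g = p * q) : ∃ h : Y, orderOf h = p * q := by
  obtain ⟨g, hg⟩ := h
  obtain ⟨A, hgA, hA⟩ := Finite.exists_le_maximal (p := fun A : Subgroup X => IsMulCommutative A)
    (a := Subgroup.zpowers g) inferInstance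
  haveI : IsMulCommutative A := hA.1
  have hcard : p * q ∣ Nat.card A := by
    rw [← hg, ← Nat.card_zpowers]; exact Subgroup.card_dvd_of_le hgA
  have hAc : ∀ a ∈ A, ∀ b ∈ A, Commute a b := fun a ha b hb =>
    congrArg Subtype.val (mul_comm' (⟨a, ha⟩ : A) ⟨b, hb⟩)
  set D := Subgroup.closure (f '' (A : Set X)) with hD
  have hDc : IsMulCommutative D := by
    apply Subgroup.isMulCommutative_closure
    rintro _ ⟨a, ha, rfl⟩ _ ⟨b, hb, rfl⟩
    exact (hf a b).1 (hAc a ha b hb)
  obtain ⟨B, hDB, hB⟩ := Finite.exists_le_maximal (p := fun B : Subgroup Y => IsMulCommutative B)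
    (a := D) hDc
  haveI : IsMulCommutative B := hB.1
  have hle1 : f '' (A : Set X) ⊆ B := fun y hy => hDB (Subgroup.subset_closure hy)
  set E := Subgroup.closure (f ⁻¹' (B : Set Y)) with hE
  have hEc : IsMulCommutative E := by
    apply Subgroup.isMulCommutative_closure
    intro a ha b hb
    exact (hf a b).2 (congrArg Subtype.val (mul_comm' (⟨f a, ha⟩ : B) ⟨f b, hb⟩))
  have hAE : A ≤ E := fun a ha => Subgroup.subset_closure (hle1 ⟨a, ha, rfl⟩)
  have hEA : E ≤ A := hA.2 hEc hAE
  have heq : f '' (A : Set X) = B := by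
    refine Set.Subset.antisymm hle1 fun y hy => ⟨f.symm y, hEA (Subgroup.subset_closure ?_), by simp⟩
    simpa using hy
  have hcB : Nat.card A = Nat.card B :=
    (Nat.card_image_of_injective f.injective (A : Set X)).symm.trans (Nat.card_congr (Equiv.setCongr heq))
  rw [hcB] at hcard
  haveI := Fact.mk hp
  haveI := Fact.mk hq
  obtain ⟨a, ha⟩ := exists_prime_orderOf_dvd_card' p ((dvd_mul_right p q).trans hcard)
  obtain ⟨b, hb⟩ := exists_prime_orderOf_dvd_card' q ((dvd_mul_left q p).trans hcard)
  refine ⟨((a * b : B) : Y), ?_⟩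
  rw [Subgroup.orderOf_coe, Commute.orderOf_mul_eq_mul_orderOf_of_coprime (mul_comm' a b) ?_, ha, hb]
  rw [ha, hb]
  exact (Nat.coprime_primes hp hq).2 hpq

/-- Let G and H be finite groups whose commuting graphs are isomorphic: there is a bijection e : G → H with x, y commuting exactly when e(x), e(y) commute. Then G and H have the same prime graph: for distinct primes p, q, G has an element of order pq if and only if H does (and #G = #H, so the prime divisors agree). -/
theorem result {G H : Type*} [Group G] [Finite G] [Group H] [Finite H] (e : G ≃ H)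
    (he : ∀ x y : G, Commute x y ↔ Commute (e x) (e y))
    {p q : ℕ} (hp : p.Prime) (hq : q.Prime) (hpq : p ≠ q) :
    (∃ g : G, orderOf g = p * q) ↔ (∃ h : H, orderOf h = p * q) := by
  exact ⟨transfer_order e he hp hq hpq,
    transfer_order e.symm (fun x y => by simpa using (he (e.symm x) (e.symm y)).symm) hp hq hpq⟩

end Cfsg.Agent.S4084
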