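import Cfsg.Statements.S4085
import Mathlib

set_option autoImplicit false
open Cfsg

namespace Cfsg.Agent.S4085

section
open scoped Classical

variable {G : Type*} [Group G]

/-- Comparability in the power graph. -/
def Adj (x y : G) : Prop := x ∈ Subgroup.zpowers y ∨ y ∈ Subgroup.zpowers x

theorem adj_symm {x y : G} (h : Adj x y) : Adj y x := h.symm

theorem adj_refl (x : G) : Adj x x := Or.inl (Subgroup.mem_zpowers x)

theorem adj_one (x : G) : Adj 1 x := Or.inl (Subgroup.one_mem _)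

/-- Closed neighbourhood. -/
def Nb (x : G) : Set G := {y | Adj x y}

/-- Vertices with the same closed neighbourhood. -/
def Cls (x : G) : Set G := {y | Nb y = Nb x}

/-- Maximality of a cyclic subgroup. -/
def IsMaxGen (x : G) : Prop := ∀ y, x ∈ Subgroup.zpowers y → y ∈ Subgroup.zpowers x

theorem nb_of_max {x : G} (hx : IsMaxGen x) : Nb x = (Subgroup.zpowers x : Set G) := by
  ext y
  exact ⟨fun h => h.elim (hx y) id, fun h => Or.inr h⟩

theorem nb_eq_of_zpowers_eq {x y : G} (h : Subgroup.zpowers x = Subgroup.zpowers y) : Nb x = Nb y := by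
  ext z
  show _ ∨ _ ↔ _ ∨ _
  rw [h, ← Subgroup.zpowers_le, h, Subgroup.zpowers_le]

variable [Finite G]

theorem exists_max (h : G) : ∃ m, IsMaxGen m ∧ h ∈ Subgroup.zpowers m := by
  obtain ⟨m, hm, hmax⟩ := Set.exists_max_image {z : G | h ∈ Subgroup.zpowers z} orderOf (Set.toFinite _)
    ⟨h, Subgroup.mem_zpowers h⟩
  refine ⟨m, fun y hy => ?_, hm⟩
  have hle : Subgroup.zpowers m ≤ Subgroup.zpowers y := Subgroup.zpowers_le.2 hy
  have heq := Subgroup.eq_of_le_of_card_ge hle (by
    rw [Nat.card_zpowers, Nat.card_zpowers]; exact hmax y (hle hm))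
  exact heq ▸ Subgroup.mem_zpowers y

theorem zpowers_eq_of {x y : G} (hy : y ∈ Subgroup.zpowers x) (ho : orderOf y = orderOf x) :
    Subgroup.zpowers y = Subgroup.zpowers x :=
  Subgroup.eq_of_le_of_card_ge (Subgroup.zpowers_le.2 hy) (by rw [Nat.card_zpowers, Nat.card_zpowers, ho])

theorem mem_iff_dvd {x u v : G} (hu : u ∈ Subgroup.zpowers x) (hv : v ∈ Subgroup.zpowers x) :
    u ∈ Subgroup.zpowers v ↔ orderOf u ∣ orderOf v := by
  refine ⟨orderOf_dvd_of_mem_zpowers, fun h => ?_⟩
  obtain ⟨i, rfl⟩ := (mem_powers_iff_mem_zpowers (x := x) (y := u)).2 hu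
  obtain ⟨j, rfl⟩ := (mem_powers_iff_mem_zpowers (x := x) (y := v)).2 hv
  simp only at *
  -- pass to the cyclic subgroup generated by `x`
  let g : Subgroup.zpowers x := ⟨x, Subgroup.mem_zpowers x⟩
  have h' : orderOf (g ^ i) ∣ orderOf (g ^ j) := by
    rwa [← Subgroup.orderOf_coe, ← Subgroup.orderOf_coe (g ^ j)]
  have hle : Subgroup.zpowers (g ^ i) ≤ Subgroup.zpowers (g ^ j) := by
    intro w hw
    obtain ⟨a, rfl⟩ := Subgroup.mem_zpowers_iff.1 hw
    refine Subgroup.zpow_mem _ ?_ a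
    haveI : Fintype (Subgroup.zpowers x) := Fintype.ofFinite _
    set K := Finset.univ.filter (fun z : Subgroup.zpowers x => z ^ orderOf (g ^ j) = 1) with hK
    have hsub : Finset.univ.filter (fun z => z ∈ Subgroup.zpowers (g ^ j)) ⊆ K := fun z hz => by
      simp only [hK, Finset.mem_filter, Finset.mem_univ, true_and] at hz ⊢
      exact orderOf_dvd_iff_pow_eq_one.1 (orderOf_dvd_of_mem_zpowers hz)
    have hcard : K.card ≤ (Finset.univ.filter (fun z => z ∈ Subgroup.zpowers (g ^ j))).card := by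
      rw [← Fintype.card_subtype (fun z => z ∈ Subgroup.zpowers (g ^ j)), ← Nat.card_eq_fintype_card,
        Nat.card_zpowers]
      exact IsCyclic.card_pow_eq_one_le (orderOf_pos (g ^ j))
    have heq := Finset.eq_of_subset_of_card_le hsub hcard
    have : g ^ i ∈ K := by
      simp only [hK, Finset.mem_filter, Finset.mem_univ, true_and]
      exact orderOf_dvd_iff_pow_eq_one.1 h'
    rw [← heq] at this
    exact (Finset.mem_filter.1 this).2
  obtain ⟨a, ha⟩ := Subgroup.mem_zpowers_iff.1 (hle (Subgroup.mem_zpowers _))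
  exact Subgroup.mem_zpowers_iff.2 ⟨a, by simpa [g] using congrArg Subtype.val ha⟩

theorem adj_iff_dvd {x u v : G} (hu : u ∈ Subgroup.zpowers x) (hv : v ∈ Subgroup.zpowers x) :
    Adj u v ↔ orderOf u ∣ orderOf v ∨ orderOf v ∣ orderOf u :=
  or_congr (mem_iff_dvd hu hv) (mem_iff_dvd hv hu)

theorem exists_order {x : G} {c : ℕ} (hc : c ∣ orderOf x) : ∃ u ∈ Subgroup.zpowers x, orderOf u = c := by
  refine ⟨x ^ (orderOf x / c), Subgroup.npow_mem_zpowers x _, ?_⟩
  have h0 := (orderOf_pos x).ne'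
  rw [orderOf_pow_of_dvd (Nat.pos_iff_ne_zero.1 (Nat.div_pos (Nat.le_of_dvd (orderOf_pos x) hc)
    (Nat.pos_of_dvd_of_pos hc (orderOf_pos x)))) (Nat.div_dvd_of_dvd hc), Nat.div_div_self hc h0]

theorem totient_le_card_gens (u : G) : Nat.totient (orderOf u) ≤ Nat.card (Cls u) := by
  haveI : Fintype (Subgroup.zpowers u) := Fintype.ofFinite _
  have h := IsCyclic.card_orderOf_eq_totient (α := Subgroup.zpowers u) (d := orderOf u)
    (by rw [← Nat.card_eq_fintype_card, Nat.card_zpowers])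
  rw [← h, ← Fintype.card_subtype, ← Nat.card_eq_fintype_card]
  refine Nat.card_le_card_of_injective (fun z => (⟨(z.1 : G), nb_eq_of_zpowers_eq
    (zpowers_eq_of z.1.2 ((Subgroup.orderOf_coe z.1).trans z.2))⟩ : Cls u)) ?_
  intro a b hab
  exact Subtype.ext (Subtype.ext (congrArg (fun z : Cls u => (z : G)) hab))

/-- Not a prime power. -/
def Mixed (n : ℕ) : Prop := ∃ p q : ℕ, p.Prime ∧ q.Prime ∧ p ≠ q ∧ p ∣ n ∧ q ∣ n

theorem no_twins {n a b : ℕ} (hn : Mixed n) (ha : a ∣ n) (hb : b ∣ n) (ha1 : a ≠ 1) (ha' : a ≠ n)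
    (hb1 : b ≠ 1) (hb' : b ≠ n)
    (h : ∀ c, c ∣ n → ((a ∣ c ∨ c ∣ a) ↔ (b ∣ c ∨ c ∣ b))) : a = b := by
  have key : ∀ a b : ℕ, a ∣ n → b ∣ n → a ≠ 1 → a ∣ b →
      (∀ c, c ∣ n → ((a ∣ c ∨ c ∣ a) ↔ (b ∣ c ∨ c ∣ b))) → a = b := by
    intro a b ha hb ha1 hab h
    by_contra hne
    obtain ⟨p, q, hp, hq, hpq, hpn, hqn⟩ := hn
    have hn0 : n ≠ 0 ∨ n = 0 := (em (n = 0)).symm
    obtain ⟨c, hbc⟩ := hab
    have hc1 : c ≠ 1 := fun h1 => hne (by rw [hbc, h1, mul_one])
    obtain ⟨r, hr, hrc⟩ := Nat.exists_prime_and_dvd hc1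
    rcases eq_or_ne n 0 with h0 | h0
    · subst h0
      -- every number divides `0`
      obtain ⟨s, hs, hsa⟩ := Nat.exists_prime_and_dvd ha1
      obtain ⟨t, hts, ht⟩ := Nat.exists_infinite_primes (s + r + a + b + 1)
      have h2 := (h (a * t) (dvd_zero _)).1 (Or.inl (dvd_mul_right a t))
      have htpos : 0 < a ∨ a = 0 := (Nat.eq_zero_or_pos a).symm
      rcases h2 with h2 | h2
      · rcases htpos with ha0 | ha0
        · rw [hbc] at h2
          have h3 := Nat.dvd_of_mul_dvd_mul_left ha0 h2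
          have h4 := (Nat.dvd_prime ht).1 h3
          rcases h4 with h4 | h4
          · exact hc1 h4
          · rw [h4] at hbc
            have : t ≤ b := by rw [hbc]; exact Nat.le_mul_of_pos_left t ha0
            omega
        · rw [hbc, ha0, zero_mul] at hne; exact hne rfl
      · rcases Nat.eq_zero_or_pos b with hb0 | hb0
        · rcases htpos with ha0 | ha0
          · have : c = 0 := by
              rcases Nat.mul_eq_zero.1 (hbc.symm.trans hb0) with h5 | h5
              · omega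
              · exact h5
            have hc := (h t (dvd_zero _)).2 (Or.inr (hb0 ▸ dvd_zero t))
            rcases hc with hc | hc
            · rcases (Nat.dvd_prime ht).1 hc with h6 | h6
              · exact ha1 h6
              · omega
            · have := Nat.le_of_dvd ha0 hc; omega
          · exact hne (ha0.trans hb0.symm)
        · have := Nat.le_of_dvd hb0 ((dvd_mul_left t a).trans h2)
          omega
    have ha0 : a ≠ 0 := fun h1 => h0 (zero_dvd_iff.1 (h1 ▸ ha))
    have hb0 : b ≠ 0 := fun h1 => h0 (zero_dvd_iff.1 (h1 ▸ hb))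
    have hlt : a.factorization r < b.factorization r := by
      rw [hbc, Nat.factorization_mul ha0 (fun h1 => hb0 (by rw [hbc, h1, mul_zero])), Finsupp.add_apply]
      have := (hr.dvd_iff_one_le_factorization (fun h1 => hb0 (by rw [hbc, h1, mul_zero]))).1 hrc
      omega
    have hdb : r ^ (a.factorization r + 1) ∣ b := (hr.pow_dvd_iff_le_factorization hb0).2 hlt
    have hab' : a ∣ b := ⟨c, hbc⟩
    rcases (h _ (hdb.trans hb)).2 (Or.inr hdb) with h1 | h1
    swap
    · exact absurd ((hr.pow_dvd_iff_le_factorization ha0).1 h1) (by omega)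
    obtain ⟨i, -, hi⟩ := (Nat.dvd_prime_pow hr).1 h1
    have hi0 : i ≠ 0 := fun h2 => ha1 (by rw [hi, h2, pow_zero])
    obtain ⟨s, hs, hsn, hsr⟩ : ∃ s : ℕ, s.Prime ∧ s ∣ n ∧ s ≠ r := by
      rcases eq_or_ne p r with h3 | h3
      · exact ⟨q, hq, hqn, h3 ▸ Ne.symm hpq⟩
      · exact ⟨p, hp, hpn, h3⟩
    have hsa : ¬ s ∣ a := fun h2 => hsr ((Nat.prime_dvd_prime_iff_eq hs hr).1 (hs.dvd_of_dvd_pow (hi ▸ h2)))
    by_cases hsb : s ∣ b
    · rcases (h s hsn).2 (Or.inr hsb) with h2 | h2
      · rcases (Nat.dvd_prime hs).1 h2 with h3 | h3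
        · exact ha1 h3
        · exact hsa (h3 ▸ dvd_rfl)
      · exact hsa h2
    · have hcop : a.Coprime s := (hs.coprime_iff_not_dvd.2 hsa).symm
      rcases (h (a * s) (hcop.mul_dvd_of_dvd_of_dvd ha hsn)).1 (Or.inl (dvd_mul_right a s)) with h2 | h2
      · have h3 := (hr.pow_dvd_iff_le_factorization (Nat.mul_ne_zero ha0 hs.ne_zero)).1 (hdb.trans h2)
        rw [Nat.factorization_mul ha0 hs.ne_zero, Finsupp.add_apply, hs.factorization,
          Finsupp.single_apply, if_neg hsr] at h3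
        omega
      · exact hsb ((dvd_mul_left s a).trans h2)
  rcases (h a ha).1 (Or.inl dvd_rfl) with h1 | h1
  · exact (key b a hb ha hb1 h1 (fun c hc => (h c hc).symm)).symm
  · exact key a b ha hb ha1 h1 h

theorem univ_of_subset {x y : G} (hy : y ∈ Subgroup.zpowers x) (hn : Mixed (orderOf x))
    (h : (Subgroup.zpowers x : Set G) ⊆ Nb y) : y = 1 ∨ orderOf y = orderOf x := by
  by_contra hne
  push_neg at hne
  obtain ⟨h1, h2⟩ := hne
  have hd := orderOf_dvd_of_mem_zpowers hy
  have h1' : orderOf y ≠ 1 := fun h3 => h1 (orderOf_eq_one_iff.1 h3)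
  obtain ⟨r, hr, hry⟩ := Nat.exists_prime_and_dvd h1'
  obtain ⟨p, q, hp, hq, hpq, hpn, hqn⟩ := hn
  obtain ⟨s, hs, hsn, hsr⟩ : ∃ s : ℕ, s.Prime ∧ s ∣ orderOf x ∧ s ≠ r := by
    rcases eq_or_ne p r with h3 | h3
    · exact ⟨q, hq, hqn, h3 ▸ Ne.symm hpq⟩
    · exact ⟨p, hp, hpn, h3⟩
  have hcmp : ∀ c, c ∣ orderOf x → orderOf y ∣ c ∨ c ∣ orderOf y := fun c hc => by
    obtain ⟨u, hu, huo⟩ := exists_order hc
    rw [← huo]
    exact (adj_iff_dvd hy hu).1 (h hu)
  have h0 := (orderOf_pos x).ne'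
  have hfull : ∀ t : ℕ, t.Prime → t ∣ orderOf x → ∀ t' : ℕ, t'.Prime → t' ∣ orderOf y → t' ≠ t →
      t ^ (orderOf x).factorization t ∣ orderOf y := by
    intro t ht htn t' ht' hty hne'
    rcases hcmp _ (Nat.ordProj_dvd (orderOf x) t) with h3 | h3
    · exact absurd ((Nat.prime_dvd_prime_iff_eq ht' ht).1 (ht'.dvd_of_dvd_pow (hty.trans h3))) hne'
    · exact h3
  have hsy : s ^ (orderOf x).factorization s ∣ orderOf y := hfull s hs hsn r hr hry hsr.symm
  have hsy' : s ∣ orderOf y := (dvd_pow_self s (by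
    have := (hs.dvd_iff_one_le_factorization h0).1 hsn; omega)).trans hsy
  apply h2
  refine Nat.dvd_antisymm hd ((Nat.dvd_iff_prime_pow_dvd_dvd _ _).2 fun t k ht htk => ?_)
  rcases k with _ | k
  · simp
  have htn : t ∣ orderOf x := (dvd_pow_self t k.succ_ne_zero).trans htk
  refine (Nat.pow_dvd_pow t ((ht.pow_dvd_iff_le_factorization h0).1 htk)).trans ?_
  rcases eq_or_ne r t with h4 | h4
  · exact hfull t ht htn s hs hsy' (h4 ▸ hsr)
  · exact hfull t ht htn r hr hry h4

/-- Twins of an inner vertex of a maximal mixed cyclic subgroup generate the same subgroup. -/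
theorem cls_inner {x u : G} (hx : IsMaxGen x) (hn : Mixed (orderOf x)) (hu : u ∈ Subgroup.zpowers x)
    (hu1 : u ≠ 1) (hun : orderOf u ≠ orderOf x) {y : G} (hy : Nb y = Nb u) :
    y ∈ Subgroup.zpowers x ∧ orderOf y = orderOf u := by
  have hnu : ¬ (Subgroup.zpowers x : Set G) ⊆ Nb u := fun h => by
    rcases univ_of_subset hu hn h with h1 | h1
    · exact hu1 h1
    · exact hun h1
  have hxu : x ∈ Nb u := Or.inl hu
  have hyx : y ∈ Subgroup.zpowers x := by
    have h1 : x ∈ Nb y := hy.symm ▸ hxu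
    exact h1.elim id (hx y)
  have hy1 : y ≠ 1 := fun h1 => hnu fun z _ => hy ▸ (h1.symm ▸ adj_one z : Adj y z)
  have hyn : orderOf y ≠ orderOf x := fun h1 => hnu (by
    rw [← hy, nb_eq_of_zpowers_eq (zpowers_eq_of hyx h1), nb_of_max hx])
  refine ⟨hyx, (no_twins hn (orderOf_dvd_of_mem_zpowers hu) (orderOf_dvd_of_mem_zpowers hyx)
    (fun h => hu1 (orderOf_eq_one_iff.1 h)) hun (fun h => hy1 (orderOf_eq_one_iff.1 h)) hyn
    fun c hc => ?_).symm⟩
  obtain ⟨w, hw, rfl⟩ := exists_order hc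
  rw [← adj_iff_dvd hu hw, ← adj_iff_dvd hyx hw]
  exact (Set.ext_iff.1 hy w).symm

theorem card_cls_le {x u : G}
    (h : ∀ y, Nb y = Nb u → y ∈ Subgroup.zpowers x ∧ orderOf y = orderOf u)
    (hu : u ∈ Subgroup.zpowers x) : Nat.card (Cls u) ≤ Nat.totient (orderOf u) := by
  haveI : Fintype (Subgroup.zpowers x) := Fintype.ofFinite _
  rw [← IsCyclic.card_orderOf_eq_totient (α := Subgroup.zpowers x) (d := orderOf u)
    (by rw [← Nat.card_eq_fintype_card, Nat.card_zpowers]; exact orderOf_dvd_of_mem_zpowers hu),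
    ← Fintype.card_subtype, ← Nat.card_eq_fintype_card]
  refine Nat.card_le_card_of_injective (fun y => (⟨⟨y.1, (h y.1 y.2).1⟩, by
    rw [Subgroup.orderOf_mk]; exact (h y.1 y.2).2⟩ : {z : Subgroup.zpowers x // orderOf z = orderOf u})) ?_
  intro a b hab
  exact Subtype.ext (congrArg (fun z => ((z.1 : Subgroup.zpowers x) : G)) hab)

/-- Twins of a nonuniversal maximal mixed generator generate the same subgroup. -/
theorem cls_max {x : G} (hx : IsMaxGen x) (hn : Mixed (orderOf x)) (hnu : Nb x ≠ Set.univ)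
    {y : G} (hy : Nb y = Nb x) : y ∈ Subgroup.zpowers x ∧ orderOf y = orderOf x := by
  have hsub : (Subgroup.zpowers x : Set G) ⊆ Nb y := by rw [hy, nb_of_max hx]
  have hyx : y ∈ Subgroup.zpowers x := by
    have h1 : y ∈ Nb x := hy ▸ adj_refl y
    rwa [nb_of_max hx] at h1
  refine ⟨hyx, (univ_of_subset hyx hn hsub).resolve_left fun h1 => hnu ?_⟩
  rw [← hy, h1]
  exact Set.eq_univ_of_forall adj_one

variable {H : Type*} [Group H] [Finite H]

omit [Finite G] [Finite H] in
theorem nb_image (e : G ≃ H) (he : ∀ x y : G, Adj x y ↔ Adj (e x) (e y)) (x : G) :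
    Nb (e x) = e '' Nb x := by
  ext z
  obtain ⟨y, rfl⟩ := e.surjective z
  rw [e.injective.mem_set_image]
  exact (he x y).symm

omit [Finite G] [Finite H] in
theorem card_cls_image (e : G ≃ H) (he : ∀ x y : G, Adj x y ↔ Adj (e x) (e y)) (x : G) :
    Nat.card (Cls x) = Nat.card (Cls (e x)) := by
  refine Nat.card_congr (e.subtypeEquiv fun y => ?_)
  show Nb y = Nb x ↔ Nb (e y) = Nb (e x)
  rw [nb_image e he, nb_image e he, Set.image_eq_image e.injective]

theorem main {p q : ℕ} (hp : p.Prime) (hq : q.Prime) (hpq : p ≠ q) (e : G ≃ H)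
    (he : ∀ x y : G, Adj x y ↔ Adj (e x) (e y)) {g : G} (hg : orderOf g = p * q) :
    ∃ h : H, orderOf h = p * q := by
  suffices hsuf : ∃ m : H, p ∣ orderOf m ∧ q ∣ orderOf m by
    obtain ⟨m, hpm, hqm⟩ := hsuf
    obtain ⟨u, -, hu⟩ := exists_order (((Nat.coprime_primes hp hq).2 hpq).mul_dvd_of_dvd_of_dvd hpm hqm)
    exact ⟨u, hu⟩
  have he' : ∀ x y : H, Adj x y ↔ Adj (e.symm x) (e.symm y) := fun x y => by
    rw [he, e.apply_symm_apply, e.apply_symm_apply]
  obtain ⟨x, hx, hgx⟩ := exists_max g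
  have hgn : p * q ∣ orderOf x := hg ▸ orderOf_dvd_of_mem_zpowers hgx
  have hpn : p ∣ orderOf x := (dvd_mul_right p q).trans hgn
  have hqn : q ∣ orderOf x := (dvd_mul_left q p).trans hgn
  have hmix : Mixed (orderOf x) := ⟨p, q, hp, hq, hpq, hpn, hqn⟩
  have hcard : Nat.card G = Nat.card H := Nat.card_congr e
  by_cases hxu : Nb x = Set.univ
  · -- `G` is cyclic
    obtain ⟨x₁, hx₁, hx₁'⟩ : ∃ x₁ : G, Nb x₁ = Set.univ ∧ e x₁ ≠ 1 := by
      by_cases h1 : e x = 1
      · refine ⟨1, Set.eq_univ_of_forall adj_one, fun h2 => ?_⟩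
        have := e.injective (h1.trans h2.symm)
        rw [this, orderOf_one] at hpn
        exact hp.not_dvd_one hpn
      · exact ⟨x, hxu, h1⟩
    have hh : Nb (e x₁) = Set.univ := by rw [nb_image e he, hx₁, Set.image_univ, e.range_eq_univ]
    have hG : p ∣ Nat.card H ∧ q ∣ Nat.card H := by
      rw [← hcard]; exact ⟨hpn.trans (orderOf_dvd_natCard x), hqn.trans (orderOf_dvd_natCard x)⟩
    set h := e x₁ with hdef
    by_cases hmax : ∃ m, IsMaxGen m ∧ h ∈ Subgroup.zpowers m ∧ Mixed (orderOf m)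
    · obtain ⟨m, hm, hhm, hmm⟩ := hmax
      have ho := (univ_of_subset hhm hmm (by rw [hh]; exact Set.subset_univ _)).resolve_left hx₁'
      have : (Subgroup.zpowers m : Set H) = Set.univ := by
        rw [← nb_of_max hm, ← nb_eq_of_zpowers_eq (zpowers_eq_of hhm ho), hh]
      have hc : orderOf m = Nat.card H := by
        rw [← Nat.card_zpowers, ← Nat.card_univ (α := H), ← this]; rfl
      exact ⟨m, hc ▸ hG.1, hc ▸ hG.2⟩
    · push_neg at hmax
      exfalso
      obtain ⟨P, hP, hPd⟩ := Nat.exists_prime_and_dvd (fun h1 : orderOf h = 1 => hx₁' (orderOf_eq_one_iff.1 h1))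
      have hall : ∀ v : H, ∀ s : ℕ, s.Prime → s ∣ orderOf v → s = P := by
        intro v s hs hsv
        by_contra hne
        have hv : v ∈ Nb h := hh.symm ▸ Set.mem_univ v
        rcases hv with hv | hv
        · obtain ⟨m, hm, hvm⟩ := exists_max v
          exact hmax m hm ((Subgroup.zpowers_le.2 hvm) hv)
            ⟨s, P, hs, hP, hne, hsv.trans (orderOf_dvd_of_mem_zpowers hvm),
              hPd.trans (orderOf_dvd_of_mem_zpowers (Subgroup.zpowers_le.2 hvm hv))⟩
        · obtain ⟨m, hm, hhm⟩ := exists_max h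
          exact hmax m hm hhm
            ⟨s, P, hs, hP, hne, hsv.trans (orderOf_dvd_of_mem_zpowers (Subgroup.zpowers_le.2 hhm hv)),
              hPd.trans (orderOf_dvd_of_mem_zpowers hhm)⟩
      haveI := Fact.mk hp
      haveI := Fact.mk hq
      obtain ⟨a, ha⟩ := exists_prime_orderOf_dvd_card' p hG.1
      obtain ⟨b, hb⟩ := exists_prime_orderOf_dvd_card' q hG.2
      exact hpq ((hall a p hp (dvd_of_eq ha.symm)).trans (hall b q hq (dvd_of_eq hb.symm)).symm)
  set h := e x with hdef
  have hNbh : Nb h = e '' Nb x := nb_image e he x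
  have hhu : Nb h ≠ Set.univ := fun h1 => hxu (e.injective.image_injective (by
    rw [← hNbh, h1, Set.image_univ, e.range_eq_univ]))
  have hh1 : h ≠ 1 := fun h1 => hhu (h1 ▸ Set.eq_univ_of_forall adj_one)
  by_cases hmax : ∃ m, IsMaxGen m ∧ h ∈ Subgroup.zpowers m ∧ Mixed (orderOf m)
  · obtain ⟨m, hm, hhm, hmm⟩ := hmax
    by_cases hmu : Nb m = Set.univ
    · have hc : orderOf m = Nat.card H := by
        rw [← Nat.card_zpowers, ← Nat.card_univ (α := H), ← hmu, nb_of_max hm]; rfl
      exact ⟨m, hc ▸ hcard ▸ hpn.trans (orderOf_dvd_natCard x), hc ▸ hcard ▸ hqn.trans (orderOf_dvd_natCard x)⟩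
    set x' := e.symm m with hx'def
    have hNbm : Nb x' = e.symm '' Nb m := nb_image e.symm he' m
    have hx'x : x' ∈ Subgroup.zpowers x := by
      have h1 : Adj x x' := (he x x').2 (by rw [hx'def, e.apply_symm_apply]; exact Or.inl hhm)
      exact h1.elim (hx x') id
    have hx'1 : x' ≠ 1 := fun h1 => hmu (e.symm.injective.image_injective (by
      rw [← hNbm, h1, Set.image_univ, e.symm.range_eq_univ]; exact Set.eq_univ_of_forall adj_one))
    by_cases hgen : orderOf x' = orderOf x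
    · -- same size of neighbourhoods
      have h1 : Nb m = Nb h := by
        rw [hNbh, ← nb_eq_of_zpowers_eq (zpowers_eq_of hx'x hgen), hNbm, Equiv.image_symm_image]
      have h2 : orderOf m = orderOf x := by
        have := congrArg (fun S : Set H => Nat.card S) h1
        rw [nb_of_max hm, hNbh, nb_of_max hx, Nat.card_image_of_injective e.injective] at this
        simpa [Nat.card_zpowers] using this
      exact ⟨m, h2.symm ▸ hpn, h2.symm ▸ hqn⟩
    exfalso
    have hho : orderOf h ≠ orderOf m := fun h1 => hgen (by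
      have h2 : Nb h = Nb m := nb_eq_of_zpowers_eq (zpowers_eq_of hhm h1)
      have h3 : Nb x' = Nb x := by
        rw [hNbm, ← h2, hNbh, Equiv.symm_image_image]
      exact (cls_max hx hmix hxu h3).2)
    have c1 : Nat.card (Cls x) = Nat.totient (orderOf x) :=
      le_antisymm (card_cls_le (fun y hy => cls_max hx hmix hxu hy) (Subgroup.mem_zpowers x)) (totient_le_card_gens x)
    have c2 : Nat.card (Cls m) = Nat.totient (orderOf m) :=
      le_antisymm (card_cls_le (fun y hy => cls_max hm hmm hmu hy) (Subgroup.mem_zpowers m)) (totient_le_card_gens m)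
    have c3 : Nat.card (Cls h) = Nat.totient (orderOf h) :=
      le_antisymm (card_cls_le (fun y hy => cls_inner hm hmm hhm hh1 hho hy) hhm) (totient_le_card_gens h)
    have c4 : Nat.card (Cls x') = Nat.totient (orderOf x') :=
      le_antisymm (card_cls_le (fun y hy => cls_inner hx hmix hx'x hx'1 hgen hy) hx'x) (totient_le_card_gens x')
    have e1 : Nat.card (Cls x) = Nat.card (Cls h) := card_cls_image e he x
    have e2 : Nat.card (Cls m) = Nat.card (Cls x') := card_cls_image e.symm he' m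
    have hdx : orderOf x' ∣ orderOf x := orderOf_dvd_of_mem_zpowers hx'x
    have hkm : orderOf h ∣ orderOf m := orderOf_dvd_of_mem_zpowers hhm
    have hhalf : ∀ d n : ℕ, d ∣ n → 0 < n → d ≠ n → d.totient = n.totient → n = 2 * d ∧ ¬ 2 ∣ d := by
      rintro d n ⟨c, rfl⟩ hn hne hφ
      have hd0 : 0 < d := Nat.pos_of_mul_pos_right hn
      have hdφ : 0 < d.totient := Nat.totient_pos.2 hd0
      have h1 := Nat.totient_super_multiplicative d c
      rw [← hφ] at h1
      have hc : c.totient ≤ 1 := Nat.le_of_mul_le_mul_left (by rwa [mul_one]) hdφ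
      have hc0 : 0 < c := Nat.pos_of_mul_pos_left hn
      have hc1 : c.totient = 1 := le_antisymm hc (Nat.totient_pos.2 hc0)
      rcases Nat.totient_eq_one_iff.1 hc1 with rfl | rfl
      · exact absurd (mul_one d).symm hne
      · refine ⟨mul_comm d 2, fun h2 => ?_⟩
        rw [mul_comm, Nat.totient_mul_of_prime_of_dvd Nat.prime_two h2] at hφ
        omega
    have l1 : (orderOf x').totient ≤ (orderOf x).totient :=
      Nat.le_of_dvd (Nat.totient_pos.2 (orderOf_pos x)) (Nat.totient_dvd_of_dvd hdx)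
    have l2 : (orderOf h).totient ≤ (orderOf m).totient :=
      Nat.le_of_dvd (Nat.totient_pos.2 (orderOf_pos m)) (Nat.totient_dvd_of_dvd hkm)
    obtain ⟨hxd, hdodd⟩ := hhalf _ _ hdx (orderOf_pos x) hgen (by omega)
    obtain ⟨-, hkodd⟩ := hhalf _ _ hkm (orderOf_pos m) hho (by omega)
    -- the involution of `zpowers x`
    obtain ⟨t, ht, hto⟩ := exists_order (x := x) (c := 2) (hxd ▸ dvd_mul_right 2 _)
    have ht1 : t ≠ 1 := fun h1 => by rw [h1, orderOf_one] at hto; omega
    have htn : orderOf t ≠ orderOf x := fun h1 => by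
      obtain ⟨a, b, ha, hb, hab, han, hbn⟩ := hmix
      rw [← h1, hto] at han hbn
      exact hab (((Nat.prime_dvd_prime_iff_eq ha Nat.prime_two).1 han).trans
        ((Nat.prime_dvd_prime_iff_eq hb Nat.prime_two).1 hbn).symm)
    set t' := e t with ht'def
    have hinv : Nb t'⁻¹ = Nb t' := nb_eq_of_zpowers_eq Subgroup.zpowers_inv
    have h2 : Nb (e.symm t'⁻¹) = Nb t := by
      rw [nb_image e.symm he', hinv, ← nb_image e.symm he', ht'def, e.symm_apply_apply]
    obtain ⟨hy, hyo⟩ := cls_inner hx hmix ht ht1 htn h2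
    have hzeq := zpowers_eq_of (x := t) (y := e.symm t'⁻¹) ((mem_iff_dvd hy ht).2 (dvd_of_eq hyo)) hyo
    have hyt : e.symm t'⁻¹ = t := by
      obtain ⟨i, hi⟩ := Subgroup.mem_zpowers_iff.1 (hzeq ▸ Subgroup.mem_zpowers (e.symm t'⁻¹) :
        e.symm t'⁻¹ ∈ Subgroup.zpowers t)
      have h2 : t ^ 2 = 1 := hto ▸ pow_orderOf_eq_one t
      rcases Int.even_or_odd i with ⟨j, hj⟩ | ⟨j, hj⟩
      · exfalso
        have : e.symm t'⁻¹ = 1 := by
          rw [← hi, hj, ← two_mul, zpow_mul, zpow_ofNat, h2, one_zpow]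
        rw [this, orderOf_one, hto] at hyo
        omega
      · rw [← hi, hj, zpow_add, zpow_mul, zpow_ofNat, h2, one_zpow, one_mul, zpow_one]
    have h3 : t'⁻¹ = t' := by
      have := congrArg e hyt
      rwa [e.apply_symm_apply] at this
    have ht'1 : t' ≠ 1 := fun h1 => by
      have h4 : Nb (e t) = Set.univ := by rw [← ht'def, h1]; exact Set.eq_univ_of_forall adj_one
      rw [nb_image e he] at h4
      have h5 : Nb t = Set.univ := e.injective.image_injective (by rw [h4, Set.image_univ, e.range_eq_univ])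
      rcases univ_of_subset ht hmix (by rw [h5]; exact Set.subset_univ _) with h6 | h6
      · exact ht1 h6
      · exact htn h6
    have ht'o : orderOf t' = 2 := orderOf_eq_prime (by rw [pow_two]; nth_rw 1 [← h3]; exact inv_mul_cancel t') ht'1
    have hadj : Adj h t' := (he x t).1 (Or.inr ht)
    rcases hadj with h4 | h4
    · have h5 := orderOf_dvd_of_mem_zpowers h4
      rw [ht'o] at h5
      rcases (Nat.dvd_prime Nat.prime_two).1 h5 with h6 | h6
      · exact hh1 (orderOf_eq_one_iff.1 h6)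
      · exact hkodd (h6 ▸ dvd_rfl)
    · exact hkodd (ht'o ▸ orderOf_dvd_of_mem_zpowers h4)
  · -- all cyclic subgroups through `h` are `P`-groups
    push_neg at hmax
    exfalso
    obtain ⟨P, hP, hPd⟩ := Nat.exists_prime_and_dvd (fun h1 : orderOf h = 1 => hh1 (orderOf_eq_one_iff.1 h1))
    have hall : ∀ v ∈ Nb h, ∀ s : ℕ, s.Prime → s ∣ orderOf v → s = P := by
      intro v hv s hs hsv
      by_contra hne
      obtain ⟨m, hm, hhm, hvm⟩ : ∃ m, IsMaxGen m ∧ h ∈ Subgroup.zpowers m ∧ v ∈ Subgroup.zpowers m := by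
        rcases hv with hv | hv
        · obtain ⟨m, hm, hvm⟩ := exists_max v
          exact ⟨m, hm, Subgroup.zpowers_le.2 hvm hv, hvm⟩
        · obtain ⟨m, hm, hhm⟩ := exists_max h
          exact ⟨m, hm, hhm, Subgroup.zpowers_le.2 hhm hv⟩
      exact hmax m hm hhm ⟨s, P, hs, hP, hne, hsv.trans (orderOf_dvd_of_mem_zpowers hvm),
        hPd.trans (orderOf_dvd_of_mem_zpowers hhm)⟩
    have hpow : ∀ v ∈ Nb h, ∃ i, orderOf v = P ^ i := fun v hv =>
      ⟨_, Nat.eq_prime_pow_of_unique_prime_dvd (orderOf_pos v).ne' fun {s} hs hsv => hall v hv s hs hsv⟩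
    obtain ⟨w, ⟨hwh, hwu⟩, hwmax⟩ := Set.exists_max_image {z : H | z ∈ Nb h ∧ Nb h ⊆ Nb z} orderOf
      (Set.toFinite _) ⟨h, adj_refl h, subset_rfl⟩
    have hVw : ∀ z, z ∈ Nb h → Nb h ⊆ Nb z → z ∈ Subgroup.zpowers w := by
      intro z hz hzu
      rcases hwu hz with h1 | h1
      · have := zpowers_eq_of h1 (le_antisymm (Nat.le_of_dvd (orderOf_pos z) (orderOf_dvd_of_mem_zpowers h1))
          (hwmax z ⟨hz, hzu⟩))
        exact this ▸ Subgroup.mem_zpowers z
      · exact h1
    have hup : ∀ v ∈ Subgroup.zpowers w, Nb h ⊆ Nb v := by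
      intro v hv z hz
      rcases hwu hz with h1 | h1
      · exact Or.inl (Subgroup.zpowers_le.2 h1 hv)
      · obtain ⟨i, hi⟩ := hpow w hwh
        obtain ⟨a, -, ha⟩ := (Nat.dvd_prime_pow hP).1 (hi ▸ orderOf_dvd_of_mem_zpowers hv)
        obtain ⟨b, -, hb⟩ := (Nat.dvd_prime_pow hP).1 (hi ▸ orderOf_dvd_of_mem_zpowers h1)
        refine (adj_iff_dvd hv h1).2 ?_
        rw [ha, hb]
        rcases le_total a b with h3 | h3
        · exact Or.inl (Nat.pow_dvd_pow P h3)
        · exact Or.inr (Nat.pow_dvd_pow P h3)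
    -- at least `φ(n) + 1` universal vertices
    have hlow : Nat.totient (orderOf x) + 1 ≤ orderOf w := by
      set S : Set G := {y | y ∈ Nb x ∧ Nb x ⊆ Nb y}
      have h1 : Nat.card S ≤ orderOf w := by
        rw [← Nat.card_zpowers]
        refine Nat.card_le_card_of_injective (fun y => (⟨e y.1, hVw _ ?_ ?_⟩ : Subgroup.zpowers w)) ?_
        · rw [hNbh]; exact Set.mem_image_of_mem _ y.2.1
        · rw [hNbh, nb_image e he]; exact Set.image_mono y.2.2
        · intro a b hab; exact Subtype.ext (e.injective (congrArg Subtype.val hab))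
      refine le_trans ?_ h1
      have h2 : (1 : G) ∉ Cls x := fun h3 => hxu ((show Nb (1 : G) = Nb x from h3).symm ▸ Set.eq_univ_of_forall adj_one)
      have h3 : insert (1 : G) (Cls x) ⊆ S := by
        rintro y (rfl | hy)
        · exact ⟨adj_symm (adj_one x), fun z _ => adj_one z⟩
        · exact ⟨(show Nb y = Nb x from hy) ▸ adj_refl y, (show Nb y = Nb x from hy).ge⟩
      have h4 := Set.ncard_le_ncard h3 (Set.toFinite _)
      rw [Set.ncard_insert_of_notMem h2 (Set.toFinite _), ← Nat.card_coe_set_eq, ← Nat.card_coe_set_eq] at h4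
      exact (Nat.add_le_add_right (totient_le_card_gens x) 1).trans h4
    obtain ⟨a, ha, hao⟩ := exists_order hpn
    have ha1 : a ≠ 1 := fun h1 => by rw [h1, orderOf_one] at hao; exact hp.ne_one hao.symm
    have han : orderOf a ≠ orderOf x := fun h1 => by
      rw [← h1, hao] at hqn
      exact hpq ((Nat.prime_dvd_prime_iff_eq hq hp).1 hqn).symm
    set u := e a
    have huN : u ∈ Nb h := by rw [hNbh, nb_of_max hx]; exact Set.mem_image_of_mem _ ha
    have hunw : u ∉ Subgroup.zpowers w := fun h1 => by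
      have h2 := hup u h1
      rw [hNbh, nb_image e he, Set.image_subset_image_iff e.injective, nb_of_max hx] at h2
      rcases univ_of_subset ha hmix h2 with h3 | h3
      · exact ha1 h3
      · exact han h3
    have hwu' : w ∈ Subgroup.zpowers u := (hwu huN).resolve_right hunw
    obtain ⟨i, hi⟩ := hpow w hwh
    obtain ⟨l, hl⟩ := hpow u huN
    have hil : i < l := by
      refine (Nat.pow_lt_pow_iff_right hP.one_lt).1 ?_
      rw [← hi, ← hl]
      exact lt_of_le_of_ne (Nat.le_of_dvd (orderOf_pos u) (orderOf_dvd_of_mem_zpowers hwu'))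
        fun h1 => hunw (zpowers_eq_of hwu' h1 ▸ Subgroup.mem_zpowers u)
    have c1 : Nat.card (Cls a) ≤ Nat.totient (orderOf a) :=
      card_cls_le (fun y hy => cls_inner hx hmix ha ha1 han hy) ha
    have c2 := totient_le_card_gens u
    rw [← card_cls_image e he a] at c2
    have h5 : orderOf w ≤ Nat.totient (orderOf u) := by
      rw [hi, hl, Nat.totient_prime_pow hP (by omega)]
      calc P ^ i ≤ P ^ (l - 1) := Nat.pow_le_pow_right hP.pos (by omega)
        _ ≤ P ^ (l - 1) * (P - 1) := Nat.le_mul_of_pos_right _ (Nat.sub_pos_of_lt hP.one_lt)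
    have h6 : Nat.totient (orderOf a) ≤ Nat.totient (orderOf x) :=
      Nat.le_of_dvd (Nat.totient_pos.2 (orderOf_pos x)) (Nat.totient_dvd_of_dvd (orderOf_dvd_of_mem_zpowers ha))
    omega

end

/-- Let G and H be finite groups whose power graphs are isomorphic: there is a bijection e : G → H such that, for all x, y, one of x, y is a power of the other exactly when one of e(x), e(y) is a power of the other. Then G and H have the same prime graph: for distinct primes p, q, G has an element of order pq if and only if H does. -/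
theorem result {G H : Type*} [Group G] [Finite G] [Group H] [Finite H] (e : G ≃ H)
    (he : ∀ x y : G, (x ∈ Subgroup.zpowers y ∨ y ∈ Subgroup.zpowers x) ↔
      (e x ∈ Subgroup.zpowers (e y) ∨ e y ∈ Subgroup.zpowers (e x)))
    {p q : ℕ} (hp : p.Prime) (hq : q.Prime) (hpq : p ≠ q) :
    (∃ g : G, orderOf g = p * q) ↔ (∃ h : H, orderOf h = p * q) := by
  constructor
  · rintro ⟨g, hg⟩
    exact main hp hq hpq e he hg
  · rintro ⟨g, hg⟩
    refine main hp hq hpq e.symm (fun x y => ?_) hg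
    show Adj x y ↔ Adj (e.symm x) (e.symm y)
    unfold Adj
    rw [he (e.symm x) (e.symm y), e.apply_symm_apply, e.apply_symm_apply]

end Cfsg.Agent.S4085
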