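import Cfsg.Statements.S4086
-- import your own Cfsg.Agent.* helpers here

set_option autoImplicit false
open Cfsg

namespace Cfsg.Agent.S4086

theorem le_of_card_dvd {C : Type*} [Group C] [Finite C] [IsCyclic C] (a b : C)
    (h : orderOf a ∣ orderOf b) : Subgroup.zpowers a ≤ Subgroup.zpowers b := by
  rw [Subgroup.zpowers_le]
  have hb : (Subgroup.zpowers b : Set C) = {x : C | x ^ orderOf b = 1} := by
    apply Set.eq_of_subset_of_ncard_le
    · intro x hx
      exact orderOf_dvd_iff_pow_eq_one.1 (orderOf_dvd_of_mem_zpowers hx)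
    · rw [← Nat.card_coe_set_eq (Subgroup.zpowers b : Set C), SetLike.coe_sort_coe, Nat.card_zpowers]
      classical
      haveI := Fintype.ofFinite C
      rw [Set.ncard_eq_toFinset_card']
      simpa using IsCyclic.card_pow_eq_one_le (orderOf_pos b)
    · exact Set.toFinite _
  have : a ∈ {x : C | x ^ orderOf b = 1} := orderOf_dvd_iff_pow_eq_one.1 h
  rw [← hb] at this
  exact this

/-- For a finite group G the following are equivalent: every non-identity element has prime-power order; whenever two elements generate a cyclic subgroup, one of them is a power of the other (the enhanced power graph of G coincides with its power graph). -/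
theorem result {G : Type*} [Group G] [Finite G] :
    (∀ g : G, g ≠ 1 → IsPrimePow (orderOf g)) ↔
    (∀ x y : G, IsCyclic ↥(Subgroup.closure ({x, y} : Set G)) → (x ∈ Subgroup.zpowers y ∨ y ∈ Subgroup.zpowers x)) := by
  constructor
  · intro h x y hc
    set C := Subgroup.closure ({x, y} : Set G) with hC
    obtain ⟨z, hz⟩ := hc.exists_generator
    have hx : x ∈ C := Subgroup.subset_closure (by simp)
    have hy : y ∈ C := Subgroup.subset_closure (by simp)
    obtain ⟨p, hp, k, hk⟩ : ∃ p, p.Prime ∧ ∃ k, orderOf z = p ^ k := by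
      by_cases h1 : (z : G) = 1
      · exact ⟨2, Nat.prime_two, 0, by rw [← Subgroup.orderOf_coe, h1, orderOf_one, pow_zero]⟩
      · obtain ⟨p, k, hp, -, hk⟩ := h _ h1
        exact ⟨p, hp.nat_prime, k, by rw [← Subgroup.orderOf_coe, hk]⟩
    have key : ∀ a b : C, orderOf a ∣ orderOf b → (a : G) ∈ Subgroup.zpowers (b : G) := by
      intro a b hab
      obtain ⟨n, hn⟩ := Subgroup.mem_zpowers_iff.1 (le_of_card_dvd a b hab (Subgroup.mem_zpowers a))
      exact Subgroup.mem_zpowers_iff.2 ⟨n, by rw [← hn]; simp⟩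
    have hd : ∀ a : C, orderOf a ∣ p ^ k := fun a => by
      rw [← hk, orderOf_eq_card_of_forall_mem_zpowers hz]
      exact orderOf_dvd_natCard a
    obtain ⟨i, -, hi⟩ := (Nat.dvd_prime_pow hp).1 (hd ⟨x, hx⟩)
    obtain ⟨j, -, hj⟩ := (Nat.dvd_prime_pow hp).1 (hd ⟨y, hy⟩)
    rcases le_total i j with hij | hij
    · exact Or.inl (key ⟨x, hx⟩ ⟨y, hy⟩ (hi ▸ hj ▸ pow_dvd_pow p hij))
    · exact Or.inr (key ⟨y, hy⟩ ⟨x, hx⟩ (hi ▸ hj ▸ pow_dvd_pow p hij))
  · intro h g hg
    by_contra hpp
    obtain ⟨n, hn⟩ : ∃ n, orderOf g = n := ⟨_, rfl⟩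
    rw [hn] at hpp
    have hn1 : n ≠ 1 := by rwa [← hn, ne_eq, orderOf_eq_one_iff]
    have hn0 : n ≠ 0 := hn ▸ (orderOf_pos g).ne'
    obtain ⟨p, hp, hpn⟩ := Nat.exists_prime_and_dvd hn1
    obtain ⟨a, ha⟩ : ∃ a, p ^ n.factorization p = a := ⟨_, rfl⟩
    obtain ⟨b, hb⟩ : ∃ b, n / a = b := ⟨_, rfl⟩
    have hab : a * b = n := by rw [← hb, ← ha]; exact Nat.ordProj_mul_ordCompl_eq_self n p
    have hcop : a.Coprime b := by rw [← hb, ← ha]; exact (Nat.coprime_ordCompl hp hn0).pow_left _
    have hpos := hp.factorization_pos_of_dvd hn0 hpn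
    have ha1 : a ≠ 1 := by
      rw [← ha]; exact (Nat.one_lt_pow hpos.ne' hp.one_lt).ne'
    have hb1 : b ≠ 1 := by
      intro hb1
      apply hpp
      rw [← hab, hb1, mul_one]
      exact ⟨p, n.factorization p, hp.prime, hpos, ha⟩
    have ha0 : a ≠ 0 := fun h0 => hn0 (by rw [← hab, h0, zero_mul])
    have hb0 : b ≠ 0 := fun h0 => hn0 (by rw [← hab, h0, mul_zero])
    have hoa : orderOf (g ^ b) = a := by
      rw [orderOf_pow_of_dvd hb0 (hn ▸ Dvd.intro_left a hab), hn, ← hab,
        Nat.mul_div_cancel _ (Nat.pos_of_ne_zero hb0)]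
    have hob : orderOf (g ^ a) = b := by
      rw [orderOf_pow_of_dvd ha0 (hn ▸ Dvd.intro b hab), hn, ← hab,
        Nat.mul_div_cancel_left _ (Nat.pos_of_ne_zero ha0)]
    have hle : Subgroup.closure ({g ^ b, g ^ a} : Set G) ≤ Subgroup.zpowers g := by
      rw [Subgroup.closure_le]
      rintro x (rfl | rfl) <;> exact Subgroup.pow_mem _ (Subgroup.mem_zpowers g) _
    have hcyc : IsCyclic (Subgroup.closure ({g ^ b, g ^ a} : Set G)) :=
      isCyclic_of_injective (Subgroup.inclusion hle) (Subgroup.inclusion_injective hle)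
    rcases h _ _ hcyc with hh | hh
    · have := orderOf_dvd_of_mem_zpowers hh
      rw [hoa, hob] at this
      exact ha1 (Nat.eq_one_of_dvd_coprimes hcop dvd_rfl this)
    · have := orderOf_dvd_of_mem_zpowers hh
      rw [hoa, hob] at this
      exact hb1 (Nat.eq_one_of_dvd_coprimes hcop this dvd_rfl)

end Cfsg.Agent.S4086
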