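import Cfsg.Statements.S4088
import Mathlib
import Cfsg.Agent.Lib.H74Euler
import Cfsg.Agent.Lib.ComponentsCores

set_option autoImplicit false
open Cfsg

namespace Cfsg.Agent.S4088

open scoped Classical

theorem subnormal_of_nilpotent {L : Type*} [Group L] [Finite L] [Group.IsNilpotent L] :
    ∀ H : Subgroup L, H.IsSubnormal := by
  suffices h : ∀ n, ∀ H : Subgroup L, H.index = n → H.IsSubnormal from fun H => h _ H rfl
  intro n
  induction n using Nat.strong_induction_on with
  | _ n ih =>
    intro H hn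
    by_cases hH : H = ⊤
    · subst hH; exact Subgroup.IsSubnormal.top
    have hlt := Group.normalizerCondition_of_isNilpotent (G := L) H (lt_top_iff_ne_top.2 hH)
    have hidx : (Subgroup.normalizer (H : Set L)).index < n := by
      rw [← hn, ← Subgroup.relIndex_mul_index hlt.le]
      refine lt_mul_left (Nat.pos_of_ne_zero Subgroup.index_ne_zero_of_finite) ?_
      have h0 : H.relIndex (Subgroup.normalizer (H : Set L)) ≠ 0 := Subgroup.index_ne_zero_of_finite
      have h1 : H.relIndex (Subgroup.normalizer (H : Set L)) ≠ 1 := fun h =>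
        hlt.not_ge (Subgroup.relIndex_eq_one.1 h)
      omega
    exact Subgroup.IsSubnormal.step _ _ hlt.le (ih _ hidx _ rfl)
      (Subgroup.normal_subgroupOf_iff_le_normalizer hlt.le |>.2 le_rfl)

theorem subnormalizer_iff {G : Type*} [Group G] [Finite G] {p : ℕ} [Fact p.Prime] {H : Subgroup G}
    (hH : IsPGroup p H) (g : G) :
    (H.subgroupOf (H ⊔ Subgroup.zpowers g)).IsSubnormal ↔
      ∃ K : Subgroup G, IsPGroup p K ∧ H ≤ K ∧ g ∈ Subgroup.normalizer (K : Set G) := by
  set X := H ⊔ Subgroup.zpowers g with hX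
  have hHX : H ≤ X := le_sup_left
  constructor
  · intro hsn
    have hle : H.subgroupOf X ≤ Cfsg.pCore p X :=
      Cfsg.Agent.ComponentsCores.subnormal_pGroup_le_pCore hsn
        (hH.of_equiv (Subgroup.subgroupOfEquivOfLe hHX).symm)
    refine ⟨(Cfsg.pCore p X).map X.subtype,
      (Cfsg.Agent.ComponentsCores.isPGroup_pCore p).map _, ?_, ?_⟩
    · have := Subgroup.map_mono (f := X.subtype) hle
      rwa [Subgroup.map_subgroupOf_eq_of_le hHX] at this
    · have hn : (Cfsg.pCore p X).Normal := inferInstance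
      have hg : g ∈ X := (le_sup_right : Subgroup.zpowers g ≤ X) (Subgroup.mem_zpowers g)
      rw [Subgroup.mem_normalizer_iff]
      intro z
      constructor
      · rintro ⟨w, hw, rfl⟩
        exact ⟨⟨g, hg⟩ * w * ⟨g, hg⟩⁻¹, hn.conj_mem w hw _, rfl⟩
      · rintro ⟨w, hw, hwz⟩
        refine ⟨⟨g, hg⟩⁻¹ * w * ⟨g, hg⟩, ?_, ?_⟩
        · simpa using hn.conj_mem w hw (⟨g, hg⟩⁻¹)
        · simp only [Subgroup.coe_subtype, Subgroup.coe_mul, InvMemClass.coe_inv] at hwz ⊢
          rw [hwz]; group
  · rintro ⟨K, hK, hHK, hg⟩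
    have hXK : X ≤ Subgroup.normalizer (K : Set G) :=
      sup_le (hHK.trans Subgroup.le_normalizer) (Subgroup.zpowers_le.2 hg)
    set J := K.subgroupOf X with hJ
    haveI : J.Normal := Subgroup.normal_subgroupOf_of_le_normalizer hXK
    have hJp : IsPGroup p J := hK.comap_of_injective X.subtype X.subtype_injective
    haveI := hJp.isNilpotent
    have hle : H.subgroupOf X ≤ J := fun x hx => hHK hx
    exact Subgroup.IsSubnormal.trans hle (subnormal_of_nilpotent _) (Subgroup.Normal.isSubnormal inferInstance)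

theorem card_conj_le {G : Type*} [Group G] [Finite G] (H P : Subgroup G) :
    Nat.card {K : Subgroup G // K ≤ P ∧ ∃ g : G, K = H.map (MulAut.conj g).toMonoidHom} *
        Nat.card (Subgroup.normalizer (H : Set G)) =
      Nat.card {x : G // H.map (MulAut.conj x).toMonoidHom ≤ P} := by
  haveI : Fintype {K : Subgroup G // K ≤ P ∧ ∃ g : G, K = H.map (MulAut.conj g).toMonoidHom} :=
    Fintype.ofFinite _
  let π : {x : G // H.map (MulAut.conj x).toMonoidHom ≤ P} →
      {K : Subgroup G // K ≤ P ∧ ∃ g : G, K = H.map (MulAut.conj g).toMonoidHom} :=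
    fun x => ⟨_, x.2, x.1, rfl⟩
  rw [← Nat.card_congr (Equiv.sigmaFiberEquiv π), Nat.card_sigma]
  have hfib : ∀ K, Nat.card {x // π x = K} = Nat.card (Subgroup.normalizer (H : Set G)) := by
    rintro ⟨K, hKP, g, rfl⟩
    have hiff : ∀ x : G, H.map (MulAut.conj x).toMonoidHom = H.map (MulAut.conj g).toMonoidHom ↔
        g⁻¹ * x ∈ Subgroup.normalizer (H : Set G) := by
      intro x
      rw [SetLike.ext_iff, Subgroup.mem_normalizer_iff]
      simp only [Subgroup.mem_map_equiv, MulAut.conj_symm_apply]
      constructor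
      · intro h z
        have := h (x * z * x⁻¹)
        simpa [mul_assoc] using this
      · intro h z
        have := h (x⁻¹ * z * x)
        simpa [mul_assoc] using this
    refine Nat.card_congr
      { toFun := fun x => ⟨g⁻¹ * x.1.1, (hiff _).1 (congrArg Subtype.val x.2)⟩
        invFun := fun n => ⟨⟨g * n.1, ?_⟩, Subtype.ext ((hiff (g * n.1)).2 (by
          rw [inv_mul_cancel_left]; exact n.2))⟩
        left_inv := fun x => Subtype.ext (Subtype.ext (mul_inv_cancel_left _ _))
        right_inv := fun n => Subtype.ext (inv_mul_cancel_left _ _) }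
    rw [(hiff (g * n.1)).2 (by rw [inv_mul_cancel_left]; exact n.2)]
    exact hKP
  rw [Finset.sum_congr rfl fun K _ => hfib K, Finset.sum_const, Finset.card_univ, smul_eq_mul,
    Nat.card_eq_fintype_card (α := {K : Subgroup G // K ≤ P ∧ ∃ g : G, K = H.map (MulAut.conj g).toMonoidHom})]

/-- Let G be a finite group, p a prime dividing the order of G, H a p-subgroup of G and P a Sylow p-subgroup of G. Call the subnormalizer of H the set of elements g of G such that H is subnormal in the subgroup generated by H and g. Then the number of elements of the subnormalizer of H equals the number of Sylow p-subgroups of G containing H times the order of N_G(P), and also equals the number of conjugates of H contained in P times the order of N_G(H). -/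
theorem result {G : Type*} [Group G] [Finite G] (p : ℕ) [Fact p.Prime]
    (hp : p ∣ Nat.card G) (H : Subgroup G) (hH : IsPGroup p H) (P : Sylow p G) :
    Nat.card {g : G // ((H).subgroupOf (H ⊔ Subgroup.zpowers g)).IsSubnormal} =
        Nat.card {Q : Sylow p G // H ≤ (Q : Subgroup G)} * Nat.card (Subgroup.normalizer ((P : Subgroup G) : Set G)) ∧
    Nat.card {g : G // ((H).subgroupOf (H ⊔ Subgroup.zpowers g)).IsSubnormal} =
        Nat.card {K : Subgroup G // K ≤ (P : Subgroup G) ∧ ∃ g : G, K = H.map (MulAut.conj g).toMonoidHom} *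
          Nat.card (Subgroup.normalizer (H : Set G)) := by
  classical
  haveI := Fintype.ofFinite G
  haveI := Fintype.ofFinite (Sylow p G)
  set S : Finset (Subgroup G) := Finset.univ.filter (fun L => IsPGroup p L ∧ H ≤ L) with hS
  have hmain := H74Euler.sum_chi_normalizer p S ⊤
    (fun L hL => ⟨(Finset.mem_filter.1 hL).2.1, le_top⟩)
    (fun L hL M hM hLM _ => Finset.mem_filter.2 ⟨Finset.mem_univ _, hM,
      (Finset.mem_filter.1 hL).2.2.trans hLM⟩)
  have hchi : ∀ g : G, H74Euler.chi (S.filter (fun L : Subgroup G => g ∈ Subgroup.normalizer (L : Set G))) =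
      if ((H).subgroupOf (H ⊔ Subgroup.zpowers g)).IsSubnormal then 1 else 0 := by
    intro g
    split_ifs with hg
    · obtain ⟨K, hK, hHK, hgK⟩ := (subnormalizer_iff hH g).1 hg
      set F := S.filter (fun L : Subgroup G => g ∈ Subgroup.normalizer (L : Set G))
      have hKF : K ∈ F := Finset.mem_filter.2 ⟨Finset.mem_filter.2 ⟨Finset.mem_univ _, hK, hHK⟩, hgK⟩
      refine H74Euler.chi_of_min F (m := F.inf id) ?_ (fun x hx => Finset.inf_le (f := id) hx)
      refine Finset.mem_filter.2 ⟨Finset.mem_filter.2 ⟨Finset.mem_univ _,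
        hK.to_le (Finset.inf_le (f := id) hKF),
        Finset.le_inf fun L hL => (Finset.mem_filter.1 (Finset.mem_filter.1 hL).1).2.2⟩,
        Subgroup.mem_normalizer_iff.2 fun z => ?_⟩
      have hmem : ∀ y : G, y ∈ F.inf id ↔ ∀ L ∈ F, y ∈ L := fun y => by
        rw [Finset.inf_eq_iInf, Subgroup.mem_iInf]
        simp only [Subgroup.mem_iInf, id]
      rw [hmem, hmem]
      exact forall₂_congr fun L hL => Subgroup.mem_normalizer_iff.1 (Finset.mem_filter.1 hL).2 z
    · rw [Finset.filter_eq_empty_iff.2 (fun L hL hgL => hg ((subnormalizer_iff hH g).2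
        ⟨L, (Finset.mem_filter.1 hL).2.1, (Finset.mem_filter.1 hL).2.2, hgL⟩)), H74Euler.chi_empty]
  rw [Finset.sum_congr (Finset.filter_true_of_mem (fun x _ => Subgroup.mem_top x)) (fun g _ => hchi g),
    Finset.sum_boole, ← Fintype.card_subtype, ← Nat.card_eq_fintype_card] at hmain
  have hmax : H74Euler.maxElts S = ((Finset.univ : Finset (Sylow p G)).filter
      (fun Q : Sylow p G => H ≤ (Q : Subgroup G))).image (fun Q : Sylow p G => (Q : Subgroup G)) := by
    ext L
    simp only [H74Euler.mem_maxElts, hS, Finset.mem_filter, Finset.mem_univ, true_and,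
      Finset.mem_image]
    constructor
    · rintro ⟨⟨hL, hHL⟩, hmx⟩
      obtain ⟨Q, hQ⟩ := hL.exists_le_sylow
      exact ⟨Q, hHL.trans hQ, hmx Q ⟨Q.isPGroup', hHL.trans hQ⟩ hQ⟩
    · rintro ⟨Q, hQ, rfl⟩
      exact ⟨⟨Q.isPGroup', hQ⟩, fun M hM hle => Q.is_maximal' hM.1 hle⟩
  rw [hmax, Finset.sum_image (fun a _ b _ h => Sylow.ext h)] at hmain
  simp only [top_inf_eq] at hmain
  have hconst : ∀ Q : Sylow p G, Nat.card (Subgroup.normalizer ((Q : Subgroup G) : Set G)) =
      Nat.card (Subgroup.normalizer ((P : Subgroup G) : Set G)) := fun Q => by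
    have h : ∀ R : Sylow p G, Nat.card (Subgroup.normalizer ((R : Subgroup G) : Set G)) *
        Nat.card (Sylow p G) = Nat.card G := fun R => by
      rw [R.card_eq_index_normalizer]; exact Subgroup.card_mul_index _
    exact Nat.eq_of_mul_eq_mul_right Nat.card_pos ((h Q).trans (h P).symm)
  rw [Finset.sum_congr rfl fun Q _ => congrArg Nat.cast (hconst Q), Finset.sum_const,
    ← Fintype.card_subtype, ← Nat.card_eq_fintype_card, nsmul_eq_mul] at hmain
  norm_cast at hmain
  refine ⟨hmain, hmain.trans ?_⟩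
  rw [card_conj_le]
  let π : {x : G // H.map (MulAut.conj x).toMonoidHom ≤ (P : Subgroup G)} →
      {Q : Sylow p G // H ≤ (Q : Subgroup G)} := fun x => ⟨x.1⁻¹ • P, fun h hh => by
    rw [Sylow.coe_subgroup_smul, Subgroup.mem_pointwise_smul_iff_inv_smul_mem]
    simpa [MulAut.smul_def] using x.2 (Subgroup.mem_map_of_mem _ hh)⟩
  haveI : Fintype {Q : Sylow p G // H ≤ (Q : Subgroup G)} := Fintype.ofFinite _
  rw [← Nat.card_congr (Equiv.sigmaFiberEquiv π), Nat.card_sigma]
  have hfib : ∀ Q, Nat.card {x // π x = Q} = Nat.card (Subgroup.normalizer ((P : Subgroup G) : Set G)) := by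
    rintro ⟨Q, hQ⟩
    obtain ⟨a, rfl⟩ := MulAction.exists_smul_eq G P Q
    have hiff : ∀ x : G, x⁻¹ • P = a • P ↔ x * a ∈ Subgroup.normalizer ((P : Subgroup G) : Set G) := by
      intro x
      refine (?_ : _ ↔ (x * a) • P = P).trans Sylow.smul_eq_iff_mem_normalizer
      rw [mul_smul, inv_smul_eq_iff]
      exact eq_comm
    have hn' : ∀ n : Subgroup.normalizer ((P : Subgroup G) : Set G), (n.1 * a⁻¹)⁻¹ • P = a • P :=
      fun n => (hiff _).2 (by rw [inv_mul_cancel_right]; exact n.2)
    refine Nat.card_congr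
      { toFun := fun x => ⟨x.1.1 * a, (hiff _).1 (congrArg Subtype.val x.2)⟩
        invFun := fun n => ⟨⟨n.1 * a⁻¹, ?_⟩, Subtype.ext (hn' n)⟩
        left_inv := fun x => Subtype.ext (Subtype.ext (mul_inv_cancel_right _ _))
        right_inv := fun n => Subtype.ext (inv_mul_cancel_right _ _) }
    rintro _ ⟨h, hh, rfl⟩
    have := hQ hh
    rw [← hn' n, Sylow.coe_subgroup_smul, Subgroup.mem_pointwise_smul_iff_inv_smul_mem] at this
    simpa [MulAut.smul_def, mul_assoc] using this
  rw [Finset.sum_congr rfl fun Q _ => hfib Q, Finset.sum_const, Finset.card_univ, smul_eq_mul,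
    Nat.card_eq_fintype_card (α := {Q : Sylow p G // H ≤ (Q : Subgroup G)})]

end Cfsg.Agent.S4088
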