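import Cfsg.Statements.S4089
import Mathlib
import Cfsg.Agent.Lib.LocalBasics

set_option autoImplicit false
open Cfsg

namespace Cfsg.Agent.S4089

open scoped Pointwise

theorem isSubnormal_of_nilpotent {G : Type*} [Group G] [Finite G] [Group.IsNilpotent G] (H : Subgroup G) :
    H.IsSubnormal := by
  induction H using WellFoundedGT.induction with
  | _ H ih =>
    by_cases hH : H = ⊤
    · exact hH ▸ Subgroup.Normal.isSubnormal inferInstance
    · have hlt := Group.normalizerCondition_of_isNilpotent H (lt_top_iff_ne_top.2 hH)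
      exact Subgroup.IsSubnormal.trans hlt.le
        (Subgroup.Normal.isSubnormal Subgroup.normal_in_normalizer) (ih _ hlt)

/-- `H` is subnormal in `⟨H, g⟩` iff `g` normalizes a radical `p`-subgroup containing `H`. -/
theorem subnormalizer_iff {G : Type*} [Group G] [Finite G] {p : ℕ} [Fact p.Prime]
    {H : Subgroup G} (hH : IsPGroup p H) (g : G) :
    (H.subgroupOf (H ⊔ Subgroup.zpowers g)).IsSubnormal ↔
    ∃ R : Subgroup G, H ≤ R ∧
      (Cfsg.pCore p (Subgroup.normalizer (R : Set G))).map (Subgroup.normalizer (R : Set G)).subtype = R ∧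
      g ∈ Subgroup.normalizer (R : Set G) := by
  constructor
  · intro h
    set L := H ⊔ Subgroup.zpowers g with hL
    have hle : H.subgroupOf L ≤ Cfsg.pCore p L :=
      Cfsg.Agent.LocalBasics.le_pCore_of_subnormal h
        (hH.of_equiv (Subgroup.subgroupOfEquivOfLe (le_sup_left : H ≤ L)).symm)
    set R₀ := (Cfsg.pCore p L).map L.subtype with hR₀
    have hR₀p : IsPGroup p R₀ := (Cfsg.Agent.HallCore.isPGroup_pCore p L).map _
    have hHR₀ : H ≤ R₀ := fun x hx => ⟨⟨x, Subgroup.mem_sup_left hx⟩, hle (Subgroup.mem_subgroupOf.2 hx), rfl⟩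
    have hgR₀ : g ∈ Subgroup.normalizer (R₀ : Set G) :=
      Cfsg.Agent.LocalBasics.le_normalizer_map_normal L (Cfsg.pCore p L) (Subgroup.mem_sup_right (Subgroup.mem_zpowers g))
    obtain ⟨R, -, ⟨hRp, hHR, hgR⟩, hmax⟩ := Finite.exists_le_maximal
      (p := fun R : Subgroup G => IsPGroup p R ∧ H ≤ R ∧ g ∈ Subgroup.normalizer (R : Set G))
      (a := R₀) ⟨hR₀p, hHR₀, hgR₀⟩
    refine ⟨R, hHR, ?_, hgR⟩
    set N := Subgroup.normalizer (R : Set G) with hN
    have hRle : R ≤ (Cfsg.pCore p N).map N.subtype := by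
      haveI : (R.subgroupOf N).Normal := Subgroup.normal_in_normalizer
      have := Cfsg.Agent.HallCore.le_pCore (N := R.subgroupOf N) (p := p)
        (hRp.of_equiv (Subgroup.subgroupOfEquivOfLe Subgroup.le_normalizer).symm)
      intro x hx
      exact ⟨⟨x, Subgroup.le_normalizer hx⟩, this (Subgroup.mem_subgroupOf.2 hx), rfl⟩
    refine le_antisymm (hmax ⟨(Cfsg.Agent.HallCore.isPGroup_pCore p N).map _, hHR.trans hRle, ?_⟩ hRle) hRle
    exact Cfsg.Agent.LocalBasics.le_normalizer_map_normal N (Cfsg.pCore p N) hgR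
  · rintro ⟨R, hHR, hRad, hg⟩
    set L := H ⊔ Subgroup.zpowers g with hL
    have hLN : L ≤ Subgroup.normalizer (R : Set G) :=
      sup_le (hHR.trans Subgroup.le_normalizer) (Subgroup.zpowers_le.2 hg)
    have hRp : IsPGroup p R := hRad ▸ (Cfsg.Agent.HallCore.isPGroup_pCore p _).map _
    set RL := R.subgroupOf L with hRL
    haveI : RL.Normal := Cfsg.Agent.LocalBasics.normal_subgroupOf_of_le hLN
    have hRLp : IsPGroup p RL := hRp.of_injective (L.subtype.subgroupMap RL |> fun _ =>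
      ({ toFun := fun x => ⟨((x : L) : G), x.2⟩, map_one' := rfl, map_mul' := fun _ _ => rfl } : RL →* R))
      (fun x y h => Subtype.ext (Subtype.ext (congrArg (fun z : R => (z : G)) h)))
    haveI : Group.IsNilpotent RL := hRLp.isNilpotent
    refine Subgroup.IsSubnormal.trans (K := RL) (fun x hx => ?_) (isSubnormal_of_nilpotent _)
      (Subgroup.Normal.isSubnormal inferInstance)
    exact Subgroup.mem_subgroupOf.2 (hHR (Subgroup.mem_subgroupOf.1 hx))

theorem sInf_le_radical {G : Type*} [Group G] [Finite G] {p : ℕ} [Fact p.Prime]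
    {H R : Subgroup G} (hHR : H ≤ R)
    (hRad : (Cfsg.pCore p (Subgroup.normalizer (R : Set G))).map (Subgroup.normalizer (R : Set G)).subtype = R) :
    sInf {K : Subgroup G | ∃ Q : Sylow p G, H ≤ (Q : Subgroup G) ∧ K = (Q : Subgroup G)} ≤ R := by
  set I := sInf {K : Subgroup G | ∃ Q : Sylow p G, R ≤ (Q : Subgroup G) ∧ K = (Q : Subgroup G)} with hI
  refine le_trans (sInf_le_sInf ?_) (?_ : I ≤ R)
  · rintro K ⟨Q, hQ, rfl⟩
    exact ⟨Q, hHR.trans hQ, rfl⟩
  have hRp : IsPGroup p R := hRad ▸ (Cfsg.Agent.HallCore.isPGroup_pCore p _).map _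
  obtain ⟨Q₀, hQ₀⟩ := hRp.exists_le_sylow
  have hIp : IsPGroup p I := Q₀.isPGroup'.to_le (sInf_le ⟨Q₀, hQ₀, rfl⟩)
  set N := Subgroup.normalizer (R : Set G) with hN
  have hRI : R ≤ I := le_sInf (by rintro K ⟨Q, hQ, rfl⟩; exact hQ)
  have hNI : ∀ n ∈ N, ∀ x ∈ I, n * x * n⁻¹ ∈ I := by
    intro n hn x hx
    rw [hI, Subgroup.mem_sInf]
    rintro K ⟨Q, hQ, rfl⟩
    have hQ' : R ≤ ((n⁻¹ • Q : Sylow p G) : Subgroup G) := by
      intro r hr
      rw [Sylow.coe_subgroup_smul, Subgroup.mem_pointwise_smul_iff_inv_smul_mem]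
      simp only [MulAut.smul_def, ← map_inv, MulAut.conj_apply, inv_inv]
      exact hQ ((Subgroup.mem_normalizer_iff.1 hn r).1 hr)
    have := Subgroup.mem_sInf.1 hx _ ⟨n⁻¹ • Q, hQ', rfl⟩
    rw [Sylow.coe_subgroup_smul, Subgroup.mem_pointwise_smul_iff_inv_smul_mem] at this
    simpa only [MulAut.smul_def, ← map_inv, MulAut.conj_apply, inv_inv] using this
  haveI : (I.subgroupOf N).Normal :=
    ⟨fun x hx n => Subgroup.mem_subgroupOf.2 (hNI n n.2 _ (Subgroup.mem_subgroupOf.1 hx))⟩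
  have hinf : ∀ x ∈ I, x ∈ N → x ∈ R := by
    intro x hx hxN
    have hp : IsPGroup p (I.subgroupOf N) := hIp.of_injective
      ({ toFun := fun y => ⟨((y : N) : G), y.2⟩, map_one' := rfl, map_mul' := fun _ _ => rfl } : (I.subgroupOf N) →* I)
      (fun a b h => Subtype.ext (Subtype.ext (congrArg (fun z : I => (z : G)) h)))
    have hmem := Cfsg.Agent.HallCore.le_pCore hp (Subgroup.mem_subgroupOf.2 hx : (⟨x, hxN⟩ : N) ∈ I.subgroupOf N)
    rw [← hRad]
    exact ⟨_, hmem, rfl⟩
  by_contra hne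
  haveI : Group.IsNilpotent I := hIp.isNilpotent
  have hlt : R.subgroupOf I < ⊤ := lt_top_iff_ne_top.2 fun h => hne (Subgroup.subgroupOf_eq_top.1 h)
  obtain ⟨y, hy, hy'⟩ := SetLike.exists_of_lt (Group.normalizerCondition_of_isNilpotent _ hlt)
  apply hy'
  rw [Subgroup.mem_subgroupOf]
  refine hinf y y.2 ?_
  rw [hN, Subgroup.mem_normalizer_iff]
  intro r
  constructor
  · intro hr
    have := (Subgroup.mem_normalizer_iff.1 hy ⟨r, hRI hr⟩).1 (Subgroup.mem_subgroupOf.2 hr)
    exact Subgroup.mem_subgroupOf.1 this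
  · intro hr
    have hrI : r ∈ I := by
      have := I.mul_mem (I.mul_mem (I.inv_mem y.2) (hRI hr)) y.2
      simpa [mul_assoc] using this
    exact Subgroup.mem_subgroupOf.1 ((Subgroup.mem_normalizer_iff.1 hy ⟨r, hrI⟩).2 (Subgroup.mem_subgroupOf.2 hr))

/-- Let G be a finite group, p a prime and H a p-subgroup of G. Then the set of elements g of G such that H is subnormal in the subgroup generated by H and g is the union of the normalizers N_G(R) over the subgroups R of G containing H with R = O_p(N_G(R)); and this set does not change when H is replaced by the intersection of all Sylow p-subgroups of G containing H. -/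
theorem result {G : Type*} [Group G] [Finite G] (p : ℕ) [Fact p.Prime]
    (H : Subgroup G) (hH : IsPGroup p H) :
    {g : G | ((H).subgroupOf (H ⊔ Subgroup.zpowers g)).IsSubnormal} =
      {g : G | ∃ R : Subgroup G, H ≤ R ∧ (Cfsg.pCore p (Subgroup.normalizer (R : Set G))).map (Subgroup.normalizer (R : Set G)).subtype = R ∧ g ∈ Subgroup.normalizer (R : Set G)} ∧
    ∀ g : G, (((H).subgroupOf (H ⊔ Subgroup.zpowers g)).IsSubnormal ↔
      (((sInf {K : Subgroup G | ∃ Q : Sylow p G, H ≤ (Q : Subgroup G) ∧ K = (Q : Subgroup G)})).subgroupOf ((sInf {K : Subgroup G | ∃ Q : Sylow p G, H ≤ (Q : Subgroup G) ∧ K = (Q : Subgroup G)}) ⊔ Subgroup.zpowers g)).IsSubnormal) := by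
  refine ⟨Set.ext fun g => subnormalizer_iff hH g, fun g => ?_⟩
  set I := sInf {K : Subgroup G | ∃ Q : Sylow p G, H ≤ (Q : Subgroup G) ∧ K = (Q : Subgroup G)} with hI
  obtain ⟨Q₀, hQ₀⟩ := hH.exists_le_sylow
  have hIp : IsPGroup p I := Q₀.isPGroup'.to_le (sInf_le ⟨Q₀, hQ₀, rfl⟩)
  have hHI : H ≤ I := le_sInf (by rintro K ⟨Q, hQ, rfl⟩; exact hQ)
  rw [subnormalizer_iff hH g, subnormalizer_iff hIp g]
  exact ⟨fun ⟨R, h1, h2, h3⟩ => ⟨R, sInf_le_radical h1 h2, h2, h3⟩,
    fun ⟨R, h1, h2, h3⟩ => ⟨R, hHI.trans h1, h2, h3⟩⟩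

end Cfsg.Agent.S4089
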