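import Cfsg.Statements.S4090
import Mathlib
import Cfsg.Agent.S4088

set_option autoImplicit false
open scoped BigOperators
open Cfsg

namespace Cfsg.Agent.S4090

open scoped Classical

theorem fin_telescope : ∀ {n : ℕ} (a : Fin (n + 1) → ℕ) (r c : Fin n → ℕ),
    (∀ i, a i.castSucc * r i = a i.succ * c i) →
    a 0 * ∏ i, r i = a (Fin.last n) * ∏ i, c i := by
  intro n
  induction n with
  | zero => intro a r c _; simp
  | succ n ih =>
    intro a r c h
    have h' := ih (fun i => a i.succ) (fun i => r i.succ) (fun i => c i.succ) (fun i => by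
      have := h i.succ
      rwa [← Fin.succ_castSucc] at this)
    have h0 := h 0
    rw [Fin.castSucc_zero] at h0
    rw [Fin.prod_univ_succ, Fin.prod_univ_succ, ← mul_assoc, h0]
    calc a (Fin.succ 0) * c 0 * ∏ i : Fin n, r i.succ = c 0 * (a (Fin.succ 0) * ∏ i : Fin n, r i.succ) := by ring
      _ = c 0 * (a (Fin.last n).succ * ∏ i : Fin n, c i.succ) := by rw [← h']
      _ = _ := by rw [Fin.succ_last]; ring

variable {G : Type*} [Group G] [Finite G]

theorem relIndex_mul_card_of_le {L N : Subgroup G} (h : L ≤ N) :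
    L.relIndex N * Nat.card L = Nat.card N := by
  rw [← Subgroup.relIndex_bot_left L, ← Subgroup.relIndex_bot_left N, mul_comm]
  exact Subgroup.relIndex_mul_relIndex ⊥ L N bot_le h

theorem inf_eq_of_coprime {p : ℕ} [Fact p.Prime] {L N : Subgroup G} [L.Normal] (hLN : L ≤ N)
    (hcop : (L.relIndex N).Coprime p) (P : Sylow p G) {y : G}
    (hy : y ∈ (P : Subgroup G) ⊔ L) (hyN : y ∈ N) : y ∈ L := by
  obtain ⟨q, hq, l, hl, rfl⟩ := Subgroup.mem_sup_of_normal_right.1 hy
  refine L.mul_mem ?_ hl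
  have hqN : q ∈ N := by
    have := N.mul_mem hyN (N.inv_mem (hLN hl))
    simpa [mul_assoc] using this
  obtain ⟨k, hk⟩ := P.isPGroup' ⟨q, hq⟩
  have hk' : q ^ (p ^ k) ∈ L := by
    have : q ^ (p ^ k) = 1 := congrArg Subtype.val hk
    rw [this]; exact L.one_mem
  have hr : q ^ L.relIndex N ∈ L := by
    have h1 := Subgroup.pow_index_mem (L.subgroupOf N) ⟨q, hqN⟩
    exact h1
  have hg : Nat.gcd (L.relIndex N) (p ^ k) = 1 := hcop.pow_right k
  have hdiv : orderOf (QuotientGroup.mk' L q) = 1 := by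
    refine Nat.dvd_one.1 (hg ▸ Nat.dvd_gcd (orderOf_dvd_of_pow_eq_one ?_) (orderOf_dvd_of_pow_eq_one ?_))
    · rw [← map_pow]; exact (QuotientGroup.eq_one_iff _).2 hr
    · rw [← map_pow]; exact (QuotientGroup.eq_one_iff _).2 hk'
  exact (QuotientGroup.eq_one_iff q).1 (orderOf_eq_one_iff.1 hdiv)

theorem le_sup_of_pGroup_factor {p : ℕ} [Fact p.Prime] {L N : Subgroup G} [L.Normal] [N.Normal]
    {m : ℕ} (hm : L.relIndex N = p ^ m) (P : Sylow p G) : N ≤ (P : Subgroup G) ⊔ L := by
  let Q := P.mapSurjective (f := QuotientGroup.mk' L) (QuotientGroup.mk'_surjective L)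
  have hN : IsPGroup p (N.map (QuotientGroup.mk' L)) := by
    refine IsPGroup.of_card (n := m) ?_
    rw [← Subgroup.relIndex_ker, QuotientGroup.ker_mk', hm]
  obtain ⟨Q₀, hQ₀⟩ := hN.exists_le_sylow
  obtain ⟨c, hc⟩ := MulAction.exists_smul_eq (G ⧸ L) Q₀ Q
  haveI : (N.map (QuotientGroup.mk' L)).Normal :=
    Subgroup.Normal.map inferInstance _ (QuotientGroup.mk'_surjective L)
  have hle : N.map (QuotientGroup.mk' L) ≤ (Q : Subgroup (G ⧸ L)) := by
    intro x hx
    rw [← hc, Sylow.coe_subgroup_smul, Subgroup.mem_pointwise_smul_iff_inv_smul_mem]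
    apply hQ₀
    simpa [MulAut.smul_def] using ‹(N.map (QuotientGroup.mk' L)).Normal›.conj_mem x hx c⁻¹
  calc N ≤ (N.map (QuotientGroup.mk' L)).comap (QuotientGroup.mk' L) := Subgroup.le_comap_map _ _
    _ ≤ ((P : Subgroup G).map (QuotientGroup.mk' L)).comap (QuotientGroup.mk' L) := Subgroup.comap_mono hle
    _ = (P : Subgroup G) ⊔ L := by rw [Subgroup.comap_map_eq, QuotientGroup.ker_mk']

/-- Elements of `N` centralising `H` modulo `L`. -/
def modCentralizer (H L N : Subgroup G) [L.Normal] : Subgroup G :=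
  N ⊓ (Subgroup.centralizer ((H.map (QuotientGroup.mk' L) : Subgroup (G ⧸ L)) : Set (G ⧸ L))).comap
    (QuotientGroup.mk' L)

theorem mem_modCentralizer {H L N : Subgroup G} [L.Normal] {u : G} :
    u ∈ modCentralizer H L N ↔ u ∈ N ∧ ∀ h ∈ H, h * u * h⁻¹ * u⁻¹ ∈ L := by
  rw [modCentralizer, Subgroup.mem_inf, Subgroup.mem_comap, Subgroup.mem_centralizer_iff]
  refine and_congr_right fun _ => ⟨fun h x hx => ?_, ?_⟩
  · rw [← QuotientGroup.eq_one_iff]
    have := h _ (Subgroup.mem_map_of_mem _ hx)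
    simp only [QuotientGroup.mk'_apply] at this
    rw [QuotientGroup.mk_mul, QuotientGroup.mk_mul, QuotientGroup.mk_mul, QuotientGroup.mk_inv,
      QuotientGroup.mk_inv, this]
    group
  · rintro h _ ⟨x, hx, rfl⟩
    have := (QuotientGroup.eq_one_iff _).2 (h x hx)
    rw [QuotientGroup.mk_mul, QuotientGroup.mk_mul, QuotientGroup.mk_mul, QuotientGroup.mk_inv,
      QuotientGroup.mk_inv, mul_inv_eq_one, mul_inv_eq_iff_eq_mul] at this
    exact this

theorem count_step {p : ℕ} [Fact p.Prime] (P : Sylow p G) (H : Subgroup G) (hH : IsPGroup p H)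
    (L N : Subgroup G) [L.Normal] [N.Normal] (hLN : L ≤ N) (hcop : (L.relIndex N).Coprime p) :
    Nat.card {x : G // H.map (MulAut.conj x).toMonoidHom ≤ (P : Subgroup G) ⊔ L} * Nat.card N =
      Nat.card {x : G // H.map (MulAut.conj x).toMonoidHom ≤ (P : Subgroup G) ⊔ N} *
        Nat.card (modCentralizer H L N) := by
  have hwhole : ∀ x : G, ∀ n ∈ N, H.map (MulAut.conj x).toMonoidHom ≤ (P : Subgroup G) ⊔ N →
      H.map (MulAut.conj (x * n)).toMonoidHom ≤ (P : Subgroup G) ⊔ N := by
    rintro x n hn hx _ ⟨h, hh, rfl⟩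
    have e : (MulAut.conj (x * n)).toMonoidHom h =
        x * (n * h * n⁻¹ * h⁻¹) * x⁻¹ * (x * h * x⁻¹) := by
      simp [MulAut.conj_apply, mul_assoc]
    rw [e]
    refine Subgroup.mul_mem _ (Subgroup.mem_sup_right ?_) (hx ⟨h, hh, rfl⟩)
    refine ‹N.Normal›.conj_mem _ ?_ x
    rw [mul_assoc n h, mul_assoc n]
    exact N.mul_mem hn (‹N.Normal›.conj_mem _ (N.inv_mem hn) h)
  let B := {q : G ⧸ N // H.map (MulAut.conj q.out).toMonoidHom ≤ (P : Subgroup G) ⊔ N}
  haveI : Fintype B := Fintype.ofFinite _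
  have hout : ∀ x : G, ∃ n ∈ N, ((x : G ⧸ N)).out = x * n := fun x => by
    obtain ⟨⟨n, hn⟩, h⟩ := QuotientGroup.mk_out_eq_mul N x
    exact ⟨n, hn, h⟩
  let π₁ : {x : G // H.map (MulAut.conj x).toMonoidHom ≤ (P : Subgroup G) ⊔ N} → B := fun x =>
    ⟨(x.1 : G ⧸ N), by obtain ⟨n, hn, h⟩ := hout x.1; rw [h]; exact hwhole _ n hn x.2⟩
  let π₀ : {x : G // H.map (MulAut.conj x).toMonoidHom ≤ (P : Subgroup G) ⊔ L} → B := fun x =>
    π₁ ⟨x.1, x.2.trans (sup_le_sup_left hLN _)⟩
  have hf₁ : ∀ b : B, Nat.card {x // π₁ x = b} = Nat.card N := by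
    rintro ⟨q, hq⟩
    refine Nat.card_congr
      { toFun := fun x => ⟨q.out⁻¹ * x.1.1, QuotientGroup.eq.1 (by
          rw [QuotientGroup.out_eq']; exact (congrArg Subtype.val x.2).symm)⟩
        invFun := fun n => ⟨⟨q.out * n.1, hwhole _ _ n.2 hq⟩, Subtype.ext (by
          show ((q.out * n.1 : G) : G ⧸ N) = q
          rw [QuotientGroup.mk_mul_of_mem _ n.2, QuotientGroup.out_eq'])⟩
        left_inv := fun x => Subtype.ext (Subtype.ext (mul_inv_cancel_left _ _))
        right_inv := fun n => Subtype.ext (inv_mul_cancel_left _ _) }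
  have hf₀ : ∀ b : B, Nat.card {x // π₀ x = b} = Nat.card (modCentralizer H L N) := by
    rintro ⟨q, hq⟩
    -- a Sylow subgroup of `P ⊔ N` swallows the conjugate of `H`
    obtain ⟨x, hxq, hx⟩ : ∃ x : G, (x : G ⧸ N) = q ∧
        H.map (MulAut.conj x).toMonoidHom ≤ (P : Subgroup G) ⊔ L := by
      set W := (P : Subgroup G) ⊔ N
      set H' := H.map (MulAut.conj q.out).toMonoidHom
      obtain ⟨R, hR⟩ := ((hH.map (MulAut.conj q.out).toMonoidHom).of_equiv
        (Subgroup.subgroupOfEquivOfLe hq).symm).exists_le_sylow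
      obtain ⟨⟨y, hy⟩, hyR⟩ := MulAction.exists_smul_eq W R (P.subtype le_sup_left)
      obtain ⟨s, hs, n, hn, rfl⟩ := Subgroup.mem_sup_of_normal_right.1 hy
      refine ⟨n * q.out, ?_, ?_⟩
      · conv_rhs => rw [← QuotientGroup.out_eq' q]
        rw [QuotientGroup.mk_mul, (QuotientGroup.eq_one_iff n).2 hn, one_mul]
      · rintro _ ⟨h, hh, rfl⟩
        refine Subgroup.mem_sup_left ?_
        have hmem : q.out * h * q.out⁻¹ ∈ H' := ⟨h, hh, rfl⟩
        have h2 : (⟨q.out * h * q.out⁻¹, hq hmem⟩ : W) ∈ (R : Subgroup W) := hR hmem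
        have h3 := Subgroup.smul_mem_pointwise_smul _ (MulAut.conj (⟨s * n, hy⟩ : W)) _ h2
        rw [← Sylow.pointwise_smul_def, ← Sylow.smul_def, hyR, Sylow.coe_subtype,
          Subgroup.mem_subgroupOf] at h3
        have h4 := Subgroup.mul_mem _ (Subgroup.mul_mem _ (Subgroup.inv_mem _ hs) h3) hs
        simpa [MulAut.smul_def, MulAut.conj_apply, mul_assoc] using h4
    have hiff : ∀ u : G, u ∈ N → (H.map (MulAut.conj (x * u)).toMonoidHom ≤ (P : Subgroup G) ⊔ L ↔
        u ∈ modCentralizer H L N) := by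
      intro u hu
      rw [mem_modCentralizer]
      constructor
      · intro hle
        refine ⟨hu, fun h hh => ?_⟩
        have h1 := hle ⟨h, hh, rfl⟩
        have h2 := hx ⟨h, hh, rfl⟩
        have h3 : x * (h * u * h⁻¹ * u⁻¹) * x⁻¹ ∈ (P : Subgroup G) ⊔ L := by
          have := Subgroup.mul_mem _ h2 (Subgroup.inv_mem _ h1)
          simpa [MulAut.conj_apply, mul_assoc] using this
        have h4 : x * (h * u * h⁻¹ * u⁻¹) * x⁻¹ ∈ N :=
          ‹N.Normal›.conj_mem _ (N.mul_mem (‹N.Normal›.conj_mem u hu h) (N.inv_mem hu)) x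
        have := ‹L.Normal›.conj_mem _ (inf_eq_of_coprime hLN hcop P h3 h4) x⁻¹
        simpa [mul_assoc] using this
      · rintro ⟨-, hc⟩ _ ⟨h, hh, rfl⟩
        have e : (MulAut.conj (x * u)).toMonoidHom h =
            x * (h * u * h⁻¹ * u⁻¹)⁻¹ * x⁻¹ * (x * h * x⁻¹) := by
          simp [MulAut.conj_apply, mul_assoc]
        rw [e]
        exact Subgroup.mul_mem _ (Subgroup.mem_sup_right (‹L.Normal›.conj_mem _ (L.inv_mem (hc h hh)) x))
          (hx ⟨h, hh, rfl⟩)
    subst hxq
    have hN' : ∀ y : {z // π₀ z = ⟨(x : G ⧸ N), hq⟩}, x⁻¹ * y.1.1 ∈ N := fun y =>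
      QuotientGroup.eq.1 (congrArg Subtype.val y.2).symm
    refine Nat.card_congr
      { toFun := fun y => ⟨x⁻¹ * y.1.1, (hiff _ (hN' y)).1 (by rw [mul_inv_cancel_left]; exact y.1.2)⟩
        invFun := fun u => ⟨⟨x * u.1, (hiff _ (mem_modCentralizer.1 u.2).1).2 u.2⟩,
          Subtype.ext (QuotientGroup.mk_mul_of_mem _ (mem_modCentralizer.1 u.2).1)⟩
        left_inv := fun y => Subtype.ext (Subtype.ext (mul_inv_cancel_left _ _))
        right_inv := fun u => Subtype.ext (inv_mul_cancel_left _ _) }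
  rw [← Nat.card_congr (Equiv.sigmaFiberEquiv π₁), ← Nat.card_congr (Equiv.sigmaFiberEquiv π₀),
    Nat.card_sigma, Nat.card_sigma, Finset.sum_congr rfl fun b _ => hf₁ b,
    Finset.sum_congr rfl fun b _ => hf₀ b, Finset.sum_const, Finset.sum_const]
  simp only [smul_eq_mul]
  ring

/-- Let G be a finite p-solvable group, H a p-subgroup of G and P a Sylow p-subgroup, and fix a chain of normal subgroups 1 = M₀ ≤ M₁ ≤ ⋯ ≤ Mₙ = G of G each of whose factors is a p-group or a p'-group. Then the number of elements g of G such that H is subnormal in the subgroup generated by H and g equals the order of P times the product, over the factors Mᵢ₊₁/Mᵢ of order prime to p, of the order of the centralizer of H in Mᵢ₊₁/Mᵢ (counted as the number of u ∈ Mᵢ₊₁ with [h, u] ∈ Mᵢ for all h ∈ H, divided by the order of Mᵢ). -/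
theorem result {G : Type*} [Group G] [Finite G] (p : ℕ) [Fact p.Prime]
    (hG : Cfsg.IsPSolvable p G) (H : Subgroup G) (hH : IsPGroup p H) (P : Sylow p G)
    (n : ℕ) (M : Fin (n + 1) → Subgroup G) (h0 : M 0 = ⊥) (hn : M (Fin.last n) = ⊤) (hmono : Monotone M)
    (hnormal : ∀ i, (M i).Normal)
    (hfac : ∀ i : Fin n, (∃ m : ℕ, (M i.castSucc).relIndex (M i.succ) = p ^ m) ∨ ((M i.castSucc).relIndex (M i.succ)).Coprime p) :
    Nat.card {g : G // ((H).subgroupOf (H ⊔ Subgroup.zpowers g)).IsSubnormal} =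
      Nat.card (P : Subgroup G) *
        ∏ i : Fin n, (if ((M i.castSucc).relIndex (M i.succ)).Coprime p then
          Nat.card {u : G // u ∈ M i.succ ∧ ∀ h ∈ H, h * u * h⁻¹ * u⁻¹ ∈ M i.castSucc} / Nat.card (M i.castSucc)
          else 1) := by
  classical
  haveI := fun i => hnormal i
  have hp : p.Prime := Fact.out
  by_cases hpG : p ∣ Nat.card G
  swap
  · -- degenerate case: `H` and `P` are trivial
    have htriv : ∀ {K : Subgroup G}, IsPGroup p K → K = ⊥ := fun {K} hK => by
      obtain ⟨k, hk⟩ := IsPGroup.iff_card.1 hK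
      rcases k with _ | k
      · exact Subgroup.eq_bot_of_card_eq K (by simpa using hk)
      · exact absurd ((Dvd.intro_left (p ^ k) rfl : p ∣ p ^ k * p).trans
          (by rw [← pow_succ, ← hk]; exact Subgroup.card_subgroup_dvd_card K)) hpG
    obtain rfl := htriv hH
    have h1 : ∀ g : G, (((⊥ : Subgroup G)).subgroupOf (⊥ ⊔ Subgroup.zpowers g)).IsSubnormal := fun g => by
      rw [Subgroup.bot_subgroupOf]; exact Subgroup.IsSubnormal.bot
    rw [Nat.card_congr (Equiv.subtypeUnivEquiv h1), htriv P.isPGroup', Subgroup.card_bot, one_mul]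
    have ht := fin_telescope (fun i => Nat.card (M i)) (fun i => (M i.castSucc).relIndex (M i.succ))
      (fun _ => 1) (fun i => by
        rw [mul_one, mul_comm]
        exact relIndex_mul_card_of_le (hmono (Fin.castSucc_le_succ i)))
    rw [h0, hn, Subgroup.card_bot, Subgroup.card_top, one_mul, Finset.prod_const_one, mul_one] at ht
    rw [← ht]
    refine Finset.prod_congr rfl fun i _ => ?_
    have hle := hmono (Fin.castSucc_le_succ i)
    have hcop : ((M i.castSucc).relIndex (M i.succ)).Coprime p := (hp.coprime_iff_not_dvd.2 fun h => hpG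
      ((h.trans (Subgroup.relIndex_dvd_card _ _)).trans (Subgroup.card_subgroup_dvd_card _))).symm
    rw [if_pos hcop]
    have : Nat.card {u : G // u ∈ M i.succ ∧ ∀ h ∈ (⊥ : Subgroup G), h * u * h⁻¹ * u⁻¹ ∈ M i.castSucc} =
        Nat.card (M i.succ) := Nat.card_congr (Equiv.subtypeEquivRight fun u => ⟨fun h => h.1, fun h =>
          ⟨h, fun x hx => by rw [Subgroup.mem_bot.1 hx]; simp [(M i.castSucc).one_mem]⟩⟩)
    rw [this, ← relIndex_mul_card_of_le hle, Nat.mul_div_cancel _ Nat.card_pos]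
  set A : Fin (n + 1) → ℕ :=
    fun i => Nat.card {x : G // H.map (MulAut.conj x).toMonoidHom ≤ (P : Subgroup G) ⊔ M i} with hA
  set r : Fin n → ℕ := fun i =>
    if ((M i.castSucc).relIndex (M i.succ)).Coprime p then (M i.castSucc).relIndex (M i.succ) else 1 with hr
  set c : Fin n → ℕ := fun i =>
    if ((M i.castSucc).relIndex (M i.succ)).Coprime p then
      Nat.card {u : G // u ∈ M i.succ ∧ ∀ h ∈ H, h * u * h⁻¹ * u⁻¹ ∈ M i.castSucc} / Nat.card (M i.castSucc)
    else 1 with hc
  have hstep : ∀ i, A i.castSucc * r i = A i.succ * c i := by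
    intro i
    have hle := hmono (Fin.castSucc_le_succ i)
    simp only [hr, hc]
    split_ifs with hcop
    · have hcs := count_step P H hH (M i.castSucc) (M i.succ) hle hcop
      set D := modCentralizer H (M i.castSucc) (M i.succ) with hD
      have hD' : Nat.card {u : G // u ∈ M i.succ ∧ ∀ h ∈ H, h * u * h⁻¹ * u⁻¹ ∈ M i.castSucc} = Nat.card D :=
        Nat.card_congr (Equiv.subtypeEquivRight fun u => mem_modCentralizer.symm)
      have hLD : M i.castSucc ≤ D := fun u hu => mem_modCentralizer.2 ⟨hle hu, fun h _ =>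
        Subgroup.mul_mem _ ((hnormal i.castSucc).conj_mem u hu h) (Subgroup.inv_mem _ hu)⟩
      rw [hD', ← relIndex_mul_card_of_le hLD, Nat.mul_div_cancel _ Nat.card_pos]
      rw [← relIndex_mul_card_of_le hLD, ← relIndex_mul_card_of_le hle] at hcs
      exact Nat.eq_of_mul_eq_mul_right (Nat.card_pos (α := M i.castSucc)) (by rw [mul_assoc, mul_assoc]; exact hcs)
    · obtain ⟨m, hm⟩ := (hfac i).resolve_right hcop
      have : (P : Subgroup G) ⊔ M i.castSucc = (P : Subgroup G) ⊔ M i.succ :=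
        le_antisymm (sup_le_sup_left hle _) (sup_le le_sup_left (le_sup_of_pGroup_factor hm P))
      simp only [hA, mul_one, this]
  have htel := fin_telescope A r c hstep
  have hA0 : A 0 = Nat.card {g : G // ((H).subgroupOf (H ⊔ Subgroup.zpowers g)).IsSubnormal} := by
    rw [(S4088.result p hpG H hH P).2, S4088.card_conj_le]
    simp only [hA, h0, sup_bot_eq]
  have hAn : A (Fin.last n) = Nat.card G := by
    simp only [hA, hn, sup_top_eq, le_top]
    exact Nat.card_congr (Equiv.subtypeUnivEquiv fun _ => trivial)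
  -- `|G| = |P| * ∏ r`
  set t : Fin n → ℕ := fun i =>
    if ((M i.castSucc).relIndex (M i.succ)).Coprime p then 1 else (M i.castSucc).relIndex (M i.succ) with ht'
  have hall := fin_telescope (fun i => Nat.card (M i)) (fun i => (M i.castSucc).relIndex (M i.succ))
    (fun _ => 1) (fun i => by
      rw [mul_one, mul_comm]
      exact relIndex_mul_card_of_le (hmono (Fin.castSucc_le_succ i)))
  rw [h0, hn, Subgroup.card_bot, Subgroup.card_top, one_mul, Finset.prod_const_one, mul_one] at hall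
  have hsplit : (∏ i, r i) * ∏ i, t i = Nat.card G := by
    rw [← Finset.prod_mul_distrib, ← hall]
    refine Finset.prod_congr rfl fun i _ => ?_
    simp only [hr, ht']
    split_ifs <;> simp
  have hrcop : (∏ i, r i).Coprime p := Nat.Coprime.prod_left fun i _ => by
    simp only [hr]
    split_ifs with h
    · exact h
    · exact Nat.coprime_one_left p
  obtain ⟨k, hk⟩ : ∃ k, ∏ i, t i = p ^ k := by
    refine Finset.prod_induction _ (fun x => ∃ k, x = p ^ k) ?_ ⟨0, rfl⟩ fun i _ => ?_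
    · rintro a b ⟨i, rfl⟩ ⟨j, rfl⟩; exact ⟨i + j, (pow_add p i j).symm⟩
    · simp only [ht']
      split_ifs with h
      · exact ⟨0, rfl⟩
      · exact (hfac i).resolve_right h
  have hrpos : 0 < ∏ i, r i := Nat.pos_of_ne_zero fun h => by
    rw [h, zero_mul] at hsplit; exact Nat.card_pos.ne hsplit
  have hPk : Nat.card (P : Subgroup G) = p ^ k := by
    rw [P.card_eq_multiplicity, ← hsplit, hk, Nat.factorization_mul hrpos.ne' (pow_ne_zero k hp.ne_zero),
      Finsupp.add_apply, Nat.factorization_eq_zero_of_not_dvd (hp.coprime_iff_not_dvd.1 hrcop.symm),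
      hp.factorization_pow, Finsupp.single_eq_same, zero_add]
  rw [← hA0]
  show A 0 = _ * ∏ i, c i
  refine Nat.eq_of_mul_eq_mul_right hrpos ?_
  rw [htel, hAn, hPk, ← hk, ← hsplit]
  ring

end Cfsg.Agent.S4090
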