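import Cfsg.Statements.S4091
import Mathlib
import Cfsg.Agent.S4090
import Cfsg.Agent.Lib.H74FixedProd

set_option autoImplicit false
open Cfsg

namespace Cfsg.Agent.S4091

open scoped Classical

variable {G : Type*} [Group G] [Finite G]

theorem card_modCentralizer_div (H L N : Subgroup G) [L.Normal] (hLN : L ≤ N) :
    Nat.card {u : G // u ∈ N ∧ ∀ h ∈ H, h * u * h⁻¹ * u⁻¹ ∈ L} / Nat.card L =
      Nat.card (N.map (QuotientGroup.mk' L) ⊓
        Subgroup.centralizer ((H.map (QuotientGroup.mk' L) : Subgroup (G ⧸ L)) : Set (G ⧸ L)) :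
          Subgroup (G ⧸ L)) := by
  set D := S4090.modCentralizer H L N with hD
  have hD' : Nat.card {u : G // u ∈ N ∧ ∀ h ∈ H, h * u * h⁻¹ * u⁻¹ ∈ L} = Nat.card D :=
    Nat.card_congr (Equiv.subtypeEquivRight fun u => S4090.mem_modCentralizer.symm)
  have hLD : L ≤ D := fun u hu => S4090.mem_modCentralizer.2 ⟨hLN hu, fun h _ =>
    L.mul_mem (‹L.Normal›.conj_mem u hu h) (L.inv_mem hu)⟩
  have hmap : D.map (QuotientGroup.mk' L) = N.map (QuotientGroup.mk' L) ⊓
      Subgroup.centralizer ((H.map (QuotientGroup.mk' L) : Subgroup (G ⧸ L)) : Set (G ⧸ L)) := by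
    refine le_antisymm ?_ ?_
    · rintro _ ⟨u, hu, rfl⟩
      exact ⟨⟨u, hu.1, rfl⟩, hu.2⟩
    · rintro _ ⟨⟨u, hu, rfl⟩, hc⟩
      exact ⟨u, ⟨hu, hc⟩, rfl⟩
  rw [hD', ← S4090.relIndex_mul_card_of_le hLD, Nat.mul_div_cancel _ Nat.card_pos, ← hmap,
    ← Subgroup.relIndex_ker, QuotientGroup.ker_mk']

/-- Let G be a finite p-solvable group, P a Sylow p-subgroup of G, u the number of p-elements of G (elements of p-power order, the identity included) and n the number of Sylow p-subgroups of G. Then u/#P ≥ n^((p−1)/p), stated as u^p ≥ #P^p · n^(p−1). -/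
theorem result {G : Type*} [Group G] [Finite G] (p : ℕ) [Fact p.Prime]
    (hG : Cfsg.IsPSolvable p G) (P : Sylow p G) :
    Nat.card (P : Subgroup G) ^ p * Nat.card (Sylow p G) ^ (p - 1) ≤ Nat.card {g : G // ∃ k : ℕ, orderOf g = p ^ k} ^ p := by
  classical
  haveI := Fintype.ofFinite G
  haveI := Fintype.ofFinite (Sylow p G)
  haveI := Fintype.ofFinite (P : Subgroup G)
  have hp : p.Prime := Fact.out
  by_cases hpG : p ∣ Nat.card G
  swap
  · -- degenerate case
    have htriv : ∀ {K : Subgroup G}, IsPGroup p K → K = ⊥ := fun {K} hK => by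
      obtain ⟨k, hk⟩ := IsPGroup.iff_card.1 hK
      rcases k with _ | k
      · exact Subgroup.eq_bot_of_card_eq K (by simpa using hk)
      · exact absurd ((Dvd.intro_left (p ^ k) rfl : p ∣ p ^ k * p).trans
          (by rw [← pow_succ, ← hk]; exact Subgroup.card_subgroup_dvd_card K)) hpG
    haveI : Subsingleton (Sylow p G) := ⟨fun Q R => Sylow.ext (by rw [htriv Q.isPGroup', htriv R.isPGroup'])⟩
    rw [htriv P.isPGroup', Subgroup.card_bot, Nat.card_unique (α := Sylow p G), one_pow, one_pow, one_mul]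
    refine Nat.one_le_pow _ _ (Nat.card_pos_iff.2 ⟨⟨⟨1, 0, ?_⟩⟩, inferInstance⟩)
    rw [orderOf_one, pow_zero]
  obtain ⟨k, M, h0, hn, hmono, hnormal, hfac⟩ := hG
  haveI := fun i => hnormal i
  set m := Nat.card (P : Subgroup G) with hm
  set nS := Nat.card (Sylow p G) with hnS
  set d := Nat.card (Subgroup.normalizer ((P : Subgroup G) : Set G)) with hd
  have hG' : Cfsg.IsPSolvable p G := ⟨k, M, h0, hn, hmono, hnormal, hfac⟩
  set c : Subgroup G → Fin k → ℕ := fun H i =>
    if ((M i.castSucc).relIndex (M i.succ)).Coprime p then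
      Nat.card {u : G // u ∈ M i.succ ∧ ∀ h ∈ H, h * u * h⁻¹ * u⁻¹ ∈ M i.castSucc} / Nat.card (M i.castSucc)
    else 1 with hc
  set Λ : Subgroup G → ℕ := fun H => Nat.card {Q : Sylow p G // H ≤ (Q : Subgroup G)} with hΛ
  have hform : ∀ H : Subgroup G, IsPGroup p H → Λ H * d = m * ∏ i, c H i := fun H hH =>
    ((S4088.result p hpG H hH P).1).symm.trans (S4090.result p hG' H hH P k M h0 hn hmono hnormal hfac)
  have hΛP : Λ (P : Subgroup G) = 1 := by
    haveI : Unique {Q : Sylow p G // (P : Subgroup G) ≤ (Q : Subgroup G)} :=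
      { default := ⟨P, le_rfl⟩
        uniq := fun Q => Subtype.ext (Sylow.ext (P.is_maximal' Q.1.isPGroup' Q.2)) }
    exact Nat.card_unique
  have hΛ1 : Λ ⊥ = nS := Nat.card_congr (Equiv.subtypeUnivEquiv fun Q => bot_le)
  -- the inequality, factor by factor
  have hfactor : ∀ i, (∏ x : (P : Subgroup G), c (Subgroup.zpowers (x : G)) i) ^ p ≤
      c ⊥ i ^ m * c (P : Subgroup G) i ^ ((p - 1) * m) := by
    intro i
    simp only [hc]
    split_ifs with hcop
    · set L := M i.castSucc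
      set N := M i.succ
      have hLN : L ≤ N := hmono (Fin.castSucc_le_succ i)
      set ρ := (QuotientGroup.mk' L).comp (P : Subgroup G).subtype with hρ
      have hrange : ρ.range = (P : Subgroup G).map (QuotientGroup.mk' L) := by
        rw [hρ, MonoidHom.range_comp, Subgroup.range_subtype]
      haveI : (N.map (QuotientGroup.mk' L)).Normal :=
        Subgroup.Normal.map inferInstance _ (QuotientGroup.mk'_surjective L)
      obtain ⟨a, ha⟩ := IsPGroup.iff_card.1 P.isPGroup'
      have hNcard : Nat.card (N.map (QuotientGroup.mk' L)) = L.relIndex N := by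
        rw [← Subgroup.relIndex_ker, QuotientGroup.ker_mk']
      have hineq := H74FixedProd.prod_centralizer_le (p := p) ρ (N.map (QuotientGroup.mk' L)) P.isPGroup'
        (by rw [Subgroup.normalizer_eq_top]; exact le_top)
        (by rw [ha, hNcard]; exact hcop.symm.pow_left a)
      rw [hrange] at hineq
      simp only [card_modCentralizer_div _ _ _ hLN]
      rw [Subgroup.map_bot, Subgroup.coe_bot]
      have hbot : N.map (QuotientGroup.mk' L) ⊓ Subgroup.centralizer ({1} : Set (G ⧸ L)) = N.map (QuotientGroup.mk' L) :=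
        inf_eq_left.2 fun x _ => Subgroup.mem_centralizer_iff.2 fun h hh => by
          rw [Set.mem_singleton_iff.1 hh, one_mul, mul_one]
      rw [hbot]
      refine le_trans (le_of_eq ?_) hineq
      congr 1
      refine Finset.prod_congr rfl fun x _ => ?_
      rw [MonoidHom.map_zpowers, Subgroup.zpowers_eq_closure, Subgroup.centralizer_closure]
      rfl
    · simp
  have hR : m * ∏ i, c ⊥ i = Nat.card G := by
    rw [← hform ⊥ IsPGroup.of_bot, hΛ1, hnS, P.card_eq_index_normalizer, hd, mul_comm]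
    exact Subgroup.card_mul_index _
  have hnd : nS * d = Nat.card G := by rw [← hR, ← hform ⊥ IsPGroup.of_bot, hΛ1]
  have hPform := hform P P.isPGroup'
  rw [hΛP, one_mul] at hPform
  set CP := ∏ i, c (P : Subgroup G) i with hCP
  have hmpos : 0 < m := Nat.card_pos
  have hCPpos : 0 < CP := Nat.pos_of_ne_zero fun h => by
    rw [h, mul_zero] at hPform; exact Nat.card_pos.ne' hPform
  have hRn : ∏ i, c ⊥ i = nS * CP := Nat.eq_of_mul_eq_mul_left hmpos (by rw [hR, ← hnd, hPform]; ring)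
  have hCx : ∀ x : (P : Subgroup G), ∏ i, c (Subgroup.zpowers (x : G)) i = Λ (Subgroup.zpowers (x : G)) * CP :=
    fun x => Nat.eq_of_mul_eq_mul_left hmpos (by
      rw [← hform _ (P.isPGroup'.to_le (Subgroup.zpowers_le.2 x.2)), hPform]; ring)
  have hmain : (∏ x : (P : Subgroup G), Λ (Subgroup.zpowers (x : G))) ^ p ≤ nS ^ m := by
    have h1 := Finset.prod_le_prod (s := (Finset.univ : Finset (Fin k))) (fun i _ => Nat.zero_le _)
      (fun i _ => hfactor i)
    rw [Finset.prod_pow, Finset.prod_comm, Finset.prod_mul_distrib, Finset.prod_pow, Finset.prod_pow,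
      Finset.prod_congr rfl fun x _ => hCx x, Finset.prod_mul_distrib, Finset.prod_const, Finset.card_univ,
      ← Nat.card_eq_fintype_card, ← hm, hRn] at h1
    have hexp : CP ^ (m * p) = CP ^ m * CP ^ ((p - 1) * m) := by
      rw [← pow_add]; congr 1
      obtain ⟨q, hq⟩ : ∃ q, p = q + 1 := ⟨p - 1, (Nat.sub_add_cancel hp.pos).symm⟩
      subst hq
      rw [Nat.add_sub_cancel]; ring
    rw [mul_pow, mul_pow, ← pow_mul CP, hexp, mul_assoc (nS ^ m)] at h1
    exact Nat.le_of_mul_le_mul_right h1 (by positivity)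
  -- counting `p`-elements
  set u := Nat.card {g : G // ∃ k : ℕ, orderOf g = p ^ k} with hu
  set z : G → ℝ := fun g => ((Λ (Subgroup.zpowers g) : ℕ) : ℝ)⁻¹ with hz
  have hΛpos : ∀ (Q : Sylow p G), ∀ g ∈ (Q : Subgroup G), 0 < Λ (Subgroup.zpowers g) := fun Q g hg =>
    Nat.card_pos_iff.2 ⟨⟨⟨Q, Subgroup.zpowers_le.2 hg⟩⟩, inferInstance⟩
  have hconjΛ : ∀ (a g : G), Λ (Subgroup.zpowers (a * g * a⁻¹)) = Λ (Subgroup.zpowers g) := fun a g => by
    refine Nat.card_congr (Equiv.subtypeEquiv (MulAction.toPerm a⁻¹) fun Q => ?_)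
    rw [Subgroup.zpowers_le, Subgroup.zpowers_le, MulAction.toPerm_apply, Sylow.coe_subgroup_smul,
      Subgroup.mem_pointwise_smul_iff_inv_smul_mem]
    simp [MulAut.smul_def]
  have hsum : ∀ Q : Sylow p G, ∑ g ∈ Finset.univ.filter (· ∈ (Q : Subgroup G)), z g =
      ∑ x : (P : Subgroup G), z x := by
    intro Q
    obtain ⟨a, rfl⟩ := MulAction.exists_smul_eq G P Q
    symm
    refine Finset.sum_bij (fun x _ => a * (x : G) * a⁻¹) ?_ ?_ ?_ ?_
    · intro x _
      simp [Sylow.coe_subgroup_smul, Subgroup.mem_pointwise_smul_iff_inv_smul_mem, MulAut.smul_def, mul_assoc]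
    · intro x _ y _ h; simpa using h
    · intro g hg
      simp only [Finset.mem_filter, Finset.mem_univ, true_and, Sylow.coe_subgroup_smul,
        Subgroup.mem_pointwise_smul_iff_inv_smul_mem] at hg
      exact ⟨⟨a⁻¹ * g * a, by simpa [MulAut.smul_def] using hg⟩, Finset.mem_univ _, by simp [mul_assoc]⟩
    · intro x _; simp [hz, hconjΛ]
  have hcount : (u : ℝ) = nS * ∑ x : (P : Subgroup G), z x := by
    have h1 : ∑ Q : Sylow p G, ∑ g ∈ Finset.univ.filter (· ∈ (Q : Subgroup G)), z g =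
        nS * ∑ x : (P : Subgroup G), z x := by
      rw [Finset.sum_congr rfl fun Q _ => hsum Q, Finset.sum_const, Finset.card_univ, nsmul_eq_mul,
        hnS, Nat.card_eq_fintype_card]
    rw [← h1]
    simp only [Finset.sum_filter]
    rw [Finset.sum_comm]
    have h2 : ∀ g : G, ∑ Q : Sylow p G, (if g ∈ (Q : Subgroup G) then z g else 0) =
        if ∃ k : ℕ, orderOf g = p ^ k then 1 else 0 := by
      intro g
      have hcard : (Finset.univ.filter fun Q : Sylow p G => g ∈ (Q : Subgroup G)).card = Λ (Subgroup.zpowers g) := by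
        rw [hΛ, ← Fintype.card_subtype, ← Nat.card_eq_fintype_card]
        exact Nat.card_congr (Equiv.subtypeEquivRight fun Q => Subgroup.zpowers_le.symm)
      rw [← Finset.sum_filter, Finset.sum_const, nsmul_eq_mul, hcard]
      split_ifs with hg
      · obtain ⟨e, he⟩ := hg
        obtain ⟨Q, hQ⟩ := (IsPGroup.of_card (n := e) (by rw [Nat.card_zpowers, he]) :
          IsPGroup p (Subgroup.zpowers g)).exists_le_sylow
        exact mul_inv_cancel₀ (Nat.cast_ne_zero.2 (hΛpos Q g (hQ (Subgroup.mem_zpowers g))).ne')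
      · rcases Nat.eq_zero_or_pos (Λ (Subgroup.zpowers g)) with h | h
        · simp [h]
        · obtain ⟨⟨⟨Q, hQ⟩⟩, -⟩ := Nat.card_pos_iff.1 h
          refine absurd ?_ hg
          obtain ⟨e, he⟩ := IsPGroup.iff_orderOf.1 Q.isPGroup' ⟨g, Subgroup.zpowers_le.1 hQ⟩
          exact ⟨e, by rwa [Subgroup.orderOf_mk] at he⟩
    rw [Finset.sum_congr rfl fun g _ => h2 g, Finset.sum_boole, hu, Nat.card_eq_fintype_card,
      Fintype.card_subtype]
  -- AM-GM
  have hzpos : ∀ x : (P : Subgroup G), 0 < z x := fun x => by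
    simp only [hz]
    exact inv_pos.2 (Nat.cast_pos.2 (hΛpos P x x.2))
  have hmR : (0 : ℝ) < m := Nat.cast_pos.2 hmpos
  have hnR : (0 : ℝ) < nS := Nat.cast_pos.2 Nat.card_pos
  have hamgm := Real.geom_mean_le_arith_mean_weighted (Finset.univ : Finset (P : Subgroup G))
    (fun _ => (m : ℝ)⁻¹) (fun x => z x) (fun _ _ => by positivity) (by
      rw [Finset.sum_const, Finset.card_univ, nsmul_eq_mul, ← Nat.card_eq_fintype_card]
      exact mul_inv_cancel₀ hmR.ne') (fun x _ => (hzpos x).le)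
  set S := (m : ℝ)⁻¹ * ∑ x : (P : Subgroup G), z x with hS
  rw [← Finset.mul_sum] at hamgm
  have hpowm : ∏ x : (P : Subgroup G), z x ≤ S ^ m := by
    have := pow_le_pow_left₀ (Finset.prod_nonneg fun x _ => Real.rpow_nonneg (hzpos x).le _) hamgm m
    rw [← Finset.prod_pow] at this
    rwa [Finset.prod_congr rfl fun x _ => Real.rpow_inv_natCast_pow (hzpos x).le hmpos.ne'] at this
  have hzprod : ((nS : ℝ) ^ m)⁻¹ ≤ (∏ x : (P : Subgroup G), z x) ^ p := by
    simp only [hz]
    rw [Finset.prod_inv_distrib, inv_pow]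
    refine inv_anti₀ ?_ (by exact_mod_cast hmain)
    exact pow_pos (Finset.prod_pos fun (x : (P : Subgroup G)) _ => Nat.cast_pos.2 (hΛpos P x x.2)) p
  have hSnn : 0 ≤ S := mul_nonneg (by positivity) (Finset.sum_nonneg fun x _ => (hzpos x).le)
  have hkey : 1 ≤ (nS : ℝ) * S ^ p := by
    have h := hzprod.trans (pow_le_pow_left₀ (Finset.prod_nonneg fun x _ => (hzpos x).le) hpowm p)
    rw [← pow_mul, mul_comm m p, pow_mul] at h
    have h2 : 1 ≤ ((nS : ℝ) * S ^ p) ^ m := by
      rw [mul_pow]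
      exact (inv_le_iff_one_le_mul₀' (pow_pos hnR m)).1 h
    exact (one_le_pow_iff_of_nonneg (mul_nonneg hnR.le (pow_nonneg hSnn p)) hmpos.ne').1 h2
  have huS : (u : ℝ) = nS * m * S := by rw [hcount, hS]; field_simp
  have hfinal : ((m ^ p * nS ^ (p - 1) : ℕ) : ℝ) ≤ ((u ^ p : ℕ) : ℝ) := by
    have hnp : (nS : ℝ) ^ p = (nS : ℝ) ^ (p - 1) * nS := by
      rw [← pow_succ, Nat.sub_add_cancel hp.pos]
    push_cast
    rw [huS, mul_pow, mul_pow, hnp]
    have : (nS : ℝ) ^ (p - 1) * nS * (m : ℝ) ^ p * S ^ p = ((m : ℝ) ^ p * (nS : ℝ) ^ (p - 1)) * (nS * S ^ p) := by ring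
    rw [this]
    exact le_mul_of_one_le_right (by positivity) hkey
  exact_mod_cast hfinal

end Cfsg.Agent.S4091
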