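import Cfsg.Statements.S4092
import Mathlib

set_option autoImplicit false
open Cfsg

namespace Cfsg.Agent.S4092

/-- Let G be a finite group, p a prime and P a Sylow p-subgroup of G that is not normal in G. Then G has at least p·#P elements of p-power order (the identity included). -/
theorem result {G : Type*} [Group G] [Finite G] (p : ℕ) [Fact p.Prime]
    (P : Sylow p G) (hP : ¬ (P : Subgroup G).Normal) :
    p * Nat.card (P : Subgroup G) ≤ Nat.card {g : G // ∃ k : ℕ, orderOf g = p ^ k} := by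
  classical
  haveI : Fintype G := Fintype.ofFinite G
  haveI : Fintype (Sylow p G) := Fintype.ofFinite _
  have hnsub : ∃ Q : Sylow p G, Q ≠ P := by
    by_contra hne
    push_neg at hne
    haveI : Subsingleton (Sylow p G) := ⟨fun a b => (hne a).trans (hne b).symm⟩
    exact hP (Sylow.normal_of_subsingleton P)
  obtain ⟨Q₀, hQ₀⟩ := hnsub
  obtain ⟨⟨P₁, Q⟩, hPQ, hmax⟩ :=
    ((Finset.univ : Finset (Sylow p G × Sylow p G)).filter fun z => z.1 ≠ z.2).exists_max_image
      (fun z => Nat.card ↥((z.1 : Subgroup G) ⊓ z.2)) ⟨(Q₀, P), by simp [hQ₀]⟩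
  simp only [Finset.mem_filter, Finset.mem_univ, true_and] at hPQ hmax
  set D : Subgroup G := (P₁ : Subgroup G) ⊓ Q with hD
  have hlt : D < P₁ := by
    refine lt_of_le_of_ne inf_le_left fun h => hPQ ?_
    exact Sylow.ext (P₁.is_maximal' Q.isPGroup' (inf_eq_left.1 h)).symm
  set H : Subgroup G := (P₁ : Subgroup G) ⊓ Subgroup.normalizer (D : Set G) with hH
  have hHP : H ≤ P₁ := inf_le_left
  have hHD : ¬ H ≤ D := by
    intro hle
    haveI : Group.IsNilpotent (P₁ : Subgroup G) := P₁.isPGroup'.isNilpotent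
    have hlt' : D.subgroupOf P₁ < ⊤ := lt_top_iff_ne_top.2 fun h => hlt.not_ge
      (Subgroup.subgroupOf_eq_top.1 h)
    obtain ⟨y, hy, hy'⟩ := SetLike.exists_of_lt (Group.normalizerCondition_of_isNilpotent _ hlt')
    apply hy'
    rw [Subgroup.mem_subgroupOf]
    apply hle
    refine ⟨y.2, ?_⟩
    show (y : G) ∈ Subgroup.normalizer (D : Set G)
    rw [Subgroup.mem_normalizer_iff]
    intro d
    have := Subgroup.mem_normalizer_iff.1 hy
    constructor
    · intro hd
      simpa [Subgroup.mem_subgroupOf] using (this ⟨d, hlt.le hd⟩).1 hd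
    · intro hd
      have hdP : d ∈ (P₁ : Subgroup G) := by
        have := (P₁ : Subgroup G).mul_mem ((P₁ : Subgroup G).mul_mem ((P₁ : Subgroup G).inv_mem y.2) (hlt.le hd)) y.2
        simpa [mul_assoc] using this
      exact (this ⟨d, hdP⟩).2 (by simpa [Subgroup.mem_subgroupOf] using hd)
  set O := MulAction.orbit H Q with hO
  have hstab : ¬ (MulAction.stabilizer H Q) = ⊤ := by
    intro htop
    apply hHD
    intro x hx
    have h1 : (⟨x, hx⟩ : H) ∈ MulAction.stabilizer H Q := htop ▸ Subgroup.mem_top _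
    have h2 : x ∈ Subgroup.normalizer ((Q : Subgroup G) : Set G) :=
      Sylow.smul_eq_iff_mem_normalizer.1 h1
    have h3 : x ∈ H ⊓ Subgroup.normalizer ((Q : Subgroup G) : Set G) := ⟨hx, h2⟩
    have e : H ⊓ Subgroup.normalizer ((Q : Subgroup G) : Set G) = H ⊓ Q :=
      (P₁.isPGroup'.to_le hHP).inf_normalizer_sylow Q
    rw [e] at h3
    exact ⟨hHP hx, h3.2⟩
  have hOcard : p ≤ Nat.card O := by
    have hidx : Nat.card O = (MulAction.stabilizer H Q).index := by
      rw [MulAction.index_stabilizer, ← Nat.card_coe_set_eq]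
    rw [hidx]
    obtain ⟨k, hk⟩ := (P₁.isPGroup'.to_le hHP).index (MulAction.stabilizer H Q)
    rw [hk]
    refine Nat.le_self_pow ?_ p
    rintro rfl
    exact hstab (Subgroup.index_eq_one.1 (by rw [hk, pow_zero]))
  have hfix : ∀ h : H, h • P₁ = P₁ := fun h =>
    Sylow.smul_eq_iff_mem_normalizer.2 (Subgroup.le_normalizer (hHP h.2))
  have hOD : ∀ R ∈ O, D ≤ (R : Subgroup G) ∧ R ≠ P₁ := by
    rintro _ ⟨h, rfl⟩
    refine ⟨fun d hd => ?_, fun he => hPQ ?_⟩
    · show d ∈ ((h • Q : Sylow p G) : Subgroup G)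
      rw [show (h • Q : Sylow p G) = (h : G) • Q from rfl, Sylow.coe_subgroup_smul,
        Subgroup.mem_pointwise_smul_iff_inv_smul_mem]
      have hn := Subgroup.mem_normalizer_iff.1 ((Subgroup.normalizer (D : Set G)).inv_mem h.2.2) d
      simp only [MulAut.smul_def, ← map_inv, MulAut.conj_apply]
      exact (hn.1 hd).2
    · have : h⁻¹ • (h • Q) = h⁻¹ • P₁ := congrArg (h⁻¹ • ·) he
      rw [inv_smul_smul, hfix] at this
      exact this.symm
  set F : Finset (Sylow p G) := insert P₁ O.toFinset with hF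
  have hFcard : p + 1 ≤ F.card := by
    rw [hF, Finset.card_insert_of_notMem (fun h => (hOD P₁ (Set.mem_toFinset.1 h)).2 rfl),
      ← Set.ncard_eq_toFinset_card', ← Nat.card_coe_set_eq]
    omega
  have hFD : ∀ R ∈ F, D ≤ (R : Subgroup G) := by
    intro R hR
    rcases Finset.mem_insert.1 hR with rfl | hR
    · exact hlt.le
    · exact (hOD R (Set.mem_toFinset.1 hR)).1
  let S : Finset G := Finset.univ.filter fun g => ∃ k, orderOf g = p ^ k
  let DF : Finset G := (D : Set G).toFinset
  let U : Sylow p G → Finset G := fun R => ((R : Subgroup G) : Set G).toFinset \ DF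
  have hdisj : (F : Set (Sylow p G)).PairwiseDisjoint U := by
    intro R hR R' hR' hne
    rw [Function.onFun, Finset.disjoint_left]
    intro g hg hg'
    simp only [U, DF, Finset.mem_sdiff, Set.mem_toFinset, SetLike.mem_coe] at hg hg'
    have hle : D ≤ (R : Subgroup G) ⊓ R' := le_inf (hFD R hR) (hFD R' hR')
    have heq := Subgroup.eq_of_le_of_card_ge hle (hmax (R, R') hne)
    exact hg.2 (heq ▸ ⟨hg.1, hg'.1⟩)
  have hUS : F.biUnion U ∪ DF ⊆ S := by
    intro g hg
    simp only [Finset.mem_union, Finset.mem_biUnion, U, DF, Finset.mem_sdiff, Set.mem_toFinset,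
      SetLike.mem_coe] at hg
    simp only [S, Finset.mem_filter, Finset.mem_univ, true_and]
    have : ∃ R : Sylow p G, g ∈ (R : Subgroup G) := by
      rcases hg with ⟨R, -, hR, -⟩ | hg
      · exact ⟨R, hR⟩
      · exact ⟨P₁, hlt.le hg⟩
    obtain ⟨R, hR⟩ := this
    obtain ⟨k, hk⟩ := IsPGroup.iff_orderOf.1 R.isPGroup' ⟨g, hR⟩
    exact ⟨k, by rw [← hk, ← Subgroup.orderOf_coe]⟩
  have hd2 : Disjoint (F.biUnion U) DF := by
    simp only [Finset.disjoint_biUnion_left]
    exact fun R _ => Finset.sdiff_disjoint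
  have hU : ∀ R ∈ F, (U R).card = Nat.card (P : Subgroup G) - Nat.card D := by
    intro R hR
    simp only [U, DF]
    rw [Finset.card_sdiff_of_subset (Set.toFinset_mono (hFD R hR)), ← Set.ncard_eq_toFinset_card',
      ← Set.ncard_eq_toFinset_card', ← Nat.card_coe_set_eq, ← Nat.card_coe_set_eq,
      SetLike.coe_sort_coe, SetLike.coe_sort_coe, R.card_eq_multiplicity, P.card_eq_multiplicity]
  have htot := Finset.card_le_card hUS
  rw [Finset.card_union_of_disjoint hd2, Finset.card_biUnion hdisj, Finset.sum_const_nat hU,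
    show DF.card = Nat.card D by simp only [DF]; rw [← Set.ncard_eq_toFinset_card', ← Nat.card_coe_set_eq, SetLike.coe_sort_coe],
    show S.card = Nat.card {g : G // ∃ k : ℕ, orderOf g = p ^ k} by
      rw [Nat.card_eq_fintype_card, Fintype.card_subtype]] at htot
  refine le_trans ?_ htot
  have hcardP : Nat.card (P₁ : Subgroup G) = Nat.card (P : Subgroup G) := by
    rw [P₁.card_eq_multiplicity, P.card_eq_multiplicity]
  obtain ⟨i, hi⟩ := IsPGroup.iff_card.1 (P₁.isPGroup'.to_le hlt.le)
  obtain ⟨j, hj⟩ := IsPGroup.iff_card.1 P₁.isPGroup'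
  have hij : i < j := by
    by_contra hge
    refine hlt.ne (Subgroup.eq_of_le_of_card_ge hlt.le ?_)
    rw [hi, hj]
    exact Nat.pow_le_pow_right (Fact.out : p.Prime).pos (by omega)
  have hpd : p * Nat.card D ≤ Nat.card (P : Subgroup G) := by
    rw [← hcardP, hi, hj, mul_comm, ← pow_succ]
    exact Nat.pow_le_pow_right (Fact.out : p.Prime).pos hij
  obtain ⟨e, he⟩ : ∃ e, Nat.card (P : Subgroup G) = p * Nat.card D + e := Nat.le.dest hpd |>.imp fun _ h => h.symm
  have hp1 := (Fact.out : p.Prime).pos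
  have hsub : Nat.card D ≤ Nat.card (P : Subgroup G) := le_trans (Nat.le_mul_of_pos_left _ hp1) hpd
  obtain ⟨r, hr⟩ := Nat.exists_eq_add_of_le hsub
  rw [hr, Nat.add_sub_cancel_left]
  nlinarith [Nat.mul_le_mul_right r hFcard]

end Cfsg.Agent.S4092
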