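import Cfsg.Statements.S4093
import Mathlib

set_option autoImplicit false
open scoped BigOperators
open Cfsg

namespace Cfsg.Agent.S4093

/-- Let G be a finite group with a normal subgroup N complementing a Sylow p-subgroup P (a normal p-complement). Then the number of elements of G of p-power order equals the sum over x ∈ P of the index of C_N(x) in N. -/
theorem result {G : Type*} [Group G] [Finite G] (p : ℕ) [Fact p.Prime]
    (P : Sylow p G) (N : Subgroup G) [N.Normal] (hNP : N.IsComplement' (P : Subgroup G)) :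
    Nat.card {g : G // ∃ k : ℕ, orderOf g = p ^ k} =
      ∑ᶠ x : (P : Subgroup G), Nat.card N / Nat.card ↥(N ⊓ Subgroup.centralizer ({(x : G)} : Set G)) := by
  classical
  haveI : Fintype G := Fintype.ofFinite G
  haveI : Fintype (P : Subgroup G) := Fintype.ofFinite _
  let K : Subgroup (ConjAct G) := N.map ConjAct.toConjAct.toMonoidHom
  have hmemK : ∀ n ∈ N, ConjAct.toConjAct n ∈ K := fun n hn => ⟨n, hn, rfl⟩
  have horb : ∀ (x g : G), g ∈ MulAction.orbit K x ↔ ∃ n ∈ N, n * x * n⁻¹ = g := by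
    intro x g
    constructor
    · rintro ⟨⟨_, n, hn, rfl⟩, rfl⟩
      exact ⟨n, hn, rfl⟩
    · rintro ⟨n, hn, rfl⟩
      exact ⟨⟨_, hmemK n hn⟩, rfl⟩
  have hcard : ∀ x : G, Nat.card (MulAction.orbit K x) =
      Nat.card N / Nat.card ↥(N ⊓ Subgroup.centralizer ({x} : Set G)) := by
    intro x
    have h1 := MulAction.orbitEquivQuotientStabilizer K x
    have h2 : Nat.card (MulAction.stabilizer K x) = Nat.card ↥(N ⊓ Subgroup.centralizer ({x} : Set G)) := by
      refine Nat.card_congr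
        { toFun := fun k => ⟨ConjAct.ofConjAct k.1.1, ?_, ?_⟩
          invFun := fun n => ⟨⟨ConjAct.toConjAct n.1, hmemK _ n.2.1⟩, ?_⟩
          left_inv := fun k => by rfl
          right_inv := fun n => by rfl }
      · obtain ⟨⟨_, n, hn, rfl⟩, hk⟩ := k
        exact hn
      · show ConjAct.ofConjAct k.1.1 ∈ Subgroup.centralizer ({x} : Set G)
        rw [Subgroup.mem_centralizer_singleton_iff]
        have hk : ConjAct.ofConjAct k.1.1 * x * (ConjAct.ofConjAct k.1.1)⁻¹ = x :=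
          MulAction.mem_stabilizer_iff.1 k.2
        exact mul_inv_eq_iff_eq_mul.1 hk
      · rw [MulAction.mem_stabilizer_iff]
        show n.1 * x * n.1⁻¹ = x
        rw [Subgroup.mem_centralizer_singleton_iff.1 n.2.2, mul_inv_cancel_right]
    have h3 : Nat.card K = Nat.card N :=
      (Nat.card_congr (N.equivMapOfInjective _ ConjAct.toConjAct.injective).toEquiv).symm
    rw [Nat.card_congr h1, ← h2, ← h3, (MulAction.stabilizer K x).card_eq_card_quotient_mul_card_subgroup,
      Nat.mul_div_cancel _ Nat.card_pos]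
  rw [finsum_eq_sum_of_fintype]
  simp only [← hcard]
  rw [← Nat.card_sigma]
  have hmem : ∀ z : Σ x : (P : Subgroup G), MulAction.orbit K (x : G), ∃ k, orderOf (z.2 : G) = p ^ k := by
    rintro ⟨x, g, hg⟩
    obtain ⟨n, -, rfl⟩ := (horb _ _).1 hg
    obtain ⟨k, hk⟩ := IsPGroup.iff_orderOf.1 P.isPGroup' x
    refine ⟨k, ?_⟩
    show orderOf (n * (x : G) * n⁻¹) = p ^ k
    rw [← hk, ← Subgroup.orderOf_coe, ← MulAut.conj_apply, MulEquiv.orderOf_eq]
  refine (Nat.card_congr (Equiv.ofBijective (fun z => (⟨(z.2 : G), hmem z⟩ : {g : G // ∃ k : ℕ, orderOf g = p ^ k})) ⟨?_, ?_⟩)).symm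
  · rintro ⟨x, g, hg⟩ ⟨x', g', hg'⟩ he
    obtain rfl : g = g' := congrArg Subtype.val he
    obtain ⟨n, hn, hn'⟩ := (horb _ _).1 hg
    obtain ⟨m, hm, hm'⟩ := (horb _ _).1 hg'
    have hN : (x' : G)⁻¹ * x ∈ N := by
      rw [← QuotientGroup.eq_one_iff]
      have e1 := congrArg (QuotientGroup.mk' N) hn'
      have e2 := congrArg (QuotientGroup.mk' N) hm'
      simp only [map_mul, map_inv, QuotientGroup.mk'_apply, (QuotientGroup.eq_one_iff n).2 hn,
        (QuotientGroup.eq_one_iff m).2 hm, one_mul, inv_one, mul_one] at e1 e2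
      rw [QuotientGroup.mk_mul, QuotientGroup.mk_inv, e1, e2, inv_mul_cancel]
    have : (x' : G)⁻¹ * x = 1 := Subgroup.disjoint_def.1 hNP.disjoint hN
      ((P : Subgroup G).mul_mem ((P : Subgroup G).inv_mem x'.2) x.2)
    obtain rfl : x' = x := Subtype.ext (inv_mul_eq_one.1 this)
    rfl
  · rintro ⟨g, k, hk⟩
    have hpg : IsPGroup p (Subgroup.zpowers g) := IsPGroup.of_card (n := k) (by rw [Nat.card_zpowers, hk])
    obtain ⟨R, hR⟩ := hpg.exists_le_sylow
    obtain ⟨c, rfl⟩ := MulAction.exists_smul_eq G P R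
    have hgR := hR (Subgroup.mem_zpowers g)
    rw [Sylow.coe_subgroup_smul, Subgroup.mem_pointwise_smul_iff_inv_smul_mem] at hgR
    simp only [MulAut.smul_def, ← map_inv, MulAut.conj_apply] at hgR
    obtain ⟨⟨⟨n, hn⟩, ⟨x₀, hx₀⟩⟩, rfl⟩ := (Subgroup.IsComplement.existsUnique hNP c).exists
    refine ⟨⟨⟨x₀ * ((n * x₀)⁻¹ * g * (n * x₀)⁻¹⁻¹) * x₀⁻¹,
      (P : Subgroup G).mul_mem ((P : Subgroup G).mul_mem hx₀ hgR) ((P : Subgroup G).inv_mem hx₀)⟩,
      g, (horb _ _).2 ⟨n, hn, ?_⟩⟩, rfl⟩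
    group

end Cfsg.Agent.S4093
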