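import Cfsg.Statements.S4097
import Mathlib
import Cfsg.Agent.Lib.FrobeniusBasic
import Cfsg.Agent.Lib.CharInducedTI
import Cfsg.Agent.Lib.CoprimeAction

set_option autoImplicit false
open Cfsg

namespace Cfsg.Agent.S4097

open scoped Pointwise

universe u

/-- If `A` normalises `R` and both are soluble, so is `A ⊔ R`. -/
theorem solvable_sup {G : Type*} [Group G] {A R : Subgroup G}
    (hn : A ≤ Subgroup.normalizer (R : Set G)) [Group.IsSolvable A] [Group.IsSolvable R] :
    Group.IsSolvable ↥(A ⊔ R) := by
  haveI : (R.subgroupOf (A ⊔ R)).Normal :=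
    (Subgroup.normal_subgroupOf_iff_le_normalizer le_sup_right).2 (sup_le hn Subgroup.le_normalizer)
  haveI : Group.IsSolvable (R.subgroupOf (A ⊔ R)) :=
    Group.isSolvable_of_isSolvable_injective (f := (Subgroup.subgroupOfEquivOfLe (le_sup_right : R ≤ A ⊔ R)).toMonoidHom) (Subgroup.subgroupOfEquivOfLe _).injective
  let f : A →* (↥(A ⊔ R)) ⧸ R.subgroupOf (A ⊔ R) :=
    (QuotientGroup.mk' _).comp (Subgroup.inclusion le_sup_left)
  have hf : Function.Surjective f := by
    intro x
    obtain ⟨⟨y, hy⟩, rfl⟩ := QuotientGroup.mk_surjective x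
    have hy' : y ∈ (A : Set G) * (R : Set G) := Subgroup.coe_mul_of_left_le_normalizer_right A R hn ▸ hy
    obtain ⟨a, ha, r, hr, rfl⟩ := hy'
    refine ⟨⟨a, ha⟩, ?_⟩
    show (QuotientGroup.mk' _) _ = _
    rw [QuotientGroup.mk'_apply, QuotientGroup.eq, Subgroup.mem_subgroupOf]
    simpa using hr
  haveI : Group.IsSolvable ((↥(A ⊔ R)) ⧸ R.subgroupOf (A ⊔ R)) := Group.isSolvable_of_surjective hf
  exact Group.isSolvable_iff_subgroup_quotient (R.subgroupOf (A ⊔ R)) |>.2 ⟨inferInstance, inferInstance⟩

theorem solvable_of_normal_sup_zpowers {G : Type*} [Group G] (U : Subgroup G) [U.Normal]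
    [IsMulCommutative U] {g : G} (h : U ⊔ Subgroup.zpowers g = ⊤) : Group.IsSolvable G := by
  haveI : Group.IsSolvable U := Group.isSolvable_of_comm fun a b => mul_comm' a b
  haveI : Group.IsSolvable (Subgroup.zpowers g) := Group.isSolvable_of_comm fun a b => mul_comm' a b
  haveI := solvable_sup (A := Subgroup.zpowers g) (R := U) (by rw [Subgroup.normalizer_eq_top]; exact le_top)
  rw [sup_comm, h] at this
  exact Group.isSolvable_of_surjective (f := (⊤ : Subgroup G).subtype) (fun x => ⟨⟨x, trivial⟩, rfl⟩)

theorem aux (n : ℕ) : ∀ (G : Type u) [Group G] [Finite G], Nat.card G ≤ n → ∀ A : Subgroup G,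
    Group.IsSolvable A →
    (∀ S : Subgroup G, A ≤ S → Group.IsSolvable S → ∀ a ∈ A, ∀ s ∈ S, a * s = s * a) →
    A ≤ Subgroup.center G := by
  induction n with
  | zero => intro G _ _ h; exact absurd h (Nat.card_pos (α := G)).not_ge
  | succ n ih =>
    intro G _ _ hn A hA hc
    have hAab : ∀ a ∈ A, ∀ b ∈ A, a * b = b * a := hc A le_rfl hA
    by_cases hsol : Group.IsSolvable G
    · intro a ha
      rw [Subgroup.mem_center_iff]
      intro g
      haveI := hsol
      exact (hc ⊤ le_top (Group.isSolvable_of_isSolvable_injective (f := (⊤ : Subgroup G).subtype) Subtype.val_injective) a ha g trivial).symm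
    set M := Subgroup.centralizer (A : Set G) with hMdef
    have hsub : ∀ K : Subgroup G, K ≠ ⊤ → A ≤ K → K ≤ M := by
      intro K hK hAK k hk
      have hlt : Nat.card K ≤ n := by
        have h1 : Nat.card K < Nat.card G := lt_of_le_of_ne (Subgroup.card_le_card_group K)
          fun h => hK (Subgroup.eq_top_of_card_eq K h)
        omega
      haveI := hA
      have hA' : Group.IsSolvable (A.subgroupOf K) :=
        Group.isSolvable_of_isSolvable_injective (f := (Subgroup.subgroupOfEquivOfLe hAK).toMonoidHom) (Subgroup.subgroupOfEquivOfLe _).injective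
      have := ih K hlt (A.subgroupOf K) hA' (fun S hS hSs a ha s hs => by
        haveI := hSs
        apply Subtype.ext
        refine hc (S.map K.subtype) (fun x hx => ⟨⟨x, hAK hx⟩, hS (Subgroup.mem_subgroupOf.2 hx), rfl⟩) ?_ a
          (Subgroup.mem_subgroupOf.1 ha) s ⟨s, hs, rfl⟩
        exact Group.isSolvable_of_surjective (f := K.subtype.subgroupMap S) (K.subtype.subgroupMap_surjective S))
      rw [hMdef, Subgroup.mem_centralizer_iff]
      intro a ha
      exact (congrArg Subtype.val (Subgroup.mem_center_iff.1 (this (Subgroup.mem_subgroupOf.2 (by exact ha) : (⟨a, hAK ha⟩ : K) ∈ A.subgroupOf K)) ⟨k, hk⟩)).symm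
    have hnormU : ∀ U : Subgroup G, U.Normal → IsMulCommutative U → A ≤ U → A ≤ Subgroup.center G := by
      intro U hU hUc hAU a ha
      rw [Subgroup.mem_center_iff]
      intro g
      by_cases htop : U ⊔ Subgroup.zpowers g = ⊤
      · exact absurd (solvable_of_normal_sup_zpowers U htop) hsol
      · have := hsub _ htop (hAU.trans le_sup_left) (Subgroup.mem_sup_right (Subgroup.mem_zpowers g))
        exact (Subgroup.mem_centralizer_iff.1 this a ha).symm
    by_contra hcen
    have hMtop : M ≠ ⊤ := fun h => hcen fun a ha => Subgroup.mem_center_iff.2 fun g =>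
      (Subgroup.mem_centralizer_iff.1 ((h.ge trivial : g ∈ M)) a ha).symm
    have hAM : A ≤ M := fun a ha => Subgroup.mem_centralizer_iff.2 fun b hb => hAab b hb a ha
    have hNM : Subgroup.normalizer (M : Set G) = M := by
      refine le_antisymm ?_ Subgroup.le_normalizer
      by_cases htop : Subgroup.normalizer (M : Set G) = ⊤
      · exfalso
        haveI : M.Normal := Subgroup.normalizer_eq_top_iff.1 htop
        refine hcen (hnormU ((Subgroup.center M).map M.subtype) inferInstance inferInstance fun a ha => ?_)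
        refine ⟨⟨a, hAM ha⟩, Subgroup.mem_center_iff.2 fun m => Subtype.ext ?_, rfl⟩
        exact (Subgroup.mem_centralizer_iff.1 m.2 a ha).symm
      · exact hsub _ htop (hAM.trans Subgroup.le_normalizer)
    by_cases hZ : Subgroup.center G = ⊥
    swap
    · set Z := Subgroup.center G with hZdef
      have hlt : Nat.card (G ⧸ Z) ≤ n := by
        have h := Subgroup.card_eq_card_quotient_mul_card_subgroup Z
        have h1 : 1 < Nat.card Z := Z.one_lt_card_iff_ne_bot.2 hZ
        have h2 : 0 < Nat.card (G ⧸ Z) := Nat.card_pos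
        nlinarith
      haveI := hA
      have hA' : Group.IsSolvable (A.map (QuotientGroup.mk' Z)) :=
        Group.isSolvable_of_surjective (f := (QuotientGroup.mk' Z).subgroupMap A) ((QuotientGroup.mk' Z).subgroupMap_surjective A)
      have hq := ih (G ⧸ Z) hlt (A.map (QuotientGroup.mk' Z)) hA' (fun S hS hSs a ha s hs => by
        obtain ⟨a, ha, rfl⟩ := ha
        obtain ⟨s, rfl⟩ := QuotientGroup.mk'_surjective Z s
        haveI := hSs
        set S' := S.comap (QuotientGroup.mk' Z) with hS'
        have hker : ((QuotientGroup.mk' Z).subgroupComap S).ker ≤ ((Subgroup.inclusion (show Z ≤ S' from fun z hz => by rw [hS', Subgroup.mem_comap, QuotientGroup.mk'_apply, (QuotientGroup.eq_one_iff z).2 hz]; exact S.one_mem))).range := by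
          intro x hx
          have : (x : G) ∈ Z := (QuotientGroup.eq_one_iff (x : G)).1 (congrArg Subtype.val (MonoidHom.mem_ker.1 hx))
          exact ⟨⟨x, this⟩, rfl⟩
        haveI : Group.IsSolvable Z := Group.isSolvable_of_comm fun a b => mul_comm' a b
        haveI : Group.IsSolvable S' := Group.isSolvable_of_ker_le_range _ _ hker
        have := hc S' (fun x hx => hS ⟨x, hx, rfl⟩) inferInstance a ha s hs
        rw [← map_mul, ← map_mul, this])
      have hU : (A ⊔ Z).Normal := by
        refine ⟨fun x hx g => ?_⟩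
        have hc' : x⁻¹ * (g * x * g⁻¹) ∈ Z := by
          obtain ⟨a, ha, z, hz, rfl⟩ := Subgroup.mem_sup_of_normal_right.1 hx
          have h2 := Subgroup.mem_center_iff.1 (hq ⟨a, ha, rfl⟩) (QuotientGroup.mk' Z g)
          rw [← QuotientGroup.eq_one_iff, ← QuotientGroup.mk'_apply]
          simp only [map_mul, map_inv, show QuotientGroup.mk' Z z = 1 from (QuotientGroup.eq_one_iff z).2 hz, mul_one]
          rw [h2, mul_inv_cancel_right, inv_mul_cancel]
        simpa [mul_assoc] using (A ⊔ Z).mul_mem hx (Subgroup.mem_sup_right hc')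
      have hUc : IsMulCommutative ↥(A ⊔ Z) := by
        refine ⟨⟨?_⟩⟩
        rintro ⟨x, hx⟩ ⟨y, hy⟩
        obtain ⟨a, ha, z, hz, rfl⟩ := Subgroup.mem_sup_of_normal_right.1 hx
        obtain ⟨b, hb, w, hw, rfl⟩ := Subgroup.mem_sup_of_normal_right.1 hy
        apply Subtype.ext
        show a * z * (b * w) = b * w * (a * z)
        have hz' := Subgroup.mem_center_iff.1 hz
        have hw' := Subgroup.mem_center_iff.1 hw
        have e1 : Commute a b := hAab a ha b hb
        have e2 : ∀ g, Commute g z := hz'
        have e3 : ∀ g, Commute g w := hw'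
        exact ((e1.mul_right (e3 a)).mul_left ((e2 (b * w)).symm)).eq
      exact hcen (hnormU _ hU hUc le_sup_left)
    -- `M` is a Frobenius complement
    have hA0 : A ≠ ⊥ := fun h => hcen (h ▸ bot_le)
    have hFC : Cfsg.IsFrobeniusComplement M := by
      refine Cfsg.Agent.FrobeniusBasic.isFrobeniusComplement_of_ti (fun h => hA0 (eq_bot_iff.2 (h ▸ hAM))) hMtop ?_
      intro g z hz hz1 hzg
      by_contra hg
      set C := Subgroup.centralizer ({z} : Set G) with hC
      have hCtop : C ≠ ⊤ := by
        intro h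
        have hzc : z ∈ Subgroup.center G := Subgroup.mem_center_iff.2 fun x =>
          Subgroup.mem_centralizer_singleton_iff.1 (h.ge trivial : x ∈ C)
        rw [hZ, Subgroup.mem_bot] at hzc
        exact hz1 hzc
      have hAC : A ≤ C := fun a ha => Subgroup.mem_centralizer_singleton_iff.2
        (Subgroup.mem_centralizer_iff.1 hz a ha)
      have hgA : ∀ a ∈ A, g * a * g⁻¹ ∈ C := fun a ha => Subgroup.mem_centralizer_singleton_iff.2 (by
        have h := Subgroup.mem_centralizer_iff.1 hzg a ha
        calc g * a * g⁻¹ * z = g * (a * (g⁻¹ * z * g)) * g⁻¹ := by group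
          _ = g * ((g⁻¹ * z * g) * a) * g⁻¹ := by rw [h]
          _ = z * (g * a * g⁻¹) := by group)
      have hAg : ∀ a ∈ A, ∀ b ∈ A, b * (g * a * g⁻¹) = g * a * g⁻¹ * b := fun a ha b hb =>
        Subgroup.mem_centralizer_iff.1 (hsub C hCtop hAC (hgA a ha)) b hb
      set M' := M.map (MulAut.conj g).toMonoidHom with hM'
      have hcard : Nat.card M' = Nat.card M :=
        (Nat.card_congr (M.equivMapOfInjective _ (MulAut.conj g).injective).toEquiv).symm
      have hle : M' ≤ M := by
        refine hsub M' (fun h => hMtop (Subgroup.eq_top_of_card_eq M ?_)) fun b hb => ⟨g⁻¹ * b * g, ?_, ?_⟩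
        · rw [← hcard, h, Subgroup.card_top]
        · show g⁻¹ * b * g ∈ M
          rw [hMdef, Subgroup.mem_centralizer_iff]
          intro a ha
          calc a * (g⁻¹ * b * g) = g⁻¹ * ((g * a * g⁻¹) * b) * g := by group
            _ = g⁻¹ * (b * (g * a * g⁻¹)) * g := by rw [hAg a ha b hb]
            _ = g⁻¹ * b * g * a := by group
        · show g * (g⁻¹ * b * g) * g⁻¹ = b
          group
      have heq := Subgroup.eq_of_le_of_card_ge hle hcard.ge
      apply hg
      rw [← hNM, Subgroup.mem_normalizer_iff]
      intro x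
      constructor
      · intro hx
        exact hle ⟨x, hx, rfl⟩
      · intro hx
        obtain ⟨y, hy, hyx⟩ := heq.ge hx
        have hyx' : g * y * g⁻¹ = g * x * g⁻¹ := hyx
        exact mul_left_cancel (mul_right_cancel hyx') ▸ hy
    haveI := Fintype.ofFinite G
    obtain ⟨K, -, hKn, hKc⟩ := Cfsg.Agent.CharInduced.frobenius_kernel_subgroup hFC
    haveI := hKn
    have hK1 : K ≠ ⊥ := fun h => hMtop (by subst h; exact Subgroup.isComplement'_bot_left.1 hKc)
    obtain ⟨q, hq, hqd⟩ := Nat.exists_prime_and_dvd (fun h => hK1 (Subgroup.card_eq_one.1 h))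
    haveI := Fact.mk hq
    have hcop : (Nat.card A).Coprime (Nat.card K) := by
      have := Cfsg.Agent.FrobeniusBasic.coprime_card_index hFC
      rw [hKc.index_eq_card] at this
      exact this.coprime_dvd_left (Subgroup.card_dvd_of_le hAM)
    obtain ⟨R, hR⟩ := Cfsg.Agent.CoprimeAction.exists_invariant_sylow (A := A) (K := K)
      (by rw [Subgroup.normalizer_eq_top]; exact le_top) hcop (Or.inl hA) q
    set R' := (R : Subgroup K).map K.subtype with hR'
    haveI := hA
    haveI : Group.IsSolvable R' := by
      haveI := (R.isPGroup'.map K.subtype).isNilpotent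
      infer_instance
    have hAR := solvable_sup hR
    have hle : R' ≤ M ⊓ K := fun r hr => ⟨Subgroup.mem_centralizer_iff.2 fun a ha =>
      hc _ le_sup_left hAR a ha r (Subgroup.mem_sup_right hr), Subgroup.map_subtype_le _ hr⟩
    rw [disjoint_iff.1 hKc.symm.disjoint, le_bot_iff, hR', Subgroup.map_eq_bot_iff_of_injective _ K.subtype_injective] at hle
    exact R.ne_bot_of_dvd_card hqd hle

/-- Let A be a solvable subgroup of a finite group G such that A lies in the centre of every solvable subgroup of G containing A. Then A lies in the centre of G. -/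
theorem result {G : Type*} [Group G] [Finite G]
    (A : Subgroup G) (hA : Group.IsSolvable A)
    (hc : ∀ S : Subgroup G, A ≤ S → Group.IsSolvable S → ∀ a ∈ A, ∀ s ∈ S, a * s = s * a) : A ≤ Subgroup.center G := by
  exact aux (Nat.card G) G le_rfl A hA hc

end Cfsg.Agent.S4097
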