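import Cfsg.Statements.S4104
import Cfsg.Agent.Lib.PiClassHall53Final

set_option autoImplicit false
open Cfsg

namespace Cfsg.Agent.S4104

/-- Let G be a finite group, π a set of primes with least member p, m the π-part of the order of G and k the number of conjugacy classes of G consisting of π-elements (elements whose order is divisible only by primes in π). If k > m/p, then G has a nilpotent Hall π-subgroup (a nilpotent subgroup of order m) whose derived subgroup has order at most p. -/
theorem result {G : Type*} [Group G] [Finite G]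
    (π : Set ℕ) (hπ : ∀ q ∈ π, q.Prime) (p : ℕ) (hp : p ∈ π) (hmin : ∀ q ∈ π, p ≤ q)
    (m : ℕ) (hm : m ∣ Nat.card G) (hmπ : ∀ q : ℕ, q.Prime → q ∣ m → q ∈ π)
    (hm' : ∀ q ∈ π, ¬ q ∣ Nat.card G / m)
    (k : ℕ) (hk : k = Nat.card {C : ConjClasses G // ∀ q : ℕ, q.Prime → (∃ g : G, ConjClasses.mk g = C ∧ q ∣ orderOf g) → q ∈ π})
    (hmany : m < p * k) :
    ∃ H : Subgroup G, Nat.card H = m ∧ Group.IsNilpotent H ∧ Nat.card (commutator H) ≤ p := by
  classical
  obtain ⟨hmpi, hle⟩ := PiClassHall53.count_eq hm hmπ hm'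
  set σ := m.primeFactors
  have hσ : ∀ q ∈ σ, q.Prime := fun q hq => Nat.prime_of_mem_primeFactors hq
  have hpσ : ∀ q ∈ σ, p ≤ q := fun q hq =>
    hmin q (hmπ q (hσ q hq) (Nat.dvd_of_mem_primeFactors hq))
  have hp2 : 2 ≤ p := (hπ p hp).two_le
  have hmk : m < p * PiClassHall53.kcl σ G :=
    hmany.trans_le (Nat.mul_le_mul_left _ (hk ▸ hle))
  obtain ⟨H, hHc, hHn⟩ : ∃ H : Subgroup G,
      Nat.card H = PiClassHall53.mpi σ (Nat.card G) ∧ Group.IsNilpotent H := by
    by_contra h
    have h1 := PiClassHall53.main σ G hσ p hp2 hpσ h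
    rw [hmpi] at h1
    omega
  refine ⟨H, hHc.trans hmpi, hHn, ?_⟩
  -- the Sylow subgroups
  have key : ∀ q, (hq : q ∈ σ) → ∀ (_ : Fact q.Prime) (Q : Sylow q G),
      Nat.card (Q : Subgroup G) < p * Nat.card (ConjClasses (Q : Subgroup G)) := by
    intro q hq _ Q
    have h1 := PiClassHall53.kcl_le_sylow hσ hq Q
    rw [hmpi] at h1
    have h2 : Nat.card (Q : Subgroup G) * m < p * Nat.card (ConjClasses (Q : Subgroup G)) * m := by
      calc Nat.card (Q : Subgroup G) * m
          < Nat.card (Q : Subgroup G) * (p * PiClassHall53.kcl σ G) :=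
            Nat.mul_lt_mul_of_pos_left hmk Nat.card_pos
        _ = p * (Nat.card (Q : Subgroup G) * PiClassHall53.kcl σ G) := by ring
        _ ≤ p * (Nat.card (ConjClasses (Q : Subgroup G)) * m) := Nat.mul_le_mul_left _ h1
        _ = _ := by ring
    exact Nat.lt_of_mul_lt_mul_right h2
  have habel : ∀ q, (hq : q ∈ σ) → q ≠ p → ∀ (_ : Fact q.Prime) (Q : Sylow q G),
      commutator (Q : Subgroup G) = ⊥ := by
    intro q hq hqp _ Q
    by_contra hne
    have h1 := PiClassHall53.classes_le_of_nonabelian Q.2 hne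
    obtain ⟨t, rfl⟩ : ∃ t, q = p + 1 + t := ⟨q - (p + 1), by have := hpσ q hq; omega⟩
    have h2 : p * ((p + 1 + t) ^ 2 + (p + 1 + t) - 1) ≤ (p + 1 + t) ^ 3 := by
      refine le_trans (Nat.mul_le_mul_left _ (Nat.sub_le _ _)) ?_
      nlinarith
    refine absurd (key _ hq ‹_› Q) (not_lt.2 (Nat.le_of_mul_le_mul_left
      (?_ : (p + 1 + t) ^ 3 * _ ≤ (p + 1 + t) ^ 3 * _) (pow_pos (hσ _ hq).pos 3)))
    calc (p + 1 + t) ^ 3 * (p * Nat.card (ConjClasses (Q : Subgroup G)))
        = p * ((p + 1 + t) ^ 3 * Nat.card (ConjClasses (Q : Subgroup G))) := by ring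
      _ ≤ p * (Nat.card (Q : Subgroup G) * ((p + 1 + t) ^ 2 + (p + 1 + t) - 1)) :=
          Nat.mul_le_mul_left _ h1
      _ = Nat.card (Q : Subgroup G) * (p * ((p + 1 + t) ^ 2 + (p + 1 + t) - 1)) := by ring
      _ ≤ _ := by rw [mul_comm _ (Nat.card (Q : Subgroup G))]; exact Nat.mul_le_mul_left _ h2
  -- components
  let e := Sylow.directProductOfNormal (G := H) (fun {q} _ P => inferInstance)
  let ev : ∀ (q : (Nat.card H).primeFactors) (S : Sylow q H), H →* (S : Subgroup H) := fun q S =>
    (Pi.evalMonoidHom (fun S : Sylow q H => ((S : Subgroup H) : Type _)) S).comp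
      ((Pi.evalMonoidHom (fun q : (Nat.card H).primeFactors =>
        ∀ S : Sylow q H, ((S : Subgroup H) : Type _)) q).comp e.symm.toMonoidHom)
  have hev : ∀ (q : (Nat.card H).primeFactors) (S : Sylow q H), ∀ c ∈ commutator H,
      ev q S c ∈ commutator (S : Subgroup H) := by
    intro q S c hc
    have h1 := Subgroup.mem_map_of_mem (ev q S) hc
    rw [commutator_def, Subgroup.map_commutator] at h1
    rw [commutator_def]
    exact Subgroup.commutator_mono le_top le_top h1
  have hmem : ∀ q : (Nat.card H).primeFactors, (q : ℕ) ∈ σ := fun q =>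
    Nat.mem_primeFactors.2 ⟨Nat.prime_of_mem_primeFactors q.2,
      hmpi ▸ hHc ▸ Nat.dvd_of_mem_primeFactors q.2, ne_zero_of_dvd_ne_zero Nat.card_pos.ne' hm⟩
  have htriv : ∀ (q : (Nat.card H).primeFactors), (q : ℕ) ≠ p → ∀ (S : Sylow q H),
      ∀ c ∈ commutator H, ev q S c = 1 := by
    intro q hqp S c hc
    have := Fact.mk (hσ q (hmem q))
    obtain ⟨Q, ⟨f⟩⟩ := PiClassHall53.exists_sylow_equiv hσ hHc (hmem q) S
    have h1 := hev q S c hc
    rw [PiClassHall53.commutator_eq_bot_of_equiv f (habel q (hmem q) hqp this Q),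
      Subgroup.mem_bot] at h1
    exact h1
  by_cases hpH : p ∈ (Nat.card H).primeFactors
  · have := Fact.mk (hπ p hp)
    obtain ⟨S⟩ : Nonempty (Sylow p H) := inferInstance
    obtain ⟨Q, ⟨f⟩⟩ := PiClassHall53.exists_sylow_equiv hσ hHc (hmem ⟨p, hpH⟩) S
    have hS : Nat.card (commutator (S : Subgroup H)) ≤ p := by
      by_contra hlt
      have h1 := PiClassHall53.classes_le_of_sq_dvd S.2 (not_le.1 hlt)
      have h2 := key p (hmem ⟨p, hpH⟩) this Q
      rw [← Nat.card_congr f.toEquiv] at h2
      have h3 : Nat.card (ConjClasses (S : Subgroup H)) =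
          Nat.card (ConjClasses (Q : Subgroup G)) := Nat.card_congr
        { toFun := ConjClasses.map f.toMonoidHom
          invFun := ConjClasses.map f.symm.toMonoidHom
          left_inv := fun C => by
            obtain ⟨g, rfl⟩ := C.exists_rep
            exact congrArg ConjClasses.mk (f.symm_apply_apply g)
          right_inv := fun C => by
            obtain ⟨g, rfl⟩ := C.exists_rep
            exact congrArg ConjClasses.mk (f.apply_symm_apply g) }
      rw [← h3] at h2
      omega
    refine le_trans (Nat.card_le_card_of_injective (fun c : commutator H =>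
      (⟨ev ⟨p, hpH⟩ S c, hev ⟨p, hpH⟩ S c c.2⟩ : commutator (S : Subgroup H))) ?_) hS
    intro a b hab
    apply Subtype.ext
    apply e.symm.injective
    funext q T
    by_cases hqp : (q : ℕ) = p
    · obtain ⟨q, hq⟩ := q
      change q = p at hqp
      subst hqp
      obtain rfl : S = T := by
        have := Sylow.unique_of_normal S inferInstance
        exact Subsingleton.elim _ _
      exact congrArg Subtype.val hab
    · exact (htriv q hqp T a a.2).trans (htriv q hqp T b b.2).symm
  · refine le_trans (Finite.card_le_one_iff_subsingleton.2 ⟨fun a b => ?_⟩) (hπ p hp).one_lt.le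
    apply Subtype.ext
    apply e.symm.injective
    funext q T
    have hqp : (q : ℕ) ≠ p := fun h => hpH (h ▸ q.2)
    exact (htriv q hqp T a a.2).trans (htriv q hqp T b b.2).symm

end Cfsg.Agent.S4104
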