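import Cfsg.Statements.S4105
import Cfsg.Agent.Lib.PiClassHall53Final

set_option autoImplicit false
open Cfsg

namespace Cfsg.Agent.S4105

open scoped commutatorElement

/-- Let G be a finite group, π a set of primes with least member p, m the π-part of the order of G and k the number of conjugacy classes of G consisting of π-elements. If k > m·(p² + p − 1)/p³, then G has an abelian Hall π-subgroup (an abelian subgroup of order m). -/
theorem result {G : Type*} [Group G] [Finite G]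
    (π : Set ℕ) (hπ : ∀ q ∈ π, q.Prime) (p : ℕ) (hp : p ∈ π) (hmin : ∀ q ∈ π, p ≤ q)
    (m : ℕ) (hm : m ∣ Nat.card G) (hmπ : ∀ q : ℕ, q.Prime → q ∣ m → q ∈ π)
    (hm' : ∀ q ∈ π, ¬ q ∣ Nat.card G / m)
    (k : ℕ) (hk : k = Nat.card {C : ConjClasses G // ∀ q : ℕ, q.Prime → (∃ g : G, ConjClasses.mk g = C ∧ q ∣ orderOf g) → q ∈ π})
    (hmany : m * (p ^ 2 + p - 1) < p ^ 3 * k) :
    ∃ H : Subgroup G, Nat.card H = m ∧ IsMulCommutative H := by
  classical
  obtain ⟨hmpi, hle⟩ := PiClassHall53.count_eq hm hmπ hm'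
  set σ := m.primeFactors
  have hσ : ∀ q ∈ σ, q.Prime := fun q hq => Nat.prime_of_mem_primeFactors hq
  have hpσ : ∀ q ∈ σ, p ≤ q := fun q hq =>
    hmin q (hmπ q (hσ q hq) (Nat.dvd_of_mem_primeFactors hq))
  have hp2 : 2 ≤ p := (hπ p hp).two_le
  have hmk : m * (p ^ 2 + p - 1) < p ^ 3 * PiClassHall53.kcl σ G :=
    hmany.trans_le (Nat.mul_le_mul_left _ (hk ▸ hle))
  obtain ⟨H, hHc, hHn⟩ : ∃ H : Subgroup G,
      Nat.card H = PiClassHall53.mpi σ (Nat.card G) ∧ Group.IsNilpotent H := by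
    by_contra h
    have h1 := PiClassHall53.main σ G hσ p hp2 hpσ h
    rw [hmpi] at h1
    have h2 : p ^ 2 * (p * PiClassHall53.kcl σ G) ≤ (p ^ 2 + p - 1) * m :=
      Nat.mul_le_mul (by omega) h1
    rw [← mul_assoc, ← pow_succ, mul_comm _ m] at h2
    exact absurd hmk (not_lt.2 h2)
  refine ⟨H, hHc.trans hmpi, ?_⟩
  have habel : ∀ q, (hq : q ∈ σ) → ∀ (_ : Fact q.Prime) (Q : Sylow q G),
      commutator (Q : Subgroup G) = ⊥ := by
    intro q hq _ Q
    by_contra hne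
    have h1 := PiClassHall53.classes_le_of_nonabelian Q.2 hne
    have h0 := PiClassHall53.kcl_le_sylow hσ hq Q
    rw [hmpi] at h0
    obtain ⟨t, rfl⟩ : ∃ t, q = p + t := ⟨q - p, by have := hpσ q hq; omega⟩
    have h2 : p ^ 3 * ((p + t) ^ 2 + (p + t) - 1) ≤ (p + t) ^ 3 * (p ^ 2 + p - 1) := by
      obtain ⟨s, rfl⟩ : ∃ s, p = s + 2 := ⟨p - 2, by omega⟩
      rw [show (s + 2 + t) ^ 2 + (s + 2 + t) - 1 =
          (s + 2 + t) * (s + 2 + t) + (s + 1 + t) by rw [sq]; omega,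
        show (s + 2) ^ 2 + (s + 2) - 1 = (s + 2) * (s + 2) + (s + 1) by rw [sq]; omega]
      nlinarith [Nat.zero_le (t * s), Nat.zero_le (t * t), Nat.zero_le (s * s),
        Nat.zero_le (t * t * t), Nat.zero_le (t * s * s), Nat.zero_le (t * t * s),
        Nat.zero_le (t * s * s * s), Nat.zero_le (t * s * s * s * s),
        Nat.zero_le (t * t * s * s), Nat.zero_le (t * t * s * s * s),
        Nat.zero_le (t * t * t * s), Nat.zero_le (t * t * t * s * s)]
    refine absurd hmk (not_lt.2 (Nat.le_of_mul_le_mul_left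
      (?_ : (p + t) ^ 3 * Nat.card (Q : Subgroup G) * _ ≤
        (p + t) ^ 3 * Nat.card (Q : Subgroup G) * _)
      (Nat.mul_pos (pow_pos (hσ _ hq).pos 3) Nat.card_pos)))
    calc (p + t) ^ 3 * Nat.card (Q : Subgroup G) * (p ^ 3 * PiClassHall53.kcl σ G)
        = p ^ 3 * (p + t) ^ 3 * (Nat.card (Q : Subgroup G) * PiClassHall53.kcl σ G) := by ring
      _ ≤ p ^ 3 * (p + t) ^ 3 * (Nat.card (ConjClasses (Q : Subgroup G)) * m) :=
          Nat.mul_le_mul_left _ h0
      _ = p ^ 3 * ((p + t) ^ 3 * Nat.card (ConjClasses (Q : Subgroup G))) * m := by ring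
      _ ≤ p ^ 3 * (Nat.card (Q : Subgroup G) * ((p + t) ^ 2 + (p + t) - 1)) * m :=
          Nat.mul_le_mul_right _ (Nat.mul_le_mul_left _ h1)
      _ = Nat.card (Q : Subgroup G) * (p ^ 3 * ((p + t) ^ 2 + (p + t) - 1)) * m := by ring
      _ ≤ Nat.card (Q : Subgroup G) * ((p + t) ^ 3 * (p ^ 2 + p - 1)) * m :=
          Nat.mul_le_mul_right _ (Nat.mul_le_mul_left _ h2)
      _ = _ := by ring
  let e := Sylow.directProductOfNormal (G := H) (fun {q} _ P => inferInstance)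
  refine ⟨⟨fun a b => ?_⟩⟩
  apply e.symm.injective
  funext q T
  rw [map_mul, map_mul]
  show (e.symm a q T) * (e.symm b q T) = (e.symm b q T) * (e.symm a q T)
  have hmem : (q : ℕ) ∈ σ := Nat.mem_primeFactors.2 ⟨Nat.prime_of_mem_primeFactors q.2,
    hmpi ▸ hHc ▸ Nat.dvd_of_mem_primeFactors q.2, ne_zero_of_dvd_ne_zero Nat.card_pos.ne' hm⟩
  have := Fact.mk (hσ q hmem)
  obtain ⟨Q, ⟨f⟩⟩ := PiClassHall53.exists_sylow_equiv hσ hHc hmem T
  have h1 : ⁅e.symm a q T, e.symm b q T⁆ ∈ commutator (T : Subgroup H) :=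
    Subgroup.commutator_mem_commutator (Subgroup.mem_top _) (Subgroup.mem_top _)
  rw [PiClassHall53.commutator_eq_bot_of_equiv f (habel q hmem this Q), Subgroup.mem_bot] at h1
  exact commutatorElement_eq_one_iff_mul_comm.1 h1

end Cfsg.Agent.S4105
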