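import Cfsg.Statements.S4107
import Mathlib
import Cfsg.Agent.Lib.ComponentsFitting
import Cfsg.Agent.Lib.HallCore

set_option autoImplicit false
open Cfsg

namespace Cfsg.Agent.S4107

open Cfsg.Agent in
theorem core {G : Type*} [Group G] [Finite G] (N : Subgroup G) [N.Normal]
    (heq : ∀ x : G, x ∉ N → ∀ n ∈ N, orderOf (x * n) = orderOf x)
    {p : ℕ} [Fact p.Prime] (hR : ¬ Cfsg.pCore p G ≤ N) : IsPGroup p N := by
  obtain ⟨x, hxR, hxN⟩ := SetLike.not_le_iff_exists.1 hR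
  set R := Cfsg.pCore p G with hRdef
  have hRp : IsPGroup p R := HallCore.isPGroup_pCore p G
  haveI : R.Normal := HallCore.pCore_normal p G
  by_contra hN
  have : ∃ q, q.Prime ∧ q ∣ Nat.card N ∧ q ≠ p := by
    by_contra hall
    push_neg at hall
    apply hN
    obtain ⟨k, hk⟩ : ∃ k, Nat.card N = p ^ k :=
      ⟨_, Nat.eq_prime_pow_of_unique_prime_dvd Nat.card_pos.ne' fun {q} hq hqd => hall q hq hqd⟩
    exact IsPGroup.of_card hk
  obtain ⟨q, hq, hqd, hqp⟩ := this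
  haveI := Fact.mk hq
  obtain ⟨n, hn⟩ := exists_prime_orderOf_dvd_card' q hqd
  let Q : Subgroup (ConjAct G) := Subgroup.zpowers (ConjAct.toConjAct (n : G))
  have hQ : IsPGroup q Q := IsPGroup.of_card (n := 1) (by
    rw [Nat.card_zpowers, pow_one, ← hn, ← Subgroup.orderOf_coe]
    exact MulEquiv.orderOf_eq ConjAct.toConjAct (n : G))
  have hQN : ∀ g : Q, ConjAct.ofConjAct (g : ConjAct G) ∈ N := by
    rintro ⟨g, hg⟩
    obtain ⟨i, rfl⟩ := Subgroup.mem_zpowers_iff.1 hg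
    show ConjAct.ofConjAct (ConjAct.toConjAct (n : G) ^ i) ∈ N
    rw [map_zpow, ConjAct.ofConjAct_toConjAct]
    exact N.zpow_mem n.2 i
  let S : SubMulAction Q G :=
    { carrier := {y : G | y ∈ R ∧ x⁻¹ * y ∈ N}
      smul_mem' := by
        intro g y hy
        set m := ConjAct.ofConjAct (g : ConjAct G) with hm
        show m * y * m⁻¹ ∈ R ∧ x⁻¹ * (m * y * m⁻¹) ∈ N
        refine ⟨‹R.Normal›.conj_mem _ hy.1 m, ?_⟩
        have e : x⁻¹ * (m * y * m⁻¹) = (x⁻¹ * m * x) * (x⁻¹ * y) * m⁻¹ := by group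
        rw [e]
        refine N.mul_mem (N.mul_mem ?_ hy.2) (N.inv_mem (hQN g))
        simpa using ‹N.Normal›.conj_mem _ (hQN g) x⁻¹ }
  let e : ↥(R ⊓ N) ≃ S :=
    { toFun := fun z => ⟨x * z, R.mul_mem hxR z.2.1, by rw [inv_mul_cancel_left]; exact z.2.2⟩
      invFun := fun y => ⟨x⁻¹ * y, R.mul_mem (R.inv_mem hxR) y.2.1, y.2.2⟩
      left_inv := fun z => Subtype.ext (inv_mul_cancel_left _ _)
      right_inv := fun y => Subtype.ext (mul_inv_cancel_left _ _) }
  have hcard : ¬ q ∣ Nat.card S := by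
    rw [← Nat.card_congr e]
    obtain ⟨k, hk⟩ := IsPGroup.iff_card.1 (hRp.to_le (inf_le_left : R ⊓ N ≤ R))
    rw [hk]
    exact fun h => hqp ((Nat.prime_dvd_prime_iff_eq hq Fact.out).1 (hq.dvd_of_dvd_pow h))
  obtain ⟨⟨y, hyR, hyN⟩, hy⟩ := hQ.nonempty_fixed_point_of_prime_not_dvd_card S hcard
  have hfix : (n : G) * y * (n : G)⁻¹ = y :=
    congrArg Subtype.val (hy ⟨_, Subgroup.mem_zpowers (ConjAct.toConjAct (n : G))⟩)
  have hc : Commute y (n : G) := (mul_inv_eq_iff_eq_mul.1 hfix).symm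
  have hyN' : y ∉ N := fun h => hxN (by simpa using N.mul_mem h (N.inv_mem hyN))
  obtain ⟨j, hj⟩ := IsPGroup.iff_orderOf.1 hRp ⟨y, hyR⟩
  rw [← Subgroup.orderOf_coe] at hj
  have ho := heq y hyN' n n.2
  have h1 : (n : G) ^ (p ^ j) = 1 := by
    have := pow_orderOf_eq_one (y * (n : G))
    rw [ho, hc.mul_pow, pow_orderOf_eq_one, one_mul] at this
    exact hj ▸ this
  have h2 := orderOf_dvd_of_pow_eq_one h1
  rw [Subgroup.orderOf_coe, hn] at h2
  exact hqp ((Nat.prime_dvd_prime_iff_eq hq Fact.out).1 (hq.dvd_of_dvd_pow h2))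

/-- Let G be a finite group and N a proper non-trivial normal subgroup such that for every x outside N all elements of the coset xN have the same order as x. Then N ≤ F(G) or F(G) ≤ N, where F(G) is the Fitting subgroup; and if N is properly contained in F(G) then F(G) has prime-power order. -/
theorem result {G : Type*} [Group G] [Finite G] (N : Subgroup G) [N.Normal] (hN1 : N ≠ ⊥) (hN2 : N ≠ ⊤)
    (heq : ∀ x : G, x ∉ N → ∀ n ∈ N, orderOf (x * n) = orderOf x) :
    (N ≤ Cfsg.fittingSubgroup G ∨ Cfsg.fittingSubgroup G ≤ N) ∧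
    (N < Cfsg.fittingSubgroup G → IsPrimePow (Nat.card (Cfsg.fittingSubgroup G))) := by
  classical
  by_cases hF : Cfsg.fittingSubgroup G ≤ N
  · exact ⟨Or.inr hF, fun h => absurd hF h.not_ge⟩
  have hF' := Cfsg.Agent.ComponentsFitting.fittingSubgroup_eq_iSup (G := G)
  obtain ⟨p, hp, hR⟩ : ∃ p : ℕ, p.Prime ∧ ¬ Cfsg.pCore p G ≤ N := by
    by_contra hall
    push_neg at hall
    apply hF
    rw [hF']
    exact iSup_le fun p => hall p (Nat.prime_of_mem_primeFactors p.2)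
  haveI := Fact.mk hp
  have hNp : IsPGroup p N := core N heq hR
  have hNle : N ≤ Cfsg.fittingSubgroup G := by
    refine le_sSup ⟨inferInstance, ?_⟩
    exact hNp.isNilpotent
  refine ⟨Or.inl hNle, fun _ => ?_⟩
  have hall : ∀ r : ℕ, r.Prime → r ≠ p → Cfsg.pCore r G = ⊥ := by
    intro r hr hrp
    haveI := Fact.mk hr
    have hRr : IsPGroup r (Cfsg.pCore r G) := Cfsg.Agent.HallCore.isPGroup_pCore r G
    by_cases hle : Cfsg.pCore r G ≤ N
    · exact disjoint_self.1 (IsPGroup.disjoint_of_ne r p hrp _ _ hRr (hNp.to_le hle))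
    · exact absurd (disjoint_self.1 (IsPGroup.disjoint_of_ne r p hrp _ _ (core N heq hle) hNp)) hN1
  have hFe : Cfsg.fittingSubgroup G = Cfsg.pCore p G := by
    refine le_antisymm ?_ (Cfsg.Agent.ComponentsFitting.pCore_le_fitting hp)
    rw [hF']
    refine iSup_le fun r => ?_
    by_cases h : (r : ℕ) = p
    · rw [h]
    · rw [hall r (Nat.prime_of_mem_primeFactors r.2) h]; exact bot_le
  rw [hFe]
  obtain ⟨k, hk⟩ := IsPGroup.iff_card.1 (Cfsg.Agent.HallCore.isPGroup_pCore p G)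
  rw [hk]
  refine (hp.isPrimePow).pow ?_
  rintro rfl
  rw [pow_zero, Subgroup.card_eq_one] at hk
  exact hR (hk ▸ bot_le)

end Cfsg.Agent.S4107
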