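import Cfsg.Statements.S4108
import Cfsg.Agent.Lib.FrobeniusBasic
-- import your own Cfsg.Agent.* helpers here

set_option autoImplicit false
open Cfsg

namespace Cfsg.Agent.S4108

/-- Let G be a finite group, p a prime and N a proper non-trivial normal p-subgroup such that for every x outside N all elements of the coset xN have the same order as x. Then every non-trivial subgroup H of G of order prime to p acts fixed-point-freely on N: NH is a Frobenius group with complement H and kernel N. -/
theorem result {G : Type*} [Group G] [Finite G] (N : Subgroup G) [N.Normal] (hN1 : N ≠ ⊥) (hN2 : N ≠ ⊤)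
    (heq : ∀ x : G, x ∉ N → ∀ n ∈ N, orderOf (x * n) = orderOf x)
    (p : ℕ) [Fact p.Prime] (hNp : IsPGroup p N) :
    ∀ H : Subgroup G, H ≠ ⊥ → (Nat.card H).Coprime p →
      Cfsg.IsFrobeniusComplement (H.subgroupOf (N ⊔ H)) ∧ Cfsg.frobeniusKernel (H.subgroupOf (N ⊔ H)) = (N.subgroupOf (N ⊔ H) : Set ↥(N ⊔ H)) := by
  intro H hH hcop
  have hcopN : (Nat.card N).Coprime (Nat.card H) := by
    obtain ⟨k, hk⟩ := IsPGroup.iff_card.1 hNp
    rw [hk]
    exact (Nat.Coprime.pow_left k hcop.symm)
  have hd : Disjoint N H := Subgroup.disjoint_of_coprime_natCard hcopN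
  have hNle : N ≤ N ⊔ H := le_sup_left
  have hHle : H ≤ N ⊔ H := le_sup_right
  set M : Subgroup ↥(N ⊔ H) := N.subgroupOf (N ⊔ H)
  set H' : Subgroup ↥(N ⊔ H) := H.subgroupOf (N ⊔ H)
  have : M.Normal := Subgroup.Normal.subgroupOf ‹N.Normal› _
  have hd' : Disjoint M H' := by
    rw [Subgroup.disjoint_def]
    intro x hx hx'
    exact Subtype.ext (Subgroup.disjoint_def.1 hd hx hx')
  have hsup : M ⊔ H' = ⊤ := by
    rw [← Subgroup.subgroupOf_sup hNle hHle, Subgroup.subgroupOf_self]
  have hc : Subgroup.IsComplement' M H' := by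
    refine Subgroup.isComplement'_of_disjoint_and_mul_eq_univ hd' ?_
    rw [← Subgroup.normal_mul, hsup, Subgroup.coe_top]
  have hfc : Cfsg.IsFrobeniusComplement H' := by
    refine Cfsg.Agent.FrobeniusBasic.isFrobeniusComplement_of_fpf hc ?_ ?_ ?_
    · rw [Ne, Subgroup.subgroupOf_eq_bot]
      exact fun h => hN1 (le_bot_iff.1 (h le_rfl hNle))
    · rw [Ne, Subgroup.subgroupOf_eq_bot]
      exact fun h => hH (le_bot_iff.1 (h le_rfl hHle))
    · intro h hh h1
      rw [Subgroup.eq_bot_iff_forall]
      intro n hn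
      have hhN : (h : G) ∉ N := fun e => h1 (Subtype.ext (Subgroup.disjoint_def.1 hd e hh))
      have ho := heq h hhN n hn.1
      have hcomm : Commute (h : G) (n : G) :=
        congrArg Subtype.val (Subgroup.mem_centralizer_iff.1 hn.2 h rfl)
      have hco : (orderOf (h : G)).Coprime (orderOf (n : G)) :=
        Nat.Coprime.coprime_dvd_right (Subgroup.orderOf_dvd_natCard N hn.1)
          (Nat.Coprime.coprime_dvd_left (Subgroup.orderOf_dvd_natCard H hh) hcopN.symm)
      rw [hcomm.orderOf_mul_eq_mul_orderOf_of_coprime hco,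
        Nat.mul_eq_left (orderOf_pos (h : G)).ne', orderOf_eq_one_iff] at ho
      exact Subtype.ext ho
  exact ⟨hfc, Cfsg.Agent.FrobeniusBasic.frobeniusKernel_eq hfc hc⟩

end Cfsg.Agent.S4108
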