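import Cfsg.Statements.S4112
import Mathlib
import Cfsg.Agent.Lib.H74Basic

set_option autoImplicit false
open Cfsg

namespace Cfsg.Agent.S4112

/-- Let G be a finite group and M ≤ N non-trivial proper normal subgroups such that for every g outside N the conjugacy class of g is a union of cosets of M (equivalently gm is conjugate to g for every m ∈ M). Then (1) and (2) below are equivalent, and they imply (3): (1) every g outside N acts fixed-point-freely on M, that is C_G(x) ≤ N for every x ∈ M, x ≠ 1; (2) the index of N in G is coprime to the order of M; (3) there is a subgroup H of G with HN = G and H ∩ M = 1. -/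
theorem result {G : Type*} [Group G] [Finite G] (N M : Subgroup G) [N.Normal] [M.Normal] (hMN : M ≤ N) (hM1 : M ≠ ⊥) (hN2 : N ≠ ⊤)
    (hcam : ∀ g : G, g ∉ N → ∀ m ∈ M, ∃ x : G, x * g * x⁻¹ = g * m) :
    ((∀ x ∈ M, x ≠ 1 → Subgroup.centralizer ({x} : Set G) ≤ N) ↔ N.index.Coprime (Nat.card M)) ∧
    ((∀ x ∈ M, x ≠ 1 → Subgroup.centralizer ({x} : Set G) ≤ N) → ∃ H : Subgroup G, H ⊔ N = ⊤ ∧ H ⊓ M = ⊥) := by
  classical
  have h21 : N.index.Coprime (Nat.card M) →
      ∀ x ∈ M, x ≠ 1 → Subgroup.centralizer ({x} : Set G) ≤ N := by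
    intro hcop x hx hx1 g hg
    by_contra hgN
    obtain ⟨s, k, m, hs, ho, hgm, hsi⟩ := Cfsg.Agent.H74Basic.exists_primePart_notMem hgN
    obtain ⟨r, hr, hrd⟩ := Nat.exists_prime_and_dvd (fun h => hx1 (orderOf_eq_one_iff.1 h) : orderOf x ≠ 1)
    have hy : orderOf (x ^ (orderOf x / r)) = r := orderOf_pow_orderOf_div (orderOf_pos x).ne' hrd
    have hyM : x ^ (orderOf x / r) ∈ M := M.pow_mem hx _
    have hrM : r ∣ Nat.card M := hrd.trans (Subgroup.orderOf_dvd_natCard M hx)
    have hne : s ≠ r := fun h => hs.not_dvd_one (hcop.gcd_eq_one ▸ Nat.dvd_gcd hsi (h ▸ hrM))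
    have hc : Commute (g ^ m) (x ^ (orderOf x / r)) :=
      ((Subgroup.mem_centralizer_singleton_iff.1 hg : g * x = x * g)).symm.symm |> fun h => (Commute.pow_pow h _ _)
    obtain ⟨y, hy'⟩ := hcam _ hgm _ hyM
    have hcp : (orderOf (g ^ m)).Coprime (orderOf (x ^ (orderOf x / r))) := by
      rw [ho, hy]; exact ((Nat.coprime_primes hs hr).2 hne).pow_left k
    have h1 : orderOf (g ^ m * x ^ (orderOf x / r)) = orderOf (g ^ m) := by
      rw [← hy', ← MulAut.conj_apply, MulEquiv.orderOf_eq]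
    rw [hc.orderOf_mul_eq_mul_orderOf_of_coprime hcp, hy, ho] at h1
    exact hr.ne_one (Nat.eq_of_mul_eq_mul_left (pow_pos hs.pos k) (h1.trans (mul_one _).symm))
  have h12 : (∀ x ∈ M, x ≠ 1 → Subgroup.centralizer ({x} : Set G) ≤ N) →
      N.index.Coprime (Nat.card M) := by
    intro h
    refine Nat.coprime_of_dvd fun p hp hpi hpM => ?_
    haveI := Fact.mk hp
    obtain ⟨P⟩ : Nonempty (Sylow p G) := inferInstance
    obtain ⟨x, hx, hx1, hfix⟩ := Cfsg.Agent.H74Basic.exists_fixed_ne_one (M := M) P.isPGroup' hpM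
    apply P.not_dvd_index
    refine hpi.trans (Subgroup.index_dvd_of_le fun r hr => h x hx hx1 ?_)
    rw [Subgroup.mem_centralizer_singleton_iff]
    exact hfix r hr
  refine ⟨⟨h12, h21⟩, fun h => ?_⟩
  have hcop := h12 h
  obtain ⟨H, hH, hmin⟩ := (Set.toFinite {H : Subgroup G | H ⊔ N = ⊤}).exists_minimal ⟨⊤, top_sup_eq _⟩
  refine ⟨H, hH, ?_⟩
  by_contra hne
  obtain ⟨r, hr, hrd⟩ := Nat.exists_prime_and_dvd (fun hc => hne (Subgroup.card_eq_one.1 hc))
  haveI := Fact.mk hr
  have hri : ¬ r ∣ N.index := fun hc =>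
    hr.not_dvd_one (hcop.gcd_eq_one ▸ Nat.dvd_gcd hc (hrd.trans (Subgroup.card_dvd_of_le inf_le_right)))
  obtain ⟨R⟩ : Nonempty (Sylow r H) := inferInstance
  have hRN : (R : Subgroup H) ≤ N.subgroupOf H := by
    intro x hx
    rw [Subgroup.mem_subgroupOf, ← QuotientGroup.eq_one_iff, ← orderOf_eq_one_iff]
    obtain ⟨k, hk⟩ := IsPGroup.iff_orderOf.1 R.isPGroup' ⟨x, hx⟩
    rw [← Subgroup.orderOf_coe] at hk
    have h1 : orderOf ((x : G) : G ⧸ N) ∣ r ^ k := by
      rw [← hk, ← Subgroup.orderOf_coe]; exact orderOf_map_dvd (QuotientGroup.mk' N) _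
    have h2 : orderOf ((x : G) : G ⧸ N) ∣ N.index := by
      rw [Subgroup.index_eq_card]; exact orderOf_dvd_natCard _
    exact Nat.eq_one_of_dvd_coprimes ((hr.coprime_iff_not_dvd.2 hri).pow_left k) h1 h2
  have hfr := congrArg (Subgroup.map H.subtype) (Sylow.normalizer_sup_eq_top' R hRN)
  rw [Subgroup.map_sup, ← MonoidHom.range_eq_map, H.range_subtype, Subgroup.subgroupOf_map_subtype] at hfr
  set T := (Subgroup.normalizer ((R : Subgroup H) : Set H)).map H.subtype with hT
  have hTN : T ⊔ N = ⊤ := by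
    refine top_le_iff.1 (hH ▸ sup_le ?_ le_sup_right)
    calc H = T ⊔ N ⊓ H := hfr.symm
      _ ≤ T ⊔ N := sup_le_sup_left inf_le_left _
  have hnorm : (R : Subgroup H).Normal := by
    rw [← Subgroup.normalizer_eq_top_iff]
    refine top_le_iff.1 fun x _ => ?_
    obtain ⟨y, hy, hyx⟩ := hmin hTN (Subgroup.map_subtype_le _) x.2
    exact Subtype.ext hyx ▸ hy
  obtain ⟨C, hC⟩ := Subgroup.exists_right_complement'_of_coprime (N := (R : Subgroup H)) R.card_coprime_index
  have hCN : C.map H.subtype ⊔ N = ⊤ := by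
    refine top_le_iff.1 (hH ▸ sup_le ?_ le_sup_right)
    have := congrArg (Subgroup.map H.subtype) hC.sup_eq_top
    rw [Subgroup.map_sup, ← MonoidHom.range_eq_map, H.range_subtype] at this
    refine this.ge.trans ?_
    refine sup_le (le_trans ?_ le_sup_right) le_sup_left
    rintro _ ⟨y, hy, rfl⟩
    exact hRN hy
  have hCtop : C = ⊤ := by
    refine top_le_iff.1 fun x _ => ?_
    obtain ⟨y, hy, hyx⟩ := hmin hCN (Subgroup.map_subtype_le _) x.2
    exact Subtype.ext hyx ▸ hy
  have hRbot : (R : Subgroup H) = ⊥ := by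
    subst hCtop
    exact Subgroup.isComplement'_top_right.1 hC
  exact R.ne_bot_of_dvd_card (hrd.trans (Subgroup.card_dvd_of_le inf_le_left)) hRbot

end Cfsg.Agent.S4112
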