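import Cfsg.Statements.S4113
import Mathlib
import Cfsg.Agent.Lib.H74Basic

set_option autoImplicit false
open Cfsg

namespace Cfsg.Agent.S4113

/-- Let G be a finite group, M ≤ N non-trivial proper normal subgroups, and H a subgroup with HM = G and H ∩ M = 1. Then every element of G outside N acts fixed-point-freely on M (C_G(x) ≤ N for every x ∈ M, x ≠ 1) if and only if H ∩ gHg⁻¹ ≤ H ∩ N for every g outside H, with H proper and non-trivial and H ∩ N proper in H. -/
theorem result {G : Type*} [Group G] [Finite G] (N M : Subgroup G) [N.Normal] [M.Normal] (hMN : M ≤ N) (hM1 : M ≠ ⊥) (hN2 : N ≠ ⊤)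
    (H : Subgroup G) (hHM : H ⊔ M = ⊤) (hHM' : H ⊓ M = ⊥) :
    (∀ x ∈ M, x ≠ 1 → Subgroup.centralizer ({x} : Set G) ≤ N) ↔
      (H ≠ ⊥ ∧ H ≠ ⊤ ∧ H ⊓ N < H ∧ ∀ g : G, g ∉ H → H ⊓ H.map (MulAut.conj g).toMonoidHom ≤ N) := by
  classical
  haveI := ‹M.Normal›
  constructor
  · intro h
    refine ⟨?_, ?_, ?_, fun g hg x hx => ?_⟩
    · rintro rfl
      rw [bot_sup_eq] at hHM
      exact hN2 (top_le_iff.1 (hHM ▸ hMN))
    · rintro rfl
      rw [top_inf_eq] at hHM'
      exact hM1 hHM'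
    · refine lt_of_le_of_ne inf_le_left fun he => hN2 (top_le_iff.1 (hHM ▸ sup_le (inf_eq_left.1 he) hMN))
    · obtain ⟨hxH, y, hy, hyx⟩ := hx
      have hgmem : g ∈ H ⊔ M := hHM ▸ Subgroup.mem_top g
      rw [sup_comm, ← SetLike.mem_coe, Subgroup.normal_mul] at hgmem
      obtain ⟨m, hm, h', hh', rfl⟩ := hgmem
      have hm1 : m ≠ 1 := fun hm1 => hg (by subst hm1; simpa using hh')
      have hyx' : m * h' * y * (m * h')⁻¹ = x := hyx
      set z := h' * y * h'⁻¹ with hz
      have hzH : z ∈ H := H.mul_mem (H.mul_mem hh' hy) (H.inv_mem hh')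
      have hxz : m * z * m⁻¹ = x := by rw [← hyx', hz]; group
      have hxzM : x * z⁻¹ ∈ M := by
        rw [← hxz, show m * z * m⁻¹ * z⁻¹ = m * (z * m⁻¹ * z⁻¹) by group]
        exact M.mul_mem hm (‹M.Normal›.conj_mem _ (M.inv_mem hm) z)
      have heq : x * z⁻¹ = 1 := Subgroup.mem_bot.1 (hHM' ▸ ⟨H.mul_mem hxH (H.inv_mem hzH), hxzM⟩)
      rw [mul_inv_eq_one] at heq
      refine h m hm hm1 ?_
      rw [Subgroup.mem_centralizer_singleton_iff]
      rw [← heq] at hxz
      exact (mul_inv_eq_iff_eq_mul.1 hxz).symm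
  · rintro ⟨-, -, -, hti⟩ x hx hx1 g hg
    by_contra hgN
    obtain ⟨s, k, m, hs, ho, hgm, hsi⟩ := Cfsg.Agent.H74Basic.exists_primePart_notMem hgN
    haveI := Fact.mk hs
    have hcompl : Subgroup.IsComplement' M H := by
      refine Subgroup.isComplement'_of_disjoint_and_mul_eq_univ (disjoint_iff.2 (by rw [inf_comm]; exact hHM')) ?_
      rw [← Subgroup.normal_mul, sup_comm, hHM, Subgroup.coe_top]
    obtain ⟨R⟩ : Nonempty (Sylow s H) := inferInstance
    set R' := (R : Subgroup H).map H.subtype with hR'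
    have hR'p : IsPGroup s R' := R.isPGroup'.map _
    have hR'N : ¬ R' ≤ N := by
      intro hle
      apply R.not_dvd_index
      refine Dvd.dvd.trans ?_ (Subgroup.index_dvd_of_le (Subgroup.map_le_iff_le_comap.1 hle : (R : Subgroup H) ≤ N.subgroupOf H))
      have : (N.subgroupOf H).index = N.index := by
        rw [← Subgroup.relIndex]
        rw [← Subgroup.relIndex_sup_right, show H ⊔ N = ⊤ from top_le_iff.1 (hHM ▸ sup_le le_sup_left (hMN.trans le_sup_right)), Subgroup.relIndex_top_right]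
      show s ∣ (N.subgroupOf H).index
      rwa [this]
    have hnoFix : ∀ y ∈ M, y ≠ 1 → ∀ r ∈ H, r * y = y * r → r ∈ N := by
      intro y hy hy1 r hr hc
      have hyH : y ∉ H := fun hyH => hy1 (Subgroup.mem_bot.1 (hHM' ▸ ⟨hyH, hy⟩))
      refine hti y hyH ⟨hr, r, hr, ?_⟩
      show y * r * y⁻¹ = r
      rw [← hc, mul_inv_cancel_right]
    have hsM : ¬ s ∣ Nat.card M := by
      intro hd
      obtain ⟨y, hy, hy1, hfix⟩ := Cfsg.Agent.H74Basic.exists_fixed_ne_one (M := M) hR'p hd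
      exact hR'N fun r hr => hnoFix y hy hy1 r (Subgroup.map_subtype_le _ hr) (hfix r hr)
    have hndvd : ¬ s ∣ R'.index := by
      rw [hR', Subgroup.index_map_subtype]
      intro hd
      rcases hs.dvd_mul.1 hd with h | h
      · exact R.not_dvd_index h
      · rw [hcompl.index_eq_card] at h
        exact hsM h
    let P : Sylow s G := hR'p.toSylow hndvd
    have hpg : IsPGroup s (Subgroup.zpowers (g ^ m)) := IsPGroup.of_card (n := k) (by rw [Nat.card_zpowers, ho])
    obtain ⟨Q, hQ⟩ := hpg.exists_le_sylow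
    obtain ⟨c, rfl⟩ := MulAction.exists_smul_eq G P Q
    have hmem := hQ (Subgroup.mem_zpowers (g ^ m))
    rw [Sylow.coe_subgroup_smul, Subgroup.mem_pointwise_smul_iff_inv_smul_mem] at hmem
    simp only [MulAut.smul_def, ← map_inv, MulAut.conj_apply] at hmem
    have hh : c⁻¹ * g ^ m * c⁻¹⁻¹ ∈ H := Subgroup.map_subtype_le _ hmem
    have hy : c⁻¹ * x * c⁻¹⁻¹ ∈ M := ‹M.Normal›.conj_mem _ hx _
    have hy1 : c⁻¹ * x * c⁻¹⁻¹ ≠ 1 := fun h => hx1 (conj_eq_one_iff.1 h)
    have hc : Commute (g ^ m) x := Commute.pow_left (Subgroup.mem_centralizer_singleton_iff.1 hg) m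
    have := hnoFix _ hy hy1 _ hh (((Commute.conj_iff c⁻¹).2 hc)).eq
    exact hgm (by simpa [mul_assoc] using ‹N.Normal›.conj_mem _ this c)

end Cfsg.Agent.S4113
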