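import Cfsg.Statements.S4115
import Cfsg.Agent.Lib.TIHallComplement

set_option autoImplicit false
universe u
open Cfsg

namespace Cfsg.Agent.S4115

/-- Let G be a finite group and H a subgroup that meets each of its conjugates by elements outside N_G(H) trivially and whose order is coprime to its index in N_G(H). Then H has a normal complement in N_G(H) if and only if H has a normal complement in G. Moreover, if H is not normal in G and has a normal complement in N_G(H), then H is isomorphic to a Frobenius complement of some finite Frobenius group. -/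
theorem result {G : Type u} [Group G] [Finite G] (H : Subgroup G)
    (hTI : Cfsg.IsTISubset (H : Set G)) (hHall : (Nat.card H).Coprime (H.subgroupOf (Subgroup.normalizer (H : Set G))).index) :
    ((∃ K : Subgroup (Subgroup.normalizer (H : Set G)), K.Normal ∧ K.IsComplement' (H.subgroupOf (Subgroup.normalizer (H : Set G)))) ↔
      (∃ N : Subgroup G, N.Normal ∧ N.IsComplement' H)) ∧
    (¬ H.Normal → (∃ K : Subgroup (Subgroup.normalizer (H : Set G)), K.Normal ∧ K.IsComplement' (H.subgroupOf (Subgroup.normalizer (H : Set G)))) →
      ∃ (F : Type u) (_ : Group F) (_ : Finite F) (C : Subgroup F), Cfsg.IsFrobeniusComplement C ∧ Nonempty (H ≃* C)) := by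
  constructor
  · constructor
    · rintro ⟨K, hKn, hK⟩
      obtain ⟨N₀, h1, h2, -⟩ := TIHallComplement.exists_normal_complement hTI hHall hK
      exact ⟨N₀, h1, h2⟩
    · rintro ⟨N₀, hn, hc⟩
      refine ⟨N₀.subgroupOf _, inferInstance, Subgroup.isComplement'_of_disjoint_and_mul_eq_univ ?_ ?_⟩
      · rw [Subgroup.disjoint_def]
        intro x hx1 hx2
        exact Subtype.ext (Subgroup.disjoint_def.mp hc.disjoint hx1 hx2)
      · rw [Set.eq_univ_iff_forall]
        intro x
        obtain ⟨⟨⟨a, ha⟩, ⟨b, hb⟩⟩, e⟩ := hc.2 (x : G)
        simp only at e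
        have haN : a ∈ Subgroup.normalizer (H : Set G) := by
          rw [show a = (x : G) * b⁻¹ by rw [← e]; group]
          exact mul_mem x.2 (inv_mem (Subgroup.le_normalizer hb))
        exact Set.mem_mul.mpr ⟨⟨a, haN⟩, ha, ⟨b, Subgroup.le_normalizer hb⟩, hb, Subtype.ext e⟩
  · intro hn hK
    obtain ⟨K, hKn, hK⟩ := hK
    exact TIHallComplement.exists_frobenius hTI hHall hK hn

end Cfsg.Agent.S4115
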