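import Cfsg.Statements.S4116
import Mathlib
import Cfsg.Agent.Lib.FrobeniusBasic

set_option autoImplicit false
open Cfsg

namespace Cfsg.Agent.S4116

open Cfsg.Agent.FrobeniusBasic
open scoped Pointwise

variable {G : Type*} [Group G] [Finite G] {H : Subgroup G}

theorem mem_normalizer_of_conj (hTI : Cfsg.IsTISubset (H : Set G)) {g y : G} (hy : y ∈ H)
    (hy1 : y ≠ 1) (hc : g⁻¹ * y * g ∈ H) : g ∈ Subgroup.normalizer (H : Set G) := by
  by_contra hg
  refine hy1 (hTI g⁻¹ (fun h => hg ?_) y hy ?_)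
  · simpa using (Subgroup.normalizer (H : Set G)).inv_mem h
  · simpa using hc

theorem mem_of_normalizer (hHall : (Nat.card H).Coprime H.index) {g : G}
    (hg : g ∈ Subgroup.normalizer (H : Set G))
    (hπ : ∀ q : ℕ, q.Prime → q ∣ orderOf g → q ∣ Nat.card H) : g ∈ H := by
  set H' := H.subgroupOf (Subgroup.normalizer (H : Set G)) with hH'
  haveI : H'.Normal := Subgroup.normal_in_normalizer
  by_contra hgH
  have hne : orderOf ((⟨g, hg⟩ : Subgroup.normalizer (H : Set G)) : _ ⧸ H') ≠ 1 := fun h =>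
    hgH (Subgroup.mem_subgroupOf.1 ((QuotientGroup.eq_one_iff _).1 (orderOf_eq_one_iff.1 h)))
  obtain ⟨q, hq, hqd⟩ := Nat.exists_prime_and_dvd hne
  have h1 : q ∣ orderOf g := by
    rw [← Subgroup.orderOf_mk g hg]
    exact hqd.trans (orderOf_map_dvd (QuotientGroup.mk' H') _)
  have h2 : q ∣ H.index := by
    refine (hqd.trans ?_).trans (Subgroup.relIndex_dvd_index_of_le (K := Subgroup.normalizer (H : Set G)) Subgroup.le_normalizer)
    rw [Subgroup.relIndex, Subgroup.index_eq_card]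
    exact orderOf_dvd_natCard _
  exact hq.not_dvd_one (hHall.gcd_eq_one ▸ Nat.dvd_gcd (hπ q hq h1) h2)

theorem exists_conj_mem (hHall : (Nat.card H).Coprime H.index) (hTI : Cfsg.IsTISubset (H : Set G))
    {x : G} (hπ : ∀ q : ℕ, q.Prime → q ∣ orderOf x → q ∣ Nat.card H) : ∃ c : G, c⁻¹ * x * c ∈ H := by
  by_cases hx : x = 1
  · exact ⟨1, by simp [hx]⟩
  obtain ⟨q, hq, hqd⟩ := Nat.exists_prime_and_dvd (fun h => hx (orderOf_eq_one_iff.1 h))
  haveI := Fact.mk hq
  set y := x ^ (orderOf x / q) with hy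
  have hyo : orderOf y = q := orderOf_pow_orderOf_div (orderOf_pos x).ne' hqd
  obtain ⟨Q⟩ : Nonempty (Sylow q H) := inferInstance
  have hndvd : ¬ q ∣ ((Q : Subgroup H).map H.subtype).index := by
    rw [Subgroup.index_map_subtype]
    intro hd
    rcases hq.dvd_mul.1 hd with h | h
    · exact Q.not_dvd_index h
    · exact hq.not_dvd_one (hHall.gcd_eq_one ▸ Nat.dvd_gcd (hπ q hq hqd) h)
  let P : Sylow q G := (Q.isPGroup'.map _).toSylow hndvd
  have hyp : IsPGroup q (Subgroup.zpowers y) := IsPGroup.of_card (n := 1) (by rw [Nat.card_zpowers, hyo, pow_one])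
  obtain ⟨R, hR⟩ := hyp.exists_le_sylow
  obtain ⟨c, rfl⟩ := MulAction.exists_smul_eq G P R
  have hmem := hR (Subgroup.mem_zpowers y)
  rw [Sylow.coe_subgroup_smul, mem_conj_smul_iff] at hmem
  have hmemH : c⁻¹ * y * c ∈ H := Subgroup.map_subtype_le _ hmem
  have ho : ∀ z : G, orderOf (c⁻¹ * z * c) = orderOf z := fun z => by
    simpa using MulEquiv.orderOf_eq (MulAut.conj c⁻¹) z
  refine ⟨c, mem_of_normalizer hHall (mem_normalizer_of_conj hTI hmemH ?_ ?_) (fun r hr hrd => hπ r hr (ho x ▸ hrd))⟩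
  · intro h
    have := ho y
    rw [h, orderOf_one, hyo] at this
    exact hq.ne_one this.symm
  · have hcomm : x⁻¹ * y * x = y := by
      rw [hy, mul_assoc, ((Commute.refl x).pow_left _).eq, inv_mul_cancel_left]
    have : (c⁻¹ * x * c)⁻¹ * (c⁻¹ * y * c) * (c⁻¹ * x * c) = c⁻¹ * (x⁻¹ * y * x) * c := by group
    rw [this, hcomm]
    exact hmemH

theorem exists_le_conj (hHall : (Nat.card H).Coprime H.index) (hTI : Cfsg.IsTISubset (H : Set G))
    (L : Subgroup G) (hL : ∀ q : ℕ, q.Prime → q ∣ Nat.card L → q ∣ Nat.card H) :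
    ∃ g : G, L ≤ MulAut.conj g • H := by
  classical
  have hconj : ∀ x ∈ L, ∃ c : G, c⁻¹ * x * c ∈ H := fun x hx =>
    exists_conj_mem hHall hTI fun q hq hqd => hL q hq (hqd.trans (Subgroup.orderOf_dvd_natCard L hx))
  rcases L.bot_or_exists_ne_one with rfl | ⟨x₀, hx₀, hx₀1⟩
  · exact ⟨1, bot_le⟩
  obtain ⟨a, ha⟩ := hconj x₀ hx₀
  by_contra hne
  push Not at hne
  set E : G → Subgroup L := fun g => (MulAut.conj g • H).subgroupOf L with hEdef
  have hmemE : ∀ (g : G) (x : L), x ∈ E g ↔ g⁻¹ * (x : G) * g ∈ H := fun g x => by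
    simp [E, Subgroup.mem_subgroupOf, mem_conj_smul_iff]
  have hfc : ∀ g, E g ≠ ⊥ → Cfsg.IsFrobeniusComplement (E g) := by
    intro g hg
    refine isFrobeniusComplement_of_ti hg ?_ ?_
    · exact fun h => hne g (Subgroup.subgroupOf_eq_top.1 h)
    · intro l x hx hx1 hc
      rw [hmemE] at hx hc ⊢
      push_cast at hc
      refine mem_of_normalizer hHall (mem_normalizer_of_conj hTI hx ?_ ?_) fun q hq hqd => hL q hq ?_
      · intro h
        apply hx1
        apply Subtype.ext
        calc (x : G) = g * (g⁻¹ * x * g) * g⁻¹ := by group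
          _ = ((1 : L) : G) := by rw [h]; simp
      · have : (g⁻¹ * l * g)⁻¹ * (g⁻¹ * x * g) * (g⁻¹ * l * g) = g⁻¹ * ((l : G)⁻¹ * x * l) * g := by group
        rwa [this]
      · have e : orderOf (g⁻¹ * (l : G) * g) = orderOf (l : G) := by
          simpa using MulEquiv.orderOf_eq (MulAut.conj g⁻¹) (l : G)
        exact (e ▸ hqd).trans (Subgroup.orderOf_dvd_natCard L l.2)
  have hEa : E a ≠ ⊥ := by
    intro h
    have := (hmemE a ⟨x₀, hx₀⟩).2 ha
    rw [h, Subgroup.mem_bot] at this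
    exact hx₀1 (congrArg Subtype.val this)
  have hha := card_conjClosure_add (hfc a hEa)
  have h2a := two_mul_index_le hEa
  have hlt : (conjClosure (E a)).ncard + 1 < Nat.card L := by
    have h1 : 1 < (E a).index := Subgroup.one_lt_index_of_ne_top (hfc a hEa).2.1
    omega
  have hex : ∃ x : L, x ≠ 1 ∧ x ∉ conjClosure (E a) := by
    by_contra h
    push Not at h
    have hsub : ((Set.univ : Set L) \ {1}) ⊆ conjClosure (E a) := fun x hx => h x hx.2
    have := Set.ncard_le_ncard hsub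
    rw [Set.ncard_sdiff_singleton_of_mem (Set.mem_univ 1), Set.ncard_univ] at this
    omega
  obtain ⟨x₁, hx₁1, hx₁⟩ := hex
  obtain ⟨b, hb⟩ := hconj x₁ x₁.2
  have hEb : E b ≠ ⊥ := by
    intro h
    have := (hmemE b x₁).2 hb
    rw [h, Subgroup.mem_bot] at this
    exact hx₁1 this
  have hhb := card_conjClosure_add (hfc b hEb)
  have h2b := two_mul_index_le hEb
  have hdisj : Disjoint (conjClosure (E a)) (conjClosure (E b)) := by
    rw [Set.disjoint_left]
    rintro y ⟨hy1, l, hl⟩ ⟨-, m, hm⟩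
    rw [hmemE] at hl hm
    push_cast at hl hm
    have hy1' : (y : G) ≠ 1 := fun h => hy1 (Subtype.ext h)
    have hl1 : a⁻¹ * ((l : G)⁻¹ * y * l) * a ≠ 1 := by
      intro h
      apply hy1'
      have : (y : G) = (l * a) * (a⁻¹ * ((l : G)⁻¹ * y * l) * a) * (l * a)⁻¹ := by group
      rw [this, h]; group
    have hmem : ((l : G) * a)⁻¹ * (m * b) ∈ Subgroup.normalizer (H : Set G) := by
      refine mem_normalizer_of_conj hTI hl hl1 ?_
      have : (((l : G) * a)⁻¹ * (m * b))⁻¹ * (a⁻¹ * ((l : G)⁻¹ * y * l) * a) *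
          (((l : G) * a)⁻¹ * (m * b)) = b⁻¹ * ((m : G)⁻¹ * y * m) * b := by group
      rwa [this]
    apply hx₁
    refine ⟨hx₁1, m⁻¹ * l, (hmemE _ _).2 ?_⟩
    push_cast
    set k := ((l : G) * a)⁻¹ * (m * b) with hk
    have : a⁻¹ * (((m : G)⁻¹ * l)⁻¹ * x₁ * ((m : G)⁻¹ * l)) * a = k * (b⁻¹ * x₁ * b) * k⁻¹ := by
      rw [hk]; group
    rw [this]
    exact (Subgroup.mem_normalizer_iff.1 hmem _).1 hb
  have hle : (conjClosure (E a) ∪ conjClosure (E b)).ncard ≤ ((Set.univ : Set L) \ {1}).ncard :=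
    Set.ncard_le_ncard fun y hy => ⟨trivial, hy.elim (·.1) (·.1)⟩
  rw [Set.ncard_union_eq hdisj, Set.ncard_sdiff_singleton_of_mem (Set.mem_univ 1),
    Set.ncard_univ] at hle
  omega

/-- Let G be a finite group with a subgroup H whose order is coprime to its index (a Hall subgroup) and which meets each of its conjugates by elements outside N_G(H) trivially. Then every subgroup of G whose order is divisible only by primes dividing the order of H lies in a conjugate of H. -/
theorem result {G : Type*} [Group G] [Finite G] (H : Subgroup G)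
    (hHall : (Nat.card H).Coprime H.index) (hTI : Cfsg.IsTISubset (H : Set G))
    (K : Subgroup G) (hK : ∀ q : ℕ, q.Prime → q ∣ Nat.card K → q ∣ Nat.card H) :
    ∃ g : G, K ≤ H.map (MulAut.conj g).toMonoidHom := by
  exact exists_le_conj hHall hTI K hK

end Cfsg.Agent.S4116
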