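import Cfsg.Statements.S4117
import Mathlib
import Cfsg.Agent.Lib.CoprimeActionAut

set_option autoImplicit false
open Cfsg

namespace Cfsg.Agent.S4117

/-- In a cyclic group any automorphism commutes with any other. -/
theorem mulAut_cyclic_comm {N : Type*} [Group N] [IsCyclic N] (f g : MulAut N) (x : N) :
    f (g x) = g (f x) := by
  obtain ⟨c, hc⟩ := IsCyclic.exists_generator (α := N)
  obtain ⟨i, hi⟩ := Subgroup.mem_zpowers_iff.1 (hc (g c))
  obtain ⟨j, hj⟩ := Subgroup.mem_zpowers_iff.1 (hc (f c))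
  obtain ⟨k, rfl⟩ := Subgroup.mem_zpowers_iff.1 (hc x)
  rw [map_zpow, map_zpow, map_zpow, map_zpow, ← hi, ← hj, map_zpow, map_zpow, ← hi, ← hj]
  simp only [← zpow_mul]; ring_nf

variable {K A : Type*} [Group K] [Finite K] [Group A] [Finite A]

theorem derived_le_center [IsZGroup K] (φ : A →* MulAut K)
    (hgen : Subgroup.closure {y : K | ∃ (a : A) (k : K), y = k⁻¹ * φ a k} = ⊤) :
    commutator K ≤ Subgroup.center K := by
  haveI := IsZGroup.isCyclic_commutator (G := K)
  have hinv : ∀ a : A, ∀ x : K, x ∈ commutator K → φ a x ∈ commutator K := fun a x hx => by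
    have := (inferInstance : (commutator K).Characteristic).fixed (φ a)
    exact (SetLike.ext_iff.1 this x).2 hx
  set Z := Subgroup.centralizer (commutator K : Set K) with hZ
  have : Z = ⊤ := by
    rw [eq_top_iff, ← hgen, Subgroup.closure_le]
    rintro _ ⟨a, k, rfl⟩
    rw [hZ, SetLike.mem_coe, Subgroup.mem_centralizer_iff]
    intro x hx
    let cj : ∀ g : K, MulAut (commutator K) := fun g => MulAut.conjNormal g
    let fa : MulAut (commutator K) :=
      { toFun := fun z => ⟨φ a z, hinv a z z.2⟩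
        invFun := fun z => ⟨(φ a).symm z, by
          have := hinv a⁻¹ z z.2
          rwa [map_inv] at this⟩
        left_inv := fun z => Subtype.ext ((φ a).symm_apply_apply _)
        right_inv := fun z => Subtype.ext ((φ a).apply_symm_apply _)
        map_mul' := fun z w => Subtype.ext (map_mul (φ a) _ _) }
    have hcomm := congrArg Subtype.val (mulAut_cyclic_comm fa (cj k) ⟨(φ a).symm x, by
      have := hinv a⁻¹ x hx
      rwa [map_inv] at this⟩)
    have h1 : φ a (k * (φ a).symm x * k⁻¹) = k * φ a ((φ a).symm x) * k⁻¹ := hcomm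
    rw [map_mul, map_mul, map_inv, (φ a).apply_symm_apply] at h1
    calc x * (k⁻¹ * φ a k) = k⁻¹ * (k * x * k⁻¹) * φ a k := by group
      _ = k⁻¹ * (φ a k * x * (φ a k)⁻¹) * φ a k := by rw [h1]
      _ = k⁻¹ * φ a k * x := by group
  intro x hx
  rw [Subgroup.mem_center_iff]
  intro g
  exact (Subgroup.mem_centralizer_iff.1 (this ▸ Subgroup.mem_top g : g ∈ Z) x hx).symm

theorem isCyclic_of_gen [IsZGroup K] (φ : A →* MulAut K)
    (hgen : Subgroup.closure {y : K | ∃ (a : A) (k : K), y = k⁻¹ * φ a k} = ⊤) : IsCyclic K := by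
  have h := derived_le_center φ hgen
  haveI : IsMulCommutative (K ⧸ Subgroup.center K) := by
    refine ⟨⟨fun a b => ?_⟩⟩
    obtain ⟨a, rfl⟩ := QuotientGroup.mk_surjective a
    obtain ⟨b, rfl⟩ := QuotientGroup.mk_surjective b
    rw [← QuotientGroup.mk_mul, ← QuotientGroup.mk_mul, QuotientGroup.eq]
    apply h
    have : (a * b)⁻¹ * (b * a) = b⁻¹ * a⁻¹ * b⁻¹⁻¹ * a⁻¹⁻¹ := by group
    rw [this]
    exact Subgroup.commutator_mem_commutator (Subgroup.mem_top _) (Subgroup.mem_top _)
  haveI : Group.IsNilpotent (K ⧸ Subgroup.center K) := by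
    letI : CommGroup (K ⧸ Subgroup.center K) := { mul_comm := fun a b => mul_comm' a b }
    exact CommGroup.isNilpotent
  haveI : Group.IsNilpotent K := of_quotient_center_nilpotent inferInstance
  infer_instance

/-- A coprime automorphism of a cyclic `p`-group fixing an element of order `p` is trivial. -/
theorem cyclic_fixed {P : Type*} [Group P] [Finite P] [IsCyclic P] {p : ℕ} [Fact p.Prime]
    (hP : IsPGroup p P) (f : MulAut P) (hf : (Nat.card P).Coprime (orderOf f))
    {y : P} (hy : y ≠ 1) (hfy : f y = y) (x : P) : f x = x := by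
  rcases hP.smul_mul_inv_trivial_or_surjective (K := Subgroup.zpowers f) (by rwa [Nat.card_zpowers]) with h | h
  · exact mul_inv_eq_one.1 (h x ⟨f, Subgroup.mem_zpowers f⟩)
  · exfalso
    letI : CommGroup P := IsCyclic.commGroup
    let ψ : P →* P :=
      { toFun := fun q => f q * q⁻¹
        map_one' := by simp
        map_mul' := fun q r => by rw [map_mul, mul_inv_rev, mul_mul_mul_comm]; simp [mul_comm, mul_left_comm, mul_assoc] }
    have hpow : ∀ i : ℕ, ∀ q : P, (f ^ i) q * q⁻¹ ∈ ψ.range := by
      intro i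
      induction i with
      | zero => intro q; simp
      | succ i ih =>
        intro q
        have e : (f ^ (i + 1)) q * q⁻¹ = ψ ((f ^ i) q) * ((f ^ i) q * q⁻¹) := by
          show _ = f ((f ^ i) q) * ((f ^ i) q)⁻¹ * _
          rw [pow_succ' f, MulAut.mul_apply]
          group
        rw [e]
        exact ψ.range.mul_mem ⟨_, rfl⟩ (ih q)
    have hsurj : Function.Surjective ψ := by
      intro g
      obtain ⟨⟨k, hk⟩, q, hq⟩ := h g
      obtain ⟨i, rfl⟩ := (mem_powers_iff_mem_zpowers (x := f) (y := k)).2 hk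
      exact hq ▸ hpow i q
    have hinj := (Finite.injective_iff_surjective).2 hsurj
    exact hy (hinj (show ψ y = ψ 1 by
      show f y * y⁻¹ = f 1 * 1⁻¹
      rw [hfy, map_one, mul_inv_cancel, inv_one, mul_one]))

theorem fixed_order_p [IsZGroup K] (φ : A →* MulAut K) (hcop : (Nat.card A).Coprime (Nat.card K))
    (hgen : Subgroup.closure {y : K | ∃ (a : A) (k : K), y = k⁻¹ * φ a k} = ⊤)
    {x : K} (hx : x ≠ 1) (hfix : ∀ a, φ a x = x) : False := by
  haveI := isCyclic_of_gen φ hgen
  letI : CommGroup K := IsCyclic.commGroup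
  obtain ⟨p, hp, hpx⟩ := Nat.exists_prime_and_dvd (fun h => hx (orderOf_eq_one_iff.1 h))
  haveI := Fact.mk hp
  obtain ⟨P⟩ : Nonempty (Sylow p K) := inferInstance
  set y := x ^ (orderOf x / p) with hy
  have hyo : orderOf y = p := orderOf_pow_orderOf_div (orderOf_pos x).ne' hpx
  have hyP : y ∈ (P : Subgroup K) := by
    have hpg : IsPGroup p (Subgroup.zpowers y) := IsPGroup.of_card (n := 1) (by rw [Nat.card_zpowers, hyo, pow_one])
    obtain ⟨S, hS⟩ := hpg.exists_le_sylow
    haveI := Sylow.unique_of_normal P inferInstance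
    obtain rfl : S = P := Subsingleton.elim _ _
    exact hS (Subgroup.mem_zpowers y)
  have hinv : ∀ a : A, ∀ z ∈ (P : Subgroup K), φ a z ∈ (P : Subgroup K) := fun a z hz => by
    have := (P.characteristic_of_normal inferInstance).fixed (φ a)
    exact (SetLike.ext_iff.1 this z).2 hz
  have hPfix : ∀ a : A, ∀ z ∈ (P : Subgroup K), φ a z = z := by
    intro a z hz
    let f : MulAut (P : Subgroup K) :=
      { toFun := fun w => ⟨φ a w, hinv a w w.2⟩
        invFun := fun w => ⟨φ a⁻¹ w, hinv a⁻¹ w w.2⟩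
        left_inv := fun w => Subtype.ext (by simp)
        right_inv := fun w => Subtype.ext (by simp)
        map_mul' := fun w v => Subtype.ext (map_mul (φ a) _ _) }
    have hfo : orderOf f ∣ orderOf a := by
      refine orderOf_dvd_of_pow_eq_one ?_
      have hp' : ∀ n : ℕ, ∀ w : (P : Subgroup K), ((f ^ n) w : K) = φ (a ^ n) w := by
        intro n
        induction n with
        | zero => intro w; simp
        | succ n ih =>
          intro w
          rw [pow_succ' f, pow_succ' a, MulAut.mul_apply, map_mul, MulAut.mul_apply, ← ih]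
          rfl
      ext w
      rw [hp', pow_orderOf_eq_one, map_one, MulAut.one_apply, MulAut.one_apply]
    have hc : (Nat.card (P : Subgroup K)).Coprime (orderOf f) :=
      ((hcop.symm.coprime_dvd_left (Subgroup.card_subgroup_dvd_card _)).coprime_dvd_right (orderOf_dvd_natCard a)).coprime_dvd_right hfo
    exact congrArg Subtype.val (cyclic_fixed P.isPGroup' f hc (y := ⟨y, hyP⟩) (fun h => by
      have h1 : y = 1 := congrArg Subtype.val h
      rw [h1, orderOf_one] at hyo
      exact hp.ne_one hyo.symm) (Subtype.ext (by show φ a y = y; rw [hy, map_pow, hfix a])) ⟨z, hz⟩)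
  set m := (P : Subgroup K).index with hm
  have hker : ∀ z : K, z ^ m = 1 := by
    intro z
    have htop : (powMonoidHom m : K →* K).ker = ⊤ := by
      rw [eq_top_iff, ← hgen, Subgroup.closure_le]
      rintro _ ⟨a, k, rfl⟩
      rw [SetLike.mem_coe, MonoidHom.mem_ker, powMonoidHom_apply, mul_pow, inv_pow, ← map_pow,
        hPfix a _ (Subgroup.pow_index_mem (P : Subgroup K) k), inv_mul_cancel]
    exact MonoidHom.mem_ker.1 (htop ▸ Subgroup.mem_top z : z ∈ (powMonoidHom m : K →* K).ker)
  have := orderOf_dvd_of_pow_eq_one (hker y)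
  rw [hyo] at this
  exact P.not_dvd_index this

/-- Let A be a finite group acting on the finite group G by automorphisms with the orders of A and G coprime, and suppose every Sylow subgroup of G is cyclic. Then the fixed-point subgroup C_G(A) is a Hall subgroup of G (its order is coprime to its index), the subgroup [G, A] generated by the elements g⁻¹·a(g) is cyclic and normal with [G, A] ∩ C_G(A) = 1 and [G, A]·C_G(A) = G. -/
theorem result {G A : Type*} [Group G] [Finite G] [Group A] [Finite A]
    [MulDistribMulAction A G] (hcop : (Nat.card A).Coprime (Nat.card G))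
    (hcyc : ∀ (p : ℕ) [Fact p.Prime] (P : Sylow p G), IsCyclic (P : Subgroup G)) :
    (Nat.card (MulAction.fixedPoints A G : Set G)).Coprime (Nat.card G / Nat.card (MulAction.fixedPoints A G : Set G)) ∧
    IsCyclic (Subgroup.closure {y : G | ∃ (a : A) (g : G), y = g⁻¹ * a • g}) ∧
    (Subgroup.closure {y : G | ∃ (a : A) (g : G), y = g⁻¹ * a • g}).Normal ∧
    (Subgroup.closure {y : G | ∃ (a : A) (g : G), y = g⁻¹ * a • g} : Set G) ∩ MulAction.fixedPoints A G = {1} ∧
    Subgroup.closure {y : G | ∃ (a : A) (g : G), y = g⁻¹ * a • g} ⊔ Subgroup.closure (MulAction.fixedPoints A G) = ⊤ := by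
  classical
  haveI hZ : IsZGroup G := (isZGroup_iff G).2 fun p hp P => haveI := Fact.mk hp; hcyc p P
  set φ : A →* MulAut G := MulDistribMulAction.toMulAut A G with hφ
  have happ : ∀ (a : A) (g : G), φ a g = a • g := fun _ _ => rfl
  let C : Subgroup G :=
    { carrier := MulAction.fixedPoints A G
      one_mem' := fun a => smul_one a
      mul_mem' := fun {x y} hx hy a => by rw [smul_mul', hx a, hy a]
      inv_mem' := fun {x} hx a => by rw [smul_inv', hx a] }
  set D : Subgroup G := Subgroup.closure {y : G | ∃ (a : A) (g : G), y = g⁻¹ * a • g} with hD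
  have hu : ∀ (a : A) (g : G), g⁻¹ * a • g ∈ D := fun a g => Subgroup.subset_closure ⟨a, g, rfl⟩
  haveI hDn : D.Normal := by
    rw [← Subgroup.normalizer_eq_top_iff, eq_top_iff]
    intro h _
    suffices H : ∀ h : G, ∀ d ∈ D, h * d * h⁻¹ ∈ D by
      rw [Subgroup.mem_normalizer_iff]
      refine fun d => ⟨H h d, fun hd => ?_⟩
      simpa [mul_assoc] using H h⁻¹ _ hd
    intro h d hd
    induction hd using Subgroup.closure_induction with
    | mem y hy =>
      obtain ⟨a, g, rfl⟩ := hy
      have e : h * (g⁻¹ * a • g) * h⁻¹ = ((g * h⁻¹)⁻¹ * a • (g * h⁻¹)) * (h⁻¹⁻¹ * a • h⁻¹)⁻¹ := by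
        rw [smul_mul']; group
      rw [e]
      exact D.mul_mem (hu _ _) (D.inv_mem (hu _ _))
    | one => simp [D.one_mem]
    | mul a b _ _ iha ihb => rw [conj_mul.symm]; exact D.mul_mem iha ihb
    | inv a _ iha => rw [← conj_inv]; exact D.inv_mem iha
  have hDinv : ∀ (a : A), ∀ d ∈ D, a • d ∈ D := by
    intro a d hd
    have : a • d = d * (d⁻¹ * a • d) := by group
    rw [this]
    exact D.mul_mem hd (hu a d)
  have hsolv : Group.IsSolvable G := inferInstance
  have hmul : ∀ g : G, ∃ c ∈ C, ∃ d ∈ D, g = c * d := by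
    intro g
    obtain ⟨c, hc, hgc⟩ := Cfsg.Agent.CoprimeActionAut.exists_fixed_mem_coset φ hcop (Or.inr hsolv) D
      hDinv g (fun a => hu a g)
    exact ⟨c, hc, (g⁻¹ * c)⁻¹, D.inv_mem hgc, by group⟩
  let ψ : A →* MulAut D :=
    { toFun := fun a =>
        { toFun := fun d => ⟨a • (d : G), hDinv a d d.2⟩
          invFun := fun d => ⟨a⁻¹ • (d : G), hDinv a⁻¹ d d.2⟩
          left_inv := fun d => Subtype.ext (inv_smul_smul a (d : G))
          right_inv := fun d => Subtype.ext (smul_inv_smul a (d : G))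
          map_mul' := fun d e => Subtype.ext (smul_mul' a (d : G) (e : G)) }
      map_one' := by ext d; exact one_smul A (d : G)
      map_mul' := fun a b => by ext d; exact mul_smul a b (d : G) }
  have hgen : Subgroup.closure {y : D | ∃ (a : A) (k : D), y = k⁻¹ * ψ a k} = ⊤ := by
    apply Subgroup.map_injective D.subtype_injective
    rw [MonoidHom.map_closure, ← MonoidHom.range_eq_map, D.range_subtype]
    conv_rhs => rw [hD]
    congr 1
    ext y
    constructor
    · rintro ⟨_, ⟨a, k, rfl⟩, rfl⟩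
      exact ⟨a, k, rfl⟩
    · rintro ⟨a, g, rfl⟩
      obtain ⟨c, hc, d, hd, rfl⟩ := hmul g
      refine ⟨_, ⟨a, ⟨d, hd⟩, rfl⟩, ?_⟩
      show d⁻¹ * a • d = _
      rw [smul_mul', hc a]; group
  have hcopD : (Nat.card A).Coprime (Nat.card D) := hcop.coprime_dvd_right (Subgroup.card_subgroup_dvd_card D)
  have hinter : ∀ x ∈ D, x ∈ C → x = 1 := by
    intro x hxD hxC
    by_contra hne
    exact fixed_order_p ψ hcopD hgen (x := ⟨x, hxD⟩) (fun h => hne (congrArg Subtype.val h))
      (fun a => Subtype.ext (hxC a))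
  have hcompl : Subgroup.IsComplement' D C := by
    refine Subgroup.isComplement'_of_disjoint_and_mul_eq_univ (Subgroup.disjoint_def.2 fun hx hy => hinter _ hx hy) ?_
    rw [← Subgroup.normal_mul]
    refine Set.eq_univ_of_forall fun g => ?_
    obtain ⟨c, hc, d, hd, rfl⟩ := hmul g
    exact Subgroup.mul_mem _ (Subgroup.mem_sup_right hc) (Subgroup.mem_sup_left hd)
  have hcoCD : (Nat.card C).Coprime (Nat.card D) := by
    refine Nat.coprime_of_dvd fun p hp hpC hpD => ?_
    haveI := Fact.mk hp
    obtain ⟨⟨x, hxC⟩, hx⟩ := exists_prime_orderOf_dvd_card' p hpC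
    obtain ⟨⟨y, hyD⟩, hy⟩ := exists_prime_orderOf_dvd_card' p hpD
    rw [Subgroup.orderOf_mk] at hx hy
    obtain ⟨P, hP⟩ := (IsPGroup.of_card (n := 1) (by rw [Nat.card_zpowers, hy, pow_one]) :
      IsPGroup p (Subgroup.zpowers y)).exists_le_sylow
    obtain ⟨Q, hQ⟩ := (IsPGroup.of_card (n := 1) (by rw [Nat.card_zpowers, hx, pow_one]) :
      IsPGroup p (Subgroup.zpowers x)).exists_le_sylow
    obtain ⟨g, rfl⟩ := MulAction.exists_smul_eq G P Q
    have hxP := hQ (Subgroup.mem_zpowers x)
    rw [Sylow.coe_subgroup_smul, Subgroup.mem_pointwise_smul_iff_inv_smul_mem] at hxP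
    simp only [MulAut.smul_def, ← map_inv, MulAut.conj_apply, inv_inv] at hxP
    have hpair : g⁻¹ * x * g ∈ Subgroup.zpowers y := by
      haveI := hcyc p P
      haveI := Fintype.ofFinite (P : Subgroup G)
      have hy' : (⟨y, hP (Subgroup.mem_zpowers y)⟩ : (P : Subgroup G)) ^ p = 1 := by
        ext; simp [← hy, pow_orderOf_eq_one]
      have hsub : (Subgroup.zpowers (⟨y, hP (Subgroup.mem_zpowers y)⟩ : (P : Subgroup G)) : Set _) =
          {z : (P : Subgroup G) | z ^ p = 1} := by
        apply Set.eq_of_subset_of_ncard_le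
        · intro z hz
          obtain ⟨i, rfl⟩ := Subgroup.mem_zpowers_iff.1 hz
          show _ ^ p = 1
          rw [← zpow_natCast, ← zpow_mul, mul_comm, zpow_mul, zpow_natCast, hy', one_zpow]
        · have h2 : ((Subgroup.zpowers (⟨y, hP (Subgroup.mem_zpowers y)⟩ : (P : Subgroup G))) : Set (P : Subgroup G)).ncard = p := by
            rw [← Nat.card_coe_set_eq, SetLike.coe_sort_coe, Nat.card_zpowers, Subgroup.orderOf_mk, hy]
          rw [h2, Set.ncard_eq_toFinset_card']
          simpa using IsCyclic.card_pow_eq_one_le (α := (P : Subgroup G)) hp.pos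
        · exact Set.toFinite _
      have hmem : (⟨g⁻¹ * x * g, hxP⟩ : (P : Subgroup G)) ∈ {z : (P : Subgroup G) | z ^ p = 1} := by
        refine Subtype.ext ?_
        show (g⁻¹ * x * g) ^ p = 1
        have : g⁻¹ * x * g = g⁻¹ * x * g⁻¹⁻¹ := by rw [inv_inv]
        rw [this, conj_pow, ← hx, pow_orderOf_eq_one, mul_one, mul_inv_cancel]
      rw [← hsub] at hmem
      obtain ⟨i, hi⟩ := Subgroup.mem_zpowers_iff.1 hmem
      exact Subgroup.mem_zpowers_iff.2 ⟨i, by simpa using congrArg Subtype.val hi⟩
    have hxD : x ∈ D := by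
      have := hDn.conj_mem _ (Subgroup.zpowers_le.2 hyD hpair) g
      simpa [mul_assoc] using this
    have := hinter x hxD hxC
    rw [this, orderOf_one] at hx
    exact hp.ne_one hx.symm
  have hCcard : Nat.card (MulAction.fixedPoints A G : Set G) = Nat.card C := rfl
  refine ⟨?_, ?_, hDn, ?_, ?_⟩
  · rw [hCcard, ← hcompl.card_mul, Nat.mul_div_cancel _ Nat.card_pos]
    exact hcoCD
  · exact isCyclic_of_gen ψ hgen
  · ext x
    simp only [Set.mem_inter_iff, Set.mem_singleton_iff]
    exact ⟨fun h => hinter x h.1 h.2, fun h => h ▸ ⟨D.one_mem, C.one_mem⟩⟩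
  · refine top_le_iff.1 fun g _ => ?_
    obtain ⟨c, hc, d, hd, rfl⟩ := hmul g
    exact Subgroup.mul_mem _ (Subgroup.mem_sup_right (Subgroup.subset_closure hc)) (Subgroup.mem_sup_left hd)

end Cfsg.Agent.S4117
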