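import Cfsg.Statements.S4125
import Cfsg.Agent.Lib.H74QBaer
import Cfsg.Agent.Lib.ClassSizeGraph76

set_option autoImplicit false
open Cfsg

namespace Cfsg.Agent.S4125

section
open Cfsg.Agent.H74QBaer
open scoped Pointwise

universe u

variable {G : Type u} [Group G] [Finite G] {q : ℕ} [hq : Fact q.Prime]

theorem eq_one_of_mem_inf {Q : Sylow q G} {x : G} (hx : x ∈ (Q : Subgroup G))
    (hxK : x ∈ Cfsg.pPrimeCore q G) : x = 1 := by
  obtain ⟨j, hj⟩ := qel_of_mem Q.2 hx
  have h1 : orderOf x ∣ Nat.card (Cfsg.pPrimeCore q G) := Subgroup.orderOf_dvd_natCard _ hxK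
  rw [hj] at h1
  have h2 := Nat.eq_one_of_dvd_coprimes
    (Nat.Coprime.pow_right j (ComponentsCores.pPrimeCore_coprime (G := G) q)) h1 dvd_rfl
  rw [← hj, orderOf_eq_one_iff] at h2
  exact h2

theorem part_one (hB : Baer G q) :
    ∃ K L : Subgroup G, K.Normal ∧ L.Normal ∧ K ≤ L ∧ (Nat.card K).Coprime q ∧
      (∃ m : ℕ, K.relIndex L = q ^ m) ∧ L.index.Coprime q := by
  set K := Cfsg.pPrimeCore q G
  haveI : K.Normal := inferInstance
  set π := QuotientGroup.mk' K
  have hπ : Function.Surjective π := QuotientGroup.mk'_surjective K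
  obtain ⟨S⟩ : Nonempty (Sylow q (G ⧸ K)) := inferInstance
  have hS := sylow_eq_pCore (baer_map π hπ hB) (HallCore.pPrimeCore_quotient_self q G) S
  haveI : (Cfsg.pCore q (G ⧸ K)).Normal := inferInstance
  refine ⟨K, (Cfsg.pCore q (G ⧸ K)).comap π, inferInstance, inferInstance,
    fun k hk => ?_, ComponentsCores.pPrimeCore_coprime q, ?_, ?_⟩
  · rw [Subgroup.mem_comap, show π k = 1 from (QuotientGroup.eq_one_iff k).2 hk]
    exact one_mem _
  · rw [HallSolvable.relIndex_eq_card_map, Subgroup.map_comap_eq_self_of_surjective hπ]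
    exact IsPGroup.iff_card.1 (ComponentsCores.isPGroup_pCore q)
  · rw [Subgroup.index_comap_of_surjective _ hπ, ← hS]
    exact ((hq.out.coprime_iff_not_dvd).2 S.not_dvd_index).symm

theorem map_sylow (hB : Baer G q) (R : Sylow q G) :
    (R : Subgroup G).map (QuotientGroup.mk' (Cfsg.pPrimeCore q G)) =
      Cfsg.pCore q (G ⧸ Cfsg.pPrimeCore q G) := by
  have hπ := QuotientGroup.mk'_surjective (Cfsg.pPrimeCore q G)
  rw [← Sylow.coe_mapSurjective hπ R]
  exact sylow_eq_pCore (baer_map _ hπ hB) (HallCore.pPrimeCore_quotient_self q G) _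

theorem nonabelian (hB : Baer G q) (Q : Sylow q G)
    (hQ : ¬ ∀ a ∈ (Q : Subgroup G), ∀ b ∈ (Q : Subgroup G), a * b = b * a) :
    (∀ x : G, (∃ k : ℕ, orderOf x = q ^ k) →
      ∃ a : ℕ, (Subgroup.centralizer ({x} : Set G)).index = q ^ a) ∧
    (Q : Subgroup G).Normal ∧ ∃ N : Subgroup G, N.Normal ∧ N.IsComplement' (Q : Subgroup G) := by
  set Qs : Subgroup G := (Q : Subgroup G) with hQs
  push Not at hQ
  obtain ⟨a0, ha0, b0, hb0, hab⟩ := hQ
  have hind : ∀ x ∈ Qs, (∃ y ∈ Qs, x * y ≠ y * x) →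
      ∃ a, (Subgroup.centralizer ({x} : Set G)).index = q ^ a := by
    rintro x hx ⟨y, hy, hne⟩
    obtain ⟨r, a, hr, ha⟩ := hB x (qel_of_mem Q.2 hx)
    by_cases hrq : r = q
    · exact ⟨a, hrq ▸ ha⟩
    exfalso
    obtain ⟨R, hR⟩ := ClassSizeGraph76.exists_sylow_le (p := q)
      (H := Subgroup.centralizer ({x} : Set G)) (by
        rw [ha]
        exact fun h => hrq ((Nat.prime_dvd_prime_iff_eq hq.out hr).1 (hq.out.dvd_of_dvd_pow h)).symm)
    apply hne
    set π := QuotientGroup.mk' (Cfsg.pPrimeCore q G)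
    have hyR : π y ∈ (R : Subgroup G).map π := by
      rw [map_sylow hB R, ← map_sylow hB Q]
      exact Subgroup.mem_map_of_mem _ hy
    obtain ⟨z, hz, hzy⟩ := hyR
    have hc : π x * π y = π y * π x := by
      rw [← hzy, ← map_mul, ← map_mul, Subgroup.mem_centralizer_singleton_iff.1 (hR hz)]
    have h1 : x * y * (y * x)⁻¹ = 1 := by
      refine eq_one_of_mem_inf (Q := Q) (mul_mem (mul_mem hx hy) (inv_mem (mul_mem hy hx))) ?_
      rw [← QuotientGroup.eq_one_iff]
      show π (x * y * (y * x)⁻¹) = 1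
      rw [map_mul, map_inv, map_mul, map_mul, hc, mul_inv_cancel]
    exact mul_inv_eq_one.1 h1
  have hgen : Qs ≤ Cfsg.pCore q G := by
    intro y hy
    by_cases hyc : ∃ z ∈ Qs, y * z ≠ z * y
    · obtain ⟨a, ha⟩ := hind y hy hyc
      exact (mem_pCore_of_qpow y (qel_of_mem Q.2 hy) ha).1
    push Not at hyc
    have hyx : ∃ z ∈ Qs, (y * a0) * z ≠ z * (y * a0) := by
      refine ⟨b0, hb0, fun e => hab ?_⟩
      have h1 : y * (a0 * b0) = y * (b0 * a0) := by
        rw [← mul_assoc, e, ← mul_assoc, ← hyc b0 hb0, mul_assoc]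
      exact mul_left_cancel h1
    obtain ⟨a, ha⟩ := hind _ (mul_mem hy ha0) hyx
    obtain ⟨a', ha'⟩ := hind a0 ha0 ⟨b0, hb0, hab⟩
    have h1 := mul_mem (mem_pCore_of_qpow _ (qel_of_mem Q.2 (mul_mem hy ha0)) ha).1
      (inv_mem (mem_pCore_of_qpow a0 (qel_of_mem Q.2 ha0) ha').1)
    rwa [mul_inv_cancel_right] at h1
  have hQeq : Qs = Cfsg.pCore q G :=
    le_antisymm hgen (IsPGroup.le_sylow_of_normal (ComponentsCores.isPGroup_pCore q) Q)
  haveI hQn : Qs.Normal := by
    rw [hQeq]; infer_instance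
  obtain ⟨N, hN⟩ := Subgroup.exists_right_complement'_of_coprime (N := Qs) Q.card_coprime_index
  -- every element of order prime to `q` centralises `Q`
  have key : ∀ (r : ℕ), r.Prime → r ≠ q → ∀ h : G, (∃ j, orderOf h = r ^ j) →
      h ∈ Subgroup.centralizer (Qs : Set G) := by
    intro r hr hrq h hh
    haveI : Fact r.Prime := ⟨hr⟩
    obtain ⟨R, hR⟩ := (isPGroup_zpowers hh).exists_le_sylow
    have hhR : h ∈ (R : Subgroup G) := hR (Subgroup.mem_zpowers h)
    -- fixed representatives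
    have hrep : ∀ y ∈ Qs, (∃ z ∈ Qs, y * z ≠ z * y) →
        ∃ u ∈ Qs, Commute h (u * y * u⁻¹) := by
      intro y hy hyc
      obtain ⟨a, ha⟩ := hind y hy hyc
      obtain ⟨R0, hR0⟩ := ClassSizeGraph76.exists_sylow_le (p := r)
        (H := Subgroup.centralizer ({y} : Set G)) (by
          rw [ha]
          exact fun h => hrq ((Nat.prime_dvd_prime_iff_eq hr hq.out).1 (hr.dvd_of_dvd_pow h)))
      obtain ⟨g, hg⟩ := MulAction.exists_smul_eq G R0 R
      have hg' : h ∈ MulAut.conj g • (R0 : Subgroup G) := by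
        rw [← Sylow.coe_subgroup_smul]
        exact (congrArg (fun S : Sylow r G => h ∈ (S : Subgroup G)) hg).symm ▸ hhR
      rw [Subgroup.mem_pointwise_smul_iff_inv_smul_mem] at hg'
      have h1 := Subgroup.mem_centralizer_singleton_iff.1 (hR0 hg')
      rw [MulAut.smul_def, MulAut.conj_inv_apply] at h1
      obtain ⟨u, hu, hgu⟩ := (mem_pCore_of_qpow y (qel_of_mem Q.2 hy) ha).2 Q g
      refine ⟨u, hu, ?_⟩
      rw [← hgu]
      show h * (g * y * g⁻¹) = g * y * g⁻¹ * h
      calc h * (g * y * g⁻¹) = g * ((g⁻¹ * h * g) * y) * g⁻¹ := by group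
        _ = g * (y * (g⁻¹ * h * g)) * g⁻¹ := by rw [h1]
        _ = g * y * g⁻¹ * h := by group
    set D : Subgroup G := Qs ⊓ Subgroup.centralizer ({h} : Set G)
    set Z : Subgroup G := Qs ⊓ Subgroup.centralizer (Qs : Set G)
    haveI : Z.Normal := inferInstance
    have hDh : ∀ d ∈ D, h * d = d * h := fun d hd =>
      (Subgroup.mem_centralizer_singleton_iff.1 hd.2).symm
    have hDQ : D ⊔ Z = Qs := by
      refine le_antisymm (sup_le inf_le_left inf_le_left) ?_
      by_contra hlt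
      have hM : (D ⊔ Z).subgroupOf Qs ≠ ⊤ := fun e => hlt (Subgroup.subgroupOf_eq_top.1 e)
      obtain ⟨M, hMc, hMle⟩ := (eq_top_or_exists_le_coatom ((D ⊔ Z).subgroupOf Qs)).resolve_left hM
      haveI : Group.IsNilpotent Qs := Q.2.isNilpotent
      haveI := Subgroup.NormalizerCondition.normal_of_coatom M normalizerCondition_of_isNilpotent hMc
      apply hMc.1
      rw [eq_top_iff]
      rintro ⟨y, hy⟩ -
      by_cases hyc : ∃ z ∈ Qs, y * z ≠ z * y
      · obtain ⟨u, hu, huy⟩ := hrep y hy hyc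
        have h1 : (⟨u, hu⟩ * ⟨y, hy⟩ * ⟨u, hu⟩⁻¹ : Qs) ∈ M :=
          hMle (Subgroup.mem_subgroupOf.2 (Subgroup.mem_sup_left
            ⟨Qs.mul_mem (Qs.mul_mem hu hy) (Qs.inv_mem hu),
              Subgroup.mem_centralizer_singleton_iff.2 huy.eq.symm⟩))
        have h2 := (inferInstance : M.Normal).conj_mem _ h1 (⟨u, hu⟩⁻¹ : Qs)
        have h3 : (⟨y, hy⟩ : Qs) =
            (⟨u, hu⟩⁻¹ : Qs) * (⟨u, hu⟩ * ⟨y, hy⟩ * ⟨u, hu⟩⁻¹) * (⟨u, hu⟩⁻¹ : Qs)⁻¹ := by group
        rw [h3]
        exact h2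
      · push Not at hyc
        exact hMle (Subgroup.mem_subgroupOf.2 (Subgroup.mem_sup_right
          ⟨hy, Subgroup.mem_centralizer_iff.2 fun z hz => (hyc z hz).symm⟩))
    have hdec : ∀ u ∈ Qs, ∃ d ∈ D, ∃ z ∈ Z, u = d * z := by
      intro u hu
      rw [← hDQ, Subgroup.mem_sup_of_normal_right] at hu
      obtain ⟨d, hd, z, hz, e⟩ := hu
      exact ⟨d, hd, z, hz, e.symm⟩
    obtain ⟨c, hc, z1, hz1, hcz⟩ := hdec a0 ha0
    have hcb : c * b0 ≠ b0 * c := by
      intro e
      apply hab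
      have h1 : b0 * z1 = z1 * b0 := Subgroup.mem_centralizer_iff.1 hz1.2 b0 hb0
      rw [hcz, mul_assoc, ← h1, ← mul_assoc, e, mul_assoc]
    have hcomm_h : ∀ z ∈ Z, h * z = z * h := by
      intro z hz
      have hy : c * z ∈ Qs := mul_mem hc.1 hz.1
      have hyc : ∃ w ∈ Qs, (c * z) * w ≠ w * (c * z) := by
        refine ⟨b0, hb0, fun e => hcb ?_⟩
        have h1 : b0 * z = z * b0 := Subgroup.mem_centralizer_iff.1 hz.2 b0 hb0
        have h2 : c * b0 * z = b0 * c * z := by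
          rw [mul_assoc, h1, ← mul_assoc, e, mul_assoc]
        exact mul_right_cancel h2
      obtain ⟨a, ha⟩ := hind _ hy hyc
      obtain ⟨u, hu, hhu⟩ := (mem_pCore_of_qpow _ (qel_of_mem Q.2 hy) ha).2 Q h
      obtain ⟨d, hd, z2, hz2, rfl⟩ := hdec u hu
      have hzc : ∀ v ∈ Qs, v * z = z * v := fun v hv => Subgroup.mem_centralizer_iff.1 hz.2 v hv
      have hz2c : ∀ v ∈ Qs, v * z2 = z2 * v := fun v hv => Subgroup.mem_centralizer_iff.1 hz2.2 v hv
      set w := c⁻¹ * d * c * d⁻¹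
      have hwQ : w ∈ Qs := mul_mem (mul_mem (mul_mem (inv_mem hc.1) hd.1) hc.1) (inv_mem hd.1)
      have hwD : w ∈ D := mul_mem (mul_mem (mul_mem (inv_mem hc) hd) hc) (inv_mem hd)
      have e1 : c * (h * z * h⁻¹) = d * c * d⁻¹ * z := by
        have a1 : h * (c * z) * h⁻¹ = c * (h * z * h⁻¹) := by
          rw [← mul_assoc h c z, hDh c hc]
          group
        have a2 : d * z2 * (c * z) * (d * z2)⁻¹ = d * c * d⁻¹ * z := by
          rw [mul_inv_rev, mul_assoc d z2, ← hz2c _ hy]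
          calc d * (c * z * z2) * (z2⁻¹ * d⁻¹) = d * c * (z * d⁻¹) := by group
            _ = d * c * (d⁻¹ * z) := by rw [hzc _ (inv_mem hd.1)]
            _ = d * c * d⁻¹ * z := by group
        rw [← a1, hhu, a2]
      have e2 : h * z * h⁻¹ = w * z := by
        rw [← inv_mul_cancel_left c (h * z * h⁻¹), e1]
        simp only [w, mul_assoc]
      have e3 : ∀ n : ℕ, h ^ n * z * (h ^ n)⁻¹ = w ^ n * z := by
        intro n
        induction n with
        | zero => simp
        | succ n ih =>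
          calc h ^ (n + 1) * z * (h ^ (n + 1))⁻¹ = h * (h ^ n * z * (h ^ n)⁻¹) * h⁻¹ := by
                rw [pow_succ']; group
            _ = h * (w ^ n * z) * h⁻¹ := by rw [ih]
            _ = w ^ n * (h * z * h⁻¹) := by
                rw [← mul_assoc h (w ^ n), (Commute.pow_right (show Commute h w from hDh w hwD) n).eq]
                group
            _ = w ^ (n + 1) * z := by rw [e2, ← mul_assoc, ← pow_succ]
      have e4 := e3 (orderOf h)
      rw [pow_orderOf_eq_one, one_mul, inv_one, mul_one] at e4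
      have hwn : w ^ orderOf h = 1 := by
        exact mul_right_cancel (e4.symm.trans (one_mul z).symm)
      obtain ⟨i, hi⟩ := qel_of_mem Q.2 hwQ
      obtain ⟨j, hj⟩ := hh
      have hw1 : w = 1 := by
        have h3 := pow_gcd_eq_one.mpr ⟨hwn, pow_orderOf_eq_one w⟩
        rwa [hi, hj, Nat.Coprime.gcd_eq_one
          (Nat.Coprime.pow j i ((Nat.coprime_primes hr hq.out).2 hrq)), pow_one] at h3
      rw [hw1, one_mul] at e2
      exact mul_inv_eq_iff_eq_mul.1 e2
    rw [Subgroup.mem_centralizer_iff]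
    intro u hu
    obtain ⟨d, hd, z, hz, rfl⟩ := hdec u hu
    rw [mul_assoc, ← hcomm_h z hz, ← mul_assoc, ← hDh d hd, mul_assoc]
  set CQ := Subgroup.centralizer (Qs : Set G)
  haveI hCQn : CQ.Normal := inferInstance
  have hCQ : ∃ m, CQ.index = q ^ m := by
    refine ⟨_, Nat.eq_prime_pow_of_unique_prime_dvd Subgroup.index_ne_zero_of_finite
      fun {r} hr hdvd => ?_⟩
    by_contra hrq
    haveI : Fact r.Prime := ⟨hr⟩
    obtain ⟨R⟩ : Nonempty (Sylow r G) := inferInstance
    exact R.not_dvd_index (hdvd.trans (Subgroup.index_dvd_of_le fun g hg =>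
      key r hr hrq g (qel_of_mem R.2 hg)))
  have hNC : N ≤ CQ := by
    intro n hn
    obtain ⟨m, hm⟩ := hCQ
    have h1 : n ^ q ^ m ∈ CQ := hm ▸ Subgroup.pow_index_mem CQ n
    have hcop : Nat.Coprime (q ^ m) (orderOf n) := by
      refine Nat.Coprime.pow_left m (Nat.Coprime.coprime_dvd_right
        (Subgroup.orderOf_dvd_natCard _ hn) ?_)
      rw [← hN.symm.index_eq_card]
      exact (hq.out.coprime_iff_not_dvd).2 Q.not_dvd_index
    obtain ⟨t, ht⟩ := exists_pow_eq_self_of_coprime hcop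
    exact ht ▸ Subgroup.pow_mem _ h1 t
  haveI hNn : N.Normal := by
    refine Subgroup.normalizer_eq_top_iff.1 ?_
    rw [eq_top_iff, ← hN.sup_eq_top, sup_le_iff]
    refine ⟨fun a ha => ?_, Subgroup.le_normalizer⟩
    rw [Subgroup.mem_normalizer_iff]
    intro n
    have hac : ∀ m ∈ N, a * m * a⁻¹ = m := fun m hm => by
      rw [Subgroup.mem_centralizer_iff.1 (hNC hm) a ha, mul_inv_cancel_right]
    refine ⟨fun hn => by rw [hac n hn]; exact hn, fun hn => ?_⟩
    have h1 := hac _ hn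
    have h2 : n = a * n * a⁻¹ := mul_left_cancel (mul_right_cancel h1.symm)
    rw [h2]; exact hn
  refine ⟨fun x hx => ?_, hQn, N, hNn, hN.symm⟩
  obtain ⟨R, hR⟩ := (isPGroup_zpowers hx).exists_le_sylow
  haveI := Sylow.unique_of_normal Q hQn
  have hxQ : x ∈ Qs := by
    rw [hQs, Subsingleton.elim Q R]
    exact hR (Subgroup.mem_zpowers x)
  obtain ⟨e, he⟩ := IsPGroup.iff_card.1 Q.2
  obtain ⟨a, -, ha⟩ := (Nat.dvd_prime_pow hq.out).1
    (show (Subgroup.centralizer ({x} : Set G)).index ∣ q ^ e by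
      rw [← he, ← hN.index_eq_card]
      refine Subgroup.index_dvd_of_le fun n hn => ?_
      exact Subgroup.mem_centralizer_singleton_iff.2
        (Subgroup.mem_centralizer_iff.1 (hNC hn) x hxQ).symm)
  exact ⟨a, ha⟩

theorem contra (hB : Baer G q) (Q : Sylow q G)
    (hQ : ∀ a ∈ (Q : Subgroup G), ∀ b ∈ (Q : Subgroup G), a * b = b * a) {x y : G}
    (hx : x ∈ (Q : Subgroup G)) (hy : y ∈ (Q : Subgroup G))
    (hy1 : (Subgroup.centralizer ({y} : Set G)).index ≠ 1)
    (h1 : Nat.Coprime (Subgroup.centralizer ({y} : Set G)).index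
      (Subgroup.centralizer ({x} : Set G)).index)
    (h2 : Nat.Coprime (Subgroup.centralizer ({x * y} : Set G)).index
      (Subgroup.centralizer ({y} : Set G)).index) : False := by
  set z := x * y with hz
  have hxy : Commute x y := hQ x hx y hy
  obtain ⟨g, hgz, hgx⟩ : ∃ g ∈ Subgroup.centralizer ({z} : Set G),
      g ∉ Subgroup.centralizer ({x} : Set G) := by
    by_contra hall
    push Not at hall
    refine hy1 (Nat.eq_one_of_dvd_coprimes h2 (Subgroup.index_dvd_of_le fun c hc => ?_) dvd_rfl)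
    have a1 : Commute c x := Subgroup.mem_centralizer_singleton_iff.1 (hall c hc)
    have a2 : Commute c z := Subgroup.mem_centralizer_singleton_iff.1 hc
    have a3 : Commute c (x⁻¹ * z) := a1.inv_right.mul_right a2
    rw [hz, inv_mul_cancel_left] at a3
    exact Subgroup.mem_centralizer_singleton_iff.2 a3.eq
  obtain ⟨c1, hc1, c2, hc2, hg⟩ := coprime_factor _ _ h1 g
  set x' := g * x * g⁻¹
  have hx'1 : x' = c1 * x * c1⁻¹ := by
    have a1 : c2 * x = x * c2 := Subgroup.mem_centralizer_singleton_iff.1 hc2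
    calc x' = c1 * (c2 * x) * c2⁻¹ * c1⁻¹ := by simp only [x', hg]; group
      _ = c1 * (x * c2) * c2⁻¹ * c1⁻¹ := by rw [a1]
      _ = c1 * x * c1⁻¹ := by group
  have hc1y : c1 * y = y * c1 := Subgroup.mem_centralizer_singleton_iff.1 hc1
  have hgz' : g * z = z * g := Subgroup.mem_centralizer_singleton_iff.1 hgz
  have b1 : Commute x' y := by
    have := (hxy.map (MulAut.conj c1).toMonoidHom)
    simp only [MulEquiv.coe_toMonoidHom, MulAut.conj_apply] at this
    rwa [← hx'1, show c1 * y * c1⁻¹ = y by rw [hc1y, mul_inv_cancel_right]] at this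
  have b2 : Commute x' z := by
    have h0 : Commute x z := (Commute.refl x).mul_right hxy
    have := (h0.map (MulAut.conj g).toMonoidHom)
    simp only [MulEquiv.coe_toMonoidHom, MulAut.conj_apply] at this
    rwa [show g * z * g⁻¹ = z by rw [hgz', mul_inv_cancel_right]] at this
  have b3 : Commute x' x := by
    have := b2.mul_right b1.inv_right
    rwa [hz, mul_inv_cancel_right] at this
  set K := Cfsg.pPrimeCore q G
  set π := QuotientGroup.mk' K
  have hπ : Function.Surjective π := QuotientGroup.mk'_surjective K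
  have hne : π g * π x ≠ π x * π g := by
    intro e
    apply hgx
    obtain ⟨i, hi⟩ := qel_of_mem Q.2 hx
    have hw : (x⁻¹ * x') ^ (q ^ i) = 1 := by
      rw [b3.symm.inv_left.mul_pow, inv_pow, ← hi, pow_orderOf_eq_one, inv_one, one_mul,
        show x' = g * x * g⁻¹ from rfl, conj_pow, pow_orderOf_eq_one, mul_one, mul_inv_cancel]
    have hwK : x⁻¹ * x' ∈ K := by
      rw [← QuotientGroup.eq_one_iff]
      show π (x⁻¹ * x') = 1
      simp only [x', map_mul, map_inv]
      rw [e, mul_inv_cancel_right, inv_mul_cancel]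
    obtain ⟨j, hj⟩ := qel_of_pow hw
    have h3 : orderOf (x⁻¹ * x') ∣ Nat.card K := Subgroup.orderOf_dvd_natCard _ hwK
    rw [hj] at h3
    have h4 := Nat.eq_one_of_dvd_coprimes
      (Nat.Coprime.pow_right j (ComponentsCores.pPrimeCore_coprime (G := G) q)) h3 dvd_rfl
    rw [← hj, orderOf_eq_one_iff, inv_mul_eq_one] at h4
    rw [Subgroup.mem_centralizer_singleton_iff]
    exact (mul_inv_eq_iff_eq_mul.1 h4.symm)
  let S : Sylow q (G ⧸ K) := Q.mapSurjective hπ
  have hS : (S : Subgroup (G ⧸ K)) = (Q : Subgroup G).map π := Sylow.coe_mapSurjective hπ Q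
  haveI : (S : Subgroup (G ⧸ K)).Normal := by
    rw [hS, map_sylow hB Q]; infer_instance
  have hSc : ∀ a ∈ (S : Subgroup (G ⧸ K)), ∀ b ∈ (S : Subgroup (G ⧸ K)), a * b = b * a := by
    rw [hS]
    rintro _ ⟨a, ha, rfl⟩ _ ⟨b, hb, rfl⟩
    rw [← map_mul, ← map_mul, hQ a ha b hb]
  have hmem : ∀ v ∈ (Q : Subgroup G), π v ∈ (S : Subgroup (G ⧸ K)) := fun v hv => by
    rw [hS]; exact Subgroup.mem_map_of_mem _ hv
  have hc := central_of_coprime S hSc (hmem x hx) (hmem y hy)
    (Nat.Coprime.coprime_dvd_left (Cfsg.Agent.H74Kazarin.index_map_dvd hπ y)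
      (Nat.Coprime.coprime_dvd_right (Cfsg.Agent.H74Kazarin.index_map_dvd hπ x) h1))
    (by
      rw [← map_mul]
      exact Nat.Coprime.coprime_dvd_left (Cfsg.Agent.H74Kazarin.index_map_dvd hπ z)
        (Nat.Coprime.coprime_dvd_right (Cfsg.Agent.H74Kazarin.index_map_dvd hπ y) h2))
    (π g)
  apply hne
  have h5 : Commute (π g) (π z * (π y)⁻¹) := by
    refine Commute.mul_right ?_ (show Commute (π g) (π y) from hc).inv_right
    show π g * π z = π z * π g
    rw [← map_mul, ← map_mul, hgz']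
  rw [hz, map_mul, mul_inv_cancel_right] at h5
  exact h5

end

/-- Let G be a finite group and q a prime dividing its order such that every element of q-power order has a conjugacy class of prime-power size. Then G is q-solvable of q-length 1: there are normal subgroups K ≤ L of G with K of order prime to q, L/K a q-group and L of index prime to q. Moreover there is a prime p such that every element of q-power order has a class of p-power size (one prime serving for all of them), and for a Sylow q-subgroup Q: if p = q then Q is normal with a normal complement (a direct factor), while if p ≠ q then Q is abelian, the product of Q with the largest normal p-subgroup O_p(G) is normal in G, and G/O_{q'}(G) is solvable, where O_{q'}(G) is the largest normal subgroup of order prime to q. -/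
theorem result {G : Type*} [Group G] [Finite G] (q : ℕ) [Fact q.Prime] (hq : q ∣ Nat.card G)
    (hBaer : ∀ x : G, (∃ k : ℕ, orderOf x = q ^ k) → ∃ (r : ℕ) (a : ℕ), r.Prime ∧ (Subgroup.centralizer ({x} : Set G)).index = r ^ a) (Q : Sylow q G) :
    (∃ K L : Subgroup G, K.Normal ∧ L.Normal ∧ K ≤ L ∧ (Nat.card K).Coprime q ∧ (∃ m : ℕ, K.relIndex L = q ^ m) ∧ L.index.Coprime q) ∧
    ∃ p : ℕ, p.Prime ∧ (∀ x : G, (∃ k : ℕ, orderOf x = q ^ k) → ∃ a : ℕ, (Subgroup.centralizer ({x} : Set G)).index = p ^ a) ∧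
      (p = q → (Q : Subgroup G).Normal ∧ ∃ N : Subgroup G, N.Normal ∧ N.IsComplement' (Q : Subgroup G)) ∧
      (p ≠ q → IsMulCommutative (Q : Subgroup G) ∧ (Cfsg.pCore p G ⊔ (Q : Subgroup G)).Normal ∧
        ∀ _h : (Cfsg.pPrimeCore q G).Normal, Group.IsSolvable (G ⧸ Cfsg.pPrimeCore q G)) := by
  have hB : Cfsg.Agent.H74QBaer.Baer G q := hBaer
  refine ⟨part_one hB, ?_⟩
  by_cases hQ : ∀ a ∈ (Q : Subgroup G), ∀ b ∈ (Q : Subgroup G), a * b = b * a
  swap
  · obtain ⟨h1, h2, h3⟩ := nonabelian hB Q hQ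
    exact ⟨q, Fact.out, h1, fun _ => ⟨h2, h3⟩, fun h => absurd rfl h⟩
  haveI hQc : IsMulCommutative (Q : Subgroup G) :=
    ⟨⟨fun a b => Subtype.ext (hQ a a.2 b b.2)⟩⟩
  have hconj : ∀ x : G, (∃ k : ℕ, orderOf x = q ^ k) → ∃ g : G, g * x * g⁻¹ ∈ (Q : Subgroup G) := by
    intro x hx
    obtain ⟨R, hR⟩ := (Cfsg.Agent.H74QBaer.isPGroup_zpowers hx).exists_le_sylow
    obtain ⟨g, hg⟩ := MulAction.exists_smul_eq G R Q
    refine ⟨g, ?_⟩
    rw [← hg, Sylow.coe_subgroup_smul]
    exact Subgroup.smul_mem_pointwise_smul x (MulAut.conj g) (R : Subgroup G)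
      (hR (Subgroup.mem_zpowers x))
  have hprime : ∀ x ∈ (Q : Subgroup G), ¬ q ∣ (Subgroup.centralizer ({x} : Set G)).index := by
    intro x hx h
    exact Q.not_dvd_index (h.trans (Subgroup.index_dvd_of_le fun a ha =>
      Subgroup.mem_centralizer_singleton_iff.2 (hQ a ha x hx)))
  by_cases hcen : ∀ x ∈ (Q : Subgroup G), (Subgroup.centralizer ({x} : Set G)).index = 1
  · have hall : ∀ x ∈ (Q : Subgroup G), ∀ g : G, g * x = x * g := fun x hx g =>
      Subgroup.mem_centralizer_singleton_iff.1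
        (Subgroup.index_eq_one.1 (hcen x hx) ▸ Subgroup.mem_top g)
    haveI hQn : (Q : Subgroup G).Normal :=
      ⟨fun x hx g => by rw [hall x hx g, mul_inv_cancel_right]; exact hx⟩
    obtain ⟨N, hN⟩ :=
      Subgroup.exists_right_complement'_of_coprime (N := (Q : Subgroup G)) Q.card_coprime_index
    refine ⟨q, Fact.out, fun x hx => ⟨0, ?_⟩, fun _ => ⟨hQn, N, ⟨fun n hn g => ?_⟩, hN.symm⟩,
      fun h => absurd rfl h⟩
    · obtain ⟨g, hg⟩ := hconj x hx
      rw [← Cfsg.Agent.H74QBaer.index_centralizer_conj g x, pow_zero]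
      exact hcen _ hg
    · obtain ⟨⟨a, b⟩, rfl⟩ := hN.2 g
      have h1 : (b : G) * n * (b : G)⁻¹ ∈ N := N.mul_mem (N.mul_mem b.2 hn) (N.inv_mem b.2)
      show (a : G) * b * n * ((a : G) * b)⁻¹ ∈ N
      have h2 : (a : G) * b * n * ((a : G) * b)⁻¹ = a * ((b : G) * n * (b : G)⁻¹) * (a : G)⁻¹ := by
        group
      rw [h2, ← hall a a.2, mul_inv_cancel_right]
      exact h1
  push Not at hcen
  obtain ⟨x0, hx0, hx01⟩ := hcen
  obtain ⟨s, a, hs, ha⟩ := hBaer x0 (Cfsg.Agent.H74QBaer.qel_of_mem Q.2 hx0)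
  have ha0 : a ≠ 0 := fun h => hx01 (by rw [ha, h, pow_zero])
  have hsq : s ≠ q := fun h => hprime x0 hx0 (by rw [ha, h]; exact dvd_pow_self q ha0)
  have hall : ∀ y : G, (∃ k : ℕ, orderOf y = q ^ k) →
      ∃ c : ℕ, (Subgroup.centralizer ({y} : Set G)).index = s ^ c := by
    intro y0 hy0
    obtain ⟨g, hg⟩ := hconj y0 hy0
    rw [← Cfsg.Agent.H74QBaer.index_centralizer_conj g y0]
    set y := g * y0 * g⁻¹
    obtain ⟨t, b, ht, hb⟩ := hBaer y (Cfsg.Agent.H74QBaer.qel_of_mem Q.2 hg)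
    by_cases hb0 : b = 0
    · exact ⟨0, by rw [hb, hb0, pow_zero, pow_zero]⟩
    by_cases hts : t = s
    · exact ⟨b, hts ▸ hb⟩
    exfalso
    obtain ⟨u, c, hu, hc⟩ :=
      hBaer (x0 * y) (Cfsg.Agent.H74QBaer.qel_of_mem Q.2 (mul_mem hx0 hg))
    have hcop : Nat.Coprime (t ^ b) (s ^ a) :=
      Nat.Coprime.pow b a ((Nat.coprime_primes ht hs).2 hts)
    have hy1 : (Subgroup.centralizer ({y} : Set G)).index ≠ 1 := by
      rw [hb]
      exact (Nat.one_lt_pow hb0 ht.one_lt).ne'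
    by_cases hut : u = t
    · refine contra hB Q hQ hg hx0 hx01 (by rw [ha, hb]; exact hcop.symm) ?_
      rw [← hQ x0 hx0 y hg, hc, ha]
      exact Nat.Coprime.pow c a ((Nat.coprime_primes hu hs).2 (hut ▸ hts))
    · refine contra hB Q hQ hx0 hg hy1 (by rw [ha, hb]; exact hcop) ?_
      rw [hc, hb]
      exact Nat.Coprime.pow c b ((Nat.coprime_primes hu ht).2 hut)
  refine ⟨s, hs, hall, fun h => absurd h hsq, fun _ => ⟨hQc, ?_, ?_⟩⟩
  · haveI : Fact s.Prime := ⟨hs⟩
    set R := Cfsg.pCore s G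
    set π := QuotientGroup.mk' R
    have hπ : Function.Surjective π := QuotientGroup.mk'_surjective R
    let S : Sylow q (G ⧸ R) := Q.mapSurjective hπ
    have hS : (S : Subgroup (G ⧸ R)) = (Q : Subgroup G).map π := Sylow.coe_mapSurjective hπ Q
    have hSp : (S : Subgroup (G ⧸ R)) = Cfsg.pCore q (G ⧸ R) := by
      refine le_antisymm ?_ (IsPGroup.le_sylow_of_normal
        (Cfsg.Agent.ComponentsCores.isPGroup_pCore q) S)
      rw [hS]
      rintro _ ⟨v, hv, rfl⟩
      obtain ⟨c, hc⟩ := hall v (Cfsg.Agent.H74QBaer.qel_of_mem Q.2 hv)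
      obtain ⟨d, -, hd⟩ := (Nat.dvd_prime_pow hs).1 (hc ▸ Cfsg.Agent.H74Kazarin.index_map_dvd hπ v)
      exact Cfsg.Agent.H74QBaer.mem_pCore_of_core (Cfsg.Agent.HallCore.pCore_quotient_self s G) _
        (Cfsg.Agent.H74QBaer.qel_of_mem S.2 (hS ▸ Subgroup.mem_map_of_mem π hv)) hd
    have h1 : ((Q : Subgroup G).map π).comap π = R ⊔ (Q : Subgroup G) := by
      rw [Subgroup.comap_map_eq, QuotientGroup.ker_mk', sup_comm]
    rw [← h1, ← hS, hSp]
    infer_instance
  · intro hKn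
    set K := Cfsg.pPrimeCore q G
    set π := QuotientGroup.mk' K
    have hπ : Function.Surjective π := QuotientGroup.mk'_surjective K
    let S : Sylow q (G ⧸ K) := Q.mapSurjective hπ
    have hS : (S : Subgroup (G ⧸ K)) = (Q : Subgroup G).map π := Sylow.coe_mapSurjective hπ Q
    haveI : (S : Subgroup (G ⧸ K)).Normal := by
      rw [hS, map_sylow hB Q]; infer_instance
    refine Cfsg.Agent.H74QBaer.solvable_of_ppow S ?_
      (Cfsg.Agent.HallCore.pPrimeCore_quotient_self q G) hs ?_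
    · rw [hS]
      rintro _ ⟨u, hu, rfl⟩ _ ⟨v, hv, rfl⟩
      rw [← map_mul, ← map_mul, hQ u hu v hv]
    · rw [hS]
      rintro _ ⟨v, hv, rfl⟩
      obtain ⟨c, hc⟩ := hall v (Cfsg.Agent.H74QBaer.qel_of_mem Q.2 hv)
      obtain ⟨d, -, hd⟩ := (Nat.dvd_prime_pow hs).1 (hc ▸ Cfsg.Agent.H74Kazarin.index_map_dvd hπ v)
      exact ⟨d, hd⟩

end Cfsg.Agent.S4125
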