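import Cfsg.Statements.S4126
import Cfsg.Agent.Lib.TransferOmega

set_option autoImplicit false
open Cfsg

open scoped Pointwise

namespace Cfsg.Agent.S4126

/-- Let G be a finite group and p a prime. Suppose every element of order p, and when p = 2 also every element of order 4, has a conjugacy class of p-power size. Then G has a normal p-complement. -/
theorem result {G : Type*} [Group G] [Finite G] (p : ℕ) [Fact p.Prime]
    (h : ∀ x : G, (orderOf x = p ∨ (p = 2 ∧ orderOf x = 4)) → ∃ a : ℕ, (Subgroup.centralizer ({x} : Set G)).index = p ^ a) :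
    Cfsg.HasNormalPComplement p G := by
  obtain ⟨P⟩ : Nonempty (Sylow p G) := inferInstance
  refine TransferOmega.hasNormalPComplement_of_small_control P fun x hx hs g hg => ?_
  rcases eq_or_ne x 1 with rfl | hx1
  · exact ⟨1, one_mem _, by group⟩
  have hord : orderOf x = p ∨ (p = 2 ∧ orderOf x = 4) := by
    rcases hs with h1 | ⟨h2, h4⟩
    · exact Or.inl (orderOf_eq_prime h1 hx1)
    · subst h2
      by_cases h1 : x ^ 2 = 1
      · exact Or.inl (orderOf_eq_prime h1 hx1)
      · exact Or.inr ⟨rfl, orderOf_eq_prime_pow (p := 2) (n := 1) (by simpa using h1) (by simpa using h4)⟩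
  obtain ⟨a, ha⟩ := h x hord
  set C := Subgroup.centralizer ({x} : Set G) with hC
  have htop : ((P : Subgroup G) : Set G) * (C : Set G) = Set.univ := by
    -- `|P C| = |G|` as the index of `C` is a power of `p`
    set D := (P : Subgroup G) ⊓ C with hD
    have h1 : D.relIndex (P : Subgroup G) = C.relIndex (P : Subgroup G) := Subgroup.inf_relIndex_left _ _
    have h2 : C.relIndex (P : Subgroup G) ∣ Nat.card (P : Subgroup G) := Subgroup.relIndex_dvd_card _ _
    have h3 : C.relIndex (P : Subgroup G) ≤ C.index :=
      Subgroup.relIndex_top_right C ▸ Subgroup.relIndex_le_of_le_right le_top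
        (by rw [Subgroup.relIndex_top_right]; exact Subgroup.index_ne_zero_of_finite)
    have h5 : C.index ∣ C.relIndex (P : Subgroup G) := by
      have h6 : C.index * Nat.card C = (P : Subgroup G).index * Nat.card (P : Subgroup G) := by
        rw [Subgroup.index_mul_card, Subgroup.index_mul_card]
      have h7 : Nat.card D * C.relIndex (P : Subgroup G) = Nat.card (P : Subgroup G) := by
        rw [← h1, ← Subgroup.relIndex_bot_left, ← Subgroup.relIndex_bot_left,
          Subgroup.relIndex_mul_relIndex _ _ _ bot_le inf_le_left]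
      obtain ⟨c, hc⟩ := Subgroup.card_dvd_of_le (inf_le_right : D ≤ C)
      rw [← h7, hc] at h6
      have h8 : C.index * c = (P : Subgroup G).index * C.relIndex (P : Subgroup G) :=
        mul_left_cancel₀ (Nat.card_pos (α := D)).ne' (by linarith [h6])
      have h9 : C.index ∣ (P : Subgroup G).index * C.relIndex (P : Subgroup G) := h8 ▸ Dvd.intro c rfl
      rw [ha] at h9 ⊢
      exact (Nat.Coprime.pow_left a
        ((Nat.Prime.coprime_iff_not_dvd Fact.out).mpr P.not_dvd_index)).dvd_of_dvd_mul_left h9
    have heq : C.relIndex (P : Subgroup G) = C.index :=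
      le_antisymm h3 (Nat.le_of_dvd (Nat.pos_of_ne_zero (Subgroup.index_ne_zero_of_finite (H := C.subgroupOf (P : Subgroup G)))) h5)
    -- every coset of `C` meets `P`
    have hbij : Function.Bijective (fun q : (P : Subgroup G) ⧸ C.subgroupOf (P : Subgroup G) =>
        Quotient.liftOn' q (fun y => (QuotientGroup.mk (y : G) : G ⧸ C))
          (fun y z hyz => QuotientGroup.eq.mpr (QuotientGroup.leftRel_apply.mp hyz :))) := by
      refine (Nat.bijective_iff_injective_and_card _).mpr ⟨?_, heq⟩
      intro q r
      induction q using QuotientGroup.induction_on with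
      | _ y =>
        induction r using QuotientGroup.induction_on with
        | _ z =>
          intro he
          exact QuotientGroup.eq.mpr (QuotientGroup.eq.mp he : (y : G)⁻¹ * z ∈ C)
    refine Set.eq_univ_of_forall fun y => ?_
    obtain ⟨q, hq⟩ := hbij.2 (QuotientGroup.mk y : G ⧸ C)
    induction q using QuotientGroup.induction_on with
    | _ z => exact ⟨z, z.2, (z : G)⁻¹ * y, QuotientGroup.eq.mp hq, mul_inv_cancel_left _ _⟩
  obtain ⟨z, hz, c, hc, he⟩ := Set.mem_mul.mp (htop.symm ▸ Set.mem_univ g :)
  refine ⟨z, hz, ?_⟩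
  have hcx : c * x * c⁻¹ = x := by
    rw [mul_inv_eq_iff_eq_mul]
    exact (Subgroup.mem_centralizer_iff.mp hc x rfl).symm
  rw [← he]
  calc z * x * z⁻¹ = z * (c * x * c⁻¹) * z⁻¹ := by rw [hcx]
    _ = z * c * x * (z * c)⁻¹ := by group

end Cfsg.Agent.S4126
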