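import Cfsg.Statements.S4130
import Cfsg.Agent.Lib.SquarefreeClassStructure
import Cfsg.Agent.Lib.Supersolvable
import Cfsg.Agent.Lib.ComponentsFitting
import Cfsg.Agent.Lib.FittingHallBasic

set_option autoImplicit false
open Cfsg

set_option linter.style.haveILetI false

namespace Cfsg.Agent.S4130

open Subgroup Cfsg.Agent.SquarefreeClass Cfsg.Agent.SquarefreeClassStructure
open scoped commutatorElement

universe u

theorem supersolvable_of_comm {Q : Type u} [Group Q] [Finite Q] (hc : ∀ a b : Q, a * b = b * a) :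
    Cfsg.IsSupersolvable Q := by
  induction hn : Nat.card Q using Nat.strong_induction_on generalizing Q with
  | _ n ih =>
  rcases subsingleton_or_nontrivial Q with hs | hs
  · exact Cfsg.Agent.Supersolvable.of_subsingleton
  obtain ⟨x, hx⟩ := exists_ne (1 : Q)
  haveI : (zpowers x).Normal := ⟨fun y hy g => by rwa [hc g y, mul_inv_cancel_right]⟩
  refine Cfsg.Agent.Supersolvable.of_cyclic_normal (zpowers x) inferInstance (ih _ (hn ▸ Cfsg.Agent.Supersolvable.card_quotient_lt _ (zpowers_ne_bot.2 hx)) ?_ rfl)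
  · intro a b
    induction a using QuotientGroup.induction_on with
    | H a => induction b using QuotientGroup.induction_on with
      | H b => rw [← QuotientGroup.mk_mul, ← QuotientGroup.mk_mul, hc]

theorem quotient_comm {G : Type u} [Group G] (N : Subgroup G) [N.Normal] (h : _root_.commutator G ≤ N)
    (a b : G ⧸ N) : a * b = b * a := by
  induction a using QuotientGroup.induction_on with
  | H a => induction b using QuotientGroup.induction_on with
    | H b =>
      rw [← QuotientGroup.mk_mul, ← QuotientGroup.mk_mul, QuotientGroup.eq]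
      have := h (commutator_mem b⁻¹ a⁻¹)
      simpa [commutatorElement_def, mul_assoc] using this

/-- Elements of a normal nilpotent subgroup centralise a normal subgroup of prime order inside it. -/
theorem commute_of_normal_prime {F : Type u} [Group F] [Finite F] [Group.IsNilpotent F] {p : ℕ}
    [Fact p.Prime] {w : F} (hw : orderOf w = p) (hn : (zpowers w).Normal) (x : F) :
    x * w * x⁻¹ = w := by
  obtain ⟨k, m, hm, hk⟩ := Nat.exists_eq_pow_mul_and_not_dvd (orderOf_pos x).ne' p (Fact.out : p.Prime).ne_one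
  have hord : orderOf (x ^ p ^ k) = m := by
    rw [orderOf_pow' _ (pow_ne_zero _ (Fact.out : p.Prime).ne_zero), hk,
      Nat.gcd_eq_right (dvd_mul_right _ _), Nat.mul_div_cancel_left _ (pow_pos (Fact.out : p.Prime).pos _)]
  have hc : Commute (x ^ p ^ k) w := Cfsg.Agent.FittingHallBasic.commute_of_coprime_orderOf (by
    rw [hord, hw]; exact ((Fact.out : p.Prime).coprime_iff_not_dvd.2 hm).symm)
  obtain ⟨i, hi⟩ := hn.conj_mem w (mem_zpowers w) x
  have hpow : ∀ j : ℕ, x ^ j * w * (x ^ j)⁻¹ = w ^ (i ^ j : ℤ) := by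
    intro j
    induction j with
    | zero => simp
    | succ j ih =>
      calc x ^ (j + 1) * w * (x ^ (j + 1))⁻¹ = x ^ j * (x * w * x⁻¹) * (x ^ j)⁻¹ := by
            rw [pow_succ]; group
        _ = x ^ j * w ^ i * (x ^ j)⁻¹ := by rw [← hi]
        _ = (w ^ (i ^ j : ℤ)) ^ i := by rw [← conj_zpow, ih]
        _ = _ := by rw [← zpow_mul, pow_succ]
  have h1 := hpow (p ^ k)
  rw [hc.eq, mul_inv_cancel_right] at h1
  have h2 : ((i : ZMod p)) ^ (p ^ k) = 1 := by
    have h3 : (p : ℤ) ∣ i ^ (p ^ k) - 1 := by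
      have h3' : (orderOf w : ℤ) ∣ i ^ (p ^ k) - 1 := by
        rw [orderOf_dvd_sub_iff_zpow_eq_zpow, zpow_one]
        exact h1.symm
      rwa [hw] at h3'
    rw [← ZMod.intCast_zmod_eq_zero_iff_dvd] at h3
    push_cast at h3
    exact sub_eq_zero.1 h3
  rw [ZMod.pow_card_pow] at h2
  have h4 : (p : ℤ) ∣ i - 1 := by
    rw [← ZMod.intCast_zmod_eq_zero_iff_dvd]
    push_cast
    rw [h2, sub_self]
  rw [← hw, orderOf_dvd_sub_iff_zpow_eq_zpow, zpow_one] at h4
  exact hi.symm.trans h4

/-- Let G be a finite group all of whose conjugacy class sizes are square-free. Then G is supersolvable, G/F(G) and the derived subgroup G′ are cyclic of square-free order (F(G) the Fitting subgroup, which is normal), F(G) has nilpotency class at most 2, and G is metabelian. -/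
theorem result {G : Type*} [Group G] [Finite G]
    (h : ∀ x : G, Squarefree (Subgroup.centralizer ({x} : Set G)).index) :
    Cfsg.IsSupersolvable G ∧ (Cfsg.fittingSubgroup G).Normal ∧
    (∀ _h : (Cfsg.fittingSubgroup G).Normal, IsCyclic (G ⧸ Cfsg.fittingSubgroup G) ∧ Squarefree (Cfsg.fittingSubgroup G).index) ∧
    IsCyclic (commutator G) ∧ Squarefree (Nat.card (commutator G)) ∧
    Subgroup.upperCentralSeries ↥(Cfsg.fittingSubgroup G) 2 = ⊤ ∧ commutator ↥(commutator G) = ⊥ := by
  have hSF : SF G := h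
  have hcyc := commutator_isCyclic hSF
  have hsq := commutator_squarefree hSF
  haveI hnG : (_root_.commutator G).Normal := inferInstance
  obtain ⟨⟨z, hz⟩, hgen⟩ := hcyc.exists_generator
  have hgen' : ∀ y ∈ _root_.commutator G, ∃ i : ℤ, z ^ i = y := fun y hy => by
    obtain ⟨i, hi⟩ := hgen ⟨y, hy⟩
    exact ⟨i, by simpa using congrArg Subtype.val hi⟩
  set C := centralizer ({z} : Set G) with hC
  have hcomm : ∀ y ∈ _root_.commutator G, ∀ c ∈ C, y * c = c * y := by
    intro y hy c hc
    obtain ⟨i, rfl⟩ := hgen' y hy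
    have hcz : Commute c z := mem_cent.1 hc
    exact (hcz.zpow_right i).eq.symm
  have hGC : _root_.commutator G ≤ C := fun y hy => by
    obtain ⟨i, rfl⟩ := hgen' y hy
    exact mem_cent.2 ((Commute.refl z).zpow_left i).eq
  haveI : C.Normal := Subgroup.Normal.of_commutator_le _ hGC
  have hCnil : Group.IsNilpotent C := by
    let f : C →* Abelianization G := (Abelianization.of).comp C.subtype
    refine Subgroup.isNilpotent_of_ker_le_center f fun x hx => ?_
    rw [Subgroup.mem_center_iff]
    intro y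
    have hx' : (x : G) ∈ _root_.commutator G := by
      rwa [← Abelianization.ker_of, MonoidHom.mem_ker]
    exact Subtype.ext (hcomm _ hx' _ y.2).symm
  set F := Cfsg.fittingSubgroup G with hF
  have hFn : F.Normal := inferInstance
  have hCF : C ≤ F := le_sSup ⟨inferInstance, hCnil⟩
  have hFC : F ≤ C := by
    intro x hx
    rw [hC, mem_cent, eq_comm, ← commutatorElement_eq_one_iff_mul_comm]
    obtain ⟨i, hi⟩ := hgen' _ (hnG.conj_mem z hz x)
    have he : ⁅z, x⁆ = z ^ (1 - i) := by
      have h2 : x * z⁻¹ * x⁻¹ = (z ^ i)⁻¹ := by rw [hi]; group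
      calc ⁅z, x⁆ = z * (x * z⁻¹ * x⁻¹) := by simp only [commutatorElement_def]; group
        _ = z ^ (1 - i) := by rw [h2]; group
    rw [he, ← orderOf_dvd_iff_zpow_eq_one]
    -- it suffices to check this for every prime
    have hzo : Nat.card (_root_.commutator G) = orderOf z := by
      rw [← Subgroup.orderOf_mk z hz, orderOf_eq_card_of_forall_mem_zpowers hgen]
    have hsqz : Squarefree (orderOf z) := hzo ▸ hsq
    have key : ∀ p : ℕ, p.Prime → p ∣ orderOf z → (p : ℤ) ∣ 1 - i := by
      intro p hp hpd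
      haveI : Fact p.Prime := ⟨hp⟩
      obtain ⟨w, hw⟩ : ∃ w, w = z ^ (orderOf z / p) := ⟨_, rfl⟩
      have hwo : orderOf w = p := by rw [hw, orderOf_pow_orderOf_div (orderOf_pos z).ne' hpd]
      have hwF : w ∈ F := hCF (hGC (hw ▸ pow_mem hz _))
      have hwn : (zpowers (⟨w, hwF⟩ : F)).Normal := by
        refine ⟨fun y hy g => ?_⟩
        obtain ⟨j, rfl⟩ := hy
        obtain ⟨l, hl⟩ := hgen' _ (hnG.conj_mem z hz (g : G))
        refine ⟨l * j, Subtype.ext ?_⟩
        simp only [Subgroup.coe_mul, Subgroup.coe_inv, SubgroupClass.coe_zpow]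
        rw [hw, ← conj_zpow, ← conj_pow, ← hl]
        simp only [← zpow_natCast, ← zpow_mul]
        congr 1
        ring
      have := congrArg Subtype.val (commute_of_normal_prime (p := p)
        (by rw [Subgroup.orderOf_mk, hwo]) hwn (⟨x, hx⟩ : F))
      simp only [Subgroup.coe_mul, Subgroup.coe_inv] at this
      rw [hw, ← conj_pow, ← hi, ← zpow_natCast, ← zpow_mul, ← hw] at this
      have h5 : w ^ i = w ^ (1 : ℤ) := by
        rw [zpow_one]
        conv_lhs => rw [hw, ← zpow_natCast, ← zpow_mul, mul_comm]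
        exact this
      rw [← hwo, orderOf_dvd_sub_iff_zpow_eq_zpow]
      exact h5.symm
    rw [Int.natCast_dvd]
    rw [← Nat.prod_primeFactors_of_squarefree hsqz]
    refine Finset.prod_primes_dvd _ (fun p hp => (Nat.prime_of_mem_primeFactors hp).prime) fun p hp => ?_
    exact Int.natCast_dvd.1 (key p (Nat.prime_of_mem_primeFactors hp) (Nat.dvd_of_mem_primeFactors hp))
  have hFeq : F = C := le_antisymm hFC hCF
  refine ⟨?_, hFn, fun hN => ⟨?_, hFeq ▸ h z⟩, hcyc, hsq, ?_, ?_⟩
  · exact Cfsg.Agent.Supersolvable.of_cyclic_normal _ hcyc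
      (supersolvable_of_comm (quotient_comm _ le_rfl))
  · haveI : IsMulCommutative (G ⧸ F) := ⟨⟨quotient_comm F (hFeq ▸ hGC)⟩⟩
    haveI : IsZGroup (G ⧸ F) := IsZGroup.of_squarefree (by
      rw [← Subgroup.index_eq_card]; exact hFeq ▸ h z)
    haveI : Group.IsNilpotent (G ⧸ F) :=
      Subgroup.isNilpotent_of_ker_le_center (Abelianization.of (G := G ⧸ F)) (fun x _ => by
        rw [Subgroup.mem_center_iff]; exact fun y => quotient_comm F (hFeq ▸ hGC) y x)
    infer_instance
  · rw [eq_top_iff]
    intro x _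
    rw [Subgroup.mem_upperCentralSeries_succ_iff]
    intro y
    rw [Subgroup.upperCentralSeries_one, Subgroup.mem_center_iff]
    intro w
    exact Subtype.ext (hcomm _ (commutator_mem (x : G) (y : G)) _ (hFC w.2)).symm
  · rw [commutator_eq_bot_iff]
    exact IsCyclic.isMulCommutative

end Cfsg.Agent.S4130
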