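import Cfsg.Statements.S4134
import Mathlib
import Cfsg.Agent.Lib.H74Basic
import Cfsg.Agent.Lib.CoprimeActionAut
import Cfsg.Agent.Lib.PuigBasic

set_option autoImplicit false
open Cfsg

namespace Cfsg.Agent.S4134

section
open scoped Classical

variable {G : Type*} [Group G]

theorem mem_cen {x c : G} : c ∈ Subgroup.centralizer ({x} : Set G) ↔ Commute c x := by
  rw [Subgroup.mem_centralizer_singleton_iff]; exact Iff.rfl

theorem mem_center_comm {x : G} : x ∈ Subgroup.center G ↔ ∀ g, Commute g x :=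
  Subgroup.mem_center_iff

/-- The `q`-part of an abelian subgroup. -/
def qPart (A : Subgroup G) (hA : ∀ a ∈ A, ∀ b ∈ A, Commute a b) (q : ℕ) : Subgroup G where
  carrier := {c | c ∈ A ∧ ∃ k : ℕ, c ^ q ^ k = 1}
  one_mem' := ⟨A.one_mem, 0, one_pow _⟩
  mul_mem' := by
    rintro a b ⟨ha, i, hi⟩ ⟨hb, j, hj⟩
    refine ⟨A.mul_mem ha hb, i + j, ?_⟩
    rw [(hA a ha b hb).mul_pow]
    have h1 : a ^ q ^ (i + j) = 1 := by rw [pow_add, pow_mul, hi, one_pow]
    have h2 : b ^ q ^ (i + j) = 1 := by rw [Nat.add_comm, pow_add, pow_mul, hj, one_pow]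
    rw [h1, h2, one_mul]
  inv_mem' := by
    rintro a ⟨ha, i, hi⟩
    exact ⟨A.inv_mem ha, i, by rw [inv_pow, hi, inv_one]⟩

theorem qPart_le (A : Subgroup G) (hA : ∀ a ∈ A, ∀ b ∈ A, Commute a b) (q : ℕ) : qPart A hA q ≤ A :=
  fun _ h => h.1

theorem qPart_isPGroup (A : Subgroup G) (hA : ∀ a ∈ A, ∀ b ∈ A, Commute a b) (q : ℕ) :
    IsPGroup q (qPart A hA q) := by
  rintro ⟨c, hc, k, hk⟩
  exact ⟨k, Subtype.ext hk⟩

variable [Finite G]

theorem card_qPart (A : Subgroup G) (hA : ∀ a ∈ A, ∀ b ∈ A, Commute a b) (q : ℕ) [hq : Fact q.Prime] :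
    Nat.card (qPart A hA q) = q ^ (Nat.card A).factorization q := by
  obtain ⟨R⟩ := (inferInstance : Nonempty (Sylow q A))
  have hR : (qPart A hA q).subgroupOf A = R :=
    R.is_maximal' ((qPart_isPGroup A hA q).of_equiv (Subgroup.subgroupOfEquivOfLe (qPart_le A hA q)).symm)
      (fun x hx => by
        obtain ⟨k, hk⟩ := R.isPGroup' ⟨x, hx⟩
        exact ⟨x.2, k, congrArg (fun y : (R : Subgroup A) => ((y : A) : G)) hk⟩)
  rw [← Nat.card_congr (Subgroup.subgroupOfEquivOfLe (qPart_le A hA q)).toEquiv, hR, R.card_eq_multiplicity]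

theorem mem_zpowers_mul {x y : G} (hc : Commute x y) (hcop : (orderOf x).Coprime (orderOf y)) :
    x ∈ Subgroup.zpowers (x * y) := by
  obtain ⟨k, hk1, hk2⟩ := Nat.chineseRemainder hcop 1 0
  have hx : x ^ k = x := by
    conv_rhs => rw [← pow_one x]
    exact pow_eq_pow_iff_modEq.2 hk1
  have hy : y ^ k = 1 := by
    rw [← pow_zero y]; exact pow_eq_pow_iff_modEq.2 hk2
  refine Subgroup.mem_zpowers_iff.2 ⟨k, ?_⟩
  rw [zpow_natCast, hc.mul_pow, hx, hy, mul_one]

theorem commute_of_mem_zpowers {a b c : G} (ha : a ∈ Subgroup.zpowers b) (h : Commute c b) :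
    Commute c a := by
  obtain ⟨i, rfl⟩ := Subgroup.mem_zpowers_iff.1 ha
  exact h.zpow_right i

/-- The class size hypothesis. -/
def TwoSizes (G : Type*) [Group G] (n : ℕ) : Prop :=
  ∀ x : G, x ∉ Subgroup.center G → (Subgroup.centralizer ({x} : Set G)).index = n

variable {n : ℕ} (H : TwoSizes G n)
include H

theorem card_cen_eq {x y : G} (hx : x ∉ Subgroup.center G) (hy : y ∉ Subgroup.center G) :
    Nat.card (Subgroup.centralizer ({x} : Set G)) = Nat.card (Subgroup.centralizer ({y} : Set G)) := by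
  have hn : 0 < n := H x hx ▸ Nat.pos_of_ne_zero Subgroup.index_ne_zero_of_finite
  refine Nat.eq_of_mul_eq_mul_right hn ?_
  conv_lhs => rw [← H x hx]
  conv_rhs => rw [← H y hy]
  rw [Subgroup.card_mul_index, Subgroup.card_mul_index]

theorem cen_eq_of_le {x y : G} (hx : x ∉ Subgroup.center G) (hy : y ∉ Subgroup.center G)
    (hle : Subgroup.centralizer ({x} : Set G) ≤ Subgroup.centralizer ({y} : Set G)) :
    Subgroup.centralizer ({x} : Set G) = Subgroup.centralizer ({y} : Set G) :=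
  Subgroup.eq_of_le_of_card_ge hle (card_cen_eq H hx hy).ge

/-- `p'`-elements of the centraliser of a non-central `p`-element are central in it. -/
theorem commute_of_coprime {x y c : G} (hx : x ∉ Subgroup.center G)
    (hxy : Commute x y) (hcop : (orderOf x).Coprime (orderOf y))
    (hc : Commute c x) : Commute c y := by
  have hxm := mem_zpowers_mul hxy hcop
  have hym : y ∈ Subgroup.zpowers (x * y) := hxy.eq ▸ mem_zpowers_mul hxy.symm hcop.symm
  have hz : x * y ∉ Subgroup.center G := fun h => hx (Subgroup.zpowers_le.2 h hxm)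
  have hle : Subgroup.centralizer ({x * y} : Set G) ≤ Subgroup.centralizer ({x} : Set G) :=
    fun d hd => mem_cen.2 (commute_of_mem_zpowers hxm (mem_cen.1 hd))
  have heq := cen_eq_of_le H hz hx hle
  exact commute_of_mem_zpowers hym (mem_cen.1 (heq.symm ▸ mem_cen.2 hc))

/-- If a non-central `q`-element exists, every centraliser has a non-central `q`-element. -/
theorem exists_noncentral_in_cen {q : ℕ} [hq : Fact q.Prime] {x y : G} (hx : x ∉ Subgroup.center G)
    (hy : y ∉ Subgroup.center G) (hyq : ∃ k, orderOf y = q ^ k) :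
    ∃ c ∈ Subgroup.centralizer ({x} : Set G), c ∉ Subgroup.center G ∧ ∃ k, orderOf c = q ^ k := by
  by_contra hno
  push_neg at hno
  obtain ⟨R⟩ := (inferInstance : Nonempty (Sylow q (Subgroup.centralizer ({x} : Set G))))
  set R' := (R : Subgroup (Subgroup.centralizer ({x} : Set G))).map
    (Subgroup.centralizer ({x} : Set G)).subtype with hR'
  have hcomm : ∀ a ∈ Subgroup.center G, ∀ b ∈ Subgroup.center G, Commute a b := fun a _ b hb =>
    mem_center_comm.1 hb a
  set Zq := qPart (Subgroup.center G) hcomm q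
  have hR'Z : R' ≤ Zq := by
    rintro _ ⟨r, hr, rfl⟩
    obtain ⟨k, hk⟩ := IsPGroup.iff_orderOf.1 R.isPGroup' ⟨r, hr⟩
    rw [Subgroup.orderOf_mk] at hk
    have hk' : orderOf (r : G) = q ^ k := by rw [Subgroup.orderOf_coe]; exact hk
    refine ⟨by_contra fun h => hno _ r.2 h k hk', k, ?_⟩
    rw [← hk']; exact pow_orderOf_eq_one _
  obtain ⟨k, hk⟩ := hyq
  have hyc : ∀ a ∈ Subgroup.zpowers y, ∀ b ∈ Subgroup.zpowers y, Commute a b := fun a ha b hb =>
    commute_of_mem_zpowers hb (commute_of_mem_zpowers ha (Commute.refl y)).symm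
  set T := Zq ⊔ Subgroup.zpowers y
  haveI : Zq.Normal := ⟨fun z hz g => by
    rw [mem_center_comm.1 hz.1 g |>.eq, mul_inv_cancel_right]; exact hz⟩
  have hT : IsPGroup q T := IsPGroup.to_sup_of_normal_left (qPart_isPGroup _ hcomm q)
    (IsPGroup.of_card (n := k) (by rw [Nat.card_zpowers, hk]))
  have hTC : T ≤ Subgroup.centralizer ({y} : Set G) := sup_le
    (fun z hz => mem_cen.2 ((mem_center_comm.1 hz.1 y).symm))
    (Subgroup.zpowers_le.2 (mem_cen.2 (Commute.refl y)))
  obtain ⟨S, hS⟩ := (hT.of_equiv (Subgroup.subgroupOfEquivOfLe hTC).symm).exists_le_sylow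
  have h1 : Nat.card T ≤ Nat.card (S : Subgroup (Subgroup.centralizer ({y} : Set G))) := by
    rw [← Nat.card_congr (Subgroup.subgroupOfEquivOfLe hTC).toEquiv]
    exact Subgroup.card_le_of_le hS
  have h2 : Nat.card R' = Nat.card (S : Subgroup (Subgroup.centralizer ({y} : Set G))) := by
    rw [hR', Subgroup.card_map_of_injective (Subgroup.subtype_injective _), R.card_eq_multiplicity,
      S.card_eq_multiplicity, card_cen_eq H hx hy]
  have h3 : Nat.card Zq < Nat.card T := by
    by_contra hge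
    have : Zq = T := Subgroup.eq_of_le_of_card_ge le_sup_left (not_lt.1 hge)
    have hmem : y ∈ Zq := this.symm ▸ (Subgroup.mem_sup_right (Subgroup.mem_zpowers y) : y ∈ T)
    exact hy hmem.1
  have := Subgroup.card_le_of_le hR'Z
  omega

omit H in
theorem exists_noncentral_of_dvd {q : ℕ} [hq : Fact q.Prime] {x : G}
    (hq' : q ∣ (Subgroup.centralizer ({x} : Set G)).index) :
    ∃ y : G, y ∉ Subgroup.center G ∧ ∃ k, orderOf y = q ^ k := by
  by_contra hno
  push_neg at hno
  obtain ⟨Q⟩ := (inferInstance : Nonempty (Sylow q G))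
  refine Q.not_dvd_index (hq'.trans (Subgroup.index_dvd_of_le ?_))
  intro c hc
  obtain ⟨k, hk⟩ := IsPGroup.iff_orderOf.1 Q.isPGroup' ⟨c, hc⟩
  rw [Subgroup.orderOf_mk] at hk
  have : c ∈ Subgroup.center G := by_contra fun h => hno c h k hk
  exact mem_cen.2 (mem_center_comm.1 this x).symm

omit H in
theorem coprime_part {p : ℕ} (g : G) (hg : (orderOf g).Coprime p) (hgZ : g ∉ Subgroup.center G) :
    ∃ q : ℕ, q.Prime ∧ q ≠ p ∧ ∃ y : G, y ∈ Subgroup.zpowers g ∧ y ∉ Subgroup.center G ∧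
      ∃ k, orderOf y = q ^ k := by
  obtain ⟨q, k, m, hq, hk, hm, -⟩ := H74Basic.exists_primePart_notMem hgZ
  refine ⟨q, hq, ?_, g ^ m, Subgroup.npow_mem_zpowers g m, hm, k, hk⟩
  rintro rfl
  rcases k with _ | k
  · rw [pow_zero, orderOf_eq_one_iff] at hk
    exact hm (hk ▸ Subgroup.one_mem _)
  · refine hq.not_dvd_one ?_
    rw [← hg.gcd_eq_one]
    refine Nat.dvd_gcd ?_ dvd_rfl
    exact ((dvd_pow_self q k.succ_ne_zero).trans (hk ▸ dvd_rfl)).trans (orderOf_pow_dvd m)

/-- All `p'`-elements central. -/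
def PPrimeCentral (G : Type*) [Group G] (p : ℕ) : Prop :=
  ∀ g : G, (orderOf g).Coprime p → g ∈ Subgroup.center G

theorem of_nonabelian {x : G} (hx : x ∉ Subgroup.center G) {p : ℕ} [Fact p.Prime]
    (hxp : ∃ k, orderOf x = p ^ k)
    (hna : ¬ ∀ a ∈ Subgroup.centralizer ({x} : Set G), ∀ b ∈ Subgroup.centralizer ({x} : Set G), Commute a b) :
    PPrimeCentral G p := by
  intro g hg
  by_contra hgZ
  obtain ⟨q, hq, hqp, y, -, hy, hyq⟩ := coprime_part g hg hgZ
  haveI := Fact.mk hq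
  obtain ⟨c, hc, hcZ, j, hj⟩ := exists_noncentral_in_cen H hx hy hyq
  obtain ⟨i, hi⟩ := hxp
  have hp : p.Prime := Fact.out
  have hcx : (orderOf x).Coprime (orderOf c) := by
    rw [hi, hj]; exact ((Nat.coprime_primes hp hq).2 (Ne.symm hqp)).pow i j
  have hle : Subgroup.centralizer ({x} : Set G) ≤ Subgroup.centralizer ({c} : Set G) := fun d hd =>
    mem_cen.2 (commute_of_coprime H hx (mem_cen.1 hc).symm hcx (mem_cen.1 hd))
  have heq := cen_eq_of_le H hx hcZ hle
  apply hna
  intro a ha b hb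
  -- split `a` into `p`-part and `p'`-part
  obtain ⟨s, z, rfl, hsz, ⟨e, he⟩, hz⟩ := H74Basic.exists_parts (p := p) a
  have hsm : s ∈ Subgroup.zpowers (s * z) := mem_zpowers_mul hsz (by
    rw [he]; exact (Nat.Coprime.pow_right e hz).symm)
  have hzm : z ∈ Subgroup.zpowers (s * z) := hsz.eq ▸ mem_zpowers_mul hsz.symm (by
    rw [he]; exact Nat.Coprime.pow_right e hz)
  have hzc : z ∈ Subgroup.centralizer ({x} : Set G) := Subgroup.zpowers_le.2 ha hzm
  have hsc : s ∈ Subgroup.centralizer ({c} : Set G) := heq ▸ Subgroup.zpowers_le.2 ha hsm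
  have hbz : Commute b z := commute_of_coprime H hx (mem_cen.1 hzc).symm (by
    rw [hi]; exact (Nat.Coprime.pow_right i hz).symm) (mem_cen.1 hb)
  have hbs : Commute b s := commute_of_coprime H hcZ (mem_cen.1 hsc).symm (by
    rw [hj, he]; exact ((Nat.coprime_primes hq hp).2 hqp).pow j e)
    (mem_cen.1 (heq ▸ hb))
  exact (hbs.mul_right hbz).symm

omit H in
theorem exists_special {p : ℕ} [hp : Fact p.Prime] (P : Sylow p G)
    (hP : ¬ (P : Subgroup G) ≤ Subgroup.center G) :
    ∃ u ∈ (P : Subgroup G), u ∉ Subgroup.center G ∧ u ^ p ∈ Subgroup.center G ∧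
      ∀ g ∈ (P : Subgroup G), g * u * g⁻¹ * u⁻¹ ∈ Subgroup.center G := by
  set Z₀ := (Subgroup.center G).subgroupOf (P : Subgroup G) with hZ₀
  haveI : Nontrivial ((P : Subgroup G) ⧸ Z₀) := by
    rw [QuotientGroup.nontrivial_iff]
    exact fun h => hP (Subgroup.subgroupOf_eq_top.1 h)
  have hpg : IsPGroup p ((P : Subgroup G) ⧸ Z₀) := P.isPGroup'.to_quotient _
  haveI := hpg.center_nontrivial
  obtain ⟨k, hk⟩ := IsPGroup.iff_card.1 (hpg.to_subgroup (Subgroup.center ((P : Subgroup G) ⧸ Z₀)))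
  have hdvd : p ∣ Nat.card (Subgroup.center ((P : Subgroup G) ⧸ Z₀)) := by
    rw [hk]
    refine dvd_pow_self p fun h => ?_
    rw [h, pow_zero] at hk
    exact absurd hk Finite.one_lt_card.ne'
  obtain ⟨⟨v, hvc⟩, hv⟩ := exists_prime_orderOf_dvd_card' p hdvd
  rw [Subgroup.orderOf_mk] at hv
  obtain ⟨u, rfl⟩ := QuotientGroup.mk_surjective v
  refine ⟨u, u.2, fun h => ?_, ?_, fun g hg => ?_⟩
  · rw [(QuotientGroup.eq_one_iff u).2 h, orderOf_one] at hv
    exact hp.out.ne_one hv.symm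
  · have h := pow_orderOf_eq_one (u : (P : Subgroup G) ⧸ Z₀)
    rw [hv, ← QuotientGroup.mk_pow, QuotientGroup.eq_one_iff, hZ₀, Subgroup.mem_subgroupOf] at h
    simpa using h
  · have h := Subgroup.mem_center_iff.1 hvc ((⟨g, hg⟩ : (P : Subgroup G)) : (P : Subgroup G) ⧸ Z₀)
    have h' : (((⟨g, hg⟩ : (P : Subgroup G)) * u * (⟨g, hg⟩ : (P : Subgroup G))⁻¹ * u⁻¹ : (P : Subgroup G)) :
        (P : Subgroup G) ⧸ Z₀) = 1 := by
      rw [QuotientGroup.mk_mul, QuotientGroup.mk_mul, QuotientGroup.mk_mul, h, QuotientGroup.mk_inv,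
        QuotientGroup.mk_inv]
      group
    rw [QuotientGroup.eq_one_iff, hZ₀, Subgroup.mem_subgroupOf] at h'
    simpa using h'

/-- A special element: its centraliser `C` is normalised by a Sylow `p`-subgroup `P`, and `P/(P ∩ C)` is
elementary abelian. -/
theorem special_props {p : ℕ} [hp : Fact p.Prime] (P : Sylow p G) {u : G}
    (hu : u ∉ Subgroup.center G) (hup : u ^ p ∈ Subgroup.center G)
    (hcomm : ∀ g ∈ (P : Subgroup G), g * u * g⁻¹ * u⁻¹ ∈ Subgroup.center G) :
    (P : Subgroup G) ≤ Subgroup.normalizer ((Subgroup.centralizer ({u} : Set G) : Subgroup G) : Set G) ∧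
      (∀ g ∈ (P : Subgroup G), g ^ p ∈ Subgroup.centralizer ({u} : Set G)) ∧
      ∀ g ∈ (P : Subgroup G), ∀ h ∈ (P : Subgroup G), g * h * g⁻¹ * h⁻¹ ∈ Subgroup.centralizer ({u} : Set G) := by
  let c : G → G := fun g => g * u * g⁻¹ * u⁻¹
  have hconj : ∀ g, g * u * g⁻¹ = c g * u := fun g => (inv_mul_cancel_right _ u).symm
  have hcz : ∀ g ∈ (P : Subgroup G), ∀ d : G, Commute d (c g) := fun g hg => mem_center_comm.1 (hcomm g hg)
  refine ⟨fun g hg => Subgroup.mem_normalizer_iff.2 fun d => ?_, fun g hg => ?_, fun g hg h hh => ?_⟩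
  · simp only [SetLike.mem_coe, mem_cen]
    constructor
    · intro hd
      have h1 : Commute (g * d * g⁻¹) (g * u * g⁻¹) := by
        show _ = _
        rw [conj_mul, conj_mul, hd.eq]
      rw [hconj] at h1
      have h2 := (hcz g hg (g * d * g⁻¹)).inv_right.mul_right h1
      rwa [inv_mul_cancel_left] at h2
    · intro hd
      have h1 : Commute (g * d * g⁻¹) (g * u * g⁻¹) := by
        rw [hconj]; exact (hcz g hg _).mul_right hd
      show _ = _
      have h1' := h1.eq
      rw [conj_mul, conj_mul] at h1'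
      exact mul_left_cancel (mul_right_cancel h1')
  · rw [mem_cen]
    have hz : c g ^ p = 1 := by
      have h1 : (g * u * g⁻¹) ^ p = u ^ p := by
        rw [conj_pow, (mem_center_comm.1 hup g).eq, mul_inv_cancel_right]
      rw [hconj, ((hcz g hg u).symm).mul_pow] at h1
      exact mul_eq_right.1 h1
    have hi : ∀ i : ℕ, g ^ i * u = c g ^ i * u * g ^ i := by
      intro i
      induction i with
      | zero => simp
      | succ i ih =>
        have hgu : g * u = c g * u * g := by rw [← hconj]; group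
        calc g ^ (i + 1) * u = g * (g ^ i * u) := by rw [pow_succ', mul_assoc]
          _ = (g * c g ^ i) * u * g ^ i := by rw [ih]; group
          _ = c g ^ i * (g * u) * g ^ i := by rw [((hcz g hg g).pow_right i).eq]; group
          _ = c g ^ (i + 1) * u * g ^ (i + 1) := by rw [hgu, pow_succ (c g), pow_succ' g]; group
    show _ = _
    rw [hi p, hz, one_mul]
  · rw [mem_cen]
    have hi : ∀ a ∈ (P : Subgroup G), a⁻¹ * u * a = (c a)⁻¹ * u := by
      intro a ha
      calc a⁻¹ * u * a = a⁻¹ * ((c a)⁻¹ * (a * u * a⁻¹)) * a := by rw [hconj, inv_mul_cancel_left]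
        _ = (a⁻¹ * (c a)⁻¹) * a * u := by group
        _ = _ := by rw [(hcz a ha a⁻¹).inv_right.eq]; group
    show _ = _
    refine mul_inv_eq_iff_eq_mul.1 ?_
    calc g * h * g⁻¹ * h⁻¹ * u * (g * h * g⁻¹ * h⁻¹)⁻¹
        = g * (h * (g⁻¹ * (h⁻¹ * u * h) * g) * h⁻¹) * g⁻¹ := by group
      _ = g * (h * (g⁻¹ * ((c h)⁻¹ * u) * g) * h⁻¹) * g⁻¹ := by rw [hi h hh]
      _ = g * (h * ((g⁻¹ * (c h)⁻¹) * u * g) * h⁻¹) * g⁻¹ := by group
      _ = g * (h * ((c h)⁻¹ * (g⁻¹ * u * g)) * h⁻¹) * g⁻¹ := by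
          rw [(hcz h hh g⁻¹).inv_right.eq]; group
      _ = g * (h * ((c h)⁻¹ * ((c g)⁻¹ * u)) * h⁻¹) * g⁻¹ := by rw [hi g hg]
      _ = g * ((h * (c h)⁻¹) * (c g)⁻¹ * u * h⁻¹) * g⁻¹ := by group
      _ = g * ((c h)⁻¹ * (h * (c g)⁻¹) * u * h⁻¹) * g⁻¹ := by
          rw [(hcz h hh h).inv_right.eq]; group
      _ = g * ((c h)⁻¹ * (c g)⁻¹ * (h * u * h⁻¹)) * g⁻¹ := by
          rw [(hcz g hg h).inv_right.eq]; group
      _ = g * ((c h)⁻¹ * ((c g)⁻¹ * c h) * u) * g⁻¹ := by rw [hconj h]; group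
      _ = g * ((c g)⁻¹ * u) * g⁻¹ := by
          rw [((hcz h hh (c g)⁻¹)).eq]; group
      _ = (c g)⁻¹ * (g * u * g⁻¹) := by
          rw [← mul_assoc g, (hcz g hg g).inv_right.eq]; group
      _ = u := by rw [hconj g, inv_mul_cancel_left]

variable (hab : ∀ x : G, x ∉ Subgroup.center G → ∀ a ∈ Subgroup.centralizer ({x} : Set G),
  ∀ b ∈ Subgroup.centralizer ({x} : Set G), Commute a b)
include hab

theorem cen_eq_of_mem {x y : G} (hx : x ∉ Subgroup.center G) (hy : y ∉ Subgroup.center G)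
    (hyx : y ∈ Subgroup.centralizer ({x} : Set G)) :
    Subgroup.centralizer ({x} : Set G) = Subgroup.centralizer ({y} : Set G) :=
  cen_eq_of_le H hx hy fun d hd => mem_cen.2 (hab x hx d hd y hyx)

theorem sub_one_dvd {x : G} (hx : x ∉ Subgroup.center G) :
    (Subgroup.center G).relIndex (Subgroup.centralizer ({x} : Set G)) - 1 ∣ n - 1 := by
  haveI := Fintype.ofFinite G
  set Z := Subgroup.center G
  set m := Z.relIndex (Subgroup.centralizer ({x} : Set G)) with hm
  have hZC : ∀ y : G, Z ≤ Subgroup.centralizer ({y} : Set G) := fun y z hz =>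
    mem_cen.2 (mem_center_comm.1 hz y).symm
  have hmC : m * Nat.card Z = Nat.card (Subgroup.centralizer ({x} : Set G)) := by
    rw [hm, ← Subgroup.relIndex_bot_left Z, ← Subgroup.relIndex_bot_left (Subgroup.centralizer ({x} : Set G)),
      mul_comm]
    exact Subgroup.relIndex_mul_relIndex ⊥ _ _ bot_le (hZC x)
  set S := Finset.univ.filter (fun y : G => y ∉ Z) with hS
  have hScard : S.card + Nat.card Z = Nat.card G := by
    rw [Nat.card_eq_fintype_card, Nat.card_eq_fintype_card, Fintype.card_subtype, hS, Nat.add_comm,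
      ← Finset.card_union_of_disjoint (Finset.disjoint_filter_filter_not _ _ _), Finset.filter_union_filter_not_eq,
      Finset.card_univ]
  have hfib : ∀ y ∈ S, (S.filter (fun z => Subgroup.centralizer ({z} : Set G) = Subgroup.centralizer ({y} : Set G))).card =
      (m - 1) * Nat.card Z := by
    intro y hy
    have hyZ : y ∉ Z := (Finset.mem_filter.1 hy).2
    have hset : S.filter (fun z => Subgroup.centralizer ({z} : Set G) = Subgroup.centralizer ({y} : Set G)) =
        (Finset.univ.filter (· ∈ Subgroup.centralizer ({y} : Set G))) \ (Finset.univ.filter (· ∈ Z)) := by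
      ext z
      simp only [hS, Finset.mem_filter, Finset.mem_univ, true_and, Finset.mem_sdiff]
      constructor
      · rintro ⟨hz, he⟩
        exact ⟨he ▸ mem_cen.2 (Commute.refl z), hz⟩
      · rintro ⟨hz, hz'⟩
        exact ⟨hz', (cen_eq_of_mem H hab hyZ hz' hz).symm⟩
    rw [hset, Finset.card_sdiff_of_subset (fun z hz => Finset.mem_filter.2 ⟨Finset.mem_univ _, hZC y (Finset.mem_filter.1 hz).2⟩),
      ← Fintype.card_subtype, ← Fintype.card_subtype, ← Nat.card_eq_fintype_card, ← Nat.card_eq_fintype_card,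
      card_cen_eq H hyZ hx, ← hmC, Nat.sub_mul, one_mul]
  have hdvd : (m - 1) * Nat.card Z ∣ S.card := by
    rw [Finset.card_eq_sum_card_image (fun z => Subgroup.centralizer ({z} : Set G)) S]
    refine Finset.dvd_sum fun K hK => ?_
    obtain ⟨y, hy, rfl⟩ := Finset.mem_image.1 hK
    rw [hfib y hy]
  have hG : Nat.card G = n * (m * Nat.card Z) := by
    rw [hmC, ← H x hx, Subgroup.index_mul_card]
  have hS' : S.card = (n * m - 1) * Nat.card Z := by
    rw [Nat.sub_mul, one_mul, mul_assoc, ← hG]; omega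
  rw [hS'] at hdvd
  have h1 := Nat.dvd_of_mul_dvd_mul_right Nat.card_pos hdvd
  have hmpos : 0 < m := Nat.pos_of_ne_zero fun h => by
    rw [h, zero_mul] at hmC; exact Nat.card_pos.ne hmC
  have hnpos : 0 < n := H x hx ▸ Nat.pos_of_ne_zero Subgroup.index_ne_zero_of_finite
  have he : n * m - 1 = (m - 1) * n + (n - 1) := by
    have : n ≤ n * m := Nat.le_mul_of_pos_right n hmpos
    rw [Nat.sub_mul, one_mul, mul_comm m]; omega
  rw [he] at h1
  exact (Nat.dvd_add_right (dvd_mul_right _ _)).1 h1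

theorem pPrimeCentral_of_primePow {p a : ℕ} [hp : Fact p.Prime] (hn : n = p ^ a) (ha : a ≠ 0)
    {x₀ : G} (hx₀ : x₀ ∉ Subgroup.center G) : PPrimeCentral G p := by
  obtain ⟨P⟩ := (inferInstance : Nonempty (Sylow p G))
  have hpn : p ∣ (Subgroup.centralizer ({x₀} : Set G)).index := by
    rw [H x₀ hx₀, hn]; exact dvd_pow_self p ha
  have hP : ¬ (P : Subgroup G) ≤ Subgroup.center G := fun hle => P.not_dvd_index
    (hpn.trans (Subgroup.index_dvd_of_le (hle.trans fun z hz => mem_cen.2 (mem_center_comm.1 hz x₀).symm)))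
  obtain ⟨u, huP, hu, hup, hcomm⟩ := exists_special P hP
  obtain ⟨hnorm, -, -⟩ := special_props H P hu hup hcomm
  set C := Subgroup.centralizer ({u} : Set G) with hC
  have hCn : C.Normal := by
    rw [← Subgroup.normalizer_eq_top_iff, ← Subgroup.index_eq_one]
    have h1 : (Subgroup.normalizer (C : Set G)).index ∣ p ^ a := by
      rw [← hn, ← H u hu]
      exact Subgroup.index_dvd_of_le Subgroup.le_normalizer
    have h2 := Subgroup.index_dvd_of_le hnorm
    obtain ⟨b, -, hb⟩ := (Nat.dvd_prime_pow hp.out).1 h1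
    rcases b with _ | b
    · simpa using hb
    · exact absurd (((dvd_pow_self p b.succ_ne_zero).trans (hb ▸ dvd_rfl)).trans h2) P.not_dvd_index
  have hmem : ∀ y : G, (orderOf y).Coprime p → y ∈ C := fun y hy => by
    rw [← QuotientGroup.eq_one_iff (N := C), ← orderOf_eq_one_iff, ← Nat.dvd_one]
    have h1 : orderOf (y : G ⧸ C) ∣ p ^ a := by
      rw [← hn, ← H u hu, ← hC, Subgroup.index_eq_card]; exact orderOf_dvd_natCard _
    rw [← (hy.pow_right a).gcd_eq_one]
    exact Nat.dvd_gcd (orderOf_map_dvd (QuotientGroup.mk' C) y) h1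
  intro g hg
  by_contra hgZ
  obtain ⟨q, hq, hqp, y, -, hy, k, hk⟩ := coprime_part g hg hgZ
  haveI := Fact.mk hq
  have hcopq : ∀ j, (q ^ j).Coprime p := fun j => ((Nat.coprime_primes hq hp.out).2 hqp).pow_left j
  have hyC : y ∈ C := hmem y (hk ▸ hcopq k)
  apply hy
  rw [mem_center_comm]
  intro d
  obtain ⟨s, z, rfl, -, ⟨e, he⟩, hz⟩ := H74Basic.exists_parts (p := p) d
  refine Commute.mul_left ?_ (hab u hu z (hmem z hz) y hyC)
  by_cases hs : s ∈ Subgroup.center G
  · exact (mem_center_comm.1 hs y).symm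
  obtain ⟨R⟩ := (inferInstance : Nonempty (Sylow q (Subgroup.centralizer ({s} : Set G))))
  set R' := (R : Subgroup (Subgroup.centralizer ({s} : Set G))).map
    (Subgroup.centralizer ({s} : Set G)).subtype with hR'
  have hle : R' ≤ qPart C (hab u hu) q := by
    rintro _ ⟨r, hr, rfl⟩
    obtain ⟨j, hj⟩ := IsPGroup.iff_orderOf.1 R.isPGroup' ⟨r, hr⟩
    rw [Subgroup.orderOf_mk] at hj
    have hj' : orderOf (r : G) = q ^ j := by rw [Subgroup.orderOf_coe]; exact hj
    exact ⟨hmem _ (hj' ▸ hcopq j), j, hj' ▸ pow_orderOf_eq_one _⟩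
  have heq : R' = qPart C (hab u hu) q := Subgroup.eq_of_le_of_card_ge hle (le_of_eq (by
    rw [card_qPart, hR', Subgroup.card_map_of_injective (Subgroup.subtype_injective _),
      R.card_eq_multiplicity, card_cen_eq H hs hu]))
  have : y ∈ R' := heq.symm ▸ (⟨hyC, k, hk ▸ pow_orderOf_eq_one _⟩ : y ∈ qPart C (hab u hu) q)
  obtain ⟨r, -, rfl⟩ := this
  exact (mem_cen.1 r.2).symm

theorem not_two_primes {p q : ℕ} [hp : Fact p.Prime] [hq : Fact q.Prime] (hpq : p ≠ q)
    {x₀ : G} (hx₀ : x₀ ∉ Subgroup.center G) (hpn : p ∣ n) (hqn : q ∣ n) :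
    ¬ p ^ 2 ∣ n ∧ ∀ m : ℕ, m = (Subgroup.center G).relIndex (Subgroup.centralizer ({x₀} : Set G)) →
      m.factorization q = 1 → p ∣ q - 1 := by
  haveI := Fintype.ofFinite G
  obtain ⟨P⟩ := (inferInstance : Nonempty (Sylow p G))
  have hP : ¬ (P : Subgroup G) ≤ Subgroup.center G := fun hle => P.not_dvd_index
    ((hpn.trans (H x₀ hx₀).symm.dvd).trans (Subgroup.index_dvd_of_le (hle.trans fun z hz => mem_cen.2 (mem_center_comm.1 hz x₀).symm)))
  obtain ⟨u, huP, hu, hup, hcomm⟩ := exists_special P hP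
  obtain ⟨hnorm, hpow, hcomm'⟩ := special_props H P hu hup hcomm
  set C := Subgroup.centralizer ({u} : Set G) with hC
  obtain ⟨y₀, hy₀, hy₀q⟩ := exists_noncentral_of_dvd (x := x₀) (q := q) (by rw [H x₀ hx₀]; exact hqn)
  obtain ⟨y, hyC, hyZ, k, hk⟩ := exists_noncentral_in_cen H hu hy₀ hy₀q
  set R := qPart C (hab u hu) q with hR
  have hyR : y ∈ R := ⟨hyC, k, hk ▸ pow_orderOf_eq_one _⟩
  have hRn : (P : Subgroup G) ≤ Subgroup.normalizer (R : Set G) := by
    intro g hg
    rw [Subgroup.mem_normalizer_iff]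
    intro d
    show (d ∈ C ∧ _) ↔ (g * d * g⁻¹ ∈ C ∧ _)
    rw [← Subgroup.mem_normalizer_iff.1 (hnorm hg) d]
    refine and_congr_right fun _ => exists_congr fun j => ?_
    rw [conj_pow, conj_eq_one_iff]
  let φ : (P : Subgroup G) →* MulAut R :=
    (Subgroup.normalizerMonoidHom R).comp (Subgroup.inclusion hRn)
  have hφ : ∀ (g : (P : Subgroup G)) (r : R), (φ g r : G) = g * r * (g : G)⁻¹ := fun g r => rfl
  set P₀ := C.subgroupOf (P : Subgroup G) with hP₀
  haveI hP₀n : P₀.Normal := Subgroup.normal_subgroupOf_of_le_normalizer hnorm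
  have hker : P₀ ≤ φ.ker := fun g hg => by
    rw [MonoidHom.mem_ker]
    ext r
    rw [hφ, (hab u hu (g : G) hg r r.2.1).eq, mul_inv_cancel_right]
    rfl
  let ψ : (P : Subgroup G) ⧸ P₀ →* MulAut R := QuotientGroup.lift P₀ φ hker
  haveI : IsMulCommutative ((P : Subgroup G) ⧸ P₀) := ⟨⟨fun a b => by
    obtain ⟨a, rfl⟩ := QuotientGroup.mk_surjective a
    obtain ⟨b, rfl⟩ := QuotientGroup.mk_surjective b
    rw [← QuotientGroup.mk_mul, ← QuotientGroup.mk_mul, QuotientGroup.eq, hP₀, Subgroup.mem_subgroupOf]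
    have := hcomm' (b : G)⁻¹ (inv_mem b.2) (a : G)⁻¹ (inv_mem a.2)
    simpa [mul_assoc] using this⟩⟩
  obtain ⟨ea, hea⟩ := IsPGroup.iff_card.1 (P.isPGroup'.to_quotient P₀)
  obtain ⟨eb, heb⟩ := IsPGroup.iff_card.1 (qPart_isPGroup C (hab u hu) q)
  have hcop : (Nat.card ((P : Subgroup G) ⧸ P₀)).Coprime (Nat.card R) := by
    rw [hea, heb]; exact ((Nat.coprime_primes hp.out hq.out).2 hpq).pow ea eb
  have hfree : ∀ g : (P : Subgroup G), (g : G) ∉ C → ∀ r : R, φ g r = r → (r : G) ∈ Subgroup.center G := by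
    intro g hgC r hr
    by_contra hrZ
    apply hgC
    rw [hC, cen_eq_of_mem H hab hu hrZ r.2.1, mem_cen]
    have := congrArg Subtype.val hr
    rw [hφ, mul_inv_eq_iff_eq_mul] at this
    exact this
  have hcyc : IsCyclic ((P : Subgroup G) ⧸ P₀) := by
    by_contra hnc
    have h := CoprimeActionAut.le_of_fixed_points ψ hnc hcop ((Subgroup.center G).subgroupOf R)
      (fun a ha r hr => by
        obtain ⟨g, rfl⟩ := QuotientGroup.mk_surjective a
        exact hfree g (fun hg => ha ((QuotientGroup.eq_one_iff g).2 hg)) r hr)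
    have : (⟨y, hyR⟩ : R) ∈ (Subgroup.center G).subgroupOf R := h ▸ Subgroup.mem_top _
    exact hyZ this
  have hEcard : Nat.card ((P : Subgroup G) ⧸ P₀) ∣ p := by
    obtain ⟨a, ha⟩ := hcyc.exists_generator
    rw [← orderOf_eq_card_of_forall_mem_zpowers ha]
    obtain ⟨g, rfl⟩ := QuotientGroup.mk_surjective a
    refine orderOf_dvd_of_pow_eq_one ?_
    rw [← QuotientGroup.mk_pow, QuotientGroup.eq_one_iff, hP₀, Subgroup.mem_subgroupOf]
    simpa using hpow g g.2
  have hGpos : Nat.card G ≠ 0 := Nat.card_pos.ne'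
  have hCpos : Nat.card C ≠ 0 := Nat.card_pos.ne'
  have hnC : n * Nat.card C = Nat.card G := by rw [← H u hu, ← hC, Subgroup.index_mul_card]
  have hn0 : n ≠ 0 := fun h => hGpos (by rw [← hnC, h, zero_mul])
  have hvn : n.factorization p ≤ 1 := by
    have h1 : Nat.card P₀ ∣ Nat.card C :=
      Subgroup.card_dvd_of_injective ((Subgroup.subtype (P : Subgroup G)).subgroupComap C)
        (fun a b h => Subtype.ext (Subtype.ext (congrArg (fun z : C => (z : G)) h)))
    have h2 : Nat.card (P : Subgroup G) ∣ p * Nat.card C := by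
      rw [P₀.card_eq_card_quotient_mul_card_subgroup]
      exact mul_dvd_mul hEcard h1
    rw [P.card_eq_multiplicity] at h2
    have h3 := (hp.out.pow_dvd_iff_le_factorization (mul_ne_zero hp.out.ne_zero hCpos)).1 h2
    rw [Nat.factorization_mul hp.out.ne_zero hCpos, Finsupp.add_apply, hp.out.factorization_self] at h3
    have h4 : (Nat.card G).factorization p = n.factorization p + (Nat.card C).factorization p := by
      rw [← hnC, Nat.factorization_mul hn0 hCpos, Finsupp.add_apply]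
    omega
  refine ⟨fun h => ?_, fun m hm hmq => ?_⟩
  · have := (hp.out.pow_dvd_iff_le_factorization hn0).1 h
    omega
  -- an element of `P` outside `C` acts fixed-point-freely on `R` modulo the centre
  obtain ⟨g, hgP, hgC⟩ : ∃ g ∈ (P : Subgroup G), g ∉ C := by
    by_contra hno
    push_neg at hno
    exact P.not_dvd_index ((hpn.trans (H u hu).symm.dvd).trans (Subgroup.index_dvd_of_le hno))
  let g' : (P : Subgroup G) := ⟨g, hgP⟩
  have hPg : IsPGroup p (Subgroup.zpowers (φ g')) := by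
    have := (P.isPGroup'.to_subgroup (Subgroup.zpowers g')).map φ
    rwa [MonoidHom.map_zpowers] at this
  have hfixset : ∀ r : R, r ∈ MulAction.fixedPoints (Subgroup.zpowers (φ g')) R ↔ (r : G) ∈ Subgroup.center G := by
    intro r
    constructor
    · intro h
      exact hfree g' hgC r (h ⟨φ g', Subgroup.mem_zpowers _⟩)
    · rintro h ⟨f, hf⟩
      obtain ⟨i, rfl⟩ := Subgroup.mem_zpowers_iff.1 hf
      show (φ g' ^ i) r = r
      rw [← map_zpow]
      apply Subtype.ext
      rw [hφ, (mem_center_comm.1 h _).eq, mul_inv_cancel_right]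
  have hmod := hPg.card_modEq_card_fixedPoints (α := R)
  set Zq := qPart (Subgroup.center G) (fun a _ b hb => mem_center_comm.1 hb a) q with hZq
  have hfixcard : Nat.card (MulAction.fixedPoints (Subgroup.zpowers (φ g')) R) = Nat.card Zq := by
    refine Nat.card_congr
      { toFun := fun r => ⟨(r.1 : G), (hfixset r.1).1 r.2, r.1.2.2⟩
        invFun := fun z => ⟨⟨z.1, mem_cen.2 (mem_center_comm.1 z.2.1 u).symm, z.2.2⟩, (hfixset _).2 z.2.1⟩
        left_inv := fun _ => rfl
        right_inv := fun _ => rfl }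
  rw [hfixcard, hR, card_qPart, hZq, card_qPart] at hmod
  have hZpos : Nat.card (Subgroup.center G) ≠ 0 := Nat.card_pos.ne'
  have hmC : m * Nat.card (Subgroup.center G) = Nat.card C := by
    rw [hC, card_cen_eq H hu hx₀, hm, ← Subgroup.relIndex_bot_left (Subgroup.center G),
      ← Subgroup.relIndex_bot_left (Subgroup.centralizer ({x₀} : Set G)), mul_comm]
    exact Subgroup.relIndex_mul_relIndex ⊥ _ _ bot_le (fun z hz => mem_cen.2 (mem_center_comm.1 hz x₀).symm)
  have hm0 : m ≠ 0 := fun h => hCpos (by rw [← hmC, h, zero_mul])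
  rw [← hmC, Nat.factorization_mul hm0 hZpos, Finsupp.add_apply, hmq, Nat.add_comm, pow_succ] at hmod
  set j := (Nat.card (Subgroup.center G)).factorization q
  have h1 : p ∣ q ^ j * q - q ^ j :=
    (Nat.modEq_iff_dvd' (Nat.le_mul_of_pos_right _ hq.out.pos)).1 hmod.symm
  rw [← Nat.mul_sub_one] at h1
  exact ((Nat.coprime_primes hp.out hq.out).2 hpq).pow_right j |>.dvd_of_dvd_mul_left h1

omit hab

theorem main {x₀ : G} (hx₀ : x₀ ∉ Subgroup.center G) (hn : 1 < n) :
    ∃ (p : ℕ) (_ : Fact p.Prime) (a : ℕ), n = p ^ a ∧ PPrimeCentral G p := by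
  have hpow : ∀ p : ℕ, ∀ _ : Fact p.Prime, PPrimeCentral G p → ∃ a, n = p ^ a := by
    intro p hp hc
    refine ⟨n.primeFactorsList.length, Nat.eq_prime_pow_of_unique_prime_dvd (by omega) fun {q} hq hqn => ?_⟩
    by_contra hne
    haveI := Fact.mk hq
    obtain ⟨y, hy, k, hk⟩ := exists_noncentral_of_dvd (x := x₀) (q := q) (by rw [H x₀ hx₀]; exact hqn)
    exact hy (hc y (hk ▸ ((Nat.coprime_primes hq hp.out).2 hne).pow_left k))
  by_cases hab : ∀ x : G, x ∉ Subgroup.center G → ∀ a ∈ Subgroup.centralizer ({x} : Set G),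
      ∀ b ∈ Subgroup.centralizer ({x} : Set G), Commute a b
  swap
  · push_neg at hab
    obtain ⟨x, hx, a, ha, b, hb, hne⟩ := hab
    obtain ⟨p, k, m, hp, hk, hm, -⟩ := H74Basic.exists_primePart_notMem hx
    haveI := Fact.mk hp
    have hle : Subgroup.centralizer ({x} : Set G) ≤ Subgroup.centralizer ({x ^ m} : Set G) :=
      fun d hd => mem_cen.2 ((mem_cen.1 hd).pow_right m)
    have hc := of_nonabelian H hm ⟨k, hk⟩ fun h => hne (h a (hle ha) b (hle hb))
    obtain ⟨e, he⟩ := hpow p ⟨hp⟩ hc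
    exact ⟨p, ⟨hp⟩, e, he, hc⟩
  obtain ⟨p, hp, hpn⟩ := Nat.exists_prime_and_dvd (Nat.ne_of_gt hn)
  haveI := Fact.mk hp
  by_cases hone : ∀ q : ℕ, q.Prime → q ∣ n → q = p
  · have hna : n = p ^ n.primeFactorsList.length :=
      Nat.eq_prime_pow_of_unique_prime_dvd (by omega) fun {q} hq hqn => hone q hq hqn
    exact ⟨p, ⟨hp⟩, _, hna, pPrimeCentral_of_primePow H hab hna (fun h => by
      rw [h, pow_zero] at hna; omega) hx₀⟩
  exfalso
  push_neg at hone
  obtain ⟨q, hq, hqn, hqp⟩ := hone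
  haveI := Fact.mk hq
  set m := (Subgroup.center G).relIndex (Subgroup.centralizer ({x₀} : Set G)) with hm
  have hZC : ∀ y : G, Subgroup.center G ≤ Subgroup.centralizer ({y} : Set G) := fun y z hz =>
    mem_cen.2 (mem_center_comm.1 hz y).symm
  have hm0 : m ≠ 0 := Subgroup.index_ne_zero_of_finite
  have hsqf : ∀ r : ℕ, r.Prime → ¬ r * r ∣ n := by
    intro r hr hrr
    haveI := Fact.mk hr
    have hrn : r ∣ n := (dvd_mul_right r r).trans hrr
    obtain ⟨s, hs, hsn, hsr⟩ : ∃ s : ℕ, s.Prime ∧ s ∣ n ∧ r ≠ s := by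
      rcases eq_or_ne r p with h | h
      · exact ⟨q, hq, hqn, h ▸ Ne.symm hqp⟩
      · exact ⟨p, hp, hpn, h⟩
    haveI := Fact.mk hs
    exact (not_two_primes H hab hsr hx₀ hrn hsn).1 (by rwa [pow_two])
  have hdm : ∀ r : ℕ, r.Prime → r ∣ n → r ∣ m := by
    intro r hr hrn
    haveI := Fact.mk hr
    obtain ⟨y₀, hy₀, hy₀q⟩ := exists_noncentral_of_dvd (x := x₀) (q := r) (by rw [H x₀ hx₀]; exact hrn)
    obtain ⟨c, hc, hcZ, k, hk⟩ := exists_noncentral_in_cen H hx₀ hy₀ hy₀q
    set Z₀ := (Subgroup.center G).subgroupOf (Subgroup.centralizer ({x₀} : Set G))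
    have h1 : orderOf ((⟨c, hc⟩ : Subgroup.centralizer ({x₀} : Set G)) : _ ⧸ Z₀) ∣ r ^ k := by
      refine (orderOf_map_dvd (QuotientGroup.mk' Z₀) _).trans ?_
      rw [Subgroup.orderOf_mk, hk]
    obtain ⟨j, -, hj⟩ := (Nat.dvd_prime_pow hr).1 h1
    rcases j with _ | j
    · rw [pow_zero, orderOf_eq_one_iff, QuotientGroup.eq_one_iff] at hj
      exact absurd hj hcZ
    · have h2 := orderOf_dvd_natCard ((⟨c, hc⟩ : Subgroup.centralizer ({x₀} : Set G)) : _ ⧸ Z₀)
      rw [hj] at h2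
      exact (dvd_pow_self r j.succ_ne_zero).trans h2
  have hnm : n ∣ m := by
    refine (Nat.dvd_iff_prime_pow_dvd_dvd _ _).2 fun r k hr hrk => ?_
    rcases k with _ | _ | k
    · simp
    · rw [pow_one] at hrk ⊢; exact hdm r hr hrk
    · exact absurd ((pow_dvd_pow r (Nat.le_add_left 2 k)).trans hrk) (by rw [pow_two]; exact hsqf r hr)
  have hmn : m = n := by
    have h1 := Nat.le_of_dvd (Nat.pos_of_ne_zero hm0) hnm
    have h2 := Nat.le_of_dvd (by omega) (sub_one_dvd H hab hx₀)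
    omega
  have hfac : ∀ r : ℕ, r.Prime → r ∣ n → m.factorization r = 1 := by
    intro r hr hrn
    rw [hmn]
    have h1 : 1 ≤ n.factorization r := (hr.dvd_iff_one_le_factorization (by omega)).1 hrn
    have h2 : ¬ 2 ≤ n.factorization r := fun h => hsqf r hr (by
      rw [← pow_two]; exact (hr.pow_dvd_iff_le_factorization (by omega)).2 h)
    omega
  have hp1 := (not_two_primes H hab (Ne.symm hqp) hx₀ hpn hqn).2 m hm (hfac q hq hqn)
  have hq1 := (not_two_primes H hab hqp hx₀ hqn hpn).2 m hm (hfac p hp hpn)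
  have := Nat.le_of_dvd (Nat.sub_pos_of_lt hq.one_lt) hp1
  have := Nat.le_of_dvd (Nat.sub_pos_of_lt hp.one_lt) hq1
  have := hp.two_le
  omega

theorem exists_abelian_pow {p : ℕ} [hp : Fact p.Prime] (P : Sylow p G) :
    ∃ A : Subgroup (P : Subgroup G), A.Normal ∧ IsMulCommutative A ∧ ∀ y : (P : Subgroup G), y ^ p ∈ A := by
  obtain ⟨A, hAn, hAc, hA⟩ := PuigBasic.exists_scn p P.isPGroup'
  haveI := P.isPGroup'.isNilpotent
  refine ⟨A, hAn, hAc, fun y => ?_⟩
  have hmemA : ∀ d : (P : Subgroup G), (∀ a ∈ A, a * d = d * a) → d ∈ A := fun d hd => by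
    have : d ∈ Subgroup.centralizer (A : Set (P : Subgroup G)) := Subgroup.mem_centralizer_iff.2 hd
    rwa [hA] at this
  by_cases hcen : ((y : G) ^ p) ∈ Subgroup.center G
  · exact hmemA _ fun a _ => Subtype.ext (by simpa using (mem_center_comm.1 hcen (a : G)).eq)
  have hy : (y : G) ∉ Subgroup.center G := fun h => hcen (Subgroup.pow_mem _ h p)
  have heq := cen_eq_of_le H hy hcen fun d hd => mem_cen.2 ((mem_cen.1 hd).pow_right p)
  suffices hall : ∀ a ∈ A, a * y = y * a from A.pow_mem (hmemA y hall) p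
  by_contra hno
  push_neg at hno
  obtain ⟨a, ha, hne⟩ := hno
  -- iterate `b ↦ [y, b]`
  let ψ : ↥(P : Subgroup G) → ↥(P : Subgroup G) := fun b => y * b * y⁻¹ * b⁻¹
  have hψA : ∀ b ∈ A, ψ b ∈ A := fun b hb => A.mul_mem (hAn.conj_mem b hb y) (A.inv_mem hb)
  have hit : ∀ k, ψ^[k] a ∈ A ∧ ψ^[k] a ∈ Subgroup.lowerCentralSeries (⊤ : Subgroup ↥(P : Subgroup G)) k := by
    intro k
    induction k with
    | zero => exact ⟨ha, by simp⟩
    | succ k ih =>
      rw [Function.iterate_succ_apply']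
      refine ⟨hψA _ ih.1, ?_⟩
      have h1 := Subgroup.commutator_mem_commutator (H₂ := (⊤ : Subgroup (P : Subgroup G))) ih.2
        (Subgroup.mem_top y)
      have h2 := Subgroup.inv_mem _ h1
      rw [commutatorElement_inv] at h2
      exact h2
  have hex : ∃ k, ψ^[k] a = 1 := ⟨Group.nilpotencyClass (P : Subgroup G), by
    have := (hit (Group.nilpotencyClass (P : Subgroup G))).2
    rwa [lowerCentralSeries_nilpotencyClass, Subgroup.mem_bot] at this⟩
  have hfk := Nat.find_spec hex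
  have hfmin := fun m (hm : m < Nat.find hex) => Nat.find_min hex hm
  obtain ⟨k, hk⟩ : ∃ k, Nat.find hex = k + 2 := by
    rcases h : Nat.find hex with _ | _ | k
    · rw [h] at hfk
      exact absurd (show a = 1 from hfk) fun h1 => hne (by rw [h1, one_mul, mul_one])
    · rw [h] at hfk
      refine absurd ?_ hne
      have h1 : y * a * y⁻¹ * a⁻¹ = 1 := hfk
      rw [mul_inv_eq_one, mul_inv_eq_iff_eq_mul] at h1
      exact h1.symm
    · exact ⟨k, rfl⟩
  set b := ψ^[k] a with hb
  set c := ψ b with hc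
  have hc1 : c ≠ 1 := by
    have := hfmin (k + 1) (by omega)
    rwa [Function.iterate_succ_apply'] at this
  have hcfix : Commute y c := by
    have h1 : y * c * y⁻¹ * c⁻¹ = 1 := by
      rw [hk, Function.iterate_succ_apply', Function.iterate_succ_apply'] at hfk
      exact hfk
    rw [mul_inv_eq_one, mul_inv_eq_iff_eq_mul] at h1
    exact h1
  have hbA : b ∈ A := (hit k).1
  have hcb : Commute c b := congrArg Subtype.val (mul_comm' (⟨c, hψA b hbA⟩ : A) ⟨b, hbA⟩)
  obtain ⟨e, he⟩ := IsPGroup.iff_orderOf.1 P.isPGroup' c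
  rcases e with _ | e
  · rw [pow_zero, orderOf_eq_one_iff] at he; exact hc1 he
  set b' := b ^ p ^ e
  set c' := c ^ p ^ e
  have hyb : y * b' = c' * b' * y := by
    have h1 : y * b * y⁻¹ = c * b := (inv_mul_cancel_right _ b).symm
    have h2 : y * b' * y⁻¹ = c' * b' := by rw [← conj_pow, h1, hcb.mul_pow]
    exact mul_inv_eq_iff_eq_mul.1 h2
  have hc'p : c' ^ p = 1 := by
    rw [← pow_mul, ← pow_succ, ← he]; exact pow_orderOf_eq_one c
  have hc'1 : c' ≠ 1 := fun h => by
    have := Nat.le_of_dvd (pow_pos hp.out.pos e) (orderOf_dvd_of_pow_eq_one h)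
    rw [he, pow_succ] at this
    have := hp.out.two_le
    have := pow_pos hp.out.pos e
    nlinarith
  have hyc' : Commute y c' := hcfix.pow_right _
  clear_value c'
  have hiter : ∀ i : ℕ, y ^ i * b' = c' ^ i * b' * y ^ i := by
    intro i
    induction i with
    | zero => simp
    | succ i ih =>
      calc y ^ (i + 1) * b' = y * (y ^ i * b') := by rw [pow_succ', mul_assoc]
        _ = (y * c' ^ i) * b' * y ^ i := by rw [ih]; group
        _ = c' ^ i * (y * b') * y ^ i := by rw [(hyc'.pow_right i).eq]; group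
        _ = c' ^ (i + 1) * b' * y ^ (i + 1) := by rw [hyb, pow_succ c', pow_succ' y]; group
  have hfix : (b' : G) ∈ Subgroup.centralizer ({(y : G) ^ p} : Set G) := by
    have h1 := hiter p
    rw [hc'p, one_mul] at h1
    rw [mem_cen]
    have := congrArg Subtype.val h1
    simp only [Subgroup.coe_mul, Subgroup.coe_pow] at this ⊢
    exact this.symm
  rw [← heq, mem_cen] at hfix
  apply hc'1
  have h3 : y * b' = b' * y := Subtype.ext hfix.eq.symm
  rw [hyb] at h3
  exact mul_eq_right.1 (mul_right_cancel h3)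

end

/-- Let G be a finite group whose conjugacy classes have exactly two sizes, 1 and n > 1. Then n is a power of a prime p and G is the direct product of a p-group and an abelian group of order prime to p: its Sylow p-subgroup P is normal with an abelian normal complement centralizing it; moreover P has an abelian normal subgroup A with P/A of exponent dividing p. -/
theorem result {G : Type*} [Group G] [Finite G] (n : ℕ) (hn : 1 < n)
    (h : ∀ x : G, (Subgroup.centralizer ({x} : Set G)).index = 1 ∨ (Subgroup.centralizer ({x} : Set G)).index = n) (hex : ∃ x : G, (Subgroup.centralizer ({x} : Set G)).index = n) :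
    ∃ (p : ℕ) (_ : Fact p.Prime) (a : ℕ), n = p ^ a ∧ ∀ P : Sylow p G, (P : Subgroup G).Normal ∧
      (∃ N : Subgroup G, N.Normal ∧ N.IsComplement' (P : Subgroup G) ∧ IsMulCommutative N ∧
        ∀ x ∈ N, ∀ y ∈ (P : Subgroup G), x * y = y * x) ∧
      ∃ A : Subgroup (P : Subgroup G), A.Normal ∧ IsMulCommutative A ∧ ∀ y : (P : Subgroup G), y ^ p ∈ A := by
  classical
  have hc : ∀ x : G, (Subgroup.centralizer ({x} : Set G)).index = 1 ↔ x ∈ Subgroup.center G := fun x => by
    rw [Subgroup.index_eq_one, Subgroup.centralizer_eq_top_iff_subset, Set.singleton_subset_iff]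
    rfl
  have H : TwoSizes G n := fun x hx => (h x).resolve_left fun h1 => hx ((hc x).1 h1)
  obtain ⟨x₀, hx₀⟩ := hex
  have hx₀Z : x₀ ∉ Subgroup.center G := fun hm => by
    rw [(hc x₀).2 hm] at hx₀; omega
  obtain ⟨p, hp, a, hna, hcent⟩ := main H hx₀Z hn
  refine ⟨p, hp, a, hna, fun P => ?_⟩
  have hdec : ∀ g : G, ∃ s ∈ (P : Subgroup G) ⊔ Subgroup.center G, g = s := fun g => by
    obtain ⟨s, z, rfl, -, ⟨e, he⟩, hz⟩ := H74Basic.exists_parts (p := p) g
    refine ⟨s * z, ?_, rfl⟩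
    obtain ⟨Q, hQ⟩ := (IsPGroup.of_card (n := e) (by rw [Nat.card_zpowers, he]) :
      IsPGroup p (Subgroup.zpowers s)).exists_le_sylow
    have htop : (P : Subgroup G) ⊔ Subgroup.center G = ⊤ := by
      rw [← Subgroup.index_eq_one]
      by_contra h1
      obtain ⟨r, hr, hrd⟩ := Nat.exists_prime_and_dvd h1
      haveI := Fact.mk hr
      by_cases hrp : r = p
      · subst hrp
        exact P.not_dvd_index (hrd.trans (Subgroup.index_dvd_of_le le_sup_left))
      · obtain ⟨R⟩ := (inferInstance : Nonempty (Sylow r G))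
        refine R.not_dvd_index (hrd.trans (Subgroup.index_dvd_of_le fun w hw => Subgroup.mem_sup_right ?_))
        obtain ⟨j, hj⟩ := IsPGroup.iff_orderOf.1 R.isPGroup' ⟨w, hw⟩
        rw [Subgroup.orderOf_mk] at hj
        exact hcent w (hj ▸ ((Nat.coprime_primes hr hp.out).2 hrp).pow_left j)
    rw [htop]; exact Subgroup.mem_top _
  have hnormal : (P : Subgroup G).Normal := by
    rw [← Subgroup.normalizer_eq_top_iff, eq_top_iff]
    intro g _
    obtain ⟨s, hs, rfl⟩ := hdec g
    exact sup_le Subgroup.le_normalizer (fun z hz => Subgroup.mem_normalizer_iff.2 fun d => by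
      rw [← (mem_center_comm.1 hz d).eq, mul_inv_cancel_right]) hs
  refine ⟨hnormal, ?_, exists_abelian_pow H P⟩
  let N : Subgroup G :=
    { carrier := {z | z ∈ Subgroup.center G ∧ (orderOf z).Coprime p}
      one_mem' := ⟨Subgroup.one_mem _, by rw [orderOf_one]; exact Nat.coprime_one_left p⟩
      mul_mem' := fun {x y} hx hy => ⟨Subgroup.mul_mem _ hx.1 hy.1,
        (Nat.Coprime.mul_left hx.2 hy.2).coprime_dvd_left (mem_center_comm.1 hy.1 x).orderOf_mul_dvd_mul_orderOf⟩
      inv_mem' := fun {x} hx => ⟨Subgroup.inv_mem _ hx.1, by rw [orderOf_inv]; exact hx.2⟩ }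
  have hNc : ∀ x ∈ N, ∀ y : G, x * y = y * x := fun x hx y => (mem_center_comm.1 hx.1 y).eq.symm
  haveI hNn : N.Normal := ⟨fun x hx g => by rw [← hNc x hx g, mul_inv_cancel_right]; exact hx⟩
  refine ⟨N, hNn, ?_, ⟨⟨fun x y => Subtype.ext (hNc x x.2 y)⟩⟩, fun x hx y _ => hNc x hx y⟩
  refine Subgroup.isComplement'_of_disjoint_and_mul_eq_univ (Subgroup.disjoint_def.2 fun {z} hz hzP => ?_) ?_
  · obtain ⟨j, hj⟩ := IsPGroup.iff_orderOf.1 P.isPGroup' ⟨z, hzP⟩
    rw [Subgroup.orderOf_mk] at hj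
    rcases j with _ | j
    · rwa [pow_zero, orderOf_eq_one_iff] at hj
    · exact absurd ((dvd_pow_self p j.succ_ne_zero).trans (hj ▸ dvd_rfl)) (hp.out.coprime_iff_not_dvd.1 hz.2.symm)
  · refine Set.eq_univ_of_forall fun g => ?_
    obtain ⟨s, z, rfl, hsz, ⟨e, he⟩, hz⟩ := H74Basic.exists_parts (p := p) g
    refine ⟨z, ⟨hcent z hz, hz⟩, s, ?_, hsz.eq.symm⟩
    obtain ⟨Q, hQ⟩ := (IsPGroup.of_card (n := e) (by rw [Nat.card_zpowers, he]) :
      IsPGroup p (Subgroup.zpowers s)).exists_le_sylow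
    haveI := Sylow.unique_of_normal P hnormal
    obtain rfl : Q = P := Subsingleton.elim _ _
    exact hQ (Subgroup.mem_zpowers s)

end Cfsg.Agent.S4134
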