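import Cfsg.Statements.S4135
import Mathlib
import Cfsg.Agent.Lib.ClassSizeGraph76
import Cfsg.Agent.Lib.TwoIndicesNormal76

set_option autoImplicit false
open Cfsg

namespace Cfsg.Agent.S4135

open Cfsg.Agent.ClassSizeGraph76
open Cfsg.Agent.TwoIndicesNormal76

local notation "Cn" g => Subgroup.centralizer ({g} : Set _)

section group

variable {N : Type*} [Group N] [Finite N]

/-- The two properties of centralisers used in the proof. -/
structure Hyp {N : Type*} [Group N] (Z : Subgroup N) : Prop where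
  zc : Z ≤ Subgroup.center N
  coprime : ∀ a b : N, a ∉ Z → b ∉ Z → Commute a b → (orderOf a).Coprime (orderOf b) →
    Subgroup.centralizer ({a} : Set N) = Subgroup.centralizer ({b} : Set N)
  pow : ∀ (a : N) (k : ℕ), a ∉ Z → a ^ k ∉ Z →
    Subgroup.centralizer ({a ^ k} : Set N) = Subgroup.centralizer ({a} : Set N)

variable {Z : Subgroup N} (H : Hyp Z)

include H in
theorem nilpotent_of_all_p {p : ℕ} [hp : Fact p.Prime]
    (h : ∀ (g : N) (r i : ℕ), r.Prime → orderOf g = r ^ i → g ∉ Z → r = p) : Group.IsNilpotent N := by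
  have hq : IsPGroup p (N ⧸ Subgroup.center N) := by
    intro x
    obtain ⟨g, rfl⟩ := QuotientGroup.mk'_surjective _ x
    obtain ⟨e, n', hn', hge⟩ := Nat.exists_eq_pow_mul_and_not_dvd (orderOf_pos g).ne' p hp.out.ne_one
    refine ⟨e, ?_⟩
    rw [← map_pow]
    refine (QuotientGroup.eq_one_iff _).mpr (mem_of_primePow _ _ fun k r i hr hord => ?_)
    by_contra hnc
    have hrp := h _ r i hr hord fun hz => hnc (H.zc hz)
    subst hrp
    have h1 : orderOf ((g ^ r ^ e) ^ k) ∣ n' := by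
      refine orderOf_dvd_of_pow_eq_one ?_
      rw [← pow_mul, ← pow_mul, mul_comm k n', ← mul_assoc, ← hge, pow_mul, pow_orderOf_eq_one, one_pow]
    rw [hord] at h1
    rcases Nat.eq_zero_or_pos i with h0 | h0
    · rw [h0, pow_zero] at hord
      exact hnc (orderOf_eq_one_iff.mp hord ▸ Subgroup.one_mem _)
    · exact hn' ((dvd_pow_self r h0.ne').trans h1)
  have := hq.isNilpotent
  exact Subgroup.isNilpotent_of_ker_le_center (QuotientGroup.mk' (Subgroup.center N))
    (le_of_eq (QuotientGroup.ker_mk' _))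

include H in
/-- Coprime commuting non-central elements have an abelian centraliser, all whose non-central
elements have the same centraliser. -/
theorem abelian_cent {a b : N} (ha : a ∉ Z) (hb : b ∉ Z) {p q i j : ℕ} (hp : p.Prime) (hq : q.Prime)
    (hpq : p ≠ q) (hai : orderOf a = p ^ i) (hbj : orderOf b = q ^ j) (hab : Commute a b) :
    (∀ x ∈ (Cn a), ∀ y ∈ (Cn a), x * y = y * x) ∧ ∀ x ∈ (Cn a), x ∉ Z → (Cn x) = (Cn a) := by
  have hCab : (Cn a) = (Cn b) := H.coprime a b ha hb hab (by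
    rw [hai, hbj]; exact Nat.Coprime.pow _ _ ((Nat.coprime_primes hp hq).mpr hpq))
  have hpart : ∀ x ∈ (Cn a), ∀ (r k : ℕ), r.Prime → orderOf x = r ^ k → x ∉ Z → (Cn x) = (Cn a) := by
    intro x hx r k hr hxr hxZ
    by_cases hrp : r = p
    · rw [hCab]
      refine H.coprime x b hxZ hb ?_ ?_
      · exact mem_cent.mp (hCab ▸ hx : x ∈ (Cn b))
      · rw [hxr, hbj]
        exact Nat.Coprime.pow _ _ ((Nat.coprime_primes hr hq).mpr fun e => hpq (hrp.symm.trans e))
    · refine H.coprime x a hxZ ha (mem_cent.mp hx) ?_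
      rw [hxr, hai]
      exact Nat.Coprime.pow _ _ ((Nat.coprime_primes hr hp).mpr hrp)
  constructor
  · intro x hx y hy
    refine mem_cent.mp (mem_of_primePow (Cn x) y (fun k r i hr hord => mem_cent.mpr ?_) : y ∈ (Cn x)) |>.symm
    by_cases hyZ : y ^ k ∈ Z
    · exact (Subgroup.mem_center_iff.mp (H.zc hyZ) x).symm
    · have := hpart _ (Subgroup.pow_mem _ hy k) r i hr hord hyZ
      exact (mem_cent.mp (this ▸ hx : x ∈ (Cn (y ^ k)))).symm
  · intro x hx hxZ
    obtain ⟨k, r, i, hr, hord, hk⟩ := exists_primePow_notMem hxZ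
    rw [← H.pow x k hxZ hk]
    exact hpart _ (Subgroup.pow_mem _ hx k) r i hr hord hk

include H in
theorem cover {p : ℕ} [hp : Fact p.Prime] {a₀ : N} {e : ℕ} (ha₀o : orderOf a₀ = p ^ e) (ha₀ : a₀ ∉ Z)
    (hidx : ∀ w : N, w ∉ Z → ¬ p ∣ (Cn w).index) : Group.IsNilpotent N := by
  by_cases hall : ∀ (g : N) (r i : ℕ), r.Prime → orderOf g = r ^ i → g ∉ Z → r = p
  · exact nilpotent_of_all_p H hall
  push Not at hall
  obtain ⟨v, s, j, hs, hvo, hv, hsp⟩ := hall
  obtain ⟨S, hS⟩ := exists_sylow_le (p := p) (hidx v hv)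
  obtain ⟨P, hP⟩ := (IsPGroup.of_card (n := e) (by rw [Nat.card_zpowers, ha₀o]) :
    IsPGroup p (Subgroup.zpowers a₀)).exists_le_sylow
  have ha₀P : a₀ ∈ (P : Subgroup N) := hP (Subgroup.mem_zpowers a₀)
  have hZconj : ∀ w c : N, c * w * c⁻¹ ∈ Z → w ∈ Z := by
    intro w c h
    have h1 := Subgroup.mem_center_iff.mp (H.zc h) c⁻¹
    have h2 : w = c * w * c⁻¹ := by
      calc w = c⁻¹ * (c * w * c⁻¹) * c := by group
        _ = (c * w * c⁻¹) * c⁻¹ * c := by rw [h1]
        _ = _ := by group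
    rwa [← h2] at h
  have hmove : ∀ (w : N) (T : Sylow p N), (T : Subgroup N) ≤ (Cn w) →
      ∃ c : N, (P : Subgroup N) ≤ (Cn (c * w * c⁻¹)) := by
    intro w T hT
    obtain ⟨c, hc⟩ := MulAction.exists_smul_eq N T P
    refine ⟨c, fun x hx => ?_⟩
    rw [← hc, Sylow.coe_subgroup_smul] at hx
    obtain ⟨t, ht, rfl⟩ := hx
    have h1 : t * w = w * t := mem_cent.mp (hT ht)
    refine mem_cent.mpr ?_
    show c * t * c⁻¹ * (c * w * c⁻¹) = c * w * c⁻¹ * (c * t * c⁻¹)
    calc c * t * c⁻¹ * (c * w * c⁻¹) = c * (t * w) * c⁻¹ := by group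
      _ = c * (w * t) * c⁻¹ := by rw [h1]
      _ = _ := by group
  obtain ⟨c, hc⟩ := hmove v S hS
  set v' := c * v * c⁻¹ with hv'
  have hv'Z : v' ∉ Z := fun h => hv (hZconj v c h)
  have hv'o : orderOf v' = s ^ j := by
    rw [hv', show c * v * c⁻¹ = MulAut.conj c v from rfl, MulEquiv.orderOf_eq, hvo]
  obtain ⟨habel, hall'⟩ := abelian_cent H ha₀ hv'Z hp.out hs (Ne.symm hsp) ha₀o hv'o (mem_cent.mp (hc ha₀P))
  have htop : (Cn a₀) = ⊤ := by
    refine eq_top_of_conj_cover _ fun g => ?_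
    by_cases hg : g ∈ Z
    · exact ⟨1, mem_cent.mpr (by simpa using (Subgroup.mem_center_iff.mp (H.zc hg) a₀).symm)⟩
    · obtain ⟨T, hT⟩ := exists_sylow_le (p := p) (hidx g hg)
      obtain ⟨d, hd⟩ := hmove g T hT
      exact ⟨d, mem_cent.mpr (mem_cent.mp (hd ha₀P)).symm⟩
  have hcomm : Std.Commutative (α := N) (· * ·) :=
    ⟨fun x y => habel x (htop ▸ Subgroup.mem_top x) y (htop ▸ Subgroup.mem_top y)⟩
  let _ : CommGroup N := { ‹Group N› with mul_comm := hcomm.comm }
  exact CommGroup.isNilpotent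

include H in
/-- A non-abelian Sylow subgroup moves the abelian centraliser. -/
theorem grow {p : ℕ} [hp : Fact p.Prime] {a : N} (ha : a ∉ Z) {i : ℕ} (hai : orderOf a = p ^ i)
    (habel : ∀ x ∈ (Cn a), ∀ y ∈ (Cn a), x * y = y * x)
    (hall : ∀ x ∈ (Cn a), x ∉ Z → (Cn x) = (Cn a))
    (hna : ∀ P : Sylow p N, ∃ x ∈ (P : Subgroup N), ∃ y ∈ (P : Subgroup N), x * y ≠ y * x) :
    ∃ g : N, g ∉ (Cn a) ∧ (∃ k, orderOf g = p ^ k) ∧ g ∈ Subgroup.normalizer ((Cn a : Subgroup N) : Set N) := by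
  set A : Subgroup N := (Cn a) with hA
  let T : Subgroup N :=
    { carrier := {x | x ∈ A ∧ ∃ k : ℕ, x ^ p ^ k = 1}
      one_mem' := ⟨A.one_mem, 0, one_pow _⟩
      mul_mem' := by
        rintro x y ⟨hx, i, hi⟩ ⟨hy, j, hj⟩
        refine ⟨A.mul_mem hx hy, i + j, ?_⟩
        rw [(show Commute x y from habel x hx y hy).mul_pow, pow_add, pow_mul, hi, one_pow, one_mul,
          mul_comm, pow_mul, hj, one_pow]
      inv_mem' := by
        rintro x ⟨hx, i, hi⟩
        exact ⟨A.inv_mem hx, i, by rw [inv_pow, hi, inv_one]⟩ }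
  have hTp : IsPGroup p T := fun x => ⟨x.2.2.choose, Subtype.ext x.2.2.choose_spec⟩
  have haT : a ∈ T := ⟨mem_cent.mpr rfl, i, hai ▸ pow_orderOf_eq_one a⟩
  obtain ⟨P, hP⟩ := hTp.exists_le_sylow
  have hne : T.subgroupOf (P : Subgroup N) ≠ ⊤ := by
    intro h
    obtain ⟨x, hx, y, hy, hxy⟩ := hna P
    rw [Subgroup.subgroupOf_eq_top] at h
    exact hxy (habel x (h hx).1 y (h hy).1)
  have := P.2.isNilpotent
  have hlt := Group.normalizerCondition_of_isNilpotent _ (lt_top_iff_ne_top.mpr hne)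
  obtain ⟨g, hgn, hgT⟩ := SetLike.exists_of_lt hlt
  have hgp : ∃ k, orderOf (g : N) = p ^ k := by
    obtain ⟨k, hk⟩ := IsPGroup.iff_orderOf.mp P.2 g
    exact ⟨k, by rwa [Subgroup.orderOf_coe]⟩
  have hgA : (g : N) ∉ A := fun h => hgT (by
    obtain ⟨k, hk⟩ := hgp
    exact Subgroup.mem_subgroupOf.mpr ⟨h, k, hk ▸ pow_orderOf_eq_one _⟩)
  refine ⟨g, hgA, hgp, ?_⟩
  have h1 : (g : N) * a * (g : N)⁻¹ ∈ T :=
    (Subgroup.mem_normalizer_iff.mp hgn ⟨a, hP haT⟩).mp haT
  have h2 : ((g : N) * a * (g : N)⁻¹) ∉ Z := by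
    intro h
    have h3 := Subgroup.mem_center_iff.mp (H.zc h) (g : N)
    have h4 : a = (g : N) * a * (g : N)⁻¹ := by
      rw [eq_mul_inv_iff_mul_eq]
      have : (g : N) * ((g : N) * a * (g : N)⁻¹) * (g : N)⁻¹ = (g : N) * a * (g : N)⁻¹ * (g : N) * (g : N)⁻¹ := by
        rw [h3]
      have h5 : (g : N) * ((g : N) * a * (g : N)⁻¹) = (g : N) * a := by rw [h3]; group
      have h6 := mul_left_cancel h5
      rw [mul_inv_eq_iff_eq_mul] at h6
      exact h6.symm
    exact ha (h4 ▸ h)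
  have h3 : (Cn ((g : N) * a * (g : N)⁻¹)) = A := hall _ h1.1 h2
  rw [Subgroup.mem_normalizer_iff]
  intro x
  conv_rhs => rw [← h3, mem_cent]
  rw [hA, mem_cent]
  constructor
  · intro h
    calc (g : N) * x * (g : N)⁻¹ * ((g : N) * a * (g : N)⁻¹) = (g : N) * (x * a) * (g : N)⁻¹ := by group
      _ = (g : N) * (a * x) * (g : N)⁻¹ := by rw [h]
      _ = _ := by group
  · intro h
    calc x * a = (g : N)⁻¹ * ((g : N) * x * (g : N)⁻¹ * ((g : N) * a * (g : N)⁻¹)) * g := by group
      _ = (g : N)⁻¹ * ((g : N) * a * (g : N)⁻¹ * ((g : N) * x * (g : N)⁻¹)) * g := by rw [h]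
      _ = _ := by group

include H in
/-- An abelian Sylow `q`-subgroup: the commutator subgroup has order divisible by `q`. -/
theorem dvd_commutator {q r : ℕ} [hq : Fact q.Prime] [hr : Fact r.Prime] (hqr : q ≠ r) {y x : N}
    (hy : y ∉ Z) (hx : x ∉ Z) {i j : ℕ} (hyi : orderOf y = q ^ i) (hxj : orderOf x = r ^ j)
    (hxy : Commute y x)
    (hna : ∀ P : Sylow r N, ∃ a ∈ (P : Subgroup N), ∃ b ∈ (P : Subgroup N), a * b ≠ b * a) :
    q ∣ Nat.card (commutator N) := by
  obtain ⟨habel, hall⟩ := abelian_cent H hy hx hq.out hr.out hqr hyi hxj hxy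
  have hCxy : (Cn x) = (Cn y) := hall x (mem_cent.mpr hxy.symm.eq) hx
  obtain ⟨g, hgA, -, hgn⟩ := grow H hx hxj (hCxy.symm ▸ habel)
    (fun z hz hzZ => (hall z (hCxy ▸ hz) hzZ).trans hCxy.symm) hna
  have hyA : y ∈ (Cn x) := mem_cent.mpr hxy.eq
  set d := g * y * g⁻¹ * y⁻¹ with hd
  have hd1 : d ≠ 1 := by
    intro h
    rw [hd, mul_inv_eq_one, mul_inv_eq_iff_eq_mul] at h
    exact hgA (hCxy ▸ (mem_cent.mpr h : g ∈ (Cn y)))
  have hdq : d ^ q ^ i = 1 := by
    have hc : Commute (g * y * g⁻¹) y⁻¹ :=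
      Commute.inv_right (habel _ (hCxy ▸ (Subgroup.mem_normalizer_iff.mp hgn y).mp hyA) _ (hCxy ▸ hyA))
    rw [hd, hc.mul_pow, conj_pow, inv_pow, ← hyi, pow_orderOf_eq_one]
    simp
  have hdc : d ∈ commutator N := by
    rw [commutator_def]
    exact Subgroup.commutator_mem_commutator (Subgroup.mem_top g) (Subgroup.mem_top y)
  obtain ⟨k, -, hk⟩ := (Nat.dvd_prime_pow hq.out).mp (orderOf_dvd_of_pow_eq_one hdq)
  rcases Nat.eq_zero_or_pos k with h0 | h0
  · exact absurd (orderOf_eq_one_iff.mp (by rw [hk, h0, pow_zero])) hd1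
  · exact (dvd_pow_self q h0.ne').trans (hk ▸ Subgroup.orderOf_dvd_natCard _ hdc)

include H in
/-- Two non-abelian Sylow primes are impossible. -/
theorem false_of_nonabelian {q r : ℕ} [hq : Fact q.Prime] [hr : Fact r.Prime] (hqr : q ≠ r) {y x : N}
    (hy : y ∉ Z) (hx : x ∉ Z) {i j : ℕ} (hyi : orderOf y = q ^ i) (hxj : orderOf x = r ^ j)
    (hxy : Commute y x)
    (hnq : ∀ P : Sylow q N, ∃ a ∈ (P : Subgroup N), ∃ b ∈ (P : Subgroup N), a * b ≠ b * a)
    (hnr : ∀ P : Sylow r N, ∃ a ∈ (P : Subgroup N), ∃ b ∈ (P : Subgroup N), a * b ≠ b * a) : False := by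
  obtain ⟨habel, hall⟩ := abelian_cent H hy hx hq.out hr.out hqr hyi hxj hxy
  have hCxy : (Cn x) = (Cn y) := hall x (mem_cent.mpr hxy.symm.eq) hx
  obtain ⟨u, huA, ⟨eu, hue⟩, hun⟩ := grow H hy hyi habel hall hnq
  obtain ⟨g, hgA, ⟨eg, hge⟩, hgn⟩ := grow H hx hxj (hCxy.symm ▸ habel)
    (fun z hz hzZ => (hall z (hCxy ▸ hz) hzZ).trans hCxy.symm) hnr
  rw [hCxy] at hgA hgn
  set A : Subgroup N := (Cn y) with hA
  let _ : CommGroup A :=
    { (inferInstance : Group A) with mul_comm := fun a b => Subtype.ext (habel a a.2 b b.2) }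
  let φ := A.normalizerMonoidHom
  let Z' : Subgroup A := Z.subgroupOf A
  have hval : ∀ (m : Subgroup.normalizer (A : Set N)) (c : A),
      ((φ m c : A) : N) = (m : N) * (c : N) * (m : N)⁻¹ := fun m c => rfl
  have hS : Semireg φ.range Z' := by
    refine ⟨?_, ?_⟩
    · rintro ⟨_, m, rfl⟩ z hz
      refine Subtype.ext ?_
      show ((φ m z : A) : N) = z
      have hz' : (z : N) ∈ Z := hz
      rw [hval, Subgroup.mem_center_iff.mp (H.zc hz') (m : N), mul_inv_cancel_right]
    · rintro ⟨_, m, rfl⟩ hw c hc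
      by_contra hcZ
      have h1 : (m : N) * (c : N) * (m : N)⁻¹ = c := congrArg Subtype.val hc
      rw [mul_inv_eq_iff_eq_mul] at h1
      have hm : (m : N) ∈ A := (hall c c.2 hcZ).le (mem_cent.mpr h1)
      refine hw (Subtype.ext (MulEquiv.ext fun d => Subtype.ext ?_))
      show ((φ m d : A) : N) = d
      rw [hval, habel _ hm _ d.2, mul_inv_cancel_right]
  have hmk : ∀ (w : N), w ∈ Subgroup.normalizer (A : Set N) → w ∉ A → ∀ (s e : ℕ), orderOf w = s ^ e →
      ∃ W : φ.range, W ≠ 1 ∧ W ^ s ^ e = 1 := by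
    intro w hw hwA s e hwe
    refine ⟨φ.rangeRestrict ⟨w, hw⟩, fun h => hwA ?_, ?_⟩
    · have h1 : φ ⟨w, hw⟩ ⟨y, mem_cent.mpr rfl⟩ = ⟨y, mem_cent.mpr rfl⟩ := by
        have h0 : φ ⟨w, hw⟩ = 1 := congrArg Subtype.val h
        rw [h0]; rfl
      have h2 : w * y * w⁻¹ = y := congrArg Subtype.val h1
      rw [mul_inv_eq_iff_eq_mul] at h2
      exact mem_cent.mpr h2
    · rw [← map_pow, show (⟨w, hw⟩ : Subgroup.normalizer (A : Set N)) ^ s ^ e = 1 from
        Subtype.ext (hwe ▸ pow_orderOf_eq_one w), map_one]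
  obtain ⟨U, hU, hUp⟩ := hmk u hun huA q eu hue
  obtain ⟨G', hG', hGp⟩ := hmk g hgn hgA r eg hge
  exact false_of_two_primes hS hqr
    ⟨⟨y, mem_cent.mpr rfl⟩, ⟨i, Subtype.ext (hyi ▸ pow_orderOf_eq_one y)⟩, hy⟩
    ⟨⟨x, mem_cent.mpr hxy.symm.eq⟩, ⟨j, Subtype.ext (hxj ▸ pow_orderOf_eq_one x)⟩, hx⟩
    hU hUp hG' hGp

/-- A central element of prime order in the commutator subgroup excludes an abelian Sylow subgroup. -/
theorem sylow_nonabelian {q : ℕ} [hq : Fact q.Prime] {z : N} (hz : z ∈ Subgroup.center N)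
    (hzc : z ∈ commutator N) (hzo : orderOf z = q) (P : Sylow q N) :
    ∃ a ∈ (P : Subgroup N), ∃ b ∈ (P : Subgroup N), a * b ≠ b * a := by
  by_contra hcon
  push Not at hcon
  let _ : CommGroup (P : Subgroup N) :=
    { (inferInstance : Group (P : Subgroup N)) with mul_comm := fun a b => Subtype.ext (hcon a a.2 b b.2) }
  have hzP : z ∈ (P : Subgroup N) := by
    obtain ⟨S, hS⟩ := (IsPGroup.of_card (n := 1) (by rw [Nat.card_zpowers, hzo, pow_one]) :
      IsPGroup q (Subgroup.zpowers z)).exists_le_sylow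
    obtain ⟨c, hc⟩ := MulAction.exists_smul_eq N S P
    rw [← hc, Sylow.coe_subgroup_smul]
    refine ⟨z, hS (Subgroup.mem_zpowers z), ?_⟩
    show c * z * c⁻¹ = z
    rw [Subgroup.mem_center_iff.mp hz c, mul_inv_cancel_right]
  let t : N →* (P : Subgroup N) := MonoidHom.transfer (MonoidHom.id (P : Subgroup N))
  have ht : t z = 1 := MonoidHom.mem_ker.mp (Abelianization.commutator_subset_ker t hzc)
  have hkey : ∀ (k : ℕ) (g₀ : N), g₀⁻¹ * z ^ k * g₀ ∈ (P : Subgroup N) → g₀⁻¹ * z ^ k * g₀ = z ^ k := by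
    intro k g₀ _
    rw [Subgroup.mem_center_iff.mp (Subgroup.pow_mem _ hz k) g₀⁻¹, inv_mul_cancel_right]
  have h1 := MonoidHom.transfer_eq_pow (MonoidHom.id (P : Subgroup N)) z hkey
  have h2 : z ^ (P : Subgroup N).index = 1 := by
    have h3 : (⟨z ^ (P : Subgroup N).index, (P : Subgroup N).pow_mem hzP _⟩ : (P : Subgroup N)) = 1 := by
      rw [← ht]; exact h1.symm
    exact congrArg Subtype.val h3
  exact P.not_dvd_index ((dvd_of_eq hzo.symm).trans (orderOf_dvd_of_pow_eq_one h2))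

end group

section count

variable {G : Type*} [Group G] [Finite G]

theorem dvd_ncard_of_classes {m : ℕ} (S : Set G) (hconj : ∀ x ∈ S, ∀ g : G, g * x * g⁻¹ ∈ S)
    (hm : ∀ x ∈ S, cs x = m) : m ∣ S.ncard := by
  classical
  have := Fintype.ofFinite G
  have hsame : ∀ x y : G, y ∈ cls x → cls y = cls x := by
    rintro x _ ⟨k, rfl⟩
    ext w
    constructor
    · rintro ⟨l, rfl⟩
      exact ⟨l * k, by group⟩
    · rintro ⟨l, rfl⟩
      exact ⟨l * k⁻¹, by group⟩
  rw [Set.ncard_eq_toFinset_card', Finset.card_eq_sum_card_image cls]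
  refine Finset.dvd_sum fun c hc => ?_
  obtain ⟨x, hx, rfl⟩ := Finset.mem_image.mp hc
  rw [Set.mem_toFinset] at hx
  have : (S.toFinset.filter fun a => cls a = cls x) = (cls x).toFinset := by
    ext w
    simp only [Finset.mem_filter, Set.mem_toFinset]
    constructor
    · rintro ⟨-, hw⟩
      exact hw ▸ self_mem_cls w
    · intro hw
      refine ⟨?_, hsame x w hw⟩
      obtain ⟨k, rfl⟩ := hw
      exact hconj x hx k
  rw [this, ← Set.ncard_eq_toFinset_card', ncard_cls, hm x hx]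

end count

/-- Let G be a finite group, r a prime and R a Sylow r-subgroup of G that is not central, N a normal subgroup of G containing R, and m a natural number such that every element of N has a conjugacy class in G of size 1 or m. Then N is nilpotent. -/
theorem result {G : Type*} [Group G] [Finite G] (r : ℕ) [Fact r.Prime]
    (R : Sylow r G) (hR : ¬ (R : Subgroup G) ≤ Subgroup.center G) (N : Subgroup G) [N.Normal] (hRN : (R : Subgroup G) ≤ N)
    (m : ℕ) (h : ∀ x ∈ N, (Subgroup.centralizer ({x} : Set G)).index = 1 ∨ (Subgroup.centralizer ({x} : Set G)).index = m) : Group.IsNilpotent N := by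
  classical
  by_cases hNn : Group.IsNilpotent N
  · exact hNn
  exfalso
  have hcs : ∀ a : G, a ∈ N → a ∉ Subgroup.center G → cs a = m := by
    intro a ha hac
    refine (h a ha).resolve_left fun h1 => hac ?_
    rw [Subgroup.mem_center_iff]
    intro g
    exact mem_cent.mp ((Subgroup.index_eq_one.mp h1).symm ▸ Subgroup.mem_top g)
  have hCeq : ∀ a b : G, cs a = cs b → (Subgroup.centralizer ({a} : Set G)) ≤ Subgroup.centralizer {b} →
      Subgroup.centralizer ({a} : Set G) = Subgroup.centralizer {b} := by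
    intro a b hab hle
    refine Subgroup.eq_of_le_of_card_ge hle (le_of_eq (Nat.eq_of_mul_eq_mul_right (cs_pos a) ?_))
    show _ * (Subgroup.centralizer ({a} : Set G)).index = Nat.card _ * (Subgroup.centralizer ({a} : Set G)).index
    rw [Subgroup.card_mul_index, show (Subgroup.centralizer ({a} : Set G)).index = cs b from hab,
      Subgroup.card_mul_index]
  have hsub : ∀ a : N, Subgroup.centralizer ({a} : Set N) = (Subgroup.centralizer ({(a : G)} : Set G)).subgroupOf N := by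
    intro a
    ext g
    rw [Subgroup.mem_subgroupOf, mem_cent, mem_cent]
    exact Subtype.ext_iff
  set Z : Subgroup N := (Subgroup.center G).subgroupOf N with hZ
  have hmemZ : ∀ a : N, a ∈ Z ↔ (a : G) ∈ Subgroup.center G := fun a => Subgroup.mem_subgroupOf
  have hH : Hyp Z := by
    refine ⟨fun z hz => Subgroup.mem_center_iff.mpr fun g =>
      Subtype.ext (Subgroup.mem_center_iff.mp ((hmemZ z).mp hz) g), ?_, ?_⟩
    · intro a b ha hb hab hco
      rw [hsub, hsub]
      have habG : Commute (a : G) (b : G) := congrArg Subtype.val hab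
      obtain ⟨k, hk1, hk2⟩ := Nat.chineseRemainder hco 1 0
      have hxa : a ^ k = a := by
        conv_rhs => rw [← pow_one a]
        exact pow_eq_pow_iff_modEq.2 hk1
      have hxb : b ^ k = 1 := by
        rw [← pow_zero b]; exact pow_eq_pow_iff_modEq.2 hk2
      have habZ : a * b ∉ Z := fun h => ha (by
        have := Z.pow_mem h k
        rwa [hab.mul_pow, hxa, hxb, mul_one] at this)
      have hle : Subgroup.centralizer ({((a * b : N) : G)} : Set G) ≤ Subgroup.centralizer {(a : G)} := by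
        intro c hc
        have h1 : Commute c ((a * b : N) : G) := mem_cent.mp hc
        have h2 := h1.pow_right k
        rw [← SubmonoidClass.coe_pow, hab.mul_pow, hxa, hxb, mul_one] at h2
        exact mem_cent.mpr h2
      have hle2 : Subgroup.centralizer ({((a * b : N) : G)} : Set G) ≤ Subgroup.centralizer {(b : G)} := by
        intro c hc
        have h1 : Commute c ((a * b : N) : G) := mem_cent.mp hc
        have h2 : Commute c (a : G) := mem_cent.mp (hle hc)
        have h3 := h2.inv_right.mul_right h1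
        rw [Subgroup.coe_mul, inv_mul_cancel_left] at h3
        exact mem_cent.mpr h3
      have hh := fun c (hc : c ∉ Z) => hcs (c : G) c.2 fun h => hc ((hmemZ c).mpr h)
      rw [← hCeq _ _ ((hh _ habZ).trans (hh _ ha).symm) hle, ← hCeq _ _ ((hh _ habZ).trans (hh _ hb).symm) hle2]
    · intro a k ha hak
      rw [hsub, hsub]
      congr 1
      refine (hCeq _ _ ((hcs _ a.2 fun h => ha ((hmemZ a).mpr h)).trans
        (hcs _ (a ^ k).2 fun h => hak ((hmemZ _).mpr h)).symm) fun c hc => ?_).symm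
      rw [SubmonoidClass.coe_pow]
      exact mem_cent.mpr (Commute.pow_right (mem_cent.mp hc) k)
  obtain ⟨x₀, hx₀R, hx₀⟩ := Set.not_subset.mp hR
  obtain ⟨e₀, he₀⟩ := IsPGroup.iff_orderOf.mp R.2 ⟨x₀, hx₀R⟩
  rw [Subgroup.orderOf_mk] at he₀
  have hx₀N : x₀ ∈ N := hRN hx₀R
  have hidx : ∀ p : ℕ, ¬ p ∣ m → ∀ w : N, w ∉ Z → ¬ p ∣ (Subgroup.centralizer ({w} : Set N)).index := by
    intro p hp w hw hd
    rw [hsub] at hd
    have h1 := relIndex_dvd_index (Subgroup.centralizer ({(w : G)} : Set G)) N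
    have h2 := hcs (w : G) w.2 fun h => hw ((hmemZ w).mpr h)
    exact hp (h2 ▸ hd.trans h1)
  have hrm : r ∣ m := by
    by_contra hrm
    exact hNn (cover hH (a₀ := ⟨x₀, hx₀N⟩) (e := e₀) (by rw [Subgroup.orderOf_mk]; exact he₀)
      (fun h => hx₀ ((hmemZ _).mp h)) (hidx r hrm))
  -- an element outside the centre of prime power order, not an `r`-element
  by_cases hall : ∀ (g : N) (s i : ℕ), s.Prime → orderOf g = s ^ i → g ∉ Z → s = r
  · exact hNn (nilpotent_of_all_p hH hall)
  push Not at hall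
  obtain ⟨y, q, i, hq, hyi, hy, hqr⟩ := hall
  have := Fact.mk hq
  have hqm : q ∣ m := by
    by_contra hqm
    exact hNn (cover hH hyi hy (hidx q hqm))
  have hym : cs (y : G) = m := hcs _ y.2 fun h => hy ((hmemZ y).mpr h)
  have hxm : cs x₀ = m := hcs _ hx₀N hx₀
  have hrin : ∀ (u : G) (k : ℕ), orderOf u = r ^ k → u ∈ N := by
    intro u k hu
    obtain ⟨S, hS⟩ := (IsPGroup.of_card (n := k) (by rw [Nat.card_zpowers, hu]) :
      IsPGroup r (Subgroup.zpowers u)).exists_le_sylow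
    obtain ⟨c, hc⟩ := MulAction.exists_smul_eq G R S
    have hu' : u ∈ (S : Subgroup G) := hS (Subgroup.mem_zpowers u)
    rw [← hc, Sylow.coe_subgroup_smul] at hu'
    obtain ⟨t, ht, rfl⟩ := hu'
    exact Subgroup.Normal.conj_mem inferInstance t (hRN ht) c
  obtain ⟨x, hxy, hx, j, hxj⟩ : ∃ x : N, Commute y x ∧ x ∉ Z ∧ ∃ j, orderOf x = r ^ j := by
    by_contra hcon
    push Not at hcon
    obtain ⟨T⟩ : Nonempty (Sylow r (Subgroup.centralizer ({(y : G)} : Set G))) := inferInstance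
    set T' := (T : Subgroup (Subgroup.centralizer ({(y : G)} : Set G))).map (Subgroup.subtype _) with hT'
    have hT'c : T' ≤ Subgroup.center G := by
      rintro _ ⟨t, ht, rfl⟩
      by_contra htc
      obtain ⟨k, hk⟩ := IsPGroup.iff_orderOf.mp T.2 ⟨t, ht⟩
      rw [Subgroup.orderOf_mk, ← Subgroup.orderOf_coe] at hk
      have h1 : (t : G) * y = y * t := mem_cent.mp t.2
      exact hcon ⟨t, hrin _ k hk⟩ (Subtype.ext h1.symm) (fun h => htc ((hmemZ _).mp h)) k
        (by rw [Subgroup.orderOf_mk]; exact hk)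
    have hT'p : IsPGroup r T' := T.2.map _
    set V := T' ⊔ Subgroup.zpowers x₀ with hV
    have hT'n : T'.Normal := ⟨fun t ht g => by
      rwa [Subgroup.mem_center_iff.mp (hT'c ht) g, mul_inv_cancel_right]⟩
    have hVp : IsPGroup r V := IsPGroup.to_sup_of_normal_left hT'p
      (IsPGroup.of_card (n := e₀) (by rw [Nat.card_zpowers, he₀]))
    have hVC : V ≤ Subgroup.centralizer ({x₀} : Set G) := by
      refine sup_le (fun t ht => mem_cent.mpr (Subgroup.mem_center_iff.mp (hT'c ht) x₀).symm) ?_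
      rw [Subgroup.zpowers_le]
      exact mem_cent.mpr rfl
    have hceq : Nat.card (Subgroup.centralizer ({x₀} : Set G)) = Nat.card (Subgroup.centralizer ({(y : G)} : Set G)) := by
      refine Nat.eq_of_mul_eq_mul_right (cs_pos x₀) ?_
      show _ * (Subgroup.centralizer ({x₀} : Set G)).index = Nat.card _ * (Subgroup.centralizer ({x₀} : Set G)).index
      rw [Subgroup.card_mul_index, show (Subgroup.centralizer ({x₀} : Set G)).index = cs (y : G) from hxm.trans hym.symm,
        Subgroup.card_mul_index]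
    obtain ⟨v, hv⟩ := IsPGroup.iff_card.mp hVp
    have hcardT : Nat.card V ≤ Nat.card T' := by
      rw [hT', Subgroup.card_map_of_injective (Subgroup.subtype_injective _), T.card_eq_multiplicity, hv]
      refine Nat.pow_le_pow_right (Fact.out : r.Prime).pos ?_
      rw [← (Fact.out : r.Prime).pow_dvd_iff_le_factorization Nat.card_pos.ne', ← hceq, ← hv]
      exact Subgroup.card_dvd_of_le hVC
    have hVT := Subgroup.eq_of_le_of_card_ge (le_sup_left : T' ≤ V) hcardT
    exact hx₀ (hT'c (hVT ▸ (le_sup_right : _ ≤ V) (Subgroup.mem_zpowers x₀)))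
  have hnr : ∀ P : Sylow r N, ∃ a ∈ (P : Subgroup N), ∃ b ∈ (P : Subgroup N), a * b ≠ b * a := by
    intro P
    by_contra hcon
    push Not at hcon
    refine absurd hrm ?_
    have h0 : (R : Subgroup G) ≤ Subgroup.centralizer ({x₀} : Set G) := by
      intro t ht
      obtain ⟨c, hc⟩ := MulAction.exists_smul_eq N P (R.subtype hRN)
      have hmem : ∀ s : G, ∀ hs : s ∈ (R : Subgroup G),
          (⟨s, hRN hs⟩ : N) ∈ ((R.subtype hRN : Sylow r N) : Subgroup N) := fun s hs => by
        rw [Sylow.coe_subtype]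
        exact Subgroup.mem_subgroupOf.mpr hs
      have h1 := hmem t ht
      have h2 := hmem x₀ hx₀R
      rw [← hc, Sylow.coe_subgroup_smul] at h1 h2
      obtain ⟨a, ha, hat⟩ := h1
      obtain ⟨b, hb, hbt⟩ := h2
      refine mem_cent.mpr ?_
      have h3 : (⟨t, hRN ht⟩ : N) * ⟨x₀, hx₀N⟩ = ⟨x₀, hx₀N⟩ * ⟨t, hRN ht⟩ := by
        rw [← hat, ← hbt]
        show MulAut.conj c a * MulAut.conj c b = MulAut.conj c b * MulAut.conj c a
        rw [← map_mul, hcon a ha b hb, map_mul]
      exact congrArg Subtype.val h3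
    exact hxm ▸ not_dvd_index_of_sylow_le R h0
  have hqc : q ∣ Nat.card (commutator N) := dvd_commutator hH hqr hy hx hyi hxj hxy hnr
  -- a central element of order `q` in the commutator subgroup
  have hnq : ∀ P : Sylow q N, ∃ a ∈ (P : Subgroup N), ∃ b ∈ (P : Subgroup N), a * b ≠ b * a := by
    set D : Subgroup G := (commutator N).map N.subtype with hD
    have hDn : D.Normal := by
      rw [hD, commutator_def, Subgroup.map_commutator, ← MonoidHom.range_eq_map, Subgroup.range_subtype]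
      exact Subgroup.commutator_normal N N
    have hDN : D ≤ N := Subgroup.map_subtype_le _
    have hm1 : m ∣ ((D : Set G) \ (Subgroup.center G : Set G)).ncard := by
      refine dvd_ncard_of_classes _ ?_ fun a ha => hcs a (hDN ha.1) ha.2
      rintro a ⟨ha, hac⟩ g
      refine ⟨hDn.conj_mem a ha g, fun hgc => hac ?_⟩
      simpa [mul_assoc] using (inferInstance : (Subgroup.center G).Normal).conj_mem _ hgc g⁻¹
    have hsum : ((D : Set G) \ (Subgroup.center G : Set G)).ncard + Nat.card (D ⊓ Subgroup.center G : Subgroup G) =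
        Nat.card (commutator N) := by
      have e : Nat.card D = Nat.card (commutator N) := Subgroup.card_map_of_injective (Subgroup.subtype_injective N)
      rw [← e,
        ← Nat.card_coe_set_eq]
      have := Set.ncard_inter_add_ncard_diff_eq_ncard (D : Set G) (Subgroup.center G : Set G)
      rw [Nat.card_coe_set_eq, ← SetLike.coe_sort_coe D, Nat.card_coe_set_eq, ← SetLike.coe_sort_coe,
        Nat.card_coe_set_eq, Subgroup.coe_inf]
      omega
    have hqd : q ∣ Nat.card (D ⊓ Subgroup.center G : Subgroup G) :=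
      (Nat.dvd_add_right (hqm.trans hm1)).mp (hsum ▸ hqc)
    obtain ⟨z, hz⟩ := exists_prime_orderOf_dvd_card' q hqd
    rw [← Subgroup.orderOf_coe] at hz
    obtain ⟨⟨z', hz', hzz⟩, hzc⟩ := z.2
    intro P
    refine sylow_nonabelian (hH.zc ((hmemZ z').mpr ?_)) hz' ?_ P
    · have hzz' : (z' : G) = _ := hzz
      rw [hzz']
      exact hzc
    · rw [← Subgroup.orderOf_coe, show (z' : G) = _ from hzz]
      exact hz
  exact false_of_nonabelian hH hqr hy hx hyi hxj hxy hnq hnr

end Cfsg.Agent.S4135
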