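import Cfsg.Statements.S4146
import Cfsg.Agent.Lib.CaminaSizes63Good
import Cfsg.Agent.Lib.CaminaSizes63Bad

set_option autoImplicit false
open Cfsg

namespace Cfsg.Agent.S4146

/-- Let G be a finite group whose conjugacy class sizes are exactly 1, n, m and nm for coprime integers n, m > 1. Then G is nilpotent and n and m are prime powers. -/
theorem result {G : Type*} [Group G] [Finite G] (n m : ℕ) (hn : 1 < n) (hm : 1 < m) (hcop : n.Coprime m)
    (h : Set.range (fun x : G => (Subgroup.centralizer ({x} : Set G)).index) = ({1, n, m, n * m} : Set ℕ)) :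
    Group.IsNilpotent G ∧ IsPrimePow n ∧ IsPrimePow m := by
  classical
  have hv : ∀ g : G, ClassSizeGraph76.cs g = 1 ∨ ClassSizeGraph76.cs g = n ∨
      ClassSizeGraph76.cs g = m ∨ ClassSizeGraph76.cs g = n * m := by
    intro g
    have := (Set.ext_iff.1 h (ClassSizeGraph76.cs g)).1 ⟨g, rfl⟩
    simpa using this
  have hex : ∀ k : ℕ, k = n ∨ k = m ∨ k = n * m → ∃ g : G, ClassSizeGraph76.cs g = k := by
    intro k hk
    have := (Set.ext_iff.1 h k).2 (by simp only [Set.mem_insert_iff, Set.mem_singleton_iff]; tauto)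
    obtain ⟨g, hg⟩ := this
    exact ⟨g, hg⟩
  have D : CaminaSizes63.Vals G n m :=
    ⟨hn, hm, hcop, hv, hex n (by simp), hex m (by simp), hex (n * m) (by simp)⟩
  obtain ⟨hpn, hpm⟩ := D.isPrimePow
  refine ⟨?_, hpn, hpm⟩
  obtain ⟨p, a, hp, ha, rfl⟩ := (isPrimePow_nat_iff n).1 hpn
  obtain ⟨q, b, hq, hb, rfl⟩ := (isPrimePow_nat_iff m).1 hpm
  have hne : p ≠ q := by
    rintro rfl
    exact hp.ne_one (Nat.eq_one_of_dvd_coprimes hcop (dvd_pow_self p ha.ne') (dvd_pow_self p hb.ne'))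
  have P : CaminaSizes63.PP G p q (p ^ a) (q ^ b) := ⟨hp, hq, hne, ⟨a, rfl⟩, ⟨b, rfl⟩, D⟩
  by_cases h1 : ∃ x : G, TwoRegSizes38.IsPE p x ∧ ClassSizeGraph76.cs x = p ^ a
  · obtain ⟨x, hx, hxn⟩ := h1
    exact P.isNilpotent_of_good hx hxn
  by_cases h2 : ∃ y : G, TwoRegSizes38.IsPE q y ∧ ClassSizeGraph76.cs y = q ^ b
  · obtain ⟨y, hy, hym⟩ := h2
    exact P.symm.isNilpotent_of_good hy hym
  exact (CaminaSizes63.NG.not_exists
    ⟨P, fun x hx e => h1 ⟨x, hx, e⟩, fun y hy e => h2 ⟨y, hy, e⟩⟩).elim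

end Cfsg.Agent.S4146
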