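import Cfsg.Statements.S4137
import Cfsg.Agent.Lib.ThreeSizes56Psl
import Cfsg.Agent.Lib.ThreeSizes56Divide
import Cfsg.Agent.S4146

set_option autoImplicit false
open Cfsg

namespace Cfsg.Agent.S4137

open Cfsg.Agent.ClassSizeGraph76 (cs)
open Cfsg.Agent.TwoRegSizes38 (Cn)
open Cfsg.Agent.CaminaSizes63 (cs_eq_one_iff cs_dvd_of_le)
open Cfsg.Agent.ThreeSizes56

theorem abel2 {G : Type*} [Group G] [Finite G] (hZ : Subgroup.center G = ⊥)
    (h : Nat.card {n : ℕ | 1 < n ∧ ∃ x : G, (Subgroup.centralizer ({x} : Set G)).index = n} ≤ 3)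
    (hns : ¬ Group.IsSolvable G) : Abel2 G := by
  classical
  by_cases hanti : ∀ x y : G, x ≠ 1 → y ≠ 1 → cs y ∣ cs x → cs x = cs y
  · exact abel2_of_antichain hZ hanti hns
  push Not at hanti
  obtain ⟨x, y, hx, hy, hdvd, hne⟩ := hanti
  have hgt : ∀ {g : G}, g ≠ 1 → 1 < cs g := fun {g} hg =>
    lt_of_le_of_ne (ClassSizeGraph76.cs_pos g) fun e => hg (by
      have := cs_eq_one_iff.1 e.symm
      rwa [hZ, Subgroup.mem_bot] at this)
  have hlt : cs y < cs x :=
    lt_of_le_of_ne (Nat.le_of_dvd (ClassSizeGraph76.cs_pos x) hdvd) (Ne.symm hne)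
  set a := cs y with ha
  set b := cs x with hb
  set S := {n : ℕ | 1 < n ∧ ∃ x : G, (Subgroup.centralizer ({x} : Set G)).index = n} with hSdef
  have hfin : S.Finite := (Set.finite_range (fun g : G => cs g)).subset
    fun n ⟨_, g, hg⟩ => ⟨g, hg⟩
  have hmemS : ∀ {g : G}, g ≠ 1 → cs g ∈ S := fun {g} hg => ⟨hgt hg, g, rfl⟩
  have hmiss : ∀ p : ℕ, p.Prime → p ∣ a → ∃ g : G, g ≠ 1 ∧ ¬ p ∣ cs g := by
    intro p hp hpa
    haveI := Fact.mk hp
    obtain ⟨P⟩ : Nonempty (Sylow p G) := inferInstance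
    obtain ⟨z, -, hzo, hPz⟩ := exists_sylow_central P (hpa.trans (Subgroup.index_dvd_card _))
    exact ⟨z, fun e => hp.ne_one (by rw [← hzo, e, orderOf_one]), not_dvd_cs P hPz⟩
  obtain ⟨p, hp, hpa⟩ := Nat.exists_prime_and_dvd (hgt hy).ne'
  obtain ⟨z, hz, hpz⟩ := hmiss p hp hpa
  set c := cs z with hc
  have hca : c ≠ a := fun e => hpz (e ▸ hpa)
  have hcb : c ≠ b := fun e => hpz (e ▸ hpa.trans hdvd)
  have hS : ({a, b, c} : Set ℕ) = S := by
    refine Set.eq_of_subset_of_ncard_le ?_ ?_ hfin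
    · rintro n (rfl | rfl | rfl)
      exacts [hmemS hy, hmemS hx, hmemS hz]
    · rw [← Nat.card_coe_set_eq S]
      refine h.trans (le_of_eq ?_)
      rw [Set.ncard_insert_of_notMem (by simp [hlt.ne, hca.symm]),
        Set.ncard_pair (Ne.symm hcb)]
  have hcases : ∀ g : G, g ≠ 1 → cs g = a ∨ cs g = b ∨ cs g = c := by
    intro g hg
    have := hmemS hg
    rw [← hS] at this
    simpa using this
  have hcop : a.Coprime c := by
    refine Nat.coprime_of_dvd fun q hq hqa hqc => ?_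
    obtain ⟨g, hg, hqg⟩ := hmiss q hq hqa
    rcases hcases g hg with e | e | e
    · exact hqg (e ▸ hqa)
    · exact hqg (e ▸ hqa.trans hdvd)
    · exact hqg (e ▸ hqc)
  have h1a : 1 < a := hgt hy
  have h1c : 1 < c := hgt hz
  by_cases hcdb : c ∣ b
  · by_cases hbac : b = a * c
    · refine absurd ?_ hns
      have hr : Set.range (fun g : G => (Subgroup.centralizer ({g} : Set G)).index) =
          ({1, a, c, a * c} : Set ℕ) := by
        refine Set.Subset.antisymm ?_ ?_
        · rintro _ ⟨g, rfl⟩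
          by_cases hg : g = 1
          · exact Or.inl (cs_eq_one_iff.2 (hg ▸ Subgroup.one_mem _))
          · rcases hcases g hg with e | e | e
            · exact Or.inr (Or.inl e)
            · exact Or.inr (Or.inr (Or.inr (e.trans hbac)))
            · exact Or.inr (Or.inr (Or.inl e))
        · rintro _ (rfl | rfl | rfl | rfl)
          · exact ⟨1, cs_eq_one_iff.2 (Subgroup.one_mem _)⟩
          · exact ⟨y, rfl⟩
          · exact ⟨z, rfl⟩
          · exact ⟨x, hbac⟩
      haveI := (S4146.result a c h1a h1c hcop hr).1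
      infer_instance
    rcases lt_or_gt_of_ne hca with hlt' | hlt'
    · exact (Divide.mix (a := a) (b := b) (c := c)
        ⟨hZ, h1a, h1c, hcop, hdvd, hcdb, hbac, hlt', hcases, ⟨y, rfl⟩, ⟨x, rfl⟩, ⟨z, rfl⟩⟩).abel2 hns
    · exact (Divide.mix (a := c) (b := b) (c := a)
        ⟨hZ, h1c, h1a, hcop.symm, hcdb, hdvd, fun e => hbac (e.trans (mul_comm _ _)), hlt',
          fun g hg => by rcases hcases g hg with e | e | e <;> tauto,
          ⟨z, rfl⟩, ⟨x, rfl⟩, ⟨y, rfl⟩⟩).abel2 hns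
  · refine Mix.abel2 (a := a) (b := b) (c := c)
      ⟨hZ, h1a, h1c, hcop, hdvd, hlt, hcases, ⟨y, rfl⟩, ⟨x, rfl⟩, ⟨z, rfl⟩, ?_⟩ hns
    intro g v hv hle
    have hd := cs_dvd_of_le hle
    rw [hv] at hd
    have hg : g ≠ 1 := fun e => by
      rw [e, cs_eq_one_iff.2 (Subgroup.one_mem _)] at hd
      exact h1c.ne' (Nat.dvd_one.1 hd)
    rcases hcases g hg with e | e | e
    · exact absurd (hcop.symm.eq_one_of_dvd (e ▸ hd)) h1c.ne'
    · exact absurd (e ▸ hd) hcdb
    · exact e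

/-- Let G be a finite group with trivial centre and at most three distinct sizes of conjugacy classes other than 1. Then G is solvable or G is isomorphic to PSL₂(2^a) for some a ≥ 1. -/
theorem result {G : Type*} [Group G] [Finite G]
    (hZ : Subgroup.center G = ⊥) (h : Nat.card {n : ℕ | 1 < n ∧ ∃ x : G, (Subgroup.centralizer ({x} : Set G)).index = n} ≤ 3) :
    Group.IsSolvable G ∨ ∃ a : ℕ, 0 < a ∧ Nonempty (G ≃* Matrix.ProjectiveSpecialLinearGroup (Fin 2) (GaloisField 2 a)) := by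
  by_cases hns : Group.IsSolvable G
  · exact Or.inl hns
  · exact Or.inr (psl_of_abel2 hZ hns (abel2 hZ h hns))

end Cfsg.Agent.S4137
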