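import Cfsg.Statements.S4139
import Mathlib
import Cfsg.Agent.Lib.H74Basic
import Cfsg.Agent.Lib.HallNilpotentConj

set_option autoImplicit false
open Cfsg

namespace Cfsg.Agent.S4139

section
open scoped Classical

variable {G : Type*} [Group G]

theorem index_eq_card_carrier (g : G) :
    (Subgroup.centralizer ({g} : Set G)).index = Nat.card (ConjClasses.mk g).carrier := by
  rw [ConjClasses.carrier_eq_preimage_mk]
  have h : ConjClasses.mk ⁻¹' {ConjClasses.mk g} = MulAction.orbit (ConjAct G) g := by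
    ext h
    rw [Set.mem_preimage, Set.mem_singleton_iff, ConjClasses.mk_eq_mk_iff_isConj, ConjAct.mem_orbit_conjAct]
  rw [h, Nat.card_coe_set_eq, ← MulAction.index_stabilizer, ConjAct.stabilizer_eq_centralizer]
  rfl

theorem index_conj (g h : G) :
    (Subgroup.centralizer ({h * g * h⁻¹} : Set G)).index = (Subgroup.centralizer ({g} : Set G)).index := by
  rw [index_eq_card_carrier, index_eq_card_carrier,
    ConjClasses.mk_eq_mk_iff_isConj.2 (isConj_iff.2 ⟨h, rfl⟩ : IsConj g (h * g * h⁻¹)).symm]

theorem center_iff_index (g : G) :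
    (Subgroup.centralizer ({g} : Set G)).index = 1 ↔ g ∈ Subgroup.center G := by
  rw [Subgroup.index_eq_one, Subgroup.centralizer_eq_top_iff_subset, Set.singleton_subset_iff]
  rfl

theorem count_transfer {H : Type*} [Group H] [Finite G] [Finite H]
    (h : ∀ k : ℕ, Nat.card {C : ConjClasses G // Nat.card C.carrier = k} =
      Nat.card {C : ConjClasses H // Nat.card C.carrier = k}) (F : ℕ → Prop) :
    Nat.card {g : G // F (Subgroup.centralizer ({g} : Set G)).index} =
      Nat.card {x : H // F (Subgroup.centralizer ({x} : Set H)).index} := by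
  let e : ConjClasses G ≃ ConjClasses H := Equiv.ofFiberEquiv
    (f := fun C : ConjClasses G => Nat.card C.carrier) (g := fun C : ConjClasses H => Nat.card C.carrier)
    (fun k => Classical.choice (Nonempty.intro (Finite.equivFinOfCardEq (h k) |>.trans
      (Finite.equivFinOfCardEq rfl).symm)))
  have he : ∀ C, Nat.card (e C).carrier = Nat.card C.carrier := fun C => Equiv.ofFiberEquiv_map (f := fun C : ConjClasses G => Nat.card C.carrier) (g := fun C : ConjClasses H => Nat.card C.carrier) _ C
  have hsig : ∀ (K : Type _) [Group K] [Finite K],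
      {g : K // F (Subgroup.centralizer ({g} : Set K)).index} ≃
        Σ C : {C : ConjClasses K // F (Nat.card C.carrier)}, (C.1.carrier : Set K) := fun K _ _ =>
    { toFun := fun g => ⟨⟨ConjClasses.mk g.1, by rw [← index_eq_card_carrier]; exact g.2⟩, ⟨g.1, ConjClasses.mem_carrier_mk⟩⟩
      invFun := fun x => ⟨x.2.1, by
        rw [index_eq_card_carrier, ConjClasses.mem_carrier_iff_mk_eq.1 x.2.2]; exact x.1.2⟩
      left_inv := fun g => rfl
      right_inv := fun x => by
        obtain ⟨⟨C, hC⟩, g, hg⟩ := x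
        obtain rfl := ConjClasses.mem_carrier_iff_mk_eq.1 hg
        rfl }
  haveI := Fintype.ofFinite {C : ConjClasses G // F (Nat.card C.carrier)}
  haveI := Fintype.ofFinite {C : ConjClasses H // F (Nat.card C.carrier)}
  rw [Nat.card_congr (hsig G), Nat.card_sigma]
  haveI : Finite {x : H // F (Subgroup.centralizer ({x} : Set H)).index} := inferInstance
  let hsigH : {g : H // F (Subgroup.centralizer ({g} : Set H)).index} ≃
      Σ C : {C : ConjClasses H // F (Nat.card C.carrier)}, (C.1.carrier : Set H) :=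
    { toFun := fun g => ⟨⟨ConjClasses.mk g.1, by rw [← index_eq_card_carrier]; exact g.2⟩, ⟨g.1, ConjClasses.mem_carrier_mk⟩⟩
      invFun := fun x => ⟨x.2.1, by
        rw [index_eq_card_carrier, ConjClasses.mem_carrier_iff_mk_eq.1 x.2.2]; exact x.1.2⟩
      left_inv := fun g => rfl
      right_inv := fun x => by
        obtain ⟨⟨C, hC⟩, g, hg⟩ := x
        obtain rfl := ConjClasses.mem_carrier_iff_mk_eq.1 hg
        rfl }
  rw [Nat.card_congr hsigH, Nat.card_sigma]
  exact Fintype.sum_equiv (e.subtypeEquiv fun C => by rw [he]) _ _ fun C => (he C.1).symm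

/-- `p`-elements. -/
def IsPEl (p : ℕ) (g : G) : Prop := ∃ k, orderOf g = p ^ k

variable [Finite G]

theorem exists_part_exponent (G : Type*) [Group G] [Finite G] (p : ℕ) [hp : Fact p.Prime] :
    ∃ K : ℕ, ∀ s z : G, Commute s z → IsPEl p s → (orderOf z).Coprime p → (s * z) ^ K = s := by
  obtain ⟨n, hn⟩ : ∃ n, Nat.card G = n := ⟨_, rfl⟩
  have hn0 : n ≠ 0 := hn ▸ Nat.card_pos.ne'
  obtain ⟨K, hK1, hK2⟩ := Nat.chineseRemainder ((Nat.coprime_ordCompl hp.out hn0).pow_left (n.factorization p)) 1 0
  refine ⟨K, fun s z hc ⟨k, hk⟩ hz => ?_⟩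
  have hs : orderOf s ∣ p ^ n.factorization p := by
    rw [hk]
    exact Nat.pow_dvd_pow p ((hp.out.pow_dvd_iff_le_factorization hn0).1 (hk ▸ hn ▸ orderOf_dvd_natCard s))
  have hz' : orderOf z ∣ n / p ^ n.factorization p := by
    refine (hz.pow_right (n.factorization p)).dvd_of_dvd_mul_left ?_
    rw [Nat.ordProj_mul_ordCompl_eq_self]
    exact hn ▸ orderOf_dvd_natCard z
  rw [hc.mul_pow, pow_eq_pow_iff_modEq.2 (Nat.ModEq.of_dvd hs hK1), pow_one,
    pow_eq_pow_iff_modEq.2 (Nat.ModEq.of_dvd hz' hK2), pow_zero, mul_one]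

/-- Elements as pairs of commuting `p`- and `p'`-parts. -/
theorem card_parts (p : ℕ) [hp : Fact p.Prime] (P : G → Prop) (A B : G → Prop)
    (hA : ∀ s, A s → IsPEl p s) (hB : ∀ z, B z → (orderOf z).Coprime p)
    (hAB : ∀ s z, A s → B z → Commute s z ∧ P (s * z))
    (hP : ∀ s z, Commute s z → IsPEl p s → (orderOf z).Coprime p → P (s * z) → A s ∧ B z) :
    Nat.card {g : G // P g} = Nat.card {s : G // A s} * Nat.card {z : G // B z} := by
  obtain ⟨K, hK⟩ := exists_part_exponent G p
  rw [← Nat.card_prod]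
  symm
  refine Nat.card_congr (Equiv.ofBijective (fun x => ⟨x.1.1 * x.2.1, (hAB _ _ x.1.2 x.2.2).2⟩) ⟨?_, ?_⟩)
  · rintro ⟨⟨s, hs⟩, ⟨z, hz⟩⟩ ⟨⟨s', hs'⟩, ⟨z', hz'⟩⟩ h
    have h1 : s * z = s' * z' := congrArg Subtype.val h
    have h2 : s = s' := by
      rw [← hK s z (hAB s z hs hz).1 (hA s hs) (hB z hz), h1, hK s' z' (hAB s' z' hs' hz').1 (hA s' hs') (hB z' hz')]
    subst h2
    obtain rfl := mul_left_cancel h1
    rfl
  · rintro ⟨g, hg⟩
    obtain ⟨s, z, rfl, hsz, he, hz⟩ := H74Basic.exists_parts (p := p) g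
    obtain ⟨h1, h2⟩ := hP s z hsz he hz hg
    exact ⟨⟨⟨s, h1⟩, ⟨z, h2⟩⟩, rfl⟩

theorem cen_part {p : ℕ} [hp : Fact p.Prime] {s z : G} (hc : Commute s z) (hs : IsPEl p s)
    (hz : (orderOf z).Coprime p) :
    Subgroup.centralizer ({s * z} : Set G) ≤ Subgroup.centralizer ({s} : Set G) ∧
      Subgroup.centralizer ({s * z} : Set G) ≤ Subgroup.centralizer ({z} : Set G) := by
  obtain ⟨K, hK⟩ := exists_part_exponent G p
  have h1 : Subgroup.centralizer ({s * z} : Set G) ≤ Subgroup.centralizer ({s} : Set G) := fun d hd => by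
    rw [Subgroup.mem_centralizer_singleton_iff] at hd ⊢
    have := (show Commute d (s * z) from hd).pow_right K
    rw [hK s z hc hs hz] at this
    exact this
  refine ⟨h1, fun d hd => ?_⟩
  have hs' := h1 hd
  rw [Subgroup.mem_centralizer_singleton_iff] at hd hs' ⊢
  have h3 := (show Commute d s from hs').inv_right.mul_right (show Commute d (s * z) from hd)
  rw [inv_mul_cancel_left] at h3
  exact h3

/-- In a nilpotent group the `p`-elements form the Sylow subgroup. -/
theorem isPEl_iff_mem {p : ℕ} [hp : Fact p.Prime] (P : Sylow p G) (hP : (P : Subgroup G).Normal) (s : G) :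
    IsPEl p s ↔ s ∈ (P : Subgroup G) := by
  constructor
  · rintro ⟨k, hk⟩
    obtain ⟨Q, hQ⟩ := (IsPGroup.of_card (n := k) (by rw [Nat.card_zpowers, hk]) :
      IsPGroup p (Subgroup.zpowers s)).exists_le_sylow
    haveI := Sylow.unique_of_normal P hP
    obtain rfl : Q = P := Subsingleton.elim _ _
    exact hQ (Subgroup.mem_zpowers s)
  · intro hs
    obtain ⟨k, hk⟩ := IsPGroup.iff_orderOf.1 P.isPGroup' ⟨s, hs⟩
    exact ⟨k, by rwa [Subgroup.orderOf_mk] at hk⟩

theorem card_pPrime_mul (G : Type*) [Group G] [Finite G] [Group.IsNilpotent G] (p : ℕ) [hp : Fact p.Prime] :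
    Nat.card G = p ^ (Nat.card G).factorization p * Nat.card {z : G // (orderOf z).Coprime p} := by
  obtain ⟨P⟩ := (inferInstance : Nonempty (Sylow p G))
  rw [← P.card_eq_multiplicity]
  refine (Nat.card_congr (Equiv.subtypeUnivEquiv (p := fun _ : G => True) fun _ => trivial)).symm.trans ?_
  rw [card_parts p (fun _ => True) (IsPEl p) (fun z => (orderOf z).Coprime p) (fun _ h => h) (fun _ h => h)
    (fun s z ⟨k, hk⟩ hz => ⟨HallNilpotentConj.commute_of_coprime_orderOf G s z (hk ▸ (hz.pow_right k).symm), trivial⟩)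
    (fun _ _ _ h1 h2 _ => ⟨h1, h2⟩)]
  congr 1
  exact Nat.card_congr (Equiv.subtypeEquivRight fun s => isPEl_iff_mem P inferInstance s)

/-- The `p`-part of the centre has the `p`-part order. -/
theorem card_center_parts (G : Type*) [Group G] [Finite G] (p : ℕ) [hp : Fact p.Prime] :
    Nat.card {z : G // z ∈ Subgroup.center G ∧ IsPEl p z} = p ^ (Nat.card (Subgroup.center G)).factorization p ∧
      Nat.card (Subgroup.center G) = p ^ (Nat.card (Subgroup.center G)).factorization p *
        Nat.card {z : G // z ∈ Subgroup.center G ∧ (orderOf z).Coprime p} := by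
  letI : CommGroup (Subgroup.center G) := { mul_comm := fun a b => Subtype.ext (Subgroup.mem_center_iff.1 b.2 a) }
  haveI : Group.IsNilpotent (Subgroup.center G) := CommGroup.isNilpotent
  obtain ⟨P⟩ := (inferInstance : Nonempty (Sylow p (Subgroup.center G)))
  refine ⟨?_, ?_⟩
  · rw [← P.card_eq_multiplicity]
    exact Nat.card_congr
      { toFun := fun z => ⟨⟨z.1, z.2.1⟩, (isPEl_iff_mem P inferInstance _).1 (by
          obtain ⟨k, hk⟩ := z.2.2
          exact ⟨k, by rw [Subgroup.orderOf_mk]; exact hk⟩)⟩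
        invFun := fun z => ⟨z.1.1, z.1.2, by
          obtain ⟨k, hk⟩ := (isPEl_iff_mem P inferInstance _).2 z.2
          exact ⟨k, by rw [Subgroup.orderOf_coe]; exact hk⟩⟩
        left_inv := fun z => rfl
        right_inv := fun z => rfl }
  · conv_lhs => rw [card_pPrime_mul (Subgroup.center G) p]
    congr 1
    exact Nat.card_congr
      { toFun := fun z => ⟨z.1.1, z.1.2, by rw [Subgroup.orderOf_coe]; exact z.2⟩
        invFun := fun z => ⟨⟨z.1, z.2.1⟩, by rw [Subgroup.orderOf_mk]; exact z.2.2⟩
        left_inv := fun z => rfl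
        right_inv := fun z => rfl }

theorem pow_eq_one_of_coprime {p a : ℕ} [hp : Fact p.Prime] (h : (p ^ a).Coprime p) : p ^ a = 1 := by
  rcases a with _ | a
  · rfl
  · exact absurd (dvd_pow_self p a.succ_ne_zero) (hp.out.coprime_iff_not_dvd.1 h.symm)

/-- The counts in a nilpotent group. -/
theorem nilpotent_counts (G : Type*) [Group G] [Finite G] [Group.IsNilpotent G] (p : ℕ) [hp : Fact p.Prime] :
    Nat.card {g : G // ∃ a, (Subgroup.centralizer ({g} : Set G)).index = p ^ a} =
        p ^ (Nat.card G).factorization p * Nat.card {z : G // z ∈ Subgroup.center G ∧ (orderOf z).Coprime p} ∧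
      Nat.card {g : G // ((Subgroup.centralizer ({g} : Set G)).index).Coprime p} =
        p ^ (Nat.card (Subgroup.center G)).factorization p * Nat.card {z : G // (orderOf z).Coprime p} := by
  have hcomm : ∀ s z : G, IsPEl p s → (orderOf z).Coprime p → Commute s z := fun s z ⟨k, hk⟩ hz =>
    HallNilpotentConj.commute_of_coprime_orderOf G s z (hk ▸ (hz.pow_right k).symm)
  obtain ⟨P⟩ := (inferInstance : Nonempty (Sylow p G))
  have hz_idx : ∀ z : G, (orderOf z).Coprime p → ((Subgroup.centralizer ({z} : Set G)).index).Coprime p := by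
    intro z hz
    refine (hp.out.coprime_iff_not_dvd.2 fun h => P.not_dvd_index (h.trans (Subgroup.index_dvd_of_le ?_))).symm
    intro s hs
    exact Subgroup.mem_centralizer_singleton_iff.2 (hcomm s z ((isPEl_iff_mem P inferInstance s).2 hs) hz).eq
  have hs_idx : ∀ s : G, IsPEl p s → ∃ a, (Subgroup.centralizer ({s} : Set G)).index = p ^ a := by
    intro s hs
    refine ⟨_, Nat.eq_prime_pow_of_unique_prime_dvd Subgroup.index_ne_zero_of_finite fun {q} hq hqd => ?_⟩
    by_contra hne
    haveI := Fact.mk hq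
    obtain ⟨Q⟩ := (inferInstance : Nonempty (Sylow q G))
    refine Q.not_dvd_index (hqd.trans (Subgroup.index_dvd_of_le fun z hz => ?_))
    obtain ⟨k, hk⟩ := (isPEl_iff_mem Q inferInstance z).2 hz
    exact Subgroup.mem_centralizer_singleton_iff.2
      (hcomm s z hs (hk ▸ ((Nat.coprime_primes hq hp.out).2 hne).pow_left k)).symm.eq
  refine ⟨?_, ?_⟩
  · rw [card_parts p _ (IsPEl p) (fun z => z ∈ Subgroup.center G ∧ (orderOf z).Coprime p) (fun _ h => h)
      (fun _ h => h.2) ?_ ?_, ← P.card_eq_multiplicity]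
    · congr 1
      exact Nat.card_congr (Equiv.subtypeEquivRight fun s => isPEl_iff_mem P inferInstance s)
    · intro s z hs hz
      refine ⟨(Subgroup.mem_center_iff.1 hz.1 s), ?_⟩
      have heq : Subgroup.centralizer ({s * z} : Set G) = Subgroup.centralizer ({s} : Set G) := by
        refine le_antisymm (cen_part (Subgroup.mem_center_iff.1 hz.1 s) hs hz.2).1 fun d hd => ?_
        rw [Subgroup.mem_centralizer_singleton_iff] at hd ⊢
        exact (show Commute d s from hd).mul_right (Subgroup.mem_center_iff.1 hz.1 d)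
      rw [heq]; exact hs_idx s hs
    · rintro s z hc hs hz ⟨a, ha⟩
      refine ⟨hs, (center_iff_index z).1 ?_, hz⟩
      obtain ⟨b, -, hb⟩ := (Nat.dvd_prime_pow hp.out).1
        (ha ▸ Subgroup.index_dvd_of_le (cen_part hc hs hz).2)
      rw [hb]; exact pow_eq_one_of_coprime (hb ▸ hz_idx z hz)
  · rw [card_parts p _ (fun s => s ∈ Subgroup.center G ∧ IsPEl p s) (fun z => (orderOf z).Coprime p)
      (fun _ h => h.2) (fun _ h => h) ?_ ?_, (card_center_parts G p).1]
    · intro s z hs hz
      refine ⟨(Subgroup.mem_center_iff.1 hs.1 z).symm, ?_⟩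
      have heq : Subgroup.centralizer ({s * z} : Set G) = Subgroup.centralizer ({z} : Set G) := by
        refine le_antisymm (cen_part (Subgroup.mem_center_iff.1 hs.1 z).symm hs.2 hz).2 fun d hd => ?_
        rw [Subgroup.mem_centralizer_singleton_iff] at hd ⊢
        exact (show Commute d s from Subgroup.mem_center_iff.1 hs.1 d).mul_right hd
      rw [heq]; exact hz_idx z hz
    · intro s z hc hs hz h
      refine ⟨⟨(center_iff_index s).1 ?_, hs⟩, hz⟩
      obtain ⟨a, ha⟩ := hs_idx s hs
      have h1 := h.coprime_dvd_left (Subgroup.index_dvd_of_le (cen_part hc hs hz).1)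
      rw [ha] at h1 ⊢; exact pow_eq_one_of_coprime h1

/-- `Z(P) ≤ Z(G)`. -/
theorem sylow_center_le {p : ℕ} [hp : Fact p.Prime] (P : Sylow p G)
    (hcount : p ^ (Nat.card G).factorization p *
        Nat.card {g : G // ((Subgroup.centralizer ({g} : Set G)).index).Coprime p} =
      p ^ (Nat.card (Subgroup.center G)).factorization p * Nat.card G)
    {x : G} (hx : x ∈ (P : Subgroup G)) (hxP : ∀ g ∈ (P : Subgroup G), g * x = x * g) :
    x ∈ Subgroup.center G := by
  obtain ⟨Z, hZdef⟩ : ∃ Z : Subgroup G, ∀ z, z ∈ Z ↔ z ∈ Subgroup.center G ∧ IsPEl p z := by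
    let S : Subgroup (Subgroup.center G) :=
      letI : CommGroup (Subgroup.center G) := { mul_comm := fun a b => Subtype.ext (Subgroup.mem_center_iff.1 b.2 a) }
      CommGroup.primaryComponent (Subgroup.center G) p
    refine ⟨S.map (Subgroup.center G).subtype, fun z => ?_⟩
    constructor
    · rintro ⟨w, ⟨k, hk⟩, rfl⟩
      obtain ⟨j, -, hj⟩ := (Nat.dvd_prime_pow hp.out).1 (orderOf_dvd_of_pow_eq_one hk)
      exact ⟨w.2, j, by show orderOf (w : G) = _; rw [Subgroup.orderOf_coe]; exact hj⟩
    · rintro ⟨hz, k, hk⟩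
      exact ⟨⟨z, hz⟩, ⟨k, Subtype.ext (by simp [← hk, pow_orderOf_eq_one])⟩, rfl⟩
  have hZcen : ∀ z ∈ Z, ∀ g, Commute g z := fun z hz => Subgroup.mem_center_iff.1 ((hZdef z).1 hz).1
  haveI : Z.Normal := ⟨fun z hz g => by rw [(hZcen z hz g).eq, mul_inv_cancel_right]; exact hz⟩
  have hZcard : Nat.card Z = p ^ (Nat.card (Subgroup.center G)).factorization p := by
    rw [← (card_center_parts G p).1]; exact Nat.card_congr (Equiv.subtypeEquivRight hZdef)
  set R : Set G := {g | ((Subgroup.centralizer ({g} : Set G)).index).Coprime p} with hR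
  have hRmul : ∀ g ∈ R, ∀ z ∈ Z, g * z ∈ R := by
    intro g hg z hz
    have : Subgroup.centralizer ({g * z} : Set G) = Subgroup.centralizer ({g} : Set G) := by
      ext d
      rw [Subgroup.mem_centralizer_singleton_iff, Subgroup.mem_centralizer_singleton_iff]
      constructor <;> intro h
      · have h1 := (show Commute d (g * z) from h).mul_right (hZcen z hz d).inv_right
        rw [mul_inv_cancel_right] at h1; exact h1
      · exact (show Commute d g from h).mul_right (hZcen z hz d)
    show Nat.Coprime _ _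
    rw [this]; exact hg
  -- the image of `R` in `G ⧸ Z`
  let π := QuotientGroup.mk' Z
  have hQ : IsPGroup p ((((P : Subgroup G).map π).map (ConjAct.toConjAct (G := G ⧸ Z)).toMonoidHom)) :=
    (P.isPGroup'.map _).map _
  let S : SubMulAction (((P : Subgroup G).map π).map (ConjAct.toConjAct (G := G ⧸ Z)).toMonoidHom) (G ⧸ Z) :=
    { carrier := π '' R
      smul_mem' := by
        rintro ⟨_, _, ⟨g, hg, rfl⟩, rfl⟩ _ ⟨r, hr, rfl⟩
        refine ⟨g * r * g⁻¹, ?_, ?_⟩
        · show Nat.Coprime _ _
          rw [index_conj]; exact hr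
        · rw [map_mul, map_mul, map_inv]; rfl }
  have hRimg : Nat.card S * Nat.card Z = Nat.card {g : G // ((Subgroup.centralizer ({g} : Set G)).index).Coprime p} := by
    rw [← Nat.card_prod]
    symm
    refine Nat.card_congr
      { toFun := fun g => (⟨π g.1, g.1, g.2, rfl⟩, ⟨(Quotient.out (π g.1))⁻¹ * g.1, ?_⟩)
        invFun := fun x => ⟨Quotient.out x.1.1 * x.2.1, ?_⟩
        left_inv := fun g => Subtype.ext (mul_inv_cancel_left _ _)
        right_inv := fun x => ?_ }
    · exact QuotientGroup.eq.1 (QuotientGroup.out_eq' _)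
    · obtain ⟨r, hr, hrx⟩ := x.1.2
      refine hRmul _ ?_ _ x.2.2
      have h1 : r⁻¹ * Quotient.out x.1.1 ∈ Z := QuotientGroup.eq.1 (hrx.trans (QuotientGroup.out_eq' _).symm)
      have := hRmul r hr _ h1
      rwa [mul_inv_cancel_left] at this
    · have h1 : π (Quotient.out x.1.1 * x.2.1) = x.1.1 := by
        show ((Quotient.out x.1.1 * x.2.1 : G) : G ⧸ Z) = _
        rw [QuotientGroup.mk_mul_of_mem _ x.2.2, QuotientGroup.out_eq']
      refine Prod.ext (Subtype.ext h1) (Subtype.ext ?_)
      show (Quotient.out (π (Quotient.out x.1.1 * x.2.1)))⁻¹ * _ = _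
      rw [h1, inv_mul_cancel_left]
  have hnd : ¬ p ∣ Nat.card S := fun hd => by
    have h0 : Nat.card G ≠ 0 := Nat.card_pos.ne'
    rw [← hRimg, hZcard, ← mul_assoc, mul_comm (p ^ _) (Nat.card G)] at hcount
    have h1 := Nat.eq_of_mul_eq_mul_right (pow_pos hp.out.pos _) hcount
    rw [← Nat.ordProj_mul_ordCompl_eq_self (Nat.card G) p, Nat.factorization_mul (pow_ne_zero _ hp.out.ne_zero)
      (Nat.ordCompl_pos p h0).ne'] at h1
    simp only [Finsupp.add_apply, hp.out.factorization_pow, Finsupp.single_eq_same,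
      Nat.factorization_eq_zero_of_not_dvd (Nat.not_dvd_ordCompl hp.out h0), add_zero] at h1
    exact Nat.not_dvd_ordCompl hp.out h0 (Nat.eq_of_mul_eq_mul_left (pow_pos hp.out.pos _) h1 ▸ hd)
  -- fixed points are the image of `C(P)`
  set CP := Subgroup.centralizer ((P : Subgroup G) : Set G) with hCP
  have hfixed : ∀ s : S, s ∈ MulAction.fixedPoints
      (((P : Subgroup G).map π).map (ConjAct.toConjAct (G := G ⧸ Z)).toMonoidHom) S ↔ (s : G ⧸ Z) ∈ CP.map π := by
    rintro ⟨_, r, hr, rfl⟩
    constructor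
    · intro h
      refine ⟨r, Subgroup.mem_centralizer_iff.2 fun g hg => ?_, rfl⟩
      have h1 : π g * π r * (π g)⁻¹ = π r :=
        congrArg Subtype.val (h ⟨ConjAct.toConjAct (π g), π g, ⟨g, hg, rfl⟩, rfl⟩)
      have hc : r⁻¹ * (g * r * g⁻¹) ∈ Z := by
        apply QuotientGroup.eq.1
        show π r = π (g * r * g⁻¹)
        rw [map_mul, map_mul, map_inv, h1]
      set C := Subgroup.centralizer ({r} : Set G) with hC
      have hN : g ∈ Subgroup.normalizer (C : Set G) := by
        rw [Subgroup.mem_normalizer_iff]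
        intro d
        rw [hC, Subgroup.mem_centralizer_singleton_iff,
          Subgroup.mem_centralizer_singleton_iff]
        have e : g * r * g⁻¹ = r * (r⁻¹ * (g * r * g⁻¹)) := by rw [mul_inv_cancel_left]
        constructor
        · intro hd
          have h2 : Commute (g * d * g⁻¹) (g * r * g⁻¹) := by
            show _ = _
            rw [conj_mul, conj_mul, hd]
          rw [e] at h2
          have h3 := h2.mul_right (hZcen _ hc (g * d * g⁻¹)).inv_right
          rwa [mul_inv_cancel_right] at h3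
        · intro hd
          have h2 : Commute (g * d * g⁻¹) (g * r * g⁻¹) := by
            rw [e]; exact Commute.mul_right hd (hZcen _ hc _)
          have h2' := h2.eq
          rw [conj_mul, conj_mul] at h2'
          exact mul_left_cancel (mul_right_cancel h2')
      haveI : (C.subgroupOf (Subgroup.normalizer (C : Set G))).Normal := inferInstance
      have h5 : orderOf ((⟨g, hN⟩ : Subgroup.normalizer (C : Set G)) : _ ⧸ C.subgroupOf (Subgroup.normalizer (C : Set G))) = 1 := by
        obtain ⟨k, hk⟩ := IsPGroup.iff_orderOf.1 P.isPGroup' ⟨g, hg⟩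
        rw [Subgroup.orderOf_mk] at hk
        have hcop : Nat.Coprime (p ^ k) (C.subgroupOf (Subgroup.normalizer (C : Set G))).index :=
          (hr.coprime_dvd_left (Subgroup.relIndex_dvd_index_of_le Subgroup.le_normalizer)).symm.pow_left k
        rw [← Nat.dvd_one, ← hcop.gcd_eq_one]
        refine Nat.dvd_gcd ((orderOf_map_dvd (QuotientGroup.mk' _) _).trans ?_) (orderOf_dvd_natCard _)
        rw [Subgroup.orderOf_mk, hk]
      rw [orderOf_eq_one_iff, QuotientGroup.eq_one_iff, Subgroup.mem_subgroupOf] at h5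
      exact Subgroup.mem_centralizer_singleton_iff.1 h5
    · rintro ⟨c, hc, hcr⟩ ⟨_, _, ⟨g, hg, rfl⟩, rfl⟩
      apply Subtype.ext
      show π g * π r * (π g)⁻¹ = π r
      rw [show π r = π c from hcr.symm, ← map_mul, ← map_inv, ← map_mul,
        Subgroup.mem_centralizer_iff.1 hc g hg, mul_inv_cancel_right]
  have hCR : ∀ c ∈ CP, c ∈ R := fun c hc => by
    refine (hp.out.coprime_iff_not_dvd.2 fun h => P.not_dvd_index (h.trans (Subgroup.index_dvd_of_le ?_))).symm
    intro g hg
    exact Subgroup.mem_centralizer_singleton_iff.2 (Subgroup.mem_centralizer_iff.1 hc g hg)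
  have hmod := hQ.card_modEq_card_fixedPoints (α := S)
  have hfixcard : Nat.card (MulAction.fixedPoints
      (((P : Subgroup G).map π).map (ConjAct.toConjAct (G := G ⧸ Z)).toMonoidHom) S) = Nat.card (CP.map π) := by
    refine Nat.card_congr
      { toFun := fun s => ⟨s.1.1, (hfixed s.1).1 s.2⟩
        invFun := fun c => ⟨⟨c.1, ?_⟩, (hfixed _).2 c.2⟩
        left_inv := fun _ => rfl
        right_inv := fun _ => rfl }
    obtain ⟨d, hd, hdc⟩ := c.2
    exact ⟨d, hCR d hd, hdc⟩
  rw [hfixcard] at hmod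
  have hndC : ¬ p ∣ Nat.card (CP.map π) := fun h => hnd (hmod.dvd_iff dvd_rfl |>.2 h)
  have hZCP : Z ≤ CP := fun z hz => Subgroup.mem_centralizer_iff.2 fun g _ => (hZcen z hz g).eq
  have hCPcard : Nat.card (CP.map π) * Nat.card Z = Nat.card CP := by
    rw [← Subgroup.relIndex_ker, QuotientGroup.ker_mk', mul_comm, ← Subgroup.relIndex_bot_left Z,
      ← Subgroup.relIndex_bot_left CP]
    exact Subgroup.relIndex_mul_relIndex ⊥ _ _ bot_le hZCP
  have hle : Z ≤ (P : Subgroup G) ⊓ CP := by
    refine le_inf ?_ hZCP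
    have hZp : IsPGroup p Z := IsPGroup.of_card hZcard
    obtain ⟨Q, hQ'⟩ := hZp.exists_le_sylow
    obtain ⟨c, rfl⟩ := MulAction.exists_smul_eq G Q P
    intro z hz
    rw [Sylow.coe_subgroup_smul, Subgroup.mem_pointwise_smul_iff_inv_smul_mem]
    apply hQ'
    simpa [MulAut.smul_def] using ‹Z.Normal›.conj_mem z hz c⁻¹
  have heq : Z = (P : Subgroup G) ⊓ CP := by
    refine Subgroup.eq_of_le_of_card_ge hle ?_
    obtain ⟨j, hj⟩ := IsPGroup.iff_card.1 (P.isPGroup'.to_le (inf_le_left : (P : Subgroup G) ⊓ CP ≤ P))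
    have hd := Subgroup.card_dvd_of_le (inf_le_right : (P : Subgroup G) ⊓ CP ≤ CP)
    rw [hj, ← hCPcard] at hd
    rw [hj]
    exact Nat.le_of_dvd Nat.card_pos (((hp.out.coprime_iff_not_dvd.2 hndC).pow_left j).dvd_of_dvd_mul_left hd)
  have : x ∈ Z := heq.symm ▸ (⟨hx, Subgroup.mem_centralizer_iff.2 hxP⟩ : x ∈ (P : Subgroup G) ⊓ CP)
  exact ((hZdef x).1 this).1

end

/-- Let G and H be finite groups such that for every natural number k, G and H have the same number of conjugacy classes of size k. If H is nilpotent then G is nilpotent. -/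
theorem result {G H : Type*} [Group G] [Finite G] [Group H] [Finite H]
    (hH : Group.IsNilpotent H)
    (h : ∀ k : ℕ, Nat.card {C : ConjClasses G // Nat.card C.carrier = k} = Nat.card {C : ConjClasses H // Nat.card C.carrier = k}) :
    Group.IsNilpotent G := by
  classical
  haveI := hH
  have hcard : Nat.card G = Nat.card H := by
    have := count_transfer h (fun _ => True)
    rwa [Nat.card_congr (Equiv.subtypeUnivEquiv (fun _ => trivial)),
      Nat.card_congr (Equiv.subtypeUnivEquiv (fun _ => trivial))] at this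
  have hZ : Nat.card (Subgroup.center G) = Nat.card (Subgroup.center H) := by
    have := count_transfer h (fun i => i = 1)
    rw [Nat.card_congr (Equiv.subtypeEquivRight (center_iff_index (G := G))),
      Nat.card_congr (Equiv.subtypeEquivRight (center_iff_index (G := H)))] at this
    exact this
  have hcentral : ∀ (q : ℕ) [Fact q.Prime] (Q : Sylow q G) (y : G), y ∈ (Q : Subgroup G) →
      (∀ g ∈ (Q : Subgroup G), g * y = y * g) → y ∈ Subgroup.center G := by
    intro q hq Q y hy hyQ
    refine sylow_center_le Q ?_ hy hyQ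
    rw [count_transfer h (fun i => i.Coprime q), (nilpotent_counts H q).2, hZ, hcard, mul_left_comm,
      ← card_pPrime_mul H q]
  refine ((Group.isNilpotent_of_finite_tfae (G := G)).out 0 3).2 ?_
  intro p hp P
  have hS : Nat.card {g : G // ∃ a, (Subgroup.centralizer ({g} : Set G)).index = p ^ a} =
      Nat.card (P : Subgroup G) * Nat.card {z : G // z ∈ Subgroup.center G ∧ (orderOf z).Coprime p} := by
    rw [count_transfer h (fun i => ∃ a, i = p ^ a), (nilpotent_counts H p).1, P.card_eq_multiplicity, hcard]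
    congr 1
    have h1 := (card_center_parts G p).2
    rw [hZ] at h1
    exact Nat.eq_of_mul_eq_mul_left (pow_pos hp.out.pos _) ((card_center_parts H p).2.symm.trans h1)
  -- the decomposition of an element of `p`-power index
  have hzcen : ∀ z : G, (orderOf z).Coprime p → (∃ a, (Subgroup.centralizer ({z} : Set G)).index = p ^ a) →
      z ∈ Subgroup.center G := by
    rintro z hz ⟨a, ha⟩
    by_contra hzc
    obtain ⟨q, k, m, hq, hk, hm, -⟩ := H74Basic.exists_primePart_notMem hzc
    haveI := Fact.mk hq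
    rcases k with _ | k
    · rw [pow_zero, orderOf_eq_one_iff] at hk
      exact hm (hk.symm ▸ Subgroup.one_mem _)
    have hqp : q ≠ p := by
      rintro rfl
      refine hq.not_dvd_one ?_
      rw [← hz.gcd_eq_one]
      exact Nat.dvd_gcd (((dvd_pow_self q k.succ_ne_zero).trans (hk ▸ dvd_rfl)).trans (orderOf_pow_dvd m)) dvd_rfl
    apply hm
    set y := z ^ m
    set C := Subgroup.centralizer ({y} : Set G) with hC
    have hCi : ¬ q ∣ C.index := fun hd => by
      have h1 : C.index ∣ p ^ a := ha ▸ Subgroup.index_dvd_of_le (fun d hd => Subgroup.mem_centralizer_singleton_iff.2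
        ((show Commute d z from Subgroup.mem_centralizer_singleton_iff.1 hd).pow_right m).eq)
      exact hqp ((Nat.prime_dvd_prime_iff_eq hq hp.out).1 (hq.dvd_of_dvd_pow (hd.trans h1)))
    obtain ⟨R⟩ := (inferInstance : Nonempty (Sylow q C))
    set R' := (R : Subgroup C).map C.subtype with hR'
    have hR'card : Nat.card R' = q ^ (Nat.card G).factorization q := by
      rw [hR', Subgroup.card_map_of_injective (Subgroup.subtype_injective _), R.card_eq_multiplicity]
      congr 1
      rw [← C.index_mul_card, Nat.factorization_mul Subgroup.index_ne_zero_of_finite Nat.card_pos.ne',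
        Finsupp.add_apply, Nat.factorization_eq_zero_of_not_dvd hCi, zero_add]
    have hRQ : (Sylow.ofCard R' hR'card : Subgroup G) = R' := rfl
    set W := R' ⊔ Subgroup.zpowers y
    have hR'n : R' ≤ Subgroup.normalizer ((Subgroup.zpowers y : Subgroup G) : Set G) := by
      rintro _ ⟨r, -, rfl⟩
      rw [Subgroup.mem_normalizer_iff]
      intro d
      have hc : Commute (r : G) y := Subgroup.mem_centralizer_singleton_iff.1 r.2
      constructor
      · intro hd
        obtain ⟨i, rfl⟩ := Subgroup.mem_zpowers_iff.1 hd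
        rw [Subgroup.coe_subtype, (hc.zpow_right i).eq, mul_inv_cancel_right]
        exact Subgroup.zpow_mem _ (Subgroup.mem_zpowers y) i
      · intro hd
        obtain ⟨i, hi⟩ := Subgroup.mem_zpowers_iff.1 hd
        have h2 : d = y ^ i := by
          have : d = (r : G)⁻¹ * ((r : G) * d * (r : G)⁻¹) * r := by group
          rw [this, ← Subgroup.coe_subtype, ← hi, Subgroup.coe_subtype, mul_assoc, ← (hc.zpow_right i).eq, inv_mul_cancel_left]
        rw [h2]; exact Subgroup.zpow_mem _ (Subgroup.mem_zpowers y) i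
    have hW : IsPGroup q W :=
      IsPGroup.to_sup_of_normal_right' (R.isPGroup'.map C.subtype)
        (IsPGroup.of_card (n := k + 1) (by rw [Nat.card_zpowers, hk])) hR'n
    have hWR : W = R' := (Sylow.ofCard R' hR'card).is_maximal' hW le_sup_left
    have hyR : y ∈ R' := hWR ▸ (Subgroup.mem_sup_right (Subgroup.mem_zpowers y) : y ∈ W)
    refine hcentral q (Sylow.ofCard R' hR'card) y hyR fun g hg => ?_
    obtain ⟨r, -, rfl⟩ := hg
    exact Subgroup.mem_centralizer_singleton_iff.1 r.2
  have hsmem : ∀ (P₀ : Sylow p G) (s : G), IsPEl p s →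
      (∃ a, (Subgroup.centralizer ({s} : Set G)).index = p ^ a) → s ∈ (P₀ : Subgroup G) := by
    rintro P₀ s ⟨k, hk⟩ ⟨a, ha⟩
    obtain ⟨P₁, hP₁⟩ := (IsPGroup.of_card (n := k) (by rw [Nat.card_zpowers, hk]) :
      IsPGroup p (Subgroup.zpowers s)).exists_le_sylow
    obtain ⟨g, rfl⟩ := MulAction.exists_smul_eq G P₁ P₀
    set C := Subgroup.centralizer ({s} : Set G) with hC
    -- `G = P₁ C`
    have hprod : ∃ h ∈ (P₁ : Subgroup G), ∃ c ∈ C, g⁻¹ = h * c := by
      have hindex : (P₁ : Subgroup G).relIndex C = (P₁ : Subgroup G).index := by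
        refine le_antisymm ?_ ?_
        · exact (Subgroup.relIndex_le_of_le_right le_top (by
            rw [Subgroup.relIndex_top_right]; exact Subgroup.index_ne_zero_of_finite)).trans
            (le_of_eq (Subgroup.relIndex_top_right _))
        · have h1 : (P₁ : Subgroup G).index ∣ (P₁ : Subgroup G).relIndex C * C.index := by
            rw [← Subgroup.inf_relIndex_right, Subgroup.relIndex_mul_index inf_le_right]
            exact Subgroup.index_dvd_of_le inf_le_left
          refine Nat.le_of_dvd (Nat.pos_of_ne_zero Subgroup.index_ne_zero_of_finite) ?_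
          refine (Nat.Coprime.pow_right a ?_).dvd_of_dvd_mul_right (ha ▸ h1)
          exact (hp.out.coprime_iff_not_dvd.2 P₁.not_dvd_index).symm
      have hsurj : Function.Surjective
          (fun c : C => ((c : G) : G ⧸ (P₁ : Subgroup G))) := by
        haveI := Fintype.ofFinite (G ⧸ (P₁ : Subgroup G))
        have hinj : Function.Injective
            (fun c : C ⧸ (P₁ : Subgroup G).subgroupOf C => Quotient.liftOn' c
              (fun c : C => ((c : G) : G ⧸ (P₁ : Subgroup G))) (fun a b hab => by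
                rw [QuotientGroup.leftRel_apply, Subgroup.mem_subgroupOf] at hab
                exact QuotientGroup.eq.2 hab)) := by
          intro a b
          induction a using Quotient.inductionOn' with
          | h a =>
            induction b using Quotient.inductionOn' with
            | h b =>
              intro hab
              refine Quotient.sound' ?_
              rw [QuotientGroup.leftRel_apply, Subgroup.mem_subgroupOf]
              exact QuotientGroup.eq.1 hab
        have hbij := (Nat.bijective_iff_injective_and_card _).2 ⟨hinj, hindex⟩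
        intro x
        obtain ⟨c, hc⟩ := hbij.2 x
        induction c using Quotient.inductionOn' with
        | h c => exact ⟨c, hc⟩
      obtain ⟨c, hc⟩ := hsurj (g : G ⧸ (P₁ : Subgroup G))
      have h2 : (c : G)⁻¹ * g ∈ (P₁ : Subgroup G) := QuotientGroup.eq.1 hc
      refine ⟨_, inv_mem h2, (c : G)⁻¹, inv_mem c.2, ?_⟩
      group
    obtain ⟨e, he, c, hc, hg⟩ := hprod
    rw [Sylow.coe_subgroup_smul, Subgroup.mem_pointwise_smul_iff_inv_smul_mem, MulAut.smul_def,
      ← map_inv, MulAut.conj_apply, hg]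
    have : e * c * s * (e * c)⁻¹ = e * s * e⁻¹ := by
      rw [mul_assoc e c s, Subgroup.mem_centralizer_singleton_iff.1 hc]
      group
    rw [this]
    exact mul_mem (mul_mem he (hP₁ (Subgroup.mem_zpowers s))) (inv_mem he)
  have hdec : ∀ g : G, (∃ a, (Subgroup.centralizer ({g} : Set G)).index = p ^ a) →
      ∃ s z : G, g = s * z ∧ IsPEl p s ∧ (∀ P₀ : Sylow p G, s ∈ (P₀ : Subgroup G)) ∧
        z ∈ Subgroup.center G ∧ (orderOf z).Coprime p := by
    rintro g ⟨a, ha⟩
    obtain ⟨s, z, rfl, hsz, he, hz⟩ := H74Basic.exists_parts (p := p) g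
    have hdvd := fun (w : G) (hw : Subgroup.centralizer ({s * z} : Set G) ≤ Subgroup.centralizer ({w} : Set G)) =>
      (Nat.dvd_prime_pow hp.out).1 (ha ▸ Subgroup.index_dvd_of_le hw)
    obtain ⟨b, -, hb⟩ := hdvd s (cen_part hsz he hz).1
    obtain ⟨c, -, hc⟩ := hdvd z (cen_part hsz he hz).2
    exact ⟨s, z, rfl, he, fun P₀ => hsmem P₀ s he ⟨b, hb⟩, hzcen z hz ⟨c, hc⟩, hz⟩
  obtain ⟨K, hK⟩ := exists_part_exponent G p
  let f : {g : G // ∃ a, (Subgroup.centralizer ({g} : Set G)).index = p ^ a} →
      ↥(P : Subgroup G) × {z : G // z ∈ Subgroup.center G ∧ (orderOf z).Coprime p} := fun g =>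
    (⟨g.1 ^ K, by
      obtain ⟨s, z, hg, he, hsP, hz1, hz2⟩ := hdec g.1 g.2
      rw [hg, hK s z (Subgroup.mem_center_iff.1 hz1 s) he hz2]
      exact hsP P⟩,
     ⟨(g.1 ^ K)⁻¹ * g.1, by
      obtain ⟨s, z, hg, he, -, hz1, hz2⟩ := hdec g.1 g.2
      rw [hg, hK s z (Subgroup.mem_center_iff.1 hz1 s) he hz2, inv_mul_cancel_left]
      exact ⟨hz1, hz2⟩⟩)
  have hfinj : Function.Injective f := fun g g' hgg => by
    have h1 := congrArg (fun x => (x.1 : G) * (x.2 : G)) hgg
    exact Subtype.ext (by simpa [f] using h1)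
  have hbij := (Nat.bijective_iff_injective_and_card f).2 ⟨hfinj, by rw [Nat.card_prod, hS]⟩
  have hall : ∀ y ∈ (P : Subgroup G), ∀ P₀ : Sylow p G, y ∈ (P₀ : Subgroup G) := by
    intro y hy P₀
    obtain ⟨g, hg⟩ := hbij.2 (⟨y, hy⟩, ⟨1, Subgroup.one_mem _, by rw [orderOf_one]; exact Nat.coprime_one_left p⟩)
    obtain ⟨s, z, hgs, he, hsP, hz1, hz2⟩ := hdec g.1 g.2
    have h1 : g.1 ^ K = y := congrArg (fun x => (x.1 : G)) hg
    rw [hgs, hK s z (Subgroup.mem_center_iff.1 hz1 s) he hz2] at h1
    exact h1 ▸ hsP P₀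
  refine ⟨fun y hy g => ?_⟩
  have := hall y hy (g⁻¹ • P)
  rw [Sylow.coe_subgroup_smul, Subgroup.mem_pointwise_smul_iff_inv_smul_mem] at this
  simpa [MulAut.smul_def] using this

end Cfsg.Agent.S4139
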