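import Cfsg.Statements.S4142
-- import your own Cfsg.Agent.* helpers here

set_option autoImplicit false
open Cfsg

namespace Cfsg.Agent.S4142

/-- Let G be a finite group and N a normal subgroup. Then the conjugacy class of every element g outside N is a union of cosets of N (gn is conjugate to g for all n ∈ N) if and only if for every g outside N the centralizer of g in G has the same order as the centralizer of gN in G/N. -/
theorem result {G : Type*} [Group G] [Finite G] (N : Subgroup G) [N.Normal] :
    (∀ g : G, g ∉ N → ∀ n ∈ N, ∃ x : G, x * g * x⁻¹ = g * n) ↔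
      ∀ g : G, g ∉ N → Nat.card (Subgroup.centralizer ({g} : Set G)) =
        Nat.card (Subgroup.centralizer ({(QuotientGroup.mk g : G ⧸ N)} : Set (G ⧸ N))) := by
  refine forall₂_congr fun g hg => ?_
  set π := QuotientGroup.mk' N with hπ
  set A := MulAction.orbit (ConjAct G) g with hA
  set B := MulAction.orbit (ConjAct (G ⧸ N)) (π g) with hB
  have hAB : A ⊆ π ⁻¹' B := by
    intro y hy
    obtain ⟨x, rfl⟩ := hy
    exact ⟨ConjAct.toConjAct (π (ConjAct.ofConjAct x)), by simp [ConjAct.smul_def]⟩
  have hA1 : Nat.card A * Nat.card (Subgroup.centralizer ({g} : Set G)) = Nat.card G := by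
    rw [Subgroup.nat_card_centralizer_nat_card_stabilizer, hA,
      Nat.card_congr (MulAction.orbitEquivQuotientStabilizer (ConjAct G) g)]
    exact (MulAction.stabilizer (ConjAct G) g).card_eq_card_quotient_mul_card_subgroup.symm
  have hB1 : Nat.card B * Nat.card (Subgroup.centralizer ({π g} : Set (G ⧸ N))) = Nat.card (G ⧸ N) := by
    rw [Subgroup.nat_card_centralizer_nat_card_stabilizer, hB,
      Nat.card_congr (MulAction.orbitEquivQuotientStabilizer (ConjAct (G ⧸ N)) (π g))]
    exact (MulAction.stabilizer (ConjAct (G ⧸ N)) (π g)).card_eq_card_quotient_mul_card_subgroup.symm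
  have hpre : Nat.card (π ⁻¹' B) = Nat.card N * Nat.card B :=
    QuotientGroup.card_preimage_mk N B
  have hG : Nat.card G = Nat.card (G ⧸ N) * Nat.card N :=
    N.card_eq_card_quotient_mul_card_subgroup
  have hiff : Nat.card (Subgroup.centralizer ({g} : Set G)) =
      Nat.card (Subgroup.centralizer ({π g} : Set (G ⧸ N))) ↔ Nat.card A = Nat.card (π ⁻¹' B) := by
    rw [hpre]
    constructor
    · intro h
      have hp : 0 < Nat.card (Subgroup.centralizer ({g} : Set G)) := Nat.card_pos
      apply Nat.eq_of_mul_eq_mul_right hp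
      rw [hA1, hG, ← hB1, h]
      ring
    · intro h
      haveI : Nonempty A := ⟨⟨g, MulAction.mem_orbit_self g⟩⟩
      have hp : 0 < Nat.card A := Nat.card_pos
      apply Nat.eq_of_mul_eq_mul_left hp
      rw [hA1, hG, ← hB1, h]
      ring
  refine Iff.trans ?_ hiff.symm
  constructor
  · intro h
    refine Nat.card_congr (Equiv.setCongr (Set.Subset.antisymm hAB ?_))
    intro y hy
    obtain ⟨x, hx⟩ := hy
    obtain ⟨z, hz⟩ := QuotientGroup.mk'_surjective N (ConjAct.ofConjAct x)
    have hy' : π y = π (z * g * z⁻¹) := by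
      rw [map_mul, map_mul, map_inv, hπ, hz]
      exact hx.symm.trans (ConjAct.smul_def _ _)
    obtain ⟨n, hn, hyn⟩ : ∃ n ∈ N, z⁻¹ * y * z = g * n := by
      refine ⟨g⁻¹ * (z⁻¹ * y * z), ?_, by group⟩
      rw [← QuotientGroup.eq_one_iff, ← QuotientGroup.mk'_apply, ← hπ]
      simp only [map_mul, map_inv, hy']
      group
    obtain ⟨w, hw⟩ := h n hn
    refine ⟨ConjAct.toConjAct (z * w), ?_⟩
    simp only [ConjAct.smul_def, ConjAct.ofConjAct_toConjAct]
    calc z * w * g * (z * w)⁻¹ = z * (w * g * w⁻¹) * z⁻¹ := by group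
      _ = z * (z⁻¹ * y * z) * z⁻¹ := by rw [hw, hyn]
      _ = y := by group
  · intro h n hn
    have heq : A = π ⁻¹' B := by
      apply Set.eq_of_subset_of_ncard_le hAB ?_ (Set.toFinite _)
      rw [← Nat.card_coe_set_eq, ← Nat.card_coe_set_eq, h]
    have hm : g * n ∈ A := by
      rw [heq]
      refine ⟨1, ?_⟩
      have : π n = 1 := (QuotientGroup.eq_one_iff n).2 hn
      simp [this]
    obtain ⟨x, hx⟩ := hm
    exact ⟨ConjAct.ofConjAct x, hx⟩

end Cfsg.Agent.S4142
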