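import Cfsg.Statements.S4143
import Mathlib

set_option autoImplicit false
open Cfsg

namespace Cfsg.Agent.S4143

theorem center_lt {X : Type*} [Group X] {A : Subgroup X} (hC : Subgroup.centralizer (A : Set X) ≤ A)
    (hne : A ≠ ⊤) : Subgroup.center X < A := by
  refine lt_of_le_of_ne ((Subgroup.center_le_centralizer _).trans hC) fun he => hne ?_
  refine top_le_iff.1 (le_trans ?_ hC)
  intro x _
  rw [Subgroup.mem_centralizer_iff]
  intro a ha
  exact (Subgroup.mem_center_iff.1 (he ▸ ha : a ∈ Subgroup.center X) x).symm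

theorem mem_comap_centralizer {X : Type*} [Group X] {A : Subgroup X} {x : X}
    (hx : x ∈ (Subgroup.centralizer ((A.map (QuotientGroup.mk' (Subgroup.center X)) : Subgroup (X ⧸ Subgroup.center X)) : Set (X ⧸ Subgroup.center X))).comap
      (QuotientGroup.mk' (Subgroup.center X))) {a : X} (ha : a ∈ A) :
    x * a * x⁻¹ * a⁻¹ ∈ Subgroup.center X := by
  rw [Subgroup.mem_comap, Subgroup.mem_centralizer_iff] at hx
  have := hx _ ⟨a, ha, rfl⟩
  rw [← QuotientGroup.eq_one_iff, ← QuotientGroup.mk'_apply]
  simp only [map_mul, map_inv]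
  rw [← this, mul_inv_cancel_right, mul_inv_cancel]

theorem conj_comm_eq {X : Type*} [Group X] {x y a : X} (h : x * a * x⁻¹ * a⁻¹ = y * a * y⁻¹ * a⁻¹) :
    (y⁻¹ * x) * a = a * (y⁻¹ * x) := by
  have h' : x * a * x⁻¹ = y * a * y⁻¹ := mul_right_cancel h
  calc (y⁻¹ * x) * a = y⁻¹ * (x * a * x⁻¹) * x := by group
    _ = y⁻¹ * (y * a * y⁻¹) * x := by rw [h']
    _ = a * (y⁻¹ * x) := by group

theorem comap_card {X : Type*} [Group X] [Finite X] (C : Subgroup (X ⧸ Subgroup.center X)) :
    Nat.card (C.comap (QuotientGroup.mk' (Subgroup.center X))) = Nat.card (Subgroup.center X) * Nat.card C :=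
  QuotientGroup.card_preimage_mk (Subgroup.center X) (C : Set (X ⧸ Subgroup.center X))

/-- Suzuki: a self-centralizing subgroup of order p² forces maximal class. -/
theorem suzuki {p : ℕ} [Fact p.Prime] (n : ℕ) : ∀ (X : Type*) [Group X] [Finite X] (A : Subgroup X),
    Nat.card X = p ^ n → Nat.card A = p ^ 2 → Subgroup.centralizer (A : Set X) ≤ A →
    Group.nilpotencyClass X = n - 1 := by
  induction n with
  | zero =>
    intro X _ _ A hX hA _
    have h := hX ▸ Subgroup.card_subgroup_dvd_card A
    rw [hA, pow_zero] at h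
    exfalso
    have := Nat.le_of_dvd one_pos h
    have h2 : 1 < p ^ 2 := Nat.one_lt_pow two_ne_zero (Fact.out : p.Prime).one_lt
    omega
  | succ n ih =>
    intro X _ _ A hX hA hC
    have hp : p.Prime := Fact.out
    have hXp : IsPGroup p X := IsPGroup.of_card hX
    haveI := hXp.isNilpotent
    haveI : Nontrivial X := Finite.one_lt_card_iff_nontrivial.1 (by
      rw [hX]; exact Nat.one_lt_pow n.succ_ne_zero hp.one_lt)
    by_cases hAtop : A = ⊤
    · subst hAtop
      rw [Subgroup.card_top, hX] at hA
      have hn : n = 1 := by have := Nat.pow_right_injective hp.two_le hA; omega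
      subst hn
      haveI : IsMulCommutative X := IsPGroup.isMulCommutative_of_card_eq_prime_sq (p := p) hX
      have h1 := Group.IsNilpotent.nilpotencyClass_le_one_iff.2 this
      have h0 : Group.nilpotencyClass X ≠ 0 := fun h =>
        not_subsingleton X (nilpotencyClass_zero_iff_subsingleton.1 h)
      omega
    have hZA := center_lt hC hAtop
    have hZ : Nat.card (Subgroup.center X) = p := by
      obtain ⟨i, hi, hi'⟩ := (Nat.dvd_prime_pow hp).1 (hA ▸ Subgroup.card_dvd_of_le hZA.le)
      have hi0 : i ≠ 0 := by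
        intro h
        rw [h, pow_zero] at hi'
        haveI := IsPGroup.center_nontrivial hXp
        exact absurd hi' (Finite.one_lt_card).ne'
      have hi2 : i ≠ 2 := fun h => hZA.ne (Subgroup.eq_of_le_of_card_ge hZA.le (by rw [hA, hi', h]))
      rw [hi', show i = 1 by omega, pow_one]
    set π := QuotientGroup.mk' (Subgroup.center X) with hπ
    have hXbar : Nat.card (X ⧸ Subgroup.center X) = p ^ n := by
      have h := Subgroup.card_eq_card_quotient_mul_card_subgroup (Subgroup.center X)
      rw [hX, hZ, pow_succ] at h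
      exact (Nat.eq_of_mul_eq_mul_right hp.pos h).symm
    set Ab := A.map π with hAb
    set C := Subgroup.centralizer (Ab : Set (X ⧸ Subgroup.center X)) with hCdef
    obtain ⟨a, haA, haZ⟩ := SetLike.exists_of_lt hZA
    have hgen : A ≤ Subgroup.closure (insert a (Subgroup.center X : Set X)) := by
      have hle : Subgroup.closure (insert a (Subgroup.center X : Set X)) ≤ A := by
        rw [Subgroup.closure_le]
        rintro x (rfl | hx)
        · exact haA
        · exact hZA.le hx
      refine (Subgroup.eq_of_le_of_card_ge hle ?_).ge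
      obtain ⟨i, hi, hi'⟩ := (Nat.dvd_prime_pow hp).1 (hA ▸ Subgroup.card_dvd_of_le hle)
      have hlt : Subgroup.center X < Subgroup.closure (insert a (Subgroup.center X : Set X)) := by
        refine SetLike.lt_iff_le_and_exists.2 ⟨fun x hx => Subgroup.subset_closure (Or.inr hx),
          a, Subgroup.subset_closure (Or.inl rfl), haZ⟩
      have hne : Nat.card (Subgroup.center X) < Nat.card (Subgroup.closure (insert a (Subgroup.center X : Set X))) := by
        refine lt_of_le_of_ne (Nat.le_of_dvd Nat.card_pos (Subgroup.card_dvd_of_le hlt.le)) fun h => hlt.ne ?_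
        exact Subgroup.eq_of_le_of_card_ge hlt.le h.ge
      rw [hZ, hi'] at hne
      rw [hA, hi']
      have : 1 < i := (Nat.pow_lt_pow_iff_right hp.one_lt).1 (by rwa [pow_one])
      exact Nat.pow_le_pow_right hp.pos (by omega)
    have hCa : Subgroup.centralizer ({a} : Set X) ≤ A := by
      refine le_trans ?_ hC
      intro x hx
      rw [Subgroup.mem_centralizer_iff]
      intro b hb
      have hle : Subgroup.closure (insert a (Subgroup.center X : Set X)) ≤ Subgroup.centralizer ({x} : Set X) := by
        rw [Subgroup.closure_le]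
        rintro c (rfl | hc)
        · exact Subgroup.mem_centralizer_singleton_iff.2 (Subgroup.mem_centralizer_singleton_iff.1 hx).symm
        · exact Subgroup.mem_centralizer_singleton_iff.2 (Subgroup.mem_center_iff.1 hc x).symm
      exact Subgroup.mem_centralizer_singleton_iff.1 (hle (hgen hb))
    have hbound : Nat.card C ≤ p ^ 2 := by
      have h1 : Nat.card (C.comap π) ≤ Nat.card (Subgroup.center X × A) := by
        refine Nat.card_le_card_of_injective
          (fun x : C.comap π => (⟨(x : X) * a * (x : X)⁻¹ * a⁻¹, mem_comap_centralizer x.2 haA⟩,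
            (⟨((Function.invFun (fun y : C.comap π => (y : X) * a * (y : X)⁻¹ * a⁻¹) ((x : X) * a * (x : X)⁻¹ * a⁻¹) : C.comap π) : X)⁻¹ * x,
              hCa (Subgroup.mem_centralizer_singleton_iff.2 (conj_comm_eq
                (Function.invFun_eq (f := fun y : C.comap π => (y : X) * a * (y : X)⁻¹ * a⁻¹) ⟨x, rfl⟩).symm))⟩ : A))) ?_
        intro x y h
        simp only [Prod.mk.injEq, Subtype.mk.injEq] at h
        rw [h.1] at h
        exact Subtype.ext (mul_left_cancel h.2)
      rw [comap_card, hZ, Nat.card_prod, hA, hZ] at h1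
      exact Nat.le_of_mul_le_mul_left h1 hp.pos
    have hn2 : 2 ≤ n := by
      by_contra h
      push_neg at h
      refine hAtop (Subgroup.eq_top_of_card_eq _ (le_antisymm (Subgroup.card_le_card_group A) ?_))
      rw [hA, hX]; exact Nat.pow_le_pow_right hp.pos (by omega)
    have hAC : Ab ≤ C := by
      rintro _ ⟨b, hb, rfl⟩
      rw [hCdef, Subgroup.mem_centralizer_iff]
      rintro _ ⟨c, hc, rfl⟩
      rw [← map_mul, ← map_mul]
      congr 1
      haveI : IsMulCommutative A := IsPGroup.isMulCommutative_of_card_eq_prime_sq (p := p) hA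
      exact congrArg Subtype.val (mul_comm' (⟨c, hc⟩ : A) ⟨b, hb⟩)
    have hAbne : Ab ≠ ⊥ := by
      intro h
      apply haZ
      rw [← QuotientGroup.eq_one_iff, ← Subgroup.mem_bot, ← h]
      exact ⟨a, haA, rfl⟩
    have hne : C ≠ ⊤ ∨ n = 2 := by
      by_cases h : C = ⊤
      · right
        rw [h, Subgroup.card_top, hXbar] at hbound
        have := (Nat.pow_le_pow_iff_right hp.one_lt).1 hbound
        omega
      · exact Or.inl h
    have hXbp : IsPGroup p (X ⧸ Subgroup.center X) := IsPGroup.of_card hXbar
    haveI : Nontrivial (X ⧸ Subgroup.center X) := Finite.one_lt_card_iff_nontrivial.1 (by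
      rw [hXbar]; exact Nat.one_lt_pow (by omega) hp.one_lt)
    haveI := IsPGroup.center_nontrivial hXbp
    have hCcard : Nat.card C = p ^ 2 := by
      obtain ⟨i, hi⟩ := IsPGroup.iff_card.1 (hXbp.to_subgroup C)
      rw [hi] at hbound ⊢
      have h2 := (Nat.pow_le_pow_iff_right hp.one_lt).1 hbound
      have h1 : 2 ≤ i := by
        by_contra hlt
        push_neg at hlt
        have hCle : C ≤ Ab := by
          refine (Subgroup.eq_of_le_of_card_ge hAC ?_).ge
          rw [hi]
          refine le_trans (Nat.pow_le_pow_right hp.pos (show i ≤ 1 by omega)) ?_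
          rw [pow_one]
          obtain ⟨j, hj⟩ := IsPGroup.iff_card.1 (hXbp.to_subgroup Ab)
          rw [hj]
          refine Nat.le_self_pow ?_ p
          rintro rfl
          exact hAbne (Subgroup.card_eq_one.1 (by rw [hj, pow_zero]))
        rcases hne with hne | rfl
        · have hlt' := center_lt (A := Ab) hCle (fun h => hne (top_le_iff.1 (h ▸ hAC)))
          have h3 : Nat.card Ab ≤ p := by
            rw [le_antisymm hAC hCle, hi]
            calc p ^ i ≤ p ^ 1 := Nat.pow_le_pow_right hp.pos (by omega)
              _ = p := pow_one p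
          have h4 : p ≤ Nat.card (Subgroup.center (X ⧸ Subgroup.center X)) := by
            obtain ⟨j, hj⟩ := IsPGroup.iff_card.1 (hXbp.to_subgroup (Subgroup.center (X ⧸ Subgroup.center X)))
            rw [hj]
            refine Nat.le_self_pow ?_ p
            rintro rfl
            rw [pow_zero] at hj
            exact absurd hj Finite.one_lt_card.ne'
          exact hlt'.ne (Subgroup.eq_of_le_of_card_ge hlt'.le (h3.trans h4))
        · haveI : IsMulCommutative (X ⧸ Subgroup.center X) := IsPGroup.isMulCommutative_of_card_eq_prime_sq (p := p) hXbar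
          have : C = ⊤ := top_le_iff.1 fun x _ => by
            rw [hCdef, Subgroup.mem_centralizer_iff]; exact fun y _ => mul_comm' y x
          rw [this, Subgroup.card_top, hXbar] at hi
          exact absurd (Nat.pow_right_injective hp.two_le hi) (by omega)
      rw [show i = 2 by omega]
    have hCC : Subgroup.centralizer (C : Set (X ⧸ Subgroup.center X)) ≤ C :=
      (Subgroup.centralizer_le hAC).trans le_rfl
    rw [nilpotencyClass_eq_quotient_center_plus_one, ih _ C hXbar hCcard hCC]
    omega

theorem exists_gen_pair {X : Type*} [Group X] [Finite X] {p : ℕ} [Fact p.Prime] (B : Subgroup X)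
    (hB : Nat.card B = p ^ 3) (hBna : ¬ IsMulCommutative B) :
    ∃ a ∈ B, ∃ b ∈ B, B ≤ Subgroup.closure ({a, b} : Set X) := by
  obtain ⟨a, ha, b, hb, hab⟩ : ∃ a ∈ B, ∃ b ∈ B, a * b ≠ b * a := by
    by_contra hall
    push_neg at hall
    exact hBna ⟨⟨fun a b => Subtype.ext (hall a a.2 b b.2)⟩⟩
  refine ⟨a, ha, b, hb, ?_⟩
  have hle : Subgroup.closure ({a, b} : Set X) ≤ B := by
    rw [Subgroup.closure_le]
    rintro x (rfl | rfl)
    · exact ha
    · exact hb
  obtain ⟨i, hi, hi'⟩ := (Nat.dvd_prime_pow Fact.out).1 (hB ▸ Subgroup.card_dvd_of_le hle)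
  refine (Subgroup.eq_of_le_of_card_ge hle ?_).ge
  rw [hB, hi']
  refine Nat.pow_le_pow_right (Fact.out : p.Prime).pos ?_
  by_contra hlt
  push_neg at hlt
  refine hab ?_
  set D := Subgroup.closure ({a, b} : Set X) with hD
  have haD : a ∈ D := Subgroup.subset_closure (by simp)
  have hbD : b ∈ D := Subgroup.subset_closure (by simp)
  have hcomm : IsMulCommutative D := by
    rcases Nat.lt_or_ge i 2 with h | h
    · haveI : IsCyclic D := by
        rcases Nat.eq_zero_or_pos i with rfl | h0
        · haveI := (Nat.card_eq_one_iff_unique.1 (hi'.trans (pow_zero p))).1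
          infer_instance
        · exact isCyclic_of_prime_card (p := p) (by rw [hi', show i = 1 by omega, pow_one])
      infer_instance
    · exact IsPGroup.isMulCommutative_of_card_eq_prime_sq (p := p) (by rw [hi', show i = 2 by omega])
  exact congrArg Subtype.val (mul_comm' (⟨a, haD⟩ : D) ⟨b, hbD⟩)

theorem main {X : Type*} [Group X] [Finite X] {p : ℕ} [Fact p.Prime] (n : ℕ) (hX : Nat.card X = p ^ n)
    (B : Subgroup X) (hB : Nat.card B = p ^ 3) (hBna : ¬ IsMulCommutative B)
    (hC : Subgroup.centralizer (B : Set X) ≤ B) : Group.nilpotencyClass X = n - 1 := by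
  have hp : p.Prime := Fact.out
  have hn3 : 3 ≤ n := by
    have h := Subgroup.card_subgroup_dvd_card B
    rw [hB, hX] at h
    exact (Nat.pow_dvd_pow_iff_le_right hp.one_lt).1 h
  have hXp : IsPGroup p X := IsPGroup.of_card hX
  haveI := hXp.isNilpotent
  haveI : Nontrivial X := Finite.one_lt_card_iff_nontrivial.1 (by
    rw [hX]; exact Nat.one_lt_pow (by omega) hp.one_lt)
  haveI := IsPGroup.center_nontrivial hXp
  have hBp : IsPGroup p B := IsPGroup.of_card hB
  haveI : Nontrivial B := Finite.one_lt_card_iff_nontrivial.1 (by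
    rw [hB]; exact Nat.one_lt_pow (by omega) hp.one_lt)
  -- centralizer of B is its centre, of order p
  set Z := Subgroup.center X with hZdef
  set ZB := (Subgroup.center B).map B.subtype with hZB
  have hCB : Subgroup.centralizer (B : Set X) ≤ ZB := by
    intro x hx
    refine ⟨⟨x, hC hx⟩, ?_, rfl⟩
    rw [SetLike.mem_coe, Subgroup.mem_center_iff]
    exact fun b => Subtype.ext (Subgroup.mem_centralizer_iff.1 hx b b.2)
  have hZB : Nat.card ZB = p := by
    rw [hZB, Nat.card_congr ((Subgroup.center B).equivMapOfInjective _ B.subtype_injective).toEquiv.symm]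
    obtain ⟨i, hi⟩ := IsPGroup.iff_card.1 (hBp.to_subgroup (Subgroup.center B))
    haveI := IsPGroup.center_nontrivial hBp
    have hi0 : i ≠ 0 := fun h => (Finite.one_lt_card (α := Subgroup.center B)).ne' (by rw [hi, h, pow_zero])
    have hi2 : i < 2 := by
      by_contra h
      push_neg at h
      apply hBna
      have hq : Nat.card (B ⧸ Subgroup.center B) ∣ p := by
        have e := Subgroup.card_eq_card_quotient_mul_card_subgroup (Subgroup.center B)
        rw [hB, hi] at e
        have h3 : p ^ 3 ∣ p * p ^ i := (pow_dvd_pow p (by omega : 3 ≤ i + 1)).trans (by rw [pow_succ'])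
        rw [e] at h3
        exact (Nat.mul_dvd_mul_iff_right (pow_pos hp.pos i)).1 h3
      haveI : IsCyclic (B ⧸ Subgroup.center B) := isCyclic_of_card_dvd_prime (p := p) hq
      exact ⟨⟨fun a b => commutative_of_cyclic_center_quotient (QuotientGroup.mk' (Subgroup.center B))
        (by rw [QuotientGroup.ker_mk']) a b⟩⟩
    rw [hi, show i = 1 by omega, pow_one]
  have hZle : Z ≤ ZB := (Subgroup.center_le_centralizer _).trans hCB
  have hZ : Nat.card Z = p := by
    rcases (Nat.dvd_prime hp).1 (hZB ▸ Subgroup.card_dvd_of_le hZle) with h | h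
    · exact absurd h (Finite.one_lt_card).ne'
    · exact h
  have hZeq : Z = ZB := Subgroup.eq_of_le_of_card_ge hZle (by rw [hZB, hZ])
  have hCZ : Subgroup.centralizer (B : Set X) ≤ Z := hZeq ▸ hCB
  set π := QuotientGroup.mk' Z with hπ
  have hXbar : Nat.card (X ⧸ Z) = p ^ (n - 1) := by
    have h := Subgroup.card_eq_card_quotient_mul_card_subgroup Z
    obtain ⟨j, rfl⟩ : ∃ j, n = j + 1 := ⟨n - 1, by omega⟩
    rw [hX, hZ, pow_succ] at h
    exact (Nat.eq_of_mul_eq_mul_right hp.pos h).symm
  set Bb := B.map π with hBb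
  have hZleB : Z ≤ B := hZle.trans (Subgroup.map_subtype_le _)
  have hcomap : Bb.comap π = B := by
    rw [hBb, Subgroup.comap_map_eq, QuotientGroup.ker_mk', sup_eq_left.2 hZleB]
  have hBbcard : Nat.card Bb = p ^ 2 := by
    have h := comap_card Bb
    rw [← hπ, hcomap, hB, hZ, pow_succ'] at h
    exact (Nat.eq_of_mul_eq_mul_left hp.pos h).symm
  obtain ⟨a, ha, b, hb, hgen⟩ := exists_gen_pair B hB hBna
  have hpair : ∀ x : X, x * a = a * x → x * b = b * x → x ∈ Z := by
    intro x hxa hxb
    apply hCZ
    rw [Subgroup.mem_centralizer_iff]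
    intro c hc
    have hle : Subgroup.closure ({a, b} : Set X) ≤ Subgroup.centralizer ({x} : Set X) := by
      rw [Subgroup.closure_le]
      rintro y (rfl | rfl)
      · exact Subgroup.mem_centralizer_singleton_iff.2 hxa.symm
      · exact Subgroup.mem_centralizer_singleton_iff.2 hxb.symm
    exact Subgroup.mem_centralizer_singleton_iff.1 (hle (hgen hc))
  set C := Subgroup.centralizer (Bb : Set (X ⧸ Z)) with hCdef
  have hbound : Nat.card (C.comap π) ≤ p ^ 3 := by
    let f : C.comap π → Z × Z := fun y =>
      (⟨(y : X) * a * (y : X)⁻¹ * a⁻¹, mem_comap_centralizer y.2 ha⟩,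
       ⟨(y : X) * b * (y : X)⁻¹ * b⁻¹, mem_comap_centralizer y.2 hb⟩)
    have hfib : ∀ x : C.comap π, ((Function.invFun f (f x) : C.comap π) : X)⁻¹ * x ∈ Z := by
      intro x
      have h := Function.invFun_eq (f := f) (b := f x) ⟨x, rfl⟩
      exact hpair _ (conj_comm_eq (congrArg (fun z => ((z.1 : Z) : X)) h).symm)
        (conj_comm_eq (congrArg (fun z => ((z.2 : Z) : X)) h).symm)
    have h1 : Nat.card (C.comap π) ≤ Nat.card ((Z × Z) × Z) := by
      refine Nat.card_le_card_of_injective
        (fun x : C.comap π => (f x, (⟨_, hfib x⟩ : Z))) ?_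
      intro x y h
      simp only [Prod.mk.injEq, Subtype.mk.injEq] at h
      rw [h.1] at h
      exact Subtype.ext (mul_left_cancel h.2)
    rw [Nat.card_prod, Nat.card_prod, hZ] at h1
    exact h1.trans (le_of_eq (by ring))
  have hBC : Bb ≤ C := by
    haveI : IsMulCommutative Bb := IsPGroup.isMulCommutative_of_card_eq_prime_sq (p := p) hBbcard
    intro x hx
    rw [hCdef, Subgroup.mem_centralizer_iff]
    exact fun y hy => congrArg Subtype.val (mul_comm' (⟨y, hy⟩ : Bb) ⟨x, hx⟩)
  have hCB' : C ≤ Bb := by
    refine (Subgroup.eq_of_le_of_card_ge hBC ?_).ge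
    rw [hBbcard]
    have h := comap_card C
    rw [← hπ, hZ] at h
    rw [h, pow_succ' p 2] at hbound
    exact Nat.le_of_mul_le_mul_left hbound hp.pos
  rw [nilpotencyClass_eq_quotient_center_plus_one, suzuki (n - 1) _ Bb hXbar hBbcard hCB']
  omega

/-- Let X be a finite p-group of order p^n containing a non-abelian subgroup B of order p³ with C_X(B) ≤ B. Then X has nilpotency class n − 1 (maximal class). -/
theorem result {X : Type*} [Group X] [Finite X] {p : ℕ} [Fact p.Prime] (n : ℕ) (hX : Nat.card X = p ^ n)
    (B : Subgroup X) (hB : Nat.card B = p ^ 3) (hBna : ¬ IsMulCommutative B) (hC : Subgroup.centralizer (B : Set X) ≤ B) :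
    Group.nilpotencyClass X = n - 1 := by
  exact main n hX B hB hBna hC

end Cfsg.Agent.S4143
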