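import Cfsg.Statements.S4144
import Cfsg.Agent.Lib.Blackburn20
import Cfsg.Agent.Lib.BlackburnExp20
-- import your own Cfsg.Agent.* helpers here

set_option autoImplicit false
open Cfsg

namespace Cfsg.Agent.S4144

open Subgroup

-- helpers

open PGroupsHallPetrescu (Gf Gf_antitone)

/-- `℧₁` of a subgroup. -/
abbrev agemo {X : Type*} [Group X] (p : ℕ) (H : Subgroup X) : Subgroup X :=
  closure {y : X | ∃ h ∈ H, y = h ^ p}

section

variable {X : Type*} [Group X] [Finite X] {p n : ℕ} [hp : Fact p.Prime]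
  (hX : Nat.card X = p ^ n) (hc : Group.nilpotencyClass X = n - 1)

include hX hc

theorem card_inf_le (hp2 : p ≠ 2) (hn : 4 ≤ n) (H : Subgroup X) :
    Nat.card (H ⊓ Gf X 2 : Subgroup X) ≤
      p ^ (p - 1) * Nat.card (agemo p H ⊓ Gf X (p + 1) : Subgroup X) := by
  have hp3 : 3 ≤ p := by have := hp.out.two_le; omega
  have hP : IsPGroup p X := IsPGroup.of_card hX
  obtain ⟨s, hs⟩ := Blackburn20.exists_uniform' hX hc hp2 hn
  have key : ∀ d j, 2 ≤ j → n ≤ j + d →
      Nat.card (H ⊓ Gf X j : Subgroup X) ≤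
        p ^ (p - 1) * Nat.card (agemo p H ⊓ Gf X (j + (p - 1)) : Subgroup X) := by
    intro d
    induction d with
    | zero =>
      intro j h1 hj
      rw [S3806.gf_bot hX hc (by omega : n ≤ j), inf_bot_eq, card_bot]
      exact Nat.one_le_iff_ne_zero.mpr
        (Nat.mul_ne_zero (pow_ne_zero _ hp.out.ne_zero) Nat.card_pos.ne')
    | succ d ih =>
      intro j h1 hj
      by_cases hbig : n ≤ j + (p - 1)
      · refine le_trans ?_ (Nat.le_mul_of_pos_right _ Nat.card_pos)
        refine (card_le_of_le inf_le_right).trans ?_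
        by_cases hjn : j ≤ n
        · rw [S3806.card_gf hX hc (by omega) h1 hjn]
          exact Nat.pow_le_pow_right hp.out.pos (by omega)
        · rw [S3806.gf_bot hX hc (by omega), card_bot]
          exact pow_pos hp.out.pos _
      have hjp : j + 1 + (p - 1) = j + p := by omega
      have hih := ih (j + 1) (by omega) (by omega)
      rw [hjp] at hih
      by_cases hsub : H ⊓ Gf X j ≤ Gf X (j + 1)
      · refine (card_le_of_le (le_inf inf_le_left hsub)).trans (hih.trans (Nat.mul_le_mul le_rfl ?_))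
        exact card_le_of_le (inf_le_inf_left _ (Gf_antitone (by omega)))
      obtain ⟨a, ha, ha'⟩ := SetLike.not_le_iff_exists.mp hsub
      obtain ⟨hp1, hp2'⟩ := Blackburn20.pow_climb hX hc hp2 hn hs h1 ha.2
      have haF : a ^ p ∈ agemo p H ⊓ Gf X (j + (p - 1)) :=
        ⟨Subgroup.subset_closure ⟨a, ha.1, rfl⟩, hp1⟩
      have hle : (agemo p H ⊓ Gf X (j + p) : Subgroup X) ≤ agemo p H ⊓ Gf X (j + (p - 1)) :=
        inf_le_inf_left _ (Gf_antitone (by omega))
      have hcard : Nat.card (agemo p H ⊓ Gf X (j + p) : Subgroup X) * p ≤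
          Nat.card (agemo p H ⊓ Gf X (j + (p - 1)) : Subgroup X) := by
        obtain ⟨u, hu⟩ := IsPGroup.iff_card.mp (hP.to_subgroup (agemo p H ⊓ Gf X (j + p)))
        obtain ⟨v, hv⟩ := IsPGroup.iff_card.mp (hP.to_subgroup (agemo p H ⊓ Gf X (j + (p - 1))))
        have hlt := lt_of_le_of_ne (card_le_of_le hle) fun e =>
          hp2' ha' (by omega) ((eq_of_le_of_card_ge hle e.ge).ge haF).2
        rw [hu, hv] at hlt ⊢
        rw [← pow_succ]
        exact Nat.pow_le_pow_right hp.out.pos ((Nat.pow_lt_pow_iff_right hp.out.one_lt).mp hlt)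
      have hrel : (Gf X (j + 1)).relIndex (H ⊓ Gf X j) ≤ p := by
        refine (relIndex_le_of_le_right inf_le_right (index_ne_zero_of_finite)).trans ?_
        refine Nat.le_of_mul_le_mul_left ?_ (Nat.card_pos (α := Gf X (j + 1)))
        have h := relIndex_mul_relIndex (⊥ : Subgroup X) _ _ bot_le
          (Gf_antitone (G := X) (Nat.le_succ j))
        simp only [relIndex_bot_left, Nat.succ_eq_add_one] at h
        rw [h, S3806.card_gf hX hc (by omega) h1 (by omega),
          S3806.card_gf hX hc (by omega) (by omega) (by omega), ← pow_succ,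
          show n - (j + 1) + 1 = n - j by omega]
      have hsplit : Nat.card (H ⊓ Gf X j : Subgroup X) =
          Nat.card (H ⊓ Gf X (j + 1) : Subgroup X) * (Gf X (j + 1)).relIndex (H ⊓ Gf X j) := by
        have h := relIndex_mul_relIndex (⊥ : Subgroup X) _ _ bot_le
          (inf_le_right : Gf X (j + 1) ⊓ (H ⊓ Gf X j) ≤ H ⊓ Gf X j)
        rw [inf_relIndex_right, relIndex_bot_left, relIndex_bot_left] at h
        rw [← h, show (Gf X (j + 1) ⊓ (H ⊓ Gf X j) : Subgroup X) = H ⊓ Gf X (j + 1) by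
          rw [inf_left_comm, inf_eq_left.mpr (Gf_antitone (G := X) (Nat.le_succ j))]]
      rw [hsplit]
      calc Nat.card (H ⊓ Gf X (j + 1) : Subgroup X) * (Gf X (j + 1)).relIndex (H ⊓ Gf X j)
          ≤ p ^ (p - 1) * Nat.card (agemo p H ⊓ Gf X (j + p) : Subgroup X) * p :=
            Nat.mul_le_mul hih hrel
        _ ≤ p ^ (p - 1) * Nat.card (agemo p H ⊓ Gf X (j + (p - 1)) : Subgroup X) := by
          rw [mul_assoc]
          exact Nat.mul_le_mul le_rfl hcard
  have h := key n 2 le_rfl (by omega)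
  rwa [show 2 + (p - 1) = p + 1 by omega] at h

theorem card_le_odd (hp2 : p ≠ 2) (hn : p + 1 ≤ n) (H : Subgroup X) :
    Nat.card H ≤ p ^ p * Nat.card (agemo p H) := by
  have hp3 : 3 ≤ p := by have := hp.out.two_le; omega
  have hP : IsPGroup p X := IsPGroup.of_card hX
  by_cases hH : H = ⊤
  · subst hH
    rw [card_top, hX]
    rcases Nat.eq_or_lt_of_le hn with hn' | hn'
    · have hne : agemo p (⊤ : Subgroup X) ≠ ⊥ := fun e =>
        BlackburnExp20.false_of_exponent (X := X) (p := p) (by rw [hX, ← hn'])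
          (by rw [hc]; omega) hp2 fun x =>
            mem_bot.mp (e ▸ Subgroup.subset_closure ⟨x, mem_top x, rfl⟩)
      obtain ⟨u, hu⟩ := IsPGroup.iff_card.mp (hP.to_subgroup (agemo p (⊤ : Subgroup X)))
      have h0 : u ≠ 0 := fun h => hne (eq_bot_of_card_eq _ (by rw [hu, h, pow_zero]))
      rw [hu, ← pow_add]
      exact Nat.pow_le_pow_right hp.out.pos (by omega)
    obtain ⟨a, ha⟩ := Blackburn20.exists_pow_notMem hX hc hp2 (by omega)
    have h := card_inf_le hX hc hp2 (by omega) (⊤ : Subgroup X)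
    rw [top_inf_eq, S3806.card_gf hX hc (by omega) le_rfl (by omega)] at h
    obtain ⟨u, hu⟩ := IsPGroup.iff_card.mp
      (hP.to_subgroup (agemo p (⊤ : Subgroup X) ⊓ Gf X (p + 1)))
    obtain ⟨v, hv⟩ := IsPGroup.iff_card.mp (hP.to_subgroup (agemo p (⊤ : Subgroup X)))
    have hle : agemo p (⊤ : Subgroup X) ⊓ Gf X (p + 1) ≤ agemo p (⊤ : Subgroup X) := inf_le_left
    have hlt := lt_of_le_of_ne (card_le_of_le hle) fun e =>
      ha ((eq_of_le_of_card_ge hle e.ge).ge (Subgroup.subset_closure ⟨a, mem_top a, rfl⟩)).2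
    rw [hu] at h
    rw [hu, hv] at hlt
    rw [← pow_add] at h
    rw [hv, ← pow_add]
    have h1 := (Nat.pow_lt_pow_iff_right hp.out.one_lt).mp hlt
    have h2 := (Nat.pow_le_pow_iff_right hp.out.one_lt).mp h
    exact Nat.pow_le_pow_right hp.out.pos (by omega)
  have h2 : Gf X 2 = commutator X := Subgroup.top_lowerCentralSeries_one
  have hsup : H ⊔ Gf X 2 ≠ ⊤ := fun e => hH (frattini_nongenerating (top_le_iff.mp
    (e.ge.trans (sup_le_sup_left (h2 ▸ PGroupsBasic.commutator_le_frattini hP) _))))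
  have hrel : (Gf X 2).relIndex H ≤ p := by
    rw [← relIndex_sup_right]
    have h4 := relIndex_mul_index (le_sup_right : Gf X 2 ≤ H ⊔ Gf X 2)
    have h5 := card_mul_index (Gf X 2)
    rw [S3806.card_gf hX hc (by omega) le_rfl (by omega), hX,
      show p ^ n = p ^ (n - 2) * p ^ 2 by rw [← pow_add]; congr 1; omega] at h5
    rw [Nat.eq_of_mul_eq_mul_left (pow_pos hp.out.pos _) h5] at h4
    obtain ⟨j, hj⟩ := hP.index (H ⊔ Gf X 2)
    have hj1 : 1 ≤ j := Nat.one_le_iff_ne_zero.mpr fun h =>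
      hsup (index_eq_one.mp (by rw [hj, h, pow_zero]))
    rw [hj] at h4
    refine Nat.le_of_mul_le_mul_right ?_ hp.out.pos
    rw [← pow_two, ← h4]
    exact Nat.mul_le_mul le_rfl (Nat.le_self_pow (by omega) p)
  have hsplit : Nat.card H = Nat.card (H ⊓ Gf X 2 : Subgroup X) * (Gf X 2).relIndex H := by
    have h := relIndex_mul_relIndex (⊥ : Subgroup X) _ _ bot_le (inf_le_left : H ⊓ Gf X 2 ≤ H)
    rw [inf_relIndex_left, relIndex_bot_left, relIndex_bot_left] at h
    exact h.symm
  rw [hsplit]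
  refine (Nat.mul_le_mul (card_inf_le hX hc hp2 (by omega) H) hrel).trans ?_
  rw [mul_right_comm, ← pow_succ, show p - 1 + 1 = p by omega]
  exact Nat.mul_le_mul le_rfl (card_le_of_le inf_le_left)

theorem card_le_two (hp2 : p = 2) (hn : 3 ≤ n) (H : Subgroup X) :
    Nat.card H ≤ p ^ p * Nat.card (agemo p H) := by
  subst hp2
  obtain ⟨C, hC, hCi⟩ := MaxClassTwo.exists_cyclic_index_two n X hX hn hc
  have : IsCyclic C := hC
  have : IsCyclic (H ⊓ C : Subgroup X) :=
    isCyclic_of_injective (Subgroup.inclusion (inf_le_right : H ⊓ C ≤ C))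
      (Subgroup.inclusion_injective _)
  obtain ⟨h, hh⟩ := IsCyclic.exists_generator (α := (H ⊓ C : Subgroup X))
  have hcard : Nat.card (H ⊓ C : Subgroup X) = orderOf h := by
    rw [orderOf_eq_card_of_forall_mem_zpowers hh]
  have hF : orderOf ((h : X) ^ 2) ≤ Nat.card (agemo 2 H) := by
    rw [← Nat.card_zpowers]
    exact card_le_of_le (zpowers_le.mpr (Subgroup.subset_closure ⟨(h : X), h.2.1, rfl⟩))
  have h2 : orderOf (h : X) ≤ 2 * orderOf ((h : X) ^ 2) := by
    rw [orderOf_pow]
    have hg : Nat.gcd (orderOf (h : X)) 2 ≤ 2 := Nat.gcd_le_right _ (by norm_num)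
    have hdvd : Nat.gcd (orderOf (h : X)) 2 ∣ orderOf (h : X) := Nat.gcd_dvd_left _ _
    calc orderOf (h : X) = Nat.gcd (orderOf (h : X)) 2 * (orderOf (h : X) / Nat.gcd (orderOf (h : X)) 2) :=
          (Nat.mul_div_cancel' hdvd).symm
      _ ≤ 2 * _ := Nat.mul_le_mul hg le_rfl
  have hrel : C.relIndex H ≤ 2 := by
    have := relIndex_le_of_le_right (H := C) (le_top : H ≤ ⊤) (by rw [relIndex_top_right, hCi]; norm_num)
    rwa [relIndex_top_right, hCi] at this
  have hsplit : Nat.card H = Nat.card (H ⊓ C : Subgroup X) * C.relIndex H := by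
    have h := relIndex_mul_relIndex (⊥ : Subgroup X) _ _ bot_le (inf_le_left : H ⊓ C ≤ H)
    rw [inf_relIndex_left, relIndex_bot_left, relIndex_bot_left] at h
    exact h.symm
  rw [hsplit, hcard, ← Subgroup.orderOf_coe]
  calc orderOf (h : X) * C.relIndex H ≤ 2 * Nat.card (agemo 2 H) * 2 :=
        Nat.mul_le_mul (h2.trans (Nat.mul_le_mul le_rfl hF)) hrel
    _ = 2 ^ 2 * Nat.card (agemo 2 H) := by ring

end

-- end helpers

/-- Let X be a finite p-group of order p^n, n ≥ 2, of nilpotency class n − 1 (maximal class), and H any subgroup of X. Then the index in H of the subgroup generated by the p-th powers of elements of H is at most p^p. -/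
theorem result {X : Type*} [Group X] [Finite X] {p : ℕ} [Fact p.Prime] (n : ℕ) (hn : 2 ≤ n) (hX : Nat.card X = p ^ n)
    (hmax : Group.nilpotencyClass X = n - 1) (H : Subgroup X) :
    (Subgroup.closure {y : X | ∃ h ∈ H, y = h ^ p}).relIndex H ≤ p ^ p := by
  have hp := (Fact.out : p.Prime)
  have hle : Subgroup.closure {y : X | ∃ h ∈ H, y = h ^ p} ≤ H :=
    (Subgroup.closure_le H).mpr (by rintro _ ⟨h, hh, rfl⟩; exact pow_mem hh p)
  have key : Nat.card H ≤ p ^ p * Nat.card (agemo p H) := by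
    by_cases hnp : n ≤ p
    · refine le_trans ?_ (Nat.le_mul_of_pos_right _ Nat.card_pos)
      exact (Nat.le_of_dvd (pow_pos hp.pos n) (hX ▸ Subgroup.card_subgroup_dvd_card H)).trans
        (Nat.pow_le_pow_right hp.pos hnp)
    · by_cases hp2 : p = 2
      · exact card_le_two hX hmax hp2 (by omega) H
      · exact card_le_odd hX hmax hp2 (by omega) H
  refine Nat.le_of_mul_le_mul_left ?_
    (Nat.card_pos (α := ↥(Subgroup.closure {y : X | ∃ h ∈ H, y = h ^ p})))
  have h := Subgroup.relIndex_mul_relIndex (⊥ : Subgroup X) _ _ bot_le hle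
  rw [Subgroup.relIndex_bot_left, Subgroup.relIndex_bot_left] at h
  rw [h, mul_comm]
  exact key
end Cfsg.Agent.S4144
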