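import Cfsg.Statements.S4145
import Mathlib
import Cfsg.Agent.Lib.TransferPResidual

set_option autoImplicit false
open Cfsg

namespace Cfsg.Agent.S4145

/-- An element normalising a cyclic Sylow `p`-subgroup centralises it as soon as it fixes a
non-identity element of it or acts trivially modulo a subgroup not containing it. -/
theorem centralizes {G : Type*} [Group G] [Finite G] {p : ℕ} [hp : Fact p.Prime] (P : Sylow p G)
    (hcyc : IsCyclic (P : Subgroup G)) {n : G}
    (hn : n ∈ Subgroup.normalizer ((P : Subgroup G) : Set G))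
    (h : (∃ x ∈ (P : Subgroup G), x ≠ 1 ∧ n * x * n⁻¹ = x) ∨
      ∃ T : Subgroup G, ¬ (P : Subgroup G) ≤ T ∧ ∀ x ∈ (P : Subgroup G), n * x * n⁻¹ * x⁻¹ ∈ T) :
    n ∈ Subgroup.centralizer ((P : Subgroup G) : Set G) := by
  obtain ⟨g, hg⟩ := hcyc.exists_generator
  set g' : G := (g : G) with hg'
  have hgen : ∀ x ∈ (P : Subgroup G), ∃ i : ℤ, g' ^ i = x := by
    intro x hx
    obtain ⟨i, hi⟩ := Subgroup.mem_zpowers_iff.1 (hg ⟨x, hx⟩)
    exact ⟨i, by simpa using congrArg Subtype.val hi⟩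
  obtain ⟨u, hu⟩ := hgen _ ((Subgroup.mem_normalizer_iff.1 hn g').1 g.2)
  obtain ⟨e, he⟩ := IsPGroup.iff_orderOf.1 P.isPGroup' g
  rw [← Subgroup.orderOf_coe] at he
  have hzero : ∀ a : ℤ, g' ^ a = 1 ↔ ((p ^ e : ℕ) : ℤ) ∣ a := fun a => by
    rw [← orderOf_dvd_iff_zpow_eq_one]
    exact he ▸ Iff.rfl
  have hconj : ∀ i : ℤ, n * g' ^ i * n⁻¹ = g' ^ (i * u) := fun i => by
    rw [← MulAut.conj_apply, map_zpow, MulAut.conj_apply, ← hu, ← zpow_mul, mul_comm]
  have hpu : (p : ℤ) ∣ u - 1 := by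
    by_contra hnd
    have hcop : IsCoprime ((p ^ e : ℕ) : ℤ) (u - 1) := by
      push_cast
      exact ((Nat.prime_iff_prime_int.1 hp.out).coprime_iff_not_dvd.2 hnd).pow_left
    rcases h with ⟨x, hx, hx1, hfix⟩ | ⟨T, hT, hcomm⟩
    · obtain ⟨i, rfl⟩ := hgen x hx
      rw [hconj] at hfix
      apply hx1
      rw [hzero]
      refine hcop.dvd_of_dvd_mul_right ?_
      rw [← hzero, mul_sub, mul_one, zpow_sub, hfix, mul_inv_cancel]
    · apply hT
      have hmem : g' ^ (u - 1) ∈ T := by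
        have := hcomm g' g.2
        rw [← hu] at this
        rwa [zpow_sub, zpow_one]
      obtain ⟨a, b, hab⟩ := hcop
      intro x hx
      obtain ⟨i, rfl⟩ := hgen x hx
      refine T.zpow_mem ?_ i
      have : g' = (g' ^ (u - 1)) ^ b := by
        rw [← zpow_mul]
        conv_lhs => rw [← zpow_one g', ← hab, zpow_add, (hzero (a * _)).2 (dvd_mul_left _ _), one_mul]
        rw [mul_comm]
      rw [this]
      exact T.zpow_mem hmem b
  set b := orderOf n / p ^ (orderOf n).factorization p with hb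
  have hnb : n ^ b ∈ (P : Subgroup G) := by
    have ho : orderOf (n ^ b) = p ^ (orderOf n).factorization p := by
      rw [hb, orderOf_pow_of_dvd (Nat.ordCompl_pos p (orderOf_pos n).ne').ne' (Nat.ordCompl_dvd _ _)]
      exact Nat.div_div_self (Nat.ordProj_dvd _ _) (orderOf_pos n).ne'
    have hz : IsPGroup p (Subgroup.zpowers (n ^ b)) := IsPGroup.of_card (by rw [Nat.card_zpowers, ho])
    have : n ^ b ∈ Subgroup.zpowers (n ^ b) ⊓ Subgroup.normalizer ((P : Subgroup G) : Set G) :=
      ⟨Subgroup.mem_zpowers _, Subgroup.pow_mem _ hn b⟩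
    have e : Subgroup.zpowers (n ^ b) ⊓ Subgroup.normalizer ((P : Subgroup G) : Set G) =
        Subgroup.zpowers (n ^ b) ⊓ P := hz.inf_normalizer_sylow P
    rw [e] at this
    exact this.2
  have hpow : ∀ k : ℕ, n ^ k * g' * (n ^ k)⁻¹ = g' ^ (u ^ k) := by
    intro k
    induction k with
    | zero => simp
    | succ k ih =>
      rw [pow_succ' n k]
      calc n * n ^ k * g' * (n * n ^ k)⁻¹ = n * (n ^ k * g' * (n ^ k)⁻¹) * n⁻¹ := by group
        _ = g' ^ (u ^ (k + 1)) := by rw [ih, hconj, pow_succ]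
  have hub : (u : ZMod (p ^ e)) ^ b = 1 := by
    obtain ⟨i, hi⟩ := hgen _ hnb
    have h1 := hpow b
    rw [← hi, ← zpow_one g', ← zpow_mul, ← zpow_add, ← zpow_neg, ← zpow_add] at h1
    rw [← zpow_mul, one_mul, one_mul, show i + 1 + -i = 1 by ring] at h1
    have h3 : g' ^ (1 - u ^ b : ℤ) = 1 := by rw [zpow_sub, ← h1, mul_inv_cancel]
    rw [hzero, ← ZMod.intCast_zmod_eq_zero_iff_dvd] at h3
    push_cast at h3
    exact (sub_eq_zero.1 h3).symm
  have hupe : (u : ZMod (p ^ e)) ^ (p ^ e) = 1 := by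
    have h1 : ((p ^ e : ℕ) : ℤ) ∣ u ^ (p ^ e) - 1 := by
      have h2 := dvd_sub_pow_of_dvd_sub hpu e
      rw [one_pow] at h2
      exact (dvd_trans (by push_cast; exact pow_dvd_pow _ e.le_succ) h2)
    rw [← ZMod.intCast_zmod_eq_zero_iff_dvd] at h1
    push_cast at h1
    exact sub_eq_zero.1 h1
  have hu1 : (u : ZMod (p ^ e)) = 1 := by
    have hc : Nat.gcd b (p ^ e) = 1 := by
      refine ((Nat.coprime_ordCompl hp.out (orderOf_pos n).ne').pow_left e).symm
    have := (pow_gcd_eq_one (a := (u : ZMod (p ^ e))) (m := b) (n := p ^ e)).2 ⟨hub, hupe⟩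
    rwa [hc, pow_one] at this
  have hfin : n * g' * n⁻¹ = g' := by
    rw [← hu]
    have h3 : ((p ^ e : ℕ) : ℤ) ∣ u - 1 := by
      rw [← ZMod.intCast_zmod_eq_zero_iff_dvd]
      push_cast
      rw [hu1, sub_self]
    rw [← hzero, zpow_sub, zpow_one, mul_inv_eq_one] at h3
    exact h3
  rw [Subgroup.mem_centralizer_iff]
  intro x hx
  obtain ⟨i, rfl⟩ := hgen x hx
  exact ((show Commute n g' from mul_inv_eq_iff_eq_mul.1 hfin).zpow_right i).eq.symm

/-- Let G be a finite group with a cyclic Sylow p-subgroup and H a normal subgroup such that p divides both the order of H and the index of H. Then H has a normal p-complement and G is p-solvable. -/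
theorem result {G : Type*} [Group G] [Finite G] (p : ℕ) [Fact p.Prime]
    (P : Sylow p G) (hP : IsCyclic (P : Subgroup G)) (H : Subgroup G) [H.Normal] (h1 : p ∣ Nat.card H) (h2 : p ∣ H.index) :
    Cfsg.HasNormalPComplement p H ∧ Cfsg.IsPSolvable p G := by
  classical
  have hp : p.Prime := Fact.out
  set R : Subgroup G := H ⊓ (P : Subgroup G) with hR
  haveI := hP
  haveI : IsMulCommutative (P : Subgroup G) := inferInstance
  -- `H ∩ P` is a Sylow subgroup of `H`
  have hRH : R ≤ H := inf_le_left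
  obtain ⟨Q, hQ⟩ : ∃ Q : Sylow p H, (Q : Subgroup H).map H.subtype = R := by
    have hp1 : IsPGroup p (R.subgroupOf H) :=
      (P.isPGroup'.to_le (inf_le_right : R ≤ _)).of_equiv (Subgroup.subgroupOfEquivOfLe hRH).symm
    have hmap : (R.subgroupOf H).map H.subtype = R := by
      rw [Subgroup.subgroupOf_map_subtype, inf_eq_left.2 hRH]
    obtain ⟨Q₀⟩ : Nonempty (Sylow p H) := inferInstance
    obtain ⟨P', hP'⟩ := (Q₀.isPGroup'.map H.subtype).exists_le_sylow
    obtain ⟨c, rfl⟩ := MulAction.exists_smul_eq G P P'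
    have hle : Nat.card (Q₀ : Subgroup H) ≤ Nat.card (R.subgroupOf H) := by
      refine Nat.card_le_card_of_injective (fun x => (⟨⟨c⁻¹ * (x : G) * c⁻¹⁻¹, ‹H.Normal›.conj_mem _ (x : H).2 c⁻¹⟩, ?_⟩ : R.subgroupOf H)) ?_
      · rw [Subgroup.mem_subgroupOf]
        refine ⟨‹H.Normal›.conj_mem _ (x : H).2 c⁻¹, ?_⟩
        have := hP' ⟨(x : H), x.2, rfl⟩
        rw [Sylow.coe_subgroup_smul, Subgroup.mem_pointwise_smul_iff_inv_smul_mem] at this
        simp only [MulAut.smul_def, ← map_inv, MulAut.conj_apply] at this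
        exact this
      · intro x y h
        have h' : c⁻¹ * (x : G) * c⁻¹⁻¹ = c⁻¹ * (y : G) * c⁻¹⁻¹ := congrArg (fun z : R.subgroupOf H => ((z : H) : G)) h
        exact Subtype.ext (Subtype.ext (mul_left_cancel (mul_right_cancel h')))
    have hcard : Nat.card (R.subgroupOf H) = p ^ (Nat.card H).factorization p := by
      obtain ⟨Q₁, hQ₁⟩ := hp1.exists_le_sylow
      refine le_antisymm ?_ (Q₀.card_eq_multiplicity ▸ hle)
      rw [← Q₁.card_eq_multiplicity]
      exact Subgroup.card_le_of_le hQ₁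
    exact ⟨Sylow.ofCard (R.subgroupOf H) hcard, hmap⟩
  -- `H` is `p`-nilpotent
  have hPC : (P : Subgroup G) ≤ Subgroup.centralizer (R : Set G) := by
    intro x hx
    rw [Subgroup.mem_centralizer_iff]
    exact fun r hr => congrArg Subtype.val (mul_comm' (⟨r, hr.2⟩ : (P : Subgroup G)) ⟨x, hx⟩)
  have hPH : ¬ (P : Subgroup G) ≤ H := fun hle => P.not_dvd_index (h2.trans (Subgroup.index_dvd_of_le hle))
  have hNC : ∀ y ∈ H, y ∈ Subgroup.normalizer (R : Set G) → y ∈ Subgroup.centralizer (R : Set G) := by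
    intro y hyH hy
    set S : Subgroup G := (Subgroup.centralizer (((P : Subgroup G).map (QuotientGroup.mk' H) : Subgroup (G ⧸ H)) : Set (G ⧸ H))).comap (QuotientGroup.mk' H) with hS
    set W : Subgroup G := Subgroup.centralizer (R : Set G) ⊓ S with hW
    have hPW : (P : Subgroup G) ≤ W := by
      refine le_inf hPC fun x hx => ?_
      refine Subgroup.mem_comap.2 (Subgroup.mem_centralizer_iff.2 ?_)
      rintro _ ⟨z, hz, rfl⟩
      rw [← map_mul, ← map_mul]
      exact congrArg _ (congrArg Subtype.val (mul_comm' (⟨z, hz⟩ : (P : Subgroup G)) ⟨x, hx⟩))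
    have hyS : ∀ x ∈ (P : Subgroup G), y * x * y⁻¹ ∈ W := by
      intro x hx
      refine ⟨?_, ?_⟩
      · show y * x * y⁻¹ ∈ Subgroup.centralizer (R : Set G)
        rw [Subgroup.mem_centralizer_iff]
        intro r hr
        have hr' : y⁻¹ * r * y ∈ R := (Subgroup.mem_normalizer_iff''.1 hy r).1 hr
        have := Subgroup.mem_centralizer_iff.1 (hPC hx) _ hr'
        calc r * (y * x * y⁻¹) = y * ((y⁻¹ * r * y) * x) * y⁻¹ := by group
          _ = y * (x * (y⁻¹ * r * y)) * y⁻¹ := by rw [this]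
          _ = y * x * y⁻¹ * r := by group
      · have hxS : x ∈ S := (hPW hx).2
        show y * x * y⁻¹ ∈ S
        rw [hS, Subgroup.mem_comap] at hxS ⊢
        rw [map_mul, map_mul, map_inv, show QuotientGroup.mk' H y = 1 from (QuotientGroup.eq_one_iff y).2 hyH,
          one_mul, inv_one, mul_one]
        exact hxS
    have hyPW : ((y • P : Sylow p G) : Subgroup G) ≤ W := by
      rw [Sylow.coe_subgroup_smul]
      rintro _ ⟨x, hx, rfl⟩
      exact hyS x hx
    obtain ⟨w, hw⟩ := MulAction.exists_smul_eq W (P.subtype hPW) ((y • P).subtype hyPW)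
    rw [Sylow.smul_subtype] at hw
    have hw' : (w : G) • P = y • P := Sylow.subtype_injective hw
    have hn : (w : G)⁻¹ * y ∈ Subgroup.normalizer ((P : Subgroup G) : Set G) := by
      exact Sylow.smul_eq_iff_mem_normalizer.1 (by rw [mul_smul, ← hw', inv_smul_smul])
    have hc := centralizes P hP hn (Or.inr ⟨H, hPH, fun x hx => by
      rw [← QuotientGroup.eq_one_iff, ← QuotientGroup.mk'_apply]
      have hwS : (w : G) ∈ S := w.2.2
      rw [hS, Subgroup.mem_comap, Subgroup.mem_centralizer_iff] at hwS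
      have hwx := hwS _ ⟨x, hx, rfl⟩
      simp only [map_mul, map_inv, show QuotientGroup.mk' H y = 1 from (QuotientGroup.eq_one_iff y).2 hyH,
        mul_one, inv_inv]
      rw [mul_assoc _ _ (QuotientGroup.mk' H (w : G)), hwx, inv_mul_cancel_left, mul_inv_cancel]⟩)
    have hmem : (w : G)⁻¹ * y ∈ Subgroup.centralizer (R : Set G) :=
      Subgroup.centralizer_le (inf_le_right : R ≤ (P : Subgroup G)) hc
    simpa using Subgroup.mul_mem _ w.2.1 hmem
  have hNCH : Subgroup.normalizer ((Q : Subgroup H) : Set H) ≤ Subgroup.centralizer ((Q : Subgroup H) : Set H) := by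
    intro y hy
    have hyR : (y : G) ∈ Subgroup.normalizer (R : Set G) := by
      rw [← hQ, Subgroup.mem_normalizer_iff]
      intro r
      constructor
      · rintro ⟨q, hq, rfl⟩
        exact ⟨y * q * y⁻¹, (Subgroup.mem_normalizer_iff.1 hy q).1 hq, rfl⟩
      · rintro ⟨q, hq, hqr⟩
        refine ⟨y⁻¹ * q * y, ?_, ?_⟩
        · exact (Subgroup.mem_normalizer_iff''.1 hy q).1 hq
        · have hqr' : (q : G) = (y : G) * r * (y : G)⁻¹ := hqr
          simp [hqr', mul_assoc]
    have := hNC y y.2 hyR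
    rw [Subgroup.mem_centralizer_iff] at this ⊢
    exact fun q hq => Subtype.ext (this _ (hQ ▸ ⟨q, hq, rfl⟩))
  have hK := MonoidHom.ker_transferSylow_isComplement' Q hNCH
  set K₀ := (MonoidHom.transferSylow Q hNCH).ker with hK₀
  refine ⟨⟨Q, K₀, inferInstance, hK⟩, ?_⟩
  -- the quotient by the normal `p`-complement of `H`
  set K := K₀.map H.subtype with hKdef
  have hKmem : ∀ x : G, x ∈ K ↔ x ∈ H ∧ Nat.Coprime (orderOf x) p := by
    intro x
    constructor
    · rintro ⟨z, hz, rfl⟩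
      refine ⟨z.2, ?_⟩
      rw [H.coe_subtype, Subgroup.orderOf_coe]
      exact (Cfsg.Agent.TransferPResidual.mem_iff_coprime_of_isComplement' hK z).1 hz
    · rintro ⟨hxH, hx⟩
      exact ⟨⟨x, hxH⟩, (Cfsg.Agent.TransferPResidual.mem_iff_coprime_of_isComplement' hK _).2
        (by rwa [← Subgroup.orderOf_coe]), rfl⟩
  haveI : K.Normal := ⟨fun x hx g => by
    rw [hKmem] at hx ⊢
    refine ⟨‹H.Normal›.conj_mem _ hx.1 g, ?_⟩
    rw [← MulAut.conj_apply, MulEquiv.orderOf_eq]
    exact hx.2⟩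
  set π := QuotientGroup.mk' K with hπ
  set P' : Sylow p (G ⧸ K) := P.mapSurjective (QuotientGroup.mk'_surjective K) with hP'
  have hP'coe : (P' : Subgroup (G ⧸ K)) = (P : Subgroup G).map π := Sylow.coe_mapSurjective _ _
  set Z := R.map π with hZ
  set C := Subgroup.centralizer (Z : Set (G ⧸ K)) with hC
  have hZP : Z ≤ (P' : Subgroup (G ⧸ K)) := hP'coe ▸ Subgroup.map_mono inf_le_right
  have hP'C : (P' : Subgroup (G ⧸ K)) ≤ C := by
    rw [hP'coe]
    rintro _ ⟨x, hx, rfl⟩
    rw [hC, Subgroup.mem_centralizer_iff]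
    rintro _ ⟨r, hr, rfl⟩
    rw [← map_mul, ← map_mul, Subgroup.mem_centralizer_iff.1 (hPC hx) r hr]
  have hCn : C.Normal := by
    have hZH : Z = H.map π := by
      have h1 := congrArg (Subgroup.map H.subtype) hK.sup_eq_top
      rw [Subgroup.map_sup, hQ, ← MonoidHom.range_eq_map, H.range_subtype, ← hKdef] at h1
      rw [hZ, ← h1, Subgroup.map_sup, (Subgroup.map_eq_bot_iff K).2 (by rw [hπ, QuotientGroup.ker_mk']), bot_sup_eq]
    haveI : (H.map π).Normal := Subgroup.Normal.map ‹H.Normal› π (QuotientGroup.mk'_surjective K)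
    rw [hC, hZH]
    infer_instance
  haveI := hCn
  obtain ⟨z₀, hz₀, hz₀1⟩ : ∃ z ∈ Z, z ≠ 1 := by
    obtain ⟨r, hr⟩ := exists_prime_orderOf_dvd_card' (G := (Q : Subgroup H)) p (by
      have := Q.ne_bot_of_dvd_card h1
      obtain ⟨k, hk⟩ := IsPGroup.iff_card.1 Q.isPGroup'
      rw [hk]
      refine dvd_pow_self p ?_
      rintro rfl
      exact this (Subgroup.card_eq_one.1 (by rw [hk, pow_zero])))
    refine ⟨π ((r : H) : G), ⟨_, hQ ▸ ⟨(r : H), r.2, rfl⟩, rfl⟩, fun h => ?_⟩
    rw [hπ, QuotientGroup.mk'_apply, QuotientGroup.eq_one_iff, hKmem, Subgroup.orderOf_coe, Subgroup.orderOf_coe, hr] at h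
    exact hp.ne_one ((Nat.coprime_self p).1 h.2)
  let PC : Sylow p C := P'.subtype hP'C
  have hcycP' : IsCyclic (P' : Subgroup (G ⧸ K)) := by
    rw [hP'coe]
    exact isCyclic_of_surjective _ (π.subgroupMap_surjective (P : Subgroup G))
  have hPCcyc : IsCyclic (PC : Subgroup C) :=
    isCyclic_of_surjective (Subgroup.subgroupOfEquivOfLe hP'C).symm.toMonoidHom
      (Subgroup.subgroupOfEquivOfLe hP'C).symm.surjective
  have hNCC : Subgroup.normalizer ((PC : Subgroup C) : Set C) ≤ Subgroup.centralizer ((PC : Subgroup C) : Set C) := by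
    intro y hy
    refine centralizes PC hPCcyc hy (Or.inl ⟨⟨z₀, hP'C (hZP hz₀)⟩, ?_, ?_, ?_⟩)
    · exact Subgroup.mem_subgroupOf.2 (hZP hz₀)
    · exact fun h => hz₀1 (congrArg Subtype.val h)
    · refine Subtype.ext ?_
      show (y : G ⧸ K) * z₀ * (y : G ⧸ K)⁻¹ = z₀
      rw [← Subgroup.mem_centralizer_iff.1 y.2 z₀ hz₀, mul_inv_cancel_right]
  have hL := MonoidHom.ker_transferSylow_isComplement' PC hNCC
  set L₀ := (MonoidHom.transferSylow PC hNCC).ker with hL₀
  set L₁ := L₀.map C.subtype with hL₁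
  have hL₁mem : ∀ x : G ⧸ K, x ∈ L₁ ↔ x ∈ C ∧ Nat.Coprime (orderOf x) p := by
    intro x
    constructor
    · rintro ⟨z, hz, rfl⟩
      refine ⟨z.2, ?_⟩
      rw [C.coe_subtype, Subgroup.orderOf_coe]
      exact (Cfsg.Agent.TransferPResidual.mem_iff_coprime_of_isComplement' hL z).1 hz
    · rintro ⟨hxH, hx⟩
      exact ⟨⟨x, hxH⟩, (Cfsg.Agent.TransferPResidual.mem_iff_coprime_of_isComplement' hL _).2
        (by rwa [← Subgroup.orderOf_coe]), rfl⟩
  haveI : L₁.Normal := ⟨fun x hx g => by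
    rw [hL₁mem] at hx ⊢
    refine ⟨hCn.conj_mem _ hx.1 g, ?_⟩
    rw [← MulAut.conj_apply, MulEquiv.orderOf_eq]
    exact hx.2⟩
  have hL₁C : L₁ ≤ C := Subgroup.map_subtype_le _
  refine ⟨3, ![⊥, L₁.comap π, C.comap π, ⊤], rfl, rfl, ?_, ?_, ?_⟩
  · refine Fin.monotone_iff_le_succ.2 fun i => ?_
    fin_cases i
    · exact bot_le
    · exact Subgroup.comap_mono hL₁C
    · exact le_top
  · intro i
    fin_cases i
    · exact (inferInstance : (⊥ : Subgroup G).Normal)
    · exact (inferInstance : (L₁.comap π).Normal)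
    · exact (inferInstance : (C.comap π).Normal)
    · exact (inferInstance : (⊤ : Subgroup G).Normal)
  · intro i
    fin_cases i
    · right
      show ((⊥ : Subgroup G).relIndex (L₁.comap π)).Coprime p
      rw [Subgroup.relIndex_bot_left]
      have hc : Nat.card (L₁.comap π) = Nat.card K * Nat.card L₁ :=
        QuotientGroup.card_preimage_mk K (L₁ : Set (G ⧸ K))
      rw [hc]
      refine Nat.Coprime.mul_left ?_ ?_
      · rw [Nat.coprime_comm, hp.coprime_iff_not_dvd]
        intro hd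
        obtain ⟨x, hx⟩ := exists_prime_orderOf_dvd_card' p hd
        have := ((hKmem x).1 x.2).2
        rw [Subgroup.orderOf_coe, hx] at this
        exact hp.ne_one ((Nat.coprime_self p).1 this)
      · rw [Nat.coprime_comm, hp.coprime_iff_not_dvd]
        intro hd
        obtain ⟨x, hx⟩ := exists_prime_orderOf_dvd_card' p hd
        have := ((hL₁mem x).1 x.2).2
        rw [Subgroup.orderOf_coe, hx] at this
        exact hp.ne_one ((Nat.coprime_self p).1 this)
    · left
      obtain ⟨k, hk⟩ := IsPGroup.iff_card.1 PC.isPGroup'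
      refine ⟨k, ?_⟩
      show (L₁.comap π).relIndex (C.comap π) = p ^ k
      rw [Subgroup.relIndex_comap, Subgroup.map_comap_eq_self_of_surjective (QuotientGroup.mk'_surjective K), ← hk]
      rw [Subgroup.relIndex, hL₁, Subgroup.subgroupOf, Subgroup.comap_map_eq_self_of_injective C.subtype_injective]
      exact hL.symm.index_eq_card
    · right
      show ((C.comap π).relIndex (⊤ : Subgroup G)).Coprime p
      rw [Subgroup.relIndex_top_right, Subgroup.index_comap_of_surjective _ (QuotientGroup.mk'_surjective K),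
        Nat.coprime_comm, hp.coprime_iff_not_dvd]
      exact fun h => P'.not_dvd_index (h.trans (Subgroup.index_dvd_of_le hP'C))

end Cfsg.Agent.S4145
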