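import Cfsg.Statements.S4149
import Mathlib
import Cfsg.Agent.Lib.ClassPrimes

set_option autoImplicit false
open Cfsg

namespace Cfsg.Agent.S4149

/-- Let G be a finite group that has a normal p-complement for at most one prime p dividing its order, and let σ be a natural number such that every conjugacy class size of G has at most σ distinct prime divisors. Then the number of primes dividing at least one conjugacy class size of G is at most 2σ. -/
theorem result {G : Type*} [Group G] [Finite G] (σ : ℕ)
    (hσ : ∀ x : G, ((Subgroup.centralizer ({x} : Set G)).index).primeFactors.card ≤ σ)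
    (hnil : ∀ p q : ℕ, p.Prime → q.Prime → p ∣ Nat.card G → q ∣ Nat.card G →
      Cfsg.HasNormalPComplement p G → Cfsg.HasNormalPComplement q G → p = q) :
    Nat.card {p : ℕ | p.Prime ∧ ∃ x : G, p ∣ (Subgroup.centralizer ({x} : Set G)).index} ≤ 2 * σ := by
  classical
  haveI := Fintype.ofFinite G
  set idx : G → ℕ := fun x => (Subgroup.centralizer ({x} : Set G)).index with hidx
  have hpos : ∀ x, idx x ≠ 0 := fun x => Subgroup.index_ne_zero_of_finite
  set S : Finset ℕ := (Nat.card G).primeFactors.filter (fun p => ∃ x : G, p ∣ idx x) with hS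
  have hset : {p : ℕ | p.Prime ∧ ∃ x : G, p ∣ (Subgroup.centralizer ({x} : Set G)).index} = (S : Set ℕ) := by
    ext p
    simp only [hS, Set.mem_setOf_eq, Finset.coe_filter, Nat.mem_primeFactors, hidx]
    exact ⟨fun ⟨hp, x, hx⟩ => ⟨⟨hp, hx.trans (Subgroup.index_dvd_card _), Nat.card_pos.ne'⟩, x, hx⟩,
      fun ⟨⟨hp, _, _⟩, h⟩ => ⟨hp, h⟩⟩
  rw [Nat.card_coe_set_eq, hset, Set.ncard_coe_finset]
  -- double counting
  have hdc : ∑ p ∈ S, (Finset.univ.filter (fun x => p ∣ idx x)).card ≤ σ * (Fintype.card G - 1) := by
    calc ∑ p ∈ S, (Finset.univ.filter (fun x => p ∣ idx x)).card = ∑ x : G, (S.filter (fun p => p ∣ idx x)).card := by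
          simp only [Finset.card_filter]; exact Finset.sum_comm
      _ = ∑ x ∈ Finset.univ.erase (1 : G), (S.filter (fun p => p ∣ idx x)).card := by
          rw [Finset.sum_erase]
          rw [Finset.card_eq_zero, Finset.filter_eq_empty_iff]
          intro p hp
          have h1 := (Nat.mem_primeFactors.mp (Finset.mem_filter.mp hp).1).1
          simp only [hidx, ClassPrimes.index_centralizer_one, Nat.dvd_one]
          exact h1.ne_one
      _ ≤ ∑ _x ∈ Finset.univ.erase (1 : G), σ := by
          refine Finset.sum_le_sum fun x _ => (Finset.card_le_card ?_).trans (hσ x)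
          intro p hp
          rw [Finset.mem_filter] at hp
          exact Nat.mem_primeFactors.mpr ⟨(Nat.mem_primeFactors.mp (Finset.mem_filter.mp hp.1).1).1, hp.2, hpos x⟩
      _ = σ * (Fintype.card G - 1) := by
          rw [Finset.sum_const, Finset.card_erase_of_mem (Finset.mem_univ _), Finset.card_univ, smul_eq_mul, Nat.mul_comm]
  set S' := S.filter (fun p => ¬ Cfsg.HasNormalPComplement p G)
  have hS' : S.card ≤ S'.card + 1 := by
    have h1 : (S.filter (fun p => Cfsg.HasNormalPComplement p G)).card ≤ 1 := by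
      rw [Finset.card_le_one]
      intro p hp q hq
      rw [Finset.mem_filter, hS, Finset.mem_filter, Nat.mem_primeFactors] at hp hq
      exact hnil p q hp.1.1.1 hq.1.1.1 hp.1.1.2.1 hq.1.1.2.1 hp.2 hq.2
    have : (S.filter (fun p => Cfsg.HasNormalPComplement p G)).card + S'.card = S.card := by convert Finset.card_filter_add_card_filter_not (s := S) (fun p => Cfsg.HasNormalPComplement p G)
    omega
  have hhalf : ∀ p ∈ S', Fintype.card G ≤ 2 * (Finset.univ.filter (fun x => p ∣ idx x)).card := by
    intro p hp
    rw [Finset.mem_filter, hS, Finset.mem_filter, Nat.mem_primeFactors] at hp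
    haveI := Fact.mk hp.1.1.1
    have h1 := ClassPrimes.two_mul_card_le hp.2
    rw [Nat.card_eq_fintype_card, Fintype.card_subtype, Nat.card_eq_fintype_card] at h1
    have := Finset.card_filter_add_card_filter_not (s := (Finset.univ : Finset G)) (fun x => p ∣ idx x)
    rw [Finset.card_univ] at this
    simp only [hidx] at this ⊢
    omega
  have hone : ∀ p ∈ S, 1 ≤ (Finset.univ.filter (fun x => p ∣ idx x)).card := by
    intro p hp
    obtain ⟨x, hx⟩ := (Finset.mem_filter.mp hp).2
    exact Finset.card_pos.mpr ⟨x, by simp [hx]⟩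
  have hsplit : ∑ p ∈ S', (Finset.univ.filter (fun x => p ∣ idx x)).card + ∑ p ∈ S \ S', (Finset.univ.filter (fun x => p ∣ idx x)).card
      = ∑ p ∈ S, (Finset.univ.filter (fun x => p ∣ idx x)).card := by
    rw [add_comm, Finset.sum_sdiff (Finset.filter_subset _ _)]
  have h1 : S'.card * Fintype.card G ≤ 2 * ∑ p ∈ S', (Finset.univ.filter (fun x => p ∣ idx x)).card := by
    rw [Finset.mul_sum, ← smul_eq_mul, ← Finset.sum_const]
    exact Finset.sum_le_sum hhalf
  have h2 : (S \ S').card ≤ ∑ p ∈ S \ S', (Finset.univ.filter (fun x => p ∣ idx x)).card := by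
    rw [Finset.card_eq_sum_ones]
    exact Finset.sum_le_sum fun p hp => hone p (Finset.mem_sdiff.mp hp).1
  have h3 : (S \ S').card + S'.card = S.card := Finset.card_sdiff_add_card_eq_card (Finset.filter_subset _ _)
  have hG : 1 ≤ Fintype.card G := Fintype.card_pos
  by_contra hlt
  rw [not_le] at hlt
  obtain ⟨g, hg⟩ : ∃ g, Fintype.card G = g + 1 := ⟨Fintype.card G - 1, by omega⟩
  rw [hg] at h1 hdc
  simp only [Nat.add_sub_cancel] at hdc
  have h4 : 2 * σ * (g + 1) ≤ S'.card * (g + 1) := Nat.mul_le_mul_right _ (by omega)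
  nlinarith

end Cfsg.Agent.S4149
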