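import Cfsg.Statements.S4150
import Mathlib
import Cfsg.Agent.Lib.AltTwoCycles
import Cfsg.Agent.Lib.PrimeGap

set_option autoImplicit false
open Cfsg

namespace Cfsg.Agent.S4150

open Equiv Equiv.Perm MulAction

/-- Small degree: a subgroup of `A₅` of order divisible by 15 is `A₅`. -/
theorem five {α : Type*} [Fintype α] [DecidableEq α] (hα : Fintype.card α = 5) (G : Subgroup (Perm α))
    (hG : G ≤ alternatingGroup α) (h15 : 15 ∣ Nat.card G) : G = alternatingGroup α := by
  rcases AltTwoCycles.eq_alternating_or_index (by omega) G hG with h | ⟨h1, h2⟩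
  · exact h
  exfalso
  rw [hα] at h1 h2
  obtain ⟨c, hc⟩ := h15
  rw [hc, show Nat.factorial 5 = 120 by rfl] at h2
  rw [show Nat.factorial 5 = 120 by rfl] at h1
  set k := (G.subgroupOf (alternatingGroup α)).index
  have hk : k ≤ 4 := by
    rcases Nat.eq_zero_or_pos c with hc0 | hc0
    · subst hc0; omega
    · nlinarith
  have := Nat.le_of_dvd (Nat.factorial_pos k) h1
  have := Nat.factorial_le hk
  rw [show Nat.factorial 4 = 24 by rfl] at this
  omega

/-- A transitive even group of degree 6 with elements of order 3 and a 5-cycle is `A₆` or `A₅`. -/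
theorem six {α : Type*} [Fintype α] [DecidableEq α] (hα : Fintype.card α = 6) (G : Subgroup (Perm α))
    (hG : G ≤ alternatingGroup α) (hp : IsPreprimitive G α) (h30 : 30 ∣ Nat.card G) :
    ∃ d : ℕ, 5 ≤ d ∧ Nonempty (G ≃* alternatingGroup (Fin d)) := by
  rcases AltTwoCycles.eq_alternating_or_index (by omega) G hG with h | ⟨h1, h2⟩
  · exact ⟨6, by norm_num, ⟨(MulEquiv.subgroupCongr h).trans (Equiv.altCongrHom (Fintype.equivFinOfCardEq hα))⟩⟩
  haveI := hp
  have hne := AltTwoCycles.card_ne_thirty (G := G) (X := α) (by rw [Nat.card_eq_fintype_card, hα])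
  obtain ⟨c, hc⟩ := h30
  rw [hα, show Nat.factorial 6 = 720 by rfl] at h1 h2
  set k := (G.subgroupOf (alternatingGroup α)).index with hk
  have hkc : k * c = 12 := by rw [hc] at h2; nlinarith
  have hk6 : ¬ k ≤ 5 := by
    intro h
    have h3 := Nat.le_of_dvd (Nat.factorial_pos k) h1
    have h4 := Nat.factorial_le h
    rw [show Nat.factorial 5 = 120 by rfl] at h4
    omega
  have hkle : k ≤ 12 := Nat.le_of_dvd (by norm_num) ⟨c, hkc.symm⟩
  have hk' : k = 6 := by
    interval_cases k <;> omega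
  exact ⟨5, le_rfl, AltTwoCycles.iso_five_of_index_six hα G hG hk'⟩

/-- Degree 7. -/
theorem seven {α : Type*} [Fintype α] [DecidableEq α] (hα : Fintype.card α = 7) (G : Subgroup (Perm α))
    (hG : G ≤ alternatingGroup α) (h3 : IsMultiplyPretransitive G α 3) (h5 : 5 ∣ Nat.card G) :
    G = alternatingGroup α := by
  haveI := h3
  rcases AltTwoCycles.eq_alternating_or_index (by omega) G hG with h | ⟨h1, h2⟩
  · exact h
  exfalso
  obtain ⟨x⟩ : Nonempty (Fin 3 ↪ α) := ⟨(Fin.castLEEmb (by omega : 3 ≤ Fintype.card α)).trans (Fintype.equivFin α).symm.toEmbedding⟩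
  have hcard : 210 * Nat.card (stabilizer G x) = Nat.card G := by
    have h := Cfsg.Agent.PermMultiTrans.card_eq_descFactorial_mul (G := G) x
    rw [Nat.card_eq_fintype_card (α := α), hα, show Nat.descFactorial 7 3 = 210 by decide] at h
    exact h
  rw [hα, show Nat.factorial 7 = 5040 by rfl] at h1 h2
  set k := (G.subgroupOf (alternatingGroup α)).index
  have hkc : k * Nat.card (stabilizer G x) = 12 := by rw [← hcard] at h2; nlinarith
  have hk6 : ¬ k ≤ 6 := by
    intro h
    have h3 := Nat.le_of_dvd (Nat.factorial_pos k) h1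
    have h4 := Nat.factorial_le h
    rw [show Nat.factorial 6 = 720 by rfl] at h4
    omega
  have hs : Nat.card (stabilizer G x) = 1 := by
    have := Nat.card_pos (α := stabilizer G x)
    by_contra h
    have : k * 2 ≤ k * Nat.card (stabilizer G x) := Nat.mul_le_mul_left k (by omega)
    omega
  obtain ⟨a⟩ : Nonempty α := ⟨x 0⟩
  obtain ⟨hpr, hfa, hc1, hc2⟩ := AltTwoCycles.stabilizer_facts G h3 (by omega) a
  haveI := hpr; haveI := hfa
  rw [hα] at hc1 hc2
  refine AltTwoCycles.card_ne_thirty (G := stabilizer G a) (X := SubMulAction.ofStabilizer G a) (by omega) ?_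
  rw [hs] at hcard
  omega

/-- The core: elements of orders `p < q` whose supports cover the domain. -/
theorem core {α : Type*} [Fintype α] [DecidableEq α] {p q : ℕ} (hp : p.Prime) (hq : q.Prime) (hp3 : 3 ≤ p) (hpq : p < q)
    (hd : Fintype.card α ≤ 2 * p)
    (hcond : (p + 4 ≤ q ∧ (Fintype.card α < 2 * p ∨ q + 3 ≤ 2 * p)) ∨ (p = 3 ∧ q = 5) ∨ (p = 5 ∧ q = 7) ∨ (p = 11 ∧ q = 13))
    (x y : Perm α) (hx : orderOf x = p) (hy : orderOf y = q) (hxa : x ∈ alternatingGroup α) (hya : y ∈ alternatingGroup α)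
    (hcov : ∀ z, x z ≠ z ∨ y z ≠ z) :
    ∃ d : ℕ, 5 ≤ d ∧ Nonempty (Subgroup.closure ({x, y} : Set (Perm α)) ≃* alternatingGroup (Fin d)) := by
  classical
  set G := Subgroup.closure ({x, y} : Set (Perm α)) with hGdef
  have hxG : x ∈ G := Subgroup.subset_closure (by simp)
  have hyG : y ∈ G := Subgroup.subset_closure (by simp)
  have hGA : G ≤ alternatingGroup α := by
    rw [hGdef, Subgroup.closure_le]
    rintro z (rfl | rfl)
    · exact hxa
    · exact hya
  -- `y` is a cycle
  have hys0 : y.support.card ≤ Fintype.card α := Finset.card_le_univ _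
  have hyc : y.IsCycle := isCycle_of_prime_order (hy.symm ▸ hq) (by omega)
  have hys : y.support.card = q := by rw [← hyc.orderOf, hy]
  have hx5 : p ∣ Nat.card G ∧ q ∣ Nat.card G := by
    constructor
    · rw [← hx, ← Subgroup.orderOf_mk x hxG]; exact orderOf_dvd_natCard _
    · rw [← hy, ← Subgroup.orderOf_mk y hyG]; exact orderOf_dvd_natCard _
  obtain ⟨c, hc⟩ := hyc.nonempty_support
  haveI htr : IsPretransitive G α := by
    have hall : ∀ z, ∃ g : G, (g : Perm α) c = z := by
      intro z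
      have hysupp : ∀ w, w ∈ y.support → ∃ g : G, (g : Perm α) c = w := by
        intro w hw
        obtain ⟨i, hi⟩ := hyc.exists_pow_eq (mem_support.mp hc) (mem_support.mp hw)
        exact ⟨⟨y ^ i, pow_mem hyG i⟩, hi⟩
      by_cases hz : z ∈ y.support
      · exact hysupp z hz
      have hxz : x z ≠ z := (hcov z).resolve_right (fun h => hz (mem_support.mpr h))
      obtain ⟨i, hi⟩ : ∃ i : ℕ, (x ^ i) z ∈ y.support := by
        by_contra h
        push Not at h
        have hinj : Function.Injective (fun i : Fin p => (⟨(x ^ (i : ℕ)) z, h i⟩ : {w // w ∉ y.support})) := by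
          have key : ∀ i : ℕ, 0 < i → i < p → (x ^ i) z ≠ z := by
            intro i hi hip e
            obtain ⟨m, hm⟩ := exists_pow_eq_self_of_coprime (x := x) (n := i)
              (by rw [hx]; exact (Nat.coprime_of_lt_prime (Nat.pos_iff_ne_zero.mp hi) hip hp).symm)
            have h2 : x ^ i ∈ stabilizer (Perm α) z := e
            exact hxz (hm ▸ pow_mem h2 m : x ∈ stabilizer (Perm α) z)
          intro i i' e
          have e' := congrArg Subtype.val e
          simp only at e'
          apply Fin.ext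
          rcases lt_trichotomy (i : ℕ) i' with hlt | heq | hgt
          · rw [show (i' : ℕ) = i + (i' - i) by omega, pow_add, Perm.mul_apply] at e'
            exact absurd ((x ^ (i : ℕ)).injective e').symm (key _ (by omega) (by omega))
          · exact heq
          · rw [show (i : ℕ) = i' + (i - i') by omega, pow_add, Perm.mul_apply] at e'
            exact absurd ((x ^ (i' : ℕ)).injective e') (key _ (by omega) (by omega))
        have := Fintype.card_le_of_injective _ hinj
        rw [Fintype.card_fin, Fintype.card_subtype_compl, Fintype.card_coe, hys] at this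
        omega
      obtain ⟨g, hg⟩ := hysupp _ hi
      exact ⟨(⟨x ^ i, pow_mem hxG i⟩ : G)⁻¹ * g, by simp [hg]⟩
    refine ⟨fun a b => ?_⟩
    obtain ⟨g, hg⟩ := hall a
    obtain ⟨h, hh⟩ := hall b
    exact ⟨h * g⁻¹, by change ((h : Perm α) * (g : Perm α)⁻¹) a = b; simp [← hg, hh]⟩
  have hprim : IsPreprimitive G α :=
    PrimeCycle.isPreprimitive_of_prime_cycle G hyG hyc (hys.symm ▸ hq) (by omega)
  have hdone : alternatingGroup α ≤ G → ∀ (h5 : 5 ≤ Fintype.card α),
      ∃ d : ℕ, 5 ≤ d ∧ Nonempty (G ≃* alternatingGroup (Fin d)) := fun h h5 =>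
    ⟨Fintype.card α, h5, ⟨(MulEquiv.subgroupCongr (le_antisymm hGA h)).trans (Equiv.altCongrHom (Fintype.equivFin α))⟩⟩
  have hq5 : 5 ≤ q := by
    have := hq.eq_two_or_odd
    have := hp.eq_two_or_odd
    omega
  have hqd : q ≤ Fintype.card α := by omega
  by_cases hyk : q + 3 ≤ Fintype.card α
  · exact hdone (PrimeCycle.alternatingGroup_le G hprim hyG hyc (hys.symm ▸ hq) (by omega)) (by omega)
  rcases AltTwoCycles.support_card_cases hp hx hd with ⟨hxc, hxs⟩ | ⟨hxs, hd2⟩
  · by_cases hxk : p + 3 ≤ Fintype.card α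
    · exact hdone (PrimeCycle.alternatingGroup_le G hprim hxG hxc (hxs.symm ▸ hp) (by omega)) (by omega)
    -- twin primes
    have hqp : Fintype.card α = q ∧ q = p + 2 := by
      have := hq.eq_two_or_odd
      have := hp.eq_two_or_odd
      omega
    have h3 : IsMultiplyPretransitive G α 3 := by
      have := AltTwoCycles.isMultiplyPretransitive_succ G hprim hxG hxc (hxs.symm ▸ hp) (by omega)
      rwa [hxs, show Fintype.card α - p + 1 = 3 by omega] at this
    rcases hcond with ⟨h4, -⟩ | ⟨rfl, rfl⟩ | ⟨rfl, rfl⟩ | ⟨rfl, rfl⟩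
    · omega
    · exact hdone (five hqp.1 G hGA ((by norm_num : Nat.Coprime 3 5).mul_dvd_of_dvd_of_dvd hx5.1 hx5.2)).ge (by omega)
    · exact hdone (seven hqp.1 G hGA h3 hx5.1).ge (by omega)
    · exact hdone (AltTwoCycles.thirteen hqp.1 G hGA hprim hxG hxc hxs).ge (by omega)
  · rcases hcond with ⟨-, h4 | h4⟩ | ⟨rfl, rfl⟩ | ⟨rfl, rfl⟩ | ⟨rfl, rfl⟩
    · omega
    · omega
    · haveI := htr
      have h2 : 2 ∣ Nat.card G := by
        have h6 := index_stabilizer_of_transitive G c
        have h7 := (stabilizer G c).index_dvd_card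
        rw [h6, Nat.card_eq_fintype_card, hd2] at h7
        exact dvd_trans ⟨3, rfl⟩ h7
      refine six (by omega) G hGA hprim ?_
      have h15 := (by norm_num : Nat.Coprime 3 5).mul_dvd_of_dvd_of_dvd hx5.1 hx5.2
      exact (by norm_num : Nat.Coprime 2 (3 * 5)).mul_dvd_of_dvd_of_dvd h2 h15
    · omega
    · omega

/-- Let m ≥ 5. Then there are primes p < q with m/2 ≤ p and q ≤ m such that any two elements x, y of the alternating group of degree m with x of order p and y of order q generate a subgroup isomorphic to an alternating group of some degree d ≥ 5. -/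
theorem result (m : ℕ) (hm : 5 ≤ m) :
    ∃ p q : ℕ, p.Prime ∧ q.Prime ∧ m ≤ 2 * p ∧ p < q ∧ q ≤ m ∧
      ∀ x y : alternatingGroup (Fin m), orderOf x = p → orderOf y = q →
        ∃ d : ℕ, 5 ≤ d ∧ Nonempty (Subgroup.closure ({x, y} : Set (alternatingGroup (Fin m))) ≃* alternatingGroup (Fin d)) := by
  classical
  obtain ⟨p, q, hp, hq, hp3, hpq, hmp, hqm, hcond⟩ : ∃ p q : ℕ, p.Prime ∧ q.Prime ∧ 3 ≤ p ∧ p < q ∧ m ≤ 2 * p ∧ q ≤ m ∧
      ((p + 4 ≤ q ∧ (m < 2 * p ∨ q + 3 ≤ 2 * p)) ∨ (p = 3 ∧ q = 5) ∨ (p = 5 ∧ q = 7) ∨ (p = 11 ∧ q = 13)) := by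
    by_cases h6 : m ≤ 6
    · exact ⟨3, 5, by norm_num, by norm_num, by norm_num, by norm_num, by omega, by omega, by omega⟩
    by_cases h10 : m ≤ 10
    · exact ⟨5, 7, by norm_num, by norm_num, by norm_num, by norm_num, by omega, by omega, by omega⟩
    by_cases h14 : m ≤ 14
    · exact ⟨7, 11, by norm_num, by norm_num, by norm_num, by norm_num, by omega, by omega, by omega⟩
    by_cases h16 : m ≤ 16
    · exact ⟨11, 13, by norm_num, by norm_num, by norm_num, by norm_num, by omega, by omega, by omega⟩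
    obtain ⟨p, q, hp, hq, h1, h2, h3⟩ := PrimeGap.exists_spread_primes m (by omega)
    exact ⟨p, q, hp, hq, by omega, by omega, by omega, h3, Or.inl ⟨h1, Or.inl h2⟩⟩
  refine ⟨p, q, hp, hq, hmp, hpq, hqm, fun x y hx hy => ?_⟩
  set xp : Equiv.Perm (Fin m) := (Subtype.val x) with hxp
  set yp : Equiv.Perm (Fin m) := (Subtype.val y) with hyp
  let P : Fin m → Prop := fun z => xp z ≠ z ∨ yp z ≠ z
  have hmem : ∀ (f : Equiv.Perm (Fin m)), f = xp ∨ f = yp → (∀ z, f z ≠ z → P z) ∧ ∀ z, P (f z) ↔ P z := by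
    intro f hf
    have h1 : ∀ z, f z ≠ z → P z := by
      intro z hz; rcases hf with rfl | rfl
      · exact Or.inl hz
      · exact Or.inr hz
    refine ⟨h1, fun z => ?_⟩
    by_cases hz : f z = z
    · rw [hz]
    · exact iff_of_true (h1 _ (fun h => hz (f.injective h))) (h1 _ hz)
  obtain ⟨hx1, hx2⟩ := hmem xp (Or.inl rfl)
  obtain ⟨hy1, hy2⟩ := hmem yp (Or.inr rfl)
  set x0 : Equiv.Perm {z // P z} := xp.subtypePerm hx2 with hx0
  set y0 : Equiv.Perm {z // P z} := yp.subtypePerm hy2 with hy0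
  have hxo : Equiv.Perm.ofSubtype x0 = xp := Equiv.Perm.ofSubtype_subtypePerm hx2 hx1
  have hyo : Equiv.Perm.ofSubtype y0 = yp := Equiv.Perm.ofSubtype_subtypePerm hy2 hy1
  have hinj : Function.Injective (Equiv.Perm.ofSubtype : Equiv.Perm {z // P z} →* Equiv.Perm (Fin m)) :=
    Equiv.Perm.ofSubtype_injective
  have hxa : x0 ∈ alternatingGroup {z // P z} := by
    rw [Equiv.Perm.mem_alternatingGroup, ← Equiv.Perm.sign_ofSubtype, hxo]; exact x.2
  have hya : y0 ∈ alternatingGroup {z // P z} := by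
    rw [Equiv.Perm.mem_alternatingGroup, ← Equiv.Perm.sign_ofSubtype, hyo]; exact y.2
  have hcard : Fintype.card {z // P z} ≤ m := (Fintype.card_subtype_le _).trans_eq (Fintype.card_fin m)
  have hcov : ∀ z : {z // P z}, x0 z ≠ z ∨ y0 z ≠ z := by
    rintro ⟨z, hz | hz⟩
    · exact Or.inl (fun h => hz (congrArg Subtype.val h))
    · exact Or.inr (fun h => hz (congrArg Subtype.val h))
  obtain ⟨d, hd, ⟨e⟩⟩ := core hp hq hp3 hpq (hcard.trans hmp)
    (by rcases hcond with ⟨h1, h2 | h2⟩ | h | h | h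
        · exact Or.inl ⟨h1, Or.inl (lt_of_le_of_lt hcard h2)⟩
        · exact Or.inl ⟨h1, Or.inr h2⟩
        · exact Or.inr (Or.inl h)
        · exact Or.inr (Or.inr (Or.inl h))
        · exact Or.inr (Or.inr (Or.inr h)))
    x0 y0 (by rw [← orderOf_injective _ hinj, hxo, hxp, Subgroup.orderOf_coe, hx])
    (by rw [← orderOf_injective _ hinj, hyo, hyp, Subgroup.orderOf_coe, hy]) hxa hya hcov
  refine ⟨d, hd, ⟨MulEquiv.trans ?_ e⟩⟩
  refine ((Subgroup.closure ({x, y} : Set (alternatingGroup (Fin m)))).equivMapOfInjective (alternatingGroup (Fin m)).subtype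
    (Subgroup.subtype_injective _)).trans ((MulEquiv.subgroupCongr ?_).trans
      ((Subgroup.closure ({x0, y0} : Set (Equiv.Perm {z // P z}))).equivMapOfInjective Equiv.Perm.ofSubtype hinj).symm)
  rw [MonoidHom.map_closure, MonoidHom.map_closure, Set.image_pair, Set.image_pair, hxo, hyo]
  rfl

end Cfsg.Agent.S4150
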