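import Cfsg.Statements.S4151
import Mathlib
import Cfsg.Agent.Lib.HallCore
import Cfsg.Agent.Lib.CoprimeAction
import Cfsg.Agent.Lib.CoprimeGen
import Cfsg.Agent.Lib.CoprimeSZ
import Cfsg.Agent.Lib.PGroupsCyclic

set_option autoImplicit false
open Cfsg

namespace Cfsg.Agent.S4151

open scoped commutatorElement Pointwise
open Cfsg.Agent.HallCore (PiNat)

variable {G : Type*} [Group G] [Finite G]

/-- If `Q` centralises a Sylow subgroup of `E` that is central in its normalizer, then `[E,Q]` has
order prime to `p`. -/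
theorem not_dvd_card_commutator {p : ℕ} [hp : Fact p.Prime] (E Q : Subgroup G)
    (hQE : Q ≤ Subgroup.normalizer (E : Set G)) (P : Sylow p E)
    (hP : Subgroup.normalizer ((P : Subgroup E) : Set E) ≤ Subgroup.centralizer ((P : Subgroup E) : Set E))
    (hQP : ∀ x ∈ (P : Subgroup E), ∀ q ∈ Q, q * (x : G) = (x : G) * q) :
    ¬ p ∣ Nat.card ↥⁅E, Q⁆ := by
  classical
  obtain ⟨K0, hKn, hK⟩ : ∃ K0 : Subgroup E, K0.Normal ∧ K0.IsComplement' (P : Subgroup E) :=
    ⟨_, MonoidHom.normal_ker _, MonoidHom.ker_transferSylow_isComplement' P hP⟩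
  haveI := hKn
  have hcard : ¬ p ∣ Nat.card K0 := by
    have h1 := hK.card_mul_card
    have h2 := (P : Subgroup E).index_mul_card
    rw [← h2] at h1
    rw [Nat.eq_of_mul_eq_mul_right Nat.card_pos h1]
    exact P.not_dvd_index
  have hmem : ∀ u : E, (orderOf u).Coprime p → u ∈ K0 := by
    intro u hu
    rw [← QuotientGroup.eq_one_iff]
    have h1 : orderOf (QuotientGroup.mk' K0 u) ∣ orderOf u := orderOf_map_dvd _ u
    have h2 : orderOf (QuotientGroup.mk' K0 u) ∣ Nat.card (P : Subgroup E) := by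
      rw [← hK.symm.index_eq_card]
      exact orderOf_dvd_natCard _
    rw [P.card_eq_multiplicity] at h2
    exact orderOf_eq_one_iff.mp (Nat.eq_one_of_dvd_coprimes (hu.pow_right _) h1 h2)
  have hle : ⁅E, Q⁆ ≤ K0.map E.subtype := by
    rw [Subgroup.commutator_le]
    intro e he q hq
    obtain ⟨⟨⟨w, hw⟩, ⟨x, hx⟩⟩, hwx⟩ := hK.2 ⟨e, he⟩
    have hwx' : (w : G) * (x : G) = e := congrArg Subtype.val hwx
    have hconj : q * (w : G)⁻¹ * q⁻¹ ∈ E := CoprimeAction.conj_mem (hQE hq) (inv_mem w.2)
    have hconjK : (⟨_, hconj⟩ : E) ∈ K0 := by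
      apply hmem
      rw [← Subgroup.orderOf_coe]
      have ho : orderOf (q * (w : G)⁻¹ * q⁻¹) = orderOf w := by
        rw [← MulAut.conj_apply, MulEquiv.orderOf_eq, orderOf_inv, Subgroup.orderOf_coe]
      rw [ho]
      exact Nat.Coprime.coprime_dvd_left (Subgroup.orderOf_dvd_natCard K0 hw)
        ((hp.out.coprime_iff_not_dvd.mpr hcard).symm)
    refine Subgroup.mem_map.mpr ⟨w * ⟨_, hconj⟩, mul_mem hw hconjK, ?_⟩
    have hxq : q * (x : G)⁻¹ * q⁻¹ = (x : G)⁻¹ := by
      have := hQP x⁻¹ (inv_mem hx) q hq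
      push_cast at this
      rw [this, mul_inv_cancel_right]
    calc E.subtype (w * ⟨_, hconj⟩) = (w : G) * ((x : G) * (x : G)⁻¹) * (q * (w : G)⁻¹ * q⁻¹) := by simp
      _ = (w : G) * ((x : G) * (q * (x : G)⁻¹ * q⁻¹)) * (q * (w : G)⁻¹ * q⁻¹) := by rw [hxq]
      _ = ⁅e, q⁆ := by rw [← hwx', commutatorElement_def]; group
  intro h
  exact hcard (by
    have := h.trans (Subgroup.card_dvd_of_le hle)
    rwa [Subgroup.card_map_of_injective E.subtype_injective] at this)
/-- Order of a join of two subgroups with trivial intersection, one normalising the other. -/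
theorem card_sup_of_disjoint (A B : Subgroup G) (hB : B ≤ Subgroup.normalizer (A : Set G))
    (h : ∀ x ∈ A, x ∈ B → x = 1) : Nat.card ↥(A ⊔ B) = Nat.card A * Nat.card B := by
  have he := Subgroup.coe_mul_of_right_le_normalizer_left A B hB
  rw [← Nat.card_prod]
  symm
  refine Nat.card_congr (Equiv.ofBijective (fun z : A × B => (⟨(z.1 : G) * z.2, mul_mem (Subgroup.mem_sup_left z.1.2) (Subgroup.mem_sup_right z.2.2)⟩ : ↥(A ⊔ B))) ⟨?_, ?_⟩)
  · rintro ⟨a, b⟩ ⟨a', b'⟩ e
    have e' : (a : G) * b = (a' : G) * b' := congrArg Subtype.val e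
    have h1 : (a' : G)⁻¹ * a = (b' : G) * (b : G)⁻¹ := by
      calc (a' : G)⁻¹ * a = (a' : G)⁻¹ * ((a : G) * b) * (b : G)⁻¹ := by group
        _ = (a' : G)⁻¹ * ((a' : G) * b') * (b : G)⁻¹ := by rw [e']
        _ = _ := by group
    have h2 := h _ (mul_mem (inv_mem a'.2) a.2) (h1 ▸ mul_mem b'.2 (inv_mem b.2))
    have ha : a = a' := Subtype.ext (inv_mul_eq_one.mp h2).symm
    subst ha
    rw [Subtype.ext (mul_left_cancel e')]
  · rintro ⟨x, hx⟩
    obtain ⟨a, ha, b, hb, rfl⟩ : x ∈ (A : Set G) * (B : Set G) := he ▸ hx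
    exact ⟨(⟨a, ha⟩, ⟨b, hb⟩), rfl⟩

/-- Let G be a finite group and H a non-normal subgroup meeting each of its conjugates by elements outside N_G(H) trivially, with the order of H coprime to its index in N_G(H), such that G is π-separable for π the set of primes dividing the order of H (G has a chain of normal subgroups from 1 to G each of whose factors has order divisible only by primes dividing the order of H or coprime to it). Suppose a Sylow 2-subgroup of H is abelian and Q is a complement of H in N_G(H). Then C_H(Q), the subgroup of elements of H commuting with Q, has order coprime to its index in G and has a normal complement in G. -/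
theorem result {G : Type*} [Group G] [Finite G] (H : Subgroup G)
    (hTI : Cfsg.IsTISubset (H : Set G)) (hnn : ¬ H.Normal)
    (hHall : (Nat.card H).Coprime (H.subgroupOf (Subgroup.normalizer (H : Set G))).index)
    (hsep : ∃ (n : ℕ) (M : Fin (n + 1) → Subgroup G), M 0 = ⊥ ∧ M (Fin.last n) = ⊤ ∧ Monotone M ∧ (∀ i, (M i).Normal) ∧
      ∀ i : Fin n, (∀ q : ℕ, q.Prime → q ∣ (M i.castSucc).relIndex (M i.succ) → q ∣ Nat.card H) ∨
        ((M i.castSucc).relIndex (M i.succ)).Coprime (Nat.card H))
    (h2 : ∀ P : Sylow 2 H, IsMulCommutative (P : Subgroup H))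
    (Q : Subgroup G) (hQ : Q ≤ Subgroup.normalizer (H : Set G)) (hQH : Q ⊓ H = ⊥) (hQH' : Q ⊔ H = Subgroup.normalizer (H : Set G)) :
    (Nat.card ↥(H ⊓ Subgroup.centralizer (Q : Set G))).Coprime (H ⊓ Subgroup.centralizer (Q : Set G)).index ∧
    ∃ N : Subgroup G, N.Normal ∧ N.IsComplement' (H ⊓ Subgroup.centralizer (Q : Set G)) := by
  classical
  set N := Subgroup.normalizer (H : Set G) with hN
  set π : Set ℕ := {q | q ∣ Nat.card H} with hπ
  have hHN : H ≤ N := Subgroup.le_normalizer
  obtain ⟨g₀, hg₀⟩ : ∃ g, g ∉ N := by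
    by_contra h; push Not at h
    exact hnn (Subgroup.normalizer_eq_top_iff.mp (eq_top_iff.mpr fun g _ => h g))
  have hTI' : ∀ g : G, ∀ x ∈ H, g * x * g⁻¹ ∈ H → x ≠ 1 → g ∈ N :=
    fun g x hx hgx hx1 => by_contra fun hg => hx1 (hTI g hg x hx hgx)
  -- `H` is a Hall subgroup of `G`
  have hHallG : (Nat.card H).Coprime H.index := by
    apply Nat.coprime_of_dvd
    intro p hp hpH hpi
    haveI := Fact.mk hp
    obtain ⟨P⟩ : Nonempty (Sylow p H) := inferInstance
    set U := (P : Subgroup H).map H.subtype with hU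
    have hUc : Nat.card U = p ^ (Nat.card H).factorization p := by
      rw [hU, Subgroup.card_map_of_injective H.subtype_injective, P.card_eq_multiplicity]
    have hlt : (Nat.card H).factorization p < (Nat.card G).factorization p := by
      rw [← H.index_mul_card, Nat.factorization_mul Subgroup.index_ne_zero_of_finite Nat.card_pos.ne', Finsupp.add_apply]
      have := (Nat.Prime.dvd_iff_one_le_factorization hp Subgroup.index_ne_zero_of_finite).mp hpi
      omega
    have h1 := Sylow.prime_pow_dvd_card_normalizer (p := p) (n := (Nat.card H).factorization p)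
      ((hp.pow_dvd_iff_le_factorization Nat.card_pos.ne').mpr hlt) (H := U) hUc
    have hne : U ≠ ⊥ := by
      intro h
      rw [h, Subgroup.card_bot] at hUc
      have := (Nat.Prime.dvd_iff_one_le_factorization hp Nat.card_pos.ne').mp hpH
      exact absurd hUc.symm (Nat.one_lt_pow (by omega) hp.one_lt).ne'
    obtain ⟨⟨x, hxU⟩, hx1'⟩ := U.ne_bot_iff_exists_ne_one.mp hne
    have hx1 : x ≠ 1 := fun e => hx1' (Subtype.ext e)
    have hNU : Subgroup.normalizer (U : Set G) ≤ N := fun g hg =>
      hTI' g x (Subgroup.map_subtype_le _ hxU) (Subgroup.map_subtype_le _ (((Subgroup.mem_normalizer_iff.mp hg) x).mp hxU)) hx1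
    have h2 := h1.trans (Subgroup.card_dvd_of_le hNU)
    rw [← Subgroup.card_mul_index (H.subgroupOf N), Nat.card_congr (Subgroup.subgroupOfEquivOfLe hHN).toEquiv] at h2
    have h3 : (p ^ ((Nat.card H).factorization p + 1)).Coprime (H.subgroupOf N).index :=
      Nat.Coprime.pow_left _ (hHall.coprime_dvd_left hpH)
    have h4 := (hp.pow_dvd_iff_le_factorization Nat.card_pos.ne').mp (h3.dvd_of_dvd_mul_right h2)
    omega
  have hπH : PiNat π (Nat.card H) := fun q _ hq => hq
  have hπ' : ∀ n : ℕ, PiNat πᶜ n → (Nat.card H).Coprime n := fun n hn => hπH.coprime hn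
  have hcopπ : ∀ n : ℕ, (Nat.card H).Coprime n → PiNat πᶜ n := by
    intro n hn q hq hqn hqH
    exact hq.one_lt.ne' (Nat.eq_one_of_dvd_coprimes hn hqH hqn)
  -- `O_π(G) = 1`
  have hOpi : ∀ M : Subgroup G, M.Normal → PiNat π (Nat.card M) → M = ⊥ := by
    intro M hM hMπ
    haveI := hM
    have hle : M ≤ H := by
      have h1 : PiNat π (Nat.card ↥(H ⊔ M)) := HallCore.piNat_card_sup hπH hMπ
      have h2 : H.relIndex (H ⊔ M) ∣ H.index :=
        ⟨(H ⊔ M).index, (Subgroup.relIndex_mul_index le_sup_left).symm⟩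
      have h3 : H.relIndex (H ⊔ M) = 1 := by
        refine Nat.eq_one_of_dvd_coprimes (k := H.relIndex (H ⊔ M)) (h1.coprime (hcopπ _ hHallG)) ?_ h2
        exact Subgroup.relIndex_dvd_card _ _
      rw [Subgroup.relIndex_eq_one] at h3
      exact le_sup_right.trans h3
    rw [eq_bot_iff]
    intro x hx
    exact Subgroup.mem_bot.mpr (hTI g₀ hg₀ x (hle hx) (hle (hM.conj_mem x hx g₀)))
  set K := Cfsg.piCore πᶜ G with hK
  have hKπ : PiNat πᶜ (Nat.card K) := HallCore.piNat_card_piCore _ _
  have hKH : (Nat.card H).Coprime (Nat.card K) := hπ' _ hKπ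
  have hKtop : (Subgroup.normalizer (K : Set G)) = ⊤ := Subgroup.normalizer_eq_top_iff.mpr inferInstance
  -- a normal subgroup above `K` with `π`-index
  obtain ⟨n, M, hM0, hMn, hMmono, hMnor, hMfac⟩ := hsep
  have hKne : K ≠ ⊤ := by
    intro h
    rw [h, Subgroup.card_top] at hKH
    have h1 : Nat.card H = 1 := Nat.eq_one_of_dvd_coprimes hKH dvd_rfl (Subgroup.card_subgroup_dvd_card H)
    rw [Subgroup.card_eq_one] at h1
    subst h1
    exact hnn inferInstance
  obtain ⟨L, hLn, hKL, hLπ⟩ : ∃ L : Subgroup G, L.Normal ∧ K < L ∧ PiNat π (K.relIndex L) := by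
    have hex : ∃ i : Fin (n + 1), ¬ M i ≤ K := ⟨Fin.last n, by rw [hMn, top_le_iff]; exact hKne⟩
    obtain ⟨i, hi, hmin⟩ : ∃ i : Fin (n + 1), ¬ M i ≤ K ∧ ∀ j < i, M j ≤ K := by
      obtain ⟨i, hi, hmin⟩ := (Finset.univ.filter (fun i : Fin (n + 1) => ¬ M i ≤ K)).exists_minimal
        (hex.elim fun i hi => ⟨i, by simp [hi]⟩)
      simp only [Finset.mem_filter, Finset.mem_univ, true_and] at hi hmin
      exact ⟨i, hi, fun j hj => by_contra fun h => absurd (hmin h hj.le) (not_le.mpr hj)⟩
    cases i using Fin.cases with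
    | zero => exact absurd (by rw [hM0]; exact bot_le) hi
    | succ i =>
      haveI := hMnor i.succ
      haveI := hMnor i.castSucc
      have hle : M i.castSucc ≤ K := hmin _ Fin.castSucc_lt_succ
      rcases hMfac i with h | h
      · refine ⟨K ⊔ M i.succ, inferInstance, lt_of_le_of_ne le_sup_left (fun e => hi (e ▸ le_sup_right)), ?_⟩
        have hd : K.relIndex (K ⊔ M i.succ) ∣ (M i.castSucc).relIndex (M i.succ) := by
          rw [Subgroup.relIndex_sup_left]
          exact Subgroup.relIndex_dvd_of_le_left _ hle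
        intro q hq hqd
        exact h q hq (hqd.trans hd)
      · exfalso
        apply hi
        refine HallCore.le_piCore ?_
        rw [← HallCore.card_mul_relIndex (hMmono (Fin.castSucc_le_succ i))]
        exact ((hKπ.of_dvd (Subgroup.card_dvd_of_le hle)).mul (hcopπ _ h.symm))
  haveI := hLn
  -- `H ⊓ L` complements `K` in `L`
  set HL := H ⊓ L with hHLdef
  have hidxK : K.relIndex L ∣ Nat.card HL := by
    have h1 : Nat.card HL * HL.relIndex L = Nat.card L := HallCore.card_mul_relIndex inf_le_right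
    have h2 : HL.relIndex L ∣ H.index := by
      have e1 : Nat.card ↥(L ⊔ H) = Nat.card L * L.relIndex H := by
        rw [← HallCore.card_mul_relIndex (le_sup_left : L ≤ L ⊔ H), Subgroup.relIndex_sup_left]
      have e2 : Nat.card H = Nat.card HL * L.relIndex H := by
        rw [← Subgroup.inf_relIndex_left (H := H) (K := L), ← HallCore.card_mul_relIndex (inf_le_left : H ⊓ L ≤ H)]
      have e3 : HL.relIndex L * Nat.card H = Nat.card ↥(L ⊔ H) := by rw [e1, ← h1, e2]; ring
      refine Nat.dvd_of_mul_dvd_mul_right (k := Nat.card H) Nat.card_pos ?_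
      rw [H.index_mul_card, e3]
      exact Subgroup.card_subgroup_dvd_card _
    have h3 : K.relIndex L ∣ Nat.card HL * HL.relIndex L := by rw [h1]; exact Subgroup.relIndex_dvd_card _ _
    exact (hLπ.coprime (hcopπ _ ((hHallG.coprime_dvd_right h2)))).dvd_of_dvd_mul_right h3
  have hHLne : HL ≠ ⊥ := by
    intro h
    rw [h, Subgroup.card_bot, Nat.dvd_one, Subgroup.relIndex_eq_one] at hidxK
    exact hKL.not_ge hidxK
  have hdisjK : ∀ x ∈ K, x ∈ H → x = 1 := fun x h1 h2 =>
    Subgroup.mem_bot.mp ((Subgroup.inf_eq_bot_of_coprime hKH) ▸ Subgroup.mem_inf.mpr ⟨h2, h1⟩)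
  have hLeq : L = K ⊔ HL := by
    refine (Subgroup.eq_of_le_of_card_ge (sup_le hKL.le inf_le_right) ?_).symm
    have hd : Disjoint K HL := Subgroup.disjoint_def.mpr fun {x} h1 h2 => hdisjK x h1 h2.1
    have h1 : Nat.card ↥(K ⊔ HL) = Nat.card K * Nat.card HL := by
      exact card_sup_of_disjoint K HL (by rw [Subgroup.normalizer_eq_top_iff.mpr (inferInstance : K.Normal)]; exact le_top)
        (fun x a b => hdisjK x a b.1)
    rw [h1, ← HallCore.card_mul_relIndex hKL.le]
    exact Nat.mul_le_mul_left _ (Nat.le_of_dvd Nat.card_pos hidxK)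
  -- `K` is not contained in `N`
  have hKnotN : ¬ K ≤ N := by
    intro hKN
    have hcomm : ∀ k ∈ K, ∀ h ∈ H, k * h = h * k := by
      intro k hk h hh
      have e1 : k * h * k⁻¹ * h⁻¹ ∈ H := mul_mem (((Subgroup.mem_normalizer_iff.mp (hKN hk)) h).mp hh) (inv_mem hh)
      have e2 : k * h * k⁻¹ * h⁻¹ ∈ K := by
        rw [show k * h * k⁻¹ * h⁻¹ = k * (h * k⁻¹ * h⁻¹) by group]
        exact mul_mem hk ((inferInstance : K.Normal).conj_mem _ (inv_mem hk) h)
      have e3 := hdisjK _ e2 e1
      rwa [← commutatorElement_def, commutatorElement_eq_one_iff_mul_comm] at e3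
    have hHLn : HL.Normal := by
      refine ⟨fun x hx g => ?_⟩
      have hy : g * x * g⁻¹ ∈ L := hLn.conj_mem x hx.2 g
      obtain ⟨k, hk, h, hh, e⟩ : g * x * g⁻¹ ∈ (K : Set G) * (HL : Set G) := by rw [← Subgroup.normal_mul, ← hLeq]; exact hy
      simp only at e
      have hc : Commute k h := hcomm k hk h hh.1
      set m := Nat.card H
      have e2 : (g * x * g⁻¹) ^ m = 1 := by
        rw [conj_pow]
        have : x ^ m = 1 := orderOf_dvd_iff_pow_eq_one.mp (Subgroup.orderOf_dvd_natCard H hx.1)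
        simp [this]
      have e3 : k ^ m = 1 := by
        rw [← e, hc.mul_pow] at e2
        have : h ^ m = 1 := orderOf_dvd_iff_pow_eq_one.mp (Subgroup.orderOf_dvd_natCard H hh.1)
        rwa [this, mul_one] at e2
      have : orderOf k = 1 := Nat.eq_one_of_dvd_coprimes hKH (orderOf_dvd_of_pow_eq_one e3) (Subgroup.orderOf_dvd_natCard K hk)
      rw [← e, orderOf_eq_one_iff.mp this, one_mul]
      exact hh
    exact hHLne (hOpi HL hHLn (hπH.of_dvd (Subgroup.card_dvd_of_le inf_le_left)))
  have hnoncyc : ∀ A : Subgroup G, A ≤ H → IsMulCommutative A → IsCyclic A := by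
    intro A hA hAc
    haveI := hAc
    by_contra hcyc
    refine hKnotN (CoprimeGen.le_of_centralizers hcyc (by rw [hKtop]; exact le_top)
      (hKH.coprime_dvd_left (Subgroup.card_dvd_of_le hA)) ?_)
    intro a ha ha1 c hc
    refine hTI' c a (hA ha) ?_ ha1
    rw [← (Subgroup.mem_centralizer_iff.mp hc.2 a rfl), mul_inv_cancel_right]
    exact hA ha
  haveI hZ : IsZGroup H := by
    refine ⟨fun p hp P => ?_⟩
    haveI := Fact.mk hp
    by_contra hcyc
    obtain ⟨A, hA1, hA2⟩ : ∃ A : Subgroup (P : Subgroup H), IsMulCommutative A ∧ ¬ IsCyclic A := by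
      by_cases hp2 : p = 2
      · subst hp2
        haveI := h2 P
        refine ⟨⊤, inferInstance, fun h => hcyc ?_⟩
        exact isCyclic_of_surjective (Subgroup.topEquiv (G := (P : Subgroup H))) Subgroup.topEquiv.surjective
      · obtain ⟨E, -, hE, hEe⟩ := PGroupsCyclic.exists_normal_elementary_sq P.2 hp2 hcyc
        refine ⟨E, hEe.1, fun h => ?_⟩
        obtain ⟨e, he⟩ := h.exists_ofOrder_eq_natCard
        rw [hE] at he
        have h1 : orderOf e ∣ p := orderOf_dvd_of_pow_eq_one (Subtype.ext (hEe.2 e e.2))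
        rw [he] at h1
        have := Nat.le_of_dvd hp.pos h1
        have := hp.two_le
        nlinarith
    haveI := hA1
    have hc := hnoncyc ((A.map (P : Subgroup H).subtype).map H.subtype) (Subgroup.map_subtype_le _) inferInstance
    refine hA2 ?_
    exact isCyclic_of_injective (((Subgroup.equivMapOfInjective (A.map (P : Subgroup H).subtype) H.subtype H.subtype_injective).toMonoidHom.comp
      (Subgroup.equivMapOfInjective A (P : Subgroup H).subtype (Subgroup.subtype_injective _)).toMonoidHom))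
      (by rw [MonoidHom.coe_comp]; exact (MulEquiv.injective _).comp (MulEquiv.injective _))
  have hsolvH : Group.IsSolvable H := inferInstance
  -- `G = K N`
  have hGKN : K ⊔ N = ⊤ := by
    rw [eq_top_iff]
    intro g _
    have hnH : HL ≤ Subgroup.normalizer (K : Set G) := by rw [hKtop]; exact le_top
    have hsolv : Group.IsSolvable HL :=
      Group.isSolvable_of_isSolvable_injective (f := Subgroup.inclusion (inf_le_left : HL ≤ H)) (Subgroup.inclusion_injective _)
    obtain ⟨k, hk, hkeq⟩ := CoprimeSZ.exists_conj_of_card_eq (N := K) (A := HL) (B := MulAut.conj g • HL) hnH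
      (hKH.coprime_dvd_left (Subgroup.card_dvd_of_le inf_le_left)) (Or.inl hsolv)
      (by
        intro x hx
        rw [CoprimeSZ.mem_conj_smul] at hx
        rw [← hLeq]
        have := hLn.conj_mem _ hx.2 g
        simpa [mul_assoc] using this)
      (CoprimeSZ.card_conj_smul g HL)
    obtain ⟨⟨x, hx⟩, hx1'⟩ := HL.ne_bot_iff_exists_ne_one.mp hHLne
    have hx1 : x ≠ 1 := fun e => hx1' (Subtype.ext e)
    have h1 : k⁻¹ * g ∈ N := by
      refine hTI' _ x hx.1 ?_ hx1
      have h2 : g * x * g⁻¹ ∈ MulAut.conj k • HL := by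
        rw [hkeq]; exact CoprimeSZ.conj_mul_mem_conj_smul hx
      rw [CoprimeSZ.mem_conj_smul] at h2
      have h3 := h2.1
      simpa [mul_assoc] using h3
    have : g = k * (k⁻¹ * g) := by group
    rw [this]
    exact mul_mem (Subgroup.mem_sup_left hk) (Subgroup.mem_sup_right h1)
  -- the action of `Q` on `H`
  have hQcard : (Nat.card Q).Coprime (Nat.card H) := by
    have h1 : Nat.card Q * Nat.card H = Nat.card N := by
      rw [← hQH', sup_comm, card_sup_of_disjoint H Q hQ (fun x a b => Subgroup.mem_bot.mp (hQH ▸ Subgroup.mem_inf.mpr ⟨b, a⟩)), mul_comm]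
    have h2 : Nat.card Q = (H.subgroupOf N).index := by
      have := (H.subgroupOf N).index_mul_card
      rw [Nat.card_congr (Subgroup.subgroupOfEquivOfLe hHN).toEquiv, ← h1] at this
      exact (Nat.eq_of_mul_eq_mul_right Nat.card_pos this).symm
    rw [h2]; exact hHall.symm
  set C := H ⊓ Subgroup.centralizer (Q : Set G) with hC
  set D := ⁅H, Q⁆ with hD
  have hDH : D ≤ H := CoprimeAction.commutator_le_self_of_le_normalizer hQ
  have hgen : D ⊔ C = H := CoprimeAction.commutator_sup_centralizer_eq hQ hQcard (Or.inr hsolvH)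
  have hcopDC : (Nat.card C).Coprime (Nat.card D) := by
    apply Nat.coprime_of_dvd
    intro p hp hpC hpD
    haveI := Fact.mk hp
    obtain ⟨x, hx⟩ := exists_prime_orderOf_dvd_card' p hpC
    have hxC : (x : G) ∈ C := x.2
    have hxp : IsPGroup p (Subgroup.zpowers (x : G)) :=
      IsPGroup.of_card (n := 1) (by rw [Nat.card_zpowers, Subgroup.orderOf_coe, hx, pow_one])
    have hQx : Q ≤ Subgroup.normalizer ((Subgroup.zpowers (x : G)) : Set G) := by
      refine le_trans ?_ (Subgroup.centralizer_le_normalizer _)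
      intro q hq
      rw [Subgroup.mem_centralizer_iff]
      rintro y ⟨i, rfl⟩
      exact ((show Commute q (x : G) from Subgroup.mem_centralizer_iff.mp hxC.2 q hq).zpow_right i).eq.symm
    obtain ⟨P, hxP, hQP⟩ := CoprimeAction.exists_invariant_sylow_ge (p := p) hQ hQcard (Or.inr hsolvH)
      (Subgroup.zpowers_le.mpr hxC.1) hxp hQx
    set V := (P : Subgroup H).map H.subtype with hV
    haveI hVcyc : IsCyclic V :=
      isCyclic_of_surjective _ (Subgroup.equivMapOfInjective (P : Subgroup H) H.subtype H.subtype_injective).surjective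
    haveI hVc : IsMulCommutative V := inferInstance
    have hVH : V ≤ H := Subgroup.map_subtype_le _
    have hVcop : (Nat.card Q).Coprime (Nat.card V) := hQcard.coprime_dvd_right (Subgroup.card_dvd_of_le hVH)
    -- `Q` centralises `V`
    have hVQ : ⁅V, Q⁆ = ⊥ := by
      by_contra hne
      have hfit := CoprimeAction.inf_centralizer_inf_commutator_eq_bot (V := V) (A := Q) hQP hVcop
      have hpc : p ∣ Nat.card ↥⁅V, Q⁆ := by
        have h1 : Nat.card ↥⁅V, Q⁆ ∣ p ^ (Nat.card H).factorization p := by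
          rw [← CoprimeAction.card_map_sylow P]
          exact Subgroup.card_dvd_of_le (CoprimeAction.commutator_le_self_of_le_normalizer hQP)
        obtain ⟨i, -, hi⟩ := (Nat.dvd_prime_pow hp).mp h1
        rcases Nat.eq_zero_or_pos i with rfl | hi0
        · exact absurd (Subgroup.card_eq_one.mp (by simpa using hi)) hne
        · rw [hi]; exact dvd_pow_self p hi0.ne'
      obtain ⟨y, hy⟩ := exists_prime_orderOf_dvd_card' p hpc
      have heq : Subgroup.zpowers (y : G) = Subgroup.zpowers (x : G) :=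
        PGroupsCyclic.eq_of_card_eq_of_isCyclic hVcyc
          (Subgroup.zpowers_le.mpr (CoprimeAction.commutator_le_self_of_le_normalizer hQP y.2)) hxP
          (by rw [Nat.card_zpowers, Nat.card_zpowers, Subgroup.orderOf_coe, Subgroup.orderOf_coe, hy, hx])
      have hxV : (x : G) ∈ (V ⊓ Subgroup.centralizer (Q : Set G)) ⊓ ⁅V, Q⁆ :=
        ⟨⟨hxP (Subgroup.mem_zpowers _), hxC.2⟩,
          Subgroup.zpowers_le.mpr y.2 (heq ▸ Subgroup.mem_zpowers (x : G))⟩
      rw [hfit, Subgroup.mem_bot] at hxV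
      rw [← Subgroup.orderOf_coe, hxV, orderOf_one] at hx
      exact hp.one_lt.ne hx
    have hQV : ∀ v ∈ V, ∀ q ∈ Q, q * v = v * q := fun v hv q hq =>
      ((Subgroup.mem_centralizer_iff.mp ((Subgroup.commutator_eq_bot_iff_le_centralizer.mp hVQ) hv)) q hq)
    rcases Sylow.normalizer_le_centralizer_or_le_commutator P with hburn | hcm
    · exact not_dvd_card_commutator H Q hQ P hburn (fun y hy q hq => hQV _ ⟨y, hy, rfl⟩ q hq) hpD
    -- `P` is normal in `H`
    haveI hPn : (P : Subgroup H).Normal := by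
      refine ⟨fun y hy g => ?_⟩
      have hle : (P : Subgroup H).map (MulAut.conj g).toMonoidHom ≤ commutator H := by
        rintro _ ⟨z, hz, rfl⟩
        exact (inferInstance : (commutator H).Normal).conj_mem z (hcm hz) g
      rw [← PGroupsCyclic.eq_of_card_eq_of_isCyclic (IsZGroup.isCyclic_commutator H) hle hcm
        (Subgroup.card_map_of_injective (MulEquiv.injective _))]
      exact ⟨y, hy, rfl⟩
    set E := H ⊓ Subgroup.centralizer (V : Set G) with hE
    have hVN : ∀ h ∈ H, ∀ v ∈ V, h * v * h⁻¹ ∈ V := by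
      rintro h hh _ ⟨z, hz, rfl⟩
      exact ⟨⟨h, hh⟩ * z * ⟨h, hh⟩⁻¹, hPn.conj_mem z hz _, rfl⟩
    have hQE : Q ≤ Subgroup.normalizer (E : Set G) := by
      refine CoprimeAction.le_normalizer_inf hQ ?_
      refine CoprimeAction.le_normalizer_of_conj_mem fun q hq b hb => ?_
      rw [Subgroup.mem_centralizer_iff] at hb ⊢
      intro v hv
      have hvq : q⁻¹ * v * q = v := by rw [mul_assoc, ← hQV v hv q hq, inv_mul_cancel_left]
      calc v * (q * b * q⁻¹) = q * ((q⁻¹ * v * q) * b) * q⁻¹ := by group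
        _ = q * (b * (q⁻¹ * v * q)) * q⁻¹ := by rw [hvq, hb v hv]
        _ = q * b * q⁻¹ * v := by group
    have hVE : V ≤ E := le_inf hVH (fun v hv => Subgroup.mem_centralizer_iff.mpr fun w hw => setLike_mul_comm hw hv)
    obtain ⟨P', hP'⟩ := CoprimeAction.exists_sylow_map_eq (p := p) hVE (by
      rw [CoprimeAction.card_map_sylow P]
      congr 1
      refine le_antisymm ?_ ((Nat.factorization_le_iff_dvd Nat.card_pos.ne' Nat.card_pos.ne').mpr (Subgroup.card_dvd_of_le inf_le_left) p)
      have h1 : p ^ (Nat.card H).factorization p ∣ Nat.card E := by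
        rw [← CoprimeAction.card_map_sylow P]; exact Subgroup.card_dvd_of_le hVE
      exact (hp.pow_dvd_iff_le_factorization Nat.card_pos.ne').mp h1)
    have hmem' : ∀ y ∈ (P' : Subgroup E), (y : G) ∈ V := fun y hy => by rw [← hP']; exact ⟨y, hy, rfl⟩
    refine not_dvd_card_commutator E Q hQE P' ?_ (fun y hy q hq => hQV _ (hmem' y hy) q hq) ?_
    · intro e _
      rw [Subgroup.mem_centralizer_iff]
      intro y hy
      exact Subtype.ext (Subgroup.mem_centralizer_iff.mp e.2.2 y (hmem' y hy))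
    · have hDE : D ≤ E := by
        refine le_inf hDH ?_
        rw [← Subgroup.commutator_eq_bot_iff_le_centralizer]
        refine Subgroup.commutator_commutator_eq_bot_of_rotate ?_ ?_
        · rw [Subgroup.commutator_comm Q V, hVQ, Subgroup.commutator_bot_left]
        · rw [eq_bot_iff, ← hVQ]
          refine Subgroup.commutator_mono ?_ le_rfl
          rw [Subgroup.commutator_le]
          intro v hv h hh
          have e : ⁅v, h⁆ = v * (h * v⁻¹ * h⁻¹) := by rw [commutatorElement_def]; group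
          rw [e]
          exact mul_mem hv (hVN h hh _ (inv_mem hv))
      refine hpD.trans (Subgroup.card_dvd_of_le ?_)
      conv_lhs => rw [hD, ← CoprimeAction.commutator_commutator_eq hQ hQcard (Or.inr hsolvH)]
      exact Subgroup.commutator_mono hDE le_rfl
  have hdisjDC : ∀ x ∈ D, x ∈ C → x = 1 := fun x h1 h2 =>
    Subgroup.mem_bot.mp ((Subgroup.inf_eq_bot_of_coprime hcopDC) ▸ Subgroup.mem_inf.mpr ⟨h2, h1⟩)
  have hCH : C ≤ H := inf_le_left
  have hDnH : C ≤ Subgroup.normalizer (D : Set G) := hCH.trans (Subgroup.normalizer_commutator_ge_left H Q)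
  have hrel : C.relIndex H = Nat.card D := by
    have h1 : Nat.card D * Nat.card C = Nat.card H := by
      rw [← card_sup_of_disjoint D C hDnH hdisjDC, hgen]
    have h2 := HallCore.card_mul_relIndex hCH
    rw [← h1, Nat.mul_comm (Nat.card D)] at h2
    exact Nat.eq_of_mul_eq_mul_left Nat.card_pos h2
  refine ⟨?_, ?_⟩
  · rw [← Subgroup.relIndex_mul_index hCH, hrel]
    exact Nat.Coprime.mul_right hcopDC (hHallG.coprime_dvd_left (Subgroup.card_dvd_of_le hCH))
  -- the normal complement
  set W := D ⊔ Q with hW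
  have hQnD : Q ≤ Subgroup.normalizer (D : Set G) := Subgroup.normalizer_commutator_ge_right H Q
  have hWmul : (W : Set G) = (D : Set G) * (Q : Set G) := Subgroup.coe_mul_of_right_le_normalizer_left D Q hQnD
  set N0 := K ⊔ W with hN0
  have hWN : W ≤ N := sup_le (hDH.trans hHN) hQ
  have hNnor : N ≤ Subgroup.normalizer (W : Set G) := by
    rw [← hQH', sup_le_iff]
    refine ⟨le_sup_right.trans Subgroup.le_normalizer, ?_⟩
    refine CoprimeAction.le_normalizer_of_conj_mem fun h hh b hb => ?_
    have hb' : b ∈ (D : Set G) * (Q : Set G) := hWmul ▸ hb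
    obtain ⟨d, hd, q, hq, rfl⟩ := hb'
    simp only
    have e : h * (d * q) * h⁻¹ = (h * d * h⁻¹) * ⁅h, q⁆ * q := by rw [commutatorElement_def]; group
    rw [e]
    refine mul_mem (Subgroup.mem_sup_left (mul_mem ?_ (Subgroup.commutator_mem_commutator hh hq))) (Subgroup.mem_sup_right hq)
    exact CoprimeAction.conj_mem (Subgroup.normalizer_commutator_ge_left H Q hh) hd
  have hN0n : N0.Normal := by
    rw [← Subgroup.normalizer_eq_top_iff, ← top_le_iff, ← hGKN, sup_le_iff]
    refine ⟨le_sup_left.trans Subgroup.le_normalizer, ?_⟩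
    refine CoprimeAction.le_normalizer_of_conj_mem fun a ha b hb => ?_
    have hb' : b ∈ (K : Set G) * (W : Set G) := Subgroup.normal_mul K W ▸ hb
    obtain ⟨k, hk, w, hw, rfl⟩ := hb'
    simp only
    have e : a * (k * w) * a⁻¹ = (a * k * a⁻¹) * (a * w * a⁻¹) := by group
    rw [e]
    exact mul_mem (Subgroup.mem_sup_left ((inferInstance : K.Normal).conj_mem k hk a))
      (Subgroup.mem_sup_right (CoprimeAction.conj_mem (hNnor ha) hw))
  refine ⟨N0, hN0n, Subgroup.isComplement'_of_disjoint_and_mul_eq_univ ?_ ?_⟩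
  · rw [Subgroup.disjoint_def]
    intro x hx hxC
    have hx' : x ∈ (K : Set G) * (W : Set G) := Subgroup.normal_mul K W ▸ hx
    obtain ⟨k, hk, w, hw, hkw⟩ := hx'
    have hw' : w ∈ (D : Set G) * (Q : Set G) := hWmul ▸ hw
    obtain ⟨d, hd, q, hq, hdq⟩ := hw'
    simp only at hkw hdq
    have e : d⁻¹ * x = (d⁻¹ * k * d) * q := by rw [← hkw, ← hdq]; group
    have h1 : d⁻¹ * x ∈ K ⊔ Q := by
      rw [e]
      refine mul_mem (Subgroup.mem_sup_left ?_) (Subgroup.mem_sup_right hq)
      simpa using (inferInstance : K.Normal).conj_mem k hk d⁻¹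
    have h2 : d⁻¹ * x ∈ H := mul_mem (inv_mem (hDH hd)) (hCH hxC)
    have hcop : (Nat.card ↥(Q ⊔ K)).Coprime (Nat.card H) :=
      (HallCore.piNat_card_sup (hcopπ _ hQcard.symm) hKπ |> hπ' _).symm
    have h3 : d⁻¹ * x = 1 := Subgroup.mem_bot.mp ((Subgroup.inf_eq_bot_of_coprime hcop) ▸
      Subgroup.mem_inf.mpr ⟨by rwa [sup_comm], h2⟩)
    exact hdisjDC x ((inv_mul_eq_one.mp h3) ▸ hd) hxC
  · rw [← Subgroup.normal_mul, ← Subgroup.coe_top, SetLike.coe_set_eq]
    rw [eq_top_iff, ← hGKN, sup_le_iff, ← hQH', sup_le_iff, ← hgen, sup_le_iff]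
    refine ⟨le_sup_left.trans le_sup_left, le_sup_right.trans (le_sup_right.trans le_sup_left), ?_, le_sup_right⟩
    exact le_sup_left.trans (le_sup_right.trans le_sup_left)

end Cfsg.Agent.S4151
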