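import Mathlib
import Cfsg.Statements.S4152
-- import your own Cfsg.Agent.* helpers here

set_option autoImplicit false
open Cfsg

namespace Cfsg.Agent.S4152

variable {G : Type*} [Group G] [Finite G]

/-- Pairs (`π`-element of the coset `g M`, element of `M`) that commute. -/
noncomputable def pairsP (a : ℕ) (M : Subgroup G) (g : G) : ℕ :=
  Nat.card {q : G × G // g⁻¹ * q.1 ∈ M ∧ q.1 ^ a = 1 ∧ q.2 ∈ M ∧ Commute q.1 q.2}

/-- Pairs (`π`-element of `M`, element of the coset `g M`) that commute. -/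
noncomputable def pairsQ (a : ℕ) (M : Subgroup G) (g : G) : ℕ :=
  Nat.card {q : G × G // g⁻¹ * q.1 ∈ M ∧ q.2 ∈ M ∧ q.2 ^ a = 1 ∧ Commute q.1 q.2}

/-- Powers in a coset of a normalised subgroup. -/
theorem pow_coset {M : Subgroup G} {g x : G} (hg : g ∈ Subgroup.normalizer (M : Set G)) (hx : g⁻¹ * x ∈ M) :
    ∀ n : ℕ, (g ^ n)⁻¹ * x ^ n ∈ M := by
  intro n
  induction n with
  | zero => simp
  | succ n ih =>
    have h1 : g⁻¹ * ((g ^ n)⁻¹ * x ^ n) * g ∈ M := (Subgroup.mem_normalizer_iff''.mp hg _).mp ih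
    have h2 : (g ^ (n + 1))⁻¹ * x ^ (n + 1) = g⁻¹ * ((g ^ n)⁻¹ * x ^ n) * g * (g⁻¹ * x) := by
      rw [pow_succ, pow_succ]; group
    rw [h2]
    exact mul_mem h1 hx

/-- The two ways of counting agree. -/
theorem pairs_eq (a b e f : ℕ) (hee : ∀ x : G, x ^ e * x ^ f = x) (hea : ∀ x : G, (x ^ e) ^ a = 1)
    (hfb : ∀ x : G, (x ^ f) ^ b = 1) (hae : ∀ x : G, x ^ a = 1 → x ^ e = x) (hbe : ∀ x : G, x ^ b = 1 → x ^ e = 1) :
    ∀ (n : ℕ) (M : Subgroup G) (g : G), Nat.card M = n → g ∈ Subgroup.normalizer (M : Set G) → g ^ a = 1 →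
      pairsP a M g = pairsQ a M g := by
  classical
  intro n
  induction n using Nat.strong_induction_on with
  | _ n ih =>
  intro M g hn hg hga
  haveI := Fintype.ofFinite G
  have haf : ∀ x : G, x ^ a = 1 → x ^ f = 1 := fun x hx => by
    have h1 := hee x
    rw [hae x hx] at h1
    exact mul_left_cancel (h1.trans (mul_one x).symm)
  have hbf : ∀ x : G, x ^ b = 1 → x ^ f = x := fun x hx => by
    have h1 := hee x
    rwa [hbe x hx, one_mul] at h1
  have hfM : ∀ x, g⁻¹ * x ∈ M → x ^ f ∈ M ∧ g⁻¹ * x ^ e ∈ M := by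
    intro x hx
    have h1 : x ^ f ∈ M := by
      have := pow_coset hg hx f
      rwa [haf g hga, inv_one, one_mul] at this
    refine ⟨h1, ?_⟩
    have h2 : g⁻¹ * x ^ e = g⁻¹ * x * (x ^ f)⁻¹ := by rw [mul_assoc, eq_mul_inv_of_mul_eq (hee x)]
    rw [h2]
    exact mul_mem hx (inv_mem h1)
  let W := {w : G // w ∈ M ∧ w ^ b = 1}
  -- decomposition of the first coordinate
  have e1 : Nat.card {q : G × G // g⁻¹ * q.1 ∈ M ∧ q.2 ∈ M ∧ Commute q.1 q.2} =
      ∑ w : W, Nat.card {q : G × G // (g⁻¹ * q.1 ∈ M ∧ Commute q.1 w.1) ∧ q.1 ^ a = 1 ∧ (q.2 ∈ M ∧ Commute q.2 w.1) ∧ Commute q.1 q.2} := by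
    rw [← Nat.card_sigma]
    refine Nat.card_congr
      { toFun := fun q => ⟨⟨q.1.1 ^ f, (hfM _ q.2.1).1, hfb _⟩, ⟨(q.1.1 ^ e, q.1.2),
          ⟨(hfM _ q.2.1).2, ((Commute.refl q.1.1).pow_pow e f)⟩, hea _, ⟨q.2.2.1, (q.2.2.2.pow_left f).symm⟩,
          q.2.2.2.pow_left e⟩⟩
        invFun := fun s => ⟨(s.2.1.1 * s.1.1, s.2.1.2),
          by
            show g⁻¹ * (s.2.1.1 * s.1.1) ∈ M
            rw [← mul_assoc]; exact mul_mem s.2.2.1.1 s.1.2.1,
          s.2.2.2.2.1.1, s.2.2.2.2.2.mul_left s.2.2.2.2.1.2.symm⟩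
        left_inv := fun q => Subtype.ext (Prod.ext (hee _) rfl)
        right_inv := ?_ }
    rintro ⟨⟨w, hwM, hwb⟩, ⟨⟨y, m⟩, ⟨hy, hc⟩, hya, hm⟩⟩
    have h1 : (y * w) ^ f = w := by rw [hc.mul_pow, haf y hya, hbf w hwb, one_mul]
    have h2 : (y * w) ^ e = y := by rw [hc.mul_pow, hae y hya, hbe w hwb, mul_one]
    refine Sigma.subtype_ext (Subtype.ext h1) ?_
    exact Prod.ext h2 rfl
  -- decomposition of the second coordinate
  have e2 : Nat.card {q : G × G // g⁻¹ * q.1 ∈ M ∧ q.2 ∈ M ∧ Commute q.1 q.2} =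
      ∑ w : W, Nat.card {q : G × G // (g⁻¹ * q.1 ∈ M ∧ Commute q.1 w.1) ∧ (q.2 ∈ M ∧ Commute q.2 w.1) ∧ q.2 ^ a = 1 ∧ Commute q.1 q.2} := by
    rw [← Nat.card_sigma]
    refine Nat.card_congr
      { toFun := fun q => ⟨⟨q.1.2 ^ f, M.pow_mem q.2.2.1 f, hfb _⟩, ⟨(q.1.1, q.1.2 ^ e),
          ⟨q.2.1, q.2.2.2.pow_right f⟩, ⟨M.pow_mem q.2.2.1 e, (Commute.refl q.1.2).pow_pow e f⟩, hea _,
          q.2.2.2.pow_right e⟩⟩
        invFun := fun s => ⟨(s.2.1.1, s.2.1.2 * s.1.1), s.2.2.1.1, M.mul_mem s.2.2.2.1.1 s.1.2.1,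
          s.2.2.2.2.2.mul_right s.2.2.1.2⟩
        left_inv := fun q => Subtype.ext (Prod.ext rfl (hee _))
        right_inv := ?_ }
    rintro ⟨⟨w, hwM, hwb⟩, ⟨⟨x, z⟩, hx, ⟨hz, hc⟩, hza, hxz⟩⟩
    have h1 : (z * w) ^ f = w := by rw [hc.mul_pow, haf z hza, hbf w hwb, one_mul]
    have h2 : (z * w) ^ e = z := by rw [hc.mul_pow, hae z hza, hbe w hwb, mul_one]
    refine Sigma.subtype_ext (Subtype.ext h1) ?_
    exact Prod.ext rfl h2
  -- the summands agree apart from the central ones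
  have hterm : ∀ w : W, ∃ c : ℕ, (c ≤ 1 ∧ (w.1 = 1 → c = 1) ∧
      Nat.card {q : G × G // (g⁻¹ * q.1 ∈ M ∧ Commute q.1 w.1) ∧ q.1 ^ a = 1 ∧ (q.2 ∈ M ∧ Commute q.2 w.1) ∧ Commute q.1 q.2} + c * pairsQ a M g =
      Nat.card {q : G × G // (g⁻¹ * q.1 ∈ M ∧ Commute q.1 w.1) ∧ (q.2 ∈ M ∧ Commute q.2 w.1) ∧ q.2 ^ a = 1 ∧ Commute q.1 q.2} + c * pairsP a M g) := by
    rintro ⟨w, hwM, hwb⟩
    by_cases hcen : ∀ m ∈ M, Commute m w
    · by_cases hgw : Commute g w
      · refine ⟨1, le_rfl, fun _ => rfl, ?_⟩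
        rw [one_mul, one_mul, add_comm]
        congr 1
        · refine Nat.card_congr (Equiv.subtypeEquivRight fun q => ?_)
          exact ⟨fun ⟨h1, h2, h3, h4⟩ => ⟨⟨h1, by
              simpa using hgw.mul_left (hcen _ h1)⟩, ⟨h2, hcen _ h2⟩, h3, h4⟩,
            fun ⟨h1, h2, h3, h4⟩ => ⟨h1.1, h2.1, h3, h4⟩⟩
        · refine Nat.card_congr (Equiv.subtypeEquivRight fun q => ?_)
          exact ⟨fun ⟨h1, h2, h3, h4⟩ => ⟨h1.1, h2, h3.1, h4⟩,
            fun ⟨h1, h2, h3, h4⟩ => ⟨⟨h1, by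
              simpa using hgw.mul_left (hcen _ h1)⟩, h2, ⟨h3, hcen _ h3⟩, h4⟩⟩
      · have hno : ∀ x, g⁻¹ * x ∈ M → ¬ Commute x w := by
          intro x hx hc
          apply hgw
          have := hc.mul_left (hcen _ (inv_mem hx))
          simpa using this
        refine ⟨0, Nat.zero_le _, fun hw => absurd (by subst hw; exact Commute.one_right g) hgw, ?_⟩
        haveI : IsEmpty {q : G × G // (g⁻¹ * q.1 ∈ M ∧ Commute q.1 w) ∧ q.1 ^ a = 1 ∧ (q.2 ∈ M ∧ Commute q.2 w) ∧ Commute q.1 q.2} :=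
          ⟨fun q => hno _ q.2.1.1 q.2.1.2⟩
        haveI : IsEmpty {q : G × G // (g⁻¹ * q.1 ∈ M ∧ Commute q.1 w) ∧ (q.2 ∈ M ∧ Commute q.2 w) ∧ q.2 ^ a = 1 ∧ Commute q.1 q.2} :=
          ⟨fun q => hno _ q.2.1.1 q.2.1.2⟩
        rw [Nat.card_of_isEmpty, Nat.card_of_isEmpty, zero_mul, zero_mul]
    · refine ⟨0, Nat.zero_le _, fun hw => absurd (fun m _ => by subst hw; exact Commute.one_right m) hcen, ?_⟩
      rw [zero_mul, zero_mul, add_zero, add_zero]
      by_cases hne : ∃ x, g⁻¹ * x ∈ M ∧ Commute x w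
      · obtain ⟨x, hx, hxw⟩ := hne
        set y := x ^ e with hy
        have hyM : g⁻¹ * y ∈ M := (hfM x hx).2
        have hyw : Commute y w := hxw.pow_left e
        set D : Subgroup G := M ⊓ Subgroup.centralizer ({w} : Set G) with hD
        have hDmem : ∀ m, m ∈ D ↔ m ∈ M ∧ Commute m w := fun m => by
          rw [hD, Subgroup.mem_inf, Subgroup.mem_centralizer_singleton_iff]; rfl
        have hlt : Nat.card D < n := by
          rw [← hn]
          refine Set.Finite.card_lt_card (Set.toFinite _) (lt_of_le_of_ne inf_le_left fun h => hcen fun m hm => ?_)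
          exact ((hDmem m).mp (by rw [← SetLike.mem_coe, h]; exact hm)).2
        have hyN : y ∈ Subgroup.normalizer (M : Set G) := by
          have := mul_mem hg (Subgroup.le_normalizer hyM)
          rwa [mul_inv_cancel_left] at this
        have hyD : y ∈ Subgroup.normalizer (D : Set G) := by
          rw [Subgroup.mem_normalizer_iff]
          intro m
          rw [hDmem, hDmem]
          refine and_congr (Subgroup.mem_normalizer_iff.mp hyN m) ⟨fun hc => ?_, fun hc => ?_⟩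
          · exact (hyw.mul_left hc).mul_left hyw.inv_left
          · have := ((hyw.inv_left).mul_left hc).mul_left hyw
            simpa [mul_assoc] using this
        have key := ih _ hlt D y rfl hyD (hea x)
        have hcoset : ∀ u, (y⁻¹ * u ∈ D ↔ g⁻¹ * u ∈ M ∧ Commute u w) := by
          intro u
          rw [hDmem]
          constructor
          · rintro ⟨h1, h2⟩
            refine ⟨?_, ?_⟩
            · have := mul_mem hyM h1
              rwa [mul_assoc, mul_inv_cancel_left] at this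
            · simpa using hyw.mul_left h2
          · rintro ⟨h1, h2⟩
            refine ⟨?_, hyw.inv_left.mul_left h2⟩
            have := mul_mem (inv_mem hyM) h1
            rwa [mul_inv_rev, inv_inv, mul_assoc, mul_inv_cancel_left] at this
        refine Eq.trans ?_ (key.trans ?_)
        · refine Nat.card_congr (Equiv.subtypeEquivRight fun q => ?_)
          rw [hcoset, hDmem]
        · refine Nat.card_congr (Equiv.subtypeEquivRight fun q => ?_)
          rw [hcoset, hDmem]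
      · haveI : IsEmpty {q : G × G // (g⁻¹ * q.1 ∈ M ∧ Commute q.1 w) ∧ q.1 ^ a = 1 ∧ (q.2 ∈ M ∧ Commute q.2 w) ∧ Commute q.1 q.2} :=
          ⟨fun q => hne ⟨_, q.2.1⟩⟩
        haveI : IsEmpty {q : G × G // (g⁻¹ * q.1 ∈ M ∧ Commute q.1 w) ∧ (q.2 ∈ M ∧ Commute q.2 w) ∧ q.2 ^ a = 1 ∧ Commute q.1 q.2} :=
          ⟨fun q => hne ⟨_, q.2.1⟩⟩
        rw [Nat.card_of_isEmpty, Nat.card_of_isEmpty]
  choose c hc1 hc2 hc3 using hterm
  have hsum := Finset.sum_congr (rfl : (Finset.univ : Finset W) = Finset.univ) (fun w _ => hc3 w)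
  rw [Finset.sum_add_distrib, Finset.sum_add_distrib, ← e1, ← e2, ← Finset.sum_mul, ← Finset.sum_mul] at hsum
  have hpos : 0 < ∑ w : W, c w := by
    have h1 : c ⟨1, M.one_mem, one_pow b⟩ = 1 := hc2 _ rfl
    have h2 := Finset.single_le_sum (f := c) (fun _ _ => Nat.zero_le _) (Finset.mem_univ (⟨1, M.one_mem, one_pow b⟩ : W))
    omega
  exact (Nat.eq_of_mul_eq_mul_left hpos (Nat.add_left_cancel hsum)).symm

/-- Commuting pairs with first coordinate in a conjugation-invariant set count the classes. -/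
theorem card_pairs {H : Type*} [Group H] [Finite H] (S : H → Prop) (hS : ∀ g x, S x → S (g * x * g⁻¹)) :
    Nat.card {q : H × H // S q.1 ∧ Commute q.1 q.2} =
      Nat.card H * Nat.card {c : ConjClasses H // ∀ x, ConjClasses.mk x = c → S x} := by
  classical
  haveI := Fintype.ofFinite H
  have hclass : ∀ x, S x → ∀ y, ConjClasses.mk y = ConjClasses.mk x → S y := by
    intro x hx y hy
    obtain ⟨g, rfl⟩ := isConj_iff.mp (ConjClasses.mk_eq_mk_iff_isConj.mp hy.symm)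
    exact hS g x hx
  -- fibre over a class
  have hfib : ∀ c : {c : ConjClasses H // ∀ x, ConjClasses.mk x = c → S x},
      Nat.card {q : H × H // ConjClasses.mk q.1 = c.1 ∧ Commute q.1 q.2} = Nat.card H := by
    rintro ⟨c, hc⟩
    obtain ⟨x0, rfl⟩ := ConjClasses.mk_surjective c
    have hex : ∀ x, ConjClasses.mk x = ConjClasses.mk x0 → ∃ g : H, g * x0 * g⁻¹ = x := fun x hx =>
      isConj_iff.mp (ConjClasses.mk_eq_mk_iff_isConj.mp hx.symm)
    choose g hg using hex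
    refine (Nat.card_congr (show H ≃ {q : H × H // ConjClasses.mk q.1 = ConjClasses.mk x0 ∧ Commute q.1 q.2} from
      { toFun := fun h => ⟨(h * x0 * h⁻¹, h * (g (h * x0 * h⁻¹) (ConjClasses.mk_eq_mk_iff_isConj.mpr
            (isConj_iff.mpr ⟨h⁻¹, by group⟩)))⁻¹),
          ConjClasses.mk_eq_mk_iff_isConj.mpr (isConj_iff.mpr ⟨h⁻¹, by group⟩), ?_⟩
        invFun := fun q => q.1.2 * g q.1.1 q.2.1
        left_inv := fun h => inv_mul_cancel_right _ _
        right_inv := ?_ })).symm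
    · set k := g (h * x0 * h⁻¹) (ConjClasses.mk_eq_mk_iff_isConj.mpr (isConj_iff.mpr ⟨h⁻¹, by group⟩)) with hk
      have h1 : k * x0 * k⁻¹ = h * x0 * h⁻¹ := hg _ _
      show (h * x0 * h⁻¹) * (h * k⁻¹) = h * k⁻¹ * (h * x0 * h⁻¹)
      calc (h * x0 * h⁻¹) * (h * k⁻¹) = h * x0 * k⁻¹ := by group
        _ = h * k⁻¹ * (k * x0 * k⁻¹) := by group
        _ = _ := by rw [h1]
    · rintro ⟨⟨x, u⟩, hx, hu⟩
      have h1 : u * g x hx * x0 * (u * g x hx)⁻¹ = x := by
        calc u * g x hx * x0 * (u * g x hx)⁻¹ = u * (g x hx * x0 * (g x hx)⁻¹) * u⁻¹ := by group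
          _ = x := by rw [hg x hx]; exact mul_inv_eq_iff_eq_mul.mpr hu.eq.symm
      refine Subtype.ext (Prod.ext h1 ?_)
      show u * g x hx * (g _ _)⁻¹ = u
      simp only [h1, mul_inv_cancel_right]
  calc Nat.card {q : H × H // S q.1 ∧ Commute q.1 q.2}
      = Nat.card (Σ c : {c : ConjClasses H // ∀ x, ConjClasses.mk x = c → S x},
          {q : H × H // ConjClasses.mk q.1 = c.1 ∧ Commute q.1 q.2}) := Nat.card_congr
        { toFun := fun q => ⟨⟨ConjClasses.mk q.1.1, hclass _ q.2.1⟩, ⟨q.1, rfl, q.2.2⟩⟩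
          invFun := fun s => ⟨s.2.1, s.1.2 _ s.2.2.1, s.2.2.2⟩
          left_inv := fun q => rfl
          right_inv := fun ⟨⟨c, hc⟩, ⟨q, hq, hq'⟩⟩ => Sigma.subtype_ext (Subtype.ext hq) rfl }
    _ = _ := by rw [Nat.card_sigma, Finset.sum_congr rfl (fun c _ => hfib c), Finset.sum_const, Finset.card_univ,
          smul_eq_mul, Nat.card_eq_fintype_card (α := {c : ConjClasses H // ∀ x, ConjClasses.mk x = c → S x}), mul_comm]

/-- Let G be a finite group, N a normal subgroup and π a set of primes. Then the number of conjugacy classes of π-elements of G (elements whose order is divisible only by primes in π) is at most the number of conjugacy classes of π-elements of N (under conjugation by N) times the number of conjugacy classes of π-elements of G/N. -/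
theorem result {G : Type*} [Group G] [Finite G] (N : Subgroup G) [N.Normal] (π : Set ℕ) :
    Nat.card {C : ConjClasses G // ∀ q : ℕ, q.Prime → (∃ g : G, ConjClasses.mk g = C ∧ q ∣ orderOf g) → q ∈ π} ≤ Nat.card {C : ConjClasses N // ∀ q : ℕ, q.Prime → (∃ g : N, ConjClasses.mk g = C ∧ q ∣ orderOf g) → q ∈ π} * Nat.card {C : ConjClasses (G ⧸ N) // ∀ q : ℕ, q.Prime → (∃ g : (G ⧸ N), ConjClasses.mk g = C ∧ q ∣ orderOf g) → q ∈ π} := by
  classical
  -- the `π`-part and the `π'`-part of the order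
  set s := (Nat.card G).primeFactors with hs
  set a := (s.filter (· ∈ π)).prod (fun r => r ^ (Nat.card G).factorization r) with ha
  set b := (s.filter (· ∉ π)).prod (fun r => r ^ (Nat.card G).factorization r) with hb
  have hab : a * b = Nat.card G := by
    rw [ha, hb, hs, Finset.prod_filter_mul_prod_filter_not]
    exact (Nat.prod_factorization_pow_eq_self Nat.card_pos.ne')
  have haprime : ∀ q, q.Prime → q ∣ a → q ∈ π := by
    intro q hq hd
    rw [ha] at hd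
    obtain ⟨r, hr, hrd⟩ := (Nat.Prime.prime hq).exists_mem_finset_dvd hd
    rw [Finset.mem_filter] at hr
    rw [(Nat.prime_dvd_prime_iff_eq hq (Nat.prime_of_mem_primeFactors hr.1)).mp (hq.dvd_of_dvd_pow hrd)]
    exact hr.2
  have hbprime : ∀ q, q.Prime → q ∣ b → q ∉ π := by
    intro q hq hd
    rw [hb] at hd
    obtain ⟨r, hr, hrd⟩ := (Nat.Prime.prime hq).exists_mem_finset_dvd hd
    rw [Finset.mem_filter] at hr
    rw [(Nat.prime_dvd_prime_iff_eq hq (Nat.prime_of_mem_primeFactors hr.1)).mp (hq.dvd_of_dvd_pow hrd)]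
    exact hr.2
  have hcop : a.Coprime b := Nat.coprime_of_dvd fun q hq h1 h2 => hbprime q hq h2 (haprime q hq h1)
  obtain ⟨e, he1, he2⟩ := Nat.chineseRemainder hcop 1 0
  obtain ⟨f, hf1, hf2⟩ := Nat.chineseRemainder hcop 0 1
  have hpow : ∀ x : G, x ^ (a * b) = 1 := fun x => by rw [hab]; exact pow_card_eq_one'
  have hea : ∀ x : G, (x ^ e) ^ a = 1 := fun x => by
    obtain ⟨c, hc⟩ := Nat.modEq_zero_iff_dvd.mp he2
    rw [← pow_mul, hc, show b * c * a = a * b * c by ring, pow_mul, hpow, one_pow]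
  have hfb : ∀ x : G, (x ^ f) ^ b = 1 := fun x => by
    obtain ⟨c, hc⟩ := Nat.modEq_zero_iff_dvd.mp hf1
    rw [← pow_mul, hc, show a * c * b = a * b * c by ring, pow_mul, hpow, one_pow]
  have hee : ∀ x : G, x ^ e * x ^ f = x := fun x => by
    have h1 : e + f ≡ 1 [MOD a * b] :=
      (Nat.modEq_and_modEq_iff_modEq_mul hcop).mp ⟨by simpa using he1.add hf1, by simpa using he2.add hf2⟩
    rw [← pow_add]
    nth_rewrite 2 [← pow_one x]
    rw [pow_eq_pow_iff_modEq]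
    exact h1.of_dvd (orderOf_dvd_of_pow_eq_one (hpow x))
  have hae : ∀ x : G, x ^ a = 1 → x ^ e = x := fun x hx => by
    nth_rewrite 2 [← pow_one x]
    rw [pow_eq_pow_iff_modEq]
    exact he1.of_dvd (orderOf_dvd_of_pow_eq_one hx)
  have hbe : ∀ x : G, x ^ b = 1 → x ^ e = 1 := fun x hx => by
    rw [← pow_zero x, pow_eq_pow_iff_modEq]
    exact he2.of_dvd (orderOf_dvd_of_pow_eq_one hx)
  -- `π`-elements
  have hpi : ∀ (o : ℕ), o ∣ a * b → ((∀ q : ℕ, q.Prime → q ∣ o → q ∈ π) ↔ o ∣ a) := fun o ho => by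
    refine ⟨fun h => ?_, fun h q hq hd => haprime q hq (hd.trans h)⟩
    exact (Nat.coprime_of_dvd fun q hq h1 h2 => hbprime q hq h2 (h q hq h1)).dvd_of_dvd_mul_right ho
  have hcount : ∀ (H : Type _) [Group H] [Finite H], (∀ x : H, x ^ (a * b) = 1) →
      Nat.card {C : ConjClasses H // ∀ q : ℕ, q.Prime → (∃ g : H, ConjClasses.mk g = C ∧ q ∣ orderOf g) → q ∈ π} =
        Nat.card {c : ConjClasses H // ∀ x, ConjClasses.mk x = c → x ^ a = 1} := by
    intro H _ _ hH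
    refine Nat.card_congr (Equiv.subtypeEquivRight fun c => ⟨fun h x hx => ?_, fun h q hq ⟨x, hx, hd⟩ => ?_⟩)
    · exact orderOf_dvd_iff_pow_eq_one.mp ((hpi _ (orderOf_dvd_of_pow_eq_one (hH x))).mp fun q hq hd => h q hq ⟨x, hx, hd⟩)
    · exact (hpi _ (orderOf_dvd_of_pow_eq_one (hH x))).mpr (orderOf_dvd_of_pow_eq_one (h x hx)) q hq hd
  rw [hcount G hpow, hcount N (fun x => Subtype.ext (by simpa using hpow (x : G))),
    hcount (G ⧸ N) (fun z => by
      obtain ⟨x, rfl⟩ := QuotientGroup.mk_surjective z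
      rw [← QuotientGroup.mk_pow, hpow, QuotientGroup.mk_one])]
  have hinv : ∀ (H : Type _) [Group H] (g x : H), x ^ a = 1 → (g * x * g⁻¹) ^ a = 1 := fun H _ g x hx => by
    rw [conj_pow, hx]; simp
  have hG := card_pairs (H := G) (fun x => x ^ a = 1) (hinv G)
  have hN := card_pairs (H := N) (fun x => x ^ a = 1) (hinv N)
  have hQ := card_pairs (H := G ⧸ N) (fun x => x ^ a = 1) (hinv (G ⧸ N))
  haveI := Fintype.ofFinite G
  haveI := Fintype.ofFinite {x : G // x ^ a = 1}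
  haveI := Fintype.ofFinite {z : G ⧸ N // z ^ a = 1}
  set kN := Nat.card {c : ConjClasses N // ∀ x, ConjClasses.mk x = c → x ^ a = 1}
  -- each coset contributes at most `|N| k_π(N)`
  have hcoset : ∀ g : G, g ^ a = 1 → pairsP a N g ≤ Nat.card N * kN := by
    intro g hg
    rw [pairs_eq a b e f hee hea hfb hae hbe _ N g rfl (by rw [Subgroup.normalizer_eq_top_iff.mpr inferInstance]; trivial) hg,
      ← hN, pairsQ]
    haveI := Fintype.ofFinite {z : N // z ^ a = 1}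
    rw [Nat.card_congr (show {q : G × G // g⁻¹ * q.1 ∈ N ∧ q.2 ∈ N ∧ q.2 ^ a = 1 ∧ Commute q.1 q.2} ≃
        Σ z : {z : N // z ^ a = 1}, {x : G // g⁻¹ * x ∈ N ∧ Commute x (z.1 : G)} from
      { toFun := fun q => ⟨⟨⟨q.1.2, q.2.2.1⟩, Subtype.ext (by simpa using q.2.2.2.1)⟩, ⟨q.1.1, q.2.1, q.2.2.2.2⟩⟩
        invFun := fun s => ⟨(s.2.1, (s.1.1 : G)), s.2.2.1, s.1.1.2, by simpa using congrArg Subtype.val s.1.2, s.2.2.2⟩
        left_inv := fun q => rfl
        right_inv := fun s => rfl }),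
      Nat.card_congr (show {q : N × N // q.1 ^ a = 1 ∧ Commute q.1 q.2} ≃
        Σ z : {z : N // z ^ a = 1}, {u : N // Commute z.1 u} from
      { toFun := fun q => ⟨⟨q.1.1, q.2.1⟩, ⟨q.1.2, q.2.2⟩⟩
        invFun := fun s => ⟨(s.1.1, s.2.1), s.1.2, s.2.2⟩
        left_inv := fun q => rfl
        right_inv := fun s => rfl }), Nat.card_sigma, Nat.card_sigma]
    refine Finset.sum_le_sum fun z _ => ?_
    by_cases hex : ∃ x0, g⁻¹ * x0 ∈ N ∧ Commute x0 (z.1 : G)
    · obtain ⟨x0, hx0, hx0c⟩ := hex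
      refine Nat.card_le_card_of_injective (fun x => (⟨⟨x0⁻¹ * x.1, ?_⟩, ?_⟩ : {u : N // Commute z.1 u})) ?_
      · have := N.mul_mem (N.inv_mem hx0) x.2.1
        rwa [mul_inv_rev, inv_inv, mul_assoc, mul_inv_cancel_left] at this
      · have := (hx0c.inv_left.mul_left x.2.2).symm
        exact Subtype.ext this
      · intro x y hxy
        have h1 : x0⁻¹ * x.1 = x0⁻¹ * y.1 := congrArg (fun u : {u : N // Commute z.1 u} => ((u.1 : N) : G)) hxy
        exact Subtype.ext (mul_left_cancel h1)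
    · haveI : IsEmpty {x : G // g⁻¹ * x ∈ N ∧ Commute x (z.1 : G)} := ⟨fun x => hex ⟨x.1, x.2⟩⟩
      rw [Nat.card_of_isEmpty]
      exact Nat.zero_le _
  refine Nat.le_of_mul_le_mul_left ?_ (Nat.card_pos (α := G))
  rw [← hG]
  have hGsig : Nat.card {q : G × G // q.1 ^ a = 1 ∧ Commute q.1 q.2} =
      ∑ z : {z : G ⧸ N // z ^ a = 1}, Nat.card {q : G × G // (q.1 : G ⧸ N) = z.1 ∧ q.1 ^ a = 1 ∧ Commute q.1 q.2} := by
    rw [← Nat.card_sigma]
    exact Nat.card_congr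
      { toFun := fun q => ⟨⟨(q.1.1 : G ⧸ N), by rw [← QuotientGroup.mk_pow, q.2.1, QuotientGroup.mk_one]⟩, ⟨q.1, rfl, q.2⟩⟩
        invFun := fun s => ⟨s.2.1, s.2.2.2⟩
        left_inv := fun q => rfl
        right_inv := fun ⟨⟨z, hz⟩, ⟨q, hq, hq'⟩⟩ => Sigma.subtype_ext (Subtype.ext hq) rfl }
  rw [hGsig]
  have hbound : ∀ z : {z : G ⧸ N // z ^ a = 1},
      Nat.card {q : G × G // (q.1 : G ⧸ N) = z.1 ∧ q.1 ^ a = 1 ∧ Commute q.1 q.2} ≤
        Nat.card {u : G ⧸ N // Commute z.1 u} * (Nat.card N * kN) := by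
    rintro ⟨z, hz⟩
    obtain ⟨g0, rfl⟩ := QuotientGroup.mk_surjective z
    have hzg : ((g0 ^ e : G) : G ⧸ N) = (g0 : G ⧸ N) := by
      rw [QuotientGroup.mk_pow]
      nth_rewrite 2 [← pow_one (g0 : G ⧸ N)]
      rw [pow_eq_pow_iff_modEq]
      exact he1.of_dvd (orderOf_dvd_of_pow_eq_one hz)
    refine le_trans ?_ (Nat.mul_le_mul_left _ (hcoset (g0 ^ e) (hea g0)))
    haveI := Fintype.ofFinite {u : G ⧸ N // Commute (g0 : G ⧸ N) u}
    rw [pairsP, Nat.card_congr (show {q : G × G // (q.1 : G ⧸ N) = (g0 : G ⧸ N) ∧ q.1 ^ a = 1 ∧ Commute q.1 q.2} ≃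
        Σ u : {u : G ⧸ N // Commute (g0 : G ⧸ N) u},
          {q : G × G // (q.1 : G ⧸ N) = (g0 : G ⧸ N) ∧ q.1 ^ a = 1 ∧ Commute q.1 q.2 ∧ (q.2 : G ⧸ N) = u.1} from
      { toFun := fun q => ⟨⟨(q.1.2 : G ⧸ N), (congrArg (fun w : G ⧸ N => Commute w (q.1.2 : G ⧸ N)) q.2.1).mp (q.2.2.2.map (QuotientGroup.mk' N))⟩, ⟨q.1, q.2.1, q.2.2.1, q.2.2.2, rfl⟩⟩
        invFun := fun s => ⟨s.2.1, s.2.2.1, s.2.2.2.1, s.2.2.2.2.1⟩
        left_inv := fun q => rfl
        right_inv := fun ⟨⟨u, hu⟩, ⟨q, h1, h2, h3, h4⟩⟩ => Sigma.subtype_ext (Subtype.ext h4) rfl }), Nat.card_sigma]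
    refine (Finset.sum_le_card_nsmul _ _ _ fun u _ => ?_).trans (le_of_eq (by
      rw [Finset.card_univ, smul_eq_mul, ← Nat.card_eq_fintype_card]))
    -- the second coordinates of a fibre differ by elements of `N` centralising the first
    let S := {q : G × G // (q.1 : G ⧸ N) = (g0 : G ⧸ N) ∧ q.1 ^ a = 1 ∧ Commute q.1 q.2 ∧ (q.2 : G ⧸ N) = u.1}
    have hbase : ∀ x : G, ∃ v : G, ∀ q : S, q.1.1 = x → Commute x v ∧ (v : G ⧸ N) = u.1 := by
      intro x
      by_cases h : ∃ q : S, q.1.1 = x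
      · obtain ⟨q, rfl⟩ := h
        exact ⟨q.1.2, fun _ _ => ⟨q.2.2.2.1, q.2.2.2.2⟩⟩
      · exact ⟨1, fun q hq => absurd ⟨q, hq⟩ h⟩
    choose v hv using hbase
    refine Nat.card_le_card_of_injective (fun q : S => (⟨(q.1.1, (v q.1.1)⁻¹ * q.1.2), ?_, q.2.2.1, ?_, ?_⟩ :
      {q : G × G // (g0 ^ e)⁻¹ * q.1 ∈ N ∧ q.1 ^ a = 1 ∧ q.2 ∈ N ∧ Commute q.1 q.2})) ?_
    · exact (QuotientGroup.eq).mp (hzg.trans q.2.1.symm)
    · exact (QuotientGroup.eq).mp ((hv _ q rfl).2.trans q.2.2.2.2.symm)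
    · exact (hv _ q rfl).1.inv_right.mul_right q.2.2.2.1
    · intro q q' hqq
      have h1 : q.1.1 = q'.1.1 := congrArg (fun r => r.1.1) hqq
      have h2 : (v q.1.1)⁻¹ * q.1.2 = (v q'.1.1)⁻¹ * q'.1.2 := congrArg (fun r => r.1.2) hqq
      rw [h1] at h2
      exact Subtype.ext (Prod.ext h1 (mul_left_cancel h2))
  refine (Finset.sum_le_sum fun z _ => hbound z).trans (le_of_eq ?_)
  rw [← Finset.sum_mul, ← Nat.card_sigma,
    ← Nat.card_congr (show {q : (G ⧸ N) × (G ⧸ N) // q.1 ^ a = 1 ∧ Commute q.1 q.2} ≃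
        Σ z : {z : G ⧸ N // z ^ a = 1}, {u : G ⧸ N // Commute z.1 u} from
      { toFun := fun q => ⟨⟨q.1.1, q.2.1⟩, ⟨q.1.2, q.2.2⟩⟩
        invFun := fun s => ⟨(s.1.1, s.2.1), s.1.2, s.2.2⟩
        left_inv := fun q => rfl
        right_inv := fun s => rfl }), hQ, ← N.card_mul_index, Subgroup.index_eq_card]
  ring

end Cfsg.Agent.S4152
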