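import Cfsg.Statements.S4153

set_option autoImplicit false
open Cfsg

namespace Cfsg.Agent.S4153

/-- Let G be a finite group, p a prime, N a normal subgroup, P a Sylow p-subgroup of G and P̄ a Sylow p-subgroup of G/N. Count the elements of p-power order, the identity included. Then (number of such elements of G/N)/#P̄ ≤ (number of such elements of G)/#P, stated as a cross-multiplied inequality, with equality when N is central. -/
theorem result {G : Type*} [Group G] [Finite G] (p : ℕ) [Fact p.Prime] (N : Subgroup G) [N.Normal]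
    (P : Sylow p G) (Pbar : Sylow p (G ⧸ N)) :
    Nat.card {g : (G ⧸ N) // ∃ k : ℕ, orderOf g = p ^ k} * Nat.card (P : Subgroup G) ≤ Nat.card {g : G // ∃ k : ℕ, orderOf g = p ^ k} * Nat.card (Pbar : Subgroup (G ⧸ N)) ∧
    (N ≤ Subgroup.center G → Nat.card {g : (G ⧸ N) // ∃ k : ℕ, orderOf g = p ^ k} * Nat.card (P : Subgroup G) = Nat.card {g : G // ∃ k : ℕ, orderOf g = p ^ k} * Nat.card (Pbar : Subgroup (G ⧸ N))) := by
  classical
  set f : G →* G ⧸ N := QuotientGroup.mk' N with hf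
  have hfs : Function.Surjective f := QuotientGroup.mk'_surjective N
  have hp : p.Prime := Fact.out
  have hpw : ∀ {H : Type _} [Group H] [Finite H] (h : H) (S : Sylow p H), h ∈ (S : Subgroup H) → ∃ k : ℕ, orderOf h = p ^ k := by
    intro H _ _ h S hS
    obtain ⟨k, hk⟩ := IsPGroup.iff_orderOf.mp S.isPGroup' ⟨h, hS⟩
    exact ⟨k, by simpa using hk⟩
  -- the kernel part of a Sylow subgroup has a constant order
  have hrel : ∀ S : Sylow p G, N.relIndex (S : Subgroup G) = Nat.card (Pbar : Subgroup (G ⧸ N)) := by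
    intro S
    have h1 : Nat.card ((Sylow.mapSurjective hfs S : Sylow p (G ⧸ N)) : Subgroup (G ⧸ N)) = N.relIndex (S : Subgroup G) := by
      rw [Sylow.coe_mapSurjective, ← Subgroup.relIndex_ker, QuotientGroup.ker_mk']
    rw [← h1, Sylow.card_eq_multiplicity, Sylow.card_eq_multiplicity]
  set a := Nat.card (N.subgroupOf (P : Subgroup G)) with ha
  have hP : Nat.card (P : Subgroup G) = Nat.card (Pbar : Subgroup (G ⧸ N)) * a := by
    rw [← hrel P, Subgroup.relIndex, ha, Subgroup.index_mul_card]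
  have hconst : ∀ S : Sylow p G, Nat.card (N.subgroupOf (S : Subgroup G)) = a := by
    intro S
    have h1 : Nat.card (Pbar : Subgroup (G ⧸ N)) * Nat.card (N.subgroupOf (S : Subgroup G)) = Nat.card (S : Subgroup G) := by
      rw [← hrel S, Subgroup.relIndex, Subgroup.index_mul_card]
    rw [S.card_eq_multiplicity, ← P.card_eq_multiplicity, hP] at h1
    exact Nat.eq_of_mul_eq_mul_left Nat.card_pos h1
  have hlift : ∀ q : {g : G ⧸ N // ∃ k : ℕ, orderOf g = p ^ k}, ∃ (S : Sylow p G) (x : G), x ∈ (S : Subgroup G) ∧ f x = q := by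
    rintro ⟨q, k, hk⟩
    have hpg : IsPGroup p (Subgroup.zpowers q) := IsPGroup.of_card (n := k) (by rw [Nat.card_zpowers, hk])
    obtain ⟨T, hT⟩ := hpg.exists_le_sylow
    obtain ⟨S, rfl⟩ := Sylow.mapSurjective_surjective hfs p T
    have := hT (Subgroup.mem_zpowers q)
    rw [Sylow.coe_mapSurjective] at this
    obtain ⟨x, hx, hxq⟩ := this
    exact ⟨S, x, hx, hxq⟩
  choose S x hxS hxq using hlift
  have hmem : ∀ q, ∀ n : N.subgroupOf (S q : Subgroup G), ∃ k : ℕ, orderOf (x q * (n : (S q : Subgroup G))) = p ^ k :=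
    fun q n => hpw _ (S q) (mul_mem (hxS q) (n : (S q : Subgroup G)).2)
  have hge : Nat.card {g : G ⧸ N // ∃ k : ℕ, orderOf g = p ^ k} * a ≤ Nat.card {g : G // ∃ k : ℕ, orderOf g = p ^ k} := by
    have hcard : Nat.card (Σ q, N.subgroupOf (S q : Subgroup G)) = Nat.card {g : G ⧸ N // ∃ k : ℕ, orderOf g = p ^ k} * a := by
      rw [Nat.card_congr ((Equiv.sigmaCongrRight fun q => (Finite.card_eq.mp ((hconst (S q)).trans (hconst P).symm)).some).trans (Equiv.sigmaEquivProd _ _)), Nat.card_prod, hconst P]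
    rw [← hcard]
    refine Nat.card_le_card_of_injective (fun z => (⟨x z.1 * (z.2 : (S z.1 : Subgroup G)), hmem z.1 z.2⟩ : {g : G // ∃ k : ℕ, orderOf g = p ^ k})) ?_
    rintro ⟨q, n⟩ ⟨q', n'⟩ h
    simp only [Subtype.mk.injEq] at h
    have hn : ∀ q (n : N.subgroupOf (S q : Subgroup G)), f (x q * (n : (S q : Subgroup G))) = q := by
      intro q n
      have : ((n : (S q : Subgroup G)) : G) ∈ N := n.2
      rw [map_mul, hxq, show f ((n : (S q : Subgroup G)) : G) = 1 from (QuotientGroup.eq_one_iff _).mpr this, mul_one]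
    have hqq : q = q' := by
      apply Subtype.ext
      rw [← hn q n, h, hn q' n']
    subst hqq
    rw [Subtype.ext (Subtype.ext (mul_left_cancel h))]
  refine ⟨?_, fun hZ => ?_⟩
  · rw [hP, Nat.mul_comm (Nat.card (Pbar : Subgroup (G ⧸ N))) a, ← Nat.mul_assoc]
    exact Nat.mul_le_mul_right _ hge
  refine le_antisymm ?_ ?_
  · rw [hP, Nat.mul_comm (Nat.card (Pbar : Subgroup (G ⧸ N))) a, ← Nat.mul_assoc]
    exact Nat.mul_le_mul_right _ hge
  rw [hP, Nat.mul_comm (Nat.card (Pbar : Subgroup (G ⧸ N))) a, ← Nat.mul_assoc]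
  refine Nat.mul_le_mul_right _ ?_
  have hpq : ∀ g : {g : G // ∃ k : ℕ, orderOf g = p ^ k}, ∃ k : ℕ, orderOf (f g) = p ^ k := by
    rintro ⟨g, k, hk⟩
    obtain ⟨i, -, hi⟩ := (Nat.dvd_prime_pow hp).mp (hk ▸ orderOf_map_dvd f g)
    exact ⟨i, hi⟩
  have hkerS : ∀ g h : {g : G // ∃ k : ℕ, orderOf g = p ^ k}, f g = f h → (g : G)⁻¹ * h ∈ (P : Subgroup G) ∧ (g : G)⁻¹ * h ∈ N := by
    rintro ⟨g, i, hi⟩ ⟨h, j, hj⟩ e
    have hn : g⁻¹ * h ∈ N := QuotientGroup.eq.mp e
    refine ⟨?_, hn⟩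
    have hz := Subgroup.mem_center_iff.mp (hZ hn) g
    have hcomm : Commute g h := by
      have h2 := congrArg (g * ·) hz
      simp [mul_assoc] at h2
      exact h2
    obtain ⟨l, -, hl⟩ := (Nat.dvd_prime_pow hp).mp (show orderOf (g⁻¹ * h) ∣ p ^ (i + j) from
      (hcomm.inv_left.orderOf_mul_dvd_lcm).trans (by rw [orderOf_inv, hi, hj]; exact Nat.lcm_dvd (pow_dvd_pow _ (by omega)) (pow_dvd_pow _ (by omega))))
    have hpg : IsPGroup p (Subgroup.zpowers (g⁻¹ * h)) := IsPGroup.of_card (n := l) (by rw [Nat.card_zpowers, hl])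
    obtain ⟨T, hT⟩ := hpg.exists_le_sylow
    obtain ⟨c, hc⟩ := MulAction.exists_smul_eq G T P
    rw [← hc]
    refine ⟨g⁻¹ * h, hT (Subgroup.mem_zpowers _), ?_⟩
    change c * (g⁻¹ * h) * c⁻¹ = g⁻¹ * h
    rw [Subgroup.mem_center_iff.mp (hZ hn) c, mul_inv_cancel_right]
  have hsec : ∀ g : {g : G // ∃ k : ℕ, orderOf g = p ^ k}, ∃ h : {g : G // ∃ k : ℕ, orderOf g = p ^ k}, f h = f g ∧ (h : G) = x ⟨f g, hpq g⟩ := by
    intro g
    exact ⟨⟨x _, hpw _ (S _) (hxS _)⟩, hxq _, rfl⟩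
  choose r hr hr' using hsec
  rw [ha, ← Nat.card_prod]
  refine Nat.card_le_card_of_injective (fun g => ((⟨f g, hpq g⟩ : {g : G ⧸ N // ∃ k : ℕ, orderOf g = p ^ k}),
    (⟨⟨(r g : G)⁻¹ * g, (hkerS (r g) g (hr g)).1⟩, (hkerS (r g) g (hr g)).2⟩ : N.subgroupOf (P : Subgroup G)))) ?_
  intro g g' h
  simp only [Prod.mk.injEq, Subtype.mk.injEq] at h
  obtain ⟨h1, h2⟩ := h
  apply Subtype.ext
  have hrr : (r g : G) = r g' := by
    rw [hr', hr']
    congr 1
    exact Subtype.ext h1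
  have h3 := congrArg (fun z : N.subgroupOf (P : Subgroup G) => ((z : (P : Subgroup G)) : G)) h2
  simp only at h3
  rw [hrr] at h3
  exact mul_left_cancel h3

end Cfsg.Agent.S4153
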