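import Cfsg.Statements.S4154

set_option autoImplicit false
open Cfsg

namespace Cfsg.Agent.S4154

/-- Let G be a finite group and α an automorphism of G such that every element of G is the product of an element fixed by α and an element of the form g⁻¹α(g). If N is a normal α-invariant subgroup, then the automorphism ᾱ induced on G/N has the same property, and every coset fixed by ᾱ contains an element fixed by α (so the fixed points of ᾱ are the images of the fixed points of α). -/
theorem result {G : Type*} [Group G] [Finite G] (α : MulAut G)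
    (hccp : ∀ x : G, ∃ c g : G, α c = c ∧ x = c * (g⁻¹ * α g))
    (N : Subgroup G) [N.Normal] (hN : ∀ n ∈ N, α n ∈ N) :
    (∀ x : G, ∃ c g : G, c⁻¹ * α c ∈ N ∧ x⁻¹ * (c * (g⁻¹ * α g)) ∈ N) ∧
    (∀ x : G, x⁻¹ * α x ∈ N → ∃ c : G, α c = c ∧ c⁻¹ * x ∈ N) := by
  refine ⟨fun x => ?_, ?_⟩
  · obtain ⟨c, g, hc, hx⟩ := hccp x
    refine ⟨c, g, by simp [hc], ?_⟩
    rw [← hx]; simp
  intro x hx
  classical
  let β : G ⧸ N →* G ⧸ N := QuotientGroup.map N N α.toMonoidHom (fun n hn => hN n hn)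
  have hβ : ∀ g : G, β (QuotientGroup.mk g) = QuotientGroup.mk (α g) := fun g => rfl
  let F : Subgroup (G ⧸ N) := β.eqLocus (MonoidHom.id _)
  let C : Subgroup G := α.toMonoidHom.eqLocus (MonoidHom.id _)
  let K : Subgroup (G ⧸ N) := C.map (QuotientGroup.mk' N)
  have hKF : K ≤ F := by
    rintro _ ⟨c, hc, rfl⟩
    change β (QuotientGroup.mk c) = QuotientGroup.mk c
    rw [hβ]; exact congrArg _ hc
  let τ : G ⧸ N → G ⧸ N := fun q => q⁻¹ * β q
  let R := ↥(Set.range τ)
  have h1 : Nat.card R * Nat.card F ≤ Nat.card (G ⧸ N) := by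
    rw [← Nat.card_prod]
    refine Nat.card_le_card_of_injective (fun z : R × F => (z.2 : G ⧸ N) * z.1.2.choose) ?_
    rintro ⟨t, f⟩ ⟨t', f'⟩ h
    simp only at h
    have hτ : ∀ (s : R) (e : F), τ ((e : G ⧸ N) * s.2.choose) = s := by
      intro s e
      have he : β (e : G ⧸ N) = e := e.2
      have hs := s.2.choose_spec
      simp only [τ] at hs ⊢
      rw [map_mul, he, mul_inv_rev]
      simpa [mul_assoc] using hs
    have ht : t = t' := by
      apply Subtype.ext
      rw [← hτ t f, h, hτ t' f']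
    subst ht
    have hf : (f : G ⧸ N) = f' := mul_right_cancel h
    rw [Subtype.ext hf]
  have h2 : Nat.card (G ⧸ N) ≤ Nat.card R * Nat.card K := by
    rw [← Nat.card_prod]
    refine Nat.card_le_card_of_surjective (fun z : R × K => (z.2 : G ⧸ N) * z.1) ?_
    intro q
    obtain ⟨y, rfl⟩ := QuotientGroup.mk_surjective q
    obtain ⟨c, g, hc, hy⟩ := hccp y
    refine ⟨(⟨τ (QuotientGroup.mk g), _, rfl⟩, ⟨QuotientGroup.mk c, c, hc, rfl⟩), ?_⟩
    simp only [τ, hβ, hy, QuotientGroup.mk_mul, QuotientGroup.mk_inv]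
  have hR : 0 < Nat.card R := by
    have : Nonempty R := ⟨⟨τ 1, 1, rfl⟩⟩
    exact Nat.card_pos
  have hle : Nat.card F ≤ Nat.card K := Nat.le_of_mul_le_mul_left (h1.trans h2) hR
  have hxF : (QuotientGroup.mk x : G ⧸ N) ∈ F := by
    change β (QuotientGroup.mk x) = QuotientGroup.mk x
    rw [hβ]
    exact (QuotientGroup.eq.mpr hx).symm
  rw [← Subgroup.eq_of_le_of_card_ge hKF hle] at hxF
  obtain ⟨c, hc, hcx⟩ := hxF
  exact ⟨c, hc, QuotientGroup.eq.mp hcx⟩

end Cfsg.Agent.S4154
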