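import Cfsg.Statements.S4155
import Mathlib
import Cfsg.Agent.Lib.ComponentsFitting
import Cfsg.Agent.Lib.FrobeniusFPF
import Cfsg.Agent.Lib.PGroupsCyclic
import Cfsg.Agent.Lib.HallNilpotentConj
import Cfsg.Agent.Lib.ClassSizeGraph76

set_option autoImplicit false
open Cfsg

namespace Cfsg.Agent.S4155

open Cfsg.Agent

theorem fitting_part {G : Type*} [Group G] [Finite G] (N : Subgroup G) [N.Normal]
    (heq : ∀ x : G, x ∉ N → ∀ n ∈ N, orderOf (x * n) = orderOf x)
    (hnil : Group.IsNilpotent N) (hnpp : ¬ IsPrimePow (Nat.card N)) (hN1 : N ≠ ⊥) :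
    N = Cfsg.fittingSubgroup G := by
  have hN : N ≤ Cfsg.fittingSubgroup G :=
    Cfsg.Agent.ComponentsFitting.subnormal_nilpotent_le_fitting (Subgroup.Normal.isSubnormal ‹N.Normal›) hnil
  refine le_antisymm hN fun x hx => ?_
  haveI : Group.IsNilpotent (Cfsg.fittingSubgroup G) := Cfsg.Agent.ComponentsFitting.fittingSubgroup_isNilpotent
  by_contra hxN
  -- a prime-power component outside `N`
  obtain ⟨r, u, hr, ⟨k, hk⟩, huF, huN⟩ : ∃ (r : ℕ) (u : G), r.Prime ∧ (∃ k, orderOf u = r ^ k) ∧ u ∈ Cfsg.fittingSubgroup G ∧ u ∉ N := by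
    by_contra hall
    push Not at hall
    apply hxN
    have htop : N.subgroupOf (Cfsg.fittingSubgroup G) = ⊤ := by
      refine Cfsg.Agent.ClassSizeGraph76.eq_top_of_sylow_le _ fun r hr _ => ?_
      obtain ⟨R⟩ : Nonempty (Sylow r (Cfsg.fittingSubgroup G)) := inferInstance
      refine ⟨R, fun a ha => Subgroup.mem_subgroupOf.mpr (hall r a hr ?_ a.2)⟩
      obtain ⟨k, hk⟩ := IsPGroup.iff_orderOf.mp R.isPGroup' ⟨a, ha⟩
      exact ⟨k, by rwa [Subgroup.orderOf_mk, ← Subgroup.orderOf_coe] at hk⟩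
    exact Subgroup.subgroupOf_eq_top.mp htop hx
  obtain ⟨s, hs, hsr, hsN⟩ : ∃ s, s.Prime ∧ s ≠ r ∧ s ∣ Nat.card N := by
    by_contra hh
    push Not at hh
    apply hnpp
    have h1 : Nat.card N ≠ 1 := fun h => hN1 (Subgroup.eq_bot_of_card_eq N h)
    refine isPrimePow_iff_unique_prime_dvd.mpr ⟨r, ⟨hr, ?_⟩, fun y hy => ?_⟩
    · obtain ⟨s, hs, hd⟩ := Nat.exists_prime_and_dvd h1
      by_cases e : s = r
      · exact e ▸ hd
      · exact absurd hd (hh s hs e)
    · by_contra e; exact hh y hy.1 e hy.2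
  haveI := Fact.mk hs
  obtain ⟨m, hm⟩ := exists_prime_orderOf_dvd_card' s hsN
  rw [← Subgroup.orderOf_coe] at hm
  have hco : (orderOf u).Coprime (orderOf (m : G)) := by
    rw [hk, hm]; exact Nat.Coprime.pow_left k ((Nat.coprime_primes hr hs).mpr hsr.symm)
  have hc : Commute u (m : G) := by
    have h' := Cfsg.Agent.HallNilpotentConj.commute_of_coprime_orderOf (Cfsg.fittingSubgroup G)
      (a := ⟨u, huF⟩) (b := ⟨m, hN m.2⟩) (by rwa [Subgroup.orderOf_mk, Subgroup.orderOf_mk])
    exact congrArg Subtype.val h'.eq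
  have h1 := heq u huN m m.2
  rw [hc.orderOf_mul_eq_mul_orderOf_of_coprime hco, hm] at h1
  have := orderOf_pos u
  have := hs.two_le
  nlinarith

/-- Let G be a finite group and N a proper non-trivial normal nilpotent subgroup whose order is not a prime power, such that for every x outside N all elements of the coset xN have the same order as x. Then N is the Fitting subgroup of G, and for every prime q every Sylow q-subgroup of G/N is cyclic or generalized quaternion. -/
theorem result {G : Type*} [Group G] [Finite G] (N : Subgroup G) [N.Normal] (hN1 : N ≠ ⊥) (hN2 : N ≠ ⊤)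
    (heq : ∀ x : G, x ∉ N → ∀ n ∈ N, orderOf (x * n) = orderOf x)
    (hnil : Group.IsNilpotent N) (hnpp : ¬ IsPrimePow (Nat.card N)) :
    N = Cfsg.fittingSubgroup G ∧
    ∀ (q : ℕ) [Fact q.Prime] (Q : Sylow q (G ⧸ N)), IsCyclic (Q : Subgroup (G ⧸ N)) ∨ ∃ n : ℕ, Nonempty ((Q : Subgroup (G ⧸ N)) ≃* QuaternionGroup (2 ^ n)) := by
  refine ⟨fitting_part N heq hnil hnpp hN1, fun q _ Q => ?_⟩
  have hq : q.Prime := Fact.out
  haveI := hnil
  obtain ⟨P, hP⟩ := Sylow.mapSurjective_surjective (QuotientGroup.mk'_surjective N) q Q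
  obtain ⟨s, hs, hsq, hsN⟩ : ∃ s, s.Prime ∧ s ≠ q ∧ s ∣ Nat.card N := by
    by_contra hh
    push Not at hh
    apply hnpp
    have h1 : Nat.card N ≠ 1 := fun h => hN1 (Subgroup.eq_bot_of_card_eq N h)
    refine isPrimePow_iff_unique_prime_dvd.mpr ⟨q, ⟨hq, ?_⟩, fun y hy => ?_⟩
    · obtain ⟨s, hs, hd⟩ := Nat.exists_prime_and_dvd h1
      by_cases e : s = q
      · exact e ▸ hd
      · exact absurd hd (hh s hs e)
    · by_contra e; exact hh y hy.1 e hy.2
  haveI := Fact.mk hs
  obtain ⟨S⟩ : Nonempty (Sylow s N) := inferInstance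
  have hSn : (S : Subgroup N).Normal := inferInstance
  haveI := Sylow.characteristic_of_normal S hSn
  set S' : Subgroup G := (S : Subgroup N).map N.subtype with hS'
  haveI hS'n : S'.Normal := inferInstance
  set V : Subgroup G := (Subgroup.center S').map S'.subtype with hV
  haveI hVn : V.Normal := inferInstance
  have hVS : V ≤ S' := Subgroup.map_subtype_le _
  have hVN : V ≤ N := hVS.trans (Subgroup.map_subtype_le _)
  have hVc : IsMulCommutative V := inferInstance
  have hSp : IsPGroup s S' := S.isPGroup'.map _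
  have hVne : V ≠ ⊥ := by
    haveI : Nontrivial S' := by
      rw [Subgroup.nontrivial_iff_ne_bot, hS', ne_eq, Subgroup.map_eq_bot_iff_of_injective _ N.subtype_injective]
      exact S.ne_bot_of_dvd_card hsN
    haveI := hSp.center_nontrivial
    rw [hV, ne_eq, Subgroup.map_eq_bot_iff_of_injective _ S'.subtype_injective]
    exact (Subgroup.nontrivial_iff_ne_bot _).mp inferInstance
  letI : CommGroup V := { (inferInstance : Group V) with mul_comm := hVc.is_comm.comm }
  let φ : (P : Subgroup G) →* MulAut V := (MulAut.conjNormal (H := V)).comp (P : Subgroup G).subtype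
  have hφ : ∀ (a : (P : Subgroup G)) (v : V), ((φ a v : V) : G) = a * v * (a : G)⁻¹ := fun a v => by
    simp [φ]
  have hordV : ∀ v : V, ∃ k, orderOf (v : G) = s ^ k := fun v => by
    obtain ⟨k, hk⟩ := IsPGroup.iff_orderOf.mp hSp ⟨v, hVS v.2⟩
    exact ⟨k, by rwa [Subgroup.orderOf_mk] at hk⟩
  have hordP : ∀ a : (P : Subgroup G), ∃ k, orderOf (a : G) = q ^ k := fun a => by
    obtain ⟨k, hk⟩ := IsPGroup.iff_orderOf.mp P.isPGroup' a
    exact ⟨k, by rwa [← Subgroup.orderOf_coe] at hk⟩
  have hco : ∀ (a : (P : Subgroup G)) (v : V), (orderOf (a : G)).Coprime (orderOf (v : G)) := fun a v => by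
    obtain ⟨i, hi⟩ := hordP a
    obtain ⟨j, hj⟩ := hordV v
    rw [hi, hj]
    exact ((Nat.coprime_primes hq hs).mpr hsq.symm).pow i j
  have hker : ∀ a : (P : Subgroup G), φ a = 1 ↔ (a : G) ∈ N := by
    intro a
    constructor
    · intro h
      by_contra haN
      obtain ⟨⟨v, hv⟩, hv0⟩ := (Subgroup.ne_bot_iff_exists_ne_one (H := V)).mp hVne
      have hv1 : v ≠ 1 := fun e => hv0 (Subtype.ext e)
      have h1 : (a : G) * v * (a : G)⁻¹ = v := by
        rw [← hφ a ⟨v, hv⟩, h]; rfl
      have hc : Commute (a : G) v := mul_inv_eq_iff_eq_mul.mp h1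
      have h2 := heq a haN v (hVN hv)
      rw [hc.orderOf_mul_eq_mul_orderOf_of_coprime (hco a ⟨v, hv⟩)] at h2
      have := orderOf_pos (a : G)
      exact hv1 (orderOf_eq_one_iff.mp (by nlinarith))
    · intro haN
      ext v
      rw [hφ, MulAut.one_apply]
      have h' := Cfsg.Agent.HallNilpotentConj.commute_of_coprime_orderOf N (a := ⟨(a : G), haN⟩) (b := ⟨(v : G), hVN v.2⟩)
        (by rw [Subgroup.orderOf_mk, Subgroup.orderOf_mk]; exact hco a v)
      exact mul_inv_eq_iff_eq_mul.mpr (congrArg Subtype.val h'.eq)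
  have hfpf : FrobeniusFPF.IsFPF φ.range V := by
    rintro ⟨m, a, rfl⟩ hm v hv
    by_contra hv1
    apply hm
    have haN : (a : G) ∈ N := by
      by_contra haN
      have h1 : (a : G) * v * (a : G)⁻¹ = v := by
        rw [← hφ a v]; exact congrArg Subtype.val hv
      have hc : Commute (a : G) v := mul_inv_eq_iff_eq_mul.mp h1
      have h2 := heq a haN v (hVN v.2)
      rw [hc.orderOf_mul_eq_mul_orderOf_of_coprime (hco a v)] at h2
      have := orderOf_pos (a : G)
      exact hv1 (Subtype.ext (orderOf_eq_one_iff.mp (by nlinarith)))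
    exact Subtype.ext ((hker a).mpr haN)
  haveI : Nontrivial V := (Subgroup.nontrivial_iff_ne_bot V).mpr hVne
  have hRp : IsPGroup q φ.range := P.isPGroup'.of_surjective φ.rangeRestrict φ.rangeRestrict_surjective
  let ψ : (P : Subgroup G) →* (Q : Subgroup (G ⧸ N)) :=
    ((QuotientGroup.mk' N).comp (P : Subgroup G).subtype).codRestrict _ (fun a => by
      rw [← hP, Sylow.coe_mapSurjective]; exact ⟨a, a.2, rfl⟩)
  have hψ : Function.Surjective ψ := by
    rintro ⟨y, hy⟩
    rw [← hP, Sylow.coe_mapSurjective] at hy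
    obtain ⟨a, ha, rfl⟩ := hy
    exact ⟨⟨a, ha⟩, rfl⟩
  have hk2 : ψ.ker = φ.ker := by
    ext a
    rw [MonoidHom.mem_ker, MonoidHom.mem_ker, hker, ← QuotientGroup.eq_one_iff]
    exact Subtype.ext_iff
  have e : φ.range ≃* (Q : Subgroup (G ⧸ N)) :=
    (QuotientGroup.quotientKerEquivRange φ).symm.trans
      ((QuotientGroup.quotientMulEquivOfEq hk2.symm).trans (QuotientGroup.quotientKerEquivOfSurjective ψ hψ))
  have huniq : ∀ H K : Subgroup φ.range, Nat.card H = q → Nat.card K = q → H = K := by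
    by_cases hnt : Subsingleton φ.range
    · intro H K h1
      have : Nat.card H = 1 := Nat.card_unique
      exact absurd (h1.symm.trans this) hq.one_lt.ne'
    rw [not_subsingleton_iff_nontrivial] at hnt
    haveI := hRp.center_nontrivial
    have hZp : IsPGroup q (Subgroup.center φ.range) := hRp.to_subgroup _
    obtain ⟨z, hz⟩ : ∃ z : Subgroup.center φ.range, orderOf z = q := by
      refine exists_prime_orderOf_dvd_card' q ?_
      obtain ⟨k, hk0, hk⟩ := hZp.nontrivial_iff_card.mp inferInstance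
      exact hk ▸ dvd_pow_self q (by omega)
    rw [← Subgroup.orderOf_coe] at hz
    suffices ∀ H : Subgroup φ.range, Nat.card H = q → H = Subgroup.zpowers (z : φ.range) from
      fun H K h1 h2 => (this H h1).trans (this K h2).symm
    intro H hH
    refine Subgroup.eq_of_le_of_card_ge (fun h hh => ?_) (by rw [hH, Nat.card_zpowers, hz])
    by_cases h1 : h = 1
    · exact h1 ▸ one_mem _
    have ho : orderOf h = q := orderOf_eq_prime (orderOf_dvd_iff_pow_eq_one.mp (by
      have := H.orderOf_dvd_natCard hh; rwa [hH] at this)) h1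
    exact FrobeniusFPF.mem_zpowers_of_commute hfpf hq ho hz (Subgroup.mem_center_iff.mp z.2 h)
  rcases Cfsg.Agent.PGroupsCyclic.isCyclic_or_quaternion hRp huniq with h | ⟨-, n, ⟨e'⟩⟩
  · exact Or.inl (isCyclic_of_surjective e e.surjective)
  · exact Or.inr ⟨n, ⟨e.symm.trans e'⟩⟩

end Cfsg.Agent.S4155
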