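import Cfsg.Statements.S4156
import Mathlib

set_option autoImplicit false
open Cfsg

namespace Cfsg.Agent.S4156

/-- A homomorphism from a simple nonabelian group with pairwise commuting values is trivial. -/
theorem eq_one_of_comm {A B : Type*} [Group A] [IsSimpleGroup A] [Group B] (f : A →* B)
    (hA : ¬ ∀ a b : A, a * b = b * a) (hf : ∀ a b : A, f a * f b = f b * f a) : ∀ a, f a = 1 := by
  rcases (MonoidHom.normal_ker f).eq_bot_or_eq_top with h | h
  · exact absurd (fun a b => (MonoidHom.ker_eq_bot_iff f).mp h (by rw [map_mul, map_mul, hf])) hA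
  · exact fun a => MonoidHom.mem_ker.mp (h ▸ Subgroup.mem_top a)

variable (n : ℕ) (F : Type*) [Field F]

/-- The vectors with coordinate sum zero. -/
def sumZero : Submodule F (Fin (n + 1) → F) where
  carrier := {v | ∑ i, v i = 0}
  add_mem' := fun {a b} ha hb => by simp_all [Finset.sum_add_distrib]
  zero_mem' := by simp
  smul_mem' := fun c v hv => by simp_all [← Finset.mul_sum]

/-- Dropping the last coordinate. -/
def chart : sumZero n F ≃ₗ[F] (Fin n → F) where
  toFun v i := (v : Fin (n + 1) → F) i.castSucc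
  map_add' _ _ := rfl
  map_smul' _ _ := rfl
  invFun w := ⟨Fin.snoc w (-∑ i, w i), by
    change ∑ i, _ = 0
    rw [Fin.sum_univ_castSucc]
    simp⟩
  left_inv v := by
    apply Subtype.ext
    funext i
    refine Fin.lastCases ?_ (fun j => ?_) i
    · have h : ∑ i, (v : Fin (n + 1) → F) i = 0 := v.2
      rw [Fin.sum_univ_castSucc] at h
      simp only [Fin.snoc_last]
      linear_combination -h
    · simp
  right_inv w := by funext i; simp

/-- The permutation action on vectors with sum zero. -/
def permAct : Equiv.Perm (Fin (n + 1)) →* Module.End F (sumZero n F) where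
  toFun σ :=
    { toFun := fun v => ⟨fun i => (v : Fin (n + 1) → F) (σ⁻¹ i), by
        change ∑ i, (v : Fin (n + 1) → F) (σ⁻¹ i) = 0
        rw [Equiv.sum_comp]; exact v.2⟩
      map_add' := fun _ _ => rfl
      map_smul' := fun _ _ => rfl }
  map_one' := by ext v i; rfl
  map_mul' σ τ := by ext v i; simp [mul_inv_rev]

theorem permAct_injective (hn : 2 ≤ n) : Function.Injective (permAct n F) := by
  classical
  intro σ τ h
  rw [← inv_inj]
  refine Equiv.ext fun i => ?_
  by_contra hne
  obtain ⟨j, hj⟩ : ∃ j, j ≠ σ⁻¹ i ∧ j ≠ τ⁻¹ i := by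
    obtain ⟨j, hj⟩ : ∃ j, j ∉ ({σ⁻¹ i, τ⁻¹ i} : Finset (Fin (n + 1))) := by
      refine Finset.exists_mem_notMem_of_card_lt_card (t := Finset.univ) (s := {σ⁻¹ i, τ⁻¹ i}) ?_ |>.imp fun _ h => h.2
      exact lt_of_le_of_lt Finset.card_le_two (by simp; omega)
    exact ⟨j, by simpa using hj⟩
  let v : sumZero n F := ⟨Pi.single (σ⁻¹ i) 1 - Pi.single j 1, by
    change ∑ k, _ = 0
    simp [Finset.sum_sub_distrib]⟩
  have h2 : (v : Fin (n + 1) → F) (σ⁻¹ i) = (v : Fin (n + 1) → F) (τ⁻¹ i) :=
    congrFun (congrArg Subtype.val (LinearMap.congr_fun h v)) i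
  simp only [v, Pi.sub_apply, Pi.single_eq_same, Pi.single_eq_of_ne hj.1.symm, Pi.single_eq_of_ne hj.2.symm,
    Pi.single_eq_of_ne (Ne.symm hne)] at h2
  simp at h2

/-- The matrices of the deleted permutation module. -/
noncomputable def rep : Equiv.Perm (Fin (n + 1)) →* Matrix (Fin n) (Fin n) F :=
  ((LinearMap.toMatrixAlgEquiv' : _ ≃ₐ[F] Matrix (Fin n) (Fin n) F).toAlgHom.toMonoidHom).comp
    (((chart n F).conjAlgEquiv F).toAlgHom.toMonoidHom.comp (permAct n F))

theorem rep_injective (hn : 2 ≤ n) : Function.Injective (rep n F) := fun _ _ h =>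
  permAct_injective n F hn (((chart n F).conjAlgEquiv F).injective (LinearMap.toMatrixAlgEquiv'.injective h))

/-- Let n ≥ 5 and F a finite field. Then the projective special linear group PSL_n(F) contains a subgroup isomorphic to the alternating group of degree n + 1. -/
theorem result (n : ℕ) (hn : 5 ≤ n) (F : Type*) [Field F] [Finite F] :
    ∃ f : alternatingGroup (Fin (n + 1)) →* Matrix.ProjectiveSpecialLinearGroup (Fin n) F, Function.Injective f := by
  classical
  haveI : IsSimpleGroup (alternatingGroup (Fin (n + 1))) := alternatingGroup.isSimpleGroup (by simp; omega)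
  have hA : ¬ ∀ a b : alternatingGroup (Fin (n + 1)), a * b = b * a := by
    intro h
    have hc : IsMulCommutative (alternatingGroup (Fin (n + 1))) := ⟨⟨h⟩⟩
    have := alternatingGroup.isMulCommutative_iff_card_le_three.mp hc
    simp at this; omega
  let r : alternatingGroup (Fin (n + 1)) →* (Matrix (Fin n) (Fin n) F)ˣ :=
    ((rep n F).comp (alternatingGroup (Fin (n + 1))).subtype).toHomUnits
  have hdet : ∀ a, ((r a : (Matrix (Fin n) (Fin n) F)ˣ) : Matrix (Fin n) (Fin n) F).det = 1 := by
    intro a
    have := eq_one_of_comm ((Units.map (Matrix.detMonoidHom : Matrix (Fin n) (Fin n) F →* F)).comp r) hA (fun a b => mul_comm _ _) a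
    exact congrArg Units.val this
  let s : alternatingGroup (Fin (n + 1)) →* Matrix.SpecialLinearGroup (Fin n) F :=
    { toFun := fun a => ⟨(r a : (Matrix (Fin n) (Fin n) F)ˣ), hdet a⟩
      map_one' := Subtype.ext (by simp)
      map_mul' := fun a b => Subtype.ext (by simp; rfl) }
  have hs : Function.Injective s := fun a b h =>
    Subtype.ext (rep_injective n F (by omega) (congrArg Subtype.val h))
  refine ⟨(QuotientGroup.mk' (Subgroup.center (Matrix.SpecialLinearGroup (Fin n) F))).comp s, ?_⟩
  rw [← MonoidHom.ker_eq_bot_iff]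
  refine (MonoidHom.normal_ker _).eq_bot_or_eq_top.resolve_right fun htop => ?_
  have hc : ∀ a, s a ∈ Subgroup.center (Matrix.SpecialLinearGroup (Fin n) F) := fun a =>
    (QuotientGroup.eq_one_iff _).mp (MonoidHom.mem_ker.mp (htop ▸ Subgroup.mem_top a))
  have h1 := eq_one_of_comm s hA (fun a b => (Subgroup.mem_center_iff.mp (hc b) (s a)))
  exact hA fun a b => hs (by rw [h1, h1])

end Cfsg.Agent.S4156
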