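import Cfsg.Statements.S4161
import Mathlib
import Cfsg.Agent.Lib.ClassPrimes
import Cfsg.Agent.Lib.ClassSizeGraph76
import Cfsg.Agent.Lib.CoprimeAction

set_option autoImplicit false
open Cfsg

namespace Cfsg.Agent.S4161

open Cfsg.Agent.ClassSizeGraph76
open scoped commutatorElement Pointwise

variable {G : Type*} [Group G] [Finite G]

omit [Finite G] in
theorem conj_cs (x g : G) : cs (g⁻¹ * x * g) = cs x := by
  have h := cs_conj x g⁻¹
  rwa [inv_inv] at h

theorem not_dvd_of_mem_centralizer {p : ℕ} [Fact p.Prime] (P : Sylow p G) {z : G}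
    (hz : z ∈ Subgroup.centralizer ((P : Subgroup G) : Set G)) : ¬ p ∣ cs z := by
  refine not_dvd_index_of_sylow_le P fun y hy => ?_
  rw [mem_cent]
  exact Subgroup.mem_centralizer_iff.mp hz y hy

/-- If every Sylow `p`-subgroup is an `N`-conjugate of `P`, class sizes prime to `p` come from `C(P)`. -/
theorem exists_conj_mem' {p : ℕ} [Fact p.Prime] (N : Subgroup G) [N.Normal] (P : Sylow p G) {S : Subgroup G}
    (hS : S ≤ Subgroup.normalizer ((P : Subgroup G) : Set G)) (hNS : N ⊔ S = ⊤) {x : G} (hx : ¬ p ∣ cs x) :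
    ∃ n ∈ N, n⁻¹ * x * n ∈ Subgroup.centralizer ((P : Subgroup G) : Set G) := by
  obtain ⟨R, hR⟩ := exists_sylow_le hx
  obtain ⟨g, hg⟩ := MulAction.exists_smul_eq G P R
  have hgm : g ∈ ((N ⊔ S : Subgroup G) : Set G) := by rw [hNS]; trivial
  rw [Subgroup.normal_mul] at hgm
  obtain ⟨n, hn, s, hs, rfl⟩ := hgm
  refine ⟨n, hn, Subgroup.mem_centralizer_iff.mpr fun y hy => ?_⟩
  have hy' : s⁻¹ * y * s ∈ (P : Subgroup G) := (Subgroup.mem_normalizer_iff''.mp (hS hs) y).mp hy
  have h1 : n * s * (s⁻¹ * y * s) * (n * s)⁻¹ ∈ (R : Subgroup G) := by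
    rw [← hg, Sylow.coe_subgroup_smul]
    exact ⟨_, hy', rfl⟩
  have h2 := mem_cent.mp (hR h1)
  have e : n * s * (s⁻¹ * y * s) * (n * s)⁻¹ = n * y * n⁻¹ := by group
  rw [e] at h2
  calc y * (n⁻¹ * x * n) = n⁻¹ * (n * y * n⁻¹ * x) * n := by group
    _ = n⁻¹ * (x * (n * y * n⁻¹)) * n := by rw [h2]
    _ = n⁻¹ * x * n * y := by group

/-- A group is not the union of two proper subgroups. -/
theorem eq_top_or {L C : Subgroup G} (h : ∀ x, x ∈ L ∨ x ∈ C) : L = ⊤ ∨ C = ⊤ := by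
  by_contra hc
  push Not at hc
  obtain ⟨a, ha⟩ : ∃ a, a ∉ L := by by_contra hh; push Not at hh; exact hc.1 (eq_top_iff.mpr fun x _ => hh x)
  obtain ⟨b, hb⟩ : ∃ b, b ∉ C := by by_contra hh; push Not at hh; exact hc.2 (eq_top_iff.mpr fun x _ => hh x)
  have haC : a ∈ C := (h a).resolve_left ha
  have hbL : b ∈ L := (h b).resolve_right hb
  rcases h (a * b) with h' | h'
  · exact ha ((Subgroup.mul_mem_cancel_right L hbL).mp h')
  · exact hb ((Subgroup.mul_mem_cancel_left C haC).mp h')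

/-- With a non-commutative Sylow subgroup and a normal complement, elements of class size prime
to `p` lie in a proper subgroup. -/
theorem exists_proper {p : ℕ} [Fact p.Prime] (P : Sylow p G) (K : Subgroup G) [K.Normal]
    (hK : K.IsComplement' (P : Subgroup G))
    (hnc : ¬ ∀ a ∈ (P : Subgroup G), ∀ b ∈ (P : Subgroup G), a * b = b * a) :
    ∃ L : Subgroup G, L ≠ ⊤ ∧ ∀ x, ¬ p ∣ cs x → x ∈ L := by
  refine ⟨(Subgroup.centralizer (((P : Subgroup G).map (QuotientGroup.mk' K) : Subgroup (G ⧸ K)) : Set (G ⧸ K))).comap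
    (QuotientGroup.mk' K), fun hL => hnc fun a ha b hb => ?_, fun x hx => ?_⟩
  · have h1 : QuotientGroup.mk' K b * QuotientGroup.mk' K a = QuotientGroup.mk' K a * QuotientGroup.mk' K b := by
      have : a ∈ (⊤ : Subgroup G) := trivial
      rw [← hL] at this
      exact Subgroup.mem_centralizer_iff.mp this _ ⟨b, hb, rfl⟩
    have h2 : (b * a)⁻¹ * (a * b) ∈ K := by
      rw [← QuotientGroup.eq]; exact h1
    have h3 : (b * a)⁻¹ * (a * b) ∈ K ⊓ (P : Subgroup G) :=
      Subgroup.mem_inf.mpr ⟨h2, mul_mem (inv_mem (mul_mem hb ha)) (mul_mem ha hb)⟩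
    rw [disjoint_iff.mp hK.disjoint, Subgroup.mem_bot, inv_mul_eq_one] at h3
    exact h3.symm
  · obtain ⟨n, hn, hn'⟩ := exists_conj_mem' K P Subgroup.le_normalizer hK.sup_eq_top hx
    rw [Subgroup.mem_comap, Subgroup.mem_centralizer_iff]
    rintro _ ⟨y, hy, rfl⟩
    have h1 := congrArg (QuotientGroup.mk' K) (Subgroup.mem_centralizer_iff.mp hn' y hy)
    have hn1 : QuotientGroup.mk' K n = 1 := (QuotientGroup.eq_one_iff n).mpr hn
    simpa [map_mul, map_inv, hn1] using h1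

/-- Some element with class size divisible by `p` fails to centralise a given non-abelian normal `M`. -/
theorem exists_dvd_not_le {p : ℕ} [Fact p.Prime] (P : Sylow p G) (K M : Subgroup G) [K.Normal] [M.Normal]
    (hK : K.IsComplement' (P : Subgroup G)) (hMK : M ≤ K) (hM : ¬ M ≤ Subgroup.centralizer (M : Set G))
    (hA : ∃ x : G, p ∣ cs x) : ∃ x : G, p ∣ cs x ∧ ¬ M ≤ Subgroup.centralizer ({x} : Set G) := by
  by_contra hcon
  push Not at hcon
  set C := Subgroup.centralizer (M : Set G) with hC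
  haveI hCn : C.Normal := inferInstance
  have hAC : ∀ x, p ∣ cs x → x ∈ C := fun x hx => Subgroup.mem_centralizer_iff.mpr fun m hm =>
    mem_cent.mp (hcon x hx hm)
  have hCtop : C ≠ ⊤ := fun h => hM (h ▸ le_top)
  by_cases hc : ∀ a ∈ (P : Subgroup G), ∀ b ∈ (P : Subgroup G), a * b = b * a
  swap
  · obtain ⟨L, hL, hLx⟩ := exists_proper P K hK hc
    rcases eq_top_or (L := L) (C := C) (fun x => (em (p ∣ cs x)).symm.imp (hLx x) (hAC x)) with h | h
    · exact hL h
    · exact hCtop h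
  set CP := Subgroup.centralizer ((P : Subgroup G) : Set G) with hCP
  have hconj : ∀ x, ¬ p ∣ cs x → ∃ k ∈ K, k⁻¹ * x * k ∈ CP := fun x hx =>
    exists_conj_mem' K P Subgroup.le_normalizer hK.sup_eq_top hx
  set D := C ⊓ K with hD
  haveI : D.Normal := inferInstance
  -- K = D * C_K(P)
  have hH : ((D ⊔ CP ⊓ K).subgroupOf K) = ⊤ := by
    refine eq_top_of_conj_cover _ fun g => ?_
    by_cases hg : (g : G) ∈ D
    · exact ⟨1, by simpa [Subgroup.mem_subgroupOf] using Subgroup.mem_sup_left hg⟩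
    · obtain ⟨k, hk, hk'⟩ := hconj g (fun h => hg ⟨hAC _ h, g.2⟩)
      refine ⟨⟨k⁻¹, inv_mem hk⟩, ?_⟩
      rw [Subgroup.mem_subgroupOf]
      refine Subgroup.mem_sup_right ⟨?_, SetLike.coe_mem _⟩
      simpa using hk'
  obtain ⟨m, hm, hmC⟩ : ∃ m ∈ M, m ∉ C := SetLike.not_le_iff_exists.mp hM
  obtain ⟨k, hk, hmk⟩ := hconj m (fun h => hmC (hAC _ h))
  set y := k⁻¹ * m * k with hy
  have hyM : y ∈ M := by simpa [hy] using Subgroup.Normal.conj_mem ‹M.Normal› m hm k⁻¹
  have hyC : y ∉ C := fun h => hmC (by simpa [hy, mul_assoc] using hCn.conj_mem y h k)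
  have hall : ∀ x ∈ K, ¬ p ∣ cs x := by
    intro x hxK hx
    have hxC := hAC x hx
    obtain ⟨g, hg, hg'⟩ := hconj (x * y) (fun h => hyC ((Subgroup.mul_mem_cancel_left C hxC).mp (hAC _ h)))
    have hgm : g ∈ ((D ⊔ CP ⊓ K : Subgroup G) : Set G) := Subgroup.subgroupOf_eq_top.mp hH hg
    rw [Subgroup.normal_mul] at hgm
    obtain ⟨d, hd, c, hc', rfl⟩ := hgm
    have h1 : d⁻¹ * (x * y) * d ∈ CP := by
      have hcc : c ∈ CP := hc'.1
      have := mul_mem (mul_mem hcc hg') (inv_mem hcc)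
      simpa [mul_assoc] using this
    have h2 : d⁻¹ * x * d ∈ CP := by
      have e : d⁻¹ * x * d = d⁻¹ * (x * y) * d * y⁻¹ := by
        have hdy : y * d = d * y := Subgroup.mem_centralizer_iff.mp hd.1 y hyM
        calc d⁻¹ * x * d = d⁻¹ * x * (d * y) * y⁻¹ := by group
          _ = d⁻¹ * x * (y * d) * y⁻¹ := by rw [hdy]
          _ = _ := by group
      rw [e]
      exact mul_mem h1 (inv_mem hmk)
    exact not_dvd_of_mem_centralizer P h2 (by rwa [conj_cs])
  have hH2 : (CP.subgroupOf K) = ⊤ := by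
    refine eq_top_of_conj_cover _ fun g => ?_
    obtain ⟨k', hk', h'⟩ := hconj g (hall g g.2)
    refine ⟨⟨k'⁻¹, inv_mem hk'⟩, ?_⟩
    rw [Subgroup.mem_subgroupOf]
    simpa using h'
  obtain ⟨x, hx⟩ := hA
  have htop : CP = ⊤ := by
    rw [eq_top_iff, ← hK.sup_eq_top, sup_le_iff]
    exact ⟨Subgroup.subgroupOf_eq_top.mp hH2, fun a ha => Subgroup.mem_centralizer_iff.mpr fun b hb => hc b hb a ha⟩
  exact not_dvd_of_mem_centralizer P (z := x) (by rw [← hCP, htop]; trivial) hx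

omit [Finite G] in
theorem centralizer_mul_le {a d : G} (hc : Commute a d) (hco : (orderOf a).Coprime (orderOf d)) :
    Subgroup.centralizer ({a * d} : Set G) ≤ Subgroup.centralizer ({a} : Set G) ⊓ Subgroup.centralizer ({d} : Set G) := by
  intro g hg
  rw [mem_cent] at hg
  have key : ∀ i, Commute g ((a * d) ^ i) := fun i => Commute.pow_right hg i
  refine ⟨mem_cent.mpr ?_, mem_cent.mpr ?_⟩
  · obtain ⟨m, hm1, hm2⟩ := Nat.chineseRemainder hco 1 0
    have : (a * d) ^ m = a := by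
      rw [hc.mul_pow, pow_eq_pow_iff_modEq.mpr hm1, pow_eq_pow_iff_modEq.mpr hm2, pow_one, pow_zero, mul_one]
    exact this ▸ key m
  · obtain ⟨m, hm1, hm2⟩ := Nat.chineseRemainder hco 0 1
    have : (a * d) ^ m = d := by
      rw [hc.mul_pow, pow_eq_pow_iff_modEq.mpr hm1, pow_eq_pow_iff_modEq.mpr hm2, pow_one, pow_zero, one_mul]
    exact this ▸ key m

/-- The two-sided hypothesis of the abelian case. -/
structure Setting (p q : ℕ) [Fact p.Prime] [Fact q.Prime] (P : Sylow p G) (Q : Sylow q G) (N : Subgroup G) : Prop where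
  normal : N.Normal
  cP : ∀ a ∈ (P : Subgroup G), ∀ b ∈ (P : Subgroup G), a * b = b * a
  cQ : ∀ a ∈ (Q : Subgroup G), ∀ b ∈ (Q : Subgroup G), a * b = b * a
  cPQ : ∀ a ∈ (P : Subgroup G), ∀ b ∈ (Q : Subgroup G), a * b = b * a
  top : N ⊔ ((P : Subgroup G) ⊔ (Q : Subgroup G)) = ⊤
  hp : ¬ p ∣ Nat.card N
  hq : ¬ q ∣ Nat.card N
  hno : ∀ x : G, p ∣ cs x → q ∣ cs x → False
  hdis : ∀ (r : ℕ) (x y : G), r.Prime → p ∣ cs x → r ∣ cs x → r ∣ cs y → q ∣ cs y → False
  hA : ∃ x : G, p ∣ cs x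
  hB : ∃ x : G, q ∣ cs x

namespace Setting

variable {p q : ℕ} [Fact p.Prime] [Fact q.Prime] {P : Sylow p G} {Q : Sylow q G} {N : Subgroup G}

omit [Finite G] in
theorem symm (h : Setting p q P Q N) : Setting q p Q P N where
  normal := h.normal
  cP := h.cQ
  cQ := h.cP
  cPQ := fun a ha b hb => (h.cPQ b hb a ha).symm
  top := by rw [sup_comm (Q : Subgroup G)]; exact h.top
  hp := h.hq
  hq := h.hp
  hno := fun x a b => h.hno x b a
  hdis := fun r x y hr a b c d => h.hdis r y x hr d c b a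
  hA := h.hB
  hB := h.hA

omit [Finite G] in
theorem le_centralizer (h : Setting p q P Q N) :
    (P : Subgroup G) ⊔ (Q : Subgroup G) ≤ Subgroup.centralizer ((P : Subgroup G) : Set G) :=
  sup_le (fun a ha => Subgroup.mem_centralizer_iff.mpr fun b hb => h.cP b hb a ha)
    (fun a ha => Subgroup.mem_centralizer_iff.mpr fun b hb => h.cPQ b hb a ha)

theorem conj_into (h : Setting p q P Q N) {x : G} (hx : ¬ p ∣ cs x) :
    ∃ n ∈ N, n⁻¹ * x * n ∈ Subgroup.centralizer ((P : Subgroup G) : Set G) := by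
  haveI := h.normal
  exact exists_conj_mem' N P (h.le_centralizer.trans (Subgroup.centralizer_le_normalizer _)) h.top hx

/-- `q` divides the class size of some element of `C_N(P)`. -/
theorem exists_d (h : Setting p q P Q N) :
    ∃ d ∈ N, d ∈ Subgroup.centralizer ((P : Subgroup G) : Set G) ∧ q ∣ cs d := by
  haveI := h.normal
  by_contra hcon
  push Not at hcon
  have hnot : ∀ x ∈ N, ¬ q ∣ cs x := by
    intro x hx hq
    obtain ⟨n, hn, hn'⟩ := h.conj_into (fun hp => h.hno x hp hq)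
    refine hcon _ ?_ hn' (by rwa [conj_cs])
    exact mul_mem (mul_mem (inv_mem hn) hx) hn
  have hH : (Subgroup.centralizer ((Q : Subgroup G) : Set G)).subgroupOf N = ⊤ := by
    refine eq_top_of_conj_cover _ fun g => ?_
    obtain ⟨n, hn, hn'⟩ := h.symm.conj_into (hnot g g.2)
    refine ⟨⟨n⁻¹, inv_mem hn⟩, ?_⟩
    rw [Subgroup.mem_subgroupOf]
    simpa using hn'
  have htop : Subgroup.centralizer ((Q : Subgroup G) : Set G) = ⊤ := by
    rw [eq_top_iff, ← h.top, sup_le_iff, sup_comm (P : Subgroup G)]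
    exact ⟨Subgroup.subgroupOf_eq_top.mp hH, h.symm.le_centralizer⟩
  obtain ⟨x, hx⟩ := h.hB
  exact not_dvd_of_mem_centralizer Q (z := x) (htop ▸ trivial) hx

omit [Finite G] in
theorem orderOf_coprime (h : Setting p q P Q N) {a d : G} (ha : a ∈ (P : Subgroup G)) (hd : d ∈ N) :
    (orderOf a).Coprime (orderOf d) := by
  obtain ⟨k, hk⟩ := IsPGroup.iff_orderOf.mp P.isPGroup' ⟨a, ha⟩
  rw [Subgroup.orderOf_mk] at hk
  rw [hk]
  exact Nat.Coprime.pow_left k (((Fact.out : p.Prime).coprime_iff_not_dvd).mpr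
    fun hd' => h.hp (hd'.trans (N.orderOf_dvd_natCard hd)))

/-- The class sizes of elements of `P` and of `Q` are coprime. -/
theorem coprime (h : Setting p q P Q N) {a b : G} (ha : a ∈ (P : Subgroup G)) (hb : b ∈ (Q : Subgroup G)) :
    (cs a).Coprime (cs b) := by
  refine Nat.coprime_of_dvd fun r hr hra hrb => ?_
  obtain ⟨d, hdN, hdP, hdq⟩ := h.exists_d
  obtain ⟨e, heN, heQ, hep⟩ := h.symm.exists_d
  have h1 := centralizer_mul_le (Subgroup.mem_centralizer_iff.mp hdP a ha) (h.orderOf_coprime ha hdN)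
  have h2 := centralizer_mul_le (Subgroup.mem_centralizer_iff.mp heQ b hb) (h.symm.orderOf_coprime hb heN)
  exact h.hdis r (b * e) (a * d) hr (hep.trans (Subgroup.index_dvd_of_le (h2.trans inf_le_right)))
    (hrb.trans (Subgroup.index_dvd_of_le (h2.trans inf_le_left)))
    (hra.trans (Subgroup.index_dvd_of_le (h1.trans inf_le_left)))
    (hdq.trans (Subgroup.index_dvd_of_le (h1.trans inf_le_right)))

theorem comm_mem (h : Setting p q P Q N) {n b : G} (hb : b ∈ (Q : Subgroup G)) :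
    n * b * n⁻¹ * b⁻¹ ∈ Subgroup.centralizer ((P : Subgroup G) : Set G) := by
  rw [Subgroup.mem_centralizer_iff]
  intro a ha
  obtain ⟨g, hga, hgb⟩ := exists_conj_pair (h.coprime ha hb) (self_mem_cls a) (conj_mem_cls n (self_mem_cls b))
  have hga' : Commute g a := by
    have := congrArg (· * g) hga
    simpa [mul_assoc, Commute, SemiconjBy] using this
  have hab : Commute b a := (h.cPQ a ha b hb).symm
  have : Commute (n * b * n⁻¹ * b⁻¹) a := by
    rw [← hgb]
    exact ((hga'.mul_left hab).mul_left hga'.inv_left).mul_left hab.inv_left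
  exact this.symm.eq

/-- A normal subgroup centralised by `P` containing an element whose class size is divisible by `q`. -/
theorem exists_normal (h : Setting p q P Q N) : ∃ D : Subgroup G, D.Normal ∧
    D ≤ Subgroup.centralizer ((P : Subgroup G) : Set G) ∧ ∃ y ∈ D, q ∣ cs y := by
  haveI := h.normal
  set S : Set G := {z | ∃ n ∈ N, ∃ b ∈ (Q : Subgroup G), z = n * b * n⁻¹ * b⁻¹}
  set D := Subgroup.closure S
  have hDP : D ≤ Subgroup.centralizer ((P : Subgroup G) : Set G) := by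
    rw [Subgroup.closure_le]
    rintro _ ⟨n, -, b, hb, rfl⟩
    exact h.comm_mem hb
  have hDN : D ≤ N := by
    rw [Subgroup.closure_le]
    rintro _ ⟨n, hn, b, -, rfl⟩
    have : n * (b * n⁻¹ * b⁻¹) ∈ N := mul_mem hn (Subgroup.Normal.conj_mem h.normal _ (inv_mem hn) b)
    simpa [mul_assoc] using this
  have hgen : ∀ g : G, (∀ z ∈ S, g * z * g⁻¹ ∈ D) → ∀ x ∈ D, g * x * g⁻¹ ∈ D := by
    intro g hg x hx
    have h1 : D ≤ D.comap (MulAut.conj g).toMonoidHom := by
      rw [Subgroup.closure_le]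
      exact fun z hz => hg z hz
    exact h1 hx
  have hnorm : ∀ g : G, g ∈ N ∨ g ∈ (P : Subgroup G) ∨ g ∈ (Q : Subgroup G) → g ∈ Subgroup.normalizer (D : Set G) := by
    have key : ∀ g : G, g ∈ N ∨ g ∈ (P : Subgroup G) ∨ g ∈ (Q : Subgroup G) → ∀ x ∈ D, g * x * g⁻¹ ∈ D := by
      intro g hg
      refine hgen g ?_
      rintro _ ⟨n, hn, b, hb, rfl⟩
      rcases hg with hg | hg | hg
      · have e : g * (n * b * n⁻¹ * b⁻¹) * g⁻¹ = (g * n * b * (g * n)⁻¹ * b⁻¹) * (g * b * g⁻¹ * b⁻¹)⁻¹ := by group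
        rw [e]
        exact mul_mem (Subgroup.subset_closure ⟨g * n, mul_mem hg hn, b, hb, rfl⟩)
          (inv_mem (Subgroup.subset_closure ⟨g, hg, b, hb, rfl⟩))
      · have hc : g * (n * b * n⁻¹ * b⁻¹) = (n * b * n⁻¹ * b⁻¹) * g :=
          Subgroup.mem_centralizer_iff.mp (h.comm_mem hb) g hg
        rw [hc, mul_inv_cancel_right]
        exact Subgroup.subset_closure ⟨n, hn, b, hb, rfl⟩
      · have hc : g * b = b * g := h.cQ g hg b hb
        have hgb : g * b * g⁻¹ = b := by rw [hc, mul_inv_cancel_right]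
        have e : g * (n * b * n⁻¹ * b⁻¹) * g⁻¹ =
            (g * n * g⁻¹) * (g * b * g⁻¹) * (g * n * g⁻¹)⁻¹ * (g * b * g⁻¹)⁻¹ := by group
        rw [e, hgb]
        exact Subgroup.subset_closure ⟨_, Subgroup.Normal.conj_mem h.normal n hn g, b, hb, rfl⟩
    intro g hg
    rw [Subgroup.mem_normalizer_iff]
    intro x
    refine ⟨fun hx => key g hg x hx, fun hx => ?_⟩
    have h' := key g⁻¹ (hg.imp inv_mem (Or.imp inv_mem inv_mem)) _ hx
    simpa [mul_assoc] using h'
  haveI hDn : D.Normal := by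
    rw [← Subgroup.normalizer_eq_top_iff, eq_top_iff, ← h.top]
    exact sup_le (fun g hg => hnorm g (Or.inl hg)) (sup_le (fun g hg => hnorm g (Or.inr (Or.inl hg)))
      (fun g hg => hnorm g (Or.inr (Or.inr hg))))
  refine ⟨D, hDn, hDP, ?_⟩
  by_contra hcon
  push Not at hcon
  haveI : Fact q.Prime := inferInstance
  have hcop : (Nat.card (Q : Subgroup G)).Coprime (Nat.card D) := by
    rw [Sylow.card_eq_multiplicity]
    exact Nat.Coprime.pow_left _ (((Fact.out : q.Prime).coprime_iff_not_dvd).mpr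
      fun hd => h.hq (hd.trans (Subgroup.card_dvd_of_le hDN)))
  have hQD : (Q : Subgroup G) ≤ Subgroup.normalizer (D : Set G) := fun g hg => hnorm g (Or.inr (Or.inr hg))
  set CQ := Subgroup.centralizer ((Q : Subgroup G) : Set G) with hCQ
  have hcover : CQ.subgroupOf D = ⊤ := by
    refine eq_top_of_conj_cover _ fun g => ?_
    obtain ⟨n, hn, hn'⟩ := h.symm.conj_into (hcon g g.2)
    obtain ⟨c, hc, hnc⟩ := Cfsg.Agent.CoprimeAction.exists_fixed_mem_coset hQD hcop
      (Or.inl (Cfsg.Agent.CoprimeAction.isSolvable_of_isPGroup Q.isPGroup')) n (fun b hb => by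
        have := Subgroup.subset_closure (k := S) ⟨n⁻¹, inv_mem hn, b, hb, rfl⟩
        rwa [inv_inv] at this)
    have hd : c * (n⁻¹ * c) * c⁻¹ ∈ D := hDn.conj_mem _ hnc c
    refine ⟨⟨_, hd⟩, ?_⟩
    rw [Subgroup.mem_subgroupOf]
    have hc' : c ∈ CQ := hc
    have := mul_mem (mul_mem hc' hn') (inv_mem hc')
    simpa [mul_assoc] using this
  have hQN : ∀ n ∈ N, ∀ b ∈ (Q : Subgroup G), n * b * n⁻¹ * b⁻¹ = 1 := by
    intro n hn b hb
    set u := n * b * n⁻¹ * b⁻¹ with hu
    have huD : u ∈ D := Subgroup.subset_closure ⟨n, hn, b, hb, rfl⟩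
    have hub : Commute u b := (Subgroup.mem_centralizer_iff.mp (Subgroup.subgroupOf_eq_top.mp hcover huD) b hb).symm
    have h1 : (n * b * n⁻¹) ^ orderOf b = 1 := by rw [conj_pow, pow_orderOf_eq_one, mul_one, mul_inv_cancel]
    have e : n * b * n⁻¹ = u * b := by rw [hu]; group
    rw [e, hub.mul_pow, pow_orderOf_eq_one, mul_one] at h1
    exact orderOf_eq_one_iff.mp (Nat.eq_one_of_dvd_coprimes
      (h.symm.orderOf_coprime hb (hDN huD)) (orderOf_dvd_of_pow_eq_one h1) dvd_rfl)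
  obtain ⟨d, hd, -, hdq⟩ := h.exists_d
  refine not_dvd_of_mem_centralizer Q (z := d) (Subgroup.mem_centralizer_iff.mpr fun b hb => ?_) hdq
  have := hQN d hd b hb
  rw [mul_inv_eq_one, mul_inv_eq_iff_eq_mul] at this
  exact this.symm

theorem false (h : Setting p q P Q N) : False := by
  obtain ⟨D, hD, hDP, y, hy, hyq⟩ := h.exists_normal
  obtain ⟨E', hE, hEQ, z, hz, hzp⟩ := h.symm.exists_normal
  have key : ∀ {r : ℕ} [Fact r.Prime] (R : Sylow r G) (F : Subgroup G), F.Normal →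
      F ≤ Subgroup.centralizer ((R : Subgroup G) : Set G) → ∀ (f w : G), f ∈ F →
      r ∣ cs w → r ∣ cs (f * w) ∧ r ∣ cs (w * f) := by
    intro r _ R F hF hFR f w hf hw
    have aux : ∀ (R' : Sylow r G), f ∈ Subgroup.centralizer ((R' : Subgroup G) : Set G) := by
      intro R'
      obtain ⟨g, rfl⟩ := MulAction.exists_smul_eq G R R'
      rw [Subgroup.mem_centralizer_iff]
      rintro _ ⟨a, ha, rfl⟩
      have h1 := Subgroup.mem_centralizer_iff.mp (hFR (hF.conj_mem f hf g⁻¹)) a ha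
      rw [inv_inv] at h1
      show g * a * g⁻¹ * f = f * (g * a * g⁻¹)
      calc g * a * g⁻¹ * f = g * (a * (g⁻¹ * f * g)) * g⁻¹ := by group
        _ = g * ((g⁻¹ * f * g) * a) * g⁻¹ := by rw [h1]
        _ = f * (g * a * g⁻¹) := by group
    constructor
    · by_contra hn
      obtain ⟨R', hR'⟩ := exists_sylow_le hn
      refine not_dvd_index_of_sylow_le R' (fun a ha => mem_cent.mpr ?_) hw
      have h1 : Commute a (f * w) := mem_cent.mp (hR' ha)
      have h2 : Commute a f := Subgroup.mem_centralizer_iff.mp (aux R') a ha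
      have := h2.inv_right.mul_right h1
      rwa [inv_mul_cancel_left] at this
    · by_contra hn
      obtain ⟨R', hR'⟩ := exists_sylow_le hn
      refine not_dvd_index_of_sylow_le R' (fun a ha => mem_cent.mpr ?_) hw
      have h1 : Commute a (w * f) := mem_cent.mp (hR' ha)
      have h2 : Commute a f := Subgroup.mem_centralizer_iff.mp (aux R') a ha
      have := h1.mul_right h2.inv_right
      rwa [mul_inv_cancel_right] at this
  exact h.hno (y * z) (key P D hD hDP y z hy hzp).1 (key Q E' hE hEQ z y hz hyq).2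

end Setting

omit [Finite G] in
theorem exists_overlap [Finite G] {p r : ℕ} (hp : 2 * Nat.card {x : G // ¬ p ∣ cs x} ≤ Nat.card G)
    (hr : 2 * Nat.card {x : G // ¬ r ∣ cs x} ≤ Nat.card G) (hp1 : p ≠ 1) (hr1 : r ≠ 1) :
    ∃ x : G, p ∣ cs x ∧ r ∣ cs x := by
  classical
  haveI := Fintype.ofFinite G
  by_contra h
  push Not at h
  rw [Nat.card_eq_fintype_card, Fintype.card_subtype, Nat.card_eq_fintype_card] at hp hr
  set A := Finset.univ.filter (fun x : G => ¬ p ∣ cs x)
  set B := Finset.univ.filter (fun x : G => ¬ r ∣ cs x)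
  have hu : A ∪ B = Finset.univ := by
    ext x
    simp only [A, B, Finset.mem_union, Finset.mem_filter, Finset.mem_univ, true_and, iff_true]
    by_cases hx : p ∣ cs x
    · exact Or.inr (h x hx)
    · exact Or.inl hx
  have hi : 0 < (A ∩ B).card := Finset.card_pos.mpr ⟨1, by
    simp [A, B, cs, Cfsg.Agent.ClassPrimes.index_centralizer_one, hp1, hr1]⟩
  have := Finset.card_union_add_card_inter A B
  rw [hu, Finset.card_univ] at this
  omega

theorem two_mul_card_le_of_subgroup {p : ℕ} {L : Subgroup G} (hL : L ≠ ⊤) (h : ∀ x, ¬ p ∣ cs x → x ∈ L) :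
    2 * Nat.card {x : G // ¬ p ∣ cs x} ≤ Nat.card G := by
  have h1 : Nat.card {x : G // ¬ p ∣ cs x} ≤ Nat.card L :=
    Nat.card_le_card_of_injective (fun x => ⟨x.1, h x.1 x.2⟩) (fun a b hab => by simpa [Subtype.ext_iff] using hab)
  have h2 : 2 ≤ L.index := by
    have := Subgroup.index_ne_zero_of_finite (H := L)
    have := mt Subgroup.index_eq_one.mp hL
    omega
  rw [← L.index_mul_card]
  exact (Nat.mul_le_mul_left 2 h1).trans (Nat.mul_le_mul_right _ h2)

/-- The solvable residual. -/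
theorem exists_residual (hG : ¬ Group.IsSolvable G) : ∃ M : Subgroup G, M.Normal ∧
    ¬ M ≤ Subgroup.centralizer (M : Set G) ∧
    ∀ (s : ℕ) [Fact s.Prime] (R : Sylow s G) (K : Subgroup G) [K.Normal],
      K.IsComplement' (R : Subgroup G) → M ≤ K := by
  obtain ⟨n, hn⟩ : ∃ n, ∀ m, Nat.card (derivedSeries G n) ≤ Nat.card (derivedSeries G m) := by
    classical
    have hex : ∃ c, ∃ n, Nat.card (derivedSeries G n) = c := ⟨_, 0, rfl⟩
    obtain ⟨n, hn⟩ := Nat.find_spec hex
    exact ⟨n, fun m => hn ▸ Nat.find_min' hex ⟨m, rfl⟩⟩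
  have hle : ∀ m, derivedSeries G n ≤ derivedSeries G m := by
    intro m
    have h1 : derivedSeries G (max n m) = derivedSeries G n :=
      Subgroup.eq_of_le_of_card_ge (derivedSeries_antitone G (le_max_left n m)) (hn _)
    exact h1 ▸ derivedSeries_antitone G (le_max_right n m)
  refine ⟨derivedSeries G n, derivedSeries_normal G n, fun h => hG ?_, fun s _ R K _ hK => ?_⟩
  · refine ⟨⟨n + 1, ?_⟩⟩
    rw [derivedSeries_succ, Subgroup.commutator_eq_bot_iff_le_centralizer]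
    exact h
  · haveI : Group.IsNilpotent (R : Subgroup G) := R.isPGroup'.isNilpotent
    have e := hK.symm.QuotientMulEquiv
    haveI : Group.IsSolvable (G ⧸ K) :=
      Group.isSolvable_of_surjective (f := e.symm.toMonoidHom) e.symm.surjective
    obtain ⟨m, hm⟩ := Group.IsSolvable.solvable (G := G ⧸ K)
    refine (hle m).trans ?_
    have h1 := map_derivedSeries_le_derivedSeries (QuotientGroup.mk' K) m
    rw [hm, le_bot_iff, Subgroup.map_eq_bot_iff, QuotientGroup.ker_mk'] at h1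
    exact h1

theorem not_dvd_card_complement {p : ℕ} [Fact p.Prime] (P : Sylow p G) {K : Subgroup G}
    (hK : K.IsComplement' (P : Subgroup G)) : ¬ p ∣ Nat.card K := by
  rw [← hK.index_eq_card]
  exact P.not_dvd_index

omit [Finite G] in
theorem comm_of_normalizer {p : ℕ} (P : Sylow p G) (K : Subgroup G) [K.Normal]
    (hK : K.IsComplement' (P : Subgroup G))
    (hc : ∀ a ∈ (P : Subgroup G), ∀ b ∈ (P : Subgroup G), a * b = b * a)
    {a b : G} (ha : a ∈ (P : Subgroup G)) (hb : b ∈ Subgroup.normalizer ((P : Subgroup G) : Set G)) :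
    a * b = b * a := by
  have hb' : b ∈ ((K ⊔ (P : Subgroup G) : Subgroup G) : Set G) := by rw [hK.sup_eq_top]; trivial
  rw [Subgroup.normal_mul] at hb'
  obtain ⟨k, hk, a', ha', rfl⟩ := hb'
  have h1 : k * a' * a * (k * a')⁻¹ * a⁻¹ ∈ K ⊓ (P : Subgroup G) := by
    refine Subgroup.mem_inf.mpr ⟨?_, mul_mem ((Subgroup.mem_normalizer_iff.mp hb a).mp ha) (inv_mem ha)⟩
    have e : k * a' * a * (k * a')⁻¹ * a⁻¹ = k * (a * k⁻¹ * a⁻¹) := by
      have : a' * a * a'⁻¹ = a := by rw [hc a' ha' a ha, mul_inv_cancel_right]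
      calc k * a' * a * (k * a')⁻¹ * a⁻¹ = k * (a' * a * a'⁻¹) * k⁻¹ * a⁻¹ := by group
        _ = _ := by rw [this]; group
    rw [e]
    exact mul_mem hk (Subgroup.Normal.conj_mem ‹K.Normal› _ (inv_mem hk) a)
  rw [disjoint_iff.mp hK.disjoint, Subgroup.mem_bot, mul_inv_eq_one, mul_inv_eq_iff_eq_mul] at h1
  exact h1.symm

/-- `q` has a normal complement and at least half of the class sizes are divisible by `p`. -/
theorem big_case (hG : ¬ Group.IsSolvable G) {p q : ℕ} [Fact p.Prime] [Fact q.Prime]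
    (hbig : 2 * Nat.card {x : G // ¬ p ∣ cs x} ≤ Nat.card G) (hq : Cfsg.HasNormalPComplement q G)
    (hB : ∃ x : G, q ∣ cs x) (hno : ∀ x : G, p ∣ cs x → q ∣ cs x → False) :
    ∃ r : ℕ, r.Prime ∧ r ≠ p ∧ r ≠ q ∧ (∃ x : G, p ∣ cs x ∧ r ∣ cs x) ∧ ∃ y : G, r ∣ cs y ∧ q ∣ cs y := by
  obtain ⟨M, hMn, hM, hres⟩ := exists_residual hG
  haveI := hMn
  obtain ⟨Q, K, hKn, hK⟩ := hq
  haveI := hKn
  have hMK := hres q Q K hK
  obtain ⟨x, hxq, hxM⟩ := exists_dvd_not_le Q K M hK hMK hM hB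
  obtain ⟨r, hr, hrd⟩ := Nat.exists_prime_and_dvd (mt Subgroup.relIndex_eq_one.mp hxM)
  haveI := Fact.mk hr
  have hrM : r ∣ Nat.card M := hrd.trans (Subgroup.relIndex_dvd_card _ _)
  have hrx : r ∣ cs x := hrd.trans (relIndex_dvd_index _ M)
  have hrnil : ¬ Cfsg.HasNormalPComplement r G := by
    rintro ⟨R, L, hLn, hL⟩
    haveI := hLn
    exact not_dvd_card_complement R hL (hrM.trans (Subgroup.card_dvd_of_le (hres r R L hL)))
  refine ⟨r, hr, fun h => hno x (h ▸ hrx) hxq, fun h => ?_, ?_, x, hrx, hxq⟩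
  · subst h; exact hrnil ⟨Q, K, hKn, hK⟩
  · exact exists_overlap hbig (Cfsg.Agent.ClassPrimes.two_mul_card_le hrnil) (Fact.out : p.Prime).ne_one hr.ne_one

theorem both_case {p q : ℕ} [Fact p.Prime] [Fact q.Prime] (hpq : p ≠ q)
    (P : Sylow p G) (Kp : Subgroup G) [Kp.Normal] (hKp : Kp.IsComplement' (P : Subgroup G))
    (hcP : ∀ a ∈ (P : Subgroup G), ∀ b ∈ (P : Subgroup G), a * b = b * a)
    (Q₀ : Sylow q G) (Kq : Subgroup G) [Kq.Normal] (hKq : Kq.IsComplement' (Q₀ : Subgroup G))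
    (hcQ : ∀ a ∈ (Q₀ : Subgroup G), ∀ b ∈ (Q₀ : Subgroup G), a * b = b * a)
    (hA : ∃ x : G, p ∣ cs x) (hB : ∃ x : G, q ∣ cs x) (hno : ∀ x : G, p ∣ cs x → q ∣ cs x → False)
    (hdis : ∀ (r : ℕ) (x y : G), r.Prime → p ∣ cs x → r ∣ cs x → r ∣ cs y → q ∣ cs y → False) : False := by
  have hp : p.Prime := Fact.out
  have hq : q.Prime := Fact.out
  have hKpi : Kp.index = Nat.card (P : Subgroup G) := hKp.symm.index_eq_card
  have hKqi : Kq.index = Nat.card (Q₀ : Subgroup G) := hKq.symm.index_eq_card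
  obtain ⟨i, hi⟩ := IsPGroup.iff_card.mp P.isPGroup'
  obtain ⟨j, hj⟩ := IsPGroup.iff_card.mp Q₀.isPGroup'
  have hPKq : (P : Subgroup G) ≤ Kq := by
    rw [← Subgroup.relIndex_eq_one]
    refine Nat.eq_one_of_dvd_coprimes (a := p ^ i) (b := q ^ j) (((Nat.coprime_primes hp hq).mpr hpq).pow i j)
      (hi ▸ Subgroup.relIndex_dvd_card _ _) ?_
    rw [← hj, ← hKqi]
    exact Subgroup.relIndex_dvd_index_of_normal _ _
  have hfr : Subgroup.normalizer ((P : Subgroup G) : Set G) ⊔ Kq = ⊤ := Sylow.normalizer_sup_eq_top' P hPKq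
  have hqN : ¬ q ∣ (Subgroup.normalizer ((P : Subgroup G) : Set G)).index := by
    intro hd
    apply not_dvd_card_complement Q₀ hKq
    refine hd.trans ?_
    have e : (Subgroup.normalizer ((P : Subgroup G) : Set G)).index = (Subgroup.normalizer ((P : Subgroup G) : Set G)).relIndex Kq := by
      set NP := Subgroup.normalizer ((P : Subgroup G) : Set G)
      have h1 : Kq.relIndex NP = Kq.index := by
        rw [← Subgroup.relIndex_sup_right NP Kq, hfr, Subgroup.relIndex_top_right]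
      have e1 := Subgroup.relIndex_mul_index (inf_le_left : NP ⊓ Kq ≤ NP)
      have e2 := Subgroup.relIndex_mul_index (inf_le_right : NP ⊓ Kq ≤ Kq)
      rw [Subgroup.inf_relIndex_left, h1] at e1
      rw [Subgroup.inf_relIndex_right, ← e1, Nat.mul_comm] at e2
      exact (mul_left_cancel₀ Subgroup.index_ne_zero_of_finite e2).symm
    rw [e]
    exact Subgroup.relIndex_dvd_card _ _
  obtain ⟨Q, hQ⟩ := exists_sylow_le hqN
  obtain ⟨g, hg⟩ := MulAction.exists_smul_eq G Q₀ Q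
  have hcQ' : ∀ a ∈ (Q : Subgroup G), ∀ b ∈ (Q : Subgroup G), a * b = b * a := by
    rw [← hg, Sylow.coe_subgroup_smul]
    rintro _ ⟨a, ha, rfl⟩ _ ⟨b, hb, rfl⟩
    show g * a * g⁻¹ * (g * b * g⁻¹) = g * b * g⁻¹ * (g * a * g⁻¹)
    calc g * a * g⁻¹ * (g * b * g⁻¹) = g * (a * b) * g⁻¹ := by group
      _ = g * (b * a) * g⁻¹ := by rw [hcQ a ha b hb]
      _ = _ := by group
  have htop : Kp ⊓ Kq ⊔ ((P : Subgroup G) ⊔ (Q : Subgroup G)) = ⊤ := by
    rw [← Subgroup.index_eq_one]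
    set H := Kp ⊓ Kq ⊔ ((P : Subgroup G) ⊔ (Q : Subgroup G))
    have h1 : H.index ∣ p ^ i * q ^ j := by
      refine (Subgroup.index_dvd_of_le (le_sup_left : Kp ⊓ Kq ≤ H)).trans ?_
      rw [← Subgroup.relIndex_mul_index (inf_le_right : Kp ⊓ Kq ≤ Kq), Subgroup.inf_relIndex_right,
        ← hi, ← hj, ← hKpi, ← hKqi]
      exact Nat.mul_dvd_mul_right (Subgroup.relIndex_dvd_index_of_normal _ _) _
    have h2 : ¬ p ∣ H.index := not_dvd_index_of_sylow_le P (le_sup_left.trans le_sup_right)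
    have h3 : ¬ q ∣ H.index := not_dvd_index_of_sylow_le Q (le_sup_right.trans le_sup_right)
    exact Nat.eq_one_of_dvd_coprimes (Nat.Coprime.mul_right ((((hp.coprime_iff_not_dvd).mpr h2).symm).pow_right i)
      ((((hq.coprime_iff_not_dvd).mpr h3).symm).pow_right j)) dvd_rfl h1
  exact Setting.false (p := p) (q := q) (P := P) (Q := Q) (N := Kp ⊓ Kq)
    { normal := inferInstance
      cP := hcP
      cQ := hcQ'
      cPQ := fun a ha b hb => comm_of_normalizer P Kp hKp hcP ha (hQ hb)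
      top := htop
      hp := fun h => not_dvd_card_complement P hKp (h.trans (Subgroup.card_dvd_of_le inf_le_left))
      hq := fun h => not_dvd_card_complement Q₀ hKq (h.trans (Subgroup.card_dvd_of_le inf_le_right))
      hno := hno, hdis := hdis, hA := hA, hB := hB }

/-- Let G be a finite non-solvable group and p ≠ q primes each dividing the size of some conjugacy class of G. Then either some class size is divisible by pq, or there is a prime r, different from p and q, such that some class size is divisible by pr and some class size is divisible by rq. -/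
theorem result {G : Type*} [Group G] [Finite G] (hG : ¬ Group.IsSolvable G)
    (p q : ℕ) (hp : p.Prime) (hq : q.Prime) (hpq : p ≠ q) (hp' : ∃ x : G, p ∣ (Subgroup.centralizer ({x} : Set G)).index) (hq' : ∃ x : G, q ∣ (Subgroup.centralizer ({x} : Set G)).index) :
    (∃ x : G, p * q ∣ (Subgroup.centralizer ({x} : Set G)).index) ∨ ∃ r : ℕ, r.Prime ∧ r ≠ p ∧ r ≠ q ∧ (∃ x : G, p * r ∣ (Subgroup.centralizer ({x} : Set G)).index) ∧ (∃ y : G, r * q ∣ (Subgroup.centralizer ({y} : Set G)).index) := by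
  haveI := Fact.mk hp
  haveI := Fact.mk hq
  by_contra hcon
  push Not at hcon
  obtain ⟨hno', hdis'⟩ := hcon
  have hmul : ∀ {a b n : ℕ}, a.Prime → b.Prime → a ≠ b → a ∣ n → b ∣ n → a * b ∣ n :=
    fun ha hb h h1 h2 => ((Nat.coprime_primes ha hb).mpr h).mul_dvd_of_dvd_of_dvd h1 h2
  have hno : ∀ x : G, p ∣ cs x → q ∣ cs x → False := fun x a b => hno' x (hmul hp hq hpq a b)
  have hdis : ∀ (r : ℕ) (x y : G), r.Prime → p ∣ cs x → r ∣ cs x → r ∣ cs y → q ∣ cs y → False := by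
    intro r x y hr a b c d
    have hrp : r ≠ p := fun h => hno y (h ▸ c) d
    have hrq : r ≠ q := fun h => hno x a (h ▸ b)
    exact hdis' r hr hrp hrq ⟨x, hmul hp hr (Ne.symm hrp) a b⟩ y (hmul hr hq hrq c d)
  have side : ∀ {a b : ℕ} [Fact a.Prime] [Fact b.Prime],
      2 * Nat.card {x : G // ¬ a ∣ cs x} ≤ Nat.card G → Cfsg.HasNormalPComplement b G →
      (∃ x : G, b ∣ cs x) → (∀ x : G, a ∣ cs x → b ∣ cs x → False) →
      (∀ (r : ℕ) (x y : G), r.Prime → a ∣ cs x → r ∣ cs x → r ∣ cs y → b ∣ cs y → False) → False := by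
    intro a b _ _ h1 h2 h3 h4 h5
    obtain ⟨r, hr, -, -, ⟨x, hx1, hx2⟩, y, hy1, hy2⟩ := big_case hG h1 h2 h3 h4
    exact h5 r x y hr hx1 hx2 hy1 hy2
  have hno2 : ∀ x : G, q ∣ cs x → p ∣ cs x → False := fun x a b => hno x b a
  have hdis2 : ∀ (r : ℕ) (x y : G), r.Prime → q ∣ cs x → r ∣ cs x → r ∣ cs y → p ∣ cs y → False :=
    fun r x y hr a b c d => hdis r y x hr d c b a
  by_cases hnp : Cfsg.HasNormalPComplement p G
  swap
  · by_cases hnq : Cfsg.HasNormalPComplement q G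
    · exact side (Cfsg.Agent.ClassPrimes.two_mul_card_le hnp) hnq hq' hno hdis
    · obtain ⟨x, hx⟩ := Cfsg.Agent.ClassPrimes.exists_mul_dvd hpq hnp hnq
      exact hno' x hx
  by_cases hnq : Cfsg.HasNormalPComplement q G
  swap
  · exact side (Cfsg.Agent.ClassPrimes.two_mul_card_le hnq) hnp hp' hno2 hdis2
  obtain ⟨P, Kp, hKpn, hKp⟩ := id hnp
  obtain ⟨Q, Kq, hKqn, hKq⟩ := id hnq
  haveI := hKpn
  haveI := hKqn
  by_cases hcP : ∀ a ∈ (P : Subgroup G), ∀ b ∈ (P : Subgroup G), a * b = b * a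
  swap
  · obtain ⟨L, hL, hL'⟩ := exists_proper P Kp hKp hcP
    exact side (two_mul_card_le_of_subgroup hL hL') hnq hq' hno hdis
  by_cases hcQ : ∀ a ∈ (Q : Subgroup G), ∀ b ∈ (Q : Subgroup G), a * b = b * a
  swap
  · obtain ⟨L, hL, hL'⟩ := exists_proper Q Kq hKq hcQ
    exact side (two_mul_card_le_of_subgroup hL hL') hnp hp' hno2 hdis2
  exact both_case hpq P Kp hKp hcP Q Kq hKq hcQ hp' hq' hno hdis

end Cfsg.Agent.S4161
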