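import Cfsg.Statements.S4163

set_option autoImplicit false
open Cfsg
open scoped commutatorElement

namespace Cfsg.Agent.S4163

/-- Commutators of the abelian normal subgroup with an element of small class are central. -/
theorem commutator_central {G : Type*} [Group G] [Finite G] (A : Subgroup G) [A.Normal]
    (hA : IsMulCommutative A) (m : ℕ)
    (hmin : ∀ x : G, 1 < (Subgroup.centralizer ({x} : Set G)).index → m ≤ (Subgroup.centralizer ({x} : Set G)).index)
    (x : G) (hx : (Subgroup.centralizer ({x} : Set G)).index = 1 ∨ (Subgroup.centralizer ({x} : Set G)).index = m)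
    (a : G) (ha : a ∈ A) : ⁅a, x⁆ ∈ Subgroup.center G := by
  classical
  rcases eq_or_ne ⁅a, x⁆ 1 with h1 | h1
  · rw [h1]; exact one_mem _
  rcases hx with hx | hx
  · exfalso
    apply h1
    rw [Subgroup.index_eq_one] at hx
    exact commutatorElement_eq_one_iff_mul_comm.mpr
      (Subgroup.mem_centralizer_singleton_iff.mp (by rw [hx]; trivial : a ∈ Subgroup.centralizer ({x} : Set G)))
  set C := Subgroup.centralizer ({x} : Set G) with hC
  set c := ⁅a, x⁆ with hc
  set B := C ⊔ A with hB
  set R : Set G := Set.range (fun b : A => ⁅(b : G), x⁆) with hR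
  have hRA : ∀ r ∈ R, r ∈ A := by
    rintro _ ⟨b, rfl⟩
    have e : ⁅(b : G), x⁆ = (b : G) * (x * (b : G)⁻¹ * x⁻¹) := by simp [commutatorElement_def, mul_assoc]
    simp only
    rw [e]
    exact mul_mem b.2 (Subgroup.Normal.conj_mem inferInstance _ (inv_mem b.2) x)
  have hstab : ∀ g ∈ B, ∀ r ∈ R, g * r * g⁻¹ ∈ R := by
    have hle : B ≤ Subgroup.normalizer R := by
      have hCR : ∀ g ∈ C, ∀ r ∈ R, g * r * g⁻¹ ∈ R := by
        rintro g hg _ ⟨b, rfl⟩
        refine ⟨⟨g * b * g⁻¹, Subgroup.Normal.conj_mem inferInstance _ b.2 g⟩, ?_⟩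
        simp only
        have h2 : g * x * g⁻¹ = x := by
          rw [Subgroup.mem_centralizer_singleton_iff] at hg
          rw [hg, mul_inv_cancel_right]
        calc ⁅g * (b : G) * g⁻¹, x⁆ = ⁅g * (b : G) * g⁻¹, g * x * g⁻¹⁆ := by rw [h2]
          _ = g * ⁅(b : G), x⁆ * g⁻¹ := by simp [commutatorElement_def, mul_assoc]
      have hAR : ∀ g ∈ A, ∀ r ∈ R, g * r * g⁻¹ = r := by
        intro g hg r hr
        rw [setLike_mul_comm hg (hRA r hr), mul_inv_cancel_right]
      refine sup_le (fun g hg r => ⟨fun hr => ?_, fun hr => ?_⟩) (fun g hg r => ⟨fun hr => ?_, fun hr => ?_⟩)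
      · exact hCR g hg r hr
      · have := hCR g⁻¹ (inv_mem hg) _ hr
        simpa [mul_assoc] using this
      · rw [hAR g hg r hr]; exact hr
      · have := hAR g⁻¹ (inv_mem hg) _ hr
        have e : r = g * r * g⁻¹ := by simpa [mul_assoc] using this
        rw [e]; exact hr
    exact fun g hg r hr => (hle hg r).mp hr
  have hiff : ∀ b b' : A, ⁅(b : G), x⁆ = ⁅(b' : G), x⁆ ↔ b⁻¹ * b' ∈ C.subgroupOf A := by
    intro b b'
    rw [Subgroup.mem_subgroupOf, hC, Subgroup.mem_centralizer_singleton_iff]
    have hx' : ∀ u : G, ⁅u, x⁆ = u * x * u⁻¹ * x⁻¹ := fun u => commutatorElement_def u x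
    rw [hx', hx', mul_left_inj]
    push_cast
    constructor
    · intro e
      calc (b : G)⁻¹ * b' * x = (b : G)⁻¹ * ((b' : G) * x * (b' : G)⁻¹) * b' := by group
        _ = (b : G)⁻¹ * ((b : G) * x * (b : G)⁻¹) * b' := by rw [e]
        _ = x * ((b : G)⁻¹ * b') := by group
    · intro e
      calc (b : G) * x * (b : G)⁻¹ = b * (x * ((b : G)⁻¹ * b')) * (b' : G)⁻¹ := by group
        _ = b * ((b : G)⁻¹ * b' * x) * (b' : G)⁻¹ := by rw [e]
        _ = _ := by group
  have hRcard : Nat.card R ≤ C.relIndex A := by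
    refine Nat.card_le_card_of_injective (fun r : R => QuotientGroup.mk (s := C.subgroupOf A) r.2.choose) ?_
    intro r r' h
    apply Subtype.ext
    rw [← r.2.choose_spec, ← r'.2.choose_spec]
    exact (hiff _ _).mpr (QuotientGroup.eq.mp h)
  set D := Subgroup.centralizer ({c} : Set G) with hD
  have hcR : c ∈ R := ⟨⟨a, ha⟩, rfl⟩
  have horb : D.relIndex B < Nat.card R := by
    have hone : (1 : G) ∈ R := ⟨1, by simp⟩
    have hdiff : (R \ {1}).ncard < R.ncard := Set.ncard_diff_singleton_lt_of_mem hone (Set.toFinite R)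
    rw [Nat.card_coe_set_eq]
    refine lt_of_le_of_lt ?_ hdiff
    rw [← Nat.card_coe_set_eq]
    refine Nat.card_le_card_of_injective (fun q : B ⧸ D.subgroupOf B =>
      (⟨(q.out : G) * c * (q.out : G)⁻¹, hstab _ q.out.2 _ hcR, by simpa using h1⟩ : ↥(R \ {1}))) ?_
    intro q q' h
    have h2 : (q.out : G) * c * (q.out : G)⁻¹ = (q'.out : G) * c * (q'.out : G)⁻¹ := congrArg Subtype.val h
    rw [← q.out_eq', ← q'.out_eq', QuotientGroup.eq, Subgroup.mem_subgroupOf]
    apply Subgroup.mem_centralizer_singleton_iff.mpr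
    push_cast
    calc (q.out : G)⁻¹ * q'.out * c = (q.out : G)⁻¹ * ((q'.out : G) * c * (q'.out : G)⁻¹) * q'.out := by group
      _ = (q.out : G)⁻¹ * ((q.out : G) * c * (q.out : G)⁻¹) * q'.out := by rw [h2]
      _ = c * ((q.out : G)⁻¹ * q'.out) := by group
  have hlt : D.index < m := by
    have hCB : C.relIndex A ≤ C.relIndex B := Subgroup.relIndex_le_of_le_right le_sup_right
      (show (C.subgroupOf B).index ≠ 0 from Subgroup.index_ne_zero_of_finite)
    rw [← hx, ← Subgroup.relIndex_mul_index (le_sup_left : C ≤ B)]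
    have hDB : D.index ≤ (D ⊓ B).index := Subgroup.index_antitone inf_le_left
    refine lt_of_le_of_lt hDB ?_
    rw [← Subgroup.relIndex_mul_index (inf_le_right : D ⊓ B ≤ B), Subgroup.inf_relIndex_right]
    exact mul_lt_mul_of_pos_right (lt_of_lt_of_le horb (hRcard.trans hCB)) (Nat.pos_of_ne_zero Subgroup.index_ne_zero_of_finite)
  have hD1 : D.index = 1 := by
    by_contra h
    have h0 : D.index ≠ 0 := Subgroup.index_ne_zero_of_finite
    exact absurd (hmin c (show 1 < D.index by omega)) (not_le.mpr hlt)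
  rw [Subgroup.index_eq_one] at hD1
  rw [Subgroup.mem_center_iff]
  intro g
  exact Subgroup.mem_centralizer_singleton_iff.mp (by rw [← hD, hD1]; trivial)

/-- Let G be a finite group with a normal abelian subgroup A satisfying C_G(A) = A. Suppose some conjugacy class of G has size greater than 1, let m be the smallest such size, and let M be the subgroup generated by the elements whose class has size 1 or m. Then M is nilpotent of class at most 3. -/
theorem result {G : Type*} [Group G] [Finite G]
    (A : Subgroup G) [A.Normal] (hA : IsMulCommutative A) (hCA : Subgroup.centralizer (A : Set G) = A)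
    (m : ℕ) (hm1 : 1 < m) (hm : ∃ x : G, (Subgroup.centralizer ({x} : Set G)).index = m) (hmin : ∀ x : G, 1 < (Subgroup.centralizer ({x} : Set G)).index → m ≤ (Subgroup.centralizer ({x} : Set G)).index) :
    Subgroup.upperCentralSeries ↥(Subgroup.closure {x : G | (Subgroup.centralizer ({x} : Set G)).index = 1 ∨ (Subgroup.centralizer ({x} : Set G)).index = m}) 3 = ⊤ := by
  set S := {x : G | (Subgroup.centralizer ({x} : Set G)).index = 1 ∨ (Subgroup.centralizer ({x} : Set G)).index = m}
  set M := Subgroup.closure S with hM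
  have hAM : ⁅A, M⁆ ≤ Subgroup.center G := by
    have h1 : M ≤ (Subgroup.centralizer ((A.map (QuotientGroup.mk' (Subgroup.center G)) : Subgroup (G ⧸ Subgroup.center G)) : Set (G ⧸ Subgroup.center G))).comap (QuotientGroup.mk' (Subgroup.center G)) := by
      rw [hM, Subgroup.closure_le]
      intro x hx
      rw [SetLike.mem_coe, Subgroup.mem_comap, Subgroup.mem_centralizer_iff]
      rintro _ ⟨a, ha, rfl⟩
      rw [← commutatorElement_eq_one_iff_mul_comm, ← map_commutatorElement, QuotientGroup.mk'_apply, QuotientGroup.eq_one_iff]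
      exact commutator_central A hA m hmin x hx a ha
    rw [Subgroup.commutator_le]
    intro a ha x hx
    have h2 := Subgroup.mem_centralizer_iff.mp (h1 hx) _ (Subgroup.mem_map_of_mem _ ha)
    rw [← commutatorElement_eq_one_iff_mul_comm, ← map_commutatorElement, QuotientGroup.mk'_apply, QuotientGroup.eq_one_iff] at h2
    exact h2
  have hZM : ∀ Y : Subgroup G, ⁅Subgroup.center G, Y⁆ = ⊥ := by
    intro Y
    rw [Subgroup.commutator_eq_bot_iff_le_centralizer]
    exact Subgroup.center_le_centralizer _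
  have hAMM : ⁅⁅A, M⁆, M⁆ = ⊥ := le_bot_iff.mp ((Subgroup.commutator_mono hAM le_rfl).trans (hZM M).le)
  have hMM : ⁅M, M⁆ ≤ A := by
    have h := Subgroup.commutator_commutator_eq_bot_of_rotate (H₁ := M) (H₂ := M) (H₃ := A)
      (by rw [Subgroup.commutator_comm M A]; exact hAMM) hAMM
    rw [Subgroup.commutator_eq_bot_iff_le_centralizer, hCA] at h
    exact h
  rw [← Subgroup.lowerCentralSeries_eq_bot_iff_upperCentralSeries_eq_top,
    ← Subgroup.map_eq_bot_iff_of_injective _ M.subtype_injective, Subgroup.top_subtype_lowerCentralSeries,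
    Subgroup.lowerCentralSeries_succ, Subgroup.lowerCentralSeries_succ, Subgroup.lowerCentralSeries_succ,
    Subgroup.lowerCentralSeries_zero, eq_bot_iff]
  exact (Subgroup.commutator_mono (Subgroup.commutator_mono hMM le_rfl) le_rfl).trans hAMM.le

end Cfsg.Agent.S4163
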