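import Cfsg.Statements.S4169
import Cfsg.Agent.S4163

set_option autoImplicit false
open Cfsg
open scoped commutatorElement

namespace Cfsg.Agent.S4169

/-- A finite nilpotent group has a self-centralising abelian normal subgroup. -/
theorem exists_self_centralizing {P : Type*} [Group P] [Finite P] [Group.IsNilpotent P] :
    ∃ A : Subgroup P, A.Normal ∧ IsMulCommutative A ∧ Subgroup.centralizer (A : Set P) = A := by
  classical
  obtain ⟨A, hA, hmax⟩ := (Set.toFinite {A : Subgroup P | A.Normal ∧ IsMulCommutative A}).exists_maximal ⟨⊥, by constructor <;> infer_instance⟩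
  obtain ⟨hAn, hAc⟩ := hA
  refine ⟨A, hAn, hAc, le_antisymm ?_ (fun a ha => Subgroup.mem_centralizer_iff.mpr fun b hb => setLike_mul_comm hb ha)⟩
  by_contra hne
  obtain ⟨x0, hx0C, hx0A⟩ := SetLike.not_le_iff_exists.mp hne
  have hex : ∃ k, ∃ x ∈ Subgroup.upperCentralSeries P k, x ∈ Subgroup.centralizer (A : Set P) ∧ x ∉ A :=
    ⟨Group.nilpotencyClass P, x0, by simp [Subgroup.upperCentralSeries_nilpotencyClass], hx0C, hx0A⟩
  obtain ⟨k, ⟨x, hxk, hxC, hxA⟩, hkmin⟩ : ∃ k, (∃ x ∈ Subgroup.upperCentralSeries P k, x ∈ Subgroup.centralizer (A : Set P) ∧ x ∉ A) ∧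
      ∀ i < k, ¬ ∃ x ∈ Subgroup.upperCentralSeries P i, x ∈ Subgroup.centralizer (A : Set P) ∧ x ∉ A :=
    ⟨Nat.find hex, Nat.find_spec hex, fun i hi => Nat.find_min hex hi⟩
  rcases k with _ | k
  · simp only [Subgroup.upperCentralSeries_zero, Subgroup.mem_bot] at hxk
    exact hxA (hxk ▸ one_mem A)
  have hcomm : ∀ g : P, x * g * x⁻¹ * g⁻¹ ∈ A := by
    intro g
    by_contra h
    refine hkmin k (Nat.lt_succ_self k) ⟨_, Subgroup.mem_upperCentralSeries_succ_iff.mp hxk g, ?_, h⟩
    have e : x * g * x⁻¹ * g⁻¹ = x * (g * x⁻¹ * g⁻¹) := by group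
    rw [commutatorElement_def, e]
    exact mul_mem hxC (Subgroup.Normal.conj_mem inferInstance _ (inv_mem hxC) g)
  set B := Subgroup.closure (insert x (A : Set P)) with hB
  have hAB : A ≤ B := fun a ha => Subgroup.subset_closure (Set.mem_insert_of_mem _ ha)
  have hxB : x ∈ B := Subgroup.subset_closure (Set.mem_insert _ _)
  have hBc : IsMulCommutative B := by
    refine Subgroup.isMulCommutative_closure ?_
    rintro u (rfl | hu) v (rfl | hv)
    · rfl
    · exact (Subgroup.mem_centralizer_iff.mp hxC v hv).symm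
    · exact Subgroup.mem_centralizer_iff.mp hxC u hu
    · exact setLike_mul_comm hu hv
  have hBn : B.Normal := by
    refine ⟨fun y hy g => ?_⟩
    have h : B ≤ B.comap (MulAut.conj g).toMonoidHom := by
      rw [hB, Subgroup.closure_le]
      rintro u (rfl | hu)
      · rw [SetLike.mem_coe, Subgroup.mem_comap, MulEquiv.coe_toMonoidHom, MulAut.conj_apply]
        have e : g * u * g⁻¹ = (u * g * u⁻¹ * g⁻¹)⁻¹ * u := by group
        rw [e]
        exact mul_mem (hAB (inv_mem (hcomm g))) hxB
      · exact hAB (Subgroup.Normal.conj_mem inferInstance _ hu g)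
    exact h hy
  exact hxA (hmax ⟨hBn, hBc⟩ hAB hxB)

/-- Let P be a finite p-group whose conjugacy classes have exactly two sizes (1 and one other value). Then P has nilpotency class at most 3. -/
theorem result {P : Type*} [Group P] [Finite P] {p : ℕ} [Fact p.Prime] (hP : IsPGroup p P)
    (m : ℕ) (hm : 1 < m) (h : ∀ x : P, (Subgroup.centralizer ({x} : Set P)).index = 1 ∨ (Subgroup.centralizer ({x} : Set P)).index = m) :
    upperCentralSeries P 3 = ⊤ := by
  by_cases hex : ∃ x : P, (Subgroup.centralizer ({x} : Set P)).index = m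
  · haveI : Group.IsNilpotent P := hP.isNilpotent
    obtain ⟨A, hAn, hAc, hAC⟩ := exists_self_centralizing (P := P)
    have h3 := Cfsg.Agent.S4163.result A hAc hAC m hm hex (fun x hx => ((h x).resolve_left (by omega)).ge)
    have htop : {x : P | (Subgroup.centralizer ({x} : Set P)).index = 1 ∨ (Subgroup.centralizer ({x} : Set P)).index = m} = Set.univ :=
      Set.eq_univ_of_forall h
    rw [← Subgroup.lowerCentralSeries_eq_bot_iff_upperCentralSeries_eq_top,
      ← Subgroup.map_eq_bot_iff_of_injective _ (Subgroup.subtype_injective _), Subgroup.top_subtype_lowerCentralSeries] at h3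
    rw [htop, Subgroup.closure_univ] at h3
    exact Subgroup.lowerCentralSeries_eq_bot_iff_upperCentralSeries_eq_top.mp h3
  · push Not at hex
    have hc : Subgroup.center P = ⊤ := by
      rw [eq_top_iff]
      intro x _
      rw [Subgroup.mem_center_iff]
      intro g
      have := Subgroup.index_eq_one.mp ((h x).resolve_right (hex x))
      exact Subgroup.mem_centralizer_singleton_iff.mp (by rw [this]; trivial)
    rw [eq_top_iff, ← hc, ← Subgroup.upperCentralSeries_one]
    exact Subgroup.upperCentralSeries_mono _ (by norm_num)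

end Cfsg.Agent.S4169
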