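import Cfsg.Statements.S4172
import Cfsg.Agent.Lib.ComponentsBalance
import Cfsg.Agent.Lib.TransferTate
import Cfsg.Agent.Lib.TransferPow
import Cfsg.Agent.Lib.PGroupsBasic

set_option autoImplicit false
open Cfsg

namespace Cfsg.Agent.S4172

open Subgroup Cfsg.Agent.ComponentsBasic Cfsg.Agent.ComponentsFitting Cfsg.Agent.ComponentsCores
open Cfsg.Agent.TransferPResidual
open scoped commutatorElement

section
variable {G : Type*} [Group G] [Finite G] {p : ℕ} [Fact p.Prime] (P : Sylow p G)


/-- A `P`-invariant subgroup meeting `P` inside `Φ(P)` is `p`-nilpotent. -/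
theorem hasNormalPComplement_of_invariant {R : Subgroup G}
    (hR : (P : Subgroup G) ≤ normalizer (R : Set G)) (h : R ⊓ (P : Subgroup G) ≤ (frattini ↥(P : Subgroup G)).map (P : Subgroup G).subtype) :
    HasNormalPComplement p R := by
  set L : Subgroup G := R ⊔ (P : Subgroup G)
  let P1 : Sylow p L := P.subtype le_sup_right
  haveI : (R.subgroupOf L).Normal :=
    normal_subgroupOf_of_le_normalizer (sup_le le_normalizer hR)
  have h1 : R.subgroupOf L ⊓ (P1 : Subgroup L) ≤
      (frattini (P1 : Subgroup L)).map (P1 : Subgroup L).subtype := by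
    rintro x ⟨hxR, hxP⟩
    let e : (P1 : Subgroup L) ≃* (P : Subgroup G) := subgroupOfEquivOfLe le_sup_right
    obtain ⟨y, hy, hxy⟩ := h ⟨mem_subgroupOf.mp hxR, mem_subgroupOf.mp hxP⟩
    refine ⟨⟨x, hxP⟩, ?_, rfl⟩
    have hye : e.symm y = ⟨x, hxP⟩ := by
      rw [MulEquiv.symm_apply_eq]
      exact Subtype.ext hxy
    rw [← hye]
    exact frattini_le_comap_frattini_of_surjective (φ := e.symm.toMonoidHom) e.symm.surjective hy
  exact (hasNormalPComplement_congr (subgroupOfEquivOfLe (le_sup_left : R ≤ L))).mp
    (Cfsg.Agent.TransferTate.hasNormalPComplement_of_normal_inf_le_frattini P1 _ h1)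

/-- The two generator argument. -/
theorem cyclic_part (hgen : (frattini ↥(P : Subgroup G)).index = p ^ 2) {R : Subgroup G}
    (hR : (P : Subgroup G) ≤ normalizer (R : Set G)) (h : ¬ R ⊓ (P : Subgroup G) ≤ (frattini ↥(P : Subgroup G)).map (P : Subgroup G).subtype) :
    (∃ b ∈ (P : Subgroup G), (P : Subgroup G) ≤ (R ⊓ (P : Subgroup G)) ⊔ zpowers b) ∧
      ⁅(P : Subgroup G), (P : Subgroup G)⁆ ≤ R := by
  set K := R.subgroupOf (P : Subgroup G)
  haveI : K.Normal := normal_subgroupOf_of_le_normalizer hR
  set F := frattini ↥(P : Subgroup G)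
  have hKF : ¬ K ≤ F := fun hle => h fun x hx => ⟨⟨x, hx.2⟩, hle (mem_subgroupOf.mpr hx.1), rfl⟩
  obtain ⟨b, hb⟩ : ∃ b : ↥(P : Subgroup G), K ⊔ zpowers b = ⊤ := by
    suffices h' : ∃ b : ↥(P : Subgroup G), (K ⊔ F) ⊔ zpowers b = ⊤ by
      obtain ⟨b, hb⟩ := h'
      exact ⟨b, frattini_nongenerating (by rw [sup_right_comm]; exact hb)⟩
    by_cases htop : K ⊔ F = ⊤
    · exact ⟨1, by rw [htop, top_sup_eq]⟩
    · obtain ⟨b, hb⟩ : ∃ b, b ∉ K ⊔ F := by
        by_contra! hc
        exact htop (eq_top_iff' _ |>.mpr hc)
      refine ⟨b, index_eq_one.mp ?_⟩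
      have hpr : p.Prime := Fact.out
      obtain ⟨i, hi, hiJ⟩ := (Nat.dvd_prime_pow hpr).mp (hgen ▸ index_dvd_of_le (le_sup_right : F ≤ K ⊔ F))
      have hi1 : i ≠ 2 := fun h2 => hKF <| by
        have : (K ⊔ F).relIndex ⊤ = F.relIndex ⊤ := by rw [relIndex_top_right, relIndex_top_right, hgen, hiJ, h2]
        have hm := relIndex_mul_relIndex F (K ⊔ F) ⊤ le_sup_right le_top
        rw [this, relIndex_top_right, hgen] at hm
        have h1 : F.relIndex (K ⊔ F) = 1 :=
          Nat.eq_of_mul_eq_mul_right (pow_pos hpr.pos 2) (hm.trans (one_mul _).symm)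
        exact le_sup_left.trans (relIndex_eq_one.mp h1)
      have hd : ((K ⊔ F) ⊔ zpowers b).index ∣ p := by
        refine (index_dvd_of_le le_sup_left).trans ?_
        rw [hiJ]
        interval_cases i <;> simp_all
      rcases (Nat.dvd_prime hpr).mp hd with h1 | h1
      · exact h1
      · exfalso
        have hle : (K ⊔ F).index ∣ p := by
          rw [hiJ]; interval_cases i <;> simp_all
        have heq : (K ⊔ F).index = ((K ⊔ F) ⊔ zpowers b).index :=
          Nat.dvd_antisymm (hle.trans h1.symm.dvd) (index_dvd_of_le le_sup_left)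
        have hm := relIndex_mul_index (le_sup_left : K ⊔ F ≤ (K ⊔ F) ⊔ zpowers b)
        rw [← heq] at hm
        have hr : (K ⊔ F).relIndex ((K ⊔ F) ⊔ zpowers b) = 1 :=
          Nat.eq_of_mul_eq_mul_right (Nat.pos_of_ne_zero FiniteIndex.index_ne_zero)
            (hm.trans (one_mul _).symm)
        exact hb (relIndex_eq_one.mp hr (mem_sup_right (mem_zpowers b)))
  refine ⟨⟨b, b.2, ?_⟩, ?_⟩
  · have := map_mono (f := (P : Subgroup G).subtype) hb.ge
    rw [Subgroup.map_sup, MonoidHom.map_zpowers, ← MonoidHom.range_eq_map, range_subtype] at this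
    refine this.trans (sup_le_sup_right ?_ _)
    rw [subgroupOf_map_subtype]
  · have hc : commutator ↥(P : Subgroup G) ≤ K :=
      Subgroup.Normal.commutator_le_of_self_sup_commutative_eq_top hb inferInstance
    have := map_mono (f := (P : Subgroup G).subtype) hc
    rw [_root_.commutator_def, map_commutator, ← MonoidHom.range_eq_map, range_subtype,
      subgroupOf_map_subtype] at this
    exact this.trans inf_le_left

variable (hcore : pPrimeCore p G = ⊥)
include hcore

theorem not_inf_le (hfrat : ((frattini ↥(P : Subgroup G)).map (P : Subgroup G).subtype).normalCore = ⊥)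
    {K : Subgroup G} [K.Normal] (hK : K ≠ ⊥) : ¬ K ⊓ (P : Subgroup G) ≤ (frattini ↥(P : Subgroup G)).map (P : Subgroup G).subtype := by
  intro h
  have hc := hasNormalPComplement_of_invariant P
    (by rw [normalizer_eq_top_iff.mpr inferInstance]; exact le_top) h
  have h1 : (pResidual p K).map K.subtype = ⊥ := by
    rw [← le_bot_iff, ← hcore]
    refine subnormal_coprime_le_pPrimeCore
      (isSubnormal_map_subtype (Normal.isSubnormal inferInstance) (Normal.isSubnormal inferInstance)) ?_
    rw [card_map_of_injective K.subtype_injective]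
    exact Nat.Coprime.symm
      ((Fact.out : p.Prime).coprime_iff_not_dvd.mpr (hasNormalPComplement_iff_not_dvd.mp hc))
  have hKp : IsPGroup p K := pResidual_eq_bot_iff.mp
    ((map_eq_bot_iff_of_injective _ K.subtype_injective).mp h1)
  have hKP : K ≤ (P : Subgroup G) := IsPGroup.le_sylow_of_normal hKp P
  rw [inf_eq_left.mpr hKP] at h
  have h2 := normal_le_normalCore.mpr h
  rw [hfrat] at h2
  exact hK (le_bot_iff.mp h2)

/-- The `P`-orbit of a component meets `P` outside `Φ(P)`. -/
theorem orbit_not_inf_le {L : Subgroup G} (hL : IsComponent L) :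
    ¬ Cfsg.Agent.ComponentsBalance.orbitSup (P : Subgroup G) L ⊓ (P : Subgroup G) ≤ (frattini ↥(P : Subgroup G)).map (P : Subgroup G).subtype := by
  intro h
  have hc := hasNormalPComplement_mono (Cfsg.Agent.ComponentsBalance.le_orbitSup _ L)
    (hasNormalPComplement_of_invariant P (Cfsg.Agent.ComponentsBalance.le_normalizer_orbitSup _ L) h)
  have hd := hasNormalPComplement_iff_not_dvd.mp hc
  have htop : pResidual p L = ⊤ := by
    haveI : Group.IsNilpotent (L ⧸ pResidual p L) :=
      (isPGroup_quotient_pResidual (G := L) (p := p)).isNilpotent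
    refine top_le_iff.mp (perfect_le_of_quotient_solvable ?_ _)
    refine map_injective L.subtype_injective ?_
    rw [map_commutator, ← MonoidHom.range_eq_map, range_subtype, IsComponent.perfect hL]
  rw [htop, card_top] at hd
  exact IsComponent.ne_bot hL (le_bot_iff.mp (hcore ▸ subnormal_coprime_le_pPrimeCore hL.1
    (Nat.Coprime.symm ((Fact.out : p.Prime).coprime_iff_not_dvd.mpr hd))))

end

/-- Let p be a prime and G a finite group with a non-commutative Sylow p-subgroup P whose Frattini subgroup has index p² in P (P is generated by two elements). Suppose G has no nontrivial normal subgroup of order prime to p and the Frattini subgroup of P contains no nontrivial normal subgroup of G. Then the generalized Fitting subgroup F*(G) is the unique minimal normal subgroup of G, the image of P in G/F*(G) is cyclic, and if F*(G) is not commutative then P permutes the components of G transitively by conjugation. -/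
theorem result {G : Type*} [Group G] [Finite G] (p : ℕ) [Fact p.Prime] (P : Sylow p G) (hna : ¬ IsMulCommutative (P : Subgroup G)) (hgen : (frattini ↥(P : Subgroup G)).index = p ^ 2) (hcore : Cfsg.pPrimeCore p G = ⊥) (hfrat : ((frattini ↥(P : Subgroup G)).map (P : Subgroup G).subtype).normalCore = ⊥) [hFn : (Cfsg.generalizedFittingSubgroup G).Normal] :
    (Cfsg.generalizedFittingSubgroup G ≠ ⊥ ∧ ∀ K : Subgroup G, K.Normal → K ≠ ⊥ → Cfsg.generalizedFittingSubgroup G ≤ K) ∧
      IsCyclic ↥((P : Subgroup G).map (QuotientGroup.mk' (Cfsg.generalizedFittingSubgroup G))) ∧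
      (¬ IsMulCommutative (Cfsg.generalizedFittingSubgroup G) → ∀ K L : Subgroup G, Cfsg.IsComponent K → Cfsg.IsComponent L → ∃ x ∈ (P : Subgroup G), L = K.map (MulAut.conj x).toMonoidHom) := by
  classical
  have hpp : p.Prime := Fact.out
  set Pg : Subgroup G := (P : Subgroup G)
  have hP' : ⁅Pg, Pg⁆ ≠ ⊥ := fun h => hna (le_centralizer_iff_isMulCommutative.mp
    (commutator_eq_bot_iff_le_centralizer.mp h))
  have htopn : ∀ (A K : Subgroup G) [K.Normal], A ≤ normalizer (K : Set G) := fun A K _ => by
    rw [normalizer_eq_top_iff.mpr inferInstance]; exact le_top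
  have hkey : ∀ K : Subgroup G, K.Normal → K ≠ ⊥ →
      (∃ b ∈ Pg, Pg ≤ (K ⊓ Pg) ⊔ zpowers b) ∧ ⁅Pg, Pg⁆ ≤ K := fun K hK hne =>
    cyclic_part P hgen (htopn Pg K) (not_inf_le P hcore hfrat hne)
  set N : Subgroup G := ⨅ K : {K : Subgroup G // K.Normal ∧ K ≠ ⊥}, (K : Subgroup G)
  haveI hN : N.Normal := normal_iInf_normal fun K => K.2.1
  have hNne : N ≠ ⊥ := fun h => hP' (le_bot_iff.mp
    (h ▸ le_iInf fun K : {K : Subgroup G // K.Normal ∧ K ≠ ⊥} => (hkey K.1 K.2.1 K.2.2).2))
  have hmin : ∀ K : Subgroup G, K.Normal → K ≠ ⊥ → N ≤ K := fun K hK hne =>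
    iInf_le (fun K : {K : Subgroup G // K.Normal ∧ K ≠ ⊥} => (K : Subgroup G)) ⟨K, hK, hne⟩
  obtain ⟨⟨b, hbP, hPb⟩, -⟩ := hkey N hN hNne
  have hFp : fittingSubgroup G = pCore p G := by
    refine le_antisymm ?_ (pCore_le_fitting hpp)
    rw [fittingSubgroup_eq_iSup]
    refine iSup_le fun q => ?_
    have hq := Nat.prime_of_mem_primeFactors q.2
    haveI := Fact.mk hq
    by_cases h : (q : ℕ) = p
    · rw [h]
    · refine le_trans ?_ (bot_le : ⊥ ≤ pCore p G)
      rw [← hcore]
      refine le_pPrimeCore' ?_
      obtain ⟨k, hk⟩ := IsPGroup.iff_card.mp (isPGroup_pCore (G := G) (q : ℕ))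
      rw [hk]
      exact ((Nat.coprime_primes hq hpp).mpr h).pow_left k
  have hgen_eq : generalizedFittingSubgroup G = N := by
    by_cases hE : layer G = ⊥
    · rw [gen_eq_fitting_iff.mpr hE, hFp]
      set Q := pCore p G
      have hQP : Q ≤ Pg := IsPGroup.le_sylow_of_normal (isPGroup_pCore p) P
      have hQne : Q ≠ ⊥ := by
        haveI : Nontrivial G := by
          by_contra h
          rw [not_nontrivial_iff_subsingleton] at h
          exact hP' (Subsingleton.elim _ _)
        have := gen_ne_bot (G := G)
        rwa [gen_eq_fitting_iff.mpr hE, hFp] at this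
      have hNQ : N ≤ Q := hmin Q inferInstance hQne
      have hPp : IsPGroup p Pg := P.2
      have hfQ : frattini Q = ⊥ := by
        refine (map_eq_bot_iff_of_injective _ Q.subtype_injective).mp (le_bot_iff.mp ?_)
        rw [← hfrat]
        refine normal_le_normalCore.mpr ?_
        have h1 := PGroupsBasic.frattini_map_subtype_le hPp (Q.subgroupOf Pg)
        have h2 := PGroupsBasic.map_frattini (hPp.to_subgroup (Q.subgroupOf Pg))
          (f := (subgroupOfEquivOfLe hQP).toMonoidHom) (subgroupOfEquivOfLe hQP).surjective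
        rw [← h2, map_map]
        intro x hx
        obtain ⟨y, hy, rfl⟩ := hx
        exact ⟨_, h1 (mem_map_of_mem _ hy), rfl⟩
      have hQp : IsPGroup p Q := isPGroup_pCore p
      haveI : IsMulCommutative Q := ⟨⟨PGroupsBasic.commute_of_frattini_eq_bot hQp hfQ⟩⟩
      open scoped IsMulCommutative in
      letI : CommGroup Q := inferInstance
      have hexp := PGroupsBasic.pow_eq_one_of_frattini_eq_bot hQp hfQ
      refine le_antisymm ?_ hNQ
      by_contra hQN
      obtain ⟨x, hxQ, hxN⟩ := SetLike.not_le_iff_exists.mp hQN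
      have hdec : ∀ y ∈ Q, ∃ n ∈ N, ∃ z ∈ zpowers b, z ∈ Q ∧ y = n * z := by
        intro y hy
        have hy' := hPb (hQP hy)
        have : y ∈ ((N ⊔ zpowers b : Subgroup G) : Set G) :=
          (sup_le_sup_right (inf_le_left : N ⊓ Pg ≤ N) (zpowers b) : N ⊓ Pg ⊔ zpowers b ≤ N ⊔ zpowers b) hy'
        rw [coe_mul_of_right_le_normalizer_left _ _ (htopn _ N)] at this
        obtain ⟨n, hn, z, hz, rfl⟩ := this
        exact ⟨n, hn, z, hz, by simpa using Q.mul_mem (Q.inv_mem (hNQ hn)) hy, rfl⟩
      obtain ⟨n₀, hn₀, q₀, hq₀b, hq₀Q, rfl⟩ := hdec x hxQ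
      have hq₀N : q₀ ∉ N := fun h => hxN (N.mul_mem hn₀ h)
      have hq₀1 : q₀ ≠ 1 := fun h => hq₀N (h ▸ N.one_mem)
      have hord : orderOf q₀ = p :=
        orderOf_eq_prime (congrArg Subtype.val (hexp ⟨q₀, hq₀Q⟩)) hq₀1
      have hz : zpowers b ⊓ Q = zpowers q₀ := by
        refine (eq_of_le_of_card_ge (zpowers_le.mpr (mem_inf.mpr ⟨hq₀b, hq₀Q⟩)) ?_).symm
        rw [Nat.card_zpowers, hord]
        obtain ⟨⟨g, hg⟩, hgg⟩ :=
          (isCyclic_of_injective _ (inclusion_injective
            (inf_le_left : zpowers b ⊓ Q ≤ zpowers b))).exists_generator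
        rw [← orderOf_eq_card_of_forall_mem_zpowers hgg, orderOf_mk]
        exact Nat.le_of_dvd hpp.pos (orderOf_dvd_of_pow_eq_one
          (congrArg Subtype.val (hexp ⟨g, hg.2⟩)))
      have hQeq : ∀ y ∈ Q, ∃ k : ℤ, y * (q₀ ^ k)⁻¹ ∈ N := by
        intro y hy
        obtain ⟨n, hn, z, hzb, hzQ, rfl⟩ := hdec y hy
        obtain ⟨k, rfl⟩ := mem_zpowers_iff.mp (hz.le (mem_inf.mpr ⟨hzb, hzQ⟩))
        exact ⟨k, by simpa using hn⟩
      have hcomm : ∀ u ∈ Pg, u * q₀ = q₀ * u := by
        have hle : Pg ≤ centralizer ({q₀} : Set G) := by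
          refine hPb.trans (sup_le (inf_le_left.trans ?_) ?_)
          · intro u hu
            exact mem_centralizer_singleton_iff.mpr (congrArg Subtype.val
              (mul_comm (⟨u, hNQ hu⟩ : Q) ⟨q₀, hq₀Q⟩))
          · rw [zpowers_le]
            obtain ⟨k, rfl⟩ := mem_zpowers_iff.mp hq₀b
            exact mem_centralizer_singleton_iff.mpr ((Commute.refl b).zpow_right k).eq
        exact fun u hu => mem_centralizer_singleton_iff.mp (hle hu)
      have hQn : ∀ g : G, g * q₀ * g⁻¹ ∈ Q := fun g =>
        (inferInstance : Q.Normal).conj_mem q₀ hq₀Q g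
      have hex : ∀ g : G, ∃ y ∈ zpowers (g * q₀ * g⁻¹), y * q₀⁻¹ ∈ N := by
        intro g
        obtain ⟨k, hk⟩ := hQeq (g⁻¹ * q₀ * g)
          (by simpa using (inferInstance : Q.Normal).conj_mem q₀ hq₀Q g⁻¹)
        refine ⟨(g * q₀ * g⁻¹) ^ k, zpow_mem (mem_zpowers _) k, ?_⟩
        have := N.inv_mem (hN.conj_mem _ hk g)
        rw [conj_zpow]
        simpa [mul_assoc] using this
      have huniq : ∀ g : G, ∀ y ∈ zpowers (g * q₀ * g⁻¹), ∀ y' ∈ zpowers (g * q₀ * g⁻¹),
          y * y'⁻¹ ∈ N → y = y' := by
        intro g y hy y' hy' h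
        rw [← mul_inv_eq_one]
        by_contra hne
        have hmem := mul_mem hy (inv_mem hy')
        have hco : orderOf (g * q₀ * g⁻¹) = p := by
          rw [← hord]; exact (MulAut.conj g).orderOf_eq q₀
        have hle : zpowers (g * q₀ * g⁻¹) ≤ zpowers (y * y'⁻¹) := by
          refine (eq_of_le_of_card_ge (zpowers_le.mpr hmem) ?_).ge
          rw [Nat.card_zpowers, Nat.card_zpowers, hco]
          have hdvd := orderOf_dvd_of_mem_zpowers hmem
          rw [hco] at hdvd
          rcases (Nat.dvd_prime hpp).mp hdvd with h1 | h1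
          · exact absurd (orderOf_eq_one_iff.mp h1) hne
          · exact h1.ge
        have := hN.conj_mem _ (zpowers_le.mpr h (hle (mem_zpowers _))) g⁻¹
        exact hq₀N (by simpa [mul_assoc] using this)
      choose f hf hfN using hex
      have hfQ' : ∀ g, f g ∈ Q := fun g => zpowers_le.mpr (hQn g) (hf g)
      have hfP : ∀ g u, u ∈ Pg → f (g * u) = f g := by
        intro g u hu
        have he : g * u * q₀ * (g * u)⁻¹ = g * q₀ * g⁻¹ := by
          rw [mul_assoc g u q₀, hcomm u hu]; simp [mul_assoc]
        refine huniq g _ (he ▸ hf (g * u)) _ (hf g) ?_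
        have := N.mul_mem (hfN (g * u)) (N.inv_mem (hfN g))
        simpa [mul_assoc] using this
      haveI : Fintype (G ⧸ Pg) := Fintype.ofFinite _
      let F : G ⧸ Pg → Q := Quotient.lift (fun g => (⟨f g, hfQ' g⟩ : Q)) (by
        intro g g' hgg
        have hu : g⁻¹ * g' ∈ Pg := QuotientGroup.leftRel_apply.mp hgg
        refine Subtype.ext ?_
        show f g = f g'
        rw [← hfP g _ hu, mul_inv_cancel_left])
      set q₁ : Q := ∏ a : G ⧸ Pg, F a
      have hinv : ∀ h : G, ∃ k : ℤ, MulAut.conjNormal h q₁ = q₁ ^ k := by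
        intro h
        obtain ⟨k, hk⟩ := hQeq _ (hQn h)
        refine ⟨k, ?_⟩
        have hF : ∀ a : G ⧸ Pg, MulAut.conjNormal h (F a) = (F (h • a)) ^ k := by
          intro a
          induction a using QuotientGroup.induction_on with
          | H g =>
            refine Subtype.ext ?_
            show h * f g * h⁻¹ = f (h * g) ^ k
            refine huniq (h * g) _ ?_ _ (zpow_mem (hf (h * g)) k) ?_
            · obtain ⟨j, hj⟩ := mem_zpowers_iff.mp (hf g)
              refine mem_zpowers_iff.mpr ⟨j, ?_⟩
              rw [← hj, conj_zpow, conj_zpow]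
              simp [mul_assoc]
            · rw [← QuotientGroup.eq_one_iff (N := N)]
              have h1 := (QuotientGroup.eq_one_iff (N := N) _).mpr (hfN g)
              have h2 := (QuotientGroup.eq_one_iff (N := N) _).mpr (hfN (h * g))
              have h3 := (QuotientGroup.eq_one_iff (N := N) _).mpr hk
              simp only [QuotientGroup.mk_mul, QuotientGroup.mk_inv, QuotientGroup.mk_zpow,
                mul_inv_eq_one] at h1 h2 h3 ⊢
              rw [h1, h2, h3]
        rw [map_prod, Finset.prod_congr rfl fun a _ => hF a, Finset.prod_zpow]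
        exact congrArg (· ^ k) (Fintype.prod_equiv (MulAction.toPerm h) _ _ fun a => rfl)
      have hq₁N : (q₁ : G) ∉ N := by
        intro hmem
        have h1 : QuotientGroup.mk' (N.subgroupOf Q) q₁ = 1 :=
          (QuotientGroup.eq_one_iff _).mpr (mem_subgroupOf.mpr hmem)
        rw [map_prod] at h1
        have h2 : ∀ a : G ⧸ Pg, QuotientGroup.mk' (N.subgroupOf Q) (F a) =
            QuotientGroup.mk' (N.subgroupOf Q) ⟨q₀, hq₀Q⟩ := by
          intro a
          induction a using QuotientGroup.induction_on with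
          | H g =>
            rw [← mul_inv_eq_one, ← map_inv, ← map_mul]
            exact (QuotientGroup.eq_one_iff _).mpr (mem_subgroupOf.mpr (hfN g))
        rw [Finset.prod_congr rfl fun a _ => h2 a, Finset.prod_const, ← map_pow] at h1
        have h3 : q₀ ^ Pg.index ∈ N := by
          have h4 := mem_subgroupOf.mp ((QuotientGroup.eq_one_iff _).mp h1)
          simpa [index, Nat.card_eq_fintype_card] using h4
        have hcop : (orderOf q₀).Coprime Pg.index := by
          rw [hord]
          exact hpp.coprime_iff_not_dvd.mpr P.not_dvd_index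
        obtain ⟨j, hj⟩ := exists_pow_eq_self_of_coprime hcop.symm
        exact hq₀N (hj ▸ pow_mem h3 j)
      set Z : Subgroup G := zpowers (q₁ : G)
      have hZn : Z.Normal := by
        refine ⟨fun z hz g => ?_⟩
        obtain ⟨i, rfl⟩ := mem_zpowers_iff.mp hz
        obtain ⟨k, hk⟩ := hinv g
        refine mem_zpowers_iff.mpr ⟨k * i, ?_⟩
        rw [← conj_zpow, zpow_mul]
        exact congrArg (fun t : G => t ^ i) (congrArg Subtype.val hk).symm
      have hq₁1 : (q₁ : G) ≠ 1 := fun h => hq₁N (h ▸ N.one_mem)
      have hNZ : N ≤ Z := hmin Z hZn (zpowers_ne_bot.mpr hq₁1)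
      obtain ⟨y, hy, hy1⟩ := N.ne_bot_iff_exists_ne_one.mp hNne |>.elim fun a ha =>
        (⟨(a : G), a.2, fun h => ha (Subtype.ext h)⟩ : ∃ y, y ∈ N ∧ y ≠ 1)
      have hZy : Z ≤ zpowers y := by
        refine (eq_of_le_of_card_ge (zpowers_le.mpr (hNZ hy)) ?_).ge
        rw [Nat.card_zpowers, Nat.card_zpowers]
        refine le_trans (Nat.le_of_dvd hpp.pos (orderOf_dvd_of_pow_eq_one
          (congrArg Subtype.val (hexp q₁)))) ?_
        exact (orderOf_eq_prime (congrArg Subtype.val (hexp ⟨y, hNQ hy⟩)) hy1).ge
      exact hq₁N (zpowers_le.mpr hy (hZy (mem_zpowers _)))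
    · have hNE : N ≤ layer G := hmin _ inferInstance hE
      have hF : fittingSubgroup G = ⊥ := by
        by_contra hF
        have hNF : N ≤ fittingSubgroup G := hmin _ inferInstance hF
        have hNc : layer G ≤ centralizer (N : Set G) :=
          layer_le_centralizer_fitting.trans (centralizer_le hNF)
        have hNp : IsPGroup p N := (isPGroup_pCore (G := G) p).to_le (hFp ▸ hNF)
        obtain ⟨T⟩ : Nonempty (Sylow p (layer G)) := inferInstance
        obtain ⟨P', hTP'⟩ := (T.2.map (layer G).subtype).exists_le_sylow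
        obtain ⟨g, hg⟩ := MulAction.exists_smul_eq G P P'
        have hTab : IsMulCommutative (T : Subgroup (layer G)) := by
          have hcomm : ∀ u v : G, u ∈ Pg → u ∈ layer G → v ∈ Pg → v ∈ layer G → u * v = v * u := by
            have hd : ∀ u : G, u ∈ Pg → u ∈ layer G →
                ∃ n ∈ N, ∃ z ∈ zpowers b, z ∈ layer G ∧ u = n * z := by
              intro u hu hul
              have : u ∈ ((N ⊔ zpowers b : Subgroup G) : Set G) :=
                (sup_le_sup_right (inf_le_left : N ⊓ Pg ≤ N) (zpowers b) : N ⊓ Pg ⊔ zpowers b ≤ N ⊔ zpowers b) (hPb hu)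
              rw [coe_mul_of_right_le_normalizer_left _ _ (htopn _ N)] at this
              obtain ⟨n, hn, z, hz, rfl⟩ := this
              exact ⟨n, hn, z, hz, by
                simpa using (layer G).mul_mem ((layer G).inv_mem (hNE hn)) hul, rfl⟩
            intro u v hu hul hv hvl
            obtain ⟨n, hn, z, hz, hzl, rfl⟩ := hd u hu hul
            obtain ⟨m, hm, w, hw, hwl, rfl⟩ := hd v hv hvl
            have c1 : Commute n m := (mem_centralizer_iff.mp (hNc (hNE hm)) n hn)
            have c2 : Commute n w := (mem_centralizer_iff.mp (hNc hwl) n hn)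
            have c3 : Commute m z := (mem_centralizer_iff.mp (hNc hzl) m hm)
            have c4 : Commute z w := by
              obtain ⟨i, rfl⟩ := mem_zpowers_iff.mp hz
              obtain ⟨j, rfl⟩ := mem_zpowers_iff.mp hw
              exact (Commute.refl b).zpow_zpow i j
            exact ((c1.mul_right c2).mul_left (c3.symm.mul_right c4)).eq
          refine ⟨⟨fun u v => ?_⟩⟩
          have hmem : ∀ w : ↥(T : Subgroup (layer G)),
              g⁻¹ * ((w : layer G) : G) * g ∈ Pg ∧ g⁻¹ * ((w : layer G) : G) * g ∈ layer G := by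
            intro w
            refine ⟨?_, ?_⟩
            · have h1 : ((w : layer G) : G) ∈ ((g • P : Sylow p G) : Subgroup G) := by
                rw [hg]; exact hTP' ⟨_, w.2, rfl⟩
              rw [Sylow.coe_subgroup_smul] at h1
              simpa [Pg, Subgroup.mem_pointwise_smul_iff_inv_smul_mem] using h1
            · simpa using (inferInstance : (layer G).Normal).conj_mem _ (w : layer G).2 g⁻¹
          refine Subtype.ext (Subtype.ext ?_)
          have := congrArg (fun t => g * t * g⁻¹)
            (hcomm _ _ (hmem u).1 (hmem u).2 (hmem v).1 (hmem v).2)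
          simpa [mul_assoc] using this
        refine hNne ((eq_bot_iff_forall N).mpr fun z hz => ?_)
        have hzT : (⟨z, hNE hz⟩ : layer G) ∈ (T : Subgroup (layer G)) :=
          IsPGroup.le_sylow_of_normal
            (hNp.of_equiv (subgroupOfEquivOfLe hNE).symm) T (mem_subgroupOf.mpr hz)
        haveI := hTab
        refine congrArg Subtype.val (TransferPow.eq_one_of_mem_center_commutator hzT ?_ ?_ ?_)
        · rw [mem_center_iff]
          exact fun y => Subtype.ext (mem_centralizer_iff.mp (hNc y.2) z hz).symm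
        · have : commutator (layer G) = ⊤ := by
            rw [_root_.commutator_def]
            refine map_injective (layer G).subtype_injective ?_
            rw [map_commutator, ← MonoidHom.range_eq_map, range_subtype, layer_perfect]
          rw [this]; trivial
        · obtain ⟨k, hk⟩ := IsPGroup.iff_orderOf.mp hNp ⟨z, hz⟩
          rw [orderOf_mk] at hk
          rw [orderOf_mk, hk]
          exact (Nat.Coprime.symm (hpp.coprime_iff_not_dvd.mpr T.not_dvd_index)).pow_right k
      refine le_antisymm (sup_le (sSup_le fun L hL => ?_) (hF.le.trans bot_le))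
        (hNE.trans le_sup_left)
      refine (component_le_or_commute_normal hL N).resolve_right fun hLN => ?_
      have hall : layer G ≤ centralizer (N : Set G) := by
        refine sSup_le fun K hK => commutator_eq_bot_iff_le_centralizer.mp
          ((component_le_or_commute_normal hK N).resolve_left fun hKN => ?_)
        -- a component inside `N` forces the orbit of `L` into `N`
        have h1 := (cyclic_part P hgen (Cfsg.Agent.ComponentsBalance.le_normalizer_orbitSup _ L)
          (orbit_not_inf_le P hcore hL)).2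
        have h2 : ⁅Pg, Pg⁆ ≤ N := (hkey N hN hNne).2
        have h3 : Cfsg.Agent.ComponentsBalance.orbitSup Pg L ≤ centralizer (N : Set G) := by
          refine iSup_le fun r => ?_
          rintro _ ⟨x, hx, rfl⟩
          exact (inferInstance : (centralizer (N : Set G)).Normal).conj_mem x
            (commutator_eq_bot_iff_le_centralizer.mp hLN hx) r
        have h4 : N ⊓ centralizer (N : Set G) = ⊥ := by
          refine le_bot_iff.mp (hF ▸ subnormal_nilpotent_le_fitting
            (Normal.isSubnormal inferInstance) ?_)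
          haveI : IsMulCommutative ↥(N ⊓ centralizer (N : Set G)) :=
            le_centralizer_iff_isMulCommutative.mp
              (inf_le_right.trans (centralizer_le inf_le_left))
          open scoped IsMulCommutative in infer_instance
        exact hP' (le_bot_iff.mp (h4 ▸ le_inf h2 (h1.trans h3)))
      refine hNne (le_bot_iff.mp (hF ▸ subnormal_nilpotent_le_fitting
        (Normal.isSubnormal inferInstance) ?_))
      haveI : IsMulCommutative ↥N :=
        le_centralizer_iff_isMulCommutative.mp (hNE.trans hall)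
      open scoped IsMulCommutative in infer_instance
  refine ⟨⟨hgen_eq ▸ hNne, fun K hK hne => hgen_eq ▸ hmin K hK hne⟩, ?_, fun _ K L hK hL => ?_⟩
  · have hmap : Pg.map (QuotientGroup.mk' (generalizedFittingSubgroup G)) =
        zpowers (QuotientGroup.mk' (generalizedFittingSubgroup G) b) := by
      refine le_antisymm ?_ (zpowers_le.mpr (mem_map_of_mem _ hbP))
      refine (map_mono hPb).trans ?_
      rw [Subgroup.map_sup, MonoidHom.map_zpowers]
      refine sup_le ?_ le_rfl
      refine (map_mono (inf_le_left.trans hgen_eq.ge)).trans ?_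
      rw [QuotientGroup.map_mk'_self]
      exact bot_le
    rw [hmap]
    infer_instance
  · by_contra hno
    push Not at hno
    have hcK := (cyclic_part P hgen (Cfsg.Agent.ComponentsBalance.le_normalizer_orbitSup _ K)
      (orbit_not_inf_le P hcore hK)).2
    have hcL := (cyclic_part P hgen (Cfsg.Agent.ComponentsBalance.le_normalizer_orbitSup _ L)
      (orbit_not_inf_le P hcore hL)).2
    set RK := Cfsg.Agent.ComponentsBalance.orbitSup Pg K
    set RL := Cfsg.Agent.ComponentsBalance.orbitSup Pg L
    have hF : fittingSubgroup G = ⊥ := by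
      by_contra hF
      have hNF : N ≤ fittingSubgroup G := hmin _ inferInstance hF
      have : K ≤ fittingSubgroup G := (component_le_gen hK).trans (hgen_eq.le.trans hNF)
      exact isQuasisimple_not_le_solvable hK.2 this
    have hcc : RK ≤ centralizer (RL : Set G) := by
      refine iSup_le fun r => le_centralizer_iff.mpr (iSup_le fun s => ?_)
      rw [← commutator_eq_bot_iff_le_centralizer]
      refine components_commute (isComponent_conj hL _) (isComponent_conj hK _) fun h => ?_
      refine hno ((s : G)⁻¹ * r) (Pg.mul_mem (Pg.inv_mem s.2) r.2) ?_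
      have h2 := congrArg (map (MulAut.conj (s : G)⁻¹).toMonoidHom) h
      rw [Cfsg.Agent.ComponentsBalance.conj_map_map, Cfsg.Agent.ComponentsBalance.conj_map_map,
        inv_mul_cancel] at h2
      rw [← h2]
      ext; simp
    refine hP' (le_bot_iff.mp ((le_inf hcK hcL).trans ?_))
    rw [← hF]
    refine subnormal_nilpotent_le_fitting (isSubnormal_of_le_normalizer
      (inf_le_left.trans (Cfsg.Agent.ComponentsBalance.orbitSup_le_layer hK _))
      (Normal.isSubnormal inferInstance) (le_trans (le_inf
        (Cfsg.Agent.ComponentsBalance.layer_le_normalizer_orbitSup hK _)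
        (Cfsg.Agent.ComponentsBalance.layer_le_normalizer_orbitSup hL _))
        (inf_normalizer_le_normalizer_inf ..))) ?_
    haveI : IsMulCommutative ↥(RK ⊓ RL) := le_centralizer_iff_isMulCommutative.mp
      (inf_le_left.trans (hcc.trans (centralizer_le inf_le_right)))
    open scoped IsMulCommutative in infer_instance

end Cfsg.Agent.S4172
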