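import Cfsg.Statements.S4176
import Mathlib
import Cfsg.Agent.Lib.OrbitAverage
import Cfsg.Agent.Lib.HallTheorem

set_option autoImplicit false
open Cfsg

namespace Cfsg.Agent.S4176

open scoped Pointwise commutatorElement

theorem exists_compl {H : Type*} [Group H] [Finite H] {p : ℕ} [hp : Fact p.Prime] (hsol : Cfsg.IsPSolvable p H) :
    ∃ K : Subgroup H, ¬ p ∣ Nat.card K ∧ ∀ r : ℕ, r.Prime → r ∣ K.index → r = p := by
  obtain ⟨K, h1, h2⟩ := Cfsg.Agent.HallTheorem.exists_isPiHall ((Cfsg.Agent.HallSolvable.isPSolvable_iff p).1 hsol).compl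
  refine ⟨K, fun h => h1 p hp.out h rfl, fun r hr hd => ?_⟩
  by_contra hne
  exact h2 r hr hne hd

theorem coprime_of_only {n m p : ℕ} (h : ∀ r : ℕ, r.Prime → r ∣ n → r = p) (hm : ¬ p ∣ m) : m.Coprime n := by
  rw [Nat.coprime_iff_gcd_eq_one]
  by_contra hne
  obtain ⟨r, hr, hrd⟩ := Nat.exists_prime_and_dvd hne
  exact hm (h r hr (hrd.trans (Nat.gcd_dvd_right _ _)) ▸ hrd.trans (Nat.gcd_dvd_left _ _))

/-- Let k be a field of prime characteristic p, H a finite p-soluble group and ρ a k-linear representation of H on V. Let a be a vector that is fixed by some Sylow p-subgroup of H and whose H-orbit spans V. Then the space of H-fixed vectors has dimension at most 1, and every vector b whose H-orbit has size coprime to the size of the orbit of a is fixed by H. -/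
theorem result {k V H : Type*} [Field k] (p : ℕ) [Fact p.Prime] [CharP k p] [AddCommGroup V] [Module k V]
    [Group H] [Finite H] (hsol : Cfsg.IsPSolvable p H) (ρ : Representation k H V) (a : V)
    (hfix : ∃ P : Sylow p H, ∀ x : H, x ∈ (P : Subgroup H) → ρ x a = a)
    (hspan : Submodule.span k {u : V | ∃ h : H, ρ h a = u} = ⊤) :
    Module.finrank k ρ.invariants ≤ 1 ∧
    ∀ b : V, (Nat.card {u : V | ∃ h : H, ρ h a = u}).Coprime (Nat.card {u : V | ∃ h : H, ρ h b = u}) → ∀ h : H, ρ h b = b := by
  classical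
  have hp : p.Prime := Fact.out
  obtain ⟨P, hP⟩ := hfix
  obtain ⟨A, hA, hAi⟩ := Cfsg.Agent.OrbitAverage.exists_stabilizer ρ a
  have hm : ¬ p ∣ Nat.card {u : V | ∃ h : H, ρ h a = u} := by
    rw [← hAi]
    intro h
    exact P.not_dvd_index (h.trans (Subgroup.index_dvd_of_le fun x hx => (hA x).2 (hP x hx)))
  obtain ⟨s, hs, hspan'⟩ := Cfsg.Agent.OrbitAverage.fixed_mem_span ρ a hspan
    (fun h => hm ((CharP.cast_eq_zero_iff k p _).1 h))
  constructor
  · obtain ⟨K, hK1, hK2⟩ := exists_compl hsol
    have hle : ρ.invariants ≤ Submodule.span k {s} := fun b hb =>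
      hspan' K (fun h => hK1 ((CharP.cast_eq_zero_iff k p _).1 h))
        (Cfsg.Agent.OrbitAverage.transitive_of_coprime ρ a K (coprime_of_only hK2 hm)) b (fun y _ => hb y)
    haveI : Module.Finite k (Submodule.span k ({s} : Set V)) := Module.Finite.span_of_finite k (Set.finite_singleton s)
    refine (Submodule.finrank_mono hle).trans ?_
    refine (finrank_span_le_card ({s} : Set V)).trans ?_
    simp
  · intro b hcop h
    obtain ⟨B, hB, hBi⟩ := Cfsg.Agent.OrbitAverage.exists_stabilizer ρ b
    obtain ⟨K, hK1, hK2⟩ := exists_compl (Cfsg.Agent.HallSolvable.isPSolvable_subgroup hsol B)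
    have hcard : Nat.card (K.map B.subtype) = Nat.card K := Subgroup.card_map_of_injective B.subtype_injective
    have hb := hspan' (K.map B.subtype) (fun h => hK1 ((CharP.cast_eq_zero_iff k p _).1 (hcard ▸ h)))
      (Cfsg.Agent.OrbitAverage.transitive_of_coprime ρ a _ (by
        rw [Subgroup.index_map_subtype, hBi]
        exact Nat.Coprime.mul_right (coprime_of_only hK2 hm) hcop))
      b (by rintro _ ⟨y, _, rfl⟩; exact (hB y).1 y.2)
    obtain ⟨c, rfl⟩ := Submodule.mem_span_singleton.1 hb
    rw [map_smul, hs]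

end Cfsg.Agent.S4176
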