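import Cfsg.Statements.S4177
import Cfsg.Agent.Lib.OrbitAverage

set_option autoImplicit false
open Cfsg

namespace Cfsg.Agent.S4177

/-- Let k be a field whose characteristic does not divide the order of the finite group H (for instance a field of characteristic zero), and ρ a k-linear representation of H on V. Let a be a vector whose H-orbit spans V. Then the space of H-fixed vectors has dimension at most 1, and every vector b whose H-orbit has size coprime to the size of the orbit of a is fixed by H. -/
theorem result {k V H : Type*} [Field k] [AddCommGroup V] [Module k V] [Group H] [Finite H]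
    (hchar : ¬ ringChar k ∣ Nat.card H) (ρ : Representation k H V) (a : V)
    (hspan : Submodule.span k {u : V | ∃ h : H, ρ h a = u} = ⊤) :
    Module.finrank k ρ.invariants ≤ 1 ∧
    ∀ b : V, (Nat.card {u : V | ∃ h : H, ρ h a = u}).Coprime (Nat.card {u : V | ∃ h : H, ρ h b = u}) → ∀ h : H, ρ h b = b := by
  have hH : (Nat.card H : k) ≠ 0 := fun h => hchar ((ringChar.spec k _).mp h)
  have hne : ∀ d : ℕ, d ∣ Nat.card H → (d : k) ≠ 0 := by
    rintro d ⟨c, hc⟩ h
    exact hH (by rw [hc, Nat.cast_mul, h, zero_mul])
  obtain ⟨A, -, hA⟩ := Cfsg.Agent.OrbitAverage.exists_stabilizer ρ a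
  obtain ⟨s, hsfix, hs⟩ := Cfsg.Agent.OrbitAverage.fixed_mem_span ρ a hspan (hne _ (hA ▸ A.index_dvd_card))
  refine ⟨?_, fun b hcop => ?_⟩
  · have hle : ρ.invariants ≤ Submodule.span k {s} := fun b hb =>
      hs ⊤ (hne _ (Subgroup.card_subgroup_dvd_card _)) (fun h => ⟨h, trivial, rfl⟩) b (fun y _ => hb y)
    exact (Submodule.finrank_mono hle).trans (by simpa using finrank_span_le_card ({s} : Set V))
  · obtain ⟨B, hB, hBi⟩ := Cfsg.Agent.OrbitAverage.exists_stabilizer ρ b
    obtain ⟨c, rfl⟩ := Submodule.mem_span_singleton.mp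
      (hs B (hne _ (Subgroup.card_subgroup_dvd_card _)) (Cfsg.Agent.OrbitAverage.transitive_of_coprime ρ a B (hBi ▸ hcop)) b (fun y hy => (hB y).mp hy))
    intro h
    rw [map_smul, hsfix]

end Cfsg.Agent.S4177
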