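import Cfsg.Statements.S4178

set_option autoImplicit false
open Cfsg

namespace Cfsg.Agent.S4178

/-- Index bound from a map that separates the cosets of a subgroup and avoids zero. -/
theorem index_le {H U : Type*} [Group H] [Finite U] [AddCommGroup U] (R : Subgroup H) (f : H → U)
    (hf : ∀ h, f h ≠ 0) (hsep : ∀ h h', f h = f h' → h⁻¹ * h' ∈ R) : R.index + 1 ≤ Nat.card U := by
  have hinj : Function.Injective (fun q : Option (H ⧸ R) => q.elim 0 fun q => f q.out) := by
    rintro (_ | q) (_ | q') h
    · rfl
    · exact absurd h.symm (hf _)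
    · exact absurd h (hf _)
    · have := hsep _ _ h
      rw [← QuotientGroup.eq, QuotientGroup.out_eq', QuotientGroup.out_eq'] at this
      rw [this]
  have : Finite (Option (H ⧸ R)) := Finite.of_injective _ hinj
  have : Finite (H ⧸ R) := Finite.of_injective some (Option.some_injective _)
  have h := Nat.card_le_card_of_injective _ hinj
  rw [Finite.card_option] at h
  exact h

/-- Let F be a finite field with q elements, V a non-zero finite-dimensional F-space of dimension d, H a group of invertible linear maps of V, and R the subgroup of H generated by the elements of H that fix some non-zero vector (have eigenvalue 1). Then the index of R in H is at most q^d − 1; and if H leaves invariant some proper non-zero subspace, the index is at most q^(d/2) − 1. -/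
theorem result {F V : Type*} [Field F] [Fintype F] [AddCommGroup V] [Module F V] [FiniteDimensional F V] [Nontrivial V]
    (H : Subgroup (V ≃ₗ[F] V)) :
    (Subgroup.closure {h : ↥H | ∃ v : V, v ≠ 0 ∧ (h : V ≃ₗ[F] V) v = v}).index ≤ Fintype.card F ^ Module.finrank F V - 1 ∧
    ((∃ W : Submodule F V, W ≠ ⊥ ∧ W ≠ ⊤ ∧ ∀ h ∈ H, ∀ w ∈ W, h w ∈ W) →
      ((Subgroup.closure {h : ↥H | ∃ v : V, v ≠ 0 ∧ (h : V ≃ₗ[F] V) v = v}).index : ℝ) ≤ Real.sqrt ((Fintype.card F : ℝ) ^ Module.finrank F V) - 1) := by
  classical
  haveI : Finite V := Module.finite_of_finite F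
  set R := Subgroup.closure {h : ↥H | ∃ v : V, v ≠ 0 ∧ (h : V ≃ₗ[F] V) v = v} with hR
  have hsep : ∀ (v : V), v ≠ 0 → ∀ h h' : H, (h : V ≃ₗ[F] V) v = (h' : V ≃ₗ[F] V) v → h⁻¹ * h' ∈ R := by
    intro v hv h h' e
    refine Subgroup.subset_closure ⟨v, hv, ?_⟩
    push_cast
    rw [LinearEquiv.mul_apply, ← e, ← LinearEquiv.mul_apply, inv_mul_cancel]
    rfl
  have hne : ∀ (v : V), v ≠ 0 → ∀ h : H, (h : V ≃ₗ[F] V) v ≠ 0 :=
    fun v hv h => by simpa using hv
  constructor
  · obtain ⟨v, hv⟩ := exists_ne (0 : V)
    have := index_le R (fun h : H => (h : V ≃ₗ[F] V) v) (hne v hv) (hsep v hv)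
    rw [Module.natCard_eq_pow_finrank (K := F), Nat.card_eq_fintype_card] at this
    omega
  · rintro ⟨W, hWb, hWt, hW⟩
    obtain ⟨w, hwW, hw⟩ := Submodule.exists_mem_ne_zero_of_ne_bot hWb
    have h1 : R.index + 1 ≤ Nat.card W :=
      index_le R (fun h : H => (⟨(h : V ≃ₗ[F] V) w, hW _ h.2 w hwW⟩ : W))
        (fun h e => hne w hw h (congrArg Subtype.val e)) (fun h h' e => hsep w hw h h' (congrArg Subtype.val e))
    obtain ⟨v, -, hvW⟩ := SetLike.exists_of_lt (lt_top_iff_ne_top.mpr hWt)
    have : Finite (V ⧸ W) := Finite.of_surjective _ W.mkQ_surjective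
    have h2 : R.index + 1 ≤ Nat.card (V ⧸ W) := by
      refine index_le R (fun h : H => Submodule.Quotient.mk ((h : V ≃ₗ[F] V) v)) (fun h e => ?_) (fun h h' e => ?_)
      · rw [Submodule.Quotient.mk_eq_zero] at e
        have := hW _ (inv_mem h.2) _ e
        rw [← LinearEquiv.mul_apply, inv_mul_cancel] at this
        exact hvW this
      · rw [Submodule.Quotient.eq] at e
        obtain ⟨g, hg⟩ : ∃ g : H, g = h⁻¹ * h' := ⟨_, rfl⟩
        rw [← hg]
        have hd : v - (g : V ≃ₗ[F] V) v ∈ W := by
          have h3 := hW _ (inv_mem h.2) _ e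
          rw [map_sub, ← LinearEquiv.mul_apply, ← LinearEquiv.mul_apply, inv_mul_cancel] at h3
          rw [hg]; push_cast
          exact h3
        by_contra hgR
        have hfree : ∀ x : V, (g : V ≃ₗ[F] V) x = x → x = 0 := by
          intro x hx
          by_contra hx0
          exact hgR (Subgroup.subset_closure ⟨x, hx0, hx⟩)
        let φ : W → W := fun x => ⟨(x : V) - (g : V ≃ₗ[F] V) x, W.sub_mem x.2 (hW _ g.2 _ x.2)⟩
        have hφ : Function.Injective φ := by
          intro x y hxy
          have h4 : (x : V) - (g : V ≃ₗ[F] V) x = (y : V) - (g : V ≃ₗ[F] V) y := congrArg Subtype.val hxy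
          have h5 := hfree ((x : V) - y) (by
            rw [map_sub]
            linear_combination (norm := abel) (-1 : ℤ) • h4)
          exact Subtype.ext (sub_eq_zero.mp h5)
        obtain ⟨x, hx⟩ := (Finite.injective_iff_surjective.mp hφ) ⟨_, hd⟩
        have h4 : (x : V) - (g : V ≃ₗ[F] V) x = v - (g : V ≃ₗ[F] V) v := congrArg Subtype.val hx
        have h5 := hfree (v - x) (by
          rw [map_sub]
          linear_combination (norm := abel) (1 : ℤ) • h4)
        exact hvW (by rw [sub_eq_zero.mp h5]; exact x.2)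
    have hcard : Nat.card W * Nat.card (V ⧸ W) = Fintype.card F ^ Module.finrank F V := by
      rw [← Submodule.card_eq_card_quotient_mul_card, Module.natCard_eq_pow_finrank (K := F), Nat.card_eq_fintype_card]
    have h3 : (R.index + 1) ^ 2 ≤ Fintype.card F ^ Module.finrank F V := by
      rw [← hcard, sq]; exact Nat.mul_le_mul h1 h2
    rw [le_sub_iff_add_le]
    apply Real.le_sqrt_of_sq_le
    exact_mod_cast h3

end Cfsg.Agent.S4178
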