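import Cfsg.Statements.S4182
-- import your own Cfsg.Agent.* helpers here

set_option autoImplicit false
open Cfsg

namespace Cfsg.Agent.S4182

open scoped Pointwise

section

variable {G : Type*} [Group G]

/-- `g` has `p`-power order. -/
def IsPEl (p : ℕ) (g : G) : Prop := ∃ k : ℕ, orderOf g = p ^ k

/-- `H` is generated by its elements of `p`-power order. -/
def PGen (p : ℕ) (H : Subgroup G) : Prop := H ≤ Subgroup.closure {g : G | g ∈ H ∧ IsPEl p g}

lemma isPGroup_zpowers {p : ℕ} [Fact p.Prime] {x : G} (hx : IsPEl p x) :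
    IsPGroup p (Subgroup.zpowers x) := by
  obtain ⟨k, hk⟩ := hx
  exact IsPGroup.of_card (n := k) (by rw [Nat.card_zpowers, hk])

lemma isPEl_of_mem {p : ℕ} [Fact p.Prime] {P : Subgroup G} (hP : IsPGroup p P) {x : G}
    (hx : x ∈ P) : IsPEl p x := by
  obtain ⟨k, hk⟩ := IsPGroup.iff_orderOf.1 hP ⟨x, hx⟩
  rw [Subgroup.orderOf_mk] at hk
  exact ⟨k, hk⟩

lemma pgen_of_isPGroup {p : ℕ} [Fact p.Prime] {P : Subgroup G} (hP : IsPGroup p P) :
    PGen p P := fun _ hx => Subgroup.subset_closure ⟨hx, isPEl_of_mem hP hx⟩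

lemma pgen_sup {p : ℕ} {A B : Subgroup G} (hA : PGen p A) (hB : PGen p B) :
    PGen p (A ⊔ B) := by
  refine sup_le (hA.trans (Subgroup.closure_mono ?_)) (hB.trans (Subgroup.closure_mono ?_))
  · exact fun g hg => ⟨Subgroup.mem_sup_left hg.1, hg.2⟩
  · exact fun g hg => ⟨Subgroup.mem_sup_right hg.1, hg.2⟩

lemma pgen_conj {p : ℕ} {A : Subgroup G} (hA : PGen p A) (c : ConjAct G) :
    PGen p (c • A) := by
  intro y hy
  obtain ⟨a, ha, rfl⟩ := Subgroup.mem_map.1 hy
  have h := Subgroup.mem_map_of_mem (MulDistribMulAction.toMonoidEnd (ConjAct G) G c) (hA ha)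
  erw [MonoidHom.map_closure] at h
  refine Subgroup.closure_mono ?_ h
  rintro _ ⟨b, hb, rfl⟩
  refine ⟨Subgroup.smul_mem_pointwise_smul b c A hb.1, ?_⟩
  obtain ⟨k, hk⟩ := hb.2
  exact ⟨k, by
    rw [← hk]
    exact orderOf_injective (MulDistribMulAction.toMonoidEnd (ConjAct G) G c)
      (MulAction.injective c) b⟩

lemma conj_smul_self {H : Subgroup G} {x : G} (hx : x ∈ H) :
    ConjAct.toConjAct x • H = H := by
  ext y
  rw [Subgroup.mem_pointwise_smul_iff_inv_smul_mem, ← ConjAct.toConjAct_inv,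
    ConjAct.toConjAct_smul, inv_inv]
  constructor
  · intro h
    have := H.mul_mem (H.mul_mem hx h) (H.inv_mem hx)
    simpa [mul_assoc] using this
  · intro h
    exact H.mul_mem (H.mul_mem (H.inv_mem hx) h) hx

variable [Finite G] {p : ℕ} [Fact p.Prime] {ι : Type*} [Fintype ι]

/-- A `p`-group covered by at most `p` subgroups lies in one of them. -/
lemma cover_pgroup (hn : Fintype.card ι ≤ p) (K : ι → Subgroup G) {P : Subgroup G}
    (hP : IsPGroup p P) (hcov : ∀ g ∈ P, ∃ i, g ∈ K i) : ∃ i, P ≤ K i := by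
  classical
  by_contra hc
  push_neg at hc
  haveI := Fintype.ofFinite G
  have hpp : p.Prime := Fact.out
  let S : ι → Finset G := fun i => Finset.univ.filter fun g => g ∈ P ∧ g ∈ K i
  have hS : ∀ i, p * (S i).card ≤ Nat.card P := by
    intro i
    have e : (S i).card = Nat.card ↥(P ⊓ K i) := by
      rw [Nat.card_eq_fintype_card, ← Fintype.card_coe]
      exact Fintype.card_congr (Equiv.subtypeEquivRight fun g => by
        simp [S, Subgroup.mem_inf])
    obtain ⟨a, ha⟩ := IsPGroup.iff_card.1 hP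
    obtain ⟨b, hb⟩ := IsPGroup.iff_card.1 (hP.to_le (inf_le_left : P ⊓ K i ≤ P))
    have hlt : Nat.card ↥(P ⊓ K i) < Nat.card P := by
      by_contra h
      exact hc i (inf_eq_left.1 (Subgroup.eq_of_le_of_card_ge inf_le_left (not_lt.1 h)))
    rw [e, hb, ha] at *
    rw [← pow_succ']
    exact Nat.pow_le_pow_right hpp.pos ((Nat.pow_lt_pow_iff_right hpp.one_lt).1 hlt)
  have hsub : (Finset.univ.filter fun g => g ∈ P) ⊆
      insert 1 (Finset.univ.biUnion fun i => (S i).erase 1) := by
    intro g hg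
    simp only [Finset.mem_filter, Finset.mem_univ, true_and] at hg
    by_cases h1 : g = 1
    · simp [h1]
    · obtain ⟨i, hi⟩ := hcov g hg
      refine Finset.mem_insert_of_mem (Finset.mem_biUnion.2 ⟨i, Finset.mem_univ _, ?_⟩)
      simp [S, hg, hi, h1]
  have hcard : Nat.card P = (Finset.univ.filter fun g => g ∈ P).card := by
    rw [Nat.card_eq_fintype_card, Fintype.card_subtype]
  have h1 := (Finset.card_le_card hsub).trans
    ((Finset.card_insert_le _ _).trans (Nat.add_le_add_right Finset.card_biUnion_le 1))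
  rw [← hcard] at h1
  have h2 : p * ∑ i, ((S i).erase 1).card + p * Fintype.card ι ≤
      Fintype.card ι * Nat.card P := by
    rw [Finset.mul_sum]
    calc _ = ∑ i, (p * ((S i).erase 1).card + p) := by
          rw [Finset.sum_add_distrib, Finset.sum_const, Finset.card_univ, smul_eq_mul,
            mul_comm p (Fintype.card ι)]
      _ ≤ ∑ _i : ι, Nat.card P := Finset.sum_le_sum fun i _ => by
          have hm : (1 : G) ∈ S i := by simp [S, one_mem]
          rw [← Nat.mul_add_one, Finset.card_erase_add_one hm]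
          exact hS i
      _ = _ := by simp
  have hne : Fintype.card ι ≠ 0 := by
    obtain ⟨i, -⟩ := hcov 1 (one_mem _)
    haveI : Nonempty ι := ⟨i⟩
    exact Fintype.card_ne_zero
  have hP2 : 2 ≤ Nat.card P := by
    by_contra h
    obtain ⟨i, -⟩ := hcov 1 (one_mem _)
    apply hc i
    have hbot : P = ⊥ := Subgroup.eq_bot_of_card_le P (by omega)
    rw [hbot]; exact bot_le
  have hp2 := hpp.two_le
  -- `n (X - 1) ... ` contradiction
  generalize hX : Nat.card P = X at *
  generalize hY : ∑ i, ((S i).erase 1).card = Y at *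
  generalize hN : Fintype.card ι = N at *
  obtain ⟨X', rfl⟩ : ∃ X', X = X' + 1 := ⟨X - 1, by omega⟩
  obtain ⟨N', rfl⟩ : ∃ N', p = N + N' := ⟨p - N, by omega⟩
  have hpos : 1 ≤ N := Nat.pos_of_ne_zero hne
  nlinarith [Nat.mul_le_mul_left (N + N') (show X' ≤ Y by omega)]

/-- A subgroup generated by `p`-elements whose `p`-elements are covered by at most `p`
subgroups is contained in one of them. -/
lemma core (hn : Fintype.card ι ≤ p) (K : ι → Subgroup G) :
    ∀ (m : ℕ) (H : Subgroup G), Nat.card H = m → PGen p H →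
      (∀ g ∈ H, IsPEl p g → ∃ i, g ∈ K i) → ∃ i, H ≤ K i := by
  intro m
  induction m using Nat.strong_induction_on with
  | _ m ih =>
  intro H hm hH hcov
  classical
  by_contra hc
  push_neg at hc
  let M : Set (Subgroup G) := {L | L < H ∧ PGen p L}
  have hMK : ∀ L ∈ M, ∃ i, L ≤ K i := fun L hL =>
    ih _ (hm ▸ lt_of_le_of_ne (Subgroup.card_le_of_le hL.1.le)
      (fun h => hL.1.ne (Subgroup.eq_of_le_of_card_ge hL.1.le h.ge))) L rfl hL.2
      (fun g hg hgp => hcov g (hL.1.le hg) hgp)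
  let Mx : Set (Subgroup G) := {L | Maximal (· ∈ M) L}
  have hMxle : ∀ L ∈ M, ∃ N ∈ Mx, L ≤ N := fun L hL => by
    obtain ⟨N, hLN, hN⟩ := (Set.toFinite M).exists_le_maximal hL
    exact ⟨N, hN, hLN⟩
  obtain ⟨i₀, -⟩ := hcov 1 (one_mem H) ⟨0, by simp⟩
  haveI : Nonempty ι := ⟨i₀⟩
  choose! f hf using hMK
  have hinj : Set.InjOn f Mx := by
    intro A hA B hB he
    have hsup : A ⊔ B ∈ M := by
      refine ⟨lt_of_le_of_ne (sup_le hA.1.1.le hB.1.1.le) fun h => hc (f A) ?_,
        pgen_sup hA.1.2 hB.1.2⟩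
      rw [← h]
      exact sup_le (hf A hA.1) (he ▸ hf B hB.1)
    exact le_antisymm ((le_sup_left : A ≤ A ⊔ B).trans (hB.2 hsup le_sup_right))
      ((le_sup_right : B ≤ A ⊔ B).trans (hA.2 hsup le_sup_left))
  have hMcard : Mx.ncard ≤ p := by
    refine le_trans ?_ hn
    rw [← Set.ncard_image_of_injOn hinj]
    exact (Set.ncard_le_ncard (Set.subset_univ _)).trans
      (by rw [Set.ncard_univ, Nat.card_eq_fintype_card])
  -- conjugation by elements of `H` permutes `Mx`
  have hconjM : ∀ x ∈ H, ∀ L ∈ M, ConjAct.toConjAct x • L ∈ M := by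
    intro x hx L hL
    refine ⟨?_, pgen_conj hL.2 _⟩
    rw [← conj_smul_self hx]
    refine lt_of_le_of_ne (Subgroup.pointwise_smul_le_pointwise_smul_iff.2 hL.1.le) ?_
    exact fun h => hL.1.ne (MulAction.injective _ h)
  have hconjX : ∀ x ∈ H, ∀ L ∈ Mx, ConjAct.toConjAct x • L ∈ Mx := by
    intro x hx L hL
    refine ⟨hconjM x hx L hL.1, fun N hN hle => ?_⟩
    have h1 := hconjM x⁻¹ (H.inv_mem hx) N hN
    rw [ConjAct.toConjAct_inv] at h1
    have h2 : L ≤ (ConjAct.toConjAct x)⁻¹ • N := by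
      rw [← inv_smul_smul (ConjAct.toConjAct x) L]
      exact Subgroup.pointwise_smul_le_pointwise_smul_iff.2 hle
    have h3 := Subgroup.pointwise_smul_le_pointwise_smul_iff (a := ConjAct.toConjAct x).2
      (hL.2 h1 h2)
    rwa [smul_inv_smul] at h3
  -- every `p`-element of `H` fixes every member of `Mx`
  have hfix : ∀ x ∈ H, IsPEl p x → ∀ L ∈ Mx, ConjAct.toConjAct x • L = L := by
    intro x hx hxp L hL
    have hz : Subgroup.zpowers x ∈ M := by
      refine ⟨lt_of_le_of_ne (Subgroup.zpowers_le.2 hx) fun h => ?_,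
        pgen_of_isPGroup (isPGroup_zpowers hxp)⟩
      obtain ⟨i, hi⟩ := hcov x hx hxp
      exact hc i (h ▸ Subgroup.zpowers_le.2 hi)
    obtain ⟨N, hN, hxN⟩ := hMxle _ hz
    have hxN' : ConjAct.toConjAct x • N = N := conj_smul_self (hxN (Subgroup.mem_zpowers x))
    by_contra hne
    have hP : IsPGroup p (Subgroup.zpowers (ConjAct.toConjAct x)) := by
      refine isPGroup_zpowers ?_
      obtain ⟨k, hk⟩ := hxp
      exact ⟨k, by rw [← hk]; exact MulEquiv.orderOf_eq ConjAct.toConjAct x⟩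
    obtain ⟨j, hj⟩ := hP.card_orbit L
    have hsub : MulAction.orbit (Subgroup.zpowers (ConjAct.toConjAct x)) L ⊆ Mx \ {N} := by
      rintro _ ⟨⟨c, hc'⟩, rfl⟩
      obtain ⟨n, rfl⟩ := Subgroup.mem_zpowers_iff.1 hc'
      simp only [Set.mem_sdiff, Set.mem_singleton_iff, Subgroup.mk_smul]
      rw [← map_zpow]
      refine ⟨hconjX _ (H.zpow_mem hx n) L hL, fun h => ?_⟩
      have hN' : ConjAct.toConjAct (x ^ n) • N = N :=
        conj_smul_self (N.zpow_mem (hxN (Subgroup.mem_zpowers x)) n)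
      exact hne (by rw [MulAction.injective _ (h.trans hN'.symm)]; exact hxN')
    have h3 : (MulAction.orbit (Subgroup.zpowers (ConjAct.toConjAct x)) L).ncard ≤ p - 1 := by
      refine (Set.ncard_le_ncard hsub).trans ?_
      rw [Set.ncard_sdiff_singleton_of_mem hN]
      omega
    rw [← Nat.card_coe_set_eq, hj] at h3
    have hp2 := (Fact.out : p.Prime).two_le
    have hj0 : j = 0 := by
      by_contra h
      have := Nat.le_self_pow h p
      omega
    rw [hj0, pow_zero, Nat.card_coe_set_eq, Set.ncard_eq_one] at hj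
    obtain ⟨a, ha⟩ := hj
    have e1 : L ∈ ({a} : Set (Subgroup G)) := ha ▸ MulAction.mem_orbit_self _
    have e2 : ConjAct.toConjAct x • L ∈ ({a} : Set (Subgroup G)) := ha ▸
      MulAction.mem_orbit (m := (⟨_, Subgroup.mem_zpowers _⟩ :
        Subgroup.zpowers (ConjAct.toConjAct x))) L
    exact hne ((Set.mem_singleton_iff.1 e2).trans (Set.mem_singleton_iff.1 e1).symm)
  -- a Sylow subgroup of `H` lies in a member, which is then normal
  obtain ⟨R⟩ : Nonempty (Sylow p H) := inferInstance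
  have hRp : IsPGroup p ((R : Subgroup H).map H.subtype) := R.2.map _
  obtain ⟨i, hi⟩ := cover_pgroup hn K hRp fun g hg =>
    hcov g (Subgroup.map_subtype_le _ hg) (isPEl_of_mem hRp hg)
  have hRM : (R : Subgroup H).map H.subtype ∈ M :=
    ⟨lt_of_le_of_ne (Subgroup.map_subtype_le _) fun h => hc i (h.symm.le.trans hi),
      pgen_of_isPGroup hRp⟩
  obtain ⟨N, hN, hRN⟩ := hMxle _ hRM
  have hnorm : ∀ x ∈ H, ConjAct.toConjAct x • N = N := by
    intro x hx
    have hx' := hH hx
    clear hx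
    induction hx' using Subgroup.closure_induction with
    | mem y hy => exact hfix y hy.1 hy.2 N hN
    | one => rw [map_one, one_smul]
    | mul a b _ _ ha hb =>
      rw [map_mul, mul_smul, hb, ha]
    | inv a _ ha => rw [map_inv, inv_smul_eq_iff, ha]
  refine hN.1.1.not_ge (hH.trans ((Subgroup.closure_le N).2 ?_))
  rintro g ⟨hg, hgp⟩
  obtain ⟨k, hk⟩ := hgp
  have hgP : IsPGroup p (Subgroup.zpowers (⟨g, hg⟩ : H)) :=
    isPGroup_zpowers ⟨k, by rw [Subgroup.orderOf_mk, hk]⟩
  obtain ⟨R', hR'⟩ := hgP.exists_le_sylow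
  obtain ⟨h, rfl⟩ := MulAction.exists_smul_eq H R R'
  have h1 := hR' (Subgroup.mem_zpowers _)
  change _ ∈ (MulAut.conj h • (R : Subgroup H) : Subgroup H) at h1
  rw [Subgroup.mem_pointwise_smul_iff_inv_smul_mem, MulAut.smul_def,
    MulAut.conj_inv_apply] at h1
  have h2 : (h : G)⁻¹ * g * h ∈ N := hRN (Subgroup.mem_map_of_mem H.subtype h1)
  rw [SetLike.mem_coe, ← hnorm (h : G) h.2, Subgroup.mem_pointwise_smul_iff_inv_smul_mem,
    ← ConjAct.toConjAct_inv, ConjAct.toConjAct_smul, inv_inv]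
  exact h2

end

/-- Let p be a prime and G a finite group generated by its p-elements. If a finite family of proper subgroups of G covers the set of p-elements of G (every element of p-power order lies in one of them), then the family has at least p + 1 members. -/
theorem result {G : Type*} [Group G] [Finite G] (p : ℕ) [Fact p.Prime] (hgen : Subgroup.closure {g : G | ∃ k : ℕ, orderOf g = p ^ k} = ⊤)
    {ι : Type*} [Fintype ι] (K : ι → Subgroup G) (hK : ∀ i, K i ≠ ⊤)
    (hcov : ∀ g : G, (∃ k : ℕ, orderOf g = p ^ k) → ∃ i, g ∈ K i) :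
    p + 1 ≤ Fintype.card ι := by
  by_contra hc
  have hn : Fintype.card ι ≤ p := by omega
  obtain ⟨i, hi⟩ := core hn K _ (⊤ : Subgroup G) rfl (by
    intro x _
    have : x ∈ Subgroup.closure {g : G | ∃ k : ℕ, orderOf g = p ^ k} := hgen ▸ Subgroup.mem_top x
    exact Subgroup.closure_mono (k := {g : G | g ∈ (⊤ : Subgroup G) ∧ IsPEl p g})
      (fun g hg => ⟨Subgroup.mem_top g, hg⟩) this)
    (fun g _ hg => hcov g hg)
  exact hK i (top_le_iff.1 hi)

end Cfsg.Agent.S4182
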