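import Cfsg.Statements.S4184
import Mathlib
import Cfsg.Agent.Lib.ClassPrimes
import Cfsg.Agent.Lib.ClassSizeGraph76

set_option autoImplicit false
open Cfsg

namespace Cfsg.Agent.S4184

open Cfsg.Agent.ClassSizeGraph76

/-- `n` has the full `S`-part of `N`. -/
def Full (S : Set ℕ) (N n : ℕ) : Prop := ∀ r : ℕ, r.Prime → r ∈ S → N.factorization r ≤ n.factorization r

section Basic

variable {H : Type*} [Group H] [Finite H]

theorem factorization_cs (x : H) (r : ℕ) :
    (Nat.card H).factorization r =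
      (cs x).factorization r + (Nat.card (Subgroup.centralizer ({x} : Set H))).factorization r := by
  rw [← Subgroup.index_mul_card (Subgroup.centralizer ({x} : Set H)),
    Nat.factorization_mul Subgroup.index_ne_zero_of_finite Nat.card_pos.ne', Finsupp.add_apply]

theorem cs_ne_one (hZ : Subgroup.center H = ⊥) {x : H} (hx : x ≠ 1) : cs x ≠ 1 := by
  intro h
  apply hx
  have : x ∈ Subgroup.center H := by
    rw [Subgroup.mem_center_iff]
    intro g
    have hg : g ∈ Subgroup.centralizer ({x} : Set H) := by rw [Subgroup.index_eq_one.mp h]; trivial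
    exact mem_cent.mp hg
  rwa [hZ, Subgroup.mem_bot] at this

/-- A prime not dividing any class size does not divide the order of a centreless group. -/
theorem exists_dvd_cs (hZ : Subgroup.center H = ⊥) {p : ℕ} [Fact p.Prime] (hp : p ∣ Nat.card H) :
    ∃ x : H, p ∣ cs x := by
  by_contra h
  push Not at h
  obtain ⟨P⟩ : Nonempty (Sylow p H) := inferInstance
  have hC : Subgroup.centralizer ((P : Subgroup H) : Set H) = ⊤ := by
    refine eq_top_of_conj_cover _ fun g => ?_
    obtain ⟨R, hR⟩ := exists_sylow_le (h g)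
    obtain ⟨k, hk⟩ := MulAction.exists_smul_eq H R P
    refine ⟨k, Subgroup.mem_centralizer_iff.mpr ?_⟩
    rw [← hk, Sylow.coe_subgroup_smul]
    rintro _ ⟨y, hy, rfl⟩
    have := mem_cent.mp (hR hy)
    show k * y * k⁻¹ * (k * g * k⁻¹) = k * g * k⁻¹ * (k * y * k⁻¹)
    calc k * y * k⁻¹ * (k * g * k⁻¹) = k * (y * g) * k⁻¹ := by group
      _ = k * (g * y) * k⁻¹ := by rw [this]
      _ = _ := by group
  have hle : (P : Subgroup H) ≤ ⊥ := by
    rw [← hZ]
    intro y hy
    rw [Subgroup.mem_center_iff]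
    intro g
    have hg : g ∈ Subgroup.centralizer ((P : Subgroup H) : Set H) := by rw [hC]; trivial
    exact (Subgroup.mem_centralizer_iff.mp hg y hy).symm
  exact P.ne_bot_of_dvd_card hp (le_bot_iff.mp hle)

end Basic

section M

variable {M : Type*} [Group M] [Finite M] {A : Set ℕ}

/-- If `g ≠ 1` has a prime divisor of its order in `A`, the class size has full `Aᶜ`-part. -/
theorem full_of_order (hdisc : ∀ a ∈ A, ∀ b ∉ A, a.Prime → b.Prime → a ∣ Nat.card M → b ∣ Nat.card M → ¬ ∃ x : M, orderOf x = a * b)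
    {g : M} {s : ℕ} (hs : s.Prime) (hsg : s ∣ orderOf g) :
    (s ∈ A → Full Aᶜ (Nat.card M) (cs g)) ∧ (s ∉ A → Full A (Nat.card M) (cs g)) := by
  set a := g ^ (orderOf g / s)
  have ha : orderOf a = s := orderOf_pow_orderOf_div (orderOf_pos g).ne' hsg
  have hsM : s ∣ Nat.card M := hsg.trans (orderOf_dvd_natCard g)
  have key : ∀ r : ℕ, r.Prime → (¬ ∃ x : M, orderOf x = s * r) → s ≠ r → (Nat.card M).factorization r ≤ (cs g).factorization r := by
    intro r hr hno hne
    have : ¬ r ∣ Nat.card (Subgroup.centralizer ({g} : Set M)) := by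
      intro hd
      haveI := Fact.mk hr
      obtain ⟨c, hc⟩ := exists_prime_orderOf_dvd_card' r hd
      rw [← Subgroup.orderOf_coe] at hc
      refine hno ⟨a * c, ?_⟩
      have hcomm : Commute a (c : M) := (Commute.pow_left (mem_cent.mp c.2 : Commute (c : M) g).symm _)
      rw [hcomm.orderOf_mul_eq_mul_orderOf_of_coprime (by rw [ha, hc]; exact (Nat.coprime_primes hs hr).mpr hne), ha, hc]
    rw [factorization_cs g r, Nat.factorization_eq_zero_of_not_dvd this, add_zero]
  constructor
  · intro hsA r hr hrA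
    by_cases hrM : r ∣ Nat.card M
    · exact key r hr (hdisc s hsA r hrA hs hr hsM hrM) (fun h => hrA (h ▸ hsA))
    · rw [Nat.factorization_eq_zero_of_not_dvd hrM]; exact Nat.zero_le _
  · intro hsA r hr hrA
    by_cases hrM : r ∣ Nat.card M
    · exact key r hr (fun ⟨x, hx⟩ => hdisc r hrA s hsA hr hs hrM hsM ⟨x, by rw [hx, Nat.mul_comm]⟩) (fun h => hsA (h ▸ hrA))
    · rw [Nat.factorization_eq_zero_of_not_dvd hrM]; exact Nat.zero_le _

theorem not_both [Nontrivial M] (g : M) (h1 : Full A (Nat.card M) (cs g)) (h2 : Full Aᶜ (Nat.card M) (cs g)) : False := by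
  have hle : (Nat.card M).factorization ≤ (cs g).factorization := by
    intro r
    by_cases hr : r.Prime
    · by_cases hA : r ∈ A
      · exact h1 r hr hA
      · exact h2 r hr hA
    · simp [Nat.factorization_eq_zero_of_not_prime _ hr]
  have hd : Nat.card M ∣ cs g :=
    (Nat.factorization_le_iff_dvd Nat.card_pos.ne' Subgroup.index_ne_zero_of_finite).mp hle
  have he : cs g = Nat.card M := Nat.dvd_antisymm (Subgroup.index_dvd_card _) hd
  have h1c : Nat.card (Subgroup.centralizer ({g} : Set M)) = 1 := by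
    have := Subgroup.index_mul_card (Subgroup.centralizer ({g} : Set M))
    change cs g * _ = _ at this
    rw [he] at this
    exact Nat.eq_of_mul_eq_mul_left Nat.card_pos (this.trans (mul_one _).symm)
  have hg : g = 1 := by
    have hb := Subgroup.eq_bot_of_card_eq _ h1c
    have : g ∈ Subgroup.centralizer ({g} : Set M) := mem_cent.mpr rfl
    rwa [hb, Subgroup.mem_bot] at this
  subst hg
  have : cs (1 : M) = 1 := Cfsg.Agent.ClassPrimes.index_centralizer_one
  have := Finite.one_lt_card (α := M)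
  omega

end M

/-- Excess in the `p`-part is impossible. -/
theorem le_part {G : Type*} [Group G] [Finite G] {N p q : ℕ} [Fact p.Prime] [Fact q.Prime] (S : Set ℕ)
    (hpS : p ∈ S) (hqS : q ∉ S) (hqN : q ∣ N) (hN : N ≠ 0) (hqG : q ∣ Nat.card G)
    (hdvd : ∀ x : G, cs x ∣ N) (hor : ∀ x : G, x ≠ 1 → Full S N (cs x) ∨ Full Sᶜ N (cs x))
    (hnb : ∀ x : G, Full S N (cs x) → Full Sᶜ N (cs x) → False) (hpN : p ∣ N) :
    (Nat.card G).factorization p ≤ N.factorization p := by
  have hp : p.Prime := Fact.out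
  have hq : q.Prime := Fact.out
  by_contra hlt
  rw [not_le] at hlt
  obtain ⟨Q⟩ : Nonempty (Sylow q G) := inferInstance
  haveI : Nontrivial (Q : Subgroup G) := (Subgroup.nontrivial_iff_ne_bot _).mpr (Q.ne_bot_of_dvd_card hqG)
  haveI := Q.isPGroup'.center_nontrivial
  obtain ⟨⟨⟨x, hxQ⟩, hxc⟩, hx1⟩ := exists_ne (1 : Subgroup.center (Q : Subgroup G))
  have hxne : x ≠ 1 := fun h => hx1 (by simp [h])
  have hxQc : ¬ q ∣ cs x := not_dvd_index_of_sylow_le Q fun b hb =>
    mem_cent.mpr (congrArg Subtype.val (Subgroup.mem_center_iff.mp hxc ⟨b, hb⟩))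
  have hnfull : ∀ w : G, ¬ q ∣ cs w → ¬ Full Sᶜ N (cs w) := by
    intro w hw h
    have h1 := h q hq hqS
    rw [Nat.factorization_eq_zero_of_not_dvd hw] at h1
    have h2 := hq.factorization_pos_of_dvd hN hqN
    omega
  have hxfull : Full S N (cs x) := (hor x hxne).resolve_right (hnfull x hxQc)
  have hle : ∀ w : G, (cs w).factorization p ≤ N.factorization p := fun w =>
    (Nat.factorization_le_iff_dvd Subgroup.index_ne_zero_of_finite hN).mpr (hdvd w) p
  set Cx := Subgroup.centralizer ({x} : Set G)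
  set e := (Nat.card Cx).factorization p
  have hfx : (Nat.card G).factorization p = (cs x).factorization p + e := factorization_cs x p
  have hx' := hxfull p hp hpS
  have hx'' := hle x
  have he1 : 1 ≤ e := by omega
  obtain ⟨T₀⟩ : Nonempty (Sylow p Cx) := inferInstance
  set T := (T₀ : Subgroup Cx).map Cx.subtype
  have hT : Nat.card T = p ^ e := by
    rw [Subgroup.card_map_of_injective Cx.subtype_injective, T₀.card_eq_multiplicity]
  have hTp : IsPGroup p T := T₀.isPGroup'.map _
  haveI : Nontrivial T := by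
    rw [← Finite.one_lt_card_iff_nontrivial, hT]
    exact Nat.one_lt_pow (by omega) hp.one_lt
  haveI := hTp.center_nontrivial
  obtain ⟨P, hP⟩ := hTp.exists_le_sylow
  haveI : Nontrivial (P : Subgroup G) := by
    rw [Subgroup.nontrivial_iff_ne_bot]
    intro h
    have := (Subgroup.nontrivial_iff_ne_bot T).mp ‹_›
    exact this (le_bot_iff.mp (h ▸ hP))
  haveI := P.isPGroup'.center_nontrivial
  obtain ⟨⟨⟨z, hzP⟩, hzc⟩, hz1⟩ := exists_ne (1 : Subgroup.center (P : Subgroup G))
  have hzne : z ≠ 1 := fun h => hz1 (by simp [h])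
  have hzc' : ∀ b ∈ (P : Subgroup G), b * z = z * b := fun b hb =>
    congrArg Subtype.val (Subgroup.mem_center_iff.mp hzc ⟨b, hb⟩)
  have hfull : ∀ y ∈ T, y ≠ 1 → Full S N (cs y) := by
    intro y hy hy1
    refine (hor y hy1).resolve_right fun hy' => ?_
    have hyx : Commute x y := by
      obtain ⟨⟨y', hy'C⟩, -, rfl⟩ := hy
      exact (mem_cent.mp hy'C).symm
    have hco : (orderOf x).Coprime (orderOf y) := by
      obtain ⟨i, hi⟩ := IsPGroup.iff_orderOf.mp Q.isPGroup' ⟨x, hxQ⟩
      obtain ⟨j, hj⟩ := IsPGroup.iff_orderOf.mp hTp ⟨y, hy⟩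
      rw [Subgroup.orderOf_mk] at hi hj
      rw [hi, hj]
      exact ((Nat.coprime_primes hq hp).mpr (fun h => hqS (h ▸ hpS))).pow i j
    have hsub : Subgroup.centralizer ({x * y} : Set G) ≤ Subgroup.centralizer ({x} : Set G) ⊓ Subgroup.centralizer ({y} : Set G) := by
      intro g hg
      rw [mem_cent] at hg
      have key : ∀ i, Commute g ((x * y) ^ i) := fun i => Commute.pow_right hg i
      refine ⟨mem_cent.mpr ?_, mem_cent.mpr ?_⟩
      · obtain ⟨m, hm1, hm2⟩ := Nat.chineseRemainder hco 1 0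
        have : (x * y) ^ m = x := by
          rw [hyx.mul_pow, pow_eq_pow_iff_modEq.mpr hm1, pow_eq_pow_iff_modEq.mpr hm2, pow_one, pow_zero, mul_one]
        exact this ▸ key m
      · obtain ⟨m, hm1, hm2⟩ := Nat.chineseRemainder hco 0 1
        have : (x * y) ^ m = y := by
          rw [hyx.mul_pow, pow_eq_pow_iff_modEq.mpr hm1, pow_eq_pow_iff_modEq.mpr hm2, pow_one, pow_zero, one_mul]
        exact this ▸ key m
    have mono : ∀ {w : G} {R : Set ℕ}, cs w ∣ cs (x * y) → Full R N (cs w) → Full R N (cs (x * y)) :=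
      fun h hf r hr hrR => (hf r hr hrR).trans
        ((Nat.factorization_le_iff_dvd Subgroup.index_ne_zero_of_finite Subgroup.index_ne_zero_of_finite).mpr h r)
    exact hnb (x * y) (mono (Subgroup.index_dvd_of_le (hsub.trans inf_le_left)) hxfull)
      (mono (Subgroup.index_dvd_of_le (hsub.trans inf_le_right)) hy')
  obtain ⟨⟨⟨y, hyT⟩, hyc⟩, hy1⟩ := exists_ne (1 : Subgroup.center T)
  have hyne : y ≠ 1 := fun h => hy1 (by simp [h])
  set U := T ⊔ Subgroup.zpowers z
  have hUP : U ≤ (P : Subgroup G) := sup_le hP ((Subgroup.zpowers_le).mpr hzP)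
  have hUC : U ≤ Subgroup.centralizer ({y} : Set G) := by
    refine sup_le (fun b hb => mem_cent.mpr ?_) ((Subgroup.zpowers_le).mpr (mem_cent.mpr ?_))
    · exact congrArg Subtype.val (Subgroup.mem_center_iff.mp hyc ⟨b, hb⟩)
    · exact (hzc' y (hP hyT)).symm
  obtain ⟨k, hk⟩ := IsPGroup.iff_card.mp (P.isPGroup'.to_le hUP)
  have hky : k ≤ (Nat.card (Subgroup.centralizer ({y} : Set G))).factorization p :=
    (hp.pow_dvd_iff_le_factorization Nat.card_pos.ne').mp (hk ▸ Subgroup.card_dvd_of_le hUC)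
  have hke : k ≤ e := by
    have h1 := factorization_cs y p
    have h2 := hfull y hyT hyne p hp hpS
    omega
  have hTU : T = U := Subgroup.eq_of_le_of_card_ge le_sup_left (by rw [hk, hT]; exact Nat.pow_le_pow_right hp.pos hke)
  have hzT : z ∈ T := hTU ▸ Subgroup.mem_sup_right (Subgroup.mem_zpowers z)
  have h1 := hfull z hzT hzne p hp hpS
  have h2 : ¬ p ∣ cs z := not_dvd_index_of_sylow_le P fun b hb => mem_cent.mpr (hzc' b hb)
  rw [Nat.factorization_eq_zero_of_not_dvd h2] at h1
  have h3 := hp.factorization_pos_of_dvd hN hpN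
  omega

/-- Let G and M be finite groups with trivial centres and the same set of conjugacy class sizes, and suppose the prime graph of M is disconnected: the prime divisors of #M split into two non-empty parts such that M has no element of order pq with p in one part and q in the other. Then #G = #M. -/
theorem result {G M : Type*}
    [Group G] [Finite G] [Group M] [Finite M] (hZG : Subgroup.center G = ⊥) (hZM : Subgroup.center M = ⊥)
    (h : Set.range (fun g : G => (Subgroup.centralizer ({g} : Set G)).index) = Set.range (fun g : M => (Subgroup.centralizer ({g} : Set M)).index))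
    (hdisc : ∃ A : Set ℕ, (∃ a ∈ A, a.Prime ∧ a ∣ Nat.card M) ∧ (∃ b ∉ A, b.Prime ∧ b ∣ Nat.card M) ∧
      ∀ a ∈ A, ∀ b ∉ A, a.Prime → b.Prime → a ∣ Nat.card M → b ∣ Nat.card M → ¬ ∃ x : M, orderOf x = a * b) :
    Nat.card G = Nat.card M := by
  obtain ⟨A, ⟨a, haA, ha, haM⟩, ⟨b, hbA, hb, hbM⟩, hd⟩ := hdisc
  haveI := Fact.mk ha
  haveI := Fact.mk hb
  haveI : Nontrivial M := Finite.one_lt_card_iff_nontrivial.mp (ha.one_lt.trans_le (Nat.le_of_dvd Nat.card_pos haM))
  have hMor : ∀ g : M, g ≠ 1 → Full A (Nat.card M) (cs g) ∨ Full Aᶜ (Nat.card M) (cs g) := by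
    intro g hg
    obtain ⟨s, hs, hsg⟩ := Nat.exists_prime_and_dvd (mt orderOf_eq_one_iff.mp hg)
    by_cases hsA : s ∈ A
    · exact Or.inr ((full_of_order hd hs hsg).1 hsA)
    · exact Or.inl ((full_of_order hd hs hsg).2 hsA)
  have hGM : ∀ x : G, ∃ g : M, cs g = cs x := fun x => by
    have : (Subgroup.centralizer ({x} : Set G)).index ∈ Set.range (fun g : M => (Subgroup.centralizer ({g} : Set M)).index) := h ▸ ⟨x, rfl⟩
    exact this
  have hMG : ∀ g : M, ∃ x : G, cs x = cs g := fun g => by
    have : (Subgroup.centralizer ({g} : Set M)).index ∈ Set.range (fun x : G => (Subgroup.centralizer ({x} : Set G)).index) := h.symm ▸ ⟨g, rfl⟩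
    exact this
  have hdvd : ∀ x : G, cs x ∣ Nat.card M := fun x => by
    obtain ⟨g, hg⟩ := hGM x; exact hg ▸ Subgroup.index_dvd_card _
  have hor : ∀ x : G, x ≠ 1 → Full A (Nat.card M) (cs x) ∨ Full Aᶜ (Nat.card M) (cs x) := by
    intro x hx
    obtain ⟨g, hg⟩ := hGM x
    rw [← hg]
    refine hMor g fun h1 => cs_ne_one hZG hx ?_
    rw [← hg, h1]
    exact Cfsg.Agent.ClassPrimes.index_centralizer_one
  have hnb : ∀ x : G, Full A (Nat.card M) (cs x) → Full Aᶜ (Nat.card M) (cs x) → False := fun x h1 h2 => by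
    obtain ⟨g, hg⟩ := hGM x; rw [← hg] at h1 h2; exact not_both g h1 h2
  have hlow : ∀ r : ℕ, r.Prime → (Nat.card M).factorization r ≤ (Nat.card G).factorization r := by
    intro r hr
    have aux : ∀ g : M, (Nat.card M).factorization r ≤ (cs g).factorization r → (Nat.card M).factorization r ≤ (Nat.card G).factorization r := by
      intro g hg
      obtain ⟨x, hx⟩ := hMG g
      rw [← hx] at hg
      exact hg.trans ((Nat.factorization_le_iff_dvd Subgroup.index_ne_zero_of_finite Nat.card_pos.ne').mpr (Subgroup.index_dvd_card _) r)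
    by_cases hrA : r ∈ A
    · obtain ⟨g, hg⟩ := exists_prime_orderOf_dvd_card' b hbM
      exact aux g ((full_of_order hd hb hg.symm.dvd).2 hbA r hr hrA)
    · obtain ⟨g, hg⟩ := exists_prime_orderOf_dvd_card' a haM
      exact aux g ((full_of_order hd ha hg.symm.dvd).1 haA r hr hrA)
  have hMdvdG : Nat.card M ∣ Nat.card G := by
    rw [← Nat.factorization_le_iff_dvd Nat.card_pos.ne' Nat.card_pos.ne']
    intro r
    by_cases hr : r.Prime
    · exact hlow r hr
    · simp [Nat.factorization_eq_zero_of_not_prime _ hr]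
  refine Nat.eq_of_factorization_eq Nat.card_pos.ne' Nat.card_pos.ne' fun p => ?_
  by_cases hp : p.Prime
  swap
  · simp [Nat.factorization_eq_zero_of_not_prime _ hp]
  haveI := Fact.mk hp
  refine le_antisymm ?_ (hlow p hp)
  by_cases hpG : p ∣ Nat.card G
  swap
  · rw [Nat.factorization_eq_zero_of_not_dvd hpG]; exact Nat.zero_le _
  have hpM : p ∣ Nat.card M := by
    obtain ⟨x, hx⟩ := exists_dvd_cs hZG hpG
    exact hx.trans (hdvd x)
  by_cases hpA : p ∈ A
  · exact le_part A hpA hbA hbM Nat.card_pos.ne' (hbM.trans hMdvdG) hdvd hor hnb hpM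
  · exact le_part Aᶜ hpA (fun h => h haA) haM Nat.card_pos.ne' (haM.trans hMdvdG) hdvd
      (fun x hx => by rw [compl_compl]; exact (hor x hx).symm)
      (fun x h1 h2 => by rw [compl_compl] at h2; exact hnb x h2 h1) hpM

end Cfsg.Agent.S4184
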