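import Cfsg.Statements.S4186

set_option autoImplicit false
open Cfsg

namespace Cfsg.Agent.S4186

/-- Let T and X be subgroups of a group with T a finite 2-group normalizing X but not centralizing it. Then some element of T inverts some non-identity element of X under conjugation. -/
theorem result {G : Type*} [Group G] (T X : Subgroup G) [Finite ↥T] (hT : IsPGroup 2 ↥T) (hTN : T ≤ Subgroup.normalizer (X : Set G)) (hTC : ¬ T ≤ Subgroup.centralizer (X : Set G)) : ∃ t ∈ T, ∃ x ∈ X, x ≠ 1 ∧ t * x * t⁻¹ = x⁻¹ := by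
  classical
  obtain ⟨t, htT, htC⟩ : ∃ t ∈ T, t ∉ Subgroup.centralizer (X : Set G) := SetLike.not_le_iff_exists.mp hTC
  obtain ⟨j, hj⟩ := hT ⟨t, htT⟩
  have hj' : t ^ 2 ^ j = 1 := by simpa using congrArg Subtype.val hj
  have hex : ∃ k, t ^ 2 ^ k ∈ Subgroup.centralizer (X : Set G) := ⟨j, hj' ▸ one_mem _⟩
  obtain ⟨k, hk, hmin⟩ : ∃ k, t ^ 2 ^ k ∈ Subgroup.centralizer (X : Set G) ∧ ∀ i < k, t ^ 2 ^ i ∉ Subgroup.centralizer (X : Set G) :=
    ⟨Nat.find hex, Nat.find_spec hex, fun i hi => Nat.find_min hex hi⟩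
  rcases k with _ | k
  · simp at hk; exact absurd hk htC
  have hu : t ^ 2 ^ k ∈ T := pow_mem htT _
  have huC := hmin k (Nat.lt_succ_self k)
  rw [pow_succ, pow_mul] at hk
  generalize t ^ 2 ^ k = u at hu huC hk
  rw [Subgroup.mem_centralizer_iff] at huC hk
  push Not at huC
  obtain ⟨x, hx, hne⟩ := huC
  have hxu : u * x * u⁻¹ ∈ X := ((Subgroup.mem_normalizer_iff.mp (hTN hu)) x).mp hx
  refine ⟨u, hu, x⁻¹ * (u * x * u⁻¹), mul_mem (inv_mem hx) hxu, ?_, ?_⟩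
  · intro h
    apply hne
    have h2 : x = u * x * u⁻¹ := inv_mul_eq_one.mp h
    exact (eq_mul_inv_iff_mul_eq.mp h2)
  · have h2 : u ^ 2 * x * (u ^ 2)⁻¹ = x := by rw [← hk x hx]; group
    calc u * (x⁻¹ * (u * x * u⁻¹)) * u⁻¹ = (u * x⁻¹ * u⁻¹) * (u ^ 2 * x * (u ^ 2)⁻¹) := by group
      _ = _ := by rw [h2]; group

end Cfsg.Agent.S4186
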