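import Cfsg.Statements.S4188
import Cfsg.Agent.Lib.LinearTwoGroupGen44

set_option autoImplicit false
open Cfsg

namespace Cfsg.Agent.S4188

open Cfsg.Agent.LinearTwoGroupGen44
open scoped Pointwise

/-- Let G be a finite group that is the semidirect product of a normal abelian subgroup N of odd order by a 2-subgroup P, and suppose N is the unique minimal normal subgroup of G. Then the index of the Frattini subgroup of P in P is at most #N − 1. -/
theorem result {G : Type*} [Group G] [Finite G] (N P : Subgroup G) (hN : N.Normal) (hNab : IsMulCommutative ↥N) (hNodd : Odd (Nat.card ↥N)) (hP : IsPGroup 2 ↥P) (hdisj : N ⊓ P = ⊥) (hprod : N ⊔ P = ⊤) (hmin : N ≠ ⊥ ∧ ∀ M : Subgroup G, M.Normal → M ≠ ⊥ → N ≤ M) : (frattini ↥P).index ≤ Nat.card ↥N - 1 := by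
  classical
  letI : CommGroup N := { (inferInstance : Group N) with mul_comm := hNab.is_comm.comm }
  let φ : P →* MulAut N := (MulAut.conjNormal : G →* MulAut N).comp P.subtype
  have hφa : ∀ (g : P) (x : N), ((φ g x : N) : G) = g * x * (g : G)⁻¹ := fun g x =>
    MulAut.conjNormal_apply (g : G) x
  have hnormal : ∀ M : Subgroup G, (∀ n ∈ N, ∀ m ∈ M, n * m * n⁻¹ ∈ M) →
      (∀ p ∈ P, ∀ m ∈ M, p * m * p⁻¹ ∈ M) → M.Normal := by
    intro M h1 h2
    refine ⟨fun m hm g => ?_⟩
    obtain ⟨n, hn, p, hp, rfl⟩ : g ∈ (N : Set G) * (P : Set G) := by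
      rw [← Subgroup.normal_mul, hprod]; exact Subgroup.mem_top g
    have := h1 n hn _ (h2 p hp m hm)
    simp only [smul_eq_mul]
    rwa [show n * (p * m * p⁻¹) * n⁻¹ = n * p * m * (n * p)⁻¹ by group] at this
  have hcomm : ∀ x ∈ N, ∀ y ∈ N, x * y = y * x := fun x hx y hy =>
    congrArg Subtype.val (hNab.is_comm.comm (⟨x, hx⟩ : N) ⟨y, hy⟩)
  have hφ : Function.Injective φ := by
    rw [injective_iff_map_eq_one]
    intro g hg
    let K : Subgroup G := P ⊓ Subgroup.centralizer (N : Set G)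
    have hgK : (g : G) ∈ K := ⟨g.2, fun n hn => by
      have := congrArg Subtype.val (DFunLike.congr_fun hg ⟨n, hn⟩)
      rw [hφa, MulAut.one_apply, mul_inv_eq_iff_eq_mul] at this
      exact this.symm⟩
    by_contra hne
    have hKn : K.Normal := by
      refine hnormal K (fun n hn m hm => ?_) (fun p hp m hm => ⟨?_, ?_⟩)
      · rw [hm.2 n hn, mul_inv_cancel_right]; exact hm
      · exact P.mul_mem (P.mul_mem hp hm.1) (P.inv_mem hp)
      · intro n hn
        have hn' : p⁻¹ * n * p ∈ N := by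
          have := hN.conj_mem n hn p⁻¹
          rwa [inv_inv] at this
        calc n * (p * m * p⁻¹) = p * ((p⁻¹ * n * p) * m) * p⁻¹ := by group
          _ = p * (m * (p⁻¹ * n * p)) * p⁻¹ := by rw [hm.2 _ hn']
          _ = p * m * p⁻¹ * n := by group
    have hle := hmin.2 K hKn (fun h => hne (Subtype.ext (Subgroup.mem_bot.1 (h ▸ hgK))))
    exact hmin.1 (eq_bot_iff.2 ((le_inf le_rfl (hle.trans inf_le_left)).trans hdisj.le))
  have hirr : Irred φ := by
    intro W hW
    by_cases hb : W = ⊥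
    · exact Or.inl hb
    right
    have hWn : (W.map N.subtype).Normal := by
      refine hnormal _ ?_ ?_
      · rintro n hn _ ⟨w, hw, rfl⟩
        refine ⟨w, hw, ?_⟩
        simp only [Subgroup.coe_subtype]
        rw [hcomm n hn _ w.2, mul_inv_cancel_right]
      · rintro p hp _ ⟨w, hw, rfl⟩
        exact ⟨φ ⟨p, hp⟩ w, hW _ w hw, hφa ⟨p, hp⟩ w⟩
    have hle := hmin.2 _ hWn (fun h =>
      hb ((Subgroup.map_eq_bot_iff_of_injective _ N.subtype_injective).1 h))
    refine eq_top_iff.2 fun x _ => ?_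
    obtain ⟨w, hw, hwx⟩ := hle x.2
    rwa [← N.subtype_injective hwx]
  have h1 : 1 < Nat.card N := (Subgroup.one_lt_card_iff_ne_bot N).2 hmin.1
  obtain ⟨r, hr, hb⟩ := exists_bound (Nat.card N) P N rfl hNodd h1 hP φ hφ hirr
  refine (index_frattini_le hP hr).trans ?_
  rcases hb with hb | ⟨-, hr1⟩
  · rw [pow_succ] at hb
    have := Nat.one_le_two_pow (n := r)
    omega
  · have h2 : 2 ^ r ≤ 2 := (Nat.pow_le_pow_right (by norm_num) hr1).trans_eq (pow_one 2)
    obtain ⟨m, hm⟩ := hNodd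
    omega

end Cfsg.Agent.S4188
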