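import Cfsg.Statements.S4189
import Mathlib
import Cfsg.Agent.Lib.FrattiniTuples
import Cfsg.Agent.Lib.PGroupsBasic
import Cfsg.Agent.Lib.PGroupsCyclic

set_option autoImplicit false
open Cfsg

namespace Cfsg.Agent.S4189

open scoped commutatorElement
open Subgroup

variable {P : Type*} [Group P] [Finite P]

/-- In a nilpotent group `K ≤ ⁅K, ⊤⁆` forces `K = ⊥`. -/
theorem eq_bot_of_le_commutator [Group.IsNilpotent P] {K : Subgroup P} (h : K ≤ ⁅K, (⊤ : Subgroup P)⁆) : K = ⊥ := by
  obtain ⟨n, hn⟩ := Subgroup.nilpotent_iff_lowerCentralSeries.mp (inferInstance : Group.IsNilpotent P)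
  have key : ∀ m, K ≤ (⊤ : Subgroup P).lowerCentralSeries m := by
    intro m
    induction m with
    | zero => simp
    | succ m ih =>
      refine h.trans ?_
      rw [Subgroup.lowerCentralSeries_succ]
      exact Subgroup.commutator_mono ih le_rfl
  exact le_bot_iff.mp (hn ▸ key n)

theorem commutes_mk {L : Subgroup P} [L.Normal] {x y : P} :
    Commute (QuotientGroup.mk' L x) (QuotientGroup.mk' L y) ↔ ⁅x, y⁆ ∈ L := by
  rw [← QuotientGroup.eq_one_iff, commute_iff_eq, ← commutatorElement_eq_one_iff_mul_comm]
  simp [commutatorElement_def]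

/-- An odd-order automorphism leaves no subgroup of index two invariant. -/
theorem no_invariant (hP : IsPGroup 2 P) (h4 : (commutator P).index = 4) (hsq : ∀ x : P, x ^ 2 ∈ commutator P)
    {n : ℕ} (hn : Nat.card P = 2 ^ n) (hfr : frattini P = commutator P)
    (β : MulAut P) (hβo : Odd (orderOf β)) (hβ1 : β ≠ 1) (S : Subgroup P) (hPS : commutator P ≤ S)
    (hS1 : S ≠ commutator P) (hS2 : S ≠ ⊤) (hinv : ∀ x ∈ S, β x ∈ S) : False := by
  have hrel : (commutator P).relIndex S * S.index = 4 := h4 ▸ Subgroup.relIndex_mul_index hPS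
  have hSi : S.index ≠ 1 := fun h => hS2 (Subgroup.index_eq_one.mp h)
  have hr1 : (commutator P).relIndex S ≠ 1 := fun h => hS1 (le_antisymm (Subgroup.relIndex_eq_one.mp h) hPS)
  have hpair : (commutator P).relIndex S = 2 ∧ S.index = 2 := by
    have h1 : (commutator P).relIndex S ∣ 4 := Dvd.intro _ hrel
    have h2 : S.index ∣ 4 := Dvd.intro_left _ hrel
    have := Nat.le_of_dvd (by norm_num) h1
    have := Nat.le_of_dvd (by norm_num) h2
    interval_cases h : (commutator P).relIndex S <;> omega
  haveI hSn : S.Normal := Subgroup.normal_of_index_eq_two hpair.2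
  have hbP : ∀ x : P, β x ∈ commutator P ↔ x ∈ commutator P := by
    intro x
    have h : (commutator P).map β.toMonoidHom = commutator P := Subgroup.characteristic_iff_map_eq.mp inferInstance β
    constructor
    · intro hx
      rw [← h] at hx
      obtain ⟨y, hy, hyx⟩ := hx
      exact β.injective hyx ▸ hy
    · intro hx; rw [← h]; exact ⟨x, hx, rfl⟩
  have hfix : ∀ d ∈ S, β d * d ∈ commutator P := by
    intro d hd
    have := (Subgroup.mul_mem_iff_of_index_two (H := (commutator P).subgroupOf S) hpair.1 (a := ⟨β d, hinv d hd⟩) (b := ⟨d, hd⟩))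
    exact (this.mpr ⟨fun h => (hbP d).mp h, fun h => (hbP d).mpr h⟩)
  have h2 : ∀ x : P, (β ^ 2) x * x⁻¹ ∈ frattini P := by
    intro x
    set d := β x * x⁻¹ with hd
    have hdS : d ∈ S := by
      refine (Subgroup.mul_mem_iff_of_index_two hpair.2).mpr ⟨fun h => S.inv_mem ?_, fun h => ?_⟩
      · by_contra hx
        -- `β` permutes the elements of `S`
        have hbij : Function.Bijective (fun s : S => (⟨β s, hinv s s.2⟩ : S)) :=
          Finite.injective_iff_bijective.mp fun a b e => Subtype.ext (β.injective (congrArg Subtype.val e))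
        obtain ⟨s, hs⟩ := hbij.2 ⟨β x, h⟩
        exact hx (β.injective (congrArg Subtype.val hs) ▸ s.2)
      · exact hinv x (inv_mem_iff.mp h)
    have e : (β ^ 2) x * x⁻¹ = β d * d := by
      rw [pow_two, MulAut.mul_apply, hd, map_mul, map_inv]; group
    rw [e, hfr]
    exact hfix d hdS
  have hd := Cfsg.Agent.FrattiniTuples.card_dvd_of_trivial_on_quotient (p := 2) (r := 2) hn (by rw [hfr, h4]; norm_num)
    (Subgroup.zpowers (β ^ 2)) (by
      rintro _ ⟨k, rfl⟩ x
      induction k using Int.induction_on generalizing x with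
      | zero => simp [one_mem]
      | succ k ih =>
        simp only [zpow_add_one, MulAut.mul_apply]
        have := mul_mem (ih ((β ^ 2) x)) (h2 x)
        simpa [mul_assoc] using this
      | pred k ih =>
        simp only [zpow_sub_one, MulAut.mul_apply]
        have h3 := inv_mem (h2 ((β ^ 2)⁻¹ x))
        rw [show (β ^ 2) ((β ^ 2)⁻¹ x) = x from (β ^ 2).apply_symm_apply x] at h3
        have := mul_mem (ih ((β ^ 2)⁻¹ x)) h3
        simpa [mul_assoc] using this)
  rw [Nat.card_zpowers, (Nat.Coprime.orderOf_pow (Nat.coprime_two_right.mpr hβo))] at hd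
  obtain ⟨k, hk1, hk⟩ := (Nat.dvd_prime_pow Nat.prime_two).mp hd
  have : k = 0 := by
    by_contra h0
    rw [hk] at hβo
    exact (Nat.not_odd_iff_even.mpr ((Nat.even_pow).mpr ⟨even_two, h0⟩)) hβo
  subst this
  exact hβ1 (orderOf_eq_one_iff.mp (by simpa using hk))

/-- Let P be a finite non-abelian 2-group whose commutator subgroup has index 4 and whose automorphism group is not a 2-group (some automorphism has order that is not a power of 2). Then P is isomorphic to the quaternion group of order 8. -/
theorem result {P : Type*} [Group P] [Finite P] (hP : IsPGroup 2 P) (hna : ¬ IsMulCommutative P) (h4 : (commutator P).index = 4) (haut : ¬ IsPGroup 2 (MulAut P)) : Nonempty (P ≃* QuaternionGroup 2) := by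
  haveI := Fact.mk Nat.prime_two
  haveI : Group.IsNilpotent P := hP.isNilpotent
  obtain ⟨n, hn⟩ := IsPGroup.iff_card.mp hP
  have hPne : commutator P ≠ ⊥ := fun h => hna ⟨⟨fun a b => commutatorElement_eq_one_iff_mul_comm.mp
    (Subgroup.mem_bot.mp (h ▸ Subgroup.commutator_mem_commutator (Subgroup.mem_top a) (Subgroup.mem_top b)))⟩⟩
  have hnotP : ∀ x : P, commutator P ⊔ Subgroup.zpowers x ≠ ⊤ := by
    intro x hx
    apply hna
    have h' : Subgroup.zpowers x ⊔ frattini P = ⊤ := by
      rw [sup_comm]; exact eq_top_iff.mpr (hx ▸ sup_le_sup_right (Cfsg.Agent.PGroupsBasic.commutator_le_frattini hP) _)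
    have := frattini_nongenerating h'
    refine ⟨⟨fun a b => ?_⟩⟩
    obtain ⟨i, rfl⟩ : a ∈ Subgroup.zpowers x := this ▸ Subgroup.mem_top a
    obtain ⟨j, rfl⟩ : b ∈ Subgroup.zpowers x := this ▸ Subgroup.mem_top b
    exact (Commute.zpow_zpow_self x i j).eq
  have hidx2 : ∀ x ∉ commutator P, (commutator P ⊔ Subgroup.zpowers x).index = 2 ∧ (commutator P).relIndex (commutator P ⊔ Subgroup.zpowers x) = 2 := by
    intro x hx
    have hrel := Subgroup.relIndex_mul_index (le_sup_left : commutator P ≤ commutator P ⊔ Subgroup.zpowers x)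
    rw [h4] at hrel
    have h1 : (commutator P ⊔ Subgroup.zpowers x).index ≠ 1 := fun h => hnotP x (Subgroup.index_eq_one.mp h)
    have h2 : (commutator P).relIndex (commutator P ⊔ Subgroup.zpowers x) ≠ 1 := fun h =>
      hx (Subgroup.relIndex_eq_one.mp h (Subgroup.mem_sup_right (Subgroup.mem_zpowers x)))
    have h3 := Nat.le_of_dvd (by norm_num) (Dvd.intro_left _ hrel)
    interval_cases h : (commutator P ⊔ Subgroup.zpowers x).index <;> omega
  have hsq : ∀ x : P, x ^ 2 ∈ commutator P := by
    intro x
    by_cases hx : x ∈ commutator P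
    · exact pow_mem hx 2
    · have h2 := (hidx2 x hx).2
      have := ((commutator P).subgroupOf (commutator P ⊔ Subgroup.zpowers x)).pow_index_mem ⟨x, Subgroup.mem_sup_right (Subgroup.mem_zpowers x)⟩
      rw [show ((commutator P).subgroupOf (commutator P ⊔ Subgroup.zpowers x)).index = 2 from h2] at this
      exact this
  have hfr : frattini P = commutator P :=
    le_antisymm (Cfsg.Agent.PGroupsBasic.frattini_le_of_elementary_quotient (p := 2) le_rfl hsq)
      (Cfsg.Agent.PGroupsBasic.commutator_le_frattini hP)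
  -- an automorphism of odd order
  obtain ⟨β, hβo, hβ1⟩ : ∃ β : MulAut P, Odd (orderOf β) ∧ β ≠ 1 := by
    by_contra hh
    push Not at hh
    apply haut
    intro α
    refine ⟨(orderOf α).factorization 2, ?_⟩
    refine hh _ ?_
    rw [orderOf_pow' _ (pow_ne_zero _ two_ne_zero), Nat.gcd_eq_right (Nat.ordProj_dvd _ _), Nat.odd_iff, ← Nat.two_dvd_ne_zero]
    exact Nat.not_dvd_ordCompl Nat.prime_two (orderOf_pos α).ne'
  obtain ⟨a, ha⟩ : ∃ a, a ∉ commutator P := by
    by_contra hh; push Not at hh
    have : (commutator P).index = 1 := Subgroup.index_eq_one.mpr (eq_top_iff.mpr fun x _ => hh x)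
    omega
  obtain ⟨b, hb⟩ : ∃ b, b ∉ commutator P ⊔ Subgroup.zpowers a := by
    by_contra hh; push Not at hh
    exact hnotP a (eq_top_iff.mpr fun x _ => hh x)
  have hgen : Subgroup.closure ({a, b} : Set P) = ⊤ := by
    apply frattini_nongenerating
    rw [hfr, eq_top_iff]
    intro x _
    haveI : (commutator P ⊔ Subgroup.zpowers a).Normal := Subgroup.normal_of_index_eq_two (hidx2 a ha).1
    have hA : commutator P ⊔ Subgroup.zpowers a ≤ Subgroup.closure ({a, b} : Set P) ⊔ commutator P :=
      sup_le le_sup_right ((Subgroup.zpowers_le.mpr (Subgroup.subset_closure (Set.mem_insert _ _))).trans le_sup_left)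
    have hbm : b ∈ Subgroup.closure ({a, b} : Set P) ⊔ commutator P := Subgroup.mem_sup_left (Subgroup.subset_closure (Set.mem_insert_of_mem _ rfl))
    by_cases hx : x ∈ commutator P ⊔ Subgroup.zpowers a
    · exact hA hx
    · have : b * x ∈ commutator P ⊔ Subgroup.zpowers a :=
        (Subgroup.mul_mem_iff_of_index_two (hidx2 a ha).1).mpr ⟨fun h => absurd h hb, fun h => absurd h hx⟩
      have := mul_mem (inv_mem hbm) (hA this)
      simpa using this
  set c := ⁅a, b⁆ with hc
  have hcP : c ∈ commutator P := Subgroup.commutator_mem_commutator (Subgroup.mem_top a) (Subgroup.mem_top b)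
  set K := ⁅commutator P, (⊤ : Subgroup P)⁆ with hK
  haveI : K.Normal := inferInstance
  set L := ⁅K, (⊤ : Subgroup P)⁆ with hL
  haveI : L.Normal := inferInstance
  have hKP : K ≤ commutator P := Subgroup.commutator_le_left _ _
  have hmemK : ∀ u ∈ commutator P, ∀ x : P, ⁅u, x⁆ ∈ K := fun u hu x => Subgroup.commutator_mem_commutator hu (Subgroup.mem_top x)
  have hmemK' : ∀ u ∈ commutator P, ∀ x : P, ⁅x, u⁆ ∈ K := fun u hu x => by
    rw [← commutatorElement_inv]; exact inv_mem (hmemK u hu x)
  have hmemL : ∀ u ∈ K, ∀ x : P, ⁅u, x⁆ ∈ L := fun u hu x => Subgroup.commutator_mem_commutator hu (Subgroup.mem_top x)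
  have hc2 : c * c ∈ K := by
    have h1 : ⁅a ^ 2, b⁆ ∈ K := hmemK _ (hsq a) b
    have e : ⁅a ^ 2, b⁆ = ⁅a, c⁆ * (c * c) := by simp only [hc, commutatorElement_def, pow_two]; group
    rw [e] at h1
    exact (Subgroup.mul_mem_cancel_left K (hmemK' c hcP a)).mp h1
  -- elements of the derived group
  have hform : ∀ u ∈ commutator P, u ∈ K ∨ u * c⁻¹ ∈ K := by
    let π := QuotientGroup.mk' K
    have hπc : ∀ y : P ⧸ K, Commute (π c) y := by
      intro y
      obtain ⟨x, rfl⟩ := QuotientGroup.mk'_surjective K y
      exact S4189.commutes_mk.mpr (hmemK c hcP x)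
    haveI : (Subgroup.zpowers (π c)).Normal := ⟨fun z hz y => by
      obtain ⟨i, rfl⟩ := hz
      rw [((hπc y).zpow_left i).symm.eq, mul_inv_cancel_right]
      exact Subgroup.zpow_mem _ (Subgroup.mem_zpowers _) i⟩
    let φ := (QuotientGroup.mk' (Subgroup.zpowers (π c))).comp π
    have hcomm : Commute (φ a) (φ b) := by
      rw [commute_iff_eq, ← commutatorElement_eq_one_iff_mul_comm, ← map_commutatorElement]
      exact (QuotientGroup.eq_one_iff _).mpr (Subgroup.mem_zpowers _)
    have hker : commutator P ≤ φ.ker := by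
      rw [commutator_eq_closure, Subgroup.closure_le]
      rintro _ ⟨x, y, rfl⟩
      rw [SetLike.mem_coe, MonoidHom.mem_ker]
      refine (map_commutatorElement φ x y).trans (commutatorElement_eq_one_iff_mul_comm.mpr ?_)
      have hall : ∀ z : P, Commute (φ a) (φ z) ∧ Commute (φ b) (φ z) := by
        intro z
        have hz : z ∈ Subgroup.closure ({a, b} : Set P) := hgen ▸ Subgroup.mem_top z
        induction hz using Subgroup.closure_induction with
        | mem w hw => rcases hw with rfl | rfl
                      · exact ⟨Commute.refl _, hcomm.symm⟩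
                      · exact ⟨hcomm, Commute.refl _⟩
        | one => simp
        | mul u v _ _ h1 h2 => rw [map_mul]; exact ⟨h1.1.mul_right h2.1, h1.2.mul_right h2.2⟩
        | inv u _ h1 => rw [map_inv]; exact ⟨h1.1.inv_right, h1.2.inv_right⟩
      have hz : x ∈ Subgroup.closure ({a, b} : Set P) := hgen ▸ Subgroup.mem_top x
      induction hz using Subgroup.closure_induction with
      | mem w hw => rcases hw with rfl | rfl
                    · exact (hall y).1.eq
                    · exact (hall y).2.eq
      | one => simp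
      | mul u v _ _ h1 h2 => rw [map_mul]; exact (Commute.mul_left h1 h2).eq
      | inv u _ h1 => rw [map_inv]; exact (Commute.inv_left h1).eq
    intro u hu
    obtain ⟨i, hi⟩ := (QuotientGroup.eq_one_iff _).mp (MonoidHom.mem_ker.mp (hker hu))
    simp only at hi
    have hc2' : π c ^ (2 : ℤ) = 1 := by rw [zpow_two, ← map_mul]; exact (QuotientGroup.eq_one_iff _).mpr hc2
    rcases Int.even_or_odd' i with ⟨j, rfl | rfl⟩
    · left
      rw [zpow_mul, hc2', one_zpow] at hi
      exact (QuotientGroup.eq_one_iff _).mp hi.symm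
    · right
      rw [zpow_add, zpow_one, zpow_mul, hc2', one_zpow, one_mul] at hi
      apply (QuotientGroup.eq_one_iff _).mp
      show π (u * c⁻¹) = 1
      rw [map_mul, map_inv, hi, mul_inv_cancel]
  have hcK : c ∉ K := by
    intro h
    apply hPne
    refine S4189.eq_bot_of_le_commutator fun u hu => ?_
    rcases hform u hu with h1 | h1
    · exact h1
    · have := mul_mem h1 h
      rwa [inv_mul_cancel_right] at this
  -- the centraliser of `c` modulo `L`
  set π := QuotientGroup.mk' L with hπ
  have hKc : ∀ u ∈ K, ∀ x : P, Commute (π u) (π x) := fun u hu x => S4189.commutes_mk.mpr (hmemL u hu x)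
  set S := (Subgroup.centralizer ({π c} : Set (P ⧸ L))).comap π with hS
  have hSmem : ∀ x, x ∈ S ↔ Commute (π x) (π c) := fun x => by
    rw [hS, Subgroup.mem_comap, Subgroup.mem_centralizer_singleton_iff]; rfl
  have hPS : commutator P ≤ S := by
    intro u hu
    rw [hSmem]
    rcases hform u hu with h | h
    · exact hKc u h c
    · have := (hKc _ h c).mul_left (Commute.refl (π c))
      rwa [← map_mul, inv_mul_cancel_right] at this
  have hSne : S ≠ commutator P := by
    intro hS'
    apply hPne
    have hall : ∀ x : P, x ^ 2 ∈ K := by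
      intro x
      by_cases hx : x ∈ commutator P
      · rcases hform x hx with h | h
        · exact pow_mem h 2
        · have e : x ^ 2 = (x * c⁻¹) * (c * (x * c⁻¹) * c⁻¹) * (c * c) := by rw [pow_two]; group
          rw [e]
          exact mul_mem (mul_mem h (Subgroup.Normal.conj_mem inferInstance _ h c)) hc2
      · rcases hform _ (hsq x) with h | h
        · exact h
        · exfalso
          apply hx
          rw [← hS', hSmem]
          have h1 : π c = π (x ^ 2 * c⁻¹)⁻¹ * π (x ^ 2) := by rw [← map_mul]; congr 1; group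
          rw [h1]
          exact Commute.mul_right (hKc _ (inv_mem h) x).symm (by rw [map_pow]; exact Commute.pow_right (Commute.refl _) 2)
    refine S4189.eq_bot_of_le_commutator ?_
    exact le_trans (Cfsg.Agent.PGroupsBasic.commutator_le_frattini hP) (Cfsg.Agent.PGroupsBasic.frattini_le_of_elementary_quotient (p := 2)
      (by
        show commutator P ≤ K
        rw [commutator_eq_closure, Subgroup.closure_le]
        rintro _ ⟨x, y, rfl⟩
        rw [SetLike.mem_coe, ← QuotientGroup.eq_one_iff, ← QuotientGroup.mk'_apply, map_commutatorElement,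
          commutatorElement_eq_one_iff_mul_comm]
        have h1 : ∀ z : P ⧸ K, z⁻¹ = z := fun z => by
          obtain ⟨w, rfl⟩ := QuotientGroup.mk'_surjective K z
          rw [inv_eq_iff_mul_eq_one, ← map_mul, ← pow_two]
          exact (QuotientGroup.eq_one_iff _).mpr (hall w)
        calc QuotientGroup.mk' K x * QuotientGroup.mk' K y = (QuotientGroup.mk' K x * QuotientGroup.mk' K y)⁻¹ := (h1 _).symm
          _ = _ := by rw [mul_inv_rev, h1, h1]) hall)
  have hβK : ∀ (N : Subgroup P) [N.Characteristic] (x : P), x ∈ N → β x ∈ N := fun N _ x hx => by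
    rw [← Subgroup.characteristic_iff_map_eq.mp ‹N.Characteristic› β]; exact ⟨x, hx, rfl⟩
  have hStop : S = ⊤ := by
    by_contra hS2
    refine S4189.no_invariant hP h4 hsq hn hfr β hβo hβ1 S hPS hSne hS2 fun x hx => ?_
    rw [hSmem] at hx ⊢
    have h1 : ⁅β x, β c⁆ ∈ L := by
      rw [← map_commutatorElement]; exact hβK L _ (S4189.commutes_mk.mp hx)
    have h2 : Commute (π (β x)) (π (β c)) := S4189.commutes_mk.mpr h1
    rcases hform _ (hβK (commutator P) c hcP) with h | h
    · exfalso
      apply hcK
      have : (⁅commutator P, (⊤ : Subgroup P)⁆).map β.toMonoidHom = K := Subgroup.characteristic_iff_map_eq.mp inferInstance β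
      rw [← this] at h
      obtain ⟨y, hy, hyc⟩ := h
      exact β.injective hyc ▸ hy
    · have h3 := (hKc _ (inv_mem h) (β x)).symm.mul_right h2
      rwa [← map_mul, show (β c * c⁻¹)⁻¹ * β c = c by group] at h3
  have hK1 : K = ⊥ := by
    refine S4189.eq_bot_of_le_commutator ?_
    rw [hK, Subgroup.commutator_le]
    intro u hu x _
    refine S4189.commutes_mk.mp ?_
    have hxS : Commute (π x) (π c) := (hSmem x).mp (hStop ▸ Subgroup.mem_top x)
    rcases hform u hu with h | h
    · exact hKc u h x
    · have := (hKc _ h x).mul_left hxS.symm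
      rwa [← map_mul, inv_mul_cancel_right] at this
  -- now the derived group has order two
  have hP2 : ∀ u ∈ commutator P, u = 1 ∨ u = c := fun u hu => by
    rcases hform u hu with h | h <;> rw [hK1, Subgroup.mem_bot] at h
    · exact Or.inl h
    · exact Or.inr (mul_inv_eq_one.mp h)
  have hc1 : c ≠ 1 := fun h => hcK (h ▸ K.one_mem)
  have hc22 : c * c = 1 := by rwa [hK1, Subgroup.mem_bot] at hc2
  have hcard : Nat.card P = 8 := by
    have e : Nat.card (commutator P) = 2 := by
      rw [Nat.card_eq_two_iff]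
      refine ⟨1, ⟨c, hcP⟩, fun h => hc1 (congrArg Subtype.val h).symm, ?_⟩
      ext u
      simp only [Set.mem_insert_iff, Set.mem_singleton_iff, Set.mem_univ, iff_true]
      exact (hP2 u u.2).imp (fun h => Subtype.ext h) (fun h => Subtype.ext h)
    rw [← (commutator P).index_mul_card, h4, e]
  obtain ⟨x, hx2⟩ : ∃ x : P, x ^ 2 ≠ 1 := by
    by_contra hh; push Not at hh
    refine hna ⟨⟨fun u v => ?_⟩⟩
    have hinv : ∀ g : P, g⁻¹ = g := fun g => inv_eq_of_mul_eq_one_right (by rw [← pow_two]; exact hh g)
    calc u * v = (u * v)⁻¹ := (hinv _).symm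
      _ = v * u := by rw [mul_inv_rev, hinv, hinv]
  have hxc : x ^ 2 = c := (hP2 _ (hsq x)).resolve_left hx2
  have hxP : x ∉ commutator P := fun h => by
    rcases hP2 x h with h1 | h1
    · exact hx2 (by rw [h1, one_pow])
    · exact hx2 (by rw [h1, pow_two, hc22])
  set y := β x with hy
  have hβc : β c = c := by
    rcases hP2 _ (hβK (commutator P) c hcP) with h | h
    · exact absurd (β.map_eq_one_iff.mp h) hc1
    · exact h
  have hy2 : y ^ 2 = c := by rw [hy, ← map_pow, hxc, hβc]
  have hox : orderOf x = 4 := orderOf_eq_prime_pow (p := 2) (n := 1) (by simpa using hx2)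
    (by rw [show (2 : ℕ) ^ (1 + 1) = 2 * 2 from rfl, pow_mul, hxc, pow_two, hc22])
  have hyx : y ∉ Subgroup.zpowers x := by
    intro hyz
    have hSx : commutator P ⊔ Subgroup.zpowers x ≠ ⊤ := hnotP x
    refine S4189.no_invariant hP h4 hsq hn hfr β hβo hβ1 _ le_sup_left ?_ hSx ?_
    · exact fun h => hxP (h ▸ Subgroup.mem_sup_right (Subgroup.mem_zpowers x))
    · intro z hz
      have : (commutator P ⊔ Subgroup.zpowers x) ≤ (commutator P ⊔ Subgroup.zpowers x).comap β.toMonoidHom :=
        sup_le (fun u hu => Subgroup.mem_sup_left (hβK (commutator P) u hu)) (Subgroup.zpowers_le.mpr (Subgroup.mem_sup_right hyz))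
      exact this hz
  refine Cfsg.Agent.PGroupsCyclic.nonempty_mulEquiv_quaternion (N := 2) (x := x) (y := y) hox hyx ?_ (by rw [hy2, hxc]) (by rw [hcard])
  have h1 : y * x * y⁻¹ * x⁻¹ ∈ commutator P := Subgroup.commutator_mem_commutator (Subgroup.mem_top y) (Subgroup.mem_top x)
  rcases hP2 _ h1 with h | h
  · exfalso
    apply hna
    have hcyx : Commute y x := commutatorElement_eq_one_iff_mul_comm.mp h
    have htop : Subgroup.closure ({x, y} : Set P) = ⊤ := by
      apply Subgroup.eq_top_of_le_card
      have hlt : Subgroup.zpowers x < Subgroup.closure ({x, y} : Set P) :=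
        lt_of_le_of_ne (Subgroup.zpowers_le.mpr (Subgroup.subset_closure (Set.mem_insert _ _)))
          (fun e => hyx (e ▸ Subgroup.subset_closure (Set.mem_insert_of_mem _ rfl)))
      have hd := Subgroup.card_dvd_of_le hlt.le
      have hlt' : Nat.card (Subgroup.zpowers x) < Nat.card (Subgroup.closure ({x, y} : Set P)) := by
        rcases (Nat.le_of_dvd Nat.card_pos hd).lt_or_eq with h' | h'
        · exact h'
        · exact absurd (Subgroup.eq_of_le_of_card_ge hlt.le h'.ge) hlt.ne
      have h8 := Subgroup.card_subgroup_dvd_card (Subgroup.closure ({x, y} : Set P))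
      rw [Nat.card_zpowers, hox] at hd hlt'
      rw [hcard] at h8 ⊢
      have := Nat.le_of_dvd (by norm_num) h8
      interval_cases hcl : Nat.card (Subgroup.closure ({x, y} : Set P)) <;> omega
    have hcomm : ∀ u ∈ ({x, y} : Set P), ∀ v ∈ ({x, y} : Set P), u * v = v * u := by
      rintro u (rfl | rfl) v (rfl | rfl) <;> first | rfl | exact hcyx.eq | exact hcyx.symm.eq
    have := Subgroup.isMulCommutative_closure hcomm
    refine ⟨⟨fun u v => ?_⟩⟩
    have hu : u ∈ Subgroup.closure ({x, y} : Set P) := htop ▸ Subgroup.mem_top u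
    have hv : v ∈ Subgroup.closure ({x, y} : Set P) := htop ▸ Subgroup.mem_top v
    exact congrArg Subtype.val (this.is_comm.comm ⟨u, hu⟩ ⟨v, hv⟩)
  · have hx3 : x⁻¹ = c * x := by
      rw [inv_eq_iff_mul_eq_one, ← hxc]
      calc x * (x ^ 2 * x) = x ^ 4 := by group
        _ = 1 := hox ▸ pow_orderOf_eq_one x
    rw [hx3, ← h, inv_mul_cancel_right]

end Cfsg.Agent.S4189
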