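import Cfsg.Statements.S4190
import Cfsg.Agent.Lib.KGBound86Fit

set_option autoImplicit false
open Cfsg

namespace Cfsg.Agent.S4190

/-- Let G be a finite solvable group and p a prime dividing the index of the Fitting subgroup of G. Then the number of conjugacy classes of G is at least p/(3·log₂ p). -/
theorem result {G : Type*} [Group G] [Finite G] (hG : Group.IsSolvable G) (p : ℕ) [Fact p.Prime] (hp : p ∣ (Cfsg.fittingSubgroup G).index) : (p : ℝ) / (3 * Real.logb 2 p) ≤ Nat.card (ConjClasses G) := by
  haveI := hG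
  have hp' : p.Prime := Fact.out
  have h := Cfsg.Agent.KGBound86.fit_bound hp' hp
  have hl1 : (1 : ℝ) ≤ Nat.log 2 p := by
    exact_mod_cast Nat.log_pos (by norm_num) hp'.two_le
  have hl : (Nat.log 2 p : ℝ) ≤ Real.logb 2 p := by
    simpa using Real.natLog_le_logb p 2
  rw [div_le_iff₀ (by linarith)]
  have h' : (p : ℝ) ≤ 3 * (Nat.card (ConjClasses G) : ℝ) * Nat.log 2 p := by exact_mod_cast h
  have h2 : (0 : ℝ) ≤ Nat.card (ConjClasses G) := Nat.cast_nonneg _
  nlinarith [mul_le_mul_of_nonneg_left hl h2]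

end Cfsg.Agent.S4190
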