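import Cfsg.Agent.Lib.RealSizes22
import Cfsg.Agent.S4187
import Cfsg.Statements.S4192
-- import your own Cfsg.Agent.* helpers here

set_option autoImplicit false
open Cfsg

namespace Cfsg.Agent.S4192

/-- Let G be a finite group; call an element real when it is conjugate to its inverse, and say that the real-class-size graph of a group is disconnected when the primes dividing its real class sizes split into two non-empty disjoint parts with no real class size divisible by a prime from each part. If the real-class-size graph of G is disconnected, then some real class size of G is even, and either the Sylow 2-subgroups of G are normal, or the subgroup K generated by the 2-elements of G (the smallest normal subgroup of odd index) again has a disconnected real-class-size graph and every real class size of K is odd or a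 power of 2. -/
theorem result {G : Type*} [Group G] [Finite G] (h : (∃ π₁ π₂ : Set ℕ, π₁.Nonempty ∧ π₂.Nonempty ∧ Disjoint π₁ π₂ ∧ (∀ q ∈ π₁ ∪ π₂, q.Prime ∧ ∃ n ∈ {n : ℕ | ∃ x : G, IsConj x x⁻¹ ∧ (Subgroup.centralizer ({x} : Set G)).index = n}, q ∣ n) ∧ (∀ q : ℕ, q.Prime → (∃ n ∈ {n : ℕ | ∃ x : G, IsConj x x⁻¹ ∧ (Subgroup.centralizer ({x} : Set G)).index = n}, q ∣ n) → q ∈ π₁ ∨ q ∈ π₂) ∧ ∀ a ∈ π₁, ∀ b ∈ π₂, ∀ n ∈ {n : ℕ | ∃ x : G, IsConj x x⁻¹ ∧ (Subgroup.centralizer ({x} : Set G)).index = n}, ¬ (a ∣ n ∧ b ∣ n))) : (∃ n ∈ {n : ℕ | ∃ x : G, IsConj x x⁻¹ ∧ (Subgroup.centralizer ({x} : Set G)).index = n}, 2 ∣ n) ∧ ((∀ P : Sylow 2 G, (P : Subgroup G).Normal) ∨ ((∃ π₁ π₂ : Set ℕ, π₁.Nonempty ∧ π₂.Nonempty ∧ Disjoint π₁ π₂ ∧ (∀ q ∈ π₁ ∪ π₂, q.Prime ∧ ∃ n ∈ {n : ℕ | ∃ x : ↥(Subgroup.closure {g : G | ∃ k : ℕ, orderOf g = 2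 ^ k}), IsConj x x⁻¹ ∧ (Subgroup.centralizer ({x} : Set ↥(Subgroup.closure {g : G | ∃ k : ℕ, orderOf g = 2 ^ k}))).index = n}, q ∣ n) ∧ (∀ q : ℕ, q.Prime → (∃ n ∈ {n : ℕ | ∃ x : ↥(Subgroup.closure {g : G | ∃ k : ℕ, orderOf g = 2 ^ k}), IsConj x x⁻¹ ∧ (Subgroup.centralizer ({x} : Set ↥(Subgroup.closure {g : G | ∃ k : ℕ, orderOf g = 2 ^ k}))).index = n}, q ∣ n) → q ∈ π₁ ∨ q ∈ π₂) ∧ ∀ a ∈ π₁, ∀ b ∈ π₂, ∀ n ∈ {n : ℕ | ∃ x : ↥(Subgroup.closure {g : G | ∃ k : ℕ, orderOf g = 2 ^ k}), IsConj x x⁻¹ ∧ (Subgroup.centralizer ({x} : Set ↥(Subgroup.closure {g : G | ∃ k : ℕ, orderOf g = 2 ^ k}))).index = n}, ¬ (a ∣ n ∧ b ∣ n)) ∧ ∀ n ∈ {n : ℕ | ∃ x : ↥(Subgroup.closure {g : G | ∃ k : ℕ, orderOf g = 2 ^ k}), IsConj x x⁻¹ ∧ (Subgroup.centralizer ({x} : Set ↥(Subgroup.closure {g : G | ∃ k : ℕ, orderOf g = 2 ^ k}))).index = n}, Odd n ∨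 ∃ j : ℕ, n = 2 ^ j)) := by
  classical
  obtain ⟨π₁, π₂, hne₁, hne₂, hd, hmem, hcover, hno⟩ := h
  have hdich : ∀ x : G, IsConj x x⁻¹ →
      RealSizes22.PiNum π₁ (RealSizes22.idx x) ∨ RealSizes22.PiNum π₂ (RealSizes22.idx x) := by
    intro x hx
    by_contra hc
    simp only [not_or, RealSizes22.PiNum, not_forall] at hc
    obtain ⟨⟨a, ha, had, ha1⟩, ⟨b, hb, hbd, hb2⟩⟩ := hc
    exact hno b ((hcover b hb ⟨_, ⟨x, hx, rfl⟩, hbd⟩).resolve_right hb2)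
      a ((hcover a ha ⟨_, ⟨x, hx, rfl⟩, had⟩).resolve_left ha1) _ ⟨x, hx, rfl⟩ ⟨hbd, had⟩
  obtain ⟨q₁, hq₁⟩ := hne₁
  obtain ⟨q₂, hq₂⟩ := hne₂
  obtain ⟨hp₁, n₁, ⟨x₁, hr₁, rfl⟩, hd₁⟩ := hmem q₁ (Or.inl hq₁)
  obtain ⟨hp₂, n₂, ⟨x₂, hr₂, rfl⟩, hd₂⟩ := hmem q₂ (Or.inr hq₂)
  obtain ⟨xe, hre, he⟩ := RealSizes22.exists_even hd hdich hp₁ hp₂ hq₁ hq₂ hr₁ hr₂ hd₁ hd₂
  refine ⟨⟨_, ⟨xe, hre, rfl⟩, he⟩, ?_⟩
  by_cases hn : ∀ P : Sylow 2 G, (P : Subgroup G).Normal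
  · exact Or.inl hn
  right
  have hsol : Group.IsSolvable G :=
    S4187.result π₁ π₂ ⟨q₁, hq₁⟩ ⟨q₂, hq₂⟩ hcover hmem hd hno
  have hs : (∀ x : ↥(RealSizes22.twoGen G), IsConj x x⁻¹ →
        Odd (RealSizes22.idx x) ∨ ∃ j : ℕ, RealSizes22.idx x = 2 ^ j) ∧
      (∃ x : ↥(RealSizes22.twoGen G), IsConj x x⁻¹ ∧ 2 ∣ RealSizes22.idx x) ∧
      ∃ q : ℕ, q.Prime ∧ q ≠ 2 ∧
        ∃ x : ↥(RealSizes22.twoGen G), IsConj x x⁻¹ ∧ q ∣ RealSizes22.idx x := by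
    rcases hcover 2 Nat.prime_two ⟨_, ⟨xe, hre, rfl⟩, he⟩ with h2 | h2
    · exact RealSizes22.twoGen_sizes hd hdich h2 hp₂ hq₂ hr₂ hd₂ hsol hn
    · exact RealSizes22.twoGen_sizes hd.symm (fun x hx => (hdich x hx).symm) h2 hp₁ hq₁ hr₁ hd₁ hsol hn
  obtain ⟨hall, ⟨ye, hye, hye2⟩, q, hq, hqne, yo, hyo, hyod⟩ := hs
  refine ⟨⟨{2}, {r | r.Prime ∧ r ≠ 2 ∧ ∃ x : ↥(RealSizes22.twoGen G),
      IsConj x x⁻¹ ∧ r ∣ RealSizes22.idx x}, ⟨2, rfl⟩, ⟨q, hq, hqne, yo, hyo, hyod⟩, ?_, ?_, ?_, ?_⟩, ?_⟩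
  · rw [Set.disjoint_left]
    rintro r rfl hr
    exact hr.2.1 rfl
  · rintro r (rfl | ⟨hr, -, x, hx, hxd⟩)
    · exact ⟨Nat.prime_two, _, ⟨ye, hye, rfl⟩, hye2⟩
    · exact ⟨hr, _, ⟨x, hx, rfl⟩, hxd⟩
  · rintro r hr ⟨_, ⟨x, hx, rfl⟩, hxd⟩
    by_cases h2 : r = 2
    · exact Or.inl h2
    · exact Or.inr ⟨hr, h2, x, hx, hxd⟩
  · rintro a rfl b ⟨hb, hbne, -⟩ _ ⟨x, hx, rfl⟩ ⟨hxa, hxb⟩
    rcases hall x hx with ho | ⟨j, hj⟩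
    · exact (Nat.not_even_iff_odd.2 ho) (even_iff_two_dvd.2 hxa)
    · have hxb' : b ∣ 2 ^ j := hj ▸ hxb
      exact hbne ((Nat.prime_dvd_prime_iff_eq hb Nat.prime_two).1 (hb.dvd_of_dvd_pow hxb'))
  · rintro _ ⟨x, hx, rfl⟩
    exact hall x hx

end Cfsg.Agent.S4192
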