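import Cfsg.Statements.S5274
import Cfsg.Agent.Lib.FusionSysNormal

/-!
Every element of `S` conjugate into `Z(S)` forces `S` abelian (`p = 2`).

* Two conjugate elements of `Z(S)` are conjugate by `Aut_F(S)`; as `Inn(S)` is the Sylow 2-subgroup,
  `z ~ z⁻¹` gives `z ^ 2 = 1`, so an element inverted in `S` has square one and the involutions
  commute; they form, with `1`, an elementary abelian subgroup `E`.
* For an essential `P` the stabilizer of `1 ≤ P ⊓ E ≤ P` is a 2-group, so `E ≤ P` and `E` is normal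
  in `F`; hence `E` is central.
* By induction on the order each element is central.
-/

set_option autoImplicit false
open Cfsg

namespace Cfsg.Agent.S5274

open Cfsg.FusionSystem Cfsg.Agent.FusionSysBasic Cfsg.Agent.FusionSysNormal
  Cfsg.Agent.FusionSysAlperin Cfsg.Agent.FusionSysSaturated

section

variable {Ω : Type*} [Group Ω] {S : Subgroup Ω} [Finite S] {F : FusionSystem S}

abbrev Zc (S : Subgroup Ω) : Subgroup Ω := S ⊓ Subgroup.centralizer (S : Set Ω)

omit [Finite S] in
theorem Zc_comm {z : Ω} (hz : z ∈ Zc S) {g : Ω} (hg : g ∈ S) : cj g z = z := by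
  rw [cj_apply, Subgroup.mem_centralizer_iff.mp hz.2 g hg, mul_inv_cancel_right]

/-- Conjugate central elements are conjugate by an automorphism of `S`. -/
theorem burnside (hS : IsPGroup 2 S) (hF : F.IsSaturated 2) {x y : Ω} (hx : x ∈ Zc S)
    (hy : y ∈ Zc S) (h : F.IsConjElt x y) :
    ∃ α ∈ F.autGroup S, afun α x = y := by
  haveI : Fact (Nat.Prime 2) := ⟨Nat.prime_two⟩
  obtain ⟨f, hf, rfl⟩ := isConjElt_iff.mp h
  set R := im (Subgroup.zpowers x) f
  have hRZ : R ≤ Zc S := by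
    refine im_le_iff.mpr fun a ha => ?_
    obtain ⟨n, rfl⟩ := Subgroup.mem_zpowers_iff.mp ha
    obtain ⟨φ, -, he⟩ := hf
    rw [show f (x ^ n) = f x ^ n from by
      have h1 := he ⟨x ^ n, ha⟩
      have h2 := he ⟨x, Subgroup.mem_zpowers x⟩
      rw [← h1, ← h2, ← map_zpow]
      rfl]
    exact Subgroup.zpow_mem _ hy n
  have hRc : centralizerIn S R = S :=
    le_antisymm inf_le_left fun g hg =>
      mem_centralizerIn.mpr ⟨hg, fun a ha => Zc_comm (hRZ ha) hg⟩
  have hfc : F.IsFullyCentralized R := by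
    refine ⟨hf.im_le, fun Q _ => ?_⟩
    rw [hRc]
    exact Subgroup.card_le_of_le inf_le_left
  have hrec := receptive_of_fullyCentralized hS hF hfc
  have hfix : ∀ g ∈ S, ∀ a ∈ Subgroup.zpowers x, cj g a = a := fun g hg a ha =>
    Zc_comm (Subgroup.zpowers_le.mpr hx ha) hg
  obtain ⟨f', hf', he⟩ := (receptive_iff.mp hrec).2 _ f S hf rfl le_rfl
    (fun g hg => mem_normalizer_of_cj_le hf.le fun a ha => by rw [hfix g hg a ha]; exact ha)
    (fun g hg => ⟨1, S.one_mem, fun a ha => by rw [hfix g hg a ha, cj_one]⟩)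
  have hm := hf'.restrict_to (le_sup_right : S ≤ _)
  obtain ⟨α, hα, hαe⟩ := hm.exists_aut (hm.im_self fun a ha => hm.apply_mem ha)
  exact ⟨α, hα, by rw [hαe x hx.1, he x (Subgroup.mem_zpowers x)]⟩

/-- A central element conjugate to its inverse has square one. -/
theorem sq_eq_one_of_real (hS : IsPGroup 2 S) (hF : F.IsSaturated 2) {z : Ω} (hz : z ∈ Zc S)
    (h : F.IsConjElt z z⁻¹) : z ^ 2 = 1 := by
  haveI : Fact (Nat.Prime 2) := ⟨Nat.prime_two⟩
  obtain ⟨α, hα, hαz⟩ := burnside hS hF hz (Subgroup.inv_mem _ hz) h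
  haveI := finite_autGroup (F := F) S
  set a : F.autGroup S := ⟨α, hα⟩
  have hsq : afun (α * α) z = z := by
    rw [afun_mul _ _ hz.1, hαz, (((mem_autGroup le_rfl).mp hα)).map_inv hz.1, hαz, inv_inv]
  have hpow : ∀ k : ℕ, afun ((α * α) ^ k) z = z := by
    intro k
    induction k with
    | zero => rw [pow_zero, afun_one hz.1]
    | succ k ih => rw [pow_succ, afun_mul _ _ hz.1, hsq, ih]
  obtain ⟨e, m, hm2, hord⟩ := Nat.exists_eq_pow_mul_and_not_dvd
    (orderOf_pos a).ne' 2 (by omega)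
  obtain ⟨k, rfl⟩ : Odd m := Nat.odd_iff.mpr (by omega)
  set b : F.autGroup S := a ^ (2 * k + 1)
  have hb : b ^ 2 ^ e = 1 := by
    rw [← pow_mul, mul_comm, ← hord, pow_orderOf_eq_one]
  have hbp : IsPGroup 2 (Subgroup.zpowers b) := by
    rw [IsPGroup.iff_card]
    obtain ⟨j, -, hj⟩ := (Nat.dvd_prime_pow Nat.prime_two).mp (orderOf_dvd_of_pow_eq_one hb)
    exact ⟨j, by rw [Nat.card_zpowers, hj]⟩
  obtain ⟨T, hT⟩ := hbp.exists_le_sylow
  obtain ⟨R, hR⟩ := (fullyAutomized_of_saturated_self hF).2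
  have hI : autInducedBy S S = Inn S := autInducedBy_self S
  have hRn : (R : Subgroup (F.autGroup S)).Normal := by
    rw [hR, hI]; exact inn_normal F S
  have hTR : T = R := by
    obtain ⟨g, hg⟩ := MulAction.exists_smul_eq (F.autGroup S) R T
    rw [← hg]; exact Sylow.smul_eq_of_normal
  have hbR : b ∈ (R : Subgroup (F.autGroup S)) := hTR ▸ hT (Subgroup.mem_zpowers b)
  rw [hR, Subgroup.mem_subgroupOf, mem_autInducedBy] at hbR
  obtain ⟨g, hg, -, hge⟩ := hbR
  have hbz : afun (b : MulAut S) z = z⁻¹ := by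
    have e1 : (b : MulAut S) = α * (α * α) ^ k := by
      simp only [b, a, SubmonoidClass.coe_pow]
      rw [← pow_two, ← pow_mul, ← pow_succ']
    rw [e1, afun_mul _ _ hz.1, hpow k, hαz]
  have := hge z hz.1
  rw [hbz, Zc_comm hz hg, inv_eq_iff_mul_eq_one] at this
  rw [pow_two, this]

/-- An element inverted in `S` has square one. -/
theorem sq_eq_one_of_inverted (hS : IsPGroup 2 S) (hF : F.IsSaturated 2)
    (h : ∀ x ∈ S, ∃ z ∈ Zc S, F.IsConjElt x z) {x g : Ω} (hx : x ∈ S) (hg : g ∈ S)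
    (hgx : cj g x = x⁻¹) : x ^ 2 = 1 := by
  obtain ⟨z, hz, hxz⟩ := h x hx
  obtain ⟨f, hf, rfl⟩ := isConjElt_iff.mp hxz
  have hxm := Subgroup.mem_zpowers x
  obtain ⟨f', hf', hff', -, -⟩ := hf.exists_inv
  have hR : Mor F (Subgroup.zpowers (f x)) f' :=
    hf'.restrict_to (Subgroup.zpowers_le.mpr (apply_mem_im hxm))
  have hback : ∀ a ∈ Subgroup.zpowers (f x), f' a ∈ Subgroup.zpowers x := by
    refine fun a ha => ?_
    obtain ⟨n, rfl⟩ := Subgroup.mem_zpowers_iff.mp ha
    obtain ⟨φ, -, he⟩ := hR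
    have h1 := he ⟨f x ^ n, ha⟩
    have h2 := he ⟨f x, Subgroup.mem_zpowers _⟩
    rw [hff' x hxm] at h2
    rw [← h1, show (⟨f x ^ n, ha⟩ : Subgroup.zpowers (f x)) = ⟨f x, Subgroup.mem_zpowers _⟩ ^ n from
      Subtype.ext (by simp), map_zpow, h2]
    exact Subgroup.zpow_mem _ hxm n
  have hcx : ∀ a ∈ Subgroup.zpowers x, cj g a ∈ Subgroup.zpowers x := by
    refine fun a ha => ?_
    obtain ⟨n, rfl⟩ := Subgroup.mem_zpowers_iff.mp ha
    have : cj g (x ^ n) = (cj g x) ^ n := by simp only [cj_apply, conj_zpow]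
    rw [this, hgx]
    exact Subgroup.zpow_mem _ (Subgroup.inv_mem _ hxm) n
  have hcomp := hR.comp ((mor_cj (Subgroup.zpowers_le.mpr hx) hg).comp hf hcx) hback
  have hzz : F.IsConjElt (f x) (f x)⁻¹ := by
    refine isConjElt_iff.mpr ⟨_, hcomp, ?_⟩
    simp only [Function.comp_apply]
    rw [hff' x hxm, hgx, hf.map_inv hxm]
  have h2 := sq_eq_one_of_real hS hF hz hzz
  rw [pow_two, ← hf.map_mul hxm hxm] at h2
  rw [pow_two]
  exact hf.eq_one_of_apply (Subgroup.mul_mem _ hxm hxm) h2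

/-- The solutions of `x ^ 2 = 1` in `S` form a subgroup lying in the centre. -/
theorem invol_central (hS : IsPGroup 2 S) (hF : F.IsSaturated 2)
    (h : ∀ x ∈ S, ∃ z ∈ Zc S, F.IsConjElt x z) {t : Ω} (ht : t ∈ S) (ht2 : t ^ 2 = 1) :
    t ∈ Zc S := by
  haveI : Fact (Nat.Prime 2) := ⟨Nat.prime_two⟩
  have hcomm : ∀ {a b : Ω}, a ∈ S → b ∈ S → a ^ 2 = 1 → b ^ 2 = 1 → a * b = b * a := by
    intro a b ha hb ha2 hb2
    rw [pow_two] at ha2 hb2
    have ea : a⁻¹ = a := inv_eq_of_mul_eq_one_right ha2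
    have eb : b⁻¹ = b := inv_eq_of_mul_eq_one_right hb2
    have hinv : cj a (a * b) = (a * b)⁻¹ := by
      rw [cj_apply, mul_inv_rev, ea, eb, ← mul_assoc a a b, ha2, one_mul]
    have h2 := sq_eq_one_of_inverted hS hF h (S.mul_mem ha hb) ha hinv
    rw [pow_two] at h2
    have := inv_eq_of_mul_eq_one_right h2
    rw [mul_inv_rev, ea, eb] at this
    exact this.symm
  let E : Subgroup Ω :=
    { carrier := {x | x ∈ S ∧ x ^ 2 = 1}
      one_mem' := ⟨S.one_mem, one_pow 2⟩
      mul_mem' := fun {a b} ⟨ha, ha2⟩ ⟨hb, hb2⟩ => ⟨S.mul_mem ha hb, by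
        rw [pow_two] at ha2 hb2 ⊢
        rw [mul_assoc, ← mul_assoc b a b, ← hcomm ha hb (by rwa [pow_two]) (by rwa [pow_two]),
          mul_assoc a b b, hb2, mul_one, ha2]⟩
      inv_mem' := fun {a} ⟨ha, ha2⟩ => ⟨S.inv_mem ha, by rw [inv_pow, ha2, inv_one]⟩ }
  have hES : E ≤ S := fun x hx => hx.1
  have hinvE : ∀ {P : Subgroup Ω} {f : Ω → Ω}, Mor F P f → ∀ x ∈ P, x ∈ E → f x ∈ E :=
    fun {P f} hf x hxP hxE => ⟨hf.apply_mem hxP, by
      rw [pow_two, ← hf.map_mul hxP hxP, ← pow_two, hxE.2, hf.map_one]⟩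
  have hEn : F.IsNormal E := by
    refine isNormal_of_le_autGroup hS hF fun P hP => ?_
    have hPS : P ≤ S := by
      rcases hP with rfl | hP
      · exact le_rfl
      · exact hP.1.1
    suffices hEP : E ≤ P from
      ⟨hEP, fun α hα x hx => hinvE ((mem_autGroup hPS).mp hα) x (hEP hx) hx⟩
    · rcases hP with rfl | hP
      · exact hES
      have hnE : P ≤ Subgroup.normalizer (E : Set Ω) := fun g hg =>
        mem_normalizer_of_cj_le hES fun x hx =>
          hinvE (mor_cj hES (hPS hg)) x hx hx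
      let M : Subgroup (MulAut P) :=
        { carrier := {α | α ∈ F.autGroup P ∧ (∀ x ∈ P, x ∈ E → afun α x = x) ∧
            ∀ x ∈ P, x⁻¹ * afun α x ∈ E}
          one_mem' := ⟨one_mem _, fun x hx _ => afun_one hx, fun x hx => by
            rw [afun_one hx, inv_mul_cancel]; exact E.one_mem⟩
          mul_mem' := fun {α β} ⟨ha, ha1, ha2⟩ ⟨hb, hb1, hb2⟩ => ⟨mul_mem ha hb,
            fun x hx hxE => by rw [afun_mul _ _ hx, hb1 x hx hxE, ha1 x hx hxE],
            fun x hx => by
              rw [afun_mul _ _ hx]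
              have hb' := afun_mem β hx
              have := E.mul_mem (hb2 x hx) (ha2 _ hb')
              rwa [mul_assoc, mul_inv_cancel_left] at this⟩
          inv_mem' := fun {α} ⟨ha, ha1, ha2⟩ => ⟨inv_mem ha,
            fun x hx hxE => by
              conv_lhs => rw [← ha1 x hx hxE]
              exact afun_inv_apply α hx,
            fun x hx => by
              have := E.inv_mem (ha2 _ (afun_mem α⁻¹ hx))
              rwa [afun_apply_inv α hx, mul_inv_rev, inv_inv] at this⟩ }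
      refine le_of_normal_pSubgroup hS hP.1 (radical_of_essential hS hP) hES hnE (M := M)
        (fun α hα => hα.1) ?_ ?_ ?_
      · rintro ⟨α, ha, ha1, ha2⟩
        refine ⟨1, Subtype.ext (afun_ext fun x hx => ?_)⟩
        have hxm : x⁻¹ * afun α x ∈ P := P.mul_mem (P.inv_mem hx) (afun_mem α hx)
        have e1 := (ha2 x hx).2
        have e2 : afun α (afun α x) = afun α x * (x⁻¹ * afun α x) := by
          conv_lhs => rw [show afun α x = x * (x⁻¹ * afun α x) by rw [mul_inv_cancel_left]]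
          rw [afun_map_mul α hx hxm, ha1 _ hxm (ha2 x hx)]
        simp only [pow_one, SubmonoidClass.coe_pow, OneMemClass.coe_one]
        rw [pow_two, afun_mul _ _ hx, afun_one hx, e2]
        rw [pow_two] at e1
        calc afun α x * (x⁻¹ * afun α x) = x * ((x⁻¹ * afun α x) * (x⁻¹ * afun α x)) := by group
          _ = x := by rw [e1, mul_one]
      · rintro α hα m ⟨hm, hm1, hm2⟩
        have hmα := (mem_autGroup hPS).mp hα
        have hmα' := (mem_autGroup hPS).mp (inv_mem hα)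
        refine ⟨mul_mem (mul_mem hα hm) (inv_mem hα), fun x hx hxE => ?_, fun x hx => ?_⟩
        · have hx' := afun_mem α⁻¹ hx
          rw [afun_mul _ _ hx, afun_mul _ _ hx', hm1 _ hx' (hinvE hmα' x hx hxE),
            afun_apply_inv α hx]
        · have hx' := afun_mem α⁻¹ hx
          have hc : (afun α⁻¹ x)⁻¹ * afun m (afun α⁻¹ x) ∈ P :=
            P.mul_mem (P.inv_mem hx') (afun_mem m hx')
          have := hinvE hmα _ hc (hm2 _ hx')
          rw [afun_map_mul α (P.inv_mem hx') (afun_mem m hx'), hmα.map_inv hx',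
            afun_apply_inv α hx] at this
          rwa [afun_mul _ _ hx, afun_mul _ _ hx']
      · intro g hg
        refine ⟨autInducedBy_le hPS (by rw [autInducedBy_eq_range]; exact ⟨g, rfl⟩),
          fun x hx hxE => ?_, fun x hx => ?_⟩
        · rw [afun_nHom g hx, cj_apply, hcomm hg.1 hxE.1 hg.2 hxE.2, mul_inv_cancel_right]
        · rw [afun_nHom g hx, cj_apply, ← mul_assoc, ← mul_assoc]
          exact E.mul_mem (by
            have := hinvE (mor_cj hES (S.inv_mem (hPS hx))) _ hg hg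
            rwa [cj_apply, inv_inv] at this) (E.inv_mem hg)
  refine ⟨ht, Subgroup.mem_centralizer_iff.mpr fun x hx => ?_⟩
  obtain ⟨z, hz, hxz⟩ := h x hx
  obtain ⟨f, hf, rfl⟩ := isConjElt_iff.mp hxz
  obtain ⟨g, hg, hgE, him⟩ := (isNormal_iff.mp hEn).2 _ f hf
  have hxP : x ∈ Subgroup.zpowers x ⊔ E := Subgroup.mem_sup_left (Subgroup.mem_zpowers x)
  have htP : t ∈ Subgroup.zpowers x ⊔ E := Subgroup.mem_sup_right ⟨ht, ht2⟩
  refine hg.injOn (Subgroup.mul_mem _ hxP htP) (Subgroup.mul_mem _ htP hxP) ?_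
  rw [hg.map_mul hxP htP, hg.map_mul htP hxP, hgE x (Subgroup.mem_zpowers x)]
  exact (Subgroup.mem_centralizer_iff.mp hz.2 _ (hg.apply_mem htP)).symm

end

/-- Let F be a saturated fusion system over a finite 2-group S. Suppose that every element of S is F-conjugate to an element of the centre Z(S) (some map of F defined on the cyclic subgroup it generates sends it into Z(S)). Then S is abelian. -/
theorem result {Ω : Type*} [Group Ω] {S : Subgroup Ω} [Finite S] (hS : IsPGroup 2 ↥S) (F : Cfsg.FusionSystem S) (hF : F.IsSaturated 2) (h : ∀ x ∈ S, ∃ z ∈ S ⊓ Subgroup.centralizer (S : Set Ω), F.IsConjElt x z) : IsMulCommutative ↥S := by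
  have key : ∀ (n : ℕ) (x : Ω), x ∈ S → x ^ 2 ^ n = 1 → x ∈ Zc S := by
    intro n
    induction n with
    | zero =>
      intro x _ hx
      rw [pow_zero, pow_one] at hx
      subst hx
      exact one_mem _
    | succ n ih =>
      intro x hxS hx
      have h2 : x ^ 2 ∈ Zc S :=
        ih _ (S.pow_mem hxS 2) (by rw [← pow_mul, ← pow_succ']; exact hx)
      obtain ⟨z, hz, hxz⟩ := h x hxS
      obtain ⟨f, hf, rfl⟩ := isConjElt_iff.mp hxz
      have hxm := Subgroup.mem_zpowers x
      have h2m := Subgroup.pow_mem _ hxm 2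
      have e : f (x ^ 2) = f x ^ 2 := by rw [pow_two, pow_two, hf.map_mul hxm hxm]
      obtain ⟨α, hα, hαe⟩ := burnside hS hF h2 (Subgroup.pow_mem _ hz 2)
        (e ▸ isConjElt_of_mor hf h2m)
      have hinv := (mem_autGroup le_rfl).mp (inv_mem hα)
      set w := afun α⁻¹ (f x)
      have hwS : w ∈ S := afun_mem _ hz.1
      have hw2 : w ^ 2 = x ^ 2 := by
        rw [pow_two w, ← hinv.map_mul hz.1 hz.1, ← pow_two, ← hαe,
          afun_inv_apply α (S.pow_mem hxS 2)]
      have hwc : ∀ g ∈ S, g * w = w * g := by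
        intro g hg
        have hg' := afun_mem α hg
        have hc := Subgroup.mem_centralizer_iff.mp hz.2 (afun α g) hg'
        have e1 := congrArg (afun α⁻¹) hc
        rwa [hinv.map_mul hg' hz.1, hinv.map_mul hz.1 hg', afun_inv_apply α hg] at e1
      have hwZ : w ∈ Zc S := ⟨hwS, Subgroup.mem_centralizer_iff.mpr hwc⟩
      have hinvol : w⁻¹ * x ∈ Zc S := by
        refine invol_central hS hF h (S.mul_mem (S.inv_mem hwS) hxS) ?_
        have hcw : Commute w⁻¹ x := (show Commute w x from (hwc x hxS).symm).inv_left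
        rw [hcw.mul_pow, inv_pow, hw2, inv_mul_cancel]
      simpa using Subgroup.mul_mem _ hwZ hinvol
  refine ⟨⟨fun a b => Subtype.ext ?_⟩⟩
  obtain ⟨n, hn⟩ := hS b
  have hb := key n b b.2 (congrArg Subtype.val hn)
  exact Subgroup.mem_centralizer_iff.mp hb.2 a a.2

end Cfsg.Agent.S5274
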