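import Cfsg.Statements.S4355
import Cfsg.Agent.S5274
import Cfsg.Agent.Lib.FusionSysGroup

set_option autoImplicit false
open Cfsg
open scoped Pointwise

namespace Cfsg.Agent.S4355

/-- If every element of 2-power order of a finite group has a conjugacy class of odd size, then the Sylow 2-subgroups of the group are abelian. -/
theorem result {G : Type*} [Group G] [Finite G]
    (h : ∀ x : G, (∃ k : ℕ, orderOf x = 2 ^ k) → ¬ 2 ∣ (Subgroup.centralizer ({x} : Set G)).index) (P : Sylow 2 G) :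
    IsMulCommutative P := by
  haveI : Fact (Nat.Prime 2) := ⟨Nat.prime_two⟩
  refine S5274.result P.2 (groupFusionSystem (P : Subgroup G)) ?_ ?_
  · exact FusionSysGroup.saturated_group P
  intro x hx
  obtain ⟨k, hk⟩ := IsPGroup.iff_orderOf.mp P.2 ⟨x, hx⟩
  have hk' : orderOf x = 2 ^ k := by rw [← hk, Subgroup.orderOf_mk]
  set C := Subgroup.centralizer ({x} : Set G) with hC
  obtain ⟨Q⟩ := (inferInstance : Nonempty (Sylow 2 C))
  have hQ : IsPGroup 2 ((Q : Subgroup C).map C.subtype) := Q.2.map _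
  obtain ⟨R, hR⟩ := hQ.exists_le_sylow
  have hRC : (R : Subgroup G) ≤ C := by
    have hidx : ¬ 2 ∣ ((Q : Subgroup C).map C.subtype).index := by
      rw [Subgroup.index_map_of_injective _ C.subtype_injective, Subgroup.range_subtype,
        Nat.prime_two.dvd_mul, not_or]
      exact ⟨Q.not_dvd_index, h x ⟨k, hk'⟩⟩
    have hcard := Subgroup.card_le_of_le hR
    have heq : ((Q : Subgroup C).map C.subtype) = R := by
      refine Subgroup.eq_of_le_of_card_ge hR ?_
      have h1 := Subgroup.relIndex_mul_index hR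
      obtain ⟨j, hj⟩ := IsPGroup.iff_card.mp R.2
      have h2 : ((Q : Subgroup C).map C.subtype).relIndex (R : Subgroup G) ∣ 2 ^ j := hj ▸ Subgroup.relIndex_dvd_card _ _
      obtain ⟨i, -, hi⟩ := (Nat.dvd_prime_pow Nat.prime_two).mp h2
      rcases Nat.eq_zero_or_pos i with rfl | hi0
      · exact Subgroup.card_le_of_le (Subgroup.relIndex_eq_one.mp (by simpa using hi))
      · exact absurd (h1 ▸ Dvd.dvd.mul_right (hi ▸ dvd_pow_self 2 hi0.ne') _) hidx
    rw [← heq]
    exact Subgroup.map_subtype_le _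
  obtain ⟨g, hg⟩ := MulAction.exists_smul_eq G R P
  have hg' : MulAut.conj g • (R : Subgroup G) = P := congrArg Sylow.toSubgroup hg
  have hz : ∀ s ∈ (P : Subgroup G), s * (g * x * g⁻¹) = g * x * g⁻¹ * s := by
    intro s hs
    rw [← hg', Subgroup.mem_pointwise_smul_iff_inv_smul_mem] at hs
    have h1 := Subgroup.mem_centralizer_singleton_iff.mp (hRC hs)
    simp only [MulAut.smul_def, MulAut.conj_inv_apply] at h1
    calc s * (g * x * g⁻¹) = g * (g⁻¹ * s * g * x) * g⁻¹ := by group
      _ = g * (x * (g⁻¹ * s * g)) * g⁻¹ := by rw [h1]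
      _ = g * x * g⁻¹ * s := by group
  have hzp : IsPGroup 2 (Subgroup.zpowers (g * x * g⁻¹)) := IsPGroup.of_card (n := k) (by
    rw [Nat.card_zpowers, ← hk']
    exact ((SemiconjBy.conj_mk g x).orderOf_eq).symm)
  have hnorm : Subgroup.zpowers (g * x * g⁻¹) ≤ Subgroup.normalizer ((P : Subgroup G) : Set G) :=
    (Subgroup.zpowers_le.mpr (Subgroup.mem_centralizer_iff.mpr hz)).trans
      (Subgroup.centralizer_le_normalizer _)
  have hzP : g * x * g⁻¹ ∈ (P : Subgroup G) := by
    have hsup := hzp.to_sup_of_normal_right' P.2 hnorm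
    exact (P.3 hsup le_sup_right).le (Subgroup.mem_sup_left (Subgroup.mem_zpowers _))
  refine ⟨g * x * g⁻¹, ⟨hzP, Subgroup.mem_centralizer_iff.mpr hz⟩,
    conjHom (Subgroup.zpowers x) g, ⟨Subgroup.zpowers_le.mpr hx, fun y => ?_, g, fun y => rfl⟩, rfl⟩
  obtain ⟨i, hi⟩ := Subgroup.mem_zpowers_iff.mp y.2
  show g * (y : G) * g⁻¹ ∈ (P : Subgroup G)
  rw [← hi, ← conj_zpow]
  exact Subgroup.zpow_mem _ hzP i

end Cfsg.Agent.S4355
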