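import Cfsg.Statements.S4194
import Mathlib
import Cfsg.Agent.S4355

set_option autoImplicit false
open Cfsg

namespace Cfsg.Agent.S4194

/-- A finite group G has commutative Sylow 2-subgroups if and only if every 2-element of G (element of order a power of 2) is 2-central, that is, its centralizer contains a Sylow 2-subgroup of G. -/
theorem result {G : Type*} [Group G] [Finite G] (P : Sylow 2 G) :
    IsMulCommutative (P : Subgroup G) ↔ ∀ x : G, (∃ k : ℕ, orderOf x = 2 ^ k) → (∃ Q : Sylow 2 G, (Q : Subgroup G) ≤ Subgroup.centralizer ({x} : Set G)) := by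
  haveI : Fact (Nat.Prime 2) := ⟨Nat.prime_two⟩
  constructor
  · intro hP x hx
    obtain ⟨k, hk⟩ := hx
    have hc : Nat.card (Subgroup.zpowers x) = 2 ^ k := by rw [Nat.card_zpowers, hk]
    obtain ⟨Q, hQ⟩ := (IsPGroup.of_card hc).exists_le_sylow
    have hxQ : x ∈ (Q : Subgroup G) := hQ (Subgroup.mem_zpowers x)
    haveI : IsMulCommutative (Q : Subgroup G) := by
      refine ⟨⟨fun a b => ?_⟩⟩
      have e := P.equiv Q
      refine e.symm.injective ?_
      rw [map_mul, map_mul]
      exact hP.is_comm.comm _ _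
    refine ⟨Q, fun q hq => Subgroup.mem_centralizer_singleton_iff.2 ?_⟩
    exact congrArg Subtype.val (IsMulCommutative.is_comm.comm (⟨q, hq⟩ : (Q : Subgroup G)) ⟨x, hxQ⟩)
  · intro h
    refine Cfsg.Agent.S4355.result (fun x hx hdvd => ?_) P
    obtain ⟨Q, hQ⟩ := h x hx
    exact Q.not_dvd_index (hdvd.trans (Subgroup.index_dvd_of_le hQ))

end Cfsg.Agent.S4194
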