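import Cfsg.Statements.S4195

set_option autoImplicit false
open Cfsg

namespace Cfsg.Agent.S4195

/-- Let x be a non-identity element of a finite group G whose centralizer contains a Sylow 2-subgroup of G. If x is conjugate to its inverse, then x has order 2. -/
theorem result {G : Type*} [Group G] [Finite G] (x : G) (hx : x ≠ 1) (P : Sylow 2 G) (hP : (P : Subgroup G) ≤ Subgroup.centralizer ({x} : Set G)) (hreal : IsConj x x⁻¹) : orderOf x = 2 := by
  classical
  by_contra hne
  obtain ⟨c, hc⟩ := isConj_iff.mp hreal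
  set C := Subgroup.centralizer ({x} : Set G) with hC
  set N := Subgroup.normalizer (C : Set G) with hN
  have hcC : c ∉ C := by
    intro h
    rw [hC, Subgroup.mem_centralizer_singleton_iff] at h
    rw [h, mul_inv_cancel_right] at hc
    exact hne (orderOf_eq_prime (by rw [sq]; exact mul_eq_one_iff_eq_inv.mpr hc) hx)
  have hc2 : c ^ 2 ∈ C := by
    rw [hC, Subgroup.mem_centralizer_singleton_iff]
    have h2 : c ^ 2 * x * (c ^ 2)⁻¹ = x := by
      calc c ^ 2 * x * (c ^ 2)⁻¹ = c * (c * x * c⁻¹) * c⁻¹ := by simp [sq, mul_assoc, mul_inv_rev]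
        _ = c * x⁻¹ * c⁻¹ := by rw [hc]
        _ = (c * x * c⁻¹)⁻¹ := by group
        _ = x := by rw [hc, inv_inv]
    rw [mul_inv_eq_iff_eq_mul] at h2
    exact h2
  have key : ∀ h : G, h * x = x * h ↔ c * h * c⁻¹ * x = x * (c * h * c⁻¹) := by
    intro h
    change Commute h x ↔ Commute (c * h * c⁻¹) x
    rw [← Commute.conj_iff c, hc, Commute.inv_right_iff]
  have hcN : c ∈ N := by
    rw [hN, Subgroup.mem_normalizer_iff]
    intro h
    rw [hC, Subgroup.mem_centralizer_singleton_iff, Subgroup.mem_centralizer_singleton_iff]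
    exact key h
  have hCN : C ≤ N := Subgroup.le_normalizer
  haveI : (C.subgroupOf N).Normal := Subgroup.normal_in_normalizer
  have h2 : 2 ∣ C.relIndex N := by
    have ho : orderOf (QuotientGroup.mk' (C.subgroupOf N) ⟨c, hcN⟩) = 2 := by
      apply orderOf_eq_prime
      · rw [← map_pow, QuotientGroup.mk'_apply, QuotientGroup.eq_one_iff]; exact hc2
      · rw [QuotientGroup.mk'_apply, Ne, QuotientGroup.eq_one_iff]; exact hcC
    have := orderOf_dvd_natCard (QuotientGroup.mk' (C.subgroupOf N) ⟨c, hcN⟩)
    rw [ho] at this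
    exact this
  have h3 : 2 ∣ (P : Subgroup G).index := by
    refine h2.trans (dvd_trans ?_ (Subgroup.index_dvd_of_le hP))
    exact ⟨N.index, (Subgroup.relIndex_mul_index hCN).symm⟩
  exact P.not_dvd_index h3

end Cfsg.Agent.S4195
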