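import Cfsg.Statements.S4196
import Cfsg.Agent.S4195

set_option autoImplicit false
open Cfsg

namespace Cfsg.Agent.S4196

/-- A finite group G has elementary abelian Sylow 2-subgroups (commutative with every element squaring to the identity) if and only if every 2-element of G has a Sylow 2-subgroup in its centralizer and is conjugate to its inverse. -/
theorem result {G : Type*} [Group G] [Finite G] (P : Sylow 2 G) :
    (IsMulCommutative (P : Subgroup G) ∧ ∀ x ∈ (P : Subgroup G), x ^ 2 = 1) ↔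
      ∀ x : G, (∃ k : ℕ, orderOf x = 2 ^ k) → (∃ Q : Sylow 2 G, (Q : Subgroup G) ≤ Subgroup.centralizer ({x} : Set G)) ∧ IsConj x x⁻¹ := by
  constructor
  · rintro ⟨hcomm, hexp⟩ x ⟨k, hk⟩
    have hpg : IsPGroup 2 (Subgroup.zpowers x) := IsPGroup.of_card (n := k) (by rw [Nat.card_zpowers, hk])
    obtain ⟨Q, hQ⟩ := hpg.exists_le_sylow
    have hxQ : x ∈ (Q : Subgroup G) := hQ (Subgroup.mem_zpowers x)
    obtain ⟨g, hg⟩ := MulAction.exists_smul_eq G Q P
    have hmem : ∀ y ∈ (Q : Subgroup G), g * y * g⁻¹ ∈ (P : Subgroup G) := by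
      intro y hy
      rw [← hg]
      exact Set.smul_mem_smul_set hy
    refine ⟨⟨Q, fun y hy => ?_⟩, ?_⟩
    · rw [Subgroup.mem_centralizer_singleton_iff]
      have h := setLike_mul_comm (hmem y hy) (hmem x hxQ)
      exact (Commute.conj_iff g).mp h
    · have h := hexp _ (hmem x hxQ)
      rw [conj_pow, conj_eq_one_iff, sq] at h
      rw [show x⁻¹ = x from inv_eq_of_mul_eq_one_left h]
  · intro h
    have hexp : ∀ x ∈ (P : Subgroup G), x ^ 2 = 1 := by
      intro x hx
      by_cases h1 : x = 1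
      · simp [h1]
      obtain ⟨k, hk⟩ := P.2 (⟨x, hx⟩ : (P : Subgroup G))
      obtain ⟨i, -, hi⟩ := (Nat.dvd_prime_pow Nat.prime_two).mp (orderOf_dvd_of_pow_eq_one (show x ^ 2 ^ k = 1 by simpa using congrArg Subtype.val hk))
      obtain ⟨⟨Q, hQ⟩, hreal⟩ := h x ⟨i, hi⟩
      have := Cfsg.Agent.S4195.result x h1 Q hQ hreal
      rw [← this, pow_orderOf_eq_one]
    refine ⟨⟨⟨fun a b => ?_⟩⟩, hexp⟩
    have hinv : ∀ c : (P : Subgroup G), c⁻¹ = c := fun c =>
      inv_eq_of_mul_eq_one_left (Subtype.ext (by simpa [sq] using hexp c c.2))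
    calc a * b = (a * b)⁻¹ := (hinv _).symm
      _ = b * a := by rw [mul_inv_rev, hinv, hinv]

end Cfsg.Agent.S4196
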