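import Cfsg.Statements.S4198
import Mathlib

set_option autoImplicit false
open Cfsg

namespace Cfsg.Agent.S4198

open Equiv

theorem conj_type {α : Type*} [Fintype α] [DecidableEq α] {s t : Perm α} :
    ConjClasses.mk s = ConjClasses.mk t ↔ s.cycleType = t.cycleType :=
  ConjClasses.mk_eq_mk_iff_isConj.trans Equiv.Perm.isConj_iff_cycleType_eq

/-- The partition counting recursion. -/
theorem card_partition_succ (n : ℕ) :
    Nat.card (Nat.Partition (n + 1)) ≤ 2 * Nat.card (Nat.Partition n) := by
  classical
  have hmin : ∀ q : Nat.Partition (n + 1), ∃ a ∈ q.parts, ∀ b ∈ q.parts, a ≤ b := by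
    intro q
    have hne : q.parts.toFinset.Nonempty := by
      rw [Finset.nonempty_iff_ne_empty, ne_eq, Multiset.toFinset_eq_empty]
      intro h
      have := q.parts_sum
      rw [h, Multiset.sum_zero] at this
      omega
    exact ⟨q.parts.toFinset.min' hne, Multiset.mem_toFinset.mp (Finset.min'_mem _ _),
      fun b hb => Finset.min'_le _ _ (Multiset.mem_toFinset.mpr hb)⟩
  choose a ha hle using hmin
  let f : Nat.Partition (n + 1) → Nat.Partition n ⊕ Nat.Partition n := fun q =>
    if h1 : a q = 1 then
      Sum.inl ⟨q.parts.erase (a q), fun {i} hi => q.parts_pos (Multiset.mem_of_mem_erase hi), by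
        have h := congrArg Multiset.sum (Multiset.cons_erase (ha q))
        rw [Multiset.sum_cons, q.parts_sum, h1] at h
        rw [h1]; omega⟩
    else
      Sum.inr ⟨(a q - 1) ::ₘ q.parts.erase (a q), fun {i} hi => by
          rcases Multiset.mem_cons.mp hi with rfl | hi
          · have := q.parts_pos (ha q); omega
          · exact q.parts_pos (Multiset.mem_of_mem_erase hi), by
        have h := congrArg Multiset.sum (Multiset.cons_erase (ha q))
        have := q.parts_pos (ha q)
        rw [Multiset.sum_cons, q.parts_sum] at h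
        rw [Multiset.sum_cons]; omega⟩
  have hf : Function.Injective f := by
    intro p q h
    by_cases hp : a p = 1 <;> by_cases hq : a q = 1 <;> simp only [f, hp, hq, dif_pos, dif_neg, not_false_eq_true] at h
    · have h' := congrArg Nat.Partition.parts (Sum.inl.inj h)
      simp only at h'
      apply Nat.Partition.ext
      rw [← Multiset.cons_erase (ha p), ← Multiset.cons_erase (ha q), hp, hq, h']
    · cases h
    · cases h
    · have h' := congrArg Nat.Partition.parts (Sum.inr.inj h)
      simp only at h'
      have e : a p = a q := by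
        have h1 : a p - 1 ∈ (a q - 1) ::ₘ q.parts.erase (a q) := h' ▸ Multiset.mem_cons_self _ _
        have h2 : a q - 1 ∈ (a p - 1) ::ₘ p.parts.erase (a p) := h'.symm ▸ Multiset.mem_cons_self _ _
        have := p.parts_pos (ha p)
        have := q.parts_pos (ha q)
        rcases Multiset.mem_cons.mp h1 with h1 | h1 <;> rcases Multiset.mem_cons.mp h2 with h2 | h2
        · omega
        · omega
        · omega
        · have := hle q _ (Multiset.mem_of_mem_erase h1)
          have := hle p _ (Multiset.mem_of_mem_erase h2)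
          omega
      rw [e] at h'
      apply Nat.Partition.ext
      rw [← Multiset.cons_erase (ha p), ← Multiset.cons_erase (ha q), e, (Multiset.cons_inj_right _).mp h']
  have := Nat.card_le_card_of_injective f hf
  rw [Nat.card_sum] at this
  omega

theorem card_partition_le : ∀ k : ℕ, Nat.card (Nat.Partition (5 + k)) ≤ 2 ^ (3 + k)
  | 0 => by
    let T := {v : Fin 3 × Fin 2 × Fin 2 × Fin 2 //
      2 * v.1.val + 3 * v.2.1.val + 4 * v.2.2.1.val + 5 * v.2.2.2.val ≤ 5}
    have hT : Fintype.card T ≤ 8 := by decide
    have hsum : ∀ q : Nat.Partition (5 + 0), q.parts.count 1 + 2 * q.parts.count 2 + 3 * q.parts.count 3 +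
        4 * q.parts.count 4 + 5 * q.parts.count 5 = 5 := by
      intro q
      have hs := q.parts_sum
      rw [Finset.sum_multiset_count_of_subset q.parts {1, 2, 3, 4, 5} (fun x hx => by
        rw [Multiset.mem_toFinset] at hx
        have h1 := q.parts_pos hx
        have h2 := Multiset.le_sum_of_mem hx
        rw [q.parts_sum] at h2
        simp only [Finset.mem_insert, Finset.mem_singleton]; omega)] at hs
      simp at hs
      omega
    let g : Nat.Partition (5 + 0) → T := fun q => ⟨(⟨q.parts.count 2, by have := hsum q; omega⟩,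
      ⟨q.parts.count 3, by have := hsum q; omega⟩, ⟨q.parts.count 4, by have := hsum q; omega⟩,
      ⟨q.parts.count 5, by have := hsum q; omega⟩), by have := hsum q; simp only; omega⟩
    have hg : Function.Injective g := by
      intro p q h
      simp only [g, T, Subtype.mk.injEq, Prod.mk.injEq, Fin.mk.injEq] at h
      obtain ⟨h2, h3, h4, h5⟩ := h
      have hp := hsum p
      have hq := hsum q
      apply Nat.Partition.ext
      ext i
      by_cases hi : i ∈ ({1, 2, 3, 4, 5} : Finset ℕ)
      · simp only [Finset.mem_insert, Finset.mem_singleton] at hi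
        rcases hi with rfl | rfl | rfl | rfl | rfl <;> omega
      · have hz : ∀ r : Nat.Partition (5 + 0), r.parts.count i = 0 := fun r =>
          Multiset.count_eq_zero.mpr fun hx => hi (by
            have h1 := r.parts_pos hx
            have h2 := Multiset.le_sum_of_mem hx
            rw [r.parts_sum] at h2
            simp only [Finset.mem_insert, Finset.mem_singleton]; omega)
        rw [hz, hz]
    exact (Nat.card_le_card_of_injective g hg).trans (by rw [Nat.card_eq_fintype_card]; exact hT)
  | k + 1 => by
    refine (card_partition_succ (5 + k)).trans ?_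
    have := card_partition_le k
    rw [← Nat.add_assoc, pow_succ]
    omega

theorem card_classes_le (n : ℕ) : Nat.card (ConjClasses (Perm (Fin n))) ≤ Nat.card (Nat.Partition (Fintype.card (Fin n))) := by
  classical
  refine Nat.card_le_card_of_injective (fun c => c.exists_rep.choose.partition) fun c d h => ?_
  rw [← c.exists_rep.choose_spec, ← d.exists_rep.choose_spec]
  exact ConjClasses.mk_eq_mk_iff_isConj.mpr (Equiv.Perm.partition_eq_of_isConj.mpr h)

/-- Existence of the odd companion of a split class. -/
theorem exists_companion {n : ℕ} (hn : 5 ≤ n) (σ : Perm (Fin n))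
    (h : Subgroup.centralizer ({σ} : Set (Perm (Fin n))) ≤ alternatingGroup (Fin n)) (hσ : σ ∈ alternatingGroup (Fin n)) :
    ∃ a ∈ σ.cycleType, 3 ≤ a ∧ ∃ τ : Perm (Fin n), τ.cycleType = (a - 1) ::ₘ σ.cycleType.erase a ∧
      τ ∉ alternatingGroup (Fin n) ∧ 3 ≤ τ.cycleType.sum := by
  obtain ⟨hodd, hsum, -⟩ := Equiv.Perm.centralizer_le_alternating_iff.mp h
  rw [Fintype.card_fin] at hsum
  obtain ⟨a, ha⟩ : ∃ a, a ∈ σ.cycleType := Multiset.exists_mem_of_ne_zero (fun h0 => by rw [h0, Multiset.sum_zero] at hsum; omega)
  have ha2 := Equiv.Perm.two_le_of_mem_cycleType ha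
  have ha3 : 3 ≤ a := by obtain ⟨k, hk⟩ := hodd a ha; omega
  have hs : a + (σ.cycleType.erase a).sum = σ.cycleType.sum := by
    rw [← Multiset.sum_cons, Multiset.cons_erase ha]
  have hle : σ.cycleType.sum ≤ n := by simpa using σ.sum_cycleType_le
  obtain ⟨τ, hτ⟩ := (Equiv.Perm.exists_with_cycleType_iff (α := Fin n) (m := (a - 1) ::ₘ σ.cycleType.erase a)).mpr
    ⟨by rw [Fintype.card_fin, Multiset.sum_cons]; omega, fun i hi => by
      rcases Multiset.mem_cons.mp hi with rfl | hi
      · omega
      · exact Equiv.Perm.two_le_of_mem_cycleType (Multiset.mem_of_mem_erase hi)⟩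
  refine ⟨a, ha, ha3, τ, hτ, ?_, by rw [hτ, Multiset.sum_cons]; omega⟩
  rw [Equiv.Perm.mem_alternatingGroup, Equiv.Perm.sign_of_cycleType] at hσ ⊢
  rw [hτ, Multiset.sum_cons, Multiset.card_cons, Multiset.card_erase_of_mem ha]
  have hpos : 0 < Multiset.card σ.cycleType := Multiset.card_pos.mpr (fun h0 => by simp [h0] at ha)
  have e : σ.cycleType.sum + Multiset.card σ.cycleType = a - 1 + (σ.cycleType.erase a).sum + (Multiset.card σ.cycleType - 1 + 1) + 1 := by omega
  rw [e, pow_succ] at hσ
  intro h2
  change (-1 : ℤˣ) ^ (a - 1 + (σ.cycleType.erase a).sum + (Multiset.card σ.cycleType).pred.succ) = 1 at h2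
  rw [Nat.pred_eq_sub_one, Nat.succ_eq_add_one] at h2
  rw [h2] at hσ
  exact absurd hσ (by decide)

/-- For n ≥ 5 the alternating group of degree n has strictly fewer conjugacy classes than the symmetric group of degree n, and the symmetric group of degree n (whose classes correspond to the partitions of n) has at most 2^(n−2) conjugacy classes. -/
theorem result (n : ℕ) (hn : 5 ≤ n) : Nat.card (ConjClasses (alternatingGroup (Fin n))) < Nat.card (ConjClasses (Equiv.Perm (Fin n))) ∧ Nat.card (ConjClasses (Equiv.Perm (Fin n))) ≤ 2 ^ (n - 2) := by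
  classical
  constructor
  swap
  · refine (card_classes_le n).trans ?_
    rw [Fintype.card_fin]
    have := card_partition_le (n - 5)
    rwa [show 5 + (n - 5) = n by omega, show 3 + (n - 5) = n - 2 by omega] at this
  let A := alternatingGroup (Fin n)
  let π : ConjClasses A → ConjClasses (Perm (Fin n)) := ConjClasses.map A.subtype
  have hπ : ∀ x : A, π (ConjClasses.mk x) = ConjClasses.mk (x : Perm (Fin n)) := fun x => rfl
  have rep : ∀ c : ConjClasses (Perm (Fin n)), (∃ a, π a = c) → ∃ a, π a = c := fun c h => h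
  let r : ConjClasses A → ConjClasses A := fun a => (rep (π a) ⟨a, rfl⟩).choose
  have hr : ∀ a, π (r a) = π a := fun a => (rep (π a) ⟨a, rfl⟩).choose_spec
  have hr' : ∀ a b, π a = π b → r a = r b := fun a b h => by simp only [r, h]
  have hconj : ∀ x y : A, π (ConjClasses.mk x) = π (ConjClasses.mk y) → ConjClasses.mk x ≠ ConjClasses.mk y →
      Subgroup.centralizer ({(x : Perm (Fin n))} : Set (Perm (Fin n))) ≤ A ∧ ∀ g, g * x * g⁻¹ = (y : Perm (Fin n)) → g ∉ A := by
    intro x y h hne
    obtain ⟨g, hg⟩ := isConj_iff.mp (ConjClasses.mk_eq_mk_iff_isConj.mp h)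
    have key : ∀ g, g * x * g⁻¹ = (y : Perm (Fin n)) → g ∉ A := fun g hg hgA =>
      hne (ConjClasses.mk_eq_mk_iff_isConj.mpr (isConj_iff.mpr ⟨⟨g, hgA⟩, Subtype.ext hg⟩))
    refine ⟨fun z hz => ?_, key⟩
    by_contra hzA
    refine key (g * z) ?_ ?_
    · have hz' := Subgroup.mem_centralizer_singleton_iff.mp hz
      calc g * z * x * (g * z)⁻¹ = g * (z * x) * z⁻¹ * g⁻¹ := by group
        _ = g * (x * z) * z⁻¹ * g⁻¹ := by rw [hz']
        _ = g * x * g⁻¹ := by group
        _ = y := hg
    · have hgA := key g hg
      simp only [A, Equiv.Perm.mem_alternatingGroup] at hgA hzA ⊢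
      rw [map_mul, (Int.units_eq_one_or _).resolve_left hgA, (Int.units_eq_one_or _).resolve_left hzA]; decide
  have hsplit : ∀ a, r a ≠ a → Subgroup.centralizer ({((ConjClasses.exists_rep a).choose : Perm (Fin n))} : Set (Perm (Fin n))) ≤ A := by
    intro a ha
    obtain ⟨y, hy⟩ := ConjClasses.exists_rep (r a)
    exact (hconj _ y (by rw [(ConjClasses.exists_rep a).choose_spec, hy, hr]) (by rw [(ConjClasses.exists_rep a).choose_spec, hy]; exact ha.symm)).1
  choose av hav hav3 τ hτ hτA hτs using fun (a : ConjClasses A) (h : r a ≠ a) =>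
    exists_companion hn _ (hsplit a h) (ConjClasses.exists_rep a).choose.2
  let f : ConjClasses A → ConjClasses (Perm (Fin n)) := fun a => if h : r a = a then π a else ConjClasses.mk (τ a h)
  have hmixed : ∀ a b, ∀ hb : r b ≠ b, π a ≠ ConjClasses.mk (τ b hb) := by
    intro a b hb h
    obtain ⟨x, rfl⟩ := ConjClasses.exists_rep a
    rw [hπ, conj_type] at h
    apply hτA b hb
    rw [Equiv.Perm.mem_alternatingGroup, Equiv.Perm.sign_of_cycleType, ← h, ← Equiv.Perm.sign_of_cycleType]
    exact x.2
  have hinj : Function.Injective f := by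
    intro a b h
    by_cases ha : r a = a <;> by_cases hb : r b = b <;> simp only [f, ha, hb, dif_pos, dif_neg, not_false_eq_true] at h
    · rw [← ha, ← hb]; exact hr' a b h
    · exact absurd h (hmixed a b hb)
    · exact absurd h.symm (hmixed b a ha)
    · rw [conj_type, hτ, hτ] at h
      obtain ⟨hodda, -, -⟩ := Equiv.Perm.centralizer_le_alternating_iff.mp (hsplit a ha)
      obtain ⟨hoddb, -, -⟩ := Equiv.Perm.centralizer_le_alternating_iff.mp (hsplit b hb)
      have e : av a ha = av b hb := by
        have h1 : av a ha - 1 ∈ (av b hb - 1) ::ₘ _ := h ▸ Multiset.mem_cons_self _ _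
        have := hav3 a ha
        have := hav3 b hb
        rcases Multiset.mem_cons.mp h1 with h1 | h1
        · omega
        · obtain ⟨k, hk⟩ := hoddb _ (Multiset.mem_of_mem_erase h1)
          obtain ⟨l, hl⟩ := hodda _ (hav a ha)
          omega
      rw [e] at h
      have hct := congrArg (av b hb ::ₘ ·) ((Multiset.cons_inj_right _).mp h)
      beta_reduce at hct
      rw [Multiset.cons_erase (e ▸ hav a ha), Multiset.cons_erase (hav b hb)] at hct
      by_contra hne
      obtain ⟨ya, hya⟩ := ConjClasses.exists_rep (r a)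
      have hpab : π a = π b := by
        rw [← (ConjClasses.exists_rep a).choose_spec, ← (ConjClasses.exists_rep b).choose_spec, hπ, hπ, conj_type]
        exact hct
      -- three classes over one
      obtain ⟨g, hg⟩ := isConj_iff.mp (ConjClasses.mk_eq_mk_iff_isConj.mp (show ConjClasses.mk ((ConjClasses.exists_rep a).choose : Perm (Fin n)) = ConjClasses.mk (ya : Perm (Fin n)) by
        rw [← hπ, ← hπ, (ConjClasses.exists_rep a).choose_spec, hya, hr]))
      obtain ⟨g', hg'⟩ := isConj_iff.mp (ConjClasses.mk_eq_mk_iff_isConj.mp (show ConjClasses.mk ((ConjClasses.exists_rep b).choose : Perm (Fin n)) = ConjClasses.mk (ya : Perm (Fin n)) by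
        rw [← hπ, ← hπ, (ConjClasses.exists_rep b).choose_spec, hya, hr, hpab]))
      have n1 := (hconj _ ya (by rw [(ConjClasses.exists_rep a).choose_spec, hya, hr]) (by rw [(ConjClasses.exists_rep a).choose_spec, hya]; exact Ne.symm ha)).2 g hg
      have n2 := (hconj _ ya (by rw [(ConjClasses.exists_rep b).choose_spec, hya, hr, hpab]) (by rw [(ConjClasses.exists_rep b).choose_spec, hya, hr' a b hpab]; exact Ne.symm hb)).2 g' hg'
      refine (hconj _ (ConjClasses.exists_rep b).choose (by rw [(ConjClasses.exists_rep a).choose_spec, (ConjClasses.exists_rep b).choose_spec, hpab])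
        (by rw [(ConjClasses.exists_rep a).choose_spec, (ConjClasses.exists_rep b).choose_spec]; exact hne)).2 (g'⁻¹ * g) ?_ ?_
      · rw [← hg] at hg'
        calc g'⁻¹ * g * _ * (g'⁻¹ * g)⁻¹ = g'⁻¹ * (g * ((ConjClasses.exists_rep a).choose : Perm (Fin n)) * g⁻¹) * g' := by group
          _ = g'⁻¹ * (g' * ((ConjClasses.exists_rep b).choose : Perm (Fin n)) * g'⁻¹) * g' := by rw [hg']
          _ = _ := by group
      · simp only [A, Equiv.Perm.mem_alternatingGroup] at n1 n2 ⊢
        rw [map_mul, map_inv, (Int.units_eq_one_or _).resolve_left n1, (Int.units_eq_one_or _).resolve_left n2]; decide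
  have hmiss : ConjClasses.mk (Equiv.swap (⟨0, by omega⟩ : Fin n) ⟨1, by omega⟩) ∉ Set.range f := by
    rintro ⟨a, ha⟩
    have hsw : (Equiv.swap (⟨0, by omega⟩ : Fin n) ⟨1, by omega⟩).IsSwap := ⟨_, _, by simp, rfl⟩
    by_cases h : r a = a <;> simp only [f, h, dif_pos, dif_neg, not_false_eq_true] at ha
    · obtain ⟨x, rfl⟩ := ConjClasses.exists_rep a
      rw [hπ, conj_type] at ha
      have h2 : Equiv.Perm.sign (x : Perm (Fin n)) = -1 := by
        rw [Equiv.Perm.sign_of_cycleType, ha, ← Equiv.Perm.sign_of_cycleType]; exact hsw.sign_eq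
      have h3 := x.2
      simp only [A, Equiv.Perm.mem_alternatingGroup] at h3
      rw [h3] at h2
      exact absurd h2 (by decide)
    · rw [conj_type] at ha
      have := hτs a h
      rw [ha, Equiv.Perm.isSwap_iff_cycleType.mp hsw, Multiset.sum_singleton] at this
      omega
  haveI := Fintype.ofFinite (ConjClasses A)
  haveI := Fintype.ofFinite (ConjClasses (Perm (Fin n)))
  rw [Nat.card_eq_fintype_card, Nat.card_eq_fintype_card]
  exact Fintype.card_lt_of_injective_of_notMem f hinj hmiss

end Cfsg.Agent.S4198
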