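import Cfsg.Statements.S4203
import Mathlib
import Cfsg.Agent.S0061
import Cfsg.Agent.Lib.SylowCount
import Cfsg.Agent.Lib.CharInducedBurnside

set_option autoImplicit false
open Cfsg

namespace Cfsg.Agent.S4203

open scoped Pointwise commutatorElement

universe u

theorem solvable_aux {G : Type u} [Group G] [Finite G]
    (h : ∀ M : Subgroup G, IsCoatom M → ∃ p : ℕ, p.Prime ∧ (M.index = p ∨ M.index = p ^ 2)) : Group.IsSolvable G := by
  generalize hn : Nat.card G = n
  induction n using Nat.strong_induction_on generalizing G with
  | _ n ih =>
    rcases subsingleton_or_nontrivial G with hs | hs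
    · infer_instance
    have hne : (Nat.card G).primeFactors.Nonempty :=
      Nat.nonempty_primeFactors.2 Finite.one_lt_card
    set p := (Nat.card G).primeFactors.max' hne with hpdef
    have hpm : p ∈ (Nat.card G).primeFactors := Finset.max'_mem _ _
    have hp : p.Prime := Nat.prime_of_mem_primeFactors hpm
    have hpd : p ∣ Nat.card G := Nat.dvd_of_mem_primeFactors hpm
    have hmax : ∀ r : ℕ, r.Prime → r ∣ Nat.card G → r ≤ p := fun r hr hd =>
      Finset.le_max' _ _ (Nat.mem_primeFactors.2 ⟨hr, hd, Nat.card_pos.ne'⟩)
    haveI : Fact p.Prime := ⟨hp⟩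
    obtain ⟨P⟩ := (inferInstance : Nonempty (Sylow p G))
    rcases eq_or_ne (Subgroup.normalizer ((P : Subgroup G) : Set G)) ⊤ with hN | hN
    · haveI hPn : (P : Subgroup G).Normal := Subgroup.normalizer_eq_top_iff.mp hN
      refine Cfsg.Agent.S0061.solvable_of_normal _ (Cfsg.Agent.S0061.pgroup_solvable P.2) ?_
      have hPb : (P : Subgroup G) ≠ ⊥ := P.ne_bot_of_dvd_card hpd
      refine ih _ ?_ (fun M hM => ?_) rfl
      · rw [← hn, Subgroup.card_eq_card_quotient_mul_card_subgroup (P : Subgroup G)]
        exact lt_mul_of_one_lt_right Nat.card_pos ((Subgroup.one_lt_card_iff_ne_bot _).2 hPb)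
      · have hπ := QuotientGroup.mk'_surjective (P : Subgroup G)
        have := h _ (Subgroup.isCoatom_comap_of_surjective hπ hM)
        rwa [Subgroup.index_comap_of_surjective M hπ] at this
    · obtain ⟨M, hM, hNM⟩ := (eq_top_or_exists_le_coatom _).resolve_left hN
      obtain ⟨r, hr, hri⟩ := h M hM
      have hrd : r ∣ Nat.card G := by
        refine dvd_trans ?_ M.index_dvd_card
        rcases hri with e | e <;> rw [e]
        exact dvd_pow_self r two_ne_zero
      have hPM : (P : Subgroup G) ≤ M := Subgroup.le_normalizer.trans hNM
      have hrp : r ≠ p := by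
        intro e
        apply P.not_dvd_index
        refine dvd_trans ?_ (Subgroup.index_dvd_of_le hPM)
        subst e
        rcases hri with e | e <;> rw [e]
        exact dvd_pow_self _ two_ne_zero
      have hlt : r < p := lt_of_le_of_ne (hmax r hr hrd) hrp
      have h1 : Nat.card (Sylow p G) = Nat.card (Sylow p M) * M.index := by
        rw [Cfsg.Agent.SylowCount.card_sylow_eq_relIndex M P hPM, Sylow.card_eq_index_normalizer P]
        exact (Subgroup.relIndex_mul_index hNM).symm
      have h2 := card_sylow_modEq_one p G
      rw [h1] at h2
      have h3 : M.index ≡ 1 [MOD p] := by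
        have h4 := (card_sylow_modEq_one p M).mul_right M.index
        rw [one_mul] at h4
        exact h4.symm.trans h2
      have hr2 := hr.two_le
      have hp3 : p = 3 ∧ r = 2 := by
        rcases hri with e | e
        · rw [e] at h3
          have := Nat.le_of_dvd (by omega) ((Nat.modEq_iff_dvd' hr.one_le).1 h3.symm)
          omega
        · rw [e] at h3
          have h5 := (Nat.modEq_iff_dvd' (Nat.one_le_pow _ _ hr.pos)).1 h3.symm
          have h6 : r ^ 2 - 1 = (r + 1) * (r - 1) := Nat.sq_sub_sq r 1
          rw [h6] at h5
          rcases hp.dvd_mul.1 h5 with d | d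
          · have := Nat.le_of_dvd (by omega) d
            have hp1 : p = r + 1 := by omega
            have hr' : r = 2 := by
              by_contra hne
              have hpo := hr.odd_of_ne_two hne
              have := hp.odd_of_ne_two (by omega)
              rw [hp1, Nat.odd_add_one] at this
              exact this hpo
            omega
          · have := Nat.le_of_dvd (by omega) d
            omega
      refine Cfsg.Agent.CharInduced.solvable_of_card_two_primes 2 3 ((Nat.card G).factorization 2) ((Nat.card G).factorization 3) Nat.prime_two Nat.prime_three ?_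
      have hsub : (Nat.card G).primeFactors ⊆ {2, 3} := by
        intro s hs'
        have hs1 := Nat.prime_of_mem_primeFactors hs'
        have := hmax s hs1 (Nat.dvd_of_mem_primeFactors hs')
        have := hs1.two_le
        rw [hp3.1] at *
        simp only [Finset.mem_insert, Finset.mem_singleton]
        omega
      conv_lhs => rw [← Nat.prod_factorization_pow_eq_self (n := Nat.card G) Nat.card_pos.ne']
      rw [Finsupp.prod_of_support_subset _ (s := {2, 3}) (by rwa [Nat.support_factorization]) _ (fun i _ => pow_zero i)]
      rw [Finset.prod_insert (by simp), Finset.prod_singleton]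

/-- A finite group in which every maximal subgroup has index a prime or the square of a prime is solvable. -/
theorem result {G : Type*} [Group G] [Finite G] (h : ∀ M : Subgroup G, IsCoatom M → ∃ p : ℕ, p.Prime ∧ (M.index = p ∨ M.index = p ^ 2)) : Group.IsSolvable G := by
  exact solvable_aux h

end Cfsg.Agent.S4203
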