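import Cfsg.Statements.S4204
import Mathlib

set_option autoImplicit false
open Cfsg

namespace Cfsg.Agent.S4204

open scoped Pointwise commutatorElement

/-- shifted lower central series, with `⊤` in position zero -/
def shifted {G : Type*} [Group G] (H : Subgroup G) : ℕ → Subgroup G
  | 0 => ⊤
  | n + 1 => H.lowerCentralSeries n

theorem shifted_normal {G : Type*} [Group G] (H : Subgroup G) [H.Normal] : ∀ n, (shifted H n).Normal
  | 0 => inferInstanceAs ((⊤ : Subgroup G).Normal)
  | 1 => inferInstanceAs H.Normal
  | n + 2 => haveI := shifted_normal H (n + 1); inferInstanceAs (⁅shifted H (n + 1), H⁆).Normal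

theorem shifted_step {G : Type*} [Group G] (H : Subgroup G) [H.Normal] : ∀ n, ⁅shifted H n, H⁆ ≤ shifted H (n + 1)
  | 0 => Subgroup.commutator_le_right ⊤ H
  | _ + 1 => le_rfl

/-- If `H` and `K` are normal subgroups of a finite group with `H` nilpotent of class at most `c` and `K` nilpotent of class at most `d` (the terms with index `c`, respectively `d`, of their lower central series are trivial, indices starting at `0`), then `HK` is nilpotent of class at most `c + d`. -/
theorem result {G : Type*} [Group G] [Finite G] (H K : Subgroup G) [H.Normal] [K.Normal] (c d : ℕ) (hH : H.lowerCentralSeries c = ⊥) (hK : K.lowerCentralSeries d = ⊥) : (H ⊔ K).lowerCentralSeries (c + d) = ⊥ := by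
  suffices key : ∀ n, (H ⊔ K).lowerCentralSeries n ≤
      ⨆ i : Fin (n + 2), shifted H i ⊓ shifted K (n + 1 - i) by
    refine le_bot_iff.1 ((key _).trans (iSup_le fun i => ?_))
    rcases le_or_gt (c + 1) (i : ℕ) with hi | hi
    · refine inf_le_left.trans ?_
      obtain ⟨m, hm⟩ : ∃ m, (i : ℕ) = m + 1 := ⟨i - 1, by omega⟩
      rw [hm]
      exact (Subgroup.lowerCentralSeries_antitone H (by omega : c ≤ m)).trans hH.le
    · refine inf_le_right.trans ?_
      obtain ⟨m, hm⟩ : ∃ m, c + d + 1 - (i : ℕ) = m + 1 := ⟨c + d - i, by omega⟩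
      rw [hm]
      exact (Subgroup.lowerCentralSeries_antitone K (by omega : d ≤ m)).trans hK.le
  intro n
  induction n with
  | zero =>
    rw [Subgroup.lowerCentralSeries_zero]
    refine sup_le (le_iSup_of_le (⟨1, by omega⟩ : Fin 2) ?_) (le_iSup_of_le (⟨0, by omega⟩ : Fin 2) ?_)
    · exact le_inf le_rfl le_top
    · exact le_inf le_top le_rfl
  | succ n ih =>
    set M : Subgroup G := ⨆ i : Fin (n + 1 + 2), shifted H i ⊓ shifted K (n + 1 + 1 - i) with hM
    have hnormal : ∀ i : Fin (n + 1 + 2), (shifted H i ⊓ shifted K (n + 1 + 1 - i)).Normal := fun i =>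
      ⟨fun x hx g => ⟨(shifted_normal H (i : ℕ)).conj_mem x hx.1 g,
        (shifted_normal K (n + 1 + 1 - (i : ℕ))).conj_mem x hx.2 g⟩⟩
    haveI : M.Normal := by
      rw [hM]
      exact @Subgroup.iSup_normal G _ _ (fun i : Fin (n + 1 + 2) => shifted H i ⊓ shifted K (n + 1 + 1 - i)) hnormal
    rw [Subgroup.lowerCentralSeries_succ, Subgroup.commutator_le]
    intro x hx y hy
    have h0 : ∀ z ∈ ⨆ i : Fin (n + 2), shifted H i ⊓ shifted K (n + 1 - i), ∀ w ∈ H ⊔ K, ⁅z, w⁆ ∈ M := by
      have key : (⨆ i : Fin (n + 2), shifted H i ⊓ shifted K (n + 1 - i)).map (QuotientGroup.mk' M) ≤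
          Subgroup.centralizer ((H ⊔ K).map (QuotientGroup.mk' M) : Set (G ⧸ M)) := by
        rw [Subgroup.map_iSup, iSup_le_iff]
        intro i
        rw [Subgroup.le_centralizer_iff, Subgroup.map_sup, sup_le_iff]
        constructor
        · rw [Subgroup.le_centralizer_iff, ← Subgroup.commutator_eq_bot_iff_le_centralizer, ← Subgroup.map_commutator,
            Subgroup.map_eq_bot_iff, QuotientGroup.ker_mk']
          refine le_iSup_of_le (⟨(i : ℕ) + 1, by omega⟩ : Fin (n + 1 + 2)) (le_inf ?_ ?_)
          · exact (Subgroup.commutator_mono inf_le_left le_rfl).trans (shifted_step H i)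
          · show _ ≤ shifted K (n + 1 + 1 - ((i : ℕ) + 1))
            rw [show n + 1 + 1 - ((i : ℕ) + 1) = n + 1 - i by omega]
            haveI := shifted_normal K (n + 1 - i)
            exact (Subgroup.commutator_mono inf_le_right le_rfl).trans (Subgroup.commutator_le_left _ H)
        · rw [Subgroup.le_centralizer_iff, ← Subgroup.commutator_eq_bot_iff_le_centralizer, ← Subgroup.map_commutator,
            Subgroup.map_eq_bot_iff, QuotientGroup.ker_mk']
          refine le_iSup_of_le (⟨(i : ℕ), by omega⟩ : Fin (n + 1 + 2)) (le_inf ?_ ?_)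
          · haveI := shifted_normal H (i : ℕ)
            exact (Subgroup.commutator_mono inf_le_left le_rfl).trans (Subgroup.commutator_le_left _ K)
          · show _ ≤ shifted K (n + 1 + 1 - (i : ℕ))
            rw [show n + 1 + 1 - (i : ℕ) = (n + 1 - i) + 1 by omega]
            exact (Subgroup.commutator_mono inf_le_right le_rfl).trans (shifted_step K _)
      intro z hz w hw
      rw [← QuotientGroup.eq_one_iff]
      have := key ⟨z, hz, rfl⟩ (QuotientGroup.mk' M w) ⟨w, hw, rfl⟩
      have h2 : QuotientGroup.mk' M ⁅z, w⁆ = 1 := by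
        rw [map_commutatorElement, commutatorElement_eq_one_iff_commute]
        exact this.symm
      exact h2
    exact h0 x (ih hx) y hy

end Cfsg.Agent.S4204
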