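import Cfsg.Statements.S4205

set_option autoImplicit false
open Cfsg

namespace Cfsg.Agent.S4205

/-- In a finite group whose upper central series reaches the whole group at step `c` (nilpotent of class at most `c`), starting from any subgroup and taking normalizers `c` times reaches the whole group. -/
theorem result {G : Type*} [Group G] [Finite G] (c : ℕ) (hG : Subgroup.upperCentralSeries G c = ⊤) (H : Subgroup G) : (fun K : Subgroup G => Subgroup.normalizer (K : Set G))^[c] H = ⊤ := by
  suffices h : ∀ k, Subgroup.upperCentralSeries G k ≤ (fun K : Subgroup G => Subgroup.normalizer (K : Set G))^[k] H by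
    exact top_le_iff.mp (hG ▸ h c)
  intro k
  induction k with
  | zero => simp
  | succ k ih =>
    rw [Function.iterate_succ_apply']
    generalize (fun K : Subgroup G => Subgroup.normalizer (K : Set G))^[k] H = K at ih
    have key : ∀ x ∈ Subgroup.upperCentralSeries G (k + 1), ∀ h ∈ K, x * h * x⁻¹ ∈ K := by
      intro x hx h hh
      rw [Subgroup.mem_upperCentralSeries_succ_iff] at hx
      have := ih (hx h)
      have e : x * h * x⁻¹ = x * h * x⁻¹ * h⁻¹ * h := by group
      rw [e]
      exact mul_mem this hh
    intro x hx
    rw [Subgroup.mem_normalizer_iff]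
    intro h
    refine ⟨key x hx h, fun hh => ?_⟩
    have := key x⁻¹ (inv_mem hx) _ hh
    simpa [mul_assoc] using this

end Cfsg.Agent.S4205
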