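import Cfsg.Statements.S4206

set_option autoImplicit false
open Cfsg

namespace Cfsg.Agent.S4206

/-- Let `H 0 ≥ H 1 ≥ H 2 ≥ ⋯` be normal subgroups of a finite group and `L` a subgroup with `⁅H i, L⁆ ≤ H (i+1)` for all `i`. Then `⁅H i, γ⁆ ≤ H (i + j + 1)` where `γ` is the `j`-th term of the lower central series of `L` (indexed from `0`, so the term with index `j` is the `(j+1)`-fold commutator). -/
theorem result {G : Type*} [Group G] [Finite G] (H : ℕ → Subgroup G) (hN : ∀ i, (H i).Normal) (hdesc : ∀ i, H (i + 1) ≤ H i) (L : Subgroup G) (hL : ∀ i, ⁅H i, L⁆ ≤ H (i + 1)) (i j : ℕ) : ⁅H i, L.lowerCentralSeries j⁆ ≤ H (i + j + 1) := by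
  induction j generalizing i with
  | zero => simpa using hL i
  | succ j ih =>
    haveI := hN (i + (j + 1) + 1)
    let f := QuotientGroup.mk' (H (i + (j + 1) + 1))
    have hbot : ∀ {A B : Subgroup G}, ⁅A, B⁆ ≤ H (i + (j + 1) + 1) → (⁅A, B⁆).map f = ⊥ := by
      intro A B h
      rw [Subgroup.map_eq_bot_iff, QuotientGroup.ker_mk']
      exact h
    have e1 : ⁅⁅L.lowerCentralSeries j, L⁆, H i⁆ ≤ H (i + (j + 1) + 1) := by
      have h1 : ⁅⁅L, H i⁆, L.lowerCentralSeries j⁆ ≤ H (i + (j + 1) + 1) := by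
        refine (Subgroup.commutator_mono ((Subgroup.commutator_comm L (H i)).le.trans (hL i)) le_rfl).trans ?_
        simpa [Nat.add_assoc, Nat.add_comm, Nat.add_left_comm] using ih (i + 1)
      have h2 : ⁅⁅H i, L.lowerCentralSeries j⁆, L⁆ ≤ H (i + (j + 1) + 1) := by
        refine (Subgroup.commutator_mono (ih i) le_rfl).trans ?_
        simpa [Nat.add_assoc, Nat.add_comm, Nat.add_left_comm] using hL (i + j + 1)
      have h1' := hbot h1
      have h2' := hbot h2
      simp only [Subgroup.map_commutator] at h1' h2'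
      have := Subgroup.commutator_commutator_eq_bot_of_rotate (H₁ := (L.lowerCentralSeries j).map f) (H₂ := L.map f) (H₃ := (H i).map f) h1' h2'
      rw [← Subgroup.map_commutator, ← Subgroup.map_commutator, Subgroup.map_eq_bot_iff, QuotientGroup.ker_mk'] at this
      exact this
    rw [Subgroup.lowerCentralSeries_succ, Subgroup.commutator_comm]
    exact e1

end Cfsg.Agent.S4206
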