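import Cfsg.Statements.S4212
-- no extra imports

set_option autoImplicit false
open Cfsg

namespace Cfsg.Agent.S4212

open Finset

universe u

variable {G : Type*} [Group G]

/-- The number of `n`-th roots. -/
noncomputable def roots (G : Type*) [Group G] (n : ℕ) (c : G) : ℕ := Nat.card {x : G // x ^ n = c}

theorem roots_conj (n : ℕ) {c d : G} (h : IsConj c d) : roots G n c = roots G n d := by
  obtain ⟨g, rfl⟩ := isConj_iff.mp h
  exact Nat.card_congr ((MulAut.conj g).toEquiv.subtypeEquiv fun x => by
    show x ^ n = c ↔ (g * x * g⁻¹) ^ n = g * c * g⁻¹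
    rw [conj_pow]; simp)

theorem card_conj_class [Finite G] (c : G) :
    Nat.card {y : G // IsConj c y} = (Subgroup.centralizer ({c} : Set G)).index := by
  have h : MulAction.stabilizer (ConjAct G) c =
      (Subgroup.centralizer ({c} : Set G)).comap ConjAct.ofConjAct.toMonoidHom := by
    ext g
    show ConjAct.ofConjAct g * c * (ConjAct.ofConjAct g)⁻¹ = c ↔ ConjAct.ofConjAct g ∈ Subgroup.centralizer {c}
    rw [Subgroup.mem_centralizer_singleton_iff, mul_inv_eq_iff_eq_mul]
  have h2 := Subgroup.index_comap_of_surjective (Subgroup.centralizer ({c} : Set G))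
    (f := ConjAct.ofConjAct.toMonoidHom) ConjAct.ofConjAct.surjective
  have h3 : (MulAction.stabilizer (ConjAct G) c).index = (Subgroup.centralizer ({c} : Set G)).index :=
    (congrArg Subgroup.index h).trans h2
  rw [MulAction.index_stabilizer, ← Nat.card_coe_set_eq] at h3
  rw [← h3]
  exact Nat.card_congr (Equiv.subtypeEquivRight fun y => by
    rw [ConjAct.mem_orbit_conjAct]; exact isConj_comm)

theorem roots_centralizer (n : ℕ) (c : G) :
    roots G n c = roots (Subgroup.centralizer ({c} : Set G)) n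
      ⟨c, Subgroup.mem_centralizer_singleton_iff.mpr rfl⟩ :=
  Nat.card_congr
    { toFun := fun x => ⟨⟨x, Subgroup.mem_centralizer_singleton_iff.mpr (by
        have h := (Commute.pow_self x.1 n).eq
        rw [x.2] at h
        exact h.symm)⟩, Subtype.ext x.2⟩
      invFun := fun x => ⟨x.1.1, congrArg Subtype.val x.2⟩
      left_inv := fun _ => rfl
      right_inv := fun _ => rfl }

theorem sum_class [Finite G] [Fintype G] [DecidableEq G] (n : ℕ) (c : G) [DecidablePred (IsConj c)] :
    ∑ y ∈ univ.filter (IsConj c), roots G n y = Nat.card {y : G // IsConj c y} * roots G n c := by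
  rw [Finset.sum_congr rfl (fun y hy => (roots_conj n (Finset.mem_filter.mp hy).2).symm),
    Finset.sum_const, smul_eq_mul, Nat.card_eq_fintype_card, Fintype.card_subtype]

theorem dvd_sum [Fintype G] (n D : ℕ) (s : Finset G) (hs : ∀ a b, IsConj a b → a ∈ s → b ∈ s)
    (h : ∀ y ∈ s, D ∣ Nat.card {z : G // IsConj y z} * roots G n y) : D ∣ ∑ y ∈ s, roots G n y := by
  classical
  rw [Finset.sum_partition (IsConj.setoid G)]
  refine Finset.dvd_sum fun x hx => ?_
  obtain ⟨c, hc, rfl⟩ := Finset.mem_image.mp hx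
  have he : s.filter (fun y => (Quotient.mk (IsConj.setoid G) y) = Quotient.mk (IsConj.setoid G) c) =
      univ.filter (IsConj c) := by
    ext y
    simp only [Finset.mem_filter, Finset.mem_univ, true_and, Quotient.eq]
    exact ⟨fun h => IsConj.symm h.2, fun h => ⟨hs c y h hc, IsConj.symm h⟩⟩
  rw [he, sum_class]
  exact h c hc

theorem gcd_mul_index [Finite G] (c : G) (n : ℕ) :
    Nat.gcd (Nat.card {y : G // IsConj c y} * n) (Nat.card G) =
      Nat.card {y : G // IsConj c y} * Nat.gcd n (Nat.card (Subgroup.centralizer ({c} : Set G))) := by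
  rw [card_conj_class, ← Subgroup.card_mul_index (Subgroup.centralizer ({c} : Set G)),
    mul_comm (Nat.card _), Nat.gcd_mul_left]

theorem roots_cyclic [Finite G] {p e : ℕ} [hp : Fact p.Prime] {c : G} (hpc : p ∣ orderOf c) :
    p ^ e ∣ roots G (p ^ e) c := by
  classical
  have := Fintype.ofFinite G
  set n := p ^ e with hn
  set s := univ.filter (fun x : G => x ^ n = c)
  have hs : roots G n c = s.card := by rw [roots, Nat.card_eq_fintype_card, Fintype.card_subtype]
  have hord : ∀ x : G, x ^ n = c → orderOf x = n * orderOf c := by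
    intro x hx
    rcases Nat.eq_zero_or_pos e with rfl | he
    · rw [hn, pow_zero, pow_one] at hx; simp [hn, hx]
    have h1 := orderOf_pow (n := n) x
    rw [hx] at h1
    obtain ⟨j, hj, hje⟩ := (Nat.dvd_prime_pow hp.out).mp (Nat.gcd_dvd_right (orderOf x) n)
    have hmul : orderOf x = orderOf c * p ^ j := by
      rw [h1, hje, Nat.div_mul_cancel (hje ▸ Nat.gcd_dvd_left _ _)]
    rcases Nat.lt_or_ge j e with hlt | hge
    · exfalso
      have h2 : p ^ (j + 1) ∣ orderOf x := by
        rw [hmul, pow_succ']; exact Nat.mul_dvd_mul hpc dvd_rfl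
      have h3 : p ^ (j + 1) ∣ p ^ j := hje ▸ Nat.dvd_gcd h2 (pow_dvd_pow p hlt)
      have := (Nat.pow_dvd_pow_iff_le_right hp.out.one_lt).mp h3
      omega
    · rw [show n = p ^ j by rw [hn, show j = e by omega], hmul, mul_comm]
  rw [hs, Finset.card_eq_sum_card_image (fun x => Subgroup.zpowers x) s]
  refine Finset.dvd_sum fun K hK => ?_
  obtain ⟨x, hx, rfl⟩ := Finset.mem_image.mp hK
  have hxn : x ^ n = c := (Finset.mem_filter.mp hx).2
  let f : Subgroup.zpowers x →* Subgroup.zpowers x :=
    { toFun := fun y => y ^ n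
      map_one' := one_pow n
      map_mul' := fun a b => (show Commute a b from IsMulCommutative.is_comm.comm a b).mul_pow n }
  have hset : (s.filter fun y => Subgroup.zpowers y = Subgroup.zpowers x) =
      (univ.filter fun y : Subgroup.zpowers x => y ^ n = ⟨c, hxn ▸ pow_mem (Subgroup.mem_zpowers x) n⟩).map
        ⟨Subtype.val, Subtype.val_injective⟩ := by
    ext y
    simp only [Finset.mem_filter, Finset.mem_univ, true_and, Finset.mem_map, Function.Embedding.coeFn_mk, s]
    constructor
    · rintro ⟨hy, hz⟩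
      exact ⟨⟨y, hz ▸ Subgroup.mem_zpowers y⟩, Subtype.ext hy, rfl⟩
    · rintro ⟨⟨z, hz⟩, hzn, rfl⟩
      have hzn' : z ^ n = c := congrArg Subtype.val hzn
      refine ⟨hzn', Subgroup.eq_of_le_of_card_ge (Subgroup.zpowers_le.mpr hz) ?_⟩
      rw [Nat.card_zpowers, Nat.card_zpowers, hord x hxn, hord z hzn']
  rw [hset, Finset.card_map]
  have hc' : c ∈ Subgroup.zpowers x := hxn ▸ pow_mem (Subgroup.mem_zpowers x) n
  have hfib := MonoidHom.card_fiber_eq_of_mem_range f
    (x := (⟨c, hc'⟩ : Subgroup.zpowers x)) (y := 1)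
    ⟨⟨x, Subgroup.mem_zpowers x⟩, Subtype.ext hxn⟩ ⟨1, map_one f⟩
  simp only [f, MonoidHom.coe_mk, OneHom.coe_mk] at hfib
  rw [hfib]
  have : (univ.filter fun y : Subgroup.zpowers x => y ^ n = 1).card = n := by
    have h := IsCyclic.card_pow_eq_one_le (α := Subgroup.zpowers x) (pow_pos hp.out.pos e : 0 < n)
    refine le_antisymm h ?_
    let g : Fin n → Subgroup.zpowers x := fun i =>
      ⟨x ^ (orderOf c * i.val), pow_mem (Subgroup.mem_zpowers x) _⟩
    have hg : Function.Injective g := fun i j hij => by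
      have h' := pow_injOn_Iio_orderOf (x := x)
        (show orderOf c * i.val ∈ Set.Iio (orderOf x) by
          rw [Set.mem_Iio, hord x hxn, mul_comm n]; exact Nat.mul_lt_mul_of_pos_left i.2 (orderOf_pos c))
        (show orderOf c * j.val ∈ Set.Iio (orderOf x) by
          rw [Set.mem_Iio, hord x hxn, mul_comm n]; exact Nat.mul_lt_mul_of_pos_left j.2 (orderOf_pos c))
        (congrArg Subtype.val hij)
      exact Fin.ext (Nat.eq_of_mul_eq_mul_left (orderOf_pos c) h')
    refine le_trans ?_ (Finset.card_le_card (s := univ.image g) ?_)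
    · rw [Finset.card_image_of_injective _ hg]; simp
    · intro y hy
      obtain ⟨i, -, rfl⟩ := Finset.mem_image.mp hy
      refine Finset.mem_filter.mpr ⟨Finset.mem_univ _, Subtype.ext ?_⟩
      show (x ^ (orderOf c * i.val)) ^ n = 1
      rw [← pow_mul, mul_right_comm, mul_comm (orderOf c), ← hord x hxn, pow_mul, pow_orderOf_eq_one, one_pow]
  exact dvd_of_eq this.symm

theorem main : ∀ (g : ℕ) (G : Type u) [Group G] [Finite G], Nat.card G = g →
    ∀ (n : ℕ) (c : G), c ∈ Subgroup.center G → Nat.gcd n (Nat.card G) ∣ roots G n c := by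
  intro g
  induction g using Nat.strong_induction_on with
  | _ g ih =>
  intro G _ _ hg n
  classical
  have := Fintype.ofFinite G
  induction n using Nat.strong_induction_on with
  | _ n ihn =>
  have hnc : ∀ (m : ℕ) (d : G), d ∉ Subgroup.center G →
      Nat.gcd m (Nat.card G) ∣ Nat.card {z : G // IsConj d z} * roots G m d := by
    intro m d hd
    refine (Nat.gcd_dvd_gcd_mul_left_left _ _ (Nat.card {z : G // IsConj d z})).trans ?_
    rw [gcd_mul_index, roots_centralizer]
    refine Nat.mul_dvd_mul_left _ ?_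
    have hne : Subgroup.centralizer ({d} : Set G) ≠ ⊤ := fun h => hd (Subgroup.mem_center_iff.mpr fun x =>
      Subgroup.mem_centralizer_singleton_iff.mp (h ▸ Subgroup.mem_top x))
    refine ih _ ?_ (Subgroup.centralizer ({d} : Set G)) rfl m _ ?_
    · rw [← hg]
      exact lt_of_le_of_ne (Subgroup.card_le_card_group _) fun e => hne (Subgroup.eq_top_of_card_eq _ e)
    · exact Subgroup.mem_center_iff.mpr fun x => Subtype.ext (Subgroup.mem_centralizer_singleton_iff.mp x.2)
  have hall : ∀ (m : ℕ) (d : G), m < n →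
      Nat.gcd m (Nat.card G) ∣ Nat.card {z : G // IsConj d z} * roots G m d := by
    intro m d hm
    by_cases hd : d ∈ Subgroup.center G
    · exact Dvd.dvd.mul_left (ihn m hm d hd) _
    · exact hnc m d hd
  intro c hc
  rcases Nat.eq_zero_or_pos n with rfl | hn0
  · rw [Nat.gcd_zero_left, roots]
    by_cases h1 : c = 1
    · subst h1; simp
    · have : IsEmpty {x : G // x ^ 0 = c} := ⟨fun x => h1 (by simpa using x.2.symm)⟩
      exact (Nat.card_of_isEmpty (α := {x : G // x ^ 0 = c})).symm ▸ dvd_zero _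
  rcases eq_or_ne n 1 with rfl | hn1
  · simp
  have hsplit : ∀ n1 n2 : ℕ, n1 * n2 = n → n1 < n → Nat.gcd n1 (Nat.card G) ∣ roots G n c := by
    intro n1 n2 h12 hlt
    have hsum : roots G n c = ∑ y ∈ univ.filter (fun y : G => y ^ n2 = c), roots G n1 y := by
      simp only [roots, Nat.card_eq_fintype_card, Fintype.card_subtype]
      rw [Finset.card_eq_sum_card_fiberwise (f := fun x : G => x ^ n1)
        (t := univ.filter (fun y : G => y ^ n2 = c))]
      · refine Finset.sum_congr rfl fun y hy => congrArg Finset.card ?_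
        ext x
        simp only [Finset.mem_filter, Finset.mem_univ, true_and] at hy ⊢
        exact ⟨fun h => h.2, fun h => ⟨by rw [← h12, pow_mul, h, hy], h⟩⟩
      · intro x hx
        simp only [Finset.coe_filter, Finset.mem_univ, true_and, Set.mem_setOf_eq] at hx ⊢
        rw [← pow_mul, h12, hx]
    rw [hsum]
    refine dvd_sum n1 _ _ ?_ fun y _ => hall n1 y hlt
    intro a b hab ha
    simp only [Finset.mem_filter, Finset.mem_univ, true_and] at ha ⊢
    obtain ⟨u, rfl⟩ := isConj_iff.mp hab
    rw [conj_pow, ha, Subgroup.mem_center_iff.mp hc u, mul_inv_cancel_right]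
  by_cases hpp : IsPrimePow n
  · obtain ⟨p, e, hp, he, rfl⟩ := (isPrimePow_nat_iff n).mp hpp
    have : Fact p.Prime := ⟨hp⟩
    by_cases hpc : p ∣ orderOf c
    · exact (Nat.gcd_dvd_left _ _).trans (roots_cyclic hpc)
    let B : Subgroup G :=
      { carrier := {b | b ∈ Subgroup.center G ∧ ¬ p ∣ orderOf b}
        one_mem' := ⟨one_mem _, by simp [hp.ne_one]⟩
        mul_mem' := fun {a b} ha hb => ⟨mul_mem ha.1 hb.1, fun h => by
          have hcomm : Commute a b := (Subgroup.mem_center_iff.mp ha.1 b).symm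
          rcases hp.dvd_mul.mp (h.trans (hcomm.orderOf_mul_dvd_mul_orderOf)) with h | h
          · exact ha.2 h
          · exact hb.2 h⟩
        inv_mem' := fun {a} ha => ⟨inv_mem ha.1, by rw [orderOf_inv]; exact ha.2⟩ }
    have hBcop : Nat.Coprime (p ^ e) (Nat.card B) := by
      refine Nat.Coprime.pow_left e (hp.coprime_iff_not_dvd.mpr fun hd => ?_)
      obtain ⟨b, hb⟩ := exists_prime_orderOf_dvd_card' p hd
      exact b.2.2 (by rw [Subgroup.orderOf_coe, hb])
    have hconst : ∀ b ∈ B, roots G (p ^ e) b = roots G (p ^ e) c := by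
      suffices ∀ b ∈ B, roots G (p ^ e) b = roots G (p ^ e) 1 by
        intro b hb; rw [this b hb, this c ⟨hc, hpc⟩]
      intro b hb
      obtain ⟨m, hm⟩ := exists_pow_eq_self_of_coprime (x := b)
        (Nat.Coprime.pow_left e (hp.coprime_iff_not_dvd.mpr hb.2))
      set d := b ^ m
      have hd : d ∈ Subgroup.center G := pow_mem hb.1 m
      have hdb : d ^ p ^ e = b := by rw [← pow_mul, mul_comm, pow_mul]; exact hm
      refine Nat.card_congr ((Equiv.mulRight d⁻¹).subtypeEquiv fun x => ?_)
      show x ^ p ^ e = b ↔ (x * d⁻¹) ^ p ^ e = 1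
      rw [(show Commute x d⁻¹ from Subgroup.mem_center_iff.mp (inv_mem hd) x).mul_pow, inv_pow, hdb,
        mul_inv_eq_one]
    have htot : ∑ y : G, roots G (p ^ e) y = Nat.card G := by
      simp only [roots, Nat.card_eq_fintype_card, Fintype.card_subtype]
      exact (Finset.card_eq_sum_card_fiberwise (fun x _ => Finset.mem_univ _)).symm
    rw [← Finset.sum_filter_add_sum_filter_not univ (fun y => y ∈ B)] at htot
    have hrest : Nat.gcd (p ^ e) (Nat.card G) ∣ ∑ y ∈ univ.filter (fun y => y ∉ B), roots G (p ^ e) y := by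
      refine dvd_sum _ _ _ ?_ fun y hy => ?_
      · intro a b hab ha
        simp only [Finset.mem_filter, Finset.mem_univ, true_and] at ha ⊢
        intro hb
        refine ha ?_
        obtain ⟨u, hu⟩ := isConj_iff.mp hab.symm
        rw [← hu, Subgroup.mem_center_iff.mp hb.1 u, mul_inv_cancel_right]
        exact hb
      · by_cases hyc : y ∈ Subgroup.center G
        · refine Dvd.dvd.mul_left ((Nat.gcd_dvd_left _ _).trans (roots_cyclic ?_)) _
          by_contra hcon
          exact (Finset.mem_filter.mp hy).2 ⟨hyc, hcon⟩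
        · exact hnc _ y hyc
    have hB : Nat.gcd (p ^ e) (Nat.card G) ∣ ∑ y ∈ univ.filter (fun y => y ∈ B), roots G (p ^ e) y :=
      (Nat.dvd_add_left hrest).mp (htot ▸ Nat.gcd_dvd_right _ _)
    rw [Finset.sum_congr rfl (fun y hy => hconst y (Finset.mem_filter.mp hy).2), Finset.sum_const,
      smul_eq_mul, ← Fintype.card_subtype, ← Nat.card_eq_fintype_card] at hB
    exact (Nat.Coprime.coprime_dvd_left (Nat.gcd_dvd_left _ _) hBcop).dvd_of_dvd_mul_left hB
  · obtain ⟨a, b, ha, hb, hab, hmul⟩ : ∃ a b : ℕ, 2 ≤ a ∧ 2 ≤ b ∧ a.Coprime b ∧ a * b = n := by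
      have hq := Nat.minFac_prime hn1
      obtain ⟨e, m, hm, hem⟩ := Nat.exists_eq_pow_mul_and_not_dvd hn0.ne' n.minFac hq.ne_one
      have he : e ≠ 0 := fun h => by rw [h, pow_zero, one_mul] at hem; exact hm (hem ▸ n.minFac_dvd)
      refine ⟨n.minFac ^ e, m, hq.two_le.trans (Nat.le_self_pow he _), ?_, (hq.coprime_iff_not_dvd.mpr hm).pow_left e, hem.symm⟩
      rcases Nat.lt_or_ge m 2 with hlt | hge
      · interval_cases m
        · simp at hm
        · exact absurd ((isPrimePow_nat_iff n).mpr ⟨_, e, hq, Nat.pos_of_ne_zero he, by simpa using hem.symm⟩) hpp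
      · exact hge
    rw [← hmul, Nat.gcd_comm, Nat.Coprime.gcd_mul _ hab, Nat.gcd_comm _ a, Nat.gcd_comm _ b]
    exact Nat.Coprime.mul_dvd_of_dvd_of_dvd (Nat.Coprime.coprime_dvd_left (Nat.gcd_dvd_left _ _)
      (Nat.Coprime.coprime_dvd_right (Nat.gcd_dvd_left _ _) hab))
      (hmul ▸ hsplit a b hmul (hmul ▸ lt_mul_of_one_lt_right (by omega) hb))
      (hmul ▸ hsplit b a (by rw [mul_comm, hmul]) (hmul ▸ lt_mul_of_one_lt_left (by omega) ha))

/-- Let `G` be a finite group of order `g`, `c` an element whose conjugacy class has `h` elements, and `n` a natural number. Then the number of elements `x` of `G` with `x^n` conjugate to `c` is a multiple of `gcd(hn, g)`. -/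
theorem result {G : Type*} [Group G] [Finite G] (c : G) (n : ℕ) : Nat.gcd (Nat.card {y : G // IsConj c y} * n) (Nat.card G) ∣ Nat.card {x : G // IsConj c (x ^ n)} := by
  rw [gcd_mul_index]
  classical
  have := Fintype.ofFinite G
  have hsum : Nat.card {x : G // IsConj c (x ^ n)} = ∑ y ∈ univ.filter (IsConj c), roots G n y := by
    simp only [roots, Nat.card_eq_fintype_card, Fintype.card_subtype]
    rw [Finset.card_eq_sum_card_fiberwise (f := fun x : G => x ^ n) (t := univ.filter (IsConj c))]
    · refine Finset.sum_congr rfl fun y hy => congrArg Finset.card ?_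
      ext x
      simp only [Finset.mem_filter, Finset.mem_univ, true_and] at hy ⊢
      exact ⟨fun h => h.2, fun h => ⟨h ▸ hy, h⟩⟩
    · intro x hx
      simpa using hx
  rw [hsum, sum_class, roots_centralizer]
  refine Nat.mul_dvd_mul_left _ (main _ _ rfl n _ ?_)
  exact Subgroup.mem_center_iff.mpr fun x => Subtype.ext (Subgroup.mem_centralizer_singleton_iff.mp x.2)

end Cfsg.Agent.S4212
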