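import Cfsg.Statements.S4213
import Cfsg.Agent.Lib.HallSolvable

set_option autoImplicit false
open Cfsg

namespace Cfsg.Agent.S4213

open Subgroup Cfsg.Agent.HallCore Cfsg.Agent.HallSolvable

universe u

theorem card_preimage_mk {G : Type*} [Group G] (N : Subgroup G) [N.Normal] (t : Set (G ⧸ N)) :
    Nat.card ↥(QuotientGroup.mk ⁻¹' t : Set G) = Nat.card N * Nat.card t := by
  rw [Nat.card_congr (QuotientGroup.preimageMkEquivSubgroupProdSet N t), Nat.card_prod]

theorem aux : ∀ (k : ℕ) (G : Type u) [Group G] [Finite G] [Group.IsSolvable G],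
    Nat.card G = k → ∀ n : ℕ, n ∣ k →
    n ≤ Nat.card ↥{x : G | x ^ n = 1} ∧ (Nat.card ↥{x : G | x ^ n = 1} = n →
      ∃ H : Subgroup G, H.Normal ∧ (H : Set G) = {x : G | x ^ n = 1}) := by
  intro k
  induction k using Nat.strong_induction_on with
  | _ k ih =>
  intro G _ _ _ hcard n hn
  set S := {x : G | x ^ n = 1} with hS
  rcases subsingleton_or_nontrivial G with hG | hG
  · have hk1 : k = 1 := by rw [← hcard]; exact Nat.card_unique
    have hn1 : n = 1 := Nat.dvd_one.mp (hk1 ▸ hn)
    refine ⟨?_, fun _ => ⟨⊤, inferInstance, ?_⟩⟩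
    · have : Nonempty ↥S := ⟨⟨1, one_pow n⟩⟩
      rw [hn1]
      exact Nat.one_le_iff_ne_zero.mpr Nat.card_pos.ne'
    · refine Set.ext fun x => ⟨fun _ => Subsingleton.elim _ _, fun _ => Set.mem_univ _⟩
  obtain ⟨N, hN⟩ := exists_minNormal (G := G)
  have := hN.normal
  obtain ⟨p, a, hp, ha, hNc, hel⟩ := hN.card_eq_pow
  set q := QuotientGroup.mk' N
  have hQlt : Nat.card (G ⧸ N) < k := hcard ▸ card_quotient_lt hN.ne_bot
  have hcardmul : k = Nat.card (G ⧸ N) * p ^ a := by
    rw [← hcard, ← hNc]; exact Subgroup.card_eq_card_quotient_mul_card_subgroup N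
  by_cases hpn : p ∣ n
  · -- `p` divides `n`
    have hn0 : n ≠ 0 := fun h => by
      rw [h, zero_dvd_iff] at hn; subst hn; exact Nat.card_pos.ne' hcard
    obtain ⟨j, n', hn', hnj⟩ := Nat.exists_eq_pow_mul_and_not_dvd hn0 p hp.ne_one
    have hj : 0 < j := by
      rcases Nat.eq_zero_or_pos j with h0 | h0
      · rw [h0, pow_zero, one_mul] at hnj; exact absurd (hnj ▸ hpn) hn'
      · exact h0
    set c := min j a with hc
    set m := p ^ (j - c) * n' with hm
    have hnm : n = p ^ c * m := by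
      rw [hm, ← mul_assoc, ← pow_add, Nat.add_sub_cancel' (min_le_left j a), hnj]
    have hmdvd : m ∣ Nat.card (G ⧸ N) := by
      rcases le_total a j with h | h
      · rw [min_eq_right h] at hc
        refine Nat.dvd_of_mul_dvd_mul_left (pow_pos hp.pos a) ?_
        rw [show p ^ a * m = n by rw [← hc]; exact hnm.symm, mul_comm, ← hcardmul]
        exact hn
      · rw [min_eq_left h] at hc
        rw [hm, hc, Nat.sub_self, pow_zero, one_mul]
        refine (Nat.Coprime.pow_right a ((hp.coprime_iff_not_dvd.mpr hn').symm)).dvd_of_dvd_mul_right ?_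
        rw [← hcardmul]
        exact Dvd.dvd.trans ⟨p ^ j, by rw [hnj, mul_comm]⟩ hn
    obtain ⟨hle, heq⟩ := ih _ hQlt (G ⧸ N) rfl m hmdvd
    set T := {y : G ⧸ N | y ^ m = 1}
    have hsub : (QuotientGroup.mk ⁻¹' T : Set G) ⊆ S := by
      intro x hx
      have h1 : x ^ m ∈ N := (QuotientGroup.eq_one_iff _).mp (by
        rw [QuotientGroup.mk_pow]; exact hx)
      have h2 : (x ^ m) ^ p = 1 := hel.2 _ h1
      show x ^ n = 1
      obtain ⟨d, hd⟩ : p ∣ p ^ c := dvd_pow_self p (by omega)
      rw [hnm, hd, show p * d * m = m * p * d by ring, pow_mul, pow_mul, h2, one_pow]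
    have h1 := Nat.card_mono (Set.toFinite S) hsub
    rw [card_preimage_mk, hNc] at h1
    have hca : p ^ c ≤ p ^ a := Nat.pow_le_pow_right hp.pos (min_le_right j a)
    have h2 : n ≤ p ^ a * Nat.card T := hnm ▸ Nat.mul_le_mul hca hle
    refine ⟨h2.trans h1, fun hSn => ?_⟩
    have h3 : p ^ a * Nat.card T = n := le_antisymm (hSn ▸ h1) h2
    have hT : Nat.card T = m := by
      refine le_antisymm ?_ hle
      have : p ^ c * Nat.card T ≤ p ^ c * m := hnm ▸ h3 ▸ Nat.mul_le_mul_right _ hca
      exact Nat.le_of_mul_le_mul_left this (pow_pos hp.pos c)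
    obtain ⟨H, hHn, hH⟩ := heq hT
    refine ⟨H.comap q, hHn.comap q, ?_⟩
    refine Set.eq_of_subset_of_ncard_le ?_ ?_ (Set.toFinite S)
    · intro x hx
      exact hsub (hH ▸ hx : QuotientGroup.mk x ∈ T)
    · rw [← Nat.card_coe_set_eq, ← Nat.card_coe_set_eq, hSn, Subgroup.coe_comap, hH]
      show n ≤ Nat.card ↥(QuotientGroup.mk ⁻¹' T : Set G)
      rw [card_preimage_mk, hNc, h3]
  · -- `p` does not divide `n`
    have hn0 : n ≠ 0 := fun h => hpn (h ▸ dvd_zero p)
    have hcop : p.Coprime n := hp.coprime_iff_not_dvd.mpr hpn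
    have hdvd : n ∣ Nat.card (G ⧸ N) :=
      (Nat.Coprime.pow_right a hcop.symm).dvd_of_dvd_mul_right (hcardmul ▸ hn)
    obtain ⟨hle, heq⟩ := ih _ hQlt (G ⧸ N) rfl n hdvd
    set T := {y : G ⧸ N | y ^ n = 1}
    let f : ↥S → ↥T := fun x => ⟨q x.1, by show q x.1 ^ n = 1; rw [← map_pow, x.2, map_one]⟩
    have hf : Function.Surjective f := by
      rintro ⟨y, hy⟩
      obtain ⟨x, rfl⟩ := QuotientGroup.mk'_surjective N y
      have h1 : x ^ n ∈ N := (QuotientGroup.eq_one_iff _).mp (by
        show q (x ^ n) = 1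
        rw [map_pow]; exact hy)
      obtain ⟨t, ht⟩ : p ∣ p ^ n.totient :=
        dvd_pow_self p (Nat.totient_pos.mpr (Nat.pos_of_ne_zero hn0)).ne'
      refine ⟨⟨x ^ p ^ n.totient, ?_⟩, Subtype.ext ?_⟩
      · show (x ^ p ^ n.totient) ^ n = 1
        rw [← pow_mul, ht, show p * t * n = n * p * t by ring, pow_mul, pow_mul, hel.2 _ h1, one_pow]
      · show q (x ^ p ^ n.totient) = q x
        rw [map_pow]
        conv_rhs => rw [← pow_one (q x)]
        rw [pow_eq_pow_iff_modEq]
        exact (Nat.ModEq.pow_totient hcop).of_dvd (orderOf_dvd_of_pow_eq_one hy)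
    have h1 := Nat.card_le_card_of_surjective f hf
    refine ⟨hle.trans h1, fun hSn => ?_⟩
    have hT : Nat.card T = n := le_antisymm (hSn ▸ h1) hle
    obtain ⟨H, hHn, hH⟩ := heq hT
    set W := H.comap q
    have hNW : N ≤ W := QuotientGroup.le_comap_mk' N H
    have hWc : Nat.card W = p ^ a * n := by
      rw [← hNc, ← hT]
      show Nat.card ↥(W : Set G) = _
      rw [Subgroup.coe_comap, hH]
      exact card_preimage_mk N T
    have hidx : (N.subgroupOf W).index = n := by
      have := Subgroup.card_mul_index (N.subgroupOf W)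
      rw [Nat.card_congr (Subgroup.subgroupOfEquivOfLe hNW).toEquiv, hNc, hWc] at this
      exact Nat.eq_of_mul_eq_mul_left (pow_pos hp.pos a) this
    obtain ⟨K, hK⟩ := Subgroup.exists_right_complement'_of_coprime (N := N.subgroupOf W) (by
      rw [hidx, Nat.card_congr (Subgroup.subgroupOfEquivOfLe hNW).toEquiv, hNc]
      exact Nat.Coprime.pow_left a hcop)
    have hKc : Nat.card K = n := by rw [← hK.symm.index_eq_card, hidx]
    have hKeq : ((K.map W.subtype : Subgroup G) : Set G) = S := by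
      refine Set.eq_of_subset_of_ncard_le ?_ ?_ (Set.toFinite S)
      · rintro _ ⟨w, hw, rfl⟩
        have := Subgroup.orderOf_dvd_natCard K hw
        rw [hKc, ← Subgroup.orderOf_coe] at this
        exact orderOf_dvd_iff_pow_eq_one.mp this
      · rw [← Nat.card_coe_set_eq, ← Nat.card_coe_set_eq, hSn]
        show n ≤ Nat.card ↥(K.map W.subtype)
        rw [Subgroup.card_map_of_injective W.subtype_injective, hKc]
    refine ⟨K.map W.subtype, ⟨fun x hx g => ?_⟩, hKeq⟩
    rw [← SetLike.mem_coe, hKeq] at hx ⊢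
    show (g * x * g⁻¹) ^ n = 1
    rw [conj_pow, hx, mul_one, mul_inv_cancel]

/-- If `G` is a finite solvable group and `n` divides the order of `G` and exactly `n` elements `x` of `G` satisfy `x^n = 1`, then these elements form a normal subgroup. -/
theorem result {G : Type*} [Group G] [Finite G] [Group.IsSolvable G] (n : ℕ) (hn : n ∣ Nat.card G) (hcount : Nat.card {x : G // x ^ n = 1} = n) : ∃ H : Subgroup G, H.Normal ∧ (H : Set G) = {x : G | x ^ n = 1} := by
  exact (aux _ G rfl n hn).2 hcount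

end Cfsg.Agent.S4213
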