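import Cfsg.Statements.S4214
import Cfsg.Agent.Lib.CoprimeSZ
import Cfsg.Agent.Lib.CoprimeAction
import Cfsg.Agent.Lib.HallTheorem
import Cfsg.Agent.Lib.HallSolvable

set_option autoImplicit false
open Cfsg

namespace Cfsg.Agent.S4214

open scoped Pointwise
open HallTheorem

universe u

/-- The count of fixed points: a product of prime powers congruent to one. -/
theorem exists_factors {G : Type u} [Group G] [Finite G] [Group.IsSolvable G] {q : ℕ} (hq : q.Prime)
    (N : Subgroup G) [N.Normal] (hqN : IsPGroup q N) :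
    ∀ (H : Subgroup G), ¬ q ∣ Nat.card H → ∃ l : List ℕ,
      (N ⊓ Subgroup.centralizer (H : Set G)).relIndex N = l.prod ∧
      ∀ f ∈ l, (∃ e, f = q ^ e) ∧ ∃ s : ℕ, s.Prime ∧ s ∣ Nat.card H ∧ f ≡ 1 [MOD s] := by
  classical
  have : Fact q.Prime := ⟨hq⟩
  suffices ∀ (c : ℕ) (H : Subgroup G), Nat.card H = c → ¬ q ∣ Nat.card H → ∃ l : List ℕ,
      (N ⊓ Subgroup.centralizer (H : Set G)).relIndex N = l.prod ∧
      ∀ f ∈ l, (∃ e, f = q ^ e) ∧ ∃ s : ℕ, s.Prime ∧ s ∣ Nat.card H ∧ f ≡ 1 [MOD s] from
    fun H => this _ H rfl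
  intro c
  induction c using Nat.strong_induction_on with
  | _ c ih =>
    intro H hc hqH
    by_cases hH : H = ⊥
    · refine ⟨[], ?_, by simp⟩
      subst hH
      rw [List.prod_nil, Subgroup.relIndex_eq_one]
      intro x hx
      exact ⟨hx, Subgroup.mem_centralizer_iff.mpr (by simp)⟩
    have : Nontrivial H := (Subgroup.nontrivial_iff_ne_bot H).mpr hH
    obtain ⟨M₀, hM₀, hle⟩ := (eq_top_or_exists_le_coatom (commutator H)).resolve_left
      (Group.IsSolvable.commutator_lt_top_of_nontrivial (G := H)).ne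
    have hM₀n : M₀.Normal := Subgroup.Normal.of_commutator_le (h := hle)
    set M := M₀.map H.subtype with hM
    have hMH : M ≤ H := Subgroup.map_subtype_le _
    have hMlt : Nat.card M < c := by
      rw [hM, Subgroup.card_map_of_injective H.subtype_injective, ← hc]
      exact lt_of_le_of_ne M₀.card_le_card_group fun h => hM₀.1 (Subgroup.eq_top_of_card_eq _ h)
    have hMdvd : Nat.card M ∣ Nat.card H := Subgroup.card_dvd_of_le hMH
    obtain ⟨l, hl, hlf⟩ := ih _ hMlt M rfl (fun h => hqH (h.trans hMdvd))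
    -- the prime index
    have hsimple : IsSimpleGroup (H ⧸ M₀) := by
      have : Nontrivial (H ⧸ M₀) := by
        rw [← not_subsingleton_iff_nontrivial, QuotientGroup.subsingleton_iff]
        exact hM₀.1
      refine ⟨fun K hK => ?_⟩
      rcases hM₀.le_iff.mp (QuotientGroup.le_comap_mk' M₀ K) with h | h
      · refine Or.inr ?_
        rw [← Subgroup.map_comap_eq_self_of_surjective (QuotientGroup.mk'_surjective M₀) K, h,
          Subgroup.map_top_of_surjective _ (QuotientGroup.mk'_surjective M₀)]
      · refine Or.inl ?_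
        rw [← Subgroup.map_comap_eq_self_of_surjective (QuotientGroup.mk'_surjective M₀) K, h,
          QuotientGroup.map_mk'_self]
    have hcomm : IsMulCommutative (H ⧸ M₀) := ⟨⟨fun a b => by
      induction a using QuotientGroup.induction_on with
      | _ a =>
        induction b using QuotientGroup.induction_on with
        | _ b =>
          rw [← QuotientGroup.mk_mul, ← QuotientGroup.mk_mul, QuotientGroup.eq]
          have := hle (Subgroup.commutator_mem_commutator (Subgroup.mem_top b⁻¹) (Subgroup.mem_top a⁻¹))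
          rw [commutatorElement_def] at this
          simpa [mul_assoc] using this⟩⟩
    have hs : M₀.index.Prime := by
      rw [Subgroup.index_eq_card]
      letI : CommGroup (H ⧸ M₀) := { (inferInstance : Group (H ⧸ M₀)) with mul_comm := hcomm.is_comm.comm }
      exact IsSimpleGroup.prime_card
    set s := M₀.index with hs'
    have hsH : s ∣ Nat.card H := Subgroup.index_dvd_card _
    have : Fact s.Prime := ⟨hs⟩
    obtain ⟨x, hxM⟩ : ∃ x : H, x ∉ M₀ := by
      by_contra! h
      exact hM₀.1 ((Subgroup.eq_top_iff' _).mpr h)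
    set C := N ⊓ Subgroup.centralizer (M : Set G) with hC
    set C' := N ⊓ Subgroup.centralizer (H : Set G) with hC'
    have hC'C : C' ≤ C := inf_le_inf_left _ (Subgroup.centralizer_le hMH)
    have hCinv : ∀ h : H, ∀ y ∈ C, (h : G) * y * (h : G)⁻¹ ∈ C := by
      intro h y hy
      refine ⟨(inferInstance : N.Normal).conj_mem y hy.1 _, Subgroup.mem_centralizer_iff.mpr ?_⟩
      rintro _ ⟨m, hm, rfl⟩
      have h1 := Subgroup.mem_centralizer_iff.mp hy.2 ((h⁻¹ * m * h : H) : G)
        ⟨_, hM₀n.conj_mem' m hm h, rfl⟩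
      simp only [Subgroup.coe_mul, InvMemClass.coe_inv] at h1
      simp only [Subgroup.coe_subtype]
      calc (m : G) * ((h : G) * y * (h : G)⁻¹) = h * (((h : G)⁻¹ * m * h) * y) * (h : G)⁻¹ := by group
        _ = h * (y * ((h : G)⁻¹ * m * h)) * (h : G)⁻¹ := by rw [h1]
        _ = h * y * (h : G)⁻¹ * m := by group
    let act : H →* Equiv.Perm C :=
      { toFun := fun h =>
          { toFun := fun y => ⟨_, hCinv h y y.2⟩
            invFun := fun y => ⟨_, hCinv h⁻¹ y y.2⟩
            left_inv := fun y => Subtype.ext (by simp [mul_assoc])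
            right_inv := fun y => Subtype.ext (by simp [mul_assoc]) }
        map_one' := Equiv.ext fun y => Subtype.ext (by simp)
        map_mul' := fun a b => Equiv.ext fun y => Subtype.ext (by simp [mul_assoc]) }
    have hMtriv : ∀ m ∈ M₀, act m = 1 := by
      intro m hm
      refine Equiv.ext fun y => Subtype.ext ?_
      have := Subgroup.mem_centralizer_iff.mp y.2.2 (m : G) ⟨m, hm, rfl⟩
      change (m : G) * y * (m : G)⁻¹ = y
      rw [this]; group
    have hgen : Subgroup.zpowers x ⊔ M₀ = ⊤ :=
      hM₀.2 _ (lt_of_le_of_ne le_sup_right fun h => hxM (by rw [h]; exact Subgroup.mem_sup_left (Subgroup.mem_zpowers x)))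
    have hxs : act x ^ (s ^ 1) = 1 := by
      rw [pow_one, ← map_pow]
      exact hMtriv _ (by rw [hs']; exact Subgroup.pow_index_mem M₀ x)
    have : Fintype C := Fintype.ofFinite _
    let fx : Function.End C := fun y => act x y
    have hfx : fx ^ (s ^ 1) = 1 := by
      have h2 : ∀ k : ℕ, fx ^ k = fun y => (act x ^ k) y := by
        intro k
        induction k with
        | zero => rfl
        | succ k ihk =>
          funext y
          rw [pow_succ', pow_succ', Equiv.Perm.mul_apply, ← congrFun ihk y]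
          rfl
      rw [h2, hxs]; rfl
    have hmod := Equiv.Perm.card_fixedPoints_modEq (p := s) (n := 1) hfx
    have hfix : Nat.card (Function.fixedPoints (act x)) = Nat.card C' := by
      refine Nat.card_congr
        { toFun := fun y => ⟨y.1, y.1.2.1, ?_⟩
          invFun := fun y => ⟨⟨y, hC'C y.2⟩, ?_⟩
          left_inv := fun y => rfl
          right_inv := fun y => rfl }
      · have hker : ∀ h : H, act h y.1 = y.1 := by
          intro h
          have hh : h ∈ Subgroup.zpowers x ⊔ M₀ := hgen ▸ Subgroup.mem_top h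
          have hsub : Subgroup.zpowers x ⊔ M₀ ≤
              (MulAction.stabilizer (Equiv.Perm C) (y.1 : C)).comap act := by
            refine sup_le (Subgroup.zpowers_le.mpr ?_) fun m hm => ?_
            · exact y.2
            · rw [Subgroup.mem_comap, hMtriv m hm]; exact one_mem _
          exact hsub hh
        refine Subgroup.mem_centralizer_iff.mpr fun h hh => ?_
        have := congrArg Subtype.val (hker ⟨h, hh⟩)
        change h * (y.1 : G) * h⁻¹ = y.1 at this
        calc h * (y.1 : G) = h * (y.1 : G) * h⁻¹ * h := by group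
          _ = (y.1 : G) * h := by rw [this]
      · refine Subtype.ext ?_
        change (x : G) * (y : G) * (x : G)⁻¹ = (y : G)
        rw [Subgroup.mem_centralizer_iff.mp y.2.2 (x : G) x.2]; group
    rw [← Nat.card_eq_fintype_card, ← Nat.card_eq_fintype_card] at hmod
    change Nat.card C ≡ Nat.card (Function.fixedPoints (act x)) [MOD s] at hmod
    rw [hfix] at hmod
    have hpowC : ∀ K : Subgroup G, K ≤ N → ∃ e, Nat.card K = q ^ e := fun K hK =>
      IsPGroup.iff_card.mp (hqN.to_le hK)
    have hmul : C'.relIndex C * Nat.card C' = Nat.card C := by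
      rw [← Subgroup.relIndex_bot_left, ← Subgroup.relIndex_bot_left, mul_comm,
        Subgroup.relIndex_mul_relIndex ⊥ C' C bot_le hC'C]
    have hsq : s.Coprime q := (Nat.coprime_primes hs hq).mpr fun h => hqH (h ▸ hsH)
    have hr1 : C'.relIndex C ≡ 1 [MOD s] := by
      obtain ⟨e, he⟩ := hpowC C' inf_le_left
      refine Nat.ModEq.cancel_right_of_coprime (c := Nat.card C') ?_ ?_
      · rw [he]; exact Nat.Coprime.pow_right _ hsq
      · rw [hmul, one_mul]
        exact hmod
    refine ⟨C'.relIndex C :: l, ?_, ?_⟩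
    · rw [List.prod_cons, ← hl, Subgroup.relIndex_mul_relIndex C' C N hC'C inf_le_left]
    · intro f hf
      rcases List.mem_cons.mp hf with rfl | hf
      · obtain ⟨e, he⟩ := hpowC C inf_le_left
        have hd : C'.relIndex C ∣ q ^ e := he ▸ Dvd.intro _ hmul
        obtain ⟨e', _, he'⟩ := (Nat.dvd_prime_pow hq).mp hd
        exact ⟨⟨e', he'⟩, s, hs, hsH, hr1⟩
      · obtain ⟨h1, t, h2, h3, h4⟩ := hlf f hf
        exact ⟨h1, t, h2, h3.trans hMdvd, h4⟩

/-- The number of Hall subgroups is the index of a normalizer. -/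
theorem count_eq {G : Type u} [Group G] [Finite G] [Group.IsSolvable G] {m n : ℕ}
    (hG : Nat.card G = m * n) (hmn : m.Coprime n) {H : Subgroup G} (hH : Nat.card H = m) :
    Nat.card {K : Subgroup G // Nat.card K = m} = (Subgroup.normalizer (H : Set G)).index := by
  let f : G → {K : Subgroup G // Nat.card K = m} := fun g =>
    ⟨MulAut.conj g • H, by rw [card_conj_smul, hH]⟩
  have hf : ∀ a b : G, f a = f b ↔ a⁻¹ * b ∈ Subgroup.normalizer (H : Set G) := by
    intro a b
    rw [Subtype.ext_iff]
    change MulAut.conj a • H = MulAut.conj b • H ↔ _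
    constructor
    · intro h
      refine CoprimeAction.mem_normalizer_of_conj_smul_eq ?_
      rw [map_mul, mul_smul, ← h, ← mul_smul, ← map_mul, inv_mul_cancel, map_one, one_smul]
    · intro h
      have h1 : MulAut.conj (a⁻¹ * b) • H = H := by
        ext y
        rw [Subgroup.mem_pointwise_smul_iff_inv_smul_mem, ← map_inv, MulAut.smul_def, MulAut.conj_apply]
        exact (Subgroup.mem_normalizer_iff.mp (inv_mem h) y).symm
      conv_rhs => rw [show b = a * (a⁻¹ * b) by group, map_mul, mul_smul, h1]
  rw [Subgroup.index_eq_card]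
  refine (Nat.card_congr (Equiv.ofBijective
    (Quotient.lift f (fun a b hab => (hf a b).mpr (QuotientGroup.leftRel_apply.mp hab))) ⟨?_, ?_⟩)).symm
  · intro a b
    induction a using Quotient.inductionOn with
    | _ a =>
      induction b using Quotient.inductionOn with
      | _ b =>
        intro hab
        exact Quotient.sound (QuotientGroup.leftRel_apply.mpr ((hf a b).mp hab))
  · intro K
    obtain ⟨g, hg⟩ := isPiHall_conjugate_of_solvable (isPiHall_of_card hG hmn hH)
      (isPiHall_of_card hG hmn K.2)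
    exact ⟨Quotient.mk _ g, Subtype.ext hg⟩

theorem relIndex_sup_normal {G : Type u} [Group G] [Finite G] (N A : Subgroup G) [N.Normal] :
    A.relIndex (N ⊔ A) = A.relIndex N := by
  have h1 : ∀ X Y : Subgroup G, X ≤ Y → X.relIndex Y * Nat.card X = Nat.card Y := fun X Y h => by
    rw [← Subgroup.relIndex_bot_left, ← Subgroup.relIndex_bot_left, mul_comm,
      Subgroup.relIndex_mul_relIndex ⊥ X Y bot_le h]
  have hA := h1 A (N ⊔ A) le_sup_right
  have hN := h1 N (N ⊔ A) le_sup_left
  have hI := h1 (N ⊓ A) A inf_le_right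
  have hJ := h1 (A ⊓ N) N inf_le_right
  rw [Subgroup.relIndex_sup_left] at hN
  rw [Subgroup.inf_relIndex_right] at hI hJ
  rw [inf_comm] at hJ
  refine Nat.eq_of_mul_eq_mul_right (Nat.card_pos (α := A)) ?_
  rw [hA, ← hN, ← hI, ← hJ]
  ring

/-- The conditions on a factor. -/
def Good (G : Type u) [Group G] (m f : ℕ) : Prop :=
  (∃ q e : ℕ, q.Prime ∧ f = q ^ e) ∧
    (∃ K L : Subgroup G, K.Normal ∧ L.Normal ∧ K < L ∧
      (∀ M : Subgroup G, M.Normal → K ≤ M → M ≤ L → M = K ∨ M = L) ∧ f ∣ K.relIndex L) ∧
    (∃ q : ℕ, q.Prime ∧ q ∣ m ∧ f ≡ 1 [MOD q])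

theorem good_of_quotient {G : Type u} [Group G] (N : Subgroup G) [N.Normal] {m m' f : ℕ}
    (hm : m' ∣ m) (h : Good (G ⧸ N) m' f) : Good G m f := by
  obtain ⟨h1, ⟨K, L, hK, hL, hKL, hmin, hdvd⟩, q, hq, hqm, hmod⟩ := h
  have hs := QuotientGroup.mk'_surjective N
  refine ⟨h1, ⟨K.comap (QuotientGroup.mk' N), L.comap (QuotientGroup.mk' N), hK.comap _, hL.comap _,
    (Subgroup.comap_lt_comap_of_surjective hs).mpr hKL, fun M hM h2 h3 => ?_, ?_⟩,
    q, hq, hqm.trans hm, hmod⟩
  · have hNM : (QuotientGroup.mk' N).ker ≤ M := by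
      refine le_trans ?_ h2
      exact MonoidHom.ker_le_comap _ _
    have hself := Subgroup.comap_map_eq_self hNM
    rcases hmin (M.map (QuotientGroup.mk' N)) (hM.map _ hs)
      (by rw [← Subgroup.map_comap_eq_self_of_surjective hs K]; exact Subgroup.map_mono h2)
      (by rw [← Subgroup.map_comap_eq_self_of_surjective hs L]; exact Subgroup.map_mono h3) with h | h
    · left; rw [← hself, h]
    · right; rw [← hself, h]
  · rwa [Subgroup.relIndex_comap, Subgroup.map_comap_eq_self_of_surjective hs]

theorem main : ∀ (c : ℕ) (G : Type u) [Group G] [Finite G] [Group.IsSolvable G], Nat.card G = c →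
    ∀ m n : ℕ, Nat.card G = m * n → m.Coprime n →
    ∃ l : List ℕ, Nat.card {H : Subgroup G // Nat.card H = m} = l.prod ∧ ∀ f ∈ l, Good G m f := by
  intro c
  induction c using Nat.strong_induction_on with
  | _ c ih =>
    intro G _ _ _ hc m n hG hmn
    obtain ⟨H, hH'⟩ := exists_isPiHall_of_solvable (G := G) {q | q ∣ m}
    have hH : Nat.card H = m := card_isPiHall_of_eq hG hmn hH'
    rw [count_eq hG hmn hH]
    rcases subsingleton_or_nontrivial G with hsub | hnt
    · exact ⟨[], by rw [List.prod_nil, Subgroup.index_eq_one]; exact Subsingleton.elim _ _, by simp⟩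
    obtain ⟨N, hN⟩ := HallSolvable.exists_minNormal (G := G)
    have hNn := hN.normal
    obtain ⟨q, hq, -, hqN⟩ := hN.exists_prime
    have : Fact q.Prime := ⟨hq⟩
    set φ := QuotientGroup.mk' N
    have hs : Function.Surjective φ := QuotientGroup.mk'_surjective N
    have hlt : Nat.card (G ⧸ N) < c := hc ▸ HallSolvable.card_quotient_lt hN.ne_bot
    have hidx : (Subgroup.normalizer ((H.map φ : Subgroup (G ⧸ N)) : Set (G ⧸ N))).index
        = (Subgroup.normalizer ((H ⊔ N : Subgroup G) : Set G)).index := by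
      rw [← Subgroup.index_comap_of_surjective _ hs, Subgroup.comap_normalizer_eq_of_surjective _ hs,
        Subgroup.comap_map_eq, QuotientGroup.ker_mk']
    have hcardN : Nat.card G = Nat.card (G ⧸ N) * Nat.card N := Subgroup.card_eq_card_quotient_mul_card_subgroup N
    by_cases hqm : q ∣ m
    · have hNH : N ≤ H := by
        obtain ⟨K, hK, hNK⟩ := exists_isPiHall_ge_of_solvable (G := G) (π := {q | q ∣ m}) (U := N) (by
          intro r hr hrd
          obtain ⟨e, he⟩ := IsPGroup.iff_card.mp hqN
          rw [he] at hrd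
          exact ((Nat.prime_dvd_prime_iff_eq hr hq).mp (hr.dvd_of_dvd_pow hrd)) ▸ hqm)
        obtain ⟨g, hg⟩ := isPiHall_conjugate_of_solvable hK hH'
        rw [← conj_smul_normal g N, ← hg]
        exact Subgroup.pointwise_smul_le_pointwise_smul_iff.mpr hNK
      have hm' : Nat.card (H.map φ) * Nat.card N = m := by
        rw [← hH, ← Subgroup.relIndex_bot_left H, ← Subgroup.relIndex_mul_relIndex ⊥ N H bot_le hNH,
          Subgroup.relIndex_bot_left, mul_comm, HallSolvable.relIndex_eq_card_map]
      set m' := Nat.card (H.map φ)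
      have hG' : Nat.card (G ⧸ N) = m' * n := by
        refine Nat.eq_of_mul_eq_mul_right (Nat.card_pos (α := N)) ?_
        rw [← hcardN, hG, ← hm']
        ring
      have hd : m' ∣ m := Dvd.intro _ hm'
      obtain ⟨l, hl, hlg⟩ := ih _ hlt (G ⧸ N) rfl m' n hG' (hmn.coprime_dvd_left hd)
      rw [count_eq hG' (hmn.coprime_dvd_left hd) rfl, hidx, sup_eq_left.mpr hNH] at hl
      exact ⟨l, hl, fun f hf => good_of_quotient N hd (hlg f hf)⟩
    · obtain ⟨e, he⟩ := IsPGroup.iff_card.mp hqN
      have hcop : m.Coprime (Nat.card N) := by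
        rw [he]; exact Nat.Coprime.pow_right _ ((hq.coprime_iff_not_dvd.mpr hqm).symm)
      have hdisj : H ⊓ N = ⊥ := Subgroup.inf_eq_bot_of_coprime (hH ▸ hcop)
      have hm' : Nat.card (H.map φ) = m := by
        rw [← HallSolvable.relIndex_eq_card_map, ← Subgroup.inf_relIndex_right, inf_comm, hdisj,
          Subgroup.relIndex_bot_left, hH]
      have hNn' : Nat.card N ∣ n := by
        refine hcop.symm.dvd_of_dvd_mul_left ?_
        rw [← hG]; exact Subgroup.card_subgroup_dvd_card N
      obtain ⟨n', hn'⟩ := hNn'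
      have hG' : Nat.card (G ⧸ N) = m * n' := by
        refine Nat.eq_of_mul_eq_mul_right (Nat.card_pos (α := N)) ?_
        rw [← hcardN, hG, hn']
        ring
      have hmn' : m.Coprime n' := hmn.coprime_dvd_right (Dvd.intro_left _ hn'.symm)
      obtain ⟨l, hl, hlg⟩ := ih _ hlt (G ⧸ N) rfl m n' hG' hmn'
      rw [count_eq hG' hmn' hm', hidx] at hl
      -- the part inside `N`
      set A := Subgroup.normalizer (H : Set G) with hA
      set B := Subgroup.normalizer ((H ⊔ N : Subgroup G) : Set G) with hB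
      have hAB : B = N ⊔ A := by
        refine le_antisymm (fun g hg => ?_) (sup_le ?_ ?_)
        · have hle : MulAut.conj g • H ≤ N ⊔ H := by
            intro y hy
            rw [Subgroup.mem_pointwise_smul_iff_inv_smul_mem, ← map_inv, MulAut.smul_def,
              MulAut.conj_apply, inv_inv] at hy
            rw [sup_comm]
            have h1 := (Subgroup.mem_normalizer_iff.mp hg (g⁻¹ * y * g)).mp (Subgroup.mem_sup_left hy)
            simpa [mul_assoc] using h1
          obtain ⟨k, hk, hkH⟩ := CoprimeSZ.exists_conj_of_card_eq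
            (by rw [Subgroup.normalizer_eq_top_iff.mpr hNn]; exact le_top) (hH ▸ hcop)
            (Or.inl inferInstance) hle (card_conj_smul g H)
          have : k⁻¹ * g ∈ A := by
            refine CoprimeAction.mem_normalizer_of_conj_smul_eq ?_
            rw [map_mul, mul_smul, ← hkH, ← mul_smul, ← map_mul, inv_mul_cancel, map_one, one_smul]
          rw [show g = k * (k⁻¹ * g) by group]
          exact mul_mem (Subgroup.mem_sup_left hk) (Subgroup.mem_sup_right this)
        · exact le_sup_right.trans Subgroup.le_normalizer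
        · intro g hg
          refine CoprimeAction.mem_normalizer_of_conj_smul_eq ?_
          rw [Subgroup.smul_sup, conj_smul_normal g N]
          congr 1
          ext y
          rw [Subgroup.mem_pointwise_smul_iff_inv_smul_mem, ← map_inv, MulAut.smul_def, MulAut.conj_apply]
          exact (Subgroup.mem_normalizer_iff.mp (inv_mem hg) y).symm
      have hrel : A.relIndex B = (N ⊓ Subgroup.centralizer (H : Set G)).relIndex N := by
        rw [hAB, relIndex_sup_normal, ← Subgroup.inf_relIndex_right]
        congr 1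
        refine le_antisymm (fun k hk => ⟨hk.2, Subgroup.mem_centralizer_iff.mpr fun h hh => ?_⟩)
          (le_inf (inf_le_right.trans (Subgroup.centralizer_le_normalizer _)) inf_le_left)
        have h1 : k * h * k⁻¹ * h⁻¹ ∈ H ⊓ N := by
          refine ⟨H.mul_mem ((Subgroup.mem_normalizer_iff.mp hk.1 h).mp hh) (H.inv_mem hh), ?_⟩
          rw [show k * h * k⁻¹ * h⁻¹ = k * (h * k⁻¹ * h⁻¹) by group]
          exact N.mul_mem hk.2 (hNn.conj_mem _ (N.inv_mem hk.2) h)
        rw [hdisj, Subgroup.mem_bot, mul_inv_eq_one, mul_inv_eq_iff_eq_mul] at h1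
        exact h1.symm
      obtain ⟨l', hl', hlg'⟩ := exists_factors hq N hqN H (hH ▸ hqm)
      refine ⟨l' ++ l, ?_, fun f hf => ?_⟩
      · rw [List.prod_append, ← hl', ← hrel, ← hl,
          Subgroup.relIndex_mul_index (by rw [hAB]; exact le_sup_right)]
      · rcases List.mem_append.mp hf with hf | hf
        · obtain ⟨⟨e', he'⟩, s, hs', hsd, hmod⟩ := hlg' f hf
          refine ⟨⟨q, e', hq, he'⟩, ⟨⊥, N, inferInstance, hNn, bot_lt_iff_ne_bot.mpr hN.ne_bot,
            fun M hM _ hMN => hN.2.2 M hM hMN, ?_⟩, s, hs', hH ▸ hsd, hmod⟩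
          rw [Subgroup.relIndex_bot_left]
          refine dvd_trans (hl' ▸ List.dvd_prod hf) ?_
          exact Subgroup.relIndex_dvd_card _ _
        · exact good_of_quotient N dvd_rfl (hlg f hf)

/-- The Hall count theorem. -/
theorem result {G : Type*} [Group G] [Finite G] [Group.IsSolvable G] (m n : ℕ) (hG : Nat.card G = m * n) (hmn : Nat.Coprime m n) : ∃ (k : ℕ) (f : Fin k → ℕ), Nat.card {H : Subgroup G // Nat.card H = m} = ∏ i, f i ∧ ∀ i, (∃ q e : ℕ, q.Prime ∧ f i = q ^ e) ∧ (∃ K L : Subgroup G, K.Normal ∧ L.Normal ∧ K < L ∧ (∀ M : Subgroup G, M.Normal → K ≤ M → M ≤ L → M = K ∨ M = L) ∧ f i ∣ K.relIndex L) ∧ (∃ q : ℕ, q.Prime ∧ q ∣ m ∧ f i ≡ 1 [MOD q]) := by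
  obtain ⟨l, hl, hg⟩ := main _ G rfl m n hG hmn
  refine ⟨l.length, l.get, ?_, fun i => hg _ (List.get_mem l i)⟩
  rw [hl, ← List.prod_ofFn, List.ofFn_get]

end Cfsg.Agent.S4214
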