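import Cfsg.Statements.S4215
import Mathlib
import Cfsg.Agent.S2792
import Cfsg.Agent.Lib.TransferTate

set_option autoImplicit false
open Cfsg

namespace Cfsg.Agent.S4215

open Cfsg.Agent
/-- Let `P` be a Sylow `p`-subgroup of the finite group `G`, `Q` a subgroup of `P` weakly closed in `P` with respect to `G`, and `H` the normalizer of `Q`. Suppose that for all `u ∈ P` and `z ∈ Q` the iterated commutator `[u, z, …, z]` with `p - 1` entries `z` is trivial, where `[x, z] = x⁻¹z⁻¹xz` and `[x, z, z] = [[x, z], z]`. Then `O^p(H) = O^p(G) ∩ H`, where `O^p` denotes the subgroup generated by the elements of order prime to `p`; so the largest `p`-factor groups of `G` and of `H` are isomorphic. -/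
theorem result {G : Type*} [Group G] [Finite G] {p : ℕ} [Fact p.Prime] (P : Sylow p G) (Q : Subgroup G) (hQ : Cfsg.IsWeaklyClosed Q (P : Subgroup G)) (h : ∀ u ∈ (P : Subgroup G), ∀ z ∈ Q, (fun y : G => y⁻¹ * z⁻¹ * y * z)^[p - 1] u = 1) : Cfsg.pResidualOf p (Subgroup.normalizer (Q : Set G)) = Cfsg.pResidual p G ⊓ Subgroup.normalizer (Q : Set G) := by
  set N := Subgroup.normalizer (Q : Set G) with hN
  have hfix : ∀ u ∈ (P : Subgroup G), Q.map (MulAut.conj u).toMonoidHom = Q := by
    intro u hu
    refine hQ.2 u ?_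
    rintro _ ⟨a, ha, rfl⟩
    exact Subgroup.mul_mem _ (Subgroup.mul_mem _ hu (hQ.1 ha)) (Subgroup.inv_mem _ hu)
  have hPN : (P : Subgroup G) ≤ N := by
    intro u hu
    rw [hN, Subgroup.mem_normalizer_iff]
    intro a
    constructor
    · intro ha
      exact (hfix u hu).le ⟨a, ha, rfl⟩
    · intro ha
      obtain ⟨b, hb, hb'⟩ := (hfix u hu).ge ha
      have : b = a := (MulAut.conj u).injective hb'
      exact this ▸ hb
  have hder : (P : Subgroup G) ⊓ commutator G = (P : Subgroup G) ⊓ ⁅N, N⁆ := by
    by_contra hne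
    obtain ⟨x, hx, z, hz, W₀, -, -, hout⟩ := S2792.result P Q hQ hne
    rw [h x hx z hz] at hout
    exact hout (Subgroup.one_mem _)
  have hfoc : (P : Subgroup G).focalSubgroup =
      (((P : Subgroup G).subgroupOf N).focalSubgroup).map N.subtype := by
    rw [← Subgroup.commutator_inf_eq_focalSubgroup P, inf_comm, hder, ← Sylow.coe_subtype P hPN,
      ← Subgroup.commutator_inf_eq_focalSubgroup (P.subtype hPN),
      Subgroup.map_inf _ _ _ N.subtype_injective, Subgroup.map_subtype_commutator,
      TransferTate.map_subtype_sylow, inf_comm]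
  exact TransferTate.map_pResidual_eq_inf P hPN
    (TransferTate.inf_pResidual_eq_of_focal_eq P hPN hfoc)

end Cfsg.Agent.S4215
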