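import Cfsg.Statements.S4216
import Cfsg.Agent.Lib.TransferFixed
import Cfsg.Agent.Lib.TransferTate

set_option autoImplicit false
open Cfsg

namespace Cfsg.Agent.S4216

/-- Grün's first Theorem: if `P` is a Sylow `p`-subgroup of the finite group `G`, then `P ∩ G'` is the subgroup generated by `P ∩ N_G(P)'` together with the subgroups `P ∩ z P' z⁻¹` for all `z ∈ G`, where `'` denotes the derived subgroup and `N_G(P)` the normalizer of `P`. -/
theorem result {G : Type*} [Group G] [Finite G] {p : ℕ} [Fact p.Prime] (P : Sylow p G) : (P : Subgroup G) ⊓ commutator G = ((P : Subgroup G) ⊓ ⁅Subgroup.normalizer ((P : Subgroup G) : Set G), Subgroup.normalizer ((P : Subgroup G) : Set G)⁆) ⊔ ⨆ z : G, (P : Subgroup G) ⊓ (⁅(P : Subgroup G), (P : Subgroup G)⁆).map (MulAut.conj z).toMonoidHom := by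
  classical
  set R : Subgroup G := ((P : Subgroup G) ⊓ ⁅Subgroup.normalizer ((P : Subgroup G) : Set G), Subgroup.normalizer ((P : Subgroup G) : Set G)⁆) ⊔ ⨆ z : G, (P : Subgroup G) ⊓ (⁅(P : Subgroup G), (P : Subgroup G)⁆).map (MulAut.conj z).toMonoidHom with hR
  have hRP : R ≤ (P : Subgroup G) := sup_le inf_le_left (iSup_le fun z => inf_le_left)
  have hGc : ∀ H : Subgroup G, ⁅H, H⁆ ≤ commutator G := fun H => by
    rw [commutator_def]; exact Subgroup.commutator_mono le_top le_top
  refine le_antisymm ?_ (le_inf hRP (sup_le (inf_le_right.trans (hGc _)) (iSup_le fun z => ?_)))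
  swap
  · refine inf_le_right.trans ((Subgroup.map_mono (hGc _)).trans (le_of_eq ?_))
    exact Subgroup.characteristic_iff_map_eq.mp inferInstance (MulAut.conj z)
  have hPd : ⁅(P : Subgroup G), (P : Subgroup G)⁆ ≤ R := by
    refine le_trans ?_ (le_sup_left)
    exact le_inf (Subgroup.commutator_le_self _) (Subgroup.commutator_mono Subgroup.le_normalizer Subgroup.le_normalizer)
  haveI hRn : (R.subgroupOf (P : Subgroup G)).Normal := by
    refine ⟨fun a ha b => ?_⟩
    rw [Subgroup.mem_subgroupOf] at ha ⊢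
    have h1 : (b : G) * a * (b : G)⁻¹ * (a : G)⁻¹ ∈ R :=
      hPd (Subgroup.commutator_mem_commutator b.2 a.2)
    have := mul_mem h1 ha
    simpa using this
  haveI : IsMulCommutative ((P : Subgroup G) ⧸ R.subgroupOf (P : Subgroup G)) :=
    Subgroup.Normal.quotient_commutative_iff_commutator_le.mpr (by
      rw [← Subgroup.map_subtype_le_map_subtype, Subgroup.map_subtype_commutator,
        Subgroup.map_subgroupOf_eq_of_le hRP]
      exact hPd)
  letI : CommGroup ((P : Subgroup G) ⧸ R.subgroupOf (P : Subgroup G)) :=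
    { (inferInstance : Group ((P : Subgroup G) ⧸ R.subgroupOf (P : Subgroup G))) with
      mul_comm := IsMulCommutative.is_comm.comm }
  let ϕ : (P : Subgroup G) →* (P : Subgroup G) ⧸ R.subgroupOf (P : Subgroup G) := QuotientGroup.mk' _
  have hϕ : ∀ y : (P : Subgroup G), ϕ y = 1 ↔ (y : G) ∈ R := fun y =>
    (QuotientGroup.eq_one_iff y).trans Subgroup.mem_subgroupOf
  haveI : Fintype (G ⧸ (P : Subgroup G)) := Fintype.ofFinite _
  suffices ∀ (n : ℕ) (x : G), orderOf x = n → x ∈ (P : Subgroup G) → x ∈ commutator G → x ∈ R from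
    fun x hx => this _ x rfl hx.1 hx.2
  intro n
  induction n using Nat.strong_induction_on with
  | _ n ih =>
  intro x hxn hxP hxG
  obtain ⟨e, he⟩ := IsPGroup.iff_orderOf.mp P.isPGroup' ⟨x, hxP⟩
  rw [Subgroup.orderOf_mk] at he
  rcases e.eq_zero_or_pos with he0 | he0
  · rw [he0, pow_zero, orderOf_eq_one_iff] at he
    rw [he]; exact one_mem _
  -- proper `p`-multiples are in `R`
  have hlow : ∀ (g : G) (k : ℕ), p ∣ k → ∀ h : g⁻¹ * x ^ k * g ∈ (P : Subgroup G), ϕ ⟨_, h⟩ = 1 := by
    intro g k hk h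
    rw [hϕ]
    refine ih (orderOf (g⁻¹ * x ^ k * g)) ?_ _ rfl h ?_
    · have h1 : orderOf (g⁻¹ * x ^ k * g) = orderOf (x ^ k) := by
        have := MulEquiv.orderOf_eq (MulAut.conj g⁻¹) (x ^ k)
        simpa using this
      rw [h1, ← hxn, he]
      obtain ⟨e', rfl⟩ : ∃ e', e = e' + 1 := ⟨e - 1, by omega⟩
      have h2 : orderOf (x ^ k) ∣ p ^ e' := by
        refine orderOf_dvd_of_pow_eq_one ?_
        obtain ⟨j, rfl⟩ := hk
        rw [← pow_mul, show p * j * p ^ e' = p ^ (e' + 1) * j by ring, pow_mul, ← he,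
          pow_orderOf_eq_one, one_pow]
      exact (Nat.le_of_dvd (pow_pos (Fact.out : p.Prime).pos _) h2).trans_lt
        (Nat.pow_lt_pow_right (Fact.out : p.Prime).one_lt (Nat.lt_succ_self _))
    · have := (inferInstance : (commutator G).Normal).conj_mem _ (pow_mem hxG k) g⁻¹
      simpa using this
  have hV := TransferFixed.transfer_eq_prod_fixedValue ϕ he hlow
  rw [TransferFixed.prod_eq_prod_fixed (S := (P : Subgroup G)) _ (fun q hq => by
    set F := (Finset.univ.filter (· ∈ MulAction.orbit (P : Subgroup G) q)).filter (fun b => x • b = b) with hF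
    rw [← Finset.prod_subset (s₁ := F) (Finset.filter_subset _ _) (fun b hb hnb =>
      TransferFixed.fixedValue_of_ne ϕ fun hfix => hnb (Finset.mem_filter.mpr ⟨hb, hfix⟩))]
    rcases Finset.eq_empty_or_nonempty F with hFe | ⟨b, hb⟩
    · rw [hFe, Finset.prod_empty]
    obtain ⟨g, rfl⟩ := QuotientGroup.mk_surjective b
    -- the fixed cosets in the orbit have count divisible by `p`
    have hdvd : p ∣ F.card := by
      have hzp : IsPGroup p (Subgroup.zpowers x) := P.isPGroup'.to_le (Subgroup.zpowers_le.mpr hxP)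
      let O := MulAction.orbit (P : Subgroup G) q
      letI : MulAction (Subgroup.zpowers x) O := MulAction.compHom O
        (Subgroup.inclusion (Subgroup.zpowers_le.mpr hxP))
      have h1 := hzp.card_modEq_card_fixedPoints (α := O)
      obtain ⟨i, hi⟩ := P.isPGroup'.card_orbit q
      have hi0 : i ≠ 0 := by
        rintro rfl
        refine hq fun s => ?_
        rw [pow_zero, Nat.card_eq_one_iff_unique] at hi
        exact congrArg Subtype.val (hi.1.elim ⟨s • q, MulAction.mem_orbit q s⟩ ⟨q, MulAction.mem_orbit_self q⟩)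
      have h2 : Nat.card (MulAction.fixedPoints (Subgroup.zpowers x) O) = F.card := by
        rw [← Nat.card_eq_finsetCard]
        refine Nat.card_congr
          { toFun := fun b => ⟨(b.1 : G ⧸ (P : Subgroup G)), Finset.mem_filter.mpr
              ⟨Finset.mem_filter.mpr ⟨Finset.mem_univ _, b.1.2⟩,
                congrArg Subtype.val (b.2 ⟨x, Subgroup.mem_zpowers x⟩)⟩⟩
            invFun := fun b => ⟨⟨b.1, (Finset.mem_filter.mp (Finset.mem_filter.mp b.2).1).2⟩,
              fun z => by
                obtain ⟨_, j, rfl⟩ := z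
                apply Subtype.ext
                have h4 : x ∈ MulAction.stabilizer G (b.1 : G ⧸ (P : Subgroup G)) := (Finset.mem_filter.mp b.2).2
                exact (zpow_mem h4 j :)⟩
            left_inv := fun b => rfl
            right_inv := fun b => rfl }
      rw [← h2]
      exact (h1.dvd_iff dvd_rfl).mp (hi ▸ dvd_pow_self p hi0)
    obtain ⟨hbO, hbx⟩ := Finset.mem_filter.mp hb
    have hq' : q ∈ MulAction.orbit (P : Subgroup G) ((g : G) : G ⧸ (P : Subgroup G)) :=
      MulAction.mem_orbit_symm.mp (Finset.mem_filter.mp hbO).2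
    have hgx : g⁻¹ * x * g ∈ (P : Subgroup G) := by
      have := QuotientGroup.eq.mp (hbx : ((x * g : G) : G ⧸ (P : Subgroup G)) = _).symm
      simpa [mul_assoc] using this
    -- move everything into `D = P ∩ gPg⁻¹`
    let D : Subgroup G := (P : Subgroup G) ⊓ (P : Subgroup G).map (MulAut.conj g).toMonoidHom
    have hDg : ∀ d : D, g⁻¹ * (d : G) * g ∈ (P : Subgroup G) := by
      intro d
      obtain ⟨t, ht, hte⟩ := (Subgroup.mem_inf.mp d.2).2
      rw [← hte]
      have e : g⁻¹ * (MulAut.conj g).toMonoidHom t * g = t := by simp [mul_assoc]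
      rw [e]; exact ht
    let θ : D →* (P : Subgroup G) ⧸ R.subgroupOf (P : Subgroup G) := ϕ.comp
      { toFun := fun d => ⟨_, hDg d⟩
        map_one' := Subtype.ext (by simp)
        map_mul' := fun a b => Subtype.ext (by simp [mul_assoc]) }
    let η : D →* Abelianization (P : Subgroup G) :=
      Abelianization.of.comp (Subgroup.inclusion inf_le_left)
    let Ψ := θ.prod η
    have hx0 : x ∈ D := Subgroup.mem_inf.mpr ⟨hxP, ⟨g⁻¹ * x * g, hgx, by simp [mul_assoc]⟩⟩
    have hval : ∀ c ∈ F, ((TransferFixed.fixedValue ϕ x c, η ⟨x, hx0⟩) :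
        ((P : Subgroup G) ⧸ R.subgroupOf (P : Subgroup G)) × Abelianization (P : Subgroup G)) ∈ Ψ.range := by
      intro c hc
      obtain ⟨hcO, hcx⟩ := Finset.mem_filter.mp hc
      have hc' : c ∈ MulAction.orbit (P : Subgroup G) ((g : G) : G ⧸ (P : Subgroup G)) := by
        rw [MulAction.orbit_eq_iff.mpr (MulAction.mem_orbit_symm.mp hq')]
        exact (Finset.mem_filter.mp hcO).2
      obtain ⟨s, rfl⟩ := hc'
      have hsx : ((s : G) * g)⁻¹ * x * ((s : G) * g) ∈ (P : Subgroup G) := by
        have := QuotientGroup.eq.mp (hcx : ((x * ((s : G) * g) : G) : G ⧸ (P : Subgroup G)) = _).symm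
        simpa [mul_assoc] using this
      have hd : (s : G)⁻¹ * x * s ∈ D := Subgroup.mem_inf.mpr
        ⟨mul_mem (mul_mem (inv_mem s.2) hxP) s.2, ⟨_, hsx, by simp [mul_assoc]⟩⟩
      refine ⟨⟨_, hd⟩, Prod.ext ?_ ?_⟩
      · change ϕ ⟨g⁻¹ * ((s : G)⁻¹ * x * s) * g, _⟩ =
          TransferFixed.fixedValue ϕ x (((s : G) * g : G) : G ⧸ (P : Subgroup G))
        rw [TransferFixed.fixedValue_mk ϕ hsx]
        congr 1
        apply Subtype.ext
        change g⁻¹ * ((s : G)⁻¹ * x * s) * g = ((s : G) * g)⁻¹ * x * ((s : G) * g)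
        group
      · change Abelianization.of (⟨(s : G)⁻¹ * x * s, _⟩ : (P : Subgroup G)) =
          Abelianization.of (⟨x, hxP⟩ : (P : Subgroup G))
        have e : (⟨(s : G)⁻¹ * x * s, mul_mem (mul_mem (inv_mem s.2) hxP) s.2⟩ : (P : Subgroup G)) =
            s⁻¹ * ⟨x, hxP⟩ * s := rfl
        rw [e, map_mul, map_mul, map_inv, mul_right_comm, inv_mul_cancel, one_mul]
    obtain ⟨d, hd⟩ := Subgroup.prod_mem Ψ.range hval
    rw [MonoidHom.prod_apply, Prod.ext_iff, Prod.fst_prod, Prod.snd_prod, Finset.prod_const] at hd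
    obtain ⟨hd1, hd2⟩ := hd
    rw [← hd1]
    -- `d = x^#F` modulo `P'`
    set u : D := d * (⟨x, hx0⟩ ^ F.card)⁻¹ with hu
    have hu' : Subgroup.inclusion inf_le_left u ∈ commutator (P : Subgroup G) := by
      rw [← Abelianization.ker_of, MonoidHom.mem_ker]
      change η u = 1
      rw [hu, map_mul, map_inv, map_pow, show η d = _ from hd2, mul_inv_cancel]
    have hu1 : θ u = 1 := by
      change ϕ ⟨g⁻¹ * (u : G) * g, _⟩ = 1
      rw [hϕ]
      refine Subgroup.mem_sup_right (Subgroup.mem_iSup_of_mem g⁻¹ (Subgroup.mem_inf.mpr ⟨hDg u, ?_⟩))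
      refine ⟨(u : G), ?_, by simp [mul_assoc]⟩
      have := Subgroup.mem_map_of_mem (P : Subgroup G).subtype hu'
      rw [Subgroup.map_subtype_commutator] at this
      exact this
    have hpw : θ (⟨x, hx0⟩ ^ F.card) = 1 := by
      have hm : g⁻¹ * x ^ F.card * g ∈ (P : Subgroup G) := hDg (⟨x, hx0⟩ ^ F.card)
      exact hlow g F.card hdvd hm
    have : d = u * ⟨x, hx0⟩ ^ F.card := by rw [hu, inv_mul_cancel_right]
    change θ d = 1
    rw [this, map_mul, hu1, hpw, one_mul])] at hV
  have hfix : ∀ q ∈ Finset.univ.filter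
      (· ∈ MulAction.fixedPoints (P : Subgroup G) (G ⧸ (P : Subgroup G))),
      TransferFixed.fixedValue ϕ x q = ϕ ⟨x, hxP⟩ := by
    intro q hq
    induction q using QuotientGroup.induction_on with
    | _ g =>
      have hg := TransferFixed.mem_normalizer_of_fixed P (Finset.mem_filter.mp hq).2
      have hgx : g⁻¹ * x * g ∈ (P : Subgroup G) := by
        simpa using (Subgroup.mem_normalizer_iff.mp (inv_mem hg) x).mp hxP
      rw [TransferFixed.fixedValue_mk ϕ hgx]
      refine (QuotientGroup.eq.mpr ?_)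
      rw [Subgroup.mem_subgroupOf]
      refine Subgroup.mem_sup_left (Subgroup.mem_inf.mpr ⟨?_, ?_⟩)
      · exact mul_mem (inv_mem hgx) hxP
      · have := Subgroup.commutator_mem_commutator (inv_mem hg) (inv_mem (Subgroup.le_normalizer hxP))
          (H₁ := Subgroup.normalizer ((P : Subgroup G) : Set G))
          (H₂ := Subgroup.normalizer ((P : Subgroup G) : Set G))
        rw [commutatorElement_def] at this
        simpa [mul_assoc] using this
  rw [Finset.prod_congr rfl hfix, Finset.prod_const] at hV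
  have hA : IsPGroup p ((P : Subgroup G) ⧸ R.subgroupOf (P : Subgroup G)) := P.isPGroup'.to_quotient _
  have hker : MonoidHom.transfer ϕ x = 1 := Abelianization.commutator_subset_ker (MonoidHom.transfer ϕ) hxG
  rw [hV] at hker
  have hcop : p.Coprime (Finset.univ.filter
      (· ∈ MulAction.fixedPoints (P : Subgroup G) (G ⧸ (P : Subgroup G)))).card :=
    (Nat.Prime.coprime_iff_not_dvd Fact.out).mpr (TransferFixed.not_dvd_card_fixed P)
  have h1 : ϕ ⟨x, hxP⟩ = 1 :=
    (hA.powEquiv hcop).injective (by simp only [IsPGroup.powEquiv_apply]; rw [hker, one_pow])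
  exact (hϕ ⟨x, hxP⟩).mp h1

end Cfsg.Agent.S4216
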