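import Cfsg.Statements.S4217
import Mathlib
import Cfsg.Agent.Lib.CoprimeGaschutz

set_option autoImplicit false
open Cfsg

namespace Cfsg.Agent.S4217

section
universe w

/-- Complements exist locally. -/
def LocalCompl (G : Type w) [Group G] (A : Subgroup G) [A.Normal] : Prop :=
  ∀ p : ℕ, p.Prime → p ∣ A.index → ∃ (S : Sylow p (G ⧸ A)) (K : Subgroup G),
    K ⊓ A = ⊥ ∧ K ⊔ A = (S : Subgroup (G ⧸ A)).comap (QuotientGroup.mk' A)

theorem isComplement_of_sup_inf {G : Type w} [Group G] {K A : Subgroup G} [A.Normal] (h1 : K ⊓ A = ⊥)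
    (h2 : K ⊔ A = ⊤) : K.IsComplement' A :=
  Subgroup.isComplement'_of_disjoint_and_mul_eq_univ (disjoint_iff.2 h1)
    (by rw [← Subgroup.mul_normal, h2, Subgroup.coe_top])

theorem complement_pPart {G : Type w} [Group G] [Finite G] (A : Subgroup G) [A.Normal] [IsMulCommutative A]
    {p : ℕ} [hp : Fact p.Prime] (hA : IsPGroup p A) (h : LocalCompl G A) :
    ∃ K : Subgroup G, K.IsComplement' A := by
  obtain ⟨k, hk⟩ := IsPGroup.iff_card.1 hA
  by_cases hpi : p ∣ A.index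
  · obtain ⟨S, K, h1, h2⟩ := h p hp.out hpi
    have hAU : A ≤ (S : Subgroup (G ⧸ A)).comap (QuotientGroup.mk' A) := h2 ▸ le_sup_right
    have hidx : ((S : Subgroup (G ⧸ A)).comap (QuotientGroup.mk' A)).index = (S : Subgroup (G ⧸ A)).index :=
      Subgroup.index_comap_of_surjective _ (QuotientGroup.mk'_surjective A)
    obtain ⟨H, hH⟩ := CoprimeGaschutz.exists_complement (K := A) hAU
      (by rw [hk, hidx]; exact ((hp.out.coprime_iff_not_dvd.2 S.not_dvd_index).pow_left k))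
      K (h2 ▸ le_sup_left) h1 (by rw [sup_comm]; exact h2)
    exact ⟨H, hH.symm⟩
  · obtain ⟨H, hH⟩ := Subgroup.exists_right_complement'_of_coprime (N := A)
      (by rw [hk]; exact (hp.out.coprime_iff_not_dvd.2 hpi).pow_left k)
    exact ⟨H, hH.symm⟩

theorem inf_quotient {G : Type w} [Group G] {K A B : Subgroup G} [B.Normal] (hB : B ≤ A) (h : K ⊓ A = ⊥) :
    K.map (QuotientGroup.mk' B) ⊓ A.map (QuotientGroup.mk' B) = ⊥ := by
  rw [eq_bot_iff]
  rintro x ⟨⟨k, hk, rfl⟩, a, ha, hak⟩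
  have hka : a⁻¹ * k ∈ B := QuotientGroup.eq.1 hak
  have : k ∈ A := by
    have := A.mul_mem ha (hB hka)
    rwa [mul_inv_cancel_left] at this
  rw [Subgroup.mem_bot, Subgroup.mem_bot.1 (h ▸ ⟨hk, this⟩ : k ∈ (⊥ : Subgroup G)), map_one]

theorem local_quotient {G : Type w} [Group G] [Finite G] (A B : Subgroup G) [A.Normal] [B.Normal]
    (hB : B ≤ A) [(A.map (QuotientGroup.mk' B)).Normal] (h : LocalCompl G A) :
    LocalCompl (G ⧸ B) (A.map (QuotientGroup.mk' B)) := by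
  intro p hp hpd
  haveI := Fact.mk hp
  set π := QuotientGroup.mk' B
  set Ā := A.map π with hĀ
  have hidx : Ā.index = A.index :=
    A.index_map_eq (QuotientGroup.mk'_surjective B) (by rw [QuotientGroup.ker_mk']; exact hB)
  obtain ⟨S, K, h1, h2⟩ := h p hp (hidx ▸ hpd)
  have hker : Ā ≤ MonoidHom.ker (QuotientGroup.mk' Ā) := by rw [QuotientGroup.ker_mk']
  let φ : G ⧸ A →* (G ⧸ B) ⧸ Ā := QuotientGroup.lift A ((QuotientGroup.mk' Ā).comp π)
    (fun a ha => hker (Subgroup.mem_map_of_mem π ha))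
  have hφ : Function.Surjective φ := fun x => by
    obtain ⟨y, rfl⟩ := QuotientGroup.mk_surjective x
    obtain ⟨z, rfl⟩ := QuotientGroup.mk_surjective y
    exact ⟨(z : G ⧸ A), rfl⟩
  refine ⟨S.mapSurjective hφ, K.map π, inf_quotient hB h1, ?_⟩
  show K.map π ⊔ A.map π = _
  rw [← Subgroup.map_sup, h2]
  ext x
  obtain ⟨z, rfl⟩ := QuotientGroup.mk_surjective x
  constructor
  · rintro ⟨w, hw, hwz⟩
    exact ⟨(w : G ⧸ A), hw, congrArg (QuotientGroup.mk' Ā) hwz⟩
  · rintro ⟨w, hw, hwz⟩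
    obtain ⟨w', rfl⟩ := QuotientGroup.mk_surjective w
    obtain ⟨a, ha, hae⟩ := (QuotientGroup.eq (s := Ā)).1 (show ((π w' : G ⧸ B) : (G ⧸ B) ⧸ Ā) = ((π z : G ⧸ B) : (G ⧸ B) ⧸ Ā) from hwz)
    refine ⟨w' * a, ?_, ?_⟩
    · show ((w' * a : G) : G ⧸ A) ∈ (S : Subgroup (G ⧸ A))
      rw [QuotientGroup.mk_mul_of_mem _ ha]
      exact hw
    · rw [map_mul, hae, mul_inv_cancel_left]
      rfl

theorem main : ∀ (n : ℕ) (G : Type w) [Group G] [Finite G] (A : Subgroup G) [A.Normal] [IsMulCommutative A],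
    Nat.card A ≤ n → LocalCompl G A → ∃ K : Subgroup G, K.IsComplement' A := by
  intro n
  induction n with
  | zero => intro G _ _ A _ _ h _; exact absurd h (Nat.not_le.2 Nat.card_pos)
  | succ n ih =>
    intro G _ _ A _ _ hn h
    by_cases hA1 : Nat.card A = 1
    · obtain rfl := Subgroup.card_eq_one.1 hA1
      exact ⟨⊤, isComplement_of_sup_inf (inf_bot_eq _) (top_sup_eq _)⟩
    obtain ⟨p, hp, hpA⟩ := Nat.exists_prime_and_dvd hA1
    haveI := Fact.mk hp
    obtain ⟨a, ha⟩ : ∃ a, (Nat.card A).factorization p = a := ⟨_, rfl⟩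
    obtain ⟨b, hb⟩ : ∃ b, Nat.card A / p ^ a = b := ⟨_, rfl⟩
    by_cases hb1 : b = 1
    · refine complement_pPart A (p := p) (IsPGroup.of_card (n := a) ?_) h
      rw [← Nat.ordProj_mul_ordCompl_eq_self (Nat.card A) p, ha, hb, hb1, mul_one]
    letI : CommGroup A := { (inferInstance : Group A) with mul_comm := fun x y => mul_comm' x y }
    -- the two parts
    let Q : ℕ → Subgroup G := fun d => ((powMonoidHom d : A →* A).ker).map A.subtype
    have hQ : ∀ d, ∀ x, x ∈ Q d ↔ x ∈ A ∧ x ^ d = 1 := fun d x => by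
      constructor
      · rintro ⟨y, hy, rfl⟩
        exact ⟨y.2, congrArg Subtype.val (MonoidHom.mem_ker.1 hy)⟩
      · rintro ⟨hx, hxd⟩
        exact ⟨⟨x, hx⟩, MonoidHom.mem_ker.2 (Subtype.ext hxd), rfl⟩
    have hQn : ∀ d, (Q d).Normal := fun d => ⟨fun x hx g => by
      rw [hQ] at hx ⊢
      exact ⟨‹A.Normal›.conj_mem x hx.1 g, by rw [conj_pow, hx.2, mul_one, mul_inv_cancel]⟩⟩
    have hprod : p ^ a * b = Nat.card A := by rw [← hb, ← ha]; exact Nat.ordProj_mul_ordCompl_eq_self _ _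
    have hcop : (p ^ a).Coprime b := by
      rw [← hb, ← ha]; exact (Nat.coprime_ordCompl hp Nat.card_pos.ne').pow_left _
    have hbez : (1 : ℤ) = (p ^ a : ℕ) * (p ^ a).gcdA b + b * (p ^ a).gcdB b := by
      rw [← Nat.gcd_eq_gcd_ab, hcop.gcd_eq_one]; rfl
    have hsplit : ∀ x ∈ A, ∃ y ∈ Q (p ^ a), ∃ z ∈ Q b, x = z * y := fun x hx => by
      have h1 : x ^ (Nat.card A : ℤ) = 1 := by
        rw [zpow_natCast]
        exact congrArg Subtype.val (pow_card_eq_one' (x := (⟨x, hx⟩ : A)))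
      refine ⟨x ^ ((b : ℤ) * (p ^ a).gcdB b), (hQ _ _).2 ⟨A.zpow_mem hx _, ?_⟩,
        x ^ (((p ^ a : ℕ) : ℤ) * (p ^ a).gcdA b), (hQ _ _).2 ⟨A.zpow_mem hx _, ?_⟩, ?_⟩
      · rw [← zpow_natCast, ← zpow_mul, show (b : ℤ) * (p ^ a).gcdB b * ((p ^ a : ℕ) : ℤ) =
          (Nat.card A : ℤ) * (p ^ a).gcdB b by rw [← hprod]; push_cast; ring, zpow_mul, h1, one_zpow]
      · rw [← zpow_natCast, ← zpow_mul, show ((p ^ a : ℕ) : ℤ) * (p ^ a).gcdA b * (b : ℤ) =
          (Nat.card A : ℤ) * (p ^ a).gcdA b by rw [← hprod]; push_cast; ring, zpow_mul, h1, one_zpow]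
      · rw [← zpow_add, ← hbez, zpow_one]
    have hdisj : ∀ x, x ∈ Q (p ^ a) → x ∈ Q b → x = 1 := fun x h1 h2 => by
      have := pow_gcd_eq_one.2 ⟨((hQ _ x).1 h1).2, ((hQ _ x).1 h2).2⟩
      rwa [hcop.gcd_eq_one, pow_one] at this
    have key : ∀ d, Q d ≠ ⊥ → ∃ H : Subgroup G, H ⊓ A = Q d ∧ H ⊔ A = ⊤ := by
      intro d hd
      haveI := hQn d
      set B := Q d with hBdef
      have hle : B ≤ A := fun x hx => ((hQ d x).1 hx).1
      haveI : (A.map (QuotientGroup.mk' B)).Normal :=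
        Subgroup.Normal.map inferInstance _ (QuotientGroup.mk'_surjective B)
      haveI : IsMulCommutative (A.map (QuotientGroup.mk' B)) := ⟨⟨fun x y => by
        obtain ⟨x₀, hx, hx'⟩ := x.2
        obtain ⟨y₀, hy, hy'⟩ := y.2
        apply Subtype.ext
        show (x : G ⧸ B) * y = y * x
        rw [← hx', ← hy', ← map_mul, ← map_mul,
          show x₀ * y₀ = y₀ * x₀ from congrArg Subtype.val (mul_comm' (⟨x₀, hx⟩ : A) ⟨y₀, hy⟩)]⟩⟩
      have hlt : Nat.card (A.map (QuotientGroup.mk' B)) ≤ n := by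
        have h2 : 1 < Nat.card B := by
          haveI := (Subgroup.nontrivial_iff_ne_bot B).2 hd
          exact Finite.one_lt_card
        have h3 : Nat.card (A.map (QuotientGroup.mk' B)) * Nat.card B = Nat.card A := by
          rw [← Subgroup.relIndex_ker, QuotientGroup.ker_mk', mul_comm, ← Subgroup.relIndex_bot_left B,
            ← Subgroup.relIndex_bot_left A]
          exact Subgroup.relIndex_mul_relIndex ⊥ _ _ bot_le hle
        have := Nat.card_pos (α := A.map (QuotientGroup.mk' B))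
        nlinarith
      obtain ⟨K, hK⟩ := ih (G ⧸ B) (A.map (QuotientGroup.mk' B)) hlt (local_quotient A B hle h)
      refine ⟨K.comap (QuotientGroup.mk' B), le_antisymm ?_ (le_inf ?_ hle), ?_⟩
      · rintro x ⟨hxK, hxA⟩
        exact (QuotientGroup.eq_one_iff x).1 (Subgroup.disjoint_def.1 hK.disjoint hxK (Subgroup.mem_map_of_mem _ hxA))
      · exact fun x hx => by
          rw [Subgroup.mem_comap, QuotientGroup.mk'_apply, (QuotientGroup.eq_one_iff x).2 hx]; exact K.one_mem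
      · rw [eq_top_iff]
        intro g _
        obtain ⟨k, hk, m, ⟨a', ha', rfl⟩, hkm⟩ := Subgroup.mem_sup_of_normal_right.1
          (hK.sup_eq_top ▸ Subgroup.mem_top (QuotientGroup.mk' B g) :
            QuotientGroup.mk' B g ∈ K ⊔ A.map (QuotientGroup.mk' B))
        have : g * a'⁻¹ ∈ K.comap (QuotientGroup.mk' B) := by
          rw [Subgroup.mem_comap, map_mul, map_inv, ← hkm, mul_inv_cancel_right]; exact hk
        have h2 := Subgroup.mul_mem_sup this ha'
        rwa [inv_mul_cancel_right] at h2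
    have hne1 : Q (p ^ a) ≠ ⊥ := by
      intro hbot
      obtain ⟨x, hx⟩ := exists_prime_orderOf_dvd_card' p hpA
      have hmem : (x : G) ∈ Q (p ^ a) := (hQ _ _).2 ⟨x.2, orderOf_dvd_iff_pow_eq_one.1 (by
        rw [Subgroup.orderOf_coe, hx]
        refine dvd_pow_self p ?_
        rw [← ha]
        have := (hp.dvd_iff_one_le_factorization Nat.card_pos.ne').1 hpA
        omega)⟩
      rw [hbot, Subgroup.mem_bot] at hmem
      rw [← Subgroup.orderOf_coe, hmem, orderOf_one] at hx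
      exact hp.ne_one hx.symm
    have hne2 : Q b ≠ ⊥ := by
      intro hbot
      obtain ⟨q, hq, hqb⟩ := Nat.exists_prime_and_dvd hb1
      haveI := Fact.mk hq
      obtain ⟨x, hx⟩ := exists_prime_orderOf_dvd_card' q (hqb.trans (hprod ▸ dvd_mul_left b _) : q ∣ Nat.card A)
      have hmem : (x : G) ∈ Q b := (hQ _ _).2 ⟨x.2, orderOf_dvd_iff_pow_eq_one.1 (by rw [Subgroup.orderOf_coe, hx]; exact hqb)⟩
      rw [hbot, Subgroup.mem_bot] at hmem
      rw [← Subgroup.orderOf_coe, hmem, orderOf_one] at hx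
      exact hq.ne_one hx.symm
    obtain ⟨H1, h11, h12⟩ := key (p ^ a) hne1
    obtain ⟨H2, h21, h22⟩ := key b hne2
    refine ⟨H1 ⊓ H2, isComplement_of_sup_inf ?_ ?_⟩
    · rw [eq_bot_iff]
      rintro x ⟨⟨hx1, hx2⟩, hxA⟩
      exact hdisj x (h11 ▸ ⟨hx1, hxA⟩) (h21 ▸ ⟨hx2, hxA⟩)
    · rw [eq_top_iff]
      intro g _
      obtain ⟨u, hu, a1, ha1, hg1⟩ := Subgroup.mem_sup_of_normal_right.1 (h12 ▸ Subgroup.mem_top g : g ∈ H1 ⊔ A)
      obtain ⟨v, hv, a2, ha2, hg2⟩ := Subgroup.mem_sup_of_normal_right.1 (h22 ▸ Subgroup.mem_top g : g ∈ H2 ⊔ A)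
      obtain ⟨y, hy, z, hz, hyz⟩ := hsplit (a1 * a2⁻¹) (A.mul_mem ha1 (A.inv_mem ha2))
      have hcomm : z * y = y * z := congrArg Subtype.val
        (mul_comm' (⟨z, ((hQ _ _).1 hz).1⟩ : A) ⟨y, ((hQ _ _).1 hy).1⟩)
      have hy1 : y ∈ H1 := (inf_le_left : H1 ⊓ A ≤ H1) (h11.symm ▸ hy)
      have hz2 : z⁻¹ ∈ H2 := inv_mem ((inf_le_left : H2 ⊓ A ≤ H2) (h21.symm ▸ hz))
      have hv' : v = u * (a1 * a2⁻¹) := by
        rw [← mul_assoc, hg1, ← hg2, mul_inv_cancel_right]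
      have hw : u * y = v * z⁻¹ := by
        rw [hv', hyz, hcomm, ← mul_assoc, mul_inv_cancel_right]
      have hm : u * y ∈ H1 ⊓ H2 := ⟨H1.mul_mem hu hy1, hw ▸ H2.mul_mem hv hz2⟩
      have hmem := Subgroup.mul_mem_sup hm (A.mul_mem ((hQ _ _).1 hz).1 ha2)
      have : u * y * (z * a2) = g := by rw [hw, mul_assoc, inv_mul_cancel_left, hg2]
      exact this ▸ hmem

end

/-- Let `A` be an abelian normal subgroup of the finite group `G`. Then `A` has a complement in `G` if and only if, for every prime `p` dividing the index of `A`, there are a Sylow `p`-subgroup `S` of `G/A` and a subgroup `K` of `G` with `K ∩ A = 1` and `KA` equal to the preimage of `S` (that is, `A` has a complement in the preimage of a Sylow `p`-subgroup of `G/A`). -/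
theorem result {G : Type*} [Group G] [Finite G] (A : Subgroup G) [A.Normal] (hA : IsMulCommutative A) : (∃ K : Subgroup G, K.IsComplement' A) ↔ ∀ p : ℕ, p.Prime → p ∣ A.index → ∃ (S : Sylow p (G ⧸ A)) (K : Subgroup G), K ⊓ A = ⊥ ∧ K ⊔ A = (S : Subgroup (G ⧸ A)).comap (QuotientGroup.mk' A) := by
  haveI := hA
  constructor
  · rintro ⟨K, hK⟩ p hp _
    haveI := Fact.mk hp
    obtain ⟨S⟩ := (inferInstance : Nonempty (Sylow p (G ⧸ A)))
    set U := (S : Subgroup (G ⧸ A)).comap (QuotientGroup.mk' A) with hU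
    have hAU : A ≤ U := fun a ha => by
      rw [hU, Subgroup.mem_comap, QuotientGroup.mk'_apply, (QuotientGroup.eq_one_iff a).2 ha]; exact one_mem _
    refine ⟨S, K ⊓ U, ?_, le_antisymm (sup_le inf_le_right hAU) fun g hg => ?_⟩
    · rw [eq_bot_iff]; rintro x ⟨⟨hx, -⟩, hxA⟩; exact Subgroup.disjoint_def.1 hK.disjoint hx hxA
    · obtain ⟨k, hk, a, ha, rfl⟩ := Subgroup.mem_sup_of_normal_right.1
        (hK.sup_eq_top ▸ Subgroup.mem_top g : g ∈ K ⊔ A)
      exact Subgroup.mul_mem_sup ⟨hk, by simpa using U.mul_mem hg (U.inv_mem (hAU ha))⟩ ha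
  · intro h
    exact main (Nat.card A) G A le_rfl h

end Cfsg.Agent.S4217
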