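import Mathlib
import Cfsg.Statements.S4220
import Cfsg.Agent.Lib.PermMultiTrans
import Cfsg.Agent.Lib.PermJordan

set_option autoImplicit false
open Cfsg

namespace Cfsg.Agent.S4220

open MulAction

theorem alt_le_normal {r : ℕ} (hr : 5 ≤ r) (S : Subgroup (Equiv.Perm (Fin r))) [S.Normal] (hS : S ≠ ⊥) :
    alternatingGroup (Fin r) ≤ S := by
  haveI : IsSimpleGroup (alternatingGroup (Fin r)) :=
    alternatingGroup.isSimpleGroup (by rw [Nat.card_fin]; exact hr)
  rcases Subgroup.Normal.eq_bot_or_eq_top (H := S.subgroupOf (alternatingGroup (Fin r))) inferInstance with h | h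
  · exfalso
    apply hS
    rw [Subgroup.eq_bot_iff_forall]
    intro s hs
    by_contra hs1
    -- every commutator with `s` is an even element of `S`
    have hc : ∀ g : Equiv.Perm (Fin r), g * s * g⁻¹ = s := by
      intro g
      have hmem : g * s * g⁻¹ * s⁻¹ ∈ S := mul_mem (Subgroup.Normal.conj_mem ‹S.Normal› s hs g) (inv_mem hs)
      have halt : g * s * g⁻¹ * s⁻¹ ∈ alternatingGroup (Fin r) := by
        rw [Equiv.Perm.mem_alternatingGroup]
        simp only [map_mul, map_inv]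
        rcases Int.units_eq_one_or (Equiv.Perm.sign g) with e | e <;>
          rcases Int.units_eq_one_or (Equiv.Perm.sign s) with e' | e' <;> rw [e, e'] <;> decide
      have : (⟨_, halt⟩ : alternatingGroup (Fin r)) ∈ S.subgroupOf (alternatingGroup (Fin r)) := hmem
      rw [h, Subgroup.mem_bot] at this
      exact mul_inv_eq_one.1 (congrArg Subtype.val this)
    obtain ⟨a, ha⟩ : ∃ a, s a ≠ a := by
      by_contra hc'
      push Not at hc'
      exact hs1 (Equiv.ext hc')
    obtain ⟨c, hca, hcb⟩ : ∃ c : Fin r, c ≠ a ∧ c ≠ s a := by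
      by_contra hc'
      push Not at hc'
      have hsub : (Finset.univ : Finset (Fin r)) ⊆ {a, s a} := fun c _ => by
        by_cases h1 : c = a
        · simp [h1]
        · simp [hc' c h1]
      have := Finset.card_le_card hsub
      rw [Finset.card_univ, Fintype.card_fin] at this
      have h2 : ({a, s a} : Finset (Fin r)).card ≤ 2 := Finset.card_le_two
      omega
    have h2 := Equiv.congr_fun (hc (Equiv.swap (s a) c)) a
    rw [Equiv.Perm.mul_apply, Equiv.Perm.mul_apply, Equiv.swap_inv,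
      Equiv.swap_apply_of_ne_of_ne ha.symm hca.symm, Equiv.swap_apply_left] at h2
    exact hcb h2
  · exact Subgroup.subgroupOf_eq_top.1 h

/-- the targets inside a non-trivial normal subgroup of the symmetric group on the fixed points -/
theorem targets_small : (∀ π : Equiv.Perm (Fin 3), π ≠ 1 → ∃ g : Equiv.Perm (Fin 3),
      g * π * g⁻¹ * π⁻¹ ≠ 1 ∧ (g * π * g⁻¹ * π⁻¹) ^ 3 = 1) ∧
    (∀ π : Equiv.Perm (Fin 4), π ≠ 1 → ∃ g : Equiv.Perm (Fin 4),
      g * π * g⁻¹ * π⁻¹ ≠ 1 ∧ (g * π * g⁻¹ * π⁻¹) ^ 2 = 1) := by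
  decide +kernel

theorem five_points :
    (∃ d g : Equiv.Perm (Fin 5), Equiv.Perm.sign d = 1 ∧ g * d * g⁻¹ * d⁻¹ ≠ 1 ∧
      (g * d * g⁻¹ * d⁻¹) ^ 2 = 1 ∧ (g * d * g⁻¹ * d⁻¹).support.card ≤ 4) ∧
    (∃ d e : Equiv.Perm (Fin 5), Equiv.Perm.sign d = 1 ∧ Equiv.Perm.sign e = 1 ∧ e * d * e⁻¹ * d⁻¹ ≠ 1 ∧
      (e * d * e⁻¹ * d⁻¹) ^ 3 = 1 ∧ (e * d * e⁻¹ * d⁻¹).support.card ≤ 4) :=
  ⟨⟨Equiv.swap 0 1 * Equiv.swap 2 3, Equiv.swap 1 2, by decide +kernel⟩,
    ⟨Equiv.swap 0 1 * Equiv.swap 2 3, Equiv.swap 0 1 * Equiv.swap 2 4, by decide +kernel⟩⟩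

theorem pow_ne_one_of_pow_eq {X : Type*} [Group X] {π : X} {p q : ℕ} (hp : p.Prime) (hq : q.Prime) (hpq : p ≠ q)
    (h : π ^ q = 1) (h1 : π ≠ 1) : π ^ p ≠ 1 := fun hpp =>
  h1 (orderOf_eq_one_iff.1 (Nat.eq_one_of_dvd_coprimes ((Nat.coprime_primes hp hq).2 hpq)
    (orderOf_dvd_of_pow_eq_one hpp) (orderOf_dvd_of_pow_eq_one h)))

set_option maxHeartbeats 1600000 in
theorem core {α : Type*} [Fintype α] [DecidableEq α] (G : Subgroup (Equiv.Perm α)) {k p r : ℕ} (hp : p.Prime)
    (hn : Fintype.card α = k * p + r) (hk : 1 ≤ k) (hpk : k < p) (hrk : k < r) (hr3 : 3 ≤ r)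
    (hG : IsMultiplyPretransitive G α (r + 1))
    (hcyc : k = 1 ∨ ∀ x ∈ G, x ≠ 1 → x ^ p = 1 → p < x.support.card) (h33 : p ≠ 3 ∨ 4 ≤ r) (hp2 : p ≠ 2) :
    alternatingGroup α ≤ G := by
  classical
  haveI : Fact p.Prime := ⟨hp⟩
  have hkp : 1 ≤ k * p := Nat.mul_pos hk hp.pos
  have hr1n : r + 1 ≤ Fintype.card α := by omega
  haveI := hG
  have hGr : IsMultiplyPretransitive G α r :=
    isMultiplyPretransitive_of_le (G := G) (α := α) (n := r + 1) (Nat.le_succ r) (by rwa [Nat.card_eq_fintype_card])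
  obtain ⟨ι⟩ : Nonempty (Fin r ↪ α) := Function.Embedding.nonempty_of_card_le (by rw [Fintype.card_fin]; omega)
  set R : Finset α := Finset.univ.map ι with hR
  have hRcard : R.card = r := by rw [hR, Finset.card_map, Finset.card_univ, Fintype.card_fin]
  have hιR : ∀ i, ι i ∈ R := fun i => Finset.mem_map_of_mem _ (Finset.mem_univ i)
  set H : Subgroup (Equiv.Perm α) := G ⊓ fixingSubgroup (Equiv.Perm α) (R : Set α) with hH
  have hHfix : ∀ h ∈ H, ∀ z ∈ R, h z = z := fun h hh z hz => (mem_fixingSubgroup_iff _).1 hh.2 z hz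
  have hHtr : ∀ y z, y ∉ R → z ∉ R → ∃ h ∈ H, h y = z := by
    intro y z hy hz
    obtain ⟨h, hh, hfix, hyz⟩ := PermJordan.exists_fix_and_map hG R (by omega)
      (by rw [Nat.card_eq_fintype_card]; exact hr1n) hy hz
    exact ⟨h, ⟨hh, (mem_fixingSubgroup_iff _).2 hfix⟩, hyz⟩
  let P : Sylow p H := default
  set P₀ : Subgroup (Equiv.Perm α) := (P : Subgroup H).map H.subtype with hP₀
  have hP₀H : P₀ ≤ H := Subgroup.map_subtype_le _
  have hP₀p : IsPGroup p P₀ := P.2.map _
  have hfixR : ∀ x ∈ P₀, ∀ z ∈ R, x z = z := fun x hx z hz => hHfix x (hP₀H hx) z hz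
  have houtcard : (Finset.univ \ R).card = k * p := by
    rw [Finset.card_univ_diff, hRcard]; omega
  have hmove : ∀ y, y ∉ R → ∃ x ∈ P₀, x y ≠ y := by
    intro y hy
    by_contra hcon
    push Not at hcon
    have hle : (P : Subgroup H) ≤ stabilizer H y := fun x hx => hcon x ⟨x, hx, rfl⟩
    have horb : orbit H y = ((Finset.univ \ R : Finset α) : Set α) := by
      ext z
      simp only [Finset.coe_sdiff, Finset.coe_univ, Set.mem_sdiff, Set.mem_univ, true_and, Finset.mem_coe]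
      constructor
      · rintro ⟨h, rfl⟩ hz
        apply hy
        have e : (h⁻¹ : H).1 ((h : Equiv.Perm α) y) = (h : Equiv.Perm α) y := hHfix _ (h⁻¹ : H).2 _ hz
        rw [show (h⁻¹ : H).1 ((h : Equiv.Perm α) y) = y from Equiv.symm_apply_apply _ _] at e
        exact e ▸ hz
      · intro hz
        obtain ⟨h, hh, he⟩ := hHtr y z hy hz
        exact ⟨⟨h, hh⟩, he⟩
    have hidx : (stabilizer H y).index = k * p := by
      rw [index_stabilizer, horb, Set.ncard_coe_finset, houtcard]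
    have h1 := Subgroup.index_dvd_of_le hle
    rw [hidx] at h1
    exact P.not_dvd_index (Dvd.dvd.trans (dvd_mul_left p k) h1)
  -- orbits of P₀
  let O : α → Finset α := fun y => Finset.univ.filter fun z => ∃ x ∈ P₀, x y = z
  have hmemO : ∀ y z, z ∈ O y ↔ ∃ x ∈ P₀, x y = z := fun y z => by simp [O]
  have hOcoe : ∀ y, (O y : Set α) = orbit P₀ y := fun y => by
    ext z
    rw [Finset.mem_coe, hmemO]
    exact ⟨fun ⟨x, hx, e⟩ => ⟨⟨x, hx⟩, e⟩, fun ⟨⟨x, hx⟩, e⟩ => ⟨x, hx, e⟩⟩
  have hOout : ∀ y, y ∉ R → ∀ z ∈ O y, z ∉ R := by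
    intro y hy z hz hzR
    obtain ⟨x, hx, rfl⟩ := (hmemO y z).1 hz
    apply hy
    have e := hfixR x⁻¹ (inv_mem hx) _ hzR
    rw [show x⁻¹ (x y) = y from Equiv.symm_apply_apply _ _] at e
    exact e ▸ hzR
  have hself : ∀ y, y ∈ O y := fun y => (hmemO y y).2 ⟨1, one_mem _, rfl⟩
  have hclosed : ∀ y, ∀ x ∈ P₀, ∀ z ∈ O y, x z ∈ O y := fun y x hx z hz => by
    obtain ⟨u, hu, rfl⟩ := (hmemO y z).1 hz
    exact (hmemO y _).2 ⟨x * u, mul_mem hx hu, rfl⟩
  have hOeq : ∀ y, ∀ z ∈ O y, O z = O y := by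
    intro y z hz
    obtain ⟨u, hu, rfl⟩ := (hmemO y z).1 hz
    ext w
    rw [hmemO, hmemO]
    constructor
    · rintro ⟨x, hx, rfl⟩; exact ⟨x * u, mul_mem hx hu, rfl⟩
    · rintro ⟨x, hx, rfl⟩
      exact ⟨x * u⁻¹, mul_mem hx (inv_mem hu), by rw [Equiv.Perm.mul_apply, show u⁻¹ (u y) = y from Equiv.symm_apply_apply _ _]⟩
  have hOcard : ∀ y, y ∉ R → (O y).card = p := by
    intro y hy
    obtain ⟨i, hi⟩ := hP₀p.index (stabilizer P₀ y)
    rw [index_stabilizer, ← hOcoe, Set.ncard_coe_finset] at hi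
    obtain ⟨x, hx, hxy⟩ := hmove y hy
    have h2 : 2 ≤ (O y).card := Finset.one_lt_card.2 ⟨_, hself y, _, (hmemO y _).2 ⟨x, hx, rfl⟩, Ne.symm hxy⟩
    have hle : (O y).card ≤ k * p := by
      rw [← houtcard]
      exact Finset.card_le_card fun z hz => Finset.mem_sdiff.2 ⟨Finset.mem_univ z, hOout y hy z hz⟩
    rcases i with _ | _ | i
    · rw [hi, pow_zero] at h2; omega
    · rw [hi, pow_one]
    · exfalso
      rw [hi] at hle
      have h3 : p ^ 2 ≤ p ^ (i + 1 + 1) := Nat.pow_le_pow_right hp.pos (by omega)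
      have h4 : k * p < p * p := Nat.mul_lt_mul_of_pos_right hpk hp.pos
      rw [sq] at h3; omega
  -- the restriction of P₀ to an orbit is cyclic of order p
  let ρ : ∀ y : α, P₀ →* Equiv.Perm (orbit P₀ y) := fun y => toPermHom P₀ (orbit P₀ y)
  have hρ : ∀ (y : α) (a b : P₀), ρ y a = ρ y b ↔ ∀ z ∈ O y, (a : Equiv.Perm α) z = (b : Equiv.Perm α) z := by
    intro y a b
    constructor
    · intro h z hz
      have hz' : z ∈ orbit P₀ y := hOcoe y ▸ hz
      exact congrArg Subtype.val (Equiv.congr_fun h ⟨z, hz'⟩)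
    · intro h
      refine Equiv.ext fun z => Subtype.ext ?_
      exact h z.1 (Finset.mem_coe.1 (by rw [hOcoe]; exact z.2))
  have hρcard : ∀ y, y ∉ R → Nat.card (ρ y).range = p := by
    intro y hy
    obtain ⟨i, hi⟩ := IsPGroup.iff_card.1 (show IsPGroup p (ρ y).range from
      hP₀p.of_surjective (ρ y).rangeRestrict (ρ y).rangeRestrict_surjective)
    have hd := Subgroup.card_subgroup_dvd_card (ρ y).range
    have horbp : (orbit P₀ y).ncard = p := by rw [← hOcoe, Set.ncard_coe_finset, hOcard y hy]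
    rw [Nat.card_perm, Nat.card_coe_set_eq, horbp, hi] at hd
    rcases i with _ | _ | i
    · exfalso
      rw [pow_zero, Subgroup.card_eq_one, MonoidHom.range_eq_bot_iff] at hi
      obtain ⟨x, hx, hxy⟩ := hmove y hy
      have : ρ y ⟨x, hx⟩ = ρ y 1 := by rw [hi]; rfl
      exact hxy ((hρ y _ _).1 this y (hself y))
    · rw [hi, pow_one]
    · exfalso
      have h2 : p ^ 2 ∣ p.factorial := (pow_dvd_pow p (by omega)).trans hd
      obtain ⟨q, rfl⟩ := Nat.exists_eq_succ_of_ne_zero hp.ne_zero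
      rw [Nat.factorial_succ, sq] at h2
      have := hp.dvd_factorial.1 (Nat.dvd_of_mul_dvd_mul_left hp.pos h2)
      omega
  have hgen : ∀ y, y ∉ R → ∀ x₀ : P₀, ρ y x₀ ≠ 1 → ∀ x : P₀, ∃ e : ℕ, ρ y x = ρ y (x₀ ^ e) := by
    intro y hy x₀ h0 x
    have h1 : Subgroup.zpowers (ρ y x₀) = (ρ y).range :=
      Subgroup.eq_of_le_of_card_ge (Subgroup.zpowers_le.2 ⟨x₀, rfl⟩) (by
        rw [hρcard y hy, Nat.card_zpowers]
        have hd := Subgroup.orderOf_dvd_natCard (ρ y).range ⟨x₀, rfl⟩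
        rw [hρcard y hy] at hd
        rcases (Nat.dvd_prime hp).1 hd with e | e
        · exact absurd (orderOf_eq_one_iff.1 e) h0
        · exact e.ge)
    have h2 : ρ y x ∈ Subgroup.zpowers (ρ y x₀) := h1 ▸ ⟨x, rfl⟩
    obtain ⟨e, he⟩ := (isOfFinOrder_of_finite _).mem_powers_iff_mem_zpowers.2 h2
    exact ⟨e, by rw [map_pow]; exact he.symm⟩
  have hglobal : ∀ a b : P₀, (∀ y, y ∉ R → ρ y a = ρ y b) → a = b := by
    intro a b h
    refine Subtype.ext (Equiv.ext fun z => ?_)
    by_cases hz : z ∈ R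
    · rw [hfixR a a.2 z hz, hfixR b b.2 z hz]
    · exact (hρ z a b).1 (h z hz) z (hself z)
  have hne1 : ∀ y, y ∉ R → ∃ x₀ : P₀, ρ y x₀ ≠ 1 := by
    intro y hy
    obtain ⟨x, hx, hxy⟩ := hmove y hy
    exact ⟨⟨x, hx⟩, fun h => hxy ((hρ y _ 1).1 (h.trans (map_one _).symm) y (hself y))⟩
  have hexp : ∀ x : P₀, x ^ p = 1 := by
    intro x
    refine hglobal _ _ fun y hy => ?_
    rw [map_pow, map_one]
    exact orderOf_dvd_iff_pow_eq_one.1 ((Subgroup.orderOf_dvd_natCard (ρ y).range ⟨x, rfl⟩).trans (dvd_of_eq (hρcard y hy)))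
  have hcommP : ∀ a b : P₀, a * b = b * a := by
    intro a b
    refine hglobal _ _ fun y hy => ?_
    obtain ⟨x₀, h0⟩ := hne1 y hy
    obtain ⟨e, he⟩ := hgen y hy x₀ h0 a
    obtain ⟨f, hf⟩ := hgen y hy x₀ h0 b
    rw [map_mul, map_mul, he, hf, ← map_mul, ← map_mul, ← pow_add, ← pow_add, add_comm]
  -- the normaliser
  set N : Subgroup (Equiv.Perm α) := G ⊓ Subgroup.normalizer (P₀ : Set (Equiv.Perm α)) with hN
  have hconj : ∀ g ∈ N, ∀ x ∈ P₀, g * x * g⁻¹ ∈ P₀ := fun g hg x hx => (Subgroup.mem_normalizer_iff.1 hg.2 x).1 hx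
  have hNR : ∀ g ∈ N, ∀ z ∈ R, g z ∈ R := by
    intro g hg z hz
    by_contra hgz
    obtain ⟨x, hx, hxy⟩ := hmove _ hgz
    apply hxy
    have h1 := hfixR (g⁻¹ * x * g⁻¹⁻¹) (hconj g⁻¹ (inv_mem hg) x hx) z hz
    rw [inv_inv, Equiv.Perm.mul_apply, Equiv.Perm.mul_apply, Equiv.Perm.inv_eq_iff_eq] at h1
    exact h1
  have hNO : ∀ g ∈ N, ∀ y, (O y).image g = O (g y) := by
    intro g hg y
    ext w
    rw [Finset.mem_image, hmemO]
    constructor
    · rintro ⟨z, hz, rfl⟩
      obtain ⟨x, hx, rfl⟩ := (hmemO y z).1 hz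
      exact ⟨g * x * g⁻¹, hconj g hg x hx, by simp⟩
    · rintro ⟨x, hx, rfl⟩
      refine ⟨(g⁻¹ * x * g⁻¹⁻¹) y, (hmemO y _).2 ⟨_, hconj g⁻¹ (inv_mem hg) x hx, rfl⟩, ?_⟩
      simp
  -- action on the fixed points
  have hRι : ∀ z ∈ R, ∃ i, ι i = z := fun z hz => by simpa [hR] using hz
  have hRex : ∀ g : N, ∀ i, ∃ j, ι j = (g : Equiv.Perm α) (ι i) := fun g i => hRι _ (hNR g g.2 _ (hιR i))
  choose fR hfR using hRex
  have hfRinj : ∀ g, Function.Injective (fR g) := fun g i j h =>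
    ι.injective ((g : Equiv.Perm α).injective (by rw [← hfR, ← hfR, h]))
  let θR : N →* Equiv.Perm (Fin r) := MonoidHom.mk' (fun g => Equiv.ofBijective (fR g) (Finite.injective_iff_bijective.1 (hfRinj g)))
    (fun g h => Equiv.ext fun i => ι.injective (by
      show ι (fR (g * h) i) = ι (fR g (fR h i))
      rw [hfR, hfR, hfR]; rfl))
  have hθR : ∀ (g : N) i, ι (θR g i) = (g : Equiv.Perm α) (ι i) := fun g i => hfR g i
  have hθRsurj : Function.Surjective θR := by
    intro π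
    obtain ⟨g, hg⟩ := exists_smul_eq G ι (π.toEmbedding.trans ι)
    have hg' : ∀ i, (g : Equiv.Perm α) (ι i) = ι (π i) := fun i => congrFun (congrArg DFunLike.coe hg) i
    have hfix' : ∀ x ∈ P₀, ∀ z ∈ R, ((g : Equiv.Perm α) * x * (g : Equiv.Perm α)⁻¹) z = z := by
      intro x hx z hz
      obtain ⟨i, rfl⟩ := hRι z hz
      have e : (g : Equiv.Perm α)⁻¹ (ι i) = ι (π⁻¹ i) := by
        rw [Equiv.Perm.inv_eq_iff_eq, hg']
        simp
      rw [Equiv.Perm.mul_apply, Equiv.Perm.mul_apply, e, hfixR x hx _ (hιR _), hg']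
      simp
    set Q : Subgroup (Equiv.Perm α) := P₀.map (MulAut.conj (g : Equiv.Perm α)).toMonoidHom with hQ
    have hQH : Q ≤ H := by
      rintro _ ⟨x, hx, rfl⟩
      exact ⟨G.mul_mem (G.mul_mem g.2 (hP₀H hx).1) (G.inv_mem g.2), (mem_fixingSubgroup_iff _).2 fun z hz => hfix' x hx z hz⟩
    obtain ⟨T, hT⟩ := (IsPGroup.of_equiv (show IsPGroup p Q from hP₀p.map _) (Subgroup.subgroupOfEquivOfLe hQH).symm).exists_le_sylow
    obtain ⟨h, hh⟩ := exists_smul_eq H T P
    have hmem : (h : Equiv.Perm α) * g ∈ N := by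
      refine ⟨mul_mem h.2.1 g.2, Subgroup.mem_normalizer_iff_map_conj_eq.2 ?_⟩
      refine Subgroup.eq_of_le_of_card_ge ?_ (le_of_eq (Nat.card_congr (P₀.equivMapOfInjective
        (MulAut.conj ((h : Equiv.Perm α) * g)).toMonoidHom (MulAut.conj ((h : Equiv.Perm α) * g)).injective).toEquiv))
      rintro _ ⟨x, hx, rfl⟩
      have hxQ : (g : Equiv.Perm α) * x * (g : Equiv.Perm α)⁻¹ ∈ Q := ⟨x, hx, rfl⟩
      have hxT : (⟨_, hQH hxQ⟩ : H) ∈ (T : Subgroup H) := hT hxQ
      have hxP : h * (⟨_, hQH hxQ⟩ : H) * h⁻¹ ∈ (P : Subgroup H) := by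
        rw [← hh, Sylow.coe_subgroup_smul]
        exact Subgroup.smul_mem_pointwise_smul _ _ _ hxT
      refine ⟨_, hxP, ?_⟩
      simp [mul_assoc]
    refine ⟨⟨_, hmem⟩, Equiv.ext fun i => ι.injective ?_⟩
    rw [hθR, Equiv.Perm.mul_apply, hg', hHfix h h.2 _ (hιR _)]
  -- action on the orbits
  set 𝒪 : Finset (Finset α) := (Finset.univ \ R).image O with h𝒪
  have h𝒪card : 𝒪.card = k := by
    have h1 : (Finset.univ \ R).card = ∑ s ∈ 𝒪, ((Finset.univ \ R).filter fun y => O y = s).card :=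
      Finset.card_eq_sum_card_image O _
    have h2 : ∀ s ∈ 𝒪, ((Finset.univ \ R).filter fun y => O y = s).card = p := by
      intro s hs
      obtain ⟨y, hy, rfl⟩ := Finset.mem_image.1 hs
      have hyR := (Finset.mem_sdiff.1 hy).2
      rw [← hOcard y hyR]
      congr 1
      ext z
      simp only [Finset.mem_filter, Finset.mem_sdiff, Finset.mem_univ, true_and]
      exact ⟨fun h => h.2 ▸ hself z, fun h => ⟨hOout y hyR z h, hOeq y z h⟩⟩
    rw [Finset.sum_congr rfl h2, Finset.sum_const, smul_eq_mul, houtcard] at h1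
    exact (Nat.eq_of_mul_eq_mul_right hp.pos h1).symm
  have hOex : ∀ g : N, ∀ s : 𝒪, (s : Finset α).image (g : Equiv.Perm α) ∈ 𝒪 := by
    rintro g ⟨s, hs⟩
    obtain ⟨y, hy, rfl⟩ := Finset.mem_image.1 hs
    rw [hNO g g.2]
    refine Finset.mem_image.2 ⟨_, Finset.mem_sdiff.2 ⟨Finset.mem_univ _, fun hgy => (Finset.mem_sdiff.1 hy).2 ?_⟩, rfl⟩
    have := hNR (g⁻¹ : N).1 (g⁻¹ : N).2 _ hgy
    rwa [show (g⁻¹ : N).1 ((g : Equiv.Perm α) y) = y from Equiv.symm_apply_apply _ _] at this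
  let fO : N → 𝒪 → 𝒪 := fun g s => ⟨_, hOex g s⟩
  have hfOinj : ∀ g, Function.Injective (fO g) := fun g s t h =>
    Subtype.ext (Finset.image_injective (g : Equiv.Perm α).injective (congrArg Subtype.val h))
  let θO : N →* Equiv.Perm 𝒪 := MonoidHom.mk' (fun g => Equiv.ofBijective (fO g) (Finite.injective_iff_bijective.1 (hfOinj g)))
    (fun g h => Equiv.ext fun s => Subtype.ext (by
      show (s : Finset α).image ((g : Equiv.Perm α) * (h : Equiv.Perm α)) = ((s : Finset α).image _).image _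
      rw [Finset.image_image]; rfl))
  set MR := θO.ker.map θR with hMR
  haveI : MR.Normal := Subgroup.Normal.map inferInstance θR hθRsurj
  have hMR1 : MR ≠ ⊥ := by
    intro e
    have hle : θO.ker ≤ θR.ker := fun g hg => by
      have : θR g ∈ MR := ⟨g, hg, rfl⟩
      rwa [e, Subgroup.mem_bot] at this
    have h1 := Subgroup.index_dvd_of_le hle
    rw [Subgroup.index_ker, Subgroup.index_ker, MonoidHom.range_eq_top.2 hθRsurj, Subgroup.card_top, Nat.card_perm,
      Nat.card_fin] at h1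
    have h2 := Subgroup.card_subgroup_dvd_card θO.range
    rw [Nat.card_perm, Nat.card_eq_fintype_card (α := 𝒪), Fintype.card_coe, h𝒪card] at h2
    have h3 := Nat.le_of_dvd (Nat.factorial_pos k) (h1.trans h2)
    have h4 := (Nat.factorial_lt (by omega)).2 hrk
    omega
  have hMfix : ∀ m : N, θO m = 1 → ∀ y, y ∉ R → (m : Equiv.Perm α) y ∈ O y := by
    intro m hm y hy
    have h1 : (O y).image (m : Equiv.Perm α) = O y := congrArg Subtype.val
      (Equiv.congr_fun hm ⟨O y, Finset.mem_image.2 ⟨y, Finset.mem_sdiff.2 ⟨Finset.mem_univ y, hy⟩, rfl⟩⟩)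
    rw [← h1]; exact Finset.mem_image_of_mem _ (hself y)
  let cj : N → P₀ → P₀ := fun m x => ⟨(m : Equiv.Perm α) * x * (m : Equiv.Perm α)⁻¹, hconj m m.2 x x.2⟩
  have hcj_mul : ∀ m n x, cj (m * n) x = cj m (cj n x) := fun m n x => Subtype.ext (by simp [cj, mul_assoc])
  have hcj_inv : ∀ m x, cj m (cj m⁻¹ x) = x := fun m x => Subtype.ext (by simp [cj, mul_assoc])
  have hcj_map : ∀ m x (e : ℕ), cj m (x ^ e) = cj m x ^ e := fun m x e => Subtype.ext (by simp [cj, conj_pow])
  have hloc : ∀ m : N, θO m = 1 → ∀ y, y ∉ R → ∃ a : ℕ, ∀ x : P₀, ρ y (cj m x) = ρ y (x ^ a) := by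
    intro m hm y hy
    obtain ⟨x₀, h0⟩ := hne1 y hy
    obtain ⟨a, ha⟩ := hgen y hy x₀ h0 (cj m x₀)
    refine ⟨a, fun x => ?_⟩
    obtain ⟨e, he⟩ := hgen y hy x₀ h0 x
    have h1 : ρ y (cj m x) = ρ y (cj m (x₀ ^ e)) := by
      rw [hρ]
      intro z hz
      have hz' : (m⁻¹ : N).1 z ∈ O y := by
        have hm' : θO m⁻¹ = 1 := by rw [map_inv, hm, inv_one]
        have := hMfix m⁻¹ hm' z (hOout y hy z hz)
        rwa [hOeq y z hz] at this
      have := (hρ y _ _).1 he _ hz'
      exact congrArg (m : Equiv.Perm α) this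
    rw [h1, hcj_map, map_pow, ha, ← map_pow, ← pow_mul, mul_comm a e, pow_mul, map_pow _ (x₀ ^ e), ← he, map_pow]
  -- it suffices to find a good element
  suffices h : ∃ g : N, θO g = 1 ∧ (∀ x : P₀, cj g x = x) ∧ θR g ^ p ≠ 1 ∧ (θR g).support.card ≤ 4 by
    obtain ⟨g, hgO, hgc, hgR, hgs⟩ := h
    have hzero : ∀ y, y ∉ R → ((g : Equiv.Perm α) ^ p) y = y := by
      intro y hy
      obtain ⟨x, hx, hxy⟩ := (hmemO y _).1 (hMfix g hgO y hy)
      have hc : Commute (g : Equiv.Perm α) x := mul_inv_eq_iff_eq_mul.1 (congrArg Subtype.val (hgc ⟨x, hx⟩))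
      have key : ∀ i : ℕ, ((g : Equiv.Perm α) ^ i) y = (x ^ i) y := by
        intro i
        induction i with
        | zero => rfl
        | succ i ih =>
          rw [pow_succ', Equiv.Perm.mul_apply, ih, ← Equiv.Perm.mul_apply, (hc.pow_right i).eq, Equiv.Perm.mul_apply,
            ← hxy, ← Equiv.Perm.mul_apply, ← pow_succ]
      rw [key, show x ^ p = 1 from congrArg Subtype.val (hexp ⟨x, hx⟩)]
      rfl
    have hR' : ∀ i, ((g : Equiv.Perm α) ^ p) (ι i) = ι ((θR g ^ p) i) := fun i => by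
      rw [← map_pow, hθR]; rfl
    have hsupp : ((g : Equiv.Perm α) ^ p).support ⊆ (θR g).support.map ι := by
      intro z hz
      rw [Equiv.Perm.mem_support] at hz
      obtain ⟨i, rfl⟩ := hRι z (by by_contra hzR; exact hz (hzero z hzR))
      refine Finset.mem_map.2 ⟨i, Equiv.Perm.support_pow_le _ p ?_, rfl⟩
      rw [Equiv.Perm.mem_support]
      exact fun e => hz (by rw [hR', e])
    have hne : (g : Equiv.Perm α) ^ p ≠ 1 := fun e => hgR (Equiv.ext fun i => ι.injective (by rw [← hR', e]; rfl))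
    obtain ⟨h, hhG, hh1, hh3⟩ := PermJordan.exists_support_le_three G hr1n hG _ (pow_mem g.2.1 p) hne (by
      have := Finset.card_le_card hsupp
      rw [Finset.card_map] at this
      omega)
    haveI : IsMultiplyPretransitive G α 2 :=
      isMultiplyPretransitive_of_le (G := G) (α := α) (n := r + 1) (by omega) (by rwa [Nat.card_eq_fintype_card])
    exact PermJordan.alternating_le_of_support_le_three (isPreprimitive_of_is_two_pretransitive this) hhG hh1 hh3
  -- scalar case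
  have hscalar : (∀ m : N, θO m = 1 → ∃ a : ℕ, ∀ x, cj m x = x ^ a) → ∀ (π : Equiv.Perm (Fin r)) (d : Equiv.Perm (Fin r)),
      d ∈ MR → (π * d * π⁻¹ * d⁻¹) ^ p ≠ 1 → (π * d * π⁻¹ * d⁻¹).support.card ≤ 4 →
      ∃ g : N, θO g = 1 ∧ (∀ x : P₀, cj g x = x) ∧ θR g ^ p ≠ 1 ∧ (θR g).support.card ≤ 4 := by
    rintro hsc π _ ⟨m, hm, rfl⟩ h1 h2
    obtain ⟨n, rfl⟩ := hθRsurj π
    refine ⟨n * m * n⁻¹ * m⁻¹, ?_, fun x => ?_, by simpa only [map_mul, map_inv] using h1,
      by simpa only [map_mul, map_inv] using h2⟩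
    · rw [map_mul, map_mul, map_mul, map_inv, map_inv, MonoidHom.mem_ker.1 hm, mul_one, mul_inv_cancel, inv_one, mul_one]
    · obtain ⟨a, ha⟩ := hsc m hm
      have h3 : cj (n * m * n⁻¹) (cj m⁻¹ x) = cj m (cj m⁻¹ x) := by
        rw [hcj_mul, hcj_mul, ha, hcj_map, hcj_inv, ← ha]
      rw [hcj_mul, h3, hcj_inv]
  have hsmallsupp : ∀ u : P₀, u ≠ 1 → k ≠ 1 → p < (u : Equiv.Perm α).support.card := fun u hu hk1 =>
    (hcyc.resolve_left hk1) u (hP₀H u.2).1 (fun e => hu (Subtype.ext e)) (congrArg Subtype.val (hexp u))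
  have hinj : k ≤ 3 → ∀ m : N, θO m = 1 → ∃ a : ℕ, ∀ x, cj m x = x ^ a := by
    intro hk3 m hm
    obtain ⟨e⟩ : Nonempty (Fin k ≃ 𝒪) := ⟨(Fintype.equivFinOfCardEq (by rw [Fintype.card_coe, h𝒪card])).symm⟩
    have hrep : ∀ i, ∃ y, y ∉ R ∧ O y = (e i : Finset α) := fun i => by
      obtain ⟨y, hy, he⟩ := Finset.mem_image.1 (e i).2
      exact ⟨y, (Finset.mem_sdiff.1 hy).2, he⟩
    choose ys hys hyse using hrep
    have hcover : ∀ y, y ∉ R → ∃ i, O (ys i) = O y := fun y hy => by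
      obtain ⟨i, hi⟩ := e.surjective ⟨O y, Finset.mem_image.2 ⟨y, Finset.mem_sdiff.2 ⟨Finset.mem_univ y, hy⟩, rfl⟩⟩
      exact ⟨i, by rw [hyse, hi]⟩
    have hall : ∀ u v : P₀, (∀ i, ρ (ys i) u = ρ (ys i) v) → u = v := fun u v h => hglobal u v fun y hy => by
      obtain ⟨i, hi⟩ := hcover y hy
      rw [hρ, ← hi, ← hρ]; exact h i
    choose a ha using fun i => hloc m hm (ys i) (hys i)
    interval_cases k
    · exact ⟨a 0, fun x => hall _ _ fun i => by rw [Subsingleton.elim i 0]; exact ha 0 x⟩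
    · have hone : ∀ u v : P₀, ρ (ys 0) u = ρ (ys 0) v → u = v := by
        intro u v h
        by_contra hne
        have h1 : (u * v⁻¹ : P₀) ≠ 1 := fun e => hne (mul_inv_eq_one.1 e)
        have h2 := hsmallsupp _ h1 (by norm_num)
        have h3 : ((u * v⁻¹ : P₀) : Equiv.Perm α).support ⊆ O (ys 1) := by
          intro z hz
          rw [Equiv.Perm.mem_support] at hz
          have hzR : z ∉ R := fun hzR => hz (hfixR _ (u * v⁻¹).2 z hzR)
          obtain ⟨i, hi⟩ := hcover z hzR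
          rcases (show i = 0 ∨ i = 1 by omega) with rfl | rfl
          · exfalso
            apply hz
            have h4 : ρ (ys 0) (u * v⁻¹) = ρ (ys 0) 1 := by rw [map_mul, map_inv, h, mul_inv_cancel, map_one]
            exact (hρ _ _ _).1 h4 z (hi ▸ hself z)
          · exact hi ▸ hself z
        have h4 := Finset.card_le_card h3
        rw [hOcard _ (hys 1)] at h4
        omega
      exact ⟨a 0, fun x => hone _ _ (ha 0 x)⟩
    · have htwo : ∀ (i j l : Fin 3), (∀ t : Fin 3, t = i ∨ t = j ∨ t = l) → ∀ u v : P₀,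
          ρ (ys i) u = ρ (ys i) v → ρ (ys j) u = ρ (ys j) v → u = v := by
        intro i j l hijl u v hi hj
        by_contra hne
        have h1 : (u * v⁻¹ : P₀) ≠ 1 := fun e => hne (mul_inv_eq_one.1 e)
        have h2 := hsmallsupp _ h1 (by norm_num)
        have h3 : ((u * v⁻¹ : P₀) : Equiv.Perm α).support ⊆ O (ys l) := by
          intro z hz
          rw [Equiv.Perm.mem_support] at hz
          have hzR : z ∉ R := fun hzR => hz (hfixR _ (u * v⁻¹).2 z hzR)
          obtain ⟨t, ht⟩ := hcover z hzR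
          rcases hijl t with rfl | rfl | rfl
          · exact absurd ((hρ _ _ _).1 (show ρ (ys t) (u * v⁻¹) = ρ (ys t) 1 by
              rw [map_mul, map_inv, hi, mul_inv_cancel, map_one]) z (ht ▸ hself z)) hz
          · exact absurd ((hρ _ _ _).1 (show ρ (ys t) (u * v⁻¹) = ρ (ys t) 1 by
              rw [map_mul, map_inv, hj, mul_inv_cancel, map_one]) z (ht ▸ hself z)) hz
          · exact ht ▸ hself z
        have h4 := Finset.card_le_card h3
        rw [hOcard _ (hys l)] at h4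
        omega
      by_cases hinj1 : ∀ x : P₀, ρ (ys 1) x = 1 → x = 1
      · exact ⟨a 1, fun x => by
          have h1 : ρ (ys 1) (cj m x * (x ^ a 1)⁻¹) = 1 := by rw [map_mul, map_inv, ha 1 x, mul_inv_cancel]
          exact mul_inv_eq_one.1 (hinj1 _ h1)⟩
      · push Not at hinj1
        obtain ⟨u, hu, hu1⟩ := hinj1
        have h0 : ρ (ys 0) u ≠ 1 := fun e =>
          hu1 (htwo 0 1 2 (by decide) u 1 (e.trans (map_one _).symm) (hu.trans (map_one _).symm))
        have h2 : cj m u = u ^ a 2 := htwo 1 2 0 (by decide) _ _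
          (by rw [ha 1 u, map_pow, map_pow, hu, one_pow, one_pow]) (ha 2 u)
        refine ⟨a 2, fun x => htwo 0 2 1 (by decide) _ _ ?_ (ha 2 x)⟩
        obtain ⟨e', he'⟩ := hgen _ (hys 0) u h0 x
        have h3 : ρ (ys 0) u ^ a 0 = ρ (ys 0) u ^ a 2 := by rw [← map_pow, ← map_pow, ← ha 0 u, h2]
        rw [ha 0 x, map_pow, map_pow, he', map_pow, ← pow_mul, ← pow_mul, mul_comm e', mul_comm e', pow_mul, pow_mul, h3]
  rcases (by omega : r = 3 ∨ r = 4 ∨ 5 ≤ r) with rfl | rfl | hr5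
  · obtain ⟨d, hd, hd1⟩ : ∃ d ∈ MR, d ≠ 1 := by
      by_contra hc; push Not at hc; exact hMR1 ((Subgroup.eq_bot_iff_forall MR).2 hc)
    obtain ⟨π, h1, h2⟩ := targets_small.1 d hd1
    exact hscalar (hinj (by omega)) π d hd (pow_ne_one_of_pow_eq hp Nat.prime_three (by omega) h2 h1)
      ((Finset.card_le_univ _).trans (by simp))
  · obtain ⟨d, hd, hd1⟩ : ∃ d ∈ MR, d ≠ 1 := by
      by_contra hc; push Not at hc; exact hMR1 ((Subgroup.eq_bot_iff_forall MR).2 hc)
    obtain ⟨π, h1, h2⟩ := targets_small.2 d hd1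
    exact hscalar (hinj (by omega)) π d hd (pow_ne_one_of_pow_eq hp Nat.prime_two hp2 h2 h1)
      ((Finset.card_le_univ _).trans (by simp))
  · have halt := alt_le_normal hr5 MR hMR1
    let e5 : Fin 5 ↪ Fin r := Fin.castLEEmb hr5
    let φ5 : Equiv.Perm (Fin 5) →* Equiv.Perm (Fin r) := Equiv.Perm.viaEmbeddingHom e5
    have hφinj : Function.Injective φ5 := Equiv.Perm.viaEmbeddingHom_injective e5
    have hφsign : ∀ q : Equiv.Perm (Fin 5), Equiv.Perm.sign q = 1 → φ5 q ∈ MR := fun q hq => halt (by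
      rw [Equiv.Perm.mem_alternatingGroup]
      show Equiv.Perm.sign (Equiv.Perm.viaEmbedding q e5) = 1
      simp [Equiv.Perm.viaEmbedding, hq])
    have hφsupp : ∀ q : Equiv.Perm (Fin 5), (φ5 q).support.card = q.support.card := fun q => by
      show (Equiv.Perm.viaEmbedding q e5).support.card = q.support.card
      simp [Equiv.Perm.viaEmbedding]
    obtain ⟨⟨d, π, hd, h1, h2, h3⟩, ⟨d', e', hd', he', h1', h2', h3'⟩⟩ := five_points
    by_cases hp3 : p = 3
    · refine hscalar (hinj (by omega)) (φ5 π) (φ5 d) (hφsign d hd) ?_ ?_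
      · rw [← map_inv, ← map_inv, ← map_mul, ← map_mul, ← map_mul, ← map_pow]
        exact fun e => pow_ne_one_of_pow_eq hp Nat.prime_two hp2 h2 h1 (hφinj (e.trans (map_one φ5).symm))
      · rw [← map_inv, ← map_inv, ← map_mul, ← map_mul, ← map_mul, hφsupp]; exact h3
    · obtain ⟨m1, hm1, hm1R⟩ := hφsign e' he'
      obtain ⟨m2, hm2, hm2R⟩ := hφsign d' hd'
      refine ⟨m1 * m2 * m1⁻¹ * m2⁻¹, ?_, fun x => ?_, ?_, ?_⟩
      · rw [map_mul, map_mul, map_mul, map_inv, map_inv, MonoidHom.mem_ker.1 hm1, MonoidHom.mem_ker.1 hm2]; simp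
      · have hswap : ∀ x, cj m1 (cj m2 x) = cj m2 (cj m1 x) := fun x => hglobal _ _ fun y hy => by
          obtain ⟨a1, ha1⟩ := hloc m1 hm1 y hy
          obtain ⟨a2, ha2⟩ := hloc m2 hm2 y hy
          rw [ha1, map_pow, ha2, ha2 (cj m1 x), map_pow _ (cj m1 x), ha1, ← map_pow, ← map_pow, ← pow_mul, ← pow_mul,
            mul_comm]
        rw [hcj_mul, hcj_mul, hcj_mul, hswap, hcj_inv, hcj_inv]
      · rw [map_mul, map_mul, map_mul, map_inv, map_inv, hm1R, hm2R, ← map_inv, ← map_inv, ← map_mul, ← map_mul,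
          ← map_mul, ← map_pow]
        exact fun e => pow_ne_one_of_pow_eq hp Nat.prime_three hp3 h2' h1' (hφinj (e.trans (map_one φ5).symm))
      · rw [map_mul, map_mul, map_mul, map_inv, map_inv, hm1R, hm2R, ← map_inv, ← map_inv, ← map_mul, ← map_mul,
          ← map_mul, hφsupp]
        exact h3'

/-- the exceptional configuration: a 4-transitive group of degree 9 -/
theorem nine {α : Type*} [Fintype α] [DecidableEq α] (G : Subgroup (Equiv.Perm α))
    (hn : Fintype.card α = 9) (hG : IsMultiplyPretransitive G α 4) :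
    ∃ h ∈ G, h ≠ 1 ∧ h.support.card ≤ 3 := by
  classical
  haveI := hG
  have hn' : Nat.card α = 9 := by rw [Nat.card_eq_fintype_card, hn]
  by_cases hsharp : ∀ x : Fin 4 ↪ α, stabilizer G x = ⊥
  swap
  · push Not at hsharp
    obtain ⟨x, hx⟩ := hsharp
    obtain ⟨g, hg, hg1⟩ := (Subgroup.ne_bot_iff_exists_ne_one).1 hx |> fun ⟨g, hg⟩ =>
      (⟨(g : G), g.2, fun e => hg (Subtype.ext e)⟩ : ∃ g : G, g ∈ stabilizer G x ∧ g ≠ 1)
    refine PermJordan.exists_support_le_three G (k := 4) (by omega) hG _ g.2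
      (fun e => hg1 (Subtype.ext e)) ?_
    have hsub : (g : Equiv.Perm α).support ⊆ Finset.univ \ Finset.univ.map x := by
      intro z hz
      refine Finset.mem_sdiff.2 ⟨Finset.mem_univ z, fun hzx => ?_⟩
      obtain ⟨i, -, rfl⟩ := Finset.mem_map.1 hzx
      exact Equiv.Perm.mem_support.1 hz (PermMultiTrans.mem_stabilizer_embedding.1 hg i)
    have := Finset.card_le_card hsub
    rw [Finset.card_univ_diff, Finset.card_map, Finset.card_univ, Fintype.card_fin, hn] at this
    omega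
  have hcardG : Nat.card G = 3024 := by
    rw [PermMultiTrans.card_eq_of_sharp (k := 4) (by omega) hsharp, hn']; rfl
  obtain ⟨a, b, hab⟩ := Fintype.exists_pair_of_one_lt_card (α := α) (by omega)
  haveI : IsMultiplyPretransitive G α 2 :=
    isMultiplyPretransitive_of_le (G := G) (α := α) (n := 4) (by omega) (by omega)
  let e2 : Fin 2 ↪ α := ⟨![a, b], fun i j h => by fin_cases i <;> fin_cases j <;> simp_all⟩
  have hK : Nat.card (stabilizer G e2) = 42 := by
    have h : (Nat.card α).descFactorial 2 * Nat.card (stabilizer G e2) = Nat.card G :=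
      PermMultiTrans.card_eq_descFactorial_mul (G := G) e2
    have h' : 72 * Nat.card (stabilizer G e2) = 3024 := by
      rw [hn', hcardG] at h; exact h
    omega
  set K := stabilizer G e2 with hKdef
  have hKmem : ∀ g : G, g ∈ K ↔ (g : Equiv.Perm α) a = a ∧ (g : Equiv.Perm α) b = b := fun g => by
    refine (PermMultiTrans.mem_stabilizer_embedding (G := G) (x := e2) (g := g)).trans ?_
    exact ⟨fun h => ⟨h 0, h 1⟩, fun h i => by fin_cases i; exacts [h.1, h.2]⟩
  haveI : Fact (Nat.Prime 7) := ⟨by norm_num⟩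
  obtain ⟨x', hx'⟩ := exists_prime_orderOf_dvd_card' (G := K) 7 (by rw [hK]; norm_num)
  set x : Equiv.Perm α := ((x' : G) : Equiv.Perm α) with hxdef
  have hxord : orderOf x = 7 := by
    rw [hxdef, ← Subgroup.orderOf_coe, ← Subgroup.orderOf_coe] at *
    exact hx'
  have hxab := (hKmem (x' : G)).1 x'.2
  rw [← hxdef] at hxab
  -- the support of `x` is everything but `a, b`
  have hsubx : x.support ⊆ Finset.univ \ {a, b} := by
    intro z hz
    rw [Equiv.Perm.mem_support] at hz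
    simp only [Finset.mem_sdiff, Finset.mem_univ, Finset.mem_insert, Finset.mem_singleton, true_and]
    rintro (rfl | rfl)
    exacts [hz hxab.1, hz hxab.2]
  have h7 : (Finset.univ \ {a, b} : Finset α).card = 7 := by
    rw [Finset.card_univ_diff, Finset.card_pair hab, hn]
  have hxcyc : x.IsCycle := Equiv.Perm.isCycle_of_prime_order (by rw [hxord]; norm_num)
    (by have := Finset.card_le_card hsubx; omega)
  have hxsupp : x.support = Finset.univ \ {a, b} :=
    Finset.eq_of_subset_of_card_le hsubx (by rw [h7, ← hxcyc.orderOf, hxord])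
  -- what commutes with `x` agrees with a power of `x` off `a, b`
  have hcomm : ∀ t : Equiv.Perm α, Commute t x → ∃ j : ℤ, ∀ z ∈ x.support, t z = (x ^ j) z := by
    intro t ht
    obtain ⟨c, hc, -⟩ := id hxcyc
    have htc : x (t c) ≠ t c := by
      rw [show x (t c) = t (x c) from Equiv.congr_fun ht.eq.symm c]
      exact fun e => hc (t.injective e)
    obtain ⟨j, hj⟩ := hxcyc.sameCycle hc htc
    refine ⟨j, fun z hz => ?_⟩
    obtain ⟨i, rfl⟩ := hxcyc.sameCycle hc (Equiv.Perm.mem_support.1 hz)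
    rw [← Equiv.Perm.mul_apply t, (ht.zpow_right i).eq, Equiv.Perm.mul_apply, ← hj,
      ← Equiv.Perm.mul_apply, ← Equiv.Perm.mul_apply, Commute.zpow_zpow_self]
  have hcab : ∀ (j : ℤ), (x ^ j) a = a ∧ (x ^ j) b = b := fun j =>
    ⟨Equiv.Perm.zpow_apply_eq_self_of_apply_eq_self hxab.1 j, Equiv.Perm.zpow_apply_eq_self_of_apply_eq_self hxab.2 j⟩
  have hcentK : ∀ g : G, g ∈ K → Commute (g : Equiv.Perm α) x → (g : Equiv.Perm α) ∈ Subgroup.zpowers x := by
    intro g hg hc
    obtain ⟨j, hj⟩ := hcomm _ hc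
    refine ⟨j, Equiv.ext fun z => ?_⟩
    by_cases hz : z ∈ x.support
    · exact (hj z hz).symm
    · rw [hxsupp] at hz
      simp only [Finset.mem_sdiff, Finset.mem_univ, Finset.mem_insert, Finset.mem_singleton, true_and,
        not_not] at hz
      rcases hz with rfl | rfl
      · exact (hcab j).1.trans ((hKmem g).1 hg).1.symm
      · exact (hcab j).2.trans ((hKmem g).1 hg).2.symm
  -- elements of order 7 in `K` are powers of `x`
  have hord7 : ∀ y : G, y ∈ K → y ^ 7 = 1 → (y : Equiv.Perm α) ∈ Subgroup.zpowers x := by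
    intro y hy hy7
    let f : Fin 7 × Fin 7 → K := fun q => x' ^ (q.1 : ℕ) * (⟨y, hy⟩ : K) ^ (q.2 : ℕ)
    haveI : Fintype K := Fintype.ofFinite K
    obtain ⟨q, q', hne, he⟩ := Fintype.exists_ne_map_eq_of_card_lt f (by
      rw [← Nat.card_eq_fintype_card, hK]; simp)
    have he' : x ^ (q.1 : ℕ) * (y : Equiv.Perm α) ^ (q.2 : ℕ) = x ^ (q'.1 : ℕ) * (y : Equiv.Perm α) ^ (q'.2 : ℕ) := by
      have := congrArg (fun w : K => ((w : G) : Equiv.Perm α)) he
      simpa [f] using this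
    have hd : (y : Equiv.Perm α) ^ ((q.2 : ℤ) - q'.2) = x ^ ((q'.1 : ℤ) - q.1) := by
      rw [zpow_sub, zpow_sub, zpow_natCast, zpow_natCast, zpow_natCast, zpow_natCast,
        mul_inv_eq_iff_eq_mul, ← (Commute.pow_pow_self x q.1 q'.1).inv_left.eq, mul_assoc,
        eq_inv_mul_iff_mul_eq]
      exact he'
    have hy7' : (y : Equiv.Perm α) ^ (7 : ℤ) = 1 := by exact_mod_cast congrArg Subtype.val hy7
    by_cases h22 : q.2 = q'.2
    · exfalso
      rw [h22, sub_self, zpow_zero] at hd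
      have h1 := orderOf_dvd_iff_zpow_eq_one.2 hd.symm
      rw [hxord] at h1
      exact hne (Prod.ext (Fin.ext (by omega)) h22)
    · obtain ⟨u, v, huv⟩ : IsCoprime ((q.2 : ℤ) - q'.2) 7 := by
        rw [Int.isCoprime_iff_nat_coprime]
        refine (((Nat.prime_seven).coprime_iff_not_dvd).2 ?_).symm
        intro h
        apply h22
        ext
        omega
      rw [show (y : Equiv.Perm α) = ((y : Equiv.Perm α) ^ ((q.2 : ℤ) - q'.2)) ^ u * ((y : Equiv.Perm α) ^ (7 : ℤ)) ^ v by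
        rw [← zpow_mul, ← zpow_mul, ← zpow_add, mul_comm _ u, mul_comm (7 : ℤ), huv, zpow_one], hd, hy7', one_zpow,
        mul_one, ← zpow_mul]
      exact ⟨_, rfl⟩
  -- conjugation by `K` induces every automorphism of `⟨x⟩`
  obtain ⟨τ', hτa, hτb⟩ := PermMultiTrans.exists_smul_two (G := G) hab hab.symm
  set τ : Equiv.Perm α := (τ' : Equiv.Perm α) with hτdef
  change τ a = b at hτa
  change τ b = a at hτb
  let S : Finset (Equiv.Perm α) := ((Finset.univ : Finset (Equiv.Perm α)).filter (· ∈ Subgroup.zpowers x)).erase 1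
  have hScard : S.card = 6 := by
    rw [Finset.card_erase_of_mem (by simp [one_mem]), ← Fintype.card_subtype, ← Nat.card_eq_fintype_card]
    show Nat.card (Subgroup.zpowers x) - 1 = 6
    rw [Nat.card_zpowers, hxord]
  have hx1 : x ≠ 1 := hxcyc.ne_one
  have hconjS : ∀ g : G, g ∈ K → (g : Equiv.Perm α) * x * (g : Equiv.Perm α)⁻¹ ∈ S := by
    intro g hg
    refine Finset.mem_erase.2 ⟨fun e => hx1 (conj_eq_one_iff.1 e), Finset.mem_filter.2 ⟨Finset.mem_univ _, ?_⟩⟩
    refine hord7 (g * (x' : G) * g⁻¹) (mul_mem (mul_mem hg x'.2) (inv_mem hg)) ?_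
    rw [conj_pow, show (x' : G) ^ 7 = 1 from by
      have := pow_orderOf_eq_one x'; rw [hx'] at this; exact congrArg Subtype.val this]
    simp
  have hmemS : τ * x * τ⁻¹ ∈ S := by
    refine Finset.mem_erase.2 ⟨fun e => hx1 (conj_eq_one_iff.1 e), Finset.mem_filter.2 ⟨Finset.mem_univ _, ?_⟩⟩
    refine hord7 (τ' * (x' : G) * τ'⁻¹) ((hKmem _).2 ?_) ?_
    · have ia : τ⁻¹ a = b := by rw [Equiv.Perm.inv_eq_iff_eq, hτb]
      have ib : τ⁻¹ b = a := by rw [Equiv.Perm.inv_eq_iff_eq, hτa]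
      simp only [Subgroup.coe_mul, Subgroup.coe_inv, Equiv.Perm.mul_apply, ← hτdef, ← hxdef]
      exact ⟨by rw [ia, hxab.2, hτb], by rw [ib, hxab.1, hτa]⟩
    · rw [conj_pow, show (x' : G) ^ 7 = 1 from by
        have := pow_orderOf_eq_one x'; rw [hx'] at this; exact congrArg Subtype.val this]
      simp
  haveI : Fintype K := Fintype.ofFinite K
  let c : K → Equiv.Perm α := fun g => ((g : G) : Equiv.Perm α) * x * ((g : G) : Equiv.Perm α)⁻¹
  have himg : Finset.univ.image c = S := by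
    refine Finset.eq_of_subset_of_card_le ?_ ?_
    · intro w hw
      obtain ⟨g, -, rfl⟩ := Finset.mem_image.1 hw
      exact hconjS _ g.2
    · have h1 := Finset.card_le_mul_card_image (f := c) (Finset.univ : Finset K) 7 (by
        intro w hw
        obtain ⟨g₀, -, rfl⟩ := Finset.mem_image.1 hw
        refine (Finset.card_le_card_of_injOn (fun g : K => g₀⁻¹ * g)
          (t := (Finset.univ : Finset K).filter fun g : K => ((g : G) : Equiv.Perm α) ∈ Subgroup.zpowers x) ?_ ?_).trans ?_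
        · intro g hg
          simp only [Finset.mem_coe, Finset.mem_filter, Finset.mem_univ, true_and] at hg ⊢
          refine hcentK _ (g₀⁻¹ * g).2 ?_
          show ((g₀⁻¹ * g : K) : Equiv.Perm α) * x = x * _
          simp only [Subgroup.coe_mul, Subgroup.coe_inv]
          simp only [c] at hg
          rw [mul_inv_eq_iff_eq_mul] at hg
          rw [mul_assoc, hg]
          simp [mul_assoc]
        · exact fun u _ v _ h => mul_left_cancel h
        · refine (Finset.card_le_card_of_injOn (fun g : K => ((g : G) : Equiv.Perm α))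
            (t := (Finset.univ : Finset (Equiv.Perm α)).filter (· ∈ Subgroup.zpowers x)) ?_ ?_).trans ?_
          · intro g hg; simpa using hg
          · exact fun u _ v _ h => Subtype.ext (Subtype.ext h)
          · rw [← Fintype.card_subtype, ← Nat.card_eq_fintype_card]
            exact le_of_eq ((Nat.card_zpowers x).trans hxord))
      rw [Finset.card_univ, ← Nat.card_eq_fintype_card, hK] at h1
      omega
  obtain ⟨g, -, hg⟩ := Finset.mem_image.1 (himg.symm ▸ hmemS : τ * x * τ⁻¹ ∈ Finset.univ.image c)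
  set t : Equiv.Perm α := ((g : G) : Equiv.Perm α)⁻¹ * τ with htdef
  have htc : Commute t x := by
    show t * x = x * t
    simp only [c] at hg
    rw [mul_inv_eq_iff_eq_mul] at hg
    rw [htdef]
    apply mul_left_cancel (a := ((g : G) : Equiv.Perm α))
    calc ((g : G) : Equiv.Perm α) * (((g : G) : Equiv.Perm α)⁻¹ * τ * x) = τ * x := by group
      _ = τ * x * τ⁻¹ * τ := by group
      _ = _ := by
        have e : ((g : G) : Equiv.Perm α) * x * ((g : G) : Equiv.Perm α)⁻¹ = τ * x * τ⁻¹ := mul_inv_eq_iff_eq_mul.2 hg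
        rw [← e]; simp [mul_assoc]
  obtain ⟨j, hj⟩ := hcomm t htc
  have hga := (hKmem (g : G)).1 g.2
  have hta : t a = b := by
    rw [htdef, Equiv.Perm.mul_apply, hτa, Equiv.Perm.inv_eq_iff_eq, hga.2]
  refine ⟨(x ^ j)⁻¹ * t, G.mul_mem (G.inv_mem (G.zpow_mem (x' : G).2 j))
    (G.mul_mem (G.inv_mem (g : G).2) τ'.2), fun e => hab ?_, ?_⟩
  · have := Equiv.congr_fun e a
    rw [Equiv.Perm.mul_apply, hta, Equiv.Perm.inv_eq_iff_eq, Equiv.Perm.one_apply, (hcab j).1] at this
    exact this.symm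
  · have hsub : ((x ^ j)⁻¹ * t).support ⊆ {a, b} := by
      intro z hz
      by_contra hzab
      rw [Equiv.Perm.mem_support] at hz
      apply hz
      rw [Equiv.Perm.mul_apply, hj z (by rw [hxsupp]; exact Finset.mem_sdiff.2 ⟨Finset.mem_univ z, hzab⟩)]
      simp
    exact (Finset.card_le_card hsub).trans (Finset.card_le_two.trans (by omega))

/-- Let `n = kp + r` with `p` prime, `1 ≤ k < p` and `r > k`, excluding the case `k = 1, r = 2`. Then a permutation group of degree `n` that is `(r + 1)`-fold transitive contains the alternating group. -/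
theorem result {α : Type*} [Fintype α] [DecidableEq α] (G : Subgroup (Equiv.Perm α)) {k p r : ℕ} (hp : p.Prime) (hn : Fintype.card α = k * p + r) (hk : 1 ≤ k) (hpk : k < p) (hrk : k < r) (hex : ¬ (k = 1 ∧ r = 2)) (hG : MulAction.IsMultiplyPretransitive G α (r + 1)) : alternatingGroup α ≤ G := by
  classical
  haveI := hG
  haveI : Fact p.Prime := ⟨hp⟩
  have hr3 : 3 ≤ r := by
    rcases (by omega : r = 2 ∨ 3 ≤ r) with h | h
    · exact absurd ⟨by omega, h⟩ hex
    · exact h
  have hkp : p ≤ k * p := Nat.le_mul_of_pos_left p hk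
  have hp2' := hp.two_le
  have hr1n : r + 1 ≤ Fintype.card α := by omega
  have h2t : IsMultiplyPretransitive G α 2 :=
    isMultiplyPretransitive_of_le (G := G) (α := α) (n := r + 1) (by omega) (by rwa [Nat.card_eq_fintype_card])
  have hprim : IsPreprimitive G α := isPreprimitive_of_is_two_pretransitive h2t
  by_cases hsmall : k * p ≤ 3
  · obtain ⟨ι⟩ : Nonempty (Fin r ↪ α) :=
      Function.Embedding.nonempty_of_card_le (by rw [Fintype.card_fin]; omega)
    have hout : (Finset.univ \ Finset.univ.map ι).card = k * p := by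
      rw [Finset.card_univ_diff, Finset.card_map, Finset.card_univ, Fintype.card_fin]; omega
    obtain ⟨y, hy, z, hz, hyz⟩ := Finset.one_lt_card.1 (by omega : 1 < (Finset.univ \ Finset.univ.map ι).card)
    obtain ⟨h, hh, hfix, he⟩ := PermJordan.exists_fix_and_map hG (Finset.univ.map ι)
      (by simp) (by rwa [Nat.card_eq_fintype_card]) (Finset.mem_sdiff.1 hy).2 (Finset.mem_sdiff.1 hz).2
    refine PermJordan.alternating_le_of_support_le_three hprim hh (fun e => hyz ?_) ?_
    · rw [← he, e]; rfl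
    · refine (Finset.card_le_card (t := Finset.univ \ Finset.univ.map ι) fun w hw => ?_).trans (by omega)
      exact Finset.mem_sdiff.2 ⟨Finset.mem_univ w, fun hw' => Equiv.Perm.mem_support.1 hw (hfix w hw')⟩
  have hp3' : 3 ≤ p := by
    by_contra h
    have : k = 1 := by omega
    subst this
    omega
  by_cases hcyc : ∀ x ∈ G, x ≠ 1 → x ^ p = 1 → p < x.support.card
  · by_cases h33 : p ≠ 3 ∨ 4 ≤ r
    · exact core G hp hn hk hpk hrk hr3 hG (Or.inr hcyc) h33 (by omega)
    · push Not at h33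
      obtain ⟨hp3, hr4⟩ := h33
      obtain rfl : r = 3 := by omega
      subst hp3
      obtain rfl : k = 2 := by omega
      obtain ⟨h, hh, h1, hs⟩ := nine G (by omega) hG
      exact PermJordan.alternating_le_of_support_le_three hprim hh h1 hs
  push Not at hcyc
  obtain ⟨x, hx, hx1, hxp, hxs⟩ := hcyc
  by_cases hp3 : p = 3
  · exact PermJordan.alternating_le_of_support_le_three hprim hx hx1 (by omega)
  have hord : orderOf x = p := orderOf_eq_prime hxp hx1
  have hxc : x.IsCycle := Equiv.Perm.isCycle_of_prime_order (hord.symm ▸ hp) (by omega)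
  have hsc : x.support.card = p := hxc.orderOf.symm.trans hord
  have hcompl : Set.ncard ((x.support : Set α)ᶜ) = (Fintype.card α - p - 1) + 1 := by
    rw [Set.ncard_compl, Set.ncard_coe_finset, hsc, Nat.card_eq_fintype_card]; omega
  haveI := Equiv.Perm.isPretransitive_of_isCycle_mem hxc hx
  have hprimfix : IsPreprimitive (fixingSubgroup G (x.support : Set α)ᶜ)
      (SubMulAction.ofFixingSubgroup G (x.support : Set α)ᶜ) := by
    apply IsPreprimitive.of_prime_card
    convert hp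
    rw [Nat.card_eq_fintype_card, Fintype.card_subtype, ← hsc]
    congr 1
    ext w
    simp [SubMulAction.mem_ofFixingSubgroup_iff]
  have hmp := hprim.isMultiplyPreprimitive hcompl (by rw [Nat.card_eq_fintype_card]; omega) hprimfix
  have hmt : IsMultiplyPretransitive G α ((Fintype.card α - p) + 1) := by
    have := hmp.isMultiplyPretransitive
    rwa [show Fintype.card α - p - 1 + 2 = (Fintype.card α - p) + 1 by omega] at this
  exact core G (k := 1) (r := Fintype.card α - p) hp (by omega) le_rfl (by omega) (by omega) (by omega) hmt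
    (Or.inl rfl) (Or.inl hp3) (by omega)

end Cfsg.Agent.S4220
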