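import Cfsg.Statements.S4221
import Mathlib
import Cfsg.Agent.Lib.FourTransOdd30Main

set_option autoImplicit false
open Cfsg

namespace Cfsg.Agent.S4221

/-- Let `G` be a `4`-fold transitive permutation group on a finite set of `n` points in which the pointwise stabilizer of some four distinct points has odd order. Then `n = 4` or `n = 5` with `G` the full symmetric group, or `n = 6` or `n = 7` with `G` the alternating group, or `n = 11` and `G` has order `7920`. -/
theorem result {α : Type*} [Fintype α] [DecidableEq α] (G : Subgroup (Equiv.Perm α)) (hG : MulAction.IsMultiplyPretransitive G α 4) (x : Fin 4 ↪ α) (hodd : Odd (Nat.card (MulAction.stabilizer G x))) : ((Fintype.card α = 4 ∨ Fintype.card α = 5) ∧ G = ⊤) ∨ ((Fintype.card α = 6 ∨ Fintype.card α = 7) ∧ G = alternatingGroup α) ∨ (Fintype.card α = 11 ∧ Nat.card G = 7920) := by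
  classical
  have hT : MulAction.IsPretransitive G (Fin 4 ↪ α) := hG
  have hmap : ∀ y : Fin 4 ↪ α, ∃ g : G, g • x = y := fun y => MulAction.exists_smul_eq G x y
  have hyp : FourTransOdd30.Hyp G := by
    refine ⟨hG, fun g hg a b c d hnd h1 h2 h3 h4 => ?_⟩
    have hF : FourTransOdd30.Four a b c d := by
      simp only [List.nodup_cons, List.mem_cons, List.not_mem_nil, or_false, not_or,
        List.nodup_nil, and_true, not_false_eq_true] at hnd
      exact ⟨hnd.1.1, hnd.1.2.1, hnd.1.2.2, hnd.2.1.1, hnd.2.1.2, hnd.2.2⟩
    obtain ⟨k, hk⟩ := hmap ⟨_, hF.injective⟩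
    have hfix : ∀ i, g ((k : Equiv.Perm α) (x i)) = (k : Equiv.Perm α) (x i) := by
      intro i
      rw [show (k : Equiv.Perm α) (x i) = ![a, b, c, d] i from
        congrFun (congrArg DFunLike.coe hk) i]
      fin_cases i <;> simp [h1, h2, h3, h4]
    have hmem : k⁻¹ * ⟨g, hg⟩ * k ∈ MulAction.stabilizer G x := by
      rw [MulAction.mem_stabilizer_iff]
      ext i
      show (k : Equiv.Perm α).symm (g ((k : Equiv.Perm α) (x i))) = x i
      rw [hfix i, Equiv.symm_apply_apply]
    have ho : orderOf (k⁻¹ * ⟨g, hg⟩ * k : G) = orderOf g := by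
      calc orderOf (k⁻¹ * ⟨g, hg⟩ * k : G) = orderOf (MulAut.conj k⁻¹ (⟨g, hg⟩ : G)) := by
            rw [MulAut.conj_apply, inv_inv]
        _ = orderOf (⟨g, hg⟩ : G) :=
            orderOf_injective (MulAut.conj k⁻¹).toMonoidHom (MulAut.conj k⁻¹).injective _
        _ = orderOf g := (Subgroup.orderOf_coe _).symm
    rw [← ho]
    exact hodd.of_dvd_nat (Subgroup.orderOf_dvd_natCard _ hmem)
  set n := Fintype.card α with hn
  have h4 : 4 ≤ n := by
    rw [hn, ← Fintype.card_fin 4]; exact Fintype.card_le_of_embedding x
  set h := Nat.card (MulAction.stabilizer G x) with hh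
  have hcard : Nat.card G = n.descFactorial 4 * h := by
    have horb : ∀ s : Set (Fin 4 ↪ α), (∀ y, y ∈ s) → s.ncard = n.descFactorial 4 := by
      intro s hs
      rw [Set.eq_univ_of_forall hs, Set.ncard_univ, Nat.card_eq_fintype_card,
        Fintype.card_embedding_eq, Fintype.card_fin]
    rw [hh, ← (MulAction.stabilizer G x).index_mul_card, MulAction.index_stabilizer,
      horb _ (fun y => ?_)]
    obtain ⟨g, hg⟩ := hmap y
    exact ⟨g, hg⟩
  have hdvd : h ∣ (n - 4).factorial := by
    have h1 := Subgroup.card_subgroup_dvd_card G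
    rw [hcard, Nat.card_perm, Nat.card_eq_fintype_card, ← hn,
      ← Nat.factorial_mul_descFactorial h4, mul_comm (n - 4).factorial] at h1
    exact Nat.dvd_of_mul_dvd_mul_left (Nat.descFactorial_pos.2 h4) h1
  have hperm : Nat.card (Equiv.Perm α) = n.factorial := by
    rw [Nat.card_perm, Nat.card_eq_fintype_card]
  have hidx := G.index_mul_card
  rw [hperm, hcard] at hidx
  rcases lt_or_ge n 8 with hlt | hge
  · have hodd' := Nat.odd_iff.1 hodd
    have hle : h ≤ (n - 4).factorial := Nat.le_of_dvd (Nat.factorial_pos _) hdvd
    rcases (show n = 4 ∨ n = 5 ∨ n = 6 ∨ n = 7 by omega) with e | e | e | e <;>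
      simp only [e, Nat.descFactorial, Nat.factorial] at hidx hle hdvd <;>
      norm_num at hidx hle hdvd
    · have : h = 1 := by omega
      refine Or.inl ⟨Or.inl e, Subgroup.index_eq_one.1 ?_⟩
      rw [this] at hidx; omega
    · have : h = 1 := by omega
      refine Or.inl ⟨Or.inr e, Subgroup.index_eq_one.1 ?_⟩
      rw [this] at hidx; omega
    · have : h = 1 := by interval_cases h <;> omega
      refine Or.inr (Or.inl ⟨Or.inl e, Equiv.Perm.eq_alternatingGroup_of_index_eq_two ?_⟩)
      rw [this] at hidx; omega
    · have h13 : h = 1 ∨ h = 3 := by interval_cases h <;> omega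
      rcases h13 with h1 | h3
      · exfalso
        have h840 : Nat.card G = 840 := by rw [hcard, h1, e]; rfl
        have hi6 : G.index = 6 := by rw [h1] at hidx; omega
        have hN : G.normalCore.index ∣ G.index.factorial := by
          rw [Subgroup.normalCore_eq_ker, Subgroup.index_ker, Subgroup.index_eq_card,
            ← Nat.card_perm]
          exact Subgroup.card_subgroup_dvd_card _
        set N := G.normalCore with hNdef
        have hNc := N.index_mul_card
        rw [hperm, e] at hNc
        have hdvd' : N.index ∣ 720 := by rw [hi6] at hN; simpa [Nat.factorial] using hN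
        have hA : Nat.card (alternatingGroup α) * 2 = 5040 := by
          have : Nontrivial α := Fintype.one_lt_card_iff_nontrivial.1 (by omega)
          rw [mul_comm, Nat.card_eq_fintype_card, two_mul_card_alternatingGroup,
            ← Nat.card_eq_fintype_card, hperm, e]
          rfl
        have hsimple : IsSimpleGroup (alternatingGroup α) :=
          alternatingGroup.isSimpleGroup (by rw [Nat.card_eq_fintype_card]; omega)
        have hNn : (N.subgroupOf (alternatingGroup α)).Normal := inferInstance
        rcases hNn.eq_bot_or_eq_top with hb | ht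
        · rw [Subgroup.subgroupOf_eq_bot] at hb
          have hle2 : Nat.card N ≤ 2 := by
            have : Nontrivial α := Fintype.one_lt_card_iff_nontrivial.1 (by omega)
            have h4 : (alternatingGroup α).index = 2 := alternatingGroup.index_eq_two
            have h5 := Subgroup.relIndex_dvd_index_of_normal (alternatingGroup α) N
            have h6 := Subgroup.inf_relIndex_right (alternatingGroup α) N
            rw [inf_comm, disjoint_iff.1 hb, Subgroup.relIndex_bot_left] at h6
            rw [← h6, h4] at h5
            exact Nat.le_of_dvd two_pos h5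
          have := Nat.le_of_dvd (by norm_num) hdvd'
          rw [show Nat.factorial 7 = 5040 from rfl] at hNc
          nlinarith
        · rw [Subgroup.subgroupOf_eq_top] at ht
          have := Subgroup.card_le_of_le (ht.trans G.normalCore_le)
          omega
      · refine Or.inr (Or.inl ⟨Or.inr e, Equiv.Perm.eq_alternatingGroup_of_index_eq_two ?_⟩)
        rw [h3] at hidx; omega
  · obtain ⟨Q, -, hQc⟩ := Finset.exists_subset_card_eq
      (show 4 ≤ (Finset.univ : Finset α).card by rw [Finset.card_univ]; omega)
    have hF : FourTransOdd30.Four (x 0) (x 1) (x 2) (x 3) := by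
      refine ⟨?_, ?_, ?_, ?_, ?_, ?_⟩ <;> exact fun e => absurd (x.injective e) (by decide)
    obtain ⟨h11, hbot⟩ := FourTransOdd30.eleven hyp hge hF
    refine Or.inr (Or.inr ⟨h11, ?_⟩)
    have h1 : h = 1 := by
      rw [hh, Subgroup.card_eq_one, Subgroup.eq_bot_iff_forall]
      intro g hg
      have hfix : ∀ i, (g : Equiv.Perm α) (x i) = x i := fun i =>
        congrFun (congrArg DFunLike.coe hg) i
      have : (g : Equiv.Perm α) ∈ FourTransOdd30.stQ G (x 0) (x 1) (x 2) (x 3) :=
        ⟨g.2, hfix 0, hfix 1, hfix 2, hfix 3⟩
      rw [hbot, Subgroup.mem_bot] at this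
      exact Subtype.ext this
    rw [hcard, h1, hn, h11]
    rfl

end Cfsg.Agent.S4221
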