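import Cfsg.Statements.S4222

set_option autoImplicit false
open Cfsg

namespace Cfsg.Agent.S4222

/-- If a normal subgroup `N` of a finite group is complete (its centre is trivial and every automorphism of `N` is inner), then the group is the internal direct product of `N` and the centralizer of `N`: the centralizer is a complement to `N`. -/
theorem result {T : Type*} [Group T] [Finite T] (N : Subgroup T) [N.Normal] (hz : Subgroup.center ↥N = ⊥) (ha : Function.Surjective (MulAut.conj : ↥N →* MulAut ↥N)) : (Subgroup.centralizer (N : Set T)).IsComplement' N := by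
  have hmem : ∀ t : T, ∃ n : N, (n : T)⁻¹ * t ∈ Subgroup.centralizer (N : Set T) := by
    intro t
    obtain ⟨n, hn⟩ := ha (MulAut.conjNormal t)
    refine ⟨n, Subgroup.mem_centralizer_iff.mpr fun m hm => ?_⟩
    have h : (n : T) * m * (n : T)⁻¹ = t * m * t⁻¹ := by
      have := congrArg Subtype.val (DFunLike.congr_fun hn ⟨m, hm⟩)
      simpa using this
    calc m * ((n : T)⁻¹ * t) = (n : T)⁻¹ * ((n : T) * m * (n : T)⁻¹) * t := by group
      _ = (n : T)⁻¹ * t * m := by rw [h]; group
  have hdisj : Disjoint (Subgroup.centralizer (N : Set T)) N := by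
    rw [Subgroup.disjoint_def]
    intro x hxC hxN
    have : (⟨x, hxN⟩ : N) ∈ Subgroup.center N :=
      Subgroup.mem_center_iff.mpr fun m => Subtype.ext (Subgroup.mem_centralizer_iff.mp hxC m m.2)
    rw [hz, Subgroup.mem_bot] at this
    exact congrArg Subtype.val this
  refine Subgroup.isComplement'_of_disjoint_and_mul_eq_univ hdisj (Set.eq_univ_of_forall fun t => ?_)
  obtain ⟨n, hn⟩ := hmem t
  refine ⟨(n : T)⁻¹ * t, hn, n, n.2, ?_⟩
  have := Subgroup.mem_centralizer_iff.mp hn n n.2
  simp only
  rw [← this]; group

end Cfsg.Agent.S4222
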