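import Cfsg.Statements.S4224
import Mathlib
import Cfsg.Agent.Lib.PGroupsRegular

set_option autoImplicit false
open Cfsg

namespace Cfsg.Agent.S4224

open scoped Pointwise commutatorElement



/-- In a regular `p`-group, for all elements `a`, `b` and every power `q = p^k`: `a^q` commutes with `b` if and only if the commutator `a⁻¹b⁻¹ab` has `q`-th power equal to `1`. -/
theorem result {G : Type*} [Group G] [Finite G] {p : ℕ} [Fact p.Prime] (hG : Cfsg.IsRegularPGroup p G) (a b : G) (k : ℕ) : a ^ p ^ k * b = b * a ^ p ^ k ↔ (a⁻¹ * b⁻¹ * a * b) ^ p ^ k = 1 := by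
  have h := Cfsg.Agent.PGroupsRegular.pow_eq_pow_iff hG.1 (Cfsg.Agent.PGroupsRegular.regAt_of_regular hG k) a (b⁻¹ * a * b)
  rw [← mul_assoc, ← mul_assoc] at h
  rw [← h, show b⁻¹ * a * b = b⁻¹ * a * (b⁻¹)⁻¹ by rw [inv_inv], conj_pow, inv_inv]
  constructor
  · intro e; rw [mul_assoc, e, inv_mul_cancel_left]
  · intro e
    have := congrArg (fun t => b * t) e
    simp only [mul_assoc, mul_inv_cancel_left] at this
    exact this.symm

end Cfsg.Agent.S4224
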