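import Cfsg.Statements.S4227
import Cfsg.Agent.Lib.HallPLength
import Cfsg.Agent.Lib.CharInducedBurnside
import Cfsg.Agent.S4218

set_option autoImplicit false
open Cfsg

namespace Cfsg.Agent.S4227

open scoped Pointwise commutatorElement
open Subgroup Cfsg.Agent.HallCore Cfsg.Agent.HallSolvable Cfsg.Agent.HallConstrained Cfsg.Agent.HallPLength

theorem two_three_of_exponent_six {G : Type*} [Group G] [Finite G] (h : ∀ x : G, x ^ 6 = 1) {r : ℕ}
    (hr : r.Prime) (hd : r ∣ Nat.card G) : r = 2 ∨ r = 3 := by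
  have : Fact r.Prime := ⟨hr⟩
  obtain ⟨x, hx⟩ := exists_prime_orderOf_dvd_card' r hd
  have h6 : r ∣ 2 * 3 := hx ▸ orderOf_dvd_of_pow_eq_one (h x)
  rcases hr.dvd_mul.mp h6 with h2 | h2
  · exact Or.inl ((Nat.prime_dvd_prime_iff_eq hr Nat.prime_two).mp h2)
  · exact Or.inr ((Nat.prime_dvd_prime_iff_eq hr Nat.prime_three).mp h2)

theorem solvable_of_exponent_six {G : Type*} [Group G] [Finite G] (h : ∀ x : G, x ^ 6 = 1) :
    Group.IsSolvable G := by
  refine Cfsg.Agent.CharInduced.solvable_of_card_two_primes 2 3 ((Nat.card G).factorization 2)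
    ((Nat.card G).factorization 3) Nat.prime_two Nat.prime_three ?_
  conv_lhs => rw [← Nat.prod_factorization_pow_eq_self (Nat.card_pos (α := G)).ne']
  rw [Finsupp.prod_of_support_subset (s := ({2, 3} : Finset ℕ)) _ ?_ _ (fun i _ => pow_zero i)]
  · rw [Finset.prod_pair (by norm_num)]
  · intro r hr
    rw [Nat.support_factorization, Nat.mem_primeFactors] at hr
    simpa using two_three_of_exponent_six h hr.1 hr.2.1

theorem pow_eq_one_of_isPGroup {G : Type*} [Group G] {p n : ℕ} [hp : Fact p.Prime] {H : Subgroup G}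
    (hH : IsPGroup p H) {x : G} (hx : x ∈ H) (h : x ^ (p * n) = 1) (hn : ¬ p ∣ n) : x ^ p = 1 := by
  obtain ⟨k, hk⟩ := IsPGroup.iff_orderOf.mp hH ⟨x, hx⟩
  rw [← Subgroup.orderOf_coe] at hk
  change orderOf x = p ^ k at hk
  have hd := orderOf_dvd_of_pow_eq_one h
  rw [hk] at hd
  have : p ^ k ∣ p := (Nat.Coprime.pow_left k ((hp.out.coprime_iff_not_dvd).mpr hn)).dvd_of_dvd_mul_right hd
  exact orderOf_dvd_iff_pow_eq_one.mp (hk ▸ this)

/-- If `x`, `a * x`, `b * x`, `c * x` act without non-zero fixed norms, the four group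
`{1, a, b, c}` acts trivially on a group of exponent 3. -/
theorem trivial_of_relations {K M : Type*} [Group K] [CommGroup M] (φ : K →* MulAut M)
    (hm3 : ∀ m : M, m ^ 3 = 1) {x a b c : K} (haa : a * a = 1) (hc : c = a * b)
    (hab : a * b = b * a) (h1 : (a * x) * (a * x) = c * (x * x))
    (h2 : (b * x) * (b * x) = a * (x * x)) (h3 : (c * x) * (c * x) = b * (x * x))
    (hrel : ∀ k : K, k = x ∨ k = a * x ∨ k = b * x ∨ k = c * x →
      ∀ m : M, m * φ k m * φ (k * k) m = 1) (m : M) : φ a m = m := by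
  have key : ∀ m : M, φ a m * φ b m * φ c m = 1 := by
    intro m
    have r0 := hrel x (Or.inl rfl) m
    have ra := hrel (a * x) (Or.inr (Or.inl rfl)) m
    have rb := hrel (b * x) (Or.inr (Or.inr (Or.inl rfl))) m
    have rc := hrel (c * x) (Or.inr (Or.inr (Or.inr rfl))) m
    rw [h1, map_mul φ c (x * x), map_mul φ a x, MulAut.mul_apply, MulAut.mul_apply] at ra
    rw [h2, map_mul φ a (x * x), map_mul φ b x, MulAut.mul_apply, MulAut.mul_apply] at rb
    rw [h3, map_mul φ b (x * x), map_mul φ c x, MulAut.mul_apply, MulAut.mul_apply] at rc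
    have hn : φ x m * φ (x * x) m = m⁻¹ := eq_inv_of_mul_eq_one_right (by rw [← mul_assoc]; exact r0)
    have hall : m ^ 3 * (φ a (φ x m * φ (x * x) m) * φ b (φ x m * φ (x * x) m) *
        φ c (φ x m * φ (x * x) m)) = 1 := by
      calc _ = (m * φ a (φ x m) * φ c (φ (x * x) m)) * (m * φ b (φ x m) * φ a (φ (x * x) m)) *
            (m * φ c (φ x m) * φ b (φ (x * x) m)) := by
            simp only [map_mul (φ a), map_mul (φ b), map_mul (φ c), pow_succ, pow_zero, one_mul]
            ac_rfl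
        _ = 1 := by rw [ra, rb, rc, one_mul, one_mul]
    rw [hn, hm3, one_mul, map_inv, map_inv, map_inv] at hall
    rw [← inv_eq_one, mul_inv, mul_inv]
    exact hall
  have hA := key (φ a m)
  rw [← MulAut.mul_apply, ← MulAut.mul_apply, ← MulAut.mul_apply, ← map_mul, ← map_mul,
    ← map_mul, haa, map_one, MulAut.one_apply,
    show b * a = c by rw [hc, hab],
    show c * a = b by rw [hc, hab, mul_assoc, haa, mul_one]] at hA
  have hB := key m
  rw [mul_assoc, mul_comm (φ b m) (φ c m), ← mul_assoc, ← hA] at hB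
  exact mul_right_cancel (mul_right_cancel hB)

/-- In a group of exponent 6 without normal `3'`-subgroups, `G/O_3(G)` is a `3'`-group. -/
theorem index_pCore_coprime {H : Type*} [Group H] [Finite H] (h : ∀ x : H, x ^ 6 = 1)
    (hbot : Cfsg.pPrimeCore 3 H = ⊥) : (Cfsg.pCore 3 H).index.Coprime 3 := by
  have : Fact (Nat.Prime 3) := ⟨Nat.prime_three⟩
  have : Fact (Nat.Prime 2) := ⟨Nat.prime_two⟩
  have hsol := solvable_of_exponent_six h
  set Q := Cfsg.pCore 3 H with hQ
  have : Q.Normal := pCore_normal 3 H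
  set q := QuotientGroup.mk' Q
  have hK : ∀ k : H ⧸ Q, k ^ 6 = 1 := by
    intro k
    obtain ⟨y, rfl⟩ := QuotientGroup.mk'_surjective Q k
    rw [← map_pow, h, map_one]
  have hK2 : Cfsg.pPrimeCore 2 (H ⧸ Q) = ⊥ := by
    rw [← le_bot_iff, ← pCore_quotient_self 3 H]
    have := pPrimeCore_normal 2 (H ⧸ Q)
    refine le_pCore (IsPGroup.of_card
      (Nat.eq_prime_pow_of_unique_prime_dvd Nat.card_pos.ne' ?_))
    intro r hr hd
    rcases two_three_of_exponent_six (fun y => Subtype.ext (hK y)) hr hd with rfl | rfl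
    · exact absurd hd (not_dvd_card_pPrimeCore 2 (H ⧸ Q))
    · rfl
  set T := Cfsg.pCore 2 (H ⧸ Q)
  have : T.Normal := pCore_normal 2 (H ⧸ Q)
  have hT2 : ∀ t ∈ T, t * t = 1 := fun t ht => by
    rw [← pow_two]
    exact pow_eq_one_of_isPGroup (n := 3) (isPGroup_pCore 2 _) ht (hK t) (by norm_num)
  have hTc : ∀ s ∈ T, ∀ t ∈ T, s * t = t * s := fun s hs t ht => by
    have hi : ∀ u ∈ T, u⁻¹ = u := fun u hu => inv_eq_of_mul_eq_one_right (hT2 u hu)
    rw [← hi (s * t) (T.mul_mem hs ht), mul_inv_rev, hi s hs, hi t ht]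
  have hcenT := centralizer_pCore_le (isPSolvable_of_solvable 2) hK2
  have hcenQ := centralizer_pCore_le (isPSolvable_of_solvable 3) hbot
  set D := (frattini Q).map Q.subtype
  have hDn : D.Normal := inferInstance
  set π := QuotientGroup.mk' D
  set M := Q.map π
  have : M.Normal := map_normal_of_surjective (QuotientGroup.mk'_surjective D)
  have hMc : IsMulCommutative M := by
    refine ⟨⟨?_⟩⟩
    rintro ⟨_, y, hy, rfl⟩ ⟨_, z, hz, rfl⟩
    refine Subtype.ext ?_
    show π y * π z = π z * π y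
    rw [← commutatorElement_eq_one_iff_mul_comm, ← map_commutatorElement]
    exact (QuotientGroup.eq_one_iff _).mpr ⟨⁅(⟨y, hy⟩ : ↥Q), ⟨z, hz⟩⁆,
      Cfsg.Agent.PGroupsBasic.commutator_le_frattini (isPGroup_pCore 3 H)
        (Subgroup.commutator_mem_commutator (Subgroup.mem_top _) (Subgroup.mem_top _)), rfl⟩
  let _ : CommGroup M := { (inferInstance : Group M) with mul_comm := hMc.is_comm.comm }
  let ψ : H →* MulAut M := MulAut.conjNormal.comp π
  have hψ : ∀ (y : H) (m : M), ((ψ y m : M) : H ⧸ D) = π y * m * (π y)⁻¹ := fun y m => rfl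
  have hker : Q ≤ ψ.ker := by
    intro y hy
    rw [MonoidHom.mem_ker]
    refine MulEquiv.ext fun m => Subtype.ext ?_
    rw [hψ, mul_inv_eq_iff_eq_mul]
    exact congrArg Subtype.val (hMc.is_comm.comm ⟨π y, y, hy, rfl⟩ m)
  let φ : H ⧸ Q →* MulAut M := QuotientGroup.lift Q ψ hker
  have hq3 : ∀ y ∈ Q, y ^ 3 = 1 := fun y hy =>
    pow_eq_one_of_isPGroup (n := 2) (isPGroup_pCore 3 H) hy (h y) (by norm_num)
  have hlift : ∀ y : H, q y ^ 3 = 1 → y ^ 3 = 1 := by
    intro y hy
    rw [← map_pow] at hy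
    have h3 := hq3 _ ((QuotientGroup.eq_one_iff _).mp hy)
    have h6 := h y
    have h9 : (y ^ 6) * (y ^ 3) = 1 := by
      rw [← pow_add, show 6 + 3 = 3 * 3 from rfl, pow_mul, h3]
    rwa [h6, one_mul] at h9
  have hrel : ∀ k : H ⧸ Q, k ^ 3 = 1 → ∀ m : M, m * φ k m * φ (k * k) m = 1 := by
    intro k hk m
    obtain ⟨y, rfl⟩ := QuotientGroup.mk'_surjective Q k
    obtain ⟨_, z, hz, rfl⟩ := m
    have hy := hlift y hk
    have hzy := hlift (z * y) (by
      rw [map_mul, show q z = 1 from (QuotientGroup.eq_one_iff z).mpr hz, one_mul]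
      exact hk)
    rw [← map_mul]
    refine Subtype.ext ?_
    show π z * (π y * π z * (π y)⁻¹) * (π (y * y) * π z * (π (y * y))⁻¹) = 1
    rw [← map_inv, ← map_inv, ← map_mul, ← map_mul, ← map_mul, ← map_mul, ← map_mul, ← map_mul,
      show z * (y * z * y⁻¹) * (y * y * z * (y * y)⁻¹) = (z * y) ^ 3 * (y ^ 3)⁻¹ by
        simp only [pow_succ, pow_zero, one_mul]; group,
      hzy, hy, inv_one, one_mul, map_one]
  have hm3 : ∀ m : M, m ^ 3 = 1 := by
    rintro ⟨_, z, hz, rfl⟩
    refine Subtype.ext ?_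
    show π z ^ 3 = 1
    rw [← map_pow, hq3 z hz, map_one]
  have hx : ∀ x : H ⧸ Q, x ^ 3 = 1 → ∀ t ∈ T, t * x = x * t := by
    intro x hx t ht
    have hx' : x * (x * x) = 1 := by rw [← mul_assoc, ← hx]; simp [pow_succ]
    have hTn : T.Normal := inferInstance
    set t₁ := x * t * x⁻¹ with ht₁
    set t₂ := x * t₁ * x⁻¹ with ht₂
    have ht₁m : t₁ ∈ T := hTn.conj_mem t ht x
    have ht₂m : t₂ ∈ T := hTn.conj_mem t₁ ht₁m x
    have ht₃ : x * t₂ * x⁻¹ = t := by
      calc x * t₂ * x⁻¹ = (x * (x * x)) * t * (x * (x * x))⁻¹ := by rw [ht₂, ht₁]; group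
        _ = t := by rw [hx']; group
    set a := t₁ * t
    set b := t₂ * t₁
    set c := t * t₂
    have ham : a ∈ T := T.mul_mem ht₁m ht
    have hbm : b ∈ T := T.mul_mem ht₂m ht₁m
    have hcm : c ∈ T := T.mul_mem ht ht₂m
    have hab : c = a * b := by
      show t * t₂ = t₁ * t * (t₂ * t₁)
      rw [← mul_assoc (t₁ * t), mul_assoc t₁ t t₂, hTc t₁ ht₁m _ hcm, mul_assoc (t * t₂),
        hT2 t₁ ht₁m, mul_one]
    have hbc : a = b * c := by
      rw [hab, hTc a ham b hbm, ← mul_assoc, hT2 b hbm, one_mul]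
    have hca : b = c * a := by
      rw [hTc c hcm a ham, hab, ← mul_assoc, hT2 a ham, one_mul]
    have hxa : x * a * x⁻¹ = b := by
      show x * (t₁ * t) * x⁻¹ = t₂ * t₁
      rw [ht₂, ht₁]; group
    have hxb : x * b * x⁻¹ = c := by
      calc x * (t₂ * t₁) * x⁻¹ = (x * t₂ * x⁻¹) * (x * t₁ * x⁻¹) := by group
        _ = c := by rw [ht₃, ← ht₂]
    have hxc : x * c * x⁻¹ = a := by
      calc x * (t * t₂) * x⁻¹ = t₁ * (x * t₂ * x⁻¹) := by rw [ht₁]; group
        _ = a := by rw [ht₃]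
    have hsq : ∀ u : H ⧸ Q, (u * x) * (u * x) = u * (x * u * x⁻¹) * (x * x) := fun u => by group
    have h1 : (a * x) * (a * x) = c * (x * x) := by rw [hsq, hxa, ← hab]
    have h2 : (b * x) * (b * x) = a * (x * x) := by rw [hsq, hxb, ← hbc]
    have h3 : (c * x) * (c * x) = b * (x * x) := by rw [hsq, hxc, ← hca]
    have hcube : ∀ u v : H ⧸ Q, (u * x) * (u * x) = v * (x * x) →
        v * (x * (x * u * x⁻¹) * x⁻¹) = 1 → (u * x) ^ 3 = 1 := by
      intro u v huv hprod
      rw [pow_succ, pow_two, huv,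
        show v * (x * x) * (u * x) = v * (x * (x * u * x⁻¹) * x⁻¹) * (x * (x * x)) by group,
        hprod, hx', one_mul]
    have hk : ∀ k, k = x ∨ k = a * x ∨ k = b * x ∨ k = c * x →
        ∀ m : M, m * φ k m * φ (k * k) m = 1 := by
      rintro k (rfl | rfl | rfl | rfl)
      · exact hrel _ hx
      · exact hrel _ (hcube a c h1 (by rw [hxa, hxb, hT2 c hcm]))
      · exact hrel _ (hcube b a h2 (by rw [hxb, hxc, hT2 a ham]))
      · exact hrel _ (hcube c b h3 (by rw [hxc, hxa, hT2 b hbm]))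
    have hfix := trivial_of_relations φ hm3 (hT2 a ham) hab (hTc a ham b hbm) h1 h2 h3 hk
    obtain ⟨u, hu⟩ := QuotientGroup.mk'_surjective Q a
    have huQ : u ∈ Q := by
      refine Cfsg.Agent.S4218.mem_pCore_of_trivial_frattini hcenQ fun y hy => ?_
      refine (QuotientGroup.eq_one_iff _).mp ?_
      show π (u * y * u⁻¹ * y⁻¹) = 1
      have := congrArg Subtype.val (hfix ⟨π y, y, hy, rfl⟩)
      rw [← hu] at this
      change π u * π y * (π u)⁻¹ = π y at this
      rw [map_mul, map_mul, map_mul, map_inv, map_inv, this, mul_inv_cancel]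
    have ha1 : t₁ * t = 1 := by
      show a = 1
      rw [← hu]
      exact (QuotientGroup.eq_one_iff u).mpr huQ
    have : t₁ = t := by
      rw [← inv_eq_of_mul_eq_one_left ha1, inv_eq_of_mul_eq_one_right (hT2 t ht)]
    rw [ht₁, mul_inv_eq_iff_eq_mul] at this
    exact this.symm
  rw [Nat.coprime_comm, Nat.Prime.coprime_iff_not_dvd Nat.prime_three, Subgroup.index_eq_card]
  intro hd
  obtain ⟨x, hx3⟩ := exists_prime_orderOf_dvd_card' 3 hd
  have hxT : x ∈ T := hcenT fun t ht => hx x (hx3 ▸ pow_orderOf_eq_one x) t ht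
  have := hT2 x hxT
  rw [← pow_two, ← orderOf_dvd_iff_pow_eq_one, hx3] at this
  norm_num at this

/-- A finite group in which every element has order dividing `6` has `2`-length at most `1` and `3`-length at most `1`. -/
theorem result {G : Type*} [Group G] [Finite G] (h : ∀ x : G, x ^ 6 = 1) : Cfsg.PLengthLE 2 1 G ∧ Cfsg.PLengthLE 3 1 G := by
  have : Fact (Nat.Prime 3) := ⟨Nat.prime_three⟩
  have : Fact (Nat.Prime 2) := ⟨Nat.prime_two⟩
  have hsol := solvable_of_exponent_six h
  constructor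
  · obtain ⟨S⟩ : Nonempty (Sylow 2 G) := inferInstance
    have : Group.IsNilpotent ↥(S : Subgroup G) := S.2.isNilpotent
    have hi : ∀ u : ↥(S : Subgroup G), u⁻¹ = u := fun u => inv_eq_of_mul_eq_one_right (Subtype.ext (by
      show (u : G) * u = 1
      rw [← pow_two]
      exact pow_eq_one_of_isPGroup (n := 3) S.2 u.2 (h _) (by norm_num)))
    let _ : CommGroup ↥(S : Subgroup G) :=
      { (inferInstance : Group ↥(S : Subgroup G)) with
        mul_comm := fun a b => by rw [← hi (a * b), mul_inv_rev, hi, hi] }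
    exact pLengthLE_of_class_le 1 (isPSolvable_of_solvable 2) S CommGroup.nilpotencyClass_le_one
  · rw [pLengthLE_succ_iff, pLengthLE_zero_iff, ← Subgroup.index_eq_card]
    rw [show (2 : ℕ) = 2 * 0 + 2 from rfl, term, upperPSeries_even,
      Subgroup.index_comap_of_surjective _ (QuotientGroup.mk'_surjective _)]
    refine index_pCore_coprime ?_ (pPrimeCore_quotient_upperPSeries 0)
    intro k
    obtain ⟨y, rfl⟩ := QuotientGroup.mk'_surjective _ k
    rw [← map_pow, h, map_one]

end Cfsg.Agent.S4227
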