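import Cfsg.Statements.S4230
import Mathlib

set_option autoImplicit false
open Cfsg

namespace Cfsg.Agent.S4230

/-- Let p be an odd prime, q a natural number not divisible by p, and e the multiplicative order of q modulo p. For a natural number f, p divides the value at q of the f-th cyclotomic polynomial if and only if f = e·p^j for some j ≥ 0. -/
theorem result (p q f : ℕ) (hp : p.Prime) (hp2 : p ≠ 2) (hpq : ¬ p ∣ q) :
    ((p : ℤ) ∣ (Polynomial.cyclotomic f ℤ).eval (q : ℤ)) ↔ ∃ j : ℕ, f = orderOf (q : ZMod p) * p ^ j := by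
  have : Fact p.Prime := ⟨hp⟩
  have hq0 : (q : ZMod p) ≠ 0 := fun h => hpq ((ZMod.natCast_eq_zero_iff _ _).mp h)
  have he : 0 < orderOf (q : ZMod p) := orderOf_pos_iff.mpr (isOfFinOrder_iff_pow_eq_one.mpr
    ⟨p - 1, Nat.sub_pos_of_lt hp.one_lt, ZMod.pow_card_sub_one_eq_one hq0⟩)
  rw [← ZMod.intCast_zmod_eq_zero_iff_dvd]
  have hev : (((Polynomial.cyclotomic f ℤ).eval (q : ℤ) : ℤ) : ZMod p) =
      (Polynomial.cyclotomic f (ZMod p)).eval (q : ZMod p) := by
    rw [← Polynomial.map_cyclotomic_int f (ZMod p), Polynomial.eval_natCast_map]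
    simp
  rw [hev]
  constructor
  · intro h
    have hf : 0 < f := Nat.pos_of_ne_zero fun hf => by simp [hf] at h
    obtain ⟨j, m, hm, rfl⟩ := Nat.exists_eq_pow_mul_and_not_dvd hf.ne' p hp.ne_one
    have : NeZero (m : ZMod p) := ⟨fun h => hm ((ZMod.natCast_eq_zero_iff _ _).mp h)⟩
    have h' : (Polynomial.cyclotomic (p ^ j * m) (ZMod p)).IsRoot (q : ZMod p) := h
    rw [Polynomial.isRoot_cyclotomic_prime_pow_mul_iff_of_charP] at h'
    exact ⟨j, by rw [← h'.eq_orderOf, mul_comm]⟩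
  · rintro ⟨j, rfl⟩
    have hdvd : orderOf (q : ZMod p) ∣ p - 1 := orderOf_dvd_of_pow_eq_one (ZMod.pow_card_sub_one_eq_one hq0)
    have hnd : ¬ p ∣ orderOf (q : ZMod p) := fun h => by
      have := Nat.le_of_dvd (Nat.sub_pos_of_lt hp.one_lt) (h.trans hdvd)
      have := hp.one_lt
      omega
    have : NeZero (orderOf (q : ZMod p) : ZMod p) := ⟨fun h => hnd ((ZMod.natCast_eq_zero_iff _ _).mp h)⟩
    show (Polynomial.cyclotomic _ (ZMod p)).IsRoot (q : ZMod p)
    rw [mul_comm, Polynomial.isRoot_cyclotomic_prime_pow_mul_iff_of_charP]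
    exact IsPrimitiveRoot.orderOf _

end Cfsg.Agent.S4230
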