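import Cfsg.Statements.S4234
import Mathlib
import Cfsg.Agent.Lib.DicksonFourGroups
import Cfsg.Agent.Lib.PSL2Classes52
import Cfsg.Agent.Lib.DicksonMaximal

set_option autoImplicit false
open Cfsg

namespace Cfsg.Agent.S4234


open scoped MatrixGroups

section abstract

variable {G : Type*} [Group G] [Finite G]

/-- The properties of `PSL(2,13)` that are needed. -/
structure Hyp (G : Type*) [Group G] : Prop where
  card : Nat.card G = 1092
  simple : IsSimpleGroup G
  pow : ∀ g : G, g ^ 13 = 1 ∨ g ^ 6 = 1 ∨ g ^ 7 = 1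
  inv : ∀ x : G, orderOf x = 2 → Nat.card (Subgroup.centralizer ({x} : Set G)) = 12
  fours : Nat.card {W : Subgroup G // IsKleinFour W} = 91

theorem no_order (hG : Hyp G) {g : G} {n : ℕ} (hn : orderOf g = n) :
    n ∣ 13 ∨ n ∣ 6 ∨ n ∣ 7 := by
  subst hn
  rcases hG.pow g with h | h | h
  exacts [Or.inl (orderOf_dvd_of_pow_eq_one h), Or.inr (Or.inl (orderOf_dvd_of_pow_eq_one h)),
    Or.inr (Or.inr (orderOf_dvd_of_pow_eq_one h))]

theorem card_le (hG : Hyp G) {L : Subgroup G} (hL : L ≠ ⊤) :
    Nat.card L ∣ 1092 ∧ Nat.card L ≤ 84 := by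
  haveI := hG.simple
  refine ⟨hG.card ▸ Subgroup.card_subgroup_dvd_card L, ?_⟩
  have hcore : L.normalCore = ⊥ := (L.normalCore_normal.eq_bot_or_eq_top).resolve_right fun e =>
    hL (eq_top_iff.mpr (e ▸ L.normalCore_le))
  have hinj : Function.Injective (MulAction.toPermHom G (G ⧸ L)) := by
    rw [← MonoidHom.ker_eq_bot_iff, ← hcore]
    exact (Subgroup.normalCore_eq_ker L).symm
  have hdvd := Subgroup.card_dvd_of_injective _ hinj
  rw [hG.card, Nat.card_perm] at hdvd
  have h13 : 13 ≤ L.index := (Nat.Prime.dvd_factorial (by norm_num)).mp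
    ((show 13 ∣ 1092 by norm_num).trans hdvd)
  have := L.card_mul_index
  rw [hG.card] at this
  nlinarith

theorem sylow_of_card {r : ℕ} [Fact r.Prime] {H : Type*} [Group H] [Finite H] (Q : Subgroup H)
    (hQ : Nat.card Q = r) (hr : ¬ r * r ∣ Nat.card H) : ∃ P : Sylow r H, (P : Subgroup H) = Q := by
  obtain ⟨P, hP⟩ := (IsPGroup.of_card (p := r) (n := 1) (by rw [hQ, pow_one])).exists_le_sylow
  refine ⟨P, (Subgroup.eq_of_le_of_card_ge hP ?_).symm⟩
  obtain ⟨a, ha⟩ := P.2.exists_card_eq
  have hd := Subgroup.card_subgroup_dvd_card (P : Subgroup H)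
  rw [hQ, ha]
  rw [ha] at hd
  by_contra hlt
  have h2 : 2 ≤ a := by
    by_contra hle
    exact hlt (le_trans (Nat.pow_le_pow_right (Fact.out : r.Prime).pos (by omega)) (pow_one r).le)
  exact hr ((dvd_of_eq (sq r).symm).trans ((pow_dvd_pow r h2).trans hd))

/-- A subgroup with order divisible by `r ∈ {7, 13}` normalises one of order `r`. -/
theorem normal_in (hG : Hyp G) {r : ℕ} (hr : r = 7 ∨ r = 13) {L : Subgroup G} (hL : L ≠ ⊤)
    (hd : r ∣ Nat.card L) :
    ∃ Q : Subgroup G, Nat.card Q = r ∧ Q ≤ L ∧ L ≤ Subgroup.normalizer (Q : Set G) := by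
  haveI : Fact r.Prime := ⟨by rcases hr with rfl | rfl <;> norm_num⟩
  obtain ⟨x, hx⟩ := exists_prime_orderOf_dvd_card' r hd
  have hz : Nat.card (Subgroup.zpowers x) = r := by rw [Nat.card_zpowers, hx]
  obtain ⟨h1, h84⟩ := card_le hG hL
  have hns : ¬ r * r ∣ Nat.card L := fun e => by
    have := e.trans h1
    rcases hr with rfl | rfl <;> norm_num at this
  obtain ⟨P, hP⟩ := sylow_of_card _ hz hns
  have hone : Nat.card (Sylow r L) = 1 := by
    have h3 : Nat.card (Sylow r L) % r = 1 % r := card_sylow_modEq_one r L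
    have h4 : Nat.card (Sylow r L) ∣ (P : Subgroup L).index := P.card_dvd_index
    have h5 := (P : Subgroup L).card_mul_index
    rw [hP, hz] at h5
    rw [hP] at h4
    have h6 : Nat.card (Sylow r L) ∣ 1092 := h4.trans ((Dvd.intro_left _ h5).trans h1)
    have h7 : Nat.card (Sylow r L) ≤ 84 / r := by
      refine (Nat.le_of_dvd (Nat.pos_of_ne_zero Subgroup.index_ne_zero_of_finite) h4).trans ?_
      rw [Nat.le_div_iff_mul_le (Fact.out : r.Prime).pos, mul_comm]
      omega
    revert h3 h6 h7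
    generalize Nat.card (Sylow r L) = n
    rcases hr with rfl | rfl <;> intro h3 h6 h7 <;> norm_num at h7 h3 <;> interval_cases n <;>
      omega
  have hsub : Subsingleton (Sylow r L) := (Nat.card_eq_one_iff_unique.mp hone).1
  have hnorm : (Subgroup.zpowers x).Normal := hP ▸ Sylow.normal_of_subsingleton P
  refine ⟨(Subgroup.zpowers x).map L.subtype, ?_, Subgroup.map_subtype_le _, fun g hg => ?_⟩
  · rw [← hz]
    exact (Nat.card_congr ((Subgroup.zpowers x).equivMapOfInjective _ L.subtype_injective).toEquiv).symm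
  · refine DicksonMaximal.mem_normalizer_of fun y hy => ?_
    obtain ⟨z, hzm, rfl⟩ := hy
    exact ⟨⟨g, hg⟩ * z * ⟨g, hg⟩⁻¹, hnorm.conj_mem z hzm ⟨g, hg⟩, rfl⟩

theorem normalizer_ne_top (hG : Hyp G) {H : Subgroup G} (h1 : H ≠ ⊥) (h2 : H ≠ ⊤) :
    Subgroup.normalizer (H : Set G) ≠ ⊤ := fun e => by
  haveI := hG.simple
  rcases (Subgroup.normalizer_eq_top_iff.mp e).eq_bot_or_eq_top with h | h
  exacts [h1 h, h2 h]

theorem small_ne (hG : Hyp G) {H : Subgroup G} {n : ℕ} (h : Nat.card H = n) (h1 : n ≠ 1)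
    (h2 : n ≠ 1092) : H ≠ ⊥ ∧ H ≠ ⊤ := by
  refine ⟨?_, ?_⟩ <;> rintro rfl
  · rw [Subgroup.card_bot] at h; exact h1 h.symm
  · rw [Subgroup.card_top, hG.card] at h; exact h2 h.symm

theorem card_normalizer_big (hG : Hyp G) {r : ℕ} (hr : r = 7 ∨ r = 13) {Q : Subgroup G}
    (hQ : Nat.card Q = r) :
    (r = 7 → Nat.card (Subgroup.normalizer (Q : Set G)) = 14) ∧
      (r = 13 → Nat.card (Subgroup.normalizer (Q : Set G)) = 78) := by
  haveI : Fact r.Prime := ⟨by rcases hr with rfl | rfl <;> norm_num⟩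
  obtain ⟨P, hP⟩ := sylow_of_card Q hQ (by rw [hG.card]; rcases hr with rfl | rfl <;> norm_num)
  have hmod : (Subgroup.normalizer (Q : Set G)).index % r = 1 % r := by
    rw [← hP]
    erw [← P.card_eq_index_normalizer]
    exact card_sylow_modEq_one r G
  obtain ⟨hd, h84⟩ := card_le hG (normalizer_ne_top hG
    (small_ne hG hQ (by omega) (by omega)).1 (small_ne hG hQ (by omega) (by omega)).2)
  have hQd : r ∣ Nat.card (Subgroup.normalizer (Q : Set G)) :=
    hQ ▸ Subgroup.card_dvd_of_le Subgroup.le_normalizer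
  have hmul := (Subgroup.normalizer (Q : Set G)).card_mul_index
  rw [hG.card] at hmul
  obtain ⟨m, hm⟩ := hQd
  rw [hm] at hmul hd h84 ⊢
  revert hmod hd hmul h84
  generalize (Subgroup.normalizer (Q : Set G)).index = i
  rcases hr with rfl | rfl <;> intro hmod hd h84 hmul <;>
    (have : m ≤ 12 := by omega) <;> interval_cases m <;> omega

/-- Subgroups of orders 12, 14, 78 are maximal. -/
theorem coatom_of_card (hG : Hyp G) {K : Subgroup G}
    (hK : Nat.card K = 12 ∨ Nat.card K = 14 ∨ Nat.card K = 78) : IsCoatom K := by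
  refine ⟨(small_ne hG rfl (by omega) (by omega)).2, fun L hKL => ?_⟩
  by_contra hL
  obtain ⟨h1, h84⟩ := card_le hG hL
  have hd := Subgroup.card_dvd_of_le hKL.le
  have hlt : Nat.card K < Nat.card L :=
    lt_of_not_ge fun h => hKL.ne (Subgroup.eq_of_le_of_card_ge hKL.le h)
  have h7 : 7 ∣ Nat.card L ∧ 14 < Nat.card L := by
    refine ⟨?_, by rcases hK with e | e | e <;> rw [e] at hd hlt <;> omega⟩
    revert h1 h84 hd hlt
    generalize Nat.card L = l
    intro h1 h84 hd hlt
    rcases hK with e | e | e <;> rw [e] at hd hlt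
    · interval_cases l <;> first | omega | (norm_num at h1 hd ⊢)
    · exact (show 7 ∣ 14 by norm_num).trans hd
    · omega
  obtain ⟨Q, hQ, -, hle⟩ := normal_in hG (Or.inl rfl) hL h7.1
  have := Subgroup.card_le_of_le hle
  rw [(card_normalizer_big hG (Or.inl rfl) hQ).1 rfl] at this
  omega

theorem orbit_bound (hG : Hyp G) (H : Subgroup G) (P : Subgroup G → Prop)
    (hP : ∀ g : G, P (H.map (MulAut.conj g).toMonoidHom)) (hn : Nat.card {W : Subgroup G // P W} ≤ 91) :
    12 ≤ Nat.card (Subgroup.normalizer (H : Set G)) := by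
  set N := Subgroup.normalizer (H : Set G) with hN
  have key : ∀ g g' : G, H.map (MulAut.conj g).toMonoidHom = H.map (MulAut.conj g').toMonoidHom →
      g⁻¹ * g' ∈ N := by
    intro g g' e
    rw [hN, Subgroup.mem_normalizer_iff_map_conj_eq]
    refine Subgroup.map_injective (f := (MulAut.conj g).toMonoidHom) (MulAut.conj g).injective ?_
    show Subgroup.map _ (H.map (MulAut.conj (g⁻¹ * g')).toMonoidHom) = _
    rw [Subgroup.map_map, e]
    congr 1
    ext y
    simp [MulAut.conj_apply, mul_assoc]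
  have hle : N.index ≤ 91 := by
    refine le_trans ?_ hn
    refine Nat.card_le_card_of_injective (α := G ⧸ N)
      (fun c => (⟨_, hP c.out⟩ : {W : Subgroup G // P W})) fun c c' e => ?_
    rw [← QuotientGroup.out_eq' c, ← QuotientGroup.out_eq' c', QuotientGroup.eq]
    exact key _ _ (congrArg Subtype.val e)
  have := N.card_mul_index
  rw [hG.card] at this
  nlinarith

theorem four_case (hG : Hyp G) {H : Subgroup G} (h4 : Nat.card H = 4) :
    Nat.card (Subgroup.normalizer (H : Set G)) = 12 := by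
  have hexp : ∀ x : H, x ^ 2 = 1 := by
    intro x
    have hd : orderOf x ∣ 4 := h4 ▸ orderOf_dvd_natCard x
    have hx : orderOf (x : G) = orderOf x := Subgroup.orderOf_coe x
    apply orderOf_dvd_iff_pow_eq_one.mp
    have h := no_order hG hx
    have := Nat.le_of_dvd (by norm_num) hd
    revert hd h this
    generalize orderOf x = n
    intro hd h hle
    interval_cases n <;> omega
  have hK : IsKleinFour H := by
    refine ⟨h4, ?_⟩
    haveI : Nontrivial H := Finite.one_lt_card_iff_nontrivial.mp (by omega)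
    exact Monoid.exponent_eq_prime_iff (by norm_num : Nat.Prime 2) |>.mpr fun g hg =>
      orderOf_eq_prime (hexp g) hg
  have h12 := orbit_bound hG H (fun W => IsKleinFour W)
    (fun g => DicksonFourGroups.map_klein hK _ (MulAut.conj g).injective) hG.fours.le
  obtain ⟨hd, h84⟩ := card_le hG (normalizer_ne_top hG
    (small_ne hG h4 (by norm_num) (by norm_num)).1 (small_ne hG h4 (by norm_num) (by norm_num)).2)
  have h4N : 4 ∣ Nat.card (Subgroup.normalizer (H : Set G)) :=
    h4 ▸ Subgroup.card_dvd_of_le Subgroup.le_normalizer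
  by_contra hne
  set N := Subgroup.normalizer (H : Set G) with hN
  have hr : ∃ r, (r = 7 ∨ r = 13) ∧ r ∣ Nat.card N := by
    revert hd h84 h4N h12 hne
    generalize Nat.card N = n
    intro h12 hd h84 h4N hne
    interval_cases n <;> first
      | omega
      | (refine ⟨7, Or.inl rfl, ?_⟩; omega)
      | (refine ⟨13, Or.inr rfl, ?_⟩; omega)
  obtain ⟨r, hr, hrd⟩ := hr
  obtain ⟨Q, hQ, -, hle⟩ := normal_in hG hr (normalizer_ne_top hG
    (small_ne hG h4 (by norm_num) (by norm_num)).1 (small_ne hG h4 (by norm_num) (by norm_num)).2) hrd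
  have := Subgroup.card_dvd_of_le hle
  rcases hr with rfl | rfl
  · rw [(card_normalizer_big hG (Or.inl rfl) hQ).1 rfl] at this
    exact absurd (h4N.trans this) (by norm_num)
  · rw [(card_normalizer_big hG (Or.inr rfl) hQ).2 rfl] at this
    exact absurd (h4N.trans this) (by norm_num)

theorem three_case (hG : Hyp G) {H : Subgroup G} (h3 : Nat.card H = 3) :
    Nat.card (Subgroup.normalizer (H : Set G)) = 12 := by
  haveI : Fact (Nat.Prime 2) := ⟨Nat.prime_two⟩
  haveI : Fact (Nat.Prime 3) := ⟨Nat.prime_three⟩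
  obtain ⟨x, hx⟩ := exists_prime_orderOf_dvd_card' (G := G) 2 (by rw [hG.card]; norm_num)
  obtain ⟨y, hy⟩ := exists_prime_orderOf_dvd_card'
    (G := Subgroup.centralizer ({x} : Set G)) 3 (by rw [hG.inv x hx]; norm_num)
  have hs : ¬ 3 * 3 ∣ Nat.card G := by rw [hG.card]; norm_num
  obtain ⟨P, hP⟩ := sylow_of_card H h3 hs
  obtain ⟨P', hP'⟩ := sylow_of_card (Subgroup.zpowers (y : G))
    (by rw [Nat.card_zpowers, Subgroup.orderOf_coe, hy]) hs
  obtain ⟨g, hg⟩ := MulAction.exists_smul_eq G P' P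
  have hHy : H = (Subgroup.zpowers (y : G)).map (MulAut.conj g).toMonoidHom := by
    rw [← hP, ← hg, ← hP']; rfl
  set N := Subgroup.normalizer (H : Set G) with hN
  have hgx : MulAut.conj g x ∈ N := by
    refine DicksonMaximal.mem_normalizer_of fun z hz => ?_
    rw [hHy] at hz ⊢
    obtain ⟨w, hw, rfl⟩ := hz
    refine ⟨w, hw, ?_⟩
    obtain ⟨i, rfl⟩ := Subgroup.mem_zpowers_iff.mp hw
    have hc : x * (y : G) ^ i * x⁻¹ = (y : G) ^ i := mul_inv_eq_iff_eq_mul.mpr
      ((Commute.zpow_right (show Commute x (y : G) from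
        (Subgroup.mem_centralizer_singleton_iff.mp y.2).symm) i).eq)
    show MulAut.conj g ((y : G) ^ i) = MulAut.conj g x * MulAut.conj g ((y : G) ^ i) * (MulAut.conj g x)⁻¹
    rw [← map_inv, ← map_mul, ← map_mul, hc]
  have h2d : 2 ∣ Nat.card N := by
    have := orderOf_dvd_natCard (⟨_, hgx⟩ : N)
    rwa [Subgroup.orderOf_mk, MulEquiv.orderOf_eq, hx] at this
  have h3d : 3 ∣ Nat.card N := h3 ▸ Subgroup.card_dvd_of_le Subgroup.le_normalizer
  have hmod : N.index % 3 = 1 % 3 := by
    rw [hN, ← hP]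
    erw [← P.card_eq_index_normalizer]
    exact card_sylow_modEq_one 3 G
  have hNt : N ≠ ⊤ := normalizer_ne_top hG
    (small_ne hG h3 (by norm_num) (by norm_num)).1 (small_ne hG h3 (by norm_num) (by norm_num)).2
  obtain ⟨hd, h84⟩ := card_le hG hNt
  have hmul := N.card_mul_index
  rw [hG.card] at hmul
  have no7 : ¬ 7 ∣ Nat.card N := fun h => by
    obtain ⟨Q, hQ, -, hle⟩ := normal_in hG (Or.inl rfl) hNt h
    have := Subgroup.card_dvd_of_le hle
    rw [(card_normalizer_big hG (Or.inl rfl) hQ).1 rfl] at this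
    exact absurd (h3d.trans this) (by norm_num)
  revert hmod hd h84 hmul h2d h3d no7
  generalize N.index = i
  generalize Nat.card N = n
  intro h2d h3d hmod hd h84 hmul no7
  interval_cases n <;> omega

theorem two_case (hG : Hyp G) {H : Subgroup G} (h2 : Nat.card H = 2) :
    IsCoatom (Subgroup.normalizer (H : Set G)) := by
  haveI : Fact (Nat.Prime 2) := ⟨Nat.prime_two⟩
  obtain ⟨x, hx⟩ := exists_prime_orderOf_dvd_card' (G := H) 2 (by rw [h2])
  have hH : Subgroup.zpowers (x : G) = H := Subgroup.eq_of_le_of_card_ge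
    (Subgroup.zpowers_le.mpr x.2) (by rw [Nat.card_zpowers, Subgroup.orderOf_coe, hx, h2])
  have hle : Subgroup.centralizer ({(x : G)} : Set G) ≤ Subgroup.normalizer (H : Set G) := by
    intro g hg
    refine DicksonMaximal.mem_normalizer_of fun z hz => ?_
    rw [← hH] at hz ⊢
    obtain ⟨i, rfl⟩ := Subgroup.mem_zpowers_iff.mp hz
    refine Subgroup.mem_zpowers_iff.mpr ⟨i, ?_⟩
    exact (mul_inv_eq_iff_eq_mul.mpr ((Commute.zpow_right (show Commute g (x : G) from
      Subgroup.mem_centralizer_singleton_iff.mp hg) i).eq)).symm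
  have hc := coatom_of_card hG (Or.inl (hG.inv x (by rw [Subgroup.orderOf_coe, hx])))
  rwa [(hc.le_iff.mp hle).resolve_left (normalizer_ne_top hG
    (small_ne hG h2 (by norm_num) (by norm_num)).1 (small_ne hG h2 (by norm_num) (by norm_num)).2)]

theorem normal_of_prime_index_two {P H : Subgroup G} (hPH : P ≤ H) (hHN : H ≤ Subgroup.normalizer (P : Set G))
    (h : Nat.card (Subgroup.normalizer (P : Set G)) = 2 * Nat.card H) :
    Subgroup.normalizer (P : Set G) ≤ Subgroup.normalizer (H : Set G) := by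
  have hn : (H.subgroupOf (Subgroup.normalizer (P : Set G))).Normal := by
    refine Subgroup.normal_of_index_eq_two ?_
    have := (H.subgroupOf (Subgroup.normalizer (P : Set G))).card_mul_index
    rw [Nat.card_congr (Subgroup.subgroupOfEquivOfLe hHN).toEquiv, h] at this
    have hpos : 0 < Nat.card H := Nat.card_pos
    nlinarith
  intro g hg
  refine DicksonMaximal.mem_normalizer_of fun z hz => ?_
  exact hn.conj_mem ⟨z, hHN hz⟩ hz ⟨g, hg⟩

/-- Every nontrivial proper subgroup has maximal normaliser. -/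
theorem main (hG : Hyp G) {H : Subgroup G} (h1 : H ≠ ⊥) (h2 : H ≠ ⊤) :
    IsCoatom (Subgroup.normalizer (H : Set G)) := by
  obtain ⟨hd, h84⟩ := card_le hG h2
  have hNt := normalizer_ne_top hG h1 h2
  have finish : ∀ K : Subgroup G, (Nat.card K = 12 ∨ Nat.card K = 14 ∨ Nat.card K = 78) →
      K ≤ Subgroup.normalizer (H : Set G) → IsCoatom (Subgroup.normalizer (H : Set G)) := by
    intro K hK hle
    have hc := coatom_of_card hG hK
    rwa [(hc.le_iff.mp hle).resolve_left hNt]
  by_cases h13 : 13 ∣ Nat.card H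
  · obtain ⟨U, hU, hUH, hHN⟩ := normal_in hG (Or.inr rfl) h2 h13
    have h78 := (card_normalizer_big hG (Or.inr rfl) hU).2 rfl
    refine finish _ (Or.inr (Or.inr h78)) fun g hg => DicksonMaximal.mem_normalizer_of fun z hz => ?_
    -- commutators of `N(U)` lie in `U`
    haveI : Fact (Nat.Prime 13) := ⟨by norm_num⟩
    haveI : IsCyclic U := isCyclic_of_prime_card hU
    have hcomm : ∀ a ∈ U, ∀ b ∈ U, a * b = b * a := fun a ha b hb =>
      congrArg Subtype.val ((IsCyclic.commGroup (α := U)).mul_comm ⟨a, ha⟩ ⟨b, hb⟩)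
    have hcent : ∀ c : G, (∀ u ∈ U, c * u = u * c) → c ∈ U := by
      intro c hc
      set C := Subgroup.centralizer (U : Set G) with hC
      have hcC : c ∈ C := Subgroup.mem_centralizer_iff.mpr fun u hu => (hc u hu).symm
      have hUC : U ≤ C := fun a ha => Subgroup.mem_centralizer_iff.mpr fun b hb => hcomm b hb a ha
      suffices C = U from this ▸ hcC
      refine (Subgroup.eq_of_le_of_card_ge hUC ?_).symm
      have hCN : C ≤ Subgroup.normalizer (U : Set G) := fun a ha =>
        DicksonMaximal.mem_normalizer_of fun b hb => by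
          rw [← Subgroup.mem_centralizer_iff.mp ha b hb, mul_inv_cancel_right]; exact hb
      have hdC := Subgroup.card_dvd_of_le hCN
      rw [h78] at hdC
      obtain ⟨m, hm⟩ := hU ▸ Subgroup.card_dvd_of_le hUC
      rw [hm] at hdC ⊢
      rw [hU]
      by_contra hlt
      have hm6 : m ∣ 6 := Nat.dvd_of_mul_dvd_mul_left (show 0 < 13 by norm_num)
        (by simpa using hdC)
      have hm1 : m ≠ 1 := fun e => hlt (by omega)
      obtain ⟨s, hs, hsm⟩ := Nat.exists_prime_and_dvd hm1
      haveI : Fact s.Prime := ⟨hs⟩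
      obtain ⟨a, ha⟩ := exists_prime_orderOf_dvd_card' (G := C) s (hm ▸ hsm.mul_left 13)
      obtain ⟨b, hb⟩ := exists_prime_orderOf_dvd_card' (G := U) 13 (by rw [hU])
      have hab : Commute (b : G) (a : G) := Subgroup.mem_centralizer_iff.mp a.2 b b.2
      have hs6 := Nat.le_of_dvd (by norm_num) (hsm.trans hm6)
      have := no_order hG (hab.orderOf_mul_eq_mul_orderOf_of_coprime (by
        rw [Subgroup.orderOf_coe, Subgroup.orderOf_coe, ha, hb]
        exact (Nat.coprime_primes (by norm_num) hs).mpr (by omega)))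
      rw [Subgroup.orderOf_coe, Subgroup.orderOf_coe, ha, hb] at this
      have h2s := hs.two_le
      interval_cases s <;> omega
    have hcU : g * z * g⁻¹ * z⁻¹ ∈ U := by
      haveI : CommGroup U := IsCyclic.commGroup
      refine hcent _ fun u hu => ?_
      have hz' := hHN hz
      obtain ⟨v, hv⟩ := Subgroup.mem_zpowers_iff.mp
        (show (⟨u, hu⟩ : U) ∈ Subgroup.zpowers (IsCyclic.exists_generator (α := U)).choose from
          (IsCyclic.exists_generator (α := U)).choose_spec _)
      set t := (IsCyclic.exists_generator (α := U)).choose with ht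
      have act : ∀ a ∈ Subgroup.normalizer (U : Set G), ∃ k : ℤ, ∀ i : ℤ,
          a * (t : G) ^ i * a⁻¹ = (t : G) ^ (k * i) := by
        intro a ha
        obtain ⟨k, hk⟩ := Subgroup.mem_zpowers_iff.mp
          (show (⟨a * t * a⁻¹, (Subgroup.mem_normalizer_iff.mp ha _).mp t.2⟩ : U) ∈ Subgroup.zpowers t
            from (IsCyclic.exists_generator (α := U)).choose_spec _)
        refine ⟨k, fun i => ?_⟩
        have hk' : (t : G) ^ k = a * t * a⁻¹ := by rw [← Subgroup.coe_zpow, hk]
        rw [zpow_mul, hk', conj_zpow]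
      obtain ⟨k1, hk1⟩ := act g hg
      obtain ⟨k2, hk2⟩ := act z hz'
      obtain ⟨k3, hk3⟩ := act g⁻¹ (inv_mem hg)
      obtain ⟨k4, hk4⟩ := act z⁻¹ (inv_mem hz')
      have hu' : u = (t : G) ^ v := by rw [← Subgroup.coe_zpow, hv]
      apply mul_inv_eq_iff_eq_mul.mp
      have i1 : ∀ i : ℤ, (t : G) ^ (k1 * (k3 * i)) = (t : G) ^ i := fun i => by
        rw [← hk1, ← hk3]; group
      have i2 : ∀ i : ℤ, (t : G) ^ (k2 * (k4 * i)) = (t : G) ^ i := fun i => by
        rw [← hk2, ← hk4]; group
      rw [hu']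
      calc g * z * g⁻¹ * z⁻¹ * (t : G) ^ v * (g * z * g⁻¹ * z⁻¹)⁻¹
          = g * (z * (g⁻¹ * (z⁻¹ * (t : G) ^ v * z⁻¹⁻¹) * g⁻¹⁻¹) * z⁻¹) * g⁻¹ := by group
        _ = (t : G) ^ (k1 * (k2 * (k3 * (k4 * v)))) := by rw [hk4, hk3, hk2, hk1]
        _ = (t : G) ^ (k1 * (k3 * (k2 * (k4 * v)))) := by ring_nf
        _ = (t : G) ^ v := by rw [i1, i2]
    have := mul_mem (hUH hcU) hz
    rwa [inv_mul_cancel_right] at this
  by_cases h7 : 7 ∣ Nat.card H
  · obtain ⟨Q, hQ, hQH, hHN⟩ := normal_in hG (Or.inl rfl) h2 h7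
    have h14 := (card_normalizer_big hG (Or.inl rfl) hQ).1 rfl
    refine finish _ (Or.inr (Or.inl h14)) ?_
    have hdd := Subgroup.card_dvd_of_le hHN
    rw [h14] at hdd
    rcases (show Nat.card H = 7 ∨ Nat.card H = 14 by
      have := Nat.le_of_dvd (by norm_num) hdd
      revert h7 hdd this
      generalize Nat.card H = n
      intro h7 hdd this
      interval_cases n <;> omega) with e | e
    · exact normal_of_prime_index_two hQH hHN (by rw [h14, e])
    · rw [Subgroup.eq_of_le_of_card_ge hHN (by rw [h14, e])]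
      exact Subgroup.le_normalizer
  have hcases : Nat.card H = 2 ∨ Nat.card H = 3 ∨ Nat.card H = 4 ∨ Nat.card H = 6 ∨ Nat.card H = 12 := by
    have h0 : Nat.card H ≠ 1 := fun e => h1 (Subgroup.eq_bot_of_card_eq _ e)
    revert hd h84 h13 h7 h0
    generalize Nat.card H = n
    intro hd h84 h13 h7 h0
    have hd' : n ∣ 12 := by
      have c1 : Nat.Coprime n 13 := ((Nat.Prime.coprime_iff_not_dvd (by norm_num)).mpr h13).symm
      have c2 : Nat.Coprime n 7 := ((Nat.Prime.coprime_iff_not_dvd (by norm_num)).mpr h7).symm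
      exact c2.dvd_of_dvd_mul_right (c1.dvd_of_dvd_mul_right (show n ∣ 12 * 7 * 13 from hd))
    have := Nat.le_of_dvd (by norm_num) hd'
    interval_cases n <;> omega
  rcases hcases with e | e | e | e | e
  · exact two_case hG e
  · exact coatom_of_card hG (Or.inl (three_case hG e))
  · exact coatom_of_card hG (Or.inl (four_case hG e))
  · haveI : Fact (Nat.Prime 3) := ⟨Nat.prime_three⟩
    obtain ⟨x, hx⟩ := exists_prime_orderOf_dvd_card' (G := H) 3 (by rw [e]; norm_num)
    have hz : Nat.card (Subgroup.zpowers x) = 3 := by rw [Nat.card_zpowers, hx]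
    have hn : (Subgroup.zpowers x).Normal := by
      refine Subgroup.normal_of_index_eq_two ?_
      have := (Subgroup.zpowers x).card_mul_index
      rw [hz, e] at this
      omega
    set P := (Subgroup.zpowers x).map H.subtype with hP
    have hP3 : Nat.card P = 3 := by
      rw [hP, ← Nat.card_congr ((Subgroup.zpowers x).equivMapOfInjective _ H.subtype_injective).toEquiv, hz]
    have hHN : H ≤ Subgroup.normalizer (P : Set G) := fun g hg =>
      DicksonMaximal.mem_normalizer_of fun y hy => by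
        obtain ⟨z, hz, rfl⟩ := hy
        exact ⟨⟨g, hg⟩ * z * ⟨g, hg⟩⁻¹, hn.conj_mem z hz ⟨g, hg⟩, rfl⟩
    exact finish _ (Or.inl (three_case hG hP3))
      (normal_of_prime_index_two (Subgroup.map_subtype_le _) hHN (by rw [three_case hG hP3, e]))
  · exact finish H (Or.inl e) Subgroup.le_normalizer

end abstract

/-! ### `PSL(2,13)` -/

theorem zmod_facts : (0 : ZMod 13) ^ 2 ≠ 4 ∧ (5 : ZMod 13) ^ 2 ≠ 1 := by decide

theorem hyp_psl : Hyp (Matrix.ProjectiveSpecialLinearGroup (Fin 2) (ZMod 13)) := by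
  haveI : Fact (Nat.Prime 13) := ⟨by norm_num⟩
  have hq : Nat.card (ZMod 13) = 13 := Nat.card_zmod 13
  have h2 : (2 : ZMod 13) ≠ 0 := by decide +revert
  have hg : Nat.gcd 2 (Nat.card (ZMod 13) - 1) = 2 := by rw [hq]; rfl
  have hcard : Nat.card (Matrix.ProjectiveSpecialLinearGroup (Fin 2) (ZMod 13)) = 1092 := by
    rw [PSLCard.card_PSL2, hg, hq]; norm_num
  refine ⟨hcard, DicksonMaximal.simple 13 (by rw [hq]; norm_num), fun g => ?_, ?_, ?_⟩
  · have := PSL2Proj52.pow_cases 13 g
    rw [hg, hq] at this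
    exact this
  · intro x hx
    obtain ⟨A, rfl⟩ : ∃ A, PSL2Proj52.π A = x := PSL2Proj52.π_surjective x
    have hA := (DicksonRational.sq_eq_neg_one_of_order_two h2 hx).1
    let a : (ZMod 13)ˣ := ⟨5, 8, by rfl, by rfl⟩
    have ht : PSL2Elements.tr (PSL2Elements.d a) = 0 := by rw [PSL2Elements.tr_d, ← Units.val_inv_eq_inv_val]; rfl
    have hc := PSL2Elements.isConj_of_tr_eq (hA.trans ht.symm) (by rw [hA]; exact zmod_facts.1)
    have hs := PSL2Classes52.size_tr_zero h2
      (PSL2Elements.card_centralizer_d (a := a) (fun e : (5 : ZMod 13) ^ 2 = 1 => zmod_facts.2 e)).2 ht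
    rw [← PSL2Classes52.size_of_isConj hc, hq, PSL2Classes52.size] at hs
    have h91 : (Subgroup.centralizer ({PSL2Proj52.π A} : Set
        (Matrix.ProjectiveSpecialLinearGroup (Fin 2) (ZMod 13)))).index = 91 := by omega
    have hm := (Subgroup.centralizer ({PSL2Proj52.π A} : Set
        (Matrix.ProjectiveSpecialLinearGroup (Fin 2) (ZMod 13)))).card_mul_index
    rw [h91, hcard] at hm
    omega
  · have := DicksonFourGroups.card_kleinFour (F := ZMod 13) h2
    rw [hcard] at this
    omega

/-! ### `SL(2,13)` and the product -/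

/-- Every non-normal subgroup has maximal normaliser. -/
def Good (K : Type*) [Group K] : Prop :=
  ∀ A : Subgroup K, ¬ A.Normal → IsCoatom (Subgroup.normalizer (A : Set K))

theorem good_of_hyp {G : Type*} [Group G] [Finite G] (hG : Hyp G) : Good G := fun A hA =>
  main hG (fun e => hA (by rw [e]; infer_instance)) (fun e => hA (by rw [e]; infer_instance))

theorem good_cover {K G : Type*} [Group K] [Group G] [Finite K] [Finite G] (hG : Hyp G)
    (π : K →* G) (hπ : Function.Surjective π) (z : K) (hz : z ≠ 1) (hz2 : z * z = 1)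
    (hzc : ∀ k, z * k = k * z) (hker : ∀ k, π k = 1 → k = 1 ∨ k = z)
    (hu : ∀ k, k * k = 1 → k = 1 ∨ k = z) : Good K := by
  intro A hA
  haveI : Fact (Nat.Prime 2) := ⟨Nat.prime_two⟩
  have heven : 2 ∣ Nat.card A → z ∈ A := by
    intro h
    obtain ⟨a, ha⟩ := exists_prime_orderOf_dvd_card' (G := A) 2 h
    rcases hu a (by rw [← Subgroup.coe_mul, ← sq, ← ha, pow_orderOf_eq_one]; rfl) with e | e
    · rw [← Subgroup.coe_one, Subtype.coe_inj] at e
      rw [e, orderOf_one] at ha
      exact absurd ha (by norm_num)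
    · exact e ▸ a.2
  have hfib : ∀ k k', π k = π k' → k = k' ∨ k = k' * z := by
    intro k k' e
    rcases hker (k'⁻¹ * k) (by rw [map_mul, map_inv, e, inv_mul_cancel]) with h | h
    · exact Or.inl (eq_of_inv_mul_eq_one h).symm
    · exact Or.inr (by rw [← h, mul_inv_cancel_left])
  have key : Subgroup.normalizer (A : Set K) =
      (Subgroup.normalizer (A.map π : Set G)).comap π := by
    by_cases h2 : 2 ∣ Nat.card A
    · have hAA : A = (A.map π).comap π := by
        refine le_antisymm (Subgroup.le_comap_map _ _) fun k ⟨a, ha, e⟩ => ?_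
        rcases hfib k a e.symm with rfl | rfl
        · exact ha
        · exact mul_mem ha (heven h2)
      rw [Subgroup.comap_normalizer_eq_of_surjective _ hπ, ← hAA]
    · ext g
      rw [Subgroup.mem_comap]
      constructor <;> intro h
      · refine DicksonMaximal.mem_normalizer_of fun y hy => ?_
        obtain ⟨a, ha, rfl⟩ := hy
        exact ⟨g * a * g⁻¹, (Subgroup.mem_normalizer_iff.mp h a).mp ha, by simp⟩
      · refine DicksonMaximal.mem_normalizer_of fun a ha => ?_
        obtain ⟨a', ha', e⟩ := (Subgroup.mem_normalizer_iff.mp h (π a)).mp ⟨a, ha, rfl⟩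
        rcases hfib (g * a * g⁻¹) a' (by rw [e]; simp) with h' | h'
        · rw [h']; exact ha'
        · exfalso
          have pw : ∀ x ∈ A, x ^ Nat.card A = 1 := fun x hx =>
            congrArg Subtype.val (pow_card_eq_one' (x := (⟨x, hx⟩ : A)))
          have e1 : (g * a * g⁻¹) ^ Nat.card A = (a' * z) ^ Nat.card A := by rw [h']
          rw [conj_pow, pw a ha, mul_one, mul_inv_cancel,
            (show Commute a' z from (hzc a').symm).mul_pow, pw a' ha', one_mul] at e1
          obtain ⟨m, hm⟩ := Nat.odd_iff.mpr (Nat.two_dvd_ne_zero.mp h2)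
          rw [hm, pow_succ, pow_mul, sq, hz2, one_pow, one_mul] at e1
          exact hz e1.symm
  rw [key]
  refine Subgroup.isCoatom_comap_of_surjective hπ (main hG ?_ ?_)
  · intro e
    refine hA ⟨fun a ha g => ?_⟩
    have h1 : π a = 1 := by
      have : π a ∈ A.map π := ⟨a, ha, rfl⟩
      rwa [e, Subgroup.mem_bot] at this
    rcases hker a h1 with rfl | rfl
    · simpa using ha
    · rwa [← hzc g, mul_inv_cancel_right]
  · intro e
    have h2 : 2 ∣ Nat.card A := by
      refine Dvd.dvd.trans ?_ (Subgroup.card_map_dvd A π)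
      rw [e, Subgroup.card_top, hG.card]
      norm_num
    refine hA ⟨fun a _ g => ?_⟩
    have hall : ∀ k, k ∈ A := fun k => by
      obtain ⟨a, ha, e'⟩ : π k ∈ A.map π := by rw [e]; exact Subgroup.mem_top _
      rcases hfib k a e'.symm with rfl | rfl
      · exact ha
      · exact mul_mem ha (heven h2)
    exact hall _

theorem good_congr {K K' : Type*} [Group K] [Group K'] (e : K ≃* K') (h : Good K') : Good K := by
  intro A hA
  have hAA : A = (A.map e.toMonoidHom).comap e.toMonoidHom :=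
    (Subgroup.comap_map_eq_self_of_injective e.injective A).symm
  rw [hAA, ← Subgroup.comap_normalizer_eq_of_surjective _ e.surjective]
  refine Subgroup.isCoatom_comap_of_surjective e.surjective (h _ fun hn => hA ?_)
  rw [hAA]
  exact Subgroup.Normal.comap hn _

theorem good_prod {K S : Type*} [Group K] [CommGroup S] [Finite K] [Finite S] (hK : Good K)
    (hc : (Nat.card K).Coprime (Nat.card S)) : Good (K × S) := by
  intro H hH
  set A := H.comap (MonoidHom.inl K S) with hAdef
  have hfst : ∀ {a : K} {b : S}, (a, b) ∈ H → (a, (1 : S)) ∈ H := by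
    intro a b h
    obtain ⟨m, hm⟩ := exists_pow_eq_self_of_coprime (x := a) (n := Nat.card S)
      (hc.symm.coprime_dvd_right (orderOf_dvd_natCard a))
    have := H.pow_mem h (Nat.card S * m)
    simp only [Prod.pow_mk] at this
    rwa [pow_mul, hm, pow_mul, pow_card_eq_one', one_pow] at this
  have hsnd : ∀ {a : K} {b : S}, (a, b) ∈ H → ((1 : K), b) ∈ H := by
    intro a b h
    have := H.mul_mem (H.inv_mem (hfst h)) h
    simpa using this
  have hsplit : ∀ {a : K} {b : S}, (a, b) ∈ H ↔ a ∈ A ∧ ((1 : K), b) ∈ H := by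
    intro a b
    refine ⟨fun h => ⟨hfst h, hsnd h⟩, fun ⟨h1, h2⟩ => ?_⟩
    have := H.mul_mem (show (a, (1 : S)) ∈ H from h1) h2
    simpa using this
  have key : Subgroup.normalizer (H : Set (K × S)) =
      (Subgroup.normalizer (A : Set K)).comap (MonoidHom.fst K S) := by
    ext ⟨g, s⟩
    rw [Subgroup.mem_comap]
    constructor <;> intro h
    · refine DicksonMaximal.mem_normalizer_of fun a ha => ?_
      have := (Subgroup.mem_normalizer_iff.mp h (a, 1)).mp (show (a, (1 : S)) ∈ H from ha)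
      simp only [Prod.inv_mk, Prod.mk_mul_mk, mul_one, mul_inv_cancel] at this
      exact this
    · refine DicksonMaximal.mem_normalizer_of fun y hy => ?_
      obtain ⟨a, b⟩ := y
      obtain ⟨h1, h2⟩ := hsplit.mp hy
      simp only [Prod.inv_mk, Prod.mk_mul_mk]
      rw [mul_comm s b, mul_inv_cancel_right]
      exact hsplit.mpr ⟨(Subgroup.mem_normalizer_iff.mp h a).mp h1, h2⟩
  rw [key]
  refine Subgroup.isCoatom_comap_of_surjective (fun k => ⟨(k, 1), rfl⟩) (hK A fun hn => hH ?_)
  refine ⟨fun y hy g => ?_⟩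
  obtain ⟨a, b⟩ := y
  obtain ⟨g, s⟩ := g
  obtain ⟨h1, h2⟩ := hsplit.mp hy
  simp only [Prod.inv_mk, Prod.mk_mul_mk]
  rw [mul_comm s b, mul_inv_cancel_right]
  exact hsplit.mpr ⟨hn.conj_mem a h1 g, h2⟩

theorem good_sl : Good (Matrix.SpecialLinearGroup (Fin 2) (ZMod 13)) := by
  haveI : Fact (Nat.Prime 13) := ⟨by norm_num⟩
  have h2 : (2 : ZMod 13) ≠ 0 := PSL2Proj52.two_ne_of_odd (by rw [Nat.card_zmod]; decide +revert)
  refine good_cover hyp_psl PSL2Proj52.π PSL2Proj52.π_surjective (-1)
    (PSL2Proj52.neg_one_ne_one h2) (by simp) (fun k => by simp)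
    (fun k hk => (PSL2Proj52.π_eq_one k).mp hk)
    (fun k hk => PSL2Elements.eq_one_or_neg_one_of_sq_eq_one h2 ((sq k).trans hk))
/-- Let K be isomorphic to PSL(2, 13) or to SL(2, 13) and let S be a finite abelian group of order coprime to the order of K. Then in the direct product K × S every subgroup that is not normal has a normalizer that is a maximal subgroup. -/
theorem result {K S : Type*} [Group K] [CommGroup S] [Finite K] [Finite S]
    (hK : Nonempty (K ≃* Matrix.ProjectiveSpecialLinearGroup (Fin 2) (ZMod 13)) ∨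
      Nonempty (K ≃* Matrix.SpecialLinearGroup (Fin 2) (ZMod 13)))
    (hKS : (Nat.card K).Coprime (Nat.card S)) (H : Subgroup (K × S)) (hH : ¬ H.Normal) :
    IsCoatom (Subgroup.normalizer (H : Set (K × S))) := by
  rcases hK with ⟨⟨e⟩⟩ | ⟨⟨e⟩⟩
  · exact good_prod (good_congr e (good_of_hyp hyp_psl)) hKS H hH
  · exact good_prod (good_congr e good_sl) hKS H hH

end Cfsg.Agent.S4234
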