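import Cfsg.Statements.S4235
import Cfsg.Agent.Lib.CNTypeSetup7
import Cfsg.Agent.Lib.CNTypePSL7
import Cfsg.Agent.Lib.SuzukiUniq67Main

set_option autoImplicit false
set_option linter.all false
open scoped Pointwise
open Cfsg

namespace Cfsg.Agent.S4235

/-- Let G be a finite group. Call a subgroup maximal solvable if it is solvable and not properly contained in a solvable subgroup. Suppose F assigns to each maximal solvable subgroup M a normal subgroup F(M) of M such that: every element of M outside F(M) centralizes no non-identity element of F(M); F(M) meets each conjugate g F(M) g⁻¹ with g outside M trivially; and F(M) is nontrivial unless M is abelian. Then G is solvable, or G is isomorphic to SL(2, K) for a finite field K of characteristic 2 with at least 4 elements, or G is isomorphic to a Suzuki group. -/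
theorem result {G : Type*} [Group G] [Finite G] (F : Subgroup G → Subgroup G)
    (h : ∀ M : Subgroup G, (Group.IsSolvable M ∧ ∀ M' : Subgroup G, M < M' → ¬ Group.IsSolvable M') →
      F M ≤ M ∧ M ≤ Subgroup.normalizer (F M : Set G) ∧
      (∀ a ∈ M, a ∉ F M → ∀ x ∈ F M, x * a = a * x → x = 1) ∧
      (∀ g : G, g ∉ M → F M ⊓ (MulAut.conj g • F M) = ⊥) ∧
      (F M ≠ ⊥ ∨ IsMulCommutative M)) :
    Group.IsSolvable G ∨
      (∃ (K : Type) (_ : Field K) (_ : Fintype K), (∃ n : ℕ, 2 ≤ n ∧ Fintype.card K = 2 ^ n) ∧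
        Nonempty (G ≃* Matrix.SpecialLinearGroup (Fin 2) K)) ∨
      Cfsg.Lie.IsoSuzuki G := by
  by_cases hs : Group.IsSolvable G
  · exact Or.inl hs
  right
  obtain ⟨hsimple, M, hM, hN, -, hlt, hnil, S, hSF, hS1⟩ := CNTypeSetup7.core (F := F) h hs
  haveI := hsimple
  haveI := hnil
  obtain ⟨hle, -, -, hTI, -⟩ := h M hM
  have hna : ∃ a b : G, a * b ≠ b * a := by
    by_contra hc
    push Not at hc
    exact hs (Group.isSolvable_of_comm hc)
  have he : Even (Nat.card (F M)) := by
    haveI : Fact (Nat.Prime 2) := ⟨Nat.prime_two⟩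
    obtain ⟨j, hj⟩ := IsPGroup.iff_card.1 S.2
    rcases j with _ | j
    · exact absurd (Subgroup.card_eq_one.1 (by simpa using hj)) hS1
    · exact even_iff_two_dvd.2 ((hj ▸ dvd_pow_self 2 (by omega)).trans
        (Subgroup.card_dvd_of_le hSF))
  have hcc : ∀ x ∈ F M, x ≠ 1 → Subgroup.centralizer ({x} : Set G) ≤ F M := fun x hx hx1 =>
    CNTypeSetup7.cent_le h hM hx hx1
  have hti : ∀ (x g : G), x ∈ F M → x ≠ 1 → g * x * g⁻¹ ∈ F M →
      g ∈ Subgroup.normalizer (F M : Set G) := by
    intro x g hx hx1 hg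
    rw [hN]
    by_contra hgM
    have hmem : g * x * g⁻¹ ∈ F M ⊓ (MulAut.conj g • F M) :=
      Subgroup.mem_inf.2 ⟨hg, CNTypeSetup7.conj_mem_conj hx⟩
    rw [hTI g hgM, Subgroup.mem_bot, mul_inv_eq_one, mul_eq_left] at hmem
    exact hx1 hmem
  obtain ⟨hcase, Ω, hact, hΩ, hZ⟩ := CIT21Frob5.main_of_nilpotent hna (F M) he hcc hti
  rcases Cfsg.Agent.SuzukiUniq67.psl2_or_isoSuzuki hZ with ⟨K, hK, hKf, ⟨e⟩⟩ | hSz
  · exact Or.inl (CNTypePSL7.sl_two hna (F M) he hcc hti e)
  · exact Or.inr hSz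

end Cfsg.Agent.S4235
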