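import Cfsg.Statements.S4236
import Mathlib
import Cfsg.Agent.Lib.SylowNumber
import Cfsg.Agent.Lib.SimpleOrder

set_option autoImplicit false
open Cfsg

namespace Cfsg.Agent.S4236

open Cfsg.Agent

universe u

variable {S : Type u} [Group S] [Finite S]

theorem fixed_eq {p : ℕ} [Fact p.Prime] (P y : Sylow p S) (h : ∀ a ∈ (P : Subgroup S), a • y = y) : y = P := by
  have h1 : (P : Subgroup S) ≤ (y : Subgroup S) := by
    intro a ha
    exact ((P.2.inf_normalizer_sylow y).le ⟨ha, Sylow.smul_eq_iff_mem_normalizer.mp (h a ha)⟩).2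
  exact Sylow.ext (P.3 y.2 h1)

/-- All the structure of a simple group with 35 Sylow 17-subgroups needed below. -/
theorem no_simple [IsSimpleGroup S] [Fact (Nat.Prime 17)] (hcard : Nat.card (Sylow 17 S) = 35) : False := by
  classical
  have hdS : 35 ∣ Nat.card S := by
    obtain ⟨P⟩ : Nonempty (Sylow 17 S) := inferInstance
    rw [← hcard, P.card_eq_index_normalizer]
    exact Subgroup.index_dvd_card _
  have hab : ¬ IsMulCommutative S := SimpleOrder.not_comm_of_not_prime (fun hp => by
    have h35 : (35 : ℕ) = Nat.card S := (hp.eq_one_or_self_of_dvd 35 hdS).resolve_left (by norm_num)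
    rw [← h35] at hp
    norm_num at hp)
  obtain ⟨P⟩ : Nonempty (Sylow 17 S) := inferInstance
  -- faithfulness and parity
  set φ := MulAction.toPermHom S (Sylow 17 S) with hφ
  have hinj : Function.Injective φ := by
    rw [← MonoidHom.ker_eq_bot_iff]
    refine (SimpleOrder.eq_bot_or_top (MonoidHom.normal_ker φ)).resolve_right fun htop => ?_
    have hsub : Subsingleton (Sylow 17 S) := ⟨fun a b => by
      obtain ⟨g, rfl⟩ := MulAction.exists_smul_eq S a b
      have hg : φ g = 1 := MonoidHom.mem_ker.mp (htop ▸ Subgroup.mem_top g : g ∈ φ.ker)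
      exact (Equiv.ext_iff.mp hg a).symm⟩
    rw [Nat.card_unique] at hcard
    omega
  have hfaith : ∀ g : S, (∀ w : Sylow 17 S, g • w = w) → g = 1 := fun g hg => by
    refine hinj ?_
    rw [map_one]
    exact Equiv.ext hg
  let _ : Fintype (Sylow 17 S) := Fintype.ofFinite _
  have heven : ∀ g : S, Equiv.Perm.sign (φ g) = 1 := by
    intro g
    set f := Equiv.Perm.sign.comp φ
    rcases SimpleOrder.eq_bot_or_top (MonoidHom.normal_ker f) with h | h
    · exfalso
      apply hab
      refine IsMulCommutative.mk ⟨fun a b => (MonoidHom.ker_eq_bot_iff f).mp h ?_⟩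
      rw [map_mul, map_mul, mul_comm]
    · exact MonoidHom.mem_ker.mp (h ▸ Subgroup.mem_top g : g ∈ f.ker)
  -- orbits of `P`
  obtain ⟨a, ha⟩ := IsPGroup.iff_card.mp P.2
  have horb : ∀ w : Sylow 17 S, w ≠ P → Nat.card (MulAction.orbit (P : Subgroup S) w) = 17 := by
    intro w hw
    obtain ⟨k, hk⟩ := P.2.card_orbit w
    have hle : Nat.card (MulAction.orbit (P : Subgroup S) w) ≤ 35 :=
      hcard ▸ Nat.card_le_card_of_injective _ Subtype.val_injective
    rcases k with _ | _ | k
    · exfalso
      apply hw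
      refine fixed_eq P w fun b hb => ?_
      obtain ⟨hs, -⟩ := Nat.card_eq_one_iff_unique.mp hk
      exact congrArg Subtype.val (hs.elim ⟨(⟨b, hb⟩ : (P : Subgroup S)) • w, MulAction.mem_orbit _ _⟩ ⟨w, MulAction.mem_orbit_self w⟩)
    · simpa using hk
    · exfalso
      have : 17 ^ 2 ≤ 17 ^ (k + 1 + 1) := Nat.pow_le_pow_right (by norm_num) (by omega)
      omega
  have hfixP : ∀ b : (P : Subgroup S), b • P = P := fun b => by
    rw [Subgroup.smul_def]
    exact Sylow.smul_eq_iff_mem_normalizer.mpr (Subgroup.le_normalizer b.2)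
  have hstabn : ∀ w : Sylow 17 S, w ≠ P → (MulAction.stabilizer (P : Subgroup S) w).index = 17 := by
    intro w hw
    rw [MulAction.index_stabilizer, ← Nat.card_coe_set_eq, horb w hw]
  have hPne : ∃ w : Sylow 17 S, w ≠ P := by
    by_contra h
    push Not at h
    have : Subsingleton (Sylow 17 S) := ⟨fun x y => (h x).trans (h y).symm⟩
    rw [Nat.card_unique] at hcard
    omega
  have hstabN : ∀ w : Sylow 17 S, w ≠ P → (MulAction.stabilizer (P : Subgroup S) w).Normal := by
    intro w hw
    refine Subgroup.normal_of_index_eq_minFac_card ?_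
    rw [hstabn w hw, ha]
    have ha0 : a ≠ 0 := by
      intro h0
      have h := (MulAction.stabilizer (P : Subgroup S) w).index_dvd_card
      rw [hstabn w hw, ha, h0] at h
      norm_num at h
    rw [Nat.Prime.pow_minFac (by norm_num) ha0]
  -- representatives of the two orbits and `σ`
  obtain ⟨y₀, hy₀⟩ := hPne
  obtain ⟨z₀, hz₀, hz₀y⟩ : ∃ z₀, z₀ ≠ P ∧ z₀ ∉ MulAction.orbit (P : Subgroup S) y₀ := by
    by_contra h
    push Not at h
    have hsub : (Set.univ : Set (Sylow 17 S)) ⊆ insert P (MulAction.orbit (P : Subgroup S) y₀) := fun w _ => by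
      by_cases hw : w = P
      · exact Or.inl hw
      · exact Or.inr (h w hw)
    have := (Set.ncard_le_ncard hsub).trans (Set.ncard_insert_le _ _)
    rw [Set.ncard_univ, hcard, ← Nat.card_coe_set_eq, horb y₀ hy₀] at this
    omega
  have hcover : ∀ w, w ≠ P → w ∈ MulAction.orbit (P : Subgroup S) y₀ ∨ w ∈ MulAction.orbit (P : Subgroup S) z₀ := by
    intro w hw
    by_contra hcon
    rw [not_or] at hcon
    have hd : Disjoint (MulAction.orbit (P : Subgroup S) y₀) (MulAction.orbit (P : Subgroup S) z₀) := by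
      refine (MulAction.orbit.eq_or_disjoint y₀ z₀).resolve_left fun he => hz₀y ?_
      rw [he]; exact MulAction.mem_orbit_self z₀
    have hu : ((MulAction.orbit (P : Subgroup S) y₀) ∪ (MulAction.orbit (P : Subgroup S) z₀)).ncard = 34 := by
      rw [Set.ncard_union_eq hd, ← Nat.card_coe_set_eq, ← Nat.card_coe_set_eq, horb _ hy₀, horb _ hz₀]
    have hnot : ∀ v ∈ ({P, w} : Set (Sylow 17 S)), v ∉ (MulAction.orbit (P : Subgroup S) y₀) ∪ (MulAction.orbit (P : Subgroup S) z₀) := by
      rintro v (rfl | rfl)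
      · rintro (⟨b, hb⟩ | ⟨b, hb⟩)
        · exact hy₀ (MulAction.injective b (hb.trans (hfixP b).symm))
        · exact hz₀ (MulAction.injective b (hb.trans (hfixP b).symm))
      · rintro (h | h)
        · exact hcon.1 h
        · exact hcon.2 h
    have h2 : ({P, w} ∪ ((MulAction.orbit (P : Subgroup S) y₀) ∪ (MulAction.orbit (P : Subgroup S) z₀))).ncard ≤ 35 :=
      (Set.ncard_le_ncard (Set.subset_univ _)).trans (by rw [Set.ncard_univ, hcard])
    rw [Set.ncard_union_eq (Set.disjoint_left.mpr hnot), hu, Set.ncard_pair hw.symm] at h2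
    omega
  obtain ⟨σ, hσy, hσz⟩ : ∃ σ : (P : Subgroup S), σ • y₀ ≠ y₀ ∧ σ • z₀ ≠ z₀ := by
    have hex : ∀ w, w ≠ P → ∃ b : (P : Subgroup S), b • w ≠ w := by
      intro w hw
      by_contra h
      push Not at h
      exact hw (fixed_eq P w fun b hb => h ⟨b, hb⟩)
    obtain ⟨b, hb⟩ := hex y₀ hy₀
    obtain ⟨c, hc⟩ := hex z₀ hz₀
    by_cases hb2 : b • z₀ ≠ z₀
    · exact ⟨b, hb, hb2⟩
    by_cases hc2 : c • y₀ ≠ y₀
    · exact ⟨c, hc2, hc⟩
    push Not at hb2 hc2
    refine ⟨b * c, ?_, ?_⟩
    · rw [mul_smul, hc2]; exact hb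
    · rw [mul_smul]
      intro h
      exact hc (MulAction.injective b (h.trans hb2.symm))
  have hσfix : ∀ w, w ≠ P → σ • w ≠ w := by
    intro w hw h
    have key : ∀ v, v ≠ P → w ∈ MulAction.orbit (P : Subgroup S) v → σ • v = v := by
      intro v hv hwv
      obtain ⟨b, rfl⟩ := hwv
      have hm : σ ∈ MulAction.stabilizer (P : Subgroup S) (b • v) := h
      have := (hstabN _ hw).conj_mem σ hm b
      rw [MulAction.mem_stabilizer_iff] at this
      have h2 : b • (σ • v) = b • v := by
        calc b • (σ • v) = (b * σ * b⁻¹) • (b • v) := by simp [mul_smul]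
          _ = b • v := this
      exact MulAction.injective b h2
    rcases hcover w hw with h1 | h1
    · exact hσy (key y₀ hy₀ h1)
    · exact hσz (key z₀ hz₀ h1)
  set s : S := (σ : S) with hs
  have hsP : ∀ i : ℕ, s ^ i ∈ (P : Subgroup S) := fun i => Subgroup.pow_mem _ σ.2 i
  have hs17 : ∀ w : Sylow 17 S, s ^ 17 • w = w := by
    intro w
    by_cases hw : w = P
    · rw [hw]
      exact Sylow.smul_eq_iff_mem_normalizer.mpr (Subgroup.le_normalizer (hsP 17))
    · have := hstabN w hw
      have h1 := Subgroup.pow_index_mem (MulAction.stabilizer (P : Subgroup S) w) σ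
      rw [hstabn w hw] at h1
      exact h1
  have hper : ∀ w, w ≠ P → ∀ i : ℕ, s ^ i • w = w → 17 ∣ i := by
    intro w hw i hi
    by_contra h
    obtain ⟨m, -, hm⟩ := Nat.exists_mul_mod_eq_one_of_coprime ((Nat.Prime.coprime_iff_not_dvd (by norm_num)).mpr h).symm (by norm_num : 1 < 17)
    have hiter : ∀ n : ℕ, s ^ (i * n) • w = w := by
      intro n
      induction n with
      | zero => simp
      | succ n ih => rw [mul_add, mul_one, pow_add, mul_smul, hi, ih]
    have hiter17 : ∀ n : ℕ, s ^ (17 * n) • w = w := by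
      intro n
      induction n with
      | zero => simp
      | succ n ih => rw [mul_add, mul_one, pow_add, mul_smul, hs17, ih]
    have := hiter m
    rw [← Nat.div_add_mod (i * m) 17, hm, pow_add, mul_smul, pow_one] at this
    have h2 := hiter17 (i * m / 17)
    exact hσfix w hw (MulAction.injective (s ^ (17 * (i * m / 17))) (this.trans h2.symm))
  have hpowmod : ∀ (w : Sylow 17 S) (i : ℕ), s ^ i • w = s ^ (i % 17) • w := by
    intro w i
    conv_lhs => rw [← Nat.div_add_mod i 17, pow_add, mul_smul]
    induction (i / 17) with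
    | zero => simp
    | succ n ih => rw [mul_add, mul_one, Nat.add_comm, pow_add, mul_smul, ih, hs17]
  have hmodeq : ∀ w, w ≠ P → ∀ i j : ℕ, s ^ i • w = s ^ j • w → i % 17 = j % 17 := by
    intro w hw i j h
    rw [hpowmod w i, hpowmod w j] at h
    rcases le_total (i % 17) (j % 17) with hl | hl
    · have : s ^ (j % 17 - i % 17) • w = w := by
        apply MulAction.injective (s ^ (i % 17))
        show s ^ (i % 17) • s ^ (j % 17 - i % 17) • w = s ^ (i % 17) • w
        rw [← mul_smul, ← pow_add, Nat.add_sub_cancel' hl, h]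
      have := hper w hw _ this
      omega
    · have : s ^ (i % 17 - j % 17) • w = w := by
        apply MulAction.injective (s ^ (j % 17))
        show s ^ (j % 17) • s ^ (i % 17 - j % 17) • w = s ^ (j % 17) • w
        rw [← mul_smul, ← pow_add, Nat.add_sub_cancel' hl, h]
      have := hper w hw _ this
      omega
  -- the relation `r`: lying in the same orbit
  let r : Sylow 17 S → Sylow 17 S → Prop := fun w v => ∃ i : ℕ, s ^ i • w = v
  have hrP : ∀ w, w ≠ P → ∀ b ∈ (P : Subgroup S), r w (b • w) := by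
    intro w hw b hb
    have hinjf : Function.Injective fun i : Fin 17 => s ^ (i : ℕ) • w := fun i j hij =>
      Fin.ext (by have := hmodeq w hw i j hij; rwa [Nat.mod_eq_of_lt i.2, Nat.mod_eq_of_lt j.2] at this)
    have heq : Set.range (fun i : Fin 17 => s ^ (i : ℕ) • w) = MulAction.orbit (P : Subgroup S) w := by
      refine Set.eq_of_subset_of_ncard_le ?_ ?_
      · rintro _ ⟨i, rfl⟩
        exact ⟨⟨s ^ (i : ℕ), hsP i⟩, rfl⟩
      · rw [Set.ncard_range_of_injective hinjf, ← Nat.card_coe_set_eq, horb w hw, Nat.card_eq_fintype_card, Fintype.card_fin]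
    have hm : b • w ∈ MulAction.orbit (P : Subgroup S) w := ⟨⟨b, hb⟩, rfl⟩
    rw [← heq] at hm
    obtain ⟨i, hi⟩ := hm
    exact ⟨i, hi⟩
  have hact : ∀ w, w ≠ P → ∀ b ∈ (P : Subgroup S), ∀ i : ℕ, s ^ i • w = b • w → ∀ j : ℕ,
      b • (s ^ j • w) = s ^ i • (s ^ j • w) := by
    intro w hw b hb i hi j
    have hm : (⟨s ^ i, hsP i⟩ : (P : Subgroup S))⁻¹ * ⟨b, hb⟩ ∈ MulAction.stabilizer (P : Subgroup S) w := by
      rw [MulAction.mem_stabilizer_iff, mul_smul, inv_smul_eq_iff]
      exact hi.symm
    have h2 := (hstabN w hw).conj_mem _ hm (⟨s ^ j, hsP j⟩⁻¹)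
    rw [MulAction.mem_stabilizer_iff, inv_inv, mul_smul, mul_smul, mul_smul, inv_smul_eq_iff, inv_smul_eq_iff] at h2
    exact h2
  have hne : ∀ w, w ≠ P → ∀ g ∈ Subgroup.normalizer ((P : Subgroup S) : Set S), g • w ≠ P := by
    intro w hw g hg h
    exact hw (MulAction.injective g (h.trans (Sylow.smul_eq_iff_mem_normalizer.mpr hg).symm))
  have hnePow : ∀ w, w ≠ P → ∀ i : ℕ, s ^ i • w ≠ P := fun w hw i =>
    hne w hw _ (Subgroup.le_normalizer (hsP i))
  have rsymm : ∀ w v, r w v → r v w := by
    rintro w _ ⟨i, rfl⟩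
    refine ⟨17 - i % 17, ?_⟩
    rw [← mul_smul, ← pow_add, hpowmod w, show (17 - i % 17 + i) % 17 = 0 by omega, pow_zero, one_smul]
  have rtrans : ∀ w v x, r w v → r v x → r w x := by
    rintro w _ _ ⟨i, rfl⟩ ⟨j, rfl⟩
    exact ⟨j + i, by rw [pow_add, mul_smul]⟩
  have tri : ∀ w v x, w ≠ P → v ≠ P → x ≠ P → r w v ∨ r v x ∨ r w x := by
    intro w v x hw hv hx
    have h1 : ∀ u, u ≠ P → r y₀ u ∨ r z₀ u := by
      intro u hu
      rcases hcover u hu with ⟨b, rfl⟩ | ⟨b, rfl⟩
      · exact Or.inl (hrP y₀ hy₀ b b.2)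
      · exact Or.inr (hrP z₀ hz₀ b b.2)
    rcases h1 w hw with a1 | a1 <;> rcases h1 v hv with a2 | a2 <;> rcases h1 x hx with a3 | a3
    · exact Or.inl (rtrans _ _ _ (rsymm _ _ a1) a2)
    · exact Or.inl (rtrans _ _ _ (rsymm _ _ a1) a2)
    · exact Or.inr (Or.inr (rtrans _ _ _ (rsymm _ _ a1) a3))
    · exact Or.inr (Or.inl (rtrans _ _ _ (rsymm _ _ a2) a3))
    · exact Or.inr (Or.inl (rtrans _ _ _ (rsymm _ _ a2) a3))
    · exact Or.inr (Or.inr (rtrans _ _ _ (rsymm _ _ a1) a3))
    · exact Or.inl (rtrans _ _ _ (rsymm _ _ a1) a2)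
    · exact Or.inl (rtrans _ _ _ (rsymm _ _ a1) a2)
  have rcompat : ∀ g ∈ Subgroup.normalizer ((P : Subgroup S) : Set S), ∀ w v, w ≠ P → r w v → r (g • w) (g • v) := by
    rintro g hg w _ hw ⟨i, rfl⟩
    have e : g • s ^ i • w = (g * s ^ i * g⁻¹) • (g • w) := by simp [mul_smul]
    rw [e]
    exact hrP _ (hne w hw g hg) _ ((Subgroup.mem_normalizer_iff.mp hg _).mp (hsP i))
  have rsq : ∀ g ∈ Subgroup.normalizer ((P : Subgroup S) : Set S), ∀ w, w ≠ P → r w (g • g • w) := by
    intro g hg w hw
    rcases tri w (g • w) (g • g • w) hw (hne w hw g hg) (hne _ (hne w hw g hg) g hg) with h | h | h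
    · exact rtrans _ _ _ h (rcompat g hg w _ hw h)
    · have := rcompat g⁻¹ (Subgroup.inv_mem _ hg) _ _ (hne w hw g hg) h
      rw [inv_smul_smul, inv_smul_smul] at this
      exact rtrans _ _ _ this h
    · exact h
  -- elements commuting with `s`
  have hcfix : ∀ t : S, t * s = s * t → ¬ 17 ∣ orderOf t → ∀ w, w ≠ P → r w (t • w) → t • w = w := by
    rintro t hts ht w hw ⟨i, hi⟩
    have hiter : ∀ m : ℕ, t ^ m • w = s ^ (i * m) • w := by
      intro m
      induction m with
      | zero => simp
      | succ m ih =>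
        rw [pow_succ', mul_smul, ih, ← mul_smul, (Commute.pow_right (show Commute t s from hts) (i * m)).eq,
          mul_smul, ← hi, ← mul_smul, ← pow_add, mul_add, mul_one]
    have h1 := hiter (orderOf t)
    rw [pow_orderOf_eq_one, one_smul] at h1
    obtain ⟨c, rfl⟩ := ((Nat.Prime.dvd_mul (by norm_num)).mp (hper w hw _ h1.symm)).resolve_right ht
    rw [← hi, hpowmod w, Nat.mul_mod_right, pow_zero, one_smul]
  have hsq : ∀ t ∈ Subgroup.normalizer ((P : Subgroup S) : Set S), t * s = s * t → ¬ 17 ∣ orderOf t →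
      t * t = 1 := by
    intro t ht hts h17
    refine hfaith _ fun w => ?_
    by_cases hw : w = P
    · rw [hw]; exact Sylow.smul_eq_iff_mem_normalizer.mpr (Subgroup.mul_mem _ ht ht)
    have hts2 : t * t * s = s * (t * t) := by rw [mul_assoc, hts, ← mul_assoc, hts, mul_assoc]
    refine hcfix (t * t) hts2 (fun h => h17 (h.trans ?_)) w hw ?_
    · rw [← pow_two]; exact orderOf_pow_dvd 2
    · rw [mul_smul]; exact rsq t ht w hw
  have hodd : ∀ t ∈ Subgroup.normalizer ((P : Subgroup S) : Set S), Odd (orderOf t) → ¬ 17 ∣ orderOf t → t = 1 := by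
    intro t ht hto h17
    obtain ⟨c, hc⟩ := hto
    have ht2 : t = (t * t) ^ (c + 1) := by
      rw [← pow_two, ← pow_mul, show 2 * (c + 1) = orderOf t + 1 by omega, pow_add, pow_orderOf_eq_one, one_mul, pow_one]
    have hclass : ∀ w, w ≠ P → r w (t • w) := by
      intro w hw
      rw [ht2]
      induction (c + 1) with
      | zero => exact ⟨0, by simp⟩
      | succ m ih =>
        rw [pow_succ', mul_smul, mul_smul]
        exact rtrans _ _ _ ih (rsq t ht _ (hne w hw _ (Subgroup.pow_mem _ (Subgroup.mul_mem _ ht ht) m)))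
    have hcs : t * s = s * t := by
      set π := t * s * t⁻¹ with hπ
      have hπP : π ∈ (P : Subgroup S) := (Subgroup.mem_normalizer_iff.mp ht _).mp σ.2
      suffices π = s by rwa [hπ, mul_inv_eq_iff_eq_mul] at this
      rw [← mul_inv_eq_one]
      refine hfaith _ fun w => ?_
      by_cases hw : w = P
      · rw [hw]
        exact Sylow.smul_eq_iff_mem_normalizer.mpr (Subgroup.le_normalizer (Subgroup.mul_mem _ hπP (Subgroup.inv_mem _ σ.2)))
      set v := s⁻¹ • w with hv
      have hvP : v ≠ P := hne w hw _ (Subgroup.le_normalizer (Subgroup.inv_mem _ σ.2))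
      obtain ⟨k, hk⟩ := hrP v hvP π hπP
      have hvk := hact v hvP π hπP k hk
      have hiter : ∀ (m j : ℕ), (t ^ m * s * (t ^ m)⁻¹) • (s ^ j • v) = s ^ (k ^ m) • (s ^ j • v) := by
        intro m
        induction m with
        | zero => intro j; simp
        | succ m ih =>
          intro j
          obtain ⟨i, hi⟩ := rsymm _ _ (hclass (t⁻¹ • (s ^ j • v))
            (hne _ (hnePow v hvP j) _ (Subgroup.inv_mem _ ht)))
          rw [smul_inv_smul] at hi
          have hpow : ∀ n l : ℕ, π ^ n • (s ^ l • v) = s ^ (k * n) • (s ^ l • v) := by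
            intro n
            induction n with
            | zero => intro l; simp
            | succ n ihn =>
              intro l
              rw [pow_succ', mul_smul, ihn l, ← mul_smul (s ^ (k * n)), ← pow_add, hvk,
                ← mul_smul (s ^ k), ← pow_add, ← mul_smul (s ^ (k * (n + 1))), ← pow_add]
              congr 2
              ring
          have hi' : t⁻¹ • (s ^ j • v) = s ^ (i + j) • v := by rw [← hi, pow_add, mul_smul]
          calc (t ^ (m + 1) * s * (t ^ (m + 1))⁻¹) • (s ^ j • v)
              = t • ((t ^ m * s * (t ^ m)⁻¹) • (t⁻¹ • (s ^ j • v))) := by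
                generalize s ^ j • v = x
                rw [← mul_smul, ← mul_smul, pow_succ']
                congr 1
                group
            _ = t • (s ^ (k ^ m) • (t⁻¹ • (s ^ j • v))) := by rw [hi', ih]
            _ = (π ^ (k ^ m)) • (s ^ j • v) := by
                rw [← mul_smul, ← mul_smul, hπ, conj_pow]
            _ = s ^ (k ^ (m + 1)) • (s ^ j • v) := by rw [hpow, pow_succ']
      have h1 := hiter (orderOf t) 0
      rw [pow_orderOf_eq_one, one_mul, inv_one, mul_one, pow_zero, one_smul] at h1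
      have h1' : s ^ 1 • v = s ^ (k ^ orderOf t) • v := by rwa [pow_one]
      have hkn := hmodeq v hvP _ _ h1'
      have hkz : (k : ZMod 17) ^ orderOf t = 1 := by
        have := (ZMod.natCast_eq_natCast_iff' (k ^ orderOf t) 1 17).mpr hkn.symm
        rwa [Nat.cast_pow, Nat.cast_one] at this
      have hk0 : (k : ZMod 17) ≠ 0 := by
        intro h0
        rw [h0, zero_pow (orderOf_pos t).ne'] at hkz
        exact zero_ne_one hkz
      have hgcd : Nat.gcd (orderOf t) 16 = 1 := by
        have h2c : Nat.Coprime (orderOf t) 2 := (Nat.coprime_two_right).mpr ⟨c, hc⟩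
        have := h2c.pow_right 4
        norm_num at this
        exact this
      have hk16 : (k : ZMod 17) ^ 16 = 1 := ZMod.pow_card_sub_one_eq_one hk0
      have hk1 := pow_gcd_eq_one.mpr ⟨hkz, hk16⟩
      rw [hgcd, pow_one] at hk1
      have hk17 : k % 17 = 1 % 17 := (ZMod.natCast_eq_natCast_iff' k 1 17).mp (by rw [hk1, Nat.cast_one])
      calc (π * s⁻¹) • w = π • v := mul_smul _ _ _
        _ = s ^ k • v := hk.symm
        _ = s • v := by rw [hpowmod v k, hk17, ← hpowmod v 1, pow_one]
        _ = w := smul_inv_smul _ _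
    have := hsq t ht hcs h17
    rw [ht2, this, one_pow]
  have hN : Nat.card S = 35 * Nat.card (Subgroup.normalizer ((P : Subgroup S) : Set S)) := by
    rw [← P.card_eq_index_normalizer.symm.trans hcard]
    exact (Subgroup.index_mul_card _).symm
  have hprimes : ∀ q : ℕ, q.Prime → q ∣ Nat.card (Subgroup.normalizer ((P : Subgroup S) : Set S)) → q = 2 ∨ q = 17 := by
    intro q hq hd
    by_contra hcon
    rw [not_or] at hcon
    have : Fact q.Prime := ⟨hq⟩
    obtain ⟨⟨t, ht⟩, hord⟩ := exists_prime_orderOf_dvd_card' q hd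
    rw [Subgroup.orderOf_mk] at hord
    have h1 := hodd t ht (hord ▸ hq.odd_of_ne_two hcon.1) (fun h => hcon.2 (((Nat.prime_dvd_prime_iff_eq (by norm_num) hq).mp (hord ▸ h)).symm))
    rw [h1, orderOf_one] at hord
    exact hq.ne_one hord.symm
  have h3 : ¬ 3 ∣ Nat.card S := by
    rw [hN, Nat.Prime.dvd_mul Nat.prime_three]
    rintro (h | h)
    · norm_num at h
    · have := hprimes 3 Nat.prime_three h
      omega
  rcases Nat.lt_or_ge a 2 with hlt | hge
  · -- Sylow 17-subgroup of prime order
    have ha0 : a ≠ 0 := by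
      intro h0
      have h := (MulAction.stabilizer (P : Subgroup S) y₀).index_dvd_card
      rw [hstabn y₀ hy₀, ha, h0] at h
      norm_num at h
    have ha1 : a = 1 := by omega
    subst ha1
    rw [pow_one] at ha
    set N := Subgroup.normalizer ((P : Subgroup S) : Set S) with hNdef
    have hd17 : 17 ∣ Nat.card S := dvd_trans (dvd_of_eq ha.symm) (P : Subgroup S).card_subgroup_dvd_card
    have hcyc : IsCyclic (P : Subgroup S) := isCyclic_of_prime_card ha
    by_cases h2 : 2 ∣ Nat.card N
    · obtain ⟨T⟩ : Nonempty (Sylow 2 N) := inferInstance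
      set T' := (T : Subgroup N).map N.subtype
      have hT'p : IsPGroup 2 T' := T.2.map _
      have hidx : ¬ 2 ∣ T'.index := by
        rw [Subgroup.index_map_subtype]
        intro hd
        rcases (Nat.Prime.dvd_mul Nat.prime_two).mp hd with hd | hd
        · exact T.not_dvd_index hd
        · have h35 : N.index = 35 := P.card_eq_index_normalizer.symm.trans hcard
          rw [h35] at hd
          norm_num at hd
      have hTN : T' ≤ N := Subgroup.map_subtype_le _
      set f := ((P : Subgroup S).normalizerMonoidHom).comp (Subgroup.inclusion hTN)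
      have hf : Function.Injective f := by
        rw [← MonoidHom.ker_eq_bot_iff, Subgroup.eq_bot_iff_forall]
        intro t ht
        by_contra ht1
        obtain ⟨k, hk⟩ := hT'p t
        obtain ⟨n, hn⟩ := IsPGroup.iff_orderOf.mp hT'p t
        rcases n with _ | n
        · exact ht1 (orderOf_eq_one_iff.mp (by simpa using hn))
        have hu : orderOf (t ^ 2 ^ n) = 2 := by
          rw [orderOf_pow, hn, Nat.gcd_eq_right (pow_dvd_pow 2 (Nat.le_succ n)), pow_succ]
          exact Nat.mul_div_cancel_left 2 (by positivity)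
        set u : S := ((t ^ 2 ^ n : T') : S) with hudef
        have huS : orderOf u = 2 := by rw [hudef, Subgroup.orderOf_coe, hu]
        have huk : (t ^ 2 ^ n) ∈ f.ker := Subgroup.pow_mem _ ht _
        have huN : u ∈ N := hTN (t ^ 2 ^ n).2
        have hus : u * s = s * u := by
          have h1 := huk
          rw [MonoidHom.mem_ker] at h1
          have h2 : (⟨u, huN⟩ : N) ∈ (P : Subgroup S).normalizerMonoidHom.ker := h1
          rw [Subgroup.normalizerMonoidHom_ker, Subgroup.mem_subgroupOf, Subgroup.mem_centralizer_iff] at h2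
          exact (h2 s σ.2).symm
        have hu17 : ¬ 17 ∣ orderOf u := by rw [huS]; norm_num
        have hfixed : ∀ w, w ≠ P → u • w ≠ w := by
          intro w hw hfx
          have hone : u = 1 := by
            refine hfaith u fun v => ?_
            by_cases hv : v = P
            · rw [hv]; exact Sylow.smul_eq_iff_mem_normalizer.mpr huN
            have hfix_of : ∀ x, x ≠ P → r w x → u • x = x := by
              rintro x - ⟨i, rfl⟩
              rw [← mul_smul, (Commute.pow_right (show Commute u s from hus) i).eq, mul_smul, hfx]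
            rcases tri w v (u • v) hw hv (hne v hv u huN) with h | h | h
            · exact hfix_of v hv h
            · exact hcfix u hus hu17 v hv h
            · have := hfix_of _ (hne v hv u huN) h
              exact MulAction.injective u this
          rw [hone, orderOf_one] at huS
          norm_num at huS
        have hsupp : (φ u).support = Finset.univ.erase P := by
          ext w
          rw [Equiv.Perm.mem_support, Finset.mem_erase]
          constructor
          · intro hwm
            refine ⟨fun e => hwm ?_, Finset.mem_univ _⟩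
            rw [e]; exact Sylow.smul_eq_iff_mem_normalizer.mpr huN
          · rintro ⟨hw, -⟩
            exact hfixed w hw
        have hord : orderOf (φ u) = 2 := by rw [orderOf_injective φ hinj, huS]
        obtain ⟨m, hm⟩ := Equiv.Perm.cycleType_prime_order (σ := φ u) (hord ▸ Nat.prime_two)
        have hsum := Equiv.Perm.sum_cycleType (φ u)
        rw [hm, hord, Multiset.sum_replicate, hsupp, Finset.card_erase_of_mem (Finset.mem_univ _), Finset.card_univ,
          ← Nat.card_eq_fintype_card, hcard, smul_eq_mul] at hsum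
        have hsign := heven u
        rw [Equiv.Perm.sign_of_cycleType, hm, hord, Multiset.sum_replicate, Multiset.card_replicate] at hsign
        have hm16 : m = 16 := by omega
        subst hm16
        norm_num at hsign
      have hcycP : IsCyclic (MulAut (P : Subgroup S)) := by
        have hp' : Fact (Nat.card (P : Subgroup S)).Prime := ⟨by rw [ha]; norm_num⟩
        exact isCyclic_of_injective (IsCyclic.mulAutMulEquiv (P : Subgroup S)).toMonoidHom (MulEquiv.injective _)
      have hcycT : IsCyclic T' := isCyclic_of_injective f hf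
      have hTd : 2 ∣ Nat.card S := dvd_trans h2 N.card_subgroup_dvd_card
      have hmin : (Nat.card S).minFac = 2 := (Nat.minFac_eq_two_iff _).mpr hTd
      exact SimpleOrder.not_normalizer_le_centralizer hab hTd (hT'p.toSylow hidx)
        (IsCyclic.normalizer_le_centralizer (P := hT'p.toSylow hidx) hmin hcycT)
    · have hNP : N = (P : Subgroup S) := by
        refine le_antisymm ?_ Subgroup.le_normalizer
        intro t ht
        have hpg : IsPGroup 17 N := by
          rw [IsPGroup.iff_orderOf]
          intro x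
          obtain ⟨e, he⟩ : ∃ e, Nat.card N = 17 ^ e := by
            refine ⟨_, Nat.eq_prime_pow_of_unique_prime_dvd Nat.card_pos.ne' fun {q} hq hd => ?_⟩
            exact (hprimes q hq hd).resolve_left fun e => h2 (e ▸ hd)
          obtain ⟨i, -, hi⟩ := (Nat.dvd_prime_pow (by norm_num)).mp (he ▸ orderOf_dvd_natCard x)
          exact ⟨i, hi⟩
        exact (P.3 hpg Subgroup.le_normalizer).le ht
      refine SimpleOrder.not_normalizer_le_centralizer hab hd17 P ?_
      rw [← hNdef, hNP]
      intro x hx
      rw [Subgroup.mem_centralizer_iff]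
      intro y hy
      exact congrArg Subtype.val (hcyc.isMulCommutative.is_comm.comm (⟨y, hy⟩ : (P : Subgroup S)) ⟨x, hx⟩)
  · -- larger Sylow 17-subgroup
    obtain ⟨P₁, Q₁, hPQ, hrel⟩ := SimpleOrder.exists_inter_relIndex_eq (G := S) (p := 17) (by rw [hcard]; norm_num)
    set R := (P₁ : Subgroup S) ⊓ (Q₁ : Subgroup S) with hR
    set NR := Subgroup.normalizer (R : Set S)
    have hcardS : ∀ P' : Sylow 17 S, Nat.card (P' : Subgroup S) = 17 ^ a := fun P' => by
      rw [P'.card_eq_multiplicity, ← P.card_eq_multiplicity, ha]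
    have hnorm : ∀ X : Sylow 17 S, R ≤ (X : Subgroup S) → R.relIndex (X : Subgroup S) = 17 → (X : Subgroup S) ≤ NR := by
      intro X hX hrelX
      have hn : (R.subgroupOf (X : Subgroup S)).Normal := Subgroup.normal_of_index_eq_minFac_card (by
        rw [← Subgroup.relIndex, hrelX, hcardS, Nat.Prime.pow_minFac (by norm_num) (by omega)])
      exact (Subgroup.normal_subgroupOf_iff_le_normalizer hX).mp hn
    have hr1 : R.relIndex (P₁ : Subgroup S) = 17 := by rw [hR, Subgroup.inf_relIndex_left]; exact hrel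
    have hmulR : Nat.card R * 17 = 17 ^ a := by
      have := Subgroup.relIndex_mul_relIndex ⊥ R (P₁ : Subgroup S) bot_le inf_le_left
      rwa [Subgroup.relIndex_bot_left, Subgroup.relIndex_bot_left, hr1, hcardS] at this
    have hr2 : R.relIndex (Q₁ : Subgroup S) = 17 := by
      have := Subgroup.relIndex_mul_relIndex ⊥ R (Q₁ : Subgroup S) bot_le inf_le_right
      simp only [Subgroup.relIndex_bot_left] at this
      rw [hcardS Q₁, ← hmulR] at this
      exact Nat.eq_of_mul_eq_mul_left Nat.card_pos this
    have hP₁ := hnorm P₁ inf_le_left hr1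
    have hQ₁ := hnorm Q₁ inf_le_right hr2
    have hRp : IsPGroup 17 R := P₁.2.to_le inf_le_left
    obtain ⟨k, hk⟩ := MulAction.exists_smul_eq NR (P₁.subtype hP₁) (Q₁.subtype hQ₁)
    have horbQ : Q₁ ∈ MulAction.orbit NR P₁ := by
      refine ⟨k, ?_⟩
      refine Sylow.subtype_injective (hP := ?_) (hQ := hQ₁) ?_
      · show ((k : S) • P₁ : Sylow 17 S).toSubgroup ≤ NR
        rw [Sylow.coe_subgroup_smul]
        rintro _ ⟨x, hx, rfl⟩
        exact NR.mul_mem (NR.mul_mem k.2 (hP₁ hx)) (NR.inv_mem k.2)
      · rw [← hk, Sylow.smul_subtype]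
    set O := MulAction.orbit NR P₁
    have hmod : Nat.card O % 17 = 1 := by
      let _ : MulAction (P₁ : Subgroup S) O := MulAction.compHom O (Subgroup.inclusion hP₁)
      have h := P₁.2.card_modEq_card_fixedPoints O
      have hone : Nat.card (MulAction.fixedPoints (P₁ : Subgroup S) O) = 1 := by
        refine Nat.card_eq_one_iff_unique.mpr ⟨⟨?_⟩, ⟨⟨⟨P₁, MulAction.mem_orbit_self _⟩, ?_⟩⟩⟩
        · rintro ⟨x, hx⟩ ⟨y, hy⟩
          have hh : ∀ z : O, z ∈ MulAction.fixedPoints (P₁ : Subgroup S) O → (z : Sylow 17 S) = P₁ := fun z hz =>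
            fixed_eq P₁ _ fun b hb => congrArg Subtype.val (hz ⟨b, hb⟩)
          exact Subtype.ext (Subtype.ext ((hh x hx).trans (hh y hy).symm))
        · intro b
          exact Subtype.ext (Sylow.smul_eq_iff_mem_normalizer.mpr (Subgroup.le_normalizer b.2))
      rw [hone] at h
      exact h
    have hO2 : 2 ≤ Nat.card O := by
      have : Nontrivial O := ⟨⟨⟨P₁, MulAction.mem_orbit_self _⟩, ⟨Q₁, horbQ⟩, fun e => hPQ (congrArg Subtype.val e)⟩⟩
      exact Finite.one_lt_card
    have hO35 : Nat.card O ≤ 35 := hcard ▸ Nat.card_le_card_of_injective _ Subtype.val_injective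
    have hOne : Nat.card O ≠ 35 := by
      intro he
      have huniv : O = Set.univ := Set.eq_of_subset_of_ncard_le (Set.subset_univ _) (by
        rw [Set.ncard_univ, hcard, ← Nat.card_coe_set_eq, he])
      have hRbot : R = ⊥ := by
        rw [Subgroup.eq_bot_iff_forall]
        intro x hx
        refine hfaith x fun w => ?_
        obtain ⟨g, rfl⟩ : w ∈ O := huniv ▸ Set.mem_univ w
        show x • (g : S) • P₁ = (g : S) • P₁
        have hgx : (g : S)⁻¹ * x * g ∈ R := (Subgroup.mem_normalizer_iff''.mp g.2 x).mp hx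
        have h1 : ((g : S)⁻¹ * x * g) • P₁ = P₁ :=
          Sylow.smul_eq_iff_mem_normalizer.mpr (Subgroup.le_normalizer hgx.1)
        calc x • (g : S) • P₁ = (g : S) • (((g : S)⁻¹ * x * g) • P₁) := by
              rw [← mul_smul, ← mul_smul]; group
          _ = (g : S) • P₁ := by rw [h1]
      rw [hRbot, Subgroup.card_bot, one_mul] at hmulR
      have : 17 ^ 2 ≤ 17 ^ a := Nat.pow_le_pow_right (by norm_num) hge
      omega
    have hO18 : Nat.card O = 18 := by omega
    apply h3
    refine dvd_trans (dvd_trans ?_ (Subgroup.index_dvd_card (MulAction.stabilizer NR P₁))) NR.card_subgroup_dvd_card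
    rw [MulAction.index_stabilizer, ← Nat.card_coe_set_eq, hO18]
    norm_num

/-- No finite group has exactly 35 Sylow 17-subgroups. -/
theorem result {G : Type*} [Group G] [Finite G] : Nat.card (Sylow 17 G) ≠ 35 := by
  intro hG
  have : Fact (Nat.Prime 17) := ⟨by norm_num⟩
  obtain ⟨l, hl, hm⟩ := SylowNumber.decompose G 17
  rw [hG] at hl
  have hmem : ∀ m ∈ l, m = 1 ∨ m = 35 := by
    intro m hmm
    have hd : m ∣ 35 := hl ▸ List.dvd_prod hmm
    have hmod : m % 17 = 1 := by
      rcases hm m hmm with ⟨-, h⟩ | ⟨S, _, _, -, -, rfl⟩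
      · exact h
      · exact card_sylow_modEq_one 17 S
    have hdiv : m ∈ Nat.divisors 35 := Nat.mem_divisors.mpr ⟨hd, by norm_num⟩
    rw [show Nat.divisors 35 = {1, 5, 7, 35} by decide] at hdiv
    simp only [Finset.mem_insert, Finset.mem_singleton] at hdiv
    omega
  by_cases h35 : 35 ∈ l
  · rcases hm 35 h35 with ⟨h, -⟩ | ⟨S, _, _, hS, -, hS35⟩
    · obtain ⟨q, k, hq, hk, hqk⟩ := h
      have hq' := hq.nat_prime
      have h5 : (5 : ℕ) ∣ q ^ k := by rw [hqk]; norm_num
      have h7 : (7 : ℕ) ∣ q ^ k := by rw [hqk]; norm_num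
      have e5 := (Nat.prime_dvd_prime_iff_eq (by norm_num) hq').mp ((by norm_num : Nat.Prime 5).dvd_of_dvd_pow h5)
      have e7 := (Nat.prime_dvd_prime_iff_eq (by norm_num) hq').mp ((by norm_num : Nat.Prime 7).dvd_of_dvd_pow h7)
      omega
    · exact no_simple (S := S) hS35.symm
  · have : l.prod = 1 := List.prod_eq_one fun m hmm => (hmem m hmm).resolve_right fun e => h35 (e ▸ hmm)
    omega

end Cfsg.Agent.S4236
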