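import Cfsg.Statements.S4237
import Mathlib
import Cfsg.Agent.Lib.Kulakoff73

set_option autoImplicit false
set_option linter.all false
open Cfsg

namespace Cfsg.Agent.S4237

open Cfsg.Agent
open scoped Pointwise

theorem sq_dvd_card_of_stabilizers {P X : Type*} [Group P] [Finite P] [MulAction P X] [Finite X]
    {p : ℕ} (h : ∀ x : X, p ^ 2 ∣ (MulAction.stabilizer P x).index) : p ^ 2 ∣ Nat.card X := by
  classical
  haveI := Fintype.ofFinite (MulAction.orbitRel.Quotient P X)
  rw [Nat.card_congr (MulAction.selfEquivSigmaOrbits P X), Nat.card_sigma]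
  refine Finset.dvd_sum fun o _ => ?_
  rw [Nat.card_coe_set_eq, ← MulAction.index_stabilizer]
  exact h _

theorem sum_eq_zero_of_invariant {P X : Type*} [Group P] [Finite P] [MulAction P X] [Fintype X]
    {p : ℕ} [Fact p.Prime] (hP : IsPGroup p P) (hfix : IsEmpty (MulAction.fixedPoints P X))
    (f : X → ZMod p) (hf : ∀ (g : P) (x : X), f (g • x) = f x) : ∑ x, f x = 0 := by
  classical
  rw [← Finset.sum_fiberwise Finset.univ f f]
  refine Finset.sum_eq_zero fun v _ => ?_
  rw [Finset.sum_congr rfl (g := fun _ => v) (fun x hx => (Finset.mem_filter.mp hx).2), Finset.sum_const,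
    nsmul_eq_mul]
  have h : ((Finset.univ.filter fun x => f x = v).card : ZMod p) = 0 := by
    letI : MulAction P {x : X // f x = v} :=
      { smul := fun g x => ⟨g • x.1, (hf g x.1).trans x.2⟩
        one_smul := fun x => Subtype.ext (one_smul P x.1)
        mul_smul := fun a b x => Subtype.ext (mul_smul a b x.1) }
    have h1 := hP.card_modEq_card_fixedPoints {x : X // f x = v}
    haveI : IsEmpty (MulAction.fixedPoints P {x : X // f x = v}) :=
      ⟨fun x => hfix.false ⟨x.1.1, fun g => congrArg Subtype.val (x.2 g)⟩⟩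
    rw [Nat.card_of_isEmpty (α := MulAction.fixedPoints P {x : X // f x = v}), Nat.card_eq_fintype_card,
      Fintype.card_subtype] at h1
    rw [← Nat.cast_zero]
    exact (ZMod.natCast_eq_natCast_iff _ _ _).mpr h1
  rw [h, zero_mul]

theorem sylow_reduction {G : Type*} [Group G] [Finite G] {p : ℕ} [hp : Fact p.Prime] (S : Sylow p G)
    {n a : ℕ} (hS : Nat.card (S : Subgroup G) = p ^ n) (ha : a < n) :
    (Nat.card {H : Subgroup G // Nat.card H = p ^ a} : ZMod (p ^ 2)) =
      Kulakoff73.cnt p a (S : Subgroup G) := by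
  classical
  haveI := Fintype.ofFinite (Subgroup G)
  set P : Subgroup G := (S : Subgroup G) with hPdef
  have hP : IsPGroup p P := S.isPGroup'
  have hmaxP : ∀ Q : Subgroup G, IsPGroup p Q → Nat.card Q ≤ p ^ n := by
    intro Q hQ
    obtain ⟨T, hT⟩ := hQ.exists_le_sylow
    rw [← hS]
    exact (Subgroup.card_le_of_le hT).trans (le_of_eq (Nat.card_congr (Sylow.equiv T S).toEquiv))
  letI : MulAction P (Subgroup G) := MulAction.compHom (Subgroup G) ((MulAut.conj (G := G)).comp P.subtype)
  have hsmul : ∀ (g : P) (H : Subgroup G), g • H = MulAut.conj (g : G) • H := fun g H => rfl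
  have hcard : ∀ (g : P) (H : Subgroup G), Nat.card (g • H : Subgroup G) = Nat.card H := fun g H =>
    (Nat.card_congr (Subgroup.equivSMul (MulAut.conj (g : G)) H).toEquiv).symm
  have hfixP : ∀ g : P, g • P = P := by
    intro g
    rw [hsmul]
    exact Subgroup.conj_smul_eq_self_of_mem g.2
  set st : Subgroup G → ℕ := fun H => Nat.card (MulAction.stabilizer P H)
  have hst : ∀ (g : P) H, st (g • H) = st H := fun g H =>
    (Nat.card_congr (MulAction.stabilizerEquivStabilizer (g := g) (a := H) (b := g • H) rfl).toEquiv).symm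
  have hle_of_fix : ∀ H : Subgroup G, IsPGroup p H → P ≤ Subgroup.normalizer (H : Set G) → H ≤ P := by
    intro H hH hn
    have h1 : IsPGroup p (H ⊔ P : Subgroup G) := IsPGroup.to_sup_of_normal_left' hH hP hn
    have := S.is_maximal' h1 le_sup_right
    exact le_sup_left.trans this.le
  have hstab : ∀ (H : Subgroup G) (g : P), g ∈ MulAction.stabilizer P H →
      (g : G) ∈ Subgroup.normalizer (H : Set G) := by
    intro H g hg
    rw [Subgroup.mem_normalizer_iff_map_conj_eq]
    exact hg
  set X := Finset.univ.filter fun H : Subgroup G => Nat.card H = p ^ a ∧ ¬ H ≤ P with hX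
  have hsplit : Nat.card {H : Subgroup G // Nat.card H = p ^ a} = Kulakoff73.cnt p a P + X.card := by
    rw [Kulakoff73.cnt, Nat.card_eq_fintype_card, Nat.card_eq_fintype_card, Fintype.card_subtype,
      Fintype.card_subtype, hX, ← Finset.card_union_of_disjoint]
    · congr 1
      ext H
      simp only [Finset.mem_union, Finset.mem_filter, Finset.mem_univ, true_and]
      tauto
    · rw [Finset.disjoint_filter]; tauto
  have hinvX : ∀ (g : P) (H : Subgroup G), H ∈ X → g • H ∈ X := by
    intro g H hH
    simp only [hX, Finset.mem_filter, Finset.mem_univ, true_and] at hH ⊢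
    refine ⟨(hcard g H).trans hH.1, fun hle => hH.2 ?_⟩
    have h' : MulAut.conj (g : G) • H ≤ MulAut.conj (g : G) • P := hle.trans_eq (hfixP g).symm
    exact Subgroup.pointwise_smul_le_pointwise_smul_iff.mp h'
  have hstX : ∀ H ∈ X, st H ∣ p ^ (n - 1) := by
    intro H hH
    simp only [hX, Finset.mem_filter, Finset.mem_univ, true_and] at hH
    obtain ⟨j, hj, hj'⟩ := (Nat.dvd_prime_pow hp.out).mp
      (hS ▸ Subgroup.card_subgroup_dvd_card (MulAction.stabilizer P H))
    show Nat.card _ ∣ _
    rw [hj']
    refine pow_dvd_pow p ?_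
    by_contra hlt
    have htop : MulAction.stabilizer P H = ⊤ :=
      Subgroup.eq_top_of_card_eq _ (by rw [hj', hS]; congr 1; omega)
    refine hH.2 (hle_of_fix H (IsPGroup.of_card hH.1) fun g hg => ?_)
    exact hstab H ⟨g, hg⟩ (htop ▸ Subgroup.mem_top _)
  set X1 := X.filter fun H => st H = p ^ (n - 1) with hX1
  have hX2 : p ^ 2 ∣ (X.filter fun H => ¬ st H = p ^ (n - 1)).card := by
    set X2 := X.filter fun H => ¬ st H = p ^ (n - 1) with hX2def
    have hinv : ∀ (g : P) (H : Subgroup G), H ∈ X2 → g • H ∈ X2 := by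
      intro g H hH
      rw [hX2def, Finset.mem_filter] at hH ⊢
      exact ⟨hinvX g H hH.1, by rw [hst]; exact hH.2⟩
    letI : MulAction P X2 :=
      { smul := fun g H => ⟨g • H.1, hinv g H.1 H.2⟩
        one_smul := fun H => Subtype.ext (one_smul P H.1)
        mul_smul := fun x y H => Subtype.ext (mul_smul x y H.1) }
    rw [← Fintype.card_coe, ← Nat.card_eq_fintype_card]
    refine sq_dvd_card_of_stabilizers (P := P) fun H => ?_
    have hH := Finset.mem_filter.mp H.2
    have heq : MulAction.stabilizer P H = MulAction.stabilizer P H.1 := by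
      ext g
      simp only [MulAction.mem_stabilizer_iff, Subtype.ext_iff]
      rfl
    rw [heq]
    obtain ⟨j, hj, hj'⟩ := (Nat.dvd_prime_pow hp.out).mp (hstX H.1 hH.1)
    have hjn : j ≠ n - 1 := fun h => hH.2 (h ▸ hj')
    have h := Subgroup.card_mul_index (MulAction.stabilizer P H.1)
    rw [show Nat.card (MulAction.stabilizer P H.1) = p ^ j from hj', hS,
      show n = j + (n - j) by omega, pow_add] at h
    rw [Nat.eq_of_mul_eq_mul_left (pow_pos hp.out.pos _) h]
    exact pow_dvd_pow p (by omega)
  set MX := Finset.univ.filter fun M : Subgroup G => M ≤ P ∧ Nat.card M = p ^ (n - 1) with hMX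
  set φ : Subgroup G → Subgroup G := fun H => (MulAction.stabilizer P H).map P.subtype with hφ
  have hmaps : ∀ H ∈ X1, φ H ∈ MX := by
    intro H hH
    rw [hX1, Finset.mem_filter] at hH
    simp only [hMX, Finset.mem_filter, Finset.mem_univ, true_and]
    exact ⟨Subgroup.map_subtype_le _, (Subgroup.card_map_of_injective P.subtype_injective).trans hH.2⟩
  have hX1 : (X1.card : ZMod (p ^ 2)) = 0 := by
    rw [Finset.card_eq_sum_card_fiberwise hmaps, Nat.cast_sum]
    refine Finset.sum_eq_zero fun M hM => ?_
    simp only [hMX, Finset.mem_filter, Finset.mem_univ, true_and] at hM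
    obtain ⟨hMP, hMc⟩ := hM
    have hMp : IsPGroup p M := hP.to_le hMP
    have hnormM : ∀ Q : Subgroup G, IsPGroup p Q → M ≤ Q → Nat.card Q = p ^ n →
        Q ≤ Subgroup.normalizer (M : Set G) := by
      intro Q hQ hMQ hQc
      have h := Subgroup.card_mul_index (M.subgroupOf Q)
      rw [Nat.card_congr (Subgroup.subgroupOfEquivOfLe hMQ).toEquiv, hMc, hQc,
        show n = n - 1 + 1 by omega, pow_succ, Nat.add_sub_cancel] at h
      haveI := PGroupsBasic.normal_of_index_eq hQ (Nat.eq_of_mul_eq_mul_left (pow_pos hp.out.pos _) h)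
      exact (Subgroup.normal_subgroupOf_iff_le_normalizer hMQ).mp inferInstance
    set QX := Finset.univ.filter fun Q : Subgroup G => M ≤ Q ∧ Q ≠ P ∧ Nat.card Q = p ^ n with hQX
    have hQ : ∀ H ∈ X1.filter (fun H => φ H = M), H ⊔ M ∈ QX := by
      intro H hH
      simp only [Finset.mem_filter, X1, hX, Finset.mem_univ, true_and] at hH
      obtain ⟨⟨⟨hHc, hHP⟩, -⟩, hφM⟩ := hH
      have hMN : M ≤ Subgroup.normalizer (H : Set G) := by
        rw [← hφM]
        rintro _ ⟨g, hg, rfl⟩
        exact hstab H g hg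
      have hsp : IsPGroup p (H ⊔ M : Subgroup G) :=
        IsPGroup.to_sup_of_normal_left' (IsPGroup.of_card hHc) hMp hMN
      simp only [hQX, Finset.mem_filter, Finset.mem_univ, true_and]
      refine ⟨le_sup_right, fun h => hHP (h ▸ le_sup_left), ?_⟩
      obtain ⟨j, hj⟩ := IsPGroup.iff_card.mp hsp
      have hlt : Nat.card M < Nat.card (H ⊔ M : Subgroup G) := by
        by_contra h
        have := Subgroup.eq_of_le_of_card_ge (le_sup_right : M ≤ H ⊔ M) (not_lt.mp h)
        exact hHP ((this ▸ le_sup_left : H ≤ M).trans hMP)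
      rw [hMc, hj, Nat.pow_lt_pow_iff_right hp.out.one_lt] at hlt
      have hle := hmaxP _ hsp
      rw [hj, Nat.pow_le_pow_iff_right hp.out.one_lt] at hle
      rw [hj]; congr 1; omega
    rw [Finset.card_eq_sum_card_fiberwise hQ]
    set f : Subgroup G → ℕ := fun Q => ((X1.filter fun H => φ H = M).filter fun H => H ⊔ M = Q).card
    have hfdvd : ∀ Q ∈ QX, p ∣ f Q := by
      intro Q hQ
      simp only [hQX, Finset.mem_filter, Finset.mem_univ, true_and] at hQ
      obtain ⟨hMQ, hQP, hQc⟩ := hQ
      have hQp : IsPGroup p Q := IsPGroup.of_card hQc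
      set W := Finset.univ.filter fun H : Subgroup G => H ≤ Q ∧ ¬ H ≤ M ∧ Nat.card H = p ^ a with hW
      have hWdvd : (W.card : ZMod p) = 0 := by
        have h1 : Kulakoff73.cnt p a Q = Kulakoff73.cnt p a M + W.card := by
          rw [Kulakoff73.cnt, Kulakoff73.cnt, Nat.card_eq_fintype_card, Nat.card_eq_fintype_card,
            Fintype.card_subtype, Fintype.card_subtype, hW, ← Finset.card_union_of_disjoint]
          · congr 1
            ext H
            simp only [Finset.mem_union, Finset.mem_filter, Finset.mem_univ, true_and]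
            exact ⟨fun h => (em (H ≤ M)).imp (fun hle => ⟨hle, h.2⟩) (fun hle => ⟨h.1, hle, h.2⟩),
              fun h => h.elim (fun h => ⟨h.1.trans hMQ, h.2⟩) (fun h => ⟨h.1, h.2.2⟩)⟩
          · rw [Finset.disjoint_filter]; tauto
        have h2 : ∀ A : Subgroup G, IsPGroup p A → p ^ a ≤ Nat.card A →
            (Kulakoff73.cnt p a A : ZMod p) = 1 := by
          intro A hA hle
          obtain ⟨j, hj⟩ := IsPGroup.iff_card.mp hA
          rw [hj, Nat.pow_le_pow_iff_right hp.out.one_lt] at hle
          rw [Kulakoff73.cnt_eq, ← Nat.cast_one]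
          exact (ZMod.natCast_eq_natCast_iff _ _ _).mpr
            (SubgroupCount72.card_subgroups_modEq_one hp.out (hj ▸ pow_dvd_pow p hle))
        have h3 := congrArg (fun t : ℕ => (t : ZMod p)) h1
        simp only [Nat.cast_add] at h3
        rw [h2 Q hQp (by rw [hQc]; exact pow_le_pow_right₀ hp.out.one_lt.le (by omega)),
          h2 M hMp (by rw [hMc]; exact pow_le_pow_right₀ hp.out.one_lt.le (by omega))] at h3
        exact left_eq_add.mp h3
      letI : MulAction M (Subgroup G) :=
        MulAction.compHom (Subgroup G) ((MulAut.conj (G := G)).comp M.subtype)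
      have hWinv : ∀ (g : M) (H : Subgroup G), H ∈ W → MulAut.conj (g : G) • H ∈ W := by
        intro g H hH
        simp only [hW, Finset.mem_filter, Finset.mem_univ, true_and] at hH ⊢
        refine ⟨?_, fun hle => hH.2.1 ?_,
          (Nat.card_congr (Subgroup.equivSMul (MulAut.conj (g : G)) H).toEquiv).symm.trans hH.2.2⟩
        · exact (Subgroup.pointwise_smul_le_pointwise_smul_iff.mpr hH.1).trans_eq
            (Subgroup.conj_smul_eq_self_of_mem (hMQ g.2))
        · exact Subgroup.pointwise_smul_le_pointwise_smul_iff.mp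
            (hle.trans_eq (Subgroup.conj_smul_eq_self_of_mem g.2).symm)
      letI : MulAction M W :=
        { smul := fun g H => ⟨MulAut.conj (g : G) • H.1, hWinv g H.1 H.2⟩
          one_smul := fun H => Subtype.ext (one_smul M H.1)
          mul_smul := fun x y H => Subtype.ext (mul_smul x y H.1) }
      have hfix := hMp.card_modEq_card_fixedPoints W
      rw [Nat.card_eq_fintype_card, Fintype.card_coe] at hfix
      have hfix' : (Nat.card (MulAction.fixedPoints M W) : ZMod p) = 0 :=
        ((ZMod.natCast_eq_natCast_iff _ _ _).mpr hfix).symm.trans hWdvd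
      rw [← ZMod.natCast_eq_zero_iff]
      refine Eq.trans ?_ hfix'
      congr 1
      show (Finset.filter _ _).card = _
      rw [← Fintype.card_coe, ← Nat.card_eq_fintype_card]
      refine Nat.card_congr
        { toFun := fun H => ⟨⟨H.1, ?_⟩, fun g => Subtype.ext ?_⟩
          invFun := fun H => ⟨H.1.1, ?_⟩
          left_inv := fun H => rfl
          right_inv := fun H => rfl }
      · have h := H.2
        simp only [Finset.mem_filter, X1, hX, Finset.mem_univ, true_and] at h
        obtain ⟨⟨⟨⟨hHc, hHP⟩, -⟩, -⟩, hsup⟩ := h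
        simp only [hW, Finset.mem_filter, Finset.mem_univ, true_and]
        exact ⟨le_sup_left.trans hsup.le, fun hle => hHP (hle.trans hMP), hHc⟩
      · have h := H.2
        simp only [Finset.mem_filter, X1, hX, Finset.mem_univ, true_and] at h
        obtain ⟨⟨-, hφM⟩, -⟩ := h
        obtain ⟨g', hg', he⟩ := Subgroup.mem_map.mp (show (g : G) ∈ φ H.1 by rw [hφM]; exact g.2)
        show MulAut.conj (g : G) • H.1 = H.1
        rw [← he]
        exact hg'
      · have hH := H.1.2
        simp only [hW, Finset.mem_filter, Finset.mem_univ, true_and] at hH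
        obtain ⟨hHQ, hHM, hHc⟩ := hH
        have hsup : H.1.1 ⊔ M = Q := by
          have hfix : ∀ g : M, MulAut.conj (g : G) • H.1.1 = H.1.1 := fun g =>
            congrArg Subtype.val (H.2 g)
          refine Subgroup.eq_of_le_of_card_ge (sup_le hHQ hMQ) ?_
          obtain ⟨j, hj⟩ := IsPGroup.iff_card.mp (hQp.to_le (sup_le hHQ hMQ))
          have hlt : Nat.card M < Nat.card (H.1.1 ⊔ M : Subgroup G) := by
            by_contra h
            exact hHM (le_sup_left.trans (Subgroup.eq_of_le_of_card_ge (le_sup_right : M ≤ H.1.1 ⊔ M) (not_lt.mp h)).ge)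
          rw [hMc, hj, Nat.pow_lt_pow_iff_right hp.out.one_lt] at hlt
          rw [hQc, hj]
          exact pow_le_pow_right₀ hp.out.one_lt.le (by omega)
        have hHP : ¬ H.1.1 ≤ P := fun h => hQP
          (Subgroup.eq_of_le_of_card_ge (hsup.ge.trans (sup_le h hMP)) (by rw [hQc]; exact hS.le))
        have hXm : H.1.1 ∈ X := by
          simp only [hX, Finset.mem_filter, Finset.mem_univ, true_and]; exact ⟨hHc, hHP⟩
        have hMle : M ≤ φ H.1.1 := fun g hg =>
          Subgroup.mem_map.mpr ⟨⟨g, hMP hg⟩, congrArg Subtype.val (H.2 ⟨g, hg⟩), rfl⟩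
        have hφc : Nat.card (φ H.1.1) = st H.1.1 := Subgroup.card_map_of_injective P.subtype_injective
        have hdle : st H.1.1 ≤ p ^ (n - 1) := Nat.le_of_dvd (pow_pos hp.out.pos _) (hstX _ hXm)
        have heq : M = φ H.1.1 := Subgroup.eq_of_le_of_card_ge hMle (by rw [hφc, hMc]; exact hdle)
        have hst1 : st H.1.1 = p ^ (n - 1) := by rw [← hφc, ← heq, hMc]
        simp only [Finset.mem_filter, X1]
        exact ⟨⟨⟨hXm, hst1⟩, heq.symm⟩, hsup⟩
    have hMfix : ∀ g : P, g • M = M := by
      intro g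
      exact Subgroup.mem_normalizer_iff_map_conj_eq.mp (hnormM P hP hMP hS g.2)
    have hQinv : ∀ (g : P) (Q : Subgroup G), Q ∈ QX → g • Q ∈ QX := by
      intro g Q hQ
      simp only [hQX, Finset.mem_filter, Finset.mem_univ, true_and] at hQ ⊢
      refine ⟨?_, fun h => hQ.2.1 ?_, (hcard g Q).trans hQ.2.2⟩
      · rw [← hMfix g, hsmul, hsmul]
        exact Subgroup.pointwise_smul_le_pointwise_smul_iff.mpr hQ.1
      · exact (MulAction.injective g) (h.trans (hfixP g).symm)
    letI : MulAction P QX :=
      { smul := fun g Q => ⟨g • Q.1, hQinv g Q.1 Q.2⟩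
        one_smul := fun Q => Subtype.ext (one_smul P Q.1)
        mul_smul := fun x y Q => Subtype.ext (mul_smul x y Q.1) }
    have hnofix : IsEmpty (MulAction.fixedPoints P QX) := by
      refine ⟨fun Q => ?_⟩
      have hQ := Q.1.2
      simp only [hQX, Finset.mem_filter, Finset.mem_univ, true_and] at hQ
      have hle := hle_of_fix Q.1.1 (IsPGroup.of_card hQ.2.2) fun g hg =>
        hstab Q.1.1 ⟨g, hg⟩ (congrArg Subtype.val (Q.2 ⟨g, hg⟩))
      exact hQ.2.1 (Subgroup.eq_of_le_of_card_ge hle (by rw [hQ.2.2]; exact hS.le))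
    have hfinv : ∀ (g : P) (Q : Subgroup G), f (g • Q) = f Q := by
      intro g Q
      have key : ∀ (g : P) (H Q : Subgroup G), H ∈ (X1.filter fun H => φ H = M).filter (fun H => H ⊔ M = Q) →
          g • H ∈ (X1.filter fun H => φ H = M).filter (fun H => H ⊔ M = g • Q) := by
        intro g H Q hH
        simp only [Finset.mem_filter, X1] at hH ⊢
        obtain ⟨⟨⟨hHX, hHst⟩, hφM⟩, hsup⟩ := hH
        refine ⟨⟨⟨hinvX g H hHX, (hst g H).trans hHst⟩, ?_⟩, ?_⟩
        · refine Subgroup.eq_of_le_of_card_ge ?_ (le_of_eq ?_) |>.symm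
          · intro x hx
            refine Subgroup.mem_map.mpr ⟨⟨x, hMP hx⟩, ?_, rfl⟩
            have hx' : (g : G)⁻¹ * x * g ∈ M := by
              have h1 := (Subgroup.mem_normalizer_iff.mp (hnormM P hP hMP hS (g⁻¹).2) x).mp hx
              simpa using h1
            obtain ⟨y, hy, he⟩ := Subgroup.mem_map.mp (hφM.symm ▸ hx' : (g : G)⁻¹ * x * g ∈ φ H)
            have hxy : (⟨x, hMP hx⟩ : P) = g * y * g⁻¹ := by
              apply Subtype.ext
              show x = (g : G) * (y : G) * (g : G)⁻¹
              rw [show (y : G) = (g : G)⁻¹ * x * g from he]; group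
            show (⟨x, hMP hx⟩ : P) • g • H = g • H
            rw [hxy, smul_smul, inv_mul_cancel_right, mul_smul, MulAction.mem_stabilizer_iff.mp hy]
          · rw [Subgroup.card_map_of_injective P.subtype_injective, hMc]
            exact (hst g H).trans hHst
        · rw [← hsup, hsmul, hsmul, Subgroup.smul_sup]
          congr 1
          exact (hMfix g).symm
      refine le_antisymm ?_ ?_
      · refine Finset.card_le_card_of_injOn (fun H => g⁻¹ • H) (fun H hH => ?_) (MulAction.injective _).injOn
        have h := key g⁻¹ H _ hH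
        rwa [inv_smul_smul] at h
      · exact Finset.card_le_card_of_injOn (fun H => g • H) (fun H hH => key g H Q hH)
          (MulAction.injective _).injOn
    choose t ht using fun Q : QX => hfdvd Q.1 Q.2
    have hsum := sum_eq_zero_of_invariant (P := P) hP hnofix (fun Q : QX => (t Q : ZMod p)) (by
      intro g Q
      congr 1
      refine Nat.eq_of_mul_eq_mul_left hp.out.pos ?_
      rw [← ht, ← ht]
      exact hfinv g Q.1)
    rw [← Finset.sum_coe_sort, Finset.sum_congr rfl (fun Q _ => ht Q), ← Finset.mul_sum,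
      Nat.cast_mul]
    rw [← Nat.cast_sum, ZMod.natCast_eq_zero_iff] at hsum
    obtain ⟨u, hu⟩ := hsum
    rw [hu, Nat.cast_mul, ← mul_assoc, ← Nat.cast_mul, ← sq, ZMod.natCast_self, zero_mul]
  rw [hsplit, Nat.cast_add, add_eq_left, ← Finset.card_filter_add_card_filter_not (s := X)
    (fun H => st H = p ^ (n - 1)), Nat.cast_add, hX1, zero_add, ZMod.natCast_eq_zero_iff]
  exact hX2

/-- Let G be a finite group, p a prime and a a natural number such that p^(a+1) divides the order of G. Then the number of subgroups of G of order p^a is congruent to 1 or to 1 + p modulo p². -/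
theorem result {G : Type*} [Group G] [Finite G] (p a : ℕ) (hp : p.Prime) (hdvd : p ^ (a + 1) ∣ Nat.card G) :
    Nat.card {H : Subgroup G // Nat.card H = p ^ a} ≡ 1 [MOD p ^ 2] ∨
      Nat.card {H : Subgroup G // Nat.card H = p ^ a} ≡ 1 + p [MOD p ^ 2] := by
  haveI := Fact.mk hp
  classical
  have hdvda : p ^ a ∣ Nat.card G := (pow_dvd_pow p (Nat.le_succ a)).trans hdvd
  have hmod := SubgroupCount72.card_subgroups_modEq_one (G := G) hp hdvda
  rcases hp.eq_two_or_odd' with hp2 | hodd
  · subst hp2
    have h2 : Nat.card {H : Subgroup G // Nat.card H = 2 ^ a} % 2 = 1 := hmod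
    rcases (show Nat.card {H : Subgroup G // Nat.card H = 2 ^ a} % 4 = 1 ∨
      Nat.card {H : Subgroup G // Nat.card H = 2 ^ a} % 4 = 3 by omega) with h | h
    · left; exact h
    · right; exact h
  have S : Sylow p G := default
  obtain ⟨n, hn⟩ := IsPGroup.iff_card.mp S.isPGroup'
  have han : a + 1 ≤ n := by
    have h := S.card_eq_multiplicity
    rw [hn] at h
    rw [Nat.pow_right_injective hp.two_le h]
    exact (hp.pow_dvd_iff_le_factorization Nat.card_pos.ne').mp hdvd
  have hred := sylow_reduction S hn (a := a) han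
  have hcast : ∀ {x y : ℕ}, (x : ZMod (p ^ 2)) = (y : ZMod (p ^ 2)) → x ≡ y [MOD p ^ 2] :=
    fun h => (ZMod.natCast_eq_natCast_iff _ _ _).mp h
  rcases Nat.eq_zero_or_pos a with rfl | ha
  · left
    apply hcast
    rw [hred, Kulakoff73.cnt_eq]
    congr 1
    rw [Nat.card_eq_one_iff_unique]
    exact ⟨⟨fun u v => Subtype.ext ((Subgroup.card_eq_one.mp (by simpa using u.2)).trans
      (Subgroup.card_eq_one.mp (by simpa using v.2)).symm)⟩, ⟨⟨⊥, by simp⟩⟩⟩
  by_cases hcy : IsCyclic (S : Subgroup G)
  · left
    apply hcast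
    rw [hred, Kulakoff73.cnt_eq]
    congr 1
    rw [Nat.card_eq_one_iff_unique]
    obtain ⟨L, -, -, hL⟩ := PGroupsBasic.exists_normal_card_pow S.isPGroup' (⊤ : Subgroup (S : Subgroup G)) a
      (by rw [Subgroup.card_top, hn]; exact pow_le_pow_right₀ hp.one_lt.le (by omega))
    exact ⟨⟨fun u v => Subtype.ext (PGroupsCyclic.eq_of_card_eq_of_isCyclic (A := ⊤)
      (isCyclic_of_surjective Subgroup.topEquiv.symm.toMonoidHom Subgroup.topEquiv.symm.surjective)
      le_top le_top (u.2.trans v.2.symm))⟩, ⟨⟨L, hL⟩⟩⟩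
  · right
    apply hcast
    rw [hred, Kulakoff73.cnt_eq, Kulakoff73.kulakoff n (S : Subgroup G) hn hcy
      (fun h => absurd (h ▸ hodd) (by decide)) a ha (by omega)]
    push_cast
    ring

end Cfsg.Agent.S4237
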