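import Cfsg.Statements.S4238
import Cfsg.Agent.Lib.TransferAlperin
import Cfsg.Agent.Lib.TransferOmega

set_option autoImplicit false
open Cfsg

namespace Cfsg.Agent.S4238


open Subgroup
open scoped Pointwise

/-- A group `V ⋊ C_q` with `C_q` fixed-point-free on the abelian `p`-group `V ≠ 1` has trivial
`p'`-core and no element of order equal to the exponent. -/
theorem no_exponent_element {K : Type*} [Group K] [Finite K] {p q : ℕ} [hp : Fact p.Prime]
    (hq : q.Prime) (hqp : q ≠ p) (V : Subgroup K) [V.Normal] (hV : IsPGroup p V) (a : K)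
    (haq : a ^ q = 1) (hgen : V ⊔ zpowers a = ⊤) (hne : V ≠ ⊥)
    (hcomm : ∀ x ∈ V, ∀ y ∈ V, x * y = y * x)
    (hfix : ∀ x ∈ V, a * x = x * a → x = 1) :
    Cfsg.pPrimeCore p K = ⊥ ∧ ¬ ∃ k : K, orderOf k = Monoid.exponent K := by
  have hdec : ∀ y : K, ∃ v ∈ V, ∃ i : ℤ, y = v * a ^ i := by
    intro y
    have : y ∈ V ⊔ zpowers a := hgen ▸ mem_top y
    obtain ⟨v, hv, b, ⟨i, rfl⟩, rfl⟩ := mem_sup_of_normal_left.mp this
    exact ⟨v, hv, i, rfl⟩
  -- an element centralising a nontrivial element of `V` lies in `V`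
  have hcen : ∀ y z : K, z ∈ V → z ≠ 1 → y * z = z * y → y ∈ V := by
    intro y z hz hz1 hyz
    obtain ⟨v, hv, i, rfl⟩ := hdec y
    have h1 : a ^ i * z = z * a ^ i := by
      refine mul_left_cancel (a := v) ?_
      rw [← mul_assoc, hyz, ← mul_assoc, hcomm z hz v hv, mul_assoc]
    by_cases hi : (q : ℤ) ∣ i
    · obtain ⟨j, rfl⟩ := hi
      rw [zpow_mul, zpow_natCast, haq, one_zpow, mul_one]
      exact hv
    · exfalso
      obtain ⟨s, t, hst⟩ := (Int.isCoprime_iff_gcd_eq_one.mpr (by
        rw [Int.gcd_comm]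
        exact (Nat.Prime.coprime_iff_not_dvd hq).mpr
          (fun h => hi (Int.natCast_dvd.mpr h))) : IsCoprime i (q : ℤ))
      have ha : a = (a ^ i) ^ s := by
        rw [← zpow_mul]
        calc a = a ^ (s * i + t * (q : ℤ)) := by rw [hst, zpow_one]
          _ = a ^ (i * s) := by
            rw [zpow_add, mul_comm t, zpow_mul, zpow_mul, zpow_natCast, haq, one_zpow, mul_one,
              mul_comm i, zpow_mul]
      exact hz1 (hfix z hz (ha ▸ (Commute.zpow_left h1 s :)))
  refine ⟨le_bot_iff.mp (sSup_le ?_), ?_⟩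
  · rintro M ⟨hMn, hMc⟩ m hm
    have hdisj : Disjoint M V := by
      obtain ⟨n, hn⟩ := IsPGroup.iff_card.mp hV
      refine disjoint_of_coprime_natCard ?_
      rw [hn]
      exact hMc.pow_right n
    haveI := (nontrivial_iff_ne_bot V).mpr hne
    obtain ⟨⟨z, hz⟩, hz1⟩ := exists_ne (1 : V)
    have hmz := commute_of_normal_of_disjoint M V hMn inferInstance hdisj m z hm hz
    have hmV := hcen m z hz (fun h => hz1 (Subtype.ext h)) hmz
    exact (Subgroup.mem_bot).mpr (Subgroup.disjoint_def.mp hdisj hm hmV)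
  rintro ⟨k, hk⟩
  have ha1 : a ≠ 1 := by
    rintro rfl
    haveI := (nontrivial_iff_ne_bot V).mpr hne
    obtain ⟨⟨z, hz⟩, hz1⟩ := exists_ne (1 : V)
    exact hz1 (Subtype.ext (hfix z hz (by simp)))
  have haq' : orderOf a = q :=
    haveI := Fact.mk hq
    orderOf_eq_prime haq ha1
  have hpV : ∃ z ∈ V, orderOf z = p := by
    haveI : Nontrivial V := (nontrivial_iff_ne_bot V).mpr hne
    obtain ⟨z, hz⟩ := exists_prime_orderOf_dvd_card' (G := V) p (by
      obtain ⟨n, hn0, hn⟩ := IsPGroup.nontrivial_iff_card hV |>.mp inferInstance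
      rw [hn]; exact dvd_pow_self p hn0.ne')
    exact ⟨z, z.2, by rwa [Subgroup.orderOf_coe]⟩
  obtain ⟨z₀, hz₀, hz₀p⟩ := hpV
  have hdp : p ∣ orderOf k := hk ▸ hz₀p ▸ Monoid.order_dvd_exponent z₀
  have hdq : q ∣ orderOf k := hk ▸ haq' ▸ Monoid.order_dvd_exponent a
  have hk0 : orderOf k ≠ 0 := (orderOf_pos k).ne'
  set y := k ^ (orderOf k / q)
  set z := k ^ (orderOf k / p)
  have hy : orderOf y = q := orderOf_pow_orderOf_div hk0 hdq
  have hz : orderOf z = p := orderOf_pow_orderOf_div hk0 hdp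
  have hzV : z ∈ V := by
    obtain ⟨v, hv, i, hi⟩ := hdec z
    have h1 : (QuotientGroup.mk' V z) ^ p = 1 := by
      rw [← map_pow, ← hz, pow_orderOf_eq_one, map_one]
    have h2 : (QuotientGroup.mk' V z) ^ q = 1 := by
      rw [hi, map_mul, show QuotientGroup.mk' V v = 1 from (QuotientGroup.eq_one_iff v).mpr hv,
        one_mul, ← map_pow, ← zpow_natCast, ← zpow_mul, mul_comm, zpow_mul, zpow_natCast, haq,
        one_zpow, map_one]
    have := pow_gcd_eq_one.mpr ⟨h1, h2⟩
    rw [(Nat.coprime_primes hp.out hq).mpr hqp.symm, pow_one] at this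
    exact (QuotientGroup.eq_one_iff z).mp this
  have hyV := hcen y z hzV (fun h => hp.out.ne_one (by rw [← hz, h, orderOf_one]))
    ((Commute.refl k).pow_pow _ _)
  obtain ⟨n, hn⟩ := IsPGroup.iff_orderOf.mp hV ⟨y, hyV⟩
  rw [orderOf_mk, hy] at hn
  exact hqp ((Nat.prime_dvd_prime_iff_eq hq hp.out).mp (hq.dvd_of_dvd_pow (dvd_of_eq hn)))

theorem exists_orderOf_eq_exponent_of_isPGroup {K : Type*} [Group K] [Finite K] {p : ℕ}
    [hp : Fact p.Prime] (h : IsPGroup p K) : ∃ k : K, orderOf k = Monoid.exponent K := by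
  obtain ⟨k, hk⟩ := Finite.exists_max (fun g : K => orderOf g)
  refine ⟨k, Nat.dvd_antisymm (Monoid.order_dvd_exponent k)
    (Monoid.exponent_dvd.mpr fun g => ?_)⟩
  obtain ⟨i, hi⟩ := IsPGroup.iff_orderOf.mp h g
  obtain ⟨j, hj⟩ := IsPGroup.iff_orderOf.mp h k
  rw [hi, hj]
  exact pow_dvd_pow p ((Nat.pow_le_pow_iff_right hp.out.one_lt).mp (hi ▸ hj ▸ hk g))

/-- Let G be a finite group and p a prime. Then G has a normal p-complement if and only if every section K = H/N of G (N a normal subgroup of a subgroup H) whose largest normal subgroup of order prime to p is trivial contains an element whose order equals the exponent of K. -/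
theorem result {G : Type*} [Group G] [Finite G] (p : ℕ) [Fact p.Prime] :
    Cfsg.HasNormalPComplement p G ↔
      ∀ (H : Subgroup G) (N : Subgroup H) [N.Normal], Cfsg.pPrimeCore p (H ⧸ N) = ⊥ →
        ∃ k : H ⧸ N, orderOf k = Monoid.exponent (H ⧸ N) := by
  classical
  refine ⟨fun h H N _ hcore => ?_, fun hyp => ?_⟩
  · have hK : Cfsg.HasNormalPComplement p (H ⧸ N) :=
      TransferPResidual.hasNormalPComplement_quotient (G := H)
        (h := TransferPResidual.hasNormalPComplement_subgroup H h) N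
    have hbot : Cfsg.pResidual p (H ⧸ N) = ⊥ := by
      rw [eq_bot_iff, ← hcore]
      refine le_sSup ⟨inferInstance, ?_⟩
      exact ((Nat.Prime.coprime_iff_not_dvd Fact.out).mpr
        (TransferPResidual.hasNormalPComplement_iff_not_dvd.mp hK)).symm
    exact exists_orderOf_eq_exponent_of_isPGroup (TransferPResidual.pResidual_eq_bot_iff.mp hbot)
  obtain ⟨P⟩ : Nonempty (Sylow p G) := inferInstance
  by_contra hnot
  rw [TransferAlperin.hasNormalPComplement_iff_centralizer P] at hnot
  push Not at hnot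
  obtain ⟨Q, hQP, g, hgN, hgc, hgC⟩ := hnot
  -- minimal `(a, R)`
  let S : Set (G × Subgroup G) := {x | IsPGroup p x.2 ∧ x.1 ∈ normalizer (x.2 : Set G) ∧
    Nat.Coprime (orderOf x.1) p ∧ x.1 ∉ centralizer (x.2 : Set G)}
  obtain ⟨⟨a, R⟩, ⟨hR, haN, hac, haC⟩, hmin⟩ := Set.exists_min_image S
    (fun x => toLex (orderOf x.1, Nat.card x.2)) (Set.toFinite _)
    ⟨(g, Q), P.isPGroup'.to_le hQP, hgN, hgc, hgC⟩
  have ha1 : orderOf a ≠ 1 := fun h => haC (by rw [orderOf_eq_one_iff.mp h]; exact one_mem _)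
  set q := (orderOf a).minFac
  have hq : q.Prime := Nat.minFac_prime ha1
  have hqd : q ∣ orderOf a := Nat.minFac_dvd _
  have hqp : q ≠ p := fun h => (Nat.Prime.coprime_iff_not_dvd (Fact.out : p.Prime)).mp hac.symm
    (h ▸ hqd)
  have haR : ∀ x ∈ R, a * x * a⁻¹ ∈ R := fun x hx => (mem_normalizer_iff.mp haN x).mp hx
  -- proper invariant subgroups are centralised
  have hlow : ∀ X < R, a ∈ normalizer (X : Set G) → ∀ x ∈ X, a * x * a⁻¹ = x := by
    intro X hX hXN x hx
    by_contra hne
    have hXC : a ∉ centralizer (X : Set G) := fun h => hne (by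
      rw [← mem_centralizer_iff.mp h x hx, mul_inv_cancel_right])
    have := hmin (a, X) ⟨hR.to_le hX.le, hXN, hac, hXC⟩
    have hlt : Nat.card X < Nat.card R := Set.Finite.card_lt_card (Set.toFinite _) hX
    rw [Prod.Lex.toLex_le_toLex] at this
    simp only [] at this
    omega
  have haqC : a ^ q ∈ centralizer (R : Set G) := by
    by_contra hne
    have hlt : orderOf (a ^ q) < orderOf a := by
      rw [orderOf_pow' a hq.ne_zero, Nat.gcd_eq_right hqd]
      exact Nat.div_lt_self (orderOf_pos a) hq.one_lt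
    have := hmin (a ^ q, R) ⟨hR, pow_mem haN q, Nat.Coprime.coprime_dvd_left
      (orderOf_pow_dvd q) hac, hne⟩
    rw [Prod.Lex.toLex_le_toLex] at this
    simp only [] at this
    omega
  have hRne : R ≠ ⊥ := by
    rintro rfl
    exact haC (fun t ht => by rw [mem_bot.mp ht, one_mul, mul_one])
  -- a maximal proper invariant normal subgroup of `R`
  let T : Set (Subgroup G) := {X | X < R ∧ R ≤ normalizer (X : Set G) ∧ a ∈ normalizer (X : Set G)}
  obtain ⟨F, ⟨hFR, hRF, haF⟩, hFmax⟩ := (Set.toFinite T).exists_maximalFor id T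
    ⟨⊥, bot_lt_iff_ne_bot.mpr hRne, by rw [normalizer_eq_top]; exact le_top, by rw [normalizer_eq_top]; exact mem_top a⟩
  have hFa := hlow F hFR haF
  have hFnR : (F.subgroupOf R).Normal := normal_subgroupOf_iff_le_normalizer hFR.le |>.mpr hRF
  have hcomm : ⁅R, R⁆ ≤ F := by
    by_contra hcon
    have hCR : ⁅R, R⁆ ≤ R := commutator_le_self R
    have hmem : F ⊔ ⁅R, R⁆ ∈ T ∨ F ⊔ ⁅R, R⁆ = R := by
      rcases (sup_le hFR.le hCR).lt_or_eq with h | h
      · left
        refine ⟨h, ?_, ?_⟩
        · intro r hr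
          refine TransferAlperin.mem_normalizer_of_cj_eq ?_
          rw [TransferAlperin.cj, Subgroup.map_sup, map_commutator]
          show TransferAlperin.cj r F ⊔ ⁅TransferAlperin.cj r R, TransferAlperin.cj r R⁆ = _
          rw [TransferAlperin.cj_eq_self (hRF hr), TransferAlperin.cj_eq_self (le_normalizer hr)]
        · refine TransferAlperin.mem_normalizer_of_cj_eq ?_
          rw [TransferAlperin.cj, Subgroup.map_sup, map_commutator]
          show TransferAlperin.cj a F ⊔ ⁅TransferAlperin.cj a R, TransferAlperin.cj a R⁆ = _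
          rw [TransferAlperin.cj_eq_self haF, TransferAlperin.cj_eq_self haN]
      · exact Or.inr h
    rcases hmem with h | h
    · exact hcon (le_sup_right.trans (hFmax h le_sup_left))
    · haveI := hR.to_quotient (F.subgroupOf R) |>.isNilpotent
      haveI : Nontrivial (R ⧸ F.subgroupOf R) := QuotientGroup.nontrivial_iff.mpr fun e =>
        hFR.not_ge (subgroupOf_eq_top.mp e)
      refine (IsSolvable.commutator_lt_top_of_nontrivial (R ⧸ F.subgroupOf R)).ne ?_
      have e : F.subgroupOf R ⊔ commutator R = ⊤ := by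
        apply map_injective R.subtype_injective
        rw [Subgroup.map_sup, map_subgroupOf_eq_of_le hFR.le, map_subtype_commutator, h,
          ← MonoidHom.range_eq_map, range_subtype]
      rw [← map_top_of_surjective _ (QuotientGroup.mk'_surjective (F.subgroupOf R)), ← e, Subgroup.map_sup,
        QuotientGroup.map_mk'_self, bot_sup_eq, _root_.commutator_def, _root_.commutator_def, map_commutator,
        ← MonoidHom.range_eq_map, MonoidHom.range_eq_top.mpr (QuotientGroup.mk'_surjective _)]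
  -- fixed points modulo `F`
  have hfix : ∀ x ∈ R, x⁻¹ * (a * x * a⁻¹) ∈ F → x ∈ F := by
    let X : Subgroup G :=
      { carrier := {x | x ∈ R ∧ x⁻¹ * (a * x * a⁻¹) ∈ F}
        one_mem' := ⟨one_mem _, by simp⟩
        mul_mem' := by
          rintro x y ⟨hx, hx'⟩ ⟨hy, hy'⟩
          refine ⟨mul_mem hx hy, ?_⟩
          have := mul_mem ((mem_normalizer_iff.mp (hRF (inv_mem hy)) _).mp hx') hy'
          simpa [mul_assoc] using this
        inv_mem' := by
          rintro x ⟨hx, hx'⟩
          refine ⟨inv_mem hx, ?_⟩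
          have := (mem_normalizer_iff.mp (hRF hx) _).mp (inv_mem hx')
          simpa [mul_assoc] using this }
    have hFX : F ≤ X := fun x hx => ⟨hFR.le hx, by rw [hFa x hx]; simp⟩
    have hXR : X ≤ R := fun x hx => hx.1
    intro x hx hx'
    rcases hXR.lt_or_eq with hlt | heq
    · refine hFmax (j := X) ⟨hlt, ?_, ?_⟩ hFX ⟨hx, hx'⟩
      · intro r hr
        refine TransferAlperin.mem_normalizer_of_cj_eq (eq_of_le_of_card_ge ?_
          (TransferAlperin.card_cj _ _).ge)
        intro y hy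
        rw [TransferAlperin.mem_cj] at hy
        have h1 := hFX (hcomm (commutator_mem_commutator hr (hXR hy)))
        have := mul_mem h1 hy
        simpa [commutatorElement_def, mul_assoc] using this
      · refine TransferAlperin.mem_normalizer_of_cj_eq (eq_of_le_of_card_ge ?_
          (TransferAlperin.card_cj _ _).ge)
        rintro _ ⟨y, ⟨hy, hy'⟩, rfl⟩
        refine ⟨haR y hy, ?_⟩
        have h1 := hFa _ hy'
        set c := y⁻¹ * (a * y * a⁻¹) with hc
        have : (a * y * a⁻¹)⁻¹ * (a * (a * y * a⁻¹) * a⁻¹) = a * c * a⁻¹ := by rw [hc]; group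
        simp only [MulEquiv.toMonoidHom_eq_coe, MonoidHom.coe_coe, MulAut.conj_apply]
        rw [this, h1]
        exact hy'
    · exfalso
      refine haC (fun t ht => ?_)
      obtain ⟨-, ht'⟩ := heq.ge ht
      have hord : ∃ j, orderOf (t⁻¹ * (a * t * a⁻¹)) = p ^ j := by
        obtain ⟨j, hj⟩ := IsPGroup.iff_orderOf.mp hR ⟨_, hFR.le ht'⟩
        exact ⟨j, by rwa [orderOf_mk] at hj⟩
      have := TransferOmega.conj_eq_of_step hord hac (mul_inv_cancel_left _ _).symm (hFa _ ht')
      exact (mul_inv_eq_iff_eq_mul.mp this).symm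
  -- the section
  set H := R ⊔ zpowers a with hH
  have hRH : R ≤ H := le_sup_left
  have haH : a ∈ H := le_sup_right (a := R) (mem_zpowers a)
  set N := F ⊔ zpowers (a ^ q) with hN
  have hNH : N ≤ H := sup_le (hFR.le.trans hRH) (zpowers_le.mpr (pow_mem haH q))
  have hHN : H ≤ normalizer (N : Set G) := by
    refine sup_le (fun r hr => ?_) (zpowers_le.mpr ?_)
    · refine TransferAlperin.mem_normalizer_of_cj_eq ?_
      rw [hN, TransferAlperin.cj, Subgroup.map_sup, MonoidHom.map_zpowers]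
      show TransferAlperin.cj r F ⊔ zpowers (r * a ^ q * r⁻¹) = _
      rw [TransferAlperin.cj_eq_self (hRF hr), mem_centralizer_iff.mp haqC r hr,
        mul_inv_cancel_right]
    · refine TransferAlperin.mem_normalizer_of_cj_eq ?_
      rw [hN, TransferAlperin.cj, Subgroup.map_sup, MonoidHom.map_zpowers]
      show TransferAlperin.cj a F ⊔ zpowers (a * a ^ q * a⁻¹) = _
      rw [TransferAlperin.cj_eq_self haF, ← pow_succ', pow_succ, mul_inv_cancel_right]
  have hNR : ∀ x ∈ N, x ∈ R → x ∈ F := by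
    intro x hxN hxR
    have hset : (N : Set G) = (F : Set G) * (zpowers (a ^ q) : Set G) := by
      rw [hN]
      exact coe_mul_of_right_le_normalizer_left F _ (zpowers_le.mpr (pow_mem haF q))
    rw [← SetLike.mem_coe, hset] at hxN
    obtain ⟨f, hf, b, hb, rfl⟩ := hxN
    have hbR : b ∈ R := by
      have := mul_mem (inv_mem (hFR.le hf)) hxR
      rwa [← mul_assoc, inv_mul_cancel, one_mul] at this
    have hb1 : b = 1 := by
      obtain ⟨j, hj⟩ := IsPGroup.iff_orderOf.mp hR ⟨b, hbR⟩
      rw [orderOf_mk] at hj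
      refine orderOf_eq_one_iff.mp (Nat.Coprime.eq_one_of_dvd ?_ hj.dvd)
      refine ((Nat.Coprime.coprime_dvd_left ?_ hac).pow_right j)
      exact (orderOf_dvd_of_mem_zpowers hb).trans (orderOf_pow_dvd q)
    subst hb1
    simpa using hf
  haveI : (N.subgroupOf H).Normal := (normal_subgroupOf_iff_le_normalizer hNH).mpr hHN
  haveI : (R.subgroupOf H).Normal :=
    (normal_subgroupOf_iff_le_normalizer hRH).mpr (sup_le le_normalizer (zpowers_le.mpr haN))
  set π := QuotientGroup.mk' (N.subgroupOf H)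
  have hπ : ∀ x : H, π x = 1 ↔ (x : G) ∈ N := fun x =>
    (QuotientGroup.eq_one_iff x).trans mem_subgroupOf
  haveI : ((R.subgroupOf H).map π).Normal :=
    Normal.map inferInstance π (QuotientGroup.mk'_surjective _)
  suffices Cfsg.pPrimeCore p (H ⧸ N.subgroupOf H) = ⊥ ∧
      ¬ ∃ k : H ⧸ N.subgroupOf H, orderOf k = Monoid.exponent (H ⧸ N.subgroupOf H) from
    this.2 (hyp H (N.subgroupOf H) this.1)
  refine no_exponent_element (p := p) hq hqp ((R.subgroupOf H).map π)
    ((hR.comap_subtype (K := H)).map π) (π ⟨a, haH⟩) ?_ ?_ ?_ ?_ ?_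
  · rw [← map_pow, hπ]
    exact mem_sup_right (mem_zpowers _)
  · rw [← MonoidHom.map_zpowers, ← Subgroup.map_sup]
    have e : R.subgroupOf H ⊔ zpowers (⟨a, haH⟩ : H) = ⊤ := by
      apply map_injective H.subtype_injective
      rw [Subgroup.map_sup, map_subgroupOf_eq_of_le hRH, MonoidHom.map_zpowers, ← MonoidHom.range_eq_map,
        range_subtype]
      exact hH.symm
    rw [e, map_top_of_surjective _ (QuotientGroup.mk'_surjective _)]
  · intro h
    refine hFR.not_ge fun x hx => hNR x ?_ hx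
    refine (hπ ⟨x, hRH hx⟩).mp ?_
    have : π ⟨x, hRH hx⟩ ∈ (R.subgroupOf H).map π := mem_map_of_mem π (mem_subgroupOf.mpr hx)
    rwa [h, mem_bot] at this
  · rintro _ ⟨x, hx, rfl⟩ _ ⟨y, hy, rfl⟩
    rw [← mul_inv_eq_one, ← map_mul, ← map_mul, ← map_inv, ← map_mul, hπ]
    refine mem_sup_left (hcomm ?_)
    have := commutator_mem_commutator (mem_subgroupOf.mp hx) (mem_subgroupOf.mp hy)
    simpa [commutatorElement_def, mul_assoc] using this
  · rintro _ ⟨x, hx, rfl⟩ hcom
    rw [hπ]
    refine mem_sup_left (hfix _ (mem_subgroupOf.mp hx) ?_)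
    refine hNR _ ?_ (mul_mem (inv_mem (mem_subgroupOf.mp hx)) (haR _ (mem_subgroupOf.mp hx)))
    have : π (x⁻¹ * (⟨a, haH⟩ * x * ⟨a, haH⟩⁻¹)) = 1 := by
      rw [map_mul, map_inv, map_mul, map_mul, map_inv, hcom, mul_inv_cancel_right, inv_mul_cancel]
    exact (hπ _).mp this

end Cfsg.Agent.S4238
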