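import Cfsg.Statements.S4242
import Mathlib
import Cfsg.Agent.Lib.TransferAlperin
import Cfsg.Agent.Lib.NilpotentMaximal
import Cfsg.Agent.Lib.FrobeniusNilpotent

set_option autoImplicit false
open Cfsg

namespace Cfsg.Agent.S4242

open scoped Pointwise

variable {G : Type*} [Group G] [Finite G]

omit [Finite G] in
theorem nilpotent_of_le {H K : Subgroup G} (h : H ≤ K) (hK : Group.IsNilpotent K) :
    Group.IsNilpotent H :=
  have := hK
  Group.nilpotent_of_mulEquiv (Subgroup.subgroupOfEquivOfLe h)

theorem commute_of_nilpotent {U : Subgroup G} (hU : Group.IsNilpotent U) {A B : Subgroup G} (hA : A ≤ U)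
    (hB : B ≤ U) (h : (Nat.card A).Coprime (Nat.card B)) {a b : G} (ha : a ∈ A) (hb : b ∈ B) :
    a * b = b * a := by
  have := hU
  have hab := Cfsg.Agent.FrobeniusNilpotent.commute_of_coprime (⟨a, hA ha⟩ : U) ⟨b, hB hb⟩ (by
    rw [Subgroup.orderOf_mk, Subgroup.orderOf_mk]
    exact Nat.Coprime.of_dvd (Subgroup.orderOf_dvd_natCard _ ha) (Subgroup.orderOf_dvd_natCard _ hb) h)
  exact congrArg Subtype.val hab

theorem le_of_coprime_index {H N : Subgroup G} [N.Normal] (h : (Nat.card H).Coprime N.index) : H ≤ N := by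
  rw [← Subgroup.relIndex_eq_one]
  exact Nat.eq_one_of_dvd_coprimes h (Subgroup.index_dvd_card _) (Subgroup.relIndex_dvd_index_of_normal _ _)

theorem forward (p : ℕ) [Fact p.Prime] (hpG : p ∣ Nat.card G)
    (hall : ∀ U : Subgroup G, U ≠ ⊤ → p ∣ Nat.card U → Group.IsNilpotent U)
    (M : Subgroup G) (hM : IsCoatom M) (hMn : ¬ Group.IsNilpotent M) (hpM : ¬ p ∣ Nat.card M) :
    ∃ Z K : Subgroup G, Z.Normal ∧ K.Normal ∧ Z ⊓ K = ⊥ ∧ Z ⊔ K = ⊤ ∧ Nat.card Z = p ∧
      Cfsg.IsMinimalNonNilpotent K ∧ ¬ p ∣ Nat.card K := by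
  have hp : p.Prime := Fact.out
  have hcopM : ∀ {A : Subgroup G}, IsPGroup p A → (Nat.card M).Coprime (Nat.card A) := by
    intro A hA
    obtain ⟨n, hn⟩ := IsPGroup.iff_card.mp hA
    rw [hn]
    exact (Nat.Coprime.pow_right _ ((Nat.Prime.coprime_iff_not_dvd hp).mpr hpM).symm)
  set U := Cfsg.pCore p G with hU
  have hUn : U.Normal := Subgroup.sSup_normal _ (fun N h => h.1)
  have hUp : IsPGroup p U :=
    HallCore.isPGroup_pCore p G
  by_cases hU1 : U = ⊥
  · exfalso
    have hpc : ∀ Q : Subgroup G, Q.Normal → IsPGroup p Q → Q = ⊥ :=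
      fun Q h1 h2 => le_bot_iff.mp (hU1 ▸ le_sSup ⟨h1, h2⟩)
    have hcompl : Cfsg.HasNormalPComplement p G := by
      refine Cfsg.Agent.TransferAlperin.hasNormalPComplement_iff_normalizer.mpr fun Q hQ hQ1 => ?_
      refine NilpotentMaximal.hasNormalPComplement_of_isNilpotent (hall _ ?_ ?_) p
      · intro h
        exact hQ1 (hpc Q (Subgroup.normalizer_eq_top_iff.mp h) hQ)
      · obtain ⟨n, hn⟩ := IsPGroup.iff_card.mp hQ
        refine Dvd.dvd.trans ?_ (Subgroup.card_dvd_of_le Subgroup.le_normalizer)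
        rw [hn]
        rcases Nat.eq_zero_or_pos n with h0 | h0
        · rw [h0, pow_zero] at hn
          exact absurd (Subgroup.card_eq_one.mp hn) hQ1
        · exact dvd_pow_self p h0.ne'
    obtain ⟨P, N, hN, hNP⟩ := hcompl
    have hidx : N.index = Nat.card (P : Subgroup G) := by rw [← hNP.symm.index_eq_card]
    have hMN : M ≤ N := le_of_coprime_index (hidx ▸ hcopM P.2)
    have hP1 : (P : Subgroup G) ≠ ⊥ := P.ne_bot_of_dvd_card hpG
    have hMeq : M = N := (hM.2 N |> fun f => (eq_or_lt_of_le hMN).elim id fun hlt => by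
      exact absurd (Subgroup.index_eq_one.mpr (f hlt)) (by
        rw [hidx]; exact fun h => hP1 (Subgroup.card_eq_one.mp h)))
    subst hMeq
    have := hN
    -- a non-trivial element of the centre of `P`
    obtain ⟨z, hz, hz1⟩ : ∃ z ∈ (P : Subgroup G), z ≠ 1 ∧ ∀ y ∈ (P : Subgroup G), z * y = y * z := by
      have : Nontrivial (P : Subgroup G) := (Subgroup.nontrivial_iff_ne_bot _).mpr hP1
      have := P.2.center_nontrivial
      obtain ⟨⟨z, hzc⟩, hne⟩ := exists_ne (1 : Subgroup.center (P : Subgroup G))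
      refine ⟨z, z.2, fun h => hne (Subtype.ext (Subtype.ext h)), fun y hy => ?_⟩
      exact (congrArg Subtype.val (Subgroup.mem_center_iff.mp hzc ⟨y, hy⟩)).symm
    obtain ⟨hz1, hzP⟩ := hz1
    have hC : Subgroup.centralizer ({z} : Set G) = ⊤ := by
      rw [← Subgroup.index_eq_one]
      by_contra hne
      obtain ⟨r, hr, hrd⟩ := Nat.exists_prime_and_dvd hne
      have : Fact r.Prime := ⟨hr⟩
      suffices ∃ R : Sylow r G, (R : Subgroup G) ≤ Subgroup.centralizer ({z} : Set G) by
        obtain ⟨R, hR⟩ := this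
        exact R.not_dvd_index (hrd.trans (Subgroup.index_dvd_of_le hR))
      by_cases hrp : r = p
      · subst hrp
        exact ⟨P, fun y hy => Subgroup.mem_centralizer_singleton_iff.mpr (hzP y hy).symm⟩
      obtain ⟨R⟩ : Nonempty (Sylow r G) := inferInstance
      have hRcop : ∀ {A : Subgroup G}, IsPGroup p A → (Nat.card (R : Subgroup G)).Coprime (Nat.card A) :=
        fun hA => IsPGroup.coprime_card_of_ne r p hrp _ _ R.2 hA
      have hRM : (R : Subgroup G) ≤ M := le_of_coprime_index (hidx ▸ hRcop P.2)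
      set NR := Subgroup.normalizer ((R : Subgroup G) : Set G) with hNR
      have hMNR : M ⊔ NR = ⊤ := by
        rw [eq_top_iff]
        have := Sylow.normalizer_sup_eq_top' (R : Sylow r G) hRM
        rw [sup_comm] at this
        exact this.ge
      by_cases hRn : NR = ⊤
      · have hRnorm : (R : Subgroup G).Normal := Subgroup.normalizer_eq_top_iff.mp hRn
        have hne' : (R : Subgroup G) ⊔ P ≠ ⊤ := by
          intro htop
          have h1 : ((R : Subgroup G) : Set G) * ((P : Subgroup G) : Set G) = Set.univ := by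
            rw [← Subgroup.normal_mul, htop]; rfl
          have hMR : M ≤ (R : Subgroup G) := by
            intro m hm
            have hm' : m ∈ ((R : Subgroup G) : Set G) * ((P : Subgroup G) : Set G) := h1 ▸ trivial
            obtain ⟨a, ha, b, hb, rfl⟩ := hm'
            have hbM : b ∈ M := (Subgroup.mul_mem_cancel_left M (hRM ha)).mp hm
            have hb1 : b = 1 := Subgroup.disjoint_def.mp hNP.disjoint hbM hb
            rw [hb1]; show a * 1 ∈ (R : Subgroup G); rw [mul_one]; exact ha
          exact hMn (nilpotent_of_le hMR R.2.isNilpotent)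
        have hpd : p ∣ Nat.card ((R : Subgroup G) ⊔ P : Subgroup G) :=
          (P.dvd_card_of_dvd_card hpG).trans (Subgroup.card_dvd_of_le le_sup_right)
        refine ⟨R, fun a ha => Subgroup.mem_centralizer_singleton_iff.mpr ?_⟩
        exact commute_of_nilpotent (hall _ hne' hpd) le_sup_left le_sup_right (hRcop P.2) ha hz
      · have hpd : Nat.card (P : Subgroup G) ∣ Nat.card NR := by
          rw [← hidx, ← Subgroup.relIndex_top_right, ← hMNR, sup_comm, Subgroup.relIndex_sup_right]
          exact Subgroup.index_dvd_card _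
        have hnd : ¬ p ∣ NR.index := by
          intro hd
          apply hpM
          have h1 : Nat.card NR * NR.index = Nat.card M * Nat.card (P : Subgroup G) := by
            rw [Subgroup.card_mul_index, hNP.card_mul]
          obtain ⟨c, hc⟩ := hpd
          have hpos : 0 < Nat.card (P : Subgroup G) := Nat.card_pos
          have h2 : c * NR.index = Nat.card M := by
            apply Nat.eq_of_mul_eq_mul_left hpos
            rw [← mul_assoc, ← hc, h1, mul_comm]
          exact h2 ▸ dvd_mul_of_dvd_right hd c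
        obtain ⟨P'⟩ : Nonempty (Sylow p NR) := inferInstance
        have hP' : IsPGroup p ((P' : Subgroup NR).map NR.subtype) := P'.2.map _
        have hidx' : ¬ p ∣ ((P' : Subgroup NR).map NR.subtype).index := by
          rw [Subgroup.index_map_subtype]
          intro hd
          rcases hp.dvd_mul.mp hd with hd | hd
          · exact P'.not_dvd_index hd
          · exact hnd hd
        obtain ⟨k, hk⟩ := MulAction.exists_smul_eq G P (hP'.toSylow hidx')
        have hle : ((k • P : Sylow p G) : Subgroup G) ≤ NR := by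
          rw [hk]; exact Subgroup.map_subtype_le _
        have hkz : k * z * k⁻¹ ∈ ((k • P : Sylow p G) : Subgroup G) := by
          rw [Sylow.coe_subgroup_smul]; exact ⟨z, hz, rfl⟩
        have hpNR : p ∣ Nat.card NR := (P.dvd_card_of_dvd_card hpG).trans hpd
        refine ⟨k⁻¹ • R, ?_⟩
        rw [Sylow.coe_subgroup_smul]
        rintro _ ⟨a, ha, rfl⟩
        rw [Subgroup.mem_centralizer_singleton_iff]
        have := commute_of_nilpotent (hall _ hRn hpNR) Subgroup.le_normalizer hle
          (hRcop (k • P : Sylow p G).2) ha hkz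
        show k⁻¹ * a * k⁻¹⁻¹ * z = z * (k⁻¹ * a * k⁻¹⁻¹)
        calc k⁻¹ * a * k⁻¹⁻¹ * z = k⁻¹ * (a * (k * z * k⁻¹)) * k := by group
          _ = k⁻¹ * ((k * z * k⁻¹) * a) * k := by rw [this]
          _ = z * (k⁻¹ * a * k⁻¹⁻¹) := by group
    have hzc : z ∈ Subgroup.center G := Subgroup.mem_center_iff.mpr fun g =>
      Subgroup.mem_centralizer_singleton_iff.mp (hC ▸ Subgroup.mem_top g)
    have hzn : (Subgroup.zpowers z).Normal := ⟨fun y hy g => by
      obtain ⟨n, rfl⟩ := hy
      rw [Subgroup.mem_center_iff.mp (Subgroup.zpow_mem _ hzc n) g, mul_inv_cancel_right]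
      exact ⟨n, rfl⟩⟩
    have := hpc _ hzn (P.2.to_le ((Subgroup.zpowers_le).mpr hz))
    exact hz1 (Subgroup.zpowers_eq_bot.mp this)
  · have hUM : M ⊓ U = ⊥ := Subgroup.inf_eq_bot_of_coprime (hcopM hUp)
    have htop : M ⊔ U = ⊤ := by
      refine hM.2 _ (lt_of_le_of_ne le_sup_left fun h => hU1 ?_)
      rw [← hUM, inf_eq_right.mpr (h ▸ le_sup_right)]
    have hMC : M ≤ Subgroup.centralizer (U : Set G) := by
      rw [← Subgroup.relIndex_eq_one]
      by_contra hne
      obtain ⟨r, hr, hrd⟩ := Nat.exists_prime_and_dvd hne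
      have : Fact r.Prime := ⟨hr⟩
      obtain ⟨R⟩ : Nonempty (Sylow r M) := inferInstance
      refine R.not_dvd_index (hrd.trans (Subgroup.index_dvd_of_le ?_))
      intro x hx
      rw [Subgroup.mem_subgroupOf]
      set R' := (R : Subgroup M).map M.subtype
      have hR'M : R' ≤ M := Subgroup.map_subtype_le _
      have hne' : U ⊔ R' ≠ ⊤ := by
        intro h
        have h1 : ((U : Set G) * (R' : Set G)) = Set.univ := by
          rw [← Subgroup.normal_mul, h]; rfl
        refine hMn (nilpotent_of_le (K := R') ?_ (R.2.map _).isNilpotent)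
        intro m hm
        have hm' : m ∈ (U : Set G) * (R' : Set G) := h1 ▸ trivial
        obtain ⟨a, ha, b, hb, rfl⟩ := hm'
        have haM : a ∈ M := (Subgroup.mul_mem_cancel_right M (hR'M hb)).mp hm
        have ha1 : a = 1 := Subgroup.mem_bot.mp (hUM ▸ Subgroup.mem_inf.mpr ⟨haM, ha⟩)
        simpa [ha1] using hb
      have hpd : p ∣ Nat.card (U ⊔ R' : Subgroup G) := by
        refine Dvd.dvd.trans ?_ (Subgroup.card_dvd_of_le le_sup_left)
        obtain ⟨n, hn⟩ := IsPGroup.iff_card.mp hUp
        rw [hn]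
        exact dvd_pow_self p fun h0 => hU1 (Subgroup.card_eq_one.mp (by rw [hn, h0, pow_zero]))
      rw [Subgroup.mem_centralizer_iff]
      intro u hu
      exact commute_of_nilpotent (hall _ hne' hpd) le_sup_left le_sup_right
        ((hcopM hUp).coprime_dvd_left (Subgroup.card_dvd_of_le hR'M)).symm hu ⟨x, hx, rfl⟩
    obtain ⟨n, hn⟩ := IsPGroup.iff_card.mp hUp
    have hpU : p ∣ Nat.card U := by
      rw [hn]
      exact dvd_pow_self p fun h0 => hU1 (Subgroup.card_eq_one.mp (by rw [hn, h0, pow_zero]))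
    obtain ⟨⟨z, hzU⟩, hz⟩ := exists_prime_orderOf_dvd_card' p hpU
    rw [Subgroup.orderOf_mk] at hz
    set V := Subgroup.zpowers z
    have hVU : V ≤ U := Subgroup.zpowers_le.mpr hzU
    have hVM : V ⊓ M = ⊥ := eq_bot_iff.mpr fun v hv => hUM ▸ Subgroup.mem_inf.mpr ⟨hv.2, hVU hv.1⟩
    have hcardV : Nat.card V = p := by rw [Nat.card_zpowers, hz]
    have hVne : V ≠ ⊥ := fun h => hp.ne_one (by rw [← hcardV, h, Subgroup.card_bot])
    have hVtop : V ⊔ M = ⊤ := by
      refine hM.2 _ (lt_of_le_of_ne le_sup_right fun h => hVne ?_)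
      rw [← hVM, inf_eq_left.mpr (h.symm ▸ le_sup_left)]
    have hcomm : ∀ m ∈ M, ∀ v ∈ V, v * m = m * v :=
      fun m hm v hv => Subgroup.mem_centralizer_iff.mp (hMC hm) v (hVU hv)
    have hMnor : M.Normal := by
      rw [← Subgroup.normalizer_eq_top_iff, eq_top_iff, ← hVtop]
      refine sup_le (fun v hv => ?_) Subgroup.le_normalizer
      rw [Subgroup.mem_normalizer_iff]
      intro m
      constructor
      · intro hm
        rwa [hcomm m hm v hv, mul_inv_cancel_right]
      · intro hm
        have := hcomm _ hm v⁻¹ (V.inv_mem hv)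
        have e : v⁻¹ * (v * m * v⁻¹) = m * v⁻¹ := by group
        rw [e] at this
        rw [mul_right_cancel this]
        exact hm
    have hVnor : V.Normal := by
      rw [← Subgroup.normalizer_eq_top_iff, eq_top_iff, ← hVtop]
      refine sup_le Subgroup.le_normalizer (fun m hm => ?_)
      rw [Subgroup.mem_normalizer_iff]
      intro v
      constructor
      · intro hv
        rwa [← hcomm m hm v hv, mul_inv_cancel_right]
      · intro hv
        have := hcomm m hm _ hv
        have e : m * v * m⁻¹ * m = m * v := by group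
        rw [e] at this
        rw [mul_left_cancel this]
        exact hv
    refine ⟨V, M, hVnor, hMnor, hVM, hVtop, hcardV, ⟨hMn, fun H hH => ?_⟩, hpM⟩
    set H' := H.map M.subtype
    have hne' : V ⊔ H' ≠ ⊤ := by
      intro h
      refine hH (eq_top_iff.mpr fun m _ => ?_)
      have hm' : (m : G) ∈ (V : Set G) * (H' : Set G) := by
        rw [← Subgroup.normal_mul, h]; trivial
      obtain ⟨a, ha, b, hb, hab⟩ := hm'
      obtain ⟨b', hb', rfl⟩ := hb
      have haM : a ∈ M := (Subgroup.mul_mem_cancel_right M b'.2).mp (by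
        show a * (b' : G) ∈ M
        exact (show a * (b' : G) = m from hab) ▸ m.2)
      have ha1 : a = 1 := Subgroup.mem_bot.mp (hVM ▸ Subgroup.mem_inf.mpr ⟨ha, haM⟩)
      have : b' = m := Subtype.ext (by simpa [ha1] using hab)
      exact this ▸ hb'
    have hnil := hall _ hne' ((dvd_of_eq hcardV.symm).trans (Subgroup.card_dvd_of_le le_sup_left))
    have h2 : Group.IsNilpotent H' := nilpotent_of_le le_sup_right hnil
    exact Group.nilpotent_of_mulEquiv (Subgroup.equivMapOfInjective H M.subtype M.subtype_injective).symm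

/-- Let G be a finite group and p a prime dividing its order. Every maximal subgroup of G of order divisible by p is nilpotent if and only if G is nilpotent, or G is a minimal non-nilpotent group, or G is the internal direct product of a normal subgroup of order p and a normal minimal non-nilpotent subgroup of order prime to p. -/
theorem result {G : Type*} [Group G] [Finite G] (p : ℕ) (hp : p.Prime) (hpG : p ∣ Nat.card G) :
    (∀ M : Subgroup G, IsCoatom M → p ∣ Nat.card M → Group.IsNilpotent M) ↔
      (Group.IsNilpotent G ∨ Cfsg.IsMinimalNonNilpotent G ∨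
        ∃ Z K : Subgroup G, Z.Normal ∧ K.Normal ∧ Z ⊓ K = ⊥ ∧ Z ⊔ K = ⊤ ∧ Nat.card Z = p ∧
          Cfsg.IsMinimalNonNilpotent K ∧ ¬ p ∣ Nat.card K) := by
  have : Fact p.Prime := ⟨hp⟩
  constructor
  · intro h
    by_cases h1 : Group.IsNilpotent G
    · exact Or.inl h1
    by_cases h2 : Cfsg.IsMinimalNonNilpotent G
    · exact Or.inr (Or.inl h2)
    right; right
    have hall : ∀ U : Subgroup G, U ≠ ⊤ → p ∣ Nat.card U → Group.IsNilpotent U := by
      intro U hU hpU
      obtain ⟨M, hM, hle⟩ := (eq_top_or_exists_le_coatom U).resolve_left hU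
      exact nilpotent_of_le hle (h M hM (hpU.trans (Subgroup.card_dvd_of_le hle)))
    have h3 : ∃ H : Subgroup G, H ≠ ⊤ ∧ ¬ Group.IsNilpotent H := by
      by_contra hc
      push Not at hc
      exact h2 ⟨h1, hc⟩
    obtain ⟨H, hH, hHn⟩ := h3
    obtain ⟨M, hM, hle⟩ := (eq_top_or_exists_le_coatom H).resolve_left hH
    have hMn : ¬ Group.IsNilpotent M := fun hn => hHn (nilpotent_of_le hle hn)
    exact forward p hpG hall M hM hMn fun hd => hMn (h M hM hd)
  · rintro (h1 | ⟨-, h2⟩ | ⟨Z, K, hZ, hK, hd, hs, hcard, ⟨-, hKn⟩, hpK⟩) M hM hpM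
    · exact inferInstance
    · exact h2 M hM.1
    · have hcomm : ∀ z ∈ Z, ∀ k ∈ K, z * k = k * z := fun z hz k hk =>
        Subgroup.commute_of_normal_of_disjoint Z K hZ hK (disjoint_iff.mpr hd) z k hz hk
      have hdec : ∀ g : G, ∃ z ∈ Z, ∃ k ∈ K, g = z * k := by
        intro g
        have hg : g ∈ (Z : Set G) * (K : Set G) := by
          rw [← Subgroup.normal_mul, hs]; trivial
        obtain ⟨z, hz, k, hk, rfl⟩ := hg
        exact ⟨z, hz, k, hk, rfl⟩
      obtain ⟨⟨w, hwM⟩, hw⟩ := exists_prime_orderOf_dvd_card' p hpM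
      rw [Subgroup.orderOf_mk] at hw
      obtain ⟨z, hz, k, hk, rfl⟩ := hdec w
      have hk1 : k = 1 := by
        have h1 : (z * k) ^ p = 1 := by
          conv_lhs => rw [← hw]
          exact pow_orderOf_eq_one _
        rw [(show Commute z k from hcomm z hz k hk).mul_pow] at h1
        have hz1 : z ^ p = 1 := orderOf_dvd_iff_pow_eq_one.mp (hcard ▸ Subgroup.orderOf_dvd_natCard _ hz)
        rw [hz1, one_mul] at h1
        have h2 := orderOf_dvd_of_pow_eq_one h1
        rcases hp.eq_one_or_self_of_dvd _ h2 with h | h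
        · exact orderOf_eq_one_iff.mp h
        · exact absurd (h ▸ Subgroup.orderOf_dvd_natCard _ hk) hpK
      subst hk1
      rw [mul_one] at hw hwM
      have hZM : Z ≤ M := by
        have : Subgroup.zpowers z = Z :=
          Subgroup.eq_of_le_of_card_ge (Subgroup.zpowers_le.mpr hz) (by rw [hcard, Nat.card_zpowers, hw])
        rw [← this]
        exact Subgroup.zpowers_le.mpr hwM
      have hne : (M.subgroupOf K) ≠ ⊤ := by
        intro h
        rw [Subgroup.subgroupOf_eq_top] at h
        exact hM.1 (eq_top_iff.mpr (hs ▸ sup_le hZM h))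
      have hN := hKn _ hne
      have hZn : Group.IsNilpotent Z := (IsPGroup.of_card (n := 1) (by rw [hcard, pow_one])).isNilpotent
      let f : Z × (M.subgroupOf K) →* M :=
        { toFun := fun x => ⟨(x.1 : G) * ((x.2 : K) : G), M.mul_mem (hZM x.1.2) x.2.2⟩
          map_one' := Subtype.ext (by simp)
          map_mul' := fun x y => Subtype.ext (by
            show (x.1 : G) * y.1 * (((x.2 : K) : G) * ((y.2 : K) : G)) =
              (x.1 : G) * ((x.2 : K) : G) * ((y.1 : G) * ((y.2 : K) : G))
            calc (x.1 : G) * y.1 * (((x.2 : K) : G) * ((y.2 : K) : G))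
                = (x.1 : G) * ((y.1 : G) * ((x.2 : K) : G)) * ((y.2 : K) : G) := by group
              _ = (x.1 : G) * (((x.2 : K) : G) * (y.1 : G)) * ((y.2 : K) : G) := by
                  rw [hcomm _ y.1.2 _ (x.2 : K).2]
              _ = _ := by group) }
      refine Group.nilpotent_of_surjective f ?_
      rintro ⟨m, hm⟩
      obtain ⟨a, ha, b, hb, rfl⟩ := hdec m
      exact ⟨(⟨a, ha⟩, ⟨⟨b, hb⟩, (Subgroup.mul_mem_cancel_left M (hZM ha)).mp hm⟩), rfl⟩

end Cfsg.Agent.S4242
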