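import Cfsg.Statements.S4244
import Mathlib

set_option autoImplicit false
open Cfsg

namespace Cfsg.Agent.S4244

theorem relIndex_eq_relIndex_sup {G : Type*} [Group G] [Finite G] (L N : Subgroup G) [N.Normal] :
    L.relIndex N = L.relIndex (L ⊔ N) := by
  have h1 := Subgroup.relIndex_mul_relIndex (L ⊓ N) N (L ⊔ N) inf_le_right le_sup_right
  have h2 := Subgroup.relIndex_mul_relIndex (L ⊓ N) L (L ⊔ N) inf_le_left le_sup_left
  rw [Subgroup.inf_relIndex_right, Subgroup.relIndex_sup_right] at h1
  rw [Subgroup.inf_relIndex_left] at h2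
  have h0 : N.relIndex L ≠ 0 := Subgroup.index_ne_zero_of_finite
  rw [mul_comm, ← h2] at h1
  exact mul_left_cancel₀ h0 h1

theorem relIndex_dvd_index {G : Type*} [Group G] [Finite G] {H : Subgroup G} (hH : H.IsSubnormal) :
    ∀ K : Subgroup G, K.relIndex H ∣ K.index := by
  induction hH with
  | top => intro K; rw [Subgroup.relIndex_top_right]
  | step H L hle _ hN ih =>
    intro K
    refine dvd_trans ?_ (ih K)
    have := hN
    have h1 : (K.subgroupOf L).relIndex (H.subgroupOf L) ∣ (K.subgroupOf L).index := by
      rw [relIndex_eq_relIndex_sup]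
      exact Subgroup.relIndex_dvd_index_of_le le_sup_left
    rwa [Subgroup.relIndex_subgroupOf hle] at h1

/-- Let H be a subnormal subgroup of a finite group G. Then for every subgroup K of G the index of H ∩ K in H divides the index of K in G. -/
theorem result {G : Type*} [Group G] [Finite G] (H : Subgroup G) (hH : H.IsSubnormal) (K : Subgroup G) :
    (H ⊓ K).relIndex H ∣ K.index := by
  rw [Subgroup.inf_relIndex_left]
  exact relIndex_dvd_index hH K

end Cfsg.Agent.S4244
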