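import Cfsg.Statements.S4245
import Cfsg.Agent.Lib.KegelWielandt
import Cfsg.Agent.Lib.SimpleOrder
import Cfsg.Agent.Lib.CharInducedBurnside

set_option autoImplicit false
open Cfsg

namespace Cfsg.Agent.S4245
open scoped Pointwise

universe v

/-- `A` is cyclic by cyclic of two-power order. -/
def CycTwo (A : Type v) [Group A] : Prop :=
  ∃ (B : Subgroup A) (_ : B.Normal), IsCyclic B ∧ IsCyclic (A ⧸ B) ∧ ∃ r, Nat.card (A ⧸ B) = 2 ^ r

theorem cycTwo_of_injective {A A' : Type v} [Group A] [Group A'] [Finite A] (f : A' →* A)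
    (hf : Function.Injective f) (h : CycTwo A) : CycTwo A' := by
  obtain ⟨B, hBn, hB, hAB, r, hr⟩ := h
  haveI := hBn
  haveI := hB
  haveI := hAB
  let g : (A' ⧸ B.comap f) →* A ⧸ B := QuotientGroup.map _ B f le_rfl
  have hg : Function.Injective g := by
    rw [← MonoidHom.ker_eq_bot_iff, eq_bot_iff]
    intro q hq
    obtain ⟨a, rfl⟩ := QuotientGroup.mk'_surjective _ q
    exact Subgroup.mem_bot.2 ((QuotientGroup.eq_one_iff a).2
      (show f a ∈ B from (QuotientGroup.eq_one_iff (f a)).1 hq))
  refine ⟨B.comap f, inferInstance, ?_, isCyclic_of_injective g hg, ?_⟩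
  · let f' : B.comap f →* B :=
      { toFun := fun a => ⟨f a, a.2⟩, map_one' := Subtype.ext (map_one f),
        map_mul' := fun a b => Subtype.ext (map_mul f a.1 b.1) }
    exact isCyclic_of_injective f' fun a b e => Subtype.ext (hf (congrArg Subtype.val e))
  · obtain ⟨k, -, hk⟩ := (Nat.dvd_prime_pow Nat.prime_two).1 (hr ▸ Subgroup.card_dvd_of_injective g hg)
    exact ⟨k, hk⟩

theorem cycTwo_of_surjective {A A' : Type v} [Group A] [Group A'] [Finite A] (f : A →* A')
    (hf : Function.Surjective f) (h : CycTwo A) : CycTwo A' := by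
  obtain ⟨B, hBn, hB, hAB, r, hr⟩ := h
  haveI := hBn
  haveI := hB
  haveI := hAB
  haveI : (B.map f).Normal := Subgroup.Normal.map hBn f hf
  let g : A ⧸ B →* A' ⧸ B.map f := QuotientGroup.map B _ f (fun b hb => ⟨b, hb, rfl⟩)
  have hg : Function.Surjective g := by
    intro q
    obtain ⟨a', rfl⟩ := QuotientGroup.mk'_surjective _ q
    obtain ⟨a, rfl⟩ := hf a'
    exact ⟨(a : A ⧸ B), rfl⟩
  refine ⟨B.map f, inferInstance, isCyclic_of_surjective (f.subgroupMap B) (f.subgroupMap_surjective B),
    isCyclic_of_surjective g hg, ?_⟩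
  obtain ⟨k, -, hk⟩ := (Nat.dvd_prime_pow Nat.prime_two).1 (hr ▸ Subgroup.card_dvd_of_surjective g hg)
  exact ⟨k, hk⟩

theorem simple_case {G : Type v} [Group G] [Finite G] [IsSimpleGroup G] (hnc : ¬ IsMulCommutative G)
    (A : Subgroup G) (p s : ℕ) (hp : p.Prime) (hA : A.index = p ^ s) (h : CycTwo A) :
    Group.IsSolvable G := by
  obtain ⟨B, hBn, hB, hAB, r, hr⟩ := h
  haveI := hBn
  haveI := hB
  haveI : Fact (Nat.Prime 2) := ⟨Nat.prime_two⟩
  have hnp : ¬ (Nat.card G).Prime := fun hpr => by
    haveI := Fact.mk hpr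
    haveI : IsCyclic G := isCyclic_of_prime_card rfl
    exact hnc IsCyclic.isMulCommutative
  have hZ : ∀ a : A, (∀ c : A, Commute c a) → a = 1 := by
    intro a ha
    by_contra ha1
    have hle : A ≤ Subgroup.centralizer ({(a : G)} : Set G) := fun c hc =>
      Subgroup.mem_centralizer_singleton_iff.2 (congrArg Subtype.val (ha ⟨c, hc⟩).eq)
    obtain ⟨k, -, hk⟩ := (Nat.dvd_prime_pow hp).1 (hA ▸ Subgroup.index_dvd_of_le hle)
    exact hnp (CharInduced.prime_card_of_class_prime_pow p k hp (a : G)
      (fun e => ha1 (Subtype.ext e)) hk)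
  have hodd : ¬ 2 ∣ Nat.card B := by
    intro h2
    obtain ⟨b, hb⟩ := exists_prime_orderOf_dvd_card' 2 h2
    have hb' : orderOf (b : A) = 2 := by rw [Subgroup.orderOf_coe, hb]
    refine absurd (hZ (b : A) fun c => ?_) (fun e => by rw [e, orderOf_one] at hb'; omega)
    have hmem : c * b * c⁻¹ ∈ B := hBn.conj_mem _ b.2 c
    have ho : orderOf (⟨c * b * c⁻¹, hmem⟩ : B) = 2 := by
      rw [Subgroup.orderOf_mk, ← hb']
      exact MulEquiv.orderOf_eq (MulAut.conj c) (b : A)
    classical
    haveI := Fintype.ofFinite B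
    have hle : (Finset.univ.filter fun y : B => y ^ 2 = 1).card ≤ 2 :=
      IsCyclic.card_pow_eq_one_le (by norm_num)
    have hsub : ({1, b, ⟨c * b * c⁻¹, hmem⟩} : Finset B) ⊆ Finset.univ.filter fun y : B => y ^ 2 = 1 := by
      intro y hy
      simp only [Finset.mem_insert, Finset.mem_singleton] at hy
      refine Finset.mem_filter.2 ⟨Finset.mem_univ _, ?_⟩
      rcases hy with rfl | rfl | rfl
      · exact one_pow _
      · rw [← hb]; exact pow_orderOf_eq_one _
      · rw [← ho]; exact pow_orderOf_eq_one _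
    by_contra hne
    have hne' : (⟨c * b * c⁻¹, hmem⟩ : B) ≠ b := fun e =>
      hne (mul_inv_eq_iff_eq_mul.1 (congrArg Subtype.val e))
    have hb1 : b ≠ 1 := fun e => by rw [e, orderOf_one] at hb; omega
    have hc1 : (⟨c * b * c⁻¹, hmem⟩ : B) ≠ 1 := fun e => by rw [e, orderOf_one] at ho; omega
    have := Finset.card_le_card hsub
    rw [Finset.card_insert_of_notMem (by simp [hb1.symm, hc1.symm]), Finset.card_pair hne'.symm] at this
    omega
  by_cases hA1 : A = ⊥
  · exfalso
    rw [hA1, Subgroup.index_bot] at hA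
    haveI : Fact p.Prime := ⟨hp⟩
    exact SimpleOrder.not_isPGroup hnc p (IsPGroup.of_card hA)
  have hAcard : Nat.card A = Nat.card B * 2 ^ r := by
    rw [← hr, mul_comm]
    exact Subgroup.card_eq_card_quotient_mul_card_subgroup B
  have hG : Nat.card G = Nat.card B * 2 ^ r * p ^ s := by rw [← A.card_mul_index, hA, hAcard]
  have hBc : (Nat.card B).Coprime 2 := ((Nat.Prime.coprime_iff_not_dvd Nat.prime_two).2 hodd).symm
  have hr0 : r ≠ 0 := by
    intro e
    rw [e, pow_zero, mul_one] at hAcard
    have hBt : B = ⊤ := Subgroup.eq_top_of_card_eq B hAcard.symm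
    haveI : Nontrivial A := (Subgroup.nontrivial_iff_ne_bot A).2 hA1
    obtain ⟨a, ha⟩ := exists_ne (1 : A)
    refine ha (hZ a fun c => ?_)
    exact congrArg Subtype.val (IsCyclic.isMulCommutative.is_comm.comm
      (⟨c, hBt ▸ Subgroup.mem_top c⟩ : B) ⟨a, hBt ▸ Subgroup.mem_top a⟩)
  rcases eq_or_ne p 2 with rfl | hp2
  · -- a product of a cyclic subgroup and a two-group
    obtain ⟨P⟩ : Nonempty (Sylow 2 G) := inferInstance
    set B' := B.map A.subtype
    have hBcard : Nat.card B' = Nat.card B := Subgroup.card_map_of_injective A.subtype_injective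
    haveI : IsCyclic B' := isCyclic_of_surjective _ (A.subtype.subgroupMap_surjective B)
    have hBnil : Group.IsNilpotent B' :=
      letI := IsCyclic.commGroup (α := B')
      CommGroup.isNilpotent
    refine KegelWielandt.isSolvable_of_mul B' (P : Subgroup G) hBnil P.isPGroup'.isNilpotent ?_
    have hcop : (Nat.card B').Coprime (Nat.card (P : Subgroup G)) := by
      obtain ⟨k, hk⟩ := IsPGroup.iff_card.1 P.isPGroup'
      rw [hBcard, hk]
      exact hBc.pow_right k
    have hPc : Nat.card (P : Subgroup G) = 2 ^ (r + s) := by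
      refine SimpleOrder.sylow_card_of_eq (m := Nat.card B) ?_ hodd P
      rw [hG, pow_add]; ring
    have hcs := KegelWielandt.card_set_mul B' (P : Subgroup G)
    rw [Subgroup.inf_eq_bot_of_coprime hcop, Subgroup.card_bot, mul_one, hBcard, hPc] at hcs
    intro g
    have huniv : ((B' : Set G) * ((P : Subgroup G) : Set G)) = Set.univ := by
      refine Set.eq_of_subset_of_ncard_le (Set.subset_univ _) ?_ Set.finite_univ
      rw [Set.ncard_univ, ← Nat.card_coe_set_eq, hcs, hG, pow_add, mul_assoc]
    have hg : g ∈ ((B' : Set G) * ((P : Subgroup G) : Set G)) := huniv ▸ Set.mem_univ g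
    obtain ⟨a, ha, b, hb, e⟩ := Set.mem_mul.1 hg
    exact ⟨a, ha, b, hb, e.symm⟩
  · -- a cyclic Sylow two-subgroup
    exfalso
    obtain ⟨S⟩ : Nonempty (Sylow 2 A) := inferInstance
    have hS : Nat.card (S : Subgroup A) = 2 ^ r :=
      SimpleOrder.sylow_card_of_eq (m := Nat.card B) (by rw [hAcard]; ring) hodd S
    have hinj : Function.Injective ((QuotientGroup.mk' B).comp (S : Subgroup A).subtype) := by
      rw [← MonoidHom.ker_eq_bot_iff, eq_bot_iff]
      intro a ha
      have haB : (a : A) ∈ B := (QuotientGroup.eq_one_iff _).1 ha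
      have : (a : A) ∈ (S : Subgroup A) ⊓ B := ⟨a.2, haB⟩
      rw [Subgroup.inf_eq_bot_of_coprime (by rw [hS]; exact hBc.symm.pow_left r), Subgroup.mem_bot] at this
      exact Subgroup.mem_bot.2 (Subtype.ext this)
    haveI : IsCyclic (A ⧸ B) := hAB
    haveI hScyc : IsCyclic (S : Subgroup A) := isCyclic_of_injective _ hinj
    set S' := (S : Subgroup A).map A.subtype
    haveI : IsCyclic S' := isCyclic_of_surjective _ (A.subtype.subgroupMap_surjective (S : Subgroup A))
    have hS' : Nat.card S' = 2 ^ r := by rw [Subgroup.card_map_of_injective A.subtype_injective, hS]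
    obtain ⟨P, hP⟩ := (IsPGroup.of_card hS' : IsPGroup 2 S').exists_le_sylow
    have hPc : Nat.card (P : Subgroup G) = 2 ^ r := by
      refine SimpleOrder.sylow_card_of_eq (m := Nat.card B * p ^ s) (by rw [hG]; ring) ?_ P
      intro h2
      rcases (Nat.Prime.dvd_mul Nat.prime_two).1 h2 with h | h
      · exact hodd h
      · exact hp2 ((Nat.prime_dvd_prime_iff_eq Nat.prime_two hp).1 (Nat.prime_two.dvd_of_dvd_pow h)).symm
    have heq : S' = (P : Subgroup G) := Subgroup.eq_of_le_of_card_ge hP (by rw [hPc, hS'])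
    haveI : IsCyclic (P : Subgroup G) := by rw [← heq]; infer_instance
    have h2G : 2 ∣ Nat.card G := by
      rw [hG]
      exact dvd_mul_of_dvd_left (dvd_mul_of_dvd_right (dvd_pow_self 2 hr0) _) _
    refine SimpleOrder.not_normalizer_le_centralizer hnc h2G P
      (IsCyclic.normalizer_le_centralizer ?_ ‹_›)
    exact ((Nat.minFac_eq_two_iff _).2 h2G)

theorem main : ∀ (n : ℕ) (G : Type v) [Group G] [Finite G], Nat.card G = n → ∀ (A : Subgroup G) (p s : ℕ),
    p.Prime → A.index = p ^ s → CycTwo A → Group.IsSolvable G := by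
  intro n
  induction n using Nat.strong_induction_on with
  | _ n ih =>
  intro G _ _ hn A p s hp hA h
  by_cases hex : ∃ N : Subgroup G, N.Normal ∧ N ≠ ⊥ ∧ N ≠ ⊤
  · obtain ⟨N, hN, hN1, hN2⟩ := hex
    haveI := hN
    have hNlt : Nat.card N < n := hn ▸ lt_of_le_of_ne (Subgroup.card_le_card_group N)
      fun e => hN2 (Subgroup.eq_top_of_card_eq N e)
    have h1 : Group.IsSolvable N := by
      have hdiv : (A.subgroupOf N).index ∣ p ^ s := by
        have e1 := A.card_mul_index
        have e2 := (A.subgroupOf N).card_mul_index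
        have e4 : Nat.card (A.subgroupOf N) = Nat.card ↥(A ⊓ N) := by
          rw [← Subgroup.card_map_of_injective N.subtype_injective, Subgroup.subgroupOf_map_subtype]
        have e3 := KegelWielandt.card_set_mul A N
        rw [← Subgroup.mul_normal A N] at e3
        obtain ⟨c, hc⟩ := Subgroup.card_subgroup_dvd_card (A ⊔ N)
        have hset : Nat.card (((A ⊔ N : Subgroup G) : Set G)) = Nat.card ↥(A ⊔ N) := rfl
        rw [hset] at e3
        refine ⟨c, ?_⟩
        rw [e4] at e2
        have : Nat.card A * (Nat.card ↥(A ⊓ N) * p ^ s) =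
            Nat.card A * (Nat.card ↥(A ⊓ N) * ((A.subgroupOf N).index * c)) := by
          calc Nat.card A * (Nat.card ↥(A ⊓ N) * p ^ s) = Nat.card A * p ^ s * Nat.card ↥(A ⊓ N) := by ring
            _ = Nat.card ↥(A ⊔ N) * c * Nat.card ↥(A ⊓ N) := by rw [← hc, ← hA, e1]
            _ = Nat.card ↥(A ⊔ N) * Nat.card ↥(A ⊓ N) * c := by ring
            _ = Nat.card A * (Nat.card ↥(A ⊓ N) * (A.subgroupOf N).index) * c := by rw [e3, e2]
            _ = _ := by ring
        exact Nat.eq_of_mul_eq_mul_left Nat.card_pos (Nat.eq_of_mul_eq_mul_left Nat.card_pos this)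
      obtain ⟨k, -, hk⟩ := (Nat.dvd_prime_pow hp).1 hdiv
      refine ih _ hNlt N rfl _ p k hp hk (cycTwo_of_injective
        { toFun := fun a : A.subgroupOf N => (⟨((a : N) : G), a.2⟩ : A)
          map_one' := rfl, map_mul' := fun _ _ => rfl }
        (fun a b e => Subtype.ext (Subtype.ext (congrArg (fun q : A => (q : G)) e))) h)
    have h2 : Group.IsSolvable (G ⧸ N) := by
      have hlt : Nat.card (G ⧸ N) < n := by
        have hN' : 2 ≤ Nat.card N := by
          haveI : Nontrivial N := (Subgroup.nontrivial_iff_ne_bot N).2 hN1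
          exact Finite.one_lt_card
        have hq : 0 < Nat.card (G ⧸ N) := Nat.card_pos
        rw [← hn, Subgroup.card_eq_card_quotient_mul_card_subgroup N]
        calc Nat.card (G ⧸ N) < Nat.card (G ⧸ N) * 2 := by omega
          _ ≤ _ := Nat.mul_le_mul_left _ hN'
      obtain ⟨k, -, hk⟩ := (Nat.dvd_prime_pow hp).1 (hA ▸ Subgroup.index_map_dvd A (QuotientGroup.mk'_surjective N))
      exact ih _ hlt (G ⧸ N) rfl _ p k hp hk
        (cycTwo_of_surjective ((QuotientGroup.mk' N).subgroupMap A)
          ((QuotientGroup.mk' N).subgroupMap_surjective A) h)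
    exact solvable_of_ker_le_range N.subtype (QuotientGroup.mk' N) (by simp)
  · push Not at hex
    rcases subsingleton_or_nontrivial G with hs | hs
    · exact Group.isSolvable_of_comm fun a b => Subsingleton.elim _ _
    haveI : IsSimpleGroup G := ⟨fun N hN => or_iff_not_imp_left.2 (hex N hN)⟩
    by_cases hc : IsMulCommutative G
    · exact Group.isSolvable_of_comm fun a b => hc.is_comm.comm a b
    · exact simple_case hc A p s hp hA h


/-- Let G be a finite group with a subgroup A of prime-power index. Suppose A has a normal cyclic subgroup B such that A/B is cyclic of order a power of 2. Then G is solvable. -/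
theorem result {G : Type*} [Group G] [Finite G] (A : Subgroup G) (p s : ℕ) (hp : p.Prime) (hA : A.index = p ^ s)
    (B : Subgroup A) [B.Normal] (hB : IsCyclic B) (hAB : IsCyclic (A ⧸ B)) (r : ℕ) (hr : Nat.card (A ⧸ B) = 2 ^ r) :
    Group.IsSolvable G := by
  exact main _ G rfl A p s hp hA ⟨B, inferInstance, hB, hAB, r, hr⟩

end Cfsg.Agent.S4245
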