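import Cfsg.Statements.S4248
import Cfsg.Agent.Lib.Part11Almost
import Cfsg.Agent.Lib.Part11PSL
import Cfsg.Agent.Lib.Part11AutSz2
import Cfsg.Agent.Lib.PSL2Small
import Cfsg.Agent.Lib.SimpleOrder
import Cfsg.Agent.Lib.PSLCard

set_option autoImplicit false
open Cfsg

namespace Cfsg.Agent.S4248

/-- A non-abelian simple `PSL(2, q)` has `q ≥ 4`. -/
theorem four_le {F : Type} [Field F] [Fintype F] {T : Type*} [Group T] [Finite T] [IsSimpleGroup T]
    (hna : ∃ a b : T, a * b ≠ b * a)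
    (e : T ≃* Matrix.ProjectiveSpecialLinearGroup (Fin 2) F) : 4 ≤ Fintype.card F := by
  by_contra h
  have hna' : ¬ IsMulCommutative T := fun hc => by
    obtain ⟨a, b, hab⟩ := hna
    exact hab (hc.is_comm.comm a b)
  have h2 := Fintype.one_lt_card (α := F)
  have hcard : Nat.card T = 6 ∨ Nat.card T = 12 := by
    rw [Nat.card_congr e.toEquiv, PSLCard.card_PSL2, Nat.card_eq_fintype_card (α := F)]
    rcases (show Fintype.card F = 2 ∨ Fintype.card F = 3 by omega) with hq | hq <;> rw [hq] <;>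
      norm_num
  rcases hcard with hc | hc
  · haveI := Fact.mk Nat.prime_three
    obtain ⟨H, hH⟩ := Sylow.exists_subgroup_card_pow_prime (G := T) 3 (n := 1) (by rw [hc]; norm_num)
    have hi := H.card_mul_index
    rw [hH, hc] at hi
    have := SimpleOrder.five_le_index hna' (H := H) (fun e => by
      rw [e, Subgroup.index_top] at hi; omega)
    omega
  · haveI := Fact.mk Nat.prime_two
    obtain ⟨H, hH⟩ := Sylow.exists_subgroup_card_pow_prime (G := T) 2 (n := 2) (by rw [hc]; norm_num)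
    have hi := H.card_mul_index
    rw [hH, hc] at hi
    have := SimpleOrder.five_le_index hna' (H := H) (fun e => by
      rw [e, Subgroup.index_top] at hi; omega)
    omega

/-- Let G be a finite group admitting a nontrivial partition: a family of at least two nontrivial subgroups such that every non-identity element of G lies in exactly one member. Then G is isomorphic to the symmetric group of degree 4; or, for some prime p, the Hughes subgroup generated by the elements g with g^p ≠ 1 is proper (G a p-group or a group of Hughes–Thompson type); or G is a Frobenius group; or G is isomorphic to PSL(2, q) with q ≥ 4, to PGL(2, q) with q ≥ 5 odd, or to a Suzuki group. -/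
theorem result {G : Type*} [Group G] [Finite G] (S : Set (Subgroup G)) (hS2 : ∃ H ∈ S, ∃ K ∈ S, H ≠ K)
    (hS1 : ∀ H ∈ S, H ≠ ⊥) (hpart : ∀ g : G, g ≠ 1 → ∃! H : Subgroup G, H ∈ S ∧ g ∈ H) :
    Nonempty (G ≃* Equiv.Perm (Fin 4)) ∨
    (∃ p : ℕ, p.Prime ∧ Subgroup.closure {g : G | g ^ p ≠ 1} ≠ ⊤) ∨
    (∃ H : Subgroup G, Cfsg.IsFrobeniusComplement H) ∨
    (∃ (F : Type) (_ : Field F) (_ : Fintype F), 4 ≤ Fintype.card F ∧
        Nonempty (G ≃* Matrix.ProjectiveSpecialLinearGroup (Fin 2) F)) ∨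
    (∃ (F : Type) (_ : Field F) (_ : Fintype F), 5 ≤ Fintype.card F ∧ Odd (Fintype.card F) ∧
        Nonempty (G ≃* (GL (Fin 2) F ⧸ Subgroup.center (GL (Fin 2) F)))) ∨
    Cfsg.Lie.IsoSuzuki G := by
  classical
  obtain ⟨P⟩ := Part11.exists_npart S hS2 hS1 hpart
  have hsmall : Part11.Small G → (∃ p : ℕ, p.Prime ∧ Subgroup.closure {g : G | g ^ p ≠ 1} ≠ ⊤) ∨
      (∃ H : Subgroup G, Cfsg.IsFrobeniusComplement H) := id
  haveI : Nontrivial G := by
    obtain ⟨H, -, K, -, hne⟩ := hS2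
    by_contra hG
    haveI := not_nontrivial_iff_subsingleton.1 hG
    exact hne (Subsingleton.elim H K)
  by_cases hns : ∃ N : Subgroup G, N.Normal ∧ Group.IsSolvable N ∧ N ≠ ⊥
  · obtain ⟨N, hN, hNs, hN1⟩ := hns
    haveI := hN
    haveI := hNs
    rcases Part11.radical_case P N hN1 with h | h
    · rcases hsmall h with h | h
      · exact Or.inr (Or.inl h)
      · exact Or.inr (Or.inr (Or.inl h))
    · exact Or.inl h
  by_cases hno : ∃ x : G, x ≠ 1 ∧ (P.cmp x).Normal
  · obtain ⟨x, hx, hn⟩ := hno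
    rcases hsmall (Part11.small_of_normal_member P hx hn) with h | h
    · exact Or.inr (Or.inl h)
    · exact Or.inr (Or.inr (Or.inl h))
  push Not at hno
  push Not at hns
  obtain ⟨T, hT, hTs, hTna, hTc⟩ := Part11.exists_simple_normal P hno hns
  haveI := hT
  haveI := hTs
  have hT1 : T ≠ ⊥ := fun e => by
    obtain ⟨a, b, hab⟩ := hTna
    subst e
    exact hab (Subsingleton.elim _ _)
  have hTle : ∀ x : G, x ≠ 1 → ¬ T ≤ P.cmp x := fun x hx hle => hno x hx (P.normal_of_le hT1 hx hle)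
  have hTsol : ¬ Group.IsSolvable T := fun h => hT1 (hns T hT h)
  have heven : Even (Nat.card T) := by
    by_contra hc
    exact hTsol (Cfsg.Agent.S0205.result (Nat.not_even_iff_odd.1 hc))
  obtain ⟨C₀⟩ := Part11.exists_actx P T (MulEquiv.refl T) hTs hTna hTc hTle
  rcases Part11.simple_case C₀.part hTs hTna heven with ⟨F, hF, hF', ⟨e⟩⟩ | hsz
  swap
  · have htop := Part11.suzuki_case P T hTc hTle hsz
    obtain ⟨K, hK, hK', m, hm, hcard, ⟨e⟩⟩ := hsz
    subst htop
    exact Or.inr (Or.inr (Or.inr (Or.inr (Or.inr ⟨K, hK, hK', m, hm, hcard,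
      ⟨(Subgroup.topEquiv.symm).trans e⟩⟩))))
  obtain ⟨F', hF₁, hF₂, h4, hne4, ⟨e'⟩⟩ : ∃ (F' : Type) (_ : Field F') (_ : Fintype F'),
      4 ≤ Fintype.card F' ∧ Fintype.card F' ≠ 4 ∧
        Nonempty (T ≃* Matrix.ProjectiveSpecialLinearGroup (Fin 2) F') := by
    by_cases hq : Fintype.card F = 4
    · haveI : Fact (Nat.Prime 5) := ⟨by norm_num⟩
      obtain ⟨e1⟩ := PSL2Small.psl2_four F (by rw [Nat.card_eq_fintype_card, hq])
      obtain ⟨e2⟩ := PSL2Small.psl2_five (ZMod 5) (by rw [Nat.card_zmod])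
      exact ⟨ZMod 5, inferInstance, inferInstance, by rw [ZMod.card]; norm_num,
        by rw [ZMod.card]; norm_num, ⟨(e.trans e1).trans e2.symm⟩⟩
    · exact ⟨F, hF, hF', four_le hTna e, hq, ⟨e⟩⟩
  have hs' : IsSimpleGroup (Matrix.ProjectiveSpecialLinearGroup (Fin 2) F') :=
    haveI : Nontrivial (Matrix.ProjectiveSpecialLinearGroup (Fin 2) F') := e'.symm.toEquiv.nontrivial
    IsSimpleGroup.isSimpleGroup_of_surjective e'.toMonoidHom e'.surjective
  have hna' : ∃ a b : Matrix.ProjectiveSpecialLinearGroup (Fin 2) F', a * b ≠ b * a := by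
    obtain ⟨a, b, hab⟩ := hTna
    exact ⟨e' a, e' b, fun h => hab (e'.injective (by rw [map_mul, map_mul, h]))⟩
  obtain ⟨C⟩ := Part11.exists_actx P T e' hs' hna' hTc hTle
  rcases C.psl_case hne4 with h | ⟨hodd, h⟩
  · exact Or.inr (Or.inr (Or.inr (Or.inl ⟨F', hF₁, hF₂, h4, h⟩)))
  · exact Or.inr (Or.inr (Or.inr (Or.inr (Or.inl ⟨F', hF₁, hF₂, by omega, hodd, h⟩))))

end Cfsg.Agent.S4248
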