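import Cfsg.Statements.S4249
import Mathlib
import Cfsg.Agent.Lib.FrobeniusThompson
import Cfsg.Agent.Lib.NilpotentMaximal
import Cfsg.Agent.Lib.CoprimeActionAut
import Cfsg.Agent.Lib.PGroupsBasic
import Cfsg.Agent.Lib.HallCore

set_option autoImplicit false
open Cfsg

namespace Cfsg.Agent.S4249

open scoped Pointwise

universe u

variable {G : Type u} [Group G]

theorem mul_pow_conj (v y : G) : ∀ m : ℕ,
    (v * y) ^ m = ((List.range m).map fun i => y ^ i * v * (y ^ i)⁻¹).prod * y ^ m := by
  intro m
  induction m with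
  | zero => simp
  | succ m ih =>
    rw [pow_succ, ih, List.range_succ, List.map_append, List.prod_append]
    simp only [List.map_cons, List.map_nil, List.prod_cons, List.prod_nil, mul_one]
    group

/-- In a normal abelian subgroup `N`, an element `y` such that `y` and all `v * y` have order dividing `p` has trivial norm. -/
theorem norm_eq_one {N : Subgroup G} [N.Normal] (hNc : ∀ a ∈ N, ∀ b ∈ N, a * b = b * a) {p : ℕ} {y : G}
    (hy : y ^ p = 1) {v : N} (hv : ((v : G) * y) ^ p = 1) :
    letI : CommGroup N := { (inferInstance : Group N) with mul_comm := fun a b => Subtype.ext (hNc _ a.2 _ b.2) }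
    ∏ i ∈ Finset.range p, MulAut.conjNormal (H := N) (y ^ i) v = 1 := by
  let _ : CommGroup N := { (inferInstance : Group N) with mul_comm := fun a b => Subtype.ext (hNc _ a.2 _ b.2) }
  rw [mul_pow_conj, hy, mul_one] at hv
  apply Subtype.ext
  rw [Subgroup.coe_one, ← hv]
  have : ∀ m : ℕ, ((∏ i ∈ Finset.range m, MulAut.conjNormal (H := N) (y ^ i) v : N) : G) =
      ((List.range m).map fun i => y ^ i * (v : G) * (y ^ i)⁻¹).prod := by
    intro m
    induction m with
    | zero => simp
    | succ m ih =>
      rw [Finset.prod_range_succ, List.range_succ, List.map_append, List.prod_append, Subgroup.coe_mul, ih]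
      simp only [List.map_cons, List.map_nil, List.prod_cons, List.prod_nil, mul_one, MulAut.conjNormal_apply]
  exact this p

theorem sup_zpowers_eq_top [Finite G] {H : Subgroup G} {p : ℕ} (hp : p.Prime) (hidx : H.index = p) {x : G}
    (hx : x ∉ H) : H ⊔ Subgroup.zpowers x = ⊤ := by
  by_contra h
  have h1 : H < H ⊔ Subgroup.zpowers x := left_lt_sup.mpr fun h => hx (h (Subgroup.mem_zpowers x))
  rcases (Nat.dvd_prime hp).mp (hidx ▸ Subgroup.index_dvd_of_le h1.le) with h2 | h2
  · exact h (Subgroup.index_eq_one.mp h2)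
  · exact absurd (h2.trans hidx.symm) (Subgroup.index_strictAnti h1).ne

theorem inf_sup_zpowers [Finite G] {H N : Subgroup G} [N.Normal] (hNH : N ≤ H) {p : ℕ} (hp : p.Prime) {x : G}
    (hxp : x ^ p = 1) (hx : x ∉ H) : H ⊓ (N ⊔ Subgroup.zpowers x) = N := by
  refine le_antisymm (fun g hg => ?_) (le_inf hNH le_sup_left)
  have h2 : g ∈ (↑(N ⊔ Subgroup.zpowers x) : Set G) := hg.2
  rw [Subgroup.normal_mul] at h2
  obtain ⟨v, hv, y, hy, rfl⟩ := Set.mem_mul.mp h2
  have hyH : y ∈ H := by
    have : y = v⁻¹ * (v * y) := by group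
    rw [this]
    exact H.mul_mem (H.inv_mem (hNH hv)) hg.1
  have hy1 : y = 1 := by
    have hle : Subgroup.zpowers y ≤ Subgroup.zpowers x := Subgroup.zpowers_le.mpr hy
    have hcx : Nat.card (Subgroup.zpowers x) = p := by
      rw [Nat.card_zpowers]
      have : Fact p.Prime := ⟨hp⟩
      exact orderOf_eq_prime hxp fun e => hx (e ▸ H.one_mem)
    rcases (Nat.dvd_prime hp).mp (hcx ▸ Subgroup.card_dvd_of_le hle) with h | h
    · exact Subgroup.zpowers_eq_bot.mp (Subgroup.card_eq_one.mp h)
    · exact absurd ((Subgroup.eq_of_le_of_card_ge hle (by rw [hcx, h])).ge.trans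
        (Subgroup.zpowers_le.mpr hyH) (Subgroup.mem_zpowers x)) hx
  rw [hy1, mul_one]
  exact hv

/-- Frattini: the normalizer of a Sylow subgroup of a proper normal subgroup leaves that subgroup. -/
theorem exists_notMem_normalizer [Finite G] {H : Subgroup G} [H.Normal] (hH : H ≠ ⊤) {q : ℕ} [Fact q.Prime]
    (Q : Sylow q H) : ∃ x ∈ Subgroup.normalizer (((Q : Subgroup H).map H.subtype : Subgroup G) : Set G), x ∉ H := by
  by_contra h
  push Not at h
  apply hH
  rw [← top_le_iff, ← Sylow.normalizer_sup_eq_top Q]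
  exact sup_le h le_rfl

/-- Kegel: an index-`p` normal subgroup outside of which all elements have order `p` is nilpotent. -/
theorem kegel {p : ℕ} (hp : p.Prime) : ∀ (n : ℕ) (G : Type u) [Group G] [Finite G] (H : Subgroup G),
    H.Normal → H.index = p → (∀ y : G, y ∉ H → y ^ p = 1) → Nat.card H = n → Group.IsNilpotent H := by
  intro n
  induction n using Nat.strong_induction_on with
  | _ n ih =>
    intro G _ _ H hHn hidx hout hn
    classical
    have := hHn
    have hHtop : H ≠ ⊤ := fun h => hp.one_lt.ne' (by rw [← hidx, h, Subgroup.index_top])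
    have hproper : ∀ K : Subgroup G, ¬ K ≤ H → Nat.card (H ⊓ K : Subgroup G) < n →
        Group.IsNilpotent (H ⊓ K : Subgroup G) := by
      intro K hK hlt
      have h1 : (H.subgroupOf K).index = p := by
        have h2 : H.relIndex K ∣ p := hidx ▸ Subgroup.relIndex_dvd_index_of_normal H K
        rcases (Nat.dvd_prime hp).mp h2 with h | h
        · exact absurd (Subgroup.relIndex_eq_one.mp h) hK
        · exact h
      let e : H.subgroupOf K ≃* (H ⊓ K : Subgroup G) :=
        ((H.subgroupOf K).equivMapOfInjective _ K.subtype_injective).trans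
          (MulEquiv.subgroupCongr (Subgroup.subgroupOf_map_subtype H K))
      have hc : Nat.card (H.subgroupOf K) < n := by rwa [Nat.card_congr e.toEquiv]
      have := ih _ hc K (H.subgroupOf K) inferInstance h1 (fun y hy => Subtype.ext (by
        simpa using hout y (fun h => hy h))) rfl
      exact Group.isNilpotent_congr e |>.mp this
    by_cases hN0 : ∃ N : Subgroup G, N.Normal ∧ N ≠ ⊥ ∧ N < H
    swap
    · -- no proper invariant normal subgroup: use Thompson's theorem
      push Not at hN0
      rcases eq_or_ne H ⊥ with rfl | hHne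
      · infer_instance
      by_cases hodd : ∃ q, q.Prime ∧ q ≠ 2 ∧ q ∣ Nat.card H
      · obtain ⟨q, hq, hq2, hqd⟩ := hodd
        have : Fact q.Prime := ⟨hq⟩
        obtain ⟨Q⟩ : Nonempty (Sylow q H) := inferInstance
        set Q' := (Q : Subgroup H).map H.subtype with hQ'
        by_cases hQH : Q' = H
        · have : IsPGroup q H := hQH ▸ (Q.isPGroup'.map H.subtype)
          exact this.isNilpotent
        obtain ⟨x, hxN, hxH⟩ := exists_notMem_normalizer hHtop Q
        have hQne : (Q : Subgroup H) ≠ ⊥ := Q.ne_bot_of_dvd_card hqd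
        have key : ∀ X : Subgroup H, X ≤ (Q : Subgroup H) → X ≠ ⊥ →
            Subgroup.normalizer (Q' : Set G) ≤ Subgroup.normalizer ((X.map H.subtype : Subgroup G) : Set G) →
            Cfsg.HasNormalPComplement q (Subgroup.normalizer (X : Set H)) := by
          intro X hXQ hX hle
          set N := Subgroup.normalizer ((X.map H.subtype : Subgroup G) : Set G)
          have hNtop : N ≠ ⊤ := by
            intro h
            have hn' : (X.map H.subtype).Normal := Subgroup.normalizer_eq_top_iff.mp h
            refine hN0 _ hn' ?_ (lt_of_le_of_ne (Subgroup.map_subtype_le X) fun e => hQH ?_)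
            · rwa [Ne, Subgroup.map_eq_bot_iff_of_injective _ H.subtype_injective]
            · exact le_antisymm (Subgroup.map_subtype_le _) (e ▸ Subgroup.map_mono hXQ)
          have hNH : ¬ N ≤ H := fun h => hxH (h (hle hxN))
          have hlt : Nat.card (H ⊓ N : Subgroup G) < n := by
            rw [← hn]
            refine Set.Finite.card_lt_card (Set.toFinite _) (lt_of_le_of_ne inf_le_left fun e => hNtop ?_ : H ⊓ N < H)
            rw [eq_top_iff, ← sup_zpowers_eq_top hp hidx hxH, sup_le_iff, Subgroup.zpowers_le]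
            exact ⟨e ▸ inf_le_right, hle hxN⟩
          have hnil := hproper N hNH hlt
          refine FrobeniusThompson.pNC_of_map_le H.subtype H.subtype_injective _ (H ⊓ N) ?_
            (NilpotentMaximal.hasNormalPComplement_of_isNilpotent hnil q)
          exact le_inf (Subgroup.map_subtype_le _) (Subgroup.le_normalizer_map H.subtype)
        have hcompl : Cfsg.HasNormalPComplement q H := by
          refine FrobeniusThompson.hasNormalPComplement_of_thompson hq2 Q ?_ ?_
          · refine key _ (Subgroup.map_subtype_le _) (FrobeniusThompson.thompsonOf_ne_bot Q.isPGroup' hQne) ?_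
            rw [FrobeniusThompson.map_thompsonOf H.subtype (Q : Subgroup H)
              (H.subtype_injective.comp (Subgroup.subtype_injective _))]
            exact FrobeniusThompson.normalizer_le_normalizer_thompsonOf _
          · refine TransferPResidual.hasNormalPComplement_mono
              (Subgroup.centralizer_le_normalizer _) ?_
            refine key _ inf_le_left (FrobeniusThompson.zOf_ne_bot Q.isPGroup' hQne) ?_
            rw [FrobeniusThompson.map_zOf H.subtype (Q : Subgroup H)
              (H.subtype_injective.comp (Subgroup.subtype_injective _))]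
            exact FrobeniusThompson.normalizer_le_normalizer_zOf _
        have hres := TransferPResidual.hasNormalPComplement_iff_not_dvd.mp hcompl
        set R := (Cfsg.pResidual q H).map H.subtype with hR
        have hRn : R.Normal := by rw [hR]; infer_instance
        by_cases hRbot : R = ⊥
        · rw [hR, Subgroup.map_eq_bot_iff_of_injective _ H.subtype_injective] at hRbot
          exact (TransferPResidual.pResidual_eq_bot_iff.mp hRbot).isNilpotent
        · exfalso
          rcases eq_or_lt_of_le (Subgroup.map_subtype_le (Cfsg.pResidual q H)) with h | h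
          · apply hres
            rw [← Subgroup.card_map_of_injective H.subtype_injective, h]
            exact hqd
          · exact hN0 R hRn hRbot h
      · push Not at hodd
        have : Fact (Nat.Prime 2) := ⟨Nat.prime_two⟩
        have : IsPGroup 2 H := IsPGroup.of_card (n := (Nat.card H).primeFactorsList.length)
          (Nat.eq_prime_pow_of_unique_prime_dvd Nat.card_pos.ne' fun {d} hd hdd => by_contra fun h => hodd d hd h hdd)
        exact this.isNilpotent
    -- a minimal normal subgroup below `H` is elementary abelian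
    obtain ⟨N, hNmem, hNmin⟩ := (Set.toFinite {N : Subgroup G | N.Normal ∧ N ≠ ⊥ ∧ N < H}).exists_minimal hN0
    obtain ⟨hNn, hNne, hNH⟩ := hNmem
    have := hNn
    obtain ⟨x₀, -, hx₀⟩ := SetLike.exists_of_lt (lt_top_iff_ne_top.mpr hHtop)
    have hNnil : Group.IsNilpotent N := by
      have h1 := inf_sup_zpowers hNH.le hp (hout x₀ hx₀) hx₀
      have := hproper (N ⊔ Subgroup.zpowers x₀) (fun h => hx₀ (h (Subgroup.mem_sup_right (Subgroup.mem_zpowers x₀))))
        (by rw [h1, ← hn]; exact Set.Finite.card_lt_card (Set.toFinite _) hNH)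
      rwa [h1] at this
    have hZ : (Subgroup.center N).map N.subtype = N := by
      have hnt : Nontrivial N := (Subgroup.nontrivial_iff_ne_bot N).mpr hNne
      refine le_antisymm (Subgroup.map_subtype_le _) (hNmin ⟨inferInstance, ?_, lt_of_le_of_lt (Subgroup.map_subtype_le _) hNH⟩ (Subgroup.map_subtype_le _))
      rw [Ne, Subgroup.map_eq_bot_iff_of_injective _ N.subtype_injective, ← ne_eq, ← Subgroup.nontrivial_iff_ne_bot]
      have := hNnil
      exact (Subgroup.nontrivial_iff_ne_bot _).mpr (Group.IsNilpotent.center_ne_bot N)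
    have hNc : ∀ a ∈ N, ∀ b ∈ N, a * b = b * a := by
      intro a ha b hb
      obtain ⟨a', ha', rfl⟩ : a ∈ (Subgroup.center N).map N.subtype := hZ.symm ▸ ha
      exact (congrArg Subtype.val (Subgroup.mem_center_iff.mp ha' ⟨b, hb⟩)).symm
    obtain ⟨r, hr, hrd⟩ := Nat.exists_prime_and_dvd
      (by rw [ne_eq, Subgroup.card_eq_one]; exact hNne : Nat.card N ≠ 1)
    have : Fact r.Prime := ⟨hr⟩
    have hNexp : ∀ v ∈ N, v ^ r = 1 := by
      let B : Subgroup G :=
        { carrier := {v | v ∈ N ∧ v ^ r = 1}
          one_mem' := ⟨N.one_mem, one_pow _⟩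
          mul_mem' := fun {a b} ha hb => ⟨N.mul_mem ha.1 hb.1, by
            rw [(show Commute a b from hNc a ha.1 b hb.1).mul_pow, ha.2, hb.2, one_mul]⟩
          inv_mem' := fun {a} ha => ⟨N.inv_mem ha.1, by rw [inv_pow, ha.2, inv_one]⟩ }
      have hBn : B.Normal := ⟨fun v hv g => ⟨hNn.conj_mem v hv.1 g, by rw [conj_pow, hv.2, mul_one, mul_inv_cancel]⟩⟩
      have hBne : B ≠ ⊥ := by
        obtain ⟨a, ha⟩ := exists_prime_orderOf_dvd_card' (G := N) r hrd
        intro h
        have hm : (a : G) ∈ B := ⟨a.2, by rw [← Subgroup.coe_pow, ← ha, pow_orderOf_eq_one]; rfl⟩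
        rw [h, Subgroup.mem_bot] at hm
        rw [show a = 1 from Subtype.ext hm, orderOf_one] at ha
        exact hr.one_lt.ne ha
      have hBN : N ≤ B := hNmin ⟨hBn, hBne, lt_of_le_of_lt (fun v hv => hv.1) hNH⟩ (fun v hv => hv.1)
      exact fun v hv => (hBN hv).2
    have hNr : IsPGroup r N := fun v => ⟨1, Subtype.ext (by simpa using hNexp v v.2)⟩
    -- the quotient is nilpotent by induction
    set f := QuotientGroup.mk' N with hf
    have hsurj : Function.Surjective f := QuotientGroup.mk'_surjective N
    have hker : f.ker ≤ H := by rw [hf, QuotientGroup.ker_mk']; exact hNH.le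
    have hcomapH : (H.map f).comap f = H := Subgroup.comap_map_eq_self hker
    have hHb : Group.IsNilpotent (H.map f) := by
      refine ih _ ?_ (G ⧸ N) (H.map f) inferInstance
        ((Subgroup.index_map_eq H hsurj hker).trans hidx) ?_ rfl
      · rw [← hn]
        have h1 := HallCore.card_map_mk'_mul N H hNH.le
        rw [← hf] at h1
        rw [← h1]
        exact lt_mul_of_one_lt_right Nat.card_pos ((Subgroup.one_lt_card_iff_ne_bot N).mpr hNne)
      · intro y hy
        obtain ⟨g, rfl⟩ := hsurj y
        rw [← map_pow, hout g (fun h => hy (Subgroup.mem_map_of_mem f h)), map_one]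
    -- every Sylow subgroup of `H` is normal
    suffices hall : ∀ (q : ℕ) (_ : Fact q.Prime) (Q : Sylow q H), (Q : Subgroup H).Normal from
      ((Group.isNilpotent_of_finite_tfae (G := H)).out 0 3).mpr fun q hq Q => hall q hq Q
    intro q hq Q
    set Q' := (Q : Subgroup H).map H.subtype with hQ'
    have hQH : Q' ≤ H := Subgroup.map_subtype_le _
    suffices hQn : Q'.Normal by
      have := hQn.comap H.subtype
      rwa [hQ', Subgroup.comap_map_eq_self_of_injective H.subtype_injective] at this
    set M := Q' ⊔ N with hM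
    have hMH : M ≤ H := sup_le hQH hNH.le
    have hMn : M.Normal := by
      have hgs := MonoidHom.subgroupMap_surjective f H
      have hQb : ((Q.mapSurjective hgs : Sylow q (H.map f)) : Subgroup (H.map f)).Normal := by
        have := hHb; infer_instance
      rw [Sylow.coe_mapSurjective] at hQb
      have hchar : ((Q : Subgroup H).map (f.subgroupMap H)).Characteristic := by
        have := (Q.mapSurjective hgs).characteristic_of_normal (by rw [Sylow.coe_mapSurjective]; exact hQb)
        rwa [Sylow.coe_mapSurjective] at this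
      have hn1 : (((Q : Subgroup H).map (f.subgroupMap H)).map (H.map f).subtype).Normal := inferInstance
      have heq : ((Q : Subgroup H).map (f.subgroupMap H)).map (H.map f).subtype = Q'.map f := by
        rw [hQ', Subgroup.map_map, Subgroup.map_map]
        rfl
      rw [heq] at hn1
      have h3 := hn1.comap f
      rwa [Subgroup.comap_map_eq, hf, QuotientGroup.ker_mk'] at h3
    by_cases hqr : q = r
    · -- `N` lies in every Sylow `r`-subgroup
      subst hqr
      have hle : N ≤ Q' := by
        have hp1 : IsPGroup q M := by rw [hM]; exact (Q.isPGroup'.map H.subtype).to_sup_of_normal_right hNr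
        have hp2 : IsPGroup q (M.subgroupOf H) := hp1.comap_subtype
        have heq := Q.is_maximal' hp2 (fun v hv => (le_sup_left : Q' ≤ M) ⟨v, hv, rfl⟩)
        intro v hv
        refine ⟨⟨v, hNH.le hv⟩, heq ▸ ?_, rfl⟩
        exact (le_sup_right : N ≤ M) hv
      rwa [hM, sup_eq_left.mpr hle] at hMn
    obtain ⟨x, hxQ, hxH⟩ := exists_notMem_normalizer hHtop Q
    by_cases hMeq : M = H
    · -- `H = QN`
      set C := N ⊓ Subgroup.centralizer (Q' : Set G) with hC
      have hgen : ∀ K : Subgroup G, Q' ≤ K → N ≤ K → x ∈ K → K = ⊤ := fun K h1 h2 h3 => by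
        rw [eq_top_iff, ← sup_zpowers_eq_top hp hidx hxH, ← hMeq, hM]
        exact sup_le (sup_le h1 h2) (Subgroup.zpowers_le.mpr h3)
      by_cases hCN : C = N
      · rw [← Subgroup.normalizer_eq_top_iff]
        refine hgen _ Subgroup.le_normalizer ?_ hxQ
        exact (le_of_eq_of_le hCN.symm inf_le_right).trans (Subgroup.centralizer_le_normalizer _)
      have hCn : C.Normal := by
        rw [← Subgroup.normalizer_eq_top_iff]
        refine hgen _ ?_ ?_ ?_
        · intro y hy
          rw [Subgroup.mem_normalizer_iff]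
          intro c
          constructor
          · intro hc
            have : y * c = c * y := Subgroup.mem_centralizer_iff.mp hc.2 y hy
            rwa [this, mul_inv_cancel_right]
          · intro hc
            have h1 : y⁻¹ * (y * c * y⁻¹) = (y * c * y⁻¹) * y⁻¹ :=
              Subgroup.mem_centralizer_iff.mp hc.2 y⁻¹ (Q'.inv_mem hy)
            have h2 : c = y * c * y⁻¹ := by
              calc c = (y⁻¹ * (y * c * y⁻¹)) * y := by group
                _ = y * c * y⁻¹ := by rw [h1]; group
            rw [h2]; exact hc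
        · intro y hy
          rw [Subgroup.mem_normalizer_iff]
          intro c
          constructor
          · intro hc
            have : y * c = c * y := hNc y hy c hc.1
            rwa [this, mul_inv_cancel_right]
          · intro hc
            have h1 : y⁻¹ * (y * c * y⁻¹) = (y * c * y⁻¹) * y⁻¹ := hNc _ (N.inv_mem hy) _ hc.1
            have h2 : c = y * c * y⁻¹ := by
              calc c = (y⁻¹ * (y * c * y⁻¹)) * y := by group
                _ = y * c * y⁻¹ := by rw [h1]; group
            rw [h2]; exact hc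
        · have h1 : x ∈ Subgroup.normalizer (N : Set G) := by
            rw [Subgroup.normalizer_eq_top_iff.mpr hNn]; trivial
          have h2 : x ∈ Subgroup.normalizer ((Subgroup.centralizer (Q' : Set G) : Subgroup G) : Set G) := by
            have key : ∀ g ∈ Subgroup.normalizer (Q' : Set G), ∀ c ∈ Subgroup.centralizer (Q' : Set G),
                g * c * g⁻¹ ∈ Subgroup.centralizer (Q' : Set G) := by
              intro g hg c hc
              rw [Subgroup.mem_centralizer_iff]
              intro u hu
              have hu' : g⁻¹ * u * g ∈ Q' := (Subgroup.mem_normalizer_iff''.1 hg u).1 hu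
              have := Subgroup.mem_centralizer_iff.mp hc _ hu'
              calc u * (g * c * g⁻¹) = g * ((g⁻¹ * u * g) * c) * g⁻¹ := by group
                _ = g * (c * (g⁻¹ * u * g)) * g⁻¹ := by rw [this]
                _ = g * c * g⁻¹ * u := by group
            rw [Subgroup.mem_normalizer_iff]
            refine fun c => ⟨key x hxQ c, fun hc => ?_⟩
            have := key x⁻¹ (inv_mem hxQ) _ hc
            simpa [mul_assoc] using this
          exact Subgroup.inf_normalizer_le_normalizer_inf ⟨h1, h2⟩
      have hCbot : C = ⊥ := by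
        by_contra hne
        exact hCN (le_antisymm inf_le_left (hNmin ⟨hCn, hne, lt_of_le_of_lt inf_le_left hNH⟩ inf_le_left))
      exfalso
      let _ : CommGroup N := { (inferInstance : Group N) with mul_comm := fun a b => Subtype.ext (hNc _ a.2 _ b.2) }
      let _ : Fintype Q' := Fintype.ofFinite _
      obtain ⟨v, hv, hv1⟩ := N.bot_or_exists_ne_one.resolve_left hNne
      have hp' : Fact p.Prime := ⟨hp⟩
      let T : ℕ → N := fun i => ∏ h : Q', MulAut.conjNormal (H := N) (x ^ i * (h : G)) ⟨v, hv⟩
      have hT0 : T 0 = 1 := by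
        have hmem : ((T 0 : N) : G) ∈ C := by
          refine ⟨(T 0).2, Subgroup.mem_centralizer_iff.mpr fun u hu => ?_⟩
          have hfix : MulAut.conjNormal (H := N) u (T 0) = T 0 := by
            simp only [T, map_prod, pow_zero, one_mul]
            refine Fintype.prod_equiv (Equiv.mulLeft (⟨u, hu⟩ : Q')) _ _ fun h => ?_
            simp [map_mul]
          have := congrArg Subtype.val hfix
          rw [MulAut.conjNormal_apply] at this
          exact mul_inv_eq_iff_eq_mul.mp this
        rw [hCbot, Subgroup.mem_bot] at hmem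
        exact Subtype.ext hmem
      have hTi : ∀ i, T i = 1 := fun i => by
        have : T i = MulAut.conjNormal (H := N) (x ^ i) (T 0) := by
          simp only [T, map_prod, pow_zero, map_mul, map_one, MulAut.one_apply, MulAut.mul_apply]
        rw [this, hT0, map_one]
      have hxh : ∀ h : Q', x * (h : G) ∉ H := fun h hh => hxH (by
        have := H.mul_mem hh (H.inv_mem (hQH h.2))
        simpa using this)
      have hTpow : ∀ i : ℕ, ¬ p ∣ i →
          ∏ h : Q', MulAut.conjNormal (H := N) ((x * (h : G)) ^ i) ⟨v, hv⟩ = T i := by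
        intro i hi
        set W := Subgroup.normalizer (Q' : Set G)
        have hxi : ∀ h : Q', (x ^ i)⁻¹ * (x * (h : G)) ^ i ∈ Q' := by
          intro h
          have hQW : (Q'.subgroupOf W).Normal := Subgroup.normal_in_normalizer
          let xw : W := ⟨x, hxQ⟩
          let hw : W := ⟨(h : G), Subgroup.le_normalizer h.2⟩
          have hh : hw ∈ Q'.subgroupOf W := h.2
          have : (xw ^ i)⁻¹ * (xw * hw) ^ i ∈ Q'.subgroupOf W := by
            rw [← QuotientGroup.eq_one_iff]
            simp [(QuotientGroup.eq_one_iff hw).mpr hh]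
          exact this
        let σ : Q' → Q' := fun h => ⟨_, hxi h⟩
        have hσ : Function.Injective σ := by
          intro a b hab
          have h1 : (x * (a : G)) ^ i = (x * (b : G)) ^ i := mul_left_cancel (congrArg Subtype.val hab)
          obtain ⟨j, hj⟩ := exists_pow_eq_self_of_coprime (x := x * (a : G)) (n := i)
            (by rw [orderOf_eq_prime (hout _ (hxh a)) fun e => hxh a (e ▸ H.one_mem)]
                exact (hp.coprime_iff_not_dvd.mpr hi).symm)
          have ho : ∀ h : Q', orderOf (x * (h : G)) = p := fun h =>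
            orderOf_eq_prime (hout _ (hxh h)) fun e => hxh h (e ▸ H.one_mem)
          have hjb : ((x * (b : G)) ^ i) ^ j = x * (b : G) := by
            rw [← pow_mul] at hj ⊢
            conv_rhs => rw [← pow_one (x * (b : G))]
            rw [pow_eq_pow_iff_modEq, ho b]
            have := (pow_eq_pow_iff_modEq.mp (hj.trans (pow_one _).symm))
            rwa [ho a] at this
          rw [h1, hjb] at hj
          exact Subtype.ext (mul_left_cancel hj).symm
        simp only [T]
        refine Fintype.prod_equiv (Equiv.ofBijective σ hσ.bijective_of_finite) _ _ fun h => ?_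
        simp [σ, Equiv.ofBijective]
      have hsum : (⟨v, hv⟩ : N) ^ Nat.card Q' = 1 := by
        have h1 : ∏ h : Q', ∏ i ∈ Finset.range p, MulAut.conjNormal (H := N) ((x * (h : G)) ^ i) ⟨v, hv⟩ = 1 := by
          refine Finset.prod_eq_one fun h _ => norm_eq_one hNc (hout _ (hxh h)) (hout _ fun hh => hxh h ?_)
          have := H.mul_mem (H.inv_mem (hNH.le hv)) hh
          simpa using this
        rw [Finset.prod_comm, Finset.prod_eq_single 0] at h1
        · simpa [Nat.card_eq_fintype_card] using h1
        · intro i hi hi0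
          rw [hTpow i fun hd => hi0 (Nat.eq_zero_of_dvd_of_lt hd (Finset.mem_range.mp hi)), hTi]
        · intro h; exact absurd (Finset.mem_range.mpr hp.pos) h
      apply hv1
      have hcop : (orderOf (⟨v, hv⟩ : N)).Coprime (Nat.card Q') := by
        obtain ⟨a, ha⟩ := IsPGroup.iff_orderOf.mp hNr ⟨v, hv⟩
        obtain ⟨b, hb⟩ := IsPGroup.iff_card.mp (Q.isPGroup'.map H.subtype)
        rw [ha, hb]
        exact Nat.Coprime.pow a b ((Nat.coprime_primes hr hq.out).mpr fun e => hqr e.symm)
      have := orderOf_eq_one_iff.mp (Nat.Coprime.eq_one_of_dvd hcop (orderOf_dvd_of_pow_eq_one hsum))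
      exact congrArg Subtype.val this
    · -- `QN` is a proper, hence nilpotent, subgroup
      have := hMn
      have h1 := inf_sup_zpowers hMH hp (hout x hxH) hxH
      have hnil := hproper (M ⊔ Subgroup.zpowers x) (fun h => hxH (h (Subgroup.mem_sup_right (Subgroup.mem_zpowers x))))
        (by rw [h1, ← hn]; exact Set.Finite.card_lt_card (Set.toFinite _) (lt_of_le_of_ne hMH hMeq : M < H))
      rw [h1] at hnil
      have hQM : Q' ≤ M := le_sup_left
      have hQp : IsPGroup q (Q'.subgroupOf M) := (Q.isPGroup'.map H.subtype).comap_subtype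
      have hQi : ¬ q ∣ (Q'.subgroupOf M).index := by
        intro hd
        refine Q.not_dvd_index (hd.trans ?_)
        have h2 : Q'.relIndex M ∣ Q'.relIndex H :=
          dvd_of_mul_right_eq _ (Subgroup.relIndex_mul_relIndex Q' M H hQM hMH)
        have h3 : Q'.relIndex H = (Q : Subgroup H).index := by
          rw [Subgroup.relIndex, Subgroup.subgroupOf, hQ', Subgroup.comap_map_eq_self_of_injective H.subtype_injective]
        rw [← h3]; exact h2
      let S : Sylow q M := hQp.toSylow hQi
      have hSn : (S : Subgroup M).Normal := by have := hnil; infer_instance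
      have := S.characteristic_of_normal hSn
      have hfin : ((S : Subgroup M).map M.subtype).Normal := inferInstance
      have heq : (S : Subgroup M).map M.subtype = Q' := by
        show (Q'.subgroupOf M).map M.subtype = Q'
        rw [Subgroup.subgroupOf_map_subtype, inf_eq_left.mpr hQM]
      rwa [heq] at hfin

theorem exists_ne_fixed [Finite G] {K : Type*} [Group K] [Finite K] [Nontrivial K] {p : ℕ} [hp : Fact p.Prime]
    (A : Subgroup (MulAut K)) (hA : IsPGroup p A) (hexp : ∀ a ∈ A, a ^ p = 1) (z x : MulAut K) (hz : z ∈ A)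
    (hx : x ∈ A) (hzx : Commute z x) (hxz : x ∉ Subgroup.zpowers z) (hz1 : z ≠ 1)
    (hcop : ¬ p ∣ Nat.card K) (S : Subgroup K)
    (hfix : ∀ i j : ℕ, z ^ i * x ^ j ≠ 1 → ∀ k : K, (z ^ i * x ^ j) k = k → k ∈ S) : S = ⊤ := by
  set E := Subgroup.closure ({z, x} : Set (MulAut K))
  have hEA : E ≤ A := by
    rw [Subgroup.closure_le]
    rintro _ (rfl | rfl)
    · exact hz
    · exact hx
  have hEc : IsMulCommutative E := Subgroup.isMulCommutative_closure <| by
    rintro u (rfl | rfl) v (rfl | rfl) <;> first | rfl | exact hzx | exact hzx.symm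
  have hEform : ∀ e ∈ E, ∃ i j : ℕ, e = z ^ i * x ^ j := by
    intro e he
    induction he using Subgroup.closure_induction with
    | mem y hy =>
      rcases hy with rfl | rfl
      · exact ⟨1, 0, by simp⟩
      · exact ⟨0, 1, by simp⟩
    | one => exact ⟨0, 0, by simp⟩
    | mul a b _ _ ha hb =>
      obtain ⟨i, j, rfl⟩ := ha
      obtain ⟨k, l, rfl⟩ := hb
      exact ⟨i + k, j + l, by rw [pow_add, pow_add]; exact (Commute.mul_mul_mul_comm (hzx.symm.pow_pow j k) _ _)⟩
    | inv a haE ha =>
      obtain ⟨i, j, rfl⟩ := ha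
      refine ⟨i * (p - 1), j * (p - 1), ?_⟩
      have h1 : (z ^ i * x ^ j) ^ (p - 1) * (z ^ i * x ^ j) = 1 := by
        rw [← pow_succ, Nat.sub_add_cancel hp.out.one_le]
        exact hexp _ (hEA haE)
      rw [← eq_inv_of_mul_eq_one_left h1, (hzx.pow_pow i j).mul_pow, ← pow_mul, ← pow_mul]
  have hnc : ¬ IsCyclic E := by
    intro hcyc
    apply hxz
    obtain ⟨⟨g, hgE⟩, hg⟩ := hcyc.exists_generator
    have hgp : g ^ p = 1 := hexp g (hEA hgE)
    have hzg : z ∈ Subgroup.zpowers g := by
      obtain ⟨k, hk⟩ := Subgroup.mem_zpowers_iff.mp (hg ⟨z, Subgroup.subset_closure (Or.inl rfl)⟩)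
      exact Subgroup.mem_zpowers_iff.mpr ⟨k, congrArg Subtype.val hk⟩
    have hxg : x ∈ Subgroup.zpowers g := by
      obtain ⟨k, hk⟩ := Subgroup.mem_zpowers_iff.mp (hg ⟨x, Subgroup.subset_closure (Or.inr rfl)⟩)
      exact Subgroup.mem_zpowers_iff.mpr ⟨k, congrArg Subtype.val hk⟩
    have hg1 : g ≠ 1 := fun e => hz1 (by rw [e, Subgroup.zpowers_one_eq_bot, Subgroup.mem_bot] at hzg; exact hzg)
    have hc : Nat.card (Subgroup.zpowers g) = p := by rw [Nat.card_zpowers, orderOf_eq_prime hgp hg1]
    have hzo : Nat.card (Subgroup.zpowers z) = p := by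
      rw [Nat.card_zpowers, orderOf_eq_prime (hexp z hz) hz1]
    rw [Subgroup.eq_of_le_of_card_ge (Subgroup.zpowers_le.mpr hzg) (by rw [hc, hzo])]
    exact hxg
  refine CoprimeActionAut.le_of_fixed_points E.subtype hnc ?_ S ?_
  · obtain ⟨m, hm⟩ := IsPGroup.iff_card.mp (hA.to_le hEA)
    rw [hm]
    exact Nat.Coprime.pow_left m (hp.out.coprime_iff_not_dvd.mpr hcop)
  · intro a ha k hk
    obtain ⟨i, j, hij⟩ := hEform a a.2
    refine hfix i j (fun e => ha (Subtype.ext (hij.trans e))) k ?_
    rw [← hij]; exact hk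

/-- Let G be a finite group and p a prime such that G is not a p-group, and suppose the Hughes subgroup H_p(G), generated by all elements g with g^p ≠ 1, is a proper subgroup. Then H_p(G) is nilpotent and has index p in G. -/
theorem result {G : Type*} [Group G] [Finite G] (p : ℕ) (hp : p.Prime) (hG : ¬ IsPGroup p G)
    (hH : Subgroup.closure {g : G | g ^ p ≠ 1} ≠ ⊤) :
    Group.IsNilpotent (Subgroup.closure {g : G | g ^ p ≠ 1}) ∧ (Subgroup.closure {g : G | g ^ p ≠ 1}).index = p := by
  classical
  have : Fact p.Prime := ⟨hp⟩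
  set H := Subgroup.closure {g : G | g ^ p ≠ 1} with hHdef
  have hout : ∀ y : G, y ∉ H → y ^ p = 1 := fun y hy => by_contra fun h => hy (Subgroup.subset_closure h)
  have hHn : H.Normal := by
    refine ⟨fun h hh g => ?_⟩
    have hmap : H.map (MulAut.conj g).toMonoidHom ≤ H := by
      rw [hHdef, MonoidHom.map_closure]
      refine Subgroup.closure_mono ?_
      rintro _ ⟨y, hy, rfl⟩ h
      refine hy ((MulEquiv.map_eq_one_iff (MulAut.conj g)).mp ?_)
      rw [map_pow]; exact h
    exact hmap ⟨h, hh, rfl⟩
  suffices hidx : H.index = p by exact ⟨kegel hp _ G H hHn hidx hout rfl, hidx⟩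
  -- a prime other than `p`
  obtain ⟨q, hq, hqG, hqp⟩ : ∃ q, q.Prime ∧ q ∣ Nat.card G ∧ q ≠ p := by
    by_contra hcon
    push Not at hcon
    exact hG (IsPGroup.of_card (n := (Nat.card G).primeFactorsList.length)
      (Nat.eq_prime_pow_of_unique_prime_dvd Nat.card_pos.ne' fun {d} hd hdd => hcon d hd hdd))
  have : Fact q.Prime := ⟨hq⟩
  have hindexp : IsPGroup p (G ⧸ H) := fun y => by
    obtain ⟨g, rfl⟩ := QuotientGroup.mk_surjective y
    by_cases hg : g ∈ H
    · exact ⟨0, by simpa using hg⟩
    · exact ⟨1, by rw [pow_one, ← QuotientGroup.mk_pow, hout g hg]; rfl⟩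
  obtain ⟨k, hk⟩ := IsPGroup.iff_card.mp hindexp
  rw [← Subgroup.index_eq_card] at hk
  have hqH : q ∣ Nat.card H := by
    rw [← H.index_mul_card, hk] at hqG
    rcases (Nat.Prime.dvd_mul hq).mp hqG with h | h
    · exact absurd ((Nat.prime_dvd_prime_iff_eq hq hp).mp (hq.dvd_of_dvd_pow h)) hqp
    · exact h
  obtain ⟨Q⟩ : Nonempty (Sylow q H) := inferInstance
  set Q' := (Q : Subgroup H).map H.subtype with hQ'
  have hQne : Q' ≠ ⊥ := by
    rw [hQ', Ne, Subgroup.map_eq_bot_iff_of_injective _ H.subtype_injective]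
    exact Q.ne_bot_of_dvd_card hqH
  have : Nontrivial Q' := (Subgroup.nontrivial_iff_ne_bot _).mpr hQne
  set W := Subgroup.normalizer (Q' : Set G) with hW
  obtain ⟨P⟩ : Nonempty (Sylow p W) := inferInstance
  set P1 := (P : Subgroup W).map W.subtype with hP1
  have hP1p : IsPGroup p P1 := P.isPGroup'.map _
  have hP1W : P1 ≤ W := Subgroup.map_subtype_le _
  have hcover : ∀ g : G, ∃ y ∈ P1, y⁻¹ * g ∈ H := by
    intro g
    have hsurj : Function.Surjective ((QuotientGroup.mk' H).comp W.subtype) := by
      intro y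
      obtain ⟨g, rfl⟩ := QuotientGroup.mk'_surjective H y
      have hg : g ∈ (↑(Subgroup.normalizer (Q' : Set G) ⊔ H) : Set G) := by
        rw [Sylow.normalizer_sup_eq_top Q]; trivial
      rw [Subgroup.mul_normal] at hg
      obtain ⟨w, hw, h, hh, rfl⟩ := Set.mem_mul.mp hg
      refine ⟨⟨w, hw⟩, ?_⟩
      show (w : G ⧸ H) = ((w * h : G) : G ⧸ H)
      rw [QuotientGroup.eq]
      simpa using hh
    have htop : ((P.mapSurjective hsurj : Sylow p (G ⧸ H)) : Subgroup (G ⧸ H)) = ⊤ :=
      ((P.mapSurjective hsurj).is_maximal' (hindexp.of_equiv Subgroup.topEquiv.symm) le_top).symm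
    rw [Sylow.coe_mapSurjective] at htop
    obtain ⟨y, hy, hyg⟩ := (htop ▸ Subgroup.mem_top _ :
      (g : G ⧸ H) ∈ (P : Subgroup W).map ((QuotientGroup.mk' H).comp W.subtype))
    exact ⟨y, ⟨y, hy, rfl⟩, QuotientGroup.eq.mp hyg⟩
  -- the action on the Sylow subgroup
  let _ : MulDistribMulAction P1 Q' := FrobeniusFPF.conjAction P1 Q' hP1W
  let φ : P1 →* MulAut Q' := MulDistribMulAction.toMulAut P1 Q'
  have hfpf : ∀ y : P1, (y : G) ∉ H → ∀ v : Q', φ y v = v → v = 1 := by
    intro y hy v hv
    have hv' : (y : G) * v * (y : G)⁻¹ = v := congrArg Subtype.val hv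
    have hc : Commute (y : G) v := mul_inv_eq_iff_eq_mul.mp hv'
    have hvH : (v : G) ∈ H := Subgroup.map_subtype_le _ v.2
    have h1 := hout ((y : G) * v) fun h => hy (by
      have := H.mul_mem h (H.inv_mem hvH)
      simpa using this)
    rw [hc.mul_pow, hout _ hy, one_mul] at h1
    apply Subtype.ext
    refine orderOf_eq_one_iff.mp (Nat.Coprime.eq_one_of_dvd ?_ (orderOf_dvd_of_pow_eq_one h1))
    obtain ⟨a, ha⟩ := IsPGroup.iff_orderOf.mp (Q.isPGroup'.map H.subtype) v
    rw [Subgroup.orderOf_coe, ha]
    exact Nat.Coprime.pow_left a ((Nat.coprime_primes hq hp).mpr hqp)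
  have hker : ∀ y : P1, φ y = 1 → (y : G) ∈ H := by
    intro y hy
    by_contra hyH
    obtain ⟨v, hv⟩ := exists_ne (1 : Q')
    exact hv (hfpf y hyH v (by rw [hy]; rfl))
  set Hb := (H.subgroupOf P1).map φ with hHb
  have hHbmem : ∀ y : P1, φ y ∈ Hb → (y : G) ∈ H := by
    rintro y ⟨w, hw, hwy⟩
    have h1 := hker (w⁻¹ * y) (by rw [map_mul, map_inv, hwy, inv_mul_cancel])
    have := H.mul_mem (show (w : G) ∈ H from hw) h1
    simpa using this
  have hAp : IsPGroup p φ.range := hP1p.of_surjective φ.rangeRestrict φ.rangeRestrict_surjective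
  have hAexp : ∀ a ∈ φ.range, a ∉ Hb → a ^ p = 1 := by
    rintro _ ⟨y, rfl⟩ hy
    rw [← map_pow]
    have : y ^ p = 1 := Subtype.ext (by
      push_cast
      exact hout _ fun h => hy ⟨y, h, rfl⟩)
    rw [this, map_one]
  have hcopQ : ¬ p ∣ Nat.card Q' := by
    intro h
    obtain ⟨b, hb⟩ := IsPGroup.iff_card.mp (Q.isPGroup'.map H.subtype)
    rw [hb] at h
    exact hqp ((Nat.prime_dvd_prime_iff_eq hp hq).mp (hp.dvd_of_dvd_pow h)).symm
  by_contra hidx
  -- choose a central element of order p
  obtain ⟨z, hzA, hzord, hzcom, hzH⟩ : ∃ z ∈ φ.range, orderOf z = p ∧ (∀ a ∈ φ.range, Commute z a) ∧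
      (z ∈ Hb ∨ Hb = ⊥) := by
    by_cases hb : Hb = ⊥
    · have hnt : Nontrivial φ.range := by
        rw [Subgroup.nontrivial_iff_ne_bot]
        intro h
        obtain ⟨g, -, hg⟩ := SetLike.exists_of_lt (lt_top_iff_ne_top.mpr hH)
        obtain ⟨y, hy, hyg⟩ := hcover g
        have hy0 : φ ⟨y, hy⟩ ∈ φ.range := ⟨_, rfl⟩
        rw [h, Subgroup.mem_bot] at hy0
        have := H.mul_mem (hker _ hy0) hyg
        simp at this
        exact hg this
      obtain ⟨z, hz⟩ := PGroupsBasic.exists_orderOf_eq_of_ne_bot (p := p) (H := Subgroup.center φ.range)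
        (hAp.to_subgroup _) ((Subgroup.nontrivial_iff_ne_bot _).mp hAp.center_nontrivial)
      exact ⟨z, z.2, by rw [Subgroup.orderOf_coe]; exact hz.2,
        fun a ha => congrArg Subtype.val (Subgroup.mem_center_iff.mp hz.1 ⟨a, ha⟩).symm, Or.inr hb⟩
    · have hHbA : Hb ≤ φ.range := by rintro _ ⟨w, -, rfl⟩; exact ⟨w, rfl⟩
      have hn0 : (Hb.subgroupOf φ.range).Normal := by
        have : (H.subgroupOf P1).Normal := inferInstance
        have h2 : ((H.subgroupOf P1).map φ.rangeRestrict).Normal := this.map _ φ.rangeRestrict_surjective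
        convert h2 using 1
        ext a
        simp [hHb, Subgroup.mem_subgroupOf, Subtype.ext_iff]
      obtain ⟨z, hz⟩ := PGroupsBasic.exists_orderOf_eq_of_ne_bot (p := p)
        (H := Hb.subgroupOf φ.range ⊓ Subgroup.center φ.range) (hAp.to_subgroup _)
        (PGroupsBasic.inf_center_ne_bot hAp (fun h => hb (by
          rw [← inf_eq_left.mpr hHbA, ← Subgroup.subgroupOf_map_subtype, h, Subgroup.map_bot])))
      exact ⟨z, z.2, by rw [Subgroup.orderOf_coe]; exact hz.2,
        fun a ha => congrArg Subtype.val (Subgroup.mem_center_iff.mp hz.1.2 ⟨a, ha⟩).symm, Or.inl hz.1.1⟩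
  obtain ⟨x, hxA, hxH, hxz⟩ : ∃ x ∈ φ.range, x ∉ Hb ∧ x ∉ Subgroup.zpowers z := by
    rcases hzH with hz | hb
    · obtain ⟨g, -, hg⟩ := SetLike.exists_of_lt (lt_top_iff_ne_top.mpr hH)
      obtain ⟨y, hy, hyg⟩ := hcover g
      have hyH : y ∉ H := fun h => hg (by simpa using H.mul_mem h hyg)
      have hx : φ ⟨y, hy⟩ ∉ Hb := fun h => hyH (hHbmem _ h)
      exact ⟨_, ⟨_, rfl⟩, hx, fun h => hx ((Subgroup.zpowers_le.mpr hz) h)⟩
    · by_contra hcon
      push Not at hcon
      obtain ⟨z0, hz0⟩ := hzA
      have hall : ∀ g : G, (g : G ⧸ H) ∈ Subgroup.zpowers ((z0 : G) : G ⧸ H) := by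
        intro g
        obtain ⟨y, hy, hyg⟩ := hcover g
        by_cases hyH : y ∈ H
        · have : g ∈ H := by simpa using H.mul_mem hyH hyg
          rw [(QuotientGroup.eq_one_iff g).mpr this]
          exact one_mem _
        · obtain ⟨i, hi⟩ := Subgroup.mem_zpowers_iff.mp (hcon _ ⟨⟨y, hy⟩, rfl⟩ fun h => hyH (hHbmem _ h))
          have h1 := hker ((z0 ^ i)⁻¹ * ⟨y, hy⟩) (by rw [map_mul, map_inv, map_zpow, hz0, hi, inv_mul_cancel])
          refine Subgroup.mem_zpowers_iff.mpr ⟨i, ?_⟩
          rw [← QuotientGroup.mk_zpow, QuotientGroup.eq]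
          have h2 := H.mul_mem h1 hyg
          push_cast at h2
          simpa [mul_assoc] using h2
      have hle : Nat.card (G ⧸ H) ∣ p := by
        have htop : Subgroup.zpowers ((z0 : G) : G ⧸ H) = ⊤ := by
          rw [Subgroup.eq_top_iff']; intro y; obtain ⟨g, rfl⟩ := QuotientGroup.mk_surjective y; exact hall g
        rw [← Subgroup.card_top, ← htop, Nat.card_zpowers]
        by_cases h0 : (z0 : G) ∈ H
        · rw [(QuotientGroup.eq_one_iff _).mpr h0, orderOf_one]; exact one_dvd p
        · exact orderOf_dvd_of_pow_eq_one (by rw [← QuotientGroup.mk_pow, hout _ h0]; rfl)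
      rw [← Subgroup.index_eq_card] at hle
      rcases (Nat.dvd_prime hp).mp hle with h | h
      · exact hH (Subgroup.index_eq_one.mp h)
      · exact hidx h
  have hz1 : z ≠ 1 := fun e => hp.one_lt.ne (by rw [← hzord, e, orderOf_one])
  have hzx := hzcom x hxA
  have hfix : ∀ a ∈ φ.range, a ∉ Hb → ∀ v : Q', a v = v → v = 1 := by
    rintro _ ⟨y, rfl⟩ hy v hv
    exact hfpf y (fun h => hy ⟨y, h, rfl⟩) v hv
  have hEexp : ∀ a ∈ Subgroup.closure ({z, x} : Set (MulAut Q')), a ^ p = 1 := by
    intro a ha
    have hxp := hAexp x hxA hxH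
    have hzp : z ^ p = 1 := hzord ▸ pow_orderOf_eq_one z
    have hc : IsMulCommutative (Subgroup.closure ({z, x} : Set (MulAut Q'))) := Subgroup.isMulCommutative_closure <| by
      rintro u (rfl | rfl) v (rfl | rfl) <;> first | rfl | exact hzx | exact hzx.symm
    induction ha using Subgroup.closure_induction with
    | mem y hy => rcases hy with rfl | rfl <;> assumption
    | one => exact one_pow p
    | mul u w hu hw hup hwp =>
      have : Commute u w := congrArg Subtype.val (hc.is_comm.comm ⟨u, hu⟩ ⟨w, hw⟩)
      rw [this.mul_pow, hup, hwp, one_mul]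
    | inv u _ hup => rw [inv_pow, hup, inv_one]
  have hEA : Subgroup.closure ({z, x} : Set (MulAut Q')) ≤ φ.range := by
    rw [Subgroup.closure_le]
    rintro _ (rfl | rfl)
    · exact hzA
    · exact hxA
  rcases hzH with hz | hb
  · let S : Subgroup Q' :=
      { carrier := {v | z v = v}
        one_mem' := map_one z
        mul_mem' := fun {a b} (ha : z a = a) (hb : z b = b) => show z (a * b) = a * b by rw [map_mul, ha, hb]
        inv_mem' := fun {a} (ha : z a = a) => show z a⁻¹ = a⁻¹ by rw [map_inv, ha] }
    have hS : S = ⊤ := exists_ne_fixed (G := G) _ (hAp.to_le hEA) hEexp z x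
      (Subgroup.subset_closure (Or.inl rfl)) (Subgroup.subset_closure (Or.inr rfl)) hzx hxz hz1 hcopQ S (by
      intro i j hne v hv
      by_cases hj : z ^ i * x ^ j ∈ Hb
      · have hjp : p ∣ j := by
          by_contra hpj
          apply hxH
          have h2 : x ^ j ∈ Hb := by
            have := Hb.mul_mem (Hb.inv_mem (Hb.pow_mem hz i)) hj
            simpa using this
          obtain ⟨m, hm⟩ := exists_pow_eq_self_of_coprime (x := x) (n := j)
            (Nat.Coprime.coprime_dvd_right (orderOf_dvd_of_pow_eq_one (hAexp x hxA hxH))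
              (hp.coprime_iff_not_dvd.mpr hpj).symm)
          rw [← hm]; exact Hb.pow_mem h2 m
        obtain ⟨j', rfl⟩ := hjp
        rw [pow_mul, hAexp x hxA hxH, one_pow, mul_one] at hv hne
        have hpi : ¬ p ∣ i := fun ⟨i', hi'⟩ => hne (by
          rw [hi', pow_mul, (hzord ▸ pow_orderOf_eq_one z : z ^ p = 1), one_pow])
        obtain ⟨m, hm⟩ := exists_pow_eq_self_of_coprime (x := z) (n := i)
          (by rw [hzord]; exact (hp.coprime_iff_not_dvd.mpr hpi).symm)
        show z v = v
        have hpow : ∀ m : ℕ, ((z ^ i) ^ m) v = v := by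
          intro m
          induction m with
          | zero => rw [pow_zero]; rfl
          | succ m ihm => rw [pow_succ, MulAut.mul_apply, hv, ihm]
        rw [← hm]; exact hpow m
      · have := hfix _ (φ.range.mul_mem (φ.range.pow_mem hzA i) (φ.range.pow_mem hxA j)) hj v hv
        rw [this]; exact map_one z)
    refine hz1 (MulEquiv.ext fun v => ?_)
    exact (hS ▸ Subgroup.mem_top v : v ∈ S)
  · have hS : (⊥ : Subgroup Q') = ⊤ := exists_ne_fixed (G := G) _ (hAp.to_le hEA) hEexp z x
      (Subgroup.subset_closure (Or.inl rfl)) (Subgroup.subset_closure (Or.inr rfl)) hzx hxz hz1 hcopQ ⊥ (by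
      intro i j hne v hv
      rw [Subgroup.mem_bot]
      refine hfix _ (φ.range.mul_mem (φ.range.pow_mem hzA i) (φ.range.pow_mem hxA j)) ?_ v hv
      rw [hb, Subgroup.mem_bot]; exact hne)
    obtain ⟨v, hv⟩ := exists_ne (1 : Q')
    exact hv (Subgroup.mem_bot.mp (hS.symm ▸ Subgroup.mem_top v))

end Cfsg.Agent.S4249
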