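import Cfsg.Statements.S4250
import Mathlib
import Cfsg.Agent.Lib.AlperinTame

set_option autoImplicit false
open Cfsg

namespace Cfsg.Agent.S4250

open scoped commutatorElement
open Cfsg.Agent.AlperinTame

theorem chain_mem {G : Type*} [Group G] {p : ℕ} {P : Sylow p G} {R : Subgroup G}
    (hR : ∀ (Q : Sylow p G) (x : G), IsStep P Q x → ∀ a ∈ (P : Subgroup G) ⊓ (Q : Subgroup G),
      a⁻¹ * (x⁻¹ * a * x) ∈ R)
    {A : Subgroup G} {g : G} (h : Chain P A g) : ∀ a ∈ A, a⁻¹ * (g⁻¹ * a * g) ∈ R := by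
  induction h with
  | refl A => intro a _; simpa using R.one_mem
  | cons A Q x g hs hA _ ih =>
    intro a ha
    have h1 := hR Q x hs a (hA ha)
    have h2 := ih _ (conj_mem_cmap ha)
    have e : a⁻¹ * ((x * g)⁻¹ * a * (x * g)) =
        (a⁻¹ * (x⁻¹ * a * x)) * ((x⁻¹ * a * x)⁻¹ * (g⁻¹ * (x⁻¹ * a * x) * g)) := by group
    rw [e]
    exact R.mul_mem h1 h2
/-- Let P be a Sylow p-subgroup of a finite group G. Call an intersection H = P ∩ Q with a Sylow p-subgroup Q tame when N_P(H) and N_Q(H) are Sylow p-subgroups of N_G(H). Then P ∩ G′ is generated by [P, N_G(P)] together with the commutator subgroups [P ∩ Q, ⟨x⟩] for all tame intersections P ∩ Q and all p-elements x of N_G(P ∩ Q). -/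
theorem result {G : Type*} [Group G] [Finite G] (p : ℕ) [Fact p.Prime] (P : Sylow p G) :
    (P : Subgroup G) ⊓ commutator G =
      ⁅(P : Subgroup G), Subgroup.normalizer ((P : Subgroup G) : Set G)⁆ ⊔
        ⨆ (Q : Sylow p G) (_ : (¬ p ∣ ((P : Subgroup G) ⊓ Subgroup.normalizer (((P : Subgroup G) ⊓ (Q : Subgroup G) : Subgroup G) : Set G)).relIndex (Subgroup.normalizer (((P : Subgroup G) ⊓ (Q : Subgroup G) : Subgroup G) : Set G)) ∧ ¬ p ∣ ((Q : Subgroup G) ⊓ Subgroup.normalizer (((P : Subgroup G) ⊓ (Q : Subgroup G) : Subgroup G) : Set G)).relIndex (Subgroup.normalizer (((P : Subgroup G) ⊓ (Q : Subgroup G) : Subgroup G) : Set G))))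
          (x : G) (_ : x ∈ Subgroup.normalizer (((P : Subgroup G) ⊓ (Q : Subgroup G) : Subgroup G) : Set G) ∧ ∃ k : ℕ, orderOf x = p ^ k),
          ⁅(P : Subgroup G) ⊓ (Q : Subgroup G), Subgroup.zpowers x⁆ := by
  set N := Subgroup.normalizer ((P : Subgroup G) : Set G) with hN
  refine le_antisymm ?_ (sup_le (le_inf ?_ ?_) (iSup_le fun Q => iSup_le fun _ => iSup_le fun x =>
    iSup_le fun hx => le_inf ?_ ?_))
  · rw [inf_comm, Subgroup.commutator_inf_eq_focalSubgroup P, Subgroup.focalSubgroup_def, Subgroup.closure_le]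
    rintro g ⟨hg, x, hx, u, rfl⟩
    have hmem : u * x⁻¹ * u⁻¹ ∈ (P : Subgroup G) := by
      have h1 := Subgroup.mul_mem _ (Subgroup.inv_mem _ hx) hg
      convert h1 using 1
      rw [commutatorElement_def]; group
    have hch := alperin P (Subgroup.zpowers x⁻¹) (Subgroup.zpowers_le.mpr (Subgroup.inv_mem _ hx)) u⁻¹ (by
      rintro y hy
      rw [mem_cmap] at hy
      obtain ⟨n, hn⟩ := hy
      have : y = (u * x⁻¹ * u⁻¹) ^ n := by
        rw [conj_zpow]
        simp only at hn
        rw [hn]; group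
      rw [this]
      exact Subgroup.zpow_mem _ hmem n)
    rw [SetLike.mem_coe]
    convert chain_mem ?_ hch x⁻¹ (Subgroup.mem_zpowers _) using 1
    · rw [commutatorElement_def]; group
    · intro Q y hs a ha
      obtain ⟨hT, hyN, hQ⟩ := hs
      have e : a⁻¹ * (y⁻¹ * a * y) = ⁅a⁻¹, y⁻¹⁆ := by rw [commutatorElement_def]; group
      rw [e]
      rcases hQ with hQ | hQ
      · refine Subgroup.mem_sup_left (Subgroup.commutator_mem_commutator (Subgroup.inv_mem _ ha.1) ?_)
        rw [hQ, inf_idem] at hyN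
        exact Subgroup.inv_mem _ hyN
      · refine Subgroup.mem_sup_right ?_
        refine Subgroup.mem_iSup_of_mem Q (Subgroup.mem_iSup_of_mem hT (Subgroup.mem_iSup_of_mem y (Subgroup.mem_iSup_of_mem ⟨hyN, hQ⟩ ?_)))
        exact Subgroup.commutator_mem_commutator (Subgroup.inv_mem _ ha) (Subgroup.inv_mem _ (Subgroup.mem_zpowers y))
  · rw [Subgroup.commutator_le]
    intro a ha n hn
    have := (Subgroup.mem_normalizer_iff.mp hn a⁻¹).mp (Subgroup.inv_mem _ ha)
    have h2 := Subgroup.mul_mem _ ha this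
    rw [commutatorElement_def]
    convert h2 using 1
    group
  · exact Subgroup.commutator_mono le_top le_top
  · refine le_trans ?_ (inf_le_left (b := (Q : Subgroup G)))
    rw [Subgroup.commutator_le]
    intro a ha n hn
    have hn' : n ∈ Subgroup.normalizer (((P : Subgroup G) ⊓ (Q : Subgroup G) : Subgroup G) : Set G) :=
      (Subgroup.zpowers_le.mpr hx.1) hn
    have := (Subgroup.mem_normalizer_iff.mp hn' a⁻¹).mp (Subgroup.inv_mem _ ha)
    have h2 := Subgroup.mul_mem _ ha this
    rw [commutatorElement_def]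
    convert h2 using 1
    group
  · exact Subgroup.commutator_mono le_top le_top

end Cfsg.Agent.S4250
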