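import Cfsg.Statements.S4251
import Cfsg.Agent.Lib.TransferAlperin

set_option autoImplicit false
open Cfsg

namespace Cfsg.Agent.S4251

/-- Let P be a Sylow p-subgroup of a finite group G. Call an intersection H = P ∩ Q with a Sylow p-subgroup Q tame when N_P(H) and N_Q(H) are Sylow p-subgroups of N_G(H). If N_G(H)/C_G(H) is a p-group for every nontrivial tame intersection H = P ∩ Q, then G has a normal p-complement. -/
theorem result {G : Type*} [Group G] [Finite G] (p : ℕ) [Fact p.Prime] (P : Sylow p G)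
    (h : ∀ Q : Sylow p G, (P : Subgroup G) ⊓ (Q : Subgroup G) ≠ ⊥ → (¬ p ∣ ((P : Subgroup G) ⊓ Subgroup.normalizer (((P : Subgroup G) ⊓ (Q : Subgroup G) : Subgroup G) : Set G)).relIndex (Subgroup.normalizer (((P : Subgroup G) ⊓ (Q : Subgroup G) : Subgroup G) : Set G)) ∧ ¬ p ∣ ((Q : Subgroup G) ⊓ Subgroup.normalizer (((P : Subgroup G) ⊓ (Q : Subgroup G) : Subgroup G) : Set G)).relIndex (Subgroup.normalizer (((P : Subgroup G) ⊓ (Q : Subgroup G) : Subgroup G) : Set G))) →
      IsPGroup p (Subgroup.normalizer (((P : Subgroup G) ⊓ (Q : Subgroup G) : Subgroup G) : Set G) ⧸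
        (Subgroup.centralizer (((P : Subgroup G) ⊓ (Q : Subgroup G) : Subgroup G) : Set G)).subgroupOf
          (Subgroup.normalizer (((P : Subgroup G) ⊓ (Q : Subgroup G) : Subgroup G) : Set G)))) :
    Cfsg.HasNormalPComplement p G := by
  refine Cfsg.Agent.TransferAlperin.hasNormalPComplement_of_tame P fun T hT hfn _ _ htame g hg hcop => ?_
  obtain ⟨c, hc, hT'⟩ := htame
  rcases eq_or_ne T ⊥ with rfl | hne
  · rw [Subgroup.mem_centralizer_iff]
    intro t ht
    rw [Subgroup.mem_bot.mp ht, one_mul, mul_one]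
  obtain ⟨Q, hQ⟩ : ∃ Q : Sylow p G, (Q : Subgroup G) = TransferAlperin.cj c (P : Subgroup G) :=
    ⟨c • P, rfl⟩
  have hPQ : (P : Subgroup G) ⊓ (Q : Subgroup G) = T := by rw [hQ]; exact hT'
  have h1 := TransferAlperin.not_dvd_relIndex_of_isFullyNormalized P hfn
  have hcN : TransferAlperin.cj c (Subgroup.normalizer (T : Set G)) =
      Subgroup.normalizer (T : Set G) := by
    rw [TransferAlperin.cj_normalizer, TransferAlperin.cj_eq_self hc]
  have h2 : ¬ p ∣ ((Q : Subgroup G) ⊓ Subgroup.normalizer (T : Set G)).relIndex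
      (Subgroup.normalizer (T : Set G)) := by
    rw [hQ, ← hcN]
    simp only [TransferAlperin.cj]
    rw [← Subgroup.map_inf _ _ _ (MulAut.conj c).injective,
      Subgroup.relIndex_map_map_of_injective _ _ (MulAut.conj c).injective]
    exact h1
  have hq := h Q (by rw [hPQ]; exact hne) (by rw [hPQ]; exact ⟨h1, h2⟩)
  rw [hPQ] at hq
  have hle := TransferPResidual.pResidual_le_of_isPGroup_quotient hq
  have := hle (TransferPResidual.mem_pResidual_of_coprime (g := (⟨g, hg⟩ : Subgroup.normalizer (T : Set G))) (by rwa [Subgroup.orderOf_mk]))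
  exact Subgroup.mem_subgroupOf.mp this

end Cfsg.Agent.S4251
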