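import Cfsg.Statements.S4255
import Mathlib
import Cfsg.Agent.Lib.ClassSizeGraph76
import Cfsg.Agent.Lib.FrobeniusBasic

set_option autoImplicit false
open Cfsg

namespace Cfsg.Agent.S4255

open Cfsg.Agent.ClassSizeGraph76

variable {G : Type*} [Group G] [Finite G]

/-- The structure of `G`: `M` is the abelian normal subgroup, `x` generates the complement part. -/
theorem core (S : Set ℕ)
    (hcl : ∀ g : G, (∀ p : ℕ, p.Prime → p ∣ cs g → p ∈ S) ∨ (∀ p : ℕ, p.Prime → p ∣ cs g → p ∉ S))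
    (hT : ∃ b : G, ∃ t : ℕ, t.Prime ∧ t ∉ S ∧ t ∣ cs b)
    (a : G) (ha : ∀ p : ℕ, p.Prime → p ∣ cs a → p ∈ S) (hmax : ∀ b : G, cs b ≤ cs a) :
    ∃ H : Subgroup (G ⧸ Subgroup.center G), Cfsg.IsFrobeniusComplement H ∧ IsMulCommutative H ∧
      ∀ x ∈ Cfsg.frobeniusKernel H, ∀ y ∈ Cfsg.frobeniusKernel H, x * y = y * x := by
  let Y : Set G := {g | ∀ p : ℕ, p.Prime → p ∣ cs g → p ∉ S}
  have hYconj : ∀ y ∈ Y, ∀ g : G, g * y * g⁻¹ ∈ Y := fun y hy g p hp hd => by
    rw [cs_conj] at hd; exact hy p hp hd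
  have hcop : ∀ x : G, (∀ p : ℕ, p.Prime → p ∣ cs x → p ∈ S) → ∀ b ∈ Y, (cs x).Coprime (cs b) := by
    intro x hx b hb
    by_contra hne
    obtain ⟨r, hr, h1, h2⟩ := Nat.Prime.not_coprime_iff_dvd.mp hne
    exact hb r hr h2 (hx r hr h1)
  have hY : ∀ b ∈ Y, (cs a).Coprime (cs b) ∧ cs (a * b) ≤ cs a :=
    fun b hb => ⟨hcop a ha b hb, hmax _⟩
  set M := Subgroup.closure Y with hM
  set L := ⁅M, (⊤ : Subgroup G)⁆ with hL
  have hMn : M.Normal := closure_normal hYconj
  have hLn : L.Normal := Subgroup.commutator_normal _ _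
  have hX : ∀ g ∉ M, ∀ p : ℕ, p.Prime → p ∣ cs g → p ∈ S := fun g hg =>
    (hcl g).resolve_right fun h => hg (Subgroup.subset_closure h)
  have hout : ∀ t : ℕ, t ∉ S → t.Prime → ∀ g ∉ M, ¬ t ∣ cs g :=
    fun t ht htp g hg hd => ht (hX g hg t htp hd)
  have hcomm : ∀ m ∈ M, ∀ m' ∈ M, m * m' = m' * m := fun m hm m' hm' =>
    Subgroup.mem_centralizer_iff.mp (closure_comm hYconj hY hm') m hm
  have hLcard : Nat.card L ∣ cs a := card_commutator_dvd hY
  -- absorption outside `M`
  have hK : ∀ g ∉ M, L ≤ clsStab g := by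
    intro g hg
    refine commutator_le_of_closure fun b hb k => absorb (hcop g (hX g hg) b hb) ?_ k
    have hgb : g * b ∉ M := fun h => hg ((Subgroup.mul_mem_cancel_right M (Subgroup.subset_closure hb)).mp h)
    exact Nat.le_of_dvd (cs_pos g) ((hcop (g * b) (hX _ hgb) b hb).dvd_of_dvd_mul_right
      (cs_mul_dvd (hcop g (hX g hg) b hb)))
  obtain ⟨b, t, ht, htS, htb⟩ := hT
  have : Fact t.Prime := ⟨ht⟩
  have hbY : b ∈ Y := (hcl b).resolve_left fun h => htS (h t ht htb)
  have hbM : b ∈ M := Subgroup.subset_closure hbY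
  have hself : Subgroup.centralizer (M : Set G) ≤ M := centralizer_le_self (hout t htS ht) hbM htb
  have hcenM : Subgroup.center G ≤ M := le_trans (Subgroup.center_le_centralizer _) hself
  -- an element of `t`-power order outside `M`
  obtain ⟨Q⟩ : Nonempty (Sylow t G) := inferInstance
  obtain ⟨x, hxQ, hxM⟩ : ∃ x ∈ (Q : Subgroup G), x ∉ M := by
    by_contra hcon
    push Not at hcon
    refine not_dvd_index_of_sylow_le Q (H := Subgroup.centralizer ({b} : Set G)) ?_ htb
    intro x hx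
    exact mem_cent.mpr (hcomm x (hcon x hx) b hbM)
  -- `T`-elements outside `M` act fixed point freely on `L`
  have hfix : ∀ (r : ℕ), r ∉ S → r.Prime → ∀ [Fact r.Prime], ∀ y : G, y ∉ M → ∀ k : ℕ,
      y ^ r ^ k = 1 → ∀ l ∈ L, l * y = y * l → l = 1 := by
    intro r hr hrp _ y hy k hk l hl hly
    obtain ⟨g, hg⟩ := mem_clsStab.mp (hK y hy hl) y (self_mem_cls y)
    have h1 : (y * l) ^ r ^ k = 1 := by
      rw [← hg]
      show (g * y * g⁻¹) ^ r ^ k = 1
      rw [conj_pow, hk]
      group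
    rw [(Commute.symm hly : Commute y l).mul_pow, hk, one_mul] at h1
    have h2 : l ^ cs a = 1 :=
      orderOf_dvd_iff_pow_eq_one.mp ((Subgroup.orderOf_dvd_natCard _ hl).trans hLcard)
    have h3 : (r ^ k).Coprime (cs a) :=
      Nat.Coprime.pow_left _ (hrp.coprime_iff_not_dvd.mpr fun hd => hr (ha r hrp hd))
    have := pow_gcd_eq_one.mpr ⟨h1, h2⟩
    rwa [h3, pow_one] at this
  -- their centralisers in `M` are central
  have hD : ∀ (r : ℕ), r ∉ S → r.Prime → ∀ [Fact r.Prime], ∀ y : G, y ∉ M → ∀ k : ℕ,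
      y ^ r ^ k = 1 → ∀ d ∈ M, d * y = y * d → d ∈ Subgroup.center G := by
    intro r hr hrp _ y hy k hk d hd hdy
    have hpg : IsPGroup r (Subgroup.zpowers y) := by
      rintro ⟨z, n, rfl⟩
      refine ⟨k, Subtype.ext ?_⟩
      show (y ^ n) ^ r ^ k = 1
      rw [← zpow_natCast, ← zpow_mul, mul_comm, zpow_mul, zpow_natCast, hk, one_zpow]
    obtain ⟨R, hR⟩ := hpg.exists_le_sylow
    rw [Subgroup.mem_center_iff]
    intro g
    obtain ⟨m, hm, c, hc, rfl⟩ := exists_decomp (hout r hr hrp) R g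
    have hcy : Commute c y :=
      (Subgroup.mem_centralizer_iff.mp hc y (hR (Subgroup.mem_zpowers y))).symm
    have hdy' : Commute d y := hdy
    have h1 : c * d * c⁻¹ * d⁻¹ = 1 := by
      refine hfix r hr hrp y hy k hk _ (comm_mem M hd c) ?_
      exact (((hcy.mul_left hdy').mul_left hcy.inv_left).mul_left hdy'.inv_left).eq
    rw [mul_inv_eq_one, mul_inv_eq_iff_eq_mul] at h1
    rw [mul_assoc, h1, ← mul_assoc, hcomm m hm d hd, mul_assoc]
  -- `S`-elements lie in `M`
  have hSM : ∀ (s : ℕ), s ∈ S → s.Prime → ∀ [Fact s.Prime], ∀ (P : Sylow s G), (P : Subgroup G) ≤ M := by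
    intro s hs hsp _ P g hg
    refine hself ?_
    rw [hM, Subgroup.centralizer_closure, Subgroup.mem_centralizer_iff]
    intro y hy
    suffices g ∈ Subgroup.centralizer ({y} : Set G) from (mem_cent.mp this).symm
    set C := Subgroup.centralizer ({y} : Set G) with hC
    have hMC : M ≤ C := fun m hm => mem_cent.mpr (hcomm m hm y (Subgroup.subset_closure hy))
    have hnorm : Subgroup.normalizer (C : Set G) = ⊤ := by
      refine eq_top_of_sylow_le _ fun r hrp _ => ?_
      by_cases hr : r ∈ S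
      · obtain ⟨R, hR⟩ := exists_sylow_le (p := r) (H := C) fun hd => hy r hrp hd hr
        exact ⟨R, hR.trans Subgroup.le_normalizer⟩
      · obtain ⟨R⟩ : Nonempty (Sylow r G) := inferInstance
        refine ⟨R, fun z hz => ?_⟩
        rw [Subgroup.mem_normalizer_iff]
        intro c
        have key : ∀ z ∈ (R : Subgroup G), ∀ c ∈ C, z * c * z⁻¹ ∈ C := by
          intro z hz c hc
          have h1 := C.inv_mem (hMC (comm_mem_of_mem_sylow (hout r hr hrp) R hz c))
          have h2 := C.mul_mem h1 hc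
          have : (c * z * c⁻¹ * z⁻¹)⁻¹ * c = z * c * z⁻¹ := by group
          rwa [this] at h2
        refine ⟨key z hz c, fun h => ?_⟩
        have := key z⁻¹ (Subgroup.inv_mem _ hz) _ h
        simpa [mul_assoc] using this
    have : C.Normal := Subgroup.normalizer_eq_top_iff.mp hnorm
    obtain ⟨R, hR⟩ := exists_sylow_le (p := s) (H := C) fun hd => hy s hsp hd hs
    obtain ⟨k, rfl⟩ := MulAction.exists_smul_eq G R P
    rw [Sylow.coe_subgroup_smul] at hg
    obtain ⟨z, hz, rfl⟩ := hg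
    exact Subgroup.Normal.conj_mem ‹_› z (hR hz) k
  -- the quotient by `M` is abelian
  have hab : ∀ g k : G, g * k * g⁻¹ * k⁻¹ ∈ M := by
    let N : Subgroup G := (Subgroup.center (G ⧸ M)).comap (QuotientGroup.mk' M)
    have hN : ∀ k, k ∈ N ↔ ∀ g : G, g * k * g⁻¹ * k⁻¹ ∈ M := by
      intro k
      rw [Subgroup.mem_comap, Subgroup.mem_center_iff]
      constructor
      · intro h g
        rw [← QuotientGroup.eq_one_iff, QuotientGroup.mk_mul, QuotientGroup.mk_mul,
          QuotientGroup.mk_mul, QuotientGroup.mk_inv, QuotientGroup.mk_inv, mul_inv_eq_one,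
          mul_inv_eq_iff_eq_mul]
        exact h g
      · intro h q
        induction q using QuotientGroup.induction_on with
        | H g =>
          have h1 := (QuotientGroup.eq_one_iff _).mpr (h g)
          rw [QuotientGroup.mk_mul, QuotientGroup.mk_mul, QuotientGroup.mk_mul, QuotientGroup.mk_inv,
            QuotientGroup.mk_inv, mul_inv_eq_one, mul_inv_eq_iff_eq_mul] at h1
          exact h1
    have hNtop : N = ⊤ := by
      refine eq_top_of_sylow_le N fun r hrp _ => ?_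
      obtain ⟨R⟩ : Nonempty (Sylow r G) := inferInstance
      refine ⟨R, fun z hz => (hN z).mpr fun g => ?_⟩
      by_cases hr : r ∈ S
      · have hzM := hSM r hr hrp R hz
        exact M.mul_mem (hMn.conj_mem z hzM g) (M.inv_mem hzM)
      · exact comm_mem_of_mem_sylow (hout r hr hrp) R hz g
    exact fun g k => (hN k).mp (hNtop ▸ Subgroup.mem_top k) g
  -- fixed point freeness
  have hfpf : ∀ y ∉ M, ∀ d ∈ M, d * y = y * d → d ∈ Subgroup.center G := by
    intro y hy d hd hdy
    have hne : orderOf (y : G ⧸ M) ≠ 1 := fun h => hy ((QuotientGroup.eq_one_iff y).mp (orderOf_eq_one_iff.mp h))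
    obtain ⟨r, hrp, hr⟩ := Nat.exists_prime_and_dvd hne
    have : Fact r.Prime := ⟨hrp⟩
    obtain ⟨i, n', hn', hyi⟩ := Nat.exists_eq_pow_mul_and_not_dvd (orderOf_pos y).ne' r hrp.ne_one
    have hy' : y ^ n' ∉ M := by
      intro hmem
      refine hn' (hr.trans (orderOf_dvd_of_pow_eq_one ?_))
      rw [← QuotientGroup.mk_pow, QuotientGroup.eq_one_iff]
      exact hmem
    have hk : (y ^ n') ^ r ^ i = 1 := by rw [← pow_mul, mul_comm, ← hyi, pow_orderOf_eq_one]
    have hrS : r ∉ S := by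
      intro hrS
      have hpg : IsPGroup r (Subgroup.zpowers (y ^ n')) := by
        rintro ⟨z, n, rfl⟩
        refine ⟨i, Subtype.ext ?_⟩
        show ((y ^ n') ^ n) ^ r ^ i = 1
        rw [← zpow_natCast, ← zpow_mul, mul_comm, zpow_mul, zpow_natCast, hk, one_zpow]
      obtain ⟨R, hR⟩ := hpg.exists_le_sylow
      exact hy' (hSM r hrS hrp R (hR (Subgroup.mem_zpowers _)))
    exact hD r hrS hrp _ hy' i hk d hd (Commute.pow_right hdy n').eq
  -- `L` meets the centre trivially
  obtain ⟨kx, hkx⟩ := Q.2 ⟨x, hxQ⟩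
  have hkx' : x ^ t ^ kx = 1 := congrArg Subtype.val hkx
  have hLZ : ∀ l ∈ L, l ∈ Subgroup.center G → l = 1 := fun l hl hlz =>
    hfix t htS ht x hxM kx hkx' l hl (Subgroup.mem_center_iff.mp hlz x).symm
  set C := Subgroup.centralizer ({x} : Set G) with hC
  have hCM : ∀ c ∈ C, c ∈ M → c ∈ Subgroup.center G := fun c hc hcM => hfpf x hxM c hcM (mem_cent.mp hc)
  set π := QuotientGroup.mk' (Subgroup.center G) with hπ
  have hmem : ∀ (K : Subgroup G) (g : G), π g ∈ K.map π → g ∈ K ⊔ Subgroup.center G := by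
    intro K g hg
    obtain ⟨c, hc, hcg⟩ := hg
    obtain ⟨z, hz, rfl⟩ := (QuotientGroup.mk'_eq_mk' _).mp hcg
    exact Subgroup.mul_mem_sup hc hz
  have hcenC : Subgroup.center G ≤ C := fun z hz => mem_cent.mpr (Subgroup.mem_center_iff.mp hz x).symm
  set K := M.map π with hKdef
  set H := C.map π with hHdef
  have hKn : K.Normal := hMn.map π (QuotientGroup.mk'_surjective _)
  have hdisj : Disjoint K H := by
    rw [Subgroup.disjoint_def]
    rintro q ⟨m, hm, rfl⟩ hq
    have := hmem C m hq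
    rw [sup_eq_left.mpr hcenC] at this
    exact (QuotientGroup.eq_one_iff m).mpr (hCM m this hm)
  have hcompl : Subgroup.IsComplement' K H := by
    refine Subgroup.isComplement'_of_disjoint_and_mul_eq_univ hdisj ?_
    rw [← Subgroup.normal_mul, ← Subgroup.map_sup]
    have htop : M ⊔ C = ⊤ := by
      rw [eq_top_iff, ← sup_centralizer_eq_top (hout t htS ht) Q]
      refine sup_le_sup_left (fun c hc => mem_cent.mpr ?_) M
      exact (Subgroup.mem_centralizer_iff.mp hc x hxQ).symm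
    rw [htop, Subgroup.map_top_of_surjective _ (QuotientGroup.mk'_surjective _)]
    rfl
  have hKbot : K ≠ ⊥ := by
    intro h
    rw [Subgroup.map_eq_bot_iff, QuotientGroup.ker_mk'] at h
    refine not_dvd_index_of_sylow_le Q (H := Subgroup.centralizer ({b} : Set G)) ?_ htb
    intro z _
    exact mem_cent.mpr (Subgroup.mem_center_iff.mp (h hbM) z)
  have hHbot : H ≠ ⊥ := by
    intro h
    rw [Subgroup.map_eq_bot_iff, QuotientGroup.ker_mk'] at h
    exact hxM (hcenM (h (mem_cent.mpr rfl)))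
  have hFC : Cfsg.IsFrobeniusComplement H := by
    refine Cfsg.Agent.FrobeniusBasic.isFrobeniusComplement_of_fpf hcompl hKbot hHbot ?_
    rintro _ ⟨y, hy, rfl⟩ hy1
    rw [Subgroup.eq_bot_iff_forall]
    rintro q ⟨⟨m, hm, rfl⟩, hq⟩
    have hyM : y ∉ M := fun h => hy1 ((QuotientGroup.eq_one_iff y).mpr (hCM y hy h))
    have he := mem_cent.mp hq
    refine (QuotientGroup.eq_one_iff m).mpr (hfpf y hyM m hm ?_)
    have hz : y * m * y⁻¹ * m⁻¹ ∈ Subgroup.center G := by
      rw [← QuotientGroup.eq_one_iff]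
      show π (y * m * y⁻¹ * m⁻¹) = 1
      rw [map_mul, map_mul, map_mul, map_inv, map_inv, ← he]
      group
    have h1 := hLZ _ (comm_mem M hm y) hz
    rw [mul_inv_eq_one, mul_inv_eq_iff_eq_mul] at h1
    exact h1.symm
  refine ⟨H, hFC, IsMulCommutative.mk ⟨?_⟩, ?_⟩
  · rintro ⟨_, c, hc, rfl⟩ ⟨_, d, hd, rfl⟩
    refine Subtype.ext ?_
    show π c * π d = π d * π c
    have h1 : c * d * c⁻¹ * d⁻¹ ∈ Subgroup.center G :=
      hCM _ (C.mul_mem (C.mul_mem (C.mul_mem hc hd) (C.inv_mem hc)) (C.inv_mem hd)) (hab c d)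
    have h2 : π (c * d * c⁻¹ * d⁻¹) = 1 := (QuotientGroup.eq_one_iff _).mpr h1
    rw [map_mul, map_mul, map_mul, map_inv, map_inv, mul_inv_eq_one, mul_inv_eq_iff_eq_mul] at h2
    exact h2
  · rw [Cfsg.Agent.FrobeniusBasic.frobeniusKernel_eq hFC hcompl]
    rintro _ ⟨m, hm, rfl⟩ _ ⟨m', hm', rfl⟩
    rw [← map_mul, ← map_mul, hcomm m hm m' hm']

/-- Let G be a finite group. Call a prime a vertex if it divides some conjugacy class size of G, and two distinct vertices adjacent if their product divides some class size. Suppose this graph is disconnected: the vertices split into two nonempty parts with no vertex of one part adjacent to a vertex of the other. Then G/Z(G) is a Frobenius group with abelian Frobenius complement and with a Frobenius kernel all of whose elements commute. -/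
theorem result {G : Type*} [Group G] [Finite G] (S : Set ℕ) (hS : ∃ p ∈ S, (p.Prime ∧ ∃ g : G, p ∣ (Subgroup.centralizer ({g} : Set G)).index)) (hS' : ∃ q ∉ S, (q.Prime ∧ ∃ g : G, q ∣ (Subgroup.centralizer ({g} : Set G)).index))
    (hdisc : ∀ p q : ℕ, (p.Prime ∧ ∃ g : G, p ∣ (Subgroup.centralizer ({g} : Set G)).index) → (q.Prime ∧ ∃ g : G, q ∣ (Subgroup.centralizer ({g} : Set G)).index) → p ∈ S → q ∉ S → ¬ (∃ g : G, p * q ∣ (Subgroup.centralizer ({g} : Set G)).index)) :
    ∃ H : Subgroup (G ⧸ Subgroup.center G), Cfsg.IsFrobeniusComplement H ∧ IsMulCommutative H ∧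
      ∀ x ∈ Cfsg.frobeniusKernel H, ∀ y ∈ Cfsg.frobeniusKernel H, x * y = y * x := by
  have hcl : ∀ g : G, (∀ p : ℕ, p.Prime → p ∣ cs g → p ∈ S) ∨ (∀ p : ℕ, p.Prime → p ∣ cs g → p ∉ S) := by
    intro g
    by_contra hcon
    rw [not_or] at hcon
    obtain ⟨h1, h2⟩ := hcon
    push Not at h1 h2
    obtain ⟨q, hq, hqg, hqS⟩ := h1
    obtain ⟨p, hp, hpg, hpS⟩ := h2
    exact hdisc p q ⟨hp, g, hpg⟩ ⟨hq, g, hqg⟩ hpS hqS
      ⟨g, ((Nat.coprime_primes hp hq).mpr fun e => hqS (e ▸ hpS)).mul_dvd_of_dvd_of_dvd hpg hqg⟩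
  obtain ⟨a, -, hamax⟩ := Set.exists_max_image (Set.univ : Set G) cs (Set.toFinite _) ⟨1, trivial⟩
  rcases hcl a with ha | ha
  · obtain ⟨t, htS, ht, b, htb⟩ := hS'
    exact core S hcl ⟨b, t, ht, htS, htb⟩ a ha fun b => hamax b trivial
  · obtain ⟨p, hpS, hp, b, hpb⟩ := hS
    refine core Sᶜ (fun g => ?_) ⟨b, p, hp, fun h => h hpS, hpb⟩ a ha fun b => hamax b trivial
    rcases hcl g with h | h
    · exact Or.inr fun r hr hd hn => hn (h r hr hd)
    · exact Or.inl h

end Cfsg.Agent.S4255
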