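import Cfsg.Statements.S4257
import Mathlib
import Cfsg.Agent.Lib.ClassSizeGraph76

set_option autoImplicit false
open Cfsg

namespace Cfsg.Agent.S4257

open Cfsg.Agent.ClassSizeGraph76

variable {G : Type*} [Group G] [Finite G]

/-- Vertices. -/
abbrev V (G : Type*) [Group G] (p : ℕ) : Prop :=
  p.Prime ∧ ∃ g : G, p ∣ (Subgroup.centralizer ({g} : Set G)).index

theorem adj_of {p q : ℕ} (hp : p.Prime) (hq : q.Prime) (hne : p ≠ q) {g : G} (h1 : p ∣ cs g)
    (h2 : q ∣ cs g) : p * q ∣ cs g :=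
  ((Nat.coprime_primes hp hq).mpr hne).mul_dvd_of_dvd_of_dvd h1 h2

/-- There are no paths of length at most three from `p` to `q`. -/
structure Far (G : Type*) [Group G] (p q : ℕ) : Prop where
  hp : p.Prime
  hq : q.Prime
  ne : p ≠ q
  one : ∀ g : G, p ∣ cs g → q ∣ cs g → False
  two : ∀ (r : ℕ) (g g' : G), r.Prime → p ∣ cs g → r ∣ cs g → r ∣ cs g' → q ∣ cs g' → False
  three : ∀ (r s : ℕ) (g g' g'' : G), r.Prime → s.Prime → p ∣ cs g → r ∣ cs g → r ∣ cs g' →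
    s ∣ cs g' → s ∣ cs g'' → q ∣ cs g'' → False

omit [Finite G] in
theorem Far.symm {p q : ℕ} (h : Far G p q) : Far G q p :=
  ⟨h.hq, h.hp, h.ne.symm, fun g a b => h.one g b a, fun r g g' hr a b c d => h.two r g' g hr d c b a,
    fun r s g g' g'' hr hs a b c d e f => h.three s r g'' g' g hs hr f e d c b a⟩

theorem core {p q : ℕ} (h : Far G p q) (hp : ∃ g : G, p ∣ cs g) (hq : ∃ g : G, q ∣ cs g)
    (hconn : ∀ S : Set ℕ, (∃ r ∈ S, V G r) → (∃ r ∉ S, V G r) →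
      ∃ r s : ℕ, V G r ∧ V G s ∧ r ∈ S ∧ s ∉ S ∧ ∃ g : G, r * s ∣ cs g)
    (a : G) (ha : p ∣ cs a) (hmax : ∀ b : G, q ∣ cs b → cs b ≤ cs a) : False := by
  have : Fact q.Prime := ⟨h.hq⟩
  let Y : Set G := {g | q ∣ cs g}
  have hYconj : ∀ y ∈ Y, ∀ g : G, g * y * g⁻¹ ∈ Y := fun y hy g => by
    show q ∣ cs (g * y * g⁻¹)
    rw [cs_conj]; exact hy
  have hco : ∀ b ∈ Y, (cs a).Coprime (cs b) := by
    intro b hb
    by_contra hne
    obtain ⟨r, hr, h1, h2⟩ := Nat.Prime.not_coprime_iff_dvd.mp hne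
    exact h.two r a b hr ha h1 h2 hb
  have hY : ∀ b ∈ Y, (cs a).Coprime (cs b) ∧ cs (a * b) ≤ cs a := by
    intro b hb
    refine ⟨hco b hb, ?_⟩
    have hd := cs_mul_dvd (hco b hb)
    by_cases hA : (cs (a * b)).Coprime (cs b)
    · exact Nat.le_of_dvd (cs_pos a) (hA.dvd_of_dvd_mul_right hd)
    · by_cases hB : (cs (a * b)).Coprime (cs a)
      · exact (Nat.le_of_dvd (cs_pos b) (hB.dvd_of_dvd_mul_left hd)).trans (hmax b hb)
      · obtain ⟨s, hs, h1, h2⟩ := Nat.Prime.not_coprime_iff_dvd.mp hA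
        obtain ⟨r, hr, h3, h4⟩ := Nat.Prime.not_coprime_iff_dvd.mp hB
        exact (h.three r s a (a * b) b hr hs ha h4 h3 h1 h2 hb).elim
  obtain ⟨b₀, hb₀⟩ := hq
  set M := Subgroup.closure Y with hM
  have : M.Normal := closure_normal hYconj
  have hout : ∀ g ∉ M, ¬ q ∣ cs g := fun g hg hd => hg (Subgroup.subset_closure hd)
  have hbM : b₀ ∈ M := Subgroup.subset_closure hb₀
  have hself := centralizer_le_self hout hbM hb₀
  have hqa : q.Coprime (cs a) := (h.hq.coprime_iff_not_dvd).mpr fun hd => h.one a ha hd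
  -- the primes at distance at most one from `q`
  let B : Set ℕ := {s | s.Prime ∧ ∃ b : G, q ∣ cs b ∧ s ∣ cs b}
  -- elements outside `M` have class size prime to `B`
  have key : ∀ g ∉ M, ∀ s ∈ B, ¬ s ∣ cs g := by
    intro g hg s hs hsg
    obtain ⟨hsp, b, hqb, hsb⟩ := hs
    have hgL : ¬ ⁅M, (⊤ : Subgroup G)⁆ ≤ Subgroup.centralizer ({g} : Set G) := by
      intro hle
      refine hg (hself (centralizer_commutator_le hYconj hY ?_))
      rw [Subgroup.mem_centralizer_iff]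
      intro l hl
      exact mem_cent.mp (hle hl)
    have hncop : ¬ (Nat.card ↥(⁅M, (⊤ : Subgroup G)⁆)).Coprime (cs g) :=
      fun hc => hgL (le_of_coprime _ _ hc)
    obtain ⟨t, ht, h1, h2⟩ := Nat.Prime.not_coprime_iff_dvd.mp hncop
    exact h.three t s a g b ht hsp ha (h1.trans (card_commutator_dvd hY)) h2 hsg hsb hqb
  have hnoq : ∀ g : G, ¬ q ∣ cs g → ∀ s ∈ B, ¬ s ∣ cs g := by
    intro g hgq
    by_cases hg : g ∈ M
    swap
    · exact key g hg
    obtain ⟨P, hP⟩ := exists_sylow_le hgq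
    obtain ⟨x, hxP, hxM⟩ : ∃ x ∈ (P : Subgroup G), x ∉ M := by
      by_contra hcon
      push Not at hcon
      refine not_dvd_index_of_sylow_le P (H := Subgroup.centralizer ({b₀} : Set G)) ?_ hb₀
      intro x hx
      exact mem_cent.mpr (Subgroup.mem_centralizer_iff.mp (closure_comm hYconj hY (hcon x hx)) b₀ hbM).symm
    have hxg : Commute x g := mem_cent.mp (hP hxP)
    obtain ⟨k, hk⟩ := P.2 ⟨x, hxP⟩
    have hk' : x ^ q ^ k = 1 := congrArg Subtype.val hk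
    have hxgM : x * g ∉ M := fun hh => hxM ((Subgroup.mul_mem_cancel_right M hg).mp hh)
    intro s hs hsg
    refine key (x * g) hxgM s hs (hsg.trans ?_)
    refine Subgroup.index_dvd_of_le fun w hw => ?_
    have hwc : Commute w (x * g) := mem_cent.mp hw
    have h1 : Commute w (g ^ q ^ k) := by
      have := hwc.pow_right (q ^ k)
      rwa [hxg.mul_pow, hk', one_mul] at this
    -- split `g` into its `q`-part, which is central, and its `q'`-part
    obtain ⟨i, n', hn', hgi⟩ := Nat.exists_eq_pow_mul_and_not_dvd (orderOf_pos g).ne' q h.hq.ne_one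
    have hqn : ((q ^ k : ℕ) : ℕ).Coprime n' := Nat.Coprime.pow_left _ ((h.hq.coprime_iff_not_dvd).mpr hn')
    have hcen : g ^ n' ∈ Subgroup.center G := by
      refine mem_center_of_pow hYconj hY (M.pow_mem hg n') (n := q ^ i) ?_ (hqa.pow_left i)
      rw [← pow_mul, mul_comm, ← hgi, pow_orderOf_eq_one]
    have h2 : Commute w (g ^ n') := Subgroup.mem_center_iff.mp hcen w
    obtain ⟨u, v, huv⟩ := (Nat.isCoprime_iff_coprime.mpr hqn : IsCoprime ((q ^ k : ℕ) : ℤ) (n' : ℤ))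
    have h3 : g = (g ^ q ^ k) ^ u * (g ^ n') ^ v := by
      rw [← zpow_natCast g (q ^ k), ← zpow_natCast g n', ← zpow_mul, ← zpow_mul, ← zpow_add,
        mul_comm ((q ^ k : ℕ) : ℤ) u, mul_comm (n' : ℤ) v, huv, zpow_one]
    apply mem_cent.mpr
    rw [h3]
    exact ((h1.zpow_right u).mul_right (h2.zpow_right v)).eq
  obtain ⟨gp, hgp⟩ := hp
  obtain ⟨r, s, hr, hs, hrB, hsB, g, hg⟩ := hconn B
    ⟨q, ⟨h.hq, b₀, hb₀, hb₀⟩, h.hq, b₀, hb₀⟩
    ⟨p, fun hpB => h.one hpB.2.choose hpB.2.choose_spec.2 hpB.2.choose_spec.1, h.hp, gp, hgp⟩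
  by_cases hgq : q ∣ cs g
  · exact hsB ⟨hs.1, g, hgq, (Dvd.intro_left r rfl).trans hg⟩
  · exact hnoq g hgq r hrB ((Dvd.intro s rfl).trans hg)

theorem main {p q : ℕ} (h : Far G p q) (hp : ∃ g : G, p ∣ cs g) (hq : ∃ g : G, q ∣ cs g)
    (hconn : ∀ S : Set ℕ, (∃ r ∈ S, V G r) → (∃ r ∉ S, V G r) →
      ∃ r s : ℕ, V G r ∧ V G s ∧ r ∈ S ∧ s ∉ S ∧ ∃ g : G, r * s ∣ cs g) : False := by
  obtain ⟨a, ha, hamax⟩ := Set.exists_max_image {g : G | p ∣ cs g} cs (Set.toFinite _) hp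
  obtain ⟨b, hb, hbmax⟩ := Set.exists_max_image {g : G | q ∣ cs g} cs (Set.toFinite _) hq
  rcases le_total (cs b) (cs a) with hle | hle
  · exact core h hp hq hconn a ha fun c hc => (hbmax c hc).trans hle
  · exact core h.symm hq hp hconn b hb fun c hc => (hamax c hc).trans hle

/-- Let G be a finite group. Call a prime a vertex if it divides some conjugacy class size of G, and two distinct vertices adjacent if their product divides some class size. If this graph is connected, then its diameter is at most 3: any two distinct vertices p and q are adjacent, or joined through one or two intermediate vertices. -/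
theorem result {G : Type*} [Group G] [Finite G]
    (hconn : ∀ S : Set ℕ, (∃ p ∈ S, (p.Prime ∧ ∃ g : G, p ∣ (Subgroup.centralizer ({g} : Set G)).index)) → (∃ q ∉ S, (q.Prime ∧ ∃ g : G, q ∣ (Subgroup.centralizer ({g} : Set G)).index)) →
      ∃ p q : ℕ, (p.Prime ∧ ∃ g : G, p ∣ (Subgroup.centralizer ({g} : Set G)).index) ∧ (q.Prime ∧ ∃ g : G, q ∣ (Subgroup.centralizer ({g} : Set G)).index) ∧ p ∈ S ∧ q ∉ S ∧ (∃ g : G, p * q ∣ (Subgroup.centralizer ({g} : Set G)).index))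
    (p q : ℕ) (hp : (p.Prime ∧ ∃ g : G, p ∣ (Subgroup.centralizer ({g} : Set G)).index)) (hq : (q.Prime ∧ ∃ g : G, q ∣ (Subgroup.centralizer ({g} : Set G)).index)) (hpq : p ≠ q) :
    (∃ g : G, p * q ∣ (Subgroup.centralizer ({g} : Set G)).index) ∨ (∃ r : ℕ, (r.Prime ∧ ∃ g : G, r ∣ (Subgroup.centralizer ({g} : Set G)).index) ∧ r ≠ p ∧ r ≠ q ∧ (∃ g : G, p * r ∣ (Subgroup.centralizer ({g} : Set G)).index) ∧ (∃ g : G, r * q ∣ (Subgroup.centralizer ({g} : Set G)).index)) ∨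
      (∃ r s : ℕ, (r.Prime ∧ ∃ g : G, r ∣ (Subgroup.centralizer ({g} : Set G)).index) ∧ (s.Prime ∧ ∃ g : G, s ∣ (Subgroup.centralizer ({g} : Set G)).index) ∧ r ≠ p ∧ s ≠ q ∧ r ≠ s ∧ r ≠ q ∧ s ≠ p ∧
        (∃ g : G, p * r ∣ (Subgroup.centralizer ({g} : Set G)).index) ∧ (∃ g : G, r * s ∣ (Subgroup.centralizer ({g} : Set G)).index) ∧ (∃ g : G, s * q ∣ (Subgroup.centralizer ({g} : Set G)).index)) := by
  by_contra hcon
  obtain ⟨hno1, hno2, hno3⟩ : _ ∧ _ ∧ _ := ⟨fun x => hcon (Or.inl x), fun x => hcon (Or.inr (Or.inl x)), fun x => hcon (Or.inr (Or.inr x))⟩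
  have one : ∀ g : G, p ∣ cs g → q ∣ cs g → False := fun g h1 h2 => hno1 ⟨g, adj_of hp.1 hq.1 hpq h1 h2⟩
  have two : ∀ (r : ℕ) (g g' : G), r.Prime → p ∣ cs g → r ∣ cs g → r ∣ cs g' → q ∣ cs g' → False := by
    intro r g g' hr h1 h2 h3 h4
    by_cases hrp : r = p
    · subst hrp; exact one g' h3 h4
    by_cases hrq : r = q
    · subst hrq; exact one g h1 h2
    exact hno2 ⟨r, ⟨hr, g, h2⟩, hrp, hrq, ⟨g, adj_of hp.1 hr (Ne.symm hrp) h1 h2⟩, ⟨g', adj_of hr hq.1 hrq h3 h4⟩⟩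
  refine main (p := p) (q := q) ⟨hp.1, hq.1, hpq, one, two, ?_⟩ hp.2 hq.2 hconn
  intro r s g g' g'' hr hs h1 h2 h3 h4 h5 h6
  by_cases hrp : r = p
  · subst hrp; exact two s g' g'' hs h3 h4 h5 h6
  by_cases hrq : r = q
  · subst hrq; exact one g h1 h2
  by_cases hsq : s = q
  · subst hsq; exact two r g g' hr h1 h2 h3 h4
  by_cases hsp : s = p
  · subst hsp; exact one g'' h5 h6
  by_cases hrs : r = s
  · subst hrs; exact two r g g'' hr h1 h2 h5 h6
  exact hno3 ⟨r, s, ⟨hr, g, h2⟩, ⟨hs, g', h4⟩, hrp, hsq, hrs, hrq, hsp,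
    ⟨g, adj_of hp.1 hr (Ne.symm hrp) h1 h2⟩, ⟨g', adj_of hr hs hrs h3 h4⟩, ⟨g'', adj_of hs hq.1 hsq h5 h6⟩⟩

end Cfsg.Agent.S4257
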