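import Cfsg.Statements.S4261
import Mathlib

set_option autoImplicit false
open Cfsg

namespace Cfsg.Agent.S4261

theorem exists_abelian_normal (G : Type*) [Group G] [Nontrivial G] (hG : Group.IsSolvable G) :
    ∃ A : Subgroup G, A.Normal ∧ A ≠ ⊥ ∧ IsMulCommutative A := by
  classical
  obtain ⟨m, hm⟩ := (Group.isSolvable_def G).mp hG
  have hex : ∃ n, derivedSeries G n = ⊥ := ⟨m, hm⟩
  obtain ⟨n, hn⟩ : ∃ n, Nat.find hex = n + 1 := by
    refine Nat.exists_eq_succ_of_ne_zero ?_
    intro h
    have := Nat.find_spec hex
    rw [h, derivedSeries_zero] at this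
    exact top_ne_bot this
  refine ⟨derivedSeries G n, derivedSeries_normal G n, Nat.find_min hex (by omega), ?_⟩
  refine ⟨⟨fun a b => Subtype.ext ?_⟩⟩
  have h := Nat.find_spec hex
  rw [hn, derivedSeries_succ] at h
  have := Subgroup.commutator_mem_commutator a.2 b.2
  rw [h, Subgroup.mem_bot, commutatorElement_eq_one_iff_mul_comm] at this
  exact this

theorem main : ∀ n : ℕ, ∀ (G : Type*) [Group G] [Finite G], Nat.card G = n → Group.IsSolvable G →
    ∀ M : Subgroup G, IsCoatom M → (∀ x : G, x ^ M.index ∈ M) → M.Normal := by
  intro n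
  induction n using Nat.strong_induction_on with
  | _ n ih =>
    intro G _ _ hn hG M hM hexp
    rcases em (∃ N : Subgroup G, N.Normal ∧ N ≠ ⊥ ∧ N ≤ M) with ⟨N, hN, hN0, hNM⟩ | hcore
    · set f := QuotientGroup.mk' N with hf
      have hsurj : Function.Surjective f := QuotientGroup.mk'_surjective N
      have hker : f.ker ≤ M := by rw [hf, QuotientGroup.ker_mk']; exact hNM
      have hlt : Nat.card (G ⧸ N) < n := by
        rw [← hn, Subgroup.card_eq_card_quotient_mul_card_subgroup N]
        exact lt_mul_of_one_lt_right Nat.card_pos (Subgroup.one_lt_card_iff_ne_bot N |>.mpr hN0)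
      have hidx : (M.map f).index = M.index := Subgroup.index_map_eq M hsurj hker
      have hcomap : (M.map f).comap f = M := Subgroup.comap_map_eq_self hker
      have hcoat : IsCoatom (M.map f) := by
        refine ⟨fun h => hM.1 (by rw [← hcomap, h]; exact Subgroup.comap_top f), fun K hK => ?_⟩
        have hlt' : M < K.comap f := by
          rw [← hcomap]
          exact (Subgroup.comap_lt_comap_of_surjective hsurj).mpr hK
        rw [← Subgroup.map_comap_eq_self_of_surjective hsurj K, hM.2 _ hlt',
          Subgroup.map_top_of_surjective f hsurj]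
      have := ih _ hlt (G ⧸ N) rfl (solvable_of_surjective hsurj) (M.map f) hcoat (fun y => by
        obtain ⟨x, rfl⟩ := hsurj y
        rw [hidx, ← map_pow]
        exact Subgroup.mem_map_of_mem f (hexp x))
      rw [← hcomap]
      exact this.comap f
    · push_neg at hcore
      rcases subsingleton_or_nontrivial G with hs | hnt
      · exact absurd (Subsingleton.elim M ⊤) hM.1
      obtain ⟨A, hA, hA0, hAc⟩ := exists_abelian_normal G hG
      obtain ⟨p, hp, hpd⟩ := Nat.exists_prime_and_dvd
        (by rw [ne_eq, Subgroup.card_eq_one]; exact hA0 : Nat.card A ≠ 1)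
      have : Fact p.Prime := ⟨hp⟩
      let B : Subgroup G :=
        { carrier := {x | x ∈ A ∧ x ^ p = 1}
          one_mem' := ⟨A.one_mem, one_pow _⟩
          mul_mem' := fun {x y} hx hy => ⟨A.mul_mem hx.1 hy.1, by
            have : Commute x y := setLike_mul_comm hx.1 hy.1
            rw [this.mul_pow, hx.2, hy.2, one_mul]⟩
          inv_mem' := fun {x} hx => ⟨A.inv_mem hx.1, by rw [inv_pow, hx.2, inv_one]⟩ }
      have hB : B.Normal := ⟨fun x hx g => ⟨hA.conj_mem x hx.1 g, by rw [conj_pow, hx.2, mul_one, mul_inv_cancel]⟩⟩
      have hB0 : B ≠ ⊥ := by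
        obtain ⟨a, ha⟩ := exists_prime_orderOf_dvd_card' p hpd
        intro h
        have hmem : (a : G) ∈ B := ⟨a.2, by
          have := congrArg Subtype.val (pow_orderOf_eq_one a)
          rw [ha] at this
          simpa using this⟩
        rw [h, Subgroup.mem_bot] at hmem
        have : a = 1 := Subtype.ext hmem
        rw [this, orderOf_one] at ha
        exact hp.one_lt.ne ha
      have hBp : IsPGroup p B := fun x => ⟨1, Subtype.ext (by simpa using x.2.2)⟩
      have hBM : ¬ B ≤ M := hcore B hB hB0
      have hsup : M ⊔ B = ⊤ := hM.2 _ (left_lt_sup.mpr hBM)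
      obtain ⟨k, hk⟩ : ∃ k, M.index = p ^ k := by
        have h1 := Subgroup.relIndex_mul_relIndex (M ⊓ B) M (M ⊔ B) inf_le_left le_sup_left
        have h2 := Subgroup.relIndex_mul_relIndex (M ⊓ B) B (M ⊔ B) inf_le_right le_sup_right
        rw [Subgroup.inf_relIndex_left] at h1
        rw [Subgroup.inf_relIndex_right, Subgroup.relIndex_sup_right, ← h1] at h2
        have h3 : M.relIndex B = M.relIndex (M ⊔ B) := by
          rw [mul_comm] at h2
          exact mul_left_cancel₀ Subgroup.index_ne_zero_of_finite h2
        obtain ⟨c, hc⟩ := IsPGroup.iff_card.mp hBp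
        have h4 : M.index ∣ p ^ c := by
          rw [← Subgroup.relIndex_top_right, ← hsup, ← h3, ← hc]
          exact Subgroup.relIndex_dvd_card M B
        obtain ⟨k, -, hk⟩ := (Nat.dvd_prime_pow hp).mp h4
        exact ⟨k, hk⟩
      let S : Subgroup G := Subgroup.closure {x : G | Nat.Coprime (orderOf x) p}
      have hS : S.Normal := by
        refine ⟨fun x hx g => ?_⟩
        have hmap : S.map (MulAut.conj g).toMonoidHom ≤ S := by
          rw [MonoidHom.map_closure]
          refine Subgroup.closure_mono ?_
          rintro _ ⟨y, hy, rfl⟩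
          exact (congrArg (fun m => Nat.Coprime m p) (MulEquiv.orderOf_eq (MulAut.conj g) y)).mpr hy
        exact hmap ⟨x, hx, rfl⟩
      have hSM : S ≤ M := by
        refine (Subgroup.closure_le M).mpr fun x (hx : Nat.Coprime (orderOf x) p) => ?_
        have hcop : Nat.Coprime M.index (orderOf x) := by
          rw [hk]; exact Nat.Coprime.pow_left k hx.symm
        obtain ⟨m, hm⟩ := exists_pow_eq_self_of_coprime hcop
        rw [← hm]
        exact pow_mem (hexp x) m
      have hS1 : S = ⊥ := by
        by_contra h
        exact hcore S hS h hSM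
      have hpG : IsPGroup p G := by
        intro x
        have hx := (orderOf_pos x).ne'
        refine ⟨(orderOf x).factorization p, ?_⟩
        have hmem : x ^ (p ^ (orderOf x).factorization p) ∈ S := Subgroup.subset_closure (by
          show Nat.Coprime _ p
          rw [orderOf_pow, Nat.gcd_eq_right (Nat.ordProj_dvd _ p)]
          exact (Nat.coprime_ordCompl hp hx).symm)
        rwa [hS1, Subgroup.mem_bot] at hmem
      have := hpG.isNilpotent
      have := hpG.isNilpotent
      exact Subgroup.NormalizerCondition.normal_of_coatom M Group.normalizerCondition_of_isNilpotent hM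

/-- Let M be a maximal subgroup of a finite solvable group G such that x^[G : M] lies in M for every x in G. Then M is normal in G. -/
theorem result {G : Type*} [Group G] [Finite G] (hG : Group.IsSolvable G) (M : Subgroup G) (hM : IsCoatom M)
    (hexp : ∀ x : G, x ^ M.index ∈ M) : M.Normal := by
  exact main _ G rfl hG M hM hexp

end Cfsg.Agent.S4261
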