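import Cfsg.Statements.S4262
import Mathlib
import Cfsg.Agent.Lib.NilpotentMaximal

set_option autoImplicit false
open Cfsg

namespace Cfsg.Agent.S4262

theorem exists_pow_parts {G : Type*} [Group G] [Finite G] {r : ℕ} (hr : r.Prime) (m : G) :
    ∃ u v : G, m = u * v ∧ u ∈ Subgroup.zpowers m ∧ v ∈ Subgroup.zpowers m ∧
      (∃ k, u ^ r ^ k = 1) ∧ (orderOf v).Coprime r := by
  set k := (orderOf m).factorization r
  set c := orderOf m / r ^ k
  have hm := (orderOf_pos m).ne'
  have hc : r ^ k * c = orderOf m := Nat.ordProj_mul_ordCompl_eq_self (orderOf m) r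
  have hcr : Nat.Coprime r c := Nat.coprime_ordCompl hr hm
  have hcop : Nat.Coprime c (r ^ k) := Nat.Coprime.pow_right k hcr.symm
  refine ⟨(m ^ c) ^ Nat.gcdA c (r ^ k), (m ^ r ^ k) ^ Nat.gcdB c (r ^ k), ?_, ?_, ?_, ⟨k, ?_⟩, ?_⟩
  · rw [← zpow_natCast m c, ← zpow_natCast m (r ^ k), ← zpow_mul, ← zpow_mul, ← zpow_add,
      ← Nat.gcd_eq_gcd_ab, hcop.gcd_eq_one]
    simp
  · exact Subgroup.zpow_mem _ (Subgroup.pow_mem _ (Subgroup.mem_zpowers m) _) _
  · exact Subgroup.zpow_mem _ (Subgroup.pow_mem _ (Subgroup.mem_zpowers m) _) _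
  · rw [← zpow_natCast, ← zpow_mul, mul_comm (Nat.gcdA c (r ^ k)), zpow_mul, zpow_natCast, ← pow_mul, mul_comm c, hc,
      pow_orderOf_eq_one, one_zpow]
  · refine Nat.Coprime.coprime_dvd_left ?_ hcr.symm
    refine orderOf_dvd_of_pow_eq_one ?_
    rw [← zpow_natCast, ← zpow_mul, mul_comm (Nat.gcdB c (r ^ k)), zpow_mul, zpow_natCast, ← pow_mul, hc,
      pow_orderOf_eq_one, one_zpow]

theorem centralizer_mul_le {G : Type*} [Group G] [Finite G] {x y : G} (h : Commute x y)
    (hcop : (orderOf x).Coprime (orderOf y)) :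
    Subgroup.centralizer {x * y} ≤ Subgroup.centralizer ({x} : Set G) := by
  obtain ⟨m, hm⟩ := exists_pow_eq_self_of_coprime (x := x) (n := orderOf y) hcop.symm
  intro g hg
  rw [Subgroup.mem_centralizer_iff] at hg ⊢
  simp only [Set.mem_singleton_iff, forall_eq] at hg ⊢
  have hc : Commute (x * y) g := hg
  have h1 : ((x * y) ^ orderOf y) = x ^ orderOf y := by rw [h.mul_pow, pow_orderOf_eq_one, mul_one]
  have h2 := ((hc.pow_left (orderOf y)).pow_left m)
  rw [h1, hm] at h2
  exact h2.eq

/-- Let G be a finite group in which the centralizer of every non-central element is a maximal subgroup of G. Then G is solvable. -/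
theorem result {G : Type*} [Group G] [Finite G]
    (h : ∀ g : G, g ∉ Subgroup.center G → IsCoatom (Subgroup.centralizer ({g} : Set G))) :
    Group.IsSolvable G := by
  classical
  by_cases hodd : ∃ r : ℕ, r.Prime ∧ r ≠ 2 ∧ r ∣ (Subgroup.center G).index
  swap
  · push Not at hodd
    have : Fact (Nat.Prime 2) := ⟨Nat.prime_two⟩
    have hpg : IsPGroup 2 (G ⧸ Subgroup.center G) :=
      IsPGroup.of_card (n := (Nat.card (G ⧸ Subgroup.center G)).primeFactorsList.length)
        (Nat.eq_prime_pow_of_unique_prime_dvd Nat.card_pos.ne' fun {d} hd hdd => by_contra fun h => hodd d hd h hdd)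
    have := hpg.isNilpotent
    have : Group.IsSolvable (Subgroup.center G) := Group.isSolvable_of_comm fun a b => mul_comm' a b
    exact Group.isSolvable_of_ker_le_range (Subgroup.center G).subtype (QuotientGroup.mk' (Subgroup.center G)) (by simp)
  obtain ⟨r, hr, hr2, hrd⟩ := hodd
  have : Fact r.Prime := ⟨hr⟩
  obtain ⟨R⟩ : Nonempty (Sylow r G) := inferInstance
  obtain ⟨x, hxR, hxZ⟩ : ∃ x ∈ (R : Subgroup G), x ∉ Subgroup.center G := by
    by_contra h
    push Not at h
    exact R.not_dvd_index (hrd.trans (Subgroup.index_dvd_of_le h))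
  obtain ⟨n, hn⟩ := R.isPGroup' ⟨x, hxR⟩
  have hxn : x ^ r ^ n = 1 := by simpa using congrArg Subtype.val hn
  set M := Subgroup.centralizer ({x} : Set G) with hM
  have hMmax : IsCoatom M := h x hxZ
  have hxpow : ∀ u : G, (∃ k, u ^ r ^ k = 1) → ∀ v : G, (orderOf v).Coprime r → (orderOf u).Coprime (orderOf v) := by
    rintro u ⟨k, hk⟩ v hv
    exact Nat.Coprime.coprime_dvd_left (orderOf_dvd_of_pow_eq_one hk) (Nat.Coprime.pow_left k hv.symm)
  have hcomm : ∀ u ∈ M, Commute x u := fun u hu => Subgroup.mem_centralizer_iff.mp hu x rfl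
  -- the elements of order prime to `r` are central in `M`
  have hy : ∀ y ∈ M, (orderOf y).Coprime r → y ∉ Subgroup.center G → Subgroup.centralizer ({y} : Set G) = M := by
    intro y hyM hyr hyZ
    have hc := hcomm y hyM
    have hcop := hxpow x ⟨n, hxn⟩ y hyr
    have h1 : Subgroup.centralizer {x * y} ≤ M := centralizer_mul_le hc hcop
    have h2 : Subgroup.centralizer {x * y} ≤ Subgroup.centralizer ({y} : Set G) := by
      rw [hc.eq]; exact centralizer_mul_le hc.symm hcop.symm
    have hxy : x * y ∉ Subgroup.center G := fun hz => hMmax.1 (by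
      rw [eq_top_iff]
      exact (Subgroup.centralizer_eq_top_iff_subset.mpr (Set.singleton_subset_iff.mpr hz)).ge.trans h1)
    have hmax := h _ hxy
    have e1 : Subgroup.centralizer {x * y} = M := (hmax.le_iff.mp h1).resolve_left hMmax.1 |>.symm
    exact (hMmax.le_iff.mp (e1 ▸ h2)).resolve_left (h y hyZ).1
  by_cases hab : ∃ y ∈ M, (orderOf y).Coprime r ∧ y ∉ Subgroup.center G
  · obtain ⟨y, hyM, hyr, hyZ⟩ := hab
    have hCy := hy y hyM hyr hyZ
    refine NilpotentMaximal.isSolvable_of_abelian_maximal hMmax ?_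
    have hcent : ∀ m ∈ M, ∀ g ∈ M, Commute m g := by
      intro m hm g hg
      obtain ⟨u, v, rfl, hu, hv, hur, hvr⟩ := exists_pow_parts hr m
      have huM : u ∈ M := (Subgroup.zpowers_le.mpr hm) hu
      have hvM : v ∈ M := (Subgroup.zpowers_le.mpr hm) hv
      refine Commute.mul_left ?_ ?_
      · by_cases huZ : u ∈ Subgroup.center G
        · exact (Subgroup.mem_center_iff.mp huZ g).symm
        have hc : Commute y u :=
          Subgroup.mem_centralizer_iff.mp (show u ∈ Subgroup.centralizer ({y} : Set G) from hCy ▸ huM) y rfl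
        have hcop := (hxpow u hur y hyr).symm
        have h1 : Subgroup.centralizer {y * u} ≤ M := hCy ▸ centralizer_mul_le hc hcop
        have h2 : Subgroup.centralizer {y * u} ≤ Subgroup.centralizer ({u} : Set G) := by
          rw [hc.eq]; exact centralizer_mul_le hc.symm hcop.symm
        have hyu : y * u ∉ Subgroup.center G := fun hz => hMmax.1 (by
          rw [eq_top_iff]
          exact (Subgroup.centralizer_eq_top_iff_subset.mpr (Set.singleton_subset_iff.mpr hz)).ge.trans h1)
        have e1 : Subgroup.centralizer {y * u} = M := ((h _ hyu).le_iff.mp h1).resolve_left hMmax.1 |>.symm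
        exact (Subgroup.mem_centralizer_iff.mp (show g ∈ Subgroup.centralizer ({u} : Set G) from (e1 ▸ h2) hg) u rfl)
      · by_cases hvZ : v ∈ Subgroup.center G
        · exact (Subgroup.mem_center_iff.mp hvZ g).symm
        exact Subgroup.mem_centralizer_iff.mp (show g ∈ Subgroup.centralizer ({v} : Set G) from (hy v hvM hvr hvZ).symm ▸ hg) v rfl
    exact ⟨⟨fun a b => Subtype.ext (hcent a a.2 b b.2)⟩⟩
  push Not at hab
  set f := QuotientGroup.mk' (Subgroup.center G) with hf
  have hsurj : Function.Surjective f := QuotientGroup.mk'_surjective _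
  have hZM : Subgroup.center G ≤ M := Subgroup.center_le_centralizer _
  have hcomap : (M.map f).comap f = M := Subgroup.comap_map_eq_self (by rw [hf, QuotientGroup.ker_mk']; exact hZM)
  have hmax : IsCoatom (M.map f) := by
    refine ⟨fun he => hMmax.1 (by rw [← hcomap, he]; exact Subgroup.comap_top _), fun K hK => ?_⟩
    have hlt' : M < K.comap f := lt_of_eq_of_lt hcomap.symm ((Subgroup.comap_lt_comap_of_surjective hsurj).mpr hK)
    rw [← Subgroup.map_comap_eq_self_of_surjective hsurj K, hMmax.2 _ hlt', Subgroup.map_top_of_surjective f hsurj]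
  have hpg : IsPGroup r (M.map f) := by
    rintro ⟨_, m, hm, rfl⟩
    obtain ⟨u, v, rfl, hu, hv, ⟨k, hk⟩, hvr⟩ := exists_pow_parts hr m
    refine ⟨k, Subtype.ext ?_⟩
    have hvZ : v ∈ Subgroup.center G := hab v ((Subgroup.zpowers_le.mpr hm) hv) hvr
    show f (u * v) ^ r ^ k = 1
    rw [map_mul, (show f v = 1 from (QuotientGroup.eq_one_iff v).mpr hvZ), mul_one, ← map_pow, hk, map_one]
  have hodd' : Odd (Nat.card (M.map f)) := by
    obtain ⟨k, hk⟩ := IsPGroup.iff_card.mp hpg
    rw [hk]
    exact (hr.odd_of_ne_two hr2).pow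
  have := NilpotentMaximal.isSolvable_of_odd_nilpotent hmax hpg.isNilpotent hodd'
  have : Group.IsSolvable (Subgroup.center G) := Group.isSolvable_of_comm fun a b => mul_comm' a b
  exact Group.isSolvable_of_ker_le_range (Subgroup.center G).subtype f (by simp [hf])

end Cfsg.Agent.S4262
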