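import Cfsg.Statements.S4263
import Mathlib
import Cfsg.Agent.S4244
import Cfsg.Agent.Lib.HallCore

set_option autoImplicit false
open Cfsg

namespace Cfsg.Agent.S4263

variable {G : Type*} [Group G]

theorem nilpotent_le_sup (N : Subgroup G) [Finite G] [hN : N.Normal] (hnil : Group.IsNilpotent N)
    (p : ℕ) [hp : Fact p.Prime] : N ≤ Cfsg.pCore p G ⊔ Cfsg.pPrimeCore p G := by
  set S := Cfsg.pCore p G ⊔ Cfsg.pPrimeCore p G with hS
  rw [← inf_eq_left]
  refine Subgroup.eq_of_le_of_card_ge inf_le_left (Nat.le_of_dvd Nat.card_pos ?_)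
  rw [Nat.dvd_iff_prime_pow_dvd_dvd]
  intro q k hq hdvd
  have : Fact q.Prime := ⟨hq⟩
  let P : Sylow q N := default
  have hPn : (P : Subgroup N).Normal := inferInstance
  have := P.characteristic_of_normal hPn
  have hQn : ((P : Subgroup N).map N.subtype).Normal := inferInstance
  have hQp : IsPGroup q ((P : Subgroup N).map N.subtype) := P.isPGroup'.map _
  have hle : (P : Subgroup N).map N.subtype ≤ N ⊓ S := by
    refine le_inf (Subgroup.map_subtype_le _) ?_
    rcases eq_or_ne q p with rfl | hqp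
    · exact le_trans (le_sSup (s := {N : Subgroup G | N.Normal ∧ IsPGroup q N}) ⟨hQn, hQp⟩) le_sup_left
    · refine le_trans (le_sSup (s := {N : Subgroup G | N.Normal ∧ (Nat.card N).Coprime p}) ⟨hQn, ?_⟩) le_sup_right
      obtain ⟨n, hn⟩ := IsPGroup.iff_card.mp hQp
      rw [hn]
      exact Nat.Coprime.pow_left n ((Nat.coprime_primes hq hp.out).mpr hqp)
  refine dvd_trans ?_ (Subgroup.card_dvd_of_le hle)
  rw [Subgroup.card_map_of_injective N.subtype_injective, P.card_eq_multiplicity]
  exact pow_dvd_pow q ((hq.pow_dvd_iff_le_factorization Nat.card_pos.ne').mp hdvd)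

theorem fitting_le_sup [Finite G] (p : ℕ) [Fact p.Prime] :
    Cfsg.fittingSubgroup G ≤ Cfsg.pCore p G ⊔ Cfsg.pPrimeCore p G :=
  sSup_le fun N hN => have := hN.1; nilpotent_le_sup N hN.2 p

theorem isPGroup_pCore [Finite G] (p : ℕ) [Fact p.Prime] : IsPGroup p (Cfsg.pCore p G) :=
  HallCore.sSup_normal_prop (fun N : Subgroup G => IsPGroup p N) IsPGroup.of_bot
    (fun A B _ hB hA' hB' => have := hB; hA'.to_sup_of_normal_right hB')

theorem fitting_isNilpotent [Finite G] : Group.IsNilpotent (Cfsg.fittingSubgroup G) := by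
  set F := Cfsg.fittingSubgroup G
  refine ((Group.isNilpotent_of_finite_tfae (G := F)).out 3 0).mp ?_
  intro p hp P
  have hcore := isPGroup_pCore (G := G) p
  have : (Cfsg.pCore p G).Normal := Subgroup.sSup_normal _ (fun N h => h.1)
  have : (Cfsg.pPrimeCore p G).Normal := Subgroup.sSup_normal _ (fun N h => h.1)
  have hRc : (Nat.card (Cfsg.pPrimeCore p G)).Coprime p :=
    HallCore.sSup_normal_prop (fun N : Subgroup G => (Nat.card N).Coprime p)
      (by simp) (fun A B _ hB hA' hB' => have := hB;
        (hA'.mul_left hB').coprime_dvd_left (HallCore.card_sup_dvd A B))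
  have hOF : Cfsg.pCore p G ≤ F := le_sSup ⟨inferInstance, hcore.isNilpotent⟩
  set O := (Cfsg.pCore p G).subgroupOf F
  have hO : IsPGroup p O := hcore.comap_subtype
  have hidx : ¬ p ∣ O.index := by
    have h1 : (Cfsg.pCore p G).relIndex (Cfsg.pCore p G ⊔ Cfsg.pPrimeCore p G) ∣
        Nat.card (Cfsg.pPrimeCore p G) := by
      rw [Subgroup.relIndex_sup_left]
      exact Subgroup.relIndex_dvd_card _ _
    have h2 : (Cfsg.pCore p G).relIndex F ∣ (Cfsg.pCore p G).relIndex (Cfsg.pCore p G ⊔ Cfsg.pPrimeCore p G) :=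
      dvd_of_mul_right_eq _ (Subgroup.relIndex_mul_relIndex _ _ _ hOF (fitting_le_sup p))
    intro hd
    exact hp.out.coprime_iff_not_dvd.mp hRc.symm ((hd.trans h2).trans h1)
  have : O.Normal := inferInstance
  let Q : Sylow p F := hO.toSylow hidx
  obtain ⟨g, hg⟩ := MulAction.exists_smul_eq F Q P
  have : ((Q : Subgroup F)).Normal := this
  have hgQ : g • Q = Q := Sylow.smul_eq_of_normal
  rw [hgQ] at hg
  rw [← hg]
  assumption

theorem pow_index_mem_of_isNilpotent {N : Type*} [Group N] [Finite N] [Group.IsNilpotent N] :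
    ∀ (n : ℕ) (L : Subgroup N), L.index = n → ∀ x : N, x ^ L.index ∈ L := by
  intro n
  induction n using Nat.strong_induction_on with
  | _ n ih =>
    intro L hLn x
    rcases eq_or_lt_of_le (le_top : L ≤ ⊤) with hL | hL
    · subst hL; simp
    · have hK : L < Subgroup.normalizer (L : Set N) := normalizerCondition_of_isNilpotent L hL
      set K := Subgroup.normalizer (L : Set N)
      have hmul := Subgroup.relIndex_mul_index hK.le
      have hlt : K.index < n := hLn ▸ Subgroup.index_strictAnti hK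
      have h1 := ih _ hlt K rfl x
      have : (L.subgroupOf K).Normal := Subgroup.normal_in_normalizer
      have h2 := Subgroup.pow_index_mem (L.subgroupOf K) (⟨x ^ K.index, h1⟩ : K)
      rw [Subgroup.mem_subgroupOf] at h2
      rw [← hmul, mul_comm, pow_mul]
      exact h2

theorem mem_pCore_of_mem_all_sylow [Finite G] (p : ℕ) [Fact p.Prime] {y : G}
    (h : ∀ P : Sylow p G, y ∈ (P : Subgroup G)) : y ∈ Cfsg.pCore p G := by
  have hn : (⨅ P : Sylow p G, (P : Subgroup G)).Normal := by
    refine ⟨fun x hx g => Subgroup.mem_iInf.mpr fun P => ?_⟩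
    have := Subgroup.mem_iInf.mp hx (g⁻¹ • P)
    rw [Sylow.coe_subgroup_smul, Subgroup.mem_pointwise_smul_iff_inv_smul_mem] at this
    simpa [MulAut.smul_def] using this
  have hpg : IsPGroup p (⨅ P : Sylow p G, (P : Subgroup G) : Subgroup G) :=
    (default : Sylow p G).isPGroup'.to_le (iInf_le _ _)
  exact le_sSup (s := {N : Subgroup G | N.Normal ∧ IsPGroup p N}) ⟨hn, hpg⟩ (Subgroup.mem_iInf.mpr h)

/-- Let G be a finite group. An element x lies in the Fitting subgroup F(G) if and only if, for every subgroup H of G, the power x^[G : H] lies in H. -/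
theorem result {G : Type*} [Group G] [Finite G] (x : G) :
    x ∈ Cfsg.fittingSubgroup G ↔ ∀ H : Subgroup G, x ^ H.index ∈ H := by
  constructor
  · intro hx H
    set F := Cfsg.fittingSubgroup G
    have hFn : F.Normal := Subgroup.sSup_normal _ (fun N h => h.1)
    have := fitting_isNilpotent (G := G)
    obtain ⟨c, hc⟩ : H.relIndex F ∣ H.index := S4244.relIndex_dvd_index hFn.isSubnormal H
    have h1 := pow_index_mem_of_isNilpotent _ (H.subgroupOf F) rfl (⟨x, hx⟩ : F)
    rw [Subgroup.mem_subgroupOf] at h1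
    rw [hc, pow_mul]
    exact H.pow_mem h1 c
  · intro h
    suffices key : ∀ n : ℕ, ∀ y : G, orderOf y = n → (∀ H : Subgroup G, y ^ H.index ∈ H) →
        y ∈ Cfsg.fittingSubgroup G from key _ x rfl h
    intro n
    induction n using Nat.recOnPrimeCoprime with
    | zero => intro y hy; exact absurd hy (orderOf_pos y).ne'
    | prime_pow p k hp =>
      intro y hy hH
      have : Fact p.Prime := ⟨hp⟩
      have hy' : y ∈ Cfsg.pCore p G := by
        refine mem_pCore_of_mem_all_sylow p fun P => ?_
        have hcop : Nat.Coprime (P : Subgroup G).index (orderOf y) := by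
          rw [hy]
          exact Nat.Coprime.pow_right k ((hp.coprime_iff_not_dvd.mpr P.not_dvd_index).symm)
        obtain ⟨m, hm⟩ := exists_pow_eq_self_of_coprime hcop
        rw [← hm]
        exact pow_mem (hH P) m
      exact (le_sSup (s := {N : Subgroup G | N.Normal ∧ Group.IsNilpotent N})
        ⟨Subgroup.sSup_normal _ (fun N h => h.1), (isPGroup_pCore p).isNilpotent⟩) hy'
    | coprime a b ha hb hab iha ihb =>
      intro y hy hH
      have hpow : ∀ c : ℕ, ∀ H : Subgroup G, (y ^ c) ^ H.index ∈ H := fun c H => by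
        rw [← pow_mul, mul_comm, pow_mul]; exact H.pow_mem (hH H) c
      have h1 := ihb (y ^ a) (by rw [orderOf_pow, hy, Nat.gcd_mul_right_left, Nat.mul_div_cancel_left _ (by omega)]) (hpow a)
      have h2 := iha (y ^ b) (by rw [orderOf_pow, hy, Nat.gcd_mul_left_left, Nat.mul_div_cancel _ (by omega)]) (hpow b)
      have hz : y = (y ^ a) ^ Nat.gcdA a b * (y ^ b) ^ Nat.gcdB a b := by
        rw [← zpow_natCast y a, ← zpow_natCast y b, ← zpow_mul, ← zpow_mul, ← zpow_add,
          ← Nat.gcd_eq_gcd_ab, hab.gcd_eq_one]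
        simp
      rw [hz]
      exact Subgroup.mul_mem _ (Subgroup.zpow_mem _ h1 _) (Subgroup.zpow_mem _ h2 _)

end Cfsg.Agent.S4263
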