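import Cfsg.Statements.S4265
import Cfsg.Agent.Lib.KGBound86Embed
import Cfsg.Agent.Lib.KGBound86Maschke
-- import your own Cfsg.Agent.* helpers here

set_option autoImplicit false
open Cfsg

namespace Cfsg.Agent.S4265

/-- Let G be a finite solvable subgroup of GL_r(ℂ), r ≥ 1, with Fitting subgroup F(G) normal in G. Then for every subgroup H of G the quotient H/(H ∩ F(G)) has at most 3^{r−1} conjugacy classes. -/
theorem result (r : ℕ) (hr : 1 ≤ r) (G : Subgroup (GL (Fin r) ℂ)) [Finite ↥G] (hsolv : Group.IsSolvable ↥G) [hF : (Cfsg.fittingSubgroup ↥G).Normal] (H : Subgroup ↥G) : Nat.card (ConjClasses (↥H ⧸ (Cfsg.fittingSubgroup ↥G).subgroupOf H)) ≤ 3 ^ (r - 1) := by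
  classical
  haveI := hsolv
  obtain ⟨p, hp, hpG, σ, hσ⟩ := Cfsg.Agent.KGBound86.exists_prime_field_embedding
    ((Units.coeHom (Matrix (Fin r) (Fin r) ℂ)).comp G.subtype)
    (fun x y e => Subtype.ext (Units.ext e))
  haveI := hp
  letI : DistribMulAction ↥G (Fin r → ZMod p) :=
    { smul := fun g x => (σ g).mulVec x
      one_smul := fun x => by
        show (σ 1).mulVec x = x
        rw [map_one, Matrix.one_mulVec]
      mul_smul := fun g h x => by
        show (σ (g * h)).mulVec x = (σ g).mulVec ((σ h).mulVec x)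
        rw [map_mul, Matrix.mulVec_mulVec]
      smul_zero := fun g => Matrix.mulVec_zero _
      smul_add := fun g x y => Matrix.mulVec_add _ x y }
  haveI : FaithfulSMul ↥G (Fin r → ZMod p) := ⟨fun {g h} e => hσ (Matrix.ext_of_mulVec_single
    fun i => e (Pi.single i 1))⟩
  exact (Cfsg.Agent.KGFit86.kf_cr (p := p) (n := r) hr (H := ↥G) (W := Fin r → ZMod p) (Cfsg.Agent.KGFit86.cr_of_coprime hpG)
    (by rw [Nat.card_fun, Nat.card_zmod, Nat.card_fin])).apply H

end Cfsg.Agent.S4265
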