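import Cfsg.Statements.S4269
import Mathlib

set_option autoImplicit false
open Cfsg

namespace Cfsg.Agent.S4269

open scoped commutatorElement

variable {G : Type*} [Group G]

theorem comm_mul_right {h w₁ w₂ : G} (hc : w₁ * (h * w₂ * h⁻¹ * w₂⁻¹) = (h * w₂ * h⁻¹ * w₂⁻¹) * w₁) :
    ⁅h, w₁ * w₂⁆ = ⁅h, w₁⁆ * ⁅h, w₂⁆ := by
  rw [commutatorElement_def, commutatorElement_def, commutatorElement_def]
  have e : h * (w₁ * w₂) * h⁻¹ * (w₁ * w₂)⁻¹ = h * w₁ * h⁻¹ * (h * w₂ * h⁻¹ * w₂⁻¹ * w₁⁻¹) := by group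
  rw [e]
  have e2 : h * w₂ * h⁻¹ * w₂⁻¹ * w₁⁻¹ = w₁⁻¹ * (h * w₂ * h⁻¹ * w₂⁻¹) := by
    rw [eq_inv_mul_iff_mul_eq, ← mul_assoc, hc]; group
  rw [e2]; group

theorem commutator_le_normal (H : Subgroup G) (U : Subgroup G)
    (hU : ∀ h ∈ H, U.map (MulAut.conj h).toMonoidHom = U) : ⁅H, U⁆ ≤ U := by
  rw [Subgroup.commutator_le]
  intro h hh u hu
  have h1 : h * u * h⁻¹ ∈ U := (hU h hh).le ⟨u, hu, rfl⟩
  exact U.mul_mem h1 (U.inv_mem hu)

theorem le_normalizer_commutator (H : Subgroup G) (U : Subgroup G)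
    (hU : ∀ h ∈ H, U.map (MulAut.conj h).toMonoidHom = U) :
    H ≤ Subgroup.normalizer ((⁅H, U⁆ : Subgroup G) : Set G) := by
  have key : ∀ k ∈ H, ∀ c ∈ ⁅H, U⁆, k * c * k⁻¹ ∈ ⁅H, U⁆ := by
    intro k hk c hc
    have hle : (⁅H, U⁆ : Subgroup G).map (MulAut.conj k).toMonoidHom ≤ ⁅H, U⁆ := by
      rw [Subgroup.map_commutator]
      refine Subgroup.commutator_mono ?_ (hU k hk).le
      rintro _ ⟨h, hh, rfl⟩
      exact H.mul_mem (H.mul_mem hk hh) (H.inv_mem hk)
    exact hle ⟨c, hc, rfl⟩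
  intro k hk
  rw [Subgroup.mem_normalizer_iff]
  refine fun c => ⟨key k hk c, fun hc => ?_⟩
  have := key k⁻¹ (H.inv_mem hk) _ hc
  simpa [mul_assoc] using this

theorem map_conj_mul (H : Subgroup G) (a b : G) :
    H.map (MulAut.conj (a * b)).toMonoidHom = (H.map (MulAut.conj b).toMonoidHom).map (MulAut.conj a).toMonoidHom := by
  rw [Subgroup.map_map]
  congr 1
  ext x
  simp [mul_assoc]

theorem map_conj_of_mem_normalizer (H : Subgroup G) {n : G} (hn : n ∈ Subgroup.normalizer (H : Set G)) :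
    H.map (MulAut.conj n).toMonoidHom = H := by
  ext x
  constructor
  · rintro ⟨y, hy, rfl⟩
    exact (Subgroup.mem_normalizer_iff.mp hn y).mp hy
  · intro hx
    exact ⟨n⁻¹ * x * n, (Subgroup.mem_normalizer_iff''.mp hn x).mp hx, by simp [mul_assoc]⟩

/-- Let G be a finite group, V an abelian normal subgroup and H a subgroup with HV = G. Then H is pronormal in G (H and gHg⁻¹ are conjugate inside the subgroup they generate, for every g) if and only if every H-invariant subgroup U of V satisfies U = N_U(H)·[H, U], that is, U is the join of U ∩ N_G(H) and the commutator subgroup [H, U]. -/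
theorem result {G : Type*} [Group G] [Finite G]
    (V : Subgroup G) [V.Normal] (hV : IsMulCommutative ↥V) (H : Subgroup G) (hHV : H ⊔ V = ⊤) :
    Cfsg.IsPronormal H ↔
      ∀ U : Subgroup G, U ≤ V → (∀ h ∈ H, U.map (MulAut.conj h).toMonoidHom = U) →
        U = (U ⊓ Subgroup.normalizer (H : Set G)) ⊔ ⁅H, U⁆ := by
  have hcomm : ∀ a ∈ V, ∀ b ∈ V, a * b = b * a := fun a ha b hb =>
    congrArg Subtype.val (hV.is_comm.comm (⟨a, ha⟩ : V) ⟨b, hb⟩)
  have hVm : ∀ h : G, ∀ v ∈ V, h * v * h⁻¹ * v⁻¹ ∈ V := fun h v hv =>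
    V.mul_mem (Subgroup.Normal.conj_mem ‹V.Normal› v hv h) (V.inv_mem hv)
  constructor
  · intro hP U hUV hU
    refine le_antisymm (fun u hu => ?_) (sup_le inf_le_left (commutator_le_normal H U hU))
    obtain ⟨x, hx, hHx⟩ := hP u
    have hle : H ⊔ H.map (MulAut.conj u).toMonoidHom ≤ ⁅H, U⁆ ⊔ H := by
      refine sup_le le_sup_right ?_
      rintro _ ⟨h, hh, rfl⟩
      have h1 : ⁅h, u⁆⁻¹ * h ∈ ⁅H, U⁆ ⊔ H :=
        Subgroup.mul_mem_sup (Subgroup.inv_mem _ (Subgroup.commutator_mem_commutator hh hu)) hh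
      have e : (MulAut.conj u).toMonoidHom h = ⁅h, u⁆⁻¹ * h := by
        simp [commutatorElement_def, mul_assoc]
      rw [e]; exact h1
    have hx' : x ∈ (↑(⁅H, U⁆ ⊔ H) : Set G) := hle hx
    rw [Subgroup.coe_mul_of_right_le_normalizer_left _ _ (le_normalizer_commutator H U hU)] at hx'
    obtain ⟨c, hc, h, hh, rfl⟩ := Set.mem_mul.mp hx'
    rw [map_conj_mul H c h, map_conj_of_mem_normalizer H (Subgroup.le_normalizer hh)] at hHx
    have hn : c⁻¹ * u ∈ Subgroup.normalizer (H : Set G) := by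
      have h2 : H.map (MulAut.conj (c⁻¹ * u)).toMonoidHom = H := by
        rw [map_conj_mul, hHx, ← map_conj_mul, inv_mul_cancel]
        exact map_conj_of_mem_normalizer H (one_mem _)
      rw [Subgroup.mem_normalizer_iff]
      intro y
      constructor
      · intro hy
        exact h2.le ⟨y, hy, rfl⟩
      · intro hy
        obtain ⟨z, hz, hzy⟩ := h2.ge hy
        rw [← (MulAut.conj (c⁻¹ * u)).injective hzy]
        exact hz
    have hcU : c ∈ U := commutator_le_normal H U hU hc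
    rw [show u = c * (c⁻¹ * u) by group]
    exact Subgroup.mul_mem _ (Subgroup.mem_sup_right hc)
      (Subgroup.mem_sup_left ⟨U.mul_mem (U.inv_mem hcU) hu, hn⟩)
  · intro hU g
    have hg : g ∈ (↑(V ⊔ H) : Set G) := by rw [sup_comm, hHV]; trivial
    rw [Subgroup.normal_mul] at hg
    obtain ⟨v, hv, h₀, hh₀, rfl⟩ := Set.mem_mul.mp hg
    rw [map_conj_mul, map_conj_of_mem_normalizer H (Subgroup.le_normalizer hh₀)]
    set K := H ⊔ H.map (MulAut.conj v).toMonoidHom with hK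
    have hgen : ∀ h ∈ H, ⁅h, v⁆ ∈ K := by
      intro h hh
      have h1 : h * (MulAut.conj v).toMonoidHom h⁻¹ ∈ K :=
        Subgroup.mul_mem_sup hh ⟨h⁻¹, H.inv_mem hh, rfl⟩
      convert h1 using 1
      simp [commutatorElement_def, mul_assoc]
    let T : Subgroup G :=
      { carrier := {w | w ∈ V ∧ ∀ h ∈ H, ⁅h, w⁆ ∈ K}
        one_mem' := ⟨V.one_mem, fun h _ => by rw [commutatorElement_one_right]; exact K.one_mem⟩
        mul_mem' := fun {a b} ha hb => ⟨V.mul_mem ha.1 hb.1, fun h hh => by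
          rw [comm_mul_right (hcomm a ha.1 _ (hVm h b hb.1))]
          exact K.mul_mem (ha.2 h hh) (hb.2 h hh)⟩
        inv_mem' := fun {a} ha => ⟨V.inv_mem ha.1, fun h hh => by
          have h1 := comm_mul_right (h := h) (hcomm a ha.1 _ (hVm h a⁻¹ (V.inv_mem ha.1)))
          rw [mul_inv_cancel, commutatorElement_one_right, eq_comm, mul_eq_one_iff_eq_inv'] at h1
          rw [h1]
          exact K.inv_mem (ha.2 h hh)⟩ }
    set W := Subgroup.closure ((fun h => h * v * h⁻¹) '' (H : Set G)) with hW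
    have hWT : W ≤ T := by
      rw [hW, Subgroup.closure_le]
      rintro _ ⟨h₁, hh₁, rfl⟩
      refine ⟨Subgroup.Normal.conj_mem ‹V.Normal› v hv h₁, fun h hh => ?_⟩
      have e : ⁅h, h₁ * v * h₁⁻¹⁆ = ⁅h * h₁, v⁆ * ⁅h₁, v⁆⁻¹ := by
        simp [commutatorElement_def, mul_assoc]
      rw [e]
      exact K.mul_mem (hgen _ (H.mul_mem hh hh₁)) (K.inv_mem (hgen _ hh₁))
    have hWV : W ≤ V := fun w hw => (hWT hw).1
    have hWinv : ∀ h ∈ H, W.map (MulAut.conj h).toMonoidHom = W := by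
      intro h hh
      rw [hW, MonoidHom.map_closure]
      congr 1
      ext y
      constructor
      · rintro ⟨_, ⟨h₁, hh₁, rfl⟩, rfl⟩
        exact ⟨h * h₁, H.mul_mem hh hh₁, by simp [mul_assoc]⟩
      · rintro ⟨h₁, hh₁, rfl⟩
        exact ⟨_, ⟨h⁻¹ * h₁, H.mul_mem (H.inv_mem hh) hh₁, rfl⟩, by simp [mul_assoc]⟩
    have hCK : ⁅H, W⁆ ≤ K := Subgroup.commutator_le.mpr fun h hh w hw => (hWT hw).2 h hh
    have hvW : v ∈ W := Subgroup.subset_closure ⟨1, H.one_mem, by simp⟩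
    have hdec := hU W hWV hWinv
    have hCW : ⁅H, W⁆ ≤ W := commutator_le_normal H W hWinv
    have hnorm : (W ⊓ Subgroup.normalizer (H : Set G)) ≤
        Subgroup.normalizer ((⁅H, W⁆ : Subgroup G) : Set G) := by
      refine le_trans (fun a ha => ?_) (Subgroup.centralizer_le_normalizer _)
      rw [Subgroup.mem_centralizer_iff]
      exact fun c hc => hcomm c (hWV (hCW hc)) a (hWV ha.1)
    have hv' : v ∈ (↑(⁅H, W⁆ ⊔ (W ⊓ Subgroup.normalizer (H : Set G))) : Set G) := by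
      rw [sup_comm, ← hdec]; exact hvW
    rw [Subgroup.coe_mul_of_right_le_normalizer_left _ _ hnorm] at hv'
    obtain ⟨c, hc, n, hn, hcn⟩ := Set.mem_mul.mp hv'
    refine ⟨c, hCK hc, ?_⟩
    rw [← hcn, map_conj_mul, map_conj_of_mem_normalizer H hn.2]

end Cfsg.Agent.S4269
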