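import Cfsg.Statements.S4270
import Mathlib
import Cfsg.Agent.Lib.ClassSizeGraph76

set_option autoImplicit false
open Cfsg

namespace Cfsg.Agent.S4270

open scoped Pointwise

variable {G : Type*} [Group G]

/-- Conjugate subgroup. -/
abbrev cj (g : G) (H : Subgroup G) : Subgroup G := H.map (MulAut.conj g).toMonoidHom

theorem mem_cj {g x : G} {H : Subgroup G} : x ∈ cj g H ↔ g⁻¹ * x * g ∈ H := by
  rw [cj, Subgroup.mem_map_equiv, MulAut.conj_symm_apply]

theorem cj_mul (a b : G) (H : Subgroup G) : cj (a * b) H = cj a (cj b H) := by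
  ext x
  simp only [mem_cj, mul_inv_rev, mul_assoc]

theorem cj_one (H : Subgroup G) : cj (1 : G) H = H := by
  ext x; simp [mem_cj]

theorem cj_eq_iff {g : G} {H : Subgroup G} : cj g H = H ↔ g ∈ Subgroup.normalizer (H : Set G) := by
  rw [Subgroup.mem_normalizer_iff'']
  constructor
  · intro h x
    conv_lhs => rw [← h]
    exact mem_cj
  · intro h
    ext x
    rw [mem_cj]
    exact (h x).symm

theorem cj_le {g : G} {H K : Subgroup G} (hH : H ≤ K) (hg : g ∈ K) : cj g H ≤ K := fun x hx => by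
  have := K.mul_mem (K.mul_mem hg (hH (mem_cj.mp hx))) (K.inv_mem hg)
  have e : g * (g⁻¹ * x * g) * g⁻¹ = x := by group
  rwa [e] at this

theorem cj_mono {g : G} {H K : Subgroup G} (h : H ≤ K) : cj g H ≤ cj g K := Subgroup.map_mono h

theorem map_cj {G' : Type*} [Group G'] (f : G →* G') (g : G) (H : Subgroup G) :
    (cj g H).map f = cj (f g) (H.map f) := by
  rw [cj, cj, Subgroup.map_map, Subgroup.map_map]
  congr 1
  ext x
  simp

theorem pronormal_map {G' : Type*} [Group G'] (f : G →* G') (hf : Function.Surjective f)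
    {H : Subgroup G} (h : Cfsg.IsPronormal H) : Cfsg.IsPronormal (H.map f) := by
  intro g'
  obtain ⟨g, rfl⟩ := hf g'
  obtain ⟨x, hx, he⟩ := h g
  refine ⟨f x, ?_, ?_⟩
  · change f x ∈ H.map f ⊔ cj (f g) (H.map f)
    rw [← map_cj, ← Subgroup.map_sup]
    exact Subgroup.mem_map_of_mem f hx
  · change cj (f g) (H.map f) = cj (f x) (H.map f)
    rw [← map_cj, ← map_cj]
    exact congrArg _ he

/-- If the image of `H` is pronormal modulo a normal subgroup inside `H`, then `H` is pronormal. -/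
theorem pronormal_of_map {G' : Type*} [Group G'] (f : G →* G') {H : Subgroup G}
    (hker : f.ker ≤ H) (hkn : ∀ g : G, f.ker ≤ cj g H) (h : Cfsg.IsPronormal (H.map f)) :
    Cfsg.IsPronormal H := by
  intro g
  obtain ⟨x', hx', he⟩ := h (f g)
  change x' ∈ H.map f ⊔ cj (f g) (H.map f) at hx'
  change cj (f g) (H.map f) = cj x' (H.map f) at he
  rw [← map_cj, ← Subgroup.map_sup] at hx'
  obtain ⟨x, hx, rfl⟩ := hx'
  refine ⟨x, hx, ?_⟩
  rw [← map_cj, ← map_cj] at he
  have := congrArg (Subgroup.comap f) he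
  rwa [Subgroup.comap_map_eq, Subgroup.comap_map_eq, sup_eq_left.mpr (hkn g), sup_eq_left.mpr (hkn x)] at this

theorem pronormal_subgroupOf {U H : Subgroup G} (hHU : H ≤ U) (h : Cfsg.IsPronormal H) :
    Cfsg.IsPronormal (H.subgroupOf U) := by
  intro g
  obtain ⟨x, hx, he⟩ := h (g : G)
  change x ∈ H ⊔ cj (g : G) H at hx
  have hxU : x ∈ U := sup_le hHU (cj_le hHU g.2) hx
  have hm : ∀ y : U, (cj y (H.subgroupOf U)).map U.subtype = cj (y : G) H := by
    intro y
    rw [map_cj, Subgroup.map_subgroupOf_eq_of_le hHU]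
    rfl
  refine ⟨⟨x, hxU⟩, ?_, ?_⟩
  · rw [← Subgroup.mem_map_iff_mem U.subtype_injective, Subgroup.map_sup,
      Subgroup.map_subgroupOf_eq_of_le hHU, hm g]
    exact hx
  · refine Subgroup.map_injective U.subtype_injective ?_
    change (cj g (H.subgroupOf U)).map U.subtype = (cj ⟨x, hxU⟩ (H.subgroupOf U)).map U.subtype
    rw [hm, hm]
    exact he

theorem conj_of_pronormal_sub {U H : Subgroup G} (hHU : H ≤ U) (h : Cfsg.IsPronormal (H.subgroupOf U))
    {a : G} (ha : a ∈ U) : ∃ x ∈ H ⊔ cj a H, x ∈ U ∧ cj a H = cj x H := by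
  obtain ⟨x, hx, he⟩ := h ⟨a, ha⟩
  have hm : ∀ y : U, (cj y (H.subgroupOf U)).map U.subtype = cj (y : G) H := by
    intro y
    rw [map_cj, Subgroup.map_subgroupOf_eq_of_le hHU]
    rfl
  refine ⟨x, ?_, x.2, ?_⟩
  · have h1 : U.subtype x ∈ (H.subgroupOf U ⊔ cj (⟨a, ha⟩ : U) (H.subgroupOf U)).map U.subtype :=
      Subgroup.mem_map_of_mem U.subtype hx
    rw [Subgroup.map_sup, Subgroup.map_subgroupOf_eq_of_le hHU, hm ⟨a, ha⟩] at h1
    exact h1
  · have h1 := congrArg (fun V => Subgroup.map U.subtype V) he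
    exact (hm ⟨a, ha⟩).symm.trans (h1.trans (hm x))

variable [Finite G] {p : ℕ} [Fact p.Prime]

theorem sylow_sub {P : Sylow p G} {U : Subgroup G} (h : (P : Subgroup G) ≤ U) :
    ∃ Q : Sylow p U, (Q : Subgroup U) = (P : Subgroup G).subgroupOf U :=
  ⟨P.subtype h, P.coe_subtype h⟩

/-- Frattini: `U` contains a `p`-subgroup `T` that is Sylow in the normal subgroup `D` of `U`. -/
theorem exists_mem_normalizer {D T : Subgroup G} (hT : IsPGroup p T) (hTD : T ≤ D)
    (hidx : ¬ p ∣ T.relIndex D) {u : G} (hu : cj u D = D) :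
    ∃ d ∈ D, d⁻¹ * u ∈ Subgroup.normalizer (T : Set G) := by
  have hTu : cj u T ≤ D := (cj_mono hTD).trans hu.le
  have h1 : IsPGroup p (T.subgroupOf D) := hT.comap_subtype
  have h2 : IsPGroup p ((cj u T).subgroupOf D) := (hT.map _).comap_subtype
  obtain ⟨S₂, hS₂⟩ := h2.exists_le_sylow
  have hidx' : ¬ p ∣ (T.subgroupOf D).index := hidx
  obtain ⟨d, hd⟩ := MulAction.exists_smul_eq D (h1.toSylow hidx') S₂
  have heq : (S₂ : Subgroup D).map D.subtype = cj (d : G) T := by
    rw [← hd, Sylow.coe_subgroup_smul, IsPGroup.toSylow_coe]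
    change (cj d (T.subgroupOf D)).map D.subtype = _
    rw [map_cj, Subgroup.map_subgroupOf_eq_of_le hTD]
    rfl
  have hle : cj u T ≤ cj (d : G) T := by
    rw [← heq, ← Subgroup.map_subgroupOf_eq_of_le hTu]
    exact Subgroup.map_mono hS₂
  have he := Subgroup.eq_of_le_of_card_ge hle (le_of_eq (by
    rw [Subgroup.card_map_of_injective (f := (MulAut.conj u).toMonoidHom) (MulAut.conj u).injective,
      Subgroup.card_map_of_injective (f := (MulAut.conj (d : G)).toMonoidHom) (MulAut.conj (d : G)).injective]))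
  refine ⟨d, d.2, cj_eq_iff.mp ?_⟩
  rw [cj_mul, he, ← cj_mul, inv_mul_cancel, cj_one]

theorem sylow_inter {A : Subgroup G} [A.Normal] (P : Sylow p G) :
    ¬ p ∣ ((P : Subgroup G) ⊓ A).relIndex A := by
  rw [Subgroup.inf_relIndex_right]
  exact fun hd => P.not_dvd_index (hd.trans (Cfsg.Agent.ClassSizeGraph76.relIndex_dvd_index _ _))

theorem inf_eq_of_le {A T : Subgroup G} [A.Normal] (hTA : T ≤ A) (hidx : ¬ p ∣ T.relIndex A)
    {P : Sylow p G} (hTP : T ≤ (P : Subgroup G)) : (P : Subgroup G) ⊓ A = T := by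
  refine le_antisymm ?_ (le_inf hTP hTA)
  have hp : IsPGroup p ((P : Subgroup G) ⊓ A : Subgroup G) := P.2.to_le inf_le_left
  rw [← Subgroup.relIndex_eq_one]
  obtain ⟨n, hn⟩ := IsPGroup.iff_card.mp hp
  obtain ⟨j, -, hj⟩ := (Nat.dvd_prime_pow Fact.out).mp
    (hn ▸ (Subgroup.relIndex_dvd_card (H := T) (K := (P : Subgroup G) ⊓ A)))
  rcases Nat.eq_zero_or_pos j with h0 | h0
  · rw [hj, h0, pow_zero]
  · exfalso
    apply hidx
    rw [← Subgroup.relIndex_mul_relIndex T ((P : Subgroup G) ⊓ A) A (le_inf hTP hTA) inf_le_right, hj]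
    exact dvd_mul_of_dvd_left (dvd_pow_self p h0.ne') _

/-- The core argument. -/
theorem backward (A : Subgroup G) [A.Normal] (T : Subgroup G) (hTA : T ≤ A) (hT : IsPGroup p T)
    (hidx : ¬ p ∣ T.relIndex A)
    (hA : ∀ K : Subgroup ↥A, (∃ P : Sylow p ↥A, (P : Subgroup ↥A) ≤ K) → Cfsg.IsPronormal K)
    (hQ : ∀ K : Subgroup (G ⧸ A), (∃ P : Sylow p (G ⧸ A), (P : Subgroup (G ⧸ A)) ≤ K) → Cfsg.IsPronormal K)
    (hN : ∀ M : Subgroup G, (∃ P : Sylow p G, (P : Subgroup G) ≤ M) → T ≤ M →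
      M ≤ Subgroup.normalizer (T : Set G) → Cfsg.IsPronormal (M.subgroupOf (Subgroup.normalizer (T : Set G))))
    (hii : ∀ H : Subgroup G, (∃ P : Sylow p G, (P : Subgroup G) ≤ H) → T ≤ H →
      ∀ g : G, (g : G ⧸ A) ∈ Subgroup.normalizer ((H.map (QuotientGroup.mk' A) : Subgroup (G ⧸ A)) : Set (G ⧸ A)) →
        ∃ n ∈ Subgroup.normalizer (H : Set G), g * n⁻¹ ∈ A)
    (H : Subgroup G) (P : Sylow p G) (hPH : (P : Subgroup G) ≤ H) (hTP : T ≤ (P : Subgroup G)) :
    Cfsg.IsPronormal H := by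
  intro g₀
  change ∃ x ∈ H ⊔ cj g₀ H, cj g₀ H = cj x H
  set K := H ⊔ cj g₀ H with hK
  have hHK : H ≤ K := le_sup_left
  -- modulo `A`
  obtain ⟨x', hx', hex⟩ := hQ (H.map (QuotientGroup.mk' A)) ⟨P.mapSurjective (QuotientGroup.mk'_surjective A), by
    rw [Sylow.coe_mapSurjective]; exact Subgroup.map_mono hPH⟩ (g₀ : G ⧸ A)
  change x' ∈ H.map (QuotientGroup.mk' A) ⊔ cj (QuotientGroup.mk' A g₀) (H.map (QuotientGroup.mk' A)) at hx'
  change cj (QuotientGroup.mk' A g₀) (H.map (QuotientGroup.mk' A)) = cj x' (H.map (QuotientGroup.mk' A)) at hex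
  rw [← map_cj, ← Subgroup.map_sup] at hx'
  obtain ⟨x, hx, rfl⟩ := hx'
  have hg : ((x⁻¹ * g₀ : G) : G ⧸ A) ∈
      Subgroup.normalizer ((H.map (QuotientGroup.mk' A) : Subgroup (G ⧸ A)) : Set (G ⧸ A)) := by
    refine cj_eq_iff.mp ?_
    change cj (QuotientGroup.mk' A (x⁻¹ * g₀)) _ = _
    rw [map_mul, cj_mul, hex, ← cj_mul, ← map_mul, inv_mul_cancel, map_one, cj_one]
  obtain ⟨n, hn, ha⟩ := hii H ⟨P, hPH⟩ (hTP.trans hPH) _ hg
  set a₀ := x⁻¹ * g₀ * n⁻¹ with ha₀
  have hH0 : cj g₀ H = cj x (cj a₀ H) := by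
    rw [← cj_mul]
    have e : g₀ = x * a₀ * n := by rw [ha₀]; group
    conv_lhs => rw [e, cj_mul, cj_eq_iff.mpr hn]
  have hK0 : cj a₀ H ≤ K := by
    have : cj a₀ H = cj x⁻¹ (cj g₀ H) := by rw [hH0, ← cj_mul x⁻¹ x, inv_mul_cancel, cj_one]
    rw [this]
    exact cj_le le_sup_right (K.inv_mem hx)
  -- inside `A`
  set D := H ⊓ A with hD
  have hTD : T ≤ D := le_inf (hTP.trans hPH) hTA
  obtain ⟨y, hy, hyA, hey⟩ := conj_of_pronormal_sub (U := A) (H := D) inf_le_right
    (hA _ ⟨IsPGroup.toSylow (P := T.subgroupOf A) hT.comap_subtype hidx,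
      (Subgroup.comap_mono hTD : T.subgroupOf A ≤ D.subgroupOf A)⟩) ha
  have hDa₀ : cj a₀ D ≤ K := (cj_mono inf_le_left).trans hK0
  have hyK : y ∈ K := sup_le (inf_le_left.trans hHK) hDa₀ hy
  have hu : cj (y⁻¹ * a₀) D = D := by rw [cj_mul, hey, ← cj_mul, inv_mul_cancel, cj_one]
  have hidxD : ¬ p ∣ T.relIndex D := by
    intro hd
    apply hidx
    rw [← Subgroup.relIndex_mul_relIndex T D A hTD inf_le_right]
    exact dvd_mul_of_dvd_left hd _
  obtain ⟨d, hdD, hdN⟩ := exists_mem_normalizer hT hTD hidxD hu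
  set a := d⁻¹ * (y⁻¹ * a₀) with ha'
  have hdK : d ∈ K := hHK hdD.1
  have hDa : cj a D = D := by rw [ha', cj_mul, hu, cj_eq_iff]; exact Subgroup.le_normalizer (D.inv_mem hdD)
  have hH1 : cj g₀ H = cj (x * y * d) (cj a H) := by
    rw [hH0, ← cj_mul, ← cj_mul]
    congr 1
    rw [ha']; group
  have hKa : cj a H ≤ K := by
    have : cj a H = cj (x * y * d)⁻¹ (cj g₀ H) := by rw [hH1, ← cj_mul (x * y * d)⁻¹, inv_mul_cancel, cj_one]
    rw [this]
    exact cj_le le_sup_right (K.inv_mem (K.mul_mem (K.mul_mem hx hyK) hdK))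
  -- inside the normalizer of `T`
  set N := Subgroup.normalizer (T : Set G) with hNdef
  set M := H ⊓ N with hM
  have hDn : ∀ h ∈ H, cj h D = D := by
    intro h hh
    ext z
    rw [mem_cj, hD, Subgroup.mem_inf, Subgroup.mem_inf]
    constructor
    · rintro ⟨h1, h2⟩
      have e : h * (h⁻¹ * z * h) * h⁻¹ = z := by group
      exact ⟨e ▸ H.mul_mem (H.mul_mem hh h1) (H.inv_mem hh), e ▸ Subgroup.Normal.conj_mem ‹A.Normal› _ h2 h⟩
    · rintro ⟨h1, h2⟩
      refine ⟨H.mul_mem (H.mul_mem (H.inv_mem hh) h1) hh, ?_⟩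
      simpa using Subgroup.Normal.conj_mem ‹A.Normal› _ h2 h⁻¹
  have hHDM : H ≤ D ⊔ M := by
    intro h hh
    obtain ⟨e, he, heN⟩ := exists_mem_normalizer hT hTD hidxD (hDn h hh)
    have h1 := Subgroup.mul_mem_sup he
      (show e⁻¹ * h ∈ M from ⟨H.mul_mem (H.inv_mem he.1) hh, heN⟩)
    rwa [mul_inv_cancel_left] at h1
  have hPN : (P : Subgroup G) ≤ N := by
    intro z hz
    refine cj_eq_iff.mp ?_
    rw [← inf_eq_of_le hTA hidx hTP]
    ext w
    rw [mem_cj, Subgroup.mem_inf, Subgroup.mem_inf]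
    constructor
    · rintro ⟨h1, h2⟩
      have e : z * (z⁻¹ * w * z) * z⁻¹ = w := by group
      exact ⟨e ▸ Subgroup.mul_mem _ (Subgroup.mul_mem _ hz h1) (Subgroup.inv_mem _ hz),
        e ▸ Subgroup.Normal.conj_mem ‹A.Normal› _ h2 z⟩
    · rintro ⟨h1, h2⟩
      refine ⟨Subgroup.mul_mem _ (Subgroup.mul_mem _ (Subgroup.inv_mem _ hz) h1) hz, ?_⟩
      simpa using Subgroup.Normal.conj_mem ‹A.Normal› _ h2 z⁻¹
  obtain ⟨z, hz, -, hez⟩ := conj_of_pronormal_sub (U := N) (H := M) inf_le_right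
    (hN M ⟨P, le_inf hPH hPN⟩ (le_inf (hTP.trans hPH) Subgroup.le_normalizer) inf_le_right) hdN
  have hzK : z ∈ K := sup_le (inf_le_left.trans hHK) ((cj_mono inf_le_left).trans hKa) hz
  have hzD : cj z D = D := by
    refine cj_eq_iff.mpr ((sup_le ?_ ?_ : M ⊔ cj a M ≤ Subgroup.normalizer (D : Set G)) hz)
    · exact fun m hm => cj_eq_iff.mp (hDn m hm.1)
    · intro m hm
      obtain ⟨m', hm', rfl⟩ := hm
      have h1 := cj_eq_iff.mp hDa
      exact Subgroup.mul_mem _ (Subgroup.mul_mem _ h1 (cj_eq_iff.mp (hDn m' hm'.1))) (Subgroup.inv_mem _ h1)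
  have hHeq : H = D ⊔ M := le_antisymm hHDM (sup_le inf_le_left inf_le_left)
  have hfin : cj a H = cj z H := by
    rw [hHeq, cj, Subgroup.map_sup, cj, Subgroup.map_sup]
    change cj a D ⊔ cj a M = cj z D ⊔ cj z M
    rw [hDa, hzD, hez]
  exact ⟨x * y * d * z, K.mul_mem (K.mul_mem (K.mul_mem hx hyK) hdK) hzK, by rw [hH1, hfin, ← cj_mul]⟩

/-- Let p be a prime and G a finite group with a normal subgroup A such that, both in A and in G/A, every subgroup containing a Sylow p-subgroup of that group is pronormal in that group. Let T be a Sylow p-subgroup of A. Then every subgroup of G containing a Sylow p-subgroup of G is pronormal in G if and only if (i) every subgroup of N_G(T)/T containing a Sylow p-subgroup of N_G(T)/T is pronormal there, and (ii) for every subgroup H of G containing a Sylow p-subgroup of G, the image of N_G(H) in G/A is the full normalizer of the image of H. (Pronormal: H and gHg⁻¹ are conjugate inside the subgroup they generate,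 for every g.) -/
theorem result {G : Type*} [Group G] [Finite G] {p : ℕ} [Fact p.Prime]
    (A : Subgroup G) [A.Normal] (hA : (∀ K : Subgroup ↥A, (∃ P : Sylow p ↥A, (P : Subgroup ↥A) ≤ K) → Cfsg.IsPronormal K)) (hQ : (∀ K : Subgroup (G ⧸ A), (∃ P : Sylow p (G ⧸ A), (P : Subgroup (G ⧸ A)) ≤ K) → Cfsg.IsPronormal K))
    (T : Subgroup G) (hT : ∃ P : Sylow p ↥A, (P : Subgroup ↥A).map A.subtype = T) [(T.subgroupOf (Subgroup.normalizer (T : Set G))).Normal] :
    (∀ K : Subgroup G, (∃ P : Sylow p G, (P : Subgroup G) ≤ K) → Cfsg.IsPronormal K) ↔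
      ((∀ K : Subgroup (↥(Subgroup.normalizer (T : Set G)) ⧸ T.subgroupOf (Subgroup.normalizer (T : Set G))), (∃ P : Sylow p (↥(Subgroup.normalizer (T : Set G)) ⧸ T.subgroupOf (Subgroup.normalizer (T : Set G))), (P : Subgroup (↥(Subgroup.normalizer (T : Set G)) ⧸ T.subgroupOf (Subgroup.normalizer (T : Set G)))) ≤ K) → Cfsg.IsPronormal K) ∧
        ∀ K : Subgroup G, (∃ P : Sylow p G, (P : Subgroup G) ≤ K) →
          (Subgroup.normalizer (K : Set G)).map (QuotientGroup.mk' A) = Subgroup.normalizer ((K.map (QuotientGroup.mk' A) : Subgroup (G ⧸ A)) : Set (G ⧸ A))) := by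
  obtain ⟨S, hS⟩ := hT
  have hTA : T ≤ A := hS ▸ Subgroup.map_subtype_le _
  have hTp : IsPGroup p T := hS ▸ S.2.map _
  have hidx : ¬ p ∣ T.relIndex A := by
    have : T.subgroupOf A = (S : Subgroup A) := by
      rw [← hS]; exact Subgroup.comap_map_eq_self_of_injective A.subtype_injective _
    rw [Subgroup.relIndex, this]
    exact S.not_dvd_index
  set N := Subgroup.normalizer (T : Set G) with hNdef
  set π := QuotientGroup.mk' (T.subgroupOf N) with hπ
  constructor
  · intro hall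
    constructor
    · rintro K ⟨Q, hQK⟩
      set K' := (K.comap π).map N.subtype with hK'
      obtain ⟨Q', hQ'⟩ : ∃ Q' : Sylow p N, (Q' : Subgroup N) ≤ K.comap π := by
        obtain ⟨R⟩ : Nonempty (Sylow p N) := inferInstance
        obtain ⟨k', hk⟩ := MulAction.exists_smul_eq (↥N ⧸ T.subgroupOf N) (R.mapSurjective (QuotientGroup.mk'_surjective (T.subgroupOf N))) Q
        obtain ⟨k, rfl⟩ := QuotientGroup.mk'_surjective (T.subgroupOf N) k'
        refine ⟨k • R, ?_⟩
        rw [← Subgroup.map_le_iff_le_comap]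
        refine le_trans (le_of_eq ?_) hQK
        rw [← hk, Sylow.coe_subgroup_smul, Sylow.coe_subgroup_smul, Sylow.coe_mapSurjective]
        change (cj k (R : Subgroup N)).map π = cj (π k) ((R : Subgroup N).map π)
        exact map_cj _ _ _
      obtain ⟨P, hTP⟩ := hTp.exists_le_sylow
      have hPN : (P : Subgroup G) ≤ N := by
        intro z hz
        rw [hNdef, ← inf_eq_of_le hTA hidx hTP]
        refine Subgroup.mem_normalizer_iff.mpr fun w => ?_
        constructor
        · rintro ⟨h1, h2⟩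
          exact ⟨Subgroup.mul_mem _ (Subgroup.mul_mem _ hz h1) (Subgroup.inv_mem _ hz),
            Subgroup.Normal.conj_mem ‹A.Normal› _ h2 z⟩
        · rintro ⟨h1, h2⟩
          have h1' := Subgroup.mul_mem _ (Subgroup.mul_mem _ (Subgroup.inv_mem _ hz) h1) hz
          have h2' := Subgroup.Normal.conj_mem ‹A.Normal› _ h2 z⁻¹
          simp only [inv_inv, mul_assoc, inv_mul_cancel_left, inv_mul_cancel, mul_one] at h1' h2'
          exact ⟨h1', h2'⟩
      obtain ⟨k, hk⟩ := MulAction.exists_smul_eq N (P.subtype hPN) Q'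
      have hK'P : ∃ P' : Sylow p G, (P' : Subgroup G) ≤ K' := by
        refine ⟨(k : G) • P, ?_⟩
        refine le_trans ?_ (Subgroup.map_mono (f := N.subtype) hQ')
        rw [← hk, Sylow.coe_subgroup_smul, Sylow.coe_subgroup_smul, Sylow.coe_subtype]
        change cj (k : G) P ≤ (cj k ((P : Subgroup G).subgroupOf N)).map N.subtype
        rw [map_cj, Subgroup.map_subgroupOf_eq_of_le hPN]
        exact le_rfl
      have h2 := pronormal_subgroupOf (Subgroup.map_subtype_le _) (hall K' hK'P)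
      rw [show K'.subgroupOf N = K.comap π from Subgroup.comap_map_eq_self_of_injective N.subtype_injective _] at h2
      have h3 := pronormal_map π (QuotientGroup.mk'_surjective _) h2
      rwa [Subgroup.map_comap_eq_self_of_surjective (QuotientGroup.mk'_surjective _)] at h3
    · rintro K ⟨P, hPK⟩
      refine le_antisymm (Subgroup.le_normalizer_map _) ?_
      intro q hq
      obtain ⟨g, rfl⟩ := QuotientGroup.mk'_surjective A q
      obtain ⟨x, hx, hex⟩ := hall K ⟨P, hPK⟩ g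
      have hxK : QuotientGroup.mk' A x ∈ K.map (QuotientGroup.mk' A) := by
        have h1 := Subgroup.mem_map_of_mem (QuotientGroup.mk' A) hx
        rw [Subgroup.map_sup] at h1
        change _ ∈ K.map (QuotientGroup.mk' A) ⊔ (cj g K).map (QuotientGroup.mk' A) at h1
        rwa [map_cj, cj_eq_iff.mpr hq, sup_idem] at h1
      obtain ⟨k, hk, hkx⟩ := hxK
      refine ⟨k * (x⁻¹ * g), Subgroup.mul_mem _ (Subgroup.le_normalizer hk) (cj_eq_iff.mp ?_), ?_⟩
      · have : cj g K = cj x K := hex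
        rw [cj_mul, this, ← cj_mul, inv_mul_cancel, cj_one]
      · rw [map_mul, map_mul, hkx, map_inv, mul_inv_cancel_left]
  · rintro ⟨hi, hii⟩ K ⟨P, hPK⟩
    -- move `T` inside `P`
    obtain ⟨P₀, hTP₀⟩ := hTp.exists_le_sylow
    obtain ⟨c, hc⟩ := MulAction.exists_smul_eq G P P₀
    suffices h : Cfsg.IsPronormal (cj c K) by
      have h2 := pronormal_map (MulAut.conj c⁻¹).toMonoidHom (MulAut.conj c⁻¹).surjective h
      have e : (cj c K).map (MulAut.conj c⁻¹).toMonoidHom = K := by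
        change cj c⁻¹ (cj c K) = K
        rw [← cj_mul, inv_mul_cancel, cj_one]
      rwa [e] at h2
    refine backward A T hTA hTp hidx hA hQ ?_ ?_ (cj c K) P₀ ?_ hTP₀
    · rintro M ⟨P', hP'⟩ hTM hMN
      have hk : π.ker = T.subgroupOf N := QuotientGroup.ker_mk' _
      refine pronormal_of_map π (hk.le.trans (Subgroup.comap_mono hTM)) (fun g => ?_) (hi _ ?_)
      · rw [hk]
        intro t ht
        rw [mem_cj]
        have h1 := Subgroup.Normal.conj_mem' (inferInstance : (T.subgroupOf N).Normal) t ht g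
        exact Subgroup.comap_mono hTM h1
      · obtain ⟨Q, hQ'⟩ := sylow_sub (hP'.trans hMN)
        refine ⟨Q.mapSurjective (QuotientGroup.mk'_surjective _), ?_⟩
        rw [Sylow.coe_mapSurjective, hQ']
        exact Subgroup.map_mono (Subgroup.comap_mono hP')
    · intro H hH _ g hg
      rw [← hii H hH] at hg
      obtain ⟨n, hn, hng⟩ := hg
      refine ⟨n, hn, (QuotientGroup.eq_one_iff _).mp ?_⟩
      have : (n : G ⧸ A) = (g : G ⧸ A) := hng
      rw [QuotientGroup.mk_mul, QuotientGroup.mk_inv, this, mul_inv_cancel]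
    · rw [← hc, Sylow.coe_subgroup_smul]
      exact cj_mono hPK

end Cfsg.Agent.S4270
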