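import Cfsg.Statements.S4271
import Mathlib
import Cfsg.Agent.S4270

set_option autoImplicit false
open Cfsg

namespace Cfsg.Agent.S4271

open Cfsg.Agent.S4270

theorem mem_of_self_normalizing {Q : Type*} [Group Q] [Finite Q] {p : ℕ} [Fact p.Prime]
    (hQ : ∀ P : Sylow p Q, Subgroup.normalizer ((P : Subgroup Q) : Set Q) = P)
    {P : Sylow p Q} {L : Subgroup Q} (hPL : (P : Subgroup Q) ≤ L) {g : Q}
    (hg : cj g (P : Subgroup Q) ≤ L) : g ∈ L := by
  have hle : ((g • P : Sylow p Q) : Subgroup Q) ≤ L := by rw [Sylow.coe_subgroup_smul]; exact hg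
  obtain ⟨x, hx⟩ := MulAction.exists_smul_eq L (P.subtype hPL) ((g • P).subtype hle)
  have h2 : (x : Q) • P = g • P := by
    refine Sylow.subtype_injective (hP := ?_) (hQ := hle) ?_
    · rw [Sylow.coe_subgroup_smul]; exact cj_le hPL x.2
    · rw [← hx, Sylow.smul_subtype]
      rfl
  have h3 : (x : Q)⁻¹ * g ∈ Subgroup.normalizer ((P : Subgroup Q) : Set Q) :=
    Sylow.smul_eq_iff_mem_normalizer.mp (by rw [mul_smul, ← h2, inv_smul_smul])
  rw [hQ] at h3
  simpa using L.mul_mem x.2 (hPL h3)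
/-- Let p be a prime and G a finite group with a normal subgroup A such that every subgroup of A containing a Sylow p-subgroup of A is pronormal in A, and the Sylow p-subgroups of G/A are self-normalizing. Let T be a Sylow p-subgroup of A. Then every subgroup of G containing a Sylow p-subgroup of G is pronormal in G if and only if every subgroup of N_G(T)/T containing a Sylow p-subgroup of N_G(T)/T is pronormal in N_G(T)/T. (Pronormal: H and gHg⁻¹ are conjugate inside the subgroup they generate, for every g.) -/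
theorem result {G : Type*} [Group G] [Finite G] {p : ℕ} [Fact p.Prime]
    (A : Subgroup G) [A.Normal] (hA : (∀ K : Subgroup ↥A, (∃ P : Sylow p ↥A, (P : Subgroup ↥A) ≤ K) → Cfsg.IsPronormal K))
    (hQ : ∀ P : Sylow p (G ⧸ A), Subgroup.normalizer ((P : Subgroup (G ⧸ A)) : Set (G ⧸ A)) = P)
    (T : Subgroup G) (hT : ∃ P : Sylow p ↥A, (P : Subgroup ↥A).map A.subtype = T) [(T.subgroupOf (Subgroup.normalizer (T : Set G))).Normal] :
    (∀ K : Subgroup G, (∃ P : Sylow p G, (P : Subgroup G) ≤ K) → Cfsg.IsPronormal K) ↔ (∀ K : Subgroup (↥(Subgroup.normalizer (T : Set G)) ⧸ T.subgroupOf (Subgroup.normalizer (T : Set G))), (∃ P : Sylow p (↥(Subgroup.normalizer (T : Set G)) ⧸ T.subgroupOf (Subgroup.normalizer (T : Set G))), (P : Subgroup (↥(Subgroup.normalizer (T : Set G)) ⧸ T.subgroupOf (Subgroup.normalizer (T : Set G)))) ≤ K) → Cfsg.IsPronormal K) := by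
  have hQ' : ∀ K : Subgroup (G ⧸ A), (∃ P : Sylow p (G ⧸ A), (P : Subgroup (G ⧸ A)) ≤ K) → Cfsg.IsPronormal K := by
    rintro K ⟨P, hP⟩ g
    refine ⟨g, mem_of_self_normalizing hQ (hP.trans le_sup_left) ?_, rfl⟩
    exact (cj_mono hP).trans le_sup_right
  refine (S4270.result A hA hQ' T hT).trans ⟨fun h => h.1, fun h => ⟨h, ?_⟩⟩
  rintro K ⟨P, hPK⟩
  refine le_antisymm (Subgroup.le_normalizer_map _) ?_
  intro q hq
  refine Subgroup.map_mono Subgroup.le_normalizer ?_
  have hle : ((P.mapSurjective (QuotientGroup.mk'_surjective A) : Sylow p (G ⧸ A)) : Subgroup (G ⧸ A)) ≤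
      K.map (QuotientGroup.mk' A) := by
    rw [Sylow.coe_mapSurjective]; exact Subgroup.map_mono hPK
  exact mem_of_self_normalizing hQ hle ((cj_mono hle).trans (cj_eq_iff.mpr hq).le)

end Cfsg.Agent.S4271
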