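import Cfsg.Statements.S4274
import Cfsg.Agent.Lib.SimpleSearch

set_option autoImplicit false
open Cfsg

namespace Cfsg.Agent.S4274
open Subgroup

def tab : List (ℕ × List ℕ) :=
  [(38, [19]), (57, [19, 3]), (76, [19]), (95, [19, 5]),
   (114, [19, 3]), (133, [19, 7]), (152, [19]), (190, [19, 5]),
   (209, [19, 11]), (228, [19, 3]), (266, [19, 7]), (285, [19, 5, 3]),
   (380, [19, 5]), (399, [19, 7, 3]), (418, [19, 11]), (456, [19, 3]),
   (532, [19, 7]), (570, [19, 5, 3]), (627, [19, 11, 3]), (665, [19, 7, 5]),
   (760, [19, 5]), (798, [19, 7, 3]), (836, [19, 11]), (1045, [19, 11, 5]),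
   (1064, [19, 7]), (1140, [19, 5, 3]), (1254, [19, 11, 3]), (1330, [19, 7, 5]),
   (1463, [19, 11, 7]), (1596, [19, 7, 3]), (1672, [19, 11]), (1995, [19, 7, 5, 3]),
   (2090, [19, 11, 5]), (2280, [19, 5, 3]), (2508, [19, 11, 3]), (2660, [19, 7, 5]),
   (2926, [19, 11, 7]), (3135, [19, 11, 5, 3]), (3192, [19, 7, 3]), (3990, [19, 7, 5, 3]),
   (4180, [19, 11, 5]), (4389, [19, 11, 7, 3]), (5016, [19, 11, 3]), (5320, [19, 7, 5]),
   (5852, [19, 11, 7]), (6270, [19, 11, 5, 3]), (7315, [19, 11, 7, 5]), (7980, [19, 7, 5, 3]),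
   (8360, [19, 11, 5]), (8778, [19, 11, 7, 3]), (11704, [19, 11, 7]), (12540, [19, 11, 5, 3]),
   (14630, [19, 11, 7, 5]), (15960, [19, 7, 5, 3]), (17556, [19, 11, 7, 3]), (21945, [19, 11, 7, 5, 3]),
   (25080, [19, 11, 5, 3]), (29260, [19, 11, 7, 5]), (35112, [19, 11, 7, 3]), (43890, [19, 11, 7, 5, 3]),
   (58520, [19, 11, 7, 5]), (87780, [19, 11, 7, 5, 3])]

theorem tab_kill : tab.all (fun w => SimpleSearch.kill2 w.1 w.2) = true := by
  decide +kernel

theorem tab_cover : ∀ m ∈ (Nat.divisors 19).product (Nat.divisors 9240),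
    m.1 = 19 → m.2 = 1 ∨ m.2 = 9240 ∨ 19 * m.2 ∈ tab.map Prod.fst := by
  decide +kernel

universe u

theorem subsingleton_of_not_dvd {H : Type u} [Group H] [Finite H] [Fact (Nat.Prime 19)]
    (h : ¬ 19 ∣ Nat.card H) : Subsingleton (Sylow 19 H) := by
  have hb : ∀ P : Sylow 19 H, (P : Subgroup H) = ⊥ := fun P => Subgroup.eq_bot_of_card_eq _ (by
    rw [SimpleOrder.sylow_card_of_eq (k := 0) (m := Nat.card H) (by simp) h P, pow_zero])
  exact ⟨fun P Q => Sylow.ext ((hb P).trans (hb Q).symm)⟩

theorem commute_of_small {K : Type u} [Group K] [Finite K] {Q : Subgroup K} {x : K}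
    (hx : orderOf x = 19) (hQ : Nat.card Q < 19)
    (hn : x ∈ Subgroup.normalizer (Q : Set K)) : x ∈ Subgroup.centralizer (Q : Set K) := by
  set f := Q.normalizerMonoidHom
  have h1 : f ⟨x, hn⟩ = 1 := by
    by_contra hne
    have h19 : orderOf (f ⟨x, hn⟩) = 19 := by
      have hd := orderOf_map_dvd f ⟨x, hn⟩
      rw [Subgroup.orderOf_mk, hx] at hd
      exact ((Nat.dvd_prime (by norm_num : Nat.Prime 19)).1 hd).resolve_left
        fun h => hne (orderOf_eq_one_iff.1 h)
    let g : MulAut Q →* Equiv.Perm Q :=
      { toFun := fun e => e.toEquiv, map_one' := rfl, map_mul' := fun _ _ => rfl }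
    have hg : Function.Injective g := fun a b h => MulEquiv.ext fun y => Equiv.congr_fun h y
    have hd : orderOf (g (f ⟨x, hn⟩)) ∣ Nat.card (Equiv.Perm Q) := orderOf_dvd_natCard _
    rw [orderOf_injective g hg, h19, Nat.card_perm] at hd
    have := ((Nat.Prime.dvd_factorial (by norm_num)).1 hd)
    omega
  have : (⟨x, hn⟩ : Subgroup.normalizer (Q : Set K)) ∈ f.ker := h1
  rw [Subgroup.normalizerMonoidHom_ker] at this
  exact this

/-- An extension of a small group by a group of order `19` has a normal Sylow `19`-subgroup. -/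
theorem subsingleton_extension {K : Type u} [Group K] [Finite K] [Fact (Nat.Prime 19)]
    (N : Subgroup K) [N.Normal] (hN : Nat.card N ∣ 9240) (hK : Nat.card K = 19 ^ 1 * Nat.card N) :
    Subsingleton (Sylow 19 K) := by
  have h19 : ¬ 19 ∣ Nat.card N := fun h => absurd (h.trans hN) (by norm_num)
  obtain ⟨P⟩ : Nonempty (Sylow 19 K) := inferInstance
  have hP : ∀ P : Sylow 19 K, Nat.card ↥(P : Subgroup K) = 19 := fun P => by
    rw [SimpleOrder.sylow_card_of_eq hK h19 P, pow_one]
  set M := Subgroup.normalizer ((P : Subgroup K) : Set K) with hM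
  suffices hdvd : Nat.card N ∣ Nat.card M by
    have h1 : 19 ∣ Nat.card M := by
      have := Subgroup.card_dvd_of_le (Subgroup.le_normalizer (H := (P : Subgroup K)))
      rwa [hP] at this
    have htop : M = ⊤ := Subgroup.eq_top_of_le_card _ (Nat.le_of_dvd Nat.card_pos (by
      rw [hK, pow_one]
      exact Nat.Coprime.mul_dvd_of_dvd_of_dvd
        ((Nat.Prime.coprime_iff_not_dvd (by norm_num)).2 h19) h1 hdvd))
    exact (Nat.card_eq_one_iff_unique.1 (by
      rw [P.card_eq_index_normalizer, Subgroup.index_eq_one]; exact htop)).1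
  rw [Nat.dvd_iff_prime_pow_dvd_dvd]
  intro q k hq hqk
  rcases Nat.eq_zero_or_pos k with rfl | hk0
  · simp
  have : Fact q.Prime := ⟨hq⟩
  obtain ⟨Q⟩ : Nonempty (Sylow q N) := inferInstance
  set Q0 := (Q : Subgroup N).map N.subtype with hQ0
  have hsup := Sylow.normalizer_sup_eq_top Q
  rw [← hQ0] at hsup
  set R := Subgroup.normalizer (Q0 : Set K) with hR
  have hdR : 19 ∣ Nat.card R := by
    by_contra hc
    have hcop : Nat.Coprime 19 (Nat.card R) := (Nat.Prime.coprime_iff_not_dvd (by norm_num)).2 hc
    have h1 := Subgroup.relIndex_mul_index (le_sup_right : N ≤ R ⊔ N)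
    rw [hsup, Subgroup.index_top, mul_one, Subgroup.relIndex_top_right] at h1
    have hi : N.index = 19 := by
      have := N.card_mul_index
      rw [hK, pow_one, mul_comm 19] at this
      exact Nat.eq_of_mul_eq_mul_left Nat.card_pos this
    have h2 : (N.subgroupOf R).index ∣ Nat.card R := Subgroup.index_dvd_card _
    rw [← Subgroup.relIndex, ← Subgroup.relIndex_sup_right, hsup, Subgroup.relIndex_top_right,
      hi] at h2
    exact hc h2
  obtain ⟨⟨x, hxR⟩, hx⟩ := exists_prime_orderOf_dvd_card' 19 (G := ↥R) hdR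
  rw [Subgroup.orderOf_mk] at hx
  have hQc : Nat.card Q0 = q ^ (Nat.card N).factorization q := by
    rw [hQ0, Subgroup.card_map_of_injective N.subtype_injective, Q.card_eq_multiplicity]
  have hQlt : Nat.card Q0 < 19 := by
    have hd : Nat.card Q0 ∣ 9240 := (hQc ▸ Nat.ordProj_dvd _ _).trans hN
    rw [hQc] at hd ⊢
    set a := (Nat.card N).factorization q
    rcases Nat.eq_zero_or_pos a with h | h
    · simp [h]
    have hq11 : q ∣ 9240 := (dvd_pow_self q h.ne').trans hd
    have hq' : q ∈ Nat.primeFactors 9240 := Nat.mem_primeFactors.2 ⟨hq, hq11, by norm_num⟩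
    have hb : ∀ p ∈ Nat.primeFactors 9240, ∀ b < 14, p ^ b ∣ 9240 → p ^ b < 19 := by
      have e : Nat.primeFactors 9240 = {2, 3, 5, 7, 11} := by
        ext p
        simp only [Nat.mem_primeFactors, Finset.mem_insert, Finset.mem_singleton]
        constructor
        · rintro ⟨hp, hd, -⟩
          rw [show 9240 = 2 ^ 3 * 3 * 5 * 7 * 11 by norm_num] at hd
          rcases (Nat.Prime.dvd_mul hp).1 hd with hd | hd
          · rcases (Nat.Prime.dvd_mul hp).1 hd with hd | hd
            · rcases (Nat.Prime.dvd_mul hp).1 hd with hd | hd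
              · rcases (Nat.Prime.dvd_mul hp).1 hd with hd | hd
                · exact Or.inl ((Nat.prime_dvd_prime_iff_eq hp Nat.prime_two).1 (hp.dvd_of_dvd_pow hd))
                · exact Or.inr (Or.inl ((Nat.prime_dvd_prime_iff_eq hp (by norm_num)).1 hd))
              · exact Or.inr (Or.inr (Or.inl ((Nat.prime_dvd_prime_iff_eq hp (by norm_num)).1 hd)))
            · exact Or.inr (Or.inr (Or.inr (Or.inl ((Nat.prime_dvd_prime_iff_eq hp (by norm_num)).1 hd))))
          · exact Or.inr (Or.inr (Or.inr (Or.inr ((Nat.prime_dvd_prime_iff_eq hp (by norm_num)).1 hd))))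
        · rintro (rfl | rfl | rfl | rfl | rfl) <;> norm_num
      rw [e]; decide
    refine hb q hq' a ?_ hd
    by_contra hlt
    have := Nat.le_of_dvd (by norm_num) hd
    have := (Nat.pow_le_pow_left hq.two_le a).trans this
    have := (Nat.pow_le_pow_right (show 0 < 2 by norm_num) (show 14 ≤ a by omega)).trans this
    norm_num at this
  have hxc := commute_of_small hx hQlt hxR
  obtain ⟨S, hS⟩ := (IsPGroup.of_card (G := Subgroup.zpowers x) (p := 19) (n := 1)
    (by rw [Nat.card_zpowers, hx, pow_one])).exists_le_sylow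
  have hSx : Subgroup.zpowers x = (S : Subgroup K) :=
    Subgroup.eq_of_le_of_card_ge hS (by rw [hP, Nat.card_zpowers, hx])
  have hle : Q0 ≤ Subgroup.normalizer ((S : Subgroup K) : Set K) := by
    refine le_trans ?_ (Subgroup.centralizer_le_normalizer _)
    rw [Subgroup.le_centralizer_iff, ← hSx]
    exact Subgroup.zpowers_le.2 hxc
  have e1 : Nat.card ↥(Subgroup.normalizer ((S : Subgroup K) : Set K)) = Nat.card M := by
    have h := (Subgroup.normalizer ((S : Subgroup K) : Set K)).card_mul_index
    have h' := M.card_mul_index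
    have e : (Subgroup.normalizer ((S : Subgroup K) : Set K)).index = M.index :=
      S.card_eq_index_normalizer.symm.trans P.card_eq_index_normalizer
    rw [e, ← h'] at h
    exact Nat.eq_of_mul_eq_mul_right (Nat.pos_of_ne_zero Subgroup.index_ne_zero_of_finite) h
  rw [← e1]
  refine dvd_trans ?_ (Subgroup.card_dvd_of_le hle)
  rw [hQc]
  exact pow_dvd_pow q ((hq.pow_dvd_iff_le_factorization Nat.card_pos.ne').1 hqk)

theorem main (m : ℕ) : ∀ (H : Type u) [Group H] [Finite H] [Fact (Nat.Prime 19)],
    Nat.card H = m → m ∣ 175560 → (IsSimpleGroup H → m ≠ 175560) →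
      Subsingleton (Sylow 19 H) := by
  induction m using Nat.strong_induction_on with
  | _ m ih =>
    intro H _ _ _ hm hdiv hns
    subst hm
    by_cases h19 : 19 ∣ Nat.card H
    swap
    · exact subsingleton_of_not_dvd h19
    have hlt : ∀ k, k ∣ Nat.card H → k ≠ Nat.card H → k < Nat.card H := fun k hk hne =>
      lt_of_le_of_ne (Nat.le_of_dvd Nat.card_pos hk) hne
    obtain ⟨c, hc⟩ := h19
    have hc9 : c ∣ 9240 := by
      have := hc ▸ hdiv
      exact Nat.dvd_of_mul_dvd_mul_left (k := 19) (by norm_num) (this : 19 * c ∣ 19 * 9240)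
    have hnc : ¬ 19 ∣ c := fun h => absurd (h.trans hc9) (by norm_num)
    have hP : ∀ P : Sylow 19 H, Nat.card ↥(P : Subgroup H) = 19 := fun P => by
      rw [SimpleOrder.sylow_card_of_eq (k := 1) (m := c) (by rw [hc, pow_one]) hnc P, pow_one]
    by_cases hs : IsSimpleGroup H
    · by_cases hcomm : IsMulCommutative H
      · have hpr := SimpleOrder.card_prime_of_comm hcomm
        have : ∀ P : Sylow 19 H, (P : Subgroup H) = ⊤ := fun P => Subgroup.eq_top_of_card_eq _ (by
          rw [hP]
          rcases (Nat.dvd_prime hpr).1 (Dvd.intro c hc.symm) with h | h <;> omega)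
        exact ⟨fun P Q => Sylow.ext ((this P).trans (this Q).symm)⟩
      · exfalso
        rcases tab_cover (19, c) (Finset.mem_product.2 ⟨by simp, Nat.mem_divisors.2 ⟨hc9, by norm_num⟩⟩)
            rfl with h | h | h
        · exact hcomm (by
            have : Fact (Nat.card H).Prime := ⟨by
              simp only at h
              rw [hc, h]; norm_num⟩
            have : IsCyclic H := isCyclic_of_prime_card rfl
            exact IsCyclic.isMulCommutative)
        · exact hns hs (by simp only at h; rw [hc, h])
        · obtain ⟨w, hw, hwn⟩ := List.mem_map.1 h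
          exact SimpleSearch.card_ne_of_kill2 hcomm w.2 (List.all_eq_true.1 tab_kill w hw)
            (hc.trans hwn.symm)
    · have : Nontrivial H := Finite.one_lt_card_iff_nontrivial.1 (by
        rw [hc]
        rcases Nat.eq_zero_or_pos c with rfl | h0
        · simp at hnc
        · omega)
      obtain ⟨N, hNn, hNb, hNt⟩ : ∃ N : Subgroup H, N.Normal ∧ N ≠ ⊥ ∧ N ≠ ⊤ := by
        by_contra hcon
        push Not at hcon
        exact hs ⟨fun N hN => or_iff_not_imp_left.2 (hcon N hN)⟩
      have hd := N.card_subgroup_dvd_card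
      have hNlt : Nat.card N < Nat.card H :=
        hlt _ hd fun h => hNt (Subgroup.eq_top_of_card_eq N h)
      by_cases hN19 : 19 ∣ Nat.card N
      · have hsub := ih _ hNlt N rfl (hd.trans hdiv) fun _ h => by
          have := Nat.le_of_dvd (by norm_num) hdiv; omega
        obtain ⟨R⟩ : Nonempty (Sylow 19 N) := inferInstance
        obtain ⟨S, hS⟩ := (R.2.map N.subtype).exists_le_sylow
        have hRc : Nat.card ↥((R : Subgroup N).map N.subtype) = 19 := by
          rw [Subgroup.card_map_of_injective N.subtype_injective]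
          obtain ⟨j, hj⟩ := R.2.exists_card_eq
          have h1 := Subgroup.card_dvd_of_le hS
          rw [Subgroup.card_map_of_injective N.subtype_injective, hP] at h1
          rcases (Nat.dvd_prime (by norm_num : Nat.Prime 19)).1 h1 with h | h
          · exfalso
            have h2 := R.card_eq_multiplicity
            rw [h] at h2
            have := Nat.Prime.factorization_pos_of_dvd (by norm_num : Nat.Prime 19) Nat.card_pos.ne' hN19
            have := Nat.one_lt_pow this.ne' (by norm_num : 1 < 19)
            omega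
          · exact h
        have hSN : (S : Subgroup H) ≤ N := by
          rw [← Subgroup.eq_of_le_of_card_ge hS (by rw [hP, hRc])]
          exact Subgroup.map_subtype_le _
        have hall : ∀ T : Sylow 19 H, (T : Subgroup H) ≤ N := by
          intro T
          obtain ⟨g, rfl⟩ := MulAction.exists_smul_eq H S T
          rintro _ ⟨x, hx, rfl⟩
          exact hNn.conj_mem x (hSN hx) g
        exact ⟨fun S T => Sylow.subtype_injective
          (Subsingleton.elim (S.subtype (hall S)) (T.subtype (hall T)))⟩
      · have hQd : Nat.card (H ⧸ N) ∣ Nat.card H := Subgroup.card_quotient_dvd_card N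
        have hQlt : Nat.card (H ⧸ N) < Nat.card H := hlt _ hQd fun h => hNb (by
          refine Subgroup.eq_bot_of_card_eq _ ?_
          have h1 := Subgroup.card_mul_index N
          rw [Subgroup.index, h] at h1
          exact (Nat.mul_eq_right Nat.card_pos.ne').1 h1)
        have hsub := ih _ hQlt (H ⧸ N) rfl (hQd.trans hdiv) fun _ h => by
          have := Nat.le_of_dvd (by norm_num) hdiv; omega
        obtain ⟨R⟩ : Nonempty (Sylow 19 (H ⧸ N)) := inferInstance
        set K := (R : Subgroup (H ⧸ N)).comap (QuotientGroup.mk' N) with hKdef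
        have hle : ∀ T : Sylow 19 H, (T : Subgroup H) ≤ K := by
          intro T
          rw [hKdef, ← Subgroup.map_le_iff_le_comap]
          have hp : IsPGroup 19 ↥((T : Subgroup H).map (QuotientGroup.mk' N)) := T.2.map _
          obtain ⟨R', hR'⟩ := hp.exists_le_sylow
          rwa [Subsingleton.elim R' R] at hR'
        have hNK : N ≤ K := fun z hz => by
          rw [hKdef, Subgroup.mem_comap]
          have : QuotientGroup.mk' N z = 1 := (QuotientGroup.eq_one_iff z).2 hz
          rw [this]; exact one_mem _
        have hNc : Nat.card N ∣ 9240 := by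
          refine Dvd.dvd.trans ?_ hc9
          rw [hc] at hd
          exact ((Nat.Prime.coprime_iff_not_dvd (by norm_num)).2 hN19).symm.dvd_of_dvd_mul_left hd
        have hKc : Nat.card K = 19 ^ 1 * Nat.card N := by
          have h1 := K.card_mul_index
          have h2 := (R : Subgroup (H ⧸ N)).card_mul_index
          have h3 := N.card_mul_index
          rw [hKdef, Subgroup.index_comap_of_surjective _ (QuotientGroup.mk'_surjective N), ← hKdef]
            at h1
          rw [Subgroup.index] at h3
          have hR19 : Nat.card ↥(R : Subgroup (H ⧸ N)) = 19 := by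
            refine (SimpleOrder.sylow_card_of_eq (k := 1) (m := c / Nat.card N) ?_ ?_ R).trans
              (pow_one _)
            · obtain ⟨d, hd'⟩ : Nat.card N ∣ c := by
                rw [hc] at hd
                exact ((Nat.Prime.coprime_iff_not_dvd (by norm_num)).2 hN19).symm.dvd_of_dvd_mul_left hd
              rw [hd', Nat.mul_div_cancel_left _ Nat.card_pos, pow_one]
              refine Nat.eq_of_mul_eq_mul_left (Nat.card_pos (α := N)) ?_
              rw [h3, hc, hd']; ring
            · intro h
              refine hnc (h.trans (Nat.div_dvd_of_dvd ?_))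
              rw [hc] at hd
              exact ((Nat.Prime.coprime_iff_not_dvd (by norm_num)).2 hN19).symm.dvd_of_dvd_mul_left hd
          rw [hR19] at h2
          rw [← h3, ← h2] at h1
          rw [pow_one]
          refine Nat.eq_of_mul_eq_mul_right (Nat.pos_of_ne_zero
            (Subgroup.index_ne_zero_of_finite (H := (R : Subgroup (H ⧸ N))))) ?_
          rw [h1]; ring
        have : (N.subgroupOf K).Normal := inferInstance
        have hcard := Nat.card_congr (Subgroup.subgroupOfEquivOfLe hNK).toEquiv
        have hS := subsingleton_extension (N.subgroupOf K) (hcard ▸ hNc) (by rw [hKc, hcard])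
        exact ⟨fun S T => Sylow.subtype_injective
          (Subsingleton.elim (S.subtype (hle S)) (T.subtype (hle T)))⟩


/-- A finite group of order 175560 = 2³·3·5·7·11·19 is either simple or has a normal Sylow 19-subgroup. -/
theorem result {G : Type*} [Group G] [Finite G] (hG : Nat.card G = 175560) : IsSimpleGroup G ∨ ∀ P : Sylow 19 G, (P : Subgroup G).Normal := by
  have : Fact (Nat.Prime 19) := ⟨by norm_num⟩
  rw [or_iff_not_imp_left]
  intro hs P
  have := main _ G hG (dvd_refl _) fun h _ => hs h
  exact Sylow.normal_of_subsingleton P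

end Cfsg.Agent.S4274
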