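import Cfsg.Statements.S4275
import Mathlib

set_option autoImplicit false
open Cfsg

namespace Cfsg.Agent.S4275

/-- Let G be a transitive group of permutations of a finite set Ω, let o ∈ Ω, and let α be an automorphism of G. Then α is induced by conjugation by a permutation of Ω normalizing G if and only if the image under α of the stabilizer of o fixes some point of Ω. -/
theorem result {Ω : Type*} [Fintype Ω] (G : Subgroup (Equiv.Perm Ω)) (htr : MulAction.IsPretransitive G Ω) (o : Ω) (α : G ≃* G) : (∃ σ : Equiv.Perm Ω, σ ∈ Subgroup.normalizer (G : Set (Equiv.Perm Ω)) ∧ ∀ g : G, ((α g : G) : Equiv.Perm Ω) = σ * (g : Equiv.Perm Ω) * σ⁻¹) ↔ ∃ ω : Ω, ∀ g ∈ (MulAction.stabilizer G o).map α.toMonoidHom, g • ω = ω := by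
  classical
  have := htr
  constructor
  · rintro ⟨σ, -, hσ⟩
    refine ⟨σ o, ?_⟩
    rintro _ ⟨g, hg, rfl⟩
    have hgo : (g : Equiv.Perm Ω) o = o := MulAction.mem_stabilizer_iff.mp hg
    show ((α g : G) : Equiv.Perm Ω) (σ o) = σ o
    simp [hσ g, hgo]
  · rintro ⟨ω, hω⟩
    have hle : (MulAction.stabilizer G o).map α.toMonoidHom ≤ MulAction.stabilizer G ω :=
      fun g hg => MulAction.mem_stabilizer_iff.mpr (hω g hg)
    have hidx : ((MulAction.stabilizer G o).map α.toMonoidHom).index = (MulAction.stabilizer G ω).index := by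
      rw [Subgroup.index_map_of_bijective α.bijective, MulAction.index_stabilizer_of_transitive,
        MulAction.index_stabilizer_of_transitive]
    have heq : (MulAction.stabilizer G o).map α.toMonoidHom = MulAction.stabilizer G ω := by
      rcases eq_or_lt_of_le hle with h | h
      · exact h
      · exact absurd hidx (Subgroup.index_strictAnti h).ne'
    have hiff : ∀ g h : G, g • o = h • o ↔ α g • ω = α h • ω := by
      intro g h
      rw [eq_comm, ← inv_smul_eq_iff, smul_smul, eq_comm (a := α g • ω), ← inv_smul_eq_iff, smul_smul,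
        ← map_inv, ← map_mul, ← MulAction.mem_stabilizer_iff, ← MulAction.mem_stabilizer_iff, ← heq]
      exact (Subgroup.mem_map_iff_mem (f := α.toMonoidHom) α.injective).symm
    choose t ht using fun x : Ω => MulAction.exists_smul_eq G o x
    have hinj : Function.Injective (fun x : Ω => α (t x) • ω) := by
      intro x y hxy
      rw [← ht x, ← ht y, hiff]
      exact hxy
    let σ : Equiv.Perm Ω := Equiv.ofBijective _ hinj.bijective_of_finite
    have hσ : ∀ g : G, σ (g • o) = α g • ω := fun g => (hiff _ _).mp (ht (g • o))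
    have hconj : ∀ g : G, ((α g : G) : Equiv.Perm Ω) = σ * (g : Equiv.Perm Ω) * σ⁻¹ := by
      intro g
      rw [eq_mul_inv_iff_mul_eq]
      refine Equiv.ext fun x => ?_
      obtain ⟨h, rfl⟩ := MulAction.exists_smul_eq G o x
      show α g • σ (h • o) = σ (g • h • o)
      rw [hσ, smul_smul, smul_smul, hσ, map_mul]
    refine ⟨σ, ?_, hconj⟩
    rw [Subgroup.mem_normalizer_iff]
    intro g
    constructor
    · intro hg
      have := hconj ⟨g, hg⟩
      simp only at this
      rw [← this]
      exact SetLike.coe_mem _
    · intro hg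
      have h := hconj (α.symm ⟨_, hg⟩)
      simp only [MulEquiv.apply_symm_apply] at h
      have : g = ((α.symm ⟨_, hg⟩ : G) : Equiv.Perm Ω) :=
        mul_left_cancel (mul_right_cancel h)
      rw [this]
      exact SetLike.coe_mem _

end Cfsg.Agent.S4275
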