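import Cfsg.Statements.S4276
import Mathlib
import Cfsg.Agent.S4275

set_option autoImplicit false
open Cfsg

namespace Cfsg.Agent.S4276

/-- Integrality argument: the orbit length is `1` or `n - 1`. -/
theorem arith {n k : ℕ} {l a b : ℤ} {m : ℕ} (hm : Odd m) (hk1 : 1 ≤ k) (hkn : k < n) (hcop : k.Coprime n)
    (hl0 : 0 ≤ l) (hl : (k : ℤ) * k = k + l * (n - 1)) (hsum : a + b * n = (k : ℤ) ^ m)
    (hsq : a ^ 2 = ((k : ℤ) - l) ^ m) : k = 1 ∨ k = n - 1 := by
  obtain ⟨t, rfl⟩ := hm
  have hkl : 0 < (k : ℤ) - l := by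
    have h1 : l * ((n : ℤ) - 1) = (k : ℤ) * ((k : ℤ) - 1) := by linarith
    nlinarith
  -- `k - l` is a square
  obtain ⟨q, hq0, hq⟩ : ∃ q : ℕ, 0 < q ∧ ((q : ℤ) ^ 2 = (k : ℤ) - l) := by
    obtain ⟨N, hN⟩ : ∃ N : ℕ, (N : ℤ) = (k : ℤ) - l := ⟨((k : ℤ) - l).toNat, Int.toNat_of_nonneg hkl.le⟩
    rw [← hN] at hsq hkl ⊢
    have hNpos : 0 < N := by exact_mod_cast hkl
    have hsqN : a.natAbs ^ 2 = N ^ (2 * t + 1) := by
      have := congrArg Int.natAbs hsq
      simpa [Int.natAbs_pow] using this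
    have hd : (N ^ t) ^ 2 ∣ a.natAbs ^ 2 := ⟨N, by rw [hsqN, ← pow_mul, pow_succ, mul_comm t]⟩
    obtain ⟨q, hq⟩ := (Nat.pow_dvd_pow_iff two_ne_zero).mp hd
    have hqq : q ^ 2 = N := by
      have h2 : (N ^ t) ^ 2 * q ^ 2 = (N ^ t) ^ 2 * N := by
        rw [← mul_pow, ← hq, hsqN, ← pow_mul, pow_succ, mul_comm t]
      exact Nat.eq_of_mul_eq_mul_left (pow_pos (pow_pos hNpos t) 2) h2
    refine ⟨q, Nat.pos_of_ne_zero fun h => ?_, by exact_mod_cast hqq⟩
    subst h
    simp at hqq
    omega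
  have ha : a = (q : ℤ) ^ (2 * t + 1) ∨ a = -(q : ℤ) ^ (2 * t + 1) := by
    rw [← sq_eq_sq_iff_eq_or_eq_neg, hsq, ← hq, ← pow_mul, ← pow_mul, mul_comm]
  -- compare modulo `n`
  have hk2 : ((k : ℤ) : ZMod n) ^ 2 = ((q : ℤ) : ZMod n) ^ 2 := by
    rw [← Int.cast_pow, ← Int.cast_pow, hq, pow_two, hl]
    push_cast
    rw [ZMod.natCast_self]
    ring
  have hsumn : ((a : ℤ) : ZMod n) = ((k : ℤ) : ZMod n) ^ (2 * t + 1) := by
    rw [← Int.cast_pow, ← hsum]
    push_cast
    rw [ZMod.natCast_self, mul_zero, add_zero]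
  rw [pow_succ, pow_mul, hk2, ← pow_mul] at hsumn
  have hqu : IsUnit ((((q : ℤ) : ZMod n)) ^ (2 * t)) := by
    refine IsUnit.pow _ ?_
    have hku : IsUnit ((((k : ℤ) : ZMod n)) ^ 2) := by
      refine IsUnit.pow _ ?_
      rw [Int.cast_natCast]
      exact (ZMod.isUnit_iff_coprime k n).mpr hcop
    rw [hk2, isUnit_pow_iff two_ne_zero] at hku
    exact hku
  have hqle : q ≤ k := by
    have : (q : ℤ) ^ 2 ≤ k := by rw [hq]; linarith
    nlinarith
  rcases ha with ha | ha <;> rw [ha] at hsumn <;> push_cast at hsumn hqu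
  · rw [pow_succ] at hsumn
    have h1 := hqu.mul_left_cancel hsumn
    have h2 := congrArg ZMod.val h1
    rw [ZMod.val_natCast, ZMod.val_natCast, Nat.mod_eq_of_lt (lt_of_le_of_lt hqle hkn), Nat.mod_eq_of_lt hkn] at h2
    subst h2
    left
    have : (q : ℤ) ^ 2 ≤ q := by rw [hq]; linarith
    nlinarith
  · rw [pow_succ, ← mul_neg] at hsumn
    have h1 := hqu.mul_left_cancel hsumn
    have h2 : ((k + q : ℕ) : ZMod n) = 0 := by
      rw [Nat.cast_add, ← h1, neg_add_cancel]
    obtain ⟨c, hc⟩ := (ZMod.natCast_eq_zero_iff _ _).mp h2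
    have hc1 : c = 1 := by
      have : c < 2 := by
        by_contra h
        push Not at h
        have : n * 2 ≤ n * c := Nat.mul_le_mul_left n h
        omega
      rcases Nat.eq_zero_or_pos c with h | h
      · subst h; omega
      · omega
    subst hc1
    right
    have hqn : (q : ℤ) = n - k := by omega
    rw [hqn] at hq
    have h3 : ((n : ℤ) - k) * ((n : ℤ) - k) * ((n : ℤ) - 1) = (k : ℤ) * ((n : ℤ) - k) := by
      rw [← pow_two, hq]; linarith
    have h4 : ((n : ℤ) - k) * ((n : ℤ) - 1) = (k : ℤ) :=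
      mul_right_cancel₀ (b := (n : ℤ) - k) (by omega) (by linarith)
    by_contra hne
    have h5 : (2 : ℤ) ≤ (n : ℤ) - k := by omega
    nlinarith

/-- Let G be a doubly transitive group of permutations of a finite set Ω of size n, let o ∈ Ω, and let α be an automorphism of G of odd order. Suppose that the image under α of the stabilizer of o has an orbit on Ω whose length k is coprime to n. Then α is induced by conjugation by a permutation of Ω normalizing G, and k = 1 or k = n − 1. -/
theorem result {Ω : Type*} [Fintype Ω] (G : Subgroup (Equiv.Perm Ω)) (h2 : MulAction.IsMultiplyPretransitive G Ω 2) (o : Ω) (α : MulAut G) (hα : Odd (orderOf α)) (ω : Ω) (hk : (Nat.card (MulAction.orbit ((MulAction.stabilizer G o).map α.toMonoidHom) ω)).Coprime (Fintype.card Ω)) : (∃ σ : Equiv.Perm Ω, σ ∈ Subgroup.normalizer (G : Set (Equiv.Perm Ω)) ∧ ∀ g : G, ((α g : G) : Equiv.Perm Ω) = σ * (g : Equiv.Perm Ω) * σ⁻¹) ∧ (Nat.card (MulAction.orbit ((MulAction.stabilizer G o).map α.toMonoidHom)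 ω) = 1 ∨ Nat.card (MulAction.orbit ((MulAction.stabilizer G o).map α.toMonoidHom) ω) = Fintype.card Ω - 1) := by
  classical
  have := h2
  set M := (MulAction.stabilizer G o).map α.toMonoidHom with hM
  set k := Nat.card (MulAction.orbit M ω) with hkdef
  set n := Fintype.card Ω with hn
  suffices hmain : k = 1 ∨ k = n - 1 by
    refine ⟨?_, hmain⟩
    have htr : MulAction.IsPretransitive G Ω := MulAction.isPretransitive_of_is_two_pretransitive
    refine (S4275.result G htr o α).mpr ?_
    rcases hmain with h | h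
    · refine ⟨ω, fun g hg => ?_⟩
      obtain ⟨hs, -⟩ := Nat.card_eq_one_iff_unique.mp h
      exact congrArg Subtype.val (hs.elim ⟨g • ω, ⟨⟨g, hg⟩, rfl⟩⟩ ⟨ω, MulAction.mem_orbit_self ω⟩)
    · have hk1 : 1 ≤ k := Nat.one_le_iff_ne_zero.mpr (by
        rw [hkdef, Nat.card_ne_zero]; exact ⟨⟨⟨ω, MulAction.mem_orbit_self ω⟩⟩, inferInstance⟩)
      have hcompl : (MulAction.orbit M ω)ᶜ.ncard = 1 := by
        have h1 := Set.ncard_add_ncard_compl (MulAction.orbit M ω)
        rw [← Nat.card_coe_set_eq, ← hkdef, Nat.card_eq_fintype_card, ← hn] at h1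
        omega
      obtain ⟨y, hy⟩ := Set.ncard_eq_one.mp hcompl
      refine ⟨y, fun g hg => ?_⟩
      have hmem : g • y ∈ (MulAction.orbit M ω)ᶜ := by
        intro hgy
        have : y ∈ MulAction.orbit M ω := by
          rw [← MulAction.orbit_eq_iff.mpr hgy]
          exact ⟨⟨g, hg⟩⁻¹, inv_smul_smul (⟨g, hg⟩ : M) y⟩
        exact (hy.ge (Set.mem_singleton y) : y ∈ (MulAction.orbit M ω)ᶜ) this
      rw [hy] at hmem
      exact hmem
  by_cases hn1 : n ≤ 1
  · left
    have hs : Subsingleton Ω := Fintype.card_le_one_iff_subsingleton.mp hn1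
    exact Nat.card_eq_one_iff_unique.mpr ⟨inferInstance, ⟨⟨ω, MulAction.mem_orbit_self ω⟩⟩⟩
  push Not at hn1
  have htr : MulAction.IsPretransitive G Ω := MulAction.isPretransitive_of_is_two_pretransitive
  have h2p : ∀ {a b c d : Ω}, a ≠ b → c ≠ d → ∃ g : G, g • a = c ∧ g • b = d := MulAction.is_two_pretransitive_iff.mp h2
  let R : Ω → Ω → Prop := fun x y => ∃ g : G, g • o = x ∧ α g • ω = y
  let A : Matrix Ω Ω ℤ := fun x y => if R x y then 1 else 0
  let J : Matrix Ω Ω ℤ := Matrix.of fun _ _ => 1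
  have hJ : ∀ x z, J x z = 1 := fun _ _ => rfl
  have hev : ∀ (a b : ℤ) (x z : Ω),
      (a • (1 : Matrix Ω Ω ℤ) + b • J) x z = (if x = z then a else 0) + b := by
    intro a b x z
    rw [Matrix.add_apply, Matrix.smul_apply, Matrix.smul_apply, Matrix.one_apply, hJ]
    split <;> simp
  have hevJ : ∀ (c : ℤ) (x z : Ω), (c • J) x z = c := by
    intro c x z
    rw [Matrix.smul_apply, hJ, smul_eq_mul, mul_one]
  have hRinv : ∀ (g : G) x y, R (g • x) (α g • y) ↔ R x y := by
    intro g x y
    constructor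
    · rintro ⟨h, h1, h2⟩
      exact ⟨g⁻¹ * h, by rw [mul_smul, h1, inv_smul_smul], by rw [map_mul, map_inv, mul_smul, h2, inv_smul_smul]⟩
    · rintro ⟨h, h1, h2⟩
      exact ⟨g * h, by rw [mul_smul, h1], by rw [map_mul, mul_smul, h2]⟩
  have hAinv : ∀ (g : G) x y, A (g • x) (α g • y) = A x y := fun g x y => by
    simp only [A, hRinv]
  have hrow : ∀ x, ∑ y, A x y = (k : ℤ) := by
    intro x
    obtain ⟨g, rfl⟩ := MulAction.exists_smul_eq G o x
    rw [← Equiv.sum_comp (MulAction.toPerm (α g))]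
    simp only [MulAction.toPerm_apply, hAinv]
    rw [Finset.sum_boole, hkdef, Nat.card_coe_set_eq, Set.ncard_eq_toFinset_card']
    congr 2
    ext y
    simp only [Finset.mem_filter, Finset.mem_univ, true_and, Set.mem_toFinset]
    constructor
    · rintro ⟨h, h1, rfl⟩
      exact ⟨⟨α h, h, h1, rfl⟩, rfl⟩
    · rintro ⟨⟨_, h, h1, rfl⟩, rfl⟩
      exact ⟨h, h1, rfl⟩
  have hshape : ∀ B : Matrix Ω Ω ℤ, (∀ (g : G) x z, B (g • x) (g • z) = B x z) →
      ∃ a b : ℤ, B = a • (1 : Matrix Ω Ω ℤ) + b • J := by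
    intro B hB
    obtain ⟨x₁, hx₁⟩ : ∃ x, x ≠ o := Fintype.exists_ne_of_one_lt_card hn1 o
    refine ⟨B o o - B o x₁, B o x₁, Matrix.ext fun x z => ?_⟩
    rcases eq_or_ne x z with rfl | hxz
    · obtain ⟨g, rfl⟩ := MulAction.exists_smul_eq G o x
      rw [hB, hev, if_pos rfl, sub_add_cancel]
    · obtain ⟨g, rfl, rfl⟩ := h2p hx₁.symm hxz
      rw [hB, hev, if_neg hxz, zero_add]
  have hone : ∀ (B : Matrix Ω Ω ℤ) (c : ℤ), (∀ x, ∑ y, B x y = c) → B * J = c • J := by
    intro B c h
    refine Matrix.ext fun x z => ?_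
    rw [hevJ, Matrix.mul_apply]; simp only [hJ, mul_one, h x]
  have hJt : J.transpose = J := rfl
  have hpow : ∀ (j : ℕ) (g : G) x z, (A ^ j) (g • x) ((α ^ j) g • z) = (A ^ j) x z := by
    intro j
    induction j with
    | zero =>
      intro g x z
      simp [Matrix.one_apply]
    | succ j ih =>
      intro g x z
      rw [pow_succ, Matrix.mul_apply, Matrix.mul_apply, ← Equiv.sum_comp (MulAction.toPerm ((α ^ j) g))]
      refine Finset.sum_congr rfl fun y _ => ?_
      simp only [MulAction.toPerm_apply, ih]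
      congr 1
      rw [pow_succ', MulAut.mul_apply]
      exact hAinv _ _ _
  have hAJ : ∀ j : ℕ, A ^ j * J = ((k : ℤ) ^ j) • J := by
    intro j
    induction j with
    | zero => simp
    | succ j ih => rw [pow_succ, Matrix.mul_assoc, hone A k hrow, Matrix.mul_smul, ih, smul_smul, pow_succ, mul_comm]
  obtain ⟨a₁, l, hAAt⟩ := hshape (A * A.transpose) (fun g x z => by
    simp only [Matrix.mul_apply, Matrix.transpose_apply]
    rw [← Equiv.sum_comp (MulAction.toPerm (α g))]
    simp only [MulAction.toPerm_apply, hAinv])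
  have hsqA : ∀ x y, A x y * A x y = A x y := fun x y => by simp only [A]; split <;> simp
  obtain ⟨x₁, hx₁⟩ : ∃ x, x ≠ o := Fintype.exists_ne_of_one_lt_card hn1 o
  have hdiag : a₁ + l = k := by
    have := congrFun (congrFun hAAt o) o
    simp only [Matrix.mul_apply, Matrix.transpose_apply, hsqA, hrow] at this
    rw [hev, if_pos rfl] at this
    linarith
  have hl0 : 0 ≤ l := by
    have := congrFun (congrFun hAAt o) x₁
    rw [hev, if_neg hx₁.symm, zero_add, Matrix.mul_apply] at this
    simp only [Matrix.transpose_apply] at this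
    rw [← this]
    refine Finset.sum_nonneg fun y _ => ?_
    simp only [A]
    split <;> split <;> norm_num
  have hl : (k : ℤ) * k = k + l * (n - 1) := by
    have hAtJ : A * A.transpose * J = ((k : ℤ) * k) • J := by
      have hcol : ∀ y, ∑ x, A x y = (k : ℤ) := by
        have hconst : ∀ y, ∑ x, A x y = ∑ x, A x ω := by
          intro y
          obtain ⟨g, rfl⟩ := MulAction.exists_smul_eq G ω y
          obtain ⟨g, rfl⟩ := α.surjective g
          rw [← Equiv.sum_comp (MulAction.toPerm g)]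
          simp only [MulAction.toPerm_apply, hAinv]
        have htot : ∑ y, ∑ x, A x y = ∑ x, ∑ y, A x y := Finset.sum_comm
        simp only [hrow, Finset.sum_const, Finset.card_univ] at htot
        rw [Finset.sum_congr rfl (fun y _ => hconst y), Finset.sum_const, Finset.card_univ] at htot
        intro y
        rw [hconst y]
        simp only [nsmul_eq_mul] at htot
        exact mul_left_cancel₀ (by exact_mod_cast (by omega : Fintype.card Ω ≠ 0)) htot
      rw [Matrix.mul_assoc, hone A.transpose k (fun x => by simp only [Matrix.transpose_apply, hcol]),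
        Matrix.mul_smul, hone A k hrow, smul_smul]
    rw [hAAt] at hAtJ
    have := congrFun (congrFun hAtJ o) o
    rw [hevJ, Matrix.mul_apply] at this
    simp only [hev, hJ, mul_one, Finset.sum_add_distrib, Finset.sum_ite_eq, Finset.mem_univ, if_true, Finset.sum_const, Finset.card_univ, nsmul_eq_mul, ← hn] at this
    linear_combination -this + hdiag
  obtain ⟨m, hm, hαm⟩ : ∃ m : ℕ, Odd m ∧ α ^ m = 1 := ⟨orderOf α, hα, pow_orderOf_eq_one α⟩
  obtain ⟨a, b, hAm⟩ := hshape (A ^ m) (fun g x z => by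
    have := hpow m g x z
    rwa [hαm, MulAut.one_apply] at this)
  have hsum : a + b * n = (k : ℤ) ^ m := by
    have h1 := hAJ m
    rw [hAm] at h1
    have := congrFun (congrFun h1 o) o
    rw [hevJ, Matrix.mul_apply] at this
    simp only [hev, hJ, mul_one, Finset.sum_add_distrib, Finset.sum_ite_eq, Finset.mem_univ, if_true, Finset.sum_const, Finset.card_univ, nsmul_eq_mul, ← hn] at this
    linarith
  have hsq : a ^ 2 = ((k : ℤ) - l) ^ m := by
    have key : ∀ j : ℕ, ∃ c : ℤ, A ^ j * (A ^ j).transpose = ((k : ℤ) - l) ^ j • (1 : Matrix Ω Ω ℤ) + c • J := by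
      intro j
      induction j with
      | zero => exact ⟨0, by simp⟩
      | succ j ih =>
        obtain ⟨c, hc⟩ := ih
        refine ⟨((k : ℤ) - l) * c + l * ((k : ℤ) ^ j * (k : ℤ) ^ j), ?_⟩
        rw [pow_succ A, Matrix.transpose_mul, Matrix.mul_assoc, ← Matrix.mul_assoc A A.transpose, hAAt,
          show a₁ = (k : ℤ) - l by linarith]
        simp only [Matrix.add_mul, Matrix.smul_mul, Matrix.one_mul, Matrix.mul_add, Matrix.mul_smul]
        have hJt' : J * (A ^ j).transpose = ((k : ℤ) ^ j) • J := by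
          rw [← hJt, ← Matrix.transpose_mul, hAJ j, Matrix.transpose_smul]
        rw [hJt', Matrix.mul_smul, hAJ j, hc, smul_add, smul_smul, smul_smul, smul_smul, smul_smul, pow_succ']
        module
    obtain ⟨c, hc⟩ := key m
    rw [hAm] at hc
    have e1 := congrFun (congrFun hc o) o
    have e2 := congrFun (congrFun hc o) x₁
    simp only [Matrix.mul_apply, Matrix.transpose_apply, hev, mul_add, add_mul, ite_mul, mul_ite,
      zero_mul, mul_zero, Finset.sum_add_distrib, Finset.sum_ite_eq, Finset.mem_univ, 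
      if_pos, if_neg hx₁.symm, Finset.sum_const, Finset.card_univ, nsmul_eq_mul] at e1 e2
    linear_combination e1 - e2
  have hkpos : 1 ≤ k := Nat.one_le_iff_ne_zero.mpr (by
    rw [hkdef, Nat.card_ne_zero]; exact ⟨⟨⟨ω, MulAction.mem_orbit_self ω⟩⟩, inferInstance⟩)
  have hkn : k < n := by
    have hle : k ≤ n := by
      rw [hkdef, hn, ← Nat.card_eq_fintype_card]
      exact Nat.card_le_card_of_injective _ Subtype.val_injective
    rcases hle.lt_or_eq with h | h
    · exact h
    · exfalso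
      change k.Coprime n at hk
      rw [h] at hk
      have := (Nat.coprime_self n).mp hk
      omega
  exact arith hm hkpos hkn hk hl0 hl hsum hsq

end Cfsg.Agent.S4276
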