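import Mathlib
import Mathlib
import Cfsg.Statements.S4277

set_option autoImplicit false
set_option linter.unusedVariables false
set_option linter.unusedSectionVars false
open Cfsg

namespace Cfsg.Agent.S4277

open Polynomial Matrix
open scoped commutatorElement

variable {G : Type*} [Group G] {p : ℕ} [Fact p.Prime]

/-- The matrix of a permutation of `ZMod p`. -/
noncomputable def permMat (π : Equiv.Perm (ZMod p)) : Matrix (ZMod p) (ZMod p) ℚ :=
  fun i j => if i = π j then 1 else 0

/-- The shift matrix. -/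
noncomputable def shift : Matrix (ZMod p) (ZMod p) ℚ := fun i j => if i = j + 1 then 1 else 0

theorem shift_pow (n : ℕ) (i j : ZMod p) :
    ((shift : Matrix (ZMod p) (ZMod p) ℚ) ^ n) i j = if i = j + (n : ZMod p) then 1 else 0 := by
  induction n generalizing i j with
  | zero => simp [Matrix.one_apply]
  | succ n ih =>
    rw [pow_succ, Matrix.mul_apply, Finset.sum_eq_single (j + 1)]
    · simp [ih, shift, add_assoc, add_comm (1 : ZMod p)]
    · intro b _ hb; simp [shift, hb]
    · simp

theorem shift_pow_p : (shift : Matrix (ZMod p) (ZMod p) ℚ) ^ p = 1 := by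
  ext i j; simp [shift_pow, Matrix.one_apply]

/-- A non-trivial invariant relation on `ZMod p` gives an invertible circulant intertwiner. -/
theorem exists_circulant [Finite G] (σ : G →* Equiv.Perm (ZMod p)) (x : G)
    (hx : ∀ i, σ x i = i + 1) (h2 : ¬ p ^ 2 ∣ Nat.card G) (φ : MulAut G) (hφ : φ x = x) :
    ∃ q q' : ℚ[X], aeval (shift : Matrix (ZMod p) (ZMod p) ℚ) (q * q') = 1 ∧
      ∀ g, aeval shift q * permMat (σ g) = permMat (σ (φ g)) * aeval shift q := by
  classical
  letI : MulAction G (ZMod p × ZMod p) :=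
    { smul := fun g v => (σ (φ g) v.1, σ g v.2)
      one_smul := fun v => by
        show (σ (φ 1) v.1, σ 1 v.2) = v
        simp
      mul_smul := fun g h v => by
        show (σ (φ (g * h)) v.1, σ (g * h) v.2) = (σ (φ g) (σ (φ h) v.1), σ g (σ h v.2))
        simp }
  have hsmul : ∀ (g : G) (a b : ZMod p), g • (a, b) = (σ (φ g) a, σ g b) := fun g a b => rfl
  set D := MulAction.orbit G ((0 : ZMod p), (0 : ZMod p)) with hD
  have hinv : ∀ g : G, ∀ v : ZMod p × ZMod p, g • v ∈ D ↔ v ∈ D := by
    intro g v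
    constructor
    · rintro ⟨k, hk⟩; exact ⟨g⁻¹ * k, by simp only at hk ⊢; rw [mul_smul, hk, inv_smul_smul]⟩
    · rintro ⟨k, hk⟩; exact ⟨g * k, by simp only at hk ⊢; rw [mul_smul, hk]⟩
  have hxn : ∀ (n : ℕ) (i : ZMod p), σ (x ^ n) i = i + n := by
    intro n
    induction n with
    | zero => simp
    | succ n ih => intro i; rw [pow_succ, map_mul, Equiv.Perm.mul_apply, hx, ih]; push_cast; ring
  have hdiff : ∀ i j : ZMod p, (i, j) ∈ D ↔ (i - j, 0) ∈ D := by
    intro i j
    rw [← hinv (x ^ j.val) (i - j, 0), hsmul, map_pow, hφ, hxn, hxn]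
    simp
  have hne : ∃ k : ZMod p, (k, (0 : ZMod p)) ∉ D := by
    by_contra hall
    push Not at hall
    apply h2
    have huniv : D = Set.univ := Set.eq_univ_of_forall fun v => (hdiff v.1 v.2).mpr (hall _)
    have h := MulAction.index_stabilizer G ((0 : ZMod p), (0 : ZMod p))
    rw [← hD, huniv, Set.ncard_univ, Nat.card_prod, Nat.card_zmod] at h
    rw [sq, ← h]
    exact Subgroup.index_dvd_card _
  set d : ℕ → ℚ := fun n => if ((n : ZMod p), (0 : ZMod p)) ∈ D then 1 else 0 with hd
  set q : ℚ[X] := ∑ n ∈ Finset.range p, C (d n) * X ^ n with hq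
  have hcoeff : ∀ n < p, q.coeff n = d n := by
    intro n hn
    simp [hq, coeff_C_mul, coeff_X_pow, hn]
  have hdeg : q.natDegree ≤ p - 1 := by
    refine natDegree_sum_le_of_forall_le _ _ fun n hn => (natDegree_C_mul_X_pow_le _ _).trans ?_
    have := Finset.mem_range.mp hn
    omega
  have hd0 : d 0 = 1 := by
    simp only [hd, Nat.cast_zero]
    exact if_pos (MulAction.mem_orbit_self _)
  have hppos := (Fact.out : p.Prime).pos
  have hK : ∀ i j, aeval (shift : Matrix (ZMod p) (ZMod p) ℚ) q i j =
      if (i, j) ∈ D then 1 else 0 := by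
    intro i j
    simp only [hq, map_sum, map_mul, aeval_C, map_pow, aeval_X, Matrix.sum_apply,
      ← Algebra.smul_def, Matrix.smul_apply, shift_pow, smul_eq_mul]
    rw [Finset.sum_eq_single (i - j).val]
    · simp [hd, ← hdiff]
    · intro n hn hne
      rw [if_neg, mul_zero]
      intro h
      apply hne
      rw [h, add_sub_cancel_left, ZMod.val_cast_of_lt (Finset.mem_range.mp hn)]
    · exact fun h => absurd (Finset.mem_range.mpr (ZMod.val_lt _)) h
  have hcop : IsCoprime q (X ^ p - 1) := by
    rw [← cyclotomic_prime_mul_X_sub_one ℚ p]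
    refine IsCoprime.mul_right ?_ ?_
    · refine (((cyclotomic.irreducible_rat hppos).coprime_iff_not_dvd).mpr ?_).symm
      rintro ⟨r, hr⟩
      obtain ⟨k, hk⟩ := hne
      have hr0 : r.natDegree = 0 := by
        by_cases h0 : r = 0
        · simp [h0]
        have := natDegree_mul (cyclotomic_ne_zero p ℚ) h0
        rw [← hr, natDegree_cyclotomic, Nat.totient_prime Fact.out] at this
        omega
      have hco : ∀ n < p, d n = r.coeff 0 := by
        intro n hn
        have h1 := hcoeff n hn
        rw [hr, eq_C_of_natDegree_eq_zero hr0, coeff_mul_C, cyclotomic_prime,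
          finset_sum_coeff] at h1
        simpa [coeff_X_pow, hn] using h1.symm
      have h3 := hco k.val (ZMod.val_lt k)
      rw [← hco 0 hppos, hd0] at h3
      simp [hd, hk] at h3
    · refine ((irreducible_X_sub_C (1 : ℚ)).coprime_iff_not_dvd.mpr ?_).symm
      rw [dvd_iff_isRoot, IsRoot.def, hq, eval_finset_sum]
      refine ne_of_gt (Finset.sum_pos' (fun n _ => ?_) ⟨0, Finset.mem_range.mpr hppos, ?_⟩)
      · simp only [eval_mul, eval_C, eval_pow, eval_X, one_pow, mul_one, hd]
        split <;> norm_num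
      · simp [hd0]
  obtain ⟨a, b, hab⟩ := hcop
  refine ⟨q, a, ?_, fun g => ?_⟩
  · have := congrArg (aeval (shift : Matrix (ZMod p) (ZMod p) ℚ)) hab
    simpa [shift_pow_p, mul_comm q a] using this
  · ext i j
    rw [Matrix.mul_apply, Matrix.mul_apply, Finset.sum_eq_single (σ g j),
      Finset.sum_eq_single ((σ (φ g)).symm i)]
    · simp only [permMat, hK, if_true, Equiv.apply_symm_apply, mul_one, one_mul]
      congr 1
      refine propext ?_
      rw [← hinv g ((σ (φ g)).symm i, j), hsmul, Equiv.apply_symm_apply]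
    · intro b _ hb; simp [permMat]; intro h; exact absurd (by rw [h, Equiv.symm_apply_apply]) hb
    · simp
    · intro b _ hb; simp [permMat, hb]
    · simp

/-- Automorphisms fixing a regular element of order `p` commute. -/
theorem commute_of_fix [Finite G] (σ : G →* Equiv.Perm (ZMod p)) (hσ : Function.Injective σ)
    (x : G) (hx : ∀ i, σ x i = i + 1) (h2 : ¬ p ^ 2 ∣ Nat.card G) (φ ψ : MulAut G)
    (hφ : φ x = x) (hψ : ψ x = x) : φ * ψ = ψ * φ := by
  obtain ⟨q, q', hq1, hq⟩ := exists_circulant σ x hx h2 φ hφ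
  obtain ⟨r, r', hr1, hr⟩ := exists_circulant σ x hx h2 ψ hψ
  refine MulEquiv.ext fun g => hσ (Equiv.ext fun i => ?_)
  have e1 : permMat (σ (φ (ψ g))) * aeval shift (q * r) = aeval shift (q * r) * permMat (σ g) := by
    rw [map_mul, ← mul_assoc, ← hq, mul_assoc, ← hr, mul_assoc]
  have e2 : permMat (σ (ψ (φ g))) * aeval shift (q * r) = aeval shift (q * r) * permMat (σ g) := by
    rw [mul_comm q r, map_mul, ← mul_assoc, ← hr, mul_assoc, ← hq, mul_assoc]
  have e3 : permMat (σ (φ (ψ g))) = permMat (σ (ψ (φ g))) := by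
    have h := congrArg (· * aeval (shift : Matrix (ZMod p) (ZMod p) ℚ) (q' * r')) (e1.trans e2.symm)
    simp only [mul_assoc, ← map_mul] at h
    have h1 : aeval (shift : Matrix (ZMod p) (ZMod p) ℚ) (q * r * (q' * r')) = 1 := by
      rw [mul_mul_mul_comm, map_mul, hq1, hr1, one_mul]
    rwa [← mul_assoc q r, h1, mul_one, mul_one] at h
  have h4 := congrFun (congrFun e3 (σ (φ (ψ g)) i)) i
  simp [permMat] at h4
  exact h4

/-- A simple group with a subgroup of prime index has a permutation model on `ZMod p`. -/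
theorem exists_model [Finite G] [IsSimpleGroup G] (H : Subgroup G) (hH : H.index = p) :
    ¬ p ^ 2 ∣ Nat.card G ∧ ∃ (σ : G →* Equiv.Perm (ZMod p)) (x : G),
      Function.Injective σ ∧ orderOf x = p ∧ ∀ i, σ x i = i + 1 := by
  classical
  have hp : p.Prime := Fact.out
  set τ := MulAction.toPermHom G (G ⧸ H) with hτ
  have hinj : Function.Injective τ := by
    rw [← MonoidHom.ker_eq_bot_iff, hτ, ← Subgroup.normalCore_eq_ker]
    refine (IsSimpleGroup.eq_bot_or_eq_top_of_normal _ inferInstance).resolve_right fun h => ?_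
    have : H = ⊤ := top_le_iff.mp (h ▸ Subgroup.normalCore_le H)
    rw [this, Subgroup.index_top] at hH
    exact hp.one_lt.ne hH
  have hΩ : Nat.card (G ⧸ H) = p := hH
  have h2 : ¬ p ^ 2 ∣ Nat.card G := by
    intro h
    have h3 : Nat.card G ∣ p.factorial := by
      have := Subgroup.card_range_dvd τ
      rw [← Nat.card_congr (MonoidHom.ofInjective hinj).toEquiv] at this
      have h := τ.range.card_subgroup_dvd_card
      rwa [Nat.card_perm, hΩ, ← Nat.card_congr (MonoidHom.ofInjective hinj).toEquiv] at h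
    have h4 := h.trans h3
    rw [show p.factorial = p * (p - 1).factorial from (Nat.mul_factorial_pred hp.ne_zero).symm, sq]
      at h4
    have h5 := hp.dvd_factorial.mp ((Nat.mul_dvd_mul_iff_left hp.pos).mp h4)
    have := hp.pos
    omega
  obtain ⟨x, hx⟩ := exists_prime_orderOf_dvd_card' p (hH ▸ H.index_dvd_card)
  obtain ⟨a, ha⟩ : ∃ a : G ⧸ H, x • a ≠ a := by
    by_contra h
    push Not at h
    have hx1 : x = 1 := hinj (by rw [map_one]; exact Equiv.ext h)
    rw [hx1, orderOf_one] at hx
    exact hp.one_lt.ne hx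
  set f : ZMod p → G ⧸ H := fun n => x ^ n.val • a with hf
  have hper : MulAction.period x a = p :=
    (hp.eq_one_or_self_of_dvd _ (hx ▸ MulAction.period_dvd_orderOf x a)).resolve_left
      fun h => ha (MulAction.period_eq_one_iff.mp h)
  have hfi : Function.Injective f := by
    intro m n h
    refine ZMod.val_injective p ?_
    wlog hle : m.val ≤ n.val generalizing m n
    · exact (this h.symm (le_of_lt (not_le.mp hle))).symm
    have h1 : x ^ (n.val - m.val) • a = a := by
      have h' := congrArg ((x ^ m.val)⁻¹ • ·) h.symm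
      simp only [hf] at h'
      rw [inv_smul_smul, ← mul_smul] at h'
      rwa [pow_sub x hle, show x ^ n.val * (x ^ m.val)⁻¹ = (x ^ m.val)⁻¹ * x ^ n.val from
        ((Commute.pow_pow_self x _ _).inv_right).eq]
    have h6 := MulAction.pow_smul_eq_iff_period_dvd.mp h1
    rw [hper] at h6
    have := ZMod.val_lt n
    have := Nat.eq_zero_of_dvd_of_lt h6 (by omega)
    omega
  have hfb : Function.Bijective f := hfi.bijective_of_nat_card_le (by simp [hΩ])
  set e := Equiv.ofBijective f hfb
  refine ⟨h2, e.symm.permCongrHom.toMonoidHom.comp τ, x,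
    e.symm.permCongrHom.injective.comp hinj, hx, fun i => ?_⟩
  show e.symm (x • e i) = i + 1
  rw [e.symm_apply_eq]
  show x • x ^ i.val • a = x ^ (i + 1).val • a
  rw [← mul_smul, ← pow_succ', ← pow_mod_orderOf, hx, ZMod.val_add, ZMod.val_one, ]

theorem result {G : Type*} [Group G] [Finite G] [IsSimpleGroup G] (H : Subgroup G) (hH : H.index.Prime) : Group.IsSolvable (Cfsg.Out G) := by
  haveI : Fact H.index.Prime := ⟨hH⟩
  generalize hp : H.index = p at hH
  haveI : Fact p.Prime := ⟨hH⟩
  obtain ⟨h2, σ, x, hσ, hx, hxs⟩ := exists_model H hp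
  set P := Subgroup.zpowers x with hP
  have hPc : Nat.card P = p := by rw [Nat.card_zpowers, hx]
  let N : Subgroup (MulAut G) :=
    { carrier := {φ | P.map φ.toMonoidHom = P}
      one_mem' := Subgroup.map_id P
      mul_mem' := fun {a b} ha hb => by
        show P.map (a * b).toMonoidHom = P
        rw [show (a * b).toMonoidHom = a.toMonoidHom.comp b.toMonoidHom from rfl, ← Subgroup.map_map,
          show P.map b.toMonoidHom = P from hb, show P.map a.toMonoidHom = P from ha]
      inv_mem' := fun {a} ha => by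
        show P.map a⁻¹.toMonoidHom = P
        conv_lhs => rw [← show P.map a.toMonoidHom = P from ha]
        rw [Subgroup.map_map, show a⁻¹.toMonoidHom.comp a.toMonoidHom = MonoidHom.id G from
          MonoidHom.ext fun g => a.symm_apply_apply g, Subgroup.map_id] }
  have hNx : ∀ φ : N, ∃ k : ℤ, x ^ k = (φ : MulAut G) x := by
    intro φ
    exact Subgroup.mem_zpowers_iff.mp
      ((SetLike.ext_iff.mp (show P.map (φ : MulAut G).toMonoidHom = P from φ.2) _).mp
        (Subgroup.mem_map_of_mem _ (Subgroup.mem_zpowers x)))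
  haveI : Group.IsSolvable N := by
    refine ⟨⟨2, ?_⟩⟩
    let C : Subgroup N := (MulAction.stabilizer (MulAut G) x).comap N.subtype
    have h1 : derivedSeries N 1 ≤ C := by
      rw [derivedSeries_succ, derivedSeries_zero, Subgroup.commutator_le]
      intro a _ b _
      obtain ⟨i, hi⟩ := hNx a
      obtain ⟨j, hj⟩ := hNx b
      have hcomm : (a : MulAut G) ((b : MulAut G) x) = (b : MulAut G) ((a : MulAut G) x) := by
        rw [← hi, ← hj, map_zpow, map_zpow, ← hi, ← hj, ← _root_.zpow_mul, ← _root_.zpow_mul, mul_comm]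
      show ((⁅a, b⁆ : N) : MulAut G) x = x
      rw [show ⁅a, b⁆ = a * b * (b * a)⁻¹ by group,
        Subgroup.coe_mul, MulAut.mul_apply]
      obtain ⟨k, hk⟩ := hNx (b * a)⁻¹
      have hh : ((a * b : N) : MulAut G) x = ((b * a : N) : MulAut G) x := hcomm
      rw [← hk, map_zpow, hh, ← map_zpow, hk, Subgroup.coe_inv]
      exact MulAut.apply_inv_self G _ x
    rw [eq_bot_iff, derivedSeries_succ, Subgroup.commutator_le]
    intro a ha b hb
    rw [Subgroup.mem_bot, commutatorElement_eq_one_iff_mul_comm]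
    exact Subtype.ext (commute_of_fix σ hσ x hxs h2 a b (h1 ha) (h1 hb))
  refine Group.isSolvable_of_surjective (f := (QuotientGroup.mk' (Cfsg.Inn G)).comp N.subtype) ?_
  intro o
  obtain ⟨α, rfl⟩ := QuotientGroup.mk'_surjective _ o
  have hsyl : ∀ Q : Subgroup G, Nat.card Q = p → ∃ S : Sylow p G, (S : Subgroup G) = Q := by
    intro Q hQ
    refine ⟨(IsPGroup.of_card (n := 1) (by rw [hQ, pow_one])).toSylow ?_, rfl⟩
    intro h
    apply h2
    rw [sq, ← Subgroup.card_mul_index Q, hQ]
    exact Nat.mul_dvd_mul_left p h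
  obtain ⟨S, hS⟩ := hsyl P hPc
  obtain ⟨T, hT⟩ := hsyl (P.map α.toMonoidHom)
    (by rw [Subgroup.card_map_of_injective α.injective, hPc])
  obtain ⟨g, hg⟩ := MulAction.exists_smul_eq G T S
  refine ⟨⟨MulAut.conj g * α, ?_⟩, ?_⟩
  · show P.map (MulAut.conj g * α).toMonoidHom = P
    rw [show (MulAut.conj g * α).toMonoidHom = (MulAut.conj g).toMonoidHom.comp α.toMonoidHom
      from rfl, ← Subgroup.map_map, ← hT]
    have h := congrArg (fun U : Sylow p G => (U : Subgroup G)) hg
    rw [← hS]
    exact h
  · show QuotientGroup.mk' (Cfsg.Inn G) (MulAut.conj g * α) = _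
    rw [map_mul, show QuotientGroup.mk' (Cfsg.Inn G) (MulAut.conj g) = 1 from
      (QuotientGroup.eq_one_iff _).mpr ⟨g, rfl⟩, one_mul]

end Cfsg.Agent.S4277
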