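import Cfsg.Statements.S4280
import Cfsg.Agent.Lib.ChevalleyInvolutionData

set_option autoImplicit false
open Cfsg

namespace Cfsg.Agent.S4280

/-- In the Chevalley group of type F₄ over a finite field of odd order q there are exactly two conjugacy classes of involutions; the centralizer of an involution in one class has order q¹⁶(q² − 1)(q⁴ − 1)(q⁶ − 1)(q⁸ − 1), and in the other class q¹⁰(q² − 1)²(q⁴ − 1)(q⁶ − 1). -/
theorem result {F : Type*} [Field F] [Fintype F] (hF : Odd (Fintype.card F)) : ∃ s t : ↥(Cfsg.Lie.chevF4.group F), orderOf s = 2 ∧ orderOf t = 2 ∧ ¬ IsConj s t ∧ (∀ u : ↥(Cfsg.Lie.chevF4.group F), orderOf u = 2 → IsConj u s ∨ IsConj u t) ∧ Nat.card (Subgroup.centralizer ({s} : Set ↥(Cfsg.Lie.chevF4.group F))) = Fintype.card F ^ 16 * (Fintype.card F ^ 2 - 1) * (Fintype.card F ^ 4 - 1) * (Fintype.card F ^ 6 - 1) * (Fintype.card F ^ 8 - 1) ∧ Nat.card (Subgroup.centralizer ({t} : Set ↥(Cfsg.Lie.chevF4.group F))) = Fintype.card F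 ^ 10 * (Fintype.card F ^ 2 - 1) ^ 2 * (Fintype.card F ^ 4 - 1) * (Fintype.card F ^ 6 - 1) := by
  have hC := Cfsg.Agent.ChevalleyAll.cert Cfsg.Lie.chevF4 (by simp)
  let S : Cfsg.Agent.ChevBruhat.Sys Cfsg.Lie.chevF4 F :=
    Cfsg.Agent.ChevBruhatInstance.mkSys hC Cfsg.Agent.ChevWeylData.f4 (by decide +kernel)
  have hcov := Cfsg.Agent.ChevalleyInvolutionData.f4_cover
  simp only [List.all_eq_true, List.mem_range, decide_eq_true_eq] at hcov
  obtain ⟨s, t, hs, ht, hne, hcl, h1, h2⟩ := Cfsg.Agent.ChevalleyTorusClasses.classes hC S hF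
    (Cfsg.Agent.ChevalleySemisimpleCount.torus_injective hC Cfsg.Agent.ChevalleyTorusCard.smithF4 (pow_zero _))
    Cfsg.Agent.ChevalleyInvolutionData.f4_nodes Cfsg.Agent.ChevalleyInvolutionData.f4a
    Cfsg.Agent.ChevalleyInvolutionData.f4b Cfsg.Agent.ChevalleyInvolutionData.f4a_ok
    Cfsg.Agent.ChevalleyInvolutionData.f4b_ok Cfsg.Agent.ChevalleyInvolutionData.f4a_chain
    Cfsg.Agent.ChevalleyInvolutionData.f4a_len Cfsg.Agent.ChevalleyInvolutionData.f4b_chain
    Cfsg.Agent.ChevalleyInvolutionData.f4b_len hcov Cfsg.Agent.ChevalleyInvolutionData.f4_disj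
  rw [show S.X = Cfsg.Agent.ChevWeylData.f4 from rfl, mul_assoc,
    Cfsg.Agent.ChevalleyTorusClasses.gen_eval (n := 16) (l := [0, 1, 2, 3, 4, 5, 6, 7])
      (ls := [[0, 1, 2, 3, 4, 5], [0, 1, 2, 3], [0, 1]]) _ (by decide +kernel) (by decide +kernel)
      (by decide +kernel)] at h1
  rw [show S.X = Cfsg.Agent.ChevWeylData.f4 from rfl, mul_assoc,
    Cfsg.Agent.ChevalleyTorusClasses.gen_eval (n := 10) (l := [0, 1])
      (ls := [[0, 1, 2, 3, 3, 4, 5, 6], [0, 1, 2], [0, 1]]) _ (by decide +kernel) (by decide +kernel)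
      (by decide +kernel)] at h2
  refine ⟨s, t, hs, ht, hne, hcl, ?_, ?_⟩
  · rw [h1, show Cfsg.Lie.chevF4.rank = 4 from rfl]
    obtain ⟨m, hm⟩ : ∃ m, Fintype.card F = m + 1 := ⟨Fintype.card F - 1, by have := Fintype.card_pos (α := F); omega⟩
    rw [hm]
    apply Nat.cast_injective (R := ℤ)
    push_cast [Nat.cast_sub (Nat.one_le_pow _ _ (Nat.succ_pos m))]
    simp only [List.map_cons, List.map_nil, List.sum_cons, List.sum_nil, List.prod_cons, List.prod_nil]
    push_cast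
    ring
  · rw [h2, show Cfsg.Lie.chevF4.rank = 4 from rfl]
    obtain ⟨m, hm⟩ : ∃ m, Fintype.card F = m + 1 := ⟨Fintype.card F - 1, by have := Fintype.card_pos (α := F); omega⟩
    rw [hm]
    apply Nat.cast_injective (R := ℤ)
    push_cast [Nat.cast_sub (Nat.one_le_pow _ _ (Nat.succ_pos m))]
    simp only [List.map_cons, List.map_nil, List.sum_cons, List.sum_nil, List.prod_cons, List.prod_nil]
    push_cast
    ring

end Cfsg.Agent.S4280
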