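import Cfsg.Statements.S4281
import Cfsg.Agent.Lib.ChevalleyInvolutionData

set_option autoImplicit false
open scoped BigOperators
open Cfsg

namespace Cfsg.Agent.S4281

/-- In the Chevalley group of type E₈ over a finite field of odd order q there are exactly two conjugacy classes of involutions; the centralizer of an involution in one class has order q⁵⁶(q⁸ − 1)·∏_{i=1}^{7}(q^{2i} − 1), and in the other class q⁶⁴(q² − 1)²(q⁶ − 1)(q⁸ − 1)(q¹⁰ − 1)(q¹² − 1)(q¹⁴ − 1)(q¹⁸ − 1). -/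
theorem result {F : Type*} [Field F] [Fintype F] (hF : Odd (Fintype.card F)) : ∃ s t : ↥(Cfsg.Lie.chevE8.group F), orderOf s = 2 ∧ orderOf t = 2 ∧ ¬ IsConj s t ∧ (∀ u : ↥(Cfsg.Lie.chevE8.group F), orderOf u = 2 → IsConj u s ∨ IsConj u t) ∧ Nat.card (Subgroup.centralizer ({s} : Set ↥(Cfsg.Lie.chevE8.group F))) = Fintype.card F ^ 56 * (Fintype.card F ^ 8 - 1) * ∏ i ∈ Finset.Icc 1 7, (Fintype.card F ^ (2 * i) - 1) ∧ Nat.card (Subgroup.centralizer ({t} : Set ↥(Cfsg.Lie.chevE8.group F))) = Fintype.card F ^ 64 * (Fintype.card F ^ 2 - 1) ^ 2 * (Fintype.card F ^ 6 - 1) * (Fintype.card F ^ 8 - 1) * (Fintype.card F ^ 10 - 1) * (Fintype.card F ^ 12 - 1) * (Fintype.card F ^ 14 - 1) * (Fintype.card F ^ 18 - 1) := by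
  have hC := Cfsg.Agent.ChevalleyAll.cert Cfsg.Lie.chevE8 (by simp)
  let S : Cfsg.Agent.ChevBruhat.Sys Cfsg.Lie.chevE8 F :=
    Cfsg.Agent.ChevBruhatInstance.mkSys hC Cfsg.Agent.ChevWeylData.e8 (by decide +kernel)
  have hcov := Cfsg.Agent.ChevalleyInvolutionData.e8_cover
  simp only [List.all_eq_true, List.mem_range, decide_eq_true_eq] at hcov
  obtain ⟨s, t, hs, ht, hne, hcl, h1, h2⟩ := Cfsg.Agent.ChevalleyTorusClasses.classes hC S hF
    (Cfsg.Agent.ChevalleySemisimpleCount.torus_injective hC Cfsg.Agent.ChevalleyTorusCard.smithE8 (pow_zero _))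
    Cfsg.Agent.ChevalleyInvolutionData.e8_nodes Cfsg.Agent.ChevalleyInvolutionData.e8a
    Cfsg.Agent.ChevalleyInvolutionData.e8b Cfsg.Agent.ChevalleyInvolutionData.e8a_ok
    Cfsg.Agent.ChevalleyInvolutionData.e8b_ok Cfsg.Agent.ChevalleyInvolutionData.e8a_chain
    Cfsg.Agent.ChevalleyInvolutionData.e8a_len Cfsg.Agent.ChevalleyInvolutionData.e8b_chain
    Cfsg.Agent.ChevalleyInvolutionData.e8b_len hcov Cfsg.Agent.ChevalleyInvolutionData.e8_disj
  rw [show S.X = Cfsg.Agent.ChevWeylData.e8 from rfl, mul_assoc,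
    Cfsg.Agent.ChevalleyTorusClasses.gen_eval (n := 56) (l := [0, 1, 2, 3, 4, 5, 6, 7, 7, 8, 9, 10, 11, 12, 13, 14])
      (ls := [[0, 1, 2, 3, 4, 5, 6, 6, 7, 8, 9, 10, 11, 12], [0, 1, 2, 3, 4, 5, 5, 6, 7, 8, 9, 10],
        [0, 1, 2, 3, 4, 4, 5, 6, 7, 8], [0, 1, 2, 3, 3, 4, 5, 6], [0, 1, 2, 3], [0, 1, 2], [0, 1]]) _ (by decide +kernel) (by decide +kernel)
      (by decide +kernel)] at h1
  rw [show S.X = Cfsg.Agent.ChevWeylData.e8 from rfl, mul_assoc,
    Cfsg.Agent.ChevalleyTorusClasses.gen_eval (n := 64) (l := [0, 1])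
      (ls := [[0, 1, 2, 3, 4, 5, 5, 6, 6, 7, 7, 8, 8, 9, 9, 9, 10, 10, 10, 11, 11, 11, 12, 12, 12, 13, 13, 13, 14, 14, 14,
          15, 15, 15, 16, 16, 16, 17, 17, 17, 18, 18, 18, 19, 19, 20, 20, 21, 21, 22, 22, 23, 24, 25, 26, 27],
        [0, 1, 2, 3, 4, 4, 5, 5, 6, 6, 7, 7, 8, 8, 8, 9, 9, 10, 10, 11, 11, 12, 12, 13, 14, 15, 16],
        [0, 1, 2, 3, 4, 4, 5, 6, 7, 8], [0, 1, 2, 3, 3, 4, 5, 6], [0, 1, 2, 3], [0, 1, 2], [0, 1]]) _ (by decide +kernel) (by decide +kernel)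
      (by decide +kernel)] at h2
  refine ⟨s, t, hs, ht, hne, hcl, ?_, ?_⟩
  · rw [h1, show Cfsg.Lie.chevE8.rank = 8 from rfl]
    obtain ⟨m, hm⟩ : ∃ m, Fintype.card F = m + 1 := ⟨Fintype.card F - 1, by have := Fintype.card_pos (α := F); omega⟩
    rw [hm, show Finset.Icc 1 7 = ({1, 2, 3, 4, 5, 6, 7} : Finset ℕ) from rfl]
    simp only [Finset.prod_insert, Finset.prod_singleton, Finset.mem_insert, Finset.mem_singleton, Nat.reduceEqDiff, or_self,
      not_false_eq_true, Nat.reduceMul]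
    apply Nat.cast_injective (R := ℤ)
    push_cast [Nat.cast_sub (Nat.one_le_pow _ _ (Nat.succ_pos m))]
    simp only [List.map_cons, List.map_nil, List.sum_cons, List.sum_nil, List.prod_cons, List.prod_nil]
    push_cast
    ring
  · rw [h2, show Cfsg.Lie.chevE8.rank = 8 from rfl]
    obtain ⟨m, hm⟩ : ∃ m, Fintype.card F = m + 1 := ⟨Fintype.card F - 1, by have := Fintype.card_pos (α := F); omega⟩
    rw [hm]
    apply Nat.cast_injective (R := ℤ)
    push_cast [Nat.cast_sub (Nat.one_le_pow _ _ (Nat.succ_pos m))]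
    simp only [List.map_cons, List.map_nil, List.sum_cons, List.sum_nil, List.prod_cons, List.prod_nil]
    push_cast
    ring

end Cfsg.Agent.S4281
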