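import Mathlib
import Mathlib
import Cfsg.Agent.Lib.HallHigmanLinear
import Cfsg.Statements.S4282

set_option autoImplicit false
set_option linter.unusedVariables false
set_option linter.unusedSectionVars false
open Cfsg

namespace Cfsg.Agent.S4282

open Module Finset Polynomial

universe u v w

variable {K : Type w} [Field K] [IsAlgClosed K]

/-- No proper non-zero invariant subspace. -/
def Irr {Q : Type u} [Group Q] {V : Type v} [AddCommGroup V] [Module K V]
    (r : Q →* Module.End K V) : Prop :=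
  ∀ U : Submodule K V, (∀ g, ∀ x ∈ U, r g x ∈ U) → U = ⊥ ∨ U = ⊤

section

variable {Q : Type u} [Group Q] {V : Type v} [AddCommGroup V] [Module K V] [FiniteDimensional K V]
  [Nontrivial V] {r : Q →* Module.End K V}

theorem schur (hirr : Irr r) (f : Module.End K V) (h : ∀ g, Commute (r g) f) :
    ∃ c : K, f = c • 1 := by
  obtain ⟨c, hc⟩ := Module.End.exists_eigenvalue f
  refine ⟨c, ?_⟩
  have hinv : ∀ g, ∀ x ∈ f.eigenspace c, r g x ∈ f.eigenspace c := fun g x hx => by
    rw [Module.End.mem_eigenspace_iff] at hx ⊢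
    rw [← Module.End.mul_apply, ← (h g).eq, Module.End.mul_apply, hx, map_smul]
  rcases hirr _ hinv with h0 | h1
  · exact absurd h0 hc
  · exact LinearMap.ext fun x => Module.End.mem_eigenspace_iff.mp (h1 ▸ Submodule.mem_top)

theorem average [Fintype Q] (hirr : Irr r) (f : Module.End K V) :
    (finrank K V : K) • ∑ t : Q, r t * f * r t⁻¹ =
      ((Fintype.card Q : K) * LinearMap.trace K V f) • 1 := by
  obtain ⟨c, hc⟩ := schur hirr (∑ t : Q, r t * f * r t⁻¹) fun g => by
    show r g * _ = _ * r g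
    rw [Finset.mul_sum, Finset.sum_mul]
    refine Fintype.sum_equiv (Equiv.mulLeft g) _ _ fun t => ?_
    simp only [Equiv.coe_mulLeft, mul_inv_rev, map_mul, mul_assoc]
    rw [← map_mul r g⁻¹ g, inv_mul_cancel, map_one, mul_one]
  have h := congrArg (LinearMap.trace K V) hc
  rw [map_sum, map_smul, LinearMap.trace_one, Finset.sum_congr rfl fun t _ => show
    LinearMap.trace K V (r t * f * r t⁻¹) = LinearMap.trace K V f by
      rw [mul_assoc, LinearMap.trace_mul_comm, mul_assoc, ← map_mul, inv_mul_cancel, map_one,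
        mul_one],
    Finset.sum_const, Finset.card_univ, nsmul_eq_mul, smul_eq_mul] at h
  rw [hc, smul_smul, h, mul_comm]

theorem finrank_cast_ne_zero [Fintype Q] (hirr : Irr r) (hQ : (Fintype.card Q : K) ≠ 0) :
    (finrank K V : K) ≠ 0 := by
  intro h0
  obtain ⟨v, hv⟩ := exists_ne (0 : V)
  let b := Module.finBasis K V
  obtain ⟨i, hi⟩ : ∃ i, b.coord i v ≠ 0 := by
    by_contra hh
    push Not at hh
    exact hv (b.forall_coord_eq_zero_iff.mp hh)
  have h := average hirr ((b.coord i).smulRight v)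
  rw [h0, zero_smul, LinearMap.trace_smulRight, eq_comm, smul_eq_zero] at h
  exact h.elim (mul_ne_zero hQ hi) one_ne_zero

/-- The inversion formula on `End V`. -/
theorem reconstruct [Fintype Q] (hirr : Irr r) (f : Module.End K V) :
    (finrank K V : K) • ∑ t : Q, LinearMap.trace K V (r t⁻¹ * f) • r t = (Fintype.card Q : K) • f := by
  classical
  let b := Module.finBasis K V
  have hone : ∀ (φ : V →ₗ[K] K) (v : V),
      (finrank K V : K) • ∑ t : Q, LinearMap.trace K V (r t⁻¹ * φ.smulRight v) • r t =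
        (Fintype.card Q : K) • φ.smulRight v := by
    intro φ v
    refine LinearMap.ext fun y => ?_
    have h := LinearMap.congr_fun (average hirr (φ.smulRight y)) v
    have htr : ∀ t : Q, LinearMap.trace K V (r t⁻¹ * φ.smulRight v) = φ (r t⁻¹ v) := by
      intro t
      rw [show r t⁻¹ * φ.smulRight v = φ.smulRight (r t⁻¹ v) from
        LinearMap.ext fun z => by simp [LinearMap.smulRight_apply]]
      exact LinearMap.trace_smulRight _ _
    simp only [LinearMap.smul_apply, LinearMap.sum_apply, htr, Module.End.mul_apply,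
      LinearMap.smulRight_apply, map_smul, LinearMap.trace_smulRight, Module.End.one_apply] at h ⊢
    rw [h, mul_smul]
  have hf : f = ∑ i, (b.coord i).smulRight (f (b i)) := by
    refine b.ext fun j => ?_
    simp [LinearMap.sum_apply, Basis.coord_apply, Finsupp.single_apply, ite_smul]
  rw [hf]
  simp only [Finset.mul_sum, map_sum, Finset.sum_smul, Finset.smul_sum]
  rw [Finset.sum_comm]
  refine Finset.sum_congr rfl fun i _ => ?_
  rw [← Finset.smul_sum]
  exact hone _ _

end

/-- An irreducible representation of a `q`-group has `q`-power degree. -/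
theorem finrank_eq_pow {q : ℕ} [Fact q.Prime] (hqK : (q : K) ≠ 0) (n : ℕ) :
    ∀ (Q : Type u) [Group Q] [Finite Q], IsPGroup q Q →
      ∀ (V : Type v) [AddCommGroup V] [Module K V] [FiniteDimensional K V] [Nontrivial V]
        (r : Q →* Module.End K V), Irr r → finrank K V = n → ∃ b, n = q ^ b := by
  induction n using Nat.strong_induction_on with
  | _ n ih =>
  intro Q _ _ hQ V _ _ _ _ r hirr hn
  classical
  have hq : q.Prime := Fact.out
  have hunit : ∀ g, r g * r g⁻¹ = 1 := fun g => by rw [← map_mul, mul_inv_cancel, map_one]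
  have hne : ∀ g, r g ≠ 0 := fun g h => by
    have := hunit g
    rw [h, zero_mul] at this
    exact zero_ne_one this
  have hinj : ∀ {g : Q} {c d : K}, c • r g = d • r g → c = d :=
    fun {g c d} h => smul_left_injective K (hne g) h
  let S : Subgroup Q :=
    { carrier := {g | ∃ c : K, r g = c • 1}
      one_mem' := ⟨1, by rw [map_one, one_smul]⟩
      mul_mem' := fun {a b} ⟨c, hc⟩ ⟨d, hd⟩ =>
        ⟨c * d, by rw [map_mul, hc, hd, smul_mul_assoc, one_mul, smul_smul]⟩
      inv_mem' := fun {a} ⟨c, hc⟩ => ⟨c⁻¹, by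
        have hc0 : c ≠ 0 := by rintro rfl; exact hne a (by rw [hc, zero_smul])
        have h := hunit a
        rw [hc, smul_one_mul] at h
        rw [← h, smul_smul, inv_mul_cancel₀ hc0, one_smul]⟩ }
  by_cases hall : ∀ g, g ∈ S
  · refine ⟨0, ?_⟩
    obtain ⟨v, hv⟩ := exists_ne (0 : V)
    rcases hirr (K ∙ v) (fun g x hx => by
      obtain ⟨c, hc⟩ := hall g
      rw [hc]
      exact Submodule.smul_mem _ c hx) with h | h
    · exact absurd (Submodule.span_singleton_eq_bot.mp h) hv
    · rw [← hn, ← finrank_top K V, ← h, finrank_span_singleton hv, pow_zero]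
  push Not at hall
  haveI : S.Normal := ⟨fun a ⟨c, hc⟩ g => ⟨c, by
    rw [map_mul, map_mul, hc, mul_smul_comm, mul_one, smul_mul_assoc, hunit]⟩⟩
  haveI : Nontrivial (Q ⧸ S) := by
    obtain ⟨g, hg⟩ := hall
    exact ⟨⟨(g : Q ⧸ S), 1, fun h => hg ((QuotientGroup.eq_one_iff g).mp h)⟩⟩
  haveI : Fintype (Subgroup.center (Q ⧸ S)) := Fintype.ofFinite _
  haveI := (hQ.to_quotient S).center_nontrivial
  obtain ⟨j, hj0, hj⟩ := (hQ.to_quotient S).to_subgroup (Subgroup.center (Q ⧸ S))
    |>.nontrivial_iff_card.mp ‹_›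
  obtain ⟨z, hz⟩ := exists_prime_orderOf_dvd_card' q
    (show q ∣ Nat.card (Subgroup.center (Q ⧸ S)) from hj ▸ dvd_pow_self q (by omega))
  obtain ⟨a, ha⟩ := QuotientGroup.mk_surjective (z : Q ⧸ S)
  have haS : a ∉ S := fun h => by
    rw [(QuotientGroup.eq_one_iff a).mpr h] at ha
    rw [Subtype.ext (a1 := z) (a2 := 1) ha.symm, orderOf_one] at hz
    exact hq.one_lt.ne hz
  have haq : a ^ q ∈ S := by
    rw [← QuotientGroup.eq_one_iff, QuotientGroup.mk_pow, ha, ← Subgroup.coe_pow, ← hz,
      pow_orderOf_eq_one]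
    rfl
  have hex : ∀ g, ∃ c : K, r (g * a * g⁻¹) = c • r a := by
    intro g
    have h : g * a * g⁻¹ * a⁻¹ ∈ S := by
      rw [← QuotientGroup.eq_one_iff]
      simp only [QuotientGroup.mk_mul, QuotientGroup.mk_inv, ha]
      rw [← (Subgroup.mem_center_iff.mp z.2 (g : Q ⧸ S)).symm, mul_inv_cancel_right, mul_inv_cancel]
    obtain ⟨c, hc⟩ := h
    exact ⟨c, by rw [← one_mul (r a), ← smul_mul_assoc, ← hc, ← map_mul, inv_mul_cancel_right]⟩
  choose c hc using hex
  let χ : Q →* K :=
    { toFun := c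
      map_one' := hinj (g := a) (by rw [← hc, one_smul, one_mul, inv_one, mul_one])
      map_mul' := fun g h => hinj (g := a) (by
        rw [← hc, show g * h * a * (g * h)⁻¹ = g * (h * a * h⁻¹) * g⁻¹ by group, map_mul, map_mul,
          hc, mul_smul_comm, smul_mul_assoc, ← map_mul, ← map_mul, hc, smul_smul, mul_comm]) }
  have hχa : ∀ g, r (g * a * g⁻¹) = χ g • r a := hc
  have hχq : ∀ g, χ g ^ q = 1 := by
    intro g
    obtain ⟨d, hd⟩ := haq
    have h1 : r (g * a * g⁻¹) ^ q = d • 1 := by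
      rw [← map_pow, conj_pow, map_mul, map_mul, hd, mul_smul_comm, mul_one, smul_mul_assoc, hunit]
    rw [hχa, _root_.smul_pow, ← map_pow r, hd, smul_smul] at h1
    have hd0 : d ≠ 0 := by rintro rfl; exact hne (a ^ q) (by rw [hd, zero_smul])
    have := smul_left_injective K (one_ne_zero (α := Module.End K V)) h1
    exact (mul_eq_right₀ hd0).mp this
  obtain ⟨g₀, hg₀⟩ : ∃ g, χ g ≠ 1 := by
    by_contra h
    push Not at h
    refine haS ?_
    refine schur hirr (r a) fun g => ?_
    show r g * r a = r a * r g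
    have h1 := hχa g
    rw [h, one_smul, map_mul, map_mul] at h1
    conv_rhs => rw [← h1, mul_assoc _ (r g⁻¹), ← map_mul r g⁻¹ g, inv_mul_cancel, map_one, mul_one]
  set ζ := χ g₀ with hζ
  have hprim : IsPrimitiveRoot ζ q := by
    rw [IsPrimitiveRoot.iff_orderOf]
    exact orderOf_eq_prime (hχq g₀) hg₀
  -- conjugating element and eigenvalue
  set h := g₀⁻¹ with hh
  have hmove : ∀ (g : Q) (μ : K), ∀ x ∈ Module.End.eigenspace (r a) μ,
      r g x ∈ Module.End.eigenspace (r a) (χ g⁻¹ * μ) := by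
    intro g μ x hx
    rw [Module.End.mem_eigenspace_iff] at hx ⊢
    have h1 : r a * r g = r g * r (g⁻¹ * a * g⁻¹⁻¹) := by
      rw [← map_mul, ← map_mul, inv_inv]; congr 1; group
    rw [← Module.End.mul_apply, h1, Module.End.mul_apply, hχa, LinearMap.smul_apply, hx, map_smul,
      map_smul, smul_smul]
  obtain ⟨μ, hμ⟩ := Module.End.exists_eigenvalue (r a)
  have hμ0 : μ ≠ 0 := by
    rintro rfl
    obtain ⟨x, hx, hx0⟩ := hμ.exists_hasEigenvector
    rw [Module.End.mem_genEigenspace_one, zero_smul] at hx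
    apply hx0
    have := LinearMap.congr_fun (show r a⁻¹ * r a = 1 by rw [← map_mul, inv_mul_cancel, map_one]) x
    rwa [Module.End.mul_apply, hx, map_zero, Module.End.one_apply, eq_comm] at this
  set E := Module.End.eigenspace (r a) μ with hE
  let M : Subgroup Q := χ.ker
  have hME : ∀ m ∈ M, ∀ x ∈ E, r m x ∈ E := by
    intro m hm x hx
    have := hmove m μ x hx
    rwa [show χ m⁻¹ = 1 from (M.inv_mem hm : m⁻¹ ∈ M), one_mul] at this
  haveI : Nontrivial E := Submodule.nontrivial_iff_ne_bot.mpr hμ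
  let rE : M →* Module.End K E :=
    { toFun := fun m => (r m).restrict (hME m m.2)
      map_one' := LinearMap.ext fun x => Subtype.ext (by simp)
      map_mul' := fun a b => LinearMap.ext fun x => Subtype.ext (by simp) }
  let Φ : (Fin q → E) →ₗ[K] V :=
    ∑ i : Fin q, (r (h ^ (i : ℕ))).comp (E.subtype.comp (LinearMap.proj i))
  have hΦ : ∀ w, Φ w = ∑ i : Fin q, r (h ^ (i : ℕ)) (w i : V) := fun w => by
    simp [Φ, LinearMap.sum_apply]
  have hχh : ∀ i : ℕ, χ (h ^ i)⁻¹ = ζ ^ i := fun i => by rw [hh, ← inv_pow, inv_inv, map_pow]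
  have hΦi : Function.Injective Φ := by
    rw [← LinearMap.ker_eq_bot, Submodule.eq_bot_iff]
    intro w hw
    rw [LinearMap.mem_ker, hΦ] at hw
    have hev : ∀ i : Fin q, r (h ^ (i : ℕ)) (w i : V) ∈
        Module.End.eigenspace (r a) (ζ ^ (i : ℕ) * μ) := fun i => by
      have := hmove (h ^ (i : ℕ)) μ _ (w i).2
      rwa [hχh] at this
    have hind := (Module.End.eigenspaces_iSupIndep (r a)).comp
      (f := fun i : Fin q => ζ ^ (i : ℕ) * μ)
      (fun i j hij => Fin.ext (hprim.pow_inj i.2 j.2 (mul_right_cancel₀ hμ0 hij)))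
    funext i
    rw [← Finset.sum_erase_add _ _ (Finset.mem_univ i), add_eq_zero_iff_eq_neg] at hw
    have hmem : r (h ^ (i : ℕ)) (w i : V) ∈
        ⨆ j, ⨆ (_ : j ≠ i), Module.End.eigenspace (r a) (ζ ^ (j : ℕ) * μ) := by
      rw [← Submodule.neg_mem_iff, ← hw]
      exact Submodule.sum_mem _ fun j hj => Submodule.mem_iSup_of_mem j
        (Submodule.mem_iSup_of_mem (Finset.mem_erase.mp hj).1 (hev j))
    have h0 := Submodule.disjoint_def.mp (hind i) _ (hev i) hmem
    refine Subtype.ext ?_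
    have := congrArg (r (h ^ (i : ℕ))⁻¹) h0
    rwa [← Module.End.mul_apply, ← map_mul, inv_mul_cancel, map_one, map_zero,
      Module.End.one_apply] at this
  have hgen : ∀ U : Submodule K E, (∀ m, ∀ x ∈ U, rE m x ∈ U) → U ≠ ⊥ →
      Submodule.map Φ (Submodule.pi Set.univ fun _ => U) = ⊤ := by
    intro U hU hU0
    refine (hirr _ fun g x hx => ?_).resolve_left fun hb => hU0 ?_
    · obtain ⟨w, hw, rfl⟩ := hx
      rw [hΦ, map_sum]
      refine Submodule.sum_mem _ fun i _ => ?_
      obtain ⟨k, hk, hk'⟩ := hprim.eq_pow_of_pow_eq_one (hχq (g * h ^ (i : ℕ))⁻¹)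
      have hm : (h ^ k)⁻¹ * (g * h ^ (i : ℕ)) ∈ M := by
        rw [MonoidHom.mem_ker, map_mul, hχh, hk', ← map_mul, inv_mul_cancel, map_one]
      refine ⟨Pi.single ⟨k, hk⟩ (rE ⟨_, hm⟩ (w i)), ?_, ?_⟩
      · intro j _
        by_cases hjk : j = ⟨k, hk⟩
        · subst hjk
          rw [Pi.single_eq_same]
          exact hU _ _ (hw i (Set.mem_univ _))
        · rw [Pi.single_eq_of_ne hjk]
          exact U.zero_mem
      · rw [hΦ, Finset.sum_eq_single (⟨k, hk⟩ : Fin q)]
        · rw [Pi.single_eq_same]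
          show r (h ^ k) (r ((h ^ k)⁻¹ * (g * h ^ (i : ℕ))) (w i : V)) = r g (r (h ^ (i : ℕ)) (w i))
          rw [← Module.End.mul_apply, ← map_mul, mul_inv_cancel_left, map_mul, Module.End.mul_apply]
        · intro j _ hjk
          rw [Pi.single_eq_of_ne hjk, Submodule.coe_zero, map_zero]
        · simp
    · rw [eq_bot_iff]
      intro x hx
      have hmem : Φ (Pi.single ⟨0, hq.pos⟩ x) ∈
          Submodule.map Φ (Submodule.pi Set.univ fun _ => U) := by
        refine Submodule.mem_map_of_mem fun j _ => ?_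
        by_cases hj0 : j = ⟨0, hq.pos⟩
        · subst hj0; rwa [Pi.single_eq_same]
        · rw [Pi.single_eq_of_ne hj0]; exact U.zero_mem
      rw [hb, Submodule.mem_bot, ← map_zero Φ] at hmem
      exact (Submodule.mem_bot K).mpr (by
        have := congrFun (hΦi hmem) ⟨0, hq.pos⟩
        rwa [Pi.single_eq_same] at this)
  have hΦs : Function.Surjective Φ := by
    intro x
    have h1 : x ∈ Submodule.map Φ (Submodule.pi Set.univ fun _ : Fin q => (⊤ : Submodule K E)) := by
      rw [hgen ⊤ (fun _ _ _ => Submodule.mem_top) top_ne_bot]; exact Submodule.mem_top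
    obtain ⟨w, -, hw⟩ := h1
    exact ⟨w, hw⟩
  have hdim : n = q * finrank K E := by
    rw [← hn, ← (LinearEquiv.ofBijective Φ ⟨hΦi, hΦs⟩).finrank_eq, Module.finrank_pi_fintype]
    simp
  have hirrE : Irr rE := by
    intro U hU
    by_cases hU0 : U = ⊥
    · exact Or.inl hU0
    refine Or.inr (Submodule.eq_top_iff'.mpr fun x => ?_)
    have hmem : Φ (Pi.single ⟨0, hq.pos⟩ x) ∈
        Submodule.map Φ (Submodule.pi Set.univ fun _ => U) := by
      rw [hgen U hU hU0]; exact Submodule.mem_top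
    obtain ⟨w, hw, hwe⟩ := hmem
    have := hw ⟨0, hq.pos⟩ (Set.mem_univ _)
    rwa [congrFun (hΦi hwe) _, Pi.single_eq_same] at this
  have hpos : 0 < finrank K E := Module.finrank_pos
  obtain ⟨b, hb⟩ := ih (finrank K E) (by
    rw [hdim]; exact lt_mul_left hpos hq.one_lt) M (hQ.to_subgroup M) E rE hirrE rfl
  exact ⟨b + 1, by rw [hdim, hb, pow_succ']⟩

/-- The rank count for an operator killed by its `N`-th power. -/
theorem rank_count {F W : Type*} [Field F] [AddCommGroup W] [Module F W] [FiniteDimensional F W]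
    (δ : Module.End F W) {N : ℕ} (hN : 2 ≤ N) (hδ : δ ^ N = 0) (e : W) (he : δ e = 0)
    (he' : e ∉ LinearMap.range (δ ^ (N - 1))) :
    N * finrank F (LinearMap.range (δ ^ (N - 1))) + 1 ≤ finrank F W := by
  set R := fun i => LinearMap.range (δ ^ i) with hR
  set t := finrank F (R (N - 1)) with ht
  have htop : R (N - 1) ≤ LinearMap.ker δ := by
    rintro _ ⟨x, rfl⟩
    rw [LinearMap.mem_ker, ← Module.End.mul_apply, ← pow_succ', show N - 1 + 1 = N by omega, hδ]
    rfl
  have hmono : ∀ i ≤ N - 1, R (N - 1) ≤ R i := by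
    rintro i hi _ ⟨x, rfl⟩
    exact ⟨(δ ^ (N - 1 - i)) x, by rw [← Module.End.mul_apply, ← pow_add, show i + (N - 1 - i) =
      N - 1 by omega]⟩
  have hstep : ∀ i, finrank F (R (i + 1)) + finrank F ↥(LinearMap.ker δ ⊓ R i) = finrank F (R i) := by
    intro i
    have h := LinearMap.finrank_range_add_finrank_ker (δ.domRestrict (R i))
    have h1 : LinearMap.range (δ.domRestrict (R i)) = R (i + 1) := by
      rw [LinearMap.range_domRestrict]
      show Submodule.map δ (LinearMap.range (δ ^ i)) = LinearMap.range (δ ^ (i + 1))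
      rw [pow_succ', Module.End.mul_eq_comp, LinearMap.range_comp]
    have h2 : Submodule.map (R i).subtype (LinearMap.ker (δ.domRestrict (R i))) =
        LinearMap.ker δ ⊓ R i := by
      ext x
      simp only [Submodule.mem_map, LinearMap.mem_ker, LinearMap.domRestrict_apply,
        Submodule.mem_inf, Submodule.subtype_apply]
      exact ⟨fun ⟨y, hy, he⟩ => he ▸ ⟨hy, y.2⟩, fun ⟨h1, h2⟩ => ⟨⟨x, h2⟩, h1, rfl⟩⟩
    rw [h1] at h
    rw [← h2, Submodule.finrank_map_subtype_eq, h]
  have hlow : ∀ j, j < N → (j + 1) * t ≤ finrank F (R (N - 1 - j)) := by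
    intro j
    induction j with
    | zero => intro _; simp [ht]
    | succ j ihj =>
      intro hj
      have h1 := hstep (N - 1 - (j + 1))
      rw [show N - 1 - (j + 1) + 1 = N - 1 - j by omega] at h1
      have h2 : t ≤ finrank F ↥(LinearMap.ker δ ⊓ R (N - 1 - (j + 1))) :=
        Submodule.finrank_mono (le_inf htop (hmono _ (by omega)))
      have h3 := ihj (by omega)
      rw [add_mul, one_mul]
      omega
  have h0 := hlow (N - 2) (by omega)
  rw [show N - 1 - (N - 2) = 1 by omega] at h0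
  have h1 := LinearMap.finrank_range_add_finrank_ker δ
  have h2 : t + 1 ≤ finrank F (LinearMap.ker δ) := by
    have hlt : R (N - 1) < LinearMap.ker δ :=
      lt_of_le_of_ne htop fun h => he' (h ▸ (LinearMap.mem_ker.mpr he) : e ∈ R (N - 1))
    exact Submodule.finrank_lt_finrank_of_lt hlt
  rw [show R 1 = LinearMap.range δ from congrArg LinearMap.range (pow_one δ)] at h0
  obtain ⟨k, rfl⟩ : ∃ k, N = k + 2 := ⟨N - 2, by omega⟩
  simp only [Nat.add_sub_cancel] at h0
  show (k + 2) * t + 1 ≤ _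
  rw [show (k + 2) * t = (k + 1) * t + t by ring]
  omega

theorem result {G : Type*} [Group G] [Finite G] (p q : ℕ) [Fact p.Prime] [Fact q.Prime] (hpq : p ≠ q) (Q : Subgroup G) [Q.Normal] (hQ : IsPGroup q Q) (x : G) (hx : IsPGroup p (Subgroup.zpowers x)) (hgen : Q ⊔ Subgroup.zpowers x = ⊤) (hC : ∀ y ∈ Subgroup.zpowers x, y ≠ 1 → Subgroup.centralizer ({y} : Set G) = Subgroup.zpowers x ⊔ Subgroup.center G) {K : Type*} [Field K] [IsAlgClosed K] [CharP K p] {V : Type*} [AddCommGroup V] [Module K V] [FiniteDimensional K V] [Nontrivial V] (ρ : Representation K G V) (hfaith : Function.Injective ρ) (hirr : ∀ W : Submodule K V, (∀ g ∈ Q, Submodule.map (ρ g) W ≤ W) → W = ⊥ ∨ W = ⊤) (s : ℕ) (hs : (ρ x - 1) ^ s = 0) (hmin : ∀ k < s, (ρ x - 1) ^ k ≠ 0) : Nat.card (Subgroup.zpowers x) - 1 ≤ s ∧ s ≤ Nat.card (Subgroup.zpowers x) ∧ (s = Nat.card (Subgroup.zpowers x) - 1 → (∃ b : ℕ, Nat.card (Subgroup.zpowers x) - 1 = q ^ b) ∧ ¬ IsMulCommutative Q) := by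
  classical
  haveI := Fintype.ofFinite G
  set N := Nat.card (Subgroup.zpowers x) with hNdef
  have hN : N = orderOf x := Nat.card_zpowers x
  obtain ⟨n, hn⟩ := IsPGroup.iff_card.mp hx
  have hTN : ρ x ^ N = 1 := by rw [← map_pow, hN, pow_orderOf_eq_one, map_one]
  have hp : p.Prime := Fact.out
  have hq : q.Prime := Fact.out
  have hqK : (q : K) ≠ 0 := fun h => hpq
    ((Nat.prime_dvd_prime_iff_eq hp hq).mp ((CharP.cast_eq_zero_iff K p q).mp h))
  haveI : CharP K[X] p := inferInstance
  have hfrob : (X - 1 : K[X]) ^ N = X ^ N - 1 := by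
    rw [hNdef, hn, sub_pow_char_pow, one_pow]
  have hT0 : (ρ x - 1) ^ N = 0 := by
    have h := congrArg (aeval (ρ x)) hfrob
    simpa [hTN] using h
  have hsN : s ≤ N := by
    by_contra h
    exact hmin N (not_le.mp h) hT0
  have hs0 : s ≠ 0 := by
    rintro rfl
    rw [pow_zero] at hs
    exact one_ne_zero hs
  by_cases hN1 : N = 1
  · exact ⟨by omega, hsN, fun h => by omega⟩
  have hN2 : 2 ≤ N := by
    have : 0 < N := Nat.card_pos
    omega
  -- central elements act as scalars
  let r : Q →* Module.End K V := (ρ : G →* Module.End K V).comp Q.subtype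
  have hirr' : Irr r := fun U hU => hirr U fun g hg => by
    rintro _ ⟨y, hy, rfl⟩
    exact hU ⟨g, hg⟩ y hy
  have hcent : ∀ z ∈ Subgroup.center G, ∃ c : K, ρ z = c • 1 := fun z hz =>
    schur hirr' (ρ z) fun g => by
      show ρ g * ρ z = ρ z * ρ g
      rw [← map_mul, ← map_mul, Subgroup.mem_center_iff.mp hz]
  have hpow1 : ∀ (c : K) (k : ℕ), c ^ p ^ k = 1 → c = 1 := fun c k h => by
    have h' := sub_pow_char_pow (R := K) (p := p) (n := k) c 1
    rw [one_pow, h, sub_self] at h'
    exact sub_eq_zero.mp (eq_zero_of_pow_eq_zero h')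
  have hpcenter : ∀ z ∈ Subgroup.center G, z ∈ Subgroup.zpowers x → z = 1 := by
    intro z hz hzx
    obtain ⟨k, hk⟩ := hx ⟨z, hzx⟩
    have hk' : z ^ p ^ k = 1 := congrArg Subtype.val hk
    obtain ⟨c, hc⟩ := hcent z hz
    have h1 : (c ^ p ^ k) • (1 : Module.End K V) = (1 : K) • 1 := by
      have := congrArg ρ hk'
      rw [map_pow, hc, _root_.smul_pow, one_pow, map_one] at this
      rw [this, one_smul]
    apply hfaith
    rw [hc, hpow1 c k (smul_left_injective K (one_ne_zero (α := Module.End K V)) h1), one_smul,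
      map_one]
  -- elements of `Q` fixed by a non-trivial power of `x` are central
  have hfix : ∀ y ∈ Subgroup.zpowers x, y ≠ 1 → ∀ u ∈ Q, y * u = u * y → u ∈ Subgroup.center G := by
    intro y hy hy1 u hu hyu
    have hmem : u ∈ Subgroup.zpowers x ⊔ Subgroup.center G := by
      rw [← hC y hy hy1, Subgroup.mem_centralizer_singleton_iff]
      exact hyu.symm
    rw [← SetLike.mem_coe, Subgroup.mul_normal] at hmem
    obtain ⟨w, hw, z, hz, rfl⟩ := hmem
    obtain ⟨k, hk⟩ := hQ ⟨w * z, hu⟩
    have hk' : (w * z) ^ q ^ k = 1 := congrArg Subtype.val hk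
    rw [Commute.mul_pow (Subgroup.mem_center_iff.mp hz w)] at hk'
    have h1 : w ^ q ^ k = 1 := hpcenter _ (by
      rw [eq_inv_of_mul_eq_one_left hk']
      exact inv_mem (pow_mem hz _)) (pow_mem hw _)
    obtain ⟨l, hl⟩ := hx ⟨w, hw⟩
    have hl' : w ^ p ^ l = 1 := congrArg Subtype.val hl
    have hw1 : w = 1 := orderOf_eq_one_iff.mp (Nat.eq_one_of_dvd_coprimes
      (((Nat.coprime_primes hp hq).mpr hpq).pow l k) (orderOf_dvd_of_pow_eq_one hl')
      (orderOf_dvd_of_pow_eq_one h1))
    show w * z ∈ Subgroup.center G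
    rw [hw1, one_mul]
    exact hz
  have hxne : x ≠ 1 := fun h => hN1 (by rw [hN, h, orderOf_one])
  have hρx : ρ x ≠ 1 := fun h => hxne (hfaith (h.trans ρ.map_one.symm))
  -- the dimension
  obtain ⟨b, hb⟩ := finrank_eq_pow hqK _ Q hQ V r hirr' rfl
  set D := finrank K V with hDdef
  have hQK : (Fintype.card Q : K) ≠ 0 := by
    obtain ⟨k, hk⟩ := IsPGroup.iff_card.mp hQ
    rw [← Nat.card_eq_fintype_card, hk, Nat.cast_pow]
    exact pow_ne_zero k hqK
  have hD0 : (D : K) ≠ 0 := finrank_cast_ne_zero hirr' hQK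
  have hDpos : 0 < D := Module.finrank_pos
  have hD2 : 2 ≤ D := by
    by_contra h
    have hD1 : D = 1 := by omega
    obtain ⟨v, hv⟩ := exists_ne (0 : V)
    obtain ⟨c, hc⟩ := (finrank_eq_one_iff_of_nonzero' v hv).mp hD1 (ρ x v)
    have hT : ρ x = c • 1 := by
      refine LinearMap.ext fun w => ?_
      obtain ⟨d, rfl⟩ := (finrank_eq_one_iff_of_nonzero' v hv).mp hD1 w
      rw [LinearMap.smul_apply, Module.End.one_apply, map_smul, ← hc, smul_comm]
    refine hρx ?_
    rw [hT, hpow1 c n ?_, one_smul]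
    rw [hT, _root_.smul_pow, one_pow] at hTN
    rw [← hn]
    exact smul_left_injective K (one_ne_zero (α := Module.End K V)) (hTN.trans (one_smul K 1).symm)
  -- conjugation on endomorphisms
  let σ : Module.End K (Module.End K V) :=
    (LinearMap.mulLeft K (ρ x)).comp (LinearMap.mulRight K (ρ x⁻¹))
  have hσ : ∀ (i : ℕ) f, (σ ^ i) f = ρ (x ^ i) * f * ρ (x ^ i)⁻¹ := by
    intro i
    induction i with
    | zero => intro f; simp
    | succ i ihi =>
      intro f
      rw [pow_succ', Module.End.mul_apply, ihi]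
      show ρ x * (ρ (x ^ i) * f * ρ (x ^ i)⁻¹ * ρ x⁻¹) = _
      simp only [mul_assoc, ← map_mul]
      rw [← mul_assoc (ρ x), ← map_mul, ← pow_succ', ← mul_inv_rev, ← pow_succ']
  have hσN : σ ^ N = 1 := by
    refine LinearMap.ext fun f => ?_
    rw [hσ, hN, pow_orderOf_eq_one, inv_one, map_one, one_mul, mul_one, Module.End.one_apply]
  have hδN : (σ - 1) ^ N = 0 := by
    have h := congrArg (aeval σ) hfrob
    simpa [hσN] using h
  have hTr : (σ - 1) ^ (N - 1) = ∑ i ∈ Finset.range N, σ ^ i := by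
    have h1 : (X - 1 : K[X]) ^ (N - 1) = ∑ i ∈ Finset.range N, X ^ i := by
      refine mul_right_cancel₀ (Polynomial.X_sub_C_ne_zero (1 : K)) ?_
      rw [map_one, geom_sum_mul, ← pow_succ, Nat.sub_add_cancel (by omega : 1 ≤ N), hfrob]
    have h := congrArg (aeval σ) h1
    simpa [map_sum] using h
  set R := LinearMap.range ((σ - 1) ^ (N - 1)) with hR
  have htr0 : ∀ f ∈ R, LinearMap.trace K V f = 0 := by
    rintro _ ⟨f, rfl⟩
    rw [hTr, LinearMap.sum_apply, map_sum, Finset.sum_congr rfl fun i _ => show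
      LinearMap.trace K V ((σ ^ i) f) = LinearMap.trace K V f by
        rw [hσ, mul_assoc, LinearMap.trace_mul_comm, mul_assoc, ← map_mul, inv_mul_cancel, map_one,
          mul_one],
      Finset.sum_const, Finset.card_range, nsmul_eq_mul, hNdef, hn, Nat.cast_pow,
      CharP.cast_eq_zero, zero_pow (fun h => hN1 (by rw [hNdef, hn, h, pow_zero])), zero_mul]
  have h1R : (1 : Module.End K V) ∉ R := fun h => hD0 (by
    have := htr0 _ h
    rwa [LinearMap.trace_one] at this)
  have hcount : N * finrank K R + 1 ≤ D ^ 2 := by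
    have h := rank_count (σ - 1) hN2 hδN 1 ?_ h1R
    · rwa [Module.finrank_linearMap, ← sq] at h
    · rw [LinearMap.sub_apply, Module.End.one_apply, sub_eq_zero]
      have := hσ 1 1
      rw [pow_one, pow_one, mul_one, ← map_mul ρ x, mul_inv_cancel, map_one ρ] at this
      exact this
  -- the commutant
  have hcomm : HallHigman.comm (ρ x) ≤ R ⊔ K ∙ (1 : Module.End K V) := by
    intro f hf
    rw [HallHigman.mem_comm] at hf
    have hfc : ∀ h ∈ Subgroup.zpowers x, Commute (ρ h) f := by
      intro h hh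
      obtain ⟨k, rfl⟩ := mem_powers_iff_mem_zpowers.mpr hh
      show Commute (ρ (x ^ k)) f
      rw [map_pow]
      exact Commute.pow_left hf.symm k
    let a : Q → K := fun t => LinearMap.trace K V (r t⁻¹ * f)
    have hrec := reconstruct hirr' f
    suffices h : ∑ t : Q, a t • r t ∈ R ⊔ K ∙ (1 : Module.End K V) by
      have h2 := Submodule.smul_mem _ (Fintype.card Q : K)⁻¹ (Submodule.smul_mem _ (D : K) h)
      rwa [hrec, inv_smul_smul₀ hQK] at h2
    rw [← Finset.sum_filter_add_sum_filter_not Finset.univ fun t : Q => (t : G) ∈ Subgroup.center G]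
    refine Submodule.add_mem _ (Submodule.sum_mem _ fun t ht => ?_) (Submodule.mem_sup_left ?_)
    · obtain ⟨c, hc⟩ := hcent _ (Finset.mem_filter.mp ht).2
      refine Submodule.smul_mem _ _ (Submodule.mem_sup_right ?_)
      show ρ (t : G) ∈ _
      rw [hc]
      exact Submodule.smul_mem _ c (Submodule.mem_span_singleton_self _)
    let Y := {t : Q // (t : G) ∉ Subgroup.center G}
    let H := Subgroup.zpowers x
    letI : MulAction H Y :=
      { smul := fun h t => ⟨⟨(h : G) * (t.1 : G) * (h : G)⁻¹,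
            Subgroup.Normal.conj_mem ‹Q.Normal› _ t.1.2 _⟩,
          fun hc => t.2 (by
            have := Subgroup.Normal.conj_mem
              (inferInstance : (Subgroup.center G).Normal) _ hc (h : G)⁻¹
            simpa [mul_assoc] using this)⟩
        one_smul := fun t => Subtype.ext (Subtype.ext (by
          show ((1 : H) : G) * (t.1 : G) * ((1 : H) : G)⁻¹ = _
          simp))
        mul_smul := fun g h t => Subtype.ext (Subtype.ext (by
          show ((g * h : H) : G) * (t.1 : G) * ((g * h : H) : G)⁻¹ =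
            (g : G) * ((h : G) * (t.1 : G) * (h : G)⁻¹) * (g : G)⁻¹
          simp [mul_assoc])) }
    have hsm : ∀ (h : H) (t : Y), ((h • t).1 : G) = (h : G) * (t.1 : G) * (h : G)⁻¹ :=
      fun h t => rfl
    haveI : Fintype (MulAction.orbitRel.Quotient H Y) := Fintype.ofFinite _
    have hbij : Function.Bijective
        (fun z : H × MulAction.orbitRel.Quotient H Y => z.1 • z.2.out) := by
      refine ⟨fun z z' hzz => ?_, fun t => ?_⟩
      · simp only at hzz
        have hq' : z.2 = z'.2 := by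
          rw [← Quotient.out_eq z.2, ← Quotient.out_eq z'.2]
          refine Quotient.sound ⟨z.1⁻¹ * z'.1, ?_⟩
          simp only [mul_smul, ← hzz, inv_smul_smul]
        rw [← hq'] at hzz
        refine Prod.ext ?_ hq'
        by_contra hne
        have hk : (z'.1⁻¹ * z.1) • z.2.out = z.2.out := by rw [mul_smul, hzz, inv_smul_smul]
        refine (z.2.out).2 (hfix ((z'.1⁻¹ * z.1 : H) : G) (z'.1⁻¹ * z.1).2 ?_ _ (z.2.out).1.2 ?_)
        · rw [Ne, OneMemClass.coe_eq_one, inv_mul_eq_one]
          exact fun h => hne h.symm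
        · have h2 := congrArg (fun t : Y => (t.1 : G)) hk
          simp only [hsm] at h2
          exact mul_inv_eq_iff_eq_mul.mp h2
      · obtain ⟨h, hh⟩ := (Quotient.mk_out (s := MulAction.orbitRel H Y) t)
        exact ⟨(h⁻¹, Quotient.mk _ t), by simp only at hh ⊢; rw [← hh, inv_smul_smul]⟩
    haveI : Fintype H := Fintype.ofFinite _
    refine ⟨∑ ω : MulAction.orbitRel.Quotient H Y, a (ω.out).1 • r (ω.out).1, ?_⟩
    rw [Finset.sum_subtype (p := fun t : Q => (t : G) ∉ Subgroup.center G) _ (by simp)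
      (fun t => a t • r t), hTr, LinearMap.sum_apply, ← Fintype.sum_bijective _ hbij _ _
        (fun z => rfl), Fintype.sum_prod_type, ← Fin.sum_univ_eq_sum_range
        (fun i => (σ ^ i) (∑ ω : MulAction.orbitRel.Quotient H Y, a (ω.out).1 • r (ω.out).1))]
    refine Fintype.sum_equiv ((finCongr hN).trans (finEquivZPowers (isOfFinOrder_of_finite x))) _ _
      fun i => ?_
    rw [map_sum]
    refine Finset.sum_congr rfl fun ω _ => ?_
    set h : H := ((finCongr hN).trans (finEquivZPowers (isOfFinOrder_of_finite x))) i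
    have hh : (h : G) = x ^ (i : ℕ) := rfl
    rw [map_smul, hσ, ← hh]
    have hr1 : r (h • ω.out).1 = ρ (h : G) * r (ω.out).1 * ρ (h : G)⁻¹ := by
      show ρ ((h • ω.out).1 : G) = ρ (h : G) * ρ ((ω.out).1 : G) * ρ (h : G)⁻¹
      rw [hsm, map_mul, map_mul]
    rw [hr1]
    congr 1
    show LinearMap.trace K V (ρ ((ω.out).1 : G)⁻¹ * f) =
      LinearMap.trace K V (ρ ((h • ω.out).1 : G)⁻¹ * f)
    rw [hsm, show ((h : G) * ((ω.out).1 : G) * (h : G)⁻¹)⁻¹ =
      (h : G) * (((ω.out).1 : G)⁻¹ * (h : G)⁻¹) by group]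
    have h3 : ρ ((h : G) * (((ω.out).1 : G)⁻¹ * (h : G)⁻¹)) * f =
        ρ (h : G) * (ρ ((ω.out).1 : G)⁻¹ * f * ρ (h : G)⁻¹) := by
      have hci : Commute (ρ (h : G)⁻¹) f := hfc _ (H.inv_mem h.2)
      simp only [map_mul, mul_assoc]
      rw [hci.eq]
    rw [h3, LinearMap.trace_mul_comm _ (ρ (h : G)), mul_assoc (ρ ((ω.out).1 : G)⁻¹ * f), ← map_mul ρ,
      inv_mul_cancel, map_one, mul_one]
  have hc1 : finrank K (HallHigman.comm (ρ x)) ≤ finrank K R + 1 := by
    refine (Submodule.finrank_mono hcomm).trans ?_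
    refine (Submodule.finrank_add_le_finrank_add_finrank R _).trans ?_
    rw [finrank_span_singleton (one_ne_zero (α := Module.End K V))]
  have hsq : D ^ 2 ≤ s * finrank K (HallHigman.comm (ρ x)) := by
    have h := HallHigman.sq_finrank_le_comm (List.replicate s (1 : K)) (ρ x)
      (by simp [List.map_replicate, List.prod_replicate, hs])
    rwa [List.length_replicate] at h
  have hsD : s ≤ D := by
    by_contra h
    refine hmin D (not_le.mp h) (LinearMap.ker_eq_top.mp ?_)
    rw [← Module.End.ker_pow_eq_ker_pow_finrank_of_le (le_of_lt (not_le.mp h)), hs,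
      LinearMap.ker_zero]
  by_cases hsN' : s = N
  · exact ⟨by omega, hsN, fun h => by omega⟩
  set t := finrank K R
  have hDs : D ^ 2 ≤ s * (t + 1) := hsq.trans (Nat.mul_le_mul_left s hc1)
  have hs1 : s + 1 ≤ N := by omega
  have hDt : D ≤ t + 1 := by
    have h1 : D * D ≤ D * (t + 1) := by
      calc D * D = D ^ 2 := (sq D).symm
        _ ≤ s * (t + 1) := hDs
        _ ≤ D * (t + 1) := Nat.mul_le_mul_right _ hsD
    exact Nat.le_of_mul_le_mul_left h1 hDpos
  have ht0 : 1 ≤ t := by omega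
  have htle : t + 2 ≤ N := by
    have h1 : (s + 1) * (t + 1) ≤ N * (t + 1) := Nat.mul_le_mul_right _ hs1
    nlinarith
  have htge : N ≤ t + 2 := by
    have h1 : D ^ 2 ≤ (t + 1) ^ 2 := Nat.pow_le_pow_left hDt 2
    nlinarith
  have hNt : N = t + 2 := by omega
  have hDeq : D = t + 1 := by
    refine le_antisymm hDt ?_
    by_contra h
    have h1 : D ≤ t := by omega
    have h2 : D ^ 2 ≤ t ^ 2 := Nat.pow_le_pow_left h1 2
    nlinarith
  have hseq : s = N - 1 := by
    rw [hDeq] at hDs
    have h1 : t + 1 ≤ s := by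
      have h2 : (t + 1) * (t + 1) ≤ s * (t + 1) := by rw [← sq]; exact hDs
      exact Nat.le_of_mul_le_mul_right h2 (by omega)
    omega
  refine ⟨by omega, hsN, fun _ => ⟨⟨b, by rw [← hb]; omega⟩, fun hcom => ?_⟩⟩
  -- a commutative `Q` has degree one
  have hsc : ∀ g : Q, ∃ c : K, r g = c • 1 := fun g => schur hirr' (r g) fun g' => by
    show r g' * r g = r g * r g'
    rw [← map_mul, ← map_mul, mul_comm' g' g]
  obtain ⟨v, hv⟩ := exists_ne (0 : V)
  rcases hirr' (K ∙ v) (fun g y hy => by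
    obtain ⟨c, hc⟩ := hsc g
    rw [hc]
    exact Submodule.smul_mem _ c hy) with h | h
  · exact hv (Submodule.span_singleton_eq_bot.mp h)
  · have : D = 1 := by rw [hDdef, ← finrank_top K V, ← h, finrank_span_singleton hv]
    omega

end Cfsg.Agent.S4282
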