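import Cfsg.Statements.S4283
import Mathlib
import Cfsg.Agent.Lib.FrobeniusBasic

set_option autoImplicit false
open Cfsg

namespace Cfsg.Agent.S4283

open Cfsg.Agent.FrobeniusBasic
/-- Let G be a finite group with centre Z and let K, H be abelian subgroups of G containing Z such that G/Z is a Frobenius group with complement H/Z and kernel K/Z. Then the conjugacy class sizes of G are exactly 1, [G : K] and [G : H], and these two indices are coprime. (This is the converse half of the characterization of finite groups whose conjugacy class sizes are exactly 1, m and n with m and n coprime.) -/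
theorem result {G : Type*} [Group G] [Finite G] (K H : Subgroup G) (hZK : Subgroup.center G ≤ K) (hZH : Subgroup.center G ≤ H) (hK : IsMulCommutative K) (hH : IsMulCommutative H) (hFrob : Cfsg.IsFrobeniusComplement (H.map (QuotientGroup.mk' (Subgroup.center G)))) (hker : Cfsg.frobeniusKernel (H.map (QuotientGroup.mk' (Subgroup.center G))) = (K.map (QuotientGroup.mk' (Subgroup.center G)) : Set (G ⧸ Subgroup.center G))) : Set.range (fun x : G => (Subgroup.centralizer ({x} : Set G)).index) = ({1, K.index, H.index} : Set ℕ) ∧ K.index.Coprime H.index := by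
  set Z := Subgroup.center G with hZ
  set π := QuotientGroup.mk' Z with hπ
  have hπs : Function.Surjective π := QuotientGroup.mk'_surjective Z
  have hKm : ∀ g : G, π g ∈ K.map π ↔ g ∈ K := by
    intro g
    rw [← Subgroup.mem_comap, Subgroup.comap_map_eq, QuotientGroup.ker_mk', sup_eq_left.mpr hZK]
  have hHm : ∀ g : G, π g ∈ H.map π ↔ g ∈ H := by
    intro g
    rw [← Subgroup.mem_comap, Subgroup.comap_map_eq, QuotientGroup.ker_mk', sup_eq_left.mpr hZH]
  have hKn : (K.map π).Normal := normal_of_eq_kernel hker.symm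
  have hc := isComplement_of_eq_kernel hFrob hker.symm
  have hfpf := fpf_of_complement hFrob hc.disjoint
  have hKb : K.map π ≠ ⊥ := kernel_ne_bot hFrob hker.symm
  have hdec : ∀ g : G, ∃ k ∈ K, ∃ h ∈ H, g = k * h := by
    intro g
    obtain ⟨⟨⟨a, k, hk, rfl⟩, ⟨b, h, hh, rfl⟩⟩, hkh⟩ := hc.2 (π g)
    refine ⟨k, hk, k⁻¹ * g, ?_, by group⟩
    rw [← hHm, map_mul, map_inv, ← hkh]
    simpa using Subgroup.mem_map_of_mem π hh
  have hCK : ∀ x ∈ K, x ∉ Z → Subgroup.centralizer ({x} : Set G) = K := by
    intro x hx hxZ
    apply le_antisymm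
    · intro g hg
      rw [Subgroup.mem_centralizer_singleton_iff] at hg
      obtain ⟨k, hk, h, hh, rfl⟩ := hdec g
      have hkx : k * x = x * k := Subtype.ext_iff.mp (hK.is_comm.comm (⟨k, hk⟩ : K) ⟨x, hx⟩)
      have hhx : h * x = x * h := by
        have : k * (h * x) = k * (x * h) := by
          rw [← mul_assoc, hg, ← mul_assoc, ← mul_assoc, hkx]
        exact mul_left_cancel this
      by_cases h1 : π h = 1
      · exact K.mul_mem hk ((hKm h).mp (h1 ▸ Subgroup.one_mem _))
      · exfalso
        have hmem : π x ∈ K.map π ⊓ Subgroup.centralizer ({π h} : Set (G ⧸ Z)) := by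
          refine ⟨Subgroup.mem_map_of_mem π hx, ?_⟩
          show π x ∈ Subgroup.centralizer ({π h} : Set (G ⧸ Z))
          rw [Subgroup.mem_centralizer_singleton_iff, ← map_mul, ← map_mul, hhx]
        rw [hfpf _ (Subgroup.mem_map_of_mem π hh) h1, Subgroup.mem_bot] at hmem
        exact hxZ ((QuotientGroup.eq_one_iff x).mp hmem)
    · intro g hg
      rw [Subgroup.mem_centralizer_singleton_iff]
      exact Subtype.ext_iff.mp (hK.is_comm.comm (⟨g, hg⟩ : K) ⟨x, hx⟩)
  have hCH : ∀ x ∈ H, x ∉ Z → Subgroup.centralizer ({x} : Set G) = H := by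
    intro x hx hxZ
    apply le_antisymm
    · intro g hg
      rw [Subgroup.mem_centralizer_singleton_iff] at hg
      refine (hHm g).mp (centralizer_le hFrob (Subgroup.mem_map_of_mem π hx) ?_ ?_)
      · exact fun h => hxZ ((QuotientGroup.eq_one_iff x).mp h)
      · rw [Subgroup.mem_centralizer_singleton_iff, ← map_mul, ← map_mul, hg]
    · intro g hg
      rw [Subgroup.mem_centralizer_singleton_iff]
      exact Subtype.ext_iff.mp (hH.is_comm.comm (⟨g, hg⟩ : H) ⟨x, hx⟩)
  have hidx : ∀ g x : G, (Subgroup.centralizer ({g * x * g⁻¹} : Set G)).index =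
      (Subgroup.centralizer ({x} : Set G)).index := by
    intro g x
    have : Subgroup.centralizer ({g * x * g⁻¹} : Set G) =
        (Subgroup.centralizer ({x} : Set G)).map (MulAut.conj g).toMonoidHom := by
      ext y
      rw [Subgroup.mem_map_equiv, Subgroup.mem_centralizer_singleton_iff,
        Subgroup.mem_centralizer_singleton_iff, MulAut.conj_symm_apply]
      constructor
      · intro h
        calc g⁻¹ * y * g * x = g⁻¹ * (y * (g * x * g⁻¹)) * g := by group
          _ = g⁻¹ * (g * x * g⁻¹ * y) * g := by rw [h]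
          _ = x * (g⁻¹ * y * g) := by group
      · intro h
        calc y * (g * x * g⁻¹) = g * (g⁻¹ * y * g * x) * g⁻¹ := by group
          _ = g * (x * (g⁻¹ * y * g)) * g⁻¹ := by rw [h]
          _ = g * x * g⁻¹ * y := by group
    rw [this, Subgroup.index_map_of_bijective (MulAut.conj g).bijective]
  constructor
  · refine Set.Subset.antisymm ?_ ?_
    · rintro _ ⟨x, rfl⟩
      show _ ∈ ({1, K.index, H.index} : Set ℕ)
      rw [Set.mem_insert_iff, Set.mem_insert_iff, Set.mem_singleton_iff]
      by_cases hxZ : x ∈ Z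
      · left
        beta_reduce
        rw [Subgroup.index_eq_one, eq_top_iff]
        exact fun g _ => Subgroup.mem_centralizer_singleton_iff.mpr (Subgroup.mem_center_iff.mp hxZ g)
      by_cases hxK : x ∈ K
      · exact Or.inr (Or.inl (by beta_reduce; rw [hCK x hxK hxZ]))
      · right; right
        beta_reduce
        have hxk : π x ∉ Cfsg.frobeniusKernel (H.map π) := by
          rw [hker, SetLike.mem_coe, hKm]; exact hxK
        rw [frobeniusKernel_eq_compl, Set.mem_compl_iff, not_not, mem_conjClosure] at hxk
        obtain ⟨-, q, hq⟩ := hxk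
        obtain ⟨g, rfl⟩ := hπs q
        rw [← map_inv, ← map_mul, ← map_mul, hHm] at hq
        rw [← hidx g⁻¹ x, inv_inv, hCH _ hq]
        intro hcen
        refine hxZ ?_
        have := (Subgroup.Normal.conj_mem (Subgroup.instNormalCenter) _ hcen g)
        simpa [mul_assoc] using this
    · rintro m (rfl | rfl | rfl)
      · exact ⟨1, by simp⟩
      · obtain ⟨q, hq, hq1⟩ := (K.map π).bot_or_exists_ne_one.resolve_left hKb
        obtain ⟨x, hx, rfl⟩ := hq
        exact ⟨x, by beta_reduce; rw [hCK x hx fun h => hq1 ((QuotientGroup.eq_one_iff x).mpr h)]⟩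
      · obtain ⟨q, hq, hq1⟩ := (H.map π).bot_or_exists_ne_one.resolve_left hFrob.1
        obtain ⟨x, hx, rfl⟩ := hq
        exact ⟨x, by beta_reduce; rw [hCH x hx fun h => hq1 ((QuotientGroup.eq_one_iff x).mpr h)]⟩
  · have h1 : K.index = Nat.card (H.map π) := by
      rw [← hc.symm.index_eq_card, Subgroup.index_map_eq K hπs]
      rwa [QuotientGroup.ker_mk']
    have h2 : H.index = (H.map π).index := by
      rw [Subgroup.index_map_eq H hπs]
      rwa [QuotientGroup.ker_mk']
    rw [h1, h2]
    exact coprime_card_index hFrob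

end Cfsg.Agent.S4283
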