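import Cfsg.Statements.S4284
import Mathlib
import Cfsg.Agent.Lib.ThreeSizes76
import Cfsg.Agent.Lib.ThreeSizesAction76
import Cfsg.Agent.S4127

set_option autoImplicit false
open Cfsg

namespace Cfsg.Agent.S4284

open Cfsg.Agent.ClassSizeGraph76
open Cfsg.Agent.ThreeSizes76

local notation "Cn" g => Subgroup.centralizer ({g} : Set _)

/-- Splitting a subgroup along a complement. -/
theorem card_split {G : Type*} [Group G] [Finite G] {K P : Subgroup G} (hKP : K.IsComplement' P)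
    (D : Subgroup G) (h : ∀ k ∈ K, ∀ σ ∈ P, k * σ ∈ D → k ∈ D ∧ σ ∈ D) :
    Nat.card D = Nat.card (K ⊓ D : Subgroup G) * Nat.card (P ⊓ D : Subgroup G) := by
  rw [← Nat.card_prod]
  let f : (K ⊓ D : Subgroup G) × (P ⊓ D : Subgroup G) → D := fun x => ⟨(x.1 : G) * x.2, D.mul_mem x.1.2.2 x.2.2.2⟩
  refine (Nat.card_eq_of_bijective f ⟨fun x y hxy => ?_, fun d => ?_⟩).symm
  · have h1 : (x.1 : G) * x.2 = (y.1 : G) * y.2 := congrArg Subtype.val hxy
    have h2 := hKP.1 (a₁ := (⟨(x.1 : G), x.1.2.1⟩, ⟨(x.2 : G), x.2.2.1⟩))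
      (a₂ := (⟨(y.1 : G), y.1.2.1⟩, ⟨(y.2 : G), y.2.2.1⟩)) h1
    simp only [Prod.mk.injEq, Subtype.mk.injEq] at h2
    exact Prod.ext (Subtype.ext h2.1) (Subtype.ext h2.2)
  · obtain ⟨⟨k, σ⟩, hd⟩ := hKP.2 (d : G)
    have h1 := h k k.2 σ σ.2 (by rw [show (k : G) * σ = d from hd]; exact d.2)
    exact ⟨(⟨k, k.2, h1.1⟩, ⟨σ, σ.2, h1.2⟩), Subtype.ext hd⟩

theorem split_comm {G : Type*} [Group G] {K P : Subgroup G} [hKn : K.Normal] (hKP : K.IsComplement' P)
    {π k σ : G} (hπ : π ∈ P) (hk : k ∈ K) (hσ : σ ∈ P) (h : Commute (k * σ) π) :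
    Commute k π ∧ Commute σ π := by
  have h1 : π * k * π⁻¹ * (π * σ) = k * (σ * π) := by
    rw [← mul_assoc k, h.eq]; group
  have h2 := hKP.1 (a₁ := (⟨π * k * π⁻¹, hKn.conj_mem k hk π⟩, ⟨π * σ, P.mul_mem hπ hσ⟩))
    (a₂ := (⟨k, hk⟩, ⟨σ * π, P.mul_mem hσ hπ⟩)) h1
  simp only [Prod.mk.injEq, Subtype.mk.injEq] at h2
  exact ⟨(mul_inv_eq_iff_eq_mul.mp h2.1).symm, h2.2.symm⟩

theorem main {G : Type*} [Group G] [Finite G] {m n : ℕ} (H : Sizes G m n) : m.Prime ∧ m ∣ n - 1 ∧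
    (∃ M : Subgroup G, M.Normal ∧ (M : Set G) = {x : G | cs x = 1 ∨ cs x = m} ∧ M.index = m ∧ IsMulCommutative M) ∧
    (∃ N : Subgroup G, N.Normal ∧ (Nat.card N).Coprime m ∧ ∃ a : ℕ, N.index = m ^ a) ∧
    ∀ P : Sylow m G, Nat.card (commutator (P : Subgroup G)) = m := by
  classical
  obtain ⟨p, a, hp', ha, hma⟩ := exists_prime_pow H
  have hp : Fact p.Prime := ⟨hp'⟩
  have hpm : p ∣ m := hma ▸ dvd_pow_self p ha.ne'
  obtain ⟨v₀, hv₀p, hv₀⟩ := exists_pEl_m H ha hma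
  have hmax : ∀ y : G, ¬ p ^ (a + 1) ∣ cs y := by
    intro y hd
    have h1 := hd.trans (dvd_mn H y)
    rw [hma, pow_succ] at h1
    exact p_not_dvd_n H hpm ((mul_dvd_mul_iff_left (pow_pos hp'.pos a).ne').mp h1)
  obtain ⟨P₀, K, hKn, hKP₀⟩ := Cfsg.Agent.S4127.result p a hmax ⟨v₀, hv₀p, hv₀.trans hma⟩
  have hKcop : (Nat.card K).Coprime p := by
    rw [show Nat.card K = (P₀ : Subgroup G).index from hKP₀.index_eq_card.symm]
    exact (hp'.coprime_iff_not_dvd.mpr P₀.not_dvd_index).symm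
  have hKcoppow : ∀ j : ℕ, (Nat.card K).Coprime (p ^ j) := fun j => Nat.Coprime.pow_right j hKcop
  have hKP : ∀ P : Sylow p G, K.IsComplement' (P : Subgroup G) := fun P => by
    refine Subgroup.isComplement'_of_coprime ?_ ?_
    · rw [P.card_eq_multiplicity, ← P₀.card_eq_multiplicity, hKP₀.card_mul]
    · rw [P.card_eq_multiplicity]; exact hKcoppow _
  have hKel : ∀ k ∈ K, Cop p k := fun k hk =>
    Nat.Coprime.coprime_dvd_left (Subgroup.orderOf_dvd_natCard K hk) hKcop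
  set f := (Nat.card G).factorization p with hf
  have hcardG : Nat.card K * p ^ f = Nat.card G := by
    rw [← hKP₀.card_mul, P₀.card_eq_multiplicity]
  have hfac : m.factorization p = a := by rw [hma, hp'.factorization_pow, Finsupp.single_eq_same]
  have haf : a ≤ f := by
    rw [hf, ← hp'.pow_dvd_iff_le_factorization Nat.card_pos.ne', ← hma, ← hv₀]
    exact Subgroup.index_dvd_card _
  set e := eP G m p with he
  have hef : e + a = f := by rw [he, eP, hfac]; omega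
  -- statements relative to an arbitrary Sylow subgroup
  suffices key : ∀ P : Sylow p G, a = 1 ∧ p ∣ n - 1 ∧
      (∃ M : Subgroup G, M.Normal ∧ (M : Set G) = {x : G | cs x = 1 ∨ cs x = m} ∧ M.index = p ^ a ∧ IsMulCommutative M) ∧
      Nat.card (commutator (P : Subgroup G)) = p by
    obtain ⟨ha1, hn1, hM, -⟩ := key P₀
    have hmp : m = p := by rw [hma, ha1, pow_one]
    subst hmp
    rw [ha1, pow_one] at hM
    exact ⟨hp', hn1, hM, ⟨K, hKn, hKcop, f, by rw [hKP₀.symm.index_eq_card, P₀.card_eq_multiplicity]⟩,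
      fun P => (key P).2.2.2⟩
  intro P
  have hc := hKP P
  obtain ⟨v, hvP, hvcs⟩ : ∃ v ∈ (P : Subgroup G), cs v = m := by
    obtain ⟨j, hj⟩ := hv₀p
    obtain ⟨T, hT⟩ := (IsPGroup.of_card (n := j) (by rw [Nat.card_zpowers, hj]) :
      IsPGroup p (Subgroup.zpowers v₀)).exists_le_sylow
    obtain ⟨g, hg⟩ := MulAction.exists_smul_eq G T P
    refine ⟨g * v₀ * g⁻¹, ?_, by rw [cs_conj, hv₀]⟩
    rw [← hg, Sylow.coe_subgroup_smul]
    exact ⟨v₀, hT (Subgroup.mem_zpowers v₀), rfl⟩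
  have hvZ := not_mem_center_of_cs H (Or.inl hvcs)
  have hcardC : ∀ π ∈ (P : Subgroup G), Nat.card (Cn π) =
      Nat.card (K ⊓ (Cn π) : Subgroup G) * Nat.card ((P : Subgroup G) ⊓ (Cn π) : Subgroup G) :=
    fun π hπ => card_split hc _ fun k hk σ hσ h => by
      obtain ⟨h1, h2⟩ := split_comm hc hπ hk hσ (mem_cent.mp h)
      exact ⟨mem_cent.mpr h1.eq, mem_cent.mpr h2.eq⟩
  have hCP : ∀ π ∈ (P : Subgroup G), π ∉ Subgroup.center G →
      Nat.card ((P : Subgroup G) ⊓ (Cn π) : Subgroup G) = p ^ e := by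
    intro π hπ hπZ
    have h1 : (Nat.card (Cn π)).factorization p = e := fact_cent H hpm hπZ
    have h2 : (Nat.card (K ⊓ (Cn π) : Subgroup G)).Coprime p :=
      Nat.Coprime.coprime_dvd_left (Subgroup.card_dvd_of_le inf_le_left) hKcop
    obtain ⟨j, hj⟩ := IsPGroup.iff_card.mp (P.2.to_le (inf_le_left : (P : Subgroup G) ⊓ (Cn π) ≤ P))
    rw [hcardC π hπ, hj, Nat.factorization_mul Nat.card_pos.ne' (pow_pos hp'.pos j).ne', Finsupp.add_apply,
      Nat.factorization_eq_zero_of_not_dvd (hp'.coprime_iff_not_dvd.mp h2.symm), zero_add,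
      hp'.factorization_pow, Finsupp.single_eq_same] at h1
    rw [hj, h1]
  have hcsπ : ∀ π ∈ (P : Subgroup G), π ∉ Subgroup.center G →
      cs π * Nat.card (K ⊓ (Cn π) : Subgroup G) = Nat.card K * p ^ a := by
    intro π hπ hπZ
    have h1 : Nat.card (Cn π) * cs π = Nat.card G := Subgroup.card_mul_index _
    rw [hcardC π hπ, hCP π hπ hπZ, ← hcardG, ← hef, pow_add] at h1
    apply Nat.eq_of_mul_eq_mul_left (pow_pos hp'.pos e)
    linarith
  -- `v` centralises `K`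
  set P₁ := (P : Subgroup G) ⊓ Subgroup.centralizer (K : Set G) with hP₁
  have hvK : v ∈ P₁ := by
    refine ⟨hvP, Subgroup.mem_centralizer_iff.mpr fun k hk => ?_⟩
    have h1 := hcsπ v hvP hvZ
    rw [hvcs, hma, mul_comm] at h1
    have h2 : K ⊓ (Cn v) = K := Subgroup.eq_of_le_of_card_ge inf_le_left
      (Nat.eq_of_mul_eq_mul_right (pow_pos hp'.pos a) h1).ge
    exact mem_cent.mp (h2.ge hk).2
  -- some element of `K` is not central
  have hKZ : ¬ K ≤ Subgroup.center G := by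
    intro hKc
    obtain ⟨y, hy⟩ := H.hexn
    obtain ⟨⟨k, σ⟩, hkσ⟩ := hc.2 y
    have hkσ' : (k : G) * σ = y := hkσ
    have hσy : (Cn (σ : G)) ≤ (Cn y) := fun g hg => mem_cent.mpr
      (hkσ' ▸ ((show Commute g (k : G) from Subgroup.mem_center_iff.mp (hKc k.2) g).mul_right (mem_cent.mp hg)).eq)
    have hd : cs y ∣ cs (σ : G) := Subgroup.index_dvd_of_le hσy
    by_cases hσZ : (σ : G) ∈ Subgroup.center G
    · rw [hy, cs_eq_one hσZ, Nat.dvd_one] at hd
      have := H.hm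
      have := Nat.eq_one_of_mul_eq_one_right hd
      omega
    have h1 := hcsπ σ σ.2 hσZ
    rw [inf_eq_left.mpr (fun k' hk' => mem_cent.mpr (Subgroup.mem_center_iff.mp (hKc hk') (σ : G)).symm),
      mul_comm, ← hma] at h1
    rw [Nat.eq_of_mul_eq_mul_left Nat.card_pos h1, hy] at hd
    have := Nat.le_of_dvd (by have := H.hm; omega) hd
    have := H.hm; have := H.hn
    nlinarith
  obtain ⟨k₀, hk₀, hk₀Z⟩ := SetLike.not_le_iff_exists.mp hKZ
  have hDirS : ∀ π ∈ P₁, π ∉ Subgroup.center G → ∀ k ∈ K, ∀ σ ∈ (P : Subgroup G) ⊓ (Cn π), Commute σ k := by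
    intro π hπ hπZ k hk σ hσ
    obtain ⟨S, A, hD⟩ := exists_dir H hpm hπZ (pEl_of_mem P.2 hπ.1)
    exact hD.comm σ (hD.smem σ hσ.2 (pEl_of_mem P.2 hσ.1)) k
      (hD.amem k (mem_cent.mpr (Subgroup.mem_centralizer_iff.mp hπ.2 k hk)) (hKel k hk))
  have hCle : ∀ π ∈ P₁, π ∉ Subgroup.center G → (P : Subgroup G) ⊓ (Cn π) ≤ P₁ := fun π hπ hπZ σ hσ =>
    ⟨hσ.1, Subgroup.mem_centralizer_iff.mpr fun k hk => (hDirS π hπ hπZ k hk σ hσ).eq.symm⟩
  have hP₁k : ∀ k ∈ K, P₁ ≤ (P : Subgroup G) ⊓ (Cn k) := fun k hk σ hσ =>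
    ⟨hσ.1, mem_cent.mpr (Subgroup.mem_centralizer_iff.mp hσ.2 k hk).symm⟩
  have hP₁card : Nat.card P₁ = p ^ e := by
    refine le_antisymm ?_ ?_
    · exact (Nat.le_of_dvd Nat.card_pos (Subgroup.card_dvd_of_le (hP₁k k₀ hk₀))).trans
        (card_le H hpm hk₀Z (P.2.to_le inf_le_left) inf_le_right)
    · rw [← hCP v hvP hvZ]
      exact Nat.le_of_dvd Nat.card_pos (Subgroup.card_dvd_of_le (hCle v hvK hvZ))
  have hP₁eq : ∀ π ∈ P₁, π ∉ Subgroup.center G → (P : Subgroup G) ⊓ (Cn π) = P₁ := fun π hπ hπZ =>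
    Subgroup.eq_of_le_of_card_ge (hCle π hπ hπZ) (by rw [hP₁card, hCP π hπ.1 hπZ])
  have hP₁ab : ∀ σ ∈ P₁, ∀ τ ∈ P₁, σ * τ = τ * σ := by
    intro σ hσ τ hτ
    by_cases hσZ : σ ∈ Subgroup.center G
    · exact (Subgroup.mem_center_iff.mp hσZ τ).symm
    · exact (mem_cent.mp ((hP₁eq σ hσ hσZ).ge hτ).2).symm
  -- elements of `P` outside `P₁` act fixed-point-freely
  have hfree : ∀ π ∈ (P : Subgroup G), ∀ k ∈ K, k ∉ Subgroup.center G → Commute π k → π ∈ P₁ := by
    intro π hπ k hk hkZ hc'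
    have h1 : P₁ = (P : Subgroup G) ⊓ (Cn k) := Subgroup.eq_of_le_of_card_ge (hP₁k k hk)
      (by rw [hP₁card]; exact card_le H hpm hkZ (P.2.to_le inf_le_left) inf_le_right)
    exact h1.ge ⟨hπ, mem_cent.mpr hc'.eq⟩
  obtain ⟨g, hgP, hgP₁⟩ : ∃ g ∈ (P : Subgroup G), g ∉ P₁ := by
    by_contra hall
    push Not at hall
    have h1 : Nat.card (P : Subgroup G) ≤ Nat.card P₁ := Nat.le_of_dvd Nat.card_pos (Subgroup.card_dvd_of_le hall)
    rw [P.card_eq_multiplicity, hP₁card, ← hf, ← hef, Nat.pow_le_pow_iff_right hp'.one_lt] at h1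
    omega
  have hnot : ∀ π ∈ (P : Subgroup G), π ∉ P₁ → π ∉ Subgroup.center G := fun π hπ hπ1 hπZ =>
    hπ1 ⟨hπ, Subgroup.mem_centralizer_iff.mpr fun k _ => Subgroup.mem_center_iff.mp hπZ k⟩
  set z := Nat.card (K ⊓ Subgroup.center G : Subgroup G) with hz
  have hKg : ∀ π ∈ (P : Subgroup G), π ∉ P₁ → K ⊓ (Cn π) = K ⊓ Subgroup.center G := by
    intro π hπ hπ1
    refine le_antisymm (fun k hk => ⟨hk.1, ?_⟩)
      (fun k hk => ⟨hk.1, mem_cent.mpr (Subgroup.mem_center_iff.mp hk.2 π).symm⟩)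
    by_contra hkZ
    exact hπ1 (hfree π hπ k hk.1 hkZ (show Commute k π from mem_cent.mp hk.2).symm)
  have hKn' : Nat.card K = n * z := by
    have h1 := hcsπ g hgP (hnot g hgP hgP₁)
    rw [hKg g hgP hgP₁, ← hz] at h1
    rcases cases2 H (hnot g hgP hgP₁) with h | h <;> rw [h, hma] at h1
    · exfalso
      rw [mul_comm (Nat.card K)] at h1
      have h2 : K ⊓ Subgroup.center G = K := Subgroup.eq_of_le_of_card_ge inf_le_left
        (by rw [← hz, Nat.eq_of_mul_eq_mul_left (pow_pos hp'.pos a) h1])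
      exact hKZ (h2 ▸ inf_le_right)
    · apply Nat.eq_of_mul_eq_mul_right (pow_pos hp'.pos a)
      rw [← h1]; ring
  have hidxK : ∀ y : G, cs y = m → K ≤ (Cn y) := by
    intro y hy
    refine Subgroup.relIndex_eq_one.mp (Nat.eq_one_of_dvd_coprimes (hKcoppow a) ?_ ?_)
    · exact ⟨Nat.card ((Cn y).subgroupOf K), by rw [mul_comm]; exact (Subgroup.card_mul_index _).symm⟩
    · rw [← hma, ← hy]
      exact relIndex_dvd_index (Cn y) K
  have hKab : ∀ k ∈ K, ∀ k' ∈ K, k * k' = k' * k := by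
    intro k hk k' hk'
    by_cases hkZ : k ∈ Subgroup.center G
    · exact (Subgroup.mem_center_iff.mp hkZ k').symm
    refine (mem_cent.mp (hidxK k ((cases2 H hkZ).resolve_right fun hmn => ?_) hk')).symm
    have hsup : ∀ u ∈ K ⊓ (Cn k), ∀ σ ∈ P₁, Commute u σ := fun u hu σ hσ =>
      (Subgroup.mem_centralizer_iff.mp hσ.2 u hu.1)
    let f' : (K ⊓ (Cn k) : Subgroup G) × P₁ → (Cn k : Subgroup G) := fun x =>
      ⟨(x.1 : G) * x.2, Subgroup.mul_mem _ x.1.2.2 (hP₁k k hk x.2.2).2⟩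
    have hinj : Function.Injective f' := fun x y hxy => by
      have h2 := hc.1 (a₁ := (⟨(x.1 : G), x.1.2.1⟩, ⟨(x.2 : G), x.2.2.1⟩))
        (a₂ := (⟨(y.1 : G), y.1.2.1⟩, ⟨(y.2 : G), y.2.2.1⟩)) (congrArg Subtype.val hxy)
      simp only [Prod.mk.injEq, Subtype.mk.injEq] at h2
      exact Prod.ext (Subtype.ext h2.1) (Subtype.ext h2.2)
    have h1 := Nat.card_le_card_of_injective f' hinj
    rw [Nat.card_prod, hP₁card] at h1
    have h2 : Nat.card (Cn k) * cs k = Nat.card G := Subgroup.card_mul_index _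
    rw [hmn, ← hcardG, hKn', hma, ← hef, pow_add] at h2
    have h4 : Nat.card (Cn k) = z * p ^ e := by
      apply Nat.eq_of_mul_eq_mul_right (Nat.mul_pos (pow_pos hp'.pos a) (show 0 < n by have := H.hn; omega))
      rw [h2]; ring
    rw [h4] at h1
    have h5 : K ⊓ Subgroup.center G = K ⊓ (Cn k) := Subgroup.eq_of_le_of_card_ge
      (fun u hu => ⟨hu.1, mem_cent.mpr (Subgroup.mem_center_iff.mp hu.2 k).symm⟩)
      (Nat.le_of_mul_le_mul_right h1 (pow_pos hp'.pos e))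
    exact hkZ (h5.ge ⟨hk, mem_cent.mpr rfl⟩).2
  -- `a = 1`
  have hP₁n : ∀ π ∈ (P : Subgroup G), ∀ q ∈ P₁, π * q * π⁻¹ ∈ P₁ := fun π hπ q hq =>
    ⟨(P : Subgroup G).mul_mem ((P : Subgroup G).mul_mem hπ hq.1) ((P : Subgroup G).inv_mem hπ),
      Subgroup.mem_centralizer_iff.mpr fun k hk => by
        have hk' : π⁻¹ * k * π ∈ K := by simpa using hKn.conj_mem k hk π⁻¹
        have h1 := Subgroup.mem_centralizer_iff.mp hq.2 _ hk'
        calc k * (π * q * π⁻¹) = π * (π⁻¹ * k * π * q) * π⁻¹ := by group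
          _ = π * (q * (π⁻¹ * k * π)) * π⁻¹ := by rw [h1]
          _ = _ := by group⟩
  obtain ⟨c, hcP₁, hcZ, hcp, hcc⟩ := exists_c P P₁ inf_le_left hP₁n (fun h => hvZ (h hvK))
  obtain ⟨-, hexp, hcomm⟩ := c_facts P hcp hcc
  have hPc : ∀ π ∈ (P : Subgroup G), π ∈ (Cn c) → π ∈ P₁ := fun π hπ h => (hP₁eq c hcP₁ hcZ).le ⟨hπ, h⟩
  obtain ⟨k₁, r₁, i₁, hr₁, hord₁, hk₁Z⟩ := Cfsg.Agent.TwoIndicesNormal76.exists_primePow_notMem hk₀Z
  have := Fact.mk hr₁
  have hr₁p : r₁ ≠ p := fun h => hk₁Z (by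
    rw [eq_one_of_pEl_cop ⟨i₁, h ▸ hord₁⟩ (hKel _ (K.pow_mem hk₀ k₁))]; exact Subgroup.one_mem _)
  have hrel : P₁.relIndex (P : Subgroup G) = p := relIndex_eq_prime (P : Subgroup G) K P₁ P.2 hr₁p hKab
    (fun π _ u hu => hKn.conj_mem u hu π)
    (fun π hπ u hu => (Subgroup.mem_centralizer_iff.mp hπ.2 u hu).symm)
    hfree
    (fun π hπ π' hπ' => hPc _ ((P : Subgroup G).mul_mem ((P : Subgroup G).mul_mem ((P : Subgroup G).mul_mem hπ hπ')
      ((P : Subgroup G).inv_mem hπ)) ((P : Subgroup G).inv_mem hπ')) (hcomm π hπ π' hπ'))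
    (fun π hπ => hPc _ ((P : Subgroup G).pow_mem hπ p) (hexp π hπ))
    (k₀ ^ k₁) (K.pow_mem hk₀ k₁) ⟨i₁, hord₁⟩ hk₁Z ⟨g, hgP, hgP₁⟩
  have ha1 : a = 1 := by
    have hrel' : (P₁.subgroupOf (P : Subgroup G)).index = p := hrel
    have h1 := Subgroup.card_mul_index (P₁.subgroupOf (P : Subgroup G))
    rw [Nat.card_congr (Subgroup.subgroupOfEquivOfLe (inf_le_left : P₁ ≤ P)).toEquiv, hP₁card, hrel',
      P.card_eq_multiplicity, ← hf, ← hef, ← pow_succ] at h1
    have := Nat.pow_right_injective hp'.two_le h1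
    omega
  refine ⟨ha1, ?_, ?_, ?_⟩
  · -- `p ∣ n - 1`
    obtain ⟨j, hj⟩ := pEl_of_mem P.2 hgP
    let _ : MulAction (Subgroup.zpowers g) K :=
      { smul := fun w k => ⟨(w : G) * k * (w : G)⁻¹, hKn.conj_mem k k.2 w⟩
        one_smul := fun k => Subtype.ext (show (1 : G) * k * (1 : G)⁻¹ = k by group)
        mul_smul := fun u u' k => Subtype.ext
          (show (u : G) * u' * k * ((u : G) * u')⁻¹ = u * (u' * k * (u' : G)⁻¹) * (u : G)⁻¹ by group) }
    have hpg : IsPGroup p (Subgroup.zpowers g) := IsPGroup.of_card (n := j) (by rw [Nat.card_zpowers, hj])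
    have h1 := hpg.card_modEq_card_fixedPoints K
    have h2 : Nat.card (MulAction.fixedPoints (Subgroup.zpowers g) K) = z := by
      refine Nat.card_congr
        { toFun := fun k => ⟨((k : K) : G), (k : K).2, ?_⟩
          invFun := fun k => ⟨⟨(k : G), k.2.1⟩, fun w => Subtype.ext
            (show (w : G) * k * (w : G)⁻¹ = k by rw [Subgroup.mem_center_iff.mp k.2.2 (w : G), mul_inv_cancel_right])⟩
          left_inv := fun k => rfl
          right_inv := fun k => rfl }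
      have h3 : g * ((k : K) : G) * g⁻¹ = (k : K) := congrArg Subtype.val (k.2 ⟨g, Subgroup.mem_zpowers g⟩)
      rw [mul_inv_eq_iff_eq_mul] at h3
      exact ((hKg g hgP hgP₁).le ⟨(k : K).2, mem_cent.mpr h3.symm⟩).2
    rw [h2, hKn'] at h1
    have hzp : Nat.gcd p z = 1 := (Nat.Coprime.coprime_dvd_left (Subgroup.card_dvd_of_le inf_le_left) hKcop).symm
    have h4 : n ≡ 1 [MOD p] := Nat.ModEq.cancel_right_of_coprime hzp (by rw [one_mul]; exact h1)
    exact (Nat.modEq_iff_dvd' (by have := H.hn; omega)).mp h4.symm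
  · refine ⟨Subgroup.centralizer (K : Set G), inferInstance, ?_, ?_, ?_⟩
    · ext x
      obtain ⟨⟨k, σ⟩, hkσ⟩ := hc.2 x
      have hx : (k : G) * σ = x := hkσ
      constructor
      · intro hxM
        have hσ : (σ : G) ∈ P₁ := ⟨σ.2, by
          have hk' : (k : G) ∈ Subgroup.centralizer (K : Set G) :=
            Subgroup.mem_centralizer_iff.mpr fun u hu => hKab u hu k k.2
          have h5 := Subgroup.mul_mem _ (Subgroup.inv_mem _ hk') hxM
          rwa [← hx, inv_mul_cancel_left] at h5⟩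
        by_cases hxZ : x ∈ Subgroup.center G
        · exact Or.inl (cs_eq_one hxZ)
        refine Or.inr ((cases2 H hxZ).resolve_right fun hmn => ?_)
        -- `K` and `P₁` centralise `x`
        let f' : K × P₁ → (Cn x : Subgroup G) := fun y => ⟨(y.1 : G) * y.2, Subgroup.mul_mem _
          (mem_cent.mpr (Subgroup.mem_centralizer_iff.mp hxM y.1 y.1.2))
          (mem_cent.mpr (hx ▸ (Commute.mul_right
            (show Commute (y.2 : G) k from (Subgroup.mem_centralizer_iff.mp y.2.2.2 k k.2).symm)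
            (show Commute (y.2 : G) σ from hP₁ab _ y.2.2 _ hσ)).eq))⟩
        have hinj : Function.Injective f' := fun u w huw => by
          have h2 := hc.1 (a₁ := (⟨(u.1 : G), u.1.2⟩, ⟨(u.2 : G), u.2.2.1⟩))
            (a₂ := (⟨(w.1 : G), w.1.2⟩, ⟨(w.2 : G), w.2.2.1⟩)) (congrArg Subtype.val huw)
          simp only [Prod.mk.injEq, Subtype.mk.injEq] at h2
          exact Prod.ext (Subtype.ext h2.1) (Subtype.ext h2.2)
        have h1 := Nat.card_le_card_of_injective f' hinj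
        rw [Nat.card_prod, hP₁card] at h1
        have h2 : Nat.card (Cn x) * cs x = Nat.card G := Subgroup.card_mul_index _
        rw [hmn, ← hcardG, hma, ← hef, pow_add] at h2
        have h3 : Nat.card (Cn x) * n = Nat.card K * p ^ e := by
          apply Nat.eq_of_mul_eq_mul_right (pow_pos hp'.pos a)
          rw [mul_assoc, mul_comm n, h2]; ring
        have h4 : 1 ≤ Nat.card (Cn x) := Nat.card_pos
        have := H.hn
        nlinarith
      · rintro (h | h)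
        · exact Subgroup.mem_centralizer_iff.mpr fun u _ => Subgroup.mem_center_iff.mp (mem_center_of_cs h) u
        · exact Subgroup.mem_centralizer_iff.mpr fun u hu => mem_cent.mp (hidxK x h hu)
    · have hsplit : ∀ k ∈ K, ∀ σ ∈ (P : Subgroup G), k * σ ∈ Subgroup.centralizer (K : Set G) →
          k ∈ Subgroup.centralizer (K : Set G) ∧ σ ∈ Subgroup.centralizer (K : Set G) := by
        intro k hk σ _ h
        have hk' : k ∈ Subgroup.centralizer (K : Set G) :=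
          Subgroup.mem_centralizer_iff.mpr fun u hu => hKab u hu k hk
        refine ⟨hk', ?_⟩
        have := Subgroup.mul_mem _ (Subgroup.inv_mem _ hk') h
        rwa [inv_mul_cancel_left] at this
      have h1 := card_split hc _ hsplit
      rw [inf_eq_left.mpr (fun k hk => Subgroup.mem_centralizer_iff.mpr fun u hu => hKab u hu k hk), ← hP₁, hP₁card] at h1
      have h2 := Subgroup.card_mul_index (Subgroup.centralizer (K : Set G))
      rw [h1, ← hcardG, ← hef, pow_add, ← mul_assoc] at h2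
      exact Nat.eq_of_mul_eq_mul_left (Nat.mul_pos Nat.card_pos (pow_pos hp'.pos e)) h2
    · refine IsMulCommutative.mk ⟨fun x y => Subtype.ext ?_⟩
      have hdec : ∀ w ∈ Subgroup.centralizer (K : Set G), ∃ k ∈ K, ∃ σ ∈ P₁, w = k * σ := by
        intro w hw
        obtain ⟨⟨k, σ⟩, hkσ⟩ := hc.2 w
        have hk' : (k : G) ∈ Subgroup.centralizer (K : Set G) :=
          Subgroup.mem_centralizer_iff.mpr fun u hu => hKab u hu k k.2
        refine ⟨k, k.2, σ, ⟨σ.2, ?_⟩, hkσ.symm⟩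
        have := Subgroup.mul_mem _ (Subgroup.inv_mem _ hk') hw
        rwa [← show (k : G) * σ = w from hkσ, inv_mul_cancel_left] at this
      obtain ⟨k, hk, σ, hσ, hx⟩ := hdec x x.2
      obtain ⟨k', hk', σ', hσ', hy⟩ := hdec y y.2
      show (x : G) * y = y * x
      rw [hx, hy]
      have c1 : Commute k k' := hKab k hk k' hk'
      have c2 : Commute k σ' := Subgroup.mem_centralizer_iff.mp hσ'.2 k hk
      have c3 : Commute σ k' := (Subgroup.mem_centralizer_iff.mp hσ.2 k' hk').symm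
      have c4 : Commute σ σ' := hP₁ab σ hσ σ' hσ'
      exact ((c1.mul_right c2).mul_left (c3.mul_right c4)).eq
  · -- the commutator subgroup of `P`
    let Q : Subgroup ↥(P : Subgroup G) := P₁.subgroupOf (P : Subgroup G)
    have hQn : Q.Normal := ⟨fun q hq π => Subgroup.mem_subgroupOf.mpr (hP₁n π π.2 q (Subgroup.mem_subgroupOf.mp hq))⟩
    have hQab : ∀ x ∈ Q, ∀ y ∈ Q, Commute x y := fun x hx y hy => Subtype.ext
      (hP₁ab _ (Subgroup.mem_subgroupOf.mp hx) _ (Subgroup.mem_subgroupOf.mp hy))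
    let g' : ↥(P : Subgroup G) := ⟨g, hgP⟩
    let ψ : Q →* ↥(P : Subgroup G) := MonoidHom.mk' (fun x => g' * x * g'⁻¹ * (x : ↥(P : Subgroup G))⁻¹) fun x y => by
      have hx := hQn.conj_mem _ x.2 g'
      have hy := hQn.conj_mem _ y.2 g'
      have hcm : Commute (g' * y * g'⁻¹ * (y : ↥(P : Subgroup G))⁻¹) (x : ↥(P : Subgroup G))⁻¹ :=
        hQab _ (Q.mul_mem hy (Q.inv_mem y.2)) _ (Q.inv_mem x.2)
      show g' * ((x : ↥(P : Subgroup G)) * y) * g'⁻¹ * ((x : ↥(P : Subgroup G)) * y)⁻¹ = _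
      calc g' * ((x : ↥(P : Subgroup G)) * y) * g'⁻¹ * ((x : ↥(P : Subgroup G)) * y)⁻¹
          = g' * x * g'⁻¹ * ((g' * y * g'⁻¹ * (y : ↥(P : Subgroup G))⁻¹) * (x : ↥(P : Subgroup G))⁻¹) := by group
        _ = _ := by rw [hcm.eq]; group
    have hgen : ∀ x : ↥(P : Subgroup G), ∃ i : ℤ, ∃ q ∈ Q, x = g' ^ i * q := by
      intro x
      have hcq : Nat.card (↥(P : Subgroup G) ⧸ Q) = p := (Subgroup.index_eq_card Q).symm.trans hrel
      have hne' : QuotientGroup.mk' Q g' ≠ 1 := fun h =>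
        hgP₁ (Subgroup.mem_subgroupOf.mp ((QuotientGroup.eq_one_iff g').mp h))
      have hmem : QuotientGroup.mk' Q x ∈ Subgroup.zpowers (QuotientGroup.mk' Q g') :=
        zpowers_eq_top_of_prime_card hcq hne' ▸ Subgroup.mem_top _
      obtain ⟨i, hi⟩ := Subgroup.mem_zpowers_iff.mp hmem
      rw [← map_zpow] at hi
      exact ⟨i, _, QuotientGroup.eq.mp hi, (mul_inv_cancel_left _ _).symm⟩
    have hmemr : ∀ x (hx : x ∈ Q), g' * x * g'⁻¹ * x⁻¹ ∈ ψ.range := fun x hx => ⟨⟨x, hx⟩, rfl⟩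
    have hrQ : ψ.range ≤ Q := by
      rintro _ ⟨x, rfl⟩
      exact Q.mul_mem (hQn.conj_mem _ x.2 g') (Q.inv_mem x.2)
    have hIn : ψ.range.Normal := by
      have hg1 : ∀ y ∈ ψ.range, g' * y * g'⁻¹ ∈ ψ.range := by
        rintro _ ⟨x, rfl⟩
        refine ⟨⟨g' * x * g'⁻¹, hQn.conj_mem _ x.2 g'⟩, ?_⟩
        show g' * (g' * x * g'⁻¹) * g'⁻¹ * (g' * x * g'⁻¹)⁻¹ = g' * (g' * x * g'⁻¹ * (x : ↥(P : Subgroup G))⁻¹) * g'⁻¹
        group
      have hg2 : ∀ y ∈ ψ.range, g'⁻¹ * y * g' ∈ ψ.range := by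
        rintro _ ⟨x, rfl⟩
        have h := hQn.conj_mem _ x.2 g'⁻¹
        rw [inv_inv] at h
        refine ⟨⟨g'⁻¹ * x * g', h⟩, ?_⟩
        show g' * (g'⁻¹ * x * g') * g'⁻¹ * (g'⁻¹ * x * g')⁻¹ = g'⁻¹ * (g' * x * g'⁻¹ * (x : ↥(P : Subgroup G))⁻¹) * g'
        group
      have hgi : g' ∈ Subgroup.normalizer (ψ.range : Set ↥(P : Subgroup G)) := Subgroup.mem_normalizer_iff.mpr fun y =>
        ⟨hg1 y, fun h => by
          have h1 := hg2 _ h
          rwa [show g'⁻¹ * (g' * y * g'⁻¹) * g' = y by group] at h1⟩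
      refine ⟨fun y hy π => ?_⟩
      obtain ⟨i, q, hq, rfl⟩ := hgen π
      have h1 := (Subgroup.mem_normalizer_iff.mp (Subgroup.zpow_mem _ hgi i) y).mp hy
      rw [show g' ^ i * q * y * (g' ^ i * q)⁻¹ = g' ^ i * (q * y * q⁻¹) * (g' ^ i)⁻¹ by group,
        show q * y * q⁻¹ = y by rw [(hQab q hq y (hrQ hy)).eq, mul_inv_cancel_right]]
      exact h1
    have hle : commutator ↥(P : Subgroup G) ≤ ψ.range := by
      have hgq : ∀ q ∈ Q, Commute (QuotientGroup.mk' ψ.range g') (QuotientGroup.mk' ψ.range q) := by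
        intro q hq
        have h1 : QuotientGroup.mk' ψ.range (g' * q * g'⁻¹ * q⁻¹) = 1 := (QuotientGroup.eq_one_iff _).mpr (hmemr q hq)
        rw [map_mul, map_mul, map_mul, map_inv, map_inv, mul_inv_eq_one, mul_inv_eq_iff_eq_mul] at h1
        exact h1
      rw [commutator_def, Subgroup.commutator_le]
      intro x _ y _
      obtain ⟨i, q, hq, rfl⟩ := hgen x
      obtain ⟨j, q', hq', rfl⟩ := hgen y
      have c1 : Commute (QuotientGroup.mk' ψ.range g' ^ i) (QuotientGroup.mk' ψ.range g' ^ j) :=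
        (Commute.refl _).zpow_zpow i j
      have c2 := (hgq q' hq').zpow_left i
      have c3 := ((hgq q hq).zpow_left j).symm
      have c4 : Commute (QuotientGroup.mk' ψ.range q) (QuotientGroup.mk' ψ.range q') :=
        (hQab q hq q' hq').map _
      have h5 := commutatorElement_eq_one_iff_commute.mpr ((c1.mul_right c2).mul_left (c3.mul_right c4))
      rw [← map_zpow, ← map_zpow, ← map_mul, ← map_mul, ← map_commutatorElement] at h5
      exact (QuotientGroup.eq_one_iff _).mp h5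
    have hge : ψ.range ≤ commutator ↥(P : Subgroup G) := by
      rintro _ ⟨x, rfl⟩
      rw [commutator_def]
      exact Subgroup.commutator_mem_commutator (Subgroup.mem_top g') (Subgroup.mem_top (x : ↥(P : Subgroup G)))
    rw [le_antisymm hle hge, ← Subgroup.index_ker]
    set Cg : Subgroup ↥(P : Subgroup G) := (Cn g).subgroupOf (P : Subgroup G) with hCg
    have hker : ψ.ker = (Q ⊓ Cg).subgroupOf Q := by
      ext x
      have hC : (x : ↥(P : Subgroup G)) ∈ Cg ↔ ((x : ↥(P : Subgroup G)) : G) * g = g * ((x : ↥(P : Subgroup G)) : G) := by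
        rw [hCg, Subgroup.mem_subgroupOf, Subgroup.mem_centralizer_singleton_iff]
      rw [MonoidHom.mem_ker, Subgroup.mem_subgroupOf, Subgroup.mem_inf, hC]
      show g' * x * g'⁻¹ * (x : ↥(P : Subgroup G))⁻¹ = 1 ↔ _
      rw [mul_inv_eq_one, mul_inv_eq_iff_eq_mul, Subtype.ext_iff]
      exact ⟨fun h => ⟨x.2, h.symm⟩, fun h => h.2.symm⟩
    rw [hker]
    have hQc : Nat.card Q = p ^ e := by
      rw [Nat.card_congr (Subgroup.subgroupOfEquivOfLe (inf_le_left : P₁ ≤ P)).toEquiv, hP₁card]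
    have hCgc : Nat.card Cg = p ^ e := by
      rw [hCg, ← Subgroup.inf_subgroupOf_left, Nat.card_congr (Subgroup.subgroupOfEquivOfLe inf_le_left).toEquiv,
        hCP g hgP (hnot g hgP hgP₁)]
    have e1 := Subgroup.card_mul_index ((Q ⊓ Cg).subgroupOf Cg)
    rw [Nat.card_congr (Subgroup.subgroupOfEquivOfLe (inf_le_right : Q ⊓ Cg ≤ Cg)).toEquiv, hCgc] at e1
    have e2 := Subgroup.card_mul_index ((Q ⊓ Cg).subgroupOf Q)
    rw [Nat.card_congr (Subgroup.subgroupOfEquivOfLe (inf_le_left : Q ⊓ Cg ≤ Q)).toEquiv, hQc] at e2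
    have e3 := Nat.eq_of_mul_eq_mul_left Nat.card_pos (e1.trans e2.symm)
    rw [← e3]
    show (Q ⊓ Cg).relIndex Cg = p
    rw [Subgroup.inf_relIndex_right]
    have hne1 : Q.relIndex Cg ≠ 1 := fun h => hgP₁ (Subgroup.mem_subgroupOf.mp
      (Subgroup.relIndex_eq_one.mp h (Subgroup.mem_subgroupOf.mpr (mem_cent.mpr rfl) : g' ∈ Cg)))
    have hd : Q.relIndex Cg ∣ p ^ e := hCgc ▸ Subgroup.index_dvd_card (Q.subgroupOf Cg)
    have hle' : Q.relIndex Cg ≤ Q.index := by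
      rw [← Subgroup.relIndex_top_right]
      exact Subgroup.relIndex_le_of_le_right le_top (by rw [Subgroup.relIndex_top_right]; exact Subgroup.index_ne_zero_of_finite)
    rw [show Q.index = p from hrel] at hle'
    obtain ⟨l, -, hl⟩ := (Nat.dvd_prime_pow hp').mp hd
    rw [hl] at hne1 hle' ⊢
    rcases l with _ | _ | l
    · simp at hne1
    · simp
    · exfalso
      have h2l : p ^ 2 ≤ p ^ (l + 1 + 1) := Nat.pow_le_pow_right hp'.pos (by omega)
      have h3 : p * p ≤ p := (pow_two p ▸ h2l).trans hle'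
      nlinarith only [h3, hp'.two_le]

/-- Let G be a finite group with no nontrivial abelian direct factor whose conjugacy class sizes are exactly 1, m and m·n with m, n > 1 coprime. Then m is a prime p dividing n − 1; the elements whose class has size 1 or p form an abelian normal subgroup of index p; G has a normal p-complement; and the commutator subgroup of a Sylow p-subgroup of G has order p. -/
theorem result {G : Type*} [Group G] [Finite G] (hnodf : ∀ A B : Subgroup G, A.Normal → B.Normal → A ⊓ B = ⊥ → A ⊔ B = ⊤ → IsMulCommutative A → A = ⊥) (m n : ℕ) (hm : 1 < m) (hn : 1 < n) (hcop : m.Coprime n) (h : Set.range (fun x : G => (Subgroup.centralizer ({x} : Set G)).index) = ({1, m, m * n} : Set ℕ)) : m.Prime ∧ m ∣ n - 1 ∧ (∃ M : Subgroup G, M.Normal ∧ (M : Set G) = {x : G | (Subgroup.centralizer ({x} : Set G)).index = 1 ∨ (Subgroup.centralizer ({x} : Set G)).index = m} ∧ M.index = m ∧ IsMulCommutative M) ∧ (∃ N : Subgroup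 G, N.Normal ∧ (Nat.card N).Coprime m ∧ ∃ a : ℕ, N.index = m ^ a) ∧ ∀ P : Sylow m G, Nat.card (commutator (P : Subgroup G)) = m := by
  refine main (G := G) ⟨hm, hn, hcop, ?_, ?_, ?_⟩
  · intro z
    have : cs z ∈ ({1, m, m * n} : Set ℕ) := h ▸ ⟨z, rfl⟩
    simpa using this
  · exact (h ▸ (by simp : m ∈ ({1, m, m * n} : Set ℕ)) :)
  · exact (h ▸ (by simp : m * n ∈ ({1, m, m * n} : Set ℕ)) :)

end Cfsg.Agent.S4284
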