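import Mathlib
import Cfsg.Statements.S4291
import Cfsg.Agent.Lib.FpfQuotient
import Cfsg.Agent.Lib.FpfRep

set_option autoImplicit false
open Cfsg

namespace Cfsg.Agent.S4291


/-- Let G be a finite group that occurs as a Frobenius complement. Then G has exactly one normal subgroup N such that every Sylow subgroup of N is cyclic and the quotient of G by N is trivial or isomorphic to one of the following five groups: the Klein four-group, the alternating group of degree 4, the symmetric group of degree 4, the alternating group of degree 5, the symmetric group of degree 5. (The quotient is described by a surjective homomorphism with kernel N; the Klein four-group is written as the dihedral group of order 4.) -/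
theorem result {G : Type*} [Group G] [Finite G]
    (hFC : (∃ (L : Type) (_ : Group L) (_ : Finite L) (H : Subgroup L), Cfsg.IsFrobeniusComplement H ∧ Nonempty (G ≃* H))) :
    ∃! N : Subgroup G, N.Normal ∧ (∀ (p : ℕ) [Fact p.Prime] (P : Sylow p N), IsCyclic P) ∧
      (N = ⊤ ∨
        (∃ f : G →* DihedralGroup 2, Function.Surjective f ∧ f.ker = N) ∨
        (∃ f : G →* alternatingGroup (Fin 4), Function.Surjective f ∧ f.ker = N) ∨
        (∃ f : G →* Equiv.Perm (Fin 4), Function.Surjective f ∧ f.ker = N) ∨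
        (∃ f : G →* alternatingGroup (Fin 5), Function.Surjective f ∧ f.ker = N) ∨
        (∃ f : G →* Equiv.Perm (Fin 5), Function.Surjective f ∧ f.ker = N)) := by
  haveI : Algebra.IsAlgebraic ℚ (AlgebraicClosure ℚ) := AlgebraicClosure.isAlgebraic ℚ
  obtain ⟨n, ψ, hψ⟩ := FpfRep.exists_rep_of_complement hFC
  have hq : ∀ P : Sylow 2 G, IsCyclic P ∨ ∃ k : ℕ, Nonempty (P ≃* QuaternionGroup (2 ^ k)) := by
    haveI := Fact.mk Nat.prime_two
    intro P
    rcases FpfZassenhaus.cyclic_or_quaternion hψ (P : Subgroup G) P.2 with h | ⟨-, h⟩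
    · exact .inl h
    · exact .inr h
  have hiff : ∀ N : Subgroup G, IsZGroup N ↔ ∀ (p : ℕ) [Fact p.Prime] (P : Sylow p N), IsCyclic P :=
    fun N => ⟨fun h p hp P => h.isZGroup p hp.out P, fun h => ⟨fun p hp P => @h p ⟨hp⟩ P⟩⟩
  obtain ⟨N, hN, hZ, hQ⟩ : ∃ N : Subgroup G, N.Normal ∧ IsZGroup N ∧ FpfQuotient.HasQuotient N := by
    by_cases hs : Group.IsSolvable G
    · obtain ⟨N, hN, hZ, hQ⟩ := FpfQuotient.exists_solvable hψ
      refine ⟨N, hN, hZ, ?_⟩
      rcases hQ with h | h | h | h
      exacts [.inl h, .inr (.inl h), .inr (.inr (.inl h)), .inr (.inr (.inr (.inl h)))]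
    · obtain ⟨N, hN, hZ, hQ⟩ := FpfQuotient.exists_nonsolvable hψ hs
      exact ⟨N, hN, hZ, .inr (.inr (.inr (.inr hQ)))⟩
  refine ⟨N, ⟨hN, (hiff N).1 hZ, hQ⟩, ?_⟩
  rintro N' ⟨hN', hZ', hQ'⟩
  haveI := hN
  haveI := hN'
  haveI := hZ
  haveI := (hiff N').2 hZ'
  exact FpfQuotient.unique hq hQ hQ'

end Cfsg.Agent.S4291
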