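import Cfsg.Statements.S4292
import Mathlib
import Cfsg.Agent.Lib.FpfModP76

set_option autoImplicit false
open Cfsg

namespace Cfsg.Agent.S4292

open Cfsg.Agent.FpfModP76
open scoped Kronecker

theorem fix_zero {F : Type*} [Field F] {ι : Type*} [Fintype ι] [DecidableEq ι] {M : Matrix ι ι F}
    (h : (M - 1).det ≠ 0) {v : ι → F} (hv : M.mulVec v = v) : v = 0 :=
  Matrix.eq_zero_of_mulVec_eq_zero h (by rw [Matrix.sub_mulVec, Matrix.one_mulVec, hv, sub_self])

theorem coprime_of_rep {A B : Type*} [Group A] [Finite A] [Group B] [Finite B] {F : Type*} [Field F]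
    {n : ℕ} [Nonempty (Fin n)] (σ : A × B →* Matrix (Fin n) (Fin n) F)
    (h : ∀ g, g ≠ 1 → (σ g - 1).det ≠ 0) (hF : ∀ p : ℕ, p.Prime → p ∣ Nat.card A → (p : F) ≠ 0) :
    (Nat.card A).Coprime (Nat.card B) := by
  by_contra hne
  obtain ⟨p, hp, hpA, hpB⟩ := Nat.Prime.not_coprime_iff_dvd.mp hne
  have : Fact p.Prime := ⟨hp⟩
  obtain ⟨a, ha⟩ := exists_prime_orderOf_dvd_card' p hpA
  obtain ⟨b, hb⟩ := exists_prime_orderOf_dvd_card' p hpB
  -- geometric sums vanish
  have hsum : ∀ g : A × B, g ≠ 1 → g ^ p = 1 → ∑ i ∈ Finset.range p, σ g ^ i = 0 := by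
    intro g hg hgp
    have h1 : (σ g - 1) * ∑ i ∈ Finset.range p, σ g ^ i = 0 := by
      rw [mul_geom_sum, ← map_pow, hgp, map_one, sub_self]
    have hu : IsUnit (σ g - 1) := (Matrix.isUnit_iff_isUnit_det _).mpr (isUnit_iff_ne_zero.mpr (h g hg))
    exact hu.mul_left_cancel (h1.trans (mul_zero _).symm)
  have hap : a ^ p = 1 := ha ▸ pow_orderOf_eq_one a
  have hbp : b ^ p = 1 := hb ▸ pow_orderOf_eq_one b
  have hkey : ∀ k : ℕ, ∑ i ∈ Finset.range p, σ ((a, b ^ k) : A × B) ^ i = 0 := by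
    intro k
    refine hsum _ ?_ ?_
    · intro e
      have : a = 1 := congrArg Prod.fst e
      rw [this, orderOf_one] at ha
      exact hp.ne_one ha.symm
    · exact Prod.ext hap (by rw [Prod.pow_snd, ← pow_mul, mul_comm, pow_mul, hbp, one_pow]; rfl)
  have h0 : ∑ k ∈ Finset.range p, ∑ i ∈ Finset.range p, σ ((a, b ^ k) : A × B) ^ i = 0 :=
    Finset.sum_eq_zero fun k _ => hkey k
  rw [Finset.sum_comm] at h0
  have hexp : ∀ i k : ℕ, σ ((a, b ^ k) : A × B) ^ i = σ (a ^ i, 1) * σ ((1, b ^ i) : A × B) ^ k := by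
    intro i k
    rw [← map_pow, ← map_pow, ← map_mul]
    congr 1
    refine Prod.ext ?_ ?_
    · simp
    · simp [← pow_mul, mul_comm]
  simp only [hexp, ← Finset.mul_sum] at h0
  have h1 : ∑ i ∈ Finset.range p, σ (a ^ i, 1) * ∑ k ∈ Finset.range p, σ ((1, b ^ i) : A × B) ^ k =
      ((p : ℕ) : Matrix (Fin n) (Fin n) F) := by
    rw [Finset.sum_eq_single 0]
    · have : ((1 : A), (1 : B)) = 1 := rfl
      simp [this]
    · intro i hi hi0
      rw [hsum ((1, b ^ i) : A × B) ?_ ?_, mul_zero]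
      · intro e
        have : b ^ i = 1 := congrArg Prod.snd e
        have h2 := orderOf_dvd_of_pow_eq_one this
        rw [hb] at h2
        exact Nat.not_dvd_of_pos_of_lt (Nat.pos_of_ne_zero hi0) (Finset.mem_range.mp hi) h2
      · exact Prod.ext (one_pow p) (by rw [Prod.pow_snd, ← pow_mul, mul_comm, pow_mul, hbp, one_pow]; rfl)
    · intro hh
      exact absurd (Finset.mem_range.mpr hp.pos) hh
  rw [h1] at h0
  obtain ⟨i⟩ := (inferInstance : Nonempty (Fin n))
  have h2 := congrFun (congrFun h0 i) i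
  rw [← Matrix.diagonal_natCast, Matrix.diagonal_apply_eq, Matrix.zero_apply] at h2
  exact hF p hp hpA h2
/-- Let A and B be nontrivial finite groups. Then the direct product A × B occurs as a Frobenius complement if and only if A and B both occur as Frobenius complements and the orders of A and B are coprime. -/
theorem result {A B : Type*} [Group A] [Finite A] [Nontrivial A] [Group B] [Finite B] [Nontrivial B] :
    (∃ (L : Type) (_ : Group L) (_ : Finite L) (H : Subgroup L), Cfsg.IsFrobeniusComplement H ∧ Nonempty ((A × B) ≃* H)) ↔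
    ((∃ (L : Type) (_ : Group L) (_ : Finite L) (H : Subgroup L), Cfsg.IsFrobeniusComplement H ∧ Nonempty (A ≃* H)) ∧
     (∃ (L : Type) (_ : Group L) (_ : Finite L) (H : Subgroup L), Cfsg.IsFrobeniusComplement H ∧ Nonempty (B ≃* H)) ∧
     (Nat.card A).Coprime (Nat.card B)) := by
  have : Nontrivial (A × B) := inferInstance
  constructor
  · intro hFC
    obtain ⟨n, N, hn, hrep⟩ := exists_zmod_rep (G := A × B) hFC
    obtain ⟨q, hq, hqp⟩ := Nat.exists_infinite_primes (N + Nat.card A + 1)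
    have : Fact q.Prime := ⟨hqp⟩
    obtain ⟨σ, hσ⟩ := hrep q (by omega)
    have : Nonempty (Fin n) := ⟨⟨0, hn⟩⟩
    refine ⟨isFC_of_rep (σ.comp (MonoidHom.inl A B)) ?_, isFC_of_rep (σ.comp (MonoidHom.inr A B)) ?_,
      coprime_of_rep σ hσ ?_⟩
    · intro a ha v hv
      exact fix_zero (hσ _ fun e => ha (congrArg Prod.fst e)) hv
    · intro b hb v hv
      exact fix_zero (hσ _ fun e => hb (congrArg Prod.snd e)) hv
    · intro p hp hpA h0
      rw [ZMod.natCast_eq_zero_iff] at h0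
      have := Nat.le_of_dvd Nat.card_pos hpA
      have := Nat.le_of_dvd hp.pos h0
      omega
  · rintro ⟨hA, hB, hco⟩
    obtain ⟨n, N, hn, hrepA⟩ := exists_zmod_rep (G := A) hA
    obtain ⟨m, M, hm, hrepB⟩ := exists_zmod_rep (G := B) hB
    obtain ⟨q, hq, hqp⟩ := Nat.exists_infinite_primes (N + M + 1)
    have : Fact q.Prime := ⟨hqp⟩
    obtain ⟨σ, hσ⟩ := hrepA q (by omega)
    obtain ⟨τ, hτ⟩ := hrepB q (by omega)
    have : Nonempty (Fin n × Fin m) := ⟨⟨⟨0, hn⟩, ⟨0, hm⟩⟩⟩
    let φ : A × B →* Matrix (Fin n × Fin m) (Fin n × Fin m) (ZMod q) :=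
      { toFun := fun g => σ g.1 ⊗ₖ τ g.2
        map_one' := by simp
        map_mul' := fun g h => by simp [Matrix.mul_kronecker_mul] }
    refine isFC_of_rep φ fun g hg v hv => ?_
    obtain ⟨p, hp, hpd⟩ := Nat.exists_prime_and_dvd (mt orderOf_eq_one_iff.mp hg)
    set c := g ^ (orderOf g / p) with hc
    have hord : orderOf c = p := orderOf_pow_orderOf_div (orderOf_pos g).ne' hpd
    have hfix : ∀ i : ℕ, (φ (g ^ i)).mulVec v = v := by
      intro i
      induction i with
      | zero => simp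
      | succ i ih => rw [pow_succ, map_mul, ← Matrix.mulVec_mulVec, hv, ih]
    have hcv : (φ c).mulVec v = v := hfix _
    have hcp : c.1 ^ p = 1 ∧ c.2 ^ p = 1 := by
      rw [← Prod.pow_fst, ← Prod.pow_snd, ← hord, pow_orderOf_eq_one]
      exact ⟨rfl, rfl⟩
    have hone : c.1 = 1 ∨ c.2 = 1 := by
      by_contra hboth
      rw [not_or] at hboth
      have : Fact p.Prime := ⟨hp⟩
      exact hp.ne_one (Nat.eq_one_of_dvd_coprimes hco
        (orderOf_eq_prime hcp.1 hboth.1 ▸ orderOf_dvd_natCard c.1)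
        (orderOf_eq_prime hcp.2 hboth.2 ▸ orderOf_dvd_natCard c.2))
    have hc1 : c ≠ 1 := fun e => hp.ne_one (by rw [← hord, e, orderOf_one])
    refine fix_zero ?_ hcv
    rcases hone with h1 | h2
    · have hne : c.2 ≠ 1 := fun e => hc1 (Prod.ext h1 e)
      have e : φ c - 1 = (1 : Matrix (Fin n) (Fin n) (ZMod q)) ⊗ₖ (τ c.2 - 1) := by
        show σ c.1 ⊗ₖ τ c.2 - 1 = _
        rw [h1, map_one, sub_eq_iff_eq_add]
        conv_rhs => rw [← Matrix.one_kronecker_one (α := ZMod q) (m := Fin n) (n := Fin m), ← Matrix.kronecker_add, sub_add_cancel]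
      rw [e, Matrix.det_kronecker, Matrix.det_one, one_pow, one_mul]
      exact pow_ne_zero _ (hτ _ hne)
    · have hne : c.1 ≠ 1 := fun e => hc1 (Prod.ext e h2)
      have e : φ c - 1 = (σ c.1 - 1) ⊗ₖ (1 : Matrix (Fin m) (Fin m) (ZMod q)) := by
        show σ c.1 ⊗ₖ τ c.2 - 1 = _
        rw [h2, map_one, sub_eq_iff_eq_add]
        conv_rhs => rw [← Matrix.one_kronecker_one (α := ZMod q) (m := Fin n) (n := Fin m), ← Matrix.add_kronecker, sub_add_cancel]
      rw [e, Matrix.det_kronecker, Matrix.det_one, one_pow, mul_one]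
      exact pow_ne_zero _ (hσ _ hne)

end Cfsg.Agent.S4292
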