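import Cfsg.Statements.S4293
import Mathlib
import Cfsg.Agent.Lib.FrobeniusConstruct

set_option autoImplicit false
open Cfsg

namespace Cfsg.Agent.S4293

/-- A nontrivial finite subgroup of the multiplicative group of a division ring occurs as a Frobenius complement of some finite Frobenius group. -/
theorem result {D : Type*} [DivisionRing D] (H : Subgroup Dˣ) [Finite H] (hH : H ≠ ⊥) :
    ∃ (L : Type) (_ : Group L) (_ : Finite L) (C : Subgroup L), Cfsg.IsFrobeniusComplement C ∧ Nonempty (H ≃* C) := by
  classical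
  obtain ⟨p, hp⟩ := CharP.exists D
  have hHpos : 0 < Nat.card H := Nat.card_pos
  -- the prime used for reduction
  obtain ⟨l, hl, hlH, hlne⟩ : ∃ l : ℕ, l.Prime ∧ (∀ h : H, (orderOf h).Prime → orderOf h ≠ l) ∧
      ∀ k : ℤ, (l : ℤ) ∣ k - 1 → (k : D) ≠ 0 := by
    rcases Nat.eq_zero_or_pos p with hp0 | hp0
    · subst hp0
      have : CharZero D := CharP.charP_to_charZero D
      obtain ⟨l, hl1, hl⟩ := Nat.exists_infinite_primes (Nat.card H + 1)
      refine ⟨l, hl, fun h _ he => ?_, fun k hk => ?_⟩
      · have := Nat.le_of_dvd hHpos (orderOf_dvd_natCard h)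
        omega
      · rw [Ne, Int.cast_eq_zero]
        rintro rfl
        simp at hk
        have := hl.two_le
        have := Int.eq_one_of_dvd_one (by omega) hk
        omega
    · have : NeZero p := ⟨hp0.ne'⟩
      have hpp : p.Prime := (CharP.char_is_prime_or_zero D p).resolve_right hp0.ne'
      refine ⟨p, hpp, fun h hh he => ?_, fun k hk => ?_⟩
      · have : Fact p.Prime := ⟨hpp⟩
        have h1 : (((h : Dˣ) : D)) ^ p = 1 := by
          rw [← he, ← Units.val_pow_eq_pow_val, ← Subgroup.coe_pow, pow_orderOf_eq_one]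
          rfl
        have h2 : (((h : Dˣ) : D) - 1) ^ p = 0 := by
          rw [sub_pow_char_of_commute p (Commute.one_right _), one_pow, h1, sub_self]
        have h3 : h = 1 := Subtype.ext (Units.ext (sub_eq_zero.mp (pow_eq_zero_iff hpp.ne_zero |>.mp h2)))
        rw [h3, orderOf_one] at hh
        exact Nat.not_prime_one hh
      · rw [Ne, CharP.intCast_eq_zero_iff D p]
        intro h
        have h1 : (p : ℤ) ∣ 1 := by simpa using dvd_sub h hk
        exact hpp.not_dvd_one (by exact_mod_cast h1)
  have : Fact l.Prime := ⟨hl⟩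
  let R : Submodule ℤ D := Submodule.span ℤ (Set.range fun h : H => ((h : Dˣ) : D))
  have hfg : R.FG := Submodule.fg_span (Set.finite_range _)
  have hone : (1 : D) ∈ R := Submodule.subset_span ⟨1, rfl⟩
  have hinv : ∀ h : H, ∀ r ∈ R, ((h : Dˣ) : D) * r ∈ R := by
    intro h r hr
    induction hr using Submodule.span_induction with
    | mem x hx => obtain ⟨g, rfl⟩ := hx; exact Submodule.subset_span ⟨h * g, by simp⟩
    | zero => simp
    | add a b _ _ ha hb => rw [mul_add]; exact R.add_mem ha hb
    | smul c a _ ha => rw [mul_smul_comm]; exact R.smul_mem c ha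
  have : Module.Finite ℤ R := Module.Finite.iff_fg.mpr hfg
  let S : Submodule ℤ R := LinearMap.range ((l : ℤ) • (LinearMap.id : R →ₗ[ℤ] R))
  have hS : ∀ r : R, (l : ℤ) • r ∈ S := fun r => ⟨r, rfl⟩
  let lm : H →* (R →ₗ[ℤ] R) :=
    { toFun := fun h =>
        { toFun := fun r => ⟨((h : Dˣ) : D) * r, hinv h r r.2⟩
          map_add' := fun a b => Subtype.ext (mul_add _ _ _)
          map_smul' := fun c a => Subtype.ext (mul_smul_comm c _ _) }
      map_one' := by ext r; simp
      map_mul' := fun a b => by ext r; simp [mul_assoc] }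
  have hSinv : ∀ h : H, S ≤ S.comap (lm h) := by
    rintro h _ ⟨r, rfl⟩
    exact ⟨lm h r, ((lm h).map_smul (l : ℤ) r).symm⟩
  let act : H →* Module.End ℤ (R ⧸ S) :=
    { toFun := fun h => Submodule.mapQ S S (lm h) (hSinv h)
      map_one' := by
        refine LinearMap.ext fun x => Submodule.Quotient.induction_on _ x fun r => ?_
        simp [Submodule.mapQ_apply]
      map_mul' := fun a b => by
        refine LinearMap.ext fun x => Submodule.Quotient.induction_on _ x fun r => ?_
        simp [Submodule.mapQ_apply] }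
  have htor : ∀ v : R ⧸ S, (l : ℤ) • v = 0 := fun v =>
    Submodule.Quotient.induction_on _ v fun r => (Submodule.Quotient.mk_eq_zero S).mpr (hS r)
  have hfin : Finite (R ⧸ S) := Module.finite_of_fg_torsion _ (fun v =>
    ⟨⟨(l : ℤ), mem_nonZeroDivisors_of_ne_zero (by exact_mod_cast hl.ne_zero)⟩, htor v⟩)
  have hnt : Nontrivial (R ⧸ S) := by
    rw [Submodule.Quotient.nontrivial_iff]
    intro htop
    have hle : R ≤ (Ideal.span {(l : ℤ)}) • R := by
      intro r hr
      obtain ⟨⟨s, hs⟩, hsr⟩ := (htop ▸ Submodule.mem_top : (⟨r, hr⟩ : R) ∈ S)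
      have : r = (l : ℤ) • s := (congrArg Subtype.val hsr).symm
      rw [this]
      exact Submodule.smul_mem_smul (Ideal.mem_span_singleton_self _) hs
    obtain ⟨k, hk, hkR⟩ := Submodule.exists_sub_one_mem_and_smul_eq_zero_of_fg_of_le_smul _ R hfg hle
    have := hkR 1 hone
    rw [zsmul_one] at this
    exact hlne k (Ideal.mem_span_singleton.mp hk) this
  have : Nontrivial H := (Subgroup.nontrivial_iff_ne_bot H).mpr hH
  obtain ⟨L, i₁, i₂, C, hC, he, -⟩ := FrobeniusConstruct.exists_complement_of_smul (V := R ⧸ S) act (by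
    let _ : MulAction H (R ⧸ S) := MulAction.compHom _ act
    refine FrobeniusConstruct.fpf_of_prime_order (fun h hh v hv => ?_)
    change act h v = v at hv
    set q := orderOf h with hq
    have hh1 : h ≠ 1 := fun e => Nat.not_prime_one (by simpa [hq, e] using hh)
    have hd1 : ((h : Dˣ) : D) - 1 ≠ 0 := fun e => hh1 (Subtype.ext (Units.ext (sub_eq_zero.mp e)))
    have hhq : (((h : Dˣ) : D)) ^ q = 1 := by
      rw [← Units.val_pow_eq_pow_val, ← Subgroup.coe_pow, hq, pow_orderOf_eq_one]
      rfl
    have hsum : ∑ i ∈ Finset.range q, (((h : Dˣ) : D)) ^ i = 0 := by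
      have := geom_sum_mul (((h : Dˣ) : D)) q
      rw [hhq, sub_self] at this
      exact (mul_eq_zero.mp this).resolve_right hd1
    have hfix : ∀ i : ℕ, act (h ^ i) v = v := by
      intro i
      induction i with
      | zero => simp
      | succ i ih => rw [pow_succ, map_mul]; show act (h ^ i) (act h v) = v; rw [hv, ih]
    have hqv : (q : ℤ) • v = 0 := by
      have h0 : ∑ i ∈ Finset.range q, act (h ^ i) v = 0 := by
        induction v using Submodule.Quotient.induction_on with
        | _ r =>
          rw [show (∑ i ∈ Finset.range q, act (h ^ i) (Submodule.Quotient.mk r)) =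
            S.mkQ (∑ i ∈ Finset.range q, lm (h ^ i) r) from by rw [map_sum]; rfl]
          have : (∑ i ∈ Finset.range q, lm (h ^ i) r) = 0 := by
            apply Subtype.ext
            rw [Submodule.coe_sum]
            show ∑ i ∈ Finset.range q, (((h ^ i : H) : Dˣ) : D) * (r : D) = 0
            simp [← Finset.sum_mul, hsum]
          rw [this, map_zero]
      simp only [hfix, Finset.sum_const, Finset.card_range] at h0
      rw [natCast_zsmul]
      exact h0
    have hlv := htor v
    obtain ⟨a, b, hab⟩ : IsCoprime (q : ℤ) (l : ℤ) :=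
      Nat.isCoprime_iff_coprime.mpr ((Nat.coprime_primes hh hl).mpr (hlH h hh))
    rw [← one_smul ℤ v, ← hab, add_smul, mul_smul, mul_smul, hqv, hlv, smul_zero, smul_zero, add_zero])
  exact ⟨L, i₁, i₂, C, hC, he⟩

end Cfsg.Agent.S4293
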