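import Mathlib
import Cfsg.Statements.S4294
import Cfsg.Agent.Lib.FpfDivision
import Cfsg.Agent.Lib.FpfNonsolvable
import Cfsg.Agent.Lib.FpfQuotient

set_option autoImplicit false
open Cfsg

namespace Cfsg.Agent.S4294
open FpfDivision

theorem charZero_of_nonsolvable {D : Type*} [DivisionRing D] (H : Subgroup Dˣ) [Finite H]
    (hH : ¬ Group.IsSolvable H) : CharZero D := by
  obtain ⟨p, hp⟩ := CharP.exists D
  rcases CharP.char_is_prime_or_zero D p with hpp | hp0
  · exfalso
    haveI := Fact.mk hpp
    letI := ZMod.algebra D p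
    set S : Set D := Set.range fun h : H => ((h : Dˣ) : D) with hS
    set A := Algebra.adjoin (ZMod p) S with hA
    have hspan : Subalgebra.toSubmodule A = Submodule.span (ZMod p) S := by
      rw [hA, Algebra.adjoin_eq_span]
      congr 1
      have : Submonoid.closure S = MonoidHom.mrange ((Units.coeHom D).comp H.subtype) := by
        have h1 : S = (MonoidHom.mrange ((Units.coeHom D).comp H.subtype) : Set D) := rfl
        rw [h1, Submonoid.closure_eq]
      rw [this]; rfl
    haveI : Module.Finite (ZMod p) (Submodule.span (ZMod p) S) :=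
      Module.Finite.span_of_finite (ZMod p) (Set.finite_range _)
    haveI : Finite (Submodule.span (ZMod p) S) := Module.finite_of_finite (ZMod p)
    haveI : Finite A := Finite.of_injective (β := Submodule.span (ZMod p) S)
      (fun a => ⟨(a : D), hspan ▸ a.2⟩) (fun a b e => Subtype.ext (congrArg (fun z : Submodule.span (ZMod p) S => (z : D)) e :))
    have hfield : IsField A := Finite.isDomain_to_isField A
    refine hH (Group.isSolvable_of_comm fun a b => Subtype.ext (Units.ext ?_))
    exact congrArg Subtype.val (hfield.mul_comm ⟨_, Algebra.subset_adjoin ⟨a, rfl⟩⟩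
      ⟨_, Algebra.subset_adjoin ⟨b, rfl⟩⟩)
  · subst hp0
    exact CharP.charP_to_charZero D

theorem exists_rep {D : Type*} [DivisionRing D] [CharZero D] (H : Subgroup Dˣ) [Finite H] :
    ∃ (n : ℕ) (ψ : H →* Module.End (AlgebraicClosure ℚ) (Fin n → AlgebraicClosure ℚ)),
      FpfPairs.IsFPFRep ψ := by
  classical
  let V₀ : Submodule ℚ D := Submodule.span ℚ (Set.range fun h : H => ((h : Dˣ) : D))
  haveI : Module.Finite ℚ V₀ := Module.Finite.span_of_finite ℚ (Set.finite_range _)
  have hmem : ∀ (h : H), ∀ v ∈ V₀, ((h : Dˣ) : D) * v ∈ V₀ := fun h v hv => by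
    induction hv using Submodule.span_induction with
    | mem v hv =>
      obtain ⟨k, rfl⟩ := hv
      exact Submodule.subset_span ⟨h * k, by simp⟩
    | zero => rw [mul_zero]; exact V₀.zero_mem
    | add a b _ _ ia ib => rw [mul_add]; exact V₀.add_mem ia ib
    | smul c a _ ia => rw [mul_smul_comm]; exact V₀.smul_mem c ia
  let ρ : H →* Module.End ℚ V₀ :=
    { toFun := fun h => (LinearMap.mulLeft ℚ ((h : Dˣ) : D)).restrict (hmem h)
      map_one' := LinearMap.ext fun v => Subtype.ext (by simp)
      map_mul' := fun a b => LinearMap.ext fun v => Subtype.ext (show (((a * b : H) : Dˣ) : D) * (v : D) =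
        ((a : Dˣ) : D) * (((b : Dˣ) : D) * (v : D)) by rw [Subgroup.coe_mul, Units.val_mul, mul_assoc]) }
  let b := Module.finBasis ℚ V₀
  set n := Module.finrank ℚ V₀ with hn
  let M : H →* Matrix (Fin n) (Fin n) (AlgebraicClosure ℚ) :=
    ((algebraMap ℚ (AlgebraicClosure ℚ)).mapMatrix.toMonoidHom.comp
      (LinearMap.toMatrixAlgEquiv b).toAlgHom.toMonoidHom).comp ρ
  refine ⟨n, (Matrix.toLinAlgEquiv' (R := AlgebraicClosure ℚ) (n := Fin n)).toAlgHom.toMonoidHom.comp M, ?_, ?_⟩
  · have hpos : 0 < n := by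
      rw [hn, Module.finrank_pos_iff]
      exact ⟨⟨⟨1, Submodule.subset_span ⟨1, by simp⟩⟩, 0, fun e => one_ne_zero (congrArg Subtype.val e :)⟩⟩
    exact ⟨⟨0, fun _ => 1, fun e => zero_ne_one (congrFun e ⟨0, hpos⟩)⟩⟩
  · intro h hh v hv
    have hinj : Function.Injective (ρ h - 1 : Module.End ℚ V₀) := by
      rw [← LinearMap.ker_eq_bot, LinearMap.ker_eq_bot']
      intro u hu
      have h1 : ((h : Dˣ) : D) * (u : D) - (u : D) = 0 := congrArg Subtype.val hu
      have h2 : (((h : Dˣ) : D) - 1) * (u : D) = 0 := by rw [sub_mul, one_mul]; exact h1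
      rcases mul_eq_zero.1 h2 with h3 | h3
      · exact absurd (Subtype.ext (Units.ext (sub_eq_zero.1 h3))) hh
      · exact Subtype.ext h3
    have hunit : IsUnit (M h - 1) := by
      have h1 : IsUnit (ρ h - 1 : Module.End ℚ V₀) := (Module.End.isUnit_iff _).2 ⟨hinj, LinearMap.injective_iff_surjective.1 hinj⟩
      have h2 := (h1.map (LinearMap.toMatrixAlgEquiv b).toAlgHom.toRingHom).map (algebraMap ℚ (AlgebraicClosure ℚ)).mapMatrix
      rw [show ((LinearMap.toMatrixAlgEquiv b).toAlgHom.toRingHom) (ρ h - 1) = LinearMap.toMatrixAlgEquiv b (ρ h - 1) from rfl,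
        map_sub (LinearMap.toMatrixAlgEquiv b), map_one (LinearMap.toMatrixAlgEquiv b), map_sub, map_one] at h2
      exact h2
    obtain ⟨N, hN⟩ := hunit.exists_left_inv
    have h3 : (M h - 1).mulVec v = 0 := by
      rw [Matrix.sub_mulVec, Matrix.one_mulVec, sub_eq_zero]
      exact hv
    have := congrArg (N.mulVec ·) h3
    simpa [Matrix.mulVec_mulVec, hN] using this

theorem eq_one_or_neg_one {D : Type*} [DivisionRing D] {a : D} (h : a * a = 1) : a = 1 ∨ a = -1 :=
  eq_or_eq_neg (by rw [one_mul, mul_one]) (by rw [h, one_mul])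


/-- A finite non-solvable subgroup of the multiplicative group of a division ring is isomorphic to the binary icosahedral group SL(2,5). -/
theorem result {D : Type*} [DivisionRing D] (H : Subgroup Dˣ) [Finite H] (hH : ¬ Group.IsSolvable H) :
    Nonempty (H ≃* Matrix.SpecialLinearGroup (Fin 2) (ZMod 5)) := by
  classical
  haveI := charZero_of_nonsolvable H hH
  haveI : Algebra.IsAlgebraic ℚ (AlgebraicClosure ℚ) := AlgebraicClosure.isAlgebraic ℚ
  obtain ⟨n, ψ, hψ⟩ := exists_rep H
  obtain ⟨E, M, hEn, hMn, ⟨eE⟩, hidx, hdisj, hcomm, -, hcop, hcent, -, hperf, hE120, hZ2⟩ :=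
    FpfNonsolvable.structure_thm hψ hH
  haveI := hEn
  haveI := hMn
  let ι : H →* D := (Units.coeHom D).comp H.subtype
  have hι : Function.Injective ι := Units.val_injective.comp H.subtype_injective
  have hM : M = ⊥ := by
    by_contra hne
    have hc : Nat.card M ≠ 1 := fun e => hne (Subgroup.card_eq_one.1 e)
    obtain ⟨r, hr, hrd⟩ := Nat.exists_prime_and_dvd hc
    haveI := Fact.mk hr
    obtain ⟨m, hm⟩ := exists_prime_orderOf_dvd_card' (G := M) r hrd
    have h30 : ¬ r ∣ 30 := fun hd => hr.not_dvd_one (hcop ▸ Nat.dvd_gcd hrd hd)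
    refine no_central (ι.comp (E.subtype.comp eE.symm.toMonoidHom))
      (hι.comp (E.subtype_injective.comp eE.symm.injective)) (m := ι m) (fun g => ?_) hr
      (fun e => h30 (e ▸ by norm_num)) (fun e => h30 (e ▸ by norm_num)) ?_ ?_
    · show ι _ * ι _ = ι _ * ι _
      rw [← map_mul, ← map_mul]; congr 1; exact hcomm _ (eE.symm g).2 _ m.2
    · rw [← map_pow, ← Subgroup.coe_pow, ← hm, pow_orderOf_eq_one]; simp
    · intro e
      have : m = 1 := Subtype.ext (hι (e.trans (map_one ι).symm))
      rw [this, orderOf_one] at hm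
      exact hr.ne_one hm.symm
  subst hM
  rw [sup_bot_eq] at hidx
  rcases hidx with h1 | h2
  · exact ⟨((MulEquiv.subgroupCongr (Subgroup.index_eq_one.1 h1)).trans Subgroup.topEquiv).symm.trans eE⟩
  exfalso
  obtain ⟨N, hN, hNZ, hf⟩ := FpfQuotient.exists_nonsolvable hψ hH
  have hH240 : Nat.card H = 240 := by rw [← E.card_mul_index, hE120, h2]
  have hidx' := N.card_mul_index
  rw [hH240] at hidx'
  rcases hf with ⟨f, hf, hk⟩ | ⟨f, hf, hk⟩
  · rw [← hk, Subgroup.index_ker, MonoidHom.range_eq_top.2 hf, Subgroup.card_top, hk,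
      Nat.card_eq_fintype_card (α := alternatingGroup (Fin 5)), show Fintype.card (alternatingGroup (Fin 5)) = 60 by decide +kernel] at hidx'
    haveI := hN
    haveI := hNZ
    haveI := Fact.mk Nat.prime_two
    have hN4 : Nat.card N = 4 := by omega
    haveI : IsCyclic N := by
      have h2N : IsPGroup 2 N := IsPGroup.of_card (n := 2) (by rw [hN4]; norm_num)
      obtain ⟨P, hP⟩ := (h2N.to_subgroup ⊤).exists_le_sylow
      haveI := IsZGroup.isZGroup (G := N) 2 Nat.prime_two P
      exact isCyclic_of_injective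
        ((Subgroup.inclusion hP).comp (Subgroup.topEquiv (G := N)).symm.toMonoidHom)
        ((Subgroup.inclusion_injective hP).comp (Subgroup.topEquiv (G := N)).symm.injective)
    haveI : Group.IsSolvable (MulAut N) := Group.isSolvable_of_comm fun u v =>
      (IsCyclic.mulAutMulEquiv N).injective (by rw [map_mul, map_mul, mul_comm])
    have h1 := FpfAut.perfect_hom_eq_one hperf ((MulAut.conjNormal : H →* MulAut N).comp E.subtype)
    have hNE : ∀ x ∈ N, ∀ d ∈ E, x * d = d * x := fun x hx d hd => by
      have := congrArg (fun a : MulAut N => ((a ⟨x, hx⟩ : N) : H)) (DFunLike.congr_fun h1 ⟨d, hd⟩)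
      simp only [MonoidHom.comp_apply, Subgroup.coe_subtype, MulAut.conjNormal_apply, MonoidHom.one_apply,
        MulAut.one_apply] at this
      exact (mul_inv_eq_iff_eq_mul.1 this).symm
    have hle : N ≤ Subgroup.centralizer (E : Set H) ⊓ E := fun x hx =>
      ⟨Subgroup.mem_centralizer_iff.2 fun d hd => (hNE x hx d hd).symm,
        sup_bot_eq E ▸ hcent x (hNE x hx)⟩
    have h2' := Subgroup.card_dvd_of_le hle
    rw [hN4, ← Nat.card_congr (Subgroup.subgroupOfEquivOfLe (inf_le_right :
      Subgroup.centralizer (E : Set H) ⊓ E ≤ E)).toEquiv, Subgroup.inf_subgroupOf_right, hZ2] at h2'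
    norm_num at h2' 
  · rw [← hk, Subgroup.index_ker, MonoidHom.range_eq_top.2 hf, Subgroup.card_top, hk,
      Nat.card_eq_fintype_card (α := Equiv.Perm (Fin 5)), Fintype.card_perm, Fintype.card_fin] at hidx'
    have hN2 : Nat.card N = 2 := by
      have h120 : Nat.factorial 5 = 120 := rfl
      rw [h120] at hidx'
      omega
    have hker : ∀ h, f h = 1 → ι h = 1 ∨ ι h = -1 := fun h hh => by
      have hx : h ∈ N := hk ▸ hh
      apply eq_one_or_neg_one
      rw [← map_mul, ← map_one ι]
      congr 1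
      have := pow_card_eq_one' (x := (⟨h, hx⟩ : N))
      rw [hN2, pow_two] at this
      exact congrArg Subtype.val this
    refine no_extension ι hι f hf hker ?_
    obtain ⟨x, hx⟩ := exists_prime_orderOf_dvd_card' (G := N) 2 (by rw [hN2])
    have hx1 : f (x : H) = 1 := by
      rw [← MonoidHom.mem_ker, hk]; exact x.2
    refine ⟨x, hx1, (hker _ hx1).resolve_left fun e => ?_⟩
    have : x = 1 := Subtype.ext (hι (e.trans (map_one ι).symm))
    rw [this, orderOf_one] at hx
    omega

end Cfsg.Agent.S4294
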