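import Cfsg.Statements.S4295
import Mathlib
import Cfsg.Agent.Lib.FrobeniusConstruct
import Cfsg.Agent.Lib.FrobeniusEven

set_option autoImplicit false
open Cfsg

namespace Cfsg.Agent.S4295

/-- Cosine on the cyclic group of order four. -/
def cs (i : ZMod 4) : ℤ := if i = 0 then 1 else if i = 2 then -1 else 0

/-- Sine on the cyclic group of order four. -/
def sn (i : ZMod 4) : ℤ := if i = 1 then 1 else if i = 3 then -1 else 0

theorem cs_add : ∀ i j : ZMod 4, cs (i + j) = cs i * cs j - sn i * sn j := by decide
theorem sn_add : ∀ i j : ZMod 4, sn (i + j) = sn i * cs j + cs i * sn j := by decide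
theorem cs_neg : ∀ i : ZMod 4, cs (-i) = cs i := by decide
theorem sn_neg : ∀ i : ZMod 4, sn (-i) = -sn i := by decide
theorem cs_two : cs 2 = -1 := by decide
theorem sn_two : sn 2 = 0 := by decide

variable {F : Type*} [CommRing F]

/-- A two-dimensional representation of the quaternion group from a representation of `-1` as a sum of two squares. -/
def img (x y : F) : QuaternionGroup 2 → Matrix (Fin 2) (Fin 2) F
  | QuaternionGroup.a i => !![(cs i : F), -(sn i : F); (sn i : F), (cs i : F)]
  | QuaternionGroup.xa i => !![x * cs i + y * sn i, y * cs i - x * sn i; y * cs i - x * sn i, -(x * cs i + y * sn i)]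

theorem img_mul {x y : F} (h : x ^ 2 + y ^ 2 = -1) :
    ∀ g h : QuaternionGroup 2, img x y (g * h) = img x y g * img x y h := by
  have hc2 : cs (2 : ZMod (2 * 2)) = -1 := by decide
  have hs2 : sn (2 : ZMod (2 * 2)) = 0 := by decide
  have c1 : ∀ i j : ZMod (2 * 2), cs (i + j) = cs i * cs j - sn i * sn j := cs_add
  have s1 : ∀ i j : ZMod (2 * 2), sn (i + j) = sn i * cs j + cs i * sn j := sn_add
  have c2 : ∀ i : ZMod (2 * 2), cs (-i) = cs i := cs_neg
  have s2 : ∀ i : ZMod (2 * 2), sn (-i) = -sn i := sn_neg
  rintro (i | i) (j | j) <;>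
    simp only [QuaternionGroup.a_mul_a, QuaternionGroup.a_mul_xa, QuaternionGroup.xa_mul_a,
      QuaternionGroup.xa_mul_xa, img] <;>
    refine Matrix.ext fun r s => ?_ <;> fin_cases r <;> fin_cases s <;>
    simp [sub_eq_add_neg, c1, s1, c2, s2, hc2, hs2] <;>
    first
      | ring1
      | linear_combination ((cs i : F) * cs j + sn i * sn j) * h
      | linear_combination -((cs i : F) * cs j + sn i * sn j) * h
      | linear_combination ((cs i : F) * sn j - sn i * cs j) * h
      | linear_combination -((cs i : F) * sn j - sn i * cs j) * h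

theorem img_one (x y : F) : img x y 1 = 1 := by
  show img x y (QuaternionGroup.a 0) = 1
  have h1 : cs (0 : ZMod (2 * 2)) = 1 := by decide
  have h2 : sn (0 : ZMod (2 * 2)) = 0 := by decide
  simp [img, h1, h2, Matrix.one_fin_two]

theorem eq_two_of_sq : ∀ c : QuaternionGroup 2, c * c = 1 → c ≠ 1 → c = QuaternionGroup.a 2 := by decide

/-- For a natural number m the following are equivalent: (a) some finite group has a Frobenius complement isomorphic to the quaternion group of order 8 whose Frobenius kernel (the identity together with the elements lying in no conjugate of the complement) has exactly m elements; (b) m is an odd perfect square greater than 1. -/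
theorem result (m : ℕ) :
    (∃ (L : Type) (_ : Group L) (_ : Finite L) (H : Subgroup L), Cfsg.IsFrobeniusComplement H ∧
        Nonempty (H ≃* QuaternionGroup 2) ∧ Nat.card (Cfsg.frobeniusKernel H) = m) ↔
    (Odd m ∧ IsSquare m ∧ 1 < m) := by
  constructor
  · rintro ⟨L, _, _, H, hH, ⟨e⟩, rfl⟩
    have h := FrobeniusEven.kernel_square hH (a := (e.symm (QuaternionGroup.a 1) : L))
      (b := (e.symm (QuaternionGroup.xa 0) : L)) (e.symm (QuaternionGroup.a 1)).2 (e.symm (QuaternionGroup.xa 0)).2
      (by
        rw [← Subgroup.coe_mul, ← map_mul]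
        intro h
        have := (e.symm.map_eq_one_iff).mp (Subtype.ext h)
        revert this
        decide)
      (by
        simp only [← Subgroup.coe_mul, ← map_mul]
        rw [show (QuaternionGroup.a 1 * QuaternionGroup.a 1 * (QuaternionGroup.a 1 * QuaternionGroup.a 1) :
          QuaternionGroup 2) = 1 by decide, map_one, Subgroup.coe_one])
      (by
        simp only [← Subgroup.coe_mul, ← map_mul]
        rw [show (QuaternionGroup.xa 0 * QuaternionGroup.xa 0 : QuaternionGroup 2) =
          QuaternionGroup.a 1 * QuaternionGroup.a 1 by decide])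
      (by
        simp only [← Subgroup.coe_mul, ← map_mul]
        rw [show (QuaternionGroup.a 1 * QuaternionGroup.xa 0 : QuaternionGroup 2) =
          QuaternionGroup.xa 0 * QuaternionGroup.a 1 * (QuaternionGroup.a 1 * QuaternionGroup.a 1) by decide])
    refine ⟨h.1, h.2, ?_⟩
    rw [FrobeniusBasic.natCard_frobeniusKernel hH]
    exact Subgroup.one_lt_index_of_ne_top hH.2.1
  · rintro ⟨hodd, ⟨n, rfl⟩, hlt⟩
    have hn1 : 1 < n := by nlinarith
    set l := n.primeFactorsList with hl
    have hprime : ∀ k : Fin l.length, Fact (l.get k).Prime := fun k =>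
      ⟨Nat.prime_of_mem_primeFactorsList (List.get_mem l k)⟩
    have hp2 : ∀ k : Fin l.length, l.get k ≠ 2 := fun k h => by
      have hd : l.get k ∣ n := Nat.dvd_of_mem_primeFactorsList (List.get_mem l k)
      exact (Nat.odd_mul.mp hodd).1.not_two_dvd_nat (h ▸ hd)
    choose x y hxy using fun k : Fin l.length =>
      (have := hprime k; ZMod.sq_add_sq (l.get k) (-1))
    have : ∀ k : Fin l.length, NeZero (l.get k) := fun k => ⟨(hprime k).out.ne_zero⟩
    have hne : Nonempty (Fin l.length) := by
      refine ⟨⟨0, List.length_pos_of_ne_nil fun h => ?_⟩⟩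
      rcases Nat.primeFactorsList_eq_nil n |>.mp h with h | h <;> omega
    let f : QuaternionGroup 2 →* ((k : Fin l.length) → Module.End (ZMod (l.get k)) (Fin 2 → ZMod (l.get k))) :=
      MonoidHom.pi fun k => (Matrix.toLinAlgEquiv' (R := ZMod (l.get k)) (n := Fin 2)).toAlgHom.toRingHom.toMonoidHom.comp
        { toFun := img (x k) (y k), map_one' := img_one _ _, map_mul' := img_mul (hxy k) }
    have : Nontrivial (QuaternionGroup 2) := ⟨⟨1, QuaternionGroup.a 2, by decide⟩⟩
    have hnt : ∀ k : Fin l.length, Nontrivial (Fin 2 → ZMod (l.get k)) := fun k => have := hprime k; inferInstance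
    have : Nontrivial ((k : Fin l.length) → Fin 2 → ZMod (l.get k)) :=
      Pi.nontrivial_at (Classical.arbitrary _)
    obtain ⟨L, i₁, i₂, H, hH, ⟨e⟩, hk⟩ := FrobeniusConstruct.exists_complement_of_smul
      (V := (k : Fin l.length) → Fin 2 → ZMod (l.get k)) f (by
        intro c hc v hv
        funext k r
        have := hprime k
        have h2 : (2 : ZMod (l.get k)) ≠ 0 := by
          intro h
          have h' : ((2 : ℕ) : ZMod (l.get k)) = 0 := by exact_mod_cast h
          exact hp2 k ((Nat.prime_dvd_prime_iff_eq (hprime k).out Nat.prime_two).mp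
            ((ZMod.natCast_eq_zero_iff 2 _).mp h'))
        have hsq : f (c * c) • v = v := by rw [map_mul, mul_smul, hv, hv]
        obtain ⟨d, hd, hdv⟩ : ∃ d : QuaternionGroup 2, d = QuaternionGroup.a 2 ∧ f d • v = v := by
          by_cases hcc : c * c = 1
          · exact ⟨c, eq_two_of_sq c hcc hc, hv⟩
          · refine ⟨c * c, eq_two_of_sq _ ?_ hcc, hsq⟩
            have key : ∀ c : QuaternionGroup 2, c * c * (c * c) = 1 := by decide
            exact key c
        subst hd
        have h := congrFun (congrFun hdv k) r
        change ((img (x k) (y k) (QuaternionGroup.a 2)).mulVec (v k)) r = v k r at h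
        have hneg : ((img (x k) (y k) (QuaternionGroup.a 2)).mulVec (v k)) r = -(v k r) := by
          simp only [img]
          rw [show cs (2 : ZMod 4) = -1 from cs_two, show sn (2 : ZMod 4) = 0 from sn_two]
          fin_cases r <;> simp [Matrix.mulVec, dotProduct, Fin.sum_univ_two]
        have h0 : (2 : ZMod (l.get k)) * v k r = 0 := by
          rw [two_mul]
          nth_rewrite 1 [← h]
          rw [hneg, neg_add_cancel]
        exact (mul_eq_zero.mp h0).resolve_left h2)
    refine ⟨L, i₁, i₂, H, hH, ⟨e.symm⟩, hk.trans ?_⟩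
    rw [Nat.card_pi]
    simp only [Nat.card_fun, Nat.card_zmod, Nat.card_fin, pow_two, Finset.prod_mul_distrib]
    have : ∏ k : Fin l.length, l.get k = n := by
      rw [show (∏ k : Fin l.length, l.get k) = l.prod from by simp [← List.prod_ofFn]]
      exact Nat.prod_primeFactorsList (by omega)
    rw [this]

end Cfsg.Agent.S4295
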