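import Cfsg.Statements.S4296
import Mathlib
import Cfsg.Agent.S0035
import Cfsg.Agent.Lib.FrobeniusFPF
import Cfsg.Agent.Lib.FrobeniusEven
import Cfsg.Agent.Lib.PGroupsBasic
import Cfsg.Agent.Lib.HallCore

set_option autoImplicit false
open Cfsg

namespace Cfsg.Agent.S4296

/-- A geometric sum with ratio congruent to one is exactly divisible by `p`. -/
theorem geom_mod_sq {p r : ℕ} (hp : p.Prime) (hr : r % p = 1) (h : p ≠ 2 ∨ r % 4 = 1) :
    (∑ i ∈ Finset.range p, r ^ i) % p ^ 2 = p := by
  rcases eq_or_ne p 2 with rfl | hp2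
  · have h4 : r % 4 = 1 := h.resolve_left (by simp)
    simp [Finset.sum_range_succ]
    omega
  · obtain ⟨k, hk⟩ : ∃ k, r = p * k + 1 := ⟨r / p, by have := Nat.div_add_mod r p; omega⟩
    set e : ZMod (p ^ 2) := (p : ZMod (p ^ 2)) * (k : ZMod (p ^ 2)) with he
    have hpp : (p : ZMod (p ^ 2)) * (p : ZMod (p ^ 2)) = 0 := by
      rw [← Nat.cast_mul, ← pow_two, ZMod.natCast_self]
    have hee : e * e = 0 := by
      rw [he]
      linear_combination ((k : ZMod (p ^ 2)) ^ 2) * hpp
    have hpow : ∀ i : ℕ, (e + 1) ^ i = 1 + i * e := by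
      intro i
      induction i with
      | zero => simp
      | succ i ih => rw [pow_succ (e + 1), ih]; push_cast; linear_combination (i : ZMod (p ^ 2)) * hee
    obtain ⟨m, hm⟩ := (hp.odd_of_ne_two hp2)
    have hsum : (∑ i ∈ Finset.range p, i) = p * m := by
      have := Finset.sum_range_id_mul_two p
      have h1 : p - 1 = 2 * m := by omega
      rw [h1] at this
      nlinarith
    have hcast : ((∑ i ∈ Finset.range p, r ^ i : ℕ) : ZMod (p ^ 2)) = (p : ZMod (p ^ 2)) := by
      rw [hk]
      push_cast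
      rw [← he]
      simp only [hpow, Finset.sum_add_distrib, Finset.sum_const, Finset.card_range, nsmul_eq_mul, mul_one,
        ← Finset.sum_mul]
      rw [← Nat.cast_sum, hsum, Nat.cast_mul, he]
      linear_combination ((m : ZMod (p ^ 2)) * k) * hpp
    have := congrArg ZMod.val hcast
    rw [ZMod.val_natCast, ZMod.val_natCast] at this
    rw [this, Nat.mod_eq_of_lt]
    calc p = p ^ 1 := (pow_one p).symm
      _ < p ^ 2 := Nat.pow_lt_pow_right hp.one_lt (by norm_num)

/-- In a noncyclic `p`-group with at most one subgroup of order `p` in each abelian subgroup there are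
two anticommuting elements of order four. -/
theorem exists_quat {P : Type*} [Group P] [Finite P] (p : ℕ) [hp : Fact p.Prime] (hP : IsPGroup p P)
    (hnc : ¬ IsCyclic P)
    (hU : ∀ y z : P, orderOf y = p → orderOf z = p → Commute y z → y ∈ Subgroup.zpowers z) :
    ∃ a b : P, a * a ≠ 1 ∧ a * a * (a * a) = 1 ∧ b * b = a * a ∧ a * b = b * a * (a * a) := by
  obtain ⟨A, hA⟩ := (Set.toFinite {A : Subgroup P | A.Normal ∧ IsMulCommutative A}).exists_maximal
    ⟨⊥, Subgroup.normal_bot, inferInstance⟩
  obtain ⟨hAn, hAc⟩ := hA.1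
  have := hAn
  have hcomm : ∀ u ∈ A, ∀ v ∈ A, u * v = v * u := fun u hu v hv => PGroupsBasic.comm_of_isMulCommutative hAc hu hv
  have hAcyc : IsCyclic A := by
    let _ : CommGroup A := { (inferInstance : Group A) with mul_comm := fun a b => hAc.is_comm.comm a b }
    refine FrobeniusFPF.isCyclic_of_unique_prime fun q hq d e hd he => ?_
    obtain ⟨k, hk⟩ := hP (d : P)
    have hdp : orderOf (d : P) = q := by rw [Subgroup.orderOf_coe, hd]
    have hqp : q = p := (Nat.prime_dvd_prime_iff_eq hq hp.out).mp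
      (hq.dvd_of_dvd_pow (hdp ▸ orderOf_dvd_of_pow_eq_one hk))
    have := hU d e (hdp.trans hqp) (by rw [Subgroup.orderOf_coe, he, hqp]) (hcomm _ d.2 _ e.2)
    obtain ⟨i, hi⟩ := Subgroup.mem_zpowers_iff.mp this
    exact Subgroup.mem_zpowers_iff.mpr ⟨i, Subtype.ext (by push_cast; exact hi)⟩
  obtain ⟨⟨a, haA⟩, hgen⟩ := hAcyc.exists_generator
  have hmem : ∀ u ∈ A, ∃ m : ℕ, u = a ^ m := by
    intro u hu
    obtain ⟨m, hm⟩ := mem_powers_iff_mem_zpowers.mpr (hgen ⟨u, hu⟩)
    exact ⟨m, by simpa using (congrArg Subtype.val hm).symm⟩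
  have hself : ∀ y : P, (∀ u ∈ A, y * u = u * y) → y ∈ A := by
    by_contra hcon
    push Not at hcon
    obtain ⟨y, hy, hyA⟩ := hcon
    have hlt : A < Subgroup.centralizer (A : Set P) := by
      refine lt_of_le_of_ne (PGroupsBasic.le_centralizer_of_isMulCommutative hAc) fun h => hyA ?_
      rw [h, Subgroup.mem_centralizer_iff]
      exact fun u hu => (hy u hu).symm
    obtain ⟨L, hL, hAL, hLC, hcard⟩ := PGroupsBasic.exists_normal_succ hP hlt
    obtain ⟨x, hxL, hxA⟩ : ∃ x ∈ L, x ∉ A := by
      by_contra h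
      push Not at h
      have := Subgroup.card_dvd_of_le h
      rw [hcard] at this
      have := Nat.le_of_dvd Nat.card_pos this
      have := hp.out.two_le
      have := Nat.card_pos (α := A)
      nlinarith
    have hAzL : A ⊔ Subgroup.zpowers x = L := by
      refine Subgroup.eq_of_le_of_card_ge (sup_le hAL (Subgroup.zpowers_le.mpr hxL)) ?_
      have h1 : A < A ⊔ Subgroup.zpowers x := left_lt_sup.mpr fun h => hxA (h (Subgroup.mem_zpowers x))
      obtain ⟨c, hc⟩ := Subgroup.card_dvd_of_le h1.le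
      have hc2 : Nat.card (A ⊔ Subgroup.zpowers x : Subgroup P) ∣ Nat.card A * p :=
        hcard ▸ Subgroup.card_dvd_of_le (sup_le hAL (Subgroup.zpowers_le.mpr hxL))
      rw [hc] at hc2
      rcases (Nat.dvd_prime hp.out).mp (Nat.dvd_of_mul_dvd_mul_left Nat.card_pos hc2) with h | h
      · rw [h, mul_one] at hc
        exact absurd (Subgroup.eq_of_le_of_card_ge h1.le hc.le) h1.ne
      · rw [hcard, hc, h]
    have hLc : IsMulCommutative L := by
      refine PGroupsBasic.isMulCommutative_of_le_centralizer ?_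
      rw [← hAzL, sup_le_iff]
      constructor
      · intro u hu
        rw [Subgroup.mem_centralizer_iff]
        intro w hw
        have : w ∈ Subgroup.centralizer (A : Set P) := hLC (hAzL ▸ hw)
        exact (Subgroup.mem_centralizer_iff.mp this u hu).symm
      · rw [Subgroup.zpowers_le, Subgroup.mem_centralizer_iff]
        intro w hw
        have hx' : x ∈ Subgroup.centralizer (A : Set P) := hLC hxL
        have hle : A ⊔ Subgroup.zpowers x ≤ Subgroup.centralizer {x} := by
          refine sup_le (fun u hu => ?_) (Subgroup.zpowers_le.mpr ?_)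
          · rw [Subgroup.mem_centralizer_iff]
            rintro _ rfl
            exact (Subgroup.mem_centralizer_iff.mp hx' u hu).symm
          · rw [Subgroup.mem_centralizer_iff]
            rintro _ rfl
            rfl
        exact (Subgroup.mem_centralizer_iff.mp (hle hw) x rfl).symm
    exact hxA (hA.le_of_ge ⟨hL, hLc⟩ hAL hxL)
  -- `A` is proper
  have hAtop : A < ⊤ := lt_top_iff_ne_top.mpr fun h => hnc (by
    subst h
    exact Subgroup.topEquiv.isCyclic.mp hAcyc)
  obtain ⟨N, hN, hAN, -, hNcard⟩ := PGroupsBasic.exists_normal_succ hP hAtop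
  obtain ⟨x, hxN, hxA⟩ : ∃ x ∈ N, x ∉ A := by
    by_contra h
    push Not at h
    have := Subgroup.card_dvd_of_le h
    rw [hNcard] at this
    have := Nat.le_of_dvd Nat.card_pos this
    have := hp.out.two_le
    have := Nat.card_pos (α := A)
    nlinarith
  have hxp : x ^ p ∈ A := by
    have hi : (A.subgroupOf N).index = p := by
      have h1 := HallCore.card_mul_relIndex hAN
      rw [hNcard] at h1
      exact Nat.eq_of_mul_eq_mul_left Nat.card_pos h1
    have := Subgroup.pow_index_mem (A.subgroupOf N) (⟨x, hxN⟩ : N)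
    rw [hi, Subgroup.mem_subgroupOf] at this
    simpa using this
  obtain ⟨n, hn⟩ : ∃ n, orderOf a = p ^ n := by
    obtain ⟨k, hk⟩ := hP a
    obtain ⟨n, -, hn⟩ := (Nat.dvd_prime_pow hp.out).mp (orderOf_dvd_of_pow_eq_one hk)
    exact ⟨n, hn⟩
  obtain ⟨r, hr⟩ := hmem _ (hAn.conj_mem a haA x)
  obtain ⟨j, hj⟩ := hmem _ hxp
  have hpowa : ∀ u v : ℕ, a ^ u = a ^ v ↔ (u : ZMod (p ^ n)) = (v : ZMod (p ^ n)) := fun u v => by
    rw [pow_eq_pow_iff_modEq, hn, ← ZMod.natCast_eq_natCast_iff]
  have hconj : ∀ m : ℕ, x * a ^ m * x⁻¹ = a ^ (r * m) := fun m => by rw [← conj_pow, hr, pow_mul]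
  have hrne : (r : ZMod (p ^ n)) ≠ ((1 : ℕ) : ZMod (p ^ n)) := by
    intro h
    refine hxA (hself x fun u hu => ?_)
    obtain ⟨m, rfl⟩ := hmem u hu
    have h2 := hconj m
    rw [(hpowa (r * m) m).mpr (by rw [Nat.cast_mul, h, Nat.cast_one, one_mul])] at h2
    exact mul_inv_eq_iff_eq_mul.mp h2
  have hn1 : 1 ≤ n := by
    by_contra hn0
    apply hrne
    have : n = 0 := by omega
    subst this
    have : Subsingleton (ZMod (p ^ 0)) := by rw [pow_zero]; infer_instance
    exact Subsingleton.elim _ _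
  have hiter : ∀ k : ℕ, x ^ k * a * (x ^ k)⁻¹ = a ^ (r ^ k) := by
    intro k
    induction k with
    | zero => simp
    | succ k ih =>
      have : x ^ (k + 1) * a * (x ^ (k + 1))⁻¹ = x * (x ^ k * a * (x ^ k)⁻¹) * x⁻¹ := by
        rw [pow_succ']; group
      rw [this, ih, hconj, pow_succ']
  have hrp : ((r : ZMod (p ^ n))) ^ p = 1 := by
    have h1 := hiter p
    rw [hcomm _ hxp _ haA, mul_inv_cancel_right] at h1
    have h2 := (hpowa 1 (r ^ p)).mp (by rw [pow_one]; exact h1)
    rw [Nat.cast_one, Nat.cast_pow] at h2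
    exact h2.symm
  have hr1 : r % p = 1 := by
    have h1 := congrArg (ZMod.castHom (dvd_pow_self p (by omega : n ≠ 0)) (ZMod p)) hrp
    rw [map_pow, map_one, map_natCast, ZMod.pow_card] at h1
    have h2 := congrArg ZMod.val h1
    rwa [ZMod.val_natCast, ZMod.val_one] at h2
  have hfix : ((r : ZMod (p ^ n)) - 1) * (j : ZMod (p ^ n)) = 0 := by
    have h1 := hconj j
    rw [← hj, ← pow_succ', pow_succ, mul_inv_cancel_right, hj] at h1
    have h2 := (hpowa j (r * j)).mp h1
    rw [Nat.cast_mul] at h2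
    rw [sub_mul, one_mul, ← h2, sub_self]
  by_cases hgood : p ≠ 2 ∨ r % 4 = 1
  · exfalso
    have hpj : p ∣ j := by
      by_contra h
      have hu : IsUnit (j : ZMod (p ^ n)) :=
        (ZMod.isUnit_iff_coprime _ _).mpr (Nat.Coprime.pow_right n ((hp.out.coprime_iff_not_dvd.mpr h).symm))
      exact hrne (by rw [Nat.cast_one]; exact sub_eq_zero.mp (hu.mul_left_eq_zero.mp hfix))
    obtain ⟨j', rfl⟩ := hpj
    have hS := geom_mod_sq hp.out hr1 hgood
    set S := ∑ i ∈ Finset.range p, r ^ i
    obtain ⟨s, hs, hsu⟩ : ∃ s, S = p * s ∧ IsUnit (s : ZMod (p ^ n)) := by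
      refine ⟨S / p ^ 2 * p + 1, ?_, (ZMod.isUnit_iff_coprime _ _).mpr (Nat.Coprime.pow_right n ?_)⟩
      · have := Nat.div_add_mod S (p ^ 2)
        rw [hS] at this
        conv_lhs => rw [← this]
        ring
      · refine (hp.out.coprime_iff_not_dvd.mpr fun h => hp.out.not_dvd_one ?_).symm
        exact (Nat.dvd_add_right (dvd_mul_left p _)).mp h
    obtain ⟨t, ht⟩ := hsu.exists_right_inv
    set i := (-(j' : ZMod (p ^ n)) * t).val with hidef
    have hi : (i : ZMod (p ^ n)) = -(j' : ZMod (p ^ n)) * t := ZMod.natCast_zmod_val _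
    have hy : ∀ m : ℕ, (a ^ i * x) ^ m = a ^ (i * ∑ l ∈ Finset.range m, r ^ l) * x ^ m := by
      intro m
      induction m with
      | zero => simp
      | succ m ih =>
        rw [pow_succ' (a ^ i * x), ih, geom_sum_succ, mul_add, mul_one, add_comm _ i, pow_add, pow_succ' x,
          mul_left_comm i r, ← hconj]
        group
    have hyp : (a ^ i * x) ^ p = 1 := by
      rw [hy, hj, ← pow_add, ← pow_zero a, hpowa]
      show ((i * S + p * j' : ℕ) : ZMod (p ^ n)) = ((0 : ℕ) : ZMod (p ^ n))
      rw [hs]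
      push_cast
      rw [hi]
      linear_combination (-(p : ZMod (p ^ n)) * j') * ht
    have hy1 : a ^ i * x ≠ 1 := fun h => hxA (by
      have : x = (a ^ i)⁻¹ := eq_inv_of_mul_eq_one_right h
      rw [this]
      exact A.inv_mem (A.pow_mem haA i))
    have hyo : orderOf (a ^ i * x) = p := PGroupsBasic.orderOf_eq_of_pow_eq_one hyp hy1
    set z := a ^ p ^ (n - 1) with hz
    have hzo : orderOf z = p := by
      rw [hz, orderOf_pow, hn, Nat.gcd_eq_right (pow_dvd_pow p (Nat.sub_le n 1)),
        Nat.pow_div (Nat.sub_le n 1) hp.out.pos]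
      simp [show n - (n - 1) = 1 by omega]
    have hxz : x * z * x⁻¹ = z := by
      rw [hz, hconj, hpowa]
      obtain ⟨w, hw⟩ : ∃ w, r = p * w + 1 := ⟨r / p, by have := Nat.div_add_mod r p; omega⟩
      rw [hw]
      have h0 : (p : ZMod (p ^ n)) * (p : ZMod (p ^ n)) ^ (n - 1) = 0 := by
        rw [← pow_succ', Nat.sub_add_cancel hn1, ← Nat.cast_pow, ZMod.natCast_self]
      push_cast
      linear_combination (w : ZMod (p ^ n)) * h0
    have hyz : Commute (a ^ i * x) z := by
      refine Commute.mul_left ?_ ?_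
      · exact (Commute.pow_pow_self a i _)
      · exact mul_inv_eq_iff_eq_mul.mp hxz
    have hmemz := hU _ _ hyo hzo hyz
    refine hxA ?_
    have hzA : Subgroup.zpowers z ≤ A := Subgroup.zpowers_le.mpr (A.pow_mem haA _)
    have := A.mul_mem (A.inv_mem (A.pow_mem haA i)) (hzA hmemz)
    simpa [← mul_assoc] using this
  · -- the quaternion case
    push Not at hgood
    obtain ⟨rfl, hr4⟩ := hgood
    have hn2 : 2 ≤ n := by
      by_contra h
      apply hrne
      have hn' : n = 1 := by omega
      subst hn'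
      rw [ZMod.natCast_eq_natCast_iff']
      simp only [pow_one]
      omega
    have hr3 : r % 4 = 3 := by omega
    set c := a ^ 2 ^ (n - 2) with hc
    have hco : orderOf c = 4 := by
      rw [hc, orderOf_pow, hn, Nat.gcd_eq_right (pow_dvd_pow 2 (by omega : n - 2 ≤ n)),
        Nat.pow_div (by omega) (by norm_num), show n - (n - 2) = 2 by omega]
    have hc4 : c ^ 4 = 1 := hco ▸ pow_orderOf_eq_one c
    have hxc : x * c * x⁻¹ = c ^ 3 := by
      rw [hc, hconj, mul_comm, pow_mul, ← hc, ← Nat.div_add_mod r 4, hr3, pow_add, pow_mul, hc4, one_pow, one_mul]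
    -- `x * x` is a power of `a` fixed by `x`, hence at most an involution
    have hj2 : (x ^ 2) ^ 2 = 1 := by
      rw [hj, ← pow_mul, ← pow_zero a, hpowa]
      obtain ⟨w, hw⟩ : ∃ w, r = 2 * (2 * w + 1) + 1 := ⟨r / 4, by omega⟩
      have hu : IsUnit ((2 * w + 1 : ℕ) : ZMod (2 ^ n)) :=
        (ZMod.isUnit_iff_coprime _ _).mpr (Nat.Coprime.pow_right n (Nat.coprime_two_right.mpr ⟨w, rfl⟩))
      have : ((2 * w + 1 : ℕ) : ZMod (2 ^ n)) * ((j * 2 : ℕ) : ZMod (2 ^ n)) = 0 := by
        rw [← hfix, hw]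
        push_cast
        ring
      rw [Nat.cast_zero]
      exact hu.mul_right_eq_zero.mp this
    have hcA : c ∈ A := A.pow_mem haA _
    have hc2o : orderOf (c ^ 2) = 2 := by
      rw [orderOf_pow' c (by norm_num : 2 ≠ 0), hco]
      rfl
    have hx2A : x ^ 2 ∈ A := hxp
    have hxx : x ^ 2 = c ^ 2 := by
      rcases eq_or_ne (x ^ 2) 1 with h | h
      · exfalso
        have hxo : orderOf x = 2 := orderOf_eq_prime h fun e => hxA (e ▸ A.one_mem)
        have hcom : Commute x (c ^ 2) := by
          have := hxc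
          have e : x * c ^ 2 * x⁻¹ = c ^ 2 := by
            rw [← conj_pow, hxc, ← pow_mul, show 3 * 2 = 4 + 2 from rfl, pow_add, hc4, one_mul]
          exact mul_inv_eq_iff_eq_mul.mp e
        exact hxA ((Subgroup.zpowers_le.mpr (A.pow_mem hcA 2)) (hU x (c ^ 2) hxo hc2o hcom))
      · have hxo : orderOf (x ^ 2) = 2 := orderOf_eq_prime hj2 h
        have := hU (x ^ 2) (c ^ 2) hxo hc2o (hcomm _ hx2A _ (A.pow_mem hcA 2))
        obtain ⟨k, hk⟩ := mem_powers_iff_mem_zpowers.mpr this
        rw [← hk] at h ⊢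
        simp only at h ⊢
        rw [← pow_mod_orderOf, hc2o] at h ⊢
        rcases Nat.mod_two_eq_zero_or_one k with e | e
        · rw [e, pow_zero] at h; exact absurd rfl h
        · rw [e, pow_one]
    refine ⟨c, x, ?_, ?_, ?_, ?_⟩
    · rw [← pow_two]
      intro e
      rw [e, orderOf_one] at hc2o
      norm_num at hc2o
    · rw [← hc4]; simp only [pow_succ, pow_zero, one_mul, mul_assoc]
    · rw [← pow_two, hxx, pow_two]
    · have h3 : x * c = c ^ 3 * x := mul_inv_eq_iff_eq_mul.mp hxc
      have hxc2 : x * (c * c) = c * c * x := by rw [← pow_two, ← hxx]; group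
      calc c * x = c ^ 4 * (c * x) := by rw [hc4, one_mul]
        _ = c ^ 3 * (c * c * x) := by group
        _ = c ^ 3 * x * (c * c) := by rw [← hxc2, mul_assoc]
        _ = x * c * (c * c) := by rw [h3]

/-- Let H be a Frobenius complement in a finite group, and suppose some Sylow subgroup of H is not cyclic. Then the number of elements of the Frobenius kernel (the identity together with the elements lying in no conjugate of H) is an odd perfect square. -/
theorem result {L : Type*} [Group L] [Finite L] (H : Subgroup L) (hF : Cfsg.IsFrobeniusComplement H)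
    (hZ : ∃ (p : ℕ) (_ : Fact p.Prime) (P : Sylow p H), ¬ IsCyclic P) :
    Odd (Nat.card (Cfsg.frobeniusKernel H)) ∧ IsSquare (Nat.card (Cfsg.frobeniusKernel H)) := by
  classical
  obtain ⟨p, hp, P, hP⟩ := hZ
  obtain ⟨K, -, hKn, hKc⟩ := S0035.result H hF
  have := hKn
  have hfpf := FrobeniusBasic.fpf_of_complement hF hKc.disjoint
  have hKne : K ≠ ⊥ := by
    intro h
    subst h
    exact hF.2.1 (Subgroup.isComplement'_bot_left.mp hKc)
  obtain ⟨a, b, h1, h2, h3, h4⟩ := exists_quat p P.isPGroup' hP (by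
    intro y z hy hz hc
    set Y : L := ((y : H) : L)
    set Z : L := ((z : H) : L)
    have hY : orderOf Y = p := by rw [Subgroup.orderOf_coe, Subgroup.orderOf_coe, hy]
    have hZ' : orderOf Z = p := by rw [Subgroup.orderOf_coe, Subgroup.orderOf_coe, hz]
    set E := Subgroup.closure ({Y, Z} : Set L)
    have hEc : IsMulCommutative E := Subgroup.isMulCommutative_closure <| by
      have hc' : Y * Z = Z * Y := congrArg (fun u : (P : Subgroup H) => ((u : H) : L)) hc
      rintro u (rfl | rfl) v (rfl | rfl) <;> first | rfl | exact hc' | exact hc'.symm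
    have hEH : E ≤ H := by
      rw [Subgroup.closure_le]
      rintro u (rfl | rfl) <;> exact SetLike.coe_mem _
    have hcyc : IsCyclic E := FrobeniusFPF.isCyclic_of_le_complement hKc hKne hfpf E hEH (Or.inl hEc)
    let y' : E := ⟨Y, Subgroup.subset_closure (Or.inl rfl)⟩
    let z' : E := ⟨Z, Subgroup.subset_closure (Or.inr rfl)⟩
    have hy' : orderOf y' = p := by rw [← Subgroup.orderOf_coe]; exact hY
    have hz' : orderOf z' = p := by rw [← Subgroup.orderOf_coe]; exact hZ'
    obtain ⟨g, hg⟩ := IsCyclic.exists_ofOrder_eq_natCard (α := E)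
    have hgen : ∀ u : E, u ∈ Subgroup.zpowers g := fun u => by
      have : Subgroup.zpowers g = ⊤ := by
        refine Subgroup.eq_top_of_card_eq _ ?_
        rw [Nat.card_zpowers, hg]
      rw [this]; trivial
    have hpd : p ∣ Nat.card E := hy' ▸ orderOf_dvd_natCard y'
    have key : ∀ u : E, orderOf u = p → Subgroup.zpowers u = Subgroup.zpowers (g ^ (Nat.card E / p)) := by
      intro u hu
      have hgo : orderOf (g ^ (Nat.card E / p)) = p := by
        rw [← hg]; exact orderOf_pow_orderOf_div (orderOf_pos g).ne' (hg ▸ hpd)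
      refine Subgroup.eq_of_le_of_card_ge ?_ ?_
      · rw [Subgroup.zpowers_le]
        obtain ⟨m, rfl⟩ := mem_powers_iff_mem_zpowers.mpr (hgen u)
        have h1 : (g ^ m) ^ p = 1 := by
          rw [← hu]; exact pow_orderOf_eq_one _
        rw [← pow_mul] at h1
        have h2 := orderOf_dvd_of_pow_eq_one h1
        rw [hg] at h2
        obtain ⟨w, hw⟩ := hpd
        rw [hw, mul_comm m p] at h2
        obtain ⟨c, rfl⟩ := Nat.dvd_of_mul_dvd_mul_left hp.out.pos h2
        rw [hw, Nat.mul_div_cancel_left _ hp.out.pos]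
        exact ⟨(c : ℤ), by simp [← pow_mul, zpow_natCast]⟩
      · rw [Nat.card_zpowers, Nat.card_zpowers, hu, hgo]
    have hmem : y' ∈ Subgroup.zpowers z' := by
      rw [key z' hz', ← key y' hy']; exact Subgroup.mem_zpowers y'
    obtain ⟨k, hk⟩ := Subgroup.mem_zpowers_iff.mp hmem
    refine Subgroup.mem_zpowers_iff.mpr ⟨k, Subtype.ext (Subtype.ext ?_)⟩
    have := congrArg Subtype.val hk
    push_cast at this ⊢
    exact this)
  refine FrobeniusEven.kernel_square hF (a := ((a : H) : L)) (b := ((b : H) : L)) (SetLike.coe_mem _)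
    (SetLike.coe_mem _) ?_ ?_ ?_ ?_
  · intro h
    exact h1 (Subtype.ext (Subtype.ext h))
  · exact congrArg (fun u : (P : Subgroup H) => ((u : H) : L)) h2
  · exact congrArg (fun u : (P : Subgroup H) => ((u : H) : L)) h3
  · exact congrArg (fun u : (P : Subgroup H) => ((u : H) : L)) h4

end Cfsg.Agent.S4296
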