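import Cfsg.Statements.S4297
import Mathlib
import Cfsg.Agent.Lib.FrobeniusConstruct

set_option autoImplicit false
open Cfsg

namespace Cfsg.Agent.S4297

variable {F : Type*} [Field F] {m : ℕ} (z : F)

/-- Power of `z` indexed by `ZMod`. -/
def pw (i : ZMod m) : F := z ^ i.val

/-- Two-dimensional representation of the dicyclic group. -/
def img (n : ℕ) (z : F) : QuaternionGroup n → Matrix (Fin 2) (Fin 2) F
  | QuaternionGroup.a i => !![pw z i, 0; 0, pw z (-i)]
  | QuaternionGroup.xa i => !![0, -pw z (-i); pw z i, 0]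

theorem pw_add [NeZero m] {z : F} (hz : z ^ m = 1) (i j : ZMod m) : pw z (i + j) = pw z i * pw z j := by
  rw [pw, pw, pw, ← pow_add, ZMod.val_add]
  exact (pow_eq_pow_mod (i.val + j.val) hz).symm

theorem pw_eq_one [NeZero m] {z : F} (hz : IsPrimitiveRoot z m) {i : ZMod m} (h : pw z i = 1) : i = 0 := by
  refine (ZMod.val_eq_zero i).mp (Nat.eq_zero_of_dvd_of_lt (hz.dvd_of_pow_eq_one _ h) (ZMod.val_lt i))

theorem pw_half {n : ℕ} [NeZero n] {z : F} (hz : IsPrimitiveRoot z (2 * n)) :
    pw z (n : ZMod (2 * n)) = -1 := by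
  have hn := NeZero.pos n
  rw [pw, ZMod.val_natCast, Nat.mod_eq_of_lt (by omega)]
  have h : (z ^ n) ^ 2 = 1 := by rw [← pow_mul, mul_comm, hz.pow_eq_one]
  rcases sq_eq_one_iff.mp h with h | h
  · exact absurd h (hz.pow_ne_one_of_pos_of_lt hn.ne' (by omega))
  · exact h

theorem img_mul {n : ℕ} [NeZero n] {z : F} (hz : IsPrimitiveRoot z (2 * n)) :
    ∀ g h : QuaternionGroup n, img n z (g * h) = img n z g * img n z h := by
  have h1 := hz.pow_eq_one
  have hn := pw_half hz
  have hn' : pw z (-(n : ZMod (2 * n))) = -1 := by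
    have : -(n : ZMod (2 * n)) = n := by
      rw [neg_eq_iff_add_eq_zero, ← Nat.cast_add, ← two_mul, ZMod.natCast_self]
    rw [this, hn]
  rintro (i | i) (j | j) <;>
    simp only [QuaternionGroup.a_mul_a, QuaternionGroup.a_mul_xa, QuaternionGroup.xa_mul_a,
      QuaternionGroup.xa_mul_xa, img] <;>
    refine Matrix.ext fun r s => ?_ <;> fin_cases r <;> fin_cases s <;>
    simp [sub_eq_add_neg, neg_add_rev, pw_add h1, hn, hn'] <;> ring

/-- For every n ≥ 2 the dicyclic group of order 4n (generated by an element a of order 2n and an element x with x² = aⁿ and x a x⁻¹ = a⁻¹) occurs as a Frobenius complement of some finite Frobenius group. -/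
theorem result (n : ℕ) (hn : 2 ≤ n) :
    ∃ (L : Type) (_ : Group L) (_ : Finite L) (H : Subgroup L), Cfsg.IsFrobeniusComplement H ∧ Nonempty (H ≃* QuaternionGroup n) := by
  have : NeZero n := ⟨by omega⟩
  obtain ⟨q, hq, hqn, hmod⟩ := Nat.exists_prime_gt_modEq_one (k := 2 * n) 2 (by omega)
  have : Fact q.Prime := ⟨hq⟩
  have hdvd : 2 * n ∣ Nat.card (ZMod q)ˣ := by
    rw [Nat.card_units, Nat.card_zmod]
    exact (Nat.modEq_iff_dvd' hq.one_le).mp hmod.symm
  obtain ⟨g, hg⟩ := IsCyclic.exists_generator (α := (ZMod q)ˣ)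
  obtain ⟨k, hk⟩ := hdvd
  have hroot : IsPrimitiveRoot ((g ^ k : (ZMod q)ˣ) : ZMod q) (2 * n) := by
    rw [IsPrimitiveRoot.coe_units_iff]
    refine (IsPrimitiveRoot.orderOf g).pow ?_ ?_
    · exact orderOf_pos g
    · rw [orderOf_eq_card_of_forall_mem_zpowers hg, hk, mul_comm]
  set z : ZMod q := ((g ^ k : (ZMod q)ˣ) : ZMod q)
  have hone : img n z 1 = 1 := by
    rw [show (1 : QuaternionGroup n) = QuaternionGroup.a 0 from rfl]
    refine Matrix.ext fun r s => ?_
    fin_cases r <;> fin_cases s <;> simp [img, pw]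
  let f : QuaternionGroup n →* Matrix (Fin 2) (Fin 2) (ZMod q) :=
    { toFun := img n z, map_one' := hone, map_mul' := img_mul hroot }
  have : Nontrivial (QuaternionGroup n) := ⟨⟨1, QuaternionGroup.xa 0, by
    intro h; change QuaternionGroup.a 0 = QuaternionGroup.xa 0 at h; injection h⟩⟩
  obtain ⟨L, i₁, i₂, H, hH, ⟨e⟩, -⟩ := FrobeniusConstruct.exists_complement_of_smul
    (V := Fin 2 → ZMod q)
    ((Matrix.toLinAlgEquiv' (R := ZMod q) (n := Fin 2)).toAlgHom.toRingHom.toMonoidHom.comp f) (by
      intro c hc x hx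
      have hmv : (img n z c).mulVec x = x := hx
      have e0 := congrFun hmv 0
      have e1 := congrFun hmv 1
      rcases c with i | i
      · have hi : i ≠ 0 := fun h => hc (by rw [h]; rfl)
        simp [img, Matrix.mulVec, dotProduct, Fin.sum_univ_two] at e0 e1
        funext r
        fin_cases r
        · by_contra h
          exact hi (pw_eq_one hroot (mul_right_cancel₀ h (e0.trans (one_mul _).symm)))
        · by_contra h
          exact hi (neg_eq_zero.mp (pw_eq_one hroot (mul_right_cancel₀ h (e1.trans (one_mul _).symm))))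
      · simp [img, Matrix.mulVec, dotProduct, Fin.sum_univ_two] at e0 e1
        have hp : pw z (-i) * pw z i = 1 := by
          rw [← pw_add hroot.pow_eq_one, neg_add_cancel]; simp [pw]
        have h2 : (2 : ZMod q) ≠ 0 := by
          intro h
          have h' : ((2 : ℕ) : ZMod q) = 0 := by exact_mod_cast h
          have := Nat.le_of_dvd two_pos ((ZMod.natCast_eq_zero_iff 2 q).mp h')
          omega
        have hx0 : x 0 = 0 := by
          have : (2 : ZMod q) * x 0 = 0 := by
            linear_combination (-(x 0)) * hp + pw z (-i) * e1 - e0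
          exact (mul_eq_zero.mp this).resolve_left h2
        funext r
        fin_cases r
        · exact hx0
        · show x 1 = 0
          rw [← e1, hx0, mul_zero])
  exact ⟨L, i₁, i₂, H, hH, ⟨e.symm⟩⟩

end Cfsg.Agent.S4297
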