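import Cfsg.Statements.S4298
import Mathlib
import Cfsg.Agent.Lib.FrobeniusConstruct

set_option autoImplicit false
open Cfsg

namespace Cfsg.Agent.S4298

/-- Packed images in `SL(2,5)` of the elements of `SL(2,3)`. -/
def entry (i a b c d : ℕ) : ℕ :=
  ([47647438382320028719335368879842609207632751464843750, 49731428694707591198213805773850190453250887268066406250, 49752602827055070200409119570542830042576314270019531250, 90002547017449552331811901459018737099172058105468750].getD i 0) / 5 ^ (27 * a + 9 * b + 3 * c + d) % 5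

set_option synthInstance.maxSize 10000 in
theorem entry_mul : ∀ a < 3, ∀ b < 3, ∀ c < 3, ∀ d < 3, (a * d + 2 * (b * c)) % 3 = 1 →
    ∀ e < 3, ∀ f < 3, ∀ g < 3, ∀ h < 3, (e * h + 2 * (f * g)) % 3 = 1 → ∀ i < 2, ∀ j < 2,
    entry (2 * i + j) ((a * e + b * g) % 3) ((a * f + b * h) % 3) ((c * e + d * g) % 3) ((c * f + d * h) % 3) =
      (entry (2 * i) a b c d * entry j e f g h + entry (2 * i + 1) a b c d * entry (2 + j) e f g h) % 5 := by
  decide +kernel

set_option synthInstance.maxSize 10000 in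
theorem entry_fpf : ∀ a < 3, ∀ b < 3, ∀ c < 3, ∀ d < 3, (a * d + 2 * (b * c)) % 3 = 1 →
    (a = 1 ∧ b = 0 ∧ c = 0 ∧ d = 1) ∨ ∀ x < 5, ∀ y < 5,
      (entry 0 a b c d * x + entry 1 a b c d * y) % 5 = x →
      (entry 2 a b c d * x + entry 3 a b c d * y) % 5 = y → x = 0 ∧ y = 0 := by
  decide +kernel

theorem entry_one : ∀ i < 2, ∀ j < 2, entry (2 * i + j) 1 0 0 1 = if i = j then 1 else 0 := by
  decide +kernel

abbrev SL3 := Matrix.SpecialLinearGroup (Fin 2) (ZMod 3)

/-- The faithful two-dimensional representation over the field with five elements. -/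
def img (A : SL3) : Matrix (Fin 2) (Fin 2) (ZMod 5) :=
  fun i j => (entry (2 * i.1 + j.1) (A 0 0).val (A 0 1).val (A 1 0).val (A 1 1).val : ℕ)

theorem det_val (A : SL3) : ((A 0 0).val * (A 1 1).val + 2 * ((A 0 1).val * (A 1 0).val)) % 3 = 1 := by
  have h := A.det_coe
  rw [Matrix.det_fin_two] at h
  have key : ∀ a b c d : ZMod 3, a * d - b * c = 1 → (a.val * d.val + 2 * (b.val * c.val)) % 3 = 1 := by decide
  exact key _ _ _ _ h

theorem mul_val (A B : SL3) (i j : Fin 2) :
    ((A * B) i j).val = ((A i 0).val * (B 0 j).val + (A i 1).val * (B 1 j).val) % 3 := by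
  have key : ∀ a b c d : ZMod 3, (a * b + c * d).val = (a.val * b.val + c.val * d.val) % 3 := by decide
  rw [← key]
  simp [Matrix.mul_apply, Fin.sum_univ_two]

theorem img_mul (A B : SL3) : img (A * B) = img A * img B := by
  refine Matrix.ext fun i j => ?_
  have lt : ∀ x : ZMod 3, x.val < 3 := ZMod.val_lt
  have h := entry_mul _ (lt (A 0 0)) _ (lt (A 0 1)) _ (lt (A 1 0)) _ (lt (A 1 1)) (det_val A)
    _ (lt (B 0 0)) _ (lt (B 0 1)) _ (lt (B 1 0)) _ (lt (B 1 1)) (det_val B) i.1 i.2 j.1 j.2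
  show ((entry _ _ _ _ _ : ℕ) : ZMod 5) = _
  rw [mul_val, mul_val, mul_val, mul_val, h]
  simp [Matrix.mul_apply, Fin.sum_univ_two, img]

theorem img_one : img 1 = 1 := by
  refine Matrix.ext fun i j => ?_
  have h := entry_one i.1 i.2 j.1 j.2
  show ((entry _ ((1 : SL3) 0 0).val ((1 : SL3) 0 1).val ((1 : SL3) 1 0).val ((1 : SL3) 1 1).val : ℕ) : ZMod 5) = _
  simp only [Matrix.SpecialLinearGroup.coe_one, Matrix.one_apply_eq,
    Matrix.one_apply_ne (show (0 : Fin 2) ≠ 1 by decide), Matrix.one_apply_ne (show (1 : Fin 2) ≠ 0 by decide),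
    ZMod.val_one, ZMod.val_zero, h]
  simp [Matrix.one_apply, Fin.ext_iff]

/-- `img` as a homomorphism. -/
def imgHom : SL3 →* Matrix (Fin 2) (Fin 2) (ZMod 5) where
  toFun := img
  map_one' := img_one
  map_mul' := img_mul

/-- The representation as endomorphisms. -/
noncomputable def rep : SL3 →* Module.End (ZMod 5) (Fin 2 → ZMod 5) :=
  (Matrix.toLinAlgEquiv' (R := ZMod 5) (n := Fin 2)).toAlgHom.toRingHom.toMonoidHom.comp imgHom

/-- The group SL(2,3) of order 24 (the binary tetrahedral group) occurs as a Frobenius complement of some finite Frobenius group. -/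
theorem result :
    ∃ (L : Type) (_ : Group L) (_ : Finite L) (H : Subgroup L), Cfsg.IsFrobeniusComplement H ∧ Nonempty (H ≃* Matrix.SpecialLinearGroup (Fin 2) (ZMod 3)) := by
  have : Nontrivial SL3 := ⟨⟨1, ⟨!![1, 1; 0, 1], by simp [Matrix.det_fin_two]⟩, fun h => by
    have := congrArg (fun A : SL3 => A 0 1) h
    simp at this⟩⟩
  have : Fact (Nat.Prime 5) := ⟨by norm_num⟩
  obtain ⟨L, i₁, i₂, H, hH, ⟨e⟩, -⟩ := FrobeniusConstruct.exists_complement_of_smul
    (V := Fin 2 → ZMod 5) rep (by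
      intro A hA x hx
      have hmv : (img A).mulVec x = x := hx
      rcases entry_fpf _ (ZMod.val_lt (A 0 0)) _ (ZMod.val_lt (A 0 1)) _ (ZMod.val_lt (A 1 0)) _
        (ZMod.val_lt (A 1 1)) (det_val A) with ⟨h1, h2, h3, h4⟩ | h
      · exfalso
        apply hA
        refine Matrix.SpecialLinearGroup.ext _ _ fun i j => ZMod.val_injective 3 ?_
        fin_cases i <;> fin_cases j <;> simp [h1, h2, h3, h4, ZMod.val_one]
      · have c : ∀ i : Fin 2, ((entry (2 * i.1) (A 0 0).val (A 0 1).val (A 1 0).val (A 1 1).val * (x 0).val +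
            entry (2 * i.1 + 1) (A 0 0).val (A 0 1).val (A 1 0).val (A 1 1).val * (x 1).val) % 5) = (x i).val := by
          intro i
          conv_rhs => rw [← congrFun hmv i]
          rw [← ZMod.val_natCast]
          simp [Matrix.mulVec, dotProduct, Fin.sum_univ_two, img]
        obtain ⟨hx0, hx1⟩ := h _ (ZMod.val_lt (x 0)) _ (ZMod.val_lt (x 1)) (c 0) (c 1)
        funext i
        fin_cases i
        · exact (ZMod.val_eq_zero _).mp hx0
        · exact (ZMod.val_eq_zero _).mp hx1)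
  exact ⟨L, i₁, i₂, H, hH, ⟨e.symm⟩⟩

end Cfsg.Agent.S4298
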