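import Cfsg.Statements.S4299
import Mathlib
import Cfsg.Agent.Lib.FrobeniusConstruct

set_option autoImplicit false
open Cfsg

namespace Cfsg.Agent.S4299

/-- Every nontrivial finite cyclic group occurs as a Frobenius complement of some finite Frobenius group. -/
theorem result {C : Type*} [Group C] [Finite C] [IsCyclic C] [Nontrivial C] :
    ∃ (L : Type) (_ : Group L) (_ : Finite L) (H : Subgroup L), Cfsg.IsFrobeniusComplement H ∧ Nonempty (C ≃* H) := by
  classical
  obtain ⟨q, hq, hqn, hmod⟩ := Nat.exists_prime_gt_modEq_one (k := Nat.card C) 0 Nat.card_pos.ne'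
  have : Fact q.Prime := ⟨hq⟩
  have hdvd : Nat.card C ∣ Nat.card (ZMod q)ˣ := by
    rw [Nat.card_units, Nat.card_zmod]
    exact (Nat.modEq_iff_dvd' hq.one_le).mp hmod.symm
  obtain ⟨g, hg⟩ := IsCyclic.exists_generator (α := (ZMod q)ˣ)
  obtain ⟨k, hk⟩ := hdvd
  have hord : orderOf (g ^ k) = Nat.card C := by
    rw [orderOf_pow, orderOf_eq_card_of_forall_mem_zpowers hg, hk, Nat.gcd_mul_left_left,
      Nat.mul_div_cancel]
    rcases Nat.eq_zero_or_pos k with h0 | h0
    · subst h0
      exact absurd hk (by rw [mul_zero]; exact (Nat.card_pos (α := (ZMod q)ˣ)).ne')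
    · exact h0
  have e : C ≃* Subgroup.zpowers (g ^ k) :=
    mulEquivOfCyclicCardEq (by rw [Nat.card_zpowers, hord])
  obtain ⟨L, i₁, i₂, H, hH, he, -⟩ := FrobeniusConstruct.exists_complement_of_smul (V := ZMod q)
    ((Units.coeHom (ZMod q)).comp ((Subgroup.zpowers (g ^ k)).subtype.comp e.toMonoidHom)) (by
      intro c hc x hx
      by_contra hx0
      have h1 : ((((e c : Subgroup.zpowers (g ^ k)) : (ZMod q)ˣ) : ZMod q)) = 1 :=
        mul_right_cancel₀ hx0 (hx.trans (one_mul x).symm)
      exact hc (e.injective (by rw [map_one]; exact Subtype.ext (Units.ext h1))))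
  exact ⟨L, i₁, i₂, H, hH, he⟩

end Cfsg.Agent.S4299
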