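import Cfsg.Statements.S4300
-- import your own Cfsg.Agent.* helpers here

set_option autoImplicit false
open Cfsg

namespace Cfsg.Agent.S4300


/-- Let G act faithfully and primitively on a set X, and suppose the stabilizer of some point is a simple group. Then either G is simple, or G has a normal subgroup, neither trivial nor the whole group, that acts regularly on X (transitively with trivial point stabilizers). -/
theorem result {G : Type*} [Group G] {X : Type*} [MulAction G X] [FaithfulSMul G X]
    (hprim : MulAction.IsPreprimitive G X) (x : X) (hsimple : IsSimpleGroup (MulAction.stabilizer G x)) :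
    IsSimpleGroup G ∨ ∃ N : Subgroup G, N.Normal ∧ N ≠ ⊥ ∧ N ≠ ⊤ ∧
      MulAction.IsPretransitive N X ∧ ∀ y : X, MulAction.stabilizer N y = ⊥ := by
  haveI := hsimple
  by_cases hS : IsSimpleGroup G
  · exact Or.inl hS
  right
  have hntG : Nontrivial G := by
    obtain ⟨a, b, hab⟩ := (IsSimpleGroup.toNontrivial (G := MulAction.stabilizer G x)).exists_pair_ne
    exact ⟨⟨a, b, fun h => hab (Subtype.ext h)⟩⟩
  obtain ⟨N, hN, hNb, hNt⟩ : ∃ N : Subgroup G, N.Normal ∧ N ≠ ⊥ ∧ N ≠ ⊤ := by
    by_contra h
    push Not at h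
    exact hS ⟨fun N hN => (em (N = ⊥)).imp id (fun hb => h N hN hb)⟩
  haveI := hN
  refine ⟨N, hN, hNb, hNt, ?_⟩
  have hfix : MulAction.fixedPoints N X ≠ Set.univ := by
    intro h
    apply hNb
    rw [Subgroup.eq_bot_iff_forall]
    intro n hn
    refine eq_of_smul_eq_smul (α := X) fun y => ?_
    rw [one_smul]
    exact (Set.eq_univ_iff_forall.mp h y) ⟨n, hn⟩
  have htr : MulAction.IsPretransitive N X :=
    MulAction.IsQuasiPreprimitive.isPretransitive_of_normal hfix
  refine ⟨htr, ?_⟩
  have hx : N.subgroupOf (MulAction.stabilizer G x) = ⊥ := by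
    rcases (inferInstance : (N.subgroupOf (MulAction.stabilizer G x)).Normal).eq_bot_or_eq_top with h | h
    · exact h
    · exfalso
      apply hNt
      rw [Subgroup.subgroupOf_eq_top] at h
      rw [eq_top_iff]
      intro g _
      obtain ⟨n, hn⟩ := MulAction.exists_smul_eq N x (g • x)
      have : (n : G)⁻¹ * g ∈ MulAction.stabilizer G x := by
        rw [MulAction.mem_stabilizer_iff, mul_smul, ← hn, Subgroup.smul_def, inv_smul_smul]
      have h2 := mul_mem n.2 (h this)
      rwa [mul_inv_cancel_left] at h2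
  intro y
  rw [Subgroup.eq_bot_iff_forall]
  intro n hn
  obtain ⟨m, hm⟩ := MulAction.exists_smul_eq N x y
  have h1 : m⁻¹ * n * m ∈ MulAction.stabilizer N x := by
    rw [MulAction.mem_stabilizer_iff, mul_smul, mul_smul, hm, MulAction.mem_stabilizer_iff.mp hn, ← hm, inv_smul_smul]
  have h2 : ((m⁻¹ * n * m : N) : G) = 1 := by
    have hmem : (⟨((m⁻¹ * n * m : N) : G), h1⟩ : MulAction.stabilizer G x) ∈ N.subgroupOf (MulAction.stabilizer G x) := (m⁻¹ * n * m).2
    rw [hx, Subgroup.mem_bot] at hmem
    exact congrArg Subtype.val hmem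
  have h3 : m⁻¹ * n * m = 1 := Subtype.ext h2
  calc n = m * (m⁻¹ * n * m) * m⁻¹ := by group
    _ = 1 := by rw [h3]; group

end Cfsg.Agent.S4300
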