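import Cfsg.Statements.S4301
-- import your own Cfsg.Agent.* helpers here

set_option autoImplicit false
open Cfsg

namespace Cfsg.Agent.S4301

theorem exists_embedding_pair {X : Type*} {k : ℕ} (hk : 2 ≤ k) (e : Fin k ↪ X) (p q : X)
    (hpq : p ≠ q) : ∃ a : Fin k ↪ X, a ⟨0, by omega⟩ = p ∧ a ⟨1, by omega⟩ = q := by
  classical
  set i0 : Fin k := ⟨0, by omega⟩
  set i1 : Fin k := ⟨1, by omega⟩
  have hne : i1 ≠ i0 := by simp [i0, i1, Fin.ext_iff]
  set a1 : Fin k ↪ X := e.trans (Equiv.swap (e i0) p).toEmbedding with ha1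
  have h0 : a1 i0 = p := by simp [ha1]
  refine ⟨a1.trans (Equiv.swap (a1 i1) q).toEmbedding, ?_, ?_⟩
  · change Equiv.swap (a1 i1) q (a1 i0) = p
    rw [h0, Equiv.swap_apply_of_ne_of_ne ?_ hpq]
    intro h
    exact hne (a1.injective (h0.trans h)).symm
  · change Equiv.swap (a1 i1) q (a1 i1) = q
    exact Equiv.swap_apply_left _ _

/-- One-point extension of a multiply transitive group. Let X be a set and G a group of permutations of Option X (the set X with one extra point ∗ = none) all of whose elements fix ∗, such that G is k-transitive on the points of X for some k ≥ 2, X having at least k points. Suppose a permutation h of Option X and an element g of G satisfy: h interchanges ∗ with a point x of X and fixes a point y of X; g interchanges x and y; (g h)³ and h² lie in G; and for every f in G fixing x, the product h f h lies in G and fixes x. Then an element of the group generated by G and h fixes ∗ exactly when it lies in G, and that group acts (k+1)-transitively on Option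 X. -/
theorem result {X : Type*} (G : Subgroup (Equiv.Perm (Option X))) (hfix : ∀ f ∈ G, f none = none)
    (k : ℕ) (hk : 2 ≤ k) (hkX : Nonempty (Fin k ↪ X))
    (htrans : ∀ a b : Fin k ↪ X, ∃ f ∈ G, ∀ i, f (some (a i)) = some (b i))
    (h g : Equiv.Perm (Option X)) (hg : g ∈ G) (x y : X)
    (h1 : h none = some x) (h2 : h (some x) = none) (h3 : h (some y) = some y)
    (h4 : g (some x) = some y) (h5 : g (some y) = some x)
    (h6 : (g * h) ^ 3 ∈ G) (h7 : h ^ 2 ∈ G)
    (h8 : ∀ f ∈ G, f (some x) = some x → h * f * h ∈ G ∧ (h * f * h) (some x) = some x) :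
    (∀ f ∈ Subgroup.closure ((G : Set (Equiv.Perm (Option X))) ∪ {h}), f none = none ↔ f ∈ G) ∧
      MulAction.IsMultiplyPretransitive (Subgroup.closure ((G : Set (Equiv.Perm (Option X))) ∪ {h})) (Option X) (k + 1) := by
  classical
  obtain ⟨e⟩ := hkX
  have htwo : ∀ p q p' q' : X, p ≠ q → p' ≠ q' →
      ∃ f ∈ G, f (some p) = some p' ∧ f (some q) = some q' := by
    intro p q p' q' hpq hpq'
    obtain ⟨a, ha0, ha1⟩ := exists_embedding_pair hk e p q hpq
    obtain ⟨b, hb0, hb1⟩ := exists_embedding_pair hk e p' q' hpq'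
    obtain ⟨f, hf, hfab⟩ := htrans a b
    exact ⟨f, hf, by rw [← ha0, hfab, hb0], by rw [← ha1, hfab, hb1]⟩
  have hxy : x ≠ y := by
    rintro rfl
    rw [h3] at h2
    exact Option.some_ne_none _ h2
  have hone : ∀ p : X, ∃ f ∈ G, f (some x) = some p := by
    intro p
    by_cases hp : p = x
    · exact ⟨1, one_mem _, by rw [hp]; rfl⟩
    · obtain ⟨f, hf, hf1, -⟩ := htwo x y p x hxy hp
      exact ⟨f, hf, hf1⟩
  have hne : ∀ f ∈ G, ∀ p : X, f (some p) ≠ none := fun f hf p h =>
    Option.some_ne_none p (f.injective (h.trans (hfix f hf).symm))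
  -- decomposition `G = G_x ∪ G_x g G_x`
  have hdec : ∀ f ∈ G, f (some x) = some x ∨ ∃ a ∈ G, a (some x) = some x ∧
      ∃ b ∈ G, b (some x) = some x ∧ f = a * g * b := by
    intro f hf
    obtain ⟨z, hz⟩ := Option.ne_none_iff_exists'.1 (hne f hf x)
    by_cases hzx : z = x
    · exact Or.inl (hzx ▸ hz)
    · obtain ⟨a, ha, hax, hay⟩ := htwo x y x z hxy (Ne.symm hzx)
      refine Or.inr ⟨a, ha, hax, g⁻¹ * a⁻¹ * f, mul_mem (mul_mem (inv_mem hg) (inv_mem ha)) hf, ?_,
        by group⟩
      simp only [Equiv.Perm.mul_apply]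
      rw [hz, show a⁻¹ (some z) = some y from Equiv.Perm.inv_eq_iff_eq.2 hay.symm,
        Equiv.Perm.inv_eq_iff_eq]
      exact h4.symm
  let inM : Equiv.Perm (Option X) → Prop := fun m =>
    m ∈ G ∨ ∃ a ∈ G, ∃ b ∈ G, m = a * h * b
  have ht : (h ^ 2)⁻¹ ∈ G := inv_mem h7
  have hswap : ∀ f ∈ G, inM (h * f * h) := by
    intro f hf
    rcases hdec f hf with hfx | ⟨a, ha, hax, b, hb, hbx, rfl⟩
    · exact Or.inl (h8 f hf hfx).1
    · refine Or.inr ⟨h * a * h * ((h ^ 2)⁻¹ * (g⁻¹ * (g * h) ^ 3 * (h ^ 2)⁻¹)), ?_,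
        g⁻¹ * (h ^ 2)⁻¹ * (h * b * h), ?_, ?_⟩
      · exact mul_mem (h8 a ha hax).1 (mul_mem ht (mul_mem (mul_mem (inv_mem hg) h6) ht))
      · exact mul_mem (mul_mem (inv_mem hg) ht) (h8 b hb hbx).1
      · simp only [pow_succ, pow_zero, one_mul]
        group
  have hmul : ∀ m n, inM m → inM n → inM (m * n) := by
    rintro m n (hm | ⟨a, ha, b, hb, rfl⟩) (hn | ⟨c, hc, d, hd, rfl⟩)
    · exact Or.inl (mul_mem hm hn)
    · exact Or.inr ⟨m * c, mul_mem hm hc, d, hd, by group⟩
    · exact Or.inr ⟨a, ha, b * n, mul_mem hb hn, by group⟩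
    · rcases hswap (b * c) (mul_mem hb hc) with hbc | ⟨p, hp, q, hq, hbc⟩
      · refine Or.inl ?_
        rw [show a * h * b * (c * h * d) = a * (h * (b * c) * h) * d by group]
        exact mul_mem (mul_mem ha hbc) hd
      · refine Or.inr ⟨a * p, mul_mem ha hp, q * d, mul_mem hq hd, ?_⟩
        rw [show a * h * b * (c * h * d) = a * (h * (b * c) * h) * d by group, hbc]
        group
  have hinv : ∀ m, inM m → inM m⁻¹ := by
    rintro m (hm | ⟨a, ha, b, hb, rfl⟩)
    · exact Or.inl (inv_mem hm)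
    · refine Or.inr ⟨b⁻¹, inv_mem hb, (h ^ 2)⁻¹ * a⁻¹, mul_mem ht (inv_mem ha), ?_⟩
      simp only [pow_succ, pow_zero, one_mul]
      group
  have hsub : ∀ m ∈ Subgroup.closure ((G : Set (Equiv.Perm (Option X))) ∪ {h}), inM m := by
    intro m hm
    induction hm using Subgroup.closure_induction with
    | mem z hz =>
      rcases hz with hz | rfl
      · exact Or.inl hz
      · exact Or.inr ⟨1, one_mem _, 1, one_mem _, by group⟩
    | one => exact Or.inl (one_mem _)
    | mul z w _ _ hz hw => exact hmul z w hz hw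
    | inv z _ hz => exact hinv z hz
  refine ⟨fun f hf => ⟨fun hfn => ?_, fun hfG => hfix f hfG⟩, ?_⟩
  · rcases hsub f hf with hfG | ⟨a, ha, b, hb, rfl⟩
    · exact hfG
    · exfalso
      rw [Equiv.Perm.mul_apply, Equiv.Perm.mul_apply, hfix b hb, h1] at hfn
      exact hne a ha x hfn
  · set K := Subgroup.closure ((G : Set (Equiv.Perm (Option X))) ∪ {h})
    have hGK : G ≤ K := fun f hf => Subgroup.subset_closure (Or.inl hf)
    have hhK : h ∈ K := Subgroup.subset_closure (Or.inr rfl)
    have hnone : ∀ o : Option X, ∃ m ∈ K, m o = none := by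
      rintro (_ | p)
      · exact ⟨1, one_mem _, rfl⟩
      · obtain ⟨f, hf, hfp⟩ := hone p
        refine ⟨h * f⁻¹, mul_mem hhK (inv_mem (hGK hf)), ?_⟩
        rw [Equiv.Perm.mul_apply, show f⁻¹ (some p) = some x from
          Equiv.Perm.inv_eq_iff_eq.2 hfp.symm, h2]
    constructor
    intro A B
    obtain ⟨m, hm, hmA⟩ := hnone (A 0)
    obtain ⟨n, hn, hnB⟩ := hnone (B 0)
    have lift : ∀ (u : Equiv.Perm (Option X)) (C : Fin (k + 1) ↪ Option X), u (C 0) = none →
        ∃ c : Fin k ↪ X, ∀ i, u (C i.succ) = some (c i) := by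
      intro u C hu
      have hsome : ∀ i : Fin k, ∃ z, u (C i.succ) = some z := fun i =>
        Option.ne_none_iff_exists'.1 fun hc =>
          Fin.succ_ne_zero i (C.injective (u.injective (hc.trans hu.symm)))
      choose c hc using hsome
      exact ⟨⟨c, fun i j hij => Fin.succ_injective _ (C.injective (u.injective
        (by rw [hc, hc, hij])))⟩, hc⟩
    obtain ⟨a, ha⟩ := lift m A hmA
    obtain ⟨b, hb⟩ := lift n B hnB
    obtain ⟨f, hf, hfab⟩ := htrans a b
    refine ⟨⟨n⁻¹ * f * m, mul_mem (mul_mem (inv_mem hn) (hGK hf)) hm⟩, ?_⟩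
    refine DFunLike.ext _ _ fun i => ?_
    change (n⁻¹ * f * m) (A i) = B i
    rw [Equiv.Perm.mul_apply, Equiv.Perm.mul_apply, Equiv.Perm.inv_eq_iff_eq]
    induction i using Fin.cases with
    | zero => rw [hmA, hfix f hf, hnB]
    | succ i => rw [ha, hfab, hb]


end Cfsg.Agent.S4301
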