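import Cfsg.Statements.S4302
import Cfsg.Agent.Lib.OffendersLarge
import Cfsg.Agent.Lib.HallSolvable
import Cfsg.Agent.Lib.StableClosure

set_option autoImplicit false
open Cfsg

namespace Cfsg.Agent.S4302

/-- Let `X` be a finite solvable group whose Fitting subgroup is a 2-group (equivalently `F(X) = O₂(X)`), `T` a Sylow 2-subgroup of `X`, `J(T)` the subgroup generated by the abelian subgroups of `T` of largest order, `C` the largest normal subgroup of `X` centralizing the centre `Z(T)`, and `Y` the normal closure of `J(T)` in `X`. Then `X = C · Y · N_X(J(T))`, and either `Y ≤ C`, or `CY/C` is isomorphic to a direct product of at least one copy of the symmetric group of degree 3. -/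
theorem result {X : Type*} [Group X] [Finite X]
    [Group.IsSolvable X] (hF : Cfsg.fittingSubgroup X = Cfsg.pCore 2 X) (T : Sylow 2 X) :
    ((Subgroup.centralizer (((T : Subgroup X) ⊓ Subgroup.centralizer ((T : Subgroup X) : Set X) : Subgroup X) : Set X)).normalCore
        ⊔ Subgroup.normalClosure (Cfsg.thompsonSubgroupAOf (T : Subgroup X) : Set X)
        ⊔ Subgroup.normalizer (Cfsg.thompsonSubgroupAOf (T : Subgroup X) : Set X) = ⊤) ∧
    (Subgroup.normalClosure (Cfsg.thompsonSubgroupAOf (T : Subgroup X) : Set X)
        ≤ (Subgroup.centralizer (((T : Subgroup X) ⊓ Subgroup.centralizer ((T : Subgroup X) : Set X) : Subgroup X) : Set X)).normalCore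
      ∨ ∃ n : ℕ, 1 ≤ n ∧
        Nonempty (↥(Subgroup.normalClosure (Cfsg.thompsonSubgroupAOf (T : Subgroup X) : Set X)) ⧸
            ((Subgroup.centralizer (((T : Subgroup X) ⊓ Subgroup.centralizer ((T : Subgroup X) : Set X) : Subgroup X) : Set X)).normalCore).subgroupOf
              (Subgroup.normalClosure (Cfsg.thompsonSubgroupAOf (T : Subgroup X) : Set X))
          ≃* (Fin n → Equiv.Perm (Fin 3)))) := by
  have : Fact (Nat.Prime 2) := ⟨Nat.prime_two⟩
  set Z := (T : Subgroup X) ⊓ Subgroup.centralizer ((T : Subgroup X) : Set X) with hZ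
  set C := (Subgroup.centralizer (Z : Set X)).normalCore with hC
  set Y := Subgroup.normalClosure (thompsonSubgroupAOf (T : Subgroup X) : Set X) with hY
  have := OffendersCore.pCore_normal' 2 X
  have hO : Subgroup.centralizer (pCore 2 X : Set X) ≤ pCore 2 X :=
    hF ▸ HallSolvable.centralizer_fitting_le
  set V := Subgroup.normalClosure (Z : Set X) with hV
  have hVle : V ≤ pCore 2 X ⊓ Subgroup.centralizer (pCore 2 X : Set X) := by
    have h1 : Z ≤ Subgroup.centralizer (pCore 2 X : Set X) :=
      inf_le_right.trans (Subgroup.centralizer_le fun x hx => OffendersCore.pCore_le_sylow T hx)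
    exact Subgroup.normalClosure_le_normal (le_inf (h1.trans hO) h1)
  have hVp : IsPGroup 2 V := OffendersCore.isPGroup_pCore.to_le (hVle.trans inf_le_left)
  have hVc : ∀ v ∈ V, ∀ w ∈ V, v * w = w * v :=
    fun v hv w hw => ((hVle hv).2 w (hVle hw).1).symm
  have hCV : Subgroup.centralizer (V : Set X) = C := by
    refine le_antisymm (Subgroup.normal_le_normalCore.2
      (Subgroup.centralizer_le Subgroup.subset_normalClosure)) ?_
    rw [Subgroup.le_centralizer_iff]
    refine Subgroup.normalClosure_le_normal ?_
    show Z ≤ Subgroup.centralizer (C : Set X)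
    rw [Subgroup.le_centralizer_iff]
    exact Subgroup.normalCore_le _
  have red : ∀ (K D : Subgroup X) [K.Normal], K = C → D.Normal →
      IsPGroup 2 ↥(D.map (QuotientGroup.mk' K)) → D ≤ K := by
    intro K D _ e hD hDp
    subst e
    refine Subgroup.normal_le_normalCore.2
      ((OffendersCore.le_sylow_sup hDp T).trans (sup_le ?_ (Subgroup.normalCore_le _)))
    rw [Subgroup.le_centralizer_iff]
    exact inf_le_right
  set W := omegaOne 2 V with hW
  have hWn : W.Normal := by
    refine ⟨fun x hx g => ?_⟩
    have h1 : W.map (MulAut.conj g).toMonoidHom ≤ W := by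
      rw [hW, Offenders.omegaOne_map (MulAut.conj g).injective]
      refine Offenders.omegaOne_mono ?_
      rintro _ ⟨u, hu, rfl⟩
      exact (inferInstance : V.Normal).conj_mem u hu g
    exact h1 ⟨x, hx, rfl⟩
  have hWe : IsElementaryAbelian 2 W := Offenders.omegaOne_ea hVc
  have hCW : Subgroup.centralizer (W : Set X) = C := by
    refine le_antisymm (red C _ rfl inferInstance ?_)
      (hCV.symm.le.trans (Subgroup.centralizer_le fun x hx => Offenders.omegaOne_le V hx))
    rintro ⟨_, x, hx, rfl⟩
    obtain ⟨k, m, hm, hkm⟩ := Nat.exists_eq_pow_mul_and_not_dvd (orderOf_pos x).ne' 2 (by norm_num)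
    refine ⟨k, Subtype.ext ?_⟩
    rw [SubmonoidClass.coe_pow, ← map_pow]
    refine (QuotientGroup.eq_one_iff _).2 ?_
    rw [← hCV]
    have hodd : Odd (orderOf (x ^ 2 ^ k)) := by
      rw [orderOf_pow_of_dvd (by positivity) ⟨m, hkm⟩, hkm, Nat.mul_div_cancel_left _ (by positivity)]
      exact Nat.not_even_iff_odd.1 fun e => hm e.two_dvd
    intro v hv
    exact (OffendersLarge.commute_of_omega hVp hVc hodd
      (fun u hu => (inferInstance : V.Normal).conj_mem u hu _)
      (fun u hu hu2 =>
        ((pow_mem hx (2 ^ k) : x ^ 2 ^ k ∈ Subgroup.centralizer (W : Set X)) u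
          (Offenders.mem_omegaOne hu hu2)).symm) v hv).symm
  have hYe := OffendersLarge.normalClosure_thompsonA T
  rw [← hY] at hYe
  refine ⟨?_, ?_⟩
  · rw [eq_top_iff, ← StableClosure.sup_normalizer_inf T (C ⊔ Y)]
    refine sup_le_sup_left (fun n hn => ?_) _
    have hle : (thompsonSubgroupAOf (T : Subgroup X)).map (MulAut.conj n).toMonoidHom ≤
        thompsonSubgroupAOf (T : Subgroup X) := by
      conv_lhs => rw [OffendersLarge.thompsonA_eq T, Subgroup.map_iSup]
      refine iSup_le fun A => ?_
      refine OffendersLarge.large_le_thompsonA T (A.2.1.conj n) ?_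
      rintro _ ⟨a, ha, rfl⟩
      have haD : a ∈ (T : Subgroup X) ⊓ (C ⊔ Y) := ⟨A.2.2 ha, Subgroup.mem_sup_right
        (Subgroup.subset_normalClosure (OffendersLarge.large_le_thompsonA T A.2.1 A.2.2 ha))⟩
      exact ((Subgroup.mem_normalizer_iff.1 hn a).1 haD).1
    rw [Subgroup.mem_normalizer_iff_map_conj_eq]
    exact Subgroup.eq_of_le_of_card_ge hle
      (Subgroup.card_map_of_injective (MulAut.conj n).injective).ge
  · by_cases hYC : Y ≤ C
    · exact Or.inl hYC
    right
    have hN : ∀ A : Subgroup X, A ≤ Subgroup.normalizer (W : Set X) := fun A => by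
      rw [Subgroup.normalizer_eq_top W]; exact le_top
    have hyp : OffendersFF.Hyp 2 (OffendersGlobal.vImg W) (OffendersGlobal.img W Y) :=
      OffendersGlobal.hyp_img W hWe (HallSolvable.isPSolvable_of_solvable 2) (hN Y)
        (OffendersGlobal.pCore_img W fun D hD hDp =>
          red _ D hCW hD hDp)
    have hne : OffendersGlobal.img W Y ≠ ⊥ := fun e => by
      rw [OffendersGlobal.img_eq_bot W (hN Y), hCW] at e
      exact hYC e
    have hA : ∀ A : {A : Subgroup X // OffendersLarge.Large A},
        OffendersGlobal.img W (A : Subgroup X) ≤ OffendersGlobal.img W Y ∧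
          IsBestOffenderOn 2 (OffendersGlobal.vImg W) (OffendersGlobal.img W (A : Subgroup X)) := by
      intro A
      have hle : OffendersGlobal.img W (A : Subgroup X) ≤ OffendersGlobal.img W Y :=
        OffendersGlobal.img_mono W (hYe ▸ le_iSup
          (fun A : {A : Subgroup X // OffendersLarge.Large A} => (A : Subgroup X)) A)
      have hc : ∀ a ∈ OffendersGlobal.img W (A : Subgroup X),
          ∀ b ∈ OffendersGlobal.img W (A : Subgroup X), a * b = b * a := by
        rw [OffendersGlobal.img_eq_map]
        exact OffendersLarge.comm_map _ A.2.comm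
      have hm := OffendersLarge.maximizes_img W (hN _) (A.2.maximizes hWe)
      have hp : IsPGroup 2 (OffendersGlobal.img W (A : Subgroup X)) := by
        rw [OffendersGlobal.img_eq_map]
        exact A.2.pgroup.map _
      refine ⟨hle, hm, ?_, fun a ha => ?_⟩
      · rw [Subgroup.commutator_le]
        intro a ha b hb
        rw [commutatorElement_eq_one_iff_mul_comm.2 (hc a ha b hb)]
        exact one_mem _
      · rw [OffendersAbelian.sq_eq_one hyp hle hc hp hm a ha]
        exact one_mem _
    have hgen : OffendersGlobal.img W Y = ⨆ B : {B : Subgroup (OffendersGlobal.Amb W) //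
        B ≤ OffendersGlobal.img W Y ∧ IsBestOffenderOn 2 (OffendersGlobal.vImg W) B},
        (B : Subgroup (OffendersGlobal.Amb W)) := by
      refine le_antisymm ?_ (iSup_le fun B => B.2.1)
      conv_lhs => rw [hYe, OffendersGlobal.img_iSup W _ fun A => hN _]
      exact iSup_le fun A => le_iSup (fun B : {B : Subgroup (OffendersGlobal.Amb W) //
        B ≤ OffendersGlobal.img W Y ∧ IsBestOffenderOn 2 (OffendersGlobal.vImg W) B} =>
        (B : Subgroup (OffendersGlobal.Amb W))) ⟨_, hA A⟩
    obtain ⟨n, hn, ⟨e⟩⟩ := OffendersLarge.exists_pi_equiv hyp hne hgen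
    refine ⟨n, hn, ⟨?_⟩⟩
    let f := (OffendersGlobal.fTop W).subgroupMap Y
    have hker : C.subgroupOf Y = f.ker := by
      ext y
      rw [Subgroup.mem_subgroupOf, MonoidHom.mem_ker, ← hCW, ← OffendersGlobal.fTop_ker W,
        MonoidHom.mem_ker]
      exact ⟨fun h => Subtype.ext h, fun h => congrArg Subtype.val h⟩
    exact ((QuotientGroup.quotientMulEquivOfEq hker).trans
      (QuotientGroup.quotientKerEquivOfSurjective f
        (MonoidHom.subgroupMap_surjective _ _))).trans
      ((MulEquiv.subgroupCongr (OffendersGlobal.img_eq_map W Y).symm).trans e)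

end Cfsg.Agent.S4302
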