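import Cfsg.Statements.S4304
-- import your own Cfsg.Agent.* helpers here
import Cfsg.Agent.Lib.SylowPerm
import Cfsg.Agent.Lib.SylowCount

set_option autoImplicit false
open Cfsg

namespace Cfsg.Agent.S4304

open Pointwise Equiv Cfsg.Agent

/-- In a group, a cyclic `q`-subgroup normalized by `g` of order prime to `|Aut|` is centralized by it. -/
theorem commute_of_coprime_aut {K : Type*} [Group K] [Finite K] {R : Subgroup K} (hR : IsCyclic R) (g : K)
    (hg : g ∈ Subgroup.normalizer (R : Set K)) (hcop : (orderOf g).Coprime (Nat.card R).totient) :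
    g ∈ Subgroup.centralizer (R : Set K) := by
  haveI := hR
  have h1 : orderOf (R.normalizerMonoidHom ⟨g, hg⟩) ∣ (Nat.card R).totient := by
    rw [← IsCyclic.card_mulAut R]; exact orderOf_dvd_natCard _
  have h2 : orderOf (R.normalizerMonoidHom ⟨g, hg⟩) ∣ orderOf g := by
    refine (orderOf_map_dvd _ _).trans ?_
    rw [Subgroup.orderOf_mk]
  have h3 : R.normalizerMonoidHom ⟨g, hg⟩ = 1 := orderOf_eq_one_iff.mp (Nat.eq_one_of_dvd_coprimes hcop h2 h1)
  have : (⟨g, hg⟩ : Subgroup.normalizer (R : Set K)) ∈ R.normalizerMonoidHom.ker := h3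
  rw [Subgroup.normalizerMonoidHom_ker] at this
  exact this

theorem no_315 {K : Type*} [Group K] [Finite K] (c : K) (hc : orderOf c = 7)
    (hcard : Nat.card K = 105 ∨ Nat.card K = 315) (hcen : ∀ y : K, y * c = c * y → y ∈ Subgroup.zpowers c)
    (hn : Nat.card (Sylow 7 K) ≠ 1) : False := by
  haveI : Fact (Nat.Prime 5) := ⟨by norm_num⟩
  haveI : Fact (Nat.Prime 7) := ⟨by norm_num⟩
  obtain ⟨P⟩ : Nonempty (Sylow 5 K) := inferInstance
  have hP : Nat.card P = 5 := by
    rw [P.card_eq_multiplicity]
    rcases hcard with h | h <;> rw [h]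
    · rw [show (105 : ℕ) = 5 * 21 by norm_num, Nat.factorization_mul (by norm_num) (by norm_num)]
      simp [Nat.Prime.factorization (show Nat.Prime 5 by norm_num), Nat.factorization_eq_zero_of_not_dvd (show ¬ 5 ∣ 21 by norm_num)]
    · rw [show (315 : ℕ) = 5 * 63 by norm_num, Nat.factorization_mul (by norm_num) (by norm_num)]
      simp [Nat.Prime.factorization (show Nat.Prime 5 by norm_num), Nat.factorization_eq_zero_of_not_dvd (show ¬ 5 ∣ 63 by norm_num)]
  have hcyc : IsCyclic (P : Subgroup K) := isCyclic_of_prime_card hP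
  have hmul := (P : Subgroup K).card_mul_index
  rw [hP] at hmul
  have hn5 := P.card_dvd_index
  have hmod : Nat.card (Sylow 5 K) % 5 = 1 := by
    have := card_sylow_modEq_one 5 K; exact this
  have hidx : (P : Subgroup K).index = 21 ∨ (P : Subgroup K).index = 63 := by omega
  have h21 : Nat.card (Sylow 5 K) = 1 ∨ Nat.card (Sylow 5 K) = 21 := by
    have hle : Nat.card (Sylow 5 K) ≤ 63 := Nat.le_of_dvd (by norm_num) (by
      rcases hidx with h | h <;> rw [h] at hn5
      · exact hn5.trans (by norm_num)
      · exact hn5)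
    have hd : Nat.card (Sylow 5 K) ∣ 63 := by
      rcases hidx with h | h <;> rw [h] at hn5
      · exact hn5.trans (by norm_num)
      · exact hn5
    revert hmod hd
    generalize Nat.card (Sylow 5 K) = n at hle ⊢
    interval_cases n <;> omega
  rcases h21 with h | h
  · have hnt : Subgroup.normalizer ((P : Subgroup K) : Set K) = ⊤ := by
      rw [← Subgroup.index_eq_one, ← h, P.card_eq_index_normalizer]; rfl
    have hcP := commute_of_coprime_aut hcyc c (hnt ▸ Subgroup.mem_top c) (by rw [hc, hP]; decide)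
    have : Nat.card (P : Subgroup K) ∣ Nat.card (Subgroup.zpowers c) := Subgroup.card_dvd_of_le
      (fun r hr => hcen r (Subgroup.mem_centralizer_iff.mp hcP r hr))
    rw [hP, Nat.card_zpowers, hc] at this
    norm_num at this
  · have hN := (Subgroup.normalizer ((P : Subgroup K) : Set K)).card_mul_index
    have hidxN : (Subgroup.normalizer ((P : Subgroup K) : Set K)).index = 21 := by
      rw [← h, P.card_eq_index_normalizer]; rfl
    rw [hidxN] at hN
    have hle : Subgroup.normalizer ((P : Subgroup K) : Set K) ≤ Subgroup.centralizer ((P : Subgroup K) : Set K) := by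
      intro g hg
      refine commute_of_coprime_aut hcyc g hg (Nat.Coprime.coprime_dvd_left (Subgroup.orderOf_dvd_natCard _ hg) ?_)
      rw [hP]
      rcases hcard with hh | hh <;> rw [hh] at hN
      · rw [show Nat.card (Subgroup.normalizer ((P : Subgroup K) : Set K)) = 5 by omega]; decide
      · rw [show Nat.card (Subgroup.normalizer ((P : Subgroup K) : Set K)) = 15 by omega]; decide
    set L := (MonoidHom.transferSylow P hle).ker with hL
    have hcompl := MonoidHom.ker_transferSylow_isComplement' P hle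
    have hLi : L.index = 5 := by rw [hcompl.symm.index_eq_card]; exact hP
    have h7 : ¬ 7 ∣ L.index := by rw [hLi]; norm_num
    rw [← SylowCount.card_sylow_normal L h7] at hn
    obtain ⟨Q⟩ : Nonempty (Sylow 7 L) := inferInstance
    have hLc := L.card_mul_index
    rw [hLi] at hLc
    have hd := Q.card_dvd_index
    have hm : Nat.card (Sylow 7 L) % 7 = 1 := card_sylow_modEq_one 7 L
    have hQ : 7 ∣ Nat.card Q := Q.dvd_card_of_dvd_card (by omega)
    have hQm := (Q : Subgroup L).card_mul_index
    obtain ⟨t, ht⟩ := hQ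
    rw [ht] at hQm
    have hd63 : Nat.card (Sylow 7 L) ∣ 9 := by
      refine hd.trans ⟨9 / (Q : Subgroup L).index, ?_⟩
      have : t * (Q : Subgroup L).index = 3 ∨ t * (Q : Subgroup L).index = 9 := by
        have e : 7 * (t * (Q : Subgroup L).index) = Nat.card L := by rw [← hQm]; ring
        omega
      rw [Nat.mul_div_cancel']
      rcases this with e | e
      · exact (Dvd.intro_left t e).trans (by norm_num)
      · exact Dvd.intro_left t e
    have hle9 := Nat.le_of_dvd (by norm_num) hd63
    revert hn hm hd63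
    generalize Nat.card (Sylow 7 L) = n at hle9 ⊢
    interval_cases n <;> omega

theorem no_630 {K : Type*} [Group K] [Finite K] (c : K) (hc : orderOf c = 7) (e : ℕ) (he : e ∣ 6)
    (hcard : Nat.card K = 105 * e) (hcen : ∀ y : K, y * c = c * y → y ∈ Subgroup.zpowers c)
    (hn : Nat.card (Sylow 7 K) ≠ 1) : False := by
  have hel : e ≤ 6 := Nat.le_of_dvd (by norm_num) he
  haveI : Fact (Nat.Prime 2) := ⟨Nat.prime_two⟩
  haveI : Fact (Nat.Prime 7) := ⟨by norm_num⟩
  by_cases h : e = 1 ∨ e = 3
  · exact no_315 c hc (by omega) hcen hn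
  have he26 : e = 2 ∨ e = 6 := by
    interval_cases e <;> simp_all (config := { decide := true })
  obtain ⟨P⟩ : Nonempty (Sylow 2 K) := inferInstance
  have hmin : (Nat.card K).minFac = 2 := by
    rw [Nat.minFac_eq_two_iff]; omega
  have hP : Nat.card P = 2 := by
    rw [P.card_eq_multiplicity, hcard]
    rcases he26 with rfl | rfl
    · rw [show 105 * 2 = 2 * 105 by norm_num, Nat.factorization_mul (by norm_num) (by norm_num)]
      simp [Nat.Prime.factorization Nat.prime_two, Nat.factorization_eq_zero_of_not_dvd (show ¬ 2 ∣ 105 by norm_num)]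
    · rw [show 105 * 6 = 2 * 315 by norm_num, Nat.factorization_mul (by norm_num) (by norm_num)]
      simp [Nat.Prime.factorization Nat.prime_two, Nat.factorization_eq_zero_of_not_dvd (show ¬ 2 ∣ 315 by norm_num)]
  have hcyc : IsCyclic (P : Subgroup K) := isCyclic_of_prime_card hP
  set L := (MonoidHom.transferSylow P (IsCyclic.normalizer_le_centralizer hmin hcyc)).ker
  have hLi : L.index = 2 := by rw [(IsCyclic.isComplement' hmin hcyc).symm.index_eq_card]; exact hP
  have hcL : c ∈ L := by
    rw [← QuotientGroup.eq_one_iff]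
    refine orderOf_eq_one_iff.mp (Nat.eq_one_of_dvd_coprimes (show Nat.Coprime 7 2 by norm_num) ?_ ?_)
    · exact hc ▸ orderOf_map_dvd (QuotientGroup.mk' L) c
    · have h0 : orderOf (QuotientGroup.mk' L c) ∣ L.index := by
        rw [Subgroup.index_eq_card]; exact orderOf_dvd_natCard _
      rwa [hLi] at h0
  have hLc := L.card_mul_index
  rw [hLi] at hLc
  refine no_315 (⟨c, hcL⟩ : L) (by rw [Subgroup.orderOf_mk, hc]) (by omega) (fun y hy => ?_) (by
    rwa [SylowCount.card_sylow_normal L (by rw [hLi]; norm_num)])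
  obtain ⟨i, hi⟩ := Subgroup.mem_zpowers_iff.mp (hcen y (congrArg Subtype.val hy))
  exact Subgroup.mem_zpowers_iff.mpr ⟨i, Subtype.ext hi⟩

variable {Ω : Type*} [Fintype Ω] [DecidableEq Ω]

/-- A permutation of prime order commuting with a product of two 7-cycles on 15 points is odd, or a power. -/
theorem odd_of_commute (c t : Perm Ω) (x : Ω) (hΩ : Fintype.card Ω = 15) (hc : c ^ 7 = 1)
    (hfix : ∀ y, c y = y ↔ y = x) {q : ℕ} (hq : q.Prime) (hq7 : q ≠ 7) (ht : orderOf t = q) (hcomm : t * c = c * t) :
    Perm.sign t = -1 := by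
  have hct : ∀ i y, t ((c ^ i) y) = (c ^ i) (t y) := fun i y => by
    rw [← Perm.mul_apply, ← Perm.mul_apply, ((show Commute t c from hcomm).pow_right i).eq]
  have hx : t x = x := (hfix _).mp (by rw [← Perm.mul_apply, ← hcomm, Perm.mul_apply, (hfix x).mpr rfl])
  let f : Ω → Fin 7 → Ω := fun y i => (c ^ (i : ℕ)) y
  have hinj : ∀ y, y ≠ x → Function.Injective (f y) := by
    intro y hy i j hij
    by_contra hne
    have key : ∀ a b : ℕ, a < b → b < 7 → (c ^ a) y ≠ (c ^ b) y := by
      intro a b hab hb e
      have h1 : (c ^ (b - a)) y = y := by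
        apply (c ^ a).injective
        rw [← Perm.mul_apply, ← pow_add, show a + (b - a) = b by omega, e]
      obtain ⟨m, hm⟩ := exists_pow_eq_self_of_coprime (x := c) (n := b - a) (by
        have : orderOf c ∣ 7 := orderOf_dvd_of_pow_eq_one hc
        refine Nat.Coprime.coprime_dvd_right this (Nat.Coprime.symm ((Nat.Prime.coprime_iff_not_dvd (by norm_num)).mpr ?_))
        exact Nat.not_dvd_of_pos_of_lt (by omega) (by omega))
      apply hy
      rw [← hfix, ← hm]
      exact Perm.pow_apply_eq_self_of_apply_eq_self h1 m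
    rcases lt_or_gt_of_ne (fun h => hne (Fin.ext h)) with h | h
    · exact key _ _ h j.2 hij
    · exact key _ _ h i.2 hij.symm
  let O : Ω → Finset Ω := fun y => Finset.univ.image (f y)
  have hO : ∀ y, y ≠ x → (O y).card = 7 := fun y hy => by
    simp [O, Finset.card_image_of_injective _ (hinj y hy)]
  have hOx : ∀ y, y ≠ x → x ∉ O y := by
    intro y hy h
    obtain ⟨i, -, hi⟩ := Finset.mem_image.mp h
    refine hy ((c ^ (i : ℕ)).injective (hi.trans ?_))
    exact (Perm.pow_apply_eq_self_of_apply_eq_self ((hfix x).mpr rfl) _).symm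
  have hpow : ∀ y (m : ℕ), (c ^ m) y ∈ O y := fun y m =>
    Finset.mem_image.mpr ⟨⟨m % 7, Nat.mod_lt _ (by norm_num)⟩, Finset.mem_univ _, by
      show (c ^ (m % 7)) y = _
      rw [← pow_eq_pow_mod m hc]⟩
  have hin : ∀ y, t y ∈ O y → t y = y := by
    intro y hy
    obtain ⟨i, -, hi⟩ := Finset.mem_image.mp hy
    change (c ^ (i : ℕ)) y = t y at hi
    have h1 : ∀ m : ℕ, (t ^ m) y = (c ^ ((i : ℕ) * m)) y := by
      intro m
      induction m with
      | zero => simp
      | succ m ih => rw [pow_succ', Perm.mul_apply, ih, hct, ← hi, ← Perm.mul_apply, ← pow_add]; rfl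
    by_cases hyx : y = x
    · subst hyx; exact hx
    have h2 := h1 q
    rw [← ht, pow_orderOf_eq_one, Perm.one_apply] at h2
    have h3 : f y ⟨((i : ℕ) * q) % 7, Nat.mod_lt _ (by norm_num)⟩ = f y 0 := by
      show (c ^ (((i : ℕ) * q) % 7)) y = (c ^ 0) y
      rw [← pow_eq_pow_mod _ hc, ← ht, pow_zero, Perm.one_apply]
      exact h2.symm
    have h4 : ((i : ℕ) * q) % 7 = 0 := congrArg Fin.val (hinj y hyx h3)
    have h5 : 7 ∣ (i : ℕ) := ((Nat.Prime.dvd_mul (by norm_num)).mp (Nat.dvd_of_mod_eq_zero h4)).resolve_right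
      (fun h => hq7 ((Nat.prime_dvd_prime_iff_eq (by norm_num) hq).mp h).symm)
    have h6 : (i : ℕ) = 0 := Nat.eq_zero_of_dvd_of_lt h5 i.2
    rw [h6, pow_zero] at hi
    exact hi.symm
  have hdisj : ∀ y z, z ∉ O y → Disjoint (O y) (O z) := by
    intro y z hz
    rw [Finset.disjoint_left]
    intro w hwy hwz
    obtain ⟨i, -, rfl⟩ := Finset.mem_image.mp hwy
    obtain ⟨j, -, hj⟩ := Finset.mem_image.mp hwz
    apply hz
    have : z = (c ^ ((7 - (j : ℕ)) + (i : ℕ))) y := by
      rw [pow_add, Perm.mul_apply]
      change z = (c ^ (7 - (j : ℕ))) (f y i)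
      rw [← hj]
      change z = (c ^ (7 - (j : ℕ))) ((c ^ (j : ℕ)) z)
      rw [← Perm.mul_apply, ← pow_add, show 7 - (j : ℕ) + j = 7 by omega, hc, Perm.one_apply]
    rw [this]; exact hpow y _
  -- outside the orbit and its image there is only `x`
  have hall : ∀ y, y ≠ x → t y ≠ y → ∀ z, z ≠ x → z ∈ O y ∨ z ∈ O (t y) := by
    intro y hy hty z hz
    by_contra h
    push Not at h
    have hty' : t y ≠ x := fun e => hy (t.injective (e.trans hx.symm))
    have d1 := hdisj y (t y) (fun h => hty (hin y h))
    have d2 := hdisj y z h.1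
    have d3 := hdisj (t y) z h.2
    have hsub : O y ∪ O (t y) ∪ O z ⊆ Finset.univ.erase x := by
      intro w hw
      rw [Finset.mem_erase]
      refine ⟨?_, Finset.mem_univ _⟩
      rintro rfl
      simp only [Finset.mem_union] at hw
      rcases hw with (hw | hw) | hw
      · exact hOx y hy hw
      · exact hOx (t y) hty' hw
      · exact hOx z hz hw
    have h1 := Finset.card_le_card hsub
    rw [Finset.card_union_of_disjoint (Finset.disjoint_union_left.mpr ⟨d2, d3⟩), Finset.card_union_of_disjoint d1,
      hO y hy, hO _ hty', hO z hz, Finset.card_erase_of_mem (Finset.mem_univ _), Finset.card_univ, hΩ] at h1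
    omega
  obtain ⟨y, hty⟩ : ∃ y, t y ≠ y := by
    by_contra h
    push Not at h
    have : t = 1 := Equiv.ext h
    rw [this, orderOf_one] at ht
    exact hq.ne_one ht.symm
  have hy : y ≠ x := fun e => hty (e ▸ hx)
  have hty' : t y ≠ x := fun e => hy (t.injective (e.trans hx.symm))
  have hmoved : ∀ z, t z = z ↔ z = x := by
    refine fun z => ⟨fun hz => ?_, fun h => h ▸ hx⟩
    by_contra hzx
    rcases hall y hy hty z hzx with h | h
    · obtain ⟨i, -, rfl⟩ := Finset.mem_image.mp h
      exact hty ((c ^ (i : ℕ)).injective ((hct _ _).symm.trans hz))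
    · obtain ⟨i, -, rfl⟩ := Finset.mem_image.mp h
      exact hty (t.injective ((c ^ (i : ℕ)).injective ((hct _ _).symm.trans hz)))
  have hone : ∀ z, z ≠ x → t z ≠ x := fun z hz e => hz (t.injective (e.trans hx.symm))
  have hsq : t ^ 2 = 1 := by
    ext z
    by_cases hz : z = x
    · subst hz; simp [pow_two, hx]
    have h1 : t (t z) ∈ O z := by
      have htz : t z ≠ z := fun e => hz ((hmoved z).mp e)
      have htz' := hone z hz
      rcases hall z hz htz (t (t z)) (hone _ htz') with h | h
      · exact h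
      · exact absurd (hin (t z) h) (fun e => htz' ((hmoved _).mp e))
    obtain ⟨i, -, hi⟩ := Finset.mem_image.mp h1
    change (c ^ (i : ℕ)) z = t (t z) at hi
    -- `t` squared fixes every orbit, so its order forces it to be trivial
    have h2 : ∀ m : ℕ, (t ^ (2 * m)) z = (c ^ ((i : ℕ) * m)) z := by
      intro m
      induction m with
      | zero => simp
      | succ m ih =>
        rw [show 2 * (m + 1) = 2 * m + 1 + 1 by ring, pow_succ', pow_succ', Perm.mul_apply, Perm.mul_apply, ih,
          hct, hct, ← hi, ← Perm.mul_apply, ← pow_add]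
        rfl
    have h3 := h2 q
    rw [show 2 * q = q * 2 by ring, pow_mul, ← ht, pow_orderOf_eq_one, one_pow, Perm.one_apply] at h3
    have h4 : ((i : ℕ) * q) % 7 = 0 := congrArg Fin.val (hinj z hz
      (show f z ⟨((i : ℕ) * q) % 7, Nat.mod_lt _ (by norm_num)⟩ = f z 0 by
        show (c ^ (((i : ℕ) * q) % 7)) z = (c ^ 0) z
        rw [← pow_eq_pow_mod _ hc, ← ht, pow_zero, Perm.one_apply]
        exact h3.symm))
    have h5 : 7 ∣ (i : ℕ) := ((Nat.Prime.dvd_mul (by norm_num)).mp (Nat.dvd_of_mod_eq_zero h4)).resolve_right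
      (fun h => hq7 ((Nat.prime_dvd_prime_iff_eq (by norm_num) hq).mp h).symm)
    have h6 : (i : ℕ) = 0 := Nat.eq_zero_of_dvd_of_lt h5 i.2
    rw [h6, pow_zero, Perm.one_apply] at hi
    rw [pow_two, Perm.mul_apply, ← hi, Perm.one_apply]
  have hfp : Fintype.card (Function.fixedPoints t) = 1 := by
    rw [Fintype.card_eq_one_iff]
    exact ⟨⟨x, hx⟩, fun z => Subtype.ext ((hmoved z.1).mp z.2)⟩
  rw [Perm.sign_of_pow_two_eq_one hsq, hfp, hΩ]
  rfl

theorem core (hΩ : Fintype.card Ω = 15) (H : Subgroup (Perm Ω)) [MulAction.IsPretransitive H Ω] (x : Ω)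
    [Fact (Nat.Prime 7)] (Q : Sylow 7 H) (hfix : ∀ y, (∀ q ∈ (Q : Subgroup H), q • y = y) ↔ y = x)
    (hnorm : ∀ g : H, g • x = x → g ∈ Subgroup.normalizer ((Q : Subgroup H) : Set H)) : False := by
  have hN : Nat.card Ω = 15 := by rw [Nat.card_eq_fintype_card, hΩ]
  haveI hprim : MulAction.IsPreprimitive H Ω := SylowPerm.isPreprimitive (Q : Subgroup H) Q.isPGroup' hfix
    (fun d hd hne => by
      rw [hN] at hd hne
      have := Nat.le_of_dvd (by norm_num) hd
      interval_cases d <;> simp_all)
  have horb : ∀ y, y ≠ x → Nat.card (MulAction.orbit (Q : Subgroup H) y) = 7 := by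
    intro y hy
    obtain ⟨k, hk⟩ := SylowPerm.card_orbit_eq Q.isPGroup' y (fun h => hy ((hfix y).mp h))
    have hle : Nat.card (MulAction.orbit (Q : Subgroup H) y) ≤ 15 := hN ▸ Finite.card_subtype_le _
    rcases k with _ | k
    · simpa using hk
    · rw [hk] at hle
      have : (7 : ℕ) ^ 2 ≤ 7 ^ (k + 1 + 1) := Nat.pow_le_pow_right (by norm_num) (by omega)
      omega
  obtain ⟨y, hy⟩ : ∃ y, y ≠ x := by
    by_contra h
    push Not at h
    have : Subsingleton Ω := ⟨fun a b => (h a).trans (h b).symm⟩
    have := Fintype.card_le_one_iff_subsingleton.mpr this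
    omega
  by_cases hbig : MulAction.stabilizer (Q : Subgroup H) y = ⊥
  swap
  · -- a 7-cycle forces a point stabilizer to be primitive on the other points
    set S := MulAction.stabilizer (Q : Subgroup H) y
    haveI : Nontrivial S := (Subgroup.nontrivial_iff_ne_bot _).mpr hbig
    obtain ⟨⟨g, hgS⟩, hgne⟩ := exists_ne (1 : S)
    have hgne' : g ≠ 1 := fun e => hgne (Subtype.ext e)
    have hSn : S.Normal := by
      apply Subgroup.normal_of_index_eq_minFac_card
      have h7 : S.index = 7 := by
        rw [MulAction.index_stabilizer, ← Nat.card_coe_set_eq, horb y hy]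
      rw [h7]
      obtain ⟨k, hk⟩ := Q.isPGroup'.exists_card_eq
      have : k ≠ 0 := by
        rintro rfl
        have := S.index_dvd_card
        rw [h7, hk] at this
        norm_num at this
      rw [hk, Nat.Prime.pow_minFac (by norm_num) this]
    set s := {z : Ω | g • z = z}
    have hsO : insert x (MulAction.orbit (Q : Subgroup H) y) ⊆ s := by
      rintro z (rfl | ⟨q, rfl⟩)
      · exact (hfix z).mpr rfl g g.2
      · have hm : q⁻¹ * g * q ∈ S := by simpa using hSn.conj_mem g hgS q⁻¹
        show g • q • y = q • y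
        conv_rhs => rw [← (MulAction.mem_stabilizer_iff.mp hm)]
        rw [← mul_smul, ← mul_smul]
        congr 1
        group
    have hs8 : 8 ≤ s.ncard := by
      refine le_trans ?_ (Set.ncard_le_ncard hsO)
      rw [Set.ncard_insert_of_notMem, ← Nat.card_coe_set_eq, horb y hy]
      rintro ⟨q, hq⟩
      apply hy
      have : q⁻¹ • (q • y) = q⁻¹ • x := congrArg (q⁻¹ • ·) hq
      rw [inv_smul_smul] at this
      rw [this]; exact (hfix x).mpr rfl _ (q⁻¹).2
    obtain ⟨z, hz⟩ : ∃ z, g • z ≠ z := by
      by_contra h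
      push Not at h
      exact hgne' (Subtype.ext (Subtype.ext (Equiv.ext h)))
    set R := Subgroup.zpowers ((g : H))
    have hR : IsPGroup 7 R := Q.isPGroup'.to_le (Subgroup.zpowers_le.mpr g.2)
    obtain ⟨k, hk⟩ := SylowPerm.card_orbit_eq hR z (fun h => hz (h _ (Subgroup.mem_zpowers _)))
    have hsub : MulAction.orbit R z ⊆ sᶜ := by
      rintro _ ⟨r, rfl⟩ (h : g • (r • z) = r • z)
      apply hz
      obtain ⟨m, hm⟩ := Subgroup.mem_zpowers_iff.mp r.2
      apply MulAction.injective (r : H)
      show (r : H) • ((g : H) • z) = (r : H) • z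
      rw [← mul_smul, ← hm, ← (Commute.self_zpow (g : H) m).eq, mul_smul, hm]
      exact h
    have hc7 : sᶜ.ncard ≤ 7 := by
      rw [Set.ncard_compl, hN]; omega
    have heq : MulAction.orbit R z = sᶜ := by
      refine Set.eq_of_subset_of_ncard_le hsub ?_ (Set.toFinite _)
      rw [← Nat.card_coe_set_eq (MulAction.orbit R z), hk]
      exact hc7.trans (Nat.le_self_pow (by omega) 7)
    have hs : s.ncard = 7 + 1 := by
      have h1 := Set.ncard_le_ncard hsub
      rw [← Nat.card_coe_set_eq, hk, Set.ncard_compl, hN] at h1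
      have h2 : 7 ≤ 7 ^ (k + 1) := Nat.le_self_pow (by omega) 7
      omega
    have hg : (g : H) ∈ fixingSubgroup H s := (mem_fixingSubgroup_iff _).mpr fun w hw => hw
    haveI : MulAction.IsPretransitive (fixingSubgroup H s) (SubMulAction.ofFixingSubgroup H s) := by
      refine ⟨fun a b => ?_⟩
      obtain ⟨r, hr⟩ : (a : Ω) ∈ MulAction.orbit R z := heq ▸ a.2
      obtain ⟨r', hr'⟩ : (b : Ω) ∈ MulAction.orbit R z := heq ▸ b.2
      refine ⟨⟨((r' : H) * (r : H)⁻¹), ?_⟩, Subtype.ext ?_⟩
      · exact mul_mem ((Subgroup.zpowers_le.mpr hg) r'.2) (inv_mem ((Subgroup.zpowers_le.mpr hg) r.2))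
      · show ((r' : H) * (r : H)⁻¹) • (a : Ω) = b
        rw [← hr, ← hr', mul_smul]
        exact congrArg ((r' : H) • ·) (inv_smul_smul (r : H) z)
    have hp7 : (Nat.card (SubMulAction.ofFixingSubgroup H s)).Prime := by
      change (Nat.card ↥(sᶜ : Set Ω)).Prime
      rw [Nat.card_coe_set_eq, Set.ncard_compl, hN, hs]
      norm_num
    have h2 := hprim.is_two_preprimitive hs (by omega) (MulAction.IsPreprimitive.of_prime_card hp7)
    have h1 : MulAction.IsPreprimitive (MulAction.stabilizer H x) (SubMulAction.ofStabilizer H x) :=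
      (MulAction.is_one_preprimitive_iff (M := MulAction.stabilizer H x) (α := SubMulAction.ofStabilizer H x)).mp ((MulAction.isMultiplyPreprimitive_succ_iff_ofStabilizer (M := H) (α := Ω) le_rfl).mp h2)
    haveI : ((Q : Subgroup H).subgroupOf (MulAction.stabilizer H x)).Normal :=
      Subgroup.normal_subgroupOf_of_le_normalizer (fun g hg => hnorm g hg)
    have hQx : ∀ q : (Q : Subgroup H), (q : H) ∈ MulAction.stabilizer H x := fun q => (hfix x).mpr rfl q q.2
    have htr := @MulAction.IsQuasiPreprimitive.isPretransitive_of_normal _ _ _ _ inferInstance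
      ((Q : Subgroup H).subgroupOf (MulAction.stabilizer H x)) inferInstance (by
        intro h
        refine hy ((hfix y).mp fun q hq => ?_)
        have := (Set.eq_univ_iff_forall.mp h (⟨y, hy⟩ : SubMulAction.ofStabilizer H x))
          ⟨⟨q, hQx ⟨q, hq⟩⟩, hq⟩
        exact congrArg Subtype.val this)
    have hbad : ∀ z, z ≠ x → z ∈ MulAction.orbit (Q : Subgroup H) y := by
      intro z hz
      obtain ⟨⟨⟨q, hqx⟩, hq⟩, hqz⟩ := htr.exists_smul_eq ⟨y, hy⟩ ⟨z, hz⟩
      exact ⟨⟨q, hq⟩, congrArg Subtype.val hqz⟩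
    have hle := Set.ncard_le_ncard (s := ({x}ᶜ : Set Ω)) (t := MulAction.orbit (Q : Subgroup H) y) hbad
    rw [Set.ncard_compl, hN, Set.ncard_singleton, ← Nat.card_coe_set_eq, horb y hy] at hle
    omega
  · -- the Sylow subgroup has order 7
    have hQ7 : Nat.card (Q : Subgroup H) = 7 := by
      rw [← Subgroup.card_mul_index (MulAction.stabilizer (Q : Subgroup H) y), MulAction.index_stabilizer,
        ← Nat.card_coe_set_eq, horb y hy, hbig, Subgroup.card_bot, one_mul]
    haveI := isCyclic_of_prime_card hQ7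
    obtain ⟨c, hc⟩ := IsCyclic.exists_generator (α := (Q : Subgroup H))
    have hcO : orderOf c = 7 := by rw [orderOf_eq_card_of_forall_mem_zpowers hc, hQ7]
    have hcfix : ∀ w, ((c : H) : Perm Ω) w = w ↔ w = x := by
      refine fun w => ⟨fun h => (hfix w).mp fun q hq => ?_, fun h => by subst h; exact (hfix w).mpr rfl c c.2⟩
      obtain ⟨i, hi⟩ := Subgroup.mem_zpowers_iff.mp (hc ⟨q, hq⟩)
      show ((q : H) : Perm Ω) w = w
      have hq' : ((q : H) : Perm Ω) = ((c : H) : Perm Ω) ^ i := (congrArg (fun r : (Q : Subgroup H) => ((r : H) : Perm Ω)) hi).symm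
      rw [hq']
      exact Perm.zpow_apply_eq_self_of_apply_eq_self h i
    set σ : H →* ℤˣ := Perm.sign.comp H.subtype
    set K := σ.ker with hK
    have hc7 : ((c : H) : Perm Ω) ^ 7 = 1 := by
      have h : c ^ 7 = 1 := by have := pow_orderOf_eq_one c; rwa [hcO] at this
      exact congrArg (fun r : (Q : Subgroup H) => ((r : H) : Perm Ω)) h
    have hsign : Perm.sign ((c : H) : Perm Ω) = 1 := by
      have := congrArg Perm.sign hc7
      rw [map_pow, map_one] at this
      rcases Int.units_eq_one_or (Perm.sign ((c : H) : Perm Ω)) with h | h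
      · exact h
      · rw [h] at this; exact absurd this (by decide)
    have hcK : (c : H) ∈ K := hsign
    have hKne : K ≠ ⊥ := by
      intro h
      have : (c : H) = 1 := Subgroup.mem_bot.mp (h ▸ hcK)
      have : c = 1 := Subtype.ext this
      rw [this, orderOf_one] at hcO
      norm_num at hcO
    haveI htrK : MulAction.IsPretransitive K Ω := by
      refine MulAction.IsQuasiPreprimitive.isPretransitive_of_normal (G := H) ?_
      intro h
      apply hKne
      rw [Subgroup.eq_bot_iff_forall]
      intro n hn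
      exact Subtype.ext (Equiv.ext fun w => (Set.eq_univ_iff_forall.mp h w) ⟨n, hn⟩)
    set c' : K := ⟨c, hcK⟩ with hc'
    have hcO' : orderOf c' = 7 := by rw [Subgroup.orderOf_mk, Subgroup.orderOf_coe, hcO]
    -- the centralizer of `c'`
    have hcen : ∀ t : K, t * c' = c' * t → t ∈ Subgroup.zpowers c' := by
      set C := Subgroup.centralizer ({c'} : Set K)
      have hCp : IsPGroup 7 C := by
        rw [IsPGroup.iff_orderOf]
        intro t
        refine ⟨_, Nat.eq_prime_pow_of_unique_prime_dvd (orderOf_pos t).ne' ?_⟩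
        intro q hq hqd
        by_contra hq7
        haveI := Fact.mk hq
        obtain ⟨u, hu⟩ : ∃ u : C, orderOf u = q := exists_prime_orderOf_dvd_card' q (hqd.trans (orderOf_dvd_natCard t))
        have hsu : Perm.sign (((u : K) : H) : Perm Ω) = 1 := (u : K).2
        have := odd_of_commute ((c : H) : Perm Ω) (((u : K) : H) : Perm Ω) x hΩ hc7 hcfix hq hq7
          (by rw [Subgroup.orderOf_coe, Subgroup.orderOf_coe, Subgroup.orderOf_coe, hu])
          (congrArg (fun r : K => ((r : H) : Perm Ω)) (Subgroup.mem_centralizer_singleton_iff.mp u.2))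
        rw [hsu] at this
        exact absurd this (by decide)
      have hCle : C.map K.subtype ≤ (Q : Subgroup H) := by
        have h1 : C.map K.subtype ≤ Subgroup.normalizer ((Q : Subgroup H) : Set H) := by
          rintro _ ⟨t, ht, rfl⟩
          refine hnorm _ ?_
          refine (hcfix _).mp ?_
          have e := congrArg (fun r : K => ((r : H) : Perm Ω) x) (Subgroup.mem_centralizer_singleton_iff.mp ht)
          simp only [Subgroup.coe_mul, Perm.mul_apply, hc'] at e
          rw [(hcfix x).mpr rfl] at e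
          exact e.symm
        exact le_sup_right.trans_eq (Q.is_maximal' (IsPGroup.to_sup_of_normal_left' Q.isPGroup' (hCp.map _) h1) le_sup_left)
      intro t ht
      have htQ : (t : H) ∈ (Q : Subgroup H) :=
        hCle ⟨t, Subgroup.mem_centralizer_singleton_iff.mpr ht, rfl⟩
      obtain ⟨i, hi⟩ := Subgroup.mem_zpowers_iff.mp (hc ⟨t, htQ⟩)
      exact Subgroup.mem_zpowers_iff.mpr ⟨i, Subtype.ext (congrArg (fun r : (Q : Subgroup H) => (r : H)) hi)⟩
    -- the normalizer of `⟨c'⟩` is the point stabilizer
    set R := Subgroup.zpowers c' with hR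
    have hRQ : ∀ r : K, r ∈ R ↔ (r : H) ∈ (Q : Subgroup H) := by
      intro r
      constructor
      · intro hr; exact (Subgroup.zpowers_le.mpr (show c' ∈ (Q : Subgroup H).comap K.subtype from c.2)) hr
      · intro hr
        obtain ⟨i, hi⟩ := Subgroup.mem_zpowers_iff.mp (hc ⟨r, hr⟩)
        exact Subgroup.mem_zpowers_iff.mpr ⟨i, Subtype.ext (congrArg (fun s : (Q : Subgroup H) => (s : H)) hi)⟩
    have hstab : Subgroup.normalizer (R : Set K) = MulAction.stabilizer K x := by
      ext g
      rw [MulAction.mem_stabilizer_iff]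
      constructor
      · intro hg
        refine (hcfix _).mp ?_
        have h1 : g⁻¹ * c' * g ∈ R := by
          have := (Subgroup.mem_normalizer_iff.mp (inv_mem hg) c').mp (Subgroup.mem_zpowers c')
          simpa using this
        have h2 := (hfix x).mpr rfl _ ((hRQ _).mp h1)
        simp only [Subgroup.coe_mul, Subgroup.coe_inv, mul_smul, inv_smul_eq_iff] at h2
        exact h2
      · intro hg
        have hgN := hnorm (g : H) hg
        rw [Subgroup.mem_normalizer_iff] at hgN ⊢
        intro r
        rw [hRQ, hRQ]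
        exact hgN _
    have hidx : (Subgroup.normalizer (R : Set K)).index = 15 := by
      rw [hstab, MulAction.index_stabilizer_of_transitive, hN]
    have hRc : Nat.card R = 7 := by rw [Nat.card_zpowers, hcO']
    haveI := isCyclic_of_prime_card hRc
    have hker : R.normalizerMonoidHom.ker = R.subgroupOf (Subgroup.normalizer (R : Set K)) := by
      rw [Subgroup.normalizerMonoidHom_ker]
      ext g
      simp only [Subgroup.mem_subgroupOf]
      constructor
      · intro hg
        exact hcen _ (Subgroup.mem_centralizer_iff.mp hg c' (Subgroup.mem_zpowers c')).symm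
      · intro hg
        rw [Subgroup.mem_centralizer_iff]
        intro r hr
        obtain ⟨i, hi⟩ := Subgroup.mem_zpowers_iff.mp hg
        obtain ⟨j, hj⟩ := Subgroup.mem_zpowers_iff.mp hr
        rw [← hi, ← hj]
        exact zpow_mul_comm _ _ _
    set e := R.normalizerMonoidHom.ker.index with he
    have he6 : e ∣ 6 := by
      rw [he, Subgroup.index_ker]
      refine (Subgroup.card_subgroup_dvd_card _).trans ?_
      rw [IsCyclic.card_mulAut, hRc, Nat.totient_prime (by norm_num)]
    have hcardK : Nat.card K = 105 * e := by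
      rw [← (Subgroup.normalizer (R : Set K)).card_mul_index, hidx,
        ← R.normalizerMonoidHom.ker.card_mul_index, ← he, hker,
        Nat.card_congr (Subgroup.subgroupOfEquivOfLe Subgroup.le_normalizer).toEquiv, hRc]
      ring
    apply no_630 c' hcO' e he6 hcardK hcen
    have hRS : ¬ 7 ∣ R.index := by
      intro hd
      have h1 := R.card_mul_index
      rw [hRc, hcardK] at h1
      have he' := Nat.le_of_dvd (by norm_num) he6
      have he0 : 0 < e := Nat.pos_of_dvd_of_pos he6 (by norm_num)
      obtain ⟨m, hm⟩ := hd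
      rw [hm] at h1
      clear_value e
      omega
    rw [Sylow.card_eq_index_normalizer ((IsPGroup.of_card (n := 1) (by rw [hRc, pow_one])).toSylow hRS : Sylow 7 K)]
    show (Subgroup.normalizer (R : Set K)).index ≠ 1
    rw [hidx]; norm_num



/-- No finite group has exactly 15 Sylow 7-subgroups. -/
theorem result {G : Type*} [Group G] [Finite G] : Nat.card (Sylow 7 G) ≠ 15 := by
  haveI : Fact (Nat.Prime 7) := ⟨by norm_num⟩
  classical
  intro h
  obtain ⟨H, x, Q, htr, hfix, hnorm⟩ := SylowPerm.exists_model G 7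
  cases nonempty_fintype (Sylow 7 G)
  exact core (by rw [← Nat.card_eq_fintype_card, h]) H x Q hfix hnorm

end Cfsg.Agent.S4304
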