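import Cfsg.Statements.S4305
import Cfsg.Agent.Lib.FrobeniusShumyatsky
import Cfsg.Agent.Lib.FrobeniusFittingAct

set_option autoImplicit false
open Cfsg

namespace Cfsg.Agent.S4305

/-- Let the symmetric group of degree 3 act by automorphisms on a finite solvable group `G` of order prime to 6, so that only the identity of `G` is fixed by all of it. Then the derived subgroup of `G` is nilpotent. -/
theorem result {G : Type*} [Group G] [Finite G] [Group.IsSolvable G]
    [MulDistribMulAction (Equiv.Perm (Fin 3)) G] (hcop : (Nat.card G).Coprime 6)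
    (hfpf : ∀ g : G, (∀ a : Equiv.Perm (Fin 3), a • g = g) → g = 1) :
    Group.IsNilpotent ↥(commutator G) := by
  classical
  let φ : Equiv.Perm (Fin 3) →* MulAut G := MulDistribMulAction.toMulAut (Equiv.Perm (Fin 3)) G
  have hcard : Nat.card (Equiv.Perm (Fin 3)) = 6 := by
    rw [Nat.card_perm, Nat.card_eq_fintype_card, Fintype.card_fin]
    rfl
  have hfin : Finite (G ⋊[φ] Equiv.Perm (Fin 3)) := Finite.of_equiv _ SemidirectProduct.equivProd.symm
  have hacts := Cfsg.Agent.FrobeniusFittingAct.acts φ inferInstance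
    (by rw [hcard]; exact hcop.symm) (fun g hg => hfpf g fun a => hg a)
  have d : Cfsg.Agent.FrobeniusShumyatsky.Dihedral3
      (Equiv.swap (0 : Fin 3) 1 * Equiv.swap (1 : Fin 3) 2) (Equiv.swap (0 : Fin 3) 1) :=
    ⟨hcard, by decide, by decide, by decide, by decide⟩
  obtain ⟨N, hNn, T, hT, f, hNnil, hTc, -, hker⟩ :=
    Cfsg.Agent.FrobeniusFittingAct.exists_nilpotent_normal φ
      (Cfsg.Agent.FrobeniusShumyatsky.nilBy_comm d hacts)
  have hle : commutator G ≤ N := by
    rw [← hker, commutator_def, Subgroup.commutator_le]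
    intro a _ b _
    rw [MonoidHom.mem_ker, map_commutatorElement, commutatorElement_eq_one_iff_mul_comm]
    exact hTc.1.1 (f a) (f b)
  have := hNnil
  exact Subgroup.isNilpotent_of_ker_le_center (Subgroup.inclusion hle)
    (by rw [(Subgroup.inclusion hle).ker_eq_bot_iff.2 (Subgroup.inclusion_injective hle)]; exact bot_le)

end Cfsg.Agent.S4305
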