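import Cfsg.Statements.S4306
import Cfsg.Agent.Lib.FrobeniusPQ
import Cfsg.Agent.Lib.FrobeniusFittingAct

set_option autoImplicit false
open Cfsg

namespace Cfsg.Agent.S4306

/-- Let `A` be a non-abelian group of order `pq` with `p, q` distinct primes, acting by automorphisms on a finite solvable group `G` of order prime to `pq`, so that only the identity of `G` is fixed by all of `A`. Then `G` has Fitting height at most 2: there is a normal nilpotent subgroup `F` of `G` with `G/F` nilpotent. -/
theorem result {G A : Type*} [Group G] [Finite G]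
    [Group.IsSolvable G] [Group A] [Finite A] [MulDistribMulAction A G] (p q : ℕ) (hp : p.Prime) (hq : q.Prime) (hpq : p ≠ q)
    (hA : Nat.card A = p * q) (hAna : ¬ IsMulCommutative A) (hcop : (Nat.card G).Coprime (p * q))
    (hfpf : ∀ g : G, (∀ a : A, a • g = g) → g = 1) :
    ∃ F : Subgroup G, ∃ hF : F.Normal, Group.IsNilpotent ↥F ∧ Group.IsNilpotent (G ⧸ F) := by
  classical
  wlog hlt : q < p generalizing p q
  · exact this q p hq hp (Ne.symm hpq) (by rw [hA, mul_comm]) (by rwa [mul_comm]) (by omega)
  have := Fact.mk hp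
  have := Fact.mk hq
  obtain ⟨a, ha⟩ := exists_prime_orderOf_dvd_card' (G := A) p (hA ▸ dvd_mul_right p q)
  obtain ⟨b, hb⟩ := exists_prime_orderOf_dvd_card' (G := A) q (hA ▸ dvd_mul_left q p)
  have hcard : ∀ P : Sylow p A, Nat.card P = p := fun P => by
    rw [P.card_eq_multiplicity, hA, Nat.factorization_mul hp.ne_zero hq.ne_zero, Finsupp.add_apply,
      hp.factorization, hq.factorization, Finsupp.single_eq_same,
      Finsupp.single_eq_of_ne hpq, add_zero, pow_one]
  have hcardq : ∀ P : Sylow q A, Nat.card P = q := fun P => by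
    rw [P.card_eq_multiplicity, hA, Nat.factorization_mul hp.ne_zero hq.ne_zero, Finsupp.add_apply,
      hp.factorization, hq.factorization, Finsupp.single_eq_same,
      Finsupp.single_eq_of_ne (Ne.symm hpq), zero_add, pow_one]
  let P : Sylow p A := Sylow.ofCard (Subgroup.zpowers a) (by
    rw [Nat.card_zpowers, ha, hA, Nat.factorization_mul hp.ne_zero hq.ne_zero, Finsupp.add_apply,
      hp.factorization, hq.factorization, Finsupp.single_eq_same,
      Finsupp.single_eq_of_ne hpq, add_zero, pow_one])
  have hPindex : (P : Subgroup A).index = q := by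
    have h := (P : Subgroup A).card_mul_index
    rw [hcard P, hA] at h
    exact Nat.eq_of_mul_eq_mul_left hp.pos h
  have hPn : (P : Subgroup A).Normal := by
    refine Subgroup.normal_of_index_eq_minFac_card ?_
    rw [hPindex, hA]
    refine le_antisymm ?_ (Nat.minFac_le_of_dvd hq.two_le (dvd_mul_left q p))
    obtain h | h := (Nat.Prime.dvd_mul (Nat.minFac_prime (Nat.one_lt_mul_iff.2
      ⟨hp.pos, hq.pos, Or.inl hp.one_lt⟩).ne')).1 (Nat.minFac_dvd (p * q))
    · rw [(Nat.prime_dvd_prime_iff_eq (Nat.minFac_prime (Nat.one_lt_mul_iff.2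
        ⟨hp.pos, hq.pos, Or.inl hp.one_lt⟩).ne') hp).1 h]
      exact hlt.le
    · rw [(Nat.prime_dvd_prime_iff_eq (Nat.minFac_prime (Nat.one_lt_mul_iff.2
        ⟨hp.pos, hq.pos, Or.inl hp.one_lt⟩).ne') hq).1 h]
  have hnc : a * b ≠ b * a := by
    intro hab
    apply hAna
    have hcy : IsCyclic A := isCyclic_of_orderOf_eq_card (a * b) (by
      rw [(show Commute a b from hab).orderOf_mul_eq_mul_orderOf_of_coprime
        (by rw [ha, hb]; exact (Nat.coprime_primes hp hq).2 hpq), ha, hb, hA])
    exact IsCyclic.isMulCommutative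
  have hdvd : q ∣ p - 1 := by
    have h1 : ∀ Q₀ : Sylow q A, Nat.card (Sylow q A) = p := fun Q₀ => by
      have h2 := Q₀.card_dvd_index
      have hi : (Q₀ : Subgroup A).index = p := by
        have h := (Q₀ : Subgroup A).card_mul_index
        rw [hcardq Q₀, hA, mul_comm p q] at h
        exact Nat.eq_of_mul_eq_mul_left hq.pos h
      rw [hi] at h2
      refine ((Nat.dvd_prime hp).1 h2).resolve_left fun h3 => hnc ?_
      have hsub : Subsingleton (Sylow q A) := (Nat.card_eq_one_iff_unique.1 h3).1
      have hQn : (Q₀ : Subgroup A).Normal := Q₀.normal_of_subsingleton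
      have hbQ : b ∈ (Q₀ : Subgroup A) := by
        obtain ⟨P', hP'⟩ := (IsPGroup.of_card (n := 1)
          (show Nat.card (Subgroup.zpowers b) = q ^ 1 by
            rw [Nat.card_zpowers, hb, pow_one])).exists_le_sylow
        rw [Subsingleton.elim P' Q₀] at hP'
        exact hP' (Subgroup.mem_zpowers b)
      have hd : Disjoint (P : Subgroup A) (Q₀ : Subgroup A) :=
        IsPGroup.disjoint_of_ne p q hpq _ _ P.isPGroup' Q₀.isPGroup'
      exact Subgroup.commute_of_normal_of_disjoint _ _ hPn hQn hd a b (Subgroup.mem_zpowers a) hbQ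
    obtain ⟨Q₀⟩ := (inferInstance : Nonempty (Sylow q A))
    have h3 := card_sylow_modEq_one q A
    rw [h1 Q₀] at h3
    exact (Nat.modEq_iff_dvd' hp.one_le).1 h3.symm
  have pq : Cfsg.Agent.FrobeniusPQ.PQ (⊤ : Subgroup A) a b p q :=
    { p_prime := hp, m_prime := hq, ne := hpq, dvd := hdvd
      card := by rw [Subgroup.card_top, hA]
      a_mem := Subgroup.mem_top a, b_mem := Subgroup.mem_top b
      a_pow := by rw [← ha, pow_orderOf_eq_one]
      a_ne := fun e => hp.ne_one (by rw [← ha, e, orderOf_one])
      b_pow := by rw [← hb, pow_orderOf_eq_one]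
      norm := by
        rw [show Subgroup.zpowers a = (P : Subgroup A) from rfl, Subgroup.normalizer_eq_top]
      nc := hnc }
  let φ : A →* MulAut G := MulDistribMulAction.toMulAut A G
  have hfin : Finite (G ⋊[φ] A) := Finite.of_equiv _ SemidirectProduct.equivProd.symm
  have hacts := Cfsg.Agent.FrobeniusFittingAct.acts φ inferInstance
    (by rw [hA]; exact hcop.symm) (fun g hg => hfpf g fun a => hg a)
  obtain ⟨N, hNn, T, hT, f, hNnil, hTn, hfs, hker⟩ :=
    Cfsg.Agent.FrobeniusFittingAct.exists_nilpotent_normal φ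
      (Cfsg.Agent.FrobeniusPQ.nilBy_nilpotent pq hacts)
  refine ⟨N, hNn, hNnil, ?_⟩
  have := hTn
  exact Group.nilpotent_of_mulEquiv
    ((QuotientGroup.quotientMulEquivOfEq hker.symm).trans
      (QuotientGroup.quotientKerEquivOfSurjective f hfs)).symm

end Cfsg.Agent.S4306
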