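import Cfsg.Statements.S4309
-- import your own Cfsg.Agent.* helpers here

set_option autoImplicit false
open Cfsg

namespace Cfsg.Agent.S4309

theorem relIndex_eq_sup {G : Type*} [Group G] [Finite G] (H A : Subgroup G) [A.Normal] :
    H.relIndex A = H.relIndex (H ⊔ A) := by
  have h1 := Subgroup.relIndex_mul_relIndex ⊥ H (H ⊔ A) bot_le le_sup_left
  have h2 := Subgroup.relIndex_mul_relIndex ⊥ A (H ⊔ A) bot_le le_sup_right
  have h3 := Subgroup.relIndex_mul_relIndex ⊥ (H ⊓ A) A bot_le inf_le_right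
  have h4 := Subgroup.relIndex_mul_relIndex ⊥ (H ⊓ A) H bot_le inf_le_left
  rw [Subgroup.relIndex_sup_right] at h2
  rw [Subgroup.inf_relIndex_right] at h3
  rw [inf_comm H A, Subgroup.inf_relIndex_right] at h4
  rw [inf_comm H A] at h3
  simp only [Subgroup.relIndex_bot_left] at h1 h2 h3 h4
  have e : Nat.card H * H.relIndex (H ⊔ A) = Nat.card A * A.relIndex H := h1.trans h2.symm
  rw [← h3, ← h4] at e
  have hi : 0 < Nat.card ↥(A ⊓ H) := Nat.card_pos
  have ha : 0 < A.relIndex H := Nat.pos_of_ne_zero Subgroup.index_ne_zero_of_finite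
  exact (Nat.eq_of_mul_eq_mul_left (Nat.mul_pos hi ha) (e.trans (by ring))).symm


/-- Let `π` be a set of primes, `G` a finite group with a Hall `π`-subgroup `H` (every prime divisor of the order of `H` lies in `π` and no prime of `π` divides its index), and `A` a normal subgroup of `G`. Then `H ∩ A` is a Hall `π`-subgroup of `A` and the image of `H` in `G/A` is a Hall `π`-subgroup of `G/A`. -/
theorem result {G : Type*} [Group G] [Finite G] (π : Set ℕ)
    (H A : Subgroup G) [A.Normal] (hH : Cfsg.IsPiHall π H) :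
    Cfsg.IsPiHall π ((H ⊓ A).subgroupOf A) ∧ Cfsg.IsPiHall π (H.map (QuotientGroup.mk' A)) := by
  obtain ⟨h1, h2⟩ := hH
  refine ⟨⟨fun p hp hd => h1 p hp ?_, fun p hp hpi hd => h2 p hp hpi ?_⟩,
    ⟨fun p hp hd => h1 p hp ?_, fun p hp hpi hd => h2 p hp hpi ?_⟩⟩
  · rw [Nat.card_congr (Subgroup.subgroupOfEquivOfLe (inf_le_right : H ⊓ A ≤ A)).toEquiv] at hd
    exact hd.trans (Subgroup.card_dvd_of_le inf_le_left)
  · refine hd.trans ?_
    change (H ⊓ A).relIndex A ∣ _
    rw [Subgroup.inf_relIndex_right, relIndex_eq_sup H A]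
    exact Subgroup.relIndex_dvd_index_of_le le_sup_left
  · exact hd.trans (Subgroup.card_map_dvd H _)
  · exact hd.trans (Subgroup.index_map_dvd (H := H) (QuotientGroup.mk'_surjective A))

end Cfsg.Agent.S4309
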