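import Cfsg.Statements.S4314
-- import your own Cfsg.Agent.* helpers here

set_option autoImplicit false
open Cfsg

namespace Cfsg.Agent.S4314

open scoped commutatorElement

variable {G : Type*} [Group G] [Finite G]

theorem commutator_le_of_normal_prime_index (C : Subgroup G) [C.Normal] {p : ℕ} (hp : p.Prime) (hC : C.index = p) :
    commutator G ≤ C := by
  haveI := Fact.mk hp
  rw [Subgroup.index_eq_card] at hC
  haveI : IsCyclic (G ⧸ C) := isCyclic_of_prime_card hC
  rw [commutator_def, Subgroup.commutator_le]
  intro a _ b _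
  rw [← QuotientGroup.eq_one_iff, commutatorElement_def]
  simp only [QuotientGroup.mk_mul, QuotientGroup.mk_inv]
  letI := IsCyclic.commGroup (α := G ⧸ C)
  simp [mul_comm, mul_left_comm]

/-- A non-normal centralizer of prime index forces the central quotient to have order `p * r`. -/
theorem of_not_normal (hcl : ∀ x : G, (Subgroup.centralizer ({x} : Set G)).index = 1 ∨ ((Subgroup.centralizer ({x} : Set G)).index).Prime)
    (x : G) {p : ℕ} (hp : p.Prime) (hC : (Subgroup.centralizer ({x} : Set G)).index = p)
    (hn : ¬ (Subgroup.centralizer ({x} : Set G)).Normal) :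
    ∃ p q : ℕ, p.Prime ∧ q.Prime ∧ p ≠ q ∧ Nat.card (G ⧸ Subgroup.center G) = p * q ∧ ¬ IsMulCommutative (G ⧸ Subgroup.center G) := by
  haveI := Fact.mk hp
  set C := Subgroup.centralizer ({x} : Set G)
  set K := C.normalCore
  have hKC : K ≤ C := C.normalCore_le
  set r := K.relIndex C
  have hKidx : r * p = K.index := hC ▸ Subgroup.relIndex_mul_index hKC
  have hr1 : r ≠ 1 := fun h => hn (le_antisymm hKC (Subgroup.relIndex_eq_one.mp h) ▸ C.normalCore_normal)
  obtain ⟨hq, hqo⟩ := exists_prime_orderOf_dvd_card' (G := G ⧸ K) p (by rw [← Subgroup.index_eq_card, ← hKidx]; exact dvd_mul_left p r)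
  obtain ⟨h, rfl⟩ := QuotientGroup.mk_surjective hq
  have hhK : h ∉ K := fun hh => by
    rw [(QuotientGroup.eq_one_iff h).mpr hh, orderOf_one] at hqo
    exact hp.ne_one hqo.symm
  set Ω := G ⧸ C
  have hΩ : Nat.card Ω = p := by rw [← Subgroup.index_eq_card, hC]
  have hK : ∀ g : G, g ∈ K ↔ ∀ w : Ω, g • w = w := by
    intro g
    change g ∈ C.normalCore ↔ _
    rw [Subgroup.normalCore_eq_ker, MonoidHom.mem_ker]
    exact ⟨fun hg w => Equiv.congr_fun hg w, fun hg => Equiv.ext hg⟩
  -- some orbit of `h` is everything
  obtain ⟨w₀, hw₀⟩ : ∃ w : Ω, h • w ≠ w := by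
    by_contra hcon
    push Not at hcon
    exact hhK ((hK h).mpr hcon)
  have hper : Function.minimalPeriod (h • ·) w₀ = p := by
    have hd : Function.minimalPeriod (h • ·) w₀ ∣ p := by
      apply Function.IsPeriodicPt.minimalPeriod_dvd
      show (h • ·)^[p] w₀ = w₀
      rw [smul_iterate]
      have : h ^ p ∈ K := by rw [← QuotientGroup.eq_one_iff, QuotientGroup.mk_pow, ← hqo, pow_orderOf_eq_one]
      exact (hK _).mp this w₀
    refine (hp.eq_one_or_self_of_dvd _ hd).resolve_left fun h1 => hw₀ ?_
    exact Function.minimalPeriod_eq_one_iff_isFixedPt.mp h1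
  have hinj : Function.Injective (fun i : Fin p => h ^ (i : ℕ) • w₀) := by
    intro i j hij
    apply Fin.ext
    have hij' : (h • ·)^[(i : ℕ)] w₀ = (h • ·)^[(j : ℕ)] w₀ := by rw [smul_iterate, smul_iterate]; exact hij
    exact (Function.iterate_eq_iterate_iff_of_lt_minimalPeriod (by rw [hper]; exact i.2) (by rw [hper]; exact j.2)).mp hij'
  have hsurj : Function.Surjective (fun i : Fin p => h ^ (i : ℕ) • w₀) :=
    ((Nat.bijective_iff_injective_and_card _).mpr ⟨hinj, by simp [hΩ]⟩).2
  set M := K ⊔ Subgroup.zpowers h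
  have hM : ∀ g : G, ⁅g, h⁆ ∈ K → g ∈ M := by
    intro g hg
    obtain ⟨i, hi⟩ := hsurj (g • w₀)
    dsimp only at hi
    set f := (h ^ (i : ℕ))⁻¹ * g
    have hf : f ∈ K := by
      rw [hK]
      intro w
      obtain ⟨j, rfl⟩ := hsurj w
      have hfw : f • w₀ = w₀ := by rw [mul_smul, ← hi, inv_smul_smul]
      have hcm : ⁅f, h ^ (j : ℕ)⁆ ∈ K := by
        rw [← QuotientGroup.eq_one_iff] at hg ⊢
        have hc : Commute ((g : G) : G ⧸ K) (h : G ⧸ K) := by
          rw [commutatorElement_def] at hg
          simp only [QuotientGroup.mk_mul, QuotientGroup.mk_inv] at hg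
          exact mul_inv_eq_iff_eq_mul.mp (mul_inv_eq_one.mp hg)
        have hc2 : Commute ((f : G) : G ⧸ K) ((h ^ (j : ℕ) : G) : G ⧸ K) := by
          simp only [f, QuotientGroup.mk_mul, QuotientGroup.mk_inv, QuotientGroup.mk_pow]
          exact ((Commute.refl (h : G ⧸ K)).pow_left _).inv_left.mul_left hc |>.pow_right _
        rw [commutatorElement_def]
        simp only [QuotientGroup.mk_mul, QuotientGroup.mk_inv]
        rw [hc2.eq]; group
      have h2 := (hK _).mp hcm (h ^ (j : ℕ) • w₀)
      have h3 : ⁅f, h ^ (j : ℕ)⁆ * (h ^ (j : ℕ) * f) = f * h ^ (j : ℕ) := by rw [commutatorElement_def]; group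
      rw [← mul_smul, ← h3, mul_smul, mul_smul, hfw]
      exact h2
    have : g = h ^ (i : ℕ) * f := by simp [f]
    rw [this]
    exact mul_mem (pow_mem (Subgroup.mem_sup_right (Subgroup.mem_zpowers h)) _) (Subgroup.mem_sup_left hf)
  have hMidx : M.index = r := by
    have h1 : (Subgroup.zpowers h).map (QuotientGroup.mk' K) = Subgroup.zpowers ((h : G) : G ⧸ K) := MonoidHom.map_zpowers _ _
    have h2 : M.index = (M.map (QuotientGroup.mk' K)).index :=
      (Subgroup.index_map_eq M (QuotientGroup.mk'_surjective K) (by rw [QuotientGroup.ker_mk']; exact le_sup_left)).symm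
    have h3 : M.map (QuotientGroup.mk' K) = Subgroup.zpowers ((h : G) : G ⧸ K) := by
      rw [Subgroup.map_sup, h1, QuotientGroup.map_mk'_self, bot_sup_eq]
    have h4 := (Subgroup.zpowers ((h : G) : G ⧸ K)).card_mul_index
    rw [Nat.card_zpowers, hqo, ← Subgroup.index_eq_card, ← hKidx] at h4
    rw [h2, h3]
    exact Nat.eq_of_mul_eq_mul_left hp.pos (h4.trans (mul_comm r p))
  -- elements of `M` outside `K` centralize `K`
  have hcen : ∀ k ∈ K, Subgroup.centralizer ({h} : Set G) = M ∧ Commute k h := by
    have hle : Subgroup.centralizer ({h} : Set G) ≤ M := by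
      intro g hg
      apply hM
      rw [commutatorElement_def, show g * h = h * g from Subgroup.mem_centralizer_singleton_iff.mp hg]
      simp
    have hd := Subgroup.relIndex_mul_index hle
    rw [hMidx] at hd
    have hrpos : r ≠ 0 := Subgroup.index_ne_zero_of_finite
    rcases hcl h with h1 | h1
    · rw [h1] at hd
      exact absurd (Nat.eq_one_of_mul_eq_one_left hd) hr1
    · have hrp : r = (Subgroup.centralizer ({h} : Set G)).index :=
        (h1.eq_one_or_self_of_dvd r (Dvd.intro_left _ hd)).resolve_left hr1
      rw [← hrp] at hd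
      have h3 : (Subgroup.centralizer ({h} : Set G)).relIndex M = 1 :=
        Nat.eq_of_mul_eq_mul_right (Nat.pos_of_ne_zero hrpos) (hd.trans (one_mul r).symm)
      have h4 := le_antisymm hle (Subgroup.relIndex_eq_one.mp h3)
      exact fun k hk => ⟨h4, Subgroup.mem_centralizer_singleton_iff.mp (h4.symm ▸ Subgroup.mem_sup_left hk)⟩
  have hrprime : r.Prime := by
    obtain ⟨h4, -⟩ := hcen 1 (one_mem K)
    rcases hcl h with h1 | h1
    · rw [h4, hMidx] at h1; exact absurd h1 hr1
    · rwa [h4, hMidx] at h1
  have hxM : x ∉ M := by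
    intro hxM
    have hxC : x ∈ C := Subgroup.mem_centralizer_singleton_iff.mpr rfl
    obtain ⟨k, hk, z, hz, hkz⟩ := Subgroup.mem_sup_of_normal_left.mp hxM
    obtain ⟨i, rfl⟩ := Subgroup.mem_zpowers_iff.mp hz
    have hxh : Commute x h := by
      rw [← hkz]
      exact (hcen k hk).2.mul_left ((Commute.refl h).zpow_left i)
    have hhC : h ∈ C := Subgroup.mem_centralizer_singleton_iff.mpr hxh.symm.eq
    have hall : ∀ j : ℕ, h ^ j • ((1 : G) : Ω) = ((1 : G) : Ω) := fun j => by
      show ((h ^ j * 1 : G) : Ω) = _
      rw [QuotientGroup.eq, mul_one, mul_one]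
      exact inv_mem (pow_mem hhC j)
    obtain ⟨j, hj⟩ := hsurj ((1 : G) : Ω)
    dsimp only at hj
    apply hw₀
    have hw1 : w₀ = ((1 : G) : Ω) := smul_left_cancel (h ^ (j : ℕ)) (hj.trans (hall j).symm)
    rw [hw1]
    have h14 := hall 1
    rwa [pow_one] at h14
  have hKZ : K = Subgroup.center G := by
    refine le_antisymm ?_ ?_
    · intro k hk
      have htop : M ⊔ Subgroup.zpowers x = ⊤ := by
        rw [← Subgroup.index_eq_one]
        have hd : (M ⊔ Subgroup.zpowers x).index ∣ r := hMidx ▸ Subgroup.index_dvd_of_le le_sup_left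
        refine (hrprime.eq_one_or_self_of_dvd _ hd).resolve_right fun he => hxM ?_
        have h5 := Subgroup.relIndex_mul_index (le_sup_left : M ≤ M ⊔ Subgroup.zpowers x)
        rw [he, hMidx] at h5
        have h6 : M.relIndex (M ⊔ Subgroup.zpowers x) = 1 := Nat.eq_of_mul_eq_mul_right hrprime.pos (h5.trans (one_mul r).symm)
        exact Subgroup.relIndex_eq_one.mp h6 (Subgroup.mem_sup_right (Subgroup.mem_zpowers x))
      have hkC : M ⊔ Subgroup.zpowers x ≤ Subgroup.centralizer ({k} : Set G) := by
        refine sup_le (sup_le ?_ ?_) ?_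
        · intro k' hk'
          rw [Subgroup.mem_centralizer_singleton_iff]
          -- `K` is abelian, being centralized by `h * k'` and `h`
          by_contra hne
          have h7 : h * k' ∉ K := fun h8 => hhK (by simpa using mul_mem h8 (inv_mem hk'))
          have h9 : Subgroup.centralizer ({h * k'} : Set G) ≤ M := by
            intro g hg
            apply hM
            rw [← QuotientGroup.eq_one_iff, commutatorElement_def]
            have h10 : (g : G ⧸ K) * (h : G ⧸ K) = (h : G ⧸ K) * (g : G ⧸ K) := by
              have := congrArg (fun t : G => (t : G ⧸ K)) (Subgroup.mem_centralizer_singleton_iff.mp hg)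
              simpa [(QuotientGroup.eq_one_iff k').mpr hk'] using this
            simp only [QuotientGroup.mk_mul, QuotientGroup.mk_inv, h10]
            group
          have h11 : Subgroup.centralizer ({h * k'} : Set G) = M := by
            refine le_antisymm h9 ?_
            have hd := Subgroup.relIndex_mul_index h9
            rw [hMidx] at hd
            rcases hcl (h * k') with h1 | h1
            · rw [h1] at hd; exact absurd (Nat.eq_one_of_mul_eq_one_left hd) hr1
            · have hrp : r = (Subgroup.centralizer ({h * k'} : Set G)).index :=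
                (h1.eq_one_or_self_of_dvd r (Dvd.intro_left _ hd)).resolve_left hr1
              rw [← hrp] at hd
              exact Subgroup.relIndex_eq_one.mp (Nat.eq_of_mul_eq_mul_right hrprime.pos (hd.trans (one_mul r).symm))
          have h12 : Commute k (h * k') :=
            Subgroup.mem_centralizer_singleton_iff.mp (h11.symm ▸ Subgroup.mem_sup_left hk)
          have h13 : Commute k (h⁻¹ * (h * k')) := (hcen k hk).2.inv_right.mul_right h12
          rw [inv_mul_cancel_left] at h13
          exact hne h13.symm.eq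
        · rw [Subgroup.zpowers_le, Subgroup.mem_centralizer_singleton_iff]
          exact (hcen k hk).2.symm.eq
        · rw [Subgroup.zpowers_le, Subgroup.mem_centralizer_singleton_iff]
          exact (Subgroup.mem_centralizer_singleton_iff.mp (hKC hk)).symm
      rw [htop] at hkC
      rw [Subgroup.mem_center_iff]
      intro g
      exact Subgroup.mem_centralizer_singleton_iff.mp (hkC (Subgroup.mem_top g))
    · exact Subgroup.normal_le_normalCore.mpr (fun z hz =>
        Subgroup.mem_centralizer_singleton_iff.mpr ((Subgroup.mem_center_iff.mp hz x).symm))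
  have hcard : Nat.card (G ⧸ Subgroup.center G) = p * r := by
    rw [← Subgroup.index_eq_card, ← hKZ, ← hKidx, mul_comm]
  have hna : ¬ IsMulCommutative (G ⧸ Subgroup.center G) := by
    intro hcm
    apply hn
    refine ⟨fun c hc g => ?_⟩
    have hcc : ((g * c * g⁻¹ : G) : G ⧸ Subgroup.center G) = (c : G ⧸ Subgroup.center G) := by
      simp only [QuotientGroup.mk_mul, QuotientGroup.mk_inv]
      rw [hcm.is_comm.comm (g : G ⧸ Subgroup.center G)]; group
    have hz : c⁻¹ * (g * c * g⁻¹) ∈ Subgroup.center G := QuotientGroup.eq.mp hcc.symm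
    have hzC : Subgroup.center G ≤ C := hKZ ▸ hKC
    simpa using mul_mem hc (hzC hz)
  refine ⟨p, r, hp, hrprime, fun hpr => ?_, hcard, hna⟩
  exact hna (IsPGroup.isMulCommutative_of_card_eq_prime_sq (p := p) (by rw [hcard, ← hpr, pow_two]))



/-- Let `G` be a finite group every conjugacy class of which has size 1 or a prime. Then either `G` is nilpotent of class at most 2, or `G/Z(G)` is a non-abelian group of order `pq` for distinct primes `p, q` (a Frobenius group of order `pq`). -/
theorem result {G : Type*} [Group G] [Finite G]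
    (h : ∀ x : G, (Subgroup.centralizer ({x} : Set G)).index = 1 ∨ ((Subgroup.centralizer ({x} : Set G)).index).Prime) :
    Subgroup.upperCentralSeries G 2 = ⊤ ∨
      ∃ p q : ℕ, p.Prime ∧ q.Prime ∧ p ≠ q ∧ Nat.card (G ⧸ Subgroup.center G) = p * q ∧ ¬ IsMulCommutative (G ⧸ Subgroup.center G) := by
  by_cases hall : ∀ x : G, (Subgroup.centralizer ({x} : Set G)).Normal
  · left
    have hc : commutator G ≤ Subgroup.center G := by
      intro c hc
      rw [Subgroup.mem_center_iff]
      intro g
      rcases h g with h1 | h1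
      · rw [Subgroup.index_eq_one] at h1
        exact (Subgroup.mem_centralizer_singleton_iff.mp (h1 ▸ Subgroup.mem_top c : c ∈ Subgroup.centralizer ({g} : Set G))).symm
      · haveI := hall g
        exact (Subgroup.mem_centralizer_singleton_iff.mp (commutator_le_of_normal_prime_index _ h1 rfl hc)).symm
    rw [eq_top_iff]
    intro g _
    rw [Subgroup.mem_upperCentralSeries_succ_iff]
    intro k
    rw [Subgroup.upperCentralSeries_one]
    exact hc (Subgroup.commutator_mem_commutator (Subgroup.mem_top g) (Subgroup.mem_top k))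
  · right
    push Not at hall
    obtain ⟨x, hx⟩ := hall
    rcases h x with h1 | h1
    · exfalso; apply hx; rw [Subgroup.index_eq_one] at h1; rw [h1]; infer_instance
    · exact of_not_normal h x h1 rfl hx

end Cfsg.Agent.S4314
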