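import Cfsg.Statements.S4316
import Cfsg.Agent.Lib.HallFixedDerived
-- import your own Cfsg.Agent.* helpers here

set_option autoImplicit false
universe u
open Cfsg

namespace Cfsg.Agent.S4316

/-- There is a function `f` of two natural-number arguments with the following property. Let `q` be a prime and `A` an elementary abelian group of order `q³` acting by automorphisms on a finite group `G` of order prime to `q`, and suppose that for every non-identity `a ∈ A` the derived subgroup of the fixed-point subgroup `C_G(a)` has order at most `m`. Then the derived subgroup of `G` has order at most `f(q, m)`. -/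
theorem result :
    ∃ f : ℕ → ℕ → ℕ, ∀ (q m : ℕ) (A G : Type u) [Group A] [Finite A] [Group G] [Finite G] [MulDistribMulAction A G],
      q.Prime → Nat.card A = q ^ 3 → (∀ a b : A, a * b = b * a) → (∀ a : A, a ^ q = 1) → ¬ q ∣ Nat.card G →
      (∀ a : A, a ≠ 1 → Nat.card ↥(commutator ↥(FixedPoints.subgroup (Subgroup.zpowers a) G)) ≤ m) →
      Nat.card ↥(commutator G) ≤ f q m := by
  refine ⟨Cfsg.Agent.HallFixedDerived.derivedBound, fun q m A G _ _ _ _ _ hq hA hc he hG hm => ?_⟩
  classical
  have : Fact q.Prime := ⟨hq⟩
  set θ : A →* MulAut G := MulDistribMulAction.toMulAut A G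
  have : Finite (G ⋊[θ] A) := Finite.of_equiv _ SemidirectProduct.equivProd.symm
  set il : G →* G ⋊[θ] A := SemidirectProduct.inl
  set ir : A →* G ⋊[θ] A := SemidirectProduct.inr
  set R : Subgroup (G ⋊[θ] A) := il.range
  set S : Subgroup (G ⋊[θ] A) := ir.range
  have : IsMulCommutative S := ⟨⟨by
    rintro ⟨_, a, rfl⟩ ⟨_, b, rfl⟩
    exact Subtype.ext (by rw [Subgroup.coe_mul, Subgroup.coe_mul, ← map_mul, ← map_mul, hc])⟩⟩
  have hS : Nat.card S = q ^ 3 := by
    rw [← hA]
    exact (Nat.card_congr (MonoidHom.ofInjective SemidirectProduct.inr_injective).toEquiv).symm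
  have hR : Nat.card R = Nat.card G :=
    (Nat.card_congr (MonoidHom.ofInjective SemidirectProduct.inl_injective).toEquiv).symm
  have hnorm : S ≤ Subgroup.normalizer (R : Set (G ⋊[θ] A)) := by
    have : R.Normal := by
      rw [show R = (SemidirectProduct.rightHom : G ⋊[θ] A →* A).ker from
        SemidirectProduct.range_inl_eq_ker_rightHom]
      infer_instance
    rw [Subgroup.normalizer_eq_top_iff.2 inferInstance]
    exact le_top
  have key := Cfsg.Agent.HallFixedDerived.card_commutator_le_derivedBound (q := q) (m := m) R S hnorm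
    hS (by rintro ⟨_, a, rfl⟩; exact Subtype.ext (by
      rw [SubgroupClass.coe_pow, ← map_pow, he, map_one, OneMemClass.coe_one]))
    (by rw [hR]; exact hG) ?_
  · refine le_trans (le_of_eq ?_) key
    rw [← Subgroup.card_map_of_injective (K := commutator G) (f := il) SemidirectProduct.inl_injective,
      commutator_def, Subgroup.map_commutator, ← MonoidHom.range_eq_map]
  · rintro _ ⟨a, rfl⟩ ha1
    have ha : a ≠ 1 := fun h => ha1 (by rw [h, map_one])
    set C := FixedPoints.subgroup (Subgroup.zpowers a) G
    have hconj : ∀ g : G, ir a * il g * (ir a)⁻¹ = il (a • g) := fun g => by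
      rw [← map_inv]
      exact (SemidirectProduct.inl_aut (φ := θ) a g).symm
    have hC : R ⊓ Subgroup.centralizer {ir a} = C.map il := by
      ext x
      constructor
      · rintro ⟨⟨g, rfl⟩, hx⟩
        refine ⟨g, ?_, rfl⟩
        rintro ⟨b, hb⟩
        have hfix : a • g = g := SemidirectProduct.inl_injective (φ := θ) (by
          have h := Subgroup.mem_centralizer_singleton_iff.mp hx
          rw [← hconj]
          calc ir a * il g * (ir a)⁻¹ = il g * ir a * (ir a)⁻¹ := by rw [h]
            _ = il g := mul_inv_cancel_right _ _)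
        obtain ⟨i, rfl⟩ := hb
        exact (Subgroup.zpowers_le.mpr
          (show a ∈ MulAction.stabilizer A g from hfix)) ⟨i, rfl⟩
      · rintro ⟨g, hg, rfl⟩
        refine ⟨⟨g, rfl⟩, Subgroup.mem_centralizer_singleton_iff.mpr ?_⟩
        have h : a • g = g := hg ⟨a, Subgroup.mem_zpowers a⟩
        calc il g * ir a = (ir a * il g * (ir a)⁻¹) * ir a := by rw [hconj, h]
          _ = ir a * il g := inv_mul_cancel_right _ _
    rw [hC, ← Subgroup.map_commutator,
      Subgroup.card_map_of_injective SemidirectProduct.inl_injective]
    refine le_trans (le_of_eq ?_) (hm a ha)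
    rw [← Subgroup.card_map_of_injective (K := commutator C) (f := C.subtype) C.subtype_injective, commutator_def,
      Subgroup.map_commutator, ← MonoidHom.range_eq_map, Subgroup.range_subtype]

end Cfsg.Agent.S4316
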