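import Cfsg.Statements.S4320
import Mathlib

set_option autoImplicit false
set_option linter.all false
open Cfsg

namespace Cfsg.Agent.S4320

namespace Cfsg.Agent.PIT

open MonoidAlgebra
open scoped commutatorElement

theorem det_rel {ι R M : Type*} [Fintype ι] [DecidableEq ι] [CommRing R] [AddCommGroup M]
    (L : ι → R →+ M) (μ : Matrix ι ι R) (h : ∀ r x, ∑ j, L j (μ r j * x) = 0) (k : ι) (x : R) :
    L k (μ.det * x) = 0 := by
  have h0 : ∑ r, ∑ j, L j (μ r j * (μ.adjugate k r * x)) = 0 := by
    simp [h]
  rw [Finset.sum_comm] at h0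
  have hj : ∀ j, ∑ r, L j (μ r j * (μ.adjugate k r * x)) = L j ((μ.adjugate * μ) k j * x) := by
    intro j
    rw [← map_sum, Matrix.mul_apply, Finset.sum_mul]
    congr 1
    exact Finset.sum_congr rfl fun r _ => by ring
  simp only [hj, Matrix.adjugate_mul, Matrix.smul_apply, smul_eq_mul] at h0
  rw [Finset.sum_eq_single k] at h0
  · simpa using h0
  · intro j _ hjk
    simp [Matrix.one_apply_ne hjk.symm]
  · simp

variable {G : Type*} [Group G]

noncomputable def out' (q : Abelianization G) : G := (q : G ⧸ commutator G).out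

theorem of_out' (q : Abelianization G) : Abelianization.of (out' q) = q :=
  QuotientGroup.out_eq' (q : G ⧸ commutator G)

theorem psi_mem (x : G) : (out' (Abelianization.of x))⁻¹ * x ∈ commutator G :=
  QuotientGroup.eq.mp (QuotientGroup.out_eq' (x : G ⧸ commutator G))

noncomputable def psi (x : G) : Additive (Abelianization ↥(commutator G)) :=
  Additive.ofMul (Abelianization.of ⟨_, psi_mem x⟩)

theorem of_mul_mem (y : G) {h : G} (hh : h ∈ commutator G) :
    Abelianization.of (y * h) = Abelianization.of y := by
  have : Abelianization.of h = (1 : Abelianization G) := (QuotientGroup.eq_one_iff h).mpr hh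
  rw [map_mul, this, mul_one]

theorem psi_mul (y : G) (h : ↥(commutator G)) :
    psi (y * (h : G)) = psi y + Additive.ofMul (Abelianization.of h) := by
  unfold psi
  rw [← ofMul_mul, ← map_mul]
  congr 2
  apply Subtype.ext
  show (out' (Abelianization.of (y * (h : G))))⁻¹ * (y * (h : G)) =
    (out' (Abelianization.of y))⁻¹ * y * (h : G)
  rw [of_mul_mem y h.2, mul_assoc]

theorem psi_out (q : Abelianization G) : psi (out' q) = 0 := by
  unfold psi
  have : (⟨_, psi_mem (out' q)⟩ : ↥(commutator G)) = 1 := by
    apply Subtype.ext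
    simp [of_out']
  rw [this, map_one, ofMul_one]

theorem psi_shift (g x : G) :
    psi (g * x) - psi x = psi (g * out' (Abelianization.of x)) := by
  have hx : x = out' (Abelianization.of x) *
      ((⟨_, psi_mem x⟩ : ↥(commutator G)) : G) := by simp
  conv_lhs => rw [hx]
  rw [← mul_assoc, psi_mul, psi_mul, psi_out]
  abel

noncomputable def P : MonoidAlgebra ℤ G →+ Additive (Abelianization ↥(commutator G)) :=
  (Finsupp.liftAddHom fun x => (smulAddHom ℤ (Additive (Abelianization ↥(commutator G)))).flip (psi x)).comp
    coeffAddEquiv.toAddMonoidHom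

theorem P_single (x : G) (n : ℤ) : P (single x n) = n • psi x := by
  simp [P]

noncomputable def F (g : G) :
    MonoidAlgebra ℤ (Abelianization G) →+ Additive (Abelianization ↥(commutator G)) :=
  (Finsupp.liftAddHom fun q => (smulAddHom ℤ (Additive (Abelianization ↥(commutator G)))).flip
    (psi (g * out' q))).comp coeffAddEquiv.toAddMonoidHom

theorem F_single (g : G) (q : Abelianization G) (n : ℤ) : F g (single q n) = n • psi (g * out' q) := by
  simp [F]

noncomputable def red : MonoidAlgebra ℤ G →+* MonoidAlgebra ℤ (Abelianization G) :=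
  mapDomainRingHom ℤ (Abelianization.of : G →* Abelianization G)

theorem red_single (x : G) (n : ℤ) : red (single x n) = single (Abelianization.of x) n := by
  simp [red]

noncomputable def delta (g : G) : MonoidAlgebra ℤ G := single g 1 - 1

theorem P_delta (g : G) (a : MonoidAlgebra ℤ G) : P (delta g * a) = F g (red a) := by
  induction a using MonoidAlgebra.induction_linear with
  | zero => simp
  | add x y hx hy => simp [mul_add, hx, hy]
  | single x n =>
    rw [red_single, F_single, delta, sub_mul, one_mul, single_mul_single, one_mul, map_sub,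
      P_single, P_single, ← smul_sub, psi_shift]

noncomputable def eps (K : Type*) [Monoid K] : MonoidAlgebra ℤ K →+* ℤ :=
  (MonoidAlgebra.lift ℤ ℤ K (1 : K →* ℤ)).toRingHom

theorem eps_single (K : Type*) [Monoid K] (x : K) (n : ℤ) : eps K (single x n) = n := by
  simp [eps]

theorem eps_delta (g : G) : eps G (delta g) = 0 := by
  simp [delta, eps_single]

theorem eps_red (a : MonoidAlgebra ℤ G) : eps (Abelianization G) (red a) = eps G a := by
  induction a using MonoidAlgebra.induction_linear with
  | zero => simp
  | add x y hx hy => simp [hx, hy]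
  | single x n => rw [red_single, eps_single, eps_single]

def predSubgroup (S : MonoidAlgebra ℤ G → Prop) (h0 : S 0) (ha : ∀ a b, S a → S b → S (a + b))
    (hn : ∀ a, S a → S (-a)) (hm : ∀ a z, S a → S (a * single z 1)) : Subgroup G where
  carrier := {x | S (delta x)}
  one_mem' := by simpa [delta, one_def] using h0
  mul_mem' := by
    intro a b haS hbS
    have : delta (a * b) = delta a * single b 1 + delta b := by
      simp [delta, sub_mul, single_mul_single]
    show S _
    rw [this]
    exact ha _ _ (hm _ _ haS) hbS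
  inv_mem' := by
    intro a haS
    have : delta a⁻¹ = -(delta a * single a⁻¹ 1) := by
      simp [delta, sub_mul, single_mul_single, one_def]
    show S _
    rw [this]
    exact hn _ (hm _ _ haS)

theorem delta_commutator (x y : G) :
    delta ⁅x, y⁆ = (delta x * delta y - delta y * delta x) * single (x⁻¹ * y⁻¹) 1 := by
  have : delta x * delta y - delta y * delta x = single (x * y) 1 - single (y * x) 1 := by
    simp only [delta, sub_mul, mul_sub, one_mul, mul_one, single_mul_single]
    abel
  rw [this, sub_mul, single_mul_single, single_mul_single, one_mul, delta, one_def,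
    commutatorElement_def]
  have h1 : x * y * (x⁻¹ * y⁻¹) = x * y * x⁻¹ * y⁻¹ := by group
  have h2 : y * x * (x⁻¹ * y⁻¹) = 1 := by group
  rw [h1, h2]

theorem transfer_eq [Finite G] [Fintype (Abelianization G)] (g : G) :
    Additive.ofMul (MonoidHom.transfer
      (Abelianization.of : ↥(commutator G) →* Abelianization ↥(commutator G)) g) =
      ∑ q : Abelianization G, psi (g * out' q) := by
  classical
  let T : (commutator G).LeftTransversal :=
    ⟨Set.range Quotient.out, Subgroup.isComplement_range_left fun q => q.out_eq'⟩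
  have hT : ∀ q : G ⧸ commutator G, (T.2.leftQuotientEquiv q : G) = q.out := fun q =>
    Subgroup.IsComplement.leftQuotientEquiv_apply (fun q => q.out_eq') q
  rw [MonoidHom.transfer_def _ T, Subgroup.leftTransversals.diff, ofMul_prod]
  refine @Fintype.sum_equiv _ _ (Additive (Abelianization ↥(commutator G))) (commutator G).fintypeQuotientOfFiniteIndex ‹Fintype (Abelianization G)› _
    ((MulAction.toPerm g).symm.trans
    (Equiv.refl (G ⧸ commutator G) : G ⧸ commutator G ≃ Abelianization G))
    _ _ fun q => ?_
  unfold psi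
  congr 2
  apply Subtype.ext
  simp only [Subgroup.smul_apply_eq_smul_apply_inv_smul, hT, smul_eq_mul]
  obtain ⟨x, rfl⟩ := QuotientGroup.mk_surjective q
  show (x : G ⧸ commutator G).out⁻¹ * (g * ((g⁻¹ * x : G) : G ⧸ commutator G).out) =
    (out' (Abelianization.of (g * out' (Abelianization.of (g⁻¹ * x)))))⁻¹ *
      (g * out' (Abelianization.of (g⁻¹ * x)))
  have hq : Abelianization.of (g * out' (Abelianization.of (g⁻¹ * x))) = Abelianization.of x := by
    rw [map_mul, of_out', ← map_mul, mul_inv_cancel_left]
  rw [hq]
  rfl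

theorem pit [Finite G] :
    MonoidHom.transfer (Abelianization.of : ↥(commutator G) →* Abelianization ↥(commutator G)) =
      (1 : G →* Abelianization ↥(commutator G)) := by
  classical
  haveI := Fintype.ofFinite (Abelianization G)
  haveI := Fintype.ofFinite ↥(commutator G)
  obtain ⟨κ, iκ, n, hn, ⟨e⟩⟩ :=
    CommGroup.equiv_prod_multiplicative_zmod_of_finite (Abelianization G)
  have hne : ∀ i, NeZero (n i) := fun i => ⟨by have := hn i; omega⟩
  choose g hg using fun i : κ => QuotientGroup.mk_surjective (s := commutator G)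
    (e.symm (Pi.mulSingle i (Multiplicative.ofAdd (1 : ZMod (n i)))))
  have hg' : ∀ i, e (Abelianization.of (g i)) = Pi.mulSingle i (Multiplicative.ofAdd (1 : ZMod (n i))) := by
    intro i
    have hh : Abelianization.of (g i) = e.symm (Pi.mulSingle i (Multiplicative.ofAdd (1 : ZMod (n i)))) := hg i
    rw [hh, e.apply_symm_apply]
  have hpow : ∀ i, g i ^ n i ∈ commutator G := by
    intro i
    refine (QuotientGroup.eq_one_iff _).mp ?_
    show Abelianization.of (g i ^ n i) = 1
    apply e.injective
    rw [map_pow, map_pow, hg', map_one e, ← Pi.mulSingle_pow, ← ofAdd_nsmul]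
    simp
  let b : κ ⊕ ↥(commutator G) → G := Sum.elim g (fun h => (h : G))
  have hgen : ∀ K : Subgroup G, (∀ j, b j ∈ K) → K = ⊤ := by
    intro K hK
    have hH : commutator G ≤ K := fun h hh => hK (Sum.inr ⟨h, hh⟩)
    let Φ : G →* ((i : κ) → Multiplicative (ZMod (n i))) :=
      e.toMonoidHom.comp Abelianization.of
    have hker : Φ.ker ≤ K := by
      intro x hx
      apply hH
      refine (QuotientGroup.eq_one_iff _).mp ?_
      show Abelianization.of x = 1
      apply e.injective
      rw [map_one e]
      exact hx
    have hall : ∀ v, v ∈ K.map Φ := by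
      intro v
      apply Subgroup.pi_mem_of_mulSingle_mem
      intro i
      have hv : v i = (Multiplicative.ofAdd (1 : ZMod (n i))) ^ (Multiplicative.toAdd (v i)).val := by
        rw [← ofAdd_nsmul]
        simp
      rw [hv, Pi.mulSingle_pow]
      exact Subgroup.pow_mem _ (Subgroup.mem_map.mpr ⟨g i, hK (Sum.inl i), hg' i⟩) _
    rw [eq_top_iff]
    intro x _
    obtain ⟨y, hy, hxy⟩ := hall (Φ x)
    have : y⁻¹ * x ∈ K := hker (by simp [MonoidHom.mem_ker, hxy])
    simpa using K.mul_mem hy this
  let δ : κ ⊕ ↥(commutator G) → MonoidAlgebra ℤ G := fun j => delta (b j)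
  have hY : ∀ x : G, ∃ c : κ ⊕ ↥(commutator G) → MonoidAlgebra ℤ G, delta x = ∑ j, δ j * c j := by
    let K := predSubgroup (G := G) (fun a => ∃ c : κ ⊕ ↥(commutator G) → MonoidAlgebra ℤ G, a = ∑ j, δ j * c j)
      ⟨0, by simp⟩
      (by rintro a a' ⟨c, rfl⟩ ⟨c', rfl⟩; exact ⟨c + c', by simp only [Pi.add_apply, mul_add, Finset.sum_add_distrib]⟩)
      (by rintro a ⟨c, rfl⟩; exact ⟨-c, by simp only [Pi.neg_apply, mul_neg, Finset.sum_neg_distrib]⟩)
      (by rintro a z ⟨c, rfl⟩; exact ⟨fun j => c j * single z 1, by simp only [Finset.sum_mul, mul_assoc]⟩)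
    have hKtop : K = ⊤ := hgen K fun j => ⟨Pi.single j 1, by simp [δ, Pi.single_apply]⟩
    intro x
    have : x ∈ K := hKtop ▸ Subgroup.mem_top x
    exact this
  have hY2 : ∀ h : ↥(commutator G), ∃ c : κ ⊕ ↥(commutator G) → MonoidAlgebra ℤ G,
      delta (h : G) = ∑ j, δ j * c j ∧ ∀ j, eps G (c j) = 0 := by
    let K := predSubgroup (G := G) (fun a => ∃ c : κ ⊕ ↥(commutator G) → MonoidAlgebra ℤ G,
        a = ∑ j, δ j * c j ∧ ∀ j, eps G (c j) = 0)
      ⟨0, by simp⟩
      (by rintro a a' ⟨c, rfl, hc⟩ ⟨c', rfl, hc'⟩
          exact ⟨c + c', by simp only [Pi.add_apply, mul_add, Finset.sum_add_distrib], by simp [hc, hc']⟩)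
      (by rintro a ⟨c, rfl, hc⟩; exact ⟨-c, by simp only [Pi.neg_apply, mul_neg, Finset.sum_neg_distrib], by simp [hc]⟩)
      (by rintro a z ⟨c, rfl, hc⟩
          exact ⟨fun j => c j * single z 1, by simp only [Finset.sum_mul, mul_assoc], by simp [hc]⟩)
    have hle : commutator G ≤ K := by
      rw [commutator_def, Subgroup.commutator_le]
      intro x _ y _
      obtain ⟨cx, hcx⟩ := hY x
      obtain ⟨cy, hcy⟩ := hY y
      refine ⟨fun j => (cx j * delta y - cy j * delta x) * single (x⁻¹ * y⁻¹) 1, ?_, ?_⟩
      · rw [delta_commutator]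
        conv_lhs => rw [show delta x * delta y = (∑ j, δ j * cx j) * delta y by rw [← hcx],
          show delta y * delta x = (∑ j, δ j * cy j) * delta x by rw [← hcy]]
        simp only [Finset.sum_mul, ← Finset.sum_sub_distrib]
        exact Finset.sum_congr rfl fun j _ => by noncomm_ring
      · intro j
        simp [eps_delta]
    exact fun h => hle h.2
  choose c2 hc2 hc2e using hY2
  let cm : Matrix (κ ⊕ ↥(commutator G)) (κ ⊕ ↥(commutator G)) (MonoidAlgebra ℤ G) :=
    Matrix.of (Sum.elim
      (fun i => Pi.single (Sum.inl i) (-∑ k ∈ Finset.range (n i), single (g i) (1 : ℤ) ^ k) +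
        Pi.single (Sum.inr ⟨g i ^ n i, hpow i⟩) 1)
      (fun h => Pi.single (Sum.inr h) 1 - c2 h))
  have hrel : ∀ r, ∑ j, δ j * cm r j = 0 := by
    rintro (i | h)
    · simp only [cm, Matrix.of_apply, Sum.elim_inl, Pi.add_apply, mul_add, Finset.sum_add_distrib,
        Pi.single_apply, mul_ite, mul_zero, Finset.sum_ite_eq', Finset.mem_univ, if_true]
      show delta (g i) * -_ + delta (g i ^ n i) * 1 = 0
      rw [mul_neg, mul_one, delta, mul_geom_sum, delta, MonoidAlgebra.single_pow, one_pow]
      simp
    · simp only [cm, Matrix.of_apply, Sum.elim_inr, Pi.sub_apply, mul_sub, Finset.sum_sub_distrib,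
        Pi.single_apply, mul_ite, mul_zero, Finset.sum_ite_eq', Finset.mem_univ, if_true]
      show delta (h : G) * 1 - _ = 0
      rw [mul_one, hc2 h, sub_self]
  let μ : Matrix (κ ⊕ ↥(commutator G)) (κ ⊕ ↥(commutator G)) (MonoidAlgebra ℤ (Abelianization G)) :=
    cm.map red
  have hsurj : ∀ x : MonoidAlgebra ℤ (Abelianization G), ∃ a, red a = x := by
    intro x
    induction x using MonoidAlgebra.induction_linear with
    | zero => exact ⟨0, map_zero _⟩
    | add x y hx hy =>
      obtain ⟨a, rfl⟩ := hx
      obtain ⟨a', rfl⟩ := hy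
      exact ⟨a + a', map_add _ _ _⟩
    | single q m => exact ⟨single (out' q) m, by rw [red_single, of_out']⟩
  have hrelR : ∀ r, ∑ j, red (δ j) * μ r j = 0 := by
    intro r
    rw [← map_zero red, ← hrel r, map_sum]
    simp [μ]
  have hinv : ∀ j, ∀ q, μ.det.coeff ((Abelianization.of (b j))⁻¹ * q) = μ.det.coeff q := by
    intro j q
    have h := det_rel (fun j => AddMonoidHom.mulLeft (red (δ j))) μ
      (fun r x => by
        simp only [AddMonoidHom.coe_mulLeft, ← mul_assoc, ← Finset.sum_mul, hrelR r, zero_mul]) j 1
    simp only [AddMonoidHom.coe_mulLeft, mul_one, δ, delta, map_sub, red_single, map_one, sub_mul,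
      one_mul, sub_eq_zero] at h
    have h' := congrArg (fun z => z.coeff q) h
    simpa [coeff_single_mul_apply] using h'
  have hconst : ∀ x : G, ∀ q, μ.det.coeff (Abelianization.of x * q) = μ.det.coeff q := by
    let K : Subgroup G :=
    { carrier := {x | ∀ q, μ.det.coeff (Abelianization.of x * q) = μ.det.coeff q}
      one_mem' := by simp
      mul_mem' := fun {a a'} ha ha' q => by rw [map_mul Abelianization.of, mul_assoc, ha, ha']
      inv_mem' := fun {a} ha q => by
        have := ha (Abelianization.of a⁻¹ * q)
        rw [← mul_assoc, ← map_mul Abelianization.of, mul_inv_cancel, map_one Abelianization.of, one_mul] at this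
        exact this.symm }
    have hKtop : K = ⊤ := hgen K fun j q => by
      have := hinv j (Abelianization.of (b j) * q)
      simpa using this.symm
    intro x
    have : x ∈ K := hKtop ▸ Subgroup.mem_top x
    exact this
  set c := μ.det.coeff 1 with hc
  have hdet : μ.det = ∑ q : Abelianization G, single q c := by
    apply MonoidAlgebra.ext
    ext q
    have := hconst (out' q) 1
    rw [of_out', mul_one] at this
    simp [this, ← hc, Finsupp.single_apply]
  have hcard : (Fintype.card (Abelianization G) : ℤ) = ∏ i, (n i : ℤ) := by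
    rw [Fintype.card_congr e.toEquiv, Fintype.card_pi]
    simp
  have he : c * ∏ i, (n i : ℤ) = ∏ i, -(n i : ℤ) := by
    have h1 : eps _ μ.det = c * ∏ i, (n i : ℤ) := by
      rw [hdet, map_sum, ← hcard]
      simp [eps_single, mul_comm]
    rw [← h1, RingHom.map_det]
    have hm : (eps (Abelianization G)).mapMatrix μ = Matrix.fromBlocks
        (Matrix.diagonal fun i => -(n i : ℤ))
        (Matrix.of fun i h => if h = (⟨g i ^ n i, hpow i⟩ : ↥(commutator G)) then (1 : ℤ) else 0)
        0 1 := by
      ext (i | h) (j | k)
      · rcases eq_or_ne i j with rfl | hij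
        · simp [μ, cm, eps_red, eps_single, single_pow]
        · simp [μ, cm, eps_red, hij, Ne.symm hij]
      · simp [μ, cm, eps_red, Pi.single_apply, apply_ite (eps G)]
      · simp [μ, cm, eps_red, hc2e]
      · rcases eq_or_ne h k with rfl | hij
        · simp [μ, cm, eps_red, hc2e]
        · simp [μ, cm, eps_red, hij, Ne.symm hij, hc2e]
    rw [hm, Matrix.det_fromBlocks_zero₂₁, Matrix.det_diagonal, Matrix.det_one, mul_one]
  have hcc : c * c = 1 := by
    rw [Finset.prod_neg] at he
    have hp : (∏ i, (n i : ℤ)) ≠ 0 := Finset.prod_ne_zero_iff.mpr fun i _ => by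
      have := hn i; omega
    have h2 := mul_right_cancel₀ hp he
    rw [h2, ← mul_pow]
    norm_num
  have hzero : ∀ j, MonoidHom.transfer
      (Abelianization.of : ↥(commutator G) →* Abelianization ↥(commutator G)) (b j) = 1 := by
    intro j
    have hF : ∀ r x, ∑ j, F (b j) (μ r j * x) = 0 := by
      intro r x
      obtain ⟨a, rfl⟩ := hsurj x
      simp only [μ, Matrix.map_apply, ← map_mul, ← P_delta]
      rw [← map_sum]
      simp only [← mul_assoc, ← Finset.sum_mul]
      rw [show ∑ j, delta (b j) * cm r j = 0 from hrel r, zero_mul, map_zero]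
    have h := det_rel (fun j => F (b j)) μ hF j 1
    rw [mul_one, hdet, map_sum] at h
    simp only [F_single, ← Finset.smul_sum, ← transfer_eq] at h
    have h' := congrArg (fun z => c • z) h
    simp only [smul_smul, hcc, one_smul, smul_zero] at h'
    exact h'
  have hk := hgen (MonoidHom.transfer
      (Abelianization.of : ↥(commutator G) →* Abelianization ↥(commutator G))).ker
    fun j => hzero j
  exact MonoidHom.ker_eq_top_iff.mp hk

end Cfsg.Agent.PIT

/-- The Principal Ideal Theorem of class field theory in its group-theoretic form: for every finite group `G`, the transfer homomorphism from `G` into the abelianization `G'/G''` of its derived subgroup `G'` is the trivial homomorphism. -/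
theorem result {G : Type*} [Group G] [Finite G] :
    MonoidHom.transfer (Abelianization.of : ↥(commutator G) →* Abelianization ↥(commutator G)) =
      (1 : G →* Abelianization ↥(commutator G)) := by
  exact Cfsg.Agent.PIT.pit

end Cfsg.Agent.S4320
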