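import Cfsg.Statements.S4321
import Cfsg.Agent.Lib.ClassSizeGraph76
import Cfsg.Agent.Lib.HallSystem
import Cfsg.Agent.Lib.CoprimeAction
import Cfsg.Agent.Lib.PGroupsBasic
-- import your own Cfsg.Agent.* helpers here

set_option autoImplicit false
open Cfsg

namespace Cfsg.Agent.S4321

open Cfsg.Agent.ClassSizeGraph76
open scoped commutatorElement

/-- adjacency -/
def Adj (G : Type*) [Group G] (p a b : ℕ) : Prop :=
  ∃ x : G, p ∣ orderOf x ∧ a * b ∣ cs x

theorem Adj.symm {G : Type*} [Group G] {p a b : ℕ} (h : Adj G p a b) : Adj G p b a := by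
  obtain ⟨x, h1, h2⟩ := h
  exact ⟨x, h1, by rwa [mul_comm]⟩

set_option linter.unusedSectionVars false
set_option linter.style.haveILetI false

variable {G : Type*} [Group G] [Finite G] {p : ℕ} [hp : Fact p.Prime]

theorem adj_of_dvd {a b : ℕ} (ha : a.Prime) (hb : b.Prime) (hne : a ≠ b) {x : G}
    (hx : p ∣ orderOf x) (h1 : a ∣ cs x) (h2 : b ∣ cs x) : Adj G p a b :=
  ⟨x, hx, ((Nat.coprime_primes ha hb).mpr hne).mul_dvd_of_dvd_of_dvd h1 h2⟩

/-- `x` is a `p`-element -/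
def IsPEl (p : ℕ) (x : G) : Prop := ∃ k : ℕ, orderOf x = p ^ k

theorem isPEl_of_order {x : G} (h : orderOf x = p) : IsPEl p x := ⟨1, by rw [h, pow_one]⟩

theorem isPGroup_zpowers {x : G} (h : IsPEl p x) : IsPGroup p (Subgroup.zpowers x) := by
  obtain ⟨k, hk⟩ := h
  exact IsPGroup.of_card (n := k) (by rw [Nat.card_zpowers, hk])

theorem conj_sylow {a x : G} (hx : IsPEl p x) (ha : ¬ p ∣ cs a) :
    ∃ g : G, Commute a (g * x * g⁻¹) := by
  obtain ⟨P, hP⟩ := exists_sylow_le ha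
  obtain ⟨Q, hQ⟩ := (isPGroup_zpowers hx).exists_le_sylow
  obtain ⟨g, hg⟩ := MulAction.exists_smul_eq G Q P
  refine ⟨g, ?_⟩
  have h1 : g * x * g⁻¹ ∈ (P : Subgroup G) := by
    rw [← hg]
    exact ⟨x, hQ (Subgroup.mem_zpowers x), rfl⟩
  exact (mem_cent.mp (hP h1)).symm

theorem comm_of_coprime {a b : G} (hb : IsPEl p b) (ha : ¬ p ∣ cs a)
    (hco : (cs a).Coprime (cs b)) : Commute a b := by
  obtain ⟨g, hg⟩ := conj_sylow hb ha
  obtain ⟨d, hd1, hd2⟩ := exists_conj_pair hco (self_mem_cls a) ⟨g, rfl⟩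
  simp only at hd2
  have h' : Commute (d * a * d⁻¹) (d * b * d⁻¹) := by rw [hd1, hd2]; exact hg
  exact (Commute.conj_iff d).mp h'

theorem sylow_normal_mem {H : Type*} [Group H] [Finite H] (P : Sylow p H)
    [hn : (P : Subgroup H).Normal] {x : H} (hx : ∃ k : ℕ, orderOf x = p ^ k) :
    x ∈ (P : Subgroup H) := by
  obtain ⟨k, hk⟩ := hx
  have hsup : IsPGroup p ↥((P : Subgroup H) ⊔ Subgroup.zpowers x) :=
    P.2.to_sup_of_normal_left (IsPGroup.of_card (n := k) (by rw [Nat.card_zpowers, hk]))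
  have := P.3 hsup le_sup_left
  rw [← this]
  exact Subgroup.mem_sup_right (Subgroup.mem_zpowers x)

theorem exists_pPart (g : G) :
    ∃ x y : G, x * y = g ∧ Commute x y ∧ (∃ k, orderOf x = p ^ k) ∧ ¬ p ∣ orderOf y := by
  have hp := hp.out
  obtain ⟨a, o, ho, hg⟩ := Nat.exists_eq_pow_mul_and_not_dvd (orderOf_pos g).ne' p hp.ne_one
  have hcop : IsCoprime ((p ^ a : ℕ) : ℤ) (o : ℤ) :=
    Int.isCoprime_iff_nat_coprime.mpr (by simpa using (hp.coprime_iff_not_dvd.mpr ho).pow_left a)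
  obtain ⟨c, d, hcd⟩ := hcop
  refine ⟨g ^ (d * o), g ^ (c * (p ^ a : ℕ)), ?_, ?_, ?_, ?_⟩
  · rw [← zpow_add, add_comm, hcd, zpow_one]
  · exact (Commute.refl g).zpow_zpow _ _
  · obtain ⟨k, -, hk⟩ := (Nat.dvd_prime_pow hp).mp (show orderOf (g ^ (d * o)) ∣ p ^ a by
      rw [orderOf_dvd_iff_pow_eq_one, ← zpow_natCast, ← zpow_mul,
        show d * (o : ℤ) * ((p ^ a : ℕ) : ℤ) = (orderOf g : ℤ) * d by rw [hg]; push_cast; ring,
        zpow_mul, zpow_natCast, pow_orderOf_eq_one, one_zpow])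
    exact ⟨k, hk⟩
  · intro h
    refine ho (h.trans ?_)
    rw [orderOf_dvd_iff_pow_eq_one, ← zpow_natCast, ← zpow_mul,
      show c * ((p ^ a : ℕ) : ℤ) * (o : ℤ) = (orderOf g : ℤ) * c by rw [hg]; push_cast; ring,
      zpow_mul, zpow_natCast, pow_orderOf_eq_one, one_zpow]

/-- If the `p'`-elements centralise Sylow subgroups then `H = P C(P)`. -/
theorem cover {H : Type*} [Group H] [Finite H] (P : Sylow p H)
    (h : ∀ w : H, ¬ p ∣ orderOf w → ¬ p ∣ (Subgroup.centralizer ({w} : Set H)).index) :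
    (P : Subgroup H) ⊔ Subgroup.centralizer ((P : Subgroup H) : Set H) = ⊤ := by
  refine eq_top_of_conj_cover _ fun g => ?_
  obtain ⟨u, w, huw, hcomm, hu, hw⟩ := exists_pPart (p := p) g
  have hC := h w hw
  have huC : u ∈ Subgroup.centralizer ({w} : Set H) := mem_cent.mpr hcomm.eq
  obtain ⟨k0, hk0⟩ := hu
  have hzp : IsPGroup p ↥((Subgroup.zpowers u).subgroupOf (Subgroup.centralizer ({w} : Set H))) :=
    (IsPGroup.of_card (n := k0) (by rw [Nat.card_zpowers, hk0])).comap_of_injective _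
      (Subgroup.subtype_injective _)
  obtain ⟨Q, hQ⟩ := hzp.exists_le_sylow
  have hidx : ¬ p ∣ ((Q : Subgroup _).map (Subgroup.centralizer ({w} : Set H)).subtype).index := by
    rw [Subgroup.index_map_subtype]
    intro hd
    rcases hp.out.dvd_mul.mp hd with hd | hd
    · exact Q.not_dvd_index hd
    · exact hC hd
  set S := (Q.2.map (Subgroup.centralizer ({w} : Set H)).subtype).toSylow hidx with hS
  obtain ⟨k, hk⟩ := MulAction.exists_smul_eq H S P
  refine ⟨k, ?_⟩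
  have hmem : ∀ v ∈ (S : Subgroup H), k * v * k⁻¹ ∈ (P : Subgroup H) := fun v hv => by
    rw [← hk]
    exact ⟨v, hv, rfl⟩
  have huS : u ∈ (S : Subgroup H) :=
    ⟨⟨u, huC⟩, hQ (Subgroup.mem_subgroupOf.mpr (Subgroup.mem_zpowers u)), rfl⟩
  rw [← huw, show k * (u * w) * k⁻¹ = (k * u * k⁻¹) * (k * w * k⁻¹) by group]
  refine mul_mem (Subgroup.mem_sup_left (hmem u huS))
    (Subgroup.mem_sup_right (Subgroup.mem_centralizer_iff.mpr fun v hv => ?_))
  rw [SetLike.mem_coe, ← hk] at hv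
  obtain ⟨v', hv', rfl⟩ := hv
  obtain ⟨v'', -, rfl⟩ := hv'
  exact ((Commute.conj_iff k).mpr (mem_cent.mp v''.2 : Commute (v'' : H) w)).eq

/-- The key: two elements of order `p` with linked class sizes. -/
theorem linked (hZ : ¬ p ∣ Nat.card ↥(Subgroup.center G)) {x1 x2 : G} (h1 : orderOf x1 = p)
    (h2 : orderOf x2 = p) :
    ∃ a b : ℕ, a.Prime ∧ b.Prime ∧ a ∣ cs x1 ∧ b ∣ cs x2 ∧ (a = b ∨ Adj G p a b) := by
  suffices ∀ x1 x2 : G, orderOf x1 = p → orderOf x2 = p → (cs x1).Coprime (cs x2) →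
      ¬ p ∣ cs x1 → (∀ a b : ℕ, a.Prime → b.Prime → a ∣ cs x1 → b ∣ cs x2 → ¬ Adj G p a b) →
      False by
    by_contra hno
    have hfail : ∀ a b : ℕ, a.Prime → b.Prime → a ∣ cs x1 → b ∣ cs x2 → ¬ (a = b ∨ Adj G p a b) :=
      fun a b ha hb h3 h4 h5 => hno ⟨a, b, ha, hb, h3, h4, h5⟩
    have hco : (cs x1).Coprime (cs x2) := by
      rw [Nat.coprime_iff_gcd_eq_one]
      by_contra hg
      obtain ⟨a, ha, had⟩ := Nat.exists_prime_and_dvd hg
      exact hfail a a ha ha (had.trans (Nat.gcd_dvd_left _ _)) (had.trans (Nat.gcd_dvd_right _ _))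
        (Or.inl rfl)
    by_cases hp1 : p ∣ cs x1
    · refine this x2 x1 h2 h1 hco.symm (fun hp2 => hfail p p hp.out hp.out hp1 hp2 (Or.inl rfl))
        fun a b ha hb h3 h4 h5 => hfail b a hb ha h4 h3 (Or.inr h5.symm)
    · exact this x1 x2 h1 h2 hco hp1 fun a b ha hb h3 h4 h5 => hfail a b ha hb h3 h4 (Or.inr h5)
  clear! x1 x2
  intro x1 x2 h1 h2 hco hp1 hfail
  have hnc : ∀ x : G, orderOf x = p → ∃ g : G, g * x * g⁻¹ ≠ x := by
    intro x hx
    by_contra hall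
    refine hZ ?_
    have hmem : x ∈ Subgroup.center G := Subgroup.mem_center_iff.mpr fun g =>
      mul_inv_eq_iff_eq_mul.mp (Classical.byContradiction fun hne => hall ⟨g, hne⟩)
    exact hx ▸ Subgroup.orderOf_dvd_natCard _ hmem
  have hgt : ∀ x : G, orderOf x = p → ∃ a : ℕ, a.Prime ∧ a ∣ cs x := by
    intro x hx
    refine Nat.exists_prime_and_dvd fun h => ?_
    obtain ⟨g, hg⟩ := hnc x hx
    exact hg (mul_inv_eq_iff_eq_mul.mpr (mem_cent.mp
      ((Subgroup.index_eq_one.mp h).ge (Subgroup.mem_top g))))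
  obtain ⟨a0, ha0, ha0d⟩ := hgt x1 h1
  have hcomm : Commute x1 x2 := comm_of_coprime (isPEl_of_order h2) hp1 hco
  -- absorption
  have habs : ∀ u v : G, orderOf u = p → orderOf v = p → (cs u).Coprime (cs v) → Commute u v →
      (cs (u * v)).Coprime (cs u) → p ∣ cs v ∧ ∀ g : G, g * u * g⁻¹ * u⁻¹ ∈ clsStab v := by
    intro u v hu hv hcouv huv hcy
    have hle : cs (v * u) ≤ cs v := by
      rw [← huv.eq]
      exact Nat.le_of_dvd (cs_pos v) (hcy.dvd_of_dvd_mul_left (cs_mul_dvd hcouv))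
    have hab := absorb hcouv.symm hle
    refine ⟨?_, hab⟩
    obtain ⟨g, hg⟩ := hnc u hu
    set t := g * u * g⁻¹ * u⁻¹ with ht
    have ht1 : t ≠ 1 := fun e => hg (mul_inv_eq_one.mp e)
    obtain ⟨d, hd1, hd2⟩ := exists_conj_pair hcouv ⟨g, rfl⟩ (self_mem_cls v)
    have htv : Commute v t := by
      refine Commute.mul_right ?_ huv.symm.inv_right
      simp only at hd1
      have h' : Commute (d * v * d⁻¹) (d * u * d⁻¹) := (Commute.conj_iff d).mpr huv.symm
      rwa [hd1, hd2] at h'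
    have htp : t ^ p = 1 := by
      obtain ⟨k, hk⟩ := mem_clsStab.mp (hab g) v (self_mem_cls v)
      have hpow : (v * t) ^ p = 1 := by
        rw [← hk, conj_pow, ← hv, pow_orderOf_eq_one, mul_one, mul_inv_cancel]
      rwa [htv.mul_pow, ← hv, pow_orderOf_eq_one, one_mul, hv] at hpow
    have hto : orderOf t = p := orderOf_eq_prime htp ht1
    exact hto ▸ (Subgroup.orderOf_dvd_natCard _ (hab g)).trans (card_clsStab_dvd v)
  set y0 := x1 * x2 with hy0
  have hy1 : y0 ≠ 1 := by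
    intro e
    have he : x1 = x2⁻¹ := eq_inv_of_mul_eq_one_left e
    have hcs : cs x1 = cs x2 := by
      unfold cs
      congr 1
      ext g
      rw [mem_cent, mem_cent, he]
      exact Commute.inv_right_iff
    rw [← hcs, Nat.coprime_self] at hco
    rw [hco] at ha0d
    exact ha0.one_lt.ne' (Nat.dvd_one.mp ha0d)
  have hy0o : orderOf y0 = p := orderOf_eq_prime
    (by rw [hy0, hcomm.mul_pow, ← h1, pow_orderOf_eq_one, h1, ← h2, pow_orderOf_eq_one, mul_one]) hy1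
  have hone : (cs y0).Coprime (cs x1) ∨ (cs y0).Coprime (cs x2) := by
    by_contra h
    rw [not_or, Nat.coprime_iff_gcd_eq_one, Nat.coprime_iff_gcd_eq_one] at h
    obtain ⟨a, ha, had⟩ := Nat.exists_prime_and_dvd h.1
    obtain ⟨b, hb, hbd⟩ := Nat.exists_prime_and_dvd h.2
    have ha1 := had.trans (Nat.gcd_dvd_right _ _)
    have hb2 := hbd.trans (Nat.gcd_dvd_right _ _)
    refine hfail a b ha hb ha1 hb2 (adj_of_dvd ha hb (fun e => ?_) (by rw [hy0o])
      (had.trans (Nat.gcd_dvd_left _ _)) (hbd.trans (Nat.gcd_dvd_left _ _)))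
    exact ha.one_lt.ne' (Nat.eq_one_of_dvd_coprimes hco ha1 (e ▸ hb2))
  obtain ⟨hp2, hstab⟩ : p ∣ cs x2 ∧ ∀ g : G, g * x1 * g⁻¹ * x1⁻¹ ∈ clsStab x2 := by
    rcases hone with h | h
    · exact habs x1 x2 h1 h2 hco hcomm h
    · rw [hy0, hcomm.eq] at h
      exact absurd (habs x2 x1 h2 h1 hco.symm hcomm.symm h).1 hp1
  have hCL : Subgroup.centralizer (clsStab x2 : Set G) ≤ Subgroup.centralizer ({x1} : Set G) :=
    centralizer_le hstab ((hco.symm).coprime_dvd_left (card_clsStab_dvd x2))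
  have hkill : ∀ (a : ℕ) (y : G), a.Prime → a ∣ cs x1 → p ∣ orderOf y → a ∣ cs y → p ∣ cs y →
      False := fun a y ha had hy hay hpy =>
    hfail a p ha hp.out had hp2 (adj_of_dvd ha hp.out (fun e => hp1 (e ▸ had)) hy hay hpy)
  -- the centraliser of `x1`
  obtain ⟨P, hP⟩ := exists_sylow_le hp1
  set C := Subgroup.centralizer ({x1} : Set G) with hC
  have hwidx : ∀ w : C, ¬ p ∣ orderOf w → ¬ p ∣ (Subgroup.centralizer ({w} : Set C)).index := by
    intro w hw hd
    have hwc : Commute x1 (w : G) := (mem_cent.mp w.2).symm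
    rw [← Subgroup.orderOf_coe] at hw
    have hyo : orderOf (x1 * (w : G)) = p * orderOf (w : G) := by
      rw [hwc.orderOf_mul_eq_mul_orderOf_of_coprime
        (by rw [h1]; exact hp.out.coprime_iff_not_dvd.mpr hw), h1]
    have hxm : x1 ∈ Subgroup.zpowers (x1 * (w : G)) := by
      have hpw : (x1 * (w : G)) ^ orderOf (w : G) = x1 ^ orderOf (w : G) := by
        rw [hwc.mul_pow, pow_orderOf_eq_one, mul_one]
      have hco' : (orderOf x1).Coprime (orderOf (w : G)) := by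
        rw [h1]; exact hp.out.coprime_iff_not_dvd.mpr hw
      obtain ⟨m, hm⟩ := exists_pow_eq_self_of_coprime (x := x1) hco'.symm
      rw [← hpw] at hm
      have hmem : ((x1 * (w : G)) ^ orderOf (w : G)) ^ m ∈ Subgroup.zpowers (x1 * (w : G)) := pow_mem (pow_mem (Subgroup.mem_zpowers (x1 * (w : G))) _) m
      rwa [hm] at hmem
    have hle : Subgroup.centralizer ({x1 * (w : G)} : Set G) ≤
        (Subgroup.centralizer ({w} : Set C)).map C.subtype := by
      intro g hg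
      have hgy : Commute g (x1 * (w : G)) := mem_cent.mp hg
      obtain ⟨m, hm⟩ := Subgroup.mem_zpowers_iff.mp hxm
      have hgx : Commute g x1 := hm ▸ hgy.zpow_right m
      have hgw : Commute g (w : G) := by
        have := hgx.inv_right.mul_right hgy
        rwa [inv_mul_cancel_left] at this
      exact ⟨⟨g, mem_cent.mpr hgx.eq⟩, mem_cent.mpr (Subtype.ext hgw.eq), rfl⟩
    have hdy := Subgroup.index_dvd_of_le hle
    rw [Subgroup.index_map_subtype] at hdy
    exact hkill a0 (x1 * (w : G)) ha0 ha0d (hyo ▸ dvd_mul_right _ _)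
      (ha0d.trans ((dvd_mul_left _ _).trans hdy)) (hd.trans ((dvd_mul_right _ _).trans hdy))
  have hPC : ∀ v ∈ (P : Subgroup G), v ∈ C := hP
  set PC : Sylow p C := P.subtype hP with hPCdef
  have hPCmem : ∀ v : C, v ∈ (PC : Subgroup C) ↔ (v : G) ∈ (P : Subgroup G) := fun v => by
    rw [hPCdef, Sylow.coe_subtype, Subgroup.mem_subgroupOf]
  have hcov := cover PC hwidx
  haveI hPn : (PC : Subgroup C).Normal := by
    rw [← Subgroup.normalizer_eq_top_iff, eq_top_iff, ← hcov, sup_le_iff]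
    refine ⟨Subgroup.le_normalizer, fun c hc => Subgroup.mem_normalizer_iff.mpr fun v => ?_⟩
    have hcv : ∀ u ∈ (PC : Subgroup C), c * u * c⁻¹ = u ∧ c⁻¹ * u * c = u := fun u hu => by
      have := Subgroup.mem_centralizer_iff.mp hc u hu
      exact ⟨by rw [← this, mul_inv_cancel_right], by rw [mul_assoc, this, inv_mul_cancel_left]⟩
    constructor
    · intro hv
      rw [(hcv v hv).1]
      exact hv
    · intro hv
      have := (hcv _ hv).2
      rw [show c⁻¹ * (c * v * c⁻¹) * c = v by group] at this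
      exact this ▸ hv
  have hdec : ∀ c ∈ C, ∃ u ∈ (P : Subgroup G), ∃ k : G, c = u * k ∧
      ∀ v ∈ (P : Subgroup G), Commute k v := by
    intro c hc
    have hmem : (⟨c, hc⟩ : C) ∈ (PC : Subgroup C) ⊔
        Subgroup.centralizer ((PC : Subgroup C) : Set C) := by rw [hcov]; exact Subgroup.mem_top _
    obtain ⟨u, hu, k, hk, huk⟩ := Subgroup.mem_sup_of_normal_left.mp hmem
    refine ⟨(u : G), (hPCmem u).mp hu, (k : G), (congrArg Subtype.val huk).symm, fun v hv => ?_⟩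
    exact (congrArg Subtype.val
      (Subgroup.mem_centralizer_iff.mp hk ⟨v, hPC v hv⟩ ((hPCmem _).mpr hv))).symm
  have hmemP : ∀ v ∈ C, IsPEl p v → v ∈ (P : Subgroup G) := by
    intro v hv ⟨k, hk⟩
    exact (hPCmem ⟨v, hv⟩).mp (sylow_normal_mem PC ⟨k, by rw [Subgroup.orderOf_mk, hk]⟩)
  have hPel : ∀ v ∈ (P : Subgroup G), IsPEl p v := by
    intro v hv
    obtain ⟨k, hk⟩ := IsPGroup.iff_orderOf.mp P.2 ⟨v, hv⟩
    exact ⟨k, by rwa [Subgroup.orderOf_mk] at hk⟩
  -- classes divisible by `p`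
  have hbig : ∀ y ∈ (P : Subgroup G), p ∣ cs y → ∀ g : G, ∃ u ∈ (P : Subgroup G),
      g * y * g⁻¹ = u * y * u⁻¹ := by
    intro y hy hpy g
    have hpo : p ∣ orderOf y := by
      obtain ⟨k, hk⟩ := hPel y hy
      rcases Nat.eq_zero_or_pos k with rfl | hk0
      · rw [pow_zero, orderOf_eq_one_iff] at hk
        subst hk
        have : cs (1 : G) = 1 := by
          unfold cs
          rw [Subgroup.index_eq_one, eq_top_iff]
          exact fun g _ => mem_cent.mpr (by simp)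
        rw [this] at hpy
        exact absurd (Nat.dvd_one.mp hpy) hp.out.ne_one
      · rw [hk]
        exact dvd_pow_self p hk0.ne'
    have hcop : (cs x1).Coprime (cs y) := by
      rw [Nat.coprime_iff_gcd_eq_one]
      by_contra hg
      obtain ⟨a, ha, had⟩ := Nat.exists_prime_and_dvd hg
      exact hkill a y ha (had.trans (Nat.gcd_dvd_left _ _)) hpo
        (had.trans (Nat.gcd_dvd_right _ _)) hpy
    obtain ⟨c, hc, d, hd, rfl⟩ := HallSystem.exists_mul_of_coprime_index hcop g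
    obtain ⟨u, hu, k, rfl, hk⟩ := hdec c hc
    refine ⟨u, hu, ?_⟩
    have e1 : d * y * d⁻¹ = y := mul_inv_eq_iff_eq_mul.mpr (mem_cent.mp hd)
    have e2 : k * y * k⁻¹ = y := mul_inv_eq_iff_eq_mul.mpr (hk y hy).eq
    calc u * k * d * y * (u * k * d)⁻¹ = u * (k * (d * y * d⁻¹) * k⁻¹) * u⁻¹ := by group
      _ = u * y * u⁻¹ := by rw [e1, e2]
  -- a conjugate of `x2` in `P`
  obtain ⟨Q, hQ⟩ := (isPGroup_zpowers (isPEl_of_order h2)).exists_le_sylow
  obtain ⟨g2, hg2⟩ := MulAction.exists_smul_eq G Q P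
  set s2 := g2 * x2 * g2⁻¹ with hs2
  have hs2P : s2 ∈ (P : Subgroup G) := by
    rw [← hg2]
    exact ⟨x2, hQ (Subgroup.mem_zpowers x2), rfl⟩
  have hs2cs : cs s2 = cs x2 := cs_conj x2 g2
  have hs2p : p ∣ cs s2 := hs2cs ▸ hp2
  obtain ⟨e, he⟩ : ∃ e : ℕ, cs x2 = p ^ e := by
    have hr : cls s2 = Set.range fun u : (P : Subgroup G) => (u : G) * s2 * (u : G)⁻¹ := by
      ext z
      constructor
      · rintro ⟨g, rfl⟩
        obtain ⟨u, hu, hgu⟩ := hbig s2 hs2P hs2p g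
        exact ⟨⟨u, hu⟩, hgu.symm⟩
      · rintro ⟨u, rfl⟩
        exact ⟨(u : G), rfl⟩
    have hn := ncard_range_eq_index
      ((Subgroup.centralizer ({s2} : Set G)).subgroupOf (P : Subgroup G))
      (fun u : (P : Subgroup G) => (u : G) * s2 * (u : G)⁻¹)
      (fun g h => by rw [conj_eq_iff, Subgroup.mem_subgroupOf]; rfl)
    rw [← hr, ncard_cls, hs2cs] at hn
    obtain ⟨m, hm⟩ := IsPGroup.iff_card.mp P.2
    obtain ⟨e, -, he⟩ := (Nat.dvd_prime_pow hp.out).mp
      (hn ▸ hm ▸ Subgroup.index_dvd_card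
        ((Subgroup.centralizer ({s2} : Set G)).subgroupOf (P : Subgroup G)))
    exact ⟨e, he⟩
  -- `P` is normal
  haveI hPnormal : (P : Subgroup G).Normal := by
    refine ⟨fun y hy g => ?_⟩
    by_cases hpy : p ∣ cs y
    · obtain ⟨u, hu, hgu⟩ := hbig y hy hpy g
      rw [hgu]
      exact mul_mem (mul_mem hu hy) (inv_mem hu)
    · have hyL : y ∈ Subgroup.centralizer (clsStab x2 : Set G) := by
        refine Subgroup.mem_centralizer_iff.mpr fun l hl => ?_
        have hcopy : ∀ s ∈ cls x2, Commute y s := by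
          rintro _ ⟨h, rfl⟩
          refine comm_of_coprime ⟨1, ?_⟩ hpy ?_
          · show orderOf (MulAut.conj h x2) = p ^ 1
            rw [MulEquiv.orderOf_eq, h2, pow_one]
          · show (cs y).Coprime (cs (h * x2 * h⁻¹))
            rw [cs_conj, he]
            exact (Nat.coprime_comm.mp (hp.out.coprime_iff_not_dvd.mpr hpy)).pow_right e
        have := (hcopy _ (self_mem_cls x2)).inv_right.mul_right
          (hcopy _ (mem_clsStab.mp hl x2 (self_mem_cls x2)))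
        rw [inv_mul_cancel_left] at this
        exact this.eq.symm
      refine hmemP _ (hCL ?_) ?_
      · exact (inferInstance : (Subgroup.centralizer (clsStab x2 : Set G)).Normal).conj_mem y hyL g
      · obtain ⟨k, hk⟩ := hPel y hy
        exact ⟨k, by rw [← MulAut.conj_apply, MulEquiv.orderOf_eq, hk]⟩
  -- `p'`-elements centralise `P`
  set Φ := (frattini (P : Subgroup G)).map (P : Subgroup G).subtype with hΦ
  haveI : Φ.Normal := inferInstance
  have hsmall : ∀ z ∈ (P : Subgroup G), ¬ p ∣ cs z → ∀ v ∈ (P : Subgroup G), Commute v z := by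
    intro z hz hpz v hv
    obtain ⟨S, hS⟩ := exists_sylow_le hpz
    obtain ⟨k, hk⟩ := MulAction.exists_smul_eq G P S
    have hSP : (S : Subgroup G) = (P : Subgroup G) := by
      rw [← hk]
      exact congrArg Sylow.toSubgroup (Sylow.smul_eq_of_normal (P := P) (g := k))
    exact mem_cent.mp (hS (hSP ▸ hv))
  have hmod : ∀ (w y : G), y ∈ (P : Subgroup G) → p ∣ cs y → w * y * w⁻¹ * y⁻¹ ∈ Φ := by
    intro w y hy hpy
    obtain ⟨u, hu, hwu⟩ := hbig y hy hpy w
    rw [hwu]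
    exact ⟨⁅(⟨u, hu⟩ : (P : Subgroup G)), ⟨y, hy⟩⁆, PGroupsBasic.commutator_le_frattini P.2
      (Subgroup.commutator_mem_commutator (Subgroup.mem_top _) (Subgroup.mem_top _)),
      by simp [commutatorElement_def]⟩
  have hmod' : ∀ (w y : G), y ∈ (P : Subgroup G) → w * y * w⁻¹ * y⁻¹ ∈ Φ := by
    intro w y hy
    by_cases hpy : p ∣ cs y
    · exact hmod w y hy hpy
    have hys : p ∣ cs (y * s2) := by
      by_contra hn
      have hc : ∀ v ∈ (P : Subgroup G), Commute v s2 := fun v hv => by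
        have h' := ((hsmall y hy hpy v hv).inv_right).mul_right
          (hsmall _ (mul_mem hy hs2P) hn v hv)
        rwa [inv_mul_cancel_left] at h'
      exact not_dvd_index_of_sylow_le P (fun v hv => mem_cent.mpr (hc v hv).eq) hs2p
    have h1' := hmod w (y * s2) (mul_mem hy hs2P) hys
    have h2' := hmod w s2 hs2P hs2p
    rw [← QuotientGroup.eq_one_iff] at h1' h2' ⊢
    simp only [QuotientGroup.mk_mul, QuotientGroup.mk_inv] at h1' h2' ⊢
    rw [mul_inv_eq_one] at h1' h2' ⊢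
    have : (w : G ⧸ Φ) * (y : G ⧸ Φ) * (w : G ⧸ Φ)⁻¹ * ((w : G ⧸ Φ) * (s2 : G ⧸ Φ) * (w : G ⧸ Φ)⁻¹)
        = (y : G ⧸ Φ) * (s2 : G ⧸ Φ) := by
      rw [← h1']; group
    rw [h2'] at this
    exact mul_right_cancel this
  obtain ⟨g, hg⟩ := hnc x1 h1
  obtain ⟨u, w, huw, hcuw, hu, hw⟩ := exists_pPart (p := p) g
  have hx1P : x1 ∈ (P : Subgroup G) := hmemP x1 (mem_cent.mpr rfl) (isPEl_of_order h1)
  have huC : u ∈ C := hPC u (sylow_normal_mem P hu)
  have hwC : w ∈ C := by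
    have hle : Subgroup.zpowers w ≤ Subgroup.centralizer ((P : Subgroup G) : Set G) := by
      refine CoprimeAction.le_centralizer_of_frattini
        (by rw [Subgroup.normalizer_eq_top_iff.mpr hPnormal]; exact le_top) ?_
        (fun a _ k hk => hmod' a k hk)
      obtain ⟨m, hm⟩ := IsPGroup.iff_card.mp (P.2.to_subgroup (frattini (P : Subgroup G)))
      rw [hm, Nat.card_zpowers]
      exact (Nat.coprime_comm.mp (hp.out.coprime_iff_not_dvd.mpr hw)).pow_right m
    exact mem_cent.mpr (Subgroup.mem_centralizer_iff.mp (hle (Subgroup.mem_zpowers w)) x1 hx1P).symm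
  exact hg (mul_inv_eq_iff_eq_mul.mpr (mem_cent.mp (huw ▸ mul_mem huC hwC)))

theorem linked_of_dvd {r : ℕ} (hr : r.Prime) {x : G} (hx : p ∣ orderOf x) (hrx : r ∣ cs x) :
    ∃ x1 : G, orderOf x1 = p ∧ ∀ a : ℕ, a.Prime → a ∣ cs x1 → r = a ∨ Adj G p r a := by
  refine ⟨x ^ (orderOf x / p), orderOf_pow_orderOf_div (orderOf_pos x).ne' hx, fun a ha had => ?_⟩
  by_cases hra : r = a
  · exact Or.inl hra
  refine Or.inr (adj_of_dvd hr ha hra hx hrx (had.trans (Subgroup.index_dvd_of_le fun g hg => ?_)))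
  have hgc : Commute g x := mem_cent.mp hg
  exact mem_cent.mpr (hgc.pow_right _).eq

theorem finish {r s : ℕ} (hne : r ≠ s) {a b : ℕ} (ha : a.Prime) (hb : b.Prime)
    (hav : ∃ x : G, p ∣ orderOf x ∧ a ∣ cs x) (hbv : ∃ x : G, p ∣ orderOf x ∧ b ∣ cs x)
    (h1 : r = a ∨ Adj G p r a) (h2 : a = b ∨ Adj G p a b) (h3 : b = s ∨ Adj G p b s) :
    Adj G p r s ∨
    (∃ t : ℕ, (t.Prime ∧ ∃ x : G, p ∣ orderOf x ∧ t ∣ cs x) ∧ t ≠ r ∧ t ≠ s ∧
      Adj G p r t ∧ Adj G p t s) ∨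
    (∃ t u : ℕ, (t.Prime ∧ ∃ x : G, p ∣ orderOf x ∧ t ∣ cs x) ∧
      (u.Prime ∧ ∃ x : G, p ∣ orderOf x ∧ u ∣ cs x) ∧ t ≠ r ∧ u ≠ s ∧ t ≠ u ∧
      Adj G p r t ∧ Adj G p t u ∧ Adj G p u s) := by
  by_cases hrs : Adj G p r s
  · exact Or.inl hrs
  right
  by_cases hmid : ∃ t : ℕ, (t.Prime ∧ ∃ x : G, p ∣ orderOf x ∧ t ∣ cs x) ∧
      (r = t ∨ Adj G p r t) ∧ (t = s ∨ Adj G p t s)
  · obtain ⟨t, ht, h4, h5⟩ := hmid
    left
    have htr : t ≠ r := fun e => hrs ((h5.resolve_left (e ▸ hne)) |> fun h => e ▸ h)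
    have hts : t ≠ s := fun e => hrs (e ▸ h4.resolve_left (fun e' => hne (e'.trans e)))
    exact ⟨t, ht, htr, hts, h4.resolve_left htr.symm, h5.resolve_left hts⟩
  · right
    have hra : a ≠ r := fun e => hmid ⟨b, ⟨hb, hbv⟩, e ▸ h2, h3⟩
    have hbs : b ≠ s := fun e => hmid ⟨a, ⟨ha, hav⟩, h1, e ▸ h2⟩
    have hab : a ≠ b := fun e => hmid ⟨a, ⟨ha, hav⟩, h1, e ▸ h3⟩
    exact ⟨a, b, ⟨ha, hav⟩, ⟨hb, hbv⟩, hra, hbs, hab, h1.resolve_left hra.symm,
      h2.resolve_left hab, h3.resolve_left hbs⟩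

/-- Let `G` be a finite group and `p` a prime not dividing the order of the centre of `G`. Consider the primes dividing the size of some conjugacy class of a `p`-singular element (an element of order divisible by `p`), two of them adjacent when their product divides such a class size. Then any two distinct such primes are joined by a path with at most 3 edges (the graph is connected of diameter at most 3). -/
theorem result {G : Type*} [Group G] [Finite G] (p : ℕ) [Fact p.Prime]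
    (hZ : ¬ p ∣ Nat.card ↥(Subgroup.center G)) (r s : ℕ) (hr : (r.Prime ∧ ∃ x : G, p ∣ orderOf x ∧ r ∣ (Subgroup.centralizer ({x} : Set G)).index)) (hs : (s.Prime ∧ ∃ x : G, p ∣ orderOf x ∧ s ∣ (Subgroup.centralizer ({x} : Set G)).index)) (hrs : r ≠ s) :
    (∃ x : G, p ∣ orderOf x ∧ r * s ∣ (Subgroup.centralizer ({x} : Set G)).index) ∨ (∃ t : ℕ, (t.Prime ∧ ∃ x : G, p ∣ orderOf x ∧ t ∣ (Subgroup.centralizer ({x} : Set G)).index) ∧ t ≠ r ∧ t ≠ s ∧ (∃ x : G, p ∣ orderOf x ∧ r * t ∣ (Subgroup.centralizer ({x} : Set G)).index) ∧ (∃ x : G, p ∣ orderOf x ∧ t * s ∣ (Subgroup.centralizer ({x} : Set G)).index)) ∨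
      (∃ t u : ℕ, (t.Prime ∧ ∃ x : G, p ∣ orderOf x ∧ t ∣ (Subgroup.centralizer ({x} : Set G)).index) ∧ (u.Prime ∧ ∃ x : G, p ∣ orderOf x ∧ u ∣ (Subgroup.centralizer ({x} : Set G)).index) ∧ t ≠ r ∧ u ≠ s ∧ t ≠ u ∧ (∃ x : G, p ∣ orderOf x ∧ r * t ∣ (Subgroup.centralizer ({x} : Set G)).index) ∧ (∃ x : G, p ∣ orderOf x ∧ t * u ∣ (Subgroup.centralizer ({x} : Set G)).index) ∧ (∃ x : G, p ∣ orderOf x ∧ u * s ∣ (Subgroup.centralizer ({x} : Set G)).index)) := by
  obtain ⟨hrp, x, hx, hrx⟩ := hr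
  obtain ⟨hsp, y, hy, hsy⟩ := hs
  obtain ⟨x1, hx1, h1⟩ := linked_of_dvd hrp hx hrx
  obtain ⟨x2, hx2, h2⟩ := linked_of_dvd hsp hy hsy
  obtain ⟨a, b, ha, hb, had, hbd, hab⟩ := linked hZ hx1 hx2
  exact finish hrs ha hb ⟨x1, hx1.symm ▸ dvd_rfl, had⟩ ⟨x2, hx2.symm ▸ dvd_rfl, hbd⟩ (h1 a ha had)
    hab ((h2 b hb hbd).imp Eq.symm Adj.symm)
end Cfsg.Agent.S4321
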