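import Cfsg.Statements.S4323
import Cfsg.Agent.Lib.AbelCent88Solvable

set_option autoImplicit false
open Cfsg

namespace Cfsg.Agent.S4323

/-- Let `q` be a prime and `A` a non-cyclic group of order `q²` acting by automorphisms on a finite group `G` of order prime to `q`, such that the fixed-point subgroup `C_G(a)` is abelian for every non-identity `a ∈ A`. Then `G` is solvable. -/
theorem result {A G : Type*} [Group A] [Finite A]
    [Group G] [Finite G] [MulDistribMulAction A G] (q : ℕ) (hq : q.Prime) (hA : Nat.card A = q ^ 2) (hnc : ¬ IsCyclic A)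
    (hcop : ¬ q ∣ Nat.card G) (h : ∀ a : A, a ≠ 1 → IsMulCommutative ↥(FixedPoints.subgroup (Subgroup.zpowers a) G)) :
    Group.IsSolvable G := by
  let φ := MulDistribMulAction.toMulAut A G
  let K : Subgroup (G ⋊[φ] A) := (SemidirectProduct.inl : G →* G ⋊[φ] A).range
  let A' : Subgroup (G ⋊[φ] A) := (SemidirectProduct.inr : A →* G ⋊[φ] A).range
  haveI : Finite (G ⋊[φ] A) := Finite.of_equiv _ SemidirectProduct.equivProd.symm
  let eA := MonoidHom.ofInjective (SemidirectProduct.inr_injective (φ := φ))
  let eK := MonoidHom.ofInjective (SemidirectProduct.inl_injective (φ := φ))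
  haveI : Fact q.Prime := ⟨hq⟩
  have hconj : ∀ (a : A) (g : G),
      (SemidirectProduct.inr a : G ⋊[φ] A) * SemidirectProduct.inl g =
        SemidirectProduct.inl (a • g) * SemidirectProduct.inr a := by
    intro a g
    rw [show a • g = φ a g from rfl, SemidirectProduct.inl_aut, map_inv, inv_mul_cancel_right]
  have S : Cfsg.Agent.AbelCent88Basic.Setting q A' K := by
    refine ⟨hq, ?_, ⟨⟨?_⟩⟩, ?_, ?_, ?_, ?_⟩
    · rw [← hA]; exact (Nat.card_congr eA.toEquiv).symm
    · rintro ⟨_, a, rfl⟩ ⟨_, b, rfl⟩
      apply Subtype.ext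
      change SemidirectProduct.inr a * SemidirectProduct.inr b =
        (SemidirectProduct.inr b * SemidirectProduct.inr a : G ⋊[φ] A)
      rw [← map_mul, ← map_mul, IsPGroup.commutative_of_card_eq_prime_sq hA a b]
    · intro hc
      exact hnc (isCyclic_of_injective eA.toMonoidHom eA.injective)
    · refine Cfsg.Agent.SignalizerCoprime.le_normalizer_of_forall ?_
      rintro _ ⟨a, rfl⟩ _ ⟨g, rfl⟩
      exact ⟨a • g, by rw [hconj, mul_inv_cancel_right]⟩
    · rw [show Nat.card K = Nat.card G from (Nat.card_congr eK.toEquiv).symm]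
      exact hcop
    · rintro _ ⟨a, rfl⟩ ha1 x hx y hy
      have ha : a ≠ 1 := fun e => ha1 (by rw [e, map_one])
      have key : ∀ z ∈ Cfsg.Agent.AbelCent88Basic.cK K (SemidirectProduct.inr a : G ⋊[φ] A),
          ∃ g ∈ FixedPoints.subgroup (Subgroup.zpowers a) G, SemidirectProduct.inl g = z := by
        rintro z ⟨⟨g, rfl⟩, hz⟩
        refine ⟨g, ?_, rfl⟩
        have h1 := Cfsg.Agent.AbelCent88Basic.mem_centralizer_singleton.1 hz
        rw [hconj] at h1
        have hfix : a ∈ MulAction.stabilizer A g :=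
          SemidirectProduct.inl_injective (mul_right_cancel h1)
        intro m
        exact (Subgroup.zpowers_le.2 hfix) m.2
      obtain ⟨g, hg, rfl⟩ := key x hx
      obtain ⟨g', hg', rfl⟩ := key y hy
      rw [← map_mul, ← map_mul]
      exact congrArg _ (congrArg Subtype.val ((h a ha).is_comm.comm ⟨g, hg⟩ ⟨g', hg'⟩))
  haveI := Cfsg.Agent.AbelCent88Solvable.isSolvable S
  exact Group.isSolvable_of_isSolvable_injective (f := eK.toMonoidHom) eK.injective

end Cfsg.Agent.S4323
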