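import Cfsg.Statements.S4325
-- import your own Cfsg.Agent.* helpers here
import Cfsg.Agent.Lib.SwapOrbit

set_option autoImplicit false
open Cfsg

namespace Cfsg.Agent.S4325


/-- Let r be a prime and m a natural number with m + 1 < r, and let π be a set of primes containing every prime below r but not r itself. Then in the symmetric group of degree r any m transpositions generate a π-subgroup, while O_π of the symmetric group is trivial. (So no bound on the number of conjugates that works for all π exists in the π-radical analogue of the Baer–Suzuki Theorem.) -/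
theorem result (r m : ℕ) (hr : r.Prime)
    (hm : m + 1 < r) (π : Set ℕ) (hπ : ∀ q : ℕ, q.Prime → q < r → q ∈ π) (hrπ : r ∉ π)
    (t : Fin m → Equiv.Perm (Fin r)) (ht : ∀ i, (t i).IsSwap) :
    Cfsg.IsPiSubgroup π (Subgroup.closure (Set.range t)) ∧ Cfsg.piCore π (Equiv.Perm (Fin r)) = ⊥ := by
  constructor
  · intro q hq hd
    refine hπ q hq (lt_of_le_of_lt ?_ hm)
    exact Cfsg.Agent.SwapOrbit.le_of_prime_dvd _ (Cfsg.Agent.SwapOrbit.ncard_orbit_le t ht) hq hd
  · refine le_bot_iff.mp (sSup_le fun N ⟨hN, hNπ⟩ => ?_)
    by_contra hne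
    haveI := hN
    haveI : Fact r.Prime := ⟨hr⟩
    haveI : MulAction.IsPretransitive (Equiv.Perm (Fin r)) (Fin r) := inferInstance
    haveI : MulAction.IsPreprimitive (Equiv.Perm (Fin r)) (Fin r) :=
      MulAction.IsPreprimitive.of_prime_card (by simpa using hr)
    have hfix : MulAction.fixedPoints N (Fin r) ≠ Set.univ := by
      intro h
      apply hne
      intro n hn
      rw [Subgroup.mem_bot]
      exact Equiv.ext fun z => (Set.eq_univ_iff_forall.mp h z) ⟨n, hn⟩
    haveI := MulAction.IsQuasiPreprimitive.isPretransitive_of_normal hfix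
    apply hrπ (hNπ r hr ?_)
    have := MulAction.index_stabilizer_of_transitive N (⟨0, hr.pos⟩ : Fin r)
    rw [Nat.card_eq_fintype_card, Fintype.card_fin] at this
    have h2 := Subgroup.index_dvd_card (MulAction.stabilizer N (⟨0, hr.pos⟩ : Fin r))
    rwa [this] at h2

end Cfsg.Agent.S4325
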