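import Cfsg.Statements.S4326
-- import your own Cfsg.Agent.* helpers here

set_option autoImplicit false
open Pointwise
open Cfsg

namespace Cfsg.Agent.S4326


/-- Let G be a finite group, p a prime, x an automorphism of G of p-power order and M the subgroup of fixed points of x. Suppose that p divides the index of M and that either M is self-normalizing or M has trivial center. Then some conjugate of M is mapped onto itself by x but is not fixed elementwise by x. -/
theorem result {G : Type*} [Group G] [Finite G]
    (p : ℕ) [Fact p.Prime] (x : MulAut G) (hx : ∃ k : ℕ, orderOf x = p ^ k) (M : Subgroup G)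
    (hM : ∀ g : G, g ∈ M ↔ x g = g) (hp : p ∣ M.index)
    (hself : Subgroup.normalizer (M : Set G) = M ∨ Subgroup.center M = ⊥) :
    ∃ g : G, (∀ y ∈ MulAut.conj g • M, x y ∈ MulAut.conj g • M) ∧ ∃ y ∈ MulAut.conj g • M, x y ≠ y := by
  classical
  obtain ⟨k, hk⟩ := hx
  have hMx : ∀ m ∈ M, x m = m := fun m hm => (hM m).mp hm
  -- action of x on cosets of M
  let ρ : G ⧸ M → G ⧸ M := Quotient.map' (fun g => x g) (by
    intro a b hab
    rw [QuotientGroup.leftRel_apply] at hab ⊢
    have := hMx _ hab
    rw [map_mul, map_inv] at this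
    rwa [this])
  let act : Equiv.Perm (G ⧸ M) :=
    { toFun := ρ
      invFun := Quotient.map' (fun g => x⁻¹ g) (by
        intro a b hab
        rw [QuotientGroup.leftRel_apply] at hab ⊢
        have h : x⁻¹ (a⁻¹ * b) = a⁻¹ * b := by
          have h0 := hMx _ hab
          calc x⁻¹ (a⁻¹ * b) = x⁻¹ (x (a⁻¹ * b)) := by rw [h0]
            _ = a⁻¹ * b := MulAut.inv_apply_self _ x _
        rw [map_mul, map_inv] at h
        rwa [h])
      left_inv := by
        rintro ⟨a⟩
        exact congrArg (Quotient.mk'') (MulAut.inv_apply_self _ x a)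
      right_inv := by
        rintro ⟨a⟩
        exact congrArg (Quotient.mk'') (MulAut.apply_inv_self _ x a) }
  have hpow : ∀ (n : ℕ) (a : G), (act ^ n) (QuotientGroup.mk a) = QuotientGroup.mk ((x ^ n) a) := by
    intro n
    induction n with
    | zero => intro a; simp
    | succ n ih => intro a; rw [pow_succ', Equiv.Perm.mul_apply, ih, pow_succ', MulAut.mul_apply]; rfl
  have hact : act ^ p ^ k = 1 := by
    ext q
    induction q using QuotientGroup.induction_on with
    | H a => rw [hpow, ← hk, pow_orderOf_eq_one]; rfl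
  have hz : IsPGroup p (Subgroup.zpowers act) := by
    obtain ⟨j, -, hj⟩ := (Nat.dvd_prime_pow (Fact.out : p.Prime)).mp (orderOf_dvd_of_pow_eq_one hact)
    exact IsPGroup.of_card (n := j) (by rw [Nat.card_zpowers, hj])
  have hmem : (QuotientGroup.mk 1 : G ⧸ M) ∈ MulAction.fixedPoints (Subgroup.zpowers act) (G ⧸ M) := by
    intro ⟨g, hg⟩
    show g (QuotientGroup.mk 1) = _
    obtain ⟨j, rfl⟩ := Subgroup.mem_zpowers_iff.mp hg
    refine Equiv.Perm.zpow_apply_eq_self_of_apply_eq_self ?_ j
    show QuotientGroup.mk (x 1) = _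
    rw [map_one]
  obtain ⟨q, hq, hq1⟩ := hz.exists_fixed_point_of_prime_dvd_card_of_fixed_point (G ⧸ M)
    (by rw [← Subgroup.index_eq_card]; exact hp) hmem
  induction q using QuotientGroup.induction_on with
  | H g => ?_
  have hgx : g⁻¹ * x g ∈ M := by
    have := hq ⟨act, Subgroup.mem_zpowers act⟩
    have h2 : (QuotientGroup.mk (x g) : G ⧸ M) = QuotientGroup.mk g := this
    exact QuotientGroup.eq.mp h2.symm
  have hg : g ∉ M := by
    intro h; apply hq1; rw [QuotientGroup.eq]; simpa using h
  set m := g⁻¹ * x g with hm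
  have hxg : x g = g * m := by rw [hm]; group
  refine ⟨g, ?_, ?_⟩
  · intro y hy
    rw [Subgroup.mem_pointwise_smul_iff_inv_smul_mem, MulAut.smul_def, MulAut.conj_inv_apply] at hy ⊢
    have h3 : g⁻¹ * x y * g = m * (g⁻¹ * y * g) * m⁻¹ := by
      have h4 := hMx _ hy
      rw [map_mul, map_mul, map_inv, hxg] at h4
      calc g⁻¹ * x y * g = m * ((g * m)⁻¹ * x y * (g * m)) * m⁻¹ := by group
        _ = _ := by rw [h4]
    rw [h3]
    exact mul_mem (mul_mem hgx hy) (inv_mem hgx)
  · by_contra hcon
    push Not at hcon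
    have hin : ∀ y ∈ M, g * y * g⁻¹ ∈ M := by
      intro y hy
      refine (hM _).mpr (hcon _ ?_)
      rw [Subgroup.mem_pointwise_smul_iff_inv_smul_mem, MulAut.smul_def, MulAut.conj_inv_apply]
      simpa [mul_assoc] using hy
    have hgN : g ∈ Subgroup.normalizer (M : Set G) := by
      haveI : Finite M := inferInstance
      exact Subgroup.mem_normalizer_fintype (by exact hin)
    rcases hself with hN | hZ
    · exact hg (hN ▸ hgN)
    · have hmZ : (⟨m, hgx⟩ : M) ∈ Subgroup.center M := by
        rw [Subgroup.mem_center_iff]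
        intro ⟨y, hy⟩
        apply Subtype.ext
        show y * m = m * y
        have h5 := (hM _).mp (hin y hy)
        rw [map_mul, map_mul, map_inv, hxg, hMx y hy] at h5
        have h6 : g⁻¹ * (g * m * y * (g * m)⁻¹) * g = g⁻¹ * (g * y * g⁻¹) * g := by rw [h5]
        have h7 : m * y * m⁻¹ = y := by
          have := h6
          group at this ⊢
          exact this
        exact (mul_inv_eq_iff_eq_mul.mp h7).symm
      rw [hZ, Subgroup.mem_bot] at hmZ
      have hm1 : m = 1 := congrArg Subtype.val hmZ
      exact hg ((hM g).mpr (by rw [hxg, hm1, mul_one]))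

end Cfsg.Agent.S4326
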