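import Cfsg.Statements.S4330
import Cfsg.Agent.Lib.ClassAvoid89
import Cfsg.Agent.Lib.HallCore
import Cfsg.Agent.Lib.LocalBasics
import Cfsg.Agent.Lib.FitLength57

set_option autoImplicit false
open Pointwise
open Cfsg

namespace Cfsg.Agent.S4330

open Subgroup

universe u

variable {p : ℕ} [Fact p.Prime]

/-- Every class has an element `g` such that `a` lies in a `p`-subgroup normalised by `a` and its
conjugate by `g`. -/
def Good (p : ℕ) {G : Type u} [Group G] (a : G) : Prop :=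
  ∀ c : G, ∃ g : G, IsConj c g ∧ ∃ N : Subgroup G, IsPGroup p N ∧ a ∈ N ∧
    a ∈ normalizer (N : Set G) ∧ g * a * g⁻¹ ∈ normalizer (N : Set G)

theorem Good.map {G K : Type u} [Group G] [Group K] {a : G} (h : Good p a) (f : G →* K)
    (hf : Function.Surjective f) : Good p (f a) := by
  intro c
  obtain ⟨c, rfl⟩ := hf c
  obtain ⟨g, hg, N, hN, haN, ha, hga⟩ := h c
  refine ⟨f g, f.map_isConj hg, N.map f, hN.map f, mem_map_of_mem f haN,
    le_normalizer_map f (mem_map_of_mem f ha), ?_⟩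
  rw [← map_inv, ← map_mul, ← map_mul]
  exact le_normalizer_map f (mem_map_of_mem f hga)

theorem mem_pCore (hp : p ≠ 2) : ∀ (n : ℕ) (G : Type u) [Group G] [Finite G], Nat.card G = n →
    Group.IsSolvable G → ∀ a : G, (∃ k : ℕ, a ^ p ^ k = 1) → Good p a → a ∈ Cfsg.pCore p G := by
  intro n
  induction n using Nat.strong_induction_on with
  | _ n ih =>
  intro G _ _ hn hG a ha hgood
  classical
  -- passing to a proper quotient
  have hquot : ∀ N : Subgroup G, N.Normal → N ≠ ⊥ → ∀ [N.Normal],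
      (a : G ⧸ N) ∈ Cfsg.pCore p (G ⧸ N) := by
    intro N _ hN _
    have hlt : Nat.card (G ⧸ N) < n := by
      rw [← hn, card_eq_card_quotient_mul_card_subgroup N]
      exact lt_mul_right Nat.card_pos ((one_lt_card_iff_ne_bot N).mpr hN)
    obtain ⟨k, hk⟩ := ha
    have : Group.IsSolvable G := hG
    refine ih _ hlt (G ⧸ N) rfl inferInstance (a : G ⧸ N) ⟨k, ?_⟩
      (hgood.map (QuotientGroup.mk' N) (QuotientGroup.mk'_surjective N))
    rw [← QuotientGroup.mk_pow, hk, QuotientGroup.mk_one]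
  by_cases hO : Cfsg.pCore p G ≠ ⊥
  · have := hquot _ inferInstance hO
    rw [HallCore.pCore_quotient_self, Subgroup.mem_bot, QuotientGroup.eq_one_iff] at this
    exact this
  push Not at hO
  by_cases ha1 : a = 1
  · exact ha1 ▸ one_mem _
  exfalso
  have : Group.IsSolvable G := hG
  have htop : (⊤ : Subgroup G) ≠ ⊥ := fun h => ha1 (Subgroup.mem_bot.mp (h ▸ mem_top a))
  have htn : (⊤ : Subgroup G).Normal := inferInstance
  obtain ⟨V, r, hr, hV1, -, hVn, hVr, hVc, -⟩ :=
    FitLength57.exists_minimal_normal_pGroup (H := (⊤ : Subgroup G)) inferInstance htop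
  have hrp : r ≠ p := by
    rintro rfl
    exact hV1 (eq_bot_iff.mpr (hO ▸ HallCore.le_pCore hVr))
  have hcop : (Nat.card V).Coprime p := by
    have : Fact r.Prime := ⟨hr⟩
    obtain ⟨j, hj⟩ := IsPGroup.iff_card.mp hVr
    rw [hj]
    exact ((Nat.coprime_primes hr Fact.out).mpr hrp).pow_left j
  let q := QuotientGroup.mk' V
  let K : Subgroup G := (Cfsg.pCore p (G ⧸ V)).comap q
  have hKn : K.Normal := inferInstance
  have haK : a ∈ K := hquot V hVn hV1
  obtain ⟨k, hk⟩ := ha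
  have hza : IsPGroup p (zpowers (⟨a, haK⟩ : K)) := fun x => ⟨k, Subtype.ext (by
    obtain ⟨j, hj⟩ := mem_zpowers_iff.mp x.2
    have hk' : (⟨a, haK⟩ : K) ^ p ^ k = 1 := Subtype.ext (by simpa using hk)
    simp only [SubmonoidClass.coe_pow, OneMemClass.coe_one]
    rw [← hj, ← zpow_natCast, zpow_comm, zpow_natCast, hk', one_zpow])⟩
  obtain ⟨P, hP⟩ := hza.exists_le_sylow
  let P' : Subgroup G := (P : Subgroup K).map K.subtype
  have haP : a ∈ P' := ⟨⟨a, haK⟩, hP (mem_zpowers _), rfl⟩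
  have hP'p : IsPGroup p P' := P.isPGroup'.map _
  -- `K = V P'`
  have hKP : K ≤ V ⊔ P' := by
    let φ : K →* Cfsg.pCore p (G ⧸ V) :=
      (q.comp K.subtype).codRestrict _ fun x => x.2
    have hφ : Function.Surjective φ := by
      rintro ⟨y, hy⟩
      obtain ⟨x, rfl⟩ := QuotientGroup.mk'_surjective V y
      exact ⟨⟨x, hy⟩, rfl⟩
    have hidx : ((P : Subgroup K).map φ).index = 1 := by
      obtain ⟨j, hj⟩ := (HallCore.isPGroup_pCore p (G ⧸ V)).index ((P : Subgroup K).map φ)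
      rw [hj]
      rcases Nat.eq_zero_or_pos j with rfl | hj0
      · exact pow_zero p
      · exact absurd ((dvd_pow_self p hj0.ne').trans
          (hj ▸ index_map_dvd (P : Subgroup K) hφ)) P.not_dvd_index
    intro x hx
    obtain ⟨y, hy, hyx⟩ := (index_eq_one.mp hidx).symm ▸ mem_top (φ ⟨x, hx⟩)
    have hyx' : q (y : G) = q x := congrArg Subtype.val hyx
    have hmem : x * (y : G)⁻¹ ∈ V := by
      have h1 : q (x * (y : G)⁻¹) = 1 := by rw [map_mul, map_inv, hyx', mul_inv_cancel]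
      exact (QuotientGroup.eq_one_iff _).mp h1
    simpa using (V ⊔ P').mul_mem (mem_sup_left hmem)
      (mem_sup_right (⟨y, hy, rfl⟩ : (y : G) ∈ P'))
  -- Frattini argument
  let H : Subgroup G := normalizer (P' : Set G)
  have hHV : H ⊔ V = ⊤ := by
    refine eq_top_iff.mpr ((Sylow.normalizer_sup_eq_top P).ge.trans ?_)
    exact sup_le le_sup_left (hKP.trans (sup_le le_sup_right (le_normalizer.trans le_sup_left)))
  -- `a` moves a vector
  have hmove : ∃ v : V, a * (v : G) * a⁻¹ ≠ v := by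
    by_contra hall
    push Not at hall
    let Q : Subgroup G := P' ⊓ centralizer (V : Set G)
    have haQ : a ∈ Q := ⟨haP, mem_centralizer_iff.mpr fun v hv => by
      have h1 := hall ⟨v, hv⟩
      exact (mul_inv_eq_iff_eq_mul.mp h1).symm⟩
    have hQn : V ⊔ P' ≤ normalizer (Q : Set G) := by
      refine sup_le (fun v hv => ?_) ?_
      · refine LocalBasics.le_normalizer_of_conj (X := zpowers v) (fun x hx w hw => ?_) (mem_zpowers v)
        have hxV : x ∈ V := zpowers_le.mpr hv hx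
        rwa [mem_centralizer_iff.mp hw.2 x hxV, mul_inv_cancel_right]
      · refine LocalBasics.le_normalizer_of_conj fun x hx w hw => ⟨P'.mul_mem (P'.mul_mem hx hw.1)
          (inv_mem hx), ?_⟩
        exact (inferInstance : (centralizer (V : Set G)).Normal).conj_mem w hw.2 x
    have hQK : Q ≤ K := inf_le_left.trans (map_subtype_le _)
    have : (Q.subgroupOf K).Normal := (normal_subgroupOf_iff_le_normalizer hQK).mpr (hKP.trans hQn)
    have h1 : Q.subgroupOf K ≤ Cfsg.pCore p K := HallCore.le_pCore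
      ((hP'p.to_le inf_le_left).comap_of_injective K.subtype K.subtype_injective)
    have h2 := HallCore.map_subtype_pCore (p := p) K
    have h3 : a ∈ (Cfsg.pCore p K).map K.subtype := ⟨⟨a, haK⟩, h1 haQ, rfl⟩
    rw [h2, hO] at h3
    simp [ha1] at h3
  -- the action on `V`
  letI : CommGroup V := { (inferInstance : Group V) with
    mul_comm := fun x y => Subtype.ext (hVc x x.2 y y.2) }
  letI : MulDistribMulAction H V :=
    { smul := fun h v => ⟨(h : G) * v * (h : G)⁻¹, hVn.conj_mem v v.2 h⟩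
      one_smul := fun v => Subtype.ext (show (1 : G) * v * (1 : G)⁻¹ = v by simp)
      mul_smul := fun h h' v => Subtype.ext
        (show (h : G) * h' * v * ((h : G) * h')⁻¹ = h * (h' * v * (h' : G)⁻¹) * (h : G)⁻¹ by group)
      smul_mul := fun h v w => Subtype.ext
        (show (h : G) * (v * w) * (h : G)⁻¹ = (h * v * (h : G)⁻¹) * (h * w * (h : G)⁻¹) by group)
      smul_one := fun h => Subtype.ext (show (h : G) * 1 * (h : G)⁻¹ = 1 by simp) }
  obtain ⟨v₀, hv₀⟩ := hmove
  obtain ⟨v, hv⟩ := ClassAvoid89.exists_avoid hp _ V H (P'.subgroupOf H)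
    ⟨a, le_normalizer haP⟩ rfl (hP'p.comap_of_injective H.subtype H.subtype_injective) hcop haP
    ⟨v₀, fun h => hv₀ (congrArg Subtype.val h)⟩
  obtain ⟨g, hg, N, hN, haN, hanorm, hganorm⟩ := hgood (v : G)
  obtain ⟨c, rfl⟩ := isConj_iff.mp hg
  obtain ⟨h, hh, w, hw, rfl⟩ := mem_sup_of_normal_right.mp
    (show c ∈ H ⊔ V from hHV.symm ▸ mem_top c)
  set g := h * w * (v : G) * (h * w)⁻¹ with hgdef
  have hgv : g = h * (v : G) * h⁻¹ := by
    rw [hgdef, mul_inv_rev, mul_assoc h w, hVc w hw v v.2]; group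
  have hgV : g ∈ V := hgv ▸ hVn.conj_mem _ v.2 h
  set t := a⁻¹ * (g * a * g⁻¹) with ht
  have htV : t ∈ V := by
    rw [show t = (a⁻¹ * g * a) * g⁻¹ by rw [ht]; group]
    exact V.mul_mem (by simpa using hVn.conj_mem g hgV a⁻¹) (inv_mem hgV)
  have htn : t ∈ normalizer (N : Set G) := mul_mem (inv_mem hanorm) hganorm
  have hat : a * t = t * a := by
    have h1 : t * a * t⁻¹ * a⁻¹ ∈ N :=
      mul_mem ((mem_normalizer_iff.mp htn a).mp haN) (inv_mem haN)
    have h2 : t * a * t⁻¹ * a⁻¹ ∈ V := by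
      rw [mul_assoc t a, mul_assoc t]
      exact V.mul_mem htV (hVn.conj_mem _ (inv_mem htV) a)
    have h3 : t * a * t⁻¹ * a⁻¹ = 1 := by
      have hNV : N ⊓ V = ⊥ := by
        obtain ⟨j, hj⟩ := IsPGroup.iff_card.mp hN
        exact HallCore.disjoint_of_coprime_card (hj ▸ (hcop.pow_right j).symm)
      exact Subgroup.mem_bot.mp (hNV ▸ mem_inf.mpr ⟨h1, h2⟩)
    exact (mul_inv_eq_iff_eq_mul.mp (mul_inv_eq_one.mp h3)).symm
  have htk : t ^ p ^ k = 1 := by
    have h1 : (a * t) ^ p ^ k = 1 := by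
      rw [ht, mul_inv_cancel_left, conj_pow, hk, mul_one, mul_inv_cancel]
    rwa [(show Commute a t from hat).mul_pow, hk, one_mul] at h1
  have ht1 : t = 1 := congrArg Subtype.val
    (ExtraspecialAvoid89.eq_one_of_pow (hcop.pow_right k) (v := (⟨t, htV⟩ : V))
      (Subtype.ext htk))
  rw [ht, inv_mul_eq_one, hgv] at ht1
  apply hv ⟨h⁻¹, inv_mem hh⟩
  refine Subtype.ext ?_
  show h⁻¹ * a * h⁻¹⁻¹ * (v : G) * (h⁻¹ * a * h⁻¹⁻¹)⁻¹ = v
  have h4 := eq_mul_inv_iff_mul_eq.mp ht1
  rw [mul_inv_eq_iff_eq_mul]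
  calc h⁻¹ * a * h⁻¹⁻¹ * (v : G) = h⁻¹ * (a * (h * (v : G) * h⁻¹)) * h := by group
    _ = h⁻¹ * (h * (v : G) * h⁻¹ * a) * h := by rw [h4]
    _ = (v : G) * (h⁻¹ * a * h⁻¹⁻¹) := by group

/-- Let G be a finite solvable group, p an odd prime and A a p-subgroup of G such that every conjugacy class of G contains an element g for which A is subnormal in the subgroup generated by A and its conjugate by g. Then A is contained in O_p(G). (The hypothesis that p is odd is needed.) -/
theorem result {G : Type*} [Group G] [Finite G]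
    (hG : Group.IsSolvable G) (p : ℕ) [Fact p.Prime] (hp : p ≠ 2) (A : Subgroup G) (hA : IsPGroup p A)
    (h : ∀ c : G, ∃ g : G, IsConj c g ∧ (A.subgroupOf (A ⊔ MulAut.conj g • A)).IsSubnormal) :
    A ≤ Cfsg.pCore p G := by
  intro a ha
  obtain ⟨k, hk⟩ := hA ⟨a, ha⟩
  refine mem_pCore hp _ G rfl hG a ⟨k, congrArg Subtype.val hk⟩ fun c => ?_
  obtain ⟨g, hcg, hsub⟩ := h c
  refine ⟨g, hcg, (Cfsg.pCore p (A ⊔ MulAut.conj g • A : Subgroup G)).map (Subgroup.subtype _),
    (HallCore.isPGroup_pCore p _).map _, ⟨⟨a, Subgroup.mem_sup_left ha⟩,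
      LocalBasics.le_pCore_of_subnormal hsub
        (hA.comap_of_injective (Subgroup.subtype _) (Subgroup.subtype_injective _)) ha, rfl⟩,
    ?_, ?_⟩
  · refine Subgroup.le_normalizer_map _ ⟨⟨a, Subgroup.mem_sup_left ha⟩, ?_, rfl⟩
    rw [Subgroup.normalizer_eq_top_iff.mpr inferInstance]
    exact Subgroup.mem_top _
  · refine Subgroup.le_normalizer_map _ ⟨⟨g * a * g⁻¹, Subgroup.mem_sup_right
      (Subgroup.smul_mem_pointwise_smul a (MulAut.conj g) A ha)⟩, ?_, rfl⟩
    rw [Subgroup.normalizer_eq_top_iff.mpr inferInstance]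
    exact Subgroup.mem_top _

end Cfsg.Agent.S4330
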