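import Cfsg.Statements.S4331


set_option autoImplicit false
set_option synthInstance.maxSize 4000
open Cfsg

namespace Cfsg.Agent.S4331
theorem isSubnormal_of_pGroup {K : Type*} [Group K] [Finite K] {p : ℕ} [Fact p.Prime]
    (hK : IsPGroup p K) : ∀ (n : ℕ) (H : Subgroup K), Nat.card K ≤ Nat.card ↥H + n → H.IsSubnormal := by
  have hnc : NormalizerCondition K := by
    have := hK.isNilpotent
    exact Group.normalizerCondition_of_isNilpotent
  intro n
  induction n with
  | zero =>
    intro H h
    rw [Subgroup.eq_top_of_le_card H (by omega)]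
    exact Subgroup.Normal.isSubnormal inferInstance
  | succ n ih =>
    intro H h
    by_cases hH : H = ⊤
    · rw [hH]; exact Subgroup.Normal.isSubnormal inferInstance
    have hlt := hnc H (Ne.lt_top hH)
    refine Subgroup.IsSubnormal.trans hlt.le (Subgroup.Normal.isSubnormal ?_) (ih _ ?_)
    · exact Subgroup.normal_in_normalizer
    · have := Subgroup.card_le_of_le hlt.le
      have hne : Nat.card ↥H ≠ Nat.card ↥(Subgroup.normalizer (H : Set K)) := fun e =>
        hlt.ne (Subgroup.eq_of_le_of_card_ge hlt.le e.ge)
      omega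

abbrev V : Type := ZMod 3 × ZMod 3

def J (x : V) : V := (-x.2, x.1)

/-- An automorphism as an additive map. -/
def toHom (f : MulAut (Multiplicative V)) : V →+ V where
  toFun x := (f (Multiplicative.ofAdd x)).toAdd
  map_zero' := by simp
  map_add' x y := by simp

/-- The semilinear group of degree 1 over the field with nine elements. -/
def H : Subgroup (Multiplicative V ≃* Multiplicative V) where
  carrier := {f | ∃ e : ZMod 3, e * e = 1 ∧ ∀ x : V,
    (f (Multiplicative.ofAdd (J x))).toAdd = e • J (f (Multiplicative.ofAdd x)).toAdd}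
  one_mem' := ⟨1, by decide, fun x => by simp⟩
  mul_mem' := by
    rintro f g ⟨e, he, hf⟩ ⟨d, hd, hg⟩
    refine ⟨e * d, by rw [show e * d * (e * d) = e * e * (d * d) by ring, he, hd, one_mul],
      fun x => ?_⟩
    have h1 := hg x
    have h2 := hf (g (Multiplicative.ofAdd x)).toAdd
    simp only [MulAut.mul_apply] at *
    rw [show g (Multiplicative.ofAdd (J x)) =
      Multiplicative.ofAdd (d • J (g (Multiplicative.ofAdd x)).toAdd) by rw [← h1]; rfl]
    have h3 : ∀ (d : ZMod 3) (y : V),
        (f (Multiplicative.ofAdd (d • y))).toAdd = d • (f (Multiplicative.ofAdd y)).toAdd :=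
      fun d y => ZMod.map_smul (toHom f) d y
    rw [h3, h2, smul_smul, mul_comm]
    simp
  inv_mem' := by
    rintro f ⟨e, he, hf⟩
    refine ⟨e, he, fun x => ?_⟩
    have h3 : ∀ (d : ZMod 3) (y : V),
        (f (Multiplicative.ofAdd (d • y))).toAdd = d • (f (Multiplicative.ofAdd y)).toAdd :=
      fun d y => ZMod.map_smul (toHom f) d y
    have h1 := hf (f⁻¹ (Multiplicative.ofAdd x)).toAdd
    have h2 : f (Multiplicative.ofAdd (e • J (f⁻¹ (Multiplicative.ofAdd x)).toAdd)) =
        Multiplicative.ofAdd (J x) := by
      apply Multiplicative.toAdd.injective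
      rw [h3, h1, smul_smul, he, one_smul]
      simp
    rw [← h2]
    simp

/-- An element as a function of its parameters. -/
def F (u : V) (e : ZMod 3) (x : V) : V := x.1 • u + x.2 • (e • J u)

def params : List (V × ZMod 3) :=
  [((1,0),1), ((1,0),2), ((2,0),1), ((2,0),2), ((0,1),1), ((0,1),2), ((0,2),1), ((0,2),2),
   ((1,1),1), ((1,1),2), ((1,2),1), ((1,2),2), ((2,1),1), ((2,1),2), ((2,2),1), ((2,2),2)]

theorem exists_params (f : ↥H) : ∃ q ∈ params,
    ∀ x : V, (f.1 (Multiplicative.ofAdd x)).toAdd = F q.1 q.2 x := by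
  obtain ⟨f, e, he, hf⟩ := f
  let φ : V →+ V := toHom f
  set u : V := φ (1, 0) with hu
  have hu0 : u ≠ 0 := fun h => by
    have : f (Multiplicative.ofAdd ((1, 0) : V)) = f 1 := by
      rw [map_one]; exact Multiplicative.toAdd.injective h
    exact absurd (f.injective this) (by decide)
  refine ⟨(u, e), ?_, fun x => ?_⟩
  · have hkey : ∀ (a : V) (b : ZMod 3), a ≠ 0 → b * b = 1 → (a, b) ∈ params := by decide +kernel
    exact hkey u e hu0 he
  · have hx : x = x.1 • ((1, 0) : V) + x.2 • J (1, 0) := by
      revert x; decide +kernel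
    show φ x = F u e x
    conv_lhs => rw [hx]
    rw [map_add, ZMod.map_smul, ZMod.map_smul, ← hu, show φ (J (1, 0)) = e • J u from hf (1, 0)]
    rfl

theorem isPGroup_H : IsPGroup 2 ↥H := fun f => ⟨3, by
  obtain ⟨q, hq, hf⟩ := exists_params f
  have key : ∀ q ∈ params, ∀ x : V, (F q.1 q.2)^[8] x = x := by decide +kernel
  have hit : ∀ (n : ℕ) (x : V),
      (((f ^ n : ↥H) : MulAut (Multiplicative V)) (Multiplicative.ofAdd x)).toAdd = (F q.1 q.2)^[n] x := by
    intro n
    induction n with
    | zero => intro x; rfl
    | succ n ih =>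
      intro x
      rw [pow_succ, Function.iterate_succ_apply, ← ih, ← hf]
      rfl
  apply Subtype.ext
  refine MulEquiv.ext fun z => Multiplicative.toAdd.injective ?_
  exact (hit 8 z.toAdd).trans (key q hq _)⟩

abbrev G : Type := Multiplicative V ⋊[H.subtype] ↥H

def refl : MulAut (Multiplicative V) where
  toFun z := Multiplicative.ofAdd (z.toAdd.1, -z.toAdd.2)
  invFun z := Multiplicative.ofAdd (z.toAdd.1, -z.toAdd.2)
  left_inv z := by simp
  right_inv z := by simp
  map_mul' a b := by
    apply Multiplicative.toAdd.injective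
    ext <;> simp
    ring

def r : ↥H := ⟨refl, 2, by decide, by decide +kernel⟩

def Fi (q : V × ZMod 3) : V → V := (F q.1 q.2)^[7]

theorem key : ∀ q ∈ params, ∀ v : V, ∃ k ∈ params, ∃ w : V,
    F k.1 k.2 v + w = F k.1 k.2 (F q.1 q.2 (Fi k w)) ∨
      ((F k.1 k.2 (F q.1 q.2 (Fi k (1, 0)))).2 = 0 ∧
      (F k.1 k.2 (F q.1 q.2 (Fi k (0, 1)))).1 = 0 ∧
      (F k.1 k.2 v + w - F k.1 k.2 (F q.1 q.2 (Fi k w))).2 = 0) := by
  decide +kernel

theorem exists_of_params : ∀ q ∈ params, ∃ f : ↥H,
    ∀ x : V, (f.1 (Multiplicative.ofAdd x)).toAdd = F q.1 q.2 x := by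
  intro q hq
  have hinv : ∀ q ∈ params, ∀ x : V, F q.1 q.2 (Fi q x) = x ∧ Fi q (F q.1 q.2 x) = x := by
    decide +kernel
  have hadd : ∀ q ∈ params, ∀ x y : V, F q.1 q.2 (x + y) = F q.1 q.2 x + F q.1 q.2 y := by
    decide +kernel
  have hJ : ∀ q ∈ params, q.2 * q.2 = 1 ∧ ∀ x : V, F q.1 q.2 (J x) = q.2 • J (F q.1 q.2 x) := by
    decide +kernel
  exact ⟨⟨{ toFun := fun z => Multiplicative.ofAdd (F q.1 q.2 z.toAdd)
            invFun := fun z => Multiplicative.ofAdd (Fi q z.toAdd)
            left_inv := fun z => Multiplicative.toAdd.injective (hinv q hq _).2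
            right_inv := fun z => Multiplicative.toAdd.injective (hinv q hq _).1
            map_mul' := fun a b => Multiplicative.toAdd.injective (hadd q hq _ _) },
    q.2, (hJ q hq).1, (hJ q hq).2⟩, fun _ => rfl⟩


/-- There is a finite solvable group G with a subgroup A of order 2 such that every conjugacy class of G contains an element g for which A is subnormal in the subgroup generated by A and g, and yet A is not contained in O_2(G). (So the corresponding criteria for odd primes fail at the prime 2, even for solvable groups.) -/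
theorem result :
    ∃ (G : Type) (_ : Group G) (_ : Finite G) (A : Subgroup G), Group.IsSolvable G ∧ Nat.card A = 2 ∧
      (∀ c : G, ∃ g : G, IsConj c g ∧ (A.subgroupOf (A ⊔ Subgroup.zpowers g)).IsSubnormal) ∧
      ¬ A ≤ Cfsg.pCore 2 G := by
  have : Finite (MulAut (Multiplicative V)) :=
    Finite.of_injective (fun f : MulAut (Multiplicative V) => (f : Multiplicative V → Multiplicative V))
      DFunLike.coe_injective
  have : Finite G := Finite.of_equiv _ SemidirectProduct.equivProd.symm
  have : Fact (Nat.Prime 2) := ⟨Nat.prime_two⟩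
  set a : G := SemidirectProduct.inr r with ha
  have hr2 : r * r = 1 := Subtype.ext (MulEquiv.ext fun z => Multiplicative.toAdd.injective (by
    show ((refl (refl z)).toAdd) = z.toAdd
    simp [refl]))
  have hord : orderOf a = 2 := by
    refine orderOf_eq_prime (by rw [sq, ha, ← map_mul, hr2, map_one]) ?_
    intro h
    have h1 : r = 1 := SemidirectProduct.inr_injective (h.trans (map_one _).symm)
    have := congrArg (fun f : ↥H => (f.1 (Multiplicative.ofAdd ((0, 1) : V))).toAdd) h1
    revert this; decide +kernel
  refine ⟨G, inferInstance, inferInstance, Subgroup.zpowers a, ?_, ?_, ?_, ?_⟩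
  · have : Group.IsNilpotent ↥H := isPGroup_H.isNilpotent
    have : Group.IsSolvable ↥H := inferInstance
    exact Group.isSolvable_of_ker_le_range SemidirectProduct.inl SemidirectProduct.rightHom
      SemidirectProduct.range_inl_eq_ker_rightHom.ge
  · rw [Nat.card_zpowers, hord]
  · intro c
    obtain ⟨q, hq, hf⟩ := exists_params c.right
    obtain ⟨kq, hk, w, hw⟩ := key q hq c.left.toAdd
    obtain ⟨k, hkf⟩ := exists_of_params kq hk
    set d : G := ⟨Multiplicative.ofAdd w, k⟩ with hd
    set g : G := d * c * d⁻¹ with hg
    refine ⟨g, isConj_iff.2 ⟨d, rfl⟩, ?_⟩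
    have hkinv : ∀ x : V, (k.1⁻¹ (Multiplicative.ofAdd x)).toAdd = Fi kq x := by
      intro x
      have hk8 : k.1⁻¹ = k.1 ^ 7 := by
        obtain ⟨q', hq', hk'⟩ := exists_params k
        refine inv_eq_of_mul_eq_one_right ?_
        rw [← pow_succ']
        refine MulEquiv.ext fun z => Multiplicative.toAdd.injective ?_
        have k8 : ∀ q ∈ params, ∀ x : V, (F q.1 q.2)^[8] x = x := by decide +kernel
        have e : ∀ n : ℕ, ((k.1 ^ n) z).toAdd = (F q'.1 q'.2)^[n] z.toAdd := by
          intro n
          induction n generalizing z with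
          | zero => rfl
          | succ n ih => rw [pow_succ, Function.iterate_succ_apply, MulAut.mul_apply, ih, ← hk']; rfl
        exact (e 8).trans (k8 q' hq' _)
      rw [hk8]
      have e : ∀ (n : ℕ) (x : V),
          ((k.1 ^ n) (Multiplicative.ofAdd x)).toAdd = (F kq.1 kq.2)^[n] x := by
        intro n
        induction n with
        | zero => intro x; rfl
        | succ n ih =>
          intro x
          rw [pow_succ, Function.iterate_succ_apply, MulAut.mul_apply, ← ih, ← hkf]
          rfl
      exact e 7 x
    have hright : ∀ x : V, (g.right.1 (Multiplicative.ofAdd x)).toAdd =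
        F kq.1 kq.2 (F q.1 q.2 (Fi kq x)) := by
      intro x
      rw [← hkinv x, ← hf, ← hkf]
      rfl
    have hleft : g.left.toAdd =
        F kq.1 kq.2 c.left.toAdd + w - F kq.1 kq.2 (F q.1 q.2 (Fi kq w)) := by
      rw [← hright w, ← hkf]
      simp [hg, hd, SemidirectProduct.mul_left, SemidirectProduct.inv_left, SemidirectProduct.inv_right,
        MulAut.mul_apply]
      abel
    rcases hw with hw | ⟨h10, h01, hl⟩
    · have hgH : g ∈ (SemidirectProduct.inr : ↥H →* G).range := by
        refine ⟨g.right, SemidirectProduct.ext ?_ rfl⟩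
        show (1 : Multiplicative V) = g.left
        apply Multiplicative.toAdd.injective
        rw [hleft, hw, sub_self]
        rfl
      have hle : Subgroup.zpowers a ⊔ Subgroup.zpowers g ≤ (SemidirectProduct.inr : ↥H →* G).range :=
        sup_le (Subgroup.zpowers_le.2 ⟨r, rfl⟩) (Subgroup.zpowers_le.2 hgH)
      have hP : IsPGroup 2 ↥(Subgroup.zpowers a ⊔ Subgroup.zpowers g) := by
        refine IsPGroup.to_le ?_ hle
        exact (isPGroup_H.of_equiv (MonoidHom.ofInjective SemidirectProduct.inr_injective))
      exact isSubnormal_of_pGroup hP _ _ (Nat.le_add_left _ _)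
    · -- here `g` commutes with the reflection
      have hcomm : Commute a g := by
        have hfix : refl g.left = g.left := by
          apply Multiplicative.toAdd.injective
          rw [← hleft] at hl
          show (g.left.toAdd.1, -g.left.toAdd.2) = g.left.toAdd
          ext <;> simp [hl]
        have hrg : r * g.right = g.right * r := by
          apply Subtype.ext
          refine MulEquiv.ext fun z => Multiplicative.toAdd.injective ?_
          obtain ⟨qg, hqg, hgf⟩ := exists_params g.right
          have hk2 : ∀ q ∈ params, (F q.1 q.2 (1, 0)).2 = 0 → (F q.1 q.2 (0, 1)).1 = 0 → ∀ x : V,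
              ((F q.1 q.2 x).1, -(F q.1 q.2 x).2) = F q.1 q.2 (x.1, -x.2) := by decide +kernel
          rw [← hright, hgf] at h10 h01
          have := hk2 qg hqg h10 h01 z.toAdd
          rw [← hgf, ← hgf] at this
          exact this
        refine SemidirectProduct.ext ?_ ?_
        · simp only [ha, SemidirectProduct.mul_left, SemidirectProduct.left_inr,
            SemidirectProduct.right_inr, map_one, mul_one, one_mul]
          exact hfix
        · simp only [ha, SemidirectProduct.mul_right, SemidirectProduct.right_inr]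
          exact hrg
      refine Subgroup.Normal.isSubnormal ((Subgroup.normal_subgroupOf_iff_le_normalizer le_sup_left).2
        (le_trans (sup_le ?_ ?_) (Subgroup.centralizer_le_normalizer _)))
      · intro s hs
        rw [Subgroup.mem_centralizer_iff]
        intro t ht
        obtain ⟨i, rfl⟩ := Subgroup.mem_zpowers_iff.1 hs
        obtain ⟨j, rfl⟩ := Subgroup.mem_zpowers_iff.1 ht
        exact (Commute.zpow_zpow_self a j i).eq
      · intro s hs
        rw [Subgroup.mem_centralizer_iff]
        intro t ht
        obtain ⟨i, rfl⟩ := Subgroup.mem_zpowers_iff.1 hs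
        obtain ⟨j, rfl⟩ := Subgroup.mem_zpowers_iff.1 ht
        exact (hcomm.zpow_zpow j i).eq
  · intro hle
    have ha2 : a ∈ Cfsg.pCore 2 G := hle (Subgroup.mem_zpowers a)
    set t : G := SemidirectProduct.inl (Multiplicative.ofAdd ((0, 1) : V)) with ht
    -- a normal 2-subgroup centralizes the normal 3-group
    suffices hbot : Cfsg.pCore 2 G = ⊥ by
      rw [hbot, Subgroup.mem_bot] at ha2
      rw [ha2, orderOf_one] at hord
      omega
    rw [Cfsg.pCore, sSup_eq_bot]
    rintro N ⟨hN, hp⟩
    rw [Subgroup.eq_bot_iff_forall]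
    intro n hn
    have hR : (SemidirectProduct.inl : Multiplicative V →* G).range.Normal := by
      rw [SemidirectProduct.range_inl_eq_ker_rightHom]; infer_instance
    have h3 : IsPGroup 3 ↥(SemidirectProduct.inl : Multiplicative V →* G).range := by
      have : Fact (Nat.Prime 3) := ⟨Nat.prime_three⟩
      refine (IsPGroup.of_card (p := 3) (n := 2) ?_).of_equiv
        (MonoidHom.ofInjective SemidirectProduct.inl_injective)
      simp [Nat.card_eq_fintype_card]
    have hdis : Disjoint N (SemidirectProduct.inl : Multiplicative V →* G).range :=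
      IsPGroup.disjoint_of_ne 2 3 (by norm_num) _ _ hp h3
    have hc : ∀ x : Multiplicative V, Commute n (SemidirectProduct.inl x) := fun x =>
      Subgroup.commute_of_normal_of_disjoint _ _ hN hR hdis n _ hn ⟨x, rfl⟩
    have hright : n.right = 1 := by
      apply Subtype.ext
      refine MulEquiv.ext fun x => ?_
      have := congrArg SemidirectProduct.left (hc x).eq
      simp only [SemidirectProduct.mul_left, SemidirectProduct.left_inl, SemidirectProduct.right_inl,
        map_one, MulAut.one_apply] at this
      rw [mul_comm x] at this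
      simpa using mul_left_cancel this
    have hmem : n ∈ (SemidirectProduct.inl : Multiplicative V →* G).range :=
      ⟨n.left, SemidirectProduct.ext rfl hright.symm⟩
    exact Subgroup.disjoint_def.1 hdis hn hmem

end Cfsg.Agent.S4331
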