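import Cfsg.Statements.S4332


set_option autoImplicit false
open Pointwise
open Cfsg

namespace Cfsg.Agent.S4332
open Equiv in
/-- Every permutation of eight points fixes three points, permutes three points cyclically, or
maps some three points outside themselves. -/
theorem exists_triple (c : Equiv.Perm (Fin 8)) :
    ∃ x y z : Fin 8, x ≠ y ∧ x ≠ z ∧ y ≠ z ∧
      ((c x = x ∧ c y = y ∧ c z = z) ∨ (c x = y ∧ c y = z ∧ c z = x) ∨
        (∀ u ∈ ({x, y, z} : Finset (Fin 8)), c u ∉ ({x, y, z} : Finset (Fin 8)))) := by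
  classical
  by_cases hfix : 3 ≤ (Finset.univ.filter fun u => c u = u).card
  · obtain ⟨x, hx, y, hy, z, hz, hxy, hxz, hyz⟩ :=
      Finset.two_lt_card.1 (show 2 < (Finset.univ.filter fun u => c u = u).card by omega)
    simp only [Finset.mem_filter, Finset.mem_univ, true_and] at hx hy hz
    exact ⟨x, y, z, hxy, hxz, hyz, Or.inl ⟨hx, hy, hz⟩⟩
  have hmov : 6 ≤ (Finset.univ.filter fun u => c u ≠ u).card := by
    have := Finset.card_filter_add_card_filter_not (s := (Finset.univ : Finset (Fin 8)))
      (fun u => c u = u)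
    simp only [Finset.card_univ, Fintype.card_fin] at this
    simp only [ne_eq]
    omega
  obtain ⟨x, hx⟩ := Finset.card_pos.1 (show 0 < (Finset.univ.filter fun u => c u ≠ u).card by omega)
  simp only [Finset.mem_filter, Finset.mem_univ, true_and] at hx
  by_cases h3 : c (c (c x)) = x ∧ c (c x) ≠ x
  · refine ⟨x, c x, c (c x), Ne.symm hx, h3.2.symm, fun e => hx (c.injective e).symm, Or.inr ?_⟩
    exact Or.inl ⟨rfl, rfl, h3.1⟩
  have pick : ∀ S : Finset (Fin 8), S.card ≤ 5 → ∃ u, c u ≠ u ∧ u ∉ S := by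
    intro S hS
    obtain ⟨u, hu, huS⟩ := Finset.exists_mem_notMem_of_card_lt_card (t :=
      Finset.univ.filter fun u => c u ≠ u) (s := S) (by omega)
    simp only [Finset.mem_filter, Finset.mem_univ, true_and] at hu
    exact ⟨u, hu, huS⟩
  obtain ⟨y, hy, hyx, hyc, hyi, hcard⟩ : ∃ y, c y ≠ y ∧ y ≠ x ∧ y ≠ c x ∧ c y ≠ x ∧
      ({x, c x, c.symm x, y, c y, c.symm y} : Finset (Fin 8)).card ≤ 5 := by
    by_cases h2 : c (c x) = x
    · obtain ⟨y, hy, hy'⟩ := pick {x, c x} (le_trans (Finset.card_le_two) (by norm_num))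
      simp only [Finset.mem_insert, Finset.mem_singleton, not_or] at hy'
      refine ⟨y, hy, hy'.1, hy'.2, fun e => hy'.2 (c.injective (by rw [e, h2])), ?_⟩
      have e : c.symm x = c x := by rw [Equiv.symm_apply_eq, h2]
      rw [e]
      calc ({x, c x, c x, y, c y, c.symm y} : Finset (Fin 8)).card
          = ({x, c x, y, c y, c.symm y} : Finset (Fin 8)).card := by congr 1; simp
        _ ≤ 5 := Finset.card_le_five
    · refine ⟨c (c x), ?_, h2, fun e => hx (c.injective e), fun e => h3 ⟨e, h2⟩, ?_⟩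
      · exact fun e => hx (c.injective (c.injective e))
      · rw [Equiv.symm_apply_apply]
        calc ({x, c x, c.symm x, c (c x), c (c (c x)), c x} : Finset (Fin 8)).card
            = ({x, c x, c.symm x, c (c x), c (c (c x))} : Finset (Fin 8)).card := by
              congr 1; ext; simp; tauto
          _ ≤ 5 := Finset.card_le_five
  obtain ⟨z, hz, hz'⟩ := pick _ hcard
  simp only [Finset.mem_insert, Finset.mem_singleton, not_or] at hz'
  obtain ⟨hzx, hzcx, hzix, hzy, hzcy, hziy⟩ := hz'
  rw [← ne_eq] at hzix hziy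
  refine ⟨x, y, z, hyx.symm, Ne.symm hzx, Ne.symm hzy, Or.inr (Or.inr ?_)⟩
  intro u hu
  simp only [Finset.mem_insert, Finset.mem_singleton] at hu ⊢
  push Not
  rcases hu with rfl | rfl | rfl
  · exact ⟨hx, Ne.symm hyc, Ne.symm hzcx⟩
  · exact ⟨hyi, hy, Ne.symm hzcy⟩
  · exact ⟨fun e => hzix (c.eq_symm_apply.2 e), fun e => hziy (c.eq_symm_apply.2 e), hz⟩

theorem swap_cycle : ∀ a b d : Fin 8, a ≠ b → b ≠ d → d ≠ a →
    Equiv.swap b d * Equiv.swap d a = Equiv.swap a b * Equiv.swap b d := by
  intro a b d hab hbd hda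
  ext u
  revert a b d u
  decide +kernel

open Equiv in
theorem conj_three (g : Equiv.Perm (Fin 8)) (a b d : Fin 8) :
    g * (Equiv.swap a b * Equiv.swap b d) * g⁻¹ = Equiv.swap (g a) (g b) * Equiv.swap (g b) (g d) := by
  rw [Equiv.swap_apply_apply g a b, Equiv.swap_apply_apply g b d]
  group


/-- In the symmetric group of degree 8, let A be the subgroup generated by a 3-cycle. Then every conjugacy class contains an element g for which A is subnormal in the subgroup generated by A and its conjugate by g, although O_3 of the symmetric group of degree 8 is trivial. -/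
theorem result
    (σ : Equiv.Perm (Fin 8)) (hσ : σ.IsThreeCycle) :
    (∀ c : Equiv.Perm (Fin 8), ∃ g : Equiv.Perm (Fin 8), IsConj c g ∧
      ((Subgroup.zpowers σ).subgroupOf (Subgroup.zpowers σ ⊔ MulAut.conj g • Subgroup.zpowers σ)).IsSubnormal) ∧
    Cfsg.pCore 3 (Equiv.Perm (Fin 8)) = ⊥ := by
  refine ⟨fun c => ?_, ?_⟩
  · obtain ⟨a, b, d, hab, hbd, hda, hσe⟩ : ∃ a b d : Fin 8, a ≠ b ∧ b ≠ d ∧ d ≠ a ∧
        σ = Equiv.swap a b * Equiv.swap b d := by
      obtain ⟨a, ha⟩ : ∃ a, σ a ≠ a := by
        by_contra hc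
        push Not at hc
        exact hσ.isCycle.ne_one (Equiv.ext hc)
      have h3 : ∀ u, σ (σ (σ u)) = u := fun u => by
        have := congrArg (fun p : Equiv.Perm (Fin 8) => p u) (pow_orderOf_eq_one σ)
        rw [hσ.orderOf] at this
        simpa [pow_succ] using this
      have h2 : σ (σ a) ≠ a := fun e => ha (by have := h3 a; rwa [e] at this)
      refine ⟨a, σ a, σ (σ a), Ne.symm ha, fun e => ha (σ.injective e).symm, h2, Equiv.ext fun u => ?_⟩
      have hsupp : σ.support = {a, σ a, σ (σ a)} := by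
        refine (Finset.eq_of_subset_of_card_le ?_ ?_).symm
        · intro v hv
          simp only [Finset.mem_insert, Finset.mem_singleton] at hv
          rcases hv with rfl | rfl | rfl <;> simp [ha]
        · rw [hσ.card_support, Finset.card_eq_three.2 ⟨a, σ a, σ (σ a), Ne.symm ha, h2.symm,
            fun e => ha (σ.injective e).symm, rfl⟩]
      have hne1 : σ a ≠ σ (σ a) := fun e => ha (σ.injective e).symm
      by_cases hu : u ∈ σ.support
      · rw [hsupp] at hu
        simp only [Finset.mem_insert, Finset.mem_singleton] at hu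
        rcases hu with rfl | rfl | rfl
        · simp [Equiv.swap_apply_of_ne_of_ne, Ne.symm ha, h2.symm]
        · simp [Equiv.swap_apply_of_ne_of_ne, h2, hne1.symm]
        · simp [h3]
      · have hu' := hu
        rw [hsupp] at hu'
        simp only [Finset.mem_insert, Finset.mem_singleton, not_or] at hu'
        rw [Equiv.Perm.notMem_support.1 hu]
        simp [Equiv.swap_apply_of_ne_of_ne, hu'.1, hu'.2.1, hu'.2.2]
    obtain ⟨x, y, z, hxy, hxz, hyz, hcase⟩ := exists_triple c
    obtain ⟨k, hk⟩ : ∃ k : Equiv.Perm (Fin 8), k x = a ∧ k y = b ∧ k z = d := by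
      have h1 : ∃ k : Equiv.Perm (Fin 8), k x = a ∧ k y = b := ⟨Equiv.swap (Equiv.swap x a y) b * Equiv.swap x a, by
        constructor
        · rw [Equiv.Perm.mul_apply, Equiv.swap_apply_left]
          refine Equiv.swap_apply_of_ne_of_ne (fun e => ?_) hab
          rw [← Equiv.swap_apply_left x a] at e
          exact hxy ((Equiv.swap x a).injective (by simpa using e))
        · rw [Equiv.Perm.mul_apply, Equiv.swap_apply_left]⟩
      obtain ⟨k, hka, hkb⟩ := h1
      refine ⟨Equiv.swap (k z) d * k, ?_, ?_, ?_⟩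
      · rw [Equiv.Perm.mul_apply, hka]
        exact Equiv.swap_apply_of_ne_of_ne (fun e => hxz (k.injective (hka.trans e))) (Ne.symm hda)
      · rw [Equiv.Perm.mul_apply, hkb]
        exact Equiv.swap_apply_of_ne_of_ne (fun e => hyz (k.injective (hkb.trans e))) hbd
      · rw [Equiv.Perm.mul_apply, Equiv.swap_apply_left]
    obtain ⟨hkx, hky, hkz⟩ := hk
    have hgx : ∀ u, (k * c * k⁻¹) (k u) = k (c u) := fun u => by simp
    refine ⟨k * c * k⁻¹, isConj_iff.2 ⟨k, rfl⟩, ?_⟩
    have hcomm : Commute σ ((k * c * k⁻¹) * σ * (k * c * k⁻¹)⁻¹) := by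
      generalize hg : k * c * k⁻¹ = g at hgx ⊢
      rw [hσe, conj_three, ← hkx, ← hky, ← hkz, hgx, hgx, hgx]
      rcases hcase with ⟨e1, e2, e3⟩ | ⟨e1, e2, e3⟩ | hdisj
      · rw [e1, e2, e3]
      · rw [e1, e2, e3]
        suffices Equiv.swap (k y) (k z) * Equiv.swap (k z) (k x) =
            Equiv.swap (k x) (k y) * Equiv.swap (k y) (k z) by rw [this]
        rw [hkx, hky, hkz]
        exact swap_cycle a b d hab hbd hda
      · refine Equiv.Perm.Disjoint.commute fun u => ?_
        by_cases h1 : u = k x ∨ u = k y ∨ u = k z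
        · right
          have hm : ∀ v ∈ ({x, y, z} : Finset (Fin 8)), u ≠ k (c v) := by
            intro v hv e
            apply hdisj v hv
            rcases h1 with rfl | rfl | rfl <;> simp [← k.injective e]
          rw [Equiv.Perm.mul_apply, Equiv.swap_apply_of_ne_of_ne (hm y (by simp)) (hm z (by simp)),
            Equiv.swap_apply_of_ne_of_ne (hm x (by simp)) (hm y (by simp))]
        · left
          push Not at h1
          rw [Equiv.Perm.mul_apply, Equiv.swap_apply_of_ne_of_ne h1.2.1 h1.2.2,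
            Equiv.swap_apply_of_ne_of_ne h1.1 h1.2.1]
    refine Subgroup.Normal.isSubnormal ((Subgroup.normal_subgroupOf_iff_le_normalizer le_sup_left).2 ?_)
    refine le_trans (sup_le ?_ ?_) (Subgroup.centralizer_le_normalizer _)
    · intro s hs
      rw [Subgroup.mem_centralizer_iff]
      intro t ht
      obtain ⟨i, rfl⟩ := Subgroup.mem_zpowers_iff.1 hs
      obtain ⟨j, rfl⟩ := Subgroup.mem_zpowers_iff.1 ht
      exact (Commute.zpow_zpow_self σ j i).eq
    · intro s hs
      rw [Subgroup.mem_centralizer_iff]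
      intro t ht
      rw [Subgroup.mem_pointwise_smul_iff_inv_smul_mem] at hs
      obtain ⟨i, hi⟩ := Subgroup.mem_zpowers_iff.1 hs
      obtain ⟨j, rfl⟩ := Subgroup.mem_zpowers_iff.1 ht
      have e : s = ((k * c * k⁻¹) * σ * (k * c * k⁻¹)⁻¹) ^ i := by
        rw [conj_zpow, hi]; simp [MulAut.smul_def]; group
      rw [e]
      exact (hcomm.zpow_zpow j i).eq
  · rw [Cfsg.pCore, sSup_eq_bot]
    rintro N ⟨hN, hp⟩
    by_contra hne
    have := (Subgroup.nontrivial_iff_ne_bot N).2 hne
    have hle := Equiv.Perm.alternatingGroup_le_of_normal (α := Fin 8) (by simp) (N := N) this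
    have : Fact (Nat.Prime 3) := ⟨Nat.prime_three⟩
    obtain ⟨j, hj⟩ := (hp.to_le hle).exists_card_eq
    have h2 := two_mul_nat_card_alternatingGroup (α := Fin 8)
    rw [Nat.card_perm, Nat.card_fin, hj] at h2
    have : 2 * 3 ^ j = 40320 := h2
    have h5 : 5 ∣ 2 * 3 ^ j := by rw [this]; norm_num
    rcases (Nat.Prime.dvd_mul (by norm_num)).1 h5 with h | h
    · norm_num at h
    · exact absurd ((Nat.prime_dvd_prime_iff_eq (by norm_num) Nat.prime_three).1
        ((by norm_num : Nat.Prime 5).dvd_of_dvd_pow h)) (by norm_num)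

end Cfsg.Agent.S4332
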