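import Cfsg.Statements.S4333
-- import your own Cfsg.Agent.* helpers here
import Cfsg.Agent.Lib.SubnormalJoin

set_option autoImplicit false
open Pointwise
open Cfsg

namespace Cfsg.Agent.S4333


/-- Let A be a subgroup of a finite group G. If A is subnormal in the subgroup generated by A and its conjugate by g⁻¹ a g, for every a ∈ A and every g ∈ G, then A is subnormal in G. (A sharpening of Wielandt's subnormality criterion: only conjugates of A by conjugates of elements of A are needed.) -/
theorem result {G : Type*} [Group G] [Finite G]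
    (A : Subgroup G)
    (h : ∀ a ∈ A, ∀ g : G, (A.subgroupOf (A ⊔ MulAut.conj (g⁻¹ * a * g) • A)).IsSubnormal) :
    A.IsSubnormal := by
  generalize hn : Nat.card G = n
  induction n using Nat.strong_induction_on generalizing G with
  | _ n ih =>
    by_contra hA
    have hsub : ∀ X : Subgroup G, A ≤ X → X ≠ ⊤ → (A.subgroupOf X).IsSubnormal := by
      intro X hAX hX
      refine ih (Nat.card X) ?_ _ ?_ rfl
      · rw [← hn]
        exact lt_of_le_of_ne (Subgroup.card_le_card_group X) fun e => hX (Subgroup.eq_top_of_card_eq X e)
      intro a ha g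
      set J := A.subgroupOf X ⊔ MulAut.conj (g⁻¹ * a * g) • A.subgroupOf X with hJ
      set J₀ := A ⊔ MulAut.conj ((g : G)⁻¹ * (a : G) * g) • A with hJ₀
      have hmap : ∀ y : X, y ∈ J → (y : G) ∈ J₀ := by
        have : J ≤ J₀.comap X.subtype := by
          refine sup_le (fun y hy => Subgroup.mem_sup_left hy) (fun y hy => Subgroup.mem_sup_right ?_)
          rw [Subgroup.mem_pointwise_smul_iff_inv_smul_mem] at hy ⊢
          simpa [Subgroup.mem_subgroupOf, MulAut.smul_def] using hy
        exact fun y hy => this hy
      have e : (A.subgroupOf X).subgroupOf J = (A.subgroupOf J₀).comap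
          ((X.subtype.comp J.subtype).codRestrict J₀ (fun y => hmap y y.2)) := by
        ext y
        simp only [Subgroup.mem_subgroupOf, Subgroup.mem_comap]
        rfl
      rw [e]
      exact (h _ ha g).comap _
    obtain ⟨M, hM, hAM, huniq⟩ := Cfsg.Agent.SubnormalJoin.zipper A hsub hA
    have key : ∀ a ∈ A, ∀ g : G, g⁻¹ * a * g ∈ M := by
      intro a ha g
      set b := g⁻¹ * a * g with hb
      have hJ : A ⊔ MulAut.conj b • A ≠ ⊤ := by
        intro e
        apply hA
        have h1 := h a ha g
        rw [← hb, e] at h1
        exact h1.trans le_top Subgroup.IsSubnormal.top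
      have hle : MulAut.conj b • A ≤ M := le_sup_right.trans (huniq _ le_sup_left hJ)
      have hAM' : A ≤ MulAut.conj b⁻¹ • M := by
        intro y hy
        rw [Subgroup.mem_pointwise_smul_iff_inv_smul_mem]
        have := hle (Subgroup.smul_mem_pointwise_smul y (MulAut.conj b) A hy)
        simpa using this
      have hne : MulAut.conj b⁻¹ • M ≠ ⊤ := fun e => hM.1 <| by
        rw [eq_top_iff]
        intro y _
        have : MulAut.conj b⁻¹ • y ∈ MulAut.conj b⁻¹ • M := e ▸ Subgroup.mem_top _
        exact Subgroup.smul_mem_pointwise_smul_iff.mp this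
      have hbN : b⁻¹ ∈ Subgroup.normalizer (M : Set G) := by
        haveI : Finite M := inferInstance
        refine Subgroup.mem_normalizer_fintype fun y hy => ?_
        exact huniq _ hAM' hne (Subgroup.smul_mem_pointwise_smul y (MulAut.conj b⁻¹) M hy)
      by_cases hN : Subgroup.normalizer (M : Set G) = ⊤
      · exfalso
        exact hA (Subgroup.IsSubnormal.trans hAM (hsub M hAM hM.1) (Subgroup.normalizer_eq_top_iff.mp hN).isSubnormal)
      · exact inv_mem_iff.mp (huniq _ (hAM.trans Subgroup.le_normalizer) hN hbN)
    set N := Subgroup.normalClosure (A : Set G)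
    have hNM : N ≤ M := by
      refine (Subgroup.closure_le _).mpr fun y hy => ?_
      obtain ⟨a, ha, hc⟩ := Group.mem_conjugatesOfSet_iff.mp hy
      obtain ⟨c, hc⟩ := isConj_iff.mp hc
      rw [SetLike.mem_coe, ← hc]
      simpa using key a ha c⁻¹
    have hAN : A ≤ N := Subgroup.le_normalClosure
    exact hA (Subgroup.IsSubnormal.trans hAN (hsub N hAN (fun e => hM.1 (top_le_iff.mp (e ▸ hNM))))
      Subgroup.normalClosure_normal.isSubnormal)

end Cfsg.Agent.S4333
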