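import Cfsg.Statements.S4334
-- import your own Cfsg.Agent.* helpers here
import Cfsg.Agent.Lib.HallNilpotentConj
import Cfsg.Agent.Lib.TransferAlperin
import Cfsg.Agent.Lib.CoprimeAction

set_option autoImplicit false
open Cfsg

namespace Cfsg.Agent.S4334

open Cfsg.Agent Pointwise

variable {G : Type*} [Group G] [Finite G]

theorem le_of_prime_power_mem {X Y : Subgroup G}
    (h : ∀ q : ℕ, q.Prime → ∀ x ∈ X, (∃ k, orderOf x = q ^ k) → x ∈ Y) : X ≤ Y := by
  rw [← Subgroup.relIndex_eq_one]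
  by_contra hne
  obtain ⟨q, hq, hd⟩ := Nat.exists_prime_and_dvd hne
  haveI := Fact.mk hq
  obtain ⟨R⟩ : Nonempty (Sylow q X) := inferInstance
  refine R.not_dvd_index (hd.trans (Subgroup.index_dvd_of_le fun r hr => ?_))
  obtain ⟨k, hk⟩ := IsPGroup.iff_orderOf.mp R.isPGroup' ⟨r, hr⟩
  exact Subgroup.mem_subgroupOf.mpr (h q hq r r.2 ⟨k, by rw [← hk, Subgroup.orderOf_mk, Subgroup.orderOf_coe]⟩)

/-- An element normalizing a subgroup whose centralizer has index prime to its order centralizes it. -/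
theorem mem_centralizer_of_index {A : Subgroup G} {r : ℕ} (hr : r.Prime) {u : G} (hu : ∃ k, orderOf u = r ^ k)
    (hN : u ∈ Subgroup.normalizer (A : Set G)) (hidx : ¬ r ∣ (Subgroup.centralizer (A : Set G)).index) :
    u ∈ Subgroup.centralizer (A : Set G) := by
  obtain ⟨k, hk⟩ := hu
  set N := Subgroup.normalizer (A : Set G)
  set D := (Subgroup.centralizer (A : Set G)).subgroupOf N
  haveI hDn : D.Normal := by
    show ((Subgroup.centralizer (A : Set G)).subgroupOf (Subgroup.normalizer (A : Set G))).Normal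
    rw [← A.normalizerMonoidHom_ker]
    exact A.normalizerMonoidHom.normal_ker
  have h1 : orderOf ((⟨u, hN⟩ : N) : N ⧸ D) ∣ r ^ k := by
    refine (orderOf_map_dvd (QuotientGroup.mk' D) _).trans ?_
    rw [Subgroup.orderOf_mk, hk]
  have h2 : orderOf ((⟨u, hN⟩ : N) : N ⧸ D) ∣ (Subgroup.centralizer (A : Set G)).index :=
    (orderOf_dvd_natCard _).trans (by
      rw [← Subgroup.index_eq_card]
      exact Subgroup.relIndex_dvd_index_of_le (Subgroup.centralizer_le_normalizer _))
  have h3 := orderOf_eq_one_iff.mp (Nat.eq_one_of_dvd_coprimes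
    (((Nat.Prime.coprime_iff_not_dvd hr).mpr hidx).pow_left k) h1 h2)
  exact Subgroup.mem_subgroupOf.mp ((QuotientGroup.eq_one_iff _).mp h3)

theorem map_conj_map_conj (c d : G) (A : Subgroup G) :
    (A.map (MulAut.conj c).toMonoidHom).map (MulAut.conj d).toMonoidHom = A.map (MulAut.conj (d * c)).toMonoidHom := by
  rw [Subgroup.map_map]; congr 1; ext x; simp [mul_assoc]

/-- Wielandt: a nilpotent Hall subgroup contains, up to conjugacy, every nilpotent subgroup of its primes. -/
theorem wielandt_le : ∀ (n : ℕ) (C H S : Subgroup G), Nat.card H = n → H ≤ C → S ≤ C →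
    Group.IsNilpotent H → Group.IsNilpotent S → (∀ q : ℕ, q.Prime → q ∣ Nat.card S → q ∣ Nat.card H) →
    (Nat.card H).Coprime (H.relIndex C) → ∃ c ∈ C, S ≤ H.map (MulAut.conj c).toMonoidHom := by
  intro n
  induction n using Nat.strong_induction_on with
  | _ n ih =>
  intro C H S hn hHC hSC hH hS hSp hcop
  by_cases h1 : Nat.card H = 1
  · refine ⟨1, one_mem C, ?_⟩
    have : Nat.card S = 1 := Nat.eq_one_iff_not_exists_prime_dvd.mpr fun q hq hd => hq.not_dvd_one (h1 ▸ hSp q hq hd)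
    rw [Subgroup.card_eq_one.mp this]; exact bot_le
  obtain ⟨p, hp, hpd⟩ := Nat.exists_prime_and_dvd h1
  haveI := Fact.mk hp
  obtain ⟨P, B, hP, hPB, hBP, hBp, hPc, -⟩ := HallNilpotentConj.exists_split H p
  obtain ⟨A, S', hA, hAS, hSA, hSp', hAc, -⟩ := HallNilpotentConj.exists_split S p
  have hPH : P ≤ H := hPB ▸ le_sup_left
  have hBH : B ≤ H := hPB ▸ le_sup_right
  have hPC : P ≤ C := hPH.trans hHC
  have hnot : ¬ p ∣ P.relIndex C := by
    rw [← Subgroup.relIndex_mul_relIndex P H C hPH hHC]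
    intro hd
    rcases (Nat.Prime.dvd_mul hp).mp hd with hd | hd
    · have h2 : P.relIndex H = Nat.card B := by
        have h3 := Subgroup.relIndex_mul_relIndex ⊥ P H bot_le hPH
        rw [Subgroup.relIndex_bot_left, Subgroup.relIndex_bot_left, ← hPc] at h3
        exact Nat.eq_of_mul_eq_mul_left Nat.card_pos h3
      rw [h2] at hd
      exact (Nat.Prime.coprime_iff_not_dvd hp).mp hBp.symm hd
    · exact hp.one_lt.ne' (Nat.eq_one_of_dvd_coprimes hcop hpd hd)
  let P₀ : Sylow p C := (hP.of_equiv (Subgroup.subgroupOfEquivOfLe hPC).symm).toSylow hnot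
  have hAC : A ≤ C := (hAS ▸ le_sup_left : A ≤ S).trans hSC
  obtain ⟨R, hR⟩ := (hA.comap_subtype (K := C)).exists_le_sylow
  obtain ⟨⟨c, hc⟩, hcR⟩ := MulAction.exists_smul_eq C P₀ R
  set φ := (MulAut.conj c).toMonoidHom with hφ
  have hAP : A ≤ P.map φ := by
    intro x hx
    have hxR : (⟨x, hAC hx⟩ : C) ∈ (R : Subgroup C) := hR hx
    rw [← hcR, Sylow.coe_subgroup_smul, Subgroup.mem_pointwise_smul_iff_inv_smul_mem] at hxR
    refine ⟨c⁻¹ * x * c, ?_, by simp [hφ, mul_assoc]⟩
    have h5 : (((MulAut.conj (⟨c, hc⟩ : C))⁻¹ • (⟨x, hAC hx⟩ : C) : C) : G) ∈ P := hxR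
    simpa [MulAut.smul_def] using h5
  set B' := B.map φ
  have hB'C : B' ≤ C := HallNilpotentConj.map_conj_le (hBH.trans hHC) hc
  set D := C ⊓ Subgroup.centralizer (A : Set G)
  have hB'D : B' ≤ D := by
    refine le_inf hB'C ?_
    rintro _ ⟨b, hb, rfl⟩
    rw [Subgroup.mem_centralizer_iff]
    intro a ha
    obtain ⟨y, hy, rfl⟩ := hAP ha
    rw [← map_mul, ← map_mul]
    exact congrArg φ (Subgroup.mem_centralizer_iff.mp (hBP hb) y hy)
  have hS'D : S' ≤ D := le_inf ((hAS ▸ le_sup_right : S' ≤ S).trans hSC) hSA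
  have hcardB : Nat.card B' = Nat.card B := Subgroup.card_map_of_injective (MulAut.conj c).injective
  have hlt : Nat.card B' < n := by
    rw [hcardB, ← hn, ← hPc]
    refine (Nat.lt_mul_iff_one_lt_left Nat.card_pos).mpr ?_
    by_contra hle
    have hP1 : Nat.card P = 1 := le_antisymm (not_lt.mp hle) Nat.card_pos
    rw [hP1, one_mul] at hPc
    exact (Nat.Prime.coprime_iff_not_dvd hp).mp hBp.symm (hPc ▸ hpd)
  haveI : Group.IsNilpotent B :=
    Subgroup.isNilpotent_of_ker_le_center (Subgroup.inclusion hBH) (by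
      rw [(MonoidHom.ker_eq_bot_iff _).mpr (Subgroup.inclusion_injective hBH)]; exact bot_le)
  haveI : Group.IsNilpotent S' :=
    Subgroup.isNilpotent_of_ker_le_center (Subgroup.inclusion (hAS ▸ le_sup_right : S' ≤ S)) (by
      rw [(MonoidHom.ker_eq_bot_iff _).mpr (Subgroup.inclusion_injective _)]; exact bot_le)
  have hnB : Group.IsNilpotent B' :=
    Group.nilpotent_of_mulEquiv (B.equivMapOfInjective φ (MulAut.conj c).injective)
  have hcop2 : (Nat.card B').Coprime (B'.relIndex D) := by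
    refine Nat.Coprime.coprime_dvd_right ⟨D.relIndex C, (Subgroup.relIndex_mul_relIndex B' D C hB'D inf_le_left).symm⟩ ?_
    have e1 := Subgroup.relIndex_mul_relIndex ⊥ B' C bot_le hB'C
    have e2 := Subgroup.relIndex_mul_relIndex ⊥ H C bot_le hHC
    rw [Subgroup.relIndex_bot_left, Subgroup.relIndex_bot_left, hcardB] at e1
    rw [Subgroup.relIndex_bot_left, Subgroup.relIndex_bot_left, ← hPc, ← e1, mul_comm (Nat.card P) _, mul_assoc] at e2
    have e3 : B'.relIndex C = Nat.card P * H.relIndex C := (Nat.eq_of_mul_eq_mul_left Nat.card_pos e2).symm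
    rw [e3, hcardB]
    obtain ⟨a, ha⟩ := IsPGroup.iff_card.mp hP
    refine Nat.Coprime.mul_right (ha ▸ hBp.pow_right a) (hcop.coprime_dvd_left (hPc ▸ dvd_mul_left _ _))
  have hprimes : ∀ q : ℕ, q.Prime → q ∣ Nat.card S' → q ∣ Nat.card B' := by
    intro q hq hd
    have hqp : q ≠ p := by
      rintro rfl
      exact (Nat.Prime.coprime_iff_not_dvd hp).mp hSp'.symm hd
    have h3 := hSp q hq (hd.trans (Subgroup.card_dvd_of_le (hAS ▸ le_sup_right)))
    rw [← hPc] at h3
    refine hcardB ▸ ((Nat.Prime.dvd_mul hq).mp h3).resolve_left fun h4 => hqp ?_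
    obtain ⟨a, ha⟩ := IsPGroup.iff_card.mp hP
    exact (Nat.prime_dvd_prime_iff_eq hq hp).mp (hq.dvd_of_dvd_pow (ha ▸ h4))
  obtain ⟨d, hd, hdS⟩ := ih _ hlt D B' S' rfl hB'D hS'D hnB inferInstance hprimes hcop2
  refine ⟨d * c, mul_mem hd.1 hc, ?_⟩
  rw [← hAS, ← map_conj_map_conj]
  refine sup_le ?_ (hdS.trans (Subgroup.map_mono (Subgroup.map_mono hBH)))
  intro a ha
  refine ⟨a, Subgroup.map_mono hPH (hAP ha), ?_⟩
  have := Subgroup.mem_centralizer_iff.mp hd.2 a ha
  simp [← this]

variable {σ τ π : Set ℕ}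

/-- Every `π`-subgroup embeds into a conjugate of `H`. -/
theorem le_conj (hπ : π = σ ∪ τ) (hd : Disjoint σ τ) (H Hs Ht : Subgroup G) (hH : Cfsg.IsPiHall π H)
    (hs : Cfsg.IsPiSubgroup σ Hs) (ht : Cfsg.IsPiSubgroup τ Ht) (hsn : Group.IsNilpotent Hs)
    (hjoin : Hs ⊔ Ht = H) (hcomm : ∀ a ∈ Hs, ∀ b ∈ Ht, a * b = b * a) (hD : Cfsg.IsDPiGroup τ G)
    (K : Subgroup G) (hK : Cfsg.IsPiSubgroup π K) : ∃ g : G, K ≤ H.map (MulAut.conj g).toMonoidHom := by
  classical
  obtain ⟨hH1, hH2⟩ := hH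
  have hdisj : ∀ {r : ℕ}, r ∈ σ → r ∈ τ → False := fun h1 h2 => Set.disjoint_left.mp hd h1 h2
  -- orders
  have hcard : Nat.card Hs * Nat.card Ht = Nat.card H := by
    have hi : Hs ⊓ Ht = ⊥ := by
      rw [← Subgroup.card_eq_one]
      refine Nat.eq_one_iff_not_exists_prime_dvd.mpr fun r hr h => hdisj (hs r hr ?_) (ht r hr ?_)
      · exact h.trans (Subgroup.card_dvd_of_le inf_le_left)
      · exact h.trans (Subgroup.card_dvd_of_le inf_le_right)
    have hN : Ht ≤ Subgroup.normalizer (Hs : Set G) := fun b hb =>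
      Subgroup.centralizer_le_normalizer _ (Subgroup.mem_centralizer_iff.mpr fun a ha => hcomm a ha b hb)
    let f : Hs × Ht →* G := Hs.subtype.noncommCoprod Ht.subtype (fun a b => hcomm a a.2 b b.2)
    have hinj : Function.Injective f := by
      rw [injective_iff_map_eq_one]
      rintro ⟨a, b⟩ hab
      have h1 : (a : G) = (b : G)⁻¹ := eq_inv_of_mul_eq_one_left hab
      have h2 : (a : G) ∈ Hs ⊓ Ht := Subgroup.mem_inf.mpr ⟨a.2, h1 ▸ inv_mem b.2⟩
      rw [hi, Subgroup.mem_bot] at h2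
      have h3 : (b : G) = 1 := by rwa [h2, eq_comm, inv_eq_one] at h1
      exact Prod.ext (Subtype.ext h2) (Subtype.ext h3)
    have hr : f.range = H := by
      refine ((MonoidHom.noncommCoprod_range Hs.subtype Ht.subtype _).trans ?_)
      rw [Subgroup.range_subtype, Subgroup.range_subtype, hjoin]
    rw [← Nat.card_prod, Nat.card_congr (MonoidHom.ofInjective hinj).toEquiv, hr]
  have hHs : Hs ≤ H := hjoin ▸ le_sup_left
  have hHt : Ht ≤ H := hjoin ▸ le_sup_right
  have hHsI : ∀ r : ℕ, r.Prime → r ∈ σ → ¬ r ∣ Hs.index := by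
    intro r hr hrs h
    rw [← Subgroup.relIndex_mul_index hHs] at h
    rcases (Nat.Prime.dvd_mul hr).mp h with h | h
    · have e := Subgroup.relIndex_mul_relIndex ⊥ Hs H bot_le hHs
      rw [Subgroup.relIndex_bot_left, Subgroup.relIndex_bot_left, ← hcard] at e
      rw [Nat.eq_of_mul_eq_mul_left Nat.card_pos e] at h
      exact hdisj hrs (ht r hr h)
    · exact hH2 r hr (hπ ▸ Or.inl hrs) h
  have hHtI : ∀ r : ℕ, r.Prime → r ∈ τ → ¬ r ∣ Ht.index := by
    intro r hr hrs h
    rw [← Subgroup.relIndex_mul_index hHt] at h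
    rcases (Nat.Prime.dvd_mul hr).mp h with h | h
    · have e := Subgroup.relIndex_mul_relIndex ⊥ Ht H bot_le hHt
      rw [Subgroup.relIndex_bot_left, Subgroup.relIndex_bot_left, ← hcard, mul_comm (Nat.card Hs)] at e
      rw [Nat.eq_of_mul_eq_mul_left Nat.card_pos e] at h
      exact hdisj (hs r hr h) hrs
    · exact hH2 r hr (hπ ▸ Or.inr hrs) h
  have conjidx : ∀ (c : G) (X : Subgroup G), (X.map (MulAut.conj c).toMonoidHom).index = X.index := fun c X =>
    Subgroup.index_map_of_bijective (MulAut.conj c).bijective X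
  -- a subgroup centralized by a piece of a Hall subgroup
  have hcent : ∀ {r : ℕ} (c : G) (X Y A : Subgroup G), A ≤ Y.map (MulAut.conj c).toMonoidHom →
      X ≤ Subgroup.centralizer (Y : Set G) → ¬ r ∣ X.index → ¬ r ∣ (Subgroup.centralizer (A : Set G)).index := by
    intro r c X Y A hAY hXY hX hr
    apply hX
    rw [← conjidx c X]
    refine hr.trans (Subgroup.index_dvd_of_le ?_)
    rintro _ ⟨x, hx, rfl⟩
    rw [Subgroup.mem_centralizer_iff]
    intro a ha
    obtain ⟨y, hy, rfl⟩ := hAY ha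
    rw [← map_mul, ← map_mul]
    exact congrArg _ (Subgroup.mem_centralizer_iff.mp (hXY hx) y hy)
  -- τ-subgroups lie in conjugates of `Ht`
  have hτ : ∀ R : Subgroup G, Cfsg.IsPiSubgroup τ R → ∃ c : G, R ≤ Ht.map (MulAut.conj c).toMonoidHom := by
    intro R hR
    have hmax : Maximal (Cfsg.IsPiSubgroup τ) Ht := by
      refine ⟨ht, fun L hL hle => ?_⟩
      rw [← Subgroup.relIndex_eq_one]
      refine Nat.eq_one_iff_not_exists_prime_dvd.mpr fun r hr h => ?_
      exact hHtI r hr (hL r hr (h.trans (Subgroup.relIndex_dvd_card Ht L))) (h.trans (Subgroup.relIndex_dvd_index_of_le hle))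
    obtain ⟨M, hRM, hM⟩ := Finite.exists_le_maximal (p := Cfsg.IsPiSubgroup τ) hR
    obtain ⟨c, hc⟩ := hD Ht M hmax hM
    exact ⟨c, hc ▸ hRM⟩
  -- a σ-prime element normalizing a τ-subgroup centralizes it
  have keyτ : ∀ {r : ℕ}, r.Prime → r ∈ σ → ∀ R : Subgroup G, Cfsg.IsPiSubgroup τ R → ∀ u : G,
      (∃ k, orderOf u = r ^ k) → u ∈ Subgroup.normalizer (R : Set G) → u ∈ Subgroup.centralizer (R : Set G) := by
    intro r hr hrs R hR u hu hN
    obtain ⟨c, hc⟩ := hτ R hR
    exact mem_centralizer_of_index hr hu hN (hcent c Hs Ht R hc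
      (fun a ha => Subgroup.mem_centralizer_iff.mpr fun b hb => (hcomm a ha b hb).symm) (hHsI r hr hrs))
  -- a π-element of other prime normalizing a σ-prime subgroup centralizes it
  have keyσ : ∀ {q r : ℕ}, q.Prime → q ∈ σ → r.Prime → r ∈ π → r ≠ q → ∀ A : Subgroup G, IsPGroup q A → ∀ u : G,
      (∃ k, orderOf u = r ^ k) → u ∈ Subgroup.normalizer (A : Set G) → u ∈ Subgroup.centralizer (A : Set G) := by
    intro q r hq hqs hr hrπ hne A hA u hu hN
    haveI := Fact.mk hq
    haveI := Fact.mk hr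
    obtain ⟨Q, B, hQ, hQB, hBQ, hBq, hQc, -⟩ := HallNilpotentConj.exists_split Hs q
    have hQs : Q ≤ Hs := hQB ▸ le_sup_left
    have hBs : B ≤ Hs := hQB ▸ le_sup_right
    obtain ⟨kq, hkq⟩ := IsPGroup.iff_card.mp hQ
    have eQ : Q.relIndex Hs = Nat.card B := by
      have e := Subgroup.relIndex_mul_relIndex ⊥ Q Hs bot_le hQs
      rw [Subgroup.relIndex_bot_left, Subgroup.relIndex_bot_left, ← hQc] at e
      exact Nat.eq_of_mul_eq_mul_left Nat.card_pos e
    have eB : B.relIndex Hs = Nat.card Q := by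
      have e := Subgroup.relIndex_mul_relIndex ⊥ B Hs bot_le hBs
      rw [Subgroup.relIndex_bot_left, Subgroup.relIndex_bot_left, ← hQc, mul_comm (Nat.card Q)] at e
      exact Nat.eq_of_mul_eq_mul_left Nat.card_pos e
    have hQi : ¬ q ∣ Q.index := by
      rw [← Subgroup.relIndex_mul_index hQs, eQ]
      intro h
      rcases (Nat.Prime.dvd_mul hq).mp h with h | h
      · exact (Nat.Prime.coprime_iff_not_dvd hq).mp hBq.symm h
      · exact hHsI q hq hqs h
    obtain ⟨T, hT⟩ := hA.exists_le_sylow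
    obtain ⟨c, hc⟩ := MulAction.exists_smul_eq G (hQ.toSylow hQi) T
    have hAQ : A ≤ Q.map (MulAut.conj c).toMonoidHom := by
      intro a ha
      have h1 := hT ha
      rw [← hc, Sylow.coe_subgroup_smul, Subgroup.mem_pointwise_smul_iff_inv_smul_mem] at h1
      refine ⟨c⁻¹ * a * c, ?_, by simp [mul_assoc]⟩
      simpa [MulAut.smul_def] using h1
    refine mem_centralizer_of_index hr hu hN ?_
    rw [hπ] at hrπ
    rcases hrπ with hrs | hrt
    · refine hcent c B Q A hAQ hBQ ?_
      rw [← Subgroup.relIndex_mul_index hBs, eB]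
      intro h
      rcases (Nat.Prime.dvd_mul hr).mp h with h | h
      · exact hne ((Nat.prime_dvd_prime_iff_eq hr hq).mp (hr.dvd_of_dvd_pow (hkq ▸ h)))
      · exact hHsI r hr hrs h
    · exact hcent c Ht Q A hAQ
        (fun b hb => Subgroup.mem_centralizer_iff.mpr fun a ha => hcomm a (hQs ha) b hb) (hHtI r hr hrt)
  -- normal complements in `K`
  have hKc : ∀ p : ℕ, p.Prime → p ∈ σ → Cfsg.HasNormalPComplement p K := by
    intro p hp hps
    haveI := Fact.mk hp
    obtain ⟨P⟩ : Nonempty (Sylow p K) := inferInstance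
    rw [TransferAlperin.hasNormalPComplement_iff_centralizer P]
    intro Q hQ g hg hcop
    have hQp : IsPGroup p (Q.map K.subtype) := (P.isPGroup'.to_le hQ).map _
    have hle : Subgroup.zpowers g ≤ Subgroup.centralizer (Q : Set K) := by
      refine le_of_prime_power_mem fun r hr x hx ⟨k, hk⟩ => ?_
      by_cases hk0 : k = 0
      · rw [hk0, pow_zero, orderOf_eq_one_iff] at hk
        rw [hk]; exact one_mem _
      have hrd : r ∣ orderOf g := ((dvd_pow_self r hk0).trans (hk ▸ dvd_rfl)).trans (orderOf_dvd_of_mem_zpowers hx)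
      have hrp : r ≠ p := by
        rintro rfl
        exact hr.one_lt.ne' (Nat.eq_one_of_dvd_coprimes hcop hrd dvd_rfl)
      have hrπ : r ∈ π := hK r hr (hrd.trans (orderOf_dvd_natCard g))
      have hxN : (x : G) ∈ Subgroup.normalizer ((Q.map K.subtype : Subgroup G) : Set G) :=
        Subgroup.le_normalizer_map _ (Subgroup.mem_map_of_mem _ ((Subgroup.zpowers_le.mpr hg) hx))
      have h1 := keyσ hp hps hr hrπ hrp _ hQp (x : G) ⟨k, by rw [Subgroup.orderOf_coe, hk]⟩ hxN
      rw [Subgroup.mem_centralizer_iff]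
      intro a ha
      exact Subtype.ext (Subgroup.mem_centralizer_iff.mp h1 a (Subgroup.mem_map_of_mem _ ha))
    exact hle (Subgroup.mem_zpowers g)
  set T : Subgroup K := ⨅ p : {p : ℕ // p.Prime ∧ p ∈ σ}, Cfsg.pResidual p.1 K with hTdef
  haveI : T.Normal := Subgroup.normal_iInf_normal fun p => inferInstance
  have hTτ : ∀ r : ℕ, r.Prime → r ∣ Nat.card T → r ∈ τ := by
    intro r hr hd'
    have hrπ : r ∈ π := hK r hr (hd'.trans T.card_subgroup_dvd_card)
    rw [hπ] at hrπ
    refine hrπ.resolve_left fun hrs => ?_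
    haveI := Fact.mk hr
    exact TransferPResidual.hasNormalPComplement_iff_not_dvd.mp (hKc r hr hrs)
      (hd'.trans (Subgroup.card_dvd_of_le (iInf_le _ (⟨r, hr, hrs⟩ : {p : ℕ // p.Prime ∧ p ∈ σ}))))
  have hTidx : ∀ r : ℕ, r.Prime → r ∣ T.index → r ∈ σ := by
    intro r hr hd'
    have hrπ : r ∈ π := hK r hr (hd'.trans T.index_dvd_card)
    rw [hπ] at hrπ
    refine hrπ.resolve_right fun hrt => ?_
    haveI := Fact.mk hr
    obtain ⟨R⟩ : Nonempty (Sylow r K) := inferInstance
    refine R.not_dvd_index (hd'.trans (Subgroup.index_dvd_of_le fun x hx => ?_))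
    rw [hTdef, Subgroup.mem_iInf]
    rintro ⟨p, hp, hps⟩
    obtain ⟨k, hk⟩ := IsPGroup.iff_orderOf.mp R.isPGroup' ⟨x, hx⟩
    refine TransferPResidual.mem_pResidual_of_coprime ?_
    rw [← Subgroup.orderOf_mk x hx, hk]
    exact ((Nat.coprime_primes hr hp).mpr fun e => hdisj hps (e ▸ hrt)).pow_left k
  have hTcop : (Nat.card T).Coprime T.index :=
    Nat.coprime_of_dvd fun r hr h1 h2 => hdisj (hTidx r hr h2) (hTτ r hr h1)
  obtain ⟨S, hS⟩ := Subgroup.exists_right_complement'_of_coprime (N := T) hTcop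
  have hScard : Nat.card S = T.index := hS.symm.index_eq_card.symm
  haveI hSnil : Group.IsNilpotent S := by
    refine (Group.isNilpotent_of_finite_tfae (G := S)).out 3 0 rfl rfl |>.mp ?_
    intro p hp P
    by_cases hpd : p ∣ Nat.card S
    · have hP : (P : Subgroup S) = ⨅ q : {q : ℕ // q.Prime ∧ q ∣ Nat.card S ∧ q ≠ p}, Cfsg.pResidual q.1 S := by
        refine (P.is_maximal' ?_ ?_).symm
        · refine IsPGroup.of_card (n := _) (Nat.eq_prime_pow_of_unique_prime_dvd Nat.card_pos.ne' ?_)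
          intro q hq hqd
          by_contra hne
          haveI := Fact.mk hq
          have hqS := hqd.trans (Subgroup.card_subgroup_dvd_card _)
          exact TransferPResidual.hasNormalPComplement_iff_not_dvd.mp
            (TransferPResidual.hasNormalPComplement_subgroup S (hKc q hq (hTidx q hq (hScard ▸ hqS))))
            (hqd.trans (Subgroup.card_dvd_of_le (iInf_le _ (⟨q, hq, hqS, hne⟩ : {q : ℕ // q.Prime ∧ q ∣ Nat.card S ∧ q ≠ p}))))
        · intro x hx
          rw [Subgroup.mem_iInf]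
          rintro ⟨q, hq, -, hne⟩
          obtain ⟨k, hk⟩ := IsPGroup.iff_orderOf.mp P.isPGroup' ⟨x, hx⟩
          refine TransferPResidual.mem_pResidual_of_coprime ?_
          rw [← Subgroup.orderOf_mk x hx, hk]
          exact ((Nat.coprime_primes hp.out hq).mpr (Ne.symm hne)).pow_left k
      rw [hP]
      exact Subgroup.normal_iInf_normal fun q => inferInstance
    · have : (P : Subgroup S) = ⊥ := by
        rw [← Subgroup.card_eq_one, P.card_eq_multiplicity, Nat.factorization_eq_zero_of_not_dvd hpd, pow_zero]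
      rw [this]; infer_instance
  set T' := T.map K.subtype
  set S' := S.map K.subtype
  have hT'τ : Cfsg.IsPiSubgroup τ T' := fun r hr h => hTτ r hr (by rwa [Subgroup.card_map_of_injective K.subtype_injective] at h)
  have hT'N : ∀ u ∈ K, u ∈ Subgroup.normalizer (T' : Set G) := fun u hu =>
    Subgroup.le_normalizer_map (H := T) K.subtype ⟨⟨u, hu⟩, by rw [Subgroup.normalizer_eq_top_iff.mpr inferInstance]; trivial, rfl⟩
  have hST : S' ≤ Subgroup.centralizer (T' : Set G) := by
    refine le_of_prime_power_mem fun p hp u hu hord => ?_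
    obtain ⟨k, hk⟩ := hord
    by_cases hk0 : k = 0
    · rw [hk0, pow_zero, orderOf_eq_one_iff] at hk
      rw [hk]; exact one_mem _
    have hpS : p ∣ Nat.card S := by
      have h1 : orderOf (⟨u, hu⟩ : S') ∣ Nat.card S' := orderOf_dvd_natCard _
      rw [Subgroup.orderOf_mk, hk, Subgroup.card_map_of_injective K.subtype_injective] at h1
      exact (dvd_pow_self p hk0).trans h1
    exact keyτ hp (hTidx p hp (hScard ▸ hpS)) T' hT'τ u ⟨k, hk⟩ (hT'N u (Subgroup.map_subtype_le S hu))
  obtain ⟨c, hc⟩ := hτ T' hT'τ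
  set C := Subgroup.centralizer (T' : Set G)
  set Hs' := Hs.map (MulAut.conj c).toMonoidHom
  have hHsC : Hs' ≤ C := by
    rintro _ ⟨a, ha, rfl⟩
    rw [Subgroup.mem_centralizer_iff]
    intro t ht'
    obtain ⟨b, hb, rfl⟩ := hc ht'
    rw [← map_mul, ← map_mul, hcomm a ha b hb]
  have hHscard : Nat.card Hs' = Nat.card Hs := Subgroup.card_map_of_injective (MulAut.conj c).injective
  obtain ⟨d, hd', hdS⟩ := wielandt_le (Nat.card Hs') C Hs' S' rfl hHsC hST
    (Group.nilpotent_of_mulEquiv (Hs.equivMapOfInjective _ (MulAut.conj c).injective))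
    (Group.nilpotent_of_mulEquiv (S.equivMapOfInjective _ K.subtype_injective))
    (fun q hq hqd => by
      rw [Subgroup.card_map_of_injective K.subtype_injective] at hqd
      have hqs := hTidx q hq (hScard ▸ hqd)
      have h1 : q ∣ Nat.card Hs * Hs.index := by
        rw [Subgroup.card_mul_index]
        exact (hqd.trans S.card_subgroup_dvd_card).trans K.card_subgroup_dvd_card
      exact hHscard ▸ ((Nat.Prime.dvd_mul hq).mp h1).resolve_right (hHsI q hq hqs))
    (Nat.Coprime.coprime_dvd_right (Subgroup.relIndex_dvd_index_of_le hHsC) (by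
      rw [conjidx, hHscard]
      exact Nat.coprime_of_dvd fun q hq h1 h2 => hHsI q hq (hs q hq h1) h2))
  refine ⟨d * c, ?_⟩
  have htop : K = T' ⊔ S' := by
    rw [← Subgroup.map_sup, hS.sup_eq_top, ← MonoidHom.range_eq_map, Subgroup.range_subtype]
  rw [htop]
  refine sup_le ?_ ?_
  · intro t ht'
    obtain ⟨b, hb, hbt⟩ := hc ht'
    refine ⟨b, hHt hb, ?_⟩
    have := Subgroup.mem_centralizer_iff.mp hd' t ht'
    have hbt' : c * b * c⁻¹ = t := hbt
    show d * c * b * (d * c)⁻¹ = t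
    calc d * c * b * (d * c)⁻¹ = d * (c * b * c⁻¹) * d⁻¹ := by group
      _ = t * d * d⁻¹ := by rw [hbt', this]
      _ = t := by group
  · rw [← map_conj_map_conj]
    exact hdS.trans (Subgroup.map_mono (Subgroup.map_mono hHs))



/-- Let σ and τ be disjoint sets of primes with union π. Suppose a finite group G has a Hall π-subgroup H which is the direct product of a nilpotent σ-subgroup and a τ-subgroup (two elementwise-commuting subgroups generating H), and that the maximal τ-subgroups of G are pairwise conjugate. Then the maximal π-subgroups of G are pairwise conjugate. -/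
theorem result {G : Type*} [Group G] [Finite G]
    (σ τ π : Set ℕ) (hπ : π = σ ∪ τ) (hd : Disjoint σ τ) (H Hs Ht : Subgroup G) (hH : Cfsg.IsPiHall π H)
    (hs : Cfsg.IsPiSubgroup σ Hs) (ht : Cfsg.IsPiSubgroup τ Ht) (hsn : Group.IsNilpotent Hs)
    (hjoin : Hs ⊔ Ht = H) (hcomm : ∀ a ∈ Hs, ∀ b ∈ Ht, a * b = b * a) (hD : Cfsg.IsDPiGroup τ G) :
    Cfsg.IsDPiGroup π G := by
  intro K L hK hL
  obtain ⟨a, ha⟩ := le_conj hπ hd H Hs Ht hH hs ht hsn hjoin hcomm hD K hK.1
  obtain ⟨b, hb⟩ := le_conj hπ hd H Hs Ht hH hs ht hsn hjoin hcomm hD L hL.1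
  have hpi : ∀ c : G, Cfsg.IsPiSubgroup π (H.map (MulAut.conj c).toMonoidHom) := fun c q hq hd' =>
    hH.1 q hq (by rwa [Subgroup.card_map_of_injective (MulAut.conj c).injective] at hd')
  have hKe := le_antisymm ha (hK.2 (hpi a) ha)
  have hLe := le_antisymm hb (hL.2 (hpi b) hb)
  refine ⟨b * a⁻¹, ?_⟩
  rw [hKe, hLe, map_conj_map_conj]
  congr 2
  group

end Cfsg.Agent.S4334
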