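import Cfsg.Statements.S4337
-- import your own Cfsg.Agent.* helpers here
import Cfsg.Agent.Lib.SwapOrbit

set_option autoImplicit false
open Cfsg

namespace Cfsg.Agent.S4337

/-- Symmetric groups of degree at most 4 are solvable. -/
theorem isSolvable_perm {α : Type*} [Finite α] (h : Nat.card α ≤ 4) : Group.IsSolvable (Equiv.Perm α) := by
  classical
  cases nonempty_fintype α
  have h4 : Group.IsSolvable (Equiv.Perm (Fin 4)) := by
    have hα : Nat.card (Fin 4) = 4 := by simp
    haveI := alternatingGroup.normal_kleinFour hα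
    haveI : Fact (Nat.Prime 2) := ⟨Nat.prime_two⟩
    haveI : Fact (Nat.Prime 3) := ⟨Nat.prime_three⟩
    have hV := alternatingGroup.kleinFour_card_of_card_eq_four hα
    haveI : Group.IsNilpotent (alternatingGroup.kleinFour (Fin 4)) :=
      (IsPGroup.of_card (p := 2) (n := 2) (by rw [hV]; norm_num)).isNilpotent
    have hA : Nat.card (alternatingGroup (Fin 4)) = 12 := by
      rw [nat_card_alternatingGroup]; simp [Nat.factorial]
    have hq : Nat.card (alternatingGroup (Fin 4) ⧸ alternatingGroup.kleinFour (Fin 4)) = 3 := by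
      have := Subgroup.card_eq_card_quotient_mul_card_subgroup (alternatingGroup.kleinFour (Fin 4))
      rw [hA, hV] at this
      omega
    haveI : Group.IsSolvable (alternatingGroup (Fin 4) ⧸ alternatingGroup.kleinFour (Fin 4)) := by
      haveI := isCyclic_of_prime_card hq
      exact Group.isSolvable_of_comm IsCyclic.commGroup.mul_comm
    haveI : Group.IsSolvable (alternatingGroup (Fin 4)) :=
      (Group.isSolvable_iff_subgroup_quotient (alternatingGroup.kleinFour (Fin 4))).mpr ⟨inferInstance, inferInstance⟩
    haveI : Group.IsSolvable ℤˣ := Group.isSolvable_of_comm mul_comm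
    exact Group.isSolvable_of_ker_le_range (alternatingGroup (Fin 4)).subtype (Equiv.Perm.sign (α := Fin 4))
      (by intro g hg; exact ⟨⟨g, Equiv.Perm.mem_alternatingGroup.mpr hg⟩, rfl⟩)
  obtain ⟨f⟩ : Nonempty (α ↪ Fin 4) := Function.Embedding.nonempty_of_card_le (by simpa [Nat.card_eq_fintype_card] using h)
  exact Group.isSolvable_of_isSolvable_injective (f := Equiv.Perm.viaEmbeddingHom f) (Equiv.Perm.viaEmbeddingHom_injective f)



/-- In a finite symmetric group, any three transpositions generate a solvable subgroup. -/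
theorem result (n : ℕ) (a b c : Equiv.Perm (Fin n))
    (ha : a.IsSwap) (hb : b.IsSwap) (hc : c.IsSwap) :
    Group.IsSolvable (Subgroup.closure ({a, b, c} : Set (Equiv.Perm (Fin n)))) := by
  have e : ({a, b, c} : Set (Equiv.Perm (Fin n))) = Set.range ![a, b, c] := by
    ext z
    simp only [Set.mem_insert_iff, Set.mem_singleton_iff, Set.mem_range, Fin.exists_fin_succ]
    simp [eq_comm]
  rw [e]
  have ht : ∀ i, (![a, b, c] i).IsSwap := by
    intro i; fin_cases i <;> assumption
  set H := Subgroup.closure (Set.range ![a, b, c])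
  haveI : ∀ x : Fin n, Group.IsSolvable (Equiv.Perm (MulAction.orbit H x)) := fun x =>
    isSolvable_perm (by rw [Nat.card_coe_set_eq]; exact Cfsg.Agent.SwapOrbit.ncard_orbit_le _ ht x)
  haveI := Cfsg.Agent.SwapOrbit.isSolvable_pi (fun x : Fin n => Equiv.Perm (MulAction.orbit H x))
  exact Group.isSolvable_of_isSolvable_injective (Cfsg.Agent.SwapOrbit.orbit_hom_injective H)

end Cfsg.Agent.S4337
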