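import Cfsg.Statements.S4339
import Cfsg.Agent.S4700
import Cfsg.Agent.Lib.SmallSylow57
import Cfsg.Agent.Lib.BrauerReynolds7Cube
import Cfsg.Agent.Lib.PSLCard
-- import your own Cfsg.Agent.* helpers here

set_option autoImplicit false
set_option linter.all false
open Cfsg

namespace Cfsg.Agent.S4339

open SmallSylow57

universe u

theorem big {p x : ℕ} (hp : p.Prime) (hx : x ≡ 1 [MOD p]) (h1 : 1 < x) : p + 1 ≤ x := by
  have := (Nat.modEq_iff_dvd' h1.le).1 hx.symm
  have := Nat.le_of_dvd (by omega) this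
  omega

/-- The exceptional form of the number of Sylow subgroups is not a prime power below `p²`. -/
theorem form_not_pow {p n q k h u : ℕ} (hp : p.Prime) (hn : n < p) (hq : q.Prime) (hh : 0 < h)
    (hu : 0 < u) (e : n * (u + 1) = h * u * p + u ^ 2 + u + h) (hqk : 1 + n * p = q ^ k) : False := by
  have hp2 := hp.two_le
  obtain rfl : h = 1 := by
    by_contra hne
    have h2 : 2 ≤ h := by omega
    have h3 : n * (u + 1) < p * (u + 1) := Nat.mul_lt_mul_of_pos_right hn (by omega)
    nlinarith [Nat.mul_le_mul_right (u * p) h2]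
  have hun : u < n := by
    by_contra hc
    push Not at hc
    nlinarith [Nat.mul_le_mul_right (u + 1) hc]
  obtain ⟨A, rfl⟩ : ∃ A, n = u + A := ⟨n - u, by omega⟩
  have hA : A * (u + 1) = u * p + 1 := by nlinarith
  have hfac : 1 + (u + A) * p = A * (p + u + 1) := by nlinarith
  have hA1 : 1 < A := by
    by_contra hc
    push Not at hc
    nlinarith
  rw [hfac] at hqk
  obtain ⟨i, -, hi⟩ := (Nat.dvd_prime_pow hq).1 (Dvd.intro _ hqk)
  obtain ⟨j, -, hj⟩ := (Nat.dvd_prime_pow hq).1 (Dvd.intro_left _ hqk)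
  have hlt : q ^ i < q ^ j := by omega
  have hij : i < j := (Nat.pow_lt_pow_iff_right hq.one_lt).1 hlt
  obtain ⟨d, rfl⟩ : ∃ d, j = i + 1 + d := ⟨j - i - 1, by omega⟩
  have hR : p + u + 1 = (q * q ^ d) * A := by rw [hj, hi]; ring
  have hR2 : 2 ≤ q * q ^ d := le_trans hq.two_le (Nat.le_mul_of_pos_right _ (pow_pos hq.pos d))
  generalize q * q ^ d = R at hR hR2
  have h2 : R * (u * p + 1) = (u + 1) * (p + u + 1) := by rw [hR, ← hA]; ring
  have h3 : u * u + u + 1 < p := by nlinarith
  rcases eq_or_lt_of_le (show 1 ≤ u from hu) with rfl | hu2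
  · rcases eq_or_lt_of_le hR2 with rfl | hR3
    · nlinarith
    · nlinarith [Nat.mul_le_mul_right (1 * p + 1) (show 3 ≤ R by omega)]
  · obtain ⟨v, rfl⟩ : ∃ v, u = v + 2 := ⟨u - 2, by omega⟩
    nlinarith [Nat.mul_le_mul_right ((v + 2) * p + 1) hR2,
      Nat.mul_le_mul_left (v + 1) (show (v + 2) * (v + 2) + (v + 2) + 2 ≤ p by omega)]

/-- A simple group with fewer than `p²` Sylow `p`-subgroups does not have prime power many. -/
theorem simple_not_pow {G : Type*} [Group G] [Finite G] [IsSimpleGroup G] (hG : ¬ IsMulCommutative G)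
    {p : ℕ} [Fact p.Prime] (hp : ¬ (3 < p ∧ ∃ k : ℕ, p + 1 = 2 ^ k)) (hdvd : p ∣ Nat.card G)
    (hn : Nat.card (Sylow p G) < p ^ 2) {q k : ℕ} (hq : q.Prime)
    (hk : Nat.card (Sylow p G) = q ^ k) : False := by
  classical
  haveI := Fintype.ofFinite G
  have hpp := (Fact.out : p.Prime)
  have hcyc : ¬ IsCyclic G := fun h => hG ⟨⟨fun a b => by
    letI := IsCyclic.commGroup (α := G)
    exact mul_comm a b⟩⟩
  obtain ⟨P⟩ : Nonempty (Sylow p G) := inferInstance
  have hP : Nat.card (P : Subgroup G) = p := card_sylow_of_simple hG hdvd hn P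
  obtain ⟨n, hne⟩ : ∃ n, Nat.card (Sylow p G) = 1 + n * p := by
    obtain ⟨t, ht⟩ := (Nat.modEq_iff_dvd' (Nat.card_pos (α := Sylow p G))).1
      (card_sylow_modEq_one p G).symm
    exact ⟨t, by rw [mul_comm]; have := Nat.card_pos (α := Sylow p G); omega⟩
  have hn0 : 0 < n := by
    by_contra hc
    have h1 : Nat.card (Sylow p G) = 1 := by rw [hne, show n = 0 by omega]; simp
    haveI : Subsingleton (Sylow p G) := (Nat.card_eq_one_iff_unique.1 h1).1
    rcases P.normal_of_subsingleton.eq_bot_or_eq_top with h | h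
    · exact P.ne_bot_of_dvd_card hdvd h
    · haveI : IsCyclic (P : Subgroup G) := isCyclic_of_prime_card (p := p) hP
      exact hcyc (((MulEquiv.subgroupCongr h).trans Subgroup.topEquiv).isCyclic.1 inferInstance)
  have hnp : n < p := by
    by_contra hc
    push Not at hc
    have := Nat.mul_le_mul_right p hc
    rw [sq] at hn
    omega
  have hcard : ∃ w, Nat.card G = (1 + n * p) * (p * w) := by
    obtain ⟨w, hw⟩ := hP ▸ Subgroup.card_dvd_of_le
      (Subgroup.le_normalizer (H := (P : Subgroup G)))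
    refine ⟨w, ?_⟩
    rw [← hw, ← hne, P.card_eq_index_normalizer]
    exact (Subgroup.index_mul_card _).symm
  obtain ⟨w, hw⟩ := hcard
  have hcore : Cfsg.pPrimeCore p G = ⊥ := by
    haveI := HallCore.pPrimeCore_normal p G
    rcases (HallCore.pPrimeCore_normal p G).eq_bot_or_eq_top with h | h
    · exact h
    · have h1 := HallCore.coprime_card_pPrimeCore p G
      rw [h, Subgroup.card_top] at h1
      exact absurd hdvd (hpp.coprime_iff_not_dvd.1 h1.symm)
  have hiso : Nat.card (G ⧸ Cfsg.pPrimeCore p G) = Nat.card G := by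
    have := Subgroup.card_eq_card_quotient_mul_card_subgroup (Cfsg.pPrimeCore p G)
    rw [show Nat.card ↥(Cfsg.pPrimeCore p G) = 1 from Subgroup.card_eq_one.2 hcore, mul_one] at this
    exact this.symm
  rcases S4700.result (BrauerReynolds7.perfect_of_simple hcyc) p P hP n hne with
    ⟨F, hF, hFf, hc, h3, ⟨e⟩⟩ | ⟨m, F, hF, hFf, hc, hpm, h3, ⟨e⟩⟩ | ⟨h, u, hh, hu, e⟩
  · have hodd : Odd p := hpp.odd_of_ne_two (by omega)
    have hGc : Nat.card G = p * (p ^ 2 - 1) / 2 := by
      rw [← hiso, Nat.card_congr e.toEquiv, PSLCard.card_PSL2_odd (F := F)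
        (by rwa [Nat.card_eq_fintype_card, hc]), Nat.card_eq_fintype_card, hc]
    have h2 : 2 * ((1 + n * p) * w) = p ^ 2 - 1 := by
      obtain ⟨s, hs⟩ := hodd
      have hev : p ^ 2 - 1 = 2 * (2 * s * s + 2 * s) := by
        have : p ^ 2 = 2 * (2 * s * s + 2 * s) + 1 := by rw [hs]; ring
        omega
      rw [hev, show p * (2 * (2 * s * s + 2 * s)) = p * (2 * s * s + 2 * s) * 2 by ring,
        Nat.mul_div_cancel _ two_pos, hw] at hGc
      have h5 : (1 + n * p) * w = 2 * s * s + 2 * s :=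
        Nat.eq_of_mul_eq_mul_left hpp.pos (by rw [← hGc]; ring)
      omega
    have h6 : (2 * ((1 + n * p) * w) : ℤ) = (p : ℤ) ^ 2 - 1 := by
      have h7 : 1 ≤ p ^ 2 := Nat.one_le_pow _ _ hpp.pos
      have := congrArg (Nat.cast : ℕ → ℤ) h2
      push_cast [Nat.cast_sub h7] at this
      linarith
    have hw2 : 2 * (w : ℤ) + 1 = p * ((p : ℤ) - 2 * w * n) := by linear_combination h6
    have hj : (p : ℤ) - 2 * w * n = 1 := by
      by_contra hj
      rcases lt_or_gt_of_ne hj with hj | hj
      · have : (p : ℤ) * ((p : ℤ) - 2 * w * n) ≤ p * 0 :=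
          mul_le_mul_of_nonneg_left (by omega) (by omega)
        linarith [Int.natCast_nonneg w]
      · have h8 : (p : ℤ) * 2 ≤ p * ((p : ℤ) - 2 * w * n) :=
          mul_le_mul_of_nonneg_left (by omega) (by omega)
        have hn1 : (1 : ℤ) ≤ n := by exact_mod_cast hn0
        nlinarith
    have hw3 : 2 * (w : ℤ) = p - 1 := by rw [hj] at hw2; linarith
    have hn1 : (n : ℤ) = 1 := by
      have h9 : ((p : ℤ) - 1) * (1 + n * p) = (p - 1) * (1 + 1 * p) := by
        rw [← hw3]; linear_combination h6 - (1 + (p : ℤ)) * hw3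
      have h10 := mul_left_cancel₀ (by omega) h9
      exact mul_right_cancel₀ (show (p : ℤ) ≠ 0 by omega) (by linarith)
    have hn1' : n = 1 := by exact_mod_cast hn1
    rw [hne, hn1', one_mul] at hk
    obtain ⟨s, hs⟩ := hodd
    have hk0 : k ≠ 0 := by rintro rfl; rw [pow_zero] at hk; omega
    obtain rfl : q = 2 := ((Nat.prime_dvd_prime_iff_eq Nat.prime_two hq).1
      (Nat.prime_two.dvd_of_dvd_pow (n := k) ⟨s + 1, by omega⟩)).symm
    exact hp ⟨h3, k, by omega⟩
  · have hGc : Nat.card G = 2 ^ m * ((2 ^ m) ^ 2 - 1) := by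
      rw [← hiso, Nat.card_congr e.toEquiv, PSLCard.card_SL2 (F := F), Nat.card_eq_fintype_card, hc]
    obtain ⟨a, ha⟩ : ∃ a, 2 ^ m = a + 1 := ⟨2 ^ m - 1, by have := Nat.two_pow_pos m; omega⟩
    have h2 : (1 + n * p) * w = (a + 1) * a := by
      refine Nat.eq_of_mul_eq_mul_left hpp.pos ?_
      have h4 : (a + 1) ^ 2 - 1 = a * p := by
        have : (a + 1) ^ 2 = a * p + 1 := by rw [hpm, ha]; ring
        omega
      rw [ha, h4, hw] at hGc
      calc p * ((1 + n * p) * w) = (1 + n * p) * (p * w) := by ring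
        _ = (a + 1) * (a * p) := hGc
        _ = p * ((a + 1) * a) := by ring
    have hap : (p : ℤ) = a + 2 := by exact_mod_cast (show p = a + 2 by omega)
    have h6 : ((1 + n * p) * w : ℤ) = ((p : ℤ) - 1) * (p - 2) := by
      have := congrArg (Nat.cast : ℕ → ℤ) h2
      push_cast at this
      rw [hap] at this ⊢
      linear_combination this
    have hw2 : (w : ℤ) - 2 = p * ((p : ℤ) - 3 - w * n) := by linear_combination h6
    have hj : (p : ℤ) - 3 - w * n = 0 := by
      by_contra hj
      rcases lt_or_gt_of_ne hj with hj | hj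
      · have : (p : ℤ) * ((p : ℤ) - 3 - w * n) ≤ p * (-1) :=
          mul_le_mul_of_nonneg_left (by omega) (by omega)
        linarith [Int.natCast_nonneg w, (by exact_mod_cast h3 : (3 : ℤ) < p)]
      · have h8 : (p : ℤ) * 1 ≤ p * ((p : ℤ) - 3 - w * n) :=
          mul_le_mul_of_nonneg_left (by omega) (by omega)
        have hn1 : (1 : ℤ) ≤ n := by exact_mod_cast hn0
        nlinarith
    have hw3 : w = 2 := by rw [hj, mul_zero] at hw2; omega
    rw [hw3, ← hne, hk] at h2
    have ha2 : 2 ≤ m := by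
      by_contra hc'
      have : 2 ^ m ≤ 2 ^ 1 := Nat.pow_le_pow_right two_pos (by omega)
      omega
    obtain ⟨m', rfl⟩ : ∃ m', m = m' + 2 := ⟨m - 2, by omega⟩
    have ha4 : a + 1 = 4 * 2 ^ m' := by rw [← ha]; ring
    have hpos := Nat.two_pow_pos m'
    have h5 : q ^ k = 2 * (2 ^ m' * a) := by rw [ha4] at h2; linarith
    obtain rfl : q = 2 := ((Nat.prime_dvd_prime_iff_eq Nat.prime_two hq).1
      (Nat.prime_two.dvd_of_dvd_pow (n := k) ⟨_, h5⟩)).symm
    obtain ⟨j, -, hj2⟩ := (Nat.dvd_prime_pow Nat.prime_two).1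
      (show a ∣ 2 ^ k from ⟨2 * 2 ^ m', by rw [h5]; ring⟩)
    rcases j with _ | j
    · rw [hj2] at ha4; omega
    · rw [hj2, pow_succ] at ha4; omega
  · exact form_not_pow hpp hnp hq hh hu e (hne.symm.trans hk)

theorem relIndex_sup {G : Type*} [Group G] [Finite G] (H M : Subgroup G) [M.Normal] :
    H.relIndex (H ⊔ M) = H.relIndex M := by
  refine Nat.eq_of_mul_eq_mul_left (Nat.pos_of_ne_zero (HallSolvable.relIndex_ne_zero' M H)) ?_
  have hr : (H ⊓ M).relIndex H = M.relIndex H := Subgroup.inf_relIndex_left _ _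
  have hs : (H ⊓ M).relIndex M = H.relIndex M := Subgroup.inf_relIndex_right _ _
  have h1 := Subgroup.relIndex_mul_relIndex (H ⊓ M) H (H ⊔ M) inf_le_left le_sup_left
  have h2 := Subgroup.relIndex_mul_relIndex (H ⊓ M) M (H ⊔ M) inf_le_right le_sup_right
  rw [hr] at h1
  rw [hs, sup_comm, Subgroup.relIndex_sup_left] at h2
  rw [h1, sup_comm, ← h2, mul_comm]

theorem index_normalizer_dvd {G : Type*} [Group G] [Finite G] {p : ℕ} [Fact p.Prime]
    (M : Subgroup G) [M.Normal] (P : Sylow p G) :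
    Nat.card (Sylow p M) ∣ (Subgroup.normalizer ((P : Subgroup G) : Set G)).relIndex M := by
  have hpd : ¬ p ∣ ((P : Subgroup G).subgroupOf M).index := by
    intro h
    refine P.not_dvd_index (h.trans ?_)
    change (P : Subgroup G).relIndex M ∣ _
    rw [← relIndex_sup]
    exact Dvd.intro _ (Subgroup.relIndex_mul_index le_sup_left)
  set R : Sylow p M := (P.2.of_equiv (MulEquiv.refl _)).comap_subtype.toSylow hpd with hR
  rw [R.card_eq_index_normalizer]
  refine Subgroup.index_dvd_of_le (fun x hx => ?_)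
  rw [Subgroup.mem_subgroupOf] at hx
  show x ∈ Subgroup.normalizer (((P : Subgroup G).subgroupOf M : Subgroup M) : Set M)
  rw [Subgroup.mem_normalizer_iff]
  intro y
  simp only [Subgroup.mem_subgroupOf, Subgroup.coe_mul, Subgroup.coe_inv]
  exact Subgroup.mem_normalizer_iff.1 hx y

theorem main {p : ℕ} [Fact p.Prime] (hp : ¬ (3 < p ∧ ∃ k : ℕ, p + 1 = 2 ^ k)) :
    ∀ (N : ℕ) (G : Type u) [Group G] [Finite G], Nat.card G ≤ N → Nat.card (Sylow p G) < p ^ 2 →
      (Cfsg.IsPSolvable p G ↔ ∃ q k : ℕ, q.Prime ∧ Nat.card (Sylow p G) = q ^ k) := by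
  classical
  have hpp := (Fact.out : p.Prime)
  intro N
  induction N with
  | zero => intro G _ _ h; exact absurd h (by have := Nat.card_pos (α := G); omega)
  | succ N ih =>
  intro G _ _ hN hn
  obtain ⟨P⟩ : Nonempty (Sylow p G) := inferInstance
  rcases subsingleton_or_nontrivial G with hs | hs
  · refine ⟨fun _ => ⟨2, 0, Nat.prime_two, ?_⟩, fun _ => ?_⟩
    · rw [pow_zero]
      haveI : Subsingleton (Sylow p G) := ⟨fun a b => Sylow.ext (Subsingleton.elim _ _)⟩
      exact Nat.card_of_subsingleton P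
    · exact (HallSolvable.isPSolvable_iff p).2 HallSolvable.isPiSeparable_of_subsingleton
  have hQ : ∀ (M : Subgroup G) [M.Normal], M ≠ ⊥ → Nat.card (G ⧸ M) ≤ N := fun M _ hM => by
    have := HallSolvable.card_quotient_lt hM
    omega
  constructor
  · intro hsol
    obtain ⟨M, hM, hpiece⟩ := ((HallSolvable.isPSolvable_iff p).1 hsol).exists_minNormal_piece
    haveI := hM.normal
    have hsp := card_split M P
    set n' := Nat.card (Sylow p (G ⧸ M))
    set r := (Subgroup.normalizer ((P : Subgroup G) : Set G)).relIndex M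
    have hr0 : 0 < r := Nat.pos_of_ne_zero (HallSolvable.relIndex_ne_zero' _ _)
    have hn'lt : n' < p ^ 2 := by
      refine lt_of_le_of_lt ?_ hn
      rw [hsp]
      exact Nat.le_mul_of_pos_right _ hr0
    obtain ⟨q, k, hq, hk⟩ := (ih (G ⧸ M) (hQ M hM.ne_bot) hn'lt).1
      (HallSolvable.isPSolvable_quotient hsol M)
    by_cases hr1 : r = 1
    · exact ⟨q, k, hq, by rw [hsp, hr1, mul_one]; exact hk⟩
    rcases hpiece with h | h
    · exfalso
      apply hr1
      refine Subgroup.relIndex_eq_one.2 (le_trans ?_ Subgroup.le_normalizer)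
      have hMp : IsPGroup p M := HallCore.isPGroup_iff_piNat.2 h
      rw [← P.is_maximal' (IsPGroup.to_sup_of_normal_right P.2 hMp) le_sup_left]
      exact le_sup_right
    · have hcop : (Nat.card M).Coprime p :=
        (hpp.coprime_iff_not_dvd.2 ((HallCore.piNat_compl_singleton_iff hpp).1 h |>
          fun hh => hpp.coprime_iff_not_dvd.1 hh.symm)).symm
      have hrC : r = (Subgroup.centralizer ((P : Subgroup G) : Set G)).relIndex M := by
        show (Subgroup.normalizer ((P : Subgroup G) : Set G)).relIndex M = _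
        rw [← Subgroup.inf_relIndex_right (Subgroup.normalizer ((P : Subgroup G) : Set G)) M,
          ← Subgroup.inf_relIndex_right (Subgroup.centralizer ((P : Subgroup G) : Set G)) M]
        congr 1
        refine le_antisymm ?_ (inf_le_inf_right _ (Subgroup.centralizer_le_normalizer _))
        rintro x ⟨hxN, hxM⟩
        refine ⟨Subgroup.mem_centralizer_iff.2 fun y hy => ?_, hxM⟩
        have hz1 : x * y * x⁻¹ * y⁻¹ ∈ (P : Subgroup G) :=
          mul_mem ((Subgroup.mem_normalizer_iff.1 hxN y).1 hy) (inv_mem hy)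
        have hz2 : x * y * x⁻¹ * y⁻¹ ∈ M := by
          rw [show x * y * x⁻¹ * y⁻¹ = x * (y * x⁻¹ * y⁻¹) by group]
          exact mul_mem hxM ((inferInstance : M.Normal).conj_mem _ (inv_mem hxM) y)
        have hbot : (P : Subgroup G) ⊓ M = ⊥ := by
          refine Subgroup.inf_eq_bot_of_coprime ?_
          obtain ⟨j, hj⟩ := IsPGroup.iff_card.1 P.2
          rw [hj]
          exact Nat.Coprime.pow_left j hcop.symm
        have h1 : x * y * x⁻¹ * y⁻¹ = 1 := Subgroup.mem_bot.1 (hbot ▸ ⟨hz1, hz2⟩)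
        rw [mul_inv_eq_one, mul_inv_eq_iff_eq_mul] at h1
        exact h1.symm
      have hnmod : n' * r ≡ 1 [MOD p] := hsp ▸ card_sylow_modEq_one p G
      have hn'mod : n' ≡ 1 [MOD p] := card_sylow_modEq_one p (G ⧸ M)
      have hrmod : r ≡ 1 [MOD p] := by
        have := (Nat.ModEq.mul_right r hn'mod.symm).trans hnmod
        rwa [one_mul] at this
      obtain ⟨l, hl, hlr⟩ := Nat.exists_prime_and_dvd hr1
      haveI : Fact l.Prime := ⟨hl⟩
      have hpart : l ^ r.factorization l ≡ 1 [MOD p] := hrC ▸ prime_power_part M hcop P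
      have hlbig : p + 1 ≤ l ^ r.factorization l := big hpp hpart
        (Nat.one_lt_pow (hl.factorization_pos_of_dvd hr0.ne' hlr).ne' hl.one_lt)
      obtain ⟨w, hw⟩ := Nat.ordProj_dvd r l
      have hwmod : w ≡ 1 [MOD p] := by
        have h1 := (Nat.ModEq.mul_right w hpart.symm).trans (hw ▸ hrmod)
        rwa [one_mul] at h1
      have key : ∀ x, x ≡ 1 [MOD p] → x * (p + 1) < p ^ 2 → x = 1 := by
        intro x hx hlt
        by_contra hne
        have hx0 : x ≠ 0 := by
          rintro rfl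
          exact hpp.not_dvd_one ((Nat.modEq_zero_iff_dvd).1 hx.symm)
        have := Nat.mul_le_mul_right (p + 1) (big hpp hx (by omega))
        nlinarith
      have hrle : p + 1 ≤ r := hlbig.trans (Nat.le_of_dvd hr0 (Nat.ordProj_dvd r l))
      have hn1 : n' = 1 := key n' hn'mod (lt_of_le_of_lt (Nat.mul_le_mul_left _ hrle) (hsp ▸ hn))
      have hw1 : w = 1 := key w hwmod (by
        refine lt_of_le_of_lt ?_ (hsp ▸ hn)
        rw [hn1, one_mul, hw, mul_comm]
        exact Nat.mul_le_mul_right _ hlbig)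
      refine ⟨l, r.factorization l, hl, ?_⟩
      rw [hsp, hn1, one_mul]
      conv_lhs => rw [hw, hw1, mul_one]
  · rintro ⟨q, k, hq, hk⟩
    obtain ⟨M, hM⟩ := HallSolvable.exists_minNormal (G := G)
    haveI := hM.normal
    have hsp := card_split M P
    have hdvd : Nat.card (Sylow p (G ⧸ M)) ∣ q ^ k := hk ▸ hsp ▸ dvd_mul_right _ _
    obtain ⟨i, -, hi⟩ := (Nat.dvd_prime_pow hq).1 hdvd
    have hle : ∀ x, x ∣ q ^ k → x < p ^ 2 := fun x hx =>
      lt_of_le_of_lt (Nat.le_of_dvd (pow_pos hq.pos k) hx) (hk ▸ hn)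
    have hQs := (ih (G ⧸ M) (hQ M hM.ne_bot) (hle _ hdvd)).2 ⟨q, i, hq, hi⟩
    refine HallSolvable.isPSolvable_extension M ?_ hQs
    by_cases hMtop : M = ⊤
    · subst hMtop
      haveI : IsSimpleGroup G := by
        refine { eq_bot_or_eq_top_of_normal := fun K hK => ?_ }
        by_cases hKb : K = ⊥
        · exact Or.inl hKb
        · exact Or.inr (hM.eq_of_le le_top hKb)
      refine (HallSolvable.isPSolvable_iff p).2 ?_
      by_cases hpd : p ∣ Nat.card G
      · by_cases hcm : IsMulCommutative G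
        · haveI : IsMulCommutative (⊤ : Subgroup G) := ⟨⟨fun a b => Subtype.ext (mul_comm' a.1 b.1)⟩⟩
          haveI : Group.IsSolvable (⊤ : Subgroup G) := Group.isSolvable_of_comm mul_comm'
          exact HallSolvable.isPiSeparable_of_solvable _
        · exact (simple_not_pow hcm hp hpd hn hq hk).elim
      · refine HallSolvable.isPiSeparable_of_piece (Or.inr ?_)
        rw [Subgroup.card_top, HallCore.piNat_compl_singleton_iff hpp]
        exact (hpp.coprime_iff_not_dvd.2 hpd).symm
    · have hd : Nat.card (Sylow p M) ∣ q ^ k :=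
        (index_normalizer_dvd M P).trans (hk ▸ hsp ▸ dvd_mul_left _ _)
      obtain ⟨j, -, hj⟩ := (Nat.dvd_prime_pow hq).1 hd
      exact (ih M (by have := HallSolvable.card_subgroup_lt hMtop; omega) (hle _ hd)).2 ⟨q, j, hq, hj⟩


/-- Let G be a finite group and p a prime such that it is not the case that p > 3 with p + 1 a power of 2. If the number of Sylow p-subgroups of G is less than p², then G is p-solvable if and only if that number is a power of a prime (possibly 1). -/
theorem result {G : Type*} [Group G] [Finite G]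
    (p : ℕ) [Fact p.Prime] (hp : ¬ (3 < p ∧ ∃ k : ℕ, p + 1 = 2 ^ k)) (hn : Nat.card (Sylow p G) < p ^ 2) :
    Cfsg.IsPSolvable p G ↔ ∃ q k : ℕ, q.Prime ∧ Nat.card (Sylow p G) = q ^ k := by
  exact main hp _ G le_rfl hn

end Cfsg.Agent.S4339
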