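import Cfsg.Statements.S4343
import Cfsg.Agent.S0060
import Cfsg.Agent.S0010

set_option autoImplicit false
open Cfsg

namespace Cfsg.Agent.S4343

/-- Let S be a finite non-abelian simple group and p a prime dividing its order. If S has fewer than p² Sylow p-subgroups, then its Sylow p-subgroups have order p. -/
theorem result {S : Type*} [Group S] [Finite S]
    [IsSimpleGroup S] (hS : ¬ IsMulCommutative S) (p : ℕ) [Fact p.Prime] (hp : p ∣ Nat.card S)
    (hn : Nat.card (Sylow p S) < p ^ 2) (P : Sylow p S) : Nat.card P = p := by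
  have hnc : ∀ N : Subgroup S, N.Normal → IsPGroup p N → N = ⊥ := by
    intro N hN hNp
    rcases IsSimpleGroup.eq_bot_or_eq_top_of_normal N hN with h | h
    · exact h
    · exfalso
      apply hS
      have hS' : IsPGroup p S := (h ▸ hNp).of_equiv Subgroup.topEquiv
      have : Nontrivial S := IsSimpleGroup.toNontrivial
      have hc := hS'.center_nontrivial
      rcases IsSimpleGroup.eq_bot_or_eq_top_of_normal (Subgroup.center S) inferInstance with hb | ht
      · exact absurd hb ((Subgroup.nontrivial_iff_ne_bot _).1 hc)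
      · exact ⟨⟨fun a b => (Subgroup.mem_center_iff.1 (ht ▸ Subgroup.mem_top b) a)⟩⟩
  have hcore : Cfsg.pCore p S = ⊥ := by
    unfold Cfsg.pCore
    rw [sSup_eq_bot]
    exact fun N hN => hnc N hN.1 hN.2
  -- index of an intersection
  have hidx : ∀ Q : Sylow p S, Q ≠ P →
      ((Q : Subgroup S) ⊓ (P : Subgroup S)).relIndex (P : Subgroup S) = p := by
    intro Q hQ
    set H := (P : Subgroup S) with hH
    have hst : MulAction.stabilizer H Q = ((Q : Subgroup S) ⊓ H).subgroupOf H := by
      ext x
      rw [MulAction.mem_stabilizer_iff, Subgroup.mem_subgroupOf, Subgroup.mem_inf]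
      show (x : S) • Q = Q ↔ _
      rw [Sylow.smul_eq_iff_mem_normalizer]
      refine ⟨fun h => ⟨?_, x.2⟩, fun h => Subgroup.le_normalizer h.1⟩
      have : (x : S) ∈ H ⊓ Subgroup.normalizer ((Q : Subgroup S) : Set S) := ⟨x.2, h⟩
      exact ((P.2.inf_normalizer_sylow Q).le this).2
    have hr : ((Q : Subgroup S) ⊓ H).relIndex H = (MulAction.orbit H Q).ncard := by
      rw [Subgroup.relIndex, ← hst, MulAction.index_stabilizer]
    obtain ⟨k, hk⟩ := (IsPGroup.iff_card.1 P.2)
    have hd : ((Q : Subgroup S) ⊓ H).relIndex H ∣ p ^ k := hk ▸ Subgroup.index_dvd_card _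
    obtain ⟨e, -, he⟩ := (Nat.dvd_prime_pow (Fact.out : p.Prime)).1 hd
    rw [he]
    have hlt : p ^ e < p ^ 2 := by
      rw [← he, hr]
      refine lt_of_le_of_lt ?_ hn
      exact (Set.ncard_le_ncard (Set.subset_univ _)).trans (Set.ncard_univ _).le
    have he2 : e < 2 := (Nat.pow_lt_pow_iff_right (Fact.out : p.Prime).one_lt).1 hlt
    have he0 : e ≠ 0 := by
      intro h0
      rw [h0, pow_zero, Subgroup.relIndex_eq_one] at he
      have hle : H ≤ (Q : Subgroup S) := he.trans inf_le_left
      exact hQ (Sylow.ext (P.3 Q.2 hle))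
    rw [show e = 1 by omega, pow_one]
  -- the Sylow subgroup is commutative
  have hone : ∀ x : S, (∀ Q : Sylow p S, x ∈ (Q : Subgroup S)) → x = 1 := by
    intro x hx
    have : x ∈ Cfsg.pCore p S := by
      rw [Cfsg.Agent.S0010.result p]
      exact Subgroup.mem_iInf.2 hx
    rwa [hcore, Subgroup.mem_bot] at this
  have habel : IsMulCommutative (P : Subgroup S) := by
    refine ⟨⟨fun a b => ?_⟩⟩
    have key : ((a * b * a⁻¹ * b⁻¹ : (P : Subgroup S)) : S) = 1 := by
      refine hone _ fun Q => ?_
      rcases eq_or_ne Q P with rfl | hQ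
      · exact Subtype.prop _
      set D := ((Q : Subgroup S) ⊓ (P : Subgroup S)).subgroupOf (P : Subgroup S) with hD
      have hDi : D.index = p := hidx Q hQ
      have : D.Normal := by
        refine Subgroup.normal_of_index_eq_minFac_card ?_
        obtain ⟨k, hk⟩ := (IsPGroup.iff_card.1 P.2)
        have hk0 : k ≠ 0 := by
          intro h0
          have := D.index_dvd_card
          rw [hDi, hk, h0, pow_zero, Nat.dvd_one] at this
          exact (Fact.out : p.Prime).one_lt.ne' this
        rw [hDi, hk, Nat.Prime.pow_minFac Fact.out hk0]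
      have hcard : Nat.card ((P : Subgroup S) ⧸ D) = p := by
        rw [← Subgroup.index_eq_card, hDi]
      have : IsCyclic ((P : Subgroup S) ⧸ D) := isCyclic_of_prime_card hcard
      have hm : a * b * a⁻¹ * b⁻¹ ∈ D := by
        rw [← QuotientGroup.eq_one_iff, QuotientGroup.mk_mul, QuotientGroup.mk_mul,
          QuotientGroup.mk_mul]
        obtain ⟨g, hg⟩ := IsCyclic.exists_generator (α := (P : Subgroup S) ⧸ D)
        obtain ⟨i, hi⟩ := Subgroup.mem_zpowers_iff.1 (hg (a : (P : Subgroup S) ⧸ D))
        obtain ⟨j, hj⟩ := Subgroup.mem_zpowers_iff.1 (hg (b : (P : Subgroup S) ⧸ D))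
        rw [QuotientGroup.mk_inv, QuotientGroup.mk_inv, ← hi, ← hj]
        group
      exact (Subgroup.mem_inf.1 hm).1
    have h2 : a * b * a⁻¹ * b⁻¹ = 1 := Subtype.ext key
    rw [mul_inv_eq_one, mul_inv_eq_iff_eq_mul] at h2
    exact h2
  obtain ⟨g, hg⟩ := Cfsg.Agent.S0060.result p P habel hcore
  have hgP : g • P ≠ P := by
    intro e
    rw [← Sylow.coe_subgroup_smul, e, inf_idem] at hg
    exact absurd hg (P.ne_bot_of_dvd_card hp)
  have := hidx (g • P) hgP
  rw [Sylow.coe_subgroup_smul, inf_comm, hg, Subgroup.relIndex_bot_left] at this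
  exact this

end Cfsg.Agent.S4343
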