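import Cfsg.Statements.S4344
-- import your own Cfsg.Agent.* helpers here

set_option autoImplicit false
open Cfsg

namespace Cfsg.Agent.S4344


/-- Let S be a finite non-abelian simple group, M a maximal subgroup of S and C a cyclic normal subgroup of M. If a Sylow p-subgroup P of S (for a prime p dividing the order of S) is contained in C, then the number of Sylow p-subgroups of S equals the index of M. -/
theorem result {S : Type*} [Group S] [Finite S]
    [IsSimpleGroup S] (hS : ¬ IsMulCommutative S) (p : ℕ) [Fact p.Prime] (hp : p ∣ Nat.card S)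
    (M : Subgroup S) (hM : IsCoatom M) (C : Subgroup S) (hCM : C ≤ M) (hCn : (C.subgroupOf M).Normal)
    (hC : IsCyclic C) (P : Sylow p S) (hP : (P : Subgroup S) ≤ C) :
    Nat.card (Sylow p S) = M.index := by
  have hPtop : Subgroup.normalizer ((P : Subgroup S) : Set S) ≠ ⊤ := by
    intro h
    have hn : (P : Subgroup S).Normal := Subgroup.normalizer_eq_top_iff.mp h
    rcases hn.eq_bot_or_eq_top with hb | ht
    · exact P.ne_bot_of_dvd_card hp hb
    · have hg : IsPGroup p S := (P.isPGroup'.of_equiv ((MulEquiv.subgroupCongr ht).trans Subgroup.topEquiv))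
      haveI : Nontrivial S := IsSimpleGroup.toNontrivial
      have := hg.center_nontrivial
      rcases (inferInstance : (Subgroup.center S).Normal).eq_bot_or_eq_top with hb | hc
      · exact (Subgroup.nontrivial_iff_ne_bot _).mp this hb
      · exact hS ⟨⟨fun a b => (Subgroup.mem_center_iff.mp (hc ▸ Subgroup.mem_top b)) a⟩⟩
  have hle : M ≤ Subgroup.normalizer ((P : Subgroup S) : Set S) := by
    intro m hm
    refine Sylow.smul_eq_iff_mem_normalizer.mp ?_
    have hQC : ((m • P : Sylow p S) : Subgroup S) ≤ C := by
      intro x hx
      rw [Sylow.coe_subgroup_smul, Subgroup.mem_pointwise_smul_iff_inv_smul_mem] at hx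
      have hc := hP hx
      have := hCn.conj_mem ⟨_, hCM hc⟩ (Subgroup.mem_subgroupOf.mpr hc) ⟨m, hm⟩
      simpa [Subgroup.mem_subgroupOf, mul_assoc] using this
    have hnorm : ((m • P : Sylow p S) : Subgroup S) ≤ Subgroup.normalizer ((P : Subgroup S) : Set S) := by
      intro x hx
      rw [Subgroup.mem_normalizer_iff]
      intro y
      haveI := hC
      have key : ∀ y ∈ (P : Subgroup S), x * y * x⁻¹ = y := by
        intro y hy
        have hcomm : x * y = y * x := by
          let : CommGroup C := IsCyclic.commGroup
          exact congrArg Subtype.val (mul_comm (⟨x, hQC hx⟩ : C) ⟨y, hP hy⟩)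
        rw [hcomm]; group
      constructor
      · intro hy; rw [key y hy]; exact hy
      · intro hy
        have h2 := key _ hy
        have : x * y * x⁻¹ = y := mul_left_cancel (a := x) (mul_right_cancel (b := x⁻¹) (by simpa [mul_assoc] using h2))
        rwa [this] at hy
    have h1 := P.is_maximal' (IsPGroup.to_sup_of_normal_left' P.isPGroup' (m • P).isPGroup' hnorm) le_sup_left
    exact Sylow.ext ((m • P).is_maximal' P.isPGroup' (le_sup_right.trans_eq h1)).symm
  rcases eq_or_lt_of_le hle with h | h
  · rw [Sylow.card_eq_index_normalizer P, h]; rfl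
  · exact absurd (hM.2 _ h) hPtop

end Cfsg.Agent.S4344
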