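import Cfsg.Statements.S4345
-- import your own Cfsg.Agent.* helpers here
import Cfsg.Agent.Lib.SylowNumber

set_option autoImplicit false
open Cfsg

namespace Cfsg.Agent.S4345


/-- Let G be a finite solvable group and p, ℓ primes. Then the largest power of ℓ dividing the number of Sylow p-subgroups of G is congruent to 1 modulo p. -/
theorem result {G : Type*} [Group G] [Finite G]
    (hG : Group.IsSolvable G) (p ℓ : ℕ) [Fact p.Prime] (hℓ : ℓ.Prime) :
    ℓ ^ (Nat.card (Sylow p G)).factorization ℓ ≡ 1 [MOD p] := by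
  obtain ⟨l, h1, h2⟩ := Cfsg.Agent.SylowNumber.decompose G p
  have hone : ∀ m ∈ l, m ≠ 0 ∧ ℓ ^ m.factorization ℓ ≡ 1 [MOD p] := by
    intro m hm
    rcases h2 m hm with ⟨hpp, hmod⟩ | ⟨S, i1, i2, hS, hsol, rfl⟩
    · obtain ⟨q, k, hq, hk, rfl⟩ := (isPrimePow_nat_iff m).mp hpp
      refine ⟨(pow_pos hq.pos k).ne', ?_⟩
      rw [hq.factorization_pow]
      by_cases hql : q = ℓ
      · subst hql
        rw [Finsupp.single_eq_same, Nat.ModEq, hmod, Nat.one_mod_eq_one.mpr (Fact.out : p.Prime).ne_one]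
      · rw [Finsupp.single_eq_of_ne (Ne.symm hql), pow_zero]
    · haveI := hsol hG
      haveI := hS
      have : Nat.card (Sylow p S) = 1 := by
        obtain ⟨P⟩ : Nonempty (Sylow p S) := inferInstance
        have hc : ∀ a b : S, a * b = b * a := IsSimpleGroup.comm_iff_isSolvable.mpr inferInstance
        haveI hn : (P : Subgroup S).Normal := ⟨fun n hn g => by rw [hc g n, mul_inv_cancel_right]; exact hn⟩
        rw [P.card_eq_index_normalizer]
        exact Subgroup.index_eq_one.mpr (Subgroup.normalizer_eq_top_iff.mpr hn)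
      rw [this]
      simp [Nat.ModEq.refl]
  rw [← h1]
  clear h1 h2
  induction l with
  | nil => simp [Nat.ModEq.refl]
  | cons a t ih =>
    have ha := hone a (List.mem_cons_self ..)
    have ht : ∀ m ∈ t, m ≠ 0 ∧ ℓ ^ m.factorization ℓ ≡ 1 [MOD p] := fun m hm => hone m (List.mem_cons_of_mem _ hm)
    have h0 : t.prod ≠ 0 := List.prod_ne_zero (fun h => (ht 0 h).1 rfl)
    rw [List.prod_cons, Nat.factorization_mul ha.1 h0, Finsupp.add_apply, pow_add]
    simpa using ha.2.mul (ih ht)

end Cfsg.Agent.S4345
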