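import Cfsg.Statements.S4346
import Mathlib
import Cfsg.Agent.Lib.BaerSuzuki
import Cfsg.Agent.Lib.SimpleOrderCheck
-- import your own Cfsg.Agent.* helpers here

set_option autoImplicit false
open Cfsg

namespace Cfsg.Agent.S4346

open Subgroup MulAction

variable {G : Type*} [Group G] [Finite G]

local instance fact_three : Fact (Nat.Prime 3) := ⟨Nat.prime_three⟩

/-- A `3`-element fixes a Sylow `3`-subgroup iff it lies in it. -/
theorem smul_eq_iff_mem {x : G} (hx : ∃ R : Sylow 3 G, x ∈ (R : Subgroup G)) (Q : Sylow 3 G) :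
    x • Q = Q ↔ x ∈ (Q : Subgroup G) := by
  obtain ⟨R, hR⟩ := hx
  rw [Sylow.smul_eq_iff_mem_normalizer]
  refine ⟨fun h => ?_, fun h => Subgroup.le_normalizer h⟩
  have : x ∈ (R : Subgroup G) ⊓ (Q : Subgroup G) := (R.2.inf_normalizer_sylow Q).le ⟨hR, h⟩
  exact this.2

omit [Finite G] in
theorem mem_smul_iff {x g : G} (Q : Sylow 3 G) :
    x ∈ ((g • Q : Sylow 3 G) : Subgroup G) ↔ g⁻¹ * x * g ∈ (Q : Subgroup G) := by
  rw [Sylow.coe_subgroup_smul, Subgroup.mem_pointwise_smul_iff_inv_smul_mem]
  simp only [MulAut.smul_def, MulAut.conj_inv_apply]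

omit [Finite G] in
theorem mem_smul {x g : G} (Q : Sylow 3 G) (h : x ∈ (Q : Subgroup G)) :
    g * x * g⁻¹ ∈ ((g • Q : Sylow 3 G) : Subgroup G) := by
  rw [mem_smul_iff]; simpa [mul_assoc] using h

omit [Finite G] in
theorem smul_self_of_mem {P : Sylow 3 G} {u : G} (hu : u ∈ (P : Subgroup G)) : u • P = P := by
  rw [Sylow.smul_eq_iff_mem_normalizer]; exact Subgroup.le_normalizer hu

/-- Length of the orbit of `Q` under `P`. -/
noncomputable def idx (P Q : Sylow 3 G) : ℕ := ((Q : Subgroup G).subgroupOf (P : Subgroup G)).index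

theorem stab_eq (P Q : Sylow 3 G) :
    MulAction.stabilizer (P : Subgroup G) Q = (Q : Subgroup G).subgroupOf (P : Subgroup G) := by
  ext g
  rw [MulAction.mem_stabilizer_iff, Subgroup.smul_def, Subgroup.mem_subgroupOf]
  exact smul_eq_iff_mem ⟨P, g.2⟩ Q

theorem orbit_ncard (P Q : Sylow 3 G) : (orbit (P : Subgroup G) Q).ncard = idx P Q := by
  rw [idx, ← stab_eq, MulAction.index_stabilizer]

theorem card_inf_mul_idx (P Q : Sylow 3 G) :
    Nat.card ↥((P : Subgroup G) ⊓ (Q : Subgroup G)) * idx P Q = Nat.card (P : Subgroup G) := by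
  rw [idx, ← Subgroup.card_mul_index ((Q : Subgroup G).subgroupOf (P : Subgroup G)),
    ← Subgroup.inf_subgroupOf_left,
    Nat.card_congr (Subgroup.subgroupOfEquivOfLe (inf_le_left :
      (P : Subgroup G) ⊓ (Q : Subgroup G) ≤ _)).toEquiv]

theorem card_eq (P Q : Sylow 3 G) : Nat.card (P : Subgroup G) = Nat.card (Q : Subgroup G) :=
  Nat.card_congr (P.equiv Q).toEquiv

theorem idx_symm (P Q : Sylow 3 G) : idx P Q = idx Q P := by
  have h1 := card_inf_mul_idx P Q
  have h2 := card_inf_mul_idx Q P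
  rw [inf_comm, ← card_eq P Q, ← h1] at h2
  exact (Nat.eq_of_mul_eq_mul_left Nat.card_pos h2).symm

theorem idx_self (P : Sylow 3 G) : idx P P = 1 := by
  rw [idx, Subgroup.subgroupOf_self, Subgroup.index_top]

theorem idx_smul (g : G) (P Q : Sylow 3 G) : idx (g • P) (g • Q) = idx P Q := by
  have h1 := card_inf_mul_idx (g • P) (g • Q)
  have h2 := card_inf_mul_idx P Q
  have hc : Nat.card ↥(((g • P : Sylow 3 G) : Subgroup G) ⊓ ((g • Q : Sylow 3 G) : Subgroup G))
      = Nat.card ↥((P : Subgroup G) ⊓ (Q : Subgroup G)) := by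
    rw [Sylow.coe_subgroup_smul, Sylow.coe_subgroup_smul, ← Subgroup.smul_inf]
    exact (Nat.card_congr (Subgroup.equivSMul (MulAut.conj g) _).toEquiv).symm
  rw [hc, card_eq (g • P) P, ← h2] at h1
  exact Nat.eq_of_mul_eq_mul_left Nat.card_pos h1

theorem smul_mem_idx {P Q : Sylow 3 G} {u : G} (hu : u ∈ (P : Subgroup G)) :
    idx P (u • Q) = idx P Q := by
  have h := idx_smul u P Q
  rwa [smul_self_of_mem hu] at h

theorem modEq_of_invariant (P : Sylow 3 G) (s : Set (Sylow 3 G)) (hP : P ∈ s)
    (hs : ∀ u ∈ (P : Subgroup G), ∀ Q ∈ s, u • Q ∈ s) : s.ncard % 3 = 1 := by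
  let S : SubMulAction (P : Subgroup G) (Sylow 3 G) :=
    ⟨s, fun u Q hQ => hs u u.2 Q hQ⟩
  have h := P.2.card_modEq_card_fixedPoints S
  have h1 : Nat.card (fixedPoints (P : Subgroup G) S) = 1 := by
    rw [Nat.card_eq_one_iff_unique]
    refine ⟨⟨fun a b => ?_⟩, ⟨⟨⟨P, hP⟩, fun u => Subtype.ext ?_⟩⟩⟩
    · have key : ∀ c : fixedPoints (P : Subgroup G) S, (c.1.1 : Sylow 3 G) = P := fun c => by
        have hfix : c.1.1 ∈ fixedPoints (P : Subgroup G) (Sylow 3 G) :=
          fun u => congrArg Subtype.val (c.2 u)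
        exact Sylow.ext (P.3 c.1.1.2 (P.2.sylow_mem_fixedPoints_iff.1 hfix))
      exact Subtype.ext (Subtype.ext ((key a).trans (key b).symm))
    · exact smul_self_of_mem u.2
  rw [h1] at h
  rw [← Nat.card_coe_set_eq]
  exact h

theorem dvd_ncard_of_orbits (P : Sylow 3 G) (s : Set (Sylow 3 G)) (m : ℕ)
    (hs : ∀ u ∈ (P : Subgroup G), ∀ Q ∈ s, u • Q ∈ s) (hm : ∀ Q ∈ s, idx P Q = m) :
    m ∣ s.ncard := by
  let S : SubMulAction (P : Subgroup G) (Sylow 3 G) := ⟨s, fun u Q hQ => hs u u.2 Q hQ⟩
  have : Finite S := Subtype.finite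
  have := Fintype.ofFinite (MulAction.orbitRel.Quotient (P : Subgroup G) S)
  rw [← Nat.card_coe_set_eq]
  show m ∣ Nat.card S
  rw [Nat.card_congr (MulAction.selfEquivSigmaOrbitsQuotientStabilizer (P : Subgroup G) S),
    Nat.card_sigma]
  refine Finset.dvd_sum fun ω _ => ?_
  rw [← Subgroup.index_eq_card, SubMulAction.stabilizer_of_subMul, stab_eq]
  exact dvd_of_eq (hm _ ω.out.2).symm

section faithful

variable (hn : Nat.card (Sylow 3 G) = 22) (hK : ∀ g : G, (∀ Q : Sylow 3 G, g • Q = Q) → g = 1)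

include hn

theorem idx_cases {P Q : Sylow 3 G} (h : Q ≠ P) : idx P Q = 3 ∨ idx P Q = 9 := by
  obtain ⟨j, hj⟩ := P.2.index ((Q : Subgroup G).subgroupOf (P : Subgroup G))
  have hle : idx P Q ≤ 22 := by
    rw [← orbit_ncard, ← hn, ← Set.ncard_univ]
    exact Set.ncard_le_ncard (Set.subset_univ _) (Set.toFinite _)
  rw [idx] at hle ⊢
  rw [hj] at hle ⊢
  rcases j with _ | _ | _ | j
  · exfalso
    rw [pow_zero, Subgroup.index_eq_one, Subgroup.subgroupOf_eq_top] at hj
    exact h (Sylow.ext (P.3 Q.2 hj))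
  · left; rfl
  · right; rfl
  · exfalso
    have : 3 ^ 3 ≤ 3 ^ (j + 1 + 1 + 1) := Nat.pow_le_pow_right (by norm_num) (by omega)
    omega

include hK

/-- A nontrivial `3`-element lies in at most eleven Sylow `3`-subgroups. -/
theorem small_fix {x : G} {P : Sylow 3 G} (hx : x ∈ (P : Subgroup G)) (hx1 : x ≠ 1) :
    {Q : Sylow 3 G | x ∈ (Q : Subgroup G)}.ncard ≤ 11 := by
  by_contra hgt
  have hpairs : ∀ g : G, IsPGroup 3 ↥(Subgroup.zpowers x ⊔ (Subgroup.zpowers x).map (MulAut.conj g).toMonoidHom) := by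
    intro g
    set s := {Q : Sylow 3 G | x ∈ (Q : Subgroup G)} with hs
    have hc : ((g • ·) '' s).ncard = s.ncard := Set.ncard_image_of_injective _ (MulAction.injective g)
    obtain ⟨R, h1, R', h2, rfl⟩ : ∃ R ∈ s, ∃ R' ∈ s, g • R' = R := by
      by_contra hd
      push Not at hd
      have hdisj : Disjoint s ((g • ·) '' s) := by
        rw [Set.disjoint_left]
        rintro R hR ⟨R', hR', rfl⟩
        exact hd _ hR R' hR' rfl
      have h := Set.ncard_union_eq hdisj (Set.toFinite _) (Set.toFinite _)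
      have h' := Set.ncard_le_ncard (Set.subset_univ (s ∪ (g • ·) '' s)) (Set.toFinite _)
      rw [h, hc, Set.ncard_univ, hn] at h'
      omega
    refine (g • R').2.to_le (sup_le (Subgroup.zpowers_le.2 h1) ?_)
    rw [MonoidHom.map_zpowers, Subgroup.zpowers_le]
    exact mem_smul R' h2
  obtain ⟨N, hNn, hNp, hNle⟩ := BaerSuzuki.exists_normal_pGroup_of_pairs (p := 3) (Subgroup.zpowers x)
    (P.2.to_le (Subgroup.zpowers_le.2 hx)) hpairs
  apply hx1
  refine hK x fun Q => ?_
  have hNQ : N ≤ (Q : Subgroup G) := sup_eq_left.mp (Q.3 (Q.2.to_sup_of_normal_right hNp) le_sup_left)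
  exact smul_self_of_mem (hNQ (hNle (Subgroup.mem_zpowers x)))

/-- A subgroup of `P` contained in at least twelve Sylow subgroups is trivial. -/
theorem eq_bot_of_large {P : Sylow 3 G} {D : Subgroup G} (hD : D ≤ (P : Subgroup G))
    (h : 11 < {Q : Sylow 3 G | D ≤ (Q : Subgroup G)}.ncard) : D = ⊥ := by
  rw [eq_bot_iff]
  intro x hx
  rw [Subgroup.mem_bot]
  by_contra hx1
  have h1 := small_fix hn hK (hD hx) hx1
  have h2 : {Q : Sylow 3 G | D ≤ (Q : Subgroup G)}.ncard ≤ {Q : Sylow 3 G | x ∈ (Q : Subgroup G)}.ncard :=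
    Set.ncard_le_ncard (fun Q hQ => hQ hx) (Set.toFinite _)
  omega

end faithful

theorem line_inter {P Q : Sylow 3 G} (h3 : idx P Q = 3) (hn : Nat.card (Sylow 3 G) = 22)
    {R R' : Sylow 3 G} (hR : (P : Subgroup G) ⊓ (Q : Subgroup G) ≤ (R : Subgroup G))
    (hR' : (P : Subgroup G) ⊓ (Q : Subgroup G) ≤ (R' : Subgroup G)) (hne : R' ≠ R) :
    (R : Subgroup G) ⊓ (R' : Subgroup G) = (P : Subgroup G) ⊓ (Q : Subgroup G) ∧ idx R R' = 3 := by
  have hle : (P : Subgroup G) ⊓ (Q : Subgroup G) ≤ (R : Subgroup G) ⊓ (R' : Subgroup G) := le_inf hR hR'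
  have h1 := card_inf_mul_idx P Q
  have h2 := card_inf_mul_idx R R'
  rw [h3] at h1
  rw [card_eq R P, ← h1] at h2
  have hc := Subgroup.card_le_of_le hle
  rcases idx_cases hn hne with h | h
  · rw [h] at h2
    exact ⟨(Subgroup.eq_of_le_of_card_ge hle (by omega)).symm, h⟩
  · exfalso
    rw [h] at h2
    have := Nat.card_pos (α := ↥((P : Subgroup G) ⊓ (Q : Subgroup G)))
    omega

theorem conj_mem_inter {P Q : Sylow 3 G} (h3 : idx P Q = 3) {u d : G} (hu : u ∈ (P : Subgroup G))
    (hd : d ∈ (P : Subgroup G) ⊓ (Q : Subgroup G)) :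
    u * d * u⁻¹ ∈ (P : Subgroup G) ⊓ (Q : Subgroup G) := by
  have hnor : ((Q : Subgroup G).subgroupOf (P : Subgroup G)).Normal := by
    apply Subgroup.normal_of_index_eq_minFac_card
    obtain ⟨j, hj⟩ := P.2.exists_card_eq
    have hd' := Subgroup.index_dvd_card ((Q : Subgroup G).subgroupOf (P : Subgroup G))
    rw [show ((Q : Subgroup G).subgroupOf (P : Subgroup G)).index = 3 from h3, hj] at hd' ⊢
    rcases j with _ | j
    · norm_num at hd'
    · rw [Nat.pow_minFac (Nat.succ_ne_zero j), Nat.Prime.minFac_eq Nat.prime_three]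
  exact ⟨Subgroup.mul_mem _ (Subgroup.mul_mem _ hu hd.1) (Subgroup.inv_mem _ hu),
    hnor.conj_mem ⟨d, hd.1⟩ hd.2 ⟨u, hu⟩⟩

theorem exp_three_of_idx {P Q : Sylow 3 G} (h3 : idx P Q = 3) {u v : G} (hu : u ∈ (P : Subgroup G))
    (hv : v ∈ (P : Subgroup G)) :
    u ^ 3 ∈ (Q : Subgroup G) ∧ (v * u)⁻¹ * (u * v) ∈ (Q : Subgroup G) := by
  set H := (Q : Subgroup G).subgroupOf (P : Subgroup G) with hH
  have hnor : H.Normal := by
    refine ⟨fun d hd w => ?_⟩
    exact (conj_mem_inter h3 w.2 ⟨d.2, hd⟩).2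
  have hidx : H.index = 3 := h3
  refine ⟨?_, ?_⟩
  · have h := Subgroup.pow_index_mem H ⟨u, hu⟩
    rw [hidx] at h
    exact h
  · have hc : Nat.card ((P : Subgroup G) ⧸ H) = 3 := (Subgroup.index_eq_card H).symm.trans hidx
    have hcyc : IsCyclic ((P : Subgroup G) ⧸ H) := isCyclic_of_prime_card hc
    have := hcyc.isMulCommutative
    have h2 : ((⟨v, hv⟩ * ⟨u, hu⟩ : (P : Subgroup G)) : (P : Subgroup G) ⧸ H)
        = ((⟨u, hu⟩ * ⟨v, hv⟩ : (P : Subgroup G)) : (P : Subgroup G) ⧸ H) := by
      rw [QuotientGroup.mk_mul, QuotientGroup.mk_mul]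
      exact IsMulCommutative.is_comm.comm _ _
    exact ((QuotientGroup.eq (s := H)).1 h2 :)

open scoped Classical in
/-- The combinatorics of lines: if `P` has order more than `3` then `P` has exactly twelve partners
at distance `3`. -/
theorem structure_large (hn : Nat.card (Sylow 3 G) = 22)
    (hK : ∀ g : G, (∀ Q : Sylow 3 G, g • Q = Q) → g = 1) (P : Sylow 3 G)
    (hbig : 3 < Nat.card (P : Subgroup G)) :
    {Q : Sylow 3 G | idx P Q = 3}.ncard = 12 ∧
    ∀ Q, idx P Q = 3 →
      {R : Sylow 3 G | (P : Subgroup G) ⊓ (Q : Subgroup G) ≤ (R : Subgroup G)}.ncard = 4 := by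
  have : Finite (Sylow 3 G) := Nat.finite_of_card_ne_zero (by omega)
  have := Fintype.ofFinite (Sylow 3 G)
  have := Fintype.ofFinite G
  have hn' : (Finset.univ : Finset (Sylow 3 G)).card = 22 := by
    rw [Finset.card_univ, ← Nat.card_eq_fintype_card, hn]
  let line : Sylow 3 G → Sylow 3 G → Finset (Sylow 3 G) := fun A B =>
    Finset.univ.filter fun R => (A : Subgroup G) ⊓ (B : Subgroup G) ≤ (R : Subgroup G)
  have hline : ∀ A B R, R ∈ line A B ↔ (A : Subgroup G) ⊓ (B : Subgroup G) ≤ (R : Subgroup G) :=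
    fun A B R => by simp [line]
  let LS : Finset (Finset (Sylow 3 G)) :=
    ((Finset.univ : Finset (Sylow 3 G × Sylow 3 G)).filter fun z => idx z.1 z.2 = 3).image fun z => line z.1 z.2
  have hLS : ∀ L, L ∈ LS ↔ ∃ A B, idx A B = 3 ∧ line A B = L := fun L => by
    simp [LS]
  have hbig' : ∀ R : Sylow 3 G, 3 < Nat.card (R : Subgroup G) := fun R => card_eq P R ▸ hbig
  have hsize : ∀ L ∈ LS, L.card = 4 ∨ L.card = 7 ∨ L.card = 10 := by
    intro L hL
    obtain ⟨A, B, h3, rfl⟩ := (hLS L).1 hL
    have hAB : A ≠ B := fun h => by rw [h, idx_self] at h3; norm_num at h3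
    have hA : A ∈ line A B := (hline _ _ _).2 inf_le_left
    have hB : B ∈ line A B := (hline _ _ _).2 inf_le_right
    have hmod : (line A B).card % 3 = 1 := by
      rw [← Set.ncard_coe_finset]
      refine modEq_of_invariant A _ hA fun u hu R hR => ?_
      rw [Finset.mem_coe, hline] at hR ⊢
      intro d hd
      rw [mem_smul_iff]
      have := hR (conj_mem_inter h3 (Subgroup.inv_mem _ hu) hd)
      rwa [inv_inv] at this
    have h2 : 2 ≤ (line A B).card := Finset.one_lt_card.2 ⟨A, hA, B, hB, hAB⟩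
    have h11 : (line A B).card ≤ 11 := by
      by_contra hgt
      have hbot := eq_bot_of_large hn hK (P := A) (D := (A : Subgroup G) ⊓ (B : Subgroup G)) inf_le_left (by
        rw [Set.ncard_eq_toFinset_card']
        refine lt_of_lt_of_le (not_le.1 hgt) (le_of_eq (congrArg Finset.card ?_))
        ext R; simp [line])
      have h1 := card_inf_mul_idx A B
      rw [h3, hbot, Subgroup.card_bot] at h1
      have := hbig' A
      omega
    omega
  have hpair : ∀ L ∈ LS, ∀ R ∈ L, ∀ R' ∈ L, R' ≠ R → idx R R' = 3 ∧ L = line R R' := by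
    intro L hL R hR R' hR' hne
    obtain ⟨A, B, h3, rfl⟩ := (hLS L).1 hL
    rw [hline] at hR hR'
    obtain ⟨h1, h2⟩ := line_inter h3 hn hR hR' hne
    refine ⟨h2, ?_⟩
    ext S
    rw [hline, hline, h1]
  have hsmul : ∀ (g : G) (A B : Sylow 3 G), line (g • A) (g • B) = (line A B).image (g • ·) := by
    intro g A B
    ext R
    rw [hline, Finset.mem_image, Sylow.coe_subgroup_smul, Sylow.coe_subgroup_smul, ← Subgroup.smul_inf]
    constructor
    · intro h
      refine ⟨g⁻¹ • R, ?_, smul_inv_smul g R⟩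
      rw [hline, Sylow.coe_subgroup_smul, map_inv, Subgroup.subset_pointwise_smul_iff, inv_inv]
      exact h
    · rintro ⟨S, hS, rfl⟩
      rw [Sylow.coe_subgroup_smul, Subgroup.pointwise_smul_le_pointwise_smul_iff]
      exact (hline _ _ _).1 hS
  let cnt : ℕ → Sylow 3 G → ℕ := fun s R => (LS.filter fun L => L.card = s ∧ R ∈ L).card
  have hcnt : ∀ s R, cnt s R = cnt s P := by
    intro s R
    obtain ⟨g, rfl⟩ := MulAction.exists_smul_eq G P R
    have hmem : ∀ (g : G) L, L ∈ LS → L.image (g • ·) ∈ LS := by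
      intro g L hL
      obtain ⟨A, B, h3, rfl⟩ := (hLS L).1 hL
      exact (hLS _).2 ⟨g • A, g • B, (idx_smul g A B).trans h3, hsmul g A B⟩
    refine (Finset.card_bij (fun L _ => L.image (g • ·)) ?_ ?_ ?_).symm
    · intro L hL
      rw [Finset.mem_filter] at hL ⊢
      exact ⟨hmem g L hL.1, (Finset.card_image_of_injective _ (MulAction.injective g)).trans hL.2.1,
        Finset.mem_image_of_mem _ hL.2.2⟩
    · intro L _ L' _ h
      exact Finset.image_injective (MulAction.injective g) h
    · intro L hL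
      rw [Finset.mem_filter] at hL
      refine ⟨L.image (g⁻¹ • ·), Finset.mem_filter.2 ⟨hmem _ L hL.1,
        (Finset.card_image_of_injective _ (MulAction.injective g⁻¹)).trans hL.2.1, ?_⟩, ?_⟩
      · exact Finset.mem_image.2 ⟨g • P, hL.2.2, inv_smul_smul g P⟩
      · rw [Finset.image_image]
        simp [Function.comp_def]
  have hdc : ∀ s, 22 * cnt s P = s * (LS.filter fun L => L.card = s).card := by
    intro s
    have h1 : ∑ R : Sylow 3 G, cnt s R = ∑ L ∈ LS.filter (fun L => L.card = s), L.card := by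
      simp only [cnt, Finset.card_filter]
      rw [Finset.sum_comm, Finset.sum_filter]
      refine Finset.sum_congr rfl fun L _ => ?_
      by_cases h : L.card = s
      · rw [if_pos h, ← Finset.card_filter]
        congr 1; ext R; simp [h]
      · simp [h]
    rw [Finset.sum_congr rfl fun R _ => hcnt s R, Finset.sum_const, hn', smul_eq_mul,
      Finset.sum_congr rfl fun L hL => (Finset.mem_filter.1 hL).2, Finset.sum_const, smul_eq_mul] at h1
    rw [h1, mul_comm]
  let nb := Finset.univ.filter fun Q : Sylow 3 G => idx P Q = 3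
  have hnb : nb.card = ∑ L ∈ LS.filter (fun L => P ∈ L), (L.card - 1) := by
    have hu : nb = (LS.filter fun L => P ∈ L).biUnion fun L => L.erase P := by
      ext Q
      simp only [nb, Finset.mem_filter, Finset.mem_univ, true_and, Finset.mem_biUnion, Finset.mem_erase]
      constructor
      · intro h
        refine ⟨line P Q, ⟨(hLS _).2 ⟨P, Q, h, rfl⟩, (hline _ _ _).2 inf_le_left⟩, ?_,
          (hline _ _ _).2 inf_le_right⟩
        intro hQP; rw [hQP, idx_self] at h; norm_num at h
      · rintro ⟨L, ⟨hL, hPL⟩, hne, hQ⟩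
        exact (hpair L hL P hPL Q hQ hne).1
    rw [hu, Finset.card_biUnion, Finset.sum_congr rfl fun L hL =>
      Finset.card_erase_of_mem (Finset.mem_filter.1 hL).2]
    intro L hL L' hL' hne
    simp only [Finset.mem_coe, Finset.mem_filter] at hL hL'
    rw [Function.onFun, Finset.disjoint_left]
    intro Q hQ hQ'
    rw [Finset.mem_erase] at hQ hQ'
    exact hne ((hpair L hL.1 P hL.2 Q hQ.2 hQ.1).2.trans (hpair L' hL'.1 P hL'.2 Q hQ'.2 hQ'.1).2.symm)
  have hPnot : P ∉ nb := by simp [nb, idx_self]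
  have hle21 : nb.card ≤ 21 := by
    have h := Finset.card_le_card (show nb ⊆ Finset.univ.erase P from fun Q hQ =>
      Finset.mem_erase.2 ⟨fun h => hPnot (h ▸ hQ), Finset.mem_univ _⟩)
    rwa [Finset.card_erase_of_mem (Finset.mem_univ _), hn'] at h
  have hsub : ∀ s, cnt s P * (s - 1) ≤ nb.card := by
    intro s
    rw [hnb]
    calc cnt s P * (s - 1) = ∑ L ∈ LS.filter (fun L => L.card = s ∧ P ∈ L), (L.card - 1) := by
          rw [Finset.sum_congr rfl fun L hL => show L.card - 1 = s - 1 by
            rw [(Finset.mem_filter.1 hL).2.1], Finset.sum_const, smul_eq_mul]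
      _ ≤ _ := Finset.sum_le_sum_of_subset (fun L hL => by
            rw [Finset.mem_filter] at hL ⊢; exact ⟨hL.1, hL.2.2⟩)
  have hzero : ∀ s, s = 7 ∨ s = 10 → cnt s P = 0 := by
    intro s hs
    have h1 := hdc s
    have h2 := hsub s
    rcases hs with rfl | rfl <;> omega
  have h4 : ∀ L ∈ LS, P ∈ L → L.card = 4 := by
    intro L hL hPL
    rcases hsize L hL with h | h | h
    · exact h
    all_goals
      have h0 := hzero L.card (by omega)
      exact absurd h0 (Finset.card_pos.2 ⟨L, Finset.mem_filter.2 ⟨hL, rfl, hPL⟩⟩).ne'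
  have hd : nb.card = cnt 4 P * 3 := by
    rw [hnb, Finset.sum_congr rfl fun L hL => show L.card - 1 = 3 by
      rw [h4 L (Finset.mem_filter.1 hL).1 (Finset.mem_filter.1 hL).2], Finset.sum_const, smul_eq_mul]
    congr 2
    ext L
    simp only [Finset.mem_filter]
    exact ⟨fun h => ⟨h.1, h4 L h.1 h.2, h.2⟩, fun h => ⟨h.1, h.2.2⟩⟩
  have hO : 9 ∣ 21 - nb.card := by
    have h := dvd_ncard_of_orbits P {Q : Sylow 3 G | idx P Q = 9} 9
      (fun u hu Q (hQ : idx P Q = 9) => show idx P (u • Q) = 9 from (smul_mem_idx hu).trans hQ)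
      (fun Q hQ => hQ)
    have hsplit : {Q : Sylow 3 G | idx P Q = 9}.ncard + nb.card = 21 := by
      have he : Finset.univ.erase P = (Finset.univ.filter fun Q => idx P Q = 9) ∪ nb := by
        ext Q
        simp only [nb, Finset.mem_erase, Finset.mem_union, Finset.mem_filter, Finset.mem_univ, true_and, and_true]
        constructor
        · intro hne; exact (idx_cases hn hne).symm
        · intro h hQP; rw [hQP, idx_self] at h; norm_num at h
      have hc := congrArg Finset.card he
      rw [Finset.card_erase_of_mem (Finset.mem_univ _), hn', Finset.card_union_of_disjoint] at hc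
      · rw [Set.ncard_eq_toFinset_card']
        simp only [Set.toFinset_setOf]
        omega
      · rw [Finset.disjoint_left]
        intro Q h1 h2
        simp only [nb, Finset.mem_filter, Finset.mem_univ, true_and] at h1 h2
        omega
    rw [show 21 - nb.card = {Q : Sylow 3 G | idx P Q = 9}.ncard by omega]
    exact h
  have h12 : nb.card = 12 := by
    have := hdc 4
    omega
  refine ⟨?_, fun Q hQ => ?_⟩
  · rw [Set.ncard_eq_toFinset_card']
    simpa [nb] using h12
  · have := h4 (line P Q) ((hLS _).2 ⟨P, Q, hQ, rfl⟩) ((hline _ _ _).2 inf_le_left)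
    rw [Set.ncard_eq_toFinset_card']
    simpa [line] using this

section faithfulB

variable (hn : Nat.card (Sylow 3 G) = 22) (hK : ∀ g : G, (∀ Q : Sylow 3 G, g • Q = Q) → g = 1)

include hn hK

theorem three_dvd_card (P : Sylow 3 G) : 3 ≤ Nat.card (P : Subgroup G) := by
  have : Finite (Sylow 3 G) := Nat.finite_of_card_ne_zero (by omega)
  have : Nontrivial (Sylow 3 G) := Finite.one_lt_card_iff_nontrivial.1 (by omega)
  obtain ⟨Q, hQ⟩ := exists_ne P
  rw [← card_inf_mul_idx P Q]
  have := Nat.card_pos (α := ↥((P : Subgroup G) ⊓ (Q : Subgroup G)))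
  rcases idx_cases hn hQ with h | h <;> rw [h] <;> omega

/-- `P` is elementary abelian. -/
theorem elem_abelian (P : Sylow 3 G) {u v : G} (hu : u ∈ (P : Subgroup G)) (hv : v ∈ (P : Subgroup G)) :
    u ^ 3 = 1 ∧ Commute u v := by
  rcases eq_or_lt_of_le (three_dvd_card hn hK P) with h | h
  · have hcyc : IsCyclic (P : Subgroup G) := isCyclic_of_prime_card h.symm
    have := hcyc.isMulCommutative
    refine ⟨?_, ?_⟩
    · have h3 := pow_card_eq_one' (x := (⟨u, hu⟩ : (P : Subgroup G)))
      rw [← h] at h3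
      exact congrArg Subtype.val h3
    · exact congrArg Subtype.val (IsMulCommutative.is_comm.comm (⟨u, hu⟩ : (P : Subgroup G)) ⟨v, hv⟩)
  · have h12 := (structure_large hn hK P h).1
    have key : ∀ w ∈ (P : Subgroup G), (∀ Q, idx P Q = 3 → w ∈ (Q : Subgroup G)) → w = 1 := by
      intro w hw hall
      by_contra hw1
      have h1 := small_fix hn hK hw hw1
      have hsub : insert P {Q : Sylow 3 G | idx P Q = 3} ⊆ {Q : Sylow 3 G | w ∈ (Q : Subgroup G)} := by
        rintro Q (rfl | hQ)
        · exact hw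
        · exact hall Q hQ
      have := Set.ncard_le_ncard hsub (Set.toFinite _)
      rw [Set.ncard_insert_of_notMem (by simp [idx_self]) (Set.toFinite _), h12] at this
      omega
    refine ⟨key _ (Subgroup.pow_mem _ hu 3) fun Q hQ => (exp_three_of_idx hQ hu hv).1, ?_⟩
    have := key _ (Subgroup.mul_mem _ (Subgroup.inv_mem _ (Subgroup.mul_mem _ hv hu))
      (Subgroup.mul_mem _ hu hv)) fun Q hQ => (exp_three_of_idx hQ hu hv).2
    exact (inv_mul_eq_one.1 this).symm

omit hK in
theorem nine_ncard {P : Sylow 3 G} (h12 : {Q : Sylow 3 G | idx P Q = 3}.ncard = 12) :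
    {Q : Sylow 3 G | idx P Q = 9}.ncard = 9 := by
  have he : ({P} ∪ {Q : Sylow 3 G | idx P Q = 3}) ∪ {Q : Sylow 3 G | idx P Q = 9} = Set.univ := by
    refine Set.eq_univ_of_forall fun Q => ?_
    by_cases h : Q = P
    · exact Or.inl (Or.inl h)
    · rcases idx_cases hn h with h' | h'
      · exact Or.inl (Or.inr h')
      · exact Or.inr h'
  have h := congrArg Set.ncard he
  rw [Set.ncard_univ, hn, Set.ncard_union_eq ?_ (Set.toFinite _) (Set.toFinite _),
    Set.ncard_union_eq ?_ (Set.toFinite _) (Set.toFinite _), Set.ncard_singleton, h12] at h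
  · omega
  · rw [Set.disjoint_left]
    rintro Q rfl (hQ : idx Q Q = 3)
    rw [idx_self] at hQ; omega
  · rw [Set.disjoint_left]
    rintro Q (rfl | (hQ : idx P Q = 3)) (hQ' : idx _ Q = 9)
    · rw [idx_self] at hQ'; omega
    · omega

theorem nine_orbit {P Q : Sylow 3 G} (hbig : 3 < Nat.card (P : Subgroup G)) (hQ : idx P Q = 9)
    {R : Sylow 3 G} (hR : idx P R = 9) : ∃ u ∈ (P : Subgroup G), u • Q = R := by
  have h9 := nine_ncard hn (structure_large hn hK P hbig).1
  have hsub : orbit (P : Subgroup G) Q ⊆ {R : Sylow 3 G | idx P R = 9} := by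
    rintro _ ⟨u, rfl⟩
    exact (smul_mem_idx u.2).trans hQ
  have he := Set.eq_of_subset_of_ncard_le hsub (by rw [h9, orbit_ncard, hQ]) (Set.toFinite _)
  obtain ⟨u, hu⟩ : R ∈ orbit (P : Subgroup G) Q := by rw [he]; exact hR
  exact ⟨u, u.2, hu⟩

theorem card_cases (P : Sylow 3 G) :
    Nat.card (P : Subgroup G) = 3 ∨ Nat.card (P : Subgroup G) = 9 := by
  classical
  rcases eq_or_lt_of_le (three_dvd_card hn hK P) with h | hbig
  · exact Or.inl h.symm
  right
  have hbig' : ∀ R : Sylow 3 G, 3 < Nat.card (R : Subgroup G) := fun R => card_eq P R ▸ hbig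
  have h9 : ∀ R : Sylow 3 G, {S : Sylow 3 G | idx R S = 9}.ncard = 9 := fun R =>
    nine_ncard hn (structure_large hn hK R (hbig' R)).1
  have hinter : ∀ R S S' : Sylow 3 G, idx R S = 9 → idx R S' = 9 →
      (R : Subgroup G) ⊓ (S : Subgroup G) ≤ (S' : Subgroup G) := by
    intro R S S' hS hS' d hd
    obtain ⟨u, hu, rfl⟩ := nine_orbit hn hK (hbig' R) hS hS'
    rw [mem_smul_iff, (elem_abelian hn hK R (Subgroup.inv_mem _ hu) hd.1).2.eq, inv_mul_cancel_right]
    exact hd.2
  by_contra hne
  let cls : Sylow 3 G → Finset (Sylow 3 G) := fun R =>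
    (insert R {S : Sylow 3 G | idx R S = 9}).toFinite.toFinset
  have hcls : ∀ R S, S ∈ cls R ↔ S = R ∨ idx R S = 9 := fun R S => by
    simp [cls]
  have hclscard : ∀ R, (cls R).card = 10 := fun R => by
    rw [← Set.ncard_eq_toFinset_card, Set.ncard_insert_of_notMem (by simp [idx_self]) (Set.toFinite _), h9]
  have hkey : ∀ R S, idx R S = 9 → cls S = cls R := by
    intro R S hS
    set E := (R : Subgroup G) ⊓ (S : Subgroup G) with hE
    set F := {T : Sylow 3 G | E ≤ (T : Subgroup G)} with hF
    have hE1 : E ≠ ⊥ := by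
      intro hb
      have h := card_inf_mul_idx R S
      rw [hS, ← hE, hb, Subgroup.card_bot, one_mul] at h
      exact hne (by rw [card_eq P R, ← h])
    have h11 : F.ncard ≤ 11 := not_lt.1 fun hgt => hE1 (eq_bot_of_large hn hK inf_le_left hgt)
    have hsub1 : (insert R {T : Sylow 3 G | idx R T = 9}) ⊆ F := by
      rintro T (rfl | hT)
      · exact (inf_le_left : E ≤ _)
      · exact hinter R S T hS hT
    have hsub2 : (insert S {T : Sylow 3 G | idx S T = 9}) ⊆ F := by
      rintro T (rfl | hT)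
      · exact (inf_le_right : E ≤ _)
      · show E ≤ _
        rw [hE, inf_comm]
        exact hinter S R T ((idx_symm S R).trans hS) hT
    have hmod : F.ncard % 3 = 1 := by
      refine modEq_of_invariant R F (inf_le_left : E ≤ _) fun u hu T hT => ?_
      intro d hd
      rw [mem_smul_iff, (elem_abelian hn hK R (Subgroup.inv_mem _ hu) hd.1).2.eq, inv_mul_cancel_right]
      exact hT hd
    have hten : ∀ X : Sylow 3 G, (insert X {T : Sylow 3 G | idx X T = 9}).ncard = 10 := fun X => by
      rw [Set.ncard_insert_of_notMem (by simp [idx_self]) (Set.toFinite _), h9]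
    have h10 : F.ncard = 10 := by
      have := Set.ncard_le_ncard hsub1 (Set.toFinite _)
      rw [hten] at this
      omega
    have e1 := Set.eq_of_subset_of_ncard_le hsub1 (by rw [hten, h10]) (Set.toFinite _)
    have e2 := Set.eq_of_subset_of_ncard_le hsub2 (by rw [hten, h10]) (Set.toFinite _)
    ext T
    simp only [hcls]
    exact Set.ext_iff.1 (e2.trans e1.symm) T
  have : Finite (Sylow 3 G) := Nat.finite_of_card_ne_zero (by omega)
  have := Fintype.ofFinite (Sylow 3 G)
  have hsum := Finset.card_eq_sum_card_image cls (Finset.univ : Finset (Sylow 3 G))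
  rw [Finset.card_univ, ← Nat.card_eq_fintype_card, hn] at hsum
  rw [Finset.sum_congr rfl (fun L hL => show _ = 10 by
    obtain ⟨R, -, rfl⟩ := Finset.mem_image.1 hL
    rw [← hclscard R]
    congr 1
    ext S
    simp only [Finset.mem_filter, Finset.mem_univ, true_and, hcls]
    constructor
    · intro h
      exact (hcls R S).1 (h ▸ (hcls S S).2 (Or.inl rfl))
    · rintro (rfl | h)
      · rfl
      · exact hkey R S h), Finset.sum_const, smul_eq_mul] at hsum
  omega

end faithfulB

/-- Fixed point parity: an involution of a simple group acting on 22 points does not fix exactly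
`f` points when `(22 - f) / 2` is odd. -/
theorem fix_parity [IsSimpleGroup G] (hG : ¬ IsMulCommutative G) (hn : Nat.card (Sylow 3 G) = 22)
    {g : G} (hg : g ^ 2 = 1) :
    {Q : Sylow 3 G | g • Q = Q}.ncard % 4 = 2 := by
  classical
  have : Finite (Sylow 3 G) := Nat.finite_of_card_ne_zero (by omega)
  have := Fintype.ofFinite (Sylow 3 G)
  let π : G →* Equiv.Perm (Sylow 3 G) := MulAction.toPermHom G (Sylow 3 G)
  have hsign : Equiv.Perm.sign (π g) = 1 := by
    rcases (MonoidHom.normal_ker (Equiv.Perm.sign.comp π)).eq_bot_or_eq_top with h | h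
    · exfalso
      exact hG ⟨⟨fun a b => (MonoidHom.ker_eq_bot_iff _).1 h (by rw [map_mul, map_mul, mul_comm])⟩⟩
    · exact MonoidHom.mem_ker.1 (h ▸ Subgroup.mem_top g : g ∈ (Equiv.Perm.sign.comp π).ker)
  have hsq : π g ^ 2 = 1 := by rw [← map_pow, hg, map_one]
  have hsum : (π g).cycleType.sum = 2 * (π g).cycleType.card := by
    conv_lhs => rw [Equiv.Perm.cycleType_of_pow_prime_eq_one hsq]
    rw [Multiset.sum_replicate, smul_eq_mul, mul_comm]
  have hsupp : (π g).cycleType.sum + {Q : Sylow 3 G | g • Q = Q}.ncard = 22 := by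
    rw [Equiv.Perm.sum_cycleType, ← hn, Nat.card_eq_fintype_card, ← Finset.card_univ,
      ← Finset.card_sdiff_add_card_eq_card (Finset.subset_univ ((π g).support)),
      add_comm (Finset.card (Finset.univ \ _))]
    congr 1
    rw [← Set.ncard_coe_finset]
    congr 1
    ext R
    simp [π]
  rw [Equiv.Perm.sign_of_cycleType, neg_one_pow_eq_one_iff_even (by decide), hsum, Nat.even_add] at hsign
  simp only [even_two_mul, true_iff, Nat.even_iff] at hsign
  omega

/-- The number of fixed points of a `q`-element is congruent to 22. -/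
theorem fix_modEq (hn : Nat.card (Sylow 3 G) = 22) {q : ℕ} [hq : Fact q.Prime] {w : G}
    (hw : orderOf w = q) : {Q : Sylow 3 G | w • Q = Q}.ncard % q = 22 % q := by
  have : Finite (Sylow 3 G) := Nat.finite_of_card_ne_zero (by omega)
  have hp : IsPGroup q (Subgroup.zpowers w) :=
    IsPGroup.of_card (n := 1) (by rw [Nat.card_zpowers, hw, pow_one])
  have h := hp.card_modEq_card_fixedPoints (Sylow 3 G)
  rw [hn] at h
  have he : {Q : Sylow 3 G | w • Q = Q} = fixedPoints (Subgroup.zpowers w) (Sylow 3 G) := by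
    ext Q
    rw [Set.mem_setOf_eq, Subgroup.sylow_mem_fixedPoints_iff, Subgroup.zpowers_le,
      Sylow.smul_eq_iff_mem_normalizer]
  rw [← Nat.card_coe_set_eq, he]
  exact h.symm

/-- The normalizer of a subgroup of order eleven. -/
theorem eleven_data [IsSimpleGroup G] (hG : ¬ IsMulCommutative G) (hn : Nat.card (Sylow 3 G) = 22)
    (hK : ∀ g : G, (∀ Q : Sylow 3 G, g • Q = Q) → g = 1) {m : ℕ} (hcard : Nat.card G = 22 * m)
    (hm11 : ¬ 11 ∣ m) (hprimes : ∀ q : ℕ, q.Prime → q ∣ m → q ≤ 7) (P : Sylow 3 G)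
    (hm : Nat.card ↥(Subgroup.normalizer ((P : Subgroup G) : Set G)) = m) :
    ∃ e : ℕ, 1 < e ∧ e ∣ 10 ∧ e * Nat.card (Sylow 11 G) = 2 * m ∧ Nat.card (Sylow 11 G) % 11 = 1 := by
  have : Fact (Nat.Prime 11) := ⟨by norm_num⟩
  have h2m : ¬ 11 ∣ 2 * m := fun hd => by
    rcases (Nat.Prime.dvd_mul (by norm_num)).1 hd with h | h
    · norm_num at h
    · exact hm11 h
  have hcard' : Nat.card G = 11 ^ 1 * (2 * m) := by rw [hcard]; ring
  obtain ⟨S⟩ : Nonempty (Sylow 11 G) := inferInstance
  have hS : Nat.card (S : Subgroup G) = 11 := by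
    rw [SimpleOrder.sylow_card_of_eq hcard' h2m S]; norm_num
  obtain ⟨e, he1, he10, hecard, h11C⟩ := SimpleOrder.exists_card_normalizer_eq hG S hS
  refine ⟨e, he1, he10, ?_, ?_⟩
  swap
  · exact Eq.trans (card_sylow_modEq_one 11 G) (Nat.mod_eq_of_lt (by norm_num))
  obtain ⟨y, hy⟩ := exists_prime_orderOf_dvd_card' 11 (G := (S : Subgroup G)) (dvd_of_eq hS.symm)
  have hyo : orderOf (y : G) = 11 := (Subgroup.orderOf_coe y).trans hy
  set C := Subgroup.centralizer ((S : Subgroup G) : Set G) with hC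
  have hfixy : ∀ Q : Sylow 3 G, (y : G) • Q ≠ Q := by
    intro Q hQ
    obtain ⟨g, rfl⟩ := MulAction.exists_smul_eq G P Q
    have hz : (g⁻¹ * y * g) • P = P := by
      rw [mul_smul, mul_smul, hQ, inv_smul_smul]
    rw [Sylow.smul_eq_iff_mem_normalizer] at hz
    have ho : orderOf (g⁻¹ * (y : G) * g) = 11 := by
      refine Eq.trans ?_ hyo
      simpa using (MulAut.conj g⁻¹).orderOf_eq (y : G)
    apply hm11
    rw [← hm, ← ho]
    exact Subgroup.orderOf_dvd_natCard _ hz
  have hCcard : Nat.card C = 11 := by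
    obtain ⟨c, hc⟩ := h11C
    by_contra hne
    have hc1 : c ≠ 1 := fun h => hne (by rw [hc, h, mul_one])
    obtain ⟨q, hq, hqc⟩ := Nat.exists_prime_and_dvd hc1
    have hCd : 11 * c ∣ 11 * (2 * m) := by
      rw [← hc, ← pow_one 11, ← hcard']
      simpa using C.card_subgroup_dvd_card
    have hc2m : c ∣ 2 * m := Nat.dvd_of_mul_dvd_mul_left (by norm_num) hCd
    have hq11 : q ≠ 11 := fun h => h2m ((h ▸ hqc).trans hc2m)
    have hq7 : q ≤ 7 := by
      rcases (Nat.Prime.dvd_mul hq).1 (hqc.trans hc2m) with h | h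
      · exact (Nat.le_of_dvd (by norm_num) h).trans (by norm_num)
      · exact hprimes q hq h
    have : Fact q.Prime := ⟨hq⟩
    obtain ⟨w, hw⟩ := exists_prime_orderOf_dvd_card' q (G := C) (hc ▸ dvd_mul_of_dvd_right hqc 11)
    have hwo : orderOf (w : G) = q := (Subgroup.orderOf_coe w).trans hw
    have hw1 : (w : G) ≠ 1 := fun h => hq.ne_one (by rw [← hwo, h, orderOf_one])
    set s := {Q : Sylow 3 G | (w : G) • Q = Q} with hs
    have hmodq := fix_modEq hn hwo
    rw [← hs] at hmodq
    have h11 : s.ncard % 11 = 0 := by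
      have hpy : IsPGroup 11 (Subgroup.zpowers (y : G)) :=
        IsPGroup.of_card (n := 1) (by rw [Nat.card_zpowers, hyo, pow_one])
      have hinv : ∀ u ∈ Subgroup.zpowers (y : G), ∀ Q ∈ s, u • Q ∈ s := by
        intro u hu Q hQ
        have hcw : u * (w : G) = (w : G) * u :=
          Subgroup.mem_centralizer_iff.1 w.2 u ((Subgroup.zpowers_le.2 y.2) hu)
        show (w : G) • u • Q = u • Q
        rw [← mul_smul, ← hcw, mul_smul]
        exact congrArg (u • ·) hQ
      let S' : SubMulAction (Subgroup.zpowers (y : G)) (Sylow 3 G) :=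
        ⟨s, fun u Q hQ => hinv u u.2 Q hQ⟩
      have h := hpy.card_modEq_card_fixedPoints S'
      have h0 : Nat.card (fixedPoints (Subgroup.zpowers (y : G)) S') = 0 := by
        have : IsEmpty (fixedPoints (Subgroup.zpowers (y : G)) S') :=
          ⟨fun Q => hfixy Q.1.1 (congrArg Subtype.val (Q.2 ⟨(y : G), Subgroup.mem_zpowers _⟩))⟩
        exact Nat.card_of_isEmpty
      rw [h0] at h
      rw [← Nat.card_coe_set_eq]
      exact h
    have hle : s.ncard ≤ 22 := by
      rw [← hn, ← Set.ncard_univ]; exact Set.ncard_le_ncard (Set.subset_univ _) (Set.toFinite _)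
    have h22 : s.ncard ≠ 22 := fun h22 => hw1 (hK _ fun Q => by
      have hs' : s = Set.univ := Set.eq_of_subset_of_ncard_le (Set.subset_univ _)
        (by rw [Set.ncard_univ, hn, h22]) (Set.toFinite _)
      exact (hs'.symm ▸ Set.mem_univ Q : Q ∈ s))
    have hcases : s.ncard = 0 ∨ s.ncard = 11 := by omega
    have hq' : q = 2 ∨ q = 3 ∨ q = 5 ∨ q = 7 := by
      have := hq.two_le
      interval_cases q <;> norm_num at *
    rcases hq' with rfl | rfl | rfl | rfl
    · have hsq : (w : G) ^ 2 = 1 := by rw [← hwo]; exact pow_orderOf_eq_one _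
      have := fix_parity hG hn hsq
      rw [← hs] at this
      omega
    · obtain ⟨R, hR⟩ := (IsPGroup.of_card (G := Subgroup.zpowers (w : G)) (p := 3) (n := 1)
        (by rw [Nat.card_zpowers, hwo, pow_one])).exists_le_sylow
      have hR' := hR (Subgroup.mem_zpowers (w : G))
      have h3 : s.ncard % 3 = 1 := by
        refine modEq_of_invariant R s (smul_self_of_mem hR') fun u hu Q hQ => ?_
        show (w : G) • u • Q = u • Q
        rw [← mul_smul, ← (elem_abelian hn hK R hu hR').2.eq, mul_smul]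
        exact congrArg (u • ·) hQ
      omega
    · omega
    · omega
  have hcS : Nat.card (Sylow 11 G) = (Subgroup.normalizer ((S : Subgroup G) : Set G)).index :=
    S.card_eq_index_normalizer
  have h := Subgroup.card_mul_index (Subgroup.normalizer ((S : Subgroup G) : Set G))
  rw [← hcS, ← hecard, hCcard, hcard] at h
  apply Nat.eq_of_mul_eq_mul_left (show 0 < 11 by norm_num)
  rw [show 11 * (2 * m) = 22 * m by ring, ← h]
  ring

theorem card_G_eq (hn : Nat.card (Sylow 3 G) = 22) (P : Sylow 3 G) :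
    Nat.card G = 22 * Nat.card ↥(Subgroup.normalizer ((P : Subgroup G) : Set G)) := by
  rw [← hn, P.card_eq_index_normalizer, mul_comm]
  exact (Subgroup.card_mul_index _).symm

/-- The case of Sylow subgroups of order three. -/
theorem case_three [IsSimpleGroup G] (hG : ¬ IsMulCommutative G) (hn : Nat.card (Sylow 3 G) = 22)
    (hK : ∀ g : G, (∀ Q : Sylow 3 G, g • Q = Q) → g = 1) (P : Sylow 3 G)
    (hP : Nat.card (P : Subgroup G) = 3) : False := by
  classical
  have : Finite (Sylow 3 G) := Nat.finite_of_card_ne_zero (by omega)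
  have := Fintype.ofFinite (Sylow 3 G)
  obtain ⟨x, hx⟩ := exists_prime_orderOf_dvd_card' 3 (G := (P : Subgroup G)) (dvd_of_eq hP.symm)
  have hxo : orderOf (x : G) = 3 := (Subgroup.orderOf_coe x).trans hx
  have hPx : Subgroup.zpowers (x : G) = (P : Subgroup G) :=
    Subgroup.eq_of_le_of_card_ge (Subgroup.zpowers_le.2 x.2) (by rw [Nat.card_zpowers, hxo, hP])
  have honly : ∀ Q : Sylow 3 G, (x : G) • Q = Q → Q = P := by
    intro Q hQ
    have := (smul_eq_iff_mem ⟨P, x.2⟩ Q).1 hQ
    exact Sylow.ext (P.3 Q.2 (hPx ▸ Subgroup.zpowers_le.2 this))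
  set N := Subgroup.normalizer ((P : Subgroup G) : Set G) with hN
  set C := Subgroup.centralizer ((P : Subgroup G) : Set G) with hC
  obtain ⟨e3, he31, he32, he3card, h3C⟩ := SimpleOrder.exists_card_normalizer_eq hG P hP
  have he3 : e3 = 2 := by
    have := Nat.le_of_dvd (by norm_num) he32
    omega
  subst he3
  obtain ⟨k, hk⟩ := h3C
  have hCN : C ≤ N := Subgroup.centralizer_le_normalizer _
  have hk3 : ¬ 3 ∣ k := by
    intro hd
    have h9 : 3 ^ 2 ∣ Nat.card G := by
      refine dvd_trans ?_ C.card_subgroup_dvd_card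
      rw [hk, sq]; exact mul_dvd_mul_left 3 hd
    have h := P.pow_dvd_card_of_pow_dvd_card h9
    rw [hP] at h
    norm_num at h
  -- `C` embeds in the centralizer of a product of seven 3-cycles
  let π : G →* Equiv.Perm (Sylow 3 G) := MulAction.toPermHom G (Sylow 3 G)
  have hπinj : Function.Injective π := (injective_iff_map_eq_one π).2 fun g hg => hK g fun Q => by
    have := Equiv.ext_iff.1 hg Q
    exact this
  have hct : (π (x : G)).cycleType = Multiset.replicate 7 3 := by
    have h3 : π (x : G) ^ 3 = 1 := by rw [← map_pow, orderOf_dvd_iff_pow_eq_one.1 hxo.dvd, map_one]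
    have hr := Equiv.Perm.cycleType_of_pow_prime_eq_one h3
    have hsupp : (π (x : G)).support = Finset.univ.erase P := by
      ext Q
      rw [Equiv.Perm.mem_support, Finset.mem_erase]
      refine ⟨fun h => ⟨fun hQ => h (by rw [hQ]; exact smul_self_of_mem x.2), Finset.mem_univ _⟩,
        fun h hQ => h.1 (honly Q hQ)⟩
    have hs : (π (x : G)).cycleType.sum = 21 := by
      rw [Equiv.Perm.sum_cycleType, hsupp, Finset.card_erase_of_mem (Finset.mem_univ _), Finset.card_univ,
        ← Nat.card_eq_fintype_card, hn]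
    rw [hr, Multiset.sum_replicate, smul_eq_mul] at hs
    rw [hr, show (π (x : G)).cycleType.card = 7 by omega]
  have hkdvd : k ∣ 560 := by
    have hle : C.map π ≤ Subgroup.centralizer {π (x : G)} := by
      rintro _ ⟨c, hc, rfl⟩
      rw [Subgroup.mem_centralizer_singleton_iff, ← map_mul, ← map_mul, Subgroup.mem_centralizer_iff.1 hc _ x.2]
    have h := Subgroup.card_dvd_of_le hle
    rw [Subgroup.card_map_of_injective hπinj, hk, Equiv.Perm.nat_card_centralizer, hct,
      ← Nat.card_eq_fintype_card, hn] at h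
    have h' : k ∣ 3 ^ 9 * 560 := by
      refine (Dvd.intro_left 3 rfl).trans (h.trans (dvd_of_eq ?_))
      decide
    exact ((((Nat.prime_three.coprime_iff_not_dvd).2 hk3)).symm.pow_right 9).dvd_of_dvd_mul_left h'
  have hm : Nat.card N = 6 * k := by rw [← he3card, hk]; ring
  have hkle : k ≤ 560 := Nat.le_of_dvd (by norm_num) hkdvd
  have hk0 : 0 < k := Nat.pos_of_ne_zero fun h => by simp [h] at hkdvd
  have hprimes : ∀ q : ℕ, q.Prime → q ∣ 6 * k → q ≤ 7 := by
    intro q hq hd
    have hd' : q ∣ 2 ^ 5 * (3 * (5 * 7)) := hd.trans ((mul_dvd_mul_left 6 hkdvd).trans (by norm_num))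
    rcases hq.dvd_mul.1 hd' with h | h
    · exact (Nat.le_of_dvd (by norm_num) (hq.dvd_of_dvd_pow h)).trans (by norm_num)
    · rcases hq.dvd_mul.1 h with h | h
      · exact (Nat.le_of_dvd (by norm_num) h).trans (by norm_num)
      · rcases hq.dvd_mul.1 h with h | h <;> exact (Nat.le_of_dvd (by norm_num) h).trans (by norm_num)
  have h11m : ¬ 11 ∣ 6 * k := fun hd => by
    have := hprimes 11 (by norm_num) hd
    omega
  obtain ⟨e, he1, he10, hen, hmod⟩ := eleven_data hG hn hK
    (by rw [card_G_eq hn P, ← hN, hm]) h11m hprimes P hm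
  -- no element of order seven
  have h7 : ¬ 7 ∣ k := by
    intro h7k
    have : Fact (Nat.Prime 7) := ⟨by norm_num⟩
    obtain ⟨k', hk'⟩ := h7k
    have h7k' : ¬ 7 ∣ 3 * k' := fun hd => by
      rcases (Nat.Prime.dvd_mul (by norm_num)).1 hd with h | h
      · norm_num at h
      · have : 7 * 7 ∣ 560 := (mul_dvd_mul_left 7 h).trans (hk' ▸ hkdvd)
        norm_num at this
    obtain ⟨S⟩ : Nonempty (Sylow 7 C) := inferInstance
    have hcardC7 : Nat.card C = 7 ^ 1 * (3 * k') := by rw [hk, hk']; ring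
    have hScard : Nat.card (S : Subgroup C) = 7 := by
      rw [SimpleOrder.sylow_card_of_eq hcardC7 h7k' S]; norm_num
    have hn7 : Nat.card (Sylow 7 C) ∣ 3 * k' := SimpleOrder.card_sylow_dvd hcardC7 h7k'
    have hk'80 : k' ∣ 80 := by
      rw [hk', show (560 : ℕ) = 7 * 80 from rfl] at hkdvd
      exact Nat.dvd_of_mul_dvd_mul_left (by norm_num) hkdvd
    have hk'2 : 1 < k' := by
      by_contra hle'
      obtain rfl : k' = 1 := by omega
      subst hk'
      rw [show 2 * (6 * (7 * 1)) = 84 from rfl] at hen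
      have hed : e ≤ 10 := Nat.le_of_dvd (by norm_num) he10
      interval_cases e <;> omega
    have hk'8 : k' ≠ 8 := by
      rintro rfl
      subst hk'
      rw [show 2 * (6 * (7 * 8)) = 672 from rfl] at hen
      have hed : e ≤ 10 := Nat.le_of_dvd (by norm_num) he10
      interval_cases e <;> omega
    set Nc := Subgroup.normalizer ((S : Subgroup C) : Set C)
    have hNc : Nat.card Nc * Nat.card (Sylow 7 C) = 21 * k' := by
      rw [S.card_eq_index_normalizer, ← S.coe_coe, Subgroup.card_mul_index, hcardC7]; ring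
    have hn7k : Nat.card (Sylow 7 C) ∣ k' := by
      have hxC : (x : G) ∈ C := fun b hb => (elem_abelian hn hK P hb x.2).2.eq
      have hxN : (⟨(x : G), hxC⟩ : C) ∈ Nc := by
        rw [Subgroup.mem_normalizer_iff]
        intro y
        have hcm : (⟨(x : G), hxC⟩ : C) * y * (⟨(x : G), hxC⟩ : C)⁻¹ = y := by
          rw [mul_inv_eq_iff_eq_mul]
          exact Subtype.ext (Subgroup.mem_centralizer_iff.1 y.2 _ x.2)
        rw [hcm]
      obtain ⟨c, hc⟩ : 3 ∣ Nat.card Nc := by
        have := Subgroup.orderOf_dvd_natCard _ hxN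
        rwa [← Subgroup.orderOf_coe, hxo] at this
      refine (Nat.Coprime.dvd_of_dvd_mul_left ?_ (Dvd.intro_left c ?_ : Nat.card (Sylow 7 C) ∣ 7 * k'))
      · have hmod7 : Nat.card (Sylow 7 C) % 7 = 1 :=
          Eq.trans (card_sylow_modEq_one 7 C) (Nat.mod_eq_of_lt (by norm_num))
        exact ((Nat.Prime.coprime_iff_not_dvd (by norm_num)).2 fun h => by omega).symm
      · apply Nat.eq_of_mul_eq_mul_left (show 0 < 3 by norm_num)
        rw [← mul_assoc, ← hc, hNc]; ring
    -- a prime divisor 2 or 5 of the normalizer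
    obtain ⟨q, hq25, hqN⟩ : ∃ q, (q = 2 ∨ q = 5) ∧ q ∣ Nat.card Nc := by
      by_contra hno
      push Not at hno
      have h2 := hno 2 (Or.inl rfl)
      have h5 := hno 5 (Or.inr rfl)
      have hmod7 : Nat.card (Sylow 7 C) % 7 = 1 :=
        Eq.trans (card_sylow_modEq_one 7 C) (Nat.mod_eq_of_lt (by norm_num))
      have hn7' : Nat.card (Sylow 7 C) ∈ (3 * k').divisors :=
        Nat.mem_divisors.2 ⟨hn7, by omega⟩
      have hk'mem : k' ∈ Nat.divisors 80 := Nat.mem_divisors.2 ⟨hk'80, by norm_num⟩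
      rw [show Nat.divisors 80 = {1, 2, 4, 5, 8, 10, 16, 20, 40, 80} from rfl] at hk'mem
      simp only [Finset.mem_insert, Finset.mem_singleton] at hk'mem
      generalize Nat.card (Sylow 7 C) = d at *
      generalize Nat.card Nc = N' at *
      have hd : d ∈ (Finset.range 241).filter (fun d => k' % d = 0 ∧ d % 7 = 1) := by
        rw [Finset.mem_filter, Finset.mem_range]
        refine ⟨?_, Nat.mod_eq_zero_of_dvd hn7k, hmod7⟩
        have := Nat.le_of_dvd (by omega) hn7k
        have := Nat.le_of_dvd (by norm_num) hk'80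
        omega
      have key : ∀ k' ∈ ([2, 4, 5, 10, 16, 20, 40, 80] : List ℕ),
          ∀ d ∈ (Finset.range 241).filter (fun d => k' % d = 0 ∧ d % 7 = 1),
            (21 * k' / d) % 2 = 0 ∨ (21 * k' / d) % 5 = 0 := by decide +kernel
      have hkl : k' ∈ ([2, 4, 5, 10, 16, 20, 40, 80] : List ℕ) := by
        simp only [List.mem_cons, List.not_mem_nil, or_false]; omega
      have hdpos : 0 < d := by
        by_contra h0
        have : d = 0 := by omega
        subst this; omega
      have hN' : 21 * k' / d = N' := by rw [← hNc, Nat.mul_div_cancel _ hdpos]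
      rcases key k' hkl d hd with h | h <;> rw [hN'] at h
      · exact h2 (Nat.dvd_of_mod_eq_zero h)
      · exact h5 (Nat.dvd_of_mod_eq_zero h)
    have : Fact q.Prime := ⟨by rcases hq25 with rfl | rfl <;> norm_num⟩
    obtain ⟨t, ht⟩ := exists_prime_orderOf_dvd_card' q hqN
    obtain ⟨z, hz⟩ := exists_prime_orderOf_dvd_card' 7 (G := (S : Subgroup C)) (dvd_of_eq hScard.symm)
    set w : G := ((t : C) : G) with hwdef
    have hwo : orderOf w = q := by rw [hwdef, Subgroup.orderOf_coe, Subgroup.orderOf_coe, ht]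
    set zz : G := ((z : C) : G) with hzdef
    have hzo : orderOf zz = 7 := by rw [hzdef, Subgroup.orderOf_coe, Subgroup.orderOf_coe, hz]
    have hzC : zz ∈ C := (z : C).2
    have hwC : w ∈ C := (t : C).2
    have hPfix : ∀ c ∈ C, c • P = P := fun c hc => by
      rw [Sylow.smul_eq_iff_mem_normalizer]; exact hCN hc
    -- the group generated by `x` and `zz` is transitive on the other points
    have hxz : Commute (x : G) zz := Subgroup.mem_centralizer_iff.1 hzC _ x.2
    have hzfix : ∀ Q : Sylow 3 G, zz • Q = Q → Q = P := by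
      intro Q hQ
      by_contra hne
      set s := {R : Sylow 3 G | zz • R = R} with hs
      have h1 : s.ncard % 7 = 22 % 7 := fix_modEq hn hzo
      have h3 : s.ncard % 3 = 1 := by
        refine modEq_of_invariant P s (hPfix zz hzC) fun u hu R hR => ?_
        show zz • u • R = u • R
        rw [← mul_smul, ← Subgroup.mem_centralizer_iff.1 hzC u hu, mul_smul]
        exact congrArg (u • ·) hR
      have h2 : 2 ≤ s.ncard := by
        rw [← Set.ncard_pair (Ne.symm hne)]
        refine Set.ncard_le_ncard ?_ (Set.toFinite _)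
        rintro R (rfl | rfl)
        exacts [hPfix zz hzC, hQ]
      have hle : s.ncard ≤ 22 := by
        rw [← hn, ← Set.ncard_univ]; exact Set.ncard_le_ncard (Set.subset_univ _) (Set.toFinite _)
      have h22 : s.ncard = 22 := by omega
      have hs' : s = Set.univ := Set.eq_of_subset_of_ncard_le (Set.subset_univ _)
        (by rw [Set.ncard_univ, hn, h22]) (Set.toFinite _)
      have : zz = 1 := hK zz fun R => (hs'.symm ▸ Set.mem_univ R : R ∈ s)
      rw [this, orderOf_one] at hzo
      omega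
    have hA21 : orderOf ((x : G) * zz) = 21 := by
      rw [hxz.orderOf_mul_eq_mul_orderOf_of_coprime (by rw [hxo, hzo]; norm_num), hxo, hzo]
    set a := (x : G) * zz with ha
    have haC : ∀ R : Sylow 3 G, R ≠ P → (orbit (Subgroup.zpowers a) R).ncard = 21 := by
      intro R hR
      have hd : (orbit (Subgroup.zpowers a) R).ncard ∣ 21 := by
        rw [← MulAction.index_stabilizer, ← hA21, ← Nat.card_zpowers]
        exact Subgroup.index_dvd_card _
      have hx3 : a ^ 7 = (x : G) ^ 7 := by
        rw [ha, hxz.mul_pow]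
        conv_lhs => rw [show zz ^ 7 = 1 from orderOf_dvd_iff_pow_eq_one.1 hzo.dvd, mul_one]
      have hz7 : a ^ 3 = zz ^ 3 := by
        rw [ha, hxz.mul_pow]
        conv_lhs => rw [show (x : G) ^ 3 = 1 from orderOf_dvd_iff_pow_eq_one.1 hxo.dvd, one_mul]
      have hper : ∀ n : ℕ, (orbit (Subgroup.zpowers a) R).ncard = n → a ^ n • R = R := by
        intro n hn'
        have hnor : (MulAction.stabilizer (Subgroup.zpowers a) R).Normal := inferInstance
        have h := Subgroup.pow_index_mem (MulAction.stabilizer (Subgroup.zpowers a) R)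
          ⟨a, Subgroup.mem_zpowers a⟩
        rw [MulAction.index_stabilizer, hn'] at h
        exact h
      have hmem : (orbit (Subgroup.zpowers a) R).ncard ∈ Nat.divisors 21 := Nat.mem_divisors.2 ⟨hd, by norm_num⟩
      rw [show Nat.divisors 21 = {1, 3, 7, 21} from rfl] at hmem
      simp only [Finset.mem_insert, Finset.mem_singleton] at hmem
      rcases hmem with h | h | h | h
      · exfalso
        have h1 := hper 1 h
        rw [pow_one] at h1
        have h3 : a ^ 3 • R = R := by
          rw [pow_succ, pow_succ, pow_one, mul_smul, mul_smul, h1, h1, h1]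
        rw [hz7] at h3
        have : zz • R = R := by
          have he : zz = (zz ^ 3) ^ 5 := by
            rw [← pow_mul, show (3 * 5 : ℕ) = 1 + 7 * 2 from rfl, pow_add, pow_one, pow_mul,
              show zz ^ 7 = 1 from orderOf_dvd_iff_pow_eq_one.1 hzo.dvd, one_pow, mul_one]
          have hmem : (zz ^ 3) ^ 5 ∈ MulAction.stabilizer G R := pow_mem (show zz ^ 3 ∈ MulAction.stabilizer G R from h3) 5
          rw [← he] at hmem
          exact hmem
        exact hR (hzfix R this)
      · exfalso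
        have h3 := hper 3 h
        rw [hz7] at h3
        have : zz • R = R := by
          have he : zz = (zz ^ 3) ^ 5 := by
            rw [← pow_mul, show (3 * 5 : ℕ) = 1 + 7 * 2 from rfl, pow_add, pow_one, pow_mul,
              show zz ^ 7 = 1 from orderOf_dvd_iff_pow_eq_one.1 hzo.dvd, one_pow, mul_one]
          have hmem : (zz ^ 3) ^ 5 ∈ MulAction.stabilizer G R := pow_mem (show zz ^ 3 ∈ MulAction.stabilizer G R from h3) 5
          rw [← he] at hmem
          exact hmem
        exact hR (hzfix R this)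
      · exfalso
        have h3 := hper 7 h
        rw [hx3] at h3
        have he : (x : G) ^ 7 = (x : G) := by
          rw [show (7 : ℕ) = 3 * 2 + 1 from rfl, pow_succ, pow_mul,
            show (x : G) ^ 3 = 1 from orderOf_dvd_iff_pow_eq_one.1 hxo.dvd, one_pow, one_mul]
        rw [he] at h3
        exact hR (honly R h3)
      · exact h
    have htrans : ∀ R R' : Sylow 3 G, R ≠ P → R' ≠ P → ∃ u ∈ Subgroup.zpowers a, u • R = R' := by
      intro R R' hR hR'
      have hsub : orbit (Subgroup.zpowers a) R ⊆ {Q | Q ≠ P} := by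
        rintro _ ⟨u, rfl⟩ (he : (u : G) • R = P)
        apply hR
        have hau : (u : G) • P = P := by
          apply hPfix
          exact (Subgroup.zpowers_le.2 (C.mul_mem (show (x : G) ∈ C from fun b hb => by
            have := (elem_abelian hn hK P hb x.2).2.eq; exact this) hzC)) u.2
        exact (MulAction.injective (u : G)) (he.trans hau.symm)
      have hc : {Q : Sylow 3 G | Q ≠ P}.ncard = 21 := by
        rw [show {Q : Sylow 3 G | Q ≠ P} = ({P} : Set (Sylow 3 G))ᶜ from rfl, Set.ncard_compl,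
          Set.ncard_singleton, hn]
      have he := Set.eq_of_subset_of_ncard_le hsub (by rw [hc, haC R hR]) (Set.toFinite _)
      obtain ⟨u, hu⟩ : R' ∈ orbit (Subgroup.zpowers a) R := by rw [he]; exact hR'
      exact ⟨u, u.2, hu⟩
    -- the fixed points of `w`
    set s := {R : Sylow 3 G | w • R = R} with hs
    have hwq : s.ncard % q = 22 % q := fix_modEq hn hwo
    have h3 : s.ncard % 3 = 1 := by
      refine modEq_of_invariant P s (hPfix w hwC) fun u hu R hR => ?_
      show w • u • R = u • R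
      rw [← mul_smul, ← Subgroup.mem_centralizer_iff.1 hwC u hu, mul_smul]
      exact congrArg (u • ·) hR
    obtain ⟨R₀, hR₀, hR₀P⟩ : ∃ R₀ ∈ s, R₀ ≠ P := by
      by_contra hno
      push Not at hno
      have : s = {P} := by
        ext R
        exact ⟨fun hR => hno R hR, fun hR => hR ▸ hPfix w hwC⟩
      rw [this, Set.ncard_singleton] at hwq
      rcases hq25 with rfl | rfl <;> omega
    have hznorm : ∀ j : ℕ, w * zz ^ j * w⁻¹ ∈ Subgroup.zpowers zz := by
      intro j
      have h := (Subgroup.mem_normalizer_iff.1 t.2 ((z : C) ^ j)).1 (Subgroup.pow_mem _ z.2 j)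
      obtain ⟨i, hi⟩ : (t : C) * (z : C) ^ j * (t : C)⁻¹ ∈ Subgroup.zpowers (z : C) := by
        have : (S : Subgroup C) = Subgroup.zpowers (z : C) :=
          (Subgroup.eq_of_le_of_card_ge (Subgroup.zpowers_le.2 z.2)
            (by rw [Nat.card_zpowers, Subgroup.orderOf_coe, hz, hScard])).symm
        rw [← this]; exact h
      refine ⟨i, ?_⟩
      have := congrArg Subtype.val hi
      simpa [hwdef, hzdef] using this
    by_cases hcz : w * zz * w⁻¹ = zz
    · -- `w` commutes with `a`
      have hwa : w * a = a * w := by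
        rw [ha]
        have h1 : w * (x : G) = (x : G) * w := (Subgroup.mem_centralizer_iff.1 hwC _ x.2).symm
        calc w * ((x : G) * zz) = (w * (x : G)) * zz := by group
          _ = (x : G) * (w * zz) := by rw [h1]; group
          _ = (x : G) * (zz * w) := by rw [mul_inv_eq_iff_eq_mul.1 hcz]
          _ = _ := by group
      have hw1 : w = 1 := by
        refine hK w fun R => ?_
        by_cases hR : R = P
        · rw [hR]; exact hPfix w hwC
        obtain ⟨u, hu, rfl⟩ := htrans R₀ R hR₀P hR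
        obtain ⟨i, rfl⟩ := hu
        have := (Commute.zpow_right (show Commute w a from hwa) i).eq
        rw [← mul_smul, this, mul_smul]
        exact congrArg (a ^ i • ·) hR₀
      rw [hw1, orderOf_one] at hwo
      rcases hq25 with rfl | rfl <;> omega
    · -- fixed points come from the centralizer of `w` in the group generated by `a`
      have hfix : s ⊆ insert P (orbit (P : Subgroup G) R₀) := by
        intro R hR
        by_cases hRP : R = P
        · exact Or.inl hRP
        right
        obtain ⟨u, hu, rfl⟩ := htrans R₀ R hR₀P hRP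
        obtain ⟨i, hi⟩ := (mem_powers_iff_mem_zpowers (x := a)).2 hu
        have hu' : u = (x : G) ^ i * zz ^ i := by rw [← hxz.mul_pow]; exact hi.symm
        refine ⟨⟨(x : G) ^ i, Subgroup.pow_mem _ x.2 i⟩, ?_⟩
        show (x : G) ^ i • R₀ = u • R₀
        rw [hu', mul_smul]
        congr 1
        -- `zz ^ i` must be trivial
        have h1 : (w * zz ^ i * w⁻¹) • R₀ = zz ^ i • R₀ := by
          have hwR : w • (u • R₀) = u • R₀ := hR
          rw [hu', mul_smul] at hwR
          have hcx : w * (x : G) ^ i = (x : G) ^ i * w :=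
            (Commute.pow_right (Subgroup.mem_centralizer_iff.1 hwC _ x.2).symm i)
          rw [← mul_smul w, hcx, mul_smul] at hwR
          have hwR' := MulAction.injective ((x : G) ^ i) hwR
          have hw' : w⁻¹ • R₀ = R₀ := inv_smul_eq_iff.2 hR₀.symm
          rw [mul_smul, mul_smul, hw']
          exact hwR'
        have h2 : (zz ^ i)⁻¹ * (w * zz ^ i * w⁻¹) = 1 := by
          by_contra hne
          have hmem : (zz ^ i)⁻¹ * (w * zz ^ i * w⁻¹) ∈ Subgroup.zpowers zz :=
            Subgroup.mul_mem _ (Subgroup.inv_mem _ (Subgroup.pow_mem _ (Subgroup.mem_zpowers zz) i)) (hznorm i)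
          have hz' : zz ∈ Subgroup.zpowers ((zz ^ i)⁻¹ * (w * zz ^ i * w⁻¹)) := by
            have he : Subgroup.zpowers ((zz ^ i)⁻¹ * (w * zz ^ i * w⁻¹)) = Subgroup.zpowers zz := by
              refine Subgroup.eq_of_le_of_card_ge (Subgroup.zpowers_le.2 hmem) ?_
              rw [Nat.card_zpowers, Nat.card_zpowers, hzo]
              have hd : orderOf ((zz ^ i)⁻¹ * (w * zz ^ i * w⁻¹)) ∣ 7 := by
                have h := Subgroup.orderOf_dvd_natCard _ hmem
                rwa [Nat.card_zpowers, hzo] at h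
              rcases (Nat.Prime.eq_one_or_self_of_dvd (by norm_num) _ hd) with h | h
              · exact absurd (orderOf_eq_one_iff.1 h) hne
              · exact h.ge
            rw [he]; exact Subgroup.mem_zpowers zz
          have hst : Subgroup.zpowers ((zz ^ i)⁻¹ * (w * zz ^ i * w⁻¹)) ≤ MulAction.stabilizer G R₀ := by
            rw [Subgroup.zpowers_le, MulAction.mem_stabilizer_iff, mul_smul, h1, inv_smul_smul]
          exact hR₀P (hzfix R₀ (hst hz'))
        by_contra hne
        apply hcz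
        have h3' : w * zz ^ i * w⁻¹ = zz ^ i := (inv_mul_eq_one.1 h2).symm
        have hzi : zz ^ i ≠ 1 := fun h => hne (by rw [h, one_smul])
        obtain ⟨j, hj⟩ : zz ∈ Subgroup.zpowers (zz ^ i) := by
          have he : Subgroup.zpowers (zz ^ i) = Subgroup.zpowers zz := by
            refine Subgroup.eq_of_le_of_card_ge (Subgroup.zpowers_le.2 (Subgroup.pow_mem _ (Subgroup.mem_zpowers zz) i)) ?_
            rw [Nat.card_zpowers, Nat.card_zpowers, hzo]
            have hd : orderOf (zz ^ i) ∣ 7 := by rw [← hzo]; exact orderOf_pow_dvd i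
            rcases (Nat.Prime.eq_one_or_self_of_dvd (by norm_num) _ hd) with h | h
            · exact absurd (orderOf_eq_one_iff.1 h) hzi
            · exact h.ge
          rw [he]; exact Subgroup.mem_zpowers zz
        rw [← hj]
        have := map_zpow (MulAut.conj w) (zz ^ i) j
        simp only [MulAut.conj_apply] at this
        rw [this, h3']
      have h4 := Set.ncard_le_ncard hfix (Set.toFinite _)
      have hR₀i : idx P R₀ = 3 := by
        rcases idx_cases hn hR₀P with h | h
        · exact h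
        · exfalso
          have := card_inf_mul_idx P R₀
          rw [h, hP] at this
          omega
      have h5 := Set.ncard_insert_le P (orbit (P : Subgroup G) R₀)
      rw [orbit_ncard, hR₀i] at h5
      have h2 : 2 ≤ s.ncard := by
        rw [← Set.ncard_pair hR₀P]
        refine Set.ncard_le_ncard ?_ (Set.toFinite _)
        rintro R (rfl | rfl)
        exacts [hR₀, hPfix w hwC]
      rcases hq25 with rfl | rfl
      · have hsq : w ^ 2 = 1 := by rw [← hwo]; exact pow_orderOf_eq_one _
        have := fix_parity hG hn hsq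
        rw [← hs] at this
        omega
      · omega
  have hcases : k = 2 ∨ k = 5 ∨ k = 10 := by
    have he : e = 2 ∨ e = 5 ∨ e = 10 := by
      have hle : e ≤ 10 := Nat.le_of_dvd (by norm_num) he10
      interval_cases e <;> norm_num at *
    have key : ∀ k ∈ (Finset.range 561).filter (fun k => 560 % k = 0 ∧ k % 7 ≠ 0),
        ∀ e ∈ ([2, 5, 10] : List ℕ), k % 11 = e → 12 * k % e = 0 → k = 2 ∨ k = 5 ∨ k = 10 := by
      decide +kernel
    refine key k ?_ e (by simp only [List.mem_cons, List.not_mem_nil, or_false]; omega) ?_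
      (Nat.mod_eq_zero_of_dvd (Dvd.intro _ (by rw [hen]; ring)))
    · rw [Finset.mem_filter, Finset.mem_range]
      exact ⟨by omega, Nat.mod_eq_zero_of_dvd hkdvd, fun h => h7 (Nat.dvd_of_mod_eq_zero h)⟩
    · have hk11 : k % 11 = e % 11 := by
        have h1 : (e * Nat.card (Sylow 11 G)) % 11 = e % 11 := by
          rw [Nat.mul_mod, hmod, mul_one, Nat.mod_mod]
        rw [hen, show 2 * (6 * k) = 12 * k by ring, Nat.mul_mod] at h1
        simpa using h1
      rw [hk11]
      exact Nat.mod_eq_of_lt (by omega)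
  by_cases hk5 : k = 2
  · subst hk5
    exact SimpleOrderCheck.card_ne_of_kill (n := 22 * (6 * 2)) hG [3, 11] 11 1 (by decide +kernel)
      ((card_G_eq hn P).trans (by rw [← hN, hm]))
  -- an element of order five centralizing `x`, acting on twelve Sylow 11-subgroups
  have : Fact (Nat.Prime 5) := ⟨by norm_num⟩
  have : Fact (Nat.Prime 11) := ⟨by norm_num⟩
  have hn11 : Nat.card (Sylow 11 G) = 12 := by
    have he : e = 2 ∨ e = 5 ∨ e = 10 := by
      have hle : e ≤ 10 := Nat.le_of_dvd (by norm_num) he10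
      interval_cases e <;> norm_num at *
    rcases he with rfl | rfl | rfl <;> rcases hcases with rfl | rfl | rfl <;> omega
  obtain ⟨w, hw⟩ := exists_prime_orderOf_dvd_card' 5 (G := C) (by
    rw [hk]; rcases hcases with rfl | rfl | rfl <;> norm_num at *)
  have hwo : orderOf (w : G) = 5 := (Subgroup.orderOf_coe w).trans hw
  set s := {S : Sylow 11 G | (w : G) • S = S} with hs
  have : Finite (Sylow 11 G) := Nat.finite_of_card_ne_zero (by omega)
  have h5 : s.ncard % 5 = 2 := by
    have hp : IsPGroup 5 (Subgroup.zpowers (w : G)) :=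
      IsPGroup.of_card (n := 1) (by rw [Nat.card_zpowers, hwo, pow_one])
    have h := hp.card_modEq_card_fixedPoints (Sylow 11 G)
    rw [hn11] at h
    have he : s = fixedPoints (Subgroup.zpowers (w : G)) (Sylow 11 G) := by
      ext S
      rw [hs, Set.mem_setOf_eq, Subgroup.sylow_mem_fixedPoints_iff, Subgroup.zpowers_le,
        Sylow.smul_eq_iff_mem_normalizer]
    rw [← Nat.card_coe_set_eq, he]
    exact h.symm
  have h3 : s.ncard % 3 = 0 := by
    have hpx : IsPGroup 3 (P : Subgroup G) := P.2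
    let S' : SubMulAction (P : Subgroup G) (Sylow 11 G) :=
      ⟨s, fun u S hS => by
        show (w : G) • (u : G) • S = (u : G) • S
        rw [← mul_smul, ← Subgroup.mem_centralizer_iff.1 w.2 u u.2, mul_smul]
        exact congrArg ((u : G) • ·) hS⟩
    have h := hpx.card_modEq_card_fixedPoints S'
    have h0 : Nat.card (fixedPoints (P : Subgroup G) S') = 0 := by
      have : IsEmpty (fixedPoints (P : Subgroup G) S') := ⟨fun S => by
        have hS : (x : G) • S.1.1 = S.1.1 := congrArg Subtype.val (S.2 x)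
        rw [Sylow.smul_eq_iff_mem_normalizer] at hS
        have hd : 3 ∣ Nat.card ↥(Subgroup.normalizer ((S.1.1 : Subgroup G) : Set G)) := by
          have h := Subgroup.orderOf_dvd_natCard _ hS
          rwa [hxo] at h
        have hN11 : Nat.card ↥(Subgroup.normalizer ((S.1.1 : Subgroup G) : Set G)) * 12 = 22 * (6 * k) := by
          rw [← hn11, Sylow.card_eq_index_normalizer S.1.1, Sylow.coe_coe, Subgroup.card_mul_index, card_G_eq hn P, ← hN, hm]
        rcases hcases with rfl | rfl | rfl <;> omega⟩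
      exact Nat.card_of_isEmpty
    rw [h0] at h
    rw [← Nat.card_coe_set_eq]
    exact h
  have hle : s.ncard ≤ 12 := by
    rw [← hn11, ← Set.ncard_univ]; exact Set.ncard_le_ncard (Set.subset_univ _) (Set.toFinite _)
  have h12 : s.ncard = 12 := by omega
  have hs' : s = Set.univ := Set.eq_of_subset_of_ncard_le (Set.subset_univ _)
    (by rw [Set.ncard_univ, hn11, h12]) (Set.toFinite _)
  have hker : (w : G) ∈ (MulAction.toPermHom G (Sylow 11 G)).ker := by
    rw [MonoidHom.mem_ker]
    ext1 S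
    exact (hs'.symm ▸ Set.mem_univ S : S ∈ s)
  rcases (MonoidHom.normal_ker (MulAction.toPermHom G (Sylow 11 G))).eq_bot_or_eq_top with h | h
  · rw [h, Subgroup.mem_bot] at hker
    rw [hker, orderOf_one] at hwo
    omega
  · have : Nontrivial (Sylow 11 G) := Finite.one_lt_card_iff_nontrivial.1 (by omega)
    obtain ⟨S, S', hne⟩ := exists_pair_ne (Sylow 11 G)
    obtain ⟨g, hg⟩ := MulAction.exists_smul_eq G S S'
    have := MonoidHom.mem_ker.1 (h ▸ Subgroup.mem_top g : g ∈ (MulAction.toPermHom G (Sylow 11 G)).ker)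
    exact hne ((Equiv.ext_iff.1 this S).symm.trans hg)

/-- The case of Sylow subgroups of order nine. -/
theorem case_nine [IsSimpleGroup G] (hG : ¬ IsMulCommutative G) (hn : Nat.card (Sylow 3 G) = 22)
    (hK : ∀ g : G, (∀ Q : Sylow 3 G, g • Q = Q) → g = 1) (P : Sylow 3 G)
    (hP : Nat.card (P : Subgroup G) = 9) : False := by
  classical
  have : Finite (Sylow 3 G) := Nat.finite_of_card_ne_zero (by omega)
  have := Fintype.ofFinite G
  have := Fintype.ofFinite (Sylow 3 G)
  obtain ⟨h12, hlines⟩ := structure_large hn hK P (by omega)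
  have h9 := nine_ncard hn h12
  obtain ⟨Q, hQ⟩ : {Q : Sylow 3 G | idx P Q = 9}.Nonempty := Set.nonempty_of_ncard_ne_zero (by omega)
  have hQ' : idx P Q = 9 := hQ
  have hQP : Q ≠ P := fun h => by rw [h, idx_self] at hQ'; omega
  have hPQ : (P : Subgroup G) ⊓ (Q : Subgroup G) = ⊥ := by
    apply Subgroup.eq_bot_of_card_eq
    have h := card_inf_mul_idx P Q
    rw [hQ', hP] at h
    omega
  have hcomm : ∀ u ∈ (P : Subgroup G), ∀ v ∈ (P : Subgroup G), u * v = v * u :=
    fun u hu v hv => (elem_abelian hn hK P hu hv).2.eq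
  have hexp : ∀ u ∈ (P : Subgroup G), u ^ 3 = 1 := fun u hu => (elem_abelian hn hK P hu hu).1
  -- the lines through `P`
  have hlineorbit : ∀ R R' : Sylow 3 G, idx P R = 3 → R' ≠ P →
      (P : Subgroup G) ⊓ (R : Subgroup G) ≤ (R' : Subgroup G) → ∃ u ∈ (P : Subgroup G), u • R = R' := by
    intro R R' hR hR' hle
    set L := {S : Sylow 3 G | (P : Subgroup G) ⊓ (R : Subgroup G) ≤ (S : Subgroup G)} with hL
    have hL4 : L.ncard = 4 := hlines R hR
    have hsub : insert P (orbit (P : Subgroup G) R) ⊆ L := by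
      rintro S (hSP | ⟨u, rfl⟩)
      · show (P : Subgroup G) ⊓ (R : Subgroup G) ≤ (S : Subgroup G)
        rw [hSP]
        exact inf_le_left
      · intro d hd
        show d ∈ (((u : G) • R : Sylow 3 G) : Subgroup G)
        rw [mem_smul_iff, mul_assoc, hcomm d hd.1 u u.2, inv_mul_cancel_left]
        exact hd.2
    have hPnot : P ∉ orbit (P : Subgroup G) R := by
      rintro ⟨u, hu⟩
      have : R = P := by
        have h1 : (u : G) • R = P := hu
        exact MulAction.injective (u : G) (h1.trans (smul_self_of_mem u.2).symm)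
      rw [this, idx_self] at hR
      omega
    have he := Set.eq_of_subset_of_ncard_le hsub (by
      rw [Set.ncard_insert_of_notMem hPnot (Set.toFinite _), orbit_ncard, hR, hL4]) (Set.toFinite _)
    have hR'L : R' ∈ insert P (orbit (P : Subgroup G) R) := by rw [he]; exact hle
    rcases hR'L with h | ⟨u, hu⟩
    · exact absurd h hR'
    · exact ⟨u, u.2, hu⟩
  set N := Subgroup.normalizer ((P : Subgroup G) : Set G) with hN
  have hNmem : ∀ g : G, g ∈ N ↔ g • P = P := fun g => by
    rw [Sylow.smul_eq_iff_mem_normalizer]; exact Iff.rfl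
  set T := MulAction.stabilizer G P ⊓ MulAction.stabilizer G Q with hT
  have hTmem : ∀ t : G, t ∈ T ↔ t • P = P ∧ t • Q = Q := fun t => by
    simp [hT, Subgroup.mem_inf]
  have hTN : T ≤ N := fun t ht => (hNmem t).2 ((hTmem t).1 ht).1
  have hmN : Nat.card N = 9 * Nat.card T := by
    have horb : (orbit N Q).ncard = 9 := by
      refine le_antisymm ?_ ?_
      · rw [← h9]
        refine Set.ncard_le_ncard ?_ (Set.toFinite _)
        rintro _ ⟨g, rfl⟩
        have h := idx_smul (g : G) P Q
        rw [(hNmem g).1 g.2] at h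
        exact h.trans hQ'
      · rw [← hQ', ← orbit_ncard]
        refine Set.ncard_le_ncard ?_ (Set.toFinite _)
        rintro _ ⟨u, rfl⟩
        exact ⟨⟨u, Subgroup.le_normalizer u.2⟩, rfl⟩
    rw [← Subgroup.card_mul_index (MulAction.stabilizer N Q), MulAction.index_stabilizer, horb, mul_comm]
    congr 1
    refine Nat.card_congr
      { toFun := fun t => ⟨(t.1 : G), (hTmem _).2 ⟨(hNmem _).1 t.1.2, t.2⟩⟩
        invFun := fun t => ⟨⟨t.1, hTN t.2⟩, ((hTmem _).1 t.2).2⟩
        left_inv := fun t => rfl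
        right_inv := fun t => rfl }
  have hCT : ∀ c ∈ T, (∀ v ∈ (P : Subgroup G), v * c = c * v) → c = 1 := by
    intro c hc hcv
    obtain ⟨hcP, hcQ⟩ := (hTmem c).1 hc
    have hfix9 : ∀ R, idx P R = 9 → c • R = R := by
      intro R hR
      obtain ⟨u, hu, rfl⟩ := nine_orbit hn hK (by omega) hQ' hR
      rw [← mul_smul, ← hcv u hu, mul_smul, hcQ]
    have hc3 : c ^ 3 = 1 := by
      refine hK _ fun R => ?_
      by_cases hRP : R = P
      · subst hRP
        exact MulAction.mem_stabilizer_iff.1 (pow_mem (show c ∈ MulAction.stabilizer G R from hcP) 3)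
      rcases idx_cases hn hRP with h | h
      · have hle : (P : Subgroup G) ⊓ (R : Subgroup G) ≤ ((c • R : Sylow 3 G) : Subgroup G) := by
          intro d hd
          rw [mem_smul_iff, mul_assoc, hcv d hd.1, inv_mul_cancel_left]
          exact hd.2
        have hne : c • R ≠ P := fun he => hRP (MulAction.injective c (he.trans hcP.symm))
        obtain ⟨u, hu, hue⟩ := hlineorbit R (c • R) h hne hle
        have h1 : c ^ 3 • R = u ^ 3 • R := by
          have h2 : c • c • R = u • u • R := by
            rw [← hue, ← mul_smul c u, ← hcv u hu, mul_smul, ← hue]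
          rw [pow_succ, pow_succ, pow_one, mul_smul, mul_smul, h2, pow_succ, pow_succ, pow_one, mul_smul,
            mul_smul, ← mul_smul c u, ← hcv u hu, mul_smul, ← mul_smul c u R, ← hcv u hu, mul_smul, ← hue]
        rw [h1, hexp u hu, one_smul]
      · exact MulAction.mem_stabilizer_iff.1
          (pow_mem (show c ∈ MulAction.stabilizer G R from hfix9 R h) 3)
    have hp : IsPGroup 3 (Subgroup.zpowers c) := by
      rintro ⟨d, hd⟩
      obtain ⟨k, rfl⟩ := hd
      refine ⟨1, Subtype.ext ?_⟩
      show (c ^ k) ^ 3 ^ 1 = 1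
      rw [pow_one, ← zpow_natCast, ← zpow_mul, mul_comm, zpow_mul, zpow_natCast, hc3, one_zpow]
    obtain ⟨R, hR⟩ := hp.exists_le_sylow
    have hcR : c ∈ (R : Subgroup G) := hR (Subgroup.mem_zpowers c)
    have h1 := (smul_eq_iff_mem ⟨R, hcR⟩ P).1 hcP
    have h2 := (smul_eq_iff_mem ⟨R, hcR⟩ Q).1 hcQ
    exact Subgroup.mem_bot.1 (hPQ ▸ ⟨h1, h2⟩)
  let φ : T →* MulAut (P : Subgroup G) :=
    ((P : Subgroup G).normalizerMonoidHom).comp (Subgroup.inclusion hTN)
  have hφ : ∀ (t : T) (v : (P : Subgroup G)), ((φ t v : (P : Subgroup G)) : G) = t * v * (t : G)⁻¹ :=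
    fun t v => rfl
  have hφinj : Function.Injective φ := by
    rw [injective_iff_map_eq_one]
    intro t ht
    refine Subtype.ext (hCT t t.2 fun v hv => ?_)
    have h := hφ t ⟨v, hv⟩
    rw [ht] at h
    have h' : (t : G) * v * (t : G)⁻¹ = v := h.symm
    exact (mul_inv_eq_iff_eq_mul.1 h').symm
  have := Fintype.ofFinite (P : Subgroup G)
  let ψ : T →* Equiv.Perm {v : (P : Subgroup G) // v ≠ 1} :=
    { toFun := fun t => (φ t).toEquiv.subtypeEquiv (fun v => by simp)
      map_one' := by ext v; simp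
      map_mul' := fun t t' => by ext v; simp }
  have hψinj : Function.Injective ψ := by
    intro t t' h
    refine hφinj (MulEquiv.ext fun v => ?_)
    by_cases hv : v = 1
    · subst hv; simp
    · exact congrArg Subtype.val (Equiv.ext_iff.1 h ⟨v, hv⟩)
  have hX : Nat.card {v : (P : Subgroup G) // v ≠ 1} = 8 := by
    rw [Nat.card_eq_fintype_card, Fintype.card_subtype_compl, Fintype.card_subtype_eq,
      ← Nat.card_eq_fintype_card, hP]
  have hTdvd : Nat.card T ∣ 40320 := by
    have h := Subgroup.card_dvd_of_injective ψ hψinj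
    rw [Nat.card_perm, hX] at h
    exact h
  have hcardG : Nat.card G = 22 * (9 * Nat.card T) := by rw [card_G_eq hn P, ← hN, hmN]
  have hT3 : ¬ 3 ∣ Nat.card T := by
    intro hd
    have h27 : 3 ^ 3 ∣ Nat.card G := by
      rw [hcardG]
      exact dvd_mul_of_dvd_right (dvd_trans (by norm_num : (3 : ℕ) ^ 3 ∣ 9 * 3) (mul_dvd_mul_left 9 hd)) 22
    have h := P.pow_dvd_card_of_pow_dvd_card h27
    rw [hP] at h
    norm_num at h
  have hq57 : ∀ q : ℕ, q = 5 ∨ q = 7 → ¬ q ∣ Nat.card T := by
    intro q hq hd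
    have : Fact q.Prime := ⟨by rcases hq with rfl | rfl <;> norm_num⟩
    obtain ⟨w, hw⟩ := exists_prime_orderOf_dvd_card' q hd
    let act : MulAction (Subgroup.zpowers w) (P : Subgroup G) :=
      MulAction.compHom _ (φ.comp (Subgroup.zpowers w).subtype)
    have hp : IsPGroup q (Subgroup.zpowers w) :=
      IsPGroup.of_card (n := 1) (by rw [Nat.card_zpowers, hw, pow_one])
    have h := hp.card_modEq_card_fixedPoints (P : Subgroup G)
    set K := (Subgroup.centralizer ({(w : G)} : Set G)).subgroupOf (P : Subgroup G) with hKdef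
    have hfix : fixedPoints (Subgroup.zpowers w) (P : Subgroup G) = (K : Set (P : Subgroup G)) := by
      ext v
      rw [SetLike.mem_coe, hKdef, Subgroup.mem_subgroupOf, Subgroup.mem_centralizer_singleton_iff]
      constructor
      · intro hv
        have h1 : φ w v = v := hv ⟨w, Subgroup.mem_zpowers w⟩
        have h2 := hφ w v
        rw [h1] at h2
        exact mul_inv_eq_iff_eq_mul.1 h2.symm |>.symm
      · intro hv u
        obtain ⟨i, hi⟩ := u.2
        have hst : w ∈ (MulAction.stabilizer (MulAut (P : Subgroup G)) v).comap φ := by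
          show φ w v = v
          refine Subtype.ext ?_
          rw [hφ, ← hv, mul_inv_cancel_right]
        have := Subgroup.zpow_mem _ hst i
        simp only at hi
        rw [hi] at this
        exact this
    have hKd : Nat.card K ∣ 9 := hP ▸ Subgroup.card_subgroup_dvd_card K
    rw [hfix, hP] at h
    have hKcard : Nat.card K = 9 := by
      have hmem : Nat.card K ∈ Nat.divisors 9 := Nat.mem_divisors.2 ⟨hKd, by norm_num⟩
      rw [show Nat.divisors 9 = {1, 3, 9} from rfl] at hmem
      simp only [Finset.mem_insert, Finset.mem_singleton] at hmem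
      have h' : 9 % q = Nat.card K % q := h
      rcases hq with rfl | rfl <;> omega
    have hKtop : K = ⊤ := Subgroup.eq_top_of_card_eq K (hKcard.trans hP.symm)
    have hw1 : (w : G) = 1 := hCT w w.2 fun v hv => by
      have : (⟨v, hv⟩ : (P : Subgroup G)) ∈ K := hKtop ▸ Subgroup.mem_top _
      exact Subgroup.mem_centralizer_singleton_iff.1 this
    have : w = 1 := Subtype.ext hw1
    rw [this, orderOf_one] at hw
    rcases hq with rfl | rfl <;> omega
  have hT2 : Nat.card T ∣ 128 := by
    have h : Nat.card T ∣ 128 * (9 * (5 * 7)) := hTdvd.trans (by norm_num)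
    have c1 : Nat.Coprime (Nat.card T) 9 := by
      rw [show (9 : ℕ) = 3 ^ 2 from rfl]
      exact (((Nat.prime_three.coprime_iff_not_dvd).2 hT3).symm).pow_right 2
    have c2 : Nat.Coprime (Nat.card T) 5 :=
      (((show Nat.Prime 5 by norm_num).coprime_iff_not_dvd).2 (hq57 5 (Or.inl rfl))).symm
    have c3 : Nat.Coprime (Nat.card T) 7 :=
      (((show Nat.Prime 7 by norm_num).coprime_iff_not_dvd).2 (hq57 7 (Or.inr rfl))).symm
    exact (c1.mul_right (c2.mul_right c3)).dvd_of_dvd_mul_right h
  have h128 : ∀ q : ℕ, q.Prime → q ∣ 9 * Nat.card T → q ≤ 3 := by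
    intro q hq hd
    have hd' : q ∣ 3 ^ 2 * 2 ^ 7 := hd.trans (mul_dvd_mul_left 9 hT2)
    rcases hq.dvd_mul.1 hd' with h | h
    · exact Nat.le_of_dvd (by norm_num) (hq.dvd_of_dvd_pow h)
    · exact (Nat.le_of_dvd (by norm_num) (hq.dvd_of_dvd_pow h)).trans (by norm_num)
  obtain ⟨e, he1, he10, hen, hmod⟩ := eleven_data hG hn hK hcardG
    (fun hd => by have := h128 11 (by norm_num) hd; omega)
    (fun q hq hd => (h128 q hq hd).trans (by norm_num)) P hmN
  have hT16 : Nat.card T = 16 := by
    have hTmem' : Nat.card T ∈ Nat.divisors 128 := Nat.mem_divisors.2 ⟨hT2, by norm_num⟩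
    rw [show Nat.divisors 128 = {1, 2, 4, 8, 16, 32, 64, 128} from rfl] at hTmem'
    simp only [Finset.mem_insert, Finset.mem_singleton] at hTmem'
    have hle : e ≤ 10 := Nat.le_of_dvd (by norm_num) he10
    rcases hTmem' with h | h | h | h | h | h | h | h <;> rw [h] at hen ⊢ <;>
      (interval_cases e <;> omega)
  -- an involution centralizing an element of `P`
  obtain ⟨⟨a, haP⟩, ha1⟩ : ∃ a : (P : Subgroup G), a ≠ 1 := by
    have : Nontrivial (P : Subgroup G) := Finite.one_lt_card_iff_nontrivial.1 (by omega)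
    exact exists_ne 1
  obtain ⟨g, hg2, hga⟩ : ∃ g : T, orderOf g = 2 ∧ ((g : G) * a * (g : G)⁻¹ = a) := by
    let act : MulAction T {v : (P : Subgroup G) // v ≠ 1} := MulAction.compHom _ ψ
    set S := MulAction.stabilizer T (⟨⟨a, haP⟩, ha1⟩ : {v : (P : Subgroup G) // v ≠ 1}) with hS
    have hi : S.index ≤ 8 := by
      rw [hS, MulAction.index_stabilizer, ← hX, ← Set.ncard_univ]
      exact Set.ncard_le_ncard (Set.subset_univ _) (Set.toFinite _)
    have hm : Nat.card S * S.index = 16 := by rw [Subgroup.card_mul_index, hT16]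
    have h2 : 2 ∣ Nat.card S := by
      have hd : Nat.card S ∣ 2 ^ 4 := Dvd.intro _ hm
      obtain ⟨j, -, hj⟩ := (Nat.dvd_prime_pow Nat.prime_two).1 hd
      rcases j with _ | j
      · rw [hj] at hm; omega
      · rw [hj]; exact dvd_pow_self 2 (Nat.succ_ne_zero j)
    have : Fact (Nat.Prime 2) := ⟨Nat.prime_two⟩
    obtain ⟨g, hg⟩ := exists_prime_orderOf_dvd_card' 2 h2
    refine ⟨g.1, (Subgroup.orderOf_coe g).trans hg, ?_⟩
    have h : φ g.1 ⟨a, haP⟩ = ⟨a, haP⟩ := congrArg Subtype.val g.2
    exact (hφ g.1 ⟨a, haP⟩).symm.trans (congrArg Subtype.val h)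
  have ha1' : a ≠ 1 := fun h => ha1 (Subtype.ext h)
  obtain ⟨g, hgT⟩ := g
  have hgo : orderOf g = 2 := by rw [← hg2, ← Subgroup.orderOf_coe]
  have hgg : g * g = 1 := by rw [← sq, ← hgo]; exact pow_orderOf_eq_one g
  have hginv : g⁻¹ = g := inv_eq_of_mul_eq_one_right hgg
  simp only at hga
  obtain ⟨hgP, hgQ⟩ := (hTmem g).1 hgT
  have hgN : ∀ v ∈ (P : Subgroup G), g * v * g⁻¹ ∈ (P : Subgroup G) := fun v hv => by
    have := mem_smul (g := g) P hv
    rwa [hgP] at this
  obtain ⟨b, hbP, hb1, hgb⟩ : ∃ b ∈ (P : Subgroup G), b ≠ 1 ∧ g * b * g⁻¹ = b⁻¹ := by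
    by_contra hno
    push Not at hno
    have : g = 1 := hCT g hgT fun v hv => by
      by_contra hne
      have hbP : v⁻¹ * (g * v * g⁻¹) ∈ (P : Subgroup G) := Subgroup.mul_mem _ (Subgroup.inv_mem _ hv) (hgN v hv)
      refine hno _ hbP (fun h => hne ?_) ?_
      · exact mul_inv_eq_iff_eq_mul.1 (inv_mul_eq_one.1 h).symm |>.symm
      · simp only [mul_inv_rev, inv_inv, hginv]
        calc g * (v⁻¹ * (g * v * g)) * g = (g * v⁻¹ * g) * v * (g * g) := by group
          _ = _ := by rw [hgg, mul_one]; simp [mul_assoc]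
    rw [this, orderOf_one] at hgo
    omega
  have haPow : ∀ i : ℕ, a ^ i ∈ (P : Subgroup G) := fun i => Subgroup.pow_mem _ haP i
  have hbPow : ∀ i : ℕ, b ^ i ∈ (P : Subgroup G) := fun i => Subgroup.pow_mem _ hbP i
  have hconj : ∀ i j : ℕ, g * (a ^ i * b ^ j) * g⁻¹ = a ^ i * (b ^ j)⁻¹ := by
    intro i j
    have := map_mul (MulAut.conj g) (a ^ i) (b ^ j)
    simp only [MulAut.conj_apply, map_pow] at this
    rw [this, hga, hgb, inv_pow]
  have hsq1 : ∀ w ∈ (P : Subgroup G), w * w = 1 → w = 1 := by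
    intro w hw h
    have := hexp w hw
    rwa [pow_succ, pow_succ, pow_one, h, one_mul] at this
  have huniq : ∀ i j : ℕ, a ^ i * b ^ j = 1 → a ^ i = 1 ∧ b ^ j = 1 := by
    intro i j h
    have h1 := hconj i j
    rw [h, mul_one, mul_inv_cancel] at h1
    have hb : b ^ j = 1 := by
      apply hsq1 _ (hbPow j)
      have e1 : a ^ i = b ^ j := by
        have := mul_inv_eq_one.1 h1.symm
        exact this
      rw [e1] at h
      exact h
    rw [hb, mul_one] at h
    exact ⟨h, hb⟩
  have hpow3 : ∀ (w : G), w ∈ (P : Subgroup G) → w ≠ 1 → ∀ i : ℕ, w ^ i = 1 → 3 ∣ i := by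
    intro w hw hw1 i h
    rw [← orderOf_eq_prime (hexp w hw) hw1]
    exact orderOf_dvd_of_pow_eq_one h
  have hdecomp : ∀ u ∈ (P : Subgroup G), ∃ i j : ℕ, i < 3 ∧ j < 3 ∧ u = a ^ i * b ^ j := by
    let f : Fin 3 × Fin 3 → (P : Subgroup G) :=
      fun z => ⟨a ^ (z.1 : ℕ) * b ^ (z.2 : ℕ), Subgroup.mul_mem _ (haPow _) (hbPow _)⟩
    have hf : Function.Injective f := by
      rintro ⟨i, j⟩ ⟨k, l⟩ h
      have h' : a ^ (i : ℕ) * b ^ (j : ℕ) = a ^ (k : ℕ) * b ^ (l : ℕ) := congrArg Subtype.val h
      have hz : a ^ ((i : ℕ) + (3 - k)) * b ^ ((j : ℕ) + (3 - l)) = 1 := by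
        have hk : (k : ℕ) + (3 - k) = 3 := by omega
        have hl : (l : ℕ) + (3 - l) = 3 := by omega
        calc a ^ ((i : ℕ) + (3 - k)) * b ^ ((j : ℕ) + (3 - l))
            = a ^ (3 - (k : ℕ)) * (a ^ (i : ℕ) * b ^ (j : ℕ)) * b ^ (3 - (l : ℕ)) := by
              rw [add_comm (i : ℕ), pow_add, pow_add]; group
          _ = a ^ (3 - (k : ℕ)) * (a ^ (k : ℕ) * b ^ (l : ℕ)) * b ^ (3 - (l : ℕ)) := by rw [h']
          _ = a ^ ((3 - (k : ℕ)) + k) * b ^ ((l : ℕ) + (3 - l)) := by rw [pow_add, pow_add]; group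
          _ = 1 := by rw [add_comm, hk, hl, hexp a haP, hexp b hbP, one_mul]
      obtain ⟨hza, hzb⟩ := huniq _ _ hz
      have h1 := hpow3 a haP ha1' _ hza
      have h2 := hpow3 b hbP hb1 _ hzb
      have := i.isLt; have := j.isLt; have := k.isLt; have := l.isLt
      ext <;> simp only <;> omega
    have hs : Function.Surjective f := ((Nat.bijective_iff_injective_and_card f).2 ⟨hf, by
      rw [hP, Nat.card_prod, Nat.card_fin]⟩).2
    intro u hu
    obtain ⟨z, hz⟩ := hs ⟨u, hu⟩
    exact ⟨z.1, z.2, z.1.isLt, z.2.isLt, (congrArg Subtype.val hz).symm⟩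
  -- intersections along lines
  have hDcard : ∀ R, idx P R = 3 → Nat.card ↥((P : Subgroup G) ⊓ (R : Subgroup G)) = 3 := by
    intro R hR
    have h := card_inf_mul_idx P R
    rw [hR, hP] at h
    omega
  have hgen : ∀ R, idx P R = 3 → ∀ d ∈ (P : Subgroup G) ⊓ (R : Subgroup G), d ≠ 1 →
      Subgroup.zpowers d = (P : Subgroup G) ⊓ (R : Subgroup G) := by
    intro R hR d hd hd1
    refine Subgroup.eq_of_le_of_card_ge (Subgroup.zpowers_le.2 hd) ?_
    rw [hDcard R hR, Nat.card_zpowers, orderOf_eq_prime (hexp d hd.1) hd1]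
  have hinter_orbit : ∀ R R', idx P R = 3 → idx P R' = 3 →
      (P : Subgroup G) ⊓ (R' : Subgroup G) = (P : Subgroup G) ⊓ (R : Subgroup G) →
      ∃ u ∈ (P : Subgroup G), u • R = R' := by
    intro R R' hR hR' he
    refine hlineorbit R R' hR (fun h => by rw [h, idx_self] at hR'; omega) ?_
    rw [← he]; exact inf_le_right
  -- existence of the lines of `a` and of `b`
  let nb : Finset (Sylow 3 G) := Finset.univ.filter fun R => idx P R = 3
  have hnb : nb.card = 12 := by
    rw [← h12, Set.ncard_eq_toFinset_card']; congr 1; ext R; simp [nb]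
  let four : Finset (Subgroup G) :=
    {Subgroup.zpowers a, Subgroup.zpowers b, Subgroup.zpowers (a * b), Subgroup.zpowers (a * b ^ 2)}
  let I := nb.image fun R : Sylow 3 G => (P : Subgroup G) ⊓ (R : Subgroup G)
  have hI4 : 4 ≤ I.card := by
    have hsum := Finset.card_eq_sum_card_image (fun R : Sylow 3 G => (P : Subgroup G) ⊓ (R : Subgroup G)) nb
    have hb : ∀ D ∈ I, (nb.filter fun R : Sylow 3 G => (P : Subgroup G) ⊓ (R : Subgroup G) = D).card ≤ 3 := by
      intro D hD
      obtain ⟨R₀, hR₀, rfl⟩ := Finset.mem_image.1 hD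
      have hR₀' : idx P R₀ = 3 := (Finset.mem_filter.1 hR₀).2
      refine le_trans ?_ (le_of_eq hR₀')
      rw [← orbit_ncard, Set.ncard_eq_toFinset_card']
      refine Finset.card_le_card fun R hR => ?_
      rw [Finset.mem_filter] at hR
      obtain ⟨u, hu, hue⟩ := hinter_orbit R₀ R hR₀' (Finset.mem_filter.1 hR.1).2 hR.2
      rw [Set.mem_toFinset]
      exact ⟨⟨u, hu⟩, hue⟩
    have := Finset.sum_le_card_nsmul I _ 3 hb
    rw [smul_eq_mul] at this
    rw [hnb] at hsum
    change 12 = ∑ D ∈ I, _ at hsum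
    omega
  have hIsub : I ⊆ four := by
    intro D hD
    obtain ⟨R, hR, rfl⟩ := Finset.mem_image.1 hD
    have hR' : idx P R = 3 := (Finset.mem_filter.1 hR).2
    have : Nontrivial ↥((P : Subgroup G) ⊓ (R : Subgroup G)) :=
      Finite.one_lt_card_iff_nontrivial.1 (by rw [hDcard R hR']; norm_num)
    obtain ⟨⟨d, hd⟩, hd1'⟩ := exists_ne (1 : ↥((P : Subgroup G) ⊓ (R : Subgroup G)))
    have hd1 : d ≠ 1 := fun h => hd1' (Subtype.ext h)
    show (P : Subgroup G) ⊓ (R : Subgroup G) ∈ four
    rw [← hgen R hR' d hd hd1]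
    obtain ⟨i, j, hi, hj, rfl⟩ := hdecomp d hd.1
    simp only [four, Finset.mem_insert, Finset.mem_singleton]
    have key : ∀ (w : G) (n : ℕ), w ∈ (P : Subgroup G) → a ^ i * b ^ j = w ^ n → n = 1 ∨ n = 2 →
        Subgroup.zpowers (a ^ i * b ^ j) = Subgroup.zpowers w := by
      intro w n hw he hn'
      rw [he]
      refine le_antisymm (Subgroup.zpowers_le.2 (Subgroup.pow_mem _ (Subgroup.mem_zpowers w) n))
        (Subgroup.zpowers_le.2 ?_)
      rcases hn' with rfl | rfl
      · rw [pow_one]; exact Subgroup.mem_zpowers w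
      · have hww : w = (w ^ 2) ^ 2 := by
          rw [← pow_mul, show (2 * 2 : ℕ) = 3 + 1 from rfl, pow_add, hexp w hw, one_mul, pow_one]
        have h := Subgroup.pow_mem _ (Subgroup.mem_zpowers (w ^ 2)) 2
        rwa [← hww] at h
    have hab2 : (a * b) ^ 2 = a ^ 2 * b ^ 2 := (show Commute a b from hcomm a haP b hbP).mul_pow 2
    have hab2' : (a * b ^ 2) ^ 2 = a ^ 2 * b ^ 1 := by
      rw [(show Commute a (b ^ 2) from hcomm a haP _ (hbPow 2)).mul_pow, ← pow_mul,
        show (2 * 2 : ℕ) = 3 + 1 from rfl, pow_add b, hexp b hbP, one_mul]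
    interval_cases i <;> interval_cases j
    · exact absurd (by simp) hd1
    · exact Or.inr (Or.inl (key b 1 hbP (by simp) (Or.inl rfl)))
    · exact Or.inr (Or.inl (key b 2 hbP (by simp) (Or.inr rfl)))
    · exact Or.inl (key a 1 haP (by simp) (Or.inl rfl))
    · exact Or.inr (Or.inr (Or.inl (key (a * b) 1 (Subgroup.mul_mem _ haP hbP) (by simp) (Or.inl rfl))))
    · exact Or.inr (Or.inr (Or.inr (key (a * b ^ 2) 1 (Subgroup.mul_mem _ haP (hbPow 2)) (by simp) (Or.inl rfl))))
    · exact Or.inl (key a 2 haP (by simp) (Or.inr rfl))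
    · exact Or.inr (Or.inr (Or.inr (key (a * b ^ 2) 2 (Subgroup.mul_mem _ haP (hbPow 2)) hab2'.symm (Or.inr rfl))))
    · exact Or.inr (Or.inr (Or.inl (key (a * b) 2 (Subgroup.mul_mem _ haP hbP) hab2.symm (Or.inr rfl))))
  have hIeq : I = four :=
    Finset.eq_of_subset_of_card_le hIsub (le_trans Finset.card_le_four hI4)
  obtain ⟨R₁, hR₁, hR₁a⟩ : ∃ R, idx P R = 3 ∧ (P : Subgroup G) ⊓ (R : Subgroup G) = Subgroup.zpowers a := by
    obtain ⟨R, hR, hRe⟩ := Finset.mem_image.1
      (show Subgroup.zpowers a ∈ I by rw [hIeq]; simp [four])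
    exact ⟨R, (Finset.mem_filter.1 hR).2, hRe⟩
  obtain ⟨RB, hRB, hRBb⟩ : ∃ R, idx P R = 3 ∧ (P : Subgroup G) ⊓ (R : Subgroup G) = Subgroup.zpowers b := by
    obtain ⟨R, hR, hRe⟩ := Finset.mem_image.1
      (show Subgroup.zpowers b ∈ I by rw [hIeq]; simp [four])
    exact ⟨R, (Finset.mem_filter.1 hR).2, hRe⟩
  have hconjR : ∀ (u : G) (R : Sylow 3 G), g • (u • R) = (g * u * g⁻¹) • (g • R) := fun u R => by
    rw [← mul_smul, ← mul_smul, inv_mul_cancel_right]
  have hgidx : ∀ R, idx P (g • R) = idx P R := fun R => by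
    have h := idx_smul g P R; rwa [hgP] at h
  have hPinf : ∀ (w : G), g * w * g⁻¹ = w ∨ g * w * g⁻¹ = w⁻¹ → ∀ R, idx P R = 3 →
      (P : Subgroup G) ⊓ (R : Subgroup G) = Subgroup.zpowers w →
      ∃ u ∈ (P : Subgroup G), u • R = g • R := by
    intro w hw R hR hRw
    refine hlineorbit R (g • R) hR (fun h => by
      have := MulAction.injective g (h.trans hgP.symm)
      rw [this, idx_self] at hR
      omega) ?_
    rw [hRw, Subgroup.zpowers_le]
    have hwR : w ∈ (R : Subgroup G) := (hRw.ge (Subgroup.mem_zpowers w)).2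
    have := mem_smul (g := g) R hwR
    rcases hw with h | h <;> rw [h] at this
    · exact this
    · simpa using Subgroup.inv_mem _ this
  -- the fixed point on the line of `a`
  obtain ⟨RA, hRA, hRAa, hRAfix⟩ : ∃ R, idx P R = 3 ∧
      (P : Subgroup G) ⊓ (R : Subgroup G) = Subgroup.zpowers a ∧ g • R = R := by
    obtain ⟨u, hu, hue⟩ := hPinf a (Or.inl hga) R₁ hR₁ hR₁a
    obtain ⟨i, j, -, -, rfl⟩ := hdecomp u hu
    have haR : a ∈ (R₁ : Subgroup G) := (hR₁a.ge (Subgroup.mem_zpowers a)).2
    have hue' : b ^ j • R₁ = g • R₁ := by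
      rw [← hue, hcomm _ (haPow i) _ (hbPow j), mul_smul, smul_self_of_mem (Subgroup.pow_mem _ haR i)]
    refine ⟨b ^ (2 * j) • R₁, (smul_mem_idx (hbPow _)).trans hR₁, ?_, ?_⟩
    · refine (Subgroup.eq_of_le_of_card_ge (Subgroup.zpowers_le.2 (Subgroup.mem_inf.2 ⟨haP, ?_⟩)) ?_).symm
      · show a ∈ (((b ^ (2 * j) • R₁ : Sylow 3 G)) : Subgroup G)
        rw [mem_smul_iff, mul_assoc, hcomm a haP _ (hbPow _), inv_mul_cancel_left]
        exact haR
      · rw [hDcard _ ((smul_mem_idx (hbPow _)).trans hR₁), Nat.card_zpowers,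
          orderOf_eq_prime (hexp a haP) ha1']
    · rw [hconjR, ← hue', ← mul_smul]
      congr 1
      have h1 := hconj 0 (2 * j)
      rw [pow_zero, one_mul, one_mul] at h1
      rw [h1, inv_mul_eq_iff_eq_mul, ← pow_add, show (2 * j + 2 * j : ℕ) = 3 * j + j by ring, pow_add,
        pow_mul, hexp b hbP, one_pow, one_mul]
  -- the fixed points
  have hline_b : ∀ R ∈ orbit (P : Subgroup G) RB, g • R = R := by
    intro R hR
    obtain ⟨v, rfl⟩ := hR
    have hR3 : idx P ((v : G) • RB) = 3 := (smul_mem_idx v.2).trans hRB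
    have hRb : (P : Subgroup G) ⊓ (((v : G) • RB : Sylow 3 G) : Subgroup G) = Subgroup.zpowers b := by
      refine (Subgroup.eq_of_le_of_card_ge (Subgroup.zpowers_le.2 (Subgroup.mem_inf.2 ⟨hbP, ?_⟩)) ?_).symm
      · show b ∈ (((v : G) • RB : Sylow 3 G) : Subgroup G)
        rw [mem_smul_iff, mul_assoc, hcomm b hbP v v.2, inv_mul_cancel_left]
        exact (hRBb.ge (Subgroup.mem_zpowers b)).2
      · rw [hDcard _ hR3, Nat.card_zpowers, orderOf_eq_prime (hexp b hbP) hb1]
    show g • ((v : G) • RB) = (v : G) • RB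
    set R := (v : G) • RB
    obtain ⟨u, hu, hue⟩ := hPinf b (Or.inr hgb) R hR3 hRb
    obtain ⟨i, j, -, -, rfl⟩ := hdecomp u hu
    have hbR : b ∈ (R : Subgroup G) := (hRb.ge (Subgroup.mem_zpowers b)).2
    rw [mul_smul, smul_self_of_mem (Subgroup.pow_mem _ hbR j)] at hue
    have h2 : (a ^ i * a ^ i) • R = R := by
      have h3 : g • (a ^ i • R) = g • (g • R) := congrArg (g • ·) hue
      rw [hconjR, ← mul_smul g g, hgg, one_smul, ← hue] at h3
      have h1 := hconj i 0
      rw [pow_zero, mul_one, inv_one, mul_one] at h1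
      rw [h1, ← mul_smul] at h3
      exact h3
    have hmem : a ^ i * a ^ i ∈ Subgroup.zpowers b :=
      hRb ▸ ⟨Subgroup.mul_mem _ (haPow i) (haPow i),
        (smul_eq_iff_mem ⟨P, Subgroup.mul_mem _ (haPow i) (haPow i)⟩ R).1 h2⟩
    have hfix : g * (a ^ i * a ^ i) * g⁻¹ = (a ^ i * a ^ i)⁻¹ := by
      obtain ⟨k, hk⟩ := hmem
      simp only at hk
      have := map_zpow (MulAut.conj g) b k
      simp only [MulAut.conj_apply] at this
      rw [← hk, this, hgb, inv_zpow]
    have h1 := hconj (i + i) 0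
    rw [pow_zero, mul_one, inv_one, mul_one, pow_add] at h1
    rw [h1] at hfix
    have hai : a ^ i = 1 := hsq1 _ (haPow i)
      (hsq1 _ (Subgroup.mul_mem _ (haPow i) (haPow i)) (mul_eq_one_iff_eq_inv.2 hfix))
    rw [← hue, hai, one_smul]
  let FA : Set (Sylow 3 G) := (fun i : Fin 3 => a ^ (i : ℕ) • Q) '' Set.univ
  have hFA : FA.ncard = 3 := by
    rw [Set.ncard_image_of_injective, Set.ncard_univ, Nat.card_fin]
    intro i k h
    simp only at h
    have h1 : ((a ^ (k : ℕ))⁻¹ * a ^ (i : ℕ)) • Q = Q := by rw [mul_smul, h, inv_smul_smul]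
    have hm : (a ^ (k : ℕ))⁻¹ * a ^ (i : ℕ) ∈ (P : Subgroup G) :=
      Subgroup.mul_mem _ (Subgroup.inv_mem _ (haPow _)) (haPow _)
    have h2 : (a ^ (k : ℕ))⁻¹ * a ^ (i : ℕ) = 1 :=
      Subgroup.mem_bot.1 (hPQ ▸ ⟨hm, (smul_eq_iff_mem ⟨P, hm⟩ Q).1 h1⟩)
    have h3 := inv_mul_eq_one.1 h2
    have hlt := i.isLt; have hlt' := k.isLt
    have hord := orderOf_eq_prime (hexp a haP) ha1'
    exact Fin.ext (pow_injOn_Iio_orderOf (by rw [hord]; exact hlt) (by rw [hord]; exact hlt') h3.symm)
  have hset : {R : Sylow 3 G | g • R = R} = ({P} ∪ FA) ∪ ({RA} ∪ orbit (P : Subgroup G) RB) := by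
    ext R
    constructor
    · intro hR
      by_cases hRP : R = P
      · exact Or.inl (Or.inl hRP)
      rcases idx_cases hn hRP with h | h
      · right
        have hinf : ∀ d ∈ (P : Subgroup G) ⊓ (R : Subgroup G), g * d * g⁻¹ ∈ (P : Subgroup G) ⊓ (R : Subgroup G) := by
          intro d hd
          refine ⟨hgN d hd.1, ?_⟩
          have := mem_smul (g := g) R hd.2
          rwa [hR] at this
        have : Nontrivial ↥((P : Subgroup G) ⊓ (R : Subgroup G)) :=
          Finite.one_lt_card_iff_nontrivial.1 (by rw [hDcard R h]; norm_num)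
        obtain ⟨⟨d, hd⟩, hd1'⟩ := exists_ne (1 : ↥((P : Subgroup G) ⊓ (R : Subgroup G)))
        have hd1 : d ≠ 1 := fun h => hd1' (Subtype.ext h)
        obtain ⟨i, j, -, -, rfl⟩ := hdecomp d hd.1
        have h2 := hinf _ hd
        rw [hconj i j] at h2
        have h3 : a ^ i * a ^ i ∈ (P : Subgroup G) ⊓ (R : Subgroup G) := by
          have := Subgroup.mul_mem _ hd h2
          rwa [show a ^ i * b ^ j * (a ^ i * (b ^ j)⁻¹) = a ^ i * a ^ i from by
            rw [mul_assoc, ← mul_assoc (b ^ j), hcomm _ (hbPow j) _ (haPow i)]; group] at this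
        by_cases hai : a ^ i = 1
        · rw [hai, one_mul] at hd hd1
          right
          have he : (P : Subgroup G) ⊓ (R : Subgroup G) = (P : Subgroup G) ⊓ (RB : Subgroup G) := by
            rw [hRBb, ← hgen R h _ hd hd1]
            refine Subgroup.eq_of_le_of_card_ge (Subgroup.zpowers_le.2 (Subgroup.pow_mem _ (Subgroup.mem_zpowers b) j)) ?_
            rw [Nat.card_zpowers, Nat.card_zpowers, orderOf_eq_prime (hexp b hbP) hb1,
              orderOf_eq_prime (hexp _ hd.1) hd1]
          obtain ⟨u, hu, hue⟩ := hinter_orbit RB R hRB h he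
          exact ⟨⟨u, hu⟩, hue⟩
        · left
          have he : (P : Subgroup G) ⊓ (R : Subgroup G) = (P : Subgroup G) ⊓ (RA : Subgroup G) := by
            rw [hRAa, ← hgen R h _ h3 (fun h' => hai (hsq1 _ (haPow i) h'))]
            refine Subgroup.eq_of_le_of_card_ge (Subgroup.zpowers_le.2 (Subgroup.mul_mem _
              (Subgroup.pow_mem _ (Subgroup.mem_zpowers a) i) (Subgroup.pow_mem _ (Subgroup.mem_zpowers a) i))) ?_
            rw [Nat.card_zpowers, Nat.card_zpowers, orderOf_eq_prime (hexp a haP) ha1',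
              orderOf_eq_prime (hexp _ h3.1) (fun h' => hai (hsq1 _ (haPow i) h'))]
          obtain ⟨u, hu, hue⟩ := hinter_orbit RA R hRA h he
          obtain ⟨k, l, -, -, rfl⟩ := hdecomp u hu
          have haR : a ∈ (RA : Subgroup G) := (hRAa.ge (Subgroup.mem_zpowers a)).2
          rw [hcomm _ (haPow k) _ (hbPow l), mul_smul, smul_self_of_mem (Subgroup.pow_mem _ haR k)] at hue
          have h4 : ((b ^ l)⁻¹ * (b ^ l)⁻¹) • RA = RA := by
            have hR' : g • (b ^ l • RA) = b ^ l • RA := by rw [hue]; exact hR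
            rw [hconjR, hRAfix] at hR'
            have h1 := hconj 0 l
            rw [pow_zero, one_mul, one_mul] at h1
            rw [h1] at hR'
            rw [mul_smul, hR', inv_smul_smul]
          have hm : (b ^ l)⁻¹ * (b ^ l)⁻¹ ∈ (P : Subgroup G) :=
            Subgroup.mul_mem _ (Subgroup.inv_mem _ (hbPow l)) (Subgroup.inv_mem _ (hbPow l))
          obtain ⟨z, hz⟩ : (b ^ l)⁻¹ * (b ^ l)⁻¹ ∈ Subgroup.zpowers a :=
            hRAa ▸ ⟨hm, (smul_eq_iff_mem ⟨P, hm⟩ RA).1 h4⟩
          simp only at hz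
          have hbl : b ^ l = 1 := by
            have e1 : g * ((b ^ l)⁻¹ * (b ^ l)⁻¹) * g⁻¹ = (b ^ l)⁻¹ * (b ^ l)⁻¹ := by
              have := map_zpow (MulAut.conj g) a z
              simp only [MulAut.conj_apply] at this
              rw [← hz, this, hga]
            have h1 := hconj 0 (l + l)
            rw [pow_zero, one_mul, one_mul, pow_add] at h1
            have e2 : g * ((b ^ l)⁻¹ * (b ^ l)⁻¹) * g⁻¹ = b ^ l * b ^ l := by
              have := congrArg (·⁻¹) h1
              simp only [mul_inv_rev, inv_inv] at this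
              rw [← this]; group
            rw [e2] at e1
            refine hsq1 _ (hbPow l) (hsq1 _ (Subgroup.mul_mem _ (hbPow l) (hbPow l)) ?_)
            rw [mul_eq_one_iff_eq_inv, mul_inv_rev]
            exact e1
          rw [hbl, one_smul] at hue
          exact hue.symm
      · left; right
        obtain ⟨u, hu, rfl⟩ := nine_orbit hn hK (by omega) hQ' h
        obtain ⟨i, j, hi, hj, rfl⟩ := hdecomp u hu
        have hR' : g • ((a ^ i * b ^ j) • Q) = (a ^ i * b ^ j) • Q := hR
        rw [hconjR, hgQ, hconj] at hR'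
        have h1 : ((a ^ i * b ^ j)⁻¹ * (a ^ i * (b ^ j)⁻¹)) • Q = Q := by rw [mul_smul, hR', inv_smul_smul]
        have hm : (a ^ i * b ^ j)⁻¹ * (a ^ i * (b ^ j)⁻¹) ∈ (P : Subgroup G) :=
          Subgroup.mul_mem _ (Subgroup.inv_mem _ hu) (Subgroup.mul_mem _ (haPow i) (Subgroup.inv_mem _ (hbPow j)))
        have h2 : (a ^ i * b ^ j)⁻¹ * (a ^ i * (b ^ j)⁻¹) = 1 :=
          Subgroup.mem_bot.1 (hPQ ▸ ⟨hm, (smul_eq_iff_mem ⟨P, hm⟩ Q).1 h1⟩)
        have h3 : b ^ j = (b ^ j)⁻¹ := mul_left_cancel (inv_mul_eq_one.1 h2)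
        have hbj : b ^ j = 1 := hsq1 _ (hbPow j) (mul_eq_one_iff_eq_inv.2 h3)
        exact ⟨⟨i, hi⟩, Set.mem_univ _, by simp [hbj]⟩
    · rintro ((rfl | ⟨i, -, rfl⟩) | (rfl | hR))
      · exact hgP
      · show g • (a ^ (i : ℕ) • Q) = a ^ (i : ℕ) • Q
        have h1 := hconj i 0
        rw [pow_zero, mul_one, inv_one, mul_one] at h1
        rw [hconjR, hgQ, h1]
      · exact hRAfix
      · exact hline_b R hR
  have hidxFA : ∀ R ∈ FA, idx P R = 9 := by
    rintro _ ⟨i, -, rfl⟩; exact (smul_mem_idx (haPow _)).trans hQ'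
  have hidxB : ∀ R ∈ orbit (P : Subgroup G) RB, idx P R = 3 := by
    rintro _ ⟨u, rfl⟩; exact (smul_mem_idx u.2).trans hRB
  have hne : RA ∉ orbit (P : Subgroup G) RB := by
    rintro ⟨u, hu⟩
    have hb : b ∈ (P : Subgroup G) ⊓ (RA : Subgroup G) := by
      refine ⟨hbP, ?_⟩
      show b ∈ (RA : Subgroup G)
      rw [← hu]
      show b ∈ (((u : G) • RB : Sylow 3 G) : Subgroup G)
      rw [mem_smul_iff, mul_assoc, hcomm b hbP u u.2, inv_mul_cancel_left]
      exact (hRBb.ge (Subgroup.mem_zpowers b)).2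
    rw [hRAa] at hb
    obtain ⟨k, hk⟩ := hb
    simp only at hk
    have := map_zpow (MulAut.conj g) a k
    simp only [MulAut.conj_apply] at this
    rw [hga, hk, hgb] at this
    exact hb1 (hsq1 b hbP (mul_eq_one_iff_eq_inv.2 this.symm))
  have hcount : {R : Sylow 3 G | g • R = R}.ncard = 8 := by
    rw [hset, Set.ncard_union_eq ?_ (Set.toFinite _) (Set.toFinite _),
      Set.ncard_union_eq ?_ (Set.toFinite _) (Set.toFinite _), Set.ncard_singleton, hFA,
      Set.ncard_union_eq ?_ (Set.toFinite _) (Set.toFinite _), Set.ncard_singleton, orbit_ncard, hRB]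
    · rw [Set.disjoint_singleton_left]; exact hne
    · rw [Set.disjoint_singleton_left]
      intro h
      have := hidxFA P h
      rw [idx_self] at this; omega
    · rw [Set.disjoint_left]
      rintro R (h1 | h1) (h2 | h2)
      · rw [Set.mem_singleton_iff] at h1 h2
        rw [← h2, h1, idx_self] at hRA; omega
      · rw [Set.mem_singleton_iff] at h1
        have := hidxB R h2; rw [h1, idx_self] at this; omega
      · have := hidxFA R h1; rw [h2, hRA] at this; omega
      · have := hidxFA R h1; have := hidxB R h2; omega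
  have := fix_parity hG hn (g := g) (by rw [sq, hgg])
  omega

section faithfulC

variable (hn : Nat.card (Sylow 3 G) = 22) (hK : ∀ g : G, (∀ Q : Sylow 3 G, g • Q = Q) → g = 1)

include hn hK

/-- A proper nontrivial normal subgroup cannot exist, given the claim for smaller groups. -/
theorem simple_step (M : Subgroup G) [M.Normal] (hM : M ≠ ⊥)
    (ih : M ≠ ⊤ → Nat.card (Sylow 3 M) ≠ 22) : M = ⊤ := by
  obtain ⟨P⟩ : Nonempty (Sylow 3 G) := inferInstance
  have : Finite (Sylow 3 G) := Nat.finite_of_card_ne_zero (by omega)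
  have horb : (orbit M P).ncard = 22 := by
    have hB : IsBlock G (orbit M P) := IsBlock.orbit_of_normal P
    have hd := hB.ncard_dvd_card (MulAction.nonempty_orbit P)
    rw [hn] at hd
    have hmod : (orbit M P).ncard % 3 = 1 := by
      refine modEq_of_invariant P _ (mem_orbit_self P) ?_
      rintro u hu Q ⟨m, rfl⟩
      refine ⟨⟨u * m * u⁻¹, ‹M.Normal›.conj_mem _ m.2 u⟩, ?_⟩
      show (u * (m : G) * u⁻¹) • P = u • (m : G) • P
      rw [mul_smul, mul_smul, smul_self_of_mem (Subgroup.inv_mem _ hu)]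
    have hle := Nat.le_of_dvd (by norm_num) hd
    have hne : (orbit M P).ncard ≠ 1 := by
      intro h1
      apply hM
      rw [eq_bot_iff]
      intro m hm
      rw [Subgroup.mem_bot]
      refine hK m fun Q => ?_
      obtain ⟨g, rfl⟩ := MulAction.exists_smul_eq G P Q
      obtain ⟨Q₀, hQ₀⟩ := Set.ncard_eq_one.1 h1
      have e1 : (⟨g⁻¹ * m * g, ‹M.Normal›.conj_mem' m hm g⟩ : M) • P ∈ orbit M P :=
        MulAction.mem_orbit _ _
      have e2 : P ∈ orbit M P := mem_orbit_self P
      rw [hQ₀, Set.mem_singleton_iff] at e1 e2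
      have e3 : (g⁻¹ * m * g) • P = P := e1.trans e2.symm
      rw [mul_smul, mul_smul, inv_smul_eq_iff] at e3
      exact e3
    interval_cases h : (orbit M P).ncard <;> omega
  have hstab : (MulAction.stabilizer M P).index = 22 := by rw [MulAction.index_stabilizer, horb]
  by_cases h3 : 3 ∣ Nat.card M
  · by_contra hMtop
    apply ih hMtop
    have htrans : ∀ Q : Sylow 3 G, ∃ m : M, (m : G) • P = Q := fun Q => by
      have : orbit M P = Set.univ := Set.eq_of_subset_of_ncard_le (Set.subset_univ _)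
        (by rw [horb, Set.ncard_univ, hn]) (Set.toFinite _)
      obtain ⟨m, hm⟩ : Q ∈ orbit M P := this ▸ Set.mem_univ Q
      exact ⟨m, hm⟩
    obtain ⟨Psi, hPsi⟩ : ∃ Psi : Sylow 3 M,
        ∀ y : M, y ∈ (Psi : Subgroup M) ↔ (y : G) ∈ (P : Subgroup G) := by
      obtain ⟨R⟩ : Nonempty (Sylow 3 M) := inferInstance
      obtain ⟨Q, hQ⟩ := Sylow.exists_comap_subtype_eq R
      obtain ⟨m, rfl⟩ := htrans Q
      refine ⟨m⁻¹ • R, fun y => ?_⟩
      rw [mem_smul_iff, ← hQ, Subgroup.mem_comap, mem_smul_iff]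
      simp [mul_assoc]
    have hdvd : Nat.card (Sylow 3 M) ∣ 22 := by
      rw [← hstab, Psi.card_eq_index_normalizer]
      refine Subgroup.index_dvd_of_le ?_
      intro m hm
      have hmP : (m : G) ∈ Subgroup.normalizer ((P : Subgroup G) : Set G) := by
        have hm' : (m : G) • P = P := hm
        exact Sylow.smul_eq_iff_mem_normalizer.1 hm'
      rw [Subgroup.mem_normalizer_iff] at hmP
      show m ∈ Subgroup.normalizer ((Psi : Subgroup M) : Set M)
      rw [Subgroup.mem_normalizer_iff]
      intro y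
      rw [hPsi, hPsi]
      exact hmP y
    have hne1 : Nat.card (Sylow 3 M) ≠ 1 := by
      intro h1
      have : Subsingleton (Sylow 3 M) := (Nat.card_eq_one_iff_unique.1 h1).1
      obtain ⟨x, hx⟩ := exists_prime_orderOf_dvd_card' 3 h3
      obtain ⟨R, hR⟩ := (IsPGroup.of_card (G := Subgroup.zpowers x) (p := 3) (n := 1)
        (by rw [Nat.card_zpowers, hx, pow_one])).exists_le_sylow
      have hxS : x ∈ (Psi : Subgroup M) := Subsingleton.elim R Psi ▸ hR (Subgroup.mem_zpowers x)
      have hx1 : (x : G) ≠ 1 := fun h => by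
        rw [show x = 1 from Subtype.ext h, orderOf_one] at hx
        omega
      apply hx1
      refine hK _ fun Q => ?_
      obtain ⟨m, rfl⟩ := htrans Q
      have hn' : (Psi : Subgroup M).Normal := Psi.normal_of_subsingleton
      have h2 : m⁻¹ * x * m ∈ (Psi : Subgroup M) := by
        simpa using hn'.conj_mem x hxS m⁻¹
      refine smul_self_of_mem ?_
      rw [mem_smul_iff]
      exact (hPsi _).1 h2
    have hmod : Nat.card (Sylow 3 M) % 3 = 1 :=
      Eq.trans (card_sylow_modEq_one 3 M) (Nat.mod_eq_of_lt (by norm_num))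
    have hle := Nat.le_of_dvd (by norm_num) hdvd
    interval_cases h : Nat.card (Sylow 3 M) <;> omega
  · exfalso
    have : Fact (Nat.Prime 11) := ⟨by norm_num⟩
    obtain ⟨S₀⟩ : Nonempty (Sylow 11 (MulAction.stabilizer M P)) := inferInstance
    set C : Subgroup G := (MulAction.stabilizer M P).map M.subtype with hC
    set S : Subgroup G := ((S₀ : Subgroup (MulAction.stabilizer M P)).map
      (MulAction.stabilizer M P).subtype).map M.subtype with hS
    have hSC : S ≤ C := Subgroup.map_mono (Subgroup.map_subtype_le _)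
    have hSM : S ≤ M := Subgroup.map_subtype_le _
    have hCP : ∀ m ∈ C, ∀ u ∈ (P : Subgroup G), Commute m u := by
      rintro _ ⟨m, hm, rfl⟩ u hu
      have hmP : (m : G) • P = P := hm
      have h1 : (m : G) * u * (m : G)⁻¹ * u⁻¹ ∈ (P : Subgroup G) := by
        refine Subgroup.mul_mem _ ?_ (Subgroup.inv_mem _ hu)
        exact hmP ▸ mem_smul (g := (m : G)) P hu
      have h2 : (m : G) * u * (m : G)⁻¹ * u⁻¹ ∈ M := by
        have : (m : G) * (u * (m : G)⁻¹ * u⁻¹) ∈ M :=
          M.mul_mem m.2 (‹M.Normal›.conj_mem _ (M.inv_mem m.2) u)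
        simpa [mul_assoc] using this
      set w := (m : G) * u * (m : G)⁻¹ * u⁻¹ with hw
      have hw1 : w = 1 := by
        by_contra hne
        apply h3
        have ho : orderOf w = 3 := orderOf_eq_prime (elem_abelian hn hK P h1 h1).1 hne
        rw [← ho]
        exact M.orderOf_dvd_natCard h2
      show (m : G) * u = u * (m : G)
      exact mul_inv_eq_iff_eq_mul.1 (mul_inv_eq_one.1 hw1)
    have hcardS : Nat.card S = 11 ^ (Nat.card (MulAction.stabilizer M P)).factorization 11 := by
      rw [hS, Subgroup.card_map_of_injective M.subtype_injective,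
        Subgroup.card_map_of_injective (MulAction.stabilizer M P).subtype_injective,
        S₀.card_eq_multiplicity]
    set a := (Nat.card (MulAction.stabilizer M P)).factorization 11 with ha
    have hcardC : Nat.card C = Nat.card (MulAction.stabilizer M P) :=
      Subgroup.card_map_of_injective M.subtype_injective
    have hfacM : (Nat.card M).factorization 11 = a + 1 := by
      rw [← Subgroup.card_mul_index (MulAction.stabilizer M P), hstab,
        Nat.factorization_mul Nat.card_pos.ne' (by norm_num), Finsupp.add_apply, ← ha]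
      congr 1
      rw [show (22 : ℕ) = 11 * 2 from rfl, Nat.factorization_mul (by norm_num) (by norm_num),
        Finsupp.add_apply, Nat.Prime.factorization_self (by norm_num),
        Nat.factorization_eq_zero_of_not_dvd (by norm_num)]
    set H : Subgroup G := M ⊓ Subgroup.normalizer (S : Set G) with hH
    have hSH : S ≤ H := le_inf hSM Subgroup.le_normalizer
    have hSp : IsPGroup 11 S := IsPGroup.of_card hcardS
    have hHdvd : 11 ^ (a + 1) ∣ Nat.card H := by
      have hdvd : 11 ^ (a + 1) ∣ Nat.card M := hfacM ▸ Nat.ordProj_dvd _ _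
      have hcardS' : Nat.card (S.subgroupOf M) = 11 ^ a :=
        (Nat.card_congr (Subgroup.subgroupOfEquivOfLe hSM).toEquiv).trans hcardS
      obtain ⟨K, hK1, hK2⟩ := Sylow.exists_subgroup_card_pow_succ hdvd hcardS'
      have hKle : K ≤ Subgroup.normalizer ((S.subgroupOf M : Subgroup M) : Set M) := by
        have : ((S.subgroupOf M).subgroupOf K).Normal := by
          apply Subgroup.normal_of_index_eq_minFac_card
          have h1 := Subgroup.card_mul_index ((S.subgroupOf M).subgroupOf K)
          rw [Nat.card_congr (Subgroup.subgroupOfEquivOfLe hK2).toEquiv, hcardS', hK1, pow_succ] at h1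
          rw [hK1, Nat.pow_minFac (by omega), Nat.Prime.minFac_eq (by norm_num)]
          exact Nat.eq_of_mul_eq_mul_left (by positivity) h1
        exact (Subgroup.normal_subgroupOf_iff_le_normalizer hK2).1 this
      rw [← hK1, ← Subgroup.card_map_of_injective M.subtype_injective]
      refine Subgroup.card_dvd_of_le ?_
      rintro _ ⟨k, hk, rfl⟩
      refine ⟨k.2, ?_⟩
      show (k : G) ∈ Subgroup.normalizer (S : Set G)
      rw [Subgroup.mem_normalizer_iff]
      have hk' := Subgroup.mem_normalizer_iff.1 (hKle hk)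
      intro y
      constructor
      · intro hy
        exact (hk' ⟨y, hSM hy⟩).1 hy
      · intro hy
        have hyM : y ∈ M := by
          simpa [mul_assoc] using M.mul_mem (M.mul_mem (M.inv_mem k.2) (hSM hy)) k.2
        exact (hk' ⟨y, hyM⟩).2 hy
    have hPS : (P : Subgroup G) ≤ Subgroup.normalizer (S : Set G) := by
      intro u hu
      rw [Subgroup.mem_normalizer_iff]
      intro y
      constructor
      · intro hy
        rw [← (hCP y (hSC hy) u hu).eq, mul_inv_cancel_right]
        exact hy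
      · intro hy
        have h1 := hCP _ (hSC hy) u hu
        have h2 : y = u * y * u⁻¹ := by
          have := h1.eq
          calc y = u⁻¹ * ((u * y * u⁻¹) * u) := by group
            _ = u⁻¹ * (u * (u * y * u⁻¹)) := by rw [this]
            _ = _ := by group
        rw [h2]; exact hy
    have hPH : ∀ u ∈ (P : Subgroup G), ∀ h ∈ H, u * h * u⁻¹ ∈ H := fun u hu h hh =>
      ⟨‹M.Normal›.conj_mem h hh.1 u, Subgroup.mul_mem _ (Subgroup.mul_mem _ (hPS hu) hh.2)
        (Subgroup.inv_mem _ (hPS hu))⟩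
    have hPnorm : (P : Subgroup G) ≤ Subgroup.normalizer (H : Set G) := by
      intro u hu
      rw [Subgroup.mem_normalizer_iff]
      intro y
      refine ⟨fun hy => hPH u hu y hy, fun hy => ?_⟩
      have := hPH u⁻¹ (Subgroup.inv_mem _ hu) _ hy
      simpa [mul_assoc] using this
    let φ : (P : Subgroup G) →* MulAut H :=
      (H.normalizerMonoidHom).comp (Subgroup.inclusion hPnorm)
    let act : MulAction (P : Subgroup G) (Sylow 11 H) := MulAction.compHom _ φ
    have hex : ∃ R : Sylow 11 H, ∀ u : (P : Subgroup G), φ u • R = R := by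
      have h3n : ¬ 3 ∣ Nat.card (Sylow 11 H) := fun hd => by
        obtain ⟨R⟩ : Nonempty (Sylow 11 H) := inferInstance
        exact h3 ((hd.trans (R.card_dvd_index.trans (Subgroup.index_dvd_card _))).trans
          (Subgroup.card_dvd_of_le inf_le_left))
      obtain ⟨R, hR⟩ := P.2.nonempty_fixed_point_of_prime_not_dvd_card (Sylow 11 H) h3n
      exact ⟨R, fun u => hR u⟩
    obtain ⟨R, hR⟩ := hex
    have hRinv : ∀ u : (P : Subgroup G), ∀ r ∈ (R : Subgroup H), φ u r ∈ (R : Subgroup H) := by
      intro u r hr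
      have h1 : φ u r ∈ ((φ u • R : Sylow 11 H) : Subgroup H) := by
        rw [Sylow.pointwise_smul_def]
        exact Subgroup.mem_map_of_mem _ hr
      rwa [hR u] at h1
    let act2 : MulAction (P : Subgroup G) (R : Subgroup H) :=
      { smul := fun u r => ⟨φ u r.1, hRinv u r.1 r.2⟩
        one_smul := fun r => Subtype.ext (by show φ 1 r.1 = r.1; rw [map_one]; rfl)
        mul_smul := fun u v r => Subtype.ext (by show φ (u * v) r.1 = φ u (φ v r.1); rw [map_mul]; rfl) }
    have hmodR := P.2.card_modEq_card_fixedPoints (R : Subgroup H)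
    have hRcard : Nat.card (R : Subgroup H) = 11 ^ (a + 1) := by
      obtain ⟨j, hj⟩ := R.2.exists_card_eq
      have h1 : 11 ^ (a + 1) ∣ 11 ^ j := hj ▸ R.pow_dvd_card_of_pow_dvd_card hHdvd
      have h2 : 11 ^ j ∣ Nat.card M :=
        hj ▸ (Subgroup.card_subgroup_dvd_card _).trans (Subgroup.card_dvd_of_le inf_le_left)
      rw [(Nat.Prime.pow_dvd_iff_le_factorization (by norm_num) Nat.card_pos.ne'), hfacM] at h2
      rw [Nat.pow_dvd_pow_iff_le_right (by norm_num)] at h1
      rw [hj, show j = a + 1 by omega]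
    have hSR : S.subgroupOf H ≤ (R : Subgroup H) := by
      have hSn : (S.subgroupOf H).Normal :=
        (Subgroup.normal_subgroupOf_iff_le_normalizer hSH).2 inf_le_right
      have hp' : IsPGroup 11 (S.subgroupOf H) := hSp.comap_subtype
      exact sup_eq_left.mp (R.3 (R.2.to_sup_of_normal_right hp') le_sup_left)
    have hfixS : Nat.card (fixedPoints (P : Subgroup G) (R : Subgroup H)) = 11 ^ a := by
      rw [← hcardS]
      let T : Subgroup G := ((R : Subgroup H).map H.subtype) ⊓ C
      have hTS : T = S := by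
        have hST : S ≤ T := fun s hs =>
          Subgroup.mem_inf.2 ⟨⟨⟨s, hSH hs⟩, hSR hs, rfl⟩, hSC hs⟩
        refine (Subgroup.eq_of_le_of_card_ge hST ?_).symm
        have hTp : IsPGroup 11 T := (R.2.map H.subtype).to_le inf_le_left
        obtain ⟨j, hj⟩ := hTp.exists_card_eq
        have h1 : 11 ^ j ∣ Nat.card (MulAction.stabilizer M P) := by
          rw [← hj, ← hcardC]; exact Subgroup.card_dvd_of_le inf_le_right
        rw [(Nat.Prime.pow_dvd_iff_le_factorization (by norm_num) Nat.card_pos.ne'), ← ha] at h1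
        rw [hcardS, hj]
        exact Nat.pow_le_pow_right (by norm_num) h1
      rw [← hTS]
      refine Nat.card_congr
        { toFun := fun r => ⟨((r.1.1 : H) : G), ⟨r.1.1, r.1.2, rfl⟩, ?_⟩
          invFun := fun t => ⟨⟨⟨t.1, ?_⟩, ?_⟩, fun u => Subtype.ext (Subtype.ext ?_)⟩
          left_inv := fun r => rfl
          right_inv := fun t => rfl }
      · refine ⟨⟨((r.1.1 : H) : G), r.1.1.2.1⟩, ?_, rfl⟩
        show ((r.1.1 : H) : G) • P = P
        rw [Sylow.smul_eq_iff_mem_normalizer, ← P.coe_coe, Subgroup.mem_normalizer_iff]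
        have hcm : ∀ y ∈ (P : Subgroup G), ((r.1.1 : H) : G) * y = y * ((r.1.1 : H) : G) := by
          intro y hy
          have h := congrArg (fun z : (R : Subgroup H) => ((z.1 : H) : G)) (r.2 ⟨y, hy⟩)
          have h' : y * ((r.1.1 : H) : G) * y⁻¹ = ((r.1.1 : H) : G) := h
          exact (mul_inv_eq_iff_eq_mul.1 h').symm
        intro y
        constructor
        · intro hy
          rw [hcm y hy, mul_inv_cancel_right]
          exact hy
        · intro hy
          have h1 := hcm _ hy
          have h2 : y = ((r.1.1 : H) : G) * y * ((r.1.1 : H) : G)⁻¹ := by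
            set c := ((r.1.1 : H) : G)
            calc y = c⁻¹ * ((c * y * c⁻¹) * c) := by group
              _ = c⁻¹ * (c * (c * y * c⁻¹)) := by rw [h1]
              _ = _ := by group
          rw [h2]; exact hy
      · obtain ⟨⟨r, hr, hre⟩, -⟩ := t.2
        rw [← hre]; exact r.2
      · obtain ⟨⟨r, hr, hre⟩, -⟩ := t.2
        have hre' : r = ⟨t.1, by rw [← hre]; exact r.2⟩ := Subtype.ext hre
        rw [hre'] at hr
        exact hr
      · show (u : G) * t.1 * (u : G)⁻¹ = t.1
        rw [← (hCP t.1 t.2.2 u.1 u.2).eq, mul_inv_cancel_right]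
    rw [hfixS, hRcard, pow_succ, Nat.ModEq, Nat.mul_mod] at hmodR
    have h3' : ¬ 3 ∣ 11 ^ a := fun hd => by
      have := (by norm_num : Nat.Prime 3).dvd_of_dvd_pow hd
      norm_num at this
    omega

theorem final_case [IsSimpleGroup G] : False := by
  obtain ⟨P⟩ : Nonempty (Sylow 3 G) := inferInstance
  have hG : ¬ IsMulCommutative G := by
    intro hc
    have hnormal : (P : Subgroup G).Normal :=
      ⟨fun u hu g => by rw [hc.is_comm.comm g u, mul_inv_cancel_right]; exact hu⟩
    have := P.unique_of_normal hnormal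
    rw [Nat.card_unique] at hn
    omega
  rcases card_cases hn hK P with h | h
  · exact case_three hG hn hK P h
  · exact case_nine hG hn hK P h

end faithfulC

universe u

theorem main_aux : ∀ (n : ℕ) (G : Type u) [Group G] [Finite G],
    Nat.card G ≤ n → Nat.card (Sylow 3 G) ≠ 22 := by
  intro n
  induction n with
  | zero => intro G _ _ h; have := Nat.card_pos (α := G); omega
  | succ k ih =>
    intro G _ _ hle hn
    have : Finite (Sylow 3 G) := Nat.finite_of_card_ne_zero (by omega)
    set K := (MulAction.toPermHom G (Sylow 3 G)).ker with hKdef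
    have hKfix : ∀ g, g ∈ K ↔ ∀ Q : Sylow 3 G, g • Q = Q := by
      intro g
      rw [hKdef, MonoidHom.mem_ker, Equiv.ext_iff]
      rfl
    by_cases hK1 : K = ⊥
    · have hK : ∀ g : G, (∀ Q : Sylow 3 G, g • Q = Q) → g = 1 := fun g hg =>
        Subgroup.mem_bot.1 (hK1 ▸ (hKfix g).2 hg)
      have : Nontrivial G := by
        by_contra hnt
        rw [not_nontrivial_iff_subsingleton] at hnt
        have : Subsingleton (Sylow 3 G) :=
          ⟨fun P Q => Sylow.ext (Subsingleton.elim _ _)⟩
        rw [Nat.card_of_subsingleton (Sylow.nonempty (p := 3) (G := G)).some] at hn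
        omega
      have : IsSimpleGroup G := by
        refine { eq_bot_or_eq_top_of_normal := fun M hM => ?_ }
        by_cases hMb : M = ⊥
        · exact Or.inl hMb
        · refine Or.inr (simple_step hn hK M hMb fun hMt => ih M ?_)
          have hlt : Nat.card M < Nat.card G := lt_of_le_of_ne (Subgroup.card_le_card_group M)
            (fun he => hMt (Subgroup.card_eq_iff_eq_top M |>.1 he))
          omega
      exact final_case hn hK
    · refine ih (G ⧸ K) ?_ ?_
      · have h1 := Subgroup.card_mul_index K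
        rw [Subgroup.index_eq_card] at h1
        have h2 : 2 ≤ Nat.card K := (Subgroup.one_lt_card_iff_ne_bot K).2 hK1
        have h3 : 2 * Nat.card (G ⧸ K) ≤ Nat.card G := h1 ▸ Nat.mul_le_mul_right _ h2
        have := Nat.card_pos (α := G ⧸ K)
        omega
      · rw [← hn]
        refine (Nat.card_congr (Equiv.ofBijective
          (Sylow.mapSurjective (QuotientGroup.mk'_surjective K)) ⟨?_, Sylow.mapSurjective_surjective _ 3⟩)).symm
        intro P Q h
        have h1 : (P : Subgroup G) ≤ (Q : Subgroup G) ⊔ K := by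
          have h2 := congrArg (fun S : Sylow 3 (G ⧸ K) => (S : Subgroup (G ⧸ K))) h
          simp only [Sylow.coe_mapSurjective] at h2
          have h3 := Subgroup.map_eq_map_iff.1 h2
          rw [QuotientGroup.ker_mk'] at h3
          exact le_sup_left.trans h3.le
        have h4 : (P : Subgroup G) ≤ Subgroup.normalizer ((Q : Subgroup G) : Set G) := by
          refine h1.trans (sup_le Subgroup.le_normalizer fun g hg => ?_)
          exact Sylow.smul_eq_iff_mem_normalizer.1 ((hKfix g).1 hg Q)
        have h5 : (P : Subgroup G) ≤ Q := fun x hx => (smul_eq_iff_mem ⟨P, hx⟩ Q).1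
          (Sylow.smul_eq_iff_mem_normalizer.2 (h4 hx))
        exact Sylow.ext (P.3 Q.2 h5).symm

/-- No finite group has exactly 22 Sylow 3-subgroups. -/
theorem result {G : Type*} [Group G] [Finite G] : Nat.card (Sylow 3 G) ≠ 22 := by
  exact main_aux _ G le_rfl

end Cfsg.Agent.S4346
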