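import Cfsg.Statements.S4347
-- import your own Cfsg.Agent.* helpers here

set_option autoImplicit false
open Cfsg

namespace Cfsg.Agent.S4347


/-- Let G be a finite group and p a prime. Say a Sylow p-subgroup Q is redundant when every element of p-power order lies in some Sylow p-subgroup other than Q. Then G has no redundant Sylow p-subgroup if and only if some element of p-power order lies in exactly one Sylow p-subgroup. -/
theorem result {G : Type*} [Group G] [Finite G]
    (p : ℕ) [Fact p.Prime] :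
    (¬ ∃ Q : Sylow p G, ∀ x : G, (∃ k : ℕ, orderOf x = p ^ k) → ∃ P : Sylow p G, P ≠ Q ∧ x ∈ P) ↔
      ∃ x : G, (∃ k : ℕ, orderOf x = p ^ k) ∧ ∃! P : Sylow p G, x ∈ P := by
  constructor
  · intro h
    obtain ⟨Q⟩ : Nonempty (Sylow p G) := inferInstance
    push Not at h
    obtain ⟨x, hxp, hx⟩ := h Q
    refine ⟨x, hxp, ?_⟩
    obtain ⟨k, hk⟩ := hxp
    have hz : IsPGroup p (Subgroup.zpowers x) := IsPGroup.of_card (n := k) (by rw [Nat.card_zpowers, hk])
    obtain ⟨P, hP⟩ := hz.exists_le_sylow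
    have hxP : x ∈ P := hP (Subgroup.mem_zpowers x)
    refine ⟨P, hxP, fun R hR => ?_⟩
    by_contra hne
    by_cases hPQ : P = Q
    · exact hx R (hPQ ▸ hne) hR
    · exact hx P hPQ hxP
  · rintro ⟨x, hxp, P, hxP, huniq⟩ ⟨Q, hQ⟩
    obtain ⟨g, hg⟩ := MulAction.exists_smul_eq G P Q
    obtain ⟨R, hRne, hR⟩ := hQ (g * x * g⁻¹) (by
      obtain ⟨k, hk⟩ := hxp
      exact ⟨k, by rw [← hk]; exact (MulAut.conj g).orderOf_eq x⟩)
    apply hRne
    have : g⁻¹ • R = P := huniq _ (by
      show x ∈ ((g⁻¹ • R : Sylow p G) : Subgroup G)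
      rw [Sylow.coe_subgroup_smul, Subgroup.mem_pointwise_smul_iff_inv_smul_mem]
      simpa using (show g * x * g⁻¹ ∈ (R : Subgroup G) from hR))
    rw [← hg, ← this, smul_inv_smul]

end Cfsg.Agent.S4347
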