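import Cfsg.Statements.S4348
-- import your own Cfsg.Agent.* helpers here

set_option autoImplicit false
open Cfsg

namespace Cfsg.Agent.S4348


/-- Let G be a finite group, p a prime and P a Sylow p-subgroup of G, and let O_p(G) be the largest normal p-subgroup of G. If P/O_p(G) is cyclic, then some element of p-power order of G lies in exactly one Sylow p-subgroup. -/
theorem result {G : Type*} [Group G] [Finite G]
    (p : ℕ) [Fact p.Prime] (P : Sylow p G)
    [hn : ((Cfsg.pCore p G).subgroupOf (P : Subgroup G)).Normal]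
    (hc : IsCyclic ((P : Subgroup G) ⧸ (Cfsg.pCore p G).subgroupOf (P : Subgroup G))) :
    ∃ x : G, (∃ k : ℕ, orderOf x = p ^ k) ∧ ∃! Q : Sylow p G, x ∈ Q := by
  obtain ⟨y, hy⟩ := hc.exists_generator
  obtain ⟨x, rfl⟩ := QuotientGroup.mk_surjective y
  refine ⟨x, ?_, P, x.2, ?_⟩
  · obtain ⟨k, hk⟩ := IsPGroup.iff_orderOf.mp P.isPGroup' x
    exact ⟨k, by rw [Subgroup.orderOf_coe]; exact hk⟩
  intro Q hxQ
  have hO : Cfsg.pCore p G ≤ (Q : Subgroup G) := by
    haveI : (Cfsg.pCore p G).Normal := Subgroup.sSup_normal _ (fun H h => h.1)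
    exact IsPGroup.le_sylow_of_normal (show IsPGroup p (Cfsg.pCore p G) from Sylow.sSup_of_normal _ (fun H h => h.2) (fun H h => h.1)) Q
  have hle : (P : Subgroup G) ≤ Q := by
    intro z hz
    obtain ⟨n, hn⟩ := Subgroup.mem_zpowers_iff.mp (hy (QuotientGroup.mk (⟨z, hz⟩ : (P : Subgroup G))))
    rw [← QuotientGroup.mk_zpow, QuotientGroup.eq, Subgroup.mem_subgroupOf] at hn
    have h1 : ((x : G) ^ n)⁻¹ * z ∈ (Q : Subgroup G) := hO (by simpa using hn)
    have h2 : (x : G) ^ n ∈ (Q : Subgroup G) := zpow_mem hxQ n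
    simpa using mul_mem h2 h1
  exact Sylow.ext (P.is_maximal' Q.isPGroup' hle)

end Cfsg.Agent.S4348
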