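import Cfsg.Statements.S4351
import Cfsg.Agent.Lib.CNStructure57
import Cfsg.Agent.Lib.CNQuadratic57
import Cfsg.Agent.Lib.CNFacts57
import Cfsg.Agent.Lib.CNFactsPSL57
import Cfsg.Agent.Lib.CNFactsSz57
import Cfsg.Agent.Lib.CNFactsPSL34_57
import Cfsg.Agent.Lib.CNSuzukiIso57
import Cfsg.Agent.Lib.FpfModules86SL2
import Cfsg.Agent.Lib.FpfModules86Sz
import Cfsg.Agent.Lib.PSL2Small
import Cfsg.Agent.Lib.CNTypePSL7
import Cfsg.Agent.S0337

set_option autoImplicit false
open Cfsg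

namespace Cfsg.Agent.S4351

open Subgroup

universe u

/-- The possible simple subgroups. -/
def Shape (L : Type u) [Group L] : Prop :=
  (∃ (F : Type) (_ : Field F) (_ : Fintype F), Fintype.card F = 9 ∧
      Nonempty (L ≃* Matrix.ProjectiveSpecialLinearGroup (Fin 2) F)) ∨
  (∃ (F : Type) (_ : Field F) (_ : Fintype F), Fintype.card F = 4 ∧
      Nonempty (L ≃* Matrix.ProjectiveSpecialLinearGroup (Fin 3) F)) ∨
  (∃ (F : Type) (_ : Field F) (_ : Fintype F), CharP F 2 ∧ 4 ≤ Fintype.card F ∧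
      Nonempty (L ≃* Matrix.ProjectiveSpecialLinearGroup (Fin 2) F)) ∨
  (∃ (F : Type) (_ : Field F) (_ : Fintype F), (Fintype.card F).Prime ∧ 5 ≤ Fintype.card F ∧
      (∃ k : ℕ, Fintype.card F = 2 ^ k + 1 ∨ Fintype.card F = 2 ^ k - 1) ∧
      Nonempty (L ≃* Matrix.ProjectiveSpecialLinearGroup (Fin 2) F)) ∨
  (Cfsg.IsSuzuki L ∧ ∃ (F : Type) (_ : Field F) (m : ℕ) (_ : SuzukiGroupBasic.Param F m),
      Nonempty (L ≃* Cfsg.Sz F m))

theorem card_psl2_small {F : Type} [Field F] [Fintype F] (h : Fintype.card F = 2 ∨ Fintype.card F = 3) :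
    Nat.card (Matrix.ProjectiveSpecialLinearGroup (Fin 2) F) = 6 ∨
      Nat.card (Matrix.ProjectiveSpecialLinearGroup (Fin 2) F) = 12 := by
  rw [PSLCard.card_PSL2, Nat.card_eq_fintype_card]
  rcases h with h | h <;> rw [h]
  · exact Or.inl rfl
  · exact Or.inr rfl

theorem shape {L : Type u} [Group L] [Finite L] [IsSimpleGroup L]
    (hna : ∃ a b : L, a * b ≠ b * a) (hCN : Cfsg.IsCNGroup L) : Shape L := by
  rcases S0337.result hna hCN with ⟨F, iF, iF', hq, ⟨e⟩⟩ | h | h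
  · have hsmall : Fintype.card F = 2 ∨ Fintype.card F = 3 → False := fun h => by
      rcases card_psl2_small h with h' | h'
      · exact CNTypePSL7.not_simple_small (X := L) (Or.inl ((Nat.card_congr e.toEquiv).trans h'))
      · exact CNTypePSL7.not_simple_small (X := L) (Or.inr ((Nat.card_congr e.toEquiv).trans h'))
    have h1 := Fintype.one_lt_card (α := F)
    rcases hq with h | ⟨n, hn⟩ | ⟨hp, k, hk⟩
    · exact Or.inl ⟨F, iF, iF', h, ⟨e⟩⟩
    · refine Or.inr (Or.inr (Or.inl ⟨F, iF, iF', ?_, ?_, ⟨e⟩⟩))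
      · obtain ⟨p, hpF⟩ := CharP.exists F
        obtain ⟨j, hpp, hj⟩ := FiniteField.card F p
        have hd : p ∣ 2 ^ n := by rw [← hn, hj]; exact dvd_pow_self p j.ne_zero
        rwa [(Nat.prime_dvd_prime_iff_eq hpp Nat.prime_two).mp (hpp.dvd_of_dvd_pow hd)] at hpF
      · by_contra h4
        exact hsmall (by omega)
    · refine Or.inr (Or.inr (Or.inr (Or.inl ⟨F, iF, iF', hp, ?_, ⟨k, by omega⟩, ⟨e⟩⟩)))
      by_contra h5
      have h4 : Fintype.card F ≠ 4 := fun e4 => by rw [e4] at hp; norm_num at hp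
      exact hsmall (by omega)
  · exact Or.inr (Or.inl h)
  · exact Or.inr (Or.inr (Or.inr (Or.inr ⟨h, CNSuzukiIso57.iso_sz h hCN hna⟩)))

theorem commuting_pair {X : Type*} [Group X] {D : Subgroup X} (hD : Nat.card D = 9)
    (h3 : ∀ x ∈ D, x ^ 3 = 1) :
    ∃ x y : X, orderOf x = 3 ∧ orderOf y = 3 ∧ Commute x y ∧ x⁻¹ * y ≠ 1 ∧ x⁻¹ * (y * y) ≠ 1 := by
  haveI : Fact (Nat.Prime 3) := ⟨Nat.prime_three⟩
  haveI : Finite D := Nat.finite_of_card_ne_zero (by omega)
  have ho : ∀ x ∈ D, x ≠ 1 → orderOf x = 3 := fun x hx h => orderOf_eq_prime (h3 x hx) h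
  obtain ⟨⟨x, hx⟩, hx1⟩ := Subgroup.ne_bot_iff_exists_ne_one.mp (fun e : D = ⊥ => by
    rw [e, Subgroup.card_bot] at hD; omega)
  have hx1' : x ≠ 1 := fun e => hx1 (Subtype.ext e)
  obtain ⟨y, hy, hyx⟩ : ∃ y ∈ D, y ∉ zpowers x := by
    by_contra h
    push Not at h
    have hle := Subgroup.card_dvd_of_le (show D ≤ zpowers x from h)
    rw [Nat.card_zpowers, ho x hx hx1', hD] at hle
    norm_num at hle
  have hc : IsMulCommutative D := IsPGroup.isMulCommutative_of_card_eq_prime_sq (p := 3) (by rw [hD]; rfl)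
  refine ⟨x, y, ho x hx hx1', ho y hy fun e => hyx (e ▸ one_mem _),
    congrArg Subtype.val (hc.is_comm.comm ⟨x, hx⟩ ⟨y, hy⟩), fun e => hyx ?_, fun e => hyx ?_⟩
  · rw [← inv_mul_eq_one.mp e]
    exact mem_zpowers x
  · have hxy : x = y * y := inv_mul_eq_one.mp e
    have : y = x * x := by
      rw [hxy, show y * y * (y * y) = y ^ 3 * y by rw [pow_three']; simp only [mul_assoc], h3 y hy,
        one_mul]
    rw [this]
    exact mul_mem (mem_zpowers x) (mem_zpowers x)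

variable {G : Type u} [Group G] [Finite G]

theorem eq_top_of_index {L : Subgroup G} (h : L.index ∣ 1) : L = ⊤ :=
  Subgroup.index_eq_one.mp (Nat.dvd_one.mp h)

theorem two_pow_odd {n : ℕ} {q : ℕ} (hp : ∀ r : ℕ, r.Prime → r ∣ n → r = 2) (hn : n ∣ q) (hq : Odd q) :
    n = 1 := by
  by_contra h
  obtain ⟨r, hr, hrn⟩ := Nat.exists_prime_and_dvd h
  obtain rfl := hp r hr hrn
  exact Nat.not_even_iff_odd.mpr hq (even_iff_two_dvd.mpr (hrn.trans hn))

/-- The socle is everything, except for `PSL₂(9)`, where it may have index two. -/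
theorem socle_top (hCN : Cfsg.IsCNGroup G) (L : Subgroup G) [L.Normal] (hLs : IsSimpleGroup L)
    (hLna : ∃ a b : L, a * b ≠ b * a) :
    Shape L ∧ (L = ⊤ ∨ (L.index = 2 ∧ ∃ (F : Type) (_ : Field F) (_ : Fintype F),
      Fintype.card F = 9 ∧ Nonempty (L ≃* Matrix.ProjectiveSpecialLinearGroup (Fin 2) F))) := by
  haveI := hLs
  have hs := shape hLna (CNBasic.subgroup hCN L)
  refine ⟨hs, ?_⟩
  rcases hs with ⟨F, iF, iF', h9, ⟨e⟩⟩ | ⟨F, iF, iF', h4, ⟨e⟩⟩ | ⟨F, iF, iF', h2, hq, ⟨e⟩⟩ |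
    ⟨F, iF, iF', hp, h5, hk, ⟨e⟩⟩ | ⟨-, F, iF, m, iP, ⟨e⟩⟩
  · obtain ⟨D, hD, -, f⟩ := CNFactsPSL57.facts_nine (F := F) (by rw [Nat.card_eq_fintype_card, h9])
    have h := CNFacts57.bound hCN L hLs hLna e f
    rw [hD] at h
    have h2 : L.index ∣ 2 := Nat.dvd_of_mul_dvd_mul_left (k := 4) (by norm_num) h
    rcases (Nat.dvd_prime Nat.prime_two).mp h2 with h' | h'
    · exact Or.inl (Subgroup.index_eq_one.mp h')
    · exact Or.inr ⟨h', F, iF, iF', h9, ⟨e⟩⟩
  · obtain ⟨w, hw0, hw1⟩ : ∃ w : F, w ≠ 0 ∧ w ≠ 1 := by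
      classical
      by_contra h
      push Not at h
      have hsub : (Finset.univ : Finset F) ⊆ {0, 1} := fun w _ => by
        by_cases hw : w = 0 <;> simp [hw, h w]
      have := (Finset.card_le_card hsub).trans Finset.card_le_two
      rw [Finset.card_univ, h4] at this
      omega
    have hw3 := FiniteField.pow_card_sub_one_eq_one w hw0
    rw [h4] at hw3
    have hw : w ^ 2 + w + 1 = 0 :=
      (mul_eq_zero.mp (show (w - 1) * (w ^ 2 + w + 1) = 0 by linear_combination hw3)).resolve_left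
        (sub_ne_zero.mpr hw1)
    obtain ⟨D, hD, -, f⟩ := CNFactsPSL34_57.facts w hw h4
    have h := CNFacts57.bound hCN L hLs hLna e f
    rw [hD] at h
    exact Or.inl (eq_top_of_index (Nat.dvd_of_mul_dvd_mul_left (k := 8) (by norm_num) h))
  · have h20 : (2 : F) = 0 := by exact_mod_cast CharP.cast_eq_zero F 2
    obtain ⟨D, hD, f⟩ := CNFactsPSL57.facts_three (F := F)
      (fun h3 => one_ne_zero (show (1 : F) = 0 by linear_combination h3 - h20))
      (CNFactsPSL57.cit_even h20)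
    have h := CNFacts57.bound hCN L hLs hLna e f
    rw [hD] at h
    exact Or.inl (eq_top_of_index (Nat.dvd_of_mul_dvd_mul_left (k := 2) (by norm_num) h))
  · haveI : Fact (Fintype.card F).Prime := ⟨hp⟩
    haveI : CharP F (Fintype.card F) := charP_of_card_eq_prime (p := Fintype.card F) rfl
    have hne : ∀ r : ℕ, 0 < r → r < 5 → (r : F) ≠ 0 := fun r hr0 hr5 hr => by
      have := Nat.le_of_dvd hr0 ((CharP.cast_eq_zero_iff F (Fintype.card F) r).mp hr)
      omega
    obtain ⟨D, hD, f⟩ := CNFactsPSL57.facts_three (F := F)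
      (by exact_mod_cast hne 3 (by norm_num) (by norm_num))
      (CNFactsPSL57.cit_odd (by exact_mod_cast hne 2 (by norm_num) (by norm_num))
        (Or.inr (by rw [Nat.card_eq_fintype_card]; exact ⟨hp, hk⟩)))
    have h := CNFacts57.bound hCN L hLs hLna e f
    rw [hD] at h
    exact Or.inl (eq_top_of_index (Nat.dvd_of_mul_dvd_mul_left (k := 2) (by norm_num) h))
  · obtain ⟨D, hD, f⟩ := CNFactsSz57.facts_sz (F := F) (m := m)
    have h := CNFacts57.bound hCN L hLs hLna e f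
    rw [hD, show 2 ^ (2 * m + 1) - 1 - 1 = 2 * (2 ^ (2 * m) - 1) by rw [pow_succ]; omega, pow_one] at h
    refine Or.inl (Subgroup.index_eq_one.mp (two_pow_odd
      (CNAlmostSimple57.index_two_pow hCN L hLs hLna fun a ha b hb ha2 hb2 => ?_)
      (Nat.dvd_of_mul_dvd_mul_left two_pos h) ?_))
    · obtain ⟨c, hc⟩ := isConj_iff.mp (f.one (e ⟨a, ha⟩) (e ⟨b, hb⟩)
        (by rw [MulEquiv.orderOf_eq, Subgroup.orderOf_mk, ha2])
        (by rw [MulEquiv.orderOf_eq, Subgroup.orderOf_mk, hb2]))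
      refine ⟨(e.symm c : L), (e.symm c).2, ?_⟩
      have := congrArg (fun z => ((e.symm z : L) : G)) hc
      simpa using this
    · have := SuzukiGroupBasic.one_le (F := F) (m := m)
      exact Nat.Even.sub_odd Nat.one_le_two_pow ((Nat.even_pow).mpr ⟨even_two, by omega⟩) odd_one

theorem psl2_five_four {F : Type} [Field F] [Fintype F] (h5 : Fintype.card F = 5) {L : Type u}
    [Group L] (e : L ≃* Matrix.ProjectiveSpecialLinearGroup (Fin 2) F) :
    ∃ (K : Type) (_ : Field K) (_ : Fintype K), CharP K 2 ∧ 4 ≤ Fintype.card K ∧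
      Nonempty (L ≃* Matrix.ProjectiveSpecialLinearGroup (Fin 2) K) := by
  let K := GaloisField 2 2
  letI : Fintype K := Fintype.ofFinite K
  have hK : Nat.card K = 4 := GaloisField.card 2 2 two_ne_zero
  obtain ⟨a⟩ := PSL2Small.psl2_four K hK
  obtain ⟨b⟩ := PSL2Small.psl2_five F (by rw [Nat.card_eq_fintype_card, h5])
  refine ⟨K, inferInstance, inferInstance, inferInstance, ?_, ⟨e.trans (b.trans a.symm)⟩⟩
  rw [← Nat.card_eq_fintype_card, hK]

theorem main (hG : ¬ Group.IsSolvable G) (hCN : Cfsg.IsCNGroup G) :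
    (IsSimpleGroup G ∧ ¬ IsMulCommutative G) ∨
    (∃ (N : Subgroup G), N.Normal ∧ N.index = 2 ∧ ∃ (F : Type) (_ : Field F) (_ : Fintype F), Fintype.card F = 9 ∧
        Nonempty (N ≃* Matrix.ProjectiveSpecialLinearGroup (Fin 2) F)) ∨
    (∃ (N : Subgroup G) (_ : N.Normal), N ≠ ⊥ ∧ IsPGroup 2 N ∧ IsMulCommutative N ∧ (∀ x ∈ N, x * x = 1) ∧
        ((∃ (F : Type) (_ : Field F) (_ : Fintype F), CharP F 2 ∧ 4 ≤ Fintype.card F ∧
            Nonempty (G ⧸ N ≃* Matrix.ProjectiveSpecialLinearGroup (Fin 2) F)) ∨ Cfsg.IsSuzuki (G ⧸ N))) := by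
  haveI : Fact (Nat.Prime 2) := ⟨Nat.prime_two⟩
  by_cases hU : Cfsg.pCore 2 G = ⊥
  · haveI : Nontrivial G := not_subsingleton_iff_nontrivial.mp fun h => hG (by infer_instance)
    obtain ⟨L, hLn, hLs, hLna, -⟩ := CNStructure57.exists_socle hCN fun N hN hNs => by
      haveI := hN
      exact CNStructure57.no_solvable_normal hCN hG hU N hNs
    haveI := hLn
    obtain ⟨-, htop | ⟨h2, h⟩⟩ := socle_top hCN L hLs hLna
    · subst htop
      haveI := hLs
      refine Or.inl ⟨Subgroup.topEquiv.symm.isSimpleGroup, fun hc => ?_⟩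
      obtain ⟨a, b, hab⟩ := hLna
      exact hab (Subtype.ext (hc.is_comm.comm (a : G) (b : G)))
    · exact Or.inr (Or.inl ⟨L, hLn, h2, h⟩)
  haveI hUn : (Cfsg.pCore 2 G).Normal := HallCore.pCore_normal 2 G
  obtain ⟨R, iR, iR', ρ, hρ⟩ := CNQuadratic57.exists_fpf hCN hG hU
  obtain ⟨hCNq, hsq, hsol⟩ := CNStructure57.quotient_no_solvable_normal hCN hG
  haveI : Nontrivial (G ⧸ Cfsg.pCore 2 G) :=
    not_subsingleton_iff_nontrivial.mp fun h => hsq (by infer_instance)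
  obtain ⟨L, hLn, hLs, hLna, -⟩ := CNStructure57.exists_socle hCNq hsol
  haveI := hLn
  obtain ⟨hshape, htop⟩ := socle_top hCNq L hLs hLna
  -- the representation restricted to a group isomorphic to `L`
  have hres : ∀ {X : Type} [Group X], (L ≃* X) → ∃ σ : X →* R, CNQuadratic57.Fpf σ := by
    intro X _ e
    refine ⟨ρ.comp (L.subtype.comp e.symm.toMonoidHom), hρ.1, fun y hy hy1 a ha => hρ.2 _ ?_ ?_ a ha⟩
    · show Odd (orderOf ((e.symm y : L) : G ⧸ Cfsg.pCore 2 G))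
      rwa [Subgroup.orderOf_coe, MulEquiv.orderOf_eq]
    · exact fun h => hy1 (e.symm.injective ((Subtype.ext h : e.symm y = 1).trans (map_one _).symm))
  have hnine : ∀ (F : Type) (_ : Field F) (_ : Fintype F), Fintype.card F = 9 →
      (L ≃* Matrix.ProjectiveSpecialLinearGroup (Fin 2) F) → False := by
    intro F _ _ h9 e
    obtain ⟨D, hD, h3, -⟩ := CNFactsPSL57.facts_nine (F := F) (by rw [Nat.card_eq_fintype_card, h9])
    obtain ⟨x, y, hx, hy, hc, h1, h2⟩ := commuting_pair hD h3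
    obtain ⟨σ, hσ⟩ := hres e
    exact CNQuadratic57.no_commuting_pair hσ hx hy hc h1 h2
  have hL : L = ⊤ := htop.resolve_right fun ⟨_, F, iF, iF', h9, ⟨e⟩⟩ => hnine F iF iF' h9 e
  have q : G ⧸ Cfsg.pCore 2 G ≃* L := (Subgroup.topEquiv.symm).trans (MulEquiv.subgroupCongr hL.symm)
  have hfpf : ∀ x : G, Odd (orderOf x) → x ≠ 1 → ∀ d ∈ Cfsg.pCore 2 G, x * d = d * x → d = 1 :=
    fun x hx hx1 d hd hc => by
      by_contra hd1
      exact hx1 (CNStructure57.fpf hCN hG hx hd hd1 hc)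
  have hU2 := HallCore.isPGroup_pCore 2 G
  have fin2 : ∀ (F : Type) (_ : Field F) (_ : Fintype F), CharP F 2 → 4 ≤ Fintype.card F →
      (L ≃* Matrix.ProjectiveSpecialLinearGroup (Fin 2) F) →
      IsMulCommutative (Cfsg.pCore 2 G) ∧ ∀ d ∈ Cfsg.pCore 2 G, d * d = 1 := by
    intro F _ _ hc h4 e
    exact FpfModules86.elementary_psl2 (by rwa [Nat.card_eq_fintype_card]) (Cfsg.pCore 2 G) hU2
      ((q.trans e).toMonoidHom.comp (QuotientGroup.mk' _))
      ((q.trans e).surjective.comp (QuotientGroup.mk'_surjective _))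
      (by rw [MonoidHom.ker_comp_of_injective _ _ (q.trans e).injective, QuotientGroup.ker_mk'])
      hfpf
  refine Or.inr (Or.inr ⟨Cfsg.pCore 2 G, hUn, hU, hU2, ?_⟩)
  rcases hshape with ⟨F, iF, iF', h9, ⟨e⟩⟩ | ⟨F, iF, iF', h4, ⟨e⟩⟩ | ⟨F, iF, iF', hc, hq, ⟨e⟩⟩ |
    ⟨F, iF, iF', hp, h5, hk, ⟨e⟩⟩ | ⟨hS, F, iF, m, iP, ⟨e⟩⟩
  · exact (hnine F iF iF' h9 e).elim
  · exfalso
    obtain ⟨w, hw⟩ : ∃ w : F, w ^ 2 + w + 1 = 0 := by
      classical
      obtain ⟨w, hw0, hw1⟩ : ∃ w : F, w ≠ 0 ∧ w ≠ 1 := by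
        by_contra h
        push Not at h
        have hsub : (Finset.univ : Finset F) ⊆ {0, 1} := fun w _ => by
          by_cases hw : w = 0 <;> simp [hw, h w]
        have := (Finset.card_le_card hsub).trans Finset.card_le_two
        rw [Finset.card_univ, h4] at this
        omega
      have hw3 := FiniteField.pow_card_sub_one_eq_one w hw0
      rw [h4] at hw3
      exact ⟨w, (mul_eq_zero.mp (show (w - 1) * (w ^ 2 + w + 1) = 0 by
        linear_combination hw3)).resolve_left (sub_ne_zero.mpr hw1)⟩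
    obtain ⟨D, hD, h3, -⟩ := CNFactsPSL34_57.facts w hw h4
    obtain ⟨x, y, hx, hy, hcm, h1, h2⟩ := commuting_pair hD h3
    obtain ⟨σ, hσ⟩ := hres e
    exact CNQuadratic57.no_commuting_pair hσ hx hy hcm h1 h2
  · obtain ⟨hab, hexp⟩ := fin2 F iF iF' hc hq e
    exact ⟨hab, hexp, Or.inl ⟨F, iF, iF', hc, hq, ⟨q.trans e⟩⟩⟩
  · rcases Nat.lt_or_ge (Fintype.card F) 7 with h7 | h7
    · have h5' : Fintype.card F = 5 := by
        have h6 : Fintype.card F ≠ 6 := fun e6 => by rw [e6] at hp; norm_num at hp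
        omega
      obtain ⟨K, iK, iK', hcK, hqK, ⟨eK⟩⟩ := psl2_five_four h5' e
      obtain ⟨hab, hexp⟩ := fin2 K iK iK' hcK hqK eK
      exact ⟨hab, hexp, Or.inl ⟨K, iK, iK', hcK, hqK, ⟨q.trans eK⟩⟩⟩
    · obtain ⟨σ, hσ⟩ := hres e
      exact (CNQuadratic57.no_psl2 hσ (by rwa [Nat.card_eq_fintype_card])
        (by rwa [Nat.card_eq_fintype_card])).elim
  · obtain ⟨hab, hexp⟩ := FpfModules86.elementary_suzuki (Cfsg.pCore 2 G) hU2
      ((q.trans e).toMonoidHom.comp (QuotientGroup.mk' _))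
      ((q.trans e).surjective.comp (QuotientGroup.mk'_surjective _))
      (by rw [MonoidHom.ker_comp_of_injective _ _ (q.trans e).injective, QuotientGroup.ker_mk'])
      hfpf
    obtain ⟨hs, n, hn, hc⟩ := hS
    haveI := hs
    exact ⟨hab, hexp, Or.inr ⟨q.isSimpleGroup, n, hn, (Nat.card_congr q.toEquiv).trans hc⟩⟩

/-- Let G be a finite non-solvable group in which the centralizer of every non-identity element is nilpotent. Then G is a non-abelian simple group; or G has a normal subgroup of index 2 isomorphic to PSL(2, 9); or G has a nontrivial normal elementary abelian 2-subgroup N such that G/N is isomorphic to PSL(2, q) for some q = 2ⁿ ≥ 4 or is a simple group of Suzuki type (simple, of the order of a Suzuki group). -/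
theorem result {G : Type*} [Group G] [Finite G] (hG : ¬ Group.IsSolvable G)
    (hCN : ∀ x : G, x ≠ 1 → Group.IsNilpotent (Subgroup.centralizer ({x} : Set G))) :
    (IsSimpleGroup G ∧ ¬ IsMulCommutative G) ∨
    (∃ (N : Subgroup G), N.Normal ∧ N.index = 2 ∧ ∃ (F : Type) (_ : Field F) (_ : Fintype F), Fintype.card F = 9 ∧
        Nonempty (N ≃* Matrix.ProjectiveSpecialLinearGroup (Fin 2) F)) ∨
    (∃ (N : Subgroup G) (_ : N.Normal), N ≠ ⊥ ∧ IsPGroup 2 N ∧ IsMulCommutative N ∧ (∀ x ∈ N, x * x = 1) ∧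
        ((∃ (F : Type) (_ : Field F) (_ : Fintype F), CharP F 2 ∧ 4 ≤ Fintype.card F ∧
            Nonempty (G ⧸ N ≃* Matrix.ProjectiveSpecialLinearGroup (Fin 2) F)) ∨ Cfsg.IsSuzuki (G ⧸ N))) :=
  main hG hCN

end Cfsg.Agent.S4351
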