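import Cfsg.Statements.S4354
-- import your own Cfsg.Agent.* helpers here
import Cfsg.Agent.Lib.SylowCount

set_option autoImplicit false
open Cfsg

namespace Cfsg.Agent.S4354

open Pointwise Cfsg.Agent

/-- The hypothesis of the statement, for brevity. -/
def Cond (p : ℕ) (G : Type*) [Group G] : Prop :=
  ∀ x : G, (∃ k : ℕ, orderOf x = p ^ k) → ¬ p ∣ (Subgroup.centralizer ({x} : Set G)).index

variable {G : Type*} [Group G] [Finite G] {p : ℕ} [Fact p.Prime]

theorem cond_sub (h : Cond p G) (N : Subgroup G) [N.Normal] : Cond p N := by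
  rintro ⟨x, hx⟩ ⟨k, hk⟩ hd
  apply h x ⟨k, by rw [← hk, Subgroup.orderOf_mk]⟩
  refine hd.trans ?_
  have e : Subgroup.centralizer ({(⟨x, hx⟩ : N)} : Set N) = (Subgroup.centralizer ({x} : Set G)).subgroupOf N := by
    ext y
    simp [Subgroup.mem_subgroupOf, Subgroup.mem_centralizer_singleton_iff, Subtype.ext_iff]
  rw [e]
  change (Subgroup.centralizer ({x} : Set G)).relIndex N ∣ _
  rw [SylowCount.relIndex_eq_sup]
  exact Subgroup.relIndex_dvd_index_of_le le_sup_left

theorem exists_lift (N : Subgroup G) [N.Normal] (y : G ⧸ N) (hy : ∃ k : ℕ, orderOf y = p ^ k) :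
    ∃ x : G, (∃ k : ℕ, orderOf x = p ^ k) ∧ QuotientGroup.mk' N x = y := by
  obtain ⟨k, hk⟩ := hy
  obtain ⟨z, rfl⟩ := QuotientGroup.mk'_surjective N y
  set o := orderOf z with ho
  have ho0 : 0 < o := orderOf_pos z
  set a := o.factorization p
  set m := o / p ^ a
  have hm : (p ^ a).Coprime m := (Nat.coprime_ordCompl Fact.out ho0.ne').pow_left a
  have hom : p ^ a * m = o := Nat.ordProj_mul_ordCompl_eq_self o p
  have hmk : m.Coprime (p ^ k) := ((Nat.coprime_ordCompl Fact.out ho0.ne').pow_left k).symm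
  obtain ⟨n, hn⟩ := exists_pow_eq_self_of_coprime (x := QuotientGroup.mk' N z) (n := m) (hk ▸ hmk)
  refine ⟨(z ^ m) ^ n, ?_, ?_⟩
  · have hdvd : orderOf ((z ^ m) ^ n) ∣ p ^ a := by
      apply orderOf_dvd_of_pow_eq_one
      rw [← pow_mul, ← pow_mul, show m * (n * p ^ a) = o * n by rw [← hom]; ring, pow_mul, ho,
        pow_orderOf_eq_one, one_pow]
    obtain ⟨j, -, hj⟩ := (Nat.dvd_prime_pow Fact.out).mp hdvd
    exact ⟨j, hj⟩
  · rw [map_pow, map_pow, hn]

theorem cond_quot (h : Cond p G) (N : Subgroup G) [N.Normal] : Cond p (G ⧸ N) := by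
  intro y hy hd
  obtain ⟨x, hx, rfl⟩ := exists_lift N y hy
  apply h x hx
  refine hd.trans ?_
  refine dvd_trans (Subgroup.index_dvd_of_le (H := (Subgroup.centralizer ({x} : Set G)).map (QuotientGroup.mk' N)) ?_)
    ((Subgroup.centralizer ({x} : Set G)).index_map_dvd (QuotientGroup.mk'_surjective N))
  rintro _ ⟨c, hc, rfl⟩
  rw [Subgroup.mem_centralizer_singleton_iff, ← map_mul, ← map_mul,
    Subgroup.mem_centralizer_singleton_iff.mp hc]

/-- A `p`-element lies, centrally, in a Sylow subgroup containing any given `p`-subgroup it centralizes. -/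
theorem exists_central_sylow (h : Cond p G) (x : G) (hx : ∃ k : ℕ, orderOf x = p ^ k) (D : Subgroup G)
    (hD : IsPGroup p D) (hDx : D ≤ Subgroup.centralizer ({x} : Set G)) :
    ∃ Q : Sylow p G, D ≤ (Q : Subgroup G) ∧ x ∈ Q ∧ ∀ y ∈ (Q : Subgroup G), y * x = x * y := by
  set C := Subgroup.centralizer ({x} : Set G)
  obtain ⟨k, hk⟩ := hx
  have hz : IsPGroup p (Subgroup.zpowers x) := IsPGroup.of_card (n := k) (by rw [Nat.card_zpowers, hk])
  have hxC : Subgroup.zpowers x ≤ C := by
    rw [Subgroup.zpowers_le]; exact Subgroup.mem_centralizer_singleton_iff.mpr rfl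
  have hDz : D ≤ Subgroup.normalizer (Subgroup.zpowers x : Set G) := by
    intro d hd
    have e : d * x * d⁻¹ = x := by rw [Subgroup.mem_centralizer_singleton_iff.mp (hDx hd)]; group
    rw [Subgroup.mem_normalizer_iff_map_conj_eq, MonoidHom.map_zpowers]
    change Subgroup.zpowers (d * x * d⁻¹) = Subgroup.zpowers x
    rw [e]
  have hp2 : IsPGroup p (D ⊔ Subgroup.zpowers x : Subgroup G) := IsPGroup.to_sup_of_normal_right' hD hz hDz
  obtain ⟨R, hR⟩ := (hp2.comap_subtype (K := C)).exists_le_sylow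
  have hidx : ¬ p ∣ ((R : Subgroup C).map C.subtype).index := by
    rw [Subgroup.index_map_subtype]
    intro hd
    rcases (Nat.Prime.dvd_mul Fact.out).1 hd with hd | hd
    · exact R.not_dvd_index hd
    · exact h x ⟨k, hk⟩ hd
  refine ⟨(R.isPGroup'.map C.subtype).toSylow hidx, ?_, ?_, ?_⟩
  · rw [IsPGroup.toSylow_coe]
    intro d hd
    exact ⟨⟨d, hDx hd⟩, hR (Subgroup.mem_sup_left hd : d ∈ D ⊔ Subgroup.zpowers x), rfl⟩
  · rw [IsPGroup.mem_toSylow]
    exact ⟨⟨x, hxC (Subgroup.mem_zpowers x)⟩, hR (Subgroup.mem_sup_right (Subgroup.mem_zpowers x) : x ∈ D ⊔ Subgroup.zpowers x), rfl⟩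
  · rw [IsPGroup.toSylow_coe]
    rintro _ ⟨y, _, rfl⟩
    exact Subgroup.mem_centralizer_singleton_iff.mp y.2

theorem core (h : Cond p G) (P : Sylow p G) (M : Subgroup G) [hMn : M.Normal]
    (hmax : ∀ N : Subgroup G, N.Normal → M ≤ N → N = M ∨ N = ⊤)
    (hPM : ¬ (P : Subgroup G) ≤ M)
    (hD : ∀ a ∈ (P : Subgroup G) ⊓ M, ∀ b ∈ (P : Subgroup G) ⊓ M, a * b = b * a)
    (hQ : ∀ R : Sylow p (G ⧸ M), IsMulCommutative (R : Subgroup (G ⧸ M))) :
    ∀ a ∈ (P : Subgroup G), ∀ b ∈ (P : Subgroup G), a * b = b * a := by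
  set D := (P : Subgroup G) ⊓ M with hDdef
  set C := Subgroup.centralizer (D : Set G) with hCdef
  have hDC : D ≤ C := fun a ha => Subgroup.mem_centralizer_iff.mpr fun b hb => hD b hb a ha
  have hPN : (P : Subgroup G) ≤ Subgroup.normalizer (D : Set G) :=
    Subgroup.le_normalizer.trans (SylowCount.normalizer_le_normalizer_inf _ M)
  -- conjugates of `P` meet `M` in conjugates of `D`
  have hDmax : ∀ g : G, (∀ d ∈ D, g * d * g⁻¹ ∈ D) → g ∈ Subgroup.normalizer (D : Set G) := fun g hg => by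
    haveI : Finite D := inferInstance
    exact Subgroup.mem_normalizer_fintype (by exact hg)
  have hfr : Subgroup.normalizer (D : Set G) ⊔ M = ⊤ := by
    have := Sylow.normalizer_sup_eq_top (SylowCount.infSylow P M)
    rwa [show ((SylowCount.infSylow P M : Sylow p M) : Subgroup M).map M.subtype = D from
      Subgroup.map_subgroupOf_eq_of_le inf_le_right] at this
  have hMC : (M ⊔ C).Normal := by
    rw [← Subgroup.normalizer_eq_top_iff, eq_top_iff, ← hfr]
    refine sup_le (le_trans ?_ (fun g hg => by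
      rw [Subgroup.mem_inf, Subgroup.mem_normalizer_iff_map_conj_eq, Subgroup.mem_normalizer_iff_map_conj_eq] at hg
      rw [Subgroup.mem_normalizer_iff_map_conj_eq, Subgroup.map_sup, hg.1, hg.2] : Subgroup.normalizer (M : Set G) ⊓ Subgroup.normalizer (C : Set G) ≤ _)) (le_sup_left.trans Subgroup.le_normalizer)
    refine le_inf ?_ ?_
    · rw [Subgroup.normalizer_eq_top_iff.mpr hMn]; exact le_top
    · intro g hg
      rw [Subgroup.mem_normalizer_iff] at hg
      haveI : Finite C := inferInstance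
      refine Subgroup.mem_normalizer_fintype fun c hc => ?_
      rw [SetLike.mem_coe, hCdef, Subgroup.mem_centralizer_iff] at hc ⊢
      intro d hd
      have hd' : g⁻¹ * d * g ∈ D := by
        rw [hg]; simpa [mul_assoc] using hd
      have := hc _ hd'
      calc d * (g * c * g⁻¹) = g * ((g⁻¹ * d * g) * c) * g⁻¹ := by group
        _ = g * (c * (g⁻¹ * d * g)) * g⁻¹ := by rw [this]
        _ = g * c * g⁻¹ * d := by group
  rcases hmax _ hMC le_sup_left with hCM | hCtop
  · -- the centralizer of `D` lies in `M`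
    exfalso
    apply hPM
    intro x hx
    obtain ⟨Q, -, hxQ, hcen⟩ := exists_central_sylow h x (by
      obtain ⟨k, hk⟩ := IsPGroup.iff_orderOf.mp P.isPGroup' ⟨x, hx⟩
      exact ⟨k, by rw [← hk, Subgroup.orderOf_mk]⟩) ⊥ IsPGroup.of_bot bot_le
    obtain ⟨g, hg⟩ := MulAction.exists_smul_eq G Q P
    have hgx : g * x * g⁻¹ ∈ C := by
      rw [hCdef, Subgroup.mem_centralizer_iff]
      intro d hd
      have hdP : d ∈ ((g • Q : Sylow p G) : Subgroup G) := by rw [hg]; exact hd.1
      rw [Sylow.coe_subgroup_smul, Subgroup.mem_pointwise_smul_iff_inv_smul_mem, MulAut.smul_def,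
        MulAut.conj_inv_apply] at hdP
      have := hcen _ hdP
      calc d * (g * x * g⁻¹) = g * ((g⁻¹ * d * g) * x) * g⁻¹ := by group
        _ = g * (x * (g⁻¹ * d * g)) * g⁻¹ := by rw [this]
        _ = g * x * g⁻¹ * d := by group
    have := hMn.conj_mem _ ((le_sup_right.trans_eq hCM) hgx) g⁻¹
    simpa [mul_assoc] using this
  · -- `D` is central in `P`
    have hPC : (P : Subgroup G) ≤ C := by
      intro x hx
      have hxN := hPN hx
      obtain ⟨m, hm, c, hc, hmc⟩ := Subgroup.mem_sup_of_normal_left.mp (hCtop.symm ▸ Subgroup.mem_top x : x ∈ M ⊔ C)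
      have hcN : c ∈ Subgroup.normalizer (D : Set G) := by
        rw [Subgroup.mem_normalizer_iff]
        intro d
        have hfix : ∀ d ∈ D, c * d * c⁻¹ = d := by
          intro d hd
          rw [← Subgroup.mem_centralizer_iff.mp hc d hd]; group
        constructor
        · intro hd; rw [hfix d hd]; exact hd
        · intro hd
          have e := hfix _ hd
          have : c * d * c⁻¹ = d := mul_left_cancel (a := c) (mul_right_cancel (b := c⁻¹) (by simpa [mul_assoc] using e))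
          rwa [this] at hd
      have hmN : m ∈ Subgroup.normalizer (D : Set G) := by
        have := mul_mem hxN (inv_mem hcN)
        rwa [← hmc, mul_inv_cancel_right] at this
      let φ := D.normalizerMonoidHom
      set L := M ⊓ Subgroup.normalizer (D : Set G) with hL
      let ψ : L →* MulAut D := φ.comp (Subgroup.inclusion inf_le_right)
      have hker : D.subgroupOf L ≤ ψ.ker := by
        intro a ha
        have : (Subgroup.inclusion (inf_le_right : L ≤ _) a) ∈ φ.ker := by
          rw [Subgroup.normalizerMonoidHom_ker]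
          exact Subgroup.mem_subgroupOf.mpr (hDC (Subgroup.mem_subgroupOf.mp ha))
        exact this
      set e := ψ.ker.index
      have hep : ¬ p ∣ e := by
        intro hd
        apply SylowCount.inf_normal_not_dvd P M
        refine hd.trans ((Subgroup.index_dvd_of_le hker).trans ?_)
        change D.relIndex L ∣ D.relIndex M
        exact Dvd.intro _ (Subgroup.relIndex_mul_relIndex D L M
          (le_inf inf_le_right Subgroup.le_normalizer) inf_le_left)
      have h1 : φ ⟨m, hmN⟩ ^ e = 1 := by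
        have h0 : (⟨m, hm, hmN⟩ : L) ^ e ∈ ψ.ker := ψ.ker.pow_index_mem _
        rw [MonoidHom.mem_ker, map_pow] at h0
        exact h0
      have h2 : φ ⟨x, hxN⟩ = φ ⟨m, hmN⟩ := by
        have hc1 : φ ⟨c, hcN⟩ = 1 := by
          rw [← MonoidHom.mem_ker, Subgroup.normalizerMonoidHom_ker]
          exact hc
        calc φ ⟨x, hxN⟩ = φ (⟨m, hmN⟩ * ⟨c, hcN⟩) := congrArg φ (Subtype.ext hmc.symm)
          _ = _ := by rw [map_mul, hc1, mul_one]
      obtain ⟨k, hk⟩ := P.isPGroup' ⟨x, hx⟩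
      have h3 : φ ⟨x, hxN⟩ ^ p ^ k = 1 := by
        rw [← map_pow, show (⟨x, hxN⟩ : Subgroup.normalizer (D : Set G)) ^ p ^ k = 1 from
          Subtype.ext (congrArg Subtype.val hk :), map_one]
      have h4 : φ ⟨x, hxN⟩ = 1 := by
        refine orderOf_eq_one_iff.mp (Nat.eq_one_of_dvd_coprimes ?_ (orderOf_dvd_of_pow_eq_one h3)
          (orderOf_dvd_of_pow_eq_one (h2 ▸ h1 : φ ⟨x, hxN⟩ ^ e = 1)))
        exact Nat.Coprime.pow_left k ((Nat.Prime.coprime_iff_not_dvd Fact.out).mpr hep)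
      have : (⟨x, hxN⟩ : Subgroup.normalizer (D : Set G)) ∈ φ.ker := h4
      rw [Subgroup.normalizerMonoidHom_ker] at this
      exact this
    -- every element of `P` is central in `P`
    intro a ha b hb
    obtain ⟨Q, hDQ, haQ, hcen⟩ := exists_central_sylow h a (by
      obtain ⟨k, hk⟩ := IsPGroup.iff_orderOf.mp P.isPGroup' ⟨a, ha⟩
      exact ⟨k, by rw [← hk, Subgroup.orderOf_mk]⟩) D (P.isPGroup'.to_le inf_le_left)
      (fun d hd => Subgroup.mem_centralizer_singleton_iff.mpr (Subgroup.mem_centralizer_iff.mp (hPC ha) d hd))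
    have hQM : (Q : Subgroup G) ⊓ M = D := by
      have h1 : D.subgroupOf M ≤ ((Q : Subgroup G) ⊓ M).subgroupOf M := fun d hd =>
        Subgroup.mem_subgroupOf.mpr ⟨hDQ (Subgroup.mem_subgroupOf.mp hd), d.2⟩
      have h2 := (SylowCount.infSylow P M).is_maximal'
        ((Q.isPGroup'.to_le inf_le_left).comap_subtype) h1
      have h3 := Subgroup.subgroupOf_inj.mp h2
      simpa [D, inf_assoc] using h3
    have hQC : (Q : Subgroup G) ≤ C := by
      obtain ⟨g, hg⟩ := MulAction.exists_smul_eq G P Q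
      intro y hy
      rw [hCdef, Subgroup.mem_centralizer_iff]
      intro d hd
      have hd' : d ∈ (Q : Subgroup G) ⊓ M := hQM.symm ▸ hd
      have e1 : g⁻¹ * y * g ∈ C := by
        apply hPC
        rw [← hg, Sylow.coe_subgroup_smul, Subgroup.mem_pointwise_smul_iff_inv_smul_mem, MulAut.smul_def,
          MulAut.conj_inv_apply] at hy
        exact hy
      have e2 : g⁻¹ * d * g ∈ D := by
        refine ⟨?_, by simpa using hMn.conj_mem d hd'.2 g⁻¹⟩
        have hdQ : d ∈ (Q : Subgroup G) := hd'.1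
        rw [← hg, Sylow.coe_subgroup_smul, Subgroup.mem_pointwise_smul_iff_inv_smul_mem, MulAut.smul_def,
          MulAut.conj_inv_apply] at hdQ
        exact hdQ
      have e3 := Subgroup.mem_centralizer_iff.mp e1 _ e2
      calc d * y = g * ((g⁻¹ * d * g) * (g⁻¹ * y * g)) * g⁻¹ := by group
        _ = g * ((g⁻¹ * y * g) * (g⁻¹ * d * g)) * g⁻¹ := by rw [e3]
        _ = y * d := by group
    obtain ⟨⟨c, hc⟩, hcQ⟩ := MulAction.exists_smul_eq C (Q.subtype hQC) (P.subtype hPC)
    rw [Sylow.smul_subtype] at hcQ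
    have hcQ' : c • Q = P := Sylow.subtype_injective hcQ
    have hcP : ∀ y ∈ (P : Subgroup G), y * (c * a * c⁻¹) = c * a * c⁻¹ * y := by
      intro y hy
      rw [← hcQ', Sylow.coe_subgroup_smul, Subgroup.mem_pointwise_smul_iff_inv_smul_mem, MulAut.smul_def,
        MulAut.conj_inv_apply] at hy
      have := hcen _ hy
      calc y * (c * a * c⁻¹) = c * ((c⁻¹ * y * c) * a) * c⁻¹ := by group
        _ = c * (a * (c⁻¹ * y * c)) * c⁻¹ := by rw [this]
        _ = c * a * c⁻¹ * y := by group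
    have haP' : c * a * c⁻¹ ∈ (P : Subgroup G) := by
      rw [← hcQ', Sylow.coe_subgroup_smul, Subgroup.mem_pointwise_smul_iff_inv_smul_mem, MulAut.smul_def,
        MulAut.conj_inv_apply]
      simpa [mul_assoc] using (show a ∈ (Q : Subgroup G) from haQ)
    -- fusion in the quotient is controlled by the normalizer of the abelian image of `P`
    set π := QuotientGroup.mk' M with hπ
    set R := P.mapSurjective (QuotientGroup.mk'_surjective M) with hR
    haveI := hQ R
    have hmem : ∀ y ∈ (P : Subgroup G), π y ∈ (R : Subgroup (G ⧸ M)) := fun y hy => by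
      rw [hR, Sylow.coe_mapSurjective]; exact Subgroup.mem_map_of_mem _ hy
    obtain ⟨n, hn, hne⟩ := Sylow.conj_eq_normalizer_conj_of_mem R (π a) (π c)⁻¹ (hmem a ha) (by
      have := hmem _ haP'
      rw [map_mul, map_mul, map_inv] at this
      show ((π c)⁻¹)⁻¹ * π a * (π c)⁻¹ ∈ (R : Subgroup (G ⧸ M))
      rwa [inv_inv])
    obtain ⟨z, hz⟩ := QuotientGroup.mk'_surjective M n⁻¹
    obtain ⟨m, hm, z', hz', hzz⟩ := Subgroup.mem_sup_of_normal_left.mp (hCtop.symm ▸ Subgroup.mem_top z : z ∈ M ⊔ C)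
    have hz'n : π z' = n⁻¹ := by
      rw [← hz, ← hzz, map_mul, show π m = 1 from (QuotientGroup.eq_one_iff m).mpr hm, one_mul]
    -- correct `z'` to normalize `P`
    set E := ((P : Subgroup G) ⊔ (M ⊓ C)) with hE
    have hEC : E ≤ C := sup_le hPC inf_le_right
    have hzP : ((z' • P : Sylow p G) : Subgroup G) ≤ E := by
      intro y hy
      rw [Sylow.coe_subgroup_smul, Subgroup.mem_pointwise_smul_iff_inv_smul_mem, MulAut.smul_def,
        MulAut.conj_inv_apply] at hy
      have hyC : y ∈ C := by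
        have := mul_mem (mul_mem hz' (hPC hy)) (inv_mem hz')
        simpa [mul_assoc] using this
      have hyR : π y ∈ (R : Subgroup (G ⧸ M)) := by
        have h1 := (Subgroup.mem_normalizer_iff.mp (inv_mem hn) _).mp (hmem _ hy)
        simpa [← hz'n, mul_assoc] using h1
      rw [hR, Sylow.coe_mapSurjective] at hyR
      obtain ⟨q, hq, hqy⟩ := Subgroup.mem_map.mp hyR
      have : q⁻¹ * y ∈ M := QuotientGroup.eq.mp hqy
      have h2 := mul_mem (Subgroup.mem_sup_left hq : q ∈ E)
        (Subgroup.mem_sup_right (Subgroup.mem_inf.mpr ⟨this, mul_mem (inv_mem (hPC hq)) hyC⟩) : q⁻¹ * y ∈ E)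
      simpa using h2
    obtain ⟨⟨f, hf⟩, hfeq⟩ := MulAction.exists_smul_eq E ((z' • P).subtype hzP) (P.subtype le_sup_left)
    rw [Sylow.smul_subtype] at hfeq
    have hfP : f • (z' • P) = P := Sylow.subtype_injective hfeq
    rw [smul_smul] at hfP
    set w := f * z' with hw
    have hwC : w ∈ C := mul_mem (hEC hf) hz'
    have hwnorm : ∀ y ∈ (P : Subgroup G), w * y * w⁻¹ ∈ (P : Subgroup G) := by
      intro y hy
      have h0 : w * y * w⁻¹ ∈ ((w • P : Sylow p G) : Subgroup G) := by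
        rw [Sylow.coe_subgroup_smul, Subgroup.mem_pointwise_smul_iff_inv_smul_mem, MulAut.smul_def,
          MulAut.conj_inv_apply]
        simpa [mul_assoc] using hy
      rwa [hfP] at h0
    have hwP : w * a * w⁻¹ ∈ (P : Subgroup G) := hwnorm a ha
    have hπw : π (w * a * w⁻¹) = π (c * a * c⁻¹) := by
      have hfR : π f ∈ (R : Subgroup (G ⧸ M)) := by
        have : E ≤ (R : Subgroup (G ⧸ M)).comap π := sup_le hmem (fun y hy => by
          simp [hπ, (QuotientGroup.eq_one_iff y).mpr hy.1])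
        exact this hf
      have hna : n⁻¹ * π a * n ∈ (R : Subgroup (G ⧸ M)) := by
        rw [← hne]
        have := hmem _ haP'
        rw [map_mul, map_mul, map_inv] at this
        simpa [mul_assoc] using this
      have hcomm : π f * (n⁻¹ * π a * n) = (n⁻¹ * π a * n) * π f :=
        congrArg Subtype.val ((inferInstance : IsMulCommutative (R : Subgroup (G ⧸ M))).is_comm.comm ⟨_, hfR⟩ ⟨_, hna⟩)
      calc π (w * a * w⁻¹) = π f * (n⁻¹ * π a * n) * (π f)⁻¹ := by
            rw [hw]; simp only [map_mul, map_inv, hz'n]; group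
        _ = n⁻¹ * π a * n := by rw [hcomm]; group
        _ = π (c * a * c⁻¹) := by rw [← hne]; simp [mul_assoc]
    have hd : (c * a * c⁻¹)⁻¹ * (w * a * w⁻¹) ∈ D :=
      Subgroup.mem_inf.mpr ⟨mul_mem (inv_mem haP') hwP, QuotientGroup.eq.mp hπw.symm⟩
    have hy : w * b * w⁻¹ ∈ (P : Subgroup G) := hwnorm b hb
    have e1 : w * b * w⁻¹ * (w * a * w⁻¹) = w * a * w⁻¹ * (w * b * w⁻¹) := by
      have e2 := hcP _ hy
      have e3 := Subgroup.mem_centralizer_iff.mp (hPC hy) _ hd
      calc w * b * w⁻¹ * (w * a * w⁻¹) = (w * b * w⁻¹ * (c * a * c⁻¹)) * ((c * a * c⁻¹)⁻¹ * (w * a * w⁻¹)) := by group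
        _ = (c * a * c⁻¹) * (w * b * w⁻¹ * ((c * a * c⁻¹)⁻¹ * (w * a * w⁻¹))) := by rw [e2]; group
        _ = (c * a * c⁻¹) * ((c * a * c⁻¹)⁻¹ * (w * a * w⁻¹) * (w * b * w⁻¹)) := by rw [e3]
        _ = _ := by group
    calc a * b = w⁻¹ * (w * a * w⁻¹ * (w * b * w⁻¹)) * w := by group
      _ = w⁻¹ * (w * b * w⁻¹ * (w * a * w⁻¹)) * w := by rw [e1]
      _ = b * a := by group



/-- Let G be a finite group and p a prime such that the Sylow p-subgroups of G are non-abelian while every element of p-power order has conjugacy class size prime to p, and suppose no nontrivial proper normal subgroup N of G has this property and no quotient G/N by such an N has it. Then G is simple. -/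
theorem result {G : Type*} [Group G] [Finite G]
    (p : ℕ) [Fact p.Prime] (h : ((∃ P : Sylow p G, ¬ IsMulCommutative P) ∧ ∀ x : G, (∃ k : ℕ, orderOf x = p ^ k) → ¬ p ∣ (Subgroup.centralizer ({x} : Set G)).index))
    (hmin : ∀ (N : Subgroup G) [N.Normal], N ≠ ⊥ → N ≠ ⊤ →
      ¬ ((∃ P : Sylow p N, ¬ IsMulCommutative P) ∧ ∀ x : N, (∃ k : ℕ, orderOf x = p ^ k) → ¬ p ∣ (Subgroup.centralizer ({x} : Set N)).index) ∧
      ¬ ((∃ P : Sylow p (G ⧸ N), ¬ IsMulCommutative P) ∧ ∀ x : (G ⧸ N), (∃ k : ℕ, orderOf x = p ^ k) → ¬ p ∣ (Subgroup.centralizer ({x} : Set (G ⧸ N))).index)) :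
    IsSimpleGroup G := by
  obtain ⟨⟨P, hP⟩, hc⟩ := h
  haveI : Nontrivial G := by
    by_contra hnt
    rw [not_nontrivial_iff_subsingleton] at hnt
    exact hP ⟨⟨fun a b => Subsingleton.elim _ _⟩⟩
  refine ⟨fun N hN => ?_⟩
  by_contra hNn
  push Not at hNn
  obtain ⟨M, ⟨hMn, hMtop, hNM⟩, hMmax⟩ :=
    Set.Finite.exists_maximal (s := {M : Subgroup G | M.Normal ∧ M ≠ ⊤ ∧ N ≤ M}) (Set.toFinite _) ⟨N, hN, hNn.2, le_rfl⟩
  haveI := hMn
  have hMb : M ≠ ⊥ := fun e => hNn.1 (le_bot_iff.mp (e ▸ hNM))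
  obtain ⟨h1, h2⟩ := hmin M hMb hMtop
  have habM : ∀ S : Sylow p M, IsMulCommutative (S : Subgroup M) := by
    intro S
    by_contra hS
    exact h1 ⟨⟨S, hS⟩, cond_sub hc M⟩
  have habQ : ∀ S : Sylow p (G ⧸ M), IsMulCommutative (S : Subgroup (G ⧸ M)) := by
    intro S
    by_contra hS
    exact h2 ⟨⟨S, hS⟩, cond_quot hc M⟩
  have hDab : ∀ a ∈ (P : Subgroup G) ⊓ M, ∀ b ∈ (P : Subgroup G) ⊓ M, a * b = b * a := by
    intro a ha b hb
    haveI := habM (SylowCount.infSylow P M)
    exact congrArg (fun t : (SylowCount.infSylow P M : Subgroup M) => ((t : M) : G)) ((habM (SylowCount.infSylow P M)).is_comm.comm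
      ⟨⟨a, ha.2⟩, Subgroup.mem_subgroupOf.mpr ha⟩ ⟨⟨b, hb.2⟩, Subgroup.mem_subgroupOf.mpr hb⟩)
  have hPM : ¬ (P : Subgroup G) ≤ M := fun hle =>
    hP ⟨⟨fun a b => Subtype.ext (hDab a ⟨a.2, hle a.2⟩ b ⟨b.2, hle b.2⟩)⟩⟩
  have key := core hc P M (fun N' hN' hle => by
    by_cases ht : N' = ⊤
    · exact Or.inr ht
    · exact Or.inl (le_antisymm (hMmax ⟨hN', ht, hNM.trans hle⟩ hle) hle)) hPM hDab habQ
  exact hP ⟨⟨fun a b => Subtype.ext (key a a.2 b b.2)⟩⟩

end Cfsg.Agent.S4354
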