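import Cfsg.Statements.S4356
import Mathlib
import Cfsg.Agent.Lib.SL2SylowCover
-- import your own Cfsg.Agent.* helpers here

set_option autoImplicit false
open Cfsg

namespace Cfsg.Agent.S4356

open scoped MatrixGroups


/-- Let F be a finite field with q elements, p a prime and G = PSL(2, F). Say a Sylow p-subgroup Q of G is redundant when every element of p-power order lies in some Sylow p-subgroup other than Q. Then G has a redundant Sylow p-subgroup if and only if p = 2 and q is not of any of the forms 2ᵏ - 1, 2ᵏ, 2ᵏ + 1. -/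
theorem result {F : Type*} [Field F] [Fintype F] (p : ℕ) [Fact p.Prime] :
    (∃ Q : Sylow p (Matrix.ProjectiveSpecialLinearGroup (Fin 2) F), ∀ x : Matrix.ProjectiveSpecialLinearGroup (Fin 2) F,
        (∃ k : ℕ, orderOf x = p ^ k) → ∃ P : Sylow p (Matrix.ProjectiveSpecialLinearGroup (Fin 2) F), P ≠ Q ∧ x ∈ P) ↔
      (p = 2 ∧ (¬ ∃ k : ℕ, Fintype.card F + 1 = 2 ^ k) ∧ (¬ ∃ k : ℕ, Fintype.card F = 2 ^ k) ∧
        ¬ ∃ k : ℕ, Fintype.card F = 2 ^ k + 1) := by
  classical
  set π : SL(2, F) →* Matrix.ProjectiveSpecialLinearGroup (Fin 2) F :=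
    QuotientGroup.mk' (Subgroup.center SL(2, F)) with hπdef
  have hπ : Function.Surjective π := QuotientGroup.mk'_surjective _
  have hker : ∀ a b : SL(2, F), π a = π b → a = b ∨ a = -b := by
    intro a b h
    have h1 : a⁻¹ * b ∈ Subgroup.center SL(2, F) := QuotientGroup.eq.1 h
    rcases (PSL2Elements.mem_center_iff _).1 h1 with e | e
    · exact Or.inl (inv_mul_eq_one.1 e)
    · right
      rw [inv_mul_eq_iff_eq_mul.1 e]
      simp
  have hlift : ∀ P' : Sylow p (Matrix.ProjectiveSpecialLinearGroup (Fin 2) F),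
      ∃ P : Sylow p SL(2, F), P.mapSurjective hπ = P' := fun P' => Sylow.mapSurjective_surjective hπ p P'
  have hcenter : p = 2 → ∀ P : Sylow p SL(2, F), π.ker ≤ (P : Subgroup SL(2, F)) := by
    rintro rfl P
    have hz : IsPGroup 2 π.ker := by
      intro z
      refine ⟨1, Subtype.ext ?_⟩
      rcases (PSL2Elements.mem_center_iff _).1
        ((QuotientGroup.ker_mk' _).le z.2) with e | e <;>
        simp [e]
    exact le_sup_right.trans
      (P.3 (IsPGroup.to_sup_of_normal_right P.2 hz) le_sup_left).le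
  constructor
  · rintro ⟨Q', hQ'⟩
    by_contra h
    rw [← Nat.card_eq_fintype_card] at h
    obtain ⟨Q, rfl⟩ := hlift Q'
    obtain ⟨x, hx, hu⟩ := SL2SylowCover.unique_elt p h Q
    obtain ⟨i, hi⟩ := IsPGroup.iff_orderOf.1 Q.2 ⟨x, hx⟩
    rw [Subgroup.orderOf_mk] at hi
    obtain ⟨k, -, hk⟩ := (Nat.dvd_prime_pow (Fact.out : p.Prime)).1 (hi ▸ orderOf_map_dvd π x)
    obtain ⟨P', hne, hxP⟩ := hQ' (π x) ⟨k, hk⟩
    obtain ⟨P, rfl⟩ := hlift P'
    obtain ⟨x', hx', e⟩ : ∃ x' ∈ (P : Subgroup SL(2, F)), π x' = π x := hxP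
    have hxP : x ∈ (P : Subgroup SL(2, F)) := by
      by_cases h2 : p = 2
      · have : x'⁻¹ * x ∈ π.ker := by rw [MonoidHom.mem_ker, map_mul, map_inv, e, inv_mul_cancel]
        have := mul_mem hx' (hcenter h2 P this)
        rwa [mul_inv_cancel_left] at this
      · rcases hker _ _ e with rfl | rfl
        · exact hx'
        · obtain ⟨n, hn⟩ := Q.2 ⟨x, hx⟩
          have hn : x ^ p ^ n = 1 := congrArg Subtype.val hn
          have hodd : Odd (p ^ n) := ((Fact.out : p.Prime).odd_of_ne_two h2).pow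
          have := pow_mem hx' (p ^ n + 1)
          rwa [neg_pow, (hodd.add_one).neg_one_pow, one_mul, pow_succ, hn, one_mul] at this
    exact hne (by rw [hu P hxP])
  · rintro ⟨rfl, h1, h2, h3⟩
    rw [← Nat.card_eq_fintype_card] at h1 h2 h3
    obtain ⟨Q⟩ : Nonempty (Sylow 2 SL(2, F)) := inferInstance
    refine ⟨Q.mapSurjective hπ, ?_⟩
    rintro y ⟨k, hk⟩
    obtain ⟨R', hR⟩ := (IsPGroup.of_card (p := 2) (n := k) (G := Subgroup.zpowers y)
      (by rw [Nat.card_zpowers, hk])).exists_le_sylow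
    obtain ⟨R, rfl⟩ := hlift R'
    obtain ⟨x, hx, rfl⟩ : ∃ x ∈ (R : Subgroup SL(2, F)), π x = y := hR (Subgroup.mem_zpowers y)
    obtain ⟨i, hi⟩ := IsPGroup.iff_orderOf.1 R.2 ⟨x, hx⟩
    rw [Subgroup.orderOf_mk] at hi
    obtain ⟨P, hne, hxP⟩ := SL2SylowCover.exists_ne_of_not_pow
      (SL2SylowCover.odd_of_not_two_pow h2) h1 h3 x ⟨i, hi⟩ Q
    refine ⟨P.mapSurjective hπ, fun h => hne (Sylow.ext ?_), ⟨x, hxP, rfl⟩⟩
    have := congrArg (fun S : Sylow 2 (Matrix.ProjectiveSpecialLinearGroup (Fin 2) F) =>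
      (S : Subgroup _).comap π) h
    simp only [Sylow.coe_mapSurjective, Subgroup.comap_map_eq] at this
    rwa [sup_eq_left.2 (hcenter rfl P), sup_eq_left.2 (hcenter rfl Q)] at this

end Cfsg.Agent.S4356
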