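import Mathlib
import Cfsg.Statements.S4359

/-!
Sims' lemma: a subgroup meeting its conjugate in a normal subgroup of index `p` is a `p`-group with
a chain of generators `x i`; commutator windows give `2t ≤ 3k`, and the centre condition `2k ≤ t+n`.
-/

set_option autoImplicit false

open scoped Pointwise commutatorElement
open Subgroup

namespace Cfsg.Agent.S4359

variable {G : Type*} [Group G]

/-- The chain `P ⊇ P ∩ φP ⊇ P ∩ φP ∩ φ²P ⊇ ...`. -/
def chain (φ : MulAut G) (P : Subgroup G) : ℕ → Subgroup G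
  | 0 => P
  | m + 1 => chain φ P m ⊓ φ • chain φ P m

theorem card_smul (φ : MulAut G) (H : Subgroup G) : Nat.card ↥(φ • H) = Nat.card H :=
  Nat.card_congr (Subgroup.equivSMul φ H).toEquiv.symm

theorem chain_succ_le (φ : MulAut G) (P : Subgroup G) (m : ℕ) :
    chain φ P (m + 1) ≤ chain φ P m := inf_le_left

theorem chain_anti (φ : MulAut G) (P : Subgroup G) {m m' : ℕ} (h : m ≤ m') :
    chain φ P m' ≤ chain φ P m := by
  induction h with
  | refl => exact le_rfl
  | step _ ih => exact (chain_succ_le φ P _).trans ih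

theorem chain_le (φ : MulAut G) (P : Subgroup G) (m : ℕ) : chain φ P m ≤ P :=
  chain_anti φ P (Nat.zero_le m)

theorem chain_succ_eq (φ : MulAut G) (P : Subgroup G) : ∀ m : ℕ,
    chain φ P (m + 1) = P ⊓ φ • chain φ P m
  | 0 => rfl
  | m + 1 => by
    have h : φ • chain φ P (m + 1) ≤ φ • chain φ P m :=
      Subgroup.pointwise_smul_le_pointwise_smul_iff.2 (chain_succ_le φ P m)
    show chain φ P (m + 1) ⊓ φ • chain φ P (m + 1) = _
    conv_lhs => arg 1; rw [chain_succ_eq φ P m]
    rw [inf_assoc, inf_eq_right.2 h]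

theorem card_mul_relIndex {H K : Subgroup G} (h : H ≤ K) :
    Nat.card H * H.relIndex K = Nat.card K := by
  rw [← Subgroup.relIndex_bot_left, ← Subgroup.relIndex_bot_left,
    Subgroup.relIndex_mul_relIndex ⊥ H K bot_le h]

theorem eq_of_prime_relIndex {H J K : Subgroup G} {p : ℕ} (hp : p.Prime) (hHJ : H ≤ J)
    (hJK : J ≤ K) (hne : J ≠ H) (hidx : H.relIndex K = p) : J = K := by
  have h := Subgroup.relIndex_mul_relIndex H J K hHJ hJK
  rw [hidx] at h
  refine le_antisymm hJK (Subgroup.relIndex_eq_one.1 ?_)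
  rcases (Nat.dvd_prime hp).1 (Dvd.intro _ h) with h1 | h1
  · exact absurd (le_antisymm (Subgroup.relIndex_eq_one.1 h1) hHJ) hne
  · rw [h1] at h
    exact mul_left_cancel₀ hp.ne_zero (h.trans (mul_one p).symm)

theorem normal_of_relIndex_eq [Finite G] {H K : Subgroup G} {p : ℕ} [hp : Fact p.Prime]
    (hHK : H ≤ K) {L : ℕ} (hK : Nat.card K = p ^ L) (hidx : H.relIndex K = p) :
    K ≤ Subgroup.normalizer (H : Set G) := by
  have hL : L ≠ 0 := by
    rintro rfl
    have h := card_mul_relIndex hHK
    rw [hK, hidx, pow_zero] at h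
    exact hp.out.one_lt.ne' (Nat.eq_one_of_mul_eq_one_left h)
  have : (H.subgroupOf K).Normal := Subgroup.normal_of_index_eq_minFac_card <| by
    rw [hK, Nat.pow_minFac hL, hp.out.minFac_eq]
    exact hidx
  exact (Subgroup.normal_subgroupOf_iff_le_normalizer hHK).1 this

/-- If `c` commutes with `a`, `a` centralises `T`, `b` normalises `T` and `⁅b, c⁆ ∈ T`, then `c`
commutes with `⁅b, a⁆`. -/
theorem commute_commutator {a b c : G} {T : Subgroup G} (hca : Commute c a)
    (haT : ∀ u ∈ T, Commute a u) (hbT : b ∈ Subgroup.normalizer (T : Set G)) (hbc : ⁅b, c⁆ ∈ T) :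
    Commute c ⁅b, a⁆ := by
  have h1 : ∀ u ∈ T, Commute (b * a * b⁻¹) u := by
    intro u hu
    have h2 : b⁻¹ * u * b ∈ T := by
      have := (Subgroup.mem_normalizer_iff.1 (inv_mem hbT) u).1 hu
      rwa [inv_inv] at this
    calc b * a * b⁻¹ * u = b * (a * (b⁻¹ * u * b)) * b⁻¹ := by group
      _ = b * ((b⁻¹ * u * b) * a) * b⁻¹ := by rw [(haT _ h2).eq]
      _ = u * (b * a * b⁻¹) := by group
  have h2 : Commute (b * a * b⁻¹) (b * c * b⁻¹) := (Commute.conj_iff b).2 hca.symm
  have h3 : Commute (b * a * b⁻¹) c := by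
    have h4 := (h1 _ hbc).inv_right.mul_right h2
    rwa [show ⁅b, c⁆⁻¹ * (b * c * b⁻¹) = c by rw [commutatorElement_def]; group] at h4
  have h5 := h3.symm.mul_right hca.inv_right
  rwa [show b * a * b⁻¹ * a⁻¹ = ⁅b, a⁆ by rw [commutatorElement_def]] at h5

theorem main [Finite G] (φ : MulAut G) (P : Subgroup G) (p : ℕ) [hp : Fact p.Prime]
    (hN : ((P ⊓ φ • P).subgroupOf (φ • P)).Normal)
    (hidx : (P ⊓ φ • P).relIndex (φ • P) = p)
    (h1 : ∀ Q : Subgroup G, Q ≤ P → (Q.subgroupOf P).Normal → φ • Q = Q → Q = ⊥) :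
    ∃ (t : ℕ) (x : ℤ → G), Nat.card P = p ^ t ∧ 1 ≤ t ∧ x t ≠ 1 ∧
      (∀ (e : ℤ) (i : ℤ), (φ ^ e) (x i) = x (i + e)) ∧
      (∀ i : ℕ, φ ^ i • P = Subgroup.closure (x '' Set.Icc (1 + (i : ℤ)) (t + i))) ∧
      ∃ k : ℕ, 1 ≤ k ∧ k ≤ t ∧ 2 * t ≤ 3 * k ∧
        ∀ i j : ℤ, i - j < k → j - i < k → Commute (x i) (x j) := by
  classical
  have hp1 := hp.out.one_lt
  set D := chain φ P with hD
  -- normality in the shifted member
  have hDnorm : ∀ m, φ • D m ≤ Subgroup.normalizer (D (m + 1) : Set G) := by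
    intro m
    have hle : φ • D m ≤ φ • P :=
      Subgroup.pointwise_smul_le_pointwise_smul_iff.2 (chain_le φ P m)
    have h2 : D (m + 1) = (P ⊓ φ • P) ⊓ φ • D m := by
      rw [hD, chain_succ_eq, inf_assoc, inf_eq_right.2 hle]
    rw [h2]
    refine le_trans (le_inf (hle.trans ((Subgroup.normal_subgroupOf_iff_le_normalizer
      inf_le_right).1 hN)) Subgroup.le_normalizer) Subgroup.inf_normalizer_le_normalizer_inf
  have hDidx : ∀ m, (D (m + 1)).relIndex (φ • D m) = 1 ∨ (D (m + 1)).relIndex (φ • D m) = p := by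
    intro m
    have hle : φ • D m ≤ φ • P :=
      Subgroup.pointwise_smul_le_pointwise_smul_iff.2 (chain_le φ P m)
    refine (Nat.dvd_prime hp.out).1 ?_
    have h2 : D (m + 1) = (P ⊓ φ • P) ⊓ φ • D m := by
      rw [hD, chain_succ_eq, inf_assoc, inf_eq_right.2 hle]
    rw [h2, Subgroup.inf_relIndex_right, ← Subgroup.relIndex_subgroupOf hle]
    haveI := hN
    exact (Subgroup.relIndex_dvd_index_of_normal _ _).trans (dvd_of_eq hidx)
  -- elements of order prime to `p` are trivial
  have hpG : ∀ y ∈ P, ¬ p ∣ orderOf y → y = 1 := by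
    set E : Set G := {y | y ∈ P ∧ ¬ p ∣ orderOf y} with hE
    have hsub : ∀ y ∈ E, φ y ∈ E := by
      rintro y ⟨hy, hord⟩
      refine ⟨?_, by rwa [MulEquiv.orderOf_eq]⟩
      haveI := hN
      have hy' : φ y ∈ φ • P := Subgroup.smul_mem_pointwise_smul y φ P hy
      have hcard : Nat.card (↥(φ • P) ⧸ (P ⊓ φ • P).subgroupOf (φ • P)) = p := hidx
      have h2 : orderOf (QuotientGroup.mk' ((P ⊓ φ • P).subgroupOf (φ • P)) ⟨φ y, hy'⟩) ∣
          orderOf y := by
        refine (orderOf_map_dvd _ _).trans (dvd_of_eq ?_)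
        rw [Subgroup.orderOf_mk, MulEquiv.orderOf_eq]
      have h3 := orderOf_dvd_natCard (QuotientGroup.mk' ((P ⊓ φ • P).subgroupOf (φ • P)) ⟨φ y, hy'⟩)
      rw [hcard] at h3
      rcases (Nat.dvd_prime hp.out).1 h3 with h4 | h4
      · exact ((Subgroup.mem_subgroupOf.1 ((QuotientGroup.eq_one_iff _).1
          (orderOf_eq_one_iff.1 h4)))).1
      · exact absurd (h4 ▸ h2) hord
    have himg : φ '' E = E := by
      refine Set.eq_of_subset_of_ncard_le (Set.image_subset_iff.2 hsub) ?_ (Set.toFinite _)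
      rw [Set.ncard_image_of_injective _ φ.injective]
    have hR : φ • Subgroup.closure E = Subgroup.closure E := by
      rw [Subgroup.smul_closure]
      exact congrArg _ himg
    have hRle : Subgroup.closure E ≤ P := (Subgroup.closure_le P).2 fun y hy => hy.1
    have hRn : ((Subgroup.closure E).subgroupOf P).Normal := by
      refine ⟨fun r hr u => ?_⟩
      rw [Subgroup.mem_subgroupOf] at hr ⊢
      have hmap : (Subgroup.closure E).map (MulAut.conj (u : G)).toMonoidHom ≤ Subgroup.closure E := by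
        rw [MonoidHom.map_closure]
        refine Subgroup.closure_mono ?_
        rintro _ ⟨y, ⟨hy, hord⟩, rfl⟩
        exact ⟨mul_mem (mul_mem u.2 hy) (inv_mem u.2), by
          show ¬ p ∣ orderOf ((MulAut.conj (u : G)) y)
          rwa [MulEquiv.orderOf_eq]⟩
      exact hmap ⟨_, hr, rfl⟩
    intro y hy hord
    have : y ∈ Subgroup.closure E := Subgroup.subset_closure ⟨hy, hord⟩
    rwa [h1 _ hRle hRn hR, Subgroup.mem_bot] at this
  obtain ⟨t, ht⟩ : ∃ t, Nat.card P = p ^ t := by
    refine ⟨_, Nat.eq_prime_pow_of_unique_prime_dvd Nat.card_pos.ne' fun {q} hq hqd => ?_⟩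
    haveI := Fact.mk hq
    obtain ⟨y, hy⟩ := exists_prime_orderOf_dvd_card' q hqd
    by_contra hne
    have hord : orderOf (y : G) = q := by rw [Subgroup.orderOf_coe, hy]
    have := hpG y y.2 (by rw [hord]; exact fun h => hne ((Nat.prime_dvd_prime_iff_eq hp.out hq).1 h).symm)
    rw [this, orderOf_one] at hord
    exact hq.ne_one hord.symm
  have hDcardle : ∀ m, ∃ a, Nat.card (D m) = p ^ a := fun m => by
    obtain ⟨a, -, ha⟩ := (Nat.dvd_prime_pow hp.out).1 (ht ▸ Subgroup.card_dvd_of_le (chain_le φ P m))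
    exact ⟨a, ha⟩
  have hDmul : ∀ m, Nat.card (D (m + 1)) * (D (m + 1)).relIndex (φ • D m) = Nat.card (D m) :=
    fun m => by rw [card_mul_relIndex (show D (m+1) ≤ φ • D m from inf_le_right), card_smul]
  -- a stationary term is trivial
  have hstat : ∀ m, D (m + 1) = D m → D m = ⊥ := by
    intro m hm
    have hinv : φ • D m = D m := by
      refine (Subgroup.eq_of_le_of_card_ge ?_ (card_smul φ (D m)).le).symm
      conv_lhs => rw [← hm]
      exact inf_le_right
    have hnf : ∀ y, φ⁻¹ • y ∈ Subgroup.normalizer (D m : Set G) ↔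
        y ∈ Subgroup.normalizer (D m : Set G) := by
      have key : ∀ z, φ z ∈ D m ↔ z ∈ D m := fun z => by
        conv_lhs => rw [← hinv]
        exact Subgroup.smul_mem_pointwise_smul_iff
      intro y
      simp only [Subgroup.mem_normalizer_iff]
      constructor
      · intro h z
        have h2 := h (φ⁻¹ • z)
        have e1 := key (φ⁻¹ • z)
        have e2 := key (φ⁻¹ • (y * z * y⁻¹))
        simp only [MulAut.smul_def, MulAut.apply_inv_self, map_mul, map_inv] at e1 e2 h2
        exact e1.trans (h2.trans e2.symm)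
      · intro h z
        have h2 := h (φ z)
        rw [show y * φ z * y⁻¹ = φ ((φ⁻¹ • y) * z * (φ⁻¹ • y)⁻¹) by
          simp [MulAut.smul_def, map_mul, map_inv]] at h2
        exact (key z).symm.trans (h2.trans (key _))
    have hNQ : ∀ d j, j + d = m → D j ≤ Subgroup.normalizer (D m : Set G) := by
      intro d
      induction d with
      | zero => intro j hj; rw [← hj, Nat.add_zero]; exact Subgroup.le_normalizer
      | succ d ih =>
        intro j hj
        have hj1 := ih (j + 1) (by omega)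
        have hcm := hDmul j
        rcases hDidx j with h | h
        · rw [h, mul_one] at hcm
          rw [← Subgroup.eq_of_le_of_card_ge (show D (j + 1) ≤ D j from chain_succ_le φ P j) hcm.ge]
          exact hj1
        rw [h] at hcm
        have hr : (D (j + 1)).relIndex (D j) = p :=
          mul_left_cancel₀ Nat.card_pos.ne' ((card_mul_relIndex (chain_succ_le φ P j)).trans hcm.symm)
        have hle' : φ⁻¹ • D (j + 1) ≤ D j := by
          rw [Subgroup.pointwise_smul_subset_iff, inv_inv]
          exact inf_le_right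
        by_cases he : φ⁻¹ • D (j + 1) = D (j + 1)
        · have hinv' : φ • D (j + 1) = D (j + 1) := by
            conv_lhs => rw [← he]
            rw [smul_inv_smul]
          have hconst : ∀ i, D (j + 1 + i) = D (j + 1) := by
            intro i
            induction i with
            | zero => rfl
            | succ i ih' =>
              show D (j + 1 + i) ⊓ φ • D (j + 1 + i) = _
              rw [ih', hinv', inf_idem]
          have hm' : D m = D (j + 1) := by rw [← hconst d]; congr 1; omega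
          obtain ⟨a, ha⟩ := hDcardle j
          rw [hm']
          exact normal_of_relIndex_eq (chain_succ_le φ P j) ha hr
        · have hsup : D (j + 1) ⊔ φ⁻¹ • D (j + 1) = D j :=
            eq_of_prime_relIndex hp.out le_sup_left (sup_le (chain_succ_le φ P j) hle')
              (fun e => he (Subgroup.eq_of_le_of_card_ge (sup_eq_left.1 e) (card_smul _ _).ge)) hr
          rw [← hsup]
          refine sup_le hj1 ?_
          intro y hy
          have := (hnf (φ • y)).2 (hj1 (by
            rw [Subgroup.mem_pointwise_smul_iff_inv_smul_mem, inv_inv] at hy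
            exact hy))
          rwa [inv_smul_smul] at this
    refine h1 _ (chain_le φ P m) ?_ hinv
    exact (Subgroup.normal_subgroupOf_iff_le_normalizer (chain_le φ P m)).2 (hNQ m 0 (zero_add m))
  have hDcard : ∀ m, m ≤ t → Nat.card (D m) = p ^ (t - m) := by
    intro m
    induction m with
    | zero => intro _; exact ht
    | succ m ih =>
      intro hm
      have hc := hDmul m
      rw [ih (by omega)] at hc
      rcases hDidx m with h | h
      · exfalso
        rw [h, mul_one] at hc
        have he : D (m + 1) = D m := Subgroup.eq_of_le_of_card_ge (chain_succ_le φ P m)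
          (by rw [hc, ih (by omega)])
        have := ih (by omega)
        rw [hstat m he, Subgroup.card_bot] at this
        exact (Nat.one_lt_pow (by omega) hp1).ne this
      · rw [h] at hc
        refine mul_right_cancel₀ hp.out.ne_zero (hc.trans ?_)
        rw [← pow_succ]; congr 1; omega
  have ht1 : 1 ≤ t := by
    by_contra h0
    rw [show t = 0 by omega, pow_zero] at ht
    have : φ • P = ⊥ := Subgroup.card_eq_one.1 (by rw [card_smul, ht])
    rw [this, Subgroup.relIndex_bot_right] at hidx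
    exact hp1.ne hidx
  have hDt : D t = ⊥ := Subgroup.card_eq_one.1 (by rw [hDcard t le_rfl, Nat.sub_self, pow_zero])
  obtain ⟨x0, hx0, hx01⟩ : ∃ x0 ∈ D (t - 1), x0 ≠ 1 := by
    refine (Subgroup.bot_or_exists_ne_one _).resolve_left fun h => ?_
    have := hDcard (t - 1) (by omega)
    rw [h, Subgroup.card_bot] at this
    exact (Nat.one_lt_pow (by omega) hp1).ne this
  -- the generators
  set x : ℤ → G := fun i => (φ ^ (i - (t : ℤ))) x0 with hx
  have hshift : ∀ (e i : ℤ), (φ ^ e) (x i) = x (i + e) := by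
    intro e i
    simp only [hx]
    rw [← MulAut.mul_apply, ← zpow_add]
    congr 2
    ring
  have hxne : ∀ i, x i ≠ 1 := fun i h => hx01 ((φ ^ (i - (t : ℤ))).injective (h.trans (map_one _).symm))
  have hdown : ∀ a, ∀ y ∈ D (a + 1), (φ ^ (-1 : ℤ)) y ∈ D a := by
    intro a y hy
    have h := (inf_le_right : D (a + 1) ≤ φ • D a) hy
    rw [Subgroup.mem_pointwise_smul_iff_inv_smul_mem] at h
    rw [zpow_neg_one]
    exact h
  have hxD : ∀ d : ℕ, d + 1 ≤ t → x ((t : ℤ) - d) ∈ D (t - 1 - d) := by
    intro d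
    induction d with
    | zero => intro _; simpa [hx] using hx0
    | succ d ih =>
      intro hd
      have h := hdown (t - 1 - (d + 1)) (x ((t : ℤ) - d)) (by
        have := ih (by omega)
        rwa [show t - 1 - d = t - 1 - (d + 1) + 1 by omega] at this)
      rw [hshift] at h
      convert h using 2
      push_cast; ring
  have hxmem : ∀ (i : ℤ) (m : ℕ), (m : ℤ) + 1 ≤ i → i ≤ t → x i ∈ D m := by
    intro i m hm hi
    obtain ⟨d, hd⟩ : ∃ d : ℕ, i = (t : ℤ) - d := ⟨(t - i).toNat, by omega⟩
    rw [hd]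
    exact chain_anti φ P (by omega) (hxD d (by omega))
  have hxnot : ∀ m : ℕ, m < t → x ((m : ℤ) + 1) ∉ D (m + 1) := by
    intro m hm hmem
    have hup : ∀ j : ℕ, m + 1 + j ≤ t → x ((m : ℤ) + 1 + j) ∈ D (m + 1 + j) := by
      intro j
      induction j with
      | zero => intro _; simpa using hmem
      | succ j ih =>
        intro hj
        refine Subgroup.mem_inf.2 ⟨hxmem _ (m + 1 + j) (by push_cast; omega) (by push_cast; omega), ?_⟩
        have h := Subgroup.smul_mem_pointwise_smul _ φ _ (ih (by omega))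
        have h' : φ • x ((m : ℤ) + 1 + j) = x ((m : ℤ) + 1 + ((j + 1 : ℕ) : ℤ)) := by
          have h'' := hshift 1 ((m : ℤ) + 1 + j)
          rw [zpow_one] at h''
          rw [MulAut.smul_def, h'']
          push_cast; ring_nf
        rw [h'] at h
        exact h
    have := hup (t - (m + 1)) (by omega)
    rw [show m + 1 + (t - (m + 1)) = t by omega, hDt, Subgroup.mem_bot] at this
    exact hxne _ this
  set T : ℤ → ℤ → Subgroup G := fun a b => Subgroup.closure (x '' Set.Icc a b) with hT
  have hmemT : ∀ {a b i : ℤ}, a ≤ i → i ≤ b → x i ∈ T a b := fun h h' =>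
    Subgroup.subset_closure ⟨_, ⟨h, h'⟩, rfl⟩
  have hmono : ∀ {a b a' b' : ℤ}, a' ≤ a → b ≤ b' → T a b ≤ T a' b' := fun h h' =>
    Subgroup.closure_mono (Set.image_mono (Set.Icc_subset_Icc h h'))
  have hTcent : ∀ {a b : ℤ} {z : G}, (∀ i, a ≤ i → i ≤ b → Commute (x i) z) →
      T a b ≤ Subgroup.centralizer ({z} : Set G) := by
    intro a b z h
    refine (Subgroup.closure_le _).2 ?_
    rintro _ ⟨i, ⟨hi1, hi2⟩, rfl⟩
    exact Subgroup.mem_centralizer_singleton_iff.2 (h i hi1 hi2).eq
  have hTshift : ∀ (e a b : ℤ), φ ^ e • T a b = T (a + e) (b + e) := by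
    intro e a b
    simp only [hT]
    rw [Subgroup.smul_closure]
    congr 1
    ext y
    constructor
    · rintro ⟨_, ⟨i, hi, rfl⟩, rfl⟩
      exact ⟨i + e, ⟨by linarith [hi.1], by linarith [hi.2]⟩, (hshift e i).symm⟩
    · rintro ⟨i, hi, rfl⟩
      exact ⟨x (i - e), ⟨i - e, ⟨by linarith [hi.1], by linarith [hi.2]⟩, rfl⟩,
        (hshift e (i - e)).trans (congrArg x (by ring))⟩
  have hTD : ∀ d m : ℕ, m + d = t → T ((m : ℤ) + 1) t = D m := by
    intro d
    induction d with
    | zero =>
      intro m hm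
      rw [show m = t by omega, hDt, eq_bot_iff]
      refine (Subgroup.closure_le _).2 ?_
      rintro _ ⟨i, ⟨hi1, hi2⟩, rfl⟩
      omega
    | succ d ih =>
      intro m hm
      have h2 := ih (m + 1) (by omega)
      push_cast at h2
      refine eq_of_prime_relIndex hp.out (H := D (m + 1)) (by rw [← h2]; exact hmono (by omega) le_rfl) ?_ ?_ ?_
      · refine (Subgroup.closure_le _).2 ?_
        rintro _ ⟨i, ⟨hi1, hi2⟩, rfl⟩
        exact hxmem i m hi1 hi2
      · intro e
        apply hxnot m (by omega)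
        have h3 : x ((m : ℤ) + 1) ∈ T ((m : ℤ) + 1) t := hmemT le_rfl (by omega)
        rwa [e] at h3
      · have h := card_mul_relIndex (chain_succ_le φ P m)
        rw [hDcard m (by omega), hDcard (m + 1) (by omega), show t - m = t - (m + 1) + 1 by omega,
          pow_succ] at h
        exact mul_left_cancel₀ (pow_ne_zero _ hp.out.ne_zero) h
  have hTeq : ∀ (a b : ℤ) (L : ℕ), b + 1 - a = L → L ≤ t → T a b = φ ^ (b - t) • D (t - L) := by
    intro a b L hL hLt
    rw [← hTD L (t - L) (by omega), hTshift]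
    congr 1 <;> omega
  have hTcard : ∀ (a b : ℤ) (L : ℕ), b + 1 - a = L → L ≤ t → Nat.card (T a b) = p ^ L := by
    intro a b L hL hLt
    rw [hTeq a b L hL hLt, card_smul, hDcard _ (by omega)]
    congr 1; omega
  have hTidxR : ∀ (a b : ℤ), a ≤ b → b + 1 - a ≤ t → (T (a + 1) b).relIndex (T a b) = p := by
    intro a b hab hlen
    have h := card_mul_relIndex (hmono (show a ≤ a + 1 by omega) (le_refl b))
    rw [hTcard a b ((b - a).toNat + 1) (by omega) (by omega),
      hTcard (a + 1) b (b - a).toNat (by omega) (by omega), pow_succ] at h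
    exact mul_left_cancel₀ (pow_ne_zero _ hp.out.ne_zero) h
  have hTidxL : ∀ (a b : ℤ), a ≤ b → b + 1 - a ≤ t → (T a (b - 1)).relIndex (T a b) = p := by
    intro a b hab hlen
    have h := card_mul_relIndex (hmono (le_refl a) (show b - 1 ≤ b by omega))
    rw [hTcard a b ((b - a).toNat + 1) (by omega) (by omega),
      hTcard a (b - 1) (b - a).toNat (by omega) (by omega), pow_succ] at h
    exact mul_left_cancel₀ (pow_ne_zero _ hp.out.ne_zero) h
  have hTnR : ∀ (a b : ℤ), a ≤ b → b + 1 - a ≤ t → T a b ≤ Subgroup.normalizer (T (a + 1) b : Set G) :=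
    fun a b hab hlen => normal_of_relIndex_eq (hmono (by omega) le_rfl)
      (hTcard a b (b + 1 - a).toNat (by omega) (by omega)) (hTidxR a b hab hlen)
  have hTnL : ∀ (a b : ℤ), a ≤ b → b + 1 - a ≤ t → T a b ≤ Subgroup.normalizer (T a (b - 1) : Set G) :=
    fun a b hab hlen => normal_of_relIndex_eq (hmono le_rfl (by omega))
      (hTcard a b (b + 1 - a).toNat (by omega) (by omega)) (hTidxL a b hab hlen)
  have hTinf : ∀ (a b : ℤ), a < b → b + 1 - a ≤ t → T (a + 1) b ⊓ T a (b - 1) = T (a + 1) (b - 1) := by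
    intro a b hab hlen
    obtain ⟨L, hL⟩ : ∃ L : ℕ, b - a - 1 = L := ⟨(b - a - 1).toNat, by omega⟩
    rw [hTeq (a + 1) b (L + 1) (by omega) (by omega), hTeq a (b - 1) (L + 1) (by omega) (by omega),
      hTeq (a + 1) (b - 1) L (by omega) (by omega)]
    rw [show (b - 1 - (t : ℤ)) = (b - t) + (-1) by ring, zpow_add, mul_smul, mul_smul, ← Subgroup.smul_inf]
    congr 1
    rw [show t - L = t - (L + 1) + 1 by omega]
    show D (t - (L + 1)) ⊓ φ ^ (-1 : ℤ) • D (t - (L + 1)) =
      φ ^ (-1 : ℤ) • (D (t - (L + 1)) ⊓ φ • D (t - (L + 1)))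
    rw [Subgroup.smul_inf, zpow_neg_one, inv_smul_smul, inf_comm]
  have hwin : ∀ i j : ℤ, i < j → j - i < t → ⁅x i, x j⁆ ∈ T (i + 1) (j - 1) := by
    intro i j hij hlen
    rw [← hTinf i j hij (by omega)]
    have hi : x i ∈ T i j := hmemT le_rfl hij.le
    have hj : x j ∈ T i j := hmemT hij.le le_rfl
    refine Subgroup.mem_inf.2 ⟨?_, ?_⟩
    · rw [commutatorElement_def]
      exact mul_mem ((Subgroup.mem_normalizer_iff.1 (hTnR i j hij.le (by omega) hi) _).1
        (hmemT (by omega) le_rfl)) (inv_mem (hmemT (by omega) le_rfl))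
    · rw [commutatorElement_def, mul_assoc, mul_assoc, ← mul_assoc (x j)]
      exact mul_mem (hmemT le_rfl (by omega))
        ((Subgroup.mem_normalizer_iff.1 (hTnL i j hij.le (by omega) hj) _).1
          (inv_mem (hmemT le_rfl (by omega))))
  -- the first non-commuting distance
  have hex : ∃ d : ℕ, 1 ≤ d ∧ (d = t ∨ ¬ Commute (x 1) (x (1 + d))) := ⟨t, ht1, Or.inl rfl⟩
  set k := Nat.find hex with hk
  obtain ⟨hk1, hk2⟩ := Nat.find_spec hex
  rw [← hk] at hk1 hk2
  have hkt : k ≤ t := Nat.find_min' hex ⟨ht1, Or.inl rfl⟩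
  have hcomm0 : ∀ d : ℕ, d < k → Commute (x 1) (x (1 + d)) := by
    intro d hd
    rcases Nat.eq_zero_or_pos d with rfl | hd0
    · simp
    by_contra h
    exact Nat.find_min hex hd ⟨hd0, Or.inr h⟩
  have hcomm : ∀ i j : ℤ, i - j < k → j - i < k → Commute (x i) (x j) := by
    have key : ∀ i : ℤ, ∀ d : ℕ, d < k → Commute (x i) (x (i + d)) := by
      intro i d hd
      have h := (hcomm0 d hd).map (φ ^ (i - 1))
      rw [hshift, hshift] at h
      rwa [show (1 : ℤ) + (i - 1) = i by ring, show (1 : ℤ) + d + (i - 1) = i + d by ring] at h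
    intro i j h1' h2'
    rcases le_total i j with h | h
    · obtain ⟨d, hd⟩ : ∃ d : ℕ, j = i + d := ⟨(j - i).toNat, by omega⟩
      rw [hd]; exact key i d (by omega)
    · obtain ⟨d, hd⟩ : ∃ d : ℕ, i = j + d := ⟨(i - j).toNat, by omega⟩
      rw [hd]; exact (key j d (by omega)).symm
  refine ⟨t, x, ht, ht1, hxne _, hshift, fun i => ?_, k, hk1, hkt, ?_, hcomm⟩
  · have h := hTD t 0 (zero_add t)
    rw [show P = D 0 from rfl, ← h, ← zpow_natCast, hTshift]
    simp only [hT, Nat.cast_zero, zero_add]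
  -- the bound
  by_cases hkeq : k = t
  · omega
  have hnc : ¬ Commute (x 1) (x (1 + (k : ℤ))) := hk2.resolve_left hkeq
  have hnc' : ∀ i : ℤ, ¬ Commute (x i) (x (i + k)) := by
    intro i h
    apply hnc
    have h2 := h.map (φ ^ (1 - i))
    rw [hshift, hshift] at h2
    rwa [show i + (1 - i) = 1 by ring, show i + k + (1 - i) = 1 + (k : ℤ) by ring] at h2
  set w := ⁅x 1, x (1 + (k : ℤ))⁆ with hw
  have hwne : w ≠ 1 := fun h => hnc (commutatorElement_eq_one_iff_commute.1 h)
  have hwT : w ∈ T 2 k := by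
    have h := hwin 1 (1 + (k : ℤ)) (by omega) (by omega)
    rwa [show (1 : ℤ) + 1 = 2 from rfl, show 1 + (k : ℤ) - 1 = k by ring] at h
  have hTemp : ∀ a b : ℤ, b < a → T a b = ⊥ := by
    intro a b h
    simp only [hT]
    rw [Set.Icc_eq_empty (not_le.2 h), Set.image_empty, Subgroup.closure_empty]
  -- the lowest index
  obtain ⟨r, hr2, hrk, hrin, hrout⟩ : ∃ r : ℤ, 2 ≤ r ∧ r ≤ k ∧ w ∈ T r k ∧ w ∉ T (r + 1) k := by
    by_contra hcon
    push Not at hcon
    have : ∀ d : ℕ, (d : ℤ) + 2 ≤ k + 1 → w ∈ T ((d : ℤ) + 2) k := by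
      intro d
      induction d with
      | zero => intro _; exact hwT
      | succ d ih =>
        intro hd
        have h := hcon ((d : ℤ) + 2) (by omega) (by push_cast at hd; omega)
          (ih (by push_cast at hd; omega))
        push_cast
        rwa [show (d : ℤ) + 1 + 2 = d + 2 + 1 by ring]
    have h := this (k - 1) (by omega)
    rw [hTemp _ _ (by omega), Subgroup.mem_bot] at h
    exact hwne h
  -- the highest index
  obtain ⟨s, hs2, hsk, hsin, hsout⟩ : ∃ s : ℤ, 2 ≤ s ∧ s ≤ k ∧ w ∈ T 2 s ∧ w ∉ T 2 (s - 1) := by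
    by_contra hcon
    push Not at hcon
    have : ∀ d : ℕ, (d : ℤ) + 1 ≤ k → w ∈ T 2 ((k : ℤ) - d) := by
      intro d
      induction d with
      | zero => intro _; simpa using hwT
      | succ d ih =>
        intro hd
        have h := hcon ((k : ℤ) - d) (by push_cast at hd; omega) (by omega)
          (ih (by push_cast at hd; omega))
        push_cast
        rwa [show (k : ℤ) - (d + 1) = k - d - 1 by ring]
    have h := this (k - 1) (by omega)
    rw [hTemp _ _ (by omega), Subgroup.mem_bot] at h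
    exact hwne h
  have hrs : r ≤ s := by
    by_contra hlt
    push Not at hlt
    have hstep : ∀ (n : ℕ) (a b : ℤ), a + n ≤ b + 1 → b + 2 - a ≤ t → w ∈ T a b →
        w ∈ T (a + n) (b + 1) → w ∈ T (a + n) b := by
      intro n
      induction n with
      | zero => intro a b _ _ h _; simpa using h
      | succ n ih =>
        intro a b h1' h2' hwa hwb
        push_cast at h1' hwb ⊢
        have hmid : w ∈ T (a + 1) b := by
          have := hTinf a (b + 1) (by omega) (by omega)
          rw [add_sub_cancel_right] at this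
          rw [← this]
          exact Subgroup.mem_inf.2 ⟨hmono (by omega) le_rfl hwb, hwa⟩
        have := ih (a + 1) b (by omega) (by omega) hmid
          (by rwa [show a + 1 + (n : ℤ) = a + (n + 1) by ring])
        rwa [show a + 1 + (n : ℤ) = a + (n + 1) by ring] at this
    have hall : ∀ e : ℕ, ∀ b : ℤ, s ≤ b → b + e = k → w ∈ T (s + 1) b := by
      intro e
      induction e with
      | zero =>
        intro b _ hb
        rw [show b = (k : ℤ) by simpa using hb]
        exact hmono (by omega) le_rfl hrin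
      | succ e ih =>
        intro b hb hbe
        push_cast at hbe
        have h := hstep (s - 1).toNat 2 b (by omega) (by omega) (hmono le_rfl hb hsin)
          (by rw [show (2 : ℤ) + ((s - 1).toNat : ℤ) = s + 1 by omega]
              exact ih (b + 1) (by omega) (by omega))
        rwa [show (2 : ℤ) + ((s - 1).toNat : ℤ) = s + 1 by omega] at h
    have h := hall ((k : ℤ) - s).toNat s le_rfl (by omega)
    rw [hTemp _ _ (by omega), Subgroup.mem_bot] at h
    exact hwne h
  have hA : (t : ℤ) < r + k := by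
    by_contra hle
    push Not at hle
    have hc : Commute (x (r + k)) w := by
      refine commute_commutator (T := T 2 (r + k - 1)) (hcomm _ _ (by omega) (by omega)) ?_ ?_ ?_
      · intro u hu
        exact (Subgroup.mem_centralizer_singleton_iff.1
          (hTcent (fun i hi hi' => hcomm i (1 + k) (by omega) (by omega)) hu)).symm
      · exact hTnR 1 (r + k - 1) (by omega) (by omega) (hmemT le_rfl (by omega))
      · exact hwin 1 (r + k) (by omega) (by omega)
    set C := Subgroup.centralizer ({x (r + k)} : Set G) ⊓ T r k with hC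
    have h1' : T (r + 1) k ≤ C := le_inf
      (hTcent fun i hi hi' => hcomm i (r + k) (by omega) (by omega)) (hmono (by omega) le_rfl)
    have h2' : C ≠ T (r + 1) k := fun e => hrout
      (e ▸ Subgroup.mem_inf.2 ⟨Subgroup.mem_centralizer_singleton_iff.2 hc.symm.eq, hrin⟩)
    have h3' := eq_of_prime_relIndex hp.out h1' inf_le_right h2' (hTidxR r k (by omega) (by omega))
    have h4 : x r ∈ C := h3'.symm ▸ hmemT le_rfl (by omega)
    exact hnc' r (Subgroup.mem_centralizer_singleton_iff.1 (Subgroup.mem_inf.1 h4).1)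
  have hB : (t : ℤ) < 2 * k + 2 - s := by
    by_contra hle
    push Not at hle
    have hc : Commute (x (s - k)) w := by
      have h := commute_commutator (a := x 1) (b := x (1 + k)) (c := x (s - k))
        (T := T (s - k + 1) k) (hcomm _ _ (by omega) (by omega)) ?_ ?_ ?_
      · have h2 := h.inv_right
        rwa [commutatorElement_inv] at h2
      · intro u hu
        exact (Subgroup.mem_centralizer_singleton_iff.1
          (hTcent (fun i hi hi' => hcomm i 1 (by omega) (by omega)) hu)).symm
      · have := hTnL (s - k + 1) (1 + k) (by omega) (by omega) (hmemT (i := 1 + (k : ℤ)) (by omega) le_rfl)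
        rwa [show 1 + (k : ℤ) - 1 = k by ring] at this
      · rw [← commutatorElement_inv]
        refine inv_mem ?_
        have := hwin (s - k) (1 + k) (by omega) (by omega)
        rwa [show 1 + (k : ℤ) - 1 = k by ring] at this
    set C := Subgroup.centralizer ({x (s - k)} : Set G) ⊓ T 2 s with hC
    have h1' : T 2 (s - 1) ≤ C := le_inf
      (hTcent fun i hi hi' => hcomm i (s - k) (by omega) (by omega)) (hmono le_rfl (by omega))
    have h2' : C ≠ T 2 (s - 1) := fun e => hsout
      (e ▸ Subgroup.mem_inf.2 ⟨Subgroup.mem_centralizer_singleton_iff.2 hc.symm.eq, hsin⟩)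
    have h3' := eq_of_prime_relIndex hp.out h1' inf_le_right h2' (hTidxL 2 s (by omega) (by omega))
    have h4 : x s ∈ C := h3'.symm ▸ hmemT (by omega) le_rfl
    apply hnc' (s - k)
    rw [show s - k + (k : ℤ) = s by ring]
    exact (Subgroup.mem_centralizer_singleton_iff.1 (Subgroup.mem_inf.1 h4).1).symm
  omega

theorem result {G : Type*} [Group G] [Finite G]
    (P : Subgroup G) (g : G) (p : ℕ) (hp : p.Prime)
    (hN : ((P ⊓ MulAut.conj g⁻¹ • P).subgroupOf (MulAut.conj g⁻¹ • P)).Normal)
    (hidx : (P ⊓ MulAut.conj g⁻¹ • P).relIndex (MulAut.conj g⁻¹ • P) = p)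
    (n : ℕ) (hn : 1 ≤ n) (K : Subgroup G) (hK : K = ⨆ i ∈ Finset.range (n + 1), MulAut.conj (g ^ i)⁻¹ • P)
    (h1 : ∀ Q : Subgroup G, Q ≤ P → (Q.subgroupOf P).Normal → MulAut.conj g • Q = Q → Q = ⊥)
    (h2 : P ⊓ (Subgroup.center K).map K.subtype = ⊥) :
    ∃ t : ℕ, Nat.card P = p ^ t ∧ 1 ≤ t ∧ t ≤ 3 * n ∧ t ≠ 3 * n - 1 := by
  haveI := Fact.mk hp
  obtain ⟨t, x, ht, ht1, hxt, hshift, hP, k, hk1, hkt, hbound, hcomm⟩ :=
    main (MulAut.conj g⁻¹) P p hN hidx fun Q hQ hQn hfix => h1 Q hQ hQn (by
      conv_lhs => rw [← hfix]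
      rw [map_inv, smul_inv_smul])
  have key : 2 * k ≤ t + n := by
    by_contra hlt
    have hPK : ∀ i ∈ Finset.range (n + 1), MulAut.conj (g ^ i)⁻¹ • P ≤ K := fun i hi =>
      hK ▸ le_iSup₂ (f := fun i (_ : i ∈ Finset.range (n + 1)) => MulAut.conj (g ^ i)⁻¹ • P) i hi
    have hpow : ∀ i : ℕ, MulAut.conj (g ^ i)⁻¹ = MulAut.conj g⁻¹ ^ i := fun i => by
      rw [← map_pow, inv_pow]
    have hxP : x (k : ℤ) ∈ P := by
      have h := hP 0
      rw [pow_zero, one_smul] at h
      rw [h]
      exact Subgroup.subset_closure ⟨_, ⟨by omega, by omega⟩, rfl⟩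
    have hxK : x (k : ℤ) ∈ K := by
      refine hPK 0 (by simp) ?_
      simpa using hxP
    have hcen : ∀ y ∈ K, y * x (k : ℤ) = x (k : ℤ) * y := by
      have hle : K ≤ Subgroup.centralizer ({x (k : ℤ)} : Set G) := by
        rw [hK]
        refine iSup₂_le fun i hi => ?_
        rw [hpow, hP i, Subgroup.closure_le]
        rintro _ ⟨j, ⟨hj1, hj2⟩, rfl⟩
        have hi' := Finset.mem_range.1 hi
        exact Subgroup.mem_centralizer_singleton_iff.2 (hcomm j k (by omega) (by omega)).eq
      exact fun y hy => Subgroup.mem_centralizer_singleton_iff.1 (hle hy)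
    have hmem : x (k : ℤ) ∈ P ⊓ (Subgroup.center K).map K.subtype :=
      Subgroup.mem_inf.2 ⟨hxP, ⟨x k, hxK⟩,
        Subgroup.mem_center_iff.2 fun y => Subtype.ext (hcen y y.2), rfl⟩
    rw [h2, Subgroup.mem_bot] at hmem
    apply hxt
    have h := hshift ((t : ℤ) - k) k
    rw [hmem, map_one] at h
    rw [h]
    congr 1
    ring
  exact ⟨t, ht, ht1, by omega, by omega⟩

end Cfsg.Agent.S4359
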