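import Cfsg.Statements.S4365
-- import your own Cfsg.Agent.* helpers here

set_option autoImplicit false
open Cfsg

namespace Cfsg.Agent.S4365

open Finset
open scoped IsMulCommutative

/-- Averaging over the `p + 1` subgroups of order `p` of an elementary abelian group of rank 2. -/
theorem pow_mem_of_norms {A : Type*} [CommGroup A] (p : ℕ) [Fact p.Prime] (Z : Subgroup A) (b : A)
    (σ τ : MulAut A) (hcomm : Commute σ τ) (hτ : τ ^ p = 1)
    (hN2 : ∀ c : A, ∏ j ∈ range p, (τ ^ j) c ∈ Z)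
    (hfix : ∀ z ∈ Z, σ z = z)
    (hNk : ∀ k : ℕ, ∏ i ∈ range p, ((σ * τ ^ k) ^ i) b ∈ Z) : b ^ p ∈ Z := by
  have hp : 0 < p := (Fact.out : p.Prime).pos
  let f : ℕ → ℕ → A := fun i j => (σ ^ i) ((τ ^ j) b)
  have hf : ∀ k i, ((σ * τ ^ k) ^ i) b = f i (k * i % p) := by
    intro k i
    rw [(hcomm.pow_right k).mul_pow, ← pow_mul, MulAut.mul_apply, pow_eq_pow_mod (k * i) hτ]
  -- the whole square
  have hsq : ∏ i ∈ range p, ∏ j ∈ range p, f i j ∈ Z := by
    have hfixn : ∀ i, ∀ z ∈ Z, (σ ^ i) z = z := by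
      intro i
      induction i with
      | zero => simp
      | succ i ih => intro z hz; rw [pow_succ, MulAut.mul_apply, hfix z hz, ih z hz]
    have : ∀ i ∈ range p, ∏ j ∈ range p, f i j = ∏ j ∈ range p, (τ ^ j) b := by
      intro i _
      rw [← map_prod]
      exact hfixn i _ (hN2 b)
    rw [Finset.prod_congr rfl this, Finset.prod_const]
    exact pow_mem (hN2 b) _
  have hrow : ∀ i ∈ range p, i ≠ 0 → ∏ k ∈ range p, f i (k * i % p) = ∏ j ∈ range p, f i j := by
    intro i hi hi0
    have hinj : Set.InjOn (fun k => k * i % p) (range p : Set ℕ) := by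
      intro a ha b hb hab
      have hcop : Nat.Coprime p i := (Nat.Prime.coprime_iff_not_dvd Fact.out).mpr
        (Nat.not_dvd_of_pos_of_lt (Nat.pos_of_ne_zero hi0) (mem_range.mp hi))
      have hm : a ≡ b [MOD p] := Nat.ModEq.cancel_right_of_coprime hcop hab
      exact Nat.ModEq.eq_of_lt_of_lt hm (mem_range.mp ha) (mem_range.mp hb)
    have himg : (range p).image (fun k => k * i % p) = range p := by
      refine Finset.eq_of_subset_of_card_le (fun j hj => ?_) (by rw [Finset.card_image_of_injOn hinj])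
      obtain ⟨k, -, rfl⟩ := Finset.mem_image.mp hj
      exact mem_range.mpr (Nat.mod_lt _ hp)
    conv_rhs => rw [← himg]
    rw [Finset.prod_image hinj]
  have hall : ∏ k ∈ range p, ∏ i ∈ range p, f i (k * i % p) ∈ Z :=
    prod_mem fun k _ => by simpa [hf] using hNk k
  rw [Finset.prod_comm, ← Finset.mul_prod_erase _ _ (mem_range.mpr hp),
    Finset.prod_congr rfl (fun i hi => hrow i (Finset.mem_of_mem_erase hi) (Finset.ne_of_mem_erase hi))] at hall
  rw [← Finset.mul_prod_erase _ _ (mem_range.mpr hp)] at hsq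
  have h1 : ∏ j ∈ range p, f 0 j ∈ Z := by simpa [f] using hN2 b
  have h2 := (Z.mul_mem_cancel_left h1).mp hsq
  have h3 := (Z.mul_mem_cancel_right h2).mp hall
  simpa [f] using h3

theorem mul_pow_conj {G : Type*} [Group G] (A : Subgroup G) [A.Normal] [IsMulCommutative A] (y : G) (b : A) (n : ℕ) :
    ((y⁻¹ : G) ^ n * ((y : G) * b) ^ n) =
      ((∏ i ∈ range n, ((MulAut.conjNormal y⁻¹ : MulAut A) ^ i) b : A) : G) := by
  induction n with
  | zero => simp
  | succ n ih =>
    rw [Finset.prod_range_succ', pow_succ (y⁻¹), pow_succ' ((y : G) * b), Subgroup.coe_mul]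
    have e : (((MulAut.conjNormal y⁻¹ : MulAut A) ^ 0) b : G) = b := by simp
    rw [e]
    have e2 : ∏ i ∈ range n, ((MulAut.conjNormal y⁻¹ : MulAut A) ^ (i + 1)) b =
        (MulAut.conjNormal y⁻¹ : MulAut A) (∏ i ∈ range n, ((MulAut.conjNormal y⁻¹ : MulAut A) ^ i) b) := by
      rw [map_prod]; refine Finset.prod_congr rfl fun i _ => ?_
      rw [pow_succ', MulAut.mul_apply]
    rw [e2, MulAut.conjNormal_apply, ← ih, inv_inv]
    have e3 : ((y : G) * b) * ((y : G) * b) ^ n = ((y : G) * b) ^ n * ((y : G) * b) := (pow_mul_comm' _ _).symm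
    rw [e3, ← pow_succ, pow_succ']
    group



/-- Let P be a finite p-group whose conjugacy class sizes are exactly 1 and pᵃ for some a ≥ 1. Then every element of P has its p-th power in the center of P (P/Z(P) has exponent p). -/
theorem result {P : Type*} [Group P] [Finite P] (p : ℕ) [Fact p.Prime]
    (hP : IsPGroup p P) (a : ℕ) (ha : 1 ≤ a)
    (hcs : {k : ℕ | ∃ x : P, (Subgroup.centralizer ({x} : Set P)).index = k} = {1, p ^ a}) (x : P) :
    x ^ p ∈ Subgroup.center P := by
  classical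
  by_contra hx
  have hp := (Fact.out : p.Prime)
  have hsize : ∀ g : P, g ∉ Subgroup.center P → (Subgroup.centralizer ({g} : Set P)).index = p ^ a := by
    intro g hg
    have h1 : (Subgroup.centralizer ({g} : Set P)).index ∈ ({1, p ^ a} : Set ℕ) := hcs ▸ ⟨g, rfl⟩
    refine h1.resolve_left fun h => hg ?_
    rw [Subgroup.index_eq_one] at h
    rw [Subgroup.mem_center_iff]
    intro k
    exact Subgroup.mem_centralizer_singleton_iff.mp (h ▸ Subgroup.mem_top k)
  have heq : ∀ g w : P, g ∉ Subgroup.center P → w ∉ Subgroup.center P →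
      Subgroup.centralizer ({g} : Set P) ≤ Subgroup.centralizer ({w} : Set P) →
      Subgroup.centralizer ({g} : Set P) = Subgroup.centralizer ({w} : Set P) := by
    intro g w hg hw hle
    refine eq_of_le_of_not_lt hle fun hlt => ?_
    have h1 := Subgroup.relIndex_mul_index hle
    rw [hsize g hg, hsize w hw] at h1
    have h2 : (Subgroup.centralizer ({g} : Set P)).relIndex (Subgroup.centralizer ({w} : Set P)) = 1 :=
      Nat.eq_of_mul_eq_mul_right (pow_pos hp.pos a) (h1.trans (one_mul _).symm)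
    exact hlt.not_ge (Subgroup.relIndex_eq_one.mp h2)
  have hmem : ∀ g k : P, k ∈ Subgroup.centralizer ({g} : Set P) ↔ Commute k g := fun g k =>
    Subgroup.mem_centralizer_singleton_iff
  -- elements with noncentral `p`-th power
  have hpow : ∀ g : P, g ^ p ∉ Subgroup.center P → g ∉ Subgroup.center P ∧
      Subgroup.centralizer ({g} : Set P) = Subgroup.centralizer ({g ^ p} : Set P) := by
    intro g hg
    have hg' : g ∉ Subgroup.center P := fun h => hg (pow_mem h p)
    refine ⟨hg', heq g _ hg' hg fun k hk => ?_⟩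
    rw [hmem] at hk ⊢
    exact hk.pow_right p
  set C := Subgroup.centralizer ({x} : Set P) with hC
  obtain ⟨hxZ, hCx⟩ := hpow x hx
  have hab : ∀ g ∈ C, Subgroup.centralizer ({g} : Set P) ≥ C := by
    intro g₀ hg₀
    suffices h : ∀ n : ℕ, ∀ g ∈ C, g ^ p ^ n = 1 → C ≤ Subgroup.centralizer ({g} : Set P) by
      obtain ⟨n, hn⟩ := hP g₀
      exact h n g₀ hg₀ hn
    intro n
    induction n with
    | zero =>
      intro g _ hg1 k _
      rw [hmem]
      simp only [pow_zero, pow_one] at hg1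
      rw [hg1]; exact Commute.one_right k
    | succ n ih =>
      intro g hg hgp
      have h1 := ih (g ^ p) (pow_mem hg p) (by rw [← pow_mul, ← pow_succ']; exact hgp)
      by_cases hz : g ^ p ∈ Subgroup.center P
      · by_cases hg0 : g ∈ Subgroup.center P
        · intro k _; rw [hmem]; exact Subgroup.mem_center_iff.mp hg0 k
        have hgx : Commute g x := (hmem x g).mp hg
        have hxg : (x * g) ^ p ∉ Subgroup.center P := by
          rw [hgx.symm.mul_pow]
          exact fun h => hx ((Subgroup.mul_mem_cancel_right _ hz).mp h)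
        obtain ⟨_, he⟩ := hpow (x * g) hxg
        intro k hk
        have hkx : Commute k x := (hmem x k).mp hk
        have hk2 : k ∈ Subgroup.centralizer ({(x * g) ^ p} : Set P) := by
          rw [hmem, hgx.symm.mul_pow]
          exact (hkx.pow_right p).mul_right (Subgroup.mem_center_iff.mp hz k)
        rw [← he, hmem] at hk2
        rw [hmem]
        have : Commute k (x⁻¹ * (x * g)) := hkx.inv_right.mul_right hk2
        simpa using this
      · obtain ⟨_, he⟩ := hpow g hz
        rw [he]; exact h1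
  have hCab : ∀ g ∈ C, ∀ k ∈ C, Commute g k := fun g hg k hk => (hmem k g).mp (hab k hk hg)
  -- an element of the second centre of order `p` modulo the centre
  obtain ⟨z, hzZ, hzp, hz2⟩ : ∃ z : P, z ∉ Subgroup.center P ∧ z ^ p ∈ Subgroup.center P ∧
      ∀ k : P, z * k * z⁻¹ * k⁻¹ ∈ Subgroup.center P := by
    set Q := P ⧸ Subgroup.center P
    haveI : Nontrivial Q := by
      refine ⟨QuotientGroup.mk x, 1, fun h => hxZ ((QuotientGroup.eq_one_iff x).mp h)⟩
    have hQ : IsPGroup p Q := hP.to_quotient _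
    haveI := hQ.center_nontrivial
    obtain ⟨k, hk0, hk⟩ := (hQ.to_subgroup (Subgroup.center Q)).nontrivial_iff_card.mp inferInstance
    obtain ⟨w, hw⟩ := exists_prime_orderOf_dvd_card' (G := Subgroup.center Q) p (hk ▸ dvd_pow_self p (by omega))
    obtain ⟨z, hz⟩ := QuotientGroup.mk_surjective (w : Q)
    have hwp : (w : Q) ^ p = 1 := by rw [← Subgroup.coe_pow, ← hw, pow_orderOf_eq_one, Subgroup.coe_one]
    refine ⟨z, fun h => ?_, ?_, fun k => ?_⟩
    · have h1 : w = 1 := Subtype.ext (hz ▸ (QuotientGroup.eq_one_iff z).mpr h)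
      rw [h1, orderOf_one] at hw
      exact hp.ne_one hw.symm
    · rw [← QuotientGroup.eq_one_iff]
      show ((z ^ p : P) : Q) = 1
      rw [QuotientGroup.mk_pow, hz, hwp]
    · rw [← QuotientGroup.eq_one_iff]
      show ((z * k * z⁻¹ * k⁻¹ : P) : Q) = 1
      simp only [QuotientGroup.mk_mul, QuotientGroup.mk_inv, hz]
      rw [(Subgroup.mem_center_iff.mp w.2 (k : Q)).symm]
      group
  let φ : P →* Subgroup.center P := MonoidHom.mk' (fun k => ⟨z * k * z⁻¹ * k⁻¹, hz2 k⟩) fun g k => by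
    apply Subtype.ext
    show z * (g * k) * z⁻¹ * (g * k)⁻¹ = (z * g * z⁻¹ * g⁻¹) * (z * k * z⁻¹ * k⁻¹)
    have hc := Subgroup.mem_center_iff.mp (hz2 k) g⁻¹
    calc z * (g * k) * z⁻¹ * (g * k)⁻¹ = z * g * z⁻¹ * ((z * k * z⁻¹ * k⁻¹) * g⁻¹) := by group
      _ = z * g * z⁻¹ * (g⁻¹ * (z * k * z⁻¹ * k⁻¹)) := by rw [hc]
      _ = _ := by group
  have hker : Subgroup.centralizer ({z} : Set P) = φ.ker := by
    ext k
    rw [hmem, MonoidHom.mem_ker]
    show k * z = z * k ↔ (⟨z * k * z⁻¹ * k⁻¹, _⟩ : Subgroup.center P) = 1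
    rw [Subtype.ext_iff, Subgroup.coe_one]
    constructor
    · intro h
      show z * k * z⁻¹ * k⁻¹ = 1
      calc z * k * z⁻¹ * k⁻¹ = k * z * z⁻¹ * k⁻¹ := by rw [h]
        _ = 1 := by group
    · intro h
      change z * k * z⁻¹ * k⁻¹ = 1 at h
      calc k * z = (z * k * z⁻¹ * k⁻¹)⁻¹ * (z * k) := by group
        _ = z * k := by rw [h]; group
  have hφp : ∀ g : P, g ^ p ∈ Subgroup.centralizer ({z} : Set P) := by
    intro g
    rw [hker, MonoidHom.mem_ker]
    have hzg : ∀ n : ℕ, ((φ g : Subgroup.center P) : P) ^ n = z ^ n * g * (z ^ n)⁻¹ * g⁻¹ := by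
      intro n
      induction n with
      | zero => simp
      | succ n ih =>
        rw [pow_succ, ih]
        have hc : g * (z * g * z⁻¹ * g⁻¹) = (z * g * z⁻¹ * g⁻¹) * g := Subgroup.mem_center_iff.mp (hz2 g) g
        have hcz : z ^ n * (z * g * z⁻¹ * g⁻¹) = (z * g * z⁻¹ * g⁻¹) * z ^ n := Subgroup.mem_center_iff.mp (hz2 g) _
        show z ^ n * g * (z ^ n)⁻¹ * g⁻¹ * (z * g * z⁻¹ * g⁻¹) = _
        calc z ^ n * g * (z ^ n)⁻¹ * g⁻¹ * (z * g * z⁻¹ * g⁻¹)
            = (z ^ n * g * (z ^ n)⁻¹ * g⁻¹) * (z * g * z⁻¹ * g⁻¹) := rfl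
          _ = (z * g * z⁻¹ * g⁻¹) * (z ^ n * g * (z ^ n)⁻¹ * g⁻¹) := Subgroup.mem_center_iff.mp (hz2 g) _
          _ = z ^ (n + 1) * g * (z ^ (n + 1))⁻¹ * g⁻¹ := by
              rw [show z * g * z⁻¹ * g⁻¹ * (z ^ n * g * (z ^ n)⁻¹ * g⁻¹) = (z * g * z⁻¹ * g⁻¹ * z ^ n) * (g * (z ^ n)⁻¹ * g⁻¹) by group, ← hcz]
              group
    refine Subtype.ext ?_
    rw [map_pow, Subgroup.coe_pow, Subgroup.coe_one, hzg p, ← Subgroup.mem_center_iff.mp hzp g]
    group
  have hzC : C = Subgroup.centralizer ({z} : Set P) := by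
    have h1 : z ∈ C := by
      rw [hC, hCx, hmem]
      exact ((hmem z (x ^ p)).mp (hφp x)).symm
    exact heq x z hxZ hzZ (hab z h1)
  haveI hCn : C.Normal := by rw [hzC, hker]; exact φ.normal_ker
  haveI : IsMulCommutative C := ⟨⟨fun g k => Subtype.ext (hCab g g.2 k k.2)⟩⟩
  have hZC : Subgroup.center P ≤ C := fun g hg => (hmem x g).mpr (Subgroup.mem_center_iff.mp hg x).symm
  have hout : ∀ g : P, g ∉ C → g ^ p ∈ Subgroup.center P := by
    intro g hg
    by_contra h
    obtain ⟨hgZ, he⟩ := hpow g h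
    apply hg
    rw [hzC, hmem]
    have : z ∈ Subgroup.centralizer ({g} : Set P) := by
      rw [he, hmem]; exact ((hmem z (g ^ p)).mp (hφp g)).symm
    exact ((hmem g z).mp this).symm
  have hinf : ∀ g : P, g ∉ C → Subgroup.centralizer ({g} : Set P) ⊓ C ≤ Subgroup.center P := by
    intro g hg k ⟨hk1, hk2⟩
    by_contra hk
    apply hg
    rw [hC, heq x k hxZ hk (hab k hk2), hmem]
    exact ((hmem g k).mp hk1).symm
  obtain ⟨g₁, hg₁⟩ : ∃ g, g ∉ C := by
    by_contra h
    push Not at h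
    exact hzZ (Subgroup.mem_center_iff.mpr fun k => (hmem z k).mp (hzC ▸ h k))
  by_cases hrk : ∀ g : P, g ∈ C ⊔ Subgroup.zpowers g₁
  · -- rank one
    have hindex : C.index ∣ p := by
      have hgp : g₁ ^ p ∈ C := hzC ▸ hφp g₁
      have hgen : ∀ q : P ⧸ C, q ∈ Subgroup.zpowers ((g₁ : P) : P ⧸ C) := by
        intro q
        obtain ⟨g, rfl⟩ := QuotientGroup.mk_surjective q
        obtain ⟨c, hc, w, hw, rfl⟩ := Subgroup.mem_sup_of_normal_left.mp (hrk g)
        obtain ⟨i, rfl⟩ := Subgroup.mem_zpowers_iff.mp hw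
        rw [QuotientGroup.mk_mul, (QuotientGroup.eq_one_iff c).mpr hc, one_mul, QuotientGroup.mk_zpow]
        exact ⟨i, rfl⟩
      rw [Subgroup.index_eq_card, ← orderOf_eq_card_of_forall_mem_zpowers hgen]
      exact orderOf_dvd_of_pow_eq_one (by rw [← QuotientGroup.mk_pow]; exact (QuotientGroup.eq_one_iff _).mpr hgp)
    have hcard : ∀ g : P, g ∉ Subgroup.center P →
        Nat.card (Subgroup.centralizer ({g} : Set P)) * p ^ a = Nat.card P := fun g hg =>
      hsize g hg ▸ Subgroup.card_mul_index _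
    set D := Subgroup.centralizer ({g₁} : Set P)
    have hg₁Z : g₁ ∉ Subgroup.center P := fun h => hg₁ (hZC h)
    have h1 : Nat.card D = Nat.card C :=
      Nat.eq_of_mul_eq_mul_right (pow_pos hp.pos a) ((hcard g₁ hg₁Z).trans (hcard x hxZ).symm)
    have h2 := Subgroup.relIndex_mul_relIndex ⊥ (C ⊓ D) D bot_le inf_le_right
    rw [Subgroup.relIndex_bot_left, Subgroup.relIndex_bot_left, Subgroup.inf_relIndex_right] at h2
    have h3 : C.relIndex D ≤ p := Nat.le_of_dvd hp.pos ((Subgroup.relIndex_dvd_index_of_normal C D).trans hindex)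
    have h4 : Nat.card ↥(C ⊓ D) ≤ Nat.card (Subgroup.center P) :=
      Nat.le_of_dvd Nat.card_pos (Subgroup.card_dvd_of_le (inf_comm C D ▸ hinf g₁ hg₁))
    set Z' := (Subgroup.center P).subgroupOf C
    have h5 := Z'.card_mul_index
    rw [Nat.card_congr (Subgroup.subgroupOfEquivOfLe hZC).toEquiv] at h5
    have h6 : Z'.index ≤ p := by
      by_contra h
      push Not at h
      have := Nat.mul_lt_mul_of_pos_left h (Nat.card_pos (α := Subgroup.center P))
      have := Nat.mul_le_mul h4 h3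
      omega
    obtain ⟨k, hk⟩ := ((hP.to_subgroup C).to_quotient Z').exists_card_eq
    rw [← Subgroup.index_eq_card] at hk
    have hk1 : k ≤ 1 := by
      by_contra h
      have : p ^ 2 ≤ p ^ k := Nat.pow_le_pow_right hp.pos (by omega)
      have : p * 2 ≤ p ^ 2 := by rw [pow_two]; exact Nat.mul_le_mul_left p hp.two_le
      have := hp.pos
      omega
    apply hx
    have hxC : x ∈ C := (hmem x x).mpr rfl
    haveI : Z'.Normal := inferInstance
    have h7 := Z'.pow_index_mem ⟨x, hxC⟩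
    rcases Nat.le_one_iff_eq_zero_or_eq_one.mp hk1 with rfl | rfl
    · rw [hk, pow_zero, pow_one] at h7
      exact absurd h7 hxZ
    · rw [hk, pow_one] at h7
      exact h7
  · -- rank at least two
    push Not at hrk
    obtain ⟨g₂, hg₂⟩ := hrk
    apply hx
    have hxC : x ∈ C := (hmem x x).mpr rfl
    set Z' := (Subgroup.center P).subgroupOf C
    set σ : MulAut C := MulAut.conjNormal g₂⁻¹
    set τ : MulAut C := MulAut.conjNormal g₁⁻¹
    have htriv : ∀ c ∈ C, (MulAut.conjNormal c : MulAut C) = 1 := by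
      intro c hc
      ext b
      rw [MulAut.conjNormal_apply]
      show c * (b : P) * c⁻¹ = b
      rw [(hCab c hc b b.2).eq, mul_inv_cancel_right]
    have hcomm : Commute σ τ := by
      show σ * τ = τ * σ
      have h1 : g₁ * g₂ * g₁⁻¹ * g₂⁻¹ ∈ C := by
        rw [hzC, hker, MonoidHom.mem_ker, map_mul, map_mul, map_mul, map_inv, map_inv, mul_comm (φ g₁) (φ g₂)]
        group
      have h2 := htriv _ h1
      simp only [map_mul, map_inv] at h2
      simp only [σ, τ, map_inv]
      rw [mul_inv_eq_one] at h2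
      rw [← mul_inv_rev, ← mul_inv_rev, inv_inj]
      exact mul_inv_eq_iff_eq_mul.mp h2
    have hτ : τ ^ p = 1 := by
      rw [← map_pow]
      apply htriv
      rw [inv_pow]
      exact inv_mem (hzC ▸ hφp g₁)
    have hnorm : ∀ y : P, y ∉ C → ∀ b : C, ∏ i ∈ Finset.range p, ((MulAut.conjNormal y⁻¹ : MulAut C) ^ i) b ∈ Z' := by
      intro y hy b
      rw [Subgroup.mem_subgroupOf, ← mul_pow_conj]
      refine mul_mem (inv_pow y p ▸ inv_mem (hout y hy)) (hout _ fun h => hy ?_)
      exact (Subgroup.mul_mem_cancel_right C b.2).mp h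
    refine pow_mem_of_norms p Z' (⟨x, hxC⟩ : C) σ τ hcomm hτ (hnorm g₁ hg₁) ?_ fun k => ?_
    · intro c hc
      apply Subtype.ext
      have hc' : g₂⁻¹ * (c : P) = (c : P) * g₂⁻¹ := Subgroup.mem_center_iff.mp hc g₂⁻¹
      rw [MulAut.conjNormal_apply, hc']
      group
    · have he : σ * τ ^ k = MulAut.conjNormal (g₁ ^ k * g₂)⁻¹ := by
        rw [mul_inv_rev, map_mul, ← inv_pow, map_pow]
      rw [he]
      refine hnorm _ (fun h => hg₂ ?_) _
      have : g₂ = (g₁ ^ k)⁻¹ * (g₁ ^ k * g₂) := by group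
      rw [this]
      exact mul_mem (inv_mem (pow_mem (Subgroup.mem_sup_right (Subgroup.mem_zpowers g₁)) k)) (Subgroup.mem_sup_left h)

end Cfsg.Agent.S4365
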