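import Cfsg.Statements.S4370
-- import your own Cfsg.Agent.* helpers here
import Cfsg.Agent.Lib.PGroupsCyclic

set_option autoImplicit false
open Cfsg

namespace Cfsg.Agent.S4370

theorem two_torsion {n : ℕ} [NeZero n] (j : ZMod (2 * n)) (hj : j + j = 0) :
    j = 0 ∨ j = (n : ZMod (2 * n)) := by
  have h1 : 2 * n ∣ j.val + j.val := by
    rw [← ZMod.natCast_eq_zero_iff, Nat.cast_add, ZMod.natCast_zmod_val]
    exact hj
  obtain ⟨c, hc⟩ := h1
  have hlt := ZMod.val_lt j
  have hn : 0 < n := Nat.pos_of_ne_zero (NeZero.ne n)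
  have hc2 : c ≤ 1 := by
    by_contra h
    have := Nat.mul_le_mul_left (2 * n) (show 2 ≤ c by omega)
    omega
  rcases Nat.le_one_iff_eq_zero_or_eq_one.mp hc2 with rfl | rfl
  · left
    rw [← ZMod.natCast_zmod_val j, show j.val = 0 by omega, Nat.cast_zero]
  · right
    rw [← ZMod.natCast_zmod_val j, show j.val = n by omega]

theorem quaternion_centralizer_cyclic {n : ℕ} [NeZero n] (g : QuaternionGroup n)
    (hg : g ∉ Subgroup.center (QuaternionGroup n)) :
    IsCyclic (Subgroup.centralizer ({g} : Set (QuaternionGroup n))) := by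
  cases g with
  | a i =>
    have hi : i + i ≠ 0 := by
      intro h
      apply hg
      rw [Subgroup.mem_center_iff]
      rintro (j | j)
      · simp [add_comm]
      · simp only [QuaternionGroup.xa_mul_a, QuaternionGroup.a_mul_xa, QuaternionGroup.xa.injEq]
        linear_combination h
    refine Subgroup.isCyclic_of_le (H' := Subgroup.zpowers (QuaternionGroup.a 1)) ?_
    rintro (j | j) hy
    · refine ⟨(j.val : ℤ), ?_⟩
      show QuaternionGroup.a 1 ^ ((j.val : ℕ) : ℤ) = QuaternionGroup.a j
      rw [zpow_natCast, QuaternionGroup.a_one_pow, ZMod.natCast_zmod_val]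
    · have h1 := Subgroup.mem_centralizer_singleton_iff.mp hy
      simp only [QuaternionGroup.xa_mul_a, QuaternionGroup.a_mul_xa, QuaternionGroup.xa.injEq] at h1
      exact absurd (by linear_combination h1) hi
  | xa i =>
    refine Subgroup.isCyclic_of_le (H' := Subgroup.zpowers (QuaternionGroup.xa i)) ?_
    have hsq : (QuaternionGroup.xa i : QuaternionGroup n) ^ 2 = QuaternionGroup.a n := QuaternionGroup.xa_sq i
    rintro (j | j) hy
    · have h1 := Subgroup.mem_centralizer_singleton_iff.mp hy
      simp only [QuaternionGroup.xa_mul_a, QuaternionGroup.a_mul_xa, QuaternionGroup.xa.injEq] at h1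
      rcases two_torsion j (by linear_combination -h1) with rfl | rfl
      · exact one_mem _
      · exact hsq ▸ pow_mem (Subgroup.mem_zpowers _) 2
    · have h1 := Subgroup.mem_centralizer_singleton_iff.mp hy
      simp only [QuaternionGroup.xa_mul_xa, QuaternionGroup.a.injEq] at h1
      rcases two_torsion (j - i) (by linear_combination -h1) with h2 | h2
      · rw [sub_eq_zero.mp h2]; exact Subgroup.mem_zpowers _
      · have : QuaternionGroup.xa i * QuaternionGroup.a n = (QuaternionGroup.xa j : QuaternionGroup n) := by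
          rw [QuaternionGroup.xa_mul_a, ← h2]; congr 1; ring
        rw [← this, ← hsq]
        exact mul_mem (Subgroup.mem_zpowers _) (pow_mem (Subgroup.mem_zpowers _) 2)

variable {G : Type*} [Group G] [Finite G]

theorem commute_of_coprime [Group.IsNilpotent G] {p q : ℕ} [Fact p.Prime] [Fact q.Prime] (hne : p ≠ q)
    (P : Sylow p G) (Q : Sylow q G) (a b : G) (ha : a ∈ (P : Subgroup G)) (hb : b ∈ (Q : Subgroup G)) : Commute a b :=
  Subgroup.commute_of_normal_of_disjoint _ _ inferInstance inferInstance
    (IsPGroup.disjoint_of_ne p q hne _ _ P.isPGroup' Q.isPGroup') a b ha hb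

theorem forward [Group.IsNilpotent G] (hna : ¬ IsMulCommutative G)
    (h : ∀ x : G, x ∉ Subgroup.center G → IsCyclic (Subgroup.centralizer ({x} : Set G))) :
    ∃ (k m : ℕ), 1 ≤ k ∧ Odd m ∧ Nonempty (G ≃* QuaternionGroup (2 ^ k) × Multiplicative (ZMod m)) := by
  classical
  -- some Sylow subgroup is nonabelian
  obtain ⟨p, hp, P, hP⟩ : ∃ (p : ℕ) (_ : Fact p.Prime) (P : Sylow p G), ¬ IsMulCommutative (P : Subgroup G) := by
    by_contra hcon
    push Not at hcon
    apply hna
    obtain ⟨e⟩ := (Group.isNilpotent_of_finite_tfae (G := G)).out 0 4 rfl rfl |>.mp (inferInstance : Group.IsNilpotent G)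
    refine ⟨⟨fun a b => ?_⟩⟩
    apply e.symm.injective
    rw [map_mul, map_mul]
    funext q Q
    haveI := Fact.mk (Nat.prime_of_mem_primeFactors q.2)
    exact ((hcon q inferInstance Q).is_comm.comm _ _)
  haveI := hp
  obtain ⟨x, hxP, y, hyP, hxy⟩ : ∃ x ∈ (P : Subgroup G), ∃ y ∈ (P : Subgroup G), x * y ≠ y * x := by
    by_contra hcon
    push Not at hcon
    exact hP ⟨⟨fun a b => Subtype.ext (hcon a a.2 b b.2)⟩⟩
  have hxZ : x ∉ Subgroup.center G := fun hx => hxy ((Subgroup.mem_center_iff.mp hx y).symm)
  have huniq : ∀ H K : Subgroup (P : Subgroup G), Nat.card H = p → Nat.card K = p → H = K := by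
    have key : ∀ u w : G, u ∈ (P : Subgroup G) → w ∈ (P : Subgroup G) → orderOf u = p → orderOf w = p →
        Commute u w → ∀ v : G, v ∉ Subgroup.center G → Commute u v → Commute w v →
          u ∈ Subgroup.zpowers w := by
      intro u w _ _ hu hw _ v hv huv hwv
      haveI := h v hv
      set C := Subgroup.centralizer ({v} : Set G)
      have hu' : u ∈ C := Subgroup.mem_centralizer_singleton_iff.mpr huv.eq
      have hw' : w ∈ C := Subgroup.mem_centralizer_singleton_iff.mpr hwv.eq
      have e1 : Nat.card (Subgroup.zpowers (⟨u, hu'⟩ : C)) = Nat.card (Subgroup.zpowers (⟨w, hw'⟩ : C)) := by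
        rw [Nat.card_zpowers, Nat.card_zpowers, Subgroup.orderOf_mk, Subgroup.orderOf_mk, hu, hw]
      have e2 := PGroupsCyclic.eq_of_card_eq_of_isCyclic (A := (⊤ : Subgroup C)) (Subgroup.topEquiv.isCyclic.mpr inferInstance) le_top le_top e1
      obtain ⟨i, hi⟩ := Subgroup.mem_zpowers_iff.mp (e2 ▸ Subgroup.mem_zpowers (⟨u, hu'⟩ : C))
      exact Subgroup.mem_zpowers_iff.mpr ⟨i, congrArg Subtype.val hi⟩
    haveI : Nontrivial (P : Subgroup G) := ⟨⟨x, hxP⟩, 1, fun e => hxZ (by rw [show x = 1 from congrArg Subtype.val e]; exact one_mem _)⟩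
    haveI := P.isPGroup'.center_nontrivial
    obtain ⟨n, hn, hn'⟩ := (P.isPGroup'.to_subgroup (Subgroup.center (P : Subgroup G))).nontrivial_iff_card.mp inferInstance
    obtain ⟨z, hz⟩ := exists_prime_orderOf_dvd_card' (G := Subgroup.center (P : Subgroup G)) p (hn' ▸ dvd_pow_self p (by omega))
    have hzc : ∀ t ∈ (P : Subgroup G), Commute ((z : (P : Subgroup G)) : G) t := fun t ht =>
      (congrArg Subtype.val (Subgroup.mem_center_iff.mp z.2 ⟨t, ht⟩)).symm
    have hzord : orderOf ((z : (P : Subgroup G)) : G) = p := by rw [Subgroup.orderOf_coe, Subgroup.orderOf_coe, hz]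
    have huz : ∀ u ∈ (P : Subgroup G), orderOf u = p → u ∈ Subgroup.zpowers ((z : (P : Subgroup G)) : G) := by
      intro u hu hup
      by_cases huc : u ∈ Subgroup.center G
      · exact key u _ hu (z : (P : Subgroup G)).2 hup hzord (hzc u hu).symm x hxZ
          (Subgroup.mem_center_iff.mp huc x).symm (hzc x hxP)
      · exact key u _ hu (z : (P : Subgroup G)).2 hup hzord (hzc u hu).symm u huc (Commute.refl u) (hzc u hu)
    suffices hH : ∀ H : Subgroup (P : Subgroup G), Nat.card H = p → H = Subgroup.zpowers (z : (P : Subgroup G)) from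
      fun H K h1 h2 => (hH H h1).trans (hH K h2).symm
    intro H hH
    refine Subgroup.eq_of_le_of_card_ge (fun u hu => ?_) (le_of_eq (by rw [Nat.card_zpowers, Subgroup.orderOf_coe, hz, hH]))
    by_cases hu1 : u = 1
    · rw [hu1]; exact one_mem _
    have huo : orderOf (u : G) = p := by
      rw [Subgroup.orderOf_coe]
      refine ((Fact.out : p.Prime).eq_one_or_self_of_dvd _ ?_).resolve_left (fun e => hu1 (orderOf_eq_one_iff.mp e))
      have h0 := orderOf_dvd_natCard (⟨u, hu⟩ : H)
      rwa [Subgroup.orderOf_mk, hH] at h0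
    obtain ⟨i, hi⟩ := Subgroup.mem_zpowers_iff.mp (huz u u.2 huo)
    exact Subgroup.mem_zpowers_iff.mpr ⟨i, Subtype.ext hi⟩
  rcases PGroupsCyclic.isCyclic_or_quaternion P.isPGroup' huniq with hc | ⟨hp2, k, ⟨e⟩⟩
  · exact absurd (⟨⟨fun a b => by letI := hc.commGroup; exact mul_comm a b⟩⟩ : IsMulCommutative (P : Subgroup G)) hP
  subst hp2
  have hk : 1 ≤ k := by
    by_contra hk
    obtain rfl : k = 0 := by omega
    haveI : IsCyclic (QuaternionGroup (2 ^ 0)) := by rw [pow_zero]; exact QuaternionGroup.quaternionGroup_one_isCyclic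
    have hc : IsCyclic (P : Subgroup G) := e.isCyclic.mpr inferInstance
    exact hP ⟨⟨fun a b => by letI := hc.commGroup; exact mul_comm a b⟩⟩
  obtain ⟨K, hK⟩ := Subgroup.exists_right_complement'_of_coprime (N := (P : Subgroup G)) P.card_coprime_index
  have hKc : Nat.card K = (P : Subgroup G).index := (hK.symm.index_eq_card).symm
  have hodd : Odd (Nat.card K) := Nat.not_even_iff_odd.mp (fun he => P.not_dvd_index (hKc ▸ even_iff_two_dvd.mp he))
  have hKP : ∀ g ∈ K, ∀ a ∈ (P : Subgroup G), Commute a g := by
    have hle : K ≤ Subgroup.centralizer ((P : Subgroup G) : Set G) := by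
      set D := (Subgroup.centralizer ((P : Subgroup G) : Set G)).subgroupOf K
      have hD : D = ⊤ := by
        refine Subgroup.index_eq_one.mp (Nat.eq_one_iff_not_exists_prime_dvd.mpr fun q hq hd => ?_)
        haveI := Fact.mk hq
        have hq2 : 2 ≠ q := by
          rintro rfl
          exact (Nat.not_even_iff_odd.mpr hodd) (even_iff_two_dvd.mpr (hd.trans D.index_dvd_card))
        obtain ⟨R⟩ : Nonempty (Sylow q K) := inferInstance
        obtain ⟨R', hR'⟩ := R.exists_comap_subtype_eq
        have hRD : (R : Subgroup K) ≤ D := by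
          intro r hr
          rw [← hR'] at hr
          exact Subgroup.mem_centralizer_iff.mpr fun a ha => (commute_of_coprime hq2 P R' a _ ha hr).eq
        exact R.not_dvd_index (hd.trans (Subgroup.index_dvd_of_le hRD))
      intro g hg
      exact (Subgroup.mem_subgroupOf.mp (hD.symm ▸ Subgroup.mem_top (⟨g, hg⟩ : K) : (⟨g, hg⟩ : K) ∈ D))
    exact fun g hg a ha => Subgroup.mem_centralizer_iff.mp (hle hg) a ha
  haveI hKcyc : IsCyclic K := by
    haveI := h x hxZ
    exact Subgroup.isCyclic_of_le (H' := Subgroup.centralizer ({x} : Set G))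
      (fun g hg => Subgroup.mem_centralizer_singleton_iff.mpr (hKP g hg x hxP).symm.eq)
  let f : ↥(P : Subgroup G) × ↥K →* G :=
    (P : Subgroup G).subtype.noncommCoprod K.subtype (fun a g => hKP g g.2 a a.2)
  have hf : Function.Bijective f := hK
  let e2 : K ≃* Multiplicative (ZMod (Nat.card K)) := (zmodCyclicMulEquiv hKcyc).symm
  exact ⟨k, Nat.card K, hk, hodd, ⟨(MulEquiv.ofBijective f hf).symm.trans (e.prodCongr e2)⟩⟩



/-- Let G be a finite non-abelian nilpotent group. Then the centralizer of every non-central element of G is cyclic if and only if G is isomorphic to the direct product of a generalized quaternion group and a cyclic group of odd order. -/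
theorem result {G : Type*} [Group G] [Finite G] (hG : Group.IsNilpotent G)
    (hna : ¬ IsMulCommutative G) :
    (∀ x : G, x ∉ Subgroup.center G → IsCyclic (Subgroup.centralizer ({x} : Set G))) ↔
      ∃ (k m : ℕ), 1 ≤ k ∧ Odd m ∧ Nonempty (G ≃* QuaternionGroup (2 ^ k) × Multiplicative (ZMod m)) := by
  haveI := hG
  constructor
  · exact forward hna
  · rintro ⟨k, m, hk, hm, ⟨e⟩⟩ x hx
    haveI : NeZero (2 ^ k) := ⟨by positivity⟩
    haveI : NeZero m := ⟨fun h => by simp [h] at hm⟩
    set Q := QuaternionGroup (2 ^ k)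
    set M := Multiplicative (ZMod m)
    have hgen : ∀ (g : Q × M) (_ : g ∉ Subgroup.center (Q × M)), IsCyclic (Subgroup.centralizer ({g} : Set (Q × M))) := by
      rintro ⟨u, v⟩ hg
      have hu : u ∉ Subgroup.center Q := fun hu => hg (Subgroup.mem_center_iff.mpr fun w =>
        Prod.ext (Subgroup.mem_center_iff.mp hu w.1) (mul_comm w.2 v))
      haveI : IsCyclic (Subgroup.centralizer ({u} : Set Q) × M) := by
        refine Group.isCyclic_prod_iff.mpr ⟨quaternion_centralizer_cyclic u hu, inferInstance, ?_⟩
        have h1 : Nat.card (Subgroup.centralizer ({u} : Set Q)) ∣ 2 ^ (k + 2) := by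
          refine (Subgroup.card_subgroup_dvd_card _).trans (dvd_of_eq ?_)
          rw [Nat.card_eq_fintype_card, QuaternionGroup.card]; ring
        have h2 : Nat.card M = m := by
          rw [Nat.card_congr Multiplicative.toAdd, Nat.card_zmod]
        rw [h2]
        exact Nat.Coprime.coprime_dvd_left h1 ((Nat.coprime_two_left.mpr hm).pow_left _)
      let f : Subgroup.centralizer ({(u, v)} : Set (Q × M)) →* Subgroup.centralizer ({u} : Set Q) × M :=
        MonoidHom.prod ((MonoidHom.fst Q M).comp (Subgroup.subtype _) |>.codRestrict _ (fun w =>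
            Subgroup.mem_centralizer_singleton_iff.mpr (congrArg Prod.fst (Subgroup.mem_centralizer_singleton_iff.mp w.2) : w.1.1 * u = u * w.1.1)))
          ((MonoidHom.snd Q M).comp (Subgroup.subtype _))
      refine isCyclic_of_injective f fun a b hab => ?_
      apply Subtype.ext
      exact Prod.ext (congrArg (fun t : Subgroup.centralizer ({u} : Set Q) × M => (t.1 : Q)) hab) (congrArg (fun t : Subgroup.centralizer ({u} : Set Q) × M => t.2) hab)
    have hx' : e x ∉ Subgroup.center _ := fun h => hx (Subgroup.mem_center_iff.mpr fun w => e.injective (by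
      rw [map_mul, map_mul]; exact Subgroup.mem_center_iff.mp h (e w)))
    haveI := hgen (e x) hx'
    let f : Subgroup.centralizer ({x} : Set G) →* Subgroup.centralizer ({e x} : Set (Q × M)) :=
      (e.toMonoidHom.comp (Subgroup.subtype _)).codRestrict _ (fun w => Subgroup.mem_centralizer_singleton_iff.mpr (by
        show e w * e x = e x * e w
        rw [← map_mul, ← map_mul, Subgroup.mem_centralizer_singleton_iff.mp w.2]))
    exact isCyclic_of_injective f fun a b hab => Subtype.ext (e.injective (congrArg Subtype.val hab))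

end Cfsg.Agent.S4370
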