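import Cfsg.Statements.S4377
import Mathlib

set_option autoImplicit false
open Cfsg

namespace Cfsg.Agent.S4377

open Finset in
theorem card_pow_eq_one {G : Type*} [Group G] [Finite G] {n : ℕ} (hn : n ≠ 0) :
    Nat.card {g : G // g ^ n = 1} = ∑ d ∈ n.divisors, Nat.card {g : G // orderOf g = d} := by
  classical
  haveI := Fintype.ofFinite G
  simp only [Nat.card_eq_fintype_card, Fintype.card_subtype]
  rw [card_eq_sum_card_fiberwise (f := fun g : G => orderOf g) (t := n.divisors)
    (fun g hg => by simpa [hn, orderOf_dvd_iff_pow_eq_one] using hg)]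
  refine Finset.sum_congr rfl fun d hd => ?_
  congr 1
  ext g
  simp only [mem_filter, mem_univ, true_and, and_iff_right_iff_imp]
  intro h
  rw [← orderOf_dvd_iff_pow_eq_one, h]
  exact Nat.dvd_of_mem_divisors hd

theorem order_of_pow {G H : Type*} [Group G] [Finite G] [Group H] [Finite H]
    (h : ∀ n : ℕ, Nat.card {g : G // g ^ n = 1} = Nat.card {h : H // h ^ n = 1}) (n : ℕ) :
    Nat.card {g : G // orderOf g = n} = Nat.card {h : H // orderOf h = n} := by
  induction n using Nat.strong_induction_on with
  | _ n ih =>
    rcases eq_or_ne n 0 with rfl | hn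
    · haveI : IsEmpty {g : G // orderOf g = 0} := ⟨fun g => (orderOf_pos g.1).ne' g.2⟩
      haveI : IsEmpty {g : H // orderOf g = 0} := ⟨fun g => (orderOf_pos g.1).ne' g.2⟩
      rw [Nat.card_of_isEmpty, Nat.card_of_isEmpty]
    · have e := h n
      rw [card_pow_eq_one hn, card_pow_eq_one hn, ← Nat.cons_self_properDivisors hn,
        Finset.sum_cons, Finset.sum_cons] at e
      have e' : ∑ d ∈ n.properDivisors, Nat.card {g : G // orderOf g = d} =
          ∑ d ∈ n.properDivisors, Nat.card {g : H // orderOf g = d} :=
        Finset.sum_congr rfl fun d hd => ih d (Nat.mem_properDivisors.mp hd).2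
      omega

/-- Two finite groups have the same number of elements of each order if and only if, for every n, they have the same number of elements g with gⁿ = 1. -/
theorem result {G H : Type*} [Group G] [Finite G] [Group H] [Finite H] :
    (∀ n : ℕ, Nat.card {g : G // orderOf g = n} = Nat.card {h : H // orderOf h = n}) ↔
      ∀ n : ℕ, Nat.card {g : G // g ^ n = 1} = Nat.card {h : H // h ^ n = 1} := by
  refine ⟨fun h n => ?_, order_of_pow⟩
  rcases eq_or_ne n 0 with rfl | hn
  · -- both sides are the group orders
    have hk : Nat.card G * Nat.card H ≠ 0 := mul_ne_zero Nat.card_pos.ne' Nat.card_pos.ne'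
    rw [Nat.card_congr (Equiv.subtypeEquivRight fun g => by
          simp [pow_mul, pow_card_eq_one'] : {g : G // g ^ 0 = 1} ≃ {g : G // g ^ (Nat.card G * Nat.card H) = 1}),
      Nat.card_congr (Equiv.subtypeEquivRight fun g => by
          simp [mul_comm (Nat.card G), pow_mul, pow_card_eq_one'] : {g : H // g ^ 0 = 1} ≃ {g : H // g ^ (Nat.card G * Nat.card H) = 1}),
      card_pow_eq_one hk, card_pow_eq_one hk]
    exact Finset.sum_congr rfl fun d _ => h d
  · rw [card_pow_eq_one hn, card_pow_eq_one hn]
    exact Finset.sum_congr rfl fun d _ => h d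

end Cfsg.Agent.S4377
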