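import Cfsg.Statements.S4376
import Cfsg.Agent.S4377
import Mathlib

set_option autoImplicit false
open Cfsg

namespace Cfsg.Agent.S4376

/-- A finite module for a cyclic group of order dividing `h`, with a formula for the
solutions of the norm equations. -/
structure Md (h : ℕ) where
  A : Type
  [acg : AddCommGroup A]
  [fin : Finite A]
  φ : A ≃+ A
  hφ : ∀ v, φ^[h] v = v
  c : ℕ → ℕ → ℕ
  sz : ℕ
  hsz : Nat.card A = sz
  hc : ∀ s n, h ∣ n * s →
    Nat.card {v : A // ∑ i ∈ Finset.range n, φ^[s * i] v = 0} = c s n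

attribute [instance] Md.acg Md.fin

theorem iter_periodic {A : Type*} {f : A → A} {h : ℕ} (hf : ∀ v, f^[h] v = v) (k : ℕ) (v : A) :
    f^[k] v = f^[k % h] v := by
  conv_lhs => rw [← Nat.mod_add_div k h, Function.iterate_add_apply, Function.iterate_mul]
  congr 1
  exact Function.iterate_fixed (hf v) _

noncomputable def Md.one (h : ℕ) : Md h where
  A := Unit
  φ := AddEquiv.refl Unit
  hφ := fun _ => rfl
  c := fun _ _ => 1
  sz := 1
  hsz := Nat.card_unique
  hc := fun _ _ _ => Nat.card_eq_one_iff_exists.mpr ⟨⟨(), rfl⟩, fun _ => rfl⟩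

noncomputable def Md.prod {h : ℕ} (M N : Md h) : Md h where
  A := M.A × N.A
  φ := M.φ.prodCongr N.φ
  hφ := fun v => by
    have : ⇑(M.φ.prodCongr N.φ) = Prod.map M.φ N.φ := rfl
    rw [this, Prod.map_iterate]; exact Prod.ext (M.hφ _) (N.hφ _)
  c := fun s n => M.c s n * N.c s n
  sz := M.sz * N.sz
  hsz := by rw [Nat.card_prod, M.hsz, N.hsz]
  hc := fun s n hd => by
    rw [← M.hc s n hd, ← N.hc s n hd, ← Nat.card_prod]
    refine Nat.card_congr ((Equiv.subtypeEquivRight fun v => ?_).trans Equiv.subtypeProdEquivProd)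
    have : ⇑(M.φ.prodCongr N.φ) = Prod.map M.φ N.φ := rfl
    simp only [this, Prod.map_iterate, Prod.ext_iff, Prod.fst_sum, Prod.snd_sum, Prod.map_fst,
      Prod.map_snd, Prod.fst_zero, Prod.snd_zero]

/-- An elementary abelian module on which a generator acts fixed point freely with order `m`. -/
noncomputable def fieldType {A : Type} [AddCommGroup A] [Fintype A] (p q m : ℕ) [hp : Fact p.Prime]
    (f : A →+ A) (hm : 0 < m) (hq : Fintype.card A = q) (hpA : ∀ v : A, p • v = 0)
    (hord : ∀ v, f^[m] v = v)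
    (hfpf : ∀ e < m, 0 < e → ∀ v, f^[e] v = v → v = 0)
    (h : ℕ) (hdvd : m ∣ h) : Md h :=
  let φ : A ≃+ A := AddEquiv.ofBijective f
    ⟨Function.LeftInverse.injective (g := f^[m - 1]) (fun v => by
      rw [← Function.iterate_succ_apply f (m - 1) v, Nat.succ_eq_add_one, Nat.sub_add_cancel hm, hord]),
     Function.RightInverse.surjective (g := f^[m - 1]) (fun v => by
      rw [← Function.iterate_succ_apply' f (m - 1) v, Nat.succ_eq_add_one, Nat.sub_add_cancel hm, hord])⟩
  have hφ : ∀ v, φ^[h] v = v := fun v => by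
    obtain ⟨k, rfl⟩ := hdvd
    show f^[m * k] v = v
    rw [Function.iterate_mul]
    exact Function.iterate_fixed (hord v) k
  { A := A
    φ := φ
    hφ := hφ
    c := fun s n => if s % m = 0 then (if n % p = 0 then q else 1) else q
    sz := q
    hsz := by rw [Nat.card_eq_fintype_card, hq]
    hc := fun s n hd => by
      show Nat.card {v : A // ∑ i ∈ Finset.range n, f^[s * i] v = 0} = _
      split_ifs with hs hn
      · have : ∀ v : A, ∑ i ∈ Finset.range n, f^[s * i] v = n • v := fun v => by
          rw [Finset.sum_congr rfl (fun i _ => ?_), Finset.sum_const, Finset.card_range]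
          rw [iter_periodic hord (s * i) v, Nat.mul_mod, hs, Nat.zero_mul, Nat.zero_mod]
          rfl
        simp only [this]
        obtain ⟨k, rfl⟩ := Nat.dvd_of_mod_eq_zero hn
        rw [← hq, ← Nat.card_eq_fintype_card]
        exact Nat.card_congr (Equiv.subtypeUnivEquiv fun v => by rw [mul_comm, mul_nsmul', hpA, nsmul_zero])
      · have : ∀ v : A, ∑ i ∈ Finset.range n, f^[s * i] v = n • v := fun v => by
          rw [Finset.sum_congr rfl (fun i _ => ?_), Finset.sum_const, Finset.card_range]
          rw [iter_periodic hord (s * i) v, Nat.mul_mod, hs, Nat.zero_mul, Nat.zero_mod]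
          rfl
        simp only [this]
        rw [Nat.card_eq_one_iff_exists]
        refine ⟨⟨0, nsmul_zero n⟩, fun v => Subtype.ext ?_⟩
        have h1 : addOrderOf v.1 ∣ p := addOrderOf_dvd_of_nsmul_eq_zero (hpA _)
        have h2 : addOrderOf v.1 ∣ n := addOrderOf_dvd_of_nsmul_eq_zero v.2
        rcases (Nat.dvd_prime hp.out).mp h1 with h3 | h3
        · exact AddMonoid.addOrderOf_eq_one_iff.mp h3
        · exact absurd (Nat.mod_eq_zero_of_dvd (h3 ▸ h2)) hn
      · rw [← hq, ← Nat.card_eq_fintype_card]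
        refine Nat.card_congr (Equiv.subtypeUnivEquiv fun v => ?_)
        set S := ∑ i ∈ Finset.range n, f^[s * i] v with hS
        have key : f^[s] S = S := by
          have e1 : f^[s] S = ∑ i ∈ Finset.range n, f^[s * (i + 1)] v := by
            let F : A →+ A := AddMonoidHom.mk' (f^[s]) (iterate_map_add f s)
            have hh : ∀ x, f^[s] x = F x := fun x => rfl
            rw [hS, hh, map_sum]
            refine Finset.sum_congr rfl fun i _ => ?_
            rw [← hh, ← Function.iterate_add_apply, mul_add, mul_one, add_comm]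
          have e2 := Finset.sum_range_succ' (fun i => f^[s * i] v) n
          rw [Finset.sum_range_succ] at e2
          have e3 : f^[s * n] v = v := by
            obtain ⟨k, hk⟩ := hd
            rw [mul_comm s n, hk, Function.iterate_mul]
            exact Function.iterate_fixed (hφ v) k
          simp only [e3, Nat.mul_zero, Function.iterate_zero, id_eq] at e2
          rw [e1]
          exact (add_right_cancel e2).symm
        rw [iter_periodic hord s S] at key
        exact hfpf _ (Nat.mod_lt _ hm) (Nat.pos_of_ne_zero hs) S key }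

noncomputable def z4 (h : ℕ) (hdvd : 2 ∣ h) : Md h where
  A := ZMod 4
  φ := AddEquiv.neg (ZMod 4)
  hφ := fun v => by
    obtain ⟨k, rfl⟩ := hdvd
    show (fun x : ZMod 4 => -x)^[2 * k] v = v
    rw [Function.iterate_mul]
    exact Function.iterate_fixed (by simp) k
  c := fun s n => if s % 2 = 0 then Nat.gcd 4 (n % 4) else 4
  sz := 4
  hsz := Nat.card_zmod 4
  hc := fun s n hd => by
    have h2 : ∀ v : ZMod 4, (fun x : ZMod 4 => -x)^[2] v = v := fun v => by simp
    show Nat.card {v : ZMod 4 // ∑ i ∈ Finset.range n, (fun x : ZMod 4 => -x)^[s * i] v = 0} = _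
    split_ifs with hs
    · have : ∀ v : ZMod 4, ∑ i ∈ Finset.range n, (fun x : ZMod 4 => -x)^[s * i] v =
          ((n % 4 : ℕ) : ZMod 4) * v := fun v => by
        rw [Finset.sum_congr rfl (fun i _ => ?_), Finset.sum_const, Finset.card_range,
          nsmul_eq_mul, ZMod.natCast_mod]
        rw [iter_periodic h2 (s * i) v, Nat.mul_mod, hs, Nat.zero_mul, Nat.zero_mod]
        rfl
      simp only [this, Nat.card_eq_fintype_card]
      have : n % 4 = 0 ∨ n % 4 = 1 ∨ n % 4 = 2 ∨ n % 4 = 3 := by omega
      rcases this with e | e | e | e <;> simp only [e] <;> decide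
    · have hn : n % 2 = 0 := by
        have h3 : 2 ∣ n * s := hdvd.trans hd
        rcases Nat.prime_two.dvd_mul.mp h3 with h4 | h4 <;> omega
      refine (Nat.card_congr (Equiv.subtypeUnivEquiv fun v => ?_)).trans (Nat.card_zmod 4)
      obtain ⟨k, rfl⟩ := Nat.dvd_of_mod_eq_zero hn
      clear hd hn
      induction k with
      | zero => simp
      | succ k ih =>
        rw [Nat.mul_succ, Finset.sum_range_succ, Finset.sum_range_succ, ih, zero_add,
          iter_periodic h2 (s * (2 * k)) v, iter_periodic h2 (s * (2 * k + 1)) v]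
        have e : s % 2 = 1 := by omega
        simp [Nat.mul_mod, Nat.add_mod, e]

def mulHom (p : ℕ) (a : ZMod p) : ZMod p →+ ZMod p := AddMonoidHom.mulLeft a

def comp2 (p : ℕ) (a b : ZMod p) : ZMod p × ZMod p →+ ZMod p × ZMod p where
  toFun v := (-(a * v.2), v.1 - b * v.2)
  map_zero' := by simp
  map_add' v w := by ext <;> simp <;> ring

def comp3 : ZMod 2 × ZMod 2 × ZMod 2 →+ ZMod 2 × ZMod 2 × ZMod 2 where
  toFun v := (v.2.2, v.1 + v.2.2, v.2.1)
  map_zero' := by simp
  map_add' v w := by ext <;> simp <;> ring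

def comp6 : ZMod 2 × ZMod 2 × ZMod 2 × ZMod 2 × ZMod 2 × ZMod 2 →+
    ZMod 2 × ZMod 2 × ZMod 2 × ZMod 2 × ZMod 2 × ZMod 2 where
  toFun | (a, b, c, d, e, f) => (f, a, b + f, c, d + f, e + f)
  map_zero' := by rfl
  map_add' := by
    rintro ⟨a, b, c, d, e, f⟩ ⟨a', b', c', d', e', f'⟩
    simp only [Prod.mk_add_mk, Prod.mk.injEq]
    refine ⟨trivial, trivial, ?_, trivial, ?_, ?_⟩ <;> ring

set_option synthInstance.maxSize 4000

instance fact3 : Fact (Nat.Prime 3) := ⟨by norm_num⟩
instance fact7 : Fact (Nat.Prime 7) := ⟨by norm_num⟩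

noncomputable def c2_1 := fieldType (A := ZMod 2) 2 2 1 (mulHom 2 1) (by decide) (by decide) (by decide) (by decide) (by decide)
noncomputable def c3_1 := fieldType (A := ZMod 3) 3 3 1 (mulHom 3 1) (by decide) (by decide) (by decide) (by decide) (by decide)
noncomputable def c3_2 := fieldType (A := ZMod 3) 3 3 2 (mulHom 3 2) (by decide) (by decide) (by decide) (by decide) (by decide)
noncomputable def c7_1 := fieldType (A := ZMod 7) 7 7 1 (mulHom 7 1) (by decide) (by decide) (by decide) (by decide) (by decide)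
noncomputable def c7_2 := fieldType (A := ZMod 7) 7 7 2 (mulHom 7 6) (by decide) (by decide) (by decide) (by decide) (by decide)
noncomputable def c7_3 := fieldType (A := ZMod 7) 7 7 3 (mulHom 7 2) (by decide) (by decide) (by decide) (by decide) (by decide)
noncomputable def c7_6 := fieldType (A := ZMod 7) 7 7 6 (mulHom 7 3) (by decide) (by decide) (by decide) (by decide) (by decide)
noncomputable def c4_3 := fieldType 2 4 3 (comp2 2 1 1) (by decide) (by decide) (by decide) (by decide) (by decide)
noncomputable def c9_4 := fieldType 3 9 4 (comp2 3 1 0) (by decide) (by decide) (by decide) (by decide) (by decide)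
noncomputable def c49_4 := fieldType 7 49 4 (comp2 7 1 0) (by decide) (by decide) (by decide +kernel) (by decide +kernel) (by decide +kernel)
noncomputable def c49_12 := fieldType 7 49 12 (comp2 7 2 0) (by decide) (by decide) (by decide +kernel) (by decide +kernel) (by decide +kernel)
noncomputable def c8_7 := fieldType 2 8 7 comp3 (by decide) (by decide) (by decide) (by decide +kernel) (by decide +kernel)
noncomputable def c64_21 := fieldType 2 64 21 comp6 (by decide) (by decide +kernel) (by decide +kernel) (by decide +kernel) (by decide +kernel)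

/-- The action of `ZMod h` on a module. -/
noncomputable def act {h : ℕ} [NeZero h] (M : Md h) :
    Multiplicative (ZMod h) →* MulAut (Multiplicative M.A) :=
  MonoidHom.mk' (fun s => AddEquiv.toMultiplicative
    { toFun := M.φ^[(Multiplicative.toAdd s).val]
      invFun := M.φ^[h - (Multiplicative.toAdd s).val]
      left_inv := fun v => by
        rw [← Function.iterate_add_apply, Nat.sub_add_cancel (ZMod.val_lt _).le, M.hφ]
      right_inv := fun v => by
        rw [← Function.iterate_add_apply, Nat.add_sub_cancel' (ZMod.val_lt _).le, M.hφ]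
      map_add' := fun v w => iterate_map_add M.φ _ v w })
    (fun s t => by
      ext v
      show Multiplicative.ofAdd (M.φ^[(Multiplicative.toAdd s + Multiplicative.toAdd t).val] (Multiplicative.toAdd v)) =
        Multiplicative.ofAdd (M.φ^[(Multiplicative.toAdd s).val] (M.φ^[(Multiplicative.toAdd t).val] (Multiplicative.toAdd v)))
      refine congrArg _ ?_
      generalize (Multiplicative.toAdd v) = v
      show M.φ^[(Multiplicative.toAdd s + Multiplicative.toAdd t).val] v =
        M.φ^[(Multiplicative.toAdd s).val] (M.φ^[(Multiplicative.toAdd t).val] v)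
      rw [← Function.iterate_add_apply, ZMod.val_add, ← iter_periodic M.hφ])

abbrev Grp {h : ℕ} [NeZero h] (M : Md h) := Multiplicative M.A ⋊[act M] Multiplicative (ZMod h)

theorem grp_pow {h : ℕ} [NeZero h] (M : Md h) (x : Grp M) (n : ℕ) :
    (x ^ n).left = Multiplicative.ofAdd (∑ i ∈ Finset.range n,
      M.φ^[(Multiplicative.toAdd x.right).val * i] (Multiplicative.toAdd x.left)) := by
  induction n with
  | zero => rfl
  | succ n ih =>
    rw [pow_succ', SemidirectProduct.mul_left, ih, Finset.sum_range_succ']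
    show Multiplicative.ofAdd _ = _
    congr 1
    show Multiplicative.toAdd x.left +
      M.φ^[(Multiplicative.toAdd x.right).val] (∑ i ∈ Finset.range n, _) = _
    rw [show M.φ^[(Multiplicative.toAdd x.right).val] (∑ i ∈ Finset.range n,
        M.φ^[(Multiplicative.toAdd x.right).val * i] (Multiplicative.toAdd x.left)) =
      ∑ i ∈ Finset.range n, M.φ^[(Multiplicative.toAdd x.right).val * (i + 1)]
        (Multiplicative.toAdd x.left) from ?_, add_comm]
    · simp
    · let F : M.A →+ M.A := AddMonoidHom.mk' (M.φ^[(Multiplicative.toAdd x.right).val])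
        (iterate_map_add M.φ _)
      show F _ = _
      rw [map_sum]
      refine Finset.sum_congr rfl fun i _ => ?_
      show M.φ^[_] _ = _
      rw [← Function.iterate_add_apply, mul_add, mul_one, add_comm]

/-- A finite group of exponent dividing 84 with its solution counts. -/
structure SB where
  G : Type
  [grp : Group G]
  [fin : Finite G]
  sol : Group.IsSolvable G
  f : ℕ → ℕ
  hf : ∀ n, Nat.card {g : G // g ^ n = 1} = f n
  hE : ∀ g : G, g ^ 84 = 1

attribute [instance] SB.grp SB.fin

def semf {h : ℕ} (M : Md h) (n : ℕ) : ℕ :=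
  ((List.range h).map fun s => if (n * s) % h = 0 then M.c s n else 0).sum

theorem semf_spec {h : ℕ} [NeZero h] (M : Md h) (n : ℕ) :
    Nat.card {g : Grp M // g ^ n = 1} = semf M n := by
  have hiff : ∀ g : Grp M, g ^ n = 1 ↔ (n * (Multiplicative.toAdd g.right).val % h = 0 ∧
      ∑ i ∈ Finset.range n,
        M.φ^[(Multiplicative.toAdd g.right).val * i] (Multiplicative.toAdd g.left) = 0) := by
    intro g
    rw [SemidirectProduct.ext_iff, grp_pow, SemidirectProduct.one_left, SemidirectProduct.one_right,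
      ofAdd_eq_one, and_comm]
    refine and_congr ?_ Iff.rfl
    have : (g ^ n).right = g.right ^ n := map_pow SemidirectProduct.rightHom g n
    rw [this, ← toAdd_eq_zero, toAdd_pow, nsmul_eq_mul,
      ← ZMod.natCast_zmod_val (Multiplicative.toAdd g.right), ← Nat.cast_mul,
      ZMod.natCast_eq_zero_iff, Nat.dvd_iff_mod_eq_zero, ZMod.natCast_zmod_val]
  rw [Nat.card_congr (Equiv.subtypeEquivRight hiff)]
  let e : {g : Grp M // n * (Multiplicative.toAdd g.right).val % h = 0 ∧
      ∑ i ∈ Finset.range n,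
        M.φ^[(Multiplicative.toAdd g.right).val * i] (Multiplicative.toAdd g.left) = 0} ≃
      Σ s : ZMod h, {v : M.A // n * s.val % h = 0 ∧
        ∑ i ∈ Finset.range n, M.φ^[s.val * i] v = 0} :=
    { toFun := fun g => ⟨Multiplicative.toAdd g.1.right, Multiplicative.toAdd g.1.left, g.2⟩
      invFun := fun x => ⟨⟨Multiplicative.ofAdd x.2.1, Multiplicative.ofAdd x.1⟩, x.2.2⟩
      left_inv := fun g => rfl
      right_inv := fun x => rfl }
  rw [Nat.card_congr e, Nat.card_sigma]
  unfold semf
  rw [show ((List.range h).map fun s => if (n * s) % h = 0 then M.c s n else 0).sum =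
    ∑ s ∈ Finset.range h, (if (n * s) % h = 0 then M.c s n else 0) by
      rw [Finset.sum, Finset.range_val]; rfl]
  refine Finset.sum_bij (fun s _ => ZMod.val s) (fun s _ => Finset.mem_range.mpr (ZMod.val_lt s))
    (fun a _ b _ hab => ZMod.val_injective h hab)
    (fun b hb => ⟨(b : ZMod h), Finset.mem_univ _, ZMod.val_cast_of_lt (Finset.mem_range.mp hb)⟩)
    (fun s _ => ?_)
  split_ifs with hs
  · rw [← M.hc s.val n (Nat.dvd_of_mod_eq_zero hs)]
    exact Nat.card_congr (Equiv.subtypeEquivRight fun v => and_iff_right hs)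
  · haveI : IsEmpty {v : M.A // n * s.val % h = 0 ∧
        ∑ i ∈ Finset.range n, M.φ^[s.val * i] v = 0} := ⟨fun v => hs v.2.1⟩
    exact Nat.card_of_isEmpty

noncomputable def sem {h : ℕ} [NeZero h] (M : Md h) (hE : semf M 84 = M.sz * h) : SB where
  G := Grp M
  fin := Finite.of_equiv _ SemidirectProduct.equivProd.symm
  sol := by
    refine solvable_of_ker_le_range
      (SemidirectProduct.inl : Multiplicative M.A →* Grp M) SemidirectProduct.rightHom ?_
    rw [SemidirectProduct.range_inl_eq_ker_rightHom]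
  f := semf M
  hf := semf_spec M
  hE := by
    haveI : Finite (Grp M) := Finite.of_equiv _ SemidirectProduct.equivProd.symm
    intro g
    by_contra hg
    have h1 : Nat.card {g : Grp M // g ^ 84 = 1} < Nat.card (Grp M) :=
      Finite.card_subtype_lt hg
    have h2 : Nat.card (Grp M) = M.sz * h := by
      rw [Nat.card_congr SemidirectProduct.equivProd, Nat.card_prod]
      exact congrArg₂ (· * ·) M.hsz (Nat.card_zmod h)
    rw [semf_spec, hE, h2] at h1
    exact lt_irrefl _ h1

theorem card_prod_pow {A B : Type*} [Group A] [Group B] (n : ℕ) :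
    Nat.card {g : A × B // g ^ n = 1} =
      Nat.card {g : A // g ^ n = 1} * Nat.card {g : B // g ^ n = 1} := by
  rw [← Nat.card_prod]
  exact Nat.card_congr ((Equiv.subtypeEquivRight fun g => by simp [Prod.ext_iff]).trans
    Equiv.subtypeProdEquivProd)

noncomputable def SB.triv : SB where
  G := Unit
  sol := inferInstance
  f := fun _ => 1
  hf := fun n => Nat.card_eq_one_iff_exists.mpr ⟨⟨(), rfl⟩, fun _ => rfl⟩
  hE := fun _ => rfl

noncomputable def SB.mul (X Y : SB) : SB where
  G := X.G × Y.G
  sol := by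
    haveI := X.sol; haveI := Y.sol
    infer_instance
  f := fun n => X.f n * Y.f n
  hf := fun n => by rw [card_prod_pow, X.hf, Y.hf]
  hE := fun g => by ext <;> simp [X.hE, Y.hE]

theorem exists_pow (X : SB) (w : ℕ) : ∃ Y : SB, ∀ n, Y.f n = X.f n ^ w := by
  induction w with
  | zero => exact ⟨SB.triv, fun n => (pow_zero _).symm⟩
  | succ w ih =>
    obtain ⟨Y, hY⟩ := ih
    exact ⟨Y.mul X, fun n => by rw [pow_succ, ← hY n]; rfl⟩

def listF (L : List (SB × ℕ)) (n : ℕ) : ℕ := (L.map fun x => x.1.f n ^ x.2).prod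

theorem exists_list (L : List (SB × ℕ)) : ∃ Y : SB, ∀ n, Y.f n = listF L n := by
  induction L with
  | nil => exact ⟨SB.triv, fun _ => rfl⟩
  | cons x L ih =>
    obtain ⟨Y, hY⟩ := ih
    obtain ⟨X, hX⟩ := exists_pow x.1 x.2
    refine ⟨X.mul Y, fun n => ?_⟩
    show X.f n * Y.f n = _
    rw [hX, hY]; rfl

noncomputable def g0 : SB := (sem (Md.prod (c4_3 3 (by decide)) (Md.prod (c7_3 3 (by decide)) (Md.one 3))) (by decide +kernel))
noncomputable def g1 : SB := (sem (Md.prod (c3_1 6 (by decide)) (Md.prod (c4_3 6 (by decide)) (Md.prod (c7_6 6 (by decide)) (Md.prod (z4 6 (by decide)) (Md.prod (z4 6 (by decide)) (Md.prod (z4 6 (by decide)) (Md.one 6))))))) (by decide +kernel))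
noncomputable def g2 : SB := (sem (Md.prod (c7_6 6 (by decide)) (Md.prod (c7_6 6 (by decide)) (Md.prod (c7_6 6 (by decide)) (Md.prod (z4 6 (by decide)) (Md.one 6))))) (by decide +kernel))
noncomputable def g3 : SB := (sem (Md.prod (c7_6 6 (by decide)) (Md.prod (c7_6 6 (by decide)) (Md.prod (c7_6 6 (by decide)) (Md.one 6)))) (by decide +kernel))
noncomputable def g4 : SB := (sem (Md.prod (c7_6 12 (by decide)) (Md.prod (c7_6 12 (by decide)) (Md.prod (c7_6 12 (by decide)) (Md.one 12)))) (by decide +kernel))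
noncomputable def g5 : SB := (sem (Md.prod (c7_2 2 (by decide)) (Md.prod (c7_2 2 (by decide)) (Md.prod (c7_2 2 (by decide)) (Md.prod (z4 2 (by decide)) (Md.one 2))))) (by decide +kernel))
noncomputable def g6 : SB := (sem (Md.prod (c7_2 4 (by decide)) (Md.prod (c7_2 4 (by decide)) (Md.prod (c7_2 4 (by decide)) (Md.one 4)))) (by decide +kernel))
noncomputable def g7 : SB := (sem (Md.prod (c3_1 2 (by decide)) (Md.prod (c3_1 2 (by decide)) (Md.prod (c3_1 2 (by decide)) (Md.prod (c3_2 2 (by decide)) (Md.prod (c7_2 2 (by decide)) (Md.prod (z4 2 (by decide)) (Md.one 2))))))) (by decide +kernel))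
noncomputable def g8 : SB := (sem (Md.prod (c7_1 6 (by decide)) (Md.prod (c7_6 6 (by decide)) (Md.prod (z4 6 (by decide)) (Md.one 6)))) (by decide +kernel))
noncomputable def g9 : SB := (sem (Md.prod (c7_2 2 (by decide)) (Md.prod (z4 2 (by decide)) (Md.prod (z4 2 (by decide)) (Md.prod (z4 2 (by decide)) (Md.one 2))))) (by decide +kernel))
noncomputable def g10 : SB := (sem (Md.prod (c7_2 2 (by decide)) (Md.prod (c7_2 2 (by decide)) (Md.prod (z4 2 (by decide)) (Md.one 2)))) (by decide +kernel))
noncomputable def g11 : SB := (sem (Md.prod (c3_2 2 (by decide)) (Md.prod (c7_2 2 (by decide)) (Md.one 2))) (by decide +kernel))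
noncomputable def g12 : SB := (sem (Md.prod (c3_2 4 (by decide)) (Md.prod (c7_2 4 (by decide)) (Md.one 4))) (by decide +kernel))
noncomputable def g13 : SB := (sem (Md.one 7) (by decide +kernel))
noncomputable def g14 : SB := (sem (Md.prod (c4_3 21 (by decide)) (Md.prod (c64_21 21 (by decide)) (Md.one 21))) (by decide +kernel))
noncomputable def g15 : SB := (sem (Md.prod (c8_7 7 (by decide)) (Md.prod (c8_7 7 (by decide)) (Md.one 7))) (by decide +kernel))
noncomputable def g16 : SB := (sem (Md.prod (c8_7 7 (by decide)) (Md.one 7)) (by decide +kernel))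
noncomputable def g17 : SB := (sem (Md.prod (c3_2 12 (by decide)) (Md.prod (c3_2 12 (by decide)) (Md.prod (c3_2 12 (by decide)) (Md.prod (c7_6 12 (by decide)) (Md.one 12))))) (by decide +kernel))
noncomputable def g18 : SB := (sem (Md.prod (c3_2 2 (by decide)) (Md.prod (c3_2 2 (by decide)) (Md.prod (c3_2 2 (by decide)) (Md.prod (c7_2 2 (by decide)) (Md.one 2))))) (by decide +kernel))
noncomputable def g19 : SB := (sem (Md.prod (c3_2 4 (by decide)) (Md.prod (c3_2 4 (by decide)) (Md.one 4))) (by decide +kernel))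
noncomputable def g20 : SB := (sem (Md.prod (c3_2 2 (by decide)) (Md.prod (c3_2 2 (by decide)) (Md.one 2))) (by decide +kernel))
noncomputable def g21 : SB := (sem (Md.prod (c7_3 3 (by decide)) (Md.one 3)) (by decide +kernel))
noncomputable def g22 : SB := (sem (Md.prod (c7_2 2 (by decide)) (Md.prod (z4 2 (by decide)) (Md.one 2))) (by decide +kernel))
noncomputable def g23 : SB := (sem (Md.prod (c7_6 6 (by decide)) (Md.one 6)) (by decide +kernel))
noncomputable def g24 : SB := (sem (Md.prod (c7_6 12 (by decide)) (Md.one 12)) (by decide +kernel))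
noncomputable def g25 : SB := (sem (Md.one 3) (by decide +kernel))
noncomputable def g26 : SB := (sem (Md.prod (z4 2 (by decide)) (Md.one 2)) (by decide +kernel))
noncomputable def g27 : SB := (sem (Md.prod (c4_3 3 (by decide)) (Md.one 3)) (by decide +kernel))
noncomputable def g28 : SB := (sem (Md.prod (c3_2 2 (by decide)) (Md.prod (c3_2 2 (by decide)) (Md.prod (c3_2 2 (by decide)) (Md.one 2)))) (by decide +kernel))
noncomputable def g29 : SB := (sem (Md.prod (c9_4 4 (by decide)) (Md.one 4)) (by decide +kernel))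
noncomputable def g30 : SB := (sem (Md.prod (c3_2 2 (by decide)) (Md.prod (z4 2 (by decide)) (Md.one 2))) (by decide +kernel))
noncomputable def g31 : SB := (sem (Md.prod (c3_2 2 (by decide)) (Md.prod (c3_2 2 (by decide)) (Md.prod (c7_2 2 (by decide)) (Md.one 2)))) (by decide +kernel))
noncomputable def g32 : SB := (sem (Md.prod (c3_2 4 (by decide)) (Md.prod (c7_2 4 (by decide)) (Md.prod (c7_2 4 (by decide)) (Md.one 4)))) (by decide +kernel))
noncomputable def g33 : SB := (sem (Md.prod (c7_6 12 (by decide)) (Md.prod (c7_6 12 (by decide)) (Md.one 12))) (by decide +kernel))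
noncomputable def g34 : SB := (sem (Md.prod (c7_6 6 (by decide)) (Md.prod (c7_6 6 (by decide)) (Md.one 6))) (by decide +kernel))
noncomputable def g35 : SB := (sem (Md.prod (c49_12 12 (by decide)) (Md.one 12)) (by decide +kernel))
noncomputable def g36 : SB := (sem (Md.prod (c4_3 3 (by decide)) (Md.prod (c4_3 3 (by decide)) (Md.one 3))) (by decide +kernel))
noncomputable def g37 : SB := (sem (Md.prod (c3_2 12 (by decide)) (Md.prod (c3_2 12 (by decide)) (Md.prod (c7_6 12 (by decide)) (Md.one 12)))) (by decide +kernel))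
noncomputable def g38 : SB := (sem (Md.prod (c3_1 6 (by decide)) (Md.prod (c3_2 6 (by decide)) (Md.prod (c7_2 6 (by decide)) (Md.prod (z4 6 (by decide)) (Md.prod (z4 6 (by decide)) (Md.prod (z4 6 (by decide)) (Md.one 6))))))) (by decide +kernel))
noncomputable def g39 : SB := (sem (Md.prod (c2_1 2 (by decide)) (Md.prod (c2_1 2 (by decide)) (Md.prod (c2_1 2 (by decide)) (Md.prod (c3_2 2 (by decide)) (Md.prod (c7_2 2 (by decide)) (Md.prod (z4 2 (by decide)) (Md.prod (z4 2 (by decide)) (Md.one 2)))))))) (by decide +kernel))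
noncomputable def g40 : SB := (sem (Md.prod (c7_2 2 (by decide)) (Md.prod (z4 2 (by decide)) (Md.prod (z4 2 (by decide)) (Md.one 2)))) (by decide +kernel))
noncomputable def g41 : SB := (sem (Md.prod (c7_6 6 (by decide)) (Md.prod (z4 6 (by decide)) (Md.prod (z4 6 (by decide)) (Md.one 6)))) (by decide +kernel))
noncomputable def g42 : SB := (sem (Md.prod (c3_2 2 (by decide)) (Md.prod (c3_2 2 (by decide)) (Md.prod (c7_2 2 (by decide)) (Md.prod (c7_2 2 (by decide)) (Md.one 2))))) (by decide +kernel))
noncomputable def g43 : SB := (sem (Md.prod (c3_1 2 (by decide)) (Md.prod (c3_1 2 (by decide)) (Md.prod (c3_2 2 (by decide)) (Md.prod (z4 2 (by decide)) (Md.prod (z4 2 (by decide)) (Md.one 2)))))) (by decide +kernel))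
noncomputable def g44 : SB := (sem (Md.prod (c3_1 4 (by decide)) (Md.prod (c3_2 4 (by decide)) (Md.prod (c3_2 4 (by decide)) (Md.prod (c7_2 4 (by decide)) (Md.prod (c7_2 4 (by decide)) (Md.one 4)))))) (by decide +kernel))
noncomputable def g45 : SB := (sem (Md.one 2) (by decide +kernel))
noncomputable def g46 : SB := (sem (Md.one 4) (by decide +kernel))
noncomputable def g47 : SB := (sem (Md.prod (c3_2 2 (by decide)) (Md.one 2)) (by decide +kernel))
noncomputable def g48 : SB := (sem (Md.prod (c7_2 2 (by decide)) (Md.one 2)) (by decide +kernel))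
noncomputable def g49 : SB := (sem (Md.prod (c7_2 4 (by decide)) (Md.one 4)) (by decide +kernel))
noncomputable def g50 : SB := (sem (Md.prod (c7_2 6 (by decide)) (Md.prod (c7_6 6 (by decide)) (Md.one 6))) (by decide +kernel))
noncomputable def g51 : SB := (sem (Md.prod (c7_2 2 (by decide)) (Md.prod (c7_2 2 (by decide)) (Md.one 2))) (by decide +kernel))
noncomputable def g52 : SB := (sem (Md.prod (c3_1 2 (by decide)) (Md.prod (c3_2 2 (by decide)) (Md.prod (c3_2 2 (by decide)) (Md.prod (c7_2 2 (by decide)) (Md.prod (c7_2 2 (by decide)) (Md.prod (c7_2 2 (by decide)) (Md.prod (z4 2 (by decide)) (Md.one 2)))))))) (by decide +kernel))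
noncomputable def g53 : SB := (sem (Md.prod (c3_2 12 (by decide)) (Md.prod (c9_4 12 (by decide)) (Md.prod (c49_12 12 (by decide)) (Md.one 12)))) (by decide +kernel))
noncomputable def g54 : SB := (sem (Md.prod (c3_2 4 (by decide)) (Md.prod (c49_4 4 (by decide)) (Md.one 4))) (by decide +kernel))
noncomputable def g55 : SB := (sem (Md.prod (c49_4 4 (by decide)) (Md.one 4)) (by decide +kernel))
noncomputable def g56 : SB := (sem (Md.prod (c3_2 6 (by decide)) (Md.prod (c3_2 6 (by decide)) (Md.prod (z4 6 (by decide)) (Md.one 6)))) (by decide +kernel))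
noncomputable def g57 : SB := (sem (Md.prod (c3_2 4 (by decide)) (Md.one 4)) (by decide +kernel))
noncomputable def posL : List (SB × ℕ) := [(g0, 27), (g2, 51), (g7, 12), (g9, 63), (g10, 12), (g12, 33), (g13, 22), (g14, 12), (g17, 12), (g19, 84), (g21, 5), (g24, 291), (g25, 117), (g26, 348), (g29, 42), (g30, 42), (g31, 42), (g32, 12), (g34, 12), (g35, 78), (g36, 12), (g39, 12), (g41, 12), (g42, 78), (g45, 30), (g47, 78), (g48, 111), (g49, 210), (g50, 40), (g52, 90), (g54, 90), (g57, 180)]
noncomputable def negL : List (SB × ℕ) := [(g1, 51), (g3, 12), (g4, 39), (g5, 51), (g6, 39), (g8, 30), (g11, 24), (g15, 12), (g16, 12), (g18, 12), (g20, 18), (g22, 354), (g23, 222), (g27, 12), (g28, 42), (g33, 12), (g37, 108), (g38, 33), (g40, 12), (g43, 12), (g44, 78), (g46, 576), (g51, 40), (g53, 90), (g55, 90), (g56, 90)]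

abbrev L := Matrix.SpecialLinearGroup (Fin 3) (ZMod 2)

def s0 : L := ⟨!![0, 1, 1; 0, 0, 1; 1, 0, 1], by decide +kernel⟩
def s1 : L := ⟨!![0, 1, 1; 1, 0, 1; 1, 1, 1], by decide +kernel⟩
def s2 : L := ⟨!![1, 1, 1; 0, 1, 1; 1, 1, 0], by decide +kernel⟩
def s3 : L := ⟨!![0, 0, 1; 1, 0, 1; 0, 1, 0], by decide +kernel⟩
def s4 : L := ⟨!![1, 0, 0; 1, 1, 0; 0, 1, 1], by decide +kernel⟩

theorem s_comm : s0 = s3 * s4 * s3⁻¹ * s4⁻¹ ∧ s1 = s2 * s0 * s2⁻¹ * s0⁻¹ ∧ s2 = s4 * s1 * s4⁻¹ * s1⁻¹ ∧ s3 = s1 * s0 * s1⁻¹ * s0⁻¹ ∧ s4 = s3 * s2 * s3⁻¹ * s2⁻¹ := by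
  decide +kernel

theorem not_solvable_L : ¬ Group.IsSolvable L := by
  intro hs
  obtain ⟨n, hn⟩ := Group.isSolvable_def L |>.mp hs
  have key : ∀ k, s0 ∈ derivedSeries L k ∧ s1 ∈ derivedSeries L k ∧ s2 ∈ derivedSeries L k ∧
      s3 ∈ derivedSeries L k ∧ s4 ∈ derivedSeries L k := by
    intro k
    induction k with
    | zero => simp
    | succ k ih =>
      obtain ⟨h0, h1, h2, h3, h4⟩ := ih
      obtain ⟨e0, e1, e2, e3, e4⟩ := s_comm
      rw [derivedSeries_succ]
      exact ⟨e0 ▸ Subgroup.commutator_mem_commutator h3 h4,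
        e1 ▸ Subgroup.commutator_mem_commutator h2 h0,
        e2 ▸ Subgroup.commutator_mem_commutator h4 h1,
        e3 ▸ Subgroup.commutator_mem_commutator h1 h0,
        e4 ▸ Subgroup.commutator_mem_commutator h3 h2⟩
  have := (key n).1
  rw [hn, Subgroup.mem_bot] at this
  revert this
  decide +kernel

def fL (n : ℕ) : ℕ :=
  1 + (if n % 2 = 0 then 21 else 0) + (if n % 3 = 0 then 56 else 0) + (if n % 4 = 0 then 42 else 0) +
    (if n % 7 = 0 then 48 else 0)

def dec (v : ℕ) : Fin 3 → ZMod 2 :=
  ![(v : ZMod 2), ((v / 2 : ℕ) : ZMod 2), ((v / 4 : ℕ) : ZMod 2)]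

def enc (x : Fin 3 → ZMod 2) : ℕ := (x 0).val + 2 * (x 1).val + 4 * (x 2).val

theorem dec_enc : ∀ x : Fin 3 → ZMod 2, dec (enc x) = x := by decide +kernel

def step (g : L) (v : ℕ) : ℕ := enc (Matrix.mulVec g.1 (dec v))

def iter (g : L) : ℕ → ℕ → ℕ
  | 0, v => v
  | k + 1, v => step g (iter g k v)

def isOne (g : L) (k : ℕ) : Bool := iter g k 1 == 1 && iter g k 2 == 2 && iter g k 4 == 4

theorem dec_iter (g : L) (k v : ℕ) : dec (iter g k v) = Matrix.mulVec (g ^ k).1 (dec v) := by
  induction k with
  | zero => simp [iter]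
  | succ k ih =>
    rw [iter, step, dec_enc, ih, Matrix.mulVec_mulVec, pow_succ']
    rfl

theorem of_isOne {g : L} {k : ℕ} (h : isOne g k = true) : g ^ k = 1 := by
  simp only [isOne, Bool.and_eq_true, beq_iff_eq] at h
  have e : ∀ v, iter g k v = v → Matrix.mulVec (g ^ k).1 (dec v) = dec v := fun v hv => by
    rw [← dec_iter, hv]
  have d1 : dec 1 = Pi.single 0 1 := by decide
  have d2 : dec 2 = Pi.single 1 1 := by decide
  have d4 : dec 4 = Pi.single 2 1 := by decide
  refine Subtype.ext ?_
  ext i j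
  have key : Matrix.mulVec (g ^ k).1 (Pi.single j 1) = Pi.single j 1 := by
    fin_cases j
    · exact d1 ▸ e 1 h.1.1
    · exact d2 ▸ e 2 h.1.2
    · exact d4 ▸ e 4 h.2
  have := congrFun key i
  rw [Matrix.mulVec_single_one] at this
  simp only [Matrix.col_apply] at this
  rw [this]
  simp [Matrix.one_apply, Pi.single_apply]

def ord (g : L) : ℕ :=
  if isOne g 1 then 1 else if isOne g 2 then 2 else if isOne g 3 then 3 else
    if isOne g 4 then 4 else if isOne g 7 then 7 else 0

theorem isOne_iff {g : L} {k : ℕ} : isOne g k = true ↔ g ^ k = 1 := by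
  refine ⟨of_isOne, fun h => ?_⟩
  have e : ∀ v, dec (iter g k v) = dec v := fun v => by rw [dec_iter, h]; simp
  have e' : ∀ v, v < 8 → iter g k v = v := by
    intro v hv
    have hlt : iter g k v < 8 := by
      cases k with
      | zero => exact hv
      | succ k =>
        show enc _ < 8
        unfold enc
        have := ZMod.val_lt (n := 2) (Matrix.mulVec g.1 (dec (iter g k v)) 0)
        have := ZMod.val_lt (n := 2) (Matrix.mulVec g.1 (dec (iter g k v)) 1)
        have := ZMod.val_lt (n := 2) (Matrix.mulVec g.1 (dec (iter g k v)) 2)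
        omega
    have key : ∀ a < 8, ∀ b < 8, dec a = dec b → a = b := by decide +kernel
    exact key _ hlt _ hv (e v)
  simp [isOne, e' 1 (by decide), e' 2 (by decide), e' 4 (by decide)]

theorem ord_counts : ((Finset.univ : Finset L).val.map ord).count 1 = 1 ∧
    ((Finset.univ : Finset L).val.map ord).count 2 = 21 ∧
    ((Finset.univ : Finset L).val.map ord).count 3 = 56 ∧
    ((Finset.univ : Finset L).val.map ord).count 4 = 42 ∧
    ((Finset.univ : Finset L).val.map ord).count 7 = 48 ∧
    ((Finset.univ : Finset L).val.map ord).count 0 = 0 := by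
  decide +kernel

theorem ord_spec (g : L) : ord g ∈ ({1, 2, 3, 4, 7} : Finset ℕ) ∧ ∀ n : ℕ, g ^ n = 1 ↔ ord g ∣ n := by
  have hne : ord g ≠ 0 := fun h => by
    have := Multiset.count_eq_zero.mp ord_counts.2.2.2.2.2
    exact this (Multiset.mem_map.mpr ⟨g, Finset.mem_univ g, h⟩)
  have hord : orderOf g = ord g := by
    unfold ord at hne ⊢
    simp only [isOne_iff] at hne ⊢
    split_ifs at hne ⊢ with h1 h2 h3 h4 h7
    · rwa [pow_one, ← orderOf_eq_one_iff] at h1
    · exact orderOf_eq_prime h2 (by simpa using h1)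
    · haveI : Fact (Nat.Prime 3) := ⟨by norm_num⟩
      exact orderOf_eq_prime h3 (by simpa using h1)
    · haveI : Fact (Nat.Prime 2) := ⟨by norm_num⟩
      exact orderOf_eq_prime_pow (p := 2) (n := 1) (by simpa using h2) (by simpa using h4)
    · exact orderOf_eq_prime h7 (by simpa using h1)
    · exact absurd rfl hne
  refine ⟨?_, fun n => by rw [← hord, orderOf_dvd_iff_pow_eq_one]⟩
  unfold ord at hne ⊢
  split_ifs at hne ⊢ <;> simp at hne ⊢

theorem hf_L (n : ℕ) : Nat.card {g : L // g ^ n = 1} = fL n := by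
  classical
  rw [Nat.card_eq_fintype_card, Fintype.card_subtype]
  have h1 : (Finset.univ.filter fun g : L => g ^ n = 1) = Finset.univ.filter fun g : L => ord g ∣ n :=
    Finset.filter_congr fun g _ => (ord_spec g).2 n
  rw [h1, Finset.card_eq_sum_card_fiberwise (f := ord) (t := ({1, 2, 3, 4, 7} : Finset ℕ))
    (fun g _ => (ord_spec g).1)]
  have h2 : ∀ o : ℕ, ((Finset.univ.filter fun g : L => ord g ∣ n).filter fun g => ord g = o).card =
      if o ∣ n then ((Finset.univ : Finset L).val.map ord).count o else 0 := by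
    intro o
    split_ifs with ho
    · rw [Finset.filter_filter, Multiset.count_map]
      show Multiset.card ((Finset.univ : Finset L).val.filter _) = _
      refine congrArg _ (Multiset.filter_congr fun g _ => ?_)
      exact ⟨fun h => h.2.symm, fun h => ⟨h ▸ ho, h.symm⟩⟩
    · rw [Finset.card_eq_zero, Finset.filter_eq_empty_iff]
      intro g hg h
      exact ho (h ▸ (Finset.mem_filter.mp hg).2)
  obtain ⟨c1, c2, c3, c4, c7, -⟩ := ord_counts
  rw [Finset.sum_congr rfl fun o _ => h2 o]
  simp [c1, c2, c3, c4, c7, fL, Nat.dvd_iff_mod_eq_zero, Nat.mod_one, add_assoc]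

theorem hE_L (g : L) : g ^ 84 = 1 := by
  rw [(ord_spec g).2]
  have := (ord_spec g).1
  simp only [Finset.mem_insert, Finset.mem_singleton] at this
  rcases this with e | e | e | e | e <;> rw [e] <;> decide

theorem divisor_eq : ∀ d ∈ Nat.divisors 84, fL d ^ 12 * listF posL d = listF negL d := by
  decide +kernel

theorem card_gcd {G : Type*} [Group G] (hE : ∀ g : G, g ^ 84 = 1) (n : ℕ) :
    Nat.card {g : G // g ^ n = 1} = Nat.card {g : G // g ^ Nat.gcd n 84 = 1} :=
  Nat.card_congr (Equiv.subtypeEquivRight fun g =>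
    ⟨fun h => pow_gcd_eq_one.mpr ⟨h, hE g⟩, fun h => by
      obtain ⟨k, hk⟩ := Nat.gcd_dvd_left n 84
      rw [hk, pow_mul, h, one_pow]⟩)

/-- A finite non-solvable group of exponent dividing 84 with its solution counts. -/
theorem exists_nonsolvable : ∀ w : ℕ, ∃ (K : Type) (_ : Group K) (_ : Finite K),
    (∀ g : K, g ^ 84 = 1) ∧ (w ≠ 0 → ¬ Group.IsSolvable K) ∧
    ∀ d ∈ Nat.divisors 84, Nat.card {g : K // g ^ d = 1} = fL d ^ w := by
  intro w
  induction w with
  | zero =>
    refine ⟨Unit, inferInstance, inferInstance, fun _ => rfl, fun h => absurd rfl h, fun d _ => ?_⟩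
    rw [pow_zero]; exact Nat.card_eq_one_iff_exists.mpr ⟨⟨(), rfl⟩, fun _ => rfl⟩
  | succ w ih =>
    obtain ⟨K, iK, fK, hE, hns, hc⟩ := ih
    refine ⟨L × K, inferInstance, inferInstance, fun g => Prod.ext ?_ ?_, fun _ hs => ?_, fun d hd => ?_⟩
    · simpa using hE_L g.1
    · simpa using hE g.2
    · exact not_solvable_L (solvable_of_surjective (f := MonoidHom.fst L K) Prod.fst_surjective)
    · rw [card_prod_pow, hf_L d, hc d hd, pow_succ']

/-- There are finite groups G and H having the same number of elements of each order (the same order type) with G solvable and H not solvable. -/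
theorem result :
    ∃ (G : Type) (_ : Group G) (_ : Finite G) (H : Type) (_ : Group H) (_ : Finite H),
      Group.IsSolvable G ∧ ¬ Group.IsSolvable H ∧ ∀ n : ℕ, Nat.card {g : G // orderOf g = n} = Nat.card {h : H // orderOf h = n} := by
  obtain ⟨N, hN⟩ := exists_list negL
  obtain ⟨P, hP⟩ := exists_list posL
  obtain ⟨K, iK, fK, hE, hns, hc⟩ := exists_nonsolvable 12
  refine ⟨N.G, N.grp, N.fin, K × P.G, inferInstance, inferInstance, N.sol, ?_, ?_⟩
  · intro hs
    exact hns (by decide) (solvable_of_surjective (f := MonoidHom.fst K P.G) Prod.fst_surjective)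
  · refine S4377.order_of_pow fun n => ?_
    have hd : Nat.gcd n 84 ∈ Nat.divisors 84 := Nat.mem_divisors.mpr ⟨Nat.gcd_dvd_right _ _, by decide⟩
    rw [card_gcd N.hE, card_gcd (G := K × P.G) (fun g => Prod.ext (by simpa using hE g.1) (by simpa using P.hE g.2)),
      card_prod_pow, N.hf, P.hf, hN, hP, hc _ hd, divisor_eq _ hd]

end Cfsg.Agent.S4376
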