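import Cfsg.Statements.S4379
import Cfsg.Agent.Lib.HallSolvable
import Cfsg.Agent.Lib.HallCore
import Cfsg.Agent.Lib.CoprimeSZ
import Cfsg.Agent.Lib.PGroupsBasic

set_option autoImplicit false
open Cfsg

namespace Cfsg.Agent.S4379

open Cfsg.Agent
open Subgroup
open scoped Pointwise commutatorElement

/-- `M` has a normal subgroup of order prime to `p` and `p`-power index. -/
def HasK (p : ℕ) {G : Type*} [Group G] (M : Subgroup G) : Prop :=
  ∃ K : Subgroup M, K.Normal ∧ ¬ p ∣ Nat.card K ∧ ∃ k : ℕ, K.index = p ^ k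

/-- Elements acting trivially on `R / (M ⊓ R)` for all `M` in `S`. -/
def actKer {G : Type*} [Group G] (S : Set (Subgroup G)) (R : Subgroup G) [R.Normal]
    (hS : ∀ M ∈ S, (M ⊓ R).Normal) : Subgroup G where
  carrier := {g | ∀ M ∈ S, ∀ r ∈ R, ⁅g, r⁆ ∈ M ⊓ R}
  one_mem' := fun M _ r _ => by rw [commutatorElement_one_left]; exact one_mem _
  mul_mem' := fun {a b} ha hb M hM r hr => by
    rw [show ⁅a * b, r⁆ = a * ⁅b, r⁆ * a⁻¹ * ⁅a, r⁆ by simp only [commutatorElement_def]; group]
    exact mul_mem ((hS M hM).conj_mem _ (hb M hM r hr) a) (ha M hM r hr)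
  inv_mem' := fun {a} ha M hM r hr => by
    rw [show ⁅a⁻¹, r⁆ = a⁻¹ * ⁅a, r⁆⁻¹ * a⁻¹⁻¹ by simp only [commutatorElement_def]; group]
    exact (hS M hM).conj_mem _ (inv_mem (ha M hM r hr)) _

theorem actKer_normal {G : Type*} [Group G] (S : Set (Subgroup G)) (R : Subgroup G) [hR : R.Normal]
    (hS : ∀ M ∈ S, (M ⊓ R).Normal) : (actKer S R hS).Normal := ⟨fun a ha x M hM r hr => by
  rw [show ⁅x * a * x⁻¹, r⁆ = x * ⁅a, x⁻¹ * r * x⁆ * x⁻¹ by simp only [commutatorElement_def]; group]
  refine (hS M hM).conj_mem _ (ha M hM _ ?_) x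
  simpa using hR.conj_mem r hr x⁻¹⟩

theorem core_case {G : Type*} [Group G] [Finite G] {p : ℕ} [hp : Fact p.Prime] (hG : IsPSolvable p G)
    (hO : pPrimeCore p G = ⊥) (hmax : ∀ M : Subgroup G, IsCoatom M → HasK p M ∨ M.index.Prime) :
    (∃ C : Subgroup G, C.Normal ∧ pCore p G ≤ C ∧ ¬ p ∣ (pCore p G).relIndex C ∧ ∃ k, C.index = p ^ k) ∨
      (¬ p ∣ (pCore p G).index ∧ (p = 2 → pCore p G = ⊤)) := by
  classical
  set R := pCore p G with hRdef
  have hRn : R.Normal := HallCore.pCore_normal p G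
  have hRp : IsPGroup p R := HallCore.isPGroup_pCore p G
  by_cases hA : ∃ M : Subgroup G, IsCoatom M ∧ ¬ R ≤ M ∧ HasK p M
  · left
    obtain ⟨M, hM, hRM, K, hK, hKp, k, hk⟩ := hA
    have htop : R ⊔ M = ⊤ := hM.2 _ (lt_of_le_of_ne le_sup_right fun h => hRM (h ▸ le_sup_left))
    let φ : M →* G ⧸ R := (QuotientGroup.mk' R).comp M.subtype
    have hφ : Function.Surjective φ := by
      intro q
      obtain ⟨g, rfl⟩ := QuotientGroup.mk'_surjective R q
      obtain ⟨r, hr, m, hm, rfl⟩ := mem_sup_of_normal_left.mp (htop ▸ mem_top g : g ∈ R ⊔ M)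
      refine ⟨⟨m, hm⟩, ?_⟩
      show QuotientGroup.mk' R m = _
      rw [map_mul, show QuotientGroup.mk' R r = 1 from (QuotientGroup.eq_one_iff r).mpr hr, one_mul]
    have hKn : (K.map φ).Normal := hK.map φ hφ
    refine ⟨(K.map φ).comap (QuotientGroup.mk' R), hKn.comap _, QuotientGroup.le_comap_mk' R _, ?_, ?_⟩
    · rw [HallSolvable.relIndex_eq_card_map, map_comap_eq_self_of_surjective (QuotientGroup.mk'_surjective R)]
      exact fun h => hKp (h.trans (K.card_map_dvd φ))
    · have hd : ((K.map φ).comap (QuotientGroup.mk' R)).index ∣ p ^ k := by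
        rw [index_comap_of_surjective _ (QuotientGroup.mk'_surjective R), ← hk]
        exact K.index_map_dvd hφ
      obtain ⟨j, -, hj⟩ := (Nat.dvd_prime_pow hp.out).mp hd
      exact ⟨j, hj⟩
  right
  push Not at hA
  -- all relevant maximal subgroups have index `p`
  set S : Set (Subgroup G) := {M | IsCoatom M ∧ ¬ R ≤ M} with hSdef
  have hSrel : ∀ M ∈ S, M.relIndex R = p := by
    rintro M ⟨hM, hRM⟩
    have hMp : M.index.Prime := (hmax M hM).resolve_left (hA M hM hRM)
    have hsup : R ⊔ M = ⊤ := hM.2 _ (lt_of_le_of_ne le_sup_right fun h => hRM (h ▸ le_sup_left))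
    have h1 : M.relIndex R = M.index := by
      have e1 : (M ⊓ R).relIndex R * R.index = (M ⊓ R).index := relIndex_mul_index inf_le_right
      have e2 : (M ⊓ R).relIndex M * M.index = (M ⊓ R).index := relIndex_mul_index inf_le_left
      have e3 : R.relIndex M = R.index := by
        rw [← relIndex_sup_right, show M ⊔ R = ⊤ by rw [sup_comm]; exact hsup, relIndex_top_right]
      rw [inf_relIndex_right] at e1
      rw [inf_comm, inf_relIndex_right, e3, inf_comm, ← e1, mul_comm] at e2
      exact (Nat.eq_of_mul_eq_mul_right (Nat.pos_of_ne_zero index_ne_zero_of_finite) e2).symm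
    obtain ⟨n, hn⟩ := IsPGroup.iff_card.mp hRp
    have h2 : M.relIndex R ∣ p ^ n := hn ▸ relIndex_dvd_card M R
    obtain ⟨j, -, hj⟩ := (Nat.dvd_prime_pow hp.out).mp h2
    rw [hj]
    rw [h1] at hj
    rw [hj] at hMp
    rw [hMp.eq_one_of_pow, pow_one]
  have hSR : ∀ M ∈ S, ∀ r ∈ R, ∀ s ∈ R, ⁅r, s⁆ ∈ M ⊓ R ∧ ((M ⊓ R).subgroupOf R).Normal := by
    intro M hM r hr s hs
    have hi : ((M ⊓ R).subgroupOf R).index = p := by
      rw [inf_subgroupOf_right]; exact hSrel M hM
    have hn := PGroupsBasic.normal_of_index_eq hRp hi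
    refine ⟨?_, hn⟩
    have h := PGroupsBasic.commutator_le_of_index_le_sq hRp (N := (M ⊓ R).subgroupOf R)
      (by rw [hi]; exact Nat.le_self_pow two_ne_zero p) (commutator_mem_commutator (mem_top (⟨r, hr⟩ : R)) (mem_top ⟨s, hs⟩))
    exact mem_subgroupOf.mp h
  have hSn : ∀ M ∈ S, (M ⊓ R).Normal := by
    intro M hM
    have hsup : R ⊔ M = ⊤ := hM.1.2 _ (lt_of_le_of_ne le_sup_right fun h => hM.2 (h ▸ le_sup_left))
    rw [← normalizer_eq_top_iff, eq_top_iff, ← hsup]
    refine sup_le (fun r hr => ?_) (fun m hm => ?_) <;>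
      refine mem_normalizer_iff.mpr fun n => ?_
    · constructor
      · intro hn
        rw [show r * n * r⁻¹ = ⁅r, n⁆ * n by simp only [commutatorElement_def]; group]
        exact mul_mem (hSR M hM r hr n hn.2).1 hn
      · intro hn
        rw [show n = ⁅r⁻¹, r * n * r⁻¹⁆ * (r * n * r⁻¹) by simp only [commutatorElement_def]; group]
        exact mul_mem (hSR M hM _ (inv_mem hr) _ hn.2).1 hn
    · constructor
      · exact fun hn => ⟨M.mul_mem (M.mul_mem hm hn.1) (M.inv_mem hm), hRn.conj_mem n hn.2 m⟩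
      · intro hn
        rw [show n = m⁻¹ * (m * n * m⁻¹) * m⁻¹⁻¹ by group]
        exact ⟨M.mul_mem (M.mul_mem (M.inv_mem hm) hn.1) (M.inv_mem (M.inv_mem hm)), hRn.conj_mem _ hn.2 _⟩
  set C₀ := actKer S R hSn with hC₀
  have hC₀n : C₀.Normal := actKer_normal S R hSn
  have hRC : R ≤ C₀ := fun r hr M hM s hs => (hSR M hM r hr s hs).1
  -- the quotient has exponent dividing `p - 1`
  have hexp : ∀ g : G, g ^ (p - 1) ∈ C₀ := by
    intro g M hM r hr
    set N := M ⊓ R with hN
    have hNn : N.Normal := hSn M hM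
    by_cases hrN : r ∈ N
    · rw [commutatorElement_def]
      exact mul_mem (hNn.conj_mem r hrN _) (inv_mem hrN)
    have hcard : Nat.card (R.map (QuotientGroup.mk' N)) = p := by
      rw [← relIndex_bot_left, ← QuotientGroup.map_mk'_self N, relIndex_map_map, QuotientGroup.ker_mk',
        sup_idem, sup_eq_left.mpr inf_le_right, inf_relIndex_right]
      exact hSrel M hM
    set q := QuotientGroup.mk' N
    have hqr : q r ∈ R.map q := mem_map_of_mem q hr
    have hcyc : IsCyclic (R.map q) := isCyclic_of_prime_card hcard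
    have hgen : zpowers (q r) = R.map q := eq_of_le_of_card_ge (zpowers_le.mpr hqr) (by
      rw [hcard, Nat.card_zpowers]
      refine Nat.le_of_dvd (orderOf_pos _) ?_
      rcases (Nat.dvd_prime hp.out).mp (hcard ▸ orderOf_dvd_natCard _ hqr) with h | h
      · exact absurd ((QuotientGroup.eq_one_iff r).mp (orderOf_eq_one_iff.mp h)) hrN
      · rw [h])
    obtain ⟨t, ht⟩ := mem_zpowers_iff.mp (hgen.symm ▸ mem_map_of_mem q (hRn.conj_mem r hr g) :
      q (g * r * g⁻¹) ∈ zpowers (q r))
    have hord : orderOf (q r) = p := by rw [← Nat.card_zpowers, hgen, hcard]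
    have hiter : ∀ j : ℕ, q (g ^ j * r * (g ^ j)⁻¹) = q r ^ (t ^ j) := by
      intro j
      induction j with
      | zero => simp
      | succ j ih =>
        rw [show g ^ (j + 1) * r * (g ^ (j + 1))⁻¹ = g * (g ^ j * r * (g ^ j)⁻¹) * g⁻¹ by rw [pow_succ']; group,
          map_mul, map_mul, map_inv, ih, ← conj_zpow, ← map_inv, ← map_mul, ← map_mul, ← ht, ← zpow_mul, ← pow_succ']
    have htp : ¬ (p : ℤ) ∣ t := by
      intro hd
      have h1 : q (g * r * g⁻¹) = 1 := by
        rw [← ht, ← orderOf_dvd_iff_zpow_eq_one, hord]; exact hd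
      have h2 := (hSn M hM).conj_mem _ ((QuotientGroup.eq_one_iff _).mp h1) g⁻¹
      exact hrN (by rwa [show g⁻¹ * (g * r * g⁻¹) * g⁻¹⁻¹ = r by group] at h2)
    rw [← QuotientGroup.eq_one_iff (N := N), commutatorElement_def, QuotientGroup.mk_mul]
    show q (g ^ (p - 1) * r * (g ^ (p - 1))⁻¹) * q r⁻¹ = 1
    rw [hiter, map_inv, ← zpow_sub_one, ← orderOf_dvd_iff_zpow_eq_one, hord]
    exact (Int.ModEq.pow_card_sub_one_eq_one hp.out (((Int.prime_iff_natAbs_prime.mpr (by simpa using hp.out)).coprime_iff_not_dvd.mpr htp).symm)).symm.dvd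
  -- the kernel is `R`
  have hCR : C₀ ≤ R := by
    by_contra hle
    set q := QuotientGroup.mk' R with hq
    set A := C₀.map q with hA'
    have hAn : A.Normal := hC₀n.map q (QuotientGroup.mk'_surjective R)
    have : Nontrivial A := (nontrivial_iff_ne_bot A).mpr fun h => hle (by
      rwa [hA', Subgroup.map_eq_bot_iff, hq, QuotientGroup.ker_mk'] at h)
    have hsep : HallSolvable.IsPiSeparable {p} A := (((HallSolvable.isPSolvable_iff p).mp hG).to_quotient R).to_subgroup A
    have hA0 : pCore p A = ⊥ := by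
      have h := HallCore.map_subtype_pCore (p := p) A
      rw [show pCore p (G ⧸ R) = ⊥ from HallCore.pCore_quotient_self p G, bot_inf_eq] at h
      exact (map_eq_bot_iff_of_injective _ A.subtype_injective).mp h
    have hA1 : pPrimeCore p A ≠ ⊥ := by
      intro h
      rcases hsep.exists_core_ne_bot with h0 | h0
      · exact h0 (by rw [← HallCore.pCore_eq_piCore]; exact hA0)
      · exact h0 (by rw [← HallCore.pPrimeCore_eq_piCore]; exact h)
    set Lb := pPrimeCore p (G ⧸ R) ⊓ A with hLb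
    have hLb1 : Lb ≠ ⊥ := fun h => hA1 ((map_eq_bot_iff_of_injective _ A.subtype_injective).mp
      (by rw [HallCore.map_subtype_pPrimeCore]; exact h))
    set L := Lb.comap q with hL
    have hLn : L.Normal := inferInstance
    have hRL : R ≤ L := QuotientGroup.le_comap_mk' R _
    have hLC : L ≤ C₀ := by
      refine (comap_mono inf_le_right).trans ?_
      rw [hA', comap_map_eq, hq, QuotientGroup.ker_mk']
      exact sup_le le_rfl hRC
    obtain ⟨n, hn⟩ := IsPGroup.iff_card.mp hRp
    have hidx : (R.subgroupOf L).index = Nat.card Lb := by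
      show R.relIndex L = _
      rw [HallSolvable.relIndex_eq_card_map, map_comap_eq_self_of_surjective (QuotientGroup.mk'_surjective R)]
    have hcopLb : (Nat.card Lb).Coprime p :=
      (HallCore.coprime_card_pPrimeCore p (G ⧸ R)).coprime_dvd_left (card_dvd_of_le inf_le_left)
    have hRL' : (R.subgroupOf L).Normal := hRn.subgroupOf L
    have hcop : (Nat.card (R.subgroupOf L)).Coprime (R.subgroupOf L).index := by
      rw [hidx, Nat.card_congr (subgroupOfEquivOfLe hRL).toEquiv, hn]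
      exact (hcopLb.pow_right n).symm
    obtain ⟨H', hH'⟩ := exists_right_complement'_of_coprime hcop
    set H := H'.map L.subtype with hH
    have hHc : Nat.card H = Nat.card Lb := by
      rw [hH, card_map_of_injective L.subtype_injective, ← hH'.symm.index_eq_card, hidx]
    have hHL : L = R ⊔ H := by
      refine le_antisymm (fun x hx => ?_) (sup_le hRL (map_subtype_le _))
      obtain ⟨⟨a, b⟩, hab⟩ := hH'.2 ⟨x, hx⟩
      rw [show x = ((a : L) : G) * ((b : L) : G) from (congrArg Subtype.val hab).symm]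
      exact mul_mem_sup (mem_subgroupOf.mp a.2) (mem_map_of_mem L.subtype b.2)
    set F := R ⊓ frattini G with hF
    have hFn : F.Normal := inferInstance
    have hCF : ∀ g ∈ C₀, ∀ r ∈ R, ⁅g, r⁆ ∈ F := by
      intro g hg r hr
      have hR' : ⁅g, r⁆ ∈ R := by
        rw [commutatorElement_def]; exact mul_mem (hRn.conj_mem r hr g) (inv_mem hr)
      refine ⟨hR', ?_⟩
      rw [frattini, Order.radical]
      refine Subgroup.mem_iInf.mpr fun M => Subgroup.mem_iInf.mpr fun hM => ?_
      by_cases h : R ≤ M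
      · exact h hR'
      · exact (hg M ⟨hM, h⟩ r hr).1
    have hRsolv : Group.IsSolvable R := by
      have := hRp.isNilpotent
      infer_instance
    have hFsolv : Group.IsSolvable F := solvable_of_solvable_injective (f := inclusion (inf_le_left : F ≤ R)) (inclusion_injective _)
    have hHcop : ∀ N : Subgroup G, N ≤ R → (Nat.card H).Coprime (Nat.card N) := fun N hN => by
      rw [hHc]
      exact ((hcopLb.pow_right n)).coprime_dvd_right (hn ▸ card_dvd_of_le hN)
    have hT : ∀ g : G, MulAut.conj g • H ≤ F ⊔ H := by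
      intro g
      have hB : MulAut.conj g • H ≤ R ⊔ H := hHL ▸ CoprimeSZ.conj_smul_eq_self (H := L)
        (by rw [normalizer_eq_top]; trivial) ▸ pointwise_smul_le_pointwise_smul_iff.mpr (map_subtype_le _)
      obtain ⟨m, hm, hmB⟩ := CoprimeSZ.exists_conj_of_card_eq (N := R) (A := H) (B := MulAut.conj g • H)
        (by rw [normalizer_eq_top]; exact le_top) (hHcop R le_rfl) (Or.inr hRsolv) hB (CoprimeSZ.card_conj_smul g H)
      rw [← hmB]
      intro x hx
      rw [CoprimeSZ.mem_conj_smul] at hx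
      have h1 := hCF _ (hLC (map_subtype_le _ hx)) m hm
      have e : x = ⁅m⁻¹ * x * m, m⁆⁻¹ * (m⁻¹ * x * m) := by simp only [commutatorElement_def]; group
      rw [e]
      exact mul_mem_sup (inv_mem h1) hx
    have hgen : frattini G ⊔ normalizer (H : Set G) = ⊤ := by
      refine eq_top_iff.mpr fun g _ => ?_
      obtain ⟨m, hm, hmB⟩ := CoprimeSZ.exists_conj_of_card_eq (N := F) (A := H) (B := MulAut.conj g • H)
        (by rw [normalizer_eq_top]; exact le_top) (hHcop F inf_le_left) (Or.inr hFsolv) (hT g) (CoprimeSZ.card_conj_smul g H)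
      have hfix : MulAut.conj (m⁻¹ * g) • H = H := by
        rw [CoprimeSZ.conj_smul_mul, ← hmB, ← CoprimeSZ.conj_smul_mul, inv_mul_cancel, map_one, one_smul]
      rw [show g = m * (m⁻¹ * g) by group]
      refine mul_mem_sup hm.2 (mem_normalizer_iff.mpr fun x => ?_)
      conv_rhs => rw [← hfix, CoprimeSZ.mem_conj_smul]
      simp only [SetLike.mem_coe, mul_inv_rev, inv_inv]
      group
    have hnorm : normalizer (H : Set G) = ⊤ := frattini_nongenerating (by rw [sup_comm]; exact hgen)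
    have hHn : H.Normal := normalizer_eq_top_iff.mp hnorm
    have hH1 : H = ⊥ := le_bot_iff.mp (hO ▸ HallCore.le_pPrimeCore (by rw [hHc]; exact hcopLb))
    exact hLb1 (eq_bot_of_card_eq _ (by rw [← hHc, hH1, card_bot]))
  have hC₀R : C₀ = R := le_antisymm hCR hRC
  refine ⟨fun hd => ?_, fun h2 => ?_⟩
  · rw [← hC₀R] at hd
    obtain ⟨x, hx⟩ := exists_prime_orderOf_dvd_card' p (show p ∣ Nat.card (G ⧸ C₀) from hd)
    obtain ⟨g, rfl⟩ := QuotientGroup.mk_surjective x
    have h1 : (g : G ⧸ C₀) ^ (p - 1) = 1 := by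
      rw [← QuotientGroup.mk_pow, QuotientGroup.eq_one_iff]; exact hexp g
    have := Nat.le_of_dvd (Nat.sub_pos_of_lt hp.out.one_lt) (hx ▸ orderOf_dvd_of_pow_eq_one h1)
    have := hp.out.one_lt
    omega
  · subst h2
    rw [← hC₀R, eq_top_iff]
    intro g _
    simpa using hexp g

/-- The general statement. -/
theorem main {G : Type*} [Group G] [Finite G] {p : ℕ} [hp : Fact p.Prime] (hG : IsPSolvable p G)
    (hmax : ∀ M : Subgroup G, IsCoatom M → HasK p M ∨ M.index.Prime) :
    ∃ A B C : Subgroup G, A.Normal ∧ B.Normal ∧ C.Normal ∧ A ≤ B ∧ B ≤ C ∧ ¬ p ∣ Nat.card A ∧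
      (∃ k, A.relIndex B = p ^ k) ∧ ¬ p ∣ B.relIndex C ∧
      ((∃ k, C.index = p ^ k) ∨ (¬ p ∣ C.index ∧ (p = 2 → C = ⊤))) := by
  set A := pPrimeCore p G with hA
  have hAn : A.Normal := HallCore.pPrimeCore_normal p G
  set q := QuotientGroup.mk' A with hq
  have hqs : Function.Surjective q := QuotientGroup.mk'_surjective A
  have hmaxq : ∀ M : Subgroup (G ⧸ A), IsCoatom M → HasK p M ∨ M.index.Prime := by
    intro M hM
    rcases hmax _ (isCoatom_comap_of_surjective hqs hM) with ⟨K, hK, hKp, k, hk⟩ | h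
    · left
      let ψ := q.subgroupComap M
      have hψ : Function.Surjective ψ := q.subgroupComap_surjective_of_surjective M hqs
      refine ⟨K.map ψ, hK.map ψ hψ, fun h => hKp (h.trans (K.card_map_dvd ψ)), ?_⟩
      obtain ⟨j, -, hj⟩ := (Nat.dvd_prime_pow hp.out).mp (hk ▸ K.index_map_dvd hψ)
      exact ⟨j, hj⟩
    · right
      rwa [index_comap_of_surjective _ hqs] at h
  have hpA : ¬ p ∣ Nat.card A := fun h => hp.out.one_lt.ne'
    (Nat.eq_one_of_dvd_coprimes (HallCore.coprime_card_pPrimeCore p G) h dvd_rfl)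
  have hB : (pCore p (G ⧸ A)).comap q = pPrimePCore p G := rfl
  have hcard : ∃ k, A.relIndex (pPrimePCore p G) = p ^ k := HallCore.relIndex_pPrimePCore p G
  rcases core_case (HallSolvable.isPSolvable_quotient hG A) (HallCore.pPrimeCore_quotient_self p G) hmaxq with
    ⟨C, hC, hRC, hCp, k, hk⟩ | ⟨h1, h2⟩
  · refine ⟨A, pPrimePCore p G, C.comap q, hAn, inferInstance, hC.comap q,
      HallCore.pPrimeCore_le_pPrimePCore p G, hB ▸ comap_mono hRC, hpA, hcard, ?_, Or.inl ⟨k, ?_⟩⟩
    · rwa [← hB, relIndex_comap, map_comap_eq_self_of_surjective hqs]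
    · rwa [index_comap_of_surjective _ hqs]
  · refine ⟨A, pPrimePCore p G, pPrimePCore p G, hAn, inferInstance, inferInstance,
      HallCore.pPrimeCore_le_pPrimePCore p G, le_rfl, hpA, hcard, ?_, Or.inr ⟨?_, fun h => ?_⟩⟩
    · rw [relIndex_self]; exact hp.out.not_dvd_one
    · rwa [← hB, index_comap_of_surjective _ hqs]
    · rw [← hB, h2 h, comap_top]

/-- Let p be an odd prime and G a finite p-solvable group in which every maximal subgroup either has a normal p-complement or has prime index. Then G has a chain of normal subgroups 1 ≤ A ≤ B ≤ C ≤ D ≤ G in which A, C/B and G/D have order prime to p and B/A and D/C are p-groups (so the p-length of G is at most 2). -/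
theorem result {G : Type*} [Group G] [Finite G]
    (p : ℕ) [Fact p.Prime] (hp : p ≠ 2) (hG : Cfsg.IsPSolvable p G)
    (hmax : ∀ M : Subgroup G, IsCoatom M → (∃ K : Subgroup ↥M, K.Normal ∧ ¬ p ∣ Nat.card K ∧ ∃ k : ℕ, K.index = p ^ k) ∨ (M.index).Prime) :
    ∃ A B C D : Subgroup G, A.Normal ∧ B.Normal ∧ C.Normal ∧ D.Normal ∧ A ≤ B ∧ B ≤ C ∧ C ≤ D ∧ ¬ p ∣ Nat.card A ∧
      (∃ k : ℕ, A.relIndex B = p ^ k) ∧ ¬ p ∣ B.relIndex C ∧ (∃ k : ℕ, C.relIndex D = p ^ k) ∧ ¬ p ∣ D.index := by
  obtain ⟨A, B, C, hA, hB, hC, hAB, hBC, hpA, hk, hBCp, h⟩ := main hG hmax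
  rcases h with ⟨k, hk'⟩ | ⟨h1, -⟩
  · exact ⟨A, B, C, ⊤, hA, hB, hC, inferInstance, hAB, hBC, le_top, hpA, hk, hBCp,
      ⟨k, by rw [Subgroup.relIndex_top_right]; exact hk'⟩, by rw [Subgroup.index_top]; exact (Fact.out : p.Prime).not_dvd_one⟩
  · exact ⟨A, B, C, C, hA, hB, hC, hC, hAB, hBC, le_rfl, hpA, hk, hBCp,
      ⟨0, by rw [Subgroup.relIndex_self, pow_zero]⟩, h1⟩

end Cfsg.Agent.S4379
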