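import Cfsg.Statements.S4381
import Cfsg.Agent.Lib.CoprimeActionAut
import Cfsg.Agent.Lib.PGroupsBasic
-- import your own Cfsg.Agent.* helpers here

set_option autoImplicit false
open Pointwise
open Cfsg

namespace Cfsg.Agent.S4381

open scoped Pointwise commutatorElement
open Cfsg.Agent.CoprimeSZ Cfsg.Agent.CoprimeActionAut

section

variable {A G : Type*} [Group A] [Group G] [MulDistribMulAction A G]

/-- Maximal proper invariant subgroup. -/
def MaxInv (A : Type*) {G : Type*} [Group A] [Group G] [MulDistribMulAction A G] (M : Subgroup G) :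
    Prop :=
  M ≠ ⊤ ∧ (∀ a : A, ∀ x ∈ M, a • x ∈ M) ∧
    ∀ L : Subgroup G, M < L → (∀ a : A, ∀ x ∈ L, a • x ∈ L) → L = ⊤

theorem exists_maxInv_ge [Finite G] {H : Subgroup G} (h : H ≠ ⊤)
    (hH : ∀ a : A, ∀ x ∈ H, a • x ∈ H) : ∃ M, MaxInv A M ∧ H ≤ M := by
  obtain ⟨M, hM⟩ := (Set.toFinite {K : Subgroup G | H ≤ K ∧ K ≠ ⊤ ∧
    ∀ a : A, ∀ x ∈ K, a • x ∈ K}).exists_maximal ⟨H, le_rfl, h, hH⟩
  refine ⟨M, ⟨hM.1.2.1, hM.1.2.2, fun L hL hLinv => ?_⟩, hM.1.1⟩
  by_contra hne
  exact hL.not_ge (hM.2 ⟨hM.1.1.trans hL.le, hne, hLinv⟩ hL.le)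

theorem invariant_sup {H K : Subgroup G} (hH : ∀ a : A, ∀ x ∈ H, a • x ∈ H)
    (hK : ∀ a : A, ∀ x ∈ K, a • x ∈ K) : ∀ a : A, ∀ x ∈ H ⊔ K, a • x ∈ H ⊔ K := by
  intro a x hx
  have : H ⊔ K ≤ (H ⊔ K).comap (MulDistribMulAction.toMonoidEnd A G a) :=
    sup_le (fun y hy => Subgroup.mem_sup_left (hH a y hy))
      (fun y hy => Subgroup.mem_sup_right (hK a y hy))
  exact this hx

theorem invariant_frattini (a : A) (x : G) (hx : x ∈ frattini G) : a • x ∈ frattini G :=
  frattini_le_comap_frattini_of_surjective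
    (φ := (MulDistribMulAction.toMulAut A G a).toMonoidHom)
    (MulDistribMulAction.toMulAut A G a).surjective hx

theorem frattini_sup_ne_top [Finite G] {M : Subgroup G} (h : M ≠ ⊤) : M ⊔ frattini G ≠ ⊤ :=
  fun h' => h (frattini_nongenerating h')

theorem frattini_le_maxInv [Finite G] {M : Subgroup G} (hM : MaxInv A M) : frattini G ≤ M := by
  rcases (le_sup_left : M ≤ M ⊔ frattini G).eq_or_lt with h | h
  · exact h ▸ le_sup_right
  · exact absurd (hM.2.2 _ h (invariant_sup hM.2.1 invariant_frattini)) (frattini_sup_ne_top hM.1)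

theorem maxInv_unique [Finite G] (hR : ∀ L : Subgroup G, frattini G < L →
    (∀ a : A, ∀ x ∈ L, a • x ∈ L) → L = ⊤) {M : Subgroup G} (hM : MaxInv A M) :
    M = frattini G := by
  rcases (frattini_le_maxInv hM).eq_or_lt with h | h
  · exact h.symm
  · exact absurd (hR M h hM.2.1) hM.1

/-- An invariant `L ⊋ Φ` in a `p`-group has a proper invariant supplement containing `Φ`. -/
theorem exists_invariant_supplement [Finite G] [Finite A] {p : ℕ} [hp : Fact p.Prime]
    (hG : IsPGroup p G)
    (hcop : (Nat.card A).Coprime (Nat.card G)) {L : Subgroup G} (hL : frattini G < L)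
    (hLA : ∀ a : A, ∀ x ∈ L, a • x ∈ L) :
    ∃ W : Subgroup G, W ≠ ⊤ ∧ (∀ a : A, ∀ x ∈ W, a • x ∈ W) ∧ L ⊔ W = ⊤ := by
  set F := frattini G with hF
  have hpow : ∀ x : G, x ^ p ∈ F := PGroupsBasic.pow_mem_frattini hG
  have hcomm : _root_.commutator G ≤ F := PGroupsBasic.commutator_le_frattini hG
  -- a complement modulo `F`
  obtain ⟨W₀, hW₀⟩ := (Set.toFinite {K : Subgroup G | F ≤ K ∧ L ⊓ K ≤ F}).exists_maximal
    ⟨F, le_rfl, inf_le_right⟩
  have hW₀n : W₀.Normal := PGroupsBasic.normal_of_commutator_le (hcomm.trans hW₀.1.1)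
  have hLn : L.Normal := PGroupsBasic.normal_of_commutator_le (hcomm.trans hL.le)
  have htop : L ⊔ W₀ = ⊤ := by
    by_contra hne
    obtain ⟨x, -, hx⟩ := SetLike.exists_of_lt (lt_top_iff_ne_top.2 hne)
    have h' : L ⊓ (W₀ ⊔ Subgroup.zpowers x) ≤ F := by
      rintro y ⟨hyL, hy⟩
      replace hy : y ∈ ((W₀ ⊔ Subgroup.zpowers x : Subgroup G) : Set G) := hy
      rw [Subgroup.normal_mul] at hy
      obtain ⟨w, hw, z, ⟨i, rfl⟩, rfl⟩ := hy
      have hxi : x ^ i ∈ L ⊔ W₀ := by
        have := mul_mem (Subgroup.mem_sup_right (S := L) (W₀.inv_mem hw))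
          (Subgroup.mem_sup_left (T := W₀) hyL)
        simpa using this
      by_cases hd : (p : ℤ) ∣ i
      · obtain ⟨j, rfl⟩ := hd
        refine hW₀.1.2 ⟨hyL, W₀.mul_mem hw (hW₀.1.1 ?_)⟩
        change x ^ ((p : ℤ) * j) ∈ F
        rw [zpow_mul, zpow_natCast]
        exact zpow_mem (hpow x) j
      · exfalso
        apply hx
        have hxp : x ^ (p : ℤ) ∈ L ⊔ W₀ := by
          rw [zpow_natCast]
          exact Subgroup.mem_sup_left (hL.le (hpow x))
        obtain ⟨u, v, huv⟩ := ((Nat.prime_iff_prime_int.1 hp.out).coprime_iff_not_dvd.2 hd)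
        have : x = (x ^ (p : ℤ)) ^ u * (x ^ i) ^ v := by
          rw [← zpow_mul, ← zpow_mul, ← zpow_add, mul_comm _ u, mul_comm i v, huv, zpow_one]
        rw [this]
        exact mul_mem (zpow_mem hxp u) (zpow_mem hxi v)
    have hle : W₀ ≤ W₀ ⊔ Subgroup.zpowers x := le_sup_left
    exact hx (Subgroup.mem_sup_right
      (hW₀.2 ⟨hW₀.1.1.trans hle, h'⟩ hle (Subgroup.mem_sup_right (Subgroup.mem_zpowers x))))
  -- average it in `G ⧸ F`
  set π := QuotientGroup.mk' F
  have hπs : Function.Surjective π := QuotientGroup.mk'_surjective F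
  have hmap : ∀ a : A, F.map (MulDistribMulAction.toMulAut A G a).toMonoidHom = F := fun a =>
    le_antisymm (by rintro _ ⟨x, hx, rfl⟩; exact invariant_frattini a x hx)
      (fun x hx => ⟨a⁻¹ • x, invariant_frattini a⁻¹ x hx, smul_inv_smul a x⟩)
  let φ : A →* MulAut (G ⧸ F) :=
    { toFun := fun a => QuotientGroup.congr F F (MulDistribMulAction.toMulAut A G a) (hmap a)
      map_one' := by
        ext q
        induction q using QuotientGroup.induction_on with
        | H z => exact congrArg _ (one_smul A z)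
      map_mul' := fun a b => by
        ext q
        induction q using QuotientGroup.induction_on with
        | H z => exact congrArg _ (mul_smul a b z) }
  have := finite_semidirect φ
  set B := baseSubgroup φ
  have hBcomm : IsMulCommutative B := by
    refine ⟨⟨?_⟩⟩
    rintro ⟨_, u, rfl⟩ ⟨_, v, rfl⟩
    apply Subtype.ext
    change SemidirectProduct.inl u * SemidirectProduct.inl v =
      SemidirectProduct.inl v * SemidirectProduct.inl u
    rw [← map_mul, ← map_mul]
    congr 1
    induction u using QuotientGroup.induction_on with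
    | H x =>
      induction v using QuotientGroup.induction_on with
      | H y =>
        rw [← QuotientGroup.mk_mul, ← QuotientGroup.mk_mul, QuotientGroup.eq]
        have h1 : ⁅y⁻¹, x⁻¹⁆ ∈ F :=
          hcomm (Subgroup.commutator_mem_commutator (Subgroup.mem_top _) (Subgroup.mem_top _))
        simpa [commutatorElement_def, mul_assoc] using h1
  set L' := (L.map π).map (SemidirectProduct.inl : G ⧸ F →* (G ⧸ F) ⋊[φ] A) with hL'
  set W' := (W₀.map π).map (SemidirectProduct.inl : G ⧸ F →* (G ⧸ F) ⋊[φ] A) with hW'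
  have hcopB : (Nat.card (actSubgroup φ)).Coprime (Nat.card L') := by
    rw [card_actSubgroup]
    exact hcop.coprime_dvd_right (((Subgroup.card_map_dvd _ _).trans (Subgroup.card_map_dvd _ _)).trans
      (Subgroup.card_subgroup_dvd_card L))
  obtain ⟨U, hUB, hUA, hUL, hULB⟩ := CoprimeAction.exists_invariant_complement
    (A := actSubgroup φ) (V := B) (U := L') (W := W') (act_le_normalizer_base φ) hcopB
    (map_inl_le_base φ _) ((act_le_normalizer_map_iff φ _).2 (by
      rintro a _ ⟨x, hx, rfl⟩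
      exact ⟨a • x, hLA a x hx, rfl⟩))
    (map_inl_le_base φ _)
    (by
      rw [hL', hW', ← Subgroup.map_inf _ _ _ SemidirectProduct.inl_injective]
      refine (Subgroup.map_eq_bot_iff_of_injective _ SemidirectProduct.inl_injective).2 ?_
      rw [eq_bot_iff]
      rintro _ ⟨⟨x, hx, rfl⟩, ⟨y, hy, hyx⟩⟩
      have h1 : y⁻¹ * x ∈ F := QuotientGroup.eq.1 hyx
      have h2 : y ∈ L := by
        have := L.mul_mem hx (L.inv_mem (hL.le h1))
        simpa [mul_assoc] using this
      rw [Subgroup.mem_bot, ← hyx]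
      exact (QuotientGroup.eq_one_iff y).2 (hW₀.1.2 ⟨h2, hy⟩))
    (by
      rw [hL', hW', ← Subgroup.map_sup, ← Subgroup.map_sup, htop,
        Subgroup.map_top_of_surjective π hπs, ← MonoidHom.range_eq_map]
      rfl)
  set Wq := U.comap (SemidirectProduct.inl : G ⧸ F →* (G ⧸ F) ⋊[φ] A) with hWq
  have hmapU : Wq.map (SemidirectProduct.inl : G ⧸ F →* (G ⧸ F) ⋊[φ] A) = U :=
    Subgroup.map_comap_eq_self hUB
  refine ⟨Wq.comap π, ?_, ?_, ?_⟩
  · intro h
    have h1 : Wq = ⊤ := Subgroup.comap_injective hπs (h.trans (Subgroup.comap_top π).symm)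
    have h2 : L' ≤ U := by
      refine (map_inl_le_base φ _).trans ?_
      rw [← hmapU, h1, ← MonoidHom.range_eq_map]
      rfl
    rw [inf_eq_left.2 h2, hL', Subgroup.map_eq_bot_iff_of_injective _ SemidirectProduct.inl_injective,
      Subgroup.map_eq_bot_iff, QuotientGroup.ker_mk'] at hUL
    exact hL.not_ge hUL
  · intro a x hx
    exact (act_le_normalizer_map_iff φ Wq).1 (hmapU ▸ hUA) a (π x) hx
  · rw [eq_top_iff]
    intro x _
    have h1 : SemidirectProduct.inl (π x) ∈ ((L.map π) ⊔ Wq).map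
        (SemidirectProduct.inl : G ⧸ F →* (G ⧸ F) ⋊[φ] A) := by
      rw [Subgroup.map_sup, hmapU, hULB]
      exact ⟨π x, rfl⟩
    obtain ⟨z, hz, hzx⟩ := h1
    rw [SemidirectProduct.inl_injective hzx] at hz
    have h2 : x ∈ ((L.map π) ⊔ Wq).comap π := hz
    rwa [← Subgroup.comap_sup_eq π _ _ hπs, Subgroup.comap_map_eq, QuotientGroup.ker_mk',
      sup_eq_left.2 hL.le] at h2

end

/-- Let the finite group A act by automorphisms on the finite group G with the orders of A and G coprime, and assume that A or G is solvable. Call a proper A-invariant subgroup of G maximal A-invariant when no A-invariant subgroup lies strictly between it and G. Then all maximal A-invariant subgroups of G are conjugate under elements of the fixed-point subgroup C_G(A) if and only if G is a p-group for some prime p and A leaves invariant no subgroup strictly between the Frattini subgroup of G and G. In that case, if G is nontrivial, the Frattini subgroup is the only maximal A-invariant subgroup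 (a trivial G has none). -/
theorem result {A G : Type*} [Group A] [Finite A]
    [Group G] [Finite G] [MulDistribMulAction A G] (hcop : (Nat.card A).Coprime (Nat.card G)) (hsol : Group.IsSolvable A ∨ Group.IsSolvable G) :
    ((∀ M N : Subgroup G, (M ≠ ⊤ ∧ (∀ a : A, ∀ x ∈ M, a • x ∈ M) ∧ ∀ L : Subgroup G, M < L → (∀ a : A, ∀ x ∈ L, a • x ∈ L) → L = ⊤) → (N ≠ ⊤ ∧ (∀ a : A, ∀ x ∈ N, a • x ∈ N) ∧ ∀ L : Subgroup G, N < L → (∀ a : A, ∀ x ∈ L, a • x ∈ L) → L = ⊤) →
        ∃ c : G, (∀ a : A, a • c = c) ∧ N = MulAut.conj c • M) ↔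
      ((∃ p : ℕ, p.Prime ∧ IsPGroup p G) ∧ ∀ L : Subgroup G, frattini G < L → (∀ a : A, ∀ x ∈ L, a • x ∈ L) → L = ⊤)) ∧
    (((∃ p : ℕ, p.Prime ∧ IsPGroup p G) ∧ ∀ L : Subgroup G, frattini G < L → (∀ a : A, ∀ x ∈ L, a • x ∈ L) → L = ⊤) →
      ∀ M : Subgroup G, (M ≠ ⊤ ∧ (∀ a : A, ∀ x ∈ M, a • x ∈ M) ∧ ∀ L : Subgroup G, M < L → (∀ a : A, ∀ x ∈ L, a • x ∈ L) → L = ⊤) ↔ (M = frattini G ∧ M ≠ ⊤)) := by
  constructor
  swap
  · rintro ⟨-, hR⟩ M
    constructor
    · intro hM
      exact ⟨maxInv_unique hR hM, hM.1⟩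
    · rintro ⟨rfl, hne⟩
      exact ⟨hne, invariant_frattini, hR⟩
  constructor
  · intro hconj
    -- `G` is a `p`-group
    have hpg : ∃ p : ℕ, p.Prime ∧ IsPGroup p G := by
      by_cases hone : Nat.card G = 1
      · exact ⟨2, Nat.prime_two, fun g => ⟨0, by
          rw [pow_zero, pow_one]
          have := (Nat.card_eq_one_iff_unique.1 hone).1
          exact Subsingleton.elim _ _⟩⟩
      obtain ⟨p, hp, hpd⟩ := Nat.exists_prime_and_dvd hone
      refine ⟨p, hp, ?_⟩
      by_contra hnp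
      let φ : A →* MulAut G := MulDistribMulAction.toMulAut A G
      have hsyl : ∀ (q : ℕ), q.Prime → ∃ P : Subgroup G, (∀ a : A, ∀ x ∈ P, a • x ∈ P) ∧
          Nat.card P = q ^ (Nat.card G).factorization q ∧ P ≠ ⊤ := by
        intro q hq
        have := Fact.mk hq
        obtain ⟨P, hP⟩ := CoprimeActionAut.exists_invariant_sylow φ hcop hsol q
        refine ⟨P, hP, P.card_eq_multiplicity, fun h => hnp ?_⟩
        have hc : Nat.card G = q ^ (Nat.card G).factorization q := by
          rw [← P.card_eq_multiplicity, h, Subgroup.card_top]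
        have hpq : p = q := (Nat.prime_dvd_prime_iff_eq hp hq).1
          (hp.dvd_of_dvd_pow (hc ▸ hpd))
        subst hpq
        exact IsPGroup.of_card hc
      obtain ⟨P, hP, hPc, hPt⟩ := hsyl p hp
      obtain ⟨M, hM, -⟩ := exists_maxInv_ge hPt hP
      have hdvd : Nat.card G ∣ Nat.card M := by
        rw [← Nat.factorization_le_iff_dvd Nat.card_pos.ne' Nat.card_pos.ne']
        intro q
        by_cases hq : q.Prime
        swap
        · simp [Nat.factorization_eq_zero_of_not_prime _ hq]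
        obtain ⟨Q, hQ, hQc, hQt⟩ := hsyl q hq
        obtain ⟨N, hN, hQN⟩ := exists_maxInv_ge hQt hQ
        obtain ⟨c, -, rfl⟩ := hconj M N hM hN
        have h1 := Subgroup.card_dvd_of_le hQN
        rw [hQc, card_conj_smul] at h1
        exact (Nat.Prime.pow_dvd_iff_le_factorization hq Nat.card_pos.ne').1 h1
      exact hM.1 (Subgroup.eq_top_of_le_card M (Nat.le_of_dvd Nat.card_pos hdvd))
    refine ⟨hpg, fun L hL hLA => ?_⟩
    obtain ⟨p, hp, hG⟩ := hpg
    have := Fact.mk hp
    by_contra hne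
    obtain ⟨W, hW, hWA, hLW⟩ := exists_invariant_supplement hG hcop hL hLA
    obtain ⟨M, hM, hLM⟩ := exists_maxInv_ge hne hLA
    obtain ⟨N, hN, hWN⟩ := exists_maxInv_ge hW hWA
    obtain ⟨c, -, rfl⟩ := hconj M N hM hN
    have hMn : M.Normal := PGroupsBasic.normal_of_commutator_le
      ((PGroupsBasic.commutator_le_frattini hG).trans (frattini_le_maxInv hM))
    rw [conj_smul_eq_self (by rw [Subgroup.normalizer_eq_top_iff.2 hMn]; trivial)] at hWN
    exact hM.1 (top_unique (hLW ▸ sup_le hLM hWN))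
  · rintro ⟨-, hR⟩ M N hM hN
    refine ⟨1, fun a => smul_one a, ?_⟩
    rw [map_one, one_smul, maxInv_unique hR hM, maxInv_unique hR hN]

end Cfsg.Agent.S4381
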