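import Cfsg.Statements.S4385
import Cfsg.Agent.Lib.DihedralPushingUpMain

set_option autoImplicit false
open Pointwise
open Cfsg

namespace Cfsg.Agent.S4385

/-- Let H be a subgroup of a finite group G whose largest normal 2-subgroup O_2(H) is nontrivial and such that H/O_2(H) is a dihedral group of order at least 4. Let P be a Sylow 2-subgroup of H and S a Sylow 2-subgroup of G containing P. Suppose y ∈ S lies outside P, normalizes P, has y² in the product of P with the centralizer of P in G, and normalizes no non-identity normal subgroup of H contained in P. Then P has order 4, 8 or 16, and H modulo its largest normal subgroup of odd order is isomorphic to the four-group, to the symmetric group of degree 4, or to the direct product of the symmetric group of degree 4 with a group of order 2. -/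
theorem result {G : Type*} [Group G] [Finite G]
    (H : Subgroup G) (hO : Cfsg.pCore 2 ↥H ≠ ⊥) (n : ℕ) (hn : 2 ≤ n) (hdih : Nonempty (↥H ⧸ Cfsg.pCore 2 ↥H ≃* DihedralGroup n))
    (P : Subgroup G) (hPH : P ≤ H) (hP : IsPGroup 2 P) (hPsyl : ¬ 2 ∣ P.relIndex H)
    (S : Sylow 2 G) (hPS : P ≤ (S : Subgroup G)) (y : G) (hyS : y ∈ (S : Subgroup G)) (hyP : y ∉ P)
    (hy2 : y ^ 2 ∈ P ⊔ Subgroup.centralizer (P : Set G)) (hyN : MulAut.conj y • P = P)
    (hyQ : ∀ Q : Subgroup G, Q ≤ P → (Q.subgroupOf H).Normal → MulAut.conj y • Q = Q → Q = ⊥) :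
    (Nat.card P = 4 ∨ Nat.card P = 8 ∨ Nat.card P = 16) ∧
    (Nonempty (↥H ⧸ Cfsg.oddCore ↥H ≃* Multiplicative (ZMod 2) × Multiplicative (ZMod 2)) ∨
     Nonempty (↥H ⧸ Cfsg.oddCore ↥H ≃* Equiv.Perm (Fin 4)) ∨
     Nonempty (↥H ⧸ Cfsg.oddCore ↥H ≃* Equiv.Perm (Fin 4) × Multiplicative (ZMod 2))) := by
  refine Cfsg.Agent.DihedralPushingUpMain.pushing_up H P y hO n hn hdih hPH hP hPsyl hyN ?_
  intro N hNP hN hM
  set M := N.map (MulAut.conj y).toMonoidHom with hMdef
  have hMeq : ∀ L : Subgroup G, MulAut.conj y • L = L.map (MulAut.conj y).toMonoidHom := fun L => rfl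
  obtain ⟨p, hp, c, hc, hy2'⟩ : ∃ p ∈ P, ∃ c ∈ Subgroup.centralizer (P : Set G), y ^ 2 = p * c := by
    have h1 : y ^ 2 ∈ (↑(P ⊔ Subgroup.centralizer (P : Set G)) : Set G) := hy2
    rw [Subgroup.coe_mul_of_right_le_normalizer_left] at h1
    · obtain ⟨p, hp, c, hc, h⟩ := h1
      exact ⟨p, hp, c, hc, h.symm⟩
    · intro c hc
      rw [Subgroup.mem_normalizer_iff]
      intro u
      constructor
      · intro hu
        rw [← Subgroup.mem_centralizer_iff.1 hc u hu, mul_inv_cancel_right]
        exact hu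
      · intro hu
        have h2 := Subgroup.mem_centralizer_iff.1 hc _ hu
        have h3 : c⁻¹ * (c * u * c⁻¹) * c = u := by group
        rw [← h3, mul_assoc, h2, inv_mul_cancel_left]
        exact hu
  have hyy : M.map (MulAut.conj y).toMonoidHom ≤ N := by
    rintro _ ⟨_, ⟨u, hu, rfl⟩, rfl⟩
    have h1 : y * (y * u * y⁻¹) * y⁻¹ = p * (c * u * c⁻¹) * p⁻¹ := by
      calc y * (y * u * y⁻¹) * y⁻¹ = y ^ 2 * u * (y ^ 2)⁻¹ := by rw [pow_two]; group
        _ = _ := by rw [hy2']; group
    have h2 : c * u * c⁻¹ = u := by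
      rw [← Subgroup.mem_centralizer_iff.1 hc u (hNP hu), mul_inv_cancel_right]
    simp only [MulEquiv.coe_toMonoidHom, MulAut.conj_apply]
    rw [h1, h2]
    exact (Subgroup.mem_normalizer_iff.1 (hN (hPH hp)) u).1 hu
  have hMP : M ≤ P := fun z hz => by
    rw [← hyN, hMeq]
    exact Subgroup.map_mono hNP hz
  have hJ : N ⊔ M = ⊥ := by
    refine hyQ _ (sup_le hNP hMP) ?_ ?_
    · exact (Subgroup.normal_subgroupOf_iff_le_normalizer ((sup_le hNP hMP).trans hPH)).2
        (fun k hk => Subgroup.mem_normalizer_fintype fun u hu => by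
          have h : (N ⊔ M).map (MulAut.conj k).toMonoidHom ≤ N ⊔ M := by
            rw [Subgroup.map_sup]
            refine sup_le_sup ?_ ?_
            · rintro _ ⟨v, hv, rfl⟩
              exact (Subgroup.mem_normalizer_iff.1 (hN hk) v).1 hv
            · rintro _ ⟨v, hv, rfl⟩
              exact (Subgroup.mem_normalizer_iff.1 (hM hk) v).1 hv
          exact h ⟨u, hu, rfl⟩)
    · rw [hMeq]
      refine Subgroup.eq_of_le_of_card_ge ?_ (le_of_eq (Nat.card_congr
        (Subgroup.equivMapOfInjective _ _ (MulAut.conj y).injective).toEquiv))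
      rw [Subgroup.map_sup]
      exact sup_le le_sup_right (hyy.trans le_sup_left)
  exact le_bot_iff.1 (hJ ▸ le_sup_left)

end Cfsg.Agent.S4385
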