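import Cfsg.Statements.S4387
import Mathlib

set_option autoImplicit false
open Pointwise
open Cfsg

namespace Cfsg.Agent.S4387

theorem eq_top_of_covered {G : Type*} [Group G] [Finite G] (M : Subgroup G)
    (h : ∀ g : G, ∃ x : G, x⁻¹ * g * x ∈ M) : M = ⊤ := by
  classical
  haveI := Fintype.ofFinite G
  by_contra hne
  -- count pairs (coset of M, non-identity element of M)
  have hsurj : ∀ g : {g : G // g ≠ 1}, ∃ p : (G ⧸ M) × {m : M // m ≠ 1},
      p.1.out * (p.2.1 : G) * p.1.out⁻¹ = g.1 := by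
    intro g
    obtain ⟨x, hx⟩ := h g.1
    obtain ⟨m, hm⟩ : ∃ m : M, (QuotientGroup.mk x : G ⧸ M).out = x * m := QuotientGroup.mk_out_eq_mul M x
    refine ⟨(QuotientGroup.mk x, ⟨m⁻¹ * ⟨_, hx⟩ * m, fun e => g.2 ?_⟩), ?_⟩
    · have := congrArg (fun y : M => x * m * (y : G) * (x * m)⁻¹) e
      simpa [mul_assoc] using this
    · simp [hm, mul_assoc]
  have h1 : Nat.card {g : G // g ≠ 1} ≤ Nat.card ((G ⧸ M) × {m : M // m ≠ 1}) := by
    choose f hf using hsurj
    exact Nat.card_le_card_of_injective f fun a b e => Subtype.ext (by rw [← hf a, ← hf b, e])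
  rw [Nat.card_prod, ← Subgroup.index_eq_card] at h1
  simp only [Nat.card_eq_fintype_card] at h1
  rw [Fintype.card_subtype_compl, Fintype.card_subtype_compl, Fintype.card_subtype_eq,
    Fintype.card_subtype_eq] at h1
  simp only [← Nat.card_eq_fintype_card] at h1
  have h2 := M.card_mul_index
  have h3 : 2 ≤ M.index := by
    have := Subgroup.index_ne_zero_of_finite (H := M)
    have := Subgroup.index_eq_one.not.mpr hne
    omega
  rw [Nat.mul_sub, mul_one, mul_comm M.index, h2] at h1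
  have h4 : 1 ≤ Nat.card M := Nat.card_pos
  have h5 : M.index ≤ Nat.card G := h2 ▸ Nat.le_mul_of_pos_left _ h4
  omega

theorem exists_coatom_index {G : Type*} [Group G] [Finite G] (hc : IsCyclic G) {p : ℕ}
    (hp : p.Prime) (hd : p ∣ Nat.card G) : ∃ M : Subgroup G, IsCoatom M ∧ M.index = p := by
  obtain ⟨g, hg⟩ := IsCyclic.exists_ofOrder_eq_natCard (α := G)
  refine ⟨Subgroup.zpowers (g ^ p), ?_⟩
  have h1 : Nat.card (Subgroup.zpowers (g ^ p)) * p = Nat.card G := by
    rw [Nat.card_zpowers, orderOf_pow_of_dvd hp.ne_zero (hg ▸ hd), hg, Nat.div_mul_cancel hd]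
  have h2 : (Subgroup.zpowers (g ^ p)).index = p := by
    have := (Subgroup.zpowers (g ^ p)).card_mul_index
    rw [← h1] at this
    exact Nat.eq_of_mul_eq_mul_left Nat.card_pos this
  refine ⟨⟨fun e => hp.ne_one ?_, fun L hL => ?_⟩, h2⟩
  · rw [← h2, e, Subgroup.index_top]
  · have h3 := Subgroup.relIndex_mul_index hL.le
    rw [h2] at h3
    rcases hp.eq_one_or_self_of_dvd L.index ⟨_, (by rw [mul_comm]; exact h3.symm)⟩ with e | e
    · exact Subgroup.index_eq_one.mp e
    · exfalso
      rw [e] at h3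
      have h4 : (Subgroup.zpowers (g ^ p)).relIndex L = 1 :=
        Nat.eq_of_mul_eq_mul_right hp.pos (by rw [h3, one_mul])
      exact absurd (Subgroup.relIndex_eq_one.mp h4) hL.not_ge


/-- Let G be a non-trivial finite group in which any two maximal subgroups are conjugate. Then G is cyclic of prime-power order. -/
theorem result {G : Type*} [Group G] [Finite G] [Nontrivial G]
    (h : ∀ M N : Subgroup G, IsCoatom M → IsCoatom N → ∃ g : G, N = MulAut.conj g • M) :
    IsCyclic G ∧ IsPrimePow (Nat.card G) := by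
  classical
  haveI := Fintype.ofFinite G
  have key : ∃ g : G, Subgroup.zpowers g = ⊤ := by
    by_contra hc
    push_neg at hc
    obtain ⟨M, hM, -⟩ := (eq_top_or_exists_le_coatom (⊥ : Subgroup G)).resolve_left bot_ne_top
    have cover : ∀ g : G, ∃ x : G, x⁻¹ * g * x ∈ M := by
      intro g
      obtain ⟨N, hN, hgN⟩ := (eq_top_or_exists_le_coatom _).resolve_left (hc g)
      obtain ⟨x, rfl⟩ := h M N hM hN
      refine ⟨x, ?_⟩
      have := hgN (Subgroup.mem_zpowers g)
      rw [Subgroup.mem_pointwise_smul_iff_inv_smul_mem] at this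
      simpa [mul_assoc] using this
    -- every element is conjugate into M: count the union of the conjugates
    exact hM.1 (eq_top_of_covered M cover)
  obtain ⟨g, hg⟩ := key
  have hcyc : IsCyclic G := ⟨⟨g, fun x => Subgroup.mem_zpowers_iff.mp (hg ▸ Subgroup.mem_top x)⟩⟩
  refine ⟨hcyc, ?_⟩
  obtain ⟨p, hp, hpd⟩ := Nat.exists_prime_and_dvd (Finite.one_lt_card (α := G)).ne'
  refine isPrimePow_iff_unique_prime_dvd.mpr ⟨p, ⟨hp, hpd⟩, fun q ⟨hq, hqd⟩ => ?_⟩
  obtain ⟨M, hM⟩ := exists_coatom_index hcyc hp hpd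
  obtain ⟨N, hN⟩ := exists_coatom_index hcyc hq hqd
  obtain ⟨x, hx⟩ := h M N hM.1 hN.1
  rw [← hN.2, ← hM.2, hx]
  letI : CommGroup G := IsCyclic.commGroup
  congr 1
  ext a
  rw [Subgroup.mem_pointwise_smul_iff_inv_smul_mem]
  simp [mul_assoc, mul_comm]

end Cfsg.Agent.S4387
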