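-- Proof of statement S4394 (a p-solvable group whose Sylow p-subgroup is of Schmidt type has p-length <= 1).
import Cfsg.Statements.S4394
import Cfsg.Agent.Lib.HallSchmidt
import Cfsg.Agent.Lib.ClassTwoPLength

set_option autoImplicit false
open Cfsg

namespace Cfsg.Agent.S4394

open Subgroup Cfsg.Agent.HallCore Cfsg.Agent.SchmidtPPart

/-- The automorphism of the normal Sylow subgroup induced by a generator of the cyclic one. -/
theorem exists_schmidt_aut {X : Type*} [Group X] [Finite X] (p : ℕ) [hp : Fact p.Prime]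
    (hX : Cfsg.IsMinimalNonNilpotent X) (P : Sylow p X) (hPn : (P : Subgroup X).Normal)
    (hP1 : (P : Subgroup X) ≠ ⊥) :
    ∃ (q : ℕ) (φ : MulAut ↥(P : Subgroup X)), q.Prime ∧ q ≠ p ∧ φ ^ q = 1 ∧ φ ≠ 1 ∧
      ∀ M : Subgroup ↥(P : Subgroup X), M ≠ ⊤ → (∀ x ∈ M, φ x ∈ M) → ∀ x ∈ M, φ x = x := by
  obtain ⟨q, r, hq, hr, hqr, C, Q, hC, hQn, htop, hCn⟩ :=
    HallSchmidt.structure_minimalNonNilpotent hX
  have := Fact.mk hq
  have := Fact.mk hr
  have hqp : q ≠ p := by
    rintro rfl
    letI := Sylow.unique_of_normal P hPn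
    exact hCn (Subsingleton.elim P C ▸ hPn)
  have hrp : r = p := by
    by_contra hne
    refine hP1 (Subgroup.card_eq_one.mp ?_)
    have hd : Nat.card (P : Subgroup X) ∣ Nat.card (C : Subgroup X) * Nat.card (Q : Subgroup X) := by
      refine (Subgroup.card_subgroup_dvd_card _).trans ?_
      haveI := hQn
      rw [← Subgroup.card_top, ← htop, sup_comm,
        ← Cfsg.Agent.HallCore.card_mul_relIndex (le_sup_left : (Q : Subgroup X) ≤ _)]
      rw [mul_comm (Nat.card (C : Subgroup X))]
      refine mul_dvd_mul_left _ ?_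
      rw [Subgroup.relIndex_sup_left]
      exact Subgroup.relIndex_dvd_card _ _
    refine Nat.eq_one_of_dvd_coprimes (Nat.Coprime.mul_right ?_ ?_) dvd_rfl hd
    · rw [P.card_eq_multiplicity, C.card_eq_multiplicity]
      exact ((Nat.coprime_primes hp.out hq).mpr (Ne.symm hqp)).pow _ _
    · rw [P.card_eq_multiplicity, Q.card_eq_multiplicity]
      exact ((Nat.coprime_primes hp.out hr).mpr (Ne.symm hne)).pow _ _
  subst hrp
  letI := Sylow.unique_of_normal P hPn
  obtain rfl : Q = P := Subsingleton.elim _ _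
  haveI := hPn
  obtain ⟨y, hy⟩ := (Subgroup.isCyclic_iff_exists_zpowers_eq_top (C : Subgroup X)).mp hC
  have hcop : (Nat.card (C : Subgroup X)).Coprime (Nat.card (Q : Subgroup X)) := by
    rw [C.card_eq_multiplicity, Q.card_eq_multiplicity]
    exact ((Nat.coprime_primes hq hr).mpr hqp).pow _ _
  have hinf : (C : Subgroup X) ⊓ (Q : Subgroup X) = ⊥ :=
    disjoint_iff.mp (Subgroup.disjoint_of_coprime_natCard hcop)
  have hy1 : y ≠ 1 := by
    rintro rfl
    rw [zpowers_one_eq_bot] at hy
    exact hCn (hy ▸ inferInstance)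
  let φ : MulAut ↥(Q : Subgroup X) := MulAut.conjNormal y
  have hcomm : ∀ {x : X}, zpowers x ≤ (C : Subgroup X) → zpowers x ⊔ (Q : Subgroup X) ≠ ⊤ →
      ∀ v : ↥(Q : Subgroup X), x * v * x⁻¹ = v := by
    intro x hx hne v
    have h := HallSchmidt.le_centralizer_of_nilpotent (hX.2 _ hne) (A := zpowers x)
      (B := (Q : Subgroup X)) le_sup_left le_sup_right
      (hcop.coprime_dvd_left (Subgroup.card_dvd_of_le hx)) (mem_zpowers x)
    rw [← mem_centralizer_iff.mp h v v.2, mul_inv_cancel_right]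
  refine ⟨q, φ, hq, hqp, ?_, ?_, ?_⟩
  · refine MulEquiv.ext fun v => Subtype.ext ?_
    show (((MulAut.conjNormal y : MulAut ↥(Q : Subgroup X)) ^ q) v : X) = _
    rw [← map_pow, MulAut.conjNormal_apply, MulAut.one_apply]
    refine hcomm (hy ▸ zpowers_le.mpr (pow_mem (mem_zpowers y) q)) (fun hne => hy1 ?_) v
    obtain ⟨a, ha, b, hb, hab⟩ := mem_sup_of_normal_right.mp
      (hne.ge (mem_top y) : y ∈ zpowers (y ^ q) ⊔ (Q : Subgroup X))
    have hb1 : b = 1 := by
      rw [← Subgroup.mem_bot, ← hinf]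
      refine Subgroup.mem_inf.mpr ⟨?_, hb⟩
      rw [show b = a⁻¹ * y by rw [← hab, inv_mul_cancel_left], ← hy]
      exact mul_mem (inv_mem (zpowers_le.mpr (pow_mem (mem_zpowers y) q) ha)) (mem_zpowers y)
    rw [hb1, mul_one] at hab
    subst hab
    obtain ⟨k, hk⟩ := IsPGroup.iff_orderOf.mp C.2 ⟨a, hy ▸ mem_zpowers a⟩
    rw [← Subgroup.orderOf_coe] at hk
    have hle : orderOf a ≤ orderOf (a ^ q) := by
      rw [← Nat.card_zpowers, ← Nat.card_zpowers]
      exact Subgroup.card_le_of_le (zpowers_le.mpr ha)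
    rcases Nat.eq_zero_or_pos k with rfl | hk0
    · exact orderOf_eq_one_iff.mp hk
    · exfalso
      rw [orderOf_pow' a hq.ne_zero, hk,
        Nat.gcd_eq_right (dvd_pow_self q (by omega))] at hle
      exact absurd hle (not_le.mpr (Nat.div_lt_self (pow_pos hq.pos k) hq.one_lt))
  · intro hφ
    refine hCn (normalizer_eq_top_iff.mp (top_le_iff.mp (htop.ge.trans (sup_le le_normalizer ?_))))
    intro v hv
    have hc : Commute y v := by
      have h := congrArg Subtype.val (DFunLike.congr_fun hφ ⟨v, hv⟩)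
      rw [MulAut.conjNormal_apply, MulAut.one_apply] at h
      exact mul_inv_eq_iff_eq_mul.mp h
    refine centralizer_le_normalizer _ (mem_centralizer_iff.mpr fun c hc' => ?_)
    rw [← hy] at hc'
    obtain ⟨n, rfl⟩ := hc'
    exact (hc.zpow_left n).eq
  · intro M hM hMi x hx
    set M' := M.map (Q : Subgroup X).subtype with hM'
    have hyM : y ∈ normalizer (M' : Set X) := by
      have hm : M'.map (MulAut.conj y).toMonoidHom = M' := by
        refine eq_of_le_of_card_ge ?_ (le_of_eq
          (card_map_of_injective (MulAut.conj y).injective).symm)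
        rintro _ ⟨_, ⟨z, hz, rfl⟩, rfl⟩
        exact ⟨φ z, hMi z hz, MulAut.conjNormal_apply y z⟩
      exact Cfsg.Agent.CoprimeAction.mem_normalizer_of_conj_smul_eq hm
    have hne : zpowers y ⊔ M' ≠ ⊤ := by
      intro h
      have hn : M'.Normal := normalizer_eq_top_iff.mp (top_le_iff.mp
        (h.ge.trans (sup_le (zpowers_le.mpr hyM) le_normalizer)))
      refine hM (eq_top_iff.mpr fun v _ => ?_)
      obtain ⟨a, ha, b, ⟨b', hb', rfl⟩, hab⟩ := mem_sup_of_normal_right.mp
        (h.ge (mem_top (v : X)) : (v : X) ∈ zpowers y ⊔ M')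
      have ha1 : a = 1 := by
        rw [← Subgroup.mem_bot, ← hinf]
        refine Subgroup.mem_inf.mpr ⟨hy ▸ ha, ?_⟩
        rw [show a = (v : X) * (b' : X)⁻¹ by rw [← hab]; simp]
        exact mul_mem v.2 (inv_mem b'.2)
      rw [ha1, one_mul] at hab
      rwa [← Subtype.ext hab] 
    have h := HallSchmidt.le_centralizer_of_nilpotent (hX.2 _ hne) (A := zpowers y) (B := M')
      le_sup_left le_sup_right
      ((hcop.coprime_dvd_left (hy ▸ dvd_rfl)).coprime_dvd_right
        (Subgroup.card_dvd_of_le (map_subtype_le M))) (mem_zpowers y)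
    apply Subtype.ext
    show (MulAut.conjNormal y x : X) = x
    rw [MulAut.conjNormal_apply, ← mem_centralizer_iff.mp h x ⟨x, hx, rfl⟩, mul_inv_cancel_right]

/-- Let X be a finite minimal non-nilpotent group (not nilpotent, every proper subgroup nilpotent) with a nontrivial normal Sylow p-subgroup P. If G is a finite p-solvable group whose Sylow p-subgroups are isomorphic to P, then G has p-length at most 1. -/
theorem result {G X : Type*} [Group G] [Finite G] [Group X] [Finite X] (p : ℕ) [Fact p.Prime]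
    (hX : Cfsg.IsMinimalNonNilpotent X) (P : Sylow p X) (hPn : (P : Subgroup X).Normal) (hP1 : (P : Subgroup X) ≠ ⊥)
    (hG : Cfsg.IsPSolvable p G) (Q : Sylow p G) (hQ : Nonempty (↥(Q : Subgroup G) ≃* ↥(P : Subgroup X))) : Cfsg.PLengthLE p 1 G := by
  obtain ⟨e⟩ := hQ
  set N := Cfsg.pPrimeCore p G with hN
  haveI : N.Normal := pPrimeCore_normal p G
  set π := QuotientGroup.mk' N with hπ
  let S : Sylow p (G ⧸ N) := Q.mapSurjective (QuotientGroup.mk'_surjective N)
  have hSc : (S : Subgroup (G ⧸ N)) = (Q : Subgroup G).map π := rfl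
  have hinj : Function.Injective (π.subgroupMap (Q : Subgroup G)) := by
    rw [← MonoidHom.ker_eq_bot_iff, eq_bot_iff]
    rintro ⟨x, hx⟩ h
    have hxN : x ∈ N := (QuotientGroup.eq_one_iff x).mp (congrArg Subtype.val h)
    obtain ⟨k, hk⟩ := IsPGroup.iff_orderOf.mp Q.2 ⟨x, hx⟩
    rw [← Subgroup.orderOf_coe] at hk
    have h1 : orderOf x = 1 := Nat.eq_one_of_dvd_coprimes
      ((coprime_card_pPrimeCore p G).pow_right k) (Subgroup.orderOf_dvd_natCard N hxN) hk.dvd
    exact Subgroup.mem_bot.mpr (Subtype.ext (orderOf_eq_one_iff.mp h1))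
  let e' : ↥(S : Subgroup (G ⧸ N)) ≃* ↥(P : Subgroup X) :=
    (MulEquiv.ofBijective _ ⟨hinj, π.subgroupMap_surjective (Q : Subgroup G)⟩).symm.trans e
  obtain ⟨q, φ, hq, hqp, hpow, hne, hfix⟩ := exists_schmidt_aut p hX P hPn hP1
  have := Fact.mk hq
  have hprops : (∀ a b : ↥(S : Subgroup (G ⧸ N)), a * b = b * a) ∨
      SpecialProps p ↥(S : Subgroup (G ⧸ N)) := by
    refine (em _).imp_right fun hna => ?_
    refine specialProps S.2 (MulAut.congr e'.symm φ) ?_ ?_ hqp ?_ hna
    · rw [← map_pow, hpow, map_one]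
    · exact fun h => hne ((MulAut.congr e'.symm).injective (by rw [h, map_one]))
    · intro M hM hi x hx
      have h1 : M.map e'.toMonoidHom ≠ ⊤ := fun h => hM (Subgroup.map_injective
        (f := e'.toMonoidHom) e'.injective (h.trans (Subgroup.map_top_of_surjective _ e'.surjective).symm))
      have h2 := hfix _ h1 (by
        rintro _ ⟨z, hz, rfl⟩
        exact ⟨_, hi z hz, e'.apply_symm_apply _⟩) _ ⟨x, hx, rfl⟩
      exact e'.injective ((e'.apply_symm_apply _).trans h2)
  have hle := ClassTwoPLength.sylow_le_pCore (HallSolvable.isPSolvable_quotient hG N)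
    (pPrimeCore_quotient_self p G) S hprops
  refine PLengthSteps.pLengthLE_one ?_
  have hQle : (Q : Subgroup G) ≤ Cfsg.pPrimePCore p G :=
    fun x hx => mem_comap.mpr (hle (hSc.ge (mem_map_of_mem π hx)))
  rw [Nat.coprime_comm, Nat.Prime.coprime_iff_not_dvd Fact.out]
  exact fun hd => Q.not_dvd_index (hd.trans (index_dvd_of_le hQle))

end Cfsg.Agent.S4394
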