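import Cfsg.Statements.S4395
import Cfsg.Agent.Lib.UniversalSchmidtModel4
import Cfsg.Agent.Lib.TransferPResidual
import Cfsg.Agent.Lib.FrobeniusNilpotent
import Cfsg.Agent.S0132

set_option autoImplicit false
universe u
open Cfsg

namespace Cfsg.Agent.S4395

open Subgroup Cfsg.Agent.UniversalSchmidt4 Cfsg.Agent.UniversalSchmidtModel4

/-- The homomorphism from a cyclic group with a given image of the generator. -/
def cyclicHom {G : Type*} [Group G] (n : ℕ) [NeZero n] (g : G) (h : g ^ n = 1) :
    Multiplicative (ZMod n) →* G :=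
  MonoidHom.mk' (fun x => g ^ x.toAdd.val) fun x y => by
    rw [← pow_add, toAdd_mul, ZMod.val_add]
    exact (pow_eq_pow_mod _ h).symm

theorem pow_fixed {G : Type*} [Group G] (σ : MulAut G) {g : G} (h : σ g = g) (n : ℕ) :
    (σ ^ n) g = g := by
  induction n with
  | zero => rfl
  | succ n ih => rw [pow_succ, MulAut.mul_apply, h, ih]

theorem card_sup_le {X : Type*} [Group X] [Finite X] (A : Subgroup X) (y : X)
    (h : y ∈ normalizer (A : Set X)) :
    Nat.card ↥(A ⊔ zpowers y) ≤ Nat.card A * orderOf y := by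
  rw [sup_comm, ← Nat.card_zpowers]
  have h2 := Set.natCard_mul_le (s := (zpowers y : Set X)) (t := (A : Set X))
  rw [← coe_mul_of_left_le_normalizer_right _ _ (zpowers_le.2 h)] at h2
  rw [mul_comm]
  exact h2

section model

variable {p q a : ℕ} [hp : Fact p.Prime] [hq : Fact q.Prime] {K : Type} [Field K]
  [Algebra (ZMod p) K] {ζ : K} {c : ℕ} [NeZero c]

theorem eq_one_of_pow_eq {D : Model p q a K ζ} {n : ℕ} (hn : q ∣ n) : D.aut ^ n = 1 := by
  obtain ⟨m, rfl⟩ := hn
  rw [pow_mul, D.act.pow, one_pow]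

theorem no_complement (hK : Gen p q a K ζ) (hqp : q ≠ p) (D : Model p q a K ζ) {r : ℕ}
    (hr : 1 ≤ r) (hc : c = q ^ r) (h : D.aut ^ c = 1) :
    ¬ Cfsg.HasNormalPComplement p
      (D.carrier ⋊[cyclicHom c D.aut h] Multiplicative (ZMod c)) := by
  intro hG
  set ρ := cyclicHom c D.aut h
  haveI : Finite (D.carrier ⋊[ρ] Multiplicative (ZMod c)) :=
    Finite.of_equiv _ SemidirectProduct.equivProd.symm
  haveI : Fact (1 < c) := ⟨hc ▸ Nat.one_lt_pow (Nat.one_le_iff_ne_zero.1 hr) hq.out.one_lt⟩
  let N : Subgroup (D.carrier ⋊[ρ] Multiplicative (ZMod c)) :=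
    (SemidirectProduct.inl : D.carrier →* _).range
  haveI : N.Normal := by
    show (SemidirectProduct.inl : D.carrier →* _).range.Normal
    rw [SemidirectProduct.range_inl_eq_ker_rightHom]
    infer_instance
  have hN : IsPGroup p N := D.act.pgroup.of_surjective _ (MonoidHom.rangeRestrict_surjective _)
  let x : D.carrier ⋊[ρ] Multiplicative (ZMod c) :=
    SemidirectProduct.inr (Multiplicative.ofAdd 1)
  have hx : x ∈ Cfsg.pResidual p _ := by
    refine TransferPResidual.mem_pResidual_of_coprime ?_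
    rw [orderOf_injective _ SemidirectProduct.inr_injective]
    refine Nat.Coprime.coprime_dvd_left
      (orderOf_dvd_natCard (Multiplicative.ofAdd (1 : ZMod c))) ?_
    rw [Nat.card_congr Multiplicative.toAdd, Nat.card_zmod, hc]
    exact Nat.Coprime.pow_left r ((Nat.coprime_primes hq.out hp.out).2 hqp)
  have hcent := TransferPResidual.le_centralizer_of_normal_pGroup hG hN hx
  refine D.act.ne (MulEquiv.ext fun g => ?_)
  have hcm : SemidirectProduct.inl g * x = x * SemidirectProduct.inl g :=
    hcent _ ⟨g, rfl⟩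
  have h1 := SemidirectProduct.inl_aut (φ := ρ) (Multiplicative.ofAdd (1 : ZMod c)) g
  rw [MulAut.one_apply]
  refine SemidirectProduct.inl_injective (φ := ρ) ?_
  have hρ : ρ (Multiplicative.ofAdd (1 : ZMod c)) = D.aut := by
    show D.aut ^ (1 : ZMod c).val = D.aut
    rw [ZMod.val_one, pow_one]
  rw [hρ] at h1
  rw [h1, map_inv]
  show x * _ * x⁻¹ = _
  rw [← hcm, mul_inv_cancel_right]

theorem proper_nilpotent (hK : Gen p q a K ζ) (hqp : q ≠ p) (D : Model p q a K ζ) {r : ℕ}
    (hr : 1 ≤ r) (hc : c = q ^ r) (h : D.aut ^ c = 1)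
    (H : Subgroup (D.carrier ⋊[cyclicHom c D.aut h] Multiplicative (ZMod c))) (hH : H ≠ ⊤) :
    Group.IsNilpotent H := by
  haveI := hK.finite
  let ρ := cyclicHom c D.aut h
  haveI : Group.IsNilpotent D.carrier := D.act.pgroup.isNilpotent
  by_cases hI : ∀ g ∈ H, q ∣ g.right.toAdd.val
  · let f : H →* D.carrier × Multiplicative (ZMod c) :=
      MonoidHom.mk' (fun g => (g.1.left, g.1.right)) fun g g' => by
        have h1 : ρ g.1.right = 1 := eq_one_of_pow_eq (hI _ g.2)
        refine Prod.ext ?_ (SemidirectProduct.mul_right g.1 g'.1)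
        show g.1.left * ρ g.1.right g'.1.left = g.1.left * g'.1.left
        rw [h1, MulAut.one_apply]
    refine Subgroup.isNilpotent_of_ker_le_center f ?_
    intro g hg
    have h1 : g = 1 := Subtype.ext (SemidirectProduct.ext (congrArg Prod.fst (MonoidHom.mem_ker.1 hg))
      (congrArg Prod.snd (MonoidHom.mem_ker.1 hg)))
    rw [h1]; exact one_mem _
  · push Not at hI
    obtain ⟨k, hk, hkq⟩ := hI
    -- a power of `k` lies over the generator
    have hcop : Nat.Coprime k.right.toAdd.val c := by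
      have h1 := Nat.Coprime.pow_right r ((Nat.Prime.coprime_iff_not_dvd hq.out).2 hkq).symm
      rwa [← hc] at h1
    haveI : Fact (1 < c) := ⟨hc ▸ Nat.one_lt_pow (Nat.one_le_iff_ne_zero.1 hr) hq.out.one_lt⟩
    have hone : ∃ k ∈ H, k.right = Multiplicative.ofAdd 1 := by
      obtain ⟨m, hm⟩ : ∃ m : ℕ, (m : ZMod c) * k.right.toAdd = 1 := by
        refine ⟨((ZMod.unitOfCoprime _ hcop)⁻¹ : (ZMod c)ˣ).val.val, ?_⟩
        rw [ZMod.natCast_zmod_val]
        conv_lhs => arg 2; rw [← ZMod.natCast_zmod_val k.right.toAdd]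
        rw [← ZMod.coe_unitOfCoprime _ hcop, Units.inv_mul]
      refine ⟨k ^ m, pow_mem hk m, ?_⟩
      rw [← SemidirectProduct.rightHom_eq_right, map_pow, SemidirectProduct.rightHom_eq_right]
      apply Multiplicative.toAdd.injective
      rw [toAdd_pow, nsmul_eq_mul, toAdd_ofAdd, hm]
    clear hk hkq hcop k
    obtain ⟨k, hk, hk1⟩ := hone
    let M : Subgroup D.carrier := H.comap SemidirectProduct.inl
    have hM : ∀ w : K, (∃ g ∈ M, (D.proj g).toAdd = w) →
        ∃ g ∈ M, (D.proj g).toAdd = ζ * w := by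
      rintro w ⟨g, hg, rfl⟩
      refine ⟨k.left * D.aut g * k.left⁻¹, ?_, ?_⟩
      · show SemidirectProduct.inl (k.left * D.aut g * k.left⁻¹) ∈ H
        have : SemidirectProduct.inl (k.left * D.aut g * k.left⁻¹) =
            k * SemidirectProduct.inl g * k⁻¹ := by
          have hρ : ρ k.right = D.aut := by
            show D.aut ^ k.right.toAdd.val = D.aut
            rw [hk1, toAdd_ofAdd, ZMod.val_one, pow_one]
          conv_rhs => rw [← SemidirectProduct.inl_left_mul_inr_right k]
          rw [map_mul, map_mul, ← show ρ k.right g = D.aut g by rw [hρ],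
            SemidirectProduct.inl_aut]
          simp only [map_inv, mul_assoc, mul_inv_rev]
        rw [this]
        exact mul_mem (mul_mem hk hg) (inv_mem hk)
      · rw [D.proj.map_mul, D.proj.map_mul, D.proj.map_inv, mul_comm (D.proj k.left) (D.proj (D.aut g)),
          mul_inv_cancel_right, D.equiv]
    rcases image_dichotomy hK M hM with hker | hcov
    · refine Subgroup.isNilpotent_of_ker_le_center
        (SemidirectProduct.rightHom.comp H.subtype) ?_
      intro g hg
      have hgr : g.1.right = 1 := hg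
      have hgl : g.1 = SemidirectProduct.inl g.1.left := by
        refine SemidirectProduct.ext ?_ ?_ <;> simp [hgr]
      have hgM : g.1.left ∈ M := by
        show SemidirectProduct.inl g.1.left ∈ H
        rw [← hgl]; exact g.2
      have hgk := hker hgM
      have hfix := fixed_of_mem_ker D.act hqp hK D.surj D.equiv hgk
      have hfixn : ∀ n : ℕ, (D.aut ^ n) g.1.left = g.1.left := by
        intro n
        induction n with
        | zero => rfl
        | succ n ih => rw [pow_succ, MulAut.mul_apply, hfix, ih]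
      have hcen := ker_le_center D.act hqp hK D.surj D.equiv hgk
      rw [mem_center_iff]
      intro g'
      refine Subtype.ext (SemidirectProduct.ext ?_ ?_)
      · show (g'.1 * g.1).left = (g.1 * g'.1).left
        rw [SemidirectProduct.mul_left, SemidirectProduct.mul_left, hgr, map_one, MulAut.one_apply]
        show g'.1.left * (D.aut ^ g'.1.right.toAdd.val) g.1.left = _
        rw [hfixn]
        exact mem_center_iff.1 hcen _
      · show (g'.1 * g.1).right = (g.1 * g'.1).right
        rw [SemidirectProduct.mul_right, SemidirectProduct.mul_right, hgr, mul_one, one_mul]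
    · refine absurd ?_ hH
      have hMt : M = ⊤ := eq_top_of_covers D.act hqp hK D.surj D.equiv hcov
      have hinl : ∀ g, SemidirectProduct.inl g ∈ H := fun g => hMt.ge (mem_top g)
      have hr1 : (SemidirectProduct.inr (Multiplicative.ofAdd 1) : D.carrier ⋊[ρ] _) ∈ H := by
        rw [← hk1, show (SemidirectProduct.inr k.right : D.carrier ⋊[ρ] _) =
          (SemidirectProduct.inl k.left)⁻¹ * k by
            conv_rhs => arg 2; rw [← SemidirectProduct.inl_left_mul_inr_right k]
            group]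
        exact mul_mem (inv_mem (hinl _)) hk
      rw [eq_top_iff]
      intro g _
      rw [← SemidirectProduct.inl_left_mul_inr_right g]
      refine mul_mem (hinl _) ?_
      have : g.right = Multiplicative.ofAdd (1 : ZMod c) ^ g.right.toAdd.val := by
        apply Multiplicative.toAdd.injective
        rw [toAdd_pow, toAdd_ofAdd, nsmul_eq_mul, mul_one, ZMod.natCast_zmod_val]
      rw [this, map_pow]
      exact pow_mem hr1 _

theorem exists_epi (hK : Gen p q a K ζ) (hqp : q ≠ p) (D : Model p q a K ζ) {r : ℕ}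
    (hr : 1 ≤ r) (hc : c = q ^ r) (h : D.aut ^ c = 1) {X : Type*} [Group X] [Finite X]
    (hX : ¬ Cfsg.HasNormalPComplement p X)
    (hX' : ∀ K : Subgroup X, K ≠ ⊤ → Cfsg.HasNormalPComplement p K) {t : ℕ}
    (ht : Nat.card X = p ^ t * q ^ r) :
    ∃ φ : D.carrier ⋊[cyclicHom c D.aut h] Multiplicative (ZMod c) →* X,
      Function.Surjective φ ∧ φ.ker ≤ center _ := by
  obtain ⟨hnil, -, hnorm⟩ := S0132.result hX hX'
  obtain ⟨P⟩ : Nonempty (Sylow p X) := inferInstance
  obtain ⟨Q⟩ : Nonempty (Sylow q X) := inferInstance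
  haveI : (P : Subgroup X).Normal := hnorm P
  have hcop : Nat.Coprime p q := (Nat.coprime_primes hp.out hq.out).2 hqp.symm
  have hPc : Nat.card P = p ^ t := by
    rw [P.card_eq_multiplicity, ht]
    congr 1
    rw [Nat.factorization_mul (pow_ne_zero _ hp.out.ne_zero) (pow_ne_zero _ hq.out.ne_zero),
      hp.out.factorization_pow, hq.out.factorization_pow]
    simp [hqp]
  have hQc : Nat.card Q = q ^ r := by
    rw [Q.card_eq_multiplicity, ht]
    congr 1
    rw [Nat.factorization_mul (pow_ne_zero _ hp.out.ne_zero) (pow_ne_zero _ hq.out.ne_zero),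
      hp.out.factorization_pow, hq.out.factorization_pow]
    simp [hqp.symm]
  have hcompl : (Q : Subgroup X).IsComplement' (P : Subgroup X) := by
    refine isComplement'_of_coprime ?_ ?_
    · rw [hPc, hQc, ht, mul_comm]
    · rw [hPc, hQc]
      exact Nat.Coprime.pow r t hcop.symm
  obtain ⟨y, hyQ, hyP⟩ : ∃ y ∈ (Q : Subgroup X), y ∉ centralizer (P : Set X) := by
    by_contra hno
    push Not at hno
    refine hX ⟨P, Q, ?_, hcompl⟩
    rw [← normalizer_eq_top_iff, eq_top_iff, ← hcompl.sup_eq_top]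
    refine sup_le le_normalizer fun g hg => ?_
    refine Subgroup.centralizer_le_normalizer _ ?_
    exact fun z hz => ((hno z hz) g hg).symm
  have hyo : orderOf y ∣ q ^ r := by
    rw [← hQc, ← Subgroup.orderOf_mk y hyQ]
    exact orderOf_dvd_natCard _
  have hcomm : ∀ (A : Subgroup X) (z : X), A ≤ P → orderOf z ∣ q ^ r → A ⊔ zpowers z ≠ ⊤ →
      ∀ g ∈ A, g * z = z * g := by
    intro A z hA hz hne g hg
    haveI := hnil _ hne
    refine congrArg Subtype.val (FrobeniusNilpotent.commute_of_coprime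
      (⟨g, mem_sup_left hg⟩ : ↥(A ⊔ zpowers z)) ⟨z, mem_sup_right (mem_zpowers z)⟩ ?_)
    rw [Subgroup.orderOf_mk, Subgroup.orderOf_mk]
    obtain ⟨i, hi⟩ := P.isPGroup' ⟨g, hA hg⟩
    exact Nat.Coprime.of_dvd (orderOf_dvd_of_pow_eq_one (congrArg Subtype.val hi)) hz
      (Nat.Coprime.pow _ _ hcop)
  have htop : (P : Subgroup X) ⊔ zpowers y = ⊤ := by
    by_contra hne
    exact hyP fun g hg => hcomm _ y le_rfl hyo hne g hg
  have hnormP : ∀ z : X, z ∈ normalizer ((P : Subgroup X) : Set X) := fun z => by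
    rw [normalizer_eq_top_iff.2 inferInstance]; exact mem_top z
  have hyo' : orderOf y = q ^ r := by
    refine le_antisymm (Nat.le_of_dvd (pow_pos hq.out.pos r) hyo) ?_
    have h1 := card_sup_le (P : Subgroup X) y (hnormP y)
    rw [htop, card_top, ht, hPc] at h1
    exact Nat.le_of_mul_le_mul_left h1 (pow_pos hp.out.pos t)
  have hyq : ∀ g ∈ (P : Subgroup X), g * y ^ q = y ^ q * g := by
    refine hcomm _ _ le_rfl ((orderOf_pow_dvd q).trans hyo) fun he => ?_
    have h1 := card_sup_le (P : Subgroup X) (y ^ q) (hnormP _)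
    rw [he, card_top, ht, hPc] at h1
    have h2 := Nat.le_of_mul_le_mul_left h1 (pow_pos hp.out.pos t)
    rw [orderOf_pow' y hq.out.ne_zero, hyo', Nat.gcd_eq_right (dvd_pow_self q (by omega))] at h2
    exact absurd h2 (not_le.2 (Nat.div_lt_self (pow_pos hq.out.pos r) hq.out.one_lt))
  let σ : MulAut (P : Subgroup X) := MulAut.conjNormal y
  have hσ : ∀ (n : ℕ) (g : (P : Subgroup X)), (((σ ^ n) g : (P : Subgroup X)) : X) =
      y ^ n * g * (y ^ n)⁻¹ := fun n g => by
    rw [← map_pow, MulAut.conjNormal_apply]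
  have hA : Act p q σ := by
    refine ⟨P.isPGroup', MulEquiv.ext fun g => Subtype.ext ?_, fun hs => hyP fun g hg => ?_, ?_⟩
    · rw [hσ, ← hyq _ g.2, mul_inv_cancel_right]
      rfl
    · have := congrArg Subtype.val (DFunLike.congr_fun hs ⟨g, hg⟩)
      rw [← pow_one σ, hσ, pow_one, MulAut.one_apply] at this
      exact (mul_inv_eq_iff_eq_mul.1 this).symm
    · intro M hM hinv g hg
      refine Subtype.ext ?_
      rw [← pow_one σ, hσ, pow_one]
      have hyM : y ∈ normalizer ((M.map (P : Subgroup X).subtype : Subgroup X) : Set X) := by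
        set M' := M.map (P : Subgroup X).subtype
        have hle : M'.map (MulAut.conj y).toMonoidHom = M' := by
          refine eq_of_le_of_card_ge ?_ (card_map_of_injective (MulAut.conj y).injective (K := M')).ge
          rintro _ ⟨_, ⟨m, hm, rfl⟩, rfl⟩
          exact ⟨σ m, hinv m hm, MulAut.conjNormal_apply y m⟩
        refine mem_normalizer_iff.2 fun z => ⟨fun hz => hle.le ⟨z, hz, rfl⟩, fun hz => ?_⟩
        obtain ⟨z', hz', he⟩ := hle.ge hz
        rw [← (MulAut.conj y).injective he]
        exact hz'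
      have hne : M.map (P : Subgroup X).subtype ⊔ zpowers y ≠ ⊤ := by
        intro he
        have h1 := card_sup_le _ y hyM
        rw [he, card_top, ht, hyo', card_map_of_injective (P : Subgroup X).subtype_injective] at h1
        refine hM (eq_top_of_le_card _ ?_)
        rw [hPc]
        exact Nat.le_of_mul_le_mul_right h1 (pow_pos hq.out.pos r)
      have := hcomm _ y (map_subtype_le M) hyo hne g ⟨g, hg, rfl⟩
      rw [← this, mul_inv_cancel_right]
  obtain ⟨j, hj, π, hπ, hπσ⟩ := exists_hom hA hqp hK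
  have hjq : Nat.Coprime j q := ((Nat.Prime.coprime_iff_not_dvd hq.out).2 hj).symm
  obtain ⟨m, hm⟩ := exists_pow_eq_self_of_coprime (x := σ) (n := j)
    (by rw [orderOf_eq_prime hA.pow hA.ne]; exact hjq)
  have hA' : Act p q (σ ^ j) := by
    refine ⟨hA.pgroup, by rw [← pow_mul, mul_comm, pow_mul, hA.pow, one_pow],
      fun hs => hA.ne (by rw [← hm, hs, one_pow]), fun M hM hinv g hg => ?_⟩
    have hi : ∀ (n : ℕ), ∀ g ∈ M, ((σ ^ j) ^ n) g ∈ M := by
      intro n
      induction n with
      | zero => exact fun g hg => hg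
      | succ n ih => intro g hg; rw [pow_succ, MulAut.mul_apply]; exact ih _ (hinv g hg)
    have hf := hA.fix M hM (fun g hg => hm ▸ hi m g hg) g hg
    exact pow_fixed σ hf j
  obtain ⟨ψ, hψ, hψσ, hψk⟩ := exists_map hK hqp D hA' hπ hπσ
  have hψn : ∀ (n : ℕ) d, ψ ((D.aut ^ n) d) = ((σ ^ j) ^ n) (ψ d) := by
    intro n
    induction n with
    | zero => intro d; rfl
    | succ n ih =>
      intro d
      rw [pow_succ', MulAut.mul_apply, hψσ, ih, pow_succ', MulAut.mul_apply]
  have hjc : Nat.Coprime j (orderOf y) := hyo' ▸ hjq.pow_right r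
  have hyjc : (y ^ j) ^ c = 1 := by
    rw [← pow_mul, mul_comm, pow_mul, hc, ← hyo', pow_orderOf_eq_one, one_pow]
  let fG : Multiplicative (ZMod c) →* X := cyclicHom c (y ^ j) hyjc
  let F : D.carrier ⋊[cyclicHom c D.aut h] Multiplicative (ZMod c) →* X :=
    SemidirectProduct.lift ((P : Subgroup X).subtype.comp ψ) fG fun x => MonoidHom.ext fun d => by
      show ((ψ ((D.aut ^ x.toAdd.val) d) : (P : Subgroup X)) : X) =
        (y ^ j) ^ x.toAdd.val * (ψ d : X) * ((y ^ j) ^ x.toAdd.val)⁻¹
      rw [hψn, ← pow_mul, hσ, pow_mul]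
  refine ⟨F, ?_, ?_⟩
  · rw [← MonoidHom.range_eq_top, eq_top_iff, ← htop]
    refine sup_le (fun g hg => ?_) (zpowers_le.2 ?_)
    · obtain ⟨d, hd⟩ := hψ ⟨g, hg⟩
      exact ⟨SemidirectProduct.inl d, by rw [SemidirectProduct.lift_inl]; exact congrArg Subtype.val hd⟩
    · obtain ⟨n, hn⟩ := exists_pow_eq_self_of_coprime hjc
      refine ⟨SemidirectProduct.inr (Multiplicative.ofAdd (1 : ZMod c)) ^ n, ?_⟩
      rw [map_pow, SemidirectProduct.lift_inr]
      show ((y ^ j) ^ (1 : ZMod c).val) ^ n = y
      haveI : Fact (1 < c) := ⟨hc ▸ Nat.one_lt_pow (Nat.one_le_iff_ne_zero.1 hr) hq.out.one_lt⟩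
      rw [ZMod.val_one, pow_one, hn]
  · intro g hg
    rw [MonoidHom.mem_ker, ← SemidirectProduct.inl_left_mul_inr_right g, map_mul,
      SemidirectProduct.lift_inl, SemidirectProduct.lift_inr] at hg
    set v := g.right.toAdd.val with hv
    have hg' : (ψ g.left : X) * (y ^ j) ^ v = 1 := hg
    have hmem : (y ^ j) ^ v ∈ (P : Subgroup X) ⊓ (Q : Subgroup X) :=
      ⟨by rw [eq_inv_of_mul_eq_one_right hg']; exact Subgroup.inv_mem _ (ψ g.left).2,
        pow_mem (pow_mem hyQ j) v⟩
    rw [hcompl.disjoint.symm.eq_bot, mem_bot] at hmem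
    have hd : c ∣ v := by
      have h2 := orderOf_dvd_of_pow_eq_one hmem
      rwa [Nat.Coprime.orderOf_pow hjc.symm, hyo', ← hc] at h2
    have hgr : g.right = 1 := by
      apply Multiplicative.toAdd.injective
      rw [toAdd_one, ← ZMod.val_eq_zero]
      exact Nat.eq_zero_of_dvd_of_lt hd (ZMod.val_lt _)
    rw [hmem, mul_one] at hg'
    have hgk := hψk (show g.left ∈ ψ.ker from Subtype.ext hg')
    have hfix := fixed_of_mem_ker D.act hqp hK D.surj D.equiv hgk
    have hfixn : ∀ n : ℕ, (D.aut ^ n) g.left = g.left := by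
      intro n
      induction n with
      | zero => rfl
      | succ n ih => rw [pow_succ, MulAut.mul_apply, hfix, ih]
    rw [mem_center_iff]
    intro g'
    refine SemidirectProduct.ext ?_ ?_
    · rw [SemidirectProduct.mul_left, SemidirectProduct.mul_left, hgr, map_one, MulAut.one_apply]
      show g'.left * (D.aut ^ g'.right.toAdd.val) g.left = _
      rw [hfixn]
      exact mem_center_iff.1 (ker_le_center D.act hqp hK D.surj D.equiv hgk) _
    · rw [SemidirectProduct.mul_right, SemidirectProduct.mul_right, hgr, mul_one, one_mul]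

end model


/-- Let p ≠ q be primes, r ≥ 1, a the multiplicative order of p modulo q, and a₀ = a when a is odd, a₀ = 3a/2 when a is even. Call a finite group minimal non-p-nilpotent when it has no normal p-complement but every proper subgroup has one. Then there is a minimal non-p-nilpotent group G₀ of order p^a₀ · q^r such that every minimal non-p-nilpotent group of order p^t · q^r (any t) is a quotient of G₀ by a central subgroup. -/
theorem result (p q r : ℕ) [Fact p.Prime] [Fact q.Prime] (hpq : p ≠ q) (hr : 1 ≤ r) (a a₀ : ℕ)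
    (ha : a = orderOf (p : ZMod q)) (ha₀ : a₀ = if a % 2 = 1 then a else 3 * a / 2) :
    ∃ (G₀ : Type u) (_ : Group G₀) (_ : Finite G₀),
      (¬ Cfsg.HasNormalPComplement p G₀ ∧ ∀ K : Subgroup G₀, K ≠ ⊤ → Cfsg.HasNormalPComplement p ↥K) ∧ Nat.card G₀ = p ^ a₀ * q ^ r ∧
      ∀ (X : Type u) [Group X] [Finite X], (¬ Cfsg.HasNormalPComplement p X ∧ ∀ K : Subgroup X, K ≠ ⊤ → Cfsg.HasNormalPComplement p ↥K) →
        (∃ t : ℕ, Nat.card X = p ^ t * q ^ r) → ∃ φ : G₀ →* X, Function.Surjective φ ∧ φ.ker ≤ Subgroup.center G₀ := by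
  haveI : NeZero (q ^ r) := ⟨pow_ne_zero _ (Fact.out : q.Prime).ne_zero⟩
  obtain ⟨ζ, hK⟩ := exists_gen (p := p) (q := q) hpq.symm ha
  obtain ⟨D⟩ := exists_model hK ha hpq.symm
  have h : D.aut ^ (q ^ r) = 1 := eq_one_of_pow_eq (dvd_pow_self q (by omega))
  set G := D.carrier ⋊[cyclicHom (q ^ r) D.aut h] Multiplicative (ZMod (q ^ r))
  haveI : Finite G := Finite.of_equiv _ SemidirectProduct.equivProd.symm
  let e : ULift.{u} G ≃* G := MulEquiv.ulift
  refine ⟨ULift.{u} G, inferInstance, inferInstance, ⟨?_, ?_⟩, ?_, ?_⟩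
  · exact fun hG => no_complement hK hpq.symm D hr rfl h
      ((TransferPResidual.hasNormalPComplement_congr e).1 hG)
  · intro L hL
    haveI := proper_nilpotent hK hpq.symm D hr rfl h (L.map e.toMonoidHom) fun he => hL
      (Subgroup.map_injective (f := e.toMonoidHom) e.injective
        (he.trans (Subgroup.map_top_of_surjective e.toMonoidHom e.surjective).symm))
    haveI : Finite L := inferInstance
    haveI : Group.IsNilpotent L :=
      Group.nilpotent_of_mulEquiv (L.equivMapOfInjective e.toMonoidHom e.injective).symm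
    exact FrobeniusNilpotent.hasNormalPComplement_of_isNilpotent
  · rw [Nat.card_congr e.toEquiv, SemidirectProduct.card, D.card,
      Nat.card_congr Multiplicative.toAdd, Nat.card_zmod, ha₀]
  · rintro X _ _ ⟨hX, hX'⟩ ⟨t, ht⟩
    obtain ⟨φ, hφ, hker⟩ := exists_epi hK hpq.symm D hr rfl h hX hX' ht
    refine ⟨φ.comp e.toMonoidHom, hφ.comp e.surjective, fun g hg => ?_⟩
    rw [Subgroup.mem_center_iff]
    intro g'
    exact e.injective (by
      rw [map_mul, map_mul]
      exact Subgroup.mem_center_iff.1 (hker hg) (e g'))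

end Cfsg.Agent.S4395
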