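import Cfsg.Statements.S4397
import Cfsg.Agent.Lib.PGroupsBasic
import Cfsg.Agent.Lib.HallCore

set_option autoImplicit false
open Cfsg

namespace Cfsg.Agent.S4397

open Cfsg.Agent
open Subgroup
open scoped commutatorElement

/-- Sectional rank passes to homomorphic images. -/
theorem sectional_of_surjective {S X : Type*} [Group S] [Group X] {p k : ℕ}
    (hr : SectionalPRankLE p k S) (f : S →* X) (hf : Function.Surjective f) : SectionalPRankLE p k X := by
  intro H N _ A hA hAp
  let φ : H.comap f →* H ⧸ N := (QuotientGroup.mk' N).comp (f.subgroupComap H)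
  have hφ : Function.Surjective φ :=
    (QuotientGroup.mk'_surjective N).comp (f.subgroupComap_surjective_of_surjective H hf)
  let e := (QuotientGroup.quotientKerEquivOfSurjective φ hφ).symm
  have h := hr (H.comap f) φ.ker (A.map e.toMonoidHom)
    ⟨⟨fun ⟨_, a, ha, ha'⟩ ⟨_, b, hb, hb'⟩ => Subtype.ext (by
      subst ha' hb'
      show e a * e b = e b * e a
      rw [← map_mul, ← map_mul, PGroupsBasic.comm_of_isMulCommutative hA ha hb])⟩⟩
    (fun _ ⟨a, ha, ha'⟩ => by subst ha'; rw [← map_pow, hAp a ha, map_one])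
  rwa [Subgroup.card_map_of_injective (f := e.toMonoidHom) e.injective] at h

/-- Sectional rank two forces two generators. -/
theorem two_generated {G : Type*} [Group G] [Finite G] (h2 : IsPGroup 2 G) (hr : SectionalPRankLE 2 2 G) :
    ∃ a b : G, closure ({a, b} : Set G) = ⊤ := by
  classical
  have : Fact (Nat.Prime 2) := ⟨Nat.prime_two⟩
  have : Fintype G := Fintype.ofFinite G
  obtain ⟨hc, hpow⟩ := PGroupsBasic.quotient_frattini_elementary h2
  let φ : (⊤ : Subgroup G) →* G ⧸ frattini G := (QuotientGroup.mk' _).comp (⊤ : Subgroup G).subtype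
  have hφ : Function.Surjective φ := fun q => by
    obtain ⟨g, rfl⟩ := QuotientGroup.mk'_surjective _ q
    exact ⟨⟨g, mem_top g⟩, rfl⟩
  let e := QuotientGroup.quotientKerEquivOfSurjective φ hφ
  have h := hr ⊤ φ.ker ⊤ ⟨⟨fun u v => Subtype.ext (e.injective (by
      simp only [Subgroup.coe_mul, map_mul]; exact hc _ _))⟩⟩
    (fun u _ => e.injective (by rw [map_pow, map_one]; exact hpow _))
  rw [card_top, Nat.card_congr e.toEquiv] at h
  obtain ⟨T, -, hT, hgen⟩ := PGroupsBasic.exists_basis_subset h2 (Finset.univ : Finset G) (by simp)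
  have hT2 : T.card ≤ 2 := (Nat.pow_le_pow_iff_right one_lt_two).mp (hT.le.trans h)
  rcases Nat.lt_or_ge T.card 2 with h1 | h1
  · rcases Finset.card_le_one_iff_subset_singleton.mp (Nat.le_of_lt_succ h1) with ⟨a, ha⟩
    refine ⟨a, a, eq_top_iff.mpr (hgen ▸ closure_mono ?_)⟩
    intro x hx
    simp [Finset.mem_singleton.mp (ha hx)]
  · obtain ⟨a, b, -, rfl⟩ := Finset.card_eq_two.mp (le_antisymm hT2 h1)
    exact ⟨a, b, by simpa using hgen⟩

/-- The elementary group generated by three commuting involutions has order at most four. -/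
theorem rank_bound {G : Type*} [Group G] [Finite G] (hr : SectionalPRankLE 2 2 G) {u c b : G} (hc1 : c ≠ 1)
    (hu1 : u ≠ 1) (huc : u ≠ c) (hu : u * u = 1) (hc : c * c = 1) (hb : b * b = 1) (h1 : u * c = c * u)
    (h2 : u * b = b * u) (h3 : c * b = b * c) : b = 1 ∨ b = u ∨ b = c ∨ b = u * c := by
  classical
  by_contra hcon
  push Not at hcon
  obtain ⟨hb1, hbu, hbc, hbuc⟩ := hcon
  have : Fact (Nat.Prime 2) := ⟨Nat.prime_two⟩
  set E := closure ({u, c, b} : Set G)
  have hE : IsElementaryAbelian 2 E := PGroupsBasic.isElementaryAbelian_closure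
    (by rintro x (rfl | rfl | rfl) y (rfl | rfl | rfl) <;>
      first | rfl | exact h1 | exact h2 | exact h3 | exact h1.symm | exact h2.symm | exact h3.symm)
    (by rintro x (rfl | rfl | rfl) <;> rw [sq] <;> assumption)
  let e := (QuotientGroup.quotientBot (G := E)).symm
  have h := hr E ⊥ ((⊤ : Subgroup E).map e.toMonoidHom)
    ⟨⟨fun ⟨_, x, _, hx⟩ ⟨_, y, _, hy⟩ => Subtype.ext (by
      subst hx hy
      show e x * e y = e y * e x
      rw [← map_mul, ← map_mul, hE.1.is_comm.comm x y])⟩⟩
    (fun _ ⟨x, _, hx⟩ => by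
      subst hx
      rw [← map_pow, show x ^ 2 = 1 from Subtype.ext (hE.2 x x.2), map_one])
  rw [Subgroup.card_map_of_injective (f := e.toMonoidHom) e.injective, card_top] at h
  have huE : u ∈ E := subset_closure (by simp)
  have hcE : c ∈ E := subset_closure (by simp)
  have hbE : b ∈ E := subset_closure (by simp)
  let s : Finset E := {1, ⟨u, huE⟩, ⟨c, hcE⟩, ⟨u * c, mul_mem huE hcE⟩, ⟨b, hbE⟩}
  have hs : s.card = 5 := by
    have n1 : u * c ≠ 1 := fun h => huc ((eq_inv_of_mul_eq_one_left h).trans (inv_eq_of_mul_eq_one_left hc))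
    have n2 : u * c ≠ u := fun h => hc1 (mul_eq_left.mp h)
    have n3 : u * c ≠ c := fun h => hu1 (mul_eq_right.mp h)
    simp only [s]
    rw [Finset.card_insert_of_notMem, Finset.card_insert_of_notMem, Finset.card_insert_of_notMem,
      Finset.card_insert_of_notMem, Finset.card_singleton] <;>
      simp [Subtype.ext_iff, hu1.symm, hc1.symm, hb1.symm, Ne.symm n1, huc, Ne.symm n2, Ne.symm n3, hbu.symm, hbc.symm, hbuc.symm]
  have := Fintype.ofFinite E
  have h5 := Finset.card_le_univ s
  rw [hs, ← Nat.card_eq_fintype_card] at h5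
  omega

theorem metacyclic_of_pair {G : Type*} [Group G] {x y c : G} (hgen : closure ({x, y} : Set G) = ⊤)
    (hcG : commutator G ≤ zpowers c) (hcx : c ∈ zpowers x) : IsMetacyclic G := by
  have hn : (zpowers x).Normal := PGroupsBasic.normal_of_commutator_le (hcG.trans (zpowers_le.mpr hcx))
  refine ⟨zpowers x, hn, inferInstance, isCyclic_iff_exists_zpowers_eq_top.mpr ⟨QuotientGroup.mk y, ?_⟩⟩
  refine eq_top_iff.mpr ?_
  rw [← map_top_of_surjective _ (QuotientGroup.mk'_surjective (zpowers x)), ← hgen, MonoidHom.map_closure,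
    closure_le]
  rintro _ ⟨w, hw, rfl⟩
  rcases hw with hw | hw
  · rw [hw, show QuotientGroup.mk' (zpowers x) x = 1 from (QuotientGroup.eq_one_iff x).mpr (mem_zpowers x)]
    exact one_mem _
  · rw [Set.mem_singleton_iff.mp hw]
    exact mem_zpowers _

/-- The case of a central commutator subgroup of order at most two. -/
theorem base {G : Type*} [Group G] [Finite G] (h2 : IsPGroup 2 G) (hr : SectionalPRankLE 2 2 G)
    (hcen : ∀ g : G, ∀ w ∈ commutator G, ⁅g, w⁆ = (1 : G)) (hsq : ∀ w ∈ commutator G, w * w = 1) : IsMetacyclic G := by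
  classical
  have : Fact (Nat.Prime 2) := ⟨Nat.prime_two⟩
  obtain ⟨a₀, b₀, h₀⟩ := two_generated h2 hr
  obtain ⟨s, hs⟩ : ∃ s : G × G, closure ({s.1, s.2} : Set G) = ⊤ ∧
      ∀ t : G × G, closure ({t.1, t.2} : Set G) = ⊤ → orderOf t.1 + orderOf t.2 ≥ orderOf s.1 + orderOf s.2 := by
    obtain ⟨s, hs, hmin⟩ := Set.exists_min_image {t : G × G | closure ({t.1, t.2} : Set G) = ⊤}
      (fun t => orderOf t.1 + orderOf t.2) (Set.toFinite _) ⟨(a₀, b₀), h₀⟩
    exact ⟨s, hs, hmin⟩
  obtain ⟨a, b, hgen, hmin, hle⟩ : ∃ a b : G, closure ({a, b} : Set G) = ⊤ ∧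
      (∀ x y : G, closure ({x, y} : Set G) = ⊤ → orderOf x + orderOf y ≥ orderOf a + orderOf b) ∧
      orderOf b ≤ orderOf a := by
    rcases le_total (orderOf s.2) (orderOf s.1) with h | h
    · exact ⟨s.1, s.2, hs.1, fun x y hxy => hs.2 (x, y) hxy, h⟩
    · exact ⟨s.2, s.1, by rw [Set.pair_comm]; exact hs.1, fun x y hxy => (add_comm _ _).le.trans (hs.2 (x, y) hxy), h⟩
  set c := ⁅a, b⁆ with hc
  have hcmem : c ∈ commutator G := commutator_mem_commutator (mem_top a) (mem_top b)
  have hccen : c ∈ center G := mem_center_iff.mpr fun g => commutatorElement_eq_one_iff_mul_comm.mp (hcen g c hcmem)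
  have hcc : c * c = 1 := hsq c hcmem
  have hcinv : c⁻¹ = c := inv_eq_of_mul_eq_one_left hcc
  have hba : ⁅b, a⁆ = c := by rw [← commutatorElement_inv, ← hc, hcinv]
  have hcG : commutator G ≤ zpowers c := by
    have hn : (zpowers c).Normal := PGroupsBasic.normal_of_le_center (zpowers_le.mpr hccen)
    set q := QuotientGroup.mk' (zpowers c)
    have hab : q a * q b = q b * q a := by
      rw [← commutatorElement_eq_one_iff_mul_comm, ← map_commutatorElement]
      exact (QuotientGroup.eq_one_iff _).mpr (mem_zpowers c)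
    have hall : ∀ x y : G ⧸ zpowers c, x * y = y * x := by
      have hgenq : closure ({q a, q b} : Set (G ⧸ zpowers c)) = ⊤ := by
        rw [← Set.image_pair, ← MonoidHom.map_closure, hgen, map_top_of_surjective _ (QuotientGroup.mk'_surjective _)]
      have hle : closure ({q a, q b} : Set (G ⧸ zpowers c)) ≤ centralizer (closure ({q a, q b} : Set (G ⧸ zpowers c)) : Set (G ⧸ zpowers c)) := by
        rw [centralizer_closure, closure_le]
        rintro x (rfl | rfl) <;> rw [SetLike.mem_coe, mem_centralizer_iff] <;> rintro y (rfl | rfl) <;>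
          first | rfl | exact hab | exact hab.symm
      rw [hgenq] at hle
      exact fun x y => (mem_centralizer_iff.mp (hle (mem_top y)) x (mem_top x))
    rw [_root_.commutator_def, Subgroup.commutator_le]
    intro x _ y _
    rw [← QuotientGroup.eq_one_iff]
    show q ⁅x, y⁆ = 1
    rw [map_commutatorElement]
    exact commutatorElement_eq_one_iff_mul_comm.mpr (hall _ _)
  by_cases hc1 : c = 1
  · exact metacyclic_of_pair hgen hcG (hc1 ▸ one_mem _)
  have hgen' : ∀ k : ℕ, closure ({a * b ^ k, b} : Set G) = ⊤ := by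
    intro k
    refine eq_top_iff.mpr (hgen ▸ (closure_le _).mpr ?_)
    have hb : b ∈ closure ({a * b ^ k, b} : Set G) := subset_closure (by simp)
    have hab : a * b ^ k ∈ closure ({a * b ^ k, b} : Set G) := subset_closure (by simp)
    rintro x (rfl | rfl)
    · simpa using mul_mem hab (inv_mem (pow_mem hb k))
    · exact hb
  have hnab : ¬ a * b = b * a := fun h => hc1 (commutatorElement_eq_one_iff_mul_comm.mpr h)
  have hane : a ≠ 1 := fun h => hnab (by simp [h])
  have hbne : b ≠ 1 := fun h => hnab (by simp [h])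
  have hpow : ∀ x : G, x ≠ 1 → ∃ i, orderOf x = 2 ^ (i + 1) := by
    intro x hx
    obtain ⟨i, hi⟩ := (IsPGroup.iff_orderOf.mp h2) x
    rcases i with _ | i
    · exact absurd (orderOf_eq_one_iff.mp (by simpa using hi)) hx
    · exact ⟨i, hi⟩
  obtain ⟨i, hi⟩ := hpow a hane
  obtain ⟨j, hj⟩ := hpow b hbne
  have hji : j ≤ i := by
    rw [hi, hj] at hle
    have := (Nat.pow_le_pow_iff_right one_lt_two).mp hle
    omega
  set u := a ^ 2 ^ i with hu
  have hu1 : u ≠ 1 := pow_ne_one_of_lt_orderOf (by positivity) (by rw [hi, pow_succ]; linarith [Nat.two_pow_pos i])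
  have huu : u * u = 1 := by rw [hu, ← pow_add, ← two_mul, ← pow_succ', ← hi, pow_orderOf_eq_one]
  set v := b ^ 2 ^ j with hv
  have hv1 : v ≠ 1 := pow_ne_one_of_lt_orderOf (by positivity) (by rw [hj, pow_succ]; linarith [Nat.two_pow_pos j])
  have hvv : v * v = 1 := by rw [hv, ← pow_add, ← two_mul, ← pow_succ', ← hj, pow_orderOf_eq_one]
  rcases Nat.eq_zero_or_pos i with rfl | hi0
  · -- two involutions: dihedral
    obtain rfl : j = 0 := by omega
    simp only [pow_zero, pow_one] at hu hv
    have hinva : a⁻¹ = a := inv_eq_of_mul_eq_one_left (hu ▸ huu)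
    have hinvb : b⁻¹ = b := inv_eq_of_mul_eq_one_left (hv ▸ hvv)
    have hx : c = (a * b ^ 1) ^ 2 := by rw [pow_one, sq, hc, commutatorElement_def, hinva, hinvb]; group
    exact metacyclic_of_pair (hgen' 1) hcG (hx ▸ pow_mem (mem_zpowers _) 2)
  have hucen : u ∈ center G := by
    have hca : ∀ m : ℕ, 2 ∣ m → Commute (a ^ m) b := by
      rintro m ⟨m, rfl⟩
      have h : ⁅a ^ (2 * m), b⁆ = 1 := by
        rw [PGroupsBasic.commutatorElement_pow_left (hc ▸ hccen), ← hc, pow_mul, sq, hcc, one_pow]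
      exact commutatorElement_eq_one_iff_mul_comm.mp h
    have hab : closure ({a, b} : Set G) ≤ centralizer ({u} : Set G) := (closure_le _).mpr (by
      rintro x (rfl | rfl) <;> rw [SetLike.mem_coe, mem_centralizer_singleton_iff]
      · exact ((Commute.refl x).pow_right _).eq
      · exact (hca _ (dvd_pow_self 2 hi0.ne')).eq.symm)
    exact mem_center_iff.mpr fun g => mem_centralizer_singleton_iff.mp (hab (hgen ▸ mem_top g))
  by_cases huc : u = c
  · exact metacyclic_of_pair hgen hcG (huc ▸ pow_mem (mem_zpowers a) _)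
  by_cases hvc : v = c
  · exact metacyclic_of_pair (x := b) (y := a) (by rw [Set.pair_comm]; exact hgen) hcG (hvc ▸ pow_mem (mem_zpowers b) _)
  have hcu : u * c = c * u := (mem_center_iff.mp hccen u)
  rcases Nat.eq_zero_or_pos j with rfl | hj0
  · exfalso
    have hvb : v = b := by rw [hv, pow_zero, pow_one]
    rcases rank_bound hr hc1 hu1 huc huu hcc hvv hcu (mem_center_iff.mp hucen v).symm (mem_center_iff.mp hccen v).symm
      with h | h | h | h
    · exact hv1 h
    · exact hnab (hvb ▸ h ▸ mem_center_iff.mp hucen a)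
    · exact hvc h
    · exact hnab (hvb ▸ h ▸ mem_center_iff.mp (mul_mem hucen hccen) a)
  have hvc' : v = u ∨ v = u * c := by
    rcases rank_bound hr hc1 hu1 huc huu hcc hvv hcu (mem_center_iff.mp hucen v).symm (mem_center_iff.mp hccen v).symm
      with h | h | h | h
    · exact absurd h hv1
    · exact Or.inl h
    · exact absurd h hvc
    · exact Or.inr h
  set k := 2 ^ (i - j) with hk
  have hxpow : (b * a ^ k) ^ 2 ^ j = v * u * c ^ (k * (2 ^ j).choose 2) := by
    have hcb : ⁅a ^ k, b⁆ = c ^ k := by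
      rw [PGroupsBasic.commutatorElement_pow_left (hc ▸ hccen), ← hc]
    rw [PGroupsBasic.mul_pow_of_central (hcb ▸ pow_mem hccen k), hcb, ← pow_mul, ← pow_mul, hk, ← pow_add,
      Nat.sub_add_cancel hji]
  have hgen'' : closure ({a, b * a ^ k} : Set G) = ⊤ := by
    refine eq_top_iff.mpr (hgen ▸ (closure_le _).mpr ?_)
    have ha : a ∈ closure ({a, b * a ^ k} : Set G) := subset_closure (by simp)
    have hb : b * a ^ k ∈ closure ({a, b * a ^ k} : Set G) := subset_closure (by simp)
    rintro x (rfl | rfl)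
    · exact ha
    · simpa using mul_mem hb (inv_mem (pow_mem ha k))
  have hcev : ∀ m : ℕ, 2 ∣ m → c ^ m = 1 := by
    rintro m ⟨m, rfl⟩
    rw [pow_mul, sq, hcc, one_pow]
  have hsmaller : (b * a ^ k) ^ 2 ^ j ≠ 1 := by
    intro h
    have h1 := Nat.le_of_dvd (by positivity) (orderOf_dvd_of_pow_eq_one h)
    have h2' := hmin a (b * a ^ k) hgen''
    rw [hj, pow_succ] at h2'
    linarith [Nat.two_pow_pos j]
  have hfin : (b * a ^ k) ^ 2 ^ j = c := by
    by_cases h : i = 1
    · subst h
      obtain rfl : j = 1 := by omega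
      have e : (b * a ^ k) ^ 2 ^ 1 = v * u * c := by rw [hxpow, hk]; simp
      rw [e] at hsmaller ⊢
      rcases hvc' with h | h
      · rw [h, huu, one_mul]
      · refine absurd ?_ hsmaller
        rw [h, hcu, mul_assoc c u u, huu, mul_one, hcc]
    · have he : 2 ∣ k * (2 ^ j).choose 2 := by
        rcases Nat.lt_or_ge j 2 with hj2 | hj2
        · exact dvd_mul_of_dvd_left (hk ▸ dvd_pow_self 2 (by omega)) _
        · refine dvd_mul_of_dvd_right ?_ _
          obtain ⟨m, rfl⟩ : ∃ m, j = m + 2 := ⟨j - 2, by omega⟩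
          rw [Nat.choose_two_right]
          refine ⟨2 ^ m * (2 ^ (m + 2) - 1), ?_⟩
          rw [pow_add, show 2 ^ m * 2 ^ 2 * (2 ^ m * 2 ^ 2 - 1) = 2 * (2 * (2 ^ m * (2 ^ m * 2 ^ 2 - 1))) by ring,
            Nat.mul_div_cancel_left _ two_pos]
      rw [hxpow, hcev _ he, mul_one] at hsmaller ⊢
      rcases hvc' with h | h
      · exact absurd (by rw [h, huu]) hsmaller
      · rw [h, hcu, mul_assoc c u u, huu, mul_one]
  exact metacyclic_of_pair (x := b * a ^ k) (y := a) (by rw [Set.pair_comm]; exact hgen'') hcG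
    (hfin ▸ pow_mem (mem_zpowers _) _)

theorem main : ∀ (G : Type*) [Group G] [Finite G], IsPGroup 2 G → SectionalPRankLE 2 2 G → IsMetacyclic G := by
  intro G _ _
  induction hm : Nat.card G using Nat.strong_induction_on generalizing G with
  | _ m ih =>
  intro h2 hr
  classical
  have : Fact (Nat.Prime 2) := ⟨Nat.prime_two⟩
  set R := normalClosure ({w : G | ∃ g : G, ∃ v ∈ commutator G, w = ⁅g, v⁆} ∪ {w : G | ∃ v ∈ commutator G, w = v * v})
    with hR
  by_cases hR1 : R = ⊥
  · refine base h2 hr (fun g w hw => ?_) (fun w hw => ?_)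
    · have h : ⁅g, w⁆ ∈ R := subset_normalClosure (Or.inl ⟨g, w, hw, rfl⟩)
      rwa [hR1, mem_bot] at h
    · have h : w * w ∈ R := subset_normalClosure (Or.inr ⟨w, hw, rfl⟩)
      rwa [hR1, mem_bot] at h
  obtain ⟨z, hz, hzo⟩ := PGroupsBasic.exists_orderOf_eq_of_ne_bot (h2.to_subgroup _)
    (PGroupsBasic.inf_center_ne_bot h2 hR1)
  have hzn : (zpowers z).Normal := PGroupsBasic.normal_of_le_center (zpowers_le.mpr hz.2)
  have hlt : Nat.card (G ⧸ zpowers z) < m := by
    have h := card_mul_index (zpowers z)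
    rw [Nat.card_zpowers, hzo, hm] at h
    have : 0 < (zpowers z).index := Nat.pos_of_ne_zero index_ne_zero_of_finite
    show (zpowers z).index < m
    omega
  set q := QuotientGroup.mk' (zpowers z)
  have hqs : Function.Surjective q := QuotientGroup.mk'_surjective _
  obtain ⟨Nb, hNb, hNc, hQc⟩ := ih _ hlt (G ⧸ zpowers z) rfl (h2.to_quotient _) (sectional_of_surjective hr q hqs)
  set N := Nb.comap q with hN
  have hNn : N.Normal := hNb.comap q
  have hGN : IsCyclic (G ⧸ N) := by
    let f : G ⧸ zpowers z →* G ⧸ N := QuotientGroup.map _ _ (MonoidHom.id G)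
      (by rw [comap_id]; exact QuotientGroup.le_comap_mk' _ _)
    have hker : Nb ≤ f.ker := by
      intro w hw
      obtain ⟨g, rfl⟩ := hqs w
      exact (QuotientGroup.eq_one_iff g).mpr hw
    exact isCyclic_of_surjective (QuotientGroup.lift Nb f hker) (fun w => by
      obtain ⟨g, rfl⟩ := QuotientGroup.mk_surjective w
      exact ⟨QuotientGroup.mk (q g), rfl⟩)
  obtain ⟨⟨xb, hxb⟩, hxgen⟩ := hNc.exists_generator
  obtain ⟨x, rfl⟩ := hqs xb
  have hxN : x ∈ N := hxb
  have hNrep : ∀ w ∈ N, ∃ (i e : ℤ), w = x ^ i * z ^ e := by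
    intro w hw
    obtain ⟨i, hi⟩ := mem_zpowers_iff.mp (hxgen ⟨q w, hw⟩)
    have h : (x ^ i)⁻¹ * w ∈ zpowers z := by
      have hi' : q x ^ i = q w := congrArg Subtype.val hi
      rw [← map_zpow] at hi'
      exact QuotientGroup.eq.mp hi'
    obtain ⟨e, he⟩ := mem_zpowers_iff.mp h
    exact ⟨i, e, by rw [he, mul_inv_cancel_left]⟩
  have hzc : ∀ g, g * z = z * g := fun g => mem_center_iff.mp hz.2 g
  have hz2 : z ^ 2 = 1 := hzo ▸ pow_orderOf_eq_one z
  by_cases hzx : z ∈ zpowers x
  · refine ⟨N, hNn, ?_, hGN⟩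
    rw [Subgroup.isCyclic_iff_exists_zpowers_eq_top]
    refine ⟨x, le_antisymm (zpowers_le.mpr hxN) fun w hw => ?_⟩
    obtain ⟨i, e, rfl⟩ := hNrep w hw
    exact mul_mem (zpow_mem (mem_zpowers x) i) (zpow_mem hzx e)
  exfalso
  set T := zpowers (x ^ (2 : ℤ)) with hT
  have hsqT : ∀ w ∈ N, w * w ∈ T := by
    intro w hw
    obtain ⟨i, e, rfl⟩ := hNrep w hw
    have hc : Commute (x ^ i) (z ^ e) := ((show Commute x z from hzc x).zpow_left i).zpow_right e
    refine mem_zpowers_iff.mpr ⟨i, ?_⟩
    have he : (z ^ e) * (z ^ e) = 1 := by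
      rw [← zpow_add, ← two_mul, zpow_mul, zpow_ofNat, hz2, one_zpow]
    rw [show x ^ i * z ^ e * (x ^ i * z ^ e) = x ^ i * x ^ i * (z ^ e * z ^ e) from hc.symm.mul_mul_mul_comm _ _, he, mul_one,
      ← zpow_mul, ← zpow_add]
    congr 1
    ring
  have hTn : T.Normal := by
    refine ⟨fun w hw g => ?_⟩
    obtain ⟨i, rfl⟩ := mem_zpowers_iff.mp hw
    rw [← conj_zpow]
    refine zpow_mem ?_ i
    rw [show g * x ^ (2 : ℤ) * g⁻¹ = (g * x * g⁻¹) * (g * x * g⁻¹) by rw [zpow_ofNat, sq]; group]
    exact hsqT _ (hNn.conj_mem x hxN g)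
  set π := QuotientGroup.mk' T
  have hπs : Function.Surjective π := QuotientGroup.mk'_surjective _
  set A := N.map π with hA
  have hAn : A.Normal := hNn.map π hπs
  have hAcard : Nat.card A ∣ 4 := by
    have hle : A = zpowers (π x) ⊔ zpowers (π z) := by
      refine le_antisymm ?_ (sup_le (zpowers_le.mpr (mem_map_of_mem π hxN)) (zpowers_le.mpr (mem_map_of_mem π
        (show z ∈ N from by show q z ∈ Nb; rw [show q z = 1 from (QuotientGroup.eq_one_iff z).mpr (mem_zpowers z)]; exact one_mem _))))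
      rintro _ ⟨w, hw, rfl⟩
      obtain ⟨i, e, rfl⟩ := hNrep w hw
      rw [map_mul, map_zpow, map_zpow]
      exact mul_mem_sup (zpow_mem (mem_zpowers _) i) (zpow_mem (mem_zpowers _) e)
    have hzcn : (zpowers (π z)).Normal := by
      rw [← MonoidHom.map_zpowers]; exact hzn.map π hπs
    rw [hle]
    refine (HallCore.card_sup_dvd _ _).trans ?_
    rw [Nat.card_zpowers, Nat.card_zpowers, show (4 : ℕ) = 2 * 2 from rfl]
    refine mul_dvd_mul (orderOf_dvd_of_pow_eq_one ?_) ((orderOf_map_dvd π z).trans hzo.dvd)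
    rw [← map_pow]
    exact (QuotientGroup.eq_one_iff _).mpr (by rw [hT, ← zpow_natCast]; exact mem_zpowers _)
  have hX : IsPGroup 2 (G ⧸ T) := h2.to_quotient T
  have hcA : commutator (G ⧸ T) ≤ A := by
    have hGN' : commutator G ≤ N := by
      have hcomm : ∀ u v : G ⧸ N, u * v = v * u := fun u v => (IsCyclic.isMulCommutative (α := G ⧸ N)).is_comm.comm u v
      rw [_root_.commutator_def, Subgroup.commutator_le]
      intro u _ v _
      rw [← QuotientGroup.eq_one_iff, ← QuotientGroup.mk'_apply, map_commutatorElement]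
      exact commutatorElement_eq_one_iff_mul_comm.mpr (hcomm _ _)
    rw [_root_.commutator_def, ← map_top_of_surjective π hπs, ← map_commutator]
    exact map_mono hGN'
  have hXc : commutator (G ⧸ T) ≤ center (G ⧸ T) := by
    by_cases h1 : commutator (G ⧸ T) = ⊥
    · rw [h1]; exact bot_le
    have hd : Nat.card (commutator (G ⧸ T)) ∣ 2 ^ 2 := (card_dvd_of_le hcA).trans hAcard
    obtain ⟨l, hl, hl'⟩ := (Nat.dvd_prime_pow Nat.prime_two).mp hd
    interval_cases l
    · exact absurd (card_eq_one.mp hl') h1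
    · exact PGroupsBasic.le_center_of_card_eq_prime hX (hl'.trans (pow_one 2))
    · exfalso
      have heq : commutator (G ⧸ T) = A := eq_of_le_of_card_ge hcA (by
        rw [hl']; exact Nat.le_of_dvd (by norm_num) hAcard)
      -- a cyclic quotient by the derived group forces commutativity
      have hcyc : IsCyclic ((G ⧸ T) ⧸ commutator (G ⧸ T)) := by
        let f : G ⧸ N →* (G ⧸ T) ⧸ commutator (G ⧸ T) := QuotientGroup.lift N
          ((QuotientGroup.mk' (commutator (G ⧸ T))).comp π) (fun w hw =>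
            (QuotientGroup.eq_one_iff (π w)).mpr (heq ▸ mem_map_of_mem π hw))
        exact isCyclic_of_surjective f (fun w => by
          obtain ⟨v, rfl⟩ := QuotientGroup.mk_surjective w
          obtain ⟨g, rfl⟩ := hπs v
          exact ⟨QuotientGroup.mk g, rfl⟩)
      obtain ⟨g, hg⟩ := hcyc.exists_generator
      obtain ⟨g, rfl⟩ := QuotientGroup.mk_surjective g
      have htop : zpowers g ⊔ frattini (G ⧸ T) = ⊤ := by
        refine eq_top_iff.mpr fun w _ => ?_
        obtain ⟨i, hi⟩ := mem_zpowers_iff.mp (hg (w : (G ⧸ T) ⧸ commutator (G ⧸ T)))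
        have := mul_mem_sup (zpow_mem (mem_zpowers g) i) (PGroupsBasic.commutator_le_frattini hX (QuotientGroup.eq.mp hi))
        rwa [mul_inv_cancel_left] at this
      have hcycX : IsCyclic (G ⧸ T) := isCyclic_iff_exists_zpowers_eq_top.mpr ⟨g, frattini_nongenerating htop⟩
      exact h1 (by
        rw [_root_.commutator_def, commutator_eq_bot_iff_le_centralizer]
        exact fun u _ => mem_centralizer_iff.mpr fun v _ => (IsCyclic.isMulCommutative (α := G ⧸ T)).is_comm.comm v u)
  have hGN' : commutator G ≤ N := by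
    intro w hw
    have hmem : π w ∈ A := hcA (by
      rw [_root_.commutator_def, ← map_top_of_surjective π hπs, ← map_commutator, ← _root_.commutator_def]
      exact mem_map_of_mem π hw)
    obtain ⟨v, hv, hvw⟩ := hmem
    have hTN : T ≤ N := zpowers_le.mpr (zpow_mem hxN 2)
    have := mul_mem hv (hTN (QuotientGroup.eq.mp hvw))
    rwa [mul_inv_cancel_left] at this
  have hRT : R ≤ T := normalClosure_le_normal (by
    rintro w (⟨g, v, hv, rfl⟩ | ⟨v, hv, rfl⟩)
    · rw [SetLike.mem_coe, ← QuotientGroup.eq_one_iff, ← QuotientGroup.mk'_apply, map_commutatorElement]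
      refine commutatorElement_eq_one_iff_mul_comm.mpr (mem_center_iff.mp (hXc ?_) _)
      rw [_root_.commutator_def, ← map_top_of_surjective π hπs, ← map_commutator, ← _root_.commutator_def]
      exact mem_map_of_mem π hv
    · exact hsqT v (hGN' hv))
  exact hzx (zpowers_le.mpr (zpow_mem (mem_zpowers x) 2) (hRT hz.1))

/-- A finite 2-group of sectional 2-rank at most 2 (every section has no elementary abelian subgroup of order 8) is metacyclic: it has a cyclic normal subgroup with cyclic quotient. -/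
theorem result {S : Type*} [Group S] [Finite S] (h2 : IsPGroup 2 S) (hr : Cfsg.SectionalPRankLE 2 2 S) : Cfsg.IsMetacyclic S := by
  exact main S h2 hr

end Cfsg.Agent.S4397
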