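import Cfsg.Statements.S4399
import Cfsg.Agent.Lib.MaxClassTwo
import Cfsg.Agent.Lib.PGroupsCyclic

set_option autoImplicit false
open Cfsg

namespace Cfsg.Agent.S4399


/-- Let S be a finite 2-group whose commutator quotient S/[S,S] is a Klein four-group (order 4 and exponent 2). Then S itself has order 4, or S is dihedral of order at least 8, semidihedral of order at least 16 (order 2^(k+4) with an element a of order 2^(k+3) and an involution b with b a b⁻¹ = a^(2^(k+2)−1)), or generalized quaternion of order at least 8. -/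
theorem result {S : Type*} [Group S] [Finite S] (h2 : IsPGroup 2 S) (hab : Nat.card (Abelianization S) = 4)
    (hexp : ∀ x : Abelianization S, x ^ 2 = 1) :
    Nat.card S = 4 ∨
    ((∃ k : ℕ, Nonempty (S ≃* DihedralGroup (2 ^ (k + 2)))) ∨
      (∃ k : ℕ, Nat.card S = 2 ^ (k + 4) ∧ ∃ a b : S, orderOf a = 2 ^ (k + 3) ∧ orderOf b = 2 ∧ b * a * b⁻¹ = a ^ (2 ^ (k + 2) - 1)) ∨
      (∃ k : ℕ, Nonempty (S ≃* QuaternionGroup (2 ^ (k + 1))))) := by
  have : Fact (Nat.Prime 2) := ⟨Nat.prime_two⟩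
  obtain ⟨n, hn⟩ := IsPGroup.iff_card.mp h2
  have hidx : (commutator S).index = 4 := hab
  have hmul := Subgroup.card_mul_index (commutator S)
  rw [hidx, hn] at hmul
  rcases Nat.lt_or_ge n 3 with hn3 | hn3
  · left
    rw [hn]
    have hpos : 0 < Nat.card (commutator S) := Nat.card_pos
    have hlt : 2 ^ n ≤ 2 ^ 2 := Nat.pow_le_pow_right two_pos (by omega)
    omega
  right
  have hK : IsKleinFour (S ⧸ commutator S) := by
    have : Nontrivial (S ⧸ commutator S) :=
      Finite.one_lt_card_iff_nontrivial.mp (by rw [show Nat.card (S ⧸ commutator S) = 4 from hab]; norm_num)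
    exact ⟨hab, (Monoid.exponent_eq_prime_iff (G := S ⧸ commutator S) (p := 2) Nat.prime_two).mpr
      fun g hg => orderOf_eq_prime (hexp g) hg⟩
  have hcl := MaxClassTwo.class_of_isKleinFour n S hn hn3 hK
  obtain ⟨C, hC, hCi, -, -, hZC, hsq⟩ := MaxClassTwo.structure_of_maxClass hn3 hn hcl
  obtain ⟨hZ, -, -, hnc⟩ := MaxClassTwo.center_of_maxClass hn3 hn hcl
  obtain ⟨⟨a, haC⟩, ha⟩ := hC.exists_generator
  have hCa : C = Subgroup.zpowers a := by
    refine le_antisymm (fun x hx => ?_) (Subgroup.zpowers_le.mpr haC)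
    obtain ⟨k, hk⟩ := Subgroup.mem_zpowers_iff.mp (ha ⟨x, hx⟩)
    exact Subgroup.mem_zpowers_iff.mpr ⟨k, congrArg Subtype.val hk⟩
  obtain ⟨m, rfl⟩ : ∃ m, n = m + 3 := ⟨n - 3, by omega⟩
  have hord : orderOf a = 2 ^ (m + 2) := by
    have h := Subgroup.card_mul_index C
    rw [hCi, hn, hCa, Nat.card_zpowers, show 2 ^ (m + 3) = 2 ^ (m + 2) * 2 from pow_succ _ _] at h
    exact Nat.eq_of_mul_eq_mul_right two_pos h
  obtain ⟨y, hy⟩ : ∃ y, y ∉ C := by
    by_contra h
    push Not at h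
    rw [show C = ⊤ from eq_top_iff.mpr fun x _ => h x, Subgroup.index_top] at hCi
    omega
  obtain ⟨z, hzdef⟩ : ∃ z, z = a ^ (2 ^ (m + 1)) := ⟨_, rfl⟩
  have hz2 : z ^ 2 = 1 := by rw [hzdef, ← pow_mul, ← pow_succ, ← hord]; exact pow_orderOf_eq_one a
  have hzmem : ∀ w, w ∈ Subgroup.center S → w = 1 ∨ w = z := by
    intro w hw
    have h2w : w ^ 2 = 1 := by
      have h := pow_card_eq_one' (x := (⟨w, hw⟩ : Subgroup.center S))
      rw [hZ] at h
      exact congrArg Subtype.val h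
    exact hzdef ▸ PGroupsCyclic.sq_eq_one_or_eq hord (hCa ▸ hZC hw) h2w
  have hCn : C.Normal := PGroupsBasic.normal_of_index_eq h2 hCi
  obtain ⟨r, hr⟩ := Subgroup.mem_zpowers_iff.mp (hCa ▸ hCn.conj_mem a haC y)
  have hya : y * a ∉ C := fun h => hy ((C.mul_mem_cancel_right haC).mp h)
  have hyy : y ^ 2 = 1 ∨ y ^ 2 = z := hzmem _ (hsq y hy)
  have hyay : (y * a) ^ 2 = y * a * y⁻¹ * a * y ^ 2 := by
    have hc : y ^ 2 * a = a * y ^ 2 := (Subgroup.mem_center_iff.mp (hsq y hy) a).symm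
    rw [mul_assoc (y * a * y⁻¹) a, ← hc]
    simp only [sq]
    group
  have hcase : y * a * y⁻¹ = a⁻¹ ∨ y * a * y⁻¹ = z * a⁻¹ := by
    have hw : y * a * y⁻¹ * a ∈ Subgroup.center S := by
      have : y * a * y⁻¹ * a = (y * a) ^ 2 * (y ^ 2)⁻¹ := by rw [hyay, mul_inv_cancel_right]
      rw [this]
      exact mul_mem (hsq _ hya) (inv_mem (hsq y hy))
    rcases hzmem _ hw with h | h
    · left; exact eq_inv_of_mul_eq_one_left h
    · right; exact eq_mul_inv_of_mul_eq h
  rcases hcase with hinv | hsd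
  · rcases hyy with h1 | h1
    · left
      refine ⟨m, PGroupsCyclic.nonempty_mulEquiv_dihedral hord (hCa ▸ hy) hinv h1 ?_⟩
      rw [hn, ← pow_succ']
    · right; right
      refine ⟨m, PGroupsCyclic.nonempty_mulEquiv_quaternion (N := 2 ^ (m + 1)) (x := a) (y := y) ?_ (hCa ▸ hy) hinv (hzdef ▸ h1) ?_⟩
      · rw [hord, ← pow_succ']
      · rw [hn, show (4 : ℕ) = 2 ^ 2 by norm_num, ← pow_add]; ring_nf
  · right; left
    obtain ⟨k, rfl⟩ : ∃ k, m = k + 1 := by
      refine ⟨m - 1, ?_⟩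
      by_contra hm0
      obtain rfl : m = 0 := by omega
      refine hnc fun u v => ?_
      have hfix : y * a * y⁻¹ = a := by rw [hsd, hzdef]; group
      have hcomm : C ≤ Subgroup.centralizer ({a} : Set S) := by
        rw [hCa]
        exact Subgroup.zpowers_le.mpr (Subgroup.mem_centralizer_singleton_iff.mpr rfl)
      have hymem : y ∈ Subgroup.centralizer ({a} : Set S) :=
        Subgroup.mem_centralizer_singleton_iff.mpr (mul_inv_eq_iff_eq_mul.mp hfix)
      have hlt : C < Subgroup.centralizer ({a} : Set S) :=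
        lt_of_le_of_ne hcomm fun h => hy (h ▸ hymem)
      have htop := (PGroupsBasic.isCoatom_of_index_eq hCi).2 _ hlt
      have hcen : a ∈ Subgroup.center S := Subgroup.mem_center_iff.mpr fun g => by
        have hg := Subgroup.mem_centralizer_singleton_iff.mp (htop ▸ Subgroup.mem_top g)
        exact hg
      have hle : C ≤ Subgroup.center S := by rw [hCa]; exact Subgroup.zpowers_le.mpr hcen
      have hcardle := Subgroup.card_le_of_le hle
      rw [hCa, Nat.card_zpowers, hord, hZ] at hcardle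
      omega
    have hexp' : a ^ (2 ^ (k + 2) - 1) = z * a⁻¹ := by
      rw [pow_sub a Nat.one_le_two_pow, pow_one, hzdef]
    refine ⟨k, ?_, a, ?_⟩
    · rw [hn]
    rcases hyy with h1 | h1
    · refine ⟨y, by rw [hord], orderOf_eq_prime h1 ?_, hexp' ▸ hsd⟩
      intro hy1; exact hy (hy1 ▸ C.one_mem)
    · refine ⟨y * a, by rw [hord], orderOf_eq_prime ?_ ?_, ?_⟩
      · rw [hyay, hsd, inv_mul_cancel_right, h1, ← sq, hz2]
      · intro hy1; exact hya (hy1 ▸ C.one_mem)
      · rw [hexp', ← hsd]; group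

end Cfsg.Agent.S4399
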