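import Cfsg.Statements.S4400
import Mathlib
import Cfsg.Agent.Lib.PGroupsBasic

set_option autoImplicit false
open Cfsg

namespace Cfsg.Agent.S4400

open Cfsg.Agent
open scoped commutatorElement

section

variable {S : Type*} [Group S] [Finite S]

theorem center_le_frattini {P : Subgroup S} (hp : IsPGroup 2 P) (hP : ¬ IsMulCommutative ↥P)
    (hZ : Nat.card ↥(Subgroup.center ↥P) = 2) :
    (Subgroup.center ↥P) ≤ frattini ↥P := by
  haveI : Fact (Nat.Prime 2) := ⟨Nat.prime_two⟩
  refine le_trans ?_ (PGroupsBasic.commutator_le_frattini hp)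
  have hne : commutator ↥P ≠ ⊥ := fun h => hP ⟨⟨fun a b => by
    have : ⁅a, b⁆ ∈ commutator ↥P :=
      Subgroup.commutator_mem_commutator (Subgroup.mem_top a) (Subgroup.mem_top b)
    rw [h, Subgroup.mem_bot] at this
    exact commutatorElement_eq_one_iff_mul_comm.1 this⟩⟩
  exact inf_eq_right.1 (Subgroup.eq_of_le_of_card_ge inf_le_right (by
    rw [hZ]
    exact (Subgroup.one_lt_card_iff_ne_bot _).2 (PGroupsBasic.inf_center_ne_bot hp hne)))

theorem four_le_index_frattini {P : Subgroup S} (hp : IsPGroup 2 P) (hP : ¬ IsMulCommutative ↥P) :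
    4 ≤ (frattini ↥P).index := by
  haveI : Fact (Nat.Prime 2) := ⟨Nat.prime_two⟩
  classical
  haveI := Fintype.ofFinite ↥P
  obtain ⟨T, -, hT, htop⟩ := PGroupsBasic.exists_basis_subset hp (Finset.univ : Finset ↥P)
    (by simp)
  rw [← hT]
  by_contra h
  have hT1 : T.card ≤ 1 := by
    by_contra h1
    exact h ((Nat.pow_le_pow_right two_pos (by omega : 2 ≤ T.card)))
  obtain ⟨a, ha⟩ := Finset.card_le_one_iff_subset_singleton.1 hT1
  have hz : Subgroup.zpowers a = ⊤ := top_le_iff.1 (htop ▸ by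
    rw [Subgroup.zpowers_eq_closure]
    exact Subgroup.closure_mono (by simpa using Finset.coe_subset.2 ha))
  haveI : IsCyclic ↥P := ⟨⟨a, fun x => Subgroup.mem_zpowers_iff.1 (hz ▸ Subgroup.mem_top x)⟩⟩
  exact hP IsCyclic.isMulCommutative

theorem center_map_eq (P : Subgroup S) :
    (Subgroup.center ↥P).map P.subtype = P ⊓ Subgroup.centralizer (P : Set S) := by
  ext x
  constructor
  · rintro ⟨y, hy, rfl⟩
    exact ⟨y.2, Subgroup.mem_centralizer_iff.2 fun g hg =>
      congrArg Subtype.val (Subgroup.mem_center_iff.1 hy ⟨g, hg⟩)⟩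
  · rintro ⟨hxP, hxC⟩
    exact ⟨⟨x, hxP⟩, Subgroup.mem_center_iff.2 fun g =>
      Subtype.ext (Subgroup.mem_centralizer_iff.1 hxC g g.2), rfl⟩

/-- Normal subgroups with different central involutions are disjoint. -/
theorem disjoint_of_center_ne (h2 : IsPGroup 2 S) (P Q : Subgroup S) [P.Normal] [Q.Normal]
    (hZP : Nat.card ↥(Subgroup.center ↥P) = 2) (hZQ : Nat.card ↥(Subgroup.center ↥Q) = 2)
    (hne : (Subgroup.center ↥P).map P.subtype ≠ (Subgroup.center ↥Q).map Q.subtype) :
    P ⊓ Q = ⊥ := by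
  haveI : Fact (Nat.Prime 2) := ⟨Nat.prime_two⟩
  by_contra hPQ
  refine hne ?_
  have hN := PGroupsBasic.inf_center_ne_bot h2 (N := P ⊓ Q) hPQ
  have key : ∀ R : Subgroup S, P ⊓ Q ≤ R → Nat.card ↥(Subgroup.center ↥R) = 2 →
      P ⊓ Q ⊓ Subgroup.center S = (Subgroup.center ↥R).map R.subtype := fun R hle hR => by
    refine Subgroup.eq_of_le_of_card_ge (fun x hx => ?_) ?_
    · rw [center_map_eq]
      exact ⟨hle hx.1, Subgroup.center_le_centralizer _ hx.2⟩
    · rw [Subgroup.card_map_of_injective R.subtype_injective, hR]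
      exact (Subgroup.one_lt_card_iff_ne_bot _).2 hN
  rw [← key P inf_le_left hZP, ← key Q inf_le_right hZQ]

/-- The product of two disjoint commuting subgroups with small centres contains its centralizer,
in sectional rank at most four. -/
theorem centralizer_le_sup (h2 : IsPGroup 2 S) (hr : Cfsg.SectionalPRankLE 2 4 S)
    (P Q : Subgroup S) [P.Normal] [Q.Normal] (hP : ¬ IsMulCommutative ↥P)
    (hQ : ¬ IsMulCommutative ↥Q) (hZP : Nat.card ↥(Subgroup.center ↥P) = 2)
    (hZQ : Nat.card ↥(Subgroup.center ↥Q) = 2) (hPQ : P ⊓ Q = ⊥) :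
    Subgroup.centralizer ((P ⊔ Q : Subgroup S) : Set S) ≤ P ⊔ Q := by
  classical
  haveI : Fact (Nat.Prime 2) := ⟨Nat.prime_two⟩
  by_contra hle
  obtain ⟨c₀, hc₀C, hc₀⟩ := SetLike.not_le_iff_exists.1 hle
  have hcomm : ∀ x ∈ P, ∀ y ∈ Q, x * y = y * x := fun x hx y hy => by
    have hb : ⁅P, Q⁆ = ⊥ := le_bot_iff.1 (hPQ ▸ Subgroup.commutator_le_inf P Q)
    exact commutatorElement_eq_one_iff_mul_comm.1
      (Subgroup.mem_bot.1 (hb ▸ Subgroup.commutator_mem_commutator hx hy))
  -- an element outside whose square is inside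
  obtain ⟨c, hcC, hc, hc2⟩ : ∃ c ∈ Subgroup.centralizer ((P ⊔ Q : Subgroup S) : Set S),
      c ∉ P ⊔ Q ∧ c ^ 2 ∈ P ⊔ Q := by
    have hex : ∃ k, c₀ ^ 2 ^ k ∈ P ⊔ Q := ⟨_, by
      rw [(h2 c₀).choose_spec]; exact one_mem _⟩
    obtain ⟨k, hk⟩ : ∃ k, Nat.find hex = k + 1 := by
      refine ⟨Nat.find hex - 1, (Nat.succ_pred_eq_of_ne_zero fun h0 => ?_).symm⟩
      have := Nat.find_spec hex
      rw [h0, pow_zero, pow_one] at this
      exact hc₀ this
    refine ⟨c₀ ^ 2 ^ k, Subgroup.pow_mem _ hc₀C _, Nat.find_min hex (by omega), ?_⟩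
    rw [← pow_mul, ← pow_succ, ← hk]
    exact Nat.find_spec hex
  set H : Subgroup S := P ⊔ Q ⊔ Subgroup.zpowers c with hH
  set FP : Subgroup S := (frattini ↥P).map P.subtype with hFP
  set FQ : Subgroup S := (frattini ↥Q).map Q.subtype with hFQ
  set N : Subgroup S := FP ⊔ FQ with hN
  have hFPle : FP ≤ P := Subgroup.map_subtype_le _
  have hFQle : FQ ≤ Q := Subgroup.map_subtype_le _
  have hNle : N ≤ H := (sup_le_sup hFPle hFQle).trans le_sup_left
  have hcP : ∀ x ∈ P, c * x = x * c := fun x hx =>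
    (Subgroup.mem_centralizer_iff.1 hcC x (le_sup_left (b := Q) hx)).symm
  have hcQ : ∀ x ∈ Q, c * x = x * c := fun x hx =>
    (Subgroup.mem_centralizer_iff.1 hcC x (le_sup_right (a := P) hx)).symm
  have hFn : ∀ R : Subgroup S, R.Normal → ((frattini ↥R).map R.subtype).Normal := fun R hR => by
    haveI := hR
    exact ConjAct.normal_of_characteristic_of_normal
  haveI : FP.Normal := hFn P inferInstance
  haveI : FQ.Normal := hFn Q inferInstance
  haveI : N.Normal := Subgroup.sup_normal FP FQ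
  -- the image of `H` modulo `N` is elementary abelian
  have hgen : Subgroup.closure ((P : Set S) ∪ (Q : Set S) ∪ {c}) = H := by
    rw [Subgroup.closure_union, Subgroup.closure_union, Subgroup.closure_eq, Subgroup.closure_eq,
      ← Subgroup.zpowers_eq_closure]
  let f := QuotientGroup.mk' N
  have hPcomm : ∀ R : Subgroup S, (frattini ↥R).map R.subtype ≤ N → ∀ x ∈ R, ∀ y ∈ R,
      f x * f y = f y * f x := fun R hR x hx y hy => by
    rw [← commutatorElement_eq_one_iff_mul_comm, ← map_commutatorElement]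
    refine (QuotientGroup.eq_one_iff _).2 (hR ⟨⁅(⟨x, hx⟩ : R), ⟨y, hy⟩⁆, ?_, rfl⟩)
    exact PGroupsBasic.commutator_le_frattini (h2.to_subgroup R)
      (Subgroup.commutator_mem_commutator (Subgroup.mem_top _) (Subgroup.mem_top _))
  have hPsq : ∀ R : Subgroup S, (frattini ↥R).map R.subtype ≤ N → ∀ x ∈ R, f x ^ 2 = 1 :=
    fun R hR x hx => by
    rw [← map_pow]
    exact (QuotientGroup.eq_one_iff _).2
      (hR ⟨(⟨x, hx⟩ : R) ^ 2, PGroupsBasic.pow_mem_frattini (h2.to_subgroup R) _, rfl⟩)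
  have hc2N : c ^ 2 ∈ N := by
    have h1 : (c ^ 2 : S) ∈ Subgroup.centralizer ((P ⊔ Q : Subgroup S) : Set S) :=
      Subgroup.pow_mem _ hcC 2
    obtain ⟨a, ha, b, hb, hab⟩ := Subgroup.mem_sup_of_normal_right.1 hc2
    have hz : ∀ R : Subgroup S, R ≤ P ⊔ Q → ¬ IsMulCommutative ↥R →
        Nat.card ↥(Subgroup.center ↥R) = 2 → ∀ a ∈ R,
        a ∈ Subgroup.centralizer (R : Set S) → a ∈ (frattini ↥R).map R.subtype := by
      intro R _ hR hZ a ha haC
      have : a ∈ (Subgroup.center ↥R).map R.subtype := center_map_eq R ▸ ⟨ha, haC⟩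
      exact Subgroup.map_mono (center_le_frattini (h2.to_subgroup R) hR hZ) this
    rw [← hab]
    refine N.mul_mem (le_sup_left (b := FQ) (hz P le_sup_left hP hZP a ha ?_))
      (le_sup_right (a := FP) (hz Q le_sup_right hQ hZQ b hb ?_))
    · refine Subgroup.mem_centralizer_iff.2 fun x hx => ?_
      have e := Subgroup.mem_centralizer_iff.1 h1 x (le_sup_left (b := Q) hx)
      rw [← hab, ← mul_assoc, mul_assoc a b x, ← hcomm x hx b hb, ← mul_assoc] at e
      exact mul_right_cancel e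
    · refine Subgroup.mem_centralizer_iff.2 fun x hx => ?_
      have e := Subgroup.mem_centralizer_iff.1 h1 x (le_sup_right (a := P) hx)
      rw [← hab, ← mul_assoc, ← hcomm a ha x hx, mul_assoc, mul_assoc] at e
      exact mul_left_cancel e
  have hsc : ∀ x ∈ ((P : Set S) ∪ (Q : Set S) ∪ {c}), ∀ y ∈ ((P : Set S) ∪ (Q : Set S) ∪ {c}),
      f x * f y = f y * f x := by
    rintro x ((hx | hx) | rfl) y ((hy | hy) | rfl)
    · exact hPcomm P le_sup_left x hx y hy
    · rw [← map_mul, ← map_mul, hcomm x hx y hy]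
    · rw [← map_mul, ← map_mul, hcP x hx]
    · rw [← map_mul, ← map_mul, hcomm y hy x hx]
    · exact hPcomm Q le_sup_right x hx y hy
    · rw [← map_mul, ← map_mul, hcQ x hx]
    · rw [← map_mul, ← map_mul, hcP y hy]
    · rw [← map_mul, ← map_mul, hcQ y hy]
    · rfl
  have hel : Cfsg.IsElementaryAbelian 2 (H.map f) := by
    rw [← hgen, MonoidHom.map_closure]
    refine PGroupsBasic.isElementaryAbelian_closure ?_ ?_
    · rintro _ ⟨x, hx, rfl⟩ _ ⟨y, hy, rfl⟩; exact hsc x hx y hy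
    · rintro _ ⟨x, ((hx | hx) | rfl), rfl⟩
      · exact hPsq P le_sup_left x hx
      · exact hPsq Q le_sup_right x hx
      · rw [← map_pow]; exact (QuotientGroup.eq_one_iff _).2 hc2N
  -- count
  have hsec := hr H (N.subgroupOf H)
  let e : H ⧸ N.subgroupOf H ≃* H.map f :=
    (QuotientGroup.quotientMulEquivOfEq (show N.subgroupOf H = (f.comp H.subtype).ker from
      Subgroup.ext fun x => (QuotientGroup.eq_one_iff (N := N) (x : S)).symm)).trans
      ((QuotientGroup.quotientKerEquivRange (f.comp H.subtype)).trans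
        (MulEquiv.subgroupCongr (by rw [MonoidHom.range_comp, Subgroup.range_subtype])))
  have hle16 : Nat.card (H ⧸ N.subgroupOf H) ≤ 2 ^ 4 := by
    have h := hsec ⊤ ⟨⟨fun a b => Subtype.ext (e.injective (by
      rw [Subgroup.coe_mul, Subgroup.coe_mul, map_mul, map_mul]
      exact hel.1.is_comm.comm _ _))⟩⟩ (fun a _ => e.injective (by
      rw [map_pow, map_one]; exact Subtype.ext (hel.2 _ (e a).2)))
    rwa [Subgroup.card_top] at h
  have hcard : Nat.card (H ⧸ N.subgroupOf H) * Nat.card N = Nat.card H := by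
    rw [Subgroup.card_eq_card_quotient_mul_card_subgroup (N.subgroupOf H),
      Nat.card_congr (Subgroup.subgroupOfEquivOfLe hNle).toEquiv]
  have hNc : Nat.card N ≤ Nat.card FP * Nat.card FQ := by
    rw [PGroupsBasic.card_sup_of_normal (le_bot_iff.1 (hPQ ▸ inf_le_inf hFPle hFQle))]
  have hPQc : Nat.card ↥(P ⊔ Q) = Nat.card P * Nat.card Q := PGroupsBasic.card_sup_of_normal hPQ
  have hHc : 2 * Nat.card ↥(P ⊔ Q) ≤ Nat.card H := by
    have hlt : P ⊔ Q < H := lt_of_le_of_ne le_sup_left fun e => hc (by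
      rw [e]; exact le_sup_right (a := P ⊔ Q) (Subgroup.mem_zpowers c))
    have h3 := Subgroup.card_mul_index ((P ⊔ Q).subgroupOf H)
    rw [Nat.card_congr (Subgroup.subgroupOfEquivOfLe hlt.le).toEquiv] at h3
    have h4 : 2 ≤ ((P ⊔ Q).subgroupOf H).index := by
      have := Subgroup.index_ne_zero_of_finite (H := (P ⊔ Q).subgroupOf H)
      have h5 : ((P ⊔ Q).subgroupOf H).index ≠ 1 := fun h5 =>
        hlt.not_ge (Subgroup.subgroupOf_eq_top.1 (Subgroup.index_eq_one.1 h5))
      omega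
    rw [← h3, mul_comm 2]
    exact Nat.mul_le_mul_left _ h4
  have hP4 : 4 * Nat.card FP ≤ Nat.card P := by
    rw [← (frattini ↥P).card_mul_index, Subgroup.card_map_of_injective P.subtype_injective,
      mul_comm]
    exact Nat.mul_le_mul_left _ (four_le_index_frattini (h2.to_subgroup P) hP)
  have hQ4 : 4 * Nat.card FQ ≤ Nat.card Q := by
    rw [← (frattini ↥Q).card_mul_index, Subgroup.card_map_of_injective Q.subtype_injective,
      mul_comm]
    exact Nat.mul_le_mul_left _ (four_le_index_frattini (h2.to_subgroup Q) hQ)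
  have hpos : 0 < Nat.card FP * Nat.card FQ := Nat.mul_pos Nat.card_pos Nat.card_pos
  nlinarith [Nat.mul_le_mul hP4 hQ4, Nat.mul_le_mul hle16 hNc]

end


/-- Let S be a finite 2-group of sectional 2-rank at most 4, and let P and Q be normal non-abelian subgroups of S whose centres have order 2 and are different. Then P and Q commute elementwise and intersect trivially, and PQ contains its own centralizer in S. -/
theorem result {S : Type*} [Group S] [Finite S] (h2 : IsPGroup 2 S) (hr : Cfsg.SectionalPRankLE 2 4 S)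
    (P Q : Subgroup S) [P.Normal] [Q.Normal] (hP : ¬ IsMulCommutative ↥P) (hQ : ¬ IsMulCommutative ↥Q)
    (hZP : Nat.card ↥(Subgroup.center ↥P) = 2) (hZQ : Nat.card ↥(Subgroup.center ↥Q) = 2)
    (hne : (Subgroup.center ↥P).map P.subtype ≠ (Subgroup.center ↥Q).map Q.subtype) :
    ⁅P, Q⁆ = ⊥ ∧ P ⊓ Q = ⊥ ∧ Subgroup.centralizer ((P ⊔ Q : Subgroup S) : Set S) ≤ P ⊔ Q := by
  have hd := disjoint_of_center_ne h2 P Q hZP hZQ hne
  exact ⟨le_bot_iff.1 (hd ▸ Subgroup.commutator_le_inf P Q), hd,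
    centralizer_le_sup h2 hr P Q hP hQ hZP hZQ hd⟩

end Cfsg.Agent.S4400
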