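import Cfsg.Statements.S4401
import Mathlib
import Cfsg.Agent.Lib.PGroupsBasic
import Cfsg.Agent.S4400

set_option autoImplicit false
open Cfsg

namespace Cfsg.Agent.S4401

open Cfsg.Agent
open scoped commutatorElement

/-- Sectional rank is inherited along injective homomorphisms. -/
theorem sectional_of_injective {S X : Type*} [Group S] [Group X] {p k : ℕ}
    (hr : Cfsg.SectionalPRankLE p k S) (f : X →* S) (hf : Function.Injective f) :
    Cfsg.SectionalPRankLE p k X := by
  intro H N _ A hA hAp
  let e : H ≃* H.map f := H.equivMapOfInjective f hf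
  haveI : (N.map e.toMonoidHom).Normal := Subgroup.Normal.map ‹N.Normal› _ e.surjective
  let e' : H ⧸ N ≃* H.map f ⧸ N.map e.toMonoidHom := QuotientGroup.congr N _ e rfl
  have h := hr (H.map f) (N.map e.toMonoidHom) (A.map e'.toMonoidHom)
    ⟨⟨fun ⟨_, a, ha, ha'⟩ ⟨_, b, hb, hb'⟩ => Subtype.ext (by
      subst ha' hb'
      show e' a * e' b = e' b * e' a
      rw [← map_mul, ← map_mul, PGroupsBasic.comm_of_isMulCommutative hA ha hb])⟩⟩
    (fun _ ⟨a, ha, ha'⟩ => by subst ha'; rw [← map_pow, hAp a ha, map_one])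
  rwa [Subgroup.card_map_of_injective (f := e'.toMonoidHom) e'.injective] at h

/-- If `X × X` has sectional rank at most `4` then `X` has sectional rank at most `2`. -/
theorem sectional_half {X : Type*} [Group X] (hr : Cfsg.SectionalPRankLE 2 4 (X × X)) :
    Cfsg.SectionalPRankLE 2 2 X := by
  intro H N _ A hA hAp
  let π : (H.prod H : Subgroup (X × X)) →* (H ⧸ N) × (H ⧸ N) :=
    ((QuotientGroup.mk' N).prodMap (QuotientGroup.mk' N)).comp (Subgroup.prodEquiv H H).toMonoidHom
  have hπ : Function.Surjective π := fun x => by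
    obtain ⟨a, ha⟩ := QuotientGroup.mk'_surjective N x.1
    obtain ⟨b, hb⟩ := QuotientGroup.mk'_surjective N x.2
    exact ⟨(Subgroup.prodEquiv H H).symm (a, b), Prod.ext ha hb⟩
  let e : (H.prod H : Subgroup (X × X)) ⧸ π.ker ≃* (H ⧸ N) × (H ⧸ N) :=
    QuotientGroup.quotientKerEquivOfSurjective π hπ
  have h := hr (H.prod H) π.ker ((A.prod A).map e.symm.toMonoidHom)
    ⟨⟨fun ⟨_, a, ha, ha'⟩ ⟨_, b, hb, hb'⟩ => Subtype.ext (by
      subst ha' hb'
      show e.symm a * e.symm b = e.symm b * e.symm a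
      rw [← map_mul, ← map_mul]
      congr 1
      exact Prod.ext (PGroupsBasic.comm_of_isMulCommutative hA ha.1 hb.1)
        (PGroupsBasic.comm_of_isMulCommutative hA ha.2 hb.2))⟩⟩
    (fun _ ⟨a, ha, ha'⟩ => by
      subst ha'
      rw [← map_pow, show a ^ 2 = 1 from Prod.ext (hAp _ ha.1) (hAp _ ha.2), map_one])
  rw [Subgroup.card_map_of_injective (f := e.symm.toMonoidHom) e.symm.injective,
    Nat.card_congr (Subgroup.prodEquiv A A).toEquiv, Nat.card_prod] at h
  nlinarith

theorem exists_center_generator {S : Type*} [Group S] [Finite S] {P : Subgroup S}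
    (hZ : Nat.card ↥(Subgroup.center ↥P) = 2) :
    ∃ z : S, z ≠ 1 ∧ z ∈ P ∧ (∀ x ∈ P, x * z = z * x) ∧
      (∀ x ∈ (Subgroup.center ↥P).map P.subtype, x = 1 ∨ x = z) ∧
      z ∈ (Subgroup.center ↥P).map P.subtype := by
  obtain ⟨z, hz, huniq⟩ := (Nat.card_eq_two_iff' (1 : ↥(Subgroup.center ↥P))).1 hZ
  refine ⟨((z : ↥P) : S), fun h => hz (Subtype.ext (Subtype.ext h)), (z : ↥P).2,
    fun x hx => congrArg Subtype.val (Subgroup.mem_center_iff.1 z.2 ⟨x, hx⟩), ?_, ⟨_, z.2, rfl⟩⟩
  rintro _ ⟨y, hy, rfl⟩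
  by_cases h : (⟨y, hy⟩ : ↥(Subgroup.center ↥P)) = 1
  · exact Or.inl (congrArg Subtype.val (congrArg Subtype.val h))
  · exact Or.inr (congrArg Subtype.val (congrArg Subtype.val (huniq _ h)))


/-- Let S be a finite 2-group of sectional 2-rank at most 4 and P a proper non-abelian subgroup whose centre has order 2. Let S₀ be the centralizer in S of Z(P) and suppose P is normal in S₀. Then either S₀ = S, or P has sectional 2-rank at most 2 and S₀ has index 2 in S. -/
theorem result {S : Type*} [Group S] [Finite S] (h2 : IsPGroup 2 S) (hr : Cfsg.SectionalPRankLE 2 4 S)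
    (P : Subgroup S) (hPlt : P ≠ ⊤) (hP : ¬ IsMulCommutative ↥P) (hZP : Nat.card ↥(Subgroup.center ↥P) = 2)
    (S₀ : Subgroup S) (hS₀ : S₀ = Subgroup.centralizer (((Subgroup.center ↥P).map P.subtype : Subgroup S) : Set S))
    (hPn : ∀ s ∈ S₀, ∀ x ∈ P, s * x * s⁻¹ ∈ P) :
    S₀ = ⊤ ∨ (Cfsg.SectionalPRankLE 2 2 ↥P ∧ S₀.index = 2) := by
  classical
  haveI : Fact (Nat.Prime 2) := ⟨Nat.prime_two⟩
  by_cases htop : S₀ = ⊤
  · exact Or.inl htop
  right
  obtain ⟨z, hz1, hzP, hzc, hzZ, hzmem⟩ := exists_center_generator hZP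
  have hS₀mem : ∀ s : S, s ∈ S₀ ↔ s * z = z * s := fun s => by
    rw [hS₀, Subgroup.mem_centralizer_iff]
    refine ⟨fun h => (h z hzmem).symm, fun h x hx => ?_⟩
    rcases hzZ x hx with rfl | rfl
    · simp
    · exact h.symm
  have hPS₀ : P ≤ S₀ := fun x hx => (hS₀mem x).2 (hzc x hx)
  let P₁ : Subgroup S → Subgroup ↥S₀ := fun R => R.subgroupOf S₀
  let cP : S → Subgroup S := fun g => P.map (MulAut.conj g).toMonoidHom
  have hcP_mem : ∀ g x, x ∈ cP g ↔ g⁻¹ * x * g ∈ P := fun g x => by
    rw [Subgroup.mem_map_equiv, MulAut.conj_symm_apply]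
  have hN : ∀ g, g ∈ Subgroup.normalizer (S₀ : Set S) → ∀ x, x ∈ S₀ ↔ g * x * g⁻¹ ∈ S₀ :=
    fun g hg x => Subgroup.mem_normalizer_iff.1 hg x
  have hcPle : ∀ g ∈ Subgroup.normalizer (S₀ : Set S), cP g ≤ S₀ := fun g hg x hx => by
    have := (hN g hg _).1 (hPS₀ ((hcP_mem g x).1 hx))
    simpa [mul_assoc] using this
  have hcPn : ∀ g ∈ Subgroup.normalizer (S₀ : Set S), ∀ s ∈ S₀, ∀ x ∈ cP g, s * x * s⁻¹ ∈ cP g := by
    intro g hg s hs x hx
    rw [hcP_mem] at hx ⊢
    have hs' : g⁻¹ * s * g ∈ S₀ := by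
      have := (hN g⁻¹ (inv_mem hg) s).1 hs
      simpa using this
    have := hPn _ hs' _ hx
    simpa [mul_assoc] using this
  have hnorm : ∀ g ∈ Subgroup.normalizer (S₀ : Set S), (P₁ (cP g)).Normal := fun g hg =>
    ⟨fun x hx s => hcPn g hg s s.2 x hx⟩
  have hzg : ∀ g x, x ∈ cP g → x * (g * z * g⁻¹) = (g * z * g⁻¹) * x := fun g x hx => by
    have := congrArg (fun t => g * t * g⁻¹) (hzc _ ((hcP_mem g x).1 hx))
    simpa [mul_assoc] using this
  let eP : ∀ g, g ∈ Subgroup.normalizer (S₀ : Set S) → ↥P ≃* ↥(P₁ (cP g)) := fun g hg =>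
    (P.equivMapOfInjective (MulAut.conj g).toMonoidHom (MulAut.conj g).injective).trans
      (Subgroup.subgroupOfEquivOfLe (hcPle g hg)).symm
  have hncomm : ∀ g (hg : g ∈ Subgroup.normalizer (S₀ : Set S)), ¬ IsMulCommutative ↥(P₁ (cP g)) :=
    fun g hg h => hP ⟨⟨fun a b => (eP g hg).injective (by
      rw [map_mul, map_mul]; exact h.is_comm.comm _ _)⟩⟩
  have hcard : ∀ g (hg : g ∈ Subgroup.normalizer (S₀ : Set S)),
      Nat.card ↥(Subgroup.center ↥(P₁ (cP g))) = 2 := fun g hg => by
    rw [← hZP]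
    exact (Nat.card_congr (Subgroup.centerCongr (eP g hg)).toEquiv).symm
  -- two conjugates with different central involutions
  have hpair : ∀ g h (hg : g ∈ Subgroup.normalizer (S₀ : Set S))
      (hh : h ∈ Subgroup.normalizer (S₀ : Set S)), g * z * g⁻¹ ≠ h * z * h⁻¹ →
      (∀ x ∈ cP g, ∀ y ∈ cP h, x * y = y * x) ∧ cP g ⊓ cP h = ⊥ ∧
      (∀ x ∈ S₀, (∀ y ∈ cP g, y * x = x * y) → (∀ y ∈ cP h, y * x = x * y) →
        x ∈ cP g ⊔ cP h) := by
    intro g h hg hh hne
    haveI := hnorm g hg
    haveI := hnorm h hh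
    have h2' := h2.to_subgroup S₀
    have hmem : ∀ g (hg : g ∈ Subgroup.normalizer (S₀ : Set S)),
        ∀ x ∈ (Subgroup.center ↥(P₁ (cP g))).map (P₁ (cP g)).subtype,
          (x : S) = 1 ∨ (x : S) = g * z * g⁻¹ := by
      intro g hg x hx
      rw [S4400.center_map_eq] at hx
      obtain ⟨hx1, hx2⟩ := hx
      have hy : g⁻¹ * x * g ∈ (Subgroup.center ↥P).map P.subtype := by
        rw [S4400.center_map_eq]
        refine ⟨(hcP_mem g x).1 hx1, Subgroup.mem_centralizer_iff.2 fun u hu => ?_⟩
        have hu' : g * u * g⁻¹ ∈ cP g := (hcP_mem g _).2 (by simpa [mul_assoc] using hu)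
        have hcm := congrArg Subtype.val
          (Subgroup.mem_centralizer_iff.1 hx2 ⟨_, hcPle g hg hu'⟩ hu')
        have := congrArg (fun t => g⁻¹ * t * g) hcm
        simpa [mul_assoc] using this
      rcases hzZ _ hy with e | e
      · left
        have := congrArg (fun t => g * t * g⁻¹) e
        simpa [mul_assoc] using this
      · right
        have := congrArg (fun t => g * t * g⁻¹) e
        simpa [mul_assoc] using this
    have hne' : (Subgroup.center ↥(P₁ (cP g))).map (P₁ (cP g)).subtype ≠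
        (Subgroup.center ↥(P₁ (cP h))).map (P₁ (cP h)).subtype := by
      intro e
      have hgP : g * z * g⁻¹ ∈ cP g := (hcP_mem g _).2 (by simpa [mul_assoc] using hzP)
      have hz_in : (⟨g * z * g⁻¹, hcPle g hg hgP⟩ : ↥S₀) ∈
          (Subgroup.center ↥(P₁ (cP g))).map (P₁ (cP g)).subtype := by
        rw [S4400.center_map_eq]
        exact ⟨hgP, Subgroup.mem_centralizer_iff.2 fun u hu => Subtype.ext (hzg g u hu)⟩
      rw [e] at hz_in
      rcases hmem h hh _ hz_in with e' | e'
      · exact hz1 (conj_eq_one_iff.1 e')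
      · exact hne e'
    have hd := S4400.disjoint_of_center_ne h2' _ _ (hcard g hg) (hcard h hh) hne'
    have hcm : ⁅P₁ (cP g), P₁ (cP h)⁆ = ⊥ := le_bot_iff.1 (hd ▸ Subgroup.commutator_le_inf _ _)
    have hcent := S4400.centralizer_le_sup h2' (sectional_of_injective hr S₀.subtype
      S₀.subtype_injective) _ _ (hncomm g hg) (hncomm h hh) (hcard g hg) (hcard h hh) hd
    refine ⟨fun x hx y hy => ?_, ?_, ?_⟩
    · have h5 := Subgroup.commutator_mem_commutator
          (show (⟨x, hcPle g hg hx⟩ : ↥S₀) ∈ P₁ (cP g) from hx)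
          (show (⟨y, hcPle h hh hy⟩ : ↥S₀) ∈ P₁ (cP h) from hy)
      rw [hcm, Subgroup.mem_bot] at h5
      exact congrArg Subtype.val (commutatorElement_eq_one_iff_mul_comm.1 h5)
    · refine le_bot_iff.1 fun x hx => ?_
      have hxx : (⟨x, hcPle g hg hx.1⟩ : ↥S₀) ∈ P₁ (cP g) ⊓ P₁ (cP h) := ⟨hx.1, hx.2⟩
      rw [hd, Subgroup.mem_bot] at hxx
      exact congrArg Subtype.val hxx
    · intro x hx h1 h2x
      have hxc : (⟨x, hx⟩ : ↥S₀) ∈ P₁ (cP g) ⊔ P₁ (cP h) := hcent (by
        rw [Subgroup.sup_eq_closure, Subgroup.centralizer_closure, Subgroup.mem_centralizer_iff]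
        rintro u (hu | hu)
        · exact Subtype.ext (h1 u hu)
        · exact Subtype.ext (h2x u hu))
      have h3 : x ∈ (P₁ (cP g) ⊔ P₁ (cP h)).map S₀.subtype := ⟨_, hxc, rfl⟩
      rw [Subgroup.map_sup] at h3
      exact sup_le_sup (Subgroup.map_comap_le _ _) (Subgroup.map_comap_le _ _) h3
  have h1N : (1 : S) ∈ Subgroup.normalizer (S₀ : Set S) := one_mem _
  have hcP1 : cP 1 = P := Subgroup.ext fun x => by rw [hcP_mem]; simp
  obtain ⟨y, hyN, hy⟩ := SetLike.exists_of_lt (PGroupsBasic.lt_normalizer h2 htop)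
  have hyz : (1 : S) * z * 1⁻¹ ≠ y * z * y⁻¹ := by
    intro e
    exact hy ((hS₀mem y).2 (mul_inv_eq_iff_eq_mul.1 (by simpa using e.symm)))
  refine ⟨?_, ?_⟩
  · -- rank of P
    obtain ⟨hc, hd, -⟩ := hpair 1 y h1N hyN hyz
    rw [hcP1] at hc hd
    have hy' : ∀ b : ↥P, y * b * y⁻¹ ∈ cP y := fun b =>
      (hcP_mem y _).2 (by simp [mul_assoc])
    let f : ↥P × ↥P →* S :=
      MonoidHom.mk' (fun x => (x.1 : S) * (y * x.2 * y⁻¹)) fun a b => by
        show (a.1 : S) * b.1 * (y * (a.2 * b.2 : ↥P) * y⁻¹) = _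
        rw [Subgroup.coe_mul, show y * ((a.2 : S) * b.2) * y⁻¹ = (y * a.2 * y⁻¹) * (y * b.2 * y⁻¹) by group]
        rw [mul_assoc (a.1 : S), ← mul_assoc (b.1 : S), hc _ b.1.2 _ (hy' a.2)]
        group
    have hf : Function.Injective f := by
      rw [injective_iff_map_eq_one]
      intro x hx
      have hx' : (x.1 : S) = (y * x.2 * y⁻¹)⁻¹ := eq_inv_of_mul_eq_one_left hx
      have h1 : (x.1 : S) ∈ P ⊓ cP y := ⟨x.1.2, hx' ▸ (cP y).inv_mem (hy' x.2)⟩
      rw [hd, Subgroup.mem_bot] at h1
      refine Prod.ext (Subtype.ext h1) (Subtype.ext ?_)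
      rw [h1, eq_comm, inv_eq_one, conj_eq_one_iff] at hx'
      exact hx'
    exact sectional_half (sectional_of_injective hr f hf)
  · -- index two in the normalizer
    have key : ∀ u v, u ∈ Subgroup.normalizer (S₀ : Set S) → v ∈ Subgroup.normalizer (S₀ : Set S) →
        u ∉ S₀ → v ∉ S₀ → u * z * u⁻¹ = v * z * v⁻¹ := by
      intro u v hu hv hu0 hv0
      by_contra hne
      have hone : ∀ g, g ∉ S₀ → (1 : S) * z * 1⁻¹ ≠ g * z * g⁻¹ := fun g hg e =>
        hg ((hS₀mem g).2 (mul_inv_eq_iff_eq_mul.1 (by simpa using e.symm)))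
      obtain ⟨hc1, -, hC⟩ := hpair 1 u h1N hu (hone u hu0)
      obtain ⟨hc2, -, -⟩ := hpair 1 v h1N hv (hone v hv0)
      obtain ⟨hc3, -, -⟩ := hpair u v hu hv hne
      refine hncomm v hv ⟨⟨fun a b => Subtype.ext (Subtype.ext ?_)⟩⟩
      have hb : (b : S) ∈ cP 1 ⊔ cP u :=
        hC _ (hcPle v hv b.2) (fun x hx => hc2 x hx _ b.2) (fun x hx => hc3 x hx _ b.2)
      have : cP 1 ⊔ cP u ≤ Subgroup.centralizer ({(a : S)} : Set S) := sup_le
        (fun x hx => Subgroup.mem_centralizer_singleton_iff.2 (hc2 x hx _ a.2))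
        (fun x hx => Subgroup.mem_centralizer_singleton_iff.2 (hc3 x hx _ a.2))
      exact (Subgroup.mem_centralizer_singleton_iff.1 (this hb)).symm
    have hprod : ∀ u v, u ∈ Subgroup.normalizer (S₀ : Set S) → v ∈ Subgroup.normalizer (S₀ : Set S) →
        u ∉ S₀ → v ∉ S₀ → v⁻¹ * u ∈ S₀ := fun u v hu hv hu0 hv0 => (hS₀mem _).2 (by
      have := congrArg (fun t => v⁻¹ * t * u) (key u v hu hv hu0 hv0)
      simpa [mul_assoc] using this)
    suffices hNtop : Subgroup.normalizer (S₀ : Set S) = ⊤ by
      rw [Subgroup.index_eq_two_iff]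
      have hall : ∀ s : S, s ∈ Subgroup.normalizer (S₀ : Set S) := fun s => hNtop ▸ Subgroup.mem_top s
      refine ⟨y, fun b => ?_⟩
      by_cases hb : b ∈ S₀
      · exact Or.inr ⟨hb, fun h => hy (by simpa using S₀.mul_mem (S₀.inv_mem hb) h)⟩
      · refine Or.inl ⟨?_, hb⟩
        have := hprod y b⁻¹ (hall y) (inv_mem (hall b)) hy (fun h => hb (by simpa using S₀.inv_mem h))
        simpa using this
    by_contra hNne
    obtain ⟨w, hwN, hw⟩ := SetLike.exists_of_lt (PGroupsBasic.lt_normalizer h2 hNne)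
    set N₁ := Subgroup.normalizer (S₀ : Set S) with hN₁
    have hwconj : ∀ x, x ∈ N₁ ↔ w * x * w⁻¹ ∈ N₁ := fun x => Subgroup.mem_normalizer_iff.1 hwN x
    have hwinv : ∀ x ∈ N₁, w⁻¹ * x * w ∈ N₁ := fun x hx => by
      rw [hwconj]; simpa [mul_assoc] using hx
    set z' := y * z * y⁻¹ with hz'
    have hz'1 : (1 : S) * z * 1⁻¹ ≠ z' := hyz
    have hzS₀ : z ∈ S₀ := hPS₀ hzP
    have hzN : z ∈ N₁ := Subgroup.le_normalizer hzS₀
    have hPN : ∀ x ∈ P, x ∈ N₁ := fun x hx => Subgroup.le_normalizer (hPS₀ hx)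
    -- the conjugates of z under N₁
    have hzconj : ∀ u ∈ N₁, u * z * u⁻¹ = z ∨ u * z * u⁻¹ = z' := fun u hu => by
      by_cases h : u ∈ S₀
      · left; rw [(hS₀mem u).1 h, mul_inv_cancel_right]
      · right; exact key u y hu hyN h hy
    obtain ⟨hc, hd, hC⟩ := hpair 1 y h1N hyN hyz
    rw [hcP1] at hc hd hC
    have hz'P : z' ∈ cP y := (hcP_mem y _).2 (by simpa [hz', mul_assoc] using hzP)
    -- the central elements of N₁ inside it
    have hcentral : ∀ d ∈ N₁, (∀ u ∈ N₁, u * d = d * u) → d = 1 ∨ d = z * z' := by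
      intro d hdN hdc
      have hd0 : d ∈ S₀ := (hS₀mem d).2 (hdc z hzN).symm
      have h3 := hC d hd0 (fun x hx => hdc x (hPN x hx))
        (fun x hx => hdc x (Subgroup.le_normalizer (hcPle y hyN hx)))
      have hnc : P ≤ Subgroup.normalizer (cP y : Set S) := fun x hx => by
        rw [Subgroup.mem_normalizer_iff]
        intro g
        constructor
        · intro hg; rwa [hc x hx g hg, mul_inv_cancel_right]
        · intro hg
          have := hc x hx _ hg
          have h5 := hc x⁻¹ (inv_mem hx) _ hg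
          have h6 := congrArg (fun s => s * x) h5
          have h7 : g = x * g * x⁻¹ := by simpa [mul_assoc] using h6
          exact h7 ▸ hg
      rw [← SetLike.mem_coe, Subgroup.coe_mul_of_left_le_normalizer_right P (cP y) hnc] at h3
      obtain ⟨a, ha, b, hb, rfl⟩ := h3
      have haZ : a = 1 ∨ a = z := hzZ a (by
        rw [S4400.center_map_eq]
        refine ⟨ha, Subgroup.mem_centralizer_iff.2 fun x hx => ?_⟩
        have e := hdc x (hPN x hx)
        simp only at e
        rw [mul_assoc a b x, ← hc x hx b hb, ← mul_assoc, ← mul_assoc] at e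
        exact mul_right_cancel e)
      have hbZ : b = 1 ∨ b = z' := by
        have hb' : y⁻¹ * b * y ∈ (Subgroup.center ↥P).map P.subtype := by
          rw [S4400.center_map_eq]
          refine ⟨(hcP_mem y b).1 hb, Subgroup.mem_centralizer_iff.2 fun x hx => ?_⟩
          have hx' : y * x * y⁻¹ ∈ cP y := (hcP_mem y _).2 (by simpa [mul_assoc] using hx)
          have e := hdc _ (Subgroup.le_normalizer (hcPle y hyN hx'))
          simp only at e
          rw [← mul_assoc _ a b, ← hc a ha _ hx', mul_assoc, mul_assoc a b] at e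
          have := congrArg (fun t => y⁻¹ * t * y) (mul_left_cancel e)
          simpa [mul_assoc] using this
        rcases hzZ _ hb' with e | e
        · left
          have := congrArg (fun t => y * t * y⁻¹) e
          simpa [mul_assoc] using this
        · right
          have := congrArg (fun t => y * t * y⁻¹) e
          simpa [hz', mul_assoc] using this
      have hzy : y * z ≠ z * y := fun e => hy ((hS₀mem y).2 e)
      rcases haZ with rfl | rfl <;> rcases hbZ with rfl | rfl
      · left; simp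
      · exfalso
        have e := hdc y hyN
        simp only [one_mul] at e
        refine hzy ?_
        have := congrArg (fun t => y⁻¹ * t) e
        simp only [hz'] at this
        have h4 := congrArg (fun t => t) this
        have : y * z * y⁻¹ = z := by simpa [mul_assoc] using this
        exact mul_inv_eq_iff_eq_mul.1 this
      · exfalso
        have e := hdc y hyN
        simp only [mul_one] at e
        exact hzy e
      · exact Or.inr rfl
    -- zz' is central in N₁
    have hzz' : z * z' ∈ N₁ := mul_mem hzN (mul_mem (mul_mem hyN hzN) (inv_mem hyN))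
    have hzcomm : z * z' = z' * z := hc z hzP z' hz'P
    have hzz'c : ∀ u ∈ N₁, u * (z * z') = (z * z') * u := by
      intro u hu
      apply mul_inv_eq_iff_eq_mul.1
      rw [show u * (z * z') * u⁻¹ = (u * z * u⁻¹) * ((u * y) * z * (u * y)⁻¹) by rw [hz']; group]
      have huy : u * z * u⁻¹ ≠ (u * y) * z * (u * y)⁻¹ := fun e => hyz (by
        have := congrArg (fun t => u⁻¹ * t * u) e
        simpa [hz', mul_assoc] using this)
      rcases hzconj u hu with e1 | e1 <;> rcases hzconj (u * y) (mul_mem hu hyN) with e2 | e2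
      · exact absurd (e1.trans e2.symm) huy
      · rw [e1, e2]
      · rw [e1, e2, hzcomm]
      · exact absurd (e1.trans e2.symm) huy
    have hzz'1 : z * z' ≠ 1 := fun e => by
      have h1 : z ∈ P ⊓ cP y := ⟨hzP, by rw [eq_inv_of_mul_eq_one_left e]; exact (cP y).inv_mem hz'P⟩
      rw [hd, Subgroup.mem_bot] at h1
      exact hz1 h1
    have hwfix : w * (z * z') * w⁻¹ = z * z' := by
      refine (hcentral _ ((hwconj _).1 hzz') fun u hu => ?_).resolve_left
        fun e => hzz'1 (conj_eq_one_iff.1 e)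
      have := congrArg (fun t => w * t * w⁻¹) (hzz'c _ (hwinv u hu))
      simpa [mul_assoc] using this
    set t := w * z * w⁻¹ with ht
    have htN : t ∈ N₁ := (hwconj z).1 hzN
    -- commutators of N₁ with t
    have htconj : ∀ u ∈ N₁, u * t * u⁻¹ = t ∨ u * t * u⁻¹ = w * z' * w⁻¹ := fun u hu => by
      have e : u * t * u⁻¹ = w * ((w⁻¹ * u * w) * z * (w⁻¹ * u * w)⁻¹) * w⁻¹ := by rw [ht]; group
      rcases hzconj _ (hwinv u hu) with h | h <;> rw [e, h]
      · exact Or.inl rfl
      · exact Or.inr rfl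
    have hz2 : z * z = 1 := by
      rcases hzZ (z * z) (mul_mem hzmem hzmem) with e | e
      · exact e
      · exact absurd (mul_eq_left.1 e) hz1
    have htinv : t⁻¹ = t := inv_eq_of_mul_eq_one_right (by
      rw [ht]; simp only [mul_assoc, inv_mul_cancel_left]; rw [← mul_assoc z, hz2]; simp)
    by_cases ht0 : t ∈ S₀
    · -- t centralizes P and its conjugate
      have hcent : ∀ g, g ∈ N₁ → z * z' ∉ cP g → ∀ x ∈ cP g, x * t = t * x := by
        intro g hg hzz x hx
        rcases htconj x (Subgroup.le_normalizer (hcPle g hg hx)) with e | e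
        · exact mul_inv_eq_iff_eq_mul.1 e
        · exfalso
          apply hzz
          have h1 : x * t * x⁻¹ * t⁻¹ ∈ cP g := by
            rw [mul_assoc x t x⁻¹, mul_assoc x]
            exact mul_mem hx (hcPn g hg t ht0 _ (inv_mem hx))
          rw [e, htinv, ht, show w * z' * w⁻¹ * (w * z * w⁻¹) = w * (z' * z) * w⁻¹ by group,
            ← hzcomm, hwfix] at h1
          exact h1
      have hn1 : z * z' ∉ cP 1 := by
        rw [hcP1]
        intro h
        have h1 : z' ∈ P ⊓ cP y := ⟨by simpa using mul_mem (inv_mem hzP) h, hz'P⟩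
        rw [hd, Subgroup.mem_bot] at h1
        exact hz1 (conj_eq_one_iff.1 h1)
      have hn2 : z * z' ∉ cP y := by
        intro h
        have h1 : z ∈ P ⊓ cP y := ⟨hzP, by simpa using mul_mem h (inv_mem hz'P)⟩
        rw [hd, Subgroup.mem_bot] at h1
        exact hz1 h1
      -- t is one of the four central elements, contradicting the choice of w
      have htP : ∀ x ∈ P, x * t = t * x := fun x hx => hcent 1 h1N hn1 x (by rwa [hcP1])
      have hmem := hC t ht0 htP (hcent y hyN hn2)
      refine hw ?_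
      have hcomm : ∀ x ∈ S₀, x * t = t * x := by
        intro x hx
        have hle : P ⊔ cP y ≤ Subgroup.centralizer ({t} : Set S) := sup_le
          (fun u hu => Subgroup.mem_centralizer_singleton_iff.2 (htP u hu))
          (fun u hu => Subgroup.mem_centralizer_singleton_iff.2 (hcent y hyN hn2 u hu))
        rcases htconj x (Subgroup.le_normalizer hx) with e | e
        · exact mul_inv_eq_iff_eq_mul.1 e
        · exfalso
          -- the commutator would be the central product of z and z'
          obtain ⟨a, ha, b, hb, hab⟩ : ∃ a ∈ P, ∃ b ∈ cP y, t = a * b := by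
            have hnc : P ≤ Subgroup.normalizer (cP y : Set S) := fun u hu =>
              Subgroup.mem_normalizer_iff.2 fun g => by
                refine ⟨fun hg => by rwa [hc u hu g hg, mul_inv_cancel_right], fun hg => ?_⟩
                have h5 := hc u⁻¹ (inv_mem hu) _ hg
                have : g = u * g * u⁻¹ := by
                  have h6 := congrArg (fun s => s * u) h5
                  simpa [mul_assoc] using h6
                exact this ▸ hg
            rw [← SetLike.mem_coe, Subgroup.coe_mul_of_left_le_normalizer_right P (cP y) hnc] at hmem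
            obtain ⟨a, ha, b, hb, e⟩ := hmem
            exact ⟨a, ha, b, hb, e.symm⟩
          have haZ : a = 1 ∨ a = z := hzZ a (by
            rw [S4400.center_map_eq]
            refine ⟨ha, Subgroup.mem_centralizer_iff.2 fun u hu => ?_⟩
            have e2 := htP u hu
            rw [hab, mul_assoc a b u, ← hc u hu b hb, ← mul_assoc, ← mul_assoc] at e2
            exact mul_right_cancel e2)
          have hbZ : b = 1 ∨ b = z' := by
            have hb' : y⁻¹ * b * y ∈ (Subgroup.center ↥P).map P.subtype := by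
              rw [S4400.center_map_eq]
              refine ⟨(hcP_mem y b).1 hb, Subgroup.mem_centralizer_iff.2 fun u hu => ?_⟩
              have hu' : y * u * y⁻¹ ∈ cP y := (hcP_mem y _).2 (by simpa [mul_assoc] using hu)
              have e2 := hcent y hyN hn2 _ hu'
              rw [hab, ← mul_assoc _ a b, ← hc a ha _ hu', mul_assoc, mul_assoc a b] at e2
              have := congrArg (fun s => y⁻¹ * s * y) (mul_left_cancel e2)
              simpa [mul_assoc] using this
            rcases hzZ _ hb' with e2 | e2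
            · left
              have := congrArg (fun s => y * s * y⁻¹) e2
              simpa [mul_assoc] using this
            · right
              have := congrArg (fun s => y * s * y⁻¹) e2
              simpa [hz', mul_assoc] using this
          have hxz : x * z * x⁻¹ = z := by rw [(hS₀mem x).1 hx, mul_inv_cancel_right]
          have hxy : x * y ∉ S₀ := fun h => hy (by simpa using S₀.mul_mem (S₀.inv_mem hx) h)
          have hxz' : x * z' * x⁻¹ = z' := by
            rw [show x * z' * x⁻¹ = (x * y) * z * (x * y)⁻¹ by rw [hz']; group]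
            exact key _ y (mul_mem (Subgroup.le_normalizer hx) hyN) hyN hxy hy
          have hne : w * z' * w⁻¹ ≠ t := fun e' => hyz (by
            have := congrArg (fun s => w⁻¹ * s * w) e'
            simpa [ht, mul_assoc] using this.symm)
          apply hne
          rw [← e, hab, show x * (a * b) * x⁻¹ = (x * a * x⁻¹) * (x * b * x⁻¹) by group]
          rcases haZ with rfl | rfl <;> rcases hbZ with rfl | rfl <;> simp [hxz, hxz']
      -- so S₀ centralizes t, forcing w to normalize S₀
      refine Subgroup.mem_normalizer_iff.2 fun x => ?_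
      have hiff : ∀ x, x * t = t * x ↔ w⁻¹ * x * w ∈ S₀ := fun x => by
        rw [hS₀mem, ht]
        constructor
        · intro h
          have := congrArg (fun s => w⁻¹ * s * w) h
          simpa [mul_assoc] using this
        · intro h
          have := congrArg (fun s => w * s * w⁻¹) h
          simpa [mul_assoc] using this
      have hSle : S₀.map (MulAut.conj w⁻¹).toMonoidHom ≤ S₀ := by
        rintro _ ⟨s, hs, rfl⟩
        simpa using (hiff s).1 (hcomm s hs)
      have hSeq := Subgroup.eq_of_le_of_card_ge hSle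
        (le_of_eq (Subgroup.card_map_of_injective (MulAut.conj w⁻¹).injective).symm)
      conv_lhs => rw [← hSeq]
      rw [Subgroup.mem_map_equiv, MulAut.conj_symm_apply, inv_inv]
    · -- t interchanges P and its conjugate
      have htz : (1 : S) * z * 1⁻¹ ≠ t * z * t⁻¹ := fun e =>
        ht0 ((hS₀mem t).2 (mul_inv_eq_iff_eq_mul.1 (by simpa using e.symm)))
      obtain ⟨-, hdt, -⟩ := hpair 1 t h1N htN htz
      rw [hcP1] at hdt
      have hfix : ∀ x ∈ P, x * t = t * x → x = 1 := fun x hx e => by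
        have h1 : x ∈ P ⊓ cP t := ⟨hx, (hcP_mem t x).2 (by
          rw [mul_assoc, e, inv_mul_cancel_left]; exact hx)⟩
        rwa [hdt, Subgroup.mem_bot] at h1
      refine hP ⟨⟨fun a b => Subtype.ext ?_⟩⟩
      have h2el : ∀ a b : S, a ∈ P → b ∈ P → a = 1 ∨ b = 1 ∨ a = b := by
        intro a b ha hb
        rcases htconj a (hPN a ha) with e1 | e1
        · exact Or.inl (hfix a ha (mul_inv_eq_iff_eq_mul.1 e1))
        rcases htconj b (hPN b hb) with e2 | e2
        · exact Or.inr (Or.inl (hfix b hb (mul_inv_eq_iff_eq_mul.1 e2)))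
        refine Or.inr (Or.inr ?_)
        have h1 := hfix (b⁻¹ * a) (mul_mem (inv_mem hb) ha) (by
          have := congrArg (fun s => b⁻¹ * s * a) (e1.trans e2.symm)
          simpa [mul_assoc] using this)
        exact (inv_mul_eq_one.1 h1).symm
      rcases h2el a b a.2 b.2 with e | e | e <;> simp [e]

end Cfsg.Agent.S4401
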