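import Cfsg.Statements.S4398
import Cfsg.Agent.S4399
import Cfsg.Agent.S4401
import Cfsg.Agent.Lib.MaxClassTwo
import Cfsg.Agent.Lib.PGroupsCyclic

set_option autoImplicit false
open Cfsg

namespace Cfsg.Agent.S4398

open Cfsg.Agent
open Subgroup
open scoped commutatorElement

theorem klein_of_index_le {S : Type*} [Group S] [Finite S] (h2 : IsPGroup 2 S)
    (hnc : ¬ ∀ a b : S, a * b = b * a) (hidx : (commutator S).index ≤ 4) :
    IsKleinFour (S ⧸ commutator S) := by
  have : Fact (Nat.Prime 2) := ⟨Nat.prime_two⟩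
  have hncyc : ¬ IsCyclic (S ⧸ commutator S) := by
    intro hc
    obtain ⟨q, hq⟩ := hc.exists_generator
    obtain ⟨g, rfl⟩ := QuotientGroup.mk_surjective q
    have htop : zpowers g ⊔ frattini S = ⊤ := by
      refine eq_top_iff.mpr fun x _ => ?_
      obtain ⟨k, hk⟩ := mem_zpowers_iff.mp (hq (x : S ⧸ commutator S))
      have hmem : (g ^ k)⁻¹ * x ∈ commutator S := QuotientGroup.eq.mp hk
      have := mul_mem_sup (zpow_mem (mem_zpowers g) k) (PGroupsBasic.commutator_le_frattini h2 hmem)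
      rwa [mul_inv_cancel_left] at this
    have hcyc : IsCyclic S := isCyclic_iff_exists_zpowers_eq_top.mpr ⟨g, frattini_nongenerating htop⟩
    exact hnc fun a b => (IsCyclic.isMulCommutative (α := S)).is_comm.comm a b
  obtain ⟨k, hk⟩ := IsPGroup.iff_card.mp (h2.to_quotient (commutator S))
  have hk2 : k = 2 := by
    rcases Nat.lt_or_ge k 2 with h | h
    · obtain rfl | rfl : k = 0 ∨ k = 1 := by omega
      · have : Subsingleton (S ⧸ commutator S) := (Nat.card_eq_one_iff_unique.mp hk).1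
        exact (hncyc inferInstance).elim
      · exact absurd (isCyclic_of_prime_card (hk.trans (pow_one 2))) hncyc
    · by_contra h'
      have h8 := Nat.pow_le_pow_right two_pos (show 3 ≤ k by omega)
      rw [← hk] at h8
      exact absurd hidx (Nat.not_le.mpr (lt_of_lt_of_le (by norm_num) h8))
  subst hk2
  have hexp : Monoid.exponent (S ⧸ commutator S) = 2 :=
    (not_isCyclic_iff_exponent_eq_prime Nat.prime_two (by simpa using hk)).mp hncyc
  exact ⟨hk, hexp⟩

theorem maxclass_data {X : Type*} [Group X] [Finite X] {n : ℕ} (hn : 3 ≤ n) (hX : Nat.card X = 2 ^ n)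
    (hK : IsKleinFour (X ⧸ commutator X)) :
    ∃ a : X, (zpowers a).index = 2 ∧ orderOf a = 2 ^ (n - 1) ∧
      (∀ w ∈ commutator X, ∃ l : ℤ, w = a ^ (2 * l)) ∧ (∀ x : X, x ^ 2 ∈ commutator X) ∧
      ∀ b, b ∉ zpowers a → ∃ r : ℤ, b * a * b⁻¹ = a ^ r ∧ (4 : ℤ) ∣ r + 1 := by
  have : Fact (Nat.Prime 2) := ⟨Nat.prime_two⟩
  have h2 : IsPGroup 2 X := IsPGroup.of_card hX
  have hcl := MaxClassTwo.class_of_isKleinFour n X hX hn hK
  obtain ⟨C, hC, hCi, hcard, -, hZC, hsq⟩ := MaxClassTwo.structure_of_maxClass hn hX hcl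
  obtain ⟨hZ, -, -, hnc⟩ := MaxClassTwo.center_of_maxClass hn hX hcl
  obtain ⟨⟨a, haC⟩, ha⟩ := hC.exists_generator
  have hCa : C = zpowers a := by
    refine le_antisymm (fun x hx => ?_) (zpowers_le.mpr haC)
    obtain ⟨k, hk⟩ := mem_zpowers_iff.mp (ha ⟨x, hx⟩)
    exact mem_zpowers_iff.mpr ⟨k, congrArg Subtype.val hk⟩
  subst hCa
  obtain ⟨m, rfl⟩ : ∃ m, n = m + 3 := ⟨n - 3, by omega⟩
  have hord : orderOf a = 2 ^ (m + 2) := by
    have h := card_mul_index (zpowers a)
    rw [hCi, hX, Nat.card_zpowers, show 2 ^ (m + 3) = 2 ^ (m + 2) * 2 from pow_succ _ _] at h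
    exact Nat.eq_of_mul_eq_mul_right two_pos h
  refine ⟨a, hCi, hord, ?_, ?_, ?_⟩
  · intro w hw
    have := PGroupsBasic.normal_of_index_eq h2 hCi
    have hwC := PGroupsBasic.commutator_le_of_index_le_sq h2 (hCi.le.trans (by norm_num)) hw
    obtain ⟨k, rfl⟩ := mem_zpowers_iff.mp hwC
    have h1 := pow_card_eq_one' (x := (⟨a ^ k, hw⟩ : commutator X))
    rw [hcard] at h1
    have h1' : (a ^ k) ^ (2 ^ (m + 1)) = 1 := congrArg Subtype.val h1
    rw [← zpow_natCast, ← zpow_mul, ← orderOf_dvd_iff_zpow_eq_one, hord] at h1'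
    push_cast at h1'
    rw [pow_succ' (2 : ℤ) (m + 1)] at h1'
    obtain ⟨l, rfl⟩ := (mul_dvd_mul_iff_right (pow_ne_zero _ (two_ne_zero (α := ℤ)))).mp h1'
    exact ⟨l, rfl⟩
  · intro x
    rw [← QuotientGroup.eq_one_iff, QuotientGroup.mk_pow]
    have := Monoid.pow_exponent_eq_one (x : X ⧸ commutator X)
    rwa [IsKleinFour.exponent_two] at this
  · intro b hb
    have hn' : (zpowers a).Normal := PGroupsBasic.normal_of_index_eq h2 hCi
    obtain ⟨r, hr⟩ := mem_zpowers_iff.mp (hn'.conj_mem a haC b)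
    refine ⟨r, hr.symm, ?_⟩
    have hba : b * a ∉ zpowers a := fun h => hb (((zpowers a).mul_mem_cancel_right haC).mp h)
    have hw : a ^ (r + 1) ∈ center X := by
      have hc : b ^ 2 * a = a * b ^ 2 := (mem_center_iff.mp (hsq b hb) a).symm
      have hmul : (b * a) ^ 2 = b * a * b⁻¹ * a * b ^ 2 := by
        rw [mul_assoc (b * a * b⁻¹) a, ← hc]; simp only [sq]; group
      have : a ^ (r + 1) = (b * a) ^ 2 * (b ^ 2)⁻¹ := by
        rw [hmul, mul_inv_cancel_right, zpow_add_one, hr]
      rw [this]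
      exact mul_mem (hsq _ hba) (inv_mem (hsq b hb))
    have h1 := pow_card_eq_one' (x := (⟨a ^ (r + 1), hw⟩ : center X))
    rw [hZ] at h1
    have h1' : (a ^ (r + 1)) ^ 2 = 1 := congrArg Subtype.val h1
    rw [← zpow_natCast, ← zpow_mul, ← orderOf_dvd_iff_zpow_eq_one, hord] at h1'
    push_cast at h1'
    rw [pow_succ (2 : ℤ) (m + 1)] at h1'
    have h2' : (2 : ℤ) ^ (m + 1) ∣ r + 1 := (mul_dvd_mul_iff_right (two_ne_zero (α := ℤ))).mp h1'
    rcases Nat.eq_zero_or_pos m with rfl | hm
    · by_contra h4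
      refine hnc fun u v => ?_
      obtain ⟨e, he⟩ := h2'
      have h41 : (4 : ℤ) ∣ r - 1 := by omega
      have hfix : b * a = a * b := by
        rw [← mul_inv_eq_iff_eq_mul, ← hr]
        conv_rhs => rw [← zpow_one a]
        rw [PGroupsCyclic.zpow_eq_iff_dvd, hord]
        simpa using h41
      have hle : zpowers a < centralizer ({a} : Set X) :=
        lt_of_le_of_ne (zpowers_le.mpr (mem_centralizer_singleton_iff.mpr rfl))
          fun h => hb (h ▸ mem_centralizer_singleton_iff.mpr hfix)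
      have htop := (PGroupsBasic.isCoatom_of_index_eq hCi).2 _ hle
      have hcen : zpowers a ≤ center X := zpowers_le.mpr
        (mem_center_iff.mpr fun g => mem_centralizer_singleton_iff.mp (htop ▸ mem_top g))
      have hcl := card_le_of_le hcen
      rw [Nat.card_zpowers, hord, hZ] at hcl
      norm_num at hcl
    · exact dvd_trans (by simpa using pow_dvd_pow (2 : ℤ) (show 2 ≤ m + 1 by omega)) h2'

theorem step {S : Type*} [Group S] [Finite S] (h2 : IsPGroup 2 S) (hr : SectionalPRankLE 2 2 S)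
    (M : Subgroup S) (hM : M.index = 2) (h8 : 8 ≤ Nat.card M) (hK : IsKleinFour (M ⧸ commutator M)) :
    IsKleinFour (S ⧸ commutator S) := by
  have : Fact (Nat.Prime 2) := ⟨Nat.prime_two⟩
  obtain ⟨n, hn⟩ := IsPGroup.iff_card.mp (h2.to_subgroup M)
  have hn3 : 3 ≤ n := by
    by_contra h
    have := Nat.pow_le_pow_right two_pos (show n ≤ 2 by omega)
    rw [← hn] at this
    omega
  obtain ⟨⟨a, haM⟩, hai, hord, hcom, hsq, hconj⟩ := maxclass_data hn3 hn hK
  rw [orderOf_mk] at hord
  have hnc : ¬ ∀ u v : S, u * v = v * u := by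
    intro h
    have hcl := MaxClassTwo.class_of_isKleinFour n M hn hn3 hK
    exact (MaxClassTwo.center_of_maxClass hn3 hn hcl).2.2.2 fun u v => Subtype.ext (h u v)
  have hMn : M.Normal := PGroupsBasic.normal_of_index_eq h2 hM
  have hN : ((commutator M).map M.subtype).Normal := inferInstance
  set N := (commutator M).map M.subtype with hNdef
  have hNle : N ≤ commutator S := by
    rw [hNdef, Subgroup.map_subtype_commutator]
    exact Subgroup.commutator_mono le_top le_top
  have hNidx : N.index = 8 := by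
    have h := card_mul_index N
    rw [hNdef, card_map_of_injective M.subtype_injective, ← card_mul_index M, hM,
      ← card_mul_index (commutator M), show (commutator M).index = 4 from IsKleinFour.card_four, mul_assoc] at h
    exact Nat.eq_of_mul_eq_mul_left Nat.card_pos h
  by_cases hSN : commutator S ≤ N
  · exfalso
    obtain ⟨g, hg⟩ : ∃ g : S, g ^ 2 ∉ N := by
      by_contra hall
      push Not at hall
      have hr' := hr ⊤ (N.subgroupOf ⊤) ⊤ ⟨⟨fun x y => Subtype.ext ?_⟩⟩ ?_
      · rw [card_top, show Nat.card ((⊤ : Subgroup S) ⧸ N.subgroupOf ⊤) = N.relIndex ⊤ from rfl,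
          relIndex_top_right, hNidx] at hr'
        omega
      · obtain ⟨u, hu⟩ := QuotientGroup.mk_surjective x.1
        obtain ⟨v, hv⟩ := QuotientGroup.mk_surjective y.1
        show x.1 * y.1 = y.1 * x.1
        rw [← hu, ← hv, ← QuotientGroup.mk_mul, ← QuotientGroup.mk_mul, QuotientGroup.eq, mem_subgroupOf]
        apply hSN
        have he : (((u * v)⁻¹ * (v * u) : (⊤ : Subgroup S)) : S) = ⁅(v : S)⁻¹, (u : S)⁻¹⁆ := by
          simp only [Subgroup.coe_mul, InvMemClass.coe_inv, commutatorElement_def]; group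
        rw [he]
        exact commutator_mem_commutator (mem_top _) (mem_top _)
      · intro x _
        obtain ⟨u, rfl⟩ := QuotientGroup.mk_surjective x
        rw [← QuotientGroup.mk_pow, QuotientGroup.eq_one_iff, mem_subgroupOf]
        exact hall u
    have hsqN : ∀ x ∈ M, x ^ 2 ∈ N := fun x hx => ⟨(⟨x, hx⟩ : M) ^ 2, hsq _, rfl⟩
    have hcomN : ∀ w ∈ N, ∃ l : ℤ, w = a ^ (2 * l) := by
      rintro _ ⟨w, hw, rfl⟩
      obtain ⟨l, rfl⟩ := hcom w hw
      exact ⟨l, rfl⟩
    have hc : ∀ u v : S, ∃ l : ℤ, u * v * u⁻¹ = a ^ (2 * l) * v := by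
      intro u v
      obtain ⟨l, hl⟩ := hcomN _ (hSN (commutator_mem_commutator (mem_top u) (mem_top v)))
      exact ⟨l, by rw [← hl, commutatorElement_def, inv_mul_cancel_right]⟩
    have h4 : (4 : ℤ) ∣ (orderOf a : ℤ) := by
      rw [hord]; push_cast
      simpa using pow_dvd_pow (2 : ℤ) (show 2 ≤ n - 1 by omega)
    have hgM : g ∉ M := fun h => hg (hsqN g h)
    have hg2 : g ^ 2 ∈ M := hM ▸ @Subgroup.pow_index_mem _ _ M hMn g
    obtain ⟨l, hl⟩ := hc g a
    have hga : g * a * g⁻¹ = a ^ (2 * l + 1) := by rw [hl, zpow_add_one]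
    by_cases hgC : (⟨g ^ 2, hg2⟩ : M) ∈ zpowers ⟨a, haM⟩
    · obtain ⟨t, ht⟩ := mem_zpowers_iff.mp hgC
      have ht' : a ^ t = g ^ 2 := congrArg Subtype.val ht
      rcases Int.even_or_odd t with ⟨v, rfl⟩ | ⟨v, rfl⟩
      · refine hg (ht' ▸ ?_)
        rw [zpow_add, ← sq]
        exact hsqN _ (zpow_mem haM v)
      obtain ⟨b, hb⟩ : ∃ b : M, b ∉ zpowers (⟨a, haM⟩ : M) := by
        by_contra h
        push Not at h
        rw [show zpowers (⟨a, haM⟩ : M) = ⊤ from eq_top_iff.mpr fun x _ => h x, index_top] at hai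
        omega
      obtain ⟨r, hr1, u, hu⟩ := hconj b hb
      have hr' : (b : S) * a * (b : S)⁻¹ = a ^ r := congrArg Subtype.val hr1
      obtain ⟨j, hj⟩ := hc b g
      have e1 : a ^ (r * (2 * v + 1)) = a ^ (2 * j + (2 * l + 1) * (2 * j) + (2 * v + 1)) := by
        calc a ^ (r * (2 * v + 1)) = (b : S) * a ^ (2 * v + 1) * (b : S)⁻¹ :=
              (PGroupsCyclic.conj_zpow_eq hr' _).symm
          _ = ((b : S) * g * (b : S)⁻¹) * ((b : S) * g * (b : S)⁻¹) := by rw [ht', sq]; group
          _ = a ^ (2 * j) * (g * a ^ (2 * j) * g⁻¹) * g ^ 2 := by rw [hj, sq]; group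
          _ = _ := by rw [PGroupsCyclic.conj_zpow_eq hga, ← ht', ← zpow_add, ← zpow_add]
      obtain ⟨e, he⟩ := h4.trans ((PGroupsCyclic.zpow_eq_iff_dvd _ _ _).mp e1)
      obtain rfl : r = 4 * u - 1 := by omega
      have : 4 * (2 * u * v + u - v - j - l * j - e) = 2 := by linear_combination he
      omega
    · obtain ⟨r, hr1, u, hu⟩ := hconj _ hgC
      have hr' : g ^ 2 * a * (g ^ 2)⁻¹ = a ^ r := congrArg Subtype.val hr1
      have e1 : a ^ r = a ^ ((2 * l + 1) * (2 * l + 1)) := by
        rw [← hr']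
        calc g ^ 2 * a * (g ^ 2)⁻¹ = g * (g * a * g⁻¹) * g⁻¹ := by rw [sq]; group
          _ = _ := by rw [hga, PGroupsCyclic.conj_zpow_eq hga]
      obtain ⟨e, he⟩ := h4.trans ((PGroupsCyclic.zpow_eq_iff_dvd _ _ _).mp e1)
      obtain rfl : r = 4 * u - 1 := by omega
      have : 4 * (u - l * l - l - e) = 2 := by linear_combination he
      omega
  · refine klein_of_index_le h2 hnc ?_
    have hd : (commutator S).index ∣ 8 := hNidx ▸ index_dvd_of_le hNle
    have hne : (commutator S).index ≠ 8 := fun h => hSN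
      (eq_of_le_of_card_ge hNle (by
        have e1 := card_mul_index (commutator S)
        rw [h, ← card_mul_index N, hNidx] at e1
        omega)).ge
    have hle := Nat.le_of_dvd (by norm_num) hd
    interval_cases h : (commutator S).index <;> omega

theorem klein : ∀ (S : Type*) [Group S] [Finite S], IsPGroup 2 S → SectionalPRankLE 2 2 S →
    ∀ H : Subgroup S, Nat.card H = 8 → (¬ ∀ u ∈ H, ∀ v ∈ H, u * v = v * u) →
    IsKleinFour (S ⧸ commutator S) := by
  intro S _ _
  induction hm : Nat.card S using Nat.strong_induction_on generalizing S with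
  | _ m ih =>
  intro h2 hr H hH hnc
  have : Fact (Nat.Prime 2) := ⟨Nat.prime_two⟩
  have hncS : ¬ ∀ u v : S, u * v = v * u := fun h => hnc fun u _ v _ => h u v
  by_cases hHt : H = ⊤
  · refine klein_of_index_le h2 hncS ?_
    have h1 : Nat.card (commutator S) ≠ 1 := fun h => hncS fun u v => by
      rw [Subgroup.card_eq_one] at h
      have := commutator_mem_commutator (mem_top u) (mem_top v)
      rw [← _root_.commutator_def, h, mem_bot] at this
      exact commutatorElement_eq_one_iff_mul_comm.mp this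
    have h := card_mul_index (commutator S)
    rw [← card_top (G := S), ← hHt, hH] at h
    have hpos : 0 < Nat.card (commutator S) := Nat.card_pos
    by_contra h5
    push Not at h5
    nlinarith [Nat.mul_le_mul (show 2 ≤ Nat.card (commutator S) by omega) (show 5 ≤ (commutator S).index by omega)]
  obtain hM | ⟨M, hM, hHM⟩ := IsCoatomic.eq_top_or_exists_le_coatom H
  · exact absurd hM hHt
  have hMi : M.index = 2 := by
    have : Group.IsNilpotent S := h2.isNilpotent
    exact PGroupsBasic.index_of_isCoatom h2 hM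
  have hlt : Nat.card M < m := hm ▸ lt_of_le_of_ne (card_le_card_group M)
    fun h => hM.1 (eq_top_of_card_eq M h)
  have hKM := ih _ hlt M rfl (h2.to_subgroup M)
    (S4401.sectional_of_injective hr M.subtype M.subtype_injective) (H.subgroupOf M)
    (by rw [Nat.card_congr (subgroupOfEquivOfLe hHM).toEquiv, hH])
    (fun h => hnc fun u hu v hv => congrArg Subtype.val (h ⟨u, hHM hu⟩ hu ⟨v, hHM hv⟩ hv))
  exact step h2 hr M hMi (hH ▸ card_le_of_le hHM) hKM

/-- Let S be a finite 2-group of sectional 2-rank at most 2 that contains a subgroup isomorphic to the dihedral group of order 8 or to the quaternion group of order 8. Then S is dihedral of order at least 8, semidihedral of order at least 16 (order 2^(k+4) with an element a of order 2^(k+3) and an involution b with b a b⁻¹ = a^(2^(k+2)−1)), or generalized quaternion of order at least 8. -/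
theorem result {S : Type*} [Group S] [Finite S] (h2 : IsPGroup 2 S) (hr : Cfsg.SectionalPRankLE 2 2 S)
    (hsub : ∃ H : Subgroup S, Nonempty (↥H ≃* DihedralGroup 4) ∨ Nonempty (↥H ≃* QuaternionGroup 2)) :
    ((∃ k : ℕ, Nonempty (S ≃* DihedralGroup (2 ^ (k + 2)))) ∨
      (∃ k : ℕ, Nat.card S = 2 ^ (k + 4) ∧ ∃ a b : S, orderOf a = 2 ^ (k + 3) ∧ orderOf b = 2 ∧ b * a * b⁻¹ = a ^ (2 ^ (k + 2) - 1)) ∨
      (∃ k : ℕ, Nonempty (S ≃* QuaternionGroup (2 ^ (k + 1))))) := by
  obtain ⟨H, hH⟩ := hsub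
  have key : Nat.card H = 8 ∧ ¬ ∀ u ∈ H, ∀ v ∈ H, u * v = v * u := by
    rcases hH with ⟨⟨e⟩⟩ | ⟨⟨e⟩⟩
    · refine ⟨by rw [Nat.card_congr e.toEquiv, DihedralGroup.nat_card], fun h => ?_⟩
      have := congrArg e (Subtype.ext (h _ (e.symm (.r 1)).2 _ (e.symm (.sr 0)).2) : e.symm (.r 1) * e.symm (.sr 0) = e.symm (.sr 0) * e.symm (.r 1))
      simp only [map_mul, MulEquiv.apply_symm_apply] at this
      revert this; decide
    · refine ⟨by rw [Nat.card_congr e.toEquiv, Nat.card_eq_fintype_card, QuaternionGroup.card], fun h => ?_⟩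
      have := congrArg e (Subtype.ext (h _ (e.symm (.a 1)).2 _ (e.symm (.xa 0)).2) : e.symm (.a 1) * e.symm (.xa 0) = e.symm (.xa 0) * e.symm (.a 1))
      simp only [map_mul, MulEquiv.apply_symm_apply] at this
      revert this; decide
  have hK := klein S h2 hr H key.1 key.2
  rcases S4399.result h2 hK.card_four (fun x => by
      have h := Monoid.pow_exponent_eq_one (G := S ⧸ commutator S) x
      rw [show Monoid.exponent (S ⧸ commutator S) = 2 from hK.exponent_two] at h
      exact h) with h4 | h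
  · exfalso
    have h8 := Subgroup.card_le_card_group H
    rw [key.1, h4] at h8
    omega
  · exact h

end Cfsg.Agent.S4398
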