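import Cfsg.Statements.S4402
import Cfsg.Agent.Lib.D8WreathExt81

set_option autoImplicit false
open Cfsg

namespace Cfsg.Agent.S4402

open Cfsg.Agent.D8WreathModel81

variable {S : Type*} [Group S] [Finite S] {e : W →* S}

theorem cgA : code gA = 1 := code_dec (by norm_num)

theorem cgB : code gB = 4 := code_dec (by norm_num)

theorem cgT : code gT = 64 := code_dec (by norm_num)

/-- A normalising element with square inside: a multiple of it is one of two kinds of extension. -/
theorem classify (hr : Cfsg.SectionalPRankLE 2 4 S) (he : Function.Injective e) {x : S}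
    (hn : x ∈ Subgroup.normalizer (e.range : Set S)) (hx : x ∉ e.range) (hxx : x * x ∈ e.range) :
    ∃ (g : W) (f : W →* W) (c : W) (k : ℕ), Ext e (e g * x) f c ∧
      trip f = autReps.getD k (0, 0, 0) ∧ ∃ d ∈ isoCerts, d.1 = (k, code c) := by
  have hc : ∀ w, ∃ w', e w' = x * e w * x⁻¹ := fun w =>
    (Subgroup.mem_normalizer_iff.mp hn (e w)).mp ⟨w, rfl⟩
  choose f₀ hf₀ using hc
  let f : W →* W := MonoidHom.mk' f₀ fun a b => he (by
    rw [map_mul, hf₀, hf₀, hf₀, map_mul]; group)
  have hf : ∀ w, e (f w) = x * e w * x⁻¹ := hf₀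
  have finj : Function.Injective f := fun a b hab => he (by
    have := hf a
    rw [hab, hf b] at this
    exact mul_left_cancel (mul_right_cancel this).symm)
  set a := code (f gA) with ha
  set b := code (f gB) with hb
  set u := code (f gT) with hu
  have p1 : pw a 4 = 0 := by
    rw [ha, ← code_pow, code_eq_zero, ← map_pow, show gA ^ 4 = 1 by decide +kernel, map_one]
  have p2 : pw a 2 ≠ 0 := fun h => by
    rw [ha, ← code_pow, code_eq_zero, ← map_pow, ← map_one f] at h
    exact absurd (finj h) (by decide +kernel)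
  have two : ∀ w : W, w * w = 1 → pm (code (f w)) (code (f w)) = 0 := fun w hw => by
    rw [← code_mul, code_eq_zero, ← map_mul, hw, map_one]
  have invL : ∀ w : W, w * w = 1 → code (f w) ∈ invList := fun w hw => by
    have := List.all_eq_true.mp invOK_true _ (List.mem_range.mpr (code_lt (f w)))
    simpa [two w hw] using this
  have p3 : pm (pm b a) (pm b a) = 0 := by
    rw [ha, hb, ← code_mul, ← map_mul]
    exact two _ (by decide +kernel)
  have cm : ∀ v w : W, v * (gT * w * gT) = gT * w * gT * v →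
      cmB (code (f v)) (pm (pm u (code (f w))) u) = true := fun v w hvw => by
    rw [hu, ← code_mul, ← code_mul, code_commute, ← map_mul, ← map_mul, ← map_mul, ← map_mul, hvw]
  have p4 : pm (pw a 2) (pm (pm u (pw a 2)) u) ≠ 0 := fun h => by
    rw [ha, hu, ← code_pow, ← code_mul, ← code_mul, ← code_mul, code_eq_zero, ← map_pow, ← map_mul,
      ← map_mul, ← map_mul, ← map_one f] at h
    exact absurd (finj h) (by decide +kernel)
  have h1 := List.all_eq_true.mp autOK_true a (List.mem_range.mpr (code_lt _))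
  rw [p1, show (pw a 2 == 0) = false from beq_eq_false_iff_ne.mpr p2, beq_self_eq_true,
    Bool.not_false, Bool.and_self, Bool.not_true, Bool.false_or, List.all_eq_true] at h1
  have h2 := h1 b (invL _ (by decide +kernel))
  rw [p3, beq_self_eq_true, Bool.not_true, Bool.false_or, List.all_eq_true] at h2
  have h3 := h2 u (invL _ (by decide +kernel))
  rw [cm gA gA (by decide +kernel), cm gA gB (by decide +kernel), cm gB gA (by decide +kernel),
    cm gB gB (by decide +kernel), beq_eq_false_iff_ne.mpr p4, Bool.not_false] at h3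
  simp only [Bool.and_self, Bool.not_true, Bool.false_or] at h3
  simp only [List.any_eq_true, Bool.and_eq_true, decide_eq_true_eq, beq_iff_eq] at h3
  obtain ⟨r, -, ⟨⟨⟨-, hg⟩, hk⟩, hrk⟩⟩ := h3
  refine ⟨dec r.2.2.1, (MulAut.conj (dec r.2.2.1)).toMonoidHom.comp f, ?_⟩
  set g := dec r.2.2.1 with hgdef
  set f' := (MulAut.conj g).toMonoidHom.comp f
  have hconj : ∀ w, e g * x * e w * (e g * x)⁻¹ = e (f' w) := fun w => by
    show _ = e (g * f w * g⁻¹)
    rw [map_mul, map_mul, map_inv, hf]; group
  have hout : e g * x ∉ e.range := fun hm => hx (by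
    have h1 := mul_mem (inv_mem (⟨g, rfl⟩ : e g ∈ e.range)) hm
    rwa [inv_mul_cancel_left] at h1)
  obtain ⟨c, hcc⟩ : e g * x * (e g * x) ∈ e.range := by
    rw [show e g * x * (e g * x) = e g * (x * e g * x⁻¹) * (x * x) by group, ← hf]
    exact mul_mem (mul_mem ⟨g, rfl⟩ ⟨_, rfl⟩) hxx
  have hext : Ext e (e g * x) f' c := ⟨he, hout, hconj, hcc.symm⟩
  have htrip : trip f' = autReps.getD r.2.2.2 (0, 0, 0) := by
    show (code (g * f gA * g⁻¹), code (g * f gB * g⁻¹), code (g * f gT * g⁻¹)) = _
    rw [code_conj, code_conj, code_conj, hgdef, code_dec hg, hrk]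
  exact ⟨c, _, hext, htrip, index_mem hr hext hk htrip⟩

/-- An element outside with square inside cannot centralise the copy. -/
theorem not_centralize (hr : Cfsg.SectionalPRankLE 2 4 S) (he : Function.Injective e) {x : S}
    (hc : ∀ w, x * e w = e w * x) (hx : x ∉ e.range) (hxx : x * x ∈ e.range) : False := by
  obtain ⟨c, hcc⟩ := hxx
  have hext : Ext e x (MonoidHom.id W) c :=
    ⟨he, hx, fun w => by rw [hc]; simp, hcc.symm⟩
  obtain ⟨d, hd, hd1⟩ := index_mem hr hext (k := 0) (by norm_num) rfl
  have := List.all_eq_true.mp isoCerts_index d hd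
  simp [hd1] at this

/-- The codes of a normal elementary abelian subgroup of order sixteen form one of two lists. -/
theorem codes_normal (he : Function.Injective e) {V : Subgroup S} (hV : V ≤ e.range)
    (hn : ∀ g ∈ e.range, ∀ v ∈ V, g * v * g⁻¹ ∈ V) (hel : Cfsg.IsElementaryAbelian 2 V)
    (hcard : Nat.card ↥V = 16) :
    ∃ l ∈ [v0, v1], ∀ w, e w ∈ V ↔ code w ∈ l := by
  classical
  let A : Finset ℕ := (Finset.univ.filter fun w => e w ∈ V).image code
  have hA : A.card = 16 := by
    rw [Finset.card_image_of_injective _ code_inj, ← Fintype.card_subtype, ← Nat.card_eq_fintype_card,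
      ← hcard]
    exact Nat.card_congr (Equiv.ofBijective (fun w => (⟨e w.1, w.2⟩ : ↥V))
      ⟨fun a b h => Subtype.ext (he (congrArg Subtype.val h)), fun v => by
        obtain ⟨w, hw⟩ := hV v.2
        exact ⟨⟨w, hw ▸ v.2⟩, Subtype.ext hw⟩⟩)
  have memA : ∀ w, code w ∈ A ↔ e w ∈ V := fun w => by
    simp [A, code_inj.eq_iff]
  have rel : ∀ m ∈ A, ∀ n ∈ A, m ∈ invList ∧ relB m n = true := by
    intro m hm n hn'
    obtain ⟨v, rfl⟩ : ∃ v, code v = m := by
      obtain ⟨v, -, h⟩ := Finset.mem_image.mp hm; exact ⟨v, h⟩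
    obtain ⟨w, rfl⟩ : ∃ w, code w = n := by
      obtain ⟨w, -, h⟩ := Finset.mem_image.mp hn'; exact ⟨w, h⟩
    rw [memA] at hm hn'
    have com : ∀ v', e v' ∈ V → cmB (code v') (code w) = true := fun v' hv' =>
      code_commute.mpr (he (by
        rw [map_mul, map_mul]
        exact congrArg Subtype.val (hel.1.is_comm.comm (⟨_, hv'⟩ : ↥V) ⟨_, hn'⟩)))
    have cj : ∀ g, cmB (pc (code g) (code v)) (code w) = true := fun g => by
      rw [← code_conj]
      exact com _ (by rw [map_mul, map_mul, map_inv]; exact hn _ ⟨g, rfl⟩ _ hm)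
    refine ⟨?_, ?_⟩
    · have := List.all_eq_true.mp invOK_true _ (List.mem_range.mpr (code_lt v))
      have h2 : pm (code v) (code v) = 0 := by
        rw [← code_mul, code_eq_zero]
        exact he (by rw [map_mul, map_one, ← pow_two]; exact hel.2 _ hm)
      simpa [h2] using this
    · simp only [relB, Bool.and_eq_true]
      exact ⟨⟨⟨com v hm, cgA ▸ cj gA⟩, cgB ▸ cj gB⟩, cgT ▸ cj gT⟩
  have fin : ∀ l : List ℕ, l.length = 16 → (∀ m ∈ A, m ∈ l) → ∀ w, e w ∈ V ↔ code w ∈ l :=
    fun l hl hsub w => by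
      have : A = l.toFinset := Finset.eq_of_subset_of_card_le (fun m hm => List.mem_toFinset.mpr (hsub m hm))
        (by rw [hA]; exact hl ▸ List.toFinset_card_le l)
      rw [← memA, this, List.mem_toFinset]
  obtain ⟨v, hv, hvI⟩ : ∃ v ∈ A, v ∉ v0.filter fun n => v1.contains n := by
    by_contra hall
    push Not at hall
    have : A ⊆ (v0.filter fun n => v1.contains n).toFinset := fun m hm => List.mem_toFinset.mpr (hall m hm)
    have := (Finset.card_le_card this).trans (List.toFinset_card_le _)
    have := inter_lt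
    omega
  have h1 := List.all_eq_true.mp normOK_true v (rel v hv v hv).1
  simp only [(rel v hv v hv).2, Bool.not_true, Bool.false_or, Bool.or_eq_true, List.all_eq_true,
    List.contains_iff_mem, Bool.not_eq_true', Bool.and_eq_true] at h1
  rcases h1 with (h1 | h1) | h1
  · exact ⟨v0, by simp, fin v0 v_lengths.1 fun m hm => (h1 m (rel m hm m hm).1).resolve_left (by simp [(rel v hv m hm).2])⟩
  · exact ⟨v1, by simp, fin v1 v_lengths.2 fun m hm => (h1 m (rel m hm m hm).1).resolve_left (by simp [(rel v hv m hm).2])⟩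
  · exact (hvI (List.mem_filter.mpr ⟨h1.1, List.contains_iff_mem.mpr h1.2⟩)).elim

/-- An element outside with square inside does not normalise such a subgroup. -/
theorem not_fix (hr : Cfsg.SectionalPRankLE 2 4 S) (he : Function.Injective e) {x : S}
    (hn : x ∈ Subgroup.normalizer (e.range : Set S)) (hx : x ∉ e.range) (hxx : x * x ∈ e.range)
    {V : Subgroup S} (hV : V ≤ e.range) (hnV : ∀ g ∈ e.range, ∀ v ∈ V, g * v * g⁻¹ ∈ V)
    (hel : Cfsg.IsElementaryAbelian 2 V) (hcard : Nat.card ↥V = 16)
    (hfix : ∀ v ∈ V, x * v * x⁻¹ ∈ V) : False := by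
  obtain ⟨g, f, c, k, hext, htrip, d, hd, hdk⟩ := classify hr he hn hx hxx
  obtain ⟨l, hl, hlV⟩ := codes_normal he hV hnV hel hcard
  have hk : k ∈ [1, 3] := by
    have := List.all_eq_true.mp isoCerts_index d hd
    simpa [hdk] using this
  have := List.all_eq_true.mp (List.all_eq_true.mp moved k hk) l hl
  simp only [List.any_eq_true, List.contains_iff_mem, Bool.not_eq_true', decide_eq_false_iff_not,
    List.contains_eq_mem] at this
  obtain ⟨n, hn1, hn2⟩ := this
  have hn128 : n < 128 := by
    simp only [List.mem_cons, List.not_mem_nil, or_false] at hl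
    rcases hl with rfl | rfl
    · exact (show ∀ i ∈ v0, i < 128 by decide +kernel) n hn1
    · exact (show ∀ i ∈ v1, i < 128 by decide +kernel) n hn1
  refine hn2 ?_
  rw [← htrip, ← code_dec hn128, ← code_f, ← hlV]
  rw [← hext.conj, show e g * x * e (dec n) * (e g * x)⁻¹ = e g * (x * e (dec n) * x⁻¹) * (e g)⁻¹ by group]
  exact hnV _ ⟨g, rfl⟩ _ (hfix _ ((hlV _).mpr (by rwa [code_dec hn128])))

omit [Finite S] in
/-- A subgroup strictly above another one has an element outside whose square is inside. -/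
theorem exists_sq (h2 : IsPGroup 2 S) {P : Subgroup S} {y : S} (hy : y ∉ P) (K : Subgroup S)
    (hyK : y ∈ K) : ∃ x ∈ K, x ∉ P ∧ x * x ∈ P := by
  obtain ⟨n, hn⟩ := h2 y
  induction n generalizing y with
  | zero => simp at hn; exact absurd (hn ▸ one_mem P) hy
  | succ n ih =>
    by_cases h : y * y ∈ P
    · exact ⟨y, hyK, hy, h⟩
    · exact ih h (mul_mem hyK hyK) (by rw [← pow_two, ← pow_mul, ← pow_succ', hn])

/-- Strictly inside a subgroup of a 2-group, the normaliser grows. -/
theorem exists_normalizing (h2 : IsPGroup 2 S) {P K : Subgroup S} (hle : P ≤ K) (hne : P ≠ K) :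
    ∃ y ∈ K, y ∉ P ∧ y ∈ Subgroup.normalizer (P : Set S) := by
  haveI : Group.IsNilpotent ↥K := (h2.to_subgroup K).isNilpotent
  have hlt : P.subgroupOf K < ⊤ := lt_of_le_of_ne le_top fun h =>
    hne (le_antisymm hle (Subgroup.subgroupOf_eq_top.mp h))
  obtain ⟨y, hyN, hyP⟩ := SetLike.exists_of_lt (Group.normalizerCondition_of_isNilpotent (G := ↥K) _ hlt)
  refine ⟨y, y.2, fun h => hyP (Subgroup.mem_subgroupOf.mpr h), ?_⟩
  rw [Subgroup.mem_normalizer_iff] at hyN ⊢
  intro z
  by_cases hz : z ∈ K
  · exact hyN ⟨z, hz⟩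
  · refine ⟨fun h => absurd (hle h) hz, fun h => absurd (?_ : z ∈ K) hz⟩
    simpa [mul_assoc] using mul_mem (mul_mem (inv_mem y.2) (hle h)) y.2

/-- The first of the two subgroups. -/
def sub0 : Subgroup W where
  carrier := {w | code w ∈ v0}
  one_mem' := by decide
  mul_mem' {x y} hx hy := by
    have : ∀ m ∈ v0, ∀ n ∈ v0, pm m n ∈ v0 := by decide +kernel
    show code (x * y) ∈ v0
    rw [code_mul]; exact this _ hx _ hy
  inv_mem' {x} hx := by
    have : ∀ m ∈ v0, pinv m ∈ v0 := by decide +kernel
    show code x⁻¹ ∈ v0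
    rw [code_inv]; exact this _ hx

theorem sub0_spec (he : Function.Injective e) :
    sub0.map e ≤ e.range ∧ (∀ g ∈ e.range, ∀ v ∈ sub0.map e, g * v * g⁻¹ ∈ sub0.map e) ∧
      Cfsg.IsElementaryAbelian 2 (sub0.map e) ∧ Nat.card ↥(sub0.map e) = 16 := by
  refine ⟨?_, ?_, ?_, ?_⟩
  · rintro _ ⟨w, -, rfl⟩; exact ⟨w, rfl⟩
  · rintro _ ⟨g, rfl⟩ _ ⟨v, hv, rfl⟩
    refine ⟨g * v * g⁻¹, ?_, by simp⟩
    show code _ ∈ v0
    have key : ((List.range 128).all fun g => v0.all fun m => v0.contains (pc g m)) = true := by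
      decide +kernel
    have := List.all_eq_true.mp (List.all_eq_true.mp key _ (List.mem_range.mpr (code_lt g))) _ hv
    rw [code_conj]
    simpa using this
  · refine ⟨⟨⟨?_⟩⟩, ?_⟩
    · rintro ⟨_, v, hv, rfl⟩ ⟨_, w, hw, rfl⟩
      have : ∀ m ∈ v0, ∀ n ∈ v0, cmB m n = true := by decide +kernel
      exact Subtype.ext (by simp [← map_mul, code_commute.mp (this _ hv _ hw)])
    · rintro _ ⟨v, hv, rfl⟩
      have : ∀ m ∈ v0, pm m m = 0 := by decide +kernel
      have hv2 := this _ hv
      rw [← code_mul, code_eq_zero] at hv2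
      rw [← map_pow, pow_two, hv2, map_one]
  · rw [← Nat.card_congr (Subgroup.equivMapOfInjective sub0 e he).toEquiv]
    have : Nat.card ↥sub0 = Nat.card {w : W // code w ∈ v0} := rfl
    rw [this, Nat.card_eq_fintype_card]
    decide +kernel


set_option maxHeartbeats 1000000 in
/-- Let S be a finite 2-group of sectional 2-rank at most 4 and P a proper subgroup isomorphic to the wreath product of the dihedral group of order 8 by a group of order 2 (equivalently, to a Sylow 2-subgroup of the symmetric group of degree 8; order 128). Then Z(S) = Z(P) has order 2, P has index 2 in its normalizer N_S(P), N_S(P)/Z(S) is again isomorphic to that wreath product, and every elementary abelian subgroup V of order 16 that is normal in P satisfies N_S(V) = P. -/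
theorem result {S : Type*} [Group S] [Finite S] (h2 : IsPGroup 2 S) (hr : Cfsg.SectionalPRankLE 2 4 S)
    (P : Subgroup S) (hPlt : P ≠ ⊤) (hP : ∃ T : Sylow 2 (Equiv.Perm (Fin 8)), Nonempty (↥P ≃* ↥(T : Subgroup (Equiv.Perm (Fin 8))))) :
    Subgroup.center S = (Subgroup.center ↥P).map P.subtype ∧ Nat.card ↥(Subgroup.center S) = 2 ∧
    P.relIndex (Subgroup.normalizer (P : Set S)) = 2 ∧
    (∃ (_ : ((Subgroup.center S).subgroupOf (Subgroup.normalizer (P : Set S))).Normal) (T : Sylow 2 (Equiv.Perm (Fin 8))),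
      Nonempty (↥(Subgroup.normalizer (P : Set S)) ⧸ (Subgroup.center S).subgroupOf (Subgroup.normalizer (P : Set S)) ≃*
        ↥(T : Subgroup (Equiv.Perm (Fin 8))))) ∧
    ∀ V : Subgroup S, V ≤ P → (∀ g ∈ P, ∀ v ∈ V, g * v * g⁻¹ ∈ V) → Cfsg.IsElementaryAbelian 2 V → Nat.card ↥V = 16 →
      Subgroup.normalizer (V : Set S) = P := by
  obtain ⟨T, ⟨eP⟩⟩ := hP
  obtain ⟨eT⟩ := nonempty_equiv_sylow T
  let e : W →* S := P.subtype.comp (eT.trans eP.symm).toMonoidHom
  have he : Function.Injective e := P.subtype_injective.comp (eT.trans eP.symm).injective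
  have hrange : e.range = P := by
    rw [MonoidHom.range_comp, MonoidHom.range_eq_top.mpr (eT.trans eP.symm).surjective,
      ← MonoidHom.range_eq_map, Subgroup.range_subtype]
  clear_value e
  subst hrange
  obtain ⟨hV0, hV0n, hV0e, hV0c⟩ := sub0_spec he
  -- an element fixing a normal subgroup of order sixteen lies in the copy
  have fixP : ∀ V : Subgroup S, V ≤ e.range → (∀ g ∈ e.range, ∀ v ∈ V, g * v * g⁻¹ ∈ V) →
      Cfsg.IsElementaryAbelian 2 V → Nat.card ↥V = 16 →
      ∀ y ∈ Subgroup.normalizer (e.range : Set S), y ∈ Subgroup.normalizer (V : Set S) → y ∈ e.range := by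
    intro V hVP hnV hel hc y hyP hyV
    by_contra hy
    obtain ⟨x, hxK, hxP, hxx⟩ := exists_sq h2 hy
      (Subgroup.normalizer (e.range : Set S) ⊓ Subgroup.normalizer (V : Set S)) ⟨hyP, hyV⟩
    exact not_fix hr he hxK.1 hxP hxx hVP hnV hel hc fun v hv =>
      (Subgroup.mem_normalizer_iff.mp hxK.2 v).mp hv
  have cent : ∀ y : S, (∀ w, y * e w = e w * y) → y ∈ e.range := by
    intro y hy
    by_contra hyP
    obtain ⟨x, hxK, hxP, hxx⟩ := exists_sq h2 hyP (Subgroup.centralizer (e.range : Set S))
      (Subgroup.mem_centralizer_iff.mpr (by rintro _ ⟨w, rfl⟩; exact (hy w).symm))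
    exact not_centralize hr he (fun w => ((Subgroup.mem_centralizer_iff.mp hxK) _ ⟨w, rfl⟩).symm) hxP hxx
  -- the centre
  set z := e (dec 18) with hz
  have centP : ∀ w : W, (∀ v, w * v = v * w) ↔ w = 1 ∨ w = dec 18 := by
    intro w
    have h1 := List.all_eq_true.mp center_codes _ (List.mem_range.mpr (code_lt w))
    rw [beq_iff_eq] at h1
    constructor
    · intro hw
      have kA := code_commute.mpr (hw gA)
      have kB := code_commute.mpr (hw gB)
      have kT := code_commute.mpr (hw gT)
      rw [cgA] at kA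
      rw [cgB] at kB
      rw [cgT] at kT
      rw [kA, kB, kT] at h1
      simp at h1
      rcases h1 with h1 | h1
      · exact Or.inl (code_eq_zero.mp h1)
      · exact Or.inr (code_inj (h1.trans (code_dec (by norm_num)).symm))
    · intro hw v
      have hb : (code w == 0 || code w == 18) = true := by
        rcases hw with rfl | rfl
        · simp [code_one]
        · simp [code_dec (show (18:ℕ) < 128 by norm_num)]
      rw [hb, Bool.and_eq_true, Bool.and_eq_true] at h1
      obtain ⟨⟨kA, kB⟩, kT⟩ := h1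
      rw [← cgA] at kA
      rw [← cgB] at kB
      rw [← cgT] at kT
      have hA : w * gA = gA * w := code_commute.mp kA
      have hB : w * gB = gB * w := code_commute.mp kB
      have hT : w * gT = gT * w := code_commute.mp kT
      have := hom_ext_gens (f := (MulAut.conj w).toMonoidHom) (g := MonoidHom.id W)
        (by simp [hA]) (by simp [hB]) (by simp [hT])
      have hv := DFunLike.congr_fun this v
      simp at hv
      calc w * v = w * v * w⁻¹ * w := by group
        _ = v * w := by rw [hv]
  have hzc : ∀ s : S, s ∈ Subgroup.center S ↔ s = 1 ∨ s = z := by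
    have sub : ∀ s : S, s ∈ Subgroup.center S → s = 1 ∨ s = z := by
      intro s hs
      obtain ⟨w, rfl⟩ : s ∈ e.range := cent s fun w => (Subgroup.mem_center_iff.mp hs (e w)).symm
      rcases (centP w).mp fun v => he (by
        rw [map_mul, map_mul, Subgroup.mem_center_iff.mp hs]) with rfl | rfl
      · exact Or.inl (map_one e)
      · exact Or.inr rfl
    intro s
    refine ⟨sub s, ?_⟩
    rintro (rfl | rfl)
    · exact one_mem _
    · haveI : Fact (Nat.Prime 2) := ⟨Nat.prime_two⟩
      haveI : Nontrivial S := by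
        refine ⟨⟨e gA, 1, fun h => ?_⟩⟩
        have := he (h.trans (map_one e).symm)
        exact absurd this (by decide +kernel)
      haveI := h2.center_nontrivial
      obtain ⟨⟨c, hc⟩, hcne⟩ := exists_ne (1 : ↥(Subgroup.center S))
      rcases sub c hc with rfl | rfl
      · exact absurd rfl hcne
      · exact hc
  have zne : z ≠ 1 := fun h => by
    have := he (h.trans (map_one e).symm)
    exact absurd this (by decide +kernel)
  have hcenter : Subgroup.center S = (Subgroup.center ↥e.range).map e.range.subtype := by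
    ext s
    rw [hzc, Subgroup.mem_map]
    constructor
    · intro hs
      have hsC : s ∈ Subgroup.center S := (hzc s).mpr hs
      have hsP : s ∈ e.range := cent s fun w => (Subgroup.mem_center_iff.mp hsC (e w)).symm
      exact ⟨⟨s, hsP⟩, Subgroup.mem_center_iff.mpr fun q => Subtype.ext (Subgroup.mem_center_iff.mp hsC q.1), rfl⟩
    · rintro ⟨q, hq, rfl⟩
      obtain ⟨w, hw⟩ : (q : S) ∈ e.range := q.2
      rcases (centP w).mp fun v => he (by
        have hvP : e v ∈ e.range := ⟨v, rfl⟩
        have := congrArg Subtype.val (Subgroup.mem_center_iff.mp hq ⟨e v, hvP⟩)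
        simp at this
        rw [map_mul, map_mul, hw, this]) with rfl | rfl
      · left; rw [map_one] at hw; exact hw.symm
      · exact Or.inr hw.symm
  have hPN : e.range ≤ Subgroup.normalizer (e.range : Set S) := Subgroup.le_normalizer
  obtain ⟨y, -, hyP, hyN⟩ := exists_normalizing h2 (le_top : e.range ≤ ⊤) hPlt
  have two : ∀ x ∈ Subgroup.normalizer (e.range : Set S), ∀ x' ∈ Subgroup.normalizer (e.range : Set S),
      x ∉ e.range → x' ∉ e.range → x * x' ∈ e.range := by
    intro x hx x' hx' hxP hx'P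
    have img : ∀ t ∈ Subgroup.normalizer (e.range : Set S), ∃ l ∈ [v0, v1], ∀ w,
        e w ∈ (sub0.map e).map (MulAut.conj t).toMonoidHom ↔ code w ∈ l := by
      intro t ht
      refine codes_normal he ?_ ?_ ?_ ?_
      · rintro _ ⟨v, hv, rfl⟩
        exact (Subgroup.mem_normalizer_iff.mp ht v).mp (hV0 hv)
      · rintro g hg _ ⟨v, hv, rfl⟩
        have hg' : t⁻¹ * g * t ∈ e.range := by
          rw [Subgroup.mem_normalizer_iff.mp ht]; simpa [mul_assoc] using hg
        exact ⟨_, hV0n _ (hg') v hv, by simp [mul_assoc]⟩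
      · refine ⟨⟨⟨?_⟩⟩, ?_⟩
        · rintro ⟨_, v, hv, rfl⟩ ⟨_, w, hw, rfl⟩
          refine Subtype.ext ?_
          have := congrArg Subtype.val (hV0e.1.is_comm.comm (⟨v, hv⟩ : ↥(sub0.map e)) ⟨w, hw⟩)
          simp only [Subgroup.coe_mul] at this ⊢
          rw [← map_mul, ← map_mul, this]
        · rintro _ ⟨v, hv, rfl⟩
          rw [← map_pow, hV0e.2 v hv, map_one]
      · rw [← Nat.card_congr (Subgroup.equivMapOfInjective _ _ (MulAut.conj t).injective).toEquiv]
        exact hV0c
    have moved0 : ∀ t ∈ Subgroup.normalizer (e.range : Set S), t ∉ e.range → ∀ w,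
        e w ∈ (sub0.map e).map (MulAut.conj t).toMonoidHom ↔ code w ∈ v1 := by
      intro t ht htP
      obtain ⟨l, hl, hlw⟩ := img t ht
      simp only [List.mem_cons, List.not_mem_nil, or_false] at hl
      rcases hl with rfl | rfl
      · exfalso
        refine htP (fixP _ (hV0) (fun g hg => hV0n g (hg)) hV0e hV0c _ ht ?_)
        refine Subgroup.mem_normalizer_fintype fun v hv => ?_
        obtain ⟨w, hw⟩ : t * v * t⁻¹ ∈ e.range := by
          exact (Subgroup.mem_normalizer_iff.mp ht v).mp (hV0 hv)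
        exact hw ▸ ⟨w, (hlw w).mp ⟨v, hv, hw.symm⟩, rfl⟩
      · exact hlw
    have hx'' : x'⁻¹ ∉ e.range := fun h => hx'P (by simpa using inv_mem h)
    have e1 := moved0 x hx hxP
    have e2 := moved0 x'⁻¹ (inv_mem hx') hx''
    suffices h : x' * x ∈ e.range by
      have := (Subgroup.mem_normalizer_iff.mp hx _).mp h
      rwa [show x * (x' * x) * x⁻¹ = x * x' by group] at this
    refine fixP _ (hV0) (fun g hg => hV0n g (hg)) hV0e hV0c _ (mul_mem hx' hx) ?_
    refine Subgroup.mem_normalizer_fintype fun v hv => ?_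
    obtain ⟨w, hw⟩ : x * v * x⁻¹ ∈ e.range := by
      exact (Subgroup.mem_normalizer_iff.mp hx v).mp (hV0 hv)
    obtain ⟨v', hv', hv''⟩ := (e2 w).mpr ((e1 w).mp ⟨v, hv, hw.symm⟩)
    have h3 : x'⁻¹ * v' * x' = x * v * x⁻¹ := by rw [← hw, ← hv'']; simp
    rw [show x' * x * v * (x' * x)⁻¹ = x' * (x * v * x⁻¹) * x'⁻¹ by group, ← h3]
    simpa [mul_assoc] using hv'
  refine ⟨hcenter, ?_, ?_, ?_, ?_⟩
  · have : ((Subgroup.center S : Subgroup S) : Set S) = {1, z} := Set.ext fun s => hzc s
    rw [← SetLike.coe_sort_coe, this, Nat.card_coe_set_eq, Set.ncard_pair zne.symm]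
  · rw [Subgroup.relIndex, Subgroup.index_eq_two_iff]
    refine ⟨⟨y, hyN⟩, fun b => ?_⟩
    simp only [Subgroup.mem_subgroupOf, Subgroup.coe_mul]
    by_cases hb : (b : S) ∈ e.range
    · refine Or.inr ⟨hb, fun h => hyP ?_⟩
      simpa using mul_mem (inv_mem hb) h
    · exact Or.inl ⟨two b b.2 y hyN hb hyP, hb⟩
  · obtain ⟨x, hxN, hxP, hxx⟩ := exists_sq h2 hyP (Subgroup.normalizer (e.range : Set S)) hyN
    obtain ⟨g, f, c, k, hext, htrip, d, hd, hdk⟩ := classify hr he hxN hxP hxx
    have hiso := List.all_eq_true.mp isoCerts_ok d hd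
    rw [hdk, ← htrip] at hiso
    set h := e g * x
    have hhN : h ∈ Subgroup.normalizer (e.range : Set S) := mul_mem (hPN ⟨g, rfl⟩) hxN
    have hN : ∀ s, s ∈ Subgroup.normalizer (e.range : Set S) ↔ ∃ u < 256, s = big e h u := by
      intro s
      constructor
      · intro hs
        by_cases hsP : s ∈ e.range
        · obtain ⟨w, rfl⟩ := hsP
          exact ⟨code w, (code_lt w).trans (by norm_num), (big_code w).symm⟩
        · obtain ⟨w, hw⟩ : s * h⁻¹ ∈ e.range := two s hs h⁻¹ (inv_mem hhN) hsP
            fun hm => hext.out (by simpa using inv_mem hm)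
          refine ⟨code w + 128, by have := code_lt w; omega, ?_⟩
          have := code_lt w
          rw [big, show (code w + 128) % 128 = code w by omega, show (code w + 128) / 128 = 1 by omega,
            pow_one, dec_code, hw, inv_mul_cancel_right]
      · rintro ⟨u, -, rfl⟩
        exact mul_mem (hPN ⟨_, rfl⟩) (pow_mem hhN _)
    obtain ⟨ψ, hψs, hψ⟩ := exists_onto hext hiso _ hN
    have hker : ψ.ker = (Subgroup.center S).subgroupOf (Subgroup.normalizer (e.range : Set S)) := by
      ext s
      rw [MonoidHom.mem_ker, hψ, Subgroup.mem_subgroupOf, hzc]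
    have hnorm : ((Subgroup.center S).subgroupOf (Subgroup.normalizer (e.range : Set S))).Normal := hker ▸ inferInstance
    exact ⟨hnorm, T, ⟨((QuotientGroup.quotientMulEquivOfEq hker.symm).trans
      (QuotientGroup.quotientKerEquivOfSurjective ψ hψs)).trans eT⟩⟩
  · intro V hVP hnV hel hc
    refine le_antisymm ?_ fun g hg => Subgroup.mem_normalizer_fintype fun v hv => hnV g hg v hv
    intro g hg
    by_contra hgP
    have hle : e.range ≤ Subgroup.normalizer (V : Set S) := fun a ha =>
      Subgroup.mem_normalizer_fintype fun v hv => hnV a ha v hv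
    obtain ⟨y', hy'V, hy'e.range, hy'N⟩ := exists_normalizing h2 hle (fun h => hgP (h ▸ hg))
    exact hy'e.range (fixP V hVP hnV hel hc y' hy'N hy'V)

end Cfsg.Agent.S4402
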