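import Cfsg.Statements.S4403
import Cfsg.Agent.Lib.ComponentsFitting
import Cfsg.Agent.Lib.ComponentsBasic
import Cfsg.Agent.Lib.ComponentsCores
import Cfsg.Agent.Lib.PGroupsCyclic
import Cfsg.Agent.Lib.PGroupsBasic
import Cfsg.Agent.Lib.HallCore

set_option autoImplicit false
open Cfsg

namespace Cfsg.Agent.S4403

open Cfsg.Agent Cfsg.Agent.ComponentsBasic Cfsg.Agent.ComponentsFitting Cfsg.Agent.ComponentsCores
open Subgroup
open scoped Pointwise

variable {K : Type*} [Group K] [Finite K] {p : ℕ} [hp : Fact p.Prime]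

omit [Finite K] in
theorem comm_of_mem {A : Subgroup K} (hA : IsCyclic A) {x y : K} (hx : x ∈ A) (hy : y ∈ A) : x * y = y * x :=
  congrArg Subtype.val ((IsCyclic.isMulCommutative (α := A)).is_comm.comm ⟨x, hx⟩ ⟨y, hy⟩)

theorem sylow_isCyclic {P : Sylow p K} (hP : IsCyclic (P : Subgroup K)) (Q : Sylow p K) :
    IsCyclic (Q : Subgroup K) :=
  (P.equiv Q).isCyclic.mp hP

/-- Two disjoint commuting subgroups cannot both have order divisible by `p`. -/
theorem not_two {P : Sylow p K} (hP : IsCyclic (P : Subgroup K)) {A B : Subgroup K}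
    (hcomm : ∀ a ∈ A, ∀ b ∈ B, a * b = b * a) (hAB : A ⊓ B = ⊥) (hA : p ∣ Nat.card A) (hB : p ∣ Nat.card B) :
    False := by
  obtain ⟨⟨a, haA⟩, ha⟩ := exists_prime_orderOf_dvd_card' p hA
  obtain ⟨⟨b, hbB⟩, hb⟩ := exists_prime_orderOf_dvd_card' p hB
  rw [orderOf_mk] at ha hb
  have hap : a ^ p = 1 := ha ▸ pow_orderOf_eq_one a
  have hbp : b ^ p = 1 := hb ▸ pow_orderOf_eq_one b
  have hE : IsElementaryAbelian p (closure ({a, b} : Set K)) := PGroupsBasic.isElementaryAbelian_closure
    (by rintro x (rfl | rfl) y (rfl | rfl) <;>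
      first | rfl | exact hcomm _ haA _ hbB | exact (hcomm _ haA _ hbB).symm)
    (by rintro x (rfl | rfl) <;> assumption)
  obtain ⟨Q, hQ⟩ := (PGroupsBasic.isPGroup_of_isElementaryAbelian hE).exists_le_sylow
  have heq : zpowers a = zpowers b := PGroupsCyclic.eq_of_card_eq_of_isCyclic (sylow_isCyclic hP Q)
    (zpowers_le.mpr (hQ (subset_closure (by simp)))) (zpowers_le.mpr (hQ (subset_closure (by simp))))
    (by rw [Nat.card_zpowers, Nat.card_zpowers, ha, hb])
  have h1 : a ∈ A ⊓ B := ⟨haA, zpowers_le.mpr hbB (heq ▸ mem_zpowers a)⟩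
  rw [hAB, mem_bot] at h1
  rw [h1, orderOf_one] at ha
  exact hp.out.one_lt.ne ha

theorem fitting_isPGroup (hO : pPrimeCore p K = ⊥) : IsPGroup p (fittingSubgroup K) := by
  refine IsPGroup.of_card (n := (Nat.card (fittingSubgroup K)).primeFactorsList.length)
    (Nat.eq_prime_pow_of_unique_prime_dvd Nat.card_pos.ne' fun {q} hq hdvd => ?_)
  by_contra hne
  have : Fact q.Prime := ⟨hq⟩
  obtain ⟨Q⟩ : Nonempty (Sylow q (fittingSubgroup K)) := inferInstance
  have hQn : (Q : Subgroup (fittingSubgroup K)).Normal := by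
    have h := (Group.isNilpotent_of_finite_tfae (G := fittingSubgroup K)).out 0 3
    exact h.mp (fittingSubgroup_isNilpotent (G := K)) q inferInstance Q
  have hs := isSubnormal_map_normal (H := (Q : Subgroup (fittingSubgroup K))) hQn.isSubnormal
  have hle := subnormal_coprime_le_pPrimeCore hs (p := p) (by
    obtain ⟨n, hn⟩ := IsPGroup.iff_card.mp Q.isPGroup'
    rw [card_map_of_injective (subtype_injective _), hn]
    exact Nat.Coprime.pow_left n ((Nat.coprime_primes hq hp.out).mpr hne))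
  rw [hO, le_bot_iff, map_eq_bot_iff_of_injective _ (subtype_injective _)] at hle
  have h1 := Q.card_eq_multiplicity
  rw [hle, card_bot] at h1
  have h2 := hq.factorization_pos_of_dvd Nat.card_pos.ne' hdvd
  exact absurd h1 (Nat.one_lt_pow h2.ne' hq.one_lt).ne

/-- A central `p`-element of a group with abelian Sylow `p`-subgroup meets the derived group trivially. -/
theorem eq_one_of_center_commutator {L : Type*} [Group L] [Finite L] (P : Sylow p L)
    (hP : IsMulCommutative (P : Subgroup L)) {z : L} (hz : z ∈ center L) (hc : z ∈ commutator L)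
    (hzP : z ∈ (P : Subgroup L)) : z = 1 := by
  have key : ∀ (k : ℕ) (g₀ : L), g₀⁻¹ * z ^ k * g₀ ∈ (P : Subgroup L) → g₀⁻¹ * z ^ k * g₀ = z ^ k :=
    fun k g₀ _ => by rw [mul_assoc, ← mem_center_iff.mp (pow_mem hz k) g₀, inv_mul_cancel_left]
  letI : CommGroup (P : Subgroup L) := { (inferInstance : Group (P : Subgroup L)) with
    mul_comm := fun a b => hP.is_comm.comm a b }
  have h1 := MonoidHom.transfer_eq_pow (MonoidHom.id (P : Subgroup L)) z key
  rw [show MonoidHom.transfer (MonoidHom.id (P : Subgroup L)) z = 1 from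
    Abelianization.commutator_subset_ker _ hc] at h1
  have h2 : z ^ (P : Subgroup L).index = 1 := (congrArg Subtype.val h1).symm
  obtain ⟨k, hk⟩ := IsPGroup.iff_card.mp P.isPGroup'
  have h3 := (Nat.Coprime.pow_left k ((hp.out.coprime_iff_not_dvd).mpr P.not_dvd_index))
  exact orderOf_eq_one_iff.mp (Nat.eq_one_of_dvd_coprimes h3
    (hk ▸ orderOf_dvd_natCard _ hzP) (orderOf_dvd_of_pow_eq_one h2))

theorem dvd_card_component (hO : pPrimeCore p K = ⊥) {L : Subgroup K} (hL : IsComponent L) :
    p ∣ Nat.card L := by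
  by_contra h
  have := subnormal_coprime_le_pPrimeCore hL.1 (p := p) ((hp.out.coprime_iff_not_dvd.mpr h).symm)
  rw [hO, le_bot_iff] at this
  exact (ComponentsBasic.IsComponent.ne_bot hL) this

theorem component_center (hO : pPrimeCore p K = ⊥) {P : Sylow p K} (hP : IsCyclic (P : Subgroup K))
    {L : Subgroup K} (hL : IsComponent L) : center L = ⊥ := by
  refine eq_bot_iff.mpr fun z hz => mem_bot.mpr ?_
  have hs : ((center L).map L.subtype).IsSubnormal :=
    isSubnormal_map_subtype hL.1 (inferInstance : (center L).Normal).isSubnormal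
  have hn : Group.IsNilpotent ((center L).map L.subtype) := by
    refine (isNilpotent_map_subtype_iff _).mpr ?_
    let : CommGroup (center L) := { (inferInstance : Group (center L)) with
      mul_comm := fun a b => Subtype.ext (mem_center_iff.mp b.2 a) }
    exact CommGroup.isNilpotent
  have hF := subnormal_nilpotent_le_fitting hs hn (mem_map_of_mem L.subtype hz)
  obtain ⟨k, hk⟩ := fitting_isPGroup hO ⟨_, hF⟩
  have hzk : z ^ p ^ k = 1 := Subtype.ext (congrArg Subtype.val hk :)
  obtain ⟨i, -, hi⟩ := (Nat.dvd_prime_pow hp.out).mp (orderOf_dvd_of_pow_eq_one hzk)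
  have hzp : IsPGroup p (zpowers z) := IsPGroup.of_card (n := i) (by rw [Nat.card_zpowers, hi])
  obtain ⟨Q, hQ⟩ := hzp.exists_le_sylow
  have hQc : IsMulCommutative (Q : Subgroup L) := by
    obtain ⟨R, hR⟩ := (Q.isPGroup'.map L.subtype).exists_le_sylow
    refine PGroupsBasic.isMulCommutative_of_forall fun x hx y hy => Subtype.ext ?_
    exact comm_of_mem (sylow_isCyclic hP R) (hR (mem_map_of_mem L.subtype hx)) (hR (mem_map_of_mem L.subtype hy))
  refine eq_one_of_center_commutator Q hQc hz ?_ (zpowers_le.mp hQ)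
  have hperf : Group.IsPerfect L := hL.2.1
  rw [show commutator L = ⊤ from hperf.commutator_eq_top]
  trivial

theorem component_simple (hO : pPrimeCore p K = ⊥) {P : Sylow p K} (hP : IsCyclic (P : Subgroup K))
    {L : Subgroup K} (hL : IsComponent L) : IsSimpleGroup L := by
  have := hL.2.2
  have e := (QuotientGroup.quotientMulEquivOfEq (component_center hO hP hL)).trans QuotientGroup.quotientBot
  have : Nontrivial L := isQuasisimple_nontrivial hL.2
  exact IsSimpleGroup.isSimpleGroup_of_surjective e.toMonoidHom e.surjective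

/-- The case without components. -/
theorem case_fitting (hO : pPrimeCore p K = ⊥) (P : Sylow p K) (hP : IsCyclic (P : Subgroup K))
    (hE : layer K = ⊥) :
    (P : Subgroup K).Normal ∧ centralizer ((P : Subgroup K) : Set K) = (P : Subgroup K) ∧
      (∀ (_ : (P : Subgroup K).Normal), IsCyclic (K ⧸ (P : Subgroup K))) ∧ (P : Subgroup K).index ∣ p - 1 := by
  have hF := fitting_isPGroup hO
  have hFP : fittingSubgroup K ≤ (P : Subgroup K) := (HallCore.le_pCore hF).trans (HallCore.pCore_le_sylow P)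
  have hPF : (P : Subgroup K) ≤ fittingSubgroup K := le_trans
    (fun x hx => mem_centralizer_iff.mpr fun f hf => comm_of_mem hP (hFP hf) hx)
    (centralizer_fitting_le_of_layer_eq_bot hE)
  have heq : (P : Subgroup K) = fittingSubgroup K := le_antisymm hPF hFP
  have hn : (P : Subgroup K).Normal := heq ▸ inferInstance
  have hcent : centralizer ((P : Subgroup K) : Set K) = (P : Subgroup K) :=
    le_antisymm (heq ▸ centralizer_fitting_le_of_layer_eq_bot hE)
      (fun x hx => mem_centralizer_iff.mpr fun f hf => comm_of_mem hP hf hx)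
  let φ : K →* MulAut (P : Subgroup K) := MulAut.conjNormal
  have hker : φ.ker = (P : Subgroup K) := by
    conv_rhs => rw [← hcent]
    ext g
    rw [MonoidHom.mem_ker, mem_centralizer_iff]
    constructor
    · intro h f hf
      have := congrArg (fun a : MulAut (P : Subgroup K) => ((a ⟨f, hf⟩ : (P : Subgroup K)) : K)) h
      simp only [φ, MulAut.conjNormal_apply, MulAut.one_apply] at this
      exact (mul_inv_eq_iff_eq_mul.mp this).symm
    · intro h
      refine MulEquiv.ext fun f => Subtype.ext ?_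
      simp only [φ, MulAut.conjNormal_apply, MulAut.one_apply]
      exact mul_inv_eq_iff_eq_mul.mpr (h f f.2).symm
  let e : K ⧸ (P : Subgroup K) ≃* φ.range :=
    (QuotientGroup.quotientMulEquivOfEq hker.symm).trans (QuotientGroup.quotientKerEquivRange φ)
  obtain ⟨n, hn'⟩ := IsPGroup.iff_card.mp P.isPGroup'
  have hdvd : (P : Subgroup K).index ∣ p - 1 := by
    have h1 : Nat.card φ.range ∣ Nat.card (MulAut (P : Subgroup K)) := card_subgroup_dvd_card _
    rw [← Nat.card_congr e.toEquiv, hP.card_mulAut, hn'] at h1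
    rcases Nat.eq_zero_or_pos n with rfl | hn0
    · simp only [pow_zero, Nat.totient_one] at h1
      exact h1.trans (one_dvd _)
    rw [Nat.totient_prime_pow hp.out hn0] at h1
    exact (Nat.Coprime.pow_right _ ((hp.out.coprime_iff_not_dvd.mpr P.not_dvd_index).symm)).dvd_of_dvd_mul_left h1
  refine ⟨hn, hcent, fun _ => ?_, hdvd⟩
  rw [e.isCyclic]
  rcases eq_or_ne p 2 with rfl | hp2
  · exact isCyclic_of_card_dvd_prime (p := 2)
      (by rw [← Nat.card_congr e.toEquiv]; exact dvd_trans hdvd (one_dvd _))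
  · have : IsCyclic (MulAut (P : Subgroup K)) := by
      have := ZMod.isCyclic_units_of_prime_pow p hp.out hp2 n
      rw [(IsCyclic.mulAutMulEquiv (P : Subgroup K)).isCyclic, hn']
      infer_instance
    exact isCyclic_of_le (le_top : φ.range ≤ ⊤)

/-- The case with a component. -/
theorem case_layer (hO : pPrimeCore p K = ⊥) (P : Sylow p K) (hP : IsCyclic (P : Subgroup K))
    (hE : layer K ≠ ⊥) :
    IsSimpleGroup (generalizedFittingSubgroup K) ∧ ¬ IsMulCommutative (generalizedFittingSubgroup K) ∧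
      ¬ p ∣ (generalizedFittingSubgroup K).index := by
  obtain ⟨L, hL⟩ : HasComponent K := not_not.mp (mt layer_eq_bot_iff.mpr hE)
  have hLp := dvd_card_component hO hL
  have hsimple := component_simple hO hP hL
  have hna : ¬ IsMulCommutative L := isQuasisimple_not_commutative hL.2
  have huniq : ∀ M : Subgroup K, IsComponent M → M = L := by
    intro M hM
    by_contra hne
    have hc : ∀ a ∈ L, ∀ b ∈ M, a * b = b * a := fun a ha b hb => by
      have h := commutator_mem_commutator ha hb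
      rw [components_commute hL hM (Ne.symm hne), mem_bot] at h
      exact commutatorElement_eq_one_iff_mul_comm.mp h
    refine not_two hP hc (eq_bot_iff.mpr fun x hx => mem_bot.mpr ?_) hLp (dvd_card_component hO hM)
    have : (⟨x, hx.1⟩ : L) ∈ center L :=
      mem_center_iff.mpr fun a => Subtype.ext (hc a a.2 x hx.2)
    rw [component_center hO hP hL, mem_bot] at this
    exact congrArg Subtype.val this
  have hlayer : layer K = L := le_antisymm (sSup_le fun M hM => (huniq M hM).le) (component_le_layer hL)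
  have hF : fittingSubgroup K = ⊥ := by
    by_contra hne
    have hd : p ∣ Nat.card (fittingSubgroup K) := by
      obtain ⟨k, hk⟩ := IsPGroup.iff_card.mp (fitting_isPGroup hO)
      rw [hk]
      rcases k with _ | k
      · rw [pow_zero, card_eq_one] at hk
        exact absurd hk hne
      · exact dvd_pow_self p (Nat.succ_ne_zero k)
    have hc : ∀ a ∈ L, ∀ b ∈ fittingSubgroup K, a * b = b * a := fun a ha b hb => by
      have h := commutator_mem_commutator ha hb
      rw [component_commute_fitting hL, mem_bot] at h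
      exact commutatorElement_eq_one_iff_mul_comm.mp h
    refine not_two hP hc (eq_bot_iff.mpr fun x hx => mem_bot.mpr ?_) hLp hd
    have : (⟨x, hx.1⟩ : L) ∈ center L :=
      mem_center_iff.mpr fun a => Subtype.ext (hc a a.2 x hx.2)
    rw [component_center hO hP hL, mem_bot] at this
    exact congrArg Subtype.val this
  have hgen : generalizedFittingSubgroup K = L := by
    rw [generalizedFittingSubgroup, hlayer, hF, sup_bot_eq]
  rw [hgen]
  refine ⟨hsimple, hna, fun hdvd => ?_⟩
  have hLn : L.Normal := hlayer ▸ layer_normal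
  -- replace `P` by a Sylow subgroup meeting `L` in a Sylow subgroup of `L`
  obtain ⟨R⟩ : Nonempty (Sylow p L) := inferInstance
  obtain ⟨P', hQ⟩ := (R.isPGroup'.map L.subtype).exists_le_sylow
  have hR : (R : Subgroup L) = (P' : Subgroup K).subgroupOf L := by
    refine (R.is_maximal' (P'.isPGroup'.comap_subtype) ?_).symm
    exact fun v hv => mem_subgroupOf.mpr (hQ (mem_map_of_mem _ hv))
  replace hP := sylow_isCyclic hP P'
  clear hQ huniq hlayer hgen hF
  clear! P
  rename' P' => P
  -- the intersection of `P` with `L`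
  set P₀ : Subgroup K := (P : Subgroup K) ⊓ L with hP₀
  have hRc : IsMulCommutative (R : Subgroup L) := PGroupsBasic.isMulCommutative_of_forall fun x hx y hy =>
    Subtype.ext (comm_of_mem hP (mem_subgroupOf.mp (hR ▸ hx)) (mem_subgroupOf.mp (hR ▸ hy)))
  -- some `p'`-element of `L` normalises but does not centralise it
  obtain ⟨g, hgn, hgc⟩ : ∃ g : L, g ∈ normalizer ((R : Subgroup L) : Set L) ∧
      g ∉ centralizer ((R : Subgroup L) : Set L) := by
    by_contra h
    push Not at h
    have hle : normalizer ((R : Subgroup L) : Set L) ≤ centralizer ((R : Subgroup L) : Set L) := h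
    have hc := MonoidHom.ker_transferSylow_isComplement' R hle
    rcases (inferInstance : (MonoidHom.transferSylow R hle).ker.Normal).eq_bot_or_eq_top with hb | ht
    · rw [hb, isComplement'_bot_left] at hc
      exact hna (PGroupsBasic.isMulCommutative_of_forall fun x hx y hy => congrArg Subtype.val
        (PGroupsBasic.comm_of_isMulCommutative hRc (x := ⟨x, hx⟩) (y := ⟨y, hy⟩)
          (hc ▸ mem_top _) (hc ▸ mem_top _) :))
    · rw [ht, isComplement'_top_left] at hc
      have h1 := hp.out.factorization_pos_of_dvd Nat.card_pos.ne' hLp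
      have h2 := R.card_eq_multiplicity
      rw [hc, card_bot] at h2
      exact absurd h2 (Nat.one_lt_pow h1.ne' hp.out.one_lt).ne
  have hconj : ∀ x ∈ P₀, (g : K) * x * (g : K)⁻¹ ∈ P₀ := by
    intro x hx
    have h := (mem_normalizer_iff.mp hgn ⟨x, hx.2⟩).mp (hR ▸ mem_subgroupOf.mpr hx.1)
    rw [hR] at h
    exact ⟨mem_subgroupOf.mp h, (g * ⟨x, hx.2⟩ * g⁻¹ : L).2⟩
  -- `x` generates `P` and `y` generates `P₀`
  obtain ⟨x, hx⟩ := (Subgroup.isCyclic_iff_exists_zpowers_eq_top _).mp hP
  obtain ⟨y, hy⟩ := (Subgroup.isCyclic_iff_exists_zpowers_eq_top P₀).mp (Subgroup.isCyclic_of_le inf_le_left)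
  have hyP₀ : y ∈ P₀ := hy ▸ mem_zpowers y
  obtain ⟨r, hr⟩ := mem_zpowers_iff.mp (hy.symm ▸ hconj y hyP₀ : (g : K) * y * (g : K)⁻¹ ∈ zpowers y)
  have hxP : x ∈ (P : Subgroup K) := hx ▸ mem_zpowers x
  have hxy : x * y = y * x := comm_of_mem hP hxP hyP₀.1
  have hxL : x ∉ L := by
    intro hxL
    have hle : (P : Subgroup K) ≤ L := hx ▸ zpowers_le.mpr hxL
    exact P.not_dvd_index (hdvd.trans (index_dvd_of_le hle))
  set C₁ : Subgroup K := L ⊓ centralizer ({y} : Set K) with hC₁
  have hC₁x : zpowers x ≤ normalizer (C₁ : Set K) := by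
    rw [zpowers_le, mem_normalizer_iff]
    have hyx : x * y * x⁻¹ = y := by rw [hxy, mul_inv_cancel_right]
    intro w
    constructor
    · rintro ⟨hwL, hwy⟩
      refine ⟨hLn.conj_mem w hwL x, mem_centralizer_singleton_iff.mpr ?_⟩
      calc x * w * x⁻¹ * y = x * w * x⁻¹ * (x * y * x⁻¹) := by rw [hyx]
        _ = x * (w * y) * x⁻¹ := by group
        _ = x * (y * w) * x⁻¹ := by rw [mem_centralizer_singleton_iff.mp hwy]
        _ = x * y * x⁻¹ * (x * w * x⁻¹) := by group
        _ = y * (x * w * x⁻¹) := by rw [hyx]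
    · rintro ⟨hwL, hwy⟩
      have h := mem_centralizer_singleton_iff.mp hwy
      refine ⟨?_, mem_centralizer_singleton_iff.mpr ?_⟩
      · have := hLn.conj_mem _ hwL x⁻¹
        rwa [show x⁻¹ * (x * w * x⁻¹) * x⁻¹⁻¹ = w by group] at this
      · calc w * y = x⁻¹ * (x * w * x⁻¹) * (x * y) := by group
          _ = x⁻¹ * (x * w * x⁻¹) * (y * x) := by rw [hxy]
          _ = x⁻¹ * ((x * w * x⁻¹) * y) * x := by group
          _ = x⁻¹ * (y * (x * w * x⁻¹)) * x := by rw [h]
          _ = x⁻¹ * y * x * w := by group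
          _ = y * w := by rw [mul_assoc x⁻¹ y x, ← hxy, inv_mul_cancel_left]
  have hu : (g : K) * x * (g : K)⁻¹ * x⁻¹ ∈ C₁ := by
    refine ⟨?_, mem_centralizer_singleton_iff.mpr ?_⟩
    · have hh := L.mul_mem g.2 (hLn.conj_mem _ (L.inv_mem g.2) x)
      rwa [show (g : K) * x * (g : K)⁻¹ * x⁻¹ = g * (x * (g : K)⁻¹ * x⁻¹) by group]
    · have hxyr : ∀ k : ℤ, Commute x (y ^ k) := fun k => (show Commute x y from hxy).zpow_right k
      obtain ⟨s, hs⟩ := mem_zpowers_iff.mp (hy.symm ▸
        (show (g : K)⁻¹ * y * g ∈ P₀ by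
          have h := (mem_normalizer_iff.mp (inv_mem hgn) ⟨y, hyP₀.2⟩).mp (hR ▸ mem_subgroupOf.mpr hyP₀.1)
          rw [hR, mem_subgroupOf] at h
          refine ⟨?_, ?_⟩
          · rw [Subgroup.coe_mul, Subgroup.coe_mul, inv_inv, InvMemClass.coe_inv] at h; exact h
          · exact L.mul_mem (L.mul_mem (L.inv_mem g.2) hyP₀.2) g.2) :
        (g : K)⁻¹ * y * g ∈ zpowers y)
      calc (g : K) * x * (g : K)⁻¹ * x⁻¹ * y = g * x * (g : K)⁻¹ * (x⁻¹ * y) := by group
        _ = g * x * (g : K)⁻¹ * (y * x⁻¹) := by rw [((show Commute x y from hxy).inv_left).eq]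
        _ = g * (x * ((g : K)⁻¹ * y * g)) * (g : K)⁻¹ * x⁻¹ := by group
        _ = g * (((g : K)⁻¹ * y * g) * x) * (g : K)⁻¹ * x⁻¹ := by rw [← hs, (hxyr s).eq]
        _ = y * (g * x * (g : K)⁻¹ * x⁻¹) := by group
  set H₁ := C₁ ⊔ zpowers x with hH₁
  have hPH : (P : Subgroup K) ≤ H₁ := hx ▸ le_sup_right
  have hzH : (g : K) * x * (g : K)⁻¹ ∈ H₁ := by
    have := mul_mem_sup hu (mem_zpowers x)
    rwa [inv_mul_cancel_right] at this
  have hzp : IsPGroup p (zpowers (⟨(g : K) * x * (g : K)⁻¹, hzH⟩ : H₁)) := by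
    obtain ⟨k, hk⟩ := IsPGroup.iff_card.mp P.isPGroup'
    rw [← hx, Nat.card_zpowers] at hk
    refine IsPGroup.of_card (n := k) ?_
    rw [Nat.card_zpowers, orderOf_mk]
    exact (show SemiconjBy (g : K) x ((g : K) * x * (g : K)⁻¹) from (inv_mul_cancel_right _ _).symm).orderOf_eq
      ▸ hk
  obtain ⟨Q, hQ⟩ := hzp.exists_le_sylow
  obtain ⟨c, hc⟩ := MulAction.exists_smul_eq H₁ Q (P.subtype hPH)
  have hcz : (c : K) * ((g : K) * x * (g : K)⁻¹) * (c : K)⁻¹ ∈ (P : Subgroup K) := by
    have h : c * ⟨_, hzH⟩ * c⁻¹ ∈ ((c • Q : Sylow p H₁) : Subgroup H₁) :=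
      ⟨⟨_, hzH⟩, hQ (mem_zpowers _), rfl⟩
    rw [hc] at h
    exact mem_subgroupOf.mp h
  obtain ⟨c', hc', w, hw, hcw⟩ : ∃ c' ∈ C₁, ∃ w ∈ zpowers x, w * c' = (c : K) := by
    have h : (c : K) ∈ ((zpowers x ⊔ C₁ : Subgroup K) : Set K) := by
      rw [sup_comm]; exact c.2
    rw [coe_mul_of_left_le_normalizer_right _ _ hC₁x] at h
    obtain ⟨w, hw, c', hc', hcw⟩ := Set.mem_mul.mp h
    exact ⟨c', hc', w, hw, hcw⟩
  set n := c' * (g : K) with hndef
  have hnx : n * x * n⁻¹ ∈ zpowers x := by
    rw [hx]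
    have hwP : w ∈ (P : Subgroup K) := hx ▸ hw
    have := mul_mem (mul_mem (inv_mem hwP) hcz) hwP
    rwa [← hcw, show w⁻¹ * (w * c' * ((g : K) * x * (g : K)⁻¹) * (w * c')⁻¹) * w = n * x * n⁻¹ by
      rw [hndef]; group] at this
  obtain ⟨t, ht⟩ := mem_zpowers_iff.mp hnx
  -- `p` divides `t - 1`
  have htp : (p : ℤ) ∣ t - 1 := by
    have hmem : x ^ (t - 1) ∈ L := by
      have hn : n ∈ L := L.mul_mem hc'.1 g.2
      have := L.mul_mem hn (hLn.conj_mem _ (L.inv_mem hn) x)
      rwa [show n * (x * n⁻¹ * x⁻¹) = x ^ (t - 1) by rw [zpow_sub_one, ht]; group] at this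
    by_contra hnd
    obtain ⟨k, hk⟩ := IsPGroup.iff_card.mp P.isPGroup'
    rw [← hx, Nat.card_zpowers] at hk
    obtain ⟨a, b, hab⟩ : IsCoprime (t - 1) ((orderOf x : ℕ) : ℤ) := by
      rw [hk]; push_cast
      exact ((Int.prime_iff_natAbs_prime.mpr (by simpa using hp.out)).coprime_iff_not_dvd.mpr hnd).symm.pow_right
    have h1 : x = (x ^ (t - 1)) ^ a := by
      conv_lhs => rw [← zpow_one x, ← hab]
      rw [zpow_add, mul_comm a, zpow_mul, mul_comm b, zpow_mul, zpow_natCast, pow_orderOf_eq_one, one_zpow, mul_one]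
    exact hxL (h1 ▸ L.zpow_mem hmem a)
  -- so the automorphism of `P₀` induced by `g` has `p`-power order
  obtain ⟨e, he⟩ := mem_zpowers_iff.mp (hx.symm ▸ hyP₀.1 : y ∈ zpowers x)
  have hgy : y ^ t = y ^ r := by
    have h1 : n * y * n⁻¹ = y ^ t := by
      rw [← he, ← conj_zpow, ← ht, ← zpow_mul, ← zpow_mul, mul_comm]
    have h2 : n * y * n⁻¹ = y ^ r := by
      have hc'y := mem_centralizer_singleton_iff.mp hc'.2
      have hcc : c' * y ^ r = y ^ r * c' := (show Commute c' y from hc'y).zpow_right r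
      calc n * y * n⁻¹ = c' * ((g : K) * y * (g : K)⁻¹) * c'⁻¹ := by rw [hndef]; group
        _ = y ^ r := by rw [← hr, hcc, mul_inv_cancel_right]
    exact h1.symm.trans h2
  obtain ⟨k, hk⟩ := (P.isPGroup'.to_le (inf_le_left : P₀ ≤ P)) ⟨y, hyP₀⟩
  have hyk : y ^ p ^ k = 1 := congrArg Subtype.val hk
  have hgpow : ∀ j : ℕ, (g : K) ^ j * y * ((g : K) ^ j)⁻¹ = y ^ (t ^ j) := by
    intro j
    induction j with
    | zero => simp
    | succ j ih =>
      rw [show (g : K) ^ (j + 1) * y * ((g : K) ^ (j + 1))⁻¹ = g * ((g : K) ^ j * y * ((g : K) ^ j)⁻¹) * (g : K)⁻¹ by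
          rw [pow_succ']; group, ih, ← conj_zpow, ← hr, ← hgy, ← zpow_mul, ← pow_succ']
  have hgk : (g ^ p ^ k : L) ∈ centralizer ((R : Subgroup L) : Set L) := by
    refine mem_centralizer_iff.mpr fun v hv => Subtype.ext ?_
    have hvy : (v : K) ∈ zpowers y := hy.symm ▸ ⟨mem_subgroupOf.mp (hR ▸ hv), v.2⟩
    obtain ⟨i, hi⟩ := mem_zpowers_iff.mp hvy
    have hd : ((p : ℤ) ^ (k + 1)) ∣ t ^ p ^ k - 1 := by
      have := dvd_sub_pow_of_dvd_sub (p := p) htp k
      simpa using this
    have hfix : (g : K) ^ p ^ k * y * ((g : K) ^ p ^ k)⁻¹ = y := by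
      rw [hgpow]
      conv_rhs => rw [← zpow_one y]
      rw [PGroupsCyclic.zpow_eq_iff_dvd]
      refine (Int.natCast_dvd_natCast.mpr (orderOf_dvd_of_pow_eq_one hyk)).trans (dvd_trans ?_ hd)
      push_cast
      exact pow_dvd_pow _ (Nat.le_succ k)
    show (v : K) * ((g ^ p ^ k : L) : K) = ((g ^ p ^ k : L) : K) * v
    rw [SubmonoidClass.coe_pow, ← hi]
    exact (((show Commute ((g : K) ^ p ^ k) y from mul_inv_eq_iff_eq_mul.mp hfix).zpow_right i).symm).eq
  -- but the centraliser contains a Sylow `p`-subgroup of the normaliser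
  set N := normalizer ((R : Subgroup L) : Set L) with hN
  set C := (centralizer ((R : Subgroup L) : Set L)).subgroupOf N with hC
  have hCn : C.Normal := by
    rw [hC, ← normalizerMonoidHom_ker]
    infer_instance
  have hidx : ¬ p ∣ C.index := by
    intro h
    have h1 : ((R : Subgroup L).subgroupOf N) ≤ C := fun v hv =>
      mem_centralizer_iff.mpr fun u hu => PGroupsBasic.comm_of_isMulCommutative hRc hu hv
    exact R.not_dvd_index (h.trans ((index_dvd_of_le h1).trans (relIndex_dvd_index_of_le le_normalizer)))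
  have hm : (⟨g, hgn⟩ : N) ^ C.index ∈ C := @Subgroup.pow_index_mem _ _ C hCn _
  have hgk' : (⟨g, hgn⟩ : N) ^ p ^ k ∈ C := hgk
  have hcop : IsCoprime ((C.index : ℕ) : ℤ) ((p ^ k : ℕ) : ℤ) :=
    Nat.isCoprime_iff_coprime.mpr ((hp.out.coprime_iff_not_dvd.mpr hidx).symm.pow_right k)
  obtain ⟨a, b, hab⟩ := hcop
  have hgC : (⟨g, hgn⟩ : N) ∈ C := by
    rw [← zpow_one (⟨g, hgn⟩ : N), ← hab, zpow_add, mul_comm a, mul_comm b, zpow_mul, zpow_mul, zpow_natCast, zpow_natCast]
    exact mul_mem (zpow_mem hm a) (zpow_mem hgk' b)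
  exact hgc hgC

/-- Let K be a finite group, p a prime dividing its order with O_{p'}(K) = 1 (no nontrivial normal subgroup of order prime to p), and P a cyclic Sylow p-subgroup of K. Then either P is normal and self-centralizing in K with K/P cyclic of order dividing p − 1 (so K is the semidirect product of P by a group of automorphisms of P of order dividing p − 1), or the generalized Fitting subgroup F*(K) is a non-abelian simple group and p does not divide the index of F*(K) in K. -/
theorem result {K : Type*} [Group K] [Finite K] (p : ℕ) [Fact p.Prime] (hp : p ∣ Nat.card K) (hO : Cfsg.pPrimeCore p K = ⊥)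
    (P : Sylow p K) (hP : IsCyclic ↥(P : Subgroup K)) :
    ((P : Subgroup K).Normal ∧ Subgroup.centralizer ((P : Subgroup K) : Set K) = (P : Subgroup K) ∧
      (∀ (_ : (P : Subgroup K).Normal), IsCyclic (K ⧸ (P : Subgroup K))) ∧ (P : Subgroup K).index ∣ p - 1) ∨
    (IsSimpleGroup ↥(Cfsg.generalizedFittingSubgroup K) ∧ ¬ IsMulCommutative ↥(Cfsg.generalizedFittingSubgroup K) ∧
      ¬ p ∣ (Cfsg.generalizedFittingSubgroup K).index) := by
  by_cases hE : Cfsg.layer K = ⊥
  · exact Or.inl (case_fitting hO P hP hE)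
  · exact Or.inr (case_layer hO P hP hE)

end Cfsg.Agent.S4403
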