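import Cfsg.Statements.S4404
import Cfsg.Agent.Lib.FourCommutatorAction27
import Cfsg.Agent.Lib.OddNarrow
import Cfsg.Agent.Lib.HallTheorem
import Cfsg.Agent.Lib.BGRankTwo
import Cfsg.Agent.Lib.PGroupsCyclic
-- import your own Cfsg.Agent.* helpers here

set_option autoImplicit false
open Cfsg


namespace Cfsg.Agent.S4404

open Subgroup FourCommutatorAction27
open scoped commutatorElement Pointwise

variable {S : Type*} [Group S]

/-- Order bookkeeping: `|F| = r³` and `|F| ≤ n · |K|` with `n ≤ 7` leave `K` non-cyclic. -/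
theorem not_isCyclic_of_card [Finite S] {r n : ℕ} [Fact r.Prime] (hn : n < r ^ 2) {F K : Subgroup S}
    (hK : ∀ k ∈ K, k ^ r = 1) (hF : Nat.card F = r ^ 3) (h : Nat.card F ≤ n * Nat.card K) :
    ¬ IsCyclic K := by
  intro hc
  have hle := PGroupsBasic.card_le_prime_of_isCyclic (p := r) hc hK
  rw [hF] at h
  have h2 : r ^ 2 * r ≤ n * r := by
    rw [← pow_succ]
    exact h.trans (Nat.mul_le_mul_left n hle)
  exact absurd (Nat.le_of_mul_le_mul_right h2 (Fact.out : r.Prime).pos) (not_le.2 hn)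

theorem exists_rank_three [Finite S] [Group.IsSolvable S] (M : Subgroup S) [M.Normal]
    (hM : Cfsg.IsElementaryAbelian 2 M)
    (p : ℕ) [Fact p.Prime] (hp2 : p ≠ 2) (E : Subgroup S) (hE : Cfsg.IsElementaryAbelian p E)
    (hE3 : Nat.card ↥E = p ^ 3)
    (Q : Subgroup S) (hQc : IsCyclic ↥Q) (hQ3 : IsPGroup 3 ↥Q)
    (hQ1 : ∀ x ∈ Q, x ^ 3 ∈ Subgroup.centralizer (M : Set S)) (hQM : Nat.card ↥⁅Q, M⁆ = 4) :
    ∃ (r : ℕ) (F : Subgroup S), r.Prime ∧ r ≠ 2 ∧ Cfsg.IsElementaryAbelian r F ∧ Nat.card ↥F = r ^ 3 ∧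
      ¬ IsCyclic ↥(F ⊓ Subgroup.centralizer ((⁅Q, M⁆ : Subgroup S) : Set S)) := by
  classical
  have hp := (Fact.out : p.Prime)
  haveI := Fact.mk Nat.prime_three
  letI : CommGroup ↥M :=
    { (inferInstance : Group ↥M) with
      mul_comm := fun a b => Subtype.ext (PGroupsBasic.comm_of_isMulCommutative hM.1 a.2 b.2) }
  have hV : ∀ v : ↥M, v ^ 2 = 1 := fun v => Subtype.ext (by simpa using hM.2 v v.2)
  let φ : S →* MulAut ↥M := MulAut.conjNormal
  have hφ : ∀ (s : S) (m : ↥M), ((φ s m : ↥M) : S) = s * m * s⁻¹ := fun s m =>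
    MulAut.conjNormal_apply s m
  obtain ⟨g, hg⟩ : ∃ g, zpowers g = Q := by
    obtain ⟨⟨g, hgQ⟩, hgen⟩ := hQc.exists_generator
    refine ⟨g, le_antisymm (zpowers_le.2 hgQ) fun x hx => ?_⟩
    obtain ⟨i, hi⟩ := hgen ⟨x, hx⟩
    exact ⟨i, congrArg Subtype.val hi⟩
  have hgQ : g ∈ Q := hg ▸ mem_zpowers g
  set q := φ g with hq
  have hq3 : q ^ 3 = 1 := by
    rw [hq, ← map_pow]
    refine MulEquiv.ext fun m => Subtype.ext ?_
    rw [hφ, MulAut.one_apply]
    exact mul_inv_eq_iff_eq_mul.2 (hQ1 g hgQ m m.2).symm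
  -- `[Q, M] = [M, q]`
  have hW : ⁅Q, M⁆ = (dSub q).map M.subtype := by
    refine le_antisymm (commutator_le.2 fun x hx m hm => ?_) ?_
    · have hxq : φ x ∈ triv (dSub q) := by
        obtain ⟨i, rfl⟩ := (hg.symm ▸ hx : x ∈ zpowers g)
        simp only [map_zpow]
        exact zpow_mem (mem_triv_of_le le_rfl) i
      exact ⟨φ x ⟨m, hm⟩ / ⟨m, hm⟩, hxq _, by simp [hφ, commutatorElement_def, div_eq_mul_inv]⟩
    · rintro _ ⟨_, ⟨m, rfl⟩, rfl⟩
      have : ((del q m : ↥M) : S) = ⁅g, (m : S)⁆ := by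
        simp [hq, hφ, commutatorElement_def, div_eq_mul_inv]
      rw [coe_subtype, this]
      exact commutator_mem_commutator hgQ m.2
  have hD : Nat.card (dSub q) = 4 := by
    rw [← hQM, hW, card_map_of_injective M.subtype_injective]
  have hCW : ∀ a : S, (∀ w ∈ dSub q, φ a w = w) →
      a ∈ centralizer ((⁅Q, M⁆ : Subgroup S) : Set S) := by
    intro a ha
    rw [mem_centralizer_iff, hW]
    rintro _ ⟨w, hw, rfl⟩
    have := congrArg Subtype.val (ha w hw)
    rw [hφ, mul_inv_eq_iff_eq_mul] at this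
    exact this.symm
  set C := centralizer ((⁅Q, M⁆ : Subgroup S) : Set S) with hC
  by_cases hr3 : Cfsg.PRankLE 3 2 S
  swap
  · -- a normal elementary subgroup of a Sylow `3`-subgroup containing `Q`
    obtain ⟨P, hQP⟩ := hQ3.exists_le_sylow
    obtain ⟨E0, hE0, hE03⟩ := NormalRankTwo.exists_elementary_of_not_pRankLE hr3
    obtain ⟨P', hEP'⟩ := (PGroupsBasic.isPGroup_of_isElementaryAbelian hE0).exists_le_sylow
    obtain ⟨c, hc⟩ := MulAction.exists_smul_eq S P' P
    have hrP : ¬ Cfsg.PRankLE 3 2 ↥(P : Subgroup S) := by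
      intro hle
      have hcE : E0.map (MulAut.conj c).toMonoidHom ≤ P := by
        rw [← hc, Sylow.coe_subgroup_smul, Subgroup.pointwise_smul_def]
        exact map_mono hEP'
      have hel := PGroupsBasic.isElementaryAbelian_map_hom hE0 (MulAut.conj c).toMonoidHom
      have h1 := hle ((E0.map (MulAut.conj c).toMonoidHom).subgroupOf P)
        (PGroupsBasic.isMulCommutative_of_forall fun a ha b hb => Subtype.ext
          (PGroupsBasic.comm_of_isMulCommutative hel.1 ha hb))
        (fun a ha => Subtype.ext (hel.2 a ha))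
      rw [Nat.card_congr (subgroupOfEquivOfLe hcE).toEquiv,
        card_map_of_injective (MulAut.conj c).injective] at h1
      have := hE03.trans h1
      norm_num at this
    obtain ⟨E9, hE9n, hE9c, hE9⟩ := PGroupsCyclic.exists_normal_elementary_sq P.isPGroup'
      (by norm_num) (fun hcy => hrP fun A hA hA3 => by
        haveI := hcy
        exact (PGroupsBasic.card_le_prime_of_isCyclic (p := 3) inferInstance hA3).trans (by norm_num))
    haveI := hE9n
    obtain ⟨A, -, hAn, hAC, hAr⟩ :=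
      OddNarrow.exists_scn_three (by norm_num) P.isPGroup' hrP E9 hE9 hE9c
    haveI := hAn
    have hAcomm : ∀ a ∈ A, ∀ b ∈ A, a * b = b * a := fun a ha b hb =>
      mem_centralizer_iff.1 (hAC.symm ▸ hb : b ∈ centralizer (A : Set _)) a ha
    let Ω : Subgroup ↥(P : Subgroup S) :=
      { carrier := {a | a ∈ A ∧ a ^ 3 = 1}
        one_mem' := ⟨one_mem _, one_pow _⟩
        mul_mem' := fun {a b} ha hb => ⟨mul_mem ha.1 hb.1, by
          rw [(show Commute a b from hAcomm a ha.1 b hb.1).mul_pow, ha.2, hb.2, one_mul]⟩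
        inv_mem' := fun {a} ha => ⟨inv_mem ha.1, by rw [inv_pow, ha.2, inv_one]⟩ }
    haveI : Ω.Normal := ⟨fun a ha b => ⟨hAn.conj_mem a ha.1 b, by rw [conj_pow, ha.2]; group⟩⟩
    obtain ⟨B, hB, hB3⟩ := NormalRankTwo.exists_elementary_of_not_pRankLE hAr
    have hΩ : 3 ^ 3 ≤ Nat.card Ω := by
      refine hB3.trans ((card_map_of_injective (K := B) A.subtype_injective).symm.le.trans
        (card_le_of_le (H := B.map A.subtype) (K := Ω) ?_))
      rintro _ ⟨b, hb, rfl⟩
      exact ⟨b.2, by simpa using congrArg Subtype.val (hB.2 b hb)⟩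
    obtain ⟨L, hLn, hLΩ, hL⟩ :=
      PGroupsBasic.exists_normal_card_pow P.isPGroup' Ω 3 hΩ
    have hLel : Cfsg.IsElementaryAbelian 3 L :=
      ⟨PGroupsBasic.isMulCommutative_of_forall fun a ha b hb => hAcomm a (hLΩ ha).1 b (hLΩ hb).1,
        fun a ha => (hLΩ ha).2⟩
    set F := L.map (P : Subgroup S).subtype with hF
    have hFel : Cfsg.IsElementaryAbelian 3 F := PGroupsBasic.isElementaryAbelian_map_hom hLel _
    refine ⟨3, F, Nat.prime_three, by norm_num, hFel,
      by rw [hF, card_map_of_injective (P : Subgroup S).subtype_injective, hL], ?_⟩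
    have hFP : F ≤ P := map_subtype_le L
    have hFn : ∀ f ∈ F, ∀ x ∈ (P : Subgroup S), x * f * x⁻¹ ∈ F := by
      rintro _ ⟨f, hf, rfl⟩ x hx
      exact ⟨⟨x, hx⟩ * f * ⟨x, hx⟩⁻¹, hLn.conj_mem f hf _, rfl⟩
    have hgP : g ∈ (P : Subgroup S) := hQP hgQ
    have hinv : ∀ f ∈ F, φ f ∈ invStab (dSub q) := by
      intro f hf
      set g₁ := f * g * f⁻¹ with hg₁
      have hgg₁ : Commute q (φ g₁) := by
        set U := dSub q ⊔ dSub (φ g₁)
        have hD₁ : Nat.card (dSub (φ g₁)) = 4 := by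
          rw [hg₁, map_mul, map_mul, map_inv, dSub_conj]
          exact (card_map_of_injective (φ f).injective).trans hD
        have hU : Nat.card U ≤ 16 := by
          refine le_trans (Nat.le_mul_of_pos_right _ Nat.card_pos)
            ((card_sup_mul_card_inf_le hV _ _).trans ?_)
          rw [hD, hD₁]
        set R := (P : Subgroup S).map φ ⊓ triv U
        have hR : IsPGroup 3 R := (P.isPGroup'.map φ).to_le inf_le_left
        obtain ⟨k, hk⟩ := IsPGroup.iff_card.1 hR
        have hd := card_dvd_of_triv hV (by norm_num : (3 : ℕ) ≠ 2) hU hR inf_le_right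
        have hk2 : k ≤ 2 := by
          by_contra hk2
          have h27 := (pow_dvd_pow 3 (show 3 ≤ k by omega)).trans (hk ▸ hd)
          norm_num at h27
        have hcomm := PGroupsBasic.isMulCommutative_of_card_le_sq hR
          (hk ▸ Nat.pow_le_pow_right (by norm_num) hk2)
        have h1 : q ∈ R := ⟨mem_map_of_mem φ hgP, mem_triv_of_le le_sup_left⟩
        have h2 : φ g₁ ∈ R :=
          ⟨mem_map_of_mem φ (mul_mem (mul_mem (hFP hf) hgP) (inv_mem (hFP hf))),
            mem_triv_of_le le_sup_right⟩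
        exact congrArg Subtype.val (hcomm.is_comm.comm ⟨q, h1⟩ ⟨φ g₁, h2⟩)
      refine mem_invStab_of_conj hV hq3 hD (f := φ f) (q₁ := φ g₁) ?_ hgg₁ ?_
      · rw [hg₁, map_mul, map_mul, map_inv]
      · set c := f * g * f⁻¹ * g⁻¹ with hc'
        have hcF : c ∈ F := by
          rw [hc', show f * g * f⁻¹ * g⁻¹ = f * (g * f⁻¹ * g⁻¹) by group]
          exact mul_mem hf (hFn _ (inv_mem hf) g hgP)
        have hfc := PGroupsBasic.comm_of_isMulCommutative hFel.1 hf hcF
        have key : f * g₁ * f⁻¹ = g₁ * g⁻¹ * g₁ := by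
          rw [show f * g₁ * f⁻¹ = f * c * f⁻¹ * g₁ by rw [hc', hg₁]; group, hfc,
            mul_inv_cancel_right, hc']
        have := congrArg φ key
        simpa only [map_mul, map_inv] using this
    -- count
    let ψ : ↥F →* MulAut (dSub q) :=
      (res (dSub q)).comp ((φ.comp F.subtype).codRestrict _ fun f => hinv f f.2)
    have hker : ψ.ker.map F.subtype ≤ F ⊓ C := by
      rintro _ ⟨f, hf, rfl⟩
      exact ⟨f.2, hCW _ fun w hw => res_eq_one _ hf hw⟩
    have h6 : ψ.ker.index ≤ 6 := by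
      rw [index_ker]
      refine (card_le_card_group _).trans (Nat.le_of_dvd (by norm_num) ?_)
      simpa [Finset.prod_range_succ] using
        card_mulAut_dvd hV (U := dSub q) (k := 2) (by rw [hD]; norm_num)
    refine not_isCyclic_of_card (r := 3) (n := 6) (F := F) (by norm_num) (fun k hk => hFel.2 k hk.1)
      (by rw [hF, card_map_of_injective (P : Subgroup S).subtype_injective, hL]) ?_
    calc Nat.card F = ψ.ker.index * Nat.card ψ.ker := ψ.ker.index_mul_card.symm
      _ ≤ 6 * Nat.card (F ⊓ C : Subgroup S) := Nat.mul_le_mul h6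
          ((card_map_of_injective (K := ψ.ker) F.subtype_injective).symm.le.trans
            (card_le_of_le hker))
  · -- `3`-rank at most two
    have hp3 : p ≠ 3 := by
      rintro rfl
      have := hr3 E hE.1 hE.2
      rw [hE3] at this
      norm_num at this
    have hp5 : 5 ≤ p := by
      have := hp.two_le
      by_contra h
      interval_cases p
      · exact hp2 rfl
      · exact hp3 rfl
      · norm_num at hp
    set π : Set ℕ := {3, p} with hπ
    have hQπ : HallCore.PiNat π (Nat.card Q) := by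
      intro t ht hd
      obtain ⟨k, hk⟩ := IsPGroup.iff_card.1 hQ3
      exact Or.inl ((Nat.prime_dvd_prime_iff_eq ht Nat.prime_three).1 (ht.dvd_of_dvd_pow (hk ▸ hd)))
    obtain ⟨H, hH, hQH⟩ := HallTheorem.exists_isPiHall_ge_of_solvable (π := π) hQπ
    obtain ⟨c, hc⟩ := HallTheorem.le_conj_isPiHall (π := π)
      (HallSolvable.isPiSeparable_of_solvable π) (HallTheorem.complSolvable_of_solvable π) (U := E)
      (fun t ht hd => Or.inr ((Nat.prime_dvd_prime_iff_eq ht hp).1 (ht.dvd_of_dvd_pow (hE3 ▸ hd)))) hH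
    set F := MulAut.conj c⁻¹ • E with hF
    have hFH : F ≤ H := by
      have := pointwise_smul_le_pointwise_smul_iff (a := MulAut.conj c⁻¹) |>.2 hc
      rwa [map_inv, inv_smul_smul, ← map_inv] at this
    have hFcard : Nat.card F = p ^ 3 := by rw [hF, HallTheorem.card_conj_smul, hE3]
    have hFel : Cfsg.IsElementaryAbelian p F := PGroupsBasic.isElementaryAbelian_map_hom hE _
    refine ⟨p, F, hp, hp2, hFel, hFcard, ?_⟩
    have hodd : Odd (Nat.card H) := by
      rw [← Nat.not_even_iff_odd, even_iff_two_dvd]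
      intro h2
      rcases hH.1 2 Nat.prime_two h2 with h | h
      · norm_num at h
      · exact hp2 (Set.mem_singleton_iff.1 h).symm
    have hrH : Cfsg.PRankLE 3 2 ↥H := BGRankTwo.pRankLE_of_injective H.subtype H.subtype_injective hr3
    set K := Cfsg.pPrimeCore 3 ↥H with hK
    haveI : K.Normal := HallCore.pPrimeCore_normal 3 ↥H
    have hindex : ∀ {t : ℕ}, t.Prime → t ∣ K.index → t = 3 := by
      intro t ht hd
      have hle := BGRankTwo.prime_le_of_dvd_index (G := ↥H) (by norm_num) hodd hrH ht hd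
      rcases hH.1 t ht (hd.trans K.index_dvd_card) with h | h
      · exact h
      · have : t = p := h
        omega
    have hFK : F.subgroupOf H ≤ K := by
      rw [← relIndex_eq_one]
      refine Nat.dvd_one.1 ?_
      have h1 : K.relIndex (F.subgroupOf H) ∣ p ^ 3 := by
        rw [← hFcard, ← Nat.card_congr (subgroupOfEquivOfLe hFH).toEquiv]
        exact relIndex_dvd_card _ _
      have h2 : K.relIndex (F.subgroupOf H) ∣ K.index := relIndex_dvd_index_of_normal _ _
      obtain ⟨i, -, hi⟩ := (Nat.dvd_prime_pow hp).1 h1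
      rcases Nat.eq_zero_or_pos i with rfl | hi0
      · rw [hi, pow_zero]
      · exact absurd (hindex hp ((dvd_pow_self p hi0.ne').trans (hi ▸ h2))) hp3
    have hKp : IsPGroup p ↥(K.map H.subtype) := by
      refine IsPGroup.map ?_ H.subtype
      refine IsPGroup.of_card (n := (Nat.card K).primeFactorsList.length)
        (Nat.eq_prime_pow_of_unique_prime_dvd Nat.card_pos.ne' fun {t} ht htd => ?_)
      rcases hH.1 t ht (htd.trans (card_subgroup_dvd_card K)) with h | h
      · subst h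
        exact absurd htd (HallCore.not_dvd_card_pPrimeCore 3 ↥H)
      · exact h
    set Pb := (K.map H.subtype).map φ with hPb
    have hgH : g ∈ H := hQH hgQ
    have hqP : ∀ x ∈ Pb, q * x * q⁻¹ ∈ Pb := by
      rintro _ ⟨_, ⟨x, hx, rfl⟩, rfl⟩
      refine ⟨_, mem_map_of_mem H.subtype ((inferInstance : K.Normal).conj_mem x hx ⟨g, hgH⟩), ?_⟩
      simp [hq]
    obtain ⟨R, hR7, hR⟩ := exists_small hV hq3 hD hp5 (hKp.map φ) hqP
    have hFPb : ∀ f ∈ F, φ f ∈ Pb := fun f hf =>
      mem_map_of_mem φ ⟨⟨f, hFH hf⟩, hFK hf, rfl⟩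
    let G : ↥F → ↥R := fun f => ⟨q * (φ f * q⁻¹ * (φ f)⁻¹), hR _ (hFPb f f.2)⟩
    haveI : Nonempty ↥F := ⟨1⟩
    let rep : ↥R → ↥F := Function.invFun G
    have hsame : ∀ f : ↥F, (((rep (G f))⁻¹ * f : ↥F) : S) ∈ F ⊓ C := by
      intro f
      set a := rep (G f)
      have ha : G a = G f := Function.invFun_eq ⟨f, rfl⟩
      have hq' : φ (a : S) * q⁻¹ * (φ (a : S))⁻¹ = φ (f : S) * q⁻¹ * (φ (f : S))⁻¹ :=
        mul_left_cancel (congrArg Subtype.val ha)
      set z := φ ((a⁻¹ * f : ↥F) : S) with hz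
      have hcomm : Commute q z := by
        have hz' : z * q⁻¹ * z⁻¹ = q⁻¹ := by
          rw [hz, Subgroup.coe_mul, Subgroup.coe_inv, map_mul, map_inv,
            show (φ (a : S))⁻¹ * φ f * q⁻¹ * ((φ (a : S))⁻¹ * φ f)⁻¹ =
              (φ (a : S))⁻¹ * (φ f * q⁻¹ * (φ (f : S))⁻¹) * φ (a : S) by group, ← hq']
          group
        have : Commute z q⁻¹ := mul_inv_eq_iff_eq_mul.1 hz'
        simpa using this.inv_right.symm
      refine ⟨(a⁻¹ * f : ↥F).2, hCW _ (fix_four hV hD
        (mem_invStab_of_forall fun w hw => dSub_invariant hcomm hw) ?_)⟩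
      have hdvd : orderOf z ∣ p :=
        (orderOf_map_dvd φ _).trans (orderOf_dvd_of_pow_eq_one (hFel.2 _ (a⁻¹ * f : ↥F).2))
      refine Nat.Coprime.coprime_dvd_left hdvd ((Nat.Prime.coprime_iff_not_dvd hp).2 fun h6 => ?_)
      have := Nat.le_of_dvd (by norm_num) h6
      interval_cases p <;> first | omega | (norm_num at hp)
    refine not_isCyclic_of_card (r := p) (n := 7) (by nlinarith) (fun k hk => hFel.2 k hk.1) hFcard ?_
    let inj : ↥F → ↥R × ↥(F ⊓ C : Subgroup S) := fun f => (G f, ⟨_, hsame f⟩)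
    refine (Nat.card_le_card_of_injective inj fun a b h => ?_).trans
      (by rw [Nat.card_prod]; exact Nat.mul_le_mul_right _ hR7)
    obtain ⟨h1, h2⟩ := Prod.mk.injEq .. |>.mp h
    have h3 : (rep (G a))⁻¹ * a = (rep (G b))⁻¹ * b :=
      Subtype.ext (congrArg (fun x : ↥(F ⊓ C : Subgroup S) => (x : S)) h2)
    rw [h1] at h3
    exact mul_left_cancel h3

/-- Let S be a finite solvable group and M a normal elementary abelian 2-subgroup of S. Suppose S contains an elementary abelian subgroup of order p³ for some odd prime p, and a cyclic 3-subgroup Q such that the cubes of the elements of Q centralize M and the commutator subgroup [Q, M] has order 4 (a four-group inside M). Then S contains an elementary abelian subgroup F of order r³, for some odd prime r, whose centralizer of [Q, M] in F — the subgroup C_F([Q, M]) — is not cyclic. -/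
theorem result {S : Type*} [Group S] [Finite S]
    [Group.IsSolvable S] (M : Subgroup S) [M.Normal] (hM : Cfsg.IsElementaryAbelian 2 M)
    (p : ℕ) (hp : p.Prime) (hp2 : p ≠ 2) (E : Subgroup S) (hE : Cfsg.IsElementaryAbelian p E) (hE3 : Nat.card ↥E = p ^ 3)
    (Q : Subgroup S) (hQc : IsCyclic ↥Q) (hQ3 : IsPGroup 3 ↥Q)
    (hQ1 : ∀ x ∈ Q, x ^ 3 ∈ Subgroup.centralizer (M : Set S)) (hQM : Nat.card ↥⁅Q, M⁆ = 4) :
    ∃ (r : ℕ) (F : Subgroup S), r.Prime ∧ r ≠ 2 ∧ Cfsg.IsElementaryAbelian r F ∧ Nat.card ↥F = r ^ 3 ∧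
      ¬ IsCyclic ↥(F ⊓ Subgroup.centralizer ((⁅Q, M⁆ : Subgroup S) : Set S)) := by
  haveI := Fact.mk hp
  exact exists_rank_three M hM p hp2 E hE hE3 Q hQc hQ3 hQ1 hQM

end Cfsg.Agent.S4404
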