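import Cfsg.Statements.S4405
import Cfsg.Agent.Lib.PGroupsBasic
import Cfsg.Agent.Lib.CoprimeAction
import Cfsg.Agent.Lib.HallCore

set_option autoImplicit false
open Cfsg

namespace Cfsg.Agent.S4405

open Subgroup Cfsg.Agent.PGroupsBasic
open scoped commutatorElement

/-- Let G be a finite group of order 320 = 64·5 whose largest normal 2-subgroup H = O₂(G) equals the Fitting subgroup F(G) and is extraspecial of order 32 containing no elementary abelian subgroup of order 8 (so H is the central product of a quaternion group and a dihedral group of order 8). If T is an involution of G outside H whose centralizer in H contains an elementary abelian subgroup of order 4, then C_H(T) itself is elementary abelian of order 4. -/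
theorem result {G : Type*} [Group G] [Finite G]
    (hG : Nat.card G = 320) (hHF : Cfsg.pCore 2 G = Cfsg.fittingSubgroup G)
    (hex : Cfsg.IsExtraspecial 2 ↥(Cfsg.pCore 2 G)) (h32 : Nat.card ↥(Cfsg.pCore 2 G) = 32)
    (hminus : ∀ A : Subgroup G, A ≤ Cfsg.pCore 2 G → Cfsg.IsElementaryAbelian 2 A → Nat.card ↥A ≤ 4)
    (T : G) (hT : orderOf T = 2) (hTH : T ∉ Cfsg.pCore 2 G)
    (V : Subgroup G) (hV : V ≤ Cfsg.pCore 2 G ⊓ Subgroup.centralizer ({T} : Set G)) (hV4 : Nat.card ↥V = 4) (hVe : Cfsg.IsElementaryAbelian 2 V) :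
    Nat.card ↥(Cfsg.pCore 2 G ⊓ Subgroup.centralizer ({T} : Set G)) = 4 ∧
      Cfsg.IsElementaryAbelian 2 (Cfsg.pCore 2 G ⊓ Subgroup.centralizer ({T} : Set G)) := by
  haveI : Fact (Nat.Prime 5) := ⟨by norm_num⟩
  haveI : Fact (Nat.Prime 2) := ⟨Nat.prime_two⟩
  set H := Cfsg.pCore 2 G with hH
  haveI hHn : H.Normal := Cfsg.Agent.HallCore.pCore_normal 2 G
  have hHp : IsPGroup 2 H := IsPGroup.of_card (n := 5) (by rw [h32]; norm_num)
  have hidx : H.index = 10 := by
    have := card_mul_index H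
    rw [h32, hG] at this; omega
  -- the centre of `H`
  set Z := (center H).map H.subtype with hZ
  have hZ2 : Nat.card Z = 2 := by rw [hZ, card_map_of_injective H.subtype_injective, hex.2]
  have hZH : Z ≤ H := map_subtype_le _
  haveI hZn : Z.Normal := by rw [hZ]; infer_instance
  have hfr : frattini H = center H := hex.1.2.1
  have hpow : ∀ h ∈ H, h ^ 2 ∈ Z := fun h hh =>
    ⟨⟨h, hh⟩ ^ 2, hfr ▸ pow_mem_frattini (p := 2) hHp _, rfl⟩
  have hcom : ∀ h ∈ H, ∀ k ∈ H, ⁅h, k⁆ ∈ Z := fun h hh k hk =>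
    ⟨⁅⟨h, hh⟩, ⟨k, hk⟩⁆, hfr ▸ commutator_le_frattini (p := 2) hHp
      (commutator_mem_commutator (mem_top _) (mem_top _)), rfl⟩
  have hZcentral : ∀ c ∈ Z, ∀ g : G, g * c = c * g := by
    intro c hc g
    obtain ⟨c₀, hc₀⟩ := Nat.card_eq_two_iff' (1 : Z) |>.mp hZ2
    rcases eq_or_ne c 1 with rfl | hc1
    · simp
    have h1 : (⟨c, hc⟩ : Z) = c₀ := hc₀.2 _ fun h => hc1 (congrArg Subtype.val h)
    have h2 : (⟨g * c * g⁻¹, hZn.conj_mem c hc g⟩ : Z) = c₀ :=
      hc₀.2 _ fun h => hc1 (conj_eq_one_iff.mp (congrArg Subtype.val h))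
    exact mul_inv_eq_iff_eq_mul.mp (congrArg Subtype.val (h2.trans h1.symm))
  set π := QuotientGroup.mk' Z with hπ
  have hker : ∀ g, π g = 1 ↔ g ∈ Z := fun g => QuotientGroup.eq_one_iff g
  set Hb := H.map π with hHb
  haveI hHbn : Hb.Normal := Subgroup.Normal.map hHn _ (QuotientGroup.mk'_surjective Z)
  have hHb16 : Nat.card Hb = 16 := by
    have h := card_mul_index (π.comp H.subtype).ker
    rw [index_ker, MonoidHom.range_comp, range_subtype, ← MonoidHom.comap_ker, QuotientGroup.ker_mk',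
      show Z.comap H.subtype = Z.subgroupOf H from rfl,
      Nat.card_congr (subgroupOfEquivOfLe hZH).toEquiv, hZ2, h32] at h
    rw [hHb]; omega
  have hHbc : ∀ u ∈ Hb, ∀ v ∈ Hb, u * v = v * u := by
    rintro _ ⟨h, hh, rfl⟩ _ ⟨k, hk, rfl⟩
    rw [← commutatorElement_eq_one_iff_mul_comm, ← map_commutatorElement, hker]
    exact hcom h hh k hk
  -- an element of order five
  obtain ⟨x, hx⟩ := exists_prime_orderOf_dvd_card' 5 (show 5 ∣ Nat.card G by rw [hG]; norm_num)
  have hxH : x ∉ H := fun h => by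
    have h1 : orderOf x ∣ 32 := h32 ▸ Subgroup.orderOf_dvd_natCard H h
    rw [hx] at h1; norm_num at h1
  set K := H ⊔ zpowers x with hK
  have hKi : K.index = 2 := by
    have h1 : H ⊓ zpowers x = ⊥ := inf_zpowers_eq_bot hx hxH
    have h2 := card_sup_of_normal h1
    rw [h32, Nat.card_zpowers, hx] at h2
    have h3 := card_mul_index K
    rw [show Nat.card K = 160 from h2, hG] at h3
    exact Nat.eq_of_mul_eq_mul_left (by norm_num : 0 < 160) (h3.trans (by norm_num))
  have hinv : ∀ g : G, orderOf g = 2 → g ∉ H → g ∉ K := by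
    intro g hg hgH hgK
    obtain ⟨h, hh, w, hw, rfl⟩ := mem_sup_of_normal_left.mp hgK
    obtain ⟨k, rfl⟩ := mem_zpowers_iff.mp hw
    refine hgH (mul_mem hh ?_)
    have h1 : QuotientGroup.mk' H (x ^ k) ^ 2 = 1 := by
      have h0 : QuotientGroup.mk' H (h * x ^ k) = QuotientGroup.mk' H (x ^ k) := by
        rw [map_mul, (QuotientGroup.eq_one_iff h).mpr hh |> fun e => (e : QuotientGroup.mk' H h = 1), one_mul]
      rw [← h0, ← map_pow, ← hg, pow_orderOf_eq_one, map_one]
    have h5 : QuotientGroup.mk' H (x ^ k) ^ 5 = 1 := by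
      rw [← map_pow, ← zpow_natCast, ← zpow_mul, mul_comm, zpow_mul, zpow_natCast, ← hx,
        pow_orderOf_eq_one, one_zpow, map_one]
    have h4 : QuotientGroup.mk' H (x ^ k) ^ Nat.gcd 2 5 = 1 := pow_gcd_eq_one.mpr ⟨h1, h5⟩
    norm_num at h4
    exact (QuotientGroup.eq_one_iff _).mp h4
  set T' := x * T * x⁻¹ with hT'
  have hT'2 : orderOf T' = 2 := by
    rw [hT', ← MulAut.conj_apply, MulEquiv.orderOf_eq, hT]
  have hT'H : T' ∉ H := fun h => hTH (by simpa [hT', mul_assoc] using hHn.conj_mem _ h x⁻¹)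
  set w := T * T' with hw
  have hwK : w ∈ K := (mul_mem_iff_of_index_two hKi).mpr
    ⟨fun h => absurd h (hinv T hT hTH), fun h => absurd h (hinv T' hT'2 hT'H)⟩
  have hT1 : T * T = 1 := by rw [← pow_two, ← hT, pow_orderOf_eq_one]
  have hwH : w ∉ H := by
    intro hwH
    -- then `H ⟨T⟩` would be a normal `2`-subgroup
    set L := H ⊔ zpowers T with hL
    have hKtop : K ⊔ zpowers T = ⊤ := (isCoatom_of_index_eq (p := 2) hKi).2 _
      (lt_of_le_of_ne le_sup_left fun h => hinv T hT hTH (h.symm ▸ mem_sup_right (mem_zpowers T)))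
    have hxL : x ∈ normalizer (L : Set G) := by
      have hTL : T' ∈ L := by
        rw [show T' = T * w by rw [hw, ← mul_assoc, hT1, one_mul]]
        exact mul_mem (mem_sup_right (mem_zpowers T)) (mem_sup_left hwH)
      have hle : L.map (MulAut.conj x).toMonoidHom ≤ L := by
        rw [hL, Subgroup.map_sup]
        refine sup_le ?_ ?_
        · rintro _ ⟨h, hh, rfl⟩; exact mem_sup_left (hHn.conj_mem h hh x)
        · rw [MonoidHom.map_zpowers, zpowers_le]; exact hTL
      have he := eq_of_le_of_card_ge hle (card_map_of_injective (MulAut.conj x).injective).ge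
      refine mem_normalizer_iff.mpr fun y => ⟨fun hy => hle (mem_map_of_mem _ hy), fun hy => ?_⟩
      rw [← he] at hy
      obtain ⟨z, hz, hze⟩ := hy
      exact (MulAut.conj x).injective hze ▸ hz
    haveI hLn : L.Normal := normalizer_eq_top_iff.mp (top_le_iff.mp (hKtop ▸ sup_le (sup_le
      (le_sup_left.trans le_normalizer) (zpowers_le.mpr hxL))
      ((zpowers_le.mpr (mem_sup_right (mem_zpowers T))).trans le_normalizer)))
    have hLp : IsPGroup 2 L := hHp.to_sup_of_normal_left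
      (IsPGroup.of_card (n := 1) (by rw [Nat.card_zpowers, hT, pow_one]))
    have hLH : L ≤ H :=
      le_sSup (show L ∈ {N : Subgroup G | N.Normal ∧ IsPGroup 2 N} from ⟨hLn, hLp⟩)
    exact hTH (hLH (mem_sup_right (mem_zpowers T)))
  -- `x` acts without fixed points on `H / Z`
  have hfpf : ∀ u ∈ Hb, π x * u * (π x)⁻¹ = u → u = 1 := by
    set xb := π x with hxb
    set Fx : Subgroup (G ⧸ Z) := Hb ⊓ centralizer ({xb} : Set (G ⧸ Z)) with hFx
    suffices hF1 : Fx = ⊥ by
      intro u hu hux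
      have : u ∈ Fx := ⟨hu, mem_centralizer_singleton_iff.mpr (mul_inv_eq_iff_eq_mul.mp hux).symm⟩
      rwa [hF1, mem_bot] at this
    have hP : IsPGroup 5 (zpowers (MulAut.conjNormal xb : MulAut Hb)) := by
      obtain ⟨k, -, hk⟩ := (Nat.dvd_prime_pow (by norm_num : Nat.Prime 5)).mp
        (show orderOf (MulAut.conjNormal xb : MulAut Hb) ∣ 5 ^ 1 by
          refine (orderOf_map_dvd MulAut.conjNormal xb).trans ((orderOf_map_dvd π x).trans ?_)
          rw [hx]; norm_num)
      exact IsPGroup.of_card (n := k) (by rw [Nat.card_zpowers, hk])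
    have h1 := hP.card_modEq_card_fixedPoints Hb
    have hfix : ∀ u : Hb, u ∈ MulAction.fixedPoints (zpowers (MulAut.conjNormal xb : MulAut Hb)) Hb ↔
        (u : G ⧸ Z) ∈ Fx := by
      intro u
      constructor
      · intro h
        refine ⟨u.2, mem_centralizer_singleton_iff.mpr ?_⟩
        have h2 : xb * (u : G ⧸ Z) * xb⁻¹ = u := congrArg Subtype.val (h ⟨_, mem_zpowers _⟩)
        exact (mul_inv_eq_iff_eq_mul.mp h2).symm
      · rintro ⟨-, hu⟩ ⟨g, hg⟩
        obtain ⟨j, rfl⟩ := mem_zpowers_iff.mp hg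
        refine MulAction.mem_stabilizer_iff (G := MulAut Hb).mp (zpow_mem (show
          (MulAut.conjNormal xb : MulAut Hb) ∈ MulAction.stabilizer (MulAut Hb) u from ?_) j)
        refine Subtype.ext ?_
        show xb * (u : G ⧸ Z) * xb⁻¹ = u
        rw [mul_inv_eq_iff_eq_mul, mem_centralizer_singleton_iff.mp hu]
    rw [hHb16, Nat.card_congr (Equiv.subtypeEquivRight hfix)] at h1
    replace h1 : 16 ≡ Nat.card (Fx.subgroupOf Hb) [MOD 5] := h1
    rw [Nat.card_congr (subgroupOfEquivOfLe (inf_le_left : Fx ≤ Hb)).toEquiv] at h1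
    have hdvd : Nat.card Fx ∣ 2 ^ 4 := by
      rw [show (2 : ℕ) ^ 4 = 16 by norm_num, ← hHb16]; exact card_dvd_of_le inf_le_left
    obtain ⟨j, hj, hj'⟩ := (Nat.dvd_prime_pow Nat.prime_two).mp hdvd
    have h1' : 16 % 5 = Nat.card Fx % 5 := h1
    rw [hj'] at h1'
    rcases (show j = 0 ∨ j = 4 by interval_cases j <;> simp_all) with rfl | rfl
    · exact eq_bot_of_card_eq _ (by simpa using hj')
    exfalso
    -- otherwise `x` centralizes `H`, and `⟨x⟩` lies in the Fitting subgroup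
    have hall : Fx = Hb := eq_of_le_of_card_ge inf_le_left (by rw [hHb16, hj']; norm_num)
    have hZcen : Z ≤ centralizer (zpowers x : Set G) :=
      le_centralizer_iff.mp (zpowers_le.mpr (mem_centralizer_iff.mpr fun c hc =>
        (hZcentral c hc x).symm))
    have hxc : zpowers x ≤ centralizer (H : Set G) := by
      refine CoprimeAction.le_centralizer_of_stabilizes (N := Z)
        (by rw [Nat.card_zpowers, hx, hZ2]; norm_num) hZcen ?_
      intro a ha h hh
      rw [← hker]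
      obtain ⟨k, rfl⟩ := mem_zpowers_iff.mp ha
      have : π h ∈ Fx := hall.symm ▸ mem_map_of_mem π hh
      have h2 : Commute xb (π h) := (mem_centralizer_singleton_iff.mp this.2).symm
      rw [map_mul, map_mul, map_mul, map_inv, map_inv, map_zpow, mul_assoc ((π h)⁻¹),
        (h2.zpow_left k).eq, inv_mul_cancel_left, mul_inv_cancel]
    have hC : x ∈ centralizer (H : Set G) := hxc (mem_zpowers x)
    set C := centralizer (H : Set G) with hCdef
    haveI : C.Normal := inferInstance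
    have hCZ : C ⊓ H ≤ Z := fun c hc => ⟨⟨c, hc.2⟩,
      mem_center_iff.mpr fun k => Subtype.ext (mem_centralizer_iff.mp hc.1 k k.2), rfl⟩
    have hCcard : Nat.card C ∣ 20 := by
      have h4 : (H.subgroupOf C).index ∣ 10 := hidx ▸ relIndex_dvd_index_of_normal H C
      have h5 := card_mul_index (H.subgroupOf C)
      rw [← inf_subgroupOf_left H C, Nat.card_congr (subgroupOfEquivOfLe inf_le_left).toEquiv,
        inf_subgroupOf_left] at h5
      rw [← h5]
      exact (mul_dvd_mul ((card_dvd_of_le hCZ).trans (dvd_of_eq hZ2)) h4)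
    let P : Sylow 5 C := Sylow.ofCard ((zpowers x).subgroupOf C) (by
      rw [Nat.card_congr (subgroupOfEquivOfLe hxc).toEquiv, Nat.card_zpowers, hx]
      have h5 : 5 ∣ Nat.card C := hx ▸ Subgroup.orderOf_dvd_natCard C hC
      have h1 : (Nat.card C).factorization 5 = 1 := by
        refine le_antisymm ?_ (Nat.Prime.factorization_pos_of_dvd (by norm_num) Nat.card_pos.ne' h5)
        have := (Nat.factorization_le_iff_dvd Nat.card_pos.ne' (by norm_num : (20 : ℕ) ≠ 0)).mpr hCcard 5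
        rw [show (20 : ℕ) = 5 ^ 1 * 4 by norm_num, Nat.factorization_mul (by norm_num) (by norm_num),
          Nat.Prime.factorization_pow (by norm_num : Nat.Prime 5)] at this
        simpa [Nat.factorization_eq_zero_of_not_dvd (show ¬ 5 ∣ 4 by norm_num)] using this
      rw [h1, pow_one])
    have hn5 : Nat.card (Sylow 5 C) = 1 := by
      have h6 := Sylow.card_dvd_index P
      have h7 := card_sylow_modEq_one 5 C
      have h8 : (P : Subgroup C).index * 5 ∣ 20 := by
        have := card_mul_index (P : Subgroup C)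
        rw [show Nat.card (P : Subgroup C) = 5 by
          show Nat.card ((zpowers x).subgroupOf C) = 5
          rw [Nat.card_congr (subgroupOfEquivOfLe hxc).toEquiv, Nat.card_zpowers, hx]] at this
        rw [mul_comm, this]; exact hCcard
      have h9 : Nat.card (Sylow 5 C) ≤ 4 := Nat.le_of_dvd (by norm_num)
        (h6.trans (Nat.dvd_of_mul_dvd_mul_right (by norm_num) (show (P : Subgroup C).index * 5 ∣ 4 * 5 from h8)))
      rw [Nat.ModEq] at h7
      omega
    haveI : (P : Subgroup C).Normal := by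
      haveI : Subsingleton (Sylow 5 C) := (Nat.card_eq_one_iff_unique.mp hn5).1
      exact Sylow.normal_of_subsingleton P
    haveI hchar : (P : Subgroup C).Characteristic := P.characteristic_of_normal inferInstance
    have hXn : ((P : Subgroup C).map C.subtype).Normal := inferInstance
    have hle : (P : Subgroup C).map C.subtype ≤ H := by
      rw [hHF]
      refine le_sSup ⟨hXn, ?_⟩
      exact (P.isPGroup'.map C.subtype).isNilpotent
    exact hxH (hle ⟨⟨x, hC⟩, mem_zpowers x |> fun h => h, rfl⟩)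
  -- the fixed points of `T` on `H / Z`
  set tb := π T with htb
  set C := Hb ⊓ centralizer ({tb} : Set (G ⧸ Z)) with hC
  have hxK : x ∈ H ⊔ zpowers w := by
    obtain ⟨h, hh, v, hv, hhv⟩ := mem_sup_of_normal_left.mp hwK
    obtain ⟨k, rfl⟩ := mem_zpowers_iff.mp hv
    have hk : ¬ (5 : ℤ) ∣ k := by
      rintro ⟨m, rfl⟩
      refine hwH (hhv ▸ mul_mem hh ?_)
      rw [zpow_mul, show (5 : ℤ) = ((5 : ℕ) : ℤ) from rfl, zpow_natCast, ← hx, pow_orderOf_eq_one,
        one_zpow]
      exact one_mem H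
    have hxk : x ^ k ∈ H ⊔ zpowers w := by
      rw [show x ^ k = h⁻¹ * w by rw [← hhv, inv_mul_cancel_left]]
      exact mul_mem (inv_mem (mem_sup_left hh)) (mem_sup_right (mem_zpowers w))
    obtain ⟨a, b, hab⟩ : IsCoprime k (5 : ℤ) :=
      ((Int.prime_iff_natAbs_prime.mpr (by norm_num)).coprime_iff_not_dvd.mpr hk).symm
    rw [← zpow_one x, ← hab, zpow_add, mul_comm a, zpow_mul, mul_comm b, zpow_mul,
      show (5 : ℤ) = ((5 : ℕ) : ℤ) from rfl, zpow_natCast, ← hx, pow_orderOf_eq_one, one_zpow,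
      mul_one]
    exact zpow_mem hxk a
  have hinter : ∀ u ∈ C, π x * u * (π x)⁻¹ ∈ C → π x * u * (π x)⁻¹ = 1 := by
    intro u hu hv
    set v := π x * u * (π x)⁻¹ with hvdef
    refine hfpf v hv.1 ?_
    have h1 : Commute tb v := (mem_centralizer_singleton_iff.mp hv.2).symm
    have h2 : Commute (π T') v := by
      have h0 : Commute tb u := (mem_centralizer_singleton_iff.mp hu.2).symm
      have := h0.map (MulAut.conj (π x)).toMonoidHom
      simpa [hT', hvdef, htb, mul_assoc] using this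
    have hle : H ⊔ zpowers w ≤ (centralizer ({v} : Set (G ⧸ Z))).comap π := by
      refine sup_le (fun h hh => mem_centralizer_singleton_iff.mpr
        (hHbc _ (mem_map_of_mem π hh) v hv.1)) (zpowers_le.mpr (mem_centralizer_singleton_iff.mpr ?_))
      rw [hw, map_mul]
      exact (h1.mul_left h2).eq
    exact mul_inv_eq_iff_eq_mul.mpr (mem_centralizer_singleton_iff.mp (hle hxK))
  have hC4 : Nat.card C ≤ 4 := by
    let m : C × C → Hb := fun a => ⟨(a.1 : G ⧸ Z) * (π x * (a.2 : G ⧸ Z) * (π x)⁻¹),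
      mul_mem a.1.2.1 (hHbn.conj_mem _ a.2.2.1 _)⟩
    have hm : Function.Injective m := by
      rintro ⟨a, b⟩ ⟨a', b'⟩ h
      have h' : (a : G ⧸ Z) * (π x * b * (π x)⁻¹) = a' * (π x * b' * (π x)⁻¹) :=
        congrArg Subtype.val h
      have h3 : π x * ((b : G ⧸ Z) * (b' : G ⧸ Z)⁻¹) * (π x)⁻¹ = (a : G ⧸ Z)⁻¹ * a' := by
        rw [eq_inv_mul_iff_mul_eq, ← mul_inv_eq_iff_eq_mul.mpr h'.symm |>.trans rfl]
        group
      have h4 := hinter _ (mul_mem b.2 (inv_mem b'.2)) (h3 ▸ mul_mem (inv_mem a.2) a'.2)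
      have hb : b = b' := Subtype.ext (mul_inv_eq_one.mp (conj_eq_one_iff.mp h4))
      rw [h4] at h3
      exact Prod.ext (Subtype.ext (inv_mul_eq_one.mp h3.symm)) hb
    have := Nat.card_le_card_of_injective m hm
    rw [Nat.card_prod, hHb16] at this
    by_contra hlt
    have := Nat.mul_le_mul (Nat.succ_le_of_lt (not_le.mp hlt)) (Nat.succ_le_of_lt (not_le.mp hlt))
    omega
  -- `u ↦ [T, u]` maps `H / Z` onto `C`
  have htb2 : tb * tb = 1 := by rw [htb, ← map_mul, hT1, map_one]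
  let d : Hb →* G ⧸ Z := MonoidHom.mk' (fun u => tb * (u : G ⧸ Z) * tb⁻¹ * (u : G ⧸ Z)⁻¹) fun a b => by
    show tb * ((a : G ⧸ Z) * b) * tb⁻¹ * ((a : G ⧸ Z) * b)⁻¹ =
      tb * (a : G ⧸ Z) * tb⁻¹ * (a : G ⧸ Z)⁻¹ * (tb * (b : G ⧸ Z) * tb⁻¹ * (b : G ⧸ Z)⁻¹)
    have hc := hHbc (a : G ⧸ Z)⁻¹ (inv_mem a.2) (tb * (b : G ⧸ Z) * tb⁻¹ * (b : G ⧸ Z)⁻¹)
      (mul_mem (hHbn.conj_mem _ b.2 _) (inv_mem b.2))
    rw [mul_assoc (tb * (a : G ⧸ Z) * tb⁻¹), hc]
    group
  have hdker : Nat.card d.ker ≤ Nat.card C := Nat.card_le_card_of_injective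
    (fun u : d.ker => (⟨((u : Hb) : G ⧸ Z), (u : Hb).2, mem_centralizer_singleton_iff.mpr
      (mul_inv_eq_iff_eq_mul.mp (mul_inv_eq_one.mp (MonoidHom.mem_ker.mp u.2))).symm⟩ : C))
    (fun u v h => Subtype.ext (Subtype.ext (congrArg (fun c : C => (c : G ⧸ Z)) h)))
  have htbi : tb⁻¹ = tb := inv_eq_of_mul_eq_one_right htb2
  have hd2 : ∀ u ∈ Hb, u * u = 1 := by
    rintro _ ⟨h, hh, rfl⟩
    rw [← map_mul, hker, ← pow_two]
    exact hpow h hh
  have hdrange : d.range ≤ C := by
    rintro _ ⟨u, rfl⟩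
    refine mem_inf.mpr ⟨mul_mem (hHbn.conj_mem _ u.2 _) (inv_mem u.2), mem_centralizer_singleton_iff.mpr ?_⟩
    show tb * (u : G ⧸ Z) * tb⁻¹ * (u : G ⧸ Z)⁻¹ * tb = tb * (tb * (u : G ⧸ Z) * tb⁻¹ * (u : G ⧸ Z)⁻¹)
    rw [inv_eq_of_mul_eq_one_right (hd2 _ u.2), htbi]
    have hc := hHbc _ (hHbn.conj_mem _ u.2 tb) _ u.2
    rw [htbi] at hc
    calc tb * (u : G ⧸ Z) * tb * u * tb = (u : G ⧸ Z) * (tb * u * tb) * tb := by rw [hc]
      _ = (u : G ⧸ Z) * (tb * u) * (tb * tb) := by simp only [mul_assoc]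
      _ = (tb * tb) * (u : G ⧸ Z) * tb * u := by rw [htb2, mul_one, one_mul, mul_assoc]
      _ = tb * (tb * (u : G ⧸ Z) * tb * u) := by simp only [mul_assoc]
  have hrange : d.range = C := by
    refine eq_of_le_of_card_ge hdrange ?_
    have h := card_mul_index d.ker
    rw [index_ker, hHb16] at h
    have h2 : Nat.card d.range ≤ 4 := (card_le_of_le hdrange).trans hC4
    nlinarith
  -- conclusion
  set W := H ⊓ C.comap π with hW
  have hW8 : Nat.card W ≤ 8 := by
    have h1 := card_mul_index ((π.comp W.subtype)).ker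
    rw [index_ker, MonoidHom.range_comp, range_subtype] at h1
    have h2 : Nat.card (π.comp W.subtype).ker ≤ 2 := hZ2 ▸ Nat.card_le_card_of_injective
      (fun u : (π.comp W.subtype).ker => (⟨((u : W) : G), (hker _).mp u.2⟩ : Z))
      (fun u v h => Subtype.ext (Subtype.ext (congrArg (fun c : Z => (c : G)) h)))
    have h3 : Nat.card (W.map π) ≤ 4 := le_trans (card_le_of_le (by
      rintro _ ⟨g, hg, rfl⟩; exact hg.2)) hC4
    have := Nat.mul_le_mul h2 h3
    omega
  set CH := H ⊓ centralizer ({T} : Set G) with hCH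
  have hCW : CH ≤ W := fun c hc => ⟨hc.1, mem_map_of_mem π hc.1, mem_centralizer_singleton_iff.mpr (by
    rw [htb, ← map_mul, ← map_mul, mem_centralizer_singleton_iff.mp hc.2])⟩
  have hsq : CH = W → ∀ c ∈ W, c ^ 2 = 1 := by
    intro heq c hc
    have hmem : π c ∈ d.range := hrange.symm ▸ hc.2
    obtain ⟨u, hu⟩ := hmem
    obtain ⟨h, hh, hhu⟩ := u.2
    set w₀ := T * h * T⁻¹ * h⁻¹ with hw₀
    have hπw : π w₀ = π c := by
      rw [← hu, hw₀, map_mul, map_mul, map_mul, map_inv, map_inv, hhu]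
      rfl
    have hw₀W : w₀ ∈ W := by
      refine mem_inf.mpr ⟨mul_mem (hHn.conj_mem h hh T) (inv_mem hh), ?_⟩
      show π w₀ ∈ C
      rw [hπw]; exact hc.2
    have hcomm := mem_centralizer_singleton_iff.mp (heq.symm ▸ hw₀W : w₀ ∈ CH).2
    have hTi : T⁻¹ = T := inv_eq_of_mul_eq_one_right hT1
    have h2 : w₀ ^ 2 = 1 := by
      have h3 : T * w₀ * T = w₀⁻¹ := by
        rw [hw₀, mul_inv_rev, mul_inv_rev, mul_inv_rev, inv_inv, inv_inv, hTi]
        simp only [← mul_assoc]
        rw [hT1, one_mul]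
      rw [← hcomm, mul_assoc, hT1, mul_one] at h3
      exact (pow_two w₀).trans (eq_inv_iff_mul_eq_one.mp h3)
    have hz : w₀⁻¹ * c ∈ Z := by rw [← hker, map_mul, map_inv, hπw, inv_mul_cancel]
    obtain ⟨zz, hzz, hzc⟩ : ∃ zz ∈ Z, c = w₀ * zz := ⟨_, hz, by rw [mul_inv_cancel_left]⟩
    rw [hzc, Commute.mul_pow (hZcentral zz hzz w₀), h2, one_mul]
    have : orderOf zz ∣ 2 := hZ2 ▸ Subgroup.orderOf_dvd_natCard Z hzz
    exact orderOf_dvd_iff_pow_eq_one.mp this
  have hlt : Nat.card CH < 8 := by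
    refine lt_of_le_of_ne ((card_le_of_le hCW).trans hW8) fun h8 => ?_
    have heq : CH = W := eq_of_le_of_card_ge hCW (h8 ▸ hW8)
    have hsq' := hsq heq
    have hWe : Cfsg.IsElementaryAbelian 2 CH := by
      rw [heq]
      refine ⟨isMulCommutative_of_forall fun a ha b hb => ?_, hsq'⟩
      have h1 := hsq' a ha
      have h2 := hsq' b hb
      have h3 := hsq' (a * b) (mul_mem ha hb)
      rw [pow_two] at h1 h2 h3
      calc a * b = (a * b)⁻¹ := (inv_eq_of_mul_eq_one_right h3).symm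
        _ = b⁻¹ * a⁻¹ := mul_inv_rev a b
        _ = b * a := by rw [inv_eq_of_mul_eq_one_right h1, inv_eq_of_mul_eq_one_right h2]
    have := hminus CH inf_le_left hWe
    omega
  have hVC : V = CH := by
    refine eq_of_le_of_card_ge hV ?_
    obtain ⟨j, -, hj⟩ := (Nat.dvd_prime_pow Nat.prime_two).mp
      (show Nat.card CH ∣ 2 ^ 5 by
        rw [show (2 : ℕ) ^ 5 = 32 by norm_num, ← h32]; exact card_dvd_of_le inf_le_left)
    rw [hj] at hlt
    have : j ≤ 2 := Nat.le_of_lt_succ ((Nat.pow_lt_pow_iff_right (by norm_num)).mp (show 2 ^ j < 2 ^ 3 by simpa using hlt))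
    rw [hj, hV4]
    exact (Nat.pow_le_pow_right (by norm_num) this).trans (by norm_num)
  exact hVC ▸ ⟨hV4, hVe⟩

end Cfsg.Agent.S4405
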