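import Cfsg.Statements.S4406

set_option autoImplicit false
open Cfsg

namespace Cfsg.Agent.S4406

abbrev A4 : Type := ↥(alternatingGroup (Fin 4))

theorem a4_sq : ∀ x : A4, x * x * (x * x) = 1 → x * x = 1 := by decide +kernel

theorem a4_count : (Finset.univ.filter fun x : A4 => x * x = 1).card = 4 := by decide +kernel

theorem a4_act : ∀ a x : A4, a * a * a = 1 → a ≠ 1 → x * x = 1 → x ≠ 1 →
    a * x * a⁻¹ ≠ x ∧ x * (a * x * a⁻¹) = a⁻¹ * x * a ∧ a * (a * x * a⁻¹) * a⁻¹ = a⁻¹ * x * a ∧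
      a⁻¹ * (a⁻¹ * x * a) * a = a * x * a⁻¹ := by decide +kernel

set_option synthInstance.maxSize 2000 in
theorem a4_three : ∀ a x y : A4, a * a * a = 1 → a ≠ 1 → x * x = 1 → x ≠ 1 → y * y = 1 → y ≠ 1 →
    y = x ∨ y = a * x * a⁻¹ ∨ y = a⁻¹ * x * a := by decide +kernel

theorem a4_p3 : ∀ a : A4, a * a * a = 1 → a ≠ 1 → a * a ≠ 1 := by decide +kernel

/-- If `g` rotates the three involutions of a fours group `B`, it normalises `B`. -/
theorem conj_mem {G : Type*} [Group G] [Finite G] {B : Subgroup G} (hB : Nat.card B = 4) {g u : G}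
    (hu : u ∈ B) (h1 : g * u * g⁻¹ ∈ B) (h3 : g * (g * u * g⁻¹) * g⁻¹ = u * (g * u * g⁻¹))
    (hne : u ≠ 1) (hne' : g * u * g⁻¹ ≠ u) (hne'' : u * (g * u * g⁻¹) ≠ 1)
    (h4 : g * (u * (g * u * g⁻¹)) * g⁻¹ = u) : g ∈ Subgroup.normalizer (B : Set G) := by
  classical
  have := Fintype.ofFinite G
  set v := g * u * g⁻¹ with hv
  have hv1 : v ≠ 1 := fun h => hne (conj_eq_one_iff.mp h)
  have huv : u * v ≠ u := fun h => hv1 (mul_eq_left.mp h)
  have huv' : u * v ≠ v := fun h => hne (mul_eq_right.mp h)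
  have hall : ∀ w ∈ B, w = 1 ∨ w = u ∨ w = v ∨ w = u * v := by
    intro w hw
    have hs : ({1, u, v, u * v} : Finset G) = (B : Set G).toFinset := by
      refine Finset.eq_of_subset_of_card_le ?_ ?_
      · intro z hz
        simp only [Finset.mem_insert, Finset.mem_singleton] at hz
        rw [Set.mem_toFinset]
        rcases hz with rfl | rfl | rfl | rfl
        · exact one_mem B
        · exact hu
        · exact h1
        · exact mul_mem hu h1
      · rw [← Set.ncard_eq_toFinset_card', show (B : Set G).ncard = 4 from hB,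
          Finset.card_insert_of_notMem (by simp [hne.symm, hv1.symm, hne''.symm]),
          Finset.card_insert_of_notMem (by simp [Ne.symm hne', huv.symm]),
          Finset.card_insert_of_notMem (by simp [huv'.symm]), Finset.card_singleton]
    have : w ∈ ({1, u, v, u * v} : Finset G) := by rw [hs, Set.mem_toFinset]; exact hw
    simpa using this
  have hle : ∀ w ∈ B, g * w * g⁻¹ ∈ B := by
    intro w hw
    rcases hall w hw with rfl | rfl | rfl | rfl
    · simp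
    · exact h1
    · rw [h3]; exact mul_mem hu h1
    · rw [h4]; exact hu
  rw [Subgroup.mem_normalizer_iff]
  refine fun w => ⟨hle w, fun hw => ?_⟩
  -- conjugation by `g` is injective on the finite set `B`
  let f : B → B := fun x => ⟨g * x * g⁻¹, hle x x.2⟩
  have hf : Function.Injective f := fun x y h => Subtype.ext (by
    have := congrArg Subtype.val h
    simpa [f] using this)
  obtain ⟨x, hx⟩ := (Finite.injective_iff_surjective.mp hf) ⟨_, hw⟩
  have h' : g * x * g⁻¹ = g * w * g⁻¹ := congrArg Subtype.val hx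
  rw [show w = x by simpa using h'.symm]
  exact x.2

/-- In the direct product P = A₄ × A₄, let X be the Sylow 2-subgroup, X₁ and X₂ its intersections with the two direct factors, Q a Sylow 3-subgroup and Q₁, Q₂ its intersections with the two factors. Then every subgroup B of X of order 4 either meets X₁ or X₂ nontrivially, or is normalized by one of the two subgroups of Q of order 3 other than Q₁ and Q₂. -/
theorem result
    (X : Sylow 2 (↥(alternatingGroup (Fin 4)) × ↥(alternatingGroup (Fin 4))))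
    (Q : Sylow 3 (↥(alternatingGroup (Fin 4)) × ↥(alternatingGroup (Fin 4))))
    (B : Subgroup (↥(alternatingGroup (Fin 4)) × ↥(alternatingGroup (Fin 4)))) (hBX : B ≤ (X : Subgroup _)) (hB4 : Nat.card ↥B = 4) :
    B ⊓ ((X : Subgroup _) ⊓ Subgroup.prod ⊤ ⊥) ≠ ⊥ ∨ B ⊓ ((X : Subgroup _) ⊓ Subgroup.prod ⊥ ⊤) ≠ ⊥ ∨
      ∃ R : Subgroup (↥(alternatingGroup (Fin 4)) × ↥(alternatingGroup (Fin 4))), R ≤ (Q : Subgroup _) ∧ Nat.card ↥R = 3 ∧
        R ≠ (Q : Subgroup _) ⊓ Subgroup.prod ⊤ ⊥ ∧ R ≠ (Q : Subgroup _) ⊓ Subgroup.prod ⊥ ⊤ ∧ R ≤ Subgroup.normalizer (B : Set _) := by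
  classical
  by_cases h1 : B ⊓ ((X : Subgroup _) ⊓ Subgroup.prod ⊤ ⊥) = ⊥
  swap; · exact Or.inl h1
  by_cases h2 : B ⊓ ((X : Subgroup _) ⊓ Subgroup.prod ⊥ ⊤) = ⊥
  swap; · exact Or.inr (Or.inl h2)
  refine Or.inr (Or.inr ?_)
  -- squares are trivial on `B`
  have hsq : ∀ w ∈ B, w.1 * w.1 = 1 ∧ w.2 * w.2 = 1 := by
    intro w hw
    have h4 : w ^ 4 = 1 := by
      have h := pow_card_eq_one' (x := (⟨w, hw⟩ : B))
      rw [hB4] at h
      exact congrArg Subtype.val h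
    simp only [pow_succ, pow_zero, one_mul] at h4
    exact ⟨a4_sq _ (by simpa [mul_assoc] using congrArg Prod.fst h4),
      a4_sq _ (by simpa [mul_assoc] using congrArg Prod.snd h4)⟩
  have hfst : ∀ w ∈ B, w.1 = 1 → w = 1 := fun w hw h => by
    have : w ∈ B ⊓ ((X : Subgroup _) ⊓ Subgroup.prod ⊥ ⊤) :=
      ⟨hw, hBX hw, Subgroup.mem_prod.mpr ⟨Subgroup.mem_bot.mpr h, Subgroup.mem_top _⟩⟩
    rwa [h2, Subgroup.mem_bot] at this
  have hsnd : ∀ w ∈ B, w.2 = 1 → w = 1 := fun w hw h => by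
    have : w ∈ B ⊓ ((X : Subgroup _) ⊓ Subgroup.prod ⊤ ⊥) :=
      ⟨hw, hBX hw, Subgroup.mem_prod.mpr ⟨Subgroup.mem_top _, Subgroup.mem_bot.mpr h⟩⟩
    rwa [h1, Subgroup.mem_bot] at this
  -- generators of the factors of `Q`
  obtain ⟨a, b, ha, ha1, hb, hb1, haQ, hbQ⟩ : ∃ a b : A4,
      a * a * a = 1 ∧ a ≠ 1 ∧ b * b * b = 1 ∧ b ≠ 1 ∧ ((a, 1) : A4 × A4) ∈ (Q : Subgroup (A4 × A4)) ∧
        ((1, b) : A4 × A4) ∈ (Q : Subgroup (A4 × A4)) := by
    set P₁ := (Q : Subgroup _).map (MonoidHom.fst A4 A4)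
    set P₂ := (Q : Subgroup _).map (MonoidHom.snd A4 A4)
    obtain ⟨i, hi⟩ := IsPGroup.iff_card.mp (Q.isPGroup'.map (MonoidHom.fst A4 A4))
    obtain ⟨j, hj⟩ := IsPGroup.iff_card.mp (Q.isPGroup'.map (MonoidHom.snd A4 A4))
    have hp : IsPGroup 3 (P₁.prod P₂ : Subgroup (A4 × A4)) := IsPGroup.of_card (n := i + j) (by
      rw [Nat.card_congr (Subgroup.prodEquiv P₁ P₂).toEquiv, Nat.card_prod, hi, hj, pow_add])
    have hle : (Q : Subgroup _) ≤ P₁.prod P₂ := fun w hw =>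
      Subgroup.mem_prod.mpr ⟨⟨w, hw, rfl⟩, ⟨w, hw, rfl⟩⟩
    have heq : P₁.prod P₂ = (Q : Subgroup _) := Q.is_maximal' hp hle
    have hcard : Nat.card (Q : Subgroup (A4 × A4)) = 9 := by
      rw [Q.card_eq_multiplicity, Nat.card_prod, nat_card_alternatingGroup, Nat.card_fin]
      rw [show Nat.factorial 4 / 2 * (Nat.factorial 4 / 2) = 3 ^ 2 * 16 by decide,
        Nat.factorization_mul (by norm_num) (by norm_num)]
      simp [Nat.Prime.factorization_pow Nat.prime_three, Nat.factorization_eq_zero_of_not_dvd]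
      rw [show (9 : ℕ) = 3 ^ 2 by norm_num, Nat.Prime.factorization_pow Nat.prime_three]
      simp
    have h12 : Nat.card P₁ ∣ 12 ∧ Nat.card P₂ ∣ 12 := by
      have h := nat_card_alternatingGroup (α := Fin 4)
      rw [Nat.card_fin, show Nat.factorial 4 / 2 = 12 by decide] at h
      exact ⟨h ▸ Subgroup.card_subgroup_dvd_card P₁, h ▸ Subgroup.card_subgroup_dvd_card P₂⟩
    rw [hi, hj] at h12
    rw [← heq, Nat.card_congr (Subgroup.prodEquiv P₁ P₂).toEquiv, Nat.card_prod, hi, hj] at hcard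
    have hi1 : i ≤ 1 := by
      by_contra h
      exact absurd (dvd_trans (pow_dvd_pow 3 (by omega : 2 ≤ i)) h12.1) (by norm_num)
    have hj1 : j ≤ 1 := by
      by_contra h
      exact absurd (dvd_trans (pow_dvd_pow 3 (by omega : 2 ≤ j)) h12.2) (by norm_num)
    obtain ⟨rfl, rfl⟩ : i = 1 ∧ j = 1 := by
      interval_cases i <;> interval_cases j <;> simp at hcard ⊢
    obtain ⟨a, ha, ha1⟩ := P₁.bot_or_exists_ne_one.resolve_left (fun h => by
      rw [show (Q : Subgroup (A4 × A4)).map (MonoidHom.fst A4 A4) = ⊥ from h, Subgroup.card_bot] at hi; norm_num at hi)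
    obtain ⟨b, hb, hb1⟩ := P₂.bot_or_exists_ne_one.resolve_left (fun h => by
      rw [show (Q : Subgroup (A4 × A4)).map (MonoidHom.snd A4 A4) = ⊥ from h, Subgroup.card_bot] at hj; norm_num at hj)
    have ha3 := pow_card_eq_one' (x := (⟨a, ha⟩ : P₁))
    have hb3 := pow_card_eq_one' (x := (⟨b, hb⟩ : P₂))
    rw [hi] at ha3
    rw [hj] at hb3
    have ha3' : a ^ 3 = 1 := by simpa using congrArg Subtype.val ha3
    have hb3' : b ^ 3 = 1 := by simpa using congrArg Subtype.val hb3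
    simp only [pow_succ, pow_zero, one_mul] at ha3' hb3'
    exact ⟨a, b, ha3', ha1, hb3', hb1, heq ▸ Subgroup.mem_prod.mpr ⟨ha, one_mem _⟩,
      heq ▸ Subgroup.mem_prod.mpr ⟨one_mem _, hb⟩⟩
  -- the projection of `B` onto the first fours group is bijective
  obtain ⟨u, hu, hu1⟩ := B.bot_or_exists_ne_one.resolve_left (fun h => by rw [h, Subgroup.card_bot] at hB4; norm_num at hB4)
  let π : B → {x : A4 // x * x = 1} := fun w => ⟨(w : A4 × A4).1, (hsq w w.2).1⟩
  have hπinj : Function.Injective π := fun w w' h => by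
    have h' : (w : A4 × A4).1 = (w' : A4 × A4).1 := congrArg Subtype.val h
    have : ((w * w'⁻¹ : B) : A4 × A4) = 1 := hfst _ (w * w'⁻¹).2 (by simp [h'])
    exact mul_inv_eq_one.mp (Subtype.ext this)
  have hπ := (Nat.bijective_iff_injective_and_card π).mpr ⟨hπinj, by
    rw [hB4, Nat.card_eq_fintype_card, Fintype.card_subtype, a4_count]⟩
  have hu1' : u.1 ≠ 1 := fun h => hu1 (hfst u hu h)
  have hu2' : u.2 ≠ 1 := fun h => hu1 (hsnd u hu h)
  obtain ⟨hA1, hA2, hA3, -⟩ := a4_act a u.1 ha ha1 (hsq u hu).1 hu1'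
  obtain ⟨⟨w, hw⟩, hwπ⟩ := hπ.2 ⟨a * u.1 * a⁻¹, by
    rw [show a * u.1 * a⁻¹ * (a * u.1 * a⁻¹) = a * (u.1 * u.1) * a⁻¹ by group, (hsq u hu).1, mul_one, mul_inv_cancel]⟩
  have hw1 : w.1 = a * u.1 * a⁻¹ := congrArg Subtype.val hwπ
  have hwne : w ≠ u := fun h => hA1 (by rw [← hw1, h])
  have hw2 : w.2 ≠ 1 := fun h => by
    have hh := hsnd w hw h
    rw [hh] at hw1
    exact hu1' (conj_eq_one_iff.mp hw1.symm)
  have hw2u : w.2 ≠ u.2 := fun h => hwne (by
    have := hsnd _ (mul_mem hw (inv_mem hu)) (by simp [h])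
    exact mul_inv_eq_one.mp this)
  obtain ⟨c, hc, hc1, hcQ, hw2c⟩ : ∃ c : A4, c * c * c = 1 ∧ c ≠ 1 ∧ ((1, c) : A4 × A4) ∈ (Q : Subgroup (A4 × A4)) ∧ w.2 = c * u.2 * c⁻¹ := by
    rcases a4_three b u.2 w.2 hb hb1 (hsq u hu).2 hu2' (hsq w hw).2 hw2 with h | h | h
    · exact absurd h hw2u
    · exact ⟨b, hb, hb1, hbQ, h⟩
    · refine ⟨b⁻¹, ?_, by simpa using hb1, by simpa using inv_mem hbQ, by rw [h, inv_inv]⟩
      rw [show b⁻¹ * b⁻¹ * b⁻¹ = (b * b * b)⁻¹ by group, hb, inv_one]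
  obtain ⟨hC1, hC2, hC3, -⟩ := a4_act c u.2 hc hc1 (hsq u hu).2 hu2'
  set g : A4 × A4 := (a, c)
  have hgu : g * u * g⁻¹ = w := Prod.ext hw1.symm hw2c.symm
  have hgQ : g ∈ (Q : Subgroup _) := by
    have := mul_mem haQ hcQ
    simpa [g] using this
  have hg3 : g ^ 3 = 1 := by
    simp only [pow_succ, pow_zero, one_mul]
    exact Prod.ext ha hc
  have hord : orderOf g = 3 := orderOf_eq_prime hg3 (fun h => ha1 (congrArg Prod.fst h))
  have hnorm : g ∈ Subgroup.normalizer (B : Set (A4 × A4)) := by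
    refine conj_mem hB4 hu (hgu ▸ hw) (Prod.ext ?_ ?_) hu1 (hgu ▸ hwne) ?_ (Prod.ext ?_ ?_)
    · simp only [g, Prod.fst_mul, Prod.fst_inv]; rw [hA3, hA2]
    · simp only [g, Prod.snd_mul, Prod.snd_inv]; rw [hC3, hC2]
    · intro h
      have := congrArg Prod.fst h
      simp only [g, Prod.fst_mul, Prod.fst_inv, hA2, Prod.fst_one] at this
      rw [← inv_inv a, inv_inv a⁻¹] at this
      exact hu1' (by
        calc u.1 = a * (a⁻¹ * u.1 * a) * a⁻¹ := by group
          _ = 1 := by rw [inv_inv] at this; rw [this]; group)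
    · simp only [g, Prod.fst_mul, Prod.fst_inv]; rw [hA2]; group
    · simp only [g, Prod.snd_mul, Prod.snd_inv]; rw [hC2]; group
  refine ⟨Subgroup.zpowers g, Subgroup.zpowers_le.mpr hgQ, by rw [Nat.card_zpowers, hord], ?_, ?_,
    Subgroup.zpowers_le.mpr hnorm⟩
  · intro h
    have hh : g ∈ (Q : Subgroup _) ⊓ Subgroup.prod ⊤ ⊥ := h ▸ Subgroup.mem_zpowers g
    exact hc1 (Subgroup.mem_bot.mp (Subgroup.mem_prod.mp hh.2).2)
  · intro h
    have hh : g ∈ (Q : Subgroup _) ⊓ Subgroup.prod ⊥ ⊤ := h ▸ Subgroup.mem_zpowers g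
    exact ha1 (Subgroup.mem_bot.mp (Subgroup.mem_prod.mp hh.2).1)

end Cfsg.Agent.S4406
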