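import Cfsg.Statements.S4407

/-!
The fixed subgroup of a noncentral involution of `X` in `A` and its image under a rotation give the
two eigen-summands of the module, each one-dimensional over the field with four elements.
-/

set_option autoImplicit false
open Cfsg

namespace Cfsg.Agent.S4407

open DihedralGroup

abbrev D := DihedralGroup 4

theorem d_rot (i : ZMod 4) : (sr i : D) * r 1 * sr i = (r 1)⁻¹ := by revert i; decide
theorem d_sq (i : ZMod 4) : (sr i : D) * sr i = 1 := by revert i; decide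
theorem d_conj (i : ZMod 4) : (r 1 : D) * sr i * (r 1)⁻¹ = r 2 * sr i := by revert i; decide
theorem d_next (i : ZMod 4) : (sr (i + 1) : D) = sr i * r 1 := by revert i; decide
theorem d_center (x : D) : r 2 * x = x * r 2 := by revert x; decide
theorem d_gen (i : ZMod 4) (x : D) : ∃ j : Fin 4, x = (r 1) ^ (j : ℕ) ∨ x = sr i * (r 1) ^ (j : ℕ) := by
  revert i x; decide
theorem d_inv (i : ZMod 4) (x : D) (h : x * x = 1) :
    x = 1 ∨ x = r 2 ∨ x = sr i ∨ x = r 2 * sr i ∨ x = sr (i + 1) ∨ x = r 2 * sr (i + 1) := by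
  revert i x; decide
theorem d_tr (i : ZMod 4) : (sr i : D) * r 1 = r 1 * r 1 * r 1 * sr i := by revert i; decide
theorem d_zsr (i : ZMod 4) : (r 2 : D) * sr i * (r 2 * sr i) = 1 ∧ (r 2 : D) * sr i ≠ 1 := by
  revert i; decide
theorem d_max (i : ZMod 4) : (sr i : D) * sr (i + 1) ≠ sr (i + 1) * sr i := by revert i; decide

/-- The four-subgroup through the reflection `sr j`. -/
def klein (j : ZMod 4) : Subgroup D where
  carrier := {x | x = 1 ∨ x = r 2 ∨ x = sr j ∨ x = r 2 * sr j}
  mul_mem' := by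
    intro a b
    simp only [Set.mem_ofPred_eq]
    revert j a b
    decide
  one_mem' := Or.inl rfl
  inv_mem' := by
    intro a
    simp only [Set.mem_ofPred_eq]
    revert j a
    decide

theorem mem_klein {j : ZMod 4} {x : D} :
    x ∈ klein j ↔ x = 1 ∨ x = r 2 ∨ x = sr j ∨ x = r 2 * sr j := Iff.rfl

theorem card_klein (j : ZMod 4) : Nat.card (klein j) = 4 := by
  have h : ∀ j : ZMod 4, (Finset.univ.filter fun x : D =>
      x = 1 ∨ x = r 2 ∨ x = sr j ∨ x = r 2 * sr j).card = 4 := by decide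
  classical
  rw [Nat.card_eq_fintype_card, Fintype.card_of_subtype
    (Finset.univ.filter fun x : D => x = 1 ∨ x = r 2 ∨ x = sr j ∨ x = r 2 * sr j)
    (fun x => by rw [Finset.mem_filter, mem_klein]; simp only [Finset.mem_univ, true_and])]
  exact h j

theorem klein_sq (j : ZMod 4) (x : D) (h : x ∈ klein j) : x ^ 2 = 1 := by
  rw [mem_klein] at h; revert j x; decide

theorem center_mem (H : Subgroup D) (h4 : Nat.card H = 4) (hsq : ∀ x ∈ H, x ^ 2 = 1) :
    r 2 ∈ H := by
  classical
  by_contra hz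
  have key : ∀ a b : D, a ^ 2 = 1 → b ^ 2 = 1 → (a * b) ^ 2 = 1 → a ≠ 1 → b ≠ 1 → a ≠ b →
      a ≠ r 2 → b ≠ r 2 → a * b = r 2 := by decide
  have : (Finset.univ.filter (· ∈ H)).card = 4 := by
    refine Eq.trans ?_ h4
    rw [Nat.card_eq_fintype_card, Fintype.card_subtype]
  obtain ⟨a, ha, ha1⟩ : ∃ a ∈ H, a ≠ 1 := by
    by_contra hc; push Not at hc
    have hb : H = ⊥ := (Subgroup.eq_bot_iff_forall H).2 hc
    rw [hb, Subgroup.card_bot] at h4; omega
  obtain ⟨b, hb, hb1, hba⟩ : ∃ b ∈ H, b ≠ 1 ∧ b ≠ a := by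
    by_contra hc; push Not at hc
    have hsub : Finset.univ.filter (· ∈ H) ⊆ {1, a} := by
      intro x hx
      simp only [Finset.mem_filter, Finset.mem_univ, true_and] at hx
      simp only [Finset.mem_insert, Finset.mem_singleton]
      by_cases hx1 : x = 1
      · exact Or.inl hx1
      · exact Or.inr (hc x hx hx1)
    have := (Finset.card_le_card hsub).trans Finset.card_le_two
    omega
  exact hz (key a b (hsq a ha) (hsq b hb) (hsq _ (H.mul_mem ha hb)) ha1 hb1 hba.symm
    (fun h => hz (h ▸ ha)) (fun h => hz (h ▸ hb)) ▸ H.mul_mem ha hb)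

variable {S : Type*} [Group S] {M : Type*} [AddCommGroup M] [Module (ZMod 2) M]

/-- The fixed submodule of one element. -/
def fixM (ρ : Representation (ZMod 2) S M) (g : S) : Submodule (ZMod 2) M :=
  LinearMap.ker (ρ g - 1)

theorem mem_fixM {ρ : Representation (ZMod 2) S M} {g : S} {m : M} :
    m ∈ fixM ρ g ↔ ρ g m = m := by
  rw [fixM, LinearMap.mem_ker, LinearMap.sub_apply, Module.End.one_apply, sub_eq_zero]

theorem map_fixM {ρ : Representation (ZMod 2) S M} {g h x : S} (hx : h * x = x * g) {m : M}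
    (hm : m ∈ fixM ρ g) : ρ x m ∈ fixM ρ h := by
  rw [mem_fixM] at hm ⊢
  rw [← Module.End.mul_apply, ← map_mul, hx, map_mul, Module.End.mul_apply, hm]

theorem fix_inv {ρ : Representation (ZMod 2) S M} {g : S} : fixM ρ g⁻¹ = fixM ρ g := by
  ext m
  rw [mem_fixM, mem_fixM]
  constructor
  · intro h
    conv_lhs => rw [← h]
    rw [← Module.End.mul_apply, ← map_mul, mul_inv_cancel, map_one, Module.End.one_apply]
  · intro h
    conv_lhs => rw [← h]
    rw [← Module.End.mul_apply, ← map_mul, inv_mul_cancel, map_one, Module.End.one_apply]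

theorem add_self_two (m : M) : m + m = 0 := by
  rw [← two_smul (ZMod 2) m, show (2 : ZMod 2) = 0 from rfl, zero_smul]

/-- An involution of a non-zero invariant submodule fixes a non-zero vector of it. -/
theorem exists_fixed {ρ : Representation (ZMod 2) S M} {t : S} (ht : t * t = 1)
    {U : Submodule (ZMod 2) M} (hU : ∀ m ∈ U, ρ t m ∈ U) (hne : U ≠ ⊥) :
    ∃ m ∈ U, m ≠ 0 ∧ ρ t m = m := by
  obtain ⟨m, hm, hm0⟩ := Submodule.exists_mem_ne_zero_of_ne_bot hne
  by_cases h : m + ρ t m = 0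
  · refine ⟨m, hm, hm0, ?_⟩
    calc ρ t m = (m + ρ t m) + m := by
          rw [add_comm m (ρ t m), add_assoc, add_self_two, add_zero]
      _ = m := by rw [h, zero_add]
  · refine ⟨_, U.add_mem hm (hU m hm), h, ?_⟩
    rw [map_add, ← Module.End.mul_apply, ← map_mul, ht, map_one, Module.End.one_apply, add_comm]

variable [Finite S] [Finite M] (A : Subgroup S) [A.Normal]

theorem core (hA : Cfsg.IsElementaryAbelian 3 A) (hA9 : Nat.card ↥A = 9) (ι : D →* S)
    (hι : Function.Injective ι) (hAX : A ⊔ ι.range = ⊤)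
    (hzinv : ∀ a ∈ A, ι (r 2) * a * ι (r 2) = a⁻¹)
    (ρ : Representation (ZMod 2) S M) (hfaith : Function.Injective ρ)
    (hirr : ∀ N : Submodule (ZMod 2) M, (∀ s : S, ∀ m ∈ N, ρ s m ∈ N) → N = ⊥ ∨ N = ⊤)
    (i : ZMod 4) {a : S} (ha : a ∈ A) (ha1 : a ≠ 1) (hsa : ι (sr i) * a * ι (sr i) = a)
    (hne : fixM ρ a ≠ ⊥) :
    Nat.card M = 16 ∧
      ∃! B : Subgroup S, B ≤ ι.range ∧ Nat.card ↥B = 4 ∧ (∀ b ∈ B, b ^ 2 = 1) ∧
        Nat.card {m : M // ∀ b ∈ B, ρ b m = m} = 2 := by
  classical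
  have hcomm : ∀ x ∈ A, ∀ y ∈ A, x * y = y * x := fun x hx y hy =>
    congrArg Subtype.val (hA.1.is_comm.comm (⟨x, hx⟩ : A) ⟨y, hy⟩)
  have hcube : ∀ x ∈ A, x ^ 3 = 1 := fun x hx => hA.2 x hx
  set R := ι (r 1) with hR
  set Z := ι (r 2) with hZ
  set T := ι (sr i) with hT
  have hZ2 : R * R = Z := by rw [hR, hZ, ← map_mul]; rfl
  have hTT : T * T = 1 := by rw [hT, ← map_mul, d_sq, map_one]
  have hZZ : Z * Z = 1 := by rw [hZ, ← map_mul, show (r 2 : D) * r 2 = 1 from by decide, map_one]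
  have hZc : ∀ x : D, Z * ι x = ι x * Z := fun x => by rw [hZ, ← map_mul, d_center, map_mul]
  have hRT : R * T = Z * T * R := by
    rw [hR, hT, hZ, ← map_mul, ← map_mul, ← map_mul, ← d_conj i]
    congr 1
    group
  have hTR : T * R = R * R * R * T := by
    rw [hR, hT, ← map_mul, ← map_mul, ← map_mul, ← map_mul]
    congr 1
    exact d_tr i
  set b := R * a * R⁻¹ with hb
  have hbA : b ∈ A := Subgroup.Normal.conj_mem inferInstance a ha R
  have hb1 : b ≠ 1 := fun h => ha1 (conj_eq_one_iff.1 h)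
  have hRa : b * R = R * a := by rw [hb]; group
  have hZa : ∀ x ∈ A, Z * x = x⁻¹ * Z := fun x hx => by
    rw [← hzinv x hx, mul_assoc _ Z Z, hZZ, mul_one]
  have hRb : a⁻¹ * R = R * b := by
    have : R * b = Z * a * R⁻¹ := by rw [hb, ← hZ2]; group
    rw [this, hZa a ha, ← hZ2]; group
  have hTa : T * a = a * T := by
    conv_rhs => rw [← hsa, mul_assoc _ T T, hTT, mul_one]
  have hTb : T * b = b⁻¹ * T := by
    have h1 : Z * T * R = R * T := hRT.symm
    have h2 : T * R = Z * R * T := by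
      calc T * R = Z * (Z * T * R) := by rw [← mul_assoc, ← mul_assoc, hZZ, one_mul]
        _ = Z * R * T := by rw [h1, mul_assoc]
    calc T * b = T * R * a * R⁻¹ := by rw [hb]; group
      _ = Z * R * (T * a) * R⁻¹ := by rw [h2]; group
      _ = Z * (R * a) * T * R⁻¹ := by rw [hTa]; group
      _ = Z * b * (R * T) * R⁻¹ := by rw [← hRa]; group
      _ = b⁻¹ * Z * (Z * T * R) * R⁻¹ := by rw [hZa b hbA, hRT]
      _ = b⁻¹ * (Z * Z) * T := by group
      _ = b⁻¹ * T := by rw [hZZ, mul_one]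
  clear_value b
  -- `a` and `b` generate `A`
  have hne' : b ∉ Subgroup.zpowers a := by
    intro hmem
    obtain ⟨k, hk⟩ := Subgroup.mem_zpowers_iff.1 hmem
    have : T * b = b * T := by rw [← hk]; exact Commute.zpow_right hTa k
    rw [hTb] at this
    have h2 : b⁻¹ = b := mul_right_cancel this
    apply hb1
    have h3 := hcube b hbA
    rw [pow_succ, pow_two, show b * b = 1 by nth_rewrite 1 [← h2]; exact inv_mul_cancel b,
      one_mul] at h3
    exact h3
  have hgen : Subgroup.closure ({a, b} : Set S) = A := by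
    have hle : Subgroup.closure ({a, b} : Set S) ≤ A := (Subgroup.closure_le A).2 (by
      rintro x (rfl | rfl) <;> assumption)
    haveI : Fact (Nat.Prime 3) := ⟨Nat.prime_three⟩
    refine Subgroup.eq_of_le_of_card_ge hle ?_
    have h3 : Nat.card (Subgroup.zpowers a) = 3 := by
      rw [Nat.card_zpowers, orderOf_eq_prime (hcube a ha) ha1]
    have hza : Subgroup.zpowers a ≤ Subgroup.closure ({a, b} : Set S) :=
      Subgroup.zpowers_le.2 (Subgroup.subset_closure (by simp))
    have hlt : Nat.card (Subgroup.zpowers a) < Nat.card (Subgroup.closure ({a, b} : Set S)) :=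
      lt_of_le_of_ne (Subgroup.card_le_of_le hza) fun h =>
        hne' ((Subgroup.eq_of_le_of_card_ge hza h.ge) ▸ Subgroup.subset_closure (by simp))
    have hd := Subgroup.card_dvd_of_le hle
    rw [h3] at hlt
    rw [hA9] at hd ⊢
    generalize Nat.card (Subgroup.closure ({a, b} : Set S)) = n at hlt hd
    have := Nat.le_of_dvd (by norm_num) hd
    interval_cases n <;> omega
  -- invariance under generators
  have inv_of : ∀ U : Submodule (ZMod 2) M, (∀ g ∈ ({a, b, R, T} : Set S), ∀ m ∈ U, ρ g m ∈ U) →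
      ∀ g : S, ∀ m ∈ U, ρ g m ∈ U := by
    intro U hU
    have htop : Subgroup.closure ({a, b, R, T} : Set S) = ⊤ := by
      rw [eq_top_iff, ← hAX, sup_le_iff, ← hgen, Subgroup.closure_le]
      refine ⟨?_, ?_⟩
      · rintro x (rfl | rfl) <;> exact Subgroup.subset_closure (by simp)
      · rintro _ ⟨d, rfl⟩
        obtain ⟨j, hj | hj⟩ := d_gen i d
        · rw [hj, map_pow]; exact Subgroup.pow_mem _ (Subgroup.subset_closure (by simp [hR])) _
        · rw [hj, map_mul, map_pow]
          exact Subgroup.mul_mem _ (Subgroup.subset_closure (by simp [hT]))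
            (Subgroup.pow_mem _ (Subgroup.subset_closure (by simp [hR])) _)
    intro g
    have hg : g ∈ Submonoid.closure ({a, b, R, T} : Set S) := by
      have : g ∈ (Subgroup.closure ({a, b, R, T} : Set S)).toSubmonoid := htop ▸ Subgroup.mem_top g
      rwa [Subgroup.closure_toSubmonoid_of_finite] at this
    induction hg using Submonoid.closure_induction with
    | mem x hx => exact hU x hx
    | one => intro m hm; rwa [map_one, Module.End.one_apply]
    | mul x y _ _ hx hy =>
      intro m hm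
      rw [map_mul, Module.End.mul_apply]
      exact hx _ (hy m hm)
  set M₁ := fixM ρ a with hM₁
  set M₂ := fixM ρ b with hM₂
  have hM12 : ∀ m ∈ M₁, ρ R m ∈ M₂ := fun m hm => map_fixM hRa hm
  have hM21 : ∀ m ∈ M₂, ρ R m ∈ M₁ := fun m hm => by
    rw [hM₁, ← fix_inv (g := a)]; exact map_fixM hRb hm
  have hT1 : ∀ m ∈ M₁, ρ T m ∈ M₁ := fun m hm => map_fixM hTa.symm hm
  have hT2 : ∀ m ∈ M₂, ρ T m ∈ M₂ := fun m hm => by
    rw [hM₂, ← fix_inv (g := b)]; exact map_fixM hTb.symm hm
  have hA1 : ∀ x ∈ A, ∀ m ∈ M₁, ρ x m ∈ M₁ := fun x hx m hm => map_fixM (hcomm a ha x hx) hm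
  have hA2 : ∀ x ∈ A, ∀ m ∈ M₂, ρ x m ∈ M₂ := fun x hx m hm => map_fixM (hcomm b hbA x hx) hm
  have hZ1 : ∀ m ∈ M₁, ρ Z m ∈ M₁ := fun m hm => by
    rw [hM₁, ← fix_inv (g := a)]
    exact map_fixM (hZa a ha).symm hm
  have htopM : M₁ ⊔ M₂ = ⊤ := by
    refine (hirr _ (inv_of _ ?_)).resolve_left fun h => hne (eq_bot_iff.2 (le_sup_left.trans h.le))
    intro g hg m hm
    obtain ⟨u, hu, v, hv, rfl⟩ := Submodule.mem_sup.1 hm
    rw [map_add]
    rcases hg with rfl | rfl | rfl | rfl
    · exact Submodule.add_mem_sup (hA1 _ ha u hu) (hA2 _ ha v hv)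
    · exact Submodule.add_mem_sup (hA1 _ hbA u hu) (hA2 _ hbA v hv)
    · exact add_comm (ρ R v) (ρ R u) ▸ Submodule.add_mem_sup (hM21 v hv) (hM12 u hu)
    · exact Submodule.add_mem_sup (hT1 u hu) (hT2 v hv)
  have hdisj : ∀ m, m ∈ M₁ → m ∈ M₂ → m = 0 := by
    intro m h1 h2
    have hcase := hirr (M₁ ⊓ M₂) (inv_of _ ?_)
    · rcases hcase with h | h
      · exact (Submodule.mem_bot _).1 (h.le ⟨h1, h2⟩)
      · exfalso
        refine ha1 (hfaith (LinearMap.ext fun x => ?_))
        rw [map_one, Module.End.one_apply]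
        exact mem_fixM.1 ((h ▸ Submodule.mem_top : x ∈ M₁ ⊓ M₂)).1
    intro g hg m hm
    rcases hg with rfl | rfl | rfl | rfl
    · exact ⟨hA1 _ ha m hm.1, hA2 _ ha m hm.2⟩
    · exact ⟨hA1 _ hbA m hm.1, hA2 _ hbA m hm.2⟩
    · exact ⟨hM21 m hm.2, hM12 m hm.1⟩
    · exact ⟨hT1 m hm.1, hT2 m hm.2⟩
  -- small invariant submodules of `M₁` are everything
  have hbig : ∀ U : Submodule (ZMod 2) M, U ≤ M₁ → U ≠ ⊥ →
      (∀ m ∈ U, ρ b m ∈ U ∧ ρ T m ∈ U ∧ ρ Z m ∈ U) → U = M₁ := by
    intro U hU hU0 hinv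
    have hUR : ∀ m ∈ U, ρ R m ∈ U.map (ρ R) := fun m hm => ⟨m, hm, rfl⟩
    have htop : U ⊔ U.map (ρ R) = ⊤ := by
      refine (hirr _ (inv_of _ ?_)).resolve_left fun h => hU0 (eq_bot_iff.2 (le_sup_left.trans h.le))
      intro g hg m hm
      obtain ⟨u, hu, w, ⟨v, hv, rfl⟩, rfl⟩ := Submodule.mem_sup.1 hm
      rw [map_add]
      rcases hg with rfl | rfl | rfl | rfl
      · refine Submodule.add_mem_sup ?_ ⟨ρ b⁻¹ v, ?_, ?_⟩
        · rw [mem_fixM.1 (hU hu)]; exact hu
        · have : b⁻¹ = b * b := inv_eq_of_mul_eq_one_right (by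
            rw [← mul_assoc, ← pow_two, ← pow_succ, hcube b hbA])
          rw [this, map_mul, Module.End.mul_apply]
          exact (hinv _ (hinv _ hv).1).1
        · show ρ R (ρ b⁻¹ v) = ρ g (ρ R v)
          rw [← Module.End.mul_apply, ← map_mul, ← Module.End.mul_apply, ← map_mul]
          congr 2
          rw [mul_inv_eq_iff_eq_mul, mul_assoc, ← hRb]
          group
      · refine Submodule.add_mem_sup (hinv u hu).1 ⟨v, hv, ?_⟩
        show ρ R v = ρ g (ρ R v)
        rw [← Module.End.mul_apply, ← map_mul, hRa, map_mul, Module.End.mul_apply,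
          mem_fixM.1 (hU hv)]
      · rw [← Module.End.mul_apply, ← map_mul, hZ2, add_comm]
        exact Submodule.add_mem_sup (hinv v hv).2.2 (hUR u hu)
      · refine Submodule.add_mem_sup (hinv u hu).2.1 ⟨ρ (Z * T) v, ?_, ?_⟩
        · rw [map_mul, Module.End.mul_apply]; exact (hinv _ (hinv _ hv).2.1).2.2
        · show ρ R (ρ (Z * T) v) = ρ T (ρ R v)
          rw [← Module.End.mul_apply, ← map_mul ρ, ← Module.End.mul_apply, ← map_mul ρ]
          congr 2
          calc R * (Z * T) = (R * Z) * T := (mul_assoc _ _ _).symm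
            _ = Z * (R * T) := by rw [hR, ← hZc, mul_assoc]
            _ = Z * Z * (T * R) := by rw [hRT]; group
            _ = T * R := by rw [hZZ, one_mul]
    refine le_antisymm hU fun m hm => ?_
    obtain ⟨u, hu, w, ⟨v, hv, rfl⟩, rfl⟩ := Submodule.mem_sup.1 (htop ▸ Submodule.mem_top : m ∈ U ⊔ U.map (ρ R))
    have : ρ R v ∈ M₁ := by simpa using M₁.sub_mem hm (hU hu)
    have h0 := hdisj _ this (hM12 v (hU hv))
    show u + ρ R v ∈ U
    rw [h0, add_zero]; exact hu
  -- on `M₁`, `Z` and `T` agree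
  have hZT : ∀ m ∈ M₁, ρ Z m = ρ T m := by
    have htt : Z * T * (Z * T) = 1 := by
      rw [mul_assoc, ← mul_assoc T Z T, hT, ← hZc, mul_assoc Z (ι (sr i)), hTT, mul_one, hZZ]
    obtain ⟨m₀, hm₀, hm₀0, hm₀f⟩ := exists_fixed (U := M₁) htt (fun m hm => by
      rw [map_mul, Module.End.mul_apply]; exact hZ1 _ (hT1 m hm)) hne
    have hU : M₁ ⊓ fixM ρ (Z * T) = M₁ := by
      refine hbig _ inf_le_left
        (fun h => hm₀0 ((Submodule.mem_bot _).1 (h.le ⟨hm₀, mem_fixM.2 hm₀f⟩))) fun m hm => ?_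
      refine ⟨⟨hA1 _ hbA m hm.1, map_fixM ?_ hm.2⟩, ⟨hT1 m hm.1, map_fixM ?_ hm.2⟩,
        ⟨hZ1 m hm.1, map_fixM ?_ hm.2⟩⟩
      · rw [mul_assoc, hTb, ← mul_assoc, hZa _ (A.inv_mem hbA), inv_inv, mul_assoc]
      · rw [hT, ← mul_assoc _ Z, hZc]
      · rw [← mul_assoc Z Z T, hZZ, one_mul, mul_assoc, hT, ← hZc, ← mul_assoc, hZZ, one_mul]
    intro m hm
    have := mem_fixM.1 ((hU.symm ▸ hm : m ∈ M₁ ⊓ fixM ρ (Z * T))).2
    conv_lhs => rw [← this]
    rw [← Module.End.mul_apply, ← map_mul, ← mul_assoc, hZZ, one_mul]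
  obtain ⟨v, hv, hv0, hTv⟩ := exists_fixed (U := M₁) hTT hT1 hne
  set w := ρ b v with hw
  have hwM : w ∈ M₁ := hA1 b hbA v hv
  have hbm : ∀ m ∈ M₁, ρ b m = m → m = 0 := fun m hm h => hdisj m hm (mem_fixM.2 h)
  have hbw : ρ b w = v + w := by
    have h1 : ρ b (v + w + ρ b w) = v + w + ρ b w := by
      have h3 : ρ b (ρ b w) = v := by
        rw [hw, ← Module.End.mul_apply, ← Module.End.mul_apply, ← map_mul, ← map_mul,
          show b * b * b = 1 by rw [← pow_two, ← pow_succ]; exact hcube b hbA, map_one,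
          Module.End.one_apply]
      rw [map_add, map_add, h3, ← hw]
      abel
    have h0 := hbm _ (M₁.add_mem (M₁.add_mem hv hwM) (hA1 b hbA w hwM)) h1
    calc ρ b w = (v + w) + ((v + w) + ρ b w) := by rw [← add_assoc, add_self_two, zero_add]
      _ = v + w := by rw [h0, add_zero]
  have hTw : ρ T w = v + w := by
    rw [hw, ← Module.End.mul_apply, ← map_mul, hTb, map_mul, Module.End.mul_apply, hTv,
      show b⁻¹ = b * b from inv_eq_of_mul_eq_one_right (by
        rw [← mul_assoc, ← pow_two, ← pow_succ, hcube b hbA]),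
      map_mul, Module.End.mul_apply, ← hw]
    exact hbw
  have hspan : ∀ m ∈ M₁, m = 0 ∨ m = v ∨ m = w ∨ m = v + w := by
    let U : Submodule (ZMod 2) M :=
      { carrier := {m | m = 0 ∨ m = v ∨ m = w ∨ m = v + w}
        zero_mem' := Or.inl rfl
        add_mem' := by
          intro x y hx hy
          simp only [Set.mem_ofPred_eq] at hx hy ⊢
          have hc : ∀ p q : M, p + (p + q) = q := fun p q => by
            rw [← add_assoc, add_self_two, zero_add]
          rcases hx with hx | hx | hx | hx <;> rcases hy with hy | hy | hy | hy <;> rw [hx, hy] <;>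
            first
              | (left; abel_nf; simp [two_smul, add_self_two]; done)
              | (left; exact add_self_two _)
              | (left; exact add_zero _)
              | (right; left; first | exact add_zero _ | exact zero_add _ | exact (by rw [add_comm v w, hc]) | exact (by rw [add_comm (v + w) w, add_comm v w, hc]))
              | (right; right; left; first | exact add_zero _ | exact zero_add _ | exact hc _ _ | exact (by rw [add_comm, hc]))
              | (right; right; right; first | exact add_zero _ | exact zero_add _ | rfl | exact add_comm _ _)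
        smul_mem' := by
          intro c x hx
          rcases (show c = 0 ∨ c = 1 by revert c; decide) with rfl | rfl
          · exact Or.inl (zero_smul _ x)
          · rwa [one_smul] }
    have hUM : U = M₁ := by
      refine hbig U ?_ (fun h => hv0 ((Submodule.mem_bot _).1 (h.le (show v ∈ U from Or.inr (Or.inl rfl))))) ?_
      · rintro x (rfl | rfl | rfl | rfl)
        exacts [M₁.zero_mem, hv, hwM, M₁.add_mem hv hwM]
      · intro x hx
        have hxT : ρ T x ∈ U := by
          rcases hx with rfl | rfl | rfl | rfl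
          · rw [map_zero]; exact U.zero_mem
          · rw [hTv]; exact Or.inr (Or.inl rfl)
          · rw [hTw]; exact Or.inr (Or.inr (Or.inr rfl))
          · rw [map_add, hTv, hTw, ← add_assoc, add_self_two, zero_add]
            exact Or.inr (Or.inr (Or.inl rfl))
        refine ⟨?_, hxT, ?_⟩
        · rcases hx with rfl | rfl | rfl | rfl
          · rw [map_zero]; exact U.zero_mem
          · exact Or.inr (Or.inr (Or.inl rfl))
          · rw [hbw]; exact Or.inr (Or.inr (Or.inr rfl))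
          · rw [map_add, ← hw, hbw, add_left_comm, add_self_two, add_zero]
            exact Or.inr (Or.inl rfl)
        · have hxM : x ∈ M₁ := by
            rcases hx with rfl | rfl | rfl | rfl
            exacts [M₁.zero_mem, hv, hwM, M₁.add_mem hv hwM]
          rw [hZT x hxM]; exact hxT
    intro m hm
    exact (hUM ▸ hm : m ∈ U)
  have hw0 : w ≠ 0 := fun h => hv0 (by
    have h' : ρ (b⁻¹) w = v := by
      rw [hw, ← Module.End.mul_apply, ← map_mul, inv_mul_cancel, map_one, Module.End.one_apply]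
    rwa [h, map_zero, eq_comm] at h')
  have hwv : w ≠ v := fun h => hv0 (hbm v hv (hw.symm.trans h))
  have hZv : ρ Z v = v := by rw [hZT v hv, hTv]
  have hfixZ : ∀ m ∈ M₁, ρ Z m = m → m = 0 ∨ m = v := by
    intro m hm h
    rw [hZT m hm] at h
    rcases hspan m hm with rfl | rfl | rfl | rfl
    · exact Or.inl rfl
    · exact Or.inr rfl
    · rw [hTw] at h; exact absurd (add_eq_right.1 h) hv0
    · rw [map_add, hTv, hTw, ← add_assoc, add_self_two, zero_add] at h
      exact absurd (left_eq_add.1 (h.trans (add_comm v _))) hv0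
  set v' := ρ R v with hv'def
  have hv'M : v' ∈ M₂ := hM12 v hv
  have hv'0 : v' ≠ 0 := fun h => hv0 (by
    have h' : ρ R⁻¹ v' = v := by
      rw [hv'def, ← Module.End.mul_apply, ← map_mul, inv_mul_cancel, map_one, Module.End.one_apply]
    rwa [h, map_zero, eq_comm] at h')
  have hTv' : ρ T v' = v' := by
    rw [hv'def, ← Module.End.mul_apply, ← map_mul]
    have : T * R = R * (Z * T) := by
      calc T * R = Z * (Z * T * R) := by rw [← mul_assoc, ← mul_assoc, hZZ, one_mul]
        _ = (Z * R) * T := by rw [← hRT, mul_assoc]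
        _ = R * (Z * T) := by rw [hR, hZc, mul_assoc]
    rw [this, map_mul, Module.End.mul_apply, map_mul, Module.End.mul_apply, hTv, hZv]
  have hZv' : ρ Z v' = v' := by
    rw [hv'def, ← Module.End.mul_apply, ← map_mul, hR, hZc, ← hR, map_mul, Module.End.mul_apply,
      hZv]
  -- the decomposition
  have hcard1 : Nat.card M₁ = 4 := by
    have hset : (M₁ : Set M) = {0, v, w, v + w} := by
      ext m
      constructor
      · intro hm; exact hspan m hm
      · rintro (rfl | rfl | rfl | rfl)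
        exacts [M₁.zero_mem, hv, hwM, M₁.add_mem hv hwM]
    rw [← SetLike.coe_sort_coe, Nat.card_coe_set_eq, hset]
    have h1 : v + w ≠ 0 := fun h => hwv (by
      calc w = (v + w) + v := by rw [add_right_comm, add_self_two, zero_add]
        _ = v := by rw [h, zero_add])
    rw [Set.ncard_insert_of_notMem (by simp [hv0.symm, hw0.symm, h1.symm]),
      Set.ncard_insert_of_notMem (by simp [hwv.symm, hw0]),
      Set.ncard_insert_of_notMem (by simp [hv0]), Set.ncard_singleton]
  have hRinj : Function.Injective (ρ R) := by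
    intro x y h
    have := congrArg (ρ R⁻¹) h
    rwa [← Module.End.mul_apply, ← Module.End.mul_apply, ← map_mul, inv_mul_cancel, map_one] at this
  have hcard2 : Nat.card M₂ = 4 := by
    refine le_antisymm ?_ ?_
    · rw [← hcard1]
      exact Nat.card_le_card_of_injective (fun m : M₂ => (⟨ρ R m, hM21 m m.2⟩ : M₁))
        fun x y h => Subtype.ext (hRinj (congrArg Subtype.val h))
    · rw [← hcard1]
      exact Nat.card_le_card_of_injective (fun m : M₁ => (⟨ρ R m, hM12 m m.2⟩ : M₂))
        fun x y h => Subtype.ext (hRinj (congrArg Subtype.val h))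
  have hbij : Function.Bijective fun p : M₁ × M₂ => (p.1 : M) + p.2 := by
    constructor
    · rintro ⟨⟨x, hx⟩, ⟨y, hy⟩⟩ ⟨⟨x', hx'⟩, ⟨y', hy'⟩⟩ h
      simp only at h
      have h' : x - x' = y' - y := by rw [sub_eq_sub_iff_add_eq_add, h, add_comm]
      have h0 := hdisj (x - x') (M₁.sub_mem hx hx') (h' ▸ M₂.sub_mem hy' hy)
      have hxx := sub_eq_zero.1 h0
      subst hxx
      have := add_left_cancel h
      subst this
      rfl
    · intro m
      obtain ⟨x, hx, y, hy, rfl⟩ := Submodule.mem_sup.1 (htopM ▸ Submodule.mem_top : m ∈ M₁ ⊔ M₂)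
      exact ⟨(⟨x, hx⟩, ⟨y, hy⟩), rfl⟩
  refine ⟨by rw [← Nat.card_congr (Equiv.ofBijective _ hbij), Nat.card_prod, hcard1, hcard2], ?_⟩
  have hZfix : ∀ m, ρ Z m = m → m = 0 ∨ m = v ∨ m = v' ∨ m = v + v' := by
    intro m hm
    obtain ⟨⟨⟨x, hx⟩, ⟨y, hy⟩⟩, rfl⟩ := hbij.2 m
    simp only at hm ⊢
    rw [map_add] at hm
    have hy2 : ρ Z y ∈ M₂ := by
      rw [hM₂, ← fix_inv (g := b)]
      exact map_fixM (hZa b hbA).symm hy
    have := hbij.1 (a₁ := (⟨ρ Z x, hZ1 x hx⟩, ⟨ρ Z y, hy2⟩)) (a₂ := (⟨x, hx⟩, ⟨y, hy⟩)) hm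
    simp only [Prod.mk.injEq, Subtype.mk.injEq] at this
    obtain ⟨y₀, hy₀, rfl⟩ : ∃ y₀ ∈ M₁, ρ R y₀ = y := by
      refine ⟨ρ Z (ρ R y), hZ1 _ (hM21 y hy), ?_⟩
      rw [← Module.End.mul_apply, ← Module.End.mul_apply, ← map_mul, ← map_mul,
        show R * Z * R = 1 by
          rw [← hZ2]
          calc R * (R * R) * R = (R * R) * (R * R) := by group
            _ = 1 := by rw [hZ2]; exact hZZ,
        map_one, Module.End.one_apply]
    have hy0 : ρ Z y₀ = y₀ := by
      apply hRinj
      rw [← Module.End.mul_apply, ← map_mul, hR, ← hZc, ← hR, map_mul, Module.End.mul_apply]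
      exact this.2
    rcases hfixZ x hx this.1 with rfl | rfl <;> rcases hfixZ y₀ hy₀ hy0 with rfl | rfl
    · simp
    · simp [hv'def]
    · simp
    · simp [hv'def]
  have hU2 : ρ (ι (sr (i + 1))) v = v' := by
    rw [d_next, map_mul, map_mul, Module.End.mul_apply, ← hR, ← hT, ← hv'def, hTv']
  have hvv : v ≠ v' := fun h => hv0 (hdisj v hv (h ▸ hv'M))
  have hU2' : ρ (ι (sr (i + 1))) v' = v := by
    have h2 : ι (sr (i + 1)) * ι (sr (i + 1)) = 1 := by rw [← map_mul, d_sq, map_one]
    rw [← hU2, ← Module.End.mul_apply, ← map_mul, h2, map_one, Module.End.one_apply]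
  refine ⟨(klein (i + 1)).map ι, ⟨by rintro _ ⟨x, -, rfl⟩; exact ⟨x, rfl⟩,
    (Subgroup.card_map_of_injective hι).trans (card_klein (i + 1)),
    by rintro _ ⟨x, hx, rfl⟩; rw [← map_pow, klein_sq _ x hx, map_one], ?_⟩, ?_⟩
  · have hset : {m : M | ∀ g ∈ (klein (i + 1)).map ι, ρ g m = m} = {0, v + v'} := by
      ext m
      simp only [Set.mem_ofPred_eq, Set.mem_insert_iff, Set.mem_singleton_iff]
      constructor
      · intro h
        have hs := h _ ⟨sr (i + 1), Or.inr (Or.inr (Or.inl rfl)), rfl⟩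
        rcases hZfix m (h _ ⟨r 2, Or.inr (Or.inl rfl), rfl⟩) with rfl | rfl | rfl | rfl
        · exact Or.inl rfl
        · rw [hU2] at hs; exact absurd hs.symm hvv
        · rw [hU2'] at hs; exact absurd hs hvv
        · exact Or.inr rfl
      · rintro (rfl | rfl)
        · intro g _; exact map_zero _
        · have h1 : ρ (ι (sr (i + 1))) (v + v') = v + v' := by rw [map_add, hU2, hU2', add_comm]
          have h2 : ρ Z (v + v') = v + v' := by rw [map_add, hZv, hZv']
          rintro g ⟨x, hx, rfl⟩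
          rcases hx with rfl | rfl | rfl | rfl
          · rw [map_one, map_one, Module.End.one_apply]
          · exact h2
          · exact h1
          · rw [map_mul, map_mul, Module.End.mul_apply, h1]; exact h2
    show Nat.card ↥{m : M | ∀ g ∈ (klein (i + 1)).map ι, ρ g m = m} = 2
    rw [Nat.card_coe_set_eq, hset, Set.ncard_pair]
    exact fun h => hvv (by
      calc v = v + (v + v') := by rw [← h, add_zero]
        _ = v' := by rw [← add_assoc, add_self_two, zero_add])
  · rintro B ⟨hBle, hB4, hBsq, hBfix⟩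
    have hBeq : B = (B.comap ι).map ι := (Subgroup.map_comap_eq_self hBle).symm
    set K := B.comap ι
    have hK4 : Nat.card K = 4 := by
      rw [hBeq, Subgroup.card_map_of_injective hι] at hB4; exact hB4
    have hKsq : ∀ x ∈ K, x ^ 2 = 1 := fun x hx => hι (by rw [map_pow, map_one]; exact hBsq _ hx)
    have hzK := center_mem K hK4 hKsq
    suffices hle : K ≤ klein (i + 1) by
      rw [hBeq, Subgroup.eq_of_le_of_card_ge hle (by rw [hK4, card_klein])]
    intro x hx
    have hx2 : x * x = 1 := by rw [← pow_two]; exact hKsq x hx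
    by_contra hxK
    have hTK : sr i ∈ K := by
      rw [mem_klein] at hxK
      rcases d_inv i x hx2 with rfl | rfl | rfl | rfl | rfl | rfl
      · exact absurd (Or.inl rfl) hxK
      · exact absurd (Or.inr (Or.inl rfl)) hxK
      · exact hx
      · have := K.mul_mem hzK hx
        rwa [← mul_assoc, show (r 2 : D) * r 2 = 1 by decide, one_mul] at this
      · exact absurd (Or.inr (Or.inr (Or.inl rfl))) hxK
      · exact absurd (Or.inr (Or.inr (Or.inr rfl))) hxK
    have hKle : K = klein i := by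
      refine (Subgroup.eq_of_le_of_card_ge (fun y hy => ?_) (by rw [hK4, card_klein])).symm
      rcases hy with rfl | rfl | rfl | rfl
      exacts [K.one_mem, hzK, hTK, K.mul_mem hzK hTK]
    have hsub : ({0, v, v'} : Set M) ⊆ {m : M | ∀ g ∈ B, ρ g m = m} := by
      intro m hm
      have hmf : ρ T m = m ∧ ρ Z m = m := by
        rcases hm with rfl | rfl | rfl
        exacts [⟨map_zero _, map_zero _⟩, ⟨hTv, hZv⟩, ⟨hTv', hZv'⟩]
      intro g hg
      rw [hBeq, hKle] at hg
      obtain ⟨y, hy, rfl⟩ := hg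
      rcases hy with rfl | rfl | rfl | rfl
      · rw [map_one, map_one, Module.End.one_apply]
      · exact hmf.2
      · exact hmf.1
      · rw [map_mul, map_mul, Module.End.mul_apply, ← hT, hmf.1]; exact hmf.2
    have h3 := Set.ncard_le_ncard hsub
    rw [← Nat.card_coe_set_eq {m : M | ∀ g ∈ B, ρ g m = m}] at h3
    change _ ≤ Nat.card {m : M // ∀ g ∈ B, ρ g m = m} at h3
    rw [hBfix, Set.ncard_insert_of_notMem (by simp [hv0.symm, hv'0.symm]),
      Set.ncard_pair hvv] at h3
    omega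

/-- Let S be a finite group with a normal elementary abelian subgroup A of order 9 that is self-centralizing (C_S(A) = A), and a dihedral subgroup X of order 8 with S = AX. Let M be a finite-dimensional module for S over the field with two elements that is faithful and irreducible. Then M has 16 elements, and X contains exactly one subgroup B of order 4 and exponent 2 whose fixed points on M form a subspace with exactly 2 elements (equivalently, M is free of rank one over the group algebra of B). -/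
theorem result {S : Type*} [Group S] [Finite S]
    (A : Subgroup S) [A.Normal] (hA : Cfsg.IsElementaryAbelian 3 A) (hA9 : Nat.card ↥A = 9)
    (hAC : Subgroup.centralizer (A : Set S) = A) (X : Subgroup S) (hX : Nonempty (↥X ≃* DihedralGroup 4)) (hAX : A ⊔ X = ⊤)
    {M : Type*} [AddCommGroup M] [Module (ZMod 2) M] [Finite M] (ρ : Representation (ZMod 2) S M)
    (hfaith : Function.Injective ρ)
    (hirr : ∀ N : Submodule (ZMod 2) M, (∀ s : S, ∀ m ∈ N, ρ s m ∈ N) → N = ⊥ ∨ N = ⊤) (hM : Nontrivial M) :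
    Nat.card M = 16 ∧
      ∃! B : Subgroup S, B ≤ X ∧ Nat.card ↥B = 4 ∧ (∀ b ∈ B, b ^ 2 = 1) ∧
        Nat.card {m : M // ∀ b ∈ B, ρ b m = m} = 2 := by
  classical
  obtain ⟨e⟩ := hX
  set ι : D →* S := X.subtype.comp e.symm.toMonoidHom with hιdef
  have hι : Function.Injective ι := X.subtype_injective.comp e.symm.injective
  have hrange : ι.range = X := by
    rw [hιdef, MonoidHom.range_comp, MonoidHom.range_eq_top.2 e.symm.surjective,
      ← MonoidHom.range_eq_map, Subgroup.range_subtype]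
  rw [← hrange]
  rw [← hrange] at hAX
  have hcomm : ∀ x ∈ A, ∀ y ∈ A, x * y = y * x := fun x hx y hy =>
    congrArg Subtype.val (hA.1.is_comm.comm (⟨x, hx⟩ : A) ⟨y, hy⟩)
  have hcube : ∀ x ∈ A, x ^ 3 = 1 := fun x hx => hA.2 x hx
  have hodd : ∀ x ∈ A, x * x = 1 → x = 1 := fun x hx h => by
    have := hcube x hx; rwa [pow_succ, pow_two, h, one_mul] at this
  have hconjA : ∀ (g : S) {x : S}, x ∈ A → g * x * g⁻¹ ∈ A := fun g x hx =>
    Subgroup.Normal.conj_mem inferInstance x hx g
  -- involutions acting trivially on `A` are trivial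
  have htriv : ∀ d : D, d * d = 1 → (∀ x ∈ A, ι d * x = x * ι d) → d = 1 := by
    intro d hd h
    have hmem : ι d ∈ A := by
      rw [← hAC, Subgroup.mem_centralizer_iff]; exact fun x hx => (h x hx).symm
    exact hι ((hodd _ hmem (by rw [← map_mul, hd, map_one])).trans (map_one ι).symm)
  set Z := ι (r 2) with hZ
  have hinvol : ∀ d : D, d * d = 1 → (ι d)⁻¹ = ι d := fun d h =>
    inv_eq_of_mul_eq_one_right (by rw [← map_mul, h, map_one])
  have hz2 : (r 2 : D) * r 2 = 1 := by decide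
  have hzinv : ∀ a ∈ A, Z * a * Z = a⁻¹ := by
    by_contra hnot
    push Not at hnot
    obtain ⟨a₀, ha₀, hne₀⟩ := hnot
    have hZA : ∀ x ∈ A, Z * x * Z ∈ A := fun x hx => by
      have := hconjA Z hx; rwa [hinvol _ hz2] at this
    have hZZ : Z * Z = 1 := by rw [← map_mul, hz2, map_one]
    let f : A →* A :=
      { toFun := fun x => ⟨(x : S) * (Z * x * Z), A.mul_mem x.2 (hZA x x.2)⟩
        map_one' := Subtype.ext (by show (1 : S) * (Z * 1 * Z) = 1; rw [one_mul, mul_one, hZZ])
        map_mul' := fun x y => Subtype.ext (by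
          show (x : S) * y * (Z * (x * y) * Z) = x * (Z * x * Z) * (y * (Z * y * Z))
          rw [mul_assoc (x : S) y, mul_assoc (x : S) (Z * x * Z), ← mul_assoc _ (y : S) (Z * y * Z),
            hcomm _ (hZA x x.2) y y.2, mul_assoc (y : S)]
          congr 2
          calc Z * ((x : S) * y) * Z = Z * x * (Z * Z) * y * Z := by rw [hZZ]; group
            _ = Z * x * Z * (Z * y * Z) := by group) }
    set L := f.range.map A.subtype with hL
    set K' := f.ker.map A.subtype with hK'
    have hLfix : ∀ x ∈ L, Z * x * Z = x := by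
      rintro _ ⟨_, ⟨x, rfl⟩, rfl⟩
      show Z * ((x : S) * (Z * x * Z)) * Z = x * (Z * x * Z)
      calc Z * ((x : S) * (Z * x * Z)) * Z = Z * x * Z * (x : S) * (Z * Z) := by group
        _ = Z * x * Z * x := by rw [hZZ, mul_one]
        _ = x * (Z * x * Z) := hcomm _ (hZA x x.2) x x.2
    have hKinv : ∀ x ∈ K', Z * x * Z = x⁻¹ := by
      rintro _ ⟨x, hx, rfl⟩
      exact eq_inv_of_mul_eq_one_right (congrArg Subtype.val hx)
    have hker_ne : f.ker ≠ ⊥ := by
      intro h
      have hinj := (MonoidHom.ker_eq_bot_iff f).1 h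
      have hsurj : Function.Surjective f := Finite.injective_iff_surjective.1 hinj
      have hz := htriv (r 2) hz2 fun x hx => by
        obtain ⟨y, hy⟩ := hsurj ⟨x, hx⟩
        have := hLfix x ⟨⟨x, hx⟩, ⟨y, hy⟩, rfl⟩
        rw [← hZ]
        conv_rhs => rw [← this, mul_assoc _ Z Z, hZZ, mul_one]
      exact absurd hz (by decide)
    have hrange_ne : f.range ≠ ⊥ := by
      intro h
      apply hne₀
      have hx : f ⟨a₀, ha₀⟩ = 1 := Subgroup.mem_bot.1 (h ▸ ⟨_, rfl⟩)
      exact eq_inv_of_mul_eq_one_right (congrArg Subtype.val hx)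
    have hcards : Nat.card f.ker * Nat.card f.range = 9 := by
      rw [← hA9, ← Subgroup.index_ker f, Subgroup.card_mul_index]
    have h3 : Nat.card f.ker = 3 ∧ Nat.card f.range = 3 := by
      have h1 := (Subgroup.one_lt_card_iff_ne_bot _).2 hker_ne
      have h2 := (Subgroup.one_lt_card_iff_ne_bot _).2 hrange_ne
      generalize Nat.card f.ker = m at h1 hcards
      generalize Nat.card f.range = k at h2 hcards
      have hm : m ≤ 4 := by nlinarith
      interval_cases m <;> omega
    haveI : Fact (Nat.Prime 3) := ⟨Nat.prime_three⟩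
    have hLc : Nat.card L = 3 := by
      rw [hL, Subgroup.card_map_of_injective A.subtype_injective]; exact h3.2
    have hKc : Nat.card K' = 3 := by
      rw [hK', Subgroup.card_map_of_injective A.subtype_injective]; exact h3.1
    -- both are invariant, so commutators act trivially
    have hdinv : ∀ (d : D) (x : S), (Z * x * Z = x → Z * (ι d * x * (ι d)⁻¹) * Z = ι d * x * (ι d)⁻¹) ∧
        (Z * x * Z = x⁻¹ → Z * (ι d * x * (ι d)⁻¹) * Z = (ι d * x * (ι d)⁻¹)⁻¹) := by
      intro d x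
      have hc : Z * ι d = ι d * Z := by rw [hZ, ← map_mul, d_center, map_mul]
      have : Z * (ι d * x * (ι d)⁻¹) * Z = ι d * (Z * x * Z) * (ι d)⁻¹ := by
        have hc' : (ι d)⁻¹ * Z = Z * (ι d)⁻¹ := by
          calc (ι d)⁻¹ * Z = (ι d)⁻¹ * (Z * ι d) * (ι d)⁻¹ := by group
            _ = Z * (ι d)⁻¹ := by rw [hc]; group
        calc Z * (ι d * x * (ι d)⁻¹) * Z = Z * ι d * x * ((ι d)⁻¹ * Z) := by group
          _ = ι d * (Z * x * Z) * (ι d)⁻¹ := by rw [hc, hc']; group
      constructor <;> intro h <;> rw [this, h]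
      group
    have hLmem : ∀ x ∈ A, Z * x * Z = x → x ∈ L := by
      intro x hx h
      refine ⟨f ⟨x⁻¹, A.inv_mem hx⟩, ⟨_, rfl⟩, ?_⟩
      show x⁻¹ * (Z * x⁻¹ * Z) = x
      have h' : Z * x⁻¹ * Z = x⁻¹ := by
        calc Z * x⁻¹ * Z = (Z⁻¹ * x * Z⁻¹)⁻¹ := by group
          _ = x⁻¹ := by rw [hinvol _ hz2, h]
      rw [h']
      exact mul_left_cancel (a := x * x) (by
        calc x * x * (x⁻¹ * x⁻¹) = 1 := by group
          _ = x * x * x := by rw [← pow_two, ← pow_succ, hcube x hx])
    have hKmem : ∀ x ∈ A, Z * x * Z = x⁻¹ → x ∈ K' := by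
      intro x hx h
      refine ⟨⟨x, hx⟩, Subtype.ext ?_, rfl⟩
      show x * (Z * x * Z) = 1
      rw [h, mul_inv_cancel]
    have hLA : L ≤ A := Subgroup.map_subtype_le _
    have hKA : K' ≤ A := Subgroup.map_subtype_le _
    have hact : ∀ (W : Subgroup S), Nat.card W = 3 → (∀ d, ∀ x ∈ W, ι d * x * (ι d)⁻¹ ∈ W) →
        ∀ d d' : D, ∀ x ∈ W, ι (d * d') * x * (ι (d * d'))⁻¹ = ι (d' * d) * x * (ι (d' * d))⁻¹ := by
      intro W hW hinv d d' x hx
      haveI : IsCyclic W := isCyclic_of_prime_card hW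
      obtain ⟨g, hg⟩ := IsCyclic.exists_generator (α := W)
      have hk : ∀ c : D, ∃ k : ℤ, ∀ y ∈ W, ι c * y * (ι c)⁻¹ = y ^ k := by
        intro c
        obtain ⟨k, hk⟩ := Subgroup.mem_zpowers_iff.1 (hg ⟨_, hinv c g g.2⟩)
        have hk' : (g : S) ^ k = ι c * g * (ι c)⁻¹ := congrArg Subtype.val hk
        refine ⟨k, fun y hy => ?_⟩
        obtain ⟨j, hj⟩ := Subgroup.mem_zpowers_iff.1 (hg ⟨y, hy⟩)
        have hj' : (g : S) ^ j = y := congrArg Subtype.val hj
        rw [← hj', ← conj_zpow, ← hk', ← zpow_mul, ← zpow_mul, mul_comm]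
      obtain ⟨k, hk1⟩ := hk d
      obtain ⟨l, hl1⟩ := hk d'
      have e1 : ∀ p q : D, ι (p * q) * x * (ι (p * q))⁻¹ = ι p * (ι q * x * (ι q)⁻¹) * (ι p)⁻¹ :=
        fun p q => by rw [map_mul]; group
      rw [e1, e1, hl1 x hx, hk1 _ (Subgroup.zpow_mem _ hx l), hk1 x hx,
        hl1 _ (Subgroup.zpow_mem _ hx k), ← zpow_mul, ← zpow_mul, mul_comm]
    have hsame : ∀ d d' : D, ∀ x ∈ A,
        ι (d * d') * x * (ι (d * d'))⁻¹ = ι (d' * d) * x * (ι (d' * d))⁻¹ := by
      intro d d' x hx
      have hxx : x ∈ L ⊔ K' := by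
        have htop : L ⊔ K' = A := by
          refine Subgroup.eq_of_le_of_card_ge (sup_le hLA hKA) ?_
          have hlt : L < L ⊔ K' := by
            refine lt_of_le_of_ne le_sup_left fun h => ?_
            have hKL : K' ≤ L := h ▸ le_sup_right
            obtain ⟨y, hy, hy1⟩ : ∃ y ∈ K', y ≠ 1 := by
              by_contra hc; push Not at hc
              rw [(Subgroup.eq_bot_iff_forall _).2 hc, Subgroup.card_bot] at hKc; omega
            refine hy1 (hodd y (hKA hy) ?_)
            have := (hLfix y (hKL hy)).symm.trans (hKinv y hy)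
            exact mul_eq_one_iff_eq_inv.2 this
          have hd := Subgroup.card_dvd_of_le (sup_le hLA hKA : L ⊔ K' ≤ A)
          have h4 : Nat.card L < Nat.card (L ⊔ K' : Subgroup S) :=
            lt_of_le_of_ne (Subgroup.card_le_of_le hlt.le) fun h =>
              hlt.ne (Subgroup.eq_of_le_of_card_ge hlt.le h.ge)
          rw [hA9] at hd ⊢
          rw [hLc] at h4
          generalize Nat.card (L ⊔ K' : Subgroup S) = n at hd h4
          have := Nat.le_of_dvd (by norm_num) hd
          interval_cases n <;> omega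
        rw [htop]; exact hx
      rw [Subgroup.sup_eq_closure] at hxx
      clear hx
      induction hxx using Subgroup.closure_induction with
      | mem y hy =>
        rcases hy with hy | hy
        · exact hact L hLc (fun c y hy => hLmem _ (hconjA _ (hLA hy)) ((hdinv c y).1 (hLfix y hy)))
            d d' y hy
        · exact hact K' hKc (fun c y hy => hKmem _ (hconjA _ (hKA hy)) ((hdinv c y).2 (hKinv y hy)))
            d d' y hy
      | one => group
      | mul y y' _ _ hy hy' =>
        rw [show ι (d * d') * (y * y') * (ι (d * d'))⁻¹ =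
          (ι (d * d') * y * (ι (d * d'))⁻¹) * (ι (d * d') * y' * (ι (d * d'))⁻¹) by group, hy, hy']
        group
      | inv y _ hy =>
        rw [show ι (d * d') * y⁻¹ * (ι (d * d'))⁻¹ = (ι (d * d') * y * (ι (d * d'))⁻¹)⁻¹ by group,
          hy]
        group
    have := htriv (r 2) hz2 fun x hx => by
      have h := hsame (sr 0) (sr 1) x hx
      have e1 : (sr 0 : D) * sr 1 = r 1 := by decide
      have e2 : (sr 1 : D) * sr 0 = (r 1)⁻¹ := by decide
      rw [e1, e2, map_inv, inv_inv] at h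
      rw [show (r 2 : D) = r 1 * r 1 by decide, map_mul]
      calc ι (r 1) * ι (r 1) * x = ι (r 1) * (ι (r 1) * x * (ι (r 1))⁻¹) * ι (r 1) := by group
        _ = ι (r 1) * ((ι (r 1))⁻¹ * x * ι (r 1)) * ι (r 1) := by rw [h]
        _ = x * (ι (r 1) * ι (r 1)) := by group
    exact absurd this (by decide)
  -- every reflection fixes a non-trivial element of `A`
  have hfix : ∀ i : ZMod 4, ∃ a ∈ A, a ≠ 1 ∧ ι (sr i) * a * ι (sr i) = a := by
    intro i
    by_contra hno
    push Not at hno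
    set T := ι (sr i)
    have hTT : T * T = 1 := by rw [← map_mul, d_sq, map_one]
    have hTA : ∀ x ∈ A, T * x * T ∈ A := fun x hx => by
      have := hconjA T hx; rwa [hinvol _ (d_sq i)] at this
    have hinvT : ∀ x ∈ A, T * x * T = x⁻¹ := by
      intro x hx
      refine eq_inv_of_mul_eq_one_right ?_
      by_contra hne
      refine hno _ (A.mul_mem hx (hTA x hx)) hne ?_
      calc T * (x * (T * x * T)) * T = T * x * T * x * (T * T) := by group
        _ = x * (T * x * T) := by rw [hTT, mul_one]; exact hcomm _ (hTA x hx) x hx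
    have := htriv (r 2 * sr i) (d_zsr i).1 fun x hx => by
      have hZZ : Z * Z = 1 := by rw [← map_mul, hz2, map_one]
      rw [map_mul, ← hZ]
      calc Z * T * x = Z * (T * x * T) * T := by
            rw [show Z * (T * x * T) * T = Z * T * x * (T * T) by group, hTT, mul_one]
        _ = Z * x⁻¹ * T := by rw [hinvT x hx]
        _ = x * Z * T := by
          have := hzinv x⁻¹ (A.inv_mem hx)
          rw [inv_inv] at this
          conv_rhs => rw [← this, mul_assoc _ Z Z, hZZ, mul_one]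
        _ = x * (Z * T) := mul_assoc _ _ _
    exact absurd this (d_zsr i).2
  obtain ⟨a, ha, ha1, hsa⟩ := hfix 0
  by_cases hne : fixM ρ a = ⊥
  swap
  · exact core A hA hA9 ι hι hAX hzinv ρ hfaith hirr 0 ha ha1 hsa hne
  set b := ι (r 1) * a * (ι (r 1))⁻¹ with hb
  have hbA : b ∈ A := hconjA _ ha
  have hb1 : b ≠ 1 := fun h => ha1 (conj_eq_one_iff.1 h)
  have hinvconj : ∀ (i : ZMod 4) (x : S),
      ι (sr i) * x⁻¹ * ι (sr i) = (ι (sr i) * x * ι (sr i))⁻¹ := fun i x => by
    rw [mul_inv_rev, mul_inv_rev, hinvol _ (d_sq i)]; group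
  have hTb : ι (sr 0) * b * ι (sr 0) = b⁻¹ := by
    have e1 : (sr 0 : D) * r 1 = r 1 * (r 2 * sr 0) := by decide
    have e2 : (r 1)⁻¹ * (sr 0 : D) = sr 0 * r 2 * (r 1)⁻¹ := by decide
    calc ι (sr 0) * (ι (r 1) * a * (ι (r 1))⁻¹) * ι (sr 0)
        = (ι (sr 0) * ι (r 1)) * a * ((ι (r 1))⁻¹ * ι (sr 0)) := by group
      _ = (ι (r 1) * (Z * ι (sr 0))) * a * (ι (sr 0) * Z * (ι (r 1))⁻¹) := by
          simp only [hZ, ← map_inv, ← map_mul, e1, e2]
      _ = ι (r 1) * (Z * (ι (sr 0) * a * ι (sr 0)) * Z) * (ι (r 1))⁻¹ := by group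
      _ = _ := by rw [hsa, hzinv a ha, hb]; group
  have hba : b ≠ a := fun h => ha1 (hodd a ha (mul_eq_one_iff_eq_inv.2 (by
    rw [h] at hTb; exact hsa.symm.trans hTb)))
  have hba' : b ≠ a⁻¹ := fun h => ha1 (hodd a ha (mul_eq_one_iff_eq_inv.2 (by
    rw [h, hinvconj, hsa, inv_inv] at hTb; exact hTb.symm)))
  have hswap : ι (sr 1) * a * ι (sr 1) = b⁻¹ := by
    calc ι (sr 1) * a * ι (sr 1) = ι (sr 1) * a * (ι (sr 1))⁻¹ := by rw [hinvol _ (d_sq 1)]
      _ = ι (sr 0) * b * (ι (sr 0))⁻¹ := by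
          rw [show (sr 1 : D) = sr 0 * r 1 by decide, map_mul, hb]; group
      _ = b⁻¹ := by rw [hinvol _ (d_sq 0)]; exact hTb
  have hswap' : ι (sr 1) * b * ι (sr 1) = a⁻¹ := by
    have hTT : ι (sr 1) * ι (sr 1) = 1 := by rw [← map_mul, d_sq, map_one]
    have h1 := congrArg (fun y => ι (sr 1) * y * ι (sr 1)) hswap
    beta_reduce at h1
    rw [hinvconj, show ι (sr 1) * (ι (sr 1) * a * ι (sr 1)) * ι (sr 1) =
      (ι (sr 1) * ι (sr 1)) * a * (ι (sr 1) * ι (sr 1)) by group, hTT, one_mul, mul_one] at h1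
    rw [h1, inv_inv]
  -- the fixed element of the next reflection
  set c := a * b⁻¹ with hc
  have hcA : c ∈ A := A.mul_mem ha (A.inv_mem hbA)
  have hc1 : c ≠ 1 := fun h => hba (mul_inv_eq_one.1 h).symm
  have hsc : ι (sr 1) * c * ι (sr 1) = c := by
    have hTT : ι (sr 1) * ι (sr 1) = 1 := by rw [← map_mul, d_sq, map_one]
    calc ι (sr 1) * (a * b⁻¹) * ι (sr 1)
        = (ι (sr 1) * a * ι (sr 1)) * (ι (sr 1) * b⁻¹ * ι (sr 1)) := by
          rw [show ι (sr 1) * a * ι (sr 1) * (ι (sr 1) * b⁻¹ * ι (sr 1)) =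
            ι (sr 1) * a * (ι (sr 1) * ι (sr 1)) * b⁻¹ * ι (sr 1) by group, hTT]
          group
      _ = a * b⁻¹ := by rw [hinvconj, hswap, hswap', inv_inv, hcomm _ (A.inv_mem hbA) a ha]
  by_cases hne' : fixM ρ c = ⊥
  swap
  · exact core A hA hA9 ι hι hAX hzinv ρ hfaith hirr 1 hcA hc1 hsc hne'
  exfalso
  have hRR : ∀ x : S, fixM ρ x = ⊥ → fixM ρ (ι (r 1) * x * (ι (r 1))⁻¹) = ⊥ := by
    intro x hx
    rw [Submodule.eq_bot_iff]
    intro m hm
    have h := map_fixM (x := (ι (r 1))⁻¹) (h := x) (by group) hm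
    rw [hx, Submodule.mem_bot] at h
    have := congrArg (ρ (ι (r 1))) h
    rwa [map_zero, ← Module.End.mul_apply, ← map_mul, mul_inv_cancel, map_one] at this
  have hRc : ι (r 1) * c * (ι (r 1))⁻¹ = a * b := by
    have hRb : ι (r 1) * b * (ι (r 1))⁻¹ = a⁻¹ := by
      have hrr : ι (r 1) * ι (r 1) = Z := by rw [hZ, ← map_mul]; rfl
      rw [← hzinv a ha, hb, show ι (r 1) * (ι (r 1) * a * (ι (r 1))⁻¹) * (ι (r 1))⁻¹ =
        (ι (r 1) * ι (r 1)) * a * (ι (r 1) * ι (r 1))⁻¹ by group, hrr, hinvol _ hz2]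
    calc ι (r 1) * (a * b⁻¹) * (ι (r 1))⁻¹
        = (ι (r 1) * a * (ι (r 1))⁻¹) * (ι (r 1) * b * (ι (r 1))⁻¹)⁻¹ := by group
      _ = a * b := by rw [hRb, ← hb, inv_inv, hcomm b hbA a ha]
  clear_value b c
  obtain ⟨m, hm⟩ := exists_ne (0 : M)
  -- a fixed-point-free element of order three
  have hsum : ∀ x ∈ A, fixM ρ x = ⊥ → ∀ y : M, ρ x y + ρ x⁻¹ y = y := by
    intro x hx hxf y
    have h : y + ρ x y + ρ x (ρ x y) ∈ fixM ρ x := by
      rw [mem_fixM, map_add, map_add, ← Module.End.mul_apply (ρ x), ← Module.End.mul_apply (ρ x),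
        ← map_mul, ← map_mul, ← mul_assoc, ← pow_two, ← pow_succ, hcube x hx, map_one,
        Module.End.one_apply]
      simp only [pow_two, map_mul, Module.End.mul_apply]
      abel
    rw [hxf, Submodule.mem_bot] at h
    have : x⁻¹ = x * x := inv_eq_of_mul_eq_one_right (by
      rw [← mul_assoc, ← pow_two, ← pow_succ, hcube x hx])
    rw [this, map_mul, Module.End.mul_apply]
    calc ρ x y + ρ x (ρ x y) = y + (y + ρ x y + ρ x (ρ x y)) := by
          rw [← add_assoc, ← add_assoc, add_self_two, zero_add]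
      _ = y := by rw [h, add_zero]
  have h1 := hsum a ha hne
  have h2 := hsum b hbA (hb ▸ hRR a hne)
  have h3 := hsum (a * b) (A.mul_mem ha hbA) (hRc ▸ hRR c hne')
  have h4 := hsum c hcA hne'
  apply hm
  have key : ρ a (ρ b m + ρ b⁻¹ m) + ρ a⁻¹ (ρ b m + ρ b⁻¹ m) = m := by rw [h2 m, h1 m]
  have e1 : a⁻¹ * b⁻¹ = (a * b)⁻¹ := by
    rw [mul_inv_rev, hcomm _ (A.inv_mem ha) _ (A.inv_mem hbA)]
  have e2 : a⁻¹ * b = c⁻¹ := by
    rw [hc, mul_inv_rev, inv_inv, hcomm _ (A.inv_mem ha) _ hbA]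
  calc m = ρ a (ρ b m + ρ b⁻¹ m) + ρ a⁻¹ (ρ b m + ρ b⁻¹ m) := key.symm
    _ = (ρ (a * b) m + ρ (a * b)⁻¹ m) + (ρ c m + ρ c⁻¹ m) := by
        rw [map_add, map_add, ← e1, ← e2, hc]
        simp only [map_mul, Module.End.mul_apply]
        abel
    _ = 0 := by rw [h3 m, h4 m, add_self_two]

end Cfsg.Agent.S4407
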