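import Cfsg.Statements.S4408
import Cfsg.Agent.S1349
import Cfsg.Agent.Lib.ComponentsFitting

set_option autoImplicit false
open Cfsg

namespace Cfsg.Agent.S4408


/-- Let S be a finite solvable group whose Fitting subgroup F(S) has odd order, and let I be an elementary abelian 2-subgroup of S of order 2ⁿ with n ≥ 1. Then F(S) contains subgroups A₁, …, Aₙ of prime order, each normalized by I, pairwise commuting and generating a subgroup A of order |A₁|⋯|Aₙ| (their internal direct product), such that no non-identity element of I centralizes A. -/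
theorem result {S : Type*} [Group S] [Finite S]
    [Group.IsSolvable S] (hF : Odd (Nat.card ↥(Cfsg.fittingSubgroup S)))
    (I : Subgroup S) (hI : Cfsg.IsElementaryAbelian 2 I) (n : ℕ) (hn : 1 ≤ n) (hIn : Nat.card ↥I = 2 ^ n) :
    ∃ f : Fin n → Subgroup S, (∀ i, (Nat.card ↥(f i)).Prime) ∧ (∀ i, f i ≤ Cfsg.fittingSubgroup S) ∧
      (∀ i, I ≤ Subgroup.normalizer ((f i) : Set S)) ∧ (∀ i j, i ≠ j → ∀ a ∈ f i, ∀ b ∈ f j, a * b = b * a) ∧
      Nat.card ↥(⨆ i, f i) = ∏ i, Nat.card ↥(f i) ∧ I ⊓ Subgroup.centralizer ((⨆ i, f i : Subgroup S) : Set S) = ⊥ := by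
  classical
  set F := Cfsg.fittingSubgroup S with hFdef
  have hFn : F.Normal := inferInstance
  have hnorm : I ≤ Subgroup.normalizer (F : Set S) := le_top.trans (Subgroup.normalizer_eq_top F).ge
  have hfaith : I ⊓ Subgroup.centralizer (F : Set S) = ⊥ := by
    refine eq_bot_iff.mpr fun b hb => Subgroup.mem_bot.mpr ?_
    have h1 : orderOf b ∣ Nat.card F :=
      Subgroup.orderOf_dvd_natCard F (Cfsg.Agent.ComponentsFitting.centralizer_fitting_le_of_solvable hb.2)
    exact orderOf_eq_one_iff.mp (Nat.eq_one_of_dvd_coprimes (Nat.coprime_two_left.mpr hF)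
      (orderOf_dvd_of_pow_eq_one (hI.2 b hb.1)) h1)
  obtain ⟨E, hEF, hEc, hIE, hEfaith⟩ :=
    S1349.exists_faithful_abelian F I inferInstance hF hI hnorm hfaith
  have hEodd : Odd (Nat.card E) := hF.of_dvd_nat (Subgroup.card_dvd_of_le hEF)
  obtain ⟨a, x, hax, hcomm, -⟩ := S1349.exists_pairs I E hI hEc hEodd hIE hEfaith n I le_rfl hIn
  have hp : ∀ i, ∃ y ∈ Subgroup.zpowers (x i), (orderOf y).Prime := by
    intro i
    have h1 : orderOf (x i) ≠ 1 := fun h => (hax i).2.2.2.1 (orderOf_eq_one_iff.mp h)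
    obtain ⟨p, hp, k, hk⟩ := Nat.exists_prime_and_dvd h1
    refine ⟨x i ^ k, pow_mem (Subgroup.mem_zpowers _) _, ?_⟩
    have hk0 : k ≠ 0 := fun h => by
      rw [h, mul_zero] at hk
      exact (orderOf_pos (x i)).ne' hk
    rwa [orderOf_pow_of_dvd hk0 ⟨p, by rw [hk, mul_comm]⟩, hk, Nat.mul_div_cancel _ (Nat.pos_of_ne_zero hk0)]
  choose y hy hyp using hp
  have hyE : ∀ i, y i ∈ E := fun i => Subgroup.zpowers_le.mpr (hax i).2.2.1 (hy i)
  have heig : ∀ i, ∀ b ∈ I, S1349.Eig b (y i) := by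
    intro i b hb
    obtain ⟨k, hk⟩ := Subgroup.mem_zpowers_iff.mp (hy i)
    rw [← hk]
    rcases (hax i).2.2.2.2.2 b hb with h | h
    · exact Or.inl (by rw [← conj_zpow, h])
    · exact Or.inr (by rw [← conj_zpow, h, inv_zpow])
  have hinv : ∀ i, a i * y i * (a i)⁻¹ = (y i)⁻¹ := by
    intro i
    obtain ⟨k, hk⟩ := Subgroup.mem_zpowers_iff.mp (hy i)
    rw [← hk, ← conj_zpow, (hax i).2.2.2.2.1, inv_zpow]
  have hcy : ∀ i j, i ≠ j → a i * y j * (a i)⁻¹ = y j := by
    intro i j hij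
    obtain ⟨k, hk⟩ := Subgroup.mem_zpowers_iff.mp (hy j)
    rw [← hk, ← conj_zpow, (hcomm i j hij).eq, mul_inv_cancel_right]
  have hne : ∀ i, (y i)⁻¹ ≠ y i := by
    intro i h
    have h2 : y i ^ 2 = 1 := by
      rw [sq]; nth_rw 1 [← h]; exact inv_mul_cancel _
    have := Nat.eq_one_of_dvd_coprimes (Nat.coprime_two_left.mpr hEodd) (orderOf_dvd_of_pow_eq_one h2)
      (Subgroup.orderOf_dvd_natCard _ (hyE i))
    exact (hyp i).ne_one this
  let f : Fin n → Subgroup S := fun i => Subgroup.zpowers (y i)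
  have hfE : ∀ i, f i ≤ E := fun i => Subgroup.zpowers_le.mpr (hyE i)
  have hfc : ∀ i j, i ≠ j → ∀ u ∈ f i, ∀ v ∈ f j, u * v = v * u := fun i j _ u hu v hv =>
    congrArg Subtype.val (hEc.is_comm.comm (⟨u, hfE i hu⟩ : E) ⟨v, hfE j hv⟩)
  refine ⟨f, fun i => by rw [Nat.card_zpowers]; exact hyp i, fun i => (hfE i).trans hEF, ?_, hfc, ?_, ?_⟩
  · intro i
    have hle : ∀ b ∈ I, ∀ v ∈ f i, b * v * b⁻¹ ∈ f i := by
      intro b hb v hv
      obtain ⟨k, rfl⟩ := Subgroup.mem_zpowers_iff.mp hv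
      rw [← conj_zpow]
      rcases heig i b hb with h | h <;> rw [h]
      · exact zpow_mem (Subgroup.mem_zpowers _) k
      · exact zpow_mem (inv_mem (Subgroup.mem_zpowers _)) k
    intro b hb
    rw [Subgroup.mem_normalizer_iff]
    refine fun v => ⟨fun hv => hle b hb v hv, fun hv => ?_⟩
    have := hle b⁻¹ (inv_mem hb) _ hv
    rwa [inv_inv, show b⁻¹ * (b * v * b⁻¹) * b = v by group] at this
  · have hind : iSupIndep f := by
      intro i
      rw [disjoint_iff_inf_le]
      rintro v ⟨hv1, hv2⟩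
      have hle : (⨆ (j) (_ : j ≠ i), f j) ≤ Subgroup.centralizer ({a i} : Set S) := iSup₂_le fun j hj =>
        Subgroup.zpowers_le.mpr (Subgroup.mem_centralizer_singleton_iff.mpr
          (mul_inv_eq_iff_eq_mul.mp (hcy i j hj.symm)).symm)
      have h1 : a i * v * (a i)⁻¹ = v := by
        rw [← (Subgroup.mem_centralizer_singleton_iff.mp (hle hv2)), mul_inv_cancel_right]
      obtain ⟨k, rfl⟩ := Subgroup.mem_zpowers_iff.mp hv1
      rw [← conj_zpow, hinv, inv_zpow] at h1
      have h2 : (y i ^ k) ^ 2 = 1 := by rw [sq]; nth_rw 1 [← h1]; exact inv_mul_cancel _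
      refine Subgroup.mem_bot.mpr (orderOf_eq_one_iff.mp ?_)
      exact Nat.eq_one_of_dvd_coprimes (Nat.coprime_two_left.mpr hEodd) (orderOf_dvd_of_pow_eq_one h2)
        (Subgroup.orderOf_dvd_natCard _ (zpow_mem (hyE i) k))
    have hcm : Pairwise fun i j => ∀ u v : S, u ∈ f i → v ∈ f j → Commute u v :=
      fun i j hij u v hu hv => hfc i j hij u hu v hv
    rw [← Subgroup.noncommPiCoprod_range (hcomm := hcm), ← Nat.card_pi]
    exact (Nat.card_congr (MonoidHom.ofInjective
      (Subgroup.injective_noncommPiCoprod_of_iSupIndep (hcomm := hcm) hind)).toEquiv).symm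
  · let Ψ : ↥I → (Fin n → Bool) := fun b i => decide ((b : S) * y i * (b : S)⁻¹ = y i)
    have hsurj : Function.Surjective Ψ := by
      have key : ∀ s : Finset (Fin n), ∃ c ∈ I, ∀ i, c * y i * c⁻¹ = if i ∈ s then (y i)⁻¹ else y i := by
        intro s
        induction s using Finset.induction_on with
        | empty => exact ⟨1, one_mem I, fun i => by simp⟩
        | @insert j s hj ih =>
          obtain ⟨c, hc, hci⟩ := ih
          refine ⟨c * a j, mul_mem hc (hax j).1, fun i => ?_⟩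
          rw [show c * a j * y i * (c * a j)⁻¹ = c * (a j * y i * (a j)⁻¹) * c⁻¹ by group]
          rcases eq_or_ne j i with rfl | hji
          · rw [hinv, if_pos (Finset.mem_insert_self _ _),
              show c * (y j)⁻¹ * c⁻¹ = (c * y j * c⁻¹)⁻¹ by group, hci, if_neg hj]
          · rw [hcy j i hji, hci]
            simp [hji.symm]
      intro e
      obtain ⟨c, hc, hci⟩ := key (Finset.univ.filter fun i => e i = false)
      refine ⟨⟨c, hc⟩, funext fun i => ?_⟩
      simp only [Ψ, hci]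
      cases h : e i <;> simp [h, hne i]
    have hbij := (Nat.bijective_iff_surjective_and_card Ψ).mpr ⟨hsurj, by simp [hIn]⟩
    refine eq_bot_iff.mpr fun b hb => Subgroup.mem_bot.mpr ?_
    have : (⟨b, hb.1⟩ : ↥I) = 1 := hbij.1 (funext fun i => by
      have hc := hb.2 (y i) (le_iSup f i (Subgroup.mem_zpowers _))
      simp only [Ψ, OneMemClass.coe_one, one_mul, inv_one, mul_one, decide_true, decide_eq_true_eq]
      exact mul_inv_eq_iff_eq_mul.mpr hc.symm)
    exact congrArg Subtype.val this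

end Cfsg.Agent.S4408
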