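import Cfsg.Statements.S4409
import Cfsg.Agent.Lib.NoAbelianEight69
import Cfsg.Agent.Lib.HallTheorem
import Cfsg.Agent.Lib.HallSolvable
import Cfsg.Agent.Lib.HallCore
import Cfsg.Agent.Lib.LocGroup56
-- import your own Cfsg.Agent.* helpers here

set_option autoImplicit false
open Cfsg

namespace Cfsg.Agent.S4409

open Subgroup NoAbelianEight69
open scoped commutatorElement

variable {S : Type*} [Group S] [Finite S]

theorem bad_down {N : Subgroup S} {Y : Subgroup ↥N} (h : Bad Y) : Bad (Y.map N.subtype) := by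
  obtain ⟨A, hA, hAc, hAn, h8⟩ := h
  refine ⟨A.map N.subtype, Subgroup.map_mono hA, ?_,
    fun hc => hAn ((A.equivMapOfInjective N.subtype N.subtype_injective).isCyclic.2 hc),
    by rw [Subgroup.card_map_of_injective N.subtype_injective, h8]⟩
  refine ⟨⟨?_⟩⟩
  rintro ⟨x, hx⟩ ⟨y, hy⟩
  obtain ⟨a, ha, rfl⟩ := hx
  obtain ⟨b, hb, rfl⟩ := hy
  apply Subtype.ext
  show (a : S) * b = b * a
  exact congrArg Subtype.val (congrArg Subtype.val (hAc.is_comm.comm ⟨a, ha⟩ ⟨b, hb⟩))

theorem bad_top_down {N : Subgroup S} (h : Bad (⊤ : Subgroup ↥N)) : Bad N :=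
  Bad.mono (Subgroup.map_subtype_le _) (bad_down h)

/-- The automorphisms of `N` induced by `E`. -/
theorem exists_aut (N : Subgroup S) [N.Normal] (hC : centralizer (N : Set S) ≤ N) (hN2 : IsPGroup 2 N)
    (E : Subgroup S) (hE : Odd (Nat.card E)) (hne : E ≠ ⊥) :
    ∃ K : Subgroup (MulAut ↥N), Odd (Nat.card K) ∧ K ≠ ⊥ ∧ K = E.map MulAut.conjNormal := by
  refine ⟨E.map (MulAut.conjNormal (H := N)), hE.of_dvd_nat (Subgroup.card_map_dvd E (MulAut.conjNormal (H := N))), fun hb => hne ?_, rfl⟩
  rw [Subgroup.eq_bot_iff_forall]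
  intro g hg
  have h1 : MulAut.conjNormal (H := N) g = 1 :=
    Subgroup.mem_bot.1 (hb ▸ Subgroup.mem_map_of_mem _ hg)
  have hgN : g ∈ N := hC (mem_centralizer_iff.2 fun n hn => by
    have h2 := congrArg Subtype.val (MulEquiv.congr_fun h1 ⟨n, hn⟩)
    rw [MulAut.conjNormal_apply, MulAut.one_apply] at h2
    exact ((mul_inv_eq_iff_eq_mul.1 h2).symm : n * g = g * n))
  obtain ⟨k, hk⟩ := IsPGroup.iff_orderOf.1 hN2 ⟨g, hgN⟩
  rw [Subgroup.orderOf_mk] at hk
  have hodd := hE.of_dvd_nat (Subgroup.orderOf_dvd_natCard E hg)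
  rw [hk] at hodd
  rcases k with _ | k
  · exact orderOf_eq_one_iff.1 (by rw [hk, pow_zero])
  · exact absurd hodd (by rw [Nat.not_odd_iff_even, pow_succ]; exact even_two.mul_left _)

/-- The shapes allowed in the conclusion, for a normal subgroup. -/
theorem small_case (hS : Group.IsSolvable S) (hO : Cfsg.pPrimeCore 2 S = ⊥) (O : Subgroup S) [O.Normal]
    (hO2 : IsPGroup 2 O) (hCO : centralizer (O : Set S) ≤ O) (hb : ¬ Bad O) (X : Sylow 2 S)
    (hOX : O ≤ X) (A : Subgroup S) (hAX : A ≤ X) (hAc : IsMulCommutative A) (hAn : ¬ IsCyclic A)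
    (hA8 : Nat.card A = 8) (E : Subgroup S) (hE : Odd (Nat.card E)) (hEne : E ≠ ⊥) : False := by
  classical
  haveI : Fact (Nat.Prime 2) := ⟨Nat.prime_two⟩
  obtain ⟨K, hK, hKne, -⟩ := exists_aut O hCO hO2 E hE hEne
  have hnb : ∀ Y : Subgroup ↥O, ¬ Bad Y := fun Y h => hb (Bad.mono (Subgroup.map_subtype_le _) (bad_down h))
  have hmin : Minimal K := fun Y _ _ _ => hnb Y
  have hAcomm : ∀ a ∈ A, ∀ b ∈ A, a * b = b * a := fun a ha b hb =>
    congrArg Subtype.val (hAc.is_comm.comm ⟨a, ha⟩ ⟨b, hb⟩)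
  have hA4 : ∀ a ∈ A, a ^ 4 = 1 := fun a ha => by
    have h1 : orderOf a ∣ 2 ^ 3 := (Subgroup.orderOf_dvd_natCard A ha).trans hA8.dvd
    obtain ⟨i, hi, e⟩ := (Nat.dvd_prime_pow Nat.prime_two).1 h1
    rcases (show i ≤ 2 ∨ i = 3 by omega) with h | rfl
    · exact orderOf_dvd_iff_pow_eq_one.1 (e ▸ (pow_dvd_pow 2 h : 2 ^ i ∣ 2 ^ 2))
    · exfalso
      refine hAn (isCyclic_of_orderOf_eq_card (⟨a, ha⟩ : A) ?_)
      rw [Subgroup.orderOf_mk, e, hA8]; rfl
  rcases structure_theorem hO2 hK hKne hmin with hab | ⟨-, h⟩ | ⟨-, z, hz, hzo, hcomm, hsq, hcen⟩ | ⟨-, h⟩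
  · -- abelian: cyclic is impossible, so it is a four group
    have hcomO : ∀ a ∈ O, ∀ b ∈ O, a * b = b * a := fun a ha b hb =>
      congrArg Subtype.val (hab.is_comm.comm ⟨a, ha⟩ ⟨b, hb⟩)
    have hnc : ¬ IsCyclic O := fun hc => hKne ((Subgroup.eq_bot_iff_forall K).2 fun a ha => by
      ext x
      exact congrArg Subtype.val (fix_cyclic hO2 (odd_orderOf hK ha) (C := ⊤)
        (Subgroup.topEquiv.isCyclic.2 hc) (fun c _ => Subgroup.mem_top _) x (Subgroup.mem_top x)))
    obtain ⟨V, hVO, hVe, hV4⟩ : ∃ V : Subgroup S, V ≤ O ∧ (∀ v ∈ V, v ^ 2 = 1) ∧ Nat.card V = 4 := by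
      by_contra hno
      push Not at hno
      apply hnc
      by_cases hO1 : O = ⊥
      · subst hO1; exact (Subgroup.isCyclic_iff_exists_zpowers_eq_top _).2 ⟨1, by simp⟩
      obtain ⟨z, hzO, hz⟩ := PGroupsBasic.exists_orderOf_eq_of_ne_bot hO2 hO1
      refine PGroupsCyclic.isCyclic_of_comm hO2 (fun a b => hab.is_comm.comm a b) (z := ⟨z, hzO⟩)
        (fun g hg => ?_) (by rw [Subgroup.orderOf_mk, hz])
      by_contra hgz
      have hz2 : z ^ 2 = 1 := hz ▸ pow_orderOf_eq_one z
      have hg2 : (g : S) ^ 2 = 1 := congrArg Subtype.val hg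
      obtain ⟨V, hzV, hgV, hV, hform⟩ := exists_double (zpowers z) (y := (g : S)) (fun h => hgz (by
          obtain ⟨i, hi⟩ := mem_zpowers_iff.1 h
          exact mem_zpowers_iff.2 ⟨i, Subtype.ext (by simpa using hi)⟩))
        (by rw [hg2]; exact one_mem _) (fun b hb => hcomO b (zpowers_le.2 hzO hb) g g.2)
      rw [Nat.card_zpowers, hz] at hV
      refine hno V (fun v hv => ?_) (fun v hv => ?_) hV
      · obtain ⟨b, hb, rfl | rfl⟩ := hform v hv
        · exact zpowers_le.2 hzO hb
        · exact O.mul_mem (zpowers_le.2 hzO hb) g.2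
      · obtain ⟨b, hb, rfl | rfl⟩ := hform v hv <;>
          rcases mem_zpowers_two hz2 hb with rfl | rfl
        · exact one_pow 2
        · exact hz2
        · rw [one_mul]; exact hg2
        · rw [Commute.mul_pow (hcomO b hzO g g.2), hz2, hg2, one_mul]
    have hVc : ∀ a ∈ V, ∀ b ∈ V, a * b = b * a := fun a ha b hb => hcomO a (hVO ha) b (hVO hb)
    have hV4' : ∀ v ∈ V, v ^ 4 = 1 := fun v hv => by rw [pow_mul v 2 2, hVe v hv, one_pow]
    have hOV : O = V := by
      refine le_antisymm ?_ hVO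
      by_contra hle
      obtain ⟨x, hx, hxV⟩ := SetLike.not_le_iff_exists.1 hle
      obtain ⟨⟨y, hyO⟩, -, hyV, hy2⟩ := exists_outside hO2 (B := V.subgroupOf O) (C := ⊤)
        (fun h => hxV (h (mem_top (⟨x, hx⟩ : O))))
      exact hb (bad_of_extend hVO hV4 hVc hV4' hyO hyV hy2 (by rw [pow_mul y 2 2]; exact hVe _ hy2)
        (fun b hb => hcomO b (hVO hb) y hyO))
    subst hOV
    have hmv : ∀ x : ↥(X : Subgroup S), ∀ v ∈ O, (x : S) * v * (x : S)⁻¹ ∈ O := fun x v hv =>
      ‹O.Normal›.conj_mem v hv x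
    let ι := {v : S // v ∈ O ∧ v ≠ 1}
    let σ : ↥(X : Subgroup S) → Equiv.Perm ι := fun x =>
      { toFun := fun v => ⟨(x : S) * v.1 * (x : S)⁻¹, hmv x _ v.2.1, fun e => v.2.2 (conj_eq_one_iff.1 e)⟩
        invFun := fun v => ⟨(x : S)⁻¹ * v.1 * (x : S), by simpa using hmv x⁻¹ _ v.2.1,
          fun e => v.2.2 (by
            have : (x : S)⁻¹ * v.1 * ((x : S)⁻¹)⁻¹ = 1 := by rw [inv_inv]; exact e
            exact conj_eq_one_iff.1 this)⟩
        left_inv := fun v => Subtype.ext (by simp [mul_assoc])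
        right_inv := fun v => Subtype.ext (by simp [mul_assoc]) }
    let ψ : ↥(X : Subgroup S) →* Equiv.Perm ι := MonoidHom.mk' σ fun a b => by
      ext v; simp [σ, mul_assoc]
    have hker : ψ.ker.map (X : Subgroup S).subtype ≤ O := by
      rintro _ ⟨x, hx, rfl⟩
      refine hCO (mem_centralizer_iff.2 fun v hv => ?_)
      by_cases hv1 : v = 1
      · simp [hv1]
      have h1 := congrArg Subtype.val (Equiv.Perm.congr_fun (MonoidHom.mem_ker.1 hx) ⟨v, hv, hv1⟩)
      have h2 : (x : S) * v * (x : S)⁻¹ = v := h1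
      exact (mul_inv_eq_iff_eq_mul.1 h2).symm
    have hι : Nat.card ι = 3 := by
      have h1 : Nat.card O = Nat.card ι + 1 := by
        haveI : Fintype O := Fintype.ofFinite _
        rw [← Nat.card_congr (Equiv.subtypeSubtypeEquivSubtypeInter (fun v : S => v ∈ O) (fun v => v ≠ 1))]
        have : Nat.card {v : O // (v : S) ≠ 1} = Nat.card O - 1 := by
          rw [Nat.card_eq_fintype_card, Nat.card_eq_fintype_card]
          simp [Fintype.card_subtype_compl, show ∀ v : O, ((v : S) = 1 ↔ v = 1) from fun v => by simp]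
        rw [this]
        have := Nat.card_pos (α := O)
        omega
      omega
    have hrange : Nat.card ψ.range ≤ 2 := by
      obtain ⟨i, hi⟩ := (X.isPGroup'.of_surjective ψ.rangeRestrict ψ.rangeRestrict_surjective).exists_card_eq
      have h6 : Nat.card ψ.range ∣ 6 := by
        refine (Subgroup.card_subgroup_dvd_card _).trans ?_
        rw [Nat.card_perm, hι]; rfl
      rw [hi] at h6 ⊢
      rcases i with _ | _ | i
      · norm_num
      · norm_num
      · exact absurd (((pow_dvd_pow 2 (show 2 ≤ i + 1 + 1 by omega))).trans h6) (by norm_num)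
    have hX8 : Nat.card (X : Subgroup S) ≤ 8 := by
      rw [← ψ.ker.card_mul_index, Subgroup.index_ker]
      refine (Nat.mul_le_mul ?_ hrange).trans_eq (show 4 * 2 = 8 from rfl)
      rw [← hV4, ← Subgroup.card_map_of_injective (X : Subgroup S).subtype_injective]
      exact Subgroup.card_le_of_le hker
    have hXA : A = (X : Subgroup S) := Subgroup.eq_of_le_of_card_ge hAX (by rw [hA8]; exact hX8)
    have hsub : A ≤ O := fun a ha => hCO (mem_centralizer_iff.2 fun v hv =>
      hAcomm v (hXA ▸ hOX hv) a ha)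
    have := Subgroup.card_le_of_le hsub
    omega
  · exact hnb _ h
  swap
  · exact hnb _ h
  -- the quaternion group
  have hz2' : z ^ 2 = 1 := hzo ▸ pow_orderOf_eq_one z
  obtain ⟨u, v, huv⟩ : ∃ u v : ↥O, ⁅u, v⁆ ≠ 1 := by
    by_contra hno
    push Not at hno
    have hle : (⊤ : Subgroup ↥O) ≤ zpowers z := fun g _ => hcen (mem_center_iff.2 fun h =>
      commutatorElement_eq_one_iff_mul_comm.1 (hno h g))
    refine hKne ((Subgroup.eq_bot_iff_forall K).2 fun a ha => ?_)
    ext x
    exact congrArg Subtype.val (fix_cyclic hO2 (odd_orderOf hK ha) (C := zpowers z)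
      ((Subgroup.isCyclic_iff_exists_zpowers_eq_top _).2 ⟨z, rfl⟩) (fun c _ => hle (mem_top _)) x (hle (mem_top x)))
  have hne : ¬ (⊤ : Subgroup ↥O) ≤ zpowers z := fun hle => huv (commutatorElement_eq_one_iff_mul_comm.2
    (mem_center_iff.1 (zpowers_le.2 hz (hle (mem_top v))) u))
  have hcen' : ∀ y ∈ (⊤ : Subgroup ↥O), (∀ w ∈ (⊤ : Subgroup ↥O), w * y = y * w) → y ∈ zpowers z :=
    fun y _ h => hcen (mem_center_iff.2 fun w => h w (mem_top w))
  have h8 := card_eq_eight hO2 hz hzo (mem_top z) (fun a _ b _ => hcomm a b) (fun a _ => hsq a) hcen' hne (hnb ⊤)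
  haveI : Nontrivial K := (Subgroup.nontrivial_iff_ne_bot K).2 hKne
  obtain ⟨⟨a, haK⟩, ha1⟩ := exists_ne (1 : K)
  have hmove : ∃ y ∈ (⊤ : Subgroup ↥O), a y ≠ y := by
    by_contra hno
    push Not at hno
    exact ha1 (Subtype.ext (MulEquiv.ext fun x => hno x (mem_top x)))
  have haz : a z = z := by
    refine (mem_zpowers_two hz2' (hcen (char_inv (center ↥O) a z hz))).resolve_left fun e => ?_
    have : z = 1 := a.injective (e.trans (map_one a).symm)
    rw [this, orderOf_one] at hzo; norm_num at hzo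
  have hquad := quaternion_squares hz hzo (mem_top z) h8 (fun a _ b _ => hcomm a b) (fun a _ => hsq a) hcen'
    (odd_orderOf hK haK) (fun y _ => mem_top _) haz hmove
  -- the cosets of the centre
  set Z : Subgroup ↥O := zpowers z with hZ
  haveI hZn : Z.Normal := PGroupsBasic.normal_of_le_center (zpowers_le.2 hz)
  have hO8 : Nat.card O = 8 := by rw [← Subgroup.card_top (G := ↥O)]; exact h8
  have hmemz : ∀ y : ↥O, y ∉ Z → y ^ 2 = z := fun y hy => hquad y (mem_top y) hy
  -- an element of order four fixed up to inversion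
  have hconjz : ∀ g : S, MulAut.conjNormal (H := O) g z = z := fun g => by
    refine (mem_zpowers_two hz2' (hcen (char_inv (center ↥O) _ z hz))).resolve_left fun e => ?_
    have : z = 1 := (MulAut.conjNormal (H := O) g).injective (e.trans (map_one _).symm)
    rw [this, orderOf_one] at hzo; norm_num at hzo
  have hnotZ : ∀ (g : S) (y : ↥O), y ∉ Z → MulAut.conjNormal g y ∉ Z := fun g y hy h => hy (by
    rcases mem_zpowers_two hz2' h with e | e
    · rw [show y = 1 from (MulAut.conjNormal (H := O) g).injective (e.trans (map_one _).symm)]; exact one_mem _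
    · rw [show y = z from (MulAut.conjNormal (H := O) g).injective (e.trans (hconjz g).symm)]; exact mem_zpowers z)
  let φ : ↥A → (↥O ⧸ Z) → (↥O ⧸ Z) := fun a =>
    Quotient.map' (fun y => MulAut.conjNormal (a : S) y) fun y y' h => by
      rw [QuotientGroup.leftRel_apply] at h ⊢
      rw [← map_inv, ← map_mul]
      rcases mem_zpowers_two hz2' h with e | e <;> rw [e]
      · rw [map_one]; exact one_mem _
      · rw [hconjz]; exact mem_zpowers z
  letI : MulAction ↥A (↥O ⧸ Z) :=
    { smul := φ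
      one_smul := fun q => by
        induction q using QuotientGroup.induction_on with | H y =>
        show ((MulAut.conjNormal ((1 : A) : S) y : ↥O) : ↥O ⧸ Z) = _
        simp
      mul_smul := fun a b q => by
        induction q using QuotientGroup.induction_on with | H y =>
        show ((MulAut.conjNormal ((a * b : A) : S) y : ↥O) : ↥O ⧸ Z) = ((MulAut.conjNormal (a : S) (MulAut.conjNormal (b : S) y) : ↥O) : ↥O ⧸ Z)
        rw [Subgroup.coe_mul, map_mul]; rfl }
  have hAp : IsPGroup 2 A := IsPGroup.of_card (n := 3) hA8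
  have hq4 : Nat.card (↥O ⧸ Z) = 4 := by
    have := Z.card_mul_index
    rw [hO8, show Nat.card Z = 2 from (Nat.card_zpowers z).trans hzo, Subgroup.index_eq_card] at this
    omega
  obtain ⟨q, hq, hq1⟩ : ∃ q ∈ MulAction.fixedPoints A (↥O ⧸ Z), (1 : ↥O ⧸ Z) ≠ q :=
    hAp.exists_fixed_point_of_prime_dvd_card_of_fixed_point (↥O ⧸ Z) (by rw [hq4]; norm_num)
      (a := 1) fun g => by
        show ((MulAut.conjNormal (g : S) (1 : ↥O) : ↥O) : ↥O ⧸ Z) = _
        rw [map_one]; rfl
  obtain ⟨i, rfl⟩ := QuotientGroup.mk_surjective q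
  have hiZ : i ∉ Z := fun h => hq1 ((QuotientGroup.eq_one_iff i).2 h).symm
  have hi2 := hmemz i hiZ
  have hio : orderOf i = 4 := by
    refine orderOf_eq_prime_pow (p := 2) (n := 1) ?_ ?_
    · rw [pow_one, hi2]; intro e; rw [e, orderOf_one] at hzo; norm_num at hzo
    · rw [show 2 ^ (1 + 1) = 2 * 2 from rfl, pow_mul, hi2, hz2']
  -- outside `⟨i⟩` everything anticommutes with `i`
  have hanti : ∀ j : ↥O, j ∉ zpowers i → ⁅j, i⁆ = z := fun j hj => by
    refine (mem_zpowers_two hz2' (hcomm j i)).resolve_left fun e => ?_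
    have hc := commutatorElement_eq_one_iff_mul_comm.1 e
    have hzi : Z ≤ zpowers i := by rw [hZ, zpowers_le, ← hi2]; exact pow_mem (mem_zpowers i) 2
    exact hnb ⊤ (bad_of_four (mem_top i) hio (mem_top j) hj (hzi (hsq j))
      (by rw [pow_mul j 2 2, hmemz j (fun h => hj (hzi h)), hz2']) hc.symm)
  -- elements of `A` centralising `i` lie in `O`
  have hfix : ∀ a ∈ A, MulAut.conjNormal (H := O) a i = i → a ∈ O := by
    intro a ha hai
    obtain ⟨j, hj⟩ : ∃ j : ↥O, j ∉ zpowers i := by
      by_contra hno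
      push Not at hno
      have := Subgroup.card_le_of_le (show (⊤ : Subgroup ↥O) ≤ zpowers i from fun x _ => hno x)
      rw [h8, Nat.card_zpowers, hio] at this
      omega
    have hidx : (zpowers i).index = 2 := by
      have := (zpowers i).card_mul_index
      rw [hO8, Nat.card_zpowers, hio] at this
      omega
    have hall : ∀ x : ↥O, ∃ m : ℤ, x = i ^ m ∨ x = j * i ^ m := fun x => by
      by_cases hx : x ∈ zpowers i
      · obtain ⟨m, hm⟩ := mem_zpowers_iff.1 hx
        exact ⟨m, Or.inl hm.symm⟩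
      · have := (Subgroup.mul_mem_iff_of_index_two hidx (a := j⁻¹) (b := x)).2
          (iff_of_false (fun h => hj (by simpa using (zpowers i).inv_mem h)) hx)
        obtain ⟨m, hm⟩ := mem_zpowers_iff.1 this
        exact ⟨m, Or.inr (by rw [hm, mul_inv_cancel_left])⟩
    set c := MulAut.conjNormal (H := O) a with hcdef
    have hci : ∀ m : ℤ, c (i ^ m) = i ^ m := fun m => by rw [map_zpow, hai]
    obtain ⟨m, hm | hm⟩ := hall (c j)
    · exact absurd (mem_zpowers_iff.2 ⟨m, (c.injective (hm.trans (hci m).symm)).symm⟩) hj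
    -- inner elements
    have inner : ∀ b : S, MulAut.conjNormal (H := O) b i = i →
        ∀ w : ↥O, w * i = i * w → MulAut.conjNormal (H := O) b j = w * j * w⁻¹ → b ∈ O := by
      intro b hbi w hw hbj
      have hbw : ∀ x : ↥O, MulAut.conjNormal (H := O) b x = w * x * w⁻¹ := by
        have hw' : ∀ k : ℤ, w * i ^ k * w⁻¹ = i ^ k := fun k => by
          rw [((show Commute w i from hw).zpow_right k).eq, mul_inv_cancel_right]
        intro x
        obtain ⟨k, rfl | rfl⟩ := hall x
        · rw [map_zpow, hbi, hw']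
        · rw [map_mul, map_zpow, hbi, hbj]
          calc w * j * w⁻¹ * i ^ k = w * j * w⁻¹ * (w * i ^ k * w⁻¹) := by rw [hw']
            _ = _ := by group
      have hmem : (w : S)⁻¹ * b ∈ O := hCO (mem_centralizer_iff.2 fun x hx => by
        have h3 := congrArg Subtype.val (hbw ⟨x, hx⟩)
        rw [MulAut.conjNormal_apply] at h3
        simp only [Subgroup.coe_mul, InvMemClass.coe_inv] at h3
        calc x * ((w : S)⁻¹ * b) = (w : S)⁻¹ * ((w : S) * x * (w : S)⁻¹) * b := by group
          _ = (w : S)⁻¹ * (b * x * b⁻¹) * b := by rw [h3]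
          _ = _ := by group)
      simpa using O.mul_mem w.2 hmem
    rcases Int.even_or_odd m with ⟨t, rfl⟩ | ⟨t, rfl⟩
    · -- inner by a power of `i`
      refine inner a hai (i ^ (-t)) (Commute.zpow_self i (-t)).eq ?_
      rw [← hcdef, hm]
      have hji : j * i ^ t * j⁻¹ = i ^ (-t) := by
        rw [← conj_zpow, zpow_neg, ← inv_zpow]
        congr 1
        have e := hanti j hj
        rw [commutatorElement_def] at e
        have e2 : j * i * j⁻¹ = z * i := by rw [← e]; group
        rw [e2]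
        refine eq_inv_of_mul_eq_one_left ?_
        rw [mul_assoc, ← pow_two, hi2, ← pow_two, hz2']
      calc j * i ^ (t + t) = (j * i ^ t * j⁻¹) * j * i ^ t := by rw [zpow_add]; group
        _ = i ^ (-t) * j * i ^ t := by rw [hji]
        _ = _ := by rw [zpow_neg, inv_inv]
    · -- then `a ^ 2` is conjugation by an odd power of `i`
      exfalso
      have ha2 : MulAut.conjNormal (H := O) (a ^ 2) j = i ^ (-(2 * t + 1)) * j * (i ^ (-(2 * t + 1)))⁻¹ := by
        rw [map_pow, pow_two, MulAut.mul_apply, ← hcdef, hm, map_mul, hci, hm]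
        have hji : j * i ^ (2 * t + 1) * j⁻¹ = i ^ (-(2 * t + 1)) := by
          rw [← conj_zpow, zpow_neg, ← inv_zpow]
          congr 1
          have e := hanti j hj
          rw [commutatorElement_def] at e
          have e2 : j * i * j⁻¹ = z * i := by rw [← e]; group
          rw [e2]
          refine eq_inv_of_mul_eq_one_left ?_
          rw [mul_assoc, ← pow_two, hi2, ← pow_two, hz2']
        calc j * i ^ (2 * t + 1) * i ^ (2 * t + 1) = (j * i ^ (2 * t + 1) * j⁻¹) * j * i ^ (2 * t + 1) := by group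
          _ = i ^ (-(2 * t + 1)) * j * i ^ (2 * t + 1) := by rw [hji]
          _ = _ := by rw [zpow_neg, inv_inv]
      have ha2i : MulAut.conjNormal (H := O) (a ^ 2) i = i := by
        rw [map_pow, pow_two, MulAut.mul_apply, hai, hai]
      have hmem := inner (a ^ 2) ha2i _ (Commute.zpow_self i _).eq ha2
      set e : ↥O := ⟨a ^ 2, hmem⟩ with hedef
      have he : ∀ x : ↥O, e * x * e⁻¹ = MulAut.conjNormal (H := O) (a ^ 2) x := fun x =>
        Subtype.ext (by rw [MulAut.conjNormal_apply]; rfl)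
      have hji' := hanti j hj
      -- `e` is outside the centre but has trivial square
      have heZ : e ∉ Z := fun h => by
        have h1 := he j
        rw [ha2, (mem_center_iff.1 (zpowers_le.2 hz h) j).symm, mul_inv_cancel_right] at h1
        have h2 : ⁅i ^ (-(2 * t + 1)), j⁆ = 1 := by
          rw [commutatorElement_def, ← h1, mul_inv_cancel]
        rw [commutatorElement_eq_one_iff_mul_comm] at h2
        have h3 : Commute j (i ^ (-(2 * t + 1))) := h2.symm
        have h4 : Commute j i := by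
          have h5 : Commute j ((i ^ (-(2 * t + 1))) * (i ^ (2 : ℤ)) ^ (t + 1)) := by
            refine h3.mul_right (Commute.zpow_right ?_ _)
            rw [zpow_ofNat, hi2]; exact (mem_center_iff.1 hz j)
          rwa [← zpow_mul, ← zpow_add, show -(2 * t + 1) + 2 * (t + 1) = (1 : ℤ) by ring, zpow_one] at h5
        have h7 : ⁅j, i⁆ = 1 := commutatorElement_eq_one_iff_mul_comm.2 h4
        rw [h7] at hji'
        rw [← hji', orderOf_one] at hzo; norm_num at hzo
      have h6 : e ^ 2 = 1 := Subtype.ext (by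
        rw [hedef, SubmonoidClass.coe_pow]
        show (a ^ 2) ^ 2 = 1
        rw [← pow_mul]; exact hA4 a ha)
      rw [hmemz e heZ] at h6
      rw [h6, orderOf_one] at hzo; norm_num at hzo
  let A1 : Subgroup A := Subgroup.comap (MulAut.conjNormal.comp A.subtype)
    { carrier := {c : MulAut ↥O | c i = i}
      one_mem' := rfl
      mul_mem' := fun {c d} hc hd => by show c (d i) = i; rw [show d i = i from hd]; exact hc
      inv_mem' := fun {c} hc => by
        show c⁻¹ i = i
        conv_lhs => rw [← show c i = i from hc]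
        exact MulAut.inv_apply_self _ c i }
  have hidx1 : A1.index ≤ 2 := by
    have hinj : Function.Injective (fun c : A ⧸ A1 => Quotient.liftOn' c
        (fun a => MulAut.conjNormal (H := O) (a : S) i) fun a b hab => by
          rw [QuotientGroup.leftRel_apply] at hab
          have h : MulAut.conjNormal (H := O) ((a⁻¹ * b : A) : S) i = i := hab
          rw [Subgroup.coe_mul, InvMemClass.coe_inv, map_mul, map_inv, MulAut.mul_apply] at h
          conv_lhs => rw [← h]
          rw [MulAut.apply_inv_self]) := by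
      intro c d
      induction c using QuotientGroup.induction_on with | H a =>
      induction d using QuotientGroup.induction_on with | H b =>
      intro hab
      refine QuotientGroup.eq.2 ?_
      show MulAut.conjNormal (H := O) ((a⁻¹ * b : A) : S) i = i
      rw [Subgroup.coe_mul, InvMemClass.coe_inv, map_mul, map_inv, MulAut.mul_apply,
        show MulAut.conjNormal (H := O) (b : S) i = MulAut.conjNormal (H := O) (a : S) i from hab.symm,
        MulAut.inv_apply_self]
    have himg : ∀ c : A ⧸ A1, Quotient.liftOn' c (fun a => MulAut.conjNormal (H := O) (a : S) i) (fun a b hab => by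
          rw [QuotientGroup.leftRel_apply] at hab
          have h : MulAut.conjNormal (H := O) ((a⁻¹ * b : A) : S) i = i := hab
          rw [Subgroup.coe_mul, InvMemClass.coe_inv, map_mul, map_inv, MulAut.mul_apply] at h
          conv_lhs => rw [← h]
          rw [MulAut.apply_inv_self]) ∈ ({i, i * z} : Finset ↥O) := by
      intro c
      induction c using QuotientGroup.induction_on with | H a =>
      show MulAut.conjNormal (H := O) (a : S) i ∈ _
      have h : ((MulAut.conjNormal (H := O) (a : S) i : ↥O) : ↥O ⧸ Z) = (i : ↥O ⧸ Z) := hq a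
      rw [QuotientGroup.eq] at h
      rcases mem_zpowers_two hz2' h with e | e
      · simp [inv_mul_eq_one.1 e]
      · have : i = MulAut.conjNormal (H := O) (a : S) i * z := by rw [← e, mul_inv_cancel_left]
        simp only [Finset.mem_insert, Finset.mem_singleton]
        right
        conv_rhs => rw [this]
        rw [mul_assoc, ← pow_two, hz2', mul_one]
    rw [Subgroup.index_eq_card]
    haveI : Fintype (A ⧸ A1) := Fintype.ofFinite _
    rw [Nat.card_eq_fintype_card, ← Finset.card_univ]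
    exact (Finset.card_le_card_of_injOn _ (fun c _ => himg c) hinj.injOn).trans Finset.card_le_two
  have hA1 : A1.map A.subtype ≤ O := by
    rintro _ ⟨a, ha, rfl⟩
    exact hfix a a.2 ha
  -- hence `i ∈ A` and all of `A` lies in `O`
  have hcard1 : 4 ≤ Nat.card A1 := by
    have := A1.card_mul_index
    rw [hA8] at this
    nlinarith
  have hiA : (i : S) ∈ A := by
    have hle : (A1.map A.subtype).subgroupOf O ≤ zpowers i := by
      intro x hx
      obtain ⟨b, hb, hbx⟩ := hx
      by_contra hxi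
      have h1 := hanti x hxi
      have h2 : MulAut.conjNormal (H := O) (b : S) i = i := hb
      have h3 : x * i * x⁻¹ = i := by
        conv_rhs => rw [← h2]
        apply Subtype.ext
        rw [MulAut.conjNormal_apply]
        simp only [Subgroup.coe_mul, InvMemClass.coe_inv]
        rw [show (x : S) = (b : S) from hbx.symm]
      rw [commutatorElement_def, h3, mul_inv_cancel] at h1
      rw [← h1, orderOf_one] at hzo; norm_num at hzo
    have h4 : Nat.card ((A1.map A.subtype).subgroupOf O) = Nat.card A1 := by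
      rw [Nat.card_congr (subgroupOfEquivOfLe hA1).toEquiv, Subgroup.card_map_of_injective A.subtype_injective]
    have h5 := Subgroup.eq_of_le_of_card_ge hle (by rw [h4, Nat.card_zpowers, hio]; exact hcard1)
    have h6 : i ∈ (A1.map A.subtype).subgroupOf O := h5 ▸ mem_zpowers i
    obtain ⟨b, -, hb⟩ := h6
    exact (show (b : S) = (i : S) from hb) ▸ b.2
  have hsub : A ≤ O := fun a ha => hfix a ha (Subtype.ext (by
    rw [MulAut.conjNormal_apply, hAcomm a ha i hiA, mul_inv_cancel_right]))
  exact hb ⟨A, hsub, hAc, hAn, hA8⟩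

/-- Let S be a finite solvable group with O_{2'}(S) = 1 that contains a non-cyclic abelian subgroup of order 8, while no proper subgroup of S of 2-power index contains one. Then a Sylow 2-subgroup X of S is normal in S, and one of the following holds: X is abelian; X is extraspecial of order at least 32; X has a generalized quaternion subgroup X₀ of index 2 with X = X₀·C_X(X₀); or X is special with centre of order 4. -/
theorem result {S : Type*} [Group S] [Finite S]
    [Group.IsSolvable S] (hO : Cfsg.pPrimeCore 2 S = ⊥)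
    (h8 : ∃ A : Subgroup S, IsMulCommutative ↥A ∧ ¬ IsCyclic ↥A ∧ Nat.card ↥A = 8)
    (hmin : ∀ R : Subgroup S, R ≠ ⊤ → (∃ k : ℕ, R.index = 2 ^ k) →
      ¬ ∃ A : Subgroup S, A ≤ R ∧ IsMulCommutative ↥A ∧ ¬ IsCyclic ↥A ∧ Nat.card ↥A = 8)
    (X : Sylow 2 S) :
    (X : Subgroup S).Normal ∧
      (IsMulCommutative ↥X ∨
        (Cfsg.IsExtraspecial 2 ↥X ∧ 32 ≤ Nat.card ↥X) ∨
        (∃ (X₀ : Subgroup S) (k : ℕ), X₀ ≤ (X : Subgroup S) ∧ X₀.relIndex (X : Subgroup S) = 2 ∧
          Nonempty (↥X₀ ≃* QuaternionGroup (2 ^ (k + 1))) ∧ X₀ ⊔ ((X : Subgroup S) ⊓ Subgroup.centralizer (X₀ : Set S)) = (X : Subgroup S)) ∨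
        (Cfsg.IsSpecial 2 ↥X ∧ Nat.card ↥(Subgroup.center ↥X) = 4)) := by

  classical
  haveI : Fact (Nat.Prime 2) := ⟨Nat.prime_two⟩
  haveI hOn : (Cfsg.pCore 2 S).Normal := HallCore.pCore_normal 2 S
  set O := Cfsg.pCore 2 S with hOdef
  have hO2 : IsPGroup 2 O := HallCore.isPGroup_pCore 2 S
  have hOX : O ≤ (X : Subgroup S) := LocGroup56.pCore_le_sylow X
  have hCO : Subgroup.centralizer (O : Set S) ≤ O :=
    HallSolvable.centralizer_pCore_le (HallSolvable.isPSolvable_of_solvable (p := 2) (G := S)) hO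
  obtain ⟨A', hA'c, hA'n, hA'8⟩ := h8
  obtain ⟨P, hP⟩ := (IsPGroup.of_card (p := 2) (n := 3) hA'8).exists_le_sylow
  obtain ⟨g, hg⟩ := MulAction.exists_smul_eq S P X
  have e : A' ≃* (A'.map (MulAut.conj g).toMonoidHom : Subgroup S) :=
    A'.equivMapOfInjective (MulAut.conj g).toMonoidHom (MulAut.conj g).injective
  set A := A'.map (MulAut.conj g).toMonoidHom with hAdef
  have hAX : A ≤ (X : Subgroup S) := by
    rintro _ ⟨a, ha, rfl⟩
    rw [← hg]
    exact Subgroup.smul_mem_pointwise_smul a (MulAut.conj g) _ (hP ha)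
  have hAc : IsMulCommutative A := ⟨⟨fun a b => by
    obtain ⟨a', rfl⟩ := e.surjective a
    obtain ⟨b', rfl⟩ := e.surjective b
    rw [← map_mul, ← map_mul, hA'c.is_comm.comm]⟩⟩
  have hAn : ¬ IsCyclic A := fun hc => hA'n (e.isCyclic.2 hc)
  have hA8 : Nat.card A = 8 := by rw [← Nat.card_congr e.toEquiv, hA'8]
  obtain ⟨E, hE⟩ := HallTheorem.exists_isPiHall_of_solvable (G := S) ({2}ᶜ : Set ℕ)
  have hEodd : Odd (Nat.card E) := Nat.not_even_iff_odd.1 fun hev =>
    hE.1 2 Nat.prime_two (even_iff_two_dvd.1 hev) rfl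
  have hEidx : ∀ R : Subgroup S, E ≤ R → ∃ k, R.index = 2 ^ k := fun R hR =>
    ⟨_, Nat.eq_prime_pow_of_unique_prime_dvd Subgroup.index_ne_zero_of_finite fun {q} hq hd => by
      by_contra hne
      exact hE.2 q hq hne (hd.trans (Subgroup.index_dvd_of_le hR))⟩
  by_cases hEb : E = ⊥
  · -- a 2-group
    obtain ⟨k, hk⟩ := hEidx A (hEb ▸ bot_le)
    have hAtop : A = ⊤ := by
      by_contra hne
      exact hmin A hne ⟨k, hk⟩ ⟨A, le_rfl, hAc, hAn, hA8⟩
    have hXtop : (X : Subgroup S) = ⊤ := top_le_iff.1 (hAtop ▸ hAX)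
    refine ⟨hXtop ▸ inferInstance, Or.inl ?_⟩
    refine ⟨⟨fun a b => Subtype.ext ?_⟩⟩
    show (a : S) * b = b * a
    exact congrArg Subtype.val (hAc.is_comm.comm ⟨(a : S), hAtop ▸ Subgroup.mem_top _⟩ ⟨(b : S), hAtop ▸ Subgroup.mem_top _⟩)
  by_cases hb : Bad O
  swap
  · exact (small_case inferInstance hO O hO2 hCO hb X hOX A hAX hAc hAn hA8 E hEodd hEb).elim
  -- then the core is the Sylow subgroup
  have hmin' : ∀ R : Subgroup S, E ≤ R → Bad R → R = ⊤ := fun R hR hR8 => by
    by_contra hne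
    exact hmin R hne (hEidx R hR) hR8
  have hXO : (X : Subgroup S) = O := by
    refine (Subgroup.eq_of_le_of_card_ge hOX ?_).symm
    have htop := hmin' (O ⊔ E) le_sup_right (Bad.mono le_sup_left hb)
    obtain ⟨j, hj⟩ := hO2.exists_card_eq
    obtain ⟨i, hi⟩ := X.isPGroup'.exists_card_eq
    have h1 : Nat.card (X : Subgroup S) ∣ Nat.card O * Nat.card E := by
      refine (Subgroup.card_subgroup_dvd_card _).trans ?_
      rw [← Subgroup.card_top (G := S), ← htop]
      rw [← Subgroup.card_mul_index (O.subgroupOf (O ⊔ E)),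
        Nat.card_congr (Subgroup.subgroupOfEquivOfLe (le_sup_left : O ≤ O ⊔ E)).toEquiv]
      refine mul_dvd_mul_left _ ?_
      show O.relIndex (O ⊔ E) ∣ Nat.card E
      rw [sup_comm, Subgroup.relIndex_sup_right]
      exact Subgroup.relIndex_dvd_card O E
    rw [hi] at h1
    exact Nat.le_of_dvd Nat.card_pos (hi ▸ (Nat.Coprime.pow_left i (Nat.coprime_two_left.2 hEodd)).dvd_of_dvd_mul_right h1)
  have hXn : (X : Subgroup S).Normal := hXO ▸ hOn
  haveI := hXn
  refine ⟨hXn, ?_⟩
  obtain ⟨K, hK, hKne, hKE⟩ := exists_aut (X : Subgroup S) (hXO ▸ hCO) X.isPGroup' E hEodd hEb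
  have hminX : Minimal K := by
    intro Y hY hYn hYi hYbad
    set Y' := Y.map (X : Subgroup S).subtype with hY'
    have hR := hmin' (Y' ⊔ E) le_sup_right (Bad.mono le_sup_left (bad_down hYbad))
    have hnE : E ≤ Subgroup.normalizer (Y' : Set S) := by
      intro x hx
      rw [Subgroup.mem_normalizer_iff_map_conj_eq]
      refine Subgroup.eq_of_le_of_card_ge ?_ (Subgroup.card_map_of_injective (MulAut.conj x).injective).ge
      rintro _ ⟨_, ⟨y, hy, rfl⟩, rfl⟩
      exact ⟨MulAut.conjNormal x y, hYi _ (hKE ▸ Subgroup.mem_map_of_mem _ hx) y hy, by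
        simp [MulAut.conjNormal_apply]⟩
    apply hY
    rw [eq_top_iff]
    intro x _
    have hxR : (x : S) ∈ ((Y' ⊔ E : Subgroup S) : Set S) := by rw [hR]; exact Subgroup.mem_top _
    rw [Subgroup.coe_mul_of_right_le_normalizer_left Y' E hnE] at hxR
    obtain ⟨y, hy, f, hf, hyf⟩ := hxR
    obtain ⟨y₀, hy₀, rfl⟩ := hy
    have hfX : f ∈ (X : Subgroup S) := by
      have : f = ((y₀ : S))⁻¹ * (x : S) := by rw [← hyf]; simp
      rw [this]; exact mul_mem (inv_mem y₀.2) x.2
    have hf1 : f = 1 := by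
      have h1 := Subgroup.orderOf_dvd_natCard E hf
      obtain ⟨i, hi⟩ := IsPGroup.iff_orderOf.1 X.isPGroup' ⟨f, hfX⟩
      rw [Subgroup.orderOf_mk] at hi
      rw [← orderOf_eq_one_iff, ← Nat.dvd_one]
      exact (Nat.eq_one_of_dvd_coprimes ((Nat.coprime_two_left.2 hEodd).pow_left i) hi.dvd h1).dvd
    have hxy : x = y₀ := Subtype.ext (by rw [← hyf, hf1]; simp)
    exact hxy ▸ hy₀
  rcases structure_theorem X.isPGroup' hK hKne hminX with h | ⟨⟨h1, h2⟩, -⟩ | ⟨hext, z, hz, hzo, hcomm, hsq, hcen⟩ | ⟨⟨Y, hY2, ⟨eY⟩, hYC⟩, -⟩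
  · exact Or.inl h
  · exact Or.inr (Or.inr (Or.inr ⟨h1, h2⟩))
  · refine Or.inr (Or.inl ⟨hext, ?_⟩)
    by_contra hlt
    obtain ⟨i, hi⟩ := X.isPGroup'.exists_card_eq
    have hi4 : i ≤ 4 := by
      by_contra h
      exact hlt (hi ▸ Nat.pow_le_pow_right (by norm_num : 0 < 2) (show 5 ≤ i by omega))
    let A₀ : Subgroup ↥(X : Subgroup S) := A.subgroupOf X
    have hA₀ : Nat.card A₀ = 8 := by
      rw [Nat.card_congr (Subgroup.subgroupOfEquivOfLe hAX).toEquiv, hA8]
    have hA₀c : ∀ a ∈ A₀, ∀ b ∈ A₀, a * b = b * a := fun a ha b hb => Subtype.ext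
      (show (a : S) * b = b * a from congrArg Subtype.val (hAc.is_comm.comm ⟨(a : S), ha⟩ ⟨(b : S), hb⟩))
    have hidx : A₀.index ≤ 2 := by
      have h1 := A₀.card_mul_index
      have h2 : Nat.card ↥(X : Subgroup S) ≤ 16 := hi ▸ Nat.pow_le_pow_right (by norm_num : 0 < 2) hi4
      rw [hA₀] at h1
      omega
    obtain ⟨x, hx⟩ : ∃ x : ↥(X : Subgroup S), x ∉ A₀ := by
      by_contra hno
      push Not at hno
      have hle : (⊤ : Subgroup ↥(X : Subgroup S)) ≤ Subgroup.zpowers z := fun a _ =>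
        hcen (Subgroup.mem_center_iff.2 fun b => hA₀c b (hno b) a (hno a))
      have := Subgroup.card_le_of_le hle
      rw [Subgroup.card_top, Nat.card_zpowers, hzo] at this
      have h3 := Subgroup.card_le_of_le hAX
      rw [hA8] at h3
      omega
    have hidx2 : A₀.index = 2 := by
      refine le_antisymm hidx ?_
      by_contra h
      have : A₀.index = 1 := by
        have := Nat.pos_of_ne_zero (Subgroup.index_ne_zero_of_finite (H := A₀))
        omega
      exact hx (Subgroup.index_eq_one.1 this ▸ Subgroup.mem_top x)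
    let f : A₀ →* ↥(X : Subgroup S) := MonoidHom.mk' (fun a => ⁅(a : ↥(X : Subgroup S)), x⁆) fun a b => by
      show ⁅(a : ↥(X : Subgroup S)) * b, x⁆ = _
      exact PGroupsBasic.commutatorElement_mul_left_of_central (Subgroup.zpowers_le.2 hz (hcomm _ x))
    have hker : f.ker.map A₀.subtype ≤ Subgroup.zpowers z := by
      rintro _ ⟨a, ha, rfl⟩
      refine hcen (Subgroup.mem_center_iff.2 fun b => ?_)
      have hax : Commute (a : ↥(X : Subgroup S)) x := commutatorElement_eq_one_iff_mul_comm.1 (MonoidHom.mem_ker.1 ha)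
      show b * (a : ↥(X : Subgroup S)) = (a : ↥(X : Subgroup S)) * b
      by_cases hb : b ∈ A₀
      · exact hA₀c b hb a a.2
      · have h1 : x⁻¹ * b ∈ A₀ := (Subgroup.mul_mem_iff_of_index_two hidx2).2
          (iff_of_false (fun h => hx (by simpa using A₀.inv_mem h)) hb)
        have h2 : Commute (a : ↥(X : Subgroup S)) (x * (x⁻¹ * b)) := hax.mul_right (hA₀c _ a.2 _ h1)
        rw [mul_inv_cancel_left] at h2
        exact h2.eq.symm
    have h1 := Subgroup.card_le_of_le hker
    rw [Subgroup.card_map_of_injective A₀.subtype_injective, Nat.card_zpowers, hzo] at h1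
    have h2 : Nat.card f.range ≤ 2 := by
      refine le_trans (Subgroup.card_le_of_le (K := Subgroup.zpowers z) ?_) ((Nat.card_zpowers z).trans hzo).le
      rintro _ ⟨a, rfl⟩; exact hcomm _ _
    have h3 := f.ker.card_mul_index
    rw [Subgroup.index_ker, hA₀] at h3
    have := Nat.mul_le_mul h1 h2
    omega
  · refine Or.inr (Or.inr (Or.inl ⟨Y.map (X : Subgroup S).subtype, 0, Subgroup.map_subtype_le Y, ?_, ?_, ?_⟩))
    · rw [Subgroup.relIndex, show (Y.map (X : Subgroup S).subtype).subgroupOf (X : Subgroup S) = Y from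
        Subgroup.comap_map_eq_self_of_injective (X : Subgroup S).subtype_injective Y, hY2]
    · exact ⟨((Y.equivMapOfInjective _ (X : Subgroup S).subtype_injective).symm.trans eY)⟩
    · refine le_antisymm (sup_le (Subgroup.map_subtype_le Y) inf_le_left) ?_
      intro x hx
      have h1 : (⟨x, hx⟩ : ↥(X : Subgroup S)) ∈ Y ⊔ Subgroup.centralizer (Y : Set ↥(X : Subgroup S)) := hYC ▸ Subgroup.mem_top _
      have h2 := Subgroup.mem_map_of_mem (X : Subgroup S).subtype h1
      rw [Subgroup.map_sup] at h2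
      refine SetLike.le_def.1 (sup_le_sup_left ?_ _) h2
      rintro _ ⟨c, hc, rfl⟩
      refine ⟨c.2, Subgroup.mem_centralizer_iff.2 ?_⟩
      rintro _ ⟨y, hy, rfl⟩
      exact congrArg Subtype.val (Subgroup.mem_centralizer_iff.1 hc y hy)

end Cfsg.Agent.S4409
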