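import Cfsg.Statements.S4411
import Cfsg.Agent.Lib.FrobeniusAutomizer
import Cfsg.Agent.S0086
-- import your own Cfsg.Agent.* helpers here

set_option autoImplicit false
open Cfsg

namespace Cfsg.Agent.S4411

/-- Some `q`-element normalises `H` without centralising it. -/
def Moved {G : Type*} [Group G] (q : ℕ) (H : Subgroup G) : Prop :=
  ∃ g : G, g ∈ Subgroup.normalizer (H : Set G) ∧ g ∉ Subgroup.centralizer (H : Set G) ∧
    ∃ k : ℕ, orderOf g = q ^ k

theorem dvd_of_moved {G : Type*} [Group G] [Finite G] {q : ℕ} [Fact q.Prime] {H : Subgroup G}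
    (h : Moved q H) :
    q ∣ ((Subgroup.centralizer (H : Set G)).subgroupOf (Subgroup.normalizer (H : Set G))).index := by
  obtain ⟨g, hgN, hgC, k, hk⟩ := h
  set N := Subgroup.normalizer (H : Set G)
  set C := (Subgroup.centralizer (H : Set G)).subgroupOf N
  set x : N ⧸ C := QuotientGroup.mk' C ⟨g, hgN⟩
  have hx : x ≠ 1 := fun h => hgC ((QuotientGroup.eq_one_iff (N := C) _).1 h)
  have hd : orderOf x ∣ q ^ k := hk ▸ (orderOf_map_dvd (QuotientGroup.mk' C) ⟨g, hgN⟩).trans
    (by rw [Subgroup.orderOf_mk])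
  obtain ⟨j, -, hj⟩ := (Nat.dvd_prime_pow Fact.out).1 hd
  rw [Subgroup.index_eq_card]
  refine dvd_trans ?_ (orderOf_dvd_natCard x)
  rw [hj]
  refine dvd_pow_self q fun h0 => hx ?_
  rw [← orderOf_eq_one_iff, hj, h0, pow_zero]

theorem moved_of_dvd {G : Type*} [Group G] [Finite G] {q : ℕ} [Fact q.Prime] {H : Subgroup G}
    (h : q ∣ ((Subgroup.centralizer (H : Set G)).subgroupOf (Subgroup.normalizer (H : Set G))).index) :
    Moved q H := by
  set N := Subgroup.normalizer (H : Set G)
  set C := (Subgroup.centralizer (H : Set G)).subgroupOf N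
  obtain ⟨Q⟩ : Nonempty (Sylow q N) := inferInstance
  obtain ⟨x, hxQ, hxC⟩ : ∃ x ∈ (Q : Subgroup N), x ∉ C := by
    by_contra! hle
    exact Q.not_dvd_index (dvd_trans h (Subgroup.index_dvd_of_le hle))
  obtain ⟨k, hk⟩ := IsPGroup.iff_orderOf.1 Q.2 ⟨x, hxQ⟩
  rw [Subgroup.orderOf_mk, ← Subgroup.orderOf_coe] at hk
  exact ⟨x, x.2, hxC, k, hk⟩

theorem moved_conj {G : Type*} [Group G] {q : ℕ} {H : Subgroup G} (h : Moved q H) (c : G) :
    Moved q (H.map (MulAut.conj c).toMonoidHom) := by
  obtain ⟨g, hgN, hgC, hg⟩ := h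
  refine ⟨MulAut.conj c g, Subgroup.le_normalizer_map _ ⟨g, hgN, rfl⟩, fun h => hgC ?_, ?_⟩
  · rw [Subgroup.mem_centralizer_iff] at h ⊢
    intro x hx
    have := h (MulAut.conj c x) ⟨x, hx, rfl⟩
    rw [← map_mul, ← map_mul] at this
    exact (MulAut.conj c).injective this
  · rwa [MulEquiv.orderOf_eq]

open FrobeniusAutomizer in
/-- With `T` Sylow in `N(H)`, some characteristic subgroup of `T` is moved. -/
theorem exists_char_moved {G : Type*} [Group G] [Finite G]
    {p q : ℕ} [Fact p.Prime] [Fact q.Prime] (hpq : p ≠ q) (hp2 : p = 2 → q ≠ 3)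
    {H : Subgroup G} (hHp : IsPGroup p ↥H)
    (hsol : Cfsg.IsPSolvable p (↥(Subgroup.normalizer (H : Set G)) ⧸
      (Subgroup.centralizer (H : Set G)).subgroupOf (Subgroup.normalizer (H : Set G))))
    (hm : Moved q H) (T : Sylow p (Subgroup.normalizer (H : Set G))) :
    ∃ K : Subgroup (Subgroup.normalizer (H : Set G)), K ≤ (T : Subgroup _) ∧
      (K.subgroupOf (T : Subgroup _)).Characteristic ∧
        Moved q (K.map (Subgroup.normalizer (H : Set G)).subtype) := by
  set C := (Subgroup.centralizer (H : Set G)).subgroupOf (Subgroup.normalizer (H : Set G))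
  by_contra hcon
  push Not at hcon
  have hp : p.Prime := Fact.out
  have hq : q.Prime := Fact.out
  have hHN : H ≤ (Subgroup.normalizer (H : Set G)) := Subgroup.le_normalizer
  haveI hHn : (H.subgroupOf (Subgroup.normalizer (H : Set G))).Normal := Subgroup.normal_in_normalizer
  haveI : (Subgroup.comap (Subgroup.normalizer (H : Set G)).subtype H).Normal := hHn
  have hHT : H.subgroupOf (Subgroup.normalizer (H : Set G)) ≤ (T : Subgroup (Subgroup.normalizer (H : Set G))) :=
    (hHp.comap_of_injective (Subgroup.normalizer (H : Set G)).subtype (Subgroup.normalizer (H : Set G)).subtype_injective).le_sylow_of_normal T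
  -- `R` is a Sylow subgroup of the centraliser
  set R := (T : Subgroup (Subgroup.normalizer (H : Set G))) ⊓ C
  have hRC : R ≤ C := inf_le_right
  have hRidx : ¬ p ∣ (R.subgroupOf C).index := by
    intro h
    have h' : p ∣ R.relIndex C := h
    apply T.not_dvd_index
    have h2 := Subgroup.relIndex_mul_index (inf_le_left : R ≤ (T : Subgroup (Subgroup.normalizer (H : Set G))))
    have h3 := Subgroup.relIndex_mul_index hRC
    have h4 : R.relIndex (T : Subgroup (Subgroup.normalizer (H : Set G))) = C.relIndex (T : Subgroup (Subgroup.normalizer (H : Set G))) :=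
      Subgroup.inf_relIndex_left _ _
    have h5 := Subgroup.relIndex_mul_index (le_sup_right : C ≤ (T : Subgroup (Subgroup.normalizer (H : Set G))) ⊔ C)
    rw [Subgroup.relIndex_sup_right] at h5
    rw [← h3, h4, ← h5] at h2
    have hpos : 0 < C.relIndex (T : Subgroup (Subgroup.normalizer (H : Set G))) :=
      Nat.pos_of_ne_zero (Cfsg.Agent.HallSolvable.relIndex_ne_zero' _ _)
    have e : (T : Subgroup (Subgroup.normalizer (H : Set G))).index = ((T : Subgroup (Subgroup.normalizer (H : Set G))) ⊔ C).index * R.relIndex C :=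
      Nat.eq_of_mul_eq_mul_left hpos (by linear_combination h2)
    rw [e]
    exact dvd_mul_of_dvd_right h' _
  have hRsub : IsPGroup p (R.subgroupOf C) :=
    (T.2.to_le (inf_le_left : R ≤ (T : Subgroup (Subgroup.normalizer (H : Set G))))).comap_of_injective C.subtype C.subtype_injective
  let RS : Sylow p C := IsPGroup.toSylow hRsub hRidx
  have hRS : (RS : Subgroup C).map C.subtype = R :=
    Subgroup.map_subgroupOf_eq_of_le hRC
  set Y := Subgroup.normalizer (R : Set (Subgroup.normalizer (H : Set G)))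
  have hfrat : Y ⊔ C = ⊤ := by
    have := Sylow.normalizer_sup_eq_top RS
    rwa [hRS] at this
  have hTY : (T : Subgroup (Subgroup.normalizer (H : Set G))) ≤ Y := by
    intro t ht
    rw [Subgroup.mem_normalizer_iff]
    intro x
    constructor
    · rintro ⟨h1, h2⟩
      exact ⟨(T : Subgroup (Subgroup.normalizer (H : Set G))).mul_mem ((T : Subgroup (Subgroup.normalizer (H : Set G))).mul_mem ht h1) ((T : Subgroup (Subgroup.normalizer (H : Set G))).inv_mem ht),
        Subgroup.Normal.conj_mem inferInstance x h2 t⟩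
    · rintro ⟨h1, h2⟩
      refine ⟨?_, ?_⟩
      · have h3 := (T : Subgroup (Subgroup.normalizer (H : Set G))).mul_mem ((T : Subgroup (Subgroup.normalizer (H : Set G))).mul_mem ((T : Subgroup (Subgroup.normalizer (H : Set G))).inv_mem ht) h1) ht
        have h4 : t⁻¹ * (t * x * t⁻¹) * t = x := by group
        exact h4 ▸ h3
      · have h3 := Subgroup.Normal.conj_mem (inferInstance : C.Normal) _ h2 t⁻¹
        have h4 : t⁻¹ * (t * x * t⁻¹) * t⁻¹⁻¹ = x := by group
        exact h4 ▸ h3
  let π : Y →* (Subgroup.normalizer (H : Set G)) ⧸ C := (QuotientGroup.mk' C).comp Y.subtype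
  have hπ : Function.Surjective π := by
    intro z
    obtain ⟨x, rfl⟩ := QuotientGroup.mk'_surjective C z
    obtain ⟨y, hy, c, hc, rfl⟩ := Subgroup.mem_sup_of_normal_right.1 (hfrat ▸ Subgroup.mem_top x)
    refine ⟨⟨y, hy⟩, ?_⟩
    show QuotientGroup.mk' C y = QuotientGroup.mk' C (y * c)
    rw [map_mul, (QuotientGroup.eq_one_iff c).2 hc |> fun h => (show QuotientGroup.mk' C c = 1 from h),
      mul_one]
  -- `Y` is `p`-solvable
  have hRp : IsPGroup p R := T.2.to_le inf_le_left
  have hY : Cfsg.IsPSolvable p Y := by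
    have hR' : (R.subgroupOf Y).Normal := Subgroup.normal_in_normalizer
    have hDR : R.subgroupOf Y ≤ π.ker := by
      intro x hx
      show QuotientGroup.mk' C (x : (Subgroup.normalizer (H : Set G))) = 1
      exact (QuotientGroup.eq_one_iff _).2 (hRC hx)
    have hRYp : IsPGroup p (R.subgroupOf Y) := hRp.comap_of_injective Y.subtype Y.subtype_injective
    have hker : Cfsg.IsPSolvable p π.ker := by
      haveI : ((R.subgroupOf Y).subgroupOf π.ker).Normal := hR'.subgroupOf _
      refine Cfsg.Agent.HallSolvable.isPSolvable_extension ((R.subgroupOf Y).subgroupOf π.ker)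
        ((Cfsg.Agent.HallSolvable.isPSolvable_iff p).2
          (Cfsg.Agent.HallSolvable.isPiSeparable_of_piece ?_))
        ((Cfsg.Agent.HallSolvable.isPSolvable_iff p).2
          (Cfsg.Agent.HallSolvable.isPiSeparable_of_piece ?_))
      · obtain ⟨k, hk⟩ := IsPGroup.iff_card.1
          (hRYp.comap_of_injective π.ker.subtype π.ker.subtype_injective)
        rw [show Nat.card ((R.subgroupOf Y).subgroupOf π.ker) = p ^ k from hk]
        exact Cfsg.Agent.HallSolvable.piece_pow hp _ k
      · refine Or.inr fun r hr hd hrp => ?_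
        have hrp' : r = p := hrp
        subst hrp'
        rw [← Subgroup.index_eq_card] at hd
        apply RS.not_dvd_index
        refine dvd_trans hd ?_
        have hd2 : ((R.subgroupOf Y).subgroupOf π.ker).index = R.relIndex (C ⊓ Y) := by
          have e : π.ker.map Y.subtype = C ⊓ Y := by
            ext x
            constructor
            · rintro ⟨y, hy, rfl⟩
              exact ⟨(QuotientGroup.eq_one_iff _).1 hy, y.2⟩
            · rintro ⟨hxC, hxY⟩
              exact ⟨⟨x, hxY⟩, (QuotientGroup.eq_one_iff _).2 hxC, rfl⟩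
          show (R.subgroupOf Y).relIndex π.ker = _
          rw [Subgroup.subgroupOf, Subgroup.relIndex_comap, e]
        rw [hd2]
        have hRY : R ≤ C ⊓ Y := le_inf hRC Subgroup.le_normalizer
        refine dvd_trans (Subgroup.relIndex_mul_relIndex R (C ⊓ Y) C hRY inf_le_left ▸
          Dvd.intro _ rfl) ?_
        rw [← hRS, Subgroup.relIndex, Subgroup.subgroupOf,
          Subgroup.comap_map_eq_self_of_injective C.subtype_injective]
    have hquot : Cfsg.IsPSolvable p (Y ⧸ π.ker) :=
      Cfsg.Agent.HallSolvable.isPSolvable_of_surjective hsol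
        (f := (QuotientGroup.quotientKerEquivOfSurjective π hπ).symm.toMonoidHom)
        (QuotientGroup.quotientKerEquivOfSurjective π hπ).symm.surjective
    exact Cfsg.Agent.HallSolvable.isPSolvable_extension π.ker hker hquot
  obtain ⟨M₀, hM₀, hM₀p, hM₀q⟩ := exists_hall_two p q hY
  -- move the Hall subgroup over `T`
  set M₁ := M₀.map Y.subtype
  have hYp : ¬ p ∣ Y.index := fun h =>
    T.not_dvd_index (dvd_trans h (Subgroup.index_dvd_of_le hTY))
  have hM₁p : ¬ p ∣ M₁.index := by
    rw [Subgroup.index_map_subtype, hp.dvd_mul]; tauto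
  obtain ⟨T₁⟩ : Nonempty (Sylow p M₁) := inferInstance
  obtain ⟨T₂, hT₂⟩ : ∃ T₂ : Sylow p (Subgroup.normalizer (H : Set G)), (T₂ : Subgroup (Subgroup.normalizer (H : Set G))) = (T₁ : Subgroup M₁).map M₁.subtype := by
    refine ⟨(IsPGroup.toSylow (T₁.2.map M₁.subtype) ?_), IsPGroup.toSylow_coe _ _⟩
    rw [Subgroup.index_map_subtype, hp.dvd_mul]
    exact fun h => h.elim T₁.not_dvd_index hM₁p
  obtain ⟨c, hc⟩ := MulAction.exists_smul_eq (Subgroup.normalizer (H : Set G)) T₂ T
  set M := M₁.map (MulAut.conj c).toMonoidHom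
  have hTM : (T : Subgroup (Subgroup.normalizer (H : Set G))) ≤ M := by
    intro t ht
    rw [← hc] at ht
    have ht' : t ∈ (T₂ : Subgroup (Subgroup.normalizer (H : Set G))).map (MulAut.conj c).toMonoidHom := by
      rw [Sylow.coe_subgroup_smul] at ht; exact ht
    rw [hT₂] at ht'
    exact Subgroup.map_mono (Subgroup.map_subtype_le _) ht'
  have hMcard : Two p q (Nat.card M) := by
    rw [Subgroup.card_map_of_injective (MulAut.conj c).injective,
      Subgroup.card_map_of_injective Y.subtype_injective]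
    exact hM₀
  -- `M` has a normal `p`-complement
  have hS4 : p ≠ 2 ∨ ¬ Cfsg.Involves (Equiv.Perm (Fin 4)) M := by
    by_cases h2 : p = 2
    · right
      intro hi
      obtain ⟨A, f, hf⟩ := Cfsg.Agent.FusionQd.exists_hom_of_involves hi
      have h24 : Nat.card (Equiv.Perm (Fin 4)) ∣ Nat.card M :=
        (Subgroup.card_dvd_of_surjective f hf).trans (Subgroup.card_subgroup_dvd_card A)
      rw [Nat.card_perm, Nat.card_fin] at h24
      rcases hMcard 3 Nat.prime_three (dvd_trans (by decide) h24) with h | h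
      · omega
      · exact hp2 h2 h.symm
    · exact Or.inl h2
  have hchar : CharAut p ((T.subtype hTM : Sylow p M) : Subgroup M) := by
    intro K hK hKc g hg hcop
    rw [Sylow.coe_subtype] at hK hKc
    by_contra hgC
    have hKT : K.map M.subtype ≤ (T : Subgroup (Subgroup.normalizer (H : Set G))) := by
      rintro _ ⟨k, hk, rfl⟩; exact hK hk
    refine hcon (K.map M.subtype) hKT ?_ ⟨((g : (Subgroup.normalizer (H : Set G))) : G), ?_, ?_, ?_⟩
    · let e := Subgroup.subgroupOfEquivOfLe hTM
      have heq : (K.map M.subtype).subgroupOf (T : Subgroup (Subgroup.normalizer (H : Set G))) =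
          (K.subgroupOf ((T : Subgroup (Subgroup.normalizer (H : Set G))).subgroupOf M)).map e.toMonoidHom := by
        ext x
        simp only [Subgroup.mem_subgroupOf, Subgroup.mem_map, MulEquiv.coe_toMonoidHom,
          Subgroup.coe_subtype]
        constructor
        · rintro ⟨y, hy, hyx⟩
          exact ⟨⟨y, by rw [Subgroup.mem_subgroupOf, hyx]; exact x.2⟩, hy, Subtype.ext hyx⟩
        · rintro ⟨y, hy, hyx⟩
          exact ⟨y, hy, congrArg Subtype.val hyx⟩
      rw [heq, Subgroup.characteristic_iff_map_eq]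
      intro φ
      rw [Subgroup.map_map]
      have := Subgroup.characteristic_iff_map_eq.1 hKc ((e.trans φ).trans e.symm)
      conv_rhs => rw [← this]
      rw [Subgroup.map_map]
      congr 1
    · exact Subgroup.le_normalizer_map (Subgroup.normalizer (H : Set G)).subtype
        ⟨(g : (Subgroup.normalizer (H : Set G))), Subgroup.le_normalizer_map M.subtype ⟨g, hg, rfl⟩, rfl⟩
    · intro h
      apply hgC
      rw [Subgroup.mem_centralizer_iff] at h ⊢
      intro k hk
      exact Subtype.ext (Subtype.ext (h _ ⟨(k : (Subgroup.normalizer (H : Set G))), ⟨k, hk, rfl⟩, rfl⟩))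
    · rw [Subgroup.orderOf_coe, Subgroup.orderOf_coe]
      refine ⟨_, Nat.eq_prime_pow_of_unique_prime_dvd (orderOf_pos g).ne' fun {r} hr hd => ?_⟩
      rcases hMcard r hr (hd.trans (orderOf_dvd_natCard g)) with rfl | rfl
      · exact absurd (Nat.dvd_gcd hd dvd_rfl) (by rw [hcop]; exact hp.not_dvd_one)
      · rfl
  obtain ⟨P', V, hV, hVc⟩ := hnpc_of_charAut hS4 _ hchar
  haveI := hV
  -- the complement centralises `H`
  have hVp : ∀ v ∈ V, Nat.Coprime (orderOf v) p := fun v hv =>
    (Cfsg.Agent.S0086.result P' V hVc v).1 hv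
  have hVC : ∀ v ∈ V, (v : (Subgroup.normalizer (H : Set G))) ∈ C := by
    intro v hv
    show ((v : (Subgroup.normalizer (H : Set G))) : G) ∈ Subgroup.centralizer (H : Set G)
    rw [Subgroup.mem_centralizer_iff]
    intro h hh
    set y : M := ⟨⟨h, hHN hh⟩, hTM (hHT hh)⟩
    have hz1 : y * v * y⁻¹ * v⁻¹ ∈ V := V.mul_mem (hV.conj_mem v hv y) (V.inv_mem hv)
    have hz2 : ((y * v * y⁻¹ * v⁻¹ : M) : (Subgroup.normalizer (H : Set G))) ∈ H.subgroupOf (Subgroup.normalizer (H : Set G)) := by
      have e : ((y * v * y⁻¹ * v⁻¹ : M) : (Subgroup.normalizer (H : Set G))) = (y : (Subgroup.normalizer (H : Set G))) * ((v : (Subgroup.normalizer (H : Set G))) * (y : (Subgroup.normalizer (H : Set G)))⁻¹ * (v : (Subgroup.normalizer (H : Set G)))⁻¹) := by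
        simp [mul_assoc]
      rw [e]
      exact Subgroup.mul_mem _ hh (hHn.conj_mem _ (Subgroup.inv_mem _ hh) _)
    have hone : y * v * y⁻¹ * v⁻¹ = 1 := by
      rw [← orderOf_eq_one_iff]
      have hz2' : (((y * v * y⁻¹ * v⁻¹ : M) : (Subgroup.normalizer (H : Set G))) : G) ∈ H := hz2
      obtain ⟨k, hk⟩ := IsPGroup.iff_orderOf.1 hHp ⟨_, hz2'⟩
      rw [Subgroup.orderOf_mk, Subgroup.orderOf_coe, Subgroup.orderOf_coe] at hk
      have := hVp _ hz1
      rw [hk] at this ⊢
      rcases k with _ | k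
      · rfl
      · exact absurd ((Nat.coprime_pow_left_iff (Nat.succ_pos k) _ _).1 this)
          (fun h => hp.not_dvd_one (by rw [← h]; exact Nat.dvd_gcd dvd_rfl dvd_rfl))
    have := mul_inv_eq_one.1 hone
    rw [mul_inv_eq_iff_eq_mul] at this
    exact congrArg (fun z : M => (((z : (Subgroup.normalizer (H : Set G)))) : G)) this
  -- but `q` divides the order of the image of `M`
  let ψ : M →* (Subgroup.normalizer (H : Set G)) ⧸ C := (QuotientGroup.mk' C).comp M.subtype
  have hψq : ¬ q ∣ Nat.card ψ.range := by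
    intro hd
    obtain ⟨k, hk⟩ := IsPGroup.iff_card.1 P'.2
    have hle : V ≤ ψ.ker := fun v hv => (QuotientGroup.eq_one_iff _).2 (hVC v hv)
    have h1 := dvd_trans (Subgroup.index_ker ψ ▸ hd) (Subgroup.index_dvd_of_le hle)
    rw [hVc.symm.index_eq_card, hk] at h1
    exact hpq ((Nat.prime_dvd_prime_iff_eq hq hp).1 (hq.dvd_of_dvd_pow h1)).symm
  apply hψq
  -- the image of `M` is a conjugate of that of `M₀`, of index prime to `q`
  have himg : ψ.range.index ∣ M₀.index := by
    have e : ψ.range = ((M₀.map π).map (MulAut.conj (QuotientGroup.mk' C c)).toMonoidHom) := by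
      rw [Subgroup.map_map]
      show ((QuotientGroup.mk' C).comp M.subtype).range = _
      rw [MonoidHom.range_comp, Subgroup.range_subtype]
      simp only [M, M₁, Subgroup.map_map]
      congr 1
    rw [e]
    refine dvd_trans (Subgroup.index_map_dvd (M₀.map π) ?_) (Subgroup.index_map_dvd M₀ hπ)
    exact (MulAut.conj (QuotientGroup.mk' C c)).surjective
  have hnq : ¬ q ∣ ψ.range.index := fun h => hM₀q (h.trans himg)
  have htot : q ∣ Nat.card ψ.range * ψ.range.index := by
    rw [Subgroup.card_mul_index, ← Subgroup.index_eq_card]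
    exact dvd_of_moved hm
  exact (hq.dvd_mul.1 htot).resolve_right hnq

/-- Let p and q be distinct primes with {p, q} ≠ {2, 3}, and let G be a finite group such that for every p-subgroup H of G the automizer N_G(H)/C_G(H) is p-solvable. If q divides the order of N_G(H)/C_G(H) for some p-subgroup H, then a Sylow p-subgroup of G has a normal subgroup K (normal in the Sylow subgroup) such that q divides the order of N_G(K)/C_G(K). -/
theorem result {G : Type*} [Group G] [Finite G]
    (p q : ℕ) [Fact p.Prime] [Fact q.Prime] (hpq : p ≠ q) (h23 : ¬ ((p = 2 ∧ q = 3) ∨ (p = 3 ∧ q = 2)))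
    (hsol : ∀ H : Subgroup G, IsPGroup p ↥H →
      Cfsg.IsPSolvable p (↥(Subgroup.normalizer (H : Set G)) ⧸ (Subgroup.centralizer (H : Set G)).subgroupOf (Subgroup.normalizer (H : Set G))))
    (H : Subgroup G) (hH : IsPGroup p ↥H)
    (hq : q ∣ ((Subgroup.centralizer (H : Set G)).subgroupOf (Subgroup.normalizer (H : Set G))).index)
    (Gp : Sylow p G) :
    ∃ K : Subgroup G, K ≤ (Gp : Subgroup G) ∧ (Gp : Subgroup G) ≤ Subgroup.normalizer (K : Set G) ∧
      q ∣ ((Subgroup.centralizer (K : Set G)).subgroupOf (Subgroup.normalizer (K : Set G))).index := by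
  classical
  have hp2 : p = 2 → q ≠ 3 := fun h1 h2 => h23 (Or.inl ⟨h1, h2⟩)
  -- moved subgroups of `Gp`
  let S : Set (Subgroup G) := {K | K ≤ (Gp : Subgroup G) ∧ Moved q K}
  have hne : S.Nonempty := by
    obtain ⟨P, hP⟩ := hH.exists_le_sylow
    obtain ⟨c, hc⟩ := MulAction.exists_smul_eq G P Gp
    refine ⟨H.map (MulAut.conj c).toMonoidHom, ?_, moved_conj (moved_of_dvd hq) c⟩
    rw [← hc, Sylow.coe_subgroup_smul]
    exact Subgroup.map_mono hP
  let size : Subgroup G → ℕ := fun K =>
    Nat.card ↥((Gp : Subgroup G) ⊓ Subgroup.normalizer (K : Set G))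
  obtain ⟨K, ⟨hKle, hKm⟩, hKmax⟩ := Set.exists_max_image S size (Set.toFinite _) hne
  refine ⟨K, hKle, ?_, dvd_of_moved hKm⟩
  by_contra hnot
  set N := Subgroup.normalizer (K : Set G)
  set T := (Gp : Subgroup G) ⊓ N
  have hTG : T < (Gp : Subgroup G) :=
    lt_of_le_of_ne inf_le_left fun h => hnot (inf_eq_left.1 h)
  -- `T` is Sylow in `N`
  have hTp : IsPGroup p (T.subgroupOf N) :=
    (Gp.2.to_le inf_le_left).comap_of_injective N.subtype N.subtype_injective
  obtain ⟨T', hT'⟩ := hTp.exists_le_sylow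
  have hT'eq : (T' : Subgroup N) = T.subgroupOf N := by
    obtain ⟨P, hP⟩ := (T'.2.map N.subtype).exists_le_sylow
    obtain ⟨c, hc⟩ := MulAction.exists_smul_eq G P Gp
    have hKT' : K ≤ (T' : Subgroup N).map N.subtype := by
      intro k hk
      exact ⟨⟨k, Subgroup.le_normalizer hk⟩, hT' ⟨hKle hk, Subgroup.le_normalizer hk⟩, rfl⟩
    have hcP : ((T' : Subgroup N).map N.subtype).map (MulAut.conj c).toMonoidHom ≤
        (Gp : Subgroup G) ⊓ Subgroup.normalizer
          ((K.map (MulAut.conj c).toMonoidHom : Subgroup G) : Set G) := by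
      refine le_inf ?_ ?_
      · rw [← hc, Sylow.coe_subgroup_smul]
        exact Subgroup.map_mono hP
      · rintro _ ⟨t, ⟨t', -, rfl⟩, rfl⟩
        exact Subgroup.le_normalizer_map _ ⟨_, t'.2, rfl⟩
    have hmem : K.map (MulAut.conj c).toMonoidHom ∈ S :=
      ⟨le_trans (Subgroup.map_mono hKT') (hcP.trans inf_le_left), moved_conj hKm c⟩
    have h1 : Nat.card T' ≤ Nat.card T := by
      refine le_trans (le_trans (le_of_eq ?_) (Subgroup.card_le_of_le hcP)) (hKmax _ hmem)
      rw [Subgroup.card_map_of_injective (MulAut.conj c).injective,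
        Subgroup.card_map_of_injective N.subtype_injective]
    refine (Subgroup.eq_of_le_of_card_ge hT' ?_).symm
    rwa [Nat.card_congr (Subgroup.subgroupOfEquivOfLe (inf_le_right : T ≤ N)).toEquiv]
  obtain ⟨L, hLT, hLc, hLm⟩ := exists_char_moved hpq hp2 (Gp.2.to_le hKle)
    (hsol K (Gp.2.to_le hKle)) hKm T'
  set L' := L.map N.subtype
  have hL'T : L' ≤ T := by
    rintro _ ⟨l, hl, rfl⟩
    have := hLT hl
    rw [hT'eq] at this
    exact this
  have hmem : L' ∈ S := ⟨hL'T.trans inf_le_left, hLm⟩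
  -- a larger part of `Gp` normalises `L'`
  haveI : Finite (Gp : Subgroup G) := inferInstance
  haveI := Gp.2.isNilpotent
  have hlt : T.subgroupOf (Gp : Subgroup G) < Subgroup.normalizer
      ((T.subgroupOf (Gp : Subgroup G) : Subgroup (Gp : Subgroup G)) : Set (Gp : Subgroup G)) := by
    refine Group.normalizerCondition_of_isNilpotent _ (lt_top_iff_ne_top.2 fun h => ?_)
    exact hTG.not_ge (Subgroup.subgroupOf_eq_top.1 h)
  have hsub : Subgroup.normalizer
      ((T.subgroupOf (Gp : Subgroup G) : Subgroup (Gp : Subgroup G)) : Set (Gp : Subgroup G)) ≤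
        (Subgroup.normalizer (L' : Set G)).subgroupOf (Gp : Subgroup G) := by
    intro x hx
    -- conjugation by `x` is an automorphism of `T`, hence fixes `L'`
    have hxT : ∀ y : G, y ∈ T ↔ (x : G) * y * (x : G)⁻¹ ∈ T := by
      intro y
      constructor
      · intro hy
        exact (Subgroup.mem_normalizer_iff.1 hx ⟨y, hy.1⟩).1 hy
      · intro hy
        have hyG : y ∈ (Gp : Subgroup G) := by
          have h := (Gp : Subgroup G).mul_mem
            ((Gp : Subgroup G).mul_mem ((Gp : Subgroup G).inv_mem x.2) hy.1) x.2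
          rwa [show (x : G)⁻¹ * ((x : G) * y * (x : G)⁻¹) * (x : G) = y by group] at h
        exact (Subgroup.mem_normalizer_iff.1 hx ⟨y, hyG⟩).2 hy
    have hcharL : ∀ y : G, y ∈ L' → ∀ z : G, (∀ w, w ∈ T ↔ z * w * z⁻¹ ∈ T) → z * y * z⁻¹ ∈ L' := by
      intro y hy z hz
      have hback : ∀ w ∈ T, z⁻¹ * w * z ∈ T := fun w hw => (hz _).2 (by
        rwa [show z * (z⁻¹ * w * z) * z⁻¹ = w by group])
      have hmk : ∀ {w : G}, (hw : w ∈ T) → (⟨w, hw.2⟩ : N) ∈ (T' : Subgroup N) := fun hw => by
        rw [hT'eq]; exact hw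
      have hout : ∀ a : (T' : Subgroup N), ((a : N) : G) ∈ T := fun a => by
        exact ((SetLike.ext_iff.1 hT'eq (a : N)).1 a.2)
      let φ : (T' : Subgroup N) ≃* (T' : Subgroup N) :=
        { toFun := fun a => ⟨⟨z * ((a : N) : G) * z⁻¹, ((hz _).1 (hout a)).2⟩, hmk ((hz _).1 (hout a))⟩
          invFun := fun a => ⟨⟨z⁻¹ * ((a : N) : G) * z, (hback _ (hout a)).2⟩, hmk (hback _ (hout a))⟩
          left_inv := fun a => Subtype.ext (Subtype.ext (by simp [mul_assoc]))
          right_inv := fun a => Subtype.ext (Subtype.ext (by simp [mul_assoc]))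
          map_mul' := fun a b => Subtype.ext (Subtype.ext (by simp [mul_assoc])) }
      obtain ⟨l, hl, rfl⟩ := hy
      have h1 : (⟨l, hLT hl⟩ : (T' : Subgroup N)) ∈ L.subgroupOf (T' : Subgroup N) := hl
      have h2 : φ ⟨l, hLT hl⟩ ∈ L.subgroupOf (T' : Subgroup N) := by
        rw [← Subgroup.characteristic_iff_map_eq.1 hLc φ]
        exact ⟨_, h1, rfl⟩
      exact ⟨_, h2, rfl⟩
    show (x : G) ∈ Subgroup.normalizer (L' : Set G)
    rw [Subgroup.mem_normalizer_iff]
    intro y
    refine ⟨fun hy => hcharL y hy x hxT, fun hy => ?_⟩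
    have := hcharL _ hy (x : G)⁻¹ fun w => by
      rw [hxT ((x : G)⁻¹ * w * (x : G)⁻¹⁻¹)]; group
    simpa [mul_assoc] using this
  have hbig := Set.Finite.card_lt_card (Set.toFinite _) (SetLike.coe_ssubset_coe.2 (hlt.trans_le hsub))
  simp only [SetLike.coe_sort_coe] at hbig
  rw [Nat.card_congr (Subgroup.subgroupOfEquivOfLe (inf_le_left : T ≤ (Gp : Subgroup G))).toEquiv,
    ← Subgroup.inf_subgroupOf_right,
    Nat.card_congr (Subgroup.subgroupOfEquivOfLe (inf_le_right :
      Subgroup.normalizer (L' : Set G) ⊓ (Gp : Subgroup G) ≤ (Gp : Subgroup G))).toEquiv,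
    inf_comm (Subgroup.normalizer (L' : Set G))] at hbig
  exact (hKmax L' hmem).not_gt hbig

end Cfsg.Agent.S4411
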