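import Cfsg.Statements.S4412
import Cfsg.Agent.Lib.CoprimeActionAut
import Cfsg.Agent.Lib.PGroupsBasic

set_option autoImplicit false
set_option linter.style.haveILetI false
open Cfsg
set_option maxHeartbeats 1600000

namespace Cfsg.Agent.S4412

section
variable {P : Type*} [Group P]

/-- A fixed-point subgroup is cyclic with generator witness. -/
def Cyc (T : MulAut P) : Prop := ∃ g : P, ∀ x : P, (T x = x ↔ x ∈ Subgroup.zpowers g)

/-- The action of an automorphism on the Frattini quotient. -/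
def act (T : MulAut P) : P ⧸ frattini P →* P ⧸ frattini P :=
  QuotientGroup.map (frattini P) (frattini P) T.toMonoidHom
    (Subgroup.Characteristic.fixed (H := frattini P) inferInstance T).ge

theorem act_mk (T : MulAut P) (x : P) : act T (x : P ⧸ frattini P) = ((T x : P) : P ⧸ frattini P) :=
  rfl

theorem act_mul (S T : MulAut P) (v : P ⧸ frattini P) : act (S * T) v = act S (act T v) := by
  induction v using QuotientGroup.induction_on with
  | H x => rfl

theorem act_one (v : P ⧸ frattini P) : act (1 : MulAut P) v = v := by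
  induction v using QuotientGroup.induction_on with
  | H x => rfl

variable [Finite P] {p : ℕ} [hp : Fact p.Prime] (hP : IsPGroup p P)

include hP in
theorem quot_comm (v w : P ⧸ frattini P) : v * w = w * v := by
  induction v using QuotientGroup.induction_on with
  | H x =>
    induction w using QuotientGroup.induction_on with
    | H y =>
      rw [← QuotientGroup.mk_mul, ← QuotientGroup.mk_mul, QuotientGroup.eq]
      have := PGroupsBasic.commutator_le_frattini (p := p) hP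
        (Subgroup.commutator_mem_commutator (Subgroup.mem_top y⁻¹) (Subgroup.mem_top x⁻¹))
      simpa [commutatorElement_def, mul_assoc] using this

include hP in
theorem quot_pow (v : P ⧸ frattini P) : v ^ p = 1 := by
  induction v using QuotientGroup.induction_on with
  | H x =>
    rw [← QuotientGroup.mk_pow, QuotientGroup.eq_one_iff]
    exact PGroupsBasic.pow_mem_frattini hP x

include hP in
theorem quot_ne_inv (hp2 : p ≠ 2) {v : P ⧸ frattini P} (hv : v ≠ 1) : v ≠ v⁻¹ := by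
  intro h
  have h1 : orderOf v = p := orderOf_eq_prime (quot_pow hP v) hv
  have h2 : orderOf v ∣ 2 := orderOf_dvd_of_pow_eq_one (by rw [pow_two]; nth_rw 2 [h]; simp)
  rw [h1, Nat.prime_dvd_prime_iff_eq hp.out Nat.prime_two] at h2
  exact hp2 h2

include hP in
theorem cop (hp2 : p ≠ 2) {J : Subgroup (MulAut P)} (hJ : ∀ a ∈ J, a ^ 2 = 1) (hJfin : Finite J)
    (K : Subgroup P) : (Nat.card J).Coprime (Nat.card K) := by
  haveI : Fact (Nat.Prime 2) := ⟨Nat.prime_two⟩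
  have h2 : IsPGroup 2 J := fun a => ⟨1, Subtype.ext (by simpa using hJ a a.2)⟩
  exact IsPGroup.coprime_card_of_ne 2 p (Ne.symm hp2) _ _ h2 (hP.to_subgroup K)

end

/-- Let p be an odd prime, P a finite p-group and I an elementary abelian subgroup of order 8 of Aut(P). Call T ∈ I, T ≠ 1, broad when its fixed-point subgroup C_P(T) is not cyclic. Suppose I has a proper subgroup I₀ containing no broad element such that the product of any two broad elements lies in I₀. Then P is abelian of rank exactly 3 (generated by three elements but not by two), there are exactly three broad elements and they generate I, and I₀ is exactly the set of products of two broad elements. -/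
theorem result
    {P : Type*} [Group P] [Finite P] (p : ℕ) (hp : p.Prime) (hp2 : p ≠ 2) (hP : IsPGroup p P)
    (I : Subgroup (MulAut P)) (hI : Cfsg.IsElementaryAbelian 2 I) (hI8 : Nat.card ↥I = 8)
    (I₀ : Subgroup (MulAut P)) (hI₀ : I₀ < I)
    (hdisj : ∀ T ∈ I₀, T ≠ 1 → ∃ g : P, ∀ x : P, (T x = x ↔ x ∈ Subgroup.zpowers g))
    (hprod : ∀ T ∈ I, ∀ T' ∈ I, T ≠ 1 → T' ≠ 1 → (¬ ∃ g : P, ∀ x : P, (T x = x ↔ x ∈ Subgroup.zpowers g)) →
      (¬ ∃ g : P, ∀ x : P, (T' x = x ↔ x ∈ Subgroup.zpowers g)) → T * T' ∈ I₀) :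
    IsMulCommutative P ∧ (∃ a b c : P, Subgroup.closure {a, b, c} = ⊤) ∧ (¬ ∃ a b : P, Subgroup.closure {a, b} = ⊤) ∧
      Nat.card {T : MulAut P // T ∈ I ∧ T ≠ 1 ∧ ¬ ∃ g : P, ∀ x : P, (T x = x ↔ x ∈ Subgroup.zpowers g)} = 3 ∧
      Subgroup.closure {T : MulAut P | T ∈ I ∧ T ≠ 1 ∧ ¬ ∃ g : P, ∀ x : P, (T x = x ↔ x ∈ Subgroup.zpowers g)} = I ∧
      (I₀ : Set (MulAut P)) = {S : MulAut P | ∃ T T' : MulAut P, T ∈ I ∧ T' ∈ I ∧ T ≠ 1 ∧ T' ≠ 1 ∧
        (¬ ∃ g : P, ∀ x : P, (T x = x ↔ x ∈ Subgroup.zpowers g)) ∧ (¬ ∃ g : P, ∀ x : P, (T' x = x ↔ x ∈ Subgroup.zpowers g)) ∧ S = T * T'} := by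
  classical
  haveI : Fact p.Prime := ⟨hp⟩
  change ∀ T ∈ I₀, T ≠ 1 → Cyc T at hdisj
  change ∀ T ∈ I, ∀ T' ∈ I, T ≠ 1 → T' ≠ 1 → ¬ Cyc T → ¬ Cyc T' → T * T' ∈ I₀ at hprod
  change IsMulCommutative P ∧ (∃ a b c : P, Subgroup.closure {a, b, c} = ⊤) ∧
    (¬ ∃ a b : P, Subgroup.closure {a, b} = ⊤) ∧
    Nat.card {T : MulAut P // T ∈ I ∧ T ≠ 1 ∧ ¬ Cyc T} = 3 ∧
    Subgroup.closure {T : MulAut P | T ∈ I ∧ T ≠ 1 ∧ ¬ Cyc T} = I ∧
    (I₀ : Set (MulAut P)) = {S : MulAut P | ∃ T T' : MulAut P, T ∈ I ∧ T' ∈ I ∧ T ≠ 1 ∧ T' ≠ 1 ∧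
      ¬ Cyc T ∧ ¬ Cyc T' ∧ S = T * T'}
  haveI : Finite I := Nat.finite_of_card_ne_zero (by omega)
  have hcomm : ∀ S ∈ I, ∀ T ∈ I, S * T = T * S := fun S hS T hT =>
    PGroupsBasic.comm_of_isMulCommutative hI.1 hS hT
  have hsq : ∀ T ∈ I, T * T = 1 := fun T hT => by rw [← pow_two]; exact hI.2 T hT
  have hne := fun {v : P ⧸ frattini P} (hv : v ≠ 1) => quot_ne_inv hP hp2 hv
  -- lifting fixed points
  have lift : ∀ T ∈ I, ∀ v : P ⧸ frattini P, act T v = v →
      ∃ k : P, T k = k ∧ (k : P ⧸ frattini P) = v := by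
    intro T hT v hv
    obtain ⟨x, rfl⟩ := QuotientGroup.mk_surjective v
    let Z : Subgroup (MulAut P) := Subgroup.zpowers T
    have hZI : Z ≤ I := Subgroup.zpowers_le.2 hT
    haveI : Finite Z := Finite.of_injective _ (Subgroup.inclusion_injective hZI)
    have hcop : (Nat.card Z).Coprime (Nat.card P) := by
      simpa using cop hP hp2 (fun a ha => hI.2 a (hZI ha)) inferInstance (⊤ : Subgroup P)
    obtain ⟨c, hc, hxc⟩ := CoprimeActionAut.exists_fixed_mem_coset Z.subtype hcop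
      (Or.inl (CoprimeAction.isSolvable_zpowers T)) (frattini P)
      (fun a s hs => by
        have := Subgroup.Characteristic.fixed (H := frattini P) inferInstance (a : MulAut P)
        rw [← this] at hs
        exact hs) x (by
        rintro ⟨a, ha⟩
        obtain ⟨n, rfl⟩ := Subgroup.mem_zpowers_iff.1 ha
        show x⁻¹ * (T ^ n) x ∈ frattini P
        rw [← QuotientGroup.eq]
        rcases Int.even_or_odd' n with ⟨m, rfl | rfl⟩
        · rw [zpow_mul, zpow_ofNat, hI.2 T hT, one_zpow]; rfl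
        · rw [zpow_add_one, zpow_mul, zpow_ofNat, hI.2 T hT, one_zpow, one_mul]
          exact hv.symm)
    exact ⟨c, hc ⟨T, Subgroup.mem_zpowers T⟩, (QuotientGroup.eq.2 hxc).symm⟩
  -- fixed points of a narrow element in the quotient
  have narrow : ∀ T ∈ I, Cyc T → ∀ v w : P ⧸ frattini P, v ≠ 1 → act T v = v → act T w = w →
      w ∈ Subgroup.zpowers v := by
    rintro T hT ⟨g, hg⟩ v w hv h1 h2
    obtain ⟨k, hk, rfl⟩ := lift T hT v h1
    obtain ⟨l, hl, rfl⟩ := lift T hT w h2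
    obtain ⟨a, rfl⟩ := Subgroup.mem_zpowers_iff.1 ((hg k).1 hk)
    obtain ⟨b, rfl⟩ := Subgroup.mem_zpowers_iff.1 ((hg l).1 hl)
    rw [QuotientGroup.mk_zpow] at hv ⊢
    rw [QuotientGroup.mk_zpow]
    have ho : orderOf (g : P ⧸ frattini P) = p :=
      orderOf_eq_prime (quot_pow hP _) (fun h => hv (by rw [h, one_zpow]))
    have hc : Nat.card (Subgroup.zpowers (g : P ⧸ frattini P)) = p := by
      rw [Nat.card_zpowers, ho]
    have hle : Subgroup.zpowers ((g : P ⧸ frattini P) ^ a) ≤ Subgroup.zpowers (g : P ⧸ frattini P) :=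
      Subgroup.zpowers_le.2 (Subgroup.zpow_mem_zpowers _ _)
    have heq : Subgroup.zpowers ((g : P ⧸ frattini P) ^ a) = Subgroup.zpowers (g : P ⧸ frattini P) := by
      refine Subgroup.eq_of_le_of_card_ge hle ?_
      rw [hc, Nat.card_zpowers, orderOf_eq_prime (quot_pow hP _) hv]
    rw [heq]
    exact Subgroup.zpow_mem_zpowers _ _
  -- simultaneous eigenvectors span the quotient
  have span : ∀ s : Finset I, ∀ v : P ⧸ frattini P,
      v ∈ Subgroup.closure {w : P ⧸ frattini P | ∀ T ∈ s, act T.1 w = w ∨ act T.1 w = w⁻¹} := by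
    intro s
    induction s using Finset.induction_on with
    | empty => exact fun v => Subgroup.subset_closure (fun T hT => absurd hT (Finset.notMem_empty T))
    | insert T s _ ih =>
      intro v
      refine (Subgroup.closure_le _).2 ?_ (ih v)
      intro w hw
      obtain ⟨m, hm⟩ : ∃ m, p + 1 = 2 * m := by
        obtain ⟨k, hk⟩ := hp.odd_of_ne_two hp2
        exact ⟨k + 1, by omega⟩
      have hT2 : act T.1 (act T.1 w) = w := by rw [← act_mul, hsq _ T.2, act_one]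
      set u := act T.1 w with hu
      have hsplit : w = (w * u) ^ m * (w * u⁻¹) ^ m := by
        rw [Commute.mul_pow (quot_comm hP _ _), Commute.mul_pow (quot_comm hP _ _), inv_pow]
        rw [quot_comm hP (w ^ m) ((u ^ m)⁻¹), mul_assoc (w ^ m), mul_inv_cancel_left, ← pow_add,
          ← two_mul, ← hm, pow_succ, quot_pow hP, one_mul]
      have hcase : ∀ S ∈ s, (act S.1 w = w ∧ act S.1 u = u) ∨
          (act S.1 w = w⁻¹ ∧ act S.1 u = u⁻¹) := by
        intro S hS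
        have h1 : act S.1 u = act T.1 (act S.1 w) := by
          rw [hu, ← act_mul, hcomm _ S.2 _ T.2, act_mul]
        rcases hw S hS with h | h
        · exact Or.inl ⟨h, by rw [h1, h]⟩
        · exact Or.inr ⟨h, by rw [h1, h, map_inv]⟩
      rw [hsplit]
      refine mul_mem (Subgroup.subset_closure ?_) (Subgroup.subset_closure ?_)
      · intro S hS
        rcases Finset.mem_insert.1 hS with rfl | hS
        · left; rw [map_pow, map_mul, hT2, ← hu, quot_comm hP]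
        · rcases hcase S hS with ⟨h1, h2⟩ | ⟨h1, h2⟩
          · left; rw [map_pow, map_mul, h1, h2]
          · right; rw [map_pow, map_mul, h1, h2, ← inv_pow, mul_inv_rev, quot_comm hP]
      · intro S hS
        rcases Finset.mem_insert.1 hS with rfl | hS
        · right; rw [map_pow, map_mul, map_inv, hT2, ← hu, ← inv_pow, mul_inv_rev, inv_inv]
        · rcases hcase S hS with ⟨h1, h2⟩ | ⟨h1, h2⟩
          · left; rw [map_pow, map_mul, map_inv, h1, h2]
          · right; rw [map_pow, map_mul, map_inv, h1, h2, ← inv_pow, mul_inv_rev, quot_comm hP]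
  haveI : Fintype I := Fintype.ofFinite I
  -- every non-trivial element negates an eigenvector
  let Eig : Set (P ⧸ frattini P) := {w | ∀ T ∈ I, act T w = w ∨ act T w = w⁻¹}
  have spanE : ∀ v : P ⧸ frattini P, v ∈ Subgroup.closure Eig := fun v =>
    Subgroup.closure_mono (k := Eig) (h := {w : P ⧸ frattini P | ∀ T ∈ (Finset.univ : Finset I), act T.1 w = w ∨ act T.1 w = w⁻¹}) (fun w hw T hT => hw ⟨T, hT⟩ (Finset.mem_univ _)) (span Finset.univ v)
  have neg : ∀ T ∈ I, T ≠ 1 → ∃ v ∈ Eig, v ≠ 1 ∧ act T v = v⁻¹ := by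
    intro T hT hT1
    by_contra hcon
    push Not at hcon
    apply hT1
    have hall : ∀ v, act T v = v := by
      intro v
      induction spanE v using Subgroup.closure_induction with
      | mem w hw =>
        rcases eq_or_ne w 1 with rfl | hw1
        · exact map_one _
        · exact (hw T hT).resolve_right (hcon w hw hw1)
      | one => exact map_one _
      | mul a b _ _ ha hb => rw [map_mul, ha, hb]
      | inv a _ ha => rw [map_inv, ha]
    ext k
    let Z : Subgroup (MulAut P) := Subgroup.zpowers T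
    have hZI : Z ≤ I := Subgroup.zpowers_le.2 hT
    haveI : Finite Z := Finite.of_injective _ (Subgroup.inclusion_injective hZI)
    refine CoprimeActionAut.eq_self_of_frattini Z.subtype
      (cop hP hp2 (fun a ha => hI.2 a (hZI ha)) inferInstance (frattini P)) ?_
      ⟨T, Subgroup.mem_zpowers T⟩ k
    rintro ⟨a, ha⟩ x
    obtain ⟨n, rfl⟩ := Subgroup.mem_zpowers_iff.1 ha
    show x⁻¹ * (T ^ n) x ∈ frattini P
    rw [← QuotientGroup.eq]
    rcases Int.even_or_odd' n with ⟨m, rfl | rfl⟩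
    · rw [zpow_mul, zpow_ofNat, hI.2 T hT, one_zpow]; rfl
    · rw [zpow_add_one, zpow_mul, zpow_ofNat, hI.2 T hT, one_zpow, one_mul]
      exact (hall x).symm
  -- kernels of eigenvectors
  have ker : ∀ v ∈ Eig, v ≠ 1 → ∀ S ∈ I, ∀ T ∈ I,
      (act (S * T) v = v ↔ (act S v = v ↔ act T v = v)) := by
    intro v hv hv1 S hS T hT
    rw [act_mul]
    rcases hv T hT with hb | hb <;> rw [hb] <;> rcases hv S hS with ha | ha <;>
      simp [ha, map_inv, (hne hv1).symm]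
  -- three independent eigenvectors
  have exKer : ∀ U : Subgroup (MulAut P), U ≤ I → Nat.card U ≥ 2 → ∃ T ∈ U, T ≠ 1 := by
    intro U hU h2
    by_contra hcon
    push Not at hcon
    have : U = ⊥ := (Subgroup.eq_bot_iff_forall U).2 hcon
    rw [this, Subgroup.card_bot] at h2
    omega
  have two : ∀ (v : P ⧸ frattini P), v ∈ Eig → ∀ U : Subgroup (MulAut P), U ≤ I →
      ∃ W : Subgroup (MulAut P), W ≤ U ∧ (∀ T ∈ W, act T v = v) ∧ Nat.card U ≤ 2 * Nat.card W := by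
    intro v hv U hU
    rcases eq_or_ne v 1 with rfl | hv1
    · exact ⟨U, le_rfl, fun T _ => map_one _, by omega⟩
    let W : Subgroup (MulAut P) :=
      { carrier := {T | T ∈ U ∧ act T v = v}
        one_mem' := ⟨one_mem _, act_one v⟩
        mul_mem' := fun {a b} ha hb => ⟨mul_mem ha.1 hb.1, by rw [act_mul, hb.2, ha.2]⟩
        inv_mem' := fun {a} ha => ⟨inv_mem ha.1, by
          nth_rw 1 [← ha.2]
          rw [← act_mul, inv_mul_cancel, act_one]⟩ }
    refine ⟨W, fun T hT => hT.1, fun T hT => hT.2, ?_⟩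
    by_cases hex : ∃ a ∈ U, act a v ≠ v
    · obtain ⟨a, haU, ha⟩ := hex
      haveI : Finite U := Finite.of_injective _ (Subgroup.inclusion_injective hU)
      let f : W ⊕ W → U := Sum.elim (fun w => ⟨w, w.2.1⟩) (fun w => ⟨a * w, mul_mem haU w.2.1⟩)
      have hf : Function.Surjective f := by
        rintro ⟨t, ht⟩
        by_cases h : act t v = v
        · exact ⟨Sum.inl ⟨t, ht, h⟩, rfl⟩
        · refine ⟨Sum.inr ⟨a * t, mul_mem haU ht, ?_⟩, Subtype.ext ?_⟩
          · exact (ker v hv hv1 a (hU haU) t (hU ht)).2 ⟨fun x => absurd x ha, fun x => absurd x h⟩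
          · show a * (a * t) = t
            rw [← mul_assoc, hsq a (hU haU), one_mul]
      haveI : Finite W :=
        Finite.of_injective (fun w : W => (⟨w, w.2.1⟩ : U)) (fun x y h => Subtype.ext (congrArg (fun z : U => (z : MulAut P)) h))
      calc Nat.card U ≤ Nat.card (W ⊕ W) := Nat.card_le_card_of_surjective f hf
        _ = 2 * Nat.card W := by rw [Nat.card_sum]; omega
    · push Not at hex
      have : W = U := le_antisymm (fun T hT => hT.1) (fun T hT => ⟨hT, hex T hT⟩)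
      rw [this]; omega
  obtain ⟨t₁, ht₁, ht₁1⟩ := exKer I le_rfl (by omega)
  obtain ⟨v₁, hv₁, hv₁1, htv₁⟩ := neg t₁ ht₁ ht₁1
  obtain ⟨W₁, hW₁, hW₁f, hW₁c⟩ := two v₁ hv₁ I le_rfl
  obtain ⟨t₂, ht₂, ht₂1⟩ := exKer W₁ hW₁ (by omega)
  obtain ⟨v₂, hv₂, hv₂1, htv₂⟩ := neg t₂ (hW₁ ht₂) ht₂1
  obtain ⟨W₂, hW₂, hW₂f, hW₂c⟩ := two v₂ hv₂ W₁ hW₁
  obtain ⟨e₃, he₃, he₃1⟩ := exKer W₂ (hW₂.trans hW₁) (by omega)
  obtain ⟨v₃, hv₃, hv₃1, h33⟩ := neg e₃ (hW₁ (hW₂ he₃)) he₃1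
  have he₃I : e₃ ∈ I := hW₁ (hW₂ he₃)
  have h31 : act e₃ v₁ = v₁ := hW₁f _ (hW₂ he₃)
  have h32 : act e₃ v₂ = v₂ := hW₂f _ he₃
  -- correct the second element
  obtain ⟨e₂, he₂I, h21, h22, h23⟩ : ∃ e ∈ I, act e v₁ = v₁ ∧ act e v₂ = v₂⁻¹ ∧ act e v₃ = v₃ := by
    rcases hv₃ t₂ (hW₁ ht₂) with h | h
    · exact ⟨t₂, hW₁ ht₂, hW₁f _ ht₂, htv₂, h⟩
    · refine ⟨t₂ * e₃, mul_mem (hW₁ ht₂) he₃I, ?_, ?_, ?_⟩
      · rw [act_mul, h31, hW₁f _ ht₂]
      · rw [act_mul, h32, htv₂]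
      · rw [act_mul, h33, map_inv, h, inv_inv]
  obtain ⟨e₁, he₁I, h11, h12, h13⟩ : ∃ e ∈ I, act e v₁ = v₁⁻¹ ∧ act e v₂ = v₂ ∧ act e v₃ = v₃ := by
    obtain ⟨s, hsI, hs1, hs2⟩ : ∃ s ∈ I, act s v₁ = v₁⁻¹ ∧ act s v₂ = v₂ := by
      rcases hv₂ t₁ ht₁ with h | h
      · exact ⟨t₁, ht₁, htv₁, h⟩
      · refine ⟨t₁ * e₂, mul_mem ht₁ he₂I, ?_, ?_⟩
        · rw [act_mul, h21, htv₁]
        · rw [act_mul, h22, map_inv, h, inv_inv]
    rcases hv₃ s hsI with h | h
    · exact ⟨s, hsI, hs1, hs2, h⟩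
    · refine ⟨s * e₃, mul_mem hsI he₃I, ?_, ?_, ?_⟩
      · rw [act_mul, h31, hs1]
      · rw [act_mul, h32, hs2]
      · rw [act_mul, h33, map_inv, h, inv_inv]
  have n1 : act e₁ v₁ ≠ v₁ := by rw [h11]; exact (hne hv₁1).symm
  have n2 : act e₂ v₂ ≠ v₂ := by rw [h22]; exact (hne hv₂1).symm
  have n3 : act e₃ v₃ ≠ v₃ := by rw [h33]; exact (hne hv₃1).symm
  -- signs
  let sgn : I → Bool × Bool × Bool := fun T =>
    (decide (act T.1 v₁ = v₁), decide (act T.1 v₂ = v₂), decide (act T.1 v₃ = v₃))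
  have sgn_bij : Function.Bijective sgn := by
    rw [Fintype.bijective_iff_surjective_and_card]
    refine ⟨?_, by rw [← Nat.card_eq_fintype_card, hI8]; rfl⟩
    have d1 := decide_eq_false n1
    have d2 := decide_eq_false n2
    have d3 := decide_eq_false n3
    have m12 : e₁ * e₂ ∈ I := mul_mem he₁I he₂I
    rintro ⟨a, b, c⟩
    cases a <;> cases b <;> cases c
    · refine ⟨⟨e₁ * e₂ * e₃, mul_mem m12 he₃I⟩, ?_⟩
      simp [sgn, ker _ hv₁ hv₁1 _ m12 _ he₃I, ker _ hv₂ hv₂1 _ m12 _ he₃I, ker _ hv₃ hv₃1 _ m12 _ he₃I,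
        ker _ hv₁ hv₁1 _ he₁I _ he₂I, ker _ hv₂ hv₂1 _ he₁I _ he₂I, ker _ hv₃ hv₃1 _ he₁I _ he₂I,
        h12, h13, h21, h23, h31, h32, n1, n2, n3]
    · refine ⟨⟨e₁ * e₂, m12⟩, ?_⟩
      simp [sgn, ker _ hv₁ hv₁1 _ he₁I _ he₂I, ker _ hv₂ hv₂1 _ he₁I _ he₂I,
        ker _ hv₃ hv₃1 _ he₁I _ he₂I, h12, h13, h21, h23, n1, n2]
    · refine ⟨⟨e₁ * e₃, mul_mem he₁I he₃I⟩, ?_⟩
      simp [sgn, ker _ hv₁ hv₁1 _ he₁I _ he₃I, ker _ hv₂ hv₂1 _ he₁I _ he₃I,
        ker _ hv₃ hv₃1 _ he₁I _ he₃I, h12, h13, h31, h32, n1, n3]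
    · exact ⟨⟨e₁, he₁I⟩, by simp [sgn, n1, h12, h13]⟩
    · refine ⟨⟨e₂ * e₃, mul_mem he₂I he₃I⟩, ?_⟩
      simp [sgn, ker _ hv₁ hv₁1 _ he₂I _ he₃I, ker _ hv₂ hv₂1 _ he₂I _ he₃I,
        ker _ hv₃ hv₃1 _ he₂I _ he₃I, h21, h23, h31, h32, n2, n3]
    · exact ⟨⟨e₂, he₂I⟩, by simp [sgn, n2, h21, h23]⟩
    · exact ⟨⟨e₃, he₃I⟩, by simp [sgn, n3, h31, h32]⟩
    · exact ⟨⟨1, one_mem I⟩, by simp [sgn, act_one]⟩
  have ext3 : ∀ S ∈ I, ∀ T ∈ I, (act S v₁ = v₁ ↔ act T v₁ = v₁) →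
      (act S v₂ = v₂ ↔ act T v₂ = v₂) → (act S v₃ = v₃ ↔ act T v₃ = v₃) → S = T := by
    intro S hS T hT a b c
    exact congrArg Subtype.val (sgn_bij.1 (a₁ := ⟨S, hS⟩) (a₂ := ⟨T, hT⟩) (by simp [sgn, a, b, c]))
  -- distinct eigenvectors fixed by a common element
  have broad : ∀ T ∈ I, ∀ v w : P ⧸ frattini P, v ≠ 1 → act T v = v → act T w = w →
      ∀ e ∈ I, act e v = v → act e w ≠ w → ¬ Cyc T := by
    intro T hT v w hv a b e he ev ew hc
    obtain ⟨n, rfl⟩ := Subgroup.mem_zpowers_iff.1 (narrow T hT hc v w hv a b)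
    exact ew (by rw [map_zpow, ev])
  have b1 : ¬ Cyc e₁ := broad e₁ he₁I v₂ v₃ hv₂1 h12 h13 e₃ he₃I h32 n3
  have b2 : ¬ Cyc e₂ := broad e₂ he₂I v₁ v₃ hv₁1 h21 h23 e₃ he₃I h31 n3
  have b3 : ¬ Cyc e₃ := broad e₃ he₃I v₁ v₂ hv₁1 h31 h32 e₂ he₂I h21 n2
  have z1 : e₁ ≠ 1 := fun h => n1 (by rw [h, act_one])
  have z2 : e₂ ≠ 1 := fun h => n2 (by rw [h, act_one])
  have i12 : e₁ * e₂ ∈ I₀ := hprod _ he₁I _ he₂I z1 z2 b1 b2
  have i13 : e₁ * e₃ ∈ I₀ := hprod _ he₁I _ he₃I z1 he₃1 b1 b3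
  have i23 : e₂ * e₃ ∈ I₀ := hprod _ he₂I _ he₃I z2 he₃1 b2 b3
  have gen : ∀ (J : Subgroup (MulAut P)), e₁ ∈ J → e₂ ∈ J → e₃ ∈ J → I ≤ J := by
    intro J j1 j2 j3 T hT
    have h : ∀ S ∈ J, S ∈ I → (act T v₁ = v₁ ↔ act S v₁ = v₁) → (act T v₂ = v₂ ↔ act S v₂ = v₂) →
        (act T v₃ = v₃ ↔ act S v₃ = v₃) → T ∈ J := fun S hS hSI a b c => ext3 T hT S hSI a b c ▸ hS
    by_cases a : act T v₁ = v₁ <;> by_cases b : act T v₂ = v₂ <;> by_cases c : act T v₃ = v₃
    · exact h 1 (one_mem J) (one_mem I) (by simp [a, act_one]) (by simp [b, act_one]) (by simp [c, act_one])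
    · exact h e₃ j3 he₃I (by simp [a, h31]) (by simp [b, h32]) (by simp [c, n3])
    · exact h e₂ j2 he₂I (by simp [a, h21]) (by simp [b, n2]) (by simp [c, h23])
    · exact h (e₂ * e₃) (mul_mem j2 j3) (mul_mem he₂I he₃I)
        (by simp [a, ker _ hv₁ hv₁1 _ he₂I _ he₃I, h21, h31])
        (by simp [b, ker _ hv₂ hv₂1 _ he₂I _ he₃I, n2, h32])
        (by simp [c, ker _ hv₃ hv₃1 _ he₂I _ he₃I, h23, n3])
    · exact h e₁ j1 he₁I (by simp [a, n1]) (by simp [b, h12]) (by simp [c, h13])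
    · exact h (e₁ * e₃) (mul_mem j1 j3) (mul_mem he₁I he₃I)
        (by simp [a, ker _ hv₁ hv₁1 _ he₁I _ he₃I, n1, h31])
        (by simp [b, ker _ hv₂ hv₂1 _ he₁I _ he₃I, h12, h32])
        (by simp [c, ker _ hv₃ hv₃1 _ he₁I _ he₃I, h13, n3])
    · exact h (e₁ * e₂) (mul_mem j1 j2) (mul_mem he₁I he₂I)
        (by simp [a, ker _ hv₁ hv₁1 _ he₁I _ he₂I, n1, h21])
        (by simp [b, ker _ hv₂ hv₂1 _ he₁I _ he₂I, h12, n2])
        (by simp [c, ker _ hv₃ hv₃1 _ he₁I _ he₂I, h13, h23])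
    · exact h (e₁ * e₂ * e₃) (mul_mem (mul_mem j1 j2) j3) (mul_mem (mul_mem he₁I he₂I) he₃I)
        (by simp [a, ker _ hv₁ hv₁1 _ (mul_mem he₁I he₂I) _ he₃I, ker _ hv₁ hv₁1 _ he₁I _ he₂I, n1, h21, h31])
        (by simp [b, ker _ hv₂ hv₂1 _ (mul_mem he₁I he₂I) _ he₃I, ker _ hv₂ hv₂1 _ he₁I _ he₂I, h12, n2, h32])
        (by simp [c, ker _ hv₃ hv₃1 _ (mul_mem he₁I he₂I) _ he₃I, ker _ hv₃ hv₃1 _ he₁I _ he₂I, h13, h23, n3])
  have e1out : e₁ ∉ I₀ := fun h => b1 (hdisj e₁ h z1)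
  -- generators of the fixed points of the three narrow products
  obtain ⟨g₁, hg₁⟩ := hdisj _ i23 (fun h => n2 (by
    have := ker _ hv₂ hv₂1 _ he₂I _ he₃I
    rw [h, act_one] at this
    exact (this.1 rfl).2 h32))
  obtain ⟨g₂, hg₂⟩ := hdisj _ i13 (fun h => n1 (by
    have := ker _ hv₁ hv₁1 _ he₁I _ he₃I
    rw [h, act_one] at this
    exact (this.1 rfl).2 h31))
  obtain ⟨g₃, hg₃⟩ := hdisj _ i12 (fun h => n1 (by
    have := ker _ hv₁ hv₁1 _ he₁I _ he₂I
    rw [h, act_one] at this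
    exact (this.1 rfl).2 h21))
  have a231 : act (e₂ * e₃) v₁ = v₁ := by rw [act_mul, h31, h21]
  have a132 : act (e₁ * e₃) v₂ = v₂ := by rw [act_mul, h32, h12]
  have a123 : act (e₁ * e₂) v₃ = v₃ := by rw [act_mul, h23, h13]
  -- every eigenvector is on one of the three lines
  have lines : ∀ w ∈ Eig, w ∈ Subgroup.zpowers v₁ ∨ w ∈ Subgroup.zpowers v₂ ∨ w ∈ Subgroup.zpowers v₃ := by
    intro w hw
    rcases eq_or_ne w 1 with rfl | hw1
    · exact Or.inl (one_mem _)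
    have l3 : (act e₁ w = w ↔ act e₂ w = w) → w ∈ Subgroup.zpowers v₃ := fun h =>
      narrow _ (mul_mem he₁I he₂I) ⟨g₃, hg₃⟩ v₃ w hv₃1 a123 ((ker w hw hw1 _ he₁I _ he₂I).2 h)
    have l2 : (act e₁ w = w ↔ act e₃ w = w) → w ∈ Subgroup.zpowers v₂ := fun h =>
      narrow _ (mul_mem he₁I he₃I) ⟨g₂, hg₂⟩ v₂ w hv₂1 a132 ((ker w hw hw1 _ he₁I _ he₃I).2 h)
    have l1 : (act e₂ w = w ↔ act e₃ w = w) → w ∈ Subgroup.zpowers v₁ := fun h =>
      narrow _ (mul_mem he₂I he₃I) ⟨g₁, hg₁⟩ v₁ w hv₁1 a231 ((ker w hw hw1 _ he₂I _ he₃I).2 h)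
    tauto
  -- the generators
  have gline : ∀ (T : MulAut P) (g : P) (v : P ⧸ frattini P), T ∈ I → (∀ x, T x = x ↔ x ∈ Subgroup.zpowers g) →
      v ≠ 1 → act T v = v → (g : P ⧸ frattini P) ≠ 1 ∧ v ∈ Subgroup.zpowers (g : P ⧸ frattini P) := by
    intro T g v hT hg hv ha
    obtain ⟨k, hk, rfl⟩ := lift T hT v ha
    obtain ⟨a, rfl⟩ := Subgroup.mem_zpowers_iff.1 ((hg k).1 hk)
    rw [QuotientGroup.mk_zpow] at hv ⊢
    exact ⟨fun h => hv (by rw [h, one_zpow]), Subgroup.zpow_mem_zpowers _ _⟩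
  obtain ⟨q1, hq1⟩ := gline _ g₁ v₁ (mul_mem he₂I he₃I) hg₁ hv₁1 a231
  obtain ⟨q2, hq2⟩ := gline _ g₂ v₂ (mul_mem he₁I he₃I) hg₂ hv₂1 a132
  obtain ⟨q3, hq3⟩ := gline _ g₃ v₃ (mul_mem he₁I he₂I) hg₃ hv₃1 a123
  have hgen : Subgroup.closure ({g₁, g₂, g₃} : Set P) = ⊤ := by
    apply frattini_nongenerating
    rw [eq_top_iff]
    intro x _
    have hx : (x : P ⧸ frattini P) ∈
        (Subgroup.closure ({g₁, g₂, g₃} : Set P)).map (QuotientGroup.mk' (frattini P)) := by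
      refine (Subgroup.closure_le _).2 ?_ (spanE x)
      intro w hw
      have inl : ∀ (g : P) (v : P ⧸ frattini P), g ∈ ({g₁, g₂, g₃} : Set P) →
          v ∈ Subgroup.zpowers (g : P ⧸ frattini P) → w ∈ Subgroup.zpowers v →
          w ∈ (Subgroup.closure ({g₁, g₂, g₃} : Set P)).map (QuotientGroup.mk' (frattini P)) := by
        intro g v hg hv hwv
        have h2 : Subgroup.zpowers v ≤ Subgroup.zpowers (g : P ⧸ frattini P) := Subgroup.zpowers_le.2 hv
        refine (Subgroup.zpowers_le.2 ?_) (h2 hwv)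
        exact ⟨g, Subgroup.subset_closure hg, rfl⟩
      rcases lines w hw with h | h | h
      · exact inl g₁ v₁ (by simp) hq1 h
      · exact inl g₂ v₂ (by simp) hq2 h
      · exact inl g₃ v₃ (by simp) hq3 h
    obtain ⟨y, hy, hyx⟩ := hx
    rw [show x = y * (y⁻¹ * x) by simp]
    exact mul_mem (Subgroup.mem_sup_left hy) (Subgroup.mem_sup_right (QuotientGroup.eq.1 hyx))
  -- signs on the generators
  have pm : ∀ (T : MulAut P) (g : P) (v : P ⧸ frattini P), (∀ x, T x = x ↔ x ∈ Subgroup.zpowers g) →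
      v ∈ Subgroup.zpowers (g : P ⧸ frattini P) → v ≠ 1 → T ∈ I → ∀ e ∈ I,
      (act e v = v → e g = g) ∧ (act e v = v⁻¹ → e g = g⁻¹) := by
    intro T g v hg hv hv1 hT e he
    have hTg : T g = g := (hg g).2 (Subgroup.mem_zpowers g)
    obtain ⟨a, ha⟩ := Subgroup.mem_zpowers_iff.1 ((hg (e g)).1 (by
      rw [← MulAut.mul_apply, hcomm T hT e he, MulAut.mul_apply, hTg]))
    have h2 : g ^ (a * a) = g := by
      rw [zpow_mul, ha, ← map_zpow, ha, ← MulAut.mul_apply, hsq e he, MulAut.one_apply]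
    have hda : (orderOf g : ℤ) ∣ (a - 1) * (a + 1) := by
      rw [show (a - 1) * (a + 1) = a * a - 1 by ring, orderOf_dvd_iff_zpow_eq_one, zpow_sub, h2]
      simp
    obtain ⟨n, hn⟩ := IsPGroup.iff_orderOf.1 hP g
    rw [hn, Nat.cast_pow] at hda
    have hpI : Prime (p : ℤ) := Nat.prime_iff_prime_int.1 hp
    have hev : act e v = v ^ a := by
      obtain ⟨b, rfl⟩ := Subgroup.mem_zpowers_iff.1 hv
      rw [map_zpow, act_mk, ← ha, QuotientGroup.mk_zpow, ← zpow_mul, ← zpow_mul, mul_comm]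
    have ov : orderOf v = p := orderOf_eq_prime (quot_pow hP v) hv1
    constructor
    · intro h
      have hd : (p : ℤ) ∣ a - 1 := by
        rw [← ov, orderOf_dvd_iff_zpow_eq_one, zpow_sub_one, ← hev, h, mul_inv_cancel]
      have h3 : (orderOf g : ℤ) ∣ a - 1 := by
        rw [hn, Nat.cast_pow]
        refine ((Prime.coprime_iff_not_dvd hpI).2 ?_).pow_left.dvd_of_dvd_mul_right hda
        intro hd2
        have h4 : (p : ℤ) ∣ 2 := by
          have := dvd_sub hd2 hd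
          rwa [show a + 1 - (a - 1) = (2 : ℤ) by ring] at this
        have := Nat.le_of_dvd (by norm_num) (by exact_mod_cast h4 : p ∣ 2)
        have := hp.two_le
        omega
      rw [orderOf_dvd_iff_zpow_eq_one, zpow_sub_one, ha, mul_inv_eq_one] at h3
      exact h3
    · intro h
      have hd : (p : ℤ) ∣ a + 1 := by
        rw [← ov, orderOf_dvd_iff_zpow_eq_one, zpow_add_one, ← hev, h, inv_mul_cancel]
      have h3 : (orderOf g : ℤ) ∣ a + 1 := by
        rw [hn, Nat.cast_pow]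
        refine ((Prime.coprime_iff_not_dvd hpI).2 ?_).pow_left.dvd_of_dvd_mul_left hda
        intro hd2
        have h4 : (p : ℤ) ∣ 2 := by
          have := dvd_sub hd hd2
          rwa [show a + 1 - (a - 1) = (2 : ℤ) by ring] at this
        have := Nat.le_of_dvd (by norm_num) (by exact_mod_cast h4 : p ∣ 2)
        have := hp.two_le
        omega
      rw [orderOf_dvd_iff_zpow_eq_one, zpow_add_one, ha, mul_eq_one_iff_eq_inv] at h3
      exact h3
  have r1 := pm _ g₁ v₁ hg₁ hq1 hv₁1 (mul_mem he₂I he₃I)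
  have r2 := pm _ g₂ v₂ hg₂ hq2 hv₂1 (mul_mem he₁I he₃I)
  have r3 := pm _ g₃ v₃ hg₃ hq3 hv₃1 (mul_mem he₁I he₂I)
  -- pairs of generators commute
  have pair : ∀ (a b c : P) (ea eb ec : MulAut P), ea ∈ I → eb ∈ I → ec ∈ I →
      (∀ x, (ea * eb) x = x ↔ x ∈ Subgroup.zpowers c) → ec c = c⁻¹ → ec a = a → ec b = b →
      (ea * eb) a = a⁻¹ → (ea * eb) b = b⁻¹ → a * b = b * a := by
    intro a b c ea eb ec ha hb hc hf hcc hca hcb hxa hxb
    let H : Subgroup P := Subgroup.closure {a, b}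
    have hinv : ∀ x ∈ H, (ea * eb) x ∈ H := by
      intro x hx
      have : H ≤ H.comap (ea * eb).toMonoidHom := by
        rw [Subgroup.closure_le]
        rintro y (rfl | rfl)
        · show (ea * eb) y ∈ H
          rw [hxa]; exact inv_mem (Subgroup.subset_closure (by simp))
        · show (ea * eb) y ∈ H
          rw [hxb]; exact inv_mem (Subgroup.subset_closure (by simp))
      exact this hx
    let φ : H →* H :=
      { toFun := fun x => ⟨(ea * eb) x, hinv x x.2⟩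
        map_one' := Subtype.ext (map_one _)
        map_mul' := fun x y => Subtype.ext (map_mul _ _ _) }
    have hfix : ∀ x ∈ H, ec x = x := by
      intro x hx
      induction hx using Subgroup.closure_induction with
      | mem y hy => rcases hy with rfl | rfl <;> assumption
      | one => exact map_one _
      | mul y z _ _ hy hz => rw [map_mul, hy, hz]
      | inv y _ hy => rw [map_inv, hy]
    have hff : MonoidHom.FixedPointFree φ := by
      rintro ⟨x, hx⟩ hx'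
      have hx2 : (ea * eb) x = x := congrArg Subtype.val hx'
      obtain ⟨n, rfl⟩ := Subgroup.mem_zpowers_iff.1 ((hf x).1 hx2)
      have h1 := hfix _ hx
      rw [map_zpow, hcc, inv_zpow] at h1
      have h2 : orderOf (c ^ n) ∣ 2 := by
        apply orderOf_dvd_of_pow_eq_one
        rw [pow_two]; nth_rw 1 [← h1]; exact inv_mul_cancel _
      obtain ⟨m, hm⟩ := IsPGroup.iff_orderOf.1 hP (c ^ n)
      rw [hm] at h2
      apply Subtype.ext
      show c ^ n = 1
      rcases Nat.eq_zero_or_pos m with rfl | hm0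
      · exact orderOf_eq_one_iff.1 (by rw [hm, pow_zero])
      · have := (Nat.prime_dvd_prime_iff_eq hp Nat.prime_two).1
          ((dvd_pow_self p hm0.ne').trans h2)
        exact absurd this hp2
    have hinvol : Function.Involutive φ := fun x => Subtype.ext (by
      show (ea * eb) ((ea * eb) x) = x
      rw [← MulAut.mul_apply, hsq _ (mul_mem ha hb), MulAut.one_apply])
    exact congrArg Subtype.val (hff.commute_all_of_involutive hinvol
      ⟨a, Subgroup.subset_closure (by simp)⟩ ⟨b, Subgroup.subset_closure (by simp)⟩).eq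
  have c12 : g₁ * g₂ = g₂ * g₁ := pair g₁ g₂ g₃ e₁ e₂ e₃ he₁I he₂I he₃I hg₃
    ((r3 e₃ he₃I).2 h33) ((r1 e₃ he₃I).1 h31) ((r2 e₃ he₃I).1 h32)
    (by rw [MulAut.mul_apply, (r1 e₂ he₂I).1 h21, (r1 e₁ he₁I).2 h11])
    (by rw [MulAut.mul_apply, (r2 e₂ he₂I).2 h22, map_inv, (r2 e₁ he₁I).1 h12])
  have c13 : g₁ * g₃ = g₃ * g₁ := pair g₁ g₃ g₂ e₁ e₃ e₂ he₁I he₃I he₂I hg₂
    ((r2 e₂ he₂I).2 h22) ((r1 e₂ he₂I).1 h21) ((r3 e₂ he₂I).1 h23)
    (by rw [MulAut.mul_apply, (r1 e₃ he₃I).1 h31, (r1 e₁ he₁I).2 h11])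
    (by rw [MulAut.mul_apply, (r3 e₃ he₃I).2 h33, map_inv, (r3 e₁ he₁I).1 h13])
  have c23 : g₂ * g₃ = g₃ * g₂ := pair g₂ g₃ g₁ e₂ e₃ e₁ he₂I he₃I he₁I hg₁
    ((r1 e₁ he₁I).2 h11) ((r2 e₁ he₁I).1 h12) ((r3 e₁ he₁I).1 h13)
    (by rw [MulAut.mul_apply, (r2 e₃ he₃I).1 h32, (r2 e₂ he₂I).2 h22])
    (by rw [MulAut.mul_apply, (r3 e₃ he₃I).2 h33, map_inv, (r3 e₂ he₂I).1 h23])
  have hab : IsMulCommutative P := by
    have := Subgroup.isMulCommutative_closure (k := ({g₁, g₂, g₃} : Set P)) (by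
      rintro x (rfl | rfl | rfl) y (rfl | rfl | rfl) <;> first | rfl | assumption | (symm; assumption))
    rw [hgen] at this
    exact ⟨⟨fun x y => congrArg Subtype.val
      (this.is_comm.comm ⟨x, Subgroup.mem_top x⟩ ⟨y, Subgroup.mem_top y⟩)⟩⟩
  -- the product of all three is narrow
  have hτ : Cyc (e₁ * e₂ * e₃) := by
    refine ⟨1, fun x => ⟨fun hx => ?_, fun hx => ?_⟩⟩
    · have hinv : ∀ y, (e₁ * e₂ * e₃) y = y⁻¹ := by
        intro y
        have hy : y ∈ Subgroup.closure ({g₁, g₂, g₃} : Set P) := hgen ▸ Subgroup.mem_top y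
        induction hy using Subgroup.closure_induction with
        | mem z hz =>
          rcases hz with rfl | rfl | rfl
          · rw [MulAut.mul_apply, MulAut.mul_apply, (r1 e₃ he₃I).1 h31, (r1 e₂ he₂I).1 h21, (r1 e₁ he₁I).2 h11]
          · rw [MulAut.mul_apply, MulAut.mul_apply, (r2 e₃ he₃I).1 h32, (r2 e₂ he₂I).2 h22, map_inv, (r2 e₁ he₁I).1 h12]
          · rw [MulAut.mul_apply, MulAut.mul_apply, (r3 e₃ he₃I).2 h33, map_inv, map_inv, (r3 e₂ he₂I).1 h23, (r3 e₁ he₁I).1 h13]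
        | one => simp
        | mul a b _ _ ha hb => rw [map_mul, ha, hb, mul_inv_rev, hab.is_comm.comm]
        | inv a _ ha => rw [map_inv, ha]
      rw [hinv] at hx
      have h2 : orderOf x ∣ 2 := orderOf_dvd_of_pow_eq_one (by
        rw [pow_two]; nth_rw 1 [← hx]; exact inv_mul_cancel x)
      obtain ⟨m, hm⟩ := IsPGroup.iff_orderOf.1 hP x
      rw [hm] at h2
      rcases Nat.eq_zero_or_pos m with rfl | hm0
      · rw [orderOf_eq_one_iff.1 (by rw [hm, pow_zero] : orderOf x = 1)]; exact one_mem _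
      · exact absurd ((Nat.prime_dvd_prime_iff_eq hp Nat.prime_two).1
          ((dvd_pow_self p hm0.ne').trans h2)) hp2
    · obtain ⟨n, rfl⟩ := Subgroup.mem_zpowers_iff.1 hx
      simp
  -- the broad elements
  have classify : ∀ T, (T ∈ I ∧ T ≠ 1 ∧ ¬ Cyc T) ↔ T ∈ ({e₁, e₂, e₃} : Set (MulAut P)) := by
    intro T
    constructor
    · rintro ⟨hT, hT1, hTb⟩
      have h : ∀ S ∈ I, (act T v₁ = v₁ ↔ act S v₁ = v₁) → (act T v₂ = v₂ ↔ act S v₂ = v₂) →
          (act T v₃ = v₃ ↔ act S v₃ = v₃) → T = S := fun S hS => ext3 T hT S hS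
      by_cases a : act T v₁ = v₁ <;> by_cases b : act T v₂ = v₂ <;> by_cases c : act T v₃ = v₃
      · exact absurd (h 1 (one_mem I) (by simp [a, act_one]) (by simp [b, act_one]) (by simp [c, act_one])) hT1
      · simp [h e₃ he₃I (by simp [a, h31]) (by simp [b, h32]) (by simp [c, n3])]
      · simp [h e₂ he₂I (by simp [a, h21]) (by simp [b, n2]) (by simp [c, h23])]
      · exact absurd ((h (e₂ * e₃) (mul_mem he₂I he₃I)
          (by simp [a, ker _ hv₁ hv₁1 _ he₂I _ he₃I, h21, h31])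
          (by simp [b, ker _ hv₂ hv₂1 _ he₂I _ he₃I, n2, h32])
          (by simp [c, ker _ hv₃ hv₃1 _ he₂I _ he₃I, h23, n3])) ▸ ⟨g₁, hg₁⟩) hTb
      · simp [h e₁ he₁I (by simp [a, n1]) (by simp [b, h12]) (by simp [c, h13])]
      · exact absurd ((h (e₁ * e₃) (mul_mem he₁I he₃I)
          (by simp [a, ker _ hv₁ hv₁1 _ he₁I _ he₃I, n1, h31])
          (by simp [b, ker _ hv₂ hv₂1 _ he₁I _ he₃I, h12, h32])
          (by simp [c, ker _ hv₃ hv₃1 _ he₁I _ he₃I, h13, n3])) ▸ ⟨g₂, hg₂⟩) hTb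
      · exact absurd ((h (e₁ * e₂) (mul_mem he₁I he₂I)
          (by simp [a, ker _ hv₁ hv₁1 _ he₁I _ he₂I, n1, h21])
          (by simp [b, ker _ hv₂ hv₂1 _ he₁I _ he₂I, h12, n2])
          (by simp [c, ker _ hv₃ hv₃1 _ he₁I _ he₂I, h13, h23])) ▸ ⟨g₃, hg₃⟩) hTb
      · exact absurd ((h (e₁ * e₂ * e₃) (mul_mem (mul_mem he₁I he₂I) he₃I)
          (by simp [a, ker _ hv₁ hv₁1 _ (mul_mem he₁I he₂I) _ he₃I, ker _ hv₁ hv₁1 _ he₁I _ he₂I, n1, h21, h31])
          (by simp [b, ker _ hv₂ hv₂1 _ (mul_mem he₁I he₂I) _ he₃I, ker _ hv₂ hv₂1 _ he₁I _ he₂I, h12, n2, h32])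
          (by simp [c, ker _ hv₃ hv₃1 _ (mul_mem he₁I he₂I) _ he₃I, ker _ hv₃ hv₃1 _ he₁I _ he₂I, h13, h23, n3])) ▸ hτ) hTb
    · rintro (rfl | rfl | rfl)
      · exact ⟨he₁I, z1, b1⟩
      · exact ⟨he₂I, z2, b2⟩
      · exact ⟨he₃I, he₃1, b3⟩
  have d12 : e₁ ≠ e₂ := fun h => n1 (h ▸ h21)
  have d13 : e₁ ≠ e₃ := fun h => n1 (h ▸ h31)
  have d23 : e₂ ≠ e₃ := fun h => n2 (h ▸ h32)
  refine ⟨hab, ⟨g₁, g₂, g₃, hgen⟩, ?_, ?_, ?_, ?_⟩
  · rintro ⟨a, b, hgab⟩
    let A : Subgroup (P ⧸ frattini P) := Subgroup.zpowers (a : P ⧸ frattini P)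
    haveI : ∀ K : Subgroup (P ⧸ frattini P), K.Normal := fun K =>
      ⟨fun n hn g => by rw [quot_comm hP g n, mul_inv_cancel_right]; exact hn⟩
    let f : Fin p × Fin p → P ⧸ frattini P := fun ij =>
      (a : P ⧸ frattini P) ^ (ij.1 : ℕ) * (b : P ⧸ frattini P) ^ (ij.2 : ℕ)
    have hsurj : ∀ v : P ⧸ frattini P, ∃ m n : ℕ,
        v = (a : P ⧸ frattini P) ^ m * (b : P ⧸ frattini P) ^ n := by
      intro v
      induction v using QuotientGroup.induction_on with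
      | H x =>
        have hx : x ∈ Subgroup.closure ({a, b} : Set P) := hgab ▸ Subgroup.mem_top x
        induction hx using Subgroup.closure_induction with
        | mem z hz =>
          rcases hz with rfl | rfl
          · exact ⟨1, 0, by simp⟩
          · exact ⟨0, 1, by simp⟩
        | one => exact ⟨0, 0, by simp⟩
        | mul y z _ _ hy hz =>
          obtain ⟨m, n, hy⟩ := hy
          obtain ⟨m', n', hz⟩ := hz
          refine ⟨m + m', n + n', ?_⟩
          rw [QuotientGroup.mk_mul, hy, hz, pow_add, pow_add]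
          exact Commute.mul_mul_mul_comm (quot_comm hP _ _) _ _
        | inv y _ hy =>
          obtain ⟨m, n, hy⟩ := hy
          refine ⟨(p - 1) * m, (p - 1) * n, ?_⟩
          have hi : ∀ z : P ⧸ frattini P, z⁻¹ = z ^ (p - 1) := fun z =>
            inv_eq_of_mul_eq_one_right (by
              rw [← pow_succ', Nat.sub_add_cancel hp.one_le, quot_pow hP])
          rw [QuotientGroup.mk_inv, hy, hi, Commute.mul_pow (quot_comm hP _ _), ← pow_mul, ← pow_mul,
            mul_comm m, mul_comm n]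
    have hf : Function.Surjective f := by
      intro v
      obtain ⟨m, n, rfl⟩ := hsurj v
      refine ⟨(⟨m % p, Nat.mod_lt _ hp.pos⟩, ⟨n % p, Nat.mod_lt _ hp.pos⟩), ?_⟩
      simp only [f]
      rw [← pow_eq_pow_mod m (quot_pow hP _), ← pow_eq_pow_mod n (quot_pow hP _)]
    have hup : Nat.card (P ⧸ frattini P) ≤ p * p := by
      simpa using Nat.card_le_card_of_surjective f hf
    have hlow : ∀ (K : Subgroup (P ⧸ frattini P)) (v : P ⧸ frattini P) (e : MulAut P),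
        (∀ w ∈ K, act e w = w) → act e v ≠ v → Nat.card K * p ≤ Nat.card ↥(K ⊔ Subgroup.zpowers v) := by
      intro K v e hK hv
      have hlt : K < K ⊔ Subgroup.zpowers v := by
        refine lt_of_le_of_ne le_sup_left (fun h => hv (hK v ?_))
        rw [h]; exact Subgroup.mem_sup_right (Subgroup.mem_zpowers v)
      obtain ⟨i, hi⟩ := (IsPGroup.iff_card.1 ((hP.to_quotient (frattini P)).to_subgroup K))
      obtain ⟨j, hj⟩ := (IsPGroup.iff_card.1 ((hP.to_quotient (frattini P)).to_subgroup (K ⊔ Subgroup.zpowers v)))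
      have hcl : Nat.card K < Nat.card ↥(K ⊔ Subgroup.zpowers v) :=
        by
        rcases (Subgroup.card_le_of_le hlt.le).lt_or_eq with h | h
        · exact h
        · exact absurd (Subgroup.eq_of_le_of_card_ge hlt.le h.ge) hlt.ne
      rw [hi, hj] at hcl ⊢
      rw [← pow_succ]
      exact Nat.pow_le_pow_right hp.pos ((Nat.pow_lt_pow_iff_right hp.one_lt).1 hcl)
    have hA : ∀ w ∈ Subgroup.zpowers v₁, act e₂ w = w ∧ act e₃ w = w := by
      intro w hw
      obtain ⟨n, rfl⟩ := Subgroup.mem_zpowers_iff.1 hw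
      exact ⟨by rw [map_zpow, h21], by rw [map_zpow, h31]⟩
    have hB : ∀ w ∈ Subgroup.zpowers v₁ ⊔ Subgroup.zpowers v₂, act e₃ w = w := by
      intro w hw
      have : Subgroup.zpowers v₁ ⊔ Subgroup.zpowers v₂ ≤ (act e₃).eqLocus (MonoidHom.id _) := by
        refine sup_le (Subgroup.zpowers_le.2 ?_) (Subgroup.zpowers_le.2 ?_)
        · exact h31
        · exact h32
      exact this hw
    have c1 : Nat.card (Subgroup.zpowers v₁) = p := by
      rw [Nat.card_zpowers, orderOf_eq_prime (quot_pow hP _) hv₁1]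
    have c2 := hlow _ v₂ e₂ (fun w hw => (hA w hw).1) n2
    have c3 := hlow _ v₃ e₃ hB n3
    have c4 := Subgroup.card_le_card_group (Subgroup.zpowers v₁ ⊔ Subgroup.zpowers v₂ ⊔ Subgroup.zpowers v₃)
    rw [c1] at c2
    have := hp.two_le
    nlinarith
  · rw [Nat.card_congr (Equiv.subtypeEquivRight classify)]
    show Nat.card ↥({e₁, e₂, e₃} : Set (MulAut P)) = 3
    rw [Nat.card_coe_set_eq]
    exact Set.ncard_eq_three.2 ⟨e₁, e₂, e₃, d12, d13, d23, rfl⟩
  · refine le_antisymm ((Subgroup.closure_le _).2 fun T hT => hT.1) (gen _ ?_ ?_ ?_)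
    · exact Subgroup.subset_closure ((classify e₁).2 (by simp))
    · exact Subgroup.subset_closure ((classify e₂).2 (by simp))
    · exact Subgroup.subset_closure ((classify e₃).2 (by simp))
  · ext S
    constructor
    · intro hS
      have hSI : S ∈ I := hI₀.le hS
      have mk : ∀ T T', T ∈ ({e₁, e₂, e₃} : Set (MulAut P)) → T' ∈ ({e₁, e₂, e₃} : Set (MulAut P)) →
          S = T * T' → ∃ T T' : MulAut P, T ∈ I ∧ T' ∈ I ∧ T ≠ 1 ∧ T' ≠ 1 ∧ ¬ Cyc T ∧ ¬ Cyc T' ∧ S = T * T' :=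
        fun T T' a b c => ⟨T, T', ((classify T).2 a).1, ((classify T').2 b).1, ((classify T).2 a).2.1,
          ((classify T').2 b).2.1, ((classify T).2 a).2.2, ((classify T').2 b).2.2, c⟩
      have h : ∀ X ∈ I, (act S v₁ = v₁ ↔ act X v₁ = v₁) → (act S v₂ = v₂ ↔ act X v₂ = v₂) →
          (act S v₃ = v₃ ↔ act X v₃ = v₃) → S = X := fun X hX => ext3 S hSI X hX
      have e2out : e₂ ∉ I₀ := fun h => b2 (hdisj e₂ h z2)
      have e3out : e₃ ∉ I₀ := fun h => b3 (hdisj e₃ h he₃1)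
      by_cases a : act S v₁ = v₁ <;> by_cases b : act S v₂ = v₂ <;> by_cases c : act S v₃ = v₃
      · exact mk e₁ e₁ (by simp) (by simp) (by
          rw [hsq e₁ he₁I]
          exact h 1 (one_mem I) (by simp [a, act_one]) (by simp [b, act_one]) (by simp [c, act_one]))
      · exact absurd (h e₃ he₃I (by simp [a, h31]) (by simp [b, h32]) (by simp [c, n3]) ▸ hS) e3out
      · exact absurd (h e₂ he₂I (by simp [a, h21]) (by simp [b, n2]) (by simp [c, h23]) ▸ hS) e2out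
      · exact mk e₂ e₃ (by simp) (by simp) (h (e₂ * e₃) (mul_mem he₂I he₃I)
          (by simp [a, ker _ hv₁ hv₁1 _ he₂I _ he₃I, h21, h31])
          (by simp [b, ker _ hv₂ hv₂1 _ he₂I _ he₃I, n2, h32])
          (by simp [c, ker _ hv₃ hv₃1 _ he₂I _ he₃I, h23, n3]))
      · exact absurd (h e₁ he₁I (by simp [a, n1]) (by simp [b, h12]) (by simp [c, h13]) ▸ hS) e1out
      · exact mk e₁ e₃ (by simp) (by simp) (h (e₁ * e₃) (mul_mem he₁I he₃I)
          (by simp [a, ker _ hv₁ hv₁1 _ he₁I _ he₃I, n1, h31])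
          (by simp [b, ker _ hv₂ hv₂1 _ he₁I _ he₃I, h12, h32])
          (by simp [c, ker _ hv₃ hv₃1 _ he₁I _ he₃I, h13, n3]))
      · exact mk e₁ e₂ (by simp) (by simp) (h (e₁ * e₂) (mul_mem he₁I he₂I)
          (by simp [a, ker _ hv₁ hv₁1 _ he₁I _ he₂I, n1, h21])
          (by simp [b, ker _ hv₂ hv₂1 _ he₁I _ he₂I, h12, n2])
          (by simp [c, ker _ hv₃ hv₃1 _ he₁I _ he₂I, h13, h23]))
      · exfalso
        have hSe := h (e₁ * e₂ * e₃) (mul_mem (mul_mem he₁I he₂I) he₃I)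
          (by simp [a, ker _ hv₁ hv₁1 _ (mul_mem he₁I he₂I) _ he₃I, ker _ hv₁ hv₁1 _ he₁I _ he₂I, n1, h21, h31])
          (by simp [b, ker _ hv₂ hv₂1 _ (mul_mem he₁I he₂I) _ he₃I, ker _ hv₂ hv₂1 _ he₁I _ he₂I, h12, n2, h32])
          (by simp [c, ker _ hv₃ hv₃1 _ (mul_mem he₁I he₂I) _ he₃I, ker _ hv₃ hv₃1 _ he₁I _ he₂I, h13, h23, n3])
        apply e3out
        have h4 := mul_mem (inv_mem i12) hS
        rwa [hSe, inv_mul_cancel_left] at h4
    · rintro ⟨T, T', hT, hT', hT1, hT'1, hTb, hT'b, rfl⟩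
      exact hprod T hT T' hT' hT1 hT'1 hTb hT'b

end Cfsg.Agent.S4412
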