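import Cfsg.Statements.S4413
import Cfsg.Agent.Lib.ExtraspecialTwoOut
import Cfsg.Agent.S0824

set_option autoImplicit false
open Cfsg

namespace Cfsg.Agent.S4413

/-- Let P be an extraspecial 2-group of order 32 with no elementary abelian subgroup of order 8 (the central product of a dihedral and a quaternion group of order 8). Then the inner automorphism group of P has order 16 and the outer automorphism group Aut(P)/Inn(P) is isomorphic to the symmetric group of degree 5; in particular Aut(P) has order 1920. -/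
theorem result {P : Type*} [Group P] [Finite P]
    (hex : Cfsg.IsExtraspecial 2 P) (h32 : Nat.card P = 32)
    (hminus : ∀ A : Subgroup P, Cfsg.IsElementaryAbelian 2 A → Nat.card ↥A ≤ 4)
    [(MulAut.conj : P →* MulAut P).range.Normal] :
    Nat.card ↥(MulAut.conj : P →* MulAut P).range = 16 ∧ Nat.card (MulAut P) = 1920 ∧
      Nonempty ((MulAut P ⧸ (MulAut.conj : P →* MulAut P).range) ≃* Equiv.Perm (Fin 5)) := by
  classical
  obtain ⟨e⟩ : Nonempty (P ≃* ExtraspecialTwoOut.Model (ExtraspecialTwoOut.Bminus 1)) := by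
    rcases ExtraspecialTwoOut.exists_iso hex 2 (by norm_num) (by rw [h32]; norm_num) with ⟨⟨e⟩⟩ | h
    · exfalso
      obtain ⟨A, hA, hc⟩ := ExtraspecialTwoOut.elementary_congr e.symm (ExtraspecialTwoOut.elementary_plus 2)
      have := hminus A hA
      omega
    · exact h
  obtain ⟨e₁⟩ := ExtraspecialTwoOut.out_congr e
  obtain ⟨e₂⟩ := ExtraspecialTwoOut.model_out (ExtraspecialTwoOut.nondeg_minus 1)
  obtain ⟨e₃⟩ := Cfsg.Agent.S0824.result (F := ZMod 2) (ZMod.card 2)
  rw [← ExtraspecialTwoOut.qd_minus] at e₃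
  have f : (MulAut P ⧸ (MulAut.conj : P →* MulAut P).range) ≃* Equiv.Perm (Fin 5) :=
    e₁.trans (e₂.trans e₃)
  have hI : Nat.card ↥(MulAut.conj : P →* MulAut P).range = 16 := by
    have hker : (MulAut.conj : P →* MulAut P).ker = Subgroup.center P := by
      ext g
      rw [MonoidHom.mem_ker, Subgroup.mem_center_iff, MulEquiv.ext_iff]
      simp only [MulAut.conj_apply, MulAut.one_apply, mul_inv_eq_iff_eq_mul]
      exact ⟨fun h x => (h x).symm, fun h x => (h x).symm⟩
    have h := Subgroup.card_mul_index (MulAut.conj : P →* MulAut P).ker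
    rw [Subgroup.index_ker, hker, hex.2, h32] at h
    omega
  refine ⟨hI, ?_, ⟨f⟩⟩
  rw [Subgroup.card_eq_card_quotient_mul_card_subgroup (MulAut.conj : P →* MulAut P).range, hI,
    Nat.card_congr f.toEquiv, Nat.card_perm, Nat.card_fin]
  decide

end Cfsg.Agent.S4413
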