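import Cfsg.Statements.S4414
import Cfsg.Agent.Lib.ModuleSupports56

set_option autoImplicit false
open Cfsg

namespace Cfsg.Agent.S4414

/-- Let S be a finite solvable group whose order is divisible only by the primes 2, p, q (p, q distinct odd primes), with a Sylow system S₂, S_p, S_q (pairwise permutable Sylow subgroups) such that: S_p is a minimal normal subgroup of S of order p or p²; S_q has order q and [S_p, S_q] = S_p; and O₂(S) = 1. Let E be an irreducible module for S over the field with two elements on which S_p acts faithfully, and E₀ the subspace of fixed points of S₂. Then either E₀ has at least 8 elements, or E₀ has exactly 4 elements and S_q does not leave E₀ invariant. -/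
theorem result {S : Type*} [Group S] [Finite S]
    [Group.IsSolvable S] (p q : ℕ) (hp : p.Prime) (hq : q.Prime) (hp2 : p ≠ 2) (hq2 : q ≠ 2) (hpq : p ≠ q)
    (hπ : ∀ r : ℕ, r.Prime → r ∣ Nat.card S → r = 2 ∨ r = p ∨ r = q)
    (S₂ : Sylow 2 S) (Sp : Sylow p S) (Sq : Sylow q S)
    (h2q : Nat.card ↥((S₂ : Subgroup S) ⊔ (Sq : Subgroup S)) = Nat.card ↥S₂ * Nat.card ↥Sq)
    (h2p : Nat.card ↥((S₂ : Subgroup S) ⊔ (Sp : Subgroup S)) = Nat.card ↥S₂ * Nat.card ↥Sp)
    (hpq' : Nat.card ↥((Sp : Subgroup S) ⊔ (Sq : Subgroup S)) = Nat.card ↥Sp * Nat.card ↥Sq)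
    (hSpN : (Sp : Subgroup S).Normal) (hSpmin : ∀ N : Subgroup S, N.Normal → N ≤ (Sp : Subgroup S) → N = ⊥ ∨ N = (Sp : Subgroup S))
    (hSpcard : Nat.card ↥Sp = p ∨ Nat.card ↥Sp = p ^ 2)
    (hSq : Nat.card ↥Sq = q) (hcomm : ⁅(Sp : Subgroup S), (Sq : Subgroup S)⁆ = (Sp : Subgroup S))
    (hO2 : Cfsg.pCore 2 S = ⊥)
    {E : Type*} [AddCommGroup E] [Module (ZMod 2) E] [Finite E] (ρ : Representation (ZMod 2) S E) (hE : Nontrivial E)
    (hirr : ∀ N : Submodule (ZMod 2) E, (∀ s : S, ∀ m ∈ N, ρ s m ∈ N) → N = ⊥ ∨ N = ⊤)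
    (hfaith : ∀ x ∈ (Sp : Subgroup S), ρ x = 1 → x = 1) :
    8 ≤ Nat.card {v : E // ∀ s ∈ (S₂ : Subgroup S), ρ s v = v} ∨
      (Nat.card {v : E // ∀ s ∈ (S₂ : Subgroup S), ρ s v = v} = 4 ∧
        ∃ x ∈ (Sq : Subgroup S), ∃ v : E, (∀ s ∈ (S₂ : Subgroup S), ρ s v = v) ∧ ¬ ∀ s ∈ (S₂ : Subgroup S), ρ s (ρ x v) = ρ x v) := by
  classical
  change Nat.card ↥(Sp : Subgroup S) = p ∨ Nat.card ↥(Sp : Subgroup S) = p ^ 2 at hSpcard
  change Nat.card ↥(Sq : Subgroup S) = q at hSq
  haveI : Fact p.Prime := ⟨hp⟩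
  haveI : Fact q.Prime := ⟨hq⟩
  haveI : Fintype ↥(Sp : Subgroup S) := Fintype.ofFinite _
  haveI := hSpN
  haveI := hE
  haveI : Module.Finite (ZMod 2) E := Module.Finite.of_finite
  let b := Module.finBasis (ZMod 2) E
  let R : S →* Matrix _ _ (ZMod 2) := (LinearMap.toMatrixAlgEquiv b).toMonoidHom.comp ρ
  have hR : ∀ (s : S) (v : E), Matrix.mulVec (R s) (b.equivFun v) = b.equivFun (ρ s v) := fun s v =>
    LinearMap.toMatrix_mulVec_repr b b (ρ s) v
  haveI : Nonempty (Fin (Module.finrank (ZMod 2) E)) := ⟨⟨0, Module.finrank_pos⟩⟩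
  have hodd : Odd (Fintype.card ↥(Sp : Subgroup S)) := by
    rw [← Nat.card_eq_fintype_card]
    rcases hSpcard with h | h <;> rw [h]
    · exact hp.odd_of_ne_two hp2
    · exact (hp.odd_of_ne_two hp2).pow
  have hone : 1 < Nat.card ↥(Sp : Subgroup S) := by
    rcases hSpcard with h | h <;> rw [h]
    · exact hp.one_lt
    · exact Nat.one_lt_pow two_ne_zero hp.one_lt
  have hc : ∀ a b : ↥(Sp : Subgroup S), a * b = b * a := by
    rcases hSpcard with h | h
    · haveI := isCyclic_of_prime_card h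
      exact (IsCyclic.commGroup (α := ↥(Sp : Subgroup S))).mul_comm
    · exact IsPGroup.commutative_of_card_eq_prime_sq h
  have hfixE : ∀ v : E, (∀ a ∈ (Sp : Subgroup S), ρ a v = v) → v = 0 := by
    let U : Submodule (ZMod 2) E :=
      { carrier := {v | ∀ a ∈ (Sp : Subgroup S), ρ a v = v}
        zero_mem' := fun a _ => map_zero _
        add_mem' := fun {x y} hx hy a ha => by rw [map_add, hx a ha, hy a ha]
        smul_mem' := fun c {x} hx a ha => by rw [map_smul, hx a ha] }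
    rcases hirr U (fun s v hv a ha => by
      have h1 := hv (s⁻¹ * a * s⁻¹⁻¹) (hSpN.conj_mem a ha s⁻¹)
      conv_rhs => rw [← h1]
      rw [← Module.End.mul_apply, ← Module.End.mul_apply, ← map_mul, ← map_mul]
      congr 2
      group) with hU | hU
    · intro v hv
      exact (Submodule.mem_bot (ZMod 2)).1 (hU ▸ (hv : v ∈ U))
    · exfalso
      obtain ⟨x, hx⟩ : ∃ x : ↥(Sp : Subgroup S), x ≠ 1 :=
        @exists_ne _ (Finite.one_lt_card_iff_nontrivial.1 hone) 1
      refine hx (Subtype.ext (hfaith x x.2 (LinearMap.ext fun v => ?_)))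
      exact (hU ▸ Submodule.mem_top : v ∈ U) x x.2
  have hfix : ∀ u : Fin (Module.finrank (ZMod 2) E) → ZMod 2,
      (∀ a : ↥(Sp : Subgroup S), Matrix.mulVec (R a) u = u) → u = 0 := by
    intro u hu
    obtain ⟨v, rfl⟩ := b.equivFun.surjective u
    rw [hfixE v fun a ha => b.equivFun.injective ((hR a v).symm.trans (hu ⟨a, ha⟩)), map_zero]
  obtain ⟨g, hg, hg1⟩ : ∃ g ∈ (Sq : Subgroup S), g ≠ 1 := by
    by_contra! h
    rw [(Subgroup.eq_bot_iff_forall _).2 h, Subgroup.card_bot] at hSq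
    exact hq.one_lt.ne hSq
  have hgen : Subgroup.zpowers g = (Sq : Subgroup S) := by
    refine Subgroup.eq_of_le_of_card_ge (Subgroup.zpowers_le.2 hg) ?_
    have hd := Subgroup.orderOf_dvd_natCard (Sq : Subgroup S) hg
    rw [hSq] at hd ⊢
    rw [Nat.card_zpowers]
    rcases (Nat.dvd_prime hq).1 hd with h | h
    · exact absurd (orderOf_eq_one_iff.1 h) hg1
    · exact h.ge
  have hgq : g ^ q = 1 := by
    rw [← orderOf_dvd_iff_pow_eq_one]
    exact hSq ▸ Subgroup.orderOf_dvd_natCard (Sq : Subgroup S) hg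
  have hgN : ∀ l : ↥(Sp : Subgroup S) →* ModuleSupports56.K2ˣ,
      ModuleSupports56.tw (Sp : Subgroup S) g l = l → l = 1 := by
    intro l hl
    let St : Subgroup S :=
      { carrier := {h | ModuleSupports56.tw (Sp : Subgroup S) h l = l}
        one_mem' := ModuleSupports56.tw_one _ l
        mul_mem' := fun {x y} hx hy => by
          show ModuleSupports56.tw _ (x * y) l = l
          rw [ModuleSupports56.tw_mul, hy, hx]
        inv_mem' := fun {x} hx => by
          show ModuleSupports56.tw _ x⁻¹ l = l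
          conv_lhs => rw [← hx, ← ModuleSupports56.tw_mul, inv_mul_cancel, ModuleSupports56.tw_one] }
    have hSt : (Sq : Subgroup S) ≤ St := hgen ▸ Subgroup.zpowers_le.2 hl
    have hker : ⁅(Sp : Subgroup S), (Sq : Subgroup S)⁆ ≤ l.ker.map (Sp : Subgroup S).subtype := by
      rw [Subgroup.commutator_le]
      intro a ha x hx
      refine ⟨⟨a, ha⟩ * MulAut.conjNormal x (⟨a, ha⟩ : ↥(Sp : Subgroup S))⁻¹, ?_, ?_⟩
      · have h1 := DFunLike.congr_fun (hSt ((Sq : Subgroup S).inv_mem hx))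
          (⟨a, ha⟩ : ↥(Sp : Subgroup S))⁻¹
        rw [ModuleSupports56.tw_apply, inv_inv] at h1
        rw [SetLike.mem_coe, MonoidHom.mem_ker, map_mul, h1, map_inv, mul_inv_cancel]
      · simp [commutatorElement_def, mul_assoc]
    rw [hcomm] at hker
    refine MonoidHom.ext fun a => ?_
    obtain ⟨c, hc', hca⟩ := hker a.2
    rw [Subtype.ext hca] at hc'
    exact hc'
  obtain ⟨h2, hinv⟩ := ModuleSupports56.fixed_bound R (Sp : Subgroup S) hc hodd hfix
    (S₂ : Subgroup S) S₂.isPGroup' g q hq hq2 hgq hgN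
  have hcard : Nat.card {v : E // ∀ s ∈ (S₂ : Subgroup S), ρ s v = v} =
      2 ^ Module.finrank (ZMod 2) (ModuleSupports56.fixF R (S₂ : Subgroup S)) := by
    rw [show 2 ^ Module.finrank (ZMod 2) (ModuleSupports56.fixF R (S₂ : Subgroup S)) =
      Nat.card (ModuleSupports56.fixF R (S₂ : Subgroup S)) by
        rw [Module.natCard_eq_pow_finrank (K := ZMod 2), Nat.card_zmod]]
    refine Nat.card_congr (b.equivFun.toEquiv.subtypeEquiv fun v => ?_)
    show _ ↔ b.equivFun v ∈ ModuleSupports56.fixF R (S₂ : Subgroup S)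
    refine ⟨fun h s hs => by rw [hR, h s hs], fun h s hs => b.equivFun.injective ?_⟩
    rw [← hR]; exact h s hs
  rw [hcard]
  rcases h2.eq_or_lt with h | h
  · obtain ⟨u, hu, hgu⟩ := hinv h.symm
    obtain ⟨v, rfl⟩ := b.equivFun.surjective u
    refine Or.inr ⟨by rw [← h]; norm_num, g, hg, v, fun s hs => b.equivFun.injective ?_, fun hall =>
      hgu fun s hs => by rw [hR, hR, hall s hs]⟩
    rw [← hR]; exact hu s hs
  · left
    calc 8 = 2 ^ 3 := rfl
      _ ≤ _ := Nat.pow_le_pow_right (by norm_num) h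

end Cfsg.Agent.S4414
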