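import Cfsg.Statements.S4415
import Cfsg.Agent.Lib.FourActionTernaryG27

set_option autoImplicit false
open Cfsg

namespace Cfsg.Agent.S4415

open scoped commutatorElement
open Cfsg.Agent.FourActionTernaryG27 Cfsg.Agent.FourActionTernaryA27

/-- Let S be a finite solvable group acting faithfully on a finite-dimensional space E over the field with three elements, with O₃(S) = 1. Let B ≤ S have order 3 and suppose: E = E₀ ⊕ E₁ with B fixing E₁ pointwise, E₀ B-invariant of order 27 and indecomposable under B (a generator of B has a single Jordan block on E₀); B normalizes but does not centralize some subgroup Q of S that is elementary abelian of order 4; and B is the centre of a Sylow 3-subgroup of S. Put R = [O_{3'}(S), B]. Then R is elementary abelian of order 4 or extraspecial of order 32 containing an elementary abelian subgroup of order 8 (a central product of two quaternion groups), and E is the direct sum of a subspace fixed pointwise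 by R and an RB-invariant subspace on which the subgroup RB acts faithfully and irreducibly. -/
theorem result {S : Type*} [Group S] [Finite S]
    [Group.IsSolvable S] {E : Type*} [AddCommGroup E] [Module (ZMod 3) E] [Finite E] (ρ : Representation (ZMod 3) S E)
    (hfaith : Function.Injective ρ) (hO3 : Cfsg.pCore 3 S = ⊥)
    (B : Subgroup S) (hB : Nat.card ↥B = 3) (b : S) (hb : Subgroup.zpowers b = B)
    (E₀ E₁ : Submodule (ZMod 3) E) (hE01 : E₀ ⊓ E₁ = ⊥) (hE01' : E₀ ⊔ E₁ = ⊤)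
    (hE1 : ∀ v ∈ E₁, ρ b v = v) (hE0inv : ∀ v ∈ E₀, ρ b v ∈ E₀) (hE0 : Nat.card ↥E₀ = 27)
    (hind : ∃ v ∈ E₀, ρ b (ρ b v - v) - (ρ b v - v) ≠ 0)
    (Q : Subgroup S) (hQ : Cfsg.IsElementaryAbelian 2 Q) (hQ4 : Nat.card ↥Q = 4)
    (hBQ : B ≤ Subgroup.normalizer (Q : Set S)) (hBQ' : ¬ B ≤ Subgroup.centralizer (Q : Set S))
    (P : Sylow 3 S) (hBZ : (Subgroup.center ↥(P : Subgroup S)).map (P : Subgroup S).subtype = B) :
    ((Cfsg.IsElementaryAbelian 2 ⁅Cfsg.pPrimeCore 3 S, B⁆ ∧ Nat.card ↥⁅Cfsg.pPrimeCore 3 S, B⁆ = 4) ∨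
      (Cfsg.IsExtraspecial 2 ↥⁅Cfsg.pPrimeCore 3 S, B⁆ ∧ Nat.card ↥⁅Cfsg.pPrimeCore 3 S, B⁆ = 32 ∧
        ∃ A : Subgroup S, A ≤ ⁅Cfsg.pPrimeCore 3 S, B⁆ ∧ Cfsg.IsElementaryAbelian 2 A ∧ Nat.card ↥A = 8)) ∧
    ∃ F₀ F₁ : Submodule (ZMod 3) E, F₀ ⊓ F₁ = ⊥ ∧ F₀ ⊔ F₁ = ⊤ ∧
      (∀ r ∈ ⁅Cfsg.pPrimeCore 3 S, B⁆, ∀ v ∈ F₁, ρ r v = v) ∧ (∀ r ∈ ⁅Cfsg.pPrimeCore 3 S, B⁆ ⊔ B, ∀ v ∈ F₀, ρ r v ∈ F₀) ∧
      (∀ r ∈ ⁅Cfsg.pPrimeCore 3 S, B⁆ ⊔ B, (∀ v ∈ F₀, ρ r v = v) → r = 1) ∧
      (∀ N : Submodule (ZMod 3) E, N ≤ F₀ → (∀ r ∈ ⁅Cfsg.pPrimeCore 3 S, B⁆ ⊔ B, ∀ v ∈ N, ρ r v ∈ N) → N = ⊥ ∨ N = F₀) := by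
  haveI := Fact.mk Nat.prime_three
  have hord : orderOf b = 3 := by rw [← Nat.card_zpowers, hb, hB]
  have hb3 : b ^ 3 = 1 := hord ▸ pow_orderOf_eq_one b
  subst hb
  set φ := actHom ρ
  have hφ : Function.Injective φ := actHom_injective hfaith
  -- the four-group
  have hbn : ∀ q ∈ Q, b * q * b⁻¹ ∈ Q := fun q hq =>
    CoprimeAction.conj_mem (hBQ (Subgroup.mem_zpowers b)) hq
  obtain ⟨z₁, hz₁Q, hnc⟩ : ∃ q ∈ Q, b * q * b⁻¹ ≠ q := by
    by_contra hcon
    push Not at hcon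
    refine hBQ' (Subgroup.zpowers_le.2 (Subgroup.mem_centralizer_iff.2 fun q hq => ?_))
    exact (mul_inv_eq_iff_eq_mul.1 (hcon q hq)).symm
  set z₂ := b * z₁ * b⁻¹ with hz₂
  have hz₂Q : z₂ ∈ Q := hbn z₁ hz₁Q
  have hz₁1 : z₁ ≠ 1 := fun e => hnc (by rw [hz₂, e, mul_one, mul_inv_cancel])
  have hz₂1 : z₂ ≠ 1 := fun e => hz₁1 (conj_eq_one_iff.1 e)
  have hQc : ∀ x ∈ Q, ∀ y ∈ Q, x * y = y * x := fun x hx y hy =>
    PGroupsBasic.comm_of_isMulCommutative hQ.1 hx hy
  have hinv : ∀ x ∈ Q, x⁻¹ = x := fun x hx =>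
    inv_eq_of_mul_eq_one_right (by rw [← pow_two, hQ.2 x hx])
  have h12 : z₁ * z₂ ≠ 1 := fun e => hnc ((inv_eq_of_mul_eq_one_right e).symm.trans (hinv z₁ hz₁Q))
  have hQ' : ∀ x ∈ Q, x = 1 ∨ x = z₁ ∨ x = z₂ ∨ x = z₁ * z₂ := by
    let f : Fin 4 → Q := ![1, ⟨z₁, hz₁Q⟩, ⟨z₂, hz₂Q⟩, ⟨z₁ * z₂, mul_mem hz₁Q hz₂Q⟩]
    have hf : Function.Injective f := by
      intro i j hij
      fin_cases i <;> fin_cases j <;>
        simp [f, Subtype.ext_iff, hz₁1, hz₂1, h12, Ne.symm hz₁1, Ne.symm hz₂1, Ne.symm h12,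
          hnc, Ne.symm hnc] at hij ⊢
    have hbij := (Nat.bijective_iff_injective_and_card f).2 ⟨hf, by rw [Nat.card_fin, hQ4]⟩
    intro x hx
    obtain ⟨i, hi⟩ := hbij.2 ⟨x, hx⟩
    have hi' : (f i : S) = x := congrArg Subtype.val hi
    fin_cases i <;> simp [f] at hi'
    exacts [Or.inl hi'.symm, Or.inr (Or.inl hi'.symm), Or.inr (Or.inr (Or.inl hi'.symm)),
      Or.inr (Or.inr (Or.inr hi'.symm))]
  have hb33 : ∀ x, b * (b * (b * x * b⁻¹) * b⁻¹) * b⁻¹ = x := fun x => by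
    rw [show b * (b * (b * x * b⁻¹) * b⁻¹) * b⁻¹ = b ^ 3 * x * (b ^ 3)⁻¹ by
      simp [pow_succ, mul_assoc], hb3, one_mul, inv_one, mul_one]
  have hconj₂ : b * z₂ * b⁻¹ = z₁ * z₂ := by
    rcases hQ' _ (hbn z₂ hz₂Q) with e | e | e | e
    · exact absurd (conj_eq_one_iff.1 e) hz₂1
    · exfalso
      have h3 := hb33 z₁
      rw [← hz₂, e, ← hz₂] at h3
      exact hnc h3
    · exfalso
      rw [hz₂] at e
      exact hnc (mul_left_cancel (mul_right_cancel e))
    · exact e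
  have hconj₃ : b * (z₁ * z₂) * b⁻¹ = z₁ := by
    have := hb33 z₁
    rwa [← hz₂, hconj₂] at this
  have hV : ∀ v : Multiplicative E, v ^ 3 = 1 := exp_three
  have hbE : (φ b) ^ 3 = 1 := by rw [← map_pow, hb3, map_one]
  have hdata : Data (φ b) (φ z₁) (φ z₂) := {
    exp := hV
    pow_b := hbE
    sq₁ := by rw [← map_pow, hQ.2 z₁ hz₁Q, map_one]
    sq₂ := by rw [← map_pow, hQ.2 z₂ hz₂Q, map_one]
    comm := (show Commute z₁ z₂ from hQc z₁ hz₁Q z₂ hz₂Q).map φ
    ne := fun e => hz₁1 (hφ (e.trans (map_one φ).symm))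
    conj₁ := by rw [← map_inv, ← map_mul, ← map_mul]
    conj₂ := by rw [← map_inv, ← map_mul, ← map_mul, ← map_mul, hconj₂]
    small := by
      refine small_dSub hV hbE (U := AddSubgroup.toSubgroup E₀.toAddSubgroup)
        (W := AddSubgroup.toSubgroup E₁.toAddSubgroup) ?_ (fun w hw => ?_) (fun u hu => ?_) ?_
      · refine eq_top_iff.2 fun v _ => ?_
        obtain ⟨x, hx, y, hy, hxy⟩ :=
          Submodule.mem_sup.1 (hE01' ▸ Submodule.mem_top : v.toAdd ∈ E₀ ⊔ E₁)
        rw [show v = Multiplicative.ofAdd x * Multiplicative.ofAdd y by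
          rw [← ofAdd_add, hxy, ofAdd_toAdd]]
        exact Subgroup.mul_mem_sup hx hy
      · exact congrArg Multiplicative.ofAdd (hE1 _ hw)
      · exact hE0inv _ hu
      · exact hE0 }
  -- the core
  set O := Cfsg.pPrimeCore 3 S with hO
  haveI : O.Normal := HallCore.pPrimeCore_normal 3 S
  have hO3' : ¬ 3 ∣ Nat.card O := HallCore.not_dvd_card_pPrimeCore 3 S
  have hbP : ∀ x ∈ (P : Subgroup S), x * b = b * x := by
    intro x hx
    obtain ⟨c, hc, hcb⟩ := hBZ.symm ▸ Subgroup.mem_zpowers b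
    rw [← hcb]
    exact congrArg Subtype.val (Subgroup.mem_center_iff.1 hc ⟨x, hx⟩)
  have hz₁₂O : z₂ * z₁ ∈ O := by
    have e : b * z₁ * b⁻¹ * z₁⁻¹ = z₂ * z₁ := by rw [← hz₂, hinv z₁ hz₁Q]
    rw [← e]
    exact commutator_mem_core P hbP hb3 (by rw [e]; exact hQ.2 _ (mul_mem hz₂Q hz₁Q))
  have hz₁O : z₁ ∈ O := by
    rw [← hconj₃, hQc z₁ hz₁Q z₂ hz₂Q]
    exact ‹O.Normal›.conj_mem _ hz₁₂O b
  have hz₂O : z₂ ∈ O := ‹O.Normal›.conj_mem _ hz₁O b
  have hBO : Subgroup.zpowers b ≤ Subgroup.normalizer (O : Set S) := by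
    rw [Subgroup.normalizer_eq_top]
    exact le_top
  have hcop : (Nat.card (Subgroup.zpowers b)).Coprime (Nat.card O) := by
    rw [hB]
    exact (Nat.Prime.coprime_iff_not_dvd Nat.prime_three).2 hO3'
  haveI hsolO : Group.IsSolvable (O.map φ) :=
    Group.isSolvable_of_surjective (φ.subgroupMap_surjective O)
  have hcen : ∀ q : ℕ, q.Prime → 5 ≤ q → ∀ X : Subgroup S, X ≤ O → IsPGroup q X →
      (∀ x ∈ X, b * x * b⁻¹ ∈ X) → ∀ x ∈ X, Commute x b := by
    intro q hq hq5 X hXO hX hbX x hx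
    haveI := Fact.mk hq
    have hc := hdata.commute_b_of_normalized (O := O.map φ)
      (by rw [Subgroup.card_map_of_injective hφ]; exact hO3')
      (Subgroup.mem_map_of_mem φ hz₁O) (Subgroup.mem_map_of_mem φ hz₂O) hq5
      (Subgroup.map_mono hXO) (hX.map φ)
      (by
        rintro _ ⟨y, hy, rfl⟩
        exact ⟨b * y * b⁻¹, hbX y hy, by simp⟩) (φ x) (Subgroup.mem_map_of_mem φ hx)
    exact hφ (by rw [map_mul, map_mul, hc.eq])
  set R := ⁅O, Subgroup.zpowers b⁆ with hR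
  have hR2 : IsPGroup 2 R := isPGroup_commutator hord hBO hO3' hcen
  have hRO : R ≤ O := CoprimeAction.commutator_le_self_of_le_normalizer hBO
  have hBR : Subgroup.zpowers b ≤ Subgroup.normalizer (R : Set S) :=
    Subgroup.normalizer_commutator_ge_right O _
  have hbR : ∀ r ∈ R, b * r * b⁻¹ ∈ R := fun r hr =>
    CoprimeAction.conj_mem (hBR (Subgroup.mem_zpowers b)) hr
  have hz12R : z₁ * z₂ ∈ R := by
    have h := Subgroup.commutator_mem_commutator hz₁O (Subgroup.mem_zpowers b)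
    rwa [commutatorElement_def, show z₁ * b * z₁⁻¹ * b⁻¹ = z₁ * (b * z₁⁻¹ * b⁻¹) by group,
      hinv z₁ hz₁Q, ← hz₂] at h
  have hz₁R : z₁ ∈ R := hconj₃ ▸ hbR _ hz12R
  have hz₂R : z₂ ∈ R := hbR _ hz₁R
  have hRR : ⁅R, Subgroup.zpowers b⁆ = R := CoprimeAction.commutator_commutator_eq hBO hcop
    (Or.inl (CoprimeAction.isSolvable_zpowers b))
  have hsign : ∀ r ∈ R, FourActionTernaryG27.signHom (φ r) = 1 := by
    intro r hr
    have hle : R ≤ ((FourActionTernaryG27.signHom).comp φ).ker := by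
      rw [hR, Subgroup.commutator_le]
      intro x _ y _
      rw [MonoidHom.mem_ker, map_commutatorElement, commutatorElement_eq_one_iff_mul_comm]
      exact mul_comm _ _
    exact hle hr
  have hRdata : FourActionTernaryB27.RData (φ b) (R.map φ) := {
    two := hR2.map φ
    inv := by
      rintro _ ⟨r, hr, rfl⟩
      exact ⟨b * r * b⁻¹, hbR r hr, by simp⟩
    gen := by
      refine (Subgroup.map_mono (le_closure_commutators hRR hbR)).trans ?_
      rw [MonoidHom.map_closure]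
      refine Subgroup.closure_mono ?_
      rintro _ ⟨_, ⟨r, hr, rfl⟩, rfl⟩
      exact ⟨φ r, Subgroup.mem_map_of_mem φ hr, by simp⟩
    noRefl := by
      rintro _ ⟨r, hr, rfl⟩ hr2
      exact no_refl hV hr2 (hsign r hr) }
  obtain ⟨hiso, F, F', hFF, hFF', hfix, hFR, hFb, hFnt, hirr⟩ := FourActionTernaryF27.shape hdata hRdata
    (Subgroup.mem_map_of_mem φ hz₁R) (Subgroup.mem_map_of_mem φ hz₂R)
  refine ⟨?_, ?_⟩
  · rcases hiso with ⟨hel, hc⟩ | ⟨hex, hc, A, hA, hAel, hA8⟩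
    · rw [Subgroup.card_map_of_injective hφ] at hc
      refine Or.inl ⟨⟨PGroupsBasic.isMulCommutative_of_forall fun x hx y hy => hφ ?_, fun x hx => hφ ?_⟩, hc⟩
      · rw [map_mul, map_mul]
        exact PGroupsBasic.comm_of_isMulCommutative hel.1 (Subgroup.mem_map_of_mem φ hx)
          (Subgroup.mem_map_of_mem φ hy)
      · rw [map_pow, map_one]
        exact hel.2 _ (Subgroup.mem_map_of_mem φ hx)
    · rw [Subgroup.card_map_of_injective hφ] at hc
      refine Or.inr ⟨GenExtraspecialSplit.isExtraspecial_equiv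
        (R.equivMapOfInjective φ hφ).symm hex, hc, A.comap φ, fun x hx => ?_,
        ⟨PGroupsBasic.isMulCommutative_of_forall fun x hx y hy => hφ ?_, fun x hx => hφ ?_⟩, ?_⟩
      · obtain ⟨r, hr, e⟩ := hA hx
        exact hφ e ▸ hr
      · rw [map_mul, map_mul]
        exact PGroupsBasic.comm_of_isMulCommutative hAel.1 hx hy
      · rw [map_pow, map_one]
        exact hAel.2 _ hx
      · rw [← Subgroup.card_map_of_injective (K := A.comap φ) hφ,
          Subgroup.map_comap_eq_self (hA.trans (Subgroup.map_le_range φ R)), hA8]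
  · let toMod : Subgroup (Multiplicative E) → Submodule (ZMod 3) E := fun W =>
      { carrier := {v | Multiplicative.ofAdd v ∈ W}
        zero_mem' := W.one_mem
        add_mem' := fun hx hy => W.mul_mem hx hy
        smul_mem' := fun c x hx => by
          show Multiplicative.ofAdd (c • x) ∈ W
          rw [← ZMod.natCast_zmod_val c, Nat.cast_smul_eq_nsmul, ofAdd_nsmul]
          exact W.pow_mem hx _ }
    -- the group `R B` on the moved eigenspace
    have hpow : ∀ (n : ℕ), ∀ v ∈ F, (φ b ^ n) v ∈ F := by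
      intro n
      induction n with
      | zero => intro v hv; simpa using hv
      | succ n ih =>
        intro v hv
        rw [pow_succ', MulAut.mul_apply]
        exact hFb _ (ih v hv)
    have hRB : ∀ g ∈ R ⊔ Subgroup.zpowers b, ∃ r ∈ R, ∃ n : ℕ, g = r * b ^ n := by
      intro g hg
      rw [← SetLike.mem_coe, Subgroup.coe_mul_of_right_le_normalizer_left R _ hBR] at hg
      obtain ⟨r, hr, y, hy, rfl⟩ := hg
      obtain ⟨n, rfl⟩ := mem_powers_iff_mem_zpowers.2 hy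
      exact ⟨r, hr, n, rfl⟩
    have hinvF : ∀ g ∈ R ⊔ Subgroup.zpowers b, ∀ v ∈ F, φ g v ∈ F := by
      intro g hg v hv
      obtain ⟨r, hr, n, rfl⟩ := hRB g hg
      rw [map_mul, map_pow, MulAut.mul_apply]
      exact hFR _ (Subgroup.mem_map_of_mem φ hr) _ (hpow n v hv)
    refine ⟨toMod F, toMod F', ?_, ?_, fun r hr v hv => ?_, fun g hg v hv => hinvF g hg _ hv, ?_, ?_⟩
    · rw [eq_bot_iff]
      rintro v ⟨h1, h2⟩
      exact Subgroup.mem_bot.1 (hFF ▸ Subgroup.mem_inf.2 ⟨h1, h2⟩ :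
        Multiplicative.ofAdd v ∈ (⊥ : Subgroup (Multiplicative E)))
    · refine eq_top_iff.2 fun v _ => ?_
      obtain ⟨x, hx, y, hy, hxy⟩ :=
        Subgroup.mem_sup.1 (hFF' ▸ Subgroup.mem_top (Multiplicative.ofAdd v) : _ ∈ F ⊔ F')
      rw [show v = x.toAdd + y.toAdd from (congrArg Multiplicative.toAdd hxy).symm]
      exact Submodule.add_mem_sup hx hy
    · exact congrArg Multiplicative.toAdd (hfix _ (Subgroup.mem_map_of_mem φ hr) _ hv)
    · intro g hg hgF
      obtain ⟨r, hr, n, rfl⟩ := hRB g hg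
      have hgF' : ∀ v ∈ F, φ r ((φ b ^ n) v) = v := fun v hv => by
        rw [← MulAut.mul_apply, ← map_pow, ← map_mul]
        exact congrArg Multiplicative.ofAdd (hgF v.toAdd hv)
      by_cases h3 : 3 ∣ n
      · obtain ⟨m, rfl⟩ := h3
        rw [pow_mul, hb3, one_pow, mul_one] at hgF ⊢
        refine hφ (MulEquiv.ext fun v => ?_)
        obtain ⟨x, hx, y, hy, rfl⟩ := Subgroup.mem_sup.1 (hFF' ▸ Subgroup.mem_top v : v ∈ F ⊔ F')
        rw [map_mul (φ r), hfix _ (Subgroup.mem_map_of_mem φ hr) y hy, map_one, MulAut.one_apply]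
        congr 1
        exact congrArg Multiplicative.ofAdd (hgF x.toAdd hx)
      · exfalso
        obtain ⟨v, hv, hbv⟩ := hFnt
        obtain ⟨k, hk⟩ := hR2 ⟨r, hr⟩
        have hk' : (φ r) ^ 2 ^ k = 1 := by
          rw [← map_pow, show r ^ 2 ^ k = 1 from congrArg Subtype.val hk, map_one]
        have hstep : ∀ m : ℕ, ∀ w ∈ F, ((φ b ^ n) ^ m) w = ((φ r)⁻¹ ^ m) w := by
          intro m
          induction m with
          | zero => intro w _; rfl
          | succ m ih =>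
            intro w hw
            have e : (φ b ^ n) w = (φ r)⁻¹ w := by
              conv_rhs => rw [← hgF' w hw]
              simp
            rw [pow_succ, MulAut.mul_apply, ih _ (hpow n w hw), e, pow_succ, MulAut.mul_apply]
        have htriv := hstep (2 ^ k) v hv
        rw [inv_pow, hk', inv_one, MulAut.one_apply, ← pow_mul] at htriv
        have hmod : n * 2 ^ k % 3 = 1 ∨ n * 2 ^ k % 3 = 2 := by
          have : ¬ 3 ∣ n * 2 ^ k := fun hd => (Nat.prime_three.dvd_mul.1 hd).elim h3 fun h =>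
            absurd (Nat.prime_three.dvd_of_dvd_pow h) (by norm_num)
          omega
        rw [← Nat.div_add_mod (n * 2 ^ k) 3, pow_add, pow_mul, hbE, one_pow, one_mul] at htriv
        apply hbv
        rcases hmod with e | e <;> rw [e] at htriv
        · rwa [pow_one] at htriv
        · calc φ b v = φ b ((φ b ^ 2) v) := by rw [htriv]
            _ = (φ b ^ 3) v := by rw [← MulAut.mul_apply, ← pow_succ']
            _ = v := by rw [hbE, MulAut.one_apply]
    · intro N hN hNinv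
      rcases hirr (AddSubgroup.toSubgroup N.toAddSubgroup) (fun v hv => hN hv)
        (by
          rintro _ ⟨r, hr, rfl⟩ v hv
          exact hNinv r (Subgroup.mem_sup_left hr) _ hv)
        (fun v hv => hNinv b (Subgroup.mem_sup_right (Subgroup.mem_zpowers b)) _ hv) with e | e
      · refine Or.inl (eq_bot_iff.2 fun v hv => ?_)
        exact Subgroup.mem_bot.1 (e ▸ hv : Multiplicative.ofAdd v ∈ (⊥ : Subgroup (Multiplicative E)))
      · refine Or.inr (le_antisymm hN fun v hv => ?_)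
        exact (e.symm ▸ hv : Multiplicative.ofAdd v ∈ AddSubgroup.toSubgroup N.toAddSubgroup)

end Cfsg.Agent.S4415
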