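import Cfsg.Statements.S4416
import Cfsg.Agent.Lib.PGroupsExtraspecial

set_option autoImplicit false
open Cfsg

namespace Cfsg.Agent.S4416

open Cfsg.Agent.PGroupsExtraspecial
open Subgroup
open scoped commutatorElement Pointwise

/-- The number of solutions of `g ^ 2 = 1` predicted by the parameter list. -/
def cnt : List (ℕ × ℕ) → ℕ
  | [] => 2
  | (a, _) :: l => if a = 0 then 2 * cnt l + 2 ^ (2 * l.length + 1)
      else 3 * 2 ^ (2 * l.length + 1) - 2 * cnt l

theorem nf_conj {G : Type*} [Group G] {z x y : G} (hz : IsCentralPrime 2 z) (hxy : ⁅x, y⁆ = z)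
    {w : G} (hxw : x * w = w * x) (hyw : y * w = w * y) (i j : Fin 2) :
    x * (x ^ (i : ℕ) * y ^ (j : ℕ) * w) * x⁻¹ = z ^ (j : ℕ) * (x ^ (i : ℕ) * y ^ (j : ℕ) * w) ∧
    y * (x ^ (i : ℕ) * y ^ (j : ℕ) * w) * y⁻¹ = z ^ (i : ℕ) * (x ^ (i : ℕ) * y ^ (j : ℕ) * w) := by
  have : Fact (Nat.Prime 2) := ⟨Nat.prime_two⟩
  have hz2 : z ^ 2 = 1 := pow_prime_eq_one hz
  have hzc : ∀ g, Commute z g := fun g => (mem_center_iff.mp hz.1 g).symm
  have hzi : z⁻¹ = z := inv_eq_of_mul_eq_one_right (by rw [← sq, hz2])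
  have e1 : x * y = z * (y * x) := by rw [← hxy, commutatorElement_def]; group
  have e2 : y * x = z * (x * y) := by rw [e1, ← mul_assoc, ← sq, hz2, one_mul]
  have hx : SemiconjBy x y (z * y) := by show x * y = z * y * x; rw [e1, mul_assoc]
  have hy : SemiconjBy y x (z * x) := by show y * x = z * x * y; rw [e2, mul_assoc]
  constructor
  · have h : SemiconjBy x (x ^ (i : ℕ) * y ^ (j : ℕ) * w) (x ^ (i : ℕ) * (z * y) ^ (j : ℕ) * w) :=
      ((SemiconjBy.pow_right (Commute.refl x) _).mul_right (hx.pow_right _)).mul_right hxw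
    rw [h.eq, mul_inv_cancel_right, (hzc y).mul_pow, ← mul_assoc _ (z ^ (j : ℕ)),
      ← ((hzc (x ^ (i : ℕ))).pow_left _).eq]
    simp only [mul_assoc]
  · have h : SemiconjBy y (x ^ (i : ℕ) * y ^ (j : ℕ) * w) ((z * x) ^ (i : ℕ) * y ^ (j : ℕ) * w) :=
      ((hy.pow_right _).mul_right (SemiconjBy.pow_right (Commute.refl y) _)).mul_right hyw
    rw [h.eq, mul_inv_cancel_right, (hzc x).mul_pow]
    simp only [mul_assoc]

theorem count {G : Type*} [Group G] [Finite G] {z : G} (hz : IsCentralPrime 2 z) {F : Subgroup G}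
    {l : List (ℕ × ℕ)} (h : Decomp 2 z F l) (hl : ∀ q ∈ l, q = (0, 0) ∨ q = (1, 1)) :
    z ∈ F ∧ (∀ g ∈ F, g ^ 2 ∈ zpowers z) ∧ Nat.card F = 2 ^ (2 * l.length + 1) ∧
      Nat.card {g : F // (g : G) ^ 2 = 1} = cnt l := by
  classical
  have : Fact (Nat.Prime 2) := ⟨Nat.prime_two⟩
  have hz2 : z ^ 2 = 1 := pow_prime_eq_one hz
  have hz01 : ∀ c ∈ zpowers z, c = 1 ∨ c = z := by
    intro c hc
    obtain ⟨k, rfl⟩ := exists_nat_pow hz hc
    rcases Nat.mod_two_eq_zero_or_one k with h | h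
    · exact Or.inl ((pow_eq_one_iff hz k).mpr (Nat.dvd_of_mod_eq_zero h))
    · exact Or.inr (((pow_inj_mod hz k 1).mpr (by rw [h])).trans (pow_one z))
  induction h with
  | nil =>
    have hall : ∀ g ∈ zpowers z, g ^ 2 = 1 := fun g hg => by
      rcases hz01 g hg with rfl | rfl
      · exact one_pow 2
      · exact hz2
    refine ⟨mem_zpowers z, fun g hg => by rw [hall g hg]; exact one_mem _, by simp [Nat.card_zpowers, hz.2], ?_⟩
    rw [Nat.card_congr (Equiv.subtypeUnivEquiv fun g : zpowers z => hall g g.2), Nat.card_zpowers, hz.2]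
    rfl
  | @cons x y a b F F' l hxy hx hy hd hcx hcy hsup ih =>
    obtain ⟨hzF', hsq', hcard, hcnt⟩ := ih fun q hq => hl q (List.mem_cons_of_mem _ hq)
    obtain ⟨rfl, hab⟩ : a = b ∧ (a = 0 ∨ a = 1) := by
      rcases hl _ List.mem_cons_self with h | h <;> obtain ⟨rfl, rfl⟩ := Prod.ext_iff.mp h <;> simp
    have hxF : x ∈ F := hsup ▸ mem_sup_left (mem_plane_left x y z)
    have hyF : y ∈ F := hsup ▸ mem_sup_left (mem_plane_mid x y z)
    have hF'F : F' ≤ F := hsup ▸ le_sup_right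
    let φ : (Fin 2 × Fin 2) × F' → F := fun t =>
      ⟨x ^ (t.1.1 : ℕ) * y ^ (t.1.2 : ℕ) * t.2, mul_mem (mul_mem (pow_mem hxF _) (pow_mem hyF _)) (hF'F t.2.2)⟩
    have hpl : plane x y z ≤ normalizer (F' : Set G) := le_trans ((closure_le _).mpr (by
      rintro w (rfl | rfl | rfl)
      · exact mem_centralizer_iff.mpr fun v hv => (hcx v hv).symm
      · exact mem_centralizer_iff.mpr fun v hv => (hcy v hv).symm
      · exact center_le_centralizer _ hz.1)) (centralizer_le_normalizer _)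
    have hsurj : Function.Surjective φ := by
      rintro ⟨g, hg⟩
      have hg' : g ∈ ((plane x y z : Subgroup G) : Set G) * (F' : Set G) := by
        rw [← coe_mul_of_left_le_normalizer_right _ _ hpl, SetLike.mem_coe, ← hsup]; exact hg
      obtain ⟨u, hu, w, hw, rfl⟩ := Set.mem_mul.mp hg'
      obtain ⟨t, rfl⟩ := exists_nf hz hxy hu
      refine ⟨((⟨(red 2 a a t).1, Nat.mod_lt _ two_pos⟩, ⟨(red 2 a a t).2.1, Nat.mod_lt _ two_pos⟩),
        ⟨z ^ (red 2 a a t).2.2 * w, mul_mem (pow_mem hzF' _) hw⟩), Subtype.ext ?_⟩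
      show _ = nf x y z t * w
      rw [← nf_red hz hx hy t]
      simp only [φ, nf, mul_assoc]
    have hinj : Function.Injective φ := by
      rintro ⟨⟨i, j⟩, w⟩ ⟨⟨i', j'⟩, w'⟩ h
      have h' : x ^ (i : ℕ) * y ^ (j : ℕ) * w = x ^ (i' : ℕ) * y ^ (j' : ℕ) * w' := congrArg Subtype.val h
      have c1 := nf_conj hz hxy (hcx w w.2) (hcy w w.2) i j
      have c2 := nf_conj hz hxy (hcx w' w'.2) (hcy w' w'.2) i' j'
      rw [h'] at c1
      have ej := mul_right_cancel (c1.1.symm.trans c2.1)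
      have ei := mul_right_cancel (c1.2.symm.trans c2.2)
      rw [pow_inj_mod hz, Nat.mod_eq_of_lt j.2, Nat.mod_eq_of_lt j'.2] at ej
      rw [pow_inj_mod hz, Nat.mod_eq_of_lt i.2, Nat.mod_eq_of_lt i'.2] at ei
      obtain rfl := Fin.ext ei
      obtain rfl := Fin.ext ej
      exact congrArg _ (Subtype.ext (mul_left_cancel h'))
    let eqv : (Fin 2 × Fin 2) × F' ≃ F := Equiv.ofBijective φ ⟨hinj, hsurj⟩
    have hq : ∀ (i j : Fin 2) (w : F'),
        (x ^ (i : ℕ) * y ^ (j : ℕ) * (w : G)) ^ 2 =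
          z ^ ((i : ℕ) * a + (j : ℕ) * a + (i : ℕ) * (j : ℕ)) * (w : G) ^ 2 := by
      intro i j w
      have hcw : Commute (x ^ (i : ℕ) * y ^ (j : ℕ)) (w : G) :=
        Commute.mul_left (Commute.pow_left (hcx w w.2) _) (Commute.pow_left (hcy w w.2) _)
      rw [hcw.mul_pow]
      congr 1
      have hnf : x ^ (i : ℕ) * y ^ (j : ℕ) = nf x y z (i, j, 0) := by simp [nf]
      rw [sq, hnf, nf_mul hz hxy]
      simp only [nf, ← two_mul]
      rw [pow_mul, pow_mul, hx, hy, ← pow_mul, ← pow_mul, ← pow_add, ← pow_add]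
      exact congrArg (z ^ ·) (by ring)
    refine ⟨hF'F hzF', ?_, ?_, ?_⟩
    · intro g hg
      obtain ⟨⟨⟨i, j⟩, w⟩, hw⟩ := hsurj ⟨g, hg⟩
      rw [← show x ^ (i : ℕ) * y ^ (j : ℕ) * (w : G) = g from congrArg Subtype.val hw, hq]
      exact mul_mem (pow_mem (mem_zpowers z) _) (hsq' w w.2)
    · rw [← Nat.card_congr eqv, Nat.card_prod, Nat.card_prod, Nat.card_fin, hcard, List.length_cons]
      ring
    · let P : (Fin 2 × Fin 2) → F' → Prop := fun c w =>
        z ^ ((c.1 : ℕ) * a + (c.2 : ℕ) * a + (c.1 : ℕ) * (c.2 : ℕ)) * (w : G) ^ 2 = 1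
      have e1 : {g : F // (g : G) ^ 2 = 1} ≃ Σ c : Fin 2 × Fin 2, {w : F' // P c w} :=
        (eqv.symm.subtypeEquiv (fun g => by
          obtain ⟨⟨⟨i, j⟩, w⟩, rfl⟩ := eqv.surjective g
          rw [eqv.symm_apply_apply]
          show (x ^ (i : ℕ) * y ^ (j : ℕ) * (w : G)) ^ 2 = 1 ↔ P (i, j) w
          rw [hq])).trans
        (Equiv.subtypeProdEquivSigmaSubtype P)
      have hval : ∀ c : Fin 2 × Fin 2, Nat.card {w : F' // P c w} =
          if ((c.1 : ℕ) * a + (c.2 : ℕ) * a + (c.1 : ℕ) * (c.2 : ℕ)) % 2 = 0 then cnt l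
          else 2 ^ (2 * l.length + 1) - cnt l := by
        intro c
        split_ifs with he
        · rw [← hcnt]
          refine Nat.card_congr (Equiv.subtypeEquivRight fun w => ?_)
          simp only [P]
          rw [(pow_eq_one_iff hz _).mpr (Nat.dvd_of_mod_eq_zero he), one_mul]
        · have e := Nat.card_congr (Equiv.sumCompl (fun w : F' => (w : G) ^ 2 = 1))
          rw [Nat.card_sum, hcard, hcnt] at e
          have hiff : ∀ w : F', P c w ↔ ¬ (w : G) ^ 2 = 1 := by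
            intro w
            simp only [P]
            rw [(pow_inj_mod hz _ 1).mpr (by omega), pow_one]
            rcases hz01 _ (hsq' w w.2) with hw | hw <;> rw [hw]
            · simp [ne_one hz]
            · rw [← sq, hz2]; simp [ne_one hz]
          rw [Nat.card_congr (Equiv.subtypeEquivRight hiff)]
          omega
      rw [Nat.card_congr e1, Nat.card_sigma, Fintype.sum_prod_type, Fin.sum_univ_two, Fin.sum_univ_two,
        Fin.sum_univ_two, hval, hval, hval, hval, cnt]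
      have hle : cnt l ≤ 2 ^ (2 * l.length + 1) := hcnt ▸ hcard ▸ Finite.card_subtype_le _
      rcases hab with rfl | rfl <;> simp <;> omega

theorem cnt_plus : ∀ n, cnt (List.replicate n (0, 0)) = 2 ^ (2 * n) + 2 ^ n
  | 0 => rfl
  | n + 1 => by
    rw [List.replicate_succ, cnt, if_pos rfl, cnt_plus n, List.length_replicate]
    ring

theorem cnt_minus : ∀ m, cnt (List.replicate m (0, 0) ++ [(1, 1)]) + 2 ^ (m + 1) = 2 ^ (2 * m + 2)
  | 0 => rfl
  | m + 1 => by
    have h := cnt_minus m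
    rw [List.replicate_succ, List.cons_append, cnt, if_pos rfl, List.length_append, List.length_replicate]
    simp only [List.length_singleton]
    have e1 : 2 ^ (2 * (m + 1) + 2) = 4 * 2 ^ (2 * m + 2) := by ring
    have e2 : 2 ^ (2 * (m + 1) + 1) = 2 * 2 ^ (2 * m + 2) := by ring
    have e3 : 2 ^ (m + 1 + 1) = 2 * 2 ^ (m + 1) := by ring
    omega

theorem main {X : Type*} [Group X] [Finite X] (hX : IsExtraspecial 2 X) (n : ℕ) (hn : Nat.card X = 2 ^ (2 * n + 1)) :
    ∃ z : X, IsCentralPrime 2 z ∧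
      ((Decomp 2 z ⊤ (List.replicate n (0, 0)) ∧ Nat.card {x : X // x ^ 2 = 1} = 2 ^ (2 * n) + 2 ^ n) ∨
       (Decomp 2 z ⊤ (List.replicate (n - 1) (0, 0) ++ [(1, 1)]) ∧
          Nat.card {x : X // x ^ 2 = 1} + 2 ^ n = 2 ^ (2 * n))) := by
  have : Fact (Nat.Prime 2) := ⟨Nat.prime_two⟩
  obtain ⟨z, hz, hc⟩ := extraspecial_exists_z hX
  refine ⟨z, hz, ?_⟩
  have etop : {g : (⊤ : Subgroup X) // (g : X) ^ 2 = 1} ≃ {x : X // x ^ 2 = 1} :=
    (Subgroup.topEquiv.toEquiv.subtypeEquiv fun g => Iff.rfl)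
  rcases exists_decomp_two hz (extraspecial_commInto hX hc ⊤) (extraspecial_nondeg_top hc)
    (fun g _ => hc ▸ special_pow_mem_center hX.1 g) n (by rw [Subgroup.card_top, hn]) with d | d
  · left
    refine ⟨d, ?_⟩
    obtain ⟨-, -, -, h⟩ := count hz d fun q hq => Or.inl (List.eq_of_mem_replicate hq)
    rw [← Nat.card_congr etop, h, cnt_plus]
  · right
    refine ⟨d, ?_⟩
    obtain ⟨-, -, hcard, h⟩ := count hz d fun q hq => by
      rcases List.mem_append.mp hq with h | h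
      · exact Or.inl (List.eq_of_mem_replicate h)
      · exact Or.inr (List.mem_singleton.mp h)
    rw [Subgroup.card_top, hn, List.length_append, List.length_replicate, List.length_singleton] at hcard
    obtain ⟨m, rfl⟩ : ∃ m, n = m + 1 := ⟨n - 1, by have := Nat.pow_right_injective le_rfl hcard; omega⟩
    rw [← Nat.card_congr etop, h, Nat.add_sub_cancel, cnt_minus]
    ring


/-- Classification of extraspecial 2-groups in intrinsic form. An extraspecial 2-group has order 2^(2m+1) for some m ≥ 1, and the number of its elements squaring to the identity is either 2^(2m) + 2^m or 2^(2m) − 2^m; two extraspecial 2-groups of the same order with the same number of such elements are isomorphic. (The two cases are the central products of m dihedral groups of order 8, and of m − 1 dihedral groups with one quaternion group.) -/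
theorem result (E : Type*) [Group E] [Finite E] (hE : Cfsg.IsExtraspecial 2 E) :
    (∃ m : ℕ, 1 ≤ m ∧ Nat.card E = 2 ^ (2 * m + 1) ∧
      (Nat.card {x : E // x ^ 2 = 1} = 2 ^ (2 * m) + 2 ^ m ∨ Nat.card {x : E // x ^ 2 = 1} = 2 ^ (2 * m) - 2 ^ m)) ∧
    ∀ (E' : Type*) [Group E'] [Finite E'], Cfsg.IsExtraspecial 2 E' → Nat.card E' = Nat.card E →
      Nat.card {x : E' // x ^ 2 = 1} = Nat.card {x : E // x ^ 2 = 1} → Nonempty (E ≃* E') := by
  have : Fact (Nat.Prime 2) := ⟨Nat.prime_two⟩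
  obtain ⟨n, hn1, hn⟩ := extraspecial_card hE
  refine ⟨⟨n, hn1, hn, ?_⟩, fun E' _ _ hE' hcard hcount => ?_⟩
  · obtain ⟨z, hz, ⟨-, h⟩ | ⟨-, h⟩⟩ := main hE n hn
    · exact Or.inl h
    · exact Or.inr (by omega)
  obtain ⟨z, hz, ⟨d, h⟩ | ⟨d, h⟩⟩ := main hE n hn <;>
    obtain ⟨z', hz', ⟨d', h'⟩ | ⟨d', h'⟩⟩ := main hE' n (hcard.trans hn)
  · obtain ⟨Γ⟩ := d.iso hz hz' d'
    obtain ⟨e⟩ := Γ.nonempty_mulEquiv
    exact ⟨Subgroup.topEquiv.symm.trans (e.trans Subgroup.topEquiv)⟩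
  · have : 0 < 2 ^ n := pow_pos two_pos n
    omega
  · have : 0 < 2 ^ n := pow_pos two_pos n
    omega
  · obtain ⟨Γ⟩ := d.iso hz hz' d'
    obtain ⟨e⟩ := Γ.nonempty_mulEquiv
    exact ⟨Subgroup.topEquiv.symm.trans (e.trans Subgroup.topEquiv)⟩

end Cfsg.Agent.S4416
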