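import Cfsg.Statements.S4419
import Cfsg.Agent.Lib.TransferAlperin
import Cfsg.Agent.Lib.FrattiniTuples
import Cfsg.Agent.Lib.HallCore
import Cfsg.Agent.Lib.PGroupsBasic

set_option autoImplicit false
open Cfsg

namespace Cfsg.Agent.S4419

open Cfsg.Agent Cfsg.Agent.TransferAlperin Cfsg.Agent.TransferPResidual
open Subgroup
open scoped commutatorElement

/-- In a metacyclic group every subgroup is generated by two elements. -/
theorem exists_pair {S : Type*} [Group S] (hS : IsMetacyclic S) (Q : Subgroup S) :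
    ∃ a b : S, closure ({a, b} : Set S) = Q := by
  obtain ⟨N, hN, hc1, hc2⟩ := hS
  obtain ⟨a, ha⟩ := (Subgroup.isCyclic_iff_exists_zpowers_eq_top (Q ⊓ N)).mp (Subgroup.isCyclic_of_le inf_le_right)
  obtain ⟨c, hc⟩ := (Subgroup.isCyclic_iff_exists_zpowers_eq_top (Q.map (QuotientGroup.mk' N))).mp inferInstance
  obtain ⟨b, hb, rfl⟩ : c ∈ Q.map (QuotientGroup.mk' N) := hc ▸ mem_zpowers c
  refine ⟨a, b, le_antisymm ((closure_le _).mpr ?_) ?_⟩
  · rintro x (rfl | rfl)
    · have hmem := mem_zpowers x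
      rw [ha] at hmem
      exact hmem.1
    · exact hb
  intro x hx
  obtain ⟨k, hk⟩ := mem_zpowers_iff.mp (hc.symm ▸ mem_map_of_mem (QuotientGroup.mk' N) hx :
    QuotientGroup.mk' N x ∈ zpowers (QuotientGroup.mk' N b))
  have hN' : (b ^ k)⁻¹ * x ∈ Q ⊓ N := ⟨Q.mul_mem (Q.inv_mem (Q.zpow_mem hb k)) hx, by
    rw [← map_zpow] at hk
    exact QuotientGroup.eq.mp hk⟩
  obtain ⟨j, hj⟩ := mem_zpowers_iff.mp (ha.symm ▸ hN' : (b ^ k)⁻¹ * x ∈ zpowers a)
  rw [show x = b ^ k * a ^ j by rw [hj, mul_inv_cancel_left]]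
  exact mul_mem (zpow_mem (subset_closure (by simp)) k) (zpow_mem (subset_closure (by simp)) j)

theorem orderOf_aut_dvd {Q : Type*} [Group Q] [Finite Q] {p : ℕ} [hp : Fact p.Prime]
    (hQ : IsPGroup p Q) (h2 : (frattini Q).index ≤ p ^ 2) (α : MulAut Q)
    (hα : Nat.Coprime (orderOf α) p) : orderOf α ∣ (p ^ 2 - 1) ^ 2 := by
  obtain ⟨n, hn⟩ := IsPGroup.iff_card.mp hQ
  obtain ⟨r, hr⟩ := IsPGroup.iff_card.mp (hQ.to_quotient (frattini Q))
  have hr2 : r ≤ 2 := (Nat.pow_le_pow_iff_right hp.out.one_lt).mp (hr ▸ h2)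
  have hd := (orderOf_dvd_natCard α).trans (FrattiniTuples.card_mulAut_dvd hn hr)
  have hd' := (hα.pow_right (r * (n - r))).dvd_of_dvd_mul_left hd
  have h1 : p - 1 ∣ p ^ 2 - 1 := by
    simpa using Nat.sub_dvd_pow_sub_pow p 1 2
  obtain rfl | rfl | rfl : r = 0 ∨ r = 1 ∨ r = 2 := by omega
  · simp only [Finset.range_zero, Finset.prod_empty] at hd'
    exact hd'.trans (one_dvd _)
  · simp only [Finset.prod_range_one, pow_zero, pow_one] at hd'
    exact (hd'.trans h1).trans (dvd_pow_self _ two_ne_zero)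
  · simp only [Finset.prod_range_succ, Finset.prod_range_zero, one_mul, pow_zero, pow_one] at hd'
    rw [show p ^ 2 - p = p * (p - 1) by rw [Nat.mul_sub, mul_one, sq], mul_left_comm] at hd'
    exact (hα.dvd_of_dvd_mul_left hd').trans (by rw [sq (p ^ 2 - 1)]; exact mul_dvd_mul_left _ h1)

/-- Let p be a prime and G a finite group whose Sylow p-subgroups are metacyclic (a cyclic normal subgroup with cyclic quotient). Then G has a normal p-complement if and only if the order of G/O_{p′,p}(G) is coprime to p² − 1. -/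
theorem result {G : Type*} [Group G] [Finite G] (p : ℕ) [Fact p.Prime] (S : Sylow p G) (hS : Cfsg.IsMetacyclic ↥(S : Subgroup G)) : Cfsg.HasNormalPComplement p G ↔ Nat.Coprime (Nat.card (G ⧸ Cfsg.pPrimePCore p G)) (p ^ 2 - 1) := by
  constructor
  · rintro ⟨P, N, hN, hc⟩
    have hcop : (Nat.card N).Coprime p := by
      rw [← hc.index_eq_card]
      exact (((Fact.out : p.Prime).coprime_iff_not_dvd).mpr P.not_dvd_index).symm
    have hNK : N ≤ pPrimeCore p G := HallCore.le_pPrimeCore hcop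
    have hpq : IsPGroup p (G ⧸ pPrimeCore p G) := by
      obtain ⟨k, hk⟩ := IsPGroup.iff_card.mp P.isPGroup'
      obtain ⟨j, -, hj⟩ := (Nat.dvd_prime_pow (Fact.out : p.Prime)).mp
        (show (pPrimeCore p G).index ∣ p ^ k from hk ▸ hc.symm.index_eq_card ▸ index_dvd_of_le hNK)
      exact IsPGroup.of_card hj
    have htop : pPrimePCore p G = ⊤ := by
      rw [pPrimePCore, HallCore.pCore_eq_top_iff.mpr hpq, comap_top]
    rw [show Nat.card (G ⧸ pPrimePCore p G) = (pPrimePCore p G).index from rfl, htop, index_top]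
    exact Nat.coprime_one_left _
  intro hcop
  refine (hasNormalPComplement_iff_centralizer S).mpr fun Q hQS g hg hgp => ?_
  have hQ : IsPGroup p Q := S.isPGroup'.to_le hQS
  have h2 : (frattini Q).index ≤ p ^ 2 := by
    classical
    obtain ⟨a, b, hab⟩ := exists_pair hS (Q.subgroupOf (S : Subgroup G))
    have hab' : closure ({(a : G), (b : G)} : Set G) = Q := by
      rw [show ({(a : G), (b : G)} : Set G) = (S : Subgroup G).subtype '' {a, b} by simp [Set.image_pair],
        ← MonoidHom.map_closure, hab, subgroupOf_map_subtype, inf_eq_left.mpr hQS]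
    have haQ : (a : G) ∈ Q := hab' ▸ subset_closure (by simp)
    have hbQ : (b : G) ∈ Q := hab' ▸ subset_closure (by simp)
    have hT : closure ((({⟨a, haQ⟩, ⟨b, hbQ⟩} : Finset Q)) : Set Q) = ⊤ := by
      refine map_injective Q.subtype_injective ?_
      rw [MonoidHom.map_closure, ← MonoidHom.range_eq_map, range_subtype]
      simpa [Set.image_pair] using hab'
    exact (PGroupsBasic.pow_card_ge_index_frattini hQ _ hT).trans
      (Nat.pow_le_pow_right (Fact.out : p.Prime).pos Finset.card_le_two)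
  set K := pPrimePCore p G with hK
  set g' : normalizer (Q : Set G) := ⟨g, hg⟩
  have hker : ∀ x : normalizer (Q : Set G), Q.normalizerMonoidHom x = 1 ↔ (x : G) ∈ centralizer (Q : Set G) := by
    intro x
    rw [← MonoidHom.mem_ker, normalizerMonoidHom_ker, mem_subgroupOf]
  have hord : Nat.Coprime (orderOf (Q.normalizerMonoidHom g')) p :=
    Nat.Coprime.coprime_dvd_left (orderOf_map_dvd _ g') (by rwa [orderOf_mk])
  have hdvd := orderOf_aut_dvd hQ h2 _ hord
  have hm : Q.normalizerMonoidHom g' ^ K.index = 1 := by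
    rw [← map_pow, hker, SubmonoidClass.coe_pow]
    set x := g ^ K.index with hx
    have hxK : x ∈ K := Subgroup.pow_index_mem K g
    have hxp : Nat.Coprime (orderOf x) p := Nat.Coprime.coprime_dvd_left (orderOf_pow_dvd _) hgp
    have hxO : x ∈ pPrimeCore p G := by
      obtain ⟨k, hk⟩ := (HallCore.isPGroup_pCore p (G ⧸ pPrimeCore p G)) ⟨QuotientGroup.mk' (pPrimeCore p G) x, hxK⟩
      have hk' : QuotientGroup.mk' (pPrimeCore p G) x ^ p ^ k = 1 := congrArg Subtype.val hk
      have h1 : orderOf (QuotientGroup.mk' (pPrimeCore p G) x) = 1 :=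
        Nat.eq_one_of_dvd_coprimes (hxp.pow_right k) (orderOf_map_dvd _ x) (orderOf_dvd_of_pow_eq_one hk')
      exact (QuotientGroup.eq_one_iff _).mp (orderOf_eq_one_iff.mp h1)
    rw [mem_centralizer_iff]
    intro q hq
    have hc1 : ⁅q, x⁆ ∈ pPrimeCore p G := by
      rw [commutatorElement_def]
      exact mul_mem ((HallCore.pPrimeCore_normal p G).conj_mem x hxO q) (inv_mem hxO)
    have hc2 : ⁅q, x⁆ ∈ Q := by
      rw [show ⁅q, x⁆ = q * (x * q⁻¹ * x⁻¹) by rw [commutatorElement_def]; group]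
      exact mul_mem hq ((mem_normalizer_iff.mp (pow_mem hg _) _).mp (inv_mem hq))
    have hbot : Q ⊓ pPrimeCore p G = ⊥ := by
      obtain ⟨k, hk⟩ := IsPGroup.iff_card.mp hQ
      exact inf_eq_bot_of_coprime (hk ▸ ((HallCore.coprime_card_pPrimeCore p G).symm.pow_left k))
    have hmem : ⁅q, x⁆ ∈ Q ⊓ pPrimeCore p G := ⟨hc2, hc1⟩
    rw [hbot, mem_bot] at hmem
    exact commutatorElement_eq_one_iff_mul_comm.mp hmem
  have h1 : orderOf (Q.normalizerMonoidHom g') = 1 :=
    Nat.eq_one_of_dvd_coprimes (hcop.pow_right 2) (orderOf_dvd_of_pow_eq_one hm) hdvd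
  exact (hker g').mp (orderOf_eq_one_iff.mp h1)

end Cfsg.Agent.S4419
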