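import Cfsg.Statements.S4420
import Mathlib

set_option autoImplicit false
open Cfsg

namespace Cfsg.Agent.S4420

/-- An involution outside `A` inverts every element of `A`. -/
theorem inverts {H : Type*} [Group H] (A : Subgroup H) (hD : ∀ x : H, x ∉ A → x ^ 2 = 1)
    {x a : H} (hx : x ∉ A) (ha : a ∈ A) : x * a * x⁻¹ = a⁻¹ := by
  have hx2 : x * x = 1 := by simpa [pow_two] using hD x hx
  have hxi : x⁻¹ = x := inv_eq_of_mul_eq_one_right hx2
  have h1 : (x * a) * (x * a) = 1 := by
    have := hD (x * a) (fun h => hx (by simpa using A.mul_mem h (A.inv_mem ha)))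
    simpa [pow_two] using this
  rw [hxi, eq_inv_iff_mul_eq_one]
  simpa [mul_assoc] using h1


/-- Structure of groups in which every element outside some proper subgroup has square 1. Let H be a finite group with a proper subgroup A such that every element outside A has square 1. Then H has an abelian normal subgroup B of index 2 such that every element outside B is an involution inverting every element of B; and if H is not an elementary abelian 2-group, B is the only abelian normal subgroup of index 2 with this property. -/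
theorem result {H : Type*} [Group H] [Finite H] (A : Subgroup H) (hA : A ≠ ⊤) (hD : ∀ x : H, x ∉ A → x ^ 2 = 1) :
    ∃ B : Subgroup H, B.Normal ∧ IsMulCommutative ↥B ∧ B.index = 2 ∧
      (∀ x : H, x ∉ B → x ^ 2 = 1 ∧ ∀ b ∈ B, x * b * x⁻¹ = b⁻¹) ∧
      (¬ (IsMulCommutative H ∧ ∀ x : H, x ^ 2 = 1) →
        ∀ B' : Subgroup H, B'.Normal → IsMulCommutative ↥B' → B'.index = 2 →
          (∀ x : H, x ∉ B' → x ^ 2 = 1 ∧ ∀ b ∈ B', x * b * x⁻¹ = b⁻¹) → B' = B) := by
  classical
  by_cases hel : IsMulCommutative H ∧ ∀ x : H, x ^ 2 = 1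
  · obtain ⟨hc, h2⟩ := hel
    haveI := hc
    haveI : Nontrivial H := by
      rcases subsingleton_or_nontrivial H with h | h
      · exact absurd (Subgroup.eq_top_iff' A |>.mpr fun x => Subsingleton.elim (1 : H) x ▸ A.one_mem) hA
      · exact h
    haveI : Fact (Nat.Prime 2) := ⟨Nat.prime_two⟩
    have hp : IsPGroup 2 H := fun x => ⟨1, by simpa using h2 x⟩
    obtain ⟨n, hn0, hn⟩ := (show ∃ n, n ≠ 0 ∧ Nat.card H = 2 ^ n from by
      obtain ⟨n, hn⟩ := IsPGroup.iff_card.mp hp
      refine ⟨n, ?_, hn⟩
      rintro rfl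
      rw [pow_zero] at hn
      exact (Finite.one_lt_card (α := H)).ne' hn)
    obtain ⟨B, hB⟩ := Sylow.exists_subgroup_card_pow_prime (G := H) 2 (n := n - 1)
      (hn ▸ pow_dvd_pow 2 (Nat.sub_le n 1))
    refine ⟨B, ⟨fun b hb g => ?_⟩, ⟨⟨fun a b => Subtype.ext (mul_comm' _ _)⟩⟩, ?_, fun x _ => ⟨h2 x, fun b _ => ?_⟩,
      fun h => absurd ⟨hc, h2⟩ h⟩
    · rwa [mul_comm' g b, mul_inv_cancel_right]
    · have h3 := B.card_mul_index
      rw [hB, hn, show n = n - 1 + 1 by omega, pow_succ] at h3
      exact Nat.eq_of_mul_eq_mul_left (pow_pos two_pos _) h3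
    · rw [mul_comm' x b, mul_inv_cancel_right]
      exact eq_inv_of_mul_eq_one_left (by simpa [pow_two] using h2 b)
  · obtain ⟨x, hx⟩ : ∃ x, x ∉ A := by
      by_contra h
      push_neg at h
      exact hA ((Subgroup.eq_top_iff' A).mpr h)
    have hAc : ∀ a ∈ A, ∀ b ∈ A, a * b = b * a := fun a ha b hb => by
      have h1 := inverts A hD hx (A.mul_mem ha hb)
      rw [show x * (a * b) * x⁻¹ = (x * a * x⁻¹) * (x * b * x⁻¹) by group,
        inverts A hD hx ha, inverts A hD hx hb, ← mul_inv_rev] at h1
      exact (inv_injective h1).symm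
    -- if some product of two elements outside A lies outside A, everything is an involution
    have hidx : ∀ y z : H, y ∉ A → z ∉ A → y * z ∈ A := by
      intro y z hy hz
      by_contra hyz
      have hexp : ∀ a ∈ A, a ^ 2 = 1 := fun a ha => by
        have e1 : y * (z * a * z⁻¹) * y⁻¹ = a := by
          rw [inverts A hD hz ha, inverts A hD hy (A.inv_mem ha), inv_inv]
        have e2 := inverts A hD hyz ha
        rw [mul_inv_rev, show y * z * a * (z⁻¹ * y⁻¹) = y * (z * a * z⁻¹) * y⁻¹ by group, e1] at e2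
        rw [pow_two]
        exact eq_inv_iff_mul_eq_one.mp e2
      have hall : ∀ g : H, g ^ 2 = 1 := fun g => by
        by_cases hg : g ∈ A
        · exact hexp g hg
        · exact hD g hg
      refine hel ⟨⟨⟨fun a b => ?_⟩⟩, hall⟩
      have hi : ∀ g : H, g⁻¹ = g := fun g =>
        inv_eq_of_mul_eq_one_right (by simpa [pow_two] using hall g)
      rw [← hi (a * b), mul_inv_rev, hi, hi]
    refine ⟨A, ⟨fun b hb g => ?_⟩, ⟨⟨fun a b => Subtype.ext (hAc _ a.2 _ b.2)⟩⟩, ?_, fun y hy => ⟨hD y hy, fun b hb => inverts A hD hy hb⟩, ?_⟩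
    · by_cases hg : g ∈ A
      · exact A.mul_mem (A.mul_mem hg hb) (A.inv_mem hg)
      · rw [inverts A hD hg hb]; exact A.inv_mem hb
    · rw [Subgroup.index_eq_two_iff]
      refine ⟨x, fun b => ?_⟩
      by_cases hb : b ∈ A
      · exact Or.inr ⟨hb, fun h => hx (by simpa using A.mul_mem (A.inv_mem hb) h)⟩
      · exact Or.inl ⟨hidx b x hb hx, hb⟩
    · intro _ B' hB'n hB'c hB'i hB'D
      by_contra hne
      apply hel
      -- some element of A lies outside B', so it inverts B'
      have hsub : ¬ A ≤ B' := fun hle => by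
        have hAi : A.index = 2 := by
          rw [Subgroup.index_eq_two_iff]
          refine ⟨x, fun b => ?_⟩
          by_cases hb : b ∈ A
          · exact Or.inr ⟨hb, fun h => hx (by simpa using A.mul_mem (A.inv_mem hb) h)⟩
          · exact Or.inl ⟨hidx b x hb hx, hb⟩
        refine hne (le_antisymm ?_ hle)
        have h3 := Subgroup.relIndex_mul_index hle
        rw [hB'i, hAi] at h3
        exact Subgroup.relIndex_eq_one.mp (by omega)
      obtain ⟨a, haA, haB⟩ := SetLike.not_le_iff_exists.mp hsub
      have hout : ∀ a ∈ A, a ∉ B' → a ^ 2 = 1 := fun a _ h => (hB'D a h).1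
      have hexp : ∀ c ∈ A, c ^ 2 = 1 := fun c hc => by
        by_cases hcB : c ∈ B'
        · have h1 := hout (a * c) (A.mul_mem haA hc) (fun h => haB (by simpa using B'.mul_mem h (B'.inv_mem hcB)))
          have h2 := hout a haA haB
          rw [pow_two] at h1 h2 ⊢
          calc c * c = (a * a) * (c * c) := by rw [h2, one_mul]
            _ = a * c * (a * c) := by
              rw [mul_assoc a c, ← mul_assoc c a c, ← hAc a haA c hc]; group
            _ = 1 := h1
        · exact hout c hc hcB
      have hall : ∀ g : H, g ^ 2 = 1 := fun g => by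
        by_cases hg : g ∈ A
        · exact hexp g hg
        · exact hD g hg
      refine ⟨⟨⟨fun a b => ?_⟩⟩, hall⟩
      have hi : ∀ g : H, g⁻¹ = g := fun g =>
        inv_eq_of_mul_eq_one_right (by simpa [pow_two] using hall g)
      rw [← hi (a * b), mul_inv_rev, hi, hi]

end Cfsg.Agent.S4420
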