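import Cfsg.Statements.S4421
import Mathlib

set_option autoImplicit false
open Cfsg

namespace Cfsg.Agent.S4421


/-- A factorization of a normalizer from two-step control of fusion. Let `G` be a finite group and `A ≤ S ≤ H` subgroups of `G` such that: (i) `S` controls the `G`-fusion of `A` in the sense that every `G`-conjugate of `A` lying in `S` is an `S`-conjugate of `A`; (ii) `H` controls the `G`-fusion of `S` in the same sense; (iii) every conjugate of `S` by an element of the normalizer of `A` lies in `H`. Then `N_G(A) = N_H(A) · (N_G(S) ∩ N_G(A))`: every element of the normalizer of `A` is a product of an element of `H` normalizing `A` and an element normalizing both `S` and `A`. -/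
theorem result {G : Type*} [Group G] [Finite G] (A S H : Subgroup G)
    (hAS : A ≤ S) (hSH : S ≤ H)
    (h1 : ∀ g : G, A.map (MulAut.conj g).toMonoidHom ≤ S → ∃ s ∈ S, A.map (MulAut.conj g).toMonoidHom = A.map (MulAut.conj s).toMonoidHom)
    (h2 : ∀ g : G, S.map (MulAut.conj g).toMonoidHom ≤ H → ∃ y ∈ H, S.map (MulAut.conj g).toMonoidHom = S.map (MulAut.conj y).toMonoidHom)
    (h3 : ∀ x ∈ Subgroup.normalizer (A : Set G), S.map (MulAut.conj x).toMonoidHom ≤ H) :
    ∀ x ∈ Subgroup.normalizer (A : Set G), ∃ y ∈ H ⊓ Subgroup.normalizer (A : Set G),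
      ∃ z ∈ Subgroup.normalizer (S : Set G) ⊓ Subgroup.normalizer (A : Set G), x = y * z := by
  intro x hx
  have hxA : A.map (MulAut.conj x).toMonoidHom = A := by
    ext a
    rw [Subgroup.mem_map_equiv, MulAut.conj_symm_apply]
    exact (Subgroup.mem_normalizer_iff'.mp hx (x⁻¹ * a)).trans (by simp [mul_assoc])
  obtain ⟨y, hy, hye⟩ := h2 x (h3 x hx)
  have comp : ∀ (K : Subgroup G) (u v : G), K.map (MulAut.conj (u * v)).toMonoidHom =
      (K.map (MulAut.conj v).toMonoidHom).map (MulAut.conj u).toMonoidHom := fun K u v => by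
    rw [Subgroup.map_map]; congr 1; ext a; simp [mul_assoc]
  have one : ∀ K : Subgroup G, K.map (MulAut.conj (1 : G)).toMonoidHom = K := fun K => by
    conv_rhs => rw [← Subgroup.map_id K]
    congr 1; ext a; simp
  have norm_mem : ∀ (K : Subgroup G) (g : G), K.map (MulAut.conj g).toMonoidHom = K →
      g ∈ Subgroup.normalizer (K : Set G) := fun K g hg => by
    rw [Subgroup.mem_normalizer_iff]
    intro a
    conv_rhs => rw [← hg, Subgroup.mem_map_equiv, MulAut.conj_symm_apply]
    simp [mul_assoc]
  have h4 : A.map (MulAut.conj y⁻¹).toMonoidHom ≤ S := by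
    have := Subgroup.map_mono (f := (MulAut.conj x).toMonoidHom) hAS
    rw [hxA, hye] at this
    have := Subgroup.map_mono (f := (MulAut.conj y⁻¹).toMonoidHom) this
    rwa [← comp, inv_mul_cancel, one] at this
  obtain ⟨s, hs, hse⟩ := h1 y⁻¹ h4
  have hys : A.map (MulAut.conj (y * s)).toMonoidHom = A := by
    rw [comp, ← hse, ← comp, mul_inv_cancel, one]
  refine ⟨y * s, ⟨H.mul_mem hy (hSH hs), norm_mem A _ hys⟩, (y * s)⁻¹ * x, ⟨norm_mem S _ ?_, ?_⟩, by group⟩
  · rw [mul_inv_rev, comp, hye, ← comp, mul_assoc, inv_mul_cancel, mul_one]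
    ext a
    rw [Subgroup.mem_map_equiv, MulAut.conj_symm_apply, inv_inv]
    exact ⟨fun h => by simpa [mul_assoc] using S.mul_mem (S.mul_mem (S.inv_mem hs) h) hs,
      fun h => S.mul_mem (S.mul_mem hs h) (S.inv_mem hs)⟩
  · exact Subgroup.mul_mem _ (Subgroup.inv_mem _ (norm_mem A _ hys)) hx

end Cfsg.Agent.S4421
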