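import Cfsg.Statements.S4422
import Mathlib

set_option autoImplicit false
open Cfsg

namespace Cfsg.Agent.S4422


/-- Primitive divisors of `q^e - 1` are congruent to 1 modulo `e`. Let `q ≥ 2` and `e ≥ 1` be natural numbers and let `m` be a divisor of `q^e - 1` that is coprime to `q^i - 1` for every `1 ≤ i < e` (so `m` divides the primitive part of `q^e - 1`, the largest such divisor). Then `m ≡ 1 (mod e)`. -/
theorem result (q e m : ℕ) (hq : 2 ≤ q) (he : 1 ≤ e)
    (hm : m ∣ q ^ e - 1) (hcop : ∀ i : ℕ, 1 ≤ i → i < e → Nat.Coprime m (q ^ i - 1)) :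
    m % e = 1 % e := by
  suffices key : ∀ l : List ℕ, (∀ r ∈ l, r.Prime ∧ r ∣ m) → l.prod % e = 1 % e by
    have hm0 : m ≠ 0 := by
      rintro rfl
      have h1 : 2 ≤ q ^ e := hq.trans (Nat.le_self_pow (by omega) q)
      simp only [zero_dvd_iff] at hm
      omega
    rw [← Nat.prod_primeFactorsList hm0]
    exact key _ fun r hr => ⟨Nat.prime_of_mem_primeFactorsList hr, Nat.dvd_of_mem_primeFactorsList hr⟩
  intro l
  induction l with
  | nil => intro _; rfl
  | cons r l ih =>
    intro hl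
    rw [List.prod_cons, Nat.mul_mod, ih fun s hs => hl s (List.mem_cons_of_mem _ hs)]
    obtain ⟨hr, hrm⟩ := hl r List.mem_cons_self
    haveI : Fact r.Prime := ⟨hr⟩
    have hr1 : r % e = 1 % e := by
      have hpow : ∀ i, r ∣ q ^ i - 1 ↔ (q : ZMod r) ^ i = 1 := fun i => by
        rw [← ZMod.natCast_eq_zero_iff, Nat.cast_sub (Nat.one_le_pow _ _ (by omega)), sub_eq_zero]
        simp
      have h1 : orderOf (q : ZMod r) = e := by
        rw [orderOf_eq_iff he]
        refine ⟨(hpow e).mp (hrm.trans hm), fun i hi hi0 hq1 => ?_⟩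
        exact hr.not_dvd_one ((hcop i hi0 hi) ▸ Nat.dvd_gcd hrm ((hpow i).mpr hq1))
      have h2 : (q : ZMod r) ≠ 0 := fun h0 => by
        have := (hpow e).mp (hrm.trans hm)
        rw [h0, zero_pow (by omega)] at this
        exact zero_ne_one this
      have h3 : e ∣ r - 1 := h1 ▸ ZMod.orderOf_dvd_card_sub_one h2
      exact (Nat.modEq_of_dvd' hr.one_lt.le h3).symm
    rw [hr1, ← Nat.mul_mod, one_mul]

end Cfsg.Agent.S4422
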