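import Cfsg.Statements.S4423
import Cfsg.Agent.S2904
import Cfsg.Agent.S4422

set_option autoImplicit false
open Cfsg

namespace Cfsg.Agent.S4423

open Polynomial Finset

theorem moebius_prod (q n : ℕ) (hq : 2 ≤ q) (hn : 0 < n) :
    (q : ℚ) ^ n.totient ≤ 4 * (cyclotomic n ℚ).eval (q : ℚ) := by
  have hq' : (1 : ℚ) < q := by exact_mod_cast (show 1 < q by omega)
  have hf0 : ∀ d : ℕ, 0 < d → (cyclotomic d ℚ).eval (q : ℚ) ≠ 0 :=
    fun d _ => (cyclotomic_pos' d hq').ne'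
  have hg0 : ∀ d : ℕ, 0 < d → (q : ℚ) ^ d - 1 ≠ 0 :=
    fun d hd => by have := one_lt_pow₀ hq' hd.ne'; linarith
  have h1 := (ArithmeticFunction.prod_eq_iff_prod_pow_moebius_eq_of_nonzero hf0 hg0).mp
    (fun d hd => by rw [← eval_prod, prod_cyclotomic_eq_X_pow_sub_one hd, eval_sub, eval_pow,
      eval_X, eval_one]) n hn
  have h2 := (ArithmeticFunction.prod_eq_iff_prod_pow_moebius_eq_of_nonzero
    (f := fun d => (q : ℚ) ^ d.totient) (g := fun d => (q : ℚ) ^ d)
    (fun d _ => pow_ne_zero _ (by linarith)) (fun d _ => pow_ne_zero _ (by linarith))).mp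
    (fun d _ => by rw [prod_pow_eq_pow_sum, Nat.sum_totient]) n hn
  -- the ratio
  have hterm : ∀ x ∈ n.divisorsAntidiagonal,
      (1 - ((q : ℚ) ^ x.2)⁻¹) ≤ (((q : ℚ) ^ x.2 - 1) / (q : ℚ) ^ x.2) ^ ArithmeticFunction.moebius x.1
      ∧ 0 ≤ 1 - ((q : ℚ) ^ x.2)⁻¹ := by
    intro x hx
    have hx2 : 0 < x.2 := Nat.pos_of_ne_zero (fun h0 => by
      simp only [Nat.mem_divisorsAntidiagonal] at hx; rw [h0] at hx; simp at hx; omega)
    have hp : (1 : ℚ) < (q : ℚ) ^ x.2 := one_lt_pow₀ hq' hx2.ne'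
    have he : ((q : ℚ) ^ x.2 - 1) / (q : ℚ) ^ x.2 = 1 - ((q : ℚ) ^ x.2)⁻¹ := by field_simp
    have hi : ((q : ℚ) ^ x.2)⁻¹ < 1 := inv_lt_one_of_one_lt₀ hp
    have hi0 : 0 < ((q : ℚ) ^ x.2)⁻¹ := by positivity
    rw [he]
    refine ⟨?_, by linarith⟩
    rcases ArithmeticFunction.moebius_eq_or x.1 with h | h | h <;> rw [h]
    · simp
    · simp
    · rw [zpow_neg, zpow_one]
      have : (1 : ℚ) ≤ (1 - ((q : ℚ) ^ x.2)⁻¹)⁻¹ := (one_le_inv₀ (by linarith)).mpr (by linarith)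
      linarith
  have hdiv : (cyclotomic n ℚ).eval (q : ℚ) / (q : ℚ) ^ n.totient
      = ∏ x ∈ n.divisorsAntidiagonal,
        (((q : ℚ) ^ x.2 - 1) / (q : ℚ) ^ x.2) ^ ArithmeticFunction.moebius x.1 := by
    rw [← h1, ← h2, ← Finset.prod_div_distrib]
    exact Finset.prod_congr rfl fun x _ => (div_zpow _ _ _).symm
  have hprod : ∏ x ∈ n.divisorsAntidiagonal, (1 - ((q : ℚ) ^ x.2)⁻¹)
      ≤ (cyclotomic n ℚ).eval (q : ℚ) / (q : ℚ) ^ n.totient := by
    rw [hdiv]
    exact Finset.prod_le_prod (fun x hx => (hterm x hx).2) (fun x hx => (hterm x hx).1)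
  rw [Nat.prod_divisorsAntidiagonal (fun _ d => (1 - ((q : ℚ) ^ d)⁻¹))] at hprod
  rw [Nat.prod_div_divisors n (fun d => (1 - ((q : ℚ) ^ d)⁻¹))] at hprod
  -- lower bound for the product
  set x : ℚ := ((q : ℚ))⁻¹ with hxdef
  have hx0 : 0 < x := by positivity
  have hxh : x ≤ 1 / 2 := by
    rw [hxdef, one_div]; exact inv_anti₀ two_pos (by exact_mod_cast hq)
  have hle : ∀ d : ℕ, 1 ≤ d → 0 ≤ 1 - x ^ d ∧ 1 - x ^ d ≤ 1 := fun d _ => by
    have := pow_le_one₀ (n := d) hx0.le (by linarith)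
    have := pow_nonneg hx0.le d
    constructor <;> linarith
  have hext : ∏ d ∈ Finset.Icc 1 n, (1 - x ^ d) ≤ ∏ d ∈ n.divisors, (1 - x ^ d) := by
    have hsub : n.divisors ⊆ Finset.Icc 1 n := fun d hd =>
      Finset.mem_Icc.mpr ⟨Nat.pos_of_mem_divisors hd, Nat.divisor_le hd⟩
    rw [← Finset.prod_sdiff hsub]
    exact mul_le_of_le_one_left
      (Finset.prod_nonneg fun d hd => (hle d (Nat.pos_of_mem_divisors hd)).1)
      (Finset.prod_le_one
        (fun d hd => (hle d (Finset.mem_Icc.mp (Finset.mem_sdiff.mp hd).1).1).1)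
        (fun d hd => (hle d (Finset.mem_Icc.mp (Finset.mem_sdiff.mp hd).1).1).2))
  have hlow : ∀ k : ℕ, (1 : ℚ) / 4 + (1 / 4) * (1 / 2) ^ k ≤ ∏ d ∈ Finset.Icc 1 (k + 1), (1 - x ^ d) := by
    intro k
    induction k with
    | zero => simp; linarith
    | succ k ih =>
      rw [Finset.prod_Icc_succ_top (by omega)]
      have hxp : x ^ (k + 1 + 1) ≤ (1 / 2) ^ (k + 1 + 1) := pow_le_pow_left₀ hx0.le hxh _
      have hh0 : (0 : ℚ) ≤ (1 / 2) ^ k := by positivity
      have hh1 : ((1 : ℚ) / 2) ^ k ≤ 1 := pow_le_one₀ (by norm_num) (by norm_num)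
      rw [show ((1 : ℚ) / 2) ^ (k + 1 + 1) = (1 / 2) ^ k / 4 by ring] at hxp
      calc (1 : ℚ) / 4 + 1 / 4 * (1 / 2) ^ (k + 1)
          ≤ (1 / 4 + 1 / 4 * (1 / 2) ^ k) * (1 - (1 / 2) ^ k / 4) := by
            rw [pow_succ]; nlinarith
        _ ≤ (1 / 4 + 1 / 4 * (1 / 2) ^ k) * (1 - x ^ (k + 1 + 1)) :=
            mul_le_mul_of_nonneg_left (by linarith) (by linarith)
        _ ≤ _ := mul_le_mul_of_nonneg_right ih (hle _ (by omega)).1
  obtain ⟨k, rfl⟩ : ∃ k, n = k + 1 := ⟨n - 1, by omega⟩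
  have h4 := hlow k
  have hh0 : (0 : ℚ) ≤ (1 / 2) ^ k := by positivity
  simp only [hxdef, inv_pow] at hext h4
  have hb : (1 : ℚ) / 4 ≤ (cyclotomic (k + 1) ℚ).eval (q : ℚ) / (q : ℚ) ^ (k + 1).totient := by linarith
  rw [le_div_iff₀ (by positivity)] at hb
  linarith

theorem pow_totient_le (q n : ℕ) (hq : 2 ≤ q) (hn : 0 < n) :
    q ^ n.totient ≤ 4 * ((cyclotomic n ℤ).eval (q : ℤ)).natAbs := by
  have h := moebius_prod q n hq hn
  have hc := eval_intCast_map (Int.castRingHom ℚ) (cyclotomic n ℤ) (q : ℤ)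
  rw [map_cyclotomic, eq_intCast, Int.cast_natCast] at hc
  rw [hc] at h
  have h' : ((q : ℤ) ^ n.totient) ≤ 4 * (cyclotomic n ℤ).eval (q : ℤ) := by exact_mod_cast h
  have hpos : 0 < (cyclotomic n ℤ).eval (q : ℤ) := cyclotomic_pos' n (by exact_mod_cast hq)
  have : ((q ^ n.totient : ℕ) : ℤ) ≤ ((4 * ((cyclotomic n ℤ).eval (q : ℤ)).natAbs : ℕ) : ℤ) := by
    push_cast; rw [abs_of_pos hpos]; exact h'
  exact_mod_cast this

/-- A large value of the cyclotomic polynomial gives a large primitive divisor. -/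
theorem exists_big (q e : ℕ) (hq : 2 ≤ q) (he : 3 ≤ e) (hbig : 8 * e * (e + 1) ≤ q ^ e.totient) :
    ∃ m : ℕ, m ∣ q ^ e - 1 ∧ (∀ i : ℕ, 1 ≤ i → i < e → Nat.Coprime m (q ^ i - 1)) ∧ 3 * e + 1 ≤ m := by
  set N := ((cyclotomic e ℤ).eval (q : ℤ)).natAbs with hN
  have hNbig : e * (2 * e + 2) ≤ N := by
    have := pow_totient_le q e hq (by omega)
    rw [← hN] at this; nlinarith
  have hNdvd : N ∣ q ^ e - 1 := by
    have h := Polynomial.eval_dvd (x := (q : ℤ)) (cyclotomic.dvd_X_pow_sub_one e ℤ)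
    simp only [eval_sub, eval_pow, eval_X, eval_one] at h
    have h2 : (N : ℤ) ∣ ((q ^ e - 1 : ℕ) : ℤ) := by
      rw [Nat.cast_sub (Nat.one_le_pow _ _ (by omega))]
      push_cast
      rw [hN]; exact Int.natAbs_dvd.mpr h
    exact_mod_cast h2
  obtain ⟨m, hmN, hprim, hmbig⟩ : ∃ m, m ∣ N ∧
      (∀ r : ℕ, r.Prime → r ∣ m → ∀ k, 0 < k → k < e → ¬ r ∣ q ^ k - 1) ∧ 2 * e + 2 ≤ m := by
    by_cases hall : ∀ r : ℕ, r.Prime → r ∣ N → ∀ k, 0 < k → k < e → ¬ r ∣ q ^ k - 1
    · exact ⟨N, dvd_rfl, hall, by nlinarith⟩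
    push Not at hall
    obtain ⟨r, hr, hrN, k0, hk0, hk0e, hk0d⟩ := hall
    have hle : ∀ {r r' k m : ℕ}, r.Prime → r'.Prime → e = r ^ k * m → m ∣ r - 1 → r' ∣ e → r' ≤ r := by
      intro r r' k m hr hr' hnm hmr hd
      rcases (Nat.Prime.dvd_mul hr').mp (hnm ▸ hd) with h | h
      · exact le_of_eq ((Nat.prime_dvd_prime_iff_eq hr' hr).mp (hr'.dvd_of_dvd_pow h))
      · exact le_trans (Nat.le_of_dvd (by have := hr.two_le; omega) (h.trans hmr)) (Nat.sub_le _ _)
    rcases S2904.prime_dvd q e r (by omega) hr (Int.natCast_dvd.mpr hrN) with h | ⟨k, m, hnm, hk, hrm, hmr, hroot⟩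
    · exact absurd hk0d (h.2 k0 hk0 hk0e)
    have hdr : r ∣ e := hnm ▸ dvd_mul_of_dvd_left (dvd_pow_self r (by omega)) m
    obtain ⟨c, hc⟩ := hrN
    refine ⟨c, hc ▸ dvd_mul_left c r, ?_, ?_⟩
    · intro r' hr' hr'c j hj0 hje hjd
      have hr'N : r' ∣ N := hc ▸ dvd_mul_of_dvd_right hr'c r
      rcases S2904.prime_dvd q e r' (by omega) hr' (Int.natCast_dvd.mpr hr'N) with h | ⟨k', m', hnm', hk', -, hmr', -⟩
      · exact h.2 j hj0 hje hjd
      have hdr' : r' ∣ e := hnm' ▸ dvd_mul_of_dvd_left (dvd_pow_self r' (by omega)) m'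
      obtain rfl : r = r' := le_antisymm (hle hr' hr hnm' hmr' hdr) (hle hr hr' hnm hmr hdr')
      refine S2904.not_sq_dvd q e r k m (by omega) hr hnm hk hmr hroot he ?_
      have h : r ^ 2 ∣ N := by rw [hc, pow_two]; exact mul_dvd_mul_left r hr'c
      have := Int.natCast_dvd.mpr h
      simpa using this
    · have hre : r ≤ e := Nat.le_of_dvd (by omega) hdr
      by_contra hlt
      have : r * c ≤ e * c := Nat.mul_le_mul_right c hre
      have : e * c ≤ e * (2 * e + 1) := Nat.mul_le_mul_left e (by omega)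
      nlinarith
  have hdvd : m ∣ q ^ e - 1 := hmN.trans hNdvd
  have hcop : ∀ i : ℕ, 1 ≤ i → i < e → Nat.Coprime m (q ^ i - 1) := by
    intro i hi hie
    by_contra hc
    obtain ⟨r, hr, h1, h2⟩ := Nat.Prime.not_coprime_iff_dvd.mp hc
    exact hprim r hr h1 i (by omega) hie h2
  refine ⟨m, hdvd, hcop, ?_⟩
  have h := S4422.result q e m hq (by omega) hdvd hcop
  rw [Nat.mod_eq_of_lt (show 1 < e by omega)] at h
  have hd := Nat.div_add_mod m e
  rw [h] at hd
  by_contra hlt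
  rcases Nat.lt_or_ge (m / e) 3 with hj | hj
  · interval_cases hje : m / e <;> omega
  · have := Nat.mul_le_mul_left e hj
    omega

theorem prod_le_card (s : Finset ℕ) (hs : ∀ x ∈ s, 2 ≤ x) :
    ∏ x ∈ s, x ≤ (s.card + 1) * ∏ x ∈ s, (x - 1) := by
  induction s using Finset.induction_on_max with
  | empty => simp
  | insert a s hlt ih =>
    have ha : a ∉ s := fun h => (hlt a h).false
    have hs' : ∀ x ∈ s, 2 ≤ x := fun x hx => hs x (Finset.mem_insert_of_mem hx)
    have ha2 : 2 ≤ a := hs a (Finset.mem_insert_self _ _)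
    have hcard : s.card + 2 ≤ a := by
      have : s ⊆ Finset.Ico 2 a := fun x hx => Finset.mem_Ico.mpr ⟨hs' x hx, hlt x hx⟩
      have := Finset.card_le_card this
      rw [Nat.card_Ico] at this; omega
    rw [Finset.prod_insert ha, Finset.prod_insert ha, Finset.card_insert_of_notMem ha]
    have h1 : a * (s.card + 1) ≤ (s.card + 1 + 1) * (a - 1) := by
      obtain ⟨b, rfl⟩ : ∃ b, a = b + 1 := ⟨a - 1, by omega⟩
      rw [Nat.add_sub_cancel]; nlinarith
    calc a * ∏ x ∈ s, x ≤ a * ((s.card + 1) * ∏ x ∈ s, (x - 1)) := Nat.mul_le_mul_left _ (ih hs')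
      _ = a * (s.card + 1) * ∏ x ∈ s, (x - 1) := by ring
      _ ≤ (s.card + 1 + 1) * (a - 1) * ∏ x ∈ s, (x - 1) := Nat.mul_le_mul_right _ h1
      _ = _ := by ring

theorem small_ineq : ∀ L : ℕ, 8 ≤ L → (L + 1) * (2 * L + 5) ≤ 2 ^ L := by
  intro L hL
  induction L, hL using Nat.le_induction with
  | base => norm_num
  | succ L hL ih => rw [pow_succ]; nlinarith

theorem large (e : ℕ) (he : 256 ≤ e) : 8 * e * (e + 1) ≤ 2 ^ e.totient := by
  set L := Nat.log 2 e with hL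
  have hL8 : 8 ≤ L := Nat.le_log_of_pow_le (by norm_num) (by omega)
  have hlo : 2 ^ L ≤ e := Nat.pow_log_le_self 2 (by omega)
  have hhi : e < 2 ^ (L + 1) := Nat.lt_pow_succ_log_self (by norm_num) e
  have hs2 : ∀ x ∈ e.primeFactors, 2 ≤ x := fun x hx => (Nat.prime_of_mem_primeFactors hx).two_le
  have hk : e.primeFactors.card ≤ L := by
    refine Nat.le_log_of_pow_le (by norm_num) ?_
    calc 2 ^ e.primeFactors.card ≤ ∏ x ∈ e.primeFactors, x := Finset.pow_card_le_prod _ _ _ hs2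
      _ ≤ e := Nat.le_of_dvd (by omega) (Nat.prod_primeFactors_dvd e)
  have h1 := Nat.totient_mul_prod_primeFactors e
  have hpos : 0 < ∏ x ∈ e.primeFactors, (x - 1) :=
    Finset.prod_pos fun x hx => by have := hs2 x hx; omega
  have h2 : e ≤ (L + 1) * e.totient := by
    refine Nat.le_of_mul_le_mul_right ?_ hpos
    rw [← h1]
    calc e.totient * ∏ x ∈ e.primeFactors, x
        ≤ e.totient * ((e.primeFactors.card + 1) * ∏ x ∈ e.primeFactors, (x - 1)) :=
          Nat.mul_le_mul_left _ (prod_le_card _ hs2)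
      _ ≤ e.totient * ((L + 1) * ∏ x ∈ e.primeFactors, (x - 1)) := by gcongr
      _ = _ := by ring
  have h3 : 2 * L + 5 ≤ e.totient :=
    Nat.le_of_mul_le_mul_left ((small_ineq L hL8).trans (hlo.trans h2)) (Nat.succ_pos L)
  calc 8 * e * (e + 1) ≤ 8 * 2 ^ (L + 1) * 2 ^ (L + 1) := by gcongr <;> omega
    _ = 2 ^ (2 * L + 5) := by ring
    _ ≤ _ := Nat.pow_le_pow_right (by norm_num) h3

/-- Remove from `N` the primes it shares with `D`, with bounded fuel. -/
def strip (D : ℕ) : ℕ → ℕ → ℕ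
  | 0, N => N
  | f + 1, N => if Nat.gcd N D = 1 then N else strip D f (N / Nat.gcd N D)

theorem dvd_strip (D m : ℕ) (hc : Nat.Coprime m D) : ∀ f N : ℕ, m ∣ N → m ∣ strip D f N := by
  intro f
  induction f with
  | zero => exact fun N h => h
  | succ f ih =>
    intro N h
    rw [strip]
    split
    · exact h
    · refine ih _ ?_
      have h2 : m ∣ Nat.gcd N D * (N / Nat.gcd N D) := by rwa [Nat.mul_div_cancel' (Nat.gcd_dvd_left N D)]
      exact (hc.coprime_dvd_right (Nat.gcd_dvd_right N D)).dvd_of_dvd_mul_left h2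

/-- The computed primitive part. -/
def prim (q e : ℕ) : ℕ :=
  (List.range' 1 (e - 1)).foldl (fun N i => strip (q ^ i - 1) 64 N) (q ^ e - 1)

theorem dvd_prim (q e m : ℕ) (hm : m ∣ q ^ e - 1)
    (hcop : ∀ i : ℕ, 1 ≤ i → i < e → Nat.Coprime m (q ^ i - 1)) : m ∣ prim q e := by
  suffices h : ∀ (l : List ℕ) (N : ℕ), (∀ i ∈ l, Nat.Coprime m (q ^ i - 1)) → m ∣ N →
      m ∣ l.foldl (fun N i => strip (q ^ i - 1) 64 N) N from
    h _ _ (fun i hi => by
      rw [List.mem_range'_1] at hi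
      exact hcop i hi.1 (by omega)) hm
  intro l
  induction l with
  | nil => exact fun N _ h => h
  | cons i l ih =>
    intro N hl hN
    rw [List.foldl_cons]
    exact ih _ (fun j hj => hl j (List.mem_cons_of_mem _ hj))
      (dvd_strip _ _ (hl i List.mem_cons_self) _ _ hN)

/-- The exceptional pairs. -/
abbrev exc : List (ℕ × ℕ) :=
  [(2, 6), (2, 4), (2, 10), (2, 12), (2, 18), (3, 4), (3, 6), (5, 6), (2, 3), (2, 8), (2, 20), (4, 3), (4, 6)]

/-- The finite check at one pair. -/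
def ok (q e : ℕ) : Bool :=
  decide (q < 2) || decide (e < 3) || decide (8 * e * (e + 1) ≤ q ^ e.totient) || decide ((q, e) ∈ exc) ||
    (decide (3 * e + 1 ≤ prim q e) && decide ((q ^ e - 1) % prim q e = 0) &&
      (List.range' 1 (e - 1)).all (fun i => decide (Nat.gcd (prim q e) (q ^ i - 1) = 1)))

set_option maxRecDepth 100000 in
theorem ok_all : (List.range 256).all (fun e => (List.range 19).all (fun q => ok q e)) = true := by
  decide +kernel

theorem exc_small : exc.all (fun x => decide (prim x.1 x.2 ≤ 2 * x.2 + 1) && decide (0 < prim x.1 x.2)) = true := by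
  decide +kernel

theorem totient_ge_two (e : ℕ) (he : 3 ≤ e) : 2 ≤ e.totient := by
  have h := Nat.totient_even (n := e) (by omega)
  have h0 := Nat.totient_pos.mpr (show 0 < e by omega)
  obtain ⟨j, hj⟩ := h
  omega

/-- Size of the primitive part of `q^e - 1`. For a prime power `q` and `e ≥ 3`, call a divisor of `q^e - 1` primitive when it is coprime to `q^i - 1` for every `1 ≤ i < e`; the primitive part is the largest primitive divisor. Apart from thirteen exceptional pairs, the primitive part is at least `3e + 1`: there is a primitive divisor `m ≥ 3e + 1` unless `(q, e)` is `(2, 6)` (where every primitive divisor is 1), one of `(2,4), (2,10), (2,12), (2,18), (3,4), (3,6), (5,6)` (where the primitive part is exactly `e + 1`), or one of `(2,3), (2,8), (2,20), (4,3), (4,6)` (where it is exactly `2e + 1`). The statement asserts the existence of a primitive divisor `m ≥ 3e + 1` outside the thirteen pairs, and that every primitive divisor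 is at most `2e + 1` for the thirteen pairs. -/
theorem result (q e : ℕ) (hq : IsPrimePow q) (he : 3 ≤ e) :
    ((q, e) ∉ [(2, 6), (2, 4), (2, 10), (2, 12), (2, 18), (3, 4), (3, 6), (5, 6), (2, 3), (2, 8), (2, 20), (4, 3), (4, 6)] →
      ∃ m : ℕ, m ∣ q ^ e - 1 ∧ (∀ i : ℕ, 1 ≤ i → i < e → Nat.Coprime m (q ^ i - 1)) ∧ 3 * e + 1 ≤ m) ∧
    ((q, e) ∈ [(2, 6), (2, 4), (2, 10), (2, 12), (2, 18), (3, 4), (3, 6), (5, 6), (2, 3), (2, 8), (2, 20), (4, 3), (4, 6)] →
      ∀ m : ℕ, m ∣ q ^ e - 1 → (∀ i : ℕ, 1 ≤ i → i < e → Nat.Coprime m (q ^ i - 1)) → m ≤ 2 * e + 1) := by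
  have hq2 : 2 ≤ q := hq.two_le
  refine ⟨fun hne => ?_, fun hmem m hm hcop => ?_⟩
  · by_cases hbig : 8 * e * (e + 1) ≤ q ^ e.totient
    · exact exists_big q e hq2 he hbig
    have hphi := totient_ge_two e he
    have he256 : e < 256 := by
      by_contra h
      exact hbig ((large e (by omega)).trans (Nat.pow_le_pow_left hq2 _))
    have hq19 : q < 19 := by
      by_contra h
      have hge : 19 ^ e.totient ≤ q ^ e.totient := Nat.pow_le_pow_left (by omega) _
      have hs : ∀ e < 256, 3 ≤ e → 8 * e * (e + 1) ≤ 19 ^ e.totient := by decide +kernel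
      exact hbig ((hs e he256 he).trans hge)
    have h := ok_all
    rw [List.all_eq_true] at h
    have h2 := h e (List.mem_range.mpr he256)
    rw [List.all_eq_true] at h2
    have h3 := h2 q (List.mem_range.mpr hq19)
    simp only [ok, Bool.or_eq_true, Bool.and_eq_true, decide_eq_true_eq, List.all_eq_true,
      List.mem_range'_1] at h3
    rcases h3 with ((((h3 | h3) | h3) | h3) | ⟨⟨h3, h4⟩, h5⟩)
    · omega
    · omega
    · exact absurd h3 hbig
    · exact absurd h3 hne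
    · exact ⟨prim q e, Nat.dvd_of_mod_eq_zero h4, fun i hi hie => h5 i ⟨hi, by omega⟩, h3⟩
  · have h := exc_small
    rw [List.all_eq_true] at h
    have h2 := h (q, e) hmem
    simp only [Bool.and_eq_true, decide_eq_true_eq] at h2
    exact (Nat.le_of_dvd h2.2 (dvd_prim q e m hm hcop)).trans h2.1

end Cfsg.Agent.S4423
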