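import Cfsg.Statements.S4425
import Cfsg.Agent.Lib.BrauerBlocksRegFun

set_option autoImplicit false
open Cfsg Cfsg.Agent.CharBasicDecomp Cfsg.Agent.BrauerBlocksRegFun Cfsg.Agent.BlockContrib Cfsg.Agent.BlockTheoryIdem Cfsg.Agent.BlockTheoryCentre Cfsg.Agent.ClassAlgebraVal 
open scoped ComplexConjugate

namespace Cfsg.Agent.S4425

/-- Let χ be an irreducible character of the finite group G, p a prime, p^a the p-part of the order of G and p^b the p-part of the degree χ(1). Let χ̃ be the class function equal to p^a · χ on p-regular elements and zero on p-singular elements. Then p^(−b) · χ̃ is a generalized character of G, while p^(−(b+1)) · χ̃ is not. -/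
theorem result {G : Type*} [Group G] [Finite G] (p : ℕ) [Fact p.Prime] (χ : Cfsg.IrrCharacter G) : Cfsg.IsGeneralizedCharacter G (fun x : G => if p ∣ orderOf x then (0 : ℂ) else ((p ^ ((Nat.card G).factorization p - (Cfsg.charDegree (χ : G → ℂ)).factorization p) : ℕ) : ℂ) * (χ : G → ℂ) x) ∧ ¬ Cfsg.IsGeneralizedCharacter G (fun x : G => if p ∣ orderOf x then (0 : ℂ) else ((p ^ (Nat.card G).factorization p : ℕ) : ℂ) / ((p ^ ((Cfsg.charDegree (χ : G → ℂ)).factorization p + 1) : ℕ) : ℂ) * (χ : G → ℂ) x) := by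
  have := Fintype.ofFinite G
  have hp : p.Prime := Fact.out
  obtain ⟨M, hM⟩ := exists_isPModular hp
  set B := blockOf M (χ : G → ℂ) with hBdef
  have hB : IsPBlock M B := isPBlock_blockOf χ
  have hχ : χ ∈ B := sameBlock_refl hM _
  have hb : (charDegree (χ : G → ℂ)).factorization p ≤ (Nat.card G).factorization p :=
    ClassAlgebraOmega.factorization_charDegree_le χ p
  have hp0 : (p : ℂ) ≠ 0 := Nat.cast_ne_zero.2 hp.ne_zero
  constructor
  · refine isGeneralizedCharacter_iff.2 ⟨isClassFunction_regFun (p := p) _ χ, fun ψ => ?_⟩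
    change ∃ n : ℤ, classInner (regFun p _ (χ : G → ℂ)) _ = _
    obtain ⟨k, hk⟩ := exists_contrib hp ψ (B := ({χ} : Set (IrrCharacter G))) (Set.mem_singleton χ)
    refine ⟨k, ?_⟩
    rw [classInner_regFun, pair_comm, hk, exp_eq_add (B := ({χ} : Set (IrrCharacter G))) rfl]
    rw [exp_eq_add (B := ({χ} : Set (IrrCharacter G))) rfl] at hb
    have hG : (Nat.card G : ℂ) =
        (p : ℂ) ^ (Nat.card G).factorization p * (cofactor p G : ℂ) := by
      exact_mod_cast (pow_mul_cofactor (G := G) p).symm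
    obtain ⟨i, hi⟩ := Nat.exists_eq_add_of_le hb
    have hc : (cofactor p G : ℂ) ≠ 0 :=
      Nat.cast_ne_zero.2 fun h => cofactor_not_dvd (G := G) hp (h ▸ dvd_zero p)
    rw [hG, hi, Nat.add_sub_cancel_left]
    push_cast
    rw [pow_add, pow_add]
    field_simp
  · intro hgen
    obtain ⟨φ, hφ, hφ0⟩ := BlockContrib.exists_height_zero hM hB
    obtain ⟨n, hn⟩ := (isGeneralizedCharacter_iff.1 hgen).2 φ
    change classInner (regFun p _ (χ : G → ℂ)) _ = _ at hn
    rw [classInner_regFun_eq hp _ χ hφ] at hn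
    refine contrib_not_dvd hM hB hφ hφ0 hχ ⟨n, ?_⟩
    rw [contrib_comm hp hφ hχ]
    rw [exp_eq_add (p := p) hχ] at hn
    push_cast [pow_add, pow_one] at hn
    field_simp at hn
    rify
    refine Complex.ofReal_injective ?_
    push_cast
    rw [pow_add, pow_one]
    linear_combination hn

end Cfsg.Agent.S4425
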