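import Cfsg.Statements.S4426
import Cfsg.Agent.Lib.BrauerBlocksRegFun

set_option autoImplicit false
open Cfsg Cfsg.Agent.CharBasicDecomp Cfsg.Agent.BrauerBlocksRegFun Cfsg.Agent.BlockContrib Cfsg.Agent.BlockTheoryIdem Cfsg.Agent.BlockTheoryCentre Cfsg.Agent.ClassAlgebraVal 
open scoped ComplexConjugate

namespace Cfsg.Agent.S4426

/-- Let χ be an irreducible character in the p-block B of the finite group G (relative to a maximal ideal M of the algebraic integers containing p), let p^a be the p-part of the order of G, and let χ̃ be the class function equal to p^a · χ on p-regular elements and zero elsewhere. For ξ ∈ B the inner product [χ̃, ξ] is an integer. The following are equivalent: (a) χ has height zero in B; (b) for some ξ ∈ B the integer [χ̃, ξ] is nonzero and the exact power of p dividing it equals the exact power of p dividing ξ(1); (c) the same holds for every ξ ∈ B. -/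
theorem result {G : Type*} [Group G] [Fintype G] (p : ℕ) [Fact p.Prime] (M : Ideal Cfsg.AlgInt) (hM : Cfsg.IsPModular p M) (B : Set (Cfsg.IrrCharacter G)) (hB : Cfsg.IsPBlock M B) (χ : Cfsg.IrrCharacter G) (hχ : χ ∈ B) : (Cfsg.blockHeight p B (χ : G → ℂ) = 0 ↔ ∃ ξ ∈ B, ∃ n : ℤ, Cfsg.classInner (fun x : G => if p ∣ orderOf x then (0 : ℂ) else ((p ^ (Nat.card G).factorization p : ℕ) : ℂ) * (χ : G → ℂ) x) (ξ : G → ℂ) = (n : ℂ) ∧ n ≠ 0 ∧ padicValInt p n = (Cfsg.charDegree (ξ : G → ℂ)).factorization p) ∧ (Cfsg.blockHeight p B (χ : G → ℂ) = 0 ↔ ∀ ξ ∈ B, ∃ n : ℤ, Cfsg.classInner (fun x : G => if p ∣ orderOf x then (0 : ℂ) else ((p ^ (Nat.card G).factorization p : ℕ) : ℂ) * (χ : G → ℂ) x) (ξ : G → ℂ) = (n : ℂ) ∧ n ≠ 0 ∧ padicValInt p n = (Cfsg.charDegree (ξ : G → ℂ)).factorization p) := by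
  have hp := hM.1
  have : Fact p.Prime := ⟨hp⟩
  set c : ℂ := ((p ^ (Nat.card G).factorization p : ℕ) : ℂ)
  have hval : ∀ ξ ∈ B, classInner (regFun p c (χ : G → ℂ)) (ξ : G → ℂ) =
      (((p : ℤ) ^ minExp p B * contrib p B χ ξ : ℤ) : ℂ) :=
    fun ξ hξ => classInner_regFun_block hp χ hξ
  have hfwd : blockHeight p B (χ : G → ℂ) = 0 → ∀ ξ ∈ B, ∃ n : ℤ,
      classInner (regFun p c (χ : G → ℂ)) (ξ : G → ℂ) = (n : ℂ) ∧ n ≠ 0 ∧
        padicValInt p n = (charDegree (ξ : G → ℂ)).factorization p := by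
    intro h0 ξ hξ
    have hc0 := contrib_ne_zero hM hB hχ h0 hξ
    refine ⟨_, hval ξ hξ, mul_ne_zero (pow_ne_zero _ (by exact_mod_cast hp.ne_zero)) hc0, ?_⟩
    obtain ⟨k, hk⟩ := height_dvd_contrib hp χ hξ
    have hk0 : ¬ (p : ℤ) ∣ k := fun ⟨j, hj⟩ => contrib_not_dvd hM hB hχ h0 hξ
      ⟨j, by rw [hk, hj, pow_succ]; ring⟩
    have hkne : k ≠ 0 := fun h => hk0 (h ▸ dvd_zero _)
    rw [hk, ← mul_assoc, ← pow_add, exp_eq_add (p := p) hξ, padicValInt.mul
      (pow_ne_zero _ (by exact_mod_cast hp.ne_zero)) hkne, padicValInt.eq_zero_of_not_dvd hk0,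
      ← Nat.cast_pow, padicValInt.of_nat, padicValNat.prime_pow, add_zero]
  have hbwd : ∀ ξ ∈ B, (∃ n : ℤ, classInner (regFun p c (χ : G → ℂ)) (ξ : G → ℂ) = (n : ℂ) ∧ n ≠ 0 ∧
        padicValInt p n = (charDegree (ξ : G → ℂ)).factorization p) →
      blockHeight p B (χ : G → ℂ) = 0 := by
    rintro ξ hξ ⟨n, hn, hn0, hv⟩
    by_contra hh
    rw [hval ξ hξ] at hn
    obtain ⟨k, hk⟩ := contrib_extra_of_height_pos hM hB hχ (Nat.pos_of_ne_zero hh) hξ
    have hd : (p : ℤ) ^ (minExp p B + blockHeight p B (ξ : G → ℂ) + 1) ∣ n := by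
      refine ⟨k, ?_⟩
      rw [← Int.cast_injective hn, hk, ← mul_assoc, ← pow_add]
      ring_nf
    have h2 := ((padicValInt_dvd_iff _ _).1 hd).resolve_left hn0
    rw [exp_eq_add (p := p) hξ] at hv
    omega
  refine ⟨⟨fun h0 => ⟨χ, hχ, hfwd h0 χ hχ⟩, fun ⟨ξ, hξ, h⟩ => hbwd ξ hξ h⟩,
    ⟨hfwd, fun h => hbwd χ hχ (h χ hχ)⟩⟩

end Cfsg.Agent.S4426
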