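import Cfsg.Statements.S4430
import Cfsg.Agent.Lib.BrauerBlocksHeight
import Cfsg.Agent.Lib.CharInducedBasic
import Cfsg.Agent.Lib.CharInducedRep

set_option autoImplicit false
open Cfsg Cfsg.Agent.BrauerBlocksVal Cfsg.Agent.BrauerBlocksCentral Cfsg.Agent.BrauerBlocksBasic Cfsg.Agent.BrauerBlocksOrth Cfsg.Agent.BrauerBlocksHeight Cfsg.Agent.CharBasic Cfsg.Agent.CharBasicOrth  Cfsg.Agent.CharInduced
open scoped ComplexConjugate

namespace Cfsg.Agent.S4430

/-- Let H be a subgroup of the finite group G, b a block of H whose induced block B₀ in G is defined (relative to a maximal ideal M of the algebraic integers containing p), and ξ ∈ b. For a block B of G let n_B be the value at 1 of the B-part of the induced character ξ^G (a natural number: the sum over χ ∈ B of the multiplicity of χ in ξ^G times χ(1)). Then for B = B₀ the exact power of p dividing n_B equals the exact power of p dividing ξ^G(1), while for every other block B either n_B = 0 or n_B is divisible by a strictly higher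 power of p than ξ^G(1). -/
theorem result {G : Type*} [Group G] [Fintype G] (p : ℕ) [Fact p.Prime] (M : Ideal Cfsg.AlgInt) (hM : Cfsg.IsPModular p M) (H : Subgroup G) [Fintype H] (b : Set (Cfsg.IrrCharacter H)) (B₀ : Set (Cfsg.IrrCharacter G)) (hind : Cfsg.IsInducedBlock M H b B₀) (ξ : Cfsg.IrrCharacter H) (hξ : ξ ∈ b) : (∃ n : ℕ, Cfsg.blockPart B₀ (Cfsg.indFun H (ξ : H → ℂ)) 1 = (n : ℂ) ∧ n ≠ 0 ∧ n.factorization p = (Cfsg.charDegree (Cfsg.indFun H (ξ : H → ℂ))).factorization p) ∧ ∀ B : Set (Cfsg.IrrCharacter G), Cfsg.IsPBlock M B → B ≠ B₀ → ∃ n : ℕ, Cfsg.blockPart B (Cfsg.indFun H (ξ : H → ℂ)) 1 = (n : ℂ) ∧ (n = 0 ∨ (Cfsg.charDegree (Cfsg.indFun H (ξ : H → ℂ))).factorization p < n.factorization p) := by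
  classical
  obtain ⟨hb, hB₀, hcong⟩ := hind
  obtain ⟨φ, hφ⟩ := block_nonempty hM hB₀
  obtain ⟨hξ1, hξpos⟩ := apply_one_eq_charDegree ξ.2
  set N := charDegree (indFun H (ξ : H → ℂ)) with hN
  have hN1 : indFun H (ξ : H → ℂ) 1 = ((H.index * charDegree (ξ : H → ℂ) : ℕ) : ℂ) := by
    rw [ind_one_apply, hξ1, Nat.cast_mul]
  have hNval : N = H.index * charDegree (ξ : H → ℂ) := by
    rw [hN, charDegree, hN1, Complex.natCast_re, Nat.floor_natCast]
  have hNpos : N ≠ 0 := by
    rw [hNval]; exact Nat.mul_ne_zero Subgroup.index_ne_zero_of_finite hξpos.ne'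
  have hmain : ∀ B : Set (IrrCharacter G), IsPBlock M B → ∃ n : ℕ,
      blockPart B (indFun H (ξ : H → ℂ)) 1 = (n : ℂ) ∧
      ∃ u : ℂ, (n : ℂ) = u * (N : ℂ) ∧ Int' M u ∧ Sm M (u - if B = B₀ then 1 else 0) := by
    intro B hB
    have hsum : blockPart B (indFun H (ξ : H → ℂ)) 1 = ∑ χ : IrrCharacter G, if χ ∈ B then
        classInner (indFun H (ξ : H → ℂ)) (χ : G → ℂ) * (χ : G → ℂ) 1 else 0 := by
      simp only [blockPart]
      rw [finsum_eq_sum_of_fintype]
      refine Finset.sum_congr rfl fun χ _ => ?_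
      rw [finsum_eq_if, CharInduced.inner_inst_irrel (Fintype.ofFinite G) inferInstance]
    have hchar : IsCharacter G (indFun H (ξ : H → ℂ)) :=
      CharInduced.isCharacter_ind H (isCharacter_of_isIrrCharacter ξ.2)
    obtain ⟨k, hk, hk'⟩ := CharBasicDecomp.exists_mult hchar
    let n : ℕ := ∑ χ : IrrCharacter G, if χ ∈ B then k χ * charDegree (χ : G → ℂ) else 0
    have hn : blockPart B (indFun H (ξ : H → ℂ)) 1 = (n : ℂ) := by
      rw [hsum]
      simp only [n, Nat.cast_sum, Nat.cast_ite, Nat.cast_mul, Nat.cast_zero]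
      refine Finset.sum_congr rfl fun χ _ => ?_
      rw [hk χ, (apply_one_eq_charDegree χ.2).1]
    refine ⟨n, hn, (∑ h : H, (idem B).coeff h * (ξ : H → ℂ) h) / (ξ : H → ℂ) 1, ?_, ?_⟩
    · rw [← hn, hsum, hNval, Nat.cast_mul, ← hξ1]
      have h1 := isIrrCharacter_apply_one_ne_zero ξ.2
      rw [mul_comm (H.index : ℂ), ← mul_assoc, div_mul_cancel₀ _ h1]
      have hrhs : ∀ h : H, (idem B).coeff h * (ξ : H → ℂ) h = (Nat.card G : ℂ)⁻¹ *
          ∑ χ : IrrCharacter G, if χ ∈ B then
            (χ : G → ℂ) 1 * ((ξ : H → ℂ) h * conj ((χ : G → ℂ) h)) else 0 := by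
        intro h
        rw [coeff_idem, blockCoeff, finsum_mem_def, finsum_eq_sum_of_fintype, mul_assoc,
          Finset.sum_mul]
        refine congrArg _ (Finset.sum_congr rfl fun χ _ => ?_)
        rw [Set.indicator_apply]
        split_ifs <;> ring
      simp only [hrhs]
      rw [← Finset.mul_sum, Finset.sum_comm, Finset.mul_sum, Finset.sum_mul]
      refine Finset.sum_congr rfl fun χ _ => ?_
      by_cases hχ : χ ∈ B
      · simp only [if_pos hχ]
        rw [inner_ind_left H (ξ : H → ℂ) (classFun_irr χ), classInner, ← Finset.mul_sum,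
          ← H.card_mul_index]
        have e1 : (Nat.card H : ℂ) ≠ 0 := Nat.cast_ne_zero.2 Nat.card_pos.ne'
        have e2 : (H.index : ℂ) ≠ 0 := Nat.cast_ne_zero.2 Subgroup.index_ne_zero_of_finite
        push_cast
        field_simp
      · simp [hχ]
    · have h := induced_congr hM H ξ φ (hcong ξ hξ φ hφ) (zr_idem hM hB)
      rw [om_idem] at h
      have hiff : φ ∈ B ↔ B = B₀ := ⟨fun h' => (block_eq_blockOf hM hB h').trans
        (block_eq_blockOf hM hB₀ hφ).symm, fun h' => h' ▸ hφ⟩
      simp only [hiff] at h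
      refine ⟨(int'_iff_of_sub h).2 ?_, h⟩
      split_ifs
      exacts [int'_one, int'_zero]
  constructor
  · obtain ⟨n, hn, u, hu, huI, hus⟩ := hmain B₀ hB₀
    rw [if_pos rfl] at hus
    have hu1 : ¬ Sm M u := fun h => not_sm_one ((sm_iff_of_sub (sm_sub_comm.1 hus)).2 h)
    have hn0 : n ≠ 0 := fun h => ne_zero_of_not_sm hu1 (by
      rw [h, Nat.cast_zero, eq_comm, mul_eq_zero] at hu
      exact hu.resolve_right (Nat.cast_ne_zero.2 hNpos))
    refine ⟨n, hn, hn0, ?_⟩
    rcases lt_trichotomy (n.factorization p) (N.factorization p) with h | h | h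
    · exfalso
      have h2 := (natRatio hM hn0 hNpos h.le).2.2 h
      refine not_sm_one (M := M) ?_
      have h3 := h2.mul_left huI
      rwa [← mul_div_assoc, ← hu, div_self (Nat.cast_ne_zero.2 hn0)] at h3
    · exact h
    · exfalso
      have h2 := (natRatio hM hNpos hn0 h.le).2.2 h
      rw [hu, mul_div_cancel_right₀ _ (Nat.cast_ne_zero.2 hNpos)] at h2
      exact hu1 h2
  · intro B hB hne
    obtain ⟨n, hn, u, hu, huI, hus⟩ := hmain B hB
    rw [if_neg hne, sub_zero] at hus
    refine ⟨n, hn, or_iff_not_imp_left.2 fun hn0 => ?_⟩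
    rcases le_or_gt (n.factorization p) (N.factorization p) with h | h
    · exfalso
      refine not_sm_one (M := M) ?_
      have h3 := hus.mul_right (natRatio hM hn0 hNpos h).1
      rwa [← mul_div_assoc, ← hu, div_self (Nat.cast_ne_zero.2 hn0)] at h3
    · exact h

end Cfsg.Agent.S4430
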