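import Cfsg.Statements.S4431
import Cfsg.Agent.Lib.BrauerBlocksHeight

set_option autoImplicit false
open Cfsg Cfsg.Agent.BrauerBlocksVal Cfsg.Agent.BrauerBlocksCentral Cfsg.Agent.BrauerBlocksBasic Cfsg.Agent.BrauerBlocksOrth Cfsg.Agent.BrauerBlocksHeight Cfsg.Agent.CharBasic Cfsg.Agent.CharBasicOrth 
open scoped ComplexConjugate

namespace Cfsg.Agent.S4431

/-- Let H be a subgroup of the finite group G and b a block of H whose induced block B₀ in G is defined (relative to a maximal ideal M of the algebraic integers containing p). Let χ be an irreducible character of G, ψ ∈ b, and let η be the class function on H equal to p^a · χ on the p-regular elements of H and zero elsewhere, p^a being the p-part of the order of H. Then (a) if χ ∉ B₀, the number [η, ψ]/ψ(1) lies in the local ideal at M; (b) if χ ∈ B₀ has height zero, it does not. -/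
theorem result {G : Type*} [Group G] [Fintype G] (p : ℕ) [Fact p.Prime] (M : Ideal Cfsg.AlgInt) (hM : Cfsg.IsPModular p M) (H : Subgroup G) [Fintype H] (b : Set (Cfsg.IrrCharacter H)) (B₀ : Set (Cfsg.IrrCharacter G)) (hind : Cfsg.IsInducedBlock M H b B₀) (χ : Cfsg.IrrCharacter G) (ψ : Cfsg.IrrCharacter H) (hψ : ψ ∈ b) : (χ ∉ B₀ → Cfsg.MemLocalIdeal M (Cfsg.classInner (fun h : H => if p ∣ orderOf h then (0 : ℂ) else ((p ^ (Nat.card H).factorization p : ℕ) : ℂ) * (χ : G → ℂ) h) (ψ : H → ℂ) / (ψ : H → ℂ) 1)) ∧ (χ ∈ B₀ → Cfsg.blockHeight p B₀ (χ : G → ℂ) = 0 → ¬ Cfsg.MemLocalIdeal M (Cfsg.classInner (fun h : H => if p ∣ orderOf h then (0 : ℂ) else ((p ^ (Nat.card H).factorization p : ℕ) : ℂ) * (χ : G → ℂ) h) (ψ : H → ℂ) / (ψ : H → ℂ) 1)) := by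
  classical
  obtain ⟨hb, hB₀, hcong⟩ := hind
  obtain ⟨φ, hφ⟩ := block_nonempty hM hB₀
  have hu : ¬ p ∣ (Nat.card H / p ^ (Nat.card H).factorization p) :=
    Nat.not_dvd_ordCompl hM.1 Nat.card_pos.ne'
  set m := Nat.card H / p ^ (Nat.card H).factorization p with hm
  have hm0 : (m : ℂ) ≠ 0 := Nat.cast_ne_zero.2 fun h => hu (h ▸ dvd_zero p)
  set η : H → ℂ := fun h => if p ∣ orderOf h then (0 : ℂ) else
    ((p ^ (Nat.card H).factorization p : ℕ) : ℂ) * (χ : G → ℂ) h with hη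
  have hval : classInner η (ψ : H → ℂ) / (ψ : H → ℂ) 1 =
      (m : ℂ)⁻¹ * ((∑ h : H, (regZ p (χ : G → ℂ)).coeff h * (ψ : H → ℂ) h) / (ψ : H → ℂ) 1) := by
    rw [sum_regZ_sub, regPair_comm, regPair, classInner, Finset.sum_filter, ← mul_div_assoc,
      Finset.mul_sum, Finset.mul_sum]
    congr 1
    refine Finset.sum_congr rfl fun h _ => ?_
    have hH : (Nat.card H : ℂ) = ((p ^ (Nat.card H).factorization p : ℕ) : ℂ) * (m : ℂ) := by
      exact_mod_cast (Nat.ordProj_mul_ordCompl_eq_self (Nat.card H) p).symm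
    have hp0 : ((p ^ (Nat.card H).factorization p : ℕ) : ℂ) ≠ 0 :=
      Nat.cast_ne_zero.2 (pow_ne_zero _ hM.1.ne_zero)
    simp only [hη, conj_irr]
    by_cases hh : p ∣ orderOf h
    · simp [hh]
    · rw [if_neg hh, if_pos hh, hH]
      field_simp
  have hkey := induced_congr hM H ψ φ (hcong ψ hψ φ hφ) (zr_regZ hM χ)
  have hS : MemLocalIdeal M (classInner η (ψ : H → ℂ) / (ψ : H → ℂ) 1) ↔
      Sm M (om (φ : G → ℂ) (regZ p (χ : G → ℂ))) := by
    rw [memLocalIdeal_iff']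
    refine ⟨fun h => ?_, fun h => ⟨?_, ?_⟩⟩
    · have h2 := h.2.mul_right (int'_natCast (M := M) m)
      rw [hval, mul_comm (m : ℂ)⁻¹, mul_assoc, inv_mul_cancel₀ hm0, mul_one] at h2
      exact (sm_iff_of_sub hkey).1 h2
    · rw [hval]
      refine mul_mem (inv_mem (algNum_natCast m))
        (div_mem (sum_mem fun g _ => ?_) (algNum_irr ψ 1))
      exact mul_mem ((zr_regZ hM χ).alg _) (algNum_irr ψ g)
    · rw [hval]
      exact ((sm_iff_of_sub hkey).2 h).mul_left (int'_inv_natCast hM hu)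
    exact hM
  refine ⟨fun hχ => hS.2 ?_, fun hχ h0 hmem => om_regZ_unit hM hB₀ hχ h0 hφ (hS.1 hmem)⟩
  rw [om_regZ, regPair_eq_zero hM fun hs => hχ ?_, zero_div]
  · exact sm_zero
  · rw [block_eq_blockOf hM hB₀ hφ]; exact hs

end Cfsg.Agent.S4431
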