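import Cfsg.Statements.S4435
import Cfsg.Agent.Lib.FongReynolds78

set_option autoImplicit false
open Cfsg

namespace Cfsg.Agent.S4435

/-- Let N be a normal subgroup of the finite group G, b a block of N (relative to a maximal ideal M of the algebraic integers containing p), and T the stabilizer of b in G (the elements g such that conjugating any member of b by g gives a member of b); N ≤ T. Say that a block of T (or of G) covers b when some member has a constituent in b on restriction to N. Then: (i) every block B′ of T covering b induces a block B of G, B covers b, every ψ ∈ B′ induces to an irreducible character of G, and B consists exactly of the characters induced from members of B′; (ii) distinct blocks of T covering b induce distinct blocks of G; (iii) every block of G covering b is induced by some block of T covering b. -/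
theorem result {G : Type*} [Group G] [Fintype G] (p : ℕ) [Fact p.Prime] (M : Ideal Cfsg.AlgInt) (hM : Cfsg.IsPModular p M) (N : Subgroup G) [hN : N.Normal] [Fintype N] (b : Set (Cfsg.IrrCharacter N)) (hb : Cfsg.IsPBlock M b) (T : Subgroup G) [Fintype T] (hT : ∀ g : G, g ∈ T ↔ ∀ θ ∈ b, ∀ θ' : Cfsg.IrrCharacter N, (∀ n : N, (θ' : N → ℂ) n = (θ : N → ℂ) ⟨g * n * g⁻¹, hN.conj_mem n n.2 g⟩) → θ' ∈ b) (hNT : N ≤ T) : (∀ B' : Set (Cfsg.IrrCharacter T), Cfsg.IsPBlock M B' → (∃ ψ ∈ B', ∃ θ ∈ b, Cfsg.classInner (fun n : N => (ψ : T → ℂ) ⟨(n : G), hNT n.2⟩) (θ : N → ℂ) ≠ 0) → ∃ B : Set (Cfsg.IrrCharacter G), Cfsg.IsInducedBlock M T B' B ∧ (∃ χ ∈ B, ∃ θ ∈ b, Cfsg.classInner (fun n : N => (χ : G → ℂ) n) (θ : N → ℂ) ≠ 0) ∧ (∀ ψ ∈ B', Cfsg.IsIrrCharacter G (Cfsg.indFun T (ψ : T → ℂ))) ∧ ∀ χ : Cfsg.IrrCharacter G, χ ∈ B ↔ ∃ ψ ∈ B', (χ : G → ℂ) = Cfsg.indFun T (ψ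 : T → ℂ)) ∧ (∀ B'₁ B'₂ : Set (Cfsg.IrrCharacter T), Cfsg.IsPBlock M B'₁ → Cfsg.IsPBlock M B'₂ → (∃ ψ ∈ B'₁, ∃ θ ∈ b, Cfsg.classInner (fun n : N => (ψ : T → ℂ) ⟨(n : G), hNT n.2⟩) (θ : N → ℂ) ≠ 0) → (∃ ψ ∈ B'₂, ∃ θ ∈ b, Cfsg.classInner (fun n : N => (ψ : T → ℂ) ⟨(n : G), hNT n.2⟩) (θ : N → ℂ) ≠ 0) → ∀ B : Set (Cfsg.IrrCharacter G), Cfsg.IsInducedBlock M T B'₁ B → Cfsg.IsInducedBlock M T B'₂ B → B'₁ = B'₂) ∧ (∀ B : Set (Cfsg.IrrCharacter G), Cfsg.IsPBlock M B → (∃ χ ∈ B, ∃ θ ∈ b, Cfsg.classInner (fun n : N => (χ : G → ℂ) n) (θ : N → ℂ) ≠ 0) → ∃ B' : Set (Cfsg.IrrCharacter T), Cfsg.IsPBlock M B' ∧ (∃ ψ ∈ B', ∃ θ ∈ b, Cfsg.classInner (fun n : N => (ψ : T → ℂ) ⟨(n : G), hNT n.2⟩) (θ : N → ℂ) ≠ 0) ∧ Cfsg.IsInducedBlock M T B' B) := by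
  classical
  have hS := FongReynolds78.isStab_of_statement N hT
  have hcorr := fun B' (h : IsPBlock M B') => FongReynolds78.correspondence hS hNT hM hb h
  refine ⟨fun B' hB' hc => hcorr B' hB' hc, fun B₁ B₂ h₁ h₂ hc₁ hc₂ B hi₁ hi₂ => ?_,
    fun B hB hc => ?_⟩
  · obtain ⟨A₁, hA₁, -, -, hiff₁⟩ := hcorr B₁ h₁ hc₁
    obtain ⟨A₂, hA₂, -, -, hiff₂⟩ := hcorr B₂ h₂ hc₂
    have e₁ := BlockTheoryInduced.inducedBlock_unique T hM hA₁ hi₁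
    have e₂ := BlockTheoryInduced.inducedBlock_unique T hM hA₂ hi₂
    subst e₁ e₂
    obtain ⟨ψ₁, hψ₁, ho₁⟩ := hc₁
    obtain ⟨ψ₂, hψ₂, ho₂⟩ := hc₂
    obtain ⟨χ₁, he₁, hm₁⟩ := FongReynolds78.exists_induced hS hNT hM hb (ψ := ψ₁) ho₁
    obtain ⟨χ₂, he₂, hm₂⟩ := FongReynolds78.exists_induced hS hNT hM hb (ψ := ψ₂) ho₂
    exact BlockTheoryIdem.block_eq_of_sameBlock hM h₁ h₂ hψ₁ hψ₂
      (FongReynolds78.sameBlock_of_induced hS hNT hM hb ho₁ ho₂ he₁ he₂ hm₁ hm₂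
        (BlockTheoryIdem.sameBlock_of_mem hM hA₁.2.1 ((hiff₁ χ₁).2 ⟨ψ₁, hψ₁, he₁⟩)
          ((hiff₂ χ₂).2 ⟨ψ₂, hψ₂, he₂⟩)))
  · obtain ⟨χ, hχ, hθ⟩ := hc
    obtain ⟨ψ, ho, hm⟩ := FongReynolds78.exists_over hNT hθ
    have he := (FongReynolds78.constituent_key hS hNT hM hb χ ho hm).1
    have hB' := BlockTheoryIdem.isPBlock_blockOf (M := M) ψ
    have hψ := BlockTheoryIdem.self_mem_blockOf hM ψ
    obtain ⟨A, hA, -, -, hiff⟩ := hcorr _ hB' ⟨ψ, hψ, ho⟩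
    refine ⟨_, hB', ⟨ψ, hψ, ho⟩, ?_⟩
    rwa [BlockTheoryIdem.block_eq_of_mem hM hB hA.2.1 hχ ((hiff χ).2 ⟨ψ, hψ, he⟩)]

end Cfsg.Agent.S4435
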