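import Cfsg.Statements.S4437
import Cfsg.Agent.Lib.BlockInducedCen
import Cfsg.Agent.Lib.BrauerPairs81Induced
import Cfsg.Agent.Lib.BrauerPairs81Index

set_option autoImplicit false
open Cfsg

namespace Cfsg.Agent.S4437

section
open Cfsg BlockTheoryLocalRing BlockTheoryCentre BlockTheoryIdem BlockTheoryBrauer BlockTheoryDefect
open BrauerPairs81Base BrauerPairs81Pairs BrauerPairs81Conj BrauerPairs81Max BrauerPairs81Local
open BrauerPairs81Fusion

attribute [local instance] Classical.propDecidable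

variable {p : ℕ} [Fact p.Prime] {M : Ideal AlgInt} {G : Type*} [Group G] [Fintype G]

theorem le_of_pGroup {R H T : Subgroup G} (hR : IsPGroup p R) (hRT : R ≤ T)
    (hTH : T ≤ Subgroup.normalizer (H : Set G)) (hp : ¬ p ∣ H.relIndex T) : R ≤ H := by
  haveI hn : (H.subgroupOf T).Normal := Subgroup.normal_subgroupOf_of_le_normalizer hTH
  intro r hr
  set q : T ⧸ H.subgroupOf T := ((⟨r, hRT hr⟩ : T) : T ⧸ H.subgroupOf T)
  obtain ⟨k, hk⟩ := hR ⟨r, hr⟩
  have h1 : q ^ p ^ k = 1 := by
    rw [show q ^ p ^ k = ((((⟨r, hRT hr⟩ : T) ^ p ^ k : T)) : T ⧸ H.subgroupOf T) from rfl,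
      show (⟨r, hRT hr⟩ : T) ^ p ^ k = 1 from Subtype.ext (by simpa using congrArg Subtype.val hk)]
    rfl
  have h2 : orderOf q ∣ H.relIndex T := orderOf_dvd_natCard q
  have h3 := Nat.dvd_gcd (orderOf_dvd_of_pow_eq_one h1) h2
  have hc : (p ^ k).Coprime (H.relIndex T) :=
    ((Fact.out : p.Prime).coprime_iff_not_dvd.2 hp).pow_left k
  rw [hc.gcd_eq_one] at h3
  have := (QuotientGroup.eq_one_iff (⟨r, hRT hr⟩ : T)).mp (orderOf_eq_one_iff.mp (Nat.dvd_one.mp h3))
  exact this

theorem stabilizes_iff_forall {H : Subgroup G} {b : Set (IrrCharacter H)} {g : G}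
    (hg : g ∈ Subgroup.normalizer (H : Set G)) :
    StabilizesBlock H b g ↔ ∀ θ ∈ b, ∀ θ' : IrrCharacter H,
      (∀ h h' : H, (h' : G) = g * h * g⁻¹ → (θ' : H → ℂ) h' = (θ : H → ℂ) h) → θ' ∈ b := by
  refine ⟨fun h θ hθ θ' hθ' => ?_, fun h => ⟨hg, fun θ hθ => ?_⟩⟩
  · obtain ⟨χ, hχ, hc⟩ := h.2 θ hθ
    have : θ' = χ := by
      refine Subtype.ext (funext fun h' => ?_)
      obtain ⟨x, rfl⟩ := (conjEquiv g H H (conj_mem_iff_of_normalizer hg)).surjective h'
      rw [hθ' x _ rfl, hc x _ rfl]
    exact this ▸ hχ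
  · set e := conjEquiv g H H (conj_mem_iff_of_normalizer hg)
    have hv : ∀ k k' : H, (k' : G) = g * k * g⁻¹ →
        (pushChar e θ : H → ℂ) k' = (θ : H → ℂ) k := fun k k' hk => by
      rw [← show e k = k' from Subtype.ext hk.symm, pushChar_apply]
    exact ⟨pushChar e θ, h θ hθ _ hv, hv⟩

theorem main (hM : IsPModular p M) {P : Subgroup G} (hP : IsPGroup p P) (H : Subgroup G)
    (hH : H = P ⊔ Subgroup.centralizer (P : Set G)) {b : Set (IrrCharacter H)}
    (hbP : IsDefectGroup p M b (P.subgroupOf H))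
    {B : Set (IrrCharacter G)} (hind : IsInducedBlock M H b B) (T : Subgroup G)
    (hT : ∀ g : G, g ∈ T ↔ (g ∈ Subgroup.normalizer (P : Set G) ∧ ∀ θ ∈ b, ∀ θ' : IrrCharacter H,
      (∀ h h' : H, (h' : G) = g * h * g⁻¹ → (θ' : H → ℂ) h' = (θ : H → ℂ) h) → θ' ∈ b)) :
    IsDefectGroup p M B P ↔ ¬ p ∣ H.relIndex T := by
  have hCH : Cen P ≤ H := hH ▸ le_sup_right
  have hPH : P ≤ H := hH ▸ le_sup_left
  set P' := P.subgroupOf H with hP'def
  have hmap : P'.map H.subtype = P := Subgroup.map_subgroupOf_eq_of_le hPH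
  have hC : Cen (P'.map H.subtype) ≤ H := by rw [hmap]; exact hCH
  obtain ⟨e', he'⟩ := exists_pairOf_of_not_small hM hind.1 (isPGroup_of_isDefectGroup hbP)
    (not_small_cut_defect hM hind.1 hbP)
  have hmax' : IsMaximalBrauerPair p M b P' e' :=
    BlockFirstMainOver.maximal_of_defect hM hbP he'
  set hcc := cenCompat_map hC (le_refl (P'.map H.subtype))
  set a : BrauerPairIdx G := ⟨P'.map H.subtype, pushSet (cenIso hcc) e'⟩ with ha
  have hpair : IsBrauerPairOf p M B a.1 a.2 := BlockPiKernel.pair_up hM hind he' hC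
  have ha1 : a.1 = P := hmap
  have hHN : H ≤ Subgroup.normalizer (P : Set G) :=
    hH ▸ sup_le Subgroup.le_normalizer (Subgroup.centralizer_le_normalizer _)
  have hNH : Subgroup.normalizer (P : Set G) ≤ Subgroup.normalizer (H : Set G) := by
    intro g hg
    have h1 : cjS g H = H := by
      rw [hH]
      show (P ⊔ Cen P).map _ = _
      rw [Subgroup.map_sup]
      change cjS g P ⊔ cjS g (Cen P) = _
      rw [cjS_of_normalizer hg, cjS_of_normalizer (normalizer_le_normalizer_cen hg)]
    refine Subgroup.mem_normalizer_iff.mpr fun x => ?_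
    conv_rhs => rw [← h1, mem_cjS]
    simp [mul_assoc]
  have hHstab : H ≤ stab a := by
    rw [hH]
    refine sup_le ?_ ?_
    · intro u hu; exact le_stab a (ha1.symm ▸ hu)
    · intro u hu; exact cen_le_stab a (ha1.symm ▸ hu)
  have hea : eb (Cen a.1) a.2 = incl H (eb (Cen P') e') := eb_cenIso hcc e'
  have hTs : T = stab a := by
    ext g
    have hN : Subgroup.normalizer (a.1 : Set G) = Subgroup.normalizer (P : Set G) :=
      congrArg (fun X : Subgroup G => Subgroup.normalizer (X : Set G)) ha1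
    rw [hT, mem_stab, cP_eq_self_iff, hN]
    refine and_congr_right fun hg => ?_
    rw [← stabilizes_iff_forall (hNH hg), stabilizes_iff]
    simp only [hNH hg, true_and]
    rw [hea]
    set c := conjEquiv g H H (conj_mem_iff_of_normalizer (hNH hg))
    have hP'c : ∀ x : H, x ∈ P' ↔ c x ∈ P' := fun x => by
      rw [hP'def, Subgroup.mem_subgroupOf, Subgroup.mem_subgroupOf]
      exact Subgroup.mem_normalizer_iff.mp hg (x : G)
    have hCc : ∀ x : H, x ∈ Cen P' ↔ c x ∈ Cen P' := fun x => by
      rw [Subgroup.mem_centralizer_iff, Subgroup.mem_centralizer_iff]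
      constructor
      · intro h y hy
        obtain ⟨y₀, rfl⟩ := c.surjective y
        rw [← map_mul, ← map_mul, h y₀ ((hP'c y₀).mpr hy)]
      · intro h y hy
        apply c.injective
        rw [map_mul, map_mul, h (c y) ((hP'c y).mp hy)]
    have hcjI : ∀ z : MonoidAlgebra ℂ H, cjA g (incl H z) = incl H (ofFun fun x => z.coeff (c.symm x)) := by
      intro z
      refine MonoidAlgebra.ext ?_
      ext x
      rw [coeff_cjA]
      by_cases hx : x ∈ H
      · rw [show g⁻¹ * x * g = ((c.symm ⟨x, hx⟩ : H) : G) from rfl, coeff_incl_coe]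
        exact (coeff_incl_coe H (ofFun fun x : H => z.coeff (c.symm x)) ⟨x, hx⟩).symm
      · rw [coeff_incl_of_notMem H _ hx, coeff_incl_of_notMem H]
        intro h
        refine hx ?_
        have := (conj_mem_iff_of_normalizer (hNH hg) (g⁻¹ * x * g)).mp h
        simpa [mul_assoc] using this
    -- transport inside `H`
    set cC : Cen P' ≃* Cen P' :=
      { toFun := fun x => ⟨c x, (hCc x).mp x.2⟩
        invFun := fun x => ⟨c.symm x, (hCc _).mpr (by rw [c.apply_symm_apply]; exact x.2)⟩
        left_inv := fun x => Subtype.ext (c.symm_apply_apply _)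
        right_inv := fun x => Subtype.ext (c.apply_symm_apply _)
        map_mul' := fun x y => Subtype.ext (map_mul c _ _) }
    have hblk : (ofFun fun x : H => (idem b).coeff (c.symm x)) = idem (pushSet c b) := by
      refine MonoidAlgebra.ext ?_
      ext x
      obtain ⟨y, rfl⟩ := c.surjective x
      rw [coeff_ofFun, c.symm_apply_apply, coeff_idem, coeff_idem, blockCoeff_push]
    have heblk : (ofFun fun x : H => (eb (Cen P') e').coeff (c.symm x)) =
        eb (Cen P') (pushSet cC e') := by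
      refine MonoidAlgebra.ext ?_
      ext x
      obtain ⟨y, rfl⟩ := c.surjective x
      rw [coeff_ofFun, c.symm_apply_apply]
      by_cases hy : y ∈ Cen P'
      · rw [show y = ((⟨y, hy⟩ : Cen P') : H) from rfl, coeff_eb_coe,
          show c ((⟨y, hy⟩ : Cen P') : H) = ((cC ⟨y, hy⟩ : Cen P') : H) from rfl, coeff_eb_coe,
          blockCoeff_push]
      · rw [coeff_eb_of_notMem _ _ hy, coeff_eb_of_notMem]
        exact fun h => hy ((hCc y).mpr h)
    have hpushpair : IsBrauerPairOf p M (pushSet c b) P' (pushSet cC e') := by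
      obtain ⟨⟨hp1, hp2⟩, hp3, hp4⟩ := isBrauerPairOf_iff.mp he'
      refine isBrauerPairOf_iff.mpr ⟨⟨hp1, isPBlock_push _ hp2⟩, isPBlock_push _ hp3, ?_⟩
      rintro _ ⟨ξ, hξ, rfl⟩
      refine cast (congrArg (fun t => MemLocalIdeal M (t - 1)) ?_) (hp4 ξ hξ)
      rw [phi, phi, omega_apply, omega_apply, chiSum_apply, chiSum_apply,
        ← Equiv.sum_comp cC.toEquiv (fun x => (res (Cen P') (idem (pushSet c b))).coeff x *
          (pushChar cC ξ : Cen P' → ℂ) x)]
      have h1 : (pushChar cC ξ : Cen P' → ℂ) 1 = (ξ : Cen P' → ℂ) 1 := by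
        conv_lhs => rw [← map_one cC]
        exact pushChar_apply cC ξ 1
      rw [h1]
      congr 1
      refine Finset.sum_congr rfl fun x _ => ?_
      simp only [MulEquiv.toEquiv_eq_coe, MulEquiv.coe_toEquiv]
      rw [pushChar_apply, coeff_res, coeff_res, show ((cC x : Cen P') : H) = c x from rfl,
        coeff_idem, coeff_idem, blockCoeff_push]
    rw [eb_eq_incl, hcjI, hcjI, hblk, heblk, (BrauerPairs81Induced.incl_injective H).eq_iff,
      (BrauerPairs81Induced.incl_injective H).eq_iff]
    constructor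
    · intro h
      rw [idem_injective h] at hpushpair
      obtain ⟨n, hn, hne⟩ := exists_normalizer_of_pairOf hM hmax' hpushpair
      rw [← hne]
      have hfix : (n : G) ∈ stab a := hHstab n.2
      rw [mem_stab, cP_eq_self_iff, hea, BrauerPairs81Induced.cjA_incl,
        (BrauerPairs81Induced.incl_injective H).eq_iff] at hfix
      exact hfix.2
    · intro h
      rw [eb_injective h] at hpushpair
      obtain ⟨B₀, -, huniq⟩ := existsUnique_block hM (G := H) he'.1
      rw [huniq _ hpushpair, ← huniq _ he']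
  subst hTs
  constructor
  · intro hD
    have hmax : IsMaximalBrauerPair p M B a.1 a.2 :=
      BlockFirstMainOver.maximal_of_defect hM (ha1.symm ▸ hD) hpair
    obtain ⟨Sy⟩ : Nonempty (Sylow p (stab a)) := inferInstance
    have hle : (Sy : Subgroup (stab a)) ≤ H.subgroupOf (stab a) := by
      intro v hv
      have h1 := BrauerPairs81Index.le_sup_of_stabilizes hM hmax
        (S₀ := (Sy : Subgroup (stab a)).map (stab a).subtype) (Sy.2.map _)
        (fun w hw => by obtain ⟨w', -, rfl⟩ := hw; exact w'.2) ⟨v, hv, rfl⟩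
      rw [ha1] at h1
      rw [Subgroup.mem_subgroupOf, hH]
      exact h1
    exact fun hdiv => Sy.not_dvd_index (hdiv.trans (Subgroup.index_dvd_of_le hle))
  · intro hidx
    have hmax : IsMaximalBrauerPair p M B a.1 a.2 := by
      refine ⟨hpair, fun S g _ hle => ?_⟩
      by_contra hne
      obtain ⟨R, f, hPR, hstep, -⟩ := exists_step hM hle (Ne.symm hne)
      obtain ⟨-, ⟨hRp, -⟩, -, hRN, hinv, -⟩ := isNormalSubpair_iff.mp hstep
      have hRT : R ≤ stab a := fun r hr =>
        cP_eq_self_iff.mpr ⟨hRN hr, invBy_iff.mp hinv r hr⟩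
      have hRH : R ≤ H := le_of_pGroup hRp hRT
        (fun x hx => hNH (ha1 ▸ stab_le_normalizer a hx)) hidx
      exact hPR.ne' (BlockInducedCen.eq_of_step_in hM hbP he' hC hRH hstep)
    exact ha1 ▸ isDefectGroup_of_maximal hM hmax

end

/-- Let P be a p-subgroup of the finite group G, H = P·C_G(P), and b a block of H (relative to a maximal ideal M of the algebraic integers containing p) having P as a defect group; let B be the block of G induced by b. Let T be the stabilizer of b in N_G(P): the elements g of N_G(P) such that the g-conjugate of every member of b is again a member of b. Then B has defect group P if and only if p does not divide the index of H in T. -/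
theorem result {G : Type*} [Group G] [Fintype G] (p : ℕ) [Fact p.Prime] (M : Ideal Cfsg.AlgInt) (hM : Cfsg.IsPModular p M) (P : Subgroup G) (hP : IsPGroup p P) (H : Subgroup G) [Fintype H] (hH : H = P ⊔ Subgroup.centralizer (P : Set G)) (b : Set (Cfsg.IrrCharacter H)) (hb : Cfsg.IsPBlock M b) (hbP : Cfsg.IsDefectGroup p M b (P.subgroupOf H)) (B : Set (Cfsg.IrrCharacter G)) (hind : Cfsg.IsInducedBlock M H b B) (T : Subgroup G) (hT : ∀ g : G, g ∈ T ↔ (g ∈ Subgroup.normalizer (P : Set G) ∧ ∀ θ ∈ b, ∀ θ' : Cfsg.IrrCharacter H, (∀ h h' : H, (h' : G) = g * h * g⁻¹ → (θ' : H → ℂ) h' = (θ : H → ℂ) h) → θ' ∈ b)) : Cfsg.IsDefectGroup p M B P ↔ ¬ p ∣ H.relIndex T := by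
  classical
  exact main hM hP H hH hbP hind T hT

end Cfsg.Agent.S4437
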