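import Cfsg.Statements.S4440
import Cfsg.Agent.Lib.HaradaNorm83Int

set_option autoImplicit false
open Cfsg
open Cfsg.Agent.BrauerBlocksCentral Cfsg.Agent.BrauerBlocksBasic Cfsg.Agent.HaradaNorm83

namespace Cfsg.Agent.S4440

/-- Let G be a finite p-solvable group and fix a maximal ideal M of the algebraic integers containing p. Let U be a set of irreducible characters of G such that the class function Σ_{χ ∈ U} χ(1)·χ vanishes at every p-singular element of G. Then U is a union of p-blocks: if χ ∈ U and ψ lies in the same block as χ, then ψ ∈ U. -/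
theorem result {G : Type*} [Group G] [Finite G] (p : ℕ) [Fact p.Prime] (M : Ideal Cfsg.AlgInt) (hM : Cfsg.IsPModular p M) (hsolv : Cfsg.IsPSolvable p G) (U : Set (Cfsg.IrrCharacter G)) (hU : ∀ x : G, p ∣ orderOf x → ∑ᶠ χ ∈ U, (χ : G → ℂ) 1 * (χ : G → ℂ) x = 0) (χ : Cfsg.IrrCharacter G) (hχ : χ ∈ U) (ψ : Cfsg.IrrCharacter G) (hψ : Cfsg.SameBlock M (χ : G → ℂ) (ψ : G → ℂ)) : ψ ∈ U := by
  classical
  have : Fintype G := Fintype.ofFinite G
  refine union_of_blocks hM (intA_of_regSupp hM hsolv (isC_idem U) (idem_idem U) fun g hg => ?_)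
    hψ hχ
  rw [coeff_idem, blockCoeff]
  have h := hU g⁻¹ (by rwa [orderOf_inv])
  rw [finsum_mem_def, finsum_eq_sum_of_fintype] at h ⊢
  rw [mul_eq_zero]
  refine Or.inr ?_
  rw [← h]
  refine Finset.sum_congr rfl fun φ _ => ?_
  rw [Set.indicator_apply, Set.indicator_apply]
  split_ifs
  · rw [conj_irr]
  · rfl

end Cfsg.Agent.S4440
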