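import Cfsg.Statements.S4442
import Cfsg.Agent.Lib.BlockDefectOneCount86
-- import your own Cfsg.Agent.* helpers here

set_option autoImplicit false
open Cfsg

namespace Cfsg.Agent.S4442

open scoped IsMulCommutative

/-- Blocks of defect one. Let p be an odd prime and G a finite group whose Sylow p-subgroup P has order p; let C = C_G(P) and N = N_G(P), and fix a maximal ideal M of the algebraic integers containing p. Let B be a block of G with defect group P, b a block of C inducing B, and θ the member of b having P in its kernel (there is exactly one). Let T be the stabilizer of θ in N (the elements g ∈ N with θ(g c g⁻¹) = θ(c) for all c ∈ C) and e the index of C in T. Then e divides p − 1 and B contains exactly e + (p − 1)/e irreducible characters. Moreover B is the disjoint union of a set X of e characters and a set Y of (p − 1)/e characters such that, with f the index of C in N: every χ ∈ X has χ(1) ≡ ±(f/e)·θ(1) (mod p), there is one sign ε with ψ(1) ≡ ε f θ(1) (mod p)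 for all ψ ∈ Y, and all members of Y agree on the p-regular elements of G. -/
theorem result {G : Type*} [Group G] [Finite G] (p : ℕ) [Fact p.Prime] (M : Ideal Cfsg.AlgInt) (hM : Cfsg.IsPModular p M) (hodd : p ≠ 2) (P : Sylow p G) (hP : Nat.card P = p) (B : Set (Cfsg.IrrCharacter G)) (hB : Cfsg.IsPBlock M B) (hBP : Cfsg.IsDefectGroup p M B P) (b : Set (Cfsg.IrrCharacter (Subgroup.centralizer ((P : Subgroup G) : Set G)))) (hind : Cfsg.IsInducedBlock M (Subgroup.centralizer ((P : Subgroup G) : Set G)) b B) (θ : Cfsg.IrrCharacter (Subgroup.centralizer ((P : Subgroup G) : Set G))) (hθ : θ ∈ b) (hθP : ∀ x : Subgroup.centralizer ((P : Subgroup G) : Set G), (x : G) ∈ (P : Subgroup G) → (θ : Subgroup.centralizer ((P : Subgroup G) : Set G) → ℂ) x = (θ : Subgroup.centralizer ((P : Subgroup G) : Set G) → ℂ) 1) (T : Subgroup G) (hT : ∀ g : G, g ∈ T ↔ (g ∈ Subgroup.normalizer ((P : Subgroup G) : Set G) ∧ ∀ c c' : Subgroup.centralizer ((P : Subgroup G) : Set G), (c' : G) = g * c * g⁻¹ → (θ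 : Subgroup.centralizer ((P : Subgroup G) : Set G) → ℂ) c' = (θ : Subgroup.centralizer ((P : Subgroup G) : Set G) → ℂ) c)) (e f : ℕ) (he : (Subgroup.centralizer ((P : Subgroup G) : Set G)).relIndex T = e) (hf : (Subgroup.centralizer ((P : Subgroup G) : Set G)).relIndex (Subgroup.normalizer ((P : Subgroup G) : Set G)) = f) : e ∣ p - 1 ∧ Nat.card B = e + (p - 1) / e ∧ ∃ X Y : Set (Cfsg.IrrCharacter G), B = X ∪ Y ∧ Disjoint X Y ∧ Nat.card X = e ∧ Nat.card Y = (p - 1) / e ∧ (∀ χ ∈ X, (Cfsg.charDegree (χ : G → ℂ) : ℤ) ≡ ((f / e * Cfsg.charDegree (θ : Subgroup.centralizer ((P : Subgroup G) : Set G) → ℂ) : ℕ) : ℤ) [ZMOD p] ∨ (Cfsg.charDegree (χ : G → ℂ) : ℤ) ≡ -((f / e * Cfsg.charDegree (θ : Subgroup.centralizer ((P : Subgroup G) : Set G) → ℂ) : ℕ) : ℤ) [ZMOD p]) ∧ (∃ ε : ℤ, (ε = 1 ∨ ε = -1) ∧ ∀ ψ ∈ Y, (Cfsg.charDegree (ψ : G → ℂ) : ℤ) ≡ ε * ((f * Cfsg.charDegree (θ : Subgroup.centralizer ((P : Subgroup G) : Set G) → ℂ) : ℕ) : ℤ) [ZMOD p]) ∧ ∀ ψ ∈ Y, ∀ ψ' ∈ Y, ∀ g : G, ¬ p ∣ orderOf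 g → (ψ : G → ℂ) g = (ψ' : G → ℂ) g := by
  have : Fintype G := Fintype.ofFinite G
  haveI : Fintype ↥(P : Subgroup G) := Fintype.ofFinite _
  haveI := Cfsg.Agent.BlockPrime86.comm_P hP
  haveI : Fintype (↥(P : Subgroup G) →* ℂˣ) := Fintype.ofFinite _
  obtain ⟨U, -, -, hU⟩ := DefectOneSign7.exists_regular_part P hP
  -- the character `η`
  obtain ⟨η, ω, hω1, hω⟩ := BlockDefectOneLocal86.irr_centralizer hP hU θ
  have hPC : (P : Subgroup G) ≤ (Subgroup.centralizer ((P : Subgroup G) : Set G)) := Subgroup.le_centralizer _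
  have hω' : ∀ y : ↥(P : Subgroup G), ω y = 1 := by
    intro y
    have h1 := hω ⟨y, hPC y.2⟩ y 1 (by simp)
    rw [hθP ⟨y, hPC y.2⟩ y.2, hω 1 1 1 (by simp), hω1] at h1
    exact (mul_right_cancel₀ (BlockTheoryCentre.irr_one_ne_zero η) h1).symm
  have hθ' : θ = BlockDefectOneLocal86.ext hP hU η := Subtype.ext (funext fun c => by
    rw [hω c _ _ (BlockDefectOneLocal86.proj_mul hP hU c).symm, hω', one_mul]
    rfl)
  have hb : b = blockOf M (BlockDefectOneLocal86.ext hP hU η : (Subgroup.centralizer ((P : Subgroup G) : Set G)) → ℂ) := by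
    rw [← hθ']; exact BlockTheoryIdem.eq_blockOf_of_mem hM hind.1 hθ
  rw [hb] at hind
  have hdeg : charDegree (θ : (Subgroup.centralizer ((P : Subgroup G) : Set G)) → ℂ) = charDegree (η : U → ℂ) := by
    rw [hθ']
    unfold charDegree
    rw [BlockDefectOneLocal86.ext_apply hP hU η (y := 1) (w := 1) (c := 1) (by simp)]
  -- the stabilizer
  have hTeq : T = (BlockDefectOneBound86.stab hU η).map (Subgroup.normalizer ((P : Subgroup G) : Set G)).subtype := by
    ext g
    rw [hT g, Subgroup.mem_map]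
    constructor
    · rintro ⟨hg, hstab⟩
      refine ⟨⟨g, hg⟩, Subtype.ext (funext fun w => ?_), rfl⟩
      have hwC : (w : G) ∈ (Subgroup.centralizer ((P : Subgroup G) : Set G)) := ((hU w).1 w.2).1
      have hw' : g * (w : G) * g⁻¹ ∈ (Subgroup.centralizer ((P : Subgroup G) : Set G)) :=
        ((hU _).1 (BlockDefectOneLocal86.conj_mem hU hg w.2)).1
      have h1 := hstab ⟨w, hwC⟩ ⟨g * (w : G) * g⁻¹, hw'⟩ rfl
      rw [hθ', BlockDefectOneLocal86.ext_apply hP hU η (y := 1) (w := w) (c := ⟨w, hwC⟩) (by simp),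
        BlockDefectOneLocal86.ext_apply hP hU η (y := 1)
          (w := BlockDefectOneLocal86.conjU hU ⟨g, hg⟩ w) (c := ⟨g * (w : G) * g⁻¹, hw'⟩) (by simp [BlockDefectOneLocal86.conjU])] at h1
      exact h1
    · rintro ⟨n, hn, rfl⟩
      refine ⟨n.2, fun c c' hcc => ?_⟩
      rw [hθ']
      have hc := BlockDefectOneLocal86.proj_mul hP hU c
      set y := BlockDefectOneLocal86.projP hP hU c
      set w := BlockDefectOneLocal86.projU hP hU c
      rw [BlockDefectOneLocal86.ext_apply hP hU η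
          (y := ⟨(n : G) * y * (n : G)⁻¹, (Subgroup.mem_normalizer_iff.1 n.2 _).1 y.2⟩)
          (w := BlockDefectOneLocal86.conjU hU n w) (by
            rw [hcc, ← hc]
            show (n : G) * ((y : G) * (w : G)) * (n : G)⁻¹ =
              (n : G) * y * (n : G)⁻¹ * ((n : G) * w * (n : G)⁻¹)
            group),
        BlockDefectOneLocal86.ext_apply hP hU η (y := y) (w := w) hc.symm]
      exact congrFun (congrArg Subtype.val
        (show BlockDefectOneLocal86.twist hU η n = η from hn)) w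
  have hcardT : Nat.card T = Nat.card (BlockDefectOneBound86.stab hU η) := by
    rw [hTeq]
    exact (Nat.card_congr (Subgroup.equivMapOfInjective _ _ (Subgroup.normalizer ((P : Subgroup G) : Set G)).subtype_injective).toEquiv).symm
  have hCT : (Subgroup.centralizer ((P : Subgroup G) : Set G)) ≤ T := fun c hc => by
    rw [hTeq]
    exact ⟨⟨c, Subgroup.centralizer_le_normalizer _ hc⟩,
      BlockDefectOneLocal86.twist_eq_self_of_mem hP hU η hc, rfl⟩
  have he' : e = Nat.card (BlockDefectOneBound86.autE hU η) := by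
    have h2 := ((Subgroup.centralizer ((P : Subgroup G) : Set G)).subgroupOf T).card_mul_index
    rw [Nat.card_congr (Subgroup.subgroupOfEquivOfLe hCT).toEquiv, hcardT,
      ← BlockDefectOneBound86.card_autE hP hU η,
      BlockDefectOneCount86.card_centralizer hP hU, mul_comm] at h2
    rw [← he]
    refine Nat.eq_of_mul_eq_mul_right ?_ h2
    rw [← BlockDefectOneCount86.card_centralizer hP hU]
    exact Nat.card_pos
  have hf' : (BlockDefectOneBlock86.orbit hU η).card * e = f := by
    rw [he', BlockDefectOneCount86.orbit_mul_index hP hU η]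
    exact hf
  have he0 : 0 < e := he' ▸ Nat.card_pos
  have hfe : f / e = (BlockDefectOneBlock86.orbit hU η).card := by
    rw [← hf', Nat.mul_div_cancel _ he0]
  obtain ⟨X, Y, a, ε, d, δ, ζ, S, hX, hY⟩ :=
    BlockDefectOneCount86.exists_degrees hP hU hM hind
  have hcY : Y.card * e + 1 = p := he' ▸ S.cardY
  have hYdiv : Y.card = (p - 1) / e := by
    rw [show p - 1 = Y.card * e by omega, Nat.mul_div_cancel _ he0]
  have hBXY : B = (X : Set (IrrCharacter G)) ∪ (Y : Set (IrrCharacter G)) := by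
    ext χ
    have h := S.block χ
    simp only [Finset.mem_filter, Finset.mem_univ, true_and] at h
    simpa using h
  refine ⟨⟨Y.card, by rw [mul_comm]; omega⟩, ?_, X, Y, hBXY, Finset.disjoint_coe.2 S.disj, ?_, ?_,
    fun χ hχ => ?_, ⟨ε, S.sign, fun ψ hψ => ?_⟩, fun ψ hψ ψ' hψ' g hg => S.agree ψ hψ ψ' hψ' ⟨g, hg⟩⟩
  · rw [hBXY, Nat.card_coe_set_eq, Set.ncard_union_eq (Finset.disjoint_coe.2 S.disj),
      Set.ncard_coe_finset, Set.ncard_coe_finset, S.cardX, ← he', hYdiv]
  · rw [Nat.card_coe_set_eq, Set.ncard_coe_finset, S.cardX, he']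
  · rw [Nat.card_coe_set_eq, Set.ncard_coe_finset, hYdiv]
  · have h := hX χ hχ
    rw [hfe, hdeg]
    rcases S.signX χ hχ with ha | ha <;> rw [ha] at h
    · left; simpa using h
    · right; simpa using h
  · rw [hdeg, ← hf]
    exact hY ψ hψ

end Cfsg.Agent.S4442
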