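import Cfsg.Statements.S4443
import Cfsg.Agent.S0956
import Cfsg.Agent.S0957
import Cfsg.Agent.Lib.BlockTheoryCount
import Cfsg.Agent.Lib.BlockNormalP81
import Cfsg.Agent.Lib.BlockContribBounds
import Cfsg.Agent.Lib.CharInducedClifford

set_option autoImplicit false
open Cfsg

namespace Cfsg.Agent.S4443
open Cfsg.Agent.BlockTheoryLocalRing Cfsg.Agent.BlockTheoryCentre Cfsg.Agent.BlockTheoryIdem
open Cfsg.Agent.BlockTheoryBrauer Cfsg.Agent.BlockTheoryDefect
open scoped ComplexConjugate

attribute [local instance] Classical.propDecidable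

/-- The rank of a matrix does not change under a field extension. -/
theorem rank_map {F K : Type*} [Field F] [Field K] (φ : F →+* K) {m n : Type*} [Fintype m] [Fintype n]
    [DecidableEq m] [DecidableEq n] (A : Matrix m n F) : (A.map φ).rank = A.rank := by
  set f := A.mulVecLin with hf
  let e : (Fin A.rank → F) ≃ₗ[F] LinearMap.range f :=
    (Module.finBasisOfFinrankEq F (LinearMap.range f) rfl).equivFun.symm
  set u : (Fin A.rank → F) →ₗ[F] (m → F) := (LinearMap.range f).subtype ∘ₗ e.toLinearMap with hu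
  set v : (n → F) →ₗ[F] (Fin A.rank → F) := e.symm.toLinearMap ∘ₗ f.rangeRestrict with hv
  obtain ⟨l, hl⟩ := LinearMap.exists_leftInverse_of_injective u
    (LinearMap.ker_eq_bot.mpr (fun a b h => e.injective (Subtype.ext h)))
  obtain ⟨w, hw⟩ := LinearMap.exists_rightInverse_of_surjective v
    (LinearMap.range_eq_top.mpr (e.symm.surjective.comp f.surjective_rangeRestrict))
  have hUV : A = LinearMap.toMatrix' u * LinearMap.toMatrix' v := by
    rw [← LinearMap.toMatrix'_comp]
    refine (Matrix.ext_iff_mulVec.mpr fun x => ?_)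
    rw [← Matrix.toLin'_apply, ← Matrix.toLin'_apply, Matrix.toLin'_toMatrix']
    simp [hu, hv, hf, Matrix.toLin'_apply]
  have hone : LinearMap.toMatrix' l * A * LinearMap.toMatrix' w = 1 := by
    calc LinearMap.toMatrix' l * A * LinearMap.toMatrix' w
        = LinearMap.toMatrix' l * (LinearMap.toMatrix' u * LinearMap.toMatrix' v) *
            LinearMap.toMatrix' w :=
          congrArg (fun X => LinearMap.toMatrix' l * X * LinearMap.toMatrix' w) hUV
      _ = 1 := by
          rw [← Matrix.mul_assoc, ← LinearMap.toMatrix'_comp, hl, LinearMap.toMatrix'_id,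
            Matrix.one_mul, ← LinearMap.toMatrix'_comp, hw, LinearMap.toMatrix'_id]
  refine le_antisymm ?_ ?_
  · rw [show A.map φ = (LinearMap.toMatrix' u).map φ * (LinearMap.toMatrix' v).map φ from
      (congrArg (fun X => Matrix.map X φ) hUV).trans Matrix.map_mul]
    exact (Matrix.rank_mul_le_left _ _).trans ((Matrix.rank_le_card_width _).trans_eq (Fintype.card_fin _))
  · have h := congrArg (fun X => Matrix.map X φ) hone
    simp only [Matrix.map_mul, Matrix.map_one φ φ.map_zero φ.map_one] at h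
    have hr := (Matrix.rank_mul_le_left ((LinearMap.toMatrix' l).map φ * A.map φ)
      ((LinearMap.toMatrix' w).map φ)).trans (Matrix.rank_mul_le_right _ _)
    rw [h, Matrix.rank_one, Fintype.card_fin] at hr
    exact hr

variable {G : Type*} [Group G] [Fintype G]

/-- Fourier expansion of a central element. -/
theorem coeff_eq_sum {w : MonoidAlgebra ℂ G} (hw : IsCen w) (u : G) :
    w.coeff u = (Nat.card G : ℂ)⁻¹ * ∑ θ : IrrCharacter G,
      omega (θ : G → ℂ) w * (θ : G → ℂ) 1 * conj ((θ : G → ℂ) u) := by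
  have e : w = ∑ θ : IrrCharacter G, omega (θ : G → ℂ) w • idem ({θ} : Set (IrrCharacter G)) := by
    refine ext_omega hw ?_ fun χ => ?_
    · exact Finset.sum_induction _ IsCen (fun _ _ => IsCen.add) isCen_zero
        fun θ _ => (isCen_idem _).smul _
    · simp [map_sum, omega_idem]
  conv_lhs => rw [e]
  simp only [MonoidAlgebra.coeff_sum, Finset.sum_apply', MonoidAlgebra.coeff_smul_apply,
    smul_eq_mul, coeff_idem, blockCoeff_eq_sum, Finset.mul_sum, Set.mem_singleton_iff]
  refine Finset.sum_congr rfl fun θ _ => ?_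
  rw [Finset.sum_eq_single θ]
  · simp; ring
  · intro χ _ hne; simp [hne]
  · simp

theorem isConj_inv_iff (a b : G) : IsConj a⁻¹ b⁻¹ ↔ IsConj a b := by
  simp only [isConj_iff]
  refine exists_congr fun c => ?_
  rw [show c * a⁻¹ * c⁻¹ = (c * a * c⁻¹)⁻¹ by group, inv_inj]

theorem centralizer_inv (x : G) :
    Subgroup.centralizer ({x⁻¹} : Set G) = Subgroup.centralizer ({x} : Set G) := by
  ext c
  rw [Subgroup.mem_centralizer_singleton_iff, Subgroup.mem_centralizer_singleton_iff]
  exact Commute.inv_right_iff (a := c) (b := x)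

variable {p : ℕ} {M : Ideal AlgInt}

/-- A small invariant function summed over a class with orbits of size `p ^ c` is small after
division. -/
theorem sum_class_orbits [Fact p.Prime] (hM : IsPModular p M) (S : Sylow p G) {x : G} {c : ℕ}
    (hsize : ∀ y, IsConj x y → ∀ T : Subgroup (S : Subgroup G),
      (∀ q : (S : Subgroup G), q ∈ T ↔ (q : G) * y * (q : G)⁻¹ = y) → T.index = p ^ c)
    (ψ : G → ℂ) (hinv : ∀ q ∈ (S : Subgroup G), ∀ y, ψ (q * y * q⁻¹) = ψ y)
    (hψ : ∀ y, IsConj x y → MemLocalIdeal M (ψ y)) :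
    ∃ T : ℂ, MemLocalIdeal M T ∧ ∑ y : G, (if IsConj x y then ψ y else 0) = ((p ^ c : ℕ) : ℂ) * T := by
  let A := {y : G // IsConj x y}
  letI : MulAction (S : Subgroup G) A :=
    { smul := fun q a => ⟨(q : G) * a.1 * (q : G)⁻¹, a.2.trans (isConj_iff.mpr ⟨q, rfl⟩)⟩
      one_smul := fun a => Subtype.ext
        (show ((1 : (S : Subgroup G)) : G) * a.1 * ((1 : (S : Subgroup G)) : G)⁻¹ = a.1 by simp)
      mul_smul := fun q r a => Subtype.ext
        (show ((q * r : (S : Subgroup G)) : G) * a.1 * ((q * r : (S : Subgroup G)) : G)⁻¹ =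
          (q : G) * ((r : G) * a.1 * (r : G)⁻¹) * (q : G)⁻¹ by simp [mul_assoc]) }
  have horbit : ∀ a : A, Nat.card (MulAction.orbit (S : Subgroup G) a) = p ^ c := by
    intro a
    rw [Nat.card_congr (MulAction.orbitEquivQuotientStabilizer (S : Subgroup G) a)]
    exact hsize a.1 a.2 _ fun q => ⟨fun h => congrArg Subtype.val h, fun h => Subtype.ext h⟩
  set Ω := Quotient (MulAction.orbitRel (S : Subgroup G) A)
  haveI : Fintype Ω := Fintype.ofFinite _
  refine ⟨∑ ω : Ω, ψ ω.out.1, ideal_sum hM fun ω _ => hψ _ ω.out.2, ?_⟩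
  rw [← Finset.sum_filter, Finset.sum_subtype (p := fun y => IsConj x y) _ (fun y => by simp),
    ← (MulAction.selfEquivSigmaOrbits (S : Subgroup G) A).symm.sum_comp, Fintype.sum_sigma,
    Finset.mul_sum]
  refine Finset.sum_congr rfl fun ω _ => ?_
  rw [← horbit ω.out, Nat.card_eq_fintype_card]
  rw [Finset.sum_congr rfl (g := fun _ => ψ ω.out.1) fun o _ => ?_, Finset.sum_const,
    Finset.card_univ, nsmul_eq_mul]
  obtain ⟨q, hq⟩ := o.2
  show ψ (o.1 : A).1 = _
  rw [← hq]
  exact hinv q q.2 _



/-- Let D be a normal p-subgroup of the finite group G, of order p^d, let p^a be the p-part of the order of G, and fix a Sylow p-subgroup S and a maximal ideal M of the algebraic integers containing p. Index by a finite type ι (via an injective map K) exactly the conjugacy classes of p-regular elements x of G for which D is a Sylow p-subgroup of C_G(x). For classes K_i, K_j let ω(i, j) be the number of pairs (y, z) ∈ K_i × K_j with z y⁻¹ ∈ S; this number is divisible by p^(a−d). Then the number of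 p-blocks of G having D as a defect group equals the rank over ℤ/pℤ of the matrix with (i, j) entry ω(i, j)/p^(a−d) reduced modulo p. -/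
theorem result {G : Type*} [Group G] [Finite G] (p : ℕ) [Fact p.Prime] (M : Ideal Cfsg.AlgInt) (hM : Cfsg.IsPModular p M) (D : Subgroup G) [D.Normal] (hD : IsPGroup p D) (S : Sylow p G) {ι : Type*} [Fintype ι] [DecidableEq ι] (K : ι → ConjClasses G) (hKinj : Function.Injective K) (hK : ∀ C : ConjClasses G, (∃ i, K i = C) ↔ ∃ x ∈ C.carrier, ¬ p ∣ orderOf x ∧ ∃ Q : Sylow p (Subgroup.centralizer ({x} : Set G)), (Q : Subgroup (Subgroup.centralizer ({x} : Set G))).map (Subgroup.centralizer ({x} : Set G)).subtype = D) : Nat.card {B : Set (Cfsg.IrrCharacter G) // Cfsg.IsPBlock M B ∧ Cfsg.IsDefectGroup p M B D} = (Matrix.of fun i j : ι => ((Nat.card {yz : G × G // yz.1 ∈ (K i).carrier ∧ yz.2 ∈ (K j).carrier ∧ yz.2 * yz.1⁻¹ ∈ (S : Subgroup G)} / p ^ ((Nat.card G).factorization p - (Nat.card D).factorization p) : ℕ) : ZMod p)).rank := by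
  classical
  haveI := Fintype.ofFinite G
  have hp : p.Prime := Fact.out
  set a := (Nat.card G).factorization p with ha
  set d := (Nat.card D).factorization p with hd
  set c := a - d with hc
  have hDcard : Nat.card D = p ^ d := by
    obtain ⟨k, hk⟩ := IsPGroup.iff_card.mp hD
    rw [hd, hk, hp.factorization_pow, Finsupp.single_eq_same]
  have hSa : Nat.card (S : Subgroup G) = p ^ a := S.card_eq_multiplicity
  have hda : d ≤ a :=
    (Nat.factorization_le_iff_dvd Nat.card_pos.ne' Nat.card_pos.ne').mpr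
      (Subgroup.card_subgroup_dvd_card D) p
  have hDS : D ≤ (S : Subgroup G) := by
    obtain ⟨S', hS'⟩ := hD.exists_le_sylow
    obtain ⟨g, hg⟩ := MulAction.exists_smul_eq G S' S
    intro u hu
    rw [← hg, Sylow.coe_subgroup_smul]
    refine ⟨g⁻¹ * u * g, hS' ?_, ?_⟩
    · simpa using (inferInstance : D.Normal).conj_mem u hu g⁻¹
    · show g * (g⁻¹ * u * g) * g⁻¹ = u
      group
  have hN : ∀ u : G, u ∈ Subgroup.normalizer (D : Set G) := fun u => by
    rw [Subgroup.normalizer_eq_top]; trivial
  have hord : ∀ g h : G, orderOf (h * g * h⁻¹) = orderOf g := fun g h =>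
    orderOf_injective (MulAut.conj h).toMonoidHom (MulAut.conj h).injective g
  -- classes with defect group `D`
  let good : G → Prop := fun g => ¬ p ∣ orderOf g ∧ g ∈ Subgroup.centralizer (D : Set G) ∧
    (Nat.card (Subgroup.centralizer ({g} : Set G))).factorization p = d
  have hcardconj : ∀ g h : G, IsConj g h → Nat.card (Subgroup.centralizer ({g} : Set G)) =
      Nat.card (Subgroup.centralizer ({h} : Set G)) := by
    intro g h hgh
    obtain ⟨u, rfl⟩ := isConj_iff.mp hgh
    have e : Subgroup.centralizer ({u * g * u⁻¹} : Set G) =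
        (Subgroup.centralizer ({g} : Set G)).map (MulAut.conj u).toMonoidHom := by
      ext v
      rw [Subgroup.mem_map_equiv, Subgroup.mem_centralizer_singleton_iff,
        Subgroup.mem_centralizer_singleton_iff, MulAut.conj_symm_apply]
      constructor
      · intro h
        calc u⁻¹ * v * u * g = u⁻¹ * (v * (u * g * u⁻¹)) * u := by group
          _ = u⁻¹ * ((u * g * u⁻¹) * v) * u := by rw [h]
          _ = g * (u⁻¹ * v * u) := by group
      · intro h
        calc v * (u * g * u⁻¹) = u * ((u⁻¹ * v * u) * g) * u⁻¹ := by group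
          _ = u * (g * (u⁻¹ * v * u)) * u⁻¹ := by rw [h]
          _ = (u * g * u⁻¹) * v := by group
    rw [e, Subgroup.card_map_of_injective (MulAut.conj u).injective]
  have hgood_conj : ∀ g h : G, IsConj g h → good g → good h := by
    intro g h hgh hg
    have h3 := hcardconj g h hgh
    obtain ⟨u, rfl⟩ := isConj_iff.mp hgh
    exact ⟨by rw [hord]; exact hg.1, conj_mem_centralizer (hN u) hg.2.1, h3 ▸ hg.2.2⟩
  have hgood_inv : ∀ g : G, good g → good g⁻¹ := fun g hg =>
    ⟨by rw [orderOf_inv]; exact hg.1, inv_mem hg.2.1, by rw [centralizer_inv]; exact hg.2.2⟩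
  have himage : ∀ g : G, (∃ i, K i = ConjClasses.mk g) ↔ good g := by
    intro g
    rw [hK]
    constructor
    · rintro ⟨x, hx, hreg, Q, hQ⟩
      have hxg : IsConj x g := ConjClasses.mk_eq_mk_iff_isConj.mp (ConjClasses.mem_carrier_iff_mk_eq.mp hx)
      refine hgood_conj x g hxg ⟨hreg, ?_, ?_⟩
      · exact hQ ▸ mem_centralizer_sylowIn Q
      · have h1 : Nat.card D = Nat.card (Q : Subgroup (Subgroup.centralizer ({x} : Set G))) := by
          rw [← hQ, Subgroup.card_map_of_injective Subtype.val_injective]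
        rw [hDcard, Q.card_eq_multiplicity] at h1
        exact (Nat.pow_right_injective hp.two_le h1).symm
    · rintro ⟨hreg, hgD, hexp⟩
      have hle : D ≤ Subgroup.centralizer ({g} : Set G) := le_centralizer_singleton_iff.mpr hgD
      refine ⟨g, ConjClasses.mem_carrier_iff_mk_eq.mpr rfl, hreg, Sylow.ofCard (D.subgroupOf _) ?_,
        Subgroup.map_subgroupOf_eq_of_le hle⟩
      rw [Nat.card_congr (Subgroup.subgroupOfEquivOfLe hle).toEquiv, hDcard, hexp]
  set x : ι → G := fun i => (K i).out with hx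
  have hxg : ∀ i, good (x i) := fun i => (himage _).mp ⟨i, (Quotient.out_eq (K i)).symm⟩
  have hidx : ∀ g, good g → (Subgroup.centralizer ({g} : Set G)).index.factorization p = c := by
    intro g hg
    have := BlockTheoryHeight.index_exp (p := p) (Subgroup.centralizer ({g} : Set G))
    rw [hg.2.2] at this
    omega
  have hstab : ∀ i y, IsConj (x i) y → ∀ T : Subgroup (S : Subgroup G),
      (∀ q : (S : Subgroup G), q ∈ T ↔ (q : G) * y * (q : G)⁻¹ = y) → T.index = p ^ c := by
    intro i y hy T hT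
    have hgy := hgood_conj _ _ hy (hxg i)
    have hTcard : Nat.card T = p ^ d := by
      obtain ⟨k, hk⟩ := IsPGroup.iff_card.mp (S.isPGroup'.to_subgroup T)
      have hle1 : D.subgroupOf (S : Subgroup G) ≤ T := fun q hq => (hT q).mpr (by
        rw [Subgroup.mem_centralizer_iff.mp hgy.2.1 q hq, mul_inv_cancel_right])
      have h1 := Subgroup.card_dvd_of_le hle1
      rw [Nat.card_congr (Subgroup.subgroupOfEquivOfLe hDS).toEquiv, hDcard, hk,
        Nat.pow_dvd_pow_iff_le_right hp.one_lt] at h1
      have hle2 : T.map (S : Subgroup G).subtype ≤ Subgroup.centralizer ({y} : Set G) := by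
        rintro _ ⟨q, hq, rfl⟩
        rw [Subgroup.mem_centralizer_singleton_iff]
        exact mul_inv_eq_iff_eq_mul.mp ((hT q).mp hq)
      have h2 := Subgroup.card_dvd_of_le hle2
      rw [Subgroup.card_map_of_injective Subtype.val_injective, hk,
        hp.pow_dvd_iff_le_factorization Nat.card_pos.ne', hgy.2.2] at h2
      rw [hk, le_antisymm h2 h1]
    have h3 := T.index_mul_card
    rw [hTcard, hSa, show a = c + d by omega, pow_add] at h3
    exact Nat.eq_of_mul_eq_mul_right (pow_pos hp.pos _) h3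
  -- the blocks with defect group `D`
  let BB := {B : Set (Cfsg.IrrCharacter G) // Cfsg.IsPBlock M B ∧ Cfsg.IsDefectGroup p M B D}
  haveI : Fintype BB := Fintype.ofFinite _
  choose r hr using fun B : BB => block_nonempty hM B.2.1
  have hBC : ∀ (B : BB) (g : G), ¬ MemLocalIdeal M (Cfsg.blockCoeff B.1 g) → good g := by
    intro B g hg
    have hreg : ¬ p ∣ orderOf g := fun h => hg (by
      rw [blockCoeff_eq_zero_of_dvd hM B.2.1 h]; exact ideal_zero hM)
    have hgD : g ∈ Subgroup.centralizer (D : Set G) := by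
      by_contra h
      exact hg (by rw [BlockNormalP81.blockCoeff_eq_zero hM D hD B.2.1 h]; exact ideal_zero hM)
    obtain ⟨T, hT⟩ := exists_le_sylowIn (p := p) hD hgD
    have hle := card_le_of_conjLe (conjLe_defect_of_coeff hM B.2.1 B.2.2 hg (IsConj.refl g)
      (isPGroup_sylowIn T) (mem_centralizer_sylowIn T))
    have heq := le_antisymm hle (Subgroup.card_le_of_le hT)
    rw [Subgroup.card_map_of_injective Subtype.val_injective, T.card_eq_multiplicity, hDcard] at heq
    exact ⟨hreg, hgD, Nat.pow_right_injective hp.two_le heq⟩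
  have hother : ∀ θ : Cfsg.IrrCharacter G, (∀ B : BB, θ ∉ B.1) → ∀ i,
      MemLocalIdeal M (Cfsg.centralChar (θ : G → ℂ) (x i)) := by
    intro θ hθ i
    by_contra hne
    have hB := isPBlock_blockOf (M := M) θ
    obtain ⟨E, hE⟩ := exists_defectGroup hM hB
    obtain ⟨y, hy, hyE⟩ := exists_conj_centralizes hM hB hE ⟨θ, self_mem_blockOf hM θ, hne⟩
    have hgy := hgood_conj _ _ hy (hxg i)
    have hDE := normal_le_defectGroup hM hB hE D hD
    have h1 := Subgroup.card_dvd_of_le (le_centralizer_singleton_iff.mpr hyE)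
    obtain ⟨k, hk⟩ := IsPGroup.iff_card.mp (isPGroup_of_isDefectGroup hE)
    rw [hk, hp.pow_dvd_iff_le_factorization Nat.card_pos.ne', hgy.2.2] at h1
    have hED : E = D := (Subgroup.eq_of_le_of_card_ge hDE (by
      rw [hk, hDcard]; exact Nat.pow_le_pow_right hp.pos h1)).symm
    exact hθ ⟨_, hB, hED ▸ hE⟩ (self_mem_blockOf hM θ)
  have hω : ∀ (θ : Cfsg.IrrCharacter G) (g : G), MemLocalRing M (Cfsg.centralChar (θ : G → ℂ) g) :=
    fun θ g => of_isIntegral hM (isIntegral_centralChar θ g)
  have hωconj : ∀ (θ : Cfsg.IrrCharacter G) (g h : G), IsConj g h →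
      Cfsg.centralChar (θ : G → ℂ) g = Cfsg.centralChar (θ : G → ℂ) h := by
    intro θ g h hgh
    rw [← omega_classSum (irr_classFun θ), ← omega_classSum (irr_classFun θ)]
    congr 1
    refine MonoidAlgebra.ext ?_
    ext v
    simp only [classSum, coeff_ofFun]
    exact if_congr ⟨fun e => hgh.symm.trans e, fun e => hgh.trans e⟩ rfl rfl
  -- pairing of idempotents and central characters on the good classes
  have hdelta : ∀ (B : BB) (θ : Cfsg.IrrCharacter G), MemLocalIdeal M
      ((∑ i, Cfsg.blockCoeff B.1 (x i) * Cfsg.centralChar (θ : G → ℂ) (x i)) -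
        if θ ∈ B.1 then 1 else 0) := by
    intro B θ
    rw [← BlockTheoryCount.sum_blockCoeff_centralChar B.1 θ,
      ← Finset.sum_filter_add_sum_filter_not Finset.univ (fun C => ∃ i, K i = C)
        (fun C => Cfsg.blockCoeff B.1 C.out * Cfsg.centralChar (θ : G → ℂ) C.out),
      show (Finset.univ.filter fun C => ∃ i, K i = C) = Finset.univ.image K by ext C; simp,
      Finset.sum_image fun i _ j _ h => hKinj h, ← sub_sub, sub_self, zero_sub]
    refine ideal_neg (ideal_sum hM fun C hC => ideal_mul_right hM ?_ (hω θ _))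
    by_contra hne
    refine (Finset.mem_filter.mp hC).2 ?_
    obtain ⟨i, hi⟩ := (himage C.out).mpr (hBC B _ hne)
    exact ⟨i, hi.trans (Quotient.out_eq C)⟩
  -- inversion permutes the good classes
  choose σ hσ using fun i => (himage (x i)⁻¹).mpr (hgood_inv _ (hxg i))
  have hσ' : ∀ i, IsConj (x (σ i)) (x i)⁻¹ := fun i =>
    ConjClasses.mk_eq_mk_iff_isConj.mp ((Quotient.out_eq (K (σ i))).trans (hσ i))
  have hσbij : Function.Bijective σ := by
    refine Finite.injective_iff_bijective.mp fun i j hij => hKinj ?_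
    have h1 : IsConj (x i)⁻¹ (x j)⁻¹ := (hσ' i).symm.trans (hij ▸ hσ' j)
    rw [isConj_inv_iff] at h1
    rw [← Quotient.out_eq (K i), ← Quotient.out_eq (K j)]
    exact ConjClasses.mk_eq_mk_iff_isConj.mpr h1
  have hdelta' : ∀ (B : BB) (θ : Cfsg.IrrCharacter G), MemLocalIdeal M
      ((∑ i, Cfsg.blockCoeff B.1 (x i)⁻¹ * Cfsg.centralChar (θ : G → ℂ) (x i)⁻¹) -
        if θ ∈ B.1 then 1 else 0) := by
    intro B θ
    have e : ∑ i, Cfsg.blockCoeff B.1 (x i)⁻¹ * Cfsg.centralChar (θ : G → ℂ) (x i)⁻¹ =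
        ∑ i, Cfsg.blockCoeff B.1 (x i) * Cfsg.centralChar (θ : G → ℂ) (x i) := by
      refine Fintype.sum_equiv (Equiv.ofBijective σ hσbij) _ _ fun i => ?_
      show _ = Cfsg.blockCoeff B.1 (x (σ i)) * Cfsg.centralChar (θ : G → ℂ) (x (σ i))
      obtain ⟨u, hu⟩ := isConj_iff.mp (hσ' i)
      rw [hωconj θ _ _ (hσ' i), ← hu]
      congr 1
      exact isCen_idem B.1 (x (σ i)) u
    rw [e]
    exact hdelta B θ
  -- the counts
  set Nc : ι → ι → ℕ := fun i j => Nat.card {yz : G × G // yz.1 ∈ (K i).carrier ∧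
    yz.2 ∈ (K j).carrier ∧ yz.2 * yz.1⁻¹ ∈ (S : Subgroup G)} with hNc
  have hmemK : ∀ i y, y ∈ (K i).carrier ↔ IsConj (x i) y := fun i y => by
    rw [ConjClasses.mem_carrier_iff_mk_eq, isConj_out]
  have hdiv : ∀ i j, p ^ c ∣ Nc i j := by
    intro i j
    have h := Cfsg.Agent.S0957.result p S (x i) (x j)
      (default : Sylow p (Subgroup.centralizer ({x i} : Set G)))
    rw [hSa, Sylow.card_eq_multiplicity, (hxg i).2.2, Nat.pow_div hda hp.pos] at h
    refine h.trans (dvd_of_eq (Nat.card_congr (Equiv.subtypeEquivRight fun yz => ?_)))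
    rw [hmemK, hmemK]
  have hpair : ∀ (i j : ι), (Nc i j : ℂ) = ∑ y : G, ∑ z : G,
      if IsConj (x i) y ∧ IsConj (x j) z ∧ z * y⁻¹ ∈ (S : Subgroup G) then 1 else 0 := by
    intro i j
    simp only [hNc]
    rw [Nat.card_eq_fintype_card, Fintype.card_subtype, Finset.natCast_card_filter,
      Fintype.sum_prod_type]
    simp only [hmemK]
  set h₀ := Nat.card G / p ^ a with hh₀
  have hh₀p : ¬ p ∣ h₀ := Nat.not_dvd_ordCompl hp Nat.card_pos.ne'
  have hh₀0 : (h₀ : ℂ) ≠ 0 := Nat.cast_ne_zero.2 fun e => hh₀p (e ▸ dvd_zero p)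
  have hGe : (Nat.card G : ℂ) = (p : ℂ) ^ a * (h₀ : ℂ) := by
    exact_mod_cast (Nat.ordProj_mul_ordCompl_eq_self (Nat.card G) p).symm
  have hp0 : (p : ℂ) ≠ 0 := Nat.cast_ne_zero.2 hp.ne_zero
  have hmult : ∀ θ : Cfsg.IrrCharacter G, ∃ m : ℕ,
      ∑ u : (S : Subgroup G), conj ((θ : G → ℂ) u) = (p : ℂ) ^ a * m := by
    intro θ
    obtain ⟨m, hm⟩ := CharBasicOrth.classInner_isCharacter
      (CharBasicDecomp.isCharacter_one (G := (S : Subgroup G)))
      (CharInduced.isCharacter_res (S : Subgroup G) (CharBasic.isCharacter_of_isIrrCharacter θ.2))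
    refine ⟨m, ?_⟩
    rw [← hm, Cfsg.classInner, ← mul_assoc, hSa, Nat.cast_pow,
      mul_inv_cancel₀ (pow_ne_zero _ hp0), one_mul]
    simp
  choose m hm using hmult
  -- the character formula
  have hformula : ∀ i j, (Nc i j : ℂ) = (h₀ : ℂ)⁻¹ * ∑ θ : Cfsg.IrrCharacter G,
      Cfsg.centralChar (θ : G → ℂ) (x j) * Cfsg.centralChar (θ : G → ℂ) (x i)⁻¹ *
        ((θ : G → ℂ) 1 * m θ) := by
    intro i j
    have h1 : (Nc i j : ℂ) =
        ∑ u : (S : Subgroup G), (classSum (x j) * classSum (x i)⁻¹).coeff (u : G) := by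
      rw [hpair, Finset.sum_comm, ← Finset.sum_subtype (Finset.univ.filter (· ∈ (S : Subgroup G)))
        (fun u => by simp) (fun u : G => (classSum (x j) * classSum (x i)⁻¹).coeff u),
        Finset.sum_filter]
      simp only [coeff_mul_eq, classSum, coeff_ofFun]
      rw [show (∑ u : G, if u ∈ (S : Subgroup G) then ∑ z : G,
          (if IsConj (x j) z then (1 : ℂ) else 0) * (if IsConj (x i)⁻¹ (z⁻¹ * u) then 1 else 0)
          else 0) = ∑ u : G, ∑ z : G, if u ∈ (S : Subgroup G) then
          (if IsConj (x j) z then (1 : ℂ) else 0) * (if IsConj (x i)⁻¹ (z⁻¹ * u) then 1 else 0)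
          else 0 from Finset.sum_congr rfl fun u _ => by split_ifs <;> simp]
      rw [Finset.sum_comm (s := (Finset.univ : Finset G)) (t := (Finset.univ : Finset G))
        (f := fun (u z : G) => if u ∈ (S : Subgroup G) then
          (if IsConj (x j) z then (1 : ℂ) else 0) * (if IsConj (x i)⁻¹ (z⁻¹ * u) then 1 else 0)
          else 0)]
      refine Finset.sum_congr rfl fun z _ => ?_
      refine Fintype.sum_equiv ((Equiv.inv G).trans (Equiv.mulLeft z)) _ _ fun y => ?_
      simp only [Equiv.trans_apply, Equiv.inv_apply, Equiv.coe_mulLeft, inv_mul_cancel_left,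
        isConj_inv_iff]
      by_cases h1 : z * y⁻¹ ∈ (S : Subgroup G) <;> by_cases h2 : IsConj (x j) z <;>
        by_cases h3 : IsConj (x i) y <;>
        simp only [h1, h2, h3, if_true, if_false, and_true, true_and, and_false, false_and,
          mul_zero, zero_mul, mul_one]
    rw [h1]
    simp only [coeff_eq_sum ((isCen_classSum (x j)).mul (isCen_classSum (x i)⁻¹))]
    rw [← Finset.mul_sum, Finset.sum_comm]
    simp only [← Finset.mul_sum, hm]
    rw [hGe, Finset.mul_sum, Finset.mul_sum]
    refine Finset.sum_congr rfl fun θ _ => ?_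
    rw [omega_mul θ (isCen_classSum _), omega_classSum (irr_classFun θ),
      omega_classSum (irr_classFun θ)]
    field_simp
  -- weights
  set τ : Cfsg.IrrCharacter G → ℂ := fun θ => (θ : G → ℂ) 1 * m θ / ((p : ℂ) ^ c * h₀) with hτ
  have hτR : ∀ (B : BB) θ, θ ∈ B.1 → MemLocalRing M (τ θ) := by
    intro B θ hθ
    have h1 := BlockContribBounds.card_defectGroup hM B.2.1 B.2.2
    rw [hDcard] at h1
    have h2 := BlockContrib.minExp_add_defect hM B.2.1
    rw [← Nat.pow_right_injective hp.two_le h1] at h2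
    have h3 := BlockContrib.minExp_le (p := p) hθ
    obtain ⟨q, hq⟩ : p ^ c ∣ Cfsg.charDegree (θ : G → ℂ) :=
      (hp.pow_dvd_iff_le_factorization (ClassAlgebraVal.charDegree_pos θ).ne').mpr (by omega)
    have : τ θ = ((q * m θ : ℕ) : ℂ) * (h₀ : ℂ)⁻¹ := by
      simp only [hτ, ClassAlgebraVal.apply_one_eq_charDegree θ, hq]
      push_cast
      field_simp
    rw [this]
    exact (localRing hM).mul_mem (natCast_mem (localRing hM) _) (inv_natCast_mem hM hh₀p)
  set cB : BB → ℂ := fun B => ∑ θ : Cfsg.IrrCharacter G, if θ ∈ B.1 then τ θ else 0 with hcB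
  have hcBR : ∀ B, MemLocalRing M (cB B) := fun B => (localRing hM).sum_mem fun θ _ => by
    split_ifs with h
    exacts [hτR B θ h, (localRing hM).zero_mem]
  have hmain : ∀ i j, MemLocalIdeal M (((Nc i j / p ^ c : ℕ) : ℂ) -
      ∑ B : BB, cB B * Cfsg.centralChar (r B : G → ℂ) (x j) *
        Cfsg.centralChar (r B : G → ℂ) (x i)⁻¹) := by
    intro i j
    have hQ : ((Nc i j / p ^ c : ℕ) : ℂ) = ∑ θ : Cfsg.IrrCharacter G,
        Cfsg.centralChar (θ : G → ℂ) (x j) * Cfsg.centralChar (θ : G → ℂ) (x i)⁻¹ * τ θ := by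
      rw [Nat.cast_div (hdiv i j) (by push_cast; exact pow_ne_zero _ hp0), hformula,
        Finset.mul_sum, Finset.sum_div]
      refine Finset.sum_congr rfl fun θ _ => ?_
      simp only [hτ]
      push_cast
      field_simp
    rw [hQ]
    simp only [hcB, Finset.sum_mul]
    rw [Finset.sum_comm, ← Finset.sum_sub_distrib]
    refine ideal_sum hM fun θ _ => ?_
    by_cases hθ : ∃ B : BB, θ ∈ B.1
    · obtain ⟨B, hB⟩ := hθ
      rw [Finset.sum_eq_single B]
      · rw [if_pos hB]
        have h1 := sameBlock_of_mem hM B.2.1 hB (hr B) (x j)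
        have h2 := sameBlock_of_mem hM B.2.1 hB (hr B) (x i)⁻¹
        have h3 := ideal_mul_left hM (hτR B θ hB) (ideal_add hM
          (ideal_mul_right hM h1 (hω θ (x i)⁻¹))
          (ideal_mul_left hM (hω (r B) (x j)) h2))
        convert h3 using 1
        ring
      · intro B' _ hne
        rw [if_neg fun h => hne (Subtype.ext (block_eq_of_mem hM B'.2.1 B.2.1 h hB)), zero_mul,
          zero_mul]
      · simp
    · rw [Finset.sum_eq_zero fun B _ => by rw [if_neg fun h => hθ ⟨B, h⟩, zero_mul, zero_mul],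
        sub_zero, mul_assoc]
      refine ideal_mul_right hM (hother θ (fun B h => hθ ⟨B, h⟩) j) ?_
      obtain ⟨q, hq⟩ : p ^ c ∣ (Subgroup.centralizer ({(x i)⁻¹} : Set G)).index :=
        (hp.pow_dvd_iff_le_factorization Subgroup.index_ne_zero_of_finite).mpr
          (hidx _ (hgood_inv _ (hxg i))).ge
      have e : Cfsg.centralChar (θ : G → ℂ) (x i)⁻¹ * τ θ =
          ((q * m θ : ℕ) : ℂ) * (h₀ : ℂ)⁻¹ * (θ : G → ℂ) (x i)⁻¹ := by
        simp only [hτ, Cfsg.centralChar, hq]
        push_cast
        have := irr_one_ne_zero θ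
        field_simp
      rw [e]
      exact (localRing hM).mul_mem
        ((localRing hM).mul_mem (natCast_mem (localRing hM) _) (inv_natCast_mem hM hh₀p))
        (of_isIntegral hM (CharBasic.isCharacter_integral
          (CharBasic.isCharacter_of_isIrrCharacter θ.2) _))
  -- each weight is a unit
  have hunit : ∀ B : BB, ¬ MemLocalIdeal M (cB B) := by
    intro B hsmall
    obtain ⟨y, hy, T₀, hT₀⟩ := B.2.2
    have hygood : good y := hBC B y hy.2.1
    obtain ⟨i, hi⟩ := (himage y).mpr hygood
    have hxy : IsConj (x i) y := (isConj_out (K i)).mp hi.symm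
    set g : G → ℂ := fun v => if good v then 0 else Cfsg.blockCoeff B.1 v with hg
    have hgI : ∀ v, MemLocalIdeal M (g v) := fun v => by
      simp only [hg]
      split_ifs with h
      · exact ideal_zero hM
      · by_contra h'; exact h (hBC B v h')
    set ψ : G → ℂ := fun v => ∑ z : G, if z * v⁻¹ ∈ (S : Subgroup G) then g z else 0 with hψ
    obtain ⟨T, hT, hTsum⟩ := sum_class_orbits hM S (hstab i) ψ
      (fun q hq v => by
        refine (Fintype.sum_equiv (MulAut.conj q).toEquiv _ _ fun z => ?_).symm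
        show (if z * v⁻¹ ∈ (S : Subgroup G) then g z else 0) =
          if q * z * q⁻¹ * (q * v * q⁻¹)⁻¹ ∈ (S : Subgroup G) then g (q * z * q⁻¹) else 0
        rw [show q * z * q⁻¹ * (q * v * q⁻¹)⁻¹ = q * (z * v⁻¹) * q⁻¹ by group]
        refine if_congr ⟨fun h => mul_mem (mul_mem hq h) (InvMemClass.inv_mem hq), fun h => by
          have := mul_mem (mul_mem (InvMemClass.inv_mem hq) h) hq
          simpa [mul_assoc] using this⟩ ?_ rfl
        simp only [hg]
        refine if_congr ⟨hgood_conj _ _ (isConj_iff.mpr ⟨q, rfl⟩),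
          hgood_conj _ _ (isConj_iff.mpr ⟨q⁻¹, by group⟩)⟩ rfl ?_
        exact (isCen_idem B.1 z q).symm)
      (fun v _ => ideal_sum hM fun z _ => by split_ifs; exacts [hgI z, ideal_zero hM])
    set φ : G → ℂ := fun v =>
      ∑ z : G, if z * v⁻¹ ∈ (S : Subgroup G) then Cfsg.blockCoeff B.1 z else 0 with hφ
    have htot : ∑ v : G, (if IsConj (x i) v then φ v else 0) =
        ((Subgroup.centralizer ({x i} : Set G)).index : ℂ) * Cfsg.blockCoeff B.1 (x i) := by
      have e : ∀ v, φ v = ∑ u : G, if u ∈ (S : Subgroup G) then Cfsg.blockCoeff B.1 (u * v) else 0 := by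
        intro v
        refine Fintype.sum_equiv (Equiv.mulRight v⁻¹) _ _ fun w => ?_
        simp
      simp only [e, ← Finset.sum_filter]
      rw [Finset.sum_comm, Finset.sum_eq_single (1 : G)]
      · rw [Finset.sum_congr rfl (g := fun _ => Cfsg.blockCoeff B.1 (x i)) fun v hv => ?_,
          Finset.sum_const, nsmul_eq_mul, index_centralizer_eq, Nat.card_eq_fintype_card,
          Fintype.card_subtype]
        obtain ⟨u, rfl⟩ := isConj_iff.mp (Finset.mem_filter.1 hv).2
        rw [one_mul]
        exact isCen_idem B.1 (x i) u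
      · intro u hu hu1
        rw [Finset.sum_filter]
        refine Cfsg.Agent.S0956.sum_class_translate hM B.2.1 (hxg i).1 ?_
        obtain ⟨k, hk⟩ := IsPGroup.iff_orderOf.mp S.isPGroup' ⟨u, (Finset.mem_filter.1 hu).2⟩
        rw [Subgroup.orderOf_mk] at hk
        rw [hk]
        refine dvd_pow_self p fun h => hu1 ?_
        rw [h, pow_zero, orderOf_eq_one_iff] at hk
        exact hk
      · simp
    have hlhs : ∑ j, Cfsg.blockCoeff B.1 (x j) * (Nc i j : ℂ) =
        ∑ v : G, (if IsConj (x i) v then φ v - ψ v else 0) := by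
      simp only [hpair, Finset.mul_sum]
      rw [Finset.sum_comm]
      refine Finset.sum_congr rfl fun v _ => ?_
      rw [Finset.sum_comm]
      by_cases hv : IsConj (x i) v
      swap
      · simp only [hv, false_and, if_false, mul_zero, Finset.sum_const_zero]
      simp only [if_pos hv, hφ, hψ, ← Finset.sum_sub_distrib]
      refine Finset.sum_congr rfl fun z _ => ?_
      by_cases hz : z * v⁻¹ ∈ (S : Subgroup G)
      swap
      · simp [hz]
      simp only [if_pos hz, hg, hv, hz, true_and, and_true, if_true]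
      by_cases hgz : good z
      · obtain ⟨j, hj⟩ := (himage z).mpr hgz
        have hjz : IsConj (x j) z := (isConj_out (K j)).mp hj.symm
        rw [if_pos hgz, sub_zero, Finset.sum_eq_single j]
        · rw [if_pos hjz, mul_one]
          exact (CharBasic.apply_eq_of_isConj (χ := Cfsg.blockCoeff B.1) (isCen_idem B.1) hjz)
        · intro k _ hk
          rw [if_neg, mul_zero]
          exact fun h => hk (hKinj (((isConj_out (K k)).mpr h).symm.trans hj.symm))
        · simp
      · rw [if_neg hgz, sub_self, Finset.sum_eq_zero]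
        intro k _
        rw [if_neg, mul_zero]
        exact fun h => hgz (hgood_conj _ _ h (hxg k))
    set b := (Subgroup.centralizer ({x i} : Set G)).index / p ^ c with hb
    have hbp : ¬ p ∣ b := by
      rw [hb, ← hidx _ (hxg i)]
      exact Nat.not_dvd_ordCompl hp Subgroup.index_ne_zero_of_finite
    have hbe : ((Subgroup.centralizer ({x i} : Set G)).index : ℂ) = (p : ℂ) ^ c * (b : ℂ) := by
      rw [hb, ← hidx _ (hxg i)]
      exact_mod_cast (Nat.ordProj_mul_ordCompl_eq_self _ p).symm
    have hsum : ∑ j, Cfsg.blockCoeff B.1 (x j) * ((Nc i j / p ^ c : ℕ) : ℂ) =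
        (b : ℂ) * Cfsg.blockCoeff B.1 (x i) - T := by
      apply mul_left_cancel₀ (pow_ne_zero c hp0)
      rw [Finset.mul_sum]
      calc ∑ j, (p : ℂ) ^ c * (Cfsg.blockCoeff B.1 (x j) * ((Nc i j / p ^ c : ℕ) : ℂ))
          = ∑ j, Cfsg.blockCoeff B.1 (x j) * (Nc i j : ℂ) := by
            refine Finset.sum_congr rfl fun j _ => ?_
            rw [Nat.cast_div (hdiv i j) (by push_cast; exact pow_ne_zero _ hp0)]
            push_cast
            field_simp
        _ = ∑ v : G, (if IsConj (x i) v then φ v else 0) -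
            ∑ v : G, (if IsConj (x i) v then ψ v else 0) := by
            rw [hlhs, ← Finset.sum_sub_distrib]
            exact Finset.sum_congr rfl fun v _ => by split_ifs <;> simp
        _ = _ := by rw [htot, hTsum, hbe]; push_cast; ring
    have hR : MemLocalIdeal M ((∑ j, Cfsg.blockCoeff B.1 (x j) * ((Nc i j / p ^ c : ℕ) : ℂ)) -
        cB B * Cfsg.centralChar (r B : G → ℂ) (x i)⁻¹) := by
      have h1 := ideal_sum hM (s := (Finset.univ : Finset ι)) fun j _ =>
        ideal_mul_left hM (blockCoeff_mem hM B.2.1 (x j)) (hmain i j)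
      have h2 : MemLocalIdeal M (∑ B' : BB, cB B' * Cfsg.centralChar (r B' : G → ℂ) (x i)⁻¹ *
          ((∑ j, Cfsg.blockCoeff B.1 (x j) * Cfsg.centralChar (r B' : G → ℂ) (x j)) -
            if r B' ∈ B.1 then 1 else 0)) :=
        ideal_sum hM fun B' _ => ideal_mul_left hM
          ((localRing hM).mul_mem (hcBR B') (hω _ _)) (hdelta B (r B'))
      have h3 := ideal_add hM h1 h2
      have e : ∑ B' : BB, cB B' * Cfsg.centralChar (r B' : G → ℂ) (x i)⁻¹ *
          (if r B' ∈ B.1 then (1 : ℂ) else 0) = cB B * Cfsg.centralChar (r B : G → ℂ) (x i)⁻¹ := by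
        rw [Finset.sum_eq_single B]
        · rw [if_pos (hr B), mul_one]
        · intro B' _ hne
          rw [if_neg fun h => hne (Subtype.ext (block_eq_of_mem hM B'.2.1 B.2.1 (hr B') h)), mul_zero]
        · simp
      convert h3 using 1
      simp only [mul_sub, Finset.sum_sub_distrib, e, Finset.mul_sum]
      rw [Finset.sum_comm]
      simp only [mul_comm, mul_left_comm, mul_assoc]
      ring
    have h4 := ideal_add hM hR (ideal_mul_right hM hsmall (hω (r B) (x i)⁻¹))
    rw [sub_add_cancel, hsum] at h4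
    have h5 := ideal_add hM h4 hT
    rw [sub_add_cancel] at h5
    have hyi : Cfsg.blockCoeff B.1 y = Cfsg.blockCoeff B.1 (x i) :=
      (CharBasic.apply_eq_of_isConj (χ := Cfsg.blockCoeff B.1) (isCen_idem B.1) hxy).symm
    exact not_ideal_mul hM (natCast_mem (localRing hM) b) (blockCoeff_mem hM B.2.1 _)
      (fun h => hbp ((natCast_mem_iff hM).1 h)) (hyi ▸ hy.2.1) h5
  -- pass to the residue field
  haveI hmax : (BlockTheoryCount.localIdeal hM).IsMaximal := by
    refine Ideal.isMaximal_iff.mpr ⟨one_not_ideal hM, fun J z hIJ hz hzJ => ?_⟩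
    have hz0 : (z : ℂ) ≠ 0 := fun h => hz (show MemLocalIdeal M (z : ℂ) by rw [h]; exact ideal_zero hM)
    have : (1 : localRing hM) = ⟨(z : ℂ)⁻¹, BlockTheoryLocalRing.inv_mem hM z.2 hz⟩ * z :=
      Subtype.ext (inv_mul_cancel₀ hz0).symm
    rw [this]
    exact J.mul_mem_left _ hzJ
  letI := Ideal.Quotient.field (BlockTheoryCount.localIdeal hM)
  set π := Ideal.Quotient.mk (BlockTheoryCount.localIdeal hM) with hπ
  haveI : CharP (localRing hM ⧸ BlockTheoryCount.localIdeal hM) p :=
    (CharP.charP_iff_prime_eq_zero hp).2 (by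
      rw [← map_natCast π, Ideal.Quotient.eq_zero_iff_mem]
      show MemLocalIdeal M _
      simpa using natCast_p_mem hM)
  set φ := ZMod.castHom (dvd_refl p) (localRing hM ⧸ BlockTheoryCount.localIdeal hM)
  rw [Nat.card_eq_fintype_card, ← rank_map φ]
  set R := (Matrix.of fun i j : ι => ((Nc i j / p ^ c : ℕ) : ZMod p)).map φ with hRdef
  show Fintype.card BB = R.rank
  let P : Matrix ι BB (localRing hM ⧸ BlockTheoryCount.localIdeal hM) :=
    Matrix.of fun j B => π ⟨Cfsg.centralChar (r B : G → ℂ) (x j), hω _ _⟩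
  let P' : Matrix ι BB (localRing hM ⧸ BlockTheoryCount.localIdeal hM) :=
    Matrix.of fun i B => π ⟨Cfsg.centralChar (r B : G → ℂ) (x i)⁻¹, hω _ _⟩
  let Δ : Matrix BB BB (localRing hM ⧸ BlockTheoryCount.localIdeal hM) :=
    Matrix.diagonal fun B => π ⟨cB B, hcBR B⟩
  let E : Matrix BB ι (localRing hM ⧸ BlockTheoryCount.localIdeal hM) :=
    Matrix.of fun B j => π ⟨Cfsg.blockCoeff B.1 (x j), blockCoeff_mem hM B.2.1 _⟩
  let E' : Matrix BB ι (localRing hM ⧸ BlockTheoryCount.localIdeal hM) :=
    Matrix.of fun B i => π ⟨Cfsg.blockCoeff B.1 (x i)⁻¹, blockCoeff_mem hM B.2.1 _⟩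
  have hR : R = P' * Δ * P.transpose := by
    ext i j
    rw [hRdef, Matrix.map_apply, Matrix.of_apply, map_natCast, ← map_natCast π]
    rw [Matrix.mul_apply]
    simp only [P, P', Δ, Matrix.mul_diagonal, Matrix.transpose_apply, Matrix.of_apply, ← map_mul,
      ← map_sum]
    rw [Ideal.Quotient.eq]
    show MemLocalIdeal M _
    convert hmain i j using 1
    push_cast
    refine congrArg₂ _ rfl (Finset.sum_congr rfl fun B _ => ?_)
    ring
  have hinvE : ∀ (f : ι → G) (hf : ∀ (B : BB) (θ : Cfsg.IrrCharacter G), MemLocalIdeal M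
      ((∑ i, Cfsg.blockCoeff B.1 (f i) * Cfsg.centralChar (θ : G → ℂ) (f i)) -
        if θ ∈ B.1 then 1 else 0)) (B B' : BB),
      ∑ i, π ⟨Cfsg.blockCoeff B.1 (f i), blockCoeff_mem hM B.2.1 _⟩ *
        π ⟨Cfsg.centralChar (r B' : G → ℂ) (f i), hω _ _⟩ = if B = B' then 1 else 0 := by
    intro f hf B B'
    rw [show (if B = B' then (1 : localRing hM ⧸ BlockTheoryCount.localIdeal hM) else 0) =
      π (if B = B' then 1 else 0) by split_ifs <;> simp]
    simp only [← map_mul, ← map_sum]
    rw [Ideal.Quotient.eq]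
    show MemLocalIdeal M _
    convert hf B (r B') using 1
    push_cast
    congr 1
    by_cases h : B = B'
    · subst h; rw [if_pos rfl, if_pos (hr B)]; rfl
    · rw [if_neg h, if_neg fun h' => h (Subtype.ext (block_eq_of_mem hM B.2.1 B'.2.1 h' (hr B')))]; rfl
  have hEP : E * P = 1 := by
    ext B B'
    rw [Matrix.mul_apply, Matrix.one_apply]
    exact hinvE x hdelta B B'
  have hEP' : E' * P' = 1 := by
    ext B B'
    rw [Matrix.mul_apply, Matrix.one_apply]
    exact hinvE (fun i => (x i)⁻¹) hdelta' B B'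
  refine le_antisymm ?_ ?_
  · have e : E' * R * E.transpose = Δ := by
      rw [hR, ← Matrix.mul_assoc, ← Matrix.mul_assoc, hEP', Matrix.one_mul, Matrix.mul_assoc,
        ← Matrix.transpose_mul, hEP, Matrix.transpose_one, Matrix.mul_one]
    have hΔ : IsUnit Δ := by
      refine Matrix.isUnit_diagonal.mpr (Pi.isUnit_iff.mpr fun B => Ne.isUnit ?_)
      rw [Ne, Ideal.Quotient.eq_zero_iff_mem]
      exact hunit B
    calc Fintype.card BB = Δ.rank := (Matrix.rank_of_isUnit _ hΔ).symm
      _ = (E' * R * E.transpose).rank := by rw [e]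
      _ ≤ (E' * R).rank := Matrix.rank_mul_le_left _ _
      _ ≤ R.rank := Matrix.rank_mul_le_right _ _
  · rw [hR]
    exact (Matrix.rank_mul_le_right _ _).trans (Matrix.rank_le_card_height _)

end Cfsg.Agent.S4443
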