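import Cfsg.Statements.S4444
import Mathlib
import Cfsg.Agent.Lib.GlaubermanP

set_option autoImplicit false
open Cfsg

namespace Cfsg.Agent.S4444

open Cfsg.Agent.GlaubermanP

/-- Conjugation by a subgroup normalising `G`, as automorphisms of `G`. -/
def conjHom {Γ : Type*} [Group Γ] (G S : Subgroup Γ)
    (hnorm : ∀ s ∈ S, ∀ g ∈ G, s * g * s⁻¹ ∈ G) : S →* MulAut G where
  toFun s :=
    { toFun := fun g => ⟨(s : Γ) * g * (s : Γ)⁻¹, hnorm s s.2 g g.2⟩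
      invFun := fun g => ⟨((s⁻¹ : S) : Γ) * g * ((s⁻¹ : S) : Γ)⁻¹, hnorm _ (s⁻¹).2 g g.2⟩
      left_inv := fun g => Subtype.ext (by simp [mul_assoc])
      right_inv := fun g => Subtype.ext (by simp [mul_assoc])
      map_mul' := fun g h => Subtype.ext (by simp [mul_assoc]) }
  map_one' := by ext g; simp
  map_mul' s t := by ext g; simp [mul_assoc]

theorem inv_iff {Γ : Type*} [Group Γ] (G S : Subgroup Γ)
    (hnorm : ∀ s ∈ S, ∀ g ∈ G, s * g * s⁻¹ ∈ G) (χ : G → ℂ) :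
    Inv (conjHom G S hnorm) χ ↔
      ∀ s ∈ S, ∀ g g' : G, (g' : Γ) = s * g * s⁻¹ → χ g' = χ g := by
  refine ⟨fun h s hs g g' e => ?_, fun h s g => h s s.2 g _ rfl⟩
  rw [show g' = conjHom G S hnorm ⟨s, hs⟩ g from Subtype.ext e, h]

theorem isFix {Γ : Type*} [Group Γ] (G S C : Subgroup Γ)
    (hnorm : ∀ s ∈ S, ∀ g ∈ G, s * g * s⁻¹ ∈ G)
    (hC : C = G ⊓ Subgroup.centralizer (S : Set Γ)) (hCG : C ≤ G) :
    IsFix (conjHom G S hnorm) (Subgroup.inclusion hCG) := by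
  refine ⟨Subgroup.inclusion_injective hCG, fun g => ?_⟩
  constructor
  · rintro ⟨c, rfl⟩ s
    refine Subtype.ext ?_
    have hc : (c : Γ) ∈ Subgroup.centralizer (S : Set Γ) :=
      (hC.le c.2).2
    show (s : Γ) * c * (s : Γ)⁻¹ = c
    rw [Subgroup.mem_centralizer_iff.mp hc s s.2, mul_inv_cancel_right]
  · intro h
    have hg : (g : Γ) ∈ C := by
      rw [hC]
      refine ⟨g.2, Subgroup.mem_centralizer_iff.mpr fun s hs => ?_⟩
      have := congrArg Subtype.val (h ⟨s, hs⟩)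
      exact mul_inv_eq_iff_eq_mul.mp this
    exact ⟨⟨g, hg⟩, rfl⟩


/-- The Glauberman correspondence for a p-group of operators. Inside a finite group Γ let S normalise G with the orders of G and S coprime, S a p-group, and let C = G ⊓ C(S) be the fixed points. Call an irreducible character χ of G S-invariant when χ(s g s⁻¹) = χ(g) for s ∈ S, g ∈ G. Then: (i) for every S-invariant χ there is exactly one irreducible character β of C whose multiplicity [χ_C, β] in the restriction of χ is not divisible by p; (ii) that multiplicity is ≡ 1 or ≡ −1 (mod p); (iii) distinct S-invariant χ give distinct β; (iv) every irreducible character of C arises in this way. So χ ↦ β is a bijection from the S-invariant irreducible characters of G onto the irreducible characters of C. -/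
theorem result {Γ : Type*} [Group Γ] [Fintype Γ] (G S : Subgroup Γ) [Fintype G] (hnorm : ∀ s ∈ S, ∀ g ∈ G, s * g * s⁻¹ ∈ G) (hcop : (Nat.card G).Coprime (Nat.card S)) (p : ℕ) (hp : p.Prime) (hS : IsPGroup p S) (C : Subgroup Γ) [Fintype C] (hC : C = G ⊓ Subgroup.centralizer (S : Set Γ)) (hCG : C ≤ G) : (∀ χ : Cfsg.IrrCharacter G, (∀ s ∈ S, ∀ g g' : G, (g' : Γ) = s * g * s⁻¹ → (χ : G → ℂ) g' = (χ : G → ℂ) g) → ∃! β : Cfsg.IrrCharacter C, ∃ m : ℕ, Cfsg.classInner (fun c : C => (χ : G → ℂ) ⟨c, hCG c.2⟩) (β : C → ℂ) = (m : ℂ) ∧ ¬ p ∣ m) ∧ (∀ χ : Cfsg.IrrCharacter G, (∀ s ∈ S, ∀ g g' : G, (g' : Γ) = s * g * s⁻¹ → (χ : G → ℂ) g' = (χ : G → ℂ) g) → ∀ β : Cfsg.IrrCharacter C, ∀ m : ℕ, Cfsg.classInner (fun c : C => (χ : G → ℂ) ⟨c, hCG c.2⟩) (β : C → ℂ) = (m : ℂ) → ¬ p ∣ m → ((m : ℤ) ≡ 1 [ZMOD p] ∨ (m : ℤ) ≡ -1 [ZMOD p])) ∧ (∀ χ χ' : Cfsg.IrrCharacter G, (∀ s ∈ S, ∀ g g' : G, (g' : Γ) = s * g * s⁻¹ → (χ : G →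 ℂ) g' = (χ : G → ℂ) g) → (∀ s ∈ S, ∀ g g' : G, (g' : Γ) = s * g * s⁻¹ → (χ' : G → ℂ) g' = (χ' : G → ℂ) g) → ∀ β : Cfsg.IrrCharacter C, ∀ m m' : ℕ, Cfsg.classInner (fun c : C => (χ : G → ℂ) ⟨c, hCG c.2⟩) (β : C → ℂ) = (m : ℂ) → ¬ p ∣ m → Cfsg.classInner (fun c : C => (χ' : G → ℂ) ⟨c, hCG c.2⟩) (β : C → ℂ) = (m' : ℂ) → ¬ p ∣ m' → χ = χ') ∧ (∀ β : Cfsg.IrrCharacter C, ∃ χ : Cfsg.IrrCharacter G, (∀ s ∈ S, ∀ g g' : G, (g' : Γ) = s * g * s⁻¹ → (χ : G → ℂ) g' = (χ : G → ℂ) g) ∧ ∃ m : ℕ, Cfsg.classInner (fun c : C => (χ : G → ℂ) ⟨c, hCG c.2⟩) (β : C → ℂ) = (m : ℂ) ∧ ¬ p ∣ m) := by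
  classical
  have hι := isFix G S C hnorm hC hCG
  haveI : Fact p.Prime := ⟨hp⟩
  by_cases hpd : p ∣ Nat.card G
  · -- then `S` is trivial and `C = G`
    have hS1 : S = ⊥ := by
      rw [← Subgroup.card_eq_one]
      obtain ⟨k, hk⟩ := IsPGroup.iff_card.mp hS
      rcases Nat.eq_zero_or_pos k with h | h
      · rw [hk, h, pow_zero]
      · exfalso
        exact hp.not_dvd_one (hcop ▸ Nat.dvd_gcd hpd (hk ▸ dvd_pow_self p h.ne'))
    have hGC : C = G := by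
      rw [hC, hS1, inf_eq_left]
      intro x _
      simp [Subgroup.mem_centralizer_iff]
    have hsurj : Function.Surjective (Subgroup.inclusion hCG) := fun g =>
      ⟨⟨g, hGC.ge g.2⟩, rfl⟩
    let R : Cfsg.IrrCharacter G → Cfsg.IrrCharacter C := fun χ =>
      ⟨(χ : G → ℂ) ∘ Subgroup.inclusion hCG, CharBasic.isIrrCharacter_comap _ hsurj χ.2⟩
    let e : C ≃* G := MulEquiv.ofBijective _ ⟨Subgroup.inclusion_injective hCG, hsurj⟩
    let Q : Cfsg.IrrCharacter C → Cfsg.IrrCharacter G := fun β =>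
      ⟨(β : C → ℂ) ∘ e.symm.toMonoidHom, CharBasic.isIrrCharacter_comap _ e.symm.surjective β.2⟩
    have hRinj : Function.Injective R := fun χ χ' h => Subtype.ext (funext fun g => by
      obtain ⟨c, rfl⟩ := hsurj g
      exact congrFun (congrArg Subtype.val h) c)
    have hRQ : ∀ β, R (Q β) = β := fun β => Subtype.ext (funext fun c => by
      show (β : C → ℂ) (e.symm (e c)) = _
      rw [e.symm_apply_apply])
    have hm : ∀ χ β, Cfsg.classInner (fun c : C => (χ : Cfsg.IrrCharacter G).1 ⟨c, hCG c.2⟩)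
        ((β : Cfsg.IrrCharacter C) : C → ℂ) = if R χ = β then 1 else 0 := fun χ β =>
      CharBasicOrth.classInner_irrCharacter (R χ) β
    have hnat : ∀ (χ : Cfsg.IrrCharacter G) (β : Cfsg.IrrCharacter C) (m : ℕ),
        Cfsg.classInner (fun c : C => (χ : G → ℂ) ⟨c, hCG c.2⟩) (β : C → ℂ) = (m : ℂ) →
        ¬ p ∣ m → R χ = β ∧ m = 1 := by
      intro χ β m h hd
      rw [hm] at h
      split_ifs at h with e
      · exact ⟨e, by exact_mod_cast h.symm⟩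
      · exact absurd (by rw [Nat.cast_eq_zero.mp h.symm]; exact dvd_zero p) hd
    refine ⟨fun χ _ => ⟨R χ, ⟨1, by rw [hm]; simp, hp.not_dvd_one⟩, ?_⟩, fun χ _ β m h hd => ?_,
      fun χ χ' _ _ β m m' h hd h' hd' => ?_,
      fun β => ⟨Q β, ?_, 1, by rw [hm, hRQ]; simp, hp.not_dvd_one⟩⟩
    · rintro β ⟨m, h, hd⟩
      exact ((hnat χ β m h hd).1).symm
    · exact Or.inl (by rw [(hnat χ β m h hd).2]; rfl)
    · exact hRinj ((hnat χ β m h hd).1.trans (hnat χ' β m' h' hd').1.symm)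
    · intro s hs g g' he
      rw [hS1, Subgroup.mem_bot] at hs
      subst hs
      rw [show g' = g from Subtype.ext (by simpa using he)]
  · have hSet : Setup p S G C := ⟨hp, hS, hpd⟩
    have hm : ∀ (χ : Cfsg.IrrCharacter G) (β : Cfsg.IrrCharacter C) (m : ℕ),
        Cfsg.classInner (fun c : C => (χ : G → ℂ) ⟨c, hCG c.2⟩) (β : C → ℂ) = (m : ℂ) ↔
          mult (Subgroup.inclusion hCG) χ β = m :=
      fun χ β m => mult_eq_iff (Subgroup.inclusion hCG) χ β m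
    refine ⟨fun χ hχ => ?_, fun χ hχ β m h hd => ?_, fun χ χ' hχ hχ' β m m' h hd h' hd' => ?_,
      fun β => ?_⟩
    · obtain ⟨β, hβ, huniq⟩ := existsUnique_mult hSet hι χ ((inv_iff G S hnorm _).2 hχ)
      refine ⟨β, ⟨_, (hm χ β _).2 rfl, hβ⟩, ?_⟩
      rintro γ ⟨m, h, hd⟩
      exact huniq γ (by simp only; rw [(hm χ γ m).1 h]; exact hd)
    · obtain rfl := (hm χ β m).1 h
      exact mult_modEq hSet hι χ ((inv_iff G S hnorm _).2 hχ) hd
    · obtain rfl := (hm χ β m).1 h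
      obtain rfl := (hm χ' β m').1 h'
      exact mult_injective hSet hι χ χ' ((inv_iff G S hnorm _).2 hχ) ((inv_iff G S hnorm _).2 hχ') hd hd'
    · obtain ⟨χ, hχ, hd⟩ := mult_surjective hSet hι β
      exact ⟨χ, (inv_iff G S hnorm _).1 hχ, _, (hm χ β _).2 rfl, hd⟩

end Cfsg.Agent.S4444
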