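import Cfsg.Statements.S4446
import Cfsg.Agent.Lib.GlaubermanCyclic

set_option autoImplicit false
open Cfsg

namespace Cfsg.Agent.S4446

/-- Let the finite group Γ be generated by a normal subgroup G and a cyclic subgroup S of coprime orders, C = G ⊓ C(S), and let χ be an S-invariant irreducible character of G with canonical extension χ̂ to Γ (the extension whose determinantal order is coprime to the order of S). Then there are exactly one irreducible character β of C and one sign ε such that χ̂(c s) = ε β(c) for every c ∈ C and every generator s of S; this β is a constituent of the restriction of χ to C; distinct S-invariant χ give distinct β; and every irreducible character of C arises in this way. -/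
theorem result {Γ : Type*} [Group Γ] [Fintype Γ] (G S : Subgroup Γ) [Fintype G] (hnorm : ∀ s ∈ S, ∀ g ∈ G, s * g * s⁻¹ ∈ G) (hcop : (Nat.card G).Coprime (Nat.card S)) (htop : G ⊔ S = ⊤) (hcyc : IsCyclic S) (C : Subgroup Γ) [Fintype C] (hC : C = G ⊓ Subgroup.centralizer (S : Set Γ)) (hCG : C ≤ G) : (∀ (χ : Cfsg.IrrCharacter G) (χh : Cfsg.IrrCharacter Γ), (∀ s ∈ S, ∀ g g' : G, (g' : Γ) = s * g * s⁻¹ → (χ : G → ℂ) g' = (χ : G → ℂ) g) → (∀ g : G, (χh : Γ → ℂ) g = (χ : G → ℂ) g) → (Cfsg.detOrder (χh : Γ → ℂ)).Coprime (Nat.card S) → (∃! βε : Cfsg.IrrCharacter C × ℤ, (βε.2 = 1 ∨ βε.2 = -1) ∧ ∀ c : C, ∀ s : Γ, Subgroup.zpowers s = S → (χh : Γ → ℂ) ((c : Γ) * s) = (βε.2 : ℂ) * (βε.1 : C → ℂ) c) ∧ ∀ β : Cfsg.IrrCharacter C, ∀ ε : ℤ, (ε = 1 ∨ ε = -1) → (∀ c : C, ∀ s : Γ, Subgroup.zpowers s = S → (χh : Γ → ℂ) ((c : Γ) * s) = (ε : ℂ) * (β : C → ℂ) c) → Cfsg.classInner (fun c : C => (χ : G → ℂ) ⟨c,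 hCG c.2⟩) (β : C → ℂ) ≠ 0) ∧ (∀ (χ χ' : Cfsg.IrrCharacter G) (χh χh' : Cfsg.IrrCharacter Γ), (∀ s ∈ S, ∀ g g' : G, (g' : Γ) = s * g * s⁻¹ → (χ : G → ℂ) g' = (χ : G → ℂ) g) → (∀ s ∈ S, ∀ g g' : G, (g' : Γ) = s * g * s⁻¹ → (χ' : G → ℂ) g' = (χ' : G → ℂ) g) → (∀ g : G, (χh : Γ → ℂ) g = (χ : G → ℂ) g) → (∀ g : G, (χh' : Γ → ℂ) g = (χ' : G → ℂ) g) → (Cfsg.detOrder (χh : Γ → ℂ)).Coprime (Nat.card S) → (Cfsg.detOrder (χh' : Γ → ℂ)).Coprime (Nat.card S) → ∀ β : Cfsg.IrrCharacter C, ∀ ε ε' : ℤ, (ε = 1 ∨ ε = -1) → (ε' = 1 ∨ ε' = -1) → (∀ c : C, ∀ s : Γ, Subgroup.zpowers s = S → (χh : Γ → ℂ) ((c : Γ) * s) = (ε : ℂ) * (β : C → ℂ) c) → (∀ c : C, ∀ s : Γ, Subgroup.zpowers s = S → (χh' : Γ → ℂ) ((c : Γ) * s) = (ε' : ℂ) * (β : C → ℂ) c) → χ = χ') ∧ (∀ β : Cfsg.IrrCharacter C, ∃ (χ : Cfsg.IrrCharacter G) (χh : Cfsg.IrrCharacter Γ) (ε : ℤ), (∀ s ∈ S, ∀ g g' : G, (g' : Γ) = s * g * s⁻¹ → (χ : G → ℂ) g'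 = (χ : G → ℂ) g) ∧ (∀ g : G, (χh : Γ → ℂ) g = (χ : G → ℂ) g) ∧ (Cfsg.detOrder (χh : Γ → ℂ)).Coprime (Nat.card S) ∧ (ε = 1 ∨ ε = -1) ∧ ∀ c : C, ∀ s : Γ, Subgroup.zpowers s = S → (χh : Γ → ℂ) ((c : Γ) * s) = (ε : ℂ) * (β : C → ℂ) c) := by
  classical
  haveI : G.Normal := Subgroup.normalizer_eq_top_iff.1 <| top_le_iff.1 <| htop ▸ sup_le
    Subgroup.le_normalizer (fun x hx => Subgroup.mem_normalizer_iff.2 fun g =>
      ⟨fun hg => hnorm x hx g hg, fun hg => by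
        have h1 := hnorm x⁻¹ (S.inv_mem hx) _ hg
        simpa [mul_assoc] using h1⟩)
  obtain ⟨⟨s, hs⟩, hgen⟩ := hcyc.exists_generator
  have hSz : Subgroup.zpowers s = S := le_antisymm (Subgroup.zpowers_le.2 hs) fun t ht => by
    obtain ⟨m, hm⟩ := Subgroup.mem_zpowers_iff.1 (hgen ⟨t, ht⟩)
    exact Subgroup.mem_zpowers_iff.2 ⟨m, congrArg Subtype.val hm⟩
  have hn : Nat.card S = orderOf s := by rw [← hSz, Nat.card_zpowers]
  have h : GlaubermanCyclic.Setup G s := ⟨hn ▸ hcop, by rw [hSz]; exact htop⟩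
  have hC' : C = G ⊓ Subgroup.centralizer ({s} : Set Γ) := by
    rw [hC]
    congr 1
    refine le_antisymm (Subgroup.centralizer_le (Set.singleton_subset_iff.2 hs)) fun y hy => ?_
    refine Subgroup.mem_centralizer_iff.2 fun t ht => ?_
    have ht' : t ∈ Subgroup.zpowers s := hSz ▸ ht
    obtain ⟨m, rfl⟩ := Subgroup.mem_zpowers_iff.1 ht'
    exact (Commute.zpow_left (Subgroup.mem_centralizer_singleton_iff.1 hy).symm m).eq
  have hmem : ∀ d : C, (d : Γ) ∈ G ∧ (d : Γ) * s = s * d := fun d => by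
    have h' := d.2
    simp only [hC'] at h'
    exact (GlaubermanCyclic.mem_centralizer_inf G).1 h'
  have hgens : ∀ (θ : Cfsg.IrrCharacter G) (χ : Cfsg.IrrCharacter Γ),
      (∀ g : G, (χ : Γ → ℂ) g = (θ : G → ℂ) g) →
      (Cfsg.detOrder (χ : Γ → ℂ)).Coprime (orderOf s) → ∀ (d : C) (t : Γ),
      Subgroup.zpowers t = S → (χ : Γ → ℂ) ((d : Γ) * t) = (χ : Γ → ℂ) ((d : Γ) * s) :=
    fun θ χ e hd d t ht => h.apply_pow θ.2 χ.2 e hd (Subgroup.mem_zpowers s) (ht.trans hSz.symm)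
      (hmem d).1 (hmem d).2
  have hconst : ∀ (θ : Cfsg.IrrCharacter G) (χ : Cfsg.IrrCharacter Γ),
      (∀ g : G, (χ : Γ → ℂ) g = (θ : G → ℂ) g) →
      (Cfsg.detOrder (χ : Γ → ℂ)).Coprime (orderOf s) → ∀ (β : Cfsg.IrrCharacter C) (ε : ℤ),
      (ε = 1 ∨ ε = -1) → (∀ d : C, (χ : Γ → ℂ) ((d : Γ) * s) = (ε : ℂ) * (β : C → ℂ) d) →
      Cfsg.classInner (fun c : C => (θ : G → ℂ) ⟨c, hCG c.2⟩) (β : C → ℂ) ≠ 0 := by
    intro θ χ e hd β ε hε hβ h0
    obtain ⟨ω, hω, -⟩ := h.exists_omega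
    obtain ⟨a, ha⟩ := h.exists_coeff hω (fun d => (hmem d).2)
      (CharBasic.isCharacter_of_isIrrCharacter χ.2) (CharBasic.isCharacter_of_isIrrCharacter β.2)
    have h1 := ha 1 (Subgroup.one_mem _)
    have e1 : (fun d : C => (χ : Γ → ℂ) ((d : Γ) * 1)) =
        fun c : C => (θ : G → ℂ) ⟨c, hCG c.2⟩ := funext fun d => by
      rw [mul_one]; exact e ⟨d, hCG d.2⟩
    rw [e1, h0] at h1
    simp only [map_one, Units.val_one, one_pow, mul_one] at h1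
    rw [← Nat.cast_sum, eq_comm, Nat.cast_eq_zero, Finset.sum_eq_zero_iff] at h1
    have h2 := ha s (Subgroup.mem_zpowers s)
    rw [Finset.sum_eq_zero (fun i hi => by rw [h1 i hi]; simp),
      show (fun d : C => (χ : Γ → ℂ) ((d : Γ) * s)) = (ε : ℂ) • (β : C → ℂ) from funext hβ,
      CharBasicOrth.classInner_smul_left, CharBasicOrth.classInner_irr_self β.2, mul_one] at h2
    rcases hε with rfl | rfl <;> simp at h2
  refine ⟨fun χ χh hinv hext hdet => ?_, ?_, fun β => ?_⟩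
  · rw [hn] at hdet
    obtain ⟨β, ε, hε, hβ⟩ := h.exists_sign_char (fun d => (hmem d).1) (fun d => (hmem d).2)
      χ.2 χh.2 hext hdet (Subgroup.mem_zpowers s) hC'
    refine ⟨⟨(β, ε), ⟨hε, fun c t ht => ?_⟩, ?_⟩,
      fun β' ε' hε' hβ' => hconst χ χh hext hdet β' ε' hε' fun d => hβ' d s hSz⟩
    · rw [hgens χ χh hext hdet c t ht]; exact hβ c
    · rintro ⟨β', ε'⟩ ⟨hε', hβ'⟩
      obtain ⟨e1, e2⟩ := GlaubermanCyclic.sign_char_unique hε'
        fun d => (hβ' d s hSz).symm.trans (hβ d)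
      exact Prod.ext e1 e2
  · intro χ χ' χh χh' hinv hinv' hext hext' hdet hdet' β ε ε' hε hε' hβ hβ'
    rw [hn] at hdet hdet'
    by_contra hne
    have h1 := h.shift_orth χ.2 χh.2 χh'.2 hext hext' hdet hdet' (Subgroup.mem_zpowers s) hC'
    rw [if_neg (fun e => hne (Subtype.ext e)),
      show (fun d : C => (χh : Γ → ℂ) ((d : Γ) * s)) = (ε : ℂ) • (β : C → ℂ) from
        funext fun d => hβ d s hSz,
      show (fun d : C => (χh' : Γ → ℂ) ((d : Γ) * s)) = (ε' : ℂ) • (β : C → ℂ) from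
        funext fun d => hβ' d s hSz,
      CharBasicOrth.classInner_smul_left, CharBasicOrth.classInner_smul_right,
      CharBasicOrth.classInner_irr_self β.2] at h1
    rcases hε with rfl | rfl <;> rcases hε' with rfl | rfl <;> simp at h1
  · obtain ⟨θ, χ, ε, hinv, hext, hdet, hε, hβ⟩ := h.exists_of_char hC' β
    refine ⟨θ, χ, ε, fun t ht g g' hg' => ?_, hext, hn ▸ hdet, hε, fun c t ht => ?_⟩
    · have h3 := (CharInduced.mem_inertia_iff G).1 ((h.inertia_eq_top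
        (CharInduced.isClassFunction_irr θ.2) hinv).symm ▸ Subgroup.mem_top t) g
      rw [← h3]
      exact congrArg _ (Subtype.ext hg')
    · rw [hgens θ χ hext hdet c t ht]; exact hβ c

end Cfsg.Agent.S4446
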