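import Cfsg.Statements.S4447
import Cfsg.Agent.Lib.GlaubermanLayers
import Cfsg.Agent.S4444

set_option autoImplicit false
open Cfsg

namespace Cfsg.Agent.S4447

/-- Inside a finite group Γ let S normalise G and also normalise a normal subgroup N of G, with the order of S coprime to the index of N in G and S or G/N solvable. Then for every S-invariant irreducible character χ of G, the restriction of χ to N has an S-invariant irreducible constituent. -/
theorem result {Γ : Type*} [Group Γ] [Fintype Γ] (G S N : Subgroup Γ) [Fintype G] [Fintype N] (hnorm : ∀ s ∈ S, ∀ g ∈ G, s * g * s⁻¹ ∈ G) (hNG : N ≤ G) [hNn : (N.subgroupOf G).Normal] (hNS : ∀ s ∈ S, ∀ n ∈ N, s * n * s⁻¹ ∈ N) (hcop : (N.relIndex G).Coprime (Nat.card S)) (hsolv : Group.IsSolvable S ∨ Group.IsSolvable (G ⧸ N.subgroupOf G)) (χ : Cfsg.IrrCharacter G) (hinv : (∀ s ∈ S, ∀ g g' : G, (g' : Γ) = s * g * s⁻¹ → (χ : G → ℂ) g' = (χ : G → ℂ) g)) : ∃ θ : Cfsg.IrrCharacter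 N, Cfsg.classInner (fun n : N => (χ : G → ℂ) ⟨n, hNG n.2⟩) (θ : N → ℂ) ≠ 0 ∧ (∀ s ∈ S, ∀ g g' : N, (g' : Γ) = s * g * s⁻¹ → (θ : N → ℂ) g' = (θ : N → ℂ) g) := by
  classical
  haveI := Fintype.ofFinite (N.subgroupOf G)
  let φ : S →* MulAut G := S4444.conjHom G S hnorm
  let e : N.subgroupOf G ≃* N := Subgroup.subgroupOfEquivOfLe hNG
  have hcop' : (Nat.card (S ⧸ (⊥ : Subgroup S))).Coprime (N.subgroupOf G).index := by
    rw [← Subgroup.index_eq_card, Subgroup.index_bot]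
    exact hcop.symm
  have hB : ∀ b ∈ (⊥ : Subgroup S), ∃ m ∈ N.subgroupOf G, ∀ g, φ b g = m * g * m⁻¹ := fun b hb =>
    ⟨1, Subgroup.one_mem _, fun g => by rw [Subgroup.mem_bot.1 hb, map_one]; simp⟩
  have hM : ∀ a, ∀ m ∈ N.subgroupOf G, φ a m ∈ N.subgroupOf G := fun a m hm => hNS a a.2 m hm
  obtain ⟨θ', hθ, hinv'⟩ := GlaubermanLayers.exists_inv_below φ (N.subgroupOf G) hM ⊥ hcop' hB
    (hsolv.imp (fun h => @Group.isSolvable_of_surjective _ _ _ _ _ (QuotientGroup.mk'_surjective ⊥) h) id) χ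
    ((S4444.inv_iff G S hnorm _).2 hinv)
  refine ⟨⟨(θ' : N.subgroupOf G → ℂ) ∘ e.symm.toMonoidHom,
    CharBasic.isIrrCharacter_comap _ e.symm.surjective θ'.2⟩, ?_, fun s hs g g' hg => ?_⟩
  · rw [← CharBasicOrth.classInner_congr_equiv e]
    convert hθ using 2
    · funext n
      rfl
    · funext n
      exact congrArg (θ' : N.subgroupOf G → ℂ) (e.symm_apply_apply n)
  · have h1 := hinv' ⟨s, hs⟩ (e.symm g)
    show (θ' : N.subgroupOf G → ℂ) (e.symm g') = (θ' : N.subgroupOf G → ℂ) (e.symm g)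
    rw [← h1]
    exact congrArg _ (Subtype.ext (Subtype.ext hg))

end Cfsg.Agent.S4447
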