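import Cfsg.Statements.S4448
import Cfsg.Agent.Lib.GlaubermanLayers
import Cfsg.Agent.S4444

set_option autoImplicit false
open Cfsg

namespace Cfsg.Agent.S4448

/-- Inside a finite group Γ let S normalise G and also normalise a normal subgroup N of G, with the order of S coprime to the index of N in G and G/N solvable. Then for every S-invariant irreducible character ϑ of N, the induced character ϑ^G has an S-invariant irreducible constituent. -/
theorem result {Γ : Type*} [Group Γ] [Fintype Γ] (G S N : Subgroup Γ) [Fintype G] [Fintype N] (hnorm : ∀ s ∈ S, ∀ g ∈ G, s * g * s⁻¹ ∈ G) (hNG : N ≤ G) [hNn : (N.subgroupOf G).Normal] (hNS : ∀ s ∈ S, ∀ n ∈ N, s * n * s⁻¹ ∈ N) (hcop : (N.relIndex G).Coprime (Nat.card S)) (hsolv : Group.IsSolvable (G ⧸ N.subgroupOf G)) (θ : Cfsg.IrrCharacter N) (hinv : (∀ s ∈ S, ∀ g g' : N, (g' : Γ) = s * g * s⁻¹ → (θ : N → ℂ) g' = (θ : N → ℂ) g)) : ∃ χ : Cfsg.IrrCharacter G, Cfsg.classInner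 (fun n : N => (χ : G → ℂ) ⟨n, hNG n.2⟩) (θ : N → ℂ) ≠ 0 ∧ (∀ s ∈ S, ∀ g g' : G, (g' : Γ) = s * g * s⁻¹ → (χ : G → ℂ) g' = (χ : G → ℂ) g) := by
  classical
  haveI := Fintype.ofFinite (N.subgroupOf G)
  let φ : S →* MulAut G := S4444.conjHom G S hnorm
  let e : N.subgroupOf G ≃* N := Subgroup.subgroupOfEquivOfLe hNG
  have hcop' : (Nat.card (S ⧸ (⊥ : Subgroup S))).Coprime (N.subgroupOf G).index := by
    rw [← Subgroup.index_eq_card, Subgroup.index_bot]
    exact hcop.symm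
  have hB : ∀ b ∈ (⊥ : Subgroup S), ∃ m ∈ N.subgroupOf G, ∀ g, φ b g = m * g * m⁻¹ := fun b hb =>
    ⟨1, Subgroup.one_mem _, fun g => by rw [Subgroup.mem_bot.1 hb, map_one]; simp⟩
  have hM : ∀ a, ∀ m ∈ N.subgroupOf G, φ a m ∈ N.subgroupOf G := fun a m hm => hNS a a.2 m hm
  let θ' : Cfsg.IrrCharacter (N.subgroupOf G) :=
    ⟨(θ : N → ℂ) ∘ e.toMonoidHom, CharBasic.isIrrCharacter_comap _ e.surjective θ.2⟩
  obtain ⟨χ, hχ, hinv'⟩ := GlaubermanLayers.exists_inv_over φ (N.subgroupOf G) hM ⊥ hcop' hB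
    hsolv θ' (fun a m => hinv a a.2 _ _ rfl)
  refine ⟨χ, ?_, (S4444.inv_iff G S hnorm _).1 hinv'⟩
  rw [← CharBasicOrth.classInner_congr_equiv e]
  exact hχ

end Cfsg.Agent.S4448
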