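import Cfsg.Statements.S4450
import Cfsg.Agent.Lib.GlaubermanTriple

set_option autoImplicit false
open Cfsg

namespace Cfsg.Agent.S4450

/-- Let N ≤ G be normal subgroups of the finite group Γ with the index of G in Γ coprime to the index of N in G, and Γ/G or G/N solvable. Then for every irreducible character ϑ of N invariant under conjugation by Γ, the induced character ϑ^G has an irreducible constituent invariant under conjugation by Γ. -/
theorem result {Γ : Type*} [Group Γ] [Fintype Γ] (G N : Subgroup Γ) [hG : G.Normal] [hN : N.Normal] [Fintype G] [Fintype N] (hNG : N ≤ G) (hcop : (G.index).Coprime (N.relIndex G)) (hsolv : Group.IsSolvable (Γ ⧸ G) ∨ Group.IsSolvable (G ⧸ N.subgroupOf G)) (θ : Cfsg.IrrCharacter N) (hinv : ∀ (x : Γ) (n : N), (θ : N → ℂ) ⟨x * n * x⁻¹, hN.conj_mem n n.2 x⟩ = (θ : N → ℂ) n) : ∃ χ : Cfsg.IrrCharacter G, Cfsg.classInner (fun n : N => (χ : G → ℂ) ⟨n, hNG n.2⟩) (θ : N → ℂ) ≠ 0 ∧ ∀ (x : Γ) (g : G), (χ : G → ℂ) ⟨x * g *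 x⁻¹, hG.conj_mem g g.2 x⟩ = (χ : G → ℂ) g := by
  classical
  rcases hsolv with hsolv | hsolv
  · exact GlaubermanTriple.exists_invariant_over G N hNG hcop hsolv θ hinv
  -- `G ⧸ N` solvable
  haveI := Fintype.ofFinite (N.subgroupOf G)
  let Gb := G.map (QuotientGroup.mk' N)
  haveI : Gb.Normal := hG.map _ (QuotientGroup.mk'_surjective N)
  have hGbi : Gb.index = G.index := Subgroup.index_map_eq _ (QuotientGroup.mk'_surjective N)
    (by rw [QuotientGroup.ker_mk']; exact hNG)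
  have hGbc : Nat.card Gb = N.relIndex G := by
    have h1 := Gb.card_mul_index
    rw [hGbi, ← Subgroup.index_eq_card N, ← Subgroup.relIndex_mul_index hNG] at h1
    exact Nat.eq_of_mul_eq_mul_right (Nat.pos_of_ne_zero G.index_ne_zero_of_finite) h1
  obtain ⟨K, hK⟩ := Subgroup.exists_right_complement'_of_coprime (N := Gb)
    (by rw [hGbi, hGbc]; exact hcop.symm)
  let H := K.comap (QuotientGroup.mk' N)
  let φ : H →* MulAut G := (MulAut.conjNormal : Γ →* MulAut G).comp H.subtype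
  have hcard : Nat.card (H ⧸ N.subgroupOf H) = G.index := by
    rw [← Subgroup.index_eq_card]
    show N.relIndex H = G.index
    have h1 : N = (⊥ : Subgroup (Γ ⧸ N)).comap (QuotientGroup.mk' N) := by
      rw [MonoidHom.comap_bot, QuotientGroup.ker_mk']
    conv_lhs => rw [h1]
    rw [Subgroup.relIndex_comap, Subgroup.map_comap_eq_self_of_surjective
      (QuotientGroup.mk'_surjective N), Subgroup.relIndex_bot_left, ← hGbi, hK.symm.index_eq_card]
  have hM : ∀ a, ∀ m ∈ N.subgroupOf G, φ a m ∈ N.subgroupOf G := fun a m hm => by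
    show ((φ a m : G) : Γ) ∈ N
    rw [show ((φ a m : G) : Γ) = (a : Γ) * m * (a : Γ)⁻¹ from MulAut.conjNormal_apply _ _]
    exact hN.conj_mem _ hm _
  let e : N.subgroupOf G ≃* N := Subgroup.subgroupOfEquivOfLe hNG
  let θ' : Cfsg.IrrCharacter (N.subgroupOf G) :=
    ⟨(θ : N → ℂ) ∘ e.toMonoidHom, CharBasic.isIrrCharacter_comap _ e.surjective θ.2⟩
  obtain ⟨χ, hχ, hχinv⟩ := GlaubermanLayers.exists_inv_over φ (N.subgroupOf G) hM
    (N.subgroupOf H) (by rw [hcard]; exact hcop)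
    (fun b hb => ⟨⟨(b : Γ), hNG hb⟩, hb, fun g => Subtype.ext (MulAut.conjNormal_apply _ _)⟩)
    hsolv θ' (fun a m => by
      show (θ : N → ℂ) (e (GlaubermanAbove.resSub φ _ hM a m)) = (θ : N → ℂ) (e m)
      rw [← hinv (a : Γ) (e m)]
      exact congrArg _ (Subtype.ext (MulAut.conjNormal_apply _ _)))
  refine ⟨χ, ?_, fun x => (CharInduced.mem_inertia_iff G).1 ?_⟩
  · rw [← CharBasicOrth.classInner_congr_equiv e]
    exact hχ
  · have hHI : H ≤ CharInduced.inertia G (χ : G → ℂ) := fun a ha =>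
      (CharInduced.mem_inertia_iff G).2 fun g => by
        rw [← hχinv ⟨a, ha⟩ g]
        exact congrArg _ (Subtype.ext (MulAut.conjNormal_apply (H := G) a g).symm)
    have hGI := CharInduced.le_inertia G (CharInduced.isClassFunction_irr χ.2)
    have htop : (x : Γ ⧸ N) ∈ Gb ⊔ K := by rw [hK.sup_eq_top]; exact Subgroup.mem_top _
    obtain ⟨a, ⟨g, hg, rfl⟩, k, hk, hgk⟩ := Subgroup.mem_sup_of_normal_left.1 htop
    have hxH : g⁻¹ * x ∈ H := by
      show ((g⁻¹ * x : Γ) : Γ ⧸ N) ∈ K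
      rw [QuotientGroup.mk_mul, ← hgk]
      show ((g⁻¹ : Γ) : Γ ⧸ N) * ((g : Γ ⧸ N) * k) ∈ K
      rw [QuotientGroup.mk_inv, inv_mul_cancel_left]
      exact hk
    rw [← mul_inv_cancel_left g x]
    exact Subgroup.mul_mem _ (hGI hg) (hHI hxH)

end Cfsg.Agent.S4450
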