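import Cfsg.Statements.S4451
import Cfsg.Agent.Lib.GlaubermanFPF

set_option autoImplicit false
open Cfsg

namespace Cfsg.Agent.S4451

/-- Let the finite group Γ be generated by a normal subgroup G and a cyclic subgroup S of coprime orders such that every non-identity element of S has the same centraliser C = G ⊓ C(S) in G. Let χ be an S-invariant irreducible character of G, χ̂ its canonical extension to Γ (determinantal order coprime to the order of S), and β the irreducible character of C with χ̂(c s) = ε₀ β(c) for c ∈ C and generators s of S (ε₀ = ±1). Then there are a sign ε = ±1, which may differ from ε₀, and a linear character μ of S with μ² = 1, such that: (a) χ̂(c x) = ε β(c) μ(x) for all c ∈ C and all x ∈ S other than 1; (b) the restriction of χ to C equals |S|·ϑ + ε β for some character ϑ of C or ϑ = 0; (c) |S| divides χ(1) − ε β(1). -/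
theorem result {Γ : Type*} [Group Γ] [Fintype Γ] (G S : Subgroup Γ) [Fintype G] (hnorm : ∀ s ∈ S, ∀ g ∈ G, s * g * s⁻¹ ∈ G) (hcop : (Nat.card G).Coprime (Nat.card S)) (htop : G ⊔ S = ⊤) (hcyc : IsCyclic S) (C : Subgroup Γ) [Fintype C] (hC : C = G ⊓ Subgroup.centralizer (S : Set Γ)) (hCG : C ≤ G) (hfpf : ∀ x ∈ S, x ≠ 1 → G ⊓ Subgroup.centralizer ({x} : Set Γ) = C) (χ : Cfsg.IrrCharacter G) (hinv : (∀ s ∈ S, ∀ g g' : G, (g' : Γ) = s * g * s⁻¹ → (χ : G → ℂ) g' = (χ : G → ℂ) g)) (χh : Cfsg.IrrCharacter Γ) (hext : (∀ g : G, (χh : Γ → ℂ) g = (χ : G → ℂ) g)) (hdet : (Cfsg.detOrder (χh : Γ → ℂ)).Coprime (Nat.card S)) (β : Cfsg.IrrCharacter C) (ε₀ : ℤ) (hε₀ : ε₀ = 1 ∨ ε₀ = -1) (hβ : ∀ c : C, ∀ s : Γ, Subgroup.zpowers s = S → (χh : Γ → ℂ) ((c : Γ) * s) = (ε₀ : ℂ) * (β : C → ℂ) c) : ∃ ε : ℤ, (ε = 1 ∨ ε = -1) ∧ (∃ μ : S → ℂ, Cfsg.IsCharacter S μ ∧ μ 1 = 1 ∧ (∀ x : S, μ x * μ x = 1) ∧ ∀ c : C, ∀ x : S, x ≠ 1 → (χh : Γ → ℂ) ((c : Γ) * x) = (ε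 : ℂ) * (β : C → ℂ) c * μ x) ∧ (∃ ϑ : C → ℂ, Cfsg.IsCharacter C ϑ ∧ (fun c : C => (χ : G → ℂ) ⟨c, hCG c.2⟩) = fun c => (Nat.card S : ℂ) * ϑ c + (ε : ℂ) * (β : C → ℂ) c) ∧ (Nat.card S : ℤ) ∣ (Cfsg.charDegree (χ : G → ℂ) : ℤ) - ε * (Cfsg.charDegree (β : C → ℂ) : ℤ) := by
  classical
  haveI : G.Normal := Subgroup.normalizer_eq_top_iff.1 <| top_le_iff.1 <| htop ▸ sup_le
    Subgroup.le_normalizer (fun x hx => Subgroup.mem_normalizer_iff.2 fun g =>
      ⟨fun hg => hnorm x hx g hg, fun hg => by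
        have h1 := hnorm x⁻¹ (S.inv_mem hx) _ hg
        simpa [mul_assoc] using h1⟩)
  obtain ⟨⟨s, hs⟩, hgen⟩ := hcyc.exists_generator
  have hSz : Subgroup.zpowers s = S := le_antisymm (Subgroup.zpowers_le.2 hs) fun t ht => by
    obtain ⟨m, hm⟩ := Subgroup.mem_zpowers_iff.1 (hgen ⟨t, ht⟩)
    exact Subgroup.mem_zpowers_iff.2 ⟨m, congrArg Subtype.val hm⟩
  have hn : Nat.card S = orderOf s := by rw [← hSz, Nat.card_zpowers]
  have h : GlaubermanCyclic.Setup G s := ⟨hn ▸ hcop, by rw [hSz]; exact htop⟩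
  rw [hn] at hdet ⊢
  set n := orderOf s with hndef
  have hmemG : ∀ d : C, (d : Γ) ∈ G := fun d => hCG d.2
  have hCs : ∀ d : C, (d : Γ) * s = s * d := fun d => by
    have h' := d.2
    simp only [hC] at h'
    exact (Subgroup.mem_centralizer_iff.1 h'.2 s hs).symm
  have hβs : ∀ d : C, (χh : Γ → ℂ) ((d : Γ) * s) = (ε₀ : ℂ) * (β : C → ℂ) d :=
    fun d => hβ d s hSz
  have hint : ∀ (γ : Cfsg.IrrCharacter C) (j : ℕ), ∃ w : ℤ,
      Cfsg.classInner (fun d : C => (χh : Γ → ℂ) ((d : Γ) * s ^ j)) (γ : C → ℂ) = w := fun γ j =>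
    h.classInner_int hmemG hCs χ.2 χh.2 hext hdet (CharBasic.isCharacter_of_isIrrCharacter γ.2)
      (Subgroup.npow_mem_zpowers s j)
  choose v hv using hint
  obtain ⟨ω, hω, hprim⟩ := h.exists_omega
  choose a ha using fun γ : Cfsg.IrrCharacter C => h.exists_coeff hω hCs
    (CharBasic.isCharacter_of_isIrrCharacter χh.2) (CharBasic.isCharacter_of_isIrrCharacter γ.2)
  have hva : ∀ γ j, ∑ i ∈ Finset.range n, (a γ i : ℂ) * ((ω s : ℂ) ^ j) ^ i = (v γ j : ℂ) := by
    intro γ j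
    rw [← hv, ha γ _ (Subgroup.npow_mem_zpowers s j), map_pow, Units.val_pow_eq_pow_val]
  have hsv : ∀ (δ : Cfsg.IrrCharacter C) (e : ℤ) (j : ℕ),
      (∀ d : C, (χh : Γ → ℂ) ((d : Γ) * s ^ j) = (e : ℂ) * (δ : C → ℂ) d) →
      ∀ γ, v γ j = if δ = γ then e else 0 := by
    intro δ e j he γ
    have h1 := hv γ j
    rw [show (fun d : C => (χh : Γ → ℂ) ((d : Γ) * s ^ j)) = (e : ℂ) • (δ : C → ℂ) from funext he,
      CharBasicOrth.classInner_smul_left, CharBasicOrth.classInner_irrCharacter] at h1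
    split_ifs at h1 ⊢ with hd <;> simp at h1 <;> exact_mod_cast h1.symm
  have hsc : ∀ j, ¬ n ∣ j → ∃ (δ : Cfsg.IrrCharacter C) (e : ℤ), (e = 1 ∨ e = -1) ∧
      ∀ d : C, (χh : Γ → ℂ) ((d : Γ) * s ^ j) = (e : ℂ) * (δ : C → ℂ) d := fun j hj =>
    h.exists_sign_char hmemG hCs χ.2 χh.2 hext hdet (Subgroup.npow_mem_zpowers s j)
      (hfpf _ (hSz ▸ Subgroup.npow_mem_zpowers s j)
        (fun e => hj (orderOf_dvd_iff_pow_eq_one.2 e))).symm
  have hv1 : v β 1 = ε₀ := by
    have h1 := hsv β ε₀ 1 (by simpa using hβs) β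
    rwa [if_pos rfl] at h1
  -- the sign pattern
  have hpat : ∃ ε δ : ℤ, (ε = 1 ∨ ε = -1) ∧ (δ = 1 ∨ δ = -1) ∧ δ ^ n = 1 ∧
      ∀ j, ¬ n ∣ j → v β j = ε * δ ^ j := by
    rcases Nat.lt_or_ge n 2 with hlt | hge
    · have : n = 1 := by have := orderOf_pos s; omega
      refine ⟨ε₀, 1, hε₀, Or.inl rfl, one_pow n, fun j hj => ?_⟩
      exact absurd (this ▸ one_dvd j) hj
    have hint' : ∀ j i : ℕ, IsIntegral ℤ ((((ω s : ℂ)) ^ j) ^ i) := fun j i => by
      refine (IsIntegral.pow ?_ j).pow i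
      refine IsIntegral.of_pow (orderOf_pos s) ?_
      rw [← Units.val_pow_eq_pow_val, hprim.pow_eq_one, Units.val_one]
      exact isIntegral_one
    let T : Finset (Σ _ : ℕ, ℕ) := (Finset.range n).sigma fun i => Finset.range (a β i)
    have hT : ∀ j, ∑ q ∈ T, ((ω s : ℂ) ^ j) ^ q.1 = (v β j : ℂ) := fun j => by
      rw [← hva β j, Finset.sum_sigma]
      simp
    refine GlaubermanFPF.sign_pattern hge (v β) (fun j hj => ?_) (hv1 ▸ hε₀) (fun j m hm => ?_)
      (fun p j hp => ?_) (fun k h1 h2 h4 => ?_)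
    · obtain ⟨δ, e, he, hδ⟩ := hsc j hj
      rw [hsv δ e j hδ β]
      split_ifs
      · exact Or.inr he
      · exact Or.inl rfl
    · have hz : Subgroup.zpowers (s ^ (m * j)) = Subgroup.zpowers (s ^ j) := by
        rw [← CharBasicCyclic.mem_gens, CharBasicCyclic.gens_eq_image]
        exact ⟨m, hm.coprime_dvd_right (orderOf_pow_dvd j), by rw [← pow_mul, mul_comm]⟩
      have h3 : Cfsg.classInner (fun d : C => (χh : Γ → ℂ) ((d : Γ) * s ^ (m * j))) (β : C → ℂ) =
          Cfsg.classInner (fun d : C => (χh : Γ → ℂ) ((d : Γ) * s ^ j)) (β : C → ℂ) := by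
        congr 1
        funext d
        exact h.apply_pow χ.2 χh.2 hext hdet (Subgroup.npow_mem_zpowers s j) hz (hmemG d)
          ((Commute.pow_right (hCs d) j).eq)
      rw [hv, hv] at h3
      exact_mod_cast h3
    · refine RootSumCongr.frobenius_modEq hp T (fun q => ((ω s : ℂ) ^ j) ^ q.1)
        (fun q => hint' j q.1) (hT j) ?_
      rw [← hT (p * j)]
      exact Finset.sum_congr rfl fun q _ => by ring
    · refine RootSumCongr.two_four_eq T (fun q => ((ω s : ℂ) ^ k) ^ q.1) (fun q => hint' k q.1)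
        (hT k) ?_ ?_ h1 h2 h4
      · rw [← hT (2 * k)]
        exact Finset.sum_congr rfl fun q _ => by ring
      · rw [← hT (4 * k)]
        exact Finset.sum_congr rfl fun q _ => by ring
  obtain ⟨ε, δ, hε, hδ, hδn, hpat⟩ := hpat
  have hall : ∀ j, ¬ n ∣ j → ∀ d : C,
      (χh : Γ → ℂ) ((d : Γ) * s ^ j) = (ε : ℂ) * (δ : ℂ) ^ j * (β : C → ℂ) d := by
    intro j hj d
    obtain ⟨γ, e, he, hγ⟩ := hsc j hj
    have h1 := hsv γ e j hγ β
    rw [hpat j hj] at h1
    split_ifs at h1 with hγβ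
    · rw [hγ d, hγβ, ← h1]
      push_cast
      ring
    · rcases hε with rfl | rfl <;> rcases hδ with rfl | rfl <;> simp at h1
  have hδu : ∃ u : ℂˣ, (u : ℂ) = (δ : ℂ) ∧ u ^ n = 1 := by
    rcases hδ with rfl | rfl
    · exact ⟨1, by simp, one_pow n⟩
    · refine ⟨-1, by simp, Units.ext ?_⟩
      have : ((-1 : ℤ) : ℂ) ^ n = 1 := by exact_mod_cast hδn
      simpa using this
  obtain ⟨u, hu, hun⟩ := hδu
  have hgenS : ∀ x : S, x ∈ Subgroup.zpowers (⟨s, hs⟩ : S) := hgen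
  have hord : orderOf u ∣ orderOf (⟨s, hs⟩ : S) := by
    rw [Subgroup.orderOf_mk]
    exact orderOf_dvd_of_pow_eq_one hun
  refine ⟨ε, hε, ⟨fun x => ((monoidHomOfForallMemZpowers hgenS hord x : ℂˣ) : ℂ),
    CharBasicDecomp.isCharacter_linear _, by simp, fun x => ?_, fun c x hx => ?_⟩, ?_⟩
  · obtain ⟨j, rfl⟩ := mem_powers_iff_mem_zpowers.2 (hgenS x)
    beta_reduce
    rw [map_pow, monoidHomOfForallMemZpowers_apply_gen, Units.val_pow_eq_pow_val, hu, ← mul_pow]
    rcases hδ with rfl | rfl <;> simp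
  · obtain ⟨j, rfl⟩ := mem_powers_iff_mem_zpowers.2 (hgenS x)
    have hj : ¬ n ∣ j := fun hd => hx (Subtype.ext (orderOf_dvd_iff_pow_eq_one.1 hd))
    beta_reduce
    rw [map_pow, monoidHomOfForallMemZpowers_apply_gen, Units.val_pow_eq_pow_val, hu]
    show (χh : Γ → ℂ) ((c : Γ) * s ^ j) = _
    rw [hall j hj c]
    ring
  -- the restriction to `C`
  have hsum : ∀ γ, ∑ j ∈ Finset.range n, (v γ j : ℂ) = (n : ℂ) * (a γ 0 : ℂ) := by
    intro γ
    simp only [← hva]
    rw [Finset.sum_comm, Finset.sum_eq_single 0]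
    · simp
    · intro i hi hi0
      rw [← Finset.mul_sum]
      have e : ∀ j ∈ Finset.range n, ((ω s : ℂ) ^ j) ^ i = ((ω s : ℂ) ^ i) ^ j :=
        fun j _ => pow_right_comm _ j i
      rw [Finset.sum_congr rfl e, GlaubermanCyclic.geom_root (by
          rw [pow_right_comm, ← Units.val_pow_eq_pow_val, hprim.pow_eq_one, Units.val_one, one_pow]),
        if_neg, mul_zero]
      intro e1
      exact hi0 (Nat.eq_zero_of_dvd_of_lt
        ((IsPrimitiveRoot.coe_units_iff.2 hprim).dvd_of_pow_eq_one i e1) (Finset.mem_range.1 hi))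
    · intro h0
      exact absurd (Finset.mem_range.2 (orderOf_pos s)) h0
  have hrestz : ∀ γ, ∃ q : ℤ, v γ 0 = (n : ℤ) * q + if β = γ then ε else 0 := by
    intro γ
    have hoff : ∀ j ∈ Finset.range n, j ≠ 0 → v γ j = if β = γ then ε * δ ^ j else 0 := by
      intro j hj hj0
      have hnd : ¬ n ∣ j := fun hd =>
        hj0 (Nat.eq_zero_of_dvd_of_lt hd (Finset.mem_range.1 hj))
      exact hsv β (ε * δ ^ j) j (fun d => by rw [hall j hnd d]; push_cast; ring) γ
    have h0 : ∑ j ∈ Finset.range n, v γ j = (n : ℤ) * (a γ 0 : ℤ) := by exact_mod_cast hsum γ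
    have h1 : v γ 0 + ∑ j ∈ (Finset.range n).erase 0, (if β = γ then ε * δ ^ j else 0) =
        (n : ℤ) * (a γ 0 : ℤ) := by
      rw [← h0, ← Finset.add_sum_erase _ _ (Finset.mem_range.2 (orderOf_pos s))]
      congr 1
      exact Finset.sum_congr rfl fun j hj =>
        (hoff j (Finset.mem_of_mem_erase hj) (Finset.ne_of_mem_erase hj)).symm
    by_cases hγ : β = γ
    · simp only [hγ, if_true] at h1 ⊢
      have h2 : ε + ∑ j ∈ (Finset.range n).erase 0, ε * δ ^ j =
          ε * ∑ j ∈ Finset.range n, δ ^ j := by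
        rw [← Finset.add_sum_erase _ _ (Finset.mem_range.2 (orderOf_pos s)), mul_add,
          Finset.mul_sum, pow_zero, mul_one]
      obtain ⟨r, hr⟩ : (n : ℤ) ∣ ∑ j ∈ Finset.range n, δ ^ j := by
        rcases hδ with rfl | rfl
        · simp
        · rw [neg_one_geom_sum, if_pos (neg_one_pow_eq_one_iff_even (by norm_num) |>.1 hδn)]
          exact dvd_zero _
      refine ⟨(a γ 0 : ℤ) - ε * r, ?_⟩
      linear_combination h1 - h2 - ε * hr
    · simp only [hγ, if_false, Finset.sum_const_zero, add_zero] at h1 ⊢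
      exact ⟨_, h1⟩
  have hv0n : ∀ γ, 0 ≤ v γ 0 := fun γ => by
    have h1 := hva γ 0
    simp only [pow_zero, one_pow, mul_one] at h1
    have h2 : v γ 0 = ((∑ i ∈ Finset.range n, a γ i : ℕ) : ℤ) := by exact_mod_cast h1.symm
    rw [h2]
    positivity
  have hrest : ∀ γ, ∃ q : ℕ, v γ 0 = (n : ℤ) * q + if β = γ then ε else 0 := by
    intro γ
    obtain ⟨q, hq⟩ := hrestz γ
    rcases le_or_gt 0 q with hq0 | hq0
    · exact ⟨q.toNat, by rw [Int.toNat_of_nonneg hq0]; exact hq⟩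
    · exfalso
      have hn0 : (1 : ℤ) ≤ n := by exact_mod_cast orderOf_pos s
      have := hv0n γ
      by_cases hγ : β = γ
      · rw [if_pos hγ] at hq
        rcases hε with rfl | rfl
        · have hq1 : q = -1 := by nlinarith
          have hn1 : (n : ℤ) = 1 := by subst hq1; omega
          have hn1' : n = 1 := by exact_mod_cast hn1
          have h3 := hsum γ
          rw [hn1', Finset.sum_range_one] at h3
          have hs1 : s = 1 := orderOf_eq_one_iff.1 hn1'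
          have hv10 : v β 1 = v β 0 := by
            have e := hv β 1
            rw [pow_one, hs1] at e
            have e' := hv β 0
            rw [pow_zero] at e'
            exact_mod_cast e.symm.trans e'
          rw [hv1, hγ] at hv10
          subst hq1
          rcases hε₀ with rfl | rfl <;> omega
        · nlinarith
      · rw [if_neg hγ] at hq
        nlinarith
  choose q hq using hrest
  have hres : (fun c : C => (χ : G → ℂ) ⟨c, hCG c.2⟩) = fun c => (n : ℂ) *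
      (∑ γ : Cfsg.IrrCharacter C, (q γ : ℂ) • (γ : C → ℂ)) c + (ε : ℂ) * (β : C → ℂ) c := by
    have hcf : Cfsg.IsClassFunction C (fun c : C => (χ : G → ℂ) ⟨c, hCG c.2⟩) :=
      fun x y => CharInduced.isClassFunction_irr χ.2 (Subgroup.inclusion hCG x)
        (Subgroup.inclusion hCG y)
    have hcoef : ∀ γ : Cfsg.IrrCharacter C, Cfsg.classInner (fun c : C => (χ : G → ℂ) ⟨c, hCG c.2⟩)
        (γ : C → ℂ) = (v γ 0 : ℂ) := fun γ => by
      rw [← hv γ 0]
      congr 1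
      funext c
      rw [pow_zero, mul_one]
      exact (hext ⟨c, hCG c.2⟩).symm
    funext c
    refine (congrFun (CharBasicOrth.eq_sum_classInner hcf) c).trans ?_
    simp only [hcoef, hq, Finset.sum_apply, Pi.smul_apply, smul_eq_mul, Int.cast_add, Int.cast_mul,
      Int.cast_natCast, apply_ite (fun z : ℤ => (z : ℂ)), Int.cast_zero, add_mul,
      Finset.sum_add_distrib, ite_mul, zero_mul, Finset.sum_ite_eq, Finset.mem_univ, if_true,
      Finset.mul_sum, mul_assoc]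
  have hθc : Cfsg.IsCharacter C (∑ γ : Cfsg.IrrCharacter C, (q γ : ℂ) • (γ : C → ℂ)) :=
    CharBasicDecomp.isCharacter_sum _ _ fun γ _ => CharBasicDecomp.isCharacter_nsmul
      (CharBasic.isCharacter_of_isIrrCharacter γ.2) _
  refine ⟨⟨_, hθc, hres⟩, ?_⟩
  obtain ⟨dχ, -, hdχ⟩ := CharBasic.isIrrCharacter_apply_one χ.2
  obtain ⟨dβ, -, hdβ⟩ := CharBasic.isIrrCharacter_apply_one β.2
  obtain ⟨dθ, hdθ⟩ := CharBasic.isCharacter_apply_one hθc
  have h1 := congrFun hres 1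
  rw [hdθ, hdβ, show (⟨((1 : C) : Γ), hCG (1 : C).2⟩ : G) = 1 from rfl, hdχ] at h1
  simp only [Cfsg.charDegree, hdχ, hdβ, Complex.natCast_re, Nat.floor_natCast]
  refine ⟨dθ, ?_⟩
  have h2 : (dχ : ℤ) = (n : ℤ) * dθ + ε * dβ := by exact_mod_cast h1
  rw [h2]; ring

end Cfsg.Agent.S4451
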