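import Cfsg.Statements.S4452
import Mathlib
import Cfsg.Agent.Lib.GlaubermanCount
import Cfsg.Agent.S0867
import Cfsg.Agent.Lib.CharGallagher
import Cfsg.Agent.Lib.CharProjDegree
import Cfsg.Agent.Lib.CharBasicLinear
import Cfsg.Agent.Lib.DegreeDvd

set_option autoImplicit false
open Cfsg

namespace Cfsg.Agent.S4452
open Cfsg.Agent.CharBasic Cfsg.Agent.CharBasicOrth Cfsg.Agent.CharBasicDecomp
  Cfsg.Agent.CharInduced Cfsg.Agent.GlaubermanCount

universe u v

/-- A group isomorphism gives an equivalence of class sets. -/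
theorem card_conjClasses_congr {A B : Type v} [Group A] [Group B] (e : A ≃* B) :
    Nat.card (ConjClasses A) = Nat.card (ConjClasses B) := by
  refine Nat.card_congr (Equiv.ofBijective (ConjClasses.map e.toMonoidHom) ⟨?_, ConjClasses.map_surjective e.surjective⟩)
  intro K L h
  obtain ⟨a, rfl⟩ := ConjClasses.mk_surjective K
  obtain ⟨b, rfl⟩ := ConjClasses.mk_surjective L
  have h1 := e.symm.toMonoidHom.map_isConj (ConjClasses.mk_eq_mk_iff_isConj.1
    (show ConjClasses.mk (e a) = ConjClasses.mk (e b) from h))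
  refine ConjClasses.mk_eq_mk_iff_isConj.2 ?_
  simpa using h1

/-- Glauberman: invariant classes correspond to classes of the fixed-point subgroup. -/
theorem card_invClass_top (n : ℕ) : ∀ {A : Type u} [Group A] [Finite A], Nat.card A ≤ n →
    Group.IsSolvable A → ∀ {G : Type v} [Group G] [Finite G] (φ : A →* MulAut G),
    (Nat.card G).Coprime (Nat.card A) →
    Nat.card {K : ConjClasses G // InvClass φ K} = Nat.card (ConjClasses (fixSub φ ⊤)) := by
  induction n with
  | zero => intro A _ _ h; exact absurd h (by have := Nat.card_pos (α := A); omega)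
  | succ n ih =>
    intro A _ _ hn hsol G _ _ φ hcop
    rcases subsingleton_or_nontrivial A with hs | hs
    · have h1 : ∀ (a : A) (g : G), φ a g = g := fun a g => by
        rw [Subsingleton.elim a 1, map_one]; rfl
      rw [Nat.card_congr (Equiv.subtypeUnivEquiv
          (show ∀ K : ConjClasses G, InvClass φ K from fun K a g h => by rw [h1]; exact h))]
      refine card_conjClasses_congr ?_
      exact (Subgroup.topEquiv.symm.trans (MulEquiv.subgroupCongr
        (Subgroup.ext fun g => iff_of_true trivial fun t _ => h1 t g)))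
    · obtain ⟨p, T, hp, hTn, hT, hT1⟩ := exists_normal_pSubgroup hsol
      haveI : Fact p.Prime := ⟨hp⟩
      have hpG : ¬ p ∣ Nat.card G := by
        intro h
        obtain ⟨k, hk⟩ := IsPGroup.iff_card.mp hT
        have hk0 : k ≠ 0 := fun h0 => hT1 (Subgroup.card_eq_one.mp (by rw [hk, h0, pow_zero]))
        exact hp.not_dvd_one (hcop ▸ Nat.dvd_gcd h
          ((hk ▸ dvd_pow_self p hk0).trans (Subgroup.card_subgroup_dvd_card T)))
      rw [card_invClass_fix φ T hT hpG]
      let ψ : A ⧸ T →* MulAut (fixSub φ T) :=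
        QuotientGroup.lift T (resHom φ T) (le_ker_resHom φ T)
      have hlt : Nat.card (A ⧸ T) ≤ n := by
        have h2 : 1 < Nat.card T := Subgroup.one_lt_card_iff_ne_bot T |>.mpr hT1
        have h3 := Subgroup.card_eq_card_quotient_mul_card_subgroup T
        have h4 : 0 < Nat.card (A ⧸ T) := Nat.card_pos
        have : Nat.card (A ⧸ T) < Nat.card A := by rw [h3]; exact lt_mul_of_one_lt_right h4 h2
        omega
      have e := ih hlt (Group.isSolvable_of_surjective (QuotientGroup.mk'_surjective T)) ψ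
        (Nat.Coprime.coprime_dvd_left (Subgroup.card_subgroup_dvd_card _)
          (Nat.Coprime.coprime_dvd_right (Subgroup.card_quotient_dvd_card T) hcop))
      refine Eq.trans ?_ (e.trans (card_conjClasses_congr ?_))
      · refine Nat.card_congr (Equiv.subtypeEquivRight fun K => ⟨fun h b g hg => ?_, fun h a g hg => ?_⟩)
        · obtain ⟨a, rfl⟩ := QuotientGroup.mk_surjective b
          exact h a g hg
        · exact h (QuotientGroup.mk a) g hg
      · exact
          { toFun := fun x => ⟨((x : fixSub φ T) : G), fun a _ =>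
              congrArg Subtype.val (x.2 (QuotientGroup.mk a) (Subgroup.mem_top _))⟩
            invFun := fun x => ⟨⟨(x : G), fun t _ => x.2 t (Subgroup.mem_top _)⟩, fun b _ => by
              obtain ⟨a, rfl⟩ := QuotientGroup.mk_surjective b
              exact Subtype.ext (x.2 a (Subgroup.mem_top _))⟩
            left_inv := fun x => rfl
            right_inv := fun x => rfl
            map_mul' := fun x y => rfl }

variable {G : Type u} [Group G] [Finite G] (K H : Subgroup G) [K.Normal]

/-- conjugation -/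
noncomputable def conjHom : H →* MulAut K := (MulAut.conjNormal (H := K)).comp H.subtype

theorem conjHom_apply (h : H) (k : K) : ((conjHom K H h k : K) : G) = (h : G) * k * (h : G)⁻¹ :=
  MulAut.conjNormal_apply _ k

theorem coprime_degree_count (hKH : K ⊔ H = ⊤) (hcop : (Nat.card K).Coprime (Nat.card H)) :
    Nat.card {χ : Cfsg.IrrCharacter G // (Cfsg.charDegree (χ : G → ℂ)).Coprime (Nat.card H)} =
      Nat.card {θ : Cfsg.IrrCharacter K // GlaubermanP.Inv (conjHom K H) (θ : K → ℂ)} *
        Nat.card (H →* ℂˣ) := by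
  classical
  have : Fintype G := Fintype.ofFinite G
  have : Fintype K := Fintype.ofFinite K
  have hdisj : K ⊓ H = ⊥ := (Subgroup.disjoint_of_coprime_natCard hcop).eq_bot
  have hcompl : Subgroup.IsComplement' K H :=
    Subgroup.isComplement'_of_disjoint_and_mul_eq_univ (disjoint_iff.2 hdisj)
      (by rw [← Subgroup.normal_mul, hKH]; rfl)
  have hidx : K.index = Nat.card H := hcompl.symm.index_eq_card
  have hG : ∀ g : G, ∃ k ∈ K, ∃ h ∈ H, k * h = g := fun g =>
    Subgroup.mem_sup_of_normal_left.1 (by rw [hKH]; trivial)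
  have hinv : ∀ θ : {θ : Cfsg.IrrCharacter K // GlaubermanP.Inv (conjHom K H) (θ : K → ℂ)},
      ∀ (g : G) (n : K), (θ.1 : K → ℂ) ⟨g * n * g⁻¹, (inferInstance : K.Normal).conj_mem (n : G) n.2 g⟩
        = (θ.1 : K → ℂ) n := by
    intro θ g n
    obtain ⟨k, hk, h, hh, rfl⟩ := hG g
    have hcf := CharBasic.isClassFunction_of_isCharacter (isCharacter_of_isIrrCharacter θ.1.2)
    refine Eq.trans ?_ ((hcf (conjHom K H ⟨h, hh⟩ n) ⟨k, hk⟩).trans (θ.2 ⟨h, hh⟩ n))
    refine congrArg (θ.1 : K → ℂ) (Subtype.ext ?_)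
    simp [conjHom_apply, mul_assoc]
  have hext : ∀ θ : {θ : Cfsg.IrrCharacter K // GlaubermanP.Inv (conjHom K H) (θ : K → ℂ)},
      ∃ η : G → ℂ, Cfsg.IsIrrCharacter G η ∧ ∀ n : K, η n = (θ.1 : K → ℂ) n := by
    intro θ
    obtain ⟨m, ρ, hρ, he⟩ := θ.1.2
    have := hρ
    have hm : (θ.1 : K → ℂ) 1 = m := by rw [← he]; simp
    have hdvd : m ∣ Nat.card K := by simpa using DegreeDvd.finrank_dvd_card ρ
    have hdet : Cfsg.detOrder (θ.1 : K → ℂ) ∣ Nat.card K := by
      refine orderOf_dvd_of_pow_eq_one (funext fun g => ?_)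
      rw [← he, ← CharExtension.toRep_toHomUnits ρ, Pi.pow_apply]
      show Cfsg.detChar (CharExtension.chr (MonoidHom.toHomUnits ρ)) g ^ _ = _
      rw [CharExtension.detChar_chr, ← Units.val_pow_eq_pow_val, ← map_pow, ← map_pow,
        pow_card_eq_one', map_one, map_one]
      rfl
    obtain ⟨η, ⟨hη, hηN, -⟩, -⟩ := S0867.result K (θ.1 : K → ℂ) θ.1.2 (hinv θ) m hm
      (by rw [hidx]; exact Nat.Coprime.mul_right (hcop.symm.coprime_dvd_right hdet) (hcop.symm.coprime_dvd_right hdvd))
    exact ⟨η, hη, hηN⟩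
  choose extn hextI hextN using hext
  let π : G →* H :=
    hcompl.symm.QuotientMulEquiv.toMonoidHom.comp (QuotientGroup.mk' K)
  have hπK : ∀ n : K, π n = 1 := fun n => by
    show hcompl.symm.QuotientMulEquiv (QuotientGroup.mk' K n) = 1
    rw [QuotientGroup.mk'_apply, (QuotientGroup.eq_one_iff _).2 n.2, map_one]
  have hπs : Function.Surjective π :=
    hcompl.symm.QuotientMulEquiv.surjective.comp (QuotientGroup.mk'_surjective K)
  let F : {θ : Cfsg.IrrCharacter K // GlaubermanP.Inv (conjHom K H) (θ : K → ℂ)} × (H →* ℂˣ) →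
      {χ : Cfsg.IrrCharacter G // (Cfsg.charDegree (χ : G → ℂ)).Coprime (Nat.card H)} :=
    fun x => ⟨⟨fun g => extn x.1 g * (x.2 (π g) : ℂ),
      isIrrCharacter_mul_linear (hextI x.1) (x.2.comp π)⟩, by
      obtain ⟨m, ρ, hρ, he⟩ := x.1.1.2
      have := hρ
      have h1 : extn x.1 1 = m := by
        have := hextN x.1 1
        rw [OneMemClass.coe_one] at this
        rw [this, ← he]; simp
      have hdvd : m ∣ Nat.card K := by simpa using DegreeDvd.finrank_dvd_card ρ
      simp only [Cfsg.charDegree, map_one, Units.val_one, mul_one, h1, Complex.natCast_re,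
        Nat.floor_natCast]
      exact hcop.coprime_dvd_left hdvd⟩
  rw [← Nat.card_prod]
  refine (Nat.card_congr (Equiv.ofBijective F ⟨?_, ?_⟩)).symm
  · rintro ⟨θ, l⟩ ⟨θ', l'⟩ h
    have hfun : ∀ g, extn θ g * (l (π g) : ℂ) = extn θ' g * (l' (π g) : ℂ) := fun g =>
      congrFun (congrArg (fun y : {χ : Cfsg.IrrCharacter G //
        (Cfsg.charDegree (χ : G → ℂ)).Coprime (Nat.card H)} => (y.1 : G → ℂ)) h) g
    have hθ : θ = θ' := by
      refine Subtype.ext (Subtype.ext (funext fun n => ?_))
      have := hfun (n : G)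
      rw [hπK, map_one, map_one, Units.val_one, mul_one, mul_one, hextN, hextN] at this
      exact this
    subst hθ
    have hb := CharGallagher.bijOn_one K θ.1.2 (hextI θ) (hextN θ)
    have hmem : ∀ l : H →* ℂˣ, (fun g => (l (π g) : ℂ)) ∈
        {β : G → ℂ | IsIrrCharacter G β ∧ ∀ n : K, β n = β 1} := fun l =>
      ⟨isIrrCharacter_linear (l.comp π), fun n => by simp [hπK]⟩
    have heq := hb.injOn (hmem l) (hmem l') (funext fun g => by
      simp only [Pi.mul_apply]
      rw [mul_comm, hfun g, mul_comm])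
    refine Prod.ext rfl (MonoidHom.ext fun y => ?_)
    obtain ⟨g, rfl⟩ := hπs y
    exact Units.ext (congrFun heq g)
  · rintro ⟨χ, hχ⟩
    have hc := isCharacter_res K (isCharacter_of_isIrrCharacter χ.2)
    obtain ⟨mm, hmm, hsum⟩ := exists_mult hc
    obtain ⟨θ, -, hθ⟩ := Finset.exists_ne_zero_of_sum_ne_zero
      (f := fun ψ : IrrCharacter K => (mm ψ : ℂ) * (ψ : K → ℂ) 1) (s := Finset.univ) (by
        have := congrFun hsum 1
        simp only [Finset.sum_apply, Pi.smul_apply, smul_eq_mul, OneMemClass.coe_one] at this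
        rw [← this]
        exact isIrrCharacter_apply_one_ne_zero χ.2)
    have hne : classInner (fun n : K => (χ : G → ℂ) n) (θ : K → ℂ) ≠ 0 := by
      rw [hmm]; exact left_ne_zero_of_mul hθ
    obtain ⟨c, d, hd, hcd, hdvd⟩ := CharProjDegree.degree_dvd K χ.2 θ.2 hne
    have hc1 : c = 1 := by
      have hdeg : Cfsg.charDegree (χ : G → ℂ) = d * c := by
        rw [Cfsg.charDegree, hcd, Complex.natCast_re, Nat.floor_natCast]
      rw [hdeg] at hχ
      exact Nat.eq_one_of_dvd_coprimes hχ (dvd_mul_left c d) (hidx ▸ hdvd)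
    have heq := CharCliffordCorr.eq_of_constituent hc θ.2 hne
      (by simp [OneMemClass.coe_one, hcd, hd, hc1])
    have hθinv : GlaubermanP.Inv (conjHom K H) (θ : K → ℂ) := fun h n => by
      rw [← heq]
      show (χ : G → ℂ) ((conjHom K H h n : K) : G) = (χ : G → ℂ) n
      rw [conjHom_apply]
      exact isClassFunction_irr χ.2 _ _
    have hb := CharGallagher.bijOn_one K θ.2 (hextI ⟨θ, hθinv⟩) (hextN ⟨θ, hθinv⟩)
    obtain ⟨β, ⟨hβ, hβK⟩, hprod⟩ := hb.surjOn (show (χ : G → ℂ) ∈ _ from ⟨χ.2, by
      exact hne⟩)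
    have hβ1 : β 1 = 1 := by
      have h1 := congrFun hprod 1
      simp only [Pi.mul_apply] at h1
      have h2 := hextN ⟨θ, hθinv⟩ 1
      rw [OneMemClass.coe_one, ← heq] at h2
      simp only [OneMemClass.coe_one] at h2
      rw [h2] at h1
      exact mul_right_cancel₀ (isIrrCharacter_apply_one_ne_zero χ.2) (h1.trans (one_mul _).symm)
    obtain ⟨μ, hμ⟩ := CharBasicLinear.exists_hom_of_apply_one_eq_one
      (isCharacter_of_isIrrCharacter hβ) hβ1
    refine ⟨(⟨θ, hθinv⟩, μ.comp H.subtype), Subtype.ext (Subtype.ext (funext fun g => ?_))⟩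
    show extn ⟨θ, hθinv⟩ g * (μ ((π g : H) : G) : ℂ) = (χ : G → ℂ) g
    simp only [← hprod, Pi.mul_apply]
    rw [hμ, mul_comm (μ g : ℂ)]
    congr 2
    have hβker : ∀ n : K, μ n = 1 := fun n => Units.ext (by
      have := hβK n
      rw [hμ] at this
      simpa using this)
    obtain ⟨k, hk, h, hh, rfl⟩ := hG g
    have h1 : π h = ⟨h, hh⟩ := by
      show hcompl.symm.QuotientMulEquiv (h : G ⧸ K) = ⟨h, hh⟩
      rw [← MulEquiv.eq_symm_apply]
      rfl
    rw [map_mul π, map_mul μ, hβker ⟨k, hk⟩, hπK ⟨k, hk⟩, one_mul, one_mul, h1]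

/-- Let the finite group G be the product of a normal subgroup K and a solvable subgroup H of coprime orders, and let N = N_G(H). Then the number of irreducible characters of G of degree coprime to the order of H equals the number of irreducible characters of N of degree coprime to the order of H. (The two sets are in fact in a canonical bijection; only the equality of their sizes is stated here.) -/
theorem result {G : Type*} [Group G] [Finite G] (K H : Subgroup G) [K.Normal] (hKH : K ⊔ H = ⊤) (hcop : (Nat.card K).Coprime (Nat.card H)) (hsolv : Group.IsSolvable H) : Nat.card {χ : Cfsg.IrrCharacter G // (Cfsg.charDegree (χ : G → ℂ)).Coprime (Nat.card H)} = Nat.card {η : Cfsg.IrrCharacter (Subgroup.normalizer (H : Set G)) // (Cfsg.charDegree (η : Subgroup.normalizer (H : Set G) → ℂ)).Coprime (Nat.card H)} := by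
  classical
  set N := Subgroup.normalizer (H : Set G) with hN
  have hHN : H ≤ N := Subgroup.le_normalizer
  set K' := K.subgroupOf N with hK'
  set H' := H.subgroupOf N with hH'
  have hcardH : Nat.card H' = Nat.card H := Nat.card_congr (Subgroup.subgroupOfEquivOfLe hHN).toEquiv
  have hG : ∀ g : G, ∃ k ∈ K, ∃ h ∈ H, k * h = g := fun g =>
    Subgroup.mem_sup_of_normal_left.1 (by rw [hKH]; trivial)
  have hK'n : K'.Normal := Subgroup.normal_subgroupOf
  have hKH' : K' ⊔ H' = ⊤ := by
    refine (Subgroup.eq_top_iff' _).2 fun g => ?_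
    obtain ⟨k, hk, h, hh, he⟩ := hG g
    have hkN : k ∈ N := by
      have : k = (g : G) * h⁻¹ := by rw [← he, mul_inv_cancel_right]
      rw [this]
      exact mul_mem g.2 (inv_mem (hHN hh))
    have : g = (⟨k, hkN⟩ : N) * ⟨h, hHN hh⟩ := Subtype.ext he.symm
    rw [this]
    exact mul_mem (Subgroup.mem_sup_left hk) (Subgroup.mem_sup_right hh)
  have hK'dvd : Nat.card K' ∣ Nat.card K :=
    Subgroup.card_dvd_of_injective
      (MonoidHom.mk' (fun x : K' => (⟨((x : N) : G), x.2⟩ : K)) fun _ _ => rfl)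
      (fun a b h => Subtype.ext (Subtype.ext (congrArg (fun y : K => (y : G)) h)))
  have hcop' : (Nat.card K').Coprime (Nat.card H') := by
    rw [hcardH]; exact hcop.coprime_dvd_left hK'dvd
  have hfix : ∀ (k : G), k ∈ K → k ∈ N → ∀ h ∈ H, h * k * h⁻¹ = k := by
    intro k hk hkN h hh
    have hmem : k * h⁻¹ * k⁻¹ * h ∈ K ⊓ H := by
      refine ⟨?_, ?_⟩
      · have h1 : h⁻¹ * k⁻¹ * h ∈ K := by
          have := (inferInstance : K.Normal).conj_mem _ (K.inv_mem hk) h⁻¹
          rwa [inv_inv] at this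
        have := mul_mem hk h1
        simpa [mul_assoc] using this
      · exact mul_mem ((Subgroup.mem_normalizer_iff.1 hkN h⁻¹).1 (inv_mem hh)) hh
    rw [(Subgroup.disjoint_of_coprime_natCard hcop).eq_bot, Subgroup.mem_bot] at hmem
    have := eq_inv_of_mul_eq_one_left (show k * h⁻¹ * k⁻¹ * h = 1 from hmem)
    calc h * k * h⁻¹ = h * (k * h⁻¹ * k⁻¹) * k := by group
      _ = h * h⁻¹ * k := by rw [this]
      _ = k := by group
  have hsolv' : Group.IsSolvable H' :=
    Group.isSolvable_of_surjective (f := (Subgroup.subgroupOfEquivOfLe hHN).symm.toMonoidHom)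
      (Subgroup.subgroupOfEquivOfLe hHN).symm.surjective
  have e1 := coprime_degree_count K H hKH hcop
  have e2 := coprime_degree_count K' H' hKH' hcop'
  rw [hcardH] at e2
  rw [e1, e2]
  have hhom : Nat.card (H →* ℂˣ) = Nat.card (H' →* ℂˣ) :=
    Nat.card_congr ((Subgroup.subgroupOfEquivOfLe hHN).symm.monoidHomCongrLeftEquiv)
  rw [hhom]
  congr 1
  rw [GlaubermanCount.card_inv_eq hsolv _ hcop, card_invClass_top _ le_rfl hsolv _ hcop]
  rw [GlaubermanCount.card_inv_eq hsolv' _ hcop',
    card_invClass_top _ le_rfl hsolv' _ hcop']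
  refine card_conjClasses_congr
    { toFun := fun x => ⟨⟨⟨((x : K) : G), ?_⟩, (x : K).2⟩, ?_⟩
      invFun := fun y => ⟨⟨(((y : K') : N) : G), (y : K').2⟩, ?_⟩
      left_inv := fun x => rfl
      right_inv := fun y => rfl
      map_mul' := fun x y => rfl }
  · refine Subgroup.centralizer_le_normalizer _ (Subgroup.mem_centralizer_iff.2 fun h hh => ?_)
    have h1 := congrArg (fun z : K => (z : G)) (x.2 ⟨h, hh⟩ (Subgroup.mem_top _))
    rw [conjHom_apply] at h1
    exact (mul_inv_eq_iff_eq_mul.1 h1)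
  · intro t _
    refine Subtype.ext (Subtype.ext ?_)
    rw [conjHom_apply]
    simp only [Subgroup.coe_mul, Subgroup.coe_inv]
    exact congrArg (fun z : K => (z : G)) (x.2 ⟨_, t.2⟩ (Subgroup.mem_top _)) |> fun h1 => by
      rw [conjHom_apply] at h1; exact h1
  · intro h _
    refine Subtype.ext ?_
    rw [conjHom_apply]
    exact hfix _ (y : K').2 ((y : K') : N).2 h h.2

end Cfsg.Agent.S4452
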