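import Cfsg.Statements.S4453
import Cfsg.Agent.Lib.FRInvReduce
-- import your own Cfsg.Agent.* helpers here

set_option autoImplicit false
open Cfsg

namespace Cfsg.Agent.S4453

/-- Inside a finite group Γ let S normalise the solvable subgroup G of odd order with the orders of G and S coprime, let C = G ⊓ C(S), and let L ≤ K be S-invariant normal subgroups of G with K/L abelian, G = KC and H = LC (so C ≤ H ≤ G). Then for each S-invariant irreducible character χ of G there is exactly one S-invariant irreducible character ψ of H whose multiplicity in the restriction of χ to H is odd, and χ ↦ ψ is a bijection from the S-invariant irreducible characters of G onto those of H (distinct χ give distinct ψ, and every S-invariant ψ arises). -/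
theorem result {Γ : Type*} [Group Γ] [Fintype Γ] (G S : Subgroup Γ) [Fintype G] (hnorm : ∀ s ∈ S, ∀ g ∈ G, s * g * s⁻¹ ∈ G) (hcop : (Nat.card G).Coprime (Nat.card S)) (hGsolv : Group.IsSolvable G) (hodd : Odd (Nat.card G)) (C : Subgroup Γ) [Fintype C] (hC : C = G ⊓ Subgroup.centralizer (S : Set Γ)) (hCG : C ≤ G) (K L H : Subgroup Γ) [Fintype H] (hLK : L ≤ K) (hKG : K ≤ G) (hKn : ∀ g ∈ G, ∀ k ∈ K, g * k * g⁻¹ ∈ K) (hLn : ∀ g ∈ G, ∀ l ∈ L, g * l * g⁻¹ ∈ L) (hKS : ∀ s ∈ S, ∀ k ∈ K, s * k * s⁻¹ ∈ K) (hLS : ∀ s ∈ S, ∀ l ∈ L, s * l * s⁻¹ ∈ L) (hab : ∀ a ∈ K, ∀ b ∈ K, a * b * a⁻¹ * b⁻¹ ∈ L) (hGKC : K ⊔ C = G) (hH : H = L ⊔ C) (hHG : H ≤ G) : (∀ χ : Cfsg.IrrCharacter G, (∀ s ∈ S, ∀ g g' : G, (g' : Γ) = s * g * s⁻¹ → (χ : G → ℂ) g' = (χ : G → ℂ) g) → ∃! ψ : Cfsg.IrrCharacter H, (∀ s ∈ S, ∀ g g' : H, (g' : Γ) = s * g * s⁻¹ → (ψ : H → ℂ) g' = (ψ : H → ℂ) g) ∧ ∃ m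 : ℕ, Cfsg.classInner (fun h : H => (χ : G → ℂ) ⟨h, hHG h.2⟩) (ψ : H → ℂ) = (m : ℂ) ∧ Odd m) ∧ (∀ χ χ' : Cfsg.IrrCharacter G, (∀ s ∈ S, ∀ g g' : G, (g' : Γ) = s * g * s⁻¹ → (χ : G → ℂ) g' = (χ : G → ℂ) g) → (∀ s ∈ S, ∀ g g' : G, (g' : Γ) = s * g * s⁻¹ → (χ' : G → ℂ) g' = (χ' : G → ℂ) g) → ∀ ψ : Cfsg.IrrCharacter H, (∀ s ∈ S, ∀ g g' : H, (g' : Γ) = s * g * s⁻¹ → (ψ : H → ℂ) g' = (ψ : H → ℂ) g) → ∀ m m' : ℕ, Cfsg.classInner (fun h : H => (χ : G → ℂ) ⟨h, hHG h.2⟩) (ψ : H → ℂ) = (m : ℂ) → Odd m → Cfsg.classInner (fun h : H => (χ' : G → ℂ) ⟨h, hHG h.2⟩) (ψ : H → ℂ) = (m' : ℂ) → Odd m' → χ = χ') ∧ (∀ ψ : Cfsg.IrrCharacter H, (∀ s ∈ S, ∀ g g' : H, (g' : Γ) = s * g * s⁻¹ → (ψ : H → ℂ) g' = (ψ : H → ℂ) g) → ∃ χ : Cfsg.IrrCharacter G, (∀ s ∈ S, ∀ g g' : G, (g' : Γ) = s * g * s⁻¹ → (χ : G → ℂ) g' = (χ : G → ℂ) g) ∧ ∃ m : ℕ, Cfsg.classInner (fun h : H => (χ : G → ℂ)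 ⟨h, hHG h.2⟩) (ψ : H → ℂ) = (m : ℂ) ∧ Odd m) := by
  classical
  haveI : Fintype S := Fintype.ofFinite _
  let σ : S →* MulAut G :=
    { toFun := fun s =>
        { toFun := fun g => ⟨(s : Γ) * g * (s : Γ)⁻¹, hnorm s s.2 g g.2⟩
          invFun := fun g => ⟨(s : Γ)⁻¹ * g * (s : Γ), by
            simpa using hnorm (s : Γ)⁻¹ (S.inv_mem s.2) g g.2⟩
          left_inv := fun g => Subtype.ext (by simp [mul_assoc])
          right_inv := fun g => Subtype.ext (by simp [mul_assoc])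
          map_mul' := fun g g' => Subtype.ext (by simp [mul_assoc]) }
      map_one' := MulEquiv.ext fun g => Subtype.ext (by simp)
      map_mul' := fun s s' => MulEquiv.ext fun g => Subtype.ext (by simp [mul_assoc]) }
  have hσ : ∀ (s : S) (g : G), ((σ s g : G) : Γ) = (s : Γ) * g * (s : Γ)⁻¹ := fun s g => rfl
  haveI : (K.subgroupOf G).Normal := ⟨fun k hk g => hKn g g.2 _ hk⟩
  haveI : (L.subgroupOf G).Normal := ⟨fun k hk g => hLn g g.2 _ hk⟩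
  have hLG : L ≤ G := hLK.trans hKG
  obtain ⟨K₀, sc⟩ := FRInvReduce.exists_sec σ (K.subgroupOf G) (L.subgroupOf G) (C.subgroupOf G)
    (fun s k hk => hKS s s.2 _ hk) (fun s l hl => hLS s s.2 _ hl) (fun x hx => hLK hx)
    (fun a ha b hb => hab a ha b hb)
    (by rw [← Subgroup.subgroupOf_sup hKG hCG, hGKC, Subgroup.subgroupOf_self])
    (fun x => by
      rw [Subgroup.mem_subgroupOf, hC, Subgroup.mem_inf, Subgroup.mem_centralizer_iff]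
      refine ⟨fun h s => Subtype.ext ?_, fun h => ⟨x.2, fun s hs => ?_⟩⟩
      · rw [hσ, h.2 s s.2, mul_inv_cancel_right]
      · exact mul_inv_eq_iff_eq_mul.1 (congrArg Subtype.val (h ⟨s, hs⟩)))
    hodd hcop hGsolv
  rw [← Subgroup.subgroupOf_sup hLG hCG, ← hH] at sc
  haveI := Fintype.ofFinite (H.subgroupOf G)
  obtain ⟨ex, inj, surj⟩ := sc.main
  let e : H.subgroupOf G ≃* H := Subgroup.subgroupOfEquivOfLe hHG
  let push : IrrCharacter H → IrrCharacter (H.subgroupOf G) := fun ψ =>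
    ⟨(ψ : H → ℂ) ∘ e.toMonoidHom, CharBasic.isIrrCharacter_comap _ e.surjective ψ.2⟩
  have hpush : Function.Bijective push := by
    refine ⟨fun a b h => Subtype.ext (funext fun x => ?_), fun η =>
      ⟨⟨(η : H.subgroupOf G → ℂ) ∘ e.symm.toMonoidHom,
        CharBasic.isIrrCharacter_comap _ e.symm.surjective η.2⟩,
        Subtype.ext (funext fun x => congrArg (η : H.subgroupOf G → ℂ) (e.symm_apply_apply x))⟩⟩
    obtain ⟨y, rfl⟩ := e.surjective x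
    exact congrFun (congrArg Subtype.val h) y
  have hinvG : ∀ χ : IrrCharacter G, (∀ s ∈ S, ∀ g g' : G, (g' : Γ) = s * g * s⁻¹ →
      (χ : G → ℂ) g' = (χ : G → ℂ) g) ↔ GlaubermanP.Inv σ (χ : G → ℂ) := fun χ =>
    ⟨fun h s g => h s s.2 g (σ s g) rfl, fun h s hs g g' e => by
      rw [show g' = σ ⟨s, hs⟩ g from Subtype.ext e]
      exact h _ g⟩
  have hinvH : ∀ ψ : IrrCharacter H, (∀ s ∈ S, ∀ g g' : H, (g' : Γ) = s * g * s⁻¹ →
      (ψ : H → ℂ) g' = (ψ : H → ℂ) g) ↔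
      GlaubermanP.Inv (GlaubermanAbove.resSub σ (H.subgroupOf G) sc.invH)
        (push ψ : H.subgroupOf G → ℂ) := fun ψ =>
    ⟨fun h s x => h s s.2 (e x) _ rfl, fun h s hs g g' e' => by
      obtain ⟨x, rfl⟩ := e.surjective g
      rw [show g' = e (GlaubermanAbove.resSub σ (H.subgroupOf G) sc.invH ⟨s, hs⟩ x) from
        Subtype.ext e']
      exact h _ x⟩
  have hrel : ∀ (χ : IrrCharacter G) (ψ : IrrCharacter H),
      FRInvReduce.Rel (H.subgroupOf G) (χ : G → ℂ) (push ψ : H.subgroupOf G → ℂ) ↔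
        ∃ m : ℕ, Cfsg.classInner (fun h : H => (χ : G → ℂ) ⟨h, hHG h.2⟩) (ψ : H → ℂ) = (m : ℂ) ∧
          Odd m := fun χ ψ => by
    have h1 : Cfsg.classInner (fun x : H.subgroupOf G => (χ : G → ℂ) x)
        (push ψ : H.subgroupOf G → ℂ) =
        Cfsg.classInner (fun h : H => (χ : G → ℂ) ⟨h, hHG h.2⟩) (ψ : H → ℂ) :=
      CharBasicOrth.classInner_congr_equiv (G := H) e
        (fun h : H => (χ : G → ℂ) ⟨h, hHG h.2⟩) (ψ : H → ℂ)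
    rw [← h1]
    rfl
  refine ⟨fun χ hχ => ?_, fun χ χ' hχ hχ' ψ hψ m m' hm ho hm' ho' => ?_, fun ψ hψ => ?_⟩
  · obtain ⟨η, ⟨hi, hr⟩, hu⟩ := ex χ ((hinvG χ).1 hχ)
    obtain ⟨ψ, rfl⟩ := hpush.2 η
    exact ⟨ψ, ⟨(hinvH ψ).2 hi, (hrel χ ψ).1 hr⟩, fun ψ' h' =>
      hpush.1 (hu (push ψ') ⟨(hinvH ψ').1 h'.1, (hrel χ ψ').2 h'.2⟩)⟩
  · exact inj χ χ' ((hinvG χ).1 hχ) ((hinvG χ').1 hχ') (push ψ) ((hinvH ψ).1 hψ)
      ((hrel χ ψ).2 ⟨m, hm, ho⟩) ((hrel χ' ψ).2 ⟨m', hm', ho'⟩)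
  · obtain ⟨χ, hχ, hr⟩ := surj (push ψ) ((hinvH ψ).1 hψ)
    exact ⟨χ, (hinvG χ).2 hχ, (hrel χ ψ).1 hr⟩

end Cfsg.Agent.S4453
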