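import Cfsg.Statements.S4454
import Cfsg.Agent.Lib.FrobeniusRamified

set_option autoImplicit false
open Cfsg
open scoped ComplexConjugate

namespace Cfsg.Agent.S4454

/-- Let N ≤ G be normal subgroups of the finite group Γ with Γ/G cyclic and Γ/N a Frobenius group with kernel G/N: G ≠ Γ, N ≠ G, and no element of Γ outside G fixes a non-identity coset of N in G under conjugation. Let ϑ be an irreducible character of N invariant under conjugation by Γ and suppose ϑ is fully ramified in G: the character of G induced from ϑ equals e·χ for an irreducible character χ of G and a natural number e. Then the index of G in Γ divides e − 1 or e + 1. -/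
theorem result {Γ : Type*} [Group Γ] [Fintype Γ] (G N : Subgroup Γ) [hG : G.Normal] [hN : N.Normal] [Fintype G] [Fintype N] (hNG : N ≤ G) (hGlt : G ≠ ⊤) (hNlt : N ≠ G) (hcyc : IsCyclic (Γ ⧸ G)) (hfrob : ∀ x : Γ, x ∉ G → ∀ g : Γ, g ∈ G → x * g * x⁻¹ * g⁻¹ ∈ N → g ∈ N) (θ : Cfsg.IrrCharacter N) (hinv : ∀ (x : Γ) (n : N), (θ : N → ℂ) ⟨x * n * x⁻¹, hN.conj_mem n n.2 x⟩ = (θ : N → ℂ) n) (χ : Cfsg.IrrCharacter G) (e : ℕ) (hram : Cfsg.indFun (N.subgroupOf G) (fun n : N.subgroupOf G => (θ : N → ℂ) ⟨(n : G), n.2⟩) = fun g => (e : ℂ) * (χ : G → ℂ) g) : (G.index : ℤ) ∣ (e : ℤ) - 1 ∨ (G.index : ℤ) ∣ (e : ℤ) + 1 := by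
  classical
  haveI : (N.subgroupOf G).Normal := hN.subgroupOf G
  haveI := Fintype.ofFinite (N.subgroupOf G)
  obtain ⟨d, hd0, hd⟩ := CharBasic.isIrrCharacter_apply_one θ.2
  obtain ⟨dχ, hdχ0, hdχ⟩ := CharBasic.isIrrCharacter_apply_one χ.2
  -- the ramification data
  let e' := Subgroup.subgroupOfEquivOfLe hNG
  let θ' : N.subgroupOf G → ℂ := fun m => (θ : N → ℂ) ⟨(m : G), m.2⟩
  have hθ' : Cfsg.IsIrrCharacter (N.subgroupOf G) θ' :=
    CharBasic.isIrrCharacter_comap e'.toMonoidHom e'.surjective θ.2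
  have hχN : Cfsg.classInner (fun m : N.subgroupOf G => (χ : G → ℂ) m) θ' = (e : ℂ) := by
    have h1 := CharInduced.inner_ind_left (N.subgroupOf G) θ' (CharInduced.isClassFunction_irr χ.2)
    rw [show Cfsg.indFun (N.subgroupOf G) θ' = (e : ℂ) • (χ : G → ℂ) from hram,
      CharBasicOrth.classInner_smul_left, CharBasicOrth.classInner_irr_self χ.2, mul_one] at h1
    rw [← CharInduced.inner_conj_symm, ← h1, Complex.conj_natCast]
  have hθ'inv : ∀ (g : G) (m : N.subgroupOf G),
      θ' ⟨g * m * g⁻¹, Subgroup.Normal.conj_mem inferInstance (m : G) m.2 g⟩ = θ' m := fun g m =>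
    hinv (g : Γ) ⟨(m : G), m.2⟩
  have he0 : 0 < e := Nat.pos_of_ne_zero fun h0 => by
    have h1 := congrFun hram 1
    rw [CharInduced.ind_one_apply, h0, Nat.cast_zero, zero_mul] at h1
    rcases mul_eq_zero.1 h1 with h2 | h2
    · exact Subgroup.index_ne_zero_of_finite (Nat.cast_eq_zero.1 h2)
    · exact CharBasic.isIrrCharacter_apply_one_ne_zero hθ' h2
  have hres : ∀ m : N.subgroupOf G, (χ : G → ℂ) m = (e : ℂ) * θ' m := by
    have h2 := CharInduced.clifford (N.subgroupOf G) χ.2 hθ'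
      (by rw [hχN]; exact Nat.cast_ne_zero.2 he0.ne')
    have horb : CharInduced.orbitFin (N.subgroupOf G) θ' = {θ'} := by
      refine Finset.eq_singleton_iff_unique_mem.2 ⟨CharInduced.self_mem_orbitFin _ _, fun f hf => ?_⟩
      obtain ⟨g, rfl⟩ := (CharInduced.mem_orbitFin _).1 hf
      exact funext fun m => hθ'inv g m
    rw [horb, Finset.sum_singleton, hχN] at h2
    exact fun m => congrFun h2 m
  -- `χ` is invariant
  have hχinv : ∀ (x : Γ) (g : G),
      (χ : G → ℂ) ⟨x * g * x⁻¹, hG.conj_mem g g.2 x⟩ = (χ : G → ℂ) g := by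
    intro x g
    have hψ := CharInduced.isIrrCharacter_conjFun G χ.2 x
    have hpsiN : Cfsg.classInner (fun m : N.subgroupOf G => CharInduced.conjFun G (χ : G → ℂ) x m) θ'
        = (e : ℂ) := by
      rw [show (fun m : N.subgroupOf G => CharInduced.conjFun G (χ : G → ℂ) x m) = (e : ℂ) • θ' from
        funext fun m => ?_, CharBasicOrth.classInner_smul_left,
        CharBasicOrth.classInner_irr_self hθ', mul_one]
      have hm : (⟨x * (m : G) * x⁻¹, hG.conj_mem _ (m : G).2 x⟩ : G) ∈ N.subgroupOf G :=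
        hN.conj_mem _ m.2 x
      show (χ : G → ℂ) ⟨x * (m : G) * x⁻¹, _⟩ = (e : ℂ) * θ' m
      rw [hres ⟨_, hm⟩]
      congr 1
      exact hinv x ⟨(m : G), m.2⟩
    have h1 := CharInduced.inner_ind_left (N.subgroupOf G) θ' (CharInduced.isClassFunction_irr hψ)
    rw [show Cfsg.indFun (N.subgroupOf G) θ' = (e : ℂ) • (χ : G → ℂ) from hram,
      CharBasicOrth.classInner_smul_left, ← CharInduced.inner_conj_symm (fun h : N.subgroupOf G =>
        CharInduced.conjFun G (χ : G → ℂ) x h), hpsiN, Complex.conj_natCast] at h1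
    by_contra hne
    rw [CharBasicOrth.classInner_irr_ne χ.2 hψ (fun e2 => hne (congrFun e2 g).symm), mul_zero] at h1
    exact he0.ne' (Nat.cast_eq_zero.1 h1.symm)
  obtain ⟨χh, hχh, hext⟩ := FrobeniusRamified.exists_ext_irr G hcyc χ.2 hχinv
  -- the subgroup over a generator
  obtain ⟨q, hq⟩ := hcyc.exists_generator
  obtain ⟨y, rfl⟩ := QuotientGroup.mk'_surjective G q
  set n := G.index with hn
  have hn2 : 2 ≤ n := by
    have h1 : n ≠ 1 := fun h => hGlt (Subgroup.index_eq_one.1 h)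
    have h2 : n ≠ 0 := Subgroup.index_ne_zero_of_finite
    omega
  have hord : orderOf (QuotientGroup.mk' G y) = n := by
    rw [hn, Subgroup.index_eq_card, ← Nat.card_zpowers,
      show Subgroup.zpowers (QuotientGroup.mk' G y) = ⊤ from eq_top_iff.2 fun z _ => hq z,
      Subgroup.card_top]
  have hyG : y ∉ G := fun h => by
    rw [show QuotientGroup.mk' G y = 1 from (QuotientGroup.eq_one_iff y).2 h, orderOf_one] at hord
    omega
  have hyn : y ^ n ∈ N := hfrob y hyG _ (Subgroup.pow_index_mem G y) (by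
    rw [show y * y ^ n * y⁻¹ * (y ^ n)⁻¹ = 1 by rw [← pow_succ', pow_succ]; group]
    exact N.one_mem)
  let U : Subgroup Γ := N ⊔ Subgroup.zpowers y
  have hUG : ∀ u ∈ U, u ∈ G → u ∈ N := by
    intro u hu huG
    obtain ⟨m, hm, t, ht, rfl⟩ := Subgroup.mem_sup_of_normal_left.1 hu
    obtain ⟨i, rfl⟩ := mem_powers_iff_mem_zpowers.2 ht
    have h1 : y ^ i ∈ G := (G.mul_mem_cancel_left (hNG hm)).1 huG
    rw [← QuotientGroup.eq_one_iff, QuotientGroup.mk_pow, ← orderOf_dvd_iff_pow_eq_one,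
      show orderOf ((y : Γ ⧸ G)) = n from hord] at h1
    obtain ⟨c, rfl⟩ := h1
    show m * y ^ (n * c) ∈ N
    rw [pow_mul]
    exact N.mul_mem hm (N.pow_mem hyn c)
  haveI : (N.subgroupOf U).Normal := hN.subgroupOf U
  haveI := Fintype.ofFinite U
  haveI := Fintype.ofFinite (N.subgroupOf U)
  let π : U →* Γ ⧸ G := (QuotientGroup.mk' G).comp U.subtype
  have hπ : Function.Surjective π := fun z => by
    obtain ⟨i, hi⟩ := Subgroup.mem_zpowers_iff.1 (hq z)
    exact ⟨⟨y ^ i, Subgroup.mem_sup_right (Subgroup.zpow_mem_zpowers y i)⟩, hi⟩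
  have hker : π.ker = N.subgroupOf U := Subgroup.ext fun u =>
    ⟨fun h => hUG u u.2 ((QuotientGroup.eq_one_iff _).1 h),
      fun h => (QuotientGroup.eq_one_iff _).2 (hNG h)⟩
  let eQ : U ⧸ N.subgroupOf U ≃* Γ ⧸ G :=
    (QuotientGroup.quotientMulEquivOfEq hker.symm).trans
      (QuotientGroup.quotientKerEquivOfSurjective π hπ)
  have hQcyc : IsCyclic (U ⧸ N.subgroupOf U) := eQ.isCyclic.2 hcyc
  have hQcard : Nat.card (U ⧸ N.subgroupOf U) = n := by
    rw [Nat.card_congr eQ.toEquiv, hn, Subgroup.index_eq_card]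
  let e'' := Subgroup.subgroupOfEquivOfLe (le_sup_left : N ≤ U)
  let θU : N.subgroupOf U → ℂ := fun m => (θ : N → ℂ) ⟨(m : U), m.2⟩
  have hθU : Cfsg.IsIrrCharacter (N.subgroupOf U) θU :=
    CharBasic.isIrrCharacter_comap e''.toMonoidHom e''.surjective θ.2
  obtain ⟨θh, hθh, hθext⟩ := FrobeniusRamified.exists_ext_irr (N.subgroupOf U) hQcyc hθU
    (fun g m => hinv (g : Γ) ⟨(m : U), m.2⟩)
  let χU : U → ℂ := fun u => χh u
  have hχUc : Cfsg.IsCharacter U χU :=
    CharBasic.isCharacter_comap U.subtype (CharBasic.isCharacter_of_isIrrCharacter hχh)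
  have hχUN : ∀ m : N.subgroupOf U, χU (m : U) = (e : ℂ) * θU m := fun m => by
    have := hres ⟨⟨((m : U) : Γ), hNG m.2⟩, m.2⟩
    rw [← hext] at this
    exact this
  -- constituents on `U`
  have hcon : ∀ φ : Cfsg.IrrCharacter U, Cfsg.classInner χU (φ : U → ℂ) ≠ 0 →
      ∃ ψ : Cfsg.IrrCharacter (U ⧸ N.subgroupOf U), ∀ u : U,
        (φ : U → ℂ) u = (ψ : U ⧸ N.subgroupOf U → ℂ) (u : U ⧸ N.subgroupOf U) * θh u := by
    intro φ hφ
    have hover : Cfsg.classInner (fun m : N.subgroupOf U => (φ : U → ℂ) m) θU ≠ 0 := by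
      obtain ⟨θ₁, hθ₁⟩ : ∃ θ₁ : Cfsg.IrrCharacter (N.subgroupOf U),
          Cfsg.classInner (fun m : N.subgroupOf U => (φ : U → ℂ) m) (θ₁ : N.subgroupOf U → ℂ) ≠ 0 := by
        by_contra hc
        push_neg at hc
        have h0 : (fun m : N.subgroupOf U => (φ : U → ℂ) m) = 0 := by
          rw [CharBasicOrth.eq_sum_classInner (CharInduced.isClassFunction_res (N.subgroupOf U)
            (CharInduced.isClassFunction_irr φ.2))]
          exact Finset.sum_eq_zero fun t _ => by rw [hc t, zero_smul]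
        exact CharBasic.isIrrCharacter_apply_one_ne_zero φ.2 (congrFun h0 1)
      have h1 : Cfsg.classInner (fun m : N.subgroupOf U => χU m) (θ₁ : N.subgroupOf U → ℂ) ≠ 0 := by
        obtain ⟨m, hm, hsum⟩ := CharBasicDecomp.exists_mult hχUc
        choose k hk using fun t : Cfsg.IrrCharacter U => CharBasicOrth.classInner_isCharacter
          (CharBasic.isCharacter_comap (N.subgroupOf U).subtype
            (CharBasic.isCharacter_of_isIrrCharacter t.2))
          (CharBasic.isCharacter_of_isIrrCharacter θ₁.2)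
        rw [show (fun x : N.subgroupOf U => χU x) =
          ∑ t : Cfsg.IrrCharacter U, (m t : ℂ) • ((t : U → ℂ) ∘ (N.subgroupOf U).subtype) from
          funext fun x => by
            have h := congrFun hsum (x : U)
            simpa [Finset.sum_apply] using h, CharBasicOrth.classInner_sum_left]
        simp only [CharBasicOrth.classInner_smul_left, hk, ← Nat.cast_mul, ← Nat.cast_sum,
          Nat.cast_ne_zero]
        intro h0
        rcases mul_eq_zero.1 (Finset.sum_eq_zero_iff.1 h0 φ (Finset.mem_univ _)) with h | h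
        · exact hφ (by rw [hm φ, h, Nat.cast_zero])
        · exact hθ₁ ((hk φ).trans (by rw [h, Nat.cast_zero]))
      rw [show (fun m : N.subgroupOf U => χU m) = (e : ℂ) • θU from funext hχUN,
        CharBasicOrth.classInner_smul_left] at h1
      have : θU = (θ₁ : N.subgroupOf U → ℂ) := by
        by_contra hne
        rw [CharBasicOrth.classInner_irr_ne hθU θ₁.2 hne, mul_zero] at h1
        exact h1 rfl
      rwa [this]
    obtain ⟨b, ⟨hb, hb1⟩, hbe⟩ :=
      (CharGallagher.bijOn_one (N.subgroupOf U) hθU hθh hθext).surjOn ⟨φ.2, hover⟩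
    obtain ⟨ψ, hψ⟩ := CharKernel.exists_quot_irr (N.subgroupOf U) ⟨b, hb⟩
      (fun m hm => hb1 ⟨m, hm⟩)
    refine ⟨ψ, fun u => ?_⟩
    rw [← hψ u]
    exact (congrFun hbe u).symm
  obtain ⟨c, hc, hcsum⟩ := CharBasicDecomp.exists_mult hχUc
  let F : Cfsg.IrrCharacter U → (U ⧸ N.subgroupOf U → ℂ) := fun φ =>
    if h : Cfsg.classInner χU (φ : U → ℂ) ≠ 0 then ((hcon φ h).choose : U ⧸ N.subgroupOf U → ℂ)
    else 0
  let f : U ⧸ N.subgroupOf U → ℂ := ∑ φ, (c φ : ℂ) • F φ
  have hfc : Cfsg.IsCharacter (U ⧸ N.subgroupOf U) f := by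
    refine CharBasicDecomp.isCharacter_sum _ _ fun φ _ => CharBasicDecomp.isCharacter_nsmul ?_ _
    simp only [F]
    split_ifs with h
    · exact CharBasic.isCharacter_of_isIrrCharacter (hcon φ h).choose.2
    · exact CharBasicDecomp.isCharacter_zero
  have hfval : ∀ u : U, χU u = f (u : U ⧸ N.subgroupOf U) * θh u := fun u => by
    rw [congrFun hcsum u]
    simp only [f, Finset.sum_apply, Pi.smul_apply, smul_eq_mul, Finset.sum_mul]
    refine Finset.sum_congr rfl fun φ _ => ?_
    by_cases h : Cfsg.classInner χU (φ : U → ℂ) ≠ 0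
    · rw [show F φ = ((hcon φ h).choose : U ⧸ N.subgroupOf U → ℂ) from dif_pos h, mul_assoc,
        ← (hcon φ h).choose_spec u]
    · rw [hc φ, not_not] at h
      rw [h, zero_mul, zero_mul, zero_mul]
  have hf1 : f 1 = e := by
    have h1 := hfval 1
    have h2 := hχUN 1
    have h3 := hθext 1
    simp only [Subgroup.coe_one, QuotientGroup.mk_one] at h1 h2 h3
    rw [h2, h3] at h1
    exact (mul_right_cancel₀ (CharBasic.isIrrCharacter_apply_one_ne_zero hθU) h1).symm
  have hfabs : ∀ q : U ⧸ N.subgroupOf U, q ≠ 1 → f q * conj (f q) = 1 := by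
    intro q hq1
    obtain ⟨u, rfl⟩ := QuotientGroup.mk_surjective q
    have huG : (u : Γ) ∉ G := fun h => hq1 ((QuotientGroup.eq_one_iff u).2 (hUG u u.2 h))
    have h1 := FrobeniusRamified.coset_norm G hcyc χ.2 hχh hext (u : Γ)
    have h2 := FrobeniusRamified.coset_norm (N.subgroupOf U) hQcyc hθU hθh hθext u
    have h3 := FrobeniusRamified.sum_coset_eq N G hNG (y := (u : Γ))
      (fun g hg h => hfrob u huG g hg h) (F := fun z => χh z * conj (χh z))
      (fun a b => by simp only [CharInduced.isClassFunction_irr hχh a b])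
    rw [h1] at h3
    have h4 : ∑ m : N, χh ((m : Γ) * u) * conj (χh ((m : Γ) * u)) =
        f (u : U ⧸ N.subgroupOf U) * conj (f (u : U ⧸ N.subgroupOf U)) * (Nat.card N : ℂ) := by
      rw [← Nat.card_congr e''.toEquiv, ← h2, Finset.mul_sum]
      refine (Fintype.sum_equiv e''.toEquiv _ _ fun m => ?_).symm
      have hq' : (((m : U) * u : U) : U ⧸ N.subgroupOf U) = (u : U ⧸ N.subgroupOf U) := by
        rw [QuotientGroup.mk_mul, (QuotientGroup.eq_one_iff (m : U)).2 m.2, one_mul]
      show _ = χh (((m : U) : Γ) * u) * conj (χh (((m : U) : Γ) * u))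
      rw [show χh (((m : U) : Γ) * u) = χU ((m : U) * u) from rfl, hfval, hq', map_mul]
      ring
    rw [h4] at h3
    have hN0 : (Nat.card N : ℂ) ≠ 0 := Nat.cast_ne_zero.2 Nat.card_pos.ne'
    have hG0 : (Nat.card G : ℂ) ≠ 0 := Nat.cast_ne_zero.2 Nat.card_pos.ne'
    refine (mul_left_cancel₀ (mul_ne_zero hG0 hN0) ?_)
    linear_combination (-1 : ℂ) * h3
  rw [← hQcard]
  exact UnitValues.dvd_degree_sub_sign hQcyc hfc hfabs hf1

end Cfsg.Agent.S4454
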