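import Cfsg.Statements.S4455
import Mathlib
import Cfsg.Agent.S0867
import Cfsg.Agent.Lib.CharKernel
import Cfsg.Agent.Lib.CharProjDegree
import Cfsg.Agent.Lib.TransferPResidual

set_option autoImplicit false
open Cfsg

namespace Cfsg.Agent.S4455
open Cfsg.Agent.CharBasic Cfsg.Agent.CharBasicOrth Cfsg.Agent.CharBasicDecomp
  Cfsg.Agent.CharInduced

universe u

variable {G : Type u} [Group G] [Fintype G]

theorem detChar_res {χ : G → ℂ} (hχ : IsCharacter G χ) (N : Subgroup G) (n : N) :
    Cfsg.detChar (fun x : N => χ x) n = Cfsg.detChar χ n := by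
  obtain ⟨d, σ, rfl⟩ := hχ
  rw [← CharExtension.toRep_toHomUnits σ]
  change Cfsg.detChar (CharExtension.chr ((MonoidHom.toHomUnits σ).comp N.subtype)) n =
    Cfsg.detChar (CharExtension.chr (MonoidHom.toHomUnits σ)) n
  rw [CharExtension.detChar_chr, CharExtension.detChar_chr]
  rfl

theorem detOrder_res_dvd {χ : G → ℂ} (hχ : IsCharacter G χ) (N : Subgroup G) :
    Cfsg.detOrder (fun x : N => χ x) ∣ Cfsg.detOrder χ := by
  refine orderOf_dvd_of_pow_eq_one ?_
  funext n
  rw [Pi.pow_apply, detChar_res hχ N n]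
  exact congrFun (pow_orderOf_eq_one (Cfsg.detChar χ)) (n : G)

/-- `o(θ)` of a character of `O^p(G)` is prime to `p`. -/
theorem not_dvd_detOrder {p : ℕ} [hp : Fact p.Prime] (N : Subgroup G)
    (hN : N = Cfsg.pResidual p G) {θ : N → ℂ} (hθ : IsCharacter N θ) :
    ¬ p ∣ Cfsg.detOrder θ := by
  subst hN
  obtain ⟨d, σ, rfl⟩ := hθ
  let η : Cfsg.pResidual p G →* CharExtension.GU' d := MonoidHom.toHomUnits σ
  let l : Cfsg.pResidual p G →* ℂˣ := (CharExtension.detU d).comp η
  have hl : Cfsg.detOrder σ.character = orderOf l := by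
    rw [← CharExtension.orderOf_coe l]
    show orderOf (Cfsg.detChar σ.character) = _
    congr 1
    funext g
    exact CharExtension.detChar_chr η g
  rw [hl]
  intro hdvd
  have hfin : 0 < orderOf l := by
    rcases Nat.eq_zero_or_pos (orderOf l) with h | h
    · exfalso
      have hpow : (fun g => (l g : ℂ)) ^ Nat.card (Cfsg.pResidual p G) = 1 := funext fun g => by
        rw [Pi.pow_apply, ← Units.val_pow_eq_pow_val, ← map_pow, pow_card_eq_one', map_one]
        rfl
      have := orderOf_dvd_of_pow_eq_one hpow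
      rw [CharExtension.orderOf_coe, h] at this
      exact Nat.card_pos.ne' (Nat.eq_zero_of_zero_dvd this)
    · exact h
  obtain ⟨r, hr⟩ := hdvd
  have hr0 : r ≠ 0 := fun h => hfin.ne' (by rw [hr, h, mul_zero])
  set m := l ^ r
  have hm : ∀ g, m g ^ p = 1 := fun g => by
    show (l g ^ r) ^ p = 1
    rw [← pow_mul, mul_comm, ← hr, ← MonoidHom.pow_apply, pow_orderOf_eq_one]
    rfl
  have hker : m.ker = ⊤ := by
    refine top_le_iff.1 (le_trans (le_of_eq (TransferPResidual.pResidual_pResidual (p := p)).symm) ?_)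
    rw [TransferPResidual.pResidual_le_iff_coprime]
    intro g hg
    rw [MonoidHom.mem_ker, ← orderOf_eq_one_iff]
    exact Nat.eq_one_of_dvd_coprimes hg (orderOf_map_dvd m g) (orderOf_dvd_of_pow_eq_one (hm g))
  have hm1 : m = 1 := MonoidHom.ker_eq_top_iff.1 hker
  have h1 := orderOf_dvd_of_pow_eq_one (show (fun g => (l g : ℂ)) ^ r = 1 from funext fun g => by
    rw [Pi.pow_apply, ← Units.val_pow_eq_pow_val]
    exact congrArg Units.val (DFunLike.congr_fun hm1 g))
  rw [CharExtension.orderOf_coe, hr] at h1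
  have := Nat.le_of_dvd (Nat.pos_of_ne_zero hr0) h1
  have := hp.out.two_le
  nlinarith [Nat.pos_of_ne_zero hr0]

open scoped Classical in
/-- The non-invariant characters contribute a multiple of `p`. -/
theorem dvd_sum_noninvariant {p : ℕ} (hp : p.Prime) (N : Subgroup G) [N.Normal] [Fintype N]
    {k : ℕ} (hk : N.index = p ^ k) :
    p ∣ ∑ θ ∈ (Finset.univ : Finset (IrrCharacter N)).filter
      (fun θ : IrrCharacter N => inertia N (θ : N → ℂ) ≠ ⊤), Cfsg.charDegree (θ : N → ℂ) ^ 2 := by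
  classical
  rw [← Finset.sum_fiberwise_of_maps_to (g := fun θ : IrrCharacter N => orbitFin N (θ : N → ℂ))
    (fun θ hθ => Finset.mem_image_of_mem (fun θ : IrrCharacter N => orbitFin N (θ : N → ℂ)) hθ)]
  refine Finset.dvd_sum fun O hO => ?_
  obtain ⟨θ, hθ, rfl⟩ := Finset.mem_image.1 hO
  rw [Finset.mem_filter] at hθ
  have horb : ∀ g : G, orbitFin N (conjFun N (θ : N → ℂ) g) = orbitFin N (θ : N → ℂ) := by
    intro g
    ext φ
    rw [mem_orbitFin, mem_orbitFin]
    constructor
    · rintro ⟨x, rfl⟩; exact ⟨g * x, (conjFun_conjFun N _ g x).symm⟩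
    · rintro ⟨x, rfl⟩
      exact ⟨g⁻¹ * x, by rw [conjFun_conjFun, mul_inv_cancel_left]⟩
  rw [Finset.sum_congr rfl (g := fun _ => Cfsg.charDegree (θ : N → ℂ) ^ 2), Finset.sum_const,
    smul_eq_mul]
  · refine Dvd.dvd.mul_right ?_ _
    have hcard : ((Finset.univ.filter fun η : IrrCharacter N => inertia N (η : N → ℂ) ≠ ⊤).filter
        fun η : IrrCharacter N => orbitFin N (η : N → ℂ) = orbitFin N (θ : N → ℂ)).card =
        (orbitFin N (θ : N → ℂ)).card := by
      refine Finset.card_bij (fun η _ => (η : N → ℂ)) (fun η hη => ?_)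
        (fun a _ b _ h => Subtype.ext h) fun φ hφ => ?_
      · rw [Finset.mem_filter] at hη
        rw [← hη.2]
        exact self_mem_orbitFin N _
      · obtain ⟨g, rfl⟩ := (mem_orbitFin N).1 hφ
        refine ⟨⟨_, isIrrCharacter_conjFun N θ.2 g⟩, ?_, rfl⟩
        simp only [Finset.mem_filter, Finset.mem_univ, true_and]
        refine ⟨fun htop => hθ.2 ?_, horb g⟩
        refine (Subgroup.eq_top_iff' _).2 fun x => (mem_inertia N).2 ?_
        have h1 : conjFun N (conjFun N (θ : N → ℂ) g) (g⁻¹ * x * g) =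
            conjFun N (θ : N → ℂ) g := (mem_inertia N).1 (by rw [htop]; exact Subgroup.mem_top _)
        have h2 := congrArg (fun f => conjFun N f g⁻¹) h1
        simp only [conjFun_conjFun, mul_inv_cancel, conjFun_one] at h2
        rw [show g * (g⁻¹ * x * g) * g⁻¹ = x by group] at h2
        exact h2
    rw [hcard]
    have e := card_inertia_mul_card_orbit N (θ : N → ℂ)
    rw [← (inertia N (θ : N → ℂ)).card_mul_index] at e
    rw [Nat.eq_of_mul_eq_mul_left Nat.card_pos e]
    have hd : (inertia N (θ : N → ℂ)).index ∣ p ^ k :=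
      hk ▸ Subgroup.index_dvd_of_le (le_inertia N (isClassFunction_irr θ.2))
    obtain ⟨j, -, hj⟩ := (Nat.dvd_prime_pow hp).1 hd
    rcases j with _ | j
    · exact absurd (Subgroup.index_eq_one.1 (by rw [hj, pow_zero])) hθ.2
    · rw [hj]; exact dvd_pow_self p j.succ_ne_zero
  · intro η hη
    rw [Finset.mem_filter] at hη
    obtain ⟨g, hg⟩ := (mem_orbitFin N).1 (hη.2 ▸ self_mem_orbitFin N (η : N → ℂ))
    rw [← hg]
    have h1 : conjFun N (θ : N → ℂ) g 1 = (θ : N → ℂ) 1 := congrArg (θ : N → ℂ) (Subtype.ext (by simp))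
    simp only [Cfsg.charDegree, h1]

/-- Fix a prime p and a finite group G. Let s be the sum of χ(1)² over the irreducible characters χ of G whose degree is not divisible by p and whose determinantal order o(χ) is not divisible by p. Then the order of O^p(G), the subgroup generated by the elements of order prime to p, is congruent to s modulo p. -/
theorem result {G : Type*} [Group G] [Finite G] (p : ℕ) (hp : p.Prime) : (Nat.card (Cfsg.pResidual p G) : ℤ) ≡ (∑ᶠ χ ∈ {χ : Cfsg.IrrCharacter G | ¬ p ∣ Cfsg.charDegree (χ : G → ℂ) ∧ ¬ p ∣ Cfsg.detOrder (χ : G → ℂ)}, (Cfsg.charDegree (χ : G → ℂ) : ℤ) ^ 2) [ZMOD p] := by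
  classical
  have : Fact p.Prime := ⟨hp⟩
  have : Fintype G := Fintype.ofFinite G
  set N := Cfsg.pResidual p G with hN
  have hNn : N.Normal := by
    rw [hN]; infer_instance
  have : Fintype N := Fintype.ofFinite N
  obtain ⟨k, hk⟩ := TransferPResidual.index_pResidual (G := G) (p := p)
  rw [← hN] at hk
  have hcopp : ∀ m : ℕ, ¬ p ∣ m → Nat.Coprime N.index m := fun m hm => by
    rw [hk]; exact Nat.Coprime.pow_left _ (hp.coprime_iff_not_dvd.2 hm)
  set S := {χ : Cfsg.IrrCharacter G | ¬ p ∣ Cfsg.charDegree (χ : G → ℂ) ∧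
    ¬ p ∣ Cfsg.detOrder (χ : G → ℂ)} with hS
  rw [finsum_mem_eq_toFinset_sum]
  set T := (Finset.univ : Finset (IrrCharacter N)).filter
    (fun θ : IrrCharacter N => CharInduced.inertia N (θ : N → ℂ) = ⊤ ∧ ¬ p ∣ Cfsg.charDegree (θ : N → ℂ)) with hT
  have hres : ∀ χ ∈ S.toFinset, Cfsg.IsIrrCharacter N (fun n : N => (χ : G → ℂ) n) ∧
      CharInduced.inertia N (fun n : N => (χ : G → ℂ) n) = ⊤ := by
    intro χ hχ
    rw [Set.mem_toFinset, hS] at hχ
    refine ⟨?_, ?_⟩
    swap
    · refine (Subgroup.eq_top_iff' _).2 fun g => (CharInduced.mem_inertia N).2 ?_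
      exact CharInduced.conjFun_res N (CharInduced.isClassFunction_irr χ.2) g
    have hc := CharInduced.isCharacter_res N (isCharacter_of_isIrrCharacter χ.2)
    obtain ⟨m, hm, hsum⟩ := exists_mult hc
    obtain ⟨θ, -, hθ⟩ := Finset.exists_ne_zero_of_sum_ne_zero
      (f := fun ψ : IrrCharacter N => (m ψ : ℂ) * (ψ : N → ℂ) 1) (s := Finset.univ) (by
        have := congrFun hsum 1
        simp only [Finset.sum_apply, Pi.smul_apply, smul_eq_mul, OneMemClass.coe_one] at this
        rw [← this]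
        exact isIrrCharacter_apply_one_ne_zero χ.2)
    have hne : classInner (fun n : N => (χ : G → ℂ) n) (θ : N → ℂ) ≠ 0 := by
      rw [hm]; exact left_ne_zero_of_mul hθ
    obtain ⟨c, d, hd, hcd, hdvd⟩ := CharProjDegree.degree_dvd N χ.2 θ.2 hne
    have hc1 : c = 1 := by
      have hpc : ¬ p ∣ c := fun h => hχ.1 (by
        have : Cfsg.charDegree (χ : G → ℂ) = d * c := by
          rw [Cfsg.charDegree, hcd, Complex.natCast_re, Nat.floor_natCast]
        rw [this]; exact h.mul_left d)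
      exact Nat.eq_one_of_dvd_coprimes (hcopp c hpc) hdvd dvd_rfl
    have heq := CharCliffordCorr.eq_of_constituent hc θ.2 hne
      (by simp [OneMemClass.coe_one, hcd, hd, hc1])
    rw [heq]
    exact θ.2
  have hbij : ∑ χ ∈ S.toFinset, (Cfsg.charDegree (χ : G → ℂ) : ℤ) ^ 2 =
      ∑ θ ∈ T, (Cfsg.charDegree (θ : N → ℂ) : ℤ) ^ 2 := by
    refine Finset.sum_bij (fun χ hχ => (⟨_, (hres χ hχ).1⟩ : IrrCharacter N)) ?_ ?_ ?_ ?_
    · intro χ hχ
      rw [hT, Finset.mem_filter]
      refine ⟨Finset.mem_univ _, (hres χ hχ).2, ?_⟩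
      rw [Set.mem_toFinset, hS] at hχ
      simpa [Cfsg.charDegree] using hχ.1
    · intro χ hχ χ' hχ' he
      have he' : ∀ n : N, (χ : G → ℂ) n = (χ' : G → ℂ) n := fun n =>
        congrFun (congrArg Subtype.val he) n
      have h1 := hres χ hχ
      rw [Set.mem_toFinset, hS] at hχ hχ'
      obtain ⟨χ₀, -, huniq⟩ := S0867.result N (fun n : N => (χ : G → ℂ) n) h1.1
        (fun g => (CharInduced.mem_inertia_iff N).1 (by rw [h1.2]; exact Subgroup.mem_top g))
        (Cfsg.charDegree (χ : G → ℂ)) (by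
          simpa using CharAverage.apply_one_eq_charDegree (isCharacter_of_isIrrCharacter χ.2))
        (hcopp _ (hp.not_dvd_mul (fun h => hχ.2 (h.trans
          (detOrder_res_dvd (isCharacter_of_isIrrCharacter χ.2) N))) hχ.1))
      exact Subtype.ext ((huniq _ χ.2 (fun n => rfl) (hcopp _ hχ.2)).trans
        (huniq _ χ'.2 (fun n => (he' n).symm) (hcopp _ hχ'.2)).symm)
    · intro θ hθ
      rw [hT, Finset.mem_filter] at hθ
      obtain ⟨χ, ⟨hχ, hχN, hdet⟩, -⟩ := S0867.result N (θ : N → ℂ) θ.2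
        (fun g => (CharInduced.mem_inertia_iff N).1 (by rw [hθ.2.1]; exact Subgroup.mem_top g))
        (Cfsg.charDegree (θ : N → ℂ))
        (CharAverage.apply_one_eq_charDegree (isCharacter_of_isIrrCharacter θ.2))
        (hcopp _ (hp.not_dvd_mul (not_dvd_detOrder N hN (isCharacter_of_isIrrCharacter θ.2)) hθ.2.2))
      have hmem : (⟨χ, hχ⟩ : Cfsg.IrrCharacter G) ∈ S.toFinset := by
        rw [Set.mem_toFinset, hS]
        refine ⟨?_, ?_⟩
        · have h := hχN 1
          simp only [OneMemClass.coe_one] at h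
          simpa [Cfsg.charDegree, h] using hθ.2.2
        · show ¬ p ∣ Cfsg.detOrder χ
          rw [hdet]
          exact not_dvd_detOrder N hN (isCharacter_of_isIrrCharacter θ.2)
      exact ⟨⟨χ, hχ⟩, hmem, Subtype.ext (funext hχN)⟩
    · intro χ _
      simp [Cfsg.charDegree]
  rw [hbij, ← CharKernel.sum_sq_charDegree (G := N), Nat.cast_sum]
  simp only [Nat.cast_pow]
  rw [Int.modEq_iff_dvd, ← dvd_neg, neg_sub]
  rw [← Finset.sum_filter_add_sum_filter_not (Finset.univ : Finset (IrrCharacter N))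
    (fun θ : IrrCharacter N => CharInduced.inertia N (θ : N → ℂ) = ⊤ ∧ ¬ p ∣ Cfsg.charDegree (θ : N → ℂ)),
    ← hT, add_sub_cancel_left,
    ← Finset.sum_filter_add_sum_filter_not _ (fun θ : IrrCharacter N => CharInduced.inertia N (θ : N → ℂ) ≠ ⊤)]
  refine dvd_add ?_ (Finset.dvd_sum fun θ hθ => ?_)
  · rw [Finset.filter_filter]
    have heq : (Finset.univ : Finset (IrrCharacter N)).filter (fun θ : IrrCharacter N =>
        ¬(CharInduced.inertia N (θ : N → ℂ) = ⊤ ∧ ¬ p ∣ Cfsg.charDegree (θ : N → ℂ)) ∧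
          CharInduced.inertia N (θ : N → ℂ) ≠ ⊤) =
        (Finset.univ : Finset (IrrCharacter N)).filter (fun θ : IrrCharacter N => CharInduced.inertia N (θ : N → ℂ) ≠ ⊤) :=
      Finset.filter_congr fun θ _ => ⟨fun h => h.2, fun h => ⟨fun hh => h hh.1, h⟩⟩
    rw [heq]
    have := Int.natCast_dvd_natCast.2 (dvd_sum_noninvariant hp N hk)
    simpa using this
  · simp only [Finset.mem_filter, Finset.mem_univ, true_and, not_and, not_not, ne_eq] at hθ
    exact dvd_pow (Int.natCast_dvd_natCast.2 (hθ.1 hθ.2)) two_ne_zero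

end Cfsg.Agent.S4455
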