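import Cfsg.Statements.S4457
import Mathlib
import Cfsg.Agent.Lib.TwoDegrees72

set_option autoImplicit false
open Cfsg

namespace Cfsg.Agent.S4457

open scoped commutatorElement

/-- Let G be a finite group whose irreducible character degrees are exactly 1 and m (m ≠ 1). Then either G has an abelian normal subgroup of index m, or m is a power of a prime p and G is the direct product of a p-group and an abelian group: there are normal subgroups P and A with P a p-group, A abelian, P ⊓ A = 1 and P ⊔ A = G. -/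
theorem result {G : Type*} [Group G] [Finite G] (m : ℕ) (hcd : ∀ χ : Cfsg.IrrCharacter G, Cfsg.charDegree (χ : G → ℂ) = 1 ∨ Cfsg.charDegree (χ : G → ℂ) = m) (hm : ∃ χ : Cfsg.IrrCharacter G, Cfsg.charDegree (χ : G → ℂ) = m) (hm1 : m ≠ 1) : (∃ A : Subgroup G, A.Normal ∧ (∀ a ∈ A, ∀ b ∈ A, a * b = b * a) ∧ A.index = m) ∨ ∃ p e : ℕ, p.Prime ∧ m = p ^ e ∧ ∃ P A : Subgroup G, P.Normal ∧ A.Normal ∧ IsPGroup p P ∧ (∀ a ∈ A, ∀ b ∈ A, a * b = b * a) ∧ P ⊓ A = ⊥ ∧ P ⊔ A = ⊤ := by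
  open TwoDegrees72 in
  have hdeg : Deg G m := deg_of_charDegree hcd
  rcases TwoDegrees72.dichotomy hdeg (TwoDegrees72.not_comm_of_charDegree hm hm1) with
    ⟨I, hidx, hI, hab⟩ | ⟨p, e, S, hp, he, hP, hnc⟩
  · refine Or.inl ⟨I, ⟨fun n hn g => ?_⟩, hab, hidx⟩
    have : g * n * g⁻¹ = ⁅g, n⁆ * n := by rw [commutatorElement_def]; group
    rw [this]
    exact I.mul_mem (hI (Subgroup.commutator_mem_commutator (Subgroup.mem_top _) (Subgroup.mem_top _))) hn
  refine Or.inr ⟨p, e, hp, he, S.H, S.A, ⟨fun n hn g => ?_⟩, S.normal, hP, S.comm, ?_, ?_⟩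
  · have h1 : Commute (n : G) (g * (S.proj g : G)⁻¹) := hnc n hn _ (S.proj_spec g)
    have h2 : g * n * g⁻¹ = (g * (S.proj g : G)⁻¹) * ((S.proj g : G) * n * (S.proj g : G)⁻¹) *
        (g * (S.proj g : G)⁻¹)⁻¹ := by group
    have h3 : (S.proj g : G) * n * (S.proj g : G)⁻¹ ∈ S.H :=
      S.H.mul_mem (S.H.mul_mem (S.proj g).2 hn) (S.H.inv_mem (S.proj g).2)
    rw [h2, ← hnc _ h3 _ (S.proj_spec g), mul_inv_cancel_right]
    exact h3
  · rw [inf_comm]; exact S.compl.disjoint.eq_bot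
  · rw [sup_comm]; exact S.compl.sup_eq_top

end Cfsg.Agent.S4457
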