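import Cfsg.Statements.S4459
import Mathlib
import Cfsg.Agent.Lib.TwoDegreesPrime72
import Cfsg.Agent.Lib.DegreeDvd
import Cfsg.Agent.Lib.CharAverage

set_option autoImplicit false
open Cfsg

namespace Cfsg.Agent.S4459

/-- Let G be a non-abelian finite group and p a prime. Then the irreducible character degrees of G are exactly 1 and p if and only if either G has an abelian normal subgroup of index p or the centre of G has index p³. -/
theorem result {G : Type*} [Group G] [Finite G] (hG : ∃ a b : G, a * b ≠ b * a) (p : ℕ) (hp : p.Prime) : ((∀ χ : Cfsg.IrrCharacter G, Cfsg.charDegree (χ : G → ℂ) = 1 ∨ Cfsg.charDegree (χ : G → ℂ) = p) ∧ ∃ χ : Cfsg.IrrCharacter G, Cfsg.charDegree (χ : G → ℂ) = p) ↔ ((∃ A : Subgroup G, A.Normal ∧ (∀ a ∈ A, ∀ b ∈ A, a * b = b * a) ∧ A.index = p) ∨ (Subgroup.center G).index = p ^ 3) := by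
  classical
  have := Fintype.ofFinite G
  have hna : ¬ ∀ a b : G, a * b = b * a := fun h => hG.elim fun a ⟨b, hab⟩ => hab (h a b)
  constructor
  · rintro ⟨hcd, -⟩
    have hdeg := TwoDegrees72.deg_of_charDegree hcd
    by_cases hno : ∀ B : Subgroup G, commutator G ≤ B → (∀ a ∈ B, ∀ b ∈ B, a * b = b * a) → B.index ≠ p
    · exact Or.inr (TwoDegreesPrime72.index_center_eq hp hdeg hna hno)
    · push Not at hno
      obtain ⟨B, hB, hab, hidx⟩ := hno
      refine Or.inl ⟨B, ⟨fun b hb g => ?_⟩, hab, hidx⟩
      have h1 : g * b * g⁻¹ * b⁻¹ ∈ B := hB (by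
        rw [← commutatorElement_def]
        exact Subgroup.commutator_mem_commutator (Subgroup.mem_top g) (Subgroup.mem_top b))
      have := B.mul_mem h1 hb
      rwa [inv_mul_cancel_right] at this
  · intro h
    have key : ∀ χ : Cfsg.IrrCharacter G, charDegree (χ : G → ℂ) = 1 ∨ charDegree (χ : G → ℂ) = p := by
      intro χ
      have hd := CharAverage.irr_apply_one χ
      rcases h with ⟨A, hA, hab, hidx⟩ | hidx
      · haveI := hA
        obtain ⟨n, -, hn, hdvd⟩ := DegreeDvd.degree_dvd_index_abelian χ.2 A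
          (fun a b => Subtype.ext (hab a a.2 b b.2))
        rw [hn] at hd
        rw [← show n = charDegree (χ : G → ℂ) by exact_mod_cast hd]
        exact (Nat.dvd_prime hp).1 (hidx ▸ hdvd)
      · obtain ⟨n, -, hn, hdvd⟩ := DegreeDvd.degree_dvd_index_abelian χ.2 (Subgroup.center G)
          (fun a b => Subtype.ext (Subgroup.mem_center_iff.1 b.2 a))
        have hsq := TwoDegreesPrime72.sq_le_index_center χ.2 hn
        rw [hn] at hd
        rw [← show n = charDegree (χ : G → ℂ) by exact_mod_cast hd]
        rw [hidx] at hdvd hsq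
        obtain ⟨i, -, rfl⟩ := (Nat.dvd_prime_pow hp).1 hdvd
        rw [← pow_mul] at hsq
        have := (Nat.pow_le_pow_iff_right hp.one_lt).1 hsq
        rcases (show i = 0 ∨ i = 1 by omega) with rfl | rfl
        · exact Or.inl (pow_zero p)
        · exact Or.inr (pow_one p)
    refine ⟨key, ?_⟩
    by_contra hex
    push Not at hex
    refine hna (CharBasicLinear.comm_of_forall_apply_one fun χ => ?_)
    rw [CharAverage.irr_apply_one χ, (key χ).resolve_right (hex χ), Nat.cast_one]

end Cfsg.Agent.S4459
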