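import Cfsg.Statements.S4460
import Cfsg.Agent.Lib.H74ThreeDeg

set_option autoImplicit false
open Cfsg

namespace Cfsg.Agent.S4460



/-- A finite group with exactly three distinct irreducible character degrees is solvable of derived length at most 3: its third derived subgroup is trivial. -/
theorem result {G : Type*} [Group G] [Finite G] (hcd : Nat.card {n : ℕ // ∃ χ : Cfsg.IrrCharacter G, Cfsg.charDegree (χ : G → ℂ) = n} = 3) : derivedSeries G 3 = ⊥ := by
  classical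
  let S : Set ℕ := {n : ℕ | ∃ χ : Cfsg.IrrCharacter G, Cfsg.charDegree (χ : G → ℂ) = n}
  have hS : S.ncard = 3 := by rw [← Nat.card_coe_set_eq]; exact hcd
  obtain ⟨x, y, z, -, -, -, hxyz⟩ := Set.ncard_eq_three.1 hS
  have h1 : (1 : ℕ) ∈ S := ⟨⟨_, Cfsg.Agent.CharBasicDecomp.isIrrCharacter_one (G := G)⟩,
    Cfsg.Agent.S4466.charDegree_eq (by simp)⟩
  obtain ⟨a, b, hab⟩ : ∃ a b, ∀ m ∈ S, m = 1 ∨ m = a ∨ m = b := by
    rw [hxyz] at h1 ⊢
    simp only [Set.mem_insert_iff, Set.mem_singleton_iff] at h1 ⊢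
    rcases h1 with rfl | rfl | rfl
    · exact ⟨y, z, fun m h => h⟩
    · exact ⟨x, z, fun m h => by tauto⟩
    · exact ⟨x, y, fun m h => by tauto⟩
  refine Cfsg.Agent.H74ThreeDeg.derivedSeries_three_eq_bot _ G rfl a b fun χ hχ => ?_
  obtain ⟨n, -, hn⟩ := Cfsg.Agent.CharBasic.isIrrCharacter_apply_one hχ
  rcases hab n ⟨⟨χ, hχ⟩, Cfsg.Agent.S4466.charDegree_eq hn⟩ with rfl | rfl | rfl
  · exact Or.inl (by rw [hn, Nat.cast_one])
  · exact Or.inr (Or.inl hn)
  · exact Or.inr (Or.inr hn)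

end Cfsg.Agent.S4460
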