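import Cfsg.Statements.S4461
import Cfsg.Agent.Lib.CharKernel
import Cfsg.Agent.Lib.CharInducedClifford
import Cfsg.Agent.Lib.CharInducedRep
import Cfsg.Agent.Lib.FittingHallBasic
import Cfsg.Agent.Lib.HallSolvable
import Cfsg.Agent.Lib.PGroupsBasic

set_option autoImplicit false
open Cfsg

namespace Cfsg.Agent.S4461

open scoped commutatorElement
open Subgroup Cfsg.Agent.CharBasic Cfsg.Agent.CharBasicOrth Cfsg.Agent.CharBasicDecomp
open Cfsg.Agent.CharKernel Cfsg.Agent.CharAverage Cfsg.Agent.CharInduced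

universe u

variable {G : Type u} [Group G] [Finite G]

/-- An irreducible constituent of no smaller degree is everything. -/
theorem eq_of_constituent [Fintype G] {a φ : G → ℂ} (ha : Cfsg.IsCharacter G a)
    (hφ : Cfsg.IsIrrCharacter G φ) (h : Cfsg.classInner a φ ≠ 0)
    (hdeg : Cfsg.charDegree a ≤ Cfsg.charDegree φ) : a = φ := by
  classical
  obtain ⟨m, hm, hsum⟩ := exists_mult ha
  have h1 : ∑ ψ : Cfsg.IrrCharacter G, m ψ * Cfsg.charDegree (ψ : G → ℂ) = Cfsg.charDegree a := by
    apply Nat.cast_injective (R := ℂ)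
    rw [← apply_one_eq_charDegree ha, congrFun hsum 1]
    simp [Finset.sum_apply, irr_apply_one]
  set φ' : Cfsg.IrrCharacter G := ⟨φ, hφ⟩
  have hmφ : 1 ≤ m φ' := Nat.one_le_iff_ne_zero.mpr fun h0 => h (by
    have := hm φ'; simpa [h0] using this)
  rw [← Finset.add_sum_erase _ _ (Finset.mem_univ φ')] at h1
  have hp := irr_degree_pos φ'
  have hle : Cfsg.charDegree (φ' : G → ℂ) ≤ m φ' * Cfsg.charDegree (φ' : G → ℂ) :=
    Nat.le_mul_of_pos_left _ hmφ
  have hrest : ∑ ψ ∈ Finset.univ.erase φ', m ψ * Cfsg.charDegree (ψ : G → ℂ) = 0 := by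
    change Cfsg.charDegree a ≤ Cfsg.charDegree (φ' : G → ℂ) at hdeg
    omega
  have hm0 : ∀ ψ ≠ φ', m ψ = 0 := fun ψ hψ => by
    have := (Finset.sum_eq_zero_iff.mp hrest) ψ (Finset.mem_erase.mpr ⟨hψ, Finset.mem_univ _⟩)
    exact (mul_eq_zero.mp this).resolve_right (irr_degree_pos ψ).ne'
  have hm1 : m φ' = 1 := by
    change Cfsg.charDegree a ≤ Cfsg.charDegree (φ' : G → ℂ) at hdeg
    refine le_antisymm ?_ hmφ
    by_contra hcon
    have : 2 * Cfsg.charDegree (φ' : G → ℂ) ≤ m φ' * Cfsg.charDegree (φ' : G → ℂ) :=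
      Nat.mul_le_mul_right _ (by omega)
    omega
  rw [hsum, Finset.sum_eq_single φ' (fun ψ _ hψ => by rw [hm0 ψ hψ, Nat.cast_zero, zero_smul])
    (fun h => absurd (Finset.mem_univ _) h), hm1, Nat.cast_one, one_smul]

theorem isIrr_res (χ : Cfsg.IrrCharacter G) (K M : Subgroup G) [K.Normal]
    (hK : ∀ g : G, g ∈ K ↔ (χ : G → ℂ) g = (χ : G → ℂ) 1) (hsup : K ⊔ M = ⊤) :
    Cfsg.IsIrrCharacter M (fun x : M => (χ : G → ℂ) x) := by
  obtain ⟨ψ, hψ⟩ := exists_quot_irr K χ fun n hn => (hK n).mp hn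
  have hsurj : Function.Surjective ((QuotientGroup.mk' K).comp M.subtype) := by
    intro y
    obtain ⟨g, rfl⟩ := QuotientGroup.mk'_surjective K y
    have hg : g ∈ ((K ⊔ M : Subgroup G) : Set G) := hsup ▸ mem_top g
    rw [Subgroup.normal_mul] at hg
    obtain ⟨k, hk, m, hm, rfl⟩ := hg
    refine ⟨⟨m, hm⟩, ?_⟩
    show QuotientGroup.mk' K m = QuotientGroup.mk' K (k * m)
    rw [map_mul, show QuotientGroup.mk' K k = 1 from (QuotientGroup.eq_one_iff k).mpr hk, one_mul]
  have := isIrrCharacter_comap _ hsurj ψ.2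
  convert this using 1
  funext x
  exact hψ x

/-- Elements acting trivially in a character act trivially in every constituent. -/
theorem mem_ker_of_constituent [Fintype G] {a : G → ℂ} {m : Cfsg.IrrCharacter G → ℕ}
    (hsum : a = ∑ ψ : Cfsg.IrrCharacter G, (m ψ : ℂ) • (ψ : G → ℂ)) {g : G} (hg : a g = a 1)
    {θ : Cfsg.IrrCharacter G} (hθ : m θ ≠ 0) : (θ : G → ℂ) g = (θ : G → ℂ) 1 := by
  classical
  have h := congrArg Complex.re hg
  rw [congrFun hsum g, congrFun hsum 1] at h
  simp only [Finset.sum_apply, Pi.smul_apply, smul_eq_mul, Complex.re_sum] at h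
  have hle : ∀ ψ : Cfsg.IrrCharacter G, ((ψ : G → ℂ) g).re ≤ (Cfsg.charDegree (ψ : G → ℂ) : ℝ) :=
    fun ψ => (Complex.re_le_norm _).trans (irr_norm_le ψ g)
  have h2 := (Finset.sum_eq_sum_iff_of_le (fun ψ _ => ?_)).mp h θ (Finset.mem_univ θ)
  · have hre : ((θ : G → ℂ) g).re = (Cfsg.charDegree (θ : G → ℂ) : ℝ) := by
      rw [irr_apply_one θ] at h2
      simp only [Complex.natCast_re, Complex.mul_re, Complex.natCast_im, zero_mul, sub_zero] at h2
      exact mul_left_cancel₀ (Nat.cast_ne_zero.mpr hθ) h2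
    have hnorm := irr_norm_le θ g
    rw [irr_apply_one θ]
    refine Complex.ext (by rw [hre, Complex.natCast_re]) ?_
    rw [Complex.natCast_im]
    have h3 : ‖(θ : G → ℂ) g‖ = ((θ : G → ℂ) g).re :=
      le_antisymm (hre ▸ hnorm) (Complex.re_le_norm _)
    exact (Complex.nonneg_iff.mp (Complex.re_eq_norm.mp h3.symm)).2.symm
  · rw [irr_apply_one ψ]
    simp only [Complex.mul_re, Complex.natCast_re, Complex.natCast_im, zero_mul, sub_zero]
    exact mul_le_mul_of_nonneg_left (hle ψ) (Nat.cast_nonneg _)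

/-- An element all of whose values vanish outside `M`. -/
theorem forall_conj_mem_of_ind_eq [Fintype G] (M : Subgroup G) [Fintype M] (χ : Cfsg.IrrCharacter G)
    {b : G} (hb : (χ : G → ℂ) b ≠ 0)
    (h : Cfsg.indFun M (fun y : M => (χ : G → ℂ) y) b = (M.index : ℂ) * (χ : G → ℂ) b) :
    ∀ x : G, x⁻¹ * b * x ∈ M := by
  classical
  have h2 : ∀ x : G, Cfsg.extendByZero M (fun y : M => (χ : G → ℂ) y) (x⁻¹ * b * x) =
      if x⁻¹ * b * x ∈ M then (χ : G → ℂ) b else 0 := by
    intro x
    split_ifs with hx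
    · rw [ext_zero_of_mem _ hx]
      exact classFunction_conj' (isClassFunction_irr χ.2) b x
    · exact ext_zero_of_not_mem _ hx
  rw [indFun_apply, Finset.sum_congr rfl fun x _ => h2 x, Finset.sum_ite,
    Finset.sum_const_zero, add_zero, Finset.sum_const, nsmul_eq_mul, ← mul_assoc] at h
  have h1 := mul_right_cancel₀ hb h
  have h3 : ((Finset.univ.filter fun x : G => x⁻¹ * b * x ∈ M).card : ℂ) = (Nat.card G : ℂ) := by
    rw [← M.card_mul_index, Nat.cast_mul, ← h1, mul_inv_cancel_left₀ (card_subgroup_ne_zero M)]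
  have h4 : (Finset.univ.filter fun x : G => x⁻¹ * b * x ∈ M) = Finset.univ :=
    Finset.eq_univ_of_card _ (by rw [← Nat.card_eq_fintype_card]; exact_mod_cast h3)
  exact fun x => (Finset.mem_filter.mp ((Finset.ext_iff.mp h4 x).mpr (Finset.mem_univ _))).2

/-- Either a suitable character exists or all constituents of the induced character restrict to the
given one. -/
theorem dichotomy [Fintype G] (χ : Cfsg.IrrCharacter G) (K M : Subgroup G) [K.Normal] [Fintype M]
    (hK : ∀ g : G, g ∈ K ↔ (χ : G → ℂ) g = (χ : G → ℂ) 1) (hM : IsCoatom M) (hKM : ¬ K ≤ M) :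
    (∃ ψ : Cfsg.IrrCharacter G, Cfsg.charDegree (χ : G → ℂ) < Cfsg.charDegree (ψ : G → ℂ) ∧
      ∃ L : Subgroup G, (∀ g : G, g ∈ L ↔ (ψ : G → ℂ) g = (ψ : G → ℂ) 1) ∧ L < K) ∨
    ((M ⊓ K).Normal ∧ ∀ x : M, Cfsg.indFun M (fun y : M => (χ : G → ℂ) y) x =
      (M.index : ℂ) * (χ : G → ℂ) x) := by
  classical
  set φ : M → ℂ := fun y : M => (χ : G → ℂ) y with hφdef
  have hsup : K ⊔ M = ⊤ := hM.2 _ (lt_of_le_of_ne le_sup_right fun e => hKM (le_sup_left.trans e.ge))
  have hφ : Cfsg.IsIrrCharacter M φ := isIrr_res χ K M hK hsup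
  have hdegφ : Cfsg.charDegree φ = Cfsg.charDegree (χ : G → ℂ) := rfl
  obtain ⟨m, hm, hsum⟩ := exists_mult (isCharacter_ind M (isCharacter_of_isIrrCharacter hφ))
  have hcon : ∀ ψ : Cfsg.IrrCharacter G, m ψ ≠ 0 →
      Cfsg.classInner (fun y : M => (ψ : G → ℂ) y) φ ≠ 0 := by
    intro ψ hψ
    rw [classInner_comm_of_isCharacter (isCharacter_res M (irr_isCharacter ψ))
      (isCharacter_of_isIrrCharacter hφ), ← inner_ind_left M φ (isClassFunction_irr ψ.2), hm ψ]
    exact_mod_cast hψ
  by_cases hall : ∀ ψ : Cfsg.IrrCharacter G, m ψ ≠ 0 →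
      Cfsg.charDegree (ψ : G → ℂ) ≤ Cfsg.charDegree (χ : G → ℂ)
  · have hres : ∀ ψ : Cfsg.IrrCharacter G, m ψ ≠ 0 → ∀ y : M, (ψ : G → ℂ) y = (χ : G → ℂ) y :=
      fun ψ hψ y => congrFun (eq_of_constituent (isCharacter_res M (irr_isCharacter ψ)) hφ
        (hcon ψ hψ) (hall ψ hψ)) y
    have hval : ∀ x : M, Cfsg.indFun M φ x = (∑ ψ : Cfsg.IrrCharacter G, (m ψ : ℂ)) * (χ : G → ℂ) x := by
      intro x
      rw [congrFun hsum, Finset.sum_apply, Finset.sum_mul]
      refine Finset.sum_congr rfl fun ψ _ => ?_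
      by_cases hψ : m ψ = 0
      · simp [hψ]
      · simp [hres ψ hψ x]
    have hm0 : (∑ ψ : Cfsg.IrrCharacter G, (m ψ : ℂ)) = (M.index : ℂ) := by
      have := hval 1
      rw [OneMemClass.coe_one, ind_one_apply] at this
      exact (mul_right_cancel₀ (irr_one_ne_zero χ) this).symm
    have hind : ∀ x : M, Cfsg.indFun M φ x = (M.index : ℂ) * (χ : G → ℂ) x := fun x => by
      rw [hval x, hm0]
    refine Or.inr ⟨⟨fun a ha g => ⟨?_, (inferInstance : K.Normal).conj_mem a ha.2 g⟩⟩, hind⟩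
    have := forall_conj_mem_of_ind_eq M χ (b := a)
      (by rw [(hK a).mp ha.2]; exact irr_one_ne_zero χ) (hind ⟨a, ha.1⟩) g⁻¹
    rwa [inv_inv] at this
  · push Not at hall
    obtain ⟨ψ, hψ, hlt⟩ := hall
    refine Or.inl ⟨ψ, hlt, irrKer ψ, fun g => mem_irrKer, ?_⟩
    set L := irrKer ψ
    have : L.Normal := irrKer_normal ψ
    have hLM : L ≤ M := by
      by_contra hL
      have hsupL : L ⊔ M = ⊤ := hM.2 _ (lt_of_le_of_ne le_sup_right fun e => hL (le_sup_left.trans e.ge))
      have hi := isIrr_res ψ L M (fun g => mem_irrKer) hsupL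
      have he : (fun y : M => (ψ : G → ℂ) y) = φ := by
        by_contra hne
        exact hcon ψ hψ (classInner_irr_ne hi hφ hne)
      have : Cfsg.charDegree (ψ : G → ℂ) = Cfsg.charDegree (χ : G → ℂ) := by
        have := congrFun he 1
        simp only [Cfsg.charDegree]
        rw [show (ψ : G → ℂ) 1 = (χ : G → ℂ) 1 by simpa [hφdef] using this]
      omega
    have hLK : L ≤ K := by
      intro l hl
      by_contra hlK
      -- restrict to `L` inside `M`
      have hres : ∀ y : M, (y : G) ∈ L → φ y = φ 1 := by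
        intro y hy
        obtain ⟨mm, hmm, hs⟩ := exists_mult (isCharacter_res M (irr_isCharacter ψ))
        exact mem_ker_of_constituent hs (θ := ⟨φ, hφ⟩) (mem_irrKer.mp hy)
          fun h0 => hcon ψ hψ (by rw [hmm ⟨φ, hφ⟩, h0, Nat.cast_zero])
      exact hlK ((hK l).mpr (hres ⟨l, hLM hl⟩ hl))
    exact lt_of_le_of_ne hLK fun e => hKM (e ▸ hLM)

theorem normal_sylow_of_nilpotent {X : Subgroup G} [X.Normal] (hq : Group.IsNilpotent (X.map (QuotientGroup.mk' (frattini G)))) :
    Group.IsNilpotent X := by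
  classical
  refine ((Group.isNilpotent_of_finite_tfae (G := X)).out 0 3 rfl rfl).mpr fun p hp P => ?_
  let q := QuotientGroup.mk' (frattini G)
  let r : X →* X.map q := q.subgroupMap X
  have hr : Function.Surjective r := q.subgroupMap_surjective X
  let Q : Sylow p (X.map q) := P.mapSurjective hr
  have hQn : (Q : Subgroup (X.map q)).Normal :=
    ((Group.isNilpotent_of_finite_tfae (G := X.map q)).out 0 3 rfl rfl).mp hq p hp Q
  set H := (Q : Subgroup (X.map q)).comap r with hH
  have hHn : (H.map X.subtype).Normal := by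
    have hXn : (X.map q).Normal := (inferInstance : X.Normal).map q (QuotientGroup.mk'_surjective _)
    have : (Q : Subgroup (X.map q)).Characteristic := Q.characteristic_of_normal hQn
    have hQ' : ((Q : Subgroup (X.map q)).map (X.map q).subtype).Normal := inferInstance
    refine ⟨fun a ha g => ?_⟩
    obtain ⟨⟨a, haX⟩, ha, rfl⟩ := ha
    refine ⟨⟨g * a * g⁻¹, (inferInstance : X.Normal).conj_mem a haX g⟩, ?_, rfl⟩
    have h1 := hQ'.conj_mem (q a) ⟨r ⟨a, haX⟩, ha, rfl⟩ (q g)
    obtain ⟨y, hy, hye⟩ := h1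
    show r ⟨g * a * g⁻¹, _⟩ ∈ (Q : Subgroup (X.map q))
    have e : r ⟨g * a * g⁻¹, (inferInstance : X.Normal).conj_mem a haX g⟩ = y := by
      refine Subtype.ext ?_
      show q (g * a * g⁻¹) = _
      rw [map_mul, map_mul, map_inv]; exact hye.symm
    rw [e]; exact hy
  have hPH : (P : Subgroup X) ≤ H := fun y hy => show r y ∈ (Q : Subgroup (X.map q)) from mem_map_of_mem r hy
  have hfr : normalizer (((P : Subgroup X).map X.subtype : Subgroup G) : Set G) ⊔ H.map X.subtype = ⊤ := by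
    have h1 := Sylow.normalizer_sup_eq_top (P.subtype hPH |>.mapSurjective
      (f := ((equivMapOfInjective H X.subtype X.subtype_injective).toMonoidHom)) (MulEquiv.surjective _))
    convert h1 using 4
    ext z; constructor
    · rintro ⟨w, hw, rfl⟩
      exact ⟨⟨_, ⟨w, hPH hw, rfl⟩⟩, ⟨⟨w, hPH hw⟩, hw, rfl⟩, rfl⟩
    · rintro ⟨_, ⟨w, hw, rfl⟩, rfl⟩
      exact ⟨w.1, hw, rfl⟩
  have hHle : H.map X.subtype ≤ (P : Subgroup X).map X.subtype ⊔ frattini G := by
    rintro _ ⟨y, hy, rfl⟩
    obtain ⟨w, hw, hwy⟩ : r y ∈ (P : Subgroup X).map r := hy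
    have h1 : q (w : G) = q (y : G) := congrArg Subtype.val hwy
    have h2 : (w : G)⁻¹ * y ∈ frattini G := (QuotientGroup.eq (s := frattini G)).mp h1
    have := mul_mem (mem_sup_left (mem_map_of_mem X.subtype hw) : (w : G) ∈ (P : Subgroup X).map X.subtype ⊔ frattini G)
      (mem_sup_right h2)
    rwa [mul_inv_cancel_left] at this
  have htop : normalizer (((P : Subgroup X).map X.subtype : Subgroup G) : Set G) ⊔ frattini G = ⊤ :=
    top_le_iff.mp (hfr ▸ sup_le le_sup_left (hHle.trans (sup_le (le_normalizer.trans le_sup_left) le_sup_right)))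
  have hn := normalizer_eq_top_iff.mp (frattini_nongenerating htop)
  refine ⟨fun a ha g => ?_⟩
  obtain ⟨b, hb, hbe⟩ := hn.conj_mem (a : G) (mem_map_of_mem X.subtype ha) (g : G)
  have : b = g * a * g⁻¹ := Subtype.ext hbe
  exact this ▸ hb
/-- Let χ be an irreducible character of the finite group G and K its kernel (the elements where χ takes the value χ(1)). Suppose either that K is not contained in the Fitting subgroup F(G), or that K = F(G) with G/K solvable and K ≠ G. Then there is an irreducible character ψ of G with ψ(1) > χ(1) whose kernel is properly contained in K. -/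
theorem result {G : Type*} [Group G] [Finite G] (χ : Cfsg.IrrCharacter G) (K : Subgroup G) [K.Normal] (hK : (∀ g : G, g ∈ K ↔ (χ : G → ℂ) g = (χ : G → ℂ) 1)) (h : ¬ K ≤ Cfsg.fittingSubgroup G ∨ (K = Cfsg.fittingSubgroup G ∧ Group.IsSolvable (G ⧸ K) ∧ K ≠ ⊤)) : ∃ ψ : Cfsg.IrrCharacter G, Cfsg.charDegree (χ : G → ℂ) < Cfsg.charDegree (ψ : G → ℂ) ∧ ∃ L : Subgroup G, (∀ g : G, g ∈ L ↔ (ψ : G → ℂ) g = (ψ : G → ℂ) 1) ∧ L < K := by
  classical
  have := Fintype.ofFinite G
  have hK' := hK
  rcases h with hF | ⟨hKF, hsol, hKtop⟩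
  · -- `K` is not nilpotent
    obtain ⟨p, hp, P, hP⟩ : ∃ (p : ℕ) (_ : Fact p.Prime) (P : Sylow p K), ¬ (P : Subgroup K).Normal := by
      by_contra hc
      simp only [not_exists, not_not] at hc
      exact hF (le_sSup ⟨inferInstance, ((Group.isNilpotent_of_finite_tfae (G := K)).out 0 3).mpr hc⟩)
    set N := normalizer (((P : Subgroup K).map K.subtype : Subgroup G) : Set G)
    have hNtop : N ≠ ⊤ := fun e => hP ⟨fun a ha g => by
      obtain ⟨b, hb, hbe⟩ := (normalizer_eq_top_iff.mp e).conj_mem (a : G) (mem_map_of_mem K.subtype ha) (g : G)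
      have : b = g * a * g⁻¹ := Subtype.ext hbe
      exact this ▸ hb⟩
    obtain ⟨M, hM, hNM⟩ := Cfsg.Agent.PGroupsBasic.exists_isCoatom_ge hNtop
    have hfr : N ⊔ K = ⊤ := Sylow.normalizer_sup_eq_top P
    have hKM : ¬ K ≤ M := fun hle => hM.1 (top_le_iff.mp (hfr ▸ sup_le hNM hle))
    have : Fintype M := Fintype.ofFinite M
    rcases dichotomy χ K M hK hM hKM with h1 | ⟨hn, -⟩
    · exact h1
    · exfalso
      have hPle : (P : Subgroup K).map K.subtype ≤ M ⊓ K :=
        le_inf (le_normalizer.trans hNM) (map_subtype_le _)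
      have : ((M ⊓ K).subgroupOf K).Normal := inferInstance
      have h2 : N ⊔ (M ⊓ K) = ⊤ := by
        let e := subgroupOfEquivOfLe (inf_le_right : M ⊓ K ≤ K)
        have hPle' : (P : Subgroup K) ≤ (M ⊓ K).subgroupOf K := fun y hy =>
          hPle (mem_map_of_mem K.subtype hy)
        have h3 := Sylow.normalizer_sup_eq_top ((P.subtype hPle').mapSurjective (f := e.toMonoidHom)
          e.surjective)
        convert h3 using 4
        ext z; constructor
        · rintro ⟨w, hw, rfl⟩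
          exact ⟨⟨w, hPle ⟨w, hw, rfl⟩⟩, ⟨⟨w, hPle' hw⟩, hw, rfl⟩, rfl⟩
        · rintro ⟨_, ⟨w, hw, rfl⟩, rfl⟩
          exact ⟨w.1, hw, rfl⟩
      exact hM.1 (top_le_iff.mp (h2 ▸ sup_le hNM inf_le_left))
  · -- `K` is the Fitting subgroup
    have : Group.IsNilpotent K := hKF ▸ inferInstance
    have : Nontrivial (G ⧸ K) := (QuotientGroup.nontrivial_iff).mpr hKtop
    obtain ⟨Ab, hAb⟩ := Cfsg.Agent.HallSolvable.exists_minNormal (G := G ⧸ K)
    have hAbn := hAb.1
    have hAbc : IsMulCommutative Ab := hAb.commutative_of_solvable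
    set π := QuotientGroup.mk' K
    set A := Ab.comap π with hA
    have hKA : K ≤ A := QuotientGroup.le_comap_mk' K Ab
    have hAK : ¬ A ≤ K := fun hle => hAb.2.1 (by
      rw [← map_comap_eq_self_of_surjective (QuotientGroup.mk'_surjective K) Ab]
      exact Cfsg.Agent.HallSolvable.map_mk'_eq_bot.mpr hle)
    have hAA : ⁅A, A⁆ ≤ K := by
      rw [commutator_le]
      intro a ha b hb
      refine (QuotientGroup.eq_one_iff (N := K) _).mp ?_
      show π ⁅a, b⁆ = 1
      rw [map_commutatorElement, commutatorElement_eq_one_iff_mul_comm]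
      exact Cfsg.Agent.PGroupsBasic.comm_of_isMulCommutative hAbc ha hb
    obtain ⟨M, hM, hKM, hDM⟩ : ∃ M : Subgroup G, IsCoatom M ∧ ¬ K ≤ M ∧ ¬ ⁅K, A⁆ ≤ M := by
      by_contra hc
      simp only [not_exists, not_and, not_not] at hc
      have hD : ⁅K, A⁆ ≤ frattini G := by
        refine le_iInf fun M => le_iInf fun hM => ?_
        by_cases hKM : K ≤ M
        · exact (commutator_le_left _ _).trans hKM
        · exact hc M hM hKM
      have hnil : Group.IsNilpotent A := normal_sylow_of_nilpotent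
        (Cfsg.Agent.HallSolvable.isNilpotent_of_commutator_le (Z := K.map (QuotientGroup.mk' (frattini G)))
          (by rw [← map_commutator]; exact map_mono hAA)
          (commutator_eq_bot_iff_le_centralizer.mp (by
            rw [← map_commutator]; exact Cfsg.Agent.HallSolvable.map_mk'_eq_bot.mpr hD)))
      exact hAK (hKF ▸ le_sSup ⟨inferInstance, hnil⟩)
    have : Fintype M := Fintype.ofFinite M
    rcases dichotomy χ K M hK hM hKM with h1 | ⟨hn, hind⟩
    · exact h1
    exfalso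
    have hsup : K ⊔ M = ⊤ := hM.2 _ (lt_of_le_of_ne le_sup_right fun e => hKM (le_sup_left.trans e.ge))
    -- the derived subgroup of `K` lies in `M`
    have hKK : ⁅K, K⁆ ≤ M := by
      by_contra hkk
      set D := ⁅K, K⁆ ⊔ (M ⊓ K)
      have hDK : D ≤ K := sup_le (commutator_le_left _ _) inf_le_right
      have hDtop : D ⊔ M = ⊤ := hM.2 _ (lt_of_le_of_ne le_sup_right fun e =>
        hkk ((le_sup_left.trans le_sup_left).trans e.ge))
      have hDeq : D = K := by
        refine le_antisymm hDK fun k hk => ?_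
        have hk' : k ∈ ((D ⊔ M : Subgroup G) : Set G) := hDtop ▸ mem_top k
        rw [Subgroup.normal_mul] at hk'
        obtain ⟨d, hd, m, hm, rfl⟩ := hk'
        refine mul_mem hd (mem_sup_right ⟨hm, ?_⟩)
        simpa using mul_mem (inv_mem (hDK hd)) hk
      let N0 : Subgroup K := (M ⊓ K).subgroupOf K
      have : Nontrivial (K ⧸ N0) := QuotientGroup.nontrivial_iff.mpr fun e =>
        hKM ((subgroupOf_eq_top.mp e).trans inf_le_left)
      refine (Group.IsSolvable.commutator_lt_top_of_nontrivial (G := K ⧸ N0)).ne (eq_top_iff.mpr ?_)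
      intro y _
      obtain ⟨⟨k, hk⟩, rfl⟩ := QuotientGroup.mk'_surjective N0 y
      have hle : K ≤ ((commutator (K ⧸ N0)).comap (QuotientGroup.mk' N0)).map K.subtype := by
        conv_lhs => rw [← hDeq]
        refine sup_le ?_ fun z hz => ⟨⟨z, hz.2⟩, ?_, rfl⟩
        · rw [commutator_le]
          exact fun a ha b hb => ⟨⁅(⟨a, ha⟩ : K), (⟨b, hb⟩ : K)⁆, by
            rw [SetLike.mem_coe, mem_comap, map_commutatorElement]
            exact commutator_mem_commutator (mem_top _) (mem_top _), rfl⟩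
        · rw [SetLike.mem_coe, mem_comap, show QuotientGroup.mk' N0 ⟨z, hz.2⟩ = 1 from
            (QuotientGroup.eq_one_iff _).mpr hz]
          exact one_mem _
      obtain ⟨w, hw, hwk⟩ := hle hk
      have : w = ⟨k, hk⟩ := Subtype.ext hwk
      exact this ▸ hw
    -- the core part of `A` lies in `K`
    have hcore : A ⊓ M.normalCore ≤ K := by
      by_contra hc
      rcases hAb.2.2 ((A ⊓ M.normalCore).map π) ((inferInstance : (A ⊓ M.normalCore).Normal).map π
        (QuotientGroup.mk'_surjective K)) (map_le_iff_le_comap.mpr inf_le_left) with h1 | h1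
      · exact hc (Cfsg.Agent.HallSolvable.map_mk'_eq_bot.mp h1)
      · refine hDM (commutator_le.mpr fun k hk a ha => ?_)
        obtain ⟨c, hc, hca⟩ : π a ∈ (A ⊓ M.normalCore).map π := h1.symm ▸ ha
        have h2 : a * c⁻¹ ∈ K := (QuotientGroup.eq_one_iff (N := K) _).mp (by
          show π (a * c⁻¹) = 1
          rw [map_mul, map_inv, hca, mul_inv_cancel])
        have h3 : ⁅k, a * c⁻¹⁆ ∈ M := hKK (commutator_mem_commutator hk h2)
        have hcM : ⁅k, c⁆ ∈ M := M.normalCore_le (by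
          rw [commutatorElement_def]
          exact mul_mem ((inferInstance : M.normalCore.Normal).conj_mem c hc.2 k) (inv_mem hc.2))
        have hcK : a * c⁻¹ ∈ K := h2
        rw [show ⁅k, a⁆ = ⁅k, a * c⁻¹⁆ * ((a * c⁻¹) * ⁅k, c⁆ * (a * c⁻¹)⁻¹) by
          simp only [commutatorElement_def]; group]
        refine mul_mem h3 (hn.conj_mem ⁅k, c⁆ ⟨hcM, ?_⟩ _).1
        rw [commutatorElement_def, mul_assoc, mul_assoc, ← mul_assoc c]
        exact mul_mem hk ((inferInstance : K.Normal).conj_mem k⁻¹ (inv_mem hk) c)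
    -- the character vanishes on `A` outside `K`
    have hzero : ∀ g ∈ A, g ∉ K → (χ : G → ℂ) g = 0 := by
      intro g hg hgK
      have hg' : g ∈ ((K ⊔ M : Subgroup G) : Set G) := hsup ▸ mem_top g
      rw [Subgroup.normal_mul] at hg'
      obtain ⟨k, hk, m, hm, rfl⟩ := hg'
      have hmA : m ∈ A := by simpa using mul_mem (inv_mem (hKA hk)) hg
      obtain ⟨ψ, hψ⟩ := exists_quot_irr K χ fun n hn => (hK n).mp hn
      have he : (χ : G → ℂ) (k * m) = (χ : G → ℂ) m := by
        rw [hψ, hψ, QuotientGroup.mk_mul, (QuotientGroup.eq_one_iff k).mpr hk, one_mul]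
      show (χ : G → ℂ) (k * m) = 0
      rw [he]
      by_contra hne
      refine hgK (mul_mem hk (hcore ⟨hmA, fun x => ?_⟩))
      simpa using forall_conj_mem_of_ind_eq M χ hne (hind ⟨m, hm⟩) x⁻¹
    have : Fintype A := Fintype.ofFinite A
    have hAn : A.Normal := hAbn.comap π
    have hinner : Cfsg.classInner (fun a : A => (χ : G → ℂ) a) (trivIrr A : A → ℂ) ≠ 0 := by
      rw [Cfsg.classInner]
      have hs : ∑ a : A, (χ : G → ℂ) a * starRingEnd ℂ ((trivIrr A : A → ℂ) a) =
          ((Finset.univ.filter fun a : A => (a : G) ∈ K).card : ℂ) * (χ : G → ℂ) 1 := by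
        rw [← nsmul_eq_mul, ← Finset.sum_const, Finset.sum_filter]
        refine Finset.sum_congr rfl fun a _ => ?_
        show (χ : G → ℂ) a * starRingEnd ℂ 1 = _
        rw [map_one, mul_one]
        split_ifs with ha
        · exact (hK _).mp ha
        · exact hzero a a.2 ha
      rw [hs]
      refine mul_ne_zero ?_ (mul_ne_zero ?_ (irr_one_ne_zero χ))
      · simp [Nat.card_pos.ne']
      · exact Nat.cast_ne_zero.mpr (Finset.card_pos.mpr ⟨1, by simp⟩).ne'
    refine hAK fun a ha => (hK a).mpr ?_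
    have hcl := clifford A χ.2 (trivIrr A).2 hinner
    have h1 := congrFun hcl ⟨a, ha⟩
    have h2 := congrFun hcl 1
    simp only [Pi.smul_apply, Finset.sum_apply, OneMemClass.coe_one] at h1 h2
    rw [h1, h2]
    congr 1
    refine Finset.sum_congr rfl fun ψ hψ => ?_
    obtain ⟨g, rfl⟩ := (mem_orbitFin A).mp hψ
    rfl

end Cfsg.Agent.S4461
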