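import Cfsg.Statements.S4462
import Mathlib
import Cfsg.Agent.Lib.ComponentsFitting
import Cfsg.Agent.Lib.CharKernel
import Cfsg.Agent.Lib.CharInducedBasic
import Cfsg.Agent.Lib.CharBasicDecomp

set_option autoImplicit false
open Cfsg

namespace Cfsg.Agent.S4462

open scoped Pointwise commutatorElement

open Cfsg.Agent.CharBasic Cfsg.Agent.CharBasicOrth Cfsg.Agent.CharBasicDecomp
open scoped ComplexConjugate

/-- Preimages of nilpotent normal subgroups modulo the Frattini subgroup are nilpotent. -/
theorem nilpotent_of_map {G : Type*} [Group G] [Finite G] (P : Subgroup G) [P.Normal] (hle : frattini G ≤ P)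
    (h : Group.IsNilpotent (P.map (QuotientGroup.mk' (frattini G)))) : Group.IsNilpotent P := by
  refine ((Group.isNilpotent_of_finite_tfae (G := P)).out 0 3).2 ?_
  intro q hq Q
  let π := (QuotientGroup.mk' (frattini G)).subgroupMap P
  have hπ : Function.Surjective π := (QuotientGroup.mk' (frattini G)).subgroupMap_surjective P
  have hker : π.ker = (frattini G).subgroupOf P := by
    ext x
    rw [MonoidHom.mem_ker, Subgroup.mem_subgroupOf, ← QuotientGroup.eq_one_iff, Subtype.ext_iff]
    rfl
  haveI hn1 : (((Q : Subgroup P).map π)).Normal := by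
    have h9 := (Q.mapSurjective hπ).normal_of_normalizerCondition Group.normalizerCondition_of_isNilpotent
    rwa [Sylow.coe_mapSurjective] at h9
  haveI hK : ((Q : Subgroup P) ⊔ (frattini G).subgroupOf P).Normal := by
    rw [← hker, ← Subgroup.comap_map_eq]
    infer_instance
  have h1 := Sylow.normalizer_sup_eq_top' (N := (Q : Subgroup P) ⊔ (frattini G).subgroupOf P) Q le_sup_left
  rw [← sup_assoc] at h1
  have hQN : (Q : Subgroup P) ≤ Subgroup.normalizer ((Q : Subgroup P) : Set P) := Subgroup.le_normalizer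
  replace h1 : Subgroup.normalizer ((Q : Subgroup P) : Set P) ⊔ (frattini G).subgroupOf P = ⊤ :=
    top_le_iff.1 (h1.ge.trans (sup_le (sup_le le_sup_left (hQN.trans le_sup_left)) le_sup_right))
  set R : Subgroup G := (Q : Subgroup P).map P.subtype with hR
  have hP : P ≤ Subgroup.normalizer (R : Set G) ⊔ frattini G := by
    intro x hx
    have hx' : (⟨x, hx⟩ : P) ∈ Subgroup.normalizer ((Q : Subgroup P) : Set P) ⊔ (frattini G).subgroupOf P :=
      h1 ▸ Subgroup.mem_top _
    have := Subgroup.mem_map_of_mem P.subtype hx'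
    rw [Subgroup.map_sup] at this
    exact (sup_le_sup (Subgroup.le_normalizer_map P.subtype) (Subgroup.map_comap_le _ _)) this
  have htop : Subgroup.normalizer (R : Set G) ⊔ frattini G = ⊤ := by
    have h3 : Subgroup.normalizer (R : Set G) ⊔ P = ⊤ := Sylow.normalizer_sup_eq_top Q
    exact top_le_iff.1 (h3.ge.trans (sup_le le_sup_left hP))
  haveI : R.Normal := Subgroup.normalizer_eq_top_iff.1 (frattini_nongenerating htop)
  exact Subgroup.Normal.of_map_subtype (this : ((Q : Subgroup P).map P.subtype).Normal)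

theorem mem_fitting_of_commutator {G : Type*} [Group G] [Finite G] [Group.IsSolvable G] {g : G}
    (h : ∀ f ∈ Cfsg.fittingSubgroup G, ⁅g, f⁆ ∈ frattini G) : g ∈ Cfsg.fittingSubgroup G := by
  let π := QuotientGroup.mk' (frattini G)
  have hπ : Function.Surjective π := QuotientGroup.mk'_surjective _
  let P := (Cfsg.fittingSubgroup (G ⧸ frattini G)).comap π
  have hmap : P.map π = Cfsg.fittingSubgroup (G ⧸ frattini G) := Subgroup.map_comap_eq_self_of_surjective hπ _
  have hle : frattini G ≤ P := fun x hx => by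
    show π x ∈ Cfsg.fittingSubgroup (G ⧸ frattini G)
    rw [QuotientGroup.mk'_apply, (QuotientGroup.eq_one_iff x).2 hx]
    exact one_mem _
  have hP : P ≤ Cfsg.fittingSubgroup G :=
    Cfsg.Agent.ComponentsCores.le_fitting (nilpotent_of_map P hle (by rw [hmap]; infer_instance))
  refine hP (?_ : π g ∈ Cfsg.fittingSubgroup (G ⧸ frattini G))
  refine Cfsg.Agent.ComponentsFitting.centralizer_fitting_le_of_solvable (Subgroup.mem_centralizer_iff.2 ?_)
  intro y hy
  rw [SetLike.mem_coe, ← hmap] at hy
  obtain ⟨f, hf, rfl⟩ := hy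
  have h2 : ⁅π g, π f⁆ = 1 := by
    rw [← map_commutatorElement]
    exact (QuotientGroup.eq_one_iff _).2 (h f (hP hf))
  exact (commutatorElement_eq_one_iff_commute.1 h2).symm

/-- A character with a single possible constituent. -/
theorem inner_eq_degree {F : Type*} [Group F] [Fintype F] {χ : F → ℂ} (hχ : Cfsg.IsCharacter F χ)
    (lam : F →* ℂˣ)
    (h : ∀ θ : Cfsg.IrrCharacter F, (θ : F → ℂ) ≠ (fun f => (lam f : ℂ)) → Cfsg.classInner χ θ = 0) :
    Cfsg.classInner χ (fun f => (lam f : ℂ)) = χ 1 := by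
  obtain ⟨m, hm, he⟩ := exists_mult hχ
  let θ₀ : Cfsg.IrrCharacter F := ⟨_, isIrrCharacter_linear lam⟩
  have h0 : ∀ θ : Cfsg.IrrCharacter F, θ ≠ θ₀ → (m θ : ℂ) = 0 := fun θ hθ => by
    rw [← hm]; exact h θ fun e => hθ (Subtype.ext e)
  rw [show (fun f => (lam f : ℂ)) = (θ₀ : F → ℂ) from rfl, hm]
  conv_rhs => rw [he]
  rw [Finset.sum_apply, Finset.sum_eq_single θ₀]
  · simp [θ₀]
  · intro θ _ hθ
    rw [Pi.smul_apply, h0 θ hθ, zero_smul]
  · intro hh
    exact absurd (Finset.mem_univ _) hh

/-- Distinct linear constituents of equal multiplicity bound the degree. -/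
theorem card_mul_le_degree {F : Type*} [Group F] [Fintype F] {χ : F → ℂ} (hχ : Cfsg.IsCharacter F χ)
    {ι : Type*} [Fintype ι] (lam : ι → (F →* ℂˣ)) (hinj : Function.Injective lam) (k : ℕ)
    (hk : ∀ i, Cfsg.classInner χ (fun f => (lam i f : ℂ)) = k) :
    Fintype.card ι * k ≤ Cfsg.charDegree χ := by
  classical
  obtain ⟨m, hm, he⟩ := exists_mult hχ
  let e : ι → Cfsg.IrrCharacter F := fun i => ⟨_, isIrrCharacter_linear (lam i)⟩
  have he' : Function.Injective e := fun i j h => hinj (MonoidHom.ext fun f =>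
    Units.ext (congrFun (congrArg Subtype.val h) f))
  have hmi : ∀ i, m (e i) = k := fun i => by exact_mod_cast (hm (e i)).symm.trans (hk i)
  have hdeg : Cfsg.charDegree χ = ∑ θ, m θ * Cfsg.charDegree (θ : F → ℂ) := by
    apply Nat.cast_injective (R := ℂ)
    rw [← Cfsg.Agent.CharAverage.apply_one_eq_charDegree hχ, Nat.cast_sum]
    conv_lhs => rw [he]
    rw [Finset.sum_apply]
    exact Finset.sum_congr rfl fun θ _ => by
      rw [Pi.smul_apply, smul_eq_mul, Nat.cast_mul, ← Cfsg.Agent.CharAverage.irr_apply_one]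
  rw [hdeg]
  calc Fintype.card ι * k = ∑ θ ∈ Finset.univ.image e, m θ := by
        rw [Finset.sum_image fun i _ j _ h => he' h]; simp [hmi]
    _ ≤ ∑ θ ∈ Finset.univ.image e, m θ * Cfsg.charDegree (θ : F → ℂ) :=
        Finset.sum_le_sum fun θ _ => Nat.le_mul_of_pos_right _ (Cfsg.Agent.CharAverage.irr_degree_pos θ)
    _ ≤ _ := Finset.sum_le_univ_sum_of_nonneg fun θ => Nat.zero_le _

/-- A character of maximal degree vanishes off the stabiliser of a linear character of the Fitting subgroup
modulo a maximal subgroup, if the Fitting subgroup is in its kernel. -/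
theorem vanish_off_stab {G : Type*} [Group G] [Fintype G] (χ : Cfsg.IrrCharacter G) (F M : Subgroup G) [F.Normal]
    (hFM : F ⊔ M = ⊤) (hker : ∀ f ∈ F, (χ : G → ℂ) f = (χ : G → ℂ) 1)
    (hmax : ∀ ψ : Cfsg.IrrCharacter G, Cfsg.charDegree (ψ : G → ℂ) ≤ Cfsg.charDegree (χ : G → ℂ))
    (lam : F →* ℂˣ) (hlam : ∀ f : F, (f : G) ∈ M → lam f = 1) (g : G) (hg : (χ : G → ℂ) g ≠ 0) :
    ∀ f : F, lam (MulAut.conjNormal g f) = lam f := by
  classical
  let S : Subgroup G :=
    { carrier := {g | ∀ f : F, lam (MulAut.conjNormal g f) = lam f}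
      one_mem' := fun f => by simp
      mul_mem' := fun {a b} ha hb f => by rw [map_mul, MulAut.mul_apply, ha, hb]
      inv_mem' := fun {a} ha f => by
        have := ha (MulAut.conjNormal a⁻¹ f)
        rw [← MulAut.mul_apply, ← map_mul, mul_inv_cancel, map_one, MulAut.one_apply] at this
        exact this.symm }
  by_contra hgS
  change g ∉ S at hgS
  have hFS : F ≤ S := fun v hv f => by
    have e : MulAut.conjNormal v f = (⟨v, hv⟩ : F) * f * (⟨v, hv⟩ : F)⁻¹ := Subtype.ext (by simp)
    rw [e, map_mul, map_mul, map_inv, mul_right_comm, mul_inv_cancel, one_mul]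
  -- extend the linear character to its stabiliser
  have hdec : ∀ s : S, ∃ v : F, (v : G)⁻¹ * s ∈ M := by
    intro s
    obtain ⟨v, hv, t, ht, e⟩ := Subgroup.mem_sup_of_normal_left.1 (hFM.symm ▸ Subgroup.mem_top (s : G))
    exact ⟨⟨v, hv⟩, by rw [← e, inv_mul_cancel_left]; exact ht⟩
  choose vf hvf using hdec
  have hwd : ∀ (s : S) (v : F), (v : G)⁻¹ * s ∈ M → lam (vf s) = lam v := by
    intro s v hv
    have hmem : ((v⁻¹ * vf s : F) : G) ∈ M := by
      have := mul_mem hv (inv_mem (hvf s))
      simpa [mul_assoc] using this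
    have := hlam _ hmem
    rw [map_mul, map_inv, inv_mul_eq_one] at this
    exact this.symm
  let Lam : S →* ℂˣ := MonoidHom.mk' (fun s => lam (vf s)) (fun s s' => by
    have ht : (vf s : G)⁻¹ * s ∈ S := mul_mem (inv_mem (hFS (vf s).2)) s.2
    rw [hwd (s * s') (vf s * MulAut.conjNormal ((vf s : G)⁻¹ * s) (vf s'))]
    · rw [map_mul, ht]
    · have := mul_mem (hvf s) (hvf s')
      simpa [mul_assoc] using this)
  have hLam : ∀ f : F, Lam ⟨f, hFS f.2⟩ = lam f := fun f => hwd _ f (by simp)
  let η : S → ℂ := ((χ : G → ℂ) ∘ S.subtype) * fun s => (Lam s : ℂ)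
  have hη : Cfsg.IsCharacter S η :=
    isCharacter_mul (isCharacter_comap S.subtype (Cfsg.Agent.CharAverage.irr_isCharacter χ)) (isCharacter_linear Lam)
  obtain ⟨m, hm, hme⟩ := exists_mult hη
  let ι : F →* S := Subgroup.inclusion hFS
  set d := Cfsg.charDegree (χ : G → ℂ) with hd
  have hηF : η ∘ ι = (d : ℂ) • fun f => (lam f : ℂ) := by
    funext f
    show (χ : G → ℂ) f * (Lam ⟨f, hFS f.2⟩ : ℂ) = _
    rw [hker f f.2, hLam, Cfsg.Agent.CharAverage.irr_apply_one]
    rfl
  have hphi : ∀ φ : Cfsg.IrrCharacter S, m φ ≠ 0 →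
      Cfsg.classInner ((φ : S → ℂ) ∘ ι) (fun f => (lam f : ℂ)) = Cfsg.charDegree (φ : S → ℂ) := by
    intro φ hφ
    rw [inner_eq_degree (isCharacter_comap ι (Cfsg.Agent.CharAverage.irr_isCharacter φ)) lam, Function.comp_apply, map_one,
      Cfsg.Agent.CharAverage.irr_apply_one]
    intro θ hθ
    choose k hk using fun φ' : Cfsg.IrrCharacter S =>
      classInner_isCharacter (isCharacter_comap ι (Cfsg.Agent.CharAverage.irr_isCharacter φ'))
        (Cfsg.Agent.CharAverage.irr_isCharacter θ)
    have h0 : ((∑ φ', m φ' * k φ' : ℕ) : ℂ) = 0 := by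
      have : Cfsg.classInner (η ∘ ι) (θ : F → ℂ) = 0 := by
        rw [hηF, classInner_smul_left, classInner_irr_ne (isIrrCharacter_linear lam) θ.2 fun e => hθ e.symm, mul_zero]
      rw [← this, hme, show (∑ φ', (m φ' : ℂ) • (φ' : S → ℂ)) ∘ ι = ∑ φ', (m φ' : ℂ) • ((φ' : S → ℂ) ∘ ι) from
        funext fun f => by simp [Finset.sum_apply], classInner_sum_left, Nat.cast_sum]
      exact Finset.sum_congr rfl fun φ' _ => by rw [classInner_smul_left, hk, Nat.cast_mul]
    have h1 := Finset.sum_eq_zero_iff.1 (Nat.cast_eq_zero.1 h0) φ (Finset.mem_univ _)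
    rw [hk φ, (mul_eq_zero.1 h1).resolve_left hφ, Nat.cast_zero]
  have hbound : ∀ φ : Cfsg.IrrCharacter S, m φ ≠ 0 → S.index * Cfsg.charDegree (φ : S → ℂ) ≤ d := by
    intro φ hφ
    obtain ⟨ψ, hψ⟩ : ∃ ψ : Cfsg.IrrCharacter G,
        Cfsg.classInner ((ψ : G → ℂ) ∘ S.subtype) (φ : S → ℂ) ≠ 0 := by
      by_contra h
      push Not at h
      have h2 : Cfsg.indFun S (φ : S → ℂ) = 0 :=
        eq_zero_of_forall_classInner (Cfsg.Agent.CharInduced.isClassFunction_ind S _) fun ψ hψ => by
          rw [Cfsg.Agent.CharInduced.inner_ind_left S _ (isClassFunction_of_isCharacter (isCharacter_of_isIrrCharacter hψ)),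
            ← Cfsg.Agent.CharInduced.inner_conj_symm, show (fun h : S => ψ h) = ψ ∘ S.subtype from rfl, h ⟨ψ, hψ⟩, map_zero]
      have h3 := congrFun h2 1
      rw [Cfsg.Agent.CharInduced.ind_one_apply, Cfsg.Agent.CharAverage.irr_apply_one, Pi.zero_apply, mul_eq_zero, Nat.cast_eq_zero,
        Nat.cast_eq_zero] at h3
      rcases h3 with h3 | h3
      · exact Subgroup.index_ne_zero_of_finite h3
      · exact (Cfsg.Agent.CharAverage.irr_degree_pos φ).ne' h3
    have hψS := isCharacter_comap S.subtype (Cfsg.Agent.CharAverage.irr_isCharacter ψ)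
    obtain ⟨n, hn, hne⟩ := exists_mult hψS
    have hnφ : n φ ≠ 0 := fun e => hψ (by rw [hn, e, Nat.cast_zero])
    choose k hk using fun φ' : Cfsg.IrrCharacter S =>
      classInner_isCharacter (isCharacter_comap ι (Cfsg.Agent.CharAverage.irr_isCharacter φ'))
        (isCharacter_linear lam)
    have hψF := isCharacter_comap F.subtype (Cfsg.Agent.CharAverage.irr_isCharacter ψ)
    have hkey : Cfsg.classInner ((ψ : G → ℂ) ∘ F.subtype) (fun f => (lam f : ℂ)) = ((∑ φ', n φ' * k φ' : ℕ) : ℂ) := by
      rw [show (ψ : G → ℂ) ∘ F.subtype = ((ψ : G → ℂ) ∘ S.subtype) ∘ ι from rfl, hne,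
        show (∑ φ', (n φ' : ℂ) • (φ' : S → ℂ)) ∘ ι = ∑ φ', (n φ' : ℂ) • ((φ' : S → ℂ) ∘ ι) from
          funext fun f => by simp [Finset.sum_apply], classInner_sum_left, Nat.cast_sum]
      exact Finset.sum_congr rfl fun φ' _ => by rw [classInner_smul_left, hk, Nat.cast_mul]
    have hge : Cfsg.charDegree (φ : S → ℂ) ≤ ∑ φ', n φ' * k φ' := by
      have hkφ : k φ = Cfsg.charDegree (φ : S → ℂ) := by exact_mod_cast (hk φ).symm.trans (hphi φ hφ)
      calc Cfsg.charDegree (φ : S → ℂ) = k φ := hkφ.symm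
        _ ≤ n φ * k φ := Nat.le_mul_of_pos_left _ (Nat.pos_of_ne_zero hnφ)
        _ ≤ _ := Finset.single_le_sum (f := fun φ' => n φ' * k φ') (fun _ _ => Nat.zero_le _) (Finset.mem_univ φ)
    let lamq : G ⧸ S → (F →* ℂˣ) := fun x => lam.comp (MulAut.conjNormal x.out⁻¹).toMonoidHom
    have hinj : Function.Injective lamq := by
      intro x y h
      rw [← QuotientGroup.out_eq' x, ← QuotientGroup.out_eq' y]
      refine (QuotientGroup.eq.2 ?_).symm
      intro f
      have h' := DFunLike.congr_fun h (MulAut.conjNormal x.out f)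
      simp only [lamq, MonoidHom.comp_apply, MulEquiv.coe_toMonoidHom, ← MulAut.mul_apply, ← map_mul,
        inv_mul_cancel, map_one, MulAut.one_apply] at h'
      exact h'.symm
    have hconst : ∀ x, Cfsg.classInner ((ψ : G → ℂ) ∘ F.subtype) (fun f => (lamq x f : ℂ)) =
        ((∑ φ', n φ' * k φ' : ℕ) : ℂ) := by
      intro x
      rw [← hkey, Cfsg.classInner, Cfsg.classInner]
      congr 1
      refine Fintype.sum_equiv (MulAut.conjNormal x.out⁻¹).toEquiv _ _ fun f => ?_
      simp only [MulEquiv.toEquiv_eq_coe, EquivLike.coe_coe, Function.comp_apply, Subgroup.coe_subtype,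
        MulAut.conjNormal_apply, lamq, MonoidHom.comp_apply, MulEquiv.coe_toMonoidHom]
      rw [isClassFunction_of_isCharacter (Cfsg.Agent.CharAverage.irr_isCharacter ψ)]
    have h4 := card_mul_le_degree hψF lamq hinj _ hconst
    have h5 : Cfsg.charDegree ((ψ : G → ℂ) ∘ F.subtype) = Cfsg.charDegree (ψ : G → ℂ) := by
      apply Nat.cast_injective (R := ℂ)
      rw [← Cfsg.Agent.CharAverage.apply_one_eq_charDegree hψF, ← Cfsg.Agent.CharAverage.irr_apply_one]
      rfl
    rw [h5, ← Nat.card_eq_fintype_card] at h4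
    exact ((Nat.mul_le_mul_left _ hge).trans h4).trans (hmax ψ)
  have hsum : S.index ≤ ∑ φ, m φ ^ 2 := by
    have hdeg : d = ∑ φ, m φ * Cfsg.charDegree (φ : S → ℂ) := by
      apply Nat.cast_injective (R := ℂ)
      have h1 : η 1 = (d : ℂ) := by
        simp only [η, Pi.mul_apply, Function.comp_apply, map_one, Units.val_one, mul_one]
        exact Cfsg.Agent.CharAverage.irr_apply_one χ
      rw [← h1, Nat.cast_sum]
      conv_lhs => rw [hme]
      rw [Finset.sum_apply]
      exact Finset.sum_congr rfl fun θ _ => by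
        rw [Pi.smul_apply, smul_eq_mul, Nat.cast_mul, ← Cfsg.Agent.CharAverage.irr_apply_one]
    refine Nat.le_of_mul_le_mul_left ?_ (Cfsg.Agent.CharAverage.irr_degree_pos χ)
    show d * S.index ≤ d * _
    calc d * S.index = ∑ φ, m φ * (S.index * Cfsg.charDegree (φ : S → ℂ)) := by
          conv_lhs => rw [hdeg]
          rw [Finset.sum_mul]
          exact Finset.sum_congr rfl fun θ _ => by ring
      _ ≤ ∑ φ, m φ ^ 2 * d := by
          refine Finset.sum_le_sum fun φ _ => ?_
          rcases Nat.eq_zero_or_pos (m φ) with h0 | h0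
          · simp [h0]
          · exact Nat.mul_le_mul (Nat.le_self_pow two_ne_zero _) (hbound φ h0.ne')
      _ = d * _ := by rw [← Finset.sum_mul, mul_comm]
  have hN : (Cfsg.classInner η η).re = ((∑ φ, m φ ^ 2 : ℕ) : ℝ) := by
    rw [classInner_eq_sum (isClassFunction_of_isCharacter hη)]
    simp only [hm, Complex.conj_natCast, ← Nat.cast_mul, ← Nat.cast_sum, Complex.natCast_re, sq]
  have hre : (Cfsg.classInner (χ : G → ℂ) χ).re = 1 := by rw [classInner_irr_self χ.2, Complex.one_re]
  rw [classInner_self_re, inv_mul_eq_iff_eq_mul₀ (Nat.cast_ne_zero.2 Nat.card_pos.ne'), mul_one] at hre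
  rw [classInner_self_re, inv_mul_eq_iff_eq_mul₀ (Nat.cast_ne_zero.2 Nat.card_pos.ne')] at hN
  have hnorm : ∑ s : S, ‖η s‖ ^ 2 = ∑ x ∈ Finset.univ.filter (· ∈ S), ‖(χ : G → ℂ) x‖ ^ 2 := by
    rw [Finset.sum_subtype (Finset.univ.filter (· ∈ S)) (p := (· ∈ S)) (fun x => by simp)]
    exact Finset.sum_congr rfl fun s _ => by
      show ‖(χ : G → ℂ) s * (Lam s : ℂ)‖ ^ 2 = _
      rw [norm_mul, norm_linear, mul_one]
  have hle : ∑ x ∈ insert g (Finset.univ.filter (· ∈ S)), ‖(χ : G → ℂ) x‖ ^ 2 ≤ ∑ x, ‖(χ : G → ℂ) x‖ ^ 2 :=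
    Finset.sum_le_univ_sum_of_nonneg fun x => sq_nonneg _
  rw [Finset.sum_insert (by simp [hgS]), hre, ← hnorm, hN] at hle
  have hpos : 0 < ‖(χ : G → ℂ) g‖ ^ 2 := by positivity
  have hGS : (Nat.card G : ℝ) = Nat.card S * S.index := by exact_mod_cast (Subgroup.card_mul_index S).symm
  have h6 : (Nat.card S : ℝ) * S.index ≤ Nat.card S * ((∑ φ, m φ ^ 2 : ℕ) : ℝ) :=
    mul_le_mul_of_nonneg_left (by exact_mod_cast hsum) (Nat.cast_nonneg _)
  linarith

/-- In a solvable group a character of maximal degree has the Fitting subgroup in its kernel only if the group is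
nilpotent. -/
theorem fitting_eq_top {G : Type*} [Group G] [Finite G] [Group.IsSolvable G] (χ : Cfsg.IrrCharacter G)
    (hker : ∀ f ∈ Cfsg.fittingSubgroup G, (χ : G → ℂ) f = (χ : G → ℂ) 1)
    (hmax : ∀ ψ : Cfsg.IrrCharacter G, Cfsg.charDegree (ψ : G → ℂ) ≤ Cfsg.charDegree (χ : G → ℂ)) :
    Cfsg.fittingSubgroup G = ⊤ := by
  classical
  letI := Fintype.ofFinite G
  set F := Cfsg.fittingSubgroup G
  have hsupp : ∀ g : G, (χ : G → ℂ) g ≠ 0 → g ∈ F := by
    intro g hg
    refine mem_fitting_of_commutator fun f hf => ?_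
    rw [frattini, Order.radical, Subgroup.mem_iInf]
    intro M
    rw [Subgroup.mem_iInf]
    intro hM
    by_cases hFM : F ≤ M
    · have hfn : ⁅g, f⁆ ∈ F := by
        rw [commutatorElement_def]
        exact mul_mem ((inferInstance : F.Normal).conj_mem f hf g) (inv_mem hf)
      exact hFM hfn
    have htop : F ⊔ M = ⊤ :=
      hM.2 _ (lt_of_le_of_ne le_sup_right fun e => hFM (le_sup_left.trans e.ge))
    set X := F ⊓ M with hX
    haveI hXn : X.Normal := by
      rw [← Subgroup.normalizer_eq_top_iff]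
      have hMN : M ≤ Subgroup.normalizer (X : Set G) := fun a ha => Subgroup.mem_normalizer_iff.2 fun x =>
        and_congr (Subgroup.mem_normalizer_iff.1 ((Subgroup.normalizer_eq_top (H := F)).symm ▸ Subgroup.mem_top a) x)
          (Subgroup.mem_normalizer_iff.1 (Subgroup.le_normalizer ha) x)
      by_contra hne
      have hMe : Subgroup.normalizer (X : Set G) = M := by
        rcases hMN.eq_or_lt with e | hlt
        · exact e.symm
        · exact absurd (hM.2 _ hlt) hne
      have hlt : X.subgroupOf F < ⊤ := lt_top_iff_ne_top.2 fun e => hFM ((Subgroup.subgroupOf_eq_top.1 e).trans inf_le_right)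
      have h2 := (Group.normalizerCondition_of_isNilpotent (G := F)) _ hlt
      refine h2.ne (le_antisymm h2.le fun x hx => ?_)
      have hx' : (x : G) ∈ Subgroup.normalizer (X : Set G) := by
        refine Subgroup.mem_normalizer_iff.2 fun y => ?_
        have hxn := Subgroup.mem_normalizer_iff.1 hx
        constructor
        · intro hy
          exact (hxn ⟨y, hy.1⟩).1 hy
        · intro hy
          have hyF : y ∈ F := by
            have := mul_mem (mul_mem (inv_mem x.2) hy.1) x.2
            simpa [mul_assoc] using this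
          exact (hxn ⟨y, hyF⟩).2 hy
      exact ⟨x.2, hMe ▸ hx'⟩
    have hcomm : ⁅F, F⁆ ≤ X := by
      refine le_inf (Subgroup.commutator_le_left F F) ?_
      by_contra hn
      have htop2 : (⁅F, F⁆ ⊔ X) ⊔ M = ⊤ :=
        hM.2 _ (lt_of_le_of_ne le_sup_right fun e => hn ((le_sup_left.trans le_sup_left).trans e.ge))
      have hFle : F ≤ ⁅F, F⁆ ⊔ X := by
        intro a ha
        obtain ⟨u, hu, t, ht, e⟩ := Subgroup.mem_sup_of_normal_left.1 (htop2.symm ▸ Subgroup.mem_top a)
        have huF : u ∈ F := sup_le (Subgroup.commutator_le_left F F) inf_le_left hu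
        have htF : t ∈ F := by
          have : t = u⁻¹ * a := by rw [← e, inv_mul_cancel_left]
          rw [this]; exact mul_mem (inv_mem huF) ha
        rw [← e]
        exact mul_mem hu (Subgroup.mem_sup_right ⟨htF, ht⟩)
      have hQ : commutator (F ⧸ X.subgroupOf F) = ⊤ := by
        rw [Subgroup.eq_top_iff']
        intro z
        obtain ⟨a, rfl⟩ := QuotientGroup.mk_surjective z
        obtain ⟨u, hu, t, ht, e⟩ := Subgroup.mem_sup_of_normal_left.1 (hFle a.2)
        rw [← Subgroup.map_subtype_commutator] at hu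
        obtain ⟨u', hu', rfl⟩ := hu
        have : (a : F ⧸ X.subgroupOf F) = (u' : F ⧸ X.subgroupOf F) := by
          refine (QuotientGroup.eq.2 ?_).symm
          show (u' : G)⁻¹ * (a : G) ∈ X
          rw [← e]
          simpa using ht
        rw [this]
        have h7 := Subgroup.mem_map_of_mem (QuotientGroup.mk' (X.subgroupOf F)) hu'
        rw [_root_.commutator_def, Subgroup.map_commutator] at h7
        exact Subgroup.commutator_mono le_top le_top h7
      have hsub : Subsingleton (F ⧸ X.subgroupOf F) := by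
        by_contra h
        rw [not_subsingleton_iff_nontrivial] at h
        exact (Group.IsSolvable.commutator_lt_top_of_nontrivial (G := F ⧸ X.subgroupOf F)).ne hQ
      exact hFM fun a ha => ((QuotientGroup.eq_one_iff (⟨a, ha⟩ : F)).1 (hsub.elim _ 1) : a ∈ X).2
    letI : CommGroup (F ⧸ X.subgroupOf F) :=
      { (inferInstance : Group (F ⧸ X.subgroupOf F)) with
        mul_comm := by
          intro a b
          obtain ⟨a, rfl⟩ := QuotientGroup.mk_surjective a
          obtain ⟨b, rfl⟩ := QuotientGroup.mk_surjective b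
          rw [← QuotientGroup.mk_mul, ← QuotientGroup.mk_mul]
          refine QuotientGroup.eq.2 ?_
          show ((a * b : F) : G)⁻¹ * (b * a : F) ∈ X
          have h8 := hcomm (Subgroup.commutator_mem_commutator (inv_mem b.2) (inv_mem a.2))
          simpa [commutatorElement_def, mul_assoc] using h8 }
    by_contra hgf
    have hfn : ⁅g, f⁆ ∈ F := by
      rw [commutatorElement_def]
      exact mul_mem ((inferInstance : F.Normal).conj_mem f hf g) (inv_mem hf)
    have hne1 : ((⟨⁅g, f⁆, hfn⟩ : F) : F ⧸ X.subgroupOf F) ≠ 1 := fun e => hgf (Subgroup.mem_subgroupOf.1 ((QuotientGroup.eq_one_iff _).1 e)).2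
    obtain ⟨l, hl⟩ := CommGroup.exists_apply_ne_one_of_hasEnoughRootsOfUnity (F ⧸ X.subgroupOf F) ℂ hne1
    let lam : F →* ℂˣ := l.comp (QuotientGroup.mk' (X.subgroupOf F))
    have hlam : ∀ a : F, (a : G) ∈ M → lam a = 1 := fun a ha => by
      show l (a : F ⧸ X.subgroupOf F) = 1
      rw [(QuotientGroup.eq_one_iff a).2 (Subgroup.mem_subgroupOf.2 (Subgroup.mem_inf.2 ⟨a.2, ha⟩)), map_one]
    have hst := vanish_off_stab χ F M htop hker hmax lam hlam g hg ⟨f, hf⟩
    apply hl
    have hce : (⟨⁅g, f⁆, hfn⟩ : F) = MulAut.conjNormal g ⟨f, hf⟩ * (⟨f, hf⟩ : F)⁻¹ := Subtype.ext (by simp [commutatorElement_def])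
    show lam ⟨⁅g, f⁆, hfn⟩ = 1
    rw [hce, map_mul, hst, map_inv, mul_inv_cancel]
  by_contra hF
  have hsum : ∑ g : G, (χ : G → ℂ) g = (Nat.card F : ℂ) * (χ : G → ℂ) 1 := by
    rw [← Finset.sum_filter_of_ne (p := (· ∈ F)) fun g _ hg => hsupp g hg,
      Finset.sum_congr rfl (fun g hg => hker g (Finset.mem_filter.1 hg).2), Finset.sum_const, nsmul_eq_mul,
      Nat.card_eq_fintype_card, Fintype.card_subtype]
  by_cases htriv : (χ : G → ℂ) = fun _ => 1
  · exact hF (Subgroup.eq_top_iff' _ |>.2 fun g => hsupp g (by rw [htriv]; exact one_ne_zero))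
  · have h0 := classInner_irr_ne χ.2 isIrrCharacter_one htriv
    rw [Cfsg.classInner] at h0
    simp only [map_one, mul_one, hsum, mul_eq_zero, inv_eq_zero, Nat.cast_eq_zero] at h0
    rcases h0 with h0 | h0 | h0
    · exact Nat.card_pos.ne' h0
    · exact Nat.card_pos.ne' h0
    · rw [Cfsg.Agent.CharAverage.irr_apply_one, Nat.cast_eq_zero] at h0
      exact (Cfsg.Agent.CharAverage.irr_degree_pos χ).ne' h0

/-- The set of degrees. -/
def degs (G : Type*) [Group G] : Set ℕ := {d | ∃ χ : Cfsg.IrrCharacter G, Cfsg.charDegree (χ : G → ℂ) = d}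

theorem nilpotent_quotient {A : Type*} [Group A] [Group.IsNilpotent A] (B : Subgroup A) [B.Normal] :
    Group.IsNilpotent (A ⧸ B) := inferInstance

theorem series.{v} : ∀ (k : ℕ) (G : Type v) [Group G] [Finite G], Group.IsSolvable G → (degs G).ncard ≤ k →
    ∃ N : Fin (k + 1) → Subgroup G, N 0 = ⊥ ∧ N (Fin.last k) = ⊤ ∧ Monotone N ∧ (∀ i, (N i).Normal) ∧
      ∀ i : Fin k, ∀ _h : (N i.castSucc).subgroupOf (N i.succ) |>.Normal,
        Group.IsNilpotent (↥(N i.succ) ⧸ (N i.castSucc).subgroupOf (N i.succ)) := by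
  intro k
  induction k with
  | zero =>
    intro G _ _ _ hcd
    exfalso
    have : (degs G).Nonempty := ⟨_, trivIrr G, rfl⟩
    have hfin : (degs G).Finite := by
      haveI : Finite (Cfsg.IrrCharacter G) := finite_irrCharacter
      exact Set.finite_range (fun χ : Cfsg.IrrCharacter G => Cfsg.charDegree (χ : G → ℂ))
    exact absurd ((Set.ncard_pos hfin).2 this) (by omega)
  | succ k ih =>
    intro G _ _ hsol hcd
    haveI := hsol
    haveI : Finite (Cfsg.IrrCharacter G) := finite_irrCharacter
    set F := Cfsg.fittingSubgroup G with hF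
    by_cases hnil : F = ⊤
    · haveI : Group.IsNilpotent G := Cfsg.Agent.ComponentsFitting.fittingSubgroup_eq_top_iff.1 hnil
      refine ⟨Fin.cons ⊥ fun _ => ⊤, rfl, by rw [← Fin.succ_last, Fin.cons_succ], ?_, ?_, fun i h => ?_⟩
      · intro i j hij
        induction j using Fin.cases with
        | zero => rw [Fin.le_zero_iff.1 hij]
        | succ j => simp
      · intro i
        induction i using Fin.cases with
        | zero => exact inferInstanceAs ((⊥ : Subgroup G).Normal)
        | succ j => exact inferInstanceAs ((⊤ : Subgroup G).Normal)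
      · infer_instance
    · haveI : Nonempty (Cfsg.IrrCharacter G) := ⟨trivIrr G⟩
      obtain ⟨χ, hχ⟩ := Finite.exists_max (fun χ : Cfsg.IrrCharacter G => Cfsg.charDegree (χ : G → ℂ))
      have hsub : degs (G ⧸ F) ⊆ degs G \ {Cfsg.charDegree (χ : G → ℂ)} := by
        rintro _ ⟨ψ, rfl⟩
        refine ⟨⟨_, Cfsg.Agent.CharKernel.charDegree_quotEquiv F ψ⟩, fun e => hnil ?_⟩
        refine fitting_eq_top (Cfsg.Agent.CharKernel.quotEquiv F ψ).1 (Cfsg.Agent.CharKernel.quotEquiv F ψ).2 fun φ => ?_
        rw [Cfsg.Agent.CharKernel.charDegree_quotEquiv, show Cfsg.charDegree (ψ : G ⧸ F → ℂ) = _ from e]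
        exact hχ φ
      have hfin : (degs G).Finite := Set.finite_range (fun χ : Cfsg.IrrCharacter G => Cfsg.charDegree (χ : G → ℂ))
      have hk : (degs (G ⧸ F)).ncard ≤ k := by
        have h1 := Set.ncard_le_ncard hsub hfin.sdiff
        rw [Set.ncard_sdiff_singleton_of_mem (show _ ∈ degs G from ⟨χ, rfl⟩)] at h1
        omega
      obtain ⟨N, h0, hl, hmono, hnorm, hnq⟩ := ih (G ⧸ F) inferInstance hk
      let π := QuotientGroup.mk' F
      have hπ : Function.Surjective π := QuotientGroup.mk'_surjective F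
      refine ⟨Fin.cons ⊥ fun j => (N j).comap π, rfl, ?_, ?_, ?_, fun i h => ?_⟩
      · rw [← Fin.succ_last, Fin.cons_succ, hl, Subgroup.comap_top]
      · intro i j hij
        induction i using Fin.cases with
        | zero => simp
        | succ i =>
          induction j using Fin.cases with
          | zero => simp at hij
          | succ j =>
            simp only [Fin.cons_succ]
            exact Subgroup.comap_mono (hmono (Fin.succ_le_succ_iff.1 hij))
      · intro i
        induction i using Fin.cases with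
        | zero => exact inferInstanceAs ((⊥ : Subgroup G).Normal)
        | succ j => exact (hnorm j).comap π
      · induction i using Fin.cases with
        | zero =>
          have he : (Fin.cons ⊥ fun j => (N j).comap π : Fin (k + 2) → Subgroup G) (0 : Fin (k + 1)).succ = F := by
            rw [Fin.cons_succ, h0, MonoidHom.comap_bot, QuotientGroup.ker_mk']
          haveI : Group.IsNilpotent ((Fin.cons ⊥ fun j => (N j).comap π : Fin (k + 2) → Subgroup G) (0 : Fin (k + 1)).succ) := by
            rw [he]; infer_instance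
          exact nilpotent_quotient _
        | succ j =>
          let A := (N j.succ).comap π
          let B := (N j.castSucc).comap π
          haveI hB : ((N j.castSucc).subgroupOf (N j.succ)).Normal := (hnorm _).subgroupOf _
          haveI := hnq j hB
          haveI hB' : (B.subgroupOf A).Normal := ((hnorm _).comap π).subgroupOf _
          let φ : A →* ↥(N j.succ) ⧸ (N j.castSucc).subgroupOf (N j.succ) :=
            (QuotientGroup.mk' _).comp (π.subgroupComap (N j.succ))
          have hker : φ.ker = B.subgroupOf A := by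
            ext x
            rw [MonoidHom.mem_ker, Subgroup.mem_subgroupOf]
            exact QuotientGroup.eq_one_iff _
          have hnil2 : Group.IsNilpotent (A ⧸ B.subgroupOf A) :=
            Subgroup.isNilpotent_of_ker_le_center (QuotientGroup.lift (B.subgroupOf A) φ hker.ge)
              (by
                refine le_trans (le_of_eq ?_) bot_le
                rw [QuotientGroup.ker_lift, hker, QuotientGroup.map_mk'_self])
          exact hnil2

/-- Let G be a finite solvable group with exactly n distinct irreducible character degrees. Then G has normal subgroups 1 = N₀ ≤ N₁ ≤ ⋯ ≤ Nₙ = G with every quotient N_{i+1}/N_i nilpotent (the nilpotent length of G is at most n). -/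
theorem result {G : Type*} [Group G] [Finite G] (hsolv : Group.IsSolvable G) (n : ℕ) (hcd : Nat.card {d : ℕ // ∃ χ : Cfsg.IrrCharacter G, Cfsg.charDegree (χ : G → ℂ) = d} = n) : ∃ N : Fin (n + 1) → Subgroup G, N 0 = ⊥ ∧ N (Fin.last n) = ⊤ ∧ Monotone N ∧ (∀ i, (N i).Normal) ∧ ∀ i : Fin n, ∀ h : (N i.castSucc).subgroupOf (N i.succ) |>.Normal, Group.IsNilpotent (↥(N i.succ) ⧸ (N i.castSucc).subgroupOf (N i.succ)) := by
  haveI : Finite (Cfsg.IrrCharacter G) := finite_irrCharacter
  refine series n G hsolv (le_of_eq ?_)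
  rw [← Nat.card_coe_set_eq]
  exact hcd

end Cfsg.Agent.S4462
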