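import Cfsg.Statements.S4464
import Mathlib
import Cfsg.Agent.Lib.TIFixed
import Cfsg.Agent.Lib.RealChars
import Cfsg.Agent.Lib.CharProjDegree
import Cfsg.Agent.Lib.CharBasicLinear
import Cfsg.Agent.Lib.CharInducedCorr
import Cfsg.Agent.Lib.CharInducedRep
import Cfsg.Agent.Lib.ClassSizeGraph76

set_option autoImplicit false
open Cfsg

namespace Cfsg.Agent.S4464
open Cfsg.Agent.CharBasic Cfsg.Agent.CharBasicOrth Cfsg.Agent.CharBasicDecomp Cfsg.Agent.CharInduced
open scoped Pointwise ComplexConjugate

universe w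

noncomputable local instance (priority := high) fintypeOfFin' {α : Type*} [Finite α] : Fintype α :=
  Fintype.ofFinite α

theorem apply_one_le {G : Type w} [Group G] [Finite G] (H : Subgroup G) (θ : IrrCharacter H) :
    ∃ χ : IrrCharacter G, classInner (fun h : H => (χ : G → ℂ) h) (θ : H → ℂ) ≠ 0 ∧
      charDegree (θ : H → ℂ) ≤ charDegree (χ : G → ℂ) := by
  classical
  have hθ := isCharacter_of_isIrrCharacter θ.2
  have h0 : indFun H (θ : H → ℂ) ≠ 0 := fun h => by
    have h1 := congrFun h 1
    rw [ind_one_apply, CharAverage.irr_apply_one, Pi.zero_apply, ← Nat.cast_mul,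
      Nat.cast_eq_zero] at h1
    exact Nat.mul_ne_zero Subgroup.FiniteIndex.index_ne_zero
      (CharAverage.irr_degree_pos θ).ne' h1
  obtain ⟨χ, hχ, hc⟩ := exists_constituent (isCharacter_ind H hθ) h0
  rw [inner_ind_left H _ (isClassFunction_irr hχ), ← CharInduced.inner_conj_symm, Ne,
    map_eq_zero] at hc
  refine ⟨⟨χ, hχ⟩, fun h => hc h, ?_⟩
  have hr := isCharacter_res H (isCharacter_of_isIrrCharacter hχ)
  obtain ⟨k, hk⟩ := isCharacter_apply_one (isCharacter_sub_constituent hr θ.2 hc)
  rw [Pi.sub_apply, OneMemClass.coe_one, CharAverage.irr_apply_one,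
    CharAverage.apply_one_eq_charDegree (isCharacter_of_isIrrCharacter hχ), sub_eq_iff_eq_add,
    ← Nat.cast_add, Nat.cast_inj] at hk
  show charDegree (θ : H → ℂ) ≤ charDegree χ
  omega

theorem eq_top_of_central {G : Type w} [Group G] [Finite G] {p : ℕ} [Fact p.Prime]
    (hdeg : ∀ χ : IrrCharacter G, charDegree (χ : G → ℂ) < p) (N : Subgroup G) [N.Normal]
    (hNp : ¬ p ∣ Nat.card N) {k : ℕ} (hk : N.index = p ^ k) (P : Subgroup G) (hP : IsPGroup p P) :
    ∀ x ∈ P, ∀ n ∈ N, x * n = n * x := by
  classical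
  have hinv : ∀ (θ : IrrCharacter N) (g : G) (n : N),
      (θ : N → ℂ) (MulAut.conjNormal g n) = (θ : N → ℂ) n := by
    intro θ g n
    obtain ⟨χ, hc, -⟩ := apply_one_le N θ
    obtain ⟨j, d, hd, hχd, hj⟩ := CharProjDegree.degree_dvd N χ.2 θ.2 hc
    have hχp := hdeg χ
    rw [CharAverage.irr_apply_one, Nat.cast_inj] at hχd
    obtain ⟨i, -, rfl⟩ := (Nat.dvd_prime_pow (Fact.out : p.Prime)).1 (hk ▸ hj)
    have hi : i = 0 := by
      by_contra hi
      have h1 : p ≤ p ^ i := Nat.le_self_pow hi p
      have h2 : 0 < d := by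
        have := CharAverage.irr_apply_one θ
        rw [hd, Nat.cast_inj] at this
        rw [this]; exact CharAverage.irr_degree_pos θ
      have := Nat.le_mul_of_pos_left (p ^ i) h2
      omega
    have he : (fun n : N => (χ : G → ℂ) n) = (θ : N → ℂ) := by
      refine eq_of_constituent_of_apply_one_le
        (isCharacter_res N (isCharacter_of_isIrrCharacter χ.2)) θ.2 hc (le_of_eq ?_)
      show ((χ : G → ℂ) ((1 : N) : G)).re = _
      rw [OneMemClass.coe_one, CharAverage.irr_apply_one, hχd, hi, pow_zero, mul_one, hd]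
    rw [← he]
    show (χ : G → ℂ) (g * n * g⁻¹) = (χ : G → ℂ) n
    exact (isClassFunction_irr χ.2) (n : G) g
  intro x hx
  have hclass : ∀ (g : G) (n : N), IsConj (MulAut.conjNormal g n) n := by
    intro g n
    have h := RealChars.card_fixed_eq (fun n : N => MulAut.conjNormal g n) fun χ => by
      rw [show (fun n : N => (χ : N → ℂ) (MulAut.conjNormal g n)) = (χ : N → ℂ) from
        funext fun n => hinv χ g n]
      exact χ.2
    rw [Nat.card_congr (Equiv.subtypeUnivEquiv fun χ => hinv χ g), card_irrCharacter] at h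
    by_contra hn
    refine (ne_of_lt ?_) h.symm
    refine Finite.card_subtype_lt (x := ConjClasses.mk n) ?_
    exact fun hall => hn (hall n rfl)
  let C : Subgroup N := (Subgroup.centralizer (P : Set G)).subgroupOf N
  suffices hC : C = ⊤ by
    intro n hn
    have h1 : (⟨n, hn⟩ : N) ∈ C := hC ▸ Subgroup.mem_top _
    exact (Subgroup.mem_centralizer_iff.1 (Subgroup.mem_subgroupOf.1 h1)) x hx
  refine ClassSizeGraph76.eq_top_of_conj_cover C fun n => ?_
  let X := {m : N // IsConj n m}
  letI : MulAction P X :=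
    { smul := fun a m => ⟨MulAut.conjNormal (a : G) m.1, m.2.trans (hclass a m.1).symm⟩
      one_smul := fun m => Subtype.ext (by
        show MulAut.conjNormal ((1 : P) : G) m.1 = m.1
        rw [OneMemClass.coe_one, map_one]; rfl)
      mul_smul := fun a b m => Subtype.ext (by
        show MulAut.conjNormal ((a * b : P) : G) m.1 = MulAut.conjNormal (a : G) (MulAut.conjNormal (b : G) m.1)
        rw [Subgroup.coe_mul, map_mul]; rfl) }
  have hX : ¬ p ∣ Nat.card X := fun h => hNp (h.trans ⟨_, (card_conj_mul_card_centralizer n).symm⟩)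
  obtain ⟨m, hm⟩ := IsPGroup.nonempty_fixed_point_of_prime_not_dvd_card hP X hX
  obtain ⟨c, hc⟩ := isConj_iff.1 m.2
  refine ⟨c, Subgroup.mem_subgroupOf.2 (Subgroup.mem_centralizer_iff.2 fun a ha => ?_)⟩
  have h1 := congrArg (fun z : X => (z.1 : G)) (hm ⟨a, ha⟩)
  change ((MulAut.conjNormal a m.1 : N) : G) = ((m.1 : N) : G) at h1
  rw [MulAut.conjNormal_apply] at h1
  rw [hc]
  exact mul_inv_eq_iff_eq_mul.1 h1

theorem exists_irr_sum_ne_zero {G : Type w} [Group G] [Finite G] (N : Subgroup G) (hN : N ≠ ⊤) :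
    ∃ χ : IrrCharacter G, χ ≠ trivIrr G ∧ ∑ h : N, (χ : G → ℂ) h ≠ 0 := by
  classical
  by_contra hcon
  push Not at hcon
  have hcol : ∑ χ : IrrCharacter G, (χ : G → ℂ) 1 * ∑ h : N, (χ : G → ℂ) h = (Nat.card G : ℂ) := by
    simp only [Finset.mul_sum]
    rw [Finset.sum_comm, Finset.sum_eq_single (1 : N)]
    · have h1 : ∑ χ : IrrCharacter G, (χ : G → ℂ) 1 ^ 2 = (Nat.card G : ℂ) := sum_sq_apply_one
      rw [← h1]
      exact Finset.sum_congr rfl fun χ _ => by rw [OneMemClass.coe_one, pow_two]
    · intro h _ hne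
      have h1 := sum_irr_mul_conj (h : G) 1
      rw [if_neg (fun hc : IsConj (h : G) 1 => hne (Subtype.ext (isConj_one_left.1 hc)))] at h1
      refine Eq.trans (Finset.sum_congr rfl fun χ _ => ?_) h1
      rw [CharAverage.irr_apply_one, Complex.conj_natCast, mul_comm]
    · simp
  rw [Finset.sum_eq_single (trivIrr G) (fun χ _ hne => mul_eq_zero_of_right _ (hcon χ hne)) (by simp)] at hcol
  simp only [trivIrr, Finset.sum_const, Finset.card_univ, nsmul_eq_mul, mul_one, one_mul,
    Nat.cast_inj, ← Nat.card_eq_fintype_card] at hcol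
  exact hN (Subgroup.eq_top_of_card_eq N hcol)

theorem main (p : ℕ) [Fact p.Prime] : ∀ (n : ℕ) {G : Type w} [Group G] [Finite G],
    Nat.card G = n → (∀ χ : IrrCharacter G, charDegree (χ : G → ℂ) < p) → ∀ P : Sylow p G,
    (P : Subgroup G).Normal ∧ ∀ x ∈ (P : Subgroup G), ∀ y ∈ (P : Subgroup G), x * y = y * x := by
  intro n
  induction n using Nat.strong_induction_on with
  | _ n ih =>
  intro G _ _ hn hdeg P
  classical
  have hcomm : ∀ x ∈ (P : Subgroup G), ∀ y ∈ (P : Subgroup G), x * y = y * x := by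
    have h := CharBasicLinear.comm_of_forall_apply_one (G := (P : Subgroup G)) fun θ => by
      obtain ⟨χ, -, hle⟩ := apply_one_le (P : Subgroup G) θ
      obtain ⟨k, hk⟩ := IsPGroup.iff_card.1 P.2
      obtain ⟨i, -, hi⟩ := (Nat.dvd_prime_pow (Fact.out : p.Prime)).1
        (hk ▸ CharAverage.charDegree_dvd_card θ)
      have hi0 : i = 0 := by
        by_contra h0
        have h1 : p ≤ p ^ i := Nat.le_self_pow h0 p
        have := hdeg χ
        omega
      rw [CharAverage.irr_apply_one, hi, hi0, pow_zero, Nat.cast_one]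
    exact fun x hx y hy => congrArg Subtype.val (h ⟨x, hx⟩ ⟨y, hy⟩)
  refine ⟨?_, hcomm⟩
  have hsub : ∀ H : Subgroup G, H ≠ ⊤ → ∀ Q : Sylow p H, (Q : Subgroup H).Normal := fun H hH Q =>
    (ih (Nat.card H) (by
      rw [← hn]
      exact lt_of_le_of_ne H.card_le_card_group fun e => hH (Subgroup.eq_top_of_card_eq H e))
      rfl (fun θ => by
        obtain ⟨χ, -, hle⟩ := apply_one_le H θ
        exact lt_of_le_of_lt hle (hdeg χ)) Q).1
  by_cases hN : ∃ N : Subgroup G, N.Normal ∧ N ≠ ⊥ ∧ N ≠ ⊤
  · obtain ⟨N, hNn, hN1, hN2⟩ := hN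
    have hquot : ∀ (M : Subgroup G) [M.Normal], M ≠ ⊥ →
        ((P : Subgroup G).map (QuotientGroup.mk' M)).Normal := fun M _ hM =>
      (ih (Nat.card (G ⧸ M)) (by
        rw [← hn, ← Subgroup.index_eq_card, ← M.card_mul_index]
        exact lt_mul_of_one_lt_left (Nat.pos_of_ne_zero Subgroup.FiniteIndex.index_ne_zero)
          ((Subgroup.one_lt_card_iff_ne_bot M).2 hM)) rfl (fun ψ => by
        have h := hdeg ⟨_, CharBasic.isIrrCharacter_comap (QuotientGroup.mk' M)
          (QuotientGroup.mk'_surjective M) ψ.2⟩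
        simpa [charDegree] using h) (P.mapSurjective (QuotientGroup.mk'_surjective M))).1
    by_cases hPN : (P : Subgroup G) ⊓ N = ⊥
    · have hNp : ¬ p ∣ Nat.card N := fun hd => by
        obtain ⟨x, hx⟩ := exists_prime_orderOf_dvd_card' p hd
        obtain ⟨Q, hQ⟩ := (IsPGroup.of_card (n := 1) (by
          rw [Nat.card_zpowers, Subgroup.orderOf_coe, hx, pow_one]) :
            IsPGroup p (Subgroup.zpowers (x : G))).exists_le_sylow
        obtain ⟨g, hg⟩ := MulAction.exists_smul_eq G Q P
        have h1 : g * x * g⁻¹ ∈ (P : Subgroup G) ⊓ N := by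
          refine ⟨?_, hNn.conj_mem _ x.2 g⟩
          rw [← hg]
          exact Subgroup.mem_map.2 ⟨_, hQ (Subgroup.mem_zpowers _), rfl⟩
        rw [hPN, Subgroup.mem_bot, conj_eq_one_iff] at h1
        rw [(Subtype.ext h1 : x = 1), orderOf_one] at hx
        exact (Fact.out : p.Prime).ne_one hx.symm
      have hnorm := hquot N hN1
      have hPNn : ((P : Subgroup G) ⊔ N).Normal := by
        have h := hnorm.comap (QuotientGroup.mk' N)
        rwa [QuotientGroup.comap_map_mk', sup_comm] at h
      by_cases htop : (P : Subgroup G) ⊔ N = ⊤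
      · have hk : ∃ k, N.index = p ^ k := by
          obtain ⟨k, hk⟩ := IsPGroup.iff_card.1 P.2
          have h1 : N.index = N.relIndex (P : Subgroup G) := by
            rw [← Subgroup.relIndex_top_right, ← htop, Subgroup.relIndex_sup_right]
          have h2 : N.index ∣ p ^ k := by
            rw [h1, ← hk]; exact Subgroup.relIndex_dvd_card N (P : Subgroup G)
          obtain ⟨i, -, hi⟩ := (Nat.dvd_prime_pow (Fact.out : p.Prime)).1 h2
          exact ⟨i, hi⟩
        obtain ⟨k, hk⟩ := hk
        have hcent := eq_top_of_central hdeg N hNp hk (P : Subgroup G) P.2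
        refine Subgroup.normalizer_eq_top_iff.1 (eq_top_iff.2 ?_)
        rw [← htop]
        refine sup_le Subgroup.le_normalizer ?_
        refine le_trans ?_ (Subgroup.centralizer_le_normalizer _)
        exact fun m hm => Subgroup.mem_centralizer_iff.2 fun a ha => hcent a ha m hm
      · have hQ := hsub _ htop (P.subtype le_sup_left)
        refine ⟨fun x hx g => ?_⟩
        let e := MulAut.conjNormal (H := (P : Subgroup G) ⊔ N) g
        let P' : Sylow p ↥((P : Subgroup G) ⊔ N) := P.subtype le_sup_left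
        have : Finite (Sylow p ↥((P : Subgroup G) ⊔ N)) := inferInstance
        have huniq := Sylow.unique_of_normal (P.subtype le_sup_left) hQ
        have h2 : (P' : Subgroup ↥((P : Subgroup G) ⊔ N)).map
            e.toMonoidHom = (P' : Subgroup ↥((P : Subgroup G) ⊔ N)) := by
          have := @Subsingleton.elim _ huniq.instSubsingleton
            (P'.mapSurjective (f := e.toMonoidHom) e.surjective) P'
          exact congrArg Sylow.toSubgroup this
        have h3 : e ⟨x, Subgroup.mem_sup_left hx⟩ ∈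
            (P' : Subgroup ↥((P : Subgroup G) ⊔ N)) := by
          rw [← h2]; exact Subgroup.mem_map.2 ⟨_, hx, rfl⟩
        exact h3
    · -- a nontrivial normal `p`-subgroup
      by_cases hP1 : ((P : Subgroup G) ⊓ N).Normal
      · have hnorm := hquot _ hPN
        have h := hnorm.comap (QuotientGroup.mk' ((P : Subgroup G) ⊓ N))
        rwa [QuotientGroup.comap_map_mk', sup_of_le_right inf_le_left] at h
      · exfalso
        refine hP1 ⟨fun x hx g => ?_⟩
        obtain ⟨R, hR⟩ := ((P.2.to_le inf_le_left).comap_of_injective N.subtype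
          N.subtype_injective : IsPGroup p (((P : Subgroup G) ⊓ N).subgroupOf N)).exists_le_sylow
        have hRn := hsub N hN2 R
        have huniq := Sylow.unique_of_normal R hRn
        have hgx : g * x * g⁻¹ ∈ N := hNn.conj_mem _ hx.2 g
        have hp1 : IsPGroup p (Subgroup.zpowers (⟨g * x * g⁻¹, hgx⟩ : N)) := by
          obtain ⟨k, hk⟩ := IsPGroup.iff_orderOf.1 P.2 ⟨x, hx.1⟩
          refine IsPGroup.of_card (n := k) ?_
          rw [Nat.card_zpowers, ← Subgroup.orderOf_coe, ← hk, Subgroup.orderOf_mk]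
          exact (MulAut.conj g).orderOf_eq x
        obtain ⟨R', hR'⟩ := hp1.exists_le_sylow
        -- the Sylow `p`-subgroup of `N` is contained in `P`
        have hRP : ∀ y ∈ (R : Subgroup N), (y : G) ∈ (P : Subgroup G) := by
          have hRm : IsPGroup p ((R : Subgroup N).map N.subtype) := R.2.map _
          have hn' : ((R : Subgroup N).map N.subtype).Normal := by
            have : (R : Subgroup N).Characteristic := Sylow.characteristic_of_normal R hRn
            exact ConjAct.normal_of_characteristic_of_normal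
          intro y hy
          exact (hRm.le_sylow_of_normal P) ⟨y, hy, rfl⟩
        exact ⟨hRP _ (@Subsingleton.elim _ huniq.instSubsingleton R' R ▸ hR' (Subgroup.mem_zpowers _)), hgx⟩
  · push Not at hN
    by_contra hPn
    have hTI : TIFixed.IsTI P := by
      intro g hg
      by_contra hne
      obtain ⟨x, hx, hx1⟩ := (Subgroup.bot_or_exists_ne_one _).resolve_left hne
      set C := Subgroup.centralizer ({x} : Set G) with hC
      have hCtop : C ≠ ⊤ := by
        intro hC'
        have hxc : x ∈ Subgroup.center G := Subgroup.mem_center_iff.2 fun y => by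
          have : y ∈ C := hC' ▸ Subgroup.mem_top y
          exact Subgroup.mem_centralizer_singleton_iff.1 this
        have hz : Subgroup.center G = ⊤ := hN _ inferInstance fun h => hx1 (by
          rwa [h, Subgroup.mem_bot] at hxc)
        exact hPn ⟨fun a ha b => by
          rw [Subgroup.mem_center_iff.1 (hz ▸ Subgroup.mem_top a : a ∈ Subgroup.center G) b,
            mul_inv_cancel_right]; exact ha⟩
      have hPC : (P : Subgroup G) ≤ C := fun a ha =>
        Subgroup.mem_centralizer_singleton_iff.2 (hcomm a ha x hx.1)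
      have hgPC : ((g • P : Sylow p G) : Subgroup G) ≤ C := by
        rintro _ ⟨a, ha, rfl⟩
        obtain ⟨b, hb, hbx⟩ := hx.2
        refine Subgroup.mem_centralizer_singleton_iff.2 ?_
        rw [← hbx]
        have := congrArg (MulAut.conj g) (hcomm a ha b hb)
        simpa using this
      have hQ := hsub C hCtop (P.subtype hPC)
      have huniq := Sylow.unique_of_normal _ hQ
      refine hg ?_
      have h := congrArg (fun R : Sylow p C => (R : Subgroup C).map C.subtype)
        (@Subsingleton.elim _ huniq.instSubsingleton ((g • P).subtype hgPC) (P.subtype hPC))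
      simp only [Sylow.coe_subtype, Subgroup.map_subgroupOf_eq_of_le hgPC,
        Subgroup.map_subgroupOf_eq_of_le hPC] at h
      exact Sylow.smul_eq_iff_mem_normalizer.1 (Sylow.ext h)
    have hNtop : Subgroup.normalizer ((P : Subgroup G) : Set G) ≠ ⊤ := fun h =>
      hPn (Subgroup.normalizer_eq_top_iff.1 h)
    obtain ⟨χ, hne, hsum⟩ := exists_irr_sum_ne_zero _ hNtop
    refine hsum (TIFixed.sum_eq_zero P hTI χ hne ?_ _ le_rfl)
    have hP1 : (P : Subgroup G) ≠ ⊥ := fun h => hPn (h ▸ inferInstance)
    obtain ⟨k, hk⟩ := IsPGroup.iff_card.1 P.2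
    have hk0 : k ≠ 0 := fun h => by
      rw [h, pow_zero] at hk
      exact hP1 (Subgroup.eq_bot_of_card_eq _ hk)
    rw [hk]
    exact lt_of_lt_of_le (hdeg χ) (Nat.le_self_pow hk0 p)


/-- Let p be a prime and G a finite group all of whose irreducible character degrees are less than p. Then G has a normal abelian Sylow p-subgroup. -/
theorem result {G : Type*} [Group G] [Finite G] (p : ℕ) (hp : p.Prime) (hb : ∀ χ : Cfsg.IrrCharacter G, Cfsg.charDegree (χ : G → ℂ) < p) : ∃ P : Subgroup G, P.Normal ∧ (∀ x ∈ P, ∀ y ∈ P, x * y = y * x) ∧ IsPGroup p P ∧ ¬ p ∣ P.index := by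
  have : Fact p.Prime := ⟨hp⟩
  obtain ⟨P⟩ : Nonempty (Sylow p G) := inferInstance
  obtain ⟨hn, hc⟩ := main p _ rfl hb P
  exact ⟨P, hn, hc, P.2, P.not_dvd_index⟩

end Cfsg.Agent.S4464
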