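import Cfsg.Statements.S4463
import Mathlib
import Cfsg.Agent.Lib.CharKernel
import Cfsg.Agent.Lib.CharGallagher
import Cfsg.Agent.Lib.CharProjDegree
import Cfsg.Agent.Lib.CharInducedBurnside
import Cfsg.Agent.S4464

set_option autoImplicit false
open Cfsg

namespace Cfsg.Agent.S4463
open Cfsg.Agent.CharBasic Cfsg.Agent.CharBasicOrth Cfsg.Agent.CharBasicDecomp Cfsg.Agent.CharInduced
open scoped ComplexConjugate

universe w

noncomputable local instance (priority := high) fintypeFin63 {α : Type*} [Finite α] : Fintype α :=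
  Fintype.ofFinite α

variable {G : Type w} [Group G] [Finite G] {b : ℕ}

theorem deg_eq_of_apply_one {χ : G → ℂ} {n : ℕ} (h : χ 1 = n) : charDegree χ = n := by
  simp [charDegree, h]

theorem deg_sub_le (hb : ∀ χ : IrrCharacter G, charDegree (χ : G → ℂ) ≤ b) (H : Subgroup G)
    (θ : IrrCharacter H) : charDegree (θ : H → ℂ) ≤ b := by
  obtain ⟨χ, -, h⟩ := S4464.apply_one_le H θ
  exact h.trans (hb χ)

theorem res_eq (hb : ∀ χ : IrrCharacter G, charDegree (χ : G → ℂ) ≤ b) (H : Subgroup G)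
    (ψ : IrrCharacter H) (hψ : b ≤ charDegree (ψ : H → ℂ)) (χ : IrrCharacter G)
    (hc : classInner (fun h : H => (χ : G → ℂ) h) (ψ : H → ℂ) ≠ 0) :
    (fun h : H => (χ : G → ℂ) h) = (ψ : H → ℂ) := by
  refine eq_of_constituent_of_apply_one_le
    (isCharacter_res H (isCharacter_of_isIrrCharacter χ.2)) ψ.2 hc ?_
  rw [CharAverage.irr_apply_one]
  show ((χ : G → ℂ) ((1 : H) : G)).re ≤ _
  rw [OneMemClass.coe_one, CharAverage.irr_apply_one, Complex.natCast_re, Complex.natCast_re,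
    Nat.cast_le]
  exact (hb χ).trans hψ

theorem exists_ext (hb : ∀ χ : IrrCharacter G, charDegree (χ : G → ℂ) ≤ b) (H : Subgroup G)
    (ψ : IrrCharacter H) (hψ : b ≤ charDegree (ψ : H → ℂ)) :
    ∃ χ : IrrCharacter G, ∀ h : H, (χ : G → ℂ) h = (ψ : H → ℂ) h := by
  obtain ⟨χ, hc, -⟩ := S4464.apply_one_le H ψ
  exact ⟨χ, congrFun (res_eq hb H ψ hψ χ hc)⟩

/-- The support of a maximal degree character of a subgroup lies in every conjugate. -/
theorem supp_core (hb : ∀ χ : IrrCharacter G, charDegree (χ : G → ℂ) ≤ b) (H : Subgroup G)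
    (ψ : IrrCharacter H) (hψ : b ≤ charDegree (ψ : H → ℂ)) (h : H)
    (hne : (ψ : H → ℂ) h ≠ 0) (x : G) : x⁻¹ * h * x ∈ H := by
  classical
  obtain ⟨θ, hθ⟩ := exists_ext hb H ψ hψ
  obtain ⟨m, hm, hsum⟩ := exists_mult (isCharacter_ind H (isCharacter_of_isIrrCharacter ψ.2))
  have hres : ∀ k : H, indFun H (ψ : H → ℂ) k = (∑ χ, (m χ : ℂ)) * (ψ : H → ℂ) k := by
    intro k
    rw [congrFun hsum, Finset.sum_apply, Finset.sum_mul]
    refine Finset.sum_congr rfl fun χ _ => ?_
    rw [Pi.smul_apply, smul_eq_mul]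
    rcases eq_or_ne (m χ) 0 with h0 | h0
    · rw [h0, Nat.cast_zero, zero_mul, zero_mul]
    · have hc : classInner (fun h : H => (χ : G → ℂ) h) (ψ : H → ℂ) ≠ 0 := by
        intro h1
        apply h0
        have h2 := hm χ
        rw [inner_ind_left H _ (isClassFunction_irr χ.2), ← CharInduced.inner_conj_symm, h1,
          map_zero] at h2
        exact_mod_cast h2.symm
      rw [congrFun (res_eq hb H ψ hψ χ hc) k]
  have h1 : (∑ χ, (m χ : ℂ)) = (H.index : ℂ) := by
    have h2 := hres 1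
    rw [OneMemClass.coe_one, ind_one_apply] at h2
    exact (mul_right_cancel₀ (isIrrCharacter_apply_one_ne_zero ψ.2) h2).symm
  have hval : indFun H (ψ : H → ℂ) (h : G) = (Nat.card H : ℂ)⁻¹ *
      ((Finset.univ.filter fun x : G => x⁻¹ * h * x ∈ H).card * (ψ : H → ℂ) h) := by
    rw [indFun_apply, ← nsmul_eq_mul, ← Finset.sum_const, Finset.sum_filter]
    congr 1
    refine Finset.sum_congr rfl fun y _ => ?_
    split_ifs with hy
    · rw [ext_zero_of_mem _ hy, ← hθ ⟨_, hy⟩, ← hθ h]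
      exact classFunction_conj' (isClassFunction_irr θ.2) _ _
    · exact ext_zero_of_not_mem _ hy
  rw [hres, h1, ← mul_assoc] at hval
  have h3 := mul_right_cancel₀ hne hval
  have hH : (Nat.card H : ℂ) ≠ 0 := Nat.cast_ne_zero.2 Nat.card_pos.ne'
  rw [eq_inv_mul_iff_mul_eq₀ hH, ← Nat.cast_mul, Nat.cast_inj, H.card_mul_index] at h3
  have h4 : (Finset.univ.filter fun x : G => x⁻¹ * h * x ∈ H) = Finset.univ :=
    Finset.eq_univ_of_card _ (by rw [← h3, Nat.card_eq_fintype_card])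
  have h5 := Finset.ext_iff.1 h4 x
  simpa using h5

theorem relIndex_le_sq (N H : Subgroup G) (ψ : IrrCharacter H)
    (hs : ∀ h : H, (ψ : H → ℂ) h ≠ 0 → (h : G) ∈ N) :
    N.relIndex H ≤ charDegree (ψ : H → ℂ) ^ 2 := by
  classical
  have h1 := classInner_irr_self ψ.2
  rw [classInner, inv_mul_eq_one₀ (Nat.cast_ne_zero.2 Nat.card_pos.ne')] at h1
  have h2 : (Nat.card H : ℝ) = ∑ h : H, ‖(ψ : H → ℂ) h‖ ^ 2 := by
    have h3 := congrArg Complex.re h1
    rw [Complex.natCast_re, Complex.re_sum] at h3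
    rw [h3]
    refine Finset.sum_congr rfl fun h _ => ?_
    rw [Complex.mul_conj', ← Complex.ofReal_pow, Complex.ofReal_re]
  have h4 : ∑ h : H, ‖(ψ : H → ℂ) h‖ ^ 2 ≤
      ∑ _h ∈ (Finset.univ.filter fun h : H => h ∈ N.subgroupOf H),
        ((charDegree (ψ : H → ℂ) : ℝ) ^ 2) := by
    rw [Finset.sum_filter]
    refine Finset.sum_le_sum fun h _ => ?_
    split_ifs with hN
    · exact pow_le_pow_left₀ (norm_nonneg _) (CharAverage.irr_norm_le ψ h) 2
    · have : (ψ : H → ℂ) h = 0 := by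
        by_contra hne
        exact hN (Subgroup.mem_subgroupOf.2 (hs h hne))
      simp [this]
  rw [Finset.sum_const, nsmul_eq_mul, ← h2, ← Fintype.card_subtype,
    ← Nat.card_eq_fintype_card] at h4
  rw [Subgroup.relIndex]
  have h5 : Nat.card H ≤ Nat.card (N.subgroupOf H) * charDegree (ψ : H → ℂ) ^ 2 := by
    exact_mod_cast h4
  rw [← (N.subgroupOf H).card_mul_index] at h5
  exact Nat.le_of_mul_le_mul_left h5 Nat.card_pos

theorem sum_of_vanish (K : Subgroup G) (F : G → ℂ) (hF : ∀ g, g ∉ K → F g = 0) :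
    ∑ g : G, F g = ∑ k : K, F k := by
  classical
  rw [← Finset.sum_subset (Finset.subset_univ (Finset.univ.filter fun g : G => g ∈ K))
    (fun g _ hg => hF g fun h => hg (Finset.mem_filter.2 ⟨Finset.mem_univ g, h⟩))]
  exact Finset.sum_subtype _ (fun g => by simp) F

/-- The bound for the degrees of a normal subgroup with nonabelian factor group. -/
theorem half (hb : ∀ χ : IrrCharacter G, charDegree (χ : G → ℂ) ≤ b) (N : Subgroup G) [N.Normal]
    (χ : IrrCharacter (G ⧸ N)) (hχ : 2 ≤ charDegree (χ : G ⧸ N → ℂ)) (η : IrrCharacter N) :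
    2 * charDegree (η : N → ℂ) ≤ b := by
  by_contra hlt
  push Not at hlt
  obtain ⟨θ, hc, hle⟩ := S4464.apply_one_le N η
  obtain ⟨k, d, hd, hk, -⟩ := CharProjDegree.degree_dvd N θ.2 η.2 hc
  rw [CharAverage.irr_apply_one, Nat.cast_inj] at hd
  rw [CharAverage.irr_apply_one, Nat.cast_inj] at hk
  have hθb := hb θ
  have hd0 := CharAverage.irr_degree_pos η
  have hθ0 := CharAverage.irr_degree_pos θ
  have hk1 : k = 1 := by
    rcases k with _ | _ | k
    · simp only [mul_zero] at hk; omega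
    · rfl
    · have : d * 2 ≤ d * (k + 1 + 1) := Nat.mul_le_mul_left d (by omega)
      omega
  have hres : (fun n : N => (θ : G → ℂ) n) = (η : N → ℂ) := by
    refine eq_of_constituent_of_apply_one_le
      (isCharacter_res N (isCharacter_of_isIrrCharacter θ.2)) η.2 hc (le_of_eq ?_)
    show ((θ : G → ℂ) ((1 : N) : G)).re = _
    rw [OneMemClass.coe_one, CharAverage.irr_apply_one, CharAverage.irr_apply_one, hk, hk1,
      mul_one, hd]
  have hβ : IsIrrCharacter G ((χ : G ⧸ N → ℂ) ∘ QuotientGroup.mk' N) :=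
    isIrrCharacter_comap (QuotientGroup.mk' N) (QuotientGroup.mk'_surjective N) χ.2
  have hmem := (CharGallagher.bijOn_one N η.2 θ.2 (congrFun hres)).mapsTo
    (x := (χ : G ⧸ N → ℂ) ∘ QuotientGroup.mk' N) ⟨hβ, fun n => by
      simp [(QuotientGroup.eq_one_iff (n : G)).2 n.2]⟩
  have h3 := hb ⟨_, hmem.1⟩
  rw [deg_eq_of_apply_one (n := charDegree (χ : G ⧸ N → ℂ) * charDegree (θ : G → ℂ)) (by
    simp [CharAverage.irr_apply_one])] at h3
  have := Nat.mul_le_mul_right (charDegree (θ : G → ℂ)) hχ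
  omega

/-- The inductive statement. -/
def Good (c : ℕ) : Prop :=
  ∀ (G : Type w) [Group G] [Finite G], (∀ χ : IrrCharacter G, charDegree (χ : G → ℂ) ≤ c) →
    ∃ A : Subgroup G, (∀ x ∈ A, ∀ y ∈ A, x * y = y * x) ∧ A.index ≤ (Nat.factorial c) ^ 2

theorem step {c : ℕ} (ih : ∀ m < b, Good.{w} m) (K : Subgroup G) (hc : c < b)
    (hK : ∀ θ : IrrCharacter K, charDegree (θ : K → ℂ) ≤ c)
    (h : K.index * (Nat.factorial c) ^ 2 ≤ (Nat.factorial b) ^ 2) :
    ∃ A : Subgroup G, (∀ x ∈ A, ∀ y ∈ A, x * y = y * x) ∧ A.index ≤ (Nat.factorial b) ^ 2 := by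
  obtain ⟨A, hA, hAi⟩ := ih c hc K hK
  refine ⟨A.map K.subtype, ?_, ?_⟩
  · rintro _ ⟨x, hx, rfl⟩ _ ⟨y, hy, rfl⟩
    rw [← map_mul, ← map_mul, hA x hx y hy]
  · rw [Subgroup.index_map_subtype, mul_comm]
    exact (Nat.mul_le_mul_left _ hAi).trans h

theorem pred_arith {i : ℕ} (h : i ≤ b ^ 2) (hb : 1 ≤ b) :
    i * (Nat.factorial (b - 1)) ^ 2 ≤ (Nat.factorial b) ^ 2 := by
  rw [← Nat.mul_factorial_pred (by omega : b ≠ 0), mul_pow]
  exact Nat.mul_le_mul_right _ h

theorem half_arith_three {i : ℕ} (hb : 3 ≤ b) (h : i ≤ b ^ 3) :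
    i * (Nat.factorial (b / 2)) ^ 2 ≤ (Nat.factorial b) ^ 2 := by
  have h1 : (Nat.factorial (b / 2)) ≤ Nat.factorial (b - 2) :=
    Nat.factorial_le (by omega)
  obtain ⟨a, rfl⟩ : ∃ a, b = a + 3 := ⟨b - 3, by omega⟩
  have e : a + 3 - 2 = a + 1 := by omega
  rw [e] at h1
  rw [show Nat.factorial (a + 3) = (a + 3) * ((a + 2) * Nat.factorial (a + 1)) by
    rw [Nat.factorial_succ (a + 2), Nat.factorial_succ (a + 1)], mul_pow, mul_pow, ← mul_assoc]
  refine Nat.mul_le_mul (h.trans ?_) (Nat.pow_le_pow_left h1 2)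
  rw [show (a + 3) ^ 3 = (a + 3) ^ 2 * (a + 3) by ring]
  exact Nat.mul_le_mul_left _ (by nlinarith)

theorem half_arith_four {i : ℕ} (hb : 5 ≤ b) (h : i ≤ b ^ 4) :
    i * (Nat.factorial (b / 2)) ^ 2 ≤ (Nat.factorial b) ^ 2 := by
  have h1 : (Nat.factorial (b / 2)) ≤ Nat.factorial (b - 3) :=
    Nat.factorial_le (by omega)
  obtain ⟨a, rfl⟩ : ∃ a, b = a + 5 := ⟨b - 5, by omega⟩
  have e : a + 5 - 3 = a + 2 := by omega
  rw [e] at h1
  rw [show Nat.factorial (a + 5) = ((a + 5) * ((a + 4) * (a + 3))) * Nat.factorial (a + 2) by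
    rw [Nat.factorial_succ (a + 4), Nat.factorial_succ (a + 3), Nat.factorial_succ (a + 2)]
    ring, mul_pow]
  refine Nat.mul_le_mul (h.trans ?_) (Nat.pow_le_pow_left h1 2)
  rw [show (a + 5) ^ 4 = ((a + 5) * (a + 5)) ^ 2 by ring]
  exact Nat.pow_le_pow_left (Nat.mul_le_mul_left _ (by nlinarith)) 2

theorem exists_nonlinear {Q : Type w} [Group Q] [Finite Q] (h : commutator Q ≠ ⊥) :
    ∃ χ : IrrCharacter Q, 2 ≤ charDegree (χ : Q → ℂ) := by
  by_contra hc
  push Not at hc
  refine h ((commutator_eq_bot_iff_center_eq_top _).2 (eq_top_iff.2 fun x _ =>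
    Subgroup.mem_center_iff.2 fun y => CharBasicLinear.comm_of_forall_apply_one (fun χ => ?_) y x))
  have := hc χ
  have := CharAverage.irr_degree_pos χ
  rw [CharAverage.irr_apply_one, show charDegree (χ : Q → ℂ) = 1 by omega, Nat.cast_one]

theorem deg_quot (hb : ∀ χ : IrrCharacter G, charDegree (χ : G → ℂ) ≤ b) (N : Subgroup G)
    [N.Normal] (χ : IrrCharacter (G ⧸ N)) : charDegree (χ : G ⧸ N → ℂ) ≤ b := by
  have h := hb ⟨_, isIrrCharacter_comap (QuotientGroup.mk' N) (QuotientGroup.mk'_surjective N) χ.2⟩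
  simpa [charDegree] using h

theorem exists_central_scalar {χ : G → ℂ} (hχ : IsIrrCharacter G χ) {z : G}
    (hz : z ∈ Subgroup.center G) : ∃ c : ℂ, ∀ g, χ (g * z) = c * χ g := by
  obtain ⟨n, ρ, hi, rfl⟩ := hχ
  obtain ⟨c, hc⟩ := exists_scalar_of_mem_center ρ hz
  refine ⟨c, fun g => ?_⟩
  simp only [Representation.character, map_mul, hc, mul_smul_comm, map_smul, smul_eq_mul]
  congr 1

/-- The case of a nontrivial centre. -/
theorem caseA (ih : ∀ m < b, Good.{w} m) (hb : ∀ χ : IrrCharacter G, charDegree (χ : G → ℂ) ≤ b)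
    (N : Subgroup G) [N.Normal] (hQ : commutator (G ⧸ N) ≠ ⊥)
    (hmin : ∀ K : Subgroup (G ⧸ N), K.Normal → K ≠ ⊥ → commutator (G ⧸ N) ≤ K)
    (hZ : Subgroup.center (G ⧸ N) ≠ ⊥) :
    ∃ A : Subgroup G, (∀ x ∈ A, ∀ y ∈ A, x * y = y * x) ∧ A.index ≤ (Nat.factorial b) ^ 2 := by
  classical
  obtain ⟨χ, hχ⟩ := exists_nonlinear hQ
  set f := charDegree (χ : G ⧸ N → ℂ) with hf
  have hfb : f ≤ b := deg_quot hb N χ
  set Z := Subgroup.center (G ⧸ N) with hZdef
  have hQZ : commutator (G ⧸ N) ≤ Z := hmin Z inferInstance hZ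
  have hfaith : ∀ x, (χ : G ⧸ N → ℂ) x = (χ : G ⧸ N → ℂ) 1 → x = 1 := by
    intro x hx
    by_contra hx1
    have hn := CharKernel.irrKer_normal χ
    have hle := hmin _ hn fun h => hx1 (by
      have : x ∈ CharKernel.irrKer χ := CharKernel.mem_irrKer.2 hx
      rwa [h, Subgroup.mem_bot] at this)
    obtain ⟨ψ, hψ⟩ := CharKernel.exists_quot_irr (commutator (G ⧸ N)) χ
      fun n hn => CharKernel.mem_irrKer.1 (hle hn)
    have h1 := CharBasicLinear.apply_one_eq_one_of_comm (G := (G ⧸ N) ⧸ commutator (G ⧸ N))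
      (fun u v => (Subgroup.Normal.quotient_commutative_iff_commutator_le.2 le_rfl).is_comm.comm u v) ψ.2
    have h2 := hψ 1
    rw [CharAverage.irr_apply_one, QuotientGroup.mk_one, h1] at h2
    have h3 : f = 1 := by rw [hf]; exact_mod_cast h2
    omega
  have hvan : ∀ g, g ∉ Z → (χ : G ⧸ N → ℂ) g = 0 := by
    intro g hg
    obtain ⟨y, hy⟩ : ∃ y, y * g ≠ g * y := by
      by_contra h
      push Not at h
      exact hg (Subgroup.mem_center_iff.2 h)
    set z := g⁻¹ * y * g * y⁻¹ with hzdef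
    have hzQ : z ∈ commutator (G ⧸ N) := by
      have h := Subgroup.commutator_mem_commutator (Subgroup.mem_top g⁻¹) (Subgroup.mem_top y)
      rwa [← commutator_def, commutatorElement_def, inv_inv] at h
    obtain ⟨c, hc⟩ := exists_central_scalar χ.2 (hQZ hzQ)
    have h1 : (χ : G ⧸ N → ℂ) g = c * (χ : G ⧸ N → ℂ) g := by
      rw [← hc g, hzdef, show g * (g⁻¹ * y * g * y⁻¹) = y * g * y⁻¹ by group]
      exact (isClassFunction_irr χ.2 g y).symm
    by_contra h0
    have hc1 : c = 1 := by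
      have h2 : (1 : ℂ) * (χ : G ⧸ N → ℂ) g = c * (χ : G ⧸ N → ℂ) g := by rw [one_mul]; exact h1
      exact (mul_right_cancel₀ h0 h2).symm
    have h2 : z = 1 := hfaith z (by
      have := hc 1
      rwa [one_mul, hc1, one_mul] at this)
    apply hy
    rw [hzdef] at h2
    calc y * g = g * (g⁻¹ * y * g * y⁻¹) * y := by group
      _ = g * y := by rw [h2, mul_one]
  have hnorm : ∀ z ∈ Z, (χ : G ⧸ N → ℂ) z * conj ((χ : G ⧸ N → ℂ) z) = (f : ℂ) ^ 2 := by
    intro z hz
    obtain ⟨c, hc⟩ := exists_central_scalar χ.2 hz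
    have hpow : ∀ k : ℕ, (χ : G ⧸ N → ℂ) (z ^ k) = c ^ k * f := by
      intro k
      induction k with
      | zero => rw [pow_zero, pow_zero, one_mul, CharAverage.irr_apply_one]
      | succ k ihk => rw [pow_succ, hc, ihk, pow_succ']; ring
    have hf0 : (f : ℂ) ≠ 0 := by exact_mod_cast (show f ≠ 0 by omega)
    have h1 := hpow (orderOf z)
    rw [pow_orderOf_eq_one, CharAverage.irr_apply_one] at h1
    have h2 : c ^ orderOf z = 1 := (mul_eq_right₀ hf0).1 h1.symm
    have h3 : ‖c‖ = 1 := Complex.norm_eq_one_of_pow_eq_one h2 (orderOf_pos z).ne'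
    have h4 := hpow 1
    rw [pow_one, pow_one] at h4
    rw [h4, map_mul, Complex.conj_natCast]
    have h5 : c * conj c = 1 := by rw [Complex.mul_conj', h3]; simp
    linear_combination (f : ℂ) ^ 2 * h5
  have hidx : Z.index = f ^ 2 := by
    have h1 := classInner_irr_self χ.2
    rw [classInner, inv_mul_eq_one₀ (Nat.cast_ne_zero.2 Nat.card_pos.ne'),
      sum_of_vanish Z _ (fun g hg => by rw [hvan g hg, zero_mul]),
      Finset.sum_congr rfl fun z _ => hnorm _ z.2, Finset.sum_const, Finset.card_univ,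
      nsmul_eq_mul, ← Nat.card_eq_fintype_card, ← Z.card_mul_index, Nat.cast_mul] at h1
    exact_mod_cast mul_left_cancel₀ (Nat.cast_ne_zero.2 Nat.card_pos.ne') h1
  set K := Z.comap (QuotientGroup.mk' N) with hKdef
  have hKi : K.index = f ^ 2 := by
    rw [hKdef, Subgroup.index_comap_of_surjective _ (QuotientGroup.mk'_surjective N), hidx]
  refine step ih K (c := b - 1) (by omega) (fun ψ => ?_)
    (pred_arith (by rw [hKi]; exact Nat.pow_le_pow_left hfb 2) (by omega))
  have hψb := deg_sub_le hb K ψ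
  by_contra hψ
  obtain ⟨θ, hθ⟩ := exists_ext hb K ψ (by omega)
  set F : G → ℂ := (θ : G → ℂ) * ((χ : G ⧸ N → ℂ) ∘ QuotientGroup.mk' N) with hF
  have hFc : IsCharacter G F := isCharacter_mul (isCharacter_of_isIrrCharacter θ.2)
    (isCharacter_comap (QuotientGroup.mk' N) (isCharacter_of_isIrrCharacter χ.2))
  have hFn : classInner F F = 1 := by
    rw [classInner, inv_mul_eq_one₀ (Nat.cast_ne_zero.2 Nat.card_pos.ne'),
      sum_of_vanish K _ (fun g hg => by
        rw [hF, Pi.mul_apply, Function.comp_apply, hvan _ hg, mul_zero, zero_mul])]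
    have h1 := classInner_irr_self ψ.2
    rw [classInner, inv_mul_eq_one₀ (Nat.cast_ne_zero.2 Nat.card_pos.ne')] at h1
    rw [Finset.sum_congr rfl (g := fun k : K =>
        (ψ : K → ℂ) k * conj ((ψ : K → ℂ) k) * (f : ℂ) ^ 2) (fun k _ => by
      rw [hF, Pi.mul_apply, Function.comp_apply, map_mul, hθ, ← hnorm _ k.2]
      ring), ← Finset.sum_mul, ← h1, ← Nat.cast_pow, ← hKi, ← Nat.cast_mul, K.card_mul_index]
  have hFi : IsIrrCharacter G F := isIrrCharacter_iff.2 ⟨hFc, hFn⟩
  have h3 := hb ⟨F, hFi⟩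
  have hθ1 : (θ : G → ℂ) 1 = (charDegree (ψ : K → ℂ) : ℂ) := by
    rw [← CharAverage.irr_apply_one, ← hθ 1, OneMemClass.coe_one]
  change charDegree F ≤ b at h3
  rw [deg_eq_of_apply_one (n := charDegree (ψ : K → ℂ) * f) (by
    rw [hF, Pi.mul_apply, Function.comp_apply, map_one, hθ1, CharAverage.irr_apply_one, hf,
      Nat.cast_mul])] at h3
  have : charDegree (ψ : K → ℂ) * 2 ≤ charDegree (ψ : K → ℂ) * f := Nat.mul_le_mul_left _ hχ
  omega

/-- The case of trivial centre and abelian derived group. -/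
theorem caseB (ih : ∀ m < b, Good.{w} m) (hb : ∀ χ : IrrCharacter G, charDegree (χ : G → ℂ) ≤ b)
    (N : Subgroup G) [N.Normal] (hQ : commutator (G ⧸ N) ≠ ⊥)
    (hmin : ∀ K : Subgroup (G ⧸ N), K.Normal → K ≠ ⊥ → commutator (G ⧸ N) ≤ K)
    (hZ : Subgroup.center (G ⧸ N) = ⊥)
    (hab : ∀ x ∈ commutator (G ⧸ N), ∀ y ∈ commutator (G ⧸ N), x * y = y * x) :
    ∃ A : Subgroup G, (∀ x ∈ A, ∀ y ∈ A, x * y = y * x) ∧ A.index ≤ (Nat.factorial b) ^ 2 := by
  classical
  set C := Subgroup.centralizer (commutator (G ⧸ N) : Set (G ⧸ N)) with hCdef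
  have hQC : commutator (G ⧸ N) ≤ C := fun x hx =>
    Subgroup.mem_centralizer_iff.2 fun y hy => hab y hy x hx
  have hcomm_mem : ∀ g a : G ⧸ N, g * a * g⁻¹ * a⁻¹ ∈ commutator (G ⧸ N) := by
    intro g a
    have h := Subgroup.commutator_mem_commutator (Subgroup.mem_top g) (Subgroup.mem_top a)
    rwa [← commutator_def, commutatorElement_def] at h
  have hCab : ∀ a ∈ C, ∀ c ∈ C, a * c = c * a := by
    intro a ha c hc
    have hm : a * c * a⁻¹ * c⁻¹ = 1 := by
      rw [← Subgroup.mem_bot, ← hZ, Subgroup.mem_center_iff]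
      intro g
      have hu := hcomm_mem g a
      have hv := hcomm_mem g c
      set u := g * a * g⁻¹ * a⁻¹ with hudef
      set v := g * c * g⁻¹ * c⁻¹ with hvdef
      have hua := Subgroup.mem_centralizer_iff.1 ha u hu
      have huc := Subgroup.mem_centralizer_iff.1 hc u hu
      have hva := Subgroup.mem_centralizer_iff.1 ha v hv
      have hvc := Subgroup.mem_centralizer_iff.1 hc v hv
      have huv := hab u hu v hv
      have e1 : g * (a * c * a⁻¹ * c⁻¹) * g⁻¹ = (u * a) * (v * c) * (u * a)⁻¹ * (v * c)⁻¹ := by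
        rw [hudef, hvdef]; group
      have cau : Commute u a := hua
      have cuc : Commute u c := huc
      have cva : Commute v a := hva
      have cvc : Commute v c := hvc
      have cuv : Commute u v := huv
      have e2 : (u * a) * (v * c) * (u * a)⁻¹ * (v * c)⁻¹ = a * c * a⁻¹ * c⁻¹ := by
        have hu' : Commute u (a * v * c * a⁻¹) :=
          ((cau.mul_right cuv).mul_right cuc).mul_right cau.inv_right
        have hv' : Commute v (c * a⁻¹) := cvc.mul_right cva.inv_right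
        calc (u * a) * (v * c) * (u * a)⁻¹ * (v * c)⁻¹
            = u * (a * v * c * a⁻¹) * u⁻¹ * c⁻¹ * v⁻¹ := by group
          _ = a * (v * (c * a⁻¹)) * c⁻¹ * v⁻¹ := by rw [hu'.eq]; group
          _ = a * ((c * a⁻¹) * v) * c⁻¹ * v⁻¹ := by rw [hv'.eq]
          _ = a * c * a⁻¹ * (v * c⁻¹) * v⁻¹ := by group
          _ = a * c * a⁻¹ * c⁻¹ := by rw [cvc.inv_right.eq]; group
      rw [e2] at e1
      exact mul_inv_eq_iff_eq_mul.1 e1
    exact commutatorElement_eq_one_iff_mul_comm.1 (by rw [commutatorElement_def]; exact hm)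
  have hCn : C.Normal := Subgroup.normal_centralizer
  obtain ⟨q, hq, hq1⟩ := (Subgroup.bot_or_exists_ne_one _).resolve_left hQ
  obtain ⟨χ₀, hχ₀⟩ : ∃ χ : IrrCharacter C, (χ : C → ℂ) ⟨q, hQC hq⟩ ≠ (χ : C → ℂ) 1 := by
    by_contra h
    push Not at h
    exact hq1 (congrArg Subtype.val (isConj_one_left.1 ((isConj_iff_forall_irr _ 1).2 h)))
  obtain ⟨lam, hlam⟩ := CharBasicLinear.exists_hom_of_comm (G := C)
    (fun x y => Subtype.ext (hCab x x.2 y y.2)) χ₀.2
  have hlamirr : IsIrrCharacter C (fun x => (lam x : ℂ)) := isIrrCharacter_linear lam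
  set T := CharInduced.inertia C (fun x => (lam x : ℂ)) with hTdef
  have hCT : C ≤ T := CharInduced.le_inertia C (isClassFunction_irr hlamirr)
  let L : Subgroup (G ⧸ N) :=
    { carrier := {d | ∃ hd : d ∈ C, ∀ x : G ⧸ N, lam ⟨x * d * x⁻¹, hCn.conj_mem d hd x⟩ = 1}
      one_mem' := ⟨C.one_mem, fun x => by
        rw [show (⟨x * 1 * x⁻¹, _⟩ : C) = 1 from Subtype.ext (by simp), map_one]⟩
      mul_mem' := fun {a c} ⟨ha, ha'⟩ ⟨hc, hc'⟩ => ⟨C.mul_mem ha hc, fun x => by
        rw [show (⟨x * (a * c) * x⁻¹, _⟩ : C) = ⟨x * a * x⁻¹, hCn.conj_mem a ha x⟩ *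
          ⟨x * c * x⁻¹, hCn.conj_mem c hc x⟩ from Subtype.ext (by simp [mul_assoc]),
          map_mul, ha' x, hc' x, one_mul]⟩
      inv_mem' := fun {a} ⟨ha, ha'⟩ => ⟨C.inv_mem ha, fun x => by
        rw [show (⟨x * a⁻¹ * x⁻¹, _⟩ : C) = ⟨x * a * x⁻¹, hCn.conj_mem a ha x⟩⁻¹ from
          Subtype.ext (by simp [mul_assoc]), map_inv, ha' x, inv_one]⟩ }
  have hLn : L.Normal := ⟨fun d ⟨hd, hd'⟩ g => ⟨hCn.conj_mem d hd g, fun x => by
    rw [← hd' (x * g)]; congr 1; exact Subtype.ext (by group)⟩⟩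
  have hLbot : L = ⊥ := by
    by_contra h
    obtain ⟨hd, hd'⟩ := hmin L hLn h hq
    apply hχ₀
    have h1 := hd' 1
    rw [show (⟨1 * q * 1⁻¹, _⟩ : C) = ⟨q, hQC hq⟩ from Subtype.ext (by simp)] at h1
    simp [hlam, h1]
  have hTC : T = C := by
    refine le_antisymm (fun g hg => Subgroup.mem_centralizer_iff.2 fun m hm => ?_) hCT
    have hmC : m ∈ C := hQC hm
    have hdC : g * m * g⁻¹ * m⁻¹ ∈ C := hQC (hcomm_mem g m)
    have hdL : g * m * g⁻¹ * m⁻¹ ∈ L := by
      refine ⟨hdC, fun x => ?_⟩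
      have hg' : x * g * x⁻¹ ∈ T := by
        have := T.mul_mem (hCT (hQC (hcomm_mem x g))) hg
        simpa [mul_assoc] using this
      have h1 := (CharInduced.mem_inertia_iff C).1 hg' ⟨x * m * x⁻¹, hCn.conj_mem m hmC x⟩
      rw [show (⟨x * (g * m * g⁻¹ * m⁻¹) * x⁻¹, _⟩ : C) =
          ⟨(x * g * x⁻¹) * (x * m * x⁻¹) * (x * g * x⁻¹)⁻¹,
            hCn.conj_mem _ (hCn.conj_mem m hmC x) _⟩ *
          (⟨x * m * x⁻¹, hCn.conj_mem m hmC x⟩ : C)⁻¹ from
        Subtype.ext (by simp only [Subgroup.coe_mul, InvMemClass.coe_inv]; group),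
        map_mul, map_inv, mul_inv_eq_one]
      exact Units.ext h1
    rw [hLbot, Subgroup.mem_bot, mul_inv_eq_one, mul_inv_eq_iff_eq_mul] at hdL
    exact hdL.symm
  have hidx : C.index ≤ b := by
    have hi : IsIrrCharacter (G ⧸ N) (indFun C (fun x => (lam x : ℂ))) :=
      isIrrCharacter_iff.2 ⟨isCharacter_ind C (isCharacter_linear lam), by
        rw [CharInduced.classInner_ind_self C hlamirr, ← hTdef, hTC,
          div_self (Nat.cast_ne_zero.2 Nat.card_pos.ne')]⟩
    have h := deg_quot hb N ⟨_, hi⟩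
    rwa [deg_eq_of_apply_one (n := C.index) (by simp [ind_one_apply])] at h
  obtain ⟨χ, hχ⟩ := exists_nonlinear hQ
  have hb2 : 2 ≤ b := hχ.trans (deg_quot hb N χ)
  set H := C.comap (QuotientGroup.mk' N) with hHdef
  have hNH : N ≤ H := fun n hn => by
    rw [hHdef, Subgroup.mem_comap, QuotientGroup.mk'_apply, (QuotientGroup.eq_one_iff n).2 hn]
    exact C.one_mem
  have hHi : H.index = C.index :=
    Subgroup.index_comap_of_surjective _ (QuotientGroup.mk'_surjective N)
  have hbb : b ≤ b ^ 2 := Nat.le_self_pow two_ne_zero b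
  by_cases hH : ∀ θ : IrrCharacter H, charDegree (θ : H → ℂ) ≤ b - 1
  · exact step ih H (by omega) hH (pred_arith (by omega) (by omega))
  push Not at hH
  obtain ⟨ψ, hψ⟩ := hH
  have hψb := deg_sub_le hb H ψ
  have hsupp : ∀ h : H, (ψ : H → ℂ) h ≠ 0 → (h : G) ∈ N := by
    intro h hne
    have hHn : H.Normal := hCn.comap _
    let e : H →* C := ((QuotientGroup.mk' N).comp H.subtype).codRestrict C fun k => k.2
    have hinv : ∀ (φ : IrrCharacter H), b ≤ charDegree (φ : H → ℂ) → ∀ (x : G) (k : H),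
        (φ : H → ℂ) ⟨x * k * x⁻¹, hHn.conj_mem k k.2 x⟩ = (φ : H → ℂ) k := by
      intro φ hφ x k
      obtain ⟨θ, hθ⟩ := exists_ext hb H φ hφ
      rw [← hθ, ← hθ]
      exact isClassFunction_irr θ.2 _ _
    have hfix : ∀ x : G ⧸ N, x * (e h : G ⧸ N) * x⁻¹ = e h := by
      intro y
      obtain ⟨x, rfl⟩ := QuotientGroup.mk'_surjective N y
      set h' : H := ⟨x * h * x⁻¹, hHn.conj_mem h h.2 x⟩ with hh'
      have hee : e h' = e h := by
        suffices hcj : IsConj (e h') (e h) by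
          obtain ⟨c, hc⟩ := isConj_iff.1 hcj
          rw [← hc, show c * e h' = e h' * c from Subtype.ext (hCab c c.2 _ (e h').2),
            mul_inv_cancel_right]
        refine (isConj_iff_forall_irr _ _).2 fun χ' => ?_
        · obtain ⟨mu, hmu⟩ := CharBasicLinear.exists_hom_of_comm (G := C)
            (fun u v => Subtype.ext (hCab u u.2 v v.2)) χ'.2
          have hφi := isIrrCharacter_mul_linear ψ.2 (mu.comp e)
          have h1 := hinv ⟨_, hφi⟩ (by
            refine le_of_le_of_eq (show b ≤ charDegree (ψ : H → ℂ) by omega) ?_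
            simp [charDegree]) x h
          have h2 := hinv ψ (by omega) x h
          simp only [MonoidHom.coe_comp, Function.comp_apply] at h1
          rw [← hh'] at h1 h2
          rw [h2] at h1
          have h3 : (mu (e h') : ℂ) = (mu (e h) : ℂ) := by
            first
              | exact mul_left_cancel₀ hne h1
              | exact mul_right_cancel₀ hne h1
          rw [hmu]; exact h3
      calc QuotientGroup.mk' N x * (e h : G ⧸ N) * (QuotientGroup.mk' N x)⁻¹ = (e h' : G ⧸ N) := by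
            show _ = QuotientGroup.mk' N (x * h * x⁻¹)
            rw [map_mul, map_mul, map_inv]
            rfl
        _ = (e h : G ⧸ N) := by rw [hee]
    have h1 : (e h : G ⧸ N) ∈ Subgroup.center (G ⧸ N) :=
      Subgroup.mem_center_iff.2 fun y => mul_inv_eq_iff_eq_mul.1 (hfix y)
    rw [hZ, Subgroup.mem_bot] at h1
    exact (QuotientGroup.eq_one_iff (h : G)).1 h1
  rcases Nat.lt_or_ge b 3 with hlt | hge
  · exfalso
    have hbe : b = 2 := by omega
    have hres : (fun n : N.subgroupOf H => (ψ : H → ℂ) n) ≠ 0 := fun h0 =>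
      isIrrCharacter_apply_one_ne_zero ψ.2 (congrFun h0 1)
    obtain ⟨η, hη, hηc⟩ := exists_constituent
      (isCharacter_res (N.subgroupOf H) (isCharacter_of_isIrrCharacter ψ.2)) hres
    obtain ⟨k, d, hd, hk, hkN⟩ := CharProjDegree.degree_dvd (N.subgroupOf H) ψ.2 hη hηc
    let eN : N ≃* N.subgroupOf H := (Subgroup.subgroupOfEquivOfLe hNH).symm
    have hh := half hb N χ hχ ⟨_, isIrrCharacter_comap eN.toMonoidHom eN.surjective hη⟩
    rw [deg_eq_of_apply_one (n := d) (by simp [hd])] at hh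
    have hψ2 : charDegree (ψ : H → ℂ) = 2 := by omega
    rw [CharAverage.irr_apply_one, hψ2, Nat.cast_inj] at hk
    have hd1 : d = 1 := by
      rcases d with _ | _ | d
      · simp at hk
      · rfl
      · omega
    rw [hd1, one_mul] at hk
    have hrel : (N.subgroupOf H).index = Nat.card C := by
      have h1 : N.relIndex H * H.index = N.index := Subgroup.relIndex_mul_index hNH
      rw [hHi, N.index_eq_card, ← C.card_mul_index] at h1
      exact mul_right_cancel₀ Subgroup.FiniteIndex.index_ne_zero h1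
    rw [hrel, ← hk] at hkN
    have : Fact (Nat.Prime 2) := ⟨Nat.prime_two⟩
    obtain ⟨y, hy⟩ := exists_prime_orderOf_dvd_card' 2 hkN
    have hy2 : (y : G ⧸ N) * y = 1 := by
      have h := pow_orderOf_eq_one y
      rw [hy, pow_two] at h
      exact congrArg Subtype.val h
    have hyc : (y : G ⧸ N) ∈ Subgroup.center (G ⧸ N) := by
      rw [Subgroup.mem_center_iff]
      intro g
      by_cases hg : g ∈ C
      · exact hCab g hg y y.2
      have hi2 : C.index = 2 := by
        have h1 : C.index ≠ 1 := fun h => hg (Subgroup.index_eq_one.1 h ▸ Subgroup.mem_top g)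
        have h2 : C.index ≠ 0 := Subgroup.FiniteIndex.index_ne_zero
        omega
      have hgyC : g * y * g⁻¹ ∈ C := hCn.conj_mem _ y.2 g
      have hw : (y : G ⧸ N) * (g * y * g⁻¹) ∈ Subgroup.center (G ⧸ N) := by
        rw [Subgroup.mem_center_iff]
        have hwC : (y : G ⧸ N) * (g * y * g⁻¹) ∈ C := C.mul_mem y.2 hgyC
        have hwg : g * ((y : G ⧸ N) * (g * y * g⁻¹)) * g⁻¹ = y * (g * y * g⁻¹) := by
          have hgg := hCab _ (Subgroup.mul_self_mem_of_index_two hi2 g) _ y.2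
          calc g * ((y : G ⧸ N) * (g * y * g⁻¹)) * g⁻¹
              = (g * y * g⁻¹) * ((g * g) * y * (g * g)⁻¹) := by group
            _ = (g * y * g⁻¹) * y := by rw [hgg]; group
            _ = y * (g * y * g⁻¹) := hCab _ hgyC _ y.2
        intro x
        by_cases hx : x ∈ C
        · exact hCab x hx _ hwC
        have hxg : x * g ∈ C :=
          (Subgroup.mul_mem_iff_of_index_two hi2).2 (iff_of_false hx hg)
        have h1 := hCab _ hxg _ hwC
        have h2 := mul_inv_eq_iff_eq_mul.1 hwg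
        calc x * ((y : G ⧸ N) * (g * y * g⁻¹))
            = x * (g * (y * (g * y * g⁻¹)) * g⁻¹) := by rw [hwg]
          _ = (x * g) * (y * (g * y * g⁻¹)) * g⁻¹ := by group
          _ = (y * (g * y * g⁻¹)) * (x * g) * g⁻¹ := by rw [h1]
          _ = (y * (g * y * g⁻¹)) * x := by group
      rw [hZ, Subgroup.mem_bot] at hw
      have h1 : g * (y : G ⧸ N) * g⁻¹ = y := by
        calc g * (y : G ⧸ N) * g⁻¹ = ((y : G ⧸ N) * y) * (g * y * g⁻¹) := by rw [hy2, one_mul]
          _ = y := by rw [mul_assoc, hw, mul_one]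
      exact mul_inv_eq_iff_eq_mul.1 h1
    rw [hZ, Subgroup.mem_bot] at hyc
    rw [(Subtype.ext hyc : y = 1), orderOf_one] at hy
    omega
  · refine step ih N (c := b / 2) (by omega) (fun η => ?_) (half_arith_three hge ?_)
    · have := half hb N χ hχ η
      omega
    · rw [← Subgroup.relIndex_mul_index hNH, hHi, pow_succ]
      exact Nat.mul_le_mul ((relIndex_le_sq N H ψ hsupp).trans (Nat.pow_le_pow_left hψb 2)) hidx

theorem exists_small_class {Q : Type w} [Group Q] [Finite Q] [Nontrivial Q]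
    (hb : ∀ χ : IrrCharacter Q, charDegree (χ : Q → ℂ) ≤ b) :
    ∃ x : Q, x ≠ 1 ∧ (Subgroup.centralizer ({x} : Set Q)).index ≤ b ^ 2 := by
  classical
  by_contra h
  push Not at h
  have hcard := CharKernel.sum_sq_charDegree (G := Q)
  have hk := card_irrCharacter (G := Q)
  rw [Nat.card_eq_fintype_card, Nat.card_eq_fintype_card] at hk
  have h1 : Nat.card Q ≤ 1 + (Fintype.card (ConjClasses Q) - 1) * b ^ 2 := by
    rw [← hcard, ← Finset.add_sum_erase _ _ (Finset.mem_univ (trivIrr Q))]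
    refine Nat.add_le_add (le_of_eq ?_) ?_
    · simp [trivIrr, charDegree]
    · refine (Finset.sum_le_card_nsmul _ _ (b ^ 2) fun χ _ => Nat.pow_le_pow_left (hb χ) 2).trans
        (le_of_eq ?_)
      rw [smul_eq_mul, Finset.card_erase_of_mem (Finset.mem_univ _), Finset.card_univ, hk]
  have hsum := Group.sum_card_conj_classes_eq_card (G := Q)
  rw [finsum_eq_sum_of_fintype,
    ← Finset.add_sum_erase _ _ (Finset.mem_univ (ConjClasses.mk (1 : Q)))] at hsum
  have h2 : ∀ c ∈ Finset.univ.erase (ConjClasses.mk (1 : Q)), b ^ 2 + 1 ≤ c.carrier.ncard := by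
    intro c hc
    obtain ⟨a, rfl⟩ := c.exists_rep
    have ha : a ≠ 1 := fun e => (Finset.mem_erase.1 hc).1 (e ▸ rfl)
    have h3 := h a ha
    have h4 : (ConjClasses.mk a).carrier.ncard = (Subgroup.centralizer ({a} : Set Q)).index := by
      have h5 := card_conj_mul_card_centralizer a
      rw [← (Subgroup.centralizer ({a} : Set Q)).index_mul_card] at h5
      rw [← Nat.card_coe_set_eq, ConjClasses.carrier_eq_preimage_mk]
      rw [← Nat.eq_of_mul_eq_mul_right Nat.card_pos h5]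
      exact Nat.card_congr (Equiv.subtypeEquivRight fun g => by
        rw [Set.mem_preimage, Set.mem_singleton_iff, ConjClasses.mk_eq_mk_iff_isConj]
        exact isConj_comm)
    omega
  have h3 := Finset.card_nsmul_le_sum _ _ _ h2
  rw [smul_eq_mul, Finset.card_erase_of_mem (Finset.mem_univ _), Finset.card_univ] at h3
  have h4 : 0 < (ConjClasses.mk (1 : Q)).carrier.ncard :=
    (Set.ncard_pos).2 ⟨1, ConjClasses.mem_carrier_mk⟩
  have h5 : 1 < Nat.card Q := Finite.one_lt_card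
  rw [Nat.mul_succ] at h3
  rcases Nat.eq_zero_or_pos (Fintype.card (ConjClasses Q) - 1) with he | he
  · rw [he, zero_mul] at h1
    omega
  · omega

/-- The case of nonabelian derived group. -/
theorem caseC (ih : ∀ m < b, Good.{w} m) (hb : ∀ χ : IrrCharacter G, charDegree (χ : G → ℂ) ≤ b)
    (N : Subgroup G) [N.Normal] (hQ : commutator (G ⧸ N) ≠ ⊥)
    (hmin : ∀ K : Subgroup (G ⧸ N), K.Normal → K ≠ ⊥ → commutator (G ⧸ N) ≤ K)
    (hab : ¬ ∀ x ∈ commutator (G ⧸ N), ∀ y ∈ commutator (G ⧸ N), x * y = y * x) :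
    ∃ A : Subgroup G, (∀ x ∈ A, ∀ y ∈ A, x * y = y * x) ∧ A.index ≤ (Nat.factorial b) ^ 2 := by
  classical
  obtain ⟨χ, hχ⟩ := exists_nonlinear hQ
  have hb2 : 2 ≤ b := hχ.trans (deg_quot hb N χ)
  have hne : ∀ K : Subgroup (G ⧸ N), K.Normal → (∀ x ∈ K, ∀ y ∈ K, x * y = y * x) → K = ⊥ := by
    intro K hK hKab
    by_contra h
    exact hab fun x hx y hy => hKab x (hmin K hK h hx) y (hmin K hK h hy)
  have hb5 : 5 ≤ b := by
    by_contra hlt
    have hdvd : ∀ p : ℕ, p.Prime → p ∣ Nat.card (G ⧸ N) → p ∈ ({2, 3} : Finset ℕ) := by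
      intro p hp hpd
      by_contra hp23
      simp only [Finset.mem_insert, Finset.mem_singleton, not_or] at hp23
      have h5 : 5 ≤ p := by
        have := hp.two_le
        have : p ≠ 4 := fun h => by subst h; norm_num at hp
        omega
      obtain ⟨P, hPn, hPab, -, hPi⟩ := S4464.result (G := G ⧸ N) p hp fun χ => by
        have := deg_quot hb N χ
        omega
      rw [hne P hPn hPab, Subgroup.index_bot] at hPi
      exact hPi hpd
    have hc : Nat.card (G ⧸ N) = 2 ^ (Nat.card (G ⧸ N)).factorization 2 *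
        3 ^ (Nat.card (G ⧸ N)).factorization 3 := by
      have h0 : Nat.card (G ⧸ N) ≠ 0 := Nat.card_pos.ne'
      conv_lhs => rw [← Nat.prod_factorization_pow_eq_self h0]
      rw [Finsupp.prod_of_support_subset _ (s := ({2, 3} : Finset ℕ)) ?_ _ (fun _ _ => pow_zero _),
        Finset.prod_pair (by norm_num)]
      intro p hp
      rw [Nat.support_factorization] at hp
      exact hdvd p (Nat.prime_of_mem_primeFactors hp) (Nat.dvd_of_mem_primeFactors hp)
    have hs := CharInduced.solvable_of_card_two_primes 2 3 _ _ Nat.prime_two Nat.prime_three hc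
    have hlt' : ⁅commutator (G ⧸ N), commutator (G ⧸ N)⁆ < commutator (G ⧸ N) :=
      Group.IsSolvable.commutator_lt_of_ne_bot hQ
    have h1 : ⁅commutator (G ⧸ N), commutator (G ⧸ N)⁆ = ⊥ := by
      by_contra h
      exact not_le_of_gt hlt' (hmin _ inferInstance h)
    rw [Subgroup.commutator_eq_bot_iff_le_centralizer] at h1
    exact hab fun x hx y hy => (Subgroup.mem_centralizer_iff.1 (h1 hx) y hy).symm
  have hcent : Subgroup.centralizer (commutator (G ⧸ N) : Set (G ⧸ N)) = ⊥ := by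
    by_contra h
    exact hab fun x hx y hy =>
      (Subgroup.mem_centralizer_iff.1 (hmin _ Subgroup.normal_centralizer h hx) y hy).symm
  have : Nontrivial (G ⧸ N) := by
    obtain ⟨q, -, hq1⟩ := (Subgroup.bot_or_exists_ne_one _).resolve_left hQ
    exact ⟨⟨q, 1, hq1⟩⟩
  obtain ⟨x, hx1, hx⟩ := exists_small_class (deg_quot hb N)
  set C := Subgroup.centralizer ({x} : Set (G ⧸ N)) with hCdef
  have hcore : C.normalCore = ⊥ := by
    by_contra h
    refine hx1 ?_
    rw [← Subgroup.mem_bot, ← hcent, Subgroup.mem_centralizer_iff]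
    intro y hy
    exact Subgroup.mem_centralizer_singleton_iff.1
      (C.normalCore_le (hmin _ inferInstance h hy))
  set H := C.comap (QuotientGroup.mk' N) with hHdef
  have hNH : N ≤ H := fun n hn => by
    rw [hHdef, Subgroup.mem_comap, QuotientGroup.mk'_apply, (QuotientGroup.eq_one_iff n).2 hn]
    exact C.one_mem
  have hHi : H.index = C.index :=
    Subgroup.index_comap_of_surjective _ (QuotientGroup.mk'_surjective N)
  by_cases hH : ∀ θ : IrrCharacter H, charDegree (θ : H → ℂ) ≤ b - 1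
  · exact step ih H (by omega) hH (pred_arith (by omega) (by omega))
  push Not at hH
  obtain ⟨ψ, hψ⟩ := hH
  have hψb := deg_sub_le hb H ψ
  have hsupp : ∀ h : H, (ψ : H → ℂ) h ≠ 0 → (h : G) ∈ N := by
    intro h hne'
    rw [← QuotientGroup.eq_one_iff (h : G), ← Subgroup.mem_bot, ← hcore]
    intro y
    obtain ⟨g, rfl⟩ := QuotientGroup.mk'_surjective N y
    have h1 := supp_core hb H ψ (by omega) h hne' g⁻¹
    rw [inv_inv] at h1
    have h2 : QuotientGroup.mk' N (g * h * g⁻¹) ∈ C := h1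
    rw [map_mul, map_mul, map_inv] at h2
    exact h2
  refine step ih N (c := b / 2) (by omega) (fun η => ?_) (half_arith_four hb5 ?_)
  · have := half hb N χ hχ η
    omega
  · rw [← Subgroup.relIndex_mul_index hNH, hHi, show b ^ 4 = b ^ 2 * b ^ 2 by ring]
    exact Nat.mul_le_mul ((relIndex_le_sq N H ψ hsupp).trans (Nat.pow_le_pow_left hψb 2)) hx

theorem good : ∀ b : ℕ, Good.{w} b := by
  intro b
  induction b using Nat.strong_induction_on with
  | _ b ih =>
  intro G _ _ hb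
  by_cases hG : commutator G = ⊥
  · refine ⟨⊤, fun x _ y _ => ?_, ?_⟩
    · have h : x ∈ Subgroup.center G :=
        ((commutator_eq_bot_iff_center_eq_top _).1 hG) ▸ Subgroup.mem_top x
      exact (Subgroup.mem_center_iff.1 h y).symm
    · rw [Subgroup.index_top]
      exact Nat.one_le_pow _ _ (Nat.factorial_pos b)
  obtain ⟨N, ⟨hNn, hN⟩, hmax⟩ := (Set.toFinite
    {N : Subgroup G | N.Normal ∧ ¬ commutator G ≤ N}).exists_maximal
      ⟨⊥, inferInstance, fun h => hG (le_bot_iff.1 h)⟩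
  have hmap : commutator (G ⧸ N) = (commutator G).map (QuotientGroup.mk' N) := by
    rw [commutator_def, commutator_def, Subgroup.map_commutator,
      Subgroup.map_top_of_surjective _ (QuotientGroup.mk'_surjective N)]
  have hQ : commutator (G ⧸ N) ≠ ⊥ := by
    rw [hmap, Ne, Subgroup.map_eq_bot_iff, QuotientGroup.ker_mk']
    exact hN
  have hmin : ∀ K : Subgroup (G ⧸ N), K.Normal → K ≠ ⊥ → commutator (G ⧸ N) ≤ K := by
    intro K hK hne
    rw [hmap, Subgroup.map_le_iff_le_comap]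
    by_contra h
    have hle : N ≤ K.comap (QuotientGroup.mk' N) := fun n hn => by
      rw [Subgroup.mem_comap, QuotientGroup.mk'_apply, (QuotientGroup.eq_one_iff n).2 hn]
      exact K.one_mem
    have h2 := hmax (show K.comap (QuotientGroup.mk' N) ∈
      {N : Subgroup G | N.Normal ∧ ¬ commutator G ≤ N} from ⟨hK.comap _, h⟩) hle
    apply hne
    rw [eq_bot_iff]
    intro q hq
    obtain ⟨g, rfl⟩ := QuotientGroup.mk'_surjective N q
    rw [Subgroup.mem_bot]
    exact (QuotientGroup.eq_one_iff g).2 (h2 hq)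
  by_cases hZ : Subgroup.center (G ⧸ N) = ⊥
  · by_cases hab : ∀ x ∈ commutator (G ⧸ N), ∀ y ∈ commutator (G ⧸ N), x * y = y * x
    · exact caseB ih hb N hQ hmin hZ hab
    · exact caseC ih hb N hQ hmin hab
  · exact caseA ih hb N hQ hmin hZ

/-- Let b be the largest irreducible character degree of the finite group G. Then G has an abelian subgroup of index at most (b!)². -/
theorem result {G : Type*} [Group G] [Finite G] (b : ℕ) (hb : IsGreatest {d : ℕ | ∃ χ : Cfsg.IrrCharacter G, Cfsg.charDegree (χ : G → ℂ) = d} b) : ∃ A : Subgroup G, (∀ x ∈ A, ∀ y ∈ A, x * y = y * x) ∧ A.index ≤ (Nat.factorial b) ^ 2 :=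
  good b G fun χ => hb.2 ⟨χ, rfl⟩

end Cfsg.Agent.S4463
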