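import Cfsg.Statements.S4465
import Mathlib
import Cfsg.Agent.Lib.LinearHallAbelian

set_option autoImplicit false
open Cfsg

namespace Cfsg.Agent.S4465
open Cfsg.Agent.CharBasic Cfsg.Agent.LinearHallAbelian

universe w

/-- An abelian Hall subgroup for the primes above `N`. -/
def Good (N : ℕ) {G : Type w} [Group G] (A : Subgroup G) : Prop :=
  (∀ x ∈ A, ∀ y ∈ A, x * y = y * x) ∧ (∀ q : ℕ, q.Prime → q ∣ Nat.card A → N < q) ∧
    ∀ q : ℕ, q.Prime → q ∣ A.index → q ≤ N

theorem exists_conj_mem {C : Type w} [Group C] [Finite C] {r : ℕ} [Fact r.Prime] {A : Subgroup C}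
    (hA : ¬ r ∣ A.index) {x : C} (hx : ∃ i, x ^ r ^ i = 1) : ∃ c : C, c * x * c⁻¹ ∈ A := by
  obtain ⟨Q⟩ : Nonempty (Sylow r A) := inferInstance
  have hQ : IsPGroup r ((Q : Subgroup A).map A.subtype) := Q.isPGroup'.map _
  have hidx : ¬ r ∣ ((Q : Subgroup A).map A.subtype).index := by
    rw [Subgroup.index_map_subtype]
    intro h
    rcases (Fact.out : r.Prime).dvd_mul.1 h with h | h
    · exact Q.not_dvd_index h
    · exact hA h
  let S : Sylow r C := hQ.toSylow hidx
  have hxp : IsPGroup r (Subgroup.zpowers x) := by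
    obtain ⟨i, hi⟩ := hx
    obtain ⟨k, -, hk⟩ := (Nat.dvd_prime_pow Fact.out).1 (orderOf_dvd_of_pow_eq_one hi)
    exact IsPGroup.of_card (n := k) (by rw [Nat.card_zpowers, hk])
  obtain ⟨T, hT⟩ := hxp.exists_le_sylow
  obtain ⟨c, hc⟩ := MulAction.exists_smul_eq C T S
  refine ⟨c, ?_⟩
  have h1 : c * x * c⁻¹ ∈ ((c • T : Sylow r C) : Subgroup C) := by
    rw [Sylow.coe_subgroup_smul, Subgroup.mem_pointwise_smul_iff_inv_smul_mem, ← map_inv,
      MulAut.smul_def, MulAut.conj_apply]
    have := hT (Subgroup.mem_zpowers x)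
    simpa [mul_assoc] using this
  rw [hc] at h1
  obtain ⟨y, -, hy⟩ := h1
  exact hy ▸ y.2

/-- the centralizer of an element of a subgroup contains abelian supergroups -/
theorem le_centralizer_of_comm {G : Type w} [Group G] {A : Subgroup G}
    (hA : ∀ x ∈ A, ∀ y ∈ A, x * y = y * x) {a : G} (ha : a ∈ A) :
    A ≤ Subgroup.centralizer ({a} : Set G) :=
  fun y hy => Subgroup.mem_centralizer_singleton_iff.2 (hA y hy a ha)

theorem centralizer_ne_top {G : Type w} [Group G] {a : G} (ha : a ∉ Subgroup.center G) :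
    Subgroup.centralizer ({a} : Set G) ≠ ⊤ := by
  intro h
  refine ha (Subgroup.mem_center_iff.2 fun g => ?_)
  exact Subgroup.mem_centralizer_singleton_iff.1 (h ▸ Subgroup.mem_top g)

/-- Blichfeldt's theorem, by induction. -/
theorem main0 (N : ℕ) (m : ℕ) : ∀ {G : Type} [Group G] [Finite G] {n : ℕ}
    (ρ : Representation ℂ G (Fin n → ℂ)), Function.Injective ρ → n + 1 ≤ N →
    n + Nat.card G = m → ∃ A : Subgroup G, Good N A := by
  induction m using Nat.strong_induction_on with
  | _ m ih =>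
  intro G _ _ n ρ hinj hnN hm
  classical
  have : Fintype G := Fintype.ofFinite G
  rcases Nat.eq_zero_or_pos n with rfl | hn
  · have : Subsingleton G := ⟨fun a b => hinj (Subsingleton.elim _ _)⟩
    refine ⟨⊥, fun x hx y hy => by rw [Subgroup.mem_bot.1 hx, Subgroup.mem_bot.1 hy],
      fun q hq h => ?_, fun q hq h => ?_⟩
    · rw [Subgroup.card_bot] at h; exact absurd (Nat.eq_one_of_dvd_one h) hq.one_lt.ne'
    · rw [Subgroup.index_bot, Nat.card_of_subsingleton (1 : G)] at h
      exact absurd (Nat.eq_one_of_dvd_one h) hq.one_lt.ne'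
  have : Nonempty (Fin n) := ⟨⟨0, hn⟩⟩
  have : Nontrivial (Fin n → ℂ) := inferInstance
  -- proper subgroups
  have hproper : ∀ C : Subgroup G, C ≠ ⊤ → ∃ A : Subgroup G, A ≤ C ∧
      (∀ x ∈ A, ∀ y ∈ A, x * y = y * x) ∧
      ∀ q : ℕ, q.Prime → N < q → ¬ q ∣ C.index → ¬ q ∣ A.index := by
    intro C hC
    have hlt : Nat.card C < Nat.card G := lt_of_le_of_ne C.card_le_card_group
      fun h => hC (Subgroup.eq_top_of_card_eq C h)
    obtain ⟨A, hAc, -, hAi⟩ := ih (n + Nat.card C) (by omega) (ρ.comp C.subtype)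
      (fun a b h => Subtype.ext (hinj h)) hnN rfl
    refine ⟨A.map C.subtype, Subgroup.map_subtype_le A, ?_, fun q hq hNq hqC h => ?_⟩
    · rintro _ ⟨x, hx, rfl⟩ _ ⟨y, hy, rfl⟩
      rw [← map_mul, ← map_mul, hAc x hx y hy]
    · rw [Subgroup.index_map_subtype] at h
      rcases hq.dvd_mul.1 h with h | h
      · exact absurd (hAi q hq h) (not_le.2 hNq)
      · exact hqC h
  by_cases hirr : ρ.IsIrreducible
  swap
  · -- reducible
    obtain ⟨U, U', hc, -, -, h1, h2⟩ := exists_decomposition hirr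
    rw [Module.finrank_fin_fun] at h1 h2
    have hboth : ∀ g : G, U.toRepresentation g = 1 → U'.toRepresentation g = 1 → g = 1 := by
      intro g hg hg'
      refine hinj ?_
      rw [map_one]
      refine LinearMap.ext fun x => ?_
      obtain ⟨⟨a, b⟩, rfl⟩ := (Submodule.prodEquivOfIsCompl _ _ hc).surjective x
      change ρ g ((a : Fin n → ℂ) + (b : Fin n → ℂ)) = (a : Fin n → ℂ) + (b : Fin n → ℂ)
      rw [map_add]
      exact congrArg₂ (· + ·) (congrArg Subtype.val (DFunLike.congr_fun hg a))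
        (congrArg Subtype.val (DFunLike.congr_fun hg' b))
    let ρ₁ : Representation ℂ G (Fin (Module.finrank ℂ U.toSubmodule) → ℂ) :=
      repConj (Module.finBasis ℂ U.toSubmodule).equivFun U.toRepresentation
    let ρ₂ : Representation ℂ G (Fin (Module.finrank ℂ U'.toSubmodule) → ℂ) :=
      repConj (Module.finBasis ℂ U'.toSubmodule).equivFun U'.toRepresentation
    have he₁ : ∀ g, ρ₁ g = 1 → U.toRepresentation g = 1 := fun g h => LinearMap.ext fun v => by
      have := DFunLike.congr_fun h ((Module.finBasis ℂ U.toSubmodule).equivFun v)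
      change (Module.finBasis ℂ U.toSubmodule).equivFun (U.toRepresentation g
        ((Module.finBasis ℂ U.toSubmodule).equivFun.symm
          ((Module.finBasis ℂ U.toSubmodule).equivFun v))) = _ at this
      rw [LinearEquiv.symm_apply_apply, Module.End.one_apply] at this
      exact (Module.finBasis ℂ U.toSubmodule).equivFun.injective this
    have he₂ : ∀ g, ρ₂ g = 1 → U'.toRepresentation g = 1 := fun g h => LinearMap.ext fun v => by
      have := DFunLike.congr_fun h ((Module.finBasis ℂ U'.toSubmodule).equivFun v)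
      change (Module.finBasis ℂ U'.toSubmodule).equivFun (U'.toRepresentation g
        ((Module.finBasis ℂ U'.toSubmodule).equivFun.symm
          ((Module.finBasis ℂ U'.toSubmodule).equivFun v))) = _ at this
      rw [LinearEquiv.symm_apply_apply, Module.End.one_apply] at this
      exact (Module.finBasis ℂ U'.toSubmodule).equivFun.injective this
    -- the first projection
    let f₁ : G →* CharExtension.GU' (Module.finrank ℂ U.toSubmodule) := MonoidHom.toHomUnits ρ₁
    let r₁ : Representation ℂ f₁.range (Fin (Module.finrank ℂ U.toSubmodule) → ℂ) :=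
      (Units.coeHom _).comp f₁.range.subtype
    have hcard₁ : Nat.card f₁.range ≤ Nat.card G :=
      Nat.card_le_card_of_surjective _ f₁.rangeRestrict_surjective
    obtain ⟨A₁, hA₁c, hA₁p, hA₁i⟩ := ih (Module.finrank ℂ U.toSubmodule + Nat.card f₁.range)
      (by omega) r₁
      (fun a b h => Subtype.ext (Units.ext h)) (by omega) rfl
    set M := A₁.comap f₁.rangeRestrict with hM
    let f₂ : M →* CharExtension.GU' (Module.finrank ℂ U'.toSubmodule) :=
      (MonoidHom.toHomUnits ρ₂).comp M.subtype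
    let r₂ : Representation ℂ f₂.range (Fin (Module.finrank ℂ U'.toSubmodule) → ℂ) :=
      (Units.coeHom _).comp f₂.range.subtype
    have hcard₂ : Nat.card f₂.range ≤ Nat.card G :=
      (Nat.card_le_card_of_surjective _ f₂.rangeRestrict_surjective).trans M.card_le_card_group
    obtain ⟨A₂, hA₂c, hA₂p, hA₂i⟩ := ih (Module.finrank ℂ U'.toSubmodule + Nat.card f₂.range)
      (by omega) r₂
      (fun a b h => Subtype.ext (Units.ext h)) (by omega) rfl
    set X := (A₂.comap f₂.rangeRestrict).map M.subtype with hX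
    have hmem : ∀ x ∈ X, ∃ hx : x ∈ M, f₁.rangeRestrict x ∈ A₁ ∧
        f₂.rangeRestrict ⟨x, hx⟩ ∈ A₂ := by
      rintro _ ⟨y, hy, rfl⟩
      exact ⟨y.2, y.2, hy⟩
    have hone : ∀ c : G, f₁.rangeRestrict c = 1 →
        (∀ hc : c ∈ M, f₂.rangeRestrict ⟨c, hc⟩ = 1) → c = 1 := by
      intro c h h'
      have hcM : c ∈ M := by rw [hM, Subgroup.mem_comap, h]; exact one_mem _
      refine hboth c (he₁ c ?_) (he₂ c ?_)
      · exact congrArg (fun u : f₁.range => (((u : CharExtension.GU' (Module.finrank ℂ U.toSubmodule)) : Module.End ℂ (Fin (Module.finrank ℂ U.toSubmodule) → ℂ)))) h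
      · exact congrArg (fun u : f₂.range => (((u : CharExtension.GU' (Module.finrank ℂ U'.toSubmodule)) : Module.End ℂ (Fin (Module.finrank ℂ U'.toSubmodule) → ℂ)))) (h' hcM)
    refine ⟨X, fun a ha b hb => ?_, fun q hq hdvd => ?_, fun q hq hdvd => ?_⟩
    · obtain ⟨haM, ha1, ha2⟩ := hmem a ha
      obtain ⟨hbM, hb1, hb2⟩ := hmem b hb
      rw [← mul_inv_eq_one]
      refine hone _ ?_ (fun hc => ?_)
      · simp only [map_mul, map_inv, hA₁c _ ha1 _ hb1, mul_inv_cancel]
      · have h3 : (⟨a * b * (b * a)⁻¹, hc⟩ : M) =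
            ⟨a, haM⟩ * ⟨b, hbM⟩ * (⟨b, hbM⟩ * ⟨a, haM⟩)⁻¹ := Subtype.ext rfl
        rw [h3, map_mul, map_mul, map_inv, map_mul, hA₂c _ ha2 _ hb2, mul_inv_cancel]
    · have : Fact q.Prime := ⟨hq⟩
      obtain ⟨x, hx⟩ := exists_prime_orderOf_dvd_card' q hdvd
      obtain ⟨hxM, hx1, hx2⟩ := hmem (x : G) x.2
      have hox : orderOf (x : G) = q := by rw [Subgroup.orderOf_coe, hx]
      by_cases h : f₁.rangeRestrict (x : G) = 1
      · have h' : f₂.rangeRestrict ⟨x, hxM⟩ ≠ 1 := fun h' => by
          have := hone _ h (fun hc => h')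
          rw [this, orderOf_one] at hox
          exact hq.one_lt.ne hox
        have hord : orderOf (f₂.rangeRestrict ⟨x, hxM⟩) = q := orderOf_eq_prime (by
          rw [← map_pow, show (⟨(x : G), hxM⟩ : M) ^ q = 1 from
            Subtype.ext (by rw [Subgroup.coe_pow, ← hox, pow_orderOf_eq_one]; rfl), map_one]) h'
        exact hA₂p q hq (hord ▸ Subgroup.orderOf_dvd_natCard _ hx2)
      · have hord : orderOf (f₁.rangeRestrict (x : G)) = q := orderOf_eq_prime (by
          rw [← map_pow, ← hox, pow_orderOf_eq_one, map_one]) h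
        exact hA₁p q hq (hord ▸ Subgroup.orderOf_dvd_natCard _ hx1)
    · have hMi : M.index = A₁.index :=
        Subgroup.index_comap_of_surjective _ f₁.rangeRestrict_surjective
      rw [hX, Subgroup.index_map_subtype,
        Subgroup.index_comap_of_surjective _ f₂.rangeRestrict_surjective, hMi] at hdvd
      rcases hq.dvd_mul.1 hdvd with h | h
      · exact hA₂i q hq h
      · exact hA₁i q hq h
  -- irreducible
  have hNC : ∀ r : ℕ, r.Prime → r ∣ Nat.card G → N < r → ∀ R : Sylow r G,
      ∀ a ∈ (R : Subgroup G), ∀ b ∈ (R : Subgroup G), a * b = b * a := by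
    intro r hr _ hNr R a ha b hb
    have : Fact r.Prime := ⟨hr⟩
    exact congrArg Subtype.val (comm_of_pgroup R.isPGroup' (by omega : n < r)
      (ρ.comp (R : Subgroup G).subtype) (fun x y h => Subtype.ext (hinj h)) ⟨a, ha⟩ ⟨b, hb⟩)
  by_cases hnc : ∃ p : ℕ, p.Prime ∧ N < p ∧ ∃ x : G, x ∉ Subgroup.center G ∧ ∃ i, x ^ p ^ i = 1
  swap
  · -- all such elements are central
    push Not at hnc
    set M : ℕ := ∏ r ∈ (Nat.card G).primeFactors.filter (fun r => N < r),
      r ^ (Nat.card G).factorization r with hM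
    let A : Subgroup G :=
      { carrier := {z | z ∈ Subgroup.center G ∧ z ^ M = 1}
        one_mem' := ⟨one_mem _, one_pow M⟩
        mul_mem' := fun {a b} ha hb => ⟨mul_mem ha.1 hb.1, by
          rw [Commute.mul_pow (Subgroup.mem_center_iff.1 hb.1 a), ha.2, hb.2, one_mul]⟩
        inv_mem' := fun {a} ha => ⟨inv_mem ha.1, by rw [inv_pow, ha.2, inv_one]⟩ }
    refine ⟨A, fun x hx y hy => Subgroup.mem_center_iff.1 hy.1 x, fun q hq h => ?_, fun q hq h => ?_⟩
    · have : Fact q.Prime := ⟨hq⟩
      obtain ⟨x, hx⟩ := exists_prime_orderOf_dvd_card' q h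
      have h1 : q ∣ M := by
        rw [← hx, ← Subgroup.orderOf_coe]
        exact orderOf_dvd_of_pow_eq_one x.2.2
      obtain ⟨r, hr, hqr⟩ := (Prime.dvd_finset_prod_iff (Nat.prime_iff.1 hq) _).1 h1
      rw [Finset.mem_filter, Nat.mem_primeFactors] at hr
      have := (Nat.prime_dvd_prime_iff_eq hq hr.1.1).1 (hq.dvd_of_dvd_pow hqr)
      omega
    · by_contra hle
      have : Fact q.Prime := ⟨hq⟩
      obtain ⟨R⟩ : Nonempty (Sylow q G) := inferInstance
      refine R.not_dvd_index (h.trans (Subgroup.index_dvd_of_le fun z hz => ?_))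
      have hzp : z ^ q ^ (Nat.card G).factorization q = 1 := by
        rw [← R.card_eq_multiplicity]
        exact congrArg Subtype.val (pow_card_eq_one' (x := (⟨z, hz⟩ : (R : Subgroup G))))
      refine ⟨not_not.1 fun hzc => hnc q hq (not_le.1 hle) z hzc _ hzp, ?_⟩
      have hdvd : q ^ (Nat.card G).factorization q ∣ M := by
        refine Finset.dvd_prod_of_mem (fun r => r ^ (Nat.card G).factorization r) ?_
        rw [Finset.mem_filter, Nat.mem_primeFactors]
        exact ⟨⟨hq, h.trans (Subgroup.index_dvd_card A), Nat.card_pos.ne'⟩, not_le.1 hle⟩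
      obtain ⟨c, hc⟩ := hdvd
      rw [hc, pow_mul, hzp, one_pow]
  obtain ⟨p, hp, hNp, x, hx, i₀, hi₀⟩ := hnc
  have : Fact p.Prime := ⟨hp⟩
  have hxp : IsPGroup p (Subgroup.zpowers x) := by
    obtain ⟨k, -, hk⟩ := (Nat.dvd_prime_pow hp).1 (orderOf_dvd_of_pow_eq_one hi₀)
    exact IsPGroup.of_card (n := k) (by rw [Nat.card_zpowers, hk])
  have hpG : p ∣ Nat.card G := by
    refine dvd_trans ?_ (orderOf_dvd_natCard x)
    obtain ⟨k, -, hk⟩ := (Nat.dvd_prime_pow hp).1 (orderOf_dvd_of_pow_eq_one hi₀)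
    rw [hk]
    refine dvd_pow_self p fun hk0 => hx ?_
    rw [hk0, pow_zero, orderOf_eq_one_iff] at hk
    rw [hk]; exact one_mem _
  obtain ⟨P, hPx⟩ := hxp.exists_le_sylow
  have hPab := hNC p hp hpG hNp P
  have hPC : (P : Subgroup G) ≤ Subgroup.centralizer ({x} : Set G) :=
    le_centralizer_of_comm hPab (hPx (Subgroup.mem_zpowers x))
  -- the centralizer of a non-central element of prime power order contains a Sylow subgroup
  have hown : ∀ r : ℕ, r.Prime → r ∣ Nat.card G → N < r → ∀ a : G, (∃ i, a ^ r ^ i = 1) →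
      ¬ r ∣ (Subgroup.centralizer ({a} : Set G)).index := by
    intro r hr hrG hNr a ha
    have : Fact r.Prime := ⟨hr⟩
    obtain ⟨R⟩ : Nonempty (Sylow r G) := inferInstance
    obtain ⟨c, hc⟩ := exists_conj_mem R.not_dvd_index ha
    intro h
    have hle : (c⁻¹ • R : Sylow r G) ≤ Subgroup.centralizer ({a} : Set G) := by
      refine le_centralizer_of_comm (hNC r hr hrG hNr _) ?_
      show a ∈ ((c⁻¹ • R : Sylow r G) : Subgroup G)
      rw [Sylow.coe_subgroup_smul, Subgroup.mem_pointwise_smul_iff_inv_smul_mem, ← map_inv,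
        MulAut.smul_def, MulAut.conj_apply, inv_inv]
      exact hc
    exact (c⁻¹ • R).not_dvd_index (h.trans (Subgroup.index_dvd_of_le hle))
  have hfull : ∀ r : ℕ, r.Prime → N < r → ¬ r ∣ (Subgroup.centralizer ({x} : Set G)).index := by
    intro r hr hNr h
    have : Fact r.Prime := ⟨hr⟩
    have hrG : r ∣ Nat.card G := h.trans (Subgroup.index_dvd_card _)
    by_cases hrp : r = p
    · subst hrp
      exact P.not_dvd_index (h.trans (Subgroup.index_dvd_of_le hPC))
    by_cases hy : ∃ y : G, y ∉ Subgroup.center G ∧ ∃ i, y ^ r ^ i = 1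
    swap
    · push Not at hy
      obtain ⟨R⟩ : Nonempty (Sylow r G) := inferInstance
      refine R.not_dvd_index (h.trans (Subgroup.index_dvd_of_le fun z hz => ?_))
      have hzp : z ^ r ^ (Nat.card G).factorization r = 1 := by
        rw [← R.card_eq_multiplicity]
        exact congrArg Subtype.val (pow_card_eq_one' (x := (⟨z, hz⟩ : (R : Subgroup G))))
      have hzc : z ∈ Subgroup.center G := not_not.1 fun hzc => hy z hzc _ hzp
      exact Subgroup.mem_centralizer_singleton_iff.2 (Subgroup.mem_center_iff.1 hzc x).symm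
    obtain ⟨a, b, hab, ha, hb, hap, hbr⟩ := exists_pair ρ hinj (lt_of_le_of_lt hnN hNp)
      (lt_of_le_of_lt hnN hNr) ⟨x, hx, i₀, hi₀⟩ hy
    -- a conjugate of `a` with centralizer of full `r`-part
    obtain ⟨A', hA'C, hA'c, hA'i⟩ := hproper _ (centralizer_ne_top hb)
    have hA'r : ¬ r ∣ A'.index := hA'i r hr hNr (hown r hr hrG hNr b hbr)
    -- `A'` has full `p`-part in the centralizer
    obtain ⟨A'', hA''c, -, hA''i⟩ := ih (n + Nat.card (Subgroup.centralizer ({b} : Set G)))
      (by
        have : Nat.card (Subgroup.centralizer ({b} : Set G)) < Nat.card G :=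
          lt_of_le_of_ne (Subgroup.card_le_card_group _)
            fun h => centralizer_ne_top hb (Subgroup.eq_top_of_card_eq _ h)
        omega) (ρ.comp (Subgroup.centralizer ({b} : Set G)).subtype)
      (fun u v h => Subtype.ext (hinj h)) hnN rfl
    obtain ⟨i, hi⟩ := hap
    obtain ⟨c, hc⟩ := exists_conj_mem (r := p)
      (fun h => absurd (hA''i p hp h) (not_le.2 hNp))
      (x := (⟨a, Subgroup.mem_centralizer_singleton_iff.2 hab.eq⟩ :
        Subgroup.centralizer ({b} : Set G))) ⟨i, Subtype.ext (by simpa using hi)⟩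
    set a' : G := (c : G) * a * (c : G)⁻¹ with ha'
    have ha'nc : a' ∉ Subgroup.center G := fun h => ha (by
      have := (inferInstance : (Subgroup.center G).Normal).conj_mem _ h (c : G)⁻¹
      simpa [ha', mul_assoc] using this)
    have ha'p : ∃ i, a' ^ p ^ i = 1 := ⟨i, by rw [ha', conj_pow, hi]; simp⟩
    have hr' : ¬ r ∣ (Subgroup.centralizer ({a'} : Set G)).index := by
      intro h'
      have hle : A''.map (Subgroup.centralizer ({b} : Set G)).subtype ≤
          Subgroup.centralizer ({a'} : Set G) := by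
        refine le_centralizer_of_comm ?_ ⟨_, hc, rfl⟩
        rintro _ ⟨u, hu, rfl⟩ _ ⟨v, hv, rfl⟩
        rw [← map_mul, ← map_mul, hA''c u hu v hv]
      have h2 := h'.trans (Subgroup.index_dvd_of_le hle)
      rw [Subgroup.index_map_subtype] at h2
      rcases hr.dvd_mul.1 h2 with h2 | h2
      · exact absurd (hA''i r hr h2) (not_le.2 hNr)
      · exact hown r hr hrG hNr b hbr h2
    obtain ⟨A₀, -, hA₀c, hA₀i⟩ := hproper _ (centralizer_ne_top ha'nc)
    obtain ⟨d, hd⟩ := exists_conj_mem (hA₀i p hp hNp (hown p hp hpG hNp a' ha'p))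
      ⟨i₀, hi₀⟩
    set A₁ := A₀.map (MulAut.conj d⁻¹).toMonoidHom with hA₁
    have hle : A₁ ≤ Subgroup.centralizer ({x} : Set G) := by
      refine le_centralizer_of_comm ?_ ⟨_, hd, by simp [mul_assoc]⟩
      rintro _ ⟨u, hu, rfl⟩ _ ⟨v, hv, rfl⟩
      rw [← map_mul, ← map_mul, hA₀c u hu v hv]
    have h2 := h.trans (Subgroup.index_dvd_of_le hle)
    rw [hA₁, Subgroup.index_map_of_bijective (MulAut.conj d⁻¹).bijective] at h2
    exact hA₀i r hr hNr hr' h2
  obtain ⟨A, hAc, hAp, hAi⟩ := ih (n + Nat.card (Subgroup.centralizer ({x} : Set G)))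
    (by
      have : Nat.card (Subgroup.centralizer ({x} : Set G)) < Nat.card G :=
        lt_of_le_of_ne (Subgroup.card_le_card_group _)
          fun h => centralizer_ne_top hx (Subgroup.eq_top_of_card_eq _ h)
      omega) (ρ.comp (Subgroup.centralizer ({x} : Set G)).subtype)
    (fun u v h => Subtype.ext (hinj h)) hnN rfl
  refine ⟨A.map (Subgroup.centralizer ({x} : Set G)).subtype, ?_, fun q hq h => ?_, fun q hq h => ?_⟩
  · rintro _ ⟨u, hu, rfl⟩ _ ⟨v, hv, rfl⟩
    rw [← map_mul, ← map_mul, hAc u hu v hv]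
  · rw [Subgroup.card_subtype] at h
    exact hAp q hq h
  · rw [Subgroup.index_map_subtype] at h
    rcases hq.dvd_mul.1 h with h | h
    · exact hAi q hq h
    · by_contra hle
      exact hfull q hq (not_le.1 hle) h

/-- `main0` for a group in any universe, through its image. -/
theorem main (N : ℕ) {G : Type w} [Group G] [Finite G] {n : ℕ}
    (ρ : Representation ℂ G (Fin n → ℂ)) (hinj : Function.Injective ρ) (hnN : n + 1 ≤ N) :
    ∃ A : Subgroup G, Good N A := by
  let f : G →* CharExtension.GU' n := MonoidHom.toHomUnits ρ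
  have hf : Function.Injective f := fun a b h =>
    hinj (congrArg (fun u : CharExtension.GU' n => (u : Module.End ℂ (Fin n → ℂ))) h)
  have : Finite f.range := Finite.of_surjective _ f.rangeRestrict_surjective
  let r : Representation ℂ f.range (Fin n → ℂ) := (Units.coeHom _).comp f.range.subtype
  obtain ⟨A, hAc, hAp, hAi⟩ := main0 N _ r (fun a b h => Subtype.ext (Units.ext h)) hnN rfl
  let e : G ≃* f.range := MonoidHom.ofInjective hf
  refine ⟨A.comap e.toMonoidHom, fun a ha b hb => e.injective ?_, fun q hq h => hAp q hq ?_,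
    fun q hq h => hAi q hq ?_⟩
  · rw [map_mul, map_mul]; exact hAc _ ha _ hb
  · rwa [Subgroup.comap_equiv_eq_map_symm', Subgroup.card_map_of_injective e.symm.injective] at h
  · rwa [Subgroup.index_comap_of_surjective (f := e.toMonoidHom) A e.surjective] at h

/-- Let the finite group G have a faithful character χ of degree n (G is a linear group of degree n), and let π be the set of primes greater than n + 1. Then G has an abelian Hall π-subgroup: an abelian subgroup A whose order is divisible only by primes greater than n + 1 and whose index is divisible by no prime greater than n + 1. -/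
theorem result {G : Type*} [Group G] [Finite G] (χ : G → ℂ) (hχ : Cfsg.IsCharacter G χ) (hfaith : ∀ g : G, χ g = χ 1 → g = 1) (n : ℕ) (hn : Cfsg.charDegree χ = n) : ∃ A : Subgroup G, (∀ x ∈ A, ∀ y ∈ A, x * y = y * x) ∧ (∀ q : ℕ, q.Prime → q ∣ Nat.card A → n + 1 < q) ∧ ∀ q : ℕ, q.Prime → q ∣ A.index → q ≤ n + 1 := by
  classical
  obtain ⟨m, ρ, rfl⟩ := hχ
  have hm : m = n := by simpa [Cfsg.charDegree] using hn
  subst hm
  have hinj : Function.Injective ρ := by
    intro a b h
    rw [← mul_inv_eq_one]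
    refine hfaith _ ?_
    show LinearMap.trace ℂ _ (ρ _) = LinearMap.trace ℂ _ (ρ 1)
    rw [map_mul, h, ← map_mul, mul_inv_cancel]
  exact main (m + 1) ρ hinj le_rfl

end Cfsg.Agent.S4465
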