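import Cfsg.Statements.S4467
import Mathlib
import Cfsg.Agent.S4468
import Cfsg.Agent.Lib.BergerIsotypic30
import Cfsg.Agent.Lib.CharKernel
import Cfsg.Agent.Lib.CharCliffordCorr
import Cfsg.Agent.Lib.ClassSizeGraph76

set_option autoImplicit false
open Cfsg

namespace Cfsg.Agent.S4467
open Cfsg.Agent.CharBasic Cfsg.Agent.CharBasicOrth Cfsg.Agent.CharBasicDecomp Cfsg.Agent.CharInduced
open Cfsg.Agent.S4468 (exists_constituent_ne)
open scoped commutatorElement ComplexConjugate

universe w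

noncomputable local instance (priority := high) fintypeOfFin' {α : Type*} [Finite α] : Fintype α :=
  Fintype.ofFinite α

/-- the subgroup generated by the `p`-elements -/
abbrev pGen (p : ℕ) (G : Type w) [Group G] : Subgroup G :=
  Subgroup.closure {g : G | ∃ k : ℕ, orderOf g = p ^ k}

/-- the conclusion -/
def Concl (p n : ℕ) : Prop :=
  ∃ q : ℕ, IsPrimePow q ∧ q ∣ n ∧
    ((q : ℤ) ≡ -1 [ZMOD p] ∨ (q : ℤ) ≡ 0 [ZMOD p] ∨ (q : ℤ) ≡ 1 [ZMOD p])

theorem Concl.mono {p d n : ℕ} (h : Concl p d) (hd : d ∣ n) : Concl p n := by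
  obtain ⟨q, h1, h2, h3⟩ := h
  exact ⟨q, h1, h2.trans hd, h3⟩

theorem isPGroup_zpowers {G : Type w} [Group G] {p : ℕ} {y : G} {k : ℕ} (hk : orderOf y = p ^ k) :
    IsPGroup p (Subgroup.zpowers y) := IsPGroup.of_card (by rw [Nat.card_zpowers, hk])

theorem pGen_normal (p : ℕ) (G : Type w) [Group G] [Finite G] : (pGen p G).Normal := by
  refine ⟨fun x hx g => ?_⟩
  have h : (pGen p G).map (MulAut.conj g).toMonoidHom ≤ pGen p G := by
    rw [MonoidHom.map_closure]
    refine (Subgroup.closure_le _).2 ?_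
    rintro _ ⟨a, ⟨k, hk⟩, rfl⟩
    exact Subgroup.subset_closure ⟨k, ((MulAut.conj g).orderOf_eq a).trans hk⟩
  exact h (Subgroup.mem_map_of_mem _ hx)

theorem mem_pGen_of_isPGroup {G : Type w} [Group G] {p : ℕ} [Fact p.Prime] (P : Subgroup G)
    (hP : IsPGroup p P) : P ≤ pGen p G := fun x hx => by
  obtain ⟨k, hk⟩ := IsPGroup.iff_orderOf.1 hP ⟨x, hx⟩
  exact Subgroup.subset_closure ⟨k, by rw [← hk, Subgroup.orderOf_mk]⟩

/-- a central element of `G` acts on a constituent of a restriction by the same scalar -/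
theorem scalar_transfer {G : Type w} [Group G] [Finite G] {χ : IrrCharacter G} (S : Subgroup G)
    {η : IrrCharacter S} (h : classInner (fun s : S => (χ : G → ℂ) s) (η : S → ℂ) ≠ 0)
    (z : S) (hz : (z : G) ∈ Subgroup.center G) :
    ∃ c : ℂ, (c = 1 → (χ : G → ℂ) z = (χ : G → ℂ) 1) ∧
      ∀ v : S, (η : S → ℂ) (z * v) = c * (η : S → ℂ) v := by
  obtain ⟨n, ρ, hρi, hρ⟩ := χ.2
  obtain ⟨m, τ, hτi, hτ⟩ := η.2
  obtain ⟨c, hc⟩ := exists_scalar_of_mem_center ρ hz
  have hzS : z ∈ Subgroup.center S := Subgroup.mem_center_iff.2 fun g =>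
    Subtype.ext (Subgroup.mem_center_iff.1 hz g)
  obtain ⟨c', hc'⟩ := exists_scalar_of_mem_center τ hzS
  refine ⟨c, fun h1 => ?_, fun v => ?_⟩
  · rw [← hρ]
    show LinearMap.trace ℂ _ (ρ z) = LinearMap.trace ℂ _ (ρ 1)
    rw [hc, h1, one_smul, map_one, Module.End.one_eq_id]
  · let ρS : Representation ℂ S (Fin n → ℂ) := ρ.comp S.subtype
    have h2 : classInner ρS.character τ.character ≠ 0 := by
      rw [show ρS.character = fun s : S => (χ : G → ℂ) s from funext fun s => by rw [← hρ]; rfl, hτ]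
      exact h
    rw [BergerIsotypic30.finrank_homSpace, Nat.cast_ne_zero] at h2
    have : Nontrivial (BergerIsotypic30.homSpace τ ρS) :=
      Module.finrank_pos_iff.1 (Nat.pos_of_ne_zero h2)
    obtain ⟨⟨j, hj⟩, hj0⟩ := exists_ne (0 : BergerIsotypic30.homSpace τ ρS)
    obtain ⟨w, hw⟩ : ∃ w, j w ≠ 0 := by
      by_contra hcon
      push Not at hcon
      exact hj0 (Subtype.ext (LinearMap.ext hcon))
    have h3 : j (τ z w) = ρ (z : G) (j w) := hj z w
    rw [hc, hc', LinearMap.smul_apply, LinearMap.smul_apply, LinearMap.id_apply,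
      LinearMap.id_apply, map_smul] at h3
    have hcc : c' = c := smul_left_injective ℂ hw h3
    rw [← hτ]
    show LinearMap.trace ℂ _ (τ (z * v)) = c * LinearMap.trace ℂ _ (τ v)
    rw [map_mul, hc', hcc, ← Module.End.one_eq_id, smul_mul_assoc, one_mul, map_smul, smul_eq_mul]

theorem modEq_index {G : Type w} [Group G] [Finite G] {p : ℕ} [Fact p.Prime] (A : Subgroup G)
    [A.Normal] (hA : ¬ p ∣ Nat.card A) {y : G} {k : ℕ} (hk : orderOf y = p ^ k) :
    (Subgroup.centralizer ({y} : Set G)).relIndex A ≡ 1 [MOD p] := by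
  classical
  letI : MulAction (Subgroup.zpowers y) A :=
    { smul := fun b a => MulAut.conjNormal (b : G) a
      one_smul := fun a => by
        show MulAut.conjNormal ((1 : Subgroup.zpowers y) : G) a = a
        rw [OneMemClass.coe_one, map_one]; rfl
      mul_smul := fun b c a => by
        show MulAut.conjNormal ((b * c : Subgroup.zpowers y) : G) a =
          MulAut.conjNormal (b : G) (MulAut.conjNormal (c : G) a)
        rw [Subgroup.coe_mul, map_mul]; rfl }
  have hmod := (isPGroup_zpowers hk).card_modEq_card_fixedPoints (α := A)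
  let C : Subgroup A := (Subgroup.centralizer ({y} : Set G)).subgroupOf A
  have hfix : Nat.card (MulAction.fixedPoints (Subgroup.zpowers y) A) = Nat.card C := by
    refine Nat.card_congr (Equiv.subtypeEquivRight fun a => ?_)
    rw [MulAction.mem_fixedPoints]
    show _ ↔ a ∈ C
    rw [Subgroup.mem_subgroupOf, Subgroup.mem_centralizer_singleton_iff]
    refine ⟨fun h => ?_, fun h b => ?_⟩
    · have h1 := congrArg Subtype.val (h ⟨y, Subgroup.mem_zpowers y⟩)
      change ((MulAut.conjNormal y a : A) : G) = a at h1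
      rw [MulAut.conjNormal_apply] at h1
      exact (mul_inv_eq_iff_eq_mul.1 h1).symm
    · apply Subtype.ext
      show ((MulAut.conjNormal (b : G) a : A) : G) = a
      rw [MulAut.conjNormal_apply, mul_inv_eq_iff_eq_mul]
      obtain ⟨i, hi⟩ := Subgroup.mem_zpowers_iff.1 b.2
      rw [← hi]
      exact (Commute.zpow_left (show Commute y (a : G) from h.symm) i).eq
  rw [hfix, ← C.card_mul_index] at hmod
  refine Nat.ModEq.cancel_left_of_coprime (c := Nat.card C) ?_ ?_
  · exact ((Fact.out : p.Prime).coprime_iff_not_dvd).2 fun h =>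
      hA (h.trans (Subgroup.card_subgroup_dvd_card C))
  · rw [mul_one]; exact hmod

theorem core_free_index {G : Type w} [Group G] [Finite G] [Group.IsSolvable G] {p : ℕ}
    [Fact p.Prime] (hgen : pGen p G = ⊤) {U : Subgroup G} (hU : IsCoatom U)
    (hcore : U.normalCore = ⊥) (hp : ¬ p ∣ U.index) :
    ∃ q : ℕ, IsPrimePow q ∧ q ∣ U.index ∧ (q : ℤ) ≡ 1 [ZMOD p] := by
  classical
  have : Nontrivial G := by
    by_contra h
    rw [not_nontrivial_iff_subsingleton] at h
    exact hU.1 (Subsingleton.elim _ _)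
  obtain ⟨A, hA⟩ := HallSolvable.exists_minNormal (G := G)
  have := hA.normal
  obtain ⟨r, hr, -, hAr⟩ := hA.exists_prime
  have : Fact r.Prime := ⟨hr⟩
  have hAc := hA.commutative_of_solvable
  have hAU : ¬ A ≤ U := fun h => hA.ne_bot (le_bot_iff.1 (hcore ▸ Subgroup.normal_le_normalCore.2 h))
  have hsup : U ⊔ A = ⊤ :=
    hU.2 _ (lt_of_le_of_ne le_sup_left fun e => hAU (e ▸ le_sup_right))
  have hinf : U ⊓ A = ⊥ := by
    have hn : (U ⊓ A).Normal := by
      rw [← Subgroup.normalizer_eq_top_iff, eq_top_iff, ← hsup]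
      refine sup_le (fun u hu => Subgroup.mem_normalizer_iff.2 fun x => ⟨fun hx => ?_, fun hx => ?_⟩)
        (fun a ha => Subgroup.mem_normalizer_iff.2 fun x => ⟨fun hx => ?_, fun hx => ?_⟩)
      · exact ⟨U.mul_mem (U.mul_mem hu hx.1) (U.inv_mem hu), hA.normal.conj_mem _ hx.2 u⟩
      · have h2 := hA.normal.conj_mem _ hx.2 u⁻¹
        refine ⟨?_, by simpa [mul_assoc] using h2⟩
        simpa [mul_assoc] using mul_mem (mul_mem (inv_mem hu) hx.1) hu
      · have : a * x = x * a := congrArg Subtype.val (hAc.is_comm.comm ⟨a, ha⟩ ⟨x, hx.2⟩)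
        rwa [this, mul_inv_cancel_right]
      · have h2 : x ∈ A := by
          simpa [mul_assoc] using hA.normal.conj_mem _ hx.2 a⁻¹
        have : a * x = x * a := congrArg Subtype.val (hAc.is_comm.comm ⟨a, ha⟩ ⟨x, h2⟩)
        rwa [this, mul_inv_cancel_right] at hx
    exact le_bot_iff.1 (hcore ▸ Subgroup.normal_le_normalCore.2 (inf_le_left : U ⊓ A ≤ U))
  have hidx : Nat.card A = U.index := by
    have h1 : A.index = A.relIndex U := by
      rw [← Subgroup.relIndex_top_right, ← hsup, Subgroup.relIndex_sup_right]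
    have h2 : A.relIndex U = Nat.card U := by
      rw [← Subgroup.inf_relIndex_right, inf_comm, hinf, Subgroup.relIndex_bot_left]
    have e1 := A.card_mul_index
    have e2 := U.card_mul_index
    rw [h1, h2, ← e2, mul_comm] at e1
    exact Nat.eq_of_mul_eq_mul_left Nat.card_pos e1
  obtain ⟨y, ⟨k, hk⟩, hyU, a₀, ha₀, hne⟩ : ∃ y : G, (∃ k, orderOf y = p ^ k) ∧ y ∈ U ∧
      ∃ a ∈ A, a * y ≠ y * a := by
    by_contra hcon
    push Not at hcon
    have hall : A ≤ Subgroup.center G := by
      have h1 : pGen p G ≤ Subgroup.centralizer (A : Set G) := by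
        refine (Subgroup.closure_le _).2 ?_
        rintro g ⟨k, hk⟩
        obtain ⟨S⟩ : Nonempty (Sylow p U) := inferInstance
        have hS : IsPGroup p ((S : Subgroup U).map U.subtype) := S.2.map _
        obtain ⟨P, hP⟩ := hS.exists_le_sylow
        have hPeq : (S : Subgroup U).map U.subtype = P := by
          refine Subgroup.eq_of_le_of_card_ge hP (le_of_eq ?_)
          rw [Subgroup.card_map_of_injective U.subtype_injective, S.card_eq_multiplicity,
            P.card_eq_multiplicity, ← U.card_mul_index,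
            Nat.factorization_mul Nat.card_pos.ne' Subgroup.index_ne_zero_of_finite,
            Finsupp.add_apply, Nat.factorization_eq_zero_of_not_dvd hp, add_zero]
        obtain ⟨Q, hQ⟩ := (isPGroup_zpowers hk).exists_le_sylow
        obtain ⟨c, hc⟩ := MulAction.exists_smul_eq G Q P
        have hcg : c * g * c⁻¹ ∈ (P : Subgroup G) := by
          rw [← hc]; exact Subgroup.mem_map.2 ⟨g, hQ (Subgroup.mem_zpowers g), rfl⟩
        have hcgU : c * g * c⁻¹ ∈ U := by
          rw [← hPeq] at hcg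
          exact Subgroup.map_subtype_le _ hcg
        refine Subgroup.mem_centralizer_iff.2 fun a ha => ?_
        have h2 := hcon _ ⟨k, ((MulAut.conj c).orderOf_eq g).trans hk⟩ hcgU (c * a * c⁻¹)
          (hA.normal.conj_mem a ha c)
        have h3 := congrArg (fun z => c⁻¹ * z * c) h2
        simpa [mul_assoc] using h3
      intro a ha
      refine Subgroup.mem_center_iff.2 fun g => ?_
      exact (Subgroup.mem_centralizer_iff.1 (h1 (hgen ▸ Subgroup.mem_top g)) a ha).symm
    have hUn : U.Normal := by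
      rw [← Subgroup.normalizer_eq_top_iff, eq_top_iff, ← hsup]
      exact sup_le Subgroup.le_normalizer (le_trans hall
        (le_trans (Subgroup.center_le_centralizer _) (Subgroup.centralizer_le_normalizer _)))
    have hUbot : U = ⊥ := le_bot_iff.1 (hcore ▸ Subgroup.normal_le_normalCore.2 le_rfl)
    rw [hUbot, Subgroup.index_bot] at hp
    refine hU.1 (hUbot.trans (eq_comm.1 ?_))
    rw [← hgen]
    refine le_bot_iff.1 ((Subgroup.closure_le _).2 ?_)
    rintro g ⟨k, hk⟩
    rcases Nat.eq_zero_or_pos k with rfl | hk0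
    · exact Subgroup.mem_bot.2 (orderOf_eq_one_iff.1 (by rw [hk, pow_zero]))
    · exact absurd ((dvd_pow_self p hk0.ne').trans (hk ▸ orderOf_dvd_natCard g)) hp
  have hcop : ¬ p ∣ Nat.card A := hidx ▸ hp
  have h1 := modEq_index A hcop hk
  set j := (Subgroup.centralizer ({y} : Set G)).relIndex A with hj
  have hjd : j ∣ Nat.card A := Subgroup.relIndex_dvd_card _ _
  obtain ⟨e, he⟩ := IsPGroup.iff_card.1 hAr
  obtain ⟨i, -, hi⟩ := (Nat.dvd_prime_pow hr).1 (he ▸ hjd)
  have hi0 : i ≠ 0 := by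
    intro h
    rw [h, pow_zero, hj, Subgroup.relIndex_eq_one] at hi
    exact hne (Subgroup.mem_centralizer_singleton_iff.1 (hi ha₀))
  refine ⟨j, hi ▸ hr.isPrimePow.pow hi0, hidx ▸ hjd, ?_⟩
  exact_mod_cast Int.natCast_modEq_iff.2 h1

theorem coatom_index {G : Type w} [Group G] [Finite G] [Group.IsSolvable G] {p : ℕ} [Fact p.Prime]
    (hgen : pGen p G = ⊤) {U : Subgroup G} (hU : IsCoatom U) (hp : ¬ p ∣ U.index) :
    ∃ q : ℕ, IsPrimePow q ∧ q ∣ U.index ∧ (q : ℤ) ≡ 1 [ZMOD p] := by
  set L := U.normalCore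
  let π := QuotientGroup.mk' L
  have hπ : Function.Surjective π := QuotientGroup.mk'_surjective L
  have hLU : L ≤ U := U.normalCore_le
  have : Group.IsSolvable (G ⧸ L) := Group.isSolvable_of_surjective hπ
  have hcomap : (U.map π).comap π = U := HallSolvable.comap_mk'_map_of_le hLU
  have hidx : (U.map π).index = U.index := HallSolvable.index_map_mk'_of_le hLU
  have hU' : IsCoatom (U.map π) := by
    refine ⟨fun h => hU.1 ?_, fun K hK => ?_⟩
    · rw [← hcomap, h, Subgroup.comap_top]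
    · have h1 : U < K.comap π :=
        lt_of_eq_of_lt hcomap.symm ((Subgroup.comap_lt_comap_of_surjective hπ).2 hK)
      have h2 := hU.2 _ h1
      rw [← Subgroup.map_comap_eq_self_of_surjective hπ K, h2,
        Subgroup.map_top_of_surjective π hπ]
  have hcore : (U.map π).normalCore = ⊥ := by
    refine le_bot_iff.1 fun x hx => ?_
    obtain ⟨g, rfl⟩ := hπ x
    have h1 : ((U.map π).normalCore).comap π ≤ L := by
      refine Subgroup.normal_le_normalCore.2 ?_
      exact (Subgroup.comap_mono (U.map π).normalCore_le).trans hcomap.le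
    exact Subgroup.mem_bot.2 ((QuotientGroup.eq_one_iff g).2 (h1 hx))
  have hgen' : pGen p (G ⧸ L) = ⊤ := by
    rw [eq_top_iff, ← Subgroup.map_top_of_surjective π hπ, ← hgen, MonoidHom.map_closure]
    refine Subgroup.closure_mono ?_
    rintro _ ⟨g, ⟨k, hk⟩, rfl⟩
    obtain ⟨i, -, hi⟩ := (Nat.dvd_prime_pow (Fact.out : p.Prime)).1 (hk ▸ orderOf_map_dvd π g)
    exact ⟨i, hi⟩
  rw [← hidx] at hp ⊢
  exact core_free_index hgen' hU' hcore hp

theorem not_central_step {G : Type w} [Group G] [Finite G] {p q : ℕ} [Fact p.Prime] [Fact q.Prime]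
    (hqp : q ≠ p) (χ : IrrCharacter G)
    (hfaith : ∀ g : G, (χ : G → ℂ) g = (χ : G → ℂ) 1 → g = 1) (R : Subgroup G) [R.Normal]
    (hR : IsPGroup q R) (hcen : ⁅R, R⁆ ≤ Subgroup.center G)
    (hZR : ∀ d ∈ R, (∀ v ∈ R, d * v = v * d) → d ∈ Subgroup.center G) {y : G} {k : ℕ}
    (hk : orderOf y = p ^ k) {u : G} (hu : u ∈ R) (hne : u * y ≠ y * u) :
    Concl p (charDegree (χ : G → ℂ)) := by
  classical
  have hyc : ∀ v ∈ R, y * v * y⁻¹ ∈ R := fun v hv => (inferInstance : R.Normal).conj_mem v hv y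
  let Y : Subgroup G := Subgroup.centralizer ({y} : Set G)
  have hYmem : ∀ {g : G}, g ∈ Y ↔ g * y = y * g := Subgroup.mem_centralizer_singleton_iff
  let D : G → G := fun v => v⁻¹ * (y * v * y⁻¹)
  let S : Subgroup G := Subgroup.closure (D '' (R : Set G)) ⊔ ⁅R, R⁆
  have hSR : S ≤ R := sup_le ((Subgroup.closure_le _).2 (by
    rintro _ ⟨v, hv, rfl⟩; exact mul_mem (inv_mem hv) (hyc v hv))) (Subgroup.commutator_le_self R)
  have hDS : ∀ v ∈ R, D v ∈ S := fun v hv =>
    Subgroup.mem_sup_left (Subgroup.subset_closure ⟨v, hv, rfl⟩)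
  have hcomm : ∀ {a b : G}, a ∈ R → b ∈ R → ⁅a, b⁆ ∈ Subgroup.center G := fun ha hb =>
    hcen (Subgroup.commutator_mem_commutator ha hb)
  have hD : ∀ s ∈ R, ∀ v ∈ R, ⁅y * s * y⁻¹, y * v * y⁻¹⁆ = ⁅s, v⁆ := fun s hs v hv => by
    rw [← conjugate_commutatorElement, Subgroup.mem_center_iff.1 (hcomm hs hv) y, mul_inv_cancel_right]
  -- an element whose `D`-value is fixed is fixed
  have hfixlem : ∀ v ∈ R, D v * y = y * D v → v * y = y * v := by
    intro v hv hd
    set d := D v with hdd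
    have hdR : d ∈ R := mul_mem (inv_mem hv) (hyc v hv)
    have hvd : v * d = y * v * y⁻¹ := mul_inv_cancel_left _ _
    have hpw : ∀ j : ℕ, y ^ j * v * (y ^ j)⁻¹ = v * d ^ j := by
      intro j
      induction j with
      | zero => simp
      | succ j ih =>
        have hdk : y * d ^ j = d ^ j * y :=
          ((Commute.pow_left (show Commute d y from hd) j).eq).symm
        calc y ^ (j + 1) * v * (y ^ (j + 1))⁻¹ = y * (y ^ j * v * (y ^ j)⁻¹) * y⁻¹ := by
              rw [pow_succ']; group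
          _ = y * v * y⁻¹ * (y * d ^ j) * y⁻¹ := by rw [ih]; group
          _ = y * v * y⁻¹ * (d ^ j * y) * y⁻¹ := by rw [hdk]
          _ = y * v * y⁻¹ * d ^ j := by group
          _ = v * d * d ^ j := by rw [hvd]
          _ = v * d ^ (j + 1) := by rw [pow_succ', mul_assoc]
    have h1 : d ^ orderOf y = 1 := by
      have := hpw (orderOf y)
      rw [pow_orderOf_eq_one, one_mul, inv_one, mul_one, left_eq_mul] at this
      exact this
    obtain ⟨j, hj⟩ := IsPGroup.iff_orderOf.1 hR ⟨d, hdR⟩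
    rw [Subgroup.orderOf_mk] at hj
    have hd1 : d = 1 := orderOf_eq_one_iff.1 (Nat.eq_one_of_dvd_coprimes
      (Nat.Coprime.pow k j ((Nat.coprime_primes (Fact.out : p.Prime) (Fact.out : q.Prime)).2
        hqp.symm)) (hk ▸ orderOf_dvd_of_pow_eq_one h1) hj.dvd)
    rw [hd1, mul_one] at hvd
    calc v * y = y * v * y⁻¹ * y := by rw [← hvd]
      _ = y * v := inv_mul_cancel_right _ _
  -- the key commutator identity
  have hkey : ∀ s ∈ R, ∀ w ∈ R, Commute s (D w) ↔ ⁅s, y * w * y⁻¹⁆ = ⁅s, w⁆ := by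
    intro s _ w _
    have e : ⁅s, y * w * y⁻¹⁆ = s * w * s⁻¹ * (s * D w * s⁻¹) * (y * w * y⁻¹)⁻¹ := by
      simp only [D, commutatorElement_def]; group
    have e2 : ⁅s, w⁆ = s * w * s⁻¹ * D w * (y * w * y⁻¹)⁻¹ := by
      simp only [D, commutatorElement_def]; group
    rw [e, e2, mul_left_inj, mul_right_inj, mul_inv_eq_iff_eq_mul]
    exact Iff.rfl
  -- fixed elements commute with `S`
  have hCS : ∀ c ∈ R, c * y = y * c → ∀ t ∈ S, t * c = c * t := by
    intro c hc hcy t ht
    have h1 : S ≤ Subgroup.centralizer ({c} : Set G) := by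
      refine sup_le ((Subgroup.closure_le _).2 ?_) ?_
      · rintro _ ⟨v, hv, rfl⟩
        refine Subgroup.mem_centralizer_singleton_iff.2 ((hkey c hc v hv).2 ?_).eq.symm
        have hyc' : y * c * y⁻¹ = c := by rw [← hcy, mul_inv_cancel_right]
        calc ⁅c, y * v * y⁻¹⁆ = ⁅y * c * y⁻¹, y * v * y⁻¹⁆ := by rw [hyc']
          _ = ⁅c, v⁆ := hD c hc v hv
      · intro z hz
        exact Subgroup.mem_centralizer_singleton_iff.2
          (Subgroup.mem_center_iff.1 (hcen hz) c).symm
    exact Subgroup.mem_centralizer_singleton_iff.1 (h1 ht)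
  -- elements commuting with `S` are fixed
  have hSC : ∀ s ∈ R, (∀ t ∈ S, t * s = s * t) → s * y = y * s := by
    intro s hs hst
    refine hfixlem s hs ?_
    have hdR : D s ∈ R := mul_mem (inv_mem hs) (hyc s hs)
    have hsd : s * D s = y * s * y⁻¹ := mul_inv_cancel_left _ _
    have hall : ∀ w ∈ R, D s * (y * w * y⁻¹) = y * w * y⁻¹ * D s := by
      intro w hw
      have h1 : ⁅s, y * w * y⁻¹⁆ = ⁅s, w⁆ :=
        (hkey s hs w hw).1 (hst _ (hDS w hw)).symm
      have h2 : ⁅s * D s, y * w * y⁻¹⁆ = ⁅s, y * w * y⁻¹⁆ := by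
        rw [hsd, hD s hs w hw, h1]
      have e : ⁅s * D s, y * w * y⁻¹⁆ = s * ⁅D s, y * w * y⁻¹⁆ * s⁻¹ * ⁅s, y * w * y⁻¹⁆ := by
        simp only [commutatorElement_def]; group
      rw [h2, eq_comm, mul_eq_right, conj_eq_one_iff] at e
      exact commutatorElement_eq_one_iff_mul_comm.1 e
    have hc : D s ∈ Subgroup.center G := hZR _ hdR fun v hv => by
      have h4 := hall (y⁻¹ * v * y) (by
        simpa using (inferInstance : R.Normal).conj_mem v hv y⁻¹)
      simpa [mul_assoc] using h4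
    exact (Subgroup.mem_center_iff.1 hc y).symm
  -- the indices agree
  have hrel : Y.relIndex S = Y.relIndex R := by
    have hYR : Y.relIndex R ≠ 0 := Subgroup.FiniteIndex.index_ne_zero
    refine le_antisymm (Subgroup.relIndex_le_of_le_right hSR hYR) ?_
    let Cb : Subgroup R := Y.subgroupOf R
    let CS : Subgroup S := Y.subgroupOf S
    have hf : Function.Injective (fun x : (R ⧸ Cb) =>
        ((⟨D (x.out : G), hDS _ x.out.2⟩⁻¹ : S) : S ⧸ CS)) := by
      intro x x' h
      have h' : D (x.out : G) * (D (x'.out : G))⁻¹ ∈ Y := by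
        have h0 := QuotientGroup.eq.1 h
        rw [inv_inv] at h0
        exact h0
      set a : G := ((x.out : R) : G)
      set b : G := ((x'.out : R) : G)
      have ha : a ∈ R := x.out.2
      have hb : b ∈ R := x'.out.2
      rw [← x.out_eq, ← x'.out_eq]
      refine QuotientGroup.eq.2 (Subgroup.mem_subgroupOf.2 ?_)
      show a⁻¹ * b ∈ Y
      have hw : a⁻¹ * b ∈ R := mul_mem (inv_mem ha) hb
      have hiy : a⁻¹ * b * y = y * (a⁻¹ * b) := by
        refine hfixlem _ hw ?_
        have e : D (a⁻¹ * b) =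
            ⁅(a⁻¹ * b)⁻¹, (D a)⁻¹⁆ * ⁅(D a)⁻¹, D b⁆ * ((D a) * (D b)⁻¹)⁻¹ := by
          simp only [D, commutatorElement_def]; group
        rw [← hYmem, e]
        have hDa : (D a)⁻¹ ∈ R := inv_mem (mul_mem (inv_mem ha) (hyc a ha))
        have hDb : D b ∈ R := mul_mem (inv_mem hb) (hyc b hb)
        exact mul_mem (mul_mem
          (hYmem.2 (Subgroup.mem_center_iff.1 (hcomm (inv_mem hw) hDa) y).symm)
          (hYmem.2 (Subgroup.mem_center_iff.1 (hcomm hDa hDb) y).symm)) (inv_mem h')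
      exact hYmem.2 hiy
    exact Nat.card_le_card_of_injective _ hf
  have hRp : ¬ p ∣ Nat.card R := by
    obtain ⟨e, he⟩ := IsPGroup.iff_card.1 hR
    intro h
    exact hqp ((Nat.prime_dvd_prime_iff_eq (Fact.out : p.Prime) (Fact.out : q.Prime)).1
      ((Fact.out : p.Prime).dvd_of_dvd_pow (he ▸ h))).symm
  have hmodR := modEq_index R hRp hk
  -- a constituent on `S`
  have hχS := isCharacter_res S (isCharacter_of_isIrrCharacter χ.2)
  obtain ⟨η, hη, hηc⟩ := exists_constituent hχS (fun h => by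
    have h1 := congrFun h 1
    simp only [OneMemClass.coe_one, Pi.zero_apply] at h1
    exact isIrrCharacter_apply_one_ne_zero χ.2 h1)
  let η' : IrrCharacter S := ⟨η, hη⟩
  set m := charDegree η with hm
  have hη1 : η 1 = (m : ℂ) := CharAverage.irr_apply_one η'
  obtain ⟨n, τ, hτi, hτ⟩ := hη
  have hn : n = m := by
    have h1 := congrFun hτ 1
    rw [Representation.char_one, Module.finrank_fin_fun, hη1, Nat.cast_inj] at h1
    exact h1
  have hvan : ∀ s : S, (s : G) ∉ Y → η s = 0 := by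
    intro s hs
    obtain ⟨t, ht⟩ : ∃ t : S, (t : G) * s ≠ s * t := by
      by_contra hcon
      push Not at hcon
      exact hs (hYmem.2 (hSC _ (hSR s.2) fun t ht => hcon ⟨t, ht⟩))
    set z : S := ⁅t, s⁆ with hz
    have hzc : (z : G) ∈ Subgroup.center G := hcomm (hSR t.2) (hSR s.2)
    obtain ⟨c, hc, hc'⟩ := scalar_transfer (η := η') S hηc z hzc
    have hc1 : c ≠ 1 := fun h => ht
      (commutatorElement_eq_one_iff_mul_comm.1 (hfaith _ (hc h)))
    have h1 : η s = c * η s := by
      conv_lhs => rw [← (isClassFunction_of_isCharacter ⟨n, τ, hτ⟩) s t]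
      rw [show t * s * t⁻¹ = z * s by rw [hz, commutatorElement_def, inv_mul_cancel_right]]
      exact hc' s
    by_contra h0
    exact hc1 ((mul_eq_right₀ h0).1 h1.symm)
  have hSval : ∀ s : S, (s : G) ∈ Y → η s * conj (η s) = (m : ℂ) ^ 2 := by
    intro s hs
    have hcz : s ∈ Subgroup.center S := Subgroup.mem_center_iff.2 fun t =>
      Subtype.ext (hCS _ (hSR s.2) (hYmem.1 hs) t t.2)
    obtain ⟨c, hc⟩ := exists_scalar_of_mem_center τ hcz
    obtain ⟨c', hc'⟩ := exists_scalar_of_mem_center τ (inv_mem hcz)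
    rw [← hτ, ← CharBasic.character_inv]
    show LinearMap.trace ℂ _ (τ s) * LinearMap.trace ℂ _ (τ s⁻¹) = _
    rw [hc, hc', map_smul, map_smul, LinearMap.trace_id, Module.finrank_fin_fun, smul_eq_mul,
      smul_eq_mul, hn]
    have h1 : τ (s * s⁻¹) = (c * c') • (LinearMap.id : (Fin n → ℂ) →ₗ[ℂ] (Fin n → ℂ)) := by
      rw [map_mul, hc, hc', ← Module.End.one_eq_id, smul_mul_assoc, one_mul, smul_smul]
    rw [mul_inv_cancel, map_one] at h1
    have h2 := congrArg (LinearMap.trace ℂ (Fin n → ℂ)) h1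
    rw [map_smul, LinearMap.trace_one, LinearMap.trace_id, Module.finrank_fin_fun, smul_eq_mul,
      hn] at h2
    linear_combination (-(m : ℂ)) * h2
  have hm2 : Y.relIndex S = m ^ 2 := by
    have h1 := classInner_irr_self η'.2
    rw [classInner, inv_mul_eq_one₀ (Nat.cast_ne_zero.2 Nat.card_pos.ne')] at h1
    rw [← Finset.sum_filter_of_ne (p := fun s : S => (s : G) ∈ Y) (fun s _ hv => by
      by_contra h
      exact hv (by rw [show (η' : S → ℂ) s = η s from rfl, hvan s h, zero_mul])),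
      Finset.sum_congr rfl (fun s hs => hSval s (Finset.mem_filter.1 hs).2), Finset.sum_const,
      nsmul_eq_mul] at h1
    have h2 : (Finset.univ.filter fun s : S => (s : G) ∈ Y).card = Nat.card (Y.subgroupOf S) := by
      rw [← Fintype.card_subtype, ← Nat.card_eq_fintype_card]
      rfl
    rw [h2, ← Nat.cast_pow, ← Nat.cast_mul, Nat.cast_inj, ← (Y.subgroupOf S).card_mul_index] at h1
    exact Nat.eq_of_mul_eq_mul_left Nat.card_pos h1
  -- the constituent of the restriction to `R` above it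
  obtain ⟨ψ, hψc, hψη⟩ : ∃ ψ : IrrCharacter R,
      classInner (fun r : R => (χ : G → ℂ) r) (ψ : R → ℂ) ≠ 0 ∧
      classInner (fun s : S => (ψ : R → ℂ) ⟨s, hSR s.2⟩) η ≠ 0 := by
    obtain ⟨a, ha, hsum⟩ := exists_mult (isCharacter_res R (isCharacter_of_isIrrCharacter χ.2))
    by_contra hcon
    push Not at hcon
    refine hηc ?_
    have hres : (fun s : S => (χ : G → ℂ) s) =
        ∑ ψ : IrrCharacter R, (a ψ : ℂ) • fun s : S => (ψ : R → ℂ) ⟨s, hSR s.2⟩ := funext fun s => by
      simpa using congrFun hsum ⟨s, hSR s.2⟩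
    rw [hres, CharBasicOrth.classInner_sum_left]
    refine Finset.sum_eq_zero fun ψ _ => ?_
    rw [CharBasicOrth.classInner_smul_left]
    by_cases h : classInner (fun r : R => (χ : G → ℂ) r) (ψ : R → ℂ) = 0
    · rw [ha ψ] at h; rw [h, zero_mul]
    · rw [hcon ψ h, mul_zero]
  obtain ⟨j, d, hd, hχd, -⟩ := CharProjDegree.degree_dvd R χ.2 ψ.2 hψc
  rw [CharAverage.irr_apply_one, Nat.cast_inj] at hd hχd
  have hle : m ≤ charDegree (ψ : R → ℂ) := by
    obtain ⟨i, hi⟩ := isCharacter_apply_one (isCharacter_sub_constituent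
      (isCharacter_comap (Subgroup.inclusion hSR) (isCharacter_of_isIrrCharacter ψ.2)) η'.2 hψη)
    rw [Pi.sub_apply, show (η' : S → ℂ) 1 = (m : ℂ) from hη1, Function.comp_apply, map_one,
      CharAverage.irr_apply_one, sub_eq_iff_eq_add, ← Nat.cast_add, Nat.cast_inj] at hi
    omega
  obtain ⟨e, he⟩ := IsPGroup.iff_card.1 hR
  obtain ⟨a, -, ha⟩ := (Nat.dvd_prime_pow (Fact.out : q.Prime)).1
    (he ▸ CharAverage.charDegree_dvd_card ψ)
  obtain ⟨e', he'⟩ := IsPGroup.iff_card.1 (hR.to_le hSR)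
  obtain ⟨b, -, hb⟩ := (Nat.dvd_prime_pow (Fact.out : q.Prime)).1
    (he' ▸ CharAverage.charDegree_dvd_card η')
  rw [show charDegree (η' : S → ℂ) = m from rfl] at hb
  have hba : b ≤ a := by
    rw [hb, ha] at hle
    exact (Nat.pow_le_pow_iff_right (Fact.out : q.Prime).one_lt).1 hle
  have hb0 : b ≠ 0 := by
    intro h
    rw [h, pow_zero] at hb
    rw [hb, one_pow, hrel, Subgroup.relIndex_eq_one] at hm2
    exact hne (hYmem.1 (hm2 hu))
  refine ⟨m, hb ▸ (Fact.out : q.Prime).isPrimePow.pow hb0, ?_, ?_⟩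
  · rw [hχd, ← hd, ha, hb]
    exact Dvd.dvd.mul_right (pow_dvd_pow q hba) j
  · have h1 : ((m : ℤ) ^ 2) ≡ 1 [ZMOD p] := by
      rw [← hrel, hm2] at hmodR
      exact_mod_cast Int.natCast_modEq_iff.2 hmodR
    have h2 : (p : ℤ) ∣ ((m : ℤ) - 1) * ((m : ℤ) + 1) := by
      have := Int.modEq_iff_dvd.1 h1.symm
      have e : ((m : ℤ) - 1) * ((m : ℤ) + 1) = (m : ℤ) ^ 2 - 1 := by ring
      rwa [e]
    rcases (Nat.prime_iff_prime_int.1 (Fact.out : p.Prime)).dvd_or_dvd h2 with h | h
    · exact Or.inr (Or.inr (Int.modEq_iff_dvd.2 h).symm)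
    · refine Or.inl (Int.modEq_iff_dvd.2 ?_).symm
      rwa [sub_neg_eq_add]

theorem main (p : ℕ) [Fact p.Prime] : ∀ (N : ℕ) {G : Type w} [Group G] [Finite G],
    Nat.card G = N → Group.IsSolvable G → ∀ χ : IrrCharacter G,
    (∀ g : G, (χ : G → ℂ) g = (χ : G → ℂ) 1 → g = 1) → ∀ P : Sylow p G,
    ¬ (P : Subgroup G).Normal → Concl p (charDegree (χ : G → ℂ)) := by
  intro N
  induction N using Nat.strong_induction_on with
  | _ N ih =>
  intro G _ _ hN hsol χ hfaith P hP
  classical
  have hp : p.Prime := Fact.out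
  set n := charDegree (χ : G → ℂ) with hn
  by_cases hpn : p ∣ n
  · exact ⟨p, hp.isPrimePow, hpn, Or.inr (Or.inl (Int.modEq_zero_iff_dvd.2 dvd_rfl))⟩
  by_contra hcon
  have hPne : (P : Subgroup G) ≠ ⊥ := fun h => hP (h ▸ inferInstance)
  -- proper normal subgroups
  have hsub : ∀ H : Subgroup G, H.Normal → H ≠ ⊤ → IsPGroup p (pGen p H) := by
    intro H hH hHt
    obtain ⟨e, he⟩ := IsPGroup.iff_card.1 P.2
    rintro ⟨x, hx⟩
    refine ⟨e, Subtype.ext ?_⟩
    show x ^ p ^ e = 1
    by_contra hne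
    obtain ⟨θ, hθ, hθne, -⟩ := exists_constituent_ne
      (isCharacter_res H (isCharacter_of_isIrrCharacter χ.2)) (g := x ^ p ^ e)
      (fun h => hne (Subtype.ext (hfaith _ h)))
    obtain ⟨j, d, hd, hχd, -⟩ := CharProjDegree.degree_dvd H χ.2 θ.2 hθ
    rw [CharAverage.irr_apply_one, Nat.cast_inj] at hd hχd
    have := CharKernel.irrKer_normal θ
    obtain ⟨θ', hθ'⟩ := CharKernel.exists_quot_irr (CharKernel.irrKer θ) θ
      (fun g hg => CharKernel.mem_irrKer.1 hg)
    have hdeg : charDegree (θ' : H ⧸ CharKernel.irrKer θ → ℂ) = d := by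
      have h1 := hθ' 1
      rw [QuotientGroup.mk_one, CharAverage.irr_apply_one, CharAverage.irr_apply_one,
        Nat.cast_inj] at h1
      rw [← h1, hd]
    obtain ⟨Q⟩ : Nonempty (Sylow p (H ⧸ CharKernel.irrKer θ)) := inferInstance
    by_cases hQ : (Q : Subgroup (H ⧸ CharKernel.irrKer θ)).Normal
    · refine hθne ?_
      have hle : (pGen p H).map (QuotientGroup.mk' (CharKernel.irrKer θ)) ≤ Q := by
        rw [MonoidHom.map_closure]
        refine (Subgroup.closure_le _).2 ?_
        rintro _ ⟨g, ⟨i, hi⟩, rfl⟩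
        obtain ⟨i', -, hi'⟩ := (Nat.dvd_prime_pow hp).1
          (hi ▸ orderOf_map_dvd (QuotientGroup.mk' (CharKernel.irrKer θ)) g)
        obtain ⟨R, hR⟩ := (isPGroup_zpowers hi').exists_le_sylow
        rw [@Subsingleton.elim _ (Sylow.unique_of_normal Q hQ).instSubsingleton Q R]
        exact hR (Subgroup.mem_zpowers _)
      obtain ⟨i, hi⟩ := IsPGroup.iff_orderOf.1 Q.2 ⟨_, hle (Subgroup.mem_map_of_mem _ hx)⟩
      rw [Subgroup.orderOf_mk] at hi
      have hie : i ≤ e := by
        have h1 : p ^ i ∣ Nat.card G := by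
          rw [← hi]
          exact (orderOf_map_dvd _ x).trans ((orderOf_dvd_natCard x).trans
            (Subgroup.card_subgroup_dvd_card H))
        rw [hp.pow_dvd_iff_le_factorization Nat.card_pos.ne'] at h1
        have h2 := P.card_eq_multiplicity
        rw [he] at h2
        rwa [← Nat.pow_right_injective hp.two_le h2] at h1
      have h3 : QuotientGroup.mk' (CharKernel.irrKer θ) (x ^ p ^ e) = 1 := by
        rw [map_pow]
        exact orderOf_dvd_iff_pow_eq_one.1 (hi ▸ pow_dvd_pow p hie)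
      exact CharKernel.mem_irrKer.1 ((QuotientGroup.eq_one_iff _).1 h3)
    · refine hcon (((ih _ ?_ rfl ?_ θ' ?_ Q hQ).mono (hdeg ▸ ?_)))
      · rw [← hN]
        calc Nat.card (H ⧸ CharKernel.irrKer θ) ≤ Nat.card H :=
              Nat.card_le_card_of_surjective _ (QuotientGroup.mk'_surjective _)
          _ < Nat.card G := HallSolvable.card_subgroup_lt hHt
      · exact Group.isSolvable_of_surjective (QuotientGroup.mk'_surjective _)
      · intro g hg
        obtain ⟨h, rfl⟩ := QuotientGroup.mk_surjective g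
        refine (QuotientGroup.eq_one_iff h).2 (CharKernel.mem_irrKer.2 ?_)
        rw [hθ', hθ' 1, hg, QuotientGroup.mk_one]
      · exact ⟨j, hχd⟩
  -- the `p`-elements generate
  have hgen : pGen p G = ⊤ := by
    by_contra hE
    have hEn := pGen_normal p G
    have hEp : IsPGroup p (pGen p G) := by
      have h := hsub _ hEn hE
      have h1 : pGen p ↥(pGen p G) = ⊤ := by
        refine Subgroup.map_injective (pGen p G).subtype_injective ?_
        rw [MonoidHom.map_closure, ← MonoidHom.range_eq_map, Subgroup.range_subtype]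
        refine le_antisymm ((Subgroup.closure_le _).2 ?_) ((Subgroup.closure_le _).2 ?_)
        · rintro _ ⟨g, -, rfl⟩; exact g.2
        · rintro g ⟨i, hi⟩
          refine Subgroup.subset_closure ⟨⟨g, Subgroup.subset_closure ⟨i, hi⟩⟩, ⟨i, ?_⟩, rfl⟩
          rw [Subgroup.orderOf_mk]; exact hi
      rw [h1] at h
      exact h.of_surjective (Subgroup.topEquiv : (⊤ : Subgroup ↥(pGen p G)) ≃* ↥(pGen p G)).toMonoidHom (MulEquiv.surjective _)
    refine hP ?_
    rw [le_antisymm (mem_pGen_of_isPGroup _ P.2) (hEp.le_sylow_of_normal P)]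
    exact hEn
  have hgenC : ∀ V : Subgroup G, (∀ g : G, (∃ i, orderOf g = p ^ i) → g ∈ V) → V = ⊤ := fun V hV =>
    top_le_iff.1 (hgen ▸ (Subgroup.closure_le V).2 fun g hg => hV g hg)
  -- no proper subgroup of index dividing `n`
  have hindex : ∀ T : Subgroup G, T.index ∣ n → T = ⊤ := by
    intro T hT
    by_contra hTt
    obtain ⟨U, hU, hTU⟩ := (eq_top_or_exists_le_coatom T).resolve_left hTt
    have hUd : U.index ∣ n := (Subgroup.index_dvd_of_le hTU).trans hT
    obtain ⟨q, h1, h2, h3⟩ := coatom_index hgen hU (fun h => hpn (h.trans hUd))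
    exact hcon ⟨q, h1, h2.trans hUd, Or.inr (Or.inr h3)⟩
  have hlin : ∀ (A : Subgroup G) [hAn : A.Normal] (lam : A → ℂ), IsIrrCharacter A lam →
      classInner (fun x : A => (χ : G → ℂ) x) lam ≠ 0 → lam 1 = 1 → A ≤ Subgroup.center G := by
    intro A hAn lam hlam hc hlam1
    obtain ⟨a, ha⟩ := classInner_isCharacter (isCharacter_res A (isCharacter_of_isIrrCharacter χ.2))
      (isCharacter_of_isIrrCharacter hlam)
    have hT : inertia A lam = ⊤ := by
      refine hindex _ ⟨a, ?_⟩
      have h1 := CharCliffordCorr.apply_one_eq A χ.2 hlam hc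
      rw [hlam1, mul_one, ha, CharAverage.irr_apply_one, ← Nat.cast_mul, Nat.cast_inj] at h1
      rw [hn, h1, mul_comm]
    have hres := clifford A χ.2 hlam hc
    have horb : orbitFin A lam = {lam} := by
      rw [Finset.eq_singleton_iff_unique_mem]
      refine ⟨self_mem_orbitFin _ _, fun φ hφ => ?_⟩
      obtain ⟨g, rfl⟩ := (mem_orbitFin _).1 hφ
      exact (mem_inertia A).1 (hT ▸ Subgroup.mem_top g)
    rw [horb, Finset.sum_singleton] at hres
    obtain ⟨l, hl⟩ := CharBasicLinear.exists_hom_of_apply_one_eq_one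
      (isCharacter_of_isIrrCharacter hlam) hlam1
    intro x hx
    refine Subgroup.mem_center_iff.2 fun g => ?_
    rw [← commutatorElement_eq_one_iff_mul_comm]
    refine hfaith _ ?_
    let x' : A := ⟨x, hx⟩
    let gx : A := ⟨g * x * g⁻¹, hAn.conj_mem x hx g⟩
    have h1 : lam gx = lam x' :=
      (mem_inertia_iff A).1 (hT ▸ Subgroup.mem_top g) x'
    rw [hl] at h1
    have h2 : lam (gx * x'⁻¹) = lam 1 := by
      rw [hl]
      show ((l (gx * x'⁻¹) : ℂˣ) : ℂ) = ((l 1 : ℂˣ) : ℂ)
      rw [map_mul, map_inv, Units.val_injective h1, mul_inv_cancel, map_one]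
    have h3 := congrFun hres (gx * x'⁻¹)
    have h4 := congrFun hres 1
    rw [Pi.smul_apply, h2, ← Pi.smul_apply, ← h4] at h3
    simpa [gx, x', commutatorElement_def, mul_assoc] using h3
  have habel : ∀ (A : Subgroup G) [A.Normal], (∀ a b : A, a * b = b * a) → A ≤ Subgroup.center G := by
    intro A hAn hab
    obtain ⟨lam, hlam, hc⟩ := exists_constituent
      (isCharacter_res A (isCharacter_of_isIrrCharacter χ.2)) (fun h => by
        have h1 := congrFun h 1
        simp only [OneMemClass.coe_one, Pi.zero_apply] at h1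
        exact isIrrCharacter_apply_one_ne_zero χ.2 h1)
    exact hlin A lam hlam hc (CharBasicLinear.apply_one_eq_one_of_comm hab hlam)
  have hGnt : Nontrivial G := by
    obtain ⟨x, -, hx⟩ := (Subgroup.bot_or_exists_ne_one (P : Subgroup G)).resolve_left hPne
    exact ⟨⟨x, 1, hx⟩⟩
  obtain ⟨M, hM, hcM⟩ := (eq_top_or_exists_le_coatom (commutator G)).resolve_left
    (Group.IsSolvable.commutator_lt_top_of_nontrivial (G := G)).ne
  have hMn : M.Normal := ⟨fun x hx g => by
    rw [show g * x * g⁻¹ = ⁅g, x⁆ * x by rw [commutatorElement_def]; group]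
    exact mul_mem (hcM (Subgroup.commutator_mem_commutator (Subgroup.mem_top g) (Subgroup.mem_top x))) hx⟩
  -- the normal Sylow `p`-subgroup of `M`
  have hP0p : IsPGroup p ((pGen p M).map M.subtype) := (hsub M hMn hM.1).map _
  set P0 : Subgroup G := (pGen p M).map M.subtype with hP0
  have hP0n : P0.Normal := by
    refine ⟨fun x hx g => ?_⟩
    obtain ⟨a, ha, rfl⟩ := hx
    refine ⟨MulAut.conjNormal g a, ?_, MulAut.conjNormal_apply _ _⟩
    have h : (pGen p M).map (MulAut.conjNormal g : M ≃* M).toMonoidHom ≤ pGen p M := by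
      rw [MonoidHom.map_closure]
      refine (Subgroup.closure_le _).2 ?_
      rintro _ ⟨b, ⟨i, hi⟩, rfl⟩
      exact Subgroup.subset_closure ⟨i, ((MulAut.conjNormal g : M ≃* M).orderOf_eq b).trans hi⟩
    exact h (Subgroup.mem_map_of_mem _ ha)
  have hP0mem : ∀ x ∈ M, (∃ i, orderOf x = p ^ i) → x ∈ P0 := fun x hx ⟨i, hi⟩ =>
    ⟨⟨x, hx⟩, Subgroup.subset_closure ⟨i, by rw [Subgroup.orderOf_mk]; exact hi⟩, rfl⟩
  have hP0c : P0 ≤ Subgroup.center G := by
    obtain ⟨lam, hlam, hc⟩ := exists_constituent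
      (isCharacter_res P0 (isCharacter_of_isIrrCharacter χ.2)) (fun h => by
        have h1 := congrFun h 1
        simp only [OneMemClass.coe_one, Pi.zero_apply] at h1
        exact isIrrCharacter_apply_one_ne_zero χ.2 h1)
    obtain ⟨j, d, hd, hχd, -⟩ := CharProjDegree.degree_dvd P0 χ.2 hlam hc
    rw [CharAverage.irr_apply_one, Nat.cast_inj] at hχd
    obtain ⟨e, he⟩ := IsPGroup.iff_card.1 hP0p
    have hd' : charDegree lam = d := by
      have := CharAverage.irr_apply_one (⟨lam, hlam⟩ : IrrCharacter P0)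
      rw [show ((⟨lam, hlam⟩ : IrrCharacter P0) : P0 → ℂ) 1 = lam 1 from rfl, hd,
        Nat.cast_inj] at this
      exact this.symm
    obtain ⟨i, -, hi⟩ := (Nat.dvd_prime_pow hp).1
      (he ▸ CharAverage.charDegree_dvd_card (⟨lam, hlam⟩ : IrrCharacter P0))
    change charDegree lam = p ^ i at hi
    have hlam1 : lam 1 = 1 := by
      rcases Nat.eq_zero_or_pos i with rfl | hi0
      · rw [hd, ← hd', hi, pow_zero, Nat.cast_one]
      · exfalso
        refine hpn ((dvd_pow_self p hi0.ne').trans ?_)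
        rw [← hi, hd']
        exact ⟨j, hχd⟩
    exact hlin P0 lam hlam hc hlam1
  -- the `p'`-part of `M`
  obtain ⟨K, hK⟩ : ∃ K : Subgroup M, Subgroup.IsComplement' (P0.subgroupOf M) K := by
    refine Subgroup.exists_right_complement'_of_coprime ?_
    have hP0M : P0 ≤ M := Subgroup.map_subtype_le _
    rw [Nat.card_congr (Subgroup.subgroupOfEquivOfLe hP0M).toEquiv]
    obtain ⟨e, he⟩ := IsPGroup.iff_card.1 hP0p
    rw [he]
    refine Nat.Coprime.pow_left e (hp.coprime_iff_not_dvd.2 fun hdvd => ?_)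
    obtain ⟨z, hz⟩ := exists_prime_orderOf_dvd_card' p (G := M ⧸ P0.subgroupOf M)
      (by rwa [← Subgroup.index_eq_card])
    obtain ⟨x, rfl⟩ := QuotientGroup.mk_surjective z
    obtain ⟨Q⟩ : Nonempty (Sylow p M) := inferInstance
    have hQ : (Q : Subgroup M) ≤ P0.subgroupOf M := fun w hw => by
      obtain ⟨i, hi⟩ := IsPGroup.iff_orderOf.1 Q.2 ⟨w, hw⟩
      exact hP0mem w w.2 ⟨i, by rw [← hi, Subgroup.orderOf_mk, Subgroup.orderOf_coe]⟩
    exact Q.not_dvd_index (hdvd.trans (Subgroup.index_dvd_of_le hQ))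
  set Kg : Subgroup G := K.map M.subtype with hKg
  have hKcop : ¬ p ∣ Nat.card Kg := by
    rw [hKg, Subgroup.card_map_of_injective M.subtype_injective]
    intro h
    obtain ⟨z, hz⟩ := exists_prime_orderOf_dvd_card' p h
    have h1 : (z : M) ∈ P0.subgroupOf M := hP0mem _ (z : M).2 ⟨1, by
      show orderOf (((z : M) : G)) = p ^ 1
      rw [Subgroup.orderOf_coe, Subgroup.orderOf_coe, hz, pow_one]⟩
    have h2 := Subgroup.disjoint_def.1 hK.disjoint h1 z.2
    rw [show z = 1 from Subtype.ext h2, orderOf_one] at hz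
    exact hp.ne_one hz.symm
  have hKn : Kg.Normal := by
    refine ⟨fun x hx g => ?_⟩
    have hxM : x ∈ M := Subgroup.map_subtype_le _ hx
    have hgx : g * x * g⁻¹ ∈ M := hMn.conj_mem x hxM g
    obtain ⟨⟨a, c⟩, hac⟩ := hK.2 ⟨g * x * g⁻¹, hgx⟩
    have hac' : ((a : M) : G) * ((c : M) : G) = g * x * g⁻¹ := congrArg Subtype.val hac
    have hcomm' : Commute ((a : M) : G) ((c : M) : G) :=
      (Subgroup.mem_center_iff.1 (hP0c a.2) _).symm
    suffices ha : ((a : M) : G) = 1 by
      rw [← hac', ha, one_mul]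
      exact Subgroup.mem_map_of_mem _ c.2
    have hxord : ¬ p ∣ orderOf (g * x * g⁻¹) := by
      rw [show orderOf (g * x * g⁻¹) = orderOf x from (MulAut.conj g).orderOf_eq x]
      intro h
      exact hKcop (h.trans (by
        rw [← Subgroup.orderOf_mk x hx]; exact orderOf_dvd_natCard _))
    obtain ⟨i, hi⟩ := IsPGroup.iff_orderOf.1 hP0p ⟨((a : M) : G), a.2⟩
    rw [← Subgroup.orderOf_coe] at hi
    change orderOf ((a : M) : G) = p ^ i at hi
    have hcop : Nat.Coprime (orderOf ((a : M) : G)) (orderOf ((c : M) : G)) := by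
      rw [hi]
      refine Nat.Coprime.pow_left i (hp.coprime_iff_not_dvd.2 fun h => hKcop (h.trans ?_))
      exact (Subgroup.orderOf_coe (⟨((c : M) : G), Subgroup.mem_map_of_mem M.subtype c.2⟩ : Kg)).dvd.trans
        (orderOf_dvd_natCard _)
    rw [← hac', hcomm'.orderOf_mul_eq_mul_orderOf_of_coprime hcop, hi] at hxord
    refine orderOf_eq_one_iff.1 ?_
    rcases Nat.eq_zero_or_pos i with rfl | hi0
    · rw [hi, pow_zero]
    · exact absurd ((dvd_pow_self p hi0.ne').mul_right _) hxord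
  have hKnc : ¬ Kg ≤ Subgroup.center G := by
    intro hKc
    have hMc : M ≤ Subgroup.center G := by
      intro x hx
      obtain ⟨⟨a, c⟩, hac⟩ := hK.2 ⟨x, hx⟩
      rw [← show ((a : M) : G) * ((c : M) : G) = x from congrArg Subtype.val hac]
      exact mul_mem (hP0c a.2) (hKc (Subgroup.mem_map_of_mem _ c.2))
    obtain ⟨y, hy⟩ : ∃ y, y ∉ M := by
      by_contra h; push Not at h; exact hM.1 (eq_top_iff.2 fun x _ => h x)
    have hsup : M ⊔ Subgroup.zpowers y = ⊤ := hM.2 _ (lt_of_le_of_ne le_sup_left fun e =>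
      hy (e ▸ Subgroup.mem_sup_right (Subgroup.mem_zpowers y)))
    have hy' : y ∈ Subgroup.center G := by
      refine Subgroup.mem_center_iff.2 fun g => ?_
      have h1 : M ⊔ Subgroup.zpowers y ≤ Subgroup.centralizer ({y} : Set G) :=
        sup_le (fun m hm => Subgroup.mem_centralizer_singleton_iff.2
          (Subgroup.mem_center_iff.1 (hMc hm) y).symm)
          (Subgroup.zpowers_le.2 (Subgroup.mem_centralizer_singleton_iff.2 rfl))
      exact Subgroup.mem_centralizer_singleton_iff.1 (h1 (hsup ▸ Subgroup.mem_top g))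
    refine hP ⟨fun a ha g => ?_⟩
    have hac : a ∈ Subgroup.center G :=
      (sup_le hMc (Subgroup.zpowers_le.2 hy') : M ⊔ Subgroup.zpowers y ≤ _)
        (hsup ▸ Subgroup.mem_top a)
    rwa [Subgroup.mem_center_iff.1 hac g, mul_inv_cancel_right]
  -- a minimal noncentral normal subgroup
  let S : Finset (Subgroup G) := Finset.univ.filter fun R =>
    R.Normal ∧ R ≤ Kg ∧ ¬ R ≤ Subgroup.center G
  obtain ⟨R, hR, hmin⟩ := S.exists_minimal
    ⟨Kg, Finset.mem_filter.2 ⟨Finset.mem_univ _, hKn, le_rfl, hKnc⟩⟩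
  obtain ⟨-, hRn, hRK, hRc⟩ := Finset.mem_filter.1 hR
  have hsmall : ∀ V : Subgroup G, V.Normal → V ≤ R → V ≠ R → V ≤ Subgroup.center G := by
    intro V hV hVR hne
    by_contra hVc
    exact hne (le_antisymm hVR (hmin (Finset.mem_filter.2
      ⟨Finset.mem_univ _, hV, hVR.trans hRK, hVc⟩) hVR))
  have hR1 : R ≠ ⊥ := fun h => hRc (h ▸ bot_le)
  have hcen : ⁅R, R⁆ ≤ Subgroup.center G := by
    refine hsmall _ inferInstance (Subgroup.commutator_le_self R) fun h => ?_
    have h1 : commutator R = ⊤ := by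
      refine Subgroup.map_injective R.subtype_injective ?_
      rw [Subgroup.map_subtype_commutator, h, ← MonoidHom.range_eq_map, Subgroup.range_subtype]
    have : Nontrivial R := (Subgroup.nontrivial_iff_ne_bot R).2 hR1
    exact (Group.IsSolvable.commutator_lt_top_of_nontrivial (G := R)).ne h1
  have hnil : Group.IsNilpotent R := by
    refine Subgroup.nilpotent_iff_lowerCentralSeries.2 ⟨2, ?_⟩
    rw [Subgroup.lowerCentralSeries_succ, eq_bot_iff, Subgroup.commutator_le]
    intro a ha b _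
    have ha' : (a : G) ∈ Subgroup.center G := by
      rw [Subgroup.lowerCentralSeries_succ, Subgroup.lowerCentralSeries_zero] at ha
      exact hcen ((Subgroup.map_subtype_commutator R) ▸ Subgroup.mem_map_of_mem R.subtype ha)
    exact Subgroup.mem_bot.2 (commutatorElement_eq_one_iff_mul_comm.2
      (Subtype.ext (Subgroup.mem_center_iff.1 ha' b).symm))
  obtain ⟨q, hq, hRq⟩ : ∃ q : ℕ, q.Prime ∧ IsPGroup q R := by
    by_contra hno
    push Not at hno
    refine hRc ?_
    have hC : (Subgroup.center G).subgroupOf R = ⊤ := by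
      refine ClassSizeGraph76.eq_top_of_sylow_le _ fun r hr _ => ?_
      obtain ⟨Q⟩ : Nonempty (Sylow r R) := inferInstance
      have hQn : (Q : Subgroup R).Normal :=
        Q.normal_of_normalizerCondition Group.normalizerCondition_of_isNilpotent
      have : (Q : Subgroup R).Characteristic := Sylow.characteristic_of_normal Q hQn
      refine ⟨Q, fun a ha => ?_⟩
      refine hsmall ((Q : Subgroup R).map R.subtype) ConjAct.normal_of_characteristic_of_normal
        (Subgroup.map_subtype_le _) (fun h => hno r hr ?_) ⟨a, ha, rfl⟩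
      exact h ▸ Q.2.map _
    intro a ha
    have : (⟨a, ha⟩ : R) ∈ (Subgroup.center G).subgroupOf R := hC ▸ Subgroup.mem_top _
    exact Subgroup.mem_subgroupOf.1 this
  have : Fact q.Prime := ⟨hq⟩
  have hqp : q ≠ p := by
    rintro rfl
    obtain ⟨e, he⟩ := IsPGroup.iff_card.1 hRq
    rcases Nat.eq_zero_or_pos e with rfl | he0
    · exact hR1 (Subgroup.eq_bot_of_card_eq _ (by rw [he, pow_zero]))
    · exact hKcop ((he ▸ dvd_pow_self q he0.ne').trans (Subgroup.card_dvd_of_le hRK))
  have hZR : ∀ d ∈ R, (∀ v ∈ R, d * v = v * d) → d ∈ Subgroup.center G := by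
    intro d hd hdc
    have : (R ⊓ Subgroup.centralizer (R : Set G)).Normal := inferInstance
    refine habel (R ⊓ Subgroup.centralizer (R : Set G)) (fun a b => Subtype.ext ?_)
      ⟨hd, Subgroup.mem_centralizer_iff.2 fun v hv => (hdc v hv).symm⟩
    exact Subgroup.mem_centralizer_iff.1 b.2.2 a a.2.1
  obtain ⟨y, ⟨k, hk⟩, u, hu, hne⟩ : ∃ y : G, (∃ k, orderOf y = p ^ k) ∧
      ∃ u ∈ R, u * y ≠ y * u := by
    by_contra hno
    push Not at hno
    refine hRc fun a ha => Subgroup.mem_center_iff.2 fun g => ?_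
    have h1 := hgenC (Subgroup.centralizer ({a} : Set G)) fun z hz =>
      Subgroup.mem_centralizer_singleton_iff.2 (hno z hz a ha).symm
    exact Subgroup.mem_centralizer_singleton_iff.1 (h1 ▸ Subgroup.mem_top g)
  exact hcon (not_central_step hqp χ hfaith R hRq hcen hZR hk hu hne)


/-- Let the finite solvable group G have a faithful irreducible character of degree n, and suppose that for the prime p a Sylow p-subgroup of G is not normal. Then n is divisible by a prime power q > 1 with q congruent to −1, 0 or 1 modulo p. -/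
theorem result {G : Type*} [Group G] [Finite G] (χ : Cfsg.IrrCharacter G) (hfaith : ∀ g : G, (χ : G → ℂ) g = (χ : G → ℂ) 1 → g = 1) (n : ℕ) (hn : Cfsg.charDegree (χ : G → ℂ) = n) (hsolv : Group.IsSolvable G) (p : ℕ) (hp : p.Prime) (P : Sylow p G) (hP : ¬ (P : Subgroup G).Normal) : ∃ q : ℕ, IsPrimePow q ∧ q ∣ n ∧ ((q : ℤ) ≡ -1 [ZMOD p] ∨ (q : ℤ) ≡ 0 [ZMOD p] ∨ (q : ℤ) ≡ 1 [ZMOD p]) := by
  have : Fact p.Prime := ⟨hp⟩
  have h := main p _ rfl hsolv χ hfaith P hP
  rw [hn] at h
  exact h

end Cfsg.Agent.S4467
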