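import Cfsg.Statements.S4469
import Mathlib
import Cfsg.Agent.S4465
import Cfsg.Agent.Lib.Blichfeldt

set_option autoImplicit false
open Cfsg

namespace Cfsg.Agent.S4469
open Cfsg.Agent.LinearHallAbelian

universe w

theorem index_dvd_mul {G : Type w} [Group G] (A P : Subgroup G) :
    A.index ∣ P.index * (A.subgroupOf P).index := by
  have h1 := Subgroup.relIndex_mul_index (inf_le_right : A ⊓ P ≤ P)
  rw [Subgroup.inf_relIndex_right] at h1
  rw [mul_comm, show (A.subgroupOf P).index = A.relIndex P from rfl, h1]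
  exact Subgroup.index_dvd_of_le inf_le_left

theorem small_prime {G : Type w} [Group G] [Finite G] {n : ℕ}
    (ρ : Representation ℂ G (Fin n → ℂ)) (hinj : Function.Injective ρ) (A : Subgroup G)
    (hA : ∀ H : Subgroup G, (∀ x ∈ H, ∀ y ∈ H, x * y = y * x) →
        (A.subgroupOf H).index ≤ 12 ^ n) {p : ℕ} (hp : p.Prime) :
    p ^ A.index.factorization p ≤ p ^ n.factorial.factorization p * 12 ^ n := by
  have : Fact p.Prime := ⟨hp⟩
  obtain ⟨P⟩ : Nonempty (Sylow p G) := inferInstance
  obtain ⟨B, -, hBc, hBi⟩ := exists_abelian_index_dvd P.isPGroup'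
    (ρ.comp (P : Subgroup G).subtype) (fun a b h => Subtype.ext (hinj h))
  set B' := B.map (P : Subgroup G).subtype with hB'
  have hAP : p ^ A.index.factorization p ∣ A.relIndex P := by
    refine Nat.Coprime.dvd_of_dvd_mul_left (m := (P : Subgroup G).index) ?_
      ((Nat.ordProj_dvd _ _).trans (index_dvd_mul A P))
    exact Nat.Coprime.pow_left _ (hp.coprime_iff_not_dvd.2 P.not_dvd_index)
  refine (Nat.le_of_dvd (Nat.pos_of_ne_zero Subgroup.FiniteIndex.index_ne_zero) hAP).trans ?_
  have hle : B' ≤ (P : Subgroup G) := Subgroup.map_subtype_le B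
  have h1 : A.relIndex P ≤ (A ⊓ B').relIndex P :=
    Subgroup.relIndex_le_of_le_left inf_le_left Subgroup.FiniteIndex.index_ne_zero
  have h2 : (A ⊓ B').relIndex B' * B'.relIndex P = (A ⊓ B').relIndex P :=
    Subgroup.relIndex_mul_relIndex _ _ _ inf_le_right hle
  have h3 : B'.relIndex P = B.index := by
    rw [Subgroup.relIndex, Subgroup.subgroupOf, hB',
      Subgroup.comap_map_eq_self_of_injective (Subgroup.subtype_injective _)]
  have h4 : (A ⊓ B').relIndex B' ≤ 12 ^ n := by
    rw [Subgroup.inf_relIndex_right]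
    refine hA B' ?_
    rintro _ ⟨x, hx, rfl⟩ _ ⟨y, hy, rfl⟩
    rw [← map_mul, ← map_mul, hBc x hx y hy]
  have h5 : B.index ≤ p ^ n.factorial.factorization p := by
    obtain ⟨k, hk⟩ := P.isPGroup'.index B
    rw [hk] at hBi ⊢
    exact Nat.pow_le_pow_right hp.pos
      ((hp.pow_dvd_iff_le_factorization n.factorial_ne_zero).1 hBi)
  calc A.relIndex P ≤ (A ⊓ B').relIndex B' * B'.relIndex P := h1.trans h2.ge
    _ ≤ 12 ^ n * p ^ n.factorial.factorization p := Nat.mul_le_mul h4 (h3.le.trans h5)
    _ = _ := mul_comm _ _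

theorem prod_pow_factorization_le (m : ℕ) (S : Finset ℕ) (hS : ∀ p ∈ S, p.Prime) :
    ∏ p ∈ S, p ^ m.factorial.factorization p ≤ m.factorial := by
  refine (Finset.prod_le_prod_of_subset_of_one_le' (Finset.subset_union_left
    (s₂ := m.factorial.primeFactors)) fun p hp _ => ?_).trans (le_of_eq ?_)
  · rcases Finset.mem_union.1 hp with h | h
    · exact Nat.one_le_pow _ _ (hS p h).pos
    · exact Nat.one_le_pow _ _ (Nat.prime_of_mem_primeFactors h).pos
  rw [← Finset.prod_subset (Finset.subset_union_right (s₁ := S)) fun p hp hp' => by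
    rw [Finsupp.notMem_support_iff.1 (by rwa [Nat.support_factorization]), pow_zero]]
  exact Nat.prod_factorization_pow_eq_self m.factorial_ne_zero


/-- The classical bound for finite linear groups, in explicit form. Let the finite group G have a faithful character of degree n. Then G has an abelian normal subgroup whose index is at most n! · 12^(n·(π(n+1)+1)), π(k) denoting the number of primes not exceeding k. -/
theorem result {G : Type*} [Group G] [Finite G] (χ : G → ℂ) (hχ : Cfsg.IsCharacter G χ) (hfaith : ∀ g : G, χ g = χ 1 → g = 1) (n : ℕ) (hn : Cfsg.charDegree χ = n) : ∃ A : Subgroup G, A.Normal ∧ (∀ x ∈ A, ∀ y ∈ A, x * y = y * x) ∧ A.index ≤ Nat.factorial n * 12 ^ (n * (Nat.primeCounting (n + 1) + 1)) := by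
  classical
  obtain ⟨m, ρ, rfl⟩ := hχ
  have hm : m = n := by simpa [Cfsg.charDegree] using hn
  subst hm
  have hinj : Function.Injective ρ := by
    intro a b h
    rw [← mul_inv_eq_one]
    refine hfaith _ ?_
    show LinearMap.trace ℂ _ (ρ _) = LinearMap.trace ℂ _ (ρ 1)
    rw [map_mul, h, ← map_mul, mul_inv_cancel]
  obtain ⟨A, hAn, hAc, hA⟩ := Cfsg.Agent.Blichfeldt.exists_normal_abelian ρ hinj
  obtain ⟨H, hHc, -, hHi⟩ := Cfsg.Agent.S4465.main (m + 1) ρ hinj le_rfl
  refine ⟨A, hAn, hAc, ?_⟩
  have hi0 : A.index ≠ 0 := Subgroup.FiniteIndex.index_ne_zero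
  rw [← Nat.prod_factorization_pow_eq_self hi0]
  change (∏ p ∈ A.index.primeFactors, p ^ A.index.factorization p) ≤ _
  rw [← Finset.prod_filter_mul_prod_filter_not A.index.primeFactors (fun p => p ≤ m + 1)]
  have hbig : (∏ p ∈ A.index.primeFactors.filter (fun p => ¬ p ≤ m + 1),
      p ^ A.index.factorization p) ≤ 12 ^ m := by
    refine le_trans (Nat.le_of_dvd (Nat.pos_of_ne_zero Subgroup.FiniteIndex.index_ne_zero) ?_)
      (hA H hHc)
    refine Nat.Coprime.dvd_of_dvd_mul_left (m := H.index) ?_ ?_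
    · refine Nat.Coprime.prod_left fun p hp => ?_
      rw [Finset.mem_filter, Nat.mem_primeFactors] at hp
      exact Nat.Coprime.pow_left _ (hp.1.1.coprime_iff_not_dvd.2 fun h => hp.2 (hHi p hp.1.1 h))
    · refine dvd_trans ?_ (index_dvd_mul A H)
      conv_rhs => rw [← Nat.prod_factorization_pow_eq_self hi0]
      exact Finset.prod_dvd_prod_of_subset _ _ _ (Finset.filter_subset _ _)
  have hsmall : (∏ p ∈ A.index.primeFactors.filter (fun p => p ≤ m + 1),
      p ^ A.index.factorization p) ≤ m.factorial * 12 ^ (m * Nat.primeCounting (m + 1)) := by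
    refine le_trans (Finset.prod_le_prod' (g := fun p => p ^ m.factorial.factorization p * 12 ^ m)
      fun p hp => ?_) ?_
    · rw [Finset.mem_filter, Nat.mem_primeFactors] at hp
      exact small_prime ρ hinj A hA hp.1.1
    rw [Finset.prod_mul_distrib, Finset.prod_const, ← pow_mul]
    refine Nat.mul_le_mul (prod_pow_factorization_le _ _ fun p hp => ?_)
      (Nat.pow_le_pow_right (by norm_num) (Nat.mul_le_mul_left _ ?_))
    · rw [Finset.mem_filter, Nat.mem_primeFactors] at hp; exact hp.1.1
    · rw [Nat.primeCounting, Nat.primeCounting', Nat.count_eq_card_filter_range]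
      refine Finset.card_le_card fun p hp => ?_
      rw [Finset.mem_filter, Nat.mem_primeFactors] at hp
      exact Finset.mem_filter.2 ⟨Finset.mem_range.2 (by omega), hp.1.1⟩
  refine (Nat.mul_le_mul hsmall hbig).trans (le_of_eq ?_)
  rw [mul_assoc, ← pow_add, Nat.mul_succ]

end Cfsg.Agent.S4469
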