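import Cfsg.Statements.S4472
import Cfsg.Agent.Lib.DixonSchurBound16
import Cfsg.Agent.Lib.CharExtension
import Cfsg.Agent.Lib.GlaubermanCyclic
import Cfsg.Agent.Lib.HallSolvable
import Cfsg.Agent.Lib.CoprimeSZ
import Cfsg.Agent.S0867

set_option autoImplicit false
open Cfsg

namespace Cfsg.Agent.S4472

open Cfsg.Agent.CharBasic Cfsg.Agent.CharBasicDecomp Cfsg.Agent.CharBasicOrth
  Cfsg.Agent.CharInduced
open scoped Pointwise ComplexConjugate

universe u

/-- `detChar` commutes with composition by a homomorphism. -/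
theorem detChar_comp {G H : Type u} [Group G] [Group H] [Finite G] [Finite H] (f : H →* G) {χ : G → ℂ}
    (hχ : Cfsg.IsCharacter G χ) (h : H) :
    Cfsg.detChar (fun x : H => χ (f x)) h = Cfsg.detChar χ (f h) := by
  obtain ⟨d, σ, rfl⟩ := hχ
  rw [← CharExtension.toRep_toHomUnits σ]
  change Cfsg.detChar (CharExtension.chr ((MonoidHom.toHomUnits σ).comp f)) h =
    Cfsg.detChar (CharExtension.chr (MonoidHom.toHomUnits σ)) (f h)
  rw [CharExtension.detChar_chr, CharExtension.detChar_chr]
  rfl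

/-- The determinantal order does not grow under a Galois twist. -/
theorem detOrder_pow_char {G : Type u} [Group G] [Finite G] {k : ℕ}
    (hk : k.Coprime (Nat.card G)) {χ : G → ℂ} (hχ : Cfsg.IsCharacter G χ) :
    Cfsg.detOrder (fun g => χ (g ^ k)) ∣ Cfsg.detOrder χ := by
  refine orderOf_dvd_of_pow_eq_one (funext fun g => ?_)
  have h : Cfsg.detChar (fun x => χ (x ^ k)) g = Cfsg.detChar χ (g ^ k) := by
    let π : Subgroup.zpowers g →* Subgroup.zpowers g := MonoidHom.mk' (fun x => x ^ k)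
      (fun a b => Commute.mul_pow (by
        obtain ⟨i, hi⟩ := Subgroup.mem_zpowers_iff.1 a.2
        obtain ⟨j, hj⟩ := Subgroup.mem_zpowers_iff.1 b.2
        refine Subtype.ext ?_
        show (a : G) * (b : G) = (b : G) * (a : G)
        rw [← hi, ← hj, ← zpow_add, ← zpow_add, add_comm]) k)
    have e1 := detChar_comp (Subgroup.zpowers g).subtype (GaloisChar80.isCharacter_pow hk hχ)
      ⟨g, Subgroup.mem_zpowers g⟩
    have e2 := detChar_comp ((Subgroup.zpowers g).subtype.comp π) hχ ⟨g, Subgroup.mem_zpowers g⟩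
    simp only [π, MonoidHom.comp_apply, MonoidHom.mk'_apply, Subgroup.coe_subtype,
      SubmonoidClass.coe_pow] at e1 e2
    exact e1.symm.trans e2
  rw [Pi.pow_apply, h]
  exact congrFun (pow_orderOf_eq_one (Cfsg.detChar χ)) (g ^ k)

/-- The value at a `p`-element of a canonical extension is an integer. -/
theorem canonical_int {T : Type u} [Group T] [Finite T] {p : ℕ} [hp : Fact p.Prime]
    (N : Subgroup T) [N.Normal] (hN : (Nat.card N).Coprime p) {a : ℕ} (ha : N.index = p ^ a)
    {θ : N → ℂ} (hθ : Cfsg.IsIrrCharacter N θ)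
    (hinv : ∀ (g : T) (n : N), θ ⟨g * n * g⁻¹, ‹N.Normal›.conj_mem (n : T) n.2 g⟩ = θ n) :
    ∃ χ : T → ℂ, Cfsg.IsIrrCharacter T χ ∧ (∀ n : N, χ n = θ n) ∧
      ∀ y : T, (∃ e, orderOf y = p ^ e) → ∃ z : ℤ, χ y = z := by
  obtain ⟨d, -, hd, hdvd⟩ := CharBasicInt.exists_apply_one_dvd_card hθ
  have hNp : Nat.Coprime N.index (Nat.card N) := ha ▸ Nat.Coprime.pow_left a hN.symm
  have hdet := GlaubermanCyclic.detOrder_dvd_card (isCharacter_of_isIrrCharacter hθ)
  have hcop : Nat.Coprime N.index (Cfsg.detOrder θ * d) :=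
    (hNp.coprime_dvd_right hdet).mul_right (hNp.coprime_dvd_right hdvd)
  obtain ⟨χ, ⟨h1, h2, h3⟩, hu⟩ := Cfsg.Agent.S0867.result N θ hθ hinv d hd hcop
  refine ⟨χ, h1, h2, fun y ⟨e, he⟩ => ?_⟩
  obtain ⟨n, hn⟩ := isCharacter_apply_one (isCharacter_of_isIrrCharacter h1)
  refine (DixonSchurBound.exists_int_of_galois (p := p)
    (isCharacter_of_isIrrCharacter h1) hn y ⟨e, he⟩ (fun j hj => ?_)).imp fun z hz => hz.1
  obtain ⟨k, hk1, hk2⟩ := Nat.chineseRemainder
    (Nat.Coprime.pow_right (e + 1) hN) 1 j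
  have hkp : ¬ p ∣ k := fun h => hj <| by
    have h2 : k ≡ j [MOD p] := hk2.of_dvd (dvd_pow_self p (by omega))
    exact Nat.modEq_zero_iff_dvd.1 (h2.symm.trans (Nat.modEq_zero_iff_dvd.2 h))
  have hk : k.Coprime (Nat.card T) := by
    rw [← Subgroup.card_mul_index N, ha]
    refine Nat.Coprime.mul_right ?_
      (Nat.Coprime.pow_right _ ((hp.out.coprime_iff_not_dvd.2 hkp).symm))
    rw [Nat.coprime_iff_gcd_eq_one, hk1.gcd_eq, Nat.gcd_one_left]
  have htw : (fun g => χ (g ^ k)) = χ := by
    refine hu _ (GaloisChar80.isIrrCharacter_pow hk h1) (fun n => ?_) ?_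
    · rw [← h2]
      congr 1
      have h : (n : T) ^ k = (n : T) ^ 1 := pow_eq_pow_iff_modEq.2 (hk1.of_dvd (by
        rw [Subgroup.orderOf_coe]; exact orderOf_dvd_natCard n))
      rw [h, pow_one]
    · exact hcop.coprime_mul_right_right.coprime_dvd_right
        (h3 ▸ detOrder_pow_char hk (isCharacter_of_isIrrCharacter h1))
  calc χ (y ^ j) = χ (y ^ k) := by
        congr 1
        exact pow_eq_pow_iff_modEq.2 (hk2.symm.of_dvd (by
          rw [he]; exact pow_dvd_pow p (Nat.le_succ e)))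
    _ = χ y := congrFun htw y

/-- A rational valued algebraic integer character value is an integer. -/
theorem exists_int_of_rat {G : Type u} [Group G] [Finite G] {φ : G → ℂ}
    (hφ : Cfsg.IsCharacter G φ) (x : G) (q : ℚ) (hq : φ x = q) : ∃ z : ℤ, φ x = z := by
  have h := isCharacter_integral hφ x
  rw [hq] at h
  obtain ⟨z, hz⟩ := IsIntegrallyClosed.algebraMap_eq_of_integral
    ((isIntegral_algebraMap_iff (R := ℤ) (B := ℂ) (x := q) (algebraMap ℚ ℂ).injective).1
      (by simpa using h))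
  exact ⟨z, by rw [hq, ← hz]; simp⟩

theorem conjFun_apply_one {G : Type u} [Group G] (K : Subgroup G) [K.Normal] (θ : K → ℂ) (g : G) :
    conjFun K θ g 1 = θ 1 := by
  show θ _ = θ 1
  congr 1
  exact Subtype.ext (by simp)

/-- Below each irreducible character there is an integer valued one. -/
theorem irr_case {G : Type u} [Group G] [Fintype G] {p : ℕ} [hp : Fact p.Prime]
    (K : Subgroup G) [K.Normal] (hK : (Nat.card K).Coprime p) {a : ℕ} (ha : K.index = p ^ a)
    {χ : G → ℂ} (hχ : Cfsg.IsIrrCharacter G χ) :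
    ∃ ψ : G → ℂ, Cfsg.IsCharacter G ψ ∧ (ψ 1).re ≤ (χ 1).re ∧
      (∀ y : G, (∃ e, orderOf y = p ^ e) → ∃ z : ℤ, ψ y = z) ∧
      ∀ k ∈ K, ψ k = ψ 1 → χ k = χ 1 := by
  classical
  haveI := Fintype.ofFinite K
  obtain ⟨m, hm, hsum⟩ := exists_mult (isCharacter_res K (isCharacter_of_isIrrCharacter hχ))
  obtain ⟨θ, hθm⟩ : ∃ θ : Cfsg.IrrCharacter K, m θ ≠ 0 := by
    by_contra h
    push Not at h
    refine isIrrCharacter_apply_one_ne_zero hχ ?_
    have := congrFun hsum 1
    simpa [h] using this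
  set T := inertia K (θ : K → ℂ) with hT
  have hKT : K ≤ T := le_inertia K (isClassFunction_irr θ.2)
  set N := K.subgroupOf T
  let e : N ≃* K := Subgroup.subgroupOfEquivOfLe hKT
  have hcN : Nat.card N = Nat.card K := Nat.card_congr e.toEquiv
  obtain ⟨b, -, hb⟩ : ∃ b ≤ a, N.index = p ^ b := (Nat.dvd_prime_pow hp.out).1
    (ha ▸ show K.relIndex T ∣ K.index from Subgroup.relIndex_dvd_index_of_normal K T)
  have hθN : Cfsg.IsIrrCharacter N (fun n : N => (θ : K → ℂ) (e n)) :=
    isIrrCharacter_comap e.toMonoidHom e.surjective θ.2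
  obtain ⟨η, hη, hηN, hηint⟩ := canonical_int N (hcN ▸ hK) hb hθN (fun g n => by
    have h := (mem_inertia_iff K).1 g.2 (e n)
    refine Eq.trans ?_ h
    rfl)
  have hψc := isCharacter_ind T (isCharacter_of_isIrrCharacter hη)
  refine ⟨Cfsg.indFun T η, hψc, ?_, fun y hy => ?_, fun k hk hker => ?_⟩
  · -- degree
    have hη1 : η 1 = (θ : K → ℂ) 1 := by
      rw [← OneMemClass.coe_one N, hηN]; simp
    obtain ⟨t, -, ht⟩ := isIrrCharacter_apply_one θ.2
    have hc : Cfsg.classInner (fun n : K => χ n) (θ : K → ℂ) = m θ := hm θ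
    have hcl := congrFun (clifford K hχ θ.2 (by rw [hc]; exact_mod_cast hθm)) 1
    simp only [OneMemClass.coe_one, Pi.smul_apply, Finset.sum_apply, smul_eq_mul] at hcl
    rw [Finset.sum_congr rfl (fun ψ hψ => show ψ 1 = (θ : K → ℂ) 1 by
      obtain ⟨g, rfl⟩ := (mem_orbitFin K).1 hψ
      exact conjFun_apply_one K _ g), Finset.sum_const, hc, ht, nsmul_eq_mul] at hcl
    have hidx : T.index = (orbitFin K (θ : K → ℂ)).card :=
      Nat.eq_of_mul_eq_mul_left (Nat.card_pos (α := T))
        (T.card_mul_index.trans (card_inertia_mul_card_orbit K _).symm)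
    rw [ind_one_apply, hη1, ht, hidx, hcl]
    norm_cast
    exact Nat.le_mul_of_pos_left _ (Nat.pos_of_ne_zero hθm)
  · -- values
    have hval : ∀ x : G, ∃ q : ℚ, Cfsg.extendByZero T η (x⁻¹ * y * x) = q := by
      intro x
      by_cases hx : x⁻¹ * y * x ∈ T
      · obtain ⟨z, hz⟩ := hηint ⟨_, hx⟩ (by
          obtain ⟨e', he'⟩ := hy
          refine ⟨e', ?_⟩
          rw [← Subgroup.orderOf_coe, ← he']
          have : x⁻¹ * y * x = MulAut.conj x⁻¹ y := by simp
          rw [Subtype.coe_mk, this, MulEquiv.orderOf_eq])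
        exact ⟨z, by rw [ext_zero_of_mem η hx, hz]; simp⟩
      · exact ⟨0, by rw [ext_zero_of_not_mem η hx]; simp⟩
    choose q hq using hval
    refine exists_int_of_rat hψc y ((Nat.card T : ℚ)⁻¹ * ∑ x, q x) ?_
    simp [Cfsg.indFun, hq]
  · -- kernel
    have hterm : ∀ x : G, Cfsg.extendByZero T η (x⁻¹ * k * x) =
        conjFun K (θ : K → ℂ) x⁻¹ ⟨k, hk⟩ := by
      intro x
      have hmem : x⁻¹ * k * x ∈ K := by
        simpa using ‹K.Normal›.conj_mem k hk x⁻¹
      rw [ext_zero_of_mem η (hKT hmem)]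
      refine (hηN ⟨⟨_, hKT hmem⟩, hmem⟩).trans ?_
      show (θ : K → ℂ) _ = (θ : K → ℂ) _
      exact congrArg (θ : K → ℂ) (Subtype.ext
        (show x⁻¹ * k * x = x⁻¹ * k * x⁻¹⁻¹ by rw [inv_inv]))
    obtain ⟨t, -, ht⟩ := isIrrCharacter_apply_one θ.2
    have hconj1 : ∀ x : G, conjFun K (θ : K → ℂ) x 1 = t := fun x => by
      rw [← ht]; exact conjFun_apply_one K _ x
    have hle : ∀ x ∈ (Finset.univ : Finset G),
        (conjFun K (θ : K → ℂ) x⁻¹ ⟨k, hk⟩).re ≤ (t : ℝ) := fun x _ => by
      refine (Complex.re_le_norm _).trans ?_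
      refine (isCharacter_norm_le (isCharacter_conjFun K (isCharacter_of_isIrrCharacter θ.2) _)
        _).trans_eq ?_
      rw [hconj1, Complex.natCast_re]
    have heq : ∀ x : G, conjFun K (θ : K → ℂ) x⁻¹ ⟨k, hk⟩ = t := by
      have h1 : (Nat.card T : ℂ) ≠ 0 := Nat.cast_ne_zero.2 Nat.card_pos.ne'
      have hs : (∑ x : G, conjFun K (θ : K → ℂ) x⁻¹ ⟨k, hk⟩) = Nat.card G * (t : ℂ) := by
        rw [ind_one_apply, show η 1 = (t : ℂ) by
          rw [← ht, ← OneMemClass.coe_one N, hηN]; simp] at hker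
        simp only [Cfsg.indFun, hterm] at hker
        rw [inv_mul_eq_iff_eq_mul₀ h1, ← mul_assoc, ← Nat.cast_mul, T.card_mul_index] at hker
        exact hker
      have hre := congrArg Complex.re hs
      rw [Complex.re_sum, ← Nat.cast_mul, Complex.natCast_re, Nat.cast_mul] at hre
      intro x
      have hx : (conjFun K (θ : K → ℂ) x⁻¹ ⟨k, hk⟩).re = t :=
        (Finset.sum_eq_sum_iff_of_le hle).1 (by
          rw [hre, Finset.sum_const, Finset.card_univ, nsmul_eq_mul, Nat.card_eq_fintype_card])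
          x (Finset.mem_univ x)
      have hn := isCharacter_norm_le (isCharacter_conjFun K
        (isCharacter_of_isIrrCharacter θ.2) x⁻¹) ⟨k, hk⟩
      rw [hconj1, Complex.natCast_re] at hn
      have him : (conjFun K (θ : K → ℂ) x⁻¹ ⟨k, hk⟩).im = 0 := by
        set z := conjFun K (θ : K → ℂ) x⁻¹ ⟨k, hk⟩
        have h2 : ‖z‖ ^ 2 = z.re * z.re + z.im * z.im := by
          rw [Complex.sq_norm, Complex.normSq_apply]
        nlinarith [norm_nonneg z, mul_self_nonneg z.im]
      apply Complex.ext <;> simp [hx, him]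
    have hc : Cfsg.classInner (fun n : K => χ n) (θ : K → ℂ) = m θ := hm θ
    have hcl := clifford K hχ θ.2 (by rw [hc]; exact_mod_cast hθm)
    have ek := congrFun hcl ⟨k, hk⟩
    have e1 := congrFun hcl 1
    simp only [Pi.smul_apply, Finset.sum_apply, OneMemClass.coe_one] at ek e1
    rw [ek, e1]
    congr 1
    refine Finset.sum_congr rfl fun ψ hψ => ?_
    obtain ⟨g, rfl⟩ := (mem_orbitFin K).1 hψ
    rw [hconj1, show g = (g⁻¹)⁻¹ from (inv_inv g).symm, heq]

/-- The bound on the automorphisms induced on a `p'`-group. -/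
theorem action_bound {G : Type u} [Group G] [Finite G] {p : ℕ} [hp : Fact p.Prime]
    (K P : Subgroup G) [K.Normal] (hK : (Nat.card K).Coprime p) (hP : IsPGroup p P)
    {χ : G → ℂ} (hχ : Cfsg.IsCharacter G χ) (hfaith : ∀ g : G, χ g = χ 1 → g = 1)
    {n : ℕ} (hn : χ 1 = n) :
    ((Subgroup.centralizer (K : Set G)).relIndex P).factorization p ≤
      ∑ i ∈ Finset.range (n + 1), n / ((p - 1) * p ^ i) := by
  classical
  set H : Subgroup G := P ⊔ K
  haveI := Fintype.ofFinite H
  set L := K.subgroupOf H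
  have hcL : Nat.card L = Nat.card K :=
    Nat.card_congr (Subgroup.subgroupOfEquivOfLe le_sup_right).toEquiv
  obtain ⟨c, hc⟩ := IsPGroup.iff_card.1 hP
  obtain ⟨a, -, ha⟩ : ∃ a ≤ c, L.index = p ^ a := (Nat.dvd_prime_pow hp.out).1 (by
    rw [← hc]
    show K.relIndex (P ⊔ K) ∣ Nat.card P
    rw [Subgroup.relIndex_sup_right]
    exact (K.subgroupOf P).index_dvd_card)
  have hχH : Cfsg.IsCharacter H (fun h : H => χ h) := isCharacter_res H hχ
  obtain ⟨m, -, hsum⟩ := exists_mult hχH
  choose ψ hψc hψ1 hψint hψker using fun i : Cfsg.IrrCharacter H =>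
    irr_case L (hcL ▸ hK) ha i.2
  let Φ : H → ℂ := fun g => ∑ i, (m i : ℂ) * ψ i g
  have hΦ : Cfsg.IsCharacter H Φ := by
    have e : Φ = ∑ i, ((m i : ℂ) • ψ i) := by funext g; simp [Φ, Finset.sum_apply]
    rw [e]
    exact isCharacter_sum _ _ fun i _ => isCharacter_nsmul (hψc i) _
  let ι : P →* H := Subgroup.inclusion le_sup_left
  have hΦP : Cfsg.IsCharacter P (fun x => Φ (ι x)) := isCharacter_comap ι hΦ
  obtain ⟨n', hn'⟩ := isCharacter_apply_one hΦP
  have hint : ∀ x : P, ∃ z : ℤ, Φ (ι x) = z := by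
    intro x
    obtain ⟨e, he⟩ := IsPGroup.iff_orderOf.1 hP x
    choose z hz using fun i => hψint i (ι x) ⟨e, by
      rw [← he, orderOf_injective ι (Subgroup.inclusion_injective _)]⟩
    exact ⟨∑ i, (m i : ℤ) * z i, by simp [Φ, hz]⟩
  have hle : n' ≤ n := by
    have e1 := congrFun hsum 1
    simp only [OneMemClass.coe_one, Finset.sum_apply, Pi.smul_apply, smul_eq_mul, hn] at e1
    have e2 : ∑ i, ((m i : ℂ) * ψ i 1) = n' := by rw [← hn']; simp [Φ]
    have r1 := congrArg Complex.re e1
    have r2 := congrArg Complex.re e2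
    simp only [Complex.re_sum, Complex.natCast_re, Complex.mul_re, Complex.natCast_im, zero_mul, sub_zero] at r1 r2
    have : (n' : ℝ) ≤ n := by
      rw [← r2, r1]
      exact Finset.sum_le_sum fun i _ =>
        mul_le_mul_of_nonneg_left (hψ1 i) (Nat.cast_nonneg _)
    exact_mod_cast this
  refine le_trans ?_ ((DixonSchurBound.factorization_index_le hP hΦP hn' hint).trans ?_)
  · refine (Nat.factorization_le_iff_dvd Subgroup.index_ne_zero_of_finite
      Subgroup.index_ne_zero_of_finite).2 (Subgroup.index_dvd_of_le ?_) p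
    intro x hx
    rw [Subgroup.mem_subgroupOf, Subgroup.mem_centralizer_iff]
    intro k hk
    set S := CharBasicLinear.charKer Φ hΦ
    haveI := CharBasicLinear.charKer_normal Φ hΦ
    have hxS : ι x ∈ S := by
      have h : Φ (ι x) = Φ (ι 1) := hx
      rwa [map_one] at h
    set kH : H := ⟨k, (le_sup_right : K ≤ H) hk⟩
    have hkL : kH ∈ L := hk
    set w := ι x * kH * (ι x)⁻¹ * kH⁻¹ with hw
    have hwS : w ∈ S := by
      rw [hw, mul_assoc, mul_assoc]
      exact mul_mem hxS (by
        rw [← mul_assoc]; exact ‹S.Normal›.conj_mem _ (inv_mem hxS) kH)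
    have hwL : w ∈ L := mul_mem (Subgroup.Normal.conj_mem inferInstance _ hkL _) (inv_mem hkL)
    have hwχ : χ w = χ 1 := by
      have e := congrFun hsum w
      have e1 := congrFun hsum 1
      simp only [OneMemClass.coe_one, Finset.sum_apply, Pi.smul_apply, smul_eq_mul] at e e1
      rw [e, e1]
      -- every constituent with positive multiplicity is trivial at `w`
      have hw0 : ∀ i, m i ≠ 0 → ψ i w = ψ i 1 := by
        intro i hi
        have hsum' : (∑ i, (m i : ℂ) * ψ i w) = ∑ i, (m i : ℂ) * ψ i 1 := hwS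
        have hb : ∀ j ∈ (Finset.univ : Finset (Cfsg.IrrCharacter H)),
            (m j : ℝ) * (ψ j w).re ≤ (m j : ℝ) * (ψ j 1).re := fun j _ =>
          mul_le_mul_of_nonneg_left
            ((Complex.re_le_norm _).trans (isCharacter_norm_le (hψc j) w)) (Nat.cast_nonneg _)
        have hr := congrArg Complex.re hsum'
        simp only [Complex.re_sum, Complex.mul_re, Complex.natCast_im, zero_mul, sub_zero] at hr
        have h1 : (ψ i w).re = (ψ i 1).re :=
          mul_left_cancel₀ (Nat.cast_ne_zero.2 hi)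
            ((Finset.sum_eq_sum_iff_of_le hb).1 hr i (Finset.mem_univ i))
        obtain ⟨t, ht⟩ := isCharacter_apply_one (hψc i)
        have hnorm := isCharacter_norm_le (hψc i) w
        rw [ht, Complex.natCast_re] at hnorm h1
        rw [ht]
        set z := ψ i w
        have h2 : ‖z‖ ^ 2 = z.re * z.re + z.im * z.im := by
          rw [Complex.sq_norm, Complex.normSq_apply]
        have : z.im = 0 := by nlinarith [norm_nonneg z, mul_self_nonneg z.im]
        apply Complex.ext <;> simp [h1, this]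
      refine Finset.sum_congr rfl fun i _ => ?_
      by_cases hi : m i = 0
      · simp [hi]
      · rw [hψker i w hwL (hw0 i hi)]
    have h1 := hfaith w hwχ
    simp only [hw, Subgroup.coe_mul, Subgroup.coe_inv, ι, kH] at h1
    rw [mul_inv_eq_one, mul_inv_eq_iff_eq_mul] at h1
    exact h1.symm
  · refine (Finset.sum_le_sum_of_subset (Finset.range_mono (by omega : n' + 1 ≤ n + 1))).trans
      (Finset.sum_le_sum fun i _ => Nat.div_le_div_right hle)

/-- Let the finite p-solvable group G have a faithful character of degree n, and let p^a be the index of O_p(G) in a Sylow p-subgroup of G (the p-part of [G : O_p(G)]). Then a ≤ Σ_{i ≥ 0} ⌊n / ((p − 1) p^i)⌋ (a finite sum; the terms vanish for p^i > n). -/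
theorem result {G : Type*} [Group G] [Finite G] (χ : G → ℂ) (hχ : Cfsg.IsCharacter G χ) (hfaith : ∀ g : G, χ g = χ 1 → g = 1) (n : ℕ) (hn : Cfsg.charDegree χ = n) (p : ℕ) (hp : p.Prime) (hsolv : Cfsg.IsPSolvable p G) : ((Cfsg.pCore p G).index).factorization p ≤ ∑ i ∈ Finset.range (n + 1), n / ((p - 1) * p ^ i) := by
  haveI : Fact p.Prime := ⟨hp⟩
  classical
  set O := Cfsg.pCore p G
  set π := QuotientGroup.mk' O
  set Kb := Cfsg.pPrimeCore p (G ⧸ O) with hKb
  set M := Kb.comap π
  have hOp : IsPGroup p O := HallCore.isPGroup_pCore p G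
  have hOM : O ≤ M := QuotientGroup.le_comap_mk' O Kb
  have hmapM : M.map π = Kb := Subgroup.map_comap_eq_self_of_surjective
    (QuotientGroup.mk'_surjective O) Kb
  have hidx : O.relIndex M = Nat.card Kb := by
    rw [HallSolvable.relIndex_eq_card_map, hmapM]
  have hKbp : (Nat.card Kb).Coprime p := HallCore.coprime_card_pPrimeCore p _
  obtain ⟨o, ho⟩ := IsPGroup.iff_card.1 hOp
  have hcop : (Nat.card (O.subgroupOf M)).Coprime (O.subgroupOf M).index := by
    rw [Nat.card_congr (Subgroup.subgroupOfEquivOfLe hOM).toEquiv, ho]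
    show (p ^ o).Coprime (O.relIndex M)
    rw [hidx]
    exact Nat.Coprime.pow_left o hKbp.symm
  obtain ⟨C, hC⟩ := Subgroup.exists_right_complement'_of_coprime hcop
  set K := C.map M.subtype with hKdef
  have hcK : Nat.card K = Nat.card Kb := by
    rw [hKdef, Subgroup.card_map_of_injective M.subtype_injective, ← hC.symm.index_eq_card]
    exact hidx
  have hKM : K ≤ M := Subgroup.map_subtype_le C
  have hOK : O ⊔ K = M := by
    refine le_antisymm (sup_le hOM hKM) fun x hx => ?_
    obtain ⟨⟨u, v⟩, huv⟩ := hC.2 ⟨x, hx⟩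
    have : ((u : M) : G) * ((v : M) : G) = x := congrArg Subtype.val huv
    rw [← this]
    exact Subgroup.mul_mem_sup u.2 ⟨_, v.2, rfl⟩
  set N := Subgroup.normalizer (K : Set G) with hN
  -- Frattini argument
  have hfr : ∀ g : G, ∃ z ∈ N, π z = π g := by
    intro g
    have hc : (Nat.card K).Coprime (Nat.card O) := by
      rw [hcK, ho]; exact hKbp.pow_right o
    obtain ⟨u, hu, huK⟩ := CoprimeSZ.exists_conj_of_card_eq (N := O) (A := K)
      (B := MulAut.conj g • K) (by rw [Subgroup.normalizer_eq_top_iff.2 inferInstance]; exact le_top)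
      hc (Or.inr (by haveI := IsPGroup.isNilpotent hOp; infer_instance))
      (by
        rw [hOK]
        rintro _ ⟨k, hk, rfl⟩
        exact (inferInstance : M.Normal).conj_mem k (hKM hk) g)
      (CoprimeSZ.card_conj_smul g K)
    refine ⟨u⁻¹ * g, ?_, ?_⟩
    · rw [hN, Subgroup.mem_normalizer_iff_conj_image_eq, ]
      have h2 : MulAut.conj (u⁻¹ * g) • K = K := by
        rw [CoprimeSZ.conj_smul_mul, ← huK, ← CoprimeSZ.conj_smul_mul, inv_mul_cancel, map_one,
          one_smul]
      exact congrArg (fun S : Subgroup G => (S : Set G)) h2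
    · have h1 : π u = 1 := (QuotientGroup.eq_one_iff u).2 hu
      rw [map_mul, map_inv, h1, inv_one, one_mul]
  let πN : N →* G ⧸ O := π.comp N.subtype
  have hsurj : Function.Surjective πN := fun q => by
    obtain ⟨g, rfl⟩ := QuotientGroup.mk'_surjective O q
    obtain ⟨z, hz, hzg⟩ := hfr g
    exact ⟨⟨z, hz⟩, hzg⟩
  obtain ⟨S⟩ : Nonempty (Sylow p N) := inferInstance
  let S' := S.mapSurjective hsurj
  set KN := K.subgroupOf N
  haveI : KN.Normal := Subgroup.normal_in_normalizer
  have hcKN : (Nat.card KN).Coprime p := by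
    rw [Nat.card_congr (Subgroup.subgroupOfEquivOfLe Subgroup.le_normalizer).toEquiv, hcK]
    exact hKbp
  have hn1 : χ 1 = (n : ℂ) := by
    obtain ⟨d, hd⟩ := CharBasic.isCharacter_apply_one hχ
    rw [← hn, Cfsg.charDegree, hd, Complex.natCast_re, Nat.floor_natCast]
  refine le_trans ?_ (action_bound KN (S : Subgroup N) hcKN S.2
    (χ := fun z : N => χ z) (isCharacter_res N hχ)
    (fun z hz => Subtype.ext (hfaith (z : G) hz)) hn1)
  -- the centraliser of `K` in `S` maps trivially
  have hker : (Subgroup.centralizer (KN : Set N)).subgroupOf S ≤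
      πN.ker.subgroupOf S := by
    intro x hx
    rw [Subgroup.mem_subgroupOf, Subgroup.mem_centralizer_iff] at hx
    rw [Subgroup.mem_subgroupOf, MonoidHom.mem_ker]
    have hxc : πN x ∈ Subgroup.centralizer (Kb : Set (G ⧸ O)) := by
      rw [Subgroup.mem_centralizer_iff]
      intro y hy
      rw [SetLike.mem_coe, ← hmapM, ← hOK, Subgroup.map_sup,
        (Subgroup.map_eq_bot_iff _).2 (QuotientGroup.ker_mk' O).ge, bot_sup_eq] at hy
      obtain ⟨k, hk, rfl⟩ := hy
      have := congrArg πN (hx ⟨k, Subgroup.le_normalizer hk⟩ hk)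
      rw [map_mul, map_mul] at this
      exact this
    have hin : πN x ∈ Kb := by
      have hps := (HallSolvable.isPSolvable_iff p).1 (HallSolvable.isPSolvable_quotient hsolv O)
      rw [hKb, HallCore.pPrimeCore_eq_piCore] at hxc ⊢
      refine HallSolvable.centralizer_piCore_le hps.compl ?_ hxc
      rw [compl_compl, ← HallCore.pCore_eq_piCore]
      exact HallCore.pCore_quotient_self p G
    obtain ⟨e, he⟩ := (IsPGroup.iff_orderOf.1 S.2) x
    have h1 : orderOf (πN x) ∣ p ^ e :=
      he ▸ ((orderOf_map_dvd πN _).trans (Subgroup.orderOf_coe x).dvd)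
    have h2 : orderOf (πN x) ∣ Nat.card Kb := by
      rw [← Subgroup.orderOf_mk _ hin]; exact orderOf_dvd_natCard _
    exact orderOf_eq_one_iff.1
      (Nat.eq_one_of_dvd_coprimes (hKbp.symm.pow_left e) h1 h2)
  refine le_trans (le_of_eq ?_) ((Nat.factorization_le_iff_dvd Subgroup.index_ne_zero_of_finite
    Subgroup.index_ne_zero_of_finite).2 (Subgroup.index_dvd_of_le hker) p)
  show _ = (πN.ker.relIndex (S : Subgroup N)).factorization p
  rw [Subgroup.relIndex_ker]
  show _ = (Nat.card (S' : Subgroup (G ⧸ O))).factorization p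
  rw [Sylow.card_eq_multiplicity, Nat.Prime.factorization_pow hp, Finsupp.single_eq_same,
    Subgroup.index_eq_card]

end Cfsg.Agent.S4472
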