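import Cfsg.Statements.S4473
import Cfsg.Agent.Lib.CharBasic
import Cfsg.Agent.Lib.CharBasicLinear

set_option autoImplicit false
open Cfsg

namespace Cfsg.Agent.S4473

open Cfsg.Agent.CharBasic

universe u

variable {G : Type u} [Group G] (ρ : Representation ℂ G (Fin 2 → ℂ))

theorem rep_inv_apply (g : G) (v : Fin 2 → ℂ) : ρ g⁻¹ (ρ g v) = v := by
  rw [← Module.End.mul_apply, ← map_mul, inv_mul_cancel, map_one, Module.End.one_apply]

theorem rep_injective_apply (g : G) : Function.Injective (ρ g) :=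
  Function.LeftInverse.injective (rep_inv_apply ρ g)

/-- `g` leaves the subspace invariant. -/
def Fixes (g : G) (L : Submodule ℂ (Fin 2 → ℂ)) : Prop := ∀ v ∈ L, ρ g v ∈ L

theorem map_eq_iff (g : G) {L : Submodule ℂ (Fin 2 → ℂ)} (hL : Module.finrank ℂ L = 1) :
    L.map (ρ g) = L ↔ Fixes ρ g L := by
  constructor
  · intro h v hv
    rw [← h]
    exact Submodule.mem_map_of_mem hv
  · intro h
    refine Submodule.eq_of_le_of_finrank_eq (by rintro _ ⟨v, hv, rfl⟩; exact h v hv) ?_
    exact (Submodule.equivMapOfInjective _ (rep_injective_apply ρ g) L).finrank_eq.symm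

/-- An element with non-scalar action has exactly two invariant lines. -/
theorem two_lines [Finite G] (g : G) (hg : ∀ c : ℂ, ρ g ≠ c • LinearMap.id) :
    ∃ L₀ L₁ : Submodule ℂ (Fin 2 → ℂ), L₀ ≠ L₁ ∧ Module.finrank ℂ L₀ = 1 ∧
      Module.finrank ℂ L₁ = 1 ∧ Fixes ρ g L₀ ∧ Fixes ρ g L₁ ∧
      ∀ L : Submodule ℂ (Fin 2 → ℂ), Module.finrank ℂ L = 1 → Fixes ρ g L → L = L₀ ∨ L = L₁ := by
  obtain ⟨b', μ', h1, -⟩ := exists_rep_eigenbasis ρ g
  let e : Fin (Module.finrank ℂ (Fin 2 → ℂ)) ≃ Fin 2 := finCongr (by simp)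
  let b := b'.reindex e
  let μ : Fin 2 → ℂ := fun i => μ' (e.symm i)
  have hb : ∀ i, ρ g (b i) = μ i • b i := fun i => by simp [b, μ, h1]
  have hne : μ 0 ≠ μ 1 := by
    intro h
    refine hg (μ 0) (b.ext fun i => ?_)
    rw [hb, LinearMap.smul_apply, LinearMap.id_apply]
    fin_cases i <;> simp [h]
  have hspan : ∀ i, Module.finrank ℂ (ℂ ∙ b i) = 1 := fun i => finrank_span_singleton (b.ne_zero i)
  have hfix : ∀ i, Fixes ρ g (ℂ ∙ b i) := fun i v hv => by
    obtain ⟨a, rfl⟩ := Submodule.mem_span_singleton.1 hv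
    rw [map_smul, hb, smul_smul]
    exact Submodule.smul_mem _ _ (Submodule.mem_span_singleton_self _)
  refine ⟨ℂ ∙ b 0, ℂ ∙ b 1, ?_, hspan 0, hspan 1, hfix 0, hfix 1, ?_⟩
  · intro h
    have h0 : b 0 ∈ (ℂ ∙ b 1) := h ▸ Submodule.mem_span_singleton_self _
    obtain ⟨a, ha⟩ := Submodule.mem_span_singleton.1 h0
    have := congrArg (fun v => b.repr v 0) ha
    simp at this
  · intro L hL hLg
    obtain ⟨v, hv, hv0⟩ := L.ne_bot_iff.1 (fun h => by rw [h] at hL; simp at hL)
    have hLv : L = ℂ ∙ v := (Submodule.eq_of_le_of_finrank_eq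
      ((Submodule.span_singleton_le_iff_mem _ _).2 hv) (by rw [hL, finrank_span_singleton hv0])).symm
    obtain ⟨c, hc⟩ := Submodule.mem_span_singleton.1 (hLv ▸ hLg v hv : ρ g v ∈ (ℂ ∙ v))
    have hvs : v = b.repr v 0 • b 0 + b.repr v 1 • b 1 := by
      conv_lhs => rw [← b.sum_repr v]
      rw [Fin.sum_univ_two]
    rw [hvs, map_add, map_smul, map_smul, hb, hb] at hc
    have e0 := congrArg (fun w => b.repr w 0) hc
    have e1 := congrArg (fun w => b.repr w 1) hc
    simp at e0 e1
    by_cases h0 : b.repr v 0 = 0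
    · right
      rw [hLv, hvs, h0, zero_smul, zero_add]
      refine Submodule.span_singleton_smul_eq (IsUnit.mk0 _ ?_) _
      intro h1
      exact hv0 (by rw [hvs, h0, h1, zero_smul, zero_smul, add_zero])
    · left
      have h1 : b.repr v 1 = 0 := by
        by_contra h1
        apply hne
        have a0 : c = μ 0 := mul_right_cancel₀ h0 (e0.trans (mul_comm _ _))
        have a1 : c = μ 1 := mul_right_cancel₀ h1 (e1.trans (mul_comm _ _))
        exact a0.symm.trans a1
      rw [hLv, hvs, h1, zero_smul, add_zero]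
      exact Submodule.span_singleton_smul_eq (IsUnit.mk0 _ h0) _

/-- Two interchanged lines exhibit the character as induced. -/
theorem induced_of_pair [Fintype G] (L₁ L₂ : Submodule ℂ (Fin 2 → ℂ)) (hne : L₁ ≠ L₂)
    (h1 : Module.finrank ℂ L₁ = 1) (h2 : Module.finrank ℂ L₂ = 1)
    (hperm : ∀ g : G, (L₁.map (ρ g) = L₁ ∧ L₂.map (ρ g) = L₂) ∨
      (L₁.map (ρ g) = L₂ ∧ L₂.map (ρ g) = L₁))
    (hswap : ∃ g : G, L₁.map (ρ g) = L₂) :
    ∃ H : Subgroup G, H ≠ ⊤ ∧ ∃ θ : H → ℂ, Cfsg.IsCharacter H θ ∧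
      ρ.character = Cfsg.indFun H θ := by
  classical
  obtain ⟨v₁, hv₁, hv₁0⟩ := L₁.ne_bot_iff.1 (fun h => by rw [h] at h1; simp at h1)
  obtain ⟨v₂, hv₂, hv₂0⟩ := L₂.ne_bot_iff.1 (fun h => by rw [h] at h2; simp at h2)
  have hL₁ : (ℂ ∙ v₁) = L₁ := Submodule.eq_of_le_of_finrank_eq
    ((Submodule.span_singleton_le_iff_mem _ _).2 hv₁) (by rw [h1, finrank_span_singleton hv₁0])
  have hL₂ : (ℂ ∙ v₂) = L₂ := Submodule.eq_of_le_of_finrank_eq
    ((Submodule.span_singleton_le_iff_mem _ _).2 hv₂) (by rw [h2, finrank_span_singleton hv₂0])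
  have hli : LinearIndependent ℂ ![v₁, v₂] := by
    rw [LinearIndependent.pair_iff' hv₁0]
    intro a ha
    apply hne
    rw [← hL₁, ← hL₂, ← ha]
    refine (Submodule.span_singleton_smul_eq (IsUnit.mk0 a ?_) _).symm
    rintro rfl
    exact hv₂0 (by rw [← ha, zero_smul])
  let b := basisOfLinearIndependentOfCardEqFinrank hli (by simp)
  have hb0 : b 0 = v₁ := by simp [b]
  have hb1 : b 1 = v₂ := by simp [b]
  let H : Subgroup G :=
    { carrier := {g | L₁.map (ρ g) = L₁}
      one_mem' := by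
        show L₁.map (ρ 1) = L₁
        rw [map_one]
        exact Submodule.map_id L₁
      mul_mem' := fun {x y} hx hy => by
        show L₁.map (ρ (x * y)) = L₁
        rw [map_mul]
        show L₁.map ((ρ x).comp (ρ y)) = L₁
        rw [Submodule.map_comp]
        rw [show L₁.map (ρ y) = L₁ from hy, show L₁.map (ρ x) = L₁ from hx]
      inv_mem' := fun {x} hx => by
        show L₁.map (ρ x⁻¹) = L₁
        conv_lhs => rw [← show L₁.map (ρ x) = L₁ from hx]
        rw [← Submodule.map_comp]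
        show L₁.map (ρ x⁻¹ * ρ x) = L₁
        rw [← map_mul, inv_mul_cancel, map_one]
        exact Submodule.map_id L₁ }
  have hH : ∀ g, g ∈ H ↔ L₁.map (ρ g) = L₁ := fun g => Iff.rfl
  have hout : ∀ g, g ∉ H → L₁.map (ρ g) = L₂ ∧ L₂.map (ρ g) = L₁ := fun g hg =>
    (hperm g).resolve_left fun h => hg h.1
  have hin : ∀ g, g ∈ H → L₂.map (ρ g) = L₂ := fun g hg => by
    rcases hperm g with h | h
    · exact h.2
    · exact absurd ((hH g).1 hg ▸ h.1) hne
  have hcomp : ∀ x y : G, ∀ L : Submodule ℂ (Fin 2 → ℂ),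
      L.map (ρ (x * y)) = (L.map (ρ y)).map (ρ x) := fun x y L => by
    rw [map_mul]; exact Submodule.map_comp (ρ y) (ρ x) L
  have hnormal : ∀ g x : G, (x⁻¹ * g * x ∈ H ↔ g ∈ H) := by
    have hpar : ∀ a b : G, (a * b ∈ H ↔ (a ∈ H ↔ b ∈ H)) := by
      intro a b
      rw [hH (a * b), hcomp]
      by_cases hb : b ∈ H
      · rw [(hH b).1 hb, ← hH a]; simp [hb]
      · rw [(hout b hb).1]
        by_cases ha : a ∈ H
        · rw [hin a ha]; simp [ha, hb, Ne.symm hne]
        · rw [(hout a ha).2]; simp [ha, hb]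
    intro g x
    rw [hpar, hpar, H.inv_mem_iff]
    tauto
  have hH1 : H ≠ ⊤ := by
    intro h
    obtain ⟨g, hg⟩ := hswap
    have h' := (hH g).1 (h ▸ Subgroup.mem_top g)
    exact hne (h'.symm.trans hg)
  -- eigenvalues
  let c : G → ℂ := fun g => b.repr (ρ g v₁) 0
  have hc : ∀ g ∈ H, ρ g v₁ = c g • v₁ := by
    intro g hg
    have h' : ρ g v₁ ∈ (ℂ ∙ v₁) := by
      rw [hL₁, ← (hH g).1 hg]; exact Submodule.mem_map_of_mem hv₁
    obtain ⟨a, ha⟩ := Submodule.mem_span_singleton.1 h'
    have : c g = a := by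
      show b.repr (ρ g v₁) 0 = a
      rw [← ha, map_smul, ← hb0, b.repr_self]; simp
    rw [this, ha]
  let φ : H →* ℂ :=
    { toFun := fun h => c h
      map_one' := by
        show b.repr (ρ (1 : G) v₁) 0 = 1
        rw [map_one, Module.End.one_apply, ← hb0, b.repr_self]; simp
      map_mul' := fun x y => by
        show b.repr (ρ ((x : G) * y) v₁) 0 = c x * c y
        rw [map_mul, Module.End.mul_apply, hc y y.2, map_smul, hc x x.2, smul_smul, map_smul,
          ← hb0, b.repr_self]
        simp [mul_comm] }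
  refine ⟨H, hH1, fun h => c h, ?_, ?_⟩
  · have := isCharacter_of_isIrrCharacter
      (CharBasicDecomp.isIrrCharacter_linear (MonoidHom.toHomUnits φ))
    exact this
  funext g
  have hext : ∀ y : G, Cfsg.extendByZero H (fun h : H => c h) y = if y ∈ H then c y else 0 := by
    intro y
    rw [Cfsg.extendByZero]
    split_ifs with hy
    · exact Subtype.val_injective.extend_apply _ _ ⟨y, hy⟩
    · rw [Function.extend_apply']
      · rfl
      · rintro ⟨h, rfl⟩; exact hy h.2
  show LinearMap.trace ℂ _ (ρ g) = (Nat.card H : ℂ)⁻¹ * ∑ x : G, _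
  simp only [hext, hnormal]
  by_cases hg : g ∈ H
  · simp only [hg, if_true]
    obtain ⟨a, ha⟩ : ∃ a : ℂ, ρ g v₂ = a • v₂ := by
      have h' : ρ g v₂ ∈ (ℂ ∙ v₂) := by
        rw [hL₂, ← hin g hg]; exact Submodule.mem_map_of_mem hv₂
      obtain ⟨a, ha⟩ := Submodule.mem_span_singleton.1 h'
      exact ⟨a, ha.symm⟩
    rw [trace_eq_sum_of_eigenbasis b (ρ g) ![c g, a] (fun i => by
      fin_cases i
      · simpa [hb0] using hc g hg
      · simpa [hb1] using ha), Fin.sum_univ_two]
    have hin' : ∀ x : G, c (x⁻¹ * g * x) = if x ∈ H then c g else a := by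
      intro x
      have hmem : x⁻¹ * g * x ∈ H := (hnormal g x).2 hg
      split_ifs with hx
      · show φ ⟨_, hmem⟩ = φ ⟨g, hg⟩
        have : (⟨x⁻¹ * g * x, hmem⟩ : H) = (⟨x, hx⟩ : H)⁻¹ * ⟨g, hg⟩ * ⟨x, hx⟩ := rfl
        rw [this, map_mul, map_mul, mul_right_comm, ← map_mul, inv_mul_cancel, map_one, one_mul]
      · have h' : ρ x v₁ ∈ (ℂ ∙ v₂) := by
          rw [hL₂, ← (hout x hx).1]; exact Submodule.mem_map_of_mem hv₁
        obtain ⟨d, hd⟩ := Submodule.mem_span_singleton.1 h'
        show b.repr (ρ (x⁻¹ * g * x) v₁) 0 = a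
        have : ρ (x⁻¹ * g * x) v₁ = a • v₁ := by
          rw [map_mul, map_mul, Module.End.mul_apply, Module.End.mul_apply, ← hd, map_smul,
            ha, map_smul, map_smul, smul_comm, ← map_smul, hd, rep_inv_apply]
        rw [this, map_smul, ← hb0, b.repr_self]
        simp
    rw [Finset.sum_congr rfl (fun x _ => hin' x), Finset.sum_ite, Finset.sum_const, Finset.sum_const]
    obtain ⟨t, ht⟩ := hswap
    have htH : t ∉ H := fun h => hne (((hH t).1 h).symm.trans ht)
    have hcard1 : (Finset.univ.filter fun x : G => x ∈ H).card = Nat.card H := by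
      rw [← Fintype.card_subtype, ← Nat.card_eq_fintype_card]
    have hcard2 : (Finset.univ.filter fun x : G => x ∉ H).card = Nat.card H := by
      rw [← hcard1]
      refine Finset.card_bij (fun x _ => t * x) ?_ (fun _ _ _ _ h => mul_left_cancel h) ?_
      · intro x hx
        simp only [Finset.mem_filter, Finset.mem_univ, true_and] at hx ⊢
        rw [hH, hcomp, (hout x hx).1, (hout t htH).2]
      · intro y hy
        simp only [Finset.mem_filter, Finset.mem_univ, true_and] at hy
        refine ⟨t⁻¹ * y, ?_, by simp⟩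
        simp only [Finset.mem_filter, Finset.mem_univ, true_and]
        intro h
        apply htH
        simpa [mul_assoc] using H.mul_mem hy (H.inv_mem h)
    rw [hcard1, hcard2]
    simp only [nsmul_eq_mul, Matrix.cons_val_zero, Matrix.cons_val_one]
    have : (Nat.card H : ℂ) ≠ 0 := Nat.cast_ne_zero.2 Nat.card_pos.ne'
    field_simp
  · simp only [hg, if_false, Finset.sum_const_zero, mul_zero]
    rw [LinearMap.trace_eq_matrix_trace ℂ b, Matrix.trace, Fin.sum_univ_two]
    obtain ⟨h', h''⟩ := hout g hg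
    obtain ⟨a, ha⟩ := Submodule.mem_span_singleton.1
      (show ρ g v₁ ∈ (ℂ ∙ v₂) by rw [hL₂, ← h']; exact Submodule.mem_map_of_mem hv₁)
    obtain ⟨d, hd⟩ := Submodule.mem_span_singleton.1
      (show ρ g v₂ ∈ (ℂ ∙ v₁) by rw [hL₁, ← h'']; exact Submodule.mem_map_of_mem hv₂)
    simp [Matrix.diag, LinearMap.toMatrix_apply, hb0, hb1, ← ha, ← hd]
    rw [← hb0, ← hb1, b.repr_self, b.repr_self]
    simp

/-- The arithmetic of three orbits. -/
theorem arith {n a b c : ℕ} (hsum : a + b + c = n + 2) (ha : 3 ≤ a) (hb : 3 ≤ b) (hc : 3 ≤ c)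
    (hea : ∃ e, 2 ≤ e ∧ a * e = n) (heb : ∃ e, 2 ≤ e ∧ b * e = n)
    (hec : ∃ e, 2 ≤ e ∧ c * e = n) : n = 12 ∨ n = 24 ∨ n = 60 := by
  obtain ⟨e₁, he₁, h₁⟩ := hea
  obtain ⟨e₂, he₂, h₂⟩ := heb
  obtain ⟨e₃, he₃, h₃⟩ := hec
  have key : ∀ {a b c e₁ e₂ e₃ : ℕ}, a + b + c = n + 2 → 3 ≤ a → 3 ≤ b → 3 ≤ c → e₁ = 2 →
      a * e₁ = n → b * e₂ = n → c * e₃ = n → 2 ≤ e₂ → 2 ≤ e₃ → e₂ ≤ e₃ →
      n = 12 ∨ n = 24 ∨ n = 60 := by
    intro a b c e₁ e₂ e₃ hs ha hb hc he h₁ h₂ h₃ he₂ he₃ hle
    subst he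
    have he2 : e₂ ≤ 3 := by
      by_contra h
      have h4 : 4 ≤ e₂ := by omega
      have h5 := Nat.mul_le_mul_left b h4
      have h6 := Nat.mul_le_mul_left c (h4.trans hle)
      omega
    interval_cases e₂
    · omega
    · have he3 : e₃ ≤ 5 := by
        by_contra h
        have h6 := Nat.mul_le_mul_left c (show 6 ≤ e₃ by omega)
        omega
      interval_cases e₃ <;> omega
  have h2 : e₁ = 2 ∨ e₂ = 2 ∨ e₃ = 2 := by
    by_contra h
    push Not at h
    have q1 := Nat.mul_le_mul_left a (show 3 ≤ e₁ by omega)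
    have q2 := Nat.mul_le_mul_left b (show 3 ≤ e₂ by omega)
    have q3 := Nat.mul_le_mul_left c (show 3 ≤ e₃ by omega)
    omega
  rcases h2 with h | h | h
  · rcases le_total e₂ e₃ with hle | hle
    · exact key hsum ha hb hc h h₁ h₂ h₃ he₂ he₃ hle
    · exact key (a := a) (b := c) (c := b) (by omega) ha hc hb h h₁ h₃ h₂ he₃ he₂ hle
  · rcases le_total e₁ e₃ with hle | hle
    · exact key (a := b) (b := a) (c := c) (by omega) hb ha hc h h₂ h₁ h₃ he₁ he₃ hle
    · exact key (a := b) (b := c) (c := a) (by omega) hb hc ha h h₂ h₃ h₁ he₃ he₁ hle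
  · rcases le_total e₁ e₂ with hle | hle
    · exact key (a := c) (b := a) (c := b) (by omega) hc ha hb h h₃ h₁ h₂ he₁ he₂ hle
    · exact key (a := c) (b := b) (c := a) (by omega) hc hb ha h h₃ h₂ h₁ he₂ he₁ hle

/-- Eigenlines of non-scalar elements. -/
def Lines : Type := {L : Submodule ℂ (Fin 2 → ℂ) //
  Module.finrank ℂ L = 1 ∧ ∃ g : G, (∀ c : ℂ, ρ g ≠ c • LinearMap.id) ∧ Fixes ρ g L}

theorem finite_lines [Finite G] : Finite (Lines ρ) := by
  classical
  let f : G → Set (Submodule ℂ (Fin 2 → ℂ)) := fun g =>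
    {L | Module.finrank ℂ L = 1 ∧ (∀ c : ℂ, ρ g ≠ c • LinearMap.id) ∧ Fixes ρ g L}
  have hf : ∀ g, (f g).Finite := by
    intro g
    by_cases hg : ∀ c : ℂ, ρ g ≠ c • LinearMap.id
    · obtain ⟨L₀, L₁, -, -, -, -, -, h⟩ := two_lines ρ g hg
      refine Set.Finite.subset (Set.toFinite {L₀, L₁}) ?_
      rintro L ⟨hL, -, hLg⟩
      exact h L hL hLg
    · refine Set.finite_empty.subset ?_
      rintro L ⟨-, h, -⟩
      exact absurd h hg
  have : Finite ↥(⋃ g, f g) := (Set.finite_iUnion hf).to_subtype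
  refine Finite.of_injective (β := ↥(⋃ g, f g)) (fun L => ⟨L.1, ?_⟩) ?_
  · obtain ⟨g, hg, hfix⟩ := L.2.2
    exact Set.mem_iUnion.2 ⟨g, L.2.1, hg, hfix⟩
  · intro L L' h
    simp only at h
    injection h with h1
    exact Subtype.ext h1

theorem fixes_conj {g : G} {L : Submodule ℂ (Fin 2 → ℂ)} (h : Fixes ρ g L) (x : G) :
    Fixes ρ (x * g * x⁻¹) (L.map (ρ x)) := by
  rintro _ ⟨v, hv, rfl⟩
  refine ⟨ρ g v, h v hv, ?_⟩
  rw [map_mul, map_mul, Module.End.mul_apply, Module.End.mul_apply, rep_inv_apply]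

/-- The action on eigenlines. -/
noncomputable instance linesAction : MulAction G (Lines ρ) where
  smul x L := ⟨L.1.map (ρ x), by
    refine ⟨(Submodule.equivMapOfInjective _ (rep_injective_apply ρ x) L.1).finrank_eq.symm.trans
      L.2.1, ?_⟩
    obtain ⟨g, hg, hfix⟩ := L.2.2
    refine ⟨x * g * x⁻¹, fun c hc => hg c (LinearMap.ext fun v => ?_), fixes_conj ρ hfix x⟩
    have := LinearMap.congr_fun hc (ρ x v)
    rw [map_mul, map_mul, Module.End.mul_apply, Module.End.mul_apply, rep_inv_apply,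
      LinearMap.smul_apply, LinearMap.id_apply, ← map_smul] at this
    rw [LinearMap.smul_apply, LinearMap.id_apply]
    exact rep_injective_apply ρ x this⟩
  one_smul L := Subtype.ext (by
    show L.1.map (ρ 1) = L.1
    rw [map_one]; exact Submodule.map_id L.1)
  mul_smul x y L := Subtype.ext (by
    show L.1.map (ρ (x * y)) = (L.1.map (ρ y)).map (ρ x)
    rw [map_mul]; exact Submodule.map_comp (ρ y) (ρ x) L.1)

theorem smul_eq_iff (g : G) (L : Lines ρ) : g • L = L ↔ Fixes ρ g L.1 :=
  ⟨fun h => (map_eq_iff ρ g L.2.1).1 (congrArg Subtype.val h),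
    fun h => Subtype.ext ((map_eq_iff ρ g L.2.1).2 h)⟩

/-- Klein's counting. -/
theorem main [Fintype G] [ρ.IsIrreducible] (hinj : ∀ g : G, ρ g = LinearMap.id → g = 1)
    (hprim : ∀ H : Subgroup G, H ≠ ⊤ → ∀ θ : H → ℂ, Cfsg.IsCharacter H θ →
      ρ.character ≠ Cfsg.indFun H θ) :
    (Subgroup.center G).index = 12 ∨ (Subgroup.center G).index = 24 ∨
      (Subgroup.center G).index = 60 := by
  classical
  set Z := Subgroup.center G with hZ
  have hscal : ∀ g : G, g ∈ Z ↔ ∃ c : ℂ, ρ g = c • LinearMap.id := by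
    refine fun g => ⟨fun h => exists_scalar_of_mem_center ρ h, ?_⟩
    rintro ⟨c, hc⟩
    refine Subgroup.mem_center_iff.2 fun x => ?_
    have h1 : g⁻¹ * x⁻¹ * g * x = 1 := hinj _ (LinearMap.ext fun v => by
      simp only [map_mul, Module.End.mul_apply, LinearMap.id_apply]
      rw [show ρ g (ρ x v) = ρ x (ρ g v) from by simp [hc], rep_inv_apply, rep_inv_apply])
    calc x * g = x * g * (g⁻¹ * x⁻¹ * g * x) := by rw [h1, mul_one]
      _ = g * x := by group
  have hnc : ∀ g : G, g ∉ Z → ∀ c : ℂ, ρ g ≠ c • LinearMap.id :=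
    fun g hg c hc => hg ((hscal g).2 ⟨c, hc⟩)
  have hnoline : ∀ L : Submodule ℂ (Fin 2 → ℂ), Module.finrank ℂ L = 1 →
      ¬ ∀ g, Fixes ρ g L := by
    intro L hL h
    let U : Subrepresentation ρ := ⟨L, fun g v hv => h g v hv⟩
    rcases eq_bot_or_eq_top U with hU | hU
    · have : L = ⊥ := congrArg Subrepresentation.toSubmodule hU
      rw [this] at hL; simp at hL
    · have : L = ⊤ := congrArg Subrepresentation.toSubmodule hU
      rw [this, finrank_top] at hL; simp at hL
  have hne1 : Z.index ≠ 1 := by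
    intro h
    rw [Subgroup.index_eq_one] at h
    refine hnoline (ℂ ∙ Pi.single (0 : Fin 2) (1 : ℂ)) (finrank_span_singleton (by simp)) ?_
    intro g v hv
    obtain ⟨c, hc⟩ := (hscal g).1 (h ▸ Subgroup.mem_top g)
    rw [hc, LinearMap.smul_apply, LinearMap.id_apply]
    exact Submodule.smul_mem _ _ hv
  have := finite_lines ρ
  have : Fintype (Lines ρ) := Fintype.ofFinite _
  -- Burnside
  have hB := MulAction.sum_card_fixedBy_eq_card_orbits_mul_card_group G (Lines ρ)
  have hfixZ : ∀ g ∈ Z, Fintype.card (MulAction.fixedBy (Lines ρ) g) = Fintype.card (Lines ρ) := by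
    intro g hg
    obtain ⟨c, hc⟩ := (hscal g).1 hg
    refine Fintype.card_congr (Equiv.subtypeUnivEquiv fun L => ?_)
    refine (smul_eq_iff ρ g L).2 fun v hv => ?_
    rw [hc, LinearMap.smul_apply, LinearMap.id_apply]
    exact Submodule.smul_mem _ _ hv
  have hfix2 : ∀ g, g ∉ Z → Fintype.card (MulAction.fixedBy (Lines ρ) g) = 2 := by
    intro g hg
    obtain ⟨L₀, L₁, hne, h0, h1, f0, f1, hall⟩ := two_lines ρ g (hnc g hg)
    let A : Lines ρ := ⟨L₀, h0, g, hnc g hg, f0⟩
    let B : Lines ρ := ⟨L₁, h1, g, hnc g hg, f1⟩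
    have hset : MulAction.fixedBy (Lines ρ) g = {A, B} := by
      ext L
      rw [MulAction.mem_fixedBy, smul_eq_iff]
      constructor
      · intro h
        rcases hall L.1 L.2.1 h with e | e
        · exact Or.inl (Subtype.ext e)
        · exact Or.inr (Subtype.ext e)
      · rintro (rfl | rfl)
        · exact f0
        · exact f1
    rw [← Nat.card_eq_fintype_card, hset, Nat.card_coe_set_eq,
      Set.ncard_pair (show A ≠ B from fun e => hne (congrArg Subtype.val e))]
  have hsum : (∑ g : G, Fintype.card (MulAction.fixedBy (Lines ρ) g)) + 2 * Nat.card Z =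
      2 * Nat.card G + Nat.card Z * Fintype.card (Lines ρ) := by
    rw [← Finset.sum_filter_add_sum_filter_not Finset.univ (fun g => g ∈ Z),
      Finset.sum_congr rfl (fun g hg => hfixZ g (Finset.mem_filter.1 hg).2),
      Finset.sum_congr rfl (fun g hg => hfix2 g (Finset.mem_filter.1 hg).2),
      Finset.sum_const, Finset.sum_const, smul_eq_mul, smul_eq_mul]
    have e1 : (Finset.univ.filter fun g : G => g ∈ Z).card = Nat.card Z := by
      rw [← Fintype.card_subtype, ← Nat.card_eq_fintype_card]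
    have e2 := Finset.card_filter_add_card_filter_not
      (s := (Finset.univ : Finset G)) (fun g : G => g ∈ Z)
    rw [Finset.card_univ, ← Nat.card_eq_fintype_card, e1] at e2
    rw [e1, ← e2]
    ring
  set n := Z.index with hn
  have hG : Nat.card G = Nat.card Z * n := (Z.card_mul_index).symm
  let Q := MulAction.orbitRel.Quotient G (Lines ρ)
  set k := Fintype.card Q with hk
  have hmain : k * n + 2 = 2 * n + Fintype.card (Lines ρ) := by
    rw [hB, ← Nat.card_eq_fintype_card (α := G), hG] at hsum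
    refine Nat.eq_of_mul_eq_mul_left (Nat.card_pos (α := Z)) ?_
    linarith [hsum]
  -- orbits
  let o : Q → ℕ := fun ω => Nat.card ω.orbit
  have hΩ : Fintype.card (Lines ρ) = ∑ ω : Q, o ω := by
    rw [← Nat.card_eq_fintype_card,
      Nat.card_congr (MulAction.selfEquivSigmaOrbits' G (Lines ρ)), Nat.card_sigma]
  have ho : ∀ ω : Q, 3 ≤ o ω ∧ ∃ e, 2 ≤ e ∧ o ω * e = n := by
    intro ω
    induction ω using Quotient.inductionOn' with
    | h L =>
      have horb : o (Quotient.mk'' L) = Nat.card (MulAction.orbit G L) := by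
        show Nat.card ↑(MulAction.orbitRel.Quotient.orbit (Quotient.mk'' L)) = _
        rw [MulAction.orbitRel.Quotient.orbit_mk]
      rw [horb]
      have hZS : Z ≤ MulAction.stabilizer G L := fun g hg => by
        obtain ⟨c, hc⟩ := (hscal g).1 hg
        refine (smul_eq_iff ρ g L).2 fun v hv => ?_
        rw [hc, LinearMap.smul_apply, LinearMap.id_apply]
        exact Submodule.smul_mem _ _ hv
      have hidx : Nat.card (MulAction.orbit G L) = (MulAction.stabilizer G L).index := by
        rw [MulAction.index_stabilizer, Nat.card_coe_set_eq]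
      refine ⟨?_, Z.relIndex (MulAction.stabilizer G L), ?_, ?_⟩
      · by_contra hlt
        have hpos : 0 < Nat.card (MulAction.orbit G L) := by
          have : Nonempty (MulAction.orbit G L) := ⟨⟨L, MulAction.mem_orbit_self L⟩⟩
          exact Nat.card_pos
        by_cases h1 : Nat.card (MulAction.orbit G L) = 1
        · refine hnoline L.1 L.2.1 fun g => (smul_eq_iff ρ g L).1 ?_
          rw [hidx, Subgroup.index_eq_one] at h1
          exact MulAction.mem_stabilizer_iff.1 (h1 ▸ Subgroup.mem_top g)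
        · have h2 : (MulAction.orbit G L).ncard = 2 := by
            rw [← Nat.card_coe_set_eq]; omega
          obtain ⟨L₂, hL₂, hne⟩ : ∃ L₂ ∈ MulAction.orbit G L, L₂ ≠ L := by
            obtain ⟨a, b, hab, he⟩ := Set.ncard_eq_two.1 h2
            by_cases ha : a = L
            · exact ⟨b, he ▸ Or.inr rfl, fun e => hab (ha.trans e.symm)⟩
            · exact ⟨a, he ▸ Or.inl rfl, ha⟩
          have horb' : MulAction.orbit G L = {L, L₂} := (Set.eq_of_subset_of_ncard_le
            (fun x hx => by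
              rcases hx with rfl | rfl
              · exact MulAction.mem_orbit_self _
              · exact hL₂) (by rw [h2, Set.ncard_pair hne.symm])).symm
          have hmem : ∀ (g : G), ∀ x ∈ MulAction.orbit G L, g • x = L ∨ g • x = L₂ := by
            intro g x hx
            have : g • x ∈ MulAction.orbit G L := MulAction.mem_orbit_of_mem_orbit g hx
            rwa [horb'] at this
          obtain ⟨H, hH, θ, hθ, hχ⟩ := induced_of_pair ρ L.1 L₂.1
            (fun e => hne (Subtype.ext e).symm) L.2.1 L₂.2.1 (fun g => by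
              rcases hmem g L (MulAction.mem_orbit_self L) with e | e <;>
                rcases hmem g L₂ hL₂ with e' | e'
              · exact absurd (smul_left_cancel g (e'.trans e.symm)) hne
              · exact Or.inl ⟨congrArg Subtype.val e, congrArg Subtype.val e'⟩
              · exact Or.inr ⟨congrArg Subtype.val e, congrArg Subtype.val e'⟩
              · exact absurd (smul_left_cancel g (e'.trans e.symm)) hne) (by
              obtain ⟨g, hg⟩ := hL₂
              exact ⟨g, congrArg Subtype.val hg⟩)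
          exact hprim H hH θ hθ hχ
      · obtain ⟨g, hg, hfix⟩ := L.2.2
        have hne : Z.relIndex (MulAction.stabilizer G L) ≠ 1 := by
          rw [Ne, Subgroup.relIndex_eq_one]
          intro h
          obtain ⟨c, hc⟩ := (hscal g).1 (h ((smul_eq_iff ρ g L).2 hfix))
          exact hg c hc
        have hne0 : Z.relIndex (MulAction.stabilizer G L) ≠ 0 := fun h =>
          Subgroup.index_ne_zero_of_finite (H := Z)
            (Nat.eq_zero_of_zero_dvd (h ▸ Dvd.intro _ (Subgroup.relIndex_mul_index hZS)))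
        omega
      · rw [hidx, mul_comm, Subgroup.relIndex_mul_index hZS]
  have hn1 : 1 < n := by
    have := Subgroup.index_ne_zero_of_finite (H := Z)
    omega
  have hle : 2 * ∑ ω : Q, o ω ≤ k * n := by
    rw [hk, Finset.mul_sum, ← Finset.card_univ, ← smul_eq_mul, ← Finset.sum_const]
    refine Finset.sum_le_sum fun ω _ => ?_
    obtain ⟨-, e, he, hen⟩ := ho ω
    rw [← hen, mul_comm 2]
    exact Nat.mul_le_mul_left _ he
  rw [hΩ] at hmain
  have hge : 3 * k ≤ ∑ ω : Q, o ω := by
    rw [hk, mul_comm, ← Finset.card_univ, ← smul_eq_mul, ← Finset.sum_const]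
    exact Finset.sum_le_sum fun ω _ => (ho ω).1
  have hk3 : k = 3 := by
    rcases lt_trichotomy k 3 with h | h | h
    · interval_cases k <;> omega
    · exact h
    · exfalso
      have h4 := Nat.mul_le_mul_right n (show 4 ≤ k by omega)
      omega
  let e := Fintype.equivFinOfCardEq (show Fintype.card Q = 3 from hk3)
  rw [← Equiv.sum_comp e.symm, Fin.sum_univ_three, hk3] at hmain
  exact arith (a := o (e.symm 0)) (b := o (e.symm 1)) (c := o (e.symm 2)) (by omega)
    (ho _).1 (ho _).1 (ho _).1 (ho _).2 (ho _).2 (ho _).2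

/-- Let the finite group G have a faithful irreducible character χ of degree 2 that is primitive: χ is not induced from a character of any proper subgroup. Then the centre of G has index 12, 24 or 60. -/
theorem result {G : Type*} [Group G] [Fintype G] (χ : Cfsg.IrrCharacter G) (hfaith : ∀ g : G, (χ : G → ℂ) g = (χ : G → ℂ) 1 → g = 1) (h2 : Cfsg.charDegree (χ : G → ℂ) = 2) (hprim : ∀ H : Subgroup G, H ≠ ⊤ → ∀ θ : H → ℂ, Cfsg.IsCharacter H θ → (χ : G → ℂ) ≠ Cfsg.indFun H θ) : (Subgroup.center G).index = 12 ∨ (Subgroup.center G).index = 24 ∨ (Subgroup.center G).index = 60 := by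
  obtain ⟨χ, n, ρ, hρ, rfl⟩ := χ
  have hn : n = 2 := by
    have h1 : ρ.character 1 = (n : ℂ) := by
      rw [Representation.char_one]; simp
    simpa [Cfsg.charDegree, h1, Complex.natCast_re, Nat.floor_natCast] using h2
  subst hn
  have := hρ
  refine main ρ (fun g hg => hfaith g ?_) fun H hH θ hθ => hprim H hH θ hθ
  show ρ.character g = ρ.character 1
  rw [Representation.character, Representation.character, hg, map_one]
  rfl

end Cfsg.Agent.S4473
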