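import Cfsg.Statements.S4476
import Cfsg.Agent.Lib.RealChars

set_option autoImplicit false
open Cfsg

namespace Cfsg.Agent.S4476

/-- Let G be a finite group of even order g with exactly t involutions, and put α = (g − 1)/t (a rational number). Then (a) some non-identity element x of G has at most α² conjugates; and (b) some non-principal real-valued irreducible character of G has degree at most α. -/
theorem result {G : Type*} [Group G] [Fintype G] (heven : Even (Nat.card G)) (t : ℕ) (ht : Nat.card {x : G // orderOf x = 2} = t) : (∃ x : G, x ≠ 1 ∧ ((Subgroup.centralizer ({x} : Set G)).index : ℚ) ≤ (((Nat.card G : ℚ) - 1) / t) ^ 2) ∧ ∃ χ : Cfsg.IrrCharacter G, (χ : G → ℂ) ≠ (fun _ => 1) ∧ (∀ g : G, ((χ : G → ℂ) g).im = 0) ∧ (Cfsg.charDegree (χ : G → ℂ) : ℚ) ≤ ((Nat.card G : ℚ) - 1) / t := by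
  classical
  haveI : Fact (Nat.Prime 2) := ⟨Nat.prime_two⟩
  obtain ⟨w, hw⟩ := exists_prime_orderOf_dvd_card' (G := G) 2 heven.two_dvd
  have ht0 : 0 < t := ht ▸ Nat.card_pos_iff.mpr ⟨⟨⟨w, hw⟩⟩, inferInstance⟩
  set one : Cfsg.IrrCharacter G := CharBasicDecomp.trivIrr G
  set R : Finset (Cfsg.IrrCharacter G) :=
    Finset.univ.filter (fun χ => (∀ g : G, ((χ : G → ℂ) g).im = 0) ∧ χ ≠ one) with hR
  choose d hd using fun χ : Cfsg.IrrCharacter G => CharBasic.isIrrCharacter_apply_one χ.2
  have hdeg : ∀ χ : Cfsg.IrrCharacter G, Cfsg.charDegree (χ : G → ℂ) = d χ := fun χ => by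
    simp [Cfsg.charDegree, (hd χ).2]
  have hone : d one = 1 := by
    have := (hd one).2
    simp only [one, CharBasicDecomp.trivIrr] at this
    exact_mod_cast this.symm
  -- the involutions are counted by the degrees of real characters
  have hsq : Nat.card {x : G // x * x = 1} = t + 1 := by
    rw [← ht, Nat.card_eq_fintype_card, Nat.card_eq_fintype_card, Fintype.card_subtype,
      Fintype.card_subtype]
    rw [show (Finset.univ.filter fun x : G => x * x = 1) =
      insert 1 (Finset.univ.filter fun x : G => orderOf x = 2) from ?_,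
      Finset.card_insert_of_notMem (by simp)]
    ext x
    simp only [Finset.mem_filter, Finset.mem_univ, true_and, Finset.mem_insert]
    constructor
    · intro hx
      by_cases h1 : x = 1
      · exact Or.inl h1
      · exact Or.inr (orderOf_eq_prime (by rw [pow_two, hx]) h1)
    · rintro (rfl | hx)
      · exact one_mul 1
      · rw [← pow_two, ← hx, pow_orderOf_eq_one]
  have hnone : RealChars.nu (one : G → ℂ) = 1 := by
    rw [RealChars.nu_eq]
    simp [one, CharBasicDecomp.trivIrr, Nat.card_eq_fintype_card]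
  choose z hz using fun χ : Cfsg.IrrCharacter G => show ∃ z : ℤ, RealChars.nu (χ : G → ℂ) = z ∧
      z ≤ 1 ∧ (χ ∉ R → χ ≠ one → z = 0) by
    by_cases hr : ∀ g : G, ((χ : G → ℂ) g).im = 0
    · have hmem : χ ≠ one → χ ∈ R := fun h => Finset.mem_filter.mpr ⟨Finset.mem_univ _, hr, h⟩
      rcases RealChars.nu_eq_one_or_neg_one χ hr with h | h
      · exact ⟨1, by simpa using h, le_rfl, fun h1 h2 => absurd (hmem h2) h1⟩
      · exact ⟨-1, by simpa using h, by norm_num, fun h1 h2 => absurd (hmem h2) h1⟩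
    · exact ⟨0, by simpa using RealChars.nu_eq_zero χ hr, by norm_num, fun _ _ => rfl⟩
  have hsumz : (∑ χ, z χ * (d χ : ℤ)) = (t : ℤ) + 1 := by
    have h := RealChars.sqrtCount_eq (1 : G)
    rw [hsq] at h
    apply Int.cast_injective (α := ℂ)
    push_cast at h ⊢
    rw [h]
    exact Finset.sum_congr rfl fun χ _ => by rw [(hd χ).2, (hz χ).1]
  have ht_le : t ≤ ∑ χ ∈ R, d χ := by
    have h1 : (∑ χ, z χ * (d χ : ℤ)) ≤ ∑ χ ∈ insert one R, (d χ : ℤ) := by
      rw [← Finset.sum_subset (Finset.subset_univ (insert one R)) (fun χ _ hχ => ?_)]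
      · refine Finset.sum_le_sum fun χ _ => ?_
        have := (hz χ).2.1
        nlinarith [(hd χ).1]
      · rw [Finset.mem_insert, not_or] at hχ
        rw [(hz χ).2.2 hχ.2 hχ.1, zero_mul]
    rw [hsumz, Finset.sum_insert (by simp [hR]), hone] at h1
    have : (t : ℤ) ≤ ((∑ χ ∈ R, d χ : ℕ) : ℤ) := by push_cast at h1 ⊢; linarith
    exact_mod_cast this
  have hsq_le : (∑ χ ∈ R, d χ ^ 2) + 1 ≤ Nat.card G := by
    have h : ∑ χ : Cfsg.IrrCharacter G, d χ ^ 2 = Nat.card G := by
      apply Nat.cast_injective (R := ℂ)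
      rw [← CharBasicOrth.sum_sq_apply_one, Nat.cast_sum]
      exact Finset.sum_congr rfl fun χ _ => by rw [(hd χ).2, Nat.cast_pow]
    rw [← h]
    calc (∑ χ ∈ R, d χ ^ 2) + 1 = ∑ χ ∈ insert one R, d χ ^ 2 := by
          rw [Finset.sum_insert (by simp [hR]), hone, one_pow, add_comm]
      _ ≤ _ := Finset.sum_le_sum_of_subset (Finset.subset_univ _)
  have hcs : t ^ 2 + R.card ≤ R.card * Nat.card G := by
    have h := sq_sum_le_card_mul_sum_sq (s := R) (f := fun χ => d χ)
    have h2 := Nat.pow_le_pow_left ht_le 2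
    nlinarith [Nat.mul_le_mul_left R.card hsq_le]
  constructor
  · -- the real classes
    set RC : Finset (ConjClasses G) := Finset.univ.filter
      (fun C => (∀ g : G, ConjClasses.mk g = C → IsConj g g⁻¹) ∧ C ≠ ConjClasses.mk 1) with hRC
    have hcard : R.card = RC.card := by
      have h := RealChars.card_real_eq (G := G)
      rw [Nat.card_eq_fintype_card, Nat.card_eq_fintype_card, Fintype.card_subtype,
        Fintype.card_subtype] at h
      have e1 : insert one R = Finset.univ.filter
          (fun χ : Cfsg.IrrCharacter G => ∀ g : G, ((χ : G → ℂ) g).im = 0) := by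
        ext χ
        simp only [hR, Finset.mem_insert, Finset.mem_filter, Finset.mem_univ, true_and]
        refine ⟨fun hh => hh.elim (fun e => e ▸ fun g => by simp [one, CharBasicDecomp.trivIrr])
          (fun e => e.1), fun hh => (em (χ = one)).imp id (fun hne => ⟨hh, hne⟩)⟩
      have e2 : insert (ConjClasses.mk (1 : G)) RC = Finset.univ.filter
          (fun C : ConjClasses G => ∀ g : G, ConjClasses.mk g = C → IsConj g g⁻¹) := by
        ext C
        simp only [hRC, Finset.mem_insert, Finset.mem_filter, Finset.mem_univ, true_and]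
        refine ⟨fun hh => hh.elim (fun e g hg => ?_) (fun e => e.1),
          fun hh => (em (C = ConjClasses.mk 1)).imp id (fun hne => ⟨hh, hne⟩)⟩
        subst e
        rw [isConj_one_left.mp (ConjClasses.mk_eq_mk_iff_isConj.mp hg), inv_one]
      rw [← e1, ← e2, Finset.card_insert_of_notMem (by simp [hR]),
        Finset.card_insert_of_notMem (by simp [hRC])] at h
      omega
    by_contra hcon
    push Not at hcon
    have hsize : ∀ C ∈ RC, ((Nat.card G : ℚ) - 1) ^ 2 / (t : ℚ) ^ 2 <
        (((Finset.univ.filter fun g : G => ConjClasses.mk g = C).card : ℕ) : ℚ) := by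
      intro C hC
      obtain ⟨c, rfl⟩ := ConjClasses.mk_surjective C
      have hc1 : c ≠ 1 := fun e => (Finset.mem_filter.mp hC).2.2 (by rw [e])
      have h := hcon c hc1
      rw [div_pow] at h
      refine lt_of_lt_of_le h (le_of_eq ?_)
      congr 1
      have h2 := CharBasicOrth.card_conj_mul_card_centralizer c
      rw [← Subgroup.card_mul_index (Subgroup.centralizer ({c} : Set G)), mul_comm] at h2
      have h3 := Nat.eq_of_mul_eq_mul_left Nat.card_pos h2
      rw [← h3, Nat.card_eq_fintype_card, Fintype.card_subtype]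
      congr 1
      ext g
      simp only [Finset.mem_filter, Finset.mem_univ, true_and, ConjClasses.mk_eq_mk_iff_isConj]
      exact ⟨IsConj.symm, IsConj.symm⟩
    have hRne : 0 < RC.card := by
      rw [← hcard]
      by_contra h
      push Not at h
      rw [Finset.card_eq_zero.mp (Nat.le_zero.mp h), Finset.sum_empty] at ht_le
      omega
    have hlt : (RC.card : ℚ) * (((Nat.card G : ℚ) - 1) ^ 2 / (t : ℚ) ^ 2) < (Nat.card G : ℚ) - 1 := by
      have h1 : ∑ C ∈ RC, ((Nat.card G : ℚ) - 1) ^ 2 / (t : ℚ) ^ 2 <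
          ∑ C ∈ RC, (((Finset.univ.filter fun g : G => ConjClasses.mk g = C).card : ℕ) : ℚ) :=
        Finset.sum_lt_sum_of_nonempty (Finset.card_pos.mp hRne) hsize
      rw [Finset.sum_const, nsmul_eq_mul, ← Nat.cast_sum] at h1
      refine lt_of_lt_of_le h1 ?_
      have h2 : (∑ C ∈ RC, (Finset.univ.filter fun g : G => ConjClasses.mk g = C).card) + 1 ≤
          Nat.card G := by
        rw [← Finset.card_biUnion (fun C _ D _ hCD => Finset.disjoint_left.mpr fun g hg hg' =>
          hCD ((Finset.mem_filter.mp hg).2.symm.trans (Finset.mem_filter.mp hg').2))]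
        rw [← Finset.card_insert_of_notMem (a := (1 : G)) ?_, Nat.card_eq_fintype_card]
        · exact Finset.card_le_univ _
        · simp only [Finset.mem_biUnion, Finset.mem_filter, not_exists, not_and]
          intro C hC _ h1
          exact (Finset.mem_filter.mp hC).2.2 h1.symm
      have : (((∑ C ∈ RC, (Finset.univ.filter fun g : G => ConjClasses.mk g = C).card) + 1 : ℕ) : ℚ)
          ≤ (Nat.card G : ℚ) := Nat.cast_le.mpr h2
      push_cast at this
      push_cast
      linarith
    have htq : (0 : ℚ) < (t : ℚ) ^ 2 := by positivity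
    have hcs' : (t : ℚ) ^ 2 + (R.card : ℚ) ≤ (R.card : ℚ) * (Nat.card G : ℚ) := by exact_mod_cast hcs
    rw [← mul_div_assoc, div_lt_iff₀ htq, ← hcard] at hlt
    have hn1 : (1 : ℚ) ≤ (Nat.card G : ℚ) := by exact_mod_cast Nat.card_pos
    nlinarith
  · -- a real character of small degree
    by_contra hcon
    push Not at hcon
    have h1 : ∀ χ ∈ R, ((Nat.card G : ℚ) - 1) * d χ ≤ t * (d χ : ℚ) ^ 2 := by
      intro χ hχ
      have h := hcon χ (fun e => (Finset.mem_filter.mp hχ).2.2 (Subtype.ext e))
        (Finset.mem_filter.mp hχ).2.1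
      rw [hdeg, div_lt_iff₀ (by exact_mod_cast ht0)] at h
      have : (0 : ℚ) ≤ d χ := Nat.cast_nonneg _
      nlinarith
    have hRne : R.Nonempty := by
      by_contra h
      rw [Finset.not_nonempty_iff_eq_empty] at h
      rw [h, Finset.sum_empty] at ht_le
      omega
    have hstrict : ∃ χ ∈ R, ((Nat.card G : ℚ) - 1) * d χ < t * (d χ : ℚ) ^ 2 := by
      obtain ⟨χ, hχ⟩ := hRne
      refine ⟨χ, hχ, ?_⟩
      have h := hcon χ (fun e => (Finset.mem_filter.mp hχ).2.2 (Subtype.ext e))
        (Finset.mem_filter.mp hχ).2.1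
      rw [hdeg, div_lt_iff₀ (by exact_mod_cast ht0)] at h
      have : (0 : ℚ) < d χ := by exact_mod_cast (hd χ).1
      nlinarith
    have h2 := Finset.sum_lt_sum h1 hstrict
    rw [← Finset.mul_sum, ← Finset.mul_sum] at h2
    have h3 : (t : ℚ) ≤ ∑ χ ∈ R, (d χ : ℚ) := by exact_mod_cast ht_le
    have h4 : (∑ χ ∈ R, (d χ : ℚ) ^ 2) + 1 ≤ (Nat.card G : ℚ) := by exact_mod_cast hsq_le
    have hn1 : (1 : ℚ) ≤ (Nat.card G : ℚ) := by exact_mod_cast Nat.card_pos
    have ht' : (0 : ℚ) ≤ (t : ℚ) := Nat.cast_nonneg _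
    nlinarith

end Cfsg.Agent.S4476
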