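import Cfsg.Statements.S4477
import Cfsg.Agent.Lib.RealChars
import Cfsg.Agent.Lib.CharBasicLinear
import Cfsg.Agent.Lib.DegreeDvd

set_option autoImplicit false
open Cfsg

namespace Cfsg.Agent.S4477

/-- Let G be a finite 2-group whose number of involutions is congruent to 1 modulo 4. Then G is cyclic or its commutator subgroup has index 4. -/
theorem result {G : Type*} [Group G] [Finite G] (hG : IsPGroup 2 G) (ht : Nat.card {x : G // orderOf x = 2} % 4 = 1) : IsCyclic G ∨ (commutator G).index = 4 := by
  classical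
  haveI : Fintype G := Fintype.ofFinite G
  haveI : Fact (Nat.Prime 2) := ⟨Nat.prime_two⟩
  haveI : Group.IsNilpotent G := hG.isNilpotent
  have hnc := Group.normalizerCondition_of_isNilpotent (G := G)
  obtain ⟨c, hc⟩ : ∃ c, (commutator G).index = 2 ^ c := hG.index (commutator G)
  by_contra hcon
  rw [not_or] at hcon
  obtain ⟨hcyc, h4⟩ := hcon
  -- a normal subgroup of index two for every coatom
  have hco : ∀ M : Subgroup G, IsCoatom M → M.Normal ∧ M.index = 2 := by
    intro M hM
    have hn : M.Normal := Subgroup.NormalizerCondition.normal_of_coatom M hnc hM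
    refine ⟨hn, ?_⟩
    haveI := hn
    obtain ⟨j, hj⟩ := hG.index M
    by_contra h2
    have hj2 : 2 ≤ j := by
      rcases j with _ | _ | j
      · exact absurd (Subgroup.index_eq_one.mp (hj.trans (pow_zero 2))) hM.1
      · exact absurd (hj.trans (pow_one 2)) h2
      · omega
    obtain ⟨q, hq⟩ := exists_prime_orderOf_dvd_card' (G := G ⧸ M) 2
      (by
        show 2 ∣ M.index
        rw [hj]
        exact dvd_pow_self 2 (by omega))
    set L := (Subgroup.zpowers q).comap (QuotientGroup.mk' M)
    have hML : M ≤ L := fun m hm => by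
      show ((m : G) : G ⧸ M) ∈ Subgroup.zpowers q
      rw [(QuotientGroup.eq_one_iff m).mpr hm]
      exact one_mem _
    have hidx : L.index * 2 = 2 ^ j := by
      have h1 := Subgroup.card_mul_index (Subgroup.zpowers q)
      rw [Nat.card_zpowers, hq] at h1
      rw [Subgroup.index_comap_of_surjective _ (QuotientGroup.mk'_surjective M), mul_comm, h1]
      exact hj
    rcases hM.le_iff.mp hML with hL | hL
    · rw [hL, Subgroup.index_top, one_mul] at hidx
      exact h2 (by rw [hj, ← hidx])
    · rw [hL, hj] at hidx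
      have := pow_pos (two_pos (α := ℕ)) j
      omega
  have habel : ∀ M : Subgroup G, IsCoatom M → commutator G ≤ M := by
    intro M hM
    obtain ⟨hn, h2⟩ := hco M hM
    haveI := hn
    haveI : IsCyclic (G ⧸ M) := isCyclic_of_prime_card (p := 2) h2
    refine Subgroup.Normal.quotient_commutative_iff_commutator_le.mp ?_
    exact IsCyclic.isMulCommutative
  -- a noncyclic group has two different coatoms
  obtain ⟨M1, hM1⟩ : ∃ M : Subgroup G, IsCoatom M := by
    have : Nontrivial G := by
      by_contra h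
      rw [not_nontrivial_iff_subsingleton] at h
      exact hcyc inferInstance
    rcases eq_top_or_exists_le_coatom (⊥ : Subgroup G) with h | ⟨M, hM, -⟩
    · exact absurd h bot_ne_top
    · exact ⟨M, hM⟩
  obtain ⟨x, -, hx⟩ := SetLike.exists_of_lt (lt_top_iff_ne_top.mpr hM1.1)
  obtain ⟨M2, hM2, hxM2⟩ : ∃ M : Subgroup G, IsCoatom M ∧ x ∈ M := by
    rcases eq_top_or_exists_le_coatom (Subgroup.zpowers x) with h | ⟨M, hM, hle⟩
    · exact absurd (isCyclic_iff_exists_zpowers_eq_top.mpr ⟨x, h⟩) hcyc
    · exact ⟨M, hM, hle (Subgroup.mem_zpowers x)⟩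
  -- the homomorphisms to `ℂˣ` of square one
  let T := {lam : G →* ℂˣ // ∀ g, lam g * lam g = 1}
  have hsign : ∀ M : Subgroup G, IsCoatom M → ∃ lam : T, ∀ g, lam.1 g = 1 ↔ g ∈ M := by
    intro M hM
    obtain ⟨hn, h2⟩ := hco M hM
    have hmul := fun a b : G => Subgroup.mul_mem_iff_of_index_two (a := a) (b := b) h2
    refine ⟨⟨{ toFun := fun g => if g ∈ M then 1 else -1
               map_one' := if_pos M.one_mem
               map_mul' := fun a b => by
                 by_cases ha : a ∈ M <;> by_cases hb : b ∈ M <;> simp [ha, hb, hmul] }, ?_⟩, ?_⟩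
    · intro g
      simp only [MonoidHom.coe_mk, OneHom.coe_mk]
      split_ifs <;> simp
    · intro g
      simp only [MonoidHom.coe_mk, OneHom.coe_mk]
      split_ifs with h
      · simp [h]
      · simp only [h, iff_false]
        intro e
        have := congrArg Units.val e
        norm_num at this
  obtain ⟨l1, hl1⟩ := hsign M1 hM1
  obtain ⟨l2, hl2⟩ := hsign M2 hM2
  let S : Subgroup (G →* ℂˣ) :=
    { carrier := {lam | ∀ g, lam g * lam g = 1}
      one_mem' := fun g => one_mul 1
      mul_mem' := fun {a b} ha hb g => by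
        rw [MonoidHom.mul_apply, mul_mul_mul_comm, ha g, hb g, one_mul]
      inv_mem' := fun {a} ha g => by
        rw [MonoidHom.inv_apply, ← mul_inv, ha g, inv_one] }
  have hT4 : 4 ∣ Nat.card T := by
    haveI : Finite (G →* ℂˣ) := Nat.finite_of_card_ne_zero (by
      rw [CharBasicLinear.card_hom_units]; exact Subgroup.index_ne_zero_of_finite)
    have hS : IsPGroup 2 S := fun a => ⟨1, Subtype.ext (MonoidHom.ext fun g => by
      rw [pow_one, pow_two]; exact a.2 g)⟩
    obtain ⟨r, hr⟩ := IsPGroup.iff_card.mp hS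
    have e : Nat.card T = Nat.card S := rfl
    rw [e, hr]
    rcases Nat.lt_or_ge r 2 with h | h
    swap
    · exact (pow_dvd_pow 2 h)
    exfalso
    haveI : Finite S := inferInstance
    have h3 : 3 ≤ Nat.card S := by
      haveI : Fintype S := Fintype.ofFinite S
      rw [Nat.card_eq_fintype_card]
      refine Fintype.two_lt_card_iff.mpr ⟨(1 : S), ⟨l1.1, l1.2⟩, ⟨l2.1, l2.2⟩, ?_, ?_, ?_⟩
      · intro e
        exact hx ((hl1 x).mp (congrArg (fun z : S => z.1 x) e).symm)
      · intro e
        obtain ⟨z, -, hz⟩ := SetLike.exists_of_lt (lt_top_iff_ne_top.mpr hM2.1)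
        exact hz ((hl2 z).mp (congrArg (fun w : S => w.1 z) e).symm)
      · intro e
        exact hx ((hl1 x).mp ((congrArg (fun z : S => z.1 x) e).trans ((hl2 x).mpr hxM2)))
    rw [hr] at h3
    interval_cases r <;> omega
  -- degrees
  choose d hd using fun χ : Cfsg.IrrCharacter G => CharBasic.isIrrCharacter_apply_one χ.2
  have hdpow : ∀ χ, ∃ i, d χ = 2 ^ i := by
    intro χ
    obtain ⟨n, ρ, hi, he⟩ := χ.2
    obtain ⟨a, ha⟩ := IsPGroup.iff_card.mp hG
    have h1 := DegreeDvd.finrank_dvd_card ρ
    have h2 : (Module.finrank ℂ (Fin n → ℂ) : ℂ) = d χ := by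
      rw [← (hd χ).2, ← he, Representation.char_one]
    rw [Nat.cast_injective h2, ha] at h1
    obtain ⟨i, -, hi⟩ := (Nat.dvd_prime_pow Nat.prime_two).mp h1
    exact ⟨i, hi⟩
  have hlin : (Finset.univ.filter fun χ : Cfsg.IrrCharacter G => d χ = 1).card = 2 ^ c := by
    rw [← hc, ← CharBasicLinear.card_linear, Nat.card_eq_fintype_card, Fintype.card_subtype]
    congr 1
    ext χ
    simp only [Finset.mem_filter, Finset.mem_univ, true_and, (hd χ).2, Nat.cast_eq_one]
  have hc3 : 3 ≤ c := by
    have h2dvd : 2 ∣ (commutator G).index :=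
      (hco M1 hM1).2 ▸ Subgroup.index_dvd_of_le (habel M1 hM1)
    rcases Nat.lt_or_ge c 3 with h | h
    · exfalso
      interval_cases c
      · rw [hc] at h2dvd; norm_num at h2dvd
      · -- commutator of index two forces a single coatom
        have he : ∀ M, IsCoatom M → commutator G = M := fun M hM => by
          refine Subgroup.eq_of_le_of_card_ge (habel M hM) (le_of_eq ?_)
          have h1 := Subgroup.card_mul_index M
          rw [(hco M hM).2, ← Subgroup.card_mul_index (commutator G), hc, pow_one] at h1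
          omega
        exact hx ((he M1 hM1).symm.trans (he M2 hM2) ▸ hxM2)
      · exact h4 (by rw [hc]; norm_num)
    · exact h
  have h8 : 8 ∣ Nat.card G := (show 8 ∣ (commutator G).index by
    rw [hc, show (8 : ℕ) = 2 ^ 3 by norm_num]; exact pow_dvd_pow 2 hc3).trans
      (Subgroup.index_dvd_card _)
  -- the number of characters of degree two is even
  set D2 := Finset.univ.filter fun χ : Cfsg.IrrCharacter G => d χ = 2 with hD2
  have hD2even : 2 ∣ D2.card := by
    have hsum : ∑ χ : Cfsg.IrrCharacter G, d χ ^ 2 = Nat.card G := by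
      apply Nat.cast_injective (R := ℂ)
      rw [← CharBasicOrth.sum_sq_apply_one, Nat.cast_sum]
      exact Finset.sum_congr rfl fun χ _ => by rw [(hd χ).2, Nat.cast_pow]
    have h1 : (∑ χ : Cfsg.IrrCharacter G, ((d χ ^ 2 : ℕ) : ZMod 8)) = 0 := by
      rw [← Nat.cast_sum, hsum, ZMod.natCast_eq_zero_iff _ _]
      exact h8
    have h2 : ∀ χ : Cfsg.IrrCharacter G, ((d χ ^ 2 : ℕ) : ZMod 8) =
        (if d χ = 1 then 1 else 0) + (if d χ = 2 then 4 else 0) := by
      intro χ
      obtain ⟨i, hi⟩ := hdpow χ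
      rcases i with _ | _ | i
      · simp [hi]
      · simp [hi]
      · have h2 : d χ = 4 * 2 ^ i := by rw [hi]; ring
        rw [if_neg (by have := pow_pos (two_pos (α := ℕ)) i; omega),
          if_neg (by have := pow_pos (two_pos (α := ℕ)) i; omega), h2, mul_pow]
        push_cast
        rw [show (16 : ZMod 8) = 0 by decide, zero_mul, add_zero]
    simp only [h2, Finset.sum_add_distrib, ← Finset.sum_filter, Finset.sum_const, nsmul_eq_mul,
      mul_one, hlin] at h1
    rw [show ((2 ^ c : ℕ) : ZMod 8) = 0 from (ZMod.natCast_eq_zero_iff _ _).mpr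
      (pow_dvd_pow 2 hc3), zero_add] at h1
    have h3 : ((D2.card * 4 : ℕ) : ZMod 8) = 0 := by push_cast; exact h1
    have := (ZMod.natCast_eq_zero_iff _ _).mp h3
    omega
  -- so is the number of real ones
  let R2 := D2.filter fun χ : Cfsg.IrrCharacter G => ∀ g, ((χ : G → ℂ) g).im = 0
  have hR2 : 2 ∣ R2.card := by
    let cj : {χ : Cfsg.IrrCharacter G // d χ = 2} → {χ : Cfsg.IrrCharacter G // d χ = 2} :=
      fun χ => ⟨⟨fun g => (starRingEnd ℂ) ((χ.1 : G → ℂ) g),
        CharBasicDecomp.isIrrCharacter_conj χ.1.2⟩, by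
          apply Nat.cast_injective (R := ℂ)
          rw [← (hd _).2]
          show (starRingEnd ℂ) ((χ.1 : G → ℂ) 1) = _
          rw [(hd χ.1).2, map_natCast, χ.2]⟩
    have hinv : Function.Involutive cj := fun χ => Subtype.ext (Subtype.ext (funext fun g =>
      Complex.conj_conj _))
    let σ : Equiv.Perm {χ : Cfsg.IrrCharacter G // d χ = 2} := hinv.toPerm
    have h := Equiv.Perm.card_compl_support_modEq (σ := σ) (p := 2) (n := 1)
      (Equiv.ext fun χ => by rw [pow_one, pow_two]; exact hinv χ)
    have e1 : Fintype.card {χ : Cfsg.IrrCharacter G // d χ = 2} = D2.card := Fintype.card_subtype _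
    have e2 : σ.supportᶜ.card = R2.card := by
      rw [← Finset.card_map (Function.Embedding.subtype _)]
      congr 1
      ext χ
      simp only [Finset.mem_map, Finset.mem_compl, Equiv.Perm.mem_support, not_not,
        Function.Embedding.coe_subtype, R2, hD2, Finset.mem_filter, Finset.mem_univ, true_and]
      constructor
      · rintro ⟨⟨χ', hχ'⟩, hfix, rfl⟩
        exact ⟨hχ', fun g => Complex.conj_eq_iff_im.mp
          (congrFun (congrArg (fun z : {χ : Cfsg.IrrCharacter G // d χ = 2} => (z.1 : G → ℂ)) hfix) g)⟩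
      · rintro ⟨h2, hr⟩
        exact ⟨⟨χ, h2⟩, Subtype.ext (Subtype.ext (funext fun g => Complex.conj_eq_iff_im.mpr (hr g))),
          rfl⟩
    rw [e1, e2, Nat.ModEq] at h
    omega
  -- compute the number of square roots of one modulo four
  choose z hz using fun χ : Cfsg.IrrCharacter G => show ∃ z : ℤ, RealChars.nu (χ : G → ℂ) = z ∧
      ((∀ g, ((χ : G → ℂ) g).im = 0) → z = 1 ∨ z = -1) ∧
      ((¬ ∀ g, ((χ : G → ℂ) g).im = 0) → z = 0) by
    by_cases hr : ∀ g : G, ((χ : G → ℂ) g).im = 0
    · rcases RealChars.nu_eq_one_or_neg_one χ hr with h | h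
      · exact ⟨1, by simpa using h, fun _ => Or.inl rfl, fun h' => absurd hr h'⟩
      · exact ⟨-1, by simpa using h, fun _ => Or.inr rfl, fun h' => absurd hr h'⟩
    · exact ⟨0, by simpa using RealChars.nu_eq_zero χ hr, fun h' => absurd h' hr, fun _ => rfl⟩
  have hsq : Nat.card {x : G // x * x = 1} = (Nat.card {x : G // orderOf x = 2}) + 1 := by
    rw [Nat.card_eq_fintype_card, Nat.card_eq_fintype_card, Fintype.card_subtype,
      Fintype.card_subtype]
    rw [show (Finset.univ.filter fun x : G => x * x = 1) =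
      insert 1 (Finset.univ.filter fun x : G => orderOf x = 2) from ?_,
      Finset.card_insert_of_notMem (by simp)]
    ext x
    simp only [Finset.mem_filter, Finset.mem_univ, true_and, Finset.mem_insert]
    constructor
    · intro hx
      by_cases h1 : x = 1
      · exact Or.inl h1
      · exact Or.inr (orderOf_eq_prime (by rw [pow_two, hx]) h1)
    · rintro (rfl | hx)
      · exact one_mul 1
      · rw [← pow_two, ← hx, pow_orderOf_eq_one]
  have hsumz : (∑ χ, z χ * (d χ : ℤ)) = ((Nat.card {x : G // orderOf x = 2}) : ℤ) + 1 := by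
    have h := RealChars.sqrtCount_eq (1 : G)
    rw [hsq] at h
    apply Int.cast_injective (α := ℂ)
    push_cast at h ⊢
    rw [h]
    exact Finset.sum_congr rfl fun χ _ => by rw [(hd χ).2, (hz χ).1]
  set L1 := Finset.univ.filter fun χ : Cfsg.IrrCharacter G =>
    d χ = 1 ∧ ∀ g, ((χ : G → ℂ) g).im = 0 with hL1
  have hterm : ∀ χ : Cfsg.IrrCharacter G, ((z χ * (d χ : ℤ) : ℤ) : ZMod 4) =
      (if χ ∈ L1 then 1 else 0) + (if χ ∈ R2 then 2 else 0) := by
    intro χ
    obtain ⟨i, hi⟩ := hdpow χ
    rcases i with _ | _ | i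
    · rw [pow_zero] at hi
      have hn2 : χ ∉ R2 := by simp [R2, hD2, hi]
      rw [if_neg hn2, add_zero, hi, Nat.cast_one, mul_one]
      by_cases hr : ∀ g, ((χ : G → ℂ) g).im = 0
      · rw [if_pos (by simp [hL1, hi, hr])]
        obtain ⟨lam, hlam⟩ := CharBasicLinear.exists_hom_of_apply_one_eq_one
          (CharBasic.isCharacter_of_isIrrCharacter χ.2) (by rw [(hd χ).2, hi, Nat.cast_one])
        have : RealChars.nu (χ : G → ℂ) = 1 := by
          have hone : ∀ g : G, (χ : G → ℂ) (g * g) = 1 := fun g => by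
            have h1 : (χ : G → ℂ) (g * g) = (χ : G → ℂ) g * (χ : G → ℂ) g := by simp [hlam]
            have h2 := CharBasicDecomp.norm_linear lam g
            rw [show (lam g : ℂ) = (χ : G → ℂ) g by rw [hlam]] at h2
            have h3 : (χ : G → ℂ) g * (starRingEnd ℂ) ((χ : G → ℂ) g) = 1 := by
              rw [Complex.mul_conj', h2]; norm_num
            rw [Complex.conj_eq_iff_im.mpr (hr g)] at h3
            rw [h1, h3]
          rw [RealChars.nu_eq]
          simp [hone, Nat.card_eq_fintype_card]
        rw [(hz χ).1] at this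
        rw [Int.cast_eq_one.mp this, Int.cast_one]
      · rw [if_neg (by simp [hL1, hr]), (hz χ).2.2 hr, Int.cast_zero]
    · rw [show (2 : ℕ) ^ (0 + 1) = 2 by norm_num] at hi
      rw [if_neg (by simp [hL1, hi]), zero_add]
      by_cases hr : ∀ g, ((χ : G → ℂ) g).im = 0
      · rw [if_pos (by simp [R2, hD2, hi, hr]), hi]
        rcases (hz χ).2.1 hr with h | h <;> rw [h] <;> decide
      · rw [if_neg (by simp [R2, hr]), (hz χ).2.2 hr, zero_mul, Int.cast_zero]
    · have h2 : d χ = 4 * 2 ^ i := by rw [hi]; ring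
      have hpos := pow_pos (two_pos (α := ℕ)) i
      rw [if_neg (by simp [hL1]; omega), if_neg (by simp [R2, hD2]; omega), h2]
      push_cast
      rw [show (4 : ZMod 4) = 0 by decide]
      ring
  have hL1card : L1.card = Nat.card T := by
    rw [← Fintype.card_coe, ← Nat.card_eq_fintype_card]
    refine Nat.card_congr (Equiv.ofBijective (fun lam : T => (⟨⟨fun g => (lam.1 g : ℂ),
      CharBasicDecomp.isIrrCharacter_linear lam.1⟩, ?_⟩ : L1)) ⟨?_, ?_⟩).symm
    · have hmem : ∀ g, ((lam.1 g : ℂ)).im = 0 := fun g => by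
        have h := congrArg Units.val (lam.2 g)
        rw [Units.val_mul, Units.val_one, mul_self_eq_one_iff] at h
        rcases h with h | h <;> simp [h]
      refine Finset.mem_filter.mpr ⟨Finset.mem_univ _, ?_, hmem⟩
      apply Nat.cast_injective (R := ℂ)
      rw [← (hd _).2]
      simp
    · intro a b e
      refine Subtype.ext (MonoidHom.ext fun g => Units.ext ?_)
      exact congrFun (congrArg (fun y : L1 => (y.1 : G → ℂ)) e) g
    · rintro ⟨χ, hχ⟩
      obtain ⟨-, h1, hr⟩ := Finset.mem_filter.mp hχ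
      obtain ⟨lam, hlam⟩ := CharBasicLinear.exists_hom_of_apply_one_eq_one
        (CharBasic.isCharacter_of_isIrrCharacter χ.2) (by rw [(hd χ).2, h1, Nat.cast_one])
      refine ⟨⟨lam, fun g => Units.ext ?_⟩, Subtype.ext (Subtype.ext hlam.symm)⟩
      have h2 := CharBasicDecomp.norm_linear lam g
      have h3 : (lam g : ℂ) * (starRingEnd ℂ) (lam g : ℂ) = 1 := by
        rw [Complex.mul_conj', h2]; norm_num
      rw [Complex.conj_eq_iff_im.mpr (by have := hr g; rwa [hlam] at this)] at h3
      exact h3
  have hfin := congrArg (fun n : ℤ => (n : ZMod 4)) hsumz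
  simp only [Int.cast_sum, hterm, Finset.sum_add_distrib, Finset.sum_ite_mem, Finset.univ_inter,
    Finset.sum_const, nsmul_eq_mul, mul_one] at hfin
  rw [hL1card, (ZMod.natCast_eq_zero_iff _ _).mpr hT4, zero_add] at hfin
  obtain ⟨r, hr⟩ := hR2
  rw [hr] at hfin
  push_cast at hfin
  rw [show (2 : ZMod 4) * r * 2 = (r : ZMod 4) * ((2 : ZMod 4) * 2) by ring,
    show (2 : ZMod 4) * 2 = 0 by decide, mul_zero] at hfin
  have h3 : ((((Nat.card {x : G // orderOf x = 2}) + 1 : ℕ)) : ZMod 4) = 0 := by push_cast; exact hfin.symm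
  have := (ZMod.natCast_eq_zero_iff _ _).mp h3
  omega

end Cfsg.Agent.S4477
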