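import Cfsg.Statements.S4483
import Cfsg.Agent.Lib.BlockTwist79
import Cfsg.Agent.Lib.BlockContribBounds
import Cfsg.Agent.Lib.BlockPrincipal81
import Cfsg.Agent.Lib.RealChars
-- import your own Cfsg.Agent.* helpers here

set_option autoImplicit false
open Cfsg

namespace Cfsg.Agent.S4483

/-- Let G be a finite group of order 2^n·g₀ with g₀ odd, and M a maximal ideal of the algebraic integers containing 2. Every real-valued irreducible character of G of odd degree lies in the principal 2-block; consequently G has at most 2^(2n) real-valued irreducible characters of odd degree. -/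
theorem result {G : Type*} [Group G] [Finite G] (M : Ideal Cfsg.AlgInt) (hM : Cfsg.IsPModular 2 M) : (∀ χ : Cfsg.IrrCharacter G, (∀ g : G, ((χ : G → ℂ) g).im = 0) → Odd (Cfsg.charDegree (χ : G → ℂ)) → χ ∈ Cfsg.principalBlock M G) ∧ Nat.card {χ : Cfsg.IrrCharacter G // (∀ g : G, ((χ : G → ℂ) g).im = 0) ∧ Odd (Cfsg.charDegree (χ : G → ℂ))} ≤ 2 ^ (2 * (Nat.card G).factorization 2) := by
  classical
  haveI : Fintype G := Fintype.ofFinite G
  have hmem : ∀ χ : Cfsg.IrrCharacter G, (∀ g : G, ((χ : G → ℂ) g).im = 0) →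
      Odd (Cfsg.charDegree (χ : G → ℂ)) → χ ∈ Cfsg.principalBlock M G := by
    intro χ hr hodd
    have hpos : 0 < Nat.card G := Nat.card_pos
    have hinv : ∀ g : G, g ^ (Nat.card G - 1) = g⁻¹ := fun g => eq_inv_of_mul_eq_one_left (by
      rw [← pow_succ, Nat.sub_add_cancel hpos, pow_card_eq_one'])
    refine BlockTwist79.mem_principal_of_twist (k := Nat.card G - 1) hM ?_ (fun g _ => hinv g) χ hodd ?_
    · exact ((Nat.coprime_self_sub_right (n := Nat.card G) (m := 1) hpos).2 (Nat.coprime_one_right _)).symm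
    · have he : (fun g => (χ : G → ℂ) (g ^ (Nat.card G - 1))) = (χ : G → ℂ) := funext fun g => by
        rw [hinv]; exact (RealChars.real_iff χ).1 hr g
      rw [he]
      exact BlockTheoryIdem.sameBlock_refl hM _
  refine ⟨hmem, ?_⟩
  haveI : Finite (Cfsg.IrrCharacter G) := CharBasicOrth.finite_irrCharacter
  refine le_trans (Nat.card_le_card_of_injective
    (fun χ : {χ : Cfsg.IrrCharacter G // (∀ g : G, ((χ : G → ℂ) g).im = 0) ∧
      Odd (Cfsg.charDegree (χ : G → ℂ))} =>
        (⟨χ.1, hmem χ.1 χ.2.1 χ.2.2⟩ : Cfsg.principalBlock M G))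
    (fun a b h => Subtype.ext (by simpa using h))) ?_
  refine le_trans (BlockContribBounds.card_le hM BlockPrincipal81.isPBlock_principal) ?_
  set n := (Nat.card G).factorization 2
  have hd : Cfsg.blockDefect 2 (Cfsg.principalBlock M G) ≤ n := Nat.sub_le _ _
  have h1 : 2 ^ (2 * Cfsg.blockDefect 2 (Cfsg.principalBlock M G)) ≤ 2 ^ (2 * n) :=
    Nat.pow_le_pow_right two_pos (by omega)
  have h2 : 1 ≤ 2 ^ (2 * n) := Nat.one_le_pow _ _ two_pos
  omega

end Cfsg.Agent.S4483
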