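import Cfsg.Statements.S4484
import Cfsg.Agent.Lib.BlichfeldtSixty86
import Cfsg.Agent.Lib.SchurBound79
import Cfsg.Agent.Lib.BlockPrincipal81
import Cfsg.Agent.Lib.BrauerBlocksCentral
import Cfsg.Agent.Lib.CharAverage
import Cfsg.Agent.Lib.ClassAlgebraVal
import Cfsg.Agent.Lib.CharBasicInt
-- import your own Cfsg.Agent.* helpers here

set_option autoImplicit false
open Cfsg

namespace Cfsg.Agent.S4484

attribute [local instance] Classical.propDecidable

open scoped ComplexConjugate InnerProductSpace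
open Cfsg.Agent Cfsg.Agent.BlockTheoryLocalRing Cfsg.Agent.BlockTheoryIdem

/-- Two roots whose exponents differ by less than a sixth of `p` are at distance less than one. -/
theorem norm_sub_lt {p : ℕ} (hp : 0 < p) {a b : ℕ} (h1 : 6 * a < p + 6 * b) (h2 : 6 * b < p + 6 * a) :
    ‖Complex.exp (2 * Real.pi * Complex.I / p) ^ b -
      Complex.exp (2 * Real.pi * Complex.I / p) ^ a‖ < 1 := by
  set θ : ℝ := 2 * Real.pi / p * ((b : ℝ) - a) with hθ
  have hp' : (0 : ℝ) < p := by exact_mod_cast hp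
  have hb : |θ| < Real.pi / 3 := by
    have e1 : (6 : ℝ) * a < p + 6 * b := by exact_mod_cast h1
    have e2 : (6 : ℝ) * b < p + 6 * a := by exact_mod_cast h2
    have hpi := Real.pi_pos
    rw [abs_lt, hθ, div_mul_eq_mul_div, lt_div_iff₀ hp', div_lt_iff₀ hp']
    constructor <;> nlinarith
  have e : Complex.exp (2 * Real.pi * Complex.I / p) ^ b -
      Complex.exp (2 * Real.pi * Complex.I / p) ^ a =
      Complex.exp (2 * Real.pi * Complex.I / p) ^ a * (Complex.exp (θ * Complex.I) - 1) := by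
    rw [mul_sub, mul_one, ← Complex.exp_nat_mul, ← Complex.exp_nat_mul, ← Complex.exp_add]
    congr 2
    rw [hθ]
    push_cast
    ring
  have hn : ‖Complex.exp (2 * Real.pi * Complex.I / p)‖ = 1 := by
    rw [show (2 * Real.pi * Complex.I / p : ℂ) = ((2 * Real.pi / p : ℝ) : ℂ) * Complex.I by
      push_cast; ring]
    exact Complex.norm_exp_ofReal_mul_I _
  rw [e, norm_mul, norm_pow, hn, one_pow, one_mul]
  refine lt_of_pow_lt_pow_left₀ 2 zero_le_one ?_
  rw [one_pow, ← Complex.normSq_eq_norm_sq, Complex.normSq_apply, Complex.sub_re, Complex.sub_im,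
    Complex.exp_ofReal_mul_I_re, Complex.exp_ofReal_mul_I_im, Complex.one_re, Complex.one_im]
  have hc : (1 : ℝ) / 2 < Real.cos θ := by
    rw [← Real.cos_pi_div_three, ← Real.cos_abs θ]
    exact Real.cos_lt_cos_of_nonneg_of_le_pi (abs_nonneg _) (by linarith [Real.pi_pos]) hb
  nlinarith [Real.sin_sq_add_cos_sq θ]

set_option maxHeartbeats 1000000 in
/-- In a simple group no nonidentity element is close to a scalar relative to one of its
eigenvalues in a nontrivial irreducible representation. -/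
theorem close_aux {G : Type*} [Group G] [Finite G] [IsSimpleGroup G] {n : ℕ}
    (ρ : Representation ℂ G (Fin n → ℂ)) [ρ.IsIrreducible] (hinj : Function.Injective ρ)
    (hna : ∀ g : G, (∀ h, h * g = g * h) → g = 1) (g : G) (hg : g ≠ 1) {N : ℕ}
    (b : Module.Basis (Fin N) ℂ (Fin n → ℂ)) (μ : Fin N → ℂ)
    (hb : ∀ i, ρ g (b i) = μ i • b i) (hμ : ∀ i, ‖μ i‖ = 1) (i₀ : Fin N)
    (hclose : ∀ i, ‖μ i - μ i₀‖ < 1)
    {E : Type*} [NormedAddCommGroup E] [InnerProductSpace ℂ E] [FiniteDimensional ℂ E]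
    (e : (Fin n → ℂ) ≃ₗ[ℂ] E) (hiso : ∀ g w, ‖e (ρ g w)‖ = ‖e w‖) : False := by
  set U := Blichfeldt.transport e ρ with hUdef
  have hU : ∀ h v, ‖U h v‖ = ‖v‖ := by
    intro h v
    obtain ⟨a, rfl⟩ := e.surjective v
    rw [hUdef, Blichfeldt.transport_apply]
    exact hiso h a
  set f := fun i => e (b i) with hf
  have hUf : ∀ i, U g (f i) = μ i • f i := fun i => by
    rw [hUdef, hf, Blichfeldt.transport_apply, hb, map_smul]
  have horth : ∀ i j, μ i ≠ μ j → ⟪f i, f j⟫_ℂ = 0 := by
    intro i j hij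
    have h := Blichfeldt.inner_U U hU g (f i) (f j)
    rw [hUf, hUf, inner_smul_left, inner_smul_right, ← mul_assoc] at h
    by_contra h0
    have h1 : conj (μ i) * μ j = 1 := mul_right_cancel₀ h0 (h.trans (one_mul _).symm)
    refine hij ?_
    have h2 : μ i * conj (μ i) = 1 := by
      rw [Complex.mul_conj, Complex.normSq_eq_norm_sq, hμ]; simp
    calc μ i = μ i * (conj (μ i) * μ j) := by rw [h1, mul_one]
      _ = μ j := by rw [← mul_assoc, h2, one_mul]
  obtain ⟨i₁, -, hi₁⟩ := Finset.exists_max_image Finset.univ (fun i => ‖μ i - μ i₀‖)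
    ⟨i₀, Finset.mem_univ _⟩
  set κ := ‖μ i₁ - μ i₀‖ with hκ
  have hbound : ∀ v, ‖U g v - μ i₀ • v‖ ≤ κ * ‖v‖ := by
    intro v
    obtain ⟨a, rfl⟩ := e.surjective v
    set S := Finset.univ.image μ with hS
    set part : ℂ → _ := fun z => ∑ i ∈ Finset.univ.filter (fun i => μ i = z), b.repr a i • f i
      with hpart
    have hsum : e a = ∑ z ∈ S, part z := by
      rw [hpart, Finset.sum_fiberwise_of_maps_to (g := μ) (fun i hi => Finset.mem_image_of_mem μ hi)]
      conv_lhs => rw [← b.sum_repr a]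
      simp only [map_sum, map_smul, hf]
    have hUpart : ∀ z, U g (part z) = z • part z := by
      intro z
      simp only [hpart, map_sum, map_smul, Finset.smul_sum, hUf]
      refine Finset.sum_congr rfl fun i hi => ?_
      rw [(Finset.mem_filter.1 hi).2, smul_comm]
    have hsq : ∀ c : ℂ → ℂ, ‖∑ z ∈ S, c z • part z‖ ^ 2 = ∑ z ∈ S, ‖c z‖ ^ 2 * ‖part z‖ ^ 2 := by
      intro c
      have h : (((‖∑ z ∈ S, c z • part z‖ : ℝ) : ℂ)) ^ 2 =
          ∑ z ∈ S, (((‖c z‖ : ℝ) : ℂ)) ^ 2 * (((‖part z‖ : ℝ) : ℂ)) ^ 2 := by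
        have hi : ⟪∑ z ∈ S, c z • part z, ∑ z ∈ S, c z • part z⟫_ℂ =
            ∑ z ∈ S, conj (c z) * (c z * ⟪part z, part z⟫_ℂ) := by
          rw [sum_inner]
          refine Finset.sum_congr rfl fun z hz => ?_
          rw [inner_sum, Finset.sum_eq_single z, inner_smul_left, inner_smul_right]
          · intro z' _ hne
            have h0 : ⟪part z, part z'⟫_ℂ = 0 := by
              simp only [hpart, sum_inner, inner_sum, inner_smul_left, inner_smul_right]
              refine Finset.sum_eq_zero fun i hi => mul_eq_zero_of_right _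
                (Finset.sum_eq_zero fun j hj => ?_)
              rw [horth, mul_zero]
              rw [(Finset.mem_filter.1 hi).2, (Finset.mem_filter.1 hj).2]
              exact fun h => hne h.symm
            rw [inner_smul_left, inner_smul_right, h0, mul_zero, mul_zero]
          · exact fun h => absurd hz h
        rw [inner_self_eq_norm_sq_to_K] at hi
        refine Eq.trans hi (Finset.sum_congr rfl fun z _ => ?_)
        rw [inner_self_eq_norm_sq_to_K, ← mul_assoc, mul_comm (conj (c z)), Complex.mul_conj']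
        rfl
      exact_mod_cast h
    have e1 : U g (e a) - μ i₀ • e a = ∑ z ∈ S, (z - μ i₀) • part z := by
      rw [hsum, map_sum, Finset.smul_sum, ← Finset.sum_sub_distrib]
      exact Finset.sum_congr rfl fun z _ => by rw [hUpart, sub_smul]
    have e2 : e a = ∑ z ∈ S, (1 : ℂ) • part z := by simp only [one_smul]; exact hsum
    rw [e1, e2]
    refine le_of_pow_le_pow_left₀ two_ne_zero (mul_nonneg (norm_nonneg _) (norm_nonneg _)) ?_
    rw [mul_pow, hsq, hsq, Finset.mul_sum]
    refine Finset.sum_le_sum fun z hz => ?_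
    obtain ⟨i, -, rfl⟩ := Finset.mem_image.1 hz
    rw [norm_one, one_pow, one_mul]
    exact mul_le_mul_of_nonneg_right
      (pow_le_pow_left₀ (norm_nonneg _) (hi₁ i (Finset.mem_univ _)) 2) (sq_nonneg _)
  have hstab : ∀ c, IsConj g c → ∀ v, U g v = μ i₀ • v → U g (U c v) = μ i₀ • U c v :=
    fun c hc v hv => BlichfeldtSixty86.conj_stable U hU g (μ i₀) (hμ i₀) κ (hclose i₁) hbound c hc hv
  -- the eigenspace is invariant under `G`
  set W := LinearMap.ker (ρ g - μ i₀ • (1 : Module.End ℂ (Fin n → ℂ))) with hW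
  have hWmem : ∀ a, a ∈ W ↔ ρ g a = μ i₀ • a := fun a => by
    simp [hW, LinearMap.mem_ker, sub_eq_zero]
  let K : Subgroup G :=
    { carrier := {c | ∀ a, a ∈ W ↔ ρ c a ∈ W}
      one_mem' := fun a => by simp
      mul_mem' := fun {c d} hc hd a => by
        rw [map_mul, Module.End.mul_apply]; exact (hd a).trans (hc _)
      inv_mem' := fun {c} hc a => by
        rw [hc (ρ c⁻¹ a), ← Module.End.mul_apply, ← map_mul, mul_inv_cancel, map_one,
          Module.End.one_apply] }
  have hmem : ∀ c, IsConj g c → c ∈ K := by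
    intro c hc
    have hmap : ∀ a ∈ W, ρ c a ∈ W := by
      intro a ha
      rw [hWmem] at ha ⊢
      have h := hstab c hc (e a) (by rw [hUdef, Blichfeldt.transport_apply, ha, map_smul])
      rw [hUdef, Blichfeldt.transport_apply, Blichfeldt.transport_apply, ← map_smul] at h
      exact e.injective h
    intro a
    refine ⟨hmap a, fun h => ?_⟩
    have hit : ∀ k : ℕ, ρ (c ^ k) (ρ c a) ∈ W := by
      intro k
      induction k with
      | zero => simpa using h
      | succ k ih => rw [pow_succ', map_mul, Module.End.mul_apply]; exact hmap _ ih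
    have := hit (orderOf c - 1)
    rwa [← Module.End.mul_apply, ← map_mul, ← pow_succ,
      Nat.sub_add_cancel (isOfFinOrder_of_finite c).orderOf_pos, pow_orderOf_eq_one, map_one,
      Module.End.one_apply] at this
  have hK : K = ⊤ := by
    rcases (Subgroup.normalClosure_normal (s := ({g} : Set G))).eq_bot_or_eq_top with h | h
    · exact absurd ((Subgroup.eq_bot_iff_forall _).1 h g (Subgroup.subset_normalClosure rfl)) hg
    · rw [eq_top_iff, ← h]
      refine (Subgroup.closure_le _).2 fun c hc => ?_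
      obtain ⟨a, ha, hac⟩ := Group.mem_conjugatesOfSet_iff.1 hc
      rw [Set.mem_singleton_iff.1 ha] at hac
      exact hmem c hac
  have hinv : ∀ c : G, ∀ a ∈ W, ρ c a ∈ W := fun c a ha =>
    ((show c ∈ K by rw [hK]; trivial) a).1 ha
  let Wr : Subrepresentation ρ := ⟨W, fun c a ha => hinv c a ha⟩
  have hW' : W = ⊤ := by
    rcases IsSimpleOrder.eq_bot_or_eq_top Wr with h | h
    · exfalso
      have h0 : b i₀ ∈ Wr.toSubmodule := (hWmem _).2 (hb i₀)
      rw [h] at h0
      exact b.ne_zero i₀ h0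
    · exact congrArg Subrepresentation.toSubmodule h
  refine hg (hna g fun h => hinj (LinearMap.ext fun a => ?_))
  have hall : ∀ a, ρ g a = μ i₀ • a := fun a => (hWmem a).1 (by rw [hW']; trivial)
  rw [map_mul, map_mul, Module.End.mul_apply, Module.End.mul_apply, hall, hall, map_smul]

/-- The same, for any irreducible representation. -/
theorem close_false {G : Type*} [Group G] [Finite G] [IsSimpleGroup G] {n : ℕ}
    (ρ : Representation ℂ G (Fin n → ℂ)) [ρ.IsIrreducible] (hinj : Function.Injective ρ)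
    (hna : ∀ g : G, (∀ h, h * g = g * h) → g = 1) (g : G) (hg : g ≠ 1) {N : ℕ}
    (b : Module.Basis (Fin N) ℂ (Fin n → ℂ)) (μ : Fin N → ℂ)
    (hb : ∀ i, ρ g (b i) = μ i • b i) (hμ : ∀ i, ‖μ i‖ = 1) (i₀ : Fin N)
    (hclose : ∀ i, ‖μ i - μ i₀‖ < 1) : False :=
  letI := Fintype.ofFinite G
  close_aux ρ hinj hna g hg b μ hb hμ i₀ hclose (E := LinearMap.range (Blichfeldt.embed ρ))
    (LinearEquiv.ofInjective (Blichfeldt.embed ρ) (Blichfeldt.embed_injective ρ)) fun g w => by
      rw [Submodule.coe_norm, Submodule.coe_norm, LinearEquiv.ofInjective_apply,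
        LinearEquiv.ofInjective_apply]
      exact Blichfeldt.norm_embed ρ g w

/-- A refinement of Burnside's result on simple groups of order divisible by only two primes. Let G be a finite simple group of order p^a · q^b · g₀ with p, q distinct primes, a > 0, g₀ coprime to p and q, and the order of G different from p. Then g₀ − 1 > log p / log 6, that is 6^(g₀ − 1) > p. -/
theorem result {G : Type*} [Group G] [Finite G] [IsSimpleGroup G] (p q a b g₀ : ℕ) (hp : p.Prime) (hq : q.Prime) (hpq : p ≠ q) (ha : 0 < a) (hg : Nat.card G = p ^ a * q ^ b * g₀) (hcop : ¬ p ∣ g₀) (hcoq : ¬ q ∣ g₀) (hne : Nat.card G ≠ p) : p < 6 ^ (g₀ - 1) := by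
  have : Fintype G := Fintype.ofFinite G
  have : Fact p.Prime := ⟨hp⟩
  by_contra hlt
  push Not at hlt
  have hGne : Nat.card G ≠ 0 := Nat.card_pos.ne'
  have hpG : p ∣ Nat.card G := by
    rw [hg, mul_assoc]
    exact (dvd_pow_self p ha.ne').mul_right _
  -- the group is not abelian
  have hna : ∀ c : G, (∀ h, h * c = c * h) → c = 1 := by
    intro c hc
    by_contra hc1
    have hcen : Subgroup.center G = ⊤ := by
      rcases (inferInstance : (Subgroup.center G).Normal).eq_bot_or_eq_top with h | h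
      · exact absurd ((Subgroup.eq_bot_iff_forall _).1 h c (Subgroup.mem_center_iff.2 hc)) hc1
      · exact h
    letI : CommGroup G := Group.commGroupOfCenterEqTop hcen
    obtain h := (IsSimpleGroup.prime_card (α := G))
    exact hne (((Nat.dvd_prime h).1 hpG).resolve_left hp.ne_one).symm
  -- an element of order `p` in the centre of a Sylow subgroup
  have P : Sylow p G := default
  haveI : Nontrivial ↥(P : Subgroup G) := by
    refine Finite.one_lt_card_iff_nontrivial.1 ?_
    rw [P.card_eq_multiplicity]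
    exact Nat.one_lt_pow (hp.factorization_pos_of_dvd hGne hpG).ne' hp.one_lt
  haveI := P.2.center_nontrivial
  have hpz : p ∣ Nat.card (Subgroup.center ↥(P : Subgroup G)) := by
    obtain ⟨k, hk⟩ := (IsPGroup.iff_card).1 (P.2.to_subgroup (Subgroup.center ↥(P : Subgroup G)))
    rcases Nat.eq_zero_or_pos k with h | h
    · rw [h, pow_zero] at hk
      exact absurd hk Finite.one_lt_card.ne'
    · rw [hk]; exact dvd_pow_self p h.ne'
  obtain ⟨x', hx'⟩ := exists_prime_orderOf_dvd_card' p hpz
  set x : G := ((x' : ↥(P : Subgroup G)) : G) with hxdef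
  have hx : orderOf x = p := by rw [hxdef, Subgroup.orderOf_coe, Subgroup.orderOf_coe, hx']
  have hxl : ∀ l : ℕ, ¬ p ∣ (Subgroup.centralizer ({x ^ l} : Set G)).index := by
    intro l h
    refine P.not_dvd_index (h.trans (Subgroup.index_dvd_of_le fun y hy => ?_))
    rw [Subgroup.mem_centralizer_singleton_iff]
    have h1 : Commute y x := congrArg Subtype.val (Subgroup.mem_center_iff.1 x'.2 ⟨y, hy⟩)
    exact (h1.pow_right l).eq
  -- a character of the principal block
  obtain ⟨M, hM⟩ := SchurBound79.exists_modular p hp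
  obtain ⟨χ, hχB, hχ1, hχq⟩ : ∃ χ : Cfsg.IrrCharacter G, χ ∈ principalBlock M G ∧
      χ ≠ BlockPrincipal81.oneChar G ∧ ¬ q ∣ charDegree (χ : G → ℂ) := by
    by_contra hcon
    push Not at hcon
    have h := weak_orthogonality hM (BlockPrincipal81.isPBlock_principal (G := G)) (x := 1)
      (y := x) (by simp [hp.ne_one]) (by rw [hx])
    have hone := BlockPrincipal81.oneChar_mem (G := G) hM
    choose! f hf using hcon
    rw [← Finset.add_sum_erase _ _ (Finset.mem_univ (BlockPrincipal81.oneChar G)), if_pos hone] at h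
    set z := ∑ χ ∈ Finset.univ.erase (BlockPrincipal81.oneChar G),
      (if χ ∈ principalBlock M G then (f χ : ℂ) * conj ((χ : G → ℂ) x) else 0) with hz
    have hzi : IsIntegral ℤ z := by
      refine IsIntegral.sum _ fun χ _ => ?_
      by_cases hc : χ ∈ principalBlock M G
      · rw [if_pos hc]
        refine IsIntegral.mul (by simpa using isIntegral_algebraMap (R := ℤ) (A := ℂ) (x := (f χ : ℤ))) ?_
        exact (BrauerBlocksCentral.isIntegral_irr χ x).map (starRingEnd ℂ).toIntAlgHom
      · rw [if_neg hc]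
        exact isIntegral_zero
    have he : ∑ χ ∈ Finset.univ.erase (BlockPrincipal81.oneChar G),
      (if χ ∈ principalBlock M G then (χ : G → ℂ) 1 * conj ((χ : G → ℂ) x) else 0) = (q : ℂ) * z := by
      rw [hz, Finset.mul_sum]
      refine Finset.sum_congr rfl fun χ hχ => ?_
      by_cases hc : χ ∈ principalBlock M G
      · rw [if_pos hc, if_pos hc, CharAverage.irr_apply_one χ, hf χ hc (Finset.ne_of_mem_erase hχ)]
        push_cast
        ring
      · rw [if_neg hc, if_neg hc, mul_zero]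
    rw [he] at h
    simp only [BlockPrincipal81.oneChar, map_one, mul_one] at h
    have h' : (-z) = ((1 : ℕ) : ℂ) / q := by
      rw [eq_div_iff (Nat.cast_ne_zero.2 hq.ne_zero)]
      push_cast
      linear_combination (-1 : ℂ) * h
    exact hq.not_dvd_one (CharBasicInt.dvd_of_isIntegral_div hq.ne_zero (h' ▸ hzi.neg))
  obtain ⟨n, ρ, hirr, hρ⟩ := χ.2
  haveI := hirr
  have hdeg : charDegree (χ : G → ℂ) = n := by
    rw [← hρ, charDegree, Representation.character, map_one, LinearMap.trace_one,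
      Module.finrank_fin_fun, Complex.natCast_re, Nat.floor_natCast]
  have hinj : Function.Injective ρ := by
    have hker : ρ.ker = ⊥ := by
      rcases (MonoidHom.normal_ker ρ).eq_bot_or_eq_top with h | h
      · exact h
      · exfalso
        have hsc : ∀ g, ρ g = 1 := fun g => MonoidHom.mem_ker.1 (h ▸ Subgroup.mem_top g)
        have hn1 : n = 1 := by
          by_contra hn1
          have hle : 2 ≤ n := by
            have := ClassAlgebraVal.charDegree_pos χ
            rw [hdeg] at this; omega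
          let W : Submodule ℂ (Fin n → ℂ) := Submodule.span ℂ {Pi.single ⟨0, by omega⟩ 1}
          let Wr : Subrepresentation ρ := ⟨W, fun g v hv => by rw [hsc]; exact hv⟩
          rcases IsSimpleOrder.eq_bot_or_eq_top Wr with hb | ht
          · have h0 : W = ⊥ := congrArg Subrepresentation.toSubmodule hb
            rw [Submodule.span_singleton_eq_bot] at h0
            simpa using congrFun h0 ⟨0, by omega⟩
          · have h0 : W = ⊤ := congrArg Subrepresentation.toSubmodule ht
            have h1 := finrank_span_singleton (K := ℂ)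
              (v := (Pi.single ⟨0, by omega⟩ 1 : Fin n → ℂ)) (by simp)
            rw [show Submodule.span ℂ {(Pi.single ⟨0, by omega⟩ 1 : Fin n → ℂ)} = ⊤ from h0,
              finrank_top, Module.finrank_fin_fun] at h1
            omega
        refine hχ1 (Subtype.ext (funext fun g => ?_))
        rw [← hρ, Representation.character, hsc, LinearMap.trace_one, Module.finrank_fin_fun, hn1]
        simp [BlockPrincipal81.oneChar]
    exact (MonoidHom.ker_eq_bot_iff ρ).1 hker
  obtain ⟨bb, μ, hbμ, hpow, hnorm, hchar⟩ := CharBasic.exists_rep_eigenbasis ρ x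
  rw [hx] at hpow
  have hNn : Module.finrank ℂ (Fin n → ℂ) = n := Module.finrank_fin_fun ℂ
  have hn0 : 0 < n := hdeg ▸ ClassAlgebraVal.charDegree_pos χ
  set α := n.factorization p with hα
  set g₁ := n / p ^ α with hg₁
  have hng : n = p ^ α * g₁ := (Nat.ordProj_mul_ordCompl_eq_self n p).symm
  have hg₁p : ¬ p ∣ g₁ := Nat.not_dvd_ordCompl hp hn0.ne'
  have hg₁dvd : g₁ ∣ g₀ := by
    have h1 : g₁ ∣ Nat.card G :=
      (Nat.ordCompl_dvd n p).trans (hdeg ▸ CharAverage.charDegree_dvd_card χ)
    rw [hg] at h1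
    have hqg : ¬ q ∣ g₁ := fun h => hχq (hdeg ▸ h.trans (Nat.ordCompl_dvd n p))
    have c1 : g₁.Coprime (p ^ a * q ^ b) := Nat.Coprime.mul_right
      (Nat.Coprime.pow_right _ (hp.coprime_iff_not_dvd.2 hg₁p).symm)
      (Nat.Coprime.pow_right _ (hq.coprime_iff_not_dvd.2 hqg).symm)
    exact c1.dvd_of_dvd_mul_left h1
  have hg₀ : 0 < g₀ := Nat.pos_of_ne_zero fun h => hGne (by rw [hg, h, mul_zero])
  -- the multiplicities are divisible by `p ^ α`
  have hcong : ∀ l : ℕ, MemLocalIdeal M (((∑ i, μ i ^ l) - (n : ℂ)) / (p ^ α : ℕ)) := by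
    intro l
    have h := (show SameBlock M (fun _ : G => (1 : ℂ)) (χ : G → ℂ) from hχB) (x ^ l)
    set I := (Subgroup.centralizer ({x ^ l} : Set G)).index with hI
    have hI0 : (I : ℂ) ≠ 0 := Nat.cast_ne_zero.2 Subgroup.index_ne_zero_of_finite
    have hIinv : MemLocalRing M (((g₁ : ℂ)) * (I : ℂ)⁻¹) :=
      (localRing hM).mul_mem (natCast_mem (localRing hM) g₁) (inv_natCast_mem hM (hxl l))
    have h2 := ideal_mul_left hM hIinv (ideal_neg h)
    convert h2 using 1
    have hχl : (χ : G → ℂ) (x ^ l) = ∑ i, μ i ^ l := by rw [← hρ]; exact hchar l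
    have hχ1' : (χ : G → ℂ) 1 = (n : ℂ) := by
      rw [ClassAlgebraVal.apply_one_eq_charDegree, hdeg]
    have hng' : (n : ℂ) = (p : ℂ) ^ α * (g₁ : ℂ) := by exact_mod_cast hng
    rw [centralChar, centralChar, hχl, hχ1', ← hI, hng']
    have hpα : ((p : ℂ) ^ α) ≠ 0 := pow_ne_zero _ (Nat.cast_ne_zero.2 hp.ne_zero)
    have hg₁0 : (g₁ : ℂ) ≠ 0 := Nat.cast_ne_zero.2 fun h0 => hg₁p (h0 ▸ dvd_zero p)
    push_cast
    field_simp
    ring
  set m : ℂ → ℕ := fun z => (Finset.univ.filter fun i => μ i = z).card with hm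
  set S := Finset.univ.image μ with hS
  have hSroot : ∀ z ∈ S, z ^ p = 1 := fun z hz => by
    obtain ⟨i, -, rfl⟩ := Finset.mem_image.1 hz; exact hpow i
  have hmsum : ∑ z ∈ S, m z = n := by
    rw [hm, hS, ← Finset.card_eq_sum_card_image, Finset.card_univ, Fintype.card_fin, hNn]
  have hdiv : ∀ z ∈ S, p ^ α ∣ m z := by
    have hne1 : ∀ z ∈ S, z ≠ 1 → p ^ α ∣ m z := by
      intro z hz hz1
      have hzp := hSroot z hz
      have hz0 : z ≠ 0 := fun h => by rw [h, zero_pow hp.ne_zero] at hzp; exact zero_ne_one hzp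
      have hgeo : ∀ w : ℂ, w ^ p = 1 → ∑ l ∈ Finset.range p, w ^ l = if w = 1 then (p : ℂ) else 0 := by
        intro w hw
        split_ifs with h
        · simp [h]
        · have h1 := geom_sum_mul w p
          rw [hw, sub_self, mul_eq_zero] at h1
          exact h1.resolve_right (sub_ne_zero.2 h)
      have key : ((p * m z : ℕ) : ℂ) / (p ^ α : ℕ) =
          ∑ l ∈ Finset.range p, (z⁻¹) ^ l * (((∑ i, μ i ^ l) - (n : ℂ)) / (p ^ α : ℕ)) := by
        simp only [mul_div_assoc', ← Finset.sum_div]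
        refine congrArg (fun t : ℂ => t / ((p ^ α : ℕ) : ℂ)) ?_
        simp only [mul_sub, Finset.sum_sub_distrib, Finset.mul_sum, ← Finset.sum_mul, ← mul_pow]
        rw [hgeo z⁻¹ (by rw [inv_pow, hzp, inv_one]), if_neg (fun h => hz1 (inv_eq_one.1 h)),
          zero_mul, sub_zero, Finset.sum_comm,
          Finset.sum_congr rfl fun i _ => hgeo (z⁻¹ * μ i)
            (by rw [mul_pow, inv_pow, hzp, hpow i]; simp)]
        rw [← Finset.sum_filter, Finset.sum_const, nsmul_eq_mul, hm]
        have : (Finset.univ.filter fun i => z⁻¹ * μ i = 1) = Finset.univ.filter fun i => μ i = z :=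
          Finset.filter_congr fun i _ => by rw [inv_mul_eq_one₀ hz0, eq_comm]
        rw [this]
        push_cast
        ring
      have hid : MemLocalIdeal M (((p * m z : ℕ) : ℂ) / (p ^ α : ℕ)) := by
        rw [key]
        refine ideal_sum hM fun l _ => ideal_mul_left hM ?_ (hcong l)
        exact (localRing hM).pow_mem (of_isIntegral hM (IsIntegral.of_pow hp.pos
          (by rw [inv_pow, hzp, inv_one]; exact isIntegral_one))) l
      by_contra hndvd
      have hm0 : m z ≠ 0 := fun h => hndvd (h ▸ dvd_zero _)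
      set v := (m z).factorization p with hv
      have hva : v < α := Nat.lt_of_not_le fun h =>
        hndvd ((pow_dvd_pow p h).trans (Nat.ordProj_dvd _ _))
      set u := m z / p ^ v with hu
      have hu' : m z = p ^ v * u := (Nat.ordProj_mul_ordCompl_eq_self (m z) p).symm
      have hpu : ¬ p ∣ u := Nat.not_dvd_ordCompl hp hm0
      refine hpu ((natCast_mem_iff hM).1 ?_)
      have e : (u : ℂ) = ((p : ℂ) ^ (α - v - 1)) * (((p * m z : ℕ) : ℂ) / (p ^ α : ℕ)) := by
        have hp0 : (p : ℂ) ≠ 0 := Nat.cast_ne_zero.2 hp.ne_zero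
        rw [hu', mul_div_assoc', eq_div_iff (by exact_mod_cast pow_ne_zero α hp.ne_zero)]
        push_cast
        conv_lhs => rw [show α = (α - v - 1) + 1 + v by omega]
        rw [pow_add, pow_add]
        ring
      rw [e]
      exact ideal_mul_left hM ((localRing hM).pow_mem (natCast_mem (localRing hM) p) _) hid
    intro z hz
    by_cases hz1 : z = 1
    · subst hz1
      have h2 : p ^ α ∣ ∑ z ∈ S.erase 1, m z := Finset.dvd_sum fun w hw =>
        hne1 w (Finset.mem_of_mem_erase hw) (Finset.ne_of_mem_erase hw)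
      have h3 : p ^ α ∣ n := ⟨g₁, hng⟩
      rw [← hmsum, ← Finset.add_sum_erase _ _ hz] at h3
      exact (Nat.dvd_add_left h2).1 h3
    · exact hne1 z hz hz1
  have hScard : S.card ≤ g₁ := by
    refine Nat.le_of_mul_le_mul_left ?_ (pow_pos hp.pos α)
    rw [← hng, mul_comm, ← smul_eq_mul, ← Finset.sum_const, ← hmsum]
    refine Finset.sum_le_sum fun z hz => Nat.le_of_dvd (Finset.card_pos.2 ?_) (hdiv z hz)
    obtain ⟨i, -, rfl⟩ := Finset.mem_image.1 hz
    exact ⟨i, Finset.mem_filter.2 ⟨Finset.mem_univ _, rfl⟩⟩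
  -- boxes
  haveI : NeZero p := ⟨hp.ne_zero⟩
  set ζ := Complex.exp (2 * Real.pi * Complex.I / p) with hζ
  have hprim := Complex.isPrimitiveRoot_exp p hp.ne_zero
  have hex : ∀ z : S, ∃ i < p, ζ ^ i = (z : ℂ) := fun z => hprim.eq_pow_of_pow_eq_one (hSroot z z.2)
  choose d hd hdz using hex
  let i₀ : Fin (Module.finrank ℂ (Fin n → ℂ)) := ⟨0, by omega⟩
  let z₀ : S := ⟨μ i₀, Finset.mem_image_of_mem μ (Finset.mem_univ _)⟩
  set D : S → ℕ := fun z => d z + (p - d z₀) with hD
  have hDz : ∀ z : S, (z : ℂ) = (z₀ : ℂ) * ζ ^ D z := by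
    intro z
    rw [← hdz z₀, ← pow_add, hD, ← hdz z]
    rw [show d z₀ + (d z + (p - d z₀)) = d z + p by have := hd z₀; omega, pow_add,
      hprim.pow_eq_one, mul_one]
  let box : Fin p → {z : S // z ≠ z₀} → Fin 6 := fun j z =>
    ⟨6 * ((j : ℕ) * D z.1 % p) / p, (Nat.div_lt_iff_lt_mul hp.pos).2
      (Nat.mul_lt_mul_of_pos_left (Nat.mod_lt _ hp.pos) (by norm_num))⟩
  have hboxes : Fintype.card ({z : S // z ≠ z₀} → Fin 6) < Fintype.card (Fin p) := by
    rw [Fintype.card_fun, Fintype.card_fin, Fintype.card_fin, Fintype.card_subtype_compl,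
      Fintype.card_subtype_eq, Fintype.card_coe]
    have h1 : 6 ^ (S.card - 1) ≤ 6 ^ (g₀ - 1) := Nat.pow_le_pow_right (by norm_num)
      (Nat.sub_le_sub_right (hScard.trans (Nat.le_of_dvd hg₀ hg₁dvd)) 1)
    refine lt_of_le_of_ne (h1.trans hlt) fun h => ?_
    rcases Nat.eq_zero_or_pos (S.card - 1) with h0 | h0
    · rw [h0, pow_zero] at h; exact hp.one_lt.ne h
    · have h2 : 2 ∣ p := h ▸ (show 2 ∣ 6 by norm_num).trans (dvd_pow_self 6 h0.ne')
      have h3 : 3 ∣ p := h ▸ (show 3 ∣ 6 by norm_num).trans (dvd_pow_self 6 h0.ne')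
      rcases hp.eq_one_or_self_of_dvd 2 h2 with h4 | h4
      · omega
      · omega
  obtain ⟨j₁, j₂, hjne, hjb⟩ := Fintype.exists_ne_map_eq_of_card_lt box hboxes
  obtain ⟨j₁, j₂, hjlt, hjb⟩ : ∃ j₁ j₂ : Fin p, j₁ < j₂ ∧ box j₁ = box j₂ := by
    rcases lt_or_gt_of_ne hjne with h | h
    · exact ⟨_, _, h, hjb⟩
    · exact ⟨_, _, h, hjb.symm⟩
  set J := (j₂ : ℕ) - (j₁ : ℕ) with hJ
  have hJlt : (j₁ : ℕ) < (j₂ : ℕ) := hjlt
  have hxJ : x ^ J ≠ 1 := by
    refine pow_ne_one_of_lt_orderOf (by omega) ?_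
    rw [hx]
    have := j₂.isLt
    omega
  have hz₀n : ‖(z₀ : ℂ)‖ = 1 := hnorm i₀
  have hclose : ∀ i, ‖μ i ^ J - μ i₀ ^ J‖ < 1 := by
    intro i
    let z : S := ⟨μ i, Finset.mem_image_of_mem μ (Finset.mem_univ _)⟩
    by_cases hz : z = z₀
    · rw [show μ i = μ i₀ from congrArg Subtype.val hz, sub_self, norm_zero]
      exact one_pos
    rw [show μ i = (z : ℂ) from rfl, show μ i₀ = (z₀ : ℂ) from rfl, hDz z, mul_pow, ← mul_sub_one,
      norm_mul, norm_pow, hz₀n, one_pow, one_mul]
    set r₁ := (j₁ : ℕ) * D z % p with hr₁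
    set r₂ := (j₂ : ℕ) * D z % p with hr₂
    have hb' : 6 * r₁ / p = 6 * r₂ / p := congrArg Fin.val (congrFun hjb ⟨z, hz⟩)
    have h1 := Nat.div_add_mod (6 * r₁) p
    have h2 := Nat.div_add_mod (6 * r₂) p
    have h3 := Nat.mod_lt (6 * r₁) hp.pos
    have h4 := Nat.mod_lt (6 * r₂) hp.pos
    rw [hb'] at h1
    have hlt' := norm_sub_lt hp.pos (a := r₁) (b := r₂) (by omega) (by omega)
    have hζn : ‖ζ‖ = 1 := Complex.norm_eq_one_of_pow_eq_one hprim.pow_eq_one hp.ne_zero
    rw [hr₁, hr₂, ← pow_eq_pow_mod _ hprim.pow_eq_one, ← pow_eq_pow_mod _ hprim.pow_eq_one,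
      show (j₂ : ℕ) * D z = (j₁ : ℕ) * D z + D z * J by
        rw [hJ, mul_comm (D z), ← add_mul]; congr 1; omega,
      pow_add, ← mul_sub_one, norm_mul, norm_pow, hζn, one_pow, one_mul, pow_mul] at hlt'
    exact hlt'
  have hbJ : ∀ k : ℕ, ∀ i, ρ (x ^ k) (bb i) = μ i ^ k • bb i := by
    intro k i
    induction k with
    | zero => simp
    | succ k ih => rw [pow_succ', map_mul, Module.End.mul_apply, ih, map_smul, hbμ, smul_smul, ← pow_succ]
  exact close_false ρ hinj hna (x ^ J) hxJ bb (fun i => μ i ^ J) (hbJ J)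
    (fun i => by rw [norm_pow, hnorm, one_pow]) i₀ hclose

end Cfsg.Agent.S4484
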