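import Cfsg.Statements.S4485
import Cfsg.Agent.Lib.CharTIAbelianSylowMain

set_option autoImplicit false
open Cfsg
universe u

namespace Cfsg.Agent.S4485

open CharBasic CharBasicOrth CharBasicDecomp CharBasicLinear in
theorem normal_of_faithful (k : ℕ) : ∀ (G : Type u) [Group G] [Finite G], Nat.card G = k →
    ∀ (p : ℕ) [Fact p.Prime] (P : Sylow p G),
    (∀ x ∈ (P : Subgroup G), x ≠ 1 → Subgroup.centralizer ({x} : Set G) =
      Subgroup.centralizer ((P : Subgroup G) : Set G)) →
    ∀ (χ : G → ℂ), IsCharacter G χ → (∀ g : G, χ g = χ 1 → g = 1) →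
    ∀ x : ℕ, χ 1 = x → x ^ 2 + 1 < Nat.card P → (P : Subgroup G).Normal := by
  induction k using Nat.strong_induction_on with
  | _ k ih =>
    intro G _ _ hk p _ P hstar χ hχ hfaith x hx hdeg
    classical
    have := Fintype.ofFinite G
    obtain ⟨m, -, hsum⟩ := exists_mult hχ
    choose d hd0 hd using fun ψ : IrrCharacter G => isIrrCharacter_apply_one ψ.2
    by_cases hex : ∃ ψ : IrrCharacter G, m ψ ≠ 0 ∧ d ψ ≠ 1
    · obtain ⟨ψ, hm, hd1⟩ := hex
      have hne : (ψ : G → ℂ) ≠ fun _ => 1 := fun h => hd1 (by
        have h2 := hd ψ
        rw [h] at h2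
        simp only at h2
        exact_mod_cast h2.symm)
      have hle : d ψ ≤ x := by
        have h2 := congrFun hsum 1
        simp only [Finset.sum_apply, Pi.smul_apply, smul_eq_mul, hd, hx] at h2
        have h3 : x = ∑ φ, m φ * d φ := by exact_mod_cast h2
        rw [h3]
        exact (Nat.le_mul_of_pos_left _ (Nat.pos_of_ne_zero hm)).trans
          (Finset.single_le_sum (f := fun φ => m φ * d φ) (fun _ _ => Nat.zero_le _)
            (Finset.mem_univ ψ))
      rcases CharTIAbelianSylow.small_degree_irr P hstar ψ hne (hd ψ)
        (lt_of_le_of_lt (by gcongr) hdeg) with ⟨K, hKn, hKne, hPK⟩ | ⟨-, h1⟩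
      · have := hKn
        set Q : Sylow p K := P.subtype hPK
        have hQ : (Q : Subgroup K) = (P : Subgroup G).subgroupOf K := rfl
        have hcard : Nat.card K < k := hk ▸
          lt_of_le_of_ne (Subgroup.card_le_card_group K) (fun h =>
            hKne (Subgroup.eq_top_of_card_eq K h))
        have hQn : (Q : Subgroup K).Normal := by
          refine ih _ hcard K rfl p Q ?_ (fun y : K => χ y)
            (CharBasic.isCharacter_comap K.subtype hχ) (fun g hg => Subtype.ext (hfaith g hg))
            x hx ?_
          · intro y hy hy1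
            rw [hQ, Subgroup.mem_subgroupOf] at hy
            have h := hstar y hy (fun e => hy1 (Subtype.ext e))
            ext g
            have h2 := SetLike.ext_iff.1 h (g : G)
            rw [Subgroup.mem_centralizer_singleton_iff, Subgroup.mem_centralizer_iff] at h2
            rw [Subgroup.mem_centralizer_singleton_iff, Subgroup.mem_centralizer_iff]
            constructor
            · intro hg z hz
              exact Subtype.ext (h2.1 (congrArg Subtype.val hg) z
                (Subgroup.mem_subgroupOf.1 (hQ ▸ hz)))
            · intro hg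
              refine Subtype.ext (h2.2 fun z hz => ?_)
              exact congrArg Subtype.val (hg ⟨z, hPK hz⟩ (hQ.symm ▸ Subgroup.mem_subgroupOf.2 hz))
          · exact lt_of_lt_of_eq hdeg
              (Nat.card_congr (Subgroup.subgroupOfEquivOfLe hPK).toEquiv).symm
        have hchar : (Q : Subgroup K).Characteristic := Sylow.characteristic_of_normal Q hQn
        have hmap : ((Q : Subgroup K).map K.subtype).Normal :=
          ConjAct.normal_of_characteristic_of_normal
        rwa [hQ, Subgroup.map_subgroupOf_eq_of_le hPK] at hmap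
      · exact absurd h1 hd1
    · push Not at hex
      have hcomm : ∀ a b : G, a * b = b * a := by
        intro a b
        rw [← mul_inv_eq_one]
        refine hfaith _ ?_
        have e1 := congrFun hsum (a * b * (b * a)⁻¹)
        have e2 := congrFun hsum 1
        rw [e1, e2]
        simp only [Finset.sum_apply, Pi.smul_apply, smul_eq_mul]
        refine Finset.sum_congr rfl fun ψ _ => ?_
        by_cases hm : m ψ = 0
        · simp [hm]
        · have h1 : (ψ : G → ℂ) 1 = 1 := by rw [hd, hex ψ hm, Nat.cast_one]
          obtain ⟨lam, hlam⟩ :=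
            exists_hom_of_apply_one_eq_one (isCharacter_of_isIrrCharacter ψ.2) h1
          rw [hlam]
          simp only [map_mul, map_inv, map_one, mul_comm (lam b) (lam a), mul_inv_cancel]
      exact ⟨fun y hy g => by rwa [hcomm g y, mul_inv_cancel_right]⟩



/-- Let G be a finite group and p a prime dividing its order such that every non-identity element of a Sylow p-subgroup P has the same centralizer as P itself (so P is abelian); let p^n be the order of P. If G has a faithful character of degree x with x² < p^n − 1, then P is normal in G. -/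
theorem result {G : Type*} [Group G] [Finite G] (p : ℕ) (hp : p.Prime) (hpG : p ∣ Nat.card G) (P : Sylow p G) (hstar : ∀ x ∈ (P : Subgroup G), x ≠ 1 → Subgroup.centralizer ({x} : Set G) = Subgroup.centralizer ((P : Subgroup G) : Set G)) (n : ℕ) (hn : Nat.card P = p ^ n) (χ : G → ℂ) (hχ : Cfsg.IsCharacter G χ) (hfaith : ∀ g : G, χ g = χ 1 → g = 1) (hdeg : Cfsg.charDegree χ ^ 2 + 1 < p ^ n) : (P : Subgroup G).Normal := by
  have : Fact p.Prime := ⟨hp⟩
  obtain ⟨x, hx⟩ := CharBasic.isCharacter_apply_one hχ
  have hd : Cfsg.charDegree χ = x := by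
    rw [Cfsg.charDegree, hx]; simp
  rw [hd] at hdeg
  exact normal_of_faithful _ G rfl p P hstar χ hχ hfaith x hx (by rw [hn]; exact hdeg)

end Cfsg.Agent.S4485
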