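import Cfsg.Statements.S4487
import Cfsg.Agent.Lib.BlockNormalP81
import Cfsg.Agent.Lib.HallCore

set_option autoImplicit false
open Cfsg

namespace Cfsg.Agent.S4487

/-- Let G be a finite group and p a prime such that G has no non-trivial normal subgroup of order prime to p and C_G(O_p(G)) ≤ O_p(G). Then G has a single p-block: any two irreducible characters lie in the same block relative to every maximal ideal M of the algebraic integers containing p. -/
theorem result {G : Type*} [Group G] [Finite G] (p : ℕ) [Fact p.Prime] (M : Ideal Cfsg.AlgInt) (hM : Cfsg.IsPModular p M) (hcore : Cfsg.pPrimeCore p G = ⊥) (hconstr : Subgroup.centralizer ((Cfsg.pCore p G) : Set G) ≤ Cfsg.pCore p G) (χ ψ : Cfsg.IrrCharacter G) : Cfsg.SameBlock M (χ : G → ℂ) (ψ : G → ℂ) := by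
  haveI := Fintype.ofFinite G
  haveI := HallCore.pCore_normal p G
  have hP := HallCore.isPGroup_pCore p G
  suffices h : ∀ χ : Cfsg.IrrCharacter G, Cfsg.SameBlock M (χ : G → ℂ) (fun _ : G => (1 : ℂ)) from
    BlockTheoryIdem.sameBlock_trans hM (h χ) (BlockTheoryIdem.sameBlock_symm (h ψ))
  intro χ
  obtain ⟨η, hη, hker⟩ := BlockNormalP81.exists_trivial_on hM
    (BlockTheoryIdem.isPBlock_blockOf (M := M) χ) (Cfsg.pCore p G) hP
  refine BlockTheoryIdem.sameBlock_trans hM hη fun g => ?_
  by_cases hg : g ∈ Subgroup.centralizer ((Cfsg.pCore p G) : Set G)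
  · have e : Cfsg.centralChar (η : G → ℂ) g = Cfsg.centralChar (fun _ : G => (1 : ℂ)) g := by
      rw [BlockPrincipal81.centralChar_one, Cfsg.centralChar, hker g (hconstr hg),
        mul_div_assoc, div_self (CharBasic.isIrrCharacter_apply_one_ne_zero η.2), mul_one]
    rw [e, sub_self]
    exact BlockTheoryLocalRing.ideal_zero hM
  · exact BlockTheoryLocalRing.ideal_sub hM (BlockNormalP81.centralChar_ideal hM _ hP η hg)
      (BlockNormalP81.centralChar_ideal hM _ hP (BlockPrincipal81.oneChar G) hg)

end Cfsg.Agent.S4487
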