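import Mathlib
import Cfsg.Statements.S4489
import Cfsg.Agent.Lib.CharInducedMonomial
import Cfsg.Agent.Lib.CharKernel
import Cfsg.Agent.Lib.GaloisChar80

/-!
Order bound for a `p`-group with a faithful irreducible character of given degree and field of
values: induction along a chain of subgroups of index `p`, tracking the Galois stabiliser.
-/

set_option autoImplicit false

open scoped Classical
open Finset

namespace Cfsg.Agent.S4489

open Cfsg.Agent.CharInduced Cfsg.Agent.CharBasic Cfsg.Agent.CharBasicOrth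
open Cfsg.Agent.CharBasicDecomp Cfsg.Agent.CharBasicLinear

universe u

section Twist

variable {P : Type u} [Group P] {n : ℕ}

/-- Twist a function by a unit exponent. -/
def tw (v : (ZMod n)ˣ) (χ : P → ℂ) : P → ℂ := fun g => χ (g ^ (v : ZMod n).val)

theorem tw_one [Finite P] [NeZero n] (hn : Nat.card P ∣ n) (χ : P → ℂ) : tw (1 : (ZMod n)ˣ) χ = χ := by
  funext g
  show χ (g ^ ((1 : ZMod n)).val) = χ g
  congr 1
  rw [← pow_one g, ← pow_mul, one_mul, pow_one g, pow_eq_pow_mod _ (pow_eq_one_of_dvd hn g),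
    ← ZMod.val_natCast, ZMod.natCast_val, ZMod.cast_id]
  · conv_rhs => rw [← pow_one g, pow_eq_pow_mod 1 (pow_eq_one_of_dvd hn g)]
    rw [← ZMod.val_natCast, Nat.cast_one]
where
  pow_eq_one_of_dvd {P : Type u} [Group P] [Finite P] {n : ℕ} (hn : Nat.card P ∣ n) (g : P) :
      g ^ n = 1 :=
    orderOf_dvd_iff_pow_eq_one.1 ((orderOf_dvd_natCard g).trans hn)

theorem pow_val_eq [Finite P] [NeZero n] (hn : Nat.card P ∣ n) (g : P) (m : ℕ) :
    g ^ ((m : ZMod n)).val = g ^ m := by
  rw [ZMod.val_natCast, ← pow_eq_pow_mod m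
    (orderOf_dvd_iff_pow_eq_one.1 ((orderOf_dvd_natCard g).trans hn))]

theorem tw_tw [Finite P] [NeZero n] (hn : Nat.card P ∣ n) (a b : (ZMod n)ˣ) (χ : P → ℂ) :
    tw a (tw b χ) = tw (a * b) χ := by
  funext g
  show χ ((g ^ _) ^ _) = χ (g ^ _)
  rw [← pow_mul, ← pow_val_eq hn g (_ * _)]
  congr 2
  simp

/-- The stabiliser of a function under the twists. -/
def stab [Finite P] [NeZero n] (hn : Nat.card P ∣ n) (χ : P → ℂ) : Subgroup (ZMod n)ˣ where
  carrier := {v | tw v χ = χ}
  one_mem' := tw_one hn χ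
  mul_mem' := fun {a b} (ha : tw a χ = χ) (hb : tw b χ = χ) => by
    show tw (a * b) χ = χ
    rw [← tw_tw hn, hb, ha]
  inv_mem' := fun {a} (ha : tw a χ = χ) => by
    show tw a⁻¹ χ = χ
    conv_lhs => rw [← ha]
    rw [tw_tw hn, inv_mul_cancel, tw_one hn]

theorem tw_eq_iff [Finite P] [NeZero n] (hn : Nat.card P ∣ n) (a b : (ZMod n)ˣ) (χ : P → ℂ) :
    tw a χ = tw b χ ↔ a⁻¹ * b ∈ stab hn χ := by
  constructor
  · intro h
    show tw _ χ = χ
    rw [← tw_tw hn, ← h, tw_tw hn, inv_mul_cancel, tw_one hn]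
  · intro h
    conv_lhs => rw [← (show tw _ χ = χ from h)]
    rw [tw_tw hn, mul_inv_cancel_left]

/-- The number of twists is the index of the stabiliser. -/
theorem card_range_tw [Finite P] [NeZero n] (hn : Nat.card P ∣ n) (χ : P → ℂ) :
    Nat.card (Set.range fun v : (ZMod n)ˣ => tw v χ) = (stab hn χ).index := by
  rw [Subgroup.index]
  symm
  refine Nat.card_eq_of_bijective (Quotient.lift (fun v => (⟨tw v χ, v, rfl⟩ :
    Set.range fun v : (ZMod n)ˣ => tw v χ)) fun a b h => ?_) ⟨?_, ?_⟩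
  · exact Subtype.ext ((tw_eq_iff hn a b χ).2 (QuotientGroup.leftRel_apply.1 h))
  · intro x y
    induction x using Quotient.inductionOn
    induction y using Quotient.inductionOn
    intro h
    exact Quotient.sound (QuotientGroup.leftRel_apply.2
      ((tw_eq_iff hn _ _ χ).1 (congrArg Subtype.val h)))
  · rintro ⟨_, v, rfl⟩
    exact ⟨Quotient.mk'' v, rfl⟩

theorem val_coprime [Finite P] (hn : Nat.card P ∣ n) (v : (ZMod n)ˣ) :
    (v : ZMod n).val.Coprime (Nat.card P) :=
  Nat.Coprime.of_dvd_right hn (ZMod.val_coe_unit_coprime v)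

theorem isIrr_tw [Finite P] (hn : Nat.card P ∣ n) (v : (ZMod n)ˣ) {χ : P → ℂ}
    (hχ : Cfsg.IsIrrCharacter P χ) : Cfsg.IsIrrCharacter P (tw v χ) :=
  GaloisChar80.isIrrCharacter_pow (val_coprime hn v) hχ

theorem tw_indFun [Fintype P] (hn : Nat.card P ∣ n) (v : (ZMod n)ˣ) (H : Subgroup P)
    (θ : H → ℂ) : tw v (Cfsg.indFun H θ) = Cfsg.indFun H (tw v θ) := by
  funext g
  rw [tw, indFun_apply, indFun_apply]
  congr 1
  refine Finset.sum_congr rfl fun x _ => ?_
  have h1 : x⁻¹ * g ^ (v : ZMod n).val * x = (x⁻¹ * g * x) ^ (v : ZMod n).val := by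
    have := conj_pow (a := x⁻¹) (b := g) (i := (v : ZMod n).val)
    simpa using this.symm
  rw [h1]
  by_cases h : x⁻¹ * g * x ∈ H
  · rw [ext_zero_of_mem _ h, ext_zero_of_mem _ (pow_mem h _)]
    rfl
  · rw [ext_zero_of_not_mem _ h, ext_zero_of_not_mem]
    intro h'
    apply h
    obtain ⟨j, hj⟩ := exists_pow_eq_self_of_coprime
      (Nat.Coprime.of_dvd_right (orderOf_dvd_natCard (x⁻¹ * g * x)) (val_coprime hn v))
    rw [← hj]
    exact pow_mem h' _

end Twist

/-- The twist stabiliser index of a nontrivial irreducible character of a `p`-group. -/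
theorem index_stab_form {p A : ℕ} [hp : Fact p.Prime] {P : Type u} [Group P] [Finite P]
    [NeZero (p ^ A)] (hn : Nat.card P ∣ p ^ A) {χ : P → ℂ} (hχ : Cfsg.IsIrrCharacter P χ)
    (hne : ∃ g, χ g ≠ χ 1) : ∃ s, (stab hn χ).index = (p - 1) * p ^ s := by
  have hPG : IsPGroup p P := by
    obtain ⟨i, -, hi⟩ := (Nat.dvd_prime_pow hp.out).1 hn
    exact IsPGroup.of_card hi
  have hirr := hχ
  obtain ⟨m, ρ, hρ, rfl⟩ := hχ
  set K := charKer ρ.character (isCharacter_of_rep ρ) with hK
  have := charKer_normal ρ.character (isCharacter_of_rep ρ)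
  rw [← hK] at this
  obtain ⟨ψ, hψ⟩ := CharKernel.exists_quot_irr K ⟨_, hirr⟩ (fun g hg => hg)
  obtain ⟨g, hg⟩ := hne
  haveI : Nontrivial (P ⧸ K) := ⟨(g : P ⧸ K), 1, fun h => hg ((QuotientGroup.eq_one_iff g).1 h)⟩
  haveI := (hPG.to_quotient K).center_nontrivial
  obtain ⟨k, hk⟩ := IsPGroup.iff_card.1 ((hPG.to_quotient K).to_subgroup (Subgroup.center (P ⧸ K)))
  have hk0 : k ≠ 0 := by
    rintro rfl
    rw [pow_zero] at hk
    exact absurd hk (Finite.one_lt_card (α := Subgroup.center (P ⧸ K))).ne'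
  obtain ⟨z, hz⟩ := exists_prime_orderOf_dvd_card' (G := Subgroup.center (P ⧸ K)) p
    (hk ▸ dvd_pow_self p hk0)
  obtain ⟨d, σ, hσ, hψσ⟩ := ψ.2
  obtain ⟨ω, hω⟩ := exists_scalar_of_mem_center σ z.2
  have hd : 0 < Module.finrank ℂ (Fin d → ℂ) := finrank_pos_of_irreducible σ
  have hσp : ∀ i : ℕ, σ ((z : P ⧸ K) ^ i) = ω ^ i • LinearMap.id := by
    intro i
    rw [map_pow, hω]
    show (ω • (1 : Module.End ℂ (Fin d → ℂ))) ^ i = ω ^ i • (1 : Module.End ℂ (Fin d → ℂ))
    rw [smul_pow, one_pow]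
  have hval : ∀ i : ℕ, (ψ : P ⧸ K → ℂ) ((z : P ⧸ K) ^ i) =
      ω ^ i * (Module.finrank ℂ (Fin d → ℂ) : ℂ) := by
    intro i
    rw [← hψσ, Representation.character, hσp, map_smul, LinearMap.trace_id, smul_eq_mul]
  have hdC : (Module.finrank ℂ (Fin d → ℂ) : ℂ) ≠ 0 := Nat.cast_ne_zero.2 hd.ne'
  have hzpow : (z : P ⧸ K) ^ p = 1 := by
    rw [← SubgroupClass.coe_pow, ← hz, pow_orderOf_eq_one, OneMemClass.coe_one]
  have hωp : ω ^ p = 1 := by
    have h1 := hval p
    have h2 := hval 0
    rw [hzpow] at h1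
    rw [pow_zero, pow_zero, h1] at h2
    exact mul_right_cancel₀ hdC h2
  obtain ⟨y, hy⟩ := QuotientGroup.mk_surjective (z : P ⧸ K)
  have hω1 : ω ≠ 1 := by
    intro h
    have h3 : ρ.character y = ρ.character 1 := by
      have e1 := hψ y
      have e2 := hψ 1
      simp only at e1 e2
      rw [e1, e2, hy, QuotientGroup.mk_one]
      have a := hval 1
      have b := hval 0
      rw [pow_one] at a
      rw [pow_zero] at b
      rw [a, b, h]
      simp
    have : (z : P ⧸ K) = 1 := by
      rw [← hy]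
      exact (QuotientGroup.eq_one_iff y).2 h3
    rw [show z = 1 from Subtype.ext this, orderOf_one] at hz
    exact hp.out.one_lt.ne hz
  have hord : orderOf ω = p := orderOf_eq_prime hωp hω1
  have hA : A ≠ 0 := by
    rintro rfl
    rw [pow_zero, Nat.dvd_one] at hn
    haveI : Subsingleton P := (Nat.card_eq_one_iff_unique.1 hn).1
    exact hg (congrArg _ (Subsingleton.elim g 1))
  have hdvd : p ∣ p ^ A := dvd_pow_self p hA
  have hle : stab hn ρ.character ≤ (ZMod.unitsMap hdvd).ker := by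
    intro v hv
    have h1 : ρ.character (y ^ (v : ZMod (p ^ A)).val) = ρ.character y := congrFun hv y
    have e1 := hψ y
    have e2 := hψ (y ^ (v : ZMod (p ^ A)).val)
    simp only at e1 e2
    rw [e1, e2, QuotientGroup.mk_pow, hy, hval] at h1
    rw [← pow_one (z : P ⧸ K), hval] at h1
    have h3 := mul_right_cancel₀ hdC h1
    rw [pow_one] at h3
    nth_rewrite 2 [← pow_one ω] at h3
    rw [((orderOf_pos_iff).1 (hord.symm ▸ hp.out.pos)).pow_eq_pow_iff_modEq, hord, Nat.ModEq,
      Nat.mod_eq_of_lt hp.out.one_lt] at h3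
    rw [MonoidHom.mem_ker]
    refine Units.ext ?_
    rw [ZMod.unitsMap_val, Units.val_one, ← ZMod.natCast_val]
    have : ((1 : ℕ) : ZMod p) = ((v : ZMod (p ^ A)).val : ZMod p) := by
      rw [ZMod.natCast_eq_natCast_iff', h3, Nat.mod_eq_of_lt hp.out.one_lt]
    simpa using this.symm
  have hker : (ZMod.unitsMap hdvd).ker.index = p - 1 := by
    rw [Subgroup.index_ker, MonoidHom.range_eq_top.2 (ZMod.unitsMap_surjective hdvd),
      Subgroup.card_top, Nat.card_eq_fintype_card, ZMod.card_units]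
  obtain ⟨r, hr⟩ := Subgroup.index_dvd_of_le hle
  have h4 : (stab hn ρ.character).index ∣ (p - 1) * p ^ (A - 1) := by
    have := Subgroup.index_dvd_card (stab hn ρ.character)
    rwa [Nat.card_eq_fintype_card, ZMod.card_units_eq_totient,
      Nat.totient_prime_pow hp.out (Nat.pos_of_ne_zero hA), mul_comm] at this
  rw [hker] at hr
  rw [hr] at h4
  obtain ⟨s, -, hs⟩ := (Nat.dvd_prime_pow hp.out).1
    ((Nat.mul_dvd_mul_iff_left (by have := hp.out.two_le; omega)).1 h4)
  exact ⟨s, by rw [hr, hs]⟩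

/-- The linear case. -/
theorem bound_linear {p A : ℕ} [hp : Fact p.Prime] {P : Type u} [Group P] [Finite P]
    [NeZero (p ^ A)] (hn : Nat.card P ∣ p ^ A) (lam : P →* ℂˣ) {s a : ℕ}
    (hs : (stab hn (fun g => (lam g : ℂ))).index = (p - 1) * p ^ s)
    (ha : (lam.ker).index = p ^ a) : a ≤ s + 1 := by
  rcases Nat.eq_zero_or_pos a with rfl | hapos
  · exact Nat.zero_le _
  haveI : Finite lam.range := Finite.of_surjective _ lam.rangeRestrict_surjective
  haveI : IsCyclic lam.range := isCyclic_of_subgroup_isDomain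
    ((Units.coeHom ℂ).comp lam.range.subtype) (Units.val_injective.comp Subtype.val_injective)
  obtain ⟨w, hw⟩ := IsCyclic.exists_ofOrder_eq_natCard (α := lam.range)
  obtain ⟨g, hg⟩ := w.2
  rw [← Subgroup.orderOf_coe, ← hg, ← Subgroup.index_ker, ha] at hw
  have hdvd : p ^ a ∣ p ^ A := by
    rw [← ha]
    exact (Subgroup.index_dvd_card _).trans hn
  have hle : stab hn (fun g => (lam g : ℂ)) ≤ (ZMod.unitsMap hdvd).ker := by
    intro v hv
    have h1 : lam (g ^ (v : ZMod (p ^ A)).val) = lam g := Units.ext (congrFun hv g)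
    rw [map_pow] at h1
    nth_rewrite 2 [← pow_one (lam g)] at h1
    rw [pow_inj_mod, hw] at h1
    rw [MonoidHom.mem_ker]
    refine Units.ext ?_
    rw [ZMod.unitsMap_val, Units.val_one, ← ZMod.natCast_val]
    have : (((v : ZMod (p ^ A)).val : ℕ) : ZMod (p ^ a)) = ((1 : ℕ) : ZMod (p ^ a)) := by
      rw [ZMod.natCast_eq_natCast_iff', h1]
    simpa using this
  have h2 := Nat.le_of_dvd (Nat.pos_of_ne_zero Subgroup.index_ne_zero_of_finite)
    (Subgroup.index_dvd_of_le hle)
  rw [Subgroup.index_ker, MonoidHom.range_eq_top.2 (ZMod.unitsMap_surjective hdvd),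
    Subgroup.card_top, Nat.card_eq_fintype_card, ZMod.card_units_eq_totient,
    Nat.totient_prime_pow hp.out hapos, hs, mul_comm (p ^ (a - 1))] at h2
  have h3 := (Nat.pow_le_pow_iff_right hp.out.one_lt).1
    (Nat.le_of_mul_le_mul_left h2 (by have := hp.out.two_le; omega))
  omega

/-- An irreducible character of degree above one is induced from a subgroup of index `p`. -/
theorem exists_ind_index_p {p : ℕ} [hp : Fact p.Prime] {P : Type u} [Group P] [Fintype P]
    (hP : IsPGroup p P) {χ : P → ℂ} (hχ : Cfsg.IsIrrCharacter P χ) (h1 : χ 1 ≠ 1) :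
    ∃ N : Subgroup P, N.Normal ∧ N.index = p ∧ ∃ θ : N → ℂ,
      Cfsg.IsIrrCharacter N θ ∧ χ = Cfsg.indFun N θ := by
  haveI := hP.isNilpotent
  obtain ⟨H, lam, hH⟩ := exists_monomial hχ
  obtain ⟨a, ha⟩ := IsPGroup.iff_card.1 hP
  obtain ⟨b, hb⟩ := IsPGroup.iff_card.1 (hP.to_subgroup H)
  have hba : b < a := by
    by_contra hba
    apply h1
    have htop : H = ⊤ := by
      apply Subgroup.eq_top_of_le_card
      rw [ha, hb]
      exact Nat.pow_le_pow_right hp.out.pos (by omega)
    rw [hH, ind_one_apply, Subgroup.index_eq_one.2 htop]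
    simp
  obtain ⟨N, hNcard, hHN⟩ := Sylow.exists_subgroup_card_pow_prime_le p (G := P) (m := a - 1)
    (by rw [ha]; exact pow_dvd_pow p (by omega)) H hb (by omega)
  have hidx : N.index = p := by
    have h := N.card_mul_index
    rw [hNcard, ha] at h
    have : p ^ a = p ^ (a - 1) * p := by rw [← pow_succ]; congr 1; omega
    rw [this] at h
    exact mul_left_cancel₀ (pow_ne_zero _ hp.out.ne_zero) h
  have hN : N.Normal := Subgroup.normal_of_index_eq_minFac_card <| by
    rw [ha, Nat.pow_minFac (by omega), hp.out.minFac_eq, hidx]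
  refine ⟨N, hN, hidx, ?_⟩
  have hlc : Cfsg.IsCharacter (H.subgroupOf N) (toSubgroupOf fun h : H => (lam h : ℂ)) :=
    isCharacter_comap (G := H) (Subgroup.subgroupOfEquivOfLe hHN).toMonoidHom
      (isCharacter_linear lam)
  set θ : N → ℂ := Cfsg.indFun (H.subgroupOf N) (toSubgroupOf fun h : H => (lam h : ℂ)) with hθ
  have hθc : Cfsg.IsCharacter N θ := isCharacter_ind _ hlc
  have hind : χ = Cfsg.indFun N θ := by rw [hH, hθ, ind_trans hHN]
  refine ⟨θ, ?_, hind⟩
  obtain ⟨k, hk⟩ := classInner_isCharacter hθc hθc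
  rw [isIrrCharacter_iff]
  refine ⟨hθc, ?_⟩
  have hθ0 : θ ≠ 0 := by
    intro h
    apply isIrrCharacter_apply_one_ne_zero hχ
    rw [hind, h, ind_one_apply]
    simp
  have hk0 : k ≠ 0 := fun h => hθ0 (eq_zero_of_classInner_self (by rw [hk, h, Nat.cast_zero]))
  have hone := classInner_irr_self hχ
  rw [hind, inner_ind_ind_normal] at hone
  choose c hc using fun x : P => classInner_isCharacter (isCharacter_conjFun N hθc x) hθc
  have hNC : (Nat.card N : ℂ) ≠ 0 := Nat.cast_ne_zero.2 Nat.card_pos.ne'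
  simp only [hc] at hone
  rw [inv_mul_eq_one₀ hNC, ← Nat.cast_sum, Nat.cast_inj] at hone
  have hcN : ∀ x : P, x ∈ N → c x = k := by
    intro x hx
    have h := hc x
    rw [conjFun_mem_eq N (isClassFunction_of_isCharacter hθc) hx, hk, Nat.cast_inj] at h
    exact h.symm
  have hle : Nat.card N * k ≤ ∑ x, c x := by
    calc Nat.card N * k = ∑ x ∈ Finset.univ.filter (fun x => x ∈ N), c x := by
          rw [Finset.sum_congr rfl fun x hx => hcN x (Finset.mem_filter.1 hx).2, Finset.sum_const,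
            smul_eq_mul, Nat.card_eq_fintype_card, Fintype.card_subtype]
      _ ≤ _ := Finset.sum_le_sum_of_subset (Finset.filter_subset _ _)
  rw [← hone] at hle
  have : k ≤ 1 := Nat.le_of_mul_le_mul_left (by rwa [mul_one]) Nat.card_pos
  rw [hk, show k = 1 by omega, Nat.cast_one]

/-- The order bound, in terms of the twist stabiliser. -/
theorem bound {p A : ℕ} [hp : Fact p.Prime] [NeZero (p ^ A)] :
    ∀ (N0 : ℕ) {P : Type u} [Group P] [Fintype P] (_ : Nat.card P = N0)
      (hn : Nat.card P ∣ p ^ A) {χ : P → ℂ} (hχ : Cfsg.IsIrrCharacter P χ) {f s a : ℕ},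
      χ 1 = f → (stab hn χ).index = (p - 1) * p ^ s →
      (charKer χ (isCharacter_of_isIrrCharacter hχ)).index = p ^ a →
      (p - 1) * a ≤ (f - 1) + (p - 1) * (s + 1) * f := by
  intro N0
  induction N0 using Nat.strong_induction_on with
  | _ N0 ih =>
    intro P _ _ hN0 hn χ hχ f s a hf hs ha
    have hp2 := hp.out.two_le
    by_cases h1 : χ 1 = 1
    · obtain ⟨lam, rfl⟩ := exists_hom_of_apply_one_eq_one (isCharacter_of_isIrrCharacter hχ) h1
      have hf1 : f = 1 := by exact_mod_cast (hf ▸ h1 : (f : ℂ) = 1)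
      have hker : charKer (fun g => (lam g : ℂ)) (isCharacter_of_isIrrCharacter hχ) = lam.ker := by
        ext g
        show (lam g : ℂ) = (lam 1 : ℂ) ↔ _
        rw [MonoidHom.mem_ker, map_one, Units.val_one, Units.val_eq_one]
      rw [hker] at ha
      have := bound_linear hn lam hs ha
      subst hf1
      simpa using Nat.mul_le_mul_left (p - 1) this
    obtain ⟨i, -, hi⟩ := (Nat.dvd_prime_pow hp.out).1 hn
    have hP : IsPGroup p P := IsPGroup.of_card hi
    obtain ⟨N, hN, hidx, θ, hθ, hind⟩ := exists_ind_index_p hP hχ h1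
    have hnN : Nat.card N ∣ p ^ A := N.card_subgroup_dvd_card.trans hn
    have hNlt : Nat.card N < N0 := by
      rw [← hN0, ← N.card_mul_index, hidx]
      exact lt_mul_of_one_lt_right Nat.card_pos hp.out.one_lt
    have hNC : (Nat.card N : ℂ) ≠ 0 := Nat.cast_ne_zero.2 Nat.card_pos.ne'
    have hin : Nat.card (inertia N θ) = Nat.card N := by
      have h := classInner_irr_self hχ
      rw [hind, classInner_ind_self N hθ, div_eq_one_iff_eq hNC, Nat.cast_inj] at h
      exact h
    have horb : (orbitFin N θ).card = p := by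
      have h := card_inertia_mul_card_orbit N θ
      rw [hin, ← N.card_mul_index, hidx] at h
      exact mul_left_cancel₀ Nat.card_pos.ne' h
    obtain ⟨g0, hg0, hg01⟩ := isIrrCharacter_apply_one hθ
    have hfg : f = p * g0 := by
      rw [hind, ind_one_apply, hidx, hg01] at hf
      exact_mod_cast hf.symm
    have hne : ∃ x, θ x ≠ θ 1 := by
      by_contra hall
      push Not at hall
      have hfix : inertia N θ = ⊤ := eq_top_iff.2 fun x _ => (mem_inertia N).2 (funext fun m =>
        show θ _ = θ m by rw [hall _, hall m])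
      rw [hfix, Subgroup.card_top, ← N.card_mul_index, hidx] at hin
      exact absurd hin (lt_mul_of_one_lt_right Nat.card_pos hp.out.one_lt).ne'
    obtain ⟨s', hs'⟩ := index_stab_form hnN hθ hne
    obtain ⟨b, -, hb⟩ := (Nat.dvd_prime_pow hp.out).1
      ((Subgroup.index_dvd_card (charKer θ (isCharacter_of_isIrrCharacter hθ))).trans hnN)
    have hIH := ih _ hNlt rfl hnN hθ hg01 hs' hb
    -- the stabilisers
    have hsle : stab hnN θ ≤ stab hn χ := fun v (hv : tw v θ = θ) => by
      show tw v χ = χ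
      rw [hind, tw_indFun hn v N θ, hv]
    have horb' : ∀ v ∈ stab hn χ, tw v θ ∈ orbitFin N θ := by
      intro v (hv : tw v χ = χ)
      refine (ind_eq_iff_mem_orbit N hθ (isIrr_tw hnN v hθ)).1 ?_
      rw [← tw_indFun hn v N θ, ← hind, hv]
    set T : Finset (N → ℂ) := (Finset.univ.filter (· ∈ stab hn χ)).image (fun v => tw v θ) with hT
    have hTsub : T ⊆ orbitFin N θ := by
      intro φ hφ
      obtain ⟨v, hv, rfl⟩ := Finset.mem_image.1 hφ
      exact horb' v (Finset.mem_filter.1 hv).2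
    have hTcard : T.card = (stab hnN θ).relIndex (stab hn χ) := by
      rw [Subgroup.relIndex, Subgroup.index, eq_comm, ← Fintype.card_coe,
        ← Nat.card_eq_fintype_card]
      refine Nat.card_eq_of_bijective (Quotient.lift (fun v : stab hn χ => (⟨tw v.1 θ,
        Finset.mem_image.2 ⟨v.1, Finset.mem_filter.2 ⟨Finset.mem_univ _, v.2⟩, rfl⟩⟩ : T))
        fun a b h => ?_) ⟨?_, ?_⟩
      · exact Subtype.ext ((tw_eq_iff hnN _ _ θ).2
          (Subgroup.mem_subgroupOf.1 (QuotientGroup.leftRel_apply.1 h)))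
      · intro x y
        induction x using Quotient.inductionOn
        induction y using Quotient.inductionOn
        intro h
        exact Quotient.sound (QuotientGroup.leftRel_apply.2
          (Subgroup.mem_subgroupOf.2 ((tw_eq_iff hnN _ _ θ).1 (congrArg Subtype.val h))))
      · rintro ⟨φ, hφ⟩
        obtain ⟨v, hv, rfl⟩ := Finset.mem_image.1 hφ
        exact ⟨Quotient.mk'' ⟨v, (Finset.mem_filter.1 hv).2⟩, rfl⟩
    have hrel := Subgroup.relIndex_mul_index hsle
    rw [hs, hs', ← mul_assoc, mul_comm _ (p - 1), mul_assoc] at hrel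
    have hrel' : T.card * p ^ s = p ^ s' := by
      rw [hTcard]
      exact mul_left_cancel₀ (by omega : p - 1 ≠ 0) hrel
    have hTle : T.card ≤ p := horb ▸ Finset.card_le_card hTsub
    -- kernels
    have hKsub : ∀ m : N, (∀ ψ ∈ orbitFin N θ, ψ m = ψ 1) →
        (m : P) ∈ charKer χ (isCharacter_of_isIrrCharacter hχ) := by
      intro m hm
      show χ (m : P) = χ 1
      rw [hind, ← OneMemClass.coe_one N, ind_normal_coe, ind_normal_coe]
      congr 1
      exact Finset.sum_congr rfl fun x _ => hm _ ((mem_orbitFin N).2 ⟨x, rfl⟩)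
    have hKidx : ∀ M : Subgroup N, (∀ m ∈ M, ∀ ψ ∈ orbitFin N θ, ψ m = ψ 1) →
        ∀ c, M.index ≤ p ^ c → a ≤ c + 1 := by
      intro M hM c hc
      have hle : M.map N.subtype ≤ charKer χ (isCharacter_of_isIrrCharacter hχ) := by
        rintro _ ⟨m, hm, rfl⟩
        exact hKsub m (hM m hm)
      have h2 : p ^ a ≤ p ^ (c + 1) := by
        rw [← ha, pow_succ]
        refine (Nat.le_of_dvd (Nat.pos_of_ne_zero Subgroup.index_ne_zero_of_finite)
          (Subgroup.index_dvd_of_le hle)).trans ?_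
        rw [Subgroup.index_map_subtype, hidx]
        exact Nat.mul_le_mul_right p hc
      exact (Nat.pow_le_pow_iff_right hp.out.one_lt).1 h2
    rcases (show s' = s ∨ s' = s + 1 by
      have hTpos : s ≤ s' := by
        by_contra hlt
        have : p ^ s' < p ^ s := Nat.pow_lt_pow_right hp.out.one_lt (by omega)
        have h0 : T.card ≠ 0 := by
          intro h0; rw [h0, zero_mul] at hrel'
          exact pow_ne_zero _ hp.out.ne_zero hrel'.symm
        have := Nat.le_mul_of_pos_left (p ^ s) (Nat.pos_of_ne_zero h0)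
        omega
      have : p ^ s' ≤ p ^ (s + 1) := by
        rw [← hrel', pow_succ, mul_comm (p ^ s)]
        exact Nat.mul_le_mul_right _ hTle
      have := (Nat.pow_le_pow_iff_right hp.out.one_lt).1 this
      omega) with rfl | rfl
    · -- the field does not grow
      have hc : ∀ ψ : {ψ // ψ ∈ orbitFin N θ}, ∃ K : Subgroup N,
          (∀ m ∈ K, ψ.1 m = ψ.1 1) ∧ K.index = p ^ b := by
        rintro ⟨ψ, hψ⟩
        obtain ⟨x, rfl⟩ := (mem_orbitFin N).1 hψ
        refine ⟨(charKer θ (isCharacter_of_isIrrCharacter hθ)).comap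
          (MulAut.conjNormal x : MulAut N).toMonoidHom, fun m hm => ?_, ?_⟩
        · show conjFun N θ x m = conjFun N θ x 1
          rw [conjFun_eq_comp]
          simp only [Function.comp_apply, map_one]
          exact hm
        · exact (Subgroup.index_comap_of_surjective (f := (MulAut.conjNormal x : MulAut N).toMonoidHom)
            _ (MulAut.conjNormal x : MulAut N).surjective).trans hb
      choose K hK1 hK2 using hc
      have hM : (⨅ ψ, K ψ).index ≤ p ^ (p * b) := by
        refine (Subgroup.index_iInf_le K).trans (le_of_eq ?_)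
        rw [Finset.prod_congr rfl fun ψ _ => hK2 ψ, Finset.prod_const, Finset.card_univ,
          Fintype.card_coe, horb, ← pow_mul, mul_comm]
      have hab := hKidx _ (fun m hm ψ hψ => hK1 ⟨ψ, hψ⟩ m (Subgroup.mem_iInf.1 hm _)) _ hM
      subst hfg
      obtain ⟨g, rfl⟩ : ∃ g, g0 = g + 1 := ⟨g0 - 1, by omega⟩
      obtain ⟨q, rfl⟩ : ∃ q, p = q + 2 := ⟨p - 2, by omega⟩
      have h3 : (q + 2) * (g + 1) - 1 = (q + 2) * g + (q + 1) := by
        rw [Nat.mul_succ]; omega
      rw [h3]
      simp only [Nat.add_sub_cancel, show q + 2 - 1 = q + 1 from rfl] at hIH ⊢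
      nlinarith [Nat.mul_le_mul_left (q + 1) hab, Nat.mul_le_mul_left (q + 2) hIH]
    · -- the Galois orbit is the whole orbit
      have hTeq : T = orbitFin N θ := by
        refine Finset.eq_of_subset_of_card_le hTsub ?_
        rw [horb]
        have : T.card * p ^ s = p * p ^ s := by rw [hrel', pow_succ, mul_comm]
        exact (mul_right_cancel₀ (pow_ne_zero _ hp.out.ne_zero) this).ge
      have hall : ∀ m ∈ charKer θ (isCharacter_of_isIrrCharacter hθ),
          ∀ ψ ∈ orbitFin N θ, ψ m = ψ 1 := by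
        intro m hm ψ hψ
        rw [← hTeq] at hψ
        obtain ⟨v, -, rfl⟩ := Finset.mem_image.1 hψ
        show θ (m ^ _) = θ (1 ^ _)
        rw [one_pow]
        exact Subgroup.pow_mem _ hm _
      have hab := hKidx _ hall b hb.le
      subst hfg
      obtain ⟨g, rfl⟩ : ∃ g, g0 = g + 1 := ⟨g0 - 1, by omega⟩
      obtain ⟨q, rfl⟩ : ∃ q, p = q + 2 := ⟨p - 2, by omega⟩
      have h3 : (q + 2) * (g + 1) - 1 = (q + 2) * g + (q + 1) := by
        rw [Nat.mul_succ]; omega
      rw [h3]
      simp only [Nat.add_sub_cancel, show q + 2 - 1 = q + 1 from rfl] at hIH ⊢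
      nlinarith [Nat.mul_le_mul_left (q + 1) hab, hIH, Nat.zero_le (s * g * q * q),
        Nat.zero_le (s * g * q), Nat.zero_le (s * q), Nat.zero_le (g * q), Nat.zero_le (s * g)]

/-- The degree of the field of values is the number of twists. -/
theorem finrank_values {p A : ℕ} [Fact p.Prime] {P : Type u} [Group P] [Finite P]
    [NeZero (p ^ A)] (hn : Nat.card P ∣ p ^ A) {χ : P → ℂ} (hχ : Cfsg.IsCharacter P χ) :
    Module.finrank ℚ (IntermediateField.adjoin ℚ (Set.range χ)) = (stab hn χ).index := by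
  rw [← card_range_tw hn χ]
  set n := p ^ A
  set ζ : ℂ := Complex.exp (2 * Real.pi * Complex.I / n) with hζdef
  have hζ : IsPrimitiveRoot ζ n := Complex.isPrimitiveRoot_exp n (NeZero.ne n)
  set L := IntermediateField.adjoin ℚ ({ζ} : Set ℂ) with hL
  have hζint : IsIntegral ℚ ζ :=
    (hζ.isIntegral (Nat.pos_of_ne_zero (NeZero.ne n))).tower_top
  haveI : FiniteDimensional ℚ L := IntermediateField.adjoin.finiteDimensional hζint
  set F := IntermediateField.adjoin ℚ (Set.range χ) with hF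
  obtain ⟨m, ρ, rfl⟩ := hχ
  -- eigenvalue description
  have heig : ∀ g : P, ∃ e : Fin (Module.finrank ℂ (Fin m → ℂ)) → ℕ,
      ∀ k, ρ.character (g ^ k) = ∑ i, (ζ ^ e i) ^ k := by
    intro g
    obtain ⟨b, μ, -, hμ, -, hpow⟩ := exists_rep_eigenbasis ρ g
    have h1 : ∀ i, ∃ j, ζ ^ j = μ i := by
      intro i
      obtain ⟨r, hr⟩ := (orderOf_dvd_natCard g).trans hn
      obtain ⟨j, -, hj⟩ := hζ.eq_pow_of_pow_eq_one (ξ := μ i)
        (by rw [hr, pow_mul, hμ, one_pow])
      exact ⟨j, hj⟩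
    choose e he using h1
    exact ⟨e, fun k => by rw [hpow k]; simp [he]⟩
  choose e he using heig
  have he1 : ∀ g, ρ.character g = ∑ i, ζ ^ e g i := fun g => by simpa using he g 1
  have hFL : F ≤ L := by
    rw [hF, IntermediateField.adjoin_le_iff]
    rintro _ ⟨g, rfl⟩
    rw [SetLike.mem_coe, he1]
    exact L.toSubfield.sum_mem fun i _ => pow_mem (IntermediateField.mem_adjoin_simple_self ℚ ζ) _
  haveI : FiniteDimensional ℚ F :=
    Module.Finite.of_injective (IntermediateField.inclusion hFL).toLinearMap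
      (IntermediateField.inclusion hFL).injective
  rw [← AlgHom.card ℚ F ℂ, ← Nat.card_eq_fintype_card]
  have hmem : ∀ g, ρ.character g ∈ F := fun g => IntermediateField.subset_adjoin ℚ _ ⟨g, rfl⟩
  refine Nat.card_eq_of_bijective (fun f => ⟨fun g => f ⟨_, hmem g⟩, ?_⟩) ⟨?_, ?_⟩
  · obtain ⟨ψ, hψ⟩ := IntermediateField.exists_algHom_adjoin_of_splits (K := ℂ) (S := ({ζ} : Set ℂ))
      (fun x hx => ⟨(Set.mem_singleton_iff.1 hx) ▸ hζint, IsAlgClosed.splits _⟩) f hFL
    let z : L := ⟨ζ, IntermediateField.mem_adjoin_simple_self ℚ ζ⟩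
    have hz : IsPrimitiveRoot z n := IsPrimitiveRoot.of_map_of_injective (f := L.val)
      hζ L.val.injective
    have hzψ : IsPrimitiveRoot (ψ z) n := hz.map_of_injective ψ.toRingHom.injective
    obtain ⟨k, hk, hkcop, hkz⟩ := hζ.isPrimitiveRoot_iff.1 hzψ
    refine ⟨ZMod.unitOfCoprime k hkcop, funext fun g => ?_⟩
    show ρ.character (g ^ _) = f ⟨_, hmem g⟩
    rw [ZMod.coe_unitOfCoprime, pow_val_eq hn, he]
    have h1 : (IntermediateField.inclusion hFL ⟨_, hmem g⟩ : L) = ∑ i, z ^ e g i := by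
      apply Subtype.ext
      simp [z, he1, IntermediateField.inclusion]
      rfl
    have h2 : ψ (IntermediateField.inclusion hFL ⟨_, hmem g⟩) = f ⟨_, hmem g⟩ :=
      DFunLike.congr_fun hψ _
    rw [← h2, h1, map_sum]
    refine Finset.sum_congr rfl fun i _ => ?_
    rw [map_pow, ← hkz, pow_right_comm]
  · intro f f' h
    exact IntermediateField.algHom_ext_of_eq_adjoin ℚ hF (fun x hx => by
      obtain ⟨g, rfl⟩ := hx
      exact congrFun (congrArg Subtype.val h) g)
  · rintro ⟨_, v, rfl⟩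
    obtain ⟨σ, hσ⟩ := GaloisChar80.exists_aut_char (val_coprime hn v)
    refine ⟨σ.toRingHom.toRatAlgHom.comp F.val, ?_⟩
    apply Subtype.ext
    funext g
    exact hσ _ ⟨m, ρ, rfl⟩ g

theorem result {P : Type*} [Group P] [Finite P] (p a : ℕ) (hp : p.Prime) (ha : 0 < a) (hP : Nat.card P = p ^ a) (χ : Cfsg.IrrCharacter P) (hfaith : ∀ g : P, (χ : P → ℂ) g = (χ : P → ℂ) 1 → g = 1) (f t : ℕ) (hf : Cfsg.charDegree (χ : P → ℂ) = f) (hfield : Module.finrank ℚ (IntermediateField.adjoin ℚ (Set.range (χ : P → ℂ))) = (p - 1) * p ^ t) : (p - 1) * a ≤ (f - 1) + (p - 1) * (t + 1) * f := by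
  haveI : Fact p.Prime := ⟨hp⟩
  haveI : NeZero (p ^ a) := ⟨pow_ne_zero _ hp.ne_zero⟩
  haveI := Fintype.ofFinite P
  obtain ⟨k, -, hk⟩ := isIrrCharacter_apply_one χ.2
  have hfk : (χ : P → ℂ) 1 = f := by
    rw [← hf, Cfsg.charDegree, hk]
    simp
  rw [finrank_values (dvd_of_eq hP) (isCharacter_of_isIrrCharacter χ.2)] at hfield
  refine bound _ rfl (dvd_of_eq hP) χ.2 hfk hfield ?_
  have hbot : charKer (χ : P → ℂ) (isCharacter_of_isIrrCharacter χ.2) = ⊥ :=
    (Subgroup.eq_bot_iff_forall _).2 hfaith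
  rw [hbot, Subgroup.index_bot, hP]

end Cfsg.Agent.S4489
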