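import Cfsg.Statements.S4490
import Cfsg.Agent.Lib.BlockTwist79

set_option autoImplicit false
open Cfsg

namespace Cfsg.Agent.S4490

/-- Let G be a finite group and M a maximal ideal of the algebraic integers containing 2. Every 2-block B of G whose defect groups are the Sylow 2-subgroups of G (a block of full defect) and which is not the principal block is different from its complex-conjugate block, the block formed by the complex conjugates of the members of B. -/
theorem result {G : Type*} [Group G] [Finite G] (M : Ideal Cfsg.AlgInt) (hM : Cfsg.IsPModular 2 M) (B : Set (Cfsg.IrrCharacter G)) (hB : Cfsg.IsPBlock M B) (P : Sylow 2 G) (hfull : Cfsg.IsDefectGroup 2 M B (P : Subgroup G)) (hnp : B ≠ Cfsg.principalBlock M G) : {ψ : Cfsg.IrrCharacter G | ∃ χ ∈ B, (ψ : G → ℂ) = fun g => (starRingEnd ℂ) ((χ : G → ℂ) g)} ≠ B := by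
  haveI := Fintype.ofFinite G
  haveI : Fact (Nat.Prime 2) := ⟨Nat.prime_two⟩
  intro he
  have hd : Cfsg.blockDefect 2 B = (Nat.card G).factorization 2 := by
    refine Nat.pow_right_injective le_rfl ?_
    exact (BlockContribBounds.card_defectGroup hM hB hfull).symm.trans P.card_eq_multiplicity
  obtain ⟨χ, hχ, hodd⟩ := BlockTwist79.exists_degree_prime hM hB hd
  let χc : Cfsg.IrrCharacter G := ⟨_, CharBasicDecomp.isIrrCharacter_conj χ.2⟩
  have hc : χc ∈ B := by rw [← he]; exact ⟨χ, hχ, rfl⟩
  have hB' := BlockTheoryIdem.eq_blockOf_of_mem hM hB hχ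
  have hsame : Cfsg.SameBlock M (χ : G → ℂ) (χc : G → ℂ) := by
    rw [hB'] at hc; exact hc
  have hpr := PrincipalSylow80.mem_principal_of_real hM χ (Nat.odd_iff.2 (Nat.two_dvd_ne_zero.1 hodd)) hsame
  exact hnp (hB'.trans (BlockTheoryIdem.eq_blockOf_of_mem hM PrincipalSylow80.isPBlock_principal hpr).symm)

end Cfsg.Agent.S4490
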