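import Cfsg.Statements.S4491
import Cfsg.Agent.Lib.BlockContribBounds
import Cfsg.Agent.Lib.BrauerBlocksRegFun
import Cfsg.Agent.Lib.CharAverage
import Cfsg.Agent.Lib.CharBasicDecomp
import Cfsg.Agent.Lib.CharBasicOrth

set_option autoImplicit false
open Cfsg

namespace Cfsg.Agent.S4491


open scoped ComplexConjugate
open BlockTheoryLocalRing BlockTheoryIdem BlockContrib BlockContribBounds


/-- Let B be a p-block of defect d of the finite group G (relative to a maximal ideal M of the algebraic integers containing p), and let p^a be the p-part of the order of G. Then the exact power of p dividing the sum of the squares of the degrees of the irreducible characters in B is p^(2a − d). -/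
theorem result {G : Type*} [Group G] [Finite G] (p : ℕ) [Fact p.Prime] (M : Ideal Cfsg.AlgInt) (hM : Cfsg.IsPModular p M) (B : Set (Cfsg.IrrCharacter G)) (hB : Cfsg.IsPBlock M B) : (∑ᶠ χ ∈ B, Cfsg.charDegree (χ : G → ℂ) ^ 2).factorization p = 2 * (Nat.card G).factorization p - Cfsg.blockDefect p B := by
  classical
  have : Fintype G := Fintype.ofFinite G
  have hp := hM.1
  obtain ⟨φ, hφ, hφ0⟩ := exists_height_zero hM hB
  obtain ⟨P⟩ : Nonempty (Sylow p G) := inferInstance
  set a := (Nat.card G).factorization p with ha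
  set m := minExp p B with hm
  have hP : Fintype.card (P : Subgroup G) = p ^ a := by
    rw [← Nat.card_eq_fintype_card]; exact P.card_eq_multiplicity
  have hpP : (p : ℂ) ^ a ≠ 0 := pow_ne_zero _ (Nat.cast_ne_zero.2 hp.ne_zero)
  have hz : ∀ ψ : IrrCharacter G, ∃ z : ℕ, ∑ u : (P : Subgroup G), (ψ : G → ℂ) u = (p : ℂ) ^ a * z := by
    intro ψ
    obtain ⟨z, hz⟩ := CharBasicOrth.classInner_isCharacter
      (CharBasic.isCharacter_comap (P : Subgroup G).subtype (CharAverage.irr_isCharacter ψ))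
      (CharBasicDecomp.isCharacter_one (G := (P : Subgroup G)))
    refine ⟨z, ?_⟩
    rw [← hz, classInner, Nat.card_eq_fintype_card, hP, Nat.cast_pow, ← mul_assoc,
      mul_inv_cancel₀ hpP, one_mul]
    exact Finset.sum_congr rfl fun u _ => by simp
  choose z hz using hz
  have hsing : ∀ u : (P : Subgroup G), u ≠ 1 → p ∣ orderOf (u : G) := by
    intro u hu
    obtain ⟨k, hk⟩ := IsPGroup.iff_orderOf.1 P.isPGroup' u
    rw [Subgroup.orderOf_coe, hk]
    refine dvd_pow_self p fun h0 => hu ?_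
    rw [h0, pow_zero] at hk
    exact orderOf_eq_one_iff.1 hk
  have expand : ∀ x : G, ∑ ψ ∈ members B, pair p (φ : G → ℂ) ψ * (ψ : G → ℂ) x =
      (Nat.card G : ℂ) * (if p ∣ orderOf x then 0 else (φ : G → ℂ) x) := by
    intro x
    have h := congrFun (CharBasicOrth.eq_sum_classInner
      (BrauerBlocksRegFun.isClassFunction_regFun (p := p) 1 φ)) x
    simp only [Finset.sum_apply, Pi.smul_apply, smul_eq_mul] at h
    rw [BrauerBlocksRegFun.regFun, one_mul] at h
    rw [h, Finset.mul_sum]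
    refine Finset.sum_subset_zero_on_sdiff (Finset.subset_univ _) (fun ψ hψ => ?_) fun ψ _ => ?_
    · rw [BrauerBlocksRegFun.regFun_eq_zero_of_not_mem hM hB 1 hφ
        (fun hmem => (Finset.mem_sdiff.1 hψ).2 (mem_members.2 hmem)), zero_mul, mul_zero]
    · rw [BrauerBlocksRegFun.classInner_regFun, one_mul, ← mul_assoc, ← mul_assoc,
        mul_inv_cancel₀ (Nat.cast_ne_zero.2 Nat.card_pos.ne'), one_mul]
  have h1 : ∑ ψ ∈ members B, pair p (φ : G → ℂ) ψ * ((p : ℂ) ^ a * (z ψ : ℂ)) =
      (Nat.card G : ℂ) * (φ : G → ℂ) 1 := by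
    simp only [← hz, Finset.mul_sum]
    rw [Finset.sum_comm, Finset.sum_congr rfl fun (u : (P : Subgroup G)) _ => expand (u : G),
      Finset.sum_eq_single (1 : (P : Subgroup G))]
    · simp [hp.ne_one]
    · intro u _ hu; rw [if_pos (hsing u hu), mul_zero]
    · simp
  have h2 : ∑ ψ ∈ members B, (ψ : G → ℂ) 1 * ((p : ℂ) ^ a * (z ψ : ℂ)) =
      ∑ ψ ∈ members B, (ψ : G → ℂ) 1 * (ψ : G → ℂ) 1 := by
    simp only [← hz, Finset.mul_sum]
    rw [Finset.sum_comm, Finset.sum_eq_single (1 : (P : Subgroup G))]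
    · simp
    · intro u _ hu
      have h := weak_orthogonality hM hB (x := 1) (y := (u : G)⁻¹) (by simp [hp.ne_one])
        (by rw [orderOf_inv]; exact hsing u hu)
      rw [← Finset.sum_filter, show Finset.univ.filter (· ∈ B) = members B by ext ξ; simp] at h
      simpa [BlockTheoryCentre.irr_inv] using h
    · simp
  have hdeg : ∀ ψ ∈ members B, ∃ e : ℕ, charDegree (ψ : G → ℂ) = p ^ m * e := fun ψ hψ =>
    (pow_dvd_pow p (minExp_le (mem_members.1 hψ))).trans (Nat.ordProj_dvd _ _)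
  choose! e he using hdeg
  have hφe : ¬ p ∣ e φ := by
    intro hd
    have hlt : p ^ (m + 1) ∣ charDegree (φ : G → ℂ) := by
      rw [he φ (mem_members.2 hφ), pow_succ]
      exact Nat.mul_dvd_mul_left _ hd
    rw [hp.pow_dvd_iff_le_factorization (CharAverage.irr_degree_pos φ).ne', exp_eq_add hφ, hφ0] at hlt
    omega
  set S := ∑ ψ ∈ members B, e ψ * z ψ with hS
  have hpm : (p : ℂ) ^ m ≠ 0 := pow_ne_zero _ (Nat.cast_ne_zero.2 hp.ne_zero)
  have hval : ∀ ψ ∈ members B, (ψ : G → ℂ) 1 = (p : ℂ) ^ m * (e ψ : ℂ) := fun ψ hψ => by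
    rw [CharAverage.irr_apply_one, he ψ hψ]; push_cast; rfl
  have h3 : ∑ ψ ∈ members B, pair p (φ : G → ℂ) ψ / (ψ : G → ℂ) 1 * ((e ψ * z ψ : ℕ) : ℂ) =
      ((cofactor p G * e φ : ℕ) : ℂ) := by
    refine mul_left_cancel₀ (mul_ne_zero hpP hpm) ?_
    have hG : (Nat.card G : ℂ) = (p : ℂ) ^ a * (cofactor p G : ℂ) := by
      exact_mod_cast (pow_mul_cofactor (G := G) p).symm
    calc _ = ∑ ψ ∈ members B, pair p (φ : G → ℂ) ψ * ((p : ℂ) ^ a * (z ψ : ℂ)) := by
          rw [Finset.mul_sum]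
          refine Finset.sum_congr rfl fun ψ hψ => ?_
          rw [hval ψ hψ]
          have he0 : (e ψ : ℂ) ≠ 0 := fun h => CharAverage.irr_one_ne_zero ψ (by rw [hval ψ hψ, h, mul_zero])
          push_cast
          field_simp
      _ = _ := by
          rw [h1, hval φ (mem_members.2 hφ), hG]; push_cast; ring
  have hS' : ¬ p ∣ S := by
    intro hd
    have hr : MemLocalRing M (pair p (φ : G → ℂ) φ / (φ : G → ℂ) 1) :=
      of_isIntegral hM (isIntegral_pair_div φ φ)
    have hd' : MemLocalIdeal M (pair p (φ : G → ℂ) φ / (φ : G → ℂ) 1 * (S : ℂ)) :=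
      ideal_mul_left hM hr ((natCast_mem_iff hM).2 hd)
    have hdiff : MemLocalIdeal M
        (((cofactor p G * e φ : ℕ) : ℂ) - pair p (φ : G → ℂ) φ / (φ : G → ℂ) 1 * (S : ℂ)) := by
      rw [← h3, hS, Nat.cast_sum, Finset.mul_sum, ← Finset.sum_sub_distrib]
      refine ideal_sum hM fun ψ hψ => ?_
      rw [← sub_mul, mul_comm]
      exact ideal_mul_left hM (natCast_mem (localRing hM) _)
        (pair_div_congr hM φ (sameBlock_of_mem hM hB (mem_members.1 hψ) hφ))
    have h4 := ideal_add hM hdiff hd'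
    rw [sub_add_cancel] at h4
    have := (natCast_mem_iff hM).1 h4
    exact (hp.dvd_mul.1 this).elim (cofactor_not_dvd hp) hφe
  have hsum : (∑ᶠ χ ∈ B, Cfsg.charDegree (χ : G → ℂ) ^ 2) = p ^ (a + m) * S := by
    rw [finsum_eq_members]
    have hC : ((∑ ψ ∈ members B, charDegree (ψ : G → ℂ) ^ 2 : ℕ) : ℂ) = ((p ^ (a + m) * S : ℕ) : ℂ) := by
      push_cast
      simp only [← CharAverage.irr_apply_one, pow_two, ← h2]
      rw [hS, Nat.cast_sum, Finset.mul_sum]
      refine Finset.sum_congr rfl fun ψ hψ => ?_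
      rw [hval ψ hψ, pow_add]; push_cast; ring
    exact_mod_cast hC
  rw [hsum, Nat.factorization_mul (pow_ne_zero _ hp.ne_zero) (fun h => hS' (by rw [h]; exact dvd_zero p)),
    Finsupp.add_apply, Nat.Prime.factorization_pow hp, Finsupp.single_eq_same,
    Nat.factorization_eq_zero_of_not_dvd hS', add_zero]
  have := minExp_add_defect hM hB
  rw [← hm, ← ha] at this; omega

end Cfsg.Agent.S4491
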