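import Cfsg.Statements.S4495
import Cfsg.Agent.Lib.SelfCentPrime79

set_option autoImplicit false
open Cfsg

namespace Cfsg.Agent.S4495

/-- Let the finite group G contain an element x of prime order p with C_G(x) = ⟨x⟩, and let t be the number of conjugacy classes of elements of order p. If t ≠ p − 1 then the commutator subgroup has index at most (p − 1)/t; if t = p − 1 it has index exactly p. -/
theorem result {G : Type*} [Group G] [Finite G] (p : ℕ) (hp : p.Prime) (x : G) (hx : orderOf x = p) (hC : Subgroup.centralizer ({x} : Set G) = Subgroup.zpowers x) (t : ℕ) (ht : Nat.card {C : ConjClasses G // ∃ g ∈ C.carrier, orderOf g = p} = t) : (t ≠ p - 1 → (commutator G).index * t ≤ p - 1) ∧ (t = p - 1 → (commutator G).index = p) := by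
  have h : SelfCentPrime79.SelfCent p x := ⟨hp, hx, hC⟩
  refine ⟨fun htne => ?_, fun hte => ?_⟩
  · have hN := fun e => htne ((h.normalizer_eq_iff ht).1 e)
    have hd := h.dvd_commutator hN
    set N := Subgroup.normalizer ((Subgroup.zpowers x : Subgroup G) : Set G) with hNdef
    have htop := h.sup_normalizer_eq_top hd
    have hidx : (commutator G).index = (commutator G).relIndex N := by
      rw [← Subgroup.relIndex_top_right, ← htop, sup_comm, ← hNdef, Subgroup.relIndex_sup_right]
    have hle : Subgroup.zpowers x ≤ commutator G ⊓ N :=
      le_inf (h.zpowers_le_of_dvd hd) Subgroup.le_normalizer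
    have h1 : (commutator G).index * p ≤ Nat.card N := by
      have e : (commutator G).relIndex N * Nat.card ((commutator G).subgroupOf N) = Nat.card N :=
        Subgroup.index_mul_card _
      rw [hidx, ← e]
      refine Nat.mul_le_mul le_rfl ?_
      rw [← h.card_zpowers]
      refine Nat.card_le_card_of_injective
        (fun a => (⟨⟨(a : G), (hle a.2).2⟩, (hle a.2).1⟩ : (commutator G).subgroupOf N)) ?_
      intro a b e
      exact Subtype.ext (congrArg (fun z => (((z : (commutator G).subgroupOf N) : N) : G)) e)
    have h2 := h.card_classes ht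
    rw [← hNdef] at h2
    refine le_of_mul_le_mul_left ?_ hp.pos
    calc p * ((commutator G).index * t) = (commutator G).index * p * t := by ring
    _ ≤ Nat.card N * t := Nat.mul_le_mul h1 le_rfl
    _ = _ := h2
  · exact (h.normalizer_le_imp (S := ⊥) ((h.normalizer_eq_iff ht).2 hte)).1

end Cfsg.Agent.S4495
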