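import Cfsg.Statements.S4497
import Cfsg.Agent.Lib.SelfCentPrime79

set_option autoImplicit false
open Cfsg

namespace Cfsg.Agent.S4497

open scoped Pointwise

/-- Let the finite group G contain an element x of prime order p with C_G(x) = ⟨x⟩, let t be the number of conjugacy classes of elements of order p, and let S* = O_{p′}(G) be the largest normal subgroup of order prime to p. Then S* ≤ G′; if t ≠ p − 1 the quotient G′/S* is simple (in particular non-trivial); if t = p − 1 then G′ = S*. -/
theorem result {G : Type*} [Group G] [Finite G] (p : ℕ) (hp : p.Prime) (x : G) (hx : orderOf x = p) (hC : Subgroup.centralizer ({x} : Set G) = Subgroup.zpowers x) (t : ℕ) (ht : Nat.card {C : ConjClasses G // ∃ g ∈ C.carrier, orderOf g = p} = t) : Cfsg.pPrimeCore p G ≤ commutator G ∧ (t ≠ p - 1 → ∀ h : ((Cfsg.pPrimeCore p G).subgroupOf (commutator G)).Normal, IsSimpleGroup (↥(commutator G) ⧸ (Cfsg.pPrimeCore p G).subgroupOf (commutator G))) ∧ (t = p - 1 → commutator G = Cfsg.pPrimeCore p G) := by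
  have h : SelfCentPrime79.SelfCent p x := ⟨hp, hx, hC⟩
  haveI := Fact.mk hp
  haveI := HallCore.pPrimeCore_normal p G
  have hS : ¬ p ∣ Nat.card (Cfsg.pPrimeCore p G) := HallCore.not_dvd_card_pPrimeCore p G
  have hle := h.le_commutator hS
  refine ⟨hle, fun htne hn => ?_, fun hte => ?_⟩
  · have hN := fun e => htne ((h.normalizer_eq_iff ht).1 e)
    have hd := h.dvd_commutator hN
    set D := commutator G with hD
    set S := (Cfsg.pPrimeCore p G).subgroupOf D with hSdef
    haveI : Nontrivial (↥D ⧸ S) := by
      refine QuotientGroup.nontrivial_iff.2 fun e => hS ?_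
      rw [hSdef, Subgroup.subgroupOf_eq_top] at e
      exact hd.trans (Subgroup.card_dvd_of_le e)
    refine ⟨fun M hM => ?_⟩
    let M' : Subgroup ↥D := M.comap (QuotientGroup.mk' S)
    haveI : M'.Normal := hM.comap _
    have hSM : S ≤ M' := by
      intro s hs
      rw [Subgroup.mem_comap, QuotientGroup.mk'_apply, (QuotientGroup.eq_one_iff s).2 hs]
      exact one_mem M
    have hmap : M = M'.map (QuotientGroup.mk' S) :=
      (Subgroup.map_comap_eq_self_of_surjective (QuotientGroup.mk'_surjective S) M).symm
    by_cases hp' : p ∣ Nat.card M'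
    · right
      suffices M' = ⊤ by
        rw [hmap, this, Subgroup.map_top_of_surjective _ (QuotientGroup.mk'_surjective S)]
      obtain ⟨P, hP⟩ := h.exists_sylow
      have hPD : (P : Subgroup G) ≤ D := hP ▸ h.zpowers_le_of_dvd hd
      let Q : Sylow p ↥D := P.subtype hPD
      obtain ⟨y, hy⟩ := exists_prime_orderOf_dvd_card' p hp'
      have key : ∀ z : ↥D, orderOf z = p → z ∈ M' := by
        intro z hz
        obtain ⟨R, hR⟩ := (IsPGroup.of_card (p := p) (n := 1) (by rw [Nat.card_zpowers, hz, pow_one]) :
          IsPGroup p (Subgroup.zpowers z)).exists_le_sylow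
        obtain ⟨R', hR'⟩ := (IsPGroup.of_card (p := p) (n := 1)
          (by rw [Nat.card_zpowers, Subgroup.orderOf_coe, hy, pow_one]) :
          IsPGroup p (Subgroup.zpowers (y : ↥D))).exists_le_sylow
        have hcard : ∀ R : Sylow p ↥D, Nat.card (R : Subgroup ↥D) = p := by
          intro R
          rw [Sylow.card_eq_multiplicity, ← Sylow.card_eq_multiplicity Q]
          refine (Nat.card_congr (Subgroup.subgroupOfEquivOfLe hPD).toEquiv).trans ?_
          rw [hP, h.card_zpowers]
        have hR'eq : Subgroup.zpowers (y : ↥D) = (R' : Subgroup ↥D) :=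
          Subgroup.eq_of_le_of_card_ge hR' (by rw [hcard, Nat.card_zpowers, Subgroup.orderOf_coe, hy])
        obtain ⟨g, hg⟩ := MulAction.exists_smul_eq ↥D R' R
        have hz' : z ∈ (R : Subgroup ↥D) := hR (Subgroup.mem_zpowers z)
        rw [← hg, Sylow.coe_subgroup_smul, Subgroup.mem_pointwise_smul_iff_inv_smul_mem,
          ← hR'eq] at hz'
        have h1 := Subgroup.zpowers_le.2 y.2 hz'
        have h2 := (inferInstance : M'.Normal).conj_mem _ h1 g
        simpa [MulAut.smul_def, mul_assoc] using h2
      let M'' : Subgroup G := Subgroup.closure {z : G | orderOf z = p}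
      haveI : M''.Normal := by
        refine ⟨fun a ha g => ?_⟩
        induction ha using Subgroup.closure_induction with
        | mem z hz =>
          exact Subgroup.subset_closure (((MulAut.conj g).orderOf_eq z).trans hz)
        | one => simp
        | mul z w _ _ hz hw =>
          rw [show g * (z * w) * g⁻¹ = g * z * g⁻¹ * (g * w * g⁻¹) by group]; exact mul_mem hz hw
        | inv z _ hz => rw [show g * z⁻¹ * g⁻¹ = (g * z * g⁻¹)⁻¹ by group]; exact inv_mem hz
      have hM'' : D ≤ M'' := h.commutator_le_of_dvd (by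
        rw [← hx, ← Nat.card_zpowers]
        exact Subgroup.card_dvd_of_le (Subgroup.zpowers_le.2 (Subgroup.subset_closure hx)))
      have hle2 : M'' ≤ M'.map D.subtype := by
        rw [Subgroup.closure_le]
        intro z hz
        have hzD : z ∈ D := by
          obtain ⟨g, hg⟩ := h.eq_conj_zpowers (H := Subgroup.zpowers z) (by rw [Nat.card_zpowers]; exact hz)
          have h3 := hg ▸ Subgroup.mem_zpowers z
          obtain ⟨w, hw, rfl⟩ := h3
          exact (inferInstance : D.Normal).conj_mem w (h.zpowers_le_of_dvd hd hw) g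
        exact ⟨⟨z, hzD⟩, key _ (by rw [← Subgroup.orderOf_coe]; exact hz), rfl⟩
      rw [eq_top_iff]
      intro d _
      obtain ⟨d', hd', e⟩ := hle2 (hM'' d.2)
      exact (Subtype.ext e : d' = d) ▸ hd'
    · left
      rw [hmap, eq_bot_iff, Subgroup.map_le_iff_le_comap, MonoidHom.comap_bot, QuotientGroup.ker_mk']
      intro m hm
      rw [hSdef, Subgroup.mem_subgroupOf]
      have h1 : M' ≤ Cfsg.pPrimeCore p ↥D :=
        HallCore.le_pPrimeCore ((hp.coprime_iff_not_dvd.2 hp').symm)
      have h2 : (Cfsg.pPrimeCore p ↥D).map D.subtype ≤ Cfsg.pPrimeCore p G := by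
        haveI := HallCore.pPrimeCore_characteristic p ↥D
        refine HallCore.le_pPrimeCore ?_
        rw [Subgroup.card_map_of_injective D.subtype_injective]
        exact HallCore.coprime_card_pPrimeCore p ↥D
      exact h2 ⟨m, h1 hm, rfl⟩
  · have h1 := h.normalizer_le_imp (S := ⊥) ((h.normalizer_eq_iff ht).2 hte)
    refine le_antisymm (HallCore.le_pPrimeCore ?_) hle
    exact (hp.coprime_iff_not_dvd.2 h1.2).symm

end Cfsg.Agent.S4497
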