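import Cfsg.Statements.S4498
import Cfsg.Agent.Lib.BlockTheoryIdem
import Cfsg.Agent.Lib.BrauerBlocksPPart
import Cfsg.Agent.Lib.CharBasicDecomp
import Cfsg.Agent.Lib.CharBasicOrth

set_option autoImplicit false
open Cfsg

namespace Cfsg.Agent.S4498

open Cfsg.Agent.BlockTheoryIdem Cfsg.Agent.BlockTheoryCentre
open Cfsg.Agent.CharBasic Cfsg.Agent.CharBasicOrth Cfsg.Agent.CharBasicDecomp
open scoped ComplexConjugate

attribute [local instance] Classical.propDecidable

universe u

variable {p : ℕ} {M : Ideal AlgInt} {G : Type u} [Group G] [Fintype G]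

/-- The elements whose `p`-part is conjugate to `x`. -/
noncomputable def sec (p : ℕ) (x : G) : Finset G :=
  Finset.univ.filter fun g => ∃ u, IsPPart p g u ∧ IsConj x u

/-- The sum of the conjugate values over a section. -/
noncomputable def secSum (p : ℕ) (x : G) (χ : IrrCharacter G) : ℂ :=
  ∑ h ∈ sec p x, conj ((χ : G → ℂ) h)

/-- The sum over a section of a character outside the principal block vanishes. -/
theorem secSum_eq_zero (hM : IsPModular p M) (x : G) {χ : IrrCharacter G}
    (hχ : χ ∉ principalBlock M G) : secSum p x χ = 0 := by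
  set B := blockOf M (χ : G → ℂ) with hBdef
  have hB : IsPBlock M B := isPBlock_blockOf χ
  have htriv : trivIrr G ∉ B := fun h => hχ (sameBlock_symm h)
  set v : G → ℂ := fun g => ∑ ψ : IrrCharacter G,
    if ψ ∈ B then secSum p x ψ * (ψ : G → ℂ) g else 0 with hv
  have hoff : ∀ g ∉ sec p x, v g = 0 := by
    intro g hg
    obtain ⟨u, hu⟩ := exists_pPart hM.1 g
    obtain ⟨s, hgs, hus, hup, hsr⟩ := hu
    have h0 : ∀ h ∈ sec p x, ∑ ψ : IrrCharacter G,
        (if ψ ∈ B then (ψ : G → ℂ) (u * s) * conj ((ψ : G → ℂ) h) else 0) = 0 := by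
      intro h hh
      refine sum_block_mul_conj_eq_zero hM hB u s h hup hus hsr fun g' hg' hu' => hg ?_
      obtain ⟨w, hw, hxw⟩ := (Finset.mem_filter.1 hh).2
      obtain ⟨c, rfl⟩ := isConj_iff.1 hg'
      have h1 := BrauerBlocksPPart.isPPart_conj c hw
      have h2 := BrauerBlocksPPart.isPPart_unique hM.1 hu' h1
      refine Finset.mem_filter.2 ⟨Finset.mem_univ _, u, ⟨s, hgs, hus, hup, hsr⟩, ?_⟩
      exact hxw.trans (isConj_iff.2 ⟨c, h2.symm⟩)
    calc v g = ∑ h ∈ sec p x, ∑ ψ : IrrCharacter G,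
          (if ψ ∈ B then (ψ : G → ℂ) (u * s) * conj ((ψ : G → ℂ) h) else 0) := by
          simp only [hv, secSum, Finset.sum_mul]
          rw [Finset.sum_comm]
          refine Finset.sum_congr rfl fun ψ _ => ?_
          split_ifs
          · rw [← hgs]
            exact Finset.sum_congr rfl fun h _ => mul_comm _ _
          · simp
      _ = 0 := Finset.sum_eq_zero h0
  have hsum : ∑ g, v g = 0 := by
    simp only [hv]
    rw [Finset.sum_comm]
    refine Finset.sum_eq_zero fun ψ _ => ?_
    by_cases hψ : ψ ∈ B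
    · simp only [if_pos hψ, ← Finset.mul_sum]
      have h := classInner_irr_ne ψ.2 isIrrCharacter_one (fun e => htriv (by
        rwa [show trivIrr G = ψ from Subtype.ext e.symm]))
      rw [classInner, mul_eq_zero] at h
      have h' := h.resolve_left (inv_ne_zero (Nat.cast_ne_zero.mpr Nat.card_pos.ne'))
      simp only [map_one, mul_one] at h'
      rw [h', mul_zero]
    · simp [hψ]
  have hS : ∑ g ∈ sec p x, v g = ∑ ψ : IrrCharacter G,
      if ψ ∈ B then ((Complex.normSq (secSum p x ψ) : ℝ) : ℂ) else 0 := by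
    simp only [hv]
    rw [Finset.sum_comm]
    refine Finset.sum_congr rfl fun ψ _ => ?_
    by_cases hψ : ψ ∈ B
    · simp only [if_pos hψ, ← Finset.mul_sum]
      rw [← Complex.mul_conj]
      simp [secSum, map_sum]
    · simp [hψ]
  have h0 : ∑ g ∈ sec p x, v g = 0 := by
    rw [← hsum]
    exact Finset.sum_subset (Finset.subset_univ _) fun g _ hg => hoff g hg
  rw [hS] at h0
  have h1 : ∑ ψ : IrrCharacter G,
      (if ψ ∈ B then Complex.normSq (secSum p x ψ) else 0) = 0 := by
    have := congrArg Complex.re h0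
    simpa [Complex.re_sum, apply_ite Complex.re] using this
  have h2 := (Finset.sum_eq_zero_iff_of_nonneg fun ψ _ => by
    split_ifs
    exacts [Complex.normSq_nonneg _, le_rfl]).1 h1 χ (Finset.mem_univ _)
  rw [if_pos (self_mem_blockOf hM χ)] at h2
  exact Complex.normSq_eq_zero.1 h2

theorem dvd_of_mem_sec [Fact p.Prime] {x g : G} (hx : orderOf x = p) (hg : g ∈ sec p x) :
    p ∣ orderOf g := by
  obtain ⟨u, hu, hxu⟩ := (Finset.mem_filter.1 hg).2
  obtain ⟨k, hk⟩ := BrauerBlocksPPart.exists_pow_of_isPPart (Fact.out : p.Prime) hu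
  obtain ⟨c, rfl⟩ := isConj_iff.1 hxu
  rw [← hx, show orderOf x = orderOf (c * x * c⁻¹) from
    ((MulAut.conj c).orderOf_eq x).symm, ← hk]
  exact orderOf_pow_dvd k

theorem self_mem_sec [Fact p.Prime] {x : G} (hx : orderOf x = p) : x ∈ sec p x :=
  Finset.mem_filter.2 ⟨Finset.mem_univ _, x,
    BrauerBlocksPPart.isPPart_self (Fact.out : p.Prime) ⟨1, by rw [hx, pow_one]⟩, IsConj.refl x⟩

end Cfsg.Agent.S4498

namespace Cfsg.Agent.S4498

/-- Let p and q be distinct primes dividing the order of the finite group G, and suppose G has no element of order p·q. Fix maximal ideals M_p over p and M_q over q of the algebraic integers. Then the principal p-block and the principal q-block of G have a non-principal irreducible character in common. -/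
theorem result {G : Type*} [Group G] [Finite G] (p q : ℕ) [Fact p.Prime] [Fact q.Prime] (hpq : p ≠ q) (hp : p ∣ Nat.card G) (hq : q ∣ Nat.card G) (hno : ∀ g : G, orderOf g ≠ p * q) (Mp Mq : Ideal Cfsg.AlgInt) (hMp : Cfsg.IsPModular p Mp) (hMq : Cfsg.IsPModular q Mq) : ∃ χ : Cfsg.IrrCharacter G, (χ : G → ℂ) ≠ (fun _ => 1) ∧ χ ∈ Cfsg.principalBlock Mp G ∧ χ ∈ Cfsg.principalBlock Mq G := by
  classical
  haveI : Fintype G := Fintype.ofFinite G
  by_contra hne
  push Not at hne
  obtain ⟨x, hx⟩ := exists_prime_orderOf_dvd_card' p hp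
  obtain ⟨y, hy⟩ := exists_prime_orderOf_dvd_card' q hq
  have h0 : ∑ χ : IrrCharacter G, secSum p x χ * (starRingEnd ℂ) (secSum q y χ) = 0 := by
    simp only [secSum, map_sum, Complex.conj_conj, Finset.sum_mul, Finset.mul_sum]
    rw [Finset.sum_comm]
    refine Finset.sum_eq_zero fun h hh => ?_
    rw [Finset.sum_comm]
    refine Finset.sum_eq_zero fun k hk => ?_
    simp only [mul_comm ((starRingEnd ℂ) _) _]
    rw [CharBasicOrth.sum_irr_mul_conj h k, if_neg]
    intro hc
    obtain ⟨c, rfl⟩ := isConj_iff.1 hc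
    have h1 := dvd_of_mem_sec hx hk
    have h2 := dvd_of_mem_sec hy hh
    rw [show orderOf (c * h * c⁻¹) = orderOf h from (MulAut.conj c).orderOf_eq h] at h1
    obtain ⟨d, hd⟩ := ((Nat.coprime_primes (Fact.out : p.Prime) (Fact.out : q.Prime)).2 hpq)
      |>.mul_dvd_of_dvd_of_dvd h1 h2
    have hd0 : d ≠ 0 := fun e => (orderOf_pos h).ne' (by rw [hd, e, mul_zero])
    refine hno (h ^ d) ?_
    rw [orderOf_pow' h hd0, hd, Nat.gcd_mul_left_left, Nat.mul_div_cancel _ (Nat.pos_of_ne_zero hd0)]
  rw [Finset.sum_eq_single (CharBasicDecomp.trivIrr G)] at h0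
  · rw [secSum, secSum] at h0
    simp only [CharBasicDecomp.trivIrr, map_one, Finset.sum_const, nsmul_one, map_natCast,
      mul_eq_zero, Nat.cast_eq_zero, Finset.card_eq_zero] at h0
    rcases h0 with h0 | h0
    · exact (h0 ▸ self_mem_sec hx : x ∈ (∅ : Finset G)) |> Finset.notMem_empty x
    · exact (h0 ▸ self_mem_sec hy : y ∈ (∅ : Finset G)) |> Finset.notMem_empty y
  · intro χ _ hχ
    by_cases h1 : χ ∈ principalBlock Mp G
    · rw [secSum_eq_zero hMq y (hne χ (fun e => hχ (Subtype.ext e)) h1), map_zero, mul_zero]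
    · rw [secSum_eq_zero hMp x h1, zero_mul]
  · simp

end Cfsg.Agent.S4498
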