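import Cfsg.Statements.S4499
import Cfsg.Agent.Lib.BlockContribBounds
import Cfsg.Agent.Lib.CharBasicInt

set_option autoImplicit false
open Cfsg

namespace Cfsg.Agent.S4499

/-- Let G be a finite group whose order has p-part p^a (a ≥ 1), and fix a maximal ideal M of the algebraic integers containing p. If the degree of one irreducible character of a p-block B is divisible by p^(a−1), then the degree of every irreducible character in B is divisible by p^(a−1) (so B has defect at most 1). -/
theorem result {G : Type*} [Group G] [Finite G] (p : ℕ) [Fact p.Prime] (M : Ideal Cfsg.AlgInt) (hM : Cfsg.IsPModular p M) (hpa : p ∣ Nat.card G) (B : Set (Cfsg.IrrCharacter G)) (hB : Cfsg.IsPBlock M B) (χ : Cfsg.IrrCharacter G) (hχ : χ ∈ B) (hdiv : p ^ ((Nat.card G).factorization p - 1) ∣ Cfsg.charDegree (χ : G → ℂ)) (ψ : Cfsg.IrrCharacter G) (hψ : ψ ∈ B) : p ^ ((Nat.card G).factorization p - 1) ∣ Cfsg.charDegree (ψ : G → ℂ) := by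
  haveI := Fintype.ofFinite G
  have hp : p.Prime := hM.1
  set a := (Nat.card G).factorization p with ha
  obtain ⟨m, hm, h1, hdvd⟩ := CharBasicInt.exists_apply_one_dvd_card χ.2
  obtain ⟨l, hl, k1, kdvd⟩ := CharBasicInt.exists_apply_one_dvd_card ψ.2
  have hm' : Cfsg.charDegree (χ : G → ℂ) = m := by simp [Cfsg.charDegree, h1]
  have hl' : Cfsg.charDegree (ψ : G → ℂ) = l := by simp [Cfsg.charDegree, k1]
  rw [hm', Nat.Prime.pow_dvd_iff_le_factorization hp hm.ne'] at hdiv
  rw [hl', Nat.Prime.pow_dvd_iff_le_factorization hp hl.ne']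
  have eχ := BlockContrib.exp_eq_add (p := p) hχ
  have eψ := BlockContrib.exp_eq_add (p := p) hψ
  rw [hm'] at eχ
  rw [hl'] at eψ
  have ed := BlockContrib.blockDefect_eq (p := p) B
  rcases Nat.eq_zero_or_pos (Cfsg.blockHeight p B (χ : G → ℂ)) with h0 | hpos
  · omega
  · have := BlockContribBounds.height_add_two_le hM hB hχ hpos
    omega

end Cfsg.Agent.S4499
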