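import Cfsg.Statements.S4500
import Cfsg.Agent.Lib.SchurBound79
import Cfsg.Agent.Lib.BlockPrincipal81
import Cfsg.Agent.Lib.BlockContribBounds
import Cfsg.Agent.Lib.CharInducedBurnside
import Cfsg.Agent.Lib.CharBasicLinear
import Cfsg.Agent.Lib.CharAverage
import Cfsg.Agent.Lib.BrauerBlocksCentral

set_option autoImplicit false
open Cfsg

namespace Cfsg.Agent.S4500


open scoped ComplexConjugate
open BlockTheoryLocalRing BlockTheoryIdem

variable {G : Type*} [Group G] [Finite G]

/-- In a perfect group with small `p`-part some non-principal character has degree prime to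
`p` and to `r`. -/
theorem exists_prime_to (p r : ℕ) (hp : p.Prime) (hr : r.Prime) (hdvd : p ∣ Nat.card G)
    (ha : (Nat.card G).factorization p ≤ 2) :
    ∃ χ : Cfsg.IrrCharacter G, (χ : G → ℂ) ≠ (fun _ => 1) ∧
      ¬ p ∣ charDegree (χ : G → ℂ) ∧ ¬ r ∣ charDegree (χ : G → ℂ) := by
  classical
  have : Fintype G := Fintype.ofFinite G
  have : Fact p.Prime := ⟨hp⟩
  obtain ⟨x, hx⟩ := exists_prime_orderOf_dvd_card' p hdvd
  obtain ⟨M, hM⟩ := SchurBound79.exists_modular p hp
  have hB : IsPBlock M (principalBlock M G) := BlockPrincipal81.isPBlock_principal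
  have h := weak_orthogonality hM hB (x := 1) (y := x) (by simp [hp.ne_one]) (by rw [hx])
  have hone := BlockPrincipal81.oneChar_mem (G := G) hM
  by_contra hcon
  push Not at hcon
  have hr' : ∀ χ ∈ principalBlock M G, χ ≠ BlockPrincipal81.oneChar G →
      r ∣ charDegree (χ : G → ℂ) := by
    intro χ hχ hne
    refine hcon χ (fun e => hne (Subtype.ext e)) ?_
    intro hpd
    have h0 : 0 < blockHeight p (principalBlock M G) (χ : G → ℂ) := by
      rw [BlockContrib.blockHeight_eq]
      have h1 : BlockContrib.minExp p (principalBlock M G) = 0 := by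
        have := BlockContrib.minExp_le (p := p) hone
        simpa [BlockPrincipal81.oneChar, charDegree] using this
      rw [h1, Nat.sub_zero]
      exact hp.factorization_pos_of_dvd
        (Nat.pos_iff_ne_zero.1 (CharAverage.irr_degree_pos χ)) hpd
    have h2 := BlockContribBounds.height_add_two_le hM hB hχ h0
    have h3 : blockDefect p (principalBlock M G) ≤ (Nat.card G).factorization p := Nat.sub_le _ _
    omega
  choose! f hf using hr'
  rw [← Finset.add_sum_erase _ _ (Finset.mem_univ (BlockPrincipal81.oneChar G)), if_pos hone] at h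
  set z := ∑ χ ∈ Finset.univ.erase (BlockPrincipal81.oneChar G),
    (if χ ∈ principalBlock M G then (f χ : ℂ) * conj ((χ : G → ℂ) x) else 0) with hz
  have hzi : IsIntegral ℤ z := by
    refine IsIntegral.sum _ fun χ _ => ?_
    by_cases hc : χ ∈ principalBlock M G
    · rw [if_pos hc]
      refine IsIntegral.mul (by simpa using isIntegral_algebraMap (R := ℤ) (A := ℂ) (x := (f χ : ℤ))) ?_
      exact (BrauerBlocksCentral.isIntegral_irr χ x).map (starRingEnd ℂ).toIntAlgHom
    · rw [if_neg hc]
      exact isIntegral_zero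
  have he : ∑ χ ∈ Finset.univ.erase (BlockPrincipal81.oneChar G),
    (if χ ∈ principalBlock M G then (χ : G → ℂ) 1 * conj ((χ : G → ℂ) x) else 0) = (r : ℂ) * z := by
    rw [hz, Finset.mul_sum]
    refine Finset.sum_congr rfl fun χ hχ => ?_
    by_cases hc : χ ∈ principalBlock M G
    · rw [if_pos hc, if_pos hc, CharAverage.irr_apply_one χ, hf χ hc (Finset.ne_of_mem_erase hχ)]
      push_cast
      ring
    · rw [if_neg hc, if_neg hc, mul_zero]
  rw [he] at h
  simp only [BlockPrincipal81.oneChar, map_one, mul_one] at h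
  have h' : (-z) = ((1 : ℕ) : ℂ) / r := by
    rw [eq_div_iff (Nat.cast_ne_zero.2 hr.ne_zero)]
    push_cast
    linear_combination (-1 : ℂ) * h
  exact hr.not_dvd_one (CharBasicInt.dvd_of_isIntegral_div hr.ne_zero (h' ▸ hzi.neg))

/-- The half of the statement belonging to `q`. -/
theorem key (p q r a b c : ℕ) (hp : p.Prime) (hq : q.Prime) (hr : r.Prime)
    (hpq : p ≠ q) (hpr : p ≠ r) (ha : a ≤ 2) (hG : Nat.card G = p ^ a * q ^ b * r ^ c)
    [Nontrivial G] :
    ∃ χ : Cfsg.IrrCharacter G, (χ : G → ℂ) ≠ (fun _ => 1) ∧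
      ∃ k : ℕ, Cfsg.charDegree (χ : G → ℂ) = q ^ k := by
  classical
  by_cases hcom : (commutator G).index = 1
  · have hns : ¬ Group.IsSolvable G := fun hs => by
      rw [Subgroup.index_eq_one] at hcom
      have := hs; exact (Group.IsSolvable.commutator_lt_top_of_nontrivial G).ne hcom
    have hpG : p ∣ Nat.card G := by
      rcases Nat.eq_zero_or_pos a with h0 | h0
      · exact absurd (CharInduced.solvable_of_card_two_primes q r b c hq hr
          (by rw [hG, h0, pow_zero, one_mul])) hns
      · rw [hG, mul_assoc]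
        exact Dvd.dvd.mul_right (dvd_pow_self p h0.ne') _
    have hfac : (Nat.card G).factorization p ≤ 2 := by
      refine le_trans ?_ ha
      rw [hG, Nat.factorization_mul (mul_ne_zero (pow_ne_zero _ hp.ne_zero) (pow_ne_zero _ hq.ne_zero))
        (pow_ne_zero _ hr.ne_zero), Nat.factorization_mul (pow_ne_zero _ hp.ne_zero) (pow_ne_zero _ hq.ne_zero),
        Nat.Prime.factorization_pow hp, Nat.Prime.factorization_pow hq, Nat.Prime.factorization_pow hr]
      simp [hpq, hpr]
    obtain ⟨χ, hne, hp', hr'⟩ := exists_prime_to p r hp hr hpG hfac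
    refine ⟨χ, hne, ?_⟩
    have hd := CharAverage.charDegree_dvd_card χ
    rw [hG] at hd
    have h1 := (Nat.Coprime.pow_right c ((hr.coprime_iff_not_dvd.2 hr').symm)).dvd_of_dvd_mul_right hd
    have h2 := (Nat.Coprime.pow_right a ((hp.coprime_iff_not_dvd.2 hp').symm)).dvd_of_dvd_mul_left h1
    obtain ⟨k, -, hk⟩ := (Nat.dvd_prime_pow hq).1 h2
    exact ⟨k, hk⟩
  · have h := CharBasicLinear.card_linear (G := G)
    rw [← h] at hcom
    have hpos : 0 < Nat.card {χ : Cfsg.IrrCharacter G // (χ : G → ℂ) 1 = 1} := by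
      rw [h]; exact Nat.pos_of_ne_zero Subgroup.index_ne_zero_of_finite
    have : Nontrivial {χ : Cfsg.IrrCharacter G // (χ : G → ℂ) 1 = 1} := by
      have := (Nat.card_pos_iff.1 hpos).2
      rw [← Finite.one_lt_card_iff_nontrivial]; omega
    obtain ⟨⟨χ, hχ⟩, hne⟩ := exists_ne
      (⟨BlockPrincipal81.oneChar G, by simp [BlockPrincipal81.oneChar]⟩ :
        {χ : Cfsg.IrrCharacter G // (χ : G → ℂ) 1 = 1})
    exact ⟨χ, fun e => hne (Subtype.ext (Subtype.ext e)), 0, by simp [charDegree, hχ]⟩



/-- Let G be a non-trivial finite group of order p^a · q^b · r^c with p, q, r distinct primes and a ≤ 2. Then G has a non-principal irreducible character whose degree is a power of q, and a non-principal irreducible character whose degree is a power of r; the power may be the zeroth, so a non-principal linear character serves for both. -/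
theorem result {G : Type*} [Group G] [Finite G] [Nontrivial G] (p q r a b c : ℕ) (hp : p.Prime) (hq : q.Prime) (hr : r.Prime) (hpq : p ≠ q) (hpr : p ≠ r) (hqr : q ≠ r) (ha : a ≤ 2) (hG : Nat.card G = p ^ a * q ^ b * r ^ c) : (∃ χ : Cfsg.IrrCharacter G, (χ : G → ℂ) ≠ (fun _ => 1) ∧ ∃ k : ℕ, Cfsg.charDegree (χ : G → ℂ) = q ^ k) ∧ ∃ χ : Cfsg.IrrCharacter G, (χ : G → ℂ) ≠ (fun _ => 1) ∧ ∃ k : ℕ, Cfsg.charDegree (χ : G → ℂ) = r ^ k := by
  refine ⟨key p q r a b c hp hq hr hpq hpr ha hG, key p r q a c b hp hr hq hpr hpq ha ?_⟩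
  rw [hG]; ring

end Cfsg.Agent.S4500
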