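import Cfsg.Statements.S4502
import Cfsg.Agent.Lib.BlockDefectOneCount86
import Cfsg.Agent.Lib.SchurBound79
import Cfsg.Agent.Lib.ClassAlgebraOmega
-- import your own Cfsg.Agent.* helpers here

set_option autoImplicit false
open Cfsg

namespace Cfsg.Agent.S4502

attribute [local instance] Classical.propDecidable

open scoped ComplexConjugate IsMulCommutative
open Cfsg.Agent Cfsg.Agent.CharBasic Cfsg.Agent.CharBasicOrth Cfsg.Agent.BlockTheoryCentre
  Cfsg.Agent.BlockAbelianSylow86
  Cfsg.Agent.BlockDefectOneLocal86 Cfsg.Agent.BlockDefectOneBound86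
  Cfsg.Agent.BlockDefectOneBlock86

section Count

variable {G : Type*} [Group G] [Fintype G] {p : ℕ} [Fact p.Prime] {M : Ideal AlgInt}
  {P : Sylow p G} {U : Subgroup G} (hP : Nat.card (P : Subgroup G) = p) (hU : RegPart P U)

/-- The coefficient at `η` does not vanish identically. -/
def Rel (P : Sylow p G) {U : Subgroup G} (χ : IrrCharacter G) (η : IrrCharacter U) : Prop :=
  ∃ y ∈ (P : Subgroup G), y ≠ 1 ∧ cval η (χ : G → ℂ) y ≠ 0

/-- The index of the centralizer in the normalizer. -/
noncomputable def fP (P : Sylow p G) : ℕ :=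
  (Subgroup.centralizer ((P : Subgroup G) : Set G)).relIndex
    (Subgroup.normalizer ((P : Subgroup G) : Set G))

include hP hU

theorem fP_mul : fP P * (p * Nat.card U) =
    Nat.card ↥(Subgroup.normalizer ((P : Subgroup G) : Set G)) := by
  rw [← BlockDefectOneCount86.card_centralizer hP hU, fP, mul_comm,
    ← ((Subgroup.centralizer ((P : Subgroup G) : Set G)).subgroupOf
      (Subgroup.normalizer ((P : Subgroup G) : Set G))).card_mul_index,
    Nat.card_congr (Subgroup.subgroupOfEquivOfLe (Subgroup.centralizer_le_normalizer _)).toEquiv]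
  rfl

theorem not_dvd_fP : ¬ p ∣ fP P := by
  intro h
  obtain ⟨j, hj⟩ := h
  have h1 := (Subgroup.normalizer ((P : Subgroup G) : Set G)).card_subgroup_dvd_card
  rw [← fP_mul hP hU, hj] at h1
  have h2 : p ^ 2 ∣ Nat.card G := (dvd_trans ⟨j * Nat.card U, by ring⟩ h1)
  have h3 := P.card_eq_multiplicity
  rw [hP] at h3
  have hp := (Fact.out : p.Prime)
  have h4 := (hp.pow_dvd_iff_le_factorization Nat.card_pos.ne').1 h2
  have h5 : (Nat.card G).factorization p = 1 :=
    (Nat.pow_right_injective hp.two_le (h3.symm.trans (pow_one p).symm))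
  omega

variable [IsMulCommutative ↥(P : Subgroup G)] [Fintype ↥(P : Subgroup G)]
  [Fintype (↥(P : Subgroup G) →* ℂˣ)]

/-- The characters of a block of defect one have degree prime to `p`. -/
theorem not_dvd_degree (hM : IsPModular p M) {χ : IrrCharacter G} {η : IrrCharacter U}
    (h : Rel P χ η) : ¬ p ∣ charDegree (χ : G → ℂ) := by
  have hp := (Fact.out : p.Prime)
  obtain ⟨y, hy, hy1, hne⟩ := h
  obtain ⟨B, hind⟩ := exists_block hP hU hM η
  have hχ : χ ∈ B := by
    by_contra h
    exact hne (cval_eq_zero hP hU hM η hind h hy hy1)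
  obtain ⟨X, Y, a, ε, d, δ, ζ, S, hX, hY⟩ := BlockDefectOneCount86.exists_degrees hP hU hM hind
  have hdeg : ¬ p ∣ charDegree (η : U → ℂ) := fun h =>
    not_dvd_card hP hU (h.trans (ClassAlgebraOmega.charDegree_dvd_card η))
  have horb : ¬ p ∣ (orbit hU η).card := fun h => not_dvd_fP hP hU (h.trans
    ⟨Nat.card (autE hU η), (BlockDefectOneCount86.orbit_mul_index hP hU η).symm⟩)
  intro hd
  rw [← Int.natCast_dvd_natCast, ← Int.modEq_zero_iff_dvd] at hd
  rcases (S.block χ).1 (Finset.mem_filter.2 ⟨Finset.mem_univ _, hχ⟩) with h | h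
  · have h1 := Int.modEq_zero_iff_dvd.1 ((hX χ h).symm.trans hd)
    rcases S.signX χ h with ha | ha <;>
      simp only [ha, one_mul, neg_mul, dvd_neg, Int.natCast_dvd_natCast, hp.dvd_mul] at h1 <;>
      tauto
  · have h1 := Int.modEq_zero_iff_dvd.1 ((hY χ h).symm.trans hd)
    rcases S.sign with ha | ha <;>
      simp only [ha, one_mul, neg_mul, dvd_neg, Int.natCast_dvd_natCast, hp.dvd_mul] at h1 <;>
      exact h1.elim (not_dvd_fP hP hU) hdeg

/-- The count of the characters of degree prime to `p`. -/
theorem count_eq (hM : IsPModular p M) :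
    fP P * Nat.card {χ : IrrCharacter G // ¬ p ∣ charDegree (χ : G → ℂ)} =
      ∑ η : IrrCharacter U, Nat.card (autE hU η) *
        (Nat.card (autE hU η) + (p - 1) / Nat.card (autE hU η)) := by
  set S := Finset.univ.filter (fun χ : IrrCharacter G => ¬ p ∣ charDegree (χ : G → ℂ)) with hS
  rw [show Nat.card {χ : IrrCharacter G // ¬ p ∣ charDegree (χ : G → ℂ)} = S.card by
    rw [Nat.card_eq_fintype_card, Fintype.card_subtype]]
  have hrow : ∀ χ ∈ S, ∑ η : IrrCharacter U, (if Rel P χ η then Nat.card (autE hU η) else 0) =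
      fP P := by
    intro χ hχ
    obtain ⟨η₀, y, hy, hy1, hne⟩ := exists_cval_ne hP hU (Finset.mem_filter.1 hχ).2
    obtain ⟨B, hind⟩ := exists_block hP hU hM η₀
    have hχB : χ ∈ B := by
      by_contra h
      exact hne (cval_eq_zero hP hU hM η₀ hind h hy hy1)
    have hiff : ∀ η, Rel P χ η ↔ η ∈ orbit hU η₀ := by
      intro η
      constructor
      · rintro ⟨z, hz, hz1, hzne⟩
        by_contra h
        exact hzne (cval_off_orbit hP hU hM hind h hχB hz hz1)
      · intro h
        obtain ⟨n, rfl⟩ := (mem_orbit hU).1 h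
        refine ⟨(n : G)⁻¹ * y * n, ?_, ?_, ?_⟩
        · have := (Subgroup.mem_normalizer_iff.1 (inv_mem n.2) y).1 hy
          simpa using this
        · intro e
          exact hy1 (by simpa [mul_assoc] using congrArg (fun z => (n : G) * z * (n : G)⁻¹) e)
        · rw [← cval_conj hU η₀ χ n]
          simpa [mul_assoc] using hne
    have hcst : ∀ η ∈ orbit hU η₀, Nat.card (autE hU η) = Nat.card (autE hU η₀) := by
      intro η hη
      have h : orbit hU η = orbit hU η₀ := by
        obtain ⟨n, rfl⟩ := (mem_orbit hU).1 hη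
        ext θ
        constructor
        · intro h
          obtain ⟨m, rfl⟩ := (mem_orbit hU).1 h
          exact twist_mem_orbit hU hη m
        · intro h
          obtain ⟨m, rfl⟩ := (mem_orbit hU).1 h
          exact (mem_orbit hU).2 ⟨n⁻¹ * m, by rw [twist_twist, mul_inv_cancel_left]⟩
      have h1 := BlockDefectOneCount86.orbit_mul_index hP hU η
      rw [h, ← BlockDefectOneCount86.orbit_mul_index hP hU η₀] at h1
      exact Nat.eq_of_mul_eq_mul_left (Finset.card_pos.2 ⟨_, self_mem_orbit hU η₀⟩) h1
    rw [← Finset.sum_filter, Finset.filter_congr (q := (· ∈ orbit hU η₀)) (fun η _ => hiff η),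
      Finset.filter_univ_mem, Finset.sum_congr rfl hcst, Finset.sum_const, smul_eq_mul]
    exact BlockDefectOneCount86.orbit_mul_index hP hU η₀
  have hcol : ∀ η : IrrCharacter U, (S.filter fun χ => Rel P χ η).card =
      Nat.card (autE hU η) + (p - 1) / Nat.card (autE hU η) := by
    intro η
    obtain ⟨B, hind⟩ := exists_block hP hU hM η
    obtain ⟨X, Y, a, ε, d, δ, ζ, T⟩ := exists_data hP hU hM hind
    have heq : (S.filter fun χ => Rel P χ η) = Finset.univ.filter (· ∈ B) := by
      ext χ
      simp only [hS, Finset.mem_filter, Finset.mem_univ, true_and]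
      constructor
      · rintro ⟨-, y, hy, hy1, hne⟩
        by_contra h
        exact hne (cval_eq_zero hP hU hM η hind h hy hy1)
      · intro h
        obtain ⟨x, hx, hxne⟩ := exists_ne hP hU hM hind h
        have hrel : Rel P χ η := ⟨x, x.2, fun e => hx (Subtype.ext e), hxne⟩
        exact ⟨not_dvd_degree hP hU hM hrel, hrel⟩
    rw [heq, show Finset.univ.filter (· ∈ B) = X ∪ Y from Finset.ext fun χ => by
      rw [Finset.mem_union]; exact T.block χ, Finset.card_union_of_disjoint T.disj, T.cardX]
    congr 1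
    have h := T.cardY
    rw [show p - 1 = Y.card * Nat.card (autE hU η) by omega, Nat.mul_div_cancel _ Nat.card_pos]
  rw [mul_comm, ← smul_eq_mul, ← Finset.sum_const, ← Finset.sum_congr rfl hrow, Finset.sum_comm]
  refine Finset.sum_congr rfl fun η _ => ?_
  rw [← hcol η, ← Finset.sum_filter, Finset.sum_const, smul_eq_mul, mul_comm]

end Count

/-- Let G be a finite group whose order is divisible by the prime p exactly once, and let P be a Sylow p-subgroup. Then the number of irreducible characters of G of degree not divisible by p equals the number of conjugacy classes of the normalizer of P. -/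
theorem result {G : Type*} [Group G] [Finite G] (p : ℕ) [Fact p.Prime] (hdiv : p ∣ Nat.card G) (hsq : ¬ p ^ 2 ∣ Nat.card G) (P : Sylow p G) : Nat.card {χ : Cfsg.IrrCharacter G // ¬ p ∣ Cfsg.charDegree (χ : G → ℂ)} = Nat.card (ConjClasses (Subgroup.normalizer ((P : Subgroup G) : Set G))) := by
  have : Fintype G := Fintype.ofFinite G
  have hp := (Fact.out : p.Prime)
  obtain ⟨M, hM⟩ := SchurBound79.exists_modular p hp
  have hfac : (Nat.card G).factorization p = 1 := le_antisymm
    (Nat.le_of_lt_succ (Nat.lt_of_not_le fun h =>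
      hsq ((hp.pow_dvd_iff_le_factorization Nat.card_pos.ne').2 h)))
    ((hp.pow_dvd_iff_le_factorization Nat.card_pos.ne').1 (by rwa [pow_one]))
  have hP : Nat.card (P : Subgroup G) = p := by rw [P.card_eq_multiplicity, hfac, pow_one]
  haveI : Fintype ↥(P : Subgroup G) := Fintype.ofFinite _
  haveI := Cfsg.Agent.BlockPrime86.comm_P hP
  haveI : Fintype (↥(P : Subgroup G) →* ℂˣ) := Fintype.ofFinite _
  obtain ⟨U, -, -, hU⟩ := DefectOneSign7.exists_regular_part P hP
  have hUN : U ≤ Subgroup.normalizer ((P : Subgroup G) : Set G) := fun w hw =>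
    Subgroup.centralizer_le_normalizer _ ((hU w).1 hw).1
  -- the normalizer as a group
  let P' : Sylow p ↥(Subgroup.normalizer ((P : Subgroup G) : Set G)) :=
    P.subtype Subgroup.le_normalizer
  let U' : Subgroup ↥(Subgroup.normalizer ((P : Subgroup G) : Set G)) :=
    U.subgroupOf (Subgroup.normalizer ((P : Subgroup G) : Set G))
  have hP'mem : ∀ x : ↥(Subgroup.normalizer ((P : Subgroup G) : Set G)),
      x ∈ (P' : Subgroup ↥(Subgroup.normalizer ((P : Subgroup G) : Set G))) ↔
        (x : G) ∈ (P : Subgroup G) := fun x => Iff.rfl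
  have hP' : Nat.card (P' : Subgroup ↥(Subgroup.normalizer ((P : Subgroup G) : Set G))) = p := by
    exact (Nat.card_congr (Subgroup.subgroupOfEquivOfLe Subgroup.le_normalizer).toEquiv).trans hP
  have hC' : ∀ x : ↥(Subgroup.normalizer ((P : Subgroup G) : Set G)),
      x ∈ Subgroup.centralizer ((P' : Subgroup ↥(Subgroup.normalizer ((P : Subgroup G) : Set G))) :
        Set ↥(Subgroup.normalizer ((P : Subgroup G) : Set G))) ↔
      (x : G) ∈ Subgroup.centralizer ((P : Subgroup G) : Set G) := fun x => by
    simp only [Subgroup.mem_centralizer_iff, SetLike.mem_coe]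
    exact ⟨fun h y hy => congrArg Subtype.val (h ⟨y, Subgroup.le_normalizer hy⟩ hy),
      fun h y hy => Subtype.ext (h y hy)⟩
  have hU' : RegPart P' U' := fun c => by
    rw [hC', Subgroup.mem_subgroupOf, hU, Subgroup.orderOf_coe]
  haveI hnorm : (P' : Subgroup ↥(Subgroup.normalizer ((P : Subgroup G) : Set G))).Normal :=
    Subgroup.normal_in_normalizer
  have hN' : ∀ x : ↥(Subgroup.normalizer ((P : Subgroup G) : Set G)),
      x ∈ Subgroup.normalizer ((P' : Subgroup ↥(Subgroup.normalizer ((P : Subgroup G) : Set G))) :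
        Set ↥(Subgroup.normalizer ((P : Subgroup G) : Set G))) := fun x => by
    refine Subgroup.mem_normalizer_iff.2 fun y => ⟨fun h => hnorm.conj_mem y h x, fun h => ?_⟩
    simpa [mul_assoc] using hnorm.conj_mem _ h x⁻¹
  haveI := Cfsg.Agent.BlockPrime86.comm_P hP'
  haveI : Fintype (↥(P' : Subgroup ↥(Subgroup.normalizer ((P : Subgroup G) : Set G))) →* ℂˣ) :=
    Fintype.ofFinite _
  -- every character of the normalizer has degree prime to `p`
  have hall : ∀ χ : IrrCharacter ↥(Subgroup.normalizer ((P : Subgroup G) : Set G)),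
      ¬ p ∣ charDegree (χ : ↥(Subgroup.normalizer ((P : Subgroup G) : Set G)) → ℂ) := by
    intro χ hd
    have hzero : ∀ y : ↥(P' : Subgroup ↥(Subgroup.normalizer ((P : Subgroup G) : Set G))),
        y ≠ 1 → (χ : ↥(Subgroup.normalizer ((P : Subgroup G) : Set G)) → ℂ) (y : ↥(Subgroup.normalizer ((P : Subgroup G) : Set G))) = 0 := by
      intro y hy
      have h := apply_eq_sum hU' χ y.2 1
      rw [OneMemClass.coe_one, mul_one] at h
      rw [h]
      refine Finset.sum_eq_zero fun η _ => ?_
      by_cases h0 : cval η (χ : ↥(Subgroup.normalizer ((P : Subgroup G) : Set G)) → ℂ) (y : ↥(Subgroup.normalizer ((P : Subgroup G) : Set G))) = 0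
      · rw [h0, zero_mul]
      · exact absurd hd (not_dvd_degree hP' hU' hM ⟨y, y.2, fun e => hy (Subtype.ext e), h0⟩)
    have havg := BlockTheoryNormal.omega_avg
      (P' : Subgroup ↥(Subgroup.normalizer ((P : Subgroup G) : Set G))) χ
    have hne := irr_one_ne_zero χ
    by_cases hker : ∀ x ∈ (P' : Subgroup ↥(Subgroup.normalizer ((P : Subgroup G) : Set G))),
        (χ : ↥(Subgroup.normalizer ((P : Subgroup G) : Set G)) → ℂ) x = (χ : ↥(Subgroup.normalizer ((P : Subgroup G) : Set G)) → ℂ) 1
    · obtain ⟨y, hy⟩ : ∃ y : ↥(P' : Subgroup ↥(Subgroup.normalizer ((P : Subgroup G) : Set G))),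
          y ≠ 1 := by
        haveI : Nontrivial ↥(P' : Subgroup ↥(Subgroup.normalizer ((P : Subgroup G) : Set G))) :=
          Finite.one_lt_card_iff_nontrivial.1 (by rw [hP']; exact hp.one_lt)
        exact exists_ne 1
      exact hne ((hker y y.2).symm.trans (hzero y hy))
    · rw [if_neg hker, omega_apply, mul_eq_zero, or_iff_right (inv_ne_zero hne)] at havg
      have h := ZStarPrincipal.chiSum_single_mul_avg
        (P' : Subgroup ↥(Subgroup.normalizer ((P : Subgroup G) : Set G))) (χ : ↥(Subgroup.normalizer ((P : Subgroup G) : Set G)) → ℂ) 1 1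
      simp only [MonoidAlgebra.one_def.symm, one_mul, mul_one] at h
      rw [havg] at h
      have hc : (Nat.card ↥(P' : Subgroup ↥(Subgroup.normalizer ((P : Subgroup G) : Set G))) : ℂ) ≠ 0 :=
        Nat.cast_ne_zero.2 Nat.card_pos.ne'
      refine hne (Eq.trans ?_ ((mul_eq_zero.1 h.symm).resolve_left (inv_ne_zero hc)))
      symm
      refine (Finset.sum_eq_single 1 (fun y _ hy => hzero y hy)
        (fun h => absurd (Finset.mem_univ _) h)).trans ?_
      rfl
  -- compare the sums
  have h1 := count_eq hP hU hM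
  have h2 := count_eq hP' hU' hM
  have hUU : Nat.card U' = Nat.card U := Nat.card_congr (Subgroup.subgroupOfEquivOfLe hUN).toEquiv
  have hf : fP P' = fP P := by
    have e1 := fP_mul hP hU
    have e2 := fP_mul hP' hU'
    rw [hUU, Nat.card_congr (Equiv.subtypeUnivEquiv hN'), ← e1] at e2
    exact Nat.eq_of_mul_eq_mul_right (Nat.mul_pos hp.pos Nat.card_pos) e2
  set φ := Subgroup.subgroupOfEquivOfLe hUN with hφ
  let Φ : IrrCharacter U ≃ IrrCharacter U' :=
    { toFun := fun η => ⟨fun w => (η : U → ℂ) (φ w),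
        CharBasic.isIrrCharacter_comap φ.toMonoidHom φ.surjective η.2⟩
      invFun := fun η => ⟨fun w => (η : U' → ℂ) (φ.symm w),
        CharBasic.isIrrCharacter_comap φ.symm.toMonoidHom φ.symm.surjective η.2⟩
      left_inv := fun η => Subtype.ext (funext fun w => congrArg (η : U → ℂ) (φ.apply_symm_apply w))
      right_inv := fun η => Subtype.ext (funext fun w => congrArg (η : U' → ℂ) (φ.symm_apply_apply w)) }
  have hE : ∀ η, Nat.card (autE hU' (Φ η)) = Nat.card (autE hU η) := by
    intro η
    have hs : Nat.card (stab hU' (Φ η)) = Nat.card (stab hU η) := by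
      refine Nat.card_congr
        { toFun := fun m => ⟨m.1.1, show twist hU η m.1.1 = η from Subtype.ext (funext fun w => ?_)⟩
          invFun := fun m => ⟨⟨m.1, hN' _⟩, show twist hU' (Φ η) _ = Φ η from
            Subtype.ext (funext fun w => ?_)⟩
          left_inv := fun m => rfl
          right_inv := fun m => rfl }
      · have h := congrFun (congrArg Subtype.val
          (show twist hU' (Φ η) m.1 = Φ η from m.2)) (φ.symm w)
        have e : φ (φ.symm w) = w := φ.apply_symm_apply w
        calc (twist hU η m.1.1 : U → ℂ) w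
            = (Φ η : U' → ℂ) (conjU hU' m.1 (φ.symm w)) := rfl
          _ = (Φ η : U' → ℂ) (φ.symm w) := h
          _ = (η : U → ℂ) w := congrArg (η : U → ℂ) e
      · exact congrFun (congrArg Subtype.val (show twist hU η m.1 = η from m.2)) (φ w)
    have e1 := card_autE hP hU η
    have e2 := card_autE hP' hU' (Φ η)
    rw [hs, hUU, ← e1] at e2
    exact Nat.eq_of_mul_eq_mul_right (Nat.mul_pos hp.pos Nat.card_pos) e2
  rw [← Equiv.sum_comp Φ (fun η => Nat.card (autE hU' η) *
    (Nat.card (autE hU' η) + (p - 1) / Nat.card (autE hU' η))),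
    Finset.sum_congr rfl fun η _ => by rw [hE η], ← h1, hf] at h2
  have hpos : 0 < fP P := Nat.pos_of_ne_zero fun h => not_dvd_fP hP hU (h ▸ dvd_zero p)
  rw [← Nat.eq_of_mul_eq_mul_left hpos h2, Nat.card_congr (Equiv.subtypeUnivEquiv hall)]
  exact CharBasicOrth.card_irrCharacter

end Cfsg.Agent.S4502
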