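import Cfsg.Statements.S4506
import Cfsg.Agent.Lib.GaloisChar80
import Cfsg.Agent.Lib.ClassAlgebraOmega

set_option autoImplicit false
open Cfsg
open scoped ComplexConjugate

namespace Cfsg.Agent.S4506

open CharBasic CharBasicOrth GaloisChar80

theorem pow_congr_mod {M : Type*} [Monoid M] {w : M} {N A B : ℕ} (hw : w ^ N = 1)
    (h : A ≡ B [MOD N]) : w ^ A = w ^ B := by
  rw [← Nat.mod_add_div A N, ← Nat.mod_add_div B N, pow_add, pow_add, pow_mul, pow_mul, hw,
    one_pow, one_pow, h]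

theorem geomSum {L : ℕ} {v : ℂ} (hv : v ^ L = 1) :
    ∑ i ∈ Finset.range L, v ^ i = if v = 1 then (L : ℂ) else 0 := by
  split_ifs with h
  · simp [h]
  · rw [geom_sum_eq h, hv, sub_self, zero_div]

/-- Sum of the powers of `v` over the units modulo `p ^ a`. -/
noncomputable def pSum (p a : ℕ) [NeZero (p ^ a)] (v : ℂ) : ℂ :=
  ∑ x : (ZMod (p ^ a))ˣ, v ^ (x : ZMod (p ^ a)).val

theorem pSum_eq {p a : ℕ} (hp : p.Prime) (ha : 1 ≤ a) [NeZero (p ^ a)] {v : ℂ}
    (hv : v ^ p ^ a = 1) :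
    pSum p a v = (p ^ (a - 1) : ℂ) * ((if v = 1 then (p : ℂ) else 0) -
      (if v ^ p = 1 then 1 else 0)) := by
  have h1 : pSum p a v = ∑ i ∈ (Finset.range (p ^ a)).filter (fun i => ¬ p ∣ i), v ^ i := by
    refine Finset.sum_bij (fun x _ => (x : ZMod (p ^ a)).val) ?_ ?_ ?_ (fun _ _ => rfl)
    · intro x _
      refine Finset.mem_filter.2 ⟨Finset.mem_range.2 (ZMod.val_lt _), fun hd => ?_⟩
      exact hp.ne_one (Nat.eq_one_of_dvd_coprimes (ZMod.val_coe_unit_coprime x) hd
        (dvd_pow_self p (by omega)))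
    · intro x _ y _ h
      exact Units.ext (ZMod.val_injective _ h)
    · intro i hi
      obtain ⟨hi1, hi2⟩ := Finset.mem_filter.1 hi
      have hco : i.Coprime (p ^ a) := ((hp.coprime_iff_not_dvd).2 hi2).symm.pow_right a
      exact ⟨ZMod.unitOfCoprime i hco, Finset.mem_univ _, by
        simp [ZMod.val_natCast, Nat.mod_eq_of_lt (Finset.mem_range.1 hi1)]⟩
  have h2 : ∑ i ∈ (Finset.range (p ^ a)).filter (fun i => p ∣ i), v ^ i =
      ∑ i ∈ Finset.range (p ^ (a - 1)), (v ^ p) ^ i := by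
    symm
    refine Finset.sum_bij (fun i _ => p * i) ?_ ?_ ?_ ?_
    · intro i hi
      refine Finset.mem_filter.2 ⟨Finset.mem_range.2 ?_, dvd_mul_right _ _⟩
      have := Finset.mem_range.1 hi
      calc p * i < p * p ^ (a - 1) := Nat.mul_lt_mul_of_pos_left this hp.pos
        _ = p ^ a := by rw [← pow_succ', Nat.sub_add_cancel ha]
    · intro i _ j _ h
      exact Nat.eq_of_mul_eq_mul_left hp.pos h
    · intro i hi
      obtain ⟨hi1, ⟨j, rfl⟩⟩ := Finset.mem_filter.1 hi
      refine ⟨j, Finset.mem_range.2 ?_, rfl⟩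
      have := Finset.mem_range.1 hi1
      rw [← Nat.sub_add_cancel ha, pow_succ'] at this
      exact Nat.lt_of_mul_lt_mul_left this
    · intro i _
      rw [← pow_mul]
  have hvp : (v ^ p) ^ p ^ (a - 1) = 1 := by
    rw [← pow_mul, ← pow_succ', Nat.sub_add_cancel ha, hv]
  have h3 := Finset.sum_filter_add_sum_filter_not (Finset.range (p ^ a)) (fun i => p ∣ i) (v ^ ·)
  simp only [geomSum hv, h2, geomSum hvp] at h3
  rw [h1, eq_sub_of_add_eq' h3]
  have hpa : ((p ^ a : ℕ) : ℂ) = (p : ℂ) ^ (a - 1) * p := by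
    rw [← pow_succ, Nat.sub_add_cancel ha, Nat.cast_pow]
  split_ifs <;> simp_all <;> ring

/-- A decomposition `N = p ^ a * m` of a modulus, with CRT idempotents. -/
structure Dat where
  (p a m e e' : ℕ)
  hp : p.Prime
  ha : 1 ≤ a
  hm : ¬ p ∣ m
  hm0 : 0 < m
  he1 : e ≡ 1 [MOD p ^ a]
  he2 : e ≡ 0 [MOD m]
  he'1 : e' ≡ 0 [MOD p ^ a]
  he'2 : e' ≡ 1 [MOD m]

namespace Dat

variable (D : Dat)

/-- The modulus. -/
def N : ℕ := D.p ^ D.a * D.m

/-- The exponent, congruent to `x` modulo `p ^ a` and to `1` modulo `m`. -/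
def K (x : (ZMod (D.p ^ D.a))ˣ) : ℕ := (x : ZMod (D.p ^ D.a)).val * D.e + D.e'

theorem pa_pos : 0 < D.p ^ D.a := pow_pos D.hp.pos _

instance : NeZero (D.p ^ D.a) := ⟨D.pa_pos.ne'⟩

theorem N_pos : 0 < D.N := Nat.mul_pos D.pa_pos D.hm0

theorem cop : (D.p ^ D.a).Coprime D.m := ((D.hp.coprime_iff_not_dvd).2 D.hm).pow_left _

theorem K_mod_pa (x : (ZMod (D.p ^ D.a))ˣ) :
    D.K x ≡ (x : ZMod (D.p ^ D.a)).val [MOD D.p ^ D.a] := by
  have := (D.he1.mul_left (x : ZMod (D.p ^ D.a)).val).add D.he'1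
  simpa [K] using this

theorem K_mod_m (x : (ZMod (D.p ^ D.a))ˣ) : D.K x ≡ 1 [MOD D.m] := by
  have := (D.he2.mul_left (x : ZMod (D.p ^ D.a)).val).add D.he'2
  simpa [K] using this

theorem modEq_N {A B : ℕ} (h1 : A ≡ B [MOD D.p ^ D.a]) (h2 : A ≡ B [MOD D.m]) :
    A ≡ B [MOD D.N] := (Nat.modEq_and_modEq_iff_modEq_mul D.cop).1 ⟨h1, h2⟩

theorem K_coprime (x : (ZMod (D.p ^ D.a))ˣ) : (D.K x).Coprime D.N := by
  refine Nat.Coprime.mul_right ?_ ?_
  · rw [Nat.Coprime, (D.K_mod_pa x).gcd_eq]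
    exact ZMod.val_coe_unit_coprime x
  · rw [Nat.Coprime, (D.K_mod_m x).gcd_eq, Nat.gcd_one_left]

theorem K_mul (x y : (ZMod (D.p ^ D.a))ˣ) : D.K (x * y) ≡ D.K x * D.K y [MOD D.N] := by
  refine D.modEq_N ((D.K_mod_pa _).trans ?_) ((D.K_mod_m _).trans ?_)
  · refine Nat.ModEq.trans ?_ ((D.K_mod_pa x).mul (D.K_mod_pa y)).symm
    rw [Units.val_mul, ZMod.val_mul]
    exact Nat.mod_modEq _ _
  · exact ((D.K_mod_m x).mul (D.K_mod_m y)).symm

theorem K_one : D.K 1 ≡ 1 [MOD D.N] := by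
  refine D.modEq_N ((D.K_mod_pa _).trans ?_) (D.K_mod_m _)
  rw [Units.val_one]
  haveI : Fact (1 < D.p ^ D.a) := ⟨Nat.one_lt_pow (by have := D.ha; omega) D.hp.one_lt⟩
  rw [ZMod.val_one]

/-- Sum of the twists of a root of unity. -/
noncomputable def R (w : ℂ) : ℂ := ∑ x : (ZMod (D.p ^ D.a))ˣ, w ^ D.K x

theorem R_eq {w : ℂ} (hw : w ^ D.N = 1) :
    D.R w = w ^ D.e' * pSum D.p D.a (w ^ D.e) ∧ (w ^ D.e) ^ D.p ^ D.a = 1 := by
  refine ⟨?_, ?_⟩
  · rw [R, pSum, Finset.mul_sum]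
    refine Finset.sum_congr rfl fun x _ => ?_
    rw [K, pow_add, mul_comm, ← pow_mul, mul_comm (D.e)]
  · rw [← pow_mul]
    refine (pow_congr_mod hw (B := 0) ?_).trans (pow_zero w)
    refine D.modEq_N ?_ ?_
    · exact Nat.modEq_zero_iff_dvd.2 (dvd_mul_left _ _)
    · exact (Nat.modEq_zero_iff_dvd.2 ((Nat.modEq_zero_iff_dvd.1 D.he2).mul_right _))

theorem isIntegral_root {w : ℂ} (hw : w ^ D.N = 1) : IsIntegral ℤ w :=
  IsIntegral.of_pow D.N_pos (by rw [hw]; exact isIntegral_one)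

theorem R_dvd {w : ℂ} (hw : w ^ D.N = 1) :
    ∃ I : ℂ, IsIntegral ℤ I ∧ D.R w = (D.p : ℂ) ^ (D.a - 1) * I := by
  obtain ⟨h1, h2⟩ := D.R_eq hw
  refine ⟨w ^ D.e' * ((if w ^ D.e = 1 then (D.p : ℂ) else 0) -
      (if (w ^ D.e) ^ D.p = 1 then 1 else 0)), ?_, ?_⟩
  · refine ((D.isIntegral_root hw).pow _).mul ?_
    have hpi : IsIntegral ℤ (D.p : ℂ) := by
      simpa using (isIntegral_algebraMap (R := ℤ) (A := ℂ) (x := (D.p : ℤ)))
    split_ifs <;> first
      | exact hpi.sub isIntegral_one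
      | exact hpi.sub isIntegral_zero
      | exact isIntegral_zero.sub isIntegral_one
      | exact isIntegral_zero.sub isIntegral_zero
  · rw [h1, pSum_eq D.hp D.ha h2]; ring

theorem R_zero {w : ℂ} (hw : w ^ D.N = 1) (h : (w ^ D.e) ^ D.p ≠ 1) : D.R w = 0 := by
  obtain ⟨h1, h2⟩ := D.R_eq hw
  have h3 : w ^ D.e ≠ 1 := fun h0 => h (by rw [h0, one_pow])
  rw [h1, pSum_eq D.hp D.ha h2, if_neg h3, if_neg h]; ring

theorem pow_e {w : ℂ} (hw : w ^ D.p ^ D.a = 1) : w ^ D.e = w ∧ w ^ D.e' = 1 :=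
  ⟨(pow_congr_mod hw D.he1).trans (pow_one w), (pow_congr_mod hw D.he'1).trans (pow_zero w)⟩

theorem R_diff {w η : ℂ} (hw : w ^ D.N = 1) (hη : η ^ D.p = 1) :
    D.R (η * w) - D.R w = (D.p : ℂ) ^ D.a * (w ^ D.e' *
      ((if η * w ^ D.e = 1 then 1 else 0) - (if w ^ D.e = 1 then 1 else 0))) := by
  have hηa : η ^ D.p ^ D.a = 1 := by
    rw [← Nat.sub_add_cancel D.ha, pow_succ', pow_mul, hη, one_pow]
  have hηw : (η * w) ^ D.N = 1 := by
    rw [mul_pow, hw, N, pow_mul, hηa, one_pow, mul_one]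
  obtain ⟨h1, h2⟩ := D.R_eq hw
  obtain ⟨h1', h2'⟩ := D.R_eq hηw
  rw [h1, h1', mul_pow, mul_pow, (D.pow_e hηa).1, (D.pow_e hηa).2, one_mul]
  rw [mul_pow, (D.pow_e hηa).1] at h2'
  rw [pSum_eq D.hp D.ha h2, pSum_eq D.hp D.ha h2', mul_pow, hη, one_mul]
  have : (D.p : ℂ) ^ D.a = (D.p : ℂ) ^ (D.a - 1) * D.p := by
    rw [← pow_succ, Nat.sub_add_cancel D.ha]
  rw [this]
  split_ifs <;> ring

/-- An algebraic integer in the field of `N`-th roots of unity is an integral combination of them. -/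
theorem exists_comb {ζ : ℂ} (hζ : IsPrimitiveRoot ζ D.N) {z : ℂ} (hz : IsIntegral ℤ z)
    (hzF : z ∈ IntermediateField.adjoin ℚ ({ζ} : Set ℂ)) :
    z ∈ Submodule.span ℤ (Set.range fun i : ℕ => ζ ^ i) := by
  have : NeZero D.N := ⟨D.N_pos.ne'⟩
  let L := CyclotomicField D.N ℚ
  have : IsCyclotomicExtension {D.N} ℚ L := CyclotomicField.isCyclotomicExtension D.N ℚ
  have hξ : IsPrimitiveRoot (IsCyclotomicExtension.zeta D.N ℚ L) D.N :=
    IsCyclotomicExtension.zeta_spec D.N ℚ L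
  set ξ := IsCyclotomicExtension.zeta D.N ℚ L
  have : FiniteDimensional ℚ L := IsCyclotomicExtension.finiteDimensional {D.N} ℚ L
  let φ : L →ₐ[ℚ] ℂ := IsAlgClosed.lift
  have hφ : IsPrimitiveRoot (φ ξ) D.N := hξ.map_of_injective φ.injective
  obtain ⟨j, -, hj⟩ := hζ.eq_pow_of_pow_eq_one hφ.pow_eq_one
  obtain ⟨l, -, hl⟩ := hφ.eq_pow_of_pow_eq_one hζ.pow_eq_one
  have hF : IntermediateField.adjoin ℚ ({ζ} : Set ℂ) ≤ φ.fieldRange := by
    rw [IntermediateField.adjoin_le_iff, Set.singleton_subset_iff]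
    exact ⟨ξ ^ l, by simp [hl]⟩
  obtain ⟨w, rfl⟩ := hF hzF
  have hwi : IsIntegral ℤ w :=
    (isIntegral_algHom_iff (φ.restrictScalars ℤ) φ.injective).1 hz
  have := IsCyclotomicExtension.Rat.isIntegralClosure_adjoin_singleton hξ
  obtain ⟨⟨y, hy⟩, hyw⟩ := this.isIntegral_iff.1 hwi
  have hw' : w ∈ Algebra.adjoin ℤ ({ξ} : Set L) := by rw [← hyw]; exact hy
  have h3 : (φ.restrictScalars ℤ) w ∈ (Algebra.adjoin ℤ ({ξ} : Set L)).map (φ.restrictScalars ℤ) :=
    ⟨w, hw', rfl⟩
  rw [AlgHom.map_adjoin_singleton, ← Subalgebra.mem_toSubmodule, Algebra.adjoin_eq_span] at h3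
  refine Submodule.span_mono ?_ h3
  intro x hx
  obtain ⟨i, rfl⟩ := Submonoid.mem_closure_singleton.1 hx
  exact ⟨j * i, by simp [pow_mul, hj]⟩

theorem exists_auts : ∃ σ : (ZMod (D.p ^ D.a))ˣ → (ℂ ≃+* ℂ),
    ∀ x z, z ^ D.N = 1 → σ x z = z ^ D.K x := by
  choose σ hσ using fun x => exists_aut D.N_pos (D.K_coprime x)
  exact ⟨σ, hσ⟩

/-- The twisted trace of a root times an integer of the cyclotomic field. -/
theorem trace_comb (σ : (ZMod (D.p ^ D.a))ˣ → (ℂ ≃+* ℂ))
    (hσ : ∀ x z, z ^ D.N = 1 → σ x z = z ^ D.K x) {ζ : ℂ} (hζ : ζ ^ D.N = 1) (f : ℂ → ℂ)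
    (k : ℕ) (hf0 : f 0 = 0) (hfa : ∀ u v, f (u + v) = f u + f v)
    (hfi : ∀ (c : ℤ) (u : ℂ), f (c • u) = c • f u)
    (hroot : ∀ i : ℕ, ∃ I : ℂ, IsIntegral ℤ I ∧ ∑ x, σ x (f (ζ ^ i)) = (D.p : ℂ) ^ k * I)
    {z : ℂ} (hz : z ∈ Submodule.span ℤ (Set.range fun i : ℕ => ζ ^ i)) :
    ∃ I : ℂ, IsIntegral ℤ I ∧ ∑ x, σ x (f z) = (D.p : ℂ) ^ k * I := by
  induction hz using Submodule.span_induction with
  | mem u hu => obtain ⟨i, rfl⟩ := hu; exact hroot i
  | zero => exact ⟨0, isIntegral_zero, by simp [hf0]⟩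
  | add u v _ _ hu hv =>
    obtain ⟨I, hI, hu⟩ := hu
    obtain ⟨J, hJ, hv⟩ := hv
    exact ⟨I + J, hI.add hJ, by simp [hfa, map_add, Finset.sum_add_distrib, hu, hv, mul_add]⟩
  | smul c u _ hu =>
    obtain ⟨I, hI, hu⟩ := hu
    refine ⟨c • I, hI.smul c, ?_⟩
    simp only [hfi, map_zsmul, ← Finset.smul_sum, hu]
    exact (mul_smul_comm c _ I).symm

end Dat

theorem natCast_isIntegral (k : ℕ) : IsIntegral ℤ (k : ℂ) := by
  simpa using (isIntegral_algebraMap (R := ℤ) (A := ℂ) (x := (k : ℤ)))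

variable {G : Type*} [Group G] [Finite G]

theorem exists_roots (χ : IrrCharacter G) (g : G) :
    ∃ (n : ℕ) (μ : Fin n → ℂ), (∀ i, μ i ^ orderOf g = 1) ∧
      ∀ k : ℕ, (χ : G → ℂ) (g ^ k) = ∑ i, μ i ^ k := by
  obtain ⟨n, ρ, hρ⟩ := isCharacter_of_isIrrCharacter χ.2
  obtain ⟨b, μ, -, h2, -, h4⟩ := exists_rep_eigenbasis ρ g
  exact ⟨_, μ, h2, fun k => by rw [← hρ]; exact h4 k⟩

theorem value_mem_adjoin (χ : IrrCharacter G) {ζ : ℂ} {N : ℕ} [NeZero N]
    (hζ : IsPrimitiveRoot ζ N) (hN : Nat.card G = N) (g : G) :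
    (χ : G → ℂ) g ∈ IntermediateField.adjoin ℚ ({ζ} : Set ℂ) := by
  obtain ⟨n, μ, h1, h2⟩ := exists_roots χ g
  rw [← pow_one g, h2]
  refine sum_mem fun i _ => pow_mem ?_ _
  obtain ⟨j, -, hj⟩ := hζ.eq_pow_of_pow_eq_one (ξ := μ i) (by
    obtain ⟨c, hc⟩ := orderOf_dvd_natCard g
    rw [← hN, hc, pow_mul, h1, one_pow])
  rw [← hj]
  exact pow_mem (IntermediateField.mem_adjoin_simple_self ℚ ζ) _

theorem map_value (χ : IrrCharacter G) {N k : ℕ} (hN : Nat.card G = N) (σ : ℂ ≃+* ℂ)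
    (hσ : ∀ z : ℂ, z ^ N = 1 → σ z = z ^ k) (g : G) :
    σ ((χ : G → ℂ) g) = (χ : G → ℂ) (g ^ k) := by
  obtain ⟨n, μ, h1, h2⟩ := exists_roots χ g
  conv_lhs => rw [← pow_one g, h2]
  rw [h2, map_sum]
  refine Finset.sum_congr rfl fun i _ => ?_
  rw [pow_one, hσ]
  obtain ⟨c, hc⟩ := orderOf_dvd_natCard g
  rw [← hN, hc, pow_mul, h1, one_pow]

theorem dvd_nat_of_integral {p k : ℕ} (hp : p ≠ 0) {z : ℂ} (hz : IsIntegral ℤ z)
    (h : (k : ℂ) = (p : ℂ) * z) : p ∣ k :=
  ClassAlgebraVal.dvd_of_integral hp hz (by rw [h])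

/-- The twisting subgroup of a character. -/
def fixSub (D : Dat) (hN : Nat.card G = D.N) (χ : IrrCharacter G) :
    Subgroup (ZMod (D.p ^ D.a))ˣ where
  carrier := {x | ∀ g : G, (χ : G → ℂ) (g ^ D.K x) = (χ : G → ℂ) g}
  one_mem' g := by
    rw [pow_congr_mod (N := D.N) (by rw [← hN, pow_card_eq_one']) D.K_one, pow_one]
  mul_mem' {x y} hx hy g := by
    rw [pow_congr_mod (N := D.N) (by rw [← hN, pow_card_eq_one']) (D.K_mul x y), pow_mul, hy, hx]
  inv_mem' {x} hx g := by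
    rw [← hx (g ^ D.K x⁻¹), ← pow_mul,
      ← pow_congr_mod (N := D.N) (by rw [← hN, pow_card_eq_one']) (D.K_mul x⁻¹ x),
      inv_mul_cancel,
      pow_congr_mod (N := D.N) (by rw [← hN, pow_card_eq_one']) D.K_one, pow_one]

theorem congr_sub_dvd {D : Dat} (x : (ZMod (D.p ^ D.a))ˣ) {j : ℕ} (hj : j ≤ D.a) :
    x ∈ (ZMod.unitsMap (pow_dvd_pow D.p hj)).ker ↔
      (x : ZMod (D.p ^ D.a)).val ≡ 1 [MOD D.p ^ j] := by
  rw [MonoidHom.mem_ker, ← ZMod.natCast_eq_natCast_iff, Nat.cast_one, ZMod.natCast_val, Units.ext_iff,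
    Units.val_one, ZMod.unitsMap_val]

theorem ker_card {D : Dat} {j : ℕ} (hj : j ≤ D.a) :
    Nat.card (ZMod.unitsMap (pow_dvd_pow D.p hj)).ker * Nat.totient (D.p ^ j) =
      Nat.totient (D.p ^ D.a) := by
  haveI : NeZero (D.p ^ j) := ⟨(pow_pos D.hp.pos j).ne'⟩
  have h1 := (ZMod.unitsMap (pow_dvd_pow D.p hj)).ker.card_mul_index
  rw [Subgroup.index_ker, MonoidHom.range_eq_top.2 (ZMod.unitsMap_surjective (pow_dvd_pow D.p hj)),
    Subgroup.card_top] at h1
  simpa [Nat.card_eq_fintype_card, ZMod.card_units_eq_totient] using h1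

/-- The key bound: a character of level `n ≥ 2` has at least that much defect. -/
theorem level_le_defect (D : Dat) (hN : Nat.card G = D.N) (χ : IrrCharacter G) {b c n : ℕ}
    (hdeg : charDegree (χ : G → ℂ) = D.p ^ b * c) (hc : 0 < c) (hba : b ≤ D.a) (hn2 : 2 ≤ n) (hna : n ≤ D.a)
    (hin : (ZMod.unitsMap (pow_dvd_pow D.p hna)).ker ≤ fixSub D hN χ)
    (hout : ∀ h' : n - 1 ≤ D.a,
      ¬ (ZMod.unitsMap (pow_dvd_pow D.p h')).ker ≤ fixSub D hN χ) : b + n ≤ D.a := by
  classical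
  by_contra hlt
  rw [not_le] at hlt
  have := Fintype.ofFinite G
  haveI : NeZero D.N := ⟨D.N_pos.ne'⟩
  have hp0 : (D.p : ℂ) ≠ 0 := Nat.cast_ne_zero.2 D.hp.ne_zero
  have hm0 : (D.m : ℂ) ≠ 0 := Nat.cast_ne_zero.2 D.hm0.ne'
  have hχ1 : (χ : G → ℂ) 1 = (D.p : ℂ) ^ b * c := by
    rw [ClassAlgebraVal.apply_one_eq_charDegree, hdeg]; push_cast; rfl
  obtain ⟨ζ, hζ⟩ : ∃ ζ : ℂ, IsPrimitiveRoot ζ D.N :=
    ⟨_, Complex.isPrimitiveRoot_exp D.N D.N_pos.ne'⟩
  have hpn : D.p ^ n ∣ D.N := (pow_dvd_pow _ hna).mul_right _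
  obtain ⟨q, hq⟩ := hpn
  have hq' : D.N = q * D.p ^ n := by rw [hq, mul_comm]
  set ε : ℂ := ζ ^ q with hεdef
  have hε : IsPrimitiveRoot ε (D.p ^ n) := hζ.pow D.N_pos hq'
  have hεa : ε ^ D.p ^ D.a = 1 := by
    rw [← Nat.add_sub_cancel' hna, pow_add, pow_mul, hε.pow_eq_one, one_pow]
  have hεN : ε ^ D.N = 1 := by rw [Dat.N, pow_mul, hεa, one_pow]
  obtain ⟨σ, hσ⟩ := D.exists_auts
  have hσv : ∀ x g, σ x ((χ : G → ℂ) g) = (χ : G → ℂ) (g ^ D.K x) := fun x g =>
    map_value χ hN (σ x) (hσ x) g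
  set B : G → ℂ := fun g => ∑ x, ε ^ D.K x * (χ : G → ℂ) (g ^ D.K x) with hBdef
  have hBclass : ∀ g h, IsConj g h → B g = B h := by
    intro g h hgh
    obtain ⟨u, rfl⟩ := isConj_iff.1 hgh
    refine Finset.sum_congr rfl fun x _ => ?_
    rw [conj_pow, ClassAlgebraVal.irr_conj χ (isConj_iff.2 ⟨u, rfl⟩ : IsConj (g ^ D.K x) _)]
  -- divisibility of the coefficients
  have hB : ∀ g, ∃ I : ℂ, IsIntegral ℤ I ∧
      (D.m : ℂ) * B g = (D.p : ℂ) ^ (2 * D.a - n + 1 - b) * I := by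
    intro g
    by_cases hg : D.p ^ n ∣ orderOf g
    · set C := Nat.card (Subgroup.centralizer ({g} : Set G)) with hC
      set Kc := (Subgroup.centralizer ({g} : Set G)).index with hKc
      obtain ⟨C1, hC1⟩ : D.p ^ n ∣ C := by
        refine hg.trans ?_
        have hgC : g ∈ Subgroup.centralizer ({g} : Set G) :=
          Subgroup.mem_centralizer_singleton_iff.2 rfl
        rw [← Subgroup.orderOf_mk g hgC]
        exact orderOf_dvd_natCard _
      have hω : IsIntegral ℤ ((Kc : ℂ) * (χ : G → ℂ) g / (χ : G → ℂ) 1) :=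
        ClassAlgebraOmega.isIntegral_centralChar χ.2 g
      set ω := (Kc : ℂ) * (χ : G → ℂ) g / (χ : G → ℂ) 1 with hωd
      have h1 : (Kc : ℂ) * (χ : G → ℂ) g = (D.p : ℂ) ^ b * c * ω := by
        rw [hωd, hχ1, mul_div_cancel₀]
        exact mul_ne_zero (pow_ne_zero _ hp0) (Nat.cast_ne_zero.2 hc.ne')
      have hKC : (Kc : ℂ) * C = (D.p : ℂ) ^ D.a * D.m := by
        rw [hKc, hC, ← Nat.cast_mul, Subgroup.index_mul_card, hN, Dat.N]; push_cast; rfl
      obtain ⟨t, ht⟩ := Nat.exists_eq_add_of_le (show D.a ≤ b + n by omega)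
      have hz0 : (D.m : ℂ) * (χ : G → ℂ) g = (D.p : ℂ) ^ t * (c * ω * C1) := by
        apply mul_left_cancel₀ (pow_ne_zero D.a hp0)
        calc (D.p : ℂ) ^ D.a * ((D.m : ℂ) * (χ : G → ℂ) g) = ((Kc : ℂ) * (χ : G → ℂ) g) * C := by
              rw [← mul_assoc, ← hKC]; ring
          _ = (D.p : ℂ) ^ (b + n) * (c * ω * C1) := by
              rw [h1, hC1, pow_add]; push_cast; ring
          _ = (D.p : ℂ) ^ D.a * ((D.p : ℂ) ^ t * (c * ω * C1)) := by rw [ht, pow_add]; ring
      set z : ℂ := c * ω * C1 with hzd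
      have hzi : IsIntegral ℤ z :=
        ((natCast_isIntegral c).mul hω).mul (natCast_isIntegral C1)
      have hzF : z ∈ IntermediateField.adjoin ℚ ({ζ} : Set ℂ) := by
        have : z = (D.m : ℂ) * (χ : G → ℂ) g / (D.p : ℂ) ^ t := by
          rw [hz0, mul_div_cancel_left₀ _ (pow_ne_zero _ hp0)]
        rw [this]
        exact div_mem (mul_mem (natCast_mem _ _) (value_mem_adjoin χ hζ hN g))
          (pow_mem (natCast_mem _ _) _)
      obtain ⟨I, hI, hsum⟩ := D.trace_comb σ hσ hζ.pow_eq_one (fun u => ε * u) (D.a - 1)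
        (mul_zero ε) (mul_add ε) (fun k u => mul_smul_comm k ε u) (fun i => by
          have hw : (ε * ζ ^ i) ^ D.N = 1 := by
            rw [mul_pow, hεN, one_mul, ← pow_mul, mul_comm, pow_mul, hζ.pow_eq_one, one_pow]
          obtain ⟨I, hI, hR⟩ := D.R_dvd hw
          exact ⟨I, hI, by rw [← hR]; exact Finset.sum_congr rfl fun x _ => hσ x _ hw⟩)
        (D.exists_comb hζ hzi hzF)
      have hBm : (D.m : ℂ) * B g = (D.p : ℂ) ^ (t + (D.a - 1)) * I := by
        rw [pow_add, mul_assoc, ← hsum, Finset.mul_sum]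
        simp only [hBdef, Finset.mul_sum]
        refine Finset.sum_congr rfl fun x _ => ?_
        rw [map_mul, hσ x ε hεN, ← hσv]
        have : σ x ((D.m : ℂ) * (χ : G → ℂ) g) = σ x ((D.p : ℂ) ^ t * z) := by rw [hz0]
        rw [map_mul, map_mul, map_natCast, map_pow, map_natCast] at this
        linear_combination (ε ^ D.K x) * this
      obtain ⟨s, hs⟩ := Nat.exists_eq_add_of_le
        (show 2 * D.a - n + 1 - b ≤ t + (D.a - 1) by omega)
      exact ⟨(D.p : ℂ) ^ s * I, ((natCast_isIntegral _).pow _).mul hI, by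
        rw [hBm, hs, pow_add]; ring⟩
    · refine ⟨0, isIntegral_zero, ?_⟩
      rw [mul_zero]
      have hdv : orderOf g ∣ D.p ^ (n - 1) * D.m := by
        have h1 : orderOf g ∣ D.p ^ D.a * D.m := by
          have := orderOf_dvd_natCard g; rwa [hN] at this
        obtain ⟨i, hi, hgi⟩ := (Nat.dvd_prime_pow D.hp).1
          (Nat.gcd_dvd_right (orderOf g) (D.p ^ D.a))
        have hin : i < n := by
          by_contra hni
          exact hg ((pow_dvd_pow _ (not_lt.1 hni)).trans (hgi ▸ Nat.gcd_dvd_left _ _))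
        have h2 : orderOf g ∣ (orderOf g).gcd (D.p ^ D.a) * D.m :=
          (Nat.dvd_gcd_mul_iff_dvd_mul).2 h1
        rw [hgi] at h2
        exact h2.trans (Nat.mul_dvd_mul_right (pow_dvd_pow _ (by omega)) _)
      obtain ⟨d, μ, hμ1, hμ2⟩ := exists_roots χ g
      have : B g = ∑ i, D.R (ε * μ i) := by
        simp only [hBdef, Dat.R, hμ2, Finset.mul_sum, mul_pow]
        exact Finset.sum_comm
      rw [this, Finset.sum_eq_zero, mul_zero]
      intro i _
      have hμn : μ i ^ (D.p ^ (n - 1) * D.m) = 1 := by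
        obtain ⟨k, hk⟩ := hdv
        rw [hk, pow_mul, hμ1, one_pow]
      have hμN : μ i ^ D.N = 1 := by
        obtain ⟨k, hk⟩ := orderOf_dvd_natCard g
        rw [← hN, hk, pow_mul, hμ1, one_pow]
      refine D.R_zero (by rw [mul_pow, hεN, hμN, one_mul]) fun h => ?_
      rw [mul_pow, (D.pow_e hεa).1] at h
      have h2 : (ε * μ i ^ D.e) ^ D.p ^ (n - 1) = 1 := by
        rw [show n - 1 = (n - 2) + 1 by omega, pow_succ', pow_mul, h, one_pow]
      have h3 : (μ i ^ D.e) ^ D.p ^ (n - 1) = 1 := by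
        obtain ⟨k, hk⟩ := Nat.modEq_zero_iff_dvd.1 D.he2
        rw [← pow_mul, hk, mul_right_comm, mul_comm D.m, pow_mul, hμn, one_pow]
      rw [mul_pow, h3, mul_one] at h2
      exact hε.pow_ne_one_of_pos_of_lt (pow_pos D.hp.pos _).ne'
        (Nat.pow_lt_pow_right D.hp.one_lt (by omega)) h2
  -- the orthogonality relation
  set H := fixSub D hN χ with hHdef
  set S : ℂ := ∑ x ∈ Finset.univ.filter (· ∈ H), ε ^ D.K x with hS
  have horth : ∑ g : G, B g⁻¹ * (χ : G → ℂ) g = (Nat.card G : ℂ) * S := by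
    simp only [hBdef, Finset.sum_mul]
    rw [Finset.sum_comm, hS, Finset.mul_sum, Finset.sum_filter]
    refine Finset.sum_congr rfl fun x _ => ?_
    have hk : (D.K x).Coprime (Nat.card G) := by rw [hN]; exact D.K_coprime x
    have h1 : ∀ g : G, ε ^ D.K x * (χ : G → ℂ) (g⁻¹ ^ D.K x) * (χ : G → ℂ) g =
        ε ^ D.K x * ((χ : G → ℂ) g * conj ((twist hk χ : G → ℂ) g)) := by
      intro g
      rw [← isCharacter_inv (isCharacter_of_isIrrCharacter (twist hk χ).2), twist_apply]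
      ring
    rw [Finset.sum_congr rfl fun g _ => h1 g, ← Finset.mul_sum, ← card_mul_classInner]
    by_cases hx : x ∈ H
    · rw [if_pos hx]
      have : (twist hk χ : G → ℂ) = (χ : G → ℂ) := funext hx
      rw [this, classInner_irr_self χ.2]; ring
    · rw [if_neg hx, classInner_irr_ne χ.2 (twist hk χ).2 ?_]
      · ring
      · intro h; exact hx fun g => (congrFun h g).symm
  choose J hJi hJ using hB
  obtain ⟨I, hIi, hI⟩ : ∃ I : ℂ, IsIntegral ℤ I ∧
      (D.m : ℂ) * ∑ g : G, B g⁻¹ * (χ : G → ℂ) g =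
        (D.p : ℂ) ^ (2 * D.a - n + 1 - b) * (χ : G → ℂ) 1 * I := by
    refine ⟨∑ C : ConjClasses G, J C.out⁻¹ *
      ((∑ g ∈ Finset.univ.filter (fun g => ConjClasses.mk g = C), (χ : G → ℂ) g) / (χ : G → ℂ) 1),
      IsIntegral.sum _ fun C _ => (hJi _).mul (ClassAlgebraOmega.isIntegral_sum_div χ.2 _ ?_), ?_⟩
    · intro g hg x
      simp only [Finset.mem_filter, Finset.mem_univ, true_and] at hg ⊢
      rw [← hg]
      exact (ConjClasses.mk_eq_mk_iff_isConj.2 (isConj_iff.2 ⟨x, rfl⟩)).symm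
    · rw [← Finset.sum_fiberwise (Finset.univ : Finset G) ConjClasses.mk, Finset.mul_sum,
        Finset.mul_sum]
      refine Finset.sum_congr rfl fun C _ => ?_
      rw [Finset.sum_div, Finset.mul_sum, Finset.mul_sum, Finset.mul_sum]
      refine Finset.sum_congr rfl fun g hg => ?_
      have hc' : IsConj g C.out := ConjClasses.mk_eq_mk_iff_isConj.1
        ((Finset.mem_filter.1 hg).2.trans (Quotient.out_eq C).symm)
      have hc'' : IsConj g⁻¹ C.out⁻¹ := by
        obtain ⟨u, hu⟩ := isConj_iff.1 hc'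
        exact isConj_iff.2 ⟨u, by rw [← hu, conj_inv]⟩
      rw [hBclass _ _ hc'', ← mul_assoc, hJ]
      field_simp [isIrrCharacter_apply_one_ne_zero χ.2]
  have hmain : (D.m : ℂ) ^ 2 * S = (D.p : ℂ) ^ (D.a - n + 1) * (c * I) := by
    apply mul_left_cancel₀ (pow_ne_zero D.a hp0)
    rw [horth, hN, Dat.N, hχ1] at hI
    push_cast at hI
    have he : (D.p : ℂ) ^ (2 * D.a - n + 1 - b) * (D.p : ℂ) ^ b =
        (D.p : ℂ) ^ D.a * (D.p : ℂ) ^ (D.a - n + 1) := by
      rw [← pow_add, ← pow_add]; congr 1; omega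
    linear_combination hI + (c * I) * he
  -- the final trace test
  set y : ℂ := c * I with hy
  have hyi : IsIntegral ℤ y := (natCast_isIntegral c).mul hIi
  have hεF : ε ∈ IntermediateField.adjoin ℚ ({ζ} : Set ℂ) :=
    pow_mem (IntermediateField.mem_adjoin_simple_self ℚ ζ) _
  have hyF : y ∈ IntermediateField.adjoin ℚ ({ζ} : Set ℂ) := by
    have : y = (D.m : ℂ) ^ 2 * S / (D.p : ℂ) ^ (D.a - n + 1) := by
      rw [hmain, mul_div_cancel_left₀ _ (pow_ne_zero _ hp0)]
    rw [this]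
    exact div_mem (mul_mem (pow_mem (natCast_mem _ _) _) (sum_mem fun x _ => pow_mem hεF _))
      (pow_mem (natCast_mem _ _) _)
  set η : ℂ := ε ^ D.p ^ (n - 1) with hηdef
  set εi : ℂ := ε ^ (D.p ^ n - 1) with hεidef
  have hεi : εi * ε = 1 := by
    rw [hεidef, ← pow_succ, Nat.sub_add_cancel (Nat.one_le_pow _ _ D.hp.pos), hε.pow_eq_one]
  have hηp : η ^ D.p = 1 := by
    rw [hηdef, ← pow_mul, ← pow_succ, Nat.sub_add_cancel (by omega), hε.pow_eq_one]
  have hη1 : η ≠ 1 :=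
    hε.pow_ne_one_of_pos_of_lt (pow_pos D.hp.pos _).ne'
      (Nat.pow_lt_pow_right D.hp.one_lt (by omega))
  have hpowN : ∀ w : ℂ, w ^ D.N = 1 → ∀ l : ℕ, (w ^ l) ^ D.N = 1 := fun w hw l => by
    rw [← pow_mul, mul_comm, pow_mul, hw, one_pow]
  have hrootN : ∀ i j k : ℕ, (ε ^ i * ζ ^ j * ε ^ k) ^ D.N = 1 := fun i j k => by
    rw [mul_pow, mul_pow, hpowN ε hεN, hpowN ε hεN, hpowN ζ hζ.pow_eq_one, one_mul, one_mul]
  set f : ℂ → ℂ := fun u => η * (εi * u) - εi * u with hfdef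
  obtain ⟨W, hWi, hW⟩ := D.trace_comb σ hσ hζ.pow_eq_one f D.a (by simp [hfdef])
    (fun u v => by simp only [hfdef]; ring)
    (fun k u => by simp only [hfdef, mul_smul_comm, smul_sub]) (fun i => by
      have hw : (εi * ζ ^ i) ^ D.N = 1 := by simpa [hεidef] using hrootN (D.p ^ n - 1) i 0
      have hw' : (η * (εi * ζ ^ i)) ^ D.N = 1 := by
        have := hrootN (D.p ^ (n - 1) + (D.p ^ n - 1)) i 0
        simpa [hεidef, hηdef, pow_add, mul_assoc] using this
      refine ⟨(εi * ζ ^ i) ^ D.e' * ((if η * (εi * ζ ^ i) ^ D.e = 1 then 1 else 0) -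
        (if (εi * ζ ^ i) ^ D.e = 1 then 1 else 0)), ((D.isIntegral_root hw).pow _).mul ?_, ?_⟩
      · split_ifs <;> first
          | exact isIntegral_one.sub isIntegral_one
          | exact isIntegral_one.sub isIntegral_zero
          | exact isIntegral_zero.sub isIntegral_one
          | exact isIntegral_zero.sub isIntegral_zero
      · rw [← D.R_diff hw hηp, Dat.R, Dat.R, ← Finset.sum_sub_distrib]
        refine Finset.sum_congr rfl fun x _ => ?_
        rw [hfdef, map_sub, hσ x _ hw', hσ x _ hw])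
    (D.exists_comb hζ hyi hyF)
  -- evaluate the same trace on the left hand side
  set Kn := (ZMod.unitsMap (pow_dvd_pow D.p hna)).ker with hKn
  have hterm : ∀ x ∈ H, ∑ z, σ z (f (ε ^ D.K x)) =
      -(D.p : ℂ) ^ D.a * (if x ∈ Kn then 1 else 0) := by
    intro x hx
    have hw : (εi * ε ^ D.K x) ^ D.N = 1 := by
      simpa [hεidef] using hrootN (D.p ^ n - 1) 0 (D.K x)
    have hw' : (η * (εi * ε ^ D.K x)) ^ D.N = 1 := by
      have := hrootN (D.p ^ (n - 1) + (D.p ^ n - 1)) 0 (D.K x)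
      simpa [hεidef, hηdef, pow_add, mul_assoc] using this
    have hsum : ∑ z, σ z (f (ε ^ D.K x)) = D.R (η * (εi * ε ^ D.K x)) - D.R (εi * ε ^ D.K x) := by
      rw [Dat.R, Dat.R, ← Finset.sum_sub_distrib]
      refine Finset.sum_congr rfl fun z _ => ?_
      rw [hfdef, map_sub, hσ z _ hw', hσ z _ hw]
    have hwa : (εi * ε ^ D.K x) ^ D.p ^ D.a = 1 := by
      rw [mul_pow, hεidef, pow_right_comm, pow_right_comm ε (D.K x), hεa, one_pow, one_pow, one_mul]
    rw [hsum, D.R_diff hw hηp, (D.pow_e hwa).1, (D.pow_e hwa).2, one_mul]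
    have hval : ε ^ D.K x = ε ^ (x : ZMod (D.p ^ D.a)).val := pow_congr_mod hεa (D.K_mod_pa x)
    have key : (εi * ε ^ D.K x = 1) ↔ x ∈ Kn := by
      rw [hKn, congr_sub_dvd x hna, hval]
      constructor
      · intro h
        have h' : ε ^ (x : ZMod (D.p ^ D.a)).val = ε := by
          rw [← one_mul (ε ^ (x : ZMod (D.p ^ D.a)).val), ← hεi, mul_comm εi, mul_assoc, h, mul_one]
        refine ((hε.isOfFinOrder (pow_pos D.hp.pos _).ne').pow_eq_pow_iff_modEq
          (m := 1)).1 (by rw [h', pow_one]) |> fun h2 => ?_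
        rwa [← hε.eq_orderOf] at h2
      · intro h
        rw [pow_congr_mod hε.pow_eq_one h, pow_one, hεi]
    have key2 : η * (εi * ε ^ D.K x) ≠ 1 := by
      intro h
      have hn1 : n - 1 ≤ D.a := by omega
      have hx1 : x ∈ (ZMod.unitsMap (pow_dvd_pow D.p hn1)).ker := by
        rw [congr_sub_dvd x hn1]
        have h2 : ε ^ ((x : ZMod (D.p ^ D.a)).val + D.p ^ (n - 1)) = ε ^ 1 := by
          rw [pow_one, pow_add, ← hval, ← hηdef]
          calc ε ^ D.K x * η = ε * (η * (εi * ε ^ D.K x)) := by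
                linear_combination (-(ε ^ D.K x * η)) * hεi
            _ = ε := by rw [h, mul_one]
        have h3 := ((hε.isOfFinOrder (pow_pos D.hp.pos _).ne').pow_eq_pow_iff_modEq).1 h2
        rw [← hε.eq_orderOf] at h3
        have h4 := h3.of_dvd (pow_dvd_pow D.p (Nat.sub_le n 1))
        exact (Nat.ModEq.trans (by simp [Nat.ModEq]) h4)
      -- the meet of `H` with the larger kernel is the smaller one
      have hle : Kn ≤ H ⊓ (ZMod.unitsMap (pow_dvd_pow D.p hn1)).ker := by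
        refine le_inf hin fun u hu => ?_
        rw [hKn, congr_sub_dvd u hna] at hu
        rw [congr_sub_dvd u hn1]
        exact hu.of_dvd (pow_dvd_pow D.p (Nat.sub_le n 1))
      have hxn : x ∈ Kn := by
        have hcard : Nat.card (ZMod.unitsMap (pow_dvd_pow D.p hn1)).ker = D.p * Nat.card Kn := by
          have e1 := ker_card (D := D) hn1
          have e2 := ker_card (D := D) hna
          rw [← e2, Nat.totient_prime_pow D.hp (by omega), Nat.totient_prime_pow D.hp (by omega),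
            ← mul_assoc, ← mul_assoc] at e1
          revert e1
          generalize Nat.card (ZMod.unitsMap (pow_dvd_pow D.p hn1)).ker = X
          intro e1
          have hsucc : D.p ^ (n - 1) = D.p ^ (n - 1 - 1) * D.p := by
            rw [← pow_succ, Nat.sub_add_cancel (by omega : 1 ≤ n - 1)]
          rw [hsucc] at e1
          have hpos : 0 < D.p ^ (n - 1 - 1) * (D.p - 1) :=
            Nat.mul_pos (pow_pos D.hp.pos _) (by have := D.hp.two_le; omega)
          apply Nat.eq_of_mul_eq_mul_right hpos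
          rw [hKn]
          rw [← mul_assoc, e1]; ring
        have hd1 := Subgroup.card_dvd_of_le (inf_le_right :
          H ⊓ (ZMod.unitsMap (pow_dvd_pow D.p hn1)).ker ≤ _)
        obtain ⟨s, hs⟩ := Subgroup.card_dvd_of_le hle
        rw [hcard, hs, mul_comm D.p] at hd1
        rcases (Nat.dvd_prime D.hp).1 (Nat.dvd_of_mul_dvd_mul_left Nat.card_pos hd1) with rfl | rfl
        · rw [Subgroup.eq_of_le_of_card_ge hle (by rw [hs, mul_one])]
          exact ⟨hx, hx1⟩
        · exfalso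
          refine hout hn1 ?_
          rw [← Subgroup.eq_of_le_of_card_ge (inf_le_right :
            H ⊓ (ZMod.unitsMap (pow_dvd_pow D.p hn1)).ker ≤ _)
            (by rw [hcard, hs, mul_comm])]
          exact inf_le_left
      rw [key.2 hxn, mul_one] at h
      exact hη1 h
    rw [if_neg key2]
    by_cases hxK : x ∈ Kn
    · rw [if_pos hxK, if_pos (key.2 hxK)]; ring
    · rw [if_neg hxK, if_neg (mt key.1 hxK)]; ring
  have hlhs : ∑ z, σ z (f ((D.m : ℂ) ^ 2 * S)) =
      -((D.m : ℂ) ^ 2 * (D.p : ℂ) ^ D.a * (D.p : ℂ) ^ (D.a - n)) := by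
    have hf : f ((D.m : ℂ) ^ 2 * S) =
        (D.m : ℂ) ^ 2 * ∑ x ∈ Finset.univ.filter (· ∈ H), f (ε ^ D.K x) := by
      simp only [hfdef, hS, Finset.mul_sum, Finset.sum_sub_distrib, mul_sub]
      congr 1 <;> refine Finset.sum_congr rfl fun x _ => ?_ <;> ring
    rw [hf]
    simp only [map_mul, map_sum, map_pow, map_natCast, ← Finset.mul_sum]
    rw [Finset.sum_comm, Finset.sum_congr rfl fun x hx => hterm x (Finset.mem_filter.1 hx).2,
      ← Finset.mul_sum]
    have hcount : ∑ x ∈ Finset.univ.filter (· ∈ H), (if x ∈ Kn then (1 : ℂ) else 0) =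
        (D.p : ℂ) ^ (D.a - n) := by
      rw [Finset.sum_boole, Finset.filter_filter]
      have hK : Nat.card Kn = D.p ^ (D.a - n) := by
        have e2 := ker_card (D := D) hna
        rw [Nat.totient_prime_pow D.hp (by omega), Nat.totient_prime_pow D.hp (by omega),
          show D.a - 1 = (D.a - n) + (n - 1) by omega, pow_add, mul_assoc] at e2
        exact Nat.eq_of_mul_eq_mul_right
          (Nat.mul_pos (pow_pos D.hp.pos _) (by have := D.hp.two_le; omega)) e2
      rw [← Nat.cast_pow, ← hK, Nat.card_eq_fintype_card, Fintype.card_subtype]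
      congr 2
      ext x
      simp only [Finset.mem_filter, Finset.mem_univ, true_and]
      exact ⟨fun h => h.2, fun h => ⟨hin h, h⟩⟩
    rw [hcount]; ring
  have hrhs : ∑ z, σ z (f ((D.m : ℂ) ^ 2 * S)) =
      (D.p : ℂ) ^ (D.a - n + 1) * ∑ z, σ z (f y) := by
    rw [hmain, Finset.mul_sum]
    refine Finset.sum_congr rfl fun z _ => ?_
    simp only [hfdef, map_sub, map_mul, map_pow, map_natCast]; ring
  rw [hlhs, hW, pow_succ] at hrhs
  have hdvd : D.p ∣ D.m ^ 2 := by
    refine dvd_nat_of_integral D.hp.ne_zero hWi.neg ?_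
    push_cast
    apply mul_left_cancel₀ (mul_ne_zero (pow_ne_zero D.a hp0) (pow_ne_zero (D.a - n) hp0))
    linear_combination -hrhs
  exact D.hm (D.hp.dvd_of_dvd_pow hdvd)

/-- Let G be a finite group, p a prime, p^a the p-part of the order of G and g′ its p′-part. Call two irreducible characters p-conjugate when one is obtained from the other by applying a field automorphism of ℂ that fixes the g′-th roots of unity, and let r be the number of characters p-conjugate to the irreducible character χ (χ included). Then the exponent of p in r·χ(1) is at most a; and if p^a divides r·χ(1) then p^a already divides χ(1). -/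
theorem result {G : Type*} [Group G] [Finite G] (p : ℕ) (hp : p.Prime) (χ : Cfsg.IrrCharacter G) (r : ℕ) (hr : Nat.card {ψ : Cfsg.IrrCharacter G // ∃ σ : ℂ ≃+* ℂ, σ (Complex.exp (2 * Real.pi * Complex.I / ((Nat.card G / p ^ (Nat.card G).factorization p) : ℕ))) = Complex.exp (2 * Real.pi * Complex.I / ((Nat.card G / p ^ (Nat.card G).factorization p) : ℕ)) ∧ (ψ : G → ℂ) = fun g => σ ((χ : G → ℂ) g)} = r) : (r * Cfsg.charDegree (χ : G → ℂ)).factorization p ≤ (Nat.card G).factorization p ∧ (p ^ (Nat.card G).factorization p ∣ r * Cfsg.charDegree (χ : G → ℂ) → p ^ (Nat.card G).factorization p ∣ Cfsg.charDegree (χ : G → ℂ)) := by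
  classical
  have := Fintype.ofFinite G
  set a := (Nat.card G).factorization p with ha
  set m := Nat.card G / p ^ a with hm
  have hG0 : Nat.card G ≠ 0 := Nat.card_pos.ne'
  have hmN : p ^ a * m = Nat.card G := Nat.mul_div_cancel' (Nat.ordProj_dvd _ _)
  have hm0 : 0 < m := Nat.ordCompl_pos p hG0
  have hpm : ¬ p ∣ m := Nat.not_dvd_ordCompl hp hG0
  have hdeg0 : charDegree (χ : G → ℂ) ≠ 0 := (ClassAlgebraVal.charDegree_pos χ).ne'
  set b := (charDegree (χ : G → ℂ)).factorization p with hb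
  set c := charDegree (χ : G → ℂ) / p ^ b with hc
  have hdeg : charDegree (χ : G → ℂ) = p ^ b * c :=
    (Nat.mul_div_cancel' (Nat.ordProj_dvd _ _)).symm
  have hba : b ≤ a :=
    (Nat.factorization_le_iff_dvd hdeg0 hG0).2 (ClassAlgebraOmega.charDegree_dvd_card χ) p
  haveI : NeZero (p ^ a) := ⟨(pow_pos hp.pos _).ne'⟩
  have hcop : (p ^ a).Coprime m := ((hp.coprime_iff_not_dvd).2 hpm).pow_left _
  -- the conjugates are the twists
  have key : r ≠ 0 ∧ (r.factorization p = 0 ∨ r.factorization p + b < a) := by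
    rcases Nat.eq_zero_or_pos a with ha0 | ha1
    · -- no `p`-part: the only conjugate is the character itself
      have hm1 : m = Nat.card G := by rw [← hmN, ha0, pow_zero, one_mul]
      have : r = 1 := by
        rw [← hr, Nat.card_eq_one_iff_unique]
        refine ⟨⟨fun ψ φ => Subtype.ext ?_⟩, ⟨χ, RingEquiv.refl ℂ, rfl, rfl⟩⟩
        have h : ∀ ψ : IrrCharacter G, (∃ σ : ℂ ≃+* ℂ,
            σ (Complex.exp (2 * Real.pi * Complex.I / (m : ℕ))) =
              Complex.exp (2 * Real.pi * Complex.I / (m : ℕ)) ∧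
            (ψ : G → ℂ) = fun g => σ ((χ : G → ℂ) g)) → ψ = χ := by
          rintro ψ ⟨σ, hσ, hψ⟩
          refine Subtype.ext (funext fun g => ?_)
          have hfix : ∀ z : ℂ, z ^ Nat.card G = 1 → σ z = z ^ 1 := by
            intro z hz
            have hz0 := Complex.isPrimitiveRoot_exp m hm0.ne'
            rw [hm1] at hz0
            haveI : NeZero (Nat.card G) := ⟨hG0⟩
            obtain ⟨i, -, rfl⟩ := hz0.eq_pow_of_pow_eq_one hz
            rw [hm1] at hσ
            rw [pow_one, map_pow, hσ]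
          rw [hψ]
          exact (map_value χ rfl σ hfix g).trans (by rw [pow_one])
        exact (h _ ψ.2).trans (h _ φ.2).symm
      exact ⟨by omega, Or.inl (by simp [this])⟩
    · obtain ⟨e, he1, he2⟩ := Nat.chineseRemainder hcop 1 0
      obtain ⟨e', he'1, he'2⟩ := Nat.chineseRemainder hcop 0 1
      let D : Dat := ⟨p, a, m, e, e', hp, ha1, hpm, hm0, he1, he2, he'1, he'2⟩
      have hN : Nat.card G = D.N := hmN.symm
      set H := fixSub D hN χ
      have hrI : r = H.index := by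
        rw [← hr]
        symm
        let tw : (ZMod (p ^ a))ˣ → IrrCharacter G := fun x =>
          twist (k := D.K x) (by rw [hN]; exact D.K_coprime x) χ
        have hmem : ∀ x, ∃ σ : ℂ ≃+* ℂ,
            σ (Complex.exp (2 * Real.pi * Complex.I / (m : ℕ))) =
              Complex.exp (2 * Real.pi * Complex.I / (m : ℕ)) ∧
            (tw x : G → ℂ) = fun g => σ ((χ : G → ℂ) g) := by
          intro x
          obtain ⟨σ, hσ⟩ := exists_aut D.N_pos (D.K_coprime x)
          refine ⟨σ, ?_, funext fun g => (map_value χ hN σ hσ g).symm⟩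
          have hz0 := (Complex.isPrimitiveRoot_exp m hm0.ne').pow_eq_one
          rw [hσ _ (by show _ ^ (p ^ a * m) = 1; rw [Nat.mul_comm (p ^ a) m, pow_mul, hz0, one_pow]),
            pow_congr_mod hz0 (D.K_mod_m x), pow_one]
        have htw : ∀ x y, (tw x = tw y ↔ x⁻¹ * y ∈ H) := by
          intro x y
          have hN' : ∀ g : G, g ^ D.N = 1 := fun g => by rw [← hN, pow_card_eq_one']
          constructor
          · intro h g
            have h1 := congrFun (congrArg Subtype.val h) (g ^ D.K x⁻¹)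
            simp only [tw, twist_apply] at h1
            rw [← pow_mul, ← pow_mul, ← pow_congr_mod (hN' g) (D.K_mul x⁻¹ x),
              ← pow_congr_mod (hN' g) (D.K_mul x⁻¹ y), inv_mul_cancel,
              pow_congr_mod (hN' g) D.K_one, pow_one] at h1
            exact h1.symm
          · intro h
            refine Subtype.ext (funext fun g => ?_)
            show (χ : G → ℂ) (g ^ D.K x) = (χ : G → ℂ) (g ^ D.K y)
            rw [← h (g ^ D.K x), ← pow_mul, ← pow_congr_mod (hN' g) (D.K_mul x (x⁻¹ * y)),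
              mul_inv_cancel_left]
        rw [Subgroup.index]
        refine Nat.card_congr (Equiv.ofBijective
          (Quotient.lift (fun x => (⟨tw x, hmem x⟩ : {ψ : IrrCharacter G // ∃ σ : ℂ ≃+* ℂ,
            σ (Complex.exp (2 * Real.pi * Complex.I / (m : ℕ))) =
              Complex.exp (2 * Real.pi * Complex.I / (m : ℕ)) ∧
            (ψ : G → ℂ) = fun g => σ ((χ : G → ℂ) g)}))
            (fun x y h => Subtype.ext ((htw x y).2 (QuotientGroup.leftRel_apply.1 h)))) ⟨?_, ?_⟩)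
        · intro X Y
          refine Quotient.inductionOn₂ X Y fun x y h => ?_
          exact Quotient.sound (QuotientGroup.leftRel_apply.2
            ((htw x y).1 (congrArg Subtype.val h)))
        · rintro ⟨ψ, σ, hσ, hψ⟩
          haveI : NeZero D.N := ⟨D.N_pos.ne'⟩
          have hζ := Complex.isPrimitiveRoot_exp D.N D.N_pos.ne'
          set ζ := Complex.exp (2 * Real.pi * Complex.I / (D.N : ℕ))
          have hζ' := hζ.map_of_injective σ.injective
          obtain ⟨j, -, hj, hjζ⟩ := hζ.isPrimitiveRoot_iff.1 hζ'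
          have hσpow : ∀ z : ℂ, z ^ D.N = 1 → σ z = z ^ j := by
            intro z hz
            obtain ⟨i, -, rfl⟩ := hζ.eq_pow_of_pow_eq_one hz
            rw [map_pow, ← hjζ, pow_right_comm]
          have hjp : j.Coprime (p ^ a) := hj.coprime_dvd_right (dvd_mul_right _ _)
          let x : (ZMod (p ^ a))ˣ := ZMod.unitOfCoprime j hjp
          refine ⟨Quotient.mk _ x, Subtype.ext (Subtype.ext ?_)⟩
          show (fun g => (χ : G → ℂ) (g ^ D.K x)) = (ψ : G → ℂ)
          rw [hψ]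
          funext g
          rw [map_value χ hN σ hσpow g]
          have hjm : j ≡ 1 [MOD m] := by
            have hz0 := Complex.isPrimitiveRoot_exp m hm0.ne'
            rw [hσpow _ (by show _ ^ (p ^ a * m) = 1; rw [Nat.mul_comm (p ^ a) m, pow_mul, hz0.pow_eq_one, one_pow])] at hσ
            have h2 := ((hz0.isOfFinOrder hm0.ne').pow_eq_pow_iff_modEq (m := 1)).1
              (by rw [hσ, pow_one])
            rwa [← hz0.eq_orderOf] at h2
          rw [pow_congr_mod (N := D.N) (by rw [← hN, pow_card_eq_one'])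
            (D.modEq_N (A := D.K x) (B := j) ((D.K_mod_pa x).trans ?_)
              ((D.K_mod_m x).trans hjm.symm))]
          show (((x : ZMod (p ^ a))).val) ≡ j [MOD p ^ a]
          simp only [x, ZMod.coe_unitOfCoprime, ZMod.val_natCast]
          exact Nat.mod_modEq _ _
      have hr0 : r ≠ 0 := by rw [hrI]; exact Subgroup.index_ne_zero_of_finite
      refine ⟨hr0, ?_⟩
      have hex : ∃ j, ∃ hj : j ≤ D.a, (ZMod.unitsMap (pow_dvd_pow D.p hj)).ker ≤ H := by
        refine ⟨D.a, le_rfl, fun x hx => ?_⟩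
        rw [congr_sub_dvd x le_rfl] at hx
        intro g
        rw [pow_congr_mod (N := D.N) (by rw [← hN, pow_card_eq_one'])
          (D.modEq_N (A := D.K x) (B := 1) ((D.K_mod_pa x).trans hx) (D.K_mod_m x)), pow_one]
      set n := Nat.find hex with hn
      obtain ⟨hna, hker⟩ := Nat.find_spec hex
      have hdiv : r ∣ Nat.totient (p ^ n) := by
        haveI : NeZero (D.p ^ n) := ⟨(pow_pos D.hp.pos n).ne'⟩
        rw [hrI]
        refine (Subgroup.index_dvd_of_le hker).trans (dvd_of_eq ?_)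
        rw [Subgroup.index_ker,
          MonoidHom.range_eq_top.2 (ZMod.unitsMap_surjective (pow_dvd_pow D.p hna)),
          Subgroup.card_top, Nat.card_eq_fintype_card, ZMod.card_units_eq_totient]
      have htpos : Nat.totient (p ^ n) ≠ 0 := (Nat.totient_pos.2 (pow_pos hp.pos n)).ne'
      have hle : r.factorization p ≤ (Nat.totient (p ^ n)).factorization p :=
        (Nat.factorization_le_iff_dvd hr0 htpos).2 hdiv p
      have hval : (Nat.totient (p ^ n)).factorization p = n - 1 := by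
        rcases Nat.eq_zero_or_pos n with h0 | hpos
        · simp [h0]
        · rw [Nat.totient_prime_pow hp hpos, Nat.factorization_mul (pow_pos hp.pos _).ne'
            (by have := hp.two_le; omega), Finsupp.add_apply, Nat.Prime.factorization_pow hp,
            Finsupp.single_eq_same, Nat.factorization_eq_zero_of_not_dvd, add_zero]
          intro hd
          have := Nat.le_of_dvd (by have := hp.two_le; omega) hd
          have := hp.two_le
          omega
      by_cases hn2 : 2 ≤ n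
      · right
        have := level_le_defect D hN χ (b := b) (c := c) (n := n) hdeg
          (Nat.ordCompl_pos p hdeg0) hba hn2 hna hker
          (fun h' hle' => Nat.find_min hex (show n - 1 < n by omega) ⟨h', hle'⟩)
        have : b + n ≤ a := this
        omega
      · left; omega
  obtain ⟨hr0, key⟩ := key
  rw [Nat.factorization_mul hr0 hdeg0, Finsupp.add_apply, ← hb]
  refine ⟨by rcases key with h | h <;> omega, fun hdvd => ?_⟩
  have h1 : a ≤ r.factorization p + b := by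
    have := (hp.pow_dvd_iff_le_factorization (mul_ne_zero hr0 hdeg0)).1 hdvd
    rwa [Nat.factorization_mul hr0 hdeg0, Finsupp.add_apply, ← hb] at this
  refine (hp.pow_dvd_iff_le_factorization hdeg0).2 ?_
  rcases key with h | h <;> omega

end Cfsg.Agent.S4506
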