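import Cfsg.Statements.S4507
import Cfsg.Agent.Lib.BlockDefectOneCount86
import Cfsg.Agent.Lib.GaloisChar80
import Cfsg.Agent.Lib.DefectOneSign7Rep
-- import your own Cfsg.Agent.* helpers here

set_option autoImplicit false
open Cfsg

namespace Cfsg.Agent.S4507

attribute [local instance] Classical.propDecidable

open scoped ComplexConjugate IsMulCommutative
open Cfsg.Agent Cfsg.Agent.CharBasic Cfsg.Agent.BlockTheoryCentre
  Cfsg.Agent.BlockDefectOneLocal86 Cfsg.Agent.BlockDefectOneBound86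
  Cfsg.Agent.BlockDefectOneBlock86

variable {G : Type*} [Group G] [Fintype G] {p : ℕ} [Fact p.Prime] {M : Ideal AlgInt}
  {P : Sylow p G} {U : Subgroup G}

/-- An automorphism fixing the relevant roots of unity fixes the values on elements of those
orders. -/
theorem fix_value (σ : ℂ ≃+* ℂ) {n : ℕ} (hn : ∀ z : ℂ, z ^ n = 1 → σ z = z) {χ : G → ℂ}
    (hχ : IsCharacter G χ) {g : G} (hg : orderOf g ∣ n) : σ (χ g) = χ g := by
  obtain ⟨m, ρ, rfl⟩ := hχ
  obtain ⟨b, μ, -, hμ, -, hpow⟩ := CharBasic.exists_rep_eigenbasis ρ g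
  have h1 : ρ.character g = ∑ i, μ i := by simpa using hpow 1
  obtain ⟨j, hj⟩ := hg
  rw [h1, map_sum]
  exact Finset.sum_congr rfl fun i _ => hn _ (by rw [hj, pow_mul, hμ, one_pow])

/-- Characters of a block are determined by the regular values and one coefficient. -/
theorem eq_of_cval (hP : Nat.card (P : Subgroup G) = p) (hU : RegPart P U) (hM : IsPModular p M)
    {η : IrrCharacter U} {B : Set (IrrCharacter G)}
    (hind : IsInducedBlock M (Subgroup.centralizer ((P : Subgroup G) : Set G))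
      (blockOf M (ext hP hU η : _ → ℂ)) B) {χ ψ : IrrCharacter G} (hχ : χ ∈ B) (hψ : ψ ∈ B)
    (hreg : ∀ g, ¬ p ∣ orderOf g → (χ : G → ℂ) g = (ψ : G → ℂ) g)
    (hc : ∀ y ∈ (P : Subgroup G), y ≠ 1 → cval η (χ : G → ℂ) y = cval η (ψ : G → ℂ) y) :
    χ = ψ := by
  refine Subtype.ext (funext fun g => ?_)
  by_cases hg : p ∣ orderOf g
  · refine eq_singular hP hU (fun η' y hy hy1 => ?_) hg
    by_cases h : η' ∈ orbit hU η
    · obtain ⟨n, rfl⟩ := (mem_orbit hU).1 h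
      rw [← cval_conj hU η χ n y, ← cval_conj hU η ψ n y]
      exact hc _ ((Subgroup.mem_normalizer_iff.1 n.2 y).1 hy) fun e => hy1 (by simpa using e)
    · rw [cval_off_orbit hP hU hM hind h hχ hy hy1, cval_off_orbit hP hU hM hind h hψ hy hy1]
  · exact hreg g hg

/-- Let G be a finite group whose order g is divisible by the prime p exactly once, g′ = g/p, and fix a maximal ideal M of the algebraic integers containing p. Call two irreducible characters p-conjugate when a field automorphism of ℂ fixing the g′-th roots of unity carries one to the other. Let B be a p-block of positive defect (its defect group is a Sylow p-subgroup). Then B contains a subset Y (the exceptional family) such that: Y is a full p-conjugacy class (its members are pairwise p-conjugate and every p-conjugate of a member of Y lies in Y); every member of B outside Y is p-conjugate only to itself; the size t of Y divides p − 1 and B has exactly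 t + (p − 1)/t members; and there are signs δ_χ = ±1 (χ ∈ B) such that for every p-regular element x and every θ ∈ Y, Σ_{χ ∈ B ∖ Y} δ_χ χ(x) + δ_θ θ(x) = 0. -/
theorem result {G : Type*} [Group G] [Finite G] (p : ℕ) [Fact p.Prime] (M : Ideal Cfsg.AlgInt) (hM : Cfsg.IsPModular p M) (hdiv : p ∣ Nat.card G) (hsq : ¬ p ^ 2 ∣ Nat.card G) (B : Set (Cfsg.IrrCharacter G)) (hB : Cfsg.IsPBlock M B) (hd : 0 < Cfsg.blockDefect p B) : ∃ Y : Set (Cfsg.IrrCharacter G), Y ⊆ B ∧ Y.Nonempty ∧ (∀ θ ∈ Y, ∀ ψ : Cfsg.IrrCharacter G, (∃ σ : ℂ ≃+* ℂ, σ (Complex.exp (2 * Real.pi * Complex.I / ((Nat.card G / p ^ (Nat.card G).factorization p) : ℕ))) = Complex.exp (2 * Real.pi * Complex.I / ((Nat.card G / p ^ (Nat.card G).factorization p) : ℕ)) ∧ (ψ : G → ℂ) = fun g => σ ((θ : G → ℂ) g)) ↔ ψ ∈ Y) ∧ (∀ χ ∈ B, χ ∉ Y → ∀ ψ : Cfsg.IrrCharacter G, (∃ σ : ℂ ≃+* ℂ, σ (Complex.exp (2 * Real.pi * Complex.I / ((Nat.card G / p ^ (Nat.card G).factorization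 p) : ℕ))) = Complex.exp (2 * Real.pi * Complex.I / ((Nat.card G / p ^ (Nat.card G).factorization p) : ℕ)) ∧ (ψ : G → ℂ) = fun g => σ ((χ : G → ℂ) g)) → ψ = χ) ∧ Nat.card Y ∣ p - 1 ∧ Nat.card B = Nat.card Y + (p - 1) / Nat.card Y ∧ ∃ δ : Cfsg.IrrCharacter G → ℤ, (∀ χ ∈ B, δ χ = 1 ∨ δ χ = -1) ∧ ∀ x : G, ¬ p ∣ orderOf x → ∀ θ ∈ Y, (∑ᶠ χ ∈ B \ Y, (δ χ : ℂ) * (χ : G → ℂ) x) + (δ θ : ℂ) * (θ : G → ℂ) x = 0 := by
  have : Fintype G := Fintype.ofFinite G
  have hp := (Fact.out : p.Prime)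
  have P : Sylow p G := default
  have hfac : (Nat.card G).factorization p = 1 := le_antisymm
    (Nat.le_of_lt_succ (Nat.lt_of_not_le fun h =>
      hsq ((hp.pow_dvd_iff_le_factorization Nat.card_pos.ne').2 h)))
    ((hp.pow_dvd_iff_le_factorization Nat.card_pos.ne').1 (by rwa [pow_one]))
  have hP : Nat.card (P : Subgroup G) = p := by rw [P.card_eq_multiplicity, hfac, pow_one]
  haveI : Fintype ↥(P : Subgroup G) := Fintype.ofFinite _
  haveI := Cfsg.Agent.BlockPrime86.comm_P hP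
  haveI : Fintype (↥(P : Subgroup G) →* ℂˣ) := Fintype.ofFinite _
  obtain ⟨U, -, hUc, hU⟩ := DefectOneSign7.exists_regular_part P hP
  -- roots of unity
  set n := Nat.card G / p ^ (Nat.card G).factorization p with hn
  have hn' : n * p = Nat.card G := by
    rw [hn, hfac, pow_one, Nat.div_mul_cancel hdiv]
  have hpn : ¬ p ∣ n := fun ⟨j, hj⟩ => hsq ⟨j, by rw [← hn', hj]; ring⟩
  have hn0 : n ≠ 0 := fun h => hpn (h ▸ dvd_zero p)
  have hroot := Complex.isPrimitiveRoot_exp n hn0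
  have hfix : ∀ σ : ℂ ≃+* ℂ,
      σ (Complex.exp (2 * Real.pi * Complex.I / (n : ℕ))) =
        Complex.exp (2 * Real.pi * Complex.I / (n : ℕ)) → ∀ z : ℂ, z ^ n = 1 → σ z = z := by
    intro σ hσ z hz
    haveI : NeZero n := ⟨hn0⟩
    obtain ⟨i, -, rfl⟩ := hroot.eq_pow_of_pow_eq_one hz
    rw [map_pow, hσ]
  have hord : ∀ g : G, ¬ p ∣ orderOf g → orderOf g ∣ n := fun g hg =>
    (Nat.Coprime.dvd_mul_right ((hp.coprime_iff_not_dvd.2 hg).symm)).1
      (hn'.symm ▸ orderOf_dvd_natCard g)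
  -- the character `η`
  obtain ⟨χ₀, hχ₀, hχ₀d⟩ : ∃ χ ∈ B, ¬ p ∣ charDegree (χ : G → ℂ) := by
    by_contra hall
    push Not at hall
    obtain ⟨χ, hχ⟩ := BlockTheoryIdem.block_nonempty hM hB
    have h1 : 1 ≤ sInf ((fun χ : IrrCharacter G => (charDegree (χ : G → ℂ)).factorization p) '' B) := by
      refine le_csInf ⟨_, χ, hχ, rfl⟩ ?_
      rintro _ ⟨ψ, hψ, rfl⟩
      exact hp.factorization_pos_of_dvd (ClassAlgebraVal.charDegree_pos ψ).ne' (hall ψ hψ)
    rw [blockDefect, hfac] at hd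
    omega
  obtain ⟨η, y₀, hy₀, hy₀1, hne₀⟩ := exists_cval_ne hP hU hχ₀d
  obtain ⟨B', hind⟩ := exists_block hP hU hM η
  obtain rfl : B' = B := eq_of_cval_ne hP hU hM hB hind hχ₀ hy₀ hy₀1 hne₀
  obtain ⟨X, Y, a, ε, d, δ, ζ, S⟩ := exists_data hP hU hM hind
  have hmem : ∀ χ, χ ∈ B' ↔ χ ∈ X ∨ χ ∈ Y := fun χ => by
    have h := S.block χ
    simpa only [Finset.mem_filter, Finset.mem_univ, true_and] using h
  have hUn : ∀ w : U, orderOf w ∣ n := fun w => by
    rw [← Subgroup.orderOf_coe]; exact hord _ ((hU w).1 w.2).2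
  -- the action of an automorphism
  have hact : ∀ σ : ℂ ≃+* ℂ, (∀ z : ℂ, z ^ n = 1 → σ z = z) → ∀ χ ∈ B', ∀ ψ : IrrCharacter G,
      ((ψ : G → ℂ) = fun g => σ ((χ : G → ℂ) g)) → ψ ∈ B' ∧
      (∀ g, ¬ p ∣ orderOf g → (ψ : G → ℂ) g = (χ : G → ℂ) g) ∧
      ∀ y, cval η (ψ : G → ℂ) y = σ (cval η (χ : G → ℂ) y) := by
    intro σ hσ χ hχ ψ hψ
    have hreg : ∀ g, ¬ p ∣ orderOf g → (ψ : G → ℂ) g = (χ : G → ℂ) g := fun g hg => by
      rw [hψ]
      exact fix_value σ hσ (isCharacter_of_isIrrCharacter χ.2) (hord g hg)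
    refine ⟨BlockTheoryIdem.mem_of_sameBlock hM hB hχ
      (BlockTheoryNormal.sameBlock_of_regular hM fun g hg => ?_), hreg, fun y => ?_⟩
    · rw [centralChar, centralChar, hreg g hg,
        hreg 1 (by rw [orderOf_one, Nat.dvd_one]; exact hp.ne_one), sub_self]
      exact BlockTheoryLocalRing.ideal_zero hM
    · rw [cval, cval, classInner, classInner, map_mul, map_inv₀, map_natCast, map_sum, hψ]
      refine congrArg _ (Finset.sum_congr rfl fun w _ => ?_)
      rw [map_mul, ← irr_inv η w,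
        fix_value σ hσ (isCharacter_of_isIrrCharacter η.2) (g := w⁻¹) (by rw [orderOf_inv]; exact hUn w)]
  have hX : ∀ σ : ℂ ≃+* ℂ, (∀ z : ℂ, z ^ n = 1 → σ z = z) → ∀ χ ∈ X, ∀ ψ : IrrCharacter G,
      ((ψ : G → ℂ) = fun g => σ ((χ : G → ℂ) g)) → ψ = χ := by
    intro σ hσ χ hχ ψ hψ
    obtain ⟨h1, h2, h3⟩ := hact σ hσ χ ((hmem χ).2 (Or.inl hχ)) ψ hψ
    refine eq_of_cval hP hU hM hind h1 ((hmem χ).2 (Or.inl hχ)) h2 fun y hy hy1 => ?_
    have h4 : cval η (χ : G → ℂ) y = (a χ : ℂ) :=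
      S.valX χ hχ ⟨y, hy⟩ fun e => hy1 (congrArg Subtype.val e)
    rw [h3, h4, map_intCast]
  have horb : ∀ (σ : ℂ ≃+* ℂ) (φ : ↥(P : Subgroup G) →* ℂˣ) (y : ↥(P : Subgroup G)),
      BlockDefectOneShape86.orbitVal (autE hU η) (DefectOneShape7.galDual σ φ) y =
        σ (BlockDefectOneShape86.orbitVal (autE hU η) φ y) := by
    intro σ φ y
    rw [BlockDefectOneShape86.orbitVal, BlockDefectOneShape86.orbitVal, map_sum]
    symm
    refine Finset.sum_bij (fun θ _ => DefectOneShape7.galDual σ θ) (fun θ hθ => ?_)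
      (fun θ _ θ' _ h => DefectOneShape7.galDual_injective σ h) (fun θ hθ => ?_) fun θ _ => rfl
    · obtain ⟨τ, hτ, rfl⟩ := (Finset.mem_filter.1 hθ).2
      exact Finset.mem_filter.2 ⟨Finset.mem_univ _, τ, hτ, rfl⟩
    · obtain ⟨τ, hτ, rfl⟩ := (Finset.mem_filter.1 hθ).2
      exact ⟨φ.comp (τ : MulAut ↥(P : Subgroup G)).toMonoidHom,
        Finset.mem_filter.2 ⟨Finset.mem_univ _, τ, hτ, rfl⟩, rfl⟩
  have hY : ∀ σ : ℂ ≃+* ℂ, (∀ z : ℂ, z ^ n = 1 → σ z = z) → ∀ φ, φ ≠ 1 → ∀ ψ : IrrCharacter G,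
      ((ψ : G → ℂ) = fun g => σ ((ζ φ : G → ℂ) g)) → ψ = ζ (DefectOneShape7.galDual σ φ) := by
    intro σ hσ φ hφ ψ hψ
    have hφ' := DefectOneShape7.galDual_ne_one σ hφ
    have hm := (hmem _).2 (Or.inr (S.maps _ hφ))
    obtain ⟨h1, h2, h3⟩ := hact σ hσ (ζ φ) hm ψ hψ
    refine eq_of_cval hP hU hM hind h1 ((hmem _).2 (Or.inr (S.maps _ hφ')))
      (fun g hg => (h2 g hg).trans (S.agree _ (S.maps _ hφ) _ (S.maps _ hφ') ⟨g, hg⟩))
      fun y hy hy1 => ?_
    have hy' : (⟨y, hy⟩ : ↥(P : Subgroup G)) ≠ 1 := fun e => hy1 (congrArg Subtype.val e)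
    have h4 : cval η (ζ φ : G → ℂ) y = _ := S.valY φ hφ ⟨y, hy⟩ hy'
    have h5 : cval η (ζ (DefectOneShape7.galDual σ φ) : G → ℂ) y = _ := S.valY _ hφ' ⟨y, hy⟩ hy'
    rw [h3, h4, h5, horb, map_add, map_mul, map_intCast, map_intCast]
  -- transitivity
  have htrans : ∀ φ φ' : ↥(P : Subgroup G) →* ℂˣ, φ ≠ 1 → φ' ≠ 1 → ∃ σ : ℂ ≃+* ℂ,
      (∀ z : ℂ, z ^ n = 1 → σ z = z) ∧ DefectOneShape7.galDual σ φ = φ' := by
    intro φ φ' hφ hφ'
    have hcard : Nat.card (↥(P : Subgroup G) →* ℂˣ) = p := by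
      rw [CommGroup.card_monoidHom_of_hasEnoughRootsOfUnity]
      exact hP
    have hm : φ' ∈ Subgroup.zpowers φ := mem_zpowers_of_prime_card hcard hφ
    obtain ⟨k0, hk0'⟩ := Finset.mem_image.1
      ((IsOfFinOrder.mem_zpowers_iff_mem_range_orderOf (isOfFinOrder_of_finite φ)).1 hm)
    obtain ⟨k, hk1, hk2⟩ := Nat.chineseRemainder ((hp.coprime_iff_not_dvd).2 hpn) k0 1
    have hk0p : ¬ p ∣ k0 := by
      intro hd'
      apply hφ'
      rw [← hk0'.2]
      exact orderOf_dvd_iff_pow_eq_one.1 ((hcard ▸ orderOf_dvd_natCard φ).trans hd')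
    have hkc : k.Coprime (p * n) := Nat.Coprime.mul_right
      ((hp.coprime_iff_not_dvd).2 (fun hd' => hk0p
        ((Nat.modEq_zero_iff_dvd).1 (hk1.symm.trans (Nat.modEq_zero_iff_dvd.2 hd'))))).symm
      (by rw [Nat.Coprime, hk2.gcd_eq, Nat.gcd_one_left])
    obtain ⟨σ, hσ⟩ := GaloisChar80.exists_aut (Nat.mul_pos hp.pos (Nat.pos_of_ne_zero hn0)) hkc
    refine ⟨σ, fun z hz => ?_, MonoidHom.ext fun y => Units.ext ?_⟩
    · rw [hσ z (by rw [mul_comm, pow_mul, hz, one_pow]),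
        pow_eq_pow_mod k hz, show k % n = 1 % n from hk2, ← pow_eq_pow_mod 1 hz, pow_one]
    · have hyp : (φ y : ℂ) ^ p = 1 := by
        have h1 : y ^ p = 1 := by
          have h := pow_card_eq_one' (x := y)
          rwa [hP] at h
        rw [← Units.val_pow_eq_pow_val, ← map_pow, h1, map_one, Units.val_one]
      rw [DefectOneShape7.galDual_apply, hσ _ (by rw [pow_mul, hyp, one_pow]), ← hk0'.2,
        MonoidHom.pow_apply, Units.val_pow_eq_pow_val,
        pow_eq_pow_mod k hyp, show k % p = k0 % p from hk1, ← pow_eq_pow_mod k0 hyp]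
  have hYne : Y.Nonempty := by
    rw [← Finset.card_pos]
    rcases Nat.eq_zero_or_pos Y.card with h | h
    · have h' := S.cardY
      rw [h, zero_mul] at h'
      have := hp.two_le
      omega
    · exact h
  have he0 : 0 < Nat.card (autE hU η) := Nat.card_pos
  have hcY := S.cardY
  have hBset : B' \ (Y : Set (IrrCharacter G)) = (X : Set (IrrCharacter G)) := by
    ext χ
    simp only [Set.mem_sdiff, Finset.mem_coe, hmem χ]
    exact ⟨fun h => h.1.resolve_right h.2, fun h => ⟨Or.inl h, Finset.disjoint_left.1 S.disj h⟩⟩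
  refine ⟨(Y : Set (IrrCharacter G)), fun χ hχ => (hmem χ).2 (Or.inr hχ), hYne, fun θ hθ ψ => ?_,
    fun χ hχ hχY ψ => ?_, ?_, ?_, fun χ => if χ ∈ X then a χ else -ε, fun χ _ => ?_,
    fun x hx θ hθ => ?_⟩
  · obtain ⟨φ, hφ, rfl⟩ := S.surj θ hθ
    constructor
    · rintro ⟨σ, hσ, hψ⟩
      rw [hY σ (hfix σ hσ) φ hφ ψ hψ]
      exact S.maps _ (DefectOneShape7.galDual_ne_one σ hφ)
    · intro hψ
      obtain ⟨φ', hφ', rfl⟩ := S.surj ψ hψ
      obtain ⟨σ, hσ, rfl⟩ := htrans φ φ' hφ hφ'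
      refine ⟨σ, hσ _ hroot.pow_eq_one, ?_⟩
      have h := hY σ hσ φ hφ ⟨_, DefectOneSign7.isIrrCharacter_aut σ (ζ φ).2⟩ rfl
      exact (congrArg Subtype.val h).symm
  · rintro ⟨σ, hσ, hψ⟩
    exact hX σ (hfix σ hσ) χ (((hmem χ).1 hχ).resolve_right hχY) ψ hψ
  · rw [Nat.card_coe_set_eq, Set.ncard_coe_finset]
    exact ⟨Nat.card (autE hU η), by omega⟩
  · have hXY : B' = (X : Set (IrrCharacter G)) ∪ (Y : Set (IrrCharacter G)) := by
      ext χ; simpa using hmem χ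
    rw [Nat.card_coe_set_eq, Nat.card_coe_set_eq, Set.ncard_coe_finset, hXY,
      Set.ncard_union_eq (Finset.disjoint_coe.2 S.disj), Set.ncard_coe_finset, Set.ncard_coe_finset,
      S.cardX, add_comm, show p - 1 = Nat.card (autE hU η) * Y.card by rw [mul_comm]; omega,
      Nat.mul_div_cancel _ (Finset.card_pos.2 hYne)]
  · beta_reduce
    split_ifs with h
    · exact S.signX χ h
    · rcases S.sign with h' | h' <;> omega
  · beta_reduce
    rw [hBset, finsum_mem_coe_finset, if_neg (Finset.disjoint_right.1 S.disj hθ),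
      Finset.sum_congr rfl (g := fun χ : IrrCharacter G => (a χ : ℂ) * (χ : G → ℂ) x)
        fun χ hχ => by rw [if_pos hχ]]
    have h : (ε : ℂ) * (θ : G → ℂ) x = ∑ χ ∈ X, (a χ : ℂ) * (χ : G → ℂ) x :=
      S.regular θ hθ ⟨x, hx⟩
    rw [← h]
    push_cast
    ring

end Cfsg.Agent.S4507
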