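import Cfsg.Statements.S4508
import Cfsg.Agent.Lib.CharBasicDecomp
import Cfsg.Agent.Lib.CharBasicLinear

set_option autoImplicit false
open Cfsg

namespace Cfsg.Agent.S4508

open scoped ComplexConjugate
open Finset Cfsg.Agent.CharBasic Cfsg.Agent.CharBasicOrth Cfsg.Agent.CharBasicDecomp

universe u

variable {G : Type u} [Group G]

/-- Two involution-like facts about the order-`p` element with self-centralising subgroup. -/
theorem exists_conj_mem [Finite G] {p : ℕ} (hp : p.Prime) {x : G} (hx : orderOf x = p)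
    (hC : Subgroup.centralizer ({x} : Set G) = Subgroup.zpowers x) {g : G} (hg : orderOf g = p) :
    ∃ c : G, c * g * c⁻¹ ∈ Subgroup.zpowers x := by
  have : Fact p.Prime := ⟨hp⟩
  have hP : IsPGroup p (Subgroup.zpowers x) := IsPGroup.of_card (n := 1) (by rw [Nat.card_zpowers, hx, pow_one])
  obtain ⟨Q, hQ⟩ := hP.exists_le_sylow
  have hQP : (Q : Subgroup G) = Subgroup.zpowers x := by
    refine le_antisymm (fun q hq => ?_) hQ
    have : Nontrivial (Q : Subgroup G) := by
      refine ⟨⟨⟨x, hQ (Subgroup.mem_zpowers x)⟩, 1, fun e => ?_⟩⟩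
      have : x = 1 := congrArg Subtype.val e
      rw [this, orderOf_one] at hx
      exact hp.one_lt.ne hx
    obtain ⟨z, hz, hz1⟩ := (Subgroup.center (Q : Subgroup G)).bot_or_exists_ne_one.resolve_left
      (fun e => absurd Q.isPGroup'.center_nontrivial (by rw [e]; exact not_nontrivial _))
    have hcz : ∀ y : (Q : Subgroup G), y * z = z * y := Subgroup.mem_center_iff.1 hz
    have hzP : (z : G) ∈ Subgroup.zpowers x := by
      rw [← hC, Subgroup.mem_centralizer_iff]
      rintro y rfl
      exact congrArg Subtype.val (hcz ⟨_, hQ (Subgroup.mem_zpowers _)⟩)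
    have hgen : Subgroup.zpowers (z : G) = Subgroup.zpowers x := by
      refine Subgroup.eq_of_le_of_card_ge (Subgroup.zpowers_le.2 hzP) ?_
      rw [Nat.card_zpowers, Nat.card_zpowers, hx]
      have h1 := orderOf_dvd_natCard (⟨(z : G), hzP⟩ : Subgroup.zpowers x)
      rw [Nat.card_zpowers, hx, Subgroup.orderOf_mk] at h1
      rcases (Nat.dvd_prime hp).1 h1 with h | h
      · exact absurd (Subtype.ext (orderOf_eq_one_iff.1 h)) hz1
      · rw [h]
    rw [← hC, Subgroup.mem_centralizer_iff]
    rintro y rfl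
    obtain ⟨k, hk⟩ := Subgroup.mem_zpowers_iff.1 (hgen.symm ▸ Subgroup.mem_zpowers y)
    have h1 : Commute q (z : G) := congrArg Subtype.val (hcz ⟨q, hq⟩)
    rw [← hk]
    exact (h1.zpow_right k).symm
  have hgP : IsPGroup p (Subgroup.zpowers g) := IsPGroup.of_card (n := 1) (by rw [Nat.card_zpowers, hg, pow_one])
  obtain ⟨R, hR⟩ := hgP.exists_le_sylow
  obtain ⟨c, hc⟩ := MulAction.exists_smul_eq G R Q
  refine ⟨c, ?_⟩
  rw [← hQP, ← hc]
  exact ⟨g, hR (Subgroup.mem_zpowers g), rfl⟩

theorem centralizer_eq_of_mem {p : ℕ} (hp : p.Prime) [Finite G] {x : G} (hx : orderOf x = p)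
    (hC : Subgroup.centralizer ({x} : Set G) = Subgroup.zpowers x) {y : G}
    (hy : y ∈ Subgroup.zpowers x) (hy1 : y ≠ 1) :
    orderOf y = p ∧ Subgroup.centralizer ({y} : Set G) = Subgroup.zpowers x := by
  have h1 := orderOf_dvd_natCard (⟨y, hy⟩ : Subgroup.zpowers x)
  rw [Nat.card_zpowers, hx, Subgroup.orderOf_mk] at h1
  have hoy : orderOf y = p := ((Nat.dvd_prime hp).1 h1).resolve_left fun h => hy1 (orderOf_eq_one_iff.1 h)
  refine ⟨hoy, ?_⟩
  have hgen : Subgroup.zpowers y = Subgroup.zpowers x :=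
    Subgroup.eq_of_le_of_card_ge (Subgroup.zpowers_le.2 hy) (by rw [Nat.card_zpowers, Nat.card_zpowers, hx, hoy])
  rw [← hC, ← Subgroup.centralizer_closure, ← Subgroup.centralizer_closure ({x} : Set G),
    ← Subgroup.zpowers_eq_closure, ← Subgroup.zpowers_eq_closure, hgen]

theorem card_centralizer {p : ℕ} (hp : p.Prime) [Finite G] {x : G} (hx : orderOf x = p)
    (hC : Subgroup.centralizer ({x} : Set G) = Subgroup.zpowers x) {g : G} (hg : orderOf g = p) :
    Nat.card (Subgroup.centralizer ({g} : Set G)) = p := by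
  obtain ⟨c, hc⟩ := exists_conj_mem hp hx hC hg
  have hy1 : c * g * c⁻¹ ≠ 1 := fun e => by
    rw [conj_eq_one_iff] at e
    rw [e, orderOf_one] at hg
    exact hp.one_lt.ne hg
  have h1 := card_conj_mul_card_centralizer (c * g * c⁻¹)
  rw [(centralizer_eq_of_mem hp hx hC hc hy1).2, Nat.card_zpowers, hx] at h1
  have h2 := card_conj_mul_card_centralizer g
  have he : Nat.card {z : G // IsConj (c * g * c⁻¹) z} = Nat.card {z : G // IsConj g z} := by
    refine Nat.card_congr (Equiv.subtypeEquivRight fun z => ?_)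
    have h : IsConj g (c * g * c⁻¹) := isConj_iff.2 ⟨c, rfl⟩
    exact ⟨h.trans, h.symm.trans⟩
  rw [he, ← h2] at h1
  have hpos : 0 < Nat.card {z : G // IsConj g z} :=
    Nat.pos_of_ne_zero fun h0 => by
      rw [h0, zero_mul] at h2
      exact (Nat.card_pos (α := G)).ne h2
  exact (Nat.eq_of_mul_eq_mul_left hpos h1).symm

/-- Characters of degree one have constant or vanishing average on a coset. -/
theorem sum_coset_eq_zero [Fintype G] {d : ℕ} (ρ : Representation ℂ G (Fin d → ℂ)) (P : Subgroup G)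
    [Fintype P] (h0 : ∑ y : P, ρ.character y = 0) (g : G) : ∑ y : P, ρ.character (g * y) = 0 := by
  classical
  set T : Module.End ℂ (Fin d → ℂ) := ∑ y : P, ρ y with hT
  let σ : Representation ℂ P (Fin d → ℂ) := repComap P.subtype ρ
  have hinv : σ.invariants = ⊥ := by
    rw [← Submodule.finrank_eq_zero]
    have : Invertible (Fintype.card P : ℂ) := invertibleOfNonzero (Nat.cast_ne_zero.2 Fintype.card_ne_zero)
    have h := (Representation.isProj_averageMap σ).trace
    have h1 : ∑ y : P, σ.character y = 0 := h0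
    simp only [Representation.averageMap, GroupAlgebra.average, map_smul, map_sum,
      Representation.asAlgebraHom_single, one_smul, MonoidAlgebra.of_apply] at h
    rw [show (∑ y : P, LinearMap.trace ℂ _ (σ y)) = 0 from h1, smul_zero] at h
    exact_mod_cast h.symm
  have hT0 : T = 0 := by
    refine LinearMap.ext fun v => ?_
    have hm : T v ∈ σ.invariants := by
      intro a
      show ρ (a : G) (T v) = T v
      simp only [hT, LinearMap.sum_apply, map_sum, ← Module.End.mul_apply, ← map_mul]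
      exact Fintype.sum_equiv (Equiv.mulLeft a) _ _ fun y => rfl
    rw [hinv, Submodule.mem_bot] at hm
    exact hm
  have : ∑ y : P, ρ.character (g * y) = LinearMap.trace ℂ _ (ρ g * T) := by
    rw [hT, Finset.mul_sum, map_sum]
    exact Finset.sum_congr rfl fun y _ => by rw [Representation.character, map_mul]
  rw [this, hT0, mul_zero, map_zero]

theorem det_eq_neg_one [Finite G] {d : ℕ} (ρ : Representation ℂ G (Fin d → ℂ)) {f : G} {e t : ℕ}
    (hf : orderOf f = e) (he : Even e) (ht : Odd t) (hd : d = t * e)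
    (hvan : ∀ j : ℕ, 0 < j → j < e → ρ.character (f ^ j) = 0) : LinearMap.det (ρ f) = -1 := by
  classical
  obtain ⟨b, μ, h1, h2, -, h4⟩ := exists_rep_eigenbasis ρ f
  have he0 : 0 < e := hf ▸ orderOf_pos f
  have hdet : LinearMap.det (ρ f) = ∏ i, μ i := by
    rw [← LinearMap.det_toMatrix b]
    have : LinearMap.toMatrix b b (ρ f) = Matrix.diagonal μ := by
      ext i j
      rw [LinearMap.toMatrix_apply, h1, map_smul, Finsupp.smul_apply, Module.Basis.repr_self,
        Finsupp.single_apply, Matrix.diagonal_apply, smul_eq_mul]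
      split_ifs with h h' h' <;> simp_all
    rw [this, Matrix.det_diagonal]
  let ζ : ℂ := Complex.exp (2 * Real.pi * Complex.I / e)
  have hζ : IsPrimitiveRoot ζ e := Complex.isPrimitiveRoot_exp e he0.ne'
  have hmu : ∀ i, ∃ j : Fin e, μ i = ζ ^ (j : ℕ) := fun i => by
    haveI : NeZero e := ⟨he0.ne'⟩
    obtain ⟨j, hj, hj'⟩ := hζ.eq_pow_of_pow_eq_one (hf ▸ h2 i)
    exact ⟨⟨j, hj⟩, hj'.symm⟩
  choose J hJ using hmu
  have hfib : ∀ j : Fin e, (Finset.univ.filter fun i => J i = j).card = t := by
    intro j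
    have hA : ∀ i, ∑ k ∈ Finset.range e, μ i ^ k * ((ζ ^ (j : ℕ)) ^ k)⁻¹ = if J i = j then (e : ℂ) else 0 := by
      intro i
      simp only [← inv_pow ((ζ ^ (j : ℕ))), ← mul_pow, hJ i]
      split_ifs with h
      · rw [h, mul_inv_cancel₀ (pow_ne_zero _ (hζ.ne_zero he0.ne'))]
        simp
      · have hne : ζ ^ (J i : ℕ) * (ζ ^ (j : ℕ))⁻¹ ≠ 1 := by
          rw [ne_eq, mul_inv_eq_one₀ (pow_ne_zero _ (hζ.ne_zero he0.ne'))]
          exact fun h' => h (Fin.ext (hζ.pow_inj (J i).2 j.2 h'))
        rw [geom_sum_eq hne, mul_pow, inv_pow, ← pow_mul, ← pow_mul, mul_comm (J i : ℕ), mul_comm (j : ℕ),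
          pow_mul, pow_mul, hζ.pow_eq_one, one_pow, one_pow, inv_one, mul_one, sub_self, zero_div]
    have hB : ∑ i, ∑ k ∈ Finset.range e, μ i ^ k * ((ζ ^ (j : ℕ)) ^ k)⁻¹ = (d : ℂ) := by
      rw [Finset.sum_comm, Finset.sum_eq_single 0]
      · simp
      · intro k hk hk0
        rw [← Finset.sum_mul, ← h4, hvan k (Nat.pos_of_ne_zero hk0) (Finset.mem_range.1 hk), zero_mul]
      · intro h; exact absurd (Finset.mem_range.2 he0) h
    rw [Finset.sum_congr rfl fun i _ => hA i, ← Finset.sum_filter, Finset.sum_const, nsmul_eq_mul,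
      show (d : ℂ) = (t : ℂ) * e by rw [← Nat.cast_mul, ← hd]] at hB
    exact_mod_cast mul_right_cancel₀ (Nat.cast_ne_zero.2 he0.ne') hB
  have hprod : ∏ i, μ i = (∏ j : Fin e, ζ ^ (j : ℕ)) ^ t := by
    rw [← Finset.prod_fiberwise_of_maps_to (t := (Finset.univ : Finset (Fin e))) (g := J) (f := μ)
      (fun i _ => Finset.mem_univ _), ← Finset.prod_pow]
    refine Finset.prod_congr rfl fun j _ => ?_
    rw [Finset.prod_congr rfl fun i hi => (hJ i).trans (by rw [(Finset.mem_filter.1 hi).2]),
      Finset.prod_const, hfib]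
  obtain ⟨m, hm⟩ := he
  have hm0 : 0 < m := by omega
  have hneg : ζ ^ m = -1 := by
    refine IsPrimitiveRoot.eq_neg_one_of_two_right (hζ.pow he0 ?_)
    omega
  rw [hdet, hprod, Finset.prod_pow_eq_pow_sum, Fin.sum_univ_eq_sum_range (fun i => i) e,
    Finset.sum_range_id, show e * (e - 1) / 2 = m * (2 * m - 1) by
      rw [hm, show (m + m) * (m + m - 1) = m * (2 * m - 1) * 2 by rw [← two_mul m]; ring,
        Nat.mul_div_cancel _ (by norm_num)],
    pow_mul, hneg, (Nat.Even.sub_odd (by omega) (even_two_mul m) odd_one).neg_one_pow, ht.neg_one_pow]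

theorem result_aux [Finite G] (p : ℕ) (hp : p.Prime) (x : G) (hx : orderOf x = p)
    (hC : Subgroup.centralizer ({x} : Set G) = Subgroup.zpowers x) (t : ℕ)
    (ht : Nat.card {C : ConjClasses G // ∃ g ∈ C.carrier, orderOf g = p} = t)
    (χ : Cfsg.IrrCharacter G) (hχ : Cfsg.charDegree (χ : G → ℂ) + 1 = p) :
    Even t ∨ Even (commutator G).index := by
  classical
  have := Fintype.ofFinite G
  set P := Subgroup.zpowers x with hP
  have hPcard : Nat.card P = p := by rw [hP, Nat.card_zpowers, hx]
  by_cases hp2 : p = 2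
  · right
    subst hp2
    have hPG : IsPGroup 2 P := IsPGroup.of_card (n := 1) (by rw [hPcard, pow_one])
    obtain ⟨Q, hQ⟩ := hPG.exists_le_sylow
    have hQP : (Q : Subgroup G) = P := by
      refine le_antisymm (fun q hq => ?_) hQ
      by_cases hq1 : q = 1
      · rw [hq1]; exact P.one_mem
      by_contra hqP
      have hne : Nontrivial (Q : Subgroup G) := ⟨⟨⟨q, hq⟩, 1, fun e => hq1 (congrArg Subtype.val e)⟩⟩
      obtain ⟨z, hz, hz1⟩ := (Subgroup.center (Q : Subgroup G)).bot_or_exists_ne_one.resolve_left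
        (fun e => absurd Q.isPGroup'.center_nontrivial (by rw [e]; exact not_nontrivial _))
      have hcz : ∀ y : (Q : Subgroup G), y * z = z * y := Subgroup.mem_center_iff.1 hz
      have hzP : (z : G) ∈ P := by
        rw [← hC, Subgroup.mem_centralizer_iff]
        rintro y rfl
        exact congrArg Subtype.val (hcz ⟨_, hQ (Subgroup.mem_zpowers _)⟩)
      have hcent := (centralizer_eq_of_mem hp hx hC hzP (fun e => hz1 (Subtype.ext e))).2
      apply hqP
      rw [hP, ← hcent, Subgroup.mem_centralizer_iff]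
      rintro y rfl
      exact (congrArg Subtype.val (hcz ⟨q, hq⟩)).symm
    have hcyc : IsCyclic (Q : Subgroup G) := by
      rw [hQP]; exact isCyclic_of_prime_card hPcard
    have hmin : (Nat.card G).minFac = 2 := by
      refine (Nat.minFac_eq_two_iff _).2 ?_
      rw [← hx]
      exact orderOf_dvd_natCard x
    have hQmin : (Q : Subgroup G) ≤ Subgroup.centralizer (Q : Set G) := by
      intro a ha
      rw [Subgroup.mem_centralizer_iff]
      intro b hb
      letI := hcyc.commGroup
      exact congrArg Subtype.val (mul_comm (⟨b, hb⟩ : (Q : Subgroup G)) ⟨a, ha⟩)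
    have hNC : Subgroup.normalizer ((Q : Subgroup G) : Set G) ≤ Subgroup.centralizer ((Q : Subgroup G) : Set G) :=
      hcyc.normalizer_le_centralizer hmin
    let φ := MonoidHom.transferSylow Q hNC
    have hker : φ.ker.index = 2 := by
      have hsurj : Function.Surjective φ := by
        intro y
        have h0 := MonoidHom.transferSylow_restrict_eq_pow Q hNC
        obtain ⟨k, hk⟩ : ∃ k : (Q : Subgroup G), k ^ (Q : Subgroup G).index = y := by
          have hcop : (Nat.card (Q : Subgroup G)).Coprime (Q : Subgroup G).index := by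
            rw [hQP, hPcard]
            exact (Nat.Prime.coprime_iff_not_dvd Nat.prime_two).2 (hQP ▸ Q.not_dvd_index)
          exact ⟨(powCoprime hcop).symm y, (powCoprime hcop).apply_symm_apply y⟩
        exact ⟨k, (congrFun h0 k).trans hk⟩
      rw [Subgroup.index_ker, MonoidHom.range_eq_top.2 hsurj, Subgroup.card_top, hQP, hPcard]
    have hle : commutator G ≤ φ.ker := by
      letI := hcyc.commGroup
      exact Abelianization.commutator_subset_ker φ
    exact (even_two.trans_dvd (hker ▸ Subgroup.index_dvd_of_le hle))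
  rcases Nat.even_or_odd t with hte | hto
  · exact Or.inl hte
  right
  set N := Subgroup.normalizer (P : Set G) with hN
  have hPN : P ≤ N := Subgroup.le_normalizer
  let e := P.relIndex N
  have hcardN : Nat.card N = e * p := by
    have h := Subgroup.card_mul_index (P.subgroupOf N)
    rw [Nat.card_congr (Subgroup.subgroupOfEquivOfLe hPN).toEquiv, hPcard] at h
    rw [← h, mul_comm]; rfl
  have hepos : 0 < e := Nat.pos_of_ne_zero fun h => by
    rw [h, zero_mul] at hcardN; exact Nat.card_pos.ne' hcardN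
  have hy1 : ∀ y ∈ P, y ≠ 1 → orderOf y = p ∧ Subgroup.centralizer ({y} : Set G) = P :=
    fun y hy h1 => centralizer_eq_of_mem hp hx hC hy h1
  have hne1 : ∀ g : G, orderOf g = p → g ≠ 1 := fun g hg e' => by
    rw [e', orderOf_one] at hg; exact hp.one_lt.ne hg
  -- elements of order `p`
  have : Fintype (G ⧸ N) := Fintype.ofFinite _
  let O : Finset G := Finset.univ.filter fun g => orderOf g = p
  let P1 : Finset G := Finset.univ.filter fun g => g ∈ P ∧ g ≠ 1
  let φ : (G ⧸ N) × G → G := fun z => z.1.out * z.2 * z.1.out⁻¹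
  have hinj : Set.InjOn φ ((Finset.univ : Finset (G ⧸ N)) ×ˢ P1 : Finset ((G ⧸ N) × G)) := by
    rintro ⟨q, a⟩ hqa ⟨r, b⟩ hrb he'
    simp only [Finset.coe_product, Set.mem_prod, Finset.mem_coe, P1, Finset.mem_filter, Finset.mem_univ,
      true_and] at hqa hrb
    change q.out * a * q.out⁻¹ = r.out * b * r.out⁻¹ at he'
    set c := r.out⁻¹ * q.out with hc
    have hcb : c * a * c⁻¹ = b := by
      calc c * a * c⁻¹ = r.out⁻¹ * (q.out * a * q.out⁻¹) * r.out := by rw [hc]; group
        _ = b := by rw [he']; group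
    have hcN : c ∈ N := by
      have hga : Subgroup.zpowers a = P := Subgroup.eq_of_le_of_card_ge (Subgroup.zpowers_le.2 hqa.1)
        (by rw [Nat.card_zpowers a, (hy1 a hqa.1 hqa.2).1, hPcard])
      have hmap : P.map (MulAut.conj c).toMonoidHom ≤ P := by
        rw [← hga, MonoidHom.map_zpowers, Subgroup.zpowers_le]
        show c * a * c⁻¹ ∈ _
        rw [hcb, hga]; exact hrb.1
      have heq : P.map (MulAut.conj c).toMonoidHom = P := Subgroup.eq_of_le_of_card_ge hmap
        (by rw [Subgroup.card_map_of_injective (MulAut.conj c).injective])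
      rw [hN, Subgroup.mem_normalizer_iff]
      intro y
      conv_rhs => rw [← heq, Subgroup.mem_map]
      refine ⟨fun hy => ⟨y, hy, rfl⟩, ?_⟩
      rintro ⟨z, hz, hz'⟩
      have : z = y := (MulAut.conj c).injective hz'
      exact this ▸ hz
    have hqr : r = q := by
      rw [← QuotientGroup.out_eq' r, ← QuotientGroup.out_eq' q, QuotientGroup.eq]
      exact hcN
    subst hqr
    simp only [mul_left_cancel_iff, mul_right_cancel_iff] at he'
    rw [he']
  have himage : ((Finset.univ : Finset (G ⧸ N)) ×ˢ P1).image φ = O := by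
    ext g
    simp only [Finset.mem_image, Finset.mem_product, Finset.mem_univ, true_and, P1, O, Finset.mem_filter]
    constructor
    · rintro ⟨⟨q, a⟩, ⟨ha, ha1⟩, rfl⟩
      show orderOf ((MulAut.conj q.out).toMonoidHom a) = p
      rw [orderOf_injective (MulAut.conj q.out).toMonoidHom (MulAut.conj q.out).injective]
      exact (hy1 a ha ha1).1
    · intro hg
      obtain ⟨c, hc⟩ := exists_conj_mem hp hx hC hg
      let q : G ⧸ N := (c⁻¹ : G)
      obtain ⟨n, hn⟩ := QuotientGroup.mk_out_eq_mul N c⁻¹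
      refine ⟨⟨q, (n : G)⁻¹ * (c * g * c⁻¹) * n⟩, ⟨?_, ?_⟩, ?_⟩
      · exact (Subgroup.mem_normalizer_iff''.1 n.2 _).1 hc
      · intro h
        exact hne1 g hg (by
          have h' := congrArg (fun z => (n : G) * z * (n : G)⁻¹) h
          simp only [mul_one, mul_inv_cancel] at h'
          have h2 : c * g * c⁻¹ = 1 := by rw [← h']; group
          exact conj_eq_one_iff.1 h2)
      · show q.out * _ * q.out⁻¹ = g
        rw [show q.out = c⁻¹ * n from hn]
        group
  have hO : O.card = N.index * (p - 1) := by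
    rw [← himage, Finset.card_image_of_injOn hinj, Finset.card_product, Finset.card_univ,
      ← Nat.card_eq_fintype_card]
    congr 1
    have : P1 = (Finset.univ.filter fun g => g ∈ P).erase 1 := by
      ext g; simp [P1, and_comm]
    rw [this, Finset.card_erase_of_mem (by simp), ← Fintype.card_subtype, ← Nat.card_eq_fintype_card]
    rw [show Nat.card {g : G // g ∈ P} = p from hPcard]
  have hclasses : p * O.card = t * Nat.card G := by
    have hsum := Finset.card_eq_sum_card_fiberwise (f := ConjClasses.mk) (s := O)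
      (t := (Finset.univ : Finset (ConjClasses G)).filter fun C => ∃ g ∈ C.carrier, orderOf g = p)
      (fun g hg => by
        simp only [Finset.coe_filter, Finset.mem_univ, true_and, Set.mem_setOf_eq]
        exact ⟨g, ConjClasses.mem_carrier_mk, (Finset.mem_filter.1 hg).2⟩)
    rw [hsum, Finset.mul_sum, Finset.sum_congr rfl (g := fun _ => Nat.card G), Finset.sum_const, smul_eq_mul,
      ← Fintype.card_subtype, ← Nat.card_eq_fintype_card, ht]
    intro C hC'
    obtain ⟨g, hg, hgp⟩ := (Finset.mem_filter.1 hC').2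
    rw [ConjClasses.mem_carrier_iff_mk_eq] at hg
    subst hg
    rw [← card_conj_mul_card_centralizer g, card_centralizer hp hx hC hgp, mul_comm, Nat.card_eq_fintype_card,
      Fintype.card_subtype]
    congr 2
    ext z
    simp only [O, Finset.mem_filter, Finset.mem_univ, true_and, ConjClasses.mk_eq_mk_iff_isConj]
    refine ⟨fun h => h.2.symm, fun h => ⟨?_, h.symm⟩⟩
    obtain ⟨c, rfl⟩ := isConj_iff.1 h
    show orderOf ((MulAut.conj c).toMonoidHom g) = p
    rw [orderOf_injective (MulAut.conj c).toMonoidHom (MulAut.conj c).injective, hgp]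
  have hte : t * e = p - 1 := by
    have h1 : p * (N.index * (p - 1)) = t * (N.index * (e * p)) := by
      rw [← hO, ← hcardN, N.index_mul_card, hclasses]
    have h2 : (p * N.index) * (p - 1) = (p * N.index) * (t * e) := by rw [mul_assoc, h1]; ring
    exact (Nat.eq_of_mul_eq_mul_left (Nat.mul_pos hp.pos (Nat.pos_of_ne_zero N.index_ne_zero_of_finite)) h2).symm
  have heven : Even e := by
    have h1 : Even (t * e) := hte ▸ Nat.Odd.sub_odd (hp.eq_two_or_odd'.resolve_left hp2) odd_one
    exact (Nat.even_mul.1 h1).resolve_left (Nat.not_even_iff_odd.2 hto)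
  have he2 : 2 ≤ e := by obtain ⟨m, hm⟩ := heven; omega
  -- the character
  obtain ⟨d, ρ, hρ, hρχ⟩ := χ.2
  have hχ1 : ρ.character 1 = ((p - 1 : ℕ) : ℂ) := by
    obtain ⟨n, -, hn⟩ := isIrrCharacter_apply_one χ.2
    have hdn : Cfsg.charDegree (χ : G → ℂ) = n := by
      rw [Cfsg.charDegree, hn, Complex.natCast_re]
      exact Nat.floor_natCast n
    rw [hρχ, hn, ← hdn, show p - 1 = Cfsg.charDegree (χ : G → ℂ) by omega]
  have hd : d = p - 1 := by
    rw [Representation.char_one, Module.finrank_fin_fun] at hχ1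
    exact_mod_cast hχ1
  have hnorm : ∑ g : G, ‖ρ.character g‖ ^ 2 = (Nat.card G : ℝ) := by
    have h := classInner_self_re ρ.character
    rw [classInner_irr_self ⟨d, ρ, hρ, rfl⟩, Complex.one_re, eq_inv_mul_iff_mul_eq₀
      (Nat.cast_ne_zero.2 Nat.card_pos.ne'), mul_one] at h
    exact h.symm
  have hcf := isClassFunction_character ρ
  have : Fintype P := Fintype.ofFinite P
  obtain ⟨c, hc, hcs⟩ := exists_mult (isCharacter_comap P.subtype (isCharacter_of_rep ρ))
  have hPab : ∀ a b : P, a * b = b * a := fun a b => by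
    obtain ⟨i, hi⟩ := Subgroup.mem_zpowers_iff.1 a.2
    obtain ⟨j, hj⟩ := Subgroup.mem_zpowers_iff.1 b.2
    apply Subtype.ext
    simp only [Subgroup.coe_mul, ← hi, ← hj, ← zpow_add, add_comm]
  have hcsum : ∑ η, c η = p - 1 := by
    have h := congrFun hcs 1
    simp only [Function.comp_apply, map_one, hχ1, Finset.sum_apply, Pi.smul_apply, smul_eq_mul] at h
    rw [Finset.sum_congr rfl fun η _ => by rw [CharBasicLinear.apply_one_eq_one_of_comm hPab η.2, mul_one]] at h
    exact_mod_cast h.symm
  have hPnorm : ∑ y : P, ‖ρ.character y‖ ^ 2 = (p : ℝ) * ((∑ η, c η ^ 2 : ℕ) : ℝ) := by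
    have h := classInner_self_re (ρ.character ∘ P.subtype)
    rw [classInner_eq_sum (isClassFunction_of_isCharacter (isCharacter_comap P.subtype (isCharacter_of_rep ρ)))] at h
    rw [Finset.sum_congr rfl (g := fun η => ((c η ^ 2 : ℕ) : ℂ)) (fun η _ => by
      rw [hc, Complex.conj_natCast]; push_cast; ring), ← Nat.cast_sum, Complex.natCast_re, hPcard,
      eq_inv_mul_iff_mul_eq₀ (Nat.cast_ne_zero.2 hp.ne_zero)] at h
    rw [h]; rfl
  have hbound : (N.index : ℝ) * ∑ a ∈ P1, ‖ρ.character a‖ ^ 2 < (Nat.card G : ℝ) := by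
    have h1 : ∑ g ∈ O, ‖ρ.character g‖ ^ 2 = (N.index : ℝ) * ∑ a ∈ P1, ‖ρ.character a‖ ^ 2 := by
      rw [← himage, Finset.sum_image hinj, Finset.sum_product,
        Finset.sum_congr rfl (g := fun _ => ∑ a ∈ P1, ‖ρ.character a‖ ^ 2) (fun q _ => Finset.sum_congr rfl
          fun a _ => by rw [show φ (q, a) = q.out * a * q.out⁻¹ from rfl, hcf]),
        Finset.sum_const, Finset.card_univ, ← Nat.card_eq_fintype_card, nsmul_eq_mul]
      rfl
    rw [← h1, ← hnorm]
    refine Finset.sum_lt_sum_of_subset (Finset.subset_univ O) (Finset.mem_univ (1 : G)) ?_ ?_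
      (fun g _ _ => sq_nonneg ‖ρ.character g‖)
    · simp only [O, Finset.mem_filter, Finset.mem_univ, true_and, orderOf_one]
      exact hp.one_lt.ne
    · rw [hχ1, Complex.norm_natCast]
      have : (0 : ℝ) < ((p - 1 : ℕ) : ℝ) := Nat.cast_pos.2 (Nat.sub_pos_of_lt hp.one_lt)
      positivity
  have hineq : p * (∑ η, c η ^ 2) < (p - 1) ^ 2 + e * p := by
    have hsplit : ∑ y : P, ‖ρ.character y‖ ^ 2 = ((p - 1 : ℕ) : ℝ) ^ 2 + ∑ a ∈ P1, ‖ρ.character a‖ ^ 2 := by
      have h1 : P1 = (Finset.univ.filter fun g => g ∈ P).erase 1 := by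
        ext g; simp [P1, and_comm]
      rw [h1, ← Finset.sum_subtype (p := fun g => g ∈ P) (Finset.univ.filter fun g => g ∈ P) (fun g => by simp)
        (fun g => ‖ρ.character g‖ ^ 2), ← Finset.add_sum_erase _ _ (a := (1 : G)) (by simp), hχ1,
        Complex.norm_natCast]
    have hG : (Nat.card G : ℝ) = (N.index : ℝ) * ((e * p : ℕ) : ℝ) := by
      rw [← Nat.cast_mul, ← hcardN, N.index_mul_card]
    rw [hG] at hbound
    have h2 := lt_of_mul_lt_mul_left hbound (Nat.cast_nonneg _)
    have h3 : ((p * ∑ η, c η ^ 2 : ℕ) : ℝ) < (((p - 1) ^ 2 + e * p : ℕ) : ℝ) := by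
      rw [Nat.cast_mul p, ← hPnorm, hsplit, Nat.cast_add, Nat.cast_pow]
      linarith
    exact_mod_cast h3
  let k := c (trivIrr P)
  have hk : ∑ y : P, ρ.character y = (p : ℂ) * k := by
    have h := hc (trivIrr P)
    rw [classInner, hPcard] at h
    simp only [trivIrr, map_one, mul_one, Function.comp_apply] at h
    rw [inv_mul_eq_iff_eq_mul₀ (Nat.cast_ne_zero.2 hp.ne_zero)] at h
    exact h
  have hksmall : k * k < e + k := by
    have h1 : k ^ 2 + (p - 1 - k) ≤ ∑ η, c η ^ 2 := by
      rw [← Finset.add_sum_erase Finset.univ (fun η => c η ^ 2) (Finset.mem_univ (trivIrr P))]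
      have : p - 1 - k = ∑ η ∈ Finset.univ.erase (trivIrr P), c η := by
        rw [← hcsum, ← Finset.add_sum_erase Finset.univ c (Finset.mem_univ (trivIrr P))]
        omega
      rw [this]
      exact Nat.add_le_add le_rfl (Finset.sum_le_sum fun η _ => Nat.le_self_pow two_ne_zero (c η))
    have h2 : p * (k ^ 2 + (p - 1 - k)) < (p - 1) ^ 2 + e * p := lt_of_le_of_lt (Nat.mul_le_mul_left p h1) hineq
    have hkle : k ≤ p - 1 := hcsum ▸ Finset.single_le_sum (fun η _ => Nat.zero_le (c η)) (Finset.mem_univ _)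
    obtain ⟨q, hq⟩ : ∃ q, p = q + 1 := ⟨p - 1, by have := hp.one_lt; omega⟩
    subst hq
    simp only [Nat.add_sub_cancel] at h2 hkle
    obtain ⟨r, hr⟩ := Nat.le.dest hkle
    rw [show q - k = r by omega] at h2
    subst hr
    by_contra hcon
    push Not at hcon
    nlinarith
  -- a complement generator
  have hcycP : IsCyclic P := isCyclic_of_prime_card (hp := ⟨hp⟩) hPcard
  let α : N →* (ZMod (Nat.card P))ˣ :=
    (IsCyclic.mulAutMulEquiv P).toMonoidHom.comp P.normalizerMonoidHom
  have hker : α.ker = P.subgroupOf N := by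
    rw [show α.ker = P.normalizerMonoidHom.ker from by
      ext n
      simp only [α, MonoidHom.mem_ker, MonoidHom.comp_apply, MulEquiv.coe_toMonoidHom,
        MulEquiv.map_eq_one_iff],
      Subgroup.normalizerMonoidHom_ker,
      show Subgroup.centralizer (P : Set G) = P by
        conv_lhs => rw [hP, Subgroup.zpowers_eq_closure, Subgroup.centralizer_closure, hC]]
    
  have hprange : Nat.card α.range = e := by
    rw [← Subgroup.index_ker, hker]; rfl
  have : Fact p.Prime := ⟨hp⟩
  have hcyc : IsCyclic α.range := by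
    have h1 : IsCyclic (ZMod (Nat.card P))ˣ := by
      rw [hPcard]; infer_instance
    infer_instance
  obtain ⟨⟨a, ha⟩, hgen⟩ := IsCyclic.exists_generator (α := α.range)
  obtain ⟨g, rfl⟩ := MonoidHom.mem_range.1 ha
  have hog : orderOf (α g) = e := by
    have h1 := orderOf_eq_card_of_forall_mem_zpowers hgen
    rw [← Subgroup.orderOf_coe, hprange] at h1
    exact h1
  have hcop : e.Coprime p := by
    have he' : e < p := by
      have : 1 ≤ t := by rcases hto with ⟨s, hs⟩; omega
      have := Nat.le_mul_of_pos_left e (Nat.lt_of_lt_of_le Nat.zero_lt_one this)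
      have := hp.one_lt
      omega
    exact ((Nat.Prime.coprime_iff_not_dvd hp).2 fun h => absurd (Nat.le_of_dvd hepos h) (by omega)).symm
  set f : N := g ^ p with hf
  have hge : (((g ^ e : N)) : G) ∈ P := by
    have h1 : α (g ^ e) = 1 := by rw [map_pow, ← hog, pow_orderOf_eq_one]
    rw [← MonoidHom.mem_ker, hker] at h1
    exact h1
  have hfe : f ^ e = 1 := by
    apply Subtype.ext
    rw [hf, ← pow_mul, mul_comm, pow_mul]
    simp only [Subgroup.coe_pow, OneMemClass.coe_one]
    have h2 := orderOf_dvd_natCard (⟨_, hge⟩ : P)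
    rw [hPcard, Subgroup.orderOf_mk, Subgroup.coe_pow, orderOf_dvd_iff_pow_eq_one] at h2
    exact h2
  have hαf : orderOf (α f) = e := by
    rw [hf, map_pow, (hog.symm ▸ hcop : (orderOf (α g)).Coprime p).orderOf_pow, hog]
  have hof : orderOf (f : G) = e := by
    rw [Subgroup.orderOf_coe]
    refine Nat.dvd_antisymm (orderOf_dvd_of_pow_eq_one hfe) ?_
    conv_lhs => rw [← hαf]
    exact orderOf_map_dvd α f
  set F := Subgroup.zpowers (f : G) with hF
  have hFN : F ≤ N := Subgroup.zpowers_le.2 f.2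
  have hFcard : Nat.card F = e := by rw [hF, Nat.card_zpowers, hof]
  have hdisj : ∀ h ∈ F, h ∈ P → h = 1 := by
    intro h hh hh'
    by_contra h1
    have h2 := orderOf_dvd_natCard (⟨h, hh⟩ : F)
    rw [hFcard, Subgroup.orderOf_mk, (hy1 h hh' h1).1] at h2
    exact hp.not_dvd_one (Nat.dvd_gcd h2 dvd_rfl |>.trans (dvd_of_eq hcop))
  have : Fintype N := Fintype.ofFinite N
  have : Fintype F := Fintype.ofFinite F
  let m : F × P → N := fun z => ⟨(z.1 : G) * z.2, N.mul_mem (hFN z.1.2) (hPN z.2.2)⟩
  have hminj : Function.Injective m := fun a b hab =>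
    Subgroup.mul_injective_of_disjoint (Subgroup.disjoint_def.2 fun {h} hh hh' => hdisj h hh hh')
      (congrArg Subtype.val hab)
  have hmbij : Function.Bijective m := (Fintype.bijective_iff_injective_and_card m).2 ⟨hminj, by
    rw [Fintype.card_prod, ← Nat.card_eq_fintype_card, ← Nat.card_eq_fintype_card, ← Nat.card_eq_fintype_card,
      hcardN, hFcard, hPcard]⟩
  have hcoset : ∀ h : F, (h : G) ≠ 1 → ∑ y : P, ρ.character ((h : G) * y) = (p : ℂ) * ρ.character (h : G) := by
    intro h h1
    have hN' := hFN h.2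
    let r : P → P := fun y => ⟨(h : G)⁻¹ * y * h * (y : G)⁻¹,
      P.mul_mem ((Subgroup.mem_normalizer_iff''.1 hN' _).1 y.2) (P.inv_mem y.2)⟩
    have hr : Function.Injective r := by
      intro y z hyz
      have h2 : (h : G)⁻¹ * y * h * (y : G)⁻¹ = (h : G)⁻¹ * z * h * (z : G)⁻¹ := congrArg Subtype.val hyz
      by_contra hne
      have hd : (z : G)⁻¹ * y ≠ 1 := fun e' => hne (Subtype.ext (inv_mul_eq_one.1 e').symm)
      refine h1 (hdisj h h.2 ?_)
      rw [← (hy1 _ (P.mul_mem (P.inv_mem z.2) y.2) hd).2, Subgroup.mem_centralizer_iff]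
      rintro w rfl
      calc (z : G)⁻¹ * y * h = (z : G)⁻¹ * ((h : G) * ((h : G)⁻¹ * y * h * (y : G)⁻¹) * y) := by group
        _ = (z : G)⁻¹ * ((h : G) * ((h : G)⁻¹ * z * h * (z : G)⁻¹) * y) := by rw [h2]
        _ = (h : G) * ((z : G)⁻¹ * y) := by group
    rw [← Fintype.sum_bijective r (Finite.injective_iff_bijective.1 hr) (fun _ => ρ.character (h : G))
      (fun y => ρ.character ((h : G) * y)) (fun y => by
        show _ = ρ.character ((h : G) * ((h : G)⁻¹ * y * h * (y : G)⁻¹))
        rw [← mul_assoc, ← mul_assoc, ← mul_assoc, mul_inv_cancel, one_mul, hcf]),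
      Finset.sum_const, Finset.card_univ, ← Nat.card_eq_fintype_card, hPcard, nsmul_eq_mul]
  obtain ⟨u, hu⟩ := classInner_isCharacter (isCharacter_comap N.subtype (isCharacter_of_rep ρ))
    (CharBasicDecomp.isCharacter_one (G := N))
  obtain ⟨v, hv⟩ := classInner_isCharacter (isCharacter_comap F.subtype (isCharacter_of_rep ρ))
    (CharBasicDecomp.isCharacter_one (G := F))
  have hNsum : (e : ℂ) * p * u = (p : ℂ) * ((e : ℂ) * v) + (p : ℂ) * k - (p : ℂ) * ((p - 1 : ℕ) : ℂ) := by
    rw [← hu, ← hv]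
    have e1 := card_mul_classInner (ρ.character ∘ N.subtype) (fun _ => (1 : ℂ))
    have e2 := card_mul_classInner (ρ.character ∘ F.subtype) (fun _ => (1 : ℂ))
    rw [hcardN, Nat.cast_mul] at e1
    rw [hFcard] at e2
    rw [e1, e2]
    simp only [map_one, mul_one, Function.comp_apply, Subgroup.coe_subtype]
    rw [← hmbij.sum_comp, Fintype.sum_prod_type, Finset.mul_sum, ← Finset.add_sum_erase _ _ (Finset.mem_univ (1 : F)),
      ← Finset.add_sum_erase (f := fun h : F => (p : ℂ) * ρ.character (h : G)) _ (Finset.mem_univ (1 : F)),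
      Finset.sum_congr rfl (g := fun h : F => (p : ℂ) * ρ.character (h : G)) (fun h hh => hcoset h
        (fun e' => Finset.ne_of_mem_erase hh (Subtype.ext e')))]
    simp only [m, OneMemClass.coe_one, one_mul, hk, hχ1]
    ring
  have hk0 : k = 0 := by
    have h1 : (e : ℂ) * u + ((p - 1 : ℕ) : ℂ) = (e : ℂ) * v + k := by
      refine mul_left_cancel₀ (Nat.cast_ne_zero.2 hp.ne_zero : (p : ℂ) ≠ 0) ?_
      linear_combination hNsum
    have h2 : e * u + (p - 1) = e * v + k := by exact_mod_cast h1
    have h3 : e ∣ k := (Nat.dvd_add_right ⟨v, rfl⟩).1 (h2 ▸ dvd_add ⟨u, rfl⟩ ⟨t, by rw [← hte, mul_comm]⟩)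
    obtain ⟨s, hs⟩ := h3
    rcases Nat.eq_zero_or_pos s with h | h
    · rw [hs, h, mul_zero]
    · exfalso
      have : e ≤ k := hs ▸ Nat.le_mul_of_pos_right e h
      nlinarith
  have hvan : ∀ j : ℕ, 0 < j → j < e → ρ.character ((f : G) ^ j) = 0 := by
    intro j hj hje
    have h1 : ((f : G) ^ j) ≠ 1 := fun e' => by
      have := Nat.le_of_dvd hj (orderOf_dvd_of_pow_eq_one e')
      rw [hof] at this; omega
    have h2 := hcoset ⟨_, Subgroup.pow_mem _ (Subgroup.mem_zpowers _) j⟩ h1
    rw [sum_coset_eq_zero ρ P (by rw [hk, hk0, Nat.cast_zero, mul_zero])] at h2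
    exact (mul_eq_zero.1 h2.symm).resolve_left (Nat.cast_ne_zero.2 hp.ne_zero)
  have hdet := det_eq_neg_one ρ hof heven hto (by rw [hd, hte]) hvan
  let δ : G →* ℂˣ := ((LinearMap.det : Module.End ℂ (Fin d → ℂ) →* ℂ).comp ρ).toHomUnits
  have hle : commutator G ≤ δ.ker := Abelianization.commutator_subset_ker δ
  refine Even.trans_dvd ?_ (Subgroup.index_dvd_of_le hle)
  rw [Subgroup.index_ker]
  have hδ : δ (f : G) = -1 := Units.ext (by
    show LinearMap.det (ρ (f : G)) = ((-1 : ℂˣ) : ℂ)
    rw [hdet]; simp)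
  have h2 : orderOf (-1 : ℂˣ) = 2 := by
    rw [← orderOf_units, Units.val_neg, Units.val_one, orderOf_neg_one, ringChar.eq_zero]; simp
  have h3 := orderOf_dvd_natCard (⟨δ (f : G), f, rfl⟩ : δ.range)
  rw [← Subgroup.orderOf_coe] at h3
  simp only [hδ, h2] at h3
  exact even_iff_two_dvd.2 h3

/-- Let the finite group G contain an element x of prime order p with C_G(x) = ⟨x⟩, and let t be the number of conjugacy classes of elements of order p. If G has an irreducible character of degree p − 1, then t is even or the commutator subgroup has even index. -/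
theorem result {G : Type*} [Group G] [Finite G] (p : ℕ) (hp : p.Prime) (x : G) (hx : orderOf x = p) (hC : Subgroup.centralizer ({x} : Set G) = Subgroup.zpowers x) (t : ℕ) (ht : Nat.card {C : ConjClasses G // ∃ g ∈ C.carrier, orderOf g = p} = t) (χ : Cfsg.IrrCharacter G) (hχ : Cfsg.charDegree (χ : G → ℂ) + 1 = p) : Even t ∨ Even (commutator G).index := by
  classical
  exact result_aux p hp x hx hC t ht χ hχ

end Cfsg.Agent.S4508
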