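import Cfsg.Statements.S4509
import Cfsg.Agent.Lib.SelfCentPrime79

set_option autoImplicit false
open Cfsg

namespace Cfsg.Agent.S4509

open scoped commutatorElement

/-- Let the finite group G contain an element x of prime order p with C_G(x) = ⟨x⟩; let t be the number of conjugacy classes of elements of order p and 1 + n·p the number of subgroups of order p. Then G has a normal subgroup of order 1 + n·p if and only if either t = p − 1, or t < p − 1 and G″ ≠ G′. Moreover, if t = p − 1 then G′ has order 1 + n·p and G/G′ is cyclic of order p; and if t < p − 1 and G″ ≠ G′ then G″ has order 1 + n·p and G′ has order p·(1 + n·p). -/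
theorem result {G : Type*} [Group G] [Finite G] (p : ℕ) (hp : p.Prime) (x : G) (hx : orderOf x = p) (hC : Subgroup.centralizer ({x} : Set G) = Subgroup.zpowers x) (t : ℕ) (ht : Nat.card {C : ConjClasses G // ∃ g ∈ C.carrier, orderOf g = p} = t) (n : ℕ) (hn : Nat.card {H : Subgroup G // Nat.card H = p} = 1 + n * p) : ((∃ S : Subgroup G, S.Normal ∧ Nat.card S = 1 + n * p) ↔ (t = p - 1 ∨ (t < p - 1 ∧ derivedSeries G 2 ≠ derivedSeries G 1))) ∧ (t = p - 1 → Nat.card (commutator G) = 1 + n * p ∧ IsCyclic (G ⧸ commutator G) ∧ (commutator G).index = p) ∧ (t < p - 1 → derivedSeries G 2 ≠ derivedSeries G 1 → Nat.card (derivedSeries G 2) = 1 + n * p ∧ Nat.card (commutator G) = p * (1 + n * p)) := by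
  have h : SelfCentPrime79.SelfCent p x := ⟨hp, hx, hC⟩
  haveI := Fact.mk hp
  set N := Subgroup.normalizer ((Subgroup.zpowers x : Subgroup G) : Set G) with hNdef
  have hidx : N.index = 1 + n * p := by rw [hNdef, ← h.card_subgroups, hn]
  have htle := h.t_le ht
  have hd1 : derivedSeries G 1 = commutator G := derivedSeries_one G
  -- the case `t = p - 1`
  have caseEq : t = p - 1 → Nat.card (commutator G) = 1 + n * p ∧
      (commutator G).index = p := by
    intro e
    have hN := (h.normalizer_eq_iff ht).2 e
    have hi := (h.normalizer_le_imp (S := ⊥) hN).1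
    refine ⟨Nat.eq_of_mul_eq_mul_right hp.pos ?_, hi⟩
    have e1 := (commutator G).card_mul_index
    have e2 := N.index_mul_card
    rw [hi] at e1
    rw [hidx, hNdef, hN, h.card_zpowers] at e2
    rw [e1, e2]
  have caseLt : t < p - 1 → derivedSeries G 2 ≠ derivedSeries G 1 →
      Nat.card (derivedSeries G 2) = 1 + n * p ∧ Nat.card (commutator G) = p * (1 + n * p) := by
    intro hlt hne
    have hd := h.dvd_commutator fun e => hlt.ne ((h.normalizer_eq_iff ht).1 e)
    haveI : (derivedSeries G 2).Normal := derivedSeries_normal G 2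
    set D := derivedSeries G 2
    have hDle : D ≤ commutator G := hd1 ▸ derivedSeries_antitone (G := G) (Nat.le_succ 1)
    have hD : ¬ p ∣ Nat.card D := fun hpd =>
      hne (hd1 ▸ le_antisymm hDle (h.commutator_le_of_dvd hpd))
    have hxc : x ∈ commutator G := h.zpowers_le_of_dvd hd (Subgroup.mem_zpowers x)
    have hcomm : commutator G ≤ D ⊔ Subgroup.zpowers x := by
      intro g hg
      have hgx : (QuotientGroup.mk g : G ⧸ D) ∈ Subgroup.centralizer
          ({(QuotientGroup.mk x : G ⧸ D)} : Set (G ⧸ D)) := by
        rw [Subgroup.mem_centralizer_singleton_iff, ← QuotientGroup.mk_mul, ← QuotientGroup.mk_mul,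
          QuotientGroup.eq]
        have hm : (g * x)⁻¹ * (x * g) ∈ D := by
          rw [show (g * x)⁻¹ * (x * g) = ⁅x⁻¹, g⁻¹⁆ by rw [commutatorElement_def]; group]
          have := Subgroup.commutator_mem_commutator (inv_mem hxc) (inv_mem hg)
          rwa [← hd1] at this
        exact hm
      rw [(h.quotient hD).cent] at hgx
      obtain ⟨k, hk⟩ := hgx
      simp only [← QuotientGroup.mk_zpow, QuotientGroup.eq] at hk
      have := mul_mem (Subgroup.mem_sup_right (S := D) (Subgroup.zpow_mem_zpowers x k))
        (Subgroup.mem_sup_left (T := Subgroup.zpowers x) hk)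
      simpa using this
    have heq : commutator G = D ⊔ Subgroup.zpowers x :=
      le_antisymm hcomm (sup_le hDle (Subgroup.zpowers_le.2 hxc))
    have hcardD : Nat.card (commutator G) = p * Nat.card D := by
      have hdis : Disjoint D (Subgroup.zpowers x) := disjoint_iff.2 (le_bot_iff.1
        ((inf_le_inf_left D Subgroup.le_normalizer).trans (h.inf_normalizer_eq_bot hD).le))
      rw [mul_comm, ← h.card_zpowers, heq, ← Nat.card_prod]
      refine (Nat.card_congr (Equiv.ofBijective (fun a : D × Subgroup.zpowers x =>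
        (⟨(a.1 : G) * a.2, mul_mem (Subgroup.mem_sup_left a.1.2) (Subgroup.mem_sup_right a.2.2)⟩ :
          (D ⊔ Subgroup.zpowers x : Subgroup G))) ⟨?_, ?_⟩)).symm
      · intro a b e
        exact Subgroup.mul_injective_of_disjoint hdis (congrArg Subtype.val e)
      · rintro ⟨y, hy⟩
        obtain ⟨s, hs, m, hm, rfl⟩ := Subgroup.mem_sup_of_normal_left.1 hy
        exact ⟨⟨⟨s, hs⟩, ⟨m, hm⟩⟩, rfl⟩
    have htop : D ⊔ N = ⊤ := by
      rw [eq_top_iff, ← h.sup_normalizer_eq_top hd, heq]
      exact sup_le (sup_le le_sup_left (Subgroup.le_normalizer.trans le_sup_right)) le_sup_right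
    have hDn : Nat.card D = 1 + n * p := by
      have e := h.card_sup_normalizer hD
      rw [← hNdef, htop, Subgroup.card_top] at e
      have e2 := N.index_mul_card
      rw [hidx, e] at e2
      exact (Nat.eq_of_mul_eq_mul_right Nat.card_pos e2).symm
    exact ⟨hDn, by rw [hcardD, hDn]⟩
  refine ⟨⟨?_, ?_⟩, fun e => ⟨(caseEq e).1, ?_, (caseEq e).2⟩, caseLt⟩
  · rintro ⟨S, hSn, hS⟩
    rcases lt_or_eq_of_le htle with hlt | he
    · refine Or.inr ⟨hlt, fun e => ?_⟩
      have hpS : ¬ p ∣ Nat.card S := by
        rw [hS]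
        intro hd
        exact hp.not_dvd_one ((Nat.dvd_add_left (dvd_mul_left p n)).1 hd)
      have hd := h.dvd_commutator fun e => hlt.ne ((h.normalizer_eq_iff ht).1 e)
      have htop : S ⊔ N = ⊤ := by
        refine Subgroup.eq_top_of_card_eq _ ?_
        rw [hNdef, h.card_sup_normalizer hpS, hS, ← hidx, ← hNdef, Subgroup.index_mul_card]
      have hle := h.commutator_le_sup htop
      have hle2 : derivedSeries G 2 ≤ S := by
        change ⁅derivedSeries G 1, derivedSeries G 1⁆ ≤ S
        rw [hd1, Subgroup.commutator_le]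
        intro a ha b hb
        have ha' := hle ha
        have hb' := hle hb
        rw [Subgroup.mem_sup_of_normal_left] at ha' hb'
        obtain ⟨s, hs, u, hu, rfl⟩ := ha'
        obtain ⟨r, hr, v, hv, rfl⟩ := hb'
        rw [← QuotientGroup.ker_mk' S, MonoidHom.mem_ker, map_commutatorElement,
          commutatorElement_eq_one_iff_mul_comm]
        simp only [map_mul, QuotientGroup.mk'_apply, (QuotientGroup.eq_one_iff s).2 hs,
          (QuotientGroup.eq_one_iff r).2 hr, one_mul]
        obtain ⟨i, rfl⟩ := hu
        obtain ⟨j, rfl⟩ := hv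
        simp only [← QuotientGroup.mk_mul, ← zpow_add, add_comm i j]
      rw [e, hd1] at hle2
      exact hpS (hd.trans (Subgroup.card_dvd_of_le hle2))
    · exact Or.inl he
  · rintro (he | ⟨hlt, hne⟩)
    · exact ⟨commutator G, inferInstance, (caseEq he).1⟩
    · exact ⟨derivedSeries G 2, derivedSeries_normal G 2, (caseLt hlt hne).1⟩
  · have : Nat.card (G ⧸ commutator G) = p := (caseEq e).2
    exact isCyclic_of_prime_card this

end Cfsg.Agent.S4509
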