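import Cfsg.Statements.S4513
import Cfsg.Agent.Lib.BlockDefectOneTwo79

set_option autoImplicit false
open Cfsg

namespace Cfsg.Agent.S4513


open scoped ComplexConjugate
open BlockTheoryLocalRing BlockTheoryCentre BlockTheoryIdem BlockTheoryDefect BlockContribPrime BlockContrib
open BlockSubsections79 SectionOrth79 BlockDefectOneTwo79

attribute [local instance] Classical.propDecidable


/-- Blocks of defect one for p = 2. Let M be a maximal ideal of the algebraic integers containing 2, B a 2-block of the finite group G whose defect group is the subgroup generated by an involution x, C = C_G(x), b a block of C inducing B and θ a member of b taking the same value at x as at 1 (there is exactly one). Then B consists of exactly two irreducible characters, which agree on every element of odd order, and they can be labelled χ₁, χ₂ with signs ε₁, ε₂ = ±1, ε₁ε₂ = −1, such that χᵢ(x y) = εᵢ θ(y) for every element y of C of odd order. -/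
theorem result {G : Type*} [Group G] [Finite G] (M : Ideal Cfsg.AlgInt) (hM : Cfsg.IsPModular 2 M) (x : G) (hx : orderOf x = 2)
    (B : Set (Cfsg.IrrCharacter G)) (hB : Cfsg.IsPBlock M B) (hBD : Cfsg.IsDefectGroup 2 M B (Subgroup.zpowers x))
    (b : Set (Cfsg.IrrCharacter ↥(Subgroup.centralizer ({x} : Set G)))) (hb : Cfsg.IsInducedBlock M (Subgroup.centralizer ({x} : Set G)) b B)
    (θ : Cfsg.IrrCharacter ↥(Subgroup.centralizer ({x} : Set G))) (hθ : θ ∈ b)
    (hθx : ∀ z : ↥(Subgroup.centralizer ({x} : Set G)), (z : G) = x → (θ : ↥(Subgroup.centralizer ({x} : Set G)) → ℂ) z = (θ : ↥(Subgroup.centralizer ({x} : Set G)) → ℂ) 1) :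
    Nat.card B = 2 ∧ (∀ χ ∈ B, ∀ ψ ∈ B, ∀ g : G, ¬ 2 ∣ orderOf g → (χ : G → ℂ) g = (ψ : G → ℂ) g) ∧
      ∃ χ₁ ∈ B, ∃ χ₂ ∈ B, χ₁ ≠ χ₂ ∧ ∃ ε₁ ε₂ : ℤ, (ε₁ = 1 ∨ ε₁ = -1) ∧ (ε₂ = 1 ∨ ε₂ = -1) ∧ ε₁ * ε₂ = -1 ∧
        ∀ y : ↥(Subgroup.centralizer ({x} : Set G)), ¬ 2 ∣ orderOf y →
          (χ₁ : G → ℂ) (x * y) = (ε₁ : ℂ) * (θ : ↥(Subgroup.centralizer ({x} : Set G)) → ℂ) y ∧ (χ₂ : G → ℂ) (x * y) = (ε₂ : ℂ) * (θ : ↥(Subgroup.centralizer ({x} : Set G)) → ℂ) y := by
  classical
  haveI : Fact (Nat.Prime 2) := ⟨Nat.prime_two⟩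
  have : Fintype G := Fintype.ofFinite G
  have hxp : ∃ k : ℕ, orderOf x = 2 ^ k := ⟨1, by rw [hx, pow_one]⟩
  have hd : Cfsg.blockDefect 2 B = 1 := by
    have h := BlockContribBounds.card_defectGroup hM hB hBD
    rw [Nat.card_zpowers, hx] at h
    exact (Nat.pow_right_injective le_rfl (show 2 ^ 1 = 2 ^ Cfsg.blockDefect 2 B by rw [pow_one]; exact h)).symm
  obtain ⟨hk2, hreg, hpairB⟩ := defect_one hM hB hd
  have hxC : x ∈ (Subgroup.centralizer ({x} : Set G)) := Subgroup.mem_centralizer_singleton_iff.2 rfl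
  set xc : (Subgroup.centralizer ({x} : Set G)) := ⟨x, hxC⟩ with hxc
  have hdb : Cfsg.blockDefect 2 b = 1 := by
    obtain ⟨E, hE⟩ := exists_defectGroup hM hb.1
    have hle : Nat.card E ≤ 2 := by
      have h := card_le_of_conjLe (inducedBlock_defect_le hM (Subgroup.centralizer ({x} : Set G)) hb hE hBD)
      rw [Subgroup.card_map_of_injective (Subgroup.centralizer ({x} : Set G)).subtype_injective, Nat.card_zpowers, hx] at h
      exact h
    haveI : (Subgroup.zpowers xc).Normal := ⟨fun n hn c => by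
      obtain ⟨i, rfl⟩ := Subgroup.mem_zpowers_iff.1 hn
      have hc : Commute c xc := Subtype.ext (Subgroup.mem_centralizer_singleton_iff.1 c.2)
      rw [(hc.zpow_right i).eq, mul_inv_cancel_right]
      exact Subgroup.zpow_mem _ (Subgroup.mem_zpowers xc) i⟩
    have hox : orderOf xc = 2 := by rw [← Subgroup.orderOf_coe, hxc, hx]
    have hge := Subgroup.card_le_of_le (normal_le_defectGroup hM hb.1 hE (Subgroup.zpowers xc)
      (IsPGroup.of_card (n := 1) (by rw [Nat.card_zpowers, hox, pow_one])))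
    rw [Nat.card_zpowers, hox] at hge
    have h2 := BlockContribBounds.card_defectGroup hM hb.1 hE
    rw [le_antisymm hle hge] at h2
    exact (Nat.pow_right_injective le_rfl (show 2 ^ 1 = 2 ^ Cfsg.blockDefect 2 b by rw [pow_one]; exact h2)).symm
  obtain ⟨-, hregb, hpairb⟩ := defect_one hM hb.1 hdb
  obtain ⟨X, ⟨hX, hXrep, h1X, hxX⟩ | hx1⟩ := exists_reps (p := 2) hxp
  swap
  · rw [hx1, orderOf_one] at hx; omega
  have huniq : ∀ b' : Set (Cfsg.IrrCharacter (Subgroup.centralizer ({x} : Set G))), Cfsg.IsInducedBlock M (Subgroup.centralizer ({x} : Set G)) b' B → b' = b := by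
    intro b' hb'
    by_contra hne
    have hcount := card_eq_sum_rank hM hB hX hXrep
    rw [hk2] at hcount
    set f : X → ℕ := fun g => ∑ c ∈ Finset.univ.filter
      (fun c => Cfsg.IsInducedBlock M (Subgroup.centralizer ({(g : G)} : Set G)) c B), Cfsg.blockRank 2 c with hf
    have hne' : (⟨1, h1X⟩ : X) ≠ ⟨x, hxX⟩ := fun e => by
      have e' : (1 : G) = x := congrArg Subtype.val e
      rw [← e', orderOf_one] at hx; omega
    have h1 : 1 ≤ f ⟨1, h1X⟩ := by
      obtain ⟨c, hc⟩ := exists_induced_one hM hB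
      exact (one_le_blockRank hM hc.1).trans (Finset.single_le_sum (f := fun c => Cfsg.blockRank 2 c)
        (fun _ _ => Nat.zero_le _) (Finset.mem_filter.2 ⟨Finset.mem_univ _, hc⟩))
    have h2 : 2 ≤ f ⟨x, hxX⟩ := by
      refine le_trans ?_ (Finset.sum_le_sum_of_subset (s := {b', b}) (fun c hc => ?_))
      · rw [Finset.sum_pair hne]
        have := one_le_blockRank hM hb.1; have := one_le_blockRank hM hb'.1
        omega
      · simp only [Finset.mem_insert, Finset.mem_singleton] at hc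
        refine Finset.mem_filter.2 ⟨Finset.mem_univ _, ?_⟩
        rcases hc with rfl | rfl
        exacts [hb', hb]
    have hcount' : 2 = ∑ g, f g := hcount
    have h3 : f ⟨1, h1X⟩ + f ⟨x, hxX⟩ ≤ ∑ g, f g := by
      rw [← Finset.sum_pair hne']
      exact Finset.sum_le_sum_of_subset (Finset.subset_univ _)
    omega
  set w := Cfsg.pRegularPart 2 (θ : (Subgroup.centralizer ({x} : Set G)) → ℂ) with hw
  have hwmem : w ∈ regSpan 2 b := Submodule.subset_span ⟨θ, hθ, rfl⟩
  have hwreg : ∀ y : (Subgroup.centralizer ({x} : Set G)), ¬ 2 ∣ orderOf y → w y = (θ : (Subgroup.centralizer ({x} : Set G)) → ℂ) y := fun y hy => by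
    simp [hw, Cfsg.pRegularPart, Cfsg.IsPRegular, hy]
  have hwc : Cfsg.IsClassFunction (Subgroup.centralizer ({x} : Set G)) w := fun g h => by
    simp only [hw, Cfsg.pRegularPart, Cfsg.IsPRegular,
      show h * g * h⁻¹ = MulAut.conj h g from rfl, MulEquiv.orderOf_eq]
    rw [show (MulAut.conj h g) = h * g * h⁻¹ from rfl, irr_classFun θ g h]
    split_ifs <;> simp_all
  have hθ1 := CharAverage.irr_one_ne_zero θ
  let a : Cfsg.IrrCharacter G → ℂ := fun χ => (χ : G → ℂ) x / (θ : (Subgroup.centralizer ({x} : Set G)) → ℂ) 1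
  have hsec : ∀ χ ∈ B, ∀ y : (Subgroup.centralizer ({x} : Set G)), ¬ 2 ∣ orderOf y → (χ : G → ℂ) (x * y) = a χ * (θ : (Subgroup.centralizer ({x} : Set G)) → ℂ) y := by
    intro χ hχ
    set F := sec x (χ : G → ℂ) with hF
    have hFc : Cfsg.IsClassFunction (Subgroup.centralizer ({x} : Set G)) F := by rw [hF]; exact isClassFunction_sec (irr_classFun χ) x
    have hspan : ∀ v ∈ regSpan 2 b, ∃ t : ℂ, v = t • w := by
      intro v hv
      induction hv using Submodule.span_induction with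
      | mem v hv =>
        obtain ⟨φ, hφ, rfl⟩ := hv
        refine ⟨1, funext fun y => ?_⟩
        rw [one_smul, hw]
        simp only [Cfsg.pRegularPart, Cfsg.IsPRegular]
        by_cases hy : 2 ∣ orderOf y
        · simp [hy]
        · simp [hy, hregb φ hφ θ hθ y hy]
      | zero => exact ⟨0, by simp⟩
      | add v v' _ _ h h' => obtain ⟨s, rfl⟩ := h; obtain ⟨t, rfl⟩ := h'; exact ⟨s + t, by rw [add_smul]⟩
      | smul c v _ h => obtain ⟨t, rfl⟩ := h; exact ⟨c * t, by rw [smul_smul]⟩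
    obtain ⟨t, ht⟩ := hspan _ (proj_mem b F)
    have hpθ : ∀ c : Set (Cfsg.IrrCharacter (Subgroup.centralizer ({x} : Set G))), proj 2 c (θ : (Subgroup.centralizer ({x} : Set G)) → ℂ) = if θ ∈ c then w else 0 :=
      fun c => proj_irr c θ
    have hlin : ∀ y : (Subgroup.centralizer ({x} : Set G)), ¬ 2 ∣ orderOf y → F y = t * (θ : (Subgroup.centralizer ({x} : Set G)) → ℂ) y := by
      intro y hy
      refine sub_eq_zero.1 (eq_zero_of_proj hM (F := F - t • (θ : (Subgroup.centralizer ({x} : Set G)) → ℂ)) ?_ (fun c hc => ?_) hy)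
      · intro g h
        simp only [Pi.sub_apply, Pi.smul_apply, hFc g h, irr_classFun θ g h]
      · rw [map_sub, map_smul, hpθ]
        by_cases hcb : c = b
        · rw [hcb, ht, if_pos hθ, sub_self]
        · rw [if_neg (fun hm => hcb (block_eq_of_mem hM hc hb.1 hm hθ)), smul_zero, sub_zero]
          obtain ⟨B', hB'⟩ := inducedBlockDefined_centralizer hM hxp hc
          refine proj_sec_eq_zero hM hxp hB' fun hm => hcb (huniq c ?_)
          rwa [block_eq_of_mem hM hB'.2.1 hB hm hχ] at hB'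
    have h1 := hlin 1 (by simp)
    have hta : t = a χ := by
      simp only [hF, sec, LinearMap.coe_mk, AddHom.coe_mk, OneMemClass.coe_one, mul_one] at h1
      simp only [a]; rw [h1]; field_simp
    intro y hy
    rw [← hta]
    exact hlin y hy
  obtain ⟨χ₁, χ₂, hne, hset⟩ := Nat.card_eq_two_iff.1 hk2
  have hmem : ∀ χ : Cfsg.IrrCharacter G, χ ∈ B ↔ χ = χ₁.1 ∨ χ = χ₂.1 := by
    intro χ
    refine ⟨fun h => ?_, fun h => h.elim (fun e => e ▸ χ₁.2) (fun e => e ▸ χ₂.2)⟩
    have h' : (⟨χ, h⟩ : B) ∈ ({χ₁, χ₂} : Set B) := hset ▸ Set.mem_univ _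
    rcases h' with h' | h'
    · exact Or.inl (congrArg Subtype.val h')
    · exact Or.inr (congrArg Subtype.val h')
  have hne' : χ₁.1 ≠ χ₂.1 := fun e => hne (Subtype.ext e)
  have hfilt : Finset.univ.filter (· ∈ B) = {χ₁.1, χ₂.1} := by
    ext χ; simp [hmem χ]
  have hreal : ∀ χ : Cfsg.IrrCharacter G, conj (a χ) = a χ := by
    intro χ
    simp only [a, map_div₀]
    rw [← irr_inv, ← irr_inv θ, inv_one]
    refine congrArg₂ (· / ·) (congrArg (χ : G → ℂ) ?_) rfl
    exact inv_eq_of_mul_eq_one_right (by rw [← pow_two, ← hx, pow_orderOf_eq_one])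
  have hS : ∀ χ ∈ B, 2 * secPair 2 x w (χ : G → ℂ) = a χ * (Nat.card (Subgroup.centralizer ({x} : Set G)) : ℂ) := by
    intro χ hχ
    have e : secPair 2 x w (χ : G → ℂ) = a χ * pair 2 (θ : (Subgroup.centralizer ({x} : Set G)) → ℂ) θ := by
      simp only [secPair, pair, regSum_eq, Finset.mul_sum]
      refine Finset.sum_congr rfl fun y _ => ?_
      by_cases hy : 2 ∣ orderOf y
      · simp [hy]
      · rw [if_pos hy, if_pos hy, hwreg y hy, hsec χ hχ y hy, map_mul, hreal]; ring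
    rw [e, mul_left_comm, hpairb θ hθ]
  have hnorm : a χ₁.1 * a χ₁.1 + a χ₂.1 * a χ₂.1 = 2 := by
    have h := sum_block_secPair hM hxp hb hwmem hwc (z := 1) (by simp)
    rw [hfilt, Finset.sum_pair hne', hwreg 1 (by simp)] at h
    simp only [OneMemClass.coe_one, mul_one] at h
    have e : ∀ χ : Cfsg.IrrCharacter G, (χ : G → ℂ) x = a χ * (θ : (Subgroup.centralizer ({x} : Set G)) → ℂ) 1 := fun χ => by
      simp only [a]; field_simp
    rw [e, e] at h
    refine mul_right_cancel₀ (mul_ne_zero (Nat.cast_ne_zero.2 (Nat.card_pos (α := (Subgroup.centralizer ({x} : Set G)))).ne') hθ1) ?_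
    linear_combination 2 * h - (a χ₁.1 * (θ : (Subgroup.centralizer ({x} : Set G)) → ℂ) 1) * hS _ χ₁.2 - (a χ₂.1 * (θ : (Subgroup.centralizer ({x} : Set G)) → ℂ) 1) * hS _ χ₂.2
  have hopp : a χ₂.1 = -a χ₁.1 := by
    have h := weak_orthogonality hM hB (x := (1 : G)) (y := x) (by simp) (by rw [hx])
    rw [← Finset.sum_filter, hfilt, Finset.sum_pair hne', ← irr_inv, ← irr_inv,
      inv_eq_of_mul_eq_one_right (show x * x = 1 by rw [← pow_two, ← hx, pow_orderOf_eq_one]),
      hreg _ χ₂.2 _ χ₁.2 1 (by simp), ← mul_add, mul_eq_zero] at h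
    simp only [a]
    rw [eq_neg_iff_add_eq_zero, ← add_div, add_comm, h.resolve_left (CharAverage.irr_one_ne_zero _), zero_div]
  have hsq : a χ₁.1 * a χ₁.1 = 1 := by rw [hopp] at hnorm; linear_combination (1 / 2 : ℂ) * hnorm
  refine ⟨hk2, hreg, χ₁.1, χ₁.2, χ₂.1, χ₂.2, hne', ?_⟩
  rcases mul_self_eq_one_iff.1 hsq with h | h
  · refine ⟨1, -1, Or.inl rfl, Or.inr rfl, by norm_num, fun y hy => ⟨?_, ?_⟩⟩
    · rw [hsec _ χ₁.2 y hy, h]; push_cast; rfl
    · rw [hsec _ χ₂.2 y hy, hopp, h]; push_cast; rfl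
  · refine ⟨-1, 1, Or.inr rfl, Or.inl rfl, by norm_num, fun y hy => ⟨?_, ?_⟩⟩
    · rw [hsec _ χ₁.2 y hy, h]; push_cast; rfl
    · rw [hsec _ χ₂.2 y hy, hopp, h, neg_neg]; push_cast; rfl

end Cfsg.Agent.S4513
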