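import Cfsg.Statements.S4518
import Cfsg.Agent.Lib.CharInducedClifford
import Cfsg.Agent.Lib.GaloisChar80

set_option autoImplicit false
open Cfsg

namespace Cfsg.Agent.S4518

/-- Let N be a normal subgroup of the finite group G whose index is not divisible by the prime p, and let k be coprime to the order of G with k ^ (p ^ e) ≡ 1 modulo the order of G for some e (so g ↦ g ^ k induces a field automorphism of p-power order on character values). If an irreducible character χ of G satisfies χ (g ^ k) = χ g for all g, then every irreducible constituent θ of the restriction of χ to N satisfies θ (n ^ k) = θ n for all n. -/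
theorem result {G : Type*} [Group G] [Fintype G] (p : ℕ) [Fact p.Prime] (N : Subgroup G) [N.Normal] [Fintype N] (hidx : ¬ p ∣ N.index) (k e : ℕ) (hk : Nat.Coprime k (Nat.card G)) (hke : k ^ (p ^ e) ≡ 1 [MOD Nat.card G]) (χ : Cfsg.IrrCharacter G) (hχ : ∀ g : G, (χ : G → ℂ) (g ^ k) = (χ : G → ℂ) g) (θ : Cfsg.IrrCharacter N) (hθ : Cfsg.classInner (fun n : N => (χ : G → ℂ) n) (θ : N → ℂ) ≠ 0) : ∀ n : N, (θ : N → ℂ) (n ^ k) = (θ : N → ℂ) n := by
  classical
  have hkN : Nat.Coprime k (Nat.card N) := hk.coprime_dvd_right (Subgroup.card_subgroup_dvd_card N)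
  let γ : (N → ℂ) → (N → ℂ) := fun f n => f (n ^ k)
  have hcomm : ∀ f a, γ (Cfsg.Agent.CharInduced.conjFun N f a) = Cfsg.Agent.CharInduced.conjFun N (γ f) a := by
    intro f a
    funext n
    show f _ = f _
    congr 1
    apply Subtype.ext
    simp [conj_pow]
  have hinj : Function.Injective γ := by
    intro f f' h
    funext n
    have := congrFun h ((GaloisChar80.powPerm hkN).symm n)
    simp only [γ, ← GaloisChar80.powPerm_apply hkN, Equiv.apply_symm_apply] at this
    exact this
  have hγθ : Cfsg.classInner (fun n : N => (χ : G → ℂ) n) (γ (θ : N → ℂ)) ≠ 0 := by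
    refine fun h0 => hθ ?_
    rw [← h0, Cfsg.classInner, Cfsg.classInner]
    congr 1
    rw [← Equiv.sum_comp (GaloisChar80.powPerm hkN) (fun g : N =>
      (χ : G → ℂ) g * (starRingEnd ℂ) ((θ : N → ℂ) g))]
    refine Finset.sum_congr rfl fun g _ => ?_
    rw [GaloisChar80.powPerm_apply, Subgroup.coe_pow, hχ]
  obtain ⟨a, ha⟩ := (CharInduced.mem_orbitFin N).1 (CharInduced.mem_orbit_of_constituents N χ.2 θ.2
    (GaloisChar80.isIrrCharacter_pow hkN θ.2) hθ hγθ)
  set I := CharInduced.inertia N (θ : N → ℂ) with hI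
  have hIa : ∀ b, b ∈ I ↔ a * b * a⁻¹ ∈ I := by
    intro b
    have h1 : b ∈ I ↔ CharInduced.conjFun N (γ (θ : N → ℂ)) b = γ (θ : N → ℂ) := by
      rw [hI, CharInduced.mem_inertia, ← hcomm, hinj.eq_iff]
    rw [h1, show γ (θ : N → ℂ) = CharInduced.conjFun N (θ : N → ℂ) a from ha.symm,
      CharInduced.conjFun_conjFun, CharInduced.conjFun_eq_iff]
  have hpow : ∀ j, CharInduced.conjFun N (θ : N → ℂ) (a ^ j) = γ^[j] (θ : N → ℂ) := by
    intro j
    induction j with
    | zero => simp [CharInduced.conjFun_one]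
    | succ j ih =>
      rw [Function.iterate_succ_apply', ← ih, hcomm, show γ (θ : N → ℂ) = CharInduced.conjFun N (θ : N → ℂ) a from ha.symm,
        CharInduced.conjFun_conjFun, pow_succ']
  have hiter : ∀ j (n : N), γ^[j] (θ : N → ℂ) n = (θ : N → ℂ) (n ^ k ^ j) := by
    intro j
    induction j with
    | zero => simp
    | succ j ih =>
      intro n
      rw [Function.iterate_succ_apply']
      show γ^[j] (θ : N → ℂ) (n ^ k) = _
      rw [ih, ← pow_mul, ← pow_succ']
  have hape : a ^ p ^ e ∈ I := by
    rw [hI, CharInduced.mem_inertia, hpow]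
    funext n
    rw [hiter]
    refine congrArg (θ : N → ℂ) ?_
    conv_rhs => rw [← pow_one n]
    rw [pow_eq_pow_iff_modEq]
    exact hke.of_dvd (orderOf_dvd_natCard n |>.trans (Subgroup.card_subgroup_dvd_card N))
  have haI : a ∈ I := by
    set Nz := Subgroup.normalizer (I : Set G)
    have haN : a ∈ Nz := Subgroup.mem_normalizer_iff.2 hIa
    haveI : (I.subgroupOf Nz).Normal := Subgroup.normal_in_normalizer
    set q : Nz ⧸ I.subgroupOf Nz := QuotientGroup.mk ⟨a, haN⟩ with hq
    have h1 : q ^ p ^ e = 1 := by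
      rw [hq, ← QuotientGroup.mk_pow, QuotientGroup.eq_one_iff, Subgroup.mem_subgroupOf]
      exact hape
    have h2 : orderOf q ∣ N.index := by
      refine (orderOf_dvd_natCard q).trans ?_
      refine (Dvd.intro _ (Subgroup.relIndex_mul_index Subgroup.le_normalizer)).trans ?_
      exact Subgroup.index_dvd_of_le (CharInduced.le_inertia N (CharInduced.isClassFunction_irr θ.2))
    obtain ⟨j, -, hj⟩ := (Nat.dvd_prime_pow (Fact.out : p.Prime)).1 (orderOf_dvd_of_pow_eq_one h1)
    rcases Nat.eq_zero_or_pos j with rfl | hj0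
    · rw [pow_zero, orderOf_eq_one_iff, hq, QuotientGroup.eq_one_iff, Subgroup.mem_subgroupOf] at hj
      exact hj
    · exact absurd ((dvd_pow_self p hj0.ne').trans (hj ▸ h2)) hidx
  intro n
  have := congrFun (ha.symm.trans ((CharInduced.mem_inertia N).1 haI)) n
  exact this

end Cfsg.Agent.S4518
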