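import Cfsg.Statements.S4520
import Cfsg.Agent.Lib.BlockTwist79
import Cfsg.Agent.Lib.BrauerBlocksCovering
import Cfsg.Agent.Lib.BlockPrincipal81
import Cfsg.Agent.Lib.CharProjDegree
import Cfsg.Agent.Lib.CharAverage

set_option autoImplicit false
open Cfsg

namespace Cfsg.Agent.S4520


open scoped ComplexConjugate
open BlockTheoryLocalRing BlockTheoryCentre BlockTheoryIdem BlockContrib BlockContribPrime

attribute [local instance] Classical.propDecidable


/-- Let N be a normal subgroup of odd index in the finite group G, M a maximal ideal of the algebraic integers containing 2, and k coprime to the order of G with k ^ (2 ^ e) ≡ 1 modulo the order of G for some e and g ^ k = g⁻¹ for every element g of odd order. Let θ be an irreducible character of N and χ an irreducible character of G over θ, both unchanged by composing with g ↦ g ^ k. Then χ lies in the principal 2-block of G if and only if θ lies in the principal 2-block of N. -/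
theorem result {G : Type*} [Group G] [Fintype G] (M : Ideal Cfsg.AlgInt) (hM : Cfsg.IsPModular 2 M) (N : Subgroup G) [N.Normal] [Fintype N] (hidx : Odd N.index) (k e : ℕ) (hk : Nat.Coprime k (Nat.card G)) (hke : k ^ (2 ^ e) ≡ 1 [MOD Nat.card G]) (hk₂ : ∀ g : G, Odd (orderOf g) → g ^ k = g⁻¹) (θ : Cfsg.IrrCharacter N) (hθ : ∀ n : N, (θ : N → ℂ) (n ^ k) = (θ : N → ℂ) n) (χ : Cfsg.IrrCharacter G) (hχ : ∀ g : G, (χ : G → ℂ) (g ^ k) = (χ : G → ℂ) g) (hover : Cfsg.classInner (fun n : N => (χ : G → ℂ) n) (θ : N → ℂ) ≠ 0) : χ ∈ Cfsg.principalBlock M G ↔ θ ∈ Cfsg.principalBlock M N := by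
  classical
  haveI : Fact (Nat.Prime 2) := ⟨Nat.prime_two⟩
  have hb : Cfsg.IsPBlock M (Cfsg.principalBlock M N) := BlockPrincipal81.isPBlock_principal
  have hone := BlockPrincipal81.oneChar_mem (G := N) hM
  constructor
  · intro h
    have hcon : Cfsg.classInner (fun n : N => ((BlockPrincipal81.oneChar G : Cfsg.IrrCharacter G) : G → ℂ) n)
        ((BlockPrincipal81.oneChar N : Cfsg.IrrCharacter N) : N → ℂ) ≠ 0 := by
      rw [show (fun n : N => ((BlockPrincipal81.oneChar G : Cfsg.IrrCharacter G) : G → ℂ) n) =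
        ((BlockPrincipal81.oneChar N : Cfsg.IrrCharacter N) : N → ℂ) from rfl,
        CharBasicOrth.classInner_irr_self (BlockPrincipal81.oneChar N).2]
      exact one_ne_zero
    obtain ⟨g, hg⟩ := BrauerBlocksCovering.mem_orb_of_sameBlock N hM hb
      (show Cfsg.SameBlock M ((BlockPrincipal81.oneChar G : Cfsg.IrrCharacter G) : G → ℂ) (χ : G → ℂ) from h)
      hone hcon hover
    have h1 := BrauerBlocksCovering.sameBlock_conjIrr N
      (show Cfsg.SameBlock M ((BlockPrincipal81.oneChar N : Cfsg.IrrCharacter N) : N → ℂ)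
        (BrauerBlocksCovering.conjIrr N θ g : N → ℂ) from hg) g⁻¹
    rw [BrauerBlocksCovering.conjIrr_conjIrr, mul_inv_cancel, BrauerBlocksCovering.conjIrr_one] at h1
    exact h1
  · intro h
    set F : G → ℂ := fun g => if g ∈ N then 1 else 0 with hF
    have hsumN : ∀ f : G → ℂ, ∑ g : G, (if g ∈ N then f g else 0) = ∑ n : N, f n := fun f => by
      rw [← Finset.sum_filter]
      exact Finset.sum_subtype _ (fun x => by simp) f
    have hFc : Cfsg.IsClassFunction G F := fun x c => by
      simp only [hF]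
      refine if_congr ⟨fun hx => ?_, fun hx => ?_⟩ rfl rfl
      · have := Subgroup.Normal.conj_mem inferInstance _ hx c⁻¹
        simpa [mul_assoc] using this
      · exact Subgroup.Normal.conj_mem inferInstance _ hx c
    have hθ1 : pair 2 (θ : N → ℂ) ((BlockPrincipal81.oneChar N : Cfsg.IrrCharacter N) : N → ℂ) ≠ 0 := by
      have h0 : Cfsg.blockHeight 2 (Cfsg.principalBlock M N)
          ((BlockPrincipal81.oneChar N : Cfsg.IrrCharacter N) : N → ℂ) = 0 := by
        rw [blockHeight_eq]
        simp [Cfsg.charDegree, BlockPrincipal81.oneChar]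
      rw [pair_comm, pair_eq_contrib Nat.prime_two _ h (B := Cfsg.principalBlock M N)]
      exact mul_ne_zero (scale_ne_zero Nat.prime_two _)
        (Int.cast_ne_zero.2 (contrib_ne_zero hM hb hone h0 h))
    have hreg : ∀ g : G, ∑ n : N, (if ¬ 2 ∣ orderOf n then conj (CharInduced.conjFun N (θ : N → ℂ) g n) else 0) =
        ∑ n : N, (if ¬ 2 ∣ orderOf n then conj ((θ : N → ℂ) n) else 0) := by
      intro g
      rw [CharInduced.conjFun_eq_comp]
      refine Fintype.sum_equiv (MulAut.conjNormal g : N ≃* N).toEquiv _ _ fun n => ?_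
      simp [MulEquiv.orderOf_eq]
    have hχF : pair 2 (χ : G → ℂ) F ≠ 0 := by
      have hcl := CharInduced.clifford N χ.2 θ.2 hover
      have e1 : pair 2 (χ : G → ℂ) F = ∑ n : N, (if ¬ 2 ∣ orderOf n then conj ((χ : G → ℂ) n) else 0) := by
        rw [pair, regSum_eq, ← Finset.sum_congr rfl fun (n : N) _ => show
          (if ¬ 2 ∣ orderOf (n : G) then conj ((χ : G → ℂ) n) else 0) = _ by rw [Subgroup.orderOf_coe],
          ← hsumN fun g => if ¬ 2 ∣ orderOf g then conj ((χ : G → ℂ) g) else 0]
        refine Finset.sum_congr rfl fun g _ => ?_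
        simp only [hF]
        split_ifs <;> simp
      have e2 : pair 2 (θ : N → ℂ) ((BlockPrincipal81.oneChar N : Cfsg.IrrCharacter N) : N → ℂ) =
          ∑ n : N, (if ¬ 2 ∣ orderOf n then conj ((θ : N → ℂ) n) else 0) := by
        simp [pair, regSum_eq, BlockPrincipal81.oneChar]
      rw [e2] at hθ1
      have e3 : ∑ n : N, (if ¬ 2 ∣ orderOf n then conj ((χ : G → ℂ) n) else 0) =
          conj (Cfsg.classInner (fun n : N => (χ : G → ℂ) n) (θ : N → ℂ)) *
            ((CharInduced.orbitFin N (θ : N → ℂ)).card *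
              ∑ n : N, (if ¬ 2 ∣ orderOf n then conj ((θ : N → ℂ) n) else 0)) := by
        rw [← nsmul_eq_mul, ← Finset.sum_const, Finset.mul_sum]
        have e4 : ∀ ψ ∈ CharInduced.orbitFin N (θ : N → ℂ),
            conj (Cfsg.classInner (fun n : N => (χ : G → ℂ) n) (θ : N → ℂ)) *
              (∑ n : N, (if ¬ 2 ∣ orderOf n then conj ((θ : N → ℂ) n) else 0)) =
            ∑ n : N, conj (Cfsg.classInner (fun n : N => (χ : G → ℂ) n) (θ : N → ℂ)) *
              (if ¬ 2 ∣ orderOf n then conj (ψ n) else 0) := by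
          intro ψ hψ
          obtain ⟨g, rfl⟩ := (CharInduced.mem_orbitFin N).1 hψ
          rw [← hreg g, Finset.mul_sum]
        rw [Finset.sum_congr rfl e4, Finset.sum_comm]
        refine Finset.sum_congr rfl fun n _ => ?_
        have hn : (χ : G → ℂ) n = Cfsg.classInner (fun n : N => (χ : G → ℂ) n) (θ : N → ℂ) *
            ∑ ψ ∈ CharInduced.orbitFin N (θ : N → ℂ), ψ n := by
          simpa using congrFun hcl n
        split_ifs with hr
        · simp
        · rw [hn, map_mul, map_sum, Finset.mul_sum]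
      rw [e1, e3]
      refine mul_ne_zero ((map_ne_zero _).2 hover) (mul_ne_zero (Nat.cast_ne_zero.2 ?_) hθ1)
      exact (Finset.card_pos.2 ⟨_, CharInduced.self_mem_orbitFin N _⟩).ne'
    obtain ⟨ψ, hψF, hψχ⟩ : ∃ ψ : Cfsg.IrrCharacter G, Cfsg.classInner F (ψ : G → ℂ) ≠ 0 ∧
        pair 2 (χ : G → ℂ) ψ ≠ 0 := by
      by_contra! hcon
      refine hχF ?_
      have e : pair 2 (χ : G → ℂ) F =
          ∑ ψ : Cfsg.IrrCharacter G, Cfsg.classInner F (ψ : G → ℂ) * pair 2 (χ : G → ℂ) ψ := by
        simp only [pair, regSum_eq, Finset.mul_sum]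
        rw [Finset.sum_comm]
        refine Finset.sum_congr rfl fun g _ => ?_
        split_ifs with hr
        · simp
        · conv_lhs => rw [CharBasicOrth.eq_sum_classInner hFc]
          simp only [Finset.sum_apply, Pi.smul_apply, smul_eq_mul, Finset.mul_sum]
          exact Finset.sum_congr rfl fun ψ _ => by ring
      rw [e]
      refine Finset.sum_eq_zero fun ψ _ => ?_
      by_cases h0 : Cfsg.classInner F (ψ : G → ℂ) = 0
      · rw [h0, zero_mul]
      · rw [hcon ψ h0, mul_zero]
    have hψB : ψ ∈ Cfsg.blockOf M (χ : G → ℂ) := by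
      by_contra hn
      exact hψχ (pair_eq_zero hM (isPBlock_blockOf χ) (self_mem_blockOf hM χ) hn)
    have hodd : Odd (Cfsg.charDegree (ψ : G → ℂ)) := by
      have hne : Cfsg.classInner (fun n : N => (ψ : G → ℂ) n)
          ((BlockPrincipal81.oneChar N : Cfsg.IrrCharacter N) : N → ℂ) ≠ 0 := by
        intro h0
        refine hψF ?_
        rw [Cfsg.classInner] at h0 ⊢
        rw [mul_eq_zero] at h0 ⊢
        refine Or.inr ?_
        have h1 := h0.resolve_left (inv_ne_zero (Nat.cast_ne_zero.2 Nat.card_pos.ne'))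
        simp only [BlockPrincipal81.oneChar, map_one, mul_one] at h1
        rw [Finset.sum_congr rfl fun g _ => show F g * conj ((ψ : G → ℂ) g) =
          if g ∈ N then conj ((ψ : G → ℂ) g) else 0 by simp only [hF]; split_ifs <;> simp, hsumN,
          ← map_sum, h1, map_zero]
      obtain ⟨j, d, hd, hψ1, hj⟩ := CharProjDegree.degree_dvd N ψ.2 (BlockPrincipal81.oneChar N).2 hne
      have hd1 : d = 1 := by
        simp only [BlockPrincipal81.oneChar] at hd
        exact_mod_cast hd.symm
      rw [hd1, one_mul, CharAverage.irr_apply_one, Nat.cast_inj] at hψ1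
      exact hψ1 ▸ hidx.of_dvd_nat hj
    have hcent : ∀ g : G, Subgroup.centralizer ({g} : Set G) = Subgroup.centralizer ({g ^ k} : Set G) := by
      intro g
      obtain ⟨l, hl⟩ := exists_pow_eq_self_of_coprime (hk.coprime_dvd_right (orderOf_dvd_natCard g))
      ext x
      simp only [Subgroup.mem_centralizer_singleton_iff]
      refine ⟨fun hx => (Commute.pow_right hx k), fun hx => ?_⟩
      have h' := Commute.pow_right hx l
      rwa [hl] at h'
    have hsame : Cfsg.SameBlock M (ψ : G → ℂ) (fun g => (ψ : G → ℂ) (g ^ k)) := by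
      intro g
      have e : Cfsg.centralChar (fun g => (ψ : G → ℂ) (g ^ k)) g = Cfsg.centralChar (ψ : G → ℂ) (g ^ k) := by
        simp only [Cfsg.centralChar, one_pow, hcent g]
      have e' : Cfsg.centralChar (χ : G → ℂ) (g ^ k) = Cfsg.centralChar (χ : G → ℂ) g := by
        simp only [Cfsg.centralChar, hχ g, ← hcent g]
      have h1 : Cfsg.SameBlock M (χ : G → ℂ) (ψ : G → ℂ) := hψB
      rw [e]
      have h2 := ideal_sub hM (h1 (g ^ k)) (h1 g)
      rw [e'] at h2
      convert h2 using 1
      ring
    have hpr := BlockTwist79.mem_principal_of_twist hM hk hk₂ ψ hodd hsame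
    exact sameBlock_trans hM (show Cfsg.SameBlock M (fun _ : G => (1 : ℂ)) (ψ : G → ℂ) from hpr)
      (sameBlock_symm (show Cfsg.SameBlock M (χ : G → ℂ) (ψ : G → ℂ) from hψB))

end Cfsg.Agent.S4520
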