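import Cfsg.Statements.S4521
import Cfsg.Agent.Lib.BlockTheoryIdem
import Cfsg.Agent.Lib.BlockPrincipal81
import Cfsg.Agent.Lib.CharAverage

set_option autoImplicit false
open Cfsg

namespace Cfsg.Agent.S4521


open scoped ComplexConjugate
open BlockTheoryLocalRing BlockTheoryCentre BlockTheoryIdem

attribute [local instance] Classical.propDecidable

section

variable {G : Type*} [Group G] [Fintype G]

/-- Central characters agreeing on the regular elements put a character into the block. -/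
theorem sameBlock_of_regular {p : ℕ} [Fact p.Prime] {M : Ideal Cfsg.AlgInt} (hM : Cfsg.IsPModular p M)
    (χ ψ : Cfsg.IrrCharacter G)
    (h : ∀ x : G, ¬ p ∣ orderOf x →
      MemLocalIdeal M (centralChar (χ : G → ℂ) x - centralChar (ψ : G → ℂ) x)) :
    SameBlock M (χ : G → ℂ) (ψ : G → ℂ) := by
  have hB := isPBlock_blockOf χ (M := M)
  by_contra hne
  have e : ∀ φ : Cfsg.IrrCharacter G, omega (φ : G → ℂ) (idem (blockOf M (χ : G → ℂ))) =
      ∑ C : ConjClasses G, blockCoeff (blockOf M (χ : G → ℂ)) C.out * centralChar (φ : G → ℂ) C.out := by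
    intro φ
    rw [(isCen_idem _).eq_sum_classSum, map_sum]
    refine Finset.sum_congr rfl fun C _ => ?_
    rw [map_smul, smul_eq_mul, omega_classSum (irr_classFun φ), coeff_idem]
  have h1 := e χ
  have h2 := e ψ
  rw [omega_idem, if_pos (self_mem_blockOf hM χ)] at h1
  rw [omega_idem, if_neg (show ψ ∉ blockOf M (χ : G → ℂ) from hne)] at h2
  refine one_not_ideal hM ?_
  rw [show (1 : ℂ) = 1 - 0 by ring, h1, h2, ← Finset.sum_sub_distrib]
  refine ideal_sum hM fun C _ => ?_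
  rw [← mul_sub]
  by_cases hC : p ∣ orderOf C.out
  · rw [blockCoeff_eq_zero_of_dvd hM hB hC, zero_mul]; exact ideal_zero hM
  · exact ideal_mul_left hM (blockCoeff_mem hM hB _) (h _ hC)

variable {U₁ U₂ : Subgroup G} (hcomm : ∀ u ∈ U₁, ∀ v ∈ U₂, u * v = v * u) (hgen : U₁ ⊔ U₂ = ⊤)
include hcomm hgen

theorem exists_decomp (g : G) : ∃ a ∈ U₁, ∃ b ∈ U₂, g = a * b := by
  let H : Subgroup G :=
    { carrier := {g | ∃ a ∈ U₁, ∃ b ∈ U₂, g = a * b}
      one_mem' := ⟨1, U₁.one_mem, 1, U₂.one_mem, (mul_one 1).symm⟩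
      mul_mem' := by
        rintro _ _ ⟨a, ha, b, hb, rfl⟩ ⟨c, hc, d, hd, rfl⟩
        refine ⟨a * c, U₁.mul_mem ha hc, b * d, U₂.mul_mem hb hd, ?_⟩
        rw [mul_assoc a b, ← mul_assoc b c d, ← hcomm c hc b hb]
        simp only [mul_assoc]
      inv_mem' := by
        rintro _ ⟨a, ha, b, hb, rfl⟩
        refine ⟨a⁻¹, U₁.inv_mem ha, b⁻¹, U₂.inv_mem hb, ?_⟩
        rw [mul_inv_rev, hcomm a⁻¹ (U₁.inv_mem ha) b⁻¹ (U₂.inv_mem hb)] }
  have : U₁ ⊔ U₂ ≤ H := sup_le (fun x hx => ⟨x, hx, 1, U₂.one_mem, (mul_one x).symm⟩)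
    fun x hx => ⟨1, U₁.one_mem, x, hx, (one_mul x).symm⟩
  exact this (hgen ▸ Subgroup.mem_top g)

/-- Conjugates of an element of the first factor. -/
theorem exists_conj_eq (g : G) : ∃ a : U₁, ∀ u : U₁, g * (u : G) * g⁻¹ = ((a * u * a⁻¹ : U₁) : G) := by
  obtain ⟨a, ha, b, hb, rfl⟩ := exists_decomp hcomm hgen g
  refine ⟨⟨a, ha⟩, fun u => ?_⟩
  push_cast
  calc a * b * u * (a * b)⁻¹ = a * (b * u) * b⁻¹ * a⁻¹ := by group
    _ = a * u * a⁻¹ := by rw [← hcomm u u.2 b hb]; group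

theorem isConj_coe_iff (u x : U₁) : IsConj (u : G) x ↔ IsConj u x := by
  refine ⟨fun h => ?_, fun h => ?_⟩
  · obtain ⟨c, hc⟩ := isConj_iff.1 h
    obtain ⟨a, ha⟩ := exists_conj_eq hcomm hgen c
    exact isConj_iff.2 ⟨a, Subtype.ext ((ha u).symm.trans hc)⟩
  · exact U₁.subtype.map_isConj h

theorem card_conj_coe (u : U₁) : Nat.card {x : G // IsConj (u : G) x} = Nat.card {x : U₁ // IsConj u x} := by
  have hmem : ∀ x : {x : G // IsConj (u : G) x}, (x : G) ∈ U₁ := fun x => by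
    obtain ⟨c, hc⟩ := isConj_iff.1 x.2
    obtain ⟨a, ha⟩ := exists_conj_eq hcomm hgen c
    rw [← hc, ha u]
    exact SetLike.coe_mem _
  exact Nat.card_congr
    { toFun := fun x => ⟨⟨x, hmem x⟩, (isConj_coe_iff hcomm hgen u ⟨x, hmem x⟩).1 x.2⟩
      invFun := fun x => ⟨(x.1 : G), (isConj_coe_iff hcomm hgen u x.1).2 x.2⟩
      left_inv := fun _ => rfl
      right_inv := fun _ => rfl }

/-- On a factor a character has the central character of each of its constituents. -/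
theorem centralChar_coe [Fintype U₁] (χ : Cfsg.IrrCharacter G) (ψ : Cfsg.IrrCharacter U₁)
    (hne : classInner (fun u : U₁ => (χ : G → ℂ) u) (ψ : U₁ → ℂ) ≠ 0) (u : U₁) :
    centralChar (χ : G → ℂ) (u : G) = centralChar (ψ : U₁ → ℂ) u := by
  set c := (χ : G → ℂ) (u : G) / (χ : G → ℂ) 1 with hc
  set S := ∑ x : U₁, (χ : G → ℂ) x * conj ((ψ : U₁ → ℂ) x) with hS
  have hU : (Fintype.card U₁ : ℂ) ≠ 0 := Nat.cast_ne_zero.2 Fintype.card_ne_zero
  have hG : (Nat.card G : ℂ) ≠ 0 := Nat.cast_ne_zero.2 Nat.card_pos.ne'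
  have hsum : ∀ x : G, ∑ a : U₁, (χ : G → ℂ) ((a * u * a⁻¹ : U₁) * x) =
      (Fintype.card U₁ : ℂ) * (c * (χ : G → ℂ) x) := by
    intro x
    have h1 : ∀ g : G, ∑ a : U₁, (χ : G → ℂ) ((g * a) * u * (g * a)⁻¹ * x) =
        ∑ a : U₁, (χ : G → ℂ) ((a * u * a⁻¹ : U₁) * x) := by
      intro g
      obtain ⟨b, hb⟩ := exists_conj_eq hcomm hgen g
      refine Fintype.sum_equiv (Equiv.mulLeft b) _ _ fun a => congrArg _ (congrArg (· * x) ?_)
      rw [Equiv.coe_mulLeft, show g * (a : G) * u * (g * a)⁻¹ = g * ((a * u * a⁻¹ : U₁) : G) * g⁻¹ by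
        push_cast; group, hb]
      push_cast; group
    refine mul_left_cancel₀ hG ?_
    calc (Nat.card G : ℂ) * ∑ a : U₁, (χ : G → ℂ) ((a * u * a⁻¹ : U₁) * x)
        = ∑ g : G, ∑ a : U₁, (χ : G → ℂ) ((g * a) * u * (g * a)⁻¹ * x) := by
          rw [Finset.sum_congr rfl fun g _ => h1 g, Finset.sum_const, nsmul_eq_mul,
            Finset.card_univ, Nat.card_eq_fintype_card]
      _ = ∑ a : U₁, ∑ g : G, (χ : G → ℂ) (g * u * g⁻¹ * x) := by
          rw [Finset.sum_comm]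
          exact Finset.sum_congr rfl fun a _ => Fintype.sum_equiv (Equiv.mulRight (a : G)) _ _ fun g => rfl
      _ = _ := by
          rw [Finset.sum_const, nsmul_eq_mul, Finset.card_univ, CharAverage.sum_conj_mul, hc]; ring
  have hA : ∑ a : U₁, ∑ x : U₁, (χ : G → ℂ) ((a * u * a⁻¹ : U₁) * (x : G)) * conj ((ψ : U₁ → ℂ) x) =
      (Fintype.card U₁ : ℂ) * (c * S) := by
    rw [Finset.sum_comm, hS, Finset.mul_sum, Finset.mul_sum]
    refine Finset.sum_congr rfl fun x _ => ?_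
    rw [← Finset.sum_mul, hsum]; ring
  have hB : ∑ a : U₁, ∑ x : U₁, (χ : G → ℂ) ((a * u * a⁻¹ : U₁) * (x : G)) * conj ((ψ : U₁ → ℂ) x) =
      (Fintype.card U₁ : ℂ) * ((ψ : U₁ → ℂ) u / (ψ : U₁ → ℂ) 1 * S) := by
    rw [Finset.sum_congr rfl fun a _ => Fintype.sum_equiv (Equiv.mulLeft (a * u * a⁻¹ : U₁)) _
      (fun y : U₁ => (χ : G → ℂ) y * conj ((ψ : U₁ → ℂ) (a * u⁻¹ * a⁻¹ * y))) fun x => by
        simp only [Equiv.coe_mulLeft, Subgroup.coe_mul]
        rw [show a * u⁻¹ * a⁻¹ * (a * u * a⁻¹ * x) = x by group], Finset.sum_comm, hS, Finset.mul_sum, Finset.mul_sum]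
    refine Finset.sum_congr rfl fun y _ => ?_
    rw [← Finset.mul_sum, ← map_sum, CharAverage.sum_conj_mul, irr_inv, map_div₀, map_mul, map_mul,
      Complex.conj_conj, map_natCast, Nat.card_eq_fintype_card,
      show conj ((ψ : U₁ → ℂ) 1) = (ψ : U₁ → ℂ) 1 by rw [← irr_inv, inv_one]]
    ring
  have hS0 : S ≠ 0 := fun h => hne (by rw [classInner, ← hS, h, mul_zero])
  have hcd : c = (ψ : U₁ → ℂ) u / (ψ : U₁ → ℂ) 1 :=
    mul_right_cancel₀ hS0 (mul_left_cancel₀ hU (hA.symm.trans hB))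
  rw [centralChar, centralChar, mul_div_assoc, mul_div_assoc, ← hc, hcd, index_centralizer_eq,
    index_centralizer_eq, card_conj_coe hcomm hgen]

theorem mul_apply_mul (χ : Cfsg.IrrCharacter G) {u v : G} (hu : u ∈ U₁) (hv : v ∈ U₂) :
    (χ : G → ℂ) (u * v) * (χ : G → ℂ) 1 = (χ : G → ℂ) u * (χ : G → ℂ) v := by
  have h : ∀ g : G, (χ : G → ℂ) (g * u * g⁻¹ * v) = (χ : G → ℂ) (u * v) := by
    intro g
    obtain ⟨a, ha⟩ := exists_conj_eq hcomm hgen g
    rw [show g * u * g⁻¹ = _ from ha ⟨u, hu⟩, ← CharAverage.irr_conj_apply χ (a : G) (u * v)]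
    push_cast
    refine congrArg (χ : G → ℂ) ?_
    calc (a : G) * u * (a : G)⁻¹ * v = a * u * ((a : G)⁻¹ * v) := by group
      _ = a * (u * v) * (a : G)⁻¹ := by rw [hcomm _ (U₁.inv_mem a.2) v hv]; group
  have hs := CharAverage.sum_conj_mul χ u v
  rw [Finset.sum_congr rfl fun g _ => h g, Finset.sum_const, nsmul_eq_mul, Finset.card_univ,
    ← Nat.card_eq_fintype_card, eq_div_iff (CharAverage.irr_one_ne_zero χ)] at hs
  refine mul_left_cancel₀ (Nat.cast_ne_zero.2 (Nat.card_pos (α := G)).ne') ?_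
  linear_combination hs

/-- Class sizes multiply at elements of order prime to `p`. -/
theorem card_conj_mul {p : ℕ} [Fact p.Prime] (hZ : IsPGroup p ↥(U₁ ⊓ U₂)) (u : U₁) (v : U₂)
    (hu : ¬ p ∣ orderOf (u : G)) :
    Nat.card {x : G // IsConj ((u : G) * v) x} =
      Nat.card {x : G // IsConj (u : G) x} * Nat.card {x : G // IsConj (v : G) x} := by
  have hcomm' : ∀ a ∈ U₂, ∀ b ∈ U₁, a * b = b * a := fun a ha b hb => (hcomm b hb a ha).symm
  have hgen' : U₂ ⊔ U₁ = ⊤ := by rw [sup_comm]; exact hgen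
  have hmul : ∀ (x : {x : G // IsConj (u : G) x}) (y : {x : G // IsConj (v : G) x}),
      IsConj ((u : G) * v) ((x : G) * y) := by
    intro x y
    obtain ⟨c, hc⟩ := isConj_iff.1 x.2
    obtain ⟨d, hd⟩ := isConj_iff.1 y.2
    obtain ⟨a, ha⟩ := exists_conj_eq hcomm hgen c
    obtain ⟨b, hb⟩ := exists_conj_eq hcomm' hgen' d
    refine isConj_iff.2 ⟨(a : G) * b, ?_⟩
    rw [← hc, ← hd, ha u, hb v]
    push_cast
    have e1 := hcomm (u : G) u.2 (b : G) b.2
    have e2 := hcomm (a : G)⁻¹ (U₁.inv_mem a.2) ((b : G) * v * (b : G)⁻¹)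
      (U₂.mul_mem (U₂.mul_mem b.2 v.2) (U₂.inv_mem b.2))
    calc (a : G) * b * (u * v) * ((a : G) * b)⁻¹ = a * ((b : G) * u) * (v * (b : G)⁻¹) * (a : G)⁻¹ := by group
      _ = a * ((u : G) * b) * (v * (b : G)⁻¹) * (a : G)⁻¹ := by rw [e1]
      _ = a * u * (((b : G) * v * (b : G)⁻¹) * (a : G)⁻¹) := by group
      _ = a * u * ((a : G)⁻¹ * ((b : G) * v * (b : G)⁻¹)) := by rw [e2]
      _ = _ := by group
  rw [← Nat.card_prod]
  refine (Nat.card_congr (Equiv.ofBijective (fun z => ⟨(z.1 : G) * z.2, hmul z.1 z.2⟩) ⟨?_, ?_⟩)).symm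
  · rintro ⟨⟨x, hx⟩, ⟨y, hy⟩⟩ ⟨⟨x', hx'⟩, ⟨y', hy'⟩⟩ h
    have h' : x * y = x' * y' := congrArg Subtype.val h
    have hx1 : ∀ {x : G}, IsConj (u : G) x → x ∈ U₁ := by
      intro x hx
      obtain ⟨c, hc⟩ := isConj_iff.1 hx
      obtain ⟨a, ha⟩ := exists_conj_eq hcomm hgen c
      rw [← hc, ha u]; exact SetLike.coe_mem _
    have hy1 : ∀ {y : G}, IsConj (v : G) y → y ∈ U₂ := by
      intro y hy
      obtain ⟨c, hc⟩ := isConj_iff.1 hy
      obtain ⟨a, ha⟩ := exists_conj_eq hcomm' hgen' c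
      rw [← hc, ha v]; exact SetLike.coe_mem _
    have hz : x'⁻¹ * x = y' * y⁻¹ := by
      rw [eq_mul_inv_iff_mul_eq, mul_assoc, h']; group
    have hzmem : x'⁻¹ * x ∈ U₁ ⊓ U₂ :=
      ⟨U₁.mul_mem (U₁.inv_mem (hx1 hx')) (hx1 hx), hz ▸ U₂.mul_mem (hy1 hy') (U₂.inv_mem (hy1 hy))⟩
    have hzc : Commute x' (x'⁻¹ * x) := hcomm x' (hx1 hx') _ hzmem.2
    have hord : ∀ {w : G}, IsConj (u : G) w → orderOf w = orderOf (u : G) := by
      intro w hw
      obtain ⟨c, hc⟩ := isConj_iff.1 hw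
      rw [← hc, show c * (u : G) * c⁻¹ = MulAut.conj c (u : G) from rfl, MulEquiv.orderOf_eq]
    have hz1 : x'⁻¹ * x = 1 := by
      obtain ⟨k, hk⟩ := IsPGroup.iff_orderOf.1 hZ ⟨_, hzmem⟩
      rw [Subgroup.orderOf_mk] at hk
      have h1 : (x'⁻¹ * x) ^ orderOf (u : G) = 1 := by
        have e := hzc.mul_pow (orderOf (u : G))
        rw [mul_inv_cancel_left, ← hord hx, pow_orderOf_eq_one, hord hx, ← hord hx', pow_orderOf_eq_one,
          one_mul, hord hx'] at e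
        exact e.symm
      have h2 := orderOf_dvd_of_pow_eq_one h1
      rw [hk] at h2
      rcases k with _ | k
      · exact orderOf_eq_one_iff.1 (by simpa using hk)
      · exact absurd ((dvd_pow_self p k.succ_ne_zero).trans h2) hu
    have hxx : x = x' := by simpa using (inv_mul_eq_one.1 hz1).symm
    subst hxx
    have hyy : y = y' := mul_left_cancel h'
    subst hyy
    rfl
  · rintro ⟨w, hw⟩
    obtain ⟨c, hc⟩ := isConj_iff.1 hw
    exact ⟨(⟨c * u * c⁻¹, isConj_iff.2 ⟨c, rfl⟩⟩, ⟨c * v * c⁻¹, isConj_iff.2 ⟨c, rfl⟩⟩),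
      Subtype.ext (by show c * (u : G) * c⁻¹ * (c * v * c⁻¹) = w; rw [← hc]; group)⟩

end


/-- Let the finite group G be generated by subgroups U₁ and U₂ that commute elementwise and whose intersection is a p-group, and let M be a maximal ideal of the algebraic integers containing the prime p. If the irreducible character χ of G has the irreducible constituents ψ₁ on U₁ and ψ₂ on U₂, then χ lies in the principal block of G if and only if ψ₁ and ψ₂ lie in the principal blocks of U₁ and U₂. -/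
theorem result {G : Type*} [Group G] [Fintype G] (p : ℕ) [Fact p.Prime] (M : Ideal Cfsg.AlgInt) (hM : Cfsg.IsPModular p M) (U₁ U₂ : Subgroup G) [Fintype U₁] [Fintype U₂] (hcomm : ∀ u ∈ U₁, ∀ v ∈ U₂, u * v = v * u) (hgen : U₁ ⊔ U₂ = ⊤) (hZ : IsPGroup p ↥(U₁ ⊓ U₂)) (χ : Cfsg.IrrCharacter G) (ψ₁ : Cfsg.IrrCharacter U₁) (ψ₂ : Cfsg.IrrCharacter U₂) (h₁ : Cfsg.classInner (fun u : U₁ => (χ : G → ℂ) u) (ψ₁ : U₁ → ℂ) ≠ 0) (h₂ : Cfsg.classInner (fun u : U₂ => (χ : G → ℂ) u) (ψ₂ : U₂ → ℂ) ≠ 0) : χ ∈ Cfsg.principalBlock M G ↔ (ψ₁ ∈ Cfsg.principalBlock M U₁ ∧ ψ₂ ∈ Cfsg.principalBlock M U₂) := by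
  classical
  have hcomm' : ∀ a ∈ U₂, ∀ b ∈ U₁, a * b = b * a := fun a ha b hb => (hcomm b hb a ha).symm
  have hgen' : U₂ ⊔ U₁ = ⊤ := by rw [sup_comm]; exact hgen
  have e₁ := centralChar_coe hcomm hgen χ ψ₁ h₁
  have e₂ := centralChar_coe hcomm' hgen' χ ψ₂ h₂
  constructor
  · intro h
    refine ⟨fun x => ?_, fun x => ?_⟩
    · have := h (x : G)
      rwa [e₁ x, BlockPrincipal81.centralChar_one, index_centralizer_eq, card_conj_coe hcomm hgen,
        ← index_centralizer_eq, ← BlockPrincipal81.centralChar_one] at this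
    · have := h (x : G)
      rwa [e₂ x, BlockPrincipal81.centralChar_one, index_centralizer_eq, card_conj_coe hcomm' hgen',
        ← index_centralizer_eq, ← BlockPrincipal81.centralChar_one] at this
  · rintro ⟨hp₁, hp₂⟩
    refine sameBlock_of_regular hM (BlockPrincipal81.oneChar G) χ fun g hg => ?_
    obtain ⟨a, ha, b, hb, hab⟩ := exists_decomp hcomm hgen g
    set e := (Nat.card G).factorization p
    have hp : p.Prime := hM.1
    obtain ⟨k, hk1, hk2⟩ := Nat.chineseRemainder (n := orderOf g) (m := p ^ e)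
      ((hp.coprime_iff_not_dvd.2 hg).symm.pow_right e) 1 0
    have hreg : ∀ w : G, ¬ p ∣ orderOf (w ^ k) := by
      intro w hd
      obtain ⟨c, hc⟩ := Nat.ordProj_dvd (Nat.card G) p
      have h1 : (w ^ k) ^ c = 1 := by
        rw [← pow_mul, ← orderOf_dvd_iff_pow_eq_one]
        refine orderOf_dvd_natCard w |>.trans ?_
        exact (dvd_of_eq hc).trans (Nat.mul_dvd_mul_right (Nat.modEq_zero_iff_dvd.1 hk2) c)
      refine Nat.pow_succ_factorization_not_dvd (Nat.card_pos (α := G)).ne' hp ?_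
      refine dvd_trans ?_ (dvd_of_eq hc.symm)
      rw [pow_succ]
      exact Nat.mul_dvd_mul_left _ (hd.trans (orderOf_dvd_of_pow_eq_one h1))
    have hgk : g = a ^ k * b ^ k := by
      rw [← Commute.mul_pow (hcomm a ha b hb), ← hab]
      conv_lhs => rw [← pow_one g]
      exact pow_eq_pow_iff_modEq.2 hk1.symm
    set u : U₁ := ⟨a ^ k, U₁.pow_mem ha k⟩
    set v : U₂ := ⟨b ^ k, U₂.pow_mem hb k⟩
    have hK := card_conj_mul hcomm hgen hZ u v (hreg a)
    have hω : centralChar (χ : G → ℂ) g = centralChar (ψ₁ : U₁ → ℂ) u * centralChar (ψ₂ : U₂ → ℂ) v := by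
      rw [← e₁, ← e₂, hgk]
      simp only [centralChar, index_centralizer_eq]
      have h1 := CharAverage.irr_one_ne_zero χ
      have h2 := mul_apply_mul hcomm hgen χ u.2 v.2
      show (Nat.card {x : G // IsConj ((u : G) * v) x} : ℂ) * (χ : G → ℂ) ((u : G) * v) / _ = _
      rw [hK]
      field_simp
      push_cast
      linear_combination (Nat.card {x : G // IsConj (u : G) x} : ℂ) *
        (Nat.card {x : G // IsConj (v : G) x} : ℂ) * h2
    have hu := hp₁ u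
    have hv := hp₂ v
    rw [BlockPrincipal81.centralChar_one] at hu hv
    show MemLocalIdeal M (centralChar (fun _ : G => (1 : ℂ)) g - centralChar (χ : G → ℂ) g)
    rw [hω, BlockPrincipal81.centralChar_one, hgk, index_centralizer_eq,
      show Nat.card {x : G // IsConj (a ^ k * b ^ k) x} = _ from hK, card_conj_coe hcomm hgen,
      card_conj_coe hcomm' hgen', ← index_centralizer_eq, ← index_centralizer_eq, Nat.cast_mul]
    set A := ((Subgroup.centralizer ({u} : Set U₁)).index : ℂ)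
    set B := ((Subgroup.centralizer ({v} : Set U₂)).index : ℂ)
    rw [show A * B - centralChar (ψ₁ : U₁ → ℂ) u * centralChar (ψ₂ : U₂ → ℂ) v =
      A * (B - centralChar (ψ₂ : U₂ → ℂ) v) + centralChar (ψ₂ : U₂ → ℂ) v * (A - centralChar (ψ₁ : U₁ → ℂ) u) by ring]
    exact ideal_add hM (ideal_mul_left hM (natCast_mem (localRing hM) _) hv)
      (ideal_mul_left hM (of_isIntegral hM (isIntegral_centralChar ψ₂ _)) hu)

end Cfsg.Agent.S4521
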