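import Cfsg.Statements.S4528
import Cfsg.Agent.Lib.DihedralDefectMain79

set_option autoImplicit false
open Cfsg

namespace Cfsg.Agent.S4528

/-- Let B be a 2-block of the finite group G (relative to a maximal ideal M of the algebraic integers containing 2) whose defect group D is dihedral of order 2 ^ n with n ≥ 3. Then B contains exactly 2 ^ (n - 2) + 3 irreducible characters, its 2-regular rank (the number of irreducible Brauer characters) is between 1 and 3, exactly four of its members have height zero, and every member has height at most one. -/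
theorem result {G : Type*} [Group G] [Finite G] (M : Ideal Cfsg.AlgInt) (hM : Cfsg.IsPModular 2 M) (B : Set (Cfsg.IrrCharacter G)) (hB : Cfsg.IsPBlock M B) (D : Subgroup G) (hD : Cfsg.IsDefectGroup 2 M B D) (n : ℕ) (hn : 3 ≤ n) (hdih : Nonempty (D ≃* DihedralGroup (2 ^ (n - 1)))) : Nat.card B = 2 ^ (n - 2) + 3 ∧ 1 ≤ Cfsg.blockRank 2 B ∧ Cfsg.blockRank 2 B ≤ 3 ∧ Nat.card {χ : Cfsg.IrrCharacter G // χ ∈ B ∧ Cfsg.blockHeight 2 B (χ : G → ℂ) = 0} = 4 ∧ ∀ χ ∈ B, Cfsg.blockHeight 2 B (χ : G → ℂ) ≤ 1 := by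
  cases nonempty_fintype G
  obtain ⟨C, b, P, e, s, χ₀, S⟩ := DihedralDefectLocal79.exists_sect hM hB hD hn hdih
  have hpos : 2 * 2 ^ (n - 2) ≠ 0 := by positivity
  have hζ := Complex.isPrimitiveRoot_exp (2 * 2 ^ (n - 2)) hpos
  have hh : 2 ^ (n - 2) = 2 ∨ 2 ^ (n - 2) = 4 ∨ 8 ≤ 2 ^ (n - 2) := by
    rcases (show n - 2 = 1 ∨ n - 2 = 2 ∨ 3 ≤ n - 2 by omega) with h1 | h1 | h1
    · left; rw [h1]; rfl
    · right; left; rw [h1]; rfl
    · right; right
      calc (8 : ℕ) = 2 ^ 3 := rfl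
        _ ≤ _ := Nat.pow_le_pow_right (by norm_num) h1
  obtain ⟨hk, hr, hfour, hle⟩ := DihedralDefectMain79.main hM S hζ hh
  haveI : Fact (Nat.Prime 2) := ⟨Nat.prime_two⟩
  exact ⟨hk, BlockCyclicRank81.blockRank_pos hM hB, hr, hfour, hle⟩


end Cfsg.Agent.S4528
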