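import Cfsg.Statements.S4529
import Cfsg.Agent.Lib.MaxClassSemi79

set_option autoImplicit false
open Cfsg

namespace Cfsg.Agent.S4529

/-- The rotation of a semidihedral group. -/
theorem exists_mc_semidihedral {G : Type*} [Group G] [Fintype G] {D : Subgroup G} {n : ℕ}
    (hn : 4 ≤ n) (hcard : Nat.card D = 2 ^ n) (hsd : Cfsg.IsQuasiDihedral D) :
    ∃ σ : G, MaxClassGroup79.MC (2 ^ (n - 2)) (2 ^ (n - 2) - 1) D σ := by
  obtain ⟨m, hm, hc, x, y, hx, hy, hyx⟩ := hsd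
  have hmn : m + 1 = n := Nat.pow_right_injective le_rfl (hc.symm.trans hcard)
  subst hmn
  have hh : 4 ≤ 2 ^ (m - 1) :=
    (show 4 = 2 ^ 2 from rfl) ▸ Nat.pow_le_pow_right (by norm_num) (by omega)
  have h2 : 2 ^ m = 2 * 2 ^ (m - 1) := by rw [← pow_succ']; congr 1; omega
  rw [show m + 1 - 2 = m - 1 by omega]
  generalize hhdef : (2 : ℕ) ^ (m - 1) = h at hh h2 hyx ⊢
  rw [h2] at hx
  have hcard' : Nat.card D = 4 * h := by rw [hcard, pow_succ, h2]; ring
  have hx2 : x ^ (2 * h) = 1 := by rw [← hx, pow_orderOf_eq_one]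
  have hy2 : y * y = 1 := by rw [← pow_two, ← hy, pow_orderOf_eq_one]
  have hyn : y ∉ Subgroup.zpowers x := by
    rintro ⟨i, hi⟩
    have h1 : y * x * y⁻¹ = x ^ 1 := by
      rw [pow_one, mul_inv_eq_iff_eq_mul, ← show x ^ i = y from hi]
      exact (Commute.self_zpow x i).symm.eq
    rw [hyx, pow_inj_mod, hx, Nat.mod_eq_of_lt (by omega), Nat.mod_eq_of_lt (by omega)] at h1
    omega
  have hidx : (Subgroup.zpowers x).index = 2 := by
    have h1 := (Subgroup.zpowers x).card_mul_index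
    rw [Nat.card_zpowers, hx, hcard'] at h1
    exact Nat.eq_of_mul_eq_mul_left (by omega : 0 < 2 * h) (by rw [h1]; ring)
  have key : ∀ u : D, u ∉ Subgroup.zpowers x → u * x * u⁻¹ = x ^ (h - 1) ∧
      (u * u = 1 ∨ u * u = x ^ h) := by
    intro u hu
    have h1 : y * u ∈ Subgroup.zpowers x :=
      (Subgroup.mul_mem_iff_of_index_two hidx).2 ⟨fun a => absurd a hyn, fun a => absurd a hu⟩
    obtain ⟨a, ha⟩ : y * u ∈ Submonoid.powers x :=
      (isOfFinOrder_of_finite x).mem_powers_iff_mem_zpowers.2 h1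
    have hu' : u = y * x ^ a := by
      rw [show x ^ a = y * u from ha, ← mul_assoc, hy2, one_mul]
    have hyi : y⁻¹ = y := inv_eq_of_mul_eq_one_left hy2
    refine ⟨?_, ?_⟩
    · rw [hu', ← hyx]
      group
    · have h3 : u * u = x ^ (h * a) := by
        have h4 : y * x ^ a * y⁻¹ = x ^ ((h - 1) * a) := by rw [← conj_pow, hyx, ← pow_mul]
        rw [hyi] at h4
        rw [hu', ← mul_assoc, h4, ← pow_add]
        congr 1
        rw [Nat.sub_mul, one_mul, Nat.sub_add_cancel (Nat.le_mul_of_pos_left a (by omega))]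
      rcases Nat.even_or_odd a with ⟨r, rfl⟩ | ⟨r, rfl⟩
      · exact Or.inl (by rw [h3, show h * (r + r) = 2 * h * r by ring, pow_mul, hx2, one_pow])
      · exact Or.inr (by
          rw [h3, show h * (2 * r + 1) = 2 * h * r + h by ring, pow_add, pow_mul, hx2, one_pow,
            one_mul])
  have hmem : ∀ u : D, (u : G) ∈ Subgroup.zpowers (x : G) ↔ u ∈ Subgroup.zpowers x := by
    intro u
    refine exists_congr fun i => ?_
    show (x : G) ^ i = u ↔ x ^ i = u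
    rw [← Subgroup.coe_zpow, Subtype.coe_inj]
  refine ⟨x, ⟨x.2, by rw [Subgroup.orderOf_coe, hx], ⟨m - 1, hhdef.symm⟩, by omega, hcard', ?_,
    ⟨y, y.2, fun a => hyn ((hmem y).1 a)⟩, Or.inr ⟨hh, by omega⟩⟩⟩
  intro u hu hne
  obtain ⟨k1, k2⟩ := key ⟨u, hu⟩ fun a => hne ((hmem ⟨u, hu⟩).2 a)
  refine ⟨?_, k2.imp (fun e => congrArg Subtype.val e) fun e => ?_⟩
  · simpa using congrArg Subtype.val k1
  · simpa using congrArg Subtype.val e


/-- Let B be a 2-block of the finite group G (relative to a maximal ideal M of the algebraic integers containing 2) whose defect group D is semidihedral (quasi-dihedral) of order 2 ^ n, n ≥ 4. Then the number of irreducible characters in B is 2 ^ (n - 2) + 3 or 2 ^ (n - 2) + 4, its 2-regular rank l is between 1 and 3, with l = 3 forcing 2 ^ (n - 2) + 4 characters and l = 1 forcing 2 ^ (n - 2) + 3; exactly four members have height zero, exactly 2 ^ (n - 2) - 1 have height one, and every other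 member has height n - 2. -/
theorem result {G : Type*} [Group G] [Finite G] (M : Ideal Cfsg.AlgInt) (hM : Cfsg.IsPModular 2 M) (B : Set (Cfsg.IrrCharacter G)) (hB : Cfsg.IsPBlock M B) (D : Subgroup G) (hD : Cfsg.IsDefectGroup 2 M B D) (n : ℕ) (hn : 4 ≤ n) (hcard : Nat.card D = 2 ^ n) (hsd : Cfsg.IsQuasiDihedral D) : (Nat.card B = 2 ^ (n - 2) + 3 ∨ Nat.card B = 2 ^ (n - 2) + 4) ∧ 1 ≤ Cfsg.blockRank 2 B ∧ Cfsg.blockRank 2 B ≤ 3 ∧ (Cfsg.blockRank 2 B = 3 → Nat.card B = 2 ^ (n - 2) + 4) ∧ (Cfsg.blockRank 2 B = 1 → Nat.card B = 2 ^ (n - 2) + 3) ∧ Nat.card {χ : Cfsg.IrrCharacter G // χ ∈ B ∧ Cfsg.blockHeight 2 B (χ : G → ℂ) = 0} = 4 ∧ Nat.card {χ : Cfsg.IrrCharacter G // χ ∈ B ∧ Cfsg.blockHeight 2 B (χ : G → ℂ) = 1} = 2 ^ (n - 2) - 1 ∧ ∀ χ ∈ B, Cfsg.blockHeight 2 B (χ : G → ℂ) = 0 ∨ Cfsg.blockHeight 2 B (χ : G → ℂ) = 1 ∨ Cfsg.blockHeight 2 B (χ : G → ℂ) = n - 2 := by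
  cases nonempty_fintype G
  haveI : Fact (Nat.Prime 2) := ⟨Nat.prime_two⟩
  obtain ⟨σ, hd⟩ := exists_mc_semidihedral hn hcard hsd
  have hh : 4 ≤ 2 ^ (n - 2) :=
    (show 4 = 2 ^ 2 from rfl) ▸ Nat.pow_le_pow_right (by norm_num) (by omega)
  obtain ⟨hk, hl, hl3, hl1, h0, h1, hts⟩ := MaxClassSemi79.main hM hB hD hd (by omega) hh
  have hsub : ∀ j : ℕ, Nat.card {χ : Cfsg.IrrCharacter G //
      χ ∈ B ∧ Cfsg.blockHeight 2 B (χ : G → ℂ) = j} =
      ((BlockContribBounds.members B).filter fun χ : Cfsg.IrrCharacter G =>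
        Cfsg.blockHeight 2 B (χ : G → ℂ) = j).card := fun j =>
    Nat.subtype_card _ fun χ => by rw [Finset.mem_filter, BlockContribBounds.mem_members]
  simp only [hsub, BlockContribBounds.card_members]
  exact ⟨hk, BlockCyclicRank81.blockRank_pos hM hB, hl, hl3, hl1, h0, h1,
    fun χ hχ => (hts χ hχ).imp_right (Or.imp_right fun h => Nat.pow_right_injective le_rfl h)⟩

end Cfsg.Agent.S4529
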