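import Cfsg.Statements.S4530
import Cfsg.Agent.Lib.MaxClassMain79
import Cfsg.Agent.Lib.MaxClassCentral79
import Cfsg.Agent.Lib.MaxClassTransfer79

set_option autoImplicit false
open Cfsg

namespace Cfsg.Agent.S4530

/-- Let B be a 2-block of the finite group G (relative to a maximal ideal M of the algebraic integers containing 2) whose defect group D is generalized quaternion of order 2 ^ n, n ≥ 3. Then its 2-regular rank l is between 1 and 3, the number of irreducible characters in B is l + 2 ^ (n - 2) + 2, exactly four members have height zero, and every other member has height one or height n - 2; when n ≥ 4 exactly 2 ^ (n - 2) - 1 members have height one. -/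
theorem result {G : Type*} [Group G] [Finite G] (M : Ideal Cfsg.AlgInt) (hM : Cfsg.IsPModular 2 M) (B : Set (Cfsg.IrrCharacter G)) (hB : Cfsg.IsPBlock M B) (D : Subgroup G) (hD : Cfsg.IsDefectGroup 2 M B D) (n : ℕ) (hn : 3 ≤ n) (hq : Nonempty (D ≃* QuaternionGroup (2 ^ (n - 2)))) : 1 ≤ Cfsg.blockRank 2 B ∧ Cfsg.blockRank 2 B ≤ 3 ∧ Nat.card B = Cfsg.blockRank 2 B + 2 ^ (n - 2) + 2 ∧ Nat.card {χ : Cfsg.IrrCharacter G // χ ∈ B ∧ Cfsg.blockHeight 2 B (χ : G → ℂ) = 0} = 4 ∧ (∀ χ ∈ B, Cfsg.blockHeight 2 B (χ : G → ℂ) = 0 ∨ Cfsg.blockHeight 2 B (χ : G → ℂ) = 1 ∨ Cfsg.blockHeight 2 B (χ : G → ℂ) = n - 2) ∧ (4 ≤ n → Nat.card {χ : Cfsg.IrrCharacter G // χ ∈ B ∧ Cfsg.blockHeight 2 B (χ : G → ℂ) = 1} = 2 ^ (n - 2) - 1) := by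
  cases nonempty_fintype G
  haveI : Fact (Nat.Prime 2) := ⟨Nat.prime_two⟩
  obtain ⟨σ, hd, huniq⟩ := MaxClassLocal79.exists_mc_quaternion hn hq
  have hJ2 : orderOf (σ ^ 2 ^ (n - 2)) = 2 := MaxClassCentral79.order_J hd
  obtain ⟨hDC, b, hb, hDb, hkl⟩ :=
    MaxClassTransfer79.transfer hM hB hD (pow_mem hd.mem _) hJ2 huniq
  have hd' := MaxClassLocal79.mc_subgroupOf hd hDC (hDC hd.mem)
  have hkb := MaxClassCentral79.card_central hM hb hDb hd' (Subgroup.mem_center_iff.2 fun g =>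
    Subtype.ext ((BlockCyclicRank81.centralizer_zpowers _ _).1 g.2).symm.eq)
  have hk : (BlockContribBounds.members B).card =
      Cfsg.blockRank 2 B + 2 ^ (n - 2) + 2 := by omega
  obtain ⟨N, bN, P, e, s, χ₀, S, -, -⟩ := MaxClassLocal79.exists_sect hM hB hD hd
  have hζ := Complex.isPrimitiveRoot_exp (2 * 2 ^ (n - 2)) (by positivity)
  obtain ⟨cE, cF, C, -⟩ := MaxClassBlock79.exists_cols hM S hζ
  obtain ⟨hl, h0, hts, h1⟩ := MaxClassMain79.main hM C hk
  have hsub : ∀ j : ℕ, Nat.card {χ : Cfsg.IrrCharacter G //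
      χ ∈ B ∧ Cfsg.blockHeight 2 B (χ : G → ℂ) = j} =
      ((BlockContribBounds.members B).filter fun χ : Cfsg.IrrCharacter G =>
        Cfsg.blockHeight 2 B (χ : G → ℂ) = j).card := fun j =>
    Nat.subtype_card _ fun χ => by rw [Finset.mem_filter, BlockContribBounds.mem_members]
  refine ⟨BlockCyclicRank81.blockRank_pos hM hB, hl, by rw [BlockContribBounds.card_members, hk],
    by rw [hsub]; exact h0, fun χ hχ => ?_, fun h4 => ?_⟩
  · exact (hts χ hχ).imp_right (Or.imp_right fun h => Nat.pow_right_injective le_rfl h)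
  · rw [hsub]
    exact h1 ((show 4 = 2 ^ 2 from rfl) ▸ Nat.pow_le_pow_right (by norm_num) (by omega))


end Cfsg.Agent.S4530
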