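import Cfsg.Statements.S4540
import Cfsg.Agent.Lib.BlockMajorWeighted82

set_option autoImplicit false
open Cfsg

namespace Cfsg.Agent.S4540

/-- Let B be a 2-block of the finite group G (relative to a maximal ideal M of the algebraic integers containing 2) of defect d with defect group D. Let z be an element of D commuting with every element of D, and let b be a block of the centralizer C of z with defect group D that induces B (a major subsection (z, b)). If b has 2-regular rank at most three, then 3·k(B) ≤ 3·k₀(B) + 2·Σ 2 ^ h(χ), where k(B) is the number of members of B, k₀(B) the number of members of height zero, and the sum runs over the members χ of B of positive height h(χ); this bound is at most 3·2 ^ d, so in particular B contains at most 2 ^ d irreducible characters. -/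
theorem result {G : Type*} [Group G] [Finite G] (M : Ideal Cfsg.AlgInt) (hM : Cfsg.IsPModular 2 M) (B : Set (Cfsg.IrrCharacter G)) (hB : Cfsg.IsPBlock M B) (D : Subgroup G) (hD : Cfsg.IsDefectGroup 2 M B D) (z : G) (hzD : z ∈ D) (hzc : ∀ d ∈ D, d * z = z * d) (b : Set (Cfsg.IrrCharacter ↥(Subgroup.centralizer ({z} : Set G)))) (hb : Cfsg.IsInducedBlock M (Subgroup.centralizer ({z} : Set G)) b B) (hbD : Cfsg.IsDefectGroup 2 M b (D.subgroupOf (Subgroup.centralizer ({z} : Set G)))) (hl : Cfsg.blockRank 2 b ≤ 3) : 3 * Nat.card B ≤ 3 * Nat.card {χ : Cfsg.IrrCharacter G // χ ∈ B ∧ Cfsg.blockHeight 2 B (χ : G → ℂ) = 0} + 2 * (∑ᶠ χ ∈ {χ : Cfsg.IrrCharacter G | χ ∈ B ∧ 1 ≤ Cfsg.blockHeight 2 B (χ : G → ℂ)}, 2 ^ Cfsg.blockHeight 2 B (χ : G → ℂ)) ∧ 3 * Nat.card {χ : Cfsg.IrrCharacter G // χ ∈ B ∧ Cfsg.blockHeight 2 B (χ : G → ℂ) = 0} + 2 * (∑ᶠ χ ∈ {χ : Cfsg.IrrCharacter G | χ ∈ B ∧ 1 ≤ Cfsg.blockHeight 2 B (χ : G → ℂ)},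 2 ^ Cfsg.blockHeight 2 B (χ : G → ℂ)) ≤ 3 * 2 ^ Cfsg.blockDefect 2 B := by
  classical
  have := Fintype.ofFinite G
  haveI : Fact (Nat.Prime 2) := ⟨Nat.prime_two⟩
  have hH : ∀ g, g ∈ Subgroup.centralizer ({z} : Set G) ↔ Commute z g := fun g => by
    rw [Subgroup.mem_centralizer_singleton_iff]
    exact ⟨fun h => h.symm, fun h => h.eq.symm⟩
  have hu : ∃ k, orderOf z = 2 ^ k := by
    obtain ⟨k, hk⟩ := IsPGroup.iff_orderOf.1
      (BlockTheoryDefect.isPGroup_of_isDefectGroup hD) ⟨z, hzD⟩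
    exact ⟨k, by rw [← hk, Subgroup.orderOf_mk]⟩
  have hle : D ≤ Subgroup.centralizer ({z} : Set G) := fun d hd => (hH d).2 (hzc d hd).symm
  have hd : blockDefect 2 b = blockDefect 2 B := by
    refine Nat.pow_right_injective hM.1.two_le ?_
    change 2 ^ blockDefect 2 b = 2 ^ blockDefect 2 B
    rw [← BlockContribBounds.card_defectGroup hM hb.1 hbD,
      ← BlockContribBounds.card_defectGroup hM hB hD]
    exact Nat.card_congr (Subgroup.subgroupOfEquivOfLe hle).toEquiv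
  obtain ⟨a, hasum, ha⟩ := BlockMajorWeighted82.exists_weights hM hu hH hb hd
  rw [hd] at hasum ha
  set h : IrrCharacter G → ℕ := fun χ => blockHeight 2 B (χ : G → ℂ) with hh
  set S := BlockContribBounds.members B
  set S₀ := S.filter fun χ => h χ = 0
  set S₁ := S.filter fun χ => ¬ h χ = 0
  have hcard₀ : Nat.card {χ : IrrCharacter G // χ ∈ B ∧ blockHeight 2 B (χ : G → ℂ) = 0} = S₀.card :=
    Nat.subtype_card S₀ fun χ => by simp [S₀, S, hh]
  have hfin : (∑ᶠ χ ∈ {χ : IrrCharacter G | χ ∈ B ∧ 1 ≤ blockHeight 2 B (χ : G → ℂ)},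
      2 ^ blockHeight 2 B (χ : G → ℂ)) = ∑ χ ∈ S₁, 2 ^ h χ :=
    finsum_mem_eq_sum_of_inter_support_eq _ (by
      ext χ
      simp [S₁, S, hh, Nat.one_le_iff_ne_zero])
  have hk : Nat.card B = S₀.card + S₁.card := by
    rw [BlockContribBounds.card_members, Finset.card_filter_add_card_filter_not]
  rw [hcard₀, hfin, hk]
  have h1 : 2 * S₁.card ≤ ∑ χ ∈ S₁, 2 ^ h χ := by
    rw [mul_comm, ← smul_eq_mul, ← Finset.sum_const]
    refine Finset.sum_le_sum fun χ hχ => ?_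
    exact Nat.le_self_pow (Finset.mem_filter.1 hχ).2 2
  refine ⟨by omega, ?_⟩
  have hS₀ : ∀ χ ∈ S₀, χ ∈ B ∧ h χ = 0 := fun χ hχ => by simpa [S₀, S] using hχ
  by_cases hone : ∃ χ ∈ S₀, a χ = 1
  · obtain ⟨χ, hχ, hχ1⟩ := hone
    obtain ⟨hχB, hχ0⟩ := hS₀ χ hχ
    have h4 := ((ha χ hχB).2.2 hχ0).2
    rw [hχ1, mul_one, ← Finset.sum_filter_add_sum_filter_not S (fun χ => h χ = 0)] at h4
    have h5 : ∑ χ ∈ S₀, (4 : ℤ) ^ h χ = (S₀.card : ℤ) := by
      rw [Finset.sum_congr rfl fun χ hχ => by rw [(hS₀ χ hχ).2, pow_zero], Finset.sum_const]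
      simp
    have h6 : (∑ χ ∈ S₁, ((2 ^ h χ : ℕ) : ℤ)) ≤ ∑ χ ∈ S₁, (4 : ℤ) ^ h χ :=
      Finset.sum_le_sum fun χ _ => by
        push_cast
        exact pow_le_pow_left₀ (by norm_num) (by norm_num) _
    have h7 : ((3 * S₀.card + 2 * ∑ χ ∈ S₁, 2 ^ h χ : ℕ) : ℤ) ≤
        ((3 * 2 ^ blockDefect 2 B : ℕ) : ℤ) := by
      push_cast at h6 ⊢
      change (∑ χ ∈ S₀, (4 : ℤ) ^ h χ) + ∑ χ ∈ S₁, (4 : ℤ) ^ h χ ≤ _ at h4
      have h9 : (0 : ℤ) ≤ ∑ χ ∈ S₁, (2 : ℤ) ^ h χ := Finset.sum_nonneg fun _ _ => by positivity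
      linarith
    exact_mod_cast h7
  · push Not at hone
    have h5 : ∑ χ ∈ S₀, (3 : ℤ) ≤ ∑ χ ∈ S₀, a χ := Finset.sum_le_sum fun χ hχ => by
      obtain ⟨hχB, hχ0⟩ := hS₀ χ hχ
      obtain ⟨i, hi⟩ := ((ha χ hχB).2.2 hχ0).1
      have := (ha χ hχB).1
      have := hone χ hχ
      omega
    have h6 : ∑ χ ∈ S₁, 2 * ((2 ^ h χ : ℕ) : ℤ) ≤ ∑ χ ∈ S₁, a χ :=
      Finset.sum_le_sum fun χ hχ => by
        obtain ⟨hχS, hχ0⟩ := Finset.mem_filter.1 hχ
        have hχB := BlockContribBounds.mem_members.1 hχS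
        refine le_trans (le_of_eq ?_) (Int.le_of_dvd (ha χ hχB).1
          ((ha χ hχB).2.1 (Nat.pos_of_ne_zero hχ0)))
        rw [pow_succ']
        push_cast
        rfl
    have h8 : ∑ χ ∈ S₀, a χ + ∑ χ ∈ S₁, a χ = (2 : ℤ) ^ blockDefect 2 B * blockRank 2 b := by
      rw [← hasum]
      exact Finset.sum_filter_add_sum_filter_not S (fun χ => h χ = 0) a
    have h9 : (2 : ℤ) ^ blockDefect 2 B * blockRank 2 b ≤ (2 : ℤ) ^ blockDefect 2 B * 3 :=
      mul_le_mul_of_nonneg_left (by exact_mod_cast hl) (by positivity)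
    have h7 : ((3 * S₀.card + 2 * ∑ χ ∈ S₁, 2 ^ h χ : ℕ) : ℤ) ≤
        ((3 * 2 ^ blockDefect 2 B : ℕ) : ℤ) := by
      rw [← Finset.mul_sum] at h6
      rw [Finset.sum_const, nsmul_eq_mul] at h5
      push_cast at h6 ⊢
      linarith
    exact_mod_cast h7

end Cfsg.Agent.S4540
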