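import Cfsg.Statements.S4541
import Cfsg.Agent.Lib.BlockHeightEntry82

set_option autoImplicit false
open Cfsg

namespace Cfsg.Agent.S4541

/-- The arithmetic of the three bounds. -/
theorem arith {k l q a : ℕ} (ha : Odd a) (h1 : k ≤ q * a) (h2 : a * k ≤ q * l) :
    (Odd (Nat.sqrt l) → k ≤ Nat.sqrt l * q) ∧
      (¬ Odd (Nat.sqrt l) → (Nat.sqrt l + 1) * k ≤ l * q) ∧ (l ≤ 3 → k ≤ q) := by
  have hs1 := Nat.sqrt_le l
  have hs2 := Nat.lt_succ_sqrt l
  set s := Nat.sqrt l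
  obtain ⟨i, hi⟩ := ha
  refine ⟨fun ⟨j, hj⟩ => ?_, fun he => ?_, fun hl => ?_⟩
  · by_cases h : a ≤ s
    · exact h1.trans (by rw [mul_comm]; exact Nat.mul_le_mul_right q h)
    · have h3 : s + 2 ≤ a := by omega
      have h4 : (s + 2) * k ≤ (s + 2) * (s * q) :=
        (Nat.mul_le_mul_right k h3).trans (h2.trans (by nlinarith))
      exact Nat.le_of_mul_le_mul_left h4 (by omega)
  · obtain ⟨j, hj⟩ := Nat.not_odd_iff_even.1 he
    by_cases h : a ≤ s
    · have h3 : a + 1 ≤ s := by omega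
      have h5 : (s + 1) * a ≤ l := by nlinarith
      calc (s + 1) * k ≤ (s + 1) * (q * a) := Nat.mul_le_mul_left _ h1
        _ = q * ((s + 1) * a) := by ring
        _ ≤ q * l := Nat.mul_le_mul_left _ h5
        _ = l * q := mul_comm _ _
    · have h3 : s + 1 ≤ a := by omega
      exact (Nat.mul_le_mul_right k h3).trans (h2.trans (mul_comm q l).le)
  · by_cases h : a = 1
    · simpa [h] using h1
    · have h3 : 3 ≤ a := by omega
      have : 3 * k ≤ 3 * q :=
        (Nat.mul_le_mul_right k h3).trans (h2.trans (by rw [mul_comm 3]; exact Nat.mul_le_mul_left q hl))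
      omega

/-- Let B be a 2-block of the finite group G (relative to a maximal ideal M of the algebraic integers containing 2), u a 2-element, and b a block of the centralizer of u inducing B (a subsection (u, b)), of defect q and 2-regular rank l; write s for the integer square root of l and k₀(B) for the number of members of B of height zero. If s is odd then k₀(B) ≤ s·2 ^ q, and otherwise (s + 1)·k₀(B) ≤ l·2 ^ q; in particular k₀(B) ≤ 2 ^ q when l ≤ 3. -/
theorem result {G : Type*} [Group G] [Finite G] (M : Ideal Cfsg.AlgInt) (hM : Cfsg.IsPModular 2 M) (B : Set (Cfsg.IrrCharacter G)) (hB : Cfsg.IsPBlock M B) (u : G) (hu : ∃ j : ℕ, orderOf u = 2 ^ j) (b : Set (Cfsg.IrrCharacter ↥(Subgroup.centralizer ({u} : Set G)))) (hb : Cfsg.IsInducedBlock M (Subgroup.centralizer ({u} : Set G)) b B) : (Odd (Nat.sqrt (Cfsg.blockRank 2 b)) → Nat.card {χ : Cfsg.IrrCharacter G // χ ∈ B ∧ Cfsg.blockHeight 2 B (χ : G → ℂ) = 0} ≤ Nat.sqrt (Cfsg.blockRank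 2 b) * 2 ^ Cfsg.blockDefect 2 b) ∧ (¬ Odd (Nat.sqrt (Cfsg.blockRank 2 b)) → (Nat.sqrt (Cfsg.blockRank 2 b) + 1) * Nat.card {χ : Cfsg.IrrCharacter G // χ ∈ B ∧ Cfsg.blockHeight 2 B (χ : G → ℂ) = 0} ≤ Cfsg.blockRank 2 b * 2 ^ Cfsg.blockDefect 2 b) ∧ (Cfsg.blockRank 2 b ≤ 3 → Nat.card {χ : Cfsg.IrrCharacter G // χ ∈ B ∧ Cfsg.blockHeight 2 B (χ : G → ℂ) = 0} ≤ 2 ^ Cfsg.blockDefect 2 b) := by
  classical
  have := Fintype.ofFinite G
  haveI : Fact (Nat.Prime 2) := ⟨Nat.prime_two⟩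
  have hH : ∀ g, g ∈ Subgroup.centralizer ({u} : Set G) ↔ Commute u g := fun g => by
    rw [Subgroup.mem_centralizer_singleton_iff]
    exact ⟨fun h => h.symm, fun h => h.eq.symm⟩
  obtain ⟨a, ha0, hasum, ha⟩ := BlockHeightEntry82.exists_weights hM hu hH hb
  set S := (BlockContribBounds.members B).filter
    fun χ => blockHeight 2 B ((χ : IrrCharacter G) : G → ℂ) = 0
  have hcard : Nat.card {χ : IrrCharacter G // χ ∈ B ∧ blockHeight 2 B (χ : G → ℂ) = 0} = S.card :=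
    Nat.subtype_card S fun χ => by simp [S]
  rw [hcard]
  obtain ⟨φ, hφ, hφ0⟩ := BlockContrib.exists_height_zero (p := 2) hM hb.2.1
  obtain ⟨χ, hχS, hmin⟩ := S.exists_min_image a ⟨φ, by simp [S, hφ, hφ0]⟩
  obtain ⟨hχB, hχ0⟩ : χ ∈ B ∧ blockHeight 2 B (χ : G → ℂ) = 0 := by simpa [S] using hχS
  obtain ⟨hodd, hle⟩ := ha χ hχB hχ0
  obtain ⟨n, hn⟩ := Int.eq_ofNat_of_zero_le (ha0 χ hχB)
  rw [hn] at hle hodd
  refine arith (a := n) (by exact_mod_cast hodd) (by exact_mod_cast hle) ?_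
  have h : (n : ℤ) * S.card ≤ (2 : ℤ) ^ blockDefect 2 b * blockRank 2 b := by
    rw [← hasum, ← hn, mul_comm, ← nsmul_eq_mul, ← Finset.sum_const]
    exact (Finset.sum_le_sum fun ψ hψ => hmin ψ hψ).trans
      (Finset.sum_le_sum_of_subset_of_nonneg (Finset.filter_subset _ _)
        fun ψ hψ _ => ha0 ψ (BlockContribBounds.mem_members.1 hψ))
  exact_mod_cast h

end Cfsg.Agent.S4541
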