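import Cfsg.Statements.S4549
import Mathlib
import Cfsg.Agent.Lib.PrincipalParity80
import Cfsg.Agent.Lib.CharBasicLinear
import Cfsg.Agent.Lib.TransferTate
import Cfsg.Agent.Lib.PGroupsBasic

set_option autoImplicit false
open Cfsg

namespace Cfsg.Agent.S4549


/-- Let G be a finite group and M a maximal ideal of the algebraic integers containing 2. Let k be a natural number with g ^ k = g ^ 3 for every 2-element g and g ^ k = g for every element g of odd order (such k exist); an irreducible character χ is unchanged by g ↦ g ^ k exactly when it is fixed by the field automorphism that cubes the 2-power roots of unity and fixes the roots of unity of odd order. Then G has a normal 2-complement if and only if every member χ of the principal 2-block of odd degree with χ (g ^ k) = χ g for all g has degree one. -/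
theorem result {G : Type*} [Group G] [Finite G] (M : Ideal Cfsg.AlgInt) (hM : Cfsg.IsPModular 2 M) (k : ℕ) (hk₁ : ∀ g : G, (∃ j : ℕ, orderOf g = 2 ^ j) → g ^ k = g ^ 3) (hk₂ : ∀ g : G, Odd (orderOf g) → g ^ k = g) : Cfsg.HasNormalPComplement 2 G ↔ ∀ χ ∈ Cfsg.principalBlock M G, Odd (Cfsg.charDegree (χ : G → ℂ)) → (∀ g : G, (χ : G → ℂ) (g ^ k) = (χ : G → ℂ) g) → Cfsg.charDegree (χ : G → ℂ) = 1 := by
  classical
  haveI := Fintype.ofFinite G
  haveI : Fact (Nat.Prime 2) := ⟨Nat.prime_two⟩
  constructor
  · rintro ⟨P, K, hKn, hKP⟩ χ hχB hodd -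
    haveI := hKn
    have hcard : Nat.card K = (P : Subgroup G).index :=
      (Subgroup.IsComplement'.index_eq_card hKP).symm
    have hK2 : ¬ 2 ∣ Nat.card K := hcard ▸ Sylow.not_dvd_index P
    have hker := Cfsg.Agent.PrincipalParity80.kernel_of_principal hM K hK2 hχB
    obtain ⟨n, ρ, hρ, hρχ⟩ := χ.2
    have hρK : ∀ x ∈ K, ρ x = LinearMap.id := fun x hx => by
      refine (Cfsg.Agent.CharBasic.character_eq_finrank_iff ρ x).1 ?_
      rw [← Representation.char_one ρ, hρχ]
      exact hker x hx
    have hdec : ∀ g : G, ∃ k ∈ K, ∃ q ∈ (P : Subgroup G), g = k * q := fun g => by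
      obtain ⟨⟨a, b⟩, hab⟩ := (hKP.existsUnique g).exists
      exact ⟨a.1, a.2, b.1, b.2, hab.symm⟩
    have hirr : IsIrrCharacter (P : Subgroup G) (fun x => (χ : G → ℂ) x) := by
      haveI := hρ
      let σ : Representation ℂ (P : Subgroup G) (Fin n → ℂ) := ρ.comp (P : Subgroup G).subtype
      refine ⟨n, σ, ?_, ?_⟩
      · have hnt := Cfsg.Agent.CharBasic.nontrivial_of_irreducible ρ
        haveI : Nontrivial (Subrepresentation σ) := ⟨⟨⊥, ⊤, fun h =>
          bot_ne_top (α := Submodule ℂ (Fin n → ℂ)) (congrArg Subrepresentation.toSubmodule h)⟩⟩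
        refine ⟨fun W => ?_⟩
        let W' : Subrepresentation ρ := ⟨W.toSubmodule, fun g v hv => by
          obtain ⟨k, hk, q, hq, rfl⟩ := hdec g
          rw [map_mul, hρK k hk]
          exact W.apply_mem_toSubmodule ⟨q, hq⟩ hv⟩
        rcases eq_bot_or_eq_top W' with h | h
        · exact Or.inl (Subrepresentation.toSubmodule_injective
            (congrArg Subrepresentation.toSubmodule h :))
        · exact Or.inr (Subrepresentation.toSubmodule_injective
            (congrArg Subrepresentation.toSubmodule h :))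
      · funext x
        rw [← hρχ]
        rfl
    obtain ⟨m, hm⟩ := Cfsg.Agent.CharBasicInt.exists_apply_one_dvd_card hirr
    obtain ⟨j, hj⟩ := IsPGroup.iff_card.1 P.2
    have h1 : Cfsg.charDegree (χ : G → ℂ) = m := by
      have := hm.2.1
      simp only [OneMemClass.coe_one] at this
      simp [Cfsg.charDegree, this]
    rw [h1] at hodd ⊢
    refine Nat.eq_one_of_dvd_coprimes ?_ dvd_rfl (hj ▸ hm.2.2)
    exact (Nat.coprime_two_right.2 hodd).pow_right j
  · intro h
    have hk := Cfsg.Agent.PrincipalParity80.coprime_of_hyp hk₁ hk₂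
    obtain ⟨P⟩ : Nonempty (Sylow 2 G) := inferInstance
    haveI := Fintype.ofFinite (P : Subgroup G)
    refine Cfsg.Agent.TransferTate.hasNormalPComplement_of_le_frattini P ?_
    intro x hx
    by_contra hxF
    have hxP : x ∈ (P : Subgroup G) := hx.1
    have hx' : (⟨x, hxP⟩ : (P : Subgroup G)) ∉ frattini (P : Subgroup G) := fun hm =>
      hxF ⟨_, hm, rfl⟩
    obtain ⟨M', hM', hxM⟩ : ∃ M' : Subgroup (P : Subgroup G), IsCoatom M' ∧
        (⟨x, hxP⟩ : (P : Subgroup G)) ∉ M' := by
      by_contra hall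
      push Not at hall
      exact hx' (Subgroup.mem_iInf.2 fun K => Subgroup.mem_iInf.2 fun hK => hall K hK)
    have hidx : M'.index = 2 := Cfsg.Agent.PGroupsBasic.index_of_isCoatom P.2 hM'
    let ε : (P : Subgroup G) →* ℂˣ := MonoidHom.mk' (fun y => if y ∈ M' then 1 else -1)
      (fun a b => by
        have := Subgroup.mul_mem_iff_of_index_two hidx (a := a) (b := b)
        by_cases ha : a ∈ M' <;> by_cases hb : b ∈ M' <;> simp [this, ha, hb])
    have hε : ∀ y, ε y ^ 2 = 1 := fun y => by
      show (if y ∈ M' then (1 : ℂˣ) else -1) ^ 2 = 1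
      split_ifs <;> simp
    obtain ⟨χ, ⟨hB, hodd, hfix⟩, hne⟩ :=
      Cfsg.Agent.PrincipalParity80.exists_fixedOdd_over hM hk hk₂ P ε hε
    have h1 : (χ : G → ℂ) 1 = 1 := by
      rw [Cfsg.Agent.PrincipalSylow80.irr_charDegree χ, h χ hB hodd hfix, Nat.cast_one]
    obtain ⟨L, hL⟩ := Cfsg.Agent.CharBasicLinear.exists_hom_of_apply_one_eq_one
      (Cfsg.Agent.CharBasic.isCharacter_of_isIrrCharacter χ.2) h1
    have hLP : ∀ y : (P : Subgroup G), L y = ε y := by
      intro y
      by_contra hy
      apply hne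
      refine Cfsg.Agent.CharBasicOrth.classInner_irr_ne ?_
        (Cfsg.Agent.CharBasicDecomp.isIrrCharacter_linear ε) ?_
      · have : (fun z : (P : Subgroup G) => (χ : G → ℂ) z) =
            fun z => ((L.comp (P : Subgroup G).subtype) z : ℂ) := funext fun z => by
          simp [hL]
        rw [this]
        exact Cfsg.Agent.CharBasicDecomp.isIrrCharacter_linear _
      · intro he
        exact hy (Units.ext (by simpa [hL] using congrFun he y))
    obtain ⟨e, o, ho, heo⟩ :=
      Nat.exists_eq_pow_mul_and_not_dvd (Nat.card_pos (α := G)).ne' 2 (by norm_num)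
    let F : G →* ℂˣ := (powMonoidHom o).comp L
    have hF : IsPGroup 2 F.range := by
      rintro ⟨_, g, rfl⟩
      refine ⟨e, Subtype.ext ?_⟩
      show (L g ^ o) ^ 2 ^ e = 1
      rw [← pow_mul, mul_comm, ← heo, ← map_pow, pow_card_eq_one', map_one]
    have h2 := Cfsg.Agent.TransferPResidual.pResidual_le_ker F.rangeRestrict hF hx.2
    rw [MonoidHom.ker_rangeRestrict, MonoidHom.mem_ker] at h2
    have h3 : ε ⟨x, hxP⟩ ^ o = 1 := by
      rw [← hLP]
      exact h2
    obtain ⟨r, hr⟩ := Nat.odd_iff.2 (Nat.two_dvd_ne_zero.1 ho)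
    rw [hr, pow_succ, pow_mul, hε, one_pow, one_mul] at h3
    simp [ε, hxM] at h3

end Cfsg.Agent.S4549
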