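import Cfsg.Statements.S4551
import Cfsg.Agent.Lib.CharExtension
import Cfsg.Agent.Lib.CharExtensionCrit
import Cfsg.Agent.Lib.CharGallagher
import Cfsg.Agent.Lib.CharKernel
import Cfsg.Agent.Lib.TransferTate
import Cfsg.Agent.S4937

set_option autoImplicit false
open Cfsg

namespace Cfsg.Agent.S4551

open Cfsg.Agent.BlockTheoryLocalRing Cfsg.Agent.BlockTheoryCentre Cfsg.Agent.BlockTheoryIdem
open Cfsg.Agent.CharBasic Cfsg.Agent.CharBasicOrth Cfsg.Agent.CharBasicDecomp
open Cfsg.Agent.CharInduced Cfsg.Agent.CharExtension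
open Cfsg.Agent.PrincipalSylow80 Cfsg.Agent.PrincipalCover80
open scoped ComplexConjugate

attribute [local instance] Classical.propDecidable

universe u

variable {p : ℕ} {M : Ideal AlgInt}

theorem centralChar_triv {G : Type u} [Group G] (g : G) :
    centralChar (fun _ : G => (1 : ℂ)) g = ((Subgroup.centralizer ({g} : Set G)).index : ℂ) := by
  simp [centralChar]

/-- Extension across a cyclic quotient. -/
theorem cyclic_step [hp : Fact p.Prime] (hM : IsPModular p M) {U : Type u} [Group U] [Fintype U]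
    (W : Subgroup U) [W.Normal] [Fintype W] {c : U}
    (hc : ¬ p ∣ (Subgroup.centralizer ({c} : Set U)).index)
    (hgen : W ⊔ Subgroup.zpowers c = ⊤) {θ : IrrCharacter W} (hθ : θ ∈ principalBlock M W) :
    ∃ χ ∈ principalBlock M U, ∀ w : W, (χ : U → ℂ) w = (θ : W → ℂ) w := by
  obtain ⟨χ, hχ, hcon⟩ := PrincipalCover80.exists_over hM W hθ
  refine ⟨χ, hχ, ?_⟩
  have hχc : (χ : U → ℂ) c ≠ 0 := by
    intro h0
    have h := hχ c
    rw [centralChar_triv, centralChar, h0, mul_zero, zero_div, sub_zero, natCast_mem_iff hM] at h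
    exact hc h
  set A := U ⧸ W
  haveI hcyc : IsCyclic A := ⟨⟨(c : A), fun a => by
    obtain ⟨g, rfl⟩ := QuotientGroup.mk_surjective a
    obtain ⟨w, hw, x, ⟨i, rfl⟩, rfl⟩ :=
      Subgroup.mem_sup_of_normal_left.1 (hgen ▸ Subgroup.mem_top g)
    exact ⟨i, by simp [(QuotientGroup.eq_one_iff w).2 hw]⟩⟩⟩
  have hAcard : Nat.card (A →* ℂˣ) = W.index := by
    rw [CharBasicLinear.card_hom_units, show commutator A = ⊥ from ?_, Subgroup.index_bot]
    · rfl
    rw [eq_bot_iff, commutator_def, Subgroup.commutator_le]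
    intro a _ b _
    rw [Subgroup.mem_bot, commutatorElement_eq_one_iff_mul_comm]
    letI := IsCyclic.commGroup (α := A)
    exact mul_comm a b
  haveI : Finite (A →* ℂˣ) := Nat.finite_of_card_ne_zero (hAcard ▸ Subgroup.index_ne_zero_of_finite)
  haveI : Fintype (A →* ℂˣ) := Fintype.ofFinite _
  let tw : (A →* ℂˣ) → IrrCharacter U := fun γ =>
    ⟨_, isIrrCharacter_mul_linear χ.2 (γ.comp (QuotientGroup.mk' W))⟩
  have htw : Function.Injective tw := by
    intro γ γ' h
    have hcc := congrFun (congrArg Subtype.val h) c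
    simp only [tw, MonoidHom.comp_apply, QuotientGroup.mk'_apply] at hcc
    have h1 := mul_left_cancel₀ hχc hcc
    refine MonoidHom.ext fun a => ?_
    obtain ⟨g, rfl⟩ := QuotientGroup.mk_surjective a
    obtain ⟨w, hw, x, ⟨i, rfl⟩, rfl⟩ :=
      Subgroup.mem_sup_of_normal_left.1 (hgen ▸ Subgroup.mem_top g)
    simp [(QuotientGroup.eq_one_iff w).2 hw, map_zpow, show γ (c : A) = γ' (c : A) from Units.ext h1]
  have hm : ∀ ξ : IrrCharacter U, ∃ k : ℕ,
      classInner (fun w : W => (ξ : U → ℂ) w) (θ : W → ℂ) = k := fun ξ =>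
    classInner_isCharacter (isCharacter_res W (isCharacter_of_isIrrCharacter ξ.2))
      (isCharacter_of_isIrrCharacter θ.2)
  choose m hm using hm
  set d := charDegree (χ : U → ℂ)
  set t := charDegree (θ : W → ℂ) with ht
  have hsum : ∑ ξ : IrrCharacter U, charDegree (ξ : U → ℂ) * m ξ = W.index * t := by
    have h := sum_degree_inner W (θ : W → ℂ)
    rw [irr_charDegree θ, map_natCast] at h
    simp only [hm, fun ξ : IrrCharacter U => irr_charDegree ξ] at h
    exact_mod_cast h
  have hle : W.index * (d * m χ) ≤ W.index * t := by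
    rw [← hsum, ← hAcard, Nat.card_eq_fintype_card, ← Finset.card_univ, ← smul_eq_mul,
      ← Finset.sum_const]
    calc ∑ _γ : A →* ℂˣ, d * m χ
        = ∑ γ : A →* ℂˣ, charDegree (tw γ : U → ℂ) * m (tw γ) := by
          refine Finset.sum_congr rfl fun γ _ => ?_
          have hd : charDegree (tw γ : U → ℂ) = d := by
            simp [d, charDegree, tw]
          have hmm : m (tw γ) = m χ := by
            have hf : (fun w : W => (tw γ : U → ℂ) w) = fun w : W => (χ : U → ℂ) w := by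
              funext w
              simp [tw, show QuotientGroup.mk' W (w : U) = 1 from (QuotientGroup.eq_one_iff (w : U)).2 w.2]
            exact_mod_cast (show (m (tw γ) : ℂ) = m χ by rw [← hm, ← hm, hf])
          rw [hd, hmm]
      _ = ∑ ξ ∈ Finset.univ.image tw, charDegree (ξ : U → ℂ) * m ξ := by
          rw [Finset.sum_image fun a _ b _ h => htw h]
      _ ≤ _ := Finset.sum_le_sum_of_subset (Finset.subset_univ _)
  have hle' : d * m χ ≤ t :=
    Nat.le_of_mul_le_mul_left hle (Nat.pos_of_ne_zero Subgroup.index_ne_zero_of_finite)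
  have hcl := clifford W χ.2 θ.2 hcon
  set o := (orbitFin W (θ : W → ℂ)).card with ho
  have hd : (d : ℂ) = (m χ : ℂ) * ((o : ℂ) * (t : ℂ)) := by
    have h := congrFun hcl 1
    simp only [Pi.smul_apply, Finset.sum_apply, smul_eq_mul, OneMemClass.coe_one] at h
    rw [irr_charDegree χ, hm] at h
    rw [h, Finset.sum_congr rfl (g := fun _ => (t : ℂ)) fun ψ hψ => ?_, Finset.sum_const,
      nsmul_eq_mul]
    obtain ⟨g, rfl⟩ := (mem_orbitFin W).1 hψ
    simp [conjFun_eq_comp, irr_charDegree θ, t]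
  have hd' : d = m χ * (o * t) := by exact_mod_cast hd
  have hm0 : m χ ≠ 0 := fun e => hcon (by rw [hm, e, Nat.cast_zero])
  have ho0 : 0 < o := Finset.card_pos.2 ⟨_, self_mem_orbitFin W _⟩
  have ht0 : 0 < t := by
    refine Nat.pos_of_ne_zero fun e => irr_one_ne_zero θ ?_
    rw [irr_charDegree θ, ← ht, e, Nat.cast_zero]
  rw [hd'] at hle'
  have h1 : m χ * m χ * o ≤ 1 :=
    Nat.le_of_mul_le_mul_right (show m χ * m χ * o * t ≤ 1 * t by linarith [hle']) ht0
  have hm1 : m χ = 1 := by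
    have : 1 ≤ m χ := Nat.pos_of_ne_zero hm0
    nlinarith [h1, ho0]
  have ho1 : o = 1 := by rw [hm1] at h1; omega
  obtain ⟨ξ, hξ⟩ := Finset.card_eq_one.1 ho1
  intro w
  have h := congrFun hcl w
  have hs := self_mem_orbitFin W (θ : W → ℂ)
  rw [hξ, Finset.mem_singleton] at hs
  rw [hm, hm1, hξ, Finset.sum_singleton, Pi.smul_apply, Nat.cast_one, one_smul, ← hs] at h
  exact h

variable {G : Type u} [Group G] [Fintype G]

/-- The cyclic step inside an ambient group. -/
theorem step_sub [hp : Fact p.Prime] (hM : IsPModular p M) {W U : Subgroup G} [Fintype W]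
    (hWU : W ≤ U) [(W.subgroupOf U).Normal] (P : Sylow p G) (hPU : (P : Subgroup G) ≤ U) {c : U}
    (hc : ∀ x ∈ (P : Subgroup G), x * (c : G) = (c : G) * x)
    (hgen : W.subgroupOf U ⊔ Subgroup.zpowers c = ⊤) {θ : IrrCharacter W}
    (hθ : θ ∈ principalBlock M W) :
    ∃ χ ∈ principalBlock M U, ∀ w : W, (χ : U → ℂ) (Subgroup.inclusion hWU w) = (θ : W → ℂ) w := by
  let e : W.subgroupOf U ≃* W := Subgroup.subgroupOfEquivOfLe hWU
  have hidx : ¬ p ∣ (Subgroup.centralizer ({c} : Set U)).index := fun hd => by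
    have hle : (P : Subgroup G).subgroupOf U ≤ Subgroup.centralizer ({c} : Set U) := fun x hx => by
      rw [Subgroup.mem_centralizer_singleton_iff]
      exact Subtype.ext (hc (x : G) hx)
    apply P.not_dvd_index
    rw [← Subgroup.relIndex_mul_index hPU]
    exact (hd.trans (Subgroup.index_dvd_of_le hle)).trans (dvd_mul_right _ _)
  obtain ⟨χ, hχ, h⟩ := cyclic_step hM (W.subgroupOf U) hidx hgen (comapIrr_mem e hθ)
  refine ⟨χ, hχ, fun w => ?_⟩
  have hh := h (e.symm w)
  simp only [comapIrr, MulEquiv.apply_symm_apply] at hh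
  exact hh

/-- Extension to subgroups with nilpotent quotient of prime power order. -/
theorem ext_pgroup [hp : Fact p.Prime] (hM : IsPModular p M) (N : Subgroup G) [hN : N.Normal]
    [Fintype N] (P : Sylow p G) (hPN : (P : Subgroup G) ≤ N)
    (hsup : N ⊔ Subgroup.centralizer ((P : Subgroup G) : Set G) = ⊤) {θ : IrrCharacter N}
    (hθ : θ ∈ principalBlock M N) {q : ℕ} [Fact q.Prime] :
    ∀ (k : ℕ) (U : Subgroup G) (hNU : N ≤ U), N.relIndex U = q ^ k →
      ∃ χ ∈ principalBlock M U, ∀ n : N,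
        (χ : U → ℂ) (Subgroup.inclusion hNU n) = (θ : N → ℂ) n := by
  intro k
  induction k with
  | zero =>
    intro U hNU hk
    rw [pow_zero, Subgroup.relIndex_eq_one] at hk
    obtain rfl := le_antisymm hNU hk
    exact ⟨θ, hθ, fun n => rfl⟩
  | succ k ih =>
    intro U hNU hk
    haveI : (N.subgroupOf U).Normal := Subgroup.normal_subgroupOf
    set N' := N.subgroupOf U with hN'
    have hcard : Nat.card (U ⧸ N') = q ^ (k + 1) := hk
    obtain ⟨R, hR⟩ := Sylow.exists_subgroup_card_pow_prime (G := U ⧸ N') q (n := k)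
      (hcard ▸ pow_dvd_pow q (Nat.le_succ k))
    have hRi : R.index = q := by
      have h := R.card_mul_index
      rw [hR, hcard, pow_succ] at h
      exact mul_left_cancel₀ (pow_ne_zero k (Fact.out : q.Prime).ne_zero) h
    haveI : R.Normal := Subgroup.normal_of_index_eq_minFac_card (by
      rw [hRi, hcard, Nat.pow_minFac (Nat.succ_ne_zero k), (Fact.out : q.Prime).minFac_eq])
    set W' : Subgroup U := R.comap (QuotientGroup.mk' N') with hW'
    have hW'i : W'.index = q := by
      rw [hW', Subgroup.index_comap_of_surjective _ (QuotientGroup.mk'_surjective N'), hRi]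
    set W : Subgroup G := W'.map U.subtype with hW
    have hWU : W ≤ U := Subgroup.map_subtype_le W'
    have hWW : W.subgroupOf U = W' := by
      rw [hW, Subgroup.subgroupOf, Subgroup.comap_map_eq_self_of_injective U.subtype_injective]
    haveI : (W.subgroupOf U).Normal := by rw [hWW, hW']; infer_instance
    have hNW : N ≤ W := fun n hn => ⟨⟨n, hNU hn⟩, by
      rw [hW', SetLike.mem_coe, Subgroup.mem_comap,
        show QuotientGroup.mk' N' ⟨n, hNU hn⟩ = 1 from (QuotientGroup.eq_one_iff _).2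
          (Subgroup.mem_subgroupOf.2 hn)]
      exact one_mem R, rfl⟩
    have hWk : N.relIndex W = q ^ k := by
      have h1 := Subgroup.relIndex_mul_relIndex N W U hNW hWU
      rw [hk, show W.relIndex U = q by rw [Subgroup.relIndex, hWW, hW'i], pow_succ] at h1
      exact mul_right_cancel₀ (Fact.out : q.Prime).ne_zero h1
    haveI : Fintype W := Fintype.ofFinite W
    obtain ⟨ψ, hψB, hψ⟩ := ih W hNW hWk
    obtain ⟨u, hu⟩ : ∃ u : U, u ∉ W.subgroupOf U := by
      by_contra hall
      push Not at hall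
      have : W'.index = 1 := by rw [← hWW, (Subgroup.eq_top_iff' _).2 hall, Subgroup.index_top]
      exact (Fact.out : q.Prime).ne_one (hW'i ▸ this)
    obtain ⟨n, hn, c, hc, hnc⟩ :=
      Subgroup.mem_sup_of_normal_left.1 (hsup ▸ Subgroup.mem_top (u : G))
    have hcU : c ∈ U := by
      have h1 : c = n⁻¹ * (u : G) := by rw [← hnc, inv_mul_cancel_left]
      rw [h1]; exact mul_mem (inv_mem (hNU hn)) u.2
    have hcW : (⟨c, hcU⟩ : U) ∉ W.subgroupOf U := fun h => hu (by
      rw [Subgroup.mem_subgroupOf] at h ⊢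
      exact hnc ▸ mul_mem (hNW hn) h)
    have hgen : W.subgroupOf U ⊔ Subgroup.zpowers ⟨c, hcU⟩ = ⊤ := by
      set S := W.subgroupOf U ⊔ Subgroup.zpowers (⟨c, hcU⟩ : U)
      have h1 : S.index ∣ q := by
        rw [← hW'i, ← hWW]; exact Subgroup.index_dvd_of_le le_sup_left
      rcases ((Fact.out : q.Prime).eq_one_or_self_of_dvd _ h1) with h2 | h2
      · exact Subgroup.index_eq_one.1 h2
      · exfalso
        have heq : W.subgroupOf U = S := by
          refine le_antisymm le_sup_left (Subgroup.relIndex_eq_one.1 ?_)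
          have h3 := Subgroup.relIndex_mul_index (le_sup_left : W.subgroupOf U ≤ S)
          rw [h2, show (W.subgroupOf U).index = q by rw [hWW, hW'i]] at h3
          exact Nat.eq_of_mul_eq_mul_right (Fact.out : q.Prime).pos (by rw [one_mul]; exact h3)
        exact hcW (heq ▸ Subgroup.mem_sup_right (Subgroup.mem_zpowers _))
    obtain ⟨χ, hχ, h⟩ := step_sub hM hWU P (hPN.trans hNU) (c := ⟨c, hcU⟩)
      (fun x hx => hc x hx) hgen hψB
    exact ⟨χ, hχ, fun m => (h (Subgroup.inclusion hNW m)).trans (hψ m)⟩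

variable (N : Subgroup G) [hN : N.Normal] [Fintype N]

theorem invariant [hp : Fact p.Prime] (hM : IsPModular p M) (P : Sylow p G)
    (hPN : (P : Subgroup G) ≤ N)
    (hsup : N ⊔ Subgroup.centralizer ((P : Subgroup G) : Set G) = ⊤) {θ : IrrCharacter N}
    (hθ : θ ∈ principalBlock M N) (g : G) (n : N) :
    (θ : N → ℂ) ⟨g * n * g⁻¹, hN.conj_mem (n : G) n.2 g⟩ = (θ : N → ℂ) n := by
  obtain ⟨m, hm, c, hc, rfl⟩ := Subgroup.mem_sup_of_normal_left.1 (hsup ▸ Subgroup.mem_top g)
  set U : Subgroup G := N ⊔ Subgroup.zpowers c with hU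
  haveI : (N.subgroupOf U).Normal := Subgroup.normal_subgroupOf
  have hcU : c ∈ U := Subgroup.mem_sup_right (Subgroup.mem_zpowers c)
  have hgen : N.subgroupOf U ⊔ Subgroup.zpowers (⟨c, hcU⟩ : U) = ⊤ := by
    rw [eq_top_iff]
    rintro ⟨x, hx⟩ -
    obtain ⟨a, ha, b, ⟨i, rfl⟩, rfl⟩ := Subgroup.mem_sup_of_normal_left.1 hx
    have h1 : (⟨a, Subgroup.mem_sup_left ha⟩ : U) * (⟨c, hcU⟩ : U) ^ i ∈
        N.subgroupOf U ⊔ Subgroup.zpowers (⟨c, hcU⟩ : U) :=
      mul_mem (Subgroup.mem_sup_left (Subgroup.mem_subgroupOf.2 ha))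
        (Subgroup.mem_sup_right ⟨i, rfl⟩)
    convert h1 using 1
    exact Subtype.ext (by simp)
  obtain ⟨χ, -, h⟩ := step_sub hM (le_sup_left : N ≤ U) P (hPN.trans le_sup_left)
    (c := ⟨c, hcU⟩) (fun x hx => hc x hx) hgen hθ
  rw [← h, ← h]
  have := irr_classFun χ (Subgroup.inclusion (le_sup_left : N ≤ U) n)
    (⟨m * c, mul_mem (Subgroup.mem_sup_left hm) hcU⟩ : U)
  convert this using 2
  exact Subtype.ext (by simp)

theorem exists_extension [hp : Fact p.Prime] (hM : IsPModular p M) (P : Sylow p G)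
    (hPN : (P : Subgroup G) ≤ N)
    (hsup : N ⊔ Subgroup.centralizer ((P : Subgroup G) : Set G) = ⊤) {θ : IrrCharacter N}
    (hθ : θ ∈ principalBlock M N) :
    ∃ ψ : IrrCharacter G, ∀ n : N, (ψ : G → ℂ) n = (θ : N → ℂ) n := by
  obtain ⟨d, ρ, -, -, hρ, S, himpl, hirr⟩ :=
    exists_setup θ.2 (invariant N hM P hPN hsup hθ)
  obtain ⟨η, hη⟩ := exists_ext_of_forall_prime S himpl fun q hq => by
    haveI : Fact q.Prime := ⟨hq⟩
    obtain ⟨Q⟩ : Nonempty (Sylow q (G ⧸ N)) := inferInstance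
    set U : Subgroup G := (Q : Subgroup (G ⧸ N)).comap (QuotientGroup.mk' N) with hU
    have hNU : N ≤ U := fun n hn => by
      rw [hU, Subgroup.mem_comap,
        show QuotientGroup.mk' N n = 1 from (QuotientGroup.eq_one_iff n).2 hn]
      exact one_mem _
    have hUi : U.index = (Q : Subgroup (G ⧸ N)).index :=
      Subgroup.index_comap_of_surjective _ (QuotientGroup.mk'_surjective N)
    obtain ⟨k, hk⟩ := IsPGroup.iff_card.mp Q.isPGroup'
    have hrel : N.relIndex U = q ^ k := by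
      have h1 := Subgroup.relIndex_mul_index hNU
      have h2 := (Q : Subgroup (G ⧸ N)).card_mul_index
      rw [hUi, show N.index = Nat.card (G ⧸ N) from rfl, ← h2, hk] at h1
      exact mul_right_cancel₀ Subgroup.index_ne_zero_of_finite h1
    obtain ⟨χ, -, hχ⟩ := ext_pgroup hM N P hPN hsup hθ k U hNU hrel
    obtain ⟨η, -, hη⟩ := char_to_ext (Subgroup.inclusion hNU) ρ
      (isCharacter_of_isIrrCharacter χ.2) fun n => by rw [hρ]; exact hχ n
    exact ⟨U, hNU, η, hUi ▸ ((hq.coprime_iff_not_dvd).2 Q.not_dvd_index).symm, hη⟩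
  obtain ⟨h1, h2⟩ := ext_to_char_top hirr η hη
  exact ⟨⟨_, h1⟩, fun n => (h2 n).trans (congrFun hρ n)⟩

/-- A principal block character trivial on `N` up to a twist is the twisted character. -/
theorem eq_of_twist [hp : Fact p.Prime] (hM : IsPModular p M) (P : Sylow p G)
    (hidx : ¬ p ∣ N.index)
    (hsup : N ⊔ Subgroup.centralizer ((P : Subgroup G) : Set G) = ⊤) {χ ψ : IrrCharacter G}
    (hχ : χ ∈ principalBlock M G) (hψ : ψ ∈ principalBlock M G) {β : IrrCharacter G}
    (hβ : ∀ n : N, (β : G → ℂ) n = (β : G → ℂ) 1)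
    (heq : (χ : G → ℂ) = (β : G → ℂ) * (ψ : G → ℂ)) : χ = ψ := by
  obtain ⟨b, hb⟩ := CharKernel.exists_quot_irr N β fun n hn => hβ ⟨n, hn⟩
  haveI : Fintype (G ⧸ N) := Fintype.ofFinite _
  have hbl : ∀ a, MemLocalRing M ((b : G ⧸ N → ℂ) a) := fun a =>
    of_isIntegral hM (isCharacter_integral (isCharacter_of_isIrrCharacter b.2) a)
  set d := charDegree (b : G ⧸ N → ℂ)
  have hval : ∀ a, MemLocalIdeal M ((b : G ⧸ N → ℂ) a - d) := fun a => by
    obtain ⟨g, rfl⟩ := QuotientGroup.mk_surjective a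
    obtain ⟨m, hm, c, hc, rfl⟩ := Subgroup.mem_sup_of_normal_left.1 (hsup ▸ Subgroup.mem_top g)
    rw [QuotientGroup.mk_mul, (QuotientGroup.eq_one_iff m).2 hm, one_mul]
    have hcc : ¬ p ∣ (Subgroup.centralizer ({c} : Set G)).index := fun hd => by
      refine P.not_dvd_index (hd.trans (Subgroup.index_dvd_of_le fun x hx => ?_))
      rw [Subgroup.mem_centralizer_singleton_iff]
      exact hc x hx
    set i := ((Subgroup.centralizer ({c} : Set G)).index : ℂ) with hi
    have e1 := hχ c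
    have e2 := hψ c
    rw [centralChar_triv] at e1 e2
    have hb1 : (β : G → ℂ) 1 = (d : ℂ) := by rw [hb, ← irr_charDegree]; simp
    have hd0 : (d : ℂ) ≠ 0 := hb1 ▸ irr_one_ne_zero β
    have hψ0 := irr_one_ne_zero ψ
    have e3 : centralChar (χ : G → ℂ) c * (d : ℂ) =
        centralChar (ψ : G → ℂ) c * (b : G ⧸ N → ℂ) (c : G ⧸ N) := by
      simp only [centralChar, heq, Pi.mul_apply, hb1]
      rw [hb c]
      field_simp
    have e4 := ideal_mul_right hM (PrincipalSylow80.ideal_sub_comm e1)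
      (algInt_mem hM (d : AlgInt))
    have e5 := ideal_mul_right hM (PrincipalSylow80.ideal_sub_comm e2) (hbl (c : G ⧸ N))
    have e6 : MemLocalIdeal M (i * ((b : G ⧸ N → ℂ) (c : G ⧸ N) - d)) := by
      have := ideal_sub hM e4 e5
      convert this using 1
      rw [sub_mul, sub_mul, show (((d : ℕ) : AlgInt) : ℂ) = (d : ℂ) by simp, e3]
      ring
    have e7 := ideal_mul_left hM (inv_natCast_mem hM hcc) e6
    rwa [← mul_assoc, inv_mul_cancel₀ (Nat.cast_ne_zero.mpr Subgroup.index_ne_zero_of_finite),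
      one_mul] at e7
  have hnd : ¬ p ∣ d := fun hd => by
    have h1 : MemLocalIdeal M (∑ a, (b : G ⧸ N → ℂ) a * conj ((b : G ⧸ N → ℂ) a)) := by
      refine ideal_sum hM fun a _ => ?_
      have hda : MemLocalIdeal M ((b : G ⧸ N → ℂ) a) :=
        ideal_congr_right hM (hval a) ((natCast_mem_iff hM).2 hd)
      rw [← irr_inv]
      exact ideal_mul_right hM hda (hbl a⁻¹)
    have h2 := classInner_irr_self b.2
    rw [classInner, inv_mul_eq_iff_eq_mul₀ (Nat.cast_ne_zero.mpr Nat.card_pos.ne'), mul_one] at h2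
    rw [h2, natCast_mem_iff hM] at h1
    exact hidx h1
  by_cases htriv : (b : G ⧸ N → ℂ) = fun _ => 1
  · refine Subtype.ext (heq.trans (funext fun g => ?_))
    rw [Pi.mul_apply, hb, htriv, one_mul]
  exfalso
  have h0 : ∑ a, (b : G ⧸ N → ℂ) a = 0 := by
    have h := classInner_irr_ne b.2 isIrrCharacter_one htriv
    rw [classInner, mul_eq_zero] at h
    simpa using h.resolve_left (inv_ne_zero (Nat.cast_ne_zero.mpr Nat.card_pos.ne'))
  have h3 : MemLocalIdeal M ((Nat.card (G ⧸ N) * d : ℕ) : ℂ) := by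
    have h : MemLocalIdeal M (∑ a, ((b : G ⧸ N → ℂ) a - d)) := ideal_sum hM fun a _ => hval a
    rw [Finset.sum_sub_distrib, h0, Finset.sum_const, Finset.card_univ, nsmul_eq_mul, zero_sub] at h
    simpa [Nat.card_eq_fintype_card] using ideal_neg h
  rw [natCast_mem_iff hM] at h3
  exact (hp.out.dvd_mul.1 h3).elim hidx hnd

end Cfsg.Agent.S4551

namespace Cfsg.Agent.S4551

/-- Let N be a normal subgroup of the finite group G of index prime to p, P a Sylow p-subgroup of G with G = N·C_G(P), and M a maximal ideal of the algebraic integers containing p. Then restriction to N is a bijection from the principal p-block of G onto the principal p-block of N: every member of the principal block of G restricts to a member of the principal block of N, and every member of the principal block of N is the restriction of exactly one member of the principal block of G. -/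
theorem result {G : Type*} [Group G] [Finite G] (p : ℕ) [Fact p.Prime] (M : Ideal Cfsg.AlgInt) (hM : Cfsg.IsPModular p M) (N : Subgroup G) [N.Normal] (hidx : ¬ p ∣ N.index) (P : Sylow p G) (hsup : N ⊔ Subgroup.centralizer ((P : Subgroup G) : Set G) = ⊤) : (∀ χ ∈ Cfsg.principalBlock M G, ∃ θ ∈ Cfsg.principalBlock M ↥N, ∀ n : N, (χ : G → ℂ) n = (θ : N → ℂ) n) ∧ ∀ θ ∈ Cfsg.principalBlock M ↥N, ∃! χ : Cfsg.IrrCharacter G, χ ∈ Cfsg.principalBlock M G ∧ ∀ n : N, (χ : G → ℂ) n = (θ : N → ℂ) n := by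
  classical
  haveI : Fintype G := Fintype.ofFinite G
  haveI : Fintype N := Fintype.ofFinite N
  have hPN : (P : Subgroup G) ≤ N := fun x hx => by
    obtain ⟨j, hj⟩ := (IsPGroup.iff_orderOf.1 P.2) ⟨x, hx⟩
    rw [Subgroup.orderOf_mk] at hj
    obtain ⟨i, hi⟩ := exists_pow_eq_self_of_coprime (n := N.index) (x := x)
      (hj ▸ (((Fact.out : p.Prime).coprime_iff_not_dvd).2 hidx).symm.pow_right j)
    exact hi ▸ pow_mem (N.pow_index_mem x) i
  let P' : Sylow p N := P.subtype hPN
  have hmap : ((P' : Subgroup N).map N.subtype : Subgroup G) = (P : Subgroup G) :=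
    TransferTate.map_subtype_sylow P hPN
  have ext : ∀ θ ∈ principalBlock M N, ∃ χ ∈ principalBlock M G,
      ∀ n : N, (χ : G → ℂ) n = (θ : N → ℂ) n := fun θ hθ => by
    obtain ⟨ψ, hψ⟩ := exists_extension N hM P hPN hsup hθ
    obtain ⟨χ, hχ, hχN, -⟩ := S4937.result p M hM N P' (by rw [hmap]; exact hsup) θ hθ ⟨ψ, hψ⟩
    exact ⟨χ, hχ, hχN⟩
  have uniq : ∀ χ ∈ principalBlock M G, ∀ θ : IrrCharacter N,
      classInner (fun n : N => (χ : G → ℂ) n) (θ : N → ℂ) ≠ 0 → ∀ ψ ∈ principalBlock M G,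
        (∀ n : N, (ψ : G → ℂ) n = (θ : N → ℂ) n) → χ = ψ := by
    intro χ hχ θ hcon ψ hψB hψ
    obtain ⟨β, ⟨hβ, hβN⟩, hβeq⟩ := (CharGallagher.bijOn_one N θ.2 ψ.2 hψ).surjOn ⟨χ.2, hcon⟩
    exact eq_of_twist N hM P hidx hsup hχ hψB (β := ⟨β, hβ⟩) hβN hβeq.symm
  refine ⟨fun χ hχ => ?_, fun θ hθ => ?_⟩
  · obtain ⟨⟨θ, hirr⟩, hcon⟩ := BrauerBlocksCovering.exists_constituent
      (f := fun n : N => (χ : G → ℂ) n)
      (CharBasic.isCharacter_comap N.subtype (CharBasic.isCharacter_of_isIrrCharacter χ.2))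
      (CharBasic.isIrrCharacter_apply_one_ne_zero χ.2)
    have hθB := PrincipalCover80.constituent_mem_principal N hM hχ (θ := ⟨θ, hirr⟩) hcon
    obtain ⟨ψ, hψB, hψ⟩ := ext ⟨θ, hirr⟩ hθB
    obtain rfl := uniq χ hχ ⟨θ, hirr⟩ hcon ψ hψB hψ
    exact ⟨⟨θ, hirr⟩, hθB, hψ⟩
  · obtain ⟨ψ, hψB, hψ⟩ := ext θ hθ
    refine ⟨ψ, ⟨hψB, hψ⟩, fun χ hχ => ?_⟩
    refine uniq χ hχ.1 θ ?_ ψ hψB hψ
    rw [show (fun n : N => (χ : G → ℂ) n) = (θ : N → ℂ) from funext hχ.2,
      CharBasicOrth.classInner_irr_self θ.2]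
    exact one_ne_zero

end Cfsg.Agent.S4551
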