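import Cfsg.Statements.S4552
import Cfsg.Agent.Lib.BlockHomocyclicDefect9
import Cfsg.Agent.Lib.BlockAbelianNorm31

set_option autoImplicit false
open Cfsg

namespace Cfsg.Agent.S4552

open Cfsg.Agent.BlockTheoryDefect Cfsg.Agent.BlockTheoryIdem
open Cfsg.Agent.BrauerPairs81Base Cfsg.Agent.BrauerPairs81Pairs Cfsg.Agent.BrauerPairs81Conj
open Cfsg.Agent.BrauerPairs81Local Cfsg.Agent.BrauerPairs81Fusion Cfsg.Agent.BrauerPairs81Max
open Cfsg.Agent.BrauerPairs81Induced
open Cfsg.Agent.BlockStarMatrix9 Cfsg.Agent.BlockHomocyclicDefect9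

attribute [local instance] Classical.propDecidable

/-- The elements of order at most two of `ZMod (2 ^ m)`. -/
theorem zmod_two_torsion {m : ℕ} (hm : 1 ≤ m) (a : ZMod (2 ^ m)) :
    a + a = 0 ↔ a = 0 ∨ a = ((2 ^ (m - 1) : ℕ) : ZMod (2 ^ m)) := by
  have h2 : 2 ^ m = 2 * 2 ^ (m - 1) := by rw [← pow_succ', Nat.sub_add_cancel hm]
  have : NeZero (2 ^ m) := ⟨(pow_pos two_pos m).ne'⟩
  constructor
  · intro h
    have h0 : 2 ^ m ∣ a.val + a.val := by
      rw [← ZMod.natCast_eq_zero_iff, Nat.cast_add, ZMod.natCast_zmod_val]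
      exact h
    rw [← two_mul] at h0
    obtain ⟨q, hq⟩ := Nat.dvd_of_mul_dvd_mul_left two_pos ((dvd_of_eq h2.symm).trans h0)
    have hlt := a.val_lt
    have hq2 : q < 2 := by
      by_contra hh
      have := Nat.mul_le_mul_left (2 ^ (m - 1)) (not_lt.1 hh)
      omega
    interval_cases q
    · left
      rw [← ZMod.natCast_zmod_val a, hq]
      simp
    · right
      rw [← ZMod.natCast_zmod_val a, hq, mul_one]
  · rintro (rfl | rfl)
    · simp
    · rw [← Nat.cast_add, ← two_mul, ← h2, ZMod.natCast_self]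

theorem zmod_two_torsion_card {m : ℕ} (hm : 1 ≤ m) :
    Nat.card {a : ZMod (2 ^ m) // a + a = 0} = 2 := by
  have hne : (0 : ZMod (2 ^ m)) ≠ ((2 ^ (m - 1) : ℕ) : ZMod (2 ^ m)) := by
    intro h
    have h1 := (ZMod.natCast_eq_zero_iff _ _).1 h.symm
    have h2 := Nat.le_of_dvd (pow_pos two_pos _) h1
    have h3 : 2 ^ (m - 1) < 2 ^ m := Nat.pow_lt_pow_right one_lt_two (by omega)
    omega
  calc Nat.card {a : ZMod (2 ^ m) // a + a = 0}
      = Nat.card ({0, ((2 ^ (m - 1) : ℕ) : ZMod (2 ^ m))} : Set (ZMod (2 ^ m))) :=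
        Nat.card_congr (Equiv.subtypeEquivRight fun a => zmod_two_torsion hm a)
    _ = 2 := by rw [Nat.card_coe_set_eq, Set.ncard_pair hne]

theorem zmod_halve {m : ℕ} (hm : 1 ≤ m) (a : ZMod (2 ^ m)) (h : 2 ^ (m - 1) • a = 0) :
    ∃ b, b + b = a := by
  have : NeZero (2 ^ m) := ⟨(pow_pos two_pos m).ne'⟩
  have h2 : 2 ^ m = 2 ^ (m - 1) * 2 := by rw [← pow_succ, Nat.sub_add_cancel hm]
  rw [nsmul_eq_mul, ← ZMod.natCast_zmod_val a, ← Nat.cast_mul, ZMod.natCast_eq_zero_iff] at h
  obtain ⟨q, hq⟩ := Nat.dvd_of_mul_dvd_mul_left (pow_pos two_pos _) ((dvd_of_eq h2.symm).trans h)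
  exact ⟨(q : ZMod (2 ^ m)), by rw [← Nat.cast_add, ← two_mul, ← hq, ZMod.natCast_zmod_val]⟩

variable {G : Type*} [Group G] [Fintype G] {M : Ideal AlgInt} {B : Set (IrrCharacter G)}
  {P : Subgroup G} {c : Set (IrrCharacter (Cen P))} {m : ℕ}

theorem invariants (hM : IsPModular 2 M) (hmax : IsMaximalBrauerPair 2 M B P c) (hm : 2 ≤ m)
    (φ : P ≃* Multiplicative (ZMod (2 ^ m) × ZMod (2 ^ m))) :
    (blockRank 2 B = 1 ∧ Nat.card B = 4 ^ m) ∨ (blockRank 2 B = 3 ∧ 3 * Nat.card B = 4 ^ m + 8) := by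
  have : Fact (Nat.Prime 2) := ⟨Nat.prime_two⟩
  have hab : ∀ x ∈ P, ∀ y ∈ P, x * y = y * x := fun x hx y hy => congrArg Subtype.val
    (φ.injective (show φ (⟨x, hx⟩ * ⟨y, hy⟩) = φ (⟨y, hy⟩ * ⟨x, hx⟩) by
      rw [map_mul, map_mul, mul_comm]))
  have hcard : Nat.card P = 4 ^ m := by
    rw [Nat.card_congr φ.toEquiv]
    show Nat.card (ZMod (2 ^ m) × ZMod (2 ^ m)) = 4 ^ m
    rw [Nat.card_prod, Nat.card_zmod, ← mul_pow]
    norm_num
  have htor : ∀ x : P, x * x = 1 ↔
      (φ x).toAdd.1 + (φ x).toAdd.1 = 0 ∧ (φ x).toAdd.2 + (φ x).toAdd.2 = 0 := by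
    intro x
    rw [← φ.injective.eq_iff, map_mul, map_one, ← Multiplicative.toAdd.injective.eq_iff, toAdd_mul,
      toAdd_one, Prod.ext_iff]
    exact Iff.rfl
  have hfour : (Finset.univ.filter fun x : P => x * x = 1).card = 4 := by
    rw [← Fintype.card_subtype, ← Nat.card_eq_fintype_card]
    calc Nat.card {x : P // x * x = 1}
        = Nat.card {v : ZMod (2 ^ m) × ZMod (2 ^ m) // v.1 + v.1 = 0 ∧ v.2 + v.2 = 0} :=
          Nat.card_congr (Equiv.subtypeEquiv (φ.toEquiv.trans Multiplicative.toAdd) htor)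
      _ = 2 * 2 := by
          rw [Nat.card_congr (Equiv.subtypeProdEquivProd (p := fun a : ZMod (2 ^ m) => a + a = 0)
            (q := fun a : ZMod (2 ^ m) => a + a = 0)), Nat.card_prod,
            zmod_two_torsion_card (by omega)]
  have hexpo : ∀ x : P, x ^ 2 ^ m = 1 := fun x => by
    refine φ.injective ?_
    rw [map_pow, map_one]
    refine Multiplicative.toAdd.injective ?_
    rw [toAdd_pow, toAdd_one]
    refine Prod.ext ?_ ?_
    · rw [Prod.smul_fst, nsmul_eq_mul, ZMod.natCast_self, zero_mul]; rfl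
    · rw [Prod.smul_snd, nsmul_eq_mul, ZMod.natCast_self, zero_mul]; rfl
  have hsq : ∀ x : P, x ^ 2 ^ (m - 1) = 1 → ∃ w, w * w = x := by
    intro x hx
    have h1 := congrArg (fun v => (φ v).toAdd) hx
    simp only [map_pow, map_one, toAdd_pow, toAdd_one] at h1
    obtain ⟨b₁, h₁⟩ := zmod_halve (by omega) (φ x).toAdd.1 (congrArg Prod.fst h1)
    obtain ⟨b₂, h₂⟩ := zmod_halve (by omega) (φ x).toAdd.2 (congrArg Prod.snd h1)
    refine ⟨φ.symm (Multiplicative.ofAdd (b₁, b₂)), φ.injective ?_⟩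
    rw [map_mul, MulEquiv.apply_symm_apply, ← ofAdd_add]
    exact Multiplicative.toAdd.injective (Prod.ext h₁ h₂)
  -- the inertial quotient
  set Γ := (act c).range with hΓ
  have hodd : ¬ 2 ∣ Nat.card Γ := by
    rw [← relIndex_eq]
    exact BlockAbelianNorm31.not_dvd_index hM hmax hab
  have hfix : ∀ γ ∈ Γ, (∀ x : P, x * x = 1 → γ x = x) → γ = 1 := by
    intro γ hγ h2
    obtain ⟨n, hn⟩ := Nat.odd_iff.2 (Nat.two_dvd_ne_zero.1 hodd)
    have hpow : γ ^ (2 * n + 1) = 1 := by
      have h1 := pow_card_eq_one' (G := Γ) (x := ⟨γ, hγ⟩)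
      rw [hn] at h1
      exact congrArg Subtype.val h1
    have key : ∀ j, ∀ x : P, x ^ 2 ^ j = 1 → γ x = x := by
      intro j
      induction j with
      | zero => intro x hx; rw [pow_zero, pow_one] at hx; rw [hx, map_one]
      | succ j ih =>
        intro x hx
        have hγsq : γ (x * x) = x * x := ih _ (by
          rw [← pow_two, ← pow_mul, ← pow_succ']; exact hx)
        have hd : (γ x * x⁻¹) * (γ x * x⁻¹) = 1 := by
          have hc : ∀ a b : P, a * b = b * a := fun a b => Subtype.ext (hab a a.2 b b.2)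
          calc γ x * x⁻¹ * (γ x * x⁻¹) = γ x * (x⁻¹ * γ x) * x⁻¹ := by group
            _ = γ x * (γ x * x⁻¹) * x⁻¹ := by rw [hc x⁻¹]
            _ = γ x * γ x * (x * x)⁻¹ := by group
            _ = 1 := by rw [← map_mul, hγsq, mul_inv_cancel]
        have hdfix := h2 _ hd
        have hiter : ∀ i, (γ ^ i) x = (γ x * x⁻¹) ^ i * x := by
          intro i
          induction i with
          | zero => rw [pow_zero, pow_zero, one_mul, MulAut.one_apply]
          | succ i ihi =>
            rw [pow_succ', MulAut.mul_apply, ihi, map_mul, map_pow, hdfix, pow_succ, mul_assoc _ _ x,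
              inv_mul_cancel_right]
        have h3 := hiter (2 * n + 1)
        rw [hpow, MulAut.one_apply, pow_succ, pow_mul, pow_two, hd, one_pow, one_mul,
          inv_mul_cancel_right] at h3
        exact h3.symm
    exact MulEquiv.ext fun x => key m x (hexpo x)
  set T := {x : P // x * x = 1 ∧ x ≠ 1}
  have hTcard : Nat.card T = 3 := by
    have h1 : Nat.card T = ((Finset.univ.filter fun x : P => x * x = 1).erase 1).card := by
      rw [Nat.card_eq_fintype_card, Fintype.card_subtype]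
      exact congrArg Finset.card (Finset.ext fun x => by simp [and_comm])
    rw [h1, Finset.card_erase_of_mem (by simp), hfour]
  let ρ : Γ →* Equiv.Perm T :=
    { toFun := fun γ => (γ : MulAut P).toEquiv.subtypeEquiv fun x => by
        simp [← map_mul]
      map_one' := Equiv.ext fun x => Subtype.ext rfl
      map_mul' := fun γ δ => Equiv.ext fun x => Subtype.ext rfl }
  have hρ : Function.Injective ρ := by
    refine (injective_iff_map_eq_one ρ).2 fun γ hγ => Subtype.ext (hfix _ γ.2 fun x hx => ?_)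
    by_cases h1 : x = 1
    · rw [h1, map_one]
    · exact congrArg Subtype.val (Equiv.ext_iff.1 hγ ⟨x, hx, h1⟩)
  have hdvd : Nat.card Γ ∣ 6 := by
    have := Subgroup.card_dvd_of_injective ρ hρ
    rwa [Nat.card_perm, hTcard] at this
  have hcases : Nat.card Γ = 1 ∨ Nat.card Γ = 3 := by
    have := Nat.le_of_dvd (by norm_num) hdvd
    interval_cases Nat.card Γ <;> omega
  rcases hcases with h1 | h3
  · left
    have hst : stab (⟨P, c⟩ : BrauerPairIdx G) ≤ Cen P := by
      rw [← Subgroup.relIndex_eq_one, relIndex_eq]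
      exact h1
    obtain ⟨hl, hk⟩ := BlockAbelian81.rank_one_card hM (Fintype.card G) le_rfl hmax hab hst
    exact ⟨hl, hk.trans hcard⟩
  · right
    refine rank_eq_three (c := c) (P := P) ⟨hM, hmax, hab, hm, hcard, hfour, hexpo, hsq, h3, ?_⟩
    intro γ hγ x hx hxfix
    have hc3 : γ * γ * γ = 1 := by
      have h1 := pow_card_eq_one' (G := Γ) (x := ⟨γ, hγ⟩)
      rw [h3] at h1
      have h2 : γ ^ 3 = 1 := congrArg Subtype.val h1
      rwa [pow_succ, pow_two] at h2
    obtain ⟨j, hj⟩ := IsPGroup.iff_orderOf.1 hmax.1.1.1 x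
    obtain ⟨j, rfl⟩ : ∃ i, j = i + 1 := ⟨j - 1, by
      rcases Nat.eq_zero_or_pos j with h0 | h0
      · rw [h0, pow_zero, orderOf_eq_one_iff] at hj; exact absurd hj hx
      · omega⟩
    set w := x ^ 2 ^ j with hw
    have hw2 : w * w = 1 := by
      rw [hw, ← pow_two, ← pow_mul, ← pow_succ, ← hj, pow_orderOf_eq_one]
    have hw1 : w ≠ 1 := fun e => by
      have := Nat.le_of_dvd (pow_pos two_pos _) (orderOf_dvd_of_pow_eq_one e)
      rw [hj] at this
      have := Nat.pow_lt_pow_right one_lt_two (Nat.lt_succ_self j)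
      omega
    have hγw : γ w = w := by rw [hw, map_pow, hxfix]
    refine hfix γ hγ fun a ha => ?_
    by_contra hne
    set b := γ a with hb
    have ha1 : a ≠ 1 := fun e => hne (by rw [hb, e, map_one])
    have hb1 : b ≠ 1 := fun e => ha1 (γ.injective (e.trans (map_one γ).symm))
    have hb2 : b * b = 1 := by rw [hb, ← map_mul, ha, map_one]
    have hc2 : γ b * γ b = 1 := by rw [← map_mul, hb2, map_one]
    have hc1 : γ b ≠ 1 := fun e => hb1 (γ.injective (e.trans (map_one γ).symm))
    have hwa : w ≠ a := fun e => hne (by rw [hb, ← e]; exact hγw)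
    have hwb : w ≠ b := fun e => hwa (γ.injective (hγw.trans e))
    have hwc : w ≠ γ b := fun e => hwb (γ.injective (hγw.trans e))
    have hbc : b ≠ γ b := fun e => hne (γ.injective e.symm)
    -- the three involutions are `w`, `a`, `b`
    set S := (Finset.univ.filter fun y : P => y * y = 1).erase 1 with hS
    have hScard : S.card = 3 := by rw [hS, Finset.card_erase_of_mem (by simp), hfour]
    have hsub : ({w, a, b} : Finset P) ⊆ S := by
      intro y hy
      simp only [Finset.mem_insert, Finset.mem_singleton] at hy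
      rcases hy with rfl | rfl | rfl <;>
        exact Finset.mem_erase.2 ⟨by assumption, Finset.mem_filter.2 ⟨Finset.mem_univ _, by assumption⟩⟩
    have hmem : γ b ∈ ({w, a, b} : Finset P) := by
      rw [Finset.eq_of_subset_of_card_le hsub (by
        rw [hScard, Finset.card_insert_of_notMem (by simp [hwa, hwb]),
          Finset.card_pair (fun e => hne e.symm)])]
      exact Finset.mem_erase.2 ⟨hc1, Finset.mem_filter.2 ⟨Finset.mem_univ _, hc2⟩⟩
    simp only [Finset.mem_insert, Finset.mem_singleton] at hmem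
    rcases hmem with e | e | e
    · exact hwc e.symm
    · refine hne ?_
      have h1 : γ (γ (γ a)) = a := by
        rw [← MulAut.mul_apply, ← MulAut.mul_apply, hc3, MulAut.one_apply]
      rw [← hb, e] at h1
      exact h1
    · exact hbc e.symm

/-- Let B be a 2-block of the finite group G (relative to a maximal ideal M of the algebraic integers containing 2) whose defect group D is the direct product of two cyclic groups of the same order 2 ^ m, m ≥ 2. Then either B has 2-regular rank one and exactly 4 ^ m irreducible characters, or B has 2-regular rank three and exactly (4 ^ m + 8) / 3 irreducible characters. -/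
theorem result {G : Type*} [Group G] [Finite G] (M : Ideal Cfsg.AlgInt) (hM : Cfsg.IsPModular 2 M) (B : Set (Cfsg.IrrCharacter G)) (hB : Cfsg.IsPBlock M B) (D : Subgroup G) (hD : Cfsg.IsDefectGroup 2 M B D) (m : ℕ) (hm : 2 ≤ m) (hiso : Nonempty (D ≃* Multiplicative (ZMod (2 ^ m) × ZMod (2 ^ m)))) : (Cfsg.blockRank 2 B = 1 ∧ Nat.card B = 4 ^ m) ∨ (Cfsg.blockRank 2 B = 3 ∧ 3 * Nat.card B = 4 ^ m + 8) := by
  haveI := Fintype.ofFinite G
  haveI : Fact (Nat.Prime 2) := ⟨Nat.prime_two⟩
  obtain ⟨c, hc⟩ := exists_pairOf_of_not_small hM hB (isPGroup_of_isDefectGroup hD)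
    (not_small_cut_defect hM hB hD)
  obtain ⟨φ⟩ := hiso
  exact invariants hM (BlockFirstMainOver.maximal_of_defect hM hD hc) hm φ

end Cfsg.Agent.S4552
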