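import Cfsg.Statements.S4553
import Cfsg.Agent.Lib.BlockTheoryIdem
import Cfsg.Agent.Lib.GaloisChar80
import Cfsg.Agent.Lib.CharGallagher
import Cfsg.Agent.Lib.CharExtension
import Cfsg.Agent.Lib.CharExtensionCrit
import Cfsg.Agent.Lib.CharKernel
import Cfsg.Agent.Lib.CharBasicLinear
import Cfsg.Agent.Lib.CharInducedClifford
import Cfsg.Agent.Lib.TransferPResidual

set_option autoImplicit false
open Cfsg

namespace Cfsg.Agent.S4553

universe u

open BlockTheoryLocalRing BlockTheoryCentre BlockTheoryIdem CharBasic CharBasicOrth CharBasicDecomp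

variable {G : Type u} [Group G] [Fintype G] {p : ℕ} {M : Ideal Cfsg.AlgInt}

theorem centralChar_equiv {H : Type u} [Group H] [Fintype H] (f : H ≃* H) (ψ : H → ℂ) (x : H) :
    centralChar (fun y => ψ (f y)) x = centralChar ψ (f x) := by
  classical
  have h : (Subgroup.centralizer ({x} : Set H)).index =
      (Subgroup.centralizer ({f x} : Set H)).index := by
    rw [← Subgroup.index_map_equiv (Subgroup.centralizer ({x} : Set H)) f]
    congr 1
    ext y
    simp only [Subgroup.mem_map, Subgroup.mem_centralizer_iff, Set.mem_singleton_iff, forall_eq]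
    refine ⟨?_, fun h => ⟨f.symm y, by simpa using congrArg f.symm h, f.apply_symm_apply y⟩⟩
    rintro ⟨z, hz, rfl⟩
    simpa using congrArg f hz
  simp only [centralChar, h, map_one]

theorem blockCoeff_conj (N : Subgroup G) [N.Normal] [Fintype N] (g : G) (n : N) :
    blockCoeff (principalBlock M N) (MulAut.conjNormal g n) = blockCoeff (principalBlock M N) n := by
  classical
  set f : N ≃* N := MulAut.conjNormal g with hf
  let tw : IrrCharacter N ≃ IrrCharacter N :=
    { toFun := fun ψ => ⟨fun y => ψ.1 (f y), isIrrCharacter_comap f.toMonoidHom f.surjective ψ.2⟩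
      invFun := fun ψ => ⟨fun y => ψ.1 (f.symm y),
        isIrrCharacter_comap f.symm.toMonoidHom f.symm.surjective ψ.2⟩
      left_inv := fun ψ => Subtype.ext (funext fun y => by simp)
      right_inv := fun ψ => Subtype.ext (funext fun y => by simp) }
  have hmem : ∀ ψ, tw ψ ∈ principalBlock M N ↔ ψ ∈ principalBlock M N := by
    intro ψ
    have h1 : ∀ y : N, centralChar (fun _ : N => (1 : ℂ)) y =
        centralChar (fun _ : N => (1 : ℂ)) (f y) := fun y =>
      centralChar_equiv f (fun _ : N => (1 : ℂ)) y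
    have h2 : ∀ y : N, centralChar (tw ψ).1 y = centralChar ψ.1 (f y) := fun y =>
      centralChar_equiv f ψ.1 y
    constructor
    · intro h y
      have := h (f.symm y)
      rw [h1, h2, MulEquiv.apply_symm_apply] at this
      exact this
    · intro h y
      rw [h1, h2]
      exact h (f y)
  rw [blockCoeff_eq_sum, blockCoeff_eq_sum]
  congr 1
  conv_rhs => rw [← Equiv.sum_comp tw]
  refine Finset.sum_congr rfl fun ψ _ => ?_
  simp only [hmem]
  have h1 : (tw ψ).1 1 = ψ.1 1 := by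
    show ψ.1 (f 1) = _
    rw [map_one]
  rw [h1]
  rfl

theorem mem_principal_iff (hM : IsPModular p M) (N : Subgroup G) [N.Normal] [Fintype N]
    (hreg : ∀ g : G, ¬ p ∣ orderOf g → g ∈ N) {χ : IrrCharacter G} {θ : IrrCharacter N}
    (hres : ∀ n : N, χ.1 n = θ.1 n) :
    χ ∈ principalBlock M G ↔ θ ∈ principalBlock M N := by
  classical
  have hB : IsPBlock M (principalBlock M G) := ⟨trivIrr G, rfl⟩
  have hBN : IsPBlock M (principalBlock M N) := ⟨trivIrr N, rfl⟩
  have hom : ∀ (η : G → ℂ) (η' : N → ℂ), (∀ n : N, η n = η' n) →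
      ∀ z : MonoidAlgebra ℂ G, (∀ g, g ∉ N → z.coeff g = 0) →
        omega η z = omega η' (ofFun fun n : N => z.coeff (n : G)) := by
    intro η η' hη z hz
    rw [omega_apply, omega_apply, chiSum_apply, chiSum_apply, ← hη 1, OneMemClass.coe_one]
    congr 1
    rw [← Finset.sum_subset (Finset.subset_univ (Finset.univ.filter fun g : G => g ∈ N))
      (fun g _ hg => by rw [hz g (by simpa using hg), zero_mul]),
      Finset.sum_subtype (Finset.univ.filter fun g : G => g ∈ N) (p := fun g => g ∈ N) (by simp)]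
    exact Finset.sum_congr rfl fun n _ => by rw [coeff_ofFun, hη n]
  constructor
  · intro hχ
    by_contra hθ
    let z : MonoidAlgebra ℂ G :=
      ofFun fun g => if h : g ∈ N then blockCoeff (principalBlock M N) ⟨g, h⟩ else 0
    have hzint : IsInt M z := fun g => by
      simp only [z, coeff_ofFun]
      split_ifs
      exacts [blockCoeff_mem hM hBN _, (localRing hM).zero_mem]
    have hzcen : IsCen z := fun g x => by
      simp only [z, coeff_ofFun]
      by_cases hg : g ∈ N
      · rw [dif_pos hg, dif_pos ((inferInstance : N.Normal).conj_mem g hg x)]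
        exact blockCoeff_conj N x ⟨g, hg⟩
      · rw [dif_neg hg, dif_neg fun h => hg (by
          simpa [mul_assoc] using (inferInstance : N.Normal).conj_mem _ h x⁻¹)]
    have hzN : ∀ g, g ∉ N → z.coeff g = 0 := fun g hg => by simp [z, hg]
    have hz' : (ofFun fun n : N => z.coeff (n : G)) = idem (principalBlock M N) := by
      refine MonoidAlgebra.ext ?_
      ext n
      simp [z, coeff_idem]
    have h1 := omega_sub_mem hM (show SameBlock M (trivIrr G).1 χ.1 from hχ) hzcen hzint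
    rw [hom (trivIrr G).1 (trivIrr N).1 (fun _ => rfl) z hzN, hom χ.1 θ.1 hres z hzN, hz',
      omega_idem, omega_idem, if_pos (show trivIrr N ∈ principalBlock M N from sameBlock_refl hM _),
      if_neg hθ, sub_zero] at h1
    exact one_not_ideal hM h1
  · intro hθ
    by_contra hχ
    have hz0 : ∀ g, g ∉ N → (idem (principalBlock M G)).coeff g = 0 := fun g hg => by
      rw [coeff_idem]
      exact blockCoeff_eq_zero_of_dvd hM hB (not_not.1 fun h => hg (hreg g h))
    have hcen : IsCen (ofFun fun n : N => (idem (principalBlock M G)).coeff (n : G)) := fun n x => by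
      simp only [coeff_ofFun, Subgroup.coe_mul, InvMemClass.coe_inv]
      exact isCen_idem (principalBlock M G) (n : G) (x : G)
    have h1 := omega_sub_mem hM (show SameBlock M (trivIrr N).1 θ.1 from hθ) hcen
      (fun n => by rw [coeff_ofFun, coeff_idem]; exact blockCoeff_mem hM hB _)
    rw [← hom (trivIrr G).1 (trivIrr N).1 (fun _ => rfl) _ hz0, ← hom χ.1 θ.1 hres _ hz0,
      omega_idem, omega_idem, if_pos (show trivIrr G ∈ principalBlock M G from sameBlock_refl hM _),
      if_neg hχ, sub_zero] at h1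
    exact one_not_ideal hM h1

theorem charDegree_congr {H : Type u} [Group H] {χ : G → ℂ} {θ : H → ℂ} (h : χ 1 = θ 1) :
    charDegree χ = charDegree θ := by
  simp [charDegree, h]

open CharInduced in
theorem restrict_irr [hp : Fact p.Prime] (N : Subgroup G) [hN : N.Normal] [Fintype N]
    (hcyc : IsCyclic (G ⧸ N)) (hquot : IsPGroup p (G ⧸ N)) {χ : IrrCharacter G}
    (hd : ¬ p ∣ charDegree χ.1) : IsIrrCharacter N (fun n : N => χ.1 n) := by
  classical
  obtain ⟨θ, hθ⟩ : ∃ θ : IrrCharacter N, classInner (fun n : N => χ.1 n) θ.1 ≠ 0 := by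
    by_contra hcon
    apply isIrrCharacter_apply_one_ne_zero χ.2
    have := congrFun (eq_sum_classInner (isClassFunction_res N (irr_classFun χ))) 1
    rw [Finset.sum_apply] at this
    refine (show χ.1 1 = _ from this).trans (Finset.sum_eq_zero fun ψ _ => ?_)
    by_cases h : classInner (fun n : N => χ.1 n) ψ.1 = 0
    · simp [h]
    · exact absurd ⟨ψ, h⟩ hcon
  have hθne := hθ
  obtain ⟨c, hc⟩ := classInner_isCharacter (isCharacter_res N (isCharacter_of_isIrrCharacter χ.2))
    (isCharacter_of_isIrrCharacter θ.2)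
  have hcl := clifford N χ.2 θ.2 hθne
  have horb : (orbitFin N θ.1).card = 1 := by
    obtain ⟨j, hj⟩ := IsPGroup.iff_card.1 hquot
    have h1 := card_inertia_mul_card_orbit N θ.1
    have h2 : Nat.card N ∣ Nat.card (inertia N θ.1) :=
      Subgroup.card_dvd_of_le (le_inertia N (irr_classFun θ))
    obtain ⟨r, hr⟩ := h2
    rw [hr, ← N.card_mul_index, mul_assoc] at h1
    have h3 : (orbitFin N θ.1).card ∣ p ^ j := ⟨r, by
      rw [mul_comm (orbitFin N θ.1).card, Nat.eq_of_mul_eq_mul_left Nat.card_pos h1,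
        Subgroup.index_eq_card, hj]⟩
    obtain ⟨i, -, hi⟩ := (Nat.dvd_prime_pow hp.out).1 h3
    obtain ⟨d, hd0, hd1⟩ := isIrrCharacter_apply_one θ.2
    have h4 := congrFun hcl 1
    rw [Pi.smul_apply, Finset.sum_apply, Finset.sum_congr rfl (fun ψ hψ => show ψ 1 = (d : ℂ) by
      obtain ⟨g, rfl⟩ := (mem_orbitFin N).1 hψ
      rw [conjFun_eq_comp]
      simp [hd1]), Finset.sum_const, hc, nsmul_eq_mul, smul_eq_mul, ← Nat.cast_mul,
      ← Nat.cast_mul] at h4
    have h5 : charDegree χ.1 = c * ((orbitFin N θ.1).card * d) := by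
      rw [charDegree, show χ.1 1 = _ from h4, Complex.natCast_re, Nat.floor_natCast]
    rcases Nat.eq_zero_or_pos i with rfl | hi0
    · simpa using hi
    · exfalso
      apply hd
      rw [h5, hi]
      exact dvd_mul_of_dvd_right (dvd_mul_of_dvd_left (dvd_pow_self p hi0.ne') _) _
  have horb1 : orbitFin N θ.1 = {θ.1} := by
    obtain ⟨ψ, hψ⟩ := Finset.card_eq_one.1 horb
    rw [hψ, Finset.singleton_inj]
    exact (Finset.mem_singleton.1 (hψ ▸ self_mem_orbitFin N θ.1)).symm
  have hinv : ∀ (g : G) (n : N), θ.1 ⟨g * n * g⁻¹, hN.conj_mem (n : G) n.2 g⟩ = θ.1 n := fun g n => by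
    have h1 : conjFun N θ.1 g = θ.1 :=
      Finset.mem_singleton.1 (horb1 ▸ (mem_orbitFin N).2 ⟨g, rfl⟩)
    exact congrFun h1 n
  obtain ⟨d, ρ, hd0, -, hρ, S, himpl, hirr⟩ := CharExtension.exists_setup θ.2 hinv
  obtain ⟨η, hη⟩ := CharExtension.exists_ext_cyclic S himpl
    (fun k a hk => CharExtension.exists_root k a hk) hcyc
  obtain ⟨hirr1, hres1⟩ := CharExtension.ext_to_char_top hirr η hη
  obtain ⟨β, ⟨hβ, hβN⟩, hβχ⟩ := (CharGallagher.bijOn_one N θ.2 hirr1
    (fun n => by rw [hres1 n, hρ])).surjOn ⟨χ.2, hθne⟩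
  have hβN' : ∀ n : N, β n = 1 := by
    obtain ⟨ψ, hψ⟩ := CharKernel.exists_quot_irr N ⟨β, hβ⟩ (fun n hn => hβN ⟨n, hn⟩)
    haveI := hcyc
    letI := IsCyclic.commGroup (α := G ⧸ N)
    intro n
    rw [show β (n : G) = _ from hψ (n : G), (QuotientGroup.eq_one_iff (n : G)).2 n.2]
    exact CharBasicLinear.apply_one_eq_one_of_comm mul_comm ψ.2
  have : (fun n : N => χ.1 n) = θ.1 := funext fun n => by
    rw [← hβχ]
    show β (n : G) * CharExtension.chr η (n : G) = θ.1 n
    rw [hβN' n, one_mul, hres1 n, hρ]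
  rw [this]
  exact θ.2

open CharExtension in
theorem exists_fixed_ext [hp : Fact p.Prime] (P : Sylow p G) (N : Subgroup G) [hN : N.Normal]
    [Fintype N] (hNres : N = Cfsg.pResidual p G) (k : ℕ) (hkco : k.Coprime (Nat.card G))
    (hk₁ : ∀ g : G, (∃ j : ℕ, orderOf g = p ^ j) → g ^ k = g ^ (1 + p))
    (θ : IrrCharacter N) (hd : ¬ p ∣ charDegree θ.1)
    (hinv : ∀ (g : G) (n : N), θ.1 ⟨g * n * g⁻¹, hN.conj_mem (n : G) n.2 g⟩ = θ.1 n)
    (hfix : ∀ n : N, θ.1 (n ^ k) = θ.1 n) :
    ∃ χ : IrrCharacter G, (∀ n : N, χ.1 n = θ.1 n) ∧ ∀ g, χ.1 (g ^ k) = χ.1 g := by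
  classical
  have htop : (P : Subgroup G) ⊔ N = ⊤ := by
    rw [hNres]; exact TransferPResidual.sylow_sup_pResidual P
  obtain ⟨j, hj⟩ : ∃ j, N.index = p ^ j := by
    subst hNres; exact TransferPResidual.index_pResidual
  obtain ⟨d, ρ, hd0, hd1, hρ, S, himpl, hirr⟩ := exists_setup θ.2 hinv
  have hdp : ¬ p ∣ d := by
    rwa [show charDegree θ.1 = d by simp [charDegree, hd1]] at hd
  have hcopd : Nat.Coprime N.index d := by
    rw [hj]; exact ((hp.out.coprime_iff_not_dvd).2 hdp).pow_left j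
  let lam : N →* ℂˣ := (detU d).comp ρ
  have hlinv : ∀ g n, lam (cn g n) = lam n := fun g n => by
    obtain ⟨w, hw⟩ := himpl g
    show detU d (ρ (cn g n)) = detU d (ρ n)
    rw [← hw n, map_mul, map_mul, map_inv, mul_comm (detU d w), mul_inv_cancel_right]
  have hlp : ¬ p ∣ orderOf lam := by
    obtain ⟨a, m, hm, hmN⟩ := Nat.exists_eq_pow_mul_and_not_dvd (Nat.card_pos (α := N)).ne' p
      hp.out.ne_one
    have h1 : lam ^ m = 1 := by
      have hgen : Cfsg.pResidual p N = ⊤ := by
        subst hNres; exact TransferPResidual.pResidual_pResidual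
      have hle : Cfsg.pResidual p N ≤ (lam ^ m).ker := by
        rw [Cfsg.pResidual, Subgroup.closure_le]
        intro x hx
        have hxm : orderOf x ∣ m :=
          (Nat.Coprime.pow_right a hx).dvd_of_dvd_mul_left (hmN ▸ orderOf_dvd_natCard x)
        rw [SetLike.mem_coe, MonoidHom.mem_ker, MonoidHom.pow_apply, ← map_pow,
          orderOf_dvd_iff_pow_eq_one.1 hxm, map_one]
      exact MonoidHom.ext fun x => hle (hgen ▸ Subgroup.mem_top x)
    exact fun h => hm (h.trans (orderOf_dvd_of_pow_eq_one h1))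
  have hlcop : Nat.Coprime N.index (orderOf lam) := by
    rw [hj]; exact ((hp.out.coprime_iff_not_dvd).2 hlp).pow_left j
  obtain ⟨μ, hμ, hμo, -⟩ := linear_ext_coprime lam hlinv hlcop
  obtain ⟨η, hη, hdet⟩ := exists_ext_det S himpl (detU d) d (detU_scal d)
    (fun a => exists_root d a hd0) hcopd μ hμ
  obtain ⟨hχ, hχres⟩ := ext_to_char_top hirr η hη
  refine ⟨⟨chr η, hχ⟩, fun n => by show chr η (n : G) = _; rw [hχres n, hρ], ?_⟩
  have hres2 : ∀ n : N, (fun g => chr η (g ^ k)) (N.subtype n) = chr ρ n := fun n => by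
    show chr η (((n : G)) ^ k) = chr ρ n
    rw [← SubmonoidClass.coe_pow, hχres, hρ, hfix]
  obtain ⟨η', hη', hη'ρ⟩ := char_to_ext N.subtype ρ
    (GaloisChar80.isCharacter_pow hkco (isCharacter_of_isIrrCharacter hχ)) hres2
  have heq : η = η' := by
    refine ext_eq_of_det S (detU d) d (detU_scal d) hcopd hη hη'ρ fun g => ?_
    suffices (P : Subgroup G) ⊔ N ≤ ((detU d).comp η).eqLocus ((detU d).comp η') from
      this (htop ▸ Subgroup.mem_top g)
    refine sup_le (fun x hx => ?_) (fun x hx => ?_)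
    · obtain ⟨i, hi⟩ := (IsPGroup.iff_orderOf.1 P.2) ⟨x, hx⟩
      rw [Subgroup.orderOf_mk] at hi
      have hμx : μ x = 1 := by
        rw [← orderOf_eq_one_iff]
        refine Nat.eq_one_of_dvd_coprimes (a := p ^ i) (b := orderOf μ) ?_ ?_ ?_
        · rw [hμo]
          exact ((hp.out.coprime_iff_not_dvd).2 hlp).pow_left i
        · exact hi ▸ orderOf_map_dvd μ x
        · exact orderOf_dvd_of_pow_eq_one (by rw [← MonoidHom.pow_apply, pow_orderOf_eq_one]; rfl)
      let A : Subgroup.zpowers x →* GU' d := η'.comp (Subgroup.zpowers x).subtype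
      let B : Subgroup.zpowers x →* GU' d :=
        (η.comp (Subgroup.zpowers x).subtype).comp
          { toFun := fun y => y ^ (1 + p)
            map_one' := one_pow _
            map_mul' := fun a b => (Commute.mul_pow (by
              obtain ⟨a', i, rfl⟩ := a
              obtain ⟨b', i', rfl⟩ := b
              exact Subtype.ext ((Commute.refl x).zpow_zpow i i').eq) _) }
      have hAB : chr A = chr B := by
        funext y
        have hy : ∃ j, orderOf (y : G) = p ^ j := by
          obtain ⟨j', hj'⟩ := (IsPGroup.iff_orderOf.1 P.2)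
            ⟨y, (Subgroup.zpowers_le.2 hx) y.2⟩
          exact ⟨j', by rwa [Subgroup.orderOf_mk] at hj'⟩
        show chr η' (y : G) = chr η (((y ^ (1 + p) : Subgroup.zpowers x)) : G)
        rw [hη', SubmonoidClass.coe_pow]
        show chr η ((y : G) ^ k) = _
        rw [hk₁ _ hy]
      have h1 := congrFun (congrArg detChar hAB) ⟨x, Subgroup.mem_zpowers x⟩
      rw [detChar_chr, detChar_chr] at h1
      show detU d (η x) = detU d (η' x)
      refine Units.ext ?_
      rw [hdet x, hμx, Units.val_one]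
      refine ((show (detU d (η' x) : ℂ) = _ from h1).trans ?_).symm
      show ((detU d (η (x ^ (1 + p)))) : ℂ) = 1
      rw [map_pow, map_pow, hdet x, hμx, one_pow, Units.val_one]
    · show detU d (η x) = detU d (η' x)
      exact congrArg _ ((hη ⟨x, hx⟩).trans (hη'ρ ⟨x, hx⟩).symm)
  intro g
  show chr η (g ^ k) = chr η g
  conv_rhs => rw [heq]
  exact (congrFun hη' g).symm


theorem count [hp : Fact p.Prime] (hM : IsPModular p M) (P : Sylow p G) (N : Subgroup G)
    [hN : N.Normal] [Fintype N] (hNres : N = Cfsg.pResidual p G) (hcyc : IsCyclic (G ⧸ N))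
    (hnt : N ≠ ⊤) (k : ℕ)
    (hk₁ : ∀ g : G, (∃ j : ℕ, orderOf g = p ^ j) → g ^ k = g ^ (1 + p))
    (hk₂ : ∀ g : G, Nat.Coprime (orderOf g) p → g ^ k = g) :
    Nat.card {χ : IrrCharacter G // χ ∈ principalBlock M G ∧ ¬ p ∣ charDegree (χ : G → ℂ) ∧
        ∀ g : G, (χ : G → ℂ) (g ^ k) = (χ : G → ℂ) g} =
      p * Nat.card {θ : IrrCharacter N // θ ∈ principalBlock M N ∧
        ¬ p ∣ charDegree (θ : N → ℂ) ∧
        (∀ x ∈ (P : Subgroup G), ∀ n : N,
          (θ : N → ℂ) ⟨x * n * x⁻¹, hN.conj_mem n n.2 x⟩ = (θ : N → ℂ) n) ∧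
        ∀ n : N, (θ : N → ℂ) (n ^ k) = (θ : N → ℂ) n} := by
  classical
  have htop : (P : Subgroup G) ⊔ N = ⊤ := by
    rw [hNres]; exact TransferPResidual.sylow_sup_pResidual P
  have hquot : IsPGroup p (G ⧸ N) := by
    subst hNres; exact TransferPResidual.isPGroup_quotient_pResidual
  have hreg : ∀ g : G, ¬ p ∣ orderOf g → g ∈ N := fun g hg => by
    rw [hNres]
    exact TransferPResidual.mem_pResidual_of_coprime ((hp.out.coprime_iff_not_dvd).2 hg).symm
  have hkco : k.Coprime (Nat.card G) := by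
    refine Nat.coprime_of_dvd fun q hq hqk hqG => ?_
    haveI := Fact.mk hq
    obtain ⟨x, hx⟩ := exists_prime_orderOf_dvd_card' q hqG
    have hxk : x ^ k = 1 := orderOf_dvd_iff_pow_eq_one.1 (hx ▸ hqk)
    have hxk' : x ^ k = x := by
      rcases eq_or_ne q p with rfl | hne
      · rw [hk₁ x ⟨1, by rw [hx, pow_one]⟩, pow_add, pow_one, ← hx, pow_orderOf_eq_one, mul_one]
      · exact hk₂ x (hx ▸ (Nat.coprime_primes hq hp.out).2 hne)
    rw [hxk'] at hxk
    rw [hxk, orderOf_one] at hx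
    exact hq.ne_one hx.symm
  have hsplit : ∀ g : G, ∃ x ∈ (P : Subgroup G), ∃ m ∈ N, g = x * m := fun g => by
    obtain ⟨x, hx, m, hm, rfl⟩ := Subgroup.mem_sup_of_normal_right.1 (htop ▸ Subgroup.mem_top g)
    exact ⟨x, hx, m, hm, rfl⟩
  set B := {θ : IrrCharacter N // θ ∈ principalBlock M N ∧
        ¬ p ∣ charDegree (θ : N → ℂ) ∧
        (∀ x ∈ (P : Subgroup G), ∀ n : N,
          (θ : N → ℂ) ⟨x * n * x⁻¹, hN.conj_mem n n.2 x⟩ = (θ : N → ℂ) n) ∧
        ∀ n : N, (θ : N → ℂ) (n ^ k) = (θ : N → ℂ) n}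
  have hBinv : ∀ (θ : B) (g : G) (n : N),
      θ.1.1 ⟨g * n * g⁻¹, hN.conj_mem (n : G) n.2 g⟩ = θ.1.1 n := by
    intro θ g n
    obtain ⟨x, hx, m, hm, rfl⟩ := hsplit g
    have h1 := θ.2.2.2.1 x hx ⟨m * n * m⁻¹, hN.conj_mem (n : G) n.2 m⟩
    have h2 := irr_classFun θ.1 n ⟨m, hm⟩
    refine Eq.trans ?_ (h1.trans h2)
    exact congrArg θ.1.1 (Subtype.ext (by simp [mul_assoc]))
  choose χ₀ hχ₀res hχ₀fix using fun θ : B =>
    exists_fixed_ext P N hNres k hkco hk₁ θ.1 θ.2.2.1 (hBinv θ) θ.2.2.2.2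
  let Γ := {lam : G →* ℂˣ // (∀ n : N, lam n = 1) ∧ lam ^ p = 1}
  have hΓ : Nat.card Γ = p := by
    haveI := hcyc
    obtain ⟨q, hq⟩ := hcyc.exists_generator
    obtain ⟨g0, rfl⟩ := QuotientGroup.mk'_surjective N q
    have hdiv : p ∣ orderOf (QuotientGroup.mk' N g0) := by
      rw [orderOf_eq_card_of_forall_mem_zpowers hq, ← Subgroup.index_eq_card]
      obtain ⟨j, hj⟩ := IsPGroup.iff_card.1 hquot
      rw [← Subgroup.index_eq_card] at hj
      rcases Nat.eq_zero_or_pos j with rfl | h0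
      · exact absurd (Subgroup.index_eq_one.1 (by simpa using hj)) hnt
      · rw [hj]; exact dvd_pow_self p h0.ne'
    haveI : NeZero p := ⟨hp.out.ne_zero⟩
    have hval : ∀ lam : Γ, lam.1 g0 ∈ rootsOfUnity p ℂ := fun lam => by
      rw [mem_rootsOfUnity, ← MonoidHom.pow_apply, lam.2.2]; rfl
    have hbij : Function.Bijective (fun lam : Γ => (⟨lam.1 g0, hval lam⟩ : rootsOfUnity p ℂ)) := by
      refine ⟨fun a b hab => ?_, fun z => ?_⟩
      · refine Subtype.ext (MonoidHom.ext fun g => ?_)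
        have hab' : a.1 g0 = b.1 g0 := congrArg Subtype.val hab
        obtain ⟨i, hi⟩ := Subgroup.mem_zpowers_iff.1 (hq (QuotientGroup.mk' N g))
        rw [← map_zpow] at hi
        have hm : (g0 ^ i)⁻¹ * g ∈ N := QuotientGroup.eq.1 hi
        have h1 := a.2.1 ⟨_, hm⟩
        have h2 := b.2.1 ⟨_, hm⟩
        rw [map_mul, map_inv, map_zpow, inv_mul_eq_one] at h1 h2
        rw [← h1, ← h2, hab']
      · have hz : orderOf (z : ℂˣ) ∣ orderOf (QuotientGroup.mk' N g0) :=
          (orderOf_dvd_of_pow_eq_one ((mem_rootsOfUnity _ _).1 z.2)).trans hdiv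
        let f : G ⧸ N →* ℂˣ := monoidHomOfForallMemZpowers hq hz
        refine ⟨⟨f.comp (QuotientGroup.mk' N), fun n => ?_, ?_⟩, ?_⟩
        · show f (QuotientGroup.mk' N n) = 1
          rw [QuotientGroup.mk'_apply, (QuotientGroup.eq_one_iff (n : G)).2 n.2, map_one]
        · ext g
          obtain ⟨i, hi⟩ := Subgroup.mem_zpowers_iff.1 (hq (QuotientGroup.mk' N g))
          have : f (QuotientGroup.mk' N g) = (z : ℂˣ) ^ i := by
            rw [← hi, map_zpow, monoidHomOfForallMemZpowers_apply_gen]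
          rw [MonoidHom.pow_apply, MonoidHom.comp_apply, this, ← zpow_natCast, ← zpow_mul,
            mul_comm i, zpow_mul, zpow_natCast, (mem_rootsOfUnity _ _).1 z.2, one_zpow]
          rfl
        · exact Subtype.ext (monoidHomOfForallMemZpowers_apply_gen hq hz)
    rw [Nat.card_congr (Equiv.ofBijective _ hbij), HasEnoughRootsOfUnity.natCard_rootsOfUnity ℂ p]
  set A := {χ : IrrCharacter G // χ ∈ principalBlock M G ∧ ¬ p ∣ charDegree (χ : G → ℂ) ∧
        ∀ g : G, (χ : G → ℂ) (g ^ k) = (χ : G → ℂ) g}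
  have hΓk : ∀ (lam : Γ) (g : G), lam.1 g ^ k = lam.1 g := by
    intro lam g
    obtain ⟨x, hx, m, hm, rfl⟩ := hsplit g
    obtain ⟨i, hi⟩ := (IsPGroup.iff_orderOf.1 P.2) ⟨x, hx⟩
    rw [Subgroup.orderOf_mk] at hi
    rw [map_mul, lam.2.1 ⟨m, hm⟩, mul_one, ← map_pow, hk₁ x ⟨i, hi⟩, map_pow, pow_add, pow_one,
      ← MonoidHom.pow_apply, lam.2.2, MonoidHom.one_apply, mul_one]
  have hmk : ∀ θl : B × Γ, ∀ n : N, (χ₀ θl.1).1 n * ((θl.2.1 n : ℂˣ) : ℂ) = θl.1.1.1 n :=
    fun θl n => by rw [θl.2.2.1 n, Units.val_one, mul_one, hχ₀res]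
  let F : B × Γ → A := fun θl =>
    ⟨⟨fun g => (χ₀ θl.1).1 g * ((θl.2.1 g : ℂˣ) : ℂ),
        isIrrCharacter_mul_linear (χ₀ θl.1).2 θl.2.1⟩,
      (mem_principal_iff hM N hreg (θ := θl.1.1) (hmk θl)).2 θl.1.2.1,
      by
        rw [charDegree_congr (H := N) (θ := θl.1.1.1) (by simpa using hmk θl 1)]
        exact θl.1.2.2.1,
      fun g => by
        show (χ₀ θl.1).1 (g ^ k) * ((θl.2.1 (g ^ k) : ℂˣ) : ℂ) = _
        rw [hχ₀fix, map_pow, hΓk]⟩
  have hF : Function.Bijective F := by
    have hinjG : ∀ (θ : B) (a b : G →* ℂˣ), (∀ n : N, a n = 1) → (∀ n : N, b n = 1) →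
        (∀ g, (χ₀ θ).1 g * (a g : ℂ) = (χ₀ θ).1 g * (b g : ℂ)) → a = b := by
      intro θ a b ha hb hab
      have h := (CharGallagher.bijOn_one N θ.1.2 (χ₀ θ).2 (hχ₀res θ)).injOn
        (x₁ := fun g => (a g : ℂ)) (x₂ := fun g => (b g : ℂ))
        ⟨isIrrCharacter_linear a, fun n => by simp [ha n]⟩
        ⟨isIrrCharacter_linear b, fun n => by simp [hb n]⟩
        (funext fun g => by simp only [Pi.mul_apply]; rw [mul_comm, hab g, mul_comm])
      exact MonoidHom.ext fun g => Units.ext (congrFun h g)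
    refine ⟨?_, ?_⟩
    · rintro ⟨θ, a⟩ ⟨θ', b⟩ h
      have h' : ∀ g, (χ₀ θ).1 g * ((a.1 g : ℂˣ) : ℂ) = (χ₀ θ').1 g * ((b.1 g : ℂˣ) : ℂ) :=
        fun g => congrFun (congrArg (fun z : A => z.1.1) h) g
      have hθ : θ = θ' := Subtype.ext (Subtype.ext (funext fun n => by
        rw [← hmk (θ, a) n, ← hmk (θ', b) n]; exact h' n))
      subst hθ
      rw [show a = b from Subtype.ext (hinjG θ a.1 b.1 a.2.1 b.2.1 h')]
    · rintro ⟨χ, hχB, hχd, hχfix⟩
      let θ : IrrCharacter N := ⟨fun n : N => χ.1 n, restrict_irr N hcyc hquot hχd⟩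
      have hθd : ¬ p ∣ charDegree θ.1 := by
        rw [← charDegree_congr (H := N) (χ := χ.1) (θ := θ.1) rfl]; exact hχd
      let θB : B := ⟨θ, (mem_principal_iff hM N hreg (fun n => rfl)).1 hχB, hθd,
        fun x _ n => irr_classFun χ (n : G) x,
        fun n => by
          show χ.1 ((n ^ k : N) : G) = χ.1 n
          rw [SubmonoidClass.coe_pow, hχfix]⟩
      obtain ⟨β, ⟨hβ, hβN⟩, hβχ⟩ := (CharGallagher.bijOn_one N θ.2 (χ₀ θB).2
        (hχ₀res θB)).surjOn ⟨χ.2, by
          show classInner θ.1 θ.1 ≠ 0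
          rw [classInner_irr_self θ.2]; exact one_ne_zero⟩
      have hβ1 : β 1 = 1 := by
        have h1 := congrFun hβχ 1
        simp only [Pi.mul_apply] at h1
        rw [show χ.1 1 = (χ₀ θB).1 1 from
          ((hχ₀res θB 1).trans (show θ.1 1 = χ.1 1 from rfl)).symm] at h1
        exact mul_right_cancel₀ (isIrrCharacter_apply_one_ne_zero (χ₀ θB).2)
          (h1.trans (one_mul _).symm)
      obtain ⟨lam, rfl⟩ := CharExtension.exists_linHom (isCharacter_of_isIrrCharacter hβ) hβ1
      have hlN : ∀ n : N, lam n = 1 := fun n => Units.ext (by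
        rw [Units.val_one]; exact (hβN n).trans hβ1)
      have hlk : lam ^ k = lam := by
        refine hinjG θB _ _ (fun n => by rw [MonoidHom.pow_apply, hlN, one_pow]) hlN fun g => ?_
        have h1 := congrFun hβχ (g ^ k)
        have h2 := congrFun hβχ g
        simp only [Pi.mul_apply, hχ₀fix, map_pow, hχfix] at h1 h2
        rw [MonoidHom.pow_apply, mul_comm, h1, ← h2, mul_comm]
      have hlp : lam ^ p = 1 := by
        ext g
        obtain ⟨x, hx, m, hm, rfl⟩ := hsplit g
        obtain ⟨i, hi⟩ := (IsPGroup.iff_orderOf.1 P.2) ⟨x, hx⟩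
        rw [Subgroup.orderOf_mk] at hi
        have h1 : lam x ^ k = lam x := by rw [← MonoidHom.pow_apply, hlk]
        rw [← map_pow, hk₁ x ⟨i, hi⟩, map_pow, pow_add, pow_one, mul_eq_left] at h1
        rw [MonoidHom.pow_apply, map_mul, hlN ⟨m, hm⟩, mul_one, h1]
        rfl
      exact ⟨(θB, ⟨lam, hlN, hlp⟩), Subtype.ext (Subtype.ext (funext fun g => by
        show (χ₀ θB).1 g * (lam g : ℂ) = χ.1 g
        rw [← hβχ]
        exact mul_comm _ _))⟩
  rw [← Nat.card_congr (Equiv.ofBijective F hF), Nat.card_prod, hΓ, mul_comm]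

/-- Let G be a finite group, p a prime, P a Sylow p-subgroup, N the p-residual of G (the subgroup generated by the elements of order prime to p, the smallest normal subgroup with G/N a p-group), and M a maximal ideal of the algebraic integers containing p; suppose G/N is cyclic and nontrivial. Let k be a natural number with g ^ k = g ^ (1 + p) for every p-element g and g ^ k = g for every element g of order prime to p (so that χ (g ^ k) is the image of χ g under the field automorphism that raises p-power roots of unity to the power 1 + p and fixes the roots of unity of order prime to p). Then the number of members χ of the principal block of G of degree prime to p with χ (g ^ k) = χ g for all g equals p times the number of members θ of the principal block of N of degree prime to p that are invariant under conjugation by P and satisfy θ (n ^ k) = θ n for all n. -/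
theorem result {G : Type*} [Group G] [Finite G] (p : ℕ) [Fact p.Prime] (M : Ideal Cfsg.AlgInt) (hM : Cfsg.IsPModular p M) (P : Sylow p G) (N : Subgroup G) [hN : N.Normal] (hNres : N = Cfsg.pResidual p G) (hcyc : IsCyclic (G ⧸ N)) (hnt : N ≠ ⊤) (k : ℕ) (hk₁ : ∀ g : G, (∃ j : ℕ, orderOf g = p ^ j) → g ^ k = g ^ (1 + p)) (hk₂ : ∀ g : G, Nat.Coprime (orderOf g) p → g ^ k = g) : Nat.card {χ : Cfsg.IrrCharacter G // χ ∈ Cfsg.principalBlock M G ∧ ¬ p ∣ Cfsg.charDegree (χ : G → ℂ) ∧ ∀ g : G, (χ : G → ℂ) (g ^ k) = (χ : G → ℂ) g} = p * Nat.card {θ : Cfsg.IrrCharacter ↥N // θ ∈ Cfsg.principalBlock M ↥N ∧ ¬ p ∣ Cfsg.charDegree (θ : ↥N → ℂ) ∧ (∀ x ∈ (P : Subgroup G), ∀ n : ↥N, (θ : ↥N → ℂ) ⟨x * n * x⁻¹, hN.conj_mem n n.2 x⟩ = (θ : ↥N → ℂ) n) ∧ ∀ n : ↥N, (θ : ↥N → ℂ) (n ^ k) = (θ : ↥N → ℂ) n} := by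
  classical
  haveI : Fintype G := Fintype.ofFinite G
  haveI : Fintype N := Fintype.ofFinite N
  exact count hM P N hNres hcyc hnt k hk₁ hk₂

end Cfsg.Agent.S4553
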