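import Cfsg.Statements.S4560
import Cfsg.Agent.Lib.AltSmallChars80

set_option autoImplicit false
open Cfsg

namespace Cfsg.Agent.S4560

open AltSmallChars80

open Equiv in
/-- A permutation with prescribed cycle lengths. -/
theorem exists_perm (n : ℕ) (m : Multiset ℕ) (hs : m.sum ≤ n) (h2 : ∀ a ∈ m, 2 ≤ a)
    (he : Even (m.sum + Multiset.card m)) :
    ∃ x : alternatingGroup (Fin n), (x : Perm (Fin n)).cycleType = m ∧ orderOf x = m.lcm ∧
      Nat.card {i : Fin n // (x : Perm (Fin n)) i = i} = n - m.sum := by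
  classical
  obtain ⟨g, hg⟩ := (Equiv.Perm.exists_with_cycleType_iff (α := Fin n) (m := m)).2
    ⟨by simpa using hs, h2⟩
  have hs' : g ∈ alternatingGroup (Fin n) := by
    rw [Equiv.Perm.mem_alternatingGroup, Equiv.Perm.sign_of_cycleType, hg, he.neg_one_pow]
  refine ⟨⟨g, hs'⟩, hg, ?_, ?_⟩
  · rw [Subgroup.orderOf_mk, ← Equiv.Perm.lcm_cycleType, hg]
  · have h := Equiv.Perm.card_fixedPoints g
    rw [hg, Fintype.card_fin, ← Nat.card_eq_fintype_card] at h
    exact h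

/-- Without transpositions the square has the same fixed points. -/
theorem ff_sq_of_not_mem (n : ℕ) (x : alternatingGroup (Fin n))
    (h : 2 ∉ (x : Equiv.Perm (Fin n)).cycleType) :
    ff (alternatingGroup (Fin n)).subtype (x * x) = ff (alternatingGroup (Fin n)).subtype x := by
  classical
  set g : Equiv.Perm (Fin n) := (x : Equiv.Perm (Fin n)) with hg
  unfold ff
  congr 1
  refine Nat.card_congr (Equiv.subtypeEquivRight fun i => ?_)
  show (g * g) i = i ↔ g i = i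
  rw [Equiv.Perm.mul_apply]
  refine ⟨fun h2 => ?_, fun h1 => by rw [h1, h1]⟩
  by_contra hne
  apply h
  have hsupp : (g.cycleOf i).support = {i, g i} := by
    ext y
    rw [Equiv.Perm.mem_support_cycleOf_iff' hne, Finset.mem_insert, Finset.mem_singleton]
    constructor
    · intro hy
      obtain ⟨k, -, rfl⟩ := hy.exists_pow_eq' 
      clear hy
      induction k with
      | zero => left; rfl
      | succ k ih =>
        rw [pow_succ', Equiv.Perm.mul_apply]
        rcases ih with hk | hk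
        · right; rw [hk]
        · left; rw [hk, h2]
    · rintro (rfl | rfl)
      · exact Equiv.Perm.SameCycle.refl g y
      · exact ⟨1, by simp⟩
  rw [Equiv.Perm.cycleType_def, Multiset.mem_map]
  refine ⟨g.cycleOf i, (Finset.mem_val).symm.mp (Equiv.Perm.cycleOf_mem_cycleFactorsFinset_iff.2
    (Equiv.Perm.mem_support.2 hne)), ?_⟩
  rw [Function.comp_apply, hsupp, Finset.card_pair (Ne.symm hne)]

/-- The three restrictions. -/
theorem pick (n : ℕ) (hn : 7 ≤ n) (x : alternatingGroup (Fin n))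
    (h : Nat.card {i : Fin n // (x : Equiv.Perm (Fin n)) i = i} = 1 ∨
      (2 ∉ (x : Equiv.Perm (Fin n)).cycleType ∧
        (Nat.card {i : Fin n // (x : Equiv.Perm (Fin n)) i = i} = 0 ∨
          Nat.card {i : Fin n // (x : Equiv.Perm (Fin n)) i = i} = 2))) :
    ∃ χ : Cfsg.IrrCharacter (alternatingGroup (Fin n)),
      (χ : alternatingGroup (Fin n) → ℂ) x = 0 ∧
      ∃ ψ : Cfsg.IrrCharacter (Equiv.Perm (Fin n)), ∀ x : alternatingGroup (Fin n),
        (ψ : Equiv.Perm (Fin n) → ℂ) x = (χ : alternatingGroup (Fin n) → ℂ) x := by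
  classical
  set ι := (alternatingGroup (Fin n)).subtype with hι
  obtain ⟨a1, a2, a3⟩ := irr_chars ι Subtype.val_injective
    (fun σ hσ => ⟨⟨σ, Equiv.Perm.mem_alternatingGroup.2 hσ⟩, rfl⟩) (by omega)
  obtain ⟨b1, b2, b3⟩ := irr_chars (MonoidHom.id (Equiv.Perm (Fin n)))
    Function.injective_id (fun σ _ => ⟨σ, rfl⟩) (by omega)
  have hff : ff ι x = (Nat.card {i : Fin n // (x : Equiv.Perm (Fin n)) i = i} : ℂ) := rfl
  rcases h with h | ⟨h2, h | h⟩
  · refine ⟨⟨_, a1⟩, ?_, ⟨_, b1⟩, fun y => rfl⟩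
    show chi1 ι x = 0
    rw [chi1, hff, h]
    norm_num
  · refine ⟨⟨_, a2⟩, ?_, ⟨_, b2⟩, fun y => rfl⟩
    show chi2 ι x = 0
    rw [chi2, sq2, ff_sq_of_not_mem n x h2, hff, h]
    norm_num
  · refine ⟨⟨_, a3⟩, ?_, ⟨_, b3⟩, fun y => rfl⟩
    show chi3 ι x = 0
    rw [chi3, sq2, ff_sq_of_not_mem n x h2, hff, h]
    norm_num

theorem lcm_replicate_dvd (a b : ℕ) {d : ℕ} (h : a ∣ d) : (Multiset.replicate b a).lcm ∣ d :=
  Multiset.lcm_dvd.2 fun c hc => (Multiset.eq_of_mem_replicate hc) ▸ h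

theorem lcm_cons_replicate_dvd (a b c : ℕ) {d : ℕ} (h : a ∣ d) (hc : c ∣ d) :
    (c ::ₘ Multiset.replicate b a).lcm ∣ d :=
  Multiset.lcm_dvd.2 fun e he => by
    rcases Multiset.mem_cons.1 he with rfl | he
    · exact hc
    · exact (Multiset.eq_of_mem_replicate he) ▸ h

theorem main (n : ℕ) (hn : 7 ≤ n) :
    (∃ χ : Cfsg.IrrCharacter (alternatingGroup (Fin n)),
      (∃ x : alternatingGroup (Fin n), (∃ j : ℕ, orderOf x = 2 ^ j) ∧
        (χ : alternatingGroup (Fin n) → ℂ) x = 0) ∧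
      ∃ ψ : Cfsg.IrrCharacter (Equiv.Perm (Fin n)), ∀ x : alternatingGroup (Fin n),
        (ψ : Equiv.Perm (Fin n) → ℂ) x = (χ : alternatingGroup (Fin n) → ℂ) x) ∧
    (∃ χ : Cfsg.IrrCharacter (alternatingGroup (Fin n)),
      (∃ y : alternatingGroup (Fin n), orderOf y = 3 ∧
        (χ : alternatingGroup (Fin n) → ℂ) y = 0) ∧
      ∃ ψ : Cfsg.IrrCharacter (Equiv.Perm (Fin n)), ∀ x : alternatingGroup (Fin n),
        (ψ : Equiv.Perm (Fin n) → ℂ) x = (χ : alternatingGroup (Fin n) → ℂ) x) := by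
  constructor
  · suffices ∃ m : Multiset ℕ, m.sum ≤ n ∧ (∀ a ∈ m, 2 ≤ a) ∧ Even (m.sum + Multiset.card m) ∧
        m.lcm ∣ 2 ^ 3 ∧ (n - m.sum = 1 ∨ (2 ∉ m ∧ (n - m.sum = 0 ∨ n - m.sum = 2))) by
      obtain ⟨m, hs, h2, he, hl, hf⟩ := this
      obtain ⟨x, hx, hox, hfx⟩ := exists_perm n m hs h2 he
      obtain ⟨χ, hχ, hψ⟩ := pick n hn x (by rw [hx, hfx]; exact hf)
      obtain ⟨j, -, hj⟩ := (Nat.dvd_prime_pow Nat.prime_two).1 (hox ▸ hl)
      exact ⟨χ, ⟨x, ⟨j, hj⟩, hχ⟩, hψ⟩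
    rcases Nat.even_or_odd n with ⟨r, hr⟩ | ⟨r, hr⟩
    · rcases Nat.even_or_odd r with ⟨q, hq⟩ | ⟨q, hq⟩ <;> rcases Nat.even_or_odd q with ⟨v, hv⟩ | ⟨v, hv⟩
      · refine ⟨Multiset.replicate q 4, ?_, ?_, ⟨5 * v, ?_⟩, lcm_replicate_dvd 4 q (by norm_num),
          Or.inr ⟨?_, Or.inl ?_⟩⟩ <;>
          simp [Multiset.sum_replicate, Multiset.mem_replicate] <;> omega
      · refine ⟨8 ::ₘ Multiset.replicate (q - 2) 4, ?_, ?_, ⟨5 * v + 2, ?_⟩,
          lcm_cons_replicate_dvd 4 _ 8 (by norm_num) (by norm_num), Or.inr ⟨?_, Or.inl ?_⟩⟩ <;>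
          simp [Multiset.sum_replicate, Multiset.mem_replicate] <;> omega
      · refine ⟨Multiset.replicate q 4, ?_, ?_, ⟨5 * v, ?_⟩, lcm_replicate_dvd 4 q (by norm_num),
          Or.inr ⟨?_, Or.inr ?_⟩⟩ <;>
          simp [Multiset.sum_replicate, Multiset.mem_replicate] <;> omega
      · refine ⟨8 ::ₘ Multiset.replicate (q - 2) 4, ?_, ?_, ⟨5 * v + 2, ?_⟩,
          lcm_cons_replicate_dvd 4 _ 8 (by norm_num) (by norm_num), Or.inr ⟨?_, Or.inr ?_⟩⟩ <;>
          simp [Multiset.sum_replicate, Multiset.mem_replicate] <;> omega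
    · rcases Nat.even_or_odd r with ⟨q, hq⟩ | ⟨q, hq⟩
      · refine ⟨Multiset.replicate r 2, ?_, ?_, ⟨3 * q, ?_⟩, lcm_replicate_dvd 2 r (by norm_num),
          Or.inl ?_⟩ <;>
          simp [Multiset.sum_replicate, Multiset.mem_replicate] <;> omega
      · refine ⟨4 ::ₘ Multiset.replicate (r - 2) 2, ?_, ?_, ⟨3 * q + 1, ?_⟩,
          lcm_cons_replicate_dvd 2 _ 4 (by norm_num) (by norm_num), Or.inl ?_⟩ <;>
          simp [Multiset.sum_replicate, Multiset.mem_replicate] <;> omega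
  · obtain ⟨y, hy, hoy, hfy⟩ := exists_perm n (Multiset.replicate (n / 3) 3)
      (by simp [Multiset.sum_replicate]; omega) (by simp [Multiset.mem_replicate])
      ⟨2 * (n / 3), by simp [Multiset.sum_replicate]; omega⟩
    obtain ⟨χ, hχ, hψ⟩ := pick n hn y (by
      rw [hy, hfy]
      simp [Multiset.sum_replicate, Multiset.mem_replicate]
      omega)
    refine ⟨χ, ⟨y, ?_, hχ⟩, hψ⟩
    rw [hoy]
    exact Nat.dvd_antisymm (lcm_replicate_dvd 3 _ dvd_rfl)
      (Multiset.dvd_lcm (Multiset.mem_replicate.2 ⟨by omega, rfl⟩))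


/-- For n ≥ 7 the alternating group on n letters has an irreducible character that vanishes at some 2-element and is the restriction of an irreducible character of the symmetric group, and an irreducible character that vanishes at some element of order 3 and is the restriction of an irreducible character of the symmetric group. -/
theorem result (n : ℕ) (hn : 7 ≤ n) : (∃ χ : Cfsg.IrrCharacter (alternatingGroup (Fin n)), (∃ x : alternatingGroup (Fin n), (∃ j : ℕ, orderOf x = 2 ^ j) ∧ (χ : alternatingGroup (Fin n) → ℂ) x = 0) ∧ ∃ ψ : Cfsg.IrrCharacter (Equiv.Perm (Fin n)), ∀ x : alternatingGroup (Fin n), (ψ : Equiv.Perm (Fin n) → ℂ) x = (χ : alternatingGroup (Fin n) → ℂ) x) ∧ (∃ χ : Cfsg.IrrCharacter (alternatingGroup (Fin n)), (∃ y : alternatingGroup (Fin n), orderOf y = 3 ∧ (χ : alternatingGroup (Fin n) → ℂ) y = 0) ∧ ∃ ψ : Cfsg.IrrCharacter (Equiv.Perm (Fin n)), ∀ x : alternatingGroup (Fin n), (ψ : Equiv.Perm (Fin n) → ℂ) x = (χ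 : alternatingGroup (Fin n) → ℂ) x) := by
  classical
  exact main n hn

end Cfsg.Agent.S4560
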