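import Cfsg.Statements.S4561
import Cfsg.Agent.Lib.CocycleMonomial80

set_option autoImplicit false
universe u
open Cfsg

namespace Cfsg.Agent.S4561

open CocycleMonomial80 in
theorem exists_cocycle : ∀ (m : ℕ) (G : Type u) [Group G] [Finite G], Nat.card G = m →
    Group.IsSolvable G → ∃ (W A : Type u) (_ : Group W) (_ : CommGroup A) (_ : Finite W)
      (_ : Cocycle W A), (∀ q : ℕ, q.Prime → q ∣ Nat.card W → q ∣ Nat.card G) ∧
        (∀ a : A, a ^ rad (Nat.card G) = 1) ∧ ∃ f : G →* W, Function.Injective f := by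
  intro m
  induction m using Nat.strong_induction_on with
  | h m ih =>
  intro G _ _ hm hsol
  classical
  rcases subsingleton_or_nontrivial G with hG | hG
  · refine ⟨PUnit.{u+1}, PUnit.{u+1}, inferInstance, inferInstance, inferInstance,
      ⟨1, id, fun _ _ => rfl, Function.bijective_id⟩, ?_, fun a => rfl, 1,
      fun a b _ => Subsingleton.elim a b⟩
    intro q hq hd
    rw [Nat.card_unique] at hd
    exact absurd (Nat.le_of_dvd one_pos hd) (not_le.2 hq.one_lt)
  haveI := hsol
  have hne : commutator G ≠ ⊤ := fun h => by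
    have h1 : ∀ k : ℕ, derivedSeries G k = ⊤ := by
      intro k
      induction k with
      | zero => rfl
      | succ k ihk => rw [derivedSeries_succ, ihk]; exact h
    obtain ⟨k, hk⟩ := (Group.isSolvable_def G).1 hsol
    exact top_ne_bot ((h1 k).symm.trans hk)
  obtain ⟨K, hK, hcK⟩ := (IsCoatomic.eq_top_or_exists_le_coatom (commutator G)).resolve_left hne
  haveI hKn : K.Normal := ⟨fun x hx g => by
    have h1 : g * x * g⁻¹ * x⁻¹ ∈ K :=
      hcK (Subgroup.commutator_mem_commutator (Subgroup.mem_top g) (Subgroup.mem_top x))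
    simpa using K.mul_mem h1 hx⟩
  haveI : Nontrivial (G ⧸ K) := QuotientGroup.nontrivial_iff.2 hK.1
  obtain ⟨p, hp, hpd⟩ := Nat.exists_prime_and_dvd
    (show Nat.card (G ⧸ K) ≠ 1 from (Finite.one_lt_card (α := G ⧸ K)).ne')
  haveI := Fact.mk hp
  obtain ⟨y, hy⟩ := exists_prime_orderOf_dvd_card' p hpd
  have htop : (Subgroup.zpowers y).comap (QuotientGroup.mk' K) = ⊤ := by
    refine hK.2 _ (lt_of_le_of_ne ?_ fun h => ?_)
    · intro x hx
      show (QuotientGroup.mk' K) x ∈ Subgroup.zpowers y
      rw [QuotientGroup.mk'_apply, (QuotientGroup.eq_one_iff x).2 hx]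
      exact Subgroup.one_mem _
    · obtain ⟨x, hx⟩ := QuotientGroup.mk'_surjective K y
      have hxK : x ∈ K := by
        rw [h]
        show (QuotientGroup.mk' K) x ∈ Subgroup.zpowers y
        rw [hx]; exact Subgroup.mem_zpowers y
      rw [QuotientGroup.mk'_apply, (QuotientGroup.eq_one_iff x).2 hxK] at hx
      rw [← hx, orderOf_one] at hy
      exact hp.ne_one hy.symm
  have hz : Subgroup.zpowers y = ⊤ := by
    rw [← Subgroup.map_comap_eq_self_of_surjective (QuotientGroup.mk'_surjective K)
      (Subgroup.zpowers y), htop, Subgroup.map_top_of_surjective _ (QuotientGroup.mk'_surjective K)]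
  have hcard : Nat.card (G ⧸ K) = p := by
    rw [← hy, ← Nat.card_zpowers, hz, Subgroup.card_top]
  have hidx : Nat.card K * p = Nat.card G := by
    rw [← hcard, ← Subgroup.index_eq_card, K.card_mul_index]
  have hlt : Nat.card K < m := by
    rw [← hm, ← hidx]
    exact lt_mul_of_one_lt_right Nat.card_pos hp.one_lt
  obtain ⟨W, A, iW, iA, fW, C, hprimes, he, f, hf⟩ := ih _ hlt K rfl inferInstance
  haveI : IsCyclic (G ⧸ K) := isCyclic_of_prime_card hcard
  letI : CommGroup (G ⧸ K) := IsCyclic.commGroup
  have hG0 : Nat.card G ≠ 0 := Nat.card_pos.ne'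
  refine ⟨W ≀ᵣ (G ⧸ K), ((G ⧸ K) → A) × (G ⧸ K), inferInstance, inferInstance, inferInstance,
    C.wreath, fun q hq hd => ?_, fun a => ?_, ?_⟩
  · rw [RegularWreathProduct.card, hcard] at hd
    rcases hq.dvd_mul.1 hd with h1 | h1
    · exact (hprimes q hq (hq.dvd_of_dvd_pow h1)).trans ⟨p, hidx.symm⟩
    · exact h1.trans ⟨Nat.card K, by rw [← hidx, mul_comm]⟩
  · refine Prod.ext (funext fun q => ?_) ?_
    · obtain ⟨r, hr⟩ := rad_dvd_rad (Dvd.intro _ hidx : Nat.card K ∣ Nat.card G) hG0
      rw [Prod.pow_fst, Pi.pow_apply, hr, pow_mul, he, one_pow]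
      rfl
    · obtain ⟨r, hr⟩ := dvd_rad hp (Dvd.intro_left _ hidx : p ∣ Nat.card G) hG0
      rw [Prod.pow_snd, hr, pow_mul, ← hcard, pow_card_eq_one', one_pow]
      rfl
  let π := QuotientGroup.mk' K
  let s : G ⧸ K → G := Quotient.out
  have hs : ∀ q, π (s q) = q := fun q => QuotientGroup.out_eq' q
  have hmem : ∀ (g : G) (q : G ⧸ K), (s q)⁻¹ * g * s ((π g)⁻¹ * q) ∈ K := fun g q => by
    rw [← QuotientGroup.eq_one_iff]
    show π _ = 1
    rw [map_mul, map_mul, map_inv, hs, hs]
    group
  let φ : G →* W ≀ᵣ (G ⧸ K) :=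
    { toFun := fun g => ⟨fun q => f ⟨_, hmem g q⟩, π g⟩
      map_one' := by
        ext q
        · show f _ = 1
          rw [← map_one f]
          refine congrArg f (Subtype.ext ?_)
          simp
        · exact map_one π
      map_mul' := fun a b => by
        ext q
        · show f _ = f _ * f _
          rw [← map_mul]
          refine congrArg f (Subtype.ext ?_)
          simp [mul_assoc]
        · exact map_mul π a b }
  refine ⟨φ, fun a b hab => ?_⟩
  have h1 : π a = π b := congrArg RegularWreathProduct.right hab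
  have h2 := hf (congrFun (congrArg RegularWreathProduct.left hab) 1)
  have h3 := congrArg Subtype.val h2
  simp only [h1] at h3
  exact mul_left_cancel (mul_right_cancel h3)

open CocycleMonomial80 CharBasic CharBasicOrth CharBasicDecomp in
theorem build {G W A : Type u} [Group G] [Finite G] [Group W] [CommGroup A] [Finite W]
    (f : G →* W) (hf : Function.Injective f) (C : Cocycle W A)
    (hprimes : ∀ q : ℕ, q.Prime → q ∣ Nat.card W → q ∣ Nat.card G)
    (he : ∀ a : A, a ^ rad (Nat.card G) = 1) :
    ∃ (H : Type u) (_ : Group H) (_ : Finite H) (χ : Cfsg.IrrCharacter H),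
      (∀ h : H, (χ : H → ℂ) h = (χ : H → ℂ) 1 → h = 1) ∧
      (Cfsg.charDegree (χ : H → ℂ)) ^ 2 = (Subgroup.center H).index ∧
      (∃ f : G →* H ⧸ Subgroup.center H, Function.Injective f) ∧
      (∀ p : ℕ, p.Prime → ((p ∣ Nat.card H ↔ p ∣ Nat.card G) ∧
        (p ∣ Nat.card (Subgroup.center H) ↔ p ∣ Nat.card G))) ∧
      Squarefree (Nat.card (Subgroup.center H)) := by
  classical
  haveI : Fintype W := Fintype.ofFinite W
  haveI : Finite A := Finite.of_surjective _ C.bij.2
  haveI : Fintype A := Fintype.ofFinite A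
  haveI : NeZero (rad (Nat.card G)) := ⟨(rad_pos _).ne'⟩
  have hAW : Nat.card A = Nat.card W := (Nat.card_congr (Equiv.ofBijective _ C.bij)).symm
  set n := rad (Nat.card G) with hn
  haveI hirr : (rep C n he).IsIrreducible := (isIrreducible_iff_classInner _).2 irreducible_rep
  let χ : Cfsg.IrrCharacter (Mono C n he) :=
    ⟨_, isIrrCharacter_of_rep (rep C n he)⟩
  refine ⟨Mono C n he, inferInstance, inferInstance, χ, fun h hh => ?_, ?_, ?_, fun p hp => ?_, ?_⟩
  · have h0 : (rep C n he).character h = (rep C n he).character 1 := hh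
    rw [Representation.char_one, character_eq_finrank_iff] at h0
    obtain ⟨hq, hl, hc⟩ := scalar_iff h (z := 1) (by rw [h0, one_smul]; try rfl)
    exact Mono.ext (Subtype.ext (Units.ext hc.symm)) hl hq
  · have hdeg : charDegree (χ : Mono C n he → ℂ) = Nat.card A := by
      show ⌊((rep C n he).character 1).re⌋₊ = _
      rw [Representation.char_one, Complex.natCast_re, Nat.floor_natCast,
        Module.finrank_fintype_fun_eq_card, Nat.card_eq_fintype_card]
    have h1 := (Subgroup.center (Mono C n he)).card_mul_index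
    rw [card_center, card_mono] at h1
    rw [hdeg, Nat.eq_of_mul_eq_mul_left (rad_pos _) h1, ← hAW, sq]
  · refine ⟨((QuotientGroup.mk' _).comp (embW C n he)).comp f,
      (injective_iff_map_eq_one _).2 fun g hg => ?_⟩
    have h1 : (embW C n he (f g)) ∈ Subgroup.center (Mono C n he) :=
      (QuotientGroup.eq_one_iff _).1 hg
    exact (injective_iff_map_eq_one f).1 hf g ((center_eq C n he).subset h1).1
  · have hn' : p ∣ n ↔ p ∣ Nat.card G := by
      refine ⟨fun h => h.trans (Nat.prod_primeFactors_dvd _), fun h => dvd_rad hp h Nat.card_pos.ne'⟩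
    rw [card_center, card_mono, hAW]
    refine ⟨⟨fun h => ?_, fun h => dvd_mul_of_dvd_left (hn'.2 h) _⟩, hn'⟩
    rcases hp.dvd_mul.1 h with h1 | h1
    · exact hn'.1 h1
    · rcases hp.dvd_mul.1 h1 with h2 | h2 <;> exact hprimes p hp h2
  · rw [card_center]
    exact squarefree_rad _


/-- For every finite solvable group G there is a finite group H with a faithful irreducible character χ whose degree squared equals the index of the centre Z(H) (so χ is fully ramified over the centre), such that G is isomorphic to a subgroup of H/Z(H), the primes dividing the orders of H, of Z(H) and of G are the same, and the order of Z(H) is squarefree. -/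
theorem result {G : Type u} [Group G] [Finite G] (hsolv : Group.IsSolvable G) : ∃ (H : Type u) (_ : Group H) (_ : Finite H) (χ : Cfsg.IrrCharacter H), (∀ h : H, (χ : H → ℂ) h = (χ : H → ℂ) 1 → h = 1) ∧ (Cfsg.charDegree (χ : H → ℂ)) ^ 2 = (Subgroup.center H).index ∧ (∃ f : G →* H ⧸ Subgroup.center H, Function.Injective f) ∧ (∀ p : ℕ, p.Prime → ((p ∣ Nat.card H ↔ p ∣ Nat.card G) ∧ (p ∣ Nat.card (Subgroup.center H) ↔ p ∣ Nat.card G))) ∧ Squarefree (Nat.card (Subgroup.center H)) := by
  classical
  obtain ⟨W, A, iW, iA, fW, C, hprimes, he, f, hf⟩ := exists_cocycle (Nat.card G) G rfl hsolv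
  exact build f hf C hprimes he

end Cfsg.Agent.S4561
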