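import Cfsg.Statements.S4563
import Cfsg.Agent.Lib.FullyRamifiedSylow80
import Cfsg.Agent.Lib.HallConverse80

set_option autoImplicit false
open Cfsg

namespace Cfsg.Agent.S4563

universe u

open CharBasic CharBasicDecomp CharInduced FullyRamified80 in
theorem complement_at {H : Type u} [Group H] [Fintype H] {Z : Subgroup H} [Z.Normal] {χ : H → ℂ}
    {θ : Z → ℂ} {e : ℕ} (h : FullyRamified80.FR Z χ θ e) {K : Subgroup H} [K.Normal] [Fintype K]
    (hZK : Z ≤ K) {φ : K → ℂ} (hφc : IsCharacter K φ) (hind : indFun K φ = χ)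
    {p : ℕ} [hp : Fact p.Prime] (S : Sylow p H) :
    ∃ M : Subgroup (H ⧸ K), M.IsComplement' ((S : Subgroup H).map (QuotientGroup.mk' K)) := by
  classical
  set Q : Subgroup H := (S : Subgroup H) ⊔ Z with hQ
  set L : Subgroup H := Q ⊓ K with hL
  haveI : Fintype Q := Fintype.ofFinite _
  haveI : Fintype L := Fintype.ofFinite _
  haveI : Fintype Z := Fintype.ofFinite _
  have hLK : L ≤ K := inf_le_right
  have hZQ : Z ≤ Q := le_sup_right
  have hZL : Z ≤ L := le_inf hZQ hZK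
  obtain ⟨hφ, hφ1⟩ := irr_of_ind_irr K hφc h.irr hind
  obtain ⟨k, hk⟩ := over_of_constituent h.irrZ hZK
    (isCharacter_res K (isCharacter_of_isIrrCharacter h.irr)) h.over_res hφ
    (by rw [hφ1]; exact one_ne_zero)
  obtain ⟨cK, hcK, hke⟩ := h.ind_over hZK hφc hk
  have hcK1 : cK = 1 := by
    have h1 := congrFun hcK 1
    rw [hind, Pi.smul_apply, smul_eq_mul] at h1
    have h2 := mul_right_cancel₀ (isIrrCharacter_apply_one_ne_zero h.irr)
      ((one_mul (χ 1)).trans h1)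
    exact_mod_cast h2.symm
  rw [hcK1, one_mul] at hke
  have hφL : IsCharacter L (φ ∘ Subgroup.inclusion hLK) :=
    CharBasic.isCharacter_comap _ hφc
  have hoverL : Over θ (φ ∘ Subgroup.inclusion hLK) k := fun z hz hl => hk z hz (hLK hl)
  obtain ⟨η, hη, hne⟩ := FullyRamified80.exists_constituent hφL
    (by simpa using isIrrCharacter_apply_one_ne_zero hφ)
  obtain ⟨g, hg⟩ := over_of_constituent h.irrZ hZL hφL hoverL hη hne
  obtain ⟨n, hn⟩ := exists_pow_card_sup (Z := Z) S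
  obtain ⟨ξ, f, hf⟩ := h.descend hZQ hn (not_dvd_index_sup S)
  obtain ⟨htrans, I, c, hI, hc1, hLI, hc2⟩ := over_in_P hf hL hZL hη hg
  -- `g` divides `k`
  obtain ⟨m, hm, hsum⟩ := exists_mult hφL
  have hgk : k = (∑ ψ : IrrCharacter L, m ψ) * g := by
    have h1 := congrFun hsum 1
    rw [hoverL.apply_one, Finset.sum_apply] at h1
    have h2 : ∀ ψ : IrrCharacter L, ((m ψ : ℂ) • (ψ : L → ℂ)) 1 = ((m ψ * g : ℕ) : ℂ) * θ 1 := by
      intro ψ
      rw [Pi.smul_apply, smul_eq_mul]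
      rcases Nat.eq_zero_or_pos (m ψ) with h0 | h0
      · simp [h0]
      · have hne' : classInner (φ ∘ Subgroup.inclusion hLK) (ψ : L → ℂ) ≠ 0 := by
          rw [hm ψ]; exact Nat.cast_ne_zero.2 h0.ne'
        obtain ⟨g', hg'⟩ := over_of_constituent h.irrZ hZL hφL hoverL ψ.2 hne'
        obtain ⟨a, ha, hψ⟩ := htrans ψ.1 g' ψ.2 hg'
        have hval : (ψ : L → ℂ) 1 = η 1 := by
          rw [← hψ, cf_apply (1 : L) (by simp)]
          exact congrArg η (Subtype.ext (by simp))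
        rw [hval, hg.apply_one, Nat.cast_mul, mul_assoc]
    rw [Finset.sum_congr rfl (fun ψ _ => h2 ψ), ← Finset.sum_mul, ← Nat.cast_sum,
      ← Finset.sum_mul] at h1
    exact_mod_cast mul_right_cancel₀ (isIrrCharacter_apply_one_ne_zero h.irrZ) h1
  -- `c * f` divides `e`
  have hdvd : c * f ∣ e := by
    rw [← hc1, ← hke]
    refine Nat.mul_dvd_mul ?_ ⟨_, hgk.trans (mul_comm _ _)⟩
    rw [hL, Subgroup.inf_relIndex_left]
    exact Subgroup.relIndex_dvd_index_of_normal K Q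
  have hc_idx : c ^ 2 ∣ Q.index := by
    have h1 : (c * f) ^ 2 ∣ e ^ 2 := pow_dvd_pow_of_dvd hdvd 2
    rw [mul_pow, h.sq, hf.sq, ← Subgroup.relIndex_mul_index hZQ, mul_comm (c ^ 2)] at h1
    exact Nat.dvd_of_mul_dvd_mul_left
      (Nat.pos_of_ne_zero (Subgroup.index_ne_zero_of_finite (H := Z.subgroupOf Q))) h1
  have hc_p : c ^ 2 ∣ p ^ n := by
    have h1 : c ^ 2 * Nat.card (L.subgroupOf Q) ∣ Nat.card Q := hc2 ▸ Subgroup.card_subgroup_dvd_card I
    have h2 : Nat.card (L.subgroupOf Q) = Nat.card L :=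
      Nat.card_congr (Subgroup.subgroupOfEquivOfLe (inf_le_left : L ≤ Q)).toEquiv
    have h3 : Nat.card Z * c ^ 2 ∣ Nat.card Z * p ^ n := by
      rw [hn, mul_comm]
      exact (Nat.mul_dvd_mul_left _ (Subgroup.card_dvd_of_le hZL)).trans (h2 ▸ h1)
    exact Nat.dvd_of_mul_dvd_mul_left Nat.card_pos h3
  have hc : c ^ 2 = 1 := Nat.eq_one_of_dvd_coprimes
    (Nat.Coprime.pow_left n ((Nat.Prime.coprime_iff_not_dvd hp.out).2
      (not_dvd_index_sup (Z := Z) S))) hc_p hc_idx
  rw [hc, one_mul] at hc2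
  have hIL : L.subgroupOf Q = I := Subgroup.eq_of_le_of_card_ge hLI hc2.ge
  refine exists_complement h hZK S hQ hL hη hg fun a ha hfix => ?_
  have : (⟨a, ha⟩ : Q) ∈ L.subgroupOf Q := hIL.symm ▸ (hI ⟨a, ha⟩).2 hfix
  exact Subgroup.mem_subgroupOf.1 this


/-- Let χ be an irreducible character of the finite group H that is fully ramified over the normal subgroup Z: the restriction of χ to Z is e times an irreducible character of Z with e ^ 2 equal to the index of Z. If K is a proper normal subgroup of H containing Z and χ is induced from a character of K, then H/K is solvable; in particular, if K is solvable then so is H. -/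
theorem result {H : Type*} [Group H] [Fintype H] (Z : Subgroup H) [Z.Normal] (χ : Cfsg.IrrCharacter H) (hfr : ∃ (θ : Cfsg.IrrCharacter ↥Z) (e : ℕ), e ^ 2 = Z.index ∧ ∀ z : ↥Z, (χ : H → ℂ) z = (e : ℂ) * (θ : ↥Z → ℂ) z) (K : Subgroup H) [K.Normal] [Fintype K] (hZK : Z ≤ K) (hK : K ≠ ⊤) (φ : ↥K → ℂ) (hφ : Cfsg.IsCharacter ↥K φ) (hind : Cfsg.indFun K φ = (χ : H → ℂ)) : Group.IsSolvable (H ⧸ K) ∧ (Group.IsSolvable ↥K → Group.IsSolvable H) := by
  obtain ⟨θ, e, he, hres⟩ := hfr
  have h : FullyRamified80.FR Z χ.1 θ.1 e := ⟨χ.2, θ.2, he, hres⟩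
  have hsol : Group.IsSolvable (H ⧸ K) := by
    refine HallConverse80.isSolvable_of_complements fun p hp => ?_
    haveI : Fact p.Prime := ⟨hp⟩
    obtain ⟨S⟩ : Nonempty (Sylow p H) := inferInstance
    obtain ⟨M, hM⟩ := complement_at h hZK hφ hind S
    refine ⟨M, ?_⟩
    rw [hM.symm.index_eq_card]
    exact (S.mapSurjective (QuotientGroup.mk'_surjective K)).card_eq_multiplicity
  refine ⟨hsol, fun hKs => ?_⟩
  exact Group.isSolvable_of_ker_le_range K.subtype (QuotientGroup.mk' K) (by simp)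

end Cfsg.Agent.S4563
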