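import Cfsg.Statements.S4564
import Cfsg.Agent.Lib.FullyRamifiedSylow80

set_option autoImplicit false
open Cfsg

namespace Cfsg.Agent.S4564

/-- Let χ be an irreducible character of the finite group H that is fully ramified over the normal subgroup Z: the restriction of χ to Z is e times an irreducible character of Z with e ^ 2 equal to the index of Z. Let K be a normal subgroup of H containing Z and P a cyclic Sylow p-subgroup of H/K. Then P has a complement in H/K: a subgroup meeting P trivially whose product with P is the whole group. -/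
theorem result {H : Type*} [Group H] [Finite H] (Z : Subgroup H) [Z.Normal] (χ : Cfsg.IrrCharacter H) (hfr : ∃ (θ : Cfsg.IrrCharacter ↥Z) (e : ℕ), e ^ 2 = Z.index ∧ ∀ z : ↥Z, (χ : H → ℂ) z = (e : ℂ) * (θ : ↥Z → ℂ) z) (K : Subgroup H) [K.Normal] (hZK : Z ≤ K) (p : ℕ) [Fact p.Prime] (P : Sylow p (H ⧸ K)) (hcyc : IsCyclic P) : ∃ M : Subgroup (H ⧸ K), M.IsComplement' (P : Subgroup (H ⧸ K)) := by
  classical
  haveI : Fintype H := Fintype.ofFinite H
  obtain ⟨θ, e, he, hres⟩ := hfr
  have h : FullyRamified80.FR Z χ.1 θ.1 e := ⟨χ.2, θ.2, he, hres⟩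
  obtain ⟨S, rfl⟩ := Sylow.mapSurjective_surjective (QuotientGroup.mk'_surjective K) p P
  set Q : Subgroup H := (S : Subgroup H) ⊔ Z with hQ
  set L : Subgroup H := Q ⊓ K with hL
  haveI : Fintype Q := Fintype.ofFinite _
  haveI : Fintype L := Fintype.ofFinite _
  haveI : Fintype Z := Fintype.ofFinite _
  have hZL : Z ≤ L := le_inf le_sup_right hZK
  have hresL := CharInduced.isCharacter_res L (CharBasic.isCharacter_of_isIrrCharacter χ.2)
  obtain ⟨η, hη, hne⟩ := FullyRamified80.exists_constituent hresL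
    (by simpa using CharBasic.isIrrCharacter_apply_one_ne_zero χ.2)
  obtain ⟨g, hg⟩ := FullyRamified80.over_of_constituent θ.2 hZL hresL h.over_res hη hne
  obtain ⟨n, hn⟩ := FullyRamified80.exists_pow_card_sup (Z := Z) S
  obtain ⟨ξ, f, hf⟩ := h.descend (le_sup_right : Z ≤ Q) hn (FullyRamified80.not_dvd_index_sup S)
  have hmap : Q.map (QuotientGroup.mk' K) = (S : Subgroup H).map (QuotientGroup.mk' K) := by
    rw [hQ, Subgroup.map_sup, (Subgroup.map_eq_bot_iff Z).2 (by rwa [QuotientGroup.ker_mk']),
      sup_bot_eq]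
  exact FullyRamified80.exists_complement h hZK S hQ hL hη hg
    (FullyRamified80.free_of_cyclic hf hL hZL (by rw [hmap]; exact hcyc) hη hg)

end Cfsg.Agent.S4564
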