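import Cfsg.Statements.S4565
import Cfsg.Agent.Lib.FullyRamifiedSylow80

set_option autoImplicit false
open Cfsg

namespace Cfsg.Agent.S4565

universe u

theorem geom_sum_root {n : ℕ} {a : ℂ} (ha : a ^ n = 1) :
    ∑ i ∈ Finset.range n, a ^ i = if a = 1 then (n : ℂ) else 0 := by
  split_ifs with h
  · simp [h]
  · have h1 := geom_sum_mul a n
    rw [ha, sub_self, mul_eq_zero] at h1
    exact h1.resolve_right (sub_ne_zero.2 h)

open CharBasic CharBasicDecomp CharInduced FullyRamified80 in
theorem no_self_centralizing {H : Type u} [Group H] [Fintype H] {Z : Subgroup H} [Z.Normal]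
    {χ : H → ℂ} {θ : Z → ℂ} {e : ℕ} (h : FullyRamified80.FR Z χ θ e) (hZ : Z ≠ ⊤)
    (C : Subgroup (H ⧸ Z)) (hC : IsCyclic C) : Subgroup.centralizer (C : Set (H ⧸ Z)) ≠ C := by
  classical
  intro hself
  haveI := hC
  let π := QuotientGroup.mk' Z
  set M : Subgroup H := C.comap π with hM
  haveI : Fintype M := Fintype.ofFinite _
  haveI : Fintype Z := Fintype.ofFinite _
  have hZM : Z ≤ M := fun z hz => by
    show π z ∈ C
    rw [show π z = 1 from (QuotientGroup.eq_one_iff z).2 hz]
    exact C.one_mem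
  set n := Nat.card C with hn
  have hn0 : 0 < n := Nat.card_pos
  obtain ⟨q, hq⟩ := hC.exists_generator
  have hq1 : (q : H ⧸ Z) ≠ 1 := by
    intro h1
    have hCbot : C = ⊥ := by
      rw [eq_bot_iff]
      intro y hy
      obtain ⟨k, hk⟩ := Subgroup.mem_zpowers_iff.1 (hq ⟨y, hy⟩)
      have hk' := congrArg Subtype.val hk
      simp only [Subgroup.coe_zpow, h1, one_zpow] at hk'
      exact hk'.symm
    apply hZ
    rw [eq_top_iff]
    intro g _
    have hg : π g ∈ Subgroup.centralizer (C : Set (H ⧸ Z)) := by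
      rw [Subgroup.mem_centralizer_iff]
      intro y hy
      rw [hCbot] at hy
      rw [Subgroup.mem_bot.1 hy, one_mul, mul_one]
    rw [hself, hCbot, Subgroup.mem_bot] at hg
    exact (QuotientGroup.eq_one_iff g).1 hg
  -- a linear character of `M` with kernel `Z`
  let φ : M →* C := π.subgroupComap C
  have hφsurj : Function.Surjective φ :=
    MonoidHom.subgroupComap_surjective_of_surjective π C (QuotientGroup.mk'_surjective Z)
  haveI : NeZero n := ⟨hn0.ne'⟩
  let iso : C ≃* rootsOfUnity n ℂ := mulEquivOfCyclicCardEq (by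
    rw [← hn, HasEnoughRootsOfUnity.natCard_rootsOfUnity ℂ n])
  let lam : M →* ℂˣ := ((rootsOfUnity n ℂ).subtype.comp iso.toMonoidHom).comp φ
  have hlam_iff : ∀ a b : M, lam a = lam b ↔ π (a : H) = π (b : H) := fun a b => by
    constructor
    · intro hab
      exact congrArg Subtype.val (iso.injective (Subtype.ext hab))
    · intro hab
      have : φ a = φ b := Subtype.ext hab
      simp [lam, this]
  have hlam_pow : ∀ a : M, ((lam a : ℂˣ) : ℂ) ^ n = 1 := fun a => by
    have := (iso (φ a)).2
    rw [mem_rootsOfUnity] at this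
    exact (Units.val_pow_eq_pow_val _ _).symm.trans (congrArg Units.val this)
  -- an extension of `θ`
  haveI : (Z.subgroupOf M).Normal := inferInstance
  have hθ' : IsIrrCharacter (Z.subgroupOf M) (toSubgroupOf θ) :=
    isIrrCharacter_comap (Subgroup.subgroupOfEquivOfLe hZM).toMonoidHom
      (MulEquiv.surjective _) h.irrZ
  obtain ⟨d, ρ, -, -, hρ, S, himpl, hirr⟩ := CharExtension.exists_setup hθ' (fun a x => by
    exact congrFun (h.invariant (a : H)) ⟨((x : M) : H), Subgroup.mem_subgroupOf.1 x.2⟩)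
  have hkerφ : φ.ker = Z.subgroupOf M := by
    ext a
    rw [MonoidHom.mem_ker, Subgroup.mem_subgroupOf, ← QuotientGroup.eq_one_iff]
    exact Subtype.ext_iff
  obtain ⟨ext, hext⟩ := CharExtension.exists_ext_cyclic S himpl
    (fun k a hk => by
      obtain ⟨b, hb⟩ := IsAlgClosed.exists_pow_nat_eq (a : ℂ) hk
      have hb0 : b ≠ 0 := fun h => a.ne_zero (by rw [← hb, h, zero_pow hk.ne'])
      exact ⟨Units.mk0 b hb0, Units.ext (by simpa using hb)⟩)
    (((QuotientGroup.quotientMulEquivOfEq hkerφ).symm.trans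
      (QuotientGroup.quotientKerEquivOfSurjective φ hφsurj)).isCyclic.2 hC)
  obtain ⟨hη, hηres⟩ := CharExtension.ext_to_char_top hirr ext hext
  set η := CharExtension.chr ext with hηdef
  have hover : Over θ η 1 := by
    intro z hz hl
    have := hηres ⟨⟨z, hl⟩, Subgroup.mem_subgroupOf.2 hz⟩
    rw [hρ] at this
    rw [Nat.cast_one, one_mul]
    exact this
  have hlam_one : ∀ a : M, lam a = 1 ↔ (a : H) ∈ Z := fun a => by
    rw [← map_one lam, hlam_iff, OneMemClass.coe_one, map_one]
    exact QuotientGroup.eq_one_iff (a : H)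
  -- each twist of `η` induces to a multiple of `χ`
  have htw : ∀ i : ℕ, ∃ c : ℕ, indFun M (fun a : M => η a * ((lam ^ i) a : ℂˣ)) = (c : ℂ) • χ := by
    intro i
    obtain ⟨c, hc, -⟩ := h.ind_over hZM
      (isCharacter_of_isIrrCharacter (isIrrCharacter_mul_linear hη (lam ^ i))) (g := 1) (by
        intro z hz hl
        show η ⟨z, hl⟩ * ((lam ^ i) ⟨z, hl⟩ : ℂˣ) = _
        rw [MonoidHom.pow_apply, (hlam_one ⟨z, hl⟩).2 hz, one_pow, Units.val_one, mul_one]
        exact hover z hz hl)
    exact ⟨c, hc⟩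
  -- `η` vanishes on the coset of the generator
  have hvan : ∀ x : M, π (x : H) = q → η x = 0 := by
    intro x hx
    set w : ℂ := ((lam x : ℂˣ) : ℂ) with hw
    have hw0 : w ≠ 0 := Units.ne_zero _
    let δ : M → ℂ := ∑ i ∈ Finset.range n, (w⁻¹ ^ i) • fun a : M => η a * ((lam ^ i) a : ℂˣ)
    have hδ : ∀ a : M, δ a = η a * if lam a = lam x then (n : ℂ) else 0 := by
      intro a
      simp only [δ, Finset.sum_apply, Pi.smul_apply, smul_eq_mul, MonoidHom.pow_apply,
        Units.val_pow_eq_pow_val]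
      rw [Finset.sum_congr rfl (fun i _ => show w⁻¹ ^ i * (η a * ((lam a : ℂˣ) : ℂ) ^ i) =
        η a * (((lam a : ℂˣ) : ℂ) / w) ^ i by rw [div_pow, inv_pow]; ring), ← Finset.mul_sum,
        geom_sum_root (by rw [div_pow, hlam_pow, hw, hlam_pow, div_one])]
      congr 1
      refine if_congr ?_ rfl rfl
      rw [div_eq_one_iff_eq hw0]
      exact ⟨fun h1 => Units.ext h1, fun h1 => congrArg Units.val h1⟩
    have h0 : indFun M δ (x : H) = 0 := by
      simp only [δ]
      rw [ind_sum, Finset.sum_apply]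
      refine Finset.sum_eq_zero fun i _ => ?_
      obtain ⟨c, hc⟩ := htw i
      rw [ind_smul, hc, Pi.smul_apply, Pi.smul_apply, h.vanish ?_, smul_zero, smul_zero]
      intro hxZ
      exact hq1 (hx.symm.trans ((QuotientGroup.eq_one_iff _).2 hxZ))
    have h1 : ∀ t : H, extendByZero M δ (t⁻¹ * x * t) = if t ∈ M then δ x else 0 := by
      intro t
      by_cases htM : t ∈ M
      · rw [if_pos htM, ext_zero_of_mem δ (M.mul_mem (M.mul_mem (M.inv_mem htM) x.2) htM), hδ, hδ]
        let t' : M := ⟨t, htM⟩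
        show η (t'⁻¹ * x * t') * _ = _
        rw [classFunction_conj' (isClassFunction_irr hη) x t']
        congr 1
        refine if_congr (iff_of_true ?_ rfl) rfl rfl
        show lam (t'⁻¹ * x * t') = lam x
        rw [map_mul, map_mul, map_inv, mul_comm (lam t')⁻¹, inv_mul_cancel_right]
      · rw [if_neg htM]
        by_cases hm : t⁻¹ * x * t ∈ M
        · rw [ext_zero_of_mem δ hm, hδ, if_neg, mul_zero]
          intro hl
          have h2 : (π t)⁻¹ * q * π t = q := by
            have := (hlam_iff _ _).1 hl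
            simpa [hx] using this
          apply htM
          show π t ∈ C
          rw [← hself, Subgroup.mem_centralizer_iff]
          intro y hy
          have hcom : Commute (π t) (q : H ⧸ Z) := by
            show π t * q = q * π t
            calc π t * q = π t * ((π t)⁻¹ * q * π t) := by rw [h2]
              _ = q * π t := by simp [mul_assoc]
          obtain ⟨k, hk⟩ := Subgroup.mem_zpowers_iff.1 (hq ⟨y, hy⟩)
          have hk' := congrArg Subtype.val hk
          simp only [Subgroup.coe_zpow] at hk'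
          rw [← hk']
          exact (hcom.zpow_right k).eq.symm
        · rw [ext_zero_of_not_mem δ hm]
    rw [indFun_apply, Finset.sum_congr rfl (fun t _ => h1 t), Finset.sum_ite, Finset.sum_const_zero,
      add_zero, Finset.sum_const, hδ, if_pos rfl, nsmul_eq_mul,
      show (Finset.univ.filter fun t : H => t ∈ M).card = Nat.card M by
        rw [Nat.card_eq_fintype_card,
          Fintype.card_of_subtype (Finset.univ.filter fun t : H => t ∈ M) (by simp)],
      ← mul_assoc, inv_mul_cancel₀ (card_subgroup_ne_zero M), one_mul, mul_eq_zero] at h0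
    exact h0.resolve_right (Nat.cast_ne_zero.2 hn0.ne')
  -- orthogonality
  obtain ⟨x, hx⟩ := hφsurj q
  set w : ℂ := ((lam x : ℂˣ) : ℂ) with hw
  have hw0 : w ≠ 0 := Units.ne_zero _
  choose N hN using fun i : ℕ => CharBasicOrth.classInner_isCharacter
    (isCharacter_of_isIrrCharacter (isIrrCharacter_mul_linear hη (lam ^ i)))
    (isCharacter_of_isIrrCharacter hη)
  have hexp : ∀ (v : ℂ), ∑ i ∈ Finset.range n, v ^ i * (N i : ℂ) = (Nat.card M : ℂ)⁻¹ *
      ∑ a : M, η a * (starRingEnd ℂ) (η a) * ∑ i ∈ Finset.range n, (v * ((lam a : ℂˣ) : ℂ)) ^ i := by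
    intro v
    simp only [← hN, classInner, MonoidHom.pow_apply, Units.val_pow_eq_pow_val, Finset.mul_sum]
    rw [Finset.sum_comm]
    refine Finset.sum_congr rfl fun a _ => Finset.sum_congr rfl fun i _ => ?_
    ring
  have hcardM : Nat.card M = n * Nat.card Z := by
    have h1 := Subgroup.card_eq_card_quotient_mul_card_subgroup φ.ker
    rw [Nat.card_congr (QuotientGroup.quotientKerEquivOfSurjective φ hφsurj).toEquiv, ← hn,
      hkerφ, Nat.card_congr (Subgroup.subgroupOfEquivOfLe hZM).toEquiv] at h1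
    exact h1
  have hN1 : ∑ i ∈ Finset.range n, N i = 1 := by
    have h1 := hexp 1
    have h2 : ∀ a : M, η a * (starRingEnd ℂ) (η a) *
        ∑ i ∈ Finset.range n, (1 * ((lam a : ℂˣ) : ℂ)) ^ i =
        if (a : H) ∈ Z then (n : ℂ) * (η a * (starRingEnd ℂ) (η a)) else 0 := by
      intro a
      rw [one_mul, geom_sum_root (hlam_pow a)]
      by_cases haZ : (a : H) ∈ Z
      · rw [if_pos haZ, if_pos (by rw [(hlam_one a).2 haZ, Units.val_one]), mul_comm]
      · rw [if_neg haZ, if_neg (fun h3 : ((lam a : ℂˣ) : ℂ) = 1 => haZ ((hlam_one a).1 (Units.ext (h3.trans Units.val_one.symm)))), mul_zero]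
    rw [Finset.sum_congr rfl (fun a _ => h2 a), ← Finset.sum_filter,
      Finset.sum_bij' (fun (a : M) (ha : a ∈ _) => (⟨a, (Finset.mem_filter.1 ha).2⟩ : Z))
        (fun z _ => (⟨z, hZM z.2⟩ : M)) (fun _ _ => Finset.mem_univ _)
        (fun z _ => Finset.mem_filter.2 ⟨Finset.mem_univ _, z.2⟩) (fun _ _ => rfl) (fun _ _ => rfl)
        (g := fun z : Z => (n : ℂ) * (θ z * (starRingEnd ℂ) (θ z)))
        (fun a ha => by
          have h4 := hover a (Finset.mem_filter.1 ha).2 a.2
          rw [Nat.cast_one, one_mul] at h4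
          rw [h4]),
      ← Finset.mul_sum, ← CharBasicOrth.card_mul_classInner,
      CharBasicOrth.classInner_irr_self h.irrZ, mul_one, ← Nat.cast_mul, ← hcardM,
      inv_mul_cancel₀ (card_subgroup_ne_zero M)] at h1
    simp only [one_pow, one_mul] at h1
    exact_mod_cast h1
  have hN0 : N 0 = 1 := by
    have := hN 0
    rw [show (fun a : M => η a * (((lam ^ 0) a : ℂˣ) : ℂ)) = η from funext fun a => by simp] at this
    rw [CharBasicOrth.classInner_irr_self hη] at this
    exact_mod_cast this.symm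
  have h2 := hexp w⁻¹
  rw [Finset.sum_eq_single 0, pow_zero, hN0, Nat.cast_one, one_mul, Finset.sum_eq_zero,
    mul_zero] at h2
  · exact one_ne_zero h2
  · intro a _
    rw [geom_sum_root (by simp only [mul_pow, inv_pow, hw, hlam_pow, inv_one, one_mul])]
    by_cases hl : w⁻¹ * ((lam a : ℂˣ) : ℂ) = 1
    · have : lam a = lam x := Units.ext (by
        rw [← hw]; exact (inv_mul_eq_one₀ hw0).1 hl |>.symm)
      rw [hvan a (((hlam_iff a x).1 this).trans (congrArg Subtype.val hx))]
      simp
    · rw [if_neg hl, mul_zero]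
  · intro i hi hi0
    have h5 : N i = 0 := by
      have := Finset.add_sum_erase (Finset.range n) N (Finset.mem_range.2 hn0)
      rw [hN1, hN0] at this
      have h6 : ∑ j ∈ (Finset.range n).erase 0, N j = 0 := by omega
      exact Finset.sum_eq_zero_iff.1 h6 i (Finset.mem_erase.2 ⟨hi0, hi⟩)
    rw [h5, Nat.cast_zero, mul_zero]
  · intro h3; exact absurd (Finset.mem_range.2 hn0) h3


/-- Let χ be an irreducible character of the finite group H that is fully ramified over the normal subgroup Z: the restriction of χ to Z is e times an irreducible character of Z with e ^ 2 equal to the index of Z. If Z ≠ H, then H/Z has no cyclic subgroup that is its own centralizer. -/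
theorem result {H : Type*} [Group H] [Finite H] (Z : Subgroup H) [Z.Normal] (χ : Cfsg.IrrCharacter H) (hfr : ∃ (θ : Cfsg.IrrCharacter ↥Z) (e : ℕ), e ^ 2 = Z.index ∧ ∀ z : ↥Z, (χ : H → ℂ) z = (e : ℂ) * (θ : ↥Z → ℂ) z) (hZ : Z ≠ ⊤) (C : Subgroup (H ⧸ Z)) (hC : IsCyclic C) : Subgroup.centralizer (C : Set (H ⧸ Z)) ≠ C := by
  classical
  haveI : Fintype H := Fintype.ofFinite H
  obtain ⟨θ, e, he, hres⟩ := hfr
  exact no_self_centralizing ⟨χ.2, θ.2, he, hres⟩ hZ C hC

end Cfsg.Agent.S4565
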