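import Cfsg.Statements.S4566
import Mathlib
import Cfsg.Agent.Lib.CharBasic

set_option autoImplicit false
open Cfsg

namespace Cfsg.Agent.S4566


/-- Let N be a central subgroup of the finite group G, ψ a faithful irreducible (hence degree-one) character of N, and χ an irreducible character of G whose restriction to N contains ψ. If g ∈ G and some x ∈ G has commutator x⁻¹ g⁻¹ x g in N but different from 1, then χ g = 0. -/
theorem result {G : Type*} [Group G] [Fintype G] (N : Subgroup G) [Fintype N] (hN : N ≤ Subgroup.center G) (ψ : Cfsg.IrrCharacter ↥N) (hfaith : ∀ n : ↥N, (ψ : ↥N → ℂ) n = (ψ : ↥N → ℂ) 1 → n = 1) (χ : Cfsg.IrrCharacter G) (hover : Cfsg.classInner (fun n : ↥N => (χ : G → ℂ) n) (ψ : ↥N → ℂ) ≠ 0) (g x : G) (hcomm : x⁻¹ * g⁻¹ * x * g ∈ N) (hne : x⁻¹ * g⁻¹ * x * g ≠ 1) : (χ : G → ℂ) g = 0 := by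
  classical
  obtain ⟨d, ρ, hρ, hρχ⟩ := χ.2
  obtain ⟨m, σ, hσ, hσψ⟩ := ψ.2
  haveI := hρ
  haveI := hσ
  set n : G := x⁻¹ * g⁻¹ * x * g with hn
  obtain ⟨c, hc⟩ := Cfsg.Agent.CharBasic.exists_scalar_of_mem_center ρ (hN hcomm)
  have hcz : (⟨n, hcomm⟩ : N) ∈ Subgroup.center N := Subgroup.mem_center_iff.2 fun y =>
    Subtype.ext (Subgroup.mem_center_iff.1 (hN hcomm) (y : G))
  obtain ⟨s, hs⟩ := Cfsg.Agent.CharBasic.exists_scalar_of_mem_center σ hcz
  have hχn : ∀ y : G, (χ : G → ℂ) (y * n) = c * (χ : G → ℂ) y := fun y => by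
    rw [← hρχ]
    simp only [Representation.character, map_mul, hc]
    rw [show ρ y * (c • LinearMap.id) = c • ρ y from by ext v; simp, map_smul, smul_eq_mul]
  have hψn : ∀ y : N, (ψ : N → ℂ) (y * ⟨n, hcomm⟩) = s * (ψ : N → ℂ) y := fun y => by
    rw [← hσψ]
    simp only [Representation.character, map_mul, hs]
    rw [show σ y * (s • LinearMap.id) = s • σ y from by ext v; simp, map_smul, smul_eq_mul]
  -- the character takes the same value at `g * n` and `g`
  have hinv : (χ : G → ℂ) g = c * (χ : G → ℂ) g := by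
    have h1 : x⁻¹ * (g * n) * x⁻¹⁻¹ = g := by
      rw [inv_inv]
      calc x⁻¹ * (g * n) * x = x⁻¹ * g * (n * x) := by group
        _ = x⁻¹ * g * (x * n) := by rw [Subgroup.mem_center_iff.1 (hN hcomm) x]
        _ = g := by rw [hn]; group
    rw [← hχn]
    conv_lhs => rw [← h1]
    rw [← hρχ, Representation.char_conj]
  by_contra h0
  have hc1 : c = 1 := (mul_left_eq_self₀.1 hinv.symm).resolve_right h0
  have hcs : Cfsg.classInner (fun y : N => (χ : G → ℂ) y) (ψ : N → ℂ) =
      (starRingEnd ℂ) s * Cfsg.classInner (fun y : N => (χ : G → ℂ) y) (ψ : N → ℂ) := by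
    simp only [Cfsg.classInner]
    rw [mul_left_comm]
    congr 1
    rw [Finset.mul_sum]
    refine (Fintype.sum_equiv (Equiv.mulRight (⟨n, hcomm⟩ : N)) _ _ (fun y => ?_)).symm
    simp only [Equiv.coe_mulRight]
    rw [hψn, show ((y * (⟨n, hcomm⟩ : N) : N) : G) = (y : G) * n from rfl, hχn, hc1, map_mul]
    ring
  have hs1 : s = 1 := by
    have := (mul_left_eq_self₀.1 hcs.symm).resolve_right hover
    simpa using congrArg (starRingEnd ℂ) this
  have := hfaith ⟨n, hcomm⟩ (by simpa [hs1] using hψn 1)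
  exact hne (congrArg Subtype.val this)

end Cfsg.Agent.S4566
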