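import Cfsg.Statements.S4567
import Cfsg.Agent.Lib.CharBasicDecomp
import Cfsg.Agent.Lib.CharBasicLinear
import Cfsg.Agent.Lib.CharInducedClifford
import Cfsg.Agent.Lib.CharExtension

set_option autoImplicit false
open Cfsg

namespace Cfsg.Agent.S4567

universe u

open CharBasic CharBasicDecomp CharBasicOrth in
theorem count_eq {G : Type u} [Group G] [Fintype G] (N : Subgroup G) [N.Normal] [Fintype N]
    (hN : N ≤ Subgroup.center G) (ψ : N → ℂ) (hψ : IsIrrCharacter N ψ)
    (hfaith : ∀ n : N, ψ n = ψ 1 → n = 1) :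
    Nat.card {χ : IrrCharacter G // classInner (fun n : N => (χ : G → ℂ) n) ψ ≠ 0} =
      Nat.card {C : ConjClasses (G ⧸ N) // ∃ g : G, ConjClasses.mk (g : G ⧸ N) = C ∧
        ∀ x : G, x⁻¹ * g⁻¹ * x * g ∈ N → x * g = g * x} := by
  classical
  have hcomm : ∀ (n : N) (g : G), (n : G) * g = g * n := fun n g =>
    (Subgroup.mem_center_iff.1 (hN n.2) g).symm
  -- `ψ` is linear
  have hψ1 : ψ 1 = 1 := by
    obtain ⟨m, ρ, hρ, rfl⟩ := hψ
    haveI := hρ
    have hsc : ∀ a : N, ∃ c : ℂ, ρ a = c • LinearMap.id := fun a =>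
      exists_scalar_of_mem_center ρ (Subgroup.mem_center_iff.2 fun b => Subtype.ext (hcomm a b).symm)
    choose c hc using hsc
    haveI := nontrivial_of_irreducible ρ
    obtain ⟨v, hv⟩ := exists_ne (0 : Fin m → ℂ)
    let U : Subrepresentation ρ :=
      { toSubmodule := Submodule.span ℂ {v}
        apply_mem_toSubmodule := fun a w hw => by
          rw [hc a]
          exact Submodule.smul_mem _ _ hw }
    have htop : U = ⊤ := (IsSimpleOrder.eq_bot_or_eq_top U).resolve_left fun h0 => hv (by
      have h1 : v ∈ U.toSubmodule := Submodule.mem_span_singleton_self v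
      rw [h0] at h1
      exact (Submodule.mem_bot ℂ).1 h1)
    rw [Representation.char_one]
    have h2 : Module.finrank ℂ (Submodule.span ℂ {v}) = 1 := finrank_span_singleton hv
    have h3 : Submodule.span ℂ {v} = ⊤ := congrArg Subrepresentation.toSubmodule htop
    rw [h3, finrank_top] at h2
    rw [h2, Nat.cast_one]
  obtain ⟨lam, hlam⟩ := CharExtension.exists_linHom (isCharacter_of_isIrrCharacter hψ) hψ1
  have hl : ∀ n : N, ψ n = (lam n : ℂ) := congrFun hlam
  have hinj : ∀ n : N, (lam n : ℂ) = 1 → n = 1 := fun n h => hfaith n (by rw [hl, hψ1, h])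
  -- the space of twisted class functions
  let V : Submodule ℂ (G → ℂ) :=
    { carrier := {f | IsClassFunction G f ∧ ∀ (g : G) (n : N), f (g * n) = (lam n : ℂ) * f g}
      zero_mem' := ⟨fun _ _ => rfl, fun _ _ => by simp⟩
      add_mem' := fun {a b} ha hb => ⟨fun g h => by simp [ha.1 g h, hb.1 g h],
        fun g n => by simp [ha.2, hb.2, mul_add]⟩
      smul_mem' := fun c a ha => ⟨fun g h => by simp [ha.1 g h], fun g n => by simp [ha.2]; ring⟩ }
  have hVmem : ∀ f : G → ℂ, f ∈ V ↔
      IsClassFunction G f ∧ ∀ (g : G) (n : N), f (g * n) = (lam n : ℂ) * f g := fun f => Iff.rfl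
  -- irreducible characters on the central subgroup
  have hirr : ∀ χ : IrrCharacter G, ∃ mu : N → ℂ, (∀ (g : G) (n : N), χ.1 (g * n) = mu n * χ.1 g) := by
    intro χ
    obtain ⟨m, ρ, hρ, hχ⟩ := χ.2
    haveI := hρ
    choose c hc using fun n : N => exists_scalar_of_mem_center ρ (hN n.2)
    refine ⟨c, fun g n => ?_⟩
    rw [← hχ, Representation.character, Representation.character, map_mul, hc n]
    show LinearMap.trace ℂ _ (ρ g ∘ₗ (c n • LinearMap.id)) = _
    rw [LinearMap.comp_smul, LinearMap.comp_id, map_smul, smul_eq_mul]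
  choose mu hmu using hirr
  have hover : ∀ χ : IrrCharacter G, (classInner (fun n : N => χ.1 n) ψ ≠ 0 ↔ χ.1 ∈ V) := by
    intro χ
    have hres : (fun n : N => χ.1 n) = fun n : N => mu χ n * χ.1 1 := funext fun n => by
      rw [← hmu χ 1 n, one_mul]
    have hmul : ∀ (a b : N), mu χ (a * b) = mu χ a * mu χ b := fun a b => by
      have h1 := hmu χ (1 * a) b
      rw [hmu χ 1 a, mul_assoc, ← Subgroup.coe_mul, hmu χ 1 (a * b)] at h1
      exact mul_right_cancel₀ (isIrrCharacter_apply_one_ne_zero χ.2) (by linear_combination h1)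
    constructor
    · intro hne
      refine ⟨CharInduced.isClassFunction_irr χ.2, fun g n => ?_⟩
      suffices mu χ n = lam n by rw [hmu, this]
      by_contra hne'
      apply hne
      have key : ∑ a : N, mu χ a * (starRingEnd ℂ) (lam a : ℂ) = 0 := by
        have h1 : (mu χ n * (starRingEnd ℂ) (lam n : ℂ)) *
            ∑ a : N, mu χ a * (starRingEnd ℂ) (lam a : ℂ) =
            ∑ a : N, mu χ a * (starRingEnd ℂ) (lam a : ℂ) := by
          rw [Finset.mul_sum]
          refine Fintype.sum_equiv (Equiv.mulLeft n) _ _ fun a => ?_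
          simp only [Equiv.coe_mulLeft, hmul, map_mul, Units.val_mul]
          ring
        rcases eq_or_ne (∑ a : N, mu χ a * (starRingEnd ℂ) (lam a : ℂ)) 0 with h0 | h0
        · exact h0
        · exfalso
          have h2 := mul_right_cancel₀ h0 (h1.trans (one_mul _).symm)
          have h3 : (starRingEnd ℂ) (lam n : ℂ) * (lam n : ℂ) = 1 := by
            rw [Complex.conj_mul', norm_linear lam n, Complex.ofReal_one, one_pow]
          apply hne'
          calc mu χ n = mu χ n * ((starRingEnd ℂ) (lam n : ℂ) * (lam n : ℂ)) := by rw [h3, mul_one]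
            _ = _ := by rw [← mul_assoc, h2, one_mul]
      rw [classInner, Finset.sum_congr rfl (fun (a : N) _ => show χ.1 (a : G) * (starRingEnd ℂ) (ψ a) =
        χ.1 1 * (mu χ a * (starRingEnd ℂ) (lam a : ℂ)) by
          rw [congrFun hres a, hl]; ring), ← Finset.mul_sum, key, mul_zero, mul_zero]
    · intro hV
      have hres2 : (fun n : N => χ.1 n) = χ.1 1 • ψ := funext fun n => by
        have := hV.2 1 n
        rw [one_mul, ← hl] at this
        rw [this, Pi.smul_apply, smul_eq_mul, mul_comm]
      rw [hres2, classInner_smul_left, classInner_irr_self hψ, mul_one]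
      exact isIrrCharacter_apply_one_ne_zero χ.2
  have horth : ∀ (f : G → ℂ), f ∈ V → ∀ χ : IrrCharacter G, χ.1 ∉ V → classInner f χ.1 = 0 := by
    intro f hf χ hχ
    obtain ⟨n, hn⟩ : ∃ n : N, mu χ n ≠ lam n := by
      by_contra hcon
      exact hχ ⟨CharInduced.isClassFunction_irr χ.2, fun g n => by
        rw [hmu, not_not.1 fun h => hcon ⟨n, h⟩]⟩
    have h1 : classInner f χ.1 = ((lam n : ℂ) * (starRingEnd ℂ) (mu χ n)) * classInner f χ.1 := by
      simp only [classInner, Finset.mul_sum]
      refine Fintype.sum_equiv (Equiv.mulRight (n : G)⁻¹) _ _ fun g => ?_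
      simp only [Equiv.coe_mulRight]
      have hg : g = g * (n : G)⁻¹ * (n : G) := by group
      conv_lhs => rw [hg]
      rw [hf.2, hmu, map_mul]
      ring
    by_contra h0
    have h2 := mul_right_cancel₀ h0 ((one_mul _).trans h1)
    apply hn
    have h3 : (starRingEnd ℂ) (lam n : ℂ) * (lam n : ℂ) = 1 := by
      rw [Complex.conj_mul', norm_linear lam n, Complex.ofReal_one, one_pow]
    have h4 := congrArg (starRingEnd ℂ) h2
    rw [map_one, map_mul, Complex.conj_conj] at h4
    calc mu χ n = (starRingEnd ℂ) (lam n : ℂ) * (lam n : ℂ) * mu χ n := by rw [h3, one_mul]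
      _ = (lam n : ℂ) * ((starRingEnd ℂ) (lam n : ℂ) * mu χ n) := by ring
      _ = _ := by rw [← h4, mul_one]
  -- coordinates by irreducible characters
  let A := {χ : IrrCharacter G // classInner (fun n : N => (χ : G → ℂ) n) ψ ≠ 0}
  let B := {C : ConjClasses (G ⧸ N) // ∃ g : G, ConjClasses.mk (g : G ⧸ N) = C ∧
        ∀ x : G, x⁻¹ * g⁻¹ * x * g ∈ N → x * g = g * x}
  haveI : Finite (IrrCharacter G) := finite_irrCharacter
  haveI : Fintype A := Fintype.ofFinite A
  haveI : Fintype B := Fintype.ofFinite B
  let Ψ : V →ₗ[ℂ] (A → ℂ) :=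
    { toFun := fun f a => classInner f.1 (a.1 : G → ℂ)
      map_add' := fun f g => funext fun a => classInner_add_left _ _ _
      map_smul' := fun c f => funext fun a => classInner_smul_left _ _ _ }
  have hΨ : Function.Bijective Ψ := by
    refine ⟨(injective_iff_map_eq_zero Ψ).2 fun f hf => ?_, fun c => ?_⟩
    · refine Subtype.ext ((eq_sum_classInner f.2.1).trans (Finset.sum_eq_zero fun χ _ => ?_))
      by_cases h : classInner (fun n : N => χ.1 n) ψ ≠ 0
      · rw [show classInner f.1 χ.1 = 0 from congrFun hf ⟨χ, h⟩, zero_smul]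
      · rw [horth f.1 f.2 χ (fun h' => h ((hover χ).2 h')), zero_smul]
    · refine ⟨⟨∑ a : A, c a • (a.1 : G → ℂ),
        Submodule.sum_mem V fun a _ => V.smul_mem _ ((hover a.1).1 a.2)⟩, funext fun b => ?_⟩
      show classInner (∑ a : A, c a • (a.1 : G → ℂ)) (b.1 : G → ℂ) = c b
      rw [classInner_sum_left, Finset.sum_eq_single b]
      · rw [classInner_smul_left, classInner_irr_self b.1.2, mul_one]
      · intro a _ hab
        rw [classInner_smul_left, classInner_irr_ne a.1.2 b.1.2
          (fun h => hab (Subtype.ext (Subtype.ext h))), mul_zero]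
      · simp
  choose s hs1 hs2 using fun C : B => C.2
  let Φ : V →ₗ[ℂ] (B → ℂ) :=
    { toFun := fun f C => f.1 (s C)
      map_add' := fun f g => rfl
      map_smul' := fun c f => rfl }
  have hΦ : Function.Bijective Φ := by
    refine ⟨(injective_iff_map_eq_zero Φ).2 fun f hf => Subtype.ext (funext fun g => ?_), fun c => ?_⟩
    · by_cases hg : ∀ x : G, x⁻¹ * g⁻¹ * x * g ∈ N → x * g = g * x
      · let C : B := ⟨ConjClasses.mk (g : G ⧸ N), g, rfl, hg⟩
        obtain ⟨y, hy⟩ := isConj_iff.1 (ConjClasses.mk_eq_mk_iff_isConj.1 (hs1 C))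
        obtain ⟨y, rfl⟩ := QuotientGroup.mk_surjective y
        have hy' : (y * s C * y⁻¹)⁻¹ * g ∈ N := QuotientGroup.eq.1 (by
          rw [QuotientGroup.mk_mul, QuotientGroup.mk_mul, QuotientGroup.mk_inv]; exact hy)
        have := f.2.2 (y * s C * y⁻¹) ⟨_, hy'⟩
        rw [mul_inv_cancel_left, f.2.1 (s C) y, show f.1 (s C) = 0 from congrFun hf C, mul_zero] at this
        exact this
      · push_neg at hg
        obtain ⟨x, hx, hne⟩ := hg
        have h1 := f.2.2 g (⟨_, hx⟩ : N)⁻¹
        rw [show g * (((⟨_, hx⟩ : N)⁻¹ : N) : G) = x⁻¹ * g * x by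
          rw [Subgroup.coe_inv]; group, CharInduced.classFunction_conj' f.2.1] at h1
        by_contra h0
        have h4 : (lam (⟨_, hx⟩ : N)⁻¹ : ℂ) = 1 :=
          mul_right_cancel₀ h0 (h1.symm.trans (one_mul _).symm)
        have h5 : x⁻¹ * g⁻¹ * x * g = ((1 : N) : G) :=
          congrArg Subtype.val (inv_eq_one.1 (hinj _ h4))
        apply hne
        calc x * g = g * x * (x⁻¹ * g⁻¹ * x * g) := by group
          _ = g * x := by rw [h5, OneMemClass.coe_one, mul_one]
    · let b : B → V := fun C =>
        ⟨fun g => ∑ x : G, ∑ n : N, if g = x * s C * x⁻¹ * n then (lam n : ℂ) else 0,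
          fun g h => Fintype.sum_equiv (Equiv.mulLeft h⁻¹) _ _ fun x => by
            refine Finset.sum_congr rfl fun n _ => if_congr ?_ rfl rfl
            have hc : h⁻¹ * x * s C * (h⁻¹ * x)⁻¹ * (n : G) =
                h⁻¹ * (x * s C * x⁻¹ * n) * h := by
              simp only [mul_inv_rev, inv_inv, mul_assoc, hcomm n h]
            simp only [Equiv.coe_mulLeft]
            rw [hc]
            constructor
            · intro he; rw [← he]; group
            · intro he; rw [he]; group,
          fun g m => by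
            rw [Finset.mul_sum]
            refine Finset.sum_congr rfl fun x _ => ?_
            rw [Finset.mul_sum]
            refine Fintype.sum_equiv (Equiv.mulRight m⁻¹) _ _ fun n => ?_
            rw [mul_ite, mul_zero]
            refine if_congr ?_ ?_ rfl
            · simp only [Equiv.coe_mulRight, Subgroup.coe_mul, Subgroup.coe_inv]
              rw [← mul_assoc, eq_mul_inv_iff_mul_eq]
            · simp only [Equiv.coe_mulRight]
              rw [← Units.val_mul, mul_comm (lam m), ← map_mul, inv_mul_cancel_right]⟩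
      have hbne : ∀ C D : B, C ≠ D → (b C).1 (s D) = 0 := by
        intro C D hCD
        refine Finset.sum_eq_zero fun x _ => Finset.sum_eq_zero fun n _ => if_neg fun he => hCD ?_
        apply Subtype.ext
        rw [← hs1 C, ← hs1 D]
        refine ConjClasses.mk_eq_mk_iff_isConj.2 (isConj_iff.2 ⟨(x : G ⧸ N), ?_⟩)
        rw [he, QuotientGroup.mk_mul, (QuotientGroup.eq_one_iff (n : G)).2 n.2, mul_one]
        rfl
      have hbself : ∀ C : B, (b C).1 (s C) ≠ 0 := by
        intro C
        have h1 : (b C).1 (s C) =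
            ((Finset.univ.filter fun x : G => x * s C = s C * x).card : ℂ) := by
          rw [← Finset.sum_boole]
          refine Finset.sum_congr rfl fun x _ => ?_
          by_cases hx : x * s C = s C * x
          · rw [if_pos hx, Finset.sum_eq_single 1]
            · rw [if_pos (by rw [OneMemClass.coe_one, mul_one, hx, mul_inv_cancel_right]),
                map_one, Units.val_one]
            · intro n _ hn
              refine if_neg fun he => hn (Subtype.ext ?_)
              rw [hx, mul_inv_cancel_right] at he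
              exact mul_left_cancel (a := s C) (by rw [OneMemClass.coe_one, mul_one]; exact he.symm)
            · simp
          · rw [if_neg hx]
            refine Finset.sum_eq_zero fun n _ => if_neg fun he => hx ?_
            have hn : x⁻¹ * (s C)⁻¹ * x * s C = ((n⁻¹ : N) : G) := by
              calc x⁻¹ * (s C)⁻¹ * x * s C = x⁻¹ * (x * s C * x⁻¹ * n)⁻¹ * x * s C := by rw [← he]
                _ = x⁻¹ * (((n⁻¹ : N) : G) * x) := by rw [Subgroup.coe_inv]; group
                _ = _ := by rw [hcomm (n⁻¹) x, inv_mul_cancel_left]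
            exact hs2 C x (hn ▸ (n⁻¹ : N).2)
        rw [h1, Nat.cast_ne_zero, Finset.card_ne_zero]
        exact ⟨1, by simp⟩
      refine ⟨∑ C : B, (c C / (b C).1 (s C)) • b C, funext fun D => ?_⟩
      show (∑ C : B, (c C / (b C).1 (s C)) • b C : V).1 (s D) = c D
      rw [AddSubmonoidClass.coe_finset_sum, Finset.sum_apply, Finset.sum_eq_single D]
      · simp [div_mul_cancel₀ _ (hbself D)]
      · intro C _ hCD
        simp [hbne C D hCD]
      · simp
  have h := ((LinearEquiv.ofBijective Ψ hΨ).symm.trans (LinearEquiv.ofBijective Φ hΦ)).finrank_eq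
  rw [Module.finrank_pi, Module.finrank_pi, ← Nat.card_eq_fintype_card, ← Nat.card_eq_fintype_card] at h
  exact h


/-- Let N be a central subgroup of the finite group G and ψ a faithful irreducible (hence degree-one) character of N. Call a coset g N special when every x ∈ G whose commutator x⁻¹ g⁻¹ x g lies in N actually commutes with g (this depends only on the coset). Then the number of irreducible characters of G whose restriction to N contains ψ equals the number of conjugacy classes of G/N consisting of special cosets. -/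
theorem result {G : Type*} [Group G] [Fintype G] (N : Subgroup G) [N.Normal] [Fintype N] (hN : N ≤ Subgroup.center G) (ψ : Cfsg.IrrCharacter ↥N) (hfaith : ∀ n : ↥N, (ψ : ↥N → ℂ) n = (ψ : ↥N → ℂ) 1 → n = 1) : Nat.card {χ : Cfsg.IrrCharacter G // Cfsg.classInner (fun n : ↥N => (χ : G → ℂ) n) (ψ : ↥N → ℂ) ≠ 0} = Nat.card {C : ConjClasses (G ⧸ N) // ∃ g : G, ConjClasses.mk (g : G ⧸ N) = C ∧ ∀ x : G, x⁻¹ * g⁻¹ * x * g ∈ N → x * g = g * x} := by
  classical
  exact count_eq N hN ψ.1 ψ.2 hfaith

end Cfsg.Agent.S4567
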