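import Cfsg.Statements.S4573
import Cfsg.Agent.Lib.MGroupWreath80

set_option autoImplicit false
universe u
open Cfsg

namespace Cfsg.Agent.S4573

open MGroupWreath80 in
theorem embed : ∀ (n : ℕ) (G : Type u) [Group G] [Finite G], Nat.card G = n → Group.IsSolvable G →
    ∃ (M : Type u) (_ : Group M) (_ : Fintype M), MGroup M ∧ ∃ f : G →* M, Function.Injective f := by
  intro n
  induction n using Nat.strong_induction_on with
  | h n ih =>
  intro G _ _ hn hsol
  classical
  haveI : Fintype G := Fintype.ofFinite G
  rcases subsingleton_or_nontrivial G with hG | hG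
  · refine ⟨G, inferInstance, inferInstance, fun χ hχ => ?_, MonoidHom.id G, fun a b h => h⟩
    obtain ⟨lam, rfl⟩ := CharBasicLinear.exists_hom_of_comm (fun a b => Subsingleton.elim _ _) hχ
    refine ⟨⊤, lam.comp (⊤ : Subgroup G).subtype, funext fun g => ?_⟩
    rw [Subsingleton.elim g 1, CharInduced.ind_one_apply, Subgroup.index_top]
    simp
  haveI := hsol
  have hne : commutator G ≠ ⊤ := fun h => by
    have h1 : ∀ k : ℕ, derivedSeries G k = ⊤ := by
      intro k
      induction k with
      | zero => rfl
      | succ k ihk => rw [derivedSeries_succ, ihk]; exact h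
    obtain ⟨k, hk⟩ := (Group.isSolvable_def G).1 hsol
    exact top_ne_bot ((h1 k).symm.trans hk)
  obtain ⟨K, hK, hcK⟩ := (IsCoatomic.eq_top_or_exists_le_coatom (commutator G)).resolve_left hne
  haveI hKn : K.Normal := ⟨fun x hx g => by
    have h1 : g * x * g⁻¹ * x⁻¹ ∈ K := hcK (Subgroup.commutator_mem_commutator (Subgroup.mem_top g) (Subgroup.mem_top x))
    simpa using K.mul_mem h1 hx⟩
  have hprime : (Nat.card (G ⧸ K)).Prime := by
    haveI : Nontrivial (G ⧸ K) := QuotientGroup.nontrivial_iff.2 hK.1
    obtain ⟨p, hp, hpd⟩ := Nat.exists_prime_and_dvd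
      (show Nat.card (G ⧸ K) ≠ 1 from (Finite.one_lt_card (α := G ⧸ K)).ne')
    haveI := Fact.mk hp
    obtain ⟨y, hy⟩ := exists_prime_orderOf_dvd_card' p hpd
    have htop : (Subgroup.zpowers y).comap (QuotientGroup.mk' K) = ⊤ := by
      refine hK.2 _ (lt_of_le_of_ne ?_ fun h => ?_)
      · intro x hx
        show (QuotientGroup.mk' K) x ∈ Subgroup.zpowers y
        rw [QuotientGroup.mk'_apply, (QuotientGroup.eq_one_iff x).2 hx]
        exact Subgroup.one_mem _
      · obtain ⟨x, hx⟩ := QuotientGroup.mk'_surjective K y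
        have hxK : x ∈ K := by
          rw [h]
          show (QuotientGroup.mk' K) x ∈ Subgroup.zpowers y
          rw [hx]; exact Subgroup.mem_zpowers y
        rw [QuotientGroup.mk'_apply, (QuotientGroup.eq_one_iff x).2 hxK] at hx
        rw [← hx, orderOf_one] at hy
        exact hp.ne_one hy.symm
    have hz : Subgroup.zpowers y = ⊤ := by
      rw [← Subgroup.map_comap_eq_self_of_surjective (QuotientGroup.mk'_surjective K)
        (Subgroup.zpowers y), htop, Subgroup.map_top_of_surjective _ (QuotientGroup.mk'_surjective K)]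
    have hcard : Nat.card (G ⧸ K) = p := by
      rw [← hy, ← Nat.card_zpowers, hz, Subgroup.card_top]
    exact hcard ▸ hp
  have hlt : Nat.card K < n := by
    rw [← hn, ← K.card_mul_index]
    exact lt_mul_of_one_lt_right Nat.card_pos (by rw [Subgroup.index_eq_card]; exact hprime.one_lt)
  obtain ⟨M, iM, fM, hM, f, hf⟩ := ih _ hlt K rfl inferInstance
  haveI : Fintype (G ⧸ K) := Fintype.ofFinite _
  refine ⟨M ≀ᵣ (G ⧸ K), inferInstance, inferInstance, mgroup_wreath hM hprime, ?_⟩
  let π := QuotientGroup.mk' K
  let s : G ⧸ K → G := Quotient.out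
  have hs : ∀ q, π (s q) = q := fun q => QuotientGroup.out_eq' q
  have hmem : ∀ (g : G) (q : G ⧸ K), (s q)⁻¹ * g * s ((π g)⁻¹ * q) ∈ K := fun g q => by
    rw [← QuotientGroup.eq_one_iff]
    show π _ = 1
    rw [map_mul, map_mul, map_inv, hs, hs]
    group
  let φ : G →* M ≀ᵣ (G ⧸ K) :=
    { toFun := fun g => ⟨fun q => f ⟨_, hmem g q⟩, π g⟩
      map_one' := by
        ext q
        · show f _ = 1
          rw [← map_one f]
          refine congrArg f (Subtype.ext ?_)
          simp
        · exact map_one π
      map_mul' := fun a b => by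
        ext q
        · show f _ = f _ * f _
          rw [← map_mul]
          refine congrArg f (Subtype.ext ?_)
          simp [mul_assoc]
        · exact map_mul π a b }
  refine ⟨φ, fun a b hab => ?_⟩
  have h1 : π a = π b := congrArg RegularWreathProduct.right hab
  have h2 := hf (congrFun (congrArg RegularWreathProduct.left hab) 1)
  have h3 := congrArg Subtype.val h2
  simp only [h1] at h3
  exact mul_left_cancel (mul_right_cancel h3)


/-- Every finite solvable group is isomorphic to a subgroup of a finite M-group, a group each of whose irreducible characters is induced from a homomorphism of some subgroup into ℂˣ. -/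
theorem result {G : Type u} [Group G] [Finite G] (hsolv : Group.IsSolvable G) : ∃ (M : Type u) (_ : Group M) (_ : Fintype M), (∀ χ : M → ℂ, Cfsg.IsIrrCharacter M χ → (∃ (H : Subgroup M) (lam : ↥H →* ℂˣ), χ = Cfsg.indFun H (fun h => (lam h : ℂ)))) ∧ ∃ f : G →* M, Function.Injective f := by
  exact embed (Nat.card G) G rfl hsolv

end Cfsg.Agent.S4573
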