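import Cfsg.Statements.S4575
import Cfsg.Agent.Lib.BlockContribMatrix81
-- import your own Cfsg.Agent.* helpers here

set_option autoImplicit false
open Cfsg

namespace Cfsg.Agent.S4575

open Cfsg.Agent.BlockContrib Cfsg.Agent.BlockContribBounds Cfsg.Agent.BlockTheoryLocalRing

/-- Let B be a 2-block of the finite group G (relative to a maximal ideal M of the algebraic integers containing 2) of defect d with defect group D. Let z be an element of D commuting with every element of D, and let b be a block of the centralizer of z with defect group D that induces B (a major subsection (z, b)). If the number of irreducible characters in B exceeds the 2-regular rank of b by at most three, then B contains at most 2 ^ d irreducible characters. -/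
theorem result {G : Type*} [Group G] [Finite G] (M : Ideal Cfsg.AlgInt) (hM : Cfsg.IsPModular 2 M) (B : Set (Cfsg.IrrCharacter G)) (hB : Cfsg.IsPBlock M B) (D : Subgroup G) (hD : Cfsg.IsDefectGroup 2 M B D) (z : G) (hzD : z ∈ D) (hzc : ∀ d ∈ D, d * z = z * d) (b : Set (Cfsg.IrrCharacter ↥(Subgroup.centralizer ({z} : Set G)))) (hb : Cfsg.IsInducedBlock M (Subgroup.centralizer ({z} : Set G)) b B) (hbD : Cfsg.IsDefectGroup 2 M b (D.subgroupOf (Subgroup.centralizer ({z} : Set G)))) (h : Nat.card B ≤ Cfsg.blockRank 2 b + 3) : Nat.card B ≤ 2 ^ Cfsg.blockDefect 2 B := by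
  classical
  have := Fintype.ofFinite G
  have : Fact (Nat.Prime 2) := ⟨Nat.prime_two⟩
  have hH : ∀ g, g ∈ Subgroup.centralizer ({z} : Set G) ↔ Commute z g := fun g => by
    rw [Subgroup.mem_centralizer_singleton_iff]
    exact ⟨fun h => h.symm, fun h => h.eq.symm⟩
  have hDH : D ≤ Subgroup.centralizer ({z} : Set G) := fun x hx => (hH x).2 (hzc x hx).symm
  have hd : blockDefect 2 b = blockDefect 2 B :=
    Nat.pow_right_injective (le_refl 2) (by
      show 2 ^ blockDefect 2 b = 2 ^ blockDefect 2 B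
      rw [← card_defectGroup hM hb.1 hbD, ← card_defectGroup hM hB hD,
        Nat.card_congr (Subgroup.subgroupOfEquivOfLe hDH).toEquiv])
  have hu : ∃ k, orderOf z = 2 ^ k := by
    obtain ⟨k, hk⟩ := (BlockTheoryDefect.isPGroup_of_isDefectGroup hD) ⟨z, hzD⟩
    obtain ⟨i, -, hi⟩ := (Nat.dvd_prime_pow Nat.prime_two).1
      (orderOf_dvd_of_pow_eq_one (congrArg Subtype.val hk))
    exact ⟨i, hi⟩
  obtain ⟨m, hsum, hrow, hcong, hfour⟩ := BlockContribMatrix81.exists_diag hM hu hH hb
  set zH : Subgroup.centralizer ({z} : Set G) := ⟨z, (hH z).2 (Commute.refl z)⟩ with hzH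
  have hent := fun {χ ψ : IrrCharacter G} (hχ : χ ∈ B) (hψ : ψ ∈ B) =>
    BlockContribMatrix81.entry_major hM hu hH hb hd hχ hψ
  obtain ⟨χ₀, hχ₀, hχ₀0⟩ := exists_height_zero hM hB
  set Q : ℤ := 2 ^ blockDefect 2 B with hQ
  rw [hd, ← hQ] at hsum
  have hfull : ∀ χ ∈ members B, blockHeight 2 B (χ : G → ℂ) = 0 →
      m χ ^ 2 + ((Nat.card B : ℤ) - 1) ≤ Q * m χ ∧ ¬ (2 : ℤ) ∣ m χ := by
    intro χ hχ h0
    refine ⟨?_, fun hdvd => ?_⟩
    · have h3 := hrow χ hχ
      rw [hd, ← hQ] at h3
      have hsub : (members B).erase χ ⊆ (members B).filter fun ψ => ψ ≠ χ ∧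
          S4716.entry 2 zH b χ ψ ≠ 0 := fun ψ hψ => by
        obtain ⟨hne, hψB⟩ := Finset.mem_erase.1 hψ
        obtain ⟨s, -, hs, he⟩ := hent (mem_members.1 hχ) (mem_members.1 hψB)
        refine Finset.mem_filter.2 ⟨hψB, hne, ?_⟩
        rw [hzH, he]
        exact mul_ne_zero (pow_ne_zero _ (by norm_num)) fun e : s = 0 => hs.1 (by rw [e]; exact ideal_zero hM) h0
      have h1 := Finset.card_le_card hsub
      rw [Finset.card_erase_of_mem hχ] at h1
      have h2 : 0 < (members B).card := Finset.card_pos.2 ⟨χ, hχ⟩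
      rw [card_members]
      omega
    · obtain ⟨s, -, hs, he⟩ := hent (mem_members.1 hχ) (mem_members.1 hχ)
      rw [h0, pow_zero, one_mul] at he
      refine hs.1 ?_ h0
      rw [← he]
      simpa [hzH] using ideal_add hM (hcong χ) ((intCast_mem_iff hM (m χ)).2 hdvd)
  suffices hgoal : (Nat.card B : ℤ) ≤ Q by
    rw [hQ] at hgoal; exact_mod_cast hgoal
  by_cases hone : ∃ χ ∈ members B, blockHeight 2 B (χ : G → ℂ) = 0 ∧ (m χ = 1 ∨ m χ = Q - 1)
  · obtain ⟨χ, hχ, h0, hm⟩ := hone
    have h := (hfull χ hχ h0).1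
    rcases hm with hm | hm <;> rw [hm] at h <;> nlinarith
  push Not at hone
  have hQ0 : 0 < Q := pow_pos two_pos _
  have hk2 : (2 : ℤ) ≤ (Nat.card B : ℤ) ∨ Nat.card B ≤ 1 := by omega
  by_cases hk1 : Nat.card B ≤ 1
  · have : (1 : ℤ) ≤ Q := Int.add_one_le_iff.2 (pow_pos two_pos _)
    omega
  have hthree : ∀ χ ∈ members B, 3 ≤ Q - m χ := by
    intro χ hχ
    by_cases h0 : blockHeight 2 B (χ : G → ℂ) = 0
    · obtain ⟨h1, hodd⟩ := hfull χ hχ h0
      have h2 : m χ < Q := by
        by_contra hc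
        have := mul_le_mul_of_nonneg_right (not_lt.1 hc) ((hQ0.le).trans (not_lt.1 hc))
        nlinarith
      have h3 : 0 < m χ := by
        by_contra hc
        have := mul_nonpos_of_nonneg_of_nonpos hQ0.le (not_lt.1 hc)
        nlinarith [sq_nonneg (m χ)]
      have h4 : (2 : ℤ) ∣ Q := by
        rw [hQ]
        exact dvd_pow_self 2 fun hd0 => by rw [hd0, pow_zero] at hQ; omega
      have := hone χ hχ h0
      omega
    · have h3 := hrow χ hχ
      rw [hd, ← hQ] at h3
      have hne : χ₀ ≠ χ := fun e => h0 (e ▸ hχ₀0)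
      have hmem : χ₀ ∈ (members B).filter fun ψ => ψ ≠ χ ∧ S4716.entry 2 zH b χ ψ ≠ 0 := by
        refine Finset.mem_filter.2 ⟨mem_members.2 hχ₀, hne, fun h => ?_⟩
        obtain ⟨s, -, hs, he⟩ := hent hχ₀ (mem_members.1 hχ)
        have hsym : S4716.entry 2 zH b χ₀ χ = starRingEnd ℂ (S4716.entry 2 zH b χ χ₀) := by
          simp only [S4716.entry, map_sum, map_mul, map_natCast, map_intCast, Complex.conj_conj]
          rw [Finset.sum_comm]
          refine Finset.sum_congr rfl fun ξ hξ => Finset.sum_congr rfl fun η hη => ?_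
          rw [contrib_comm hM.1 (mem_members.1 hη) (mem_members.1 hξ)]
          ring
        rw [h, map_zero, hzH, he] at hsym
        exact mul_ne_zero (pow_ne_zero _ (by norm_num)) (fun e : s = 0 => hs.1 (by rw [e]; exact ideal_zero hM) hχ₀0) hsym
      have h1 := Finset.card_pos.2 ⟨χ₀, hmem⟩
      have h2 : m χ < Q := by
        by_contra hc
        have := mul_le_mul_of_nonneg_right (not_lt.1 hc) ((hQ0.le).trans (not_lt.1 hc))
        nlinarith
      have h5 : 0 < m χ := by
        by_contra hc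
        have := mul_nonpos_of_nonneg_of_nonpos hQ0.le (not_lt.1 hc)
        nlinarith [sq_nonneg (m χ)]
      obtain ⟨s, hsR, hs, he⟩ := hent (mem_members.1 hχ) (mem_members.1 hχ)
      have h4 : (4 : ℤ) ∣ m χ := by
        refine hfour χ ?_
        obtain ⟨n, hn⟩ := Nat.exists_eq_succ_of_ne_zero h0
        rw [he, hn, pow_succ]
        refine cast (congrArg (MemLocalIdeal M) ?_) (ideal_mul_left hM
          ((localRing hM).pow_mem (natCast_mem (localRing hM) 2) n) (hs.2 h0))
        push_cast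
        ring
      have h6 : (4 : ℤ) ∣ Q := by
        obtain ⟨c, hc⟩ := h4
        have hQ4 : (4 : ℤ) < Q := by omega
        have hd2 : 2 ≤ blockDefect 2 B := by
          by_contra hlt
          have : (2 : ℤ) ^ blockDefect 2 B ≤ 2 ^ 1 := pow_le_pow_right₀ (by norm_num) (by omega)
          rw [hQ] at hQ4
          omega
        rw [hQ, show (4 : ℤ) = 2 ^ 2 by norm_num]
        exact pow_dvd_pow (2 : ℤ) hd2
      omega
  have hsum3 := Finset.sum_le_sum hthree
  rw [Finset.sum_const, Finset.sum_sub_distrib, Finset.sum_const, hsum, nsmul_eq_mul,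
    nsmul_eq_mul, ← card_members] at hsum3
  have hh : (Nat.card B : ℤ) ≤ (blockRank 2 b : ℤ) + 3 := by exact_mod_cast h
  nlinarith

end Cfsg.Agent.S4575
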