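import Cfsg.Statements.S4580
import Mathlib
import Cfsg.Agent.Lib.PrincipalSylow80
import Cfsg.Agent.Lib.CharExtension
import Cfsg.Agent.Lib.CharExtensionCrit

set_option autoImplicit false
open Cfsg

namespace Cfsg.Agent.S4580


/-- Let N be a normal subgroup of the finite group G, M a maximal ideal of the algebraic integers containing 2, and θ a real-valued irreducible character of N of odd degree that extends to G (some irreducible character of G restricts to θ). Then θ has an extension to G lying in the principal 2-block of G. -/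
theorem result {G : Type*} [Group G] [Finite G] (N : Subgroup G) [N.Normal] (M : Ideal Cfsg.AlgInt) (hM : Cfsg.IsPModular 2 M) (θ : Cfsg.IrrCharacter N) (hreal : ∀ n : N, ((θ : N → ℂ) n).im = 0) (hodd : Odd (Cfsg.charDegree (θ : N → ℂ))) (hext : ∃ η : Cfsg.IrrCharacter G, ∀ n : N, (η : G → ℂ) n = (θ : N → ℂ) n) :
    ∃ η : Cfsg.IrrCharacter G, (∀ n : N, (η : G → ℂ) n = (θ : N → ℂ) n) ∧ η ∈ Cfsg.principalBlock M G := by
  classical
  haveI := Fintype.ofFinite G
  haveI : Fact (Nat.Prime 2) := ⟨Nat.prime_two⟩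
  obtain ⟨η, hη⟩ := hext
  have hηc := Cfsg.Agent.CharBasic.isCharacter_of_isIrrCharacter η.2
  have hinv : ∀ (g : G) (n : N), (θ : N → ℂ) ⟨g * n * g⁻¹, (inferInstance : N.Normal).conj_mem (n : G) n.2 g⟩ =
      (θ : N → ℂ) n := fun g n => by
    rw [← hη, ← hη]
    exact Cfsg.Agent.CharBasic.isClassFunction_of_isCharacter hηc _ _
  obtain ⟨d, ρ, -, hθ1, hρ, S, -, -⟩ := Cfsg.Agent.CharExtension.exists_setup θ.2 hinv
  obtain ⟨E, hE, hEN⟩ := Cfsg.Agent.CharExtension.char_to_ext N.subtype ρ hηc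
    (fun n => by rw [hρ]; exact hη n)
  obtain ⟨E', hE', hE'N⟩ := Cfsg.Agent.CharExtension.char_to_ext N.subtype ρ
    (Cfsg.Agent.CharBasicDecomp.isCharacter_conj hηc)
    (fun n => by
      rw [hρ]
      show (starRingEnd ℂ) ((η : G → ℂ) n) = _
      rw [hη]
      exact Complex.conj_eq_iff_im.2 (hreal n))
  obtain ⟨γ, hγN, hγ⟩ := Cfsg.Agent.CharExtension.exists_twist S hEN hE'N
  have hconj : ∀ g : G, (starRingEnd ℂ) ((η : G → ℂ) g) = (γ g : ℂ) * (η : G → ℂ) g := by
    intro g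
    have h1 := congrFun hE' g
    rw [← h1, ← congrFun hE g, Cfsg.Agent.CharExtension.chr_apply, Cfsg.Agent.CharExtension.chr_apply,
      hγ g, Units.val_mul, Cfsg.Agent.CharExtension.scal_val]
    rw [show ((E g : Cfsg.Agent.CharExtension.GU' d) : Module.End ℂ (Fin d → ℂ)) *
      ((γ g : ℂ) • LinearMap.id) = (γ g : ℂ) • ((E g : Cfsg.Agent.CharExtension.GU' d) : Module.End ℂ (Fin d → ℂ))
      from by ext v; simp, map_smul, smul_eq_mul]
  obtain ⟨e, o, ho, heo⟩ :=
    Nat.exists_eq_pow_mul_and_not_dvd (Nat.card_pos (α := G)).ne' 2 (by norm_num)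
  obtain ⟨r, hr⟩ := Nat.odd_iff.2 (Nat.two_dvd_ne_zero.1 ho)
  let lam : G →* ℂˣ := (powMonoidHom (r + 1)).comp γ
  let u : G →* ℂˣ := ((powMonoidHom o).comp γ)⁻¹
  let χ : Cfsg.IrrCharacter G := ⟨fun g => (lam g : ℂ) * (η : G → ℂ) g, by
    have := Cfsg.Agent.CharBasicDecomp.isIrrCharacter_mul_linear η.2 lam
    convert this using 1
    funext g
    first | rfl | exact mul_comm _ _⟩
  have hres : ∀ n : N, (χ : G → ℂ) n = (θ : N → ℂ) n := fun n => by
    show (lam n : ℂ) * (η : G → ℂ) n = _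
    rw [show lam n = 1 from by simp [lam, hγN n], Units.val_one, one_mul, hη]
  refine ⟨χ, hres, Cfsg.Agent.PrincipalSylow80.mem_principal_of_real hM χ ?_ ?_⟩
  · have h1 := hres 1
    have h2 : Cfsg.charDegree (χ : G → ℂ) = Cfsg.charDegree (θ : N → ℂ) := by
      simp only [Cfsg.charDegree]
      rw [← h1]
      rfl
    rw [h2]
    exact hodd
  have hconj' : ∀ g, (starRingEnd ℂ) ((χ : G → ℂ) g) = (u g : ℂ) * (χ : G → ℂ) g := by
    intro g
    show (starRingEnd ℂ) ((lam g : ℂ) * (η : G → ℂ) g) = (u g : ℂ) * ((lam g : ℂ) * (η : G → ℂ) g)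
    rw [map_mul, hconj, ← Complex.inv_eq_conj (Cfsg.Agent.CharBasicDecomp.norm_linear lam g),
      ← mul_assoc, ← mul_assoc, ← Units.val_inv_eq_inv_val, ← Units.val_mul, ← Units.val_mul]
    congr 2
    simp only [lam, u, MonoidHom.inv_apply, MonoidHom.coe_comp, Function.comp_apply,
      powMonoidHom_apply, hr]
    rw [eq_inv_mul_iff_mul_eq, mul_left_comm, inv_mul_eq_iff_eq_mul, ← pow_succ, ← pow_add]
    congr 1
    ring
  intro g
  obtain ⟨x, y, hxy, -, ⟨j, hj⟩, hy⟩ := Cfsg.Agent.BlockTheoryIdem.exists_pPart Nat.prime_two g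
  have hu1 : (u g : ℂ) = (u x : ℂ) := by
    have hy1 : u y = 1 := by
      have ha : u y ^ orderOf y = 1 := by rw [← map_pow, pow_orderOf_eq_one, map_one]
      have hb : u y ^ 2 ^ e = 1 := by
        simp only [u, MonoidHom.inv_apply, MonoidHom.coe_comp, Function.comp_apply,
          powMonoidHom_apply, inv_pow, inv_eq_one]
        rw [← pow_mul, mul_comm, ← heo, ← map_pow, pow_card_eq_one', map_one]
      have h1 := pow_gcd_eq_one.2 ⟨ha, hb⟩
      rwa [((Nat.prime_two.coprime_iff_not_dvd.2 hy).symm.pow_right e).gcd_eq_one, pow_one] at h1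
    rw [← hxy, map_mul, hy1, mul_one]
  have h0 := Cfsg.Agent.PrincipalSylow80.char_mul_congr hM
    (Cfsg.Agent.CharBasicDecomp.isCharacter_linear u) ⟨j, hj⟩ (Commute.one_right x)
  rw [mul_one, map_one, Units.val_one, ← hu1] at h0
  have h1 : (starRingEnd ℂ) ((χ : G → ℂ) 1) = (χ : G → ℂ) 1 := by
    rw [hconj' 1, map_one, Units.val_one, one_mul]
  have h2 : Cfsg.centralChar (χ : G → ℂ) g - Cfsg.centralChar (fun g => (starRingEnd ℂ) ((χ : G → ℂ) g)) g =
      Cfsg.centralChar (χ : G → ℂ) g * (-((u g : ℂ) - 1)) := by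
    simp only [Cfsg.centralChar, h1]
    rw [hconj']
    ring
  rw [h2]
  exact Cfsg.Agent.BlockTheoryLocalRing.ideal_mul_left hM
    (Cfsg.Agent.BlockTheoryLocalRing.of_isIntegral hM
      (Cfsg.Agent.BlockTheoryCentre.isIntegral_centralChar χ g))
    (Cfsg.Agent.BlockTheoryLocalRing.ideal_neg h0)

end Cfsg.Agent.S4580
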