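import Cfsg.Statements.S4581
import Mathlib
import Cfsg.Agent.Lib.RealOddMain30
import Cfsg.Agent.Lib.PGroupsBasic

set_option autoImplicit false
open Cfsg

namespace Cfsg.Agent.S4581
open Cfsg.Agent.CharBasic Cfsg.Agent.CharInduced Cfsg.Agent.RealOddChars30

universe w

attribute [local instance] fintypeOfFin

theorem oddDeg_iff {G : Type w} [Group G] {χ : G → ℂ} (hχ : Cfsg.IsIrrCharacter G χ) :
    OddDeg χ ↔ Odd (Cfsg.charDegree χ) := by
  obtain ⟨n, -, hn⟩ := isIrrCharacter_apply_one hχ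
  have h : Cfsg.charDegree χ = n := by simp [Cfsg.charDegree, hn]
  rw [h]
  refine ⟨?_, fun ho => ⟨n, ho, hn⟩⟩
  rintro ⟨k, hk, hk1⟩
  rwa [Nat.cast_injective (hn.symm.trans hk1)]

theorem realF_iff {G : Type w} [Group G] {χ : G → ℂ} : RealF χ ↔ ∀ g, (χ g).im = 0 :=
  forall_congr' fun g => Complex.conj_eq_iff_im

/-- the statement with no subgroup fixed -/
theorem concl_bot {G : Type w} [Group G] [Finite G] [Group.IsSolvable G] (P : Sylow 2 G) :
    Concl P ⊥ (1 : (⊥ : Subgroup G) →* ℂˣ) :=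
  concl _ P ⊥ 1 bot_le (fun u => one_pow _) (fun g => rfl) rfl

theorem good_bot {G : Type w} [Group G] [Finite G] {χ : G → ℂ} :
    Good ⊥ (1 : (⊥ : Subgroup G) →* ℂˣ) χ ↔
      Cfsg.IsIrrCharacter G χ ∧ OddDeg χ ∧ RealF χ :=
  ⟨fun h => ⟨h.1, h.2.1, h.2.2.1⟩, fun h => ⟨h.1, h.2.1, h.2.2, fun m => by
    rw [Subgroup.mem_bot.1 m.2]; simp⟩⟩

theorem ext_bot {G : Type w} [Group G] (P : Subgroup G) (lam : P →* ℂˣ) :
    Ext ⊥ (1 : (⊥ : Subgroup G) →* ℂˣ) P lam := fun m h => by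
  rw [show (⟨(m : G), h⟩ : P) = 1 from Subtype.ext (Subgroup.mem_bot.1 m.2), map_one]; rfl

theorem count {G : Type w} [Group G] [Finite G] [Group.IsSolvable G] (P : Sylow 2 G) :
    Nat.card {χ : Cfsg.IrrCharacter G // OddDeg (χ : G → ℂ) ∧ RealF (χ : G → ℂ)} =
      Nat.card {ψ : Cfsg.IrrCharacter (Subgroup.normalizer ((P : Subgroup G) : Set G)) //
        OddDeg (ψ : Subgroup.normalizer ((P : Subgroup G) : Set G) → ℂ) ∧
          RealF (ψ : Subgroup.normalizer ((P : Subgroup G) : Set G) → ℂ)} := by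
  classical
  set N := Subgroup.normalizer ((P : Subgroup G) : Set G) with hNdef
  have hPN : (P : Subgroup G) ≤ N := Subgroup.le_normalizer
  let P' : Sylow 2 N := P.subtype hPN
  let e : (P' : Subgroup N) ≃* (P : Subgroup G) := Subgroup.subgroupOfEquivOfLe hPN
  have hG := concl_bot P
  have hN := concl_bot P'
  let A := {χ : Cfsg.IrrCharacter G // OddDeg (χ : G → ℂ) ∧ RealF (χ : G → ℂ)}
  let B := {ψ : Cfsg.IrrCharacter N // OddDeg (ψ : N → ℂ) ∧ RealF (ψ : N → ℂ)}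
  let R : A → B → Prop := fun χ ψ => ∃ lam : (P : Subgroup G) →* ℂˣ, SqHom lam ∧
    OddMult P (χ.1 : G → ℂ) lam ∧ OddMult P' (ψ.1 : N → ℂ) (lam.comp e.toMonoidHom)
  have gA : ∀ χ : A, Good ⊥ (1 : (⊥ : Subgroup G) →* ℂˣ) (χ.1 : G → ℂ) :=
    fun χ => good_bot.2 ⟨χ.1.2, χ.2⟩
  have gB : ∀ ψ : B, Good ⊥ (1 : (⊥ : Subgroup N) →* ℂˣ) (ψ.1 : N → ℂ) :=
    fun ψ => good_bot.2 ⟨ψ.1.2, ψ.2⟩
  have htot : ∀ χ, ∃ ψ, R χ ψ := by
    intro χ
    obtain ⟨lam, hs, -, hm⟩ := hG.ex _ (gA χ)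
    obtain ⟨ψ, hg, hm'⟩ := hN.uniq (lam.comp e.toMonoidHom) (sqHom_comp _ hs) (ext_bot _ _)
    exact ⟨⟨⟨ψ, hg.1⟩, (good_bot.1 hg).2⟩, lam, hs, hm, hm'⟩
  have hsur : ∀ ψ, ∃ χ, R χ ψ := by
    intro ψ
    obtain ⟨lam', hs, -, hm⟩ := hN.ex _ (gB ψ)
    have hl : (lam'.comp e.symm.toMonoidHom).comp e.toMonoidHom = lam' :=
      MonoidHom.ext fun u => congrArg lam' (e.symm_apply_apply u)
    obtain ⟨χ, hg, hm'⟩ := hG.uniq (lam'.comp e.symm.toMonoidHom) (sqHom_comp _ hs) (ext_bot _ _)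
    refine ⟨⟨⟨χ, hg.1⟩, (good_bot.1 hg).2⟩, lam'.comp e.symm.toMonoidHom, sqHom_comp _ hs, hm', ?_⟩
    rw [hl]; exact hm
  have hfun : ∀ χ ψ ψ', R χ ψ → R χ ψ' → ψ = ψ' := by
    rintro χ ψ ψ' ⟨lam, hs, h1, h2⟩ ⟨mu, hs', h1', h2'⟩
    obtain ⟨g, hg, hrel⟩ := hG.fib _ (gA χ) lam mu hs hs' (ext_bot _ _) (ext_bot _ _) h1 h1'
    have hgn : (⟨g, hg⟩ : N) ∈ Subgroup.normalizer ((P' : Subgroup N) : Set N) := by
      refine Subgroup.mem_normalizer_iff.2 fun x => ?_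
      exact Subgroup.mem_normalizer_iff.1 hg (x : G)
    obtain ⟨nu, hnu, hmult⟩ :=
      exists_conj_hom (P' : Subgroup N) hgn (mu.comp e.toMonoidHom)
    have hnu' : nu = lam.comp e.toMonoidHom := by
      refine MonoidHom.ext fun v => ?_
      obtain ⟨u, hu⟩ : ∃ u : (P' : Subgroup N), (v : N) = ⟨g, hg⟩ * u * (⟨g, hg⟩ : N)⁻¹ :=
        ⟨⟨(⟨g, hg⟩ : N)⁻¹ * v * ⟨g, hg⟩, (Subgroup.mem_normalizer_iff''.1 hgn _).1 v.2⟩,
          by simp [mul_assoc]⟩
      rw [hnu u v hu]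
      exact hrel (e u) (e v) (congrArg Subtype.val hu)
    have h2'' : OddMult (P' : Subgroup N) (ψ'.1 : N → ℂ) (lam.comp e.toMonoidHom) := by
      rw [← hnu']
      simpa only [OddMult, hmult _ (isClassFunction_irr ψ'.1.2)] using h2'
    exact Subtype.ext (Subtype.ext (hN.inj _ _ (gB ψ) (gB ψ') _ (sqHom_comp _ hs) (ext_bot _ _)
      h2 h2''))
  have hinj : ∀ χ χ' ψ, R χ ψ → R χ' ψ → χ = χ' := by
    rintro χ χ' ψ ⟨lam, hs, h1, h2⟩ ⟨mu, hs', h1', h2'⟩
    obtain ⟨g, hg, hrel⟩ := hN.fib _ (gB ψ) _ _ (sqHom_comp _ hs) (sqHom_comp _ hs')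
      (ext_bot _ _) (ext_bot _ _) h2 h2'
    obtain ⟨nu, hnu, hmult⟩ := exists_conj_hom (P : Subgroup G) g.2 mu
    have hnu' : nu = lam := by
      refine MonoidHom.ext fun v => ?_
      obtain ⟨u, hu⟩ : ∃ u : (P : Subgroup G), (v : G) = g * u * (g : G)⁻¹ :=
        ⟨⟨(g : G)⁻¹ * v * g, (Subgroup.mem_normalizer_iff''.1 g.2 _).1 v.2⟩,
          by simp [mul_assoc]⟩
      rw [hnu u v hu]
      have := hrel (e.symm u) (e.symm v) (Subtype.ext hu)
      simpa using this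
    have h1'' : OddMult (P : Subgroup G) (χ'.1 : G → ℂ) lam := by
      rw [← hnu']
      simpa only [OddMult, hmult _ (isClassFunction_irr χ'.1.2)] using h1'
    exact Subtype.ext (Subtype.ext (hG.inj _ _ (gA χ) (gA χ') _ hs (ext_bot _ _) h1 h1''))
  choose f hf using htot
  refine Nat.card_congr (Equiv.ofBijective f ⟨fun a b h => ?_, fun ψ => ?_⟩)
  · exact hinj a b (f a) (hf a) (h ▸ hf b)
  · obtain ⟨χ, hχ⟩ := hsur ψ
    exact ⟨χ, hfun χ _ _ (hf χ) hχ⟩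

theorem all_sq_iff {P : Type w} [Group P] [Finite P] (hP : IsPGroup 2 P) :
    (∀ lam : P →* ℂˣ, SqHom lam) ↔ commutator P = frattini P := by
  refine ⟨fun h => le_antisymm (PGroupsBasic.commutator_le_frattini hP) ?_, fun h lam x => ?_⟩
  · refine PGroupsBasic.frattini_le_of_elementary_quotient (p := 2) le_rfl fun x => ?_
    by_contra hx
    have hx' : Abelianization.of (x ^ 2) ≠ 1 := by
      intro e
      apply hx
      exact (QuotientGroup.eq_one_iff _).1 e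
    obtain ⟨φ, hφ⟩ := CommGroup.exists_apply_ne_one_of_hasEnoughRootsOfUnity (Abelianization P) ℂ hx'
    refine hφ ?_
    rw [map_pow, map_pow]
    exact h (φ.comp Abelianization.of) x
  · have h1 : x ^ 2 ∈ commutator P := h ▸ PGroupsBasic.pow_mem_frattini hP x
    rw [← map_pow]
    exact Abelianization.commutator_subset_ker lam h1


/-- Let G be a finite solvable group, P a Sylow 2-subgroup and N its normalizer. Then G and N have the same number of real-valued irreducible characters of odd degree; and every odd-degree irreducible character of G is real-valued exactly when the derived subgroup of P equals the Frattini subgroup of P and P is its own normalizer in G. -/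
theorem result {G : Type*} [Group G] [Finite G] [Group.IsSolvable G] (P : Sylow 2 G) :
    Nat.card {χ : Cfsg.IrrCharacter G // (∀ g : G, ((χ : G → ℂ) g).im = 0) ∧ Odd (Cfsg.charDegree (χ : G → ℂ))} =
      Nat.card {ψ : Cfsg.IrrCharacter (Subgroup.normalizer ((P : Subgroup G) : Set G)) // (∀ g, ((ψ : Subgroup.normalizer ((P : Subgroup G) : Set G) → ℂ) g).im = 0) ∧ Odd (Cfsg.charDegree (ψ : Subgroup.normalizer ((P : Subgroup G) : Set G) → ℂ))} ∧
    ((∀ χ : Cfsg.IrrCharacter G, Odd (Cfsg.charDegree (χ : G → ℂ)) → ∀ g : G, ((χ : G → ℂ) g).im = 0) ↔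
      (commutator (P : Subgroup G) = frattini (P : Subgroup G) ∧ Subgroup.normalizer ((P : Subgroup G) : Set G) = (P : Subgroup G))) := by
  have hc := count P
  refine ⟨?_, ?_⟩
  · refine (Nat.card_congr (Equiv.subtypeEquivRight fun χ => ?_)).trans (hc.trans
      (Nat.card_congr (Equiv.subtypeEquivRight fun ψ => ?_)))
    · rw [oddDeg_iff χ.2, realF_iff, and_comm]
    · rw [oddDeg_iff ψ.2, realF_iff, and_comm]
  · rw [← all_sq_iff P.isPGroup']
    refine ⟨fun h => ?_, fun h χ ho g => ?_⟩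
    · have hall : ∀ χ, Cfsg.IsIrrCharacter G χ → OddDeg χ → RealF χ := fun χ hχ ho =>
        realF_iff.2 (h ⟨χ, hχ⟩ ((oddDeg_iff hχ).1 ho))
      have hN := normalizer_eq_self _ P hall rfl
      exact ⟨fun lam => ((concl_bot P).self hN).1 (fun χ hχ ho _ => hall χ hχ ho) lam
        (ext_bot _ _), hN⟩
    · refine realF_iff.1 (((concl_bot P).self h.2).2 (fun lam _ => h.1 lam) (χ : G → ℂ) χ.2
        ((oddDeg_iff χ.2).2 ho) fun m => ?_) g
      rw [Subgroup.mem_bot.1 m.2]; simp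

end Cfsg.Agent.S4581
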