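import Cfsg.Statements.S4582
import Mathlib

set_option autoImplicit false
open Cfsg

namespace Cfsg.Agent.S4582


/-- A finite group whose abelianization has odd order has no character of order two. -/
lemma hom_sq_trivial {N : Type*} [Group N] [Finite N] (hodd : Odd (Nat.card (Abelianization N)))
    (h : N →* ℂˣ) (h2 : ∀ n, h n ^ 2 = 1) (n : N) : h n = 1 := by
  have hc : Abelianization.of n ^ Nat.card (Abelianization N) = 1 := pow_card_eq_one'
  have h1 : h n ^ Nat.card (Abelianization N) = 1 := by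
    have := congrArg (Abelianization.lift h) hc
    rwa [map_pow, map_one, Abelianization.lift_apply_of] at this
  obtain ⟨m, hm⟩ := hodd
  rw [hm, pow_succ, pow_mul, h2, one_pow, one_mul] at h1
  exact h1

/-- The key step: if `ν` on `G` is trivial on `N`, and is a square of a character of a subgroup `P`
of odd index, then `ν = 1` on `P`. -/
lemma key {G : Type*} [Group G] [Finite G] (N : Subgroup G)
    (hodd : Odd (Nat.card (Abelianization N))) (P : Subgroup G) (hidx : Odd P.index)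
    (ν : G →* ℂˣ) (hN : ∀ n ∈ N, ν n = 1) (lam : P →* ℂˣ) (hl : ∀ y : P, lam y ^ 2 = ν y)
    (hνr : ∀ g : G, ∃ y : P, ν g = ν y)
    (hP : ∀ x ∈ P, x ^ 2 ∈ (P ⊓ N) ⊔ ⁅P, P⁆) : ∀ y : P, ν y = 1 := by
  classical
  let pr : G × ℂˣ →* ℂˣ := ν.comp (MonoidHom.fst G ℂˣ) /
    (powMonoidHom 2).comp (MonoidHom.snd G ℂˣ)
  let E : Subgroup (G × ℂˣ) := pr.ker
  have memE : ∀ g a, (g, a) ∈ E ↔ ν g = a ^ 2 := by
    intro g a
    simp [E, pr, MonoidHom.mem_ker, div_eq_one]
  let π : E →* G := (MonoidHom.fst G ℂˣ).comp E.subtype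
  have hπ : Function.Surjective π := by
    intro g
    obtain ⟨y, hy⟩ := hνr g
    exact ⟨⟨(g, lam y), (memE _ _).2 (by rw [hl, hy])⟩, rfl⟩
  let H : Subgroup E := P.comap π
  have hHi : H.index = P.index := Subgroup.index_comap_of_surjective _ hπ
  have hP0 : P.index ≠ 0 := Nat.ne_of_odd_add (n := 0) (by simpa using hidx)
  have : H.FiniteIndex := ⟨by rw [hHi]; exact hP0⟩
  let φ : H →* ℂˣ :=
    (MonoidHom.snd G ℂˣ).comp (E.subtype.comp H.subtype) /
      lam.comp (π.subgroupComap P)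
  have hφ : ∀ e : H, φ e ^ 2 = 1 := by
    intro e
    have h1 := (memE _ _).1 e.1.2
    have h2 := hl (π.subgroupComap P e)
    simp only [φ, MonoidHom.div_apply, MonoidHom.coe_comp, Function.comp_apply, div_pow, h2]
    exact div_eq_one.2 h1.symm
  let T : E →* ℂˣ := MonoidHom.transfer φ
  have hT : ∀ e, T e ^ 2 = 1 := by
    intro e
    rw [show T e = _ from MonoidHom.transfer_def φ default e]
    unfold Subgroup.leftTransversals.diff
    dsimp only
    rw [← Finset.prod_pow]
    exact Finset.prod_eq_one (fun q _ => hφ _)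
  let F : E →* ℂˣ := (MonoidHom.snd G ℂˣ).comp E.subtype * T
  have hz : ∀ a : ℂˣ, ∀ ha : a ^ 2 = 1,
      F ⟨(1, a), (memE _ _).2 (by rw [map_one, ha])⟩ = 1 := by
    intro a ha
    set z : E := ⟨(1, a), (memE _ _).2 (by rw [map_one, ha])⟩ with hzdef
    have hcent : ∀ e : E, e * z = z * e := by
      intro e
      apply Subtype.ext
      apply Prod.ext <;> simp [hzdef, mul_comm]
    have key0 : ∀ (k : ℕ) (g₀ : E), g₀⁻¹ * z ^ k * g₀ ∈ H → g₀⁻¹ * z ^ k * g₀ = z ^ k := by
      intro k g₀ _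
      have hck : g₀ * z ^ k = z ^ k * g₀ := (Commute.pow_right (hcent g₀) k)
      rw [mul_assoc, ← hck, inv_mul_cancel_left]
    have hTz : T z = a ^ P.index := by
      rw [show T z = _ from MonoidHom.transfer_eq_pow φ z key0]
      simp [φ, hzdef, π, hHi]
      exact (congrArg lam (Subtype.ext (show (1 : G) = 1 from rfl))).trans (map_one lam)
    obtain ⟨m, hm⟩ := hidx
    show a * T z = 1
    rw [hTz, hm, pow_succ, pow_mul, ha, one_pow, one_mul, ← sq, ha]
  have hFN : ∀ n : N, F ⟨((n : G), 1), (memE _ _).2 (by rw [hN _ n.2, one_pow])⟩ = 1 := by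
    intro n
    let i : N →* E :=
      ((MonoidHom.inl G ℂˣ).comp N.subtype).codRestrict E
        (fun m => (memE _ _).2 (by simpa using hN _ m.2))
    have := hom_sq_trivial hodd (T.comp i) (fun m => hT _) n
    show (1 : ℂˣ) * T _ = 1
    rw [one_mul]
    exact this
  let s : P →* E := (P.subtype.prod lam).codRestrict E (fun y => (memE _ _).2 (hl y).symm)
  let Fs : P →* ℂˣ := F.comp s
  have hFs : ∀ x, x ∈ (P ⊓ N) ⊔ ⁅P, P⁆ → ∀ hx : x ∈ P, Fs ⟨x, hx⟩ = 1 := by
    intro x hx
    have hle : (P ⊓ N) ⊔ ⁅P, P⁆ ≤ Fs.ker.map P.subtype := by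
      refine sup_le ?_ ?_
      · intro q hq
        refine ⟨⟨q, hq.1⟩, ?_, rfl⟩
        rw [SetLike.mem_coe, MonoidHom.mem_ker]
        have hq2 : lam ⟨q, hq.1⟩ ^ 2 = 1 := by rw [hl]; exact hN _ hq.2
        have e1 : s ⟨q, hq.1⟩ = (⟨(q, 1), (memE _ _).2 (by rw [hN _ hq.2, one_pow])⟩ : E) *
            ⟨(1, lam ⟨q, hq.1⟩), (memE _ _).2 (by rw [map_one, hq2])⟩ := by
          apply Subtype.ext
          exact Prod.ext (by simp [s]; rfl) (by simp [s]; rfl)
        show F (s _) = 1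
        rw [e1, map_mul, hFN ⟨q, hq.2⟩, hz _ hq2, one_mul]
      · rw [Subgroup.commutator_le]
        intro a ha b hb
        refine ⟨(⟨a, ha⟩ : P) * ⟨b, hb⟩ * (⟨a, ha⟩)⁻¹ * (⟨b, hb⟩)⁻¹, ?_, ?_⟩
        · rw [SetLike.mem_coe, MonoidHom.mem_ker]
          rw [map_mul, map_mul, map_mul, map_inv, map_inv, mul_inv_cancel_comm, mul_inv_cancel]
        · simp [commutatorElement_def]
    intro hxP
    obtain ⟨y, hy, hyx⟩ := hle hx
    have : y = ⟨x, hxP⟩ := Subtype.ext hyx
    exact this ▸ hy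
  intro y
  have h1 : Fs (y ^ 2) = 1 := hFs _ (hP _ y.2) (y ^ 2).2
  rw [map_pow] at h1
  have h2 : Fs y = lam y * T (s y) := rfl
  rw [h2, mul_pow, hT, mul_one, hl] at h1
  exact h1

/-- Let N be a normal subgroup of the finite group G, P a Sylow 2-subgroup of G and Q = P ∩ N. Suppose that P/QP' and Q/Q' are elementary abelian (every square of an element of P lies in the subgroup generated by Q and the derived subgroup of P, and every square of an element of Q lies in the derived subgroup of Q), and that the commutator factor group N/N' has odd order. Then P/P' is elementary abelian. -/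
theorem result {G : Type*} [Group G] [Finite G] (N : Subgroup G) [N.Normal] (P : Sylow 2 G)
    (hP : ∀ x ∈ (P : Subgroup G), x ^ 2 ∈ ((P : Subgroup G) ⊓ N) ⊔ ⁅(P : Subgroup G), (P : Subgroup G)⁆)
    (hQ : ∀ x ∈ (P : Subgroup G) ⊓ N, x ^ 2 ∈ ⁅(P : Subgroup G) ⊓ N, (P : Subgroup G) ⊓ N⁆)
    (hodd : Odd (Nat.card (Abelianization N))) :
    ∀ x ∈ (P : Subgroup G), x ^ 2 ∈ ⁅(P : Subgroup G), (P : Subgroup G)⁆ := by
  classical
  intro x hx
  set P0 : Subgroup G := (P : Subgroup G) with hP0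
  set D : Subgroup G := ⁅P0, P0⁆ with hD
  by_contra hxD
  let a : Abelianization P0 := Abelianization.of (⟨x, hx⟩ ^ 2)
  have hmap : ∀ y : P0, y ∈ commutator P0 → (y : G) ∈ D := by
    intro y hy
    have : (y : G) ∈ (commutator P0).map P0.subtype := ⟨y, hy, rfl⟩
    rwa [Subgroup.map_subtype_commutator] at this
  have ha : a ≠ 1 := by
    intro h
    apply hxD
    have h' : ((⟨x, hx⟩ : P0) ^ 2) ∈ commutator P0 := (QuotientGroup.eq_one_iff _).1 h
    simpa using hmap _ h'
  obtain ⟨φ, hφ⟩ := CommGroup.exists_apply_ne_one_of_hasEnoughRootsOfUnity (Abelianization P0) ℂ ha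
  let lam : P0 →* ℂˣ := φ.comp Abelianization.of
  have hlamD : ∀ y : P0, (y : G) ∈ D → lam y = 1 := by
    intro y hy
    rw [hD, ← Subgroup.map_subtype_commutator] at hy
    obtain ⟨z, hz, hzy⟩ := hy
    have hzy' : z = y := Subtype.ext hzy
    subst hzy'
    show φ (Abelianization.of z) = 1
    rw [show Abelianization.of z = 1 from (QuotientGroup.eq_one_iff _).2 hz, map_one]
  -- pass to the subgroup `N ⊔ P`
  set K : Subgroup G := N ⊔ P0 with hK
  let q : G →* G ⧸ N := QuotientGroup.mk' N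
  let r : P0 →* P0.map q := q.subgroupMap P0
  have hr : Function.Surjective r := q.subgroupMap_surjective P0
  let nu0 : P0 →* ℂˣ := (powMonoidHom 2).comp lam
  have hQD : ⁅P0 ⊓ N, P0 ⊓ N⁆ ≤ D := Subgroup.commutator_mono inf_le_left inf_le_left
  have hker : r.ker ≤ nu0.ker := by
    intro y hy
    have hyN : (y : G) ∈ N := by
      have h' := congrArg Subtype.val (MonoidHom.mem_ker.1 hy)
      exact (QuotientGroup.eq_one_iff _).1 h'
    rw [MonoidHom.mem_ker]
    show lam y ^ 2 = 1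
    rw [← map_pow]
    exact hlamD _ (hQD (hQ _ ⟨y.2, hyN⟩))
  let nubar : P0.map q →* ℂˣ := r.liftOfSurjective hr ⟨nu0, hker⟩
  have hnubar : ∀ y : P0, nubar (r y) = lam y ^ 2 := fun y =>
    MonoidHom.liftOfRightInverse_comp_apply r _ (Function.rightInverse_surjInv hr) ⟨nu0, hker⟩ y
  have hKmap : K ≤ (P0.map q).comap q := by
    rw [hK, sup_le_iff]
    refine ⟨fun n hn => ?_, Subgroup.le_comap_map _ _⟩
    rw [Subgroup.mem_comap, show q n = 1 from (QuotientGroup.eq_one_iff _).2 hn]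
    exact one_mem _
  let ν : K →* ℂˣ := nubar.comp ((q.comp K.subtype).codRestrict (P0.map q) (fun k => hKmap k.2))
  have hNK : N ≤ K := le_sup_left
  have hPK : P0 ≤ K := le_sup_right
  let P' : Subgroup K := P0.subgroupOf K
  let e : P' ≃* P0 := Subgroup.subgroupOfEquivOfLe hPK
  let lam' : P' →* ℂˣ := lam.comp e.toMonoidHom
  have hν : ∀ y : P', ν y = lam' y ^ 2 := by
    intro y
    show nubar _ = lam (e y) ^ 2
    rw [← hnubar]
    rfl
  let N' : Subgroup K := N.subgroupOf K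
  have hidx : Odd P'.index := by
    have h1 : ¬ 2 ∣ P0.index := Sylow.not_dvd_index P
    have h2 : P'.index ∣ P0.index := Dvd.intro _ (Subgroup.relIndex_mul_index hPK)
    exact Nat.odd_iff.2 (Nat.two_dvd_ne_zero.1 (fun h => h1 (h.trans h2)))
  have hodd' : Odd (Nat.card (Abelianization N')) := by
    have e' : N' ≃* N := Subgroup.subgroupOfEquivOfLe hNK
    rwa [Nat.card_congr e'.abelianizationCongr.toEquiv]
  have hmapP : P'.map K.subtype = P0 := Subgroup.map_subgroupOf_eq_of_le hPK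
  have hmapN : N'.map K.subtype = N := Subgroup.map_subgroupOf_eq_of_le hNK
  have hP' : ∀ z ∈ P', z ^ 2 ∈ (P' ⊓ N') ⊔ ⁅P', P'⁆ := by
    intro z hz
    have hz' : (z : G) ^ 2 ∈ ((P' ⊓ N') ⊔ ⁅P', P'⁆).map K.subtype := by
      rw [Subgroup.map_sup, Subgroup.map_inf _ _ _ K.subtype_injective, Subgroup.map_commutator,
        hmapP, hmapN]
      exact hP _ hz
    obtain ⟨w, hw, hwz⟩ := hz'
    have : w = z ^ 2 := Subtype.ext (by simpa using hwz)
    exact this ▸ hw
  have hνN : ∀ n ∈ N', ν n = 1 := by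
    intro n hn
    show nubar _ = 1
    convert map_one nubar
    exact Subtype.ext ((QuotientGroup.eq_one_iff _).2 hn)
  have hνr : ∀ g : K, ∃ y : P', ν g = ν y := by
    intro g
    obtain ⟨y, hy, hyq⟩ := hKmap g.2
    refine ⟨⟨⟨y, hPK hy⟩, hy⟩, ?_⟩
    show nubar _ = nubar _
    congr 1
    exact Subtype.ext hyq.symm
  have := key N' hodd' P' hidx ν hνN lam' (fun y => (hν y).symm) hνr hP' (e.symm ⟨x, hx⟩)
  rw [hν] at this
  apply hφ
  have h2 : φ a = lam ⟨x, hx⟩ ^ 2 := by
    simp [a, lam]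
  rw [h2]
  simpa [lam'] using this


end Cfsg.Agent.S4582
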