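import Cfsg.Statements.S4583
import Cfsg.Agent.Lib.PrincipalCentral80
import Cfsg.Agent.Lib.FullyRamified80

set_option autoImplicit false
open Cfsg

namespace Cfsg.Agent.S4583

universe u

open BlockTheoryLocalRing BlockTheoryCentre BlockTheoryIdem CharBasic CharBasicOrth CharBasicDecomp
  PrincipalSylow80 in
open scoped ComplexConjugate in
theorem exists_over {G : Type u} [Group G] [Fintype G] (N : Subgroup G) [N.Normal] [Fintype N]
    {p : ℕ} [hp : Fact p.Prime] {M : Ideal Cfsg.AlgInt} (hM : Cfsg.IsPModular p M) (P : Sylow p G)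
    (S : Subgroup G) (hS : S = N ⊔ (P : Subgroup G)) [Fintype S] (hNS : N ≤ S)
    (hPS : (P : Subgroup G) ≤ S)
    (θ : Cfsg.IrrCharacter N) (hθ : θ ∈ Cfsg.principalBlock M N)
    (hdeg : ¬ p ∣ Cfsg.charDegree (θ : N → ℂ))
    (η : Cfsg.IrrCharacter S)
    (hη : ∀ n : N, (η : S → ℂ) (Subgroup.inclusion hNS n) = (θ : N → ℂ) n) :
    ∃ χ : Cfsg.IrrCharacter G, χ ∈ Cfsg.principalBlock M G ∧ ¬ p ∣ Cfsg.charDegree (χ : G → ℂ) ∧
      Cfsg.classInner (fun n : N => (χ : G → ℂ) n) (θ : N → ℂ) ≠ 0 := by
  classical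
  have hB : IsPBlock M (principalBlock M G) := PrincipalSylow80.isPBlock_principal
  set e0 := blockCoeff (principalBlock M G)
  choose m hm using fun χ : IrrCharacter G => classInner_isCharacter
    (CharInduced.isCharacter_res S (isCharacter_of_isIrrCharacter χ.2))
    (isCharacter_of_isIrrCharacter η.2)
  have hregN : ∀ x : G, x ∈ S → ¬ p ∣ orderOf x → x ∈ N := by
    intro x hx hreg
    rw [hS] at hx
    obtain ⟨a, ha, s, hs, rfl⟩ := Subgroup.mem_sup_of_normal_left.1 hx
    obtain ⟨j, hj⟩ := (IsPGroup.iff_orderOf.1 P.2) ⟨s, hs⟩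
    rw [Subgroup.orderOf_mk] at hj
    rw [← QuotientGroup.eq_one_iff, ← orderOf_eq_one_iff]
    have h1 : orderOf ((a * s : G) : G ⧸ N) ∣ p ^ j := by
      rw [QuotientGroup.mk_mul, (QuotientGroup.eq_one_iff a).2 ha, one_mul, ← hj]
      exact orderOf_map_dvd (QuotientGroup.mk' N) s
    refine Nat.eq_one_of_dvd_coprimes ?_ h1 (orderOf_map_dvd (QuotientGroup.mk' N) (a * s))
    exact (hp.out.coprime_iff_not_dvd.2 hreg).pow_left j
  -- the congruence for the degree of the principal part of the induced character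
  let W : G → ℂ := fun x => if hx : x ∈ S then η.1 ⟨x, hx⟩ * e0 x else 0
  have hWloc : ∀ x, MemLocalRing M (W x) := fun x => by
    simp only [W]
    split_ifs
    · exact (localRing hM).mul_mem (irr_local hM η _) (blockCoeff_mem hM hB x)
    · exact (localRing hM).zero_mem
  have hWinv : ∀ h ∈ (P : Subgroup G), ∀ x, W (h * x * h⁻¹) = W x := by
    intro h hh x
    have hhS : h ∈ S := hPS hh
    by_cases hx : x ∈ S
    · have hx' : h * x * h⁻¹ ∈ S := S.mul_mem (S.mul_mem hhS hx) (S.inv_mem hhS)
      simp only [W, dif_pos hx, dif_pos hx']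
      congr 1
      · exact CharInduced.isClassFunction_irr η.2 ⟨x, hx⟩ ⟨h, hhS⟩
      · exact isCen_idem (principalBlock M G) x h
    · have hx' : h * x * h⁻¹ ∉ S := fun h' => hx (by
        simpa [mul_assoc] using S.mul_mem (S.mul_mem (S.inv_mem hhS) h') hhS)
      simp only [W, dif_neg hx, dif_neg hx']
  have hA := sum_centralizer_congr P hM W hWinv hWloc
  set R : Finset (Cz P) := Finset.univ.filter fun c => (c : G) ∈ N ∧ ¬ p ∣ orderOf (c : G) with hR
  have hB' : MemLocalIdeal M (∑ c : Cz P, W c - ∑ _c ∈ R, θ.1 1 * (Nat.card (Q P) : ℂ)⁻¹) := by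
    rw [hR, Finset.sum_filter, ← Finset.sum_sub_distrib]
    refine ideal_sum hM fun c _ => ?_
    by_cases hc : (c : G) ∈ N ∧ ¬ p ∣ orderOf (c : G)
    · rw [if_pos hc]
      have hcS : (c : G) ∈ S := hNS hc.1
      simp only [W, dif_pos hcS]
      have h1 : η.1 ⟨(c : G), hcS⟩ = θ.1 ⟨(c : G), hc.1⟩ := hη ⟨(c : G), hc.1⟩
      have hidx : ¬ p ∣ (Subgroup.centralizer ({⟨(c : G), hc.1⟩} : Set N)).index := by
        intro hd
        have hle : (P : Subgroup G).subgroupOf N ≤
            Subgroup.centralizer ({⟨(c : G), hc.1⟩} : Set N) := by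
          intro u hu
          rw [Subgroup.mem_centralizer_iff]
          rintro _ rfl
          exact Subtype.ext ((mem_Cz P).1 c.2 _ (Subgroup.mem_subgroupOf.1 hu)).symm
        exact P.not_dvd_index ((hd.trans (Subgroup.index_dvd_of_le hle)).trans
          (FullyRamified80.relIndex_dvd_index_right (P : Subgroup G) N))
      have h2 := PrincipalCentral80.apply_congr_degree hM hθ hidx
      have h3 := PrincipalCentral80.blockCoeff_congr P hM (c := c) hc.2
      rw [h1]
      have h4 := ideal_add hM (ideal_mul_right hM h2 (blockCoeff_mem hM hB (c : G)))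
        (ideal_mul_left hM (irr_local hM θ 1) h3)
      convert h4 using 1
      ring
    · rw [if_neg hc, sub_zero]
      by_cases hcS : (c : G) ∈ S
      · simp only [W, dif_pos hcS]
        rw [show e0 (c : G) = 0 from blockCoeff_eq_zero_of_dvd hM hB (by
          by_contra hreg
          exact hc ⟨hregN _ hcS hreg, hreg⟩), mul_zero]
        exact ideal_zero hM
      · simp only [W, dif_neg hcS]
        exact ideal_zero hM
  have hsumW : (((∑ χ : IrrCharacter G,
      if χ ∈ principalBlock M G then m χ * charDegree (χ : G → ℂ) else 0 : ℕ)) : ℂ) =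
      (S.index : ℂ) * ∑ x : G, W x := by
    have h1 : ∑ x : G, W x = ∑ x : S, η.1 x * e0 (x : G) := by
      rw [show (∑ x : S, η.1 x * e0 (x : G)) = ∑ x : S, W (x : G) from
        Finset.sum_congr rfl fun x _ => by simp [W, x.2],
        ← Finset.sum_subtype (Finset.univ.filter fun x => x ∈ S) (p := fun x => x ∈ S) (by simp) W,
        Finset.sum_filter]
      refine Finset.sum_congr rfl fun x _ => ?_
      by_cases hx : x ∈ S
      · rw [if_pos hx]
      · rw [if_neg hx]; simp [W, hx]
    rw [h1, Nat.cast_sum, Finset.mul_sum]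
    simp only [e0, blockCoeff_eq_sum, Finset.mul_sum]
    rw [Finset.sum_comm]
    refine Finset.sum_congr rfl fun χ _ => ?_
    split_ifs
    · have hS0 : (S.index : ℂ) ≠ 0 := Nat.cast_ne_zero.2 Subgroup.index_ne_zero_of_finite
      have hcS : (Nat.card S : ℂ) ≠ 0 := Nat.cast_ne_zero.2 Nat.card_pos.ne'
      rw [Nat.cast_mul, ← irr_charDegree χ, ← hm χ,
        CharInduced.classInner_comm_of_isCharacter
          (CharInduced.isCharacter_res S (isCharacter_of_isIrrCharacter χ.2))
          (isCharacter_of_isIrrCharacter η.2),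
        classInner, Finset.mul_sum, Finset.sum_mul, ← S.card_mul_index, Nat.cast_mul]
      refine Finset.sum_congr rfl fun x _ => ?_
      field_simp
    · simp
  have hRcard : ¬ p ∣ R.card := by
    intro hd
    let N' : Subgroup (Cz P) := N.subgroupOf (Cz P)
    have hbij : R.card = Nat.card (N'.map (QuotientGroup.mk' (Zc P))) := by
      rw [← Fintype.card_coe, ← Nat.card_eq_fintype_card]
      refine Nat.card_congr (Equiv.ofBijective
        (fun c : R => ⟨((c : Cz P) : Q P), (c : Cz P),
          Subgroup.mem_subgroupOf.2 (Finset.mem_filter.1 c.2).2.1, rfl⟩) ⟨?_, ?_⟩)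
      · intro a b hab
        exact Subtype.ext (reg_unique P (congrArg Subtype.val hab)
          (Finset.mem_filter.1 a.2).2.2 (Finset.mem_filter.1 b.2).2.2)
      · rintro ⟨q, c, hc, rfl⟩
        obtain ⟨c', hc', hreg⟩ := exists_reg P (c : Q P)
        have hcN : (c' : G) ∈ N := by
          refine hregN _ ?_ hreg
          have hu : c⁻¹ * c' ∈ Zc P := QuotientGroup.eq.1 hc'.symm
          have : (c : G) * ((c⁻¹ * c' : Cz P) : G) ∈ S :=
            S.mul_mem (hNS (Subgroup.mem_subgroupOf.1 hc))
              (hPS (Subgroup.mem_subgroupOf.1 hu))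
          simpa using this
        exact ⟨⟨c', Finset.mem_filter.2 ⟨Finset.mem_univ _, hcN, hreg⟩⟩, Subtype.ext hc'⟩
    rw [hbij] at hd
    exact not_dvd_card_Q P (hd.trans (Subgroup.card_subgroup_dvd_card _))
  have hnot : ¬ p ∣ ∑ χ : IrrCharacter G,
      if χ ∈ principalBlock M G then m χ * charDegree (χ : G → ℂ) else 0 := by
    intro hd
    have h1 := (natCast_mem_iff hM).2 hd
    rw [hsumW] at h1
    have hidx : ¬ p ∣ S.index := fun h =>
      P.not_dvd_index (h.trans (Subgroup.index_dvd_of_le hPS))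
    have h2 := ideal_mul_left hM (inv_natCast_mem hM hidx) h1
    rw [← mul_assoc, inv_mul_cancel₀ (Nat.cast_ne_zero.2 Subgroup.index_ne_zero_of_finite),
      one_mul] at h2
    have h3 := ideal_sub hM (ideal_sub hM h2 hA) hB'
    rw [Finset.sum_const, nsmul_eq_mul] at h3
    ring_nf at h3
    obtain ⟨d, hd0, hd1⟩ := isIrrCharacter_apply_one θ.2
    have hdθ : charDegree (θ : N → ℂ) = d := by simp [charDegree, hd1]
    have h4 := ideal_mul_left hM (natCast_mem (localRing hM) (Nat.card (Q P)) : MemLocalRing M _) h3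
    have hQ0 : (Nat.card (Q P) : ℂ) ≠ 0 := Nat.cast_ne_zero.2 Nat.card_pos.ne'
    rw [hd1] at h4
    have h5 : MemLocalIdeal M ((R.card * d : ℕ) : ℂ) := by
      convert h4 using 1
      push_cast
      field_simp
    exact (Nat.Prime.not_dvd_mul hp.out hRcard (hdθ ▸ hdeg)) ((natCast_mem_iff hM).1 h5)
  obtain ⟨χ, -, hχ⟩ : ∃ χ ∈ (Finset.univ : Finset (IrrCharacter G)),
      ¬ p ∣ if χ ∈ principalBlock M G then m χ * charDegree (χ : G → ℂ) else 0 := by
    by_contra hcon
    push Not at hcon
    exact hnot (Finset.dvd_sum fun χ hχ => hcon χ hχ)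
  split_ifs at hχ with hmem
  · refine ⟨χ, hmem, fun h => hχ (dvd_mul_of_dvd_right h _), ?_⟩
    refine FullyRamified80.res_constituent (Subgroup.inclusion hNS)
      (CharInduced.isCharacter_res S (isCharacter_of_isIrrCharacter χ.2)) η.2
      (by rw [hm χ]; exact Nat.cast_ne_zero.2 fun h => hχ (by simp [h]))
      (isCharacter_of_isIrrCharacter θ.2) ?_
    rw [show (η : S → ℂ) ∘ Subgroup.inclusion hNS = θ.1 from funext hη,
      classInner_irr_self θ.2]
    exact one_ne_zero
  · exact absurd (dvd_zero p) hχ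


/-- Let N be a normal subgroup of the finite group G, p a prime, M a maximal ideal of the algebraic integers containing p, and P a Sylow p-subgroup of G. Let θ be an irreducible character of N of degree prime to p lying in the principal p-block of N, and suppose θ extends to the subgroup NP (some irreducible character of NP restricts to θ). Then some irreducible character χ of G of degree prime to p in the principal p-block of G lies over θ (θ is a constituent of the restriction of χ to N). -/
theorem result {G : Type*} [Group G] [Finite G] (N : Subgroup G) [N.Normal] (p : ℕ) [Fact p.Prime] (M : Ideal Cfsg.AlgInt) (hM : Cfsg.IsPModular p M) (P : Sylow p G)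
    (θ : Cfsg.IrrCharacter N) (hθ : θ ∈ Cfsg.principalBlock M N) (hdeg : ¬ p ∣ Cfsg.charDegree (θ : N → ℂ))
    (hext : ∃ η : Cfsg.IrrCharacter ↥(N ⊔ (P : Subgroup G)), ∀ n : N, (η : ↥(N ⊔ (P : Subgroup G)) → ℂ) (Subgroup.inclusion le_sup_left n) = (θ : N → ℂ) n) :
    ∃ χ : Cfsg.IrrCharacter G, χ ∈ Cfsg.principalBlock M G ∧ ¬ p ∣ Cfsg.charDegree (χ : G → ℂ) ∧
      haveI := Fintype.ofFinite N; Cfsg.classInner (fun n : N => (χ : G → ℂ) n) (θ : N → ℂ) ≠ 0 := by
  classical
  haveI : Fintype G := Fintype.ofFinite G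
  haveI := Fintype.ofFinite ↥(N ⊔ (P : Subgroup G))
  obtain ⟨η, hη⟩ := hext
  obtain ⟨χ, h1, h2, h3⟩ := @exists_over G _ _ N _ (Fintype.ofFinite N) p _ M hM P _ rfl _ le_sup_left
    le_sup_right θ hθ hdeg η hη
  exact ⟨χ, h1, h2, h3⟩

end Cfsg.Agent.S4583
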