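import Cfsg.Statements.S4587
import Cfsg.Agent.Lib.SylowAbelianizationSq

set_option autoImplicit false
open Cfsg
open scoped commutatorElement

namespace Cfsg.Agent.S4587

/-- Let G be a finite group, p a prime and P a Sylow p-subgroup of order at least p². Assume that G has no nontrivial normal subgroup of order prime to p, that the derived subgroup P' of P contains no nontrivial normal subgroup of G, and that G is not almost simple (there is no non-abelian simple normal subgroup of G with trivial centralizer). Then [P : P'] = p² if and only if some p-element x of G has centralizer whose order has p-part exactly p². -/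
theorem result {G : Type*} [Group G] [Finite G] (p : ℕ) [Fact p.Prime] (P : Sylow p G) (hbig : p ^ 2 ∣ Nat.card G) (hcore : Cfsg.pPrimeCore p G = ⊥)
    (hcore' : (⁅(P : Subgroup G), (P : Subgroup G)⁆).normalCore = ⊥) (hnas : ¬ ∃ S : Subgroup G, S.Normal ∧ IsSimpleGroup S ∧ ¬ IsMulCommutative S ∧ Subgroup.centralizer (S : Set G) = ⊥) :
    (⁅(P : Subgroup G), (P : Subgroup G)⁆).relIndex (P : Subgroup G) = p ^ 2 ↔
      ∃ x : G, (∃ k : ℕ, orderOf x = p ^ k) ∧ (Nat.card (Subgroup.centralizer ({x} : Set G))).factorization p = 2 := by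
  have hp : p.Prime := Fact.out
  have key : ∀ C : Subgroup G, ∀ S : Sylow p C, Nat.card (S : Subgroup C) = p ^ 2 ↔
      (Nat.card C).factorization p = 2 := fun C S => by
    rw [S.card_eq_multiplicity]
    exact ⟨fun h => Nat.pow_right_injective hp.two_le h, fun h => by rw [h]⟩
  have hP2 : p ^ 2 ∣ Nat.card (P : Subgroup G) := by
    rw [P.card_eq_multiplicity]
    exact Nat.pow_dvd_pow p ((hp.pow_dvd_iff_le_factorization Nat.card_pos.ne').1 hbig)
  constructor
  · intro hidx
    by_cases hcard : Nat.card (P : Subgroup G) = p ^ 2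
    · refine ⟨1, ⟨0, by rw [orderOf_one, pow_zero]⟩, ?_⟩
      have hC : Subgroup.centralizer ({(1 : G)} : Set G) = ⊤ :=
        top_le_iff.1 fun g _ => Subgroup.mem_centralizer_singleton_iff.2 (by simp)
      rw [hC, Subgroup.card_top]
      rw [P.card_eq_multiplicity] at hcard
      exact Nat.pow_right_injective hp.two_le hcard
    obtain ⟨N, hN, hNi, hab⟩ :=
      SylowAbelianizationSq.exists_abelian P hcore hcore' hnas hidx hcard
    haveI := hN
    obtain ⟨y, hyP, hyN⟩ : ∃ y ∈ (P : Subgroup G), y ∉ N := by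
      by_contra hall
      push Not at hall
      rw [Subgroup.relIndex_eq_one.2 hall] at hNi
      exact hp.one_lt.ne hNi
    obtain ⟨k, hk⟩ := IsPGroup.iff_orderOf.1 P.isPGroup' ⟨y, hyP⟩
    refine ⟨y, ⟨k, by rwa [Subgroup.orderOf_mk] at hk⟩, ?_⟩
    set C := Subgroup.centralizer ({y} : Set G) with hC
    have hzle : Subgroup.zpowers y ≤ C := Subgroup.zpowers_le.2 (Subgroup.mem_centralizer_singleton_iff.2 rfl)
    obtain ⟨S, hS⟩ := (((P.isPGroup'.to_le (Subgroup.zpowers_le.2 hyP)).comap_of_injective
      C.subtype C.subtype_injective)).exists_le_sylow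
    rw [← key C S]
    obtain ⟨T, hT⟩ := (S.isPGroup'.map C.subtype).exists_le_sylow
    obtain ⟨g, hg⟩ := MulAction.exists_smul_eq G T P
    have hmem : ∀ z ∈ (S : Subgroup C).map C.subtype, g * z * g⁻¹ ∈ (P : Subgroup G) := fun z hz => by
      rw [← hg, Sylow.coe_subgroup_smul]
      exact ⟨z, hT hz, rfl⟩
    have hyS : y ∈ (S : Subgroup C).map C.subtype :=
      ⟨⟨y, hzle (Subgroup.mem_zpowers y)⟩, hS (Subgroup.mem_zpowers y), rfl⟩
    have hy' := hmem y hyS
    have hy'N : g * y * g⁻¹ ∉ N := fun h => hyN (by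
      simpa [mul_assoc] using hN.conj_mem _ h g⁻¹)
    have h1 := SylowAbelianizationSq.card_centralizer_eq P hNi hab hidx hy' hy'N
    have h2 := SylowAbelianizationSq.card_centralizer_eq P hNi hab hidx hyP hyN
    refine le_antisymm ?_ ?_
    · rw [← h1, ← Subgroup.card_map_of_injective C.subtype_injective,
        ← Subgroup.card_map_of_injective (f := (MulAut.conj g).toMonoidHom) (MulAut.conj g).injective]
      refine Subgroup.card_le_of_le ?_
      rintro _ ⟨z, hz, rfl⟩
      refine ⟨hmem z hz, Subgroup.mem_centralizer_singleton_iff.2 ?_⟩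
      have hzy := Subgroup.mem_centralizer_singleton_iff.1 (Subgroup.map_subtype_le _ hz)
      simp only [MulEquiv.coe_toMonoidHom, MulAut.conj_apply]
      calc g * z * g⁻¹ * (g * y * g⁻¹) = g * (z * y) * g⁻¹ := by group
        _ = g * (y * z) * g⁻¹ := by rw [hzy]
        _ = g * y * g⁻¹ * (g * z * g⁻¹) := by group
    · rw [← h2]
      have hp' : IsPGroup p ↥(((P : Subgroup G) ⊓ C).subgroupOf C) :=
        (P.isPGroup'.to_le inf_le_left).comap_of_injective _ C.subtype_injective
      obtain ⟨S', hS'⟩ := hp'.exists_le_sylow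
      rw [← Nat.card_congr (Subgroup.subgroupOfEquivOfLe (inf_le_right : (P : Subgroup G) ⊓ C ≤ C)).toEquiv,
        S.card_eq_multiplicity, ← S'.card_eq_multiplicity]
      exact Subgroup.card_le_of_le hS'
  · rintro ⟨x, ⟨k, hk⟩, hx⟩
    set C := Subgroup.centralizer ({x} : Set G) with hC
    have hxC : x ∈ C := Subgroup.mem_centralizer_singleton_iff.2 rfl
    obtain ⟨S, hS⟩ := (IsPGroup.of_card (p := p) (n := k) (G := Subgroup.zpowers (⟨x, hxC⟩ : C))
      (by rw [Nat.card_zpowers, Subgroup.orderOf_mk, hk])).exists_le_sylow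
    obtain ⟨T, hT⟩ := (S.isPGroup'.map C.subtype).exists_le_sylow
    obtain ⟨g, hg⟩ := MulAction.exists_smul_eq G T P
    have hmem : ∀ z ∈ (S : Subgroup C).map C.subtype, g * z * g⁻¹ ∈ (P : Subgroup G) := fun z hz => by
      rw [← hg, Sylow.coe_subgroup_smul]
      exact ⟨z, hT hz, rfl⟩
    have hy : g * x * g⁻¹ ∈ (P : Subgroup G) :=
      hmem x ⟨⟨x, hxC⟩, hS (Subgroup.mem_zpowers _), rfl⟩
    set y : (P : Subgroup G) := ⟨g * x * g⁻¹, hy⟩ with hydef
    -- the centralizer of `y` in `P` has order at most `p ^ 2`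
    have hle : Nat.card (Subgroup.centralizer ({y} : Set (P : Subgroup G))) ≤ p ^ 2 := by
      set D := (Subgroup.centralizer ({y} : Set (P : Subgroup G))).map
        ((MulAut.conj g⁻¹).toMonoidHom.comp (P : Subgroup G).subtype) with hD
      have hDC : D ≤ C := by
        rintro _ ⟨w, hw, rfl⟩
        refine Subgroup.mem_centralizer_singleton_iff.2 ?_
        have hwy := congrArg Subtype.val (Subgroup.mem_centralizer_singleton_iff.1 hw)
        simp only [hydef, Subgroup.coe_mul] at hwy
        simp only [MonoidHom.coe_comp, Subgroup.coe_subtype, Function.comp_apply,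
          MulEquiv.coe_toMonoidHom, MulAut.conj_apply, inv_inv]
        calc g⁻¹ * (w : G) * g * x = g⁻¹ * ((w : G) * (g * x * g⁻¹)) * g := by group
          _ = g⁻¹ * (g * x * g⁻¹ * (w : G)) * g := by rw [hwy]
          _ = x * (g⁻¹ * (w : G) * g) := by group
      have hDp : IsPGroup p ↥D := (P.isPGroup'.to_subgroup _).map _
      obtain ⟨S', hS'⟩ := (hDp.comap_of_injective C.subtype C.subtype_injective).exists_le_sylow
      have h1 := Subgroup.card_le_of_le hS'
      rw [(key C S').2 hx] at h1
      refine le_trans ?_ h1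
      refine le_of_eq ?_
      show _ = Nat.card (D.subgroupOf C)
      rw [Nat.card_congr (Subgroup.subgroupOfEquivOfLe hDC).toEquiv, hD,
        Subgroup.card_map_of_injective ((MulAut.conj g⁻¹).injective.comp (P : Subgroup G).subtype_injective)]
    -- the conjugacy class of `y` lies in `y P'`
    set P' := commutator (P : Subgroup G) with hP'
    have hcls : Nat.card (MulAction.orbit (ConjAct (P : Subgroup G)) y) ≤ Nat.card P' := by
      refine Nat.card_le_card_of_injective (fun z => ⟨y⁻¹ * z.1, ?_⟩) ?_
      · obtain ⟨z, w, rfl⟩ := z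
        induction w using ConjAct.rec with
        | h v =>
          show y⁻¹ * (ConjAct.toConjAct v • y) ∈ P'
          rw [ConjAct.toConjAct_smul, show y⁻¹ * (v * y * v⁻¹) = ⁅y⁻¹, v⁆ by
            rw [commutatorElement_def]; group]
          exact Subgroup.commutator_mem_commutator (Subgroup.mem_top _) (Subgroup.mem_top _)
      · intro z₁ z₂ h
        exact Subtype.ext (mul_left_cancel (congrArg Subtype.val h))
    have horb := Subgroup.card_mul_index (MulAction.stabilizer (ConjAct (P : Subgroup G)) y)
    rw [MulAction.index_stabilizer, ← Nat.card_coe_set_eq] at horb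
    have hidx : P'.index ≤ p ^ 2 := by
      have h1 := Subgroup.card_mul_index P'
      have h2 : Nat.card (MulAction.stabilizer (ConjAct (P : Subgroup G)) y) ≤ p ^ 2 := by
        rw [ConjAct.stabilizer_eq_centralizer]
        exact hle
      refine le_of_mul_le_mul_left ?_ (Nat.card_pos (α := P'))
      rw [h1]
      have h3 : Nat.card (ConjAct (P : Subgroup G)) = Nat.card (P : Subgroup G) := rfl
      rw [← h3, ← horb, mul_comm]
      exact Nat.mul_le_mul hcls h2
    rw [← SylowAbelianizationSq.index_commutator_eq]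
    obtain ⟨j, hj⟩ := IsPGroup.iff_card.1 P.isPGroup'
    have hdvd : P'.index ∣ p ^ j := hj ▸ Subgroup.index_dvd_card P'
    obtain ⟨i, -, hi⟩ := (Nat.dvd_prime_pow hp).1 hdvd
    have hi2 : i ≤ 2 := (Nat.pow_le_pow_iff_right hp.one_lt).1 (hi ▸ hidx)
    by_contra hne
    have hi1 : i ≤ 1 := by
      rcases Nat.lt_or_ge i 2 with h | h
      · omega
      · exact absurd (show P'.index = p ^ 2 by rw [hi, show i = 2 by omega]) hne
    have hb := SylowAbelianizationSq.commutator_eq_bot_of_index P.isPGroup'
      (show P'.index ∣ p by rw [hi]; exact (Nat.pow_dvd_pow p hi1).trans (pow_one p).dvd)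
    rw [← hP'] at hb
    rw [hb, Subgroup.index_bot] at hidx hi
    have := Nat.le_of_dvd Nat.card_pos hP2
    rw [hi] at this
    exact absurd ((Nat.pow_le_pow_iff_right hp.one_lt).1 this) (by omega)

end Cfsg.Agent.S4587
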