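import Cfsg.Statements.S4591
import Mathlib
import Cfsg.Agent.Lib.RealDegree
import Cfsg.Agent.Lib.GlaubermanP
import Cfsg.Agent.Lib.CharInducedRep
import Cfsg.Agent.Lib.TransferTate
import Cfsg.Agent.Lib.PGroupsBasic

set_option autoImplicit false
set_option linter.all false
open Cfsg

namespace Cfsg.Agent.S4591

universe u

variable {G : Type u} [Group G] [Finite G] {p : ℕ} [Fact p.Prime]

open scoped commutatorElement
open Cfsg.Agent.CharBasic Cfsg.Agent.CharBasicOrth Cfsg.Agent.CharBasicDecomp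

/-- Elements killed by all characters of degree prime to `p` are killed by linear characters of
subgroups of index prime to `p`. -/
theorem lam_eq_one (H : Subgroup G) (hH : ¬ p ∣ H.index) {x : H}
    (hx : ∀ χ : Cfsg.IrrCharacter G, ¬ p ∣ Cfsg.charDegree (χ : G → ℂ) →
      (χ : G → ℂ) x = (χ : G → ℂ) 1) (lam : H →* ℂˣ) : lam x = 1 := by
  classical
  haveI : Fintype G := Fintype.ofFinite G
  haveI : Fintype H := Fintype.ofFinite H
  have ha := CharInduced.isCharacter_ind H (isCharacter_linear lam)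
  have h1 : Cfsg.indFun H (fun h => (lam h : ℂ)) 1 = (H.index : ℂ) := by
    rw [CharInduced.ind_one_apply]; simp
  obtain ⟨ψ, d, hd, hpd, hne⟩ := RealDegree.exists_constituent (p := p) ha h1 hH
  have hdeg : Cfsg.charDegree (ψ : G → ℂ) = d :=
    Nat.cast_injective ((CharAverage.irr_apply_one ψ).symm.trans hd)
  have hxψ := hx ψ (by rw [hdeg]; exact hpd)
  rw [CharInduced.inner_ind_left H _ (isClassFunction_of_isCharacter
    (isCharacter_of_isIrrCharacter ψ.2))] at hne
  obtain ⟨n, ρ, hi, he⟩ := ψ.2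
  have hρx : ρ (x : G) = 1 := by
    rw [← he, Representation.char_one, character_eq_finrank_iff] at hxψ
    exact hxψ
  have hmul : ∀ h : H, (ψ : G → ℂ) ((x * h : H) : G) = (ψ : G → ℂ) (h : G) := by
    intro h
    rw [← he, Subgroup.coe_mul, Representation.character, map_mul, hρx, one_mul]
    rfl
  set S : ℂ := ∑ h : H, (lam h : ℂ) * (starRingEnd ℂ) ((ψ : G → ℂ) h) with hS
  have hS0 : S ≠ 0 := by
    intro h0
    apply hne
    rw [Cfsg.classInner, ← hS, h0, mul_zero]
  have hshift : (lam x : ℂ) * S = S := by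
    rw [hS, Finset.mul_sum]
    refine Fintype.sum_equiv (Equiv.mulLeft x) _ _ fun h => ?_
    rw [Equiv.coe_mulLeft, hmul, map_mul, Units.val_mul, mul_assoc]
  exact Units.ext ((mul_eq_right₀ hS0).mp hshift)

/-- ... hence lie in the derived subgroup. -/
theorem mem_commutator_of_ker (H : Subgroup G) (hH : ¬ p ∣ H.index) {x : G} (hxH : x ∈ H)
    (hx : ∀ χ : Cfsg.IrrCharacter G, ¬ p ∣ Cfsg.charDegree (χ : G → ℂ) →
      (χ : G → ℂ) x = (χ : G → ℂ) 1) : x ∈ ⁅H, H⁆ := by
  classical
  have key : (⟨x, hxH⟩ : H) ∈ commutator H := by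
    by_contra hnot
    have h1 : Abelianization.of (⟨x, hxH⟩ : H) ≠ 1 := fun h =>
      hnot (by rwa [← Abelianization.ker_of H, MonoidHom.mem_ker])
    haveI : Finite (Abelianization H) :=
      Finite.of_surjective Abelianization.of QuotientGroup.mk_surjective
    haveI : NeZero (Monoid.exponent (Abelianization H)) := ⟨Monoid.exponent_ne_zero_of_finite⟩
    obtain ⟨φ, hφ⟩ :=
      CommGroup.exists_apply_ne_one_of_hasEnoughRootsOfUnity (Abelianization H) ℂ h1
    exact hφ (lam_eq_one H hH (x := ⟨x, hxH⟩) hx (φ.comp Abelianization.of))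
  have := Subgroup.mem_map_of_mem H.subtype key
  rwa [commutator_def, Subgroup.map_commutator, ← MonoidHom.range_eq_map, H.range_subtype] at this

theorem not_dvd_index_of_sylow_le (P : Sylow p G) {H : Subgroup G} (h : (P : Subgroup G) ≤ H) :
    ¬ p ∣ H.index :=
  fun hd => P.not_dvd_index (hd.trans (Subgroup.index_dvd_of_le h))

/-- `N` is killed by every character of degree prime to `p`. -/
theorem le_ker_of_inf_centralizer (P : Sylow p G) (N : Subgroup G) [N.Normal]
    (hN : N ⊓ Subgroup.centralizer ((P : Subgroup G) : Set G) = ⊥) (χ : Cfsg.IrrCharacter G)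
    (hχ : ¬ p ∣ Cfsg.charDegree (χ : G → ℂ)) :
    ∀ m ∈ N, (χ : G → ℂ) m = (χ : G → ℂ) 1 := by
  classical
  haveI : Fintype N := Fintype.ofFinite N
  refine RealDegree.le_ker_of_sum_ne_zero χ N fun h0 => ?_
  let act : MulAction (P : Subgroup G) N :=
    MulAction.compHom N ((MulAut.conjNormal (H := N)).comp (P : Subgroup G).subtype)
  have hsm : ∀ (u : (P : Subgroup G)) (x : N), ((u • x : N) : G) = (u : G) * x * (u : G)⁻¹ :=
    fun u x => MulAut.conjNormal_apply _ _
  have hfix : (Finset.univ.filter (· ∈ MulAction.fixedPoints (P : Subgroup G) N)) = {1} := by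
    ext x
    simp only [Finset.mem_filter, Finset.mem_univ, true_and, Finset.mem_singleton]
    constructor
    · intro hx
      refine Subtype.ext ?_
      have : (x : G) ∈ N ⊓ Subgroup.centralizer ((P : Subgroup G) : Set G) := by
        refine ⟨x.2, Subgroup.mem_centralizer_iff.mpr fun u hu => ?_⟩
        have h1 := congrArg Subtype.val (hx ⟨u, hu⟩)
        rw [hsm] at h1
        exact mul_inv_eq_iff_eq_mul.mp h1
      rwa [hN, Subgroup.mem_bot] at this
    · rintro rfl u
      apply Subtype.ext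
      rw [hsm]; simp
  have hinv : ∀ (u : (P : Subgroup G)) (x : N),
      (χ : G → ℂ) ((u • x : N) : G) = (χ : G → ℂ) (x : G) := by
    intro u x
    rw [hsm]
    exact isClassFunction_of_isCharacter (isCharacter_of_isIrrCharacter χ.2) (x : G) (u : G)
  have hsum := GlaubermanP.pDvd_sum_sub_fixed P.isPGroup' (fun x : N => (χ : G → ℂ) x)
    hinv (fun x => GlaubermanP.isIntegral_irr χ _)
  rw [hfix, Finset.sum_singleton, h0, OneMemClass.coe_one, CharAverage.irr_apply_one] at hsum
  have h2 : (p : ℤ) ∣ (-(Cfsg.charDegree (χ : G → ℂ) : ℤ)) :=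
    GlaubermanP.int_dvd_of_pDvd (by simpa using hsum)
  exact hχ (Int.natCast_dvd_natCast.mp (dvd_neg.mp h2))

theorem le_ker_of_le_sup (P : Sylow p G) (N M : Subgroup G) [N.Normal] [M.Normal]
    (hM : M ≤ N ⊔ ⁅(P : Subgroup G), (P : Subgroup G)⁆) (χ : Cfsg.IrrCharacter G)
    (hχ : ¬ p ∣ Cfsg.charDegree (χ : G → ℂ))
    (hNker : ∀ m ∈ N, (χ : G → ℂ) m = (χ : G → ℂ) 1) :
    ∀ m ∈ M, (χ : G → ℂ) m = (χ : G → ℂ) 1 := by
  obtain ⟨ψ, hψ⟩ := CharKernel.exists_quot_irr N χ hNker
  haveI : (M.map (QuotientGroup.mk' N)).Normal :=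
    Subgroup.Normal.map inferInstance _ (QuotientGroup.mk'_surjective N)
  have hdeg : ¬ p ∣ Cfsg.charDegree (ψ : G ⧸ N → ℂ) := by
    have : Cfsg.charDegree (χ : G → ℂ) = Cfsg.charDegree (ψ : G ⧸ N → ℂ) := by
      simp [Cfsg.charDegree, hψ 1]
    rwa [← this]
  have hle : M.map (QuotientGroup.mk' N) ≤
      ⁅(P : Subgroup G).map (QuotientGroup.mk' N), (P : Subgroup G).map (QuotientGroup.mk' N)⁆ := by
    refine (Subgroup.map_mono hM).trans ?_
    rw [Subgroup.map_sup, QuotientGroup.map_mk'_self, bot_sup_eq, Subgroup.map_commutator]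
  intro m hm
  have h := RealDegree.le_ker_of_le_commutator ψ hdeg _ _
    (P.isPGroup'.map (QuotientGroup.mk' N)) hle _ (Subgroup.mem_map_of_mem _ hm)
  rw [hψ m, hψ 1]
  exact h

/-- The group `⟨c⟩ ⊔ P` for `c` centralizing `P` has derived subgroup inside `P`. -/
theorem commutator_zpowers_sup_le {c : G} (P : Subgroup G)
    (hc : c ∈ Subgroup.centralizer (P : Set G)) :
    ⁅Subgroup.zpowers c ⊔ P, Subgroup.zpowers c ⊔ P⁆ ≤ P := by
  have hle : Subgroup.zpowers c ≤ Subgroup.normalizer (P : Set G) := by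
    rw [Subgroup.zpowers_le]
    exact Subgroup.centralizer_le_normalizer _ hc
  have hmem : ∀ a ∈ Subgroup.zpowers c ⊔ P, ∃ i : ℤ, ∃ u ∈ P, a = c ^ i * u := by
    intro a ha
    rw [← SetLike.mem_coe, Subgroup.coe_mul_of_left_le_normalizer_right _ _ hle] at ha
    obtain ⟨b, hb, u, hu, rfl⟩ := Set.mem_mul.mp ha
    obtain ⟨i, rfl⟩ := Subgroup.mem_zpowers_iff.mp hb
    exact ⟨i, u, hu, rfl⟩
  have hcomm : ∀ (i : ℤ), ∀ u ∈ P, c ^ i * u = u * c ^ i := fun i u hu =>
    ((show Commute c u from ((Subgroup.mem_centralizer_iff.mp hc) u hu).symm).zpow_left i).eq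
  rw [Subgroup.commutator_le]
  intro a ha b hb
  obtain ⟨i, u, hu, rfl⟩ := hmem a ha
  obtain ⟨j, v, hv, rfl⟩ := hmem b hb
  have key : ⁅c ^ i * u, c ^ j * v⁆ = u * v * u⁻¹ * v⁻¹ := by
    have h1 := hcomm i
    have h2 := hcomm j
    rw [commutatorElement_def, mul_inv_rev, mul_inv_rev]
    calc c ^ i * u * (c ^ j * v) * (u⁻¹ * (c ^ i)⁻¹) * (v⁻¹ * (c ^ j)⁻¹)
        = c ^ i * (u * c ^ j) * v * u⁻¹ * ((c ^ i)⁻¹ * v⁻¹) * (c ^ j)⁻¹ := by group
      _ = c ^ i * (c ^ j * u) * v * u⁻¹ * (v⁻¹ * (c ^ i)⁻¹) * (c ^ j)⁻¹ := by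
          rw [← h2 u hu]
          have h3 : (c ^ i)⁻¹ * v⁻¹ = v⁻¹ * (c ^ i)⁻¹ := by
            rw [← mul_inv_rev, ← mul_inv_rev, h1 v hv]
          rw [h3]
      _ = c ^ (i + j) * (u * v * u⁻¹ * v⁻¹) * (c ^ (i + j))⁻¹ := by group
      _ = u * v * u⁻¹ * v⁻¹ := by
          rw [hcomm (i + j) _ (P.mul_mem (P.mul_mem (P.mul_mem hu hv) (P.inv_mem hu))
            (P.inv_mem hv))]
          group
  rw [key]
  exact P.mul_mem (P.mul_mem (P.mul_mem hu hv) (P.inv_mem hu)) (P.inv_mem hv)

/-- Let G be a finite group, p a prime and P a Sylow p-subgroup, and let N be the largest normal subgroup of G in which P has trivial centralizer (N is normal with C_N(P) = 1 and contains every normal subgroup with that property). Then the intersection of the kernels of the irreducible characters of G of degree prime to p is the normal core in G of the subgroup N·P' (P' the derived subgroup of P). In particular, when G has no nontrivial normal subgroup of order prime to p, that intersection is the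 normal core of P'. -/
theorem result {G : Type*} [Group G] [Finite G] (p : ℕ) [Fact p.Prime] (P : Sylow p G) (N : Subgroup G) [N.Normal]
    (hN : N ⊓ Subgroup.centralizer ((P : Subgroup G) : Set G) = ⊥)
    (hmax : ∀ L : Subgroup G, L.Normal → L ⊓ Subgroup.centralizer ((P : Subgroup G) : Set G) = ⊥ → L ≤ N) :
    {g : G | ∀ χ : Cfsg.IrrCharacter G, ¬ p ∣ Cfsg.charDegree (χ : G → ℂ) → (χ : G → ℂ) g = (χ : G → ℂ) 1} =
      ((N ⊔ ⁅(P : Subgroup G), (P : Subgroup G)⁆).normalCore : Set G) := by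
  classical
  haveI hp : Fact p.Prime := inferInstance
  let K : Subgroup G := ⨅ χ : Cfsg.IrrCharacter G,
    ⨅ (_ : ¬ p ∣ Cfsg.charDegree (χ : G → ℂ)), CharKernel.irrKer χ
  have hmemK : ∀ g : G, g ∈ K ↔ ∀ χ : Cfsg.IrrCharacter G,
      ¬ p ∣ Cfsg.charDegree (χ : G → ℂ) → (χ : G → ℂ) g = (χ : G → ℂ) 1 := by
    intro g
    simp only [K, Subgroup.mem_iInf]
    rfl
  haveI hKn : K.Normal := by
    refine Subgroup.normal_iInf_normal fun χ => Subgroup.normal_iInf_normal fun _ => ?_
    exact CharKernel.irrKer_normal χ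
  suffices hKM : K = (N ⊔ ⁅(P : Subgroup G), (P : Subgroup G)⁆).normalCore by
    rw [← hKM]
    ext g
    exact (hmemK g).symm
  have hNK : N ≤ K := fun m hm =>
    (hmemK m).mpr fun χ hχ => le_ker_of_inf_centralizer P N hN χ hχ m hm
  refine le_antisymm ?_ ?_
  · -- the kernel lies in `N ⊔ P'`
    refine Subgroup.normal_le_normalCore.mpr ?_
    have hKP : K ⊓ (P : Subgroup G) ≤ ⁅(P : Subgroup G), (P : Subgroup G)⁆ := fun x hx =>
      mem_commutator_of_ker (P : Subgroup G) P.not_dvd_index hx.2 ((hmemK x).mp hx.1)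
    have hfr : ⁅(P : Subgroup G), (P : Subgroup G)⁆ ≤
        (frattini (P : Subgroup G)).map (P : Subgroup G).subtype := by
      have := Subgroup.map_mono (f := (P : Subgroup G).subtype)
        (PGroupsBasic.commutator_le_frattini P.isPGroup')
      rwa [commutator_def, Subgroup.map_commutator, ← MonoidHom.range_eq_map,
        Subgroup.range_subtype] at this
    obtain ⟨P0, L0, hL0n, hL0⟩ :=
      TransferTate.hasNormalPComplement_of_normal_inf_le_frattini P K (hKP.trans hfr)
    obtain ⟨a, ha⟩ := IsPGroup.iff_card.mp P0.isPGroup'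
    have hidx : L0.index = p ^ a := by rw [← ha]; exact hL0.symm.index_eq_card
    have hcard : ¬ p ∣ Nat.card L0 := by
      rw [← hL0.index_eq_card]
      exact P0.not_dvd_index
    -- elements of order prime to `p` lie in `L0`
    have hreg : ∀ x : K, ¬ p ∣ orderOf x → x ∈ L0 := by
      intro x hx
      rw [← QuotientGroup.eq_one_iff, ← orderOf_eq_one_iff]
      have h1 : orderOf (x : K ⧸ L0) ∣ orderOf x := orderOf_map_dvd (QuotientGroup.mk' L0) x
      have h2 : orderOf (x : K ⧸ L0) ∣ p ^ a := hidx ▸ orderOf_dvd_natCard (x : K ⧸ L0)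
      exact Nat.eq_one_of_dvd_coprimes
        (((hp.out.coprime_iff_not_dvd.mpr hx).symm).pow_right a) h1 h2
    let L : Subgroup G := L0.map K.subtype
    have hLord : ∀ y : K, y ∈ L0 → ¬ p ∣ orderOf y := fun y hy hd =>
      hcard (hd.trans (Subgroup.orderOf_dvd_natCard L0 hy))
    haveI hLn : L.Normal := by
      refine ⟨fun x hx g => ?_⟩
      obtain ⟨y, hy, rfl⟩ := hx
      refine ⟨⟨g * y * g⁻¹, hKn.conj_mem _ y.2 g⟩, hreg _ ?_, rfl⟩
      rw [← Subgroup.orderOf_coe]
      show ¬ p ∣ orderOf (MulAut.conj g (y : G))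
      rw [MulEquiv.orderOf_eq, Subgroup.orderOf_coe]
      exact hLord y hy
    have hLN : L ≤ N := by
      refine hmax L hLn ?_
      rw [Subgroup.eq_bot_iff_forall]
      intro c hc
      obtain ⟨hcL, hcC⟩ := hc
      obtain ⟨y, hy, rfl⟩ := hcL
      have hin : (K.subtype y) ∈ (P : Subgroup G) :=
        commutator_zpowers_sup_le (P : Subgroup G) hcC (mem_commutator_of_ker
          (Subgroup.zpowers (K.subtype y) ⊔ (P : Subgroup G))
          (not_dvd_index_of_sylow_le P le_sup_right)
          (Subgroup.mem_sup_left (Subgroup.mem_zpowers _)) ((hmemK _).mp y.2))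
      obtain ⟨k, hk⟩ := P.isPGroup' ⟨_, hin⟩
      have h1 : orderOf y ∣ p ^ k := by
        rw [← Subgroup.orderOf_coe, orderOf_dvd_iff_pow_eq_one]
        exact congrArg Subtype.val hk
      have h2 : orderOf y = 1 := Nat.eq_one_of_dvd_coprimes
        (((hp.out.coprime_iff_not_dvd.mpr (hLord y hy)).symm).pow_right k) dvd_rfl h1
      rw [orderOf_eq_one_iff.mp h2, map_one]
    -- `K = L (K ⊓ P)`
    have hKeq : K ≤ L ⊔ K ⊓ (P : Subgroup G) := by
      rw [← Subgroup.relIndex_eq_one]
      have hLK : L ≤ K := Subgroup.map_subtype_le L0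
      have d1 : (L ⊔ K ⊓ (P : Subgroup G)).relIndex K ∣ L.relIndex K :=
        Subgroup.relIndex_dvd_of_le_left K le_sup_left
      have d2 : (L ⊔ K ⊓ (P : Subgroup G)).relIndex K ∣ (K ⊓ (P : Subgroup G)).relIndex K :=
        Subgroup.relIndex_dvd_of_le_left K le_sup_right
      have e1 : L.relIndex K = p ^ a := by
        rw [← hidx]
        show (L.subgroupOf K).index = _
        rw [show L.subgroupOf K = L0 from Subgroup.comap_map_eq_self_of_injective
          K.subtype_injective L0]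
      have e2 : ¬ p ∣ (K ⊓ (P : Subgroup G)).relIndex K := by
        rw [Subgroup.inf_relIndex_left]
        have h3 : (P : Subgroup G).relIndex K = (P : Subgroup G).relIndex (K ⊔ (P : Subgroup G)) := by
          have m1 := Subgroup.relIndex_mul_relIndex (K ⊓ (P : Subgroup G)) K
            (K ⊔ (P : Subgroup G)) inf_le_left le_sup_left
          have m2 := Subgroup.relIndex_mul_relIndex (K ⊓ (P : Subgroup G)) (P : Subgroup G)
            (K ⊔ (P : Subgroup G)) inf_le_right le_sup_right
          rw [Subgroup.inf_relIndex_left, Subgroup.relIndex_sup_left] at m1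
          rw [Subgroup.inf_relIndex_right, ← m1, mul_comm] at m2
          exact (Nat.eq_of_mul_eq_mul_right
            (Nat.pos_of_ne_zero Subgroup.index_ne_zero_of_finite) m2).symm
        rw [h3]
        intro hd
        exact P.not_dvd_index (hd.trans (Dvd.intro _
          (Subgroup.relIndex_mul_index (le_sup_right : (P : Subgroup G) ≤ K ⊔ (P : Subgroup G)))))
      exact Nat.eq_one_of_dvd_coprimes
        (((hp.out.coprime_iff_not_dvd.mpr e2).symm).pow_right a) d2 (e1 ▸ d1)
    exact hKeq.trans (sup_le_sup hLN hKP)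
  · intro m hm
    refine (hmemK m).mpr fun χ hχ => ?_
    exact le_ker_of_le_sup P N _ (Subgroup.normalCore_le _) χ hχ
      (fun x hx => le_ker_of_inf_centralizer P N hN χ hχ x hx) m hm

end Cfsg.Agent.S4591
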